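import Mathlib

/-! Helper9: schemes of finite type over ℤ: closed points have finite residue fields; finiteness of points of bounded degree (S4886). -/

namespace Groth.Agent.H9.FTZ
open AlgebraicGeometry CategoryTheory

universe u

section alg

lemma finite_of_field_finite_int (K : Type*) [Field K] [Module.Finite ℤ K] : Finite K := by
  obtain ⟨p, hp⟩ := CharP.exists K
  rcases Nat.eq_zero_or_pos p with rfl | hpos
  · exfalso
    have : CharZero K := CharP.charP_to_charZero K
    have hinj : Function.Injective (algebraMap ℤ K) := by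
      intro a b h
      exact Int.cast_injective h
    have : Algebra.IsIntegral ℤ K := Algebra.IsIntegral.of_finite ℤ K
    exact Int.not_isField (isField_of_isIntegral_of_isField hinj (Field.toIsField K))
  · have hprime : p.Prime := (CharP.char_is_prime_or_zero K p).resolve_right hpos.ne'
    have : Fact p.Prime := ⟨hprime⟩
    let _ : Algebra (ZMod p) K := ZMod.algebra K p
    have : Module.Finite (ZMod p) K := Module.Finite.of_restrictScalars_finite ℤ (ZMod p) K
    exact Module.finite_of_finite (ZMod p)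

instance isJacobsonRing_int : IsJacobsonRing ℤ := by
  rw [isJacobsonRing_iff_prime_eq]
  intro P hP
  by_cases h0 : P = ⊥
  · subst h0
    rw [eq_bot_iff]
    intro x hx
    rw [Ideal.mem_jacobson_bot] at hx
    have h1 := hx x
    rw [Int.isUnit_iff] at h1
    have hx0 : x = 0 := by
      rcases h1 with h1 | h1
      · have : x * x = 0 := by linarith
        exact mul_self_eq_zero.1 this
      · nlinarith [mul_self_nonneg x]
    rw [hx0]; exact Ideal.zero_mem _
  · have : P.IsMaximal := IsPrime.to_maximal_ideal h0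
    exact Ideal.jacobson_eq_self_of_isMaximal

lemma finite_quot_of_finiteType (A : Type*) [CommRing A] [Algebra.FiniteType ℤ A] (m : Ideal A)
    [m.IsMaximal] : Finite (A ⧸ m) := by
  let _ : Field (A ⧸ m) := Ideal.Quotient.field m
  have : Algebra.FiniteType ℤ (A ⧸ m) :=
    Algebra.FiniteType.of_surjective (Ideal.Quotient.mkₐ ℤ m) Ideal.Quotient.mk_surjective
  have : Module.Finite ℤ (A ⧸ m) := finite_of_finite_type_of_isJacobsonRing ℤ (A ⧸ m)
  exact finite_of_field_finite_int (A ⧸ m)

lemma finite_ringHom (A F : Type*) [CommRing A] [Algebra.FiniteType ℤ A] [CommRing F] [Finite F] :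
    Finite (A →+* F) := by
  obtain ⟨s, hs⟩ := (Algebra.FiniteType.out : (⊤ : Subalgebra ℤ A).FG)
  let Φ : (A →+* F) → (s → F) := fun φ a => φ a
  have hΦ : Function.Injective Φ := by
    intro φ φ' h
    have : φ.toIntAlgHom = φ'.toIntAlgHom := by
      apply AlgHom.ext_of_adjoin_eq_top hs
      intro x hx
      exact congrFun h ⟨x, hx⟩
    ext a
    exact congrArg (fun g : A →ₐ[ℤ] F => g a) this
  exact Finite.of_injective Φ hΦ

end alg

section scheme
variable {Y : Scheme.{u}} {U : Y.Opens}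

/-- kernel of evaluation -/
noncomputable def kerEv (y : Y) (hy : y ∈ U) : Ideal Γ(Y, U) :=
  RingHom.ker (Y.evaluation U y hy).hom

lemma mem_kerEv {y : Y} (hy : y ∈ U) (f : Γ(Y, U)) :
    f ∈ kerEv y hy ↔ y ∉ Y.basicOpen f := by
  rw [kerEv, RingHom.mem_ker]
  exact Y.evaluation_eq_zero_iff_notMem_basicOpen y hy f

instance kerEv_isPrime (y : Y) (hy : y ∈ U) : (kerEv y hy).IsPrime := RingHom.ker_isPrime _

lemma kerEv_congr {y z : Y} (h : y = z) (hy : y ∈ U) (hz : z ∈ U) : kerEv y hy = kerEv z hz := by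
  subst h; rfl

variable (hU : IsAffineOpen U)
include hU

lemma kerEv_fromSpec (q : PrimeSpectrum Γ(Y, U)) (h : hU.fromSpec q ∈ U) :
    kerEv (hU.fromSpec q) h = q.asIdeal := by
  ext f
  rw [mem_kerEv]
  have h1 := hU.fromSpec_preimage_basicOpen f
  have h2 : hU.fromSpec q ∈ Y.basicOpen f ↔ q ∈ PrimeSpectrum.basicOpen f := by
    rw [← h1]; rfl
  rw [h2, PrimeSpectrum.mem_basicOpen, not_not]

lemma kerEv_eq (y : Y) (hy : y ∈ U) : kerEv y hy = (hU.primeIdealOf ⟨y, hy⟩).asIdeal := by
  have h1 := hU.fromSpec_primeIdealOf ⟨y, hy⟩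
  have h2 : hU.fromSpec (hU.primeIdealOf ⟨y, hy⟩) ∈ U := by rw [h1]; exact hy
  rw [← kerEv_fromSpec hU _ h2]
  exact kerEv_congr h1.symm _ _

lemma eq_of_kerEv_eq {y z : Y} (hy : y ∈ U) (hz : z ∈ U) (h : kerEv y hy = kerEv z hz) :
    y = z := by
  rw [kerEv_eq hU, kerEv_eq hU] at h
  have : hU.primeIdealOf ⟨y, hy⟩ = hU.primeIdealOf ⟨z, hz⟩ := PrimeSpectrum.ext h
  have h1 := hU.fromSpec_primeIdealOf ⟨y, hy⟩
  have h2 := hU.fromSpec_primeIdealOf ⟨z, hz⟩
  rw [this] at h1
  exact h1.symm.trans h2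

omit hU in
lemma kerEv_le_of_specializes {y z : Y} (hy : y ∈ U) (hz : z ∈ U) (h : y ⤳ z) :
    kerEv y hy ≤ kerEv z hz := by
  intro f hf
  rw [mem_kerEv] at hf ⊢
  intro hzf
  exact hf (h.mem_open (Y.basicOpen f).isOpen hzf)

lemma eq_of_specializes_of_isMaximal {y z : Y} (hy : y ∈ U) (hz : z ∈ U)
    (hmax : (kerEv y hy).IsMaximal) (h : y ⤳ z) : z = y := by
  have hle := kerEv_le_of_specializes hy hz h
  have : kerEv y hy = kerEv z hz := hmax.eq_of_le (Ideal.IsPrime.ne_top inferInstance) hle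
  exact (eq_of_kerEv_eq hU hy hz this).symm

lemma isMaximal_of_isClosed {y : Y} (hy : y ∈ U) (hcl : IsClosed ({y} : Set Y)) :
    (kerEv y hy).IsMaximal := by
  obtain ⟨m, hm, hle⟩ := Ideal.exists_le_maximal (kerEv y hy) (Ideal.IsPrime.ne_top inferInstance)
  let q : PrimeSpectrum Γ(Y, U) := ⟨m, hm.isPrime⟩
  have h1 : hU.primeIdealOf ⟨y, hy⟩ ⤳ q := by
    rw [← PrimeSpectrum.le_iff_specializes]
    change (hU.primeIdealOf ⟨y, hy⟩).asIdeal ≤ m
    rw [← kerEv_eq hU]; exact hle
  have h2 : hU.fromSpec (hU.primeIdealOf ⟨y, hy⟩) ⤳ hU.fromSpec q :=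
    h1.map hU.fromSpec.continuous
  rw [hU.fromSpec_primeIdealOf] at h2
  have h3 : hU.fromSpec q = y := h2.mem_closed hcl (Set.mem_singleton y)
  have h4 : hU.fromSpec q ∈ U := h3 ▸ hy
  have h5 : kerEv (hU.fromSpec q) h4 = q.asIdeal := kerEv_fromSpec hU q h4
  have : kerEv y hy = m := (kerEv_congr h3.symm hy h4).trans h5
  rw [this]; exact hm

lemma finite_residueField [Algebra.FiniteType ℤ Γ(Y, U)] {y : Y} (hy : y ∈ U)
    (hmax : (kerEv y hy).IsMaximal) : Finite (Y.residueField y) := by
  have hfin : Finite (Γ(Y, U) ⧸ kerEv y hy) := finite_quot_of_finiteType _ _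
  change Finite (Γ(Y, U) ⧸ RingHom.ker (Y.evaluation U y hy).hom) at hfin
  have hsurj : Function.Surjective (Y.evaluation U y hy).hom := by
    intro x
    obtain ⟨t, rfl⟩ := Y.residue_surjective y x
    let _ : Algebra Γ(Y, U) (Y.presheaf.stalk y) :=
      TopCat.Presheaf.algebra_section_stalk Y.presheaf (⟨y, hy⟩ : U)
    have hloc : IsLocalization.AtPrime (Y.presheaf.stalk y)
      (hU.primeIdealOf ⟨y, hy⟩).asIdeal := hU.isLocalization_stalk ⟨y, hy⟩
    obtain ⟨⟨a, s⟩, hts⟩ := IsLocalization.surj (hU.primeIdealOf ⟨y, hy⟩).asIdeal.primeCompl t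
    have hs : (s : Γ(Y, U)) ∉ kerEv y hy := by rw [kerEv_eq hU]; exact s.2
    obtain ⟨s', i, hi, hsi⟩ := hmax.exists_inv hs
    refine ⟨a * s', ?_⟩
    have h1 : (Y.evaluation U y hy).hom i = 0 := hi
    have h2 : (Y.evaluation U y hy).hom s' * (Y.evaluation U y hy).hom s = 1 := by
      have := congrArg (Y.evaluation U y hy).hom hsi
      rwa [map_add, map_mul, h1, add_zero, map_one] at this
    have h3 : (Y.evaluation U y hy).hom a = Y.residue y t * (Y.evaluation U y hy).hom s := by
      have := congrArg (Y.residue y).hom hts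
      rw [map_mul] at this
      exact this.symm
    rw [map_mul, h3, mul_assoc, mul_comm ((Y.evaluation U y hy).hom ↑s), h2, mul_one]
  have hsurj' : Function.Surjective (RingHom.kerLift (Y.evaluation U y hy).hom) := by
    intro x
    obtain ⟨a, ha⟩ := hsurj x
    exact ⟨Ideal.Quotient.mk _ a, ha⟩
  exact Finite.of_surjective _ hsurj'

omit hU in
lemma isMaximal_of_finite {y : Y} (hy : y ∈ U) [Finite (Y.residueField y)] :
    (kerEv y hy).IsMaximal := by
  have hinj : Function.Injective (RingHom.kerLift (Y.evaluation U y hy).hom) :=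
    RingHom.kerLift_injective _
  have : Finite (Γ(Y, U) ⧸ RingHom.ker (Y.evaluation U y hy).hom) := Finite.of_injective _ hinj
  change Finite (Γ(Y, U) ⧸ kerEv y hy) at this
  have : IsDomain (Γ(Y, U) ⧸ kerEv y hy) := Ideal.Quotient.isDomain _
  exact Ideal.Quotient.maximal_of_isField _ (Finite.isField_of_domain _)

end scheme

section main
variable (Y : Scheme.{u})
    [LocallyOfFiniteType (Limits.IsTerminal.from specULiftZIsTerminal Y)]

include Y in
lemma finiteType_int {U : Y.Opens} (hU : IsAffineOpen U) : Algebra.FiniteType ℤ Γ(Y, U) := by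
  let f := Limits.IsTerminal.from specULiftZIsTerminal Y
  have h1 : (f.appLE ⊤ U le_top).hom.FiniteType :=
    LocallyOfFiniteType.finiteType_appLE f (isAffineOpen_top _) hU le_top
  set B := Γ(Spec (CommRingCat.of (ULift.{u} ℤ)), ⊤) with hB
  have hsurj : Function.Surjective (Int.castRingHom B) := by
    intro b
    let e := Scheme.ΓSpecIso (CommRingCat.of (ULift.{u} ℤ))
    refine ⟨(e.hom.hom b).down, ?_⟩
    have h2 : e.hom.hom ((Int.castRingHom B) (e.hom.hom b).down) = e.hom.hom b := by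
      rw [eq_intCast (Int.castRingHom ↑B), map_intCast]
      rfl
    have h3 : Function.Injective e.hom.hom := by
      intro x y hxy
      have := congrArg e.inv.hom hxy
      simpa using this
    exact h3 h2
  have h4 : (Int.castRingHom Γ(Y, U)) = (f.appLE ⊤ U le_top).hom.comp (Int.castRingHom B) :=
    RingHom.ext_int _ _
  have h5 : (Int.castRingHom Γ(Y, U)).FiniteType := by
    rw [h4]
    exact h1.comp (RingHom.FiniteType.of_surjective _ hsurj)
  have h6 : (Int.castRingHom Γ(Y, U)).toAlgebra = Ring.toIntAlgebra _ := Subsingleton.elim _ _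
  rw [RingHom.FiniteType, h6] at h5
  exact h5

theorem part1 (y : Y) : IsClosed ({y} : Set Y) ↔ Finite ↑(Y.residueField y) := by
  obtain ⟨_, ⟨U, hU, rfl⟩, hyU, -⟩ :=
    Y.isBasis_affineOpens.exists_subset_of_mem_open (Set.mem_univ y) isOpen_univ
  constructor
  · intro hcl
    have := finiteType_int Y hU
    exact finite_residueField hU hyU (isMaximal_of_isClosed hU hyU hcl)
  · intro hfin
    rw [← closure_eq_iff_isClosed]
    apply Set.Subset.antisymm _ subset_closure
    intro z hz
    have hspec : y ⤳ z := specializes_iff_mem_closure.2 hz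
    obtain ⟨_, ⟨V, hV, rfl⟩, hzV, -⟩ :=
      Y.isBasis_affineOpens.exists_subset_of_mem_open (Set.mem_univ z) isOpen_univ
    have hyV : y ∈ V := hspec.mem_open V.isOpen hzV
    exact eq_of_specializes_of_isMaximal hV hyV hzV (isMaximal_of_finite hyV) hspec

theorem part2_affine {U : Y.Opens} (hU : IsAffineOpen U) (p d : ℕ) [Fact p.Prime] :
    ({y : Y | Nonempty (↑(Y.residueField y) →+* GaloisField p d)} ∩ (U : Set Y)).Finite := by
  have := finiteType_int Y hU
  have hF : Finite (Γ(Y, U) →+* GaloisField p d) := finite_ringHom _ _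
  rw [← Set.finite_coe_iff]
  let g : ↥({y : Y | Nonempty (↑(Y.residueField y) →+* GaloisField p d)} ∩ (U : Set Y)) →
      (Γ(Y, U) →+* GaloisField p d) := fun y =>
    (Classical.choice y.2.1).comp (Y.evaluation U y.1 y.2.2).hom
  have hg : Function.Injective g := by
    intro y z hyz
    apply Subtype.ext
    apply eq_of_kerEv_eq hU y.2.2 z.2.2
    have hker : ∀ w : ↥({y : Y | Nonempty (↑(Y.residueField y) →+* GaloisField p d)} ∩
        (U : Set Y)), RingHom.ker (g w) = kerEv w.1 w.2.2 := by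
      intro w
      ext a
      rw [RingHom.mem_ker]
      change (Classical.choice w.2.1) ((Y.evaluation U w.1 w.2.2).hom a) = 0 ↔ _
      rw [map_eq_zero_iff _ (RingHom.injective (Classical.choice w.2.1))]
      rfl
    rw [← hker y, ← hker z, hyz]
  exact Finite.of_injective g hg

theorem main [CompactSpace Y] :
    (∀ y : Y, IsClosed ({y} : Set Y) ↔ Finite ↑(Y.residueField y)) ∧
    ∀ (p d : ℕ) [Fact p.Prime], 0 < d →
      {y : Y | Nonempty (↑(Y.residueField y) →+* GaloisField p d)}.Finite := by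
  refine ⟨part1 Y, ?_⟩
  intro p d _ _
  have hcover : (Set.univ : Set Y) ⊆ ⋃ V : Y.affineOpens, ((V : Y.Opens) : Set Y) := by
    intro y _
    obtain ⟨_, ⟨U, hU, rfl⟩, hyU, -⟩ :=
      Y.isBasis_affineOpens.exists_subset_of_mem_open (Set.mem_univ y) isOpen_univ
    exact Set.mem_iUnion.2 ⟨⟨U, hU⟩, hyU⟩
  obtain ⟨t, ht⟩ := isCompact_univ.elim_finite_subcover
    (fun V : Y.affineOpens => ((V : Y.Opens) : Set Y)) (fun V => V.1.isOpen) hcover
  refine Set.Finite.subset (Set.Finite.biUnion t.finite_toSet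
    (fun V _ => part2_affine Y V.2 p d)) ?_
  intro y hy
  obtain ⟨V, hVt, hyV⟩ := Set.mem_iUnion₂.1 (ht (Set.mem_univ y))
  exact Set.mem_iUnion₂.2 ⟨V, hVt, hy, hyV⟩

end main

end Groth.Agent.H9.FTZ
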