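import Mathlib
import Groth.Prelude.Def_BlowUp2

/-! Helper9: blow-ups — commutative algebra of the affine blow-up algebra A[I/a] (nonzerodivisor, I·A[I/a]=(a), universal property). -/

set_option linter.style.haveILetI false
set_option linter.unusedSectionVars false
set_option linter.unusedVariables false

universe u
open CategoryTheory

namespace Groth.Agent.H9.BLA

section CA
variable {A : Type u} [CommRing A] (I : Ideal A) (a : A)

/-- the fraction `x / a` in `A_a`. -/
noncomputable abbrev frac (x : A) : Localization.Away a :=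
  IsLocalization.mk' (Localization.Away a) x (⟨a, Submonoid.mem_powers a⟩ : Submonoid.powers a)

theorem frac_mem {x : A} (hx : x ∈ I) : frac a x ∈ BlowUp.affineAlgebra A I a :=
  Algebra.subset_adjoin ⟨x, hx, rfl⟩

theorem frac_mul_a (x : A) : frac a x * algebraMap A (Localization.Away a) a =
    algebraMap A (Localization.Away a) x :=
  IsLocalization.mk'_spec (Localization.Away a) x (⟨a, Submonoid.mem_powers a⟩ : Submonoid.powers a)

theorem isUnit_a : IsUnit (algebraMap A (Localization.Away a) a) :=
  IsLocalization.Away.algebraMap_isUnit a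

/-- `a` is a nonzerodivisor of `A[I/a]`. -/
theorem algebraMap_a_mem_nonZeroDivisors :
    algebraMap A (BlowUp.affineAlgebra A I a) a ∈ nonZeroDivisors (BlowUp.affineAlgebra A I a) := by
  rw [mem_nonZeroDivisors_iff_right]
  intro y hy
  apply Subtype.ext
  have h := congrArg Subtype.val hy
  simp only [MulMemClass.coe_mul, ZeroMemClass.coe_zero] at h
  have h2 : (y : Localization.Away a) * algebraMap A (Localization.Away a) a = 0 := h
  exact (isUnit_a a).mul_left_eq_zero.mp h2

/-- the element `x / a` of `A[I/a]`. -/
noncomputable def fracB {x : A} (hx : x ∈ I) : BlowUp.affineAlgebra A I a := ⟨frac a x, frac_mem I a hx⟩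

theorem fracB_mul_a {x : A} (hx : x ∈ I) :
    fracB I a hx * algebraMap A (BlowUp.affineAlgebra A I a) a =
      algebraMap A (BlowUp.affineAlgebra A I a) x := by
  apply Subtype.ext
  exact frac_mul_a a x

/-- `I · A[I/a] = a · A[I/a]`. -/
theorem map_eq_span (ha : a ∈ I) :
    I.map (algebraMap A (BlowUp.affineAlgebra A I a)) =
      Ideal.span {algebraMap A (BlowUp.affineAlgebra A I a) a} := by
  refine le_antisymm ?_ ?_
  · rw [Ideal.map_le_iff_le_comap]
    intro x hx
    rw [Ideal.mem_comap, Ideal.mem_span_singleton']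
    exact ⟨fracB I a hx, fracB_mul_a I a hx⟩
  · rw [Ideal.span_le, Set.singleton_subset_iff]
    exact Ideal.mem_map_of_mem _ ha

end CA


section UP
variable {A : Type u} [CommRing A] (I : Ideal A) (a : A)
variable {C : Type*} [CommRing C] (φ : A →+* C)

/-- the induced map on localizations. -/
noncomputable def locMap : Localization.Away a →+* Localization.Away (φ a) :=
  IsLocalization.Away.map (Localization.Away a) (Localization.Away (φ a)) φ a

theorem locMap_algebraMap (r : A) :
    locMap a φ (algebraMap A (Localization.Away a) r) =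
      algebraMap C (Localization.Away (φ a)) (φ r) := by
  unfold locMap IsLocalization.Away.map
  rw [IsLocalization.map_eq]

theorem locMap_frac (x : A) (c : C) (hc : φ x = c * φ a) :
    locMap a φ (frac a x) = algebraMap C (Localization.Away (φ a)) c := by
  have h1 : locMap a φ (frac a x) * locMap a φ (algebraMap A (Localization.Away a) a) =
      locMap a φ (algebraMap A (Localization.Away a) x) := by
    rw [← map_mul, frac_mul_a]
  rw [locMap_algebraMap, locMap_algebraMap, hc, map_mul] at h1
  exact (IsLocalization.Away.algebraMap_isUnit (S := Localization.Away (φ a)) (φ a)).mul_left_injective h1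

theorem locMap_mem_range (hI : I.map φ ≤ Ideal.span {φ a}) (y : Localization.Away a)
    (hy : y ∈ BlowUp.affineAlgebra A I a) :
    locMap a φ y ∈ (algebraMap C (Localization.Away (φ a))).range := by
  unfold BlowUp.affineAlgebra at hy
  induction hy using Algebra.adjoin_induction with
  | mem y hy =>
    obtain ⟨x, hx, rfl⟩ := hy
    have hx' : φ x ∈ Ideal.span {φ a} := hI (Ideal.mem_map_of_mem _ hx)
    obtain ⟨c, hc⟩ := Ideal.mem_span_singleton'.mp hx'
    exact ⟨c, (locMap_frac a φ x c hc.symm).symm⟩
  | algebraMap r => exact ⟨φ r, (locMap_algebraMap a φ r).symm⟩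
  | add x y _ _ hx hy => rw [map_add]; exact Subring.add_mem _ hx hy
  | mul x y _ _ hx hy => rw [map_mul]; exact Subring.mul_mem _ hx hy

theorem algebraMap_injective_of_nzd (hφa : φ a ∈ nonZeroDivisors C) :
    Function.Injective (algebraMap C (Localization.Away (φ a))) :=
  IsLocalization.injective (Localization.Away (φ a))
    (Submonoid.powers_le.mpr hφa)

/-- the universal property of the affine blow-up algebra (existence). -/
theorem exists_lift (hφa : φ a ∈ nonZeroDivisors C) (hI : I.map φ ≤ Ideal.span {φ a}) :
    ∃ ψ : BlowUp.affineAlgebra A I a →+* C,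
      ψ.comp (algebraMap A (BlowUp.affineAlgebra A I a)) = φ := by
  have hinj := algebraMap_injective_of_nzd a φ hφa
  let ι := algebraMap C (Localization.Away (φ a))
  let e : C ≃+* ι.range := RingEquiv.ofBijective ι.rangeRestrict
    ⟨fun x y h => hinj (congrArg Subtype.val h), ι.rangeRestrict_surjective⟩
  let ρ : BlowUp.affineAlgebra A I a →+* ι.range :=
    ((locMap a φ).comp (BlowUp.affineAlgebra A I a).val.toRingHom).codRestrict ι.range
      (fun y => locMap_mem_range I a φ hI y.1 y.2)
  refine ⟨e.symm.toRingHom.comp ρ, ?_⟩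
  ext r
  change e.symm (ρ (algebraMap A _ r)) = φ r
  rw [RingEquiv.symm_apply_eq]
  apply Subtype.ext
  change locMap a φ (algebraMap A (Localization.Away a) r) = ι (φ r)
  exact locMap_algebraMap a φ r

/-- the universal property of the affine blow-up algebra (uniqueness). -/
theorem lift_unique (hφa : φ a ∈ nonZeroDivisors C)
    (ψ₁ ψ₂ : BlowUp.affineAlgebra A I a →+* C)
    (h₁ : ψ₁.comp (algebraMap A (BlowUp.affineAlgebra A I a)) = φ)
    (h₂ : ψ₂.comp (algebraMap A (BlowUp.affineAlgebra A I a)) = φ) : ψ₁ = ψ₂ := by
  ext ⟨y, hy⟩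
  unfold BlowUp.affineAlgebra at hy
  induction hy using Algebra.adjoin_induction with
  | mem y hy =>
    obtain ⟨x, hx, rfl⟩ := hy
    have e1 : ψ₁ (fracB I a hx) * φ a = φ x := by
      rw [← h₁]; change _ * ψ₁ _ = ψ₁ _; rw [← map_mul, fracB_mul_a]
    have e2 : ψ₂ (fracB I a hx) * φ a = φ x := by
      rw [← h₂]; change _ * ψ₂ _ = ψ₂ _; rw [← map_mul, fracB_mul_a]
    exact (mul_cancel_right_mem_nonZeroDivisors hφa).mp (e1.trans e2.symm)
  | algebraMap r =>
    have e1 : ψ₁ (algebraMap A (BlowUp.affineAlgebra A I a) r) = φ r := by rw [← h₁]; rfl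
    have e2 : ψ₂ (algebraMap A (BlowUp.affineAlgebra A I a) r) = φ r := by rw [← h₂]; rfl
    exact e1.trans e2.symm
  | add x y hx hy hx' hy' =>
    have : (⟨x + y, Subalgebra.add_mem _ hx hy⟩ : BlowUp.affineAlgebra A I a) =
      ⟨x, hx⟩ + ⟨y, hy⟩ := rfl
    rw [this, map_add, map_add, hx', hy']
  | mul x y hx hy hx' hy' =>
    have : (⟨x * y, Subalgebra.mul_mem _ hx hy⟩ : BlowUp.affineAlgebra A I a) =
      ⟨x, hx⟩ * ⟨y, hy⟩ := rfl
    rw [this, map_mul, map_mul, hx', hy']

end UP


section Pow
variable {A : Type u} [CommRing A] (I : Ideal A) (a : A)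

/-- characterisation of fractions: `y = c / aⁿ` iff `y * aⁿ = c`. -/
theorem eq_of_mul_pow_eq {y z : Localization.Away a} (n : ℕ)
    (h : y * algebraMap A (Localization.Away a) a ^ n = z * algebraMap A (Localization.Away a) a ^ n) :
    y = z :=
  ((isUnit_a a).pow n).mul_left_injective h

/-- `c / aⁿ ∈ A[I/a]` for `c ∈ Iⁿ`. -/
theorem mem_of_mul_pow_eq (n : ℕ) (c : A) (hc : c ∈ I ^ n) (y : Localization.Away a)
    (hy : y * algebraMap A (Localization.Away a) a ^ n = algebraMap A (Localization.Away a) c) :
    y ∈ BlowUp.affineAlgebra A I a := by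
  induction n generalizing c y with
  | zero =>
    rw [pow_zero, mul_one] at hy
    rw [hy]
    exact Subalgebra.algebraMap_mem _ c
  | succ n ih =>
    rw [pow_succ] at hc
    induction hc using Submodule.mul_induction_on' generalizing y with
    | mem_mul_mem m hm x hx =>
      obtain ⟨u, hu⟩ := (isUnit_a a).pow n
      have hm' : (algebraMap A (Localization.Away a) m * ↑u⁻¹) ∈ BlowUp.affineAlgebra A I a := by
        refine ih m hm _ ?_
        rw [← hu, mul_assoc, Units.inv_mul, mul_one]
      have : y = (algebraMap A (Localization.Away a) m * ↑u⁻¹) * frac a x := by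
        refine eq_of_mul_pow_eq a (n + 1) ?_
        rw [hy, pow_succ, ← hu]
        have := frac_mul_a a x
        calc algebraMap A (Localization.Away a) (m * x)
            = algebraMap A (Localization.Away a) m * algebraMap A (Localization.Away a) x := map_mul _ _ _
          _ = algebraMap A (Localization.Away a) m * (↑u⁻¹ * ↑u) *
              (frac a x * algebraMap A (Localization.Away a) a) := by
                rw [Units.inv_mul, mul_one, this]
          _ = _ := by ring
      rw [this]
      exact Subalgebra.mul_mem _ hm' (frac_mem I a hx)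
    | add x _ y' _ hx hy' =>
      obtain ⟨u, hu⟩ := (isUnit_a a).pow (n + 1)
      have h1 := hx (algebraMap A (Localization.Away a) x * ↑u⁻¹)
        (by rw [← hu, mul_assoc, Units.inv_mul, mul_one])
      have h2 := hy' (algebraMap A (Localization.Away a) y' * ↑u⁻¹)
        (by rw [← hu, mul_assoc, Units.inv_mul, mul_one])
      have : y = algebraMap A (Localization.Away a) x * ↑u⁻¹ +
          algebraMap A (Localization.Away a) y' * ↑u⁻¹ := by
        refine eq_of_mul_pow_eq a (n + 1) ?_
        rw [hy, ← hu, add_mul, mul_assoc, mul_assoc, Units.inv_mul, mul_one, mul_one, map_add]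
      rw [this]
      exact Subalgebra.add_mem _ h1 h2

end Pow

end Groth.Agent.H9.BLA
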