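import Mathlib

/-! Helper9: blow-ups — the Rees ring ⨁ Iⁿ as a graded ring. -/

set_option linter.style.haveILetI false
set_option linter.unusedSectionVars false
set_option linter.unusedVariables false

universe u
open CategoryTheory DirectSum

namespace Groth.Agent.H9.BLA

section Rees
variable {A : Type u} [CommRing A] (I : Ideal A)

instance gradedMonoid_pow : SetLike.GradedMonoid (fun n : ℕ => I ^ n) where
  one_mem := by simp
  mul_mem i j x y hx hy := by rw [pow_add]; exact Ideal.mul_mem_mul hx hy

/-- the Rees ring `⨁ Iⁿ`. -/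
abbrev Rees : Type u := ⨁ n : ℕ, ↥(I ^ n)

/-- the canonical grading. -/
def grading (n : ℕ) : AddSubgroup (Rees I) := (DirectSum.of (fun n : ℕ => ↥(I ^ n)) n).range

theorem of_mem_grading (n : ℕ) (x : ↥(I ^ n)) :
    DirectSum.of (fun n : ℕ => ↥(I ^ n)) n x ∈ grading I n := ⟨x, rfl⟩

instance gradedMonoid_grading : SetLike.GradedMonoid (grading I) where
  one_mem := by
    change (1 : Rees I) ∈ (DirectSum.of (fun n : ℕ => ↥(I ^ n)) 0).range
    rw [DirectSum.one_def]
    exact ⟨_, rfl⟩
  mul_mem i j x y hx hy := by
    obtain ⟨x', rfl⟩ := hx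
    obtain ⟨y', rfl⟩ := hy
    rw [DirectSum.of_mul_of]
    exact ⟨_, rfl⟩

/-- the decomposition map. -/
noncomputable def decomp : Rees I →+ ⨁ n, grading I n :=
  DirectSum.toAddMonoid (fun n =>
    (DirectSum.of (fun n => grading I n) n).comp
      ((DirectSum.of (fun n : ℕ => ↥(I ^ n)) n).rangeRestrict))

theorem decomp_of (n : ℕ) (x : ↥(I ^ n)) :
    decomp I (DirectSum.of (fun n : ℕ => ↥(I ^ n)) n x) =
      DirectSum.of (fun n => grading I n) n ⟨_, of_mem_grading I n x⟩ := by
  unfold decomp
  rw [DirectSum.toAddMonoid_of]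
  rfl

noncomputable instance decomposition_grading : DirectSum.Decomposition (grading I) :=
  DirectSum.Decomposition.ofAddHom (grading I) (decomp I)
    (by
      apply DirectSum.addHom_ext
      intro n x
      simp only [AddMonoidHom.coe_comp, Function.comp_apply, AddMonoidHom.id_apply]
      rw [decomp_of, DirectSum.coeAddMonoidHom_of])
    (by
      apply DirectSum.addHom_ext
      rintro n ⟨_, x, rfl⟩
      simp only [AddMonoidHom.coe_comp, Function.comp_apply, AddMonoidHom.id_apply]
      rw [DirectSum.coeAddMonoidHom_of, decomp_of])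

noncomputable instance gradedRing_grading : GradedRing (grading I) where

end Rees

end Groth.Agent.H9.BLA
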