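import Mathlib
import Groth.Agent.Lib.Helper9.Misc.BLA1
import Groth.Agent.Lib.Helper9.Misc.BLA2

/-! Helper9: blow-ups — the degree-zero localization of the Rees ring at a degree-one element is the affine blow-up algebra. -/

set_option linter.style.haveILetI false
set_option linter.unusedSectionVars false
set_option linter.unusedVariables false

universe u
open CategoryTheory DirectSum HomogeneousLocalization

namespace Groth.Agent.H9.BLA

section Chart
variable {A : Type u} [CommRing A] (I : Ideal A)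

/-- the "forget the grading" map `⨁ Iⁿ → A`. -/
noncomputable def toA : Rees I →+* A := DirectSum.coeRingHom (fun n : ℕ => I ^ n)

theorem toA_of (n : ℕ) (x : ↥(I ^ n)) : toA I (DirectSum.of (fun n : ℕ => ↥(I ^ n)) n x) = x.1 :=
  DirectSum.coeRingHom_of _ n x

theorem toA_mem {n : ℕ} {x : Rees I} (hx : x ∈ grading I n) : toA I x ∈ I ^ n := by
  obtain ⟨y, rfl⟩ := hx
  rw [toA_of]
  exact y.2

theorem eq_zero_of_toA_eq_zero {n : ℕ} {x : Rees I} (hx : x ∈ grading I n) (h : toA I x = 0) :
    x = 0 := by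
  obtain ⟨y, rfl⟩ := hx
  rw [toA_of] at h
  have : y = 0 := Subtype.ext h
  rw [this, map_zero]

theorem eq_of_toA_eq {n : ℕ} {x y : Rees I} (hx : x ∈ grading I n) (hy : y ∈ grading I n)
    (h : toA I x = toA I y) : x = y := by
  rw [← sub_eq_zero]
  exact eq_zero_of_toA_eq_zero I ((grading I n).sub_mem hx hy) (by rw [map_sub, h, sub_self])

/-- the degree one element attached to `a ∈ I`. -/
noncomputable def deg1 (a : A) (ha : a ∈ I) : Rees I :=
  DirectSum.of (fun n : ℕ => ↥(I ^ n)) 1 ⟨a, by simpa using ha⟩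

theorem deg1_mem (a : A) (ha : a ∈ I) : deg1 I a ha ∈ grading I 1 := ⟨_, rfl⟩

theorem toA_deg1 (a : A) (ha : a ∈ I) : toA I (deg1 I a ha) = a := toA_of I 1 _

variable (a : A) (ha : a ∈ I)

/-- the map `(⨁ Iⁿ)_f → A_a`. -/
noncomputable def Φ₀ : Localization.Away (deg1 I a ha) →+* Localization.Away a :=
  IsLocalization.Away.lift (deg1 I a ha)
    (g := (algebraMap A (Localization.Away a)).comp (toA I))
    (by
      change IsUnit (algebraMap A (Localization.Away a) (toA I (deg1 I a ha)))
      rw [toA_deg1]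
      exact isUnit_a a)

theorem Φ₀_algebraMap (x : Rees I) :
    Φ₀ I a ha (algebraMap (Rees I) (Localization.Away (deg1 I a ha)) x) =
      algebraMap A (Localization.Away a) (toA I x) :=
  IsLocalization.Away.lift_eq _ _ x

/-- the map `(⨁ Iⁿ)_(f) → A_a`. -/
noncomputable def Φ : Away (grading I) (deg1 I a ha) →+* Localization.Away a :=
  (Φ₀ I a ha).comp (algebraMap (Away (grading I) (deg1 I a ha)) (Localization.Away (deg1 I a ha)))

theorem Φ_apply (z : Away (grading I) (deg1 I a ha)) : Φ I a ha z = Φ₀ I a ha z.val := rfl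

theorem Φ_mk_mul (n : ℕ) (x : Rees I) (hx : x ∈ grading I (n • 1)) :
    Φ I a ha (Away.mk (grading I) (deg1_mem I a ha) n x hx) *
      algebraMap A (Localization.Away a) a ^ n = algebraMap A (Localization.Away a) (toA I x) := by
  have h1 : (Away.mk (grading I) (deg1_mem I a ha) n x hx).val *
      algebraMap (Rees I) (Localization.Away (deg1 I a ha)) (deg1 I a ha ^ n) =
      algebraMap (Rees I) (Localization.Away (deg1 I a ha)) x := by
    rw [Away.val_mk, Localization.mk_eq_mk']
    exact IsLocalization.mk'_spec _ _ _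
  have h2 := congrArg (Φ₀ I a ha) h1
  rw [map_mul, Φ₀_algebraMap, Φ₀_algebraMap, map_pow, toA_deg1, map_pow] at h2
  exact h2

theorem Φ_mem (z : Away (grading I) (deg1 I a ha)) : Φ I a ha z ∈ BlowUp.affineAlgebra A I a := by
  obtain ⟨n, x, hx, rfl⟩ := Away.mk_surjective (grading I) (deg1_mem I a ha) z
  refine mem_of_mul_pow_eq I a n (toA I x) ?_ _ (Φ_mk_mul I a ha n x hx)
  have := toA_mem I hx
  simpa using this

/-- the comparison map `(⨁ Iⁿ)_(f) → A[I/a]`. -/
noncomputable def Θ : Away (grading I) (deg1 I a ha) →+* BlowUp.affineAlgebra A I a :=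
  (Φ I a ha).codRestrict (BlowUp.affineAlgebra A I a) (Φ_mem I a ha)

theorem Θ_injective : Function.Injective (Θ I a ha) := by
  rw [injective_iff_map_eq_zero]
  intro z hz
  have hz' : Φ I a ha z = 0 := congrArg Subtype.val hz
  obtain ⟨n, x, hx, rfl⟩ := Away.mk_surjective (grading I) (deg1_mem I a ha) z
  have h1 := Φ_mk_mul I a ha n x hx
  rw [hz', zero_mul] at h1
  obtain ⟨⟨_, m, rfl⟩, hm⟩ := (IsLocalization.map_eq_zero_iff (Submonoid.powers a)
    (Localization.Away a) (toA I x)).mp h1.symm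
  have hx0 : deg1 I a ha ^ m * x = 0 := by
    refine eq_zero_of_toA_eq_zero I (n := m • 1 + n • 1) ?_ ?_
    · exact SetLike.mul_mem_graded (SetLike.pow_mem_graded m (deg1_mem I a ha)) hx
    · rw [map_mul, map_pow, toA_deg1]
      exact hm
  apply HomogeneousLocalization.val_injective
  rw [Away.val_mk, HomogeneousLocalization.val_zero, Localization.mk_eq_mk',
    IsLocalization.mk'_eq_zero_iff]
  exact ⟨⟨_, m, rfl⟩, hx0⟩


/-- the structure map `A → (⨁ Iⁿ)₀`. -/
noncomputable def algZero : A →+* grading I 0 where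
  toFun r := ⟨DirectSum.of (fun n : ℕ => ↥(I ^ n)) 0 ⟨r, by simp⟩, ⟨_, rfl⟩⟩
  map_one' := by
    apply Subtype.ext
    change _ = (1 : Rees I)
    rw [DirectSum.one_def]
    rfl
  map_mul' x y := by
    apply Subtype.ext
    change _ = DirectSum.of (fun n : ℕ => ↥(I ^ n)) 0 _ * DirectSum.of (fun n : ℕ => ↥(I ^ n)) 0 _
    refine eq_of_toA_eq I (n := 0) ⟨_, rfl⟩ ?_ ?_
    · have := SetLike.mul_mem_graded (A := grading I) (i := 0) (j := 0)
        (of_mem_grading I 0 ⟨x, by simp⟩) (of_mem_grading I 0 ⟨y, by simp⟩)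
      simpa using this
    · rw [map_mul, toA_of, toA_of, toA_of]
  map_zero' := by
    apply Subtype.ext
    change DirectSum.of (fun n : ℕ => ↥(I ^ n)) 0 ⟨0, _⟩ = 0
    exact map_zero _
  map_add' x y := by
    apply Subtype.ext
    change DirectSum.of (fun n : ℕ => ↥(I ^ n)) 0 ⟨x + y, _⟩ =
      DirectSum.of (fun n : ℕ => ↥(I ^ n)) 0 ⟨x, _⟩ + DirectSum.of (fun n : ℕ => ↥(I ^ n)) 0 ⟨y, _⟩
    rw [← map_add]
    rfl

theorem toA_algZero (r : A) : toA I (algZero I r).1 = r := toA_of I 0 _

theorem algZero_bijective : Function.Bijective (algZero I) := by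
  constructor
  · intro x y h
    have := congrArg (fun z : grading I 0 => toA I z.1) h
    simpa [toA_algZero] using this
  · rintro ⟨_, y, rfl⟩
    refine ⟨y.1, ?_⟩
    apply Subtype.ext
    rfl

theorem Φ_fromZero (r : A) :
    Φ I a ha (fromZeroRingHom (grading I) (Submonoid.powers (deg1 I a ha)) (algZero I r)) =
      algebraMap A (Localization.Away a) r := by
  have h1 : (fromZeroRingHom (grading I) (Submonoid.powers (deg1 I a ha)) (algZero I r)).val =
      algebraMap (Rees I) (Localization.Away (deg1 I a ha)) (algZero I r).1 := by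
    change Localization.mk _ _ = _
    rw [Localization.mk_eq_mk']
    exact IsLocalization.mk'_one _ _
  rw [Φ_apply, h1, Φ₀_algebraMap, toA_algZero]

theorem Θ_fromZero (r : A) :
    Θ I a ha (fromZeroRingHom (grading I) (Submonoid.powers (deg1 I a ha)) (algZero I r)) =
      algebraMap A (BlowUp.affineAlgebra A I a) r := by
  apply Subtype.ext
  exact Φ_fromZero I a ha r

theorem Φ_mk_deg1 (x : A) (hx : x ∈ I) :
    Φ I a ha (Away.mk (grading I) (deg1_mem I a ha) 1 (deg1 I x hx)
      (by simpa using deg1_mem I x hx)) = frac a x := by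
  refine eq_of_mul_pow_eq a 1 ?_
  rw [Φ_mk_mul, toA_deg1, pow_one, frac_mul_a]

theorem Θ_surjective : Function.Surjective (Θ I a ha) := by
  rintro ⟨y, hy⟩
  suffices h : y ∈ (Φ I a ha).range by
    obtain ⟨z, hz⟩ := h
    exact ⟨z, Subtype.ext hz⟩
  unfold BlowUp.affineAlgebra at hy
  induction hy using Algebra.adjoin_induction with
  | mem y hy =>
    obtain ⟨x, hx, rfl⟩ := hy
    exact ⟨_, Φ_mk_deg1 I a ha x hx⟩
  | algebraMap r => exact ⟨_, Φ_fromZero I a ha r⟩
  | add x y _ _ hx hy => exact Subring.add_mem _ hx hy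
  | mul x y _ _ hx hy => exact Subring.mul_mem _ hx hy

/-- the chart isomorphism `(⨁ Iⁿ)_(f) ≃ A[I/a]`. -/
noncomputable def chartEquiv : Away (grading I) (deg1 I a ha) ≃+* BlowUp.affineAlgebra A I a :=
  RingEquiv.ofBijective (Θ I a ha) ⟨Θ_injective I a ha, Θ_surjective I a ha⟩

theorem chartEquiv_fromZero (r : A) :
    chartEquiv I a ha (fromZeroRingHom (grading I) (Submonoid.powers (deg1 I a ha)) (algZero I r)) =
      algebraMap A (BlowUp.affineAlgebra A I a) r := Θ_fromZero I a ha r

theorem chartEquiv_isLocalizationElem (x : A) (hx : x ∈ I) :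
    chartEquiv I a ha (Away.isLocalizationElem (deg1_mem I a ha) (deg1_mem I x hx)) =
      fracB I a hx := by
  apply Subtype.ext
  change Φ I a ha _ = frac a x
  refine eq_of_mul_pow_eq a 1 ?_
  unfold Away.isLocalizationElem
  rw [Φ_mk_mul, map_pow, toA_deg1, pow_one, pow_one, frac_mul_a]

end Chart

end Groth.Agent.H9.BLA
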