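import Mathlib
import Groth.Agent.Lib.Helper9.Misc.BLA1
import Groth.Agent.Lib.Lead.QC.IdealComap
import Groth.Agent.Lib.Lead.QC.CartierBC

/-! Helper9: blow-ups — inverse image of an ideal of `A` along `Y ⟶ Spec A`; local generators. -/

set_option linter.style.haveILetI false
set_option linter.unusedSectionVars false
set_option linter.unusedVariables false

universe u
open CategoryTheory Limits AlgebraicGeometry TopologicalSpace Opposite

namespace Groth.Agent.H9.BLA

section Sec
variable {A : Type u} [CommRing A] (I : Ideal A)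

/-- the ideal sheaf on `Spec A` attached to the ideal `I`. -/
noncomputable def idealSheaf : (Spec (CommRingCat.of A)).IdealSheafData :=
  Scheme.IdealSheafData.ofIdealTop (I.map (Scheme.ΓSpecIso (CommRingCat.of A)).inv.hom)

variable {Y : Scheme.{u}} (g : Y ⟶ Spec (CommRingCat.of A))

/-- the ring map `A → Γ(Y, U)` induced by `g : Y ⟶ Spec A`. -/
noncomputable def secMap (U : Y.Opens) : CommRingCat.of A ⟶ Γ(Y, U) :=
  (Scheme.ΓSpecIso (CommRingCat.of A)).inv ≫ g.appLE ⊤ U le_top

theorem ideal_comap (U : Y.affineOpens) :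
    ((idealSheaf I).comap g).ideal U = I.map (secMap g U.1).hom := by
  rw [Groth.Agent.LD.QC.ideal_comap_of_le (idealSheaf I) g ⟨⊤, isAffineOpen_top _⟩ U le_top]
  unfold idealSheaf secMap
  rw [Scheme.IdealSheafData.ofIdealTop_ideal, Ideal.map_map, Ideal.map_map]
  congr 1

theorem fromSpec_comp {U : Y.Opens} (hU : IsAffineOpen U) :
    hU.fromSpec ≫ g = Spec.map (secMap g U) := by
  have h := IsAffineOpen.SpecMap_appLE_fromSpec g (isAffineOpen_top (Spec (CommRingCat.of A))) hU
    le_top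
  rw [← h, IsAffineOpen.fromSpec_top, Scheme.isoSpec_Spec_inv, ← Spec.map_comp]
  rfl

theorem secMap_res {U V : Y.Opens} (h : V ≤ U) :
    secMap g U ≫ Y.presheaf.map (homOfLE h).op = secMap g V := by
  unfold secMap
  rw [Category.assoc, Scheme.Hom.appLE_map]


/-- `a` generates the inverse image of `I` on the affine open `U` and is a nonzerodivisor there. -/
def GenAt (a : A) (U : Y.Opens) : Prop :=
  IsAffineOpen U ∧ I.map (secMap g U).hom = Ideal.span {(secMap g U).hom a} ∧
    (secMap g U).hom a ∈ nonZeroDivisors Γ(Y, U)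

theorem secMap_res_apply {U V : Y.Opens} (h : V ≤ U) (x : A) :
    (Y.presheaf.map (homOfLE h).op).hom ((secMap g U).hom x) = (secMap g V).hom x := by
  rw [← secMap_res g h]
  rfl

theorem map_secMap_res {U V : Y.Opens} (h : V ≤ U) :
    (I.map (secMap g U).hom).map (Y.presheaf.map (homOfLE h).op).hom = I.map (secMap g V).hom := by
  rw [Ideal.map_map, ← CommRingCat.hom_comp, secMap_res]

variable {I g} in
theorem GenAt.mono {a : A} {U V : Y.Opens} (h : GenAt I g a U) (hV : IsAffineOpen V)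
    (hVU : V ≤ U) : GenAt I g a V := by
  obtain ⟨hU, h1, h2⟩ := h
  refine ⟨hV, ?_, ?_⟩
  · rw [← map_secMap_res I g hVU, h1, Ideal.map_span, Set.image_singleton, secMap_res_apply]
  · rw [← secMap_res_apply g hVU]
    letI : Algebra Γ(Y, U) Γ(Y, V) := (Y.presheaf.map (homOfLE hVU).op).hom.toAlgebra
    haveI : Module.Flat Γ(Y, U) Γ(Y, V) := Groth.Agent.LD.QC.flat_res_of_isAffineOpen hV hU hVU
    exact Groth.Agent.LD.QC.map_mem_nonZeroDivisors_of_flat (A := Γ(Y, U)) (B := Γ(Y, V)) h2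

theorem exists_genAt (hE : BlowUp.IsEffCartierIdeal ((idealSheaf I).comap g)) (y : Y)
    (O : Y.Opens) (hy : y ∈ O) :
    ∃ a ∈ I, ∃ U : Y.Opens, y ∈ U ∧ U ≤ O ∧ GenAt I g a U := by
  obtain ⟨U, hyU, hUO, t, ht, hIt⟩ :=
    Groth.Agent.LD.QC.exists_affine_principal_le _ hE y O hy
  rw [ideal_comap] at hIt
  set φ := (secMap g U.1).hom with hφ
  let S : Set Γ(Y, U.1) := {d | ∃ x ∈ I, φ x = t * d}
  have hS : Ideal.span S = ⊤ := by
    have h1 : I.map φ ≤ Ideal.span {t} * Ideal.span S := by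
      rw [Ideal.map_le_iff_le_comap]
      intro x hx
      rw [Ideal.mem_comap]
      have hx' : φ x ∈ Ideal.span {t} := hIt ▸ Ideal.mem_map_of_mem φ hx
      obtain ⟨d, hd⟩ := Ideal.mem_span_singleton'.mp hx'
      have hxd : φ x = t * d := by rw [← hd, mul_comm]
      rw [hxd]
      exact Ideal.mul_mem_mul (Ideal.mem_span_singleton_self t) (Ideal.subset_span ⟨x, hx, hxd⟩)
    have h2 : t ∈ Ideal.span {t} * Ideal.span S := h1 (hIt ▸ Ideal.mem_span_singleton_self t)
    obtain ⟨σ, hσ, hσt⟩ := Ideal.mem_span_singleton_mul.mp h2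
    have h3 : (σ - 1) * t = 0 := by rw [sub_mul, one_mul, mul_comm, hσt, sub_self]
    have h4 : σ - 1 = 0 := (mem_nonZeroDivisors_iff_right.mp ht) _ h3
    rw [sub_eq_zero] at h4
    rw [Ideal.eq_top_iff_one, ← h4]
    exact hσ
  obtain ⟨d, hdS, hyd⟩ : ∃ d ∈ S, y ∈ Y.basicOpen d := by
    by_contra hcon
    push Not at hcon
    let 𝔪 : Ideal Γ(Y, U.1) :=
      (IsLocalRing.maximalIdeal (Y.presheaf.stalk y)).comap (Y.presheaf.germ U.1 y hyU).hom
    have hle : Ideal.span S ≤ 𝔪 := by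
      rw [Ideal.span_le]
      intro d hd
      have := hcon d hd
      rw [Scheme.mem_basicOpen _ _ y hyU] at this
      exact this
    rw [hS] at hle
    have h1 : (1 : Γ(Y, U.1)) ∈ 𝔪 := hle trivial
    have h1' : (Y.presheaf.germ U.1 y hyU).hom 1 ∈ IsLocalRing.maximalIdeal (Y.presheaf.stalk y) := h1
    rw [map_one] at h1'
    exact (IsLocalRing.maximalIdeal (Y.presheaf.stalk y)).ne_top_iff_one.mp
      (IsLocalRing.maximalIdeal.isMaximal _).ne_top h1'
  obtain ⟨a, haI, had⟩ := hdS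
  have hVU : Y.basicOpen d ≤ U.1 := Y.basicOpen_le d
  have hV : IsAffineOpen (Y.basicOpen d) := U.2.basicOpen d
  refine ⟨a, haI, Y.basicOpen d, hyd, hVU.trans hUO, hV, ?_, ?_⟩
  · have hu : IsUnit ((Y.presheaf.map (homOfLE hVU).op).hom d) :=
      Y.toRingedSpace.isUnit_res_basicOpen d
    rw [← map_secMap_res I g hVU, ← hφ, hIt, Ideal.map_span, Set.image_singleton,
      ← secMap_res_apply g hVU, ← hφ, had, map_mul, Ideal.span_singleton_mul_right_unit hu]
  · have hu : IsUnit ((Y.presheaf.map (homOfLE hVU).op).hom d) :=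
      Y.toRingedSpace.isUnit_res_basicOpen d
    rw [← secMap_res_apply g hVU, ← hφ, had, map_mul]
    refine mul_mem (s := nonZeroDivisors _) ?_ hu.mem_nonZeroDivisors
    letI : Algebra Γ(Y, U.1) Γ(Y, Y.basicOpen d) := (Y.presheaf.map (homOfLE hVU).op).hom.toAlgebra
    haveI : Module.Flat Γ(Y, U.1) Γ(Y, Y.basicOpen d) :=
      Groth.Agent.LD.QC.flat_res_of_isAffineOpen hV U.2 hVU
    exact Groth.Agent.LD.QC.map_mem_nonZeroDivisors_of_flat (A := Γ(Y, U.1))
      (B := Γ(Y, Y.basicOpen d)) ht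

end Sec

end Groth.Agent.H9.BLA
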