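import Mathlib
import Groth.Prelude.Def_BlowUp2
import Groth.Agent.Lib.Lead.QC.IdealComap

/-! Helper9: blow-ups — local-to-global criterion for the universal property. -/

set_option linter.style.haveILetI false
set_option linter.unusedSectionVars false
set_option linter.unusedVariables false

universe u
open CategoryTheory Limits AlgebraicGeometry TopologicalSpace Opposite

namespace Groth.Agent.H9.BLA

section LG
variable {X X' : Scheme.{u}} (b : X' ⟶ X) (𝓘 : X.IdealSheafData)

/-- two morphisms agreeing locally on the source are equal. -/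
theorem hom_ext_of_local {Y Z : Scheme.{u}} (h₁ h₂ : Y ⟶ Z)
    (H : ∀ y : Y, ∃ U : Y.Opens, y ∈ U ∧ U.ι ≫ h₁ = U.ι ≫ h₂) : h₁ = h₂ := by
  choose U hyU hU using H
  have hcov : IsOpenCover U := by
    rw [IsOpenCover, eq_top_iff]
    intro y _
    exact Opens.mem_iSup.mpr ⟨y, hyU y⟩
  exact (Y.openCoverOfIsOpenCover U hcov).hom_ext h₁ h₂ (fun y => hU y)

set_option backward.isDefEq.respectTransparency false in
set_option backward.defeqAttrib.useBackward true in
/-- **local-to-global criterion for blow-ups**: effective Cartier inverse image, uniqueness of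
lifts and *local* existence of lifts. -/
theorem isBlowUp_of_local (h1 : BlowUp.IsEffCartierIdeal (𝓘.comap b))
    (huniq : ∀ (Y : Scheme.{u}) (h₁ h₂ : Y ⟶ X'), h₁ ≫ b = h₂ ≫ b →
      BlowUp.IsEffCartierIdeal (𝓘.comap (h₁ ≫ b)) → h₁ = h₂)
    (hex : ∀ (Y : Scheme.{u}) (g : Y ⟶ X), BlowUp.IsEffCartierIdeal (𝓘.comap g) →
      ∀ y : Y, ∃ (U : Y.Opens) (h : (U : Scheme.{u}) ⟶ X'), y ∈ U ∧ h ≫ b = U.ι ≫ g) :
    BlowUp.IsBlowUp b 𝓘 := by
  refine ⟨h1, ?_⟩
  intro Y g hg
  choose U h hyU hh using hex Y g hg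
  have hcov : IsOpenCover U := by
    rw [IsOpenCover, eq_top_iff]
    intro y _
    exact Opens.mem_iSup.mpr ⟨y, hyU y⟩
  let 𝒰 := Y.openCoverOfIsOpenCover U hcov
  have hcompat : ∀ x y : Y, pullback.fst (𝒰.f x) (𝒰.f y) ≫ h x = pullback.snd _ _ ≫ h y := by
    intro x y
    have hw : (pullback.fst (𝒰.f x) (𝒰.f y) ≫ h x) ≫ b = (pullback.snd (𝒰.f x) (𝒰.f y) ≫ h y) ≫ b := by
      rw [Category.assoc, Category.assoc, hh x, hh y]
      exact pullback.condition_assoc g
    refine huniq _ _ _ hw ?_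
    rw [Category.assoc, hh x, ← Category.assoc, Scheme.IdealSheafData.comap_comp]
    exact Groth.Agent.LD.QC.isEffCartierIdeal_comap_of_flat _ _ hg
  refine ⟨𝒰.glueMorphisms h hcompat, ?_, ?_⟩
  · refine 𝒰.hom_ext _ _ (fun y => ?_)
    rw [← Category.assoc, Scheme.Cover.ι_glueMorphisms]
    exact hh y
  · intro m hm
    refine huniq _ _ _ ?_ ?_
    · rw [hm]
      refine 𝒰.hom_ext _ _ (fun y => ?_)
      rw [← Category.assoc, Scheme.Cover.ι_glueMorphisms]
      exact (hh y).symm
    · rw [hm]; exact hg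

end LG

end Groth.Agent.H9.BLA
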