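import Mathlib
import Groth.Agent.Lib.Lead.QC.CartierDense
import Groth.Prelude.Def_W4c6modpairsegaMP

/-! Helper9: modulus pairs toolkit (scheme-theoretic density, images of opens, interiors). -/

set_option linter.style.haveILetI false
set_option linter.unusedSectionVars false

universe u
open CategoryTheory Limits AlgebraicGeometry TopologicalSpace Opposite

namespace Groth.Agent.H9.MDP

variable {X Y Z W P S T : Scheme.{u}}

/-- (copied from helper3's `ClosedSub`) the map to the scheme-theoretic image is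
scheme-theoretically dominant. -/
theorem isSchemeTheoreticallyDominant_toImage (f : X ⟶ Y) [QuasiCompact f] :
    IsSchemeTheoreticallyDominant f.toImage := by
  rw [isSchemeTheoreticallyDominant_iff]
  refine Scheme.IdealSheafData.ext_of_iSup_eq_top
    (fun U : Y.affineOpens => ⟨f.imageι ⁻¹ᵁ U.1, U.2.preimage f.imageι⟩) ?_ ?_
  · simp only
    rw [← Scheme.Hom.preimage_iSup, iSup_affineOpens_eq_top]
    rfl
  · intro U
    rw [Scheme.Hom.ker_apply]
    simp only [Scheme.IdealSheafData.ideal_bot, Pi.bot_apply]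
    exact (RingHom.injective_iff_ker_eq_bot _).mp (f.toImage_app_injective U)

theorem isSchemeTheoreticallyDominant_of_comp (f : X ⟶ Y) (g : Y ⟶ Z)
    [IsSchemeTheoreticallyDominant (f ≫ g)] : IsSchemeTheoreticallyDominant g := by
  rw [isSchemeTheoreticallyDominant_iff, ← le_bot_iff]
  have h1 : (f ≫ g).ker = ⊥ := Scheme.Hom.ker_eq_bot (f ≫ g)
  rw [← h1, Scheme.Hom.ker_comp, ← Scheme.IdealSheafData.map_bot]
  exact Scheme.IdealSheafData.map_mono g bot_le

theorem ker_comp_of_dominant (f : X ⟶ Y) (g : Y ⟶ Z) [IsSchemeTheoreticallyDominant f] :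
    (f ≫ g).ker = g.ker := by
  rw [Scheme.Hom.ker_comp, Scheme.Hom.ker_eq_bot f, Scheme.IdealSheafData.map_bot]

/-- two morphisms to a separated `Z`-scheme agreeing on a schematically dense part are equal. -/
theorem ext_of_schDominant_of_isSeparated {f g : X ⟶ Y} (s : Y ⟶ Z) [IsSeparated s]
    (h : f ≫ s = g ≫ s) (ι : W ⟶ X) [IsSchemeTheoreticallyDominant ι] (hU : ι ≫ f = ι ≫ g) :
    f = g := by
  let X' : Over Z := Over.mk (f ≫ s)
  let Y' : Over Z := Over.mk s
  let U' : Over Z := Over.mk (ι ≫ f ≫ s)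
  let f' : X' ⟶ Y' := Over.homMk f
  let g' : X' ⟶ Y' := Over.homMk g (by simpa [X', Y'] using h.symm)
  let ι' : U' ⟶ X' := Over.homMk ι
  have : IsSeparated Y'.hom := ‹_›
  have hfac : (equalizer.lift ι' (show ι' ≫ f' = ι' ≫ g' by ext1; exact hU)).left ≫
      (equalizer.ι f' g').left = ι := by
    rw [← Over.comp_left, equalizer.lift_ι]; rfl
  have : IsSchemeTheoreticallyDominant (equalizer.ι f' g').left := by
    haveI : IsSchemeTheoreticallyDominant
        ((equalizer.lift ι' (show ι' ≫ f' = ι' ≫ g' by ext1; exact hU)).left ≫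
          (equalizer.ι f' g').left) := by rw [hfac]; infer_instance
    exact isSchemeTheoreticallyDominant_of_comp
      (equalizer.lift ι' (show ι' ≫ f' = ι' ≫ g' by ext1; exact hU)).left _
  have hiso : IsIso (equalizer.ι f' g').left :=
    (IsClosedImmersion.isIso_iff_ker_eq_bot (f := (equalizer.ι f' g').left)).mpr
      (Scheme.Hom.ker_eq_bot _)
  rw [← cancel_epi (equalizer.ι f' g').left]
  exact congr($(equalizer.condition f' g').left)

section Img
variable (U : P.Opens)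

/-- the lift of `U → image` through the open preimage of `U`. -/
noncomputable def toPre : (U : Scheme.{u}) ⟶ (U.ι.imageι ⁻¹ᵁ U : Scheme.{u}) :=
  IsOpenImmersion.lift (U.ι.imageι ⁻¹ᵁ U).ι U.ι.toImage (by
    rintro _ ⟨x, rfl⟩
    rw [Scheme.Opens.range_ι]
    change U.ι.imageι (U.ι.toImage x) ∈ U
    rw [← Scheme.Hom.comp_apply, Scheme.Hom.toImage_imageι]
    exact x.2)

@[reassoc (attr := simp)]
theorem toPre_ι : toPre U ≫ (U.ι.imageι ⁻¹ᵁ U).ι = U.ι.toImage :=
  IsOpenImmersion.lift_fac _ _ _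

theorem toPre_restrict : toPre U ≫ (U.ι.imageι ∣_ U) = 𝟙 _ := by
  rw [← cancel_mono U.ι, Category.assoc, morphismRestrict_ι, toPre_ι_assoc,
    Scheme.Hom.toImage_imageι, Category.id_comp]

theorem isIso_imageι_restrict : IsIso (U.ι.imageι ∣_ U) := by
  haveI : IsSplitEpi (U.ι.imageι ∣_ U) := ⟨⟨toPre U, toPre_restrict U⟩⟩
  haveI : Mono (U.ι.imageι ∣_ U) := inferInstance
  exact isIso_of_mono_of_isSplitEpi _

theorem dominant_preimage_image [QuasiCompact U.ι] :
    IsSchemeTheoreticallyDominant (U.ι.imageι ⁻¹ᵁ U).ι := by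
  haveI := isSchemeTheoreticallyDominant_toImage U.ι
  haveI : IsSchemeTheoreticallyDominant (toPre U ≫ (U.ι.imageι ⁻¹ᵁ U).ι) := by
    rw [toPre_ι]; infer_instance
  exact isSchemeTheoreticallyDominant_of_comp (toPre U) _

/-- a morphism mapping a schematically dense open into `U` factors through the scheme-theoretic
closure of `U`. -/
theorem ker_le_of_dense (h : W ⟶ P) (W₀ : W.Opens) [IsSchemeTheoreticallyDominant W₀.ι]
    (hW : W₀ ≤ h ⁻¹ᵁ U) : U.ι.ker ≤ h.ker := by
  rw [← ker_comp_of_dominant W₀.ι h]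
  have hr : Set.range (W₀.ι ≫ h) ⊆ Set.range U.ι := by
    rintro _ ⟨x, rfl⟩
    rw [Scheme.Opens.range_ι]
    exact hW x.2
  rw [← IsOpenImmersion.lift_fac U.ι (W₀.ι ≫ h) hr]
  exact Scheme.Hom.le_ker_comp _ _

end Img


theorem interior_comap (I : Y.IdealSheafData) (f : X ⟶ Y) :
    ModPair.interior (I.comap f) = f ⁻¹ᵁ ModPair.interior I :=
  Groth.Agent.LD.QC.comap_support_compl_eq I f

theorem interior_le_of_isAmbient {I : X.IdealSheafData} {J : Y.IdealSheafData} {f : X ⟶ Y}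
    (h : ModPair.IsAmbient I J f) : ModPair.interior I ≤ f ⁻¹ᵁ ModPair.interior J := by
  rw [← interior_comap]
  intro x hx
  change x ∉ (J.comap f).support
  intro hx'
  exact hx (Scheme.IdealSheafData.support_antitone h hx')

theorem isAffineHom_inf (A B : P.Opens) [IsAffineHom A.ι] [IsAffineHom B.ι] :
    IsAffineHom (A ⊓ B).ι := by
  have h := isPullback_opens_inf A B
  haveI : IsAffineHom (P.homOfLE (inf_le_left : A ⊓ B ≤ A)) :=
    MorphismProperty.of_isPullback h.flip ‹IsAffineHom B.ι›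
  rw [← P.homOfLE_ι (inf_le_left : A ⊓ B ≤ A)]
  infer_instance

theorem isAffineHom_prodInterior (f : X ⟶ S) (g : T ⟶ S) (I : X.IdealSheafData)
    (J : T.IdealSheafData) (hI : BlowUp.IsEffCartierIdeal I) (hJ : BlowUp.IsEffCartierIdeal J) :
    IsAffineHom (ModPair.prodInterior f g I J).ι := by
  haveI h1 : IsAffineHom (pullback.fst f g ⁻¹ᵁ ModPair.interior I).ι :=
    Groth.Agent.LD.QC.isAffineHom_preimage_compl I hI (pullback.fst f g)
  haveI h2 : IsAffineHom (pullback.snd f g ⁻¹ᵁ ModPair.interior J).ι :=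
    Groth.Agent.LD.QC.isAffineHom_preimage_compl J hJ (pullback.snd f g)
  exact isAffineHom_inf _ _


/-- base change of "isomorphism over an open". -/
theorem isIso_restrict_of_isPullback {fst : P ⟶ X} {snd : P ⟶ T} {s : X ⟶ S} {g : T ⟶ S}
    (h : IsPullback fst snd s g) (T₀ : T.Opens) (S₀ : S.Opens) (hle : T₀ ≤ g ⁻¹ᵁ S₀)
    [IsIso (s ∣_ S₀)] : IsIso (snd ∣_ T₀) := by
  have h1 := isPullback_morphismRestrict snd T₀
  have h2 := IsPullback.paste_vert h1 h.flip
  have h4 := isPullback_morphismRestrict s S₀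
  have hr : Set.range ((snd ⁻¹ᵁ T₀).ι ≫ fst) ⊆ Set.range (s ⁻¹ᵁ S₀).ι := by
    rintro _ ⟨x, rfl⟩
    rw [Scheme.Opens.range_ι]
    change s (((snd ⁻¹ᵁ T₀).ι ≫ fst) x) ∈ S₀
    rw [← Scheme.Hom.comp_apply, Category.assoc, h.w, Scheme.Hom.comp_apply,
      Scheme.Hom.comp_apply]
    exact hle x.2
  let k := IsOpenImmersion.lift (s ⁻¹ᵁ S₀).ι ((snd ⁻¹ᵁ T₀).ι ≫ fst) hr
  have hk : k ≫ (s ⁻¹ᵁ S₀).ι = (snd ⁻¹ᵁ T₀).ι ≫ fst := IsOpenImmersion.lift_fac _ _ _
  have hg : g.resLE S₀ T₀ hle ≫ S₀.ι = T₀.ι ≫ g := Scheme.Hom.resLE_comp_ι _ _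
  rw [← hk, ← hg] at h2
  have p : (snd ∣_ T₀) ≫ g.resLE S₀ T₀ hle = k ≫ (s ∣_ S₀) := by
    rw [← cancel_mono S₀.ι, Category.assoc, Category.assoc, hg, morphismRestrict_ι,
      reassoc_of% hk, h.w, morphismRestrict_ι_assoc]
  exact (IsPullback.of_bot h2 p h4).isIso_fst_of_isIso

end Groth.Agent.H9.MDP
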