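import Mathlib
import Groth.Agent.Lib.Helper9.Misc.MDP1

/-! Helper9: ideal sheaves and effective Cartier ideals are local for covers by open immersions. -/

set_option linter.style.haveILetI false
set_option linter.unusedSectionVars false
set_option linter.unusedVariables false

universe u
open CategoryTheory Limits AlgebraicGeometry TopologicalSpace Opposite

namespace Groth.Agent.H9.MDP

section Cov
variable {X : Scheme.{u}} {ι : Type*} (U : ι → Scheme.{u}) (j : ∀ i, U i ⟶ X)
  [∀ i, IsOpenImmersion (j i)]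

theorem ideal_le_of_comap_le_aux {I J : X.IdealSheafData} (i : ι) (V : (U i).affineOpens)
    (h : (I.comap (j i)).ideal V ≤ (J.comap (j i)).ideal V) :
    I.ideal ⟨j i ''ᵁ V.1, V.2.image_of_isOpenImmersion (j i)⟩ ≤
      J.ideal ⟨j i ''ᵁ V.1, V.2.image_of_isOpenImmersion (j i)⟩ := by
  rw [Scheme.IdealSheafData.ideal_comap_of_isOpenImmersion,
    Scheme.IdealSheafData.ideal_comap_of_isOpenImmersion] at h
  intro s hs
  have h1 : ((j i).appIso V.1).hom.hom s ∈
      (I.ideal ⟨j i ''ᵁ V.1, V.2.image_of_isOpenImmersion (j i)⟩).comap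
        ((j i).appIso V.1).inv.hom := by
    rw [Ideal.mem_comap]
    have : ((j i).appIso V.1).inv.hom (((j i).appIso V.1).hom.hom s) = s := by
      change (((j i).appIso V.1).hom ≫ ((j i).appIso V.1).inv) s = s
      simp
    rw [this]; exact hs
  have h2 := h h1
  rw [Ideal.mem_comap] at h2
  have : ((j i).appIso V.1).inv.hom (((j i).appIso V.1).hom.hom s) = s := by
    change (((j i).appIso V.1).hom ≫ ((j i).appIso V.1).inv) s = s
    simp
  rwa [this] at h2

include U in
theorem le_of_comap_le (hcov : ∀ x : X, ∃ (i : ι) (y : U i), j i y = x) {I J : X.IdealSheafData}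
    (h : ∀ i, I.comap (j i) ≤ J.comap (j i)) : I ≤ J := by
  refine Scheme.IdealSheafData.le_of_iSup_eq_top
    (fun p : Σ i, (U i).affineOpens => ⟨j p.1 ''ᵁ p.2.1, p.2.2.image_of_isOpenImmersion (j p.1)⟩)
    ?_ ?_
  · rw [eq_top_iff]
    intro x _
    obtain ⟨i, y, rfl⟩ := hcov x
    obtain ⟨V, hV, hyV, -⟩ := exists_isAffineOpen_mem_and_subset (x := y) (U := ⊤) trivial
    simp only [Opens.iSup_mk, Opens.carrier_eq_coe, Opens.mem_mk, Set.mem_iUnion]
    exact ⟨⟨i, ⟨V, hV⟩⟩, ⟨y, hyV, rfl⟩⟩
  · rintro ⟨i, V⟩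
    exact ideal_le_of_comap_le_aux U j i V (h i V)

theorem nzd_iff_of_isIso' {A B : CommRingCat.{u}} (φ : A ⟶ B) [IsIso φ] (x : A) :
    φ x ∈ nonZeroDivisors B ↔ x ∈ nonZeroDivisors A := by
  have hinj : Function.Injective φ := by
    intro a b hab
    have := congr((inv φ) $hab)
    simpa using this
  have hinj' : Function.Injective (inv φ) := by
    intro a b hab
    have := congr(φ $hab)
    simpa using this
  constructor
  · intro h
    exact mem_nonZeroDivisors_of_injective (f := φ.hom) hinj h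
  · intro h
    refine mem_nonZeroDivisors_of_injective (f := (inv φ).hom) hinj' ?_
    have : (inv φ).hom (φ x) = x := by
      change (φ ≫ inv φ) x = x
      simp
    rw [this]; exact h

include U in
theorem isEffCartierIdeal_of_comap (hcov : ∀ x : X, ∃ (i : ι) (y : U i), j i y = x)
    (I : X.IdealSheafData) (h : ∀ i, BlowUp.IsEffCartierIdeal (I.comap (j i))) :
    BlowUp.IsEffCartierIdeal I := by
  intro x
  obtain ⟨i, y, rfl⟩ := hcov x
  obtain ⟨V, hyV, f, hf, hI⟩ := h i y
  refine ⟨⟨j i ''ᵁ V.1, V.2.image_of_isOpenImmersion (j i)⟩, ⟨y, hyV, rfl⟩,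
    ((j i).appIso V.1).inv f, ?_, ?_⟩
  · exact (nzd_iff_of_isIso' ((j i).appIso V.1).inv f).mpr hf
  · rw [Scheme.IdealSheafData.ideal_comap_of_isOpenImmersion] at hI
    have hinvhom : ∀ s, ((j i).appIso V.1).inv.hom (((j i).appIso V.1).hom.hom s) = s := by
      intro s
      change (((j i).appIso V.1).hom ≫ ((j i).appIso V.1).inv) s = s
      simp
    have hhominv : ∀ s, ((j i).appIso V.1).hom.hom (((j i).appIso V.1).inv.hom s) = s := by
      intro s
      change (((j i).appIso V.1).inv ≫ ((j i).appIso V.1).hom) s = s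
      simp
    apply le_antisymm
    · intro s hs
      have h1 : ((j i).appIso V.1).hom.hom s ∈ Ideal.span {f} := by
        rw [← hI, Ideal.mem_comap, hinvhom]; exact hs
      obtain ⟨c, hc⟩ := Ideal.mem_span_singleton'.mp h1
      refine Ideal.mem_span_singleton'.mpr ⟨((j i).appIso V.1).inv.hom c, ?_⟩
      have := congrArg ((j i).appIso V.1).inv.hom hc
      rw [map_mul, hinvhom] at this
      exact this
    · rw [Ideal.span_le, Set.singleton_subset_iff]
      have h1 : f ∈ (I.ideal ⟨j i ''ᵁ V.1, V.2.image_of_isOpenImmersion (j i)⟩).comap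
          ((j i).appIso V.1).inv.hom := by
        rw [hI]; exact Ideal.mem_span_singleton_self f
      exact h1

end Cov

end Groth.Agent.H9.MDP
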