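import Mathlib
import Groth.Agent.Lib.Helper9.Misc.BLA4
import Groth.Agent.Lib.Helper9.Misc.BLA5
import Groth.Agent.Lib.Helper9.Misc.MDP6

/-! Helper9: blow-ups — a scheme over `Spec A` covered by the standard charts `Spec A[I/a]` is a blow-up. -/

set_option linter.style.haveILetI false
set_option linter.unusedSectionVars false
set_option linter.unusedVariables false

universe u
open CategoryTheory Limits AlgebraicGeometry TopologicalSpace Opposite

namespace Groth.Agent.H9.BLA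

section CD
variable {A : Type u} [CommRing A] (I : Ideal A)

/-- the chart algebra as an object of `CommRingCat`. -/
noncomputable abbrev BC (a : A) : CommRingCat.{u} := CommRingCat.of (BlowUp.affineAlgebra A I a)

/-- the structure map `A → A[I/a]`. -/
noncomputable abbrev algC (a : A) : CommRingCat.of A ⟶ BC I a :=
  CommRingCat.ofHom (algebraMap A (BlowUp.affineAlgebra A I a))

/-- a scheme over `Spec A` covered by the standard charts `Spec A[I/a]`, `a ∈ I`, with the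
standard overlaps. -/
structure ChartData {X' : Scheme.{u}} (b : X' ⟶ Spec (CommRingCat.of A)) where
  /-- the charts -/
  c : ∀ (a : A), a ∈ I → (Spec (BC I a) ⟶ X')
  isOpenImmersion : ∀ a ha, IsOpenImmersion (c a ha)
  fac : ∀ a ha, c a ha ≫ b = Spec.map (algC I a)
  cover : ∀ x' : X', ∃ a ha, x' ∈ (c a ha).opensRange
  overlap : ∀ a ha a' ha', (c a' ha') ⁻¹ᵁ (c a ha).opensRange =
    PrimeSpectrum.basicOpen (fracB I a' ha)

theorem secMap_SpecMap_top {R : CommRingCat.{u}} (φ : CommRingCat.of A ⟶ R) :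
    secMap (Spec.map φ) ⊤ = φ ≫ (Scheme.ΓSpecIso R).inv := by
  unfold secMap
  rw [Scheme.ΓSpecIso_inv_naturality φ]
  congr 1

/-- the inverse image of `I` on the chart `Spec A[I/a]` is effective Cartier. -/
theorem isEffCartier_chart (a : A) (ha : a ∈ I) :
    BlowUp.IsEffCartierIdeal ((idealSheaf I).comap (Spec.map (algC I a))) := by
  intro x
  refine ⟨⟨⊤, isAffineOpen_top _⟩, trivial,
    (Scheme.ΓSpecIso (BC I a)).inv.hom (algebraMap A (BlowUp.affineAlgebra A I a) a), ?_, ?_⟩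
  · exact (Groth.Agent.H9.MDP.nzd_iff_of_isIso' (Scheme.ΓSpecIso (BC I a)).inv _).mpr
      (algebraMap_a_mem_nonZeroDivisors I a)
  · rw [ideal_comap, secMap_SpecMap_top, CommRingCat.hom_comp, ← Ideal.map_map]
    change Ideal.map _ (Ideal.map (algebraMap A (BlowUp.affineAlgebra A I a)) I) = _
    rw [map_eq_span I a ha, Ideal.map_span, Set.image_singleton]


variable {I} {X' : Scheme.{u}} {b : X' ⟶ Spec (CommRingCat.of A)} (D : ChartData I b)

instance ChartData.instIsOpenImmersion (a : A) (ha : a ∈ I) : IsOpenImmersion (D.c a ha) :=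
  D.isOpenImmersion a ha

include D in
theorem ChartData.isEffCartier : BlowUp.IsEffCartierIdeal ((idealSheaf I).comap b) := by
  haveI : ∀ i : {a // a ∈ I}, IsOpenImmersion (D.c i.1 i.2) := fun i => D.isOpenImmersion i.1 i.2
  refine Groth.Agent.H9.MDP.isEffCartierIdeal_of_comap (ι := {a // a ∈ I})
    (fun i => Spec (BC I i.1)) (fun i => D.c i.1 i.2) ?_ _ ?_
  · intro x
    obtain ⟨a, ha, y, hy⟩ := D.cover x
    exact ⟨⟨a, ha⟩, y, hy⟩
  · rintro ⟨a, ha⟩
    rw [← Scheme.IdealSheafData.comap_comp, D.fac]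
    exact isEffCartier_chart I a ha

/-- a point of `Spec R` at which the image of `r` is a unit lies in the basic open of `r`. -/
theorem SpecMap_mem_basicOpen {R S : CommRingCat.{u}} (ψ : R ⟶ S) (r : R) (hr : IsUnit (ψ.hom r))
    (z : Spec S) : Spec.map ψ z ∈ PrimeSpectrum.basicOpen r := by
  change r ∉ (PrimeSpectrum.comap ψ.hom z).asIdeal
  intro hmem
  have h1 : ψ.hom r ∈ z.asIdeal := hmem
  exact z.isPrime.ne_top (Ideal.eq_top_of_isUnit_mem _ h1 hr)

/-- the key chart lemma: where `a` generates the inverse image ideal, a lift lands in the chart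
of `a`. -/
theorem ChartData.map_mem_opensRange {Y : Scheme.{u}} (h : Y ⟶ X') {a : A} (ha : a ∈ I)
    {U : Y.Opens} (hG : GenAt I (h ≫ b) a U) (y : Y) (hy : y ∈ U) :
    h y ∈ (D.c a ha).opensRange := by
  obtain ⟨a', ha', hy'⟩ := D.cover (h y)
  obtain ⟨W, hW, hyW, hWle⟩ := exists_isAffineOpen_mem_and_subset (x := y)
    (U := U ⊓ h ⁻¹ᵁ (D.c a' ha').opensRange) ⟨hy, hy'⟩
  have hWU : W ≤ U := fun z hz => (hWle hz).1
  have hWc : W ≤ h ⁻¹ᵁ (D.c a' ha').opensRange := fun z hz => (hWle hz).2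
  obtain ⟨-, hG1, hG2⟩ := hG.mono hW hWU
  have hrange : Set.range (hW.fromSpec ≫ h) ⊆ Set.range (D.c a' ha') := by
    rintro _ ⟨z, rfl⟩
    have hz : hW.fromSpec z ∈ W := by
      rw [← SetLike.mem_coe, ← hW.range_fromSpec]; exact ⟨z, rfl⟩
    exact hWc hz
  let k := IsOpenImmersion.lift (D.c a' ha') (hW.fromSpec ≫ h) hrange
  have hk : k ≫ D.c a' ha' = hW.fromSpec ≫ h := IsOpenImmersion.lift_fac _ _ _
  obtain ⟨ψ, hψ⟩ := Spec.map_surjective k
  have key : algC I a' ≫ ψ = secMap (h ≫ b) W := by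
    apply Spec.map_injective
    rw [Spec.map_comp, hψ, ← D.fac a' ha', ← Category.assoc, hk, Category.assoc, fromSpec_comp]
  set φ := (secMap (h ≫ b) W).hom with hφ
  have keyx : ∀ x : A, ψ.hom (algebraMap A (BlowUp.affineAlgebra A I a') x) = φ x := by
    intro x
    rw [hφ, ← key]
    rfl
  have h1 : φ a' ∈ Ideal.span {φ a} := hG1 ▸ Ideal.mem_map_of_mem φ ha'
  obtain ⟨v, hv⟩ := Ideal.mem_span_singleton'.mp h1
  have h2 : φ a = ψ.hom (fracB I a' ha) * φ a' := by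
    rw [← keyx a, ← keyx a', ← map_mul, fracB_mul_a]
  have h3 : (ψ.hom (fracB I a' ha) * v - 1) * φ a = 0 := by
    rw [sub_mul, one_mul, mul_assoc, hv, ← h2, sub_self]
  have h4 : ψ.hom (fracB I a' ha) * v = 1 :=
    sub_eq_zero.mp ((mem_nonZeroDivisors_iff_right.mp hG2) _ h3)
  have hunit : IsUnit (ψ.hom (fracB I a' ha)) := IsUnit.of_mul_eq_one _ h4
  have hyW' : y ∈ Set.range hW.fromSpec := by rw [hW.range_fromSpec]; exact hyW
  obtain ⟨z, rfl⟩ := hyW'
  have hkz : k z ∈ (D.c a' ha') ⁻¹ᵁ (D.c a ha).opensRange := by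
    rw [D.overlap a ha a' ha', ← hψ]
    exact SpecMap_mem_basicOpen ψ _ hunit z
  have : h (hW.fromSpec z) = D.c a' ha' (k z) := by
    rw [← Scheme.Hom.comp_apply, ← Scheme.Hom.comp_apply, hk]
  rw [this]
  exact hkz


include D in
/-- uniqueness of lifts. -/
theorem ChartData.hom_ext {Y : Scheme.{u}} (h₁ h₂ : Y ⟶ X') (hw : h₁ ≫ b = h₂ ≫ b)
    (hE : BlowUp.IsEffCartierIdeal ((idealSheaf I).comap (h₁ ≫ b))) : h₁ = h₂ := by
  refine hom_ext_of_local h₁ h₂ (fun y => ?_)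
  obtain ⟨a, ha, U, hyU, -, hG⟩ := exists_genAt I (h₁ ≫ b) hE y ⊤ trivial
  refine ⟨U, hyU, ?_⟩
  have hU := hG.1
  have hG' : GenAt I (h₂ ≫ b) a U := hw ▸ hG
  have hr₁ : Set.range (hU.fromSpec ≫ h₁) ⊆ Set.range (D.c a ha) := by
    rintro _ ⟨z, rfl⟩
    have hz : hU.fromSpec z ∈ U := by
      rw [← SetLike.mem_coe, ← hU.range_fromSpec]; exact ⟨z, rfl⟩
    exact D.map_mem_opensRange h₁ ha hG _ hz
  have hr₂ : Set.range (hU.fromSpec ≫ h₂) ⊆ Set.range (D.c a ha) := by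
    rintro _ ⟨z, rfl⟩
    have hz : hU.fromSpec z ∈ U := by
      rw [← SetLike.mem_coe, ← hU.range_fromSpec]; exact ⟨z, rfl⟩
    exact D.map_mem_opensRange h₂ ha hG' _ hz
  let k₁ := IsOpenImmersion.lift (D.c a ha) (hU.fromSpec ≫ h₁) hr₁
  let k₂ := IsOpenImmersion.lift (D.c a ha) (hU.fromSpec ≫ h₂) hr₂
  have hk₁ : k₁ ≫ D.c a ha = hU.fromSpec ≫ h₁ := IsOpenImmersion.lift_fac _ _ _
  have hk₂ : k₂ ≫ D.c a ha = hU.fromSpec ≫ h₂ := IsOpenImmersion.lift_fac _ _ _
  obtain ⟨ψ₁, hψ₁⟩ := Spec.map_surjective k₁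
  obtain ⟨ψ₂, hψ₂⟩ := Spec.map_surjective k₂
  have key₁ : algC I a ≫ ψ₁ = secMap (h₁ ≫ b) U := by
    apply Spec.map_injective
    rw [Spec.map_comp, hψ₁, ← D.fac a ha, ← Category.assoc, hk₁, Category.assoc, fromSpec_comp]
  have key₂ : algC I a ≫ ψ₂ = secMap (h₁ ≫ b) U := by
    apply Spec.map_injective
    rw [Spec.map_comp, hψ₂, ← D.fac a ha, ← Category.assoc, hk₂, Category.assoc, ← hw,
      fromSpec_comp]
  have hψ : ψ₁.hom = ψ₂.hom :=
    lift_unique I a (secMap (h₁ ≫ b) U).hom hG.2.2 ψ₁.hom ψ₂.hom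
      (by rw [← key₁]; rfl) (by rw [← key₂]; rfl)
  have hψ' : ψ₁ = ψ₂ := CommRingCat.hom_ext hψ
  have hk : k₁ = k₂ := by rw [← hψ₁, ← hψ₂, hψ']
  have : hU.fromSpec ≫ h₁ = hU.fromSpec ≫ h₂ := by rw [← hk₁, ← hk₂, hk]
  rw [← hU.isoSpec_hom_fromSpec, Category.assoc, Category.assoc, this]

include D in
/-- local existence of lifts. -/
theorem ChartData.exists_local_lift {Y : Scheme.{u}} (g : Y ⟶ Spec (CommRingCat.of A))
    (hE : BlowUp.IsEffCartierIdeal ((idealSheaf I).comap g)) (y : Y) :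
    ∃ (U : Y.Opens) (h : (U : Scheme.{u}) ⟶ X'), y ∈ U ∧ h ≫ b = U.ι ≫ g := by
  obtain ⟨a, ha, U, hyU, -, hG⟩ := exists_genAt I g hE y ⊤ trivial
  have hU := hG.1
  obtain ⟨ψ, hψ⟩ := exists_lift I a (secMap g U).hom hG.2.2 (le_of_eq hG.2.1)
  refine ⟨U, hU.isoSpec.hom ≫ Spec.map (CommRingCat.ofHom ψ) ≫ D.c a ha, hyU, ?_⟩
  have h1 : algC I a ≫ CommRingCat.ofHom ψ = secMap g U := by
    apply CommRingCat.hom_ext
    exact hψ
  rw [Category.assoc, Category.assoc, D.fac, ← Spec.map_comp, h1, ← fromSpec_comp g hU,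
    hU.isoSpec_hom_fromSpec_assoc]

include D in
/-- **a scheme over `Spec A` with the standard charts is a blow-up of `Spec A` in `I`.** -/
theorem ChartData.isBlowUp : BlowUp.IsBlowUp b (idealSheaf I) :=
  isBlowUp_of_local b (idealSheaf I) D.isEffCartier
    (fun Y h₁ h₂ hw hE => D.hom_ext h₁ h₂ hw hE)
    (fun Y g hE y => D.exists_local_lift g hE y)

end CD

end Groth.Agent.H9.BLA
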