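import Mathlib
import Groth.Agent.Lib.Helper9.Misc.BLA3
import Groth.Agent.Lib.Helper9.Misc.BLA6

/-! Helper9: blow-ups — existence of the blow-up of `Spec A` in an ideal `I` as `Proj (⨁ Iⁿ)`. -/

set_option linter.style.haveILetI false
set_option linter.unusedSectionVars false
set_option linter.unusedVariables false

universe u
open CategoryTheory Limits AlgebraicGeometry TopologicalSpace Opposite HomogeneousLocalization

namespace Groth.Agent.H9.BLA

section PR
variable {A : Type u} [CommRing A] (I : Ideal A)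

/-- the blow-up of `Spec A` in `I`: `Proj` of the Rees ring. -/
noncomputable abbrev Bl : Scheme.{u} := Proj (grading I)

/-- the structure morphism of the blow-up. -/
noncomputable def blMap : Bl I ⟶ Spec (CommRingCat.of A) :=
  Proj.toSpecZero (grading I) ≫ Spec.map (CommRingCat.ofHom (algZero I))

/-- the standard charts of the blow-up. -/
noncomputable def blChart (a : A) (ha : a ∈ I) : Spec (BC I a) ⟶ Bl I :=
  Spec.map (CommRingCat.ofHom (chartEquiv I a ha).toRingHom) ≫
    Proj.awayι (grading I) (deg1 I a ha) (deg1_mem I a ha) Nat.one_pos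

instance (a : A) (ha : a ∈ I) : IsOpenImmersion (blChart I a ha) := by
  haveI : IsIso (CommRingCat.ofHom (chartEquiv I a ha).toRingHom) :=
    (chartEquiv I a ha).toCommRingCatIso.isIso_hom
  unfold blChart
  infer_instance

theorem blChart_fac (a : A) (ha : a ∈ I) : blChart I a ha ≫ blMap I = Spec.map (algC I a) := by
  unfold blChart blMap
  rw [Category.assoc, Proj.awayι_toSpecZero_assoc, ← Spec.map_comp, ← Spec.map_comp]
  congr 1
  apply CommRingCat.hom_ext
  ext r
  exact congrArg Subtype.val (chartEquiv_fromZero I a ha r)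

theorem opensRange_blChart (a : A) (ha : a ∈ I) :
    (blChart I a ha).opensRange = Proj.basicOpen (grading I) (deg1 I a ha) := by
  haveI : IsIso (CommRingCat.ofHom (chartEquiv I a ha).toRingHom) :=
    (chartEquiv I a ha).toCommRingCatIso.isIso_hom
  unfold blChart
  rw [Scheme.Hom.opensRange_comp_of_isIso, Proj.opensRange_awayι]


theorem mem_span_of_mem_grading_succ (m : ℕ) (x : Rees I) (hx : x ∈ grading I (m + 1)) :
    x ∈ Ideal.span (Set.range fun i : {a // a ∈ I} => deg1 I i.1 i.2) := by
  have hc : toA I x ∈ I ^ m * I := by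
    have := toA_mem I hx
    rwa [pow_succ] at this
  suffices h : toA I x ∈ I ^ (m + 1) ∧ ∀ z ∈ grading I (m + 1), toA I z = toA I x →
      z ∈ Ideal.span (Set.range fun i : {a // a ∈ I} => deg1 I i.1 i.2) from h.2 x hx rfl
  generalize toA I x = c at hc
  refine Submodule.mul_induction_on hc ?_ ?_
  · intro u hu v hv
    refine ⟨by rw [pow_succ]; exact Ideal.mul_mem_mul hu hv, ?_⟩
    intro z hz hzc
    have hz' : z = DirectSum.of (fun n : ℕ => ↥(I ^ n)) m ⟨u, hu⟩ * deg1 I v hv := by
      refine eq_of_toA_eq I hz ?_ ?_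
      · exact SetLike.mul_mem_graded (of_mem_grading I m _) (deg1_mem I v hv)
      · rw [hzc, map_mul, toA_of, toA_deg1]
    rw [hz']
    exact Ideal.mul_mem_left _ _ (Ideal.subset_span ⟨⟨v, hv⟩, rfl⟩)
  · intro c₁ c₂ h₁ h₂
    refine ⟨Ideal.add_mem _ h₁.1 h₂.1, ?_⟩
    intro z hz hzc
    have hz' : z = DirectSum.of (fun n : ℕ => ↥(I ^ n)) (m + 1) ⟨c₁, h₁.1⟩ +
        DirectSum.of (fun n : ℕ => ↥(I ^ n)) (m + 1) ⟨c₂, h₂.1⟩ := by
      refine eq_of_toA_eq I hz ?_ ?_
      · exact (grading I (m + 1)).add_mem (of_mem_grading I _ _) (of_mem_grading I _ _)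
      · rw [hzc, map_add, toA_of, toA_of]
    rw [hz']
    exact Ideal.add_mem _ (h₁.2 _ (of_mem_grading I _ _) (toA_of I _ _))
      (h₂.2 _ (of_mem_grading I _ _) (toA_of I _ _))

theorem irrelevant_le :
    (HomogeneousIdeal.irrelevant (grading I)).toIdeal ≤
      Ideal.span (Set.range fun i : {a // a ∈ I} => deg1 I i.1 i.2) := by
  intro x hx
  classical
  rw [← DirectSum.sum_support_decompose (grading I) x]
  refine Ideal.sum_mem _ fun n _ => ?_
  rcases Nat.eq_zero_or_pos n with rfl | hn
  · have : (DirectSum.decompose (grading I) x 0 : Rees I) = 0 :=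
      (HomogeneousIdeal.mem_irrelevant_iff _ _).mp hx
    rw [this]
    exact zero_mem _
  · obtain ⟨m, rfl⟩ := Nat.exists_eq_succ_of_ne_zero hn.ne'
    exact mem_span_of_mem_grading_succ I m _ (SetLike.coe_mem _)

theorem blChart_cover (x' : Bl I) : ∃ a ha, x' ∈ (blChart I a ha).opensRange := by
  have h := Proj.iSup_basicOpen_eq_top (grading I)
    (fun i : {a // a ∈ I} => deg1 I i.1 i.2) (irrelevant_le I)
  have hx : x' ∈ (⨆ i : {a // a ∈ I}, Proj.basicOpen (grading I) (deg1 I i.1 i.2)) := by
    rw [h]; trivial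
  obtain ⟨⟨a, ha⟩, hx⟩ := Opens.mem_iSup.mp hx
  exact ⟨a, ha, by rw [opensRange_blChart]; exact hx⟩

theorem blChart_overlap (a : A) (ha : a ∈ I) (a' : A) (ha' : a' ∈ I) :
    (blChart I a' ha') ⁻¹ᵁ (blChart I a ha).opensRange =
      PrimeSpectrum.basicOpen (fracB I a' ha) := by
  rw [opensRange_blChart]
  unfold blChart
  rw [Scheme.Hom.comp_preimage,
    Proj.awayι_preimage_basicOpen (grading I) (deg1_mem I a' ha') Nat.one_pos
      (deg1_mem I a ha) Nat.one_pos, ← chartEquiv_isLocalizationElem I a' ha' a ha]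
  rfl

/-- the chart data of the blow-up. -/
noncomputable def blChartData : ChartData I (blMap I) where
  c := blChart I
  isOpenImmersion a ha := inferInstance
  fac := blChart_fac I
  cover := blChart_cover I
  overlap := blChart_overlap I

/-- **existence of blow-ups of affine schemes**: `Proj (⨁ Iⁿ) ⟶ Spec A` is a blow-up in `I`. -/
theorem isBlowUp_blMap : BlowUp.IsBlowUp (blMap I) (idealSheaf I) := (blChartData I).isBlowUp

end PR

end Groth.Agent.H9.BLA
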