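import Mathlib
import Groth.Agent.Lib.Helper9.Misc.BLA7
import Groth.Agent.Lib.Lead.QC.BlowUpBasic

/-! Helper9: blow-ups — uniqueness up to isomorphism; S1695 (charts of a blow-up of an affine scheme). -/

set_option linter.style.haveILetI false
set_option linter.unusedSectionVars false
set_option linter.unusedVariables false

universe u
open CategoryTheory Limits AlgebraicGeometry TopologicalSpace Opposite

namespace Groth.Agent.H9.BLA

section Uniq
variable {X X₁ X₂ : Scheme.{u}} {𝓘 : X.IdealSheafData} {b₁ : X₁ ⟶ X} {b₂ : X₂ ⟶ X}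

/-- two blow-ups of the same ideal sheaf are isomorphic over the base. -/
theorem exists_iso_of_isBlowUp (h₁ : BlowUp.IsBlowUp b₁ 𝓘) (h₂ : BlowUp.IsBlowUp b₂ 𝓘) :
    ∃ e : X₁ ≅ X₂, e.hom ≫ b₂ = b₁ := by
  obtain ⟨f, hf, -⟩ := h₂.2 X₁ b₁ h₁.1
  obtain ⟨g, hg, -⟩ := h₁.2 X₂ b₂ h₂.1
  refine ⟨⟨f, g, ?_, ?_⟩, hf⟩
  · refine Groth.Agent.LD.QC.IsBlowUp.hom_ext h₁ _ _ ?_ ?_
    · rw [Category.assoc, hg, hf]; exact h₁.1
    · rw [Category.assoc, hg, hf, Category.id_comp]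
  · refine Groth.Agent.LD.QC.IsBlowUp.hom_ext h₂ _ _ ?_ ?_
    · rw [Category.assoc, hf, hg]; exact h₂.1
    · rw [Category.assoc, hf, hg, Category.id_comp]

end Uniq

theorem S1695_main (A : Type u) [CommRing A] (I : Ideal A) {X' : Scheme.{u}}
    (b : X' ⟶ Spec (CommRingCat.of A))
    (hb : BlowUp.IsBlowUp b (Scheme.IdealSheafData.ofIdealTop
      (I.map (Scheme.ΓSpecIso (CommRingCat.of A)).inv.hom))) (x' : ↥X') :
    ∃ (a : A) (_ : a ∈ I) (V : X'.Opens)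
      (e : (V : Scheme.{u}) ≅ Spec (CommRingCat.of ↥(BlowUp.affineAlgebra A I a))),
      x' ∈ V ∧ e.hom ≫ Spec.map (CommRingCat.ofHom (algebraMap A ↥(BlowUp.affineAlgebra A I a))) =
        V.ι ≫ b := by
  obtain ⟨ε, hε⟩ := exists_iso_of_isBlowUp hb (isBlowUp_blMap I)
  obtain ⟨a, ha, z, hz⟩ := blChart_cover I (ε.hom x')
  let j : Spec (BC I a) ⟶ X' := blChart I a ha ≫ ε.inv
  have hj : j ≫ b = Spec.map (algC I a) := by
    rw [← blChart_fac I a ha, ← hε, Category.assoc, Iso.inv_hom_id_assoc]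
  refine ⟨a, ha, j.opensRange, j.isoOpensRange.symm, ⟨z, ?_⟩, ?_⟩
  · change ε.inv (blChart I a ha z) = x'
    rw [hz, ← Scheme.Hom.comp_apply, Iso.hom_inv_id]
    rfl
  · change j.isoOpensRange.inv ≫ Spec.map (algC I a) = _
    rw [← hj, Scheme.Hom.isoOpensRange_inv_comp_assoc]

end Groth.Agent.H9.BLA
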