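import Mathlib
import Groth.Agent.Lib.Helper9.Misc.BLA8

/-! Helper9: blow-ups — existence of blow-ups of arbitrary affine schemes. -/

set_option linter.style.haveILetI false
set_option linter.unusedSectionVars false
set_option linter.unusedVariables false

universe u
open CategoryTheory Limits AlgebraicGeometry TopologicalSpace Opposite

namespace Groth.Agent.H9.BLA

section Iso
variable {X Z X' : Scheme.{u}}

/-- blow-ups can be transported along isomorphisms of the base. -/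
theorem isBlowUp_comp_iso (e : X ≅ Z) (𝓙 : Z.IdealSheafData) (b : X' ⟶ X)
    (hb : BlowUp.IsBlowUp b (𝓙.comap e.hom)) : BlowUp.IsBlowUp (b ≫ e.hom) 𝓙 := by
  refine ⟨?_, ?_⟩
  · rw [Scheme.IdealSheafData.comap_comp]; exact hb.1
  · intro Y g hg
    have hg' : BlowUp.IsEffCartierIdeal ((𝓙.comap e.hom).comap (g ≫ e.inv)) := by
      rw [← Scheme.IdealSheafData.comap_comp, Category.assoc, e.inv_hom_id, Category.comp_id]
      exact hg
    obtain ⟨h, hh, hu⟩ := hb.2 Y (g ≫ e.inv) hg'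
    refine ⟨h, ?_, ?_⟩
    · change h ≫ b ≫ e.hom = g
      rw [← Category.assoc, hh, Category.assoc, e.inv_hom_id, Category.comp_id]
    · intro m hm
      apply hu
      rw [← hm, Category.assoc, Category.assoc, e.hom_inv_id, Category.comp_id]

end Iso

section Aff
variable (X : Scheme.{u}) [IsAffine X] (𝓘 : X.IdealSheafData)

theorem isoSpec_inv_appTop' : X.isoSpec.inv.appTop = (Scheme.ΓSpecIso Γ(X, ⊤)).inv := by
  have h1 : X.isoSpec.hom.appTop ≫ X.isoSpec.inv.appTop = 𝟙 _ := by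
    rw [← Scheme.Hom.comp_appTop, X.isoSpec.inv_hom_id]
    rfl
  rw [Scheme.isoSpec_hom, Scheme.toSpecΓ_appTop] at h1
  rw [← cancel_epi (Scheme.ΓSpecIso Γ(X, ⊤)).hom, h1, Iso.hom_inv_id]

theorem comap_isoSpec_inv :
    𝓘.comap X.isoSpec.inv =
      idealSheaf (A := Γ(X, ⊤)) (𝓘.ideal ⟨⊤, isAffineOpen_top X⟩) := by
  apply Scheme.IdealSheafData.ext_of_isAffine
  rw [Groth.Agent.LD.QC.ideal_comap_of_le 𝓘 X.isoSpec.inv ⟨⊤, isAffineOpen_top X⟩
    ⟨⊤, isAffineOpen_top _⟩ le_top]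
  unfold idealSheaf
  rw [Scheme.IdealSheafData.ofIdealTop_ideal, Ideal.map_map]
  congr 1
  rw [← CommRingCat.hom_comp]
  congr 1
  have h1 : Scheme.Hom.appLE X.isoSpec.inv ⊤ ⊤ le_top = X.isoSpec.inv.appTop := by
    simp [Scheme.Hom.appLE]
  have h2 : (Spec Γ(X, ⊤)).presheaf.map (homOfLE (le_top : (⊤ : (Spec Γ(X, ⊤)).Opens) ≤ ⊤)).op
      = 𝟙 _ := by
    rw [← (Spec Γ(X, ⊤)).presheaf.map_id]; rfl
  erw [h1, h2, Category.comp_id, isoSpec_inv_appTop']
  rfl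

/-- **blow-ups of affine schemes exist.** -/
theorem exists_isBlowUp_of_isAffine :
    ∃ (X' : Scheme.{u}) (b : X' ⟶ X), BlowUp.IsBlowUp b 𝓘 := by
  refine ⟨Bl (A := Γ(X, ⊤)) (𝓘.ideal ⟨⊤, isAffineOpen_top X⟩),
    blMap (A := Γ(X, ⊤)) (𝓘.ideal ⟨⊤, isAffineOpen_top X⟩) ≫ X.isoSpec.inv, ?_⟩
  refine isBlowUp_comp_iso X.isoSpec.symm 𝓘 _ ?_
  change BlowUp.IsBlowUp _ (𝓘.comap X.isoSpec.inv)
  rw [comap_isoSpec_inv]
  exact isBlowUp_blMap _

end Aff

end Groth.Agent.H9.BLA
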