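import Mathlib
import Groth.Agent.Lib.Helper9.Misc.BLA9
import Groth.Agent.Lib.Lead.QC.BlowUpBC

/-! Helper9: blow-ups — gluing local blow-ups over the affine opens; existence of blow-ups (S8859). -/

set_option linter.style.haveILetI false
set_option linter.unusedSectionVars false
set_option linter.unusedVariables false

universe u
open CategoryTheory Limits AlgebraicGeometry TopologicalSpace Opposite

namespace Groth.Agent.H9.BLA

section Glue
variable {X : Scheme.{u}} (𝓘 : X.IdealSheafData)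
variable (B : X.affineOpens → Scheme.{u}) (β : ∀ U : X.affineOpens, B U ⟶ (U.1 : Scheme.{u}))
  (hβ : ∀ U : X.affineOpens, BlowUp.IsBlowUp (β U) (𝓘.comap U.1.ι))

include hβ in
theorem effCartier_trans {U V : X.affineOpens} (h : U ≤ V) :
    BlowUp.IsEffCartierIdeal ((𝓘.comap V.1.ι).comap (β U ≫ X.homOfLE h)) := by
  rw [← Scheme.IdealSheafData.comap_comp, Category.assoc, Scheme.homOfLE_ι,
    Scheme.IdealSheafData.comap_comp]
  exact (hβ U).1

/-- the transition maps between the local blow-ups. -/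
noncomputable def ρ {U V : X.affineOpens} (h : U ≤ V) : B U ⟶ B V :=
  ((hβ V).2 (B U) (β U ≫ X.homOfLE h) (effCartier_trans 𝓘 B β hβ h)).exists.choose

theorem ρ_spec {U V : X.affineOpens} (h : U ≤ V) :
    ρ 𝓘 B β hβ h ≫ β V = β U ≫ X.homOfLE h :=
  ((hβ V).2 (B U) (β U ≫ X.homOfLE h) (effCartier_trans 𝓘 B β hβ h)).exists.choose_spec

theorem ρ_unique {U V : X.affineOpens} (h : U ≤ V) (m : B U ⟶ B V)
    (hm : m ≫ β V = β U ≫ X.homOfLE h) : m = ρ 𝓘 B β hβ h := by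
  refine Groth.Agent.LD.QC.IsBlowUp.hom_ext (hβ V) _ _ ?_ ?_
  · rw [hm]; exact effCartier_trans 𝓘 B β hβ h
  · rw [hm, ρ_spec]

/-- the functor of local blow-ups. -/
noncomputable def glueFunctor : X.affineOpens ⥤ Scheme.{u} where
  obj := B
  map f := ρ 𝓘 B β hβ (leOfHom f)
  map_id U := (ρ_unique 𝓘 B β hβ _ _ (by
    rw [Category.id_comp]
    have : X.homOfLE (leOfHom (𝟙 U)) = 𝟙 _ := Scheme.homOfLE_rfl _ _
    rw [this, Category.comp_id])).symm
  map_comp {U V W} f g := (ρ_unique 𝓘 B β hβ _ _ (by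
    rw [Category.assoc, ρ_spec, ← Category.assoc, ρ_spec, Category.assoc, Scheme.homOfLE_homOfLE])).symm


/-- the structure maps as a natural transformation. -/
noncomputable def glueNatTrans :
    glueFunctor 𝓘 B β hβ ⟶ X.directedAffineCover.functorOfLocallyDirected where
  app U := β U
  naturality U V f := by
    change ρ 𝓘 B β hβ (leOfHom f) ≫ β V = β U ≫ X.directedAffineCover.trans f
    rw [ρ_spec]
    congr 1

theorem glue_equifibered : NatTrans.Equifibered (glueNatTrans 𝓘 B β hβ) := by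
  intro U V f
  have hUV : U ≤ V := leOfHom f
  change IsPullback (ρ 𝓘 B β hβ hUV) (β U) (β V) (X.directedAffineCover.trans f)
  have htr : X.directedAffineCover.trans f = X.homOfLE hUV := rfl
  rw [htr]
  have hbc : BlowUp.IsBlowUp (pullback.fst (X.homOfLE hUV) (β V)) (𝓘.comap U.1.ι) := by
    have := Groth.Agent.LD.QC.IsBlowUp.flat_baseChange (X.homOfLE hUV) (𝓘.comap V.1.ι) (β V) (hβ V)
    rwa [← Scheme.IdealSheafData.comap_comp, Scheme.homOfLE_ι] at this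
  obtain ⟨e, he⟩ := exists_iso_of_isBlowUp (hβ U) hbc
  have hsnd : e.hom ≫ pullback.snd (X.homOfLE hUV) (β V) = ρ 𝓘 B β hβ hUV := by
    refine ρ_unique 𝓘 B β hβ hUV _ ?_
    rw [Category.assoc, ← pullback.condition, ← Category.assoc, he]
  have hflip : IsPullback (β U) (ρ 𝓘 B β hβ hUV) (X.homOfLE hUV) (β V) :=
    IsPullback.of_iso_pullback ⟨(ρ_spec 𝓘 B β hβ hUV).symm⟩ e he hsnd
  exact hflip.flip

/-- the relative gluing datum of local blow-ups. -/
noncomputable def glueData : Scheme.Cover.RelativeGluingData X.directedAffineCover where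
  functor := glueFunctor 𝓘 B β hβ
  natTrans := glueNatTrans 𝓘 B β hβ
  equifibered := glue_equifibered 𝓘 B β hβ


/-- the glued morphism. -/
noncomputable abbrev gluedMap : (glueData 𝓘 B β hβ).glued ⟶ X := (glueData 𝓘 B β hβ).toBase

/-- the inclusion of a local blow-up into the glued scheme. -/
noncomputable abbrev gluedι (U : X.affineOpens) : B U ⟶ (glueData 𝓘 B β hβ).glued :=
  colimit.ι (glueData 𝓘 B β hβ).functor U

instance gluedι_isOpenImmersion (U : X.affineOpens) : IsOpenImmersion (gluedι 𝓘 B β hβ U) :=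
  (glueData 𝓘 B β hβ).cover.map_prop U

theorem gluedι_gluedMap (U : X.affineOpens) :
    gluedι 𝓘 B β hβ U ≫ gluedMap 𝓘 B β hβ = β U ≫ U.1.ι :=
  (glueData 𝓘 B β hβ).ι_toBase U

theorem gluedMap_preimage (U : X.affineOpens) :
    gluedMap 𝓘 B β hβ ⁻¹ᵁ U.1 = (gluedι 𝓘 B β hβ U).opensRange := by
  have := (glueData 𝓘 B β hβ).toBase_preimage_eq_opensRange_ι U
  refine Eq.trans ?_ this
  congr 1
  exact (Scheme.Opens.opensRange_ι U.1).symm

theorem gluedι_cover (x : (glueData 𝓘 B β hβ).glued) :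
    ∃ (U : X.affineOpens) (y : B U), gluedι 𝓘 B β hβ U y = x :=
  Scheme.IsLocallyDirected.ι_jointly_surjective (glueData 𝓘 B β hβ).functor x

theorem exists_affineOpens_mem (x : X) : ∃ U : X.affineOpens, x ∈ U.1 := by
  obtain ⟨U, hU, hx, -⟩ := exists_isAffineOpen_mem_and_subset (x := x) (U := ⊤) trivial
  exact ⟨⟨U, hU⟩, hx⟩

/-- **local blow-ups over the affine opens glue to a blow-up.** -/
theorem isBlowUp_gluedMap : BlowUp.IsBlowUp (gluedMap 𝓘 B β hβ) 𝓘 := by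
  refine isBlowUp_of_local _ _ ?_ ?_ ?_
  · refine Groth.Agent.H9.MDP.isEffCartierIdeal_of_comap (fun U : X.affineOpens => B U)
      (fun U => gluedι 𝓘 B β hβ U) (gluedι_cover 𝓘 B β hβ) _ ?_
    intro U
    rw [← Scheme.IdealSheafData.comap_comp, gluedι_gluedMap, Scheme.IdealSheafData.comap_comp]
    exact (hβ U).1
  · intro Y h₁ h₂ hw hE
    refine hom_ext_of_local h₁ h₂ (fun y => ?_)
    obtain ⟨U, hyU⟩ := exists_affineOpens_mem ((h₁ ≫ gluedMap 𝓘 B β hβ) y)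
    let W : Y.Opens := (h₁ ≫ gluedMap 𝓘 B β hβ) ⁻¹ᵁ U.1
    refine ⟨W, hyU, ?_⟩
    have hr₁ : Set.range (W.ι ≫ h₁) ⊆ Set.range (gluedι 𝓘 B β hβ U) := by
      rintro _ ⟨z, rfl⟩
      have hz : h₁ z.1 ∈ gluedMap 𝓘 B β hβ ⁻¹ᵁ U.1 := z.2
      rw [gluedMap_preimage] at hz
      exact hz
    have hr₂ : Set.range (W.ι ≫ h₂) ⊆ Set.range (gluedι 𝓘 B β hβ U) := by
      rintro _ ⟨z, rfl⟩
      have hz : (h₂ ≫ gluedMap 𝓘 B β hβ) z.1 ∈ U.1 := by rw [← hw]; exact z.2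
      have hz' : h₂ z.1 ∈ gluedMap 𝓘 B β hβ ⁻¹ᵁ U.1 := hz
      rw [gluedMap_preimage] at hz'
      exact hz'
    let k₁ := IsOpenImmersion.lift (gluedι 𝓘 B β hβ U) (W.ι ≫ h₁) hr₁
    let k₂ := IsOpenImmersion.lift (gluedι 𝓘 B β hβ U) (W.ι ≫ h₂) hr₂
    have hk₁ : k₁ ≫ gluedι 𝓘 B β hβ U = W.ι ≫ h₁ := IsOpenImmersion.lift_fac _ _ _
    have hk₂ : k₂ ≫ gluedι 𝓘 B β hβ U = W.ι ≫ h₂ := IsOpenImmersion.lift_fac _ _ _
    have e₁ : (k₁ ≫ β U) ≫ U.1.ι = W.ι ≫ h₁ ≫ gluedMap 𝓘 B β hβ := by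
      rw [Category.assoc, ← gluedι_gluedMap, ← Category.assoc, hk₁, Category.assoc]
    have e₂ : (k₂ ≫ β U) ≫ U.1.ι = W.ι ≫ h₁ ≫ gluedMap 𝓘 B β hβ := by
      rw [Category.assoc, ← gluedι_gluedMap, ← Category.assoc, hk₂, Category.assoc, hw]
    have hk : k₁ = k₂ := by
      refine Groth.Agent.LD.QC.IsBlowUp.hom_ext (hβ U) _ _ ?_ ?_
      · rw [← Scheme.IdealSheafData.comap_comp, e₁, Scheme.IdealSheafData.comap_comp]
        exact Groth.Agent.LD.QC.isEffCartierIdeal_comap_of_flat _ _ hE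
      · rw [← cancel_mono U.1.ι, e₁, e₂]
    rw [← hk₁, ← hk₂, hk]
  · intro Y g hE y
    obtain ⟨U, hyU⟩ := exists_affineOpens_mem (g y)
    have hE' : BlowUp.IsEffCartierIdeal ((𝓘.comap U.1.ι).comap (g ∣_ U.1)) := by
      rw [← Scheme.IdealSheafData.comap_comp, morphismRestrict_ι, Scheme.IdealSheafData.comap_comp]
      exact Groth.Agent.LD.QC.isEffCartierIdeal_comap_of_flat _ _ hE
    obtain ⟨k, hk, -⟩ := (hβ U).2 _ (g ∣_ U.1) hE'
    refine ⟨g ⁻¹ᵁ U.1, k ≫ gluedι 𝓘 B β hβ U, hyU, ?_⟩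
    rw [Category.assoc, gluedι_gluedMap, ← Category.assoc, hk, morphismRestrict_ι]

end Glue

/-- **S8859: blow-ups exist.** -/
theorem exists_isBlowUp (X : Scheme.{u}) (𝓘 : X.IdealSheafData) :
    ∃ (X' : Scheme.{u}) (b : X' ⟶ X), BlowUp.IsBlowUp b 𝓘 := by
  have h : ∀ U : X.affineOpens, ∃ (X' : Scheme.{u}) (b : X' ⟶ (U.1 : Scheme.{u})),
      BlowUp.IsBlowUp b (𝓘.comap U.1.ι) := by
    intro U
    haveI : IsAffine (U.1 : Scheme.{u}) := U.2
    exact exists_isBlowUp_of_isAffine _ _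
  choose B β hβ using h
  exact ⟨_, gluedMap 𝓘 B β hβ, isBlowUp_gluedMap 𝓘 B β hβ⟩

end Groth.Agent.H9.BLA
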