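import Mathlib
import Groth.Agent.Lib.Helper9.Misc.BLA10

/-! Helper9: blow-ups — the Rees ring of a finitely generated ideal is of finite type; the model blow-up is separated, and proper for f.g. ideals. -/

set_option linter.style.haveILetI false
set_option linter.unusedSectionVars false
set_option linter.unusedVariables false

universe u
open CategoryTheory Limits AlgebraicGeometry TopologicalSpace Opposite HomogeneousLocalization

namespace Groth.Agent.H9.BLA

section FT
variable {A : Type u} [CommRing A] (I : Ideal A)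

theorem mem_grading_one_iff_toA {x : Rees I} (hx : x ∈ grading I 1) : toA I x ∈ I := by
  have := toA_mem I hx
  simpa using this

/-- degree-one elements lie in the subalgebra generated by the `deg1 s`, `s ∈ S`, when `S` spans
`I`. -/
theorem deg_one_mem_adjoin (S : Set A) (hS : Ideal.span S = I) (x : Rees I)
    (hx : x ∈ grading I 1) :
    x ∈ Algebra.adjoin (grading I 0)
      {y : Rees I | ∃ (a : A) (ha : a ∈ I), a ∈ S ∧ y = deg1 I a ha} := by
  have hv : toA I x ∈ Ideal.span S := hS ▸ mem_grading_one_iff_toA I hx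
  suffices h : toA I x ∈ I ∧ ∀ z ∈ grading I 1, toA I z = toA I x →
      z ∈ Algebra.adjoin (grading I 0)
        {y : Rees I | ∃ (a : A) (ha : a ∈ I), a ∈ S ∧ y = deg1 I a ha} from h.2 x hx rfl
  generalize toA I x = v at hv
  induction hv using Submodule.span_induction with
  | mem v hvS =>
    have hvI : v ∈ I := hS ▸ Ideal.subset_span hvS
    refine ⟨hvI, fun z hz hzv => ?_⟩
    have : z = deg1 I v hvI := eq_of_toA_eq I hz (deg1_mem I v hvI) (by rw [hzv, toA_deg1])
    rw [this]
    exact Algebra.subset_adjoin ⟨v, hvI, hvS, rfl⟩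
  | zero =>
    refine ⟨zero_mem _, fun z hz hzv => ?_⟩
    rw [eq_zero_of_toA_eq_zero I hz hzv]
    exact zero_mem _
  | add v w _ _ hv hw =>
    refine ⟨add_mem hv.1 hw.1, fun z hz hzv => ?_⟩
    have : z = deg1 I v hv.1 + deg1 I w hw.1 :=
      eq_of_toA_eq I hz ((grading I 1).add_mem (deg1_mem I v hv.1) (deg1_mem I w hw.1))
        (by rw [hzv, map_add, toA_deg1, toA_deg1])
    rw [this]
    exact add_mem (hv.2 _ (deg1_mem I v hv.1) (toA_deg1 I v hv.1))
      (hw.2 _ (deg1_mem I w hw.1) (toA_deg1 I w hw.1))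
  | smul r v _ hv =>
    refine ⟨I.mul_mem_left r hv.1, fun z hz hzv => ?_⟩
    have : z = (algZero I r : Rees I) * deg1 I v hv.1 := by
      refine eq_of_toA_eq I hz ?_ ?_
      · have := SetLike.mul_mem_graded (A := grading I) (algZero I r).2 (deg1_mem I v hv.1)
        simpa using this
      · rw [hzv, map_mul, toA_algZero, toA_deg1, smul_eq_mul]
    rw [this]
    refine mul_mem ?_ (hv.2 _ (deg1_mem I v hv.1) (toA_deg1 I v hv.1))
    exact Subalgebra.algebraMap_mem _ (algZero I r)

theorem mem_adjoin_of_mem_grading (S : Set A) (hS : Ideal.span S = I) (n : ℕ) (x : Rees I)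
    (hx : x ∈ grading I n) :
    x ∈ Algebra.adjoin (grading I 0)
      {y : Rees I | ∃ (a : A) (ha : a ∈ I), a ∈ S ∧ y = deg1 I a ha} := by
  induction n generalizing x with
  | zero => exact Subalgebra.algebraMap_mem _ (⟨x, hx⟩ : grading I 0)
  | succ n ih =>
    have hc : toA I x ∈ I ^ n * I := by
      have := toA_mem I hx
      rwa [pow_succ] at this
    suffices h : toA I x ∈ I ^ (n + 1) ∧ ∀ z ∈ grading I (n + 1), toA I z = toA I x →
        z ∈ Algebra.adjoin (grading I 0)
          {y : Rees I | ∃ (a : A) (ha : a ∈ I), a ∈ S ∧ y = deg1 I a ha} from h.2 x hx rfl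
    generalize toA I x = c at hc
    refine Submodule.mul_induction_on hc ?_ ?_
    · intro u hu v hv
      refine ⟨by rw [pow_succ]; exact Ideal.mul_mem_mul hu hv, ?_⟩
      intro z hz hzc
      have hz' : z = DirectSum.of (fun n : ℕ => ↥(I ^ n)) n ⟨u, hu⟩ * deg1 I v hv := by
        refine eq_of_toA_eq I hz ?_ ?_
        · exact SetLike.mul_mem_graded (of_mem_grading I n _) (deg1_mem I v hv)
        · rw [hzc, map_mul, toA_of, toA_deg1]
      rw [hz']
      exact mul_mem (ih _ (of_mem_grading I n _)) (deg_one_mem_adjoin I S hS _ (deg1_mem I v hv))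
    · intro c₁ c₂ h₁ h₂
      refine ⟨Ideal.add_mem _ h₁.1 h₂.1, ?_⟩
      intro z hz hzc
      have hz' : z = DirectSum.of (fun n : ℕ => ↥(I ^ n)) (n + 1) ⟨c₁, h₁.1⟩ +
          DirectSum.of (fun n : ℕ => ↥(I ^ n)) (n + 1) ⟨c₂, h₂.1⟩ := by
        refine eq_of_toA_eq I hz ?_ ?_
        · exact (grading I (n + 1)).add_mem (of_mem_grading I _ _) (of_mem_grading I _ _)
        · rw [hzc, map_add, toA_of, toA_of]
      rw [hz']
      exact add_mem (h₁.2 _ (of_mem_grading I _ _) (toA_of I _ _))
        (h₂.2 _ (of_mem_grading I _ _) (toA_of I _ _))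

theorem adjoin_eq_top (S : Set A) (hS : Ideal.span S = I) :
    Algebra.adjoin (grading I 0)
      {y : Rees I | ∃ (a : A) (ha : a ∈ I), a ∈ S ∧ y = deg1 I a ha} = ⊤ := by
  rw [eq_top_iff]
  intro x _
  classical
  rw [← DirectSum.sum_support_decompose (grading I) x]
  exact Subalgebra.sum_mem _ fun n _ => mem_adjoin_of_mem_grading I S hS n _ (SetLike.coe_mem _)

theorem finiteType_of_fg (hI : I.FG) : Algebra.FiniteType (grading I 0) (Rees I) := by
  obtain ⟨S, hS⟩ := hI
  refine ⟨⟨?_, ?_⟩⟩
  · classical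
    exact S.attach.image (fun a => deg1 I a.1 (hS ▸ Ideal.subset_span a.2))
  · classical
    rw [← adjoin_eq_top I (↑S : Set A) hS]
    congr 1
    ext y
    simp only [Finset.coe_image, Finset.coe_attach, Set.image_univ, Set.mem_range, Subtype.exists,
      Finset.mem_coe, Set.mem_ofPred_eq]
    constructor
    · rintro ⟨a, ha, rfl⟩
      exact ⟨a, hS ▸ Ideal.subset_span ha, ha, rfl⟩
    · rintro ⟨a, haI, ha, rfl⟩
      exact ⟨a, ha, rfl⟩


instance isIso_algZero : IsIso (CommRingCat.ofHom (algZero I)) :=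
  (RingEquiv.ofBijective (algZero I) (algZero_bijective I)).toCommRingCatIso.isIso_hom

instance isSeparated_blMap : IsSeparated (blMap I) := by
  unfold blMap
  infer_instance

theorem isProper_blMap (hI : I.FG) : IsProper (blMap I) := by
  haveI := finiteType_of_fg I hI
  unfold blMap
  infer_instance

end FT

end Groth.Agent.H9.BLA
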