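import Mathlib
import Groth.Agent.Lib.Helper9.Misc.BLA11

/-! Helper9: blow-ups — restriction to opens, separatedness, properness for finite type centres. -/

set_option linter.style.haveILetI false
set_option linter.unusedSectionVars false
set_option linter.unusedVariables false

universe u
open CategoryTheory Limits AlgebraicGeometry TopologicalSpace Opposite

namespace Groth.Agent.H9.BLA

section General
variable {X X' : Scheme.{u}} {𝓘 : X.IdealSheafData} {b : X' ⟶ X}

/-- blow-ups can be transported along isomorphisms of the source. -/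
theorem isBlowUp_of_iso_source {X'' : Scheme.{u}} (e : X'' ≅ X') (hb : BlowUp.IsBlowUp b 𝓘) :
    BlowUp.IsBlowUp (e.hom ≫ b) 𝓘 := by
  refine ⟨?_, ?_⟩
  · rw [Scheme.IdealSheafData.comap_comp]
    exact Groth.Agent.LD.QC.isEffCartierIdeal_comap_of_flat _ _ hb.1
  · intro Y g hg
    obtain ⟨h, hh, hu⟩ := hb.2 Y g hg
    refine ⟨h ≫ e.inv, ?_, ?_⟩
    · change (h ≫ e.inv) ≫ e.hom ≫ b = g
      rw [Category.assoc, e.inv_hom_id_assoc, hh]
    · intro m hm
      have hm' : (m ≫ e.hom) ≫ b = g := by rw [Category.assoc]; exact hm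
      rw [← hu (m ≫ e.hom) hm', Category.assoc, e.hom_inv_id, Category.comp_id]

/-- the restriction of a blow-up over an open subscheme is a blow-up. -/
theorem IsBlowUp.restrict (hb : BlowUp.IsBlowUp b 𝓘) (U : X.Opens) :
    BlowUp.IsBlowUp (b ∣_ U) (𝓘.comap U.ι) := by
  have h1 := Groth.Agent.LD.QC.IsBlowUp.flat_baseChange U.ι 𝓘 b hb
  have hpb : IsPullback (b ∣_ U) (b ⁻¹ᵁ U).ι U.ι b := isPullback_morphismRestrict b U
  have h2 : hpb.isoPullback.hom ≫ pullback.fst U.ι b = b ∣_ U := hpb.isoPullback_hom_fst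
  rw [← h2]
  exact isBlowUp_of_iso_source hpb.isoPullback h1

end General

section Aff
variable (X : Scheme.{u}) [IsAffine X] (𝓘 : X.IdealSheafData)

/-- the model blow-up of an affine scheme. -/
theorem isBlowUp_affineModel :
    BlowUp.IsBlowUp (blMap (A := Γ(X, ⊤)) (𝓘.ideal ⟨⊤, isAffineOpen_top X⟩) ≫ X.isoSpec.inv) 𝓘 := by
  refine isBlowUp_comp_iso X.isoSpec.symm 𝓘 _ ?_
  change BlowUp.IsBlowUp _ (𝓘.comap X.isoSpec.inv)
  rw [comap_isoSpec_inv]
  exact isBlowUp_blMap _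

end Aff

section Props
variable {X X' : Scheme.{u}} {𝓘 : X.IdealSheafData} {b : X' ⟶ X}

theorem iSup_affineOpens_eq_top (X : Scheme.{u}) : ⨆ U : X.affineOpens, U.1 = ⊤ := by
  rw [eq_top_iff]
  intro x _
  obtain ⟨U, hx⟩ := exists_affineOpens_mem x
  exact Opens.mem_iSup.mpr ⟨U, hx⟩

/-- **every blow-up is separated.** -/
theorem IsBlowUp.isSeparated (hb : BlowUp.IsBlowUp b 𝓘) : IsSeparated b := by
  refine IsZariskiLocalAtTarget.of_iSup_eq_top (P := @IsSeparated)
    (fun U : X.affineOpens => U.1) (iSup_affineOpens_eq_top X) ?_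
  intro U
  haveI : IsAffine (U.1 : Scheme.{u}) := U.2
  obtain ⟨e, he⟩ := exists_iso_of_isBlowUp (IsBlowUp.restrict hb U.1)
    (isBlowUp_affineModel (U.1 : Scheme.{u}) (𝓘.comap U.1.ι))
  rw [← he]
  infer_instance

theorem fg_ideal_comap_ι (h𝓘 : BlowUp.IsFiniteTypeIdeal 𝓘) (U : X.affineOpens) :
    ((𝓘.comap U.1.ι).ideal ⟨⊤, isAffineOpen_top _⟩).FG := by
  rw [Groth.Agent.LD.QC.ideal_comap_of_le 𝓘 U.1.ι U ⟨⊤, isAffineOpen_top _⟩
    (by intro x _; exact x.2)]
  exact (h𝓘 U).map _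

/-- **a blow-up in an ideal sheaf of finite type is proper.** -/
theorem IsBlowUp.isProper (hb : BlowUp.IsBlowUp b 𝓘) (h𝓘 : BlowUp.IsFiniteTypeIdeal 𝓘) :
    IsProper b := by
  refine IsZariskiLocalAtTarget.of_iSup_eq_top (P := @IsProper)
    (fun U : X.affineOpens => U.1) (iSup_affineOpens_eq_top X) ?_
  intro U
  haveI : IsAffine (U.1 : Scheme.{u}) := U.2
  obtain ⟨e, he⟩ := exists_iso_of_isBlowUp (IsBlowUp.restrict hb U.1)
    (isBlowUp_affineModel (U.1 : Scheme.{u}) (𝓘.comap U.1.ι))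
  rw [← he]
  haveI := isProper_blMap _ (fg_ideal_comap_ι h𝓘 U)
  infer_instance

end Props

end Groth.Agent.H9.BLA
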