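import Mathlib

/-! Helper9: functoriality of `Proj`: isomorphisms from graded isomorphisms, compatibility with `toSpecZero`. -/

set_option linter.style.haveILetI false
set_option linter.unusedSectionVars false
set_option linter.unusedVariables false

universe u
open CategoryTheory AlgebraicGeometry HomogeneousIdeal HomogeneousLocalization Graded

namespace Groth.Agent.H9.BLA

section ProjIso
variable {A B σ τ : Type u} [CommRing A] [SetLike σ A] [AddSubgroupClass σ A]
  [CommRing B] [SetLike τ B] [AddSubgroupClass τ B]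
  {𝒜 : ℕ → σ} {ℬ : ℕ → τ} [GradedRing 𝒜] [GradedRing ℬ]
  (f : 𝒜 →+*ᵍ ℬ) (g : ℬ →+*ᵍ 𝒜)

theorem irrelevant_le_map_of_comp_eq_id (hfg : f.comp g = GradedRingHom.id ℬ) :
    ℬ₊ ≤ 𝒜₊.map f := by
  rw [HomogeneousIdeal.irrelevant_le]
  intro i hi x hx
  have hx' : x = f (g x) := by
    have := congrArg (fun h : ℬ →+*ᵍ ℬ => h x) hfg
    simpa using this.symm
  change x ∈ (𝒜₊.map f).toIdeal
  rw [HomogeneousIdeal.toIdeal_map, hx']
  exact Ideal.mem_map_of_mem _ (HomogeneousIdeal.mem_irrelevant_of_mem _ hi (g.map_mem hx))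

theorem projMap_congr {f f' : 𝒜 →+*ᵍ ℬ} (h : f = f') (hf : ℬ₊ ≤ 𝒜₊.map f) (hf' : ℬ₊ ≤ 𝒜₊.map f') :
    Proj.map f hf = Proj.map f' hf' := by
  subst h; rfl

/-- a graded isomorphism induces an isomorphism of `Proj`. -/
noncomputable def projIso (hfg : f.comp g = GradedRingHom.id ℬ) (hgf : g.comp f = GradedRingHom.id 𝒜) :
    Proj ℬ ≅ Proj 𝒜 where
  hom := Proj.map f (irrelevant_le_map_of_comp_eq_id f g hfg)
  inv := Proj.map g (irrelevant_le_map_of_comp_eq_id g f hgf)
  hom_inv_id := by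
    rw [← Proj.map_comp, projMap_congr hfg _ (by simp), Proj.map_id]
  inv_hom_id := by
    rw [← Proj.map_comp, projMap_congr hgf _ (by simp), Proj.map_id]

/-- the degree zero part of a graded ring hom. -/
def zeroHom : 𝒜 0 →+* ℬ 0 where
  toFun x := ⟨f x, f.map_mem x.2⟩
  map_one' := Subtype.ext (map_one f)
  map_mul' x y := Subtype.ext (map_mul f x.1 y.1)
  map_zero' := Subtype.ext (map_zero f)
  map_add' x y := Subtype.ext (map_add f x.1 y.1)

@[simp] theorem zeroHom_coe (x : 𝒜 0) : ((zeroHom f x : ℬ 0) : B) = f x := rfl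

set_option backward.isDefEq.respectTransparency false in
theorem projMap_toSpecZero (hf : ℬ₊ ≤ 𝒜₊.map f) :
    Proj.map f hf ≫ Proj.toSpecZero 𝒜 =
      Proj.toSpecZero ℬ ≫ Spec.map (CommRingCat.ofHom (zeroHom f)) := by
  refine (Proj.mapAffineOpenCover f hf).openCover.hom_ext _ _ fun s => ?_
  simp only [Scheme.AffineOpenCover.openCover_f, Proj.mapAffineOpenCover_f]
  rw [Proj.awayι_comp_map_assoc f hf s.1.2 _ s.2.2, Proj.awayι_toSpecZero,
    Proj.awayι_toSpecZero_assoc, ← Spec.map_comp, ← Spec.map_comp]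
  congr 1
  ext x
  simp only [CommRingCat.hom_comp, CommRingCat.hom_ofHom, RingHom.coe_comp, Function.comp_apply]
  simp [fromZeroRingHom, Away.map, HomogeneousLocalization.map_mk]

end ProjIso

end Groth.Agent.H9.BLA
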