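import Mathlib
import Groth.Prelude.Def_Rees
import Groth.Prelude.Def_ega3
import Groth.Prelude.Def_BlowUp2
import Groth.Agent.Lib.Helper9.Misc.BLA7
import Groth.Agent.Lib.Helper9.Misc.BLA12
import Groth.Agent.Lib.Helper9.Misc.BLA14

/-! Helper9: `Proj` of the prelude's graded Rees algebra `Rees.deg (reesAlgebra I)` is the blow-up (S16054). -/

set_option linter.style.haveILetI false
set_option linter.unusedSectionVars false
set_option linter.unusedVariables false

universe u
open CategoryTheory AlgebraicGeometry DirectSum Polynomial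

namespace Groth.Agent.H9.BLA

section RA
variable {A : Type u} [CommRing A] (I : Ideal A)

/-- `Iⁿ → A[X]`, `a ↦ a Xⁿ`. -/
noncomputable def monoHom (n : ℕ) : ↥(I ^ n) →+ A[X] :=
  (Polynomial.monomial n).toAddMonoidHom.comp (I ^ n).subtype.toAddMonoidHom

theorem monoHom_apply (n : ℕ) (x : ↥(I ^ n)) : monoHom I n x = Polynomial.monomial n x.1 := rfl

/-- `⨁ Iⁿ → A[X]`. -/
noncomputable def toPoly : Rees I →+* A[X] :=
  DirectSum.toSemiring (monoHom I) (by rw [monoHom_apply]; rfl)
    (by
      intro i j x y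
      rw [monoHom_apply, monoHom_apply, monoHom_apply, Polynomial.monomial_mul_monomial]
      rfl)

theorem toPoly_of (n : ℕ) (x : ↥(I ^ n)) :
    toPoly I (DirectSum.of (fun n : ℕ => ↥(I ^ n)) n x) = Polynomial.monomial n x.1 := by
  unfold toPoly
  rw [DirectSum.toSemiring_of, monoHom_apply]

theorem toPoly_mem (x : Rees I) : toPoly I x ∈ reesAlgebra I := by
  induction x using DirectSum.induction_on with
  | zero => rw [map_zero]; exact zero_mem _
  | of n y => rw [toPoly_of]; exact reesAlgebra.monomial_mem.mpr y.2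
  | add x y hx hy => rw [map_add]; exact add_mem hx hy

theorem coeff_toPoly (x : Rees I) (n : ℕ) : (toPoly I x).coeff n = ((x n : ↥(I ^ n)) : A) := by
  induction x using DirectSum.induction_on with
  | zero => simp
  | of m y =>
    rw [toPoly_of, Polynomial.coeff_monomial]
    by_cases h : m = n
    · subst h
      rw [if_pos rfl, DirectSum.of_eq_same]
    · rw [if_neg h, DirectSum.of_eq_of_ne _ _ _ (Ne.symm h)]
      rfl
  | add x y hx hy =>
    rw [map_add, Polynomial.coeff_add, hx, hy, DirectSum.add_apply]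
    rfl

/-- `⨁ Iⁿ → reesAlgebra I`. -/
noncomputable def toRees : Rees I →+* reesAlgebra I :=
  (toPoly I).codRestrict (reesAlgebra I) (toPoly_mem I)

theorem toRees_coe (x : Rees I) : ((toRees I x : reesAlgebra I) : A[X]) = toPoly I x := rfl

theorem toRees_injective : Function.Injective (toRees I) := by
  rw [injective_iff_map_eq_zero]
  intro x hx
  refine DFinsupp.ext fun n => Subtype.ext ?_
  have := coeff_toPoly I x n
  rw [← toRees_coe, hx] at this
  simpa using this.symm

theorem toRees_surjective : Function.Surjective (toRees I) := by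
  intro y
  refine ⟨∑ n ∈ y.1.support, DirectSum.of (fun n : ℕ => ↥(I ^ n)) n ⟨y.1.coeff n, y.2 n⟩, ?_⟩
  apply Subtype.ext
  rw [toRees_coe, map_sum]
  conv_rhs => rw [Polynomial.as_sum_support y.1]
  exact Finset.sum_congr rfl fun n _ => toPoly_of I n _

/-- `⨁ Iⁿ ≃ reesAlgebra I`. -/
noncomputable def reesEquiv : Rees I ≃+* reesAlgebra I :=
  RingEquiv.ofBijective (toRees I) ⟨toRees_injective I, toRees_surjective I⟩

theorem reesEquiv_apply (x : Rees I) : reesEquiv I x = toRees I x := rfl

theorem toRees_mem_deg {n : ℕ} {x : Rees I} (hx : x ∈ grading I n) :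
    toRees I x ∈ Rees.deg (reesAlgebra I) n := by
  obtain ⟨y, rfl⟩ := hx
  rw [Rees.mem_deg_iff]
  intro m hm
  rw [toRees_coe, toPoly_of, Polynomial.coeff_monomial, if_neg (Ne.symm hm)]

theorem symm_mem_grading {n : ℕ} {y : reesAlgebra I} (hy : y ∈ Rees.deg (reesAlgebra I) n) :
    (reesEquiv I).symm y ∈ grading I n := by
  rw [Rees.mem_deg_iff] at hy
  have h1 : y = toRees I (DirectSum.of (fun n : ℕ => ↥(I ^ n)) n ⟨y.1.coeff n, y.2 n⟩) := by
    apply Subtype.ext
    rw [toRees_coe, toPoly_of]
    ext m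
    rw [Polynomial.coeff_monomial]
    by_cases h : n = m
    · subst h; rw [if_pos rfl]
    · rw [if_neg h]; exact hy m (Ne.symm h)
  rw [h1, ← reesEquiv_apply, RingEquiv.symm_apply_apply]
  exact of_mem_grading I n _

/-- the graded hom `⨁ Iⁿ → reesAlgebra I`. -/
noncomputable def gradedTo : (grading I) →+*ᵍ (Rees.deg (reesAlgebra I)) where
  __ := toRees I
  map_mem hx := toRees_mem_deg I hx

/-- the graded hom `reesAlgebra I → ⨁ Iⁿ`. -/
noncomputable def gradedFrom : (Rees.deg (reesAlgebra I)) →+*ᵍ (grading I) where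
  __ := (reesEquiv I).symm.toRingHom
  map_mem hy := symm_mem_grading I hy

theorem gradedTo_apply (x : Rees I) : gradedTo I x = toRees I x := rfl
theorem gradedFrom_apply (y : reesAlgebra I) : gradedFrom I y = (reesEquiv I).symm y := rfl

theorem gradedTo_comp_gradedFrom : (gradedTo I).comp (gradedFrom I) = GradedRingHom.id _ := by
  ext y : 1
  rw [GradedRingHom.comp_apply, gradedTo_apply, gradedFrom_apply, ← reesEquiv_apply,
    RingEquiv.apply_symm_apply]
  rfl

theorem gradedFrom_comp_gradedTo : (gradedFrom I).comp (gradedTo I) = GradedRingHom.id _ := by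
  ext x : 1
  rw [GradedRingHom.comp_apply, gradedTo_apply, gradedFrom_apply, ← reesEquiv_apply,
    RingEquiv.symm_apply_apply]
  rfl

/-- `Proj` of the Rees algebra in both models. -/
noncomputable def projReesIso : Proj (Rees.deg (reesAlgebra I)) ≅ Bl I :=
  projIso (gradedTo I) (gradedFrom I) (gradedTo_comp_gradedFrom I) (gradedFrom_comp_gradedTo I)

theorem zeroHom_comp_algZero :
    (zeroHom (gradedTo I)).comp (algZero I) =
      algebraMap A (Rees.deg (reesAlgebra I) 0) := by
  ext a : 1
  apply Subtype.ext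
  apply Subtype.ext
  change ((toRees I (DirectSum.of (fun n : ℕ => ↥(I ^ n)) 0 ⟨a, _⟩) : reesAlgebra I) : A[X]) = _
  rw [toRees_coe, toPoly_of]
  rfl

theorem projReesIso_hom_blMap :
    (projReesIso I).hom ≫ blMap I = (Proj (Rees.deg (reesAlgebra I)) ↘ Spec (CommRingCat.of A)) := by
  change Proj.map (gradedTo I) _ ≫ Proj.toSpecZero (grading I) ≫ _ =
    Proj.toSpecZero _ ≫ Spec.map (CommRingCat.ofHom (algebraMap A (Rees.deg (reesAlgebra I) 0)))
  rw [← Category.assoc, projMap_toSpecZero, Category.assoc, ← Spec.map_comp, ← CommRingCat.ofHom_comp,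
    zeroHom_comp_algZero]

theorem S16054_main :
    BlowUp.IsBlowUp (Proj (Rees.deg (reesAlgebra I)) ↘ Spec (CommRingCat.of A))
      (Scheme.IdealSheafData.ofIdealTop (I.map (Scheme.ΓSpecIso (CommRingCat.of A)).inv.hom)) := by
  rw [← projReesIso_hom_blMap]
  exact isBlowUp_of_iso_source (projReesIso I) (isBlowUp_blMap I)

end RA

end Groth.Agent.H9.BLA
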