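import Mathlib
import Groth.Agent.Lib.Helper2.DimFG
import Groth.Agent.Lib.Helper3.TopDim

/-! Helper9: function field of an integral scheme locally of finite type over a field:
dimension = transcendence degree, Noether normalisation. -/

open IntermediateField AlgebraicGeometry CategoryTheory

universe u

namespace Groth.Agent.H9.FrobDegD

open Groth.Agent.H2.DimFG



/-- Noether normalisation in the fraction field. -/
theorem exists_algIndep_finite (k A L : Type u) [Field k] [CommRing A] [IsDomain A] [Algebra k A]
    [Algebra.FiniteType k A] [Field L] [Algebra A L] [IsFractionRing A L] [Algebra k L]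
    [IsScalarTower k A L] :
    ∃ s : ℕ, ringKrullDim A = s ∧ Algebra.trdeg k L = s ∧ ∃ x : Fin s → L,
      AlgebraicIndependent k x ∧ FiniteDimensional (adjoin k (Set.range x)) L := by
  obtain ⟨s, g, hinj, hint⟩ := exists_integral_inj_algHom_of_fg k A
  have hdim : ringKrullDim A = s := by
    algebraize [g.toRingHom]
    have : Algebra.IsIntegral (MvPolynomial (Fin s) k) A := ⟨hint⟩
    rw [ringKrullDim_eq_of_integral_injective (MvPolynomial (Fin s) k) A hinj,
      ringKrullDim_mvPolynomial_fin]
  obtain ⟨s', h1, h2⟩ := exists_dim_eq_trdeg k A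
  have hs : s' = s := by
    rw [hdim] at h1
    exact_mod_cast h1.symm
  subst hs
  have hAL : Function.Injective (algebraMap A L) := IsFractionRing.injective A L
  have hkA : Function.Injective (algebraMap k A) := (algebraMap k A).injective
  have : FaithfulSMul A L := (faithfulSMul_iff_algebraMap_injective _ _).mpr hAL
  have halgAL : Algebra.IsAlgebraic A L := IsLocalization.isAlgebraic L (nonZeroDivisors A)
  have htr : Algebra.trdeg k L = s' := by
    have h := trdeg_add_eq k A (A := L)
    rw [trdeg_eq_zero (R := A) (A := L), add_zero] at h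
    rw [← h, h2]
  refine ⟨s', hdim, htr, fun i => algebraMap A L (g (MvPolynomial.X i)), ?_, ?_⟩
  · have : (MvPolynomial.aeval fun i => algebraMap A L (g (MvPolynomial.X i))) =
        (IsScalarTower.toAlgHom k A L).comp g := by
      apply MvPolynomial.algHom_ext
      intro i
      simp
    show Function.Injective _
    rw [this]
    exact hAL.comp hinj
  · have hind : AlgebraicIndependent k fun i => algebraMap A L (g (MvPolynomial.X i)) := by
      have : (MvPolynomial.aeval fun i => algebraMap A L (g (MvPolynomial.X i))) =
          (IsScalarTower.toAlgHom k A L).comp g := by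
        apply MvPolynomial.algHom_ext
        intro i
        simp
      show Function.Injective _
      rw [this]
      exact hAL.comp hinj
    have hbasis : IsTranscendenceBasis k fun i => algebraMap A L (g (MvPolynomial.X i)) :=
      hind.isTranscendenceBasis_of_lift_trdeg_le_of_finite (by rw [htr]; simp)
    have halg := hbasis.isAlgebraic_field
    have : Algebra.EssFiniteType A L := Algebra.EssFiniteType.of_isLocalization L (nonZeroDivisors A)
    have : Algebra.EssFiniteType k L := Algebra.EssFiniteType.comp k A L
    have : Algebra.EssFiniteType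
        (adjoin k (Set.range fun i => algebraMap A L (g (MvPolynomial.X i)))) L :=
      Algebra.EssFiniteType.of_comp k _ L
    exact Algebra.finite_of_essFiniteType_of_isAlgebraic



section
variable {k : Type u} [Field k] {Y : Scheme.{u}} (g : Y ⟶ Spec (CommRingCat.of k))

/-- the structure ring hom `k → Γ(Y, V)` -/
noncomputable def toSections (V : Y.Opens) : k →+* Γ(Y, V) :=
  (g.appLE ⊤ V le_top).hom.comp (Scheme.ΓSpecIso (CommRingCat.of k)).inv.hom

theorem toSections_res {V W : Y.Opens} (h : W ≤ V) (c : k) :
    (Y.presheaf.map (homOfLE h).op).hom (toSections g V c) = toSections g W c := by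
  unfold toSections
  simp only [RingHom.comp_apply]
  have := Scheme.Hom.appLE_map g (U := ⊤) (V := V) (V' := W) le_top (homOfLE h).op
  exact congrArg (fun t => t.hom ((Scheme.ΓSpecIso (CommRingCat.of k)).inv.hom c)) this

theorem finiteType_toSections [LocallyOfFiniteType g] {V : Y.Opens} (hV : IsAffineOpen V) :
    (toSections g V).FiniteType := by
  unfold toSections
  refine RingHom.FiniteType.comp (g.finiteType_appLE (isAffineOpen_top _) hV le_top) ?_
  apply RingHom.FiniteType.of_surjective
  exact (ConcreteCategory.bijective_of_isIso (Scheme.ΓSpecIso (CommRingCat.of k)).inv).2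

variable [IsIntegral Y]

instance instNonemptyTop : Nonempty (⊤ : Y.Opens) := by
  obtain ⟨y⟩ := (inferInstance : Nonempty Y)
  exact ⟨⟨y, trivial⟩⟩

/-- the structure ring hom `k → K(Y)` -/
noncomputable def toFunctionField : k →+* Y.functionField :=
  (Y.germToFunctionField ⊤).hom.comp (toSections g ⊤)

theorem germToFunctionField_toSections (V : Y.Opens) [Nonempty V] (c : k) :
    (Y.germToFunctionField V).hom (toSections g V c) = toFunctionField g c := by
  unfold toFunctionField
  rw [RingHom.comp_apply, ← toSections_res g (le_top : V ≤ ⊤) c]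
  exact (Y.presheaf.germ_res_apply (homOfLE (le_top : V ≤ ⊤)) (genericPoint Y) _ _)

/-- dimension and transcendence data of the function field of an integral scheme locally of
finite type over a field -/
theorem exists_transcendence_data [LocallyOfFiniteType g] :
    let := (toFunctionField g).toAlgebra
    ∃ n : ℕ, topologicalKrullDim Y = n ∧ ∃ x : Fin n → Y.functionField,
      AlgebraicIndependent k x ∧ FiniteDimensional (adjoin k (Set.range x)) Y.functionField := by
  let algL := (toFunctionField g).toAlgebra
  -- data for every nonempty affine open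
  have key : ∀ (V : Y.Opens) (hV : IsAffineOpen V) [Nonempty V],
      ∃ s : ℕ, ringKrullDim Γ(Y, V) = s ∧ Algebra.trdeg k Y.functionField = s ∧
        ∃ x : Fin s → Y.functionField,
          AlgebraicIndependent k x ∧ FiniteDimensional (adjoin k (Set.range x)) Y.functionField := by
    intro V hV _
    let algA := (toSections g V).toAlgebra
    have : IsScalarTower k Γ(Y, V) Y.functionField := by
      apply IsScalarTower.of_algebraMap_eq
      intro c
      exact (germToFunctionField_toSections g V c).symm
    have : Algebra.FiniteType k Γ(Y, V) := finiteType_toSections g hV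
    have : IsFractionRing Γ(Y, V) Y.functionField :=
      functionField_isFractionRing_of_isAffineOpen Y V hV
    have : IsDomain Γ(Y, V) := inferInstance
    exact exists_algIndep_finite k Γ(Y, V) Y.functionField
  -- choose a nonempty affine open
  obtain ⟨y⟩ := (inferInstance : Nonempty Y)
  obtain ⟨_, ⟨V₀, hV₀, rfl⟩, hyV₀, -⟩ :=
    Y.isBasis_affineOpens.exists_subset_of_mem_open (a := y) (by trivial) isOpen_univ
  obtain ⟨V₀, hV₀, hyV₀⟩ : ∃ W : Y.Opens, IsAffineOpen W ∧ y ∈ W := ⟨V₀, hV₀, hyV₀⟩
  have : Nonempty V₀ := ⟨⟨y, hyV₀⟩⟩
  obtain ⟨n, hn1, hn2, x, hx1, hx2⟩ := key V₀ hV₀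
  refine ⟨n, ?_, x, hx1, hx2⟩
  have hdimV : ∀ (V : Y.Opens) (hV : IsAffineOpen V),
      topologicalKrullDim (V : Set Y) = ringKrullDim Γ(Y, V) := by
    intro V hV
    rw [← PrimeSpectrum.topologicalKrullDim_eq_ringKrullDim Γ(Y, V)]
    change _ = topologicalKrullDim (Spec Γ(Y, V))
    rw [← IsHomeomorph.topologicalKrullDim_eq _ hV.isoSpec.hom.homeomorph.isHomeomorph]
    rfl
  rw [Groth.Agent.H3.TopDim.dim_eq_iSup_open_cover (fun V : Y.affineOpens => (V : Y.Opens))
    (iSup_affineOpens_eq_top Y)]
  apply le_antisymm
  · apply iSup_le
    rintro ⟨V, hV⟩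
    rw [hdimV V hV]
    by_cases hne : Nonempty V
    · obtain ⟨s, hs1, hs2, -⟩ := key V hV
      rw [hs1]
      have : (s : Cardinal) = n := hs2.symm.trans hn2
      have : s = n := by exact_mod_cast this
      rw [this]
    · have : IsEmpty V := not_nonempty_iff.mp hne
      have hbot : V = ⊥ := by
        ext z
        simp only [TopologicalSpace.Opens.coe_bot, Set.mem_empty_iff_false, iff_false]
        intro hz
        exact this.false ⟨z, hz⟩
      subst hbot
      have : Subsingleton Γ(Y, (⊥ : Y.Opens)) := inferInstance
      rw [ringKrullDim_eq_bot_of_subsingleton]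
      exact bot_le
  · rw [← hn1, ← hdimV V₀ hV₀]
    exact le_iSup (fun V : Y.affineOpens => topologicalKrullDim ((V : Y.Opens) : Set Y)) ⟨V₀, hV₀⟩

end

end Groth.Agent.H9.FrobDegD
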