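import Mathlib

/-! Helper9: a mono into a group object closed under the operations is a group object. -/

set_option linter.style.haveILetI false
set_option linter.unusedSectionVars false

namespace Groth.Agent.H9.GZD

open CategoryTheory CategoryTheory.Limits MonoidalCategory CartesianMonoidalCategory MonObj GrpObj

section Generic

universe v₁ u₁

variable {C : Type u₁} [Category.{v₁} C] [CartesianMonoidalCategory C] {G H : C} [GrpObj G]
  (i : H ⟶ G) [Mono i]
  (one₀ : 𝟙_ C ⟶ H) (mul₀ : H ⊗ H ⟶ H) (inv₀ : H ⟶ H)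
  (h1 : one₀ ≫ i = η[G]) (hm : mul₀ ≫ i = (i ⊗ₘ i) ≫ μ[G]) (hi : inv₀ ≫ i = i ≫ ι[G])

include h1 hm in
/-- A subobject closed under the operations is a monoid object. -/
@[reducible] def monObjOfMono : MonObj H where
  one := one₀
  mul := mul₀
  one_mul := by
    rw [← cancel_mono i, Category.assoc, hm, ← tensorHom_id, tensorHom_comp_tensorHom_assoc, h1,
      Category.id_comp, MonoidalCategory.tensorHom_def', Category.assoc, MonObj.one_mul, leftUnitor_naturality]
  mul_one := by
    rw [← cancel_mono i, Category.assoc, hm, ← id_tensorHom, tensorHom_comp_tensorHom_assoc, h1,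
      Category.id_comp, MonoidalCategory.tensorHom_def, Category.assoc, MonObj.mul_one, rightUnitor_naturality]
  mul_assoc := by
    rw [← cancel_mono i]
    simp only [Category.assoc]
    rw [hm, ← tensorHom_id, tensorHom_comp_tensorHom_assoc, hm, Category.id_comp]
    rw [← id_tensorHom, tensorHom_comp_tensorHom_assoc, hm, Category.id_comp]
    have e1 : ((i ⊗ₘ i) ≫ μ[G]) ⊗ₘ i = ((i ⊗ₘ i) ⊗ₘ i) ≫ (μ[G] ▷ G) := by
      rw [← tensorHom_id, tensorHom_comp_tensorHom, Category.comp_id]
    have e2 : i ⊗ₘ ((i ⊗ₘ i) ≫ μ[G]) = (i ⊗ₘ (i ⊗ₘ i)) ≫ (G ◁ μ[G]) := by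
      rw [← id_tensorHom, tensorHom_comp_tensorHom, Category.comp_id]
    rw [e1, e2, Category.assoc, MonObj.mul_assoc, associator_naturality_assoc, Category.assoc]

include h1 hm hi in
/-- A subobject closed under the operations is a group object. -/
@[reducible] def grpObjOfMono : GrpObj H :=
  letI := monObjOfMono i one₀ mul₀ h1 hm
  { inv := inv₀
    left_inv := by
      show lift inv₀ (𝟙 H) ≫ mul₀ = toUnit _ ≫ one₀
      rw [← cancel_mono i, Category.assoc, hm, lift_map_assoc, hi, Category.id_comp,
        Category.assoc, h1]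
      have : lift (i ≫ ι[G]) i = i ≫ lift ι[G] (𝟙 G) := by
        rw [comp_lift, Category.comp_id]
      rw [this, Category.assoc, GrpObj.left_inv, ← Category.assoc]
      congr 1
      exact toUnit_unique _ _
    right_inv := by
      show lift (𝟙 H) inv₀ ≫ mul₀ = toUnit _ ≫ one₀
      rw [← cancel_mono i, Category.assoc, hm, lift_map_assoc, hi, Category.id_comp,
        Category.assoc, h1]
      have : lift i (i ≫ ι[G]) = i ≫ lift (𝟙 G) ι[G] := by
        rw [comp_lift, Category.comp_id]
      rw [this, Category.assoc, GrpObj.right_inv, ← Category.assoc]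
      congr 1
      exact toUnit_unique _ _ }

include h1 hm hi in
theorem isMonHom_ofMono :
    letI := grpObjOfMono i one₀ mul₀ inv₀ h1 hm hi
    IsMonHom i :=
  letI := grpObjOfMono i one₀ mul₀ inv₀ h1 hm hi
  { one_hom := h1
    mul_hom := hm }

end Generic

end Groth.Agent.H9.GZD
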