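import Mathlib

/-! Helper9: unit section vs diagonal of a group object (pullback squares); unramified iff unit section open immersion (S19473). -/

set_option linter.style.haveILetI false
set_option linter.unusedSectionVars false

namespace Groth.Agent.H9.GSF

universe u v

open CategoryTheory CategoryTheory.Limits MonoidalCategory CartesianMonoidalCategory MonObj GrpObj

section Cat

variable {C : Type u} [Category.{v} C] [CartesianMonoidalCategory C] (G : C) [GrpObj G]

/-- The unit is the base change of the diagonal along `g ↦ (g, e)`. -/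
theorem isPullback_unit_diag :
    IsPullback η[G] η[G] (lift (𝟙 G) (toUnit G ≫ η[G])) (lift (𝟙 G) (𝟙 G)) := by
  refine ⟨⟨?_⟩, ⟨PullbackCone.IsLimit.mk _ (fun s => toUnit _) ?_ ?_ ?_⟩⟩
  · rw [comp_lift, comp_lift, Category.comp_id, ← Category.assoc]
    congr 1
    rw [toUnit_unique (η[G] ≫ toUnit G) (𝟙 _), Category.id_comp]
  · intro s
    have h := s.condition
    have h1 := congrArg (· ≫ fst G G) h
    have h2 := congrArg (· ≫ snd G G) h
    simp only [Category.assoc, lift_fst, lift_snd, Category.comp_id] at h1 h2
    rw [h1, ← h2, ← Category.assoc]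
    congr 1
    exact toUnit_unique _ _
  · intro s
    have h := s.condition
    have h2 := congrArg (· ≫ snd G G) h
    simp only [Category.assoc, lift_snd, Category.comp_id] at h2
    rw [← h2, ← Category.assoc]
    congr 1
    exact toUnit_unique _ _
  · intro s m _ _
    exact toUnit_unique _ _

/-- The diagonal is the base change of the unit along `(g, h) ↦ g⁻¹ h`. -/
theorem isPullback_diag_unit :
    IsPullback (lift (𝟙 G) (𝟙 G)) (toUnit G) ((fst G G)⁻¹ * snd G G) η[G] := by
  refine ⟨⟨?_⟩, ⟨PullbackCone.IsLimit.mk _ (fun s => s.fst ≫ fst G G) ?_ ?_ ?_⟩⟩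
  · rw [MonObj.comp_mul, GrpObj.comp_inv, lift_fst, lift_snd, inv_mul_cancel, Hom.one_def]
  · intro s
    have h := s.condition
    rw [MonObj.comp_mul, GrpObj.comp_inv] at h
    have h' : (s.fst ≫ fst G G)⁻¹ * (s.fst ≫ snd G G) = 1 := by
      rw [h, Hom.one_def]
      congr 1
      exact toUnit_unique _ _
    have h2 : s.fst ≫ snd G G = s.fst ≫ fst G G := by
      have := congrArg (fun t => (s.fst ≫ fst G G) * t) h'
      simpa using this
    apply CartesianMonoidalCategory.hom_ext
    · rw [Category.assoc, lift_fst, Category.comp_id]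
    · rw [Category.assoc, lift_snd, Category.comp_id, h2]
  · intro s
    exact toUnit_unique _ _
  · intro s m hm _
    rw [← hm, Category.assoc, lift_fst, Category.comp_id]

end Cat

section Sch

open AlgebraicGeometry

variable {S : Scheme.{u}} (G : Over S) [GrpObj G]

theorem diag_left_eq : (lift (𝟙 G) (𝟙 G)).left = pullback.diagonal G.hom := by
  apply pullback.hom_ext
  · have : (lift (𝟙 G) (𝟙 G)).left ≫ (fst G G).left = 𝟙 _ := by
      rw [← Over.comp_left, lift_fst]; rfl
    rw [pullback.diagonal_fst]
    exact this
  · have : (lift (𝟙 G) (𝟙 G)).left ≫ (snd G G).left = 𝟙 _ := by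
      rw [← Over.comp_left, lift_snd]; rfl
    rw [pullback.diagonal_snd]
    exact this

theorem isOpenImmersion_diagonal_iff :
    IsOpenImmersion (pullback.diagonal G.hom) ↔ IsOpenImmersion η[G].left := by
  constructor
  · intro h
    have pb := (isPullback_unit_diag G).map (Over.forget S)
    have h' : IsOpenImmersion ((Over.forget S).map (lift (𝟙 G) (𝟙 G))) := by
      show IsOpenImmersion (lift (𝟙 G) (𝟙 G)).left
      rw [diag_left_eq]; exact h
    exact MorphismProperty.of_isPullback (P := @IsOpenImmersion) pb.flip h'
  · intro h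
    have pb := (isPullback_diag_unit G).map (Over.forget S)
    rw [← diag_left_eq]
    have h' : IsOpenImmersion ((Over.forget S).map η[G]) := h
    exact MorphismProperty.of_isPullback (P := @IsOpenImmersion) pb.flip h'

theorem S19473_main [LocallyOfFiniteType G.hom] :
    FormallyUnramified G.hom ↔ IsOpenImmersion η[G].left := by
  rw [← isOpenImmersion_diagonal_iff]
  constructor
  · intro h; infer_instance
  · intro h; infer_instance

end Sch

end Groth.Agent.H9.GSF
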