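import Mathlib

/-! Helper9: group schemes over a field: translations by residue field points; product of dense opens (S7823). -/

set_option linter.style.haveILetI false
set_option linter.unusedSectionVars false

namespace Groth.Agent.H9.GSA

universe u

open CategoryTheory CategoryTheory.Limits MonoidalCategory CartesianMonoidalCategory MonObj GrpObj
  AlgebraicGeometry

variable {k : Type u} [Field k] (G : Over (Spec (CommRingCat.of k))) [GrpObj G]

/-- The residue field point of `g` as an object over `Spec k`. -/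
noncomputable def ptT (g : G.left) : Over (Spec (CommRingCat.of k)) :=
  Over.mk (G.left.fromSpecResidueField g ≫ G.hom)

/-- The canonical morphism `Spec κ(g) ⟶ G` over `Spec k`. -/
noncomputable def ptHom (g : G.left) : ptT G g ⟶ G :=
  Over.homMk (G.left.fromSpecResidueField g) rfl

theorem ptHom_left_apply (g : G.left) (s : (ptT G g).left) : (ptHom G g).left s = g :=
  Scheme.fromSpecResidueField_apply g s

section Translate

variable {T : Over (Spec (CommRingCat.of k))} (γ₀ : T ⟶ G)

/-- `(t, u) ↦ (u, u⁻¹ γ(t))`. -/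
noncomputable def psi : T ⊗ G ⟶ G ⊗ G :=
  lift (snd T G) ((snd T G)⁻¹ * (fst T G ≫ γ₀))

theorem psi_mul : psi G γ₀ ≫ μ[G] = fst T G ≫ γ₀ := by
  rw [psi, ← Hom.mul_def, mul_inv_cancel_left]

theorem psi_fst : psi G γ₀ ≫ fst G G = snd T G := lift_fst _ _

theorem psi_snd : psi G γ₀ ≫ snd G G = (snd T G)⁻¹ * (fst T G ≫ γ₀) := lift_snd _ _

/-- `(t, u) ↦ (t, u⁻¹ γ(t))`. -/
noncomputable def alpha : T ⊗ G ⟶ T ⊗ G :=
  lift (fst T G) ((snd T G)⁻¹ * (fst T G ≫ γ₀))

/-- `(t, u) ↦ (t, γ(t) u⁻¹)`. -/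
noncomputable def beta : T ⊗ G ⟶ T ⊗ G :=
  lift (fst T G) ((fst T G ≫ γ₀) * (snd T G)⁻¹)

theorem alpha_fst : alpha G γ₀ ≫ fst T G = fst T G := lift_fst _ _
theorem alpha_snd : alpha G γ₀ ≫ snd T G = (snd T G)⁻¹ * (fst T G ≫ γ₀) := lift_snd _ _
theorem beta_fst : beta G γ₀ ≫ fst T G = fst T G := lift_fst _ _
theorem beta_snd : beta G γ₀ ≫ snd T G = (fst T G ≫ γ₀) * (snd T G)⁻¹ := lift_snd _ _

theorem alpha_beta : alpha G γ₀ ≫ beta G γ₀ = 𝟙 _ := by
  rw [beta, comp_lift, alpha_fst, MonObj.comp_mul, GrpObj.comp_inv, alpha_snd,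
    ← Category.assoc, alpha_fst, _root_.mul_inv_rev, _root_.inv_inv, mul_inv_cancel_left, lift_fst_snd]

theorem beta_alpha : beta G γ₀ ≫ alpha G γ₀ = 𝟙 _ := by
  rw [alpha, comp_lift, beta_fst, MonObj.comp_mul, GrpObj.comp_inv, beta_snd,
    ← Category.assoc, beta_fst, _root_.mul_inv_rev, _root_.inv_inv, inv_mul_cancel_right, lift_fst_snd]

/-- `alpha` as an isomorphism. -/
noncomputable def alphaIso : T ⊗ G ≅ T ⊗ G where
  hom := alpha G γ₀
  inv := beta G γ₀
  hom_inv_id := alpha_beta G γ₀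
  inv_hom_id := beta_alpha G γ₀

theorem psi_snd' : psi G γ₀ ≫ snd G G = alpha G γ₀ ≫ snd T G := by
  rw [psi_snd, alpha_snd]

end Translate

end Groth.Agent.H9.GSA

namespace Groth.Agent.H9.GSA

universe u

open CategoryTheory CategoryTheory.Limits MonoidalCategory CartesianMonoidalCategory MonObj GrpObj
  AlgebraicGeometry

variable {k : Type u} [Field k] (G : Over (Spec (CommRingCat.of k))) [GrpObj G]

theorem isOpenMap_snd_left (T : Over (Spec (CommRingCat.of k))) :
    IsOpenMap (snd T G).left := by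
  have : UniversallyOpen T.hom := inferInstance
  have h : UniversallyOpen (pullback.snd T.hom G.hom) := inferInstance
  exact (pullback.snd T.hom G.hom).isOpenMap

theorem S7823_main (U V : G.left.Opens) (hU : Dense (U : Set G.left))
    (hV : Dense (V : Set G.left)) :
    μ[G].left '' ((fst G G).left ⁻¹' (U : Set G.left) ∩ (snd G G).left ⁻¹' (V : Set G.left)) =
      Set.univ := by
  rw [Set.eq_univ_iff_forall]
  intro g
  let T := ptT G g
  let γ₀ := ptHom G g
  have hopen1 : IsOpenMap (snd T G).left := isOpenMap_snd_left G T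
  have hopen2 : IsOpenMap (alpha G γ₀ ≫ snd T G).left := by
    rw [Over.comp_left]
    have hiso : IsIso (alpha G γ₀).left :=
      (inferInstance : IsIso ((Over.forget _).map (alphaIso G γ₀).hom))
    exact hopen1.comp (alpha G γ₀).left.homeomorph.isOpenMap
  have hD1 : Dense ((snd T G).left ⁻¹' (U : Set G.left)) := hU.preimage hopen1
  have hD2 : Dense ((alpha G γ₀ ≫ snd T G).left ⁻¹' (V : Set G.left)) := hV.preimage hopen2
  have hO1 : IsOpen ((snd T G).left ⁻¹' (U : Set G.left)) :=
    U.2.preimage (snd T G).left.continuous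
  have hne : Nonempty (T ⊗ G).left := by
    have : Nonempty T.left := by
      show Nonempty (Spec (G.left.residueField g))
      infer_instance
    exact ⟨(lift (𝟙 T) γ₀).left this.some⟩
  obtain ⟨z, hz1, hz2⟩ := (hD1.inter_of_isOpen_left hD2 hO1).nonempty
  refine ⟨(psi G γ₀).left z, ⟨?_, ?_⟩, ?_⟩
  · show ((psi G γ₀).left ≫ (fst G G).left) z ∈ (U : Set G.left)
    rw [← Over.comp_left, psi_fst]
    exact hz1
  · show ((psi G γ₀).left ≫ (snd G G).left) z ∈ (V : Set G.left)
    rw [← Over.comp_left, psi_snd']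
    exact hz2
  · show ((psi G γ₀).left ≫ μ[G].left) z = g
    rw [← Over.comp_left, psi_mul, Over.comp_left]
    exact ptHom_left_apply G g _

end Groth.Agent.H9.GSA
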