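import Mathlib
import Groth.Agent.Lib.Helper9.Misc.GSA1

/-! Helper9: left translation isomorphisms on T x G; openness of T.W (S7459). -/

set_option linter.style.haveILetI false
set_option linter.unusedSectionVars false

namespace Groth.Agent.H9.GSA

universe u

open CategoryTheory CategoryTheory.Limits MonoidalCategory CartesianMonoidalCategory MonObj GrpObj
  AlgebraicGeometry

variable {k : Type u} [Field k] (G : Over (Spec (CommRingCat.of k))) [GrpObj G]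

section Sigma

variable {T : Over (Spec (CommRingCat.of k))} (γ₀ : T ⟶ G)

/-- `(t, u) ↦ (t, γ(t) u)`. -/
noncomputable def sigma : T ⊗ G ⟶ T ⊗ G :=
  lift (fst T G) ((fst T G ≫ γ₀) * snd T G)

/-- `(t, u) ↦ (t, γ(t)⁻¹ u)`. -/
noncomputable def sigmaInv : T ⊗ G ⟶ T ⊗ G :=
  lift (fst T G) ((fst T G ≫ γ₀)⁻¹ * snd T G)

theorem sigma_fst : sigma G γ₀ ≫ fst T G = fst T G := lift_fst _ _
theorem sigma_snd : sigma G γ₀ ≫ snd T G = (fst T G ≫ γ₀) * snd T G := lift_snd _ _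
theorem sigmaInv_fst : sigmaInv G γ₀ ≫ fst T G = fst T G := lift_fst _ _
theorem sigmaInv_snd : sigmaInv G γ₀ ≫ snd T G = (fst T G ≫ γ₀)⁻¹ * snd T G := lift_snd _ _

theorem sigma_sigmaInv : sigma G γ₀ ≫ sigmaInv G γ₀ = 𝟙 _ := by
  rw [sigmaInv, comp_lift, sigma_fst, MonObj.comp_mul, GrpObj.comp_inv, sigma_snd,
    ← Category.assoc, sigma_fst, inv_mul_cancel_left, lift_fst_snd]

theorem sigmaInv_sigma : sigmaInv G γ₀ ≫ sigma G γ₀ = 𝟙 _ := by
  rw [sigma, comp_lift, sigmaInv_fst, MonObj.comp_mul, sigmaInv_snd,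
    ← Category.assoc, sigmaInv_fst, mul_inv_cancel_left, lift_fst_snd]

/-- `sigma` as an isomorphism. -/
noncomputable def sigmaIso : T ⊗ G ≅ T ⊗ G where
  hom := sigma G γ₀
  inv := sigmaInv G γ₀
  hom_inv_id := sigma_sigmaInv G γ₀
  inv_hom_id := sigmaInv_sigma G γ₀

theorem isOpenMap_sigma_snd_left : IsOpenMap (sigma G γ₀ ≫ snd T G).left := by
  rw [Over.comp_left]
  have hiso : IsIso (sigma G γ₀).left :=
    (inferInstance : IsIso ((Over.forget _).map (sigmaIso G γ₀).hom))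
  exact (isOpenMap_snd_left G T).comp (sigma G γ₀).left.homeomorph.isOpenMap

theorem tensorHom_mul_eq {W : Over (Spec (CommRingCat.of k))} (j : W ⟶ G) :
    (γ₀ ⊗ₘ j) ≫ μ[G] = (T ◁ j) ≫ sigma G γ₀ ≫ snd T G := by
  rw [sigma_snd, MonObj.comp_mul, ← Category.assoc, whiskerLeft_fst, whiskerLeft_snd,
    Hom.mul_def]
  congr 1

end Sigma

theorem S7459_main (W : G.left.Opens) (T : Scheme.{u}) (f : T ⟶ G.left) :
    IsOpen (Set.range ⇑(((Over.homMk f rfl : Over.mk (f ≫ G.hom) ⟶ G) ⊗ₘ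
      (Over.homMk W.ι rfl : Over.mk (W.ι ≫ G.hom) ⟶ G)) ≫ μ[G]).left) := by
  rw [tensorHom_mul_eq, Over.comp_left, Scheme.Hom.comp_base, TopCat.coe_comp, Set.range_comp]
  apply isOpenMap_sigma_snd_left G _
  have : IsOpenImmersion (Over.mk (f ≫ G.hom) ◁
      (Over.homMk W.ι rfl : Over.mk (W.ι ≫ G.hom) ⟶ G)).left := by
    rw [Over.whiskerLeft_left]
    haveI : IsOpenImmersion (Over.homMk W.ι rfl : Over.mk (W.ι ≫ G.hom) ⟶ G).left :=
      inferInstanceAs (IsOpenImmersion W.ι)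
    infer_instance
  exact (Over.mk (f ≫ G.hom) ◁
      (Over.homMk W.ι rfl : Over.mk (W.ι ≫ G.hom) ⟶ G)).left.isOpenEmbedding.isOpen_range

end Groth.Agent.H9.GSA
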