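import Mathlib
import Groth.Agent.Lib.Helper9.Misc.GSA1
import Groth.Agent.Lib.Helper9.Misc.GSA2

/-! Helper9: group scheme over a field has a clopen neighbourhood of e that is a countable union of affines (S1865). -/

set_option linter.style.haveILetI false
set_option linter.unusedSectionVars false

namespace Groth.Agent.H9.GSD

universe u

open CategoryTheory CategoryTheory.Limits MonoidalCategory CartesianMonoidalCategory MonObj GrpObj
  AlgebraicGeometry Groth.Agent.H9.GSA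

variable {k : Type u} [Field k] (G : Over (Spec (CommRingCat.of k))) [GrpObj G]

theorem sigma_id_snd : sigma G (𝟙 G) ≫ snd G G = μ[G] := by
  rw [sigma_snd, Category.comp_id, Hom.mul_def, lift_fst_snd, Category.id_comp]

theorem isOpenMap_mul_left : IsOpenMap μ[G].left := by
  have h := isOpenMap_sigma_snd_left G (𝟙 G)
  rwa [sigma_id_snd] at h

theorem isCompact_inter_preimage (X Y : Over (Spec (CommRingCat.of k)))
    (A : X.left.Opens) (B : Y.left.Opens) (hA : IsCompact (A : Set X.left))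
    (hB : IsCompact (B : Set Y.left)) :
    IsCompact ((fst X Y).left ⁻¹' (A : Set X.left) ∩ (snd X Y).left ⁻¹' (B : Set Y.left)) := by
  have hcA : CompactSpace A := isCompact_iff_compactSpace.mp hA
  have hcB : CompactSpace B := isCompact_iff_compactSpace.mp hB
  have hqA : QuasiCompact (A.ι ≫ X.hom) := inferInstance
  have hqB : QuasiCompact (B.ι ≫ Y.hom) := inferInstance
  have hc : CompactSpace ↥(pullback (A.ι ≫ X.hom) (B.ι ≫ Y.hom)) := inferInstance
  have hr := Scheme.Pullback.range_map (A.ι ≫ X.hom) (B.ι ≫ Y.hom) X.hom Y.hom A.ι B.ι (𝟙 _)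
    (by simp) (by simp)
  rw [Scheme.Opens.range_ι, Scheme.Opens.range_ι] at hr
  have : (fst X Y).left ⁻¹' (A : Set X.left) ∩ (snd X Y).left ⁻¹' (B : Set Y.left) =
      Set.range (pullback.map (A.ι ≫ X.hom) (B.ι ≫ Y.hom) X.hom Y.hom A.ι B.ι (𝟙 _)
        (by simp) (by simp)) := hr.symm
  rw [this]
  exact isCompact_range (Scheme.Hom.continuous _)

/-- Iterated products `U₀ ⬝ U₀ ⬝ ⋯ ⬝ U₀`. -/
noncomputable def Hn (U₀ : Set G.left) : ℕ → Set G.left
  | 0 => U₀
  | n + 1 => μ[G].left '' ((fst G G).left ⁻¹' (Hn U₀ n) ∩ (snd G G).left ⁻¹' U₀)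

theorem Hn_zero (U₀ : Set G.left) : Hn G U₀ 0 = U₀ := rfl

theorem Hn_succ (U₀ : Set G.left) (n : ℕ) : Hn G U₀ (n + 1) =
    μ[G].left '' ((fst G G).left ⁻¹' (Hn G U₀ n) ∩ (snd G G).left ⁻¹' U₀) := rfl

theorem isOpen_Hn (U₀ : Set G.left) (hU : IsOpen U₀) (n : ℕ) : IsOpen (Hn G U₀ n) := by
  induction n with
  | zero => exact hU
  | succ n ih =>
    rw [Hn_succ]
    apply isOpenMap_mul_left G
    exact (ih.preimage (fst G G).left.continuous).inter (hU.preimage (snd G G).left.continuous)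

theorem isCompact_Hn (U₀ : Set G.left) (hU : IsOpen U₀) (hc : IsCompact U₀) (n : ℕ) :
    IsCompact (Hn G U₀ n) := by
  induction n with
  | zero => exact hc
  | succ n ih =>
    rw [Hn_succ]
    apply IsCompact.image _ μ[G].left.continuous
    exact isCompact_inter_preimage G G ⟨Hn G U₀ n, isOpen_Hn G U₀ hU n⟩ ⟨U₀, hU⟩ ih hc

theorem closure_iUnion_Hn_subset (U₀ : Set G.left) (hU : IsOpen U₀)
    (he : η[G].left (IsLocalRing.closedPoint k) ∈ U₀)
    (hsym : ∀ u ∈ U₀, ι[G].left u ∈ U₀) :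
    closure (⋃ n, Hn G U₀ n) ⊆ ⋃ n, Hn G U₀ n := by
  intro x hx
  let T := ptT G x
  let γ₀ := ptHom G x
  have hne : Nonempty T.left := by
    show Nonempty (Spec (G.left.residueField x))
    infer_instance
  let t₀ : T.left := hne.some
  let p : (T ⊗ G).left := (lift (𝟙 T) (toUnit T ≫ η[G])).left t₀
  have hp1 : (snd T G).left p ∈ U₀ := by
    show ((lift (𝟙 T) (toUnit T ≫ η[G])).left ≫ (snd T G).left) t₀ ∈ U₀
    rw [← Over.comp_left, lift_snd, Over.comp_left]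
    have : (toUnit T).left t₀ = IsLocalRing.closedPoint k :=
      Subsingleton.elim (α := Spec (CommRingCat.of k)) _ _
    show η[G].left ((toUnit T).left t₀) ∈ U₀
    rw [this]
    exact he
  have hp2 : (sigma G γ₀ ≫ snd T G).left p = x := by
    show ((lift (𝟙 T) (toUnit T ≫ η[G])).left ≫ (sigma G γ₀ ≫ snd T G).left) t₀ = x
    rw [← Over.comp_left, sigma_snd, MonObj.comp_mul, ← Category.assoc, lift_fst, lift_snd,
      Category.id_comp, ← Hom.one_def, _root_.mul_one]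
    exact ptHom_left_apply G x _
  have hNopen : IsOpen ((sigma G γ₀ ≫ snd T G).left '' ((snd T G).left ⁻¹' U₀)) :=
    isOpenMap_sigma_snd_left G γ₀ _ (hU.preimage (snd T G).left.continuous)
  have hxN : x ∈ (sigma G γ₀ ≫ snd T G).left '' ((snd T G).left ⁻¹' U₀) := ⟨p, hp1, hp2⟩
  obtain ⟨y, ⟨z, hz1, rfl⟩, hy⟩ := mem_closure_iff.mp hx _ hNopen hxN
  obtain ⟨n, hn⟩ := Set.mem_iUnion.mp hy
  refine Set.mem_iUnion.mpr ⟨n + 1, ?_⟩
  let ψ : T ⊗ G ⟶ G ⊗ G := lift (sigma G γ₀ ≫ snd T G) (snd T G ≫ ι[G])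
  have hψμ : ψ ≫ μ[G] = fst T G ≫ γ₀ := by
    rw [← Hom.mul_def, sigma_snd, ← Hom.inv_def, mul_inv_cancel_right]
  refine ⟨ψ.left z, ⟨?_, ?_⟩, ?_⟩
  · show (ψ.left ≫ (fst G G).left) z ∈ Hn G U₀ n
    rw [← Over.comp_left, lift_fst]
    exact hn
  · show (ψ.left ≫ (snd G G).left) z ∈ U₀
    rw [← Over.comp_left, lift_snd, Over.comp_left]
    exact hsym _ hz1
  · show (ψ.left ≫ μ[G].left) z = x
    rw [← Over.comp_left, hψμ, Over.comp_left]
    exact ptHom_left_apply G x _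

theorem S1865_main : ∃ U : G.left.Opens, IsClosed (U : Set G.left) ∧
    η[G].left (IsLocalRing.closedPoint k) ∈ U ∧ ∃ V : ℕ → G.left.Opens,
      (∀ n, IsAffineOpen (V n)) ∧ (U : Set G.left) = ⋃ n, (V n : Set G.left) := by
  set e : G.left := η[G].left (IsLocalRing.closedPoint k) with he_def
  obtain ⟨_, ⟨W₀, hW₀aff, rfl⟩, heW, -⟩ :=
    G.left.isBasis_affineOpens.exists_subset_of_mem_open (Set.mem_univ e) isOpen_univ
  have hiso : IsIso ι[G].left := (inferInstance : IsIso ((Over.forget _).map ι[G]))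
  let W' : G.left.Opens := ι[G].left ⁻¹ᵁ W₀
  have hW'aff : IsAffineOpen W' := hW₀aff.preimage_of_isIso ι[G].left
  let U₀ : G.left.Opens := W₀ ⊔ W'
  have hιι : ∀ u : G.left, ι[G].left (ι[G].left u) = u := by
    intro u
    show (ι[G].left ≫ ι[G].left) u = u
    rw [← Over.comp_left, GrpObj.inv_comp_inv]
    rfl
  have hsym : ∀ u ∈ (U₀ : Set G.left), ι[G].left u ∈ (U₀ : Set G.left) := by
    rintro u (hu | hu)
    · right
      show ι[G].left (ι[G].left u) ∈ W₀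
      rw [hιι]
      exact hu
    · left
      exact hu
  have heU : e ∈ (U₀ : Set G.left) := Or.inl heW
  have hU₀c : IsCompact (U₀ : Set G.left) := hW₀aff.isCompact.union hW'aff.isCompact
  have hopen : IsOpen (⋃ n, Hn G U₀ n) := isOpen_iUnion (isOpen_Hn G U₀ U₀.2)
  have hclosed : IsClosed (⋃ n, Hn G (U₀ : Set G.left) n) :=
    closure_subset_iff_isClosed.mp (closure_iUnion_Hn_subset G U₀ U₀.2 heU hsym)
  have hfin : ∀ n, ∃ s : Set G.left.affineOpens, s.Finite ∧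
      Hn G (U₀ : Set G.left) n = ⋃ i ∈ s, (i : Set G.left) := fun n =>
    isCompact_and_isOpen_iff_finite_and_eq_biUnion_affineOpens.mp
      ⟨isCompact_Hn G U₀ U₀.2 hU₀c n, isOpen_Hn G U₀ U₀.2 n⟩
  choose s hsfin hs using hfin
  let 𝒮 : Set G.left.affineOpens := insert ⟨W₀, hW₀aff⟩ (⋃ n, s n)
  have h𝒮c : 𝒮.Countable :=
    (Set.countable_iUnion fun n => (hsfin n).countable).insert _
  have h𝒮ne : 𝒮.Nonempty := ⟨_, Set.mem_insert _ _⟩
  obtain ⟨f, hf⟩ := h𝒮c.exists_eq_range h𝒮ne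
  refine ⟨⟨⋃ n, Hn G U₀ n, hopen⟩, hclosed, Set.mem_iUnion.mpr ⟨0, heU⟩, fun n => (f n).1,
    fun n => (f n).2, ?_⟩
  apply Set.Subset.antisymm
  · intro x hx
    obtain ⟨m, hm⟩ := Set.mem_iUnion.mp hx
    rw [hs m] at hm
    obtain ⟨i, hi, hxi⟩ := Set.mem_iUnion₂.mp hm
    have : i ∈ 𝒮 := Set.mem_insert_of_mem _ (Set.mem_iUnion.mpr ⟨m, hi⟩)
    rw [hf] at this
    obtain ⟨n, rfl⟩ := this
    exact Set.mem_iUnion.mpr ⟨n, hxi⟩
  · intro x hx
    obtain ⟨n, hn⟩ := Set.mem_iUnion.mp hx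
    replace hn : x ∈ ((f n : G.left.Opens) : Set G.left) := hn
    have : f n ∈ 𝒮 := hf ▸ Set.mem_range_self n
    rcases this with h | h
    · refine Set.mem_iUnion.mpr ⟨0, ?_⟩
      rw [h] at hn
      exact Or.inl hn
    · obtain ⟨m, hm⟩ := Set.mem_iUnion.mp h
      refine Set.mem_iUnion.mpr ⟨m, ?_⟩
      rw [hs m]
      exact Set.mem_iUnion₂.mpr ⟨f n, hm, hn⟩

end Groth.Agent.H9.GSD
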