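import Mathlib
import Groth.Agent.Lib.Helper9.Misc.GSA1
import Groth.Agent.Lib.Helper9.Misc.GSA2
import Groth.Agent.Lib.Helper9.Misc.GSD1

/-! Helper9: irreducible group schemes over a field are quasi-compact (S0349); open subgroups are closed (S0352). -/

set_option linter.style.haveILetI false
set_option linter.unusedSectionVars false

namespace Groth.Agent.H9.GSD

universe u

open CategoryTheory CategoryTheory.Limits MonoidalCategory CartesianMonoidalCategory MonObj GrpObj
  AlgebraicGeometry Groth.Agent.H9.GSA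

variable {k : Type u} [Field k] (G : Over (Spec (CommRingCat.of k))) [GrpObj G]

theorem S0349_main [IrreducibleSpace G.left] : CompactSpace G.left := by
  let x : G.left := η[G].left (IsLocalRing.closedPoint k)
  obtain ⟨_, ⟨U, hU, rfl⟩, hxU, -⟩ :=
    G.left.isBasis_affineOpens.exists_subset_of_mem_open (Set.mem_univ x) isOpen_univ
  have hd : Dense (U : Set G.left) := U.2.dense ⟨x, hxU⟩
  have h := S7823_main G U U hd hd
  constructor
  rw [← h]
  exact (isCompact_inter_preimage G G U U (IsAffineOpen.isCompact hU)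
    (IsAffineOpen.isCompact hU)).image μ[G].left.continuous

/-- An open "subgroup" subset of a group scheme over a field is closed. -/
theorem isClosed_of_subgroup (S : Set G.left) (hS : IsOpen S)
    (he : η[G].left (IsLocalRing.closedPoint k) ∈ S)
    (hinv : ∀ u ∈ S, ι[G].left u ∈ S)
    (hmul : ∀ w : (G ⊗ G).left, (fst G G).left w ∈ S → (snd G G).left w ∈ S → μ[G].left w ∈ S) :
    IsClosed S := by
  rw [← closure_subset_iff_isClosed]
  intro x hx
  let T := ptT G x
  let γ₀ := ptHom G x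
  have hne : Nonempty T.left := by
    show Nonempty (Spec (G.left.residueField x))
    infer_instance
  let t₀ : T.left := hne.some
  let p : (T ⊗ G).left := (lift (𝟙 T) (toUnit T ≫ η[G])).left t₀
  have hp1 : (snd T G).left p ∈ S := by
    show ((lift (𝟙 T) (toUnit T ≫ η[G])).left ≫ (snd T G).left) t₀ ∈ S
    rw [← Over.comp_left, lift_snd, Over.comp_left]
    have : (toUnit T).left t₀ = IsLocalRing.closedPoint k :=
      Subsingleton.elim (α := Spec (CommRingCat.of k)) _ _
    show η[G].left ((toUnit T).left t₀) ∈ S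
    rw [this]
    exact he
  have hp2 : (sigma G γ₀ ≫ snd T G).left p = x := by
    show ((lift (𝟙 T) (toUnit T ≫ η[G])).left ≫ (sigma G γ₀ ≫ snd T G).left) t₀ = x
    rw [← Over.comp_left, sigma_snd, MonObj.comp_mul, ← Category.assoc, lift_fst, lift_snd,
      Category.id_comp, ← Hom.one_def, _root_.mul_one]
    exact ptHom_left_apply G x _
  have hNopen : IsOpen ((sigma G γ₀ ≫ snd T G).left '' ((snd T G).left ⁻¹' S)) :=
    isOpenMap_sigma_snd_left G γ₀ _ (hS.preimage (snd T G).left.continuous)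
  have hxN : x ∈ (sigma G γ₀ ≫ snd T G).left '' ((snd T G).left ⁻¹' S) := ⟨p, hp1, hp2⟩
  obtain ⟨y, ⟨z, hz1, rfl⟩, hy⟩ := mem_closure_iff.mp hx _ hNopen hxN
  let ψ : T ⊗ G ⟶ G ⊗ G := lift (sigma G γ₀ ≫ snd T G) (snd T G ≫ ι[G])
  have hψμ : ψ ≫ μ[G] = fst T G ≫ γ₀ := by
    rw [← Hom.mul_def, sigma_snd, ← Hom.inv_def, mul_inv_cancel_right]
  have h1 : (fst G G).left (ψ.left z) ∈ S := by
    show (ψ.left ≫ (fst G G).left) z ∈ S
    rw [← Over.comp_left, lift_fst]
    exact hy
  have h2 : (snd G G).left (ψ.left z) ∈ S := by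
    show (ψ.left ≫ (snd G G).left) z ∈ S
    rw [← Over.comp_left, lift_snd, Over.comp_left]
    exact hinv _ hz1
  have h3 : μ[G].left (ψ.left z) = x := by
    show (ψ.left ≫ μ[G].left) z = x
    rw [← Over.comp_left, hψμ, Over.comp_left]
    exact ptHom_left_apply G x _
  rw [← h3]
  exact hmul _ h1 h2

theorem S0352_main (H : Over (Spec (CommRingCat.of k))) [GrpObj H] (ψ : H ⟶ G) [IsMonHom ψ]
    (h : IsOpen (Set.range ψ.left)) : IsClosed (Set.range ψ.left) := by
  apply isClosed_of_subgroup G _ h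
  · refine ⟨η[H].left (IsLocalRing.closedPoint k), ?_⟩
    show (η[H].left ≫ ψ.left) _ = _
    rw [← Over.comp_left, IsMonHom.one_hom]
  · rintro _ ⟨a, rfl⟩
    refine ⟨ι[H].left a, ?_⟩
    show (ι[H].left ≫ ψ.left) a = (ψ.left ≫ ι[G].left) a
    rw [← Over.comp_left, ← Over.comp_left, GrpObj.inv_hom]
  · intro w hw1 hw2
    have hr := Scheme.Pullback.range_map H.hom H.hom G.hom G.hom ψ.left ψ.left (𝟙 _)
      (by simp) (by simp)
    have hw : w ∈ Set.range (ψ ⊗ₘ ψ).left := by
      rw [Over.tensorHom_left, hr]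
      exact ⟨hw1, hw2⟩
    obtain ⟨w', rfl⟩ := hw
    refine ⟨μ[H].left w', ?_⟩
    show (μ[H].left ≫ ψ.left) w' = ((ψ ⊗ₘ ψ).left ≫ μ[G].left) w'
    rw [← Over.comp_left, ← Over.comp_left, IsMonHom.mul_hom]

end Groth.Agent.H9.GSD
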