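import Mathlib
import Groth.Agent.Lib.Helper9.Misc.GSA1
import Groth.Agent.Lib.Helper9.Misc.GSA2
import Groth.Agent.Lib.Helper9.Misc.GSD1
import Groth.Agent.Lib.Helper9.Misc.GSD2

/-! Helper9: subgroup subsets of group schemes over a field: closure is a subgroup; locally closed subgroups are closed; immersive homomorphisms are closed immersions (S0351). -/

set_option linter.style.haveILetI false
set_option linter.unusedSectionVars false

namespace Groth.Agent.H9.GSD

universe u

open CategoryTheory CategoryTheory.Limits MonoidalCategory CartesianMonoidalCategory MonObj GrpObj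
  AlgebraicGeometry Groth.Agent.H9.GSA

variable {k : Type u} [Field k] (G : Over (Spec (CommRingCat.of k))) [GrpObj G]

/-- Subsets of a group scheme that are "subgroups" on the level of points. -/
structure IsSubgrp (S : Set G.left) : Prop where
  one : η[G].left (IsLocalRing.closedPoint k) ∈ S
  inv : ∀ u ∈ S, ι[G].left u ∈ S
  mul : ∀ w : (G ⊗ G).left, (fst G G).left w ∈ S → (snd G G).left w ∈ S → μ[G].left w ∈ S

theorem isOpenMap_fst_left (T : Over (Spec (CommRingCat.of k))) :
    IsOpenMap (fst G T).left := by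
  have : UniversallyOpen T.hom := inferInstance
  have h : UniversallyOpen (pullback.fst G.hom T.hom) := inferInstance
  exact (pullback.fst G.hom T.hom).isOpenMap

section Trans

variable {T : Over (Spec (CommRingCat.of k))} (γ₀ : T ⟶ G)

theorem whiskerRight_mul : (γ₀ ▷ G) ≫ μ[G] = sigma G γ₀ ≫ snd T G := by
  rw [sigma_snd, Hom.mul_def]
  congr 1

theorem isOpenMap_whiskerRight_mul : IsOpenMap ((γ₀ ▷ G) ≫ μ[G]).left := by
  rw [whiskerRight_mul]
  exact isOpenMap_sigma_snd_left G γ₀

end Trans

theorem exists_lift_left (x : G.left) (w : (G ⊗ G).left) (hw : (fst G G).left w = x) :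
    ∃ z : (ptT G x ⊗ G).left, (ptHom G x ▷ G).left z = w := by
  have hr := Scheme.Pullback.range_map (ptT G x).hom G.hom G.hom G.hom (ptHom G x).left
    (𝟙 G : G ⟶ G).left (𝟙 _) (by simp) (by simp)
  have hw' : w ∈ Set.range (ptHom G x ⊗ₘ 𝟙 G).left := by
    rw [Over.tensorHom_left, hr]
    refine ⟨?_, ⟨(snd G G).left w, rfl⟩⟩
    show (fst G G).left w ∈ Set.range (G.left.fromSpecResidueField x)
    rw [Scheme.range_fromSpecResidueField, hw]
    rfl
  rw [tensorHom_id] at hw'
  exact hw'

theorem exists_lift_right (g : G.left) (w : (G ⊗ G).left) (hw : (snd G G).left w = g) :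
    ∃ z : (G ⊗ ptT G g).left, (G ◁ ptHom G g).left z = w := by
  have hr := Scheme.Pullback.range_map G.hom (ptT G g).hom G.hom G.hom (𝟙 G : G ⟶ G).left
    (ptHom G g).left (𝟙 _) (by simp) (by simp)
  have hw' : w ∈ Set.range (𝟙 G ⊗ₘ ptHom G g).left := by
    rw [Over.tensorHom_left, hr]
    refine ⟨⟨(fst G G).left w, rfl⟩, ?_⟩
    show (snd G G).left w ∈ Set.range (G.left.fromSpecResidueField g)
    rw [Scheme.range_fromSpecResidueField, hw]
    rfl
  rw [id_tensorHom] at hw'
  exact hw'

variable {G}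

theorem IsSubgrp.mul_closure_right_aux {S : Set G.left} (h : IsSubgrp G S) (x : G.left)
    (hx : x ∈ S) (z : (ptT G x ⊗ G).left) (hz : (snd (ptT G x) G).left z ∈ closure S) :
    ((ptHom G x ▷ G) ≫ μ[G]).left z ∈ closure S := by
  have hcont : Continuous ((ptHom G x ▷ G) ≫ μ[G]).left := Scheme.Hom.continuous _
  have hpre : (snd (ptT G x) G).left ⁻¹' closure S = closure ((snd (ptT G x) G).left ⁻¹' S) :=
    (isOpenMap_snd_left G (ptT G x)).preimage_closure_eq_closure_preimage
      (Scheme.Hom.continuous _) S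
  have hz' : z ∈ closure ((snd (ptT G x) G).left ⁻¹' S) := by
    rw [← hpre]; exact hz
  have himg : ((ptHom G x ▷ G) ≫ μ[G]).left '' ((snd (ptT G x) G).left ⁻¹' S) ⊆ S := by
    rintro _ ⟨y, hy, rfl⟩
    rw [Over.comp_left]
    apply h.mul
    · show ((ptHom G x ▷ G).left ≫ (fst G G).left) y ∈ S
      rw [← Over.comp_left, whiskerRight_fst, Over.comp_left]
      show (ptHom G x).left _ ∈ S
      rw [ptHom_left_apply]
      exact hx
    · show ((ptHom G x ▷ G).left ≫ (snd G G).left) y ∈ S
      rw [← Over.comp_left, whiskerRight_snd]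
      exact hy
  exact closure_mono himg (image_closure_subset_closure_image hcont ⟨z, hz', rfl⟩)

theorem IsSubgrp.mul_closure_right {S : Set G.left} (h : IsSubgrp G S) (w : (G ⊗ G).left)
    (h1 : (fst G G).left w ∈ S) (h2 : (snd G G).left w ∈ closure S) :
    μ[G].left w ∈ closure S := by
  generalize hx : (fst G G).left w = x at h1
  obtain ⟨z, hz⟩ := exists_lift_left G x w hx
  have hs : (snd (ptT G x) G).left z = (snd G G).left w := by
    have : ((ptHom G x ▷ G).left ≫ (snd G G).left) z = (snd G G).left w := by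
      show (snd G G).left ((ptHom G x ▷ G).left z) = _
      rw [hz]
    rwa [← Over.comp_left, whiskerRight_snd] at this
  have := h.mul_closure_right_aux x h1 z (by rw [hs]; exact h2)
  rw [Over.comp_left] at this
  have h3 : ((ptHom G x ▷ G).left ≫ μ[G].left) z = μ[G].left w := by
    show μ[G].left ((ptHom G x ▷ G).left z) = _
    rw [hz]
  rw [← h3]
  exact this

theorem IsSubgrp.mul_closure_aux {S : Set G.left} (h : IsSubgrp G S) (g : G.left)
    (hg : g ∈ closure S) (z : (G ⊗ ptT G g).left) (hz : (fst G (ptT G g)).left z ∈ closure S) :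
    ((G ◁ ptHom G g) ≫ μ[G]).left z ∈ closure S := by
  have hcont : Continuous ((G ◁ ptHom G g) ≫ μ[G]).left := Scheme.Hom.continuous _
  have hpre : (fst G (ptT G g)).left ⁻¹' closure S = closure ((fst G (ptT G g)).left ⁻¹' S) :=
    (isOpenMap_fst_left G (ptT G g)).preimage_closure_eq_closure_preimage
      (Scheme.Hom.continuous _) S
  have hz' : z ∈ closure ((fst G (ptT G g)).left ⁻¹' S) := by
    rw [← hpre]; exact hz
  have himg : ((G ◁ ptHom G g) ≫ μ[G]).left '' ((fst G (ptT G g)).left ⁻¹' S) ⊆ closure S := by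
    rintro _ ⟨y, hy, rfl⟩
    rw [Over.comp_left]
    apply h.mul_closure_right
    · show ((G ◁ ptHom G g).left ≫ (fst G G).left) y ∈ S
      rw [← Over.comp_left, whiskerLeft_fst]
      exact hy
    · show ((G ◁ ptHom G g).left ≫ (snd G G).left) y ∈ closure S
      rw [← Over.comp_left, whiskerLeft_snd, Over.comp_left]
      show (ptHom G g).left _ ∈ closure S
      rw [ptHom_left_apply]
      exact hg
  have := closure_mono himg (image_closure_subset_closure_image hcont ⟨z, hz', rfl⟩)
  rwa [closure_closure] at this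

theorem IsSubgrp.mul_closure {S : Set G.left} (h : IsSubgrp G S) (w : (G ⊗ G).left)
    (h1 : (fst G G).left w ∈ closure S) (h2 : (snd G G).left w ∈ closure S) :
    μ[G].left w ∈ closure S := by
  generalize hx : (snd G G).left w = g at h2
  obtain ⟨z, hz⟩ := exists_lift_right G g w hx
  have hs : (fst G (ptT G g)).left z = (fst G G).left w := by
    have : ((G ◁ ptHom G g).left ≫ (fst G G).left) z = (fst G G).left w := by
      show (fst G G).left ((G ◁ ptHom G g).left z) = _
      rw [hz]
    rwa [← Over.comp_left, whiskerLeft_fst] at this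
  have := h.mul_closure_aux g h2 z (by rw [hs]; exact h1)
  rw [Over.comp_left] at this
  have h3 : ((G ◁ ptHom G g).left ≫ μ[G].left) z = μ[G].left w := by
    show μ[G].left ((G ◁ ptHom G g).left z) = _
    rw [hz]
  rw [← h3]
  exact this

theorem IsSubgrp.closure {S : Set G.left} (h : IsSubgrp G S) : IsSubgrp G (closure S) where
  one := subset_closure h.one
  inv := by
    intro u hu
    have hcont : Continuous ι[G].left := Scheme.Hom.continuous _
    have himg : ι[G].left '' S ⊆ S := by
      rintro _ ⟨y, hy, rfl⟩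
      exact h.inv y hy
    exact closure_mono himg (image_closure_subset_closure_image hcont ⟨u, hu, rfl⟩)
  mul := h.mul_closure

theorem IsSubgrp.isClosed_of_isLocallyClosed {S : Set G.left} (h : IsSubgrp G S)
    (hl : IsLocallyClosed S) : IsClosed S := by
  obtain ⟨O, Z, hO, hZ, hSOZ⟩ := hl
  have hC := h.closure
  have hCO : _root_.closure S ∩ O ⊆ S := by
    rintro y ⟨hy1, hy2⟩
    rw [hSOZ]
    refine ⟨hy2, ?_⟩
    have : _root_.closure S ⊆ Z := by
      apply closure_minimal _ hZ
      rw [hSOZ]; exact Set.inter_subset_right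
    exact this hy1
  have hSO : S ⊆ O := by rw [hSOZ]; exact Set.inter_subset_left
  rw [← closure_subset_iff_isClosed]
  intro x hx
  let T := ptT G x
  let γ₀ := ptHom G x
  have hne : Nonempty T.left := by
    show Nonempty (Spec (G.left.residueField x))
    infer_instance
  let t₀ : T.left := hne.some
  let p : (T ⊗ G).left := (lift (𝟙 T) (toUnit T ≫ η[G])).left t₀
  have hp1 : (snd T G).left p ∈ O := by
    show ((lift (𝟙 T) (toUnit T ≫ η[G])).left ≫ (snd T G).left) t₀ ∈ O
    rw [← Over.comp_left, lift_snd, Over.comp_left]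
    have : (toUnit T).left t₀ = IsLocalRing.closedPoint k :=
      Subsingleton.elim (α := Spec (CommRingCat.of k)) _ _
    show η[G].left ((toUnit T).left t₀) ∈ O
    rw [this]
    exact hSO h.one
  have hp2 : (sigma G γ₀ ≫ snd T G).left p = x := by
    show ((lift (𝟙 T) (toUnit T ≫ η[G])).left ≫ (sigma G γ₀ ≫ snd T G).left) t₀ = x
    rw [← Over.comp_left, sigma_snd, MonObj.comp_mul, ← Category.assoc, lift_fst, lift_snd,
      Category.id_comp, ← Hom.one_def, _root_.mul_one]
    exact ptHom_left_apply G x _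
  have hNopen : IsOpen ((sigma G γ₀ ≫ snd T G).left '' ((snd T G).left ⁻¹' O)) :=
    isOpenMap_sigma_snd_left G γ₀ _ (hO.preimage (snd T G).left.continuous)
  have hxN : x ∈ (sigma G γ₀ ≫ snd T G).left '' ((snd T G).left ⁻¹' O) := ⟨p, hp1, hp2⟩
  obtain ⟨y, ⟨z, hz1, rfl⟩, hy⟩ := mem_closure_iff.mp hx _ hNopen hxN
  -- `snd z ∈ closure S`
  have hz2 : (snd T G).left z ∈ _root_.closure S := by
    let ψ' : T ⊗ G ⟶ G ⊗ G := lift (fst T G ≫ γ₀ ≫ ι[G]) (sigma G γ₀ ≫ snd T G)
    have hψ'μ : ψ' ≫ μ[G] = snd T G := by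
      rw [← Hom.mul_def, sigma_snd, ← Category.assoc, ← Hom.inv_def, inv_mul_cancel_left]
    have h1 : (fst G G).left (ψ'.left z) ∈ _root_.closure S := by
      show (ψ'.left ≫ (fst G G).left) z ∈ _root_.closure S
      rw [← Over.comp_left, lift_fst, Over.comp_left, Over.comp_left]
      show ι[G].left (γ₀.left _) ∈ _root_.closure S
      rw [ptHom_left_apply]
      exact hC.inv _ hx
    have h2 : (snd G G).left (ψ'.left z) ∈ _root_.closure S := by
      show (ψ'.left ≫ (snd G G).left) z ∈ _root_.closure S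
      rw [← Over.comp_left, lift_snd]
      exact subset_closure hy
    have h3 : μ[G].left (ψ'.left z) = (snd T G).left z := by
      show (ψ'.left ≫ μ[G].left) z = _
      rw [← Over.comp_left, hψ'μ]
    rw [← h3]
    exact hC.mul _ h1 h2
  have hz3 : (snd T G).left z ∈ S := hCO ⟨hz2, hz1⟩
  let ψ : T ⊗ G ⟶ G ⊗ G := lift (sigma G γ₀ ≫ snd T G) (snd T G ≫ ι[G])
  have hψμ : ψ ≫ μ[G] = fst T G ≫ γ₀ := by
    rw [← Hom.mul_def, sigma_snd, ← Hom.inv_def, mul_inv_cancel_right]
  have h1 : (fst G G).left (ψ.left z) ∈ S := by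
    show (ψ.left ≫ (fst G G).left) z ∈ S
    rw [← Over.comp_left, lift_fst]
    exact hy
  have h2 : (snd G G).left (ψ.left z) ∈ S := by
    show (ψ.left ≫ (snd G G).left) z ∈ S
    rw [← Over.comp_left, lift_snd, Over.comp_left]
    exact h.inv _ hz3
  have h3 : μ[G].left (ψ.left z) = x := by
    show (ψ.left ≫ μ[G].left) z = x
    rw [← Over.comp_left, hψμ, Over.comp_left]
    exact ptHom_left_apply G x _
  rw [← h3]
  exact h.mul _ h1 h2

theorem isSubgrp_range (H : Over (Spec (CommRingCat.of k))) [GrpObj H] (ψ : H ⟶ G)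
    [IsMonHom ψ] : IsSubgrp G (Set.range ψ.left) where
  one := by
    refine ⟨η[H].left (IsLocalRing.closedPoint k), ?_⟩
    show (η[H].left ≫ ψ.left) _ = _
    rw [← Over.comp_left, IsMonHom.one_hom]
  inv := by
    rintro _ ⟨a, rfl⟩
    refine ⟨ι[H].left a, ?_⟩
    show (ι[H].left ≫ ψ.left) a = (ψ.left ≫ ι[G].left) a
    rw [← Over.comp_left, ← Over.comp_left, GrpObj.inv_hom]
  mul := by
    intro w hw1 hw2
    have hr := Scheme.Pullback.range_map H.hom H.hom G.hom G.hom ψ.left ψ.left (𝟙 _)
      (by simp) (by simp)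
    have hw : w ∈ Set.range (ψ ⊗ₘ ψ).left := by
      rw [Over.tensorHom_left, hr]
      exact ⟨hw1, hw2⟩
    obtain ⟨w', rfl⟩ := hw
    refine ⟨μ[H].left w', ?_⟩
    show (μ[H].left ≫ ψ.left) w' = ((ψ ⊗ₘ ψ).left ≫ μ[G].left) w'
    rw [← Over.comp_left, ← Over.comp_left, IsMonHom.mul_hom]

theorem S0351_main (H : Over (Spec (CommRingCat.of k))) [GrpObj H] (i : H ⟶ G) [IsMonHom i]
    [IsImmersion i.left] : IsClosedImmersion i.left :=
  IsClosedImmersion.of_isPreimmersion _
    ((isSubgrp_range H i).isClosed_of_isLocallyClosed i.left.isLocallyClosed_range)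

end Groth.Agent.H9.GSD
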