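import Mathlib

/-! Helper9: K-points and translations of a group scheme over a field. -/

set_option linter.style.haveILetI false
set_option linter.unusedSectionVars false

namespace Groth.Agent.H9.GSC

universe u

open CategoryTheory CategoryTheory.Limits MonoidalCategory CartesianMonoidalCategory MonObj GrpObj
  AlgebraicGeometry

variable {K : Type u} [Field K] (G : Over (Spec (CommRingCat.of K))) [GrpObj G]

/-- The point of `G` underlying a `K`-point. -/
noncomputable def pt (a : 𝟙_ (Over (Spec (CommRingCat.of K))) ⟶ G) : G.left :=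
  a.left (IsLocalRing.closedPoint K)

variable {G}

theorem pt_comp (a : 𝟙_ (Over (Spec (CommRingCat.of K))) ⟶ G) (φ : G ⟶ G) :
    φ.left (pt G a) = pt G (a ≫ φ) := rfl

theorem isClosed_pt (a : 𝟙_ (Over (Spec (CommRingCat.of K))) ⟶ G) : IsClosed {pt G a} := by
  let p : Spec (CommRingCat.of K) ⟶ G.left := a.left
  have h : p ≫ G.hom = 𝟙 _ := Over.w a
  have := isClosedImmersion_of_comp_eq_id _ _ h
  have h2 := p.isClosedEmbedding.isClosed_range
  have h3 : Set.range p = {pt G a} := by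
    ext y
    constructor
    · rintro ⟨s, rfl⟩
      have hs : s = IsLocalRing.closedPoint K := Subsingleton.elim _ _
      rw [hs]; rfl
    · rintro rfl
      exact ⟨IsLocalRing.closedPoint K, rfl⟩
  rwa [h3] at h2

variable (G)

/-- Constant morphism with value a `K`-point. -/
noncomputable def cst (a : 𝟙_ (Over (Spec (CommRingCat.of K))) ⟶ G)
    (X : Over (Spec (CommRingCat.of K))) : X ⟶ G := toUnit X ≫ a

variable {G}

theorem comp_cst (a : 𝟙_ (Over (Spec (CommRingCat.of K))) ⟶ G)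
    {X Y : Over (Spec (CommRingCat.of K))} (φ : X ⟶ Y) : φ ≫ cst G a Y = cst G a X := by
  rw [cst, cst, ← Category.assoc]
  congr 1
  exact toUnit_unique _ _

theorem pt_cst (a b : 𝟙_ (Over (Spec (CommRingCat.of K))) ⟶ G) : b ≫ cst G a G = a := by
  rw [cst, ← Category.assoc]
  have : b ≫ toUnit G = 𝟙 _ := toUnit_unique _ _
  rw [this, Category.id_comp]

/-- Left translation `y ↦ a y`. -/
noncomputable def lmul (a : 𝟙_ (Over (Spec (CommRingCat.of K))) ⟶ G) : G ≅ G where
  hom := cst G a G * 𝟙 G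
  inv := (cst G a G)⁻¹ * 𝟙 G
  hom_inv_id := by
    rw [MonObj.comp_mul, GrpObj.comp_inv, comp_cst, Category.comp_id, inv_mul_cancel_left]
  inv_hom_id := by
    rw [MonObj.comp_mul, comp_cst, Category.comp_id, mul_inv_cancel_left]

/-- Right translation `y ↦ y a`. -/
noncomputable def rmul (a : 𝟙_ (Over (Spec (CommRingCat.of K))) ⟶ G) : G ≅ G where
  hom := 𝟙 G * cst G a G
  inv := 𝟙 G * (cst G a G)⁻¹
  hom_inv_id := by
    rw [MonObj.comp_mul, GrpObj.comp_inv, comp_cst, Category.comp_id, mul_inv_cancel_right]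
  inv_hom_id := by
    rw [MonObj.comp_mul, comp_cst, Category.comp_id, inv_mul_cancel_right]

/-- `y ↦ y⁻¹ a`. -/
noncomputable def rho (a : 𝟙_ (Over (Spec (CommRingCat.of K))) ⟶ G) : G ≅ G where
  hom := (𝟙 G)⁻¹ * cst G a G
  inv := cst G a G * (𝟙 G)⁻¹
  hom_inv_id := by
    rw [MonObj.comp_mul, GrpObj.comp_inv, comp_cst, Category.comp_id, _root_.mul_inv_rev,
      _root_.inv_inv, mul_inv_cancel_left]
  inv_hom_id := by
    rw [MonObj.comp_mul, GrpObj.comp_inv, comp_cst, Category.comp_id, _root_.mul_inv_rev,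
      _root_.inv_inv, inv_mul_cancel_right]

theorem comp_lmul (a b : 𝟙_ (Over (Spec (CommRingCat.of K))) ⟶ G) : b ≫ (lmul a).hom = a * b := by
  show b ≫ (cst G a G * 𝟙 G) = _
  rw [MonObj.comp_mul, pt_cst, Category.comp_id]

theorem comp_rmul (a b : 𝟙_ (Over (Spec (CommRingCat.of K))) ⟶ G) : b ≫ (rmul a).hom = b * a := by
  show b ≫ (𝟙 G * cst G a G) = _
  rw [MonObj.comp_mul, pt_cst, Category.comp_id]

theorem comp_rho (a b : 𝟙_ (Over (Spec (CommRingCat.of K))) ⟶ G) : b ≫ (rho a).hom = b⁻¹ * a := by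
  show b ≫ ((𝟙 G)⁻¹ * cst G a G) = _
  rw [MonObj.comp_mul, GrpObj.comp_inv, pt_cst, Category.comp_id]

theorem comp_lmul_inv (a b : 𝟙_ (Over (Spec (CommRingCat.of K))) ⟶ G) :
    b ≫ (lmul a).inv = a⁻¹ * b := by
  show b ≫ ((cst G a G)⁻¹ * 𝟙 G) = _
  rw [MonObj.comp_mul, GrpObj.comp_inv, pt_cst, Category.comp_id]

theorem lmul_pt (a b : 𝟙_ (Over (Spec (CommRingCat.of K))) ⟶ G) :
    (lmul a).hom.left (pt G b) = pt G (a * b) := by
  rw [pt_comp, comp_lmul]

theorem rmul_pt (a b : 𝟙_ (Over (Spec (CommRingCat.of K))) ⟶ G) :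
    (rmul a).hom.left (pt G b) = pt G (b * a) := by
  rw [pt_comp, comp_rmul]

theorem rho_pt (a b : 𝟙_ (Over (Spec (CommRingCat.of K))) ⟶ G) :
    (rho a).hom.left (pt G b) = pt G (b⁻¹ * a) := by
  rw [pt_comp, comp_rho]

theorem lmul_inv_pt (a b : 𝟙_ (Over (Spec (CommRingCat.of K))) ⟶ G) :
    (lmul a).inv.left (pt G b) = pt G (a⁻¹ * b) := by
  rw [pt_comp, comp_lmul_inv]

/-- The homeomorphism underlying an automorphism. -/
noncomputable def homeo (φ : G ≅ G) : G.left ≃ₜ G.left :=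
  Scheme.homeoOfIso ((Over.forget _).mapIso φ)

theorem homeo_apply (φ : G ≅ G) (x : G.left) : homeo φ x = φ.hom.left x := rfl

theorem pt_one : pt G (1 : 𝟙_ (Over (Spec (CommRingCat.of K))) ⟶ G) =
    η[G].left (IsLocalRing.closedPoint K) := by
  rw [pt, Hom.one_def]
  have : toUnit (𝟙_ (Over (Spec (CommRingCat.of K)))) = 𝟙 _ := toUnit_unique _ _
  rw [this, Category.id_comp]

section AlgClosed

variable [IsAlgClosed K] [LocallyOfFiniteType G.hom]

variable (G) in
/-- The `K`-point of a closed point. -/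
noncomputable def kpt (x : G.left) (hx : IsClosed {x}) :
    𝟙_ (Over (Spec (CommRingCat.of K))) ⟶ G :=
  Over.homMk (pointOfClosedPoint G.hom x hx) (pointOfClosedPoint_comp G.hom x hx)

theorem pt_kpt (x : G.left) (hx : IsClosed {x}) : pt G (kpt G x hx) = x :=
  pointOfClosedPoint_apply G.hom x hx _

end AlgClosed

end Groth.Agent.H9.GSC
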