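import Mathlib

/-! Helper9: tensor products of domains over an algebraically closed field are domains. -/

set_option linter.style.haveILetI false
set_option linter.unusedSectionVars false

namespace Groth.Agent.H9.GZA

universe u

open TensorProduct

section Alg

variable (k : Type u) [Field k] [IsAlgClosed k]

/-- A nonzero element of a finite type domain over an algebraically closed field is
nonzero at some `k`-point. -/
theorem exists_algHom_ne_zero (A : Type u) [CommRing A] [Algebra k A] [IsDomain A]
    [Algebra.FiniteType k A] (a : A) (ha : a ≠ 0) : ∃ φ : A →ₐ[k] k, φ a ≠ 0 := by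
  haveI : IsJacobsonRing A := isJacobsonRing_of_finiteType (A := k) (B := A)
  have hrad : (⊥ : Ideal A).IsRadical := (Ideal.isPrime_bot (α := A)).isRadical
  have hj : (⊥ : Ideal A).jacobson = ⊥ := IsJacobsonRing.out' _ hrad
  have hna : a ∉ (⊥ : Ideal A).jacobson := by rw [hj]; simpa using ha
  rw [Ideal.jacobson, Ideal.mem_sInf] at hna
  push Not at hna
  obtain ⟨m, ⟨-, hm⟩, ham⟩ := hna
  haveI := hm
  letI : Field (A ⧸ m) := Ideal.Quotient.field m
  haveI : Algebra.FiniteType k (A ⧸ m) :=
    Algebra.FiniteType.of_surjective (Ideal.Quotient.mkₐ k m) (Ideal.Quotient.mkₐ_surjective k m)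
  haveI : Module.Finite k (A ⧸ m) := finite_of_finite_type_of_isJacobsonRing k (A ⧸ m)
  haveI : Algebra.IsIntegral k (A ⧸ m) := Algebra.IsIntegral.of_finite k (A ⧸ m)
  have hbij : Function.Bijective (algebraMap k (A ⧸ m)) :=
    IsAlgClosed.algebraMap_bijective_of_isIntegral
  let e : k ≃ₐ[k] (A ⧸ m) := AlgEquiv.ofBijective (Algebra.ofId k (A ⧸ m)) hbij
  refine ⟨(e.symm : (A ⧸ m) →ₐ[k] k).comp (Ideal.Quotient.mkₐ k m), ?_⟩
  intro h0
  apply ham
  have : e.symm (Ideal.Quotient.mk m a) = 0 := h0
  have h1 : Ideal.Quotient.mk m a = 0 := by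
    have := congrArg e this
    simpa using this
  exact Ideal.Quotient.eq_zero_iff_mem.mp h1

variable {k}

/-- Evaluate the left factor at a `k`-point. -/
noncomputable def evalLeft {A : Type u} [CommRing A] [Algebra k A] (B : Type u) [CommRing B]
    [Algebra k B] (φ : A →ₐ[k] k) : A ⊗[k] B →ₐ[k] B :=
  ((Algebra.TensorProduct.lid k B) : k ⊗[k] B →ₐ[k] B).comp
    (Algebra.TensorProduct.map φ (AlgHom.id k B))

@[simp] theorem evalLeft_tmul {A : Type u} [CommRing A] [Algebra k A] (B : Type u) [CommRing B]
    [Algebra k B] (φ : A →ₐ[k] k) (a : A) (b : B) : evalLeft B φ (a ⊗ₜ b) = φ a • b := by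
  simp [evalLeft]

theorem repr_evalLeft {A : Type u} [CommRing A] [Algebra k A] (B : Type u) [CommRing B]
    [Algebra k B] {ι : Type*} (𝔟 : Module.Basis ι k B) (φ : A →ₐ[k] k) (x : A ⊗[k] B) (i : ι) :
    𝔟.repr (evalLeft B φ x) i = φ ((Algebra.TensorProduct.basis A 𝔟).repr x i) := by
  induction x using TensorProduct.induction_on with
  | zero => simp
  | tmul a b =>
    rw [evalLeft_tmul, Algebra.TensorProduct.basis_repr_tmul, map_smul]
    simp
  | add x y hx hy =>
    simp only [map_add, Finsupp.add_apply, hx, hy]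

variable (k)

/-- Tensor product of a finite type domain and a domain over an algebraically closed field
has no zero divisors. -/
theorem noZeroDivisors_tensor_of_finiteType (A B : Type u) [CommRing A] [CommRing B]
    [Algebra k A] [Algebra k B] [IsDomain A] [IsDomain B] [Algebra.FiniteType k A] :
    NoZeroDivisors (A ⊗[k] B) := by
  refine ⟨fun {x y} hxy => ?_⟩
  by_contra hcon
  push Not at hcon
  obtain ⟨hx, hy⟩ := hcon
  let 𝔟 := Module.Basis.ofVectorSpace k B
  let β := Algebra.TensorProduct.basis A 𝔟
  have hx' : ∃ i, β.repr x i ≠ 0 := by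
    by_contra h
    push Not at h
    apply hx
    have : β.repr x = 0 := Finsupp.ext h
    simpa using this
  have hy' : ∃ j, β.repr y j ≠ 0 := by
    by_contra h
    push Not at h
    apply hy
    have : β.repr y = 0 := Finsupp.ext h
    simpa using this
  obtain ⟨i, hi⟩ := hx'
  obtain ⟨j, hj⟩ := hy'
  obtain ⟨φ, hφ⟩ := exists_algHom_ne_zero k A (β.repr x i * β.repr y j) (mul_ne_zero hi hj)
  rw [map_mul] at hφ
  have h1 : evalLeft B φ x ≠ 0 := by
    intro h0
    have := repr_evalLeft B 𝔟 φ x i
    rw [h0] at this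
    simp only [map_zero, Finsupp.coe_zero, Pi.zero_apply] at this
    exact hφ (by rw [← this, zero_mul])
  have h2 : evalLeft B φ y ≠ 0 := by
    intro h0
    have := repr_evalLeft B 𝔟 φ y j
    rw [h0] at this
    simp only [map_zero, Finsupp.coe_zero, Pi.zero_apply] at this
    exact hφ (by rw [← this, mul_zero])
  have h3 : evalLeft B φ x * evalLeft B φ y = 0 := by
    rw [← map_mul, hxy, map_zero]
  exact (mul_ne_zero h1 h2) h3

/-- Tensor product of domains over an algebraically closed field has no zero divisors. -/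
theorem noZeroDivisors_tensor (A B : Type u) [CommRing A] [CommRing B]
    [Algebra k A] [Algebra k B] [IsDomain A] [IsDomain B] :
    NoZeroDivisors (A ⊗[k] B) := by
  classical
  refine ⟨fun {x y} hxy => ?_⟩
  obtain ⟨S, hS⟩ := TensorProduct.exists_finset x
  obtain ⟨T, hT⟩ := TensorProduct.exists_finset y
  let s : Finset A := S.image Prod.fst ∪ T.image Prod.fst
  let A' : Subalgebra k A := Algebra.adjoin k (s : Set A)
  haveI : Algebra.FiniteType k A' := (Subalgebra.fg_iff_finiteType A').mp
    (Subalgebra.fg_adjoin_finset s)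
  let ι : A' ⊗[k] B →ₐ[k] A ⊗[k] B := Algebra.TensorProduct.map A'.val (AlgHom.id k B)
  have hι : Function.Injective ι := by
    have : Function.Injective (LinearMap.rTensor B A'.val.toLinearMap) :=
      Module.Flat.rTensor_preserves_injective_linearMap _ Subtype.val_injective
    intro a b hab
    apply this
    have e : ∀ z, LinearMap.rTensor B A'.val.toLinearMap z = ι z := by
      intro z
      induction z using TensorProduct.induction_on with
      | zero => simp
      | tmul a b => simp [ι]
      | add a b ha hb => simp only [map_add, ha, hb]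
    rw [e, e, hab]
  have hmem : ∀ a ∈ s, ∀ b : B, a ⊗ₜ[k] b ∈ LinearMap.range ι.toLinearMap := by
    intro a ha b
    refine ⟨(⟨a, Algebra.subset_adjoin ha⟩ : A') ⊗ₜ b, ?_⟩
    simp [ι]
  have hxr : x ∈ LinearMap.range ι.toLinearMap := by
    rw [hS]
    refine Submodule.sum_mem _ fun p hp => hmem _ ?_ _
    exact Finset.mem_union_left _ (Finset.mem_image_of_mem _ hp)
  have hyr : y ∈ LinearMap.range ι.toLinearMap := by
    rw [hT]
    refine Submodule.sum_mem _ fun p hp => hmem _ ?_ _
    exact Finset.mem_union_right _ (Finset.mem_image_of_mem _ hp)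
  obtain ⟨x', rfl⟩ := hxr
  obtain ⟨y', rfl⟩ := hyr
  have h0 : x' * y' = 0 := by
    apply hι
    rw [map_mul, map_zero]
    exact hxy
  haveI := noZeroDivisors_tensor_of_finiteType k A' B
  rcases mul_eq_zero.mp h0 with h | h
  · left; rw [h]; simp
  · right; rw [h]; simp

theorem isDomain_tensor (A B : Type u) [CommRing A] [CommRing B]
    [Algebra k A] [Algebra k B] [IsDomain A] [IsDomain B] :
    IsDomain (A ⊗[k] B) := by
  haveI := noZeroDivisors_tensor k A B
  haveI : Nontrivial (A ⊗[k] B) :=
    Algebra.TensorProduct.nontrivial_of_algebraMap_injective_of_isDomain k A B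
      (algebraMap k A).injective (algebraMap k B).injective
  exact NoZeroDivisors.to_isDomain _

end Alg

end Groth.Agent.H9.GZA
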