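import Mathlib
import Groth.Agent.Lib.Helper9.Misc.GZA1

/-! Helper9: irreducible schemes over an algebraically closed field are geometrically irreducible. -/

set_option linter.style.haveILetI false
set_option linter.unusedSectionVars false

namespace Groth.Agent.H9.GZA

universe u

open CategoryTheory CategoryTheory.Limits AlgebraicGeometry TensorProduct

variable (k : Type u) [Field k] [IsAlgClosed k]

/-- A field extension of an algebraically closed field is geometrically irreducible. -/
theorem geometricallyIrreducible_specMap (K : Type u) [Field K] [Algebra k K] :
    GeometricallyIrreducible (Spec.map (CommRingCat.ofHom (algebraMap k K))) := by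
  refine ⟨geometrically_iff_of_commRing_of_isClosedUnderIsomorphisms.mpr fun L _ _ => ?_⟩
  haveI : IsDomain (K ⊗[k] L) := isDomain_tensor k K L
  haveI : IrreducibleSpace ↥(Spec (CommRingCat.of (K ⊗[k] L))) :=
    inferInstanceAs (IrreducibleSpace (PrimeSpectrum (K ⊗[k] L)))
  exact ((pullbackSpecIso k K L).hom.homeomorph.irreducibleSpace_iff).mpr inferInstance

/-- An irreducible scheme over an algebraically closed field is geometrically irreducible. -/
theorem geometricallyIrreducible_of_isAlgClosed {Z : Scheme.{u}}
    (f : Z ⟶ Spec (CommRingCat.of k)) [IrreducibleSpace Z] : GeometricallyIrreducible f := by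
  refine ⟨geometrically_iff_of_commRing_of_isClosedUnderIsomorphisms.mpr fun L _ _ => ?_⟩
  haveI := geometricallyIrreducible_specMap k L
  haveI : UniversallyOpen (Spec.map (CommRingCat.ofHom (algebraMap k L))) := inferInstance
  infer_instance

end Groth.Agent.H9.GZA
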