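import Mathlib
import Groth.Agent.Lib.Helper9.Misc.GSA1

/-! Helper9: maximal points; every point of a group scheme over a field is a product of maximal points (S5354). -/

set_option linter.style.haveILetI false
set_option linter.unusedSectionVars false

namespace Groth.Agent.H9.GSD

universe u

open CategoryTheory CategoryTheory.Limits MonoidalCategory CartesianMonoidalCategory MonObj GrpObj
  AlgebraicGeometry Groth.Agent.H9.GSA

theorem isMaxPt_iff (X : Scheme.{u}) (y : X) :
    closure {y} ∈ irreducibleComponents X ↔ ∀ y' : X, y' ⤳ y → y' = y := by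
  constructor
  · intro h y' hy'
    have h1 : closure {y} ⊆ closure {y'} := specializes_iff_closure_subset.mp hy'
    have h2 : IsIrreducible (closure {y'}) := isIrreducible_singleton.closure
    have h3 : closure {y'} ⊆ closure {y} := h.2 h2 h1
    have h4 : y ⤳ y' := specializes_iff_closure_subset.mpr h3
    exact (hy'.antisymm h4).eq
  · intro h
    obtain ⟨ζ, hζ⟩ := QuasiSober.sober (isIrreducible_irreducibleComponent (x := y))
      isClosed_irreducibleComponent
    have h1 : ζ ⤳ y := by
      rw [specializes_iff_mem_closure, hζ.def]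
      exact mem_irreducibleComponent
    have h2 := h ζ h1
    subst h2
    rw [hζ.def]
    exact irreducibleComponent_mem_irreducibleComponents _

theorem maxPt_map {X Y : Scheme.{u}} (f : X ⟶ Y) (hf : GeneralizingMap f) (ξ : X)
    (hξ : ∀ ξ' : X, ξ' ⤳ ξ → ξ' = ξ) : ∀ y' : Y, y' ⤳ f ξ → y' = f ξ := by
  intro y' hy'
  obtain ⟨ξ', h1, h2⟩ := hf hy'
  rw [← h2, hξ ξ' h1]

theorem exists_maxPt (X : Scheme.{u}) [Nonempty X] : ∃ ξ : X, ∀ ξ' : X, ξ' ⤳ ξ → ξ' = ξ := by
  obtain ⟨p⟩ := ‹Nonempty X›
  obtain ⟨ζ, hζ⟩ := QuasiSober.sober (isIrreducible_irreducibleComponent (x := p))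
    isClosed_irreducibleComponent
  refine ⟨ζ, (isMaxPt_iff X ζ).mp ?_⟩
  rw [hζ.def]
  exact irreducibleComponent_mem_irreducibleComponents _

variable {k : Type u} [Field k] (G : Over (Spec (CommRingCat.of k))) [GrpObj G]

theorem S5354_main (x : G.left) :
    ∃ z : ↥(G ⊗ G).left, μ[G].left.base z = x ∧
      closure {(fst G G).left.base z} ∈ irreducibleComponents ↥G.left ∧
      closure {(snd G G).left.base z} ∈ irreducibleComponents ↥G.left := by
  let T := ptT G x
  let γ₀ := ptHom G x
  have hne : Nonempty (T ⊗ G).left := by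
    have : Nonempty T.left := by
      show Nonempty (Spec (G.left.residueField x))
      infer_instance
    exact ⟨(lift (𝟙 T) γ₀).left this.some⟩
  obtain ⟨ξ, hξ⟩ := exists_maxPt (T ⊗ G).left
  have hflatT : Flat T.hom := inferInstance
  have hflat1 : Flat (snd T G).left := by
    have : Flat (pullback.snd T.hom G.hom) := inferInstance
    exact this
  have hiso : IsIso (alpha G γ₀).left :=
    (inferInstance : IsIso ((Over.forget _).map (alphaIso G γ₀).hom))
  have hflat2 : Flat (alpha G γ₀ ≫ snd T G).left := by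
    rw [Over.comp_left]
    infer_instance
  refine ⟨(psi G γ₀).left ξ, ?_, ?_, ?_⟩
  · show ((psi G γ₀).left ≫ μ[G].left) ξ = x
    rw [← Over.comp_left, psi_mul, Over.comp_left]
    exact ptHom_left_apply G x _
  · rw [isMaxPt_iff]
    have : (fst G G).left.base ((psi G γ₀).left ξ) = (snd T G).left ξ := by
      show ((psi G γ₀).left ≫ (fst G G).left) ξ = _
      rw [← Over.comp_left, psi_fst]
    rw [this]
    exact maxPt_map _ (Flat.generalizingMap _) ξ hξ
  · rw [isMaxPt_iff]
    have : (snd G G).left.base ((psi G γ₀).left ξ) = (alpha G γ₀ ≫ snd T G).left ξ := by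
      show ((psi G γ₀).left ≫ (snd G G).left) ξ = _
      rw [← Over.comp_left, psi_snd']
    rw [this]
    exact maxPt_map _ (Flat.generalizingMap _) ξ hξ

end Groth.Agent.H9.GSD
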