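import Mathlib
import Groth.Agent.Lib.Helper9.Misc.GSD5

/-! Helper9: maximal points, lifting along generalizing maps, unique generization and minimal primes of stalks. -/

set_option linter.style.haveILetI false
set_option linter.unusedSectionVars false

namespace Groth.Agent.H9.GZA

universe u

open CategoryTheory CategoryTheory.Limits AlgebraicGeometry

/-- Maximal points: points without proper generizations. -/
def IsMaxPt {X : Type*} [TopologicalSpace X] (ξ : X) : Prop := ∀ ξ' : X, ξ' ⤳ ξ → ξ' = ξ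

theorem isMaxPt_iff_component (X : Scheme.{u}) (y : X) :
    IsMaxPt y ↔ closure {y} ∈ irreducibleComponents X :=
  (Groth.Agent.H9.GSD.isMaxPt_iff X y).symm

theorem exists_maxPt_specializes (X : Scheme.{u}) (x : X) : ∃ ξ : X, IsMaxPt ξ ∧ ξ ⤳ x := by
  obtain ⟨ζ, hζ⟩ := QuasiSober.sober (isIrreducible_irreducibleComponent (x := x))
    isClosed_irreducibleComponent
  refine ⟨ζ, (isMaxPt_iff_component X ζ).mpr ?_, ?_⟩
  · rw [hζ.def]
    exact irreducibleComponent_mem_irreducibleComponents _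
  · rw [specializes_iff_mem_closure, hζ.def]
    exact mem_irreducibleComponent

theorem IsMaxPt.map {X Y : Scheme.{u}} (f : X ⟶ Y) (hf : GeneralizingMap f) {ξ : X}
    (hξ : IsMaxPt ξ) : IsMaxPt (f ξ) :=
  Groth.Agent.H9.GSD.maxPt_map f hf ξ hξ

theorem lift_maxPt {X' X : Scheme.{u}} (π : X' ⟶ X) (hπ : GeneralizingMap π) (x' : X') (ξ : X)
    (hξ : IsMaxPt ξ) (h : ξ ⤳ π x') : ∃ ξ' : X', IsMaxPt ξ' ∧ ξ' ⤳ x' ∧ π ξ' = ξ := by
  obtain ⟨ξ₁, h1, h2⟩ := hπ h
  obtain ⟨ξ', hmax, hsp⟩ := exists_maxPt_specializes X' ξ₁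
  refine ⟨ξ', hmax, hsp.trans h1, ?_⟩
  apply hξ
  rw [← h2]
  exact hsp.map π.continuous

/-- At most one maximal point specializes to `x`. -/
def UniqueGen (X : Scheme.{u}) (x : X) : Prop :=
  ∀ ξ ξ' : X, IsMaxPt ξ → IsMaxPt ξ' → ξ ⤳ x → ξ' ⤳ x → ξ = ξ'

theorem UniqueGen.of_generalizing {X' X : Scheme.{u}} (π : X' ⟶ X) (hπ : GeneralizingMap π)
    (x' : X') (h : UniqueGen X' x') : UniqueGen X (π x') := by
  intro ξ ζ hξ hζ h1 h2
  obtain ⟨ξ', a1, a2, a3⟩ := lift_maxPt π hπ x' ξ hξ h1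
  obtain ⟨ζ', b1, b2, b3⟩ := lift_maxPt π hπ x' ζ hζ h2
  rw [← a3, ← b3, h ξ' ζ' a1 b1 a2 b2]

theorem uniqueGen_iff_components (X : Scheme.{u}) (x : X) :
    UniqueGen X x ↔ ∀ Z₁ ∈ irreducibleComponents X, ∀ Z₂ ∈ irreducibleComponents X,
      x ∈ Z₁ → x ∈ Z₂ → Z₁ = Z₂ := by
  constructor
  · intro h Z₁ h₁ Z₂ h₂ hx₁ hx₂
    obtain ⟨ξ₁, hξ₁⟩ := QuasiSober.sober h₁.1 (isClosed_of_mem_irreducibleComponents Z₁ h₁)
    obtain ⟨ξ₂, hξ₂⟩ := QuasiSober.sober h₂.1 (isClosed_of_mem_irreducibleComponents Z₂ h₂)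
    have m₁ : IsMaxPt ξ₁ := (isMaxPt_iff_component X ξ₁).mpr (by rw [hξ₁.def]; exact h₁)
    have m₂ : IsMaxPt ξ₂ := (isMaxPt_iff_component X ξ₂).mpr (by rw [hξ₂.def]; exact h₂)
    have s₁ : ξ₁ ⤳ x := by rw [specializes_iff_mem_closure, hξ₁.def]; exact hx₁
    have s₂ : ξ₂ ⤳ x := by rw [specializes_iff_mem_closure, hξ₂.def]; exact hx₂
    have := h ξ₁ ξ₂ m₁ m₂ s₁ s₂
    rw [← hξ₁.def, ← hξ₂.def, this]
  · intro h ξ ξ' hξ hξ' h1 h2
    have c₁ := (isMaxPt_iff_component X ξ).mp hξ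
    have c₂ := (isMaxPt_iff_component X ξ').mp hξ'
    have := h _ c₁ _ c₂ (specializes_iff_mem_closure.mp h1) (specializes_iff_mem_closure.mp h2)
    have h3 : ξ ⤳ ξ' := by
      rw [specializes_iff_closure_subset, this]
    exact (hξ' ξ h3)

theorem UniqueGen.existsUnique_component (X : Scheme.{u}) (x : X) (h : UniqueGen X x) :
    ∃! Z : Set X, Z ∈ irreducibleComponents X ∧ x ∈ Z := by
  refine ⟨irreducibleComponent x, ⟨irreducibleComponent_mem_irreducibleComponents _,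
    mem_irreducibleComponent⟩, ?_⟩
  rintro Z ⟨hZ, hx⟩
  exact (uniqueGen_iff_components X x).mp h Z hZ _
    (irreducibleComponent_mem_irreducibleComponents _) hx mem_irreducibleComponent

/-- If at most one maximal point specializes to `x`, the local ring at `x` has at most
one minimal prime. -/
theorem UniqueGen.minimalPrimes_subsingleton (X : Scheme.{u}) (x : X) (h : UniqueGen X x) :
    (minimalPrimes (X.presheaf.stalk x)).Subsingleton := by
  intro p hp q hq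
  let j := X.fromSpecStalk x
  have hemb : Topology.IsEmbedding j := (X.fromSpecStalk x).isEmbedding
  let P : ↥(Spec (X.presheaf.stalk x)) := (⟨p, hp.1.1⟩ : PrimeSpectrum _)
  let Q : ↥(Spec (X.presheaf.stalk x)) := (⟨q, hq.1.1⟩ : PrimeSpectrum _)
  have hrange : ∀ R : ↥(Spec (X.presheaf.stalk x)), j R ⤳ x := by
    intro R
    have : j R ∈ Set.range j := ⟨R, rfl⟩
    rw [Scheme.range_fromSpecStalk] at this
    exact this
  have hmax : ∀ (r : Ideal (X.presheaf.stalk x)) (hr : r ∈ minimalPrimes (X.presheaf.stalk x)),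
      IsMaxPt (j ((⟨r, hr.1.1⟩ : PrimeSpectrum _) : ↥(Spec (X.presheaf.stalk x)))) := by
    intro r hr ξ' hξ'
    have h1 : ξ' ⤳ x := hξ'.trans (hrange _)
    have h2 : ξ' ∈ Set.range j := by rw [Scheme.range_fromSpecStalk]; exact h1
    obtain ⟨R, rfl⟩ := h2
    have h3 : R ⤳ ((⟨r, hr.1.1⟩ : PrimeSpectrum _) : ↥(Spec (X.presheaf.stalk x))) :=
      hemb.isInducing.specializes_iff.mp hξ'
    have h4 : (R : PrimeSpectrum _).asIdeal ≤ r :=
      (PrimeSpectrum.le_iff_specializes (R : PrimeSpectrum _) ⟨r, hr.1.1⟩).mpr h3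
    have h5 : r ≤ (R : PrimeSpectrum _).asIdeal := hr.2 ⟨R.isPrime, bot_le⟩ h4
    congr 1
    exact PrimeSpectrum.ext (le_antisymm h4 h5)
  have := h (j P) (j Q) (hmax p hp) (hmax q hq) (hrange P) (hrange Q)
  have hPQ : P = Q := hemb.injective this
  exact congrArg PrimeSpectrum.asIdeal hPQ

end Groth.Agent.H9.GZA
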