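import Mathlib
import Groth.Agent.Lib.Helper9.Misc.GZA2
import Groth.Agent.Lib.Helper9.Misc.GZA3
import Groth.Agent.Lib.Helper9.Misc.GSC1

/-! Helper9: group schemes over a field: unique irreducible component through the identity; local rings have a unique minimal prime (S0350). -/

set_option linter.style.haveILetI false
set_option linter.unusedSectionVars false

namespace Groth.Agent.H9.GZA

universe u

open CategoryTheory CategoryTheory.Limits MonoidalCategory CartesianMonoidalCategory MonObj GrpObj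
  AlgebraicGeometry Groth.Agent.H9.GSC

variable {K : Type u} [Field K] (G : Over (Spec (CommRingCat.of K))) [GrpObj G]

/-- The unit point. -/
noncomputable abbrev ePt : G.left := η[G].left (IsLocalRing.closedPoint K)

theorem mul_eq_fst_of_snd (w : (G ⊗ G).left) (hw : (snd G G).left w = ePt G) :
    μ[G].left w = (fst G G).left w := by
  have hr := Scheme.Pullback.range_map G.hom (𝟙_ (Over (Spec (CommRingCat.of K)))).hom G.hom G.hom
    (𝟙 G : G ⟶ G).left η[G].left (𝟙 _) (by simp) (by simp)
  have hw' : w ∈ Set.range (𝟙 G ⊗ₘ η[G]).left := by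
    rw [Over.tensorHom_left, hr]
    refine ⟨⟨(fst G G).left w, rfl⟩, ?_⟩
    show (snd G G).left w ∈ Set.range η[G].left
    rw [hw]
    exact ⟨_, rfl⟩
  rw [id_tensorHom] at hw'
  obtain ⟨z, rfl⟩ := hw'
  have h1 : μ[G].left ((G ◁ η[G]).left z) = ((G ◁ η[G]) ≫ μ[G]).left z := rfl
  have h2 : (fst G G).left ((G ◁ η[G]).left z) = ((G ◁ η[G]) ≫ fst G G).left z := rfl
  rw [h1, h2, MonObj.mul_one, whiskerLeft_fst, rightUnitor_hom]

theorem mul_eq_snd_of_fst (w : (G ⊗ G).left) (hw : (fst G G).left w = ePt G) :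
    μ[G].left w = (snd G G).left w := by
  have hr := Scheme.Pullback.range_map (𝟙_ (Over (Spec (CommRingCat.of K)))).hom G.hom G.hom G.hom
    η[G].left (𝟙 G : G ⟶ G).left (𝟙 _) (by simp) (by simp)
  have hw' : w ∈ Set.range (η[G] ⊗ₘ 𝟙 G).left := by
    rw [Over.tensorHom_left, hr]
    refine ⟨?_, ⟨(snd G G).left w, rfl⟩⟩
    show (fst G G).left w ∈ Set.range η[G].left
    rw [hw]
    exact ⟨_, rfl⟩
  rw [tensorHom_id] at hw'
  obtain ⟨z, rfl⟩ := hw'
  have h1 : μ[G].left ((η[G] ▷ G).left z) = ((η[G] ▷ G) ≫ μ[G]).left z := rfl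
  have h2 : (snd G G).left ((η[G] ▷ G).left z) = ((η[G] ▷ G) ≫ snd G G).left z := rfl
  rw [h1, h2, MonObj.one_mul, whiskerRight_snd, leftUnitor_hom]

theorem irreducibleSpace_of_isEmbedding {Y X : Type*} [TopologicalSpace Y] [TopologicalSpace X]
    (f : Y → X) (hf : Topology.IsEmbedding f) (h : IsIrreducible (Set.range f)) :
    IrreducibleSpace Y := by
  haveI : IrreducibleSpace (Set.range f) := Subtype.irreducibleSpace h
  exact (hf.toHomeomorph.irreducibleSpace_iff).mpr inferInstance

/-- The multiplication set of two irreducible closed sets over an algebraically closed field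
is irreducible. -/
theorem exists_irreducible_mul [IsAlgClosed K] (Z₁ Z₂ : Set G.left)
    (h₁ : IsIrreducible Z₁) (hc₁ : IsClosed Z₁) (h₂ : IsIrreducible Z₂) (hc₂ : IsClosed Z₂) :
    IsIrreducible (μ[G].left '' ((fst G G).left ⁻¹' Z₁ ∩ (snd G G).left ⁻¹' Z₂)) := by
  let I₁ := Scheme.IdealSheafData.vanishingIdeal (X := G.left) ⟨Z₁, hc₁⟩
  let I₂ := Scheme.IdealSheafData.vanishingIdeal (X := G.left) ⟨Z₂, hc₂⟩
  have r₁ : Set.range I₁.subschemeι = Z₁ := by
    rw [Scheme.IdealSheafData.range_subschemeι, Scheme.IdealSheafData.coe_support_vanishingIdeal]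
    rfl
  have r₂ : Set.range I₂.subschemeι = Z₂ := by
    rw [Scheme.IdealSheafData.range_subschemeι, Scheme.IdealSheafData.coe_support_vanishingIdeal]
    rfl
  haveI : IrreducibleSpace ↥I₁.subscheme :=
    irreducibleSpace_of_isEmbedding _ I₁.subschemeι.isEmbedding (by rw [r₁]; exact h₁)
  haveI : IrreducibleSpace ↥I₂.subscheme :=
    irreducibleSpace_of_isEmbedding _ I₂.subschemeι.isEmbedding (by rw [r₂]; exact h₂)
  let f₁ : I₁.subscheme ⟶ Spec (CommRingCat.of K) := I₁.subschemeι ≫ G.hom
  let f₂ : I₂.subscheme ⟶ Spec (CommRingCat.of K) := I₂.subschemeι ≫ G.hom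
  haveI : GeometricallyIrreducible f₁ := geometricallyIrreducible_of_isAlgClosed K f₁
  haveI : UniversallyOpen f₁ := inferInstance
  haveI : IrreducibleSpace ↥(pullback f₁ f₂) := inferInstance
  let m : pullback f₁ f₂ ⟶ pullback G.hom G.hom :=
    pullback.map f₁ f₂ G.hom G.hom I₁.subschemeι I₂.subschemeι (𝟙 _) (by simp [f₁]) (by simp [f₂])
  have hm : Set.range m = (fst G G).left ⁻¹' Z₁ ∩ (snd G G).left ⁻¹' Z₂ := by
    have := Scheme.Pullback.range_map f₁ f₂ G.hom G.hom I₁.subschemeι I₂.subschemeι (𝟙 _)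
      (by simp [f₁]) (by simp [f₂])
    rw [r₁, r₂] at this
    exact this
  rw [← hm, ← Set.image_univ, ← Set.image_comp]
  exact (IrreducibleSpace.isIrreducible_univ _).image _
    ((μ[G].left.continuous.comp m.continuous).continuousOn)

theorem uniqueGen_one_of_isAlgClosed [IsAlgClosed K] : UniqueGen G.left (ePt G) := by
  rw [uniqueGen_iff_components]
  intro Z₁ h₁ Z₂ h₂ he₁ he₂
  have hc₁ := isClosed_of_mem_irreducibleComponents Z₁ h₁
  have hc₂ := isClosed_of_mem_irreducibleComponents Z₂ h₂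
  have hW := exists_irreducible_mul G Z₁ Z₂ h₁.1 hc₁ h₂.1 hc₂
  set W := μ[G].left '' ((fst G G).left ⁻¹' Z₁ ∩ (snd G G).left ⁻¹' Z₂) with hWdef
  have hsub : ∀ a : G.left, ∀ b : G.left, ∃ w : (G ⊗ G).left,
      (fst G G).left w = a ∧ (snd G G).left w = b := by
    intro a b
    exact Scheme.Pullback.exists_preimage_pullback (f := G.hom) (g := G.hom) a b
      (Subsingleton.elim _ _)
  have hs₁ : Z₁ ⊆ W := by
    intro z hz
    obtain ⟨w, hw1, hw2⟩ := hsub z (ePt G)
    refine ⟨w, ⟨by rw [Set.mem_preimage, hw1]; exact hz, by rw [Set.mem_preimage, hw2]; exact he₂⟩,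
      ?_⟩
    rw [mul_eq_fst_of_snd G w hw2, hw1]
  have hs₂ : Z₂ ⊆ W := by
    intro z hz
    obtain ⟨w, hw1, hw2⟩ := hsub (ePt G) z
    refine ⟨w, ⟨by rw [Set.mem_preimage, hw1]; exact he₁, by rw [Set.mem_preimage, hw2]; exact hz⟩,
      ?_⟩
    rw [mul_eq_snd_of_fst G w hw1, hw2]
  exact (hs₁.antisymm (h₁.2 hW hs₁)).trans (hs₂.antisymm (h₂.2 hW hs₂)).symm

section BaseChange

variable {L : Type u} [Field L] (y : Spec (CommRingCat.of L) ⟶ Spec (CommRingCat.of K))

/-- Base change of a group scheme along a field extension. -/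
noncomputable abbrev bcOver : Over (Spec (CommRingCat.of L)) := Over.mk (pullback.snd G.hom y)

noncomputable instance bcGrp : GrpObj (bcOver G y) := by
  letI : GrpObj (Over.mk G.hom) := ‹GrpObj G›
  exact Over.grpObjMkPullbackSnd

theorem bc_one_fst : η[bcOver G y].left ≫ pullback.fst G.hom y = y ≫ η[G].left := by
  letI : GrpObj (Over.mk G.hom) := ‹GrpObj G›
  have : η[bcOver G y] = Functor.LaxMonoidal.ε (Over.pullback y) ≫
      (Over.pullback y).map η[Over.mk G.hom] := Over.grpObjMkPullbackSnd_one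
  rw [this]
  simp only [Over.comp_left]
  simp
  rw [pullback.lift_fst, ← Category.assoc, ← pullback.condition, Category.comp_id]

theorem bc_ePt : (pullback.fst G.hom y) (ePt (bcOver G y)) = ePt G := by
  show (η[bcOver G y].left ≫ pullback.fst G.hom y) (IsLocalRing.closedPoint L) = _
  rw [bc_one_fst]
  show η[G].left (y (IsLocalRing.closedPoint L)) = η[G].left (IsLocalRing.closedPoint K)
  congr 1
  exact @Subsingleton.elim (PrimeSpectrum K) _ _ _

end BaseChange

theorem uniqueGen_one : UniqueGen G.left (ePt G) := by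
  let y := Spec.map (CommRingCat.ofHom (algebraMap K (AlgebraicClosure K)))
  have h := uniqueGen_one_of_isAlgClosed (bcOver G y)
  have hg : GeneralizingMap (pullback.fst G.hom y) := Flat.generalizingMap _
  have := UniqueGen.of_generalizing _ hg _ h
  rwa [bc_ePt] at this

theorem uniqueGen_pt (a : 𝟙_ (Over (Spec (CommRingCat.of K))) ⟶ G) :
    UniqueGen G.left (pt G a) := by
  have h : UniqueGen G.left (pt G 1) := by
    rw [pt_one]; exact uniqueGen_one G
  have hiso : IsIso (lmul a).hom.left :=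
    inferInstanceAs (IsIso ((Over.forget _).mapIso (lmul a)).hom)
  have hg : GeneralizingMap (lmul a).hom.left := Flat.generalizingMap _
  have := UniqueGen.of_generalizing _ hg _ h
  rwa [lmul_pt, _root_.mul_one] at this

theorem uniqueGen (x : G.left) : UniqueGen G.left x := by
  let L : Type u := G.left.residueField x
  let y : Spec (CommRingCat.of L) ⟶ Spec (CommRingCat.of K) := G.left.fromSpecResidueField x ≫ G.hom
  let x' : Spec (CommRingCat.of L) ⟶ pullback G.hom y :=
    pullback.lift (G.left.fromSpecResidueField x) (𝟙 _) (by simp [y])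
  let a : 𝟙_ (Over (Spec (CommRingCat.of L))) ⟶ bcOver G y :=
    Over.homMk x' (by
      show pullback.lift (G.left.fromSpecResidueField x) (𝟙 _) _ ≫ pullback.snd G.hom y = 𝟙 _
      exact pullback.lift_snd _ _ _)
  have h := uniqueGen_pt (bcOver G y) a
  have hg : GeneralizingMap (pullback.fst G.hom y) := Flat.generalizingMap _
  have hx : (pullback.fst G.hom y) (pt (bcOver G y) a) = x := by
    show (x' ≫ pullback.fst G.hom y) (IsLocalRing.closedPoint L) = x
    rw [pullback.lift_fst]
    exact Scheme.fromSpecResidueField_apply x _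
  have := UniqueGen.of_generalizing _ hg _ h
  rwa [hx] at this

theorem S0350_main : (∀ x : G.left, (minimalPrimes (G.left.presheaf.stalk x)).Subsingleton) ∧
    ∃! Z : Set G.left, Z ∈ irreducibleComponents (G.left : Type u) ∧
      η[G].left (IsLocalRing.closedPoint K) ∈ Z :=
  ⟨fun x => (uniqueGen G x).minimalPrimes_subsingleton, (uniqueGen_one G).existsUnique_component⟩

end Groth.Agent.H9.GZA
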