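import Mathlib
import Groth.Agent.Lib.Helper9.Misc.GZA4

/-! Helper9: the identity component of a group scheme over a field is geometrically irreducible (S7517). -/

set_option linter.style.haveILetI false
set_option linter.unusedSectionVars false

namespace Groth.Agent.H9.GZA

universe u

open CategoryTheory CategoryTheory.Limits MonoidalCategory CartesianMonoidalCategory MonObj GrpObj
  AlgebraicGeometry Groth.Agent.H9.GSC

/-- Preimages of irreducible closed sets under base change of fields, over an algebraically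
closed field, are irreducible. -/
theorem isIrreducible_preimage_of_isAlgClosed (k : Type u) [Field k] [IsAlgClosed k]
    {X : Scheme.{u}} (f : X ⟶ Spec (CommRingCat.of k)) (T : Set X) (hT : IsIrreducible T)
    (hc : IsClosed T) {Ω : Type u} [Field Ω] (y : Spec (CommRingCat.of Ω) ⟶ Spec (CommRingCat.of k)) :
    IsIrreducible ((pullback.fst f y) ⁻¹' T) := by
  let I := Scheme.IdealSheafData.vanishingIdeal (X := X) ⟨T, hc⟩
  have r : Set.range I.subschemeι = T := by
    rw [Scheme.IdealSheafData.range_subschemeι, Scheme.IdealSheafData.coe_support_vanishingIdeal]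
    rfl
  haveI : IrreducibleSpace ↥I.subscheme :=
    irreducibleSpace_of_isEmbedding _ I.subschemeι.isEmbedding (by rw [r]; exact hT)
  let f₁ : I.subscheme ⟶ Spec (CommRingCat.of k) := I.subschemeι ≫ f
  haveI : GeometricallyIrreducible f₁ := geometricallyIrreducible_of_isAlgClosed k f₁
  haveI : UniversallyOpen f₁ := inferInstance
  haveI : IrreducibleSpace ↥(Spec (CommRingCat.of Ω)) :=
    inferInstanceAs (IrreducibleSpace (PrimeSpectrum Ω))
  haveI : IrreducibleSpace ↥(pullback f₁ y) := inferInstance
  let m : pullback f₁ y ⟶ pullback f y :=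
    pullback.map f₁ y f y I.subschemeι (𝟙 _) (𝟙 _) (by simp [f₁]) (by simp)
  have hm : Set.range m = (pullback.fst f y) ⁻¹' T := by
    have := Scheme.Pullback.range_map f₁ y f y I.subschemeι (𝟙 _) (𝟙 _) (by simp [f₁]) (by simp)
    rw [r] at this
    rw [this]
    simp
  rw [← hm, ← Set.image_univ]
  exact (IrreducibleSpace.isIrreducible_univ _).image _ m.continuous.continuousOn

variable {K : Type u} [Field K] (G : Over (Spec (CommRingCat.of K))) [GrpObj G]

section BaseChange

variable {L : Type u} [Field L] (y : Spec (CommRingCat.of L) ⟶ Spec (CommRingCat.of K))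

theorem isPullback_bc_one : IsPullback η[bcOver G y].left y (pullback.fst G.hom y) η[G].left := by
  refine IsPullback.of_right (h₁₂ := pullback.snd G.hom y) (h₂₂ := G.hom) (v₁₃ := y) ?_
    (bc_one_fst G y) (IsPullback.of_hasPullback G.hom y).flip
  have h1 : η[bcOver G y].left ≫ pullback.snd G.hom y = 𝟙 _ := Over.w η[bcOver G y]
  have h2 : η[G].left ≫ G.hom = 𝟙 _ := Over.w η[G]
  rw [h1, h2]
  exact IsPullback.id_horiz y

theorem bc_fiber_one (w : ↥(pullback G.hom y)) (hw : (pullback.fst G.hom y) w = ePt G) :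
    w = ePt (bcOver G y) := by
  have hpb := isPullback_bc_one G y
  have h1 : hpb.isoPullback.hom ≫ pullback.fst (pullback.fst G.hom y) η[G].left =
      η[bcOver G y].left := hpb.isoPullback_hom_fst
  have h2 : w ∈ Set.range (pullback.fst (pullback.fst G.hom y) η[G].left) := by
    rw [Scheme.Pullback.range_fst]
    exact ⟨_, hw.symm⟩
  obtain ⟨z, rfl⟩ := h2
  have h3 : ∃ s, hpb.isoPullback.hom s = z := ⟨hpb.isoPullback.inv z, by
    show (hpb.isoPullback.inv ≫ hpb.isoPullback.hom) z = z
    rw [Iso.inv_hom_id]; rfl⟩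
  obtain ⟨s, rfl⟩ := h3
  have h4 : (pullback.fst (pullback.fst G.hom y) η[G].left) (hpb.isoPullback.hom s) =
      η[bcOver G y].left s := by
    have := congrArg (fun φ : (𝟙_ (Over (Spec (CommRingCat.of L)))).left ⟶ pullback G.hom y => φ s) h1
    exact this
  rw [h4]
  congr 1
  exact @Subsingleton.elim (PrimeSpectrum L) _ _ _

end BaseChange

/-- For an algebraic extension `L/K` with `L` algebraically closed, the preimage of the identity
component in `G_L` is the identity component of `G_L`, hence irreducible. -/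
theorem isIrreducible_preimage_component_of_algebraic {L : Type u} [Field L] [Algebra K L]
    [IsAlgClosed L] [Algebra.IsAlgebraic K L]
    (Z₀ : Set G.left) (hZ : Z₀ ∈ irreducibleComponents G.left) (he : ePt G ∈ Z₀) :
    IsIrreducible
      ((pullback.fst G.hom (Spec.map (CommRingCat.ofHom (algebraMap K L)))) ⁻¹' Z₀) := by
  set y := Spec.map (CommRingCat.ofHom (algebraMap K L)) with hy
  set π := pullback.fst G.hom y with hπ
  haveI : IsIntegralHom y := by
    rw [hy, IsIntegralHom.SpecMap_iff]
    exact algebraMap_isIntegral_iff.mpr inferInstance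
  haveI : IsIntegralHom π := inferInstance
  have hclosed : IsClosedMap π := π.isClosedMap
  have hg : GeneralizingMap π := Flat.generalizingMap _
  obtain ⟨ξ, hξ⟩ := QuasiSober.sober hZ.1 (isClosed_of_mem_irreducibleComponents Z₀ hZ)
  have mξ : IsMaxPt ξ := (isMaxPt_iff_component G.left ξ).mpr (by rw [hξ.def]; exact hZ)
  have sξ : ξ ⤳ ePt G := by rw [specializes_iff_mem_closure, hξ.def]; exact he
  let e' := ePt (bcOver G y)
  have hπe : π e' = ePt G := bc_ePt G y
  obtain ⟨ζ', hζ'⟩ := QuasiSober.sober (isIrreducible_irreducibleComponent (x := e'))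
    isClosed_irreducibleComponent
  have mζ' : IsMaxPt ζ' := (isMaxPt_iff_component _ ζ').mpr (by
    rw [hζ'.def]; exact irreducibleComponent_mem_irreducibleComponents _)
  have sζ' : ζ' ⤳ e' := by
    rw [specializes_iff_mem_closure, hζ'.def]; exact mem_irreducibleComponent
  have U' : UniqueGen (bcOver G y).left e' := uniqueGen_one (bcOver G y)
  have U : UniqueGen G.left (ePt G) := uniqueGen_one G
  have hπζ' : π ζ' = ξ := by
    apply U _ _ (mζ'.map π hg) mξ _ sξ
    rw [← hπe]
    exact sζ'.map π.continuous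
  have key : π ⁻¹' Z₀ = irreducibleComponent e' := by
    apply Set.Subset.antisymm
    · intro p hp
      have h1 : ξ ⤳ π p := by
        rw [specializes_iff_mem_closure, hξ.def]; exact hp
      obtain ⟨ζ, mζ, sζ, hζ⟩ := lift_maxPt π hg p ξ mξ h1
      have hW : IsClosed (π '' closure {ζ}) := hclosed _ isClosed_closure
      have h2 : ξ ∈ π '' closure {ζ} := ⟨ζ, subset_closure rfl, hζ⟩
      have h3 : closure {ξ} ⊆ π '' closure {ζ} :=
        closure_minimal (Set.singleton_subset_iff.mpr h2) hW
      have h4 : ePt G ∈ π '' closure {ζ} := h3 (by rw [hξ.def]; exact he)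
      obtain ⟨w, hw, hwe⟩ := h4
      have h5 : w = e' := bc_fiber_one G y w hwe
      have h6 : ζ ⤳ e' := by
        rw [specializes_iff_mem_closure, ← h5]; exact hw
      have h7 : ζ = ζ' := U' ζ ζ' mζ mζ' h6 sζ'
      rw [← hζ'.def, ← h7]
      exact specializes_iff_mem_closure.mp sζ
    · intro p hp
      rw [← hζ'.def] at hp
      have h1 : ζ' ⤳ p := specializes_iff_mem_closure.mpr hp
      have h2 : ξ ⤳ π p := by
        rw [← hπζ']; exact h1.map π.continuous
      rw [Set.mem_preimage, ← hξ.def]
      exact specializes_iff_mem_closure.mp h2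
  rw [key]
  exact isIrreducible_irreducibleComponent

theorem isIrreducible_of_preimage_surjective {A B : Type*} [TopologicalSpace A]
    [TopologicalSpace B] {f : A → B} (hf : Continuous f) (hs : Function.Surjective f) {S : Set B}
    (h : IsIrreducible (f ⁻¹' S)) : IsIrreducible S := by
  rw [← Set.image_preimage_eq S hs]
  exact h.image f hf.continuousOn

/-- The preimage of the identity component under any base field extension is irreducible. -/
theorem isIrreducible_preimage_component {L : Type u} [Field L] [Algebra K L]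
    (Z₀ : Set G.left) (hZ : Z₀ ∈ irreducibleComponents G.left) (he : ePt G ∈ Z₀) :
    IsIrreducible
      ((pullback.fst G.hom (Spec.map (CommRingCat.ofHom (algebraMap K L)))) ⁻¹' Z₀) := by
  let Ω := AlgebraicClosure L
  let kb := AlgebraicClosure K
  let φ : kb →ₐ[K] Ω := IsAlgClosed.lift
  let y_kb := Spec.map (CommRingCat.ofHom (algebraMap K kb))
  let y₂ : Spec (CommRingCat.of Ω) ⟶ Spec (CommRingCat.of kb) :=
    Spec.map (CommRingCat.ofHom φ.toRingHom)
  let y_L := Spec.map (CommRingCat.ofHom (algebraMap K L))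
  let y₃ : Spec (CommRingCat.of Ω) ⟶ Spec (CommRingCat.of L) :=
    Spec.map (CommRingCat.ofHom (algebraMap L Ω))
  have hcomp : y₂ ≫ y_kb = y₃ ≫ y_L := by
    simp only [y₂, y_kb, y₃, y_L, ← Spec.map_comp, ← CommRingCat.ofHom_comp]
    congr 2
    ext x
    simp [IsScalarTower.algebraMap_apply K L Ω]
  have hT : IsIrreducible ((pullback.fst G.hom y_kb) ⁻¹' Z₀) :=
    isIrreducible_preimage_component_of_algebraic G Z₀ hZ he
  have hcT : IsClosed ((pullback.fst G.hom y_kb) ⁻¹' Z₀) :=
    (isClosed_of_mem_irreducibleComponents Z₀ hZ).preimage (pullback.fst G.hom y_kb).continuous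
  have h1 := isIrreducible_preimage_of_isAlgClosed kb (pullback.snd G.hom y_kb) _ hT hcT y₂
  have h2 : ∀ y' : Spec (CommRingCat.of Ω) ⟶ Spec (CommRingCat.of K), y' = y₂ ≫ y_kb →
      IsIrreducible ((pullback.fst G.hom y') ⁻¹' Z₀) := by
    rintro _ rfl
    let e₁ := pullbackLeftPullbackSndIso G.hom y_kb y₂
    have hsurj : Function.Surjective e₁.hom := e₁.hom.homeomorph.surjective
    refine isIrreducible_of_preimage_surjective e₁.hom.continuous hsurj ?_
    have : e₁.hom ⁻¹' ((pullback.fst G.hom (y₂ ≫ y_kb)) ⁻¹' Z₀) =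
        (pullback.fst (pullback.snd G.hom y_kb) y₂) ⁻¹' ((pullback.fst G.hom y_kb) ⁻¹' Z₀) := by
      rw [← Set.preimage_comp, ← Set.preimage_comp]
      have h := pullbackLeftPullbackSndIso_hom_fst G.hom y_kb y₂
      have h' := congrArg (fun ψ : pullback (pullback.snd G.hom y_kb) y₂ ⟶ G.left => (ψ : _ → _)) h
      exact congrArg (fun ψ : _ → G.left => ψ ⁻¹' Z₀) h'
    rw [this]
    exact h1
  have h3 := h2 (y₃ ≫ y_L) hcomp.symm
  let e₂ := pullbackLeftPullbackSndIso G.hom y_L y₃
  let q : pullback G.hom (y₃ ≫ y_L) ⟶ pullback G.hom y_L :=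
    e₂.inv ≫ pullback.fst (pullback.snd G.hom y_L) y₃
  haveI : Surjective y₃ := ⟨fun x => ⟨IsLocalRing.closedPoint Ω,
    @Subsingleton.elim (PrimeSpectrum L) _ _ _⟩⟩
  have hq : Function.Surjective q := by
    have s1 : Function.Surjective e₂.inv := e₂.inv.homeomorph.surjective
    have s2 : Function.Surjective (pullback.fst (pullback.snd G.hom y_L) y₃) :=
      (pullback.fst (pullback.snd G.hom y_L) y₃).surjective
    exact s2.comp s1
  have hqπ : q ≫ pullback.fst G.hom y_L = pullback.fst G.hom (y₃ ≫ y_L) := by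
    simp only [q, Category.assoc]
    rw [← pullbackLeftPullbackSndIso_hom_fst G.hom y_L y₃, Iso.inv_hom_id_assoc]
  refine isIrreducible_of_preimage_surjective q.continuous hq ?_
  have : q ⁻¹' ((pullback.fst G.hom y_L) ⁻¹' Z₀) = (pullback.fst G.hom (y₃ ≫ y_L)) ⁻¹' Z₀ := by
    rw [← Set.preimage_comp]
    have h' := congrArg (fun ψ : pullback G.hom (y₃ ≫ y_L) ⟶ G.left => (ψ : _ → _)) hqπ
    exact congrArg (fun ψ : _ → G.left => ψ ⁻¹' Z₀) h'
  rw [this]
  exact h3

theorem S7517_main (Z : Scheme.{u}) (incl : Z ⟶ G.left) [IsClosedImmersion incl]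
    [IrreducibleSpace Z] (hZ : Set.range ⇑incl ∈ irreducibleComponents ↥G.left)
    (he : η[G].left (IsLocalRing.closedPoint K) ∈ Set.range ⇑incl) :
    GeometricallyIrreducible (incl ≫ G.hom) := by
  refine ⟨geometrically_iff_of_commRing_of_isClosedUnderIsomorphisms.mpr fun L _ _ => ?_⟩
  let y_L := Spec.map (CommRingCat.ofHom (algebraMap K L))
  let π := pullback.fst G.hom y_L
  have h1 : IsIrreducible (π ⁻¹' Set.range ⇑incl) := isIrreducible_preimage_component G _ hZ he
  haveI : IrreducibleSpace ↥(pullback incl π) := by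
    refine irreducibleSpace_of_isEmbedding _ (pullback.snd incl π).isEmbedding ?_
    rw [Scheme.Pullback.range_snd]
    exact h1
  let iso := pullbackRightPullbackFstIso G.hom y_L incl
  exact (iso.hom.homeomorph.irreducibleSpace_iff).mp inferInstance

end Groth.Agent.H9.GZA
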