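import Mathlib
import Groth.Agent.Lib.Helper9.Misc.GZA5
import Groth.Agent.Lib.Helper9.Misc.GSD3

/-! Helper9: group schemes over a field: the maximal generization r(x) = x·ζ of a point, via geometric irreducibility of the identity component. -/

set_option linter.style.haveILetI false
set_option linter.unusedSectionVars false

namespace Groth.Agent.H9.GZB

universe u

open CategoryTheory CategoryTheory.Limits MonoidalCategory CartesianMonoidalCategory MonObj GrpObj
  AlgebraicGeometry Groth.Agent.H9.GSA Groth.Agent.H9.GSD Groth.Agent.H9.GZA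

variable {K : Type u} [Field K] (G : Over (Spec (CommRingCat.of K))) [GrpObj G]

/-- The identity component (as a set). -/
def Z0 : Set G.left := irreducibleComponent (ePt G)

theorem Z0_mem : Z0 G ∈ irreducibleComponents G.left :=
  irreducibleComponent_mem_irreducibleComponents _

theorem isClosed_Z0 : IsClosed (Z0 G) := isClosed_irreducibleComponent

theorem isIrreducible_Z0 : IsIrreducible (Z0 G) := isIrreducible_irreducibleComponent

theorem one_mem_Z0 : ePt G ∈ Z0 G := mem_irreducibleComponent

theorem Z0_eq {Z : Set G.left} (hZ : Z ∈ irreducibleComponents G.left) (he : ePt G ∈ Z) :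
    Z = Z0 G :=
  (uniqueGen_iff_components G.left (ePt G)).mp (uniqueGen_one G) Z hZ _ (Z0_mem G) he
    (one_mem_Z0 G)

/-- An irreducible set containing the identity is contained in the identity component. -/
theorem subset_Z0 {S : Set G.left} (hS : IsIrreducible S) (he : ePt G ∈ S) : S ⊆ Z0 G := by
  obtain ⟨t, ht, hSt, hmax⟩ := exists_preirreducible S hS.isPreirreducible
  have htirr : IsIrreducible t := ⟨hS.nonempty.mono hSt, ht⟩
  have htmem : t ∈ irreducibleComponents G.left := by
    refine ⟨htirr, fun u hu htu => ?_⟩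
    exact (hmax u hu.isPreirreducible htu).le
  rw [← Z0_eq G htmem (hSt he)]
  exact hSt

theorem isIrreducible_preimage_Z0_fst {L : Type u} [Field L]
    (y : Spec (CommRingCat.of L) ⟶ Spec (CommRingCat.of K)) :
    IsIrreducible ((pullback.fst G.hom y) ⁻¹' Z0 G) := by
  obtain ⟨φ, rfl⟩ := Spec.map_surjective y
  algebraize [φ.hom]
  exact isIrreducible_preimage_component G (Z0 G) (Z0_mem G) (one_mem_Z0 G)

theorem isIrreducible_preimage_Z0_snd {L : Type u} [Field L]
    (y : Spec (CommRingCat.of L) ⟶ Spec (CommRingCat.of K)) :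
    IsIrreducible ((pullback.snd y G.hom) ⁻¹' Z0 G) := by
  have h := isIrreducible_preimage_Z0_fst G y
  let e := pullbackSymmetry y G.hom
  have h1 : (pullback.snd y G.hom) ⁻¹' Z0 G = e.hom ⁻¹' ((pullback.fst G.hom y) ⁻¹' Z0 G) := by
    rw [← Set.preimage_comp]
    have h' := congrArg (fun ψ : pullback y G.hom ⟶ G.left => (ψ : _ → _))
      (pullbackSymmetry_hom_comp_fst y G.hom)
    exact (congrArg (fun ψ : _ → G.left => ψ ⁻¹' Z0 G) h').symm
  have h2 : e.hom ⁻¹' ((pullback.fst G.hom y) ⁻¹' Z0 G) =
      e.hom.homeomorph.symm '' ((pullback.fst G.hom y) ⁻¹' Z0 G) := by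
    rw [Homeomorph.image_symm]; rfl
  rw [h1, h2]
  exact h.image _ e.hom.homeomorph.symm.continuous.continuousOn

/-- The generic point of the identity component. -/
noncomputable def zeta : G.left :=
  (QuasiSober.sober (isIrreducible_Z0 G) (isClosed_Z0 G)).choose

theorem zeta_spec : IsGenericPoint (zeta G) (Z0 G) :=
  (QuasiSober.sober (isIrreducible_Z0 G) (isClosed_Z0 G)).choose_spec

theorem closure_zeta : closure {zeta G} = Z0 G := (zeta_spec G).def

theorem isMaxPt_zeta : IsMaxPt (zeta G) :=
  (isMaxPt_iff_component G.left _).mpr (by rw [closure_zeta]; exact Z0_mem G)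

theorem zeta_specializes_one : zeta G ⤳ ePt G := by
  rw [specializes_iff_mem_closure, closure_zeta]; exact one_mem_Z0 G

theorem mem_Z0_iff (x : G.left) : x ∈ Z0 G ↔ zeta G ⤳ x := by
  rw [specializes_iff_mem_closure, closure_zeta]

section Point

variable (x : G.left)

/-- Left translation by the residue field point `x`: `(t, g) ↦ x g`. -/
noncomputable def lam : (ptT G x ⊗ G).left ⟶ G.left :=
  (sigma G (ptHom G x) ≫ snd (ptT G x) G).left

theorem lam_eq (p : (ptT G x ⊗ G).left) :
    lam G x p = μ[G].left ((ptHom G x ▷ G).left p) := by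
  have h := whiskerRight_mul G (ptHom G x)
  have h' := congrArg (fun ψ : ptT G x ⊗ G ⟶ G => ψ.left p) h
  exact h'.symm

theorem fst_whisker (p : (ptT G x ⊗ G).left) :
    (fst G G).left ((ptHom G x ▷ G).left p) = x := by
  show ((ptHom G x ▷ G) ≫ fst G G).left p = x
  rw [whiskerRight_fst, Over.comp_left]
  exact ptHom_left_apply G x _

theorem snd_whisker (p : (ptT G x ⊗ G).left) :
    (snd G G).left ((ptHom G x ▷ G).left p) = (snd (ptT G x) G).left p := by
  show ((ptHom G x ▷ G) ≫ snd G G).left p = _
  rw [whiskerRight_snd]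

theorem isOpenMap_lam : IsOpenMap (lam G x) := isOpenMap_sigma_snd_left G (ptHom G x)

theorem generalizing_lam : GeneralizingMap (lam G x) := by
  have hiso : IsIso (sigma G (ptHom G x)).left :=
    (inferInstance : IsIso ((Over.forget _).map (sigmaIso G (ptHom G x)).hom))
  have h1 : GeneralizingMap (sigma G (ptHom G x)).left := Flat.generalizingMap _
  have hflat : Flat (pullback.snd (G.left.fromSpecResidueField x ≫ G.hom) G.hom) := inferInstance
  have h2 : GeneralizingMap (snd (ptT G x) G).left :=
    Flat.generalizingMap (pullback.snd (G.left.fromSpecResidueField x ≫ G.hom) G.hom)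
  exact h1.comp h2

theorem surjective_snd_pt : Function.Surjective (snd (ptT G x) G).left := by
  haveI : Surjective (G.left.fromSpecResidueField x ≫ G.hom) :=
    ⟨fun y => ⟨IsLocalRing.closedPoint _, @Subsingleton.elim (PrimeSpectrum K) _ _ _⟩⟩
  exact (pullback.snd (G.left.fromSpecResidueField x ≫ G.hom) G.hom).surjective

/-- The generic point of the preimage of the identity component in `Spec κ(x) × G`. -/
noncomputable def omega : (ptT G x ⊗ G).left :=
  (QuasiSober.sober
    (isIrreducible_preimage_Z0_snd G (G.left.fromSpecResidueField x ≫ G.hom))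
    ((isClosed_Z0 G).preimage
      (pullback.snd (G.left.fromSpecResidueField x ≫ G.hom) G.hom).continuous)).choose

theorem omega_spec : IsGenericPoint (omega G x) ((snd (ptT G x) G).left ⁻¹' Z0 G) :=
  (QuasiSober.sober
    (isIrreducible_preimage_Z0_snd G (G.left.fromSpecResidueField x ≫ G.hom))
    ((isClosed_Z0 G).preimage
      (pullback.snd (G.left.fromSpecResidueField x ≫ G.hom) G.hom).continuous)).choose_spec

theorem snd_omega : (snd (ptT G x) G).left (omega G x) = zeta G := by
  set s := (snd (ptT G x) G).left with hs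
  have hmem : s (omega G x) ∈ Z0 G := by
    have : omega G x ∈ s ⁻¹' Z0 G := by
      rw [← (omega_spec G x).def]; exact subset_closure rfl
    exact this
  have h1 : Z0 G ⊆ closure {s (omega G x)} := by
    intro z hz
    obtain ⟨p, rfl⟩ := surjective_snd_pt G x z
    have hp : p ∈ closure {omega G x} := by rw [(omega_spec G x).def]; exact hz
    have := image_closure_subset_closure_image s.continuous ⟨p, hp, rfl⟩
    rwa [Set.image_singleton] at this
  have h2 : closure {s (omega G x)} = Z0 G :=
    Set.Subset.antisymm (closure_minimal (Set.singleton_subset_iff.mpr hmem) (isClosed_Z0 G)) h1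
  have h3 : IsGenericPoint (s (omega G x)) (Z0 G) := h2
  exact h3.eq (zeta_spec G)

theorem isMaxPt_omega : IsMaxPt (omega G x) := by
  intro ω' hω'
  have h1 : (snd (ptT G x) G).left ω' ⤳ (snd (ptT G x) G).left (omega G x) :=
    hω'.map (snd (ptT G x) G).left.continuous
  rw [snd_omega] at h1
  have h2 := isMaxPt_zeta G _ h1
  have h3 : ω' ∈ (snd (ptT G x) G).left ⁻¹' Z0 G := by
    rw [Set.mem_preimage, h2, mem_Z0_iff]
  rw [← (omega_spec G x).def] at h3
  have h4 : omega G x ⤳ ω' := specializes_iff_mem_closure.mpr h3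
  exact (hω'.antisymm h4).eq

/-- The maximal generization of `x`. -/
noncomputable def r : G.left := lam G x (omega G x)

theorem isMaxPt_r : IsMaxPt (r G x) := (isMaxPt_omega G x).map _ (generalizing_lam G x)

theorem r_specializes_lam (p : (ptT G x ⊗ G).left) (hp : (snd (ptT G x) G).left p ∈ Z0 G) :
    r G x ⤳ lam G x p := by
  have h1 : omega G x ⤳ p := by
    rw [specializes_iff_mem_closure, (omega_spec G x).def]; exact hp
  exact h1.map (lam G x).continuous

theorem r_specializes : r G x ⤳ x := by
  obtain ⟨p, hp⟩ := surjective_snd_pt G x (ePt G)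
  have h := r_specializes_lam G x p (by rw [hp]; exact one_mem_Z0 G)
  have h2 : lam G x p = x := by
    rw [lam_eq, mul_eq_fst_of_snd G _ (by rw [snd_whisker, hp]), fst_whisker]
  rwa [h2] at h

theorem r_unique (ξ : G.left) (hξ : IsMaxPt ξ) (h : ξ ⤳ x) : ξ = r G x :=
  uniqueGen G x ξ (r G x) hξ (isMaxPt_r G x) h (r_specializes G x)

/-- `r x = x · ζ` for a suitable point over `(x, ζ)`. -/
theorem exists_r : ∃ w : (G ⊗ G).left, (fst G G).left w = x ∧ (snd G G).left w = zeta G ∧
    μ[G].left w = r G x :=
  ⟨(ptHom G x ▷ G).left (omega G x), fst_whisker G x _, by rw [snd_whisker, snd_omega],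
    (lam_eq G x _).symm⟩

end Point

/-- `x · z` lies in the component of `x` for `z ∈ Z⁰`. -/
theorem r_specializes_mul (w : (G ⊗ G).left) (hw : (snd G G).left w ∈ Z0 G) :
    r G ((fst G G).left w) ⤳ μ[G].left w := by
  obtain ⟨p, hp⟩ := exists_lift_left G _ w rfl
  have h := r_specializes_lam G _ p (by rw [← snd_whisker, hp]; exact hw)
  rwa [lam_eq, hp] at h

end Groth.Agent.H9.GZB
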