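import Mathlib
import Groth.Agent.Lib.Helper9.Misc.GZB1
import Groth.Agent.Lib.Helper9.Misc.GSF1

/-! Helper9: group schemes over a field: the identity component is quasi-compact and equals the connected component of the identity; connected group schemes are irreducible (S0348, S0355). -/

set_option linter.style.haveILetI false
set_option linter.unusedSectionVars false

namespace Groth.Agent.H9.GZB

universe u

open CategoryTheory CategoryTheory.Limits MonoidalCategory CartesianMonoidalCategory MonObj GrpObj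
  AlgebraicGeometry Groth.Agent.H9.GSA Groth.Agent.H9.GSD Groth.Agent.H9.GZA Groth.Agent.H9.GSC

variable {K : Type u} [Field K] (G : Over (Spec (CommRingCat.of K))) [GrpObj G]

theorem mu_eq : μ[G] = fst G G * snd G G := by
  rw [Hom.mul_def, lift_fst_snd, Category.id_comp]

/-- `(a, b) ↦ (ab, b⁻¹)`. -/
noncomputable def tw : G ⊗ G ⟶ G ⊗ G := lift μ[G] (snd G G ≫ ι[G])

theorem tw_fst : tw G ≫ fst G G = μ[G] := lift_fst _ _
theorem tw_snd : tw G ≫ snd G G = snd G G ≫ ι[G] := lift_snd _ _
theorem tw_mul : tw G ≫ μ[G] = fst G G := by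
  rw [tw, ← Hom.mul_def, ← Hom.inv_def, mu_eq, mul_inv_cancel_right]

theorem tw_fst_apply (w : (G ⊗ G).left) : (fst G G).left ((tw G).left w) = μ[G].left w := by
  show ((tw G) ≫ fst G G).left w = _
  rw [tw_fst]

theorem tw_snd_apply (w : (G ⊗ G).left) :
    (snd G G).left ((tw G).left w) = ι[G].left ((snd G G).left w) := by
  show ((tw G) ≫ snd G G).left w = _
  rw [tw_snd]; rfl

theorem tw_mul_apply (w : (G ⊗ G).left) : μ[G].left ((tw G).left w) = (fst G G).left w := by
  show ((tw G) ≫ μ[G]).left w = _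
  rw [tw_mul]

/-- `(a, b) ↦ (b⁻¹, a⁻¹)`. -/
noncomputable def rv : G ⊗ G ⟶ G ⊗ G := lift (snd G G ≫ ι[G]) (fst G G ≫ ι[G])

theorem rv_fst : rv G ≫ fst G G = snd G G ≫ ι[G] := lift_fst _ _
theorem rv_snd : rv G ≫ snd G G = fst G G ≫ ι[G] := lift_snd _ _
theorem rv_mul : rv G ≫ μ[G] = μ[G] ≫ ι[G] := by
  rw [rv, ← Hom.mul_def, ← Hom.inv_def, ← Hom.inv_def, ← Hom.inv_def, mu_eq, _root_.mul_inv_rev]

theorem rv_fst_apply (w : (G ⊗ G).left) :
    (fst G G).left ((rv G).left w) = ι[G].left ((snd G G).left w) := by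
  show ((rv G) ≫ fst G G).left w = _
  rw [rv_fst]; rfl

theorem rv_snd_apply (w : (G ⊗ G).left) :
    (snd G G).left ((rv G).left w) = ι[G].left ((fst G G).left w) := by
  show ((rv G) ≫ snd G G).left w = _
  rw [rv_snd]; rfl

theorem rv_mul_apply (w : (G ⊗ G).left) :
    μ[G].left ((rv G).left w) = ι[G].left (μ[G].left w) := by
  show ((rv G) ≫ μ[G]).left w = _
  rw [rv_mul]; rfl

theorem inv_inv_apply (u : G.left) : ι[G].left (ι[G].left u) = u := by
  show (ι[G].left ≫ ι[G].left) u = u
  rw [← Over.comp_left, GrpObj.inv_comp_inv]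
  rfl

theorem inv_one_apply : ι[G].left (ePt G) = ePt G := by
  have h1 : ePt G = pt G (1 : 𝟙_ (Over (Spec (CommRingCat.of K))) ⟶ G) := pt_one.symm
  rw [h1, pt_comp, ← Hom.inv_def, inv_one]

/-- The product set `A · B`. -/
def star (A B : Set G.left) : Set G.left :=
  μ[G].left '' ((fst G G).left ⁻¹' A ∩ (snd G G).left ⁻¹' B)

theorem star_mono {A A' B B' : Set G.left} (hA : A ⊆ A') (hB : B ⊆ B') :
    star G A B ⊆ star G A' B' := by
  rintro _ ⟨w, ⟨h1, h2⟩, rfl⟩
  exact ⟨w, ⟨hA h1, hB h2⟩, rfl⟩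

theorem inv_star_subset (A B : Set G.left) :
    ι[G].left '' star G A B ⊆ star G (ι[G].left '' B) (ι[G].left '' A) := by
  rintro _ ⟨_, ⟨w, ⟨h1, h2⟩, rfl⟩, rfl⟩
  refine ⟨(rv G).left w, ⟨?_, ?_⟩, rv_mul_apply G w⟩
  · rw [Set.mem_preimage, rv_fst_apply]; exact ⟨_, h2, rfl⟩
  · rw [Set.mem_preimage, rv_snd_apply]; exact ⟨_, h1, rfl⟩

theorem inv_image_inv_image (A : Set G.left) : ι[G].left '' (ι[G].left '' A) = A := by
  ext x
  constructor
  · rintro ⟨_, ⟨a, ha, rfl⟩, rfl⟩
    rwa [inv_inv_apply]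
  · intro hx
    exact ⟨_, ⟨x, hx, rfl⟩, inv_inv_apply G x⟩

theorem star_eq_inv (A B : Set G.left) :
    star G A B = ι[G].left '' star G (ι[G].left '' B) (ι[G].left '' A) := by
  apply Set.Subset.antisymm
  · have h := Set.image_mono (f := ι[G].left) (inv_star_subset G A B)
    rwa [inv_image_inv_image] at h
  · have h := inv_star_subset G (ι[G].left '' B) (ι[G].left '' A)
    rwa [inv_image_inv_image, inv_image_inv_image] at h

theorem inv_image_eq_preimage (A : Set G.left) : ι[G].left '' A = ι[G].left ⁻¹' A := by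
  ext x
  constructor
  · rintro ⟨a, ha, rfl⟩
    rwa [Set.mem_preimage, inv_inv_apply]
  · intro hx
    exact ⟨_, hx, inv_inv_apply G x⟩

theorem isOpen_inv_image {A : Set G.left} (hA : IsOpen A) : IsOpen (ι[G].left '' A) := by
  rw [inv_image_eq_preimage]
  exact hA.preimage ι[G].left.continuous

theorem inv_Z0 : ι[G].left '' Z0 G = Z0 G := by
  have h1 : ι[G].left '' Z0 G ⊆ Z0 G := by
    apply subset_Z0 G ((isIrreducible_Z0 G).image _ ι[G].left.continuous.continuousOn)
    exact ⟨ePt G, one_mem_Z0 G, inv_one_apply G⟩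
  apply Set.Subset.antisymm h1
  have h2 := Set.image_mono (f := ι[G].left) h1
  rwa [inv_image_inv_image] at h2

theorem star_eq_iUnion (A V : Set G.left) :
    star G A V = ⋃ z ∈ A, lam G z '' ((snd (ptT G z) G).left ⁻¹' V) := by
  ext c
  simp only [Set.mem_iUnion]
  constructor
  · rintro ⟨w, ⟨h1, h2⟩, rfl⟩
    obtain ⟨p, hp⟩ := exists_lift_left G _ w rfl
    refine ⟨(fst G G).left w, h1, p, ?_, ?_⟩
    · rw [Set.mem_preimage, ← snd_whisker, hp]; exact h2
    · show lam G _ p = _
      rw [lam_eq, hp]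
  · rintro ⟨z, hz, p, hp, rfl⟩
    refine ⟨(ptHom G z ▷ G).left p, ⟨?_, ?_⟩, (lam_eq G z p).symm⟩
    · rw [Set.mem_preimage, fst_whisker]; exact hz
    · rw [Set.mem_preimage, snd_whisker]; exact hp

theorem isOpen_star_right (A : Set G.left) {V : Set G.left} (hV : IsOpen V) :
    IsOpen (star G A V) := by
  rw [star_eq_iUnion]
  refine isOpen_iUnion fun z => isOpen_iUnion fun _ => ?_
  exact isOpenMap_lam G z _ (hV.preimage (snd (ptT G z) G).left.continuous)

theorem isOpen_star_left {U : Set G.left} (hU : IsOpen U) (B : Set G.left) :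
    IsOpen (star G U B) := by
  rw [star_eq_inv]
  exact isOpen_inv_image G (isOpen_star_right G _ (isOpen_inv_image G hU))

theorem isCompact_star (U V : G.left.Opens) (hU : IsCompact (U : Set G.left))
    (hV : IsCompact (V : Set G.left)) : IsCompact (star G (U : Set G.left) (V : Set G.left)) :=
  (isCompact_inter_preimage G G U V hU hV).image μ[G].left.continuous

theorem zeta_mem_of_one_mem {U : Set G.left} (hU : IsOpen U) (he : ePt G ∈ U) : zeta G ∈ U :=
  (zeta_specializes_one G).mem_open hU he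

theorem r_eq_zeta {x : G.left} (hx : x ∈ Z0 G) : r G x = zeta G :=
  (r_unique G x (zeta G) (isMaxPt_zeta G) ((mem_Z0_iff G x).mp hx)).symm

theorem Z0_subset_star (U : Set G.left) (hU : IsOpen U) (he : ePt G ∈ U) :
    Z0 G ⊆ star G U (ι[G].left '' U) := by
  intro x hx
  obtain ⟨w, h1, h2, h3⟩ := exists_r G x
  rw [r_eq_zeta G hx] at h3
  refine ⟨(tw G).left w, ⟨?_, ?_⟩, ?_⟩
  · rw [Set.mem_preimage, tw_fst_apply, h3]; exact zeta_mem_of_one_mem G hU he
  · rw [Set.mem_preimage, tw_snd_apply, h2]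
    exact ⟨_, zeta_mem_of_one_mem G hU he, rfl⟩
  · rw [tw_mul_apply, h1]

theorem exists_compact_open_Z0 : ∃ V : G.left.Opens, IsCompact (V : Set G.left) ∧
    Z0 G ⊆ (V : Set G.left) := by
  obtain ⟨_, ⟨W₀, hW₀aff, rfl⟩, heW, -⟩ :=
    G.left.isBasis_affineOpens.exists_subset_of_mem_open (Set.mem_univ (ePt G)) isOpen_univ
  have hiso : IsIso ι[G].left := (inferInstance : IsIso ((Over.forget _).map ι[G]))
  let W' : G.left.Opens := ι[G].left ⁻¹ᵁ W₀
  have hW'aff : IsAffineOpen W' := hW₀aff.preimage_of_isIso ι[G].left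
  have hW' : (W' : Set G.left) = ι[G].left '' (W₀ : Set G.left) :=
    (inv_image_eq_preimage G _).symm
  refine ⟨⟨star G (W₀ : Set G.left) (W' : Set G.left), isOpen_star_left G W₀.2 _⟩,
    isCompact_star G W₀ W' hW₀aff.isCompact hW'aff.isCompact, ?_⟩
  show Z0 G ⊆ star G (W₀ : Set G.left) (W' : Set G.left)
  rw [hW']
  exact Z0_subset_star G _ W₀.2 heW

theorem isCompact_Z0 : IsCompact (Z0 G) := by
  obtain ⟨V, hV, hZV⟩ := exists_compact_open_Z0 G
  exact hV.of_isClosed_subset (isClosed_Z0 G) hZV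

/-- The union of the irreducible components meeting `U`. -/
def sat (U : Set G.left) : Set G.left := {x | r G x ∈ U}

theorem subset_sat {U : Set G.left} (hU : IsOpen U) : U ⊆ sat G U := fun x hx =>
  (r_specializes G x).mem_open hU hx

theorem sat_eq_star {U : Set G.left} (hU : IsOpen U) : sat G U = star G U (Z0 G) := by
  apply Set.Subset.antisymm
  · intro x hx
    obtain ⟨w, h1, h2, h3⟩ := exists_r G x
    refine ⟨(tw G).left w, ⟨?_, ?_⟩, ?_⟩
    · rw [Set.mem_preimage, tw_fst_apply, h3]; exact hx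
    · rw [Set.mem_preimage, tw_snd_apply, h2, ← inv_Z0 G]
      exact ⟨_, (mem_Z0_iff G _).mpr specializes_rfl, rfl⟩
    · rw [tw_mul_apply, h1]
  · rintro _ ⟨w, ⟨h1, h2⟩, rfl⟩
    have h3 := r_specializes_mul G w h2
    have h4 : r G ((fst G G).left w) = r G (μ[G].left w) :=
      r_unique G _ _ (isMaxPt_r G _) h3
    show r G (μ[G].left w) ∈ U
    rw [← h4]
    exact (r_specializes G _).mem_open hU h1

theorem isOpen_sat {U : Set G.left} (hU : IsOpen U) : IsOpen (sat G U) := by
  rw [sat_eq_star G hU]; exact isOpen_star_left G hU _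

theorem isCompact_sat (U : G.left.Opens) (hU : IsCompact (U : Set G.left)) :
    IsCompact (sat G (U : Set G.left)) := by
  rw [sat_eq_star G U.isOpen]
  obtain ⟨V, hV, hZV⟩ := exists_compact_open_Z0 G
  have h1 := isCompact_inter_preimage G G U V hU hV
  have h2 : IsCompact ((fst G G).left ⁻¹' (U : Set G.left) ∩ (snd G G).left ⁻¹' Z0 G) := by
    have h3 := h1.inter_right ((isClosed_Z0 G).preimage (snd G G).left.continuous)
    have h4 : (fst G G).left ⁻¹' (U : Set G.left) ∩ (snd G G).left ⁻¹' (V : Set G.left) ∩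
        (snd G G).left ⁻¹' Z0 G =
        (fst G G).left ⁻¹' (U : Set G.left) ∩ (snd G G).left ⁻¹' Z0 G := by
      ext w
      constructor
      · rintro ⟨⟨a, -⟩, c⟩; exact ⟨a, c⟩
      · rintro ⟨a, c⟩; exact ⟨⟨a, hZV c⟩, c⟩
    rwa [h4] at h3
  exact h2.image μ[G].left.continuous

theorem isSeparated_hom : IsSeparated G.hom := by
  have pb := (Groth.Agent.H9.GSF.isPullback_diag_unit G).map (Over.forget _)
  have h' : IsClosedImmersion ((Over.forget _).map η[G]) :=
    (inferInstance : IsClosedImmersion η[G].left)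
  have h2 : IsClosedImmersion ((Over.forget _).map (lift (𝟙 G) (𝟙 G))) :=
    MorphismProperty.of_isPullback (P := @IsClosedImmersion) pb.flip h'
  have h3 : IsClosedImmersion (pullback.diagonal G.hom) := by
    rw [← Groth.Agent.H9.GSF.diag_left_eq]; exact h2
  exact ⟨h3⟩

theorem quasiSeparatedSpace : QuasiSeparatedSpace G.left := by
  haveI := isSeparated_hom G
  exact quasiSeparatedSpace_of_quasiSeparated G.hom

theorem isClosed_sat (U : G.left.Opens) (hU : IsCompact (U : Set G.left)) :
    IsClosed (sat G (U : Set G.left)) := by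
  let W : G.left.Opens := ⟨sat G U, isOpen_sat G U.isOpen⟩
  haveI hc : CompactSpace W := isCompact_iff_compactSpace.mp (isCompact_sat G U hU)
  haveI := quasiSeparatedSpace G
  haveI : QuasiCompact W.ι := inferInstance
  have hs : SpecializingMap W.ι := by
    intro a b hab
    have ha : r G (W.ι a) ∈ (U : Set G.left) := a.2
    have h1 : r G (W.ι a) ⤳ b := (r_specializes G _).trans hab
    have h2 : r G (W.ι a) = r G b := r_unique G b _ (isMaxPt_r G _) h1
    have hb : b ∈ sat G (U : Set G.left) := by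
      show r G b ∈ (U : Set G.left)
      rw [← h2]; exact ha
    refine ⟨⟨b, hb⟩, ?_, rfl⟩
    exact (W.ι.isOpenEmbedding.isInducing.specializes_iff).mp hab
  have hcl : IsClosedMap W.ι := (isClosedMap_iff_specializingMap W.ι).mpr hs
  have := hcl.isClosed_range
  rwa [Scheme.Opens.range_ι] at this

theorem connectedComponent_eq_Z0 : connectedComponent (ePt G) = Z0 G := by
  apply Set.Subset.antisymm
  · intro x hx
    by_contra hxZ
    have h1 : ePt G ∉ closure {r G x} := by
      intro h
      have h2 : r G x ⤳ ePt G := specializes_iff_mem_closure.mpr h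
      have h3 : r G x = zeta G :=
        uniqueGen_one G _ _ (isMaxPt_r G x) (isMaxPt_zeta G) h2 (zeta_specializes_one G)
      apply hxZ
      rw [mem_Z0_iff, ← h3]
      exact r_specializes G x
    obtain ⟨_, ⟨U, hUaff, rfl⟩, heU, hUsub⟩ :=
      G.left.isBasis_affineOpens.exists_subset_of_mem_open h1 isClosed_closure.isOpen_compl
    have hclopen : IsClopen (sat G (U : Set G.left)) :=
      ⟨isClosed_sat G U hUaff.isCompact, isOpen_sat G U.isOpen⟩
    have h4 := hclopen.connectedComponent_subset (subset_sat G U.isOpen heU)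
    have h5 : r G x ∈ (U : Set G.left) := h4 hx
    exact hUsub h5 (subset_closure rfl)
  · exact (isIrreducible_Z0 G).isPreirreducible.isPreconnected.subset_connectedComponent
      (one_mem_Z0 G)

theorem S0355_main :
    IsIrreducible (connectedComponent (η[G].left (IsLocalRing.closedPoint K))) ∧
    IsCompact (connectedComponent (η[G].left (IsLocalRing.closedPoint K))) := by
  have h := connectedComponent_eq_Z0 G
  change connectedComponent (η[G].left (IsLocalRing.closedPoint K)) = Z0 G at h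
  rw [h]
  exact ⟨isIrreducible_Z0 G, isCompact_Z0 G⟩

theorem S0348_main [ConnectedSpace G.left] : IrreducibleSpace G.left := by
  rw [irreducibleSpace_def]
  have h := connectedComponent_eq_Z0 G
  rw [PreconnectedSpace.connectedComponent_eq_univ] at h
  show IsIrreducible (Set.univ : Set G.left)
  rw [h]
  exact isIrreducible_Z0 G

end Groth.Agent.H9.GZB
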