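import Mathlib

/-! Helper9: factoring through closed subschemes: locality on the source, Galois connection, affine dictionary. -/

set_option linter.style.haveILetI false
set_option linter.unusedSectionVars false

namespace Groth.Agent.H9.KL

universe u

open CategoryTheory CategoryTheory.Limits AlgebraicGeometry

variable {M Y : Scheme.{u}}

/-- Factoring through the closed subscheme of an ideal sheaf. -/
theorem le_ker_iff_exists_lift (𝒦 : Y.IdealSheafData) (m : M ⟶ Y) :
    𝒦 ≤ m.ker ↔ ∃ l : M ⟶ 𝒦.subscheme, l ≫ 𝒦.subschemeι = m := by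
  constructor
  · intro h
    exact ⟨IsClosedImmersion.lift 𝒦.subschemeι m (by rwa [Scheme.IdealSheafData.ker_subschemeι]),
      IsClosedImmersion.lift_fac _ _ _⟩
  · rintro ⟨l, rfl⟩
    have := Scheme.Hom.le_ker_comp l 𝒦.subschemeι
    rwa [Scheme.IdealSheafData.ker_subschemeι] at this

/-- Factoring through a closed subscheme is local on the source. -/
theorem le_ker_of_openCover (𝒦 : Y.IdealSheafData) (m : M ⟶ Y) (𝒰 : M.OpenCover)
    (h : ∀ c, 𝒦 ≤ (𝒰.f c ≫ m).ker) : 𝒦 ≤ m.ker := by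
  rw [le_ker_iff_exists_lift]
  choose l hl using fun c => (le_ker_iff_exists_lift 𝒦 (𝒰.f c ≫ m)).mp (h c)
  refine ⟨𝒰.glueMorphisms l ?_, ?_⟩
  · intro x y
    rw [← cancel_mono 𝒦.subschemeι, Category.assoc, Category.assoc, hl, hl,
      pullback.condition_assoc]
  · apply 𝒰.hom_ext
    intro c
    rw [Scheme.Cover.ι_glueMorphisms_assoc, hl]

theorem le_ker_comp_iff {Z : Scheme.{u}} (𝒦 : Y.IdealSheafData) (f : Z ⟶ M) (g : M ⟶ Y) :
    𝒦 ≤ (f ≫ g).ker ↔ 𝒦.comap g ≤ f.ker := by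
  rw [Scheme.Hom.ker_comp, Scheme.IdealSheafData.le_map_iff_comap_le]

/-- The ideal of `R` corresponding to an ideal sheaf on `Spec R`. -/
noncomputable def idealOf {R : CommRingCat.{u}} (𝒦 : (Spec R).IdealSheafData) : Ideal R :=
  (𝒦.ideal ⟨⊤, isAffineOpen_top _⟩).comap (Scheme.ΓSpecIso R).inv.hom

theorem le_ker_SpecMap_iff {R R' : CommRingCat.{u}} (𝒦 : (Spec R).IdealSheafData) (ψ : R ⟶ R') :
    𝒦 ≤ (Spec.map ψ).ker ↔ idealOf 𝒦 ≤ RingHom.ker ψ.hom := by
  have hker : (Spec.map ψ).ker.ideal ⟨⊤, isAffineOpen_top _⟩ =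
      RingHom.ker (Spec.map ψ).appTop.hom := Scheme.Hom.ker_apply _ _
  have hnat : ∀ r : R, (Scheme.ΓSpecIso R').hom.hom ((Spec.map ψ).appTop.hom
      ((Scheme.ΓSpecIso R).inv.hom r)) = ψ.hom r := by
    intro r
    have := Scheme.ΓSpecIso_naturality ψ
    have h2 := congrArg (fun f => f.hom ((Scheme.ΓSpecIso R).inv.hom r)) this
    simp only [CommRingCat.hom_comp, RingHom.comp_apply] at h2
    rw [h2]
    have h3 : (Scheme.ΓSpecIso R).hom.hom ((Scheme.ΓSpecIso R).inv.hom r) = r := by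
      rw [← RingHom.comp_apply, ← CommRingCat.hom_comp, Iso.inv_hom_id]; rfl
    rw [h3]
  have hinj : Function.Injective (Scheme.ΓSpecIso R').hom.hom :=
    (ConcreteCategory.bijective_of_isIso (Scheme.ΓSpecIso R').hom).1
  constructor
  · intro h r hr
    have h1 := h ⟨⊤, isAffineOpen_top _⟩ hr
    rw [hker, RingHom.mem_ker] at h1
    rw [RingHom.mem_ker, ← hnat r, h1, map_zero]
  · intro h
    apply Scheme.IdealSheafData.le_of_isAffine
    intro s hs
    rw [hker, RingHom.mem_ker]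
    have hs' : (Scheme.ΓSpecIso R).hom.hom s ∈ idealOf 𝒦 := by
      show _ ∈ Ideal.comap _ _
      rw [Ideal.mem_comap]
      have h3 : (Scheme.ΓSpecIso R).inv.hom ((Scheme.ΓSpecIso R).hom.hom s) = s := by
        rw [← RingHom.comp_apply, ← CommRingCat.hom_comp, Iso.hom_inv_id]; rfl
      rw [h3]; exact hs
    have h4 := h hs'
    rw [RingHom.mem_ker, ← hnat] at h4
    have h3 : (Scheme.ΓSpecIso R).inv.hom ((Scheme.ΓSpecIso R).hom.hom s) = s := by
      rw [← RingHom.comp_apply, ← CommRingCat.hom_comp, Iso.hom_inv_id]; rfl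
    rw [h3] at h4
    exact hinj (by rw [h4, map_zero])

end Groth.Agent.H9.KL
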