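import Mathlib
import Groth.Agent.Lib.Helper9.Misc.KLB1

/-! Helper9: affine-local criterion for factoring through a closed subscheme. -/

set_option linter.style.haveILetI false
set_option linter.unusedSectionVars false

namespace Groth.Agent.H9.KL

universe u

open CategoryTheory CategoryTheory.Limits AlgebraicGeometry Opposite

variable {M Y : Scheme.{u}}

/-- Affine-local criterion for factoring through a closed subscheme. -/
theorem le_ker_iff_appLE (𝒦 : Y.IdealSheafData) (m : M ⟶ Y) :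
    𝒦 ≤ m.ker ↔ ∀ (V : M.affineOpens) (U : Y.affineOpens) (h : V.1 ≤ m ⁻¹ᵁ U.1),
      𝒦.ideal U ≤ RingHom.ker (m.appLE U.1 V.1 h).hom := by
  constructor
  · intro hle V U h s hs
    have h1 : s ∈ RingHom.ker (m.app U.1).hom := m.ideal_ker_le U (hle U hs)
    rw [RingHom.mem_ker] at h1 ⊢
    show (m.app U.1 ≫ M.presheaf.map (homOfLE h).op).hom s = 0
    rw [CommRingCat.hom_comp, RingHom.comp_apply, h1, map_zero]
  · intro H
    unfold Scheme.Hom.ker
    rw [Scheme.IdealSheafData.le_ofIdeals_iff]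
    intro U s hs
    rw [RingHom.mem_ker]
    let ι := {V : M.affineOpens // V.1 ≤ m ⁻¹ᵁ U.1}
    refine TopCat.Sheaf.eq_of_locally_eq' M.sheaf (fun V : ι => V.1.1) (m ⁻¹ᵁ U.1)
      (fun V => homOfLE V.2) ?_ _ _ ?_
    · intro p hp
      obtain ⟨_, ⟨V, hV, rfl⟩, hpV, hVU⟩ :=
        M.isBasis_affineOpens.exists_subset_of_mem_open hp (m ⁻¹ᵁ U.1).isOpen
      exact TopologicalSpace.Opens.mem_iSup.mpr ⟨⟨⟨V, hV⟩, hVU⟩, hpV⟩
    · intro V
      have := H V.1 U V.2 hs
      rw [RingHom.mem_ker] at this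
      refine Eq.trans ?_ (map_zero (M.presheaf.map (homOfLE V.2).op).hom).symm
      exact this

/-- An ideal is determined by the ring maps killing it. -/
theorem ideal_eq_of_forall_ker' {R : Type u} [CommRing R] (I₁ I₂ : Ideal R)
    (h : ∀ (C : Type u) [CommRing C] (ψ : R →+* C),
      I₁ ≤ RingHom.ker ψ ↔ I₂ ≤ RingHom.ker ψ) : I₁ = I₂ := by
  apply le_antisymm
  · have := (h (R ⧸ I₂) (Ideal.Quotient.mk I₂)).mpr (by rw [Ideal.mk_ker])
    rwa [Ideal.mk_ker] at this
  · have := (h (R ⧸ I₁) (Ideal.Quotient.mk I₁)).mp (by rw [Ideal.mk_ker])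
    rwa [Ideal.mk_ker] at this

end Groth.Agent.H9.KL
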