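import Mathlib

/-! Helper9: coefficient ideal of an ideal in A ⊗_k B (k a field): represents vanishing after base change. -/

set_option linter.style.haveILetI false
set_option linter.unusedSectionVars false

namespace Groth.Agent.H9.KL

open TensorProduct

section Coeff

variable {k : Type*} [Field k] {A B : Type*} [CommRing A] [Algebra k A] [CommRing B] [Algebra k B]

/-- The coefficient ideal of an ideal `J` of `A ⊗[k] B`, with respect to a `k`-basis of `B`. -/
noncomputable def coeffIdeal (J : Ideal (A ⊗[k] B)) : Ideal A :=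
  Ideal.span {a | ∃ z ∈ J, ∃ i, (Algebra.TensorProduct.basis A (Module.Free.chooseBasis k B)).repr z i = a}

theorem repr_map {C : Type*} [CommRing C] [Algebra k C] (φ : A →ₐ[k] C) (z : A ⊗[k] B)
    (i : Module.Free.ChooseBasisIndex k B) :
    (Algebra.TensorProduct.basis C (Module.Free.chooseBasis k B)).repr
      (Algebra.TensorProduct.map φ (AlgHom.id k B) z) i =
    φ ((Algebra.TensorProduct.basis A (Module.Free.chooseBasis k B)).repr z i) := by
  induction z using TensorProduct.induction_on with
  | zero => simp
  | tmul a x =>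
    simp only [Algebra.TensorProduct.map_tmul, AlgHom.coe_id, id_eq,
      Algebra.TensorProduct.basis_repr_tmul, Finsupp.smul_apply, Finsupp.mapRange_apply,
      smul_eq_mul, map_mul, AlgHom.commutes]
  | add x y hx hy =>
    simp only [map_add, Finsupp.add_apply, hx, hy]

/-- The coefficient ideal represents the vanishing of `J` after base change. -/
theorem coeffIdeal_le_ker_iff (J : Ideal (A ⊗[k] B)) {C : Type*} [CommRing C] [Algebra k C]
    (φ : A →ₐ[k] C) :
    coeffIdeal J ≤ RingHom.ker (φ : A →+* C) ↔
      J ≤ RingHom.ker ((Algebra.TensorProduct.map φ (AlgHom.id k B) : A ⊗[k] B →ₐ[k] C ⊗[k] B) :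
        A ⊗[k] B →+* C ⊗[k] B) := by
  constructor
  · intro h z hz
    rw [RingHom.mem_ker]
    apply (Algebra.TensorProduct.basis C (Module.Free.chooseBasis k B)).repr.injective
    ext i
    have := repr_map φ z i
    rw [RingHom.coe_coe, this]
    have hmem : (Algebra.TensorProduct.basis A (Module.Free.chooseBasis k B)).repr z i ∈
        coeffIdeal J := Ideal.subset_span ⟨z, hz, i, rfl⟩
    have := h hmem
    rw [RingHom.mem_ker] at this
    simpa using this
  · intro h
    unfold coeffIdeal
    rw [Ideal.span_le]
    rintro _ ⟨z, hz, i, rfl⟩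
    show _ ∈ RingHom.ker _
    rw [RingHom.mem_ker, RingHom.coe_coe, ← repr_map φ z i]
    have := h hz
    rw [RingHom.mem_ker, RingHom.coe_coe] at this
    rw [this]
    simp

end Coeff

section Unique

universe u

variable {k : Type u} [Field k] {R : Type u} [CommRing R] [Algebra k R]

/-- An ideal is determined by the algebra maps killing it. -/
theorem ideal_eq_of_forall_ker (I₁ I₂ : Ideal R)
    (h : ∀ (C : Type u) [CommRing C] [Algebra k C] (ψ : R →ₐ[k] C),
      I₁ ≤ RingHom.ker (ψ : R →+* C) ↔ I₂ ≤ RingHom.ker (ψ : R →+* C)) : I₁ = I₂ := by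
  apply le_antisymm
  · have := (h (R ⧸ I₂) (Ideal.Quotient.mkₐ k I₂)).mpr (by
      intro x hx
      rw [RingHom.mem_ker]
      exact Ideal.Quotient.eq_zero_iff_mem.mpr hx)
    intro x hx
    have h2 := this hx
    rw [RingHom.mem_ker] at h2
    exact Ideal.Quotient.eq_zero_iff_mem.mp h2
  · have := (h (R ⧸ I₁) (Ideal.Quotient.mkₐ k I₁)).mp (by
      intro x hx
      rw [RingHom.mem_ker]
      exact Ideal.Quotient.eq_zero_iff_mem.mpr hx)
    intro x hx
    have h2 := this hx
    rw [RingHom.mem_ker] at h2
    exact Ideal.Quotient.eq_zero_iff_mem.mp h2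

end Unique

end Groth.Agent.H9.KL
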