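import Mathlib

/-! Helper9: products of affine points over a field: q : Spec (C ⊗ B) ⟶ W ×_k X. -/

set_option linter.style.haveILetI false
set_option linter.unusedSectionVars false

namespace Groth.Agent.H9.KL

universe u

open CategoryTheory CategoryTheory.Limits AlgebraicGeometry TensorProduct

variable {k : Type u} [Field k] {W X : Scheme.{u}} (w : W ⟶ Spec (CommRingCat.of k))
  (x : X ⟶ Spec (CommRingCat.of k))

section Q

variable {C B : Type u} [CommRing C] [Algebra k C] [CommRing B] [Algebra k B]
  (c : Spec (CommRingCat.of C) ⟶ W) (hc : c ≫ w = Spec.map (CommRingCat.ofHom (algebraMap k C)))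
  (b : Spec (CommRingCat.of B) ⟶ X) (hb : b ≫ x = Spec.map (CommRingCat.ofHom (algebraMap k B)))

/-- The product of two affine points over `k`. -/
noncomputable def q : Spec (CommRingCat.of (C ⊗[k] B)) ⟶ pullback w x :=
  (pullbackSpecIso k C B).inv ≫
    pullback.map (Spec.map (CommRingCat.ofHom (algebraMap k C)))
      (Spec.map (CommRingCat.ofHom (algebraMap k B))) w x c b (𝟙 _)
      (by rw [Category.comp_id, hc]) (by rw [Category.comp_id, hb])

@[reassoc]
theorem q_fst : q w x c hc b hb ≫ pullback.fst w x =
    Spec.map (CommRingCat.ofHom Algebra.TensorProduct.includeLeftRingHom) ≫ c := by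
  unfold q
  rw [Category.assoc, pullback.lift_fst, pullbackSpecIso_inv_fst_assoc]

@[reassoc]
theorem q_snd : q w x c hc b hb ≫ pullback.snd w x =
    Spec.map (CommRingCat.ofHom
      (Algebra.TensorProduct.includeRight (R := k) (A := C) (B := B)).toRingHom) ≫ b := by
  unfold q
  rw [Category.assoc, pullback.lift_snd, pullbackSpecIso_inv_snd_assoc]
  rfl

instance isOpenImmersion_q [IsOpenImmersion c] [IsOpenImmersion b] :
    IsOpenImmersion (q w x c hc b hb) := by
  unfold q
  infer_instance

theorem range_q : Set.range (q w x c hc b hb) =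
    pullback.fst w x ⁻¹' Set.range c ∩ pullback.snd w x ⁻¹' Set.range b := by
  unfold q
  have hs : Function.Surjective (pullbackSpecIso k C B).inv :=
    (pullbackSpecIso k C B).inv.homeomorph.surjective
  rw [Scheme.Hom.comp_base, TopCat.coe_comp, Set.range_comp, Set.range_eq_univ.mpr hs,
    Set.image_univ, Scheme.Pullback.range_map]

/-- Functoriality of `q` in the first point. -/
theorem q_map {C' : Type u} [CommRing C'] [Algebra k C'] (φ : C →ₐ[k] C') :
    q w x (Spec.map (CommRingCat.ofHom φ.toRingHom) ≫ c)
      (by
        rw [Category.assoc, hc, ← Spec.map_comp, ← CommRingCat.ofHom_comp]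
        congr 2
        exact φ.comp_algebraMap) b hb =
    Spec.map (CommRingCat.ofHom
      (Algebra.TensorProduct.map φ (AlgHom.id k B)).toRingHom) ≫ q w x c hc b hb := by
  apply pullback.hom_ext
  · rw [q_fst, Category.assoc, q_fst, ← Spec.map_comp_assoc, ← Spec.map_comp_assoc,
      ← CommRingCat.ofHom_comp, ← CommRingCat.ofHom_comp]
    congr 3
  · rw [q_snd, Category.assoc, q_snd, ← Spec.map_comp_assoc, ← CommRingCat.ofHom_comp]
    congr 3
    ext a
    simp

end Q

end Groth.Agent.H9.KL
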