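import Mathlib
import Groth.Agent.Lib.Helper9.Misc.KLA1
import Groth.Agent.Lib.Helper9.Misc.KLB1
import Groth.Agent.Lib.Helper9.Misc.KLC1

/-! Helper9: affine points of k-schemes and the ideal representing GoodAff. -/

set_option linter.style.haveILetI false
set_option linter.unusedSectionVars false

namespace Groth.Agent.H9.KL

universe u

open CategoryTheory CategoryTheory.Limits AlgebraicGeometry TensorProduct

variable {k : Type u} [Field k]

/-- An affine point of a `k`-scheme. -/
structure APt {Y : Scheme.{u}} (y : Y ⟶ Spec (CommRingCat.of k)) where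
  B : Type u
  [cr : CommRing B]
  b : Spec (CommRingCat.of B) ⟶ Y

attribute [instance] APt.cr

namespace APt

variable {Y : Scheme.{u}} {y : Y ⟶ Spec (CommRingCat.of k)}

noncomputable instance alg (β : APt y) : Algebra k β.B :=
  (Spec.preimage (β.b ≫ y)).hom.toAlgebra

theorem hb (β : APt y) : β.b ≫ y = Spec.map (CommRingCat.ofHom (algebraMap k β.B)) := by
  have : CommRingCat.ofHom (algebraMap k β.B) = Spec.preimage (β.b ≫ y) := rfl
  rw [this, Spec.map_preimage]

/-- Push an affine point along a ring map. -/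
noncomputable def push (β : APt y) {C' : Type u} [CommRing C'] (φ : β.B →+* C') : APt y where
  B := C'
  b := Spec.map (CommRingCat.ofHom φ) ≫ β.b

theorem algebraMap_push (β : APt y) {C' : Type u} [CommRing C'] (φ : β.B →+* C') (r : k) :
    algebraMap k (β.push φ).B r = φ (algebraMap k β.B r) := by
  have h0 : (Spec.map (CommRingCat.ofHom φ) ≫ β.b) ≫ y =
      Spec.map (CommRingCat.ofHom (algebraMap k (β.push φ).B)) := (β.push φ).hb
  have h1 : (Spec.map (CommRingCat.ofHom φ) ≫ β.b) ≫ y =
      Spec.map (CommRingCat.ofHom (algebraMap k β.B) ≫ CommRingCat.ofHom φ) := by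
    rw [Category.assoc, β.hb, Spec.map_comp]
  have h2 : (CommRingCat.ofHom (algebraMap k (β.push φ).B) :
      CommRingCat.of k ⟶ CommRingCat.of C') =
      CommRingCat.ofHom (algebraMap k β.B) ≫ CommRingCat.ofHom φ :=
    Spec.map_injective (h0.symm.trans h1)
  have := congrArg (fun f => f.hom r) h2
  exact this

/-- The pushing map as an algebra map. -/
noncomputable def pushHom (β : APt y) {C' : Type u} [CommRing C'] (φ : β.B →+* C') :
    β.B →ₐ[k] (β.push φ).B :=
  { φ with commutes' := fun r => (β.algebraMap_push φ r).symm }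

/-- The affine point given by an affine open. -/
noncomputable def ofAffineOpen (V : Y.affineOpens) : APt y where
  B := Γ(Y, V)
  b := V.2.fromSpec

end APt

variable {W X : Scheme.{u}} (w : W ⟶ Spec (CommRingCat.of k)) (x : X ⟶ Spec (CommRingCat.of k))
  (𝒥 : (pullback w x).IdealSheafData)

/-- The product of two affine points. -/
noncomputable def qq (γ : APt w) (β : APt x) :
    Spec (CommRingCat.of (γ.B ⊗[k] β.B)) ⟶ pullback w x :=
  q w x γ.b γ.hb β.b β.hb

/-- The affine product point factors through the closed subscheme of `𝒥`. -/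
def GoodAff (γ : APt w) (β : APt x) : Prop := 𝒥 ≤ (qq w x γ β).ker

theorem qq_push (γ : APt w) (β : APt x) {C' : Type u} [CommRing C'] (φ : γ.B →+* C') :
    qq w x (γ.push φ) β = Spec.map (CommRingCat.ofHom
      (Algebra.TensorProduct.map (γ.pushHom φ) (AlgHom.id k β.B)).toRingHom) ≫ qq w x γ β := by
  unfold qq
  exact q_map w x γ.b γ.hb β.b β.hb (γ.pushHom φ)

/-- The ideal of `γ.B` representing the condition `GoodAff` on points factoring through `γ`. -/
noncomputable def repIdeal (γ : APt w) : Ideal γ.B :=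
  ⨆ β : APt x, coeffIdeal (idealOf (𝒥.comap (qq w x γ β)))

theorem goodAff_push_iff (γ : APt w) (β : APt x) {C' : Type u} [CommRing C'] (φ : γ.B →+* C') :
    GoodAff w x 𝒥 (γ.push φ) β ↔
      coeffIdeal (idealOf (𝒥.comap (qq w x γ β))) ≤ RingHom.ker φ := by
  unfold GoodAff
  rw [qq_push, le_ker_comp_iff, le_ker_SpecMap_iff]
  exact (coeffIdeal_le_ker_iff _ (γ.pushHom φ)).symm

theorem repIdeal_le_ker_iff (γ : APt w) {C' : Type u} [CommRing C'] (φ : γ.B →+* C') :
    repIdeal w x 𝒥 γ ≤ RingHom.ker φ ↔ ∀ β : APt x, GoodAff w x 𝒥 (γ.push φ) β := by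
  unfold repIdeal
  rw [iSup_le_iff]
  exact forall_congr' fun β => (goodAff_push_iff w x 𝒥 γ β φ).symm

end Groth.Agent.H9.KL
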