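import Mathlib
import Groth.Agent.Lib.Helper9.Misc.KLD1
import Groth.Agent.Lib.Helper9.Misc.KLB2

/-! Helper9: key lemma over a field: the locus of w in W with {w} × X inside a closed subscheme of W ×_k X is a closed subscheme of W. -/

set_option linter.style.haveILetI false
set_option linter.unusedSectionVars false

namespace Groth.Agent.H9.KL

universe u

open CategoryTheory CategoryTheory.Limits AlgebraicGeometry TensorProduct Opposite

variable {k : Type u} [Field k]
variable {W X : Scheme.{u}} (w : W ⟶ Spec (CommRingCat.of k)) (x : X ⟶ Spec (CommRingCat.of k))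
  (𝒥 : (pullback w x).IdealSheafData)

/-- `GoodAff` only depends on the underlying morphism of the first point. -/
theorem goodAff_congr {C : Type u} [CommRing C] (c₁ c₂ : Spec (CommRingCat.of C) ⟶ W)
    (h : c₁ = c₂) (β : APt x) :
    GoodAff w x 𝒥 ⟨C, c₁⟩ β ↔ GoodAff w x 𝒥 ⟨C, c₂⟩ β := by
  subst h; rfl

theorem push_ofAffineOpen_basicOpen (U : W.affineOpens) (f : Γ(W, U)) {C : Type u} [CommRing C]
    (ψ : Γ(W, W.basicOpen f) →+* C) (β : APt x) :
    GoodAff w x 𝒥 ((APt.ofAffineOpen (y := w) (W.affineBasicOpen f)).push ψ) β ↔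
    GoodAff w x 𝒥 ((APt.ofAffineOpen (y := w) U).push
      (ψ.comp (W.presheaf.map (homOfLE (W.basicOpen_le f)).op).hom)) β := by
  apply goodAff_congr
  show Spec.map (CommRingCat.ofHom ψ) ≫ (W.affineBasicOpen f).2.fromSpec =
    Spec.map (CommRingCat.ofHom (ψ.comp (W.presheaf.map (homOfLE (W.basicOpen_le f)).op).hom)) ≫
      U.2.fromSpec
  have e := U.2.map_fromSpec (W.affineBasicOpen f).2 (homOfLE (W.basicOpen_le f)).op
  have key : CommRingCat.ofHom (ψ.comp (W.presheaf.map (homOfLE (W.basicOpen_le f)).op).hom) =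
      W.presheaf.map (homOfLE (W.basicOpen_le f)).op ≫ CommRingCat.ofHom ψ := rfl
  rw [key, Spec.map_comp, Category.assoc]
  exact congrArg (Spec.map (CommRingCat.ofHom ψ) ≫ ·) e.symm

/-- The ideal sheaf on `W` of the locus of `w` such that `{w} × X` lies in `V(𝒥)`. -/
noncomputable def theIdeal : W.IdealSheafData where
  ideal U := repIdeal w x 𝒥 (APt.ofAffineOpen U)
  map_ideal_basicOpen U f := by
    apply ideal_eq_of_forall_ker'
    intro C _ ψ
    rw [Ideal.map_le_iff_le_comap, RingHom.comap_ker]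
    have h1 := repIdeal_le_ker_iff w x 𝒥 (APt.ofAffineOpen (y := w) U)
      (ψ.comp (W.presheaf.map (homOfLE (W.basicOpen_le f)).op).hom)
    have h2 := repIdeal_le_ker_iff w x 𝒥 (APt.ofAffineOpen (y := w) (W.affineBasicOpen f)) ψ
    exact h1.trans ((forall_congr' fun β =>
      (push_ofAffineOpen_basicOpen w x 𝒥 U f ψ β).symm).trans h2.symm)

theorem isOpenImmersion_q' {W X : Scheme.{u}} (w : W ⟶ Spec (CommRingCat.of k))
    (x : X ⟶ Spec (CommRingCat.of k)) {C B : Type u} [CommRing C] [Algebra k C] [CommRing B]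
    [Algebra k B] (c : Spec (CommRingCat.of C) ⟶ W)
    (hc : c ≫ w = Spec.map (CommRingCat.ofHom (algebraMap k C)))
    (b : Spec (CommRingCat.of B) ⟶ X)
    (hb : b ≫ x = Spec.map (CommRingCat.ofHom (algebraMap k B)))
    (h1 : IsOpenImmersion c) (h2 : IsOpenImmersion b) : IsOpenImmersion (q w x c hc b hb) :=
  isOpenImmersion_q w x c hc b hb

section Main

variable {T : Scheme.{u}} (t : T ⟶ W) (τ : T ⟶ Spec (CommRingCat.of k)) (hτ : t ≫ w = τ)

/-- The base change map `T ×_k X ⟶ W ×_k X`. -/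
noncomputable def mT : pullback τ x ⟶ pullback w x :=
  pullback.map τ x w x t (𝟙 X) (𝟙 _) (by rw [Category.comp_id, hτ]) (by simp)

/-- The affine point of `W` induced by an affine point of `T`. -/
noncomputable def ptW {C : Type u} [CommRing C] (c : Spec (CommRingCat.of C) ⟶ T) : APt w := ⟨C, c ≫ t⟩

include hτ in
theorem hcT {C : Type u} [CommRing C] (c : Spec (CommRingCat.of C) ⟶ T) :
    c ≫ τ = Spec.map (CommRingCat.ofHom (algebraMap k (ptW w t c).B)) := by
  rw [← hτ, ← Category.assoc]; exact (ptW w t c).hb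

theorem q_comp_mT {C : Type u} [CommRing C] (c : Spec (CommRingCat.of C) ⟶ T) (β : APt x) :
    q (C := (ptW w t c).B) (B := β.B) τ x c (hcT w t τ hτ c) β.b β.hb ≫ mT w x t τ hτ =
      qq w x (ptW w t c) β := by
  unfold qq mT
  apply pullback.hom_ext
  · rw [Category.assoc, pullback.lift_fst, q_fst_assoc, q_fst]; rfl
  · rw [Category.assoc, pullback.lift_snd, q_snd_assoc, q_snd, Category.comp_id]

theorem goodAff_ptW_iff (V : T.affineOpens) (U : W.affineOpens) (h : V.1 ≤ t ⁻¹ᵁ U.1)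
    (β : APt x) :
    GoodAff w x 𝒥 (ptW w t V.2.fromSpec) β ↔
      GoodAff w x 𝒥 ((APt.ofAffineOpen (y := w) U).push (t.appLE U.1 V.1 h).hom) β := by
  apply goodAff_congr
  exact (IsAffineOpen.SpecMap_appLE_fromSpec t U.2 V.2 h).symm

theorem theIdeal_ideal (U : W.affineOpens) :
    (theIdeal w x 𝒥).ideal U = repIdeal w x 𝒥 (APt.ofAffineOpen U) := rfl

theorem main_iff : 𝒥 ≤ (mT w x t τ hτ).ker ↔ theIdeal w x 𝒥 ≤ t.ker := by
  constructor
  · intro hJ
    rw [le_ker_iff_appLE]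
    intro V U h
    refine (repIdeal_le_ker_iff w x 𝒥 (APt.ofAffineOpen (y := w) U)
      (t.appLE U.1 V.1 h).hom).mpr ?_
    intro β
    refine (goodAff_ptW_iff w x 𝒥 t V U h β).mp ?_
    show 𝒥 ≤ (qq w x (ptW w t V.2.fromSpec) β).ker
    rw [← q_comp_mT w x t τ hτ]
    exact hJ.trans (Scheme.Hom.le_ker_comp _ _)
  · intro hI
    rw [le_ker_iff_appLE] at hI
    let J := {p : T.affineOpens × W.affineOpens // p.1.1 ≤ t ⁻¹ᵁ p.2.1} × X.affineOpens
    let 𝒰 : (pullback τ x).OpenCover := Scheme.Cover.mkOfCovers J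
      (fun j => Spec (CommRingCat.of ((ptW w t j.1.1.1.2.fromSpec).B ⊗[k]
        (APt.ofAffineOpen (y := x) j.2).B)))
      (fun j => q (C := (ptW w t j.1.1.1.2.fromSpec).B) (B := (APt.ofAffineOpen (y := x) j.2).B)
        τ x j.1.1.1.2.fromSpec (hcT w t τ hτ _) j.2.2.fromSpec (APt.ofAffineOpen (y := x) j.2).hb)
      (by
        intro z
        obtain ⟨_, ⟨U, hU, rfl⟩, hzU, -⟩ := W.isBasis_affineOpens.exists_subset_of_mem_open
          (Set.mem_univ (t (pullback.fst τ x z))) isOpen_univ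
        obtain ⟨_, ⟨V, hV, rfl⟩, hzV, hVU⟩ := T.isBasis_affineOpens.exists_subset_of_mem_open
          (show pullback.fst τ x z ∈ (t ⁻¹ᵁ U : Set T) from hzU) (t ⁻¹ᵁ U).isOpen
        obtain ⟨_, ⟨V', hV', rfl⟩, hzV', -⟩ := X.isBasis_affineOpens.exists_subset_of_mem_open
          (Set.mem_univ (pullback.snd τ x z)) isOpen_univ
        refine ⟨⟨⟨(⟨V, hV⟩, ⟨U, hU⟩), hVU⟩, ⟨V', hV'⟩⟩, ?_⟩
        have hz : z ∈ Set.range (q (C := (ptW w t hV.fromSpec).B)
            (B := (APt.ofAffineOpen (y := x) ⟨V', hV'⟩).B) τ x hV.fromSpec (hcT w t τ hτ _)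
            hV'.fromSpec (APt.ofAffineOpen (y := x) ⟨V', hV'⟩).hb) := by
          rw [range_q]
          refine ⟨?_, ?_⟩
          · show pullback.fst τ x z ∈ Set.range hV.fromSpec
            rw [hV.range_fromSpec]; exact hzV
          · show pullback.snd τ x z ∈ Set.range hV'.fromSpec
            rw [hV'.range_fromSpec]; exact hzV'
        exact hz)
      (fun j => by
        haveI h1 := IsAffineOpen.isOpenImmersion_fromSpec j.1.1.1.2
        haveI h2 := IsAffineOpen.isOpenImmersion_fromSpec j.2.2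
        exact isOpenImmersion_q' (C := (ptW w t j.1.1.1.2.fromSpec).B)
          (B := (APt.ofAffineOpen (y := x) j.2).B) τ x _ _ _ _ h1 h2)
    apply le_ker_of_openCover 𝒥 _ 𝒰
    rintro ⟨⟨⟨V, U⟩, h⟩, V'⟩
    show 𝒥 ≤ (q (C := (ptW w t V.2.fromSpec).B) (B := (APt.ofAffineOpen (y := x) V').B)
        τ x V.2.fromSpec (hcT w t τ hτ _) V'.2.fromSpec (APt.ofAffineOpen (y := x) V').hb ≫
        mT w x t τ hτ).ker
    have e := q_comp_mT w x t τ hτ V.2.fromSpec (APt.ofAffineOpen (y := x) V')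
    refine le_of_le_of_eq ?_ (congrArg Scheme.Hom.ker e.symm)
    show GoodAff w x 𝒥 (ptW w t V.2.fromSpec) (APt.ofAffineOpen V')
    refine (goodAff_ptW_iff w x 𝒥 t V U h _).mpr ?_
    exact (repIdeal_le_ker_iff w x 𝒥 (APt.ofAffineOpen (y := w) U)
      (t.appLE U.1 V.1 h).hom).mp (hI V U h) _

end Main

end Groth.Agent.H9.KL
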