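import Mathlib
import Groth.Agent.Lib.Helper9.Misc.KLE1

/-! Helper9: key lemma in Over (Spec k) form. -/

set_option linter.style.haveILetI false
set_option linter.unusedSectionVars false

namespace Groth.Agent.H9.KL

universe u

open CategoryTheory CategoryTheory.Limits AlgebraicGeometry MonoidalCategory
  CartesianMonoidalCategory

variable {k : Type u} [Field k]

theorem exists_lift_iff_le_ker {E M Y : Scheme.{u}} (i : E ⟶ Y) [IsClosedImmersion i] (m : M ⟶ Y) :
    (∃ l : M ⟶ E, l ≫ i = m) ↔ i.ker ≤ m.ker := by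
  constructor
  · rintro ⟨l, rfl⟩
    exact Scheme.Hom.le_ker_comp l i
  · intro h
    exact ⟨IsClosedImmersion.lift i m h, IsClosedImmersion.lift_fac _ _ _⟩

/-- Key lemma: over a field, for a closed subscheme `E` of `W × X`, the functor of points `w` of
`W` with `{w} × X ⊆ E` is represented by a closed subscheme of `W`. -/
theorem exists_closed_over (W X : Over (Spec (CommRingCat.of k))) {E : Scheme.{u}}
    (i : E ⟶ (W ⊗ X).left) [IsClosedImmersion i] :
    ∃ (Z : Over (Spec (CommRingCat.of k))) (ζ : Z ⟶ W), IsClosedImmersion ζ.left ∧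
      ∀ (T : Over (Spec (CommRingCat.of k))) (t : T ⟶ W),
        (∃ l : T ⟶ Z, l ≫ ζ = t) ↔ ∃ l' : (T ⊗ X).left ⟶ E, l' ≫ i = (t ▷ X).left := by
  let 𝒥 : (pullback W.hom X.hom).IdealSheafData := i.ker
  let I := theIdeal W.hom X.hom 𝒥
  refine ⟨Over.mk (I.subschemeι ≫ W.hom), Over.homMk I.subschemeι rfl,
    (inferInstance : IsClosedImmersion I.subschemeι), ?_⟩
  intro T t
  have h1 : (∃ l : T ⟶ Over.mk (I.subschemeι ≫ W.hom),
      l ≫ (Over.homMk I.subschemeι rfl : Over.mk (I.subschemeι ≫ W.hom) ⟶ W) = t) ↔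
      I ≤ t.left.ker := by
    rw [le_ker_iff_exists_lift]
    constructor
    · rintro ⟨l, rfl⟩
      exact ⟨l.left, rfl⟩
    · rintro ⟨l₀, hl₀⟩
      refine ⟨Over.homMk l₀ ?_, ?_⟩
      · show l₀ ≫ I.subschemeι ≫ W.hom = T.hom
        rw [← Category.assoc, hl₀, Over.w]
      · ext1
        exact hl₀
  have h2 := main_iff W.hom X.hom 𝒥 t.left T.hom (Over.w t)
  have h3 : (∃ l' : (T ⊗ X).left ⟶ E, l' ≫ i = (t ▷ X).left) ↔
      𝒥 ≤ (mT W.hom X.hom t.left T.hom (Over.w t)).ker :=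
    exists_lift_iff_le_ker i _
  exact h1.trans (h2.symm.trans h3.symm)

end Groth.Agent.H9.KL
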