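import Mathlib
import Groth.Agent.Lib.Helper9.Misc.KLE2
import Groth.Agent.Lib.Helper9.Misc.GZB2

/-! Helper9: equalizer form of the key lemma; transporters in group schemes over a field are closed (S5357). -/

set_option linter.style.haveILetI false
set_option linter.unusedSectionVars false

namespace Groth.Agent.H9.KL

universe u

open CategoryTheory CategoryTheory.Limits AlgebraicGeometry MonoidalCategory
  CartesianMonoidalCategory MonObj GrpObj

variable {k : Type u} [Field k]

/-- Equalizer form of the key lemma. -/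
theorem exists_closed_equalizer (W X Y : Over (Spec (CommRingCat.of k))) [IsSeparated Y.hom]
    (α β : W ⊗ X ⟶ Y) :
    ∃ (Z : Over (Spec (CommRingCat.of k))) (ζ : Z ⟶ W), IsClosedImmersion ζ.left ∧
      ∀ (T : Over (Spec (CommRingCat.of k))) (t : T ⟶ W),
        (∃ l : T ⟶ Z, l ≫ ζ = t) ↔ (t ▷ X) ≫ α = (t ▷ X) ≫ β := by
  obtain ⟨Z, ζ, hζ, H⟩ := exists_closed_over W X (equalizer.ι α β).left
  refine ⟨Z, ζ, hζ, fun T t => (H T t).trans ?_⟩
  constructor
  · rintro ⟨l', hl'⟩
    have hw : l' ≫ (equalizer α β).hom = (T ⊗ X).hom := by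
      rw [← Over.w (equalizer.ι α β), ← Category.assoc, hl', Over.w]
    have e : (Over.homMk l' hw : T ⊗ X ⟶ equalizer α β) ≫ equalizer.ι α β = t ▷ X := by
      apply Over.OverMorphism.ext
      exact hl'
    rw [← e, Category.assoc, Category.assoc, equalizer.condition]
  · intro h
    exact ⟨(equalizer.lift (t ▷ X) h).left, by
      rw [← Over.comp_left, equalizer.lift_ι]⟩

section Transporter

variable (G X : Over (Spec (CommRingCat.of k))) [GrpObj G]

/-- Transporters are closed. -/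
theorem S5357_main (u v : X ⟶ G) :
    ∃ (T : Over (Spec (CommRingCat.of k))) (t : T ⟶ G), IsClosedImmersion t.left ∧
      ∀ (S' : Over (Spec (CommRingCat.of k))) (g : S' ⟶ G), (∃ z : S' ⟶ T, z ≫ t = g) ↔
        ∀ (S'' : Over (Spec (CommRingCat.of k))) (s : S'' ⟶ S') (x : S'' ⟶ X),
          (s ≫ g) * (x ≫ u) * (s ≫ g)⁻¹ = x ≫ v := by
  haveI := Groth.Agent.H9.GZB.isSeparated_hom G
  obtain ⟨Z, ζ, hζ, H⟩ := exists_closed_equalizer G X G
    (fst G X * (snd G X ≫ u) * (fst G X)⁻¹) (snd G X ≫ v)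
  refine ⟨Z, ζ, hζ, fun S' g => (H S' g).trans ?_⟩
  have e1 : (g ▷ X) ≫ (fst G X * (snd G X ≫ u) * (fst G X)⁻¹) =
      (fst S' X ≫ g) * (snd S' X ≫ u) * (fst S' X ≫ g)⁻¹ := by
    rw [MonObj.comp_mul, MonObj.comp_mul, GrpObj.comp_inv, whiskerRight_fst,
      whiskerRight_snd_assoc]
  have e2 : (g ▷ X) ≫ (snd G X ≫ v) = snd S' X ≫ v := by
    rw [whiskerRight_snd_assoc]
  rw [e1, e2]
  constructor
  · intro h S'' s x
    have := congrArg (fun ψ => lift s x ≫ ψ) h
    simp only [MonObj.comp_mul, GrpObj.comp_inv, lift_fst_assoc, lift_snd_assoc] at this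
    exact this
  · intro h
    exact h (S' ⊗ X) (fst S' X) (snd S' X)

end Transporter

end Groth.Agent.H9.KL
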