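import Mathlib
import Groth.Agent.Lib.Helper9.Misc.KLF1
import Groth.Agent.Lib.Helper9.Misc.GZD3

/-! Helper9: centralizers in group schemes over a field are closed subgroup schemes; closed subgroup generated by a rational point is commutative (S5363). -/

set_option linter.style.haveILetI false
set_option linter.unusedSectionVars false

namespace Groth.Agent.H9.KL

universe u

open CategoryTheory CategoryTheory.Limits AlgebraicGeometry MonoidalCategory
  CartesianMonoidalCategory MonObj GrpObj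

section Generic

universe v₁ u₁

variable {C : Type u₁} [Category.{v₁} C] [CartesianMonoidalCategory C] {G T : C} [GrpObj G]

/-- A mono representing a subgroup functor is a subgroup object. -/
theorem exists_grpObj_of_subgroup (t : T ⟶ G) [Mono t] (H : ∀ S' : C, Subgroup (S' ⟶ G))
    (hH : ∀ (S' : C) (g : S' ⟶ G), (∃ z : S' ⟶ T, z ≫ t = g) ↔ g ∈ H S') :
    ∃ (_ : GrpObj T), IsMonHom t := by
  have h1 : η[G] ∈ H (𝟙_ C) := by rw [MonObj.one_eq_one]; exact (H _).one_mem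
  have hf : fst T T ≫ t ∈ H (T ⊗ T) := (hH _ _).mp ⟨fst T T, rfl⟩
  have hs : snd T T ≫ t ∈ H (T ⊗ T) := (hH _ _).mp ⟨snd T T, rfl⟩
  have hm : (t ⊗ₘ t) ≫ μ[G] ∈ H (T ⊗ T) := by
    have : (t ⊗ₘ t) ≫ μ[G] = (fst T T ≫ t) * (snd T T ≫ t) := by
      rw [Hom.mul_def, lift_fst_comp_snd_comp]
    rw [this]; exact (H _).mul_mem hf hs
  have ht : t ∈ H T := (hH _ _).mp ⟨𝟙 T, Category.id_comp _⟩
  have hi : t ≫ ι[G] ∈ H T := by
    have : t ≫ ι[G] = t⁻¹ := rfl
    rw [this]; exact (H _).inv_mem ht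
  obtain ⟨one₀, e1⟩ := (hH _ _).mpr h1
  obtain ⟨mul₀, em⟩ := (hH _ _).mpr hm
  obtain ⟨inv₀, ei⟩ := (hH _ _).mpr hi
  exact ⟨Groth.Agent.H9.GZD.grpObjOfMono t one₀ mul₀ inv₀ e1 em ei,
    Groth.Agent.H9.GZD.isMonHom_ofMono t one₀ mul₀ inv₀ e1 em ei⟩

variable {X : C}

/-- The centralizer subgroup functor of a morphism `u : X ⟶ G`. -/
def centralizerSubgroup (u : X ⟶ G) (S' : C) : Subgroup (S' ⟶ G) where
  carrier := {a | ∀ (S'' : C) (s : S'' ⟶ S') (x : S'' ⟶ X),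
    (s ≫ a) * (x ≫ u) * (s ≫ a)⁻¹ = x ≫ u}
  one_mem' := by
    intro S'' s x
    rw [MonObj.comp_one]; simp
  mul_mem' := by
    intro a b ha hb S'' s x
    have h1 := ha S'' s x
    have h2 := hb S'' s x
    rw [MonObj.comp_mul, _root_.mul_inv_rev]
    calc (s ≫ a) * (s ≫ b) * (x ≫ u) * ((s ≫ b)⁻¹ * (s ≫ a)⁻¹)
        = (s ≫ a) * ((s ≫ b) * (x ≫ u) * (s ≫ b)⁻¹) * (s ≫ a)⁻¹ := by group
      _ = x ≫ u := by rw [h2, h1]
  inv_mem' := by
    intro a ha S'' s x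
    have h1 := ha S'' s x
    rw [GrpObj.comp_inv, _root_.inv_inv]
    calc (s ≫ a)⁻¹ * (x ≫ u) * (s ≫ a)
        = (s ≫ a)⁻¹ * ((s ≫ a) * (x ≫ u) * (s ≫ a)⁻¹) * (s ≫ a) := by rw [h1]
      _ = x ≫ u := by group

theorem mem_centralizerSubgroup (u : X ⟶ G) (S' : C) (a : S' ⟶ G) :
    a ∈ centralizerSubgroup u S' ↔ ∀ (S'' : C) (s : S'' ⟶ S') (x : S'' ⟶ X),
      (s ≫ a) * (x ≫ u) * (s ≫ a)⁻¹ = x ≫ u := Iff.rfl

end Generic

variable {k : Type u} [Field k] (G X : Over (Spec (CommRingCat.of k))) [GrpObj G]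

/-- Centralizers are closed subgroup schemes. -/
theorem exists_centralizer (u : X ⟶ G) :
    ∃ (T : Over (Spec (CommRingCat.of k))) (_ : GrpObj T) (t : T ⟶ G) (_ : IsMonHom t),
      IsClosedImmersion t.left ∧ ∀ (S' : Over (Spec (CommRingCat.of k))) (g : S' ⟶ G),
        (∃ z : S' ⟶ T, z ≫ t = g) ↔ g ∈ centralizerSubgroup u S' := by
  obtain ⟨T, t, hcl, H⟩ := S5357_main G X u u
  haveI : Mono t := by
    haveI : Mono ((Over.forget _).map t) := by
      show Mono t.left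
      infer_instance
    exact (Over.forget _).mono_of_mono_map inferInstance
  obtain ⟨inst, hmon⟩ := exists_grpObj_of_subgroup t (centralizerSubgroup u) H
  exact ⟨T, inst, t, hmon, hcl, H⟩

/-- The closed subgroup generated by a rational point is commutative. -/
theorem S5363_main (g : 𝟙_ (Over (Spec (CommRingCat.of k))) ⟶ G)
    (Γ : Over (Spec (CommRingCat.of k))) [GrpObj Γ] (i : Γ ⟶ G) [IsMonHom i]
    [IsClosedImmersion i.left]
    (hmin : ∀ (Γ' : Over (Spec (CommRingCat.of k))) (_ : GrpObj Γ') (i' : Γ' ⟶ G), IsMonHom i' →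
      IsClosedImmersion i'.left →
        (∃ f'' : 𝟙_ (Over (Spec (CommRingCat.of k))) ⟶ Γ', f'' ≫ i' = g) →
          ∃ j : Γ ⟶ Γ', j ≫ i' = i) :
    IsCommMonObj Γ := by
  haveI : Mono i := by
    haveI : Mono ((Over.forget _).map i) := by
      show Mono i.left
      infer_instance
    exact (Over.forget _).mono_of_mono_map inferInstance
  -- step 1: Γ centralizes g
  obtain ⟨T₁, inst₁, t₁, hmon₁, hcl₁, H₁⟩ := exists_centralizer G (𝟙_ _) g
  have hg1 : g ∈ centralizerSubgroup g (𝟙_ _) := by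
    intro S'' s x
    have : s = x := toUnit_unique _ _
    subst this
    group
  obtain ⟨j₁, hj₁⟩ := hmin T₁ inst₁ t₁ hmon₁ hcl₁ ((H₁ _ g).mpr hg1)
  have star : i ∈ centralizerSubgroup g Γ := (H₁ Γ i).mp ⟨j₁, hj₁⟩
  -- step 2: Γ centralizes Γ
  obtain ⟨T₂, inst₂, t₂, hmon₂, hcl₂, H₂⟩ := exists_centralizer G Γ i
  have hg2 : g ∈ centralizerSubgroup i (𝟙_ _) := by
    intro S'' s x
    have h := star S'' x s
    rw [mul_inv_eq_iff_eq_mul] at h ⊢
    exact h.symm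
  obtain ⟨j₂, hj₂⟩ := hmin T₂ inst₂ t₂ hmon₂ hcl₂ ((H₂ _ g).mpr hg2)
  have star2 : i ∈ centralizerSubgroup i Γ := (H₂ Γ i).mp ⟨j₂, hj₂⟩
  -- step 3
  rw [isCommMonObj_iff_isMulCommutative]
  intro Y
  refine ⟨⟨fun a b => ?_⟩⟩
  have h := star2 Y a b
  rw [mul_inv_eq_iff_eq_mul] at h
  rw [← cancel_mono i, MonObj.mul_comp, MonObj.mul_comp]
  exact h

end Groth.Agent.H9.KL
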