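import Mathlib

/-! Helper9: f.g. I ≤ J, J-adically complete ⇒ I-adically complete (Stacks 090T). -/

namespace Groth.Agent.H9.AdicLe

open Submodule

variable {A : Type*} [CommRing A] {M : Type*} [AddCommGroup M] [Module A M]

lemma exists_repr {s : ℕ} (g : Fin s → A) (N : Submodule A M) (x : M)
    (hx : x ∈ (Ideal.span (Set.range g)) • N) :
    ∃ w : Fin s → M, (∀ j, w j ∈ N) ∧ ∑ j, g j • w j = x := by
  induction hx using Submodule.smul_induction_on' with
  | smul r hr n hn =>
    obtain ⟨c, rfl⟩ := (Submodule.mem_span_range_iff_exists_fun A).1 hr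
    refine ⟨fun j => c j • n, fun j => N.smul_mem _ hn, ?_⟩
    simp [Finset.sum_smul, smul_smul, mul_comm]
  | add x hx y hy ihx ihy =>
    obtain ⟨w, hw, rfl⟩ := ihx
    obtain ⟨w', hw', rfl⟩ := ihy
    exact ⟨w + w', fun j => N.add_mem (hw j) (hw' j), by simp [smul_add, Finset.sum_add_distrib]⟩

lemma key (J K : Ideal A) (hK : K.FG) [IsAdicComplete J M] (t : ℕ → M)
    (ht : ∀ k, t k ∈ K • (J ^ k • ⊤ : Submodule A M)) :
    ∃ T ∈ (K • ⊤ : Submodule A M),
      ∀ m, ∑ k ∈ Finset.range m, t k ≡ T [SMOD (J ^ m • ⊤ : Submodule A M)] := by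
  obtain ⟨s, g, rfl⟩ := Submodule.fg_iff_exists_fin_generating_family.1 hK
  choose w hw hwt using fun k => exists_repr g _ (t k) (ht k)
  have hc : ∀ j, ∃ W : M,
      ∀ m, ∑ k ∈ Finset.range m, w k j ≡ W [SMOD (J ^ m • ⊤ : Submodule A M)] := by
    intro j
    apply IsPrecomplete.prec (IsAdicComplete.toIsPrecomplete)
    intro m n hmn
    rw [SModEq.comm, SModEq.sub_mem, ← Finset.sum_range_add_sum_Ico _ hmn, add_sub_cancel_left]
    refine Submodule.sum_mem _ fun k hk => ?_
    have hmk : m ≤ k := (Finset.mem_Ico.1 hk).1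
    exact Submodule.smul_mono_left (Ideal.pow_le_pow_right hmk) (hw k j)
  choose W hW using hc
  refine ⟨∑ j, g j • W j, ?_, ?_⟩
  · exact Submodule.sum_mem _ fun j _ =>
      Submodule.smul_mem_smul (Ideal.subset_span ⟨j, rfl⟩) mem_top
  · intro m
    have : ∑ k ∈ Finset.range m, t k = ∑ j, g j • ∑ k ∈ Finset.range m, w k j := by
      simp_rw [← hwt, Finset.smul_sum]; exact Finset.sum_comm
    rw [this]
    exact SModEq.sum fun j _ => (hW j m).smul (g j)

theorem main (I J : Ideal A) (hIJ : I ≤ J) (hI : I.FG) [IsAdicComplete J M] :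
    IsAdicComplete I M := by
  have hle : ∀ n, (I ^ n • ⊤ : Submodule A M) ≤ J ^ n • ⊤ :=
    fun n => Submodule.smul_mono_left (Ideal.pow_right_mono hIJ n)
  have hH : IsHausdorff I M :=
    ⟨fun x hx => IsHausdorff.haus (IsAdicComplete.toIsHausdorff) x fun n => (hx n).mono (hle n)⟩
  have hP : IsPrecomplete I M := by
    refine ⟨fun {f} hf => ?_⟩
    obtain ⟨L, hL⟩ := IsPrecomplete.prec (I := J) (M := M) IsAdicComplete.toIsPrecomplete (f := f)
      (fun {m n} hmn => (hf hmn).mono (hle m))
    refine ⟨L, fun n => ?_⟩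
    obtain ⟨T, hT, hTm⟩ := key (M := M) J (I ^ n) (hI.pow) (fun k => f (n+k) - f (n+k+1)) (by
      intro k
      have : f (n+k) - f (n+k+1) ∈ (I^(n+k) • ⊤ : Submodule A M) := by
        rw [← SModEq.sub_mem]; exact hf (Nat.le_succ _)
      rw [pow_add, Submodule.mul_smul] at this
      exact Submodule.smul_mono le_rfl (hle k) this)
    have : f n - L = T := by
      rw [← sub_eq_zero]
      apply IsHausdorff.haus (I := J) IsAdicComplete.toIsHausdorff
      intro m
      have h1 : ∑ k ∈ Finset.range m, (f (n+k) - f (n+k+1)) = f n - f (n+m) := by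
        have := Finset.sum_range_sub' (fun k => f (n + k)) m
        simpa [add_assoc] using this
      have h2 := hTm m
      rw [h1, SModEq.sub_mem] at h2
      have h3 : f (n+m) - L ∈ (J ^ m • ⊤ : Submodule A M) := by
        have := hL (n+m)
        rw [SModEq.sub_mem] at this
        exact Submodule.smul_mono_left (Ideal.pow_le_pow_right (Nat.le_add_left _ _)) this
      rw [SModEq.sub_mem, sub_zero]
      have := add_mem h2 h3
      convert this using 1
      abel
    rw [SModEq.sub_mem, this]; exact hT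
  exact { toIsHausdorff := hH, toIsPrecomplete := hP }

end Groth.Agent.H9.AdicLe
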