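import Mathlib

/-! Helper9: pointwise flatness `FlatAt`, descent of flatness along faithfully flat towers, flatness of `fromSpecStalk`. -/

set_option linter.style.haveILetI false
set_option linter.unusedSectionVars false

namespace Groth.Agent.H9.FLH

universe u

open CategoryTheory CategoryTheory.Limits AlgebraicGeometry TensorProduct

/-- Flatness descends along a faithfully flat extension on the target:
`A → B → C` with `C` faithfully flat over `B` and flat over `A` implies `B` flat over `A`. -/
theorem flat_of_faithfullyFlat_tower (A B C : Type*) [CommRing A] [CommRing B] [CommRing C]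
    [Algebra A B] [Algebra B C] [Algebra A C] [IsScalarTower A B C]
    [Module.FaithfullyFlat B C] [Module.Flat A C] : Module.Flat A B := by
  rw [Module.Flat.iff_lTensor_preserves_injective_linearMap]
  intro N P _ _ _ _ f hf
  have h1 : Function.Injective (f.baseChange C) :=
    Module.Flat.lTensor_preserves_injective_linearMap (M := C) f hf
  have h2 : Function.Injective ((f.baseChange B).lTensor C) := by
    have e : (AlgebraTensorModule.cancelBaseChange A B C C P).toLinearMap.restrictScalars B ∘ₗ
        ((f.baseChange B).lTensor C) =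
        ((f.baseChange C).restrictScalars B) ∘ₗ
          (AlgebraTensorModule.cancelBaseChange A B C C N).toLinearMap.restrictScalars B := by
      ext c n
      simp
    have h3 : Function.Injective
        ((AlgebraTensorModule.cancelBaseChange A B C C P).toLinearMap.restrictScalars B ∘ₗ
        ((f.baseChange B).lTensor C)) := by
      rw [e]
      exact h1.comp (AlgebraTensorModule.cancelBaseChange A B C C N).injective
    rw [LinearMap.coe_comp] at h3
    exact Function.Injective.of_comp h3
  exact (Module.FaithfullyFlat.lTensor_injective_iff_injective B C (f.baseChange B)).mp h2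

theorem ringHom_flat_of_comp {A B C : Type*} [CommRing A] [CommRing B] [CommRing C]
    (a : A →+* B) (b : B →+* C) (hb : b.Flat) [IsLocalRing B] [IsLocalRing C] [IsLocalHom b]
    (hab : (b.comp a).Flat) : a.Flat := by
  algebraize [a, b, b.comp a]
  have : Module.FaithfullyFlat B C := Module.FaithfullyFlat.of_flat_of_isLocalHom
  exact flat_of_faithfullyFlat_tower A B C


/-- Pointwise flatness of a morphism of schemes. -/
def FlatAt {X Y : Scheme.{u}} (f : X ⟶ Y) (x : X) : Prop := (f.stalkMap x).hom.Flat

theorem FlatAt.of_flat {X Y : Scheme.{u}} (f : X ⟶ Y) [Flat f] (x : X) : FlatAt f x :=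
  Flat.stalkMap f x

theorem flat_of_forall_flatAt {X Y : Scheme.{u}} (f : X ⟶ Y) (h : ∀ x, FlatAt f x) : Flat f :=
  Flat.of_stalkMap f h

theorem FlatAt.comp {X Y Z : Scheme.{u}} (f : X ⟶ Y) (g : Y ⟶ Z) (x : X) (hf : FlatAt f x)
    (hg : FlatAt g (f x)) : FlatAt (f ≫ g) x := by
  unfold FlatAt at *
  have e : ((f ≫ g).stalkMap x).hom = (f.stalkMap x).hom.comp (g.stalkMap (f x)).hom := by
    rw [Scheme.Hom.stalkMap_comp]; rfl
  rw [e]
  exact RingHom.Flat.comp hg hf

theorem FlatAt.of_comp {X Y Z : Scheme.{u}} (f : X ⟶ Y) (g : Y ⟶ Z) (x : X) (hf : FlatAt f x)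
    (hfg : FlatAt (f ≫ g) x) : FlatAt g (f x) := by
  unfold FlatAt at *
  have e : ((f ≫ g).stalkMap x).hom = (f.stalkMap x).hom.comp (g.stalkMap (f x)).hom := by
    rw [Scheme.Hom.stalkMap_comp]; rfl
  rw [e] at hfg
  exact ringHom_flat_of_comp _ _ hf hfg

theorem flat_fromSpecStalk (X : Scheme.{u}) (x : X) : Flat (X.fromSpecStalk x) := by
  obtain ⟨_, ⟨U, hU, rfl⟩, hxU, -⟩ :=
    X.isBasis_affineOpens.exists_subset_of_mem_open (Set.mem_univ x) isOpen_univ
  rw [← hU.fromSpecStalk_eq_fromSpecStalk hxU, IsAffineOpen.fromSpecStalk]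
  have : Flat (Spec.map (X.presheaf.germ U x hxU)) := by
    rw [Flat.SpecMap_iff]
    letI : Algebra Γ(X, U) (X.presheaf.stalk x) := (X.presheaf.germ U x hxU).hom.toAlgebra
    haveI := hU.isLocalization_stalk ⟨x, hxU⟩
    have : Module.Flat Γ(X, U) (X.presheaf.stalk x) :=
      IsLocalization.flat (X.presheaf.stalk x) (hU.primeIdealOf ⟨x, hxU⟩).asIdeal.primeCompl
    exact this
  have : Flat hU.fromSpec := by
    have := hU.isOpenImmersion_fromSpec
    infer_instance
  infer_instance

theorem flat_fromSpecStalk_comp {X Y : Scheme.{u}} (f : X ⟶ Y) (x : X) (h : FlatAt f x) :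
    Flat (X.fromSpecStalk x ≫ f) := by
  rw [← Scheme.SpecMap_stalkMap_fromSpecStalk]
  have : Flat (Spec.map (f.stalkMap x)) := by
    rw [Flat.SpecMap_iff]
    exact h
  have := flat_fromSpecStalk Y (f x)
  infer_instance

end Groth.Agent.H9.FLH
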