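import Mathlib

/-! Helper9: preimage of a dense open under a flat morphism to a locally Noetherian scheme is dense (S11142). -/

open AlgebraicGeometry TopologicalSpace CategoryTheory

namespace Groth.Agent.H9.FlatDense

/-- a point with no proper generalization -/
def IsMaxPt {W : Type*} [TopologicalSpace W] (η : W) : Prop := ∀ z, z ⤳ η → η ⤳ z

/-- every point of a quasi-sober space has a maximal generalization -/
theorem exists_maxPt {W : Type*} [TopologicalSpace W] [QuasiSober W] (x : W) :
    ∃ ξ : W, ξ ⤳ x ∧ IsMaxPt ξ := by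
  obtain ⟨ξ, hξ⟩ := QuasiSober.sober (isIrreducible_irreducibleComponent (x := x))
    isClosed_irreducibleComponent
  refine ⟨ξ, ?_, ?_⟩
  · rw [specializes_iff_mem_closure, hξ.def]
    exact mem_irreducibleComponent
  · intro z hz
    have h1 : irreducibleComponent x ⊆ closure {z} := by
      rw [← hξ.def]
      exact closure_minimal (Set.singleton_subset_iff.2 (specializes_iff_mem_closure.1 hz))
        isClosed_closure
    have h2 : closure {z} = irreducibleComponent x := by
      have hmax := irreducibleComponent_property x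
      exact hmax.2.2 _ (isIrreducible_singleton.closure.isPreirreducible) h1
    rw [specializes_iff_mem_closure, hξ.def, ← h2]
    exact subset_closure rfl

/-- in a Noetherian quasi-sober space, a dense open set contains every maximal point -/
theorem maxPt_mem_of_dense {W : Type*} [TopologicalSpace W] [NoetherianSpace W] [QuasiSober W]
    {η : W} (hη : IsMaxPt η) {D : Set W} (hD : Dense D) (hDo : IsOpen D) : η ∈ D := by
  have hfin : (irreducibleComponents W).Finite := NoetherianSpace.finite_irreducibleComponents
  set S' : Set (Set W) := {Z ∈ irreducibleComponents W | η ∉ Z} with hS'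
  have hS'fin : S'.Finite := hfin.subset (fun Z hZ => hZ.1)
  have hCclosed : IsClosed (⋃₀ S') := by
    rw [Set.sUnion_eq_biUnion]
    exact hS'fin.isClosed_biUnion (fun Z hZ => isClosed_of_mem_irreducibleComponents Z hZ.1)
  have hηC : η ∈ (⋃₀ S')ᶜ := by
    rintro ⟨Z, hZ, hηZ⟩
    exact hZ.2 hηZ
  obtain ⟨z, hzC, hzD⟩ := hD.inter_open_nonempty _ hCclosed.isOpen_compl ⟨η, hηC⟩
  have hηZ : η ∈ irreducibleComponent z := by
    by_contra hcon
    exact hzC ⟨irreducibleComponent z, ⟨irreducibleComponent_mem_irreducibleComponents z, hcon⟩,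
      mem_irreducibleComponent⟩
  obtain ⟨ζ, hζ⟩ := QuasiSober.sober (isIrreducible_irreducibleComponent (x := z))
    isClosed_irreducibleComponent
  have h1 : ζ ⤳ η := by
    rw [specializes_iff_mem_closure, hζ.def]; exact hηZ
  have h2 : ζ ⤳ z := by
    rw [specializes_iff_mem_closure, hζ.def]; exact mem_irreducibleComponent
  exact ((hη ζ h1).trans h2).mem_open hDo hzD

/-- in a locally Noetherian scheme, a dense open set contains every maximal point -/
theorem maxPt_mem_of_dense_scheme {Y : Scheme} [IsLocallyNoetherian Y] {η : Y} (hη : IsMaxPt η)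
    (U : Y.Opens) (hU : Dense (U : Set Y)) : η ∈ U := by
  obtain ⟨W, hW, hηW, -⟩ := exists_isAffineOpen_mem_and_subset (U := ⊤) (x := η) (by simp)
  have : IsNoetherianRing Γ(Y, W) := IsLocallyNoetherian.component_noetherian ⟨W, hW⟩
  have hns : NoetherianSpace W := noetherianSpace_of_isAffineOpen W hW
  have hqs : QuasiSober W := W.isOpen.isOpenEmbedding_subtypeVal.quasiSober
  have hmax : IsMaxPt (⟨η, hηW⟩ : W) := by
    intro z hz
    have h1 : (z : Y) ⤳ η := hz.map continuous_subtype_val
    have h2 := hη _ h1
    exact (subtype_specializes_iff _ _).2 h2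
  have hdense : Dense ((Subtype.val : W → Y) ⁻¹' (U : Set Y)) :=
    hU.preimage W.isOpen.isOpenMap_subtype_val
  have := @maxPt_mem_of_dense _ _ hns hqs _ hmax _ hdense (U.isOpen.preimage continuous_subtype_val)
  exact this

theorem main (X Y : Scheme) [IsLocallyNoetherian Y] (f : X ⟶ Y) [Flat f] (U : Y.Opens)
    (hU : Dense (U : Set Y)) : Dense ((f ⁻¹ᵁ U : X.Opens) : Set X) := by
  intro x
  obtain ⟨ξ, hξx, hξ⟩ := exists_maxPt x
  have hmax : IsMaxPt (f.base ξ) := by
    intro y hy
    obtain ⟨ξ', hξ', rfl⟩ := Flat.generalizingMap f hy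
    exact (hξ ξ' hξ').map f.continuous
  have hmem : f.base ξ ∈ U := maxPt_mem_of_dense_scheme hmax U hU
  have : ξ ∈ ((f ⁻¹ᵁ U : X.Opens) : Set X) := hmem
  exact closure_mono (Set.singleton_subset_iff.2 this) (specializes_iff_mem_closure.1 hξx)

end Groth.Agent.H9.FlatDense
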