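import Mathlib
import Groth.Prelude.Def_AlgGrp
import Groth.Agent.Lib.Helper9.Misc.FLH1

/-! Helper9: actions of group objects in `Over S`: pointwise action, shear isomorphism, flatness of the action map. -/

set_option linter.style.haveILetI false
set_option linter.unusedSectionVars false

namespace Groth.Agent.H9.FLH

universe u

open CategoryTheory CategoryTheory.Limits AlgebraicGeometry MonoidalCategory
  CartesianMonoidalCategory MonObj GrpObj

variable {S : Scheme.{u}} {G X : Over S} [GrpObj G] (a : AlgGrp.Action G X)

/-- The action on `T`-valued points. -/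
noncomputable def smul {T : Over S} (g : T ⟶ G) (x : T ⟶ X) : T ⟶ X := lift g x ≫ a.act

theorem comp_smul {T T' : Over S} (t : T' ⟶ T) (g : T ⟶ G) (x : T ⟶ X) :
    t ≫ smul a g x = smul a (t ≫ g) (t ≫ x) := by
  unfold smul
  rw [← Category.assoc, comp_lift]

theorem one_smul {T : Over S} (x : T ⟶ X) : smul a (1 : T ⟶ G) x = x := by
  unfold smul
  have h1 : lift (1 : T ⟶ G) x = lift (toUnit T) x ≫ (η[G] ▷ X) := by
    rw [lift_whiskerRight, Hom.one_def]
  rw [h1, Category.assoc, a.one_act]
  simp

theorem mul_smul {T : Over S} (g h : T ⟶ G) (x : T ⟶ X) :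
    smul a (g * h) x = smul a g (smul a h x) := by
  unfold smul
  have h1 : lift (g * h) x = lift (lift g h) x ≫ (μ[G] ▷ X) := by
    rw [lift_whiskerRight, Hom.mul_def]
  rw [h1, Category.assoc, a.mul_act]
  simp

theorem act_eq_smul : a.act = smul a (fst G X) (snd G X) := by
  unfold smul
  rw [lift_fst_snd, Category.id_comp]

/-- The shear map `(g, x) ↦ (g, g • x)`. -/
noncomputable def shear : G ⊗ X ⟶ G ⊗ X := lift (fst G X) a.act

/-- Its inverse `(g, x) ↦ (g, g⁻¹ • x)`. -/
noncomputable def shearInv : G ⊗ X ⟶ G ⊗ X := lift (fst G X) (smul a (fst G X)⁻¹ (snd G X))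

theorem shear_shearInv : shear a ≫ shearInv a = 𝟙 _ := by
  unfold shear shearInv
  apply CartesianMonoidalCategory.hom_ext
  · simp
  · rw [Category.assoc, lift_snd, comp_smul, GrpObj.comp_inv, lift_fst, lift_snd, Category.id_comp]
    conv_lhs => rw [act_eq_smul a]
    rw [← mul_smul, inv_mul_cancel, one_smul]

theorem shearInv_shear : shearInv a ≫ shear a = 𝟙 _ := by
  unfold shear shearInv
  apply CartesianMonoidalCategory.hom_ext
  · simp
  · rw [Category.assoc, lift_snd, Category.id_comp]
    conv_lhs => rw [act_eq_smul a]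
    rw [comp_smul, lift_fst, lift_snd, ← mul_smul, mul_inv_cancel, one_smul]

theorem shear_snd : shear a ≫ snd G X = a.act := by
  unfold shear; simp

instance flat_act [Flat G.hom] : Flat a.act.left := by
  have h : a.act.left = (shear a).left ≫ (snd G X).left := by
    rw [← Over.comp_left, shear_snd]
  have : IsIso (shear a) := ⟨shearInv a, shear_shearInv a, shearInv_shear a⟩
  have : IsIso (shear a).left := inferInstanceAs (IsIso ((Over.forget _).map (shear a)))
  have : Flat (snd G X).left := by
    show Flat (pullback.snd G.hom X.hom)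
    infer_instance
  rw [h]
  infer_instance

end Groth.Agent.H9.FLH
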