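import Mathlib
import Groth.Prelude.Def_AlgGrp
import Groth.Agent.Lib.Helper9.Misc.FLH1
import Groth.Agent.Lib.Helper9.Misc.FLH2

/-! Helper9: homogeneity of flatness for equivariant maps from a flat group scheme over a one-point base. -/

set_option linter.style.haveILetI false
set_option linter.unusedSectionVars false

namespace Groth.Agent.H9.FLH

universe u

open CategoryTheory CategoryTheory.Limits AlgebraicGeometry MonoidalCategory
  CartesianMonoidalCategory MonObj GrpObj

variable {S : Scheme.{u}} {G X : Over S} [GrpObj G]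

/-- The left regular action. -/
noncomputable def regAction (G : Over S) [GrpObj G] : AlgGrp.Action G G where
  act := μ[G]
  one_act := MonObj.one_mul G
  mul_act := MonObj.mul_assoc G

instance flat_mul [Flat G.hom] : Flat μ[G].left := flat_act (regAction G)

theorem exists_mul_eq [Subsingleton S] (g g₀ : G.left) :
    ∃ z : (G ⊗ G).left, (snd G G).left z = g₀ ∧ μ[G].left z = g := by
  obtain ⟨w, hw1, hw2⟩ := Scheme.Pullback.exists_preimage_pullback (f := G.hom) (g := G.hom)
    g g₀ (Subsingleton.elim _ _)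
  let θ : G ⊗ G ⟶ G ⊗ G := lift (fst G G * (snd G G)⁻¹) (snd G G)
  refine ⟨θ.left w, ?_, ?_⟩
  · rw [← Scheme.Hom.comp_apply, ← Over.comp_left]
    have : θ ≫ snd G G = snd G G := lift_snd _ _
    rw [this]
    exact hw2
  · rw [← Scheme.Hom.comp_apply, ← Over.comp_left]
    have : θ ≫ μ[G] = fst G G := by
      show lift _ _ ≫ μ[G] = _
      rw [← Hom.mul_def, inv_mul_cancel_right]
    rw [this]
    exact hw1

/-- Homogeneity of flatness: if `φ : G ⟶ X` is equivariant for a flat "action-like" map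
`α : G ⊗ X ⟶ X`, and `φ` is flat at one point, then `φ` is flat. -/
theorem flat_of_flatAt [Subsingleton S] [Flat G.hom] (φ : G ⟶ X) (α : G ⊗ X ⟶ X) [Flat α.left]
    (hα : (G ◁ φ) ≫ α = μ[G] ≫ φ) (g₀ : G.left) (h : FlatAt φ.left g₀) : Flat φ.left := by
  let j := G.left.fromSpecStalk g₀
  let T' : Over S := Over.mk (j ≫ G.hom)
  let ιO : T' ⟶ G := Over.homMk j rfl
  let ψ : T' ⟶ X := ιO ≫ φ
  have hψ : Flat ψ.left := by
    show Flat (j ≫ φ.left)
    exact flat_fromSpecStalk_comp φ.left g₀ h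
  have hι : Flat ιO.left := flat_fromSpecStalk _ _
  let m : G ⊗ T' ⟶ G := (G ◁ ιO) ≫ μ[G]
  have key : m ≫ φ = (G ◁ ψ) ≫ α := by
    show ((G ◁ ιO) ≫ μ[G]) ≫ φ = (G ◁ (ιO ≫ φ)) ≫ α
    rw [Category.assoc, ← hα, MonoidalCategory.whiskerLeft_comp, Category.assoc]
  have hwl : ∀ {A B : Over S} (f : A ⟶ B), Flat f.left → Flat (G ◁ f).left := by
    intro A B f hf
    rw [Over.whiskerLeft_left]
    exact MorphismProperty.pullbackMap (P := @Flat) (MorphismProperty.id_mem _ _) hf
      (by simp) (by simp)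
  have h1 : Flat (G ◁ ψ).left := hwl ψ hψ
  have h2 : Flat (G ◁ ιO).left := hwl ιO hι
  have hm : Flat m.left := by
    show Flat ((G ◁ ιO).left ≫ μ[G].left)
    infer_instance
  have hmφ : Flat (m.left ≫ φ.left) := by
    rw [← Over.comp_left, key, Over.comp_left]
    infer_instance
  apply flat_of_forall_flatAt
  intro g
  obtain ⟨z, hz1, hz2⟩ := exists_mul_eq (G := G) g g₀
  have hzr : z ∈ Set.range (G ◁ ιO).left := by
    rw [Over.whiskerLeft_left, Scheme.Pullback.range_map]
    refine ⟨⟨_, rfl⟩, ?_⟩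
    refine ⟨IsLocalRing.closedPoint _, ?_⟩
    show j _ = _
    rw [Scheme.fromSpecStalk_closedPoint]
    exact hz1.symm
  obtain ⟨w, hw⟩ := hzr
  have hg : m.left w = g := by
    show ((G ◁ ιO).left ≫ μ[G].left) w = g
    rw [Scheme.Hom.comp_apply, hw, hz2]
  have := FlatAt.of_comp m.left φ.left w (FlatAt.of_flat _ _) (FlatAt.of_flat _ _)
  rwa [hg] at this

end Groth.Agent.H9.FLH
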