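import Mathlib
import Groth.Prelude.Def_AlgGrp
import Groth.Agent.Lib.Helper9.Misc.FLH1
import Groth.Agent.Lib.Helper9.Misc.FLH2
import Groth.Agent.Lib.Helper9.Misc.FLH3

/-! Helper9: orbit maps and homomorphisms of flat group schemes over a one-point base flat at a point are flat (S5347, S5336). -/

set_option linter.style.haveILetI false
set_option linter.unusedSectionVars false

namespace Groth.Agent.H9.FLH

universe u

open CategoryTheory CategoryTheory.Limits AlgebraicGeometry MonoidalCategory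
  CartesianMonoidalCategory MonObj GrpObj

variable {S : Scheme.{u}} {G X : Over S} [GrpObj G]

theorem orbitMap_eq (a : AlgGrp.Action G X) (s₀ : 𝟙_ (Over S) ⟶ X) :
    a.orbitMap s₀ = smul a (𝟙 G) (toUnit G ≫ s₀) := rfl

theorem orbitMap_equivariant (a : AlgGrp.Action G X) (s₀ : 𝟙_ (Over S) ⟶ X) :
    (G ◁ a.orbitMap s₀) ≫ a.act = μ[G] ≫ a.orbitMap s₀ := by
  have h1 : (G ◁ a.orbitMap s₀) = lift (fst G G) (snd G G ≫ a.orbitMap s₀) := by
    rw [← lift_whiskerLeft, lift_fst_snd, Category.id_comp]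
  have h2 : (G ◁ a.orbitMap s₀) ≫ a.act = smul a (fst G G) (snd G G ≫ a.orbitMap s₀) := by
    rw [h1]; rfl
  rw [h2, orbitMap_eq, comp_smul, comp_smul, ← mul_smul, Category.comp_id, Category.comp_id]
  congr 1
  · rw [Hom.mul_def, lift_fst_snd, Category.id_comp]
  · rw [← Category.assoc, ← Category.assoc]
    congr 1
    exact toUnit_unique _ _

theorem flat_orbitMap [Subsingleton S] [Flat G.hom] (a : AlgGrp.Action G X)
    (s₀ : 𝟙_ (Over S) ⟶ X) (g : G.left) (h : FlatAt (a.orbitMap s₀).left g) :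
    Flat (a.orbitMap s₀).left :=
  flat_of_flatAt (a.orbitMap s₀) a.act (orbitMap_equivariant a s₀) g h

instance subsingleton_spec_of_artinian_local (A : Type u) [CommRing A] [IsArtinianRing A]
    [IsLocalRing A] : Subsingleton (Spec (CommRingCat.of A)) := by
  constructor
  intro x y
  have hx : x.asIdeal = IsLocalRing.maximalIdeal A :=
    IsLocalRing.eq_maximalIdeal (IsArtinianRing.isMaximal_of_isPrime x.asIdeal)
  have hy : y.asIdeal = IsLocalRing.maximalIdeal A :=
    IsLocalRing.eq_maximalIdeal (IsArtinianRing.isMaximal_of_isPrime y.asIdeal)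
  exact PrimeSpectrum.ext (hx.trans hy.symm)

theorem S5347_main (A : Type u) [CommRing A] [IsArtinianRing A] [IsLocalRing A]
    (G X : Over (Spec (CommRingCat.of A))) [GrpObj G] [Flat G.hom]
    (a : AlgGrp.Action G X) (s₀ : 𝟙_ (Over (Spec (CommRingCat.of A))) ⟶ X)
    (h : ∃ g : G.left, ((a.orbitMap s₀).left.stalkMap g).hom.Flat) :
    Flat (a.orbitMap s₀).left := by
  obtain ⟨g, hg⟩ := h
  exact flat_orbitMap a s₀ g hg

/-- The action of `G` on `H` by left translation through a homomorphism `u`. -/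
noncomputable def homAction {H : Over S} [GrpObj H] (u : G ⟶ H) [IsMonHom u] :
    AlgGrp.Action G H where
  act := (u ▷ H) ≫ μ[H]
  one_act := by
    rw [← Category.assoc, ← comp_whiskerRight, IsMonHom.one_hom, MonObj.one_mul]
  mul_act := by
    have key : ∀ {T : Over S} (p q : T ⟶ G) (r : T ⟶ H),
        lift (lift p q) r ≫ (μ[G] ▷ H) ≫ (u ▷ H) ≫ μ[H] =
        lift (lift p q) r ≫ (α_ G G H).hom ≫ (G ◁ ((u ▷ H) ≫ μ[H])) ≫ (u ▷ H) ≫ μ[H] := by
      intro T p q r
      have e1 : lift (lift p q) r ≫ (μ[G] ▷ H) ≫ (u ▷ H) ≫ μ[H] = ((p * q) ≫ u) * r := by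
        rw [lift_whiskerRight_assoc, lift_whiskerRight_assoc, ← Hom.mul_def, ← Hom.mul_def]
      have e2 : lift (lift p q) r ≫ (α_ G G H).hom ≫ (G ◁ ((u ▷ H) ≫ μ[H])) ≫ (u ▷ H) ≫ μ[H] =
          (p ≫ u) * ((q ≫ u) * r) := by
        rw [lift_lift_associator_hom_assoc, lift_whiskerLeft_assoc, lift_whiskerRight_assoc,
          lift_whiskerRight_assoc, ← Hom.mul_def, ← Hom.mul_def]
      rw [e1, e2, MonObj.mul_comp, _root_.mul_assoc]
    have := key (fst (G ⊗ G) H ≫ fst G G) (fst (G ⊗ G) H ≫ snd G G) (snd (G ⊗ G) H)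
    rw [← comp_lift, lift_fst_snd, Category.comp_id, lift_fst_snd, Category.id_comp,
      Category.id_comp] at this
    exact this

theorem homAction_orbitMap {H : Over S} [GrpObj H] (u : G ⟶ H) [IsMonHom u] :
    (homAction u).orbitMap η[H] = u := by
  show lift (𝟙 G) (toUnit G ≫ η[H]) ≫ (u ▷ H) ≫ μ[H] = u
  rw [lift_whiskerRight_assoc, ← Hom.mul_def, Category.id_comp, ← Hom.one_def, _root_.mul_one]

theorem flat_hom [Subsingleton S] [Flat G.hom] {H : Over S} [GrpObj H] (u : G ⟶ H) [IsMonHom u]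
    (g : G.left) (h : FlatAt u.left g) : Flat u.left := by
  have h1 := flat_orbitMap (homAction u) η[H] g (by rw [homAction_orbitMap]; exact h)
  rwa [homAction_orbitMap] at h1

theorem S5336_main (A : Type u) [CommRing A] [IsArtinianRing A] [IsLocalRing A]
    (G H : Over (Spec (CommRingCat.of A))) [GrpObj G] [GrpObj H] [Flat G.hom]
    (u : G ⟶ H) [IsMonHom u]
    (h : ∃ x : G.left, (u.left.stalkMap x).hom.Flat) : Flat u.left := by
  obtain ⟨g, hg⟩ := h
  exact flat_hom u g hg

end Groth.Agent.H9.FLH
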