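import Mathlib
import Groth.Prelude.Def_AlgGrp
import Groth.Agent.Lib.Helper9.Misc.FLH4
import Groth.Agent.Lib.Helper9.Misc.GSD5

/-! Helper9: qc dominant morphisms hit maximal points; stalks of reduced schemes at maximal points are fields; qc dominant homs of group schemes over a field are surjective, flat if target reduced (S5355). -/

set_option linter.style.haveILetI false
set_option linter.unusedSectionVars false

namespace Groth.Agent.H9.FLH

universe u

open CategoryTheory CategoryTheory.Limits AlgebraicGeometry MonoidalCategory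
  CartesianMonoidalCategory MonObj GrpObj

/-- A quasi-compact dominant morphism hits every maximal point. -/
theorem mem_range_of_isMaxPt {X Y : Scheme.{u}} (f : X ⟶ Y) [QuasiCompact f] (hf : DenseRange f)
    (ξ : Y) (hξ : ∀ ξ' : Y, ξ' ⤳ ξ → ξ' = ξ) : ξ ∈ Set.range f := by
  obtain ⟨_, ⟨V, hV, rfl⟩, hξV, -⟩ :=
    Y.isBasis_affineOpens.exists_subset_of_mem_open (Set.mem_univ ξ) isOpen_univ
  have hc : IsCompact (f ⁻¹ᵁ V : Set X) := f.isCompact_preimage hV.isCompact
  obtain ⟨s, hs, e⟩ :=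
    isCompact_and_isOpen_iff_finite_and_eq_biUnion_affineOpens.mp ⟨hc, (f ⁻¹ᵁ V).2⟩
  have h1 : ξ ∈ closure ((V : Set Y) ∩ Set.range f) :=
    V.2.inter_closure ⟨hξV, hf ξ⟩
  have h2 : (V : Set Y) ∩ Set.range f = ⋃ U ∈ s, f '' (U : Set X) := by
    ext y
    simp only [Set.mem_inter_iff, Set.mem_range, Set.mem_iUnion, Set.mem_image, exists_prop]
    constructor
    · rintro ⟨hy, x, rfl⟩
      have hx : x ∈ (f ⁻¹ᵁ V : Set X) := hy
      rw [e] at hx
      simp only [Set.mem_iUnion, exists_prop] at hx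
      obtain ⟨U, hU, hxU⟩ := hx
      exact ⟨U, hU, x, hxU, rfl⟩
    · rintro ⟨U, hU, x, hxU, rfl⟩
      have hx : x ∈ (f ⁻¹ᵁ V : Set X) := by
        rw [e]
        simp only [Set.mem_iUnion, exists_prop]
        exact ⟨U, hU, hxU⟩
      exact ⟨hx, x, rfl⟩
  rw [h2, hs.closure_biUnion] at h1
  simp only [Set.mem_iUnion, exists_prop] at h1
  obtain ⟨U, hUs, hξU⟩ := h1
  have hUV : (U : X.Opens) ≤ f ⁻¹ᵁ V := by
    intro x hx
    show x ∈ (f ⁻¹ᵁ V : Set X)
    rw [e]
    simp only [Set.mem_iUnion, exists_prop]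
    exact ⟨U, hUs, hx⟩
  have hU : IsAffineOpen (U : X.Opens) := U.2
  let φ := f.appLE V U hUV
  have hsq : Spec.map φ ≫ hV.fromSpec = hU.fromSpec ≫ f := IsAffineOpen.SpecMap_appLE_fromSpec f hV hU hUV
  let p := hV.primeIdealOf ⟨ξ, hξV⟩
  have hp : hV.fromSpec p = ξ := hV.fromSpec_primeIdealOf ⟨ξ, hξV⟩
  have himg : f '' (U : Set X) = hV.fromSpec '' Set.range (Spec.map φ) := by
    rw [← Set.range_comp, ← hU.range_fromSpec, ← Set.range_comp]
    show Set.range (hU.fromSpec ≫ f) = Set.range (Spec.map φ ≫ hV.fromSpec)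
    rw [hsq]
  have hpcl : p ∈ closure (Set.range (Spec.map φ)) := by
    rw [hV.fromSpec.isOpenEmbedding.isInducing.closure_eq_preimage_closure_image]
    have : hV.fromSpec p ∈ closure (hV.fromSpec '' Set.range (Spec.map φ)) := by
      rw [hp, ← himg]; exact hξU
    exact this
  have hker : RingHom.ker φ.hom ≤ p.asIdeal := by
    have h7 : (p : PrimeSpectrum Γ(Y, V)) ∈ closure (Set.range (PrimeSpectrum.comap φ.hom)) :=
      hpcl
    rw [PrimeSpectrum.closure_range_comap] at h7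
    exact h7
  have hmin : ∀ q : PrimeSpectrum Γ(Y, V), q.asIdeal ≤ p.asIdeal → p.asIdeal ≤ q.asIdeal := by
    intro q hq
    have h3 : q ⤳ p := (PrimeSpectrum.le_iff_specializes q p).mp hq
    have h4 : hV.fromSpec q ⤳ hV.fromSpec p := h3.map hV.fromSpec.continuous
    rw [hp] at h4
    have h5 := hξ _ h4
    rw [← hp] at h5
    have h6 : q = p := hV.fromSpec.isOpenEmbedding.injective h5
    rw [h6]
  have H : p.asIdeal ∈ ((⊥ : Ideal Γ(X, U)).comap φ.hom).minimalPrimes := by
    refine ⟨⟨p.isPrime, hker⟩, ?_⟩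
    rintro q ⟨hq, -⟩ hqp
    exact hmin ⟨q, hq⟩ hqp
  obtain ⟨q', hq', -, hcomap⟩ := Ideal.exists_comap_eq_of_mem_minimalPrimes φ.hom p.asIdeal H
  refine ⟨hU.fromSpec ⟨q', hq'⟩, ?_⟩
  rw [← Scheme.Hom.comp_apply, ← hsq, Scheme.Hom.comp_apply, ← hp]
  congr 1
  exact PrimeSpectrum.ext hcomap

/-- The stalk of a reduced scheme at a maximal point is a field. -/
theorem isField_stalk_of_isMaxPt (Y : Scheme.{u}) [IsReduced Y] (ξ : Y)
    (hξ : ∀ ξ' : Y, ξ' ⤳ ξ → ξ' = ξ) : IsField (Y.presheaf.stalk ξ) := by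
  have hsub : ∀ p : PrimeSpectrum (Y.presheaf.stalk ξ),
      p.asIdeal = IsLocalRing.maximalIdeal (Y.presheaf.stalk ξ) := by
    intro p
    have hp : Y.fromSpecStalk ξ p ⤳ ξ := by
      have := Set.mem_range_self (f := Y.fromSpecStalk ξ) p
      rw [Scheme.range_fromSpecStalk] at this
      exact this
    have h1 := hξ _ hp
    have h2 : Y.fromSpecStalk ξ (IsLocalRing.closedPoint _) = ξ := Scheme.fromSpecStalk_closedPoint
    have h3 : p = IsLocalRing.closedPoint _ :=
      (Y.fromSpecStalk ξ).isEmbedding.injective (h1.trans h2.symm)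
    rw [h3]; rfl
  rw [IsLocalRing.isField_iff_maximalIdeal_eq]
  have h0 : nilradical (Y.presheaf.stalk ξ) = ⊥ := nilradical_eq_zero _
  rw [← h0, nilradical_eq_sInf]
  apply le_antisymm
  · apply le_sInf
    intro J hJ
    have := hsub ⟨J, hJ⟩
    exact this.ge
  · exact sInf_le (IsLocalRing.maximalIdeal.isMaximal _).isPrime

instance subsingleton_spec_field (k : Type u) [Field k] :
    Subsingleton (Spec (CommRingCat.of k)) := by
  constructor
  intro x y
  exact @Subsingleton.elim (PrimeSpectrum k) _ x y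

variable {k : Type u} [Field k] (G H : Over (Spec (CommRingCat.of k))) [GrpObj G] [GrpObj H]

theorem S5355_main (f : G ⟶ H) [IsMonHom f] [QuasiCompact f.left] (hf : DenseRange f.left.base) :
    Surjective f.left ∧ (IsReduced H.left → Flat f.left) := by
  have hsurj : Function.Surjective f.left := by
    intro h
    obtain ⟨z, hz, hz1, hz2⟩ := Groth.Agent.H9.GSD.S5354_main H h
    rw [Groth.Agent.H9.GSD.isMaxPt_iff] at hz1 hz2
    obtain ⟨a, ha⟩ := mem_range_of_isMaxPt f.left hf _ hz1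
    obtain ⟨b, hb⟩ := mem_range_of_isMaxPt f.left hf _ hz2
    have hzr : z ∈ Set.range (f ⊗ₘ f).left := by
      rw [Over.tensorHom_left, Scheme.Pullback.range_map]
      exact ⟨⟨a, ha⟩, ⟨b, hb⟩⟩
    obtain ⟨w, hw⟩ := hzr
    refine ⟨μ[G].left w, ?_⟩
    rw [← Scheme.Hom.comp_apply, ← Over.comp_left, IsMonHom.mul_hom, Over.comp_left,
      Scheme.Hom.comp_apply, hw]
    exact hz
  refine ⟨⟨hsurj⟩, ?_⟩
  intro hred
  have hne : Nonempty H.left := by
    have : Nonempty (Spec (CommRingCat.of k)) := inferInstance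
    obtain ⟨pt⟩ := this
    exact ⟨η[H].left pt⟩
  obtain ⟨ξ, hξ⟩ := Groth.Agent.H9.GSD.exists_maxPt H.left
  obtain ⟨x, rfl⟩ := hsurj ξ
  have hfield := isField_stalk_of_isMaxPt H.left (f.left x) hξ
  have hfl : FlatAt f.left x := RingHom.Flat.of_isField hfield _
  exact flat_hom f x hfl

end Groth.Agent.H9.FLH
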