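import Mathlib
import Groth.Agent.Lib.Helper9.Misc.FLH5
import Groth.Agent.Lib.Helper9.Misc.KLF3

/-! Helper9: scheme-theoretic image of a qc hom of group schemes over a field is a closed subgroup and the map onto it is surjective (S18825). -/

set_option linter.style.haveILetI false
set_option linter.unusedSectionVars false

namespace Groth.Agent.H9.SIM

universe u

open CategoryTheory CategoryTheory.Limits AlgebraicGeometry MonoidalCategory
  CartesianMonoidalCategory MonObj GrpObj Groth.Agent.H9.FLH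

section Squares

variable {S : Scheme.{u}}

theorem isPullback_whiskerRight_left {A B : Over S} (g : A ⟶ B) (C : Over S) :
    IsPullback (fst A C).left (g ▷ C).left g.left (fst B C).left := by
  refine (IsPullback.of_right (h₁₂ := (snd B C).left) (v₁₃ := C.hom) (h₂₂ := B.hom) ?_ ?_ ?_).flip
  · have e1 : (g ▷ C).left ≫ (snd B C).left = (snd A C).left := Over.whiskerRight_left_snd g
    have e2 : g.left ≫ B.hom = A.hom := Over.w g
    rw [e1, e2]
    exact (IsPullback.of_hasPullback A.hom C.hom).flip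
  · exact Over.whiskerRight_left_fst g
  · exact (IsPullback.of_hasPullback B.hom C.hom).flip

theorem isPullback_whiskerLeft_left (C : Over S) {A B : Over S} (g : A ⟶ B) :
    IsPullback (snd C A).left (C ◁ g).left g.left (snd C B).left := by
  refine (IsPullback.of_right (h₁₂ := (fst C B).left) (v₁₃ := C.hom) (h₂₂ := B.hom) ?_ ?_ ?_).flip
  · have e1 : (C ◁ g).left ≫ (fst C B).left = (fst C A).left := Over.whiskerLeft_left_fst g
    have e2 : g.left ≫ B.hom = A.hom := Over.w g
    rw [e1, e2]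
    exact (IsPullback.of_hasPullback C.hom A.hom)
  · exact Over.whiskerLeft_left_snd g
  · exact (IsPullback.of_hasPullback C.hom B.hom)

end Squares

variable {k : Type u} [Field k]

instance flat_over_field (A : Over (Spec (CommRingCat.of k))) : Flat A.hom := inferInstance

theorem dominant_whiskerRight {A B : Over (Spec (CommRingCat.of k))} (g : A ⟶ B)
    [IsSchemeTheoreticallyDominant g.left] [QuasiCompact g.left]
    (C : Over (Spec (CommRingCat.of k))) :
    IsSchemeTheoreticallyDominant (g ▷ C).left ∧ QuasiCompact (g ▷ C).left := by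
  have hfl : Flat (fst B C).left := by
    show Flat (pullback.fst B.hom C.hom)
    infer_instance
  exact ⟨IsSchemeTheoreticallyDominant.of_isPullback (isPullback_whiskerRight_left g C),
    MorphismProperty.of_isPullback (P := @QuasiCompact) (isPullback_whiskerRight_left g C)
      inferInstance⟩

theorem dominant_whiskerLeft (C : Over (Spec (CommRingCat.of k)))
    {A B : Over (Spec (CommRingCat.of k))} (g : A ⟶ B)
    [IsSchemeTheoreticallyDominant g.left] [QuasiCompact g.left] :
    IsSchemeTheoreticallyDominant (C ◁ g).left ∧ QuasiCompact (C ◁ g).left := by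
  have hfl : Flat (snd C B).left := by
    show Flat (pullback.snd C.hom B.hom)
    infer_instance
  exact ⟨IsSchemeTheoreticallyDominant.of_isPullback (isPullback_whiskerLeft_left C g),
    MorphismProperty.of_isPullback (P := @QuasiCompact) (isPullback_whiskerLeft_left C g)
      inferInstance⟩

theorem dominant_tensorHom {A B : Over (Spec (CommRingCat.of k))} (g : A ⟶ B)
    [IsSchemeTheoreticallyDominant g.left] [QuasiCompact g.left] :
    IsSchemeTheoreticallyDominant (g ⊗ₘ g).left := by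
  obtain ⟨h1, h2⟩ := dominant_whiskerRight g A
  obtain ⟨h3, h4⟩ := dominant_whiskerLeft B g
  rw [MonoidalCategory.tensorHom_def, Over.comp_left]
  infer_instance

/-- A morphism whose composite with a scheme-theoretically dominant morphism factors through a
closed immersion factors itself. -/
theorem exists_lift_of_dominant {D P E Y : Scheme.{u}} (d : D ⟶ P) [IsSchemeTheoreticallyDominant d]
    (ψ : P ⟶ Y) (i : E ⟶ Y) [IsClosedImmersion i] (w : D ⟶ E) (hw : w ≫ i = d ≫ ψ) :
    ∃ l : P ⟶ E, l ≫ i = ψ := by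
  have h1 : i.ker ≤ ψ.ker := by
    have h2 : i.ker ≤ (d ≫ ψ).ker := by rw [← hw]; exact Scheme.Hom.le_ker_comp _ _
    rwa [Scheme.Hom.ker_comp, d.ker_eq_bot, Scheme.IdealSheafData.map_bot] at h2
  exact ⟨IsClosedImmersion.lift i ψ h1, IsClosedImmersion.lift_fac i ψ h1⟩

section Generic

universe v₁ u₁
variable {C : Type u₁} [Category.{v₁} C] [CartesianMonoidalCategory C]

theorem isMonHom_of_comp_mono {A B G : C} [GrpObj A] [GrpObj B] [GrpObj G] (g : A ⟶ B) (i : B ⟶ G)
    [Mono i] [IsMonHom i] [IsMonHom (g ≫ i)] : IsMonHom g where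
  one_hom := by
    rw [← cancel_mono i, Category.assoc, IsMonHom.one_hom (f := g ≫ i), IsMonHom.one_hom]
  mul_hom := by
    rw [← cancel_mono i, Category.assoc, IsMonHom.mul_hom (f := g ≫ i), Category.assoc,
      IsMonHom.mul_hom (f := i), ← Category.assoc, tensorHom_comp_tensorHom]

end Generic

theorem S18825_main (H G K : Over (Spec (CommRingCat.of k))) [GrpObj H] [GrpObj G]
    (f : H ⟶ G) [IsMonHom f] [QuasiCompact f.left]
    (i : K ⟶ G) [IsClosedImmersion i.left] (g : H ⟶ K) (hgi : g ≫ i = f)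
    [IsSchemeTheoreticallyDominant g.left] :
    ((∃ e : 𝟙_ (Over (Spec (CommRingCat.of k))) ⟶ K, e ≫ i = η[G]) ∧
      ∀ (T : Over (Spec (CommRingCat.of k))) (k₁ k₂ : T ⟶ K),
        ∃ k₃ : T ⟶ K, k₃ ≫ i = (k₁ ≫ i)⁻¹ * (k₂ ≫ i)) ∧
    Surjective g.left := by
  have hgq : QuasiCompact g.left := by
    have : QuasiCompact (g.left ≫ i.left) := by rw [← Over.comp_left, hgi]; infer_instance
    exact QuasiCompact.of_comp g.left i.left
  have hunit : ∃ e : 𝟙_ (Over (Spec (CommRingCat.of k))) ⟶ K, e ≫ i = η[G] :=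
    ⟨η[H] ≫ g, by rw [Category.assoc, hgi, IsMonHom.one_hom]⟩
  -- the difference map
  let ψ : K ⊗ K ⟶ G := (fst K K ≫ i)⁻¹ * (snd K K ≫ i)
  have hψ : (g ⊗ₘ g) ≫ ψ = (((fst H H)⁻¹ * snd H H) ≫ g) ≫ i := by
    rw [Category.assoc, hgi, MonObj.mul_comp, GrpObj.inv_comp]
    show (g ⊗ₘ g) ≫ ((fst K K ≫ i)⁻¹ * (snd K K ≫ i)) = _
    rw [MonObj.comp_mul, GrpObj.comp_inv, ← Category.assoc, ← Category.assoc, tensorHom_fst,
      tensorHom_snd, Category.assoc, Category.assoc, hgi]
  have hdom := dominant_tensorHom g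
  obtain ⟨l, hl⟩ := exists_lift_of_dominant (g ⊗ₘ g).left ψ.left i.left
    (((fst H H)⁻¹ * snd H H) ≫ g).left (by rw [← Over.comp_left, ← Over.comp_left, hψ])
  have hlw : l ≫ K.hom = (K ⊗ K).hom := by
    rw [← Over.w i, ← Category.assoc, hl, Over.w]
  let ψ' : K ⊗ K ⟶ K := Over.homMk l hlw
  have hψ' : ψ' ≫ i = ψ := Over.OverMorphism.ext hl
  have hdiff : ∀ (T : Over (Spec (CommRingCat.of k))) (k₁ k₂ : T ⟶ K),
      ∃ k₃ : T ⟶ K, k₃ ≫ i = (k₁ ≫ i)⁻¹ * (k₂ ≫ i) := by
    intro T k₁ k₂
    refine ⟨lift k₁ k₂ ≫ ψ', ?_⟩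
    rw [Category.assoc, hψ']
    show lift k₁ k₂ ≫ ((fst K K ≫ i)⁻¹ * (snd K K ≫ i)) = _
    rw [MonObj.comp_mul, GrpObj.comp_inv, ← Category.assoc, ← Category.assoc, lift_fst, lift_snd]
  refine ⟨⟨hunit, hdiff⟩, ?_⟩
  -- group structure on K
  have hmono : Mono i := by
    have : Mono ((Over.forget _).map i) := inferInstanceAs (Mono i.left)
    exact (Over.forget _).mono_of_mono_map this
  obtain ⟨e, he⟩ := hunit
  let Hs : ∀ T : Over (Spec (CommRingCat.of k)), Subgroup (T ⟶ G) := fun T ↦
    { carrier := {a | ∃ z : T ⟶ K, z ≫ i = a}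
      one_mem' := ⟨toUnit T ≫ e, by rw [Category.assoc, he, Hom.one_def]⟩
      mul_mem' := by
        rintro a b ⟨za, rfl⟩ ⟨zb, rfl⟩
        obtain ⟨z1, hz1⟩ := hdiff T za (toUnit T ≫ e)
        obtain ⟨z2, hz2⟩ := hdiff T z1 zb
        refine ⟨z2, ?_⟩
        rw [hz2, hz1, Category.assoc, he, ← Hom.one_def]
        simp
      inv_mem' := by
        rintro a ⟨za, rfl⟩
        obtain ⟨z1, hz1⟩ := hdiff T za (toUnit T ≫ e)
        refine ⟨z1, ?_⟩
        rw [hz1, Category.assoc, he, ← Hom.one_def]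
        simp }
  obtain ⟨instK, hmonI⟩ := Groth.Agent.H9.KL.exists_grpObj_of_subgroup i Hs (fun T a ↦ Iff.rfl)
  letI := instK
  have : IsMonHom (g ≫ i) := by rw [hgi]; infer_instance
  have hg : IsMonHom g := isMonHom_of_comp_mono g i
  exact (S5355_main H K g g.left.denseRange).1

end Groth.Agent.H9.SIM
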