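import Mathlib
import Groth.Prelude.Def_AlgGrp
import Groth.Agent.Lib.Helper9.Misc.SIM1

/-! Helper9: kernel pair of a homomorphism q with kernel N is G ⊗ N (generic cartesian monoidal category). -/

set_option linter.style.haveILetI false
set_option linter.unusedSectionVars false

namespace Groth.Agent.H9.TOR

universe u v

open CategoryTheory CategoryTheory.Limits MonoidalCategory CartesianMonoidalCategory MonObj

section generic

variable {C : Type u} [Category.{v} C] [CartesianMonoidalCategory C]

/-- The kernel pair of a homomorphism `q` with kernel `i : N ⟶ G` is `G ⊗ N`. -/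
theorem isPullback_kernel {G N Q : C} [GrpObj G] [GrpObj Q] (q : G ⟶ Q) [IsMonHom q]
    (i : N ⟶ G) (hK : IsPullback i (toUnit N) q η[Q]) :
    IsPullback (fst G N) (G ◁ i ≫ μ[G]) q q := by
  have hmono : Mono i := by
    have : Mono η[Q] := by
      have : IsSplitMono η[Q] := ⟨⟨toUnit Q, toUnit_unique _ _⟩⟩
      infer_instance
    exact MorphismProperty.of_isPullback (P := MorphismProperty.monomorphisms C) hK.flip this
  have hiq : i ≫ q = 1 := by
    rw [hK.w, Hom.one_def]
  have key : ∀ {T : C} (a : T ⟶ G) (n : T ⟶ N), lift a n ≫ G ◁ i ≫ μ[G] = a * (n ≫ i) := by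
    intro T a n
    rw [lift_whiskerLeft_assoc, Hom.mul_def]
  refine ⟨⟨?_⟩, ⟨PullbackCone.IsLimit.mk _ (fun s => lift s.fst
    (hK.lift (s.fst⁻¹ * s.snd) (toUnit _) ?_)) ?_ ?_ ?_⟩⟩
  · have e : fst G N = lift (fst G N) (snd G N) ≫ fst G N := by simp
    have e' : G ◁ i ≫ μ[G] = lift (fst G N) (snd G N) ≫ G ◁ i ≫ μ[G] := by simp
    rw [e', key, MonObj.mul_comp, Category.assoc, hiq, MonObj.comp_one, _root_.mul_one]
  · rw [MonObj.mul_comp, GrpObj.inv_comp, s.condition, inv_mul_cancel, Hom.one_def]
  · intro s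
    simp
  · intro s
    rw [key, hK.lift_fst, mul_inv_cancel_left]
  · intro s m h1 h2
    apply CartesianMonoidalCategory.hom_ext
    · simpa using h1
    · rw [lift_snd, ← cancel_mono i, hK.lift_fst]
      have hm : m = lift (m ≫ fst G N) (m ≫ snd G N) := by
        apply CartesianMonoidalCategory.hom_ext <;> simp
      rw [hm, key, h1] at h2
      rw [← h2, inv_mul_cancel_left]

end generic

end Groth.Agent.H9.TOR
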