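import Mathlib
import Groth.Prelude.Def_AlgGrp
import Groth.Agent.Lib.Helper9.Misc.TOR1
import Groth.Agent.Lib.Helper9.Misc.FLH5
import Groth.Agent.H4.SmRed2

/-! Helper9: fpqc-local properties of a flat surjective qc homomorphism vs. its kernel; S16675, S8003. -/

set_option linter.style.haveILetI false
set_option linter.unusedSectionVars false

namespace Groth.Agent.H9.TOR

universe u

open CategoryTheory CategoryTheory.Limits AlgebraicGeometry MonoidalCategory
  CartesianMonoidalCategory MonObj

variable {S : Scheme.{u}}

theorem isPullback_fst_left (G N : Over S) :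
    IsPullback (fst G N).left (snd G N).left G.hom N.hom := by
  have := IsPullback.of_hasPullback G.hom N.hom
  exact this

theorem toUnit_left (N : Over S) : (toUnit N).left = N.hom := by
  simp

/-- A fpqc-local property stable under base change holds for a flat surjective quasi-compact
homomorphism iff it holds for the structure morphism of its kernel. -/
theorem iff_of_kernel (P : MorphismProperty Scheme.{u}) [P.IsStableUnderBaseChange]
    [P.DescendsAlong (@Surjective ⊓ @Flat ⊓ @QuasiCompact)]
    {G N Q : Over S} [GrpObj G] [GrpObj Q] (q : G ⟶ Q) [IsMonHom q]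
    [Flat q.left] [Surjective q.left] [QuasiCompact q.left]
    (i : N ⟶ G) (hK : AlgGrp.IsKernel i q) : P q.left ↔ P N.hom := by
  constructor
  · intro h
    have sq := IsPullback.map (Over.forget S) hK
    simp only [Over.forget_obj, Over.forget_map] at sq
    rw [toUnit_left] at sq
    exact P.of_isPullback sq h
  · intro h
    have h1 : P (fst G N).left := P.of_isPullback (isPullback_fst_left G N).flip h
    have sq := IsPullback.map (Over.forget S) (isPullback_kernel q i hK)
    simp only [Over.forget_obj, Over.forget_map] at sq
    exact MorphismProperty.of_isPullback_of_descendsAlong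
      (Q := @Surjective ⊓ @Flat ⊓ @QuasiCompact) sq ⟨⟨inferInstance, inferInstance⟩, inferInstance⟩ h1

theorem S16675_main (k : Type u) [Field k]
    (X Y : Over (Spec (CommRingCat.of k)))
    [GrpObj X] [GrpObj Y]
    (f : X ⟶ Y) [IsMonHom f] [IsFinite f.left] [Flat f.left] [Surjective f.left]
    (N : Over (Spec (CommRingCat.of k))) (i : N ⟶ X) (hN : AlgGrp.IsKernel i f) :
    Etale f.left ↔ Etale N.hom :=
  iff_of_kernel @Etale f i hN

theorem S8003_main (k : Type u) [Field k]
    (G H N : Over (Spec (CommRingCat.of k))) [GrpObj G] [GrpObj H]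
    [LocallyOfFiniteType G.hom] [QuasiCompact G.hom] [Smooth G.hom]
    [LocallyOfFiniteType H.hom] [QuasiCompact H.hom] [Smooth H.hom]
    (φ : G ⟶ H) [IsMonHom φ] [Surjective φ.left] (i : N ⟶ G) (hN : AlgGrp.IsKernel i φ) :
    Smooth φ.left ↔ Smooth N.hom := by
  have hred : IsReduced H.left := Groth.Agent.H4.SmRed.isReduced_of_smooth_scheme H.hom
  have : IsLocallyNoetherian H.left := LocallyOfFiniteType.isLocallyNoetherian H.hom
  have : QuasiCompact (φ.left ≫ H.hom) := by rw [Over.w φ]; infer_instance
  have : QuasiCompact φ.left := QuasiCompact.of_comp φ.left H.hom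
  have hflat : Flat φ.left :=
    (Groth.Agent.H9.FLH.S5355_main G H φ (Surjective.surj (f := φ.left)).denseRange).2 hred
  exact iff_of_kernel @Smooth φ i hN

end Groth.Agent.H9.TOR
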