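import Mathlib
import Groth.Prelude.Def_AlgGrp
import Groth.Agent.Lib.Helper9.Misc.TOR2
import Groth.Agent.Lib.Helper9.Misc.GZA5
import Groth.Agent.Lib.Helper9.Misc.GZB2

/-! Helper9: iff_of_kernel for a general covering class; geometric connectedness descends along surjections; connected group schemes over a field are geometrically connected. -/

set_option linter.style.haveILetI false
set_option linter.unusedSectionVars false

namespace Groth.Agent.H9.TOR

universe u

open CategoryTheory CategoryTheory.Limits AlgebraicGeometry MonoidalCategory
  CartesianMonoidalCategory MonObj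

variable {S : Scheme.{u}}

/-- A property local for a class `W` of coverings and stable under base change holds for a
homomorphism in `W` iff it holds for the structure morphism of its kernel. -/
theorem iff_of_kernel' (P W : MorphismProperty Scheme.{u}) [P.IsStableUnderBaseChange]
    [P.DescendsAlong W]
    {G N Q : Over S} [GrpObj G] [GrpObj Q] (q : G ⟶ Q) [IsMonHom q] (hq : W q.left)
    (i : N ⟶ G) (hK : AlgGrp.IsKernel i q) : P q.left ↔ P N.hom := by
  constructor
  · intro h
    have sq := IsPullback.map (Over.forget S) hK
    simp only [Over.forget_obj, Over.forget_map] at sq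
    rw [toUnit_left] at sq
    exact P.of_isPullback sq h
  · intro h
    have h1 : P (fst G N).left := P.of_isPullback (isPullback_fst_left G N).flip h
    have sq := IsPullback.map (Over.forget S) (isPullback_kernel q i hK)
    simp only [Over.forget_obj, Over.forget_map] at sq
    exact MorphismProperty.of_isPullback_of_descendsAlong (Q := W) sq hq h1

/-- Geometric connectedness descends along surjective morphisms. -/
instance descendsAlong_geometricallyConnected :
    MorphismProperty.DescendsAlong @GeometricallyConnected.{u} @Surjective.{u} := by
  refine ⟨fun {A X Y Z fst snd f g} h hf hfst => ?_⟩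
  have : Surjective f := hf
  have : GeometricallyConnected fst := hfst
  rw [GeometricallyConnected.eq_geometrically, geometrically_iff_of_isClosedUnderIsomorphisms]
  intro K _ y
  -- a point of `Spec K ×_Z X`
  have hne : Nonempty ↥(pullback y f) := by
    have hs : Surjective (pullback.fst y f) := inferInstance
    obtain ⟨w, -⟩ := hs.surj (Classical.arbitrary (Spec (CommRingCat.of K)))
    exact ⟨w⟩
  obtain ⟨w⟩ := hne
  let L := (pullback y f).residueField w
  let s : Spec L ⟶ pullback y f := (pullback y f).fromSpecResidueField w
  let a : Spec L ⟶ Spec (CommRingCat.of K) := s ≫ pullback.fst y f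
  let b : Spec L ⟶ X := s ≫ pullback.snd y f
  have hab : a ≫ y = b ≫ f := by
    simp only [a, b, Category.assoc, pullback.condition]
  -- `Y ×_Z Spec L` is connected
  have hP' : ConnectedSpace ↥(pullback fst b) :=
    hfst.1 b (pullback.fst fst b) (pullback.snd fst b) (IsPullback.of_hasPullback fst b)
  have big : IsPullback (pullback.fst fst b ≫ snd) (pullback.snd fst b) g (b ≫ f) :=
    (IsPullback.of_hasPullback fst b).paste_horiz h.flip
  rw [← hab] at big
  let c : pullback fst b ⟶ pullback g y :=
    pullback.lift (pullback.fst fst b ≫ snd) (pullback.snd fst b ≫ a) big.w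
  have hc1 : c ≫ pullback.fst g y = pullback.fst fst b ≫ snd := pullback.lift_fst _ _ _
  have hc2 : c ≫ pullback.snd g y = pullback.snd fst b ≫ a := pullback.lift_snd _ _ _
  have left : IsPullback c (pullback.snd fst b) (pullback.snd g y) a :=
    IsPullback.of_right (by rw [hc1]; exact big) hc2 (IsPullback.of_hasPullback g y)
  have ha : Surjective a := by
    refine ⟨fun x => ⟨IsLocalRing.closedPoint L, Subsingleton.elim _ _⟩⟩
  have hcs : Surjective c := MorphismProperty.of_isPullback (P := @Surjective) left.flip ha
  exact hcs.surj.connectedSpace c.continuous

/-- A connected group scheme over a field is geometrically irreducible. -/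
theorem geometricallyIrreducible_of_connected {K : Type u} [Field K]
    (G : Over (Spec (CommRingCat.of K))) [GrpObj G] [ConnectedSpace G.left] :
    GeometricallyIrreducible G.hom := by
  have : IrreducibleSpace G.left := Groth.Agent.H9.GZB.S0348_main G
  have hr : Set.range ⇑(𝟙 G.left : G.left ⟶ G.left) = Set.univ := by
    ext x
    simp
  have h := Groth.Agent.H9.GZA.S7517_main G G.left (𝟙 _)
    (by
      rw [hr]
      refine ⟨IrreducibleSpace.isIrreducible_univ _, fun t _ _ => Set.subset_univ _⟩)
    (by rw [hr]; trivial)
  rwa [Category.id_comp] at h

theorem geometricallyConnected_of_geometricallyIrreducible {X Y : Scheme.{u}} (f : X ⟶ Y)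
    [GeometricallyIrreducible f] : GeometricallyConnected f := by
  rw [GeometricallyConnected.eq_geometrically, geometrically_iff_of_isClosedUnderIsomorphisms]
  intro K _ y
  have : GeometricallyIrreducible (pullback.snd f y) := inferInstance
  have : IrreducibleSpace ↥(pullback f y) :=
    GeometricallyIrreducible.irreducibleSpace_of_subsingleton (f := pullback.snd f y)
  infer_instance

/-- A connected group scheme over a field is geometrically connected. -/
theorem geometricallyConnected_of_connected {K : Type u} [Field K]
    (G : Over (Spec (CommRingCat.of K))) [GrpObj G] [ConnectedSpace G.left] :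
    GeometricallyConnected G.hom := by
  have := geometricallyIrreducible_of_connected G
  exact geometricallyConnected_of_geometricallyIrreducible G.hom

end Groth.Agent.H9.TOR
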