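import Mathlib

/-! Helper9: morphisms from Spec of a complete local ring = compatible families on infinitesimal neighbourhoods (S8384). -/

set_option linter.style.haveILetI false
set_option linter.unusedSectionVars false

namespace Groth.Agent.H9.ADL

universe u

open CategoryTheory AlgebraicGeometry Limits

section affineFactor

variable {X : Scheme.{u}} {U : X.Opens} (hU : IsAffineOpen U)

/-- a morphism from an affine scheme landing in an affine open factors through it -/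
theorem eq_SpecMap_fromSpec {R : CommRingCat.{u}} (f : Spec R ⟶ X) (h : ⊤ ≤ f ⁻¹ᵁ U) :
    f = Spec.map (f.appLE U ⊤ h ≫ (Scheme.ΓSpecIso R).hom) ≫ hU.fromSpec := by
  have := IsAffineOpen.SpecMap_appLE_fromSpec f hU (isAffineOpen_top _) h
  rw [IsAffineOpen.fromSpec_top, Iso.eq_inv_comp, Scheme.isoSpec_Spec_hom] at this
  rw [Spec.map_comp, Category.assoc]
  exact this.symm

theorem SpecMap_fromSpec_injective {R : CommRingCat.{u}} (φ₁ φ₂ : Γ(X, U) ⟶ R)
    (h : Spec.map φ₁ ≫ hU.fromSpec = Spec.map φ₂ ≫ hU.fromSpec) : φ₁ = φ₂ := by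
  haveI : Mono hU.fromSpec := inferInstance
  exact Spec.map_injective ((cancel_mono _).mp h)

end affineFactor

section localAdic

variable (A : Type u) [CommRing A] [IsLocalRing A]

local notation "𝔪" => IsLocalRing.maximalIdeal A

/-- every point of `Spec (A/𝔪ⁿ)` (n ≥ 1) lies over the closed point -/
theorem SpecMap_mk_apply (n : ℕ)
    (p : Spec (CommRingCat.of (A ⧸ 𝔪 ^ n))) :
    (Spec.map (CommRingCat.ofHom (Ideal.Quotient.mk (𝔪 ^ n)))) p = IsLocalRing.closedPoint A := by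
  apply PrimeSpectrum.ext
  change Ideal.comap (Ideal.Quotient.mk (𝔪 ^ n)) p.asIdeal = 𝔪
  have hprime : (Ideal.comap (Ideal.Quotient.mk (𝔪 ^ n)) p.asIdeal).IsPrime :=
    Ideal.IsPrime.comap _
  apply le_antisymm
  · exact IsLocalRing.le_maximalIdeal hprime.ne_top
  · have h1 : 𝔪 ^ n ≤ Ideal.comap (Ideal.Quotient.mk (𝔪 ^ n)) p.asIdeal := by
      intro a ha
      rw [Ideal.mem_comap, Ideal.Quotient.eq_zero_iff_mem.mpr ha]
      exact Ideal.zero_mem _
    exact hprime.le_of_pow_le h1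

theorem nonempty_Spec_quot (n : ℕ) (hn : 1 ≤ n) :
    Nonempty (Spec (CommRingCat.of (A ⧸ 𝔪 ^ n))) := by
  have : Nontrivial (A ⧸ 𝔪 ^ n) := by
    rw [Ideal.Quotient.nontrivial_iff]
    intro h
    have h2 : 𝔪 ^ n ≤ 𝔪 := Ideal.pow_le_self (by omega)
    rw [h] at h2
    exact (IsLocalRing.maximalIdeal.isMaximal A).ne_top (top_le_iff.mp h2)
  exact inferInstanceAs (Nonempty (PrimeSpectrum (A ⧸ 𝔪 ^ n)))

theorem subsingleton_Spec_quot (n : ℕ) :
    Subsingleton (Spec (CommRingCat.of (A ⧸ 𝔪 ^ n))) := by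
  constructor
  intro p q
  have hinj := PrimeSpectrum.comap_injective_of_surjective (Ideal.Quotient.mk (𝔪 ^ n))
    Ideal.Quotient.mk_surjective
  apply hinj
  exact (SpecMap_mk_apply A n p).trans (SpecMap_mk_apply A n q).symm

theorem exists_affine_mem (X : Scheme.{u}) (x : X) : ∃ U : X.Opens, IsAffineOpen U ∧ x ∈ U := by
  obtain ⟨_, ⟨U, hU, rfl⟩, hxU, -⟩ := X.isBasis_affineOpens.exists_subset_of_mem_open
    (Set.mem_univ x) isOpen_univ
  exact ⟨U, hU, hxU⟩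

theorem S8384_part1 [IsAdicComplete 𝔪 A] (X : Scheme.{u})
    (f g : Spec (CommRingCat.of A) ⟶ X)
    (h : ∀ n : ℕ, Spec.map (CommRingCat.ofHom (Ideal.Quotient.mk (𝔪 ^ n))) ≫ f =
      Spec.map (CommRingCat.ofHom (Ideal.Quotient.mk (𝔪 ^ n))) ≫ g) : f = g := by
  obtain ⟨p⟩ := nonempty_Spec_quot A 1 le_rfl
  have hx : f (IsLocalRing.closedPoint A) = g (IsLocalRing.closedPoint A) := by
    have h1 := congrArg (fun k : Spec (CommRingCat.of (A ⧸ 𝔪 ^ 1)) ⟶ X => k p) (h 1)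
    simp only [Scheme.Hom.comp_apply, SpecMap_mk_apply] at h1
    exact h1
  obtain ⟨U, hU, hxU⟩ := exists_affine_mem X (f (IsLocalRing.closedPoint A))
  have hfU : ⊤ ≤ f ⁻¹ᵁ U := (Scheme.preimage_eq_top_of_closedPoint_mem f hxU).ge
  have hgU : ⊤ ≤ g ⁻¹ᵁ U := (Scheme.preimage_eq_top_of_closedPoint_mem g (hx ▸ hxU)).ge
  rw [eq_SpecMap_fromSpec hU f hfU, eq_SpecMap_fromSpec hU g hgU]
  set φf := f.appLE U ⊤ hfU ≫ (Scheme.ΓSpecIso (CommRingCat.of A)).hom with hφf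
  set φg := g.appLE U ⊤ hgU ≫ (Scheme.ΓSpecIso (CommRingCat.of A)).hom with hφg
  have key : ∀ n, (Ideal.Quotient.mk (𝔪 ^ n)).comp φf.hom = (Ideal.Quotient.mk (𝔪 ^ n)).comp φg.hom := by
    intro n
    have h1 := h n
    rw [eq_SpecMap_fromSpec hU f hfU, eq_SpecMap_fromSpec hU g hgU, ← hφf, ← hφg,
      ← Category.assoc, ← Category.assoc, ← Spec.map_comp, ← Spec.map_comp] at h1
    have h2 := SpecMap_fromSpec_injective hU _ _ h1
    exact congrArg CommRingCat.Hom.hom h2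
  have compat : ∀ {m n : ℕ} (hle : m ≤ n), (Ideal.Quotient.factorPow 𝔪 hle).comp
      ((Ideal.Quotient.mk (𝔪 ^ n)).comp φg.hom) = (Ideal.Quotient.mk (𝔪 ^ m)).comp φg.hom := by
    intro m n hle
    rw [← RingHom.comp_assoc]
    congr 1
  have e1 := IsAdicComplete.eq_liftRingHom 𝔪 _ compat φf.hom key
  have e2 := IsAdicComplete.eq_liftRingHom 𝔪 _ compat φg.hom (fun n => rfl)
  have : φf = φg := CommRingCat.hom_ext (e1.trans e2.symm)
  rw [this]

theorem S8384_part2 [IsAdicComplete 𝔪 A] (X : Scheme.{u})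
    (u : (n : ℕ) → (Spec (CommRingCat.of (A ⧸ 𝔪 ^ n)) ⟶ X))
    (hu : ∀ n : ℕ, Spec.map (CommRingCat.ofHom (Ideal.Quotient.factor
      (Ideal.pow_le_pow_right (I := 𝔪) (Nat.le_succ n)))) ≫ u (n + 1) = u n) :
    ∃ f : Spec (CommRingCat.of A) ⟶ X, ∀ n : ℕ,
      Spec.map (CommRingCat.ofHom (Ideal.Quotient.mk (𝔪 ^ n))) ≫ f = u n := by
  obtain ⟨p1⟩ := nonempty_Spec_quot A 1 le_rfl
  set x := u 1 p1 with hxdef
  -- all points go to `x`
  have hpt : ∀ n, 1 ≤ n → ∀ p : Spec (CommRingCat.of (A ⧸ 𝔪 ^ n)), u n p = x := by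
    intro n hn
    induction n, hn using Nat.le_induction with
    | base =>
      intro p
      haveI := subsingleton_Spec_quot A 1
      rw [Subsingleton.elim p p1]
    | succ n hn ih =>
      intro p
      obtain ⟨p0⟩ := nonempty_Spec_quot A n hn
      haveI := subsingleton_Spec_quot A (n + 1)
      have h1 := congrArg (fun k : Spec (CommRingCat.of (A ⧸ 𝔪 ^ n)) ⟶ X => k p0) (hu n)
      simp only [Scheme.Hom.comp_apply] at h1
      rw [Subsingleton.elim p _, h1]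
      exact ih p0
  obtain ⟨U, hU, hxU⟩ := exists_affine_mem X x
  have hle : ∀ n, ⊤ ≤ (u n) ⁻¹ᵁ U := by
    intro n p _
    rcases Nat.eq_zero_or_pos n with rfl | hn
    · exfalso
      have : Subsingleton (A ⧸ 𝔪 ^ 0) := by
        rw [pow_zero, Ideal.one_eq_top]
        exact Ideal.Quotient.subsingleton_iff.mpr rfl
      have : IsEmpty (PrimeSpectrum (A ⧸ 𝔪 ^ 0)) := inferInstance
      exact this.false p
    · change u n p ∈ U
      rw [hpt n hn p]
      exact hxU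
  let ψ : (n : ℕ) → (Γ(X, U) ⟶ CommRingCat.of (A ⧸ 𝔪 ^ n)) := fun n =>
    (u n).appLE U ⊤ (hle n) ≫ (Scheme.ΓSpecIso (CommRingCat.of (A ⧸ 𝔪 ^ n))).hom
  have hψ : ∀ n, u n = Spec.map (ψ n) ≫ hU.fromSpec := fun n => eq_SpecMap_fromSpec hU (u n) (hle n)
  have hcompat : ∀ {m : ℕ}, (Ideal.Quotient.factorPow 𝔪 (strictMono_id.monotone m.le_succ)).comp
      (ψ (m + 1)).hom = (ψ m).hom := by
    intro m
    have h1 := hu m
    rw [hψ (m + 1), hψ m, ← Category.assoc, ← Spec.map_comp] at h1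
    have h2 := SpecMap_fromSpec_injective hU _ _ h1
    exact congrArg CommRingCat.Hom.hom h2
  let Ψ : Γ(X, U) →+* A :=
    IsAdicComplete.StrictMono.liftRingHom 𝔪 strictMono_id (fun n => (ψ n).hom) hcompat
  have hΨ : ∀ n, (Ideal.Quotient.mk (𝔪 ^ n)).comp Ψ = (ψ n).hom := fun n =>
    IsAdicComplete.StrictMono.mk_comp_liftRingHom 𝔪 strictMono_id (fun n => (ψ n).hom) hcompat
  refine ⟨Spec.map (CommRingCat.ofHom Ψ) ≫ hU.fromSpec, fun n => ?_⟩
  rw [hψ n, ← Category.assoc, ← Spec.map_comp]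
  congr 2
  exact CommRingCat.hom_ext (hΨ n)

theorem S8384_main [IsAdicComplete 𝔪 A] (X : Scheme.{u}) :
    (∀ f g : (Spec (CommRingCat.of A)) ⟶ X,
      (∀ n : ℕ, (Spec.map (CommRingCat.ofHom (Ideal.Quotient.mk (𝔪 ^ n)))) ≫ f =
        (Spec.map (CommRingCat.ofHom (Ideal.Quotient.mk (𝔪 ^ n)))) ≫ g) → f = g) ∧
    (∀ u : (n : ℕ) → (Spec (CommRingCat.of (A ⧸ 𝔪 ^ n)) ⟶ X),
      (∀ n : ℕ, (Spec.map (CommRingCat.ofHom (Ideal.Quotient.factor
          (Ideal.pow_le_pow_right (I := 𝔪) (Nat.le_succ n))))) ≫ u (n + 1) = u n) →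
      ∃ f : (Spec (CommRingCat.of A)) ⟶ X, ∀ n : ℕ,
        (Spec.map (CommRingCat.ofHom (Ideal.Quotient.mk (𝔪 ^ n)))) ≫ f = u n) :=
  ⟨S8384_part1 A X, S8384_part2 A X⟩

end localAdic

end Groth.Agent.H9.ADL
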