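import Mathlib

set_option autoImplicit false
set_option linter.style.haveILetI false
set_option linter.unusedSectionVars false
set_option linter.unusedVariables false

open CategoryTheory AlgebraicGeometry

namespace Groth.Agent.H9.KPR
universe u

/-- a morphism from a reduced scheme kills the nilradical. -/
theorem nilradical_le_ker {X Y : Scheme.{u}} [IsReduced Y] (g : Y ⟶ X) :
    X.nilradical ≤ g.ker := by
  refine Scheme.IdealSheafData.le_ofIdeals_iff.mpr ?_
  intro U a ha
  rw [RingHom.mem_ker]
  have hnil : IsNilpotent a := by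
    have h1 : a ∈ (⊥ : Ideal Γ(X, U.1)).radical := ha
    have h2 : a ∈ nilradical Γ(X, U.1) := h1
    exact mem_nilradical.mp h2
  exact (hnil.map (g.app U.1).hom).eq_zero

theorem isReduced_of_nilradical_eq_bot {X : Scheme.{u}} (h : X.nilradical = ⊥) : IsReduced X := by
  have hU : ∀ U : X.affineOpens, _root_.IsReduced Γ(X, U.1) := by
    intro U
    have h1 : X.nilradical.ideal U = ⊥ := by rw [h]; rfl
    have h2 : nilradical Γ(X, U.1) = ⊥ := h1
    exact nilradical_eq_bot_iff.mp h2
  haveI : ∀ x : X, _root_.IsReduced (X.presheaf.stalk x) := by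
    intro x
    obtain ⟨U, hU', hxU, -⟩ := TopologicalSpace.Opens.isBasis_iff_nbhd.mp X.isBasis_affineOpens
      (TopologicalSpace.Opens.mem_top x)
    haveI := hU ⟨U, hU'⟩
    letI : Algebra Γ(X, U) (X.presheaf.stalk x) :=
      TopCat.Presheaf.algebra_section_stalk X.presheaf ⟨x, hxU⟩
    haveI : IsLocalization.AtPrime (X.presheaf.stalk x) (hU'.primeIdealOf ⟨x, hxU⟩).asIdeal :=
      hU'.isLocalization_stalk ⟨x, hxU⟩
    exact isReduced_localizationPreserves (hU'.primeIdealOf ⟨x, hxU⟩).asIdeal.primeCompl _
      inferInstance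
  exact isReduced_of_isReduced_stalk X

/-- if every morphism from `Spec K` (`K` a field) factors through a closed subscheme forces that
subscheme to be everything, then `X` is reduced. -/
theorem main (k K : Type u) [Field k] [Field K] [Algebra k K]
    (X : Over (Spec (CommRingCat.of k)))
    (hd : ∀ (Z : Over (Spec (CommRingCat.of k))) (c : Z ⟶ X), IsClosedImmersion c.left →
      (∀ x : Over.mk (Spec.map (CommRingCat.ofHom (algebraMap k K))) ⟶ X,
        ∃ z : Over.mk (Spec.map (CommRingCat.ofHom (algebraMap k K))) ⟶ Z, z ≫ c = x) → IsIso c) :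
    IsReduced X.left := by
  let ι := X.left.nilradical.subschemeι
  let Z : Over (Spec (CommRingCat.of k)) := Over.mk (ι ≫ X.hom)
  let c : Z ⟶ X := Over.homMk ι rfl
  have hc : IsClosedImmersion c.left := inferInstanceAs (IsClosedImmersion ι)
  have hiso : IsIso c := by
    refine hd Z c hc (fun x => ?_)
    haveI : IsReduced (Over.mk (Spec.map (CommRingCat.ofHom (algebraMap k K)))).left :=
      inferInstanceAs (IsReduced (Spec (CommRingCat.of K)))
    have hle : ι.ker ≤ x.left.ker := by
      rw [Scheme.IdealSheafData.ker_subschemeι]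
      exact nilradical_le_ker x.left
    refine ⟨Over.homMk (IsClosedImmersion.lift ι x.left hle) ?_, ?_⟩
    · show IsClosedImmersion.lift ι x.left hle ≫ (ι ≫ X.hom) = _
      rw [← Category.assoc, IsClosedImmersion.lift_fac]
      exact Over.w x
    · ext
      exact IsClosedImmersion.lift_fac ι x.left hle
  haveI : IsIso ι := by
    have : IsIso ((Over.forget _).map c) := inferInstance
    exact this
  have hker : ι.ker = ⊥ := Scheme.Hom.ker_eq_bot_of_isIso ι
  rw [Scheme.IdealSheafData.ker_subschemeι] at hker
  exact isReduced_of_nilradical_eq_bot hker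

end Groth.Agent.H9.KPR
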