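import Mathlib
import Groth.Prelude.Def_AlgGrp
import Groth.Agent.H4.SmRed2
import Groth.Agent.Lib.Helper9.Misc.KPR1

set_option autoImplicit false
set_option linter.style.haveILetI false
set_option linter.unusedSectionVars false
set_option linter.unusedVariables false

open CategoryTheory CategoryTheory.Limits AlgebraicGeometry MonoidalCategory
  CartesianMonoidalCategory MonObj

namespace Groth.Agent.H9.NRS
universe u

/-- a surjective closed immersion has kernel inside the nilradical. -/
theorem ker_le_nilradical {Z H : Scheme.{u}} (j : Z ⟶ H) [IsClosedImmersion j] [Surjective j] :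
    j.ker ≤ H.nilradical := by
  rw [← Scheme.IdealSheafData.vanishingIdeal_top,
    ← Scheme.IdealSheafData.le_support_iff_le_vanishingIdeal]
  intro x _
  rw [← SetLike.mem_coe, Scheme.Hom.support_ker]
  exact subset_closure (j.surjective x)

/-- morphisms from reduced schemes factor through surjective closed immersions. -/
theorem exists_factor {S : Scheme.{u}} {T Hr H : Over S} [IsReduced T.left] (j : Hr ⟶ H)
    [IsClosedImmersion j.left] [Surjective j.left] (m : T ⟶ H) : ∃ n : T ⟶ Hr, n ≫ j = m := by
  have hle : j.left.ker ≤ m.left.ker :=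
    (ker_le_nilradical j.left).trans (Groth.Agent.H9.KPR.nilradical_le_ker m.left)
  refine ⟨Over.homMk (IsClosedImmersion.lift j.left m.left hle) ?_, ?_⟩
  · rw [← Over.w j, ← Category.assoc, IsClosedImmersion.lift_fac]
    exact Over.w m
  · ext
    exact IsClosedImmersion.lift_fac j.left m.left hle

theorem main (k : Type u) [Field k]
    (G H Hr : Over (Spec (CommRingCat.of k))) [GrpObj G] [GrpObj H] [GrpObj Hr]
    [Smooth G.hom]
    (i : H ⟶ G) (hN : AlgGrp.IsNormalHom i)
    (j : Hr ⟶ H) [IsClosedImmersion j.left] [IsReduced Hr.left] [Surjective j.left] :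
    AlgGrp.IsNormalHom (j ≫ i) := by
  -- the universal case `T₀ = G ⊗ Hr`
  let T₀ : Over (Spec (CommRingCat.of k)) := G ⊗ Hr
  haveI hsm : Smooth (snd G Hr).left := by
    have : (snd G Hr).left = pullback.snd G.hom Hr.hom := rfl
    rw [this]
    infer_instance
  haveI : IsReduced T₀.left :=
    Groth.Agent.H4.SmRed.isReduced_of_smooth_scheme (snd G Hr).left
  obtain ⟨m, hm⟩ := hN T₀ (fst G Hr) (snd G Hr ≫ j)
  obtain ⟨n₀, hn₀⟩ := exists_factor j m
  intro T g n
  refine ⟨lift g n ≫ n₀, ?_⟩
  have h1 : lift g n ≫ (fst G Hr * ((snd G Hr ≫ j) ≫ i) * (fst G Hr)⁻¹) =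
      lift g n ≫ (m ≫ i) := by rw [hm]
  rw [MonObj.comp_mul, MonObj.comp_mul, GrpObj.comp_inv, lift_fst, ← Category.assoc,
    ← Category.assoc, lift_snd] at h1
  rw [Category.assoc] at h1
  rw [h1, ← hn₀, Category.assoc, Category.assoc]

end Groth.Agent.H9.NRS
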