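import Mathlib
import Groth.Agent.Lib.Helper9.Misc.NRS1
import Groth.Agent.Lib.Helper9.FinHopf.RedHopf

set_option autoImplicit false
set_option linter.style.haveILetI false
set_option linter.unusedSectionVars false
set_option linter.unusedVariables false

open CategoryTheory CategoryTheory.Limits AlgebraicGeometry MonoidalCategory
  CartesianMonoidalCategory MonObj TensorProduct

namespace Groth.Agent.H9.GRD
universe u

theorem isReduced_pullback_affine (k : Type u) [Field k] [PerfectField k] (R S : CommRingCat.{u})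
    [_root_.IsReduced R] [_root_.IsReduced S] (f : Spec R ⟶ Spec (CommRingCat.of k))
    (g : Spec S ⟶ Spec (CommRingCat.of k)) : IsReduced (pullback f g) := by
  obtain ⟨φ, rfl⟩ := Spec.map_surjective f
  obtain ⟨ψ, rfl⟩ := Spec.map_surjective g
  letI := φ.hom.toAlgebra
  letI := ψ.hom.toAlgebra
  have e := pullbackSpecIso k R S
  haveI : _root_.IsReduced (R ⊗[k] S) :=
    Groth.Agent.H9.FinHopf.isReduced_tensor_of_perfectField k R S
  haveI : IsReduced (Spec (CommRingCat.of (R ⊗[k] S))) := inferInstance
  exact isReduced_of_isOpenImmersion e.hom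

theorem isReduced_pullback (k : Type u) [Field k] [PerfectField k] {X Y : Scheme.{u}}
    (f : X ⟶ Spec (CommRingCat.of k)) (g : Y ⟶ Spec (CommRingCat.of k)) [IsReduced X]
    [IsReduced Y] : IsReduced (pullback f g) := by
  let 𝒰 := Scheme.Pullback.openCoverOfLeftRight X.affineOpenCover.openCover
    Y.affineOpenCover.openCover f g
  haveI : ∀ i, IsReduced (𝒰.X i) := by
    rintro ⟨i, j⟩
    haveI : IsReduced (Spec (X.affineOpenCover.X i)) :=
      isReduced_of_isOpenImmersion (X.affineOpenCover.f i)
    haveI : IsReduced (Spec (Y.affineOpenCover.X j)) :=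
      isReduced_of_isOpenImmersion (Y.affineOpenCover.f j)
    haveI : _root_.IsReduced (X.affineOpenCover.X i) :=
      (affine_isReduced_iff _).mp inferInstance
    haveI : _root_.IsReduced (Y.affineOpenCover.X j) :=
      (affine_isReduced_iff _).mp inferInstance
    exact isReduced_pullback_affine k _ _ _ _
  exact IsReduced.of_openCover _ 𝒰

theorem main (k : Type u) [Field k] [PerfectField k]
    (G F : Over (Spec (CommRingCat.of k))) [GrpObj G] (j : F ⟶ G) [IsClosedImmersion j.left]
    [Surjective j.left] [IsReduced F.left] :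
    (∃ m : F ⊗ F ⟶ F, m ≫ j = MonoidalCategory.tensorHom j j ≫ μ[G]) ∧
      (∃ i : F ⟶ F, i ≫ j = j ≫ ι[G]) ∧
      (∃ e : 𝟙_ (Over (Spec (CommRingCat.of k))) ⟶ F, e ≫ j = η[G]) := by
  haveI : IsReduced (F ⊗ F).left := by
    have : (F ⊗ F).left = pullback F.hom F.hom := rfl
    rw [this]
    exact isReduced_pullback k F.hom F.hom
  haveI : IsReduced (𝟙_ (Over (Spec (CommRingCat.of k)))).left := by
    have : (𝟙_ (Over (Spec (CommRingCat.of k)))).left = Spec (CommRingCat.of k) := rfl
    rw [this]
    infer_instance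
  exact ⟨Groth.Agent.H9.NRS.exists_factor j _, Groth.Agent.H9.NRS.exists_factor j _,
    Groth.Agent.H9.NRS.exists_factor j _⟩

end Groth.Agent.H9.GRD
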