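import Mathlib
import Groth.Prelude.Def_Red2
import Groth.Agent.H4.GaGm


/-! Helper9: coordinates on Ga, Gm over a field: basics (for S15180). -/
set_option linter.style.haveILetI false
set_option linter.unusedSectionVars false

namespace Groth.Agent.H9.GAQ

universe u

open CategoryTheory MonoidalCategory CartesianMonoidalCategory MonObj GrpObj AlgebraicGeometry Limits
open Groth.Agent.H4.GaGm

section base

variable {K : Type u} [Field K]

/-- the structure ring hom `K → Γ(X)` of a `K`-scheme -/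
noncomputable def ρ (X : Over (Spec (CommRingCat.of K))) : K →+* Γ(X.left, ⊤) :=
  (X.hom.appTop).hom.comp (Scheme.ΓSpecIso (CommRingCat.of K)).inv.hom

theorem ρ_comp {X X' : Over (Spec (CommRingCat.of K))} (π : X' ⟶ X) :
    (π.left.appTop.hom).comp (ρ X) = ρ X' := by
  have h : π.left ≫ X.hom = X'.hom := Over.w π
  have h2 : X.hom.appTop ≫ π.left.appTop = X'.hom.appTop := by
    rw [← Scheme.Hom.comp_appTop, h]
  unfold ρ
  rw [← RingHom.comp_assoc]
  congr 1
  exact congrArg CommRingCat.Hom.hom h2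

theorem ρ_comp_apply {X X' : Over (Spec (CommRingCat.of K))} (π : X' ⟶ X) (c : K) :
    π.left.appTop.hom (ρ X c) = ρ X' c :=
  congrArg (fun f => f c) (ρ_comp π)

theorem hom_eq_toSpecΓ (X : Over (Spec (CommRingCat.of K))) :
    X.hom = X.left.toSpecΓ ≫ Spec.map (CommRingCat.ofHom (ρ X)) := by
  have h1 := Scheme.toSpecΓ_naturality X.hom
  have h2 : (Spec (CommRingCat.of K)).toSpecΓ = Spec.map (Scheme.ΓSpecIso (CommRingCat.of K)).hom :=
    (SpecMap_ΓSpecIso_hom _).symm
  have h3 : CommRingCat.ofHom (ρ X) = (Scheme.ΓSpecIso (CommRingCat.of K)).inv ≫ X.hom.appTop := rfl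
  rw [h3, Spec.map_comp, ← Category.assoc, ← h1, h2, Category.assoc, ← Spec.map_comp,
    Iso.inv_hom_id, Spec.map_id, Category.comp_id]

theorem eval₂_comp {X X' : Over (Spec (CommRingCat.of K))} (π : X' ⟶ X) (a : Γ(X.left, ⊤))
    (f : Polynomial K) :
    π.left.appTop.hom (Polynomial.eval₂ (ρ X) a f) =
      Polynomial.eval₂ (ρ X') (π.left.appTop.hom a) f := by
  rw [Polynomial.hom_eval₂, ρ_comp]

end base

section naturality

variable {S : Scheme.{u}} {X X' : Over S}

theorem gaFn_comp (π : X' ⟶ X) (x : X ⟶ Red.Ga S) :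
    Red.gaFn (π ≫ x) = π.left.appTop.hom (Red.gaFn x) := by
  unfold Red.gaFn
  rw [Over.comp_left, Category.assoc, Scheme.Hom.comp_appTop]
  rfl

theorem gmFn_comp (π : X' ⟶ X) (x : X ⟶ Red.Gm S) :
    Red.gmFn (π ≫ x) = π.left.appTop.hom (Red.gmFn x) := by
  unfold Red.gmFn
  rw [Over.comp_left, Category.assoc, Scheme.Hom.comp_appTop]
  rfl

theorem gaFn_one : Red.gaFn (1 : X ⟶ Red.Ga S) = 0 := by
  have h := gaFn_mul (1 : X ⟶ Red.Ga S) 1
  rw [show (1 : X ⟶ Red.Ga S) * 1 = 1 from _root_.mul_one (1 : X ⟶ Red.Ga S)] at h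
  exact left_eq_add.mp h

theorem gmFn_one : Red.gmFn (1 : X ⟶ Red.Gm S) = 1 := by
  have h := gmFn_mul (1 : X ⟶ Red.Gm S) 1
  rw [show (1 : X ⟶ Red.Gm S) * 1 = 1 from _root_.mul_one (1 : X ⟶ Red.Gm S)] at h
  have hu := isUnit_gmFn (1 : X ⟶ Red.Gm S)
  exact (hu.mul_right_injective (by simpa using h.symm))

end naturality

end Groth.Agent.H9.GAQ
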