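import Mathlib
import Groth.Prelude.Def_Red2
import Groth.Agent.H4.GaGm
import Groth.Agent.Lib.Helper9.Misc.GAQ1


/-! Helper9: points of affine K-schemes, factorisation through closed subschemes (for S15180). -/
set_option linter.style.haveILetI false
set_option linter.unusedSectionVars false

namespace Groth.Agent.H9.GAQ

universe u

open CategoryTheory MonoidalCategory CartesianMonoidalCategory MonObj GrpObj AlgebraicGeometry Limits

section affineTarget

variable {K : Type u} [Field K] (B : Type u) [CommRing B] [Algebra K B]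

/-- `Spec B` as a `K`-scheme -/
noncomputable abbrev AB : Over (Spec (CommRingCat.of K)) :=
  Over.mk (Spec.map (CommRingCat.ofHom (algebraMap K B)))

variable {B} {X X' : Over (Spec (CommRingCat.of K))}

/-- the ring hom attached to a point of `Spec B` -/
noncomputable def co (x : X ⟶ AB B) : B →+* Γ(X.left, ⊤) :=
  (x.left.appTop).hom.comp (Scheme.ΓSpecIso (CommRingCat.of B)).inv.hom

theorem left_eq (x : X ⟶ AB B) :
    x.left = X.left.toSpecΓ ≫ Spec.map (CommRingCat.ofHom (co x)) := by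
  have h1 := Scheme.toSpecΓ_naturality x.left
  have h2 : (Spec (CommRingCat.of B)).toSpecΓ = Spec.map (Scheme.ΓSpecIso (CommRingCat.of B)).hom :=
    (SpecMap_ΓSpecIso_hom _).symm
  have h3 : CommRingCat.ofHom (co x) = (Scheme.ΓSpecIso (CommRingCat.of B)).inv ≫ x.left.appTop := rfl
  rw [h3, Spec.map_comp, ← Category.assoc, ← h1]
  change x.left = (x.left ≫ (Spec (CommRingCat.of B)).toSpecΓ) ≫ _
  rw [h2, Category.assoc, ← Spec.map_comp, Iso.inv_hom_id, Spec.map_id]
  exact (Category.comp_id _).symm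

theorem co_toSpecΓ {Y : Scheme.{u}} (ψ : B →+* Γ(Y, ⊤)) :
    ((Y.toSpecΓ ≫ Spec.map (CommRingCat.ofHom ψ)).appTop).hom.comp
      (Scheme.ΓSpecIso (CommRingCat.of B)).inv.hom = ψ := by
  have h : (Scheme.ΓSpecIso (CommRingCat.of B)).inv ≫
      (Y.toSpecΓ ≫ Spec.map (CommRingCat.ofHom ψ)).appTop = CommRingCat.ofHom ψ := by
    rw [Scheme.Hom.comp_appTop, Scheme.toSpecΓ_appTop, ← Category.assoc,
      ← Scheme.ΓSpecIso_inv_naturality, Category.assoc, Iso.inv_hom_id, Category.comp_id]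
  exact congrArg CommRingCat.Hom.hom h

theorem co_comp (π : X' ⟶ X) (x : X ⟶ AB B) : co (π ≫ x) = (π.left.appTop.hom).comp (co x) := by
  unfold co
  rw [Over.comp_left, Scheme.Hom.comp_appTop]
  rfl

theorem co_algebraMap (x : X ⟶ AB B) : (co x).comp (algebraMap K B) = ρ X := by
  have h : x.left ≫ Spec.map (CommRingCat.ofHom (algebraMap K B)) = X.hom := Over.w x
  have h2 : (Spec.map (CommRingCat.ofHom (algebraMap K B))).appTop ≫ x.left.appTop = X.hom.appTop := by
    rw [← Scheme.Hom.comp_appTop, h]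
  have h3 := Scheme.ΓSpecIso_inv_naturality (CommRingCat.ofHom (algebraMap K B))
  unfold co ρ
  rw [← h2]
  ext c
  have := congrArg (fun f => f.hom c) h3
  simp only [CommRingCat.hom_comp, RingHom.coe_comp, Function.comp_apply] at this ⊢
  rw [← this]
  rfl

theorem co_injective : Function.Injective (co (B := B) (X := X)) := by
  intro x y h
  apply Over.OverMorphism.ext
  rw [left_eq x, left_eq y, h]

/-- the point attached to a `K`-algebra hom -/
noncomputable def ptB (ψ : B →+* Γ(X.left, ⊤)) (h : ψ.comp (algebraMap K B) = ρ X) : X ⟶ AB B :=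
  Over.homMk (X.left.toSpecΓ ≫ Spec.map (CommRingCat.ofHom ψ)) (by
    change (X.left.toSpecΓ ≫ Spec.map (CommRingCat.ofHom ψ)) ≫
      Spec.map (CommRingCat.ofHom (algebraMap K B)) = X.hom
    rw [Category.assoc, ← Spec.map_comp, hom_eq_toSpecΓ X, ← h]
    rfl)

theorem co_ptB (ψ : B →+* Γ(X.left, ⊤)) (h : ψ.comp (algebraMap K B) = ρ X) :
    co (ptB ψ h) = ψ := co_toSpecΓ ψ

theorem factor_iff {Z : Scheme.{u}} (j : Z ⟶ Spec (CommRingCat.of B)) (I : Ideal B)
    (e : Z ≅ Spec (CommRingCat.of (B ⧸ I)))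
    (hj : j = e.hom ≫ Spec.map (CommRingCat.ofHom (Ideal.Quotient.mk I)))
    {Y : Scheme.{u}} (ψ : B →+* Γ(Y, ⊤)) :
    (∃ y : Y ⟶ Z, y ≫ j = Y.toSpecΓ ≫ Spec.map (CommRingCat.ofHom ψ)) ↔ I ≤ RingHom.ker ψ := by
  constructor
  · rintro ⟨y, hy⟩ a ha
    have h1 := co_toSpecΓ ψ
    rw [← hy, hj] at h1
    have h2 : (Scheme.ΓSpecIso (CommRingCat.of B)).inv ≫
        (y ≫ e.hom ≫ Spec.map (CommRingCat.ofHom (Ideal.Quotient.mk I))).appTop =
        CommRingCat.ofHom (Ideal.Quotient.mk I) ≫ (Scheme.ΓSpecIso (CommRingCat.of (B ⧸ I))).inv ≫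
          (y ≫ e.hom).appTop := by
      rw [← Category.assoc y, Scheme.Hom.comp_appTop, ← Category.assoc,
        ← Scheme.ΓSpecIso_inv_naturality, Category.assoc]
    rw [RingHom.mem_ker, ← h1]
    have h3 := congrArg (fun f => f.hom a) h2
    simp only [CommRingCat.hom_comp, RingHom.coe_comp, Function.comp_apply] at h3 ⊢
    rw [h3]
    have : (CommRingCat.ofHom (Ideal.Quotient.mk I)).hom a = 0 :=
      Ideal.Quotient.eq_zero_iff_mem.mpr ha
    rw [this, map_zero, map_zero]
  · intro h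
    let ψ' : B ⧸ I →+* Γ(Y, ⊤) := Ideal.Quotient.lift I ψ (fun a ha => h ha)
    refine ⟨Y.toSpecΓ ≫ Spec.map (CommRingCat.ofHom ψ') ≫ e.inv, ?_⟩
    rw [hj]
    simp only [Category.assoc, Iso.inv_hom_id_assoc]
    rw [← Spec.map_comp]
    congr 2

end affineTarget

end Groth.Agent.H9.GAQ
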