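import Mathlib
import Groth.Prelude.Def_Red2
import Groth.Agent.H4.GaGm
import Groth.Agent.Lib.Helper9.Misc.GAQ1
import Groth.Agent.Lib.Helper9.Misc.GAQ2


/-! Helper9: Ga over a field is Spec K[X] (for S15180). -/
set_option linter.style.haveILetI false
set_option linter.unusedSectionVars false

namespace Groth.Agent.H9.GAQ

universe u

open CategoryTheory MonoidalCategory CartesianMonoidalCategory MonObj GrpObj AlgebraicGeometry Limits
open Groth.Agent.H4.GaGm Polynomial

section pts

variable {S : Scheme.{u}} {X : Over S}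

/-- the point of `𝔾_a` with given coordinate -/
noncomputable def gaPt (a : Γ(X.left, ⊤)) : X ⟶ Red.Ga S := (gaFn_surjective a).choose

@[simp] theorem gaFn_gaPt (a : Γ(X.left, ⊤)) : Red.gaFn (gaPt (S := S) a) = a :=
  (gaFn_surjective a).choose_spec

@[simp] theorem gaPt_gaFn (x : X ⟶ Red.Ga S) : gaPt (Red.gaFn x) = x :=
  gaFn_injective (gaFn_gaPt _)

end pts

section Ga

variable {K : Type u} [Field K] {X X' : Over (Spec (CommRingCat.of K))}

/-- evaluation of polynomials at a global function -/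
noncomputable def evA (a : Γ(X.left, ⊤)) : K[X] →+* Γ(X.left, ⊤) :=
  Polynomial.eval₂RingHom (ρ X) a

@[simp] theorem evA_C (a : Γ(X.left, ⊤)) (c : K) : evA a (C c) = ρ X c := by
  simp [evA]

@[simp] theorem evA_X (a : Γ(X.left, ⊤)) : evA a (Polynomial.X) = a := by
  simp [evA]

theorem evA_apply (a : Γ(X.left, ⊤)) (f : K[X]) : evA a f = Polynomial.eval₂ (ρ X) a f := rfl

theorem evA_algebraMap (a : Γ(X.left, ⊤)) : (evA a).comp (algebraMap K K[X]) = ρ X := by
  ext c
  simp

theorem evA_comp (π : X' ⟶ X) (a : Γ(X.left, ⊤)) :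
    (π.left.appTop.hom).comp (evA a) = evA (π.left.appTop.hom a) := by
  apply Polynomial.ringHom_ext
  · intro c
    simp [ρ_comp_apply]
  · simp

/-- the coordinate function of `𝔾_a` -/
noncomputable def tGa : Γ((Red.Ga (Spec (CommRingCat.of K))).left, ⊤) :=
  Red.gaFn (𝟙 (Red.Ga (Spec (CommRingCat.of K))))

theorem gaFn_eq_app (x : X ⟶ Red.Ga (Spec (CommRingCat.of K))) :
    Red.gaFn x = x.left.appTop.hom tGa := by
  rw [tGa, ← gaFn_comp, Category.comp_id]

/-- `𝔾_a → Spec K[X]` -/
noncomputable def θhom : Red.Ga (Spec (CommRingCat.of K)) ⟶ AB (K := K) K[X] :=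
  ptB (evA tGa) (evA_algebraMap _)

/-- `Spec K[X] → 𝔾_a` -/
noncomputable def θinv : AB (K := K) K[X] ⟶ Red.Ga (Spec (CommRingCat.of K)) :=
  gaPt (co (𝟙 (AB (K := K) K[X])) Polynomial.X)

theorem co_comp_θhom (x : X ⟶ Red.Ga (Spec (CommRingCat.of K))) :
    co (x ≫ θhom) = evA (Red.gaFn x) := by
  rw [co_comp, θhom, co_ptB, evA_comp, ← gaFn_eq_app]

theorem gaFn_comp_θinv (y : X ⟶ AB (K := K) K[X]) :
    Red.gaFn (y ≫ θinv) = co y Polynomial.X := by
  rw [gaFn_comp, θinv, gaFn_gaPt]
  have := co_comp y (𝟙 (AB (K := K) K[X]))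
  rw [Category.comp_id] at this
  rw [this]
  rfl

theorem co_eq_evA (y : X ⟶ AB (K := K) K[X]) : co y = evA (co y Polynomial.X) := by
  apply Polynomial.ringHom_ext
  · intro c
    rw [evA_C]
    have := congrArg (fun f => f c) (co_algebraMap y)
    simpa [Polynomial.algebraMap_apply] using this
  · simp

/-- `𝔾_a ≅ Spec K[X]` over `K` -/
noncomputable def θ : Red.Ga (Spec (CommRingCat.of K)) ≅ AB (K := K) K[X] where
  hom := θhom
  inv := θinv
  hom_inv_id := by
    apply gaFn_injective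
    rw [gaFn_comp_θinv, θhom, co_ptB, evA_X]
    rfl
  inv_hom_id := by
    apply co_injective
    rw [co_comp_θhom]
    have h1 := gaFn_comp_θinv (𝟙 (AB (K := K) K[X]))
    rw [Category.id_comp] at h1
    rw [h1, ← co_eq_evA]

instance : IsAffine (Red.Ga (Spec (CommRingCat.of K))).left :=
  haveI : IsAffine ((Over.forget (Spec (CommRingCat.of K))).obj (AB (K := K) K[X])) :=
    inferInstanceAs (IsAffine (Spec (CommRingCat.of K[X])))
  .of_isIso ((Over.forget _).mapIso (θ (K := K))).hom

end Ga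

end Groth.Agent.H9.GAQ
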