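import Mathlib
import Groth.Prelude.Def_Red2
import Groth.Agent.H4.GaGm
import Groth.Agent.Lib.Helper9.Misc.GAQ1
import Groth.Agent.Lib.Helper9.Misc.GAQ2

/-! Helper9: finite subgroups of affine K-groups are cut out by ideals (for S15180). -/

set_option linter.style.haveILetI false
set_option linter.unusedSectionVars false

namespace Groth.Agent.H9.GAQ

universe u

open CategoryTheory MonoidalCategory CartesianMonoidalCategory MonObj GrpObj AlgebraicGeometry Limits

section closedSub

variable {K : Type u} [Field K] {B : Type u} [CommRing B] [Algebra K B]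

theorem exists_ideal_of_finite_mono (G : Over (Spec (CommRingCat.of K))) (θ : G ≅ AB (K := K) B)
    (H : Over (Spec (CommRingCat.of K))) (i : H ⟶ G) [Mono i] [IsFinite H.hom] :
    ∃ I : Ideal B, Module.Finite K (B ⧸ I) ∧
      ∀ (X : Over (Spec (CommRingCat.of K))) (x : X ⟶ G),
        (∃ y : X ⟶ H, y ≫ i = x) ↔ I ≤ RingHom.ker (co (x ≫ θ.hom)) := by
  haveI : IsAffine ((Over.forget (Spec (CommRingCat.of K))).obj (AB (K := K) B)) :=
    inferInstanceAs (IsAffine (Spec (CommRingCat.of B)))
  haveI : IsAffine G.left := .of_isIso ((Over.forget _).mapIso θ).hom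
  haveI : IsIso θ.hom.left := inferInstanceAs (IsIso ((Over.forget _).mapIso θ).hom)
  have hw : i.left ≫ G.hom = H.hom := Over.w i
  haveI : IsFinite (i.left ≫ G.hom) := by rw [hw]; infer_instance
  haveI : IsFinite i.left := IsFinite.of_comp i.left G.hom
  haveI : Mono i.left := inferInstance
  haveI : IsClosedImmersion i.left := (IsClosedImmersion.iff_isFinite_and_mono i.left).mpr ⟨‹_›, ‹_›⟩
  let j : H.left ⟶ Spec (CommRingCat.of B) := i.left ≫ θ.hom.left
  haveI : IsClosedImmersion j := inferInstanceAs (IsClosedImmersion (i.left ≫ θ.hom.left))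
  obtain ⟨I, e, hj⟩ := IsClosedImmersion.Spec_iff.mp ‹IsClosedImmersion j›
  refine ⟨I, ?_, ?_⟩
  · have h1 : H.hom = j ≫ Spec.map (CommRingCat.ofHom (algebraMap K B)) := by
      have := Over.w (i ≫ θ.hom)
      rw [← this]
      rfl
    rw [hj, Category.assoc, ← Spec.map_comp] at h1
    have h2 : IsFinite (e.hom ≫ Spec.map (CommRingCat.ofHom (algebraMap K B) ≫
        CommRingCat.ofHom (Ideal.Quotient.mk I))) := by rw [← h1]; infer_instance
    have h3 : IsFinite (Spec.map (CommRingCat.ofHom (algebraMap K B) ≫
        CommRingCat.ofHom (Ideal.Quotient.mk I))) :=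
      (MorphismProperty.cancel_left_of_respectsIso @IsFinite e.hom _).mp h2
    rw [IsFinite.SpecMap_iff] at h3
    exact RingHom.finite_algebraMap.mp h3
  · intro X x
    rw [← factor_iff j I e hj (co (x ≫ θ.hom)), ← left_eq]
    constructor
    · rintro ⟨y, rfl⟩
      exact ⟨y.left, rfl⟩
    · rintro ⟨y', hy'⟩
      have h1 : y' ≫ i.left = x.left := by
        rw [← cancel_mono θ.hom.left]
        exact hy'
      refine ⟨Over.homMk y' ?_, ?_⟩
      · rw [← hw, ← Category.assoc, h1]
        exact Over.w x
      · apply Over.OverMorphism.ext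
        exact h1

end closedSub

end Groth.Agent.H9.GAQ
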