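import Mathlib

/-! Helper9: IsMonHom from points; additive / multiplicative polynomials from roots in towers; faithfully flat T ↦ f(T) (for S15180). -/

set_option linter.style.haveILetI false
set_option linter.unusedSectionVars false

namespace Groth.Agent.H9.GAQ

universe u

open CategoryTheory MonoidalCategory CartesianMonoidalCategory MonObj GrpObj

section monhom

variable {C : Type*} [Category C] [CartesianMonoidalCategory C] {G H : C} [GrpObj G] [GrpObj H]

theorem isMonHom_of_points (φ : G ⟶ H)
    (h : ∀ (X : C) (x y : X ⟶ G), (x * y) ≫ φ = (x ≫ φ) * (y ≫ φ)) : IsMonHom φ where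
  one_hom := by
    have h1 := h (𝟙_ C) 1 1
    rw [show (1 : 𝟙_ C ⟶ G) * 1 = 1 from _root_.mul_one _] at h1
    have h2 : (1 : 𝟙_ C ⟶ G) ≫ φ = 1 := by
      have := congrArg (fun z => ((1 : 𝟙_ C ⟶ G) ≫ φ)⁻¹ * z) h1
      simpa using this.symm
    have h3 : (1 : 𝟙_ C ⟶ G) = η[G] := by
      rw [Hom.one_def]
      simp
    have h4 : (1 : 𝟙_ C ⟶ H) = η[H] := by
      rw [Hom.one_def]
      simp
    rw [← h3, h2, h4]
  mul_hom := by
    have h1 := h (G ⊗ G) (fst G G) (snd G G)
    rw [Hom.mul_def, Hom.mul_def, lift_fst_snd, Category.id_comp, lift_fst_comp_snd_comp] at h1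
    exact h1

theorem comp_mul_of_isMonHom (φ : G ⟶ H) [IsMonHom φ] {X : C} (x y : X ⟶ G) :
    (x * y) ≫ φ = (x ≫ φ) * (y ≫ φ) := by
  rw [Hom.mul_def, Hom.mul_def, Category.assoc, IsMonHom.mul_hom, ← Category.assoc]
  congr 1
  ext <;> simp

end monhom

section algebra

open Polynomial

theorem hasseDeriv_map' {R S : Type*} [Semiring R] [Semiring S] (φ : R →+* S) (k : ℕ) (p : R[X]) :
    hasseDeriv k (p.map φ) = (hasseDeriv k p).map φ := by
  ext n
  simp [hasseDeriv_coeff, coeff_map]

theorem one_le_natDegree_of_monic_of_coeff_zero {K : Type*} [Field K] (f : K[X]) (hf : f.Monic)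
    (h0 : f.coeff 0 = 0) : 1 ≤ f.natDegree := by
  by_contra hn
  have hn0 : f.natDegree = 0 := by omega
  have : f = 1 := by
    have := (Polynomial.Monic.natDegree_eq_zero hf).mp hn0
    exact this
  rw [this] at h0
  simp at h0

theorem eval₂_add_of_root_sum {K : Type u} [Field K] (f : K[X]) (hf : f.Monic) (h0 : f.coeff 0 = 0)
    (h : f.eval₂ ((AdjoinRoot.of (f.map (AdjoinRoot.of f))).comp (AdjoinRoot.of f))
      (AdjoinRoot.of (f.map (AdjoinRoot.of f)) (AdjoinRoot.root f) +
        AdjoinRoot.root (f.map (AdjoinRoot.of f))) = 0)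
    {B : Type*} [CommRing B] (φ : K →+* B) (u v : B) :
    f.eval₂ φ (u + v) = f.eval₂ φ u + f.eval₂ φ v := by
  set i1 := AdjoinRoot.of f with hi1
  set a := AdjoinRoot.root f with ha
  set F := f.map i1 with hF
  set i2 := AdjoinRoot.of F with hi2
  set b := AdjoinRoot.root F with hb
  have hn : 1 ≤ f.natDegree := one_le_natDegree_of_monic_of_coeff_zero f hf h0
  have hFm : F.Monic := hf.map i1
  -- Step 1
  have h1 : f.eval₂ (i2.comp i1) (i2 a + b) = eval₂ i2 b (taylor a F) := by
    have hmm : F.map i2 = f.map (i2.comp i1) := Polynomial.map_map i1 i2 f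
    rw [← Polynomial.eval_map i2 b, map_taylor, taylor_eval, hmm, Polynomial.eval_map, add_comm]
  -- Step 2
  have h2 : eval₂ i2 b (taylor a F) = AdjoinRoot.mk F (taylor a F) := by
    have := AdjoinRoot.aeval_eq (f := F) (taylor a F)
    rw [← this, aeval_def, AdjoinRoot.algebraMap_eq]
  -- Step 3
  have h3 : taylor a F = F := by
    have hd : F ∣ taylor a F := by
      rw [← AdjoinRoot.mk_eq_zero, ← h2, ← h1]
      exact h
    exact eq_of_monic_of_dvd_of_natDegree_le hFm
      (by rw [Monic, leadingCoeff_taylor]; exact hFm) hd (by rw [natDegree_taylor])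
  -- Step 4
  have h4 : ∀ j, 1 ≤ j → hasseDeriv j f = C (f.coeff j) := by
    intro j hj
    have hc := congrArg (fun p => p.coeff j) h3
    simp only [taylor_coeff] at hc
    rw [hF, hasseDeriv_map', Polynomial.eval_map, coeff_map] at hc
    have e1 : eval₂ i1 a (hasseDeriv j f) = AdjoinRoot.mk f (hasseDeriv j f) := by
      have := AdjoinRoot.aeval_eq (f := f) (hasseDeriv j f)
      rw [← this, aeval_def, AdjoinRoot.algebraMap_eq]
    have e2 : i1 (f.coeff j) = AdjoinRoot.mk f (C (f.coeff j)) := (AdjoinRoot.mk_C _).symm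
    rw [e1, e2, ← sub_eq_zero, ← map_sub, AdjoinRoot.mk_eq_zero] at hc
    have hdeg : (hasseDeriv j f - C (f.coeff j)).natDegree < f.natDegree := by
      refine lt_of_le_of_lt (natDegree_sub_le _ _) ?_
      rw [natDegree_C, max_lt_iff]
      refine ⟨lt_of_le_of_lt (natDegree_hasseDeriv_le f j) (by omega), by omega⟩
    exact sub_eq_zero.mp (eq_zero_of_dvd_of_natDegree_lt hc hdeg)
  -- Step 5
  set g := f.map φ with hg
  have h5 : taylor u g = C (g.eval u) + g := by
    ext j
    rw [taylor_coeff, coeff_add]
    rcases Nat.eq_zero_or_pos j with rfl | hj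
    · rw [hasseDeriv_zero', coeff_C_zero, hg, coeff_map, h0, map_zero, add_zero]
    · rw [hg, hasseDeriv_map', h4 j hj, map_C, eval_C, coeff_C, if_neg (by omega), zero_add,
        coeff_map]
  have h6 := congrArg (fun p => p.eval v) h5
  simp only [taylor_eval, eval_add, eval_C] at h6
  rw [← Polynomial.eval_map, ← Polynomial.eval_map, ← Polynomial.eval_map, ← hg, add_comm u v]
  exact h6

theorem eq_X_pow_sub_one_of_root_mul {K : Type u} [Field K] (f : K[X]) (hf : f.Monic)
    (h0 : f.coeff 0 ≠ 0) (hn : 1 ≤ f.natDegree)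
    (h : f.eval₂ ((AdjoinRoot.of (f.map (AdjoinRoot.of f))).comp (AdjoinRoot.of f))
      (AdjoinRoot.of (f.map (AdjoinRoot.of f)) (AdjoinRoot.root f) *
        AdjoinRoot.root (f.map (AdjoinRoot.of f))) = 0) :
    f = X ^ f.natDegree - 1 := by
  set i1 := AdjoinRoot.of f with hi1
  set a := AdjoinRoot.root f with ha
  set F := f.map i1 with hF
  set i2 := AdjoinRoot.of F with hi2
  set b := AdjoinRoot.root F with hb
  set n := f.natDegree with hnn
  have hFm : F.Monic := hf.map i1
  haveI : Nontrivial (AdjoinRoot f) := AdjoinRoot.nontrivial f (by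
    intro hd0
    have : f.natDegree = 0 := natDegree_eq_zero_iff_degree_le_zero.mpr hd0.le
    omega)
  have hFn : F.natDegree = n := hf.natDegree_map i1
  set P := F.comp (C a * X) with hP
  have h1 : f.eval₂ (i2.comp i1) (i2 a * b) = eval₂ i2 b P := by
    have hmm : F.map i2 = f.map (i2.comp i1) := Polynomial.map_map i1 i2 f
    rw [← Polynomial.eval_map i2 b, hP, Polynomial.map_comp, eval_comp, hmm, Polynomial.eval_map]
    simp
  have h2 : eval₂ i2 b P = AdjoinRoot.mk F P := by
    have := AdjoinRoot.aeval_eq (f := F) P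
    rw [← this, aeval_def, AdjoinRoot.algebraMap_eq]
  have hd : F ∣ P := by
    rw [← AdjoinRoot.mk_eq_zero, ← h2, ← h1]
    exact h
  have hdeg : P.natDegree ≤ F.natDegree := by
    refine le_trans natDegree_comp_le ?_
    have : (C a * X).natDegree ≤ 1 := (natDegree_C_mul_le a X).trans natDegree_X_le
    calc F.natDegree * (C a * X).natDegree ≤ F.natDegree * 1 := Nat.mul_le_mul_left _ this
      _ = F.natDegree := _root_.mul_one _
  have h3 := eq_leadingCoeff_mul_of_monic_of_dvd_of_natDegree_le hFm hd hdeg
  have hc : P.leadingCoeff = a ^ n := by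
    have := congrArg (fun p => p.coeff n) h3
    simp only [coeff_C_mul] at this
    rw [hP, comp_C_mul_X_coeff, ← hFn, hFm.coeff_natDegree, _root_.one_mul, _root_.mul_one] at this
    rw [← hFn]
    exact this.symm
  rw [hc] at h3
  have h4 : a ^ n = 1 := by
    have := congrArg (fun p => p.coeff 0) h3
    simp only [coeff_C_mul] at this
    rw [hP, comp_C_mul_X_coeff, pow_zero, _root_.mul_one, hF, coeff_map] at this
    have hu : i1 (f.coeff 0) * i1 ((f.coeff 0)⁻¹) = 1 := by
      rw [← map_mul, mul_inv_cancel₀ h0, map_one]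
    calc a ^ n = a ^ n * (i1 (f.coeff 0) * i1 ((f.coeff 0)⁻¹)) := by rw [hu, _root_.mul_one]
      _ = (a ^ n * i1 (f.coeff 0)) * i1 ((f.coeff 0)⁻¹) := by ring
      _ = i1 (f.coeff 0) * i1 ((f.coeff 0)⁻¹) := by rw [← this]
      _ = 1 := hu
  have h5 : f ∣ X ^ n - 1 := by
    rw [← AdjoinRoot.mk_eq_zero, map_sub, map_pow, AdjoinRoot.mk_X, map_one, h4, sub_self]
  have hm : (X ^ n - 1 : K[X]).Monic := by
    have := monic_X_pow_sub_C (1 : K) (by omega : n ≠ 0)
    simpa using this
  have hd2 : (X ^ n - 1 : K[X]).natDegree ≤ f.natDegree := by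
    have := natDegree_X_pow_sub_C (R := K) (n := n) (r := 1)
    simp only [map_one] at this
    rw [this]
  exact (eq_of_monic_of_dvd_of_natDegree_le hf hm h5 hd2).symm

/-- an injective integral ring hom between domains, with Dedekind source, is faithfully flat -/
theorem faithfullyFlat_of_injective_of_isIntegral {R S : Type*} [CommRing R] [CommRing S]
    [IsDedekindDomain R] [IsDomain S] (ψ : R →+* S) (hinj : Function.Injective ψ)
    (hint : ψ.IsIntegral) : ψ.FaithfullyFlat := by
  rw [RingHom.FaithfullyFlat.iff_flat_and_comap_surjective]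
  refine ⟨?_, hint.comap_surjective hinj⟩
  letI : Algebra R S := ψ.toAlgebra
  haveI : Module.IsTorsionFree R S := by
    apply Module.IsTorsionFree.of_smul_eq_zero
    intro r m h
    rw [Algebra.smul_def, mul_eq_zero] at h
    rcases h with h | h
    · left
      exact hinj (by rw [map_zero]; exact h)
    · right
      exact h
  exact (inferInstance : Module.Flat R S)

theorem compRingHom_injective {K : Type*} [Field K] (f : K[X]) (hn : 1 ≤ f.natDegree) :
    Function.Injective (compRingHom f) := by
  rw [injective_iff_map_eq_zero]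
  intro p hp
  rw [coe_compRingHom_apply, comp_eq_zero_iff] at hp
  rcases hp with hp | ⟨_, hp⟩
  · exact hp
  · exfalso
    rw [hp, natDegree_C] at hn
    omega

theorem compRingHom_isIntegral {K : Type*} [Field K] (f : K[X]) (hf : f.Monic)
    (hn : 1 ≤ f.natDegree) : (compRingHom f).IsIntegral := by
  have hC : ∀ c : K, (compRingHom f).IsIntegralElem (C c) := by
    intro c
    have : C c = compRingHom f (C c) := by simp [coe_compRingHom_apply]
    rw [this]
    exact (compRingHom f).isIntegralElem_map
  have hX : (compRingHom f).IsIntegralElem X := by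
    refine ⟨f.map C - C X, ?_, ?_⟩
    · apply Monic.sub_of_left (hf.map C)
      rw [degree_C (X_ne_zero), degree_eq_natDegree (hf.map C).ne_zero, natDegree_map_eq_of_injective
        (C_injective) f]
      exact_mod_cast hn
    · rw [eval₂_sub, eval₂_C, eval₂_map, coe_compRingHom_apply, X_comp]
      have : (compRingHom f).comp C = C := by
        ext c
        simp
      rw [this]
      simp
  intro p
  induction p using Polynomial.induction_on' with
  | add p q hp hq => exact RingHom.IsIntegralElem.add _ hp hq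
  | monomial n c =>
    rw [← C_mul_X_pow_eq_monomial]
    exact RingHom.IsIntegralElem.mul _ (hC c) (by
      induction n with
      | zero => simpa using hC 1
      | succ n ih => rw [pow_succ]; exact RingHom.IsIntegralElem.mul _ ih hX)

theorem compRingHom_faithfullyFlat {K : Type*} [Field K] (f : K[X]) (hf : f.Monic)
    (hn : 1 ≤ f.natDegree) : (compRingHom f).FaithfullyFlat :=
  faithfullyFlat_of_injective_of_isIntegral _ (compRingHom_injective f hn)
    (compRingHom_isIntegral f hf hn)

end algebra

end Groth.Agent.H9.GAQ
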