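import Mathlib
import Groth.Prelude.Def_Red2
import Groth.Agent.H4.GaGm
import Groth.Agent.Lib.Helper9.Misc.GAQ1
import Groth.Agent.Lib.Helper9.Misc.GAQ2
import Groth.Agent.Lib.Helper9.Misc.GAQ3
import Groth.Agent.Lib.Helper9.Misc.GAQ4
import Groth.Agent.Lib.Helper9.Misc.GAQ5


/-! Helper9: finite subgroups of Ga over a field are kernels of faithfully flat endomorphisms (Ga case of S15180). -/
set_option linter.style.haveILetI false
set_option linter.unusedSectionVars false

namespace Groth.Agent.H9.GAQ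

universe u

open CategoryTheory MonoidalCategory CartesianMonoidalCategory MonObj GrpObj AlgebraicGeometry Limits
open Groth.Agent.H4.GaGm Polynomial

section testObjects

variable {K : Type u} [Field K] (R : Type u) [CommRing R] [Algebra K R]

/-- the global section of `Spec R` attached to `r : R` -/
noncomputable def sec (r : R) : Γ((AB (K := K) R).left, ⊤) :=
  (Scheme.ΓSpecIso (CommRingCat.of R)).inv.hom r

theorem sec_injective : Function.Injective (sec (K := K) R) := by
  intro a b h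
  have := congrArg (Scheme.ΓSpecIso (CommRingCat.of R)).hom.hom h
  simpa [sec] using this

theorem sec_zero : sec (K := K) R 0 = 0 := map_zero _

theorem sec_add (a b : R) : sec (K := K) R (a + b) = sec R a + sec R b := map_add _ _ _

theorem sec_mul (a b : R) : sec (K := K) R (a * b) = sec R a * sec R b := map_mul _ _ _

theorem sec_one : sec (K := K) R 1 = 1 := map_one _

theorem co_id : co (𝟙 (AB (K := K) R)) = (Scheme.ΓSpecIso (CommRingCat.of R)).inv.hom := by
  unfold co
  have : (𝟙 (AB (K := K) R) : AB (K := K) R ⟶ AB (K := K) R).left = 𝟙 _ := rfl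
  rw [this, Scheme.Hom.id_appTop]
  rfl

theorem ρ_AB : ρ (AB (K := K) R) =
    ((Scheme.ΓSpecIso (CommRingCat.of R)).inv.hom).comp (algebraMap K R) := by
  rw [← co_algebraMap (𝟙 (AB (K := K) R)), co_id]

theorem evA_sec (r : R) (f : K[X]) :
    evA (sec (K := K) R r) f = sec R (f.eval₂ (algebraMap K R) r) := by
  rw [evA_apply, ρ_AB, sec, sec, Polynomial.hom_eval₂]

end testObjects

section GaMain

variable {K : Type u} [Field K]

theorem one_comp_of_isMonHom {C : Type*} [Category C] [CartesianMonoidalCategory C] {G H : C}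
    [GrpObj G] [GrpObj H] (φ : G ⟶ H) [IsMonHom φ] {X : C} : (1 : X ⟶ G) ≫ φ = 1 := by
  rw [Hom.one_def, Hom.one_def, Category.assoc, IsMonHom.one_hom]

theorem exists_monic_of_finite_mono (H : Over (Spec (CommRingCat.of K)))
    (i : H ⟶ Red.Ga (Spec (CommRingCat.of K))) [Mono i] [IsFinite H.hom] :
    ∃ f : K[X], f.Monic ∧ ∀ (X : Over (Spec (CommRingCat.of K)))
      (x : X ⟶ Red.Ga (Spec (CommRingCat.of K))),
        (∃ y : X ⟶ H, y ≫ i = x) ↔ evA (Red.gaFn x) f = 0 := by
  obtain ⟨I, hfin, hI⟩ := exists_ideal_of_finite_mono (Red.Ga (Spec (CommRingCat.of K))) θ H i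
  have hfac : ∀ (X : Over (Spec (CommRingCat.of K))) (x : X ⟶ Red.Ga (Spec (CommRingCat.of K))),
      (∃ y : X ⟶ H, y ≫ i = x) ↔ I ≤ RingHom.ker (evA (Red.gaFn x)) := by
    intro X x
    rw [hI, ← co_comp_θhom]
    rfl
  have hIne : I ≠ ⊥ := by
    rintro rfl
    have e : (K[X] ⧸ (⊥ : Ideal K[X])) ≃ₗ[K] K[X] := (AlgEquiv.quotientBot K K[X]).toLinearEquiv
    exact Polynomial.not_finite (Module.Finite.equiv e)
  obtain ⟨g, hg⟩ : ∃ g, I = Ideal.span {g} := (IsPrincipalIdealRing.principal I).principal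
  have hg0 : g ≠ 0 := by
    rintro rfl
    apply hIne
    rw [hg]
    simp
  refine ⟨g * C (g.leadingCoeff⁻¹), monic_mul_leadingCoeff_inv hg0, ?_⟩
  have hIf : I = Ideal.span {g * C (g.leadingCoeff⁻¹)} := by
    rw [hg]
    exact (Ideal.span_singleton_mul_right_unit (isUnit_C.mpr
      (IsUnit.mk0 _ (inv_ne_zero (leadingCoeff_ne_zero.mpr hg0)))) g).symm
  intro X x
  rw [hfac, hIf, Ideal.span_singleton_le_iff_mem, RingHom.mem_ker]

/-- the endomorphism of `𝔾_a` given by a polynomial -/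
noncomputable def polyEnd (f : K[X]) :
    Red.Ga (Spec (CommRingCat.of K)) ⟶ Red.Ga (Spec (CommRingCat.of K)) :=
  gaPt (evA tGa f)

theorem gaFn_comp_polyEnd {X : Over (Spec (CommRingCat.of K))} (f : K[X])
    (x : X ⟶ Red.Ga (Spec (CommRingCat.of K))) :
    Red.gaFn (x ≫ polyEnd f) = evA (Red.gaFn x) f := by
  rw [gaFn_comp, polyEnd, gaFn_gaPt]
  have := congrArg (fun ψ => ψ f) (evA_comp x tGa)
  simp only [RingHom.comp_apply] at this
  rw [this, ← gaFn_eq_app]

theorem polyEnd_left (f : K[X]) :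
    (polyEnd f).left ≫ (θ (K := K)).hom.left =
      (θ (K := K)).hom.left ≫ Spec.map (CommRingCat.ofHom (compRingHom f)) := by
  have h1 : (polyEnd f).left ≫ (θ (K := K)).hom.left = (polyEnd f ≫ (θ (K := K)).hom).left := rfl
  rw [h1, left_eq (polyEnd f ≫ (θ (K := K)).hom), left_eq ((θ (K := K)).hom), Category.assoc,
    ← Spec.map_comp]
  congr 2
  have h2 : co (polyEnd f ≫ (θ (K := K)).hom) = evA (Red.gaFn (polyEnd f)) := co_comp_θhom _
  have h3 : co ((θ (K := K)).hom) = evA tGa := co_ptB _ (evA_algebraMap _)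
  rw [h2, h3]
  have h4 : Red.gaFn (polyEnd (K := K) f) = evA tGa f := gaFn_gaPt _
  rw [h4]
  change _ = CommRingCat.ofHom ((evA tGa).comp (compRingHom f))
  congr 1
  apply Polynomial.ringHom_ext
  · intro c
    rw [RingHom.comp_apply, coe_compRingHom_apply, C_comp, evA_C, evA_C]
  · rw [RingHom.comp_apply, coe_compRingHom_apply, X_comp, evA_X]

set_option maxHeartbeats 1600000 in
theorem main_Ga (H : Over (Spec (CommRingCat.of K))) [GrpObj H]
    (i : H ⟶ Red.Ga (Spec (CommRingCat.of K))) [IsMonHom i] [Mono i] [IsFinite H.hom] :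
    ∃ φ : Red.Ga (Spec (CommRingCat.of K)) ⟶ Red.Ga (Spec (CommRingCat.of K)),
      IsMonHom φ ∧ AlgGrp.IsKernel i φ ∧ Flat φ.left ∧ Surjective φ.left := by
  obtain ⟨f, hfm, hfac⟩ := exists_monic_of_finite_mono H i
  -- the unit section lies in `H`
  have h0 : f.coeff 0 = 0 := by
    have h1 : ∃ y : AB (K := K) K ⟶ H, y ≫ i = 1 := ⟨1, one_comp_of_isMonHom i⟩
    rw [hfac, gaFn_one] at h1
    rw [← sec_zero (K := K) K, evA_sec, eval₂_at_zero] at h1
    have h3 := sec_injective K h1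
    simpa using h3
  have hn : 1 ≤ f.natDegree := one_le_natDegree_of_monic_of_coeff_zero f hfm h0
  -- additivity
  have hadd : ∀ {B : Type u} [CommRing B] (ψ : K →+* B) (a b : B),
      f.eval₂ ψ (a + b) = f.eval₂ ψ a + f.eval₂ ψ b := by
    intro B _ ψ a b
    refine eval₂_add_of_root_sum f hfm h0 ?_ ψ a b
    set i1 := AdjoinRoot.of f with hi1
    set F := f.map i1 with hF
    set i2 := AdjoinRoot.of F with hi2
    letI : Algebra K (AdjoinRoot F) := (i2.comp i1).toAlgebra
    let r1 : AdjoinRoot F := i2 (AdjoinRoot.root f)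
    let r2 : AdjoinRoot F := AdjoinRoot.root F
    have e1 : f.eval₂ (algebraMap K (AdjoinRoot F)) r1 = 0 := by
      change f.eval₂ (i2.comp i1) (i2 (AdjoinRoot.root f)) = 0
      rw [← Polynomial.hom_eval₂, AdjoinRoot.eval₂_root, map_zero]
    have e2 : f.eval₂ (algebraMap K (AdjoinRoot F)) r2 = 0 := by
      change f.eval₂ (i2.comp i1) (AdjoinRoot.root F) = 0
      rw [← Polynomial.eval₂_map, AdjoinRoot.eval₂_root]
    let x1 : AB (K := K) (AdjoinRoot F) ⟶ Red.Ga (Spec (CommRingCat.of K)) := gaPt (sec _ r1)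
    let x2 : AB (K := K) (AdjoinRoot F) ⟶ Red.Ga (Spec (CommRingCat.of K)) := gaPt (sec _ r2)
    obtain ⟨y1, hy1⟩ : ∃ y : AB (K := K) (AdjoinRoot F) ⟶ H, y ≫ i = x1 := by
      rw [hfac, gaFn_gaPt, evA_sec, e1]
      exact sec_zero _
    obtain ⟨y2, hy2⟩ : ∃ y : AB (K := K) (AdjoinRoot F) ⟶ H, y ≫ i = x2 := by
      rw [hfac, gaFn_gaPt, evA_sec, e2]
      exact sec_zero _
    have h3 : ∃ y : AB (K := K) (AdjoinRoot F) ⟶ H, y ≫ i = x1 * x2 :=
      ⟨y1 * y2, by rw [comp_mul_of_isMonHom i y1 y2, hy1, hy2]⟩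
    rw [hfac, gaFn_mul, gaFn_gaPt, gaFn_gaPt] at h3
    rw [← sec_add, evA_sec, ← sec_zero (K := K) (AdjoinRoot F)] at h3
    exact sec_injective _ h3
  -- the endomorphism
  have hφ : ∀ (X : Over (Spec (CommRingCat.of K)))
      (x : X ⟶ Red.Ga (Spec (CommRingCat.of K))), Red.gaFn (x ≫ polyEnd f) = evA (Red.gaFn x) f :=
    fun X x => gaFn_comp_polyEnd f x
  refine ⟨polyEnd f, ?_, ?_, ?_⟩
  · apply isMonHom_of_points
    intro X x y
    apply gaFn_injective
    rw [hφ, gaFn_mul, gaFn_mul, hφ, hφ, evA_apply, evA_apply, evA_apply, hadd]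
  · -- kernel
    have hw : i ≫ polyEnd f = toUnit H ≫ η[Red.Ga (Spec (CommRingCat.of K))] := by
      apply gaFn_injective
      rw [hφ, ← Hom.one_def, gaFn_one, ← hfac]
      exact ⟨𝟙 H, Category.id_comp _⟩
    refine ⟨⟨hw⟩, ⟨PullbackCone.IsLimit.mk _ (fun s => ?_) (fun s => ?_) (fun s => ?_) (fun s m h1 _ => ?_)⟩⟩
    · have hs : ∃ y : s.pt ⟶ H, y ≫ i = s.fst := by
        rw [hfac, ← hφ, s.condition]
        have : s.snd = toUnit s.pt := toUnit_unique _ _
        rw [this, ← Hom.one_def, gaFn_one]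
      exact hs.choose
    · exact (Exists.choose_spec (p := fun y : s.pt ⟶ H => y ≫ i = s.fst) _)
    · exact toUnit_unique _ _
    · rw [← cancel_mono i, h1]
      exact (Exists.choose_spec (p := fun y : s.pt ⟶ H => y ≫ i = s.fst) _).symm
  · have hff := compRingHom_faithfullyFlat f hfm hn
    have h5 := (flat_and_surjective_SpecMap_iff (CommRingCat.ofHom (compRingHom f))).mpr hff
    haveI : IsIso (θ (K := K)).hom.left :=
      inferInstanceAs (IsIso ((Over.forget _).mapIso (θ (K := K))).hom)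
    have h6 : (polyEnd f).left = (θ (K := K)).hom.left ≫
        Spec.map (CommRingCat.ofHom (compRingHom f)) ≫ inv (θ (K := K)).hom.left := by
      rw [← Category.assoc, ← polyEnd_left, Category.assoc, IsIso.hom_inv_id, Category.comp_id]
    rw [h6]
    haveI := h5.1
    haveI := h5.2
    exact ⟨inferInstance, inferInstance⟩

end GaMain

end Groth.Agent.H9.GAQ
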