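import Mathlib
import Groth.Prelude.Def_Red2
import Groth.Agent.H4.GaGm
import Groth.Agent.Lib.Helper9.Misc.GAQ1
import Groth.Agent.Lib.Helper9.Misc.GAQ3
import Groth.Agent.Lib.Helper9.Misc.GAQ6

/-! Helper9: homs Ga → Gm over a reduced base are trivial (S13371). -/

set_option linter.style.haveILetI false
set_option linter.unusedSectionVars false

namespace Groth.Agent.H9.GAM

universe u

open CategoryTheory MonoidalCategory CartesianMonoidalCategory MonObj GrpObj AlgebraicGeometry Limits
open Groth.Agent.H4.GaGm Groth.Agent.H9.GAQ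

section reduced

/-- the total space of `𝔾_a` over a reduced base is reduced -/
theorem isReduced_Ga (S : Scheme.{u}) [IsReduced S] : IsReduced (Red.Ga S).left := by
  let e := SymmetricAlgebra.equivMvPolynomial (Module.Basis.singleton PUnit.{u+1} (ULift.{u} ℤ))
  let e₃ : Spec (CommRingCat.of (SymmetricAlgebra (ULift.{u} ℤ) (ULift.{u} ℤ))) ≅
      Spec (CommRingCat.of (MvPolynomial PUnit.{u+1} (ULift.{u} ℤ))) :=
    Scheme.Spec.mapIso (e.toRingEquiv.toCommRingCatIso).symm.op
  have h0 : IsPullback (pullback.snd Red.GaZ.hom (fZ S)) (pullback.fst Red.GaZ.hom (fZ S))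
      (fZ S) Red.GaZ.hom := (IsPullback.of_hasPullback _ _).flip
  have h1 : IsPullback (pullback.snd Red.GaZ.hom (fZ S)) (pullback.fst Red.GaZ.hom (fZ S) ≫ e₃.hom)
      (terminal.from S) (terminal.from _) :=
    IsPullback.of_iso h0 (Iso.refl _) (Iso.refl _) e₃
      (specULiftZIsTerminal.uniqueUpToIso terminalIsTerminal)
      (by simp) (by simp) (terminal.hom_ext _ _) (terminal.hom_ext _ _)
  have h2 : IsReduced 𝔸(PUnit.{u+1}; S) := inferInstance
  exact @isReduced_of_isOpenImmersion _ _ h1.isoPullback.hom _ h2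

end reduced

section core

open Polynomial

variable {S : Scheme.{u}}

/-- sections of `Spec B` -/
noncomputable def sc (B : Type u) [CommRing B] : B ≃+* Γ(Spec (CommRingCat.of B), ⊤) :=
  (Scheme.ΓSpecIso (CommRingCat.of B)).symm.commRingCatIsoToRingEquiv

theorem sc_map {B B' : Type u} [CommRing B] [CommRing B'] (ψ : B →+* B') (b : B) :
    (Spec.map (CommRingCat.ofHom ψ)).appTop.hom (sc B b) = sc B' (ψ b) := by
  have h := Scheme.ΓSpecIso_inv_naturality (CommRingCat.ofHom ψ)
  exact (congrArg (fun f => f.hom b) h).symm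

/-- units of a polynomial ring over a reduced ring take the same value everywhere -/
theorem eval_unit_const {B : Type u} [CommRing B] [_root_.IsReduced B] (P : B[X]) (hP : IsUnit P)
    (c d : B) : P.eval c = P.eval d := by
  have h := (Polynomial.isUnit_iff_coeff_isUnit_isNilpotent.mp hP).2
  have hC : P = C (P.coeff 0) := by
    ext i
    rcases Nat.eq_zero_or_pos i with rfl | hi
    · simp
    · rw [coeff_C, if_neg hi.ne']
      exact (h i hi.ne').eq_zero
  rw [hC, eval_C, eval_C]

theorem core {B : Type u} [CommRing B] [_root_.IsReduced B] (g : Spec (CommRingCat.of B) ⟶ S)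
    (φ : Red.Ga S ⟶ Red.Gm S) (hφ : ∀ (X : Over S), (1 : X ⟶ Red.Ga S) ≫ φ = 1)
    (x : Over.mk g ⟶ Red.Ga S) : x ≫ φ = 1 := by
  let X : Over S := Over.mk g
  let X' : Over S := Over.mk (Spec.map (CommRingCat.ofHom (C : B →+* B[X])) ≫ g)
  let a : B := (sc B).symm (Red.gaFn x)
  let y : X' ⟶ Red.Ga S := gaPt (sc B[X] (Polynomial.X * C a))
  let P : B[X] := (sc B[X]).symm (Red.gmFn (y ≫ φ))
  have hP : IsUnit P := (isUnit_gmFn (y ≫ φ)).map (sc B[X]).symm
  let s : B → (X ⟶ X') := fun c => Over.homMk (Spec.map (CommRingCat.ofHom (evalRingHom c))) (by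
    show Spec.map _ ≫ Spec.map _ ≫ g = g
    rw [← Category.assoc, ← Spec.map_comp, ← CommRingCat.ofHom_comp]
    have : (evalRingHom c).comp (C : B →+* B[X]) = RingHom.id B := by
      ext b; simp
    rw [this]
    simp)
  have hga : ∀ c : B, Red.gaFn (s c ≫ y) = sc B (c * a) := by
    intro c
    rw [gaFn_comp, gaFn_gaPt]
    show (Spec.map (CommRingCat.ofHom (evalRingHom c))).appTop.hom _ = _
    rw [sc_map]
    show sc B ((Polynomial.X * C a).eval c) = _
    rw [eval_mul, eval_X, eval_C]
  have hgm : ∀ c : B, Red.gmFn ((s c ≫ y) ≫ φ) = sc B (P.eval c) := by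
    intro c
    rw [Category.assoc, gmFn_comp]
    show (Spec.map (CommRingCat.ofHom (evalRingHom c))).appTop.hom _ = _
    have : Red.gmFn (y ≫ φ) = sc B[X] P := ((sc B[X]).apply_symm_apply _).symm
    rw [this, sc_map]
    rfl
  have h0 : s 0 ≫ y = 1 := by
    apply gaFn_injective
    rw [hga, gaFn_one]
    simp
  have h1 : s 1 ≫ y = x := by
    apply gaFn_injective
    rw [hga]
    simp [a]
  apply gmFn_injective
  rw [gmFn_one, ← h1, hgm, eval_unit_const P hP 1 0, ← hgm, h0, hφ, gmFn_one]

end core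

section final

theorem S13371_main (S : Scheme.{u}) [IsReduced S] (φ : Red.Ga S ⟶ Red.Gm S)
    [IsMonHom φ] : φ = 1 := by
  haveI := isReduced_Ga S
  have key : ∀ (R : CommRingCat.{u}) (f : Spec R ⟶ (Red.Ga S).left) [IsOpenImmersion f],
      f ≫ φ.left = f ≫ (1 : Red.Ga S ⟶ Red.Gm S).left := by
    intro R f _
    haveI : IsReduced (Spec R) := isReduced_of_isOpenImmersion f
    haveI : _root_.IsReduced R := (affine_isReduced_iff R).mp inferInstance
    let x : Over.mk (f ≫ (Red.Ga S).hom) ⟶ Red.Ga S := Over.homMk f rfl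
    have h := core (B := R) (f ≫ (Red.Ga S).hom) φ (fun X => one_comp_of_isMonHom φ) x
    have h2 : x ≫ (1 : Red.Ga S ⟶ Red.Gm S) = 1 := MonObj.comp_one x
    exact congrArg Over.Hom.left (h.trans h2.symm)
  apply Over.OverMorphism.ext
  refine Scheme.Cover.hom_ext (Red.Ga S).left.affineCover _ _ fun i => ?_
  exact @key _ ((Red.Ga S).left.affineCover.f i) ((Red.Ga S).left.affineCover.map_prop i)

end final

end Groth.Agent.H9.GAM
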