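import Mathlib
import Groth.Prelude.Def_Red2
import Groth.Agent.H4.GaGm
import Groth.Agent.Lib.Helper9.Misc.GAQ1
import Groth.Agent.Lib.Helper9.Misc.GAQ5
import Groth.Agent.Lib.Helper9.Misc.GAQ6

/-! Helper9: points of diagonalisable groups, killed groups (torus toolkit I). -/

set_option linter.style.haveILetI false
set_option linter.unusedSectionVars false

namespace Groth.Agent.H9.TRS

universe u

open CategoryTheory MonoidalCategory CartesianMonoidalCategory MonObj GrpObj AlgebraicGeometry Limits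
open Groth.Agent.H4.GaGm Groth.Agent.H9.GAQ

section monhom

variable {C : Type*} [Category C] [CartesianMonoidalCategory C] {G H : C} [GrpObj G] [GrpObj H]

theorem pow_comp_of_isMonHom (φ : G ⟶ H) [IsMonHom φ] {X : C} (x : X ⟶ G) (N : ℕ) :
    (x ^ N) ≫ φ = (x ≫ φ) ^ N := by
  induction N with
  | zero => rw [pow_zero, pow_zero, one_comp_of_isMonHom]
  | succ N ih => rw [pow_succ, pow_succ, comp_mul_of_isMonHom, ih]

end monhom

section adj

variable {S Z : Scheme.{u}} (f : S ⟶ Z) (H : Over Z) [GrpObj H] {X : Over S}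

theorem tr_one : tr f H (1 : X ⟶ Red.bc f H) = 1 := by
  have h := tr_mul f H (1 : X ⟶ Red.bc f H) 1
  rw [_root_.mul_one] at h
  exact (mul_eq_left (a := tr f H (1 : X ⟶ Red.bc f H))).mp h.symm

theorem tr_pow (x : X ⟶ Red.bc f H) (N : ℕ) : tr f H (x ^ N) = tr f H x ^ N := by
  induction N with
  | zero => rw [pow_zero, pow_zero, tr_one]
  | succ N ih => rw [pow_succ, pow_succ, tr_mul, ih]

/-- a group killed by `N` stays killed by `N` after base change -/
theorem bc_killed (N : ℕ) (hk : ∀ (Y : Over Z) (y : Y ⟶ H), y ^ N = 1) (x : X ⟶ Red.bc f H) :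
    x ^ N = 1 := by
  apply tr_injective f H
  rw [tr_pow, tr_one]
  exact hk _ _

end adj

section chars

variable {U : Scheme.{u}} {M : Type} [AddCommGroup M] {X : Over U}

/-- the value of the character `m` on a point of `D_U(M)` -/
noncomputable def chv (z : X ⟶ Red.DS U M) (m : M) : Γ(((Over.map (fZ U)).obj X).left, ⊤) :=
  ev (tr (fZ U) (Red.diag (ULift.{u} ℤ) M) z) (MonoidAlgebra.single (Multiplicative.ofAdd m) 1)

theorem chv_mul (z w : X ⟶ Red.DS U M) (m : M) : chv (z * w) m = chv z m * chv w m := by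
  unfold chv
  rw [tr_mul, ev_mul, MonoidAlgebra.comul_single, CommSemiring.comul_apply]
  exact ev₂_tmul _ _ _ _

theorem isUnit_chv (z : X ⟶ Red.DS U M) (m : M) : IsUnit (chv z m) := by
  unfold chv
  refine IsUnit.map _ ?_
  refine IsUnit.of_mul_eq_one (MonoidAlgebra.single (Multiplicative.ofAdd (-m)) 1) ?_
  rw [MonoidAlgebra.single_mul_single, MonoidAlgebra.one_def]
  congr 1
  · simp

theorem chv_one (m : M) : chv (1 : X ⟶ Red.DS U M) m = 1 := by
  have h := chv_mul (1 : X ⟶ Red.DS U M) 1 m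
  rw [show (1 : X ⟶ Red.DS U M) * 1 = 1 from _root_.mul_one (1 : X ⟶ Red.DS U M)] at h
  exact (isUnit_chv (1 : X ⟶ Red.DS U M) m).mul_right_injective (by simpa using h.symm)

theorem chv_pow (z : X ⟶ Red.DS U M) (m : M) (N : ℕ) : chv (z ^ N) m = chv z m ^ N := by
  induction N with
  | zero => rw [pow_zero, pow_zero, chv_one]
  | succ N ih => rw [pow_succ, pow_succ, chv_mul, ih]

theorem exists_chv (θ : Multiplicative M →* Γ(((Over.map (fZ U)).obj X).left, ⊤)) :
    ∃ z : X ⟶ Red.DS U M, ∀ m : M, chv z m = θ (Multiplicative.ofAdd m) := by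
  let f0 : ULift.{u} ℤ →+* Γ(((Over.map (fZ U)).obj X).left, ⊤) :=
    (Int.castRingHom _).comp (ULift.ringEquiv : ULift.{u} ℤ ≃+* ℤ).toRingHom
  let φ : MonoidAlgebra (ULift.{u} ℤ) (Multiplicative M) →+* Γ(((Over.map (fZ U)).obj X).left, ⊤) :=
    MonoidAlgebra.liftNCRingHom f0 θ (fun x y => Commute.all _ _)
  refine ⟨(Over.mapPullbackAdj (fZ U)).homEquiv X (Red.diag (ULift.{u} ℤ) M) (pt φ), fun m => ?_⟩
  unfold chv
  have : tr (fZ U) (Red.diag (ULift.{u} ℤ) M)
      ((Over.mapPullbackAdj (fZ U)).homEquiv X (Red.diag (ULift.{u} ℤ) M) (pt φ)) = pt φ := by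
    simp [tr]
  rw [this, ev_pt]
  show MonoidAlgebra.liftNCRingHom f0 θ _ (MonoidAlgebra.single (Multiplicative.ofAdd m) 1) = _
  rw [MonoidAlgebra.liftNCRingHom_single]
  simp [f0]

end chars

end Groth.Agent.H9.TRS
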