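import Mathlib
import Groth.Prelude.Def_Red2
import Groth.Agent.H4.GaGm
import Groth.Agent.Lib.Helper9.Misc.GAQ1
import Groth.Agent.Lib.Helper9.Misc.GAQ5
import Groth.Agent.Lib.Helper9.Misc.GAQ6
import Groth.Agent.Lib.Helper9.Misc.GAM1
import Groth.Agent.Lib.Helper9.Misc.TRS1

/-! Helper9: rank of a killed split torus is zero; trivial diagonalisable groups (torus toolkit II). -/

set_option linter.style.haveILetI false
set_option linter.unusedSectionVars false

namespace Groth.Agent.H9.TRS

universe u

open CategoryTheory MonoidalCategory CartesianMonoidalCategory MonObj GrpObj AlgebraicGeometry Limits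
open Groth.Agent.H4.GaGm Groth.Agent.H9.GAQ Groth.Agent.H9.GAM

section rank

open LaurentPolynomial

theorem rank_zero_of_killed (U : Scheme.{u}) [Nonempty U] (r N : ℕ) (hN : N ≠ 0)
    (hk : ∀ (X : Over U) (z : X ⟶ Red.DS U (Fin r → ℤ)), z ^ N = 1) : r = 0 := by
  by_contra hr
  obtain ⟨s⟩ := ‹Nonempty U›
  let κ := U.residueField s
  let B := LaurentPolynomial κ
  let X : Over U := Over.mk (Spec.map (CommRingCat.ofHom (algebraMap κ B)) ≫ U.fromSpecResidueField s)
  let t : Γ(X.left, ⊤) := sc B (T 1)
  have ht : IsUnit t := (isUnit_T (R := κ) 1).map (sc B)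
  let i0 : Fin r := ⟨0, Nat.pos_of_ne_zero hr⟩
  let θ : Multiplicative (Fin r → ℤ) →* Γ(X.left, ⊤) :=
    (Units.coeHom _).comp ((zpowersHom _ ht.unit).comp
      (AddMonoidHom.toMultiplicative (Pi.evalAddMonoidHom (fun _ : Fin r => ℤ) i0)))
  obtain ⟨z, hz⟩ := exists_chv (X := X) θ
  have h1 := congrArg (fun w => chv w (Pi.single i0 1)) (hk X z)
  simp only [chv_pow, chv_one, hz] at h1
  have h2 : θ (Multiplicative.ofAdd (Pi.single i0 1)) = t := by
    simp [θ]
  rw [h2] at h1
  have h3 : (T 1 : B) ^ N = 1 := by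
    apply (sc B).injective
    rw [map_pow, map_one]
    exact h1
  rw [T_pow, ← T_zero] at h3
  have h4 : ((N : ℤ) * 1) = 0 := by
    have := congrArg (fun f : B => f.coeff 0) h3
    simp only [T_apply] at this
    by_contra hne
    rw [if_neg hne] at this
    simp at this
  simp at h4
  exact hN h4

end rank

section trivial

variable {U : Scheme.{u}} {M : Type} [AddCommGroup M]

theorem isIso_DS_hom [Subsingleton M] : IsIso (Red.DS U M).hom := by
  have hbij : Function.Bijective
      (algebraMap (ULift.{u} ℤ) (MonoidAlgebra (ULift.{u} ℤ) (Multiplicative M))) := by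
    constructor
    · intro a b h
      have := congrArg (fun f => f.coeff 1) h
      simpa [MonoidAlgebra.coe_algebraMap] using this
    · intro f
      refine ⟨f.coeff 1, ?_⟩
      ext m
      rw [Subsingleton.elim m 1]
      simp [MonoidAlgebra.coe_algebraMap]
  let e := RingEquiv.ofBijective _ hbij
  have h1 : IsIso (CommRingCat.ofHom
      (algebraMap (ULift.{u} ℤ) (MonoidAlgebra (ULift.{u} ℤ) (Multiplicative M)))) :=
    e.toCommRingCatIso.isIso_hom
  have h2 : IsIso (Red.diag (ULift.{u} ℤ) M).hom := by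
    show IsIso (Spec.map (CommRingCat.ofHom
      (algebraMap (ULift.{u} ℤ) (MonoidAlgebra (ULift.{u} ℤ) (Multiplicative M)))))
    infer_instance
  show IsIso (pullback.snd (Red.diag (ULift.{u} ℤ) M).hom (fZ U))
  infer_instance

end trivial

end Groth.Agent.H9.TRS
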