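import Mathlib

/-! Helper9: cancellation for locally of finite presentation; diagonals and equalizers are lfp for lft targets. -/

set_option linter.style.haveILetI false
set_option linter.unusedSectionVars false

namespace Groth.Agent.H9.LFP

universe u

open CategoryTheory CategoryTheory.Limits AlgebraicGeometry

/-- If `f ≫ g` is locally of finite presentation and `g` is locally of finite type then `f` is
locally of finite presentation. -/
theorem lfp_of_comp {X Y Z : Scheme.{u}} (f : X ⟶ Y) (g : Y ⟶ Z)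
    [LocallyOfFinitePresentation (f ≫ g)] [LocallyOfFiniteType g] :
    LocallyOfFinitePresentation f := by
  rw [HasRingHomProperty.iff_exists_appLE (P := @LocallyOfFinitePresentation)
    ((RingHom.finitePresentation_stableUnderComposition.stableUnderCompositionWithLocalizationAway
      RingHom.finitePresentation_holdsForLocalizationAway).left)]
  intro x
  obtain ⟨_, ⟨W, hW, rfl⟩, hxW, -⟩ :=
    Z.isBasis_affineOpens.exists_subset_of_mem_open (Set.mem_univ (g (f x))) isOpen_univ
  obtain ⟨_, ⟨U, hU, rfl⟩, hxU, hUW : U ≤ g ⁻¹ᵁ W⟩ :=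
    Y.isBasis_affineOpens.exists_subset_of_mem_open hxW (g ⁻¹ᵁ W).isOpen
  obtain ⟨_, ⟨V, hV, rfl⟩, hxV, hVU : V ≤ f ⁻¹ᵁ U⟩ :=
    X.isBasis_affineOpens.exists_subset_of_mem_open hxU (f ⁻¹ᵁ U).isOpen
  refine ⟨⟨U, hU⟩, ⟨V, hV⟩, hxV, hVU, ?_⟩
  have hVW : V ≤ (f ≫ g) ⁻¹ᵁ W := fun y hy => hUW (hVU hy)
  have h1 : ((f ≫ g).appLE W V hVW).hom.FinitePresentation :=
    HasRingHomProperty.appLE (P := @LocallyOfFinitePresentation) (f ≫ g) inferInstance
      ⟨W, hW⟩ ⟨V, hV⟩ hVW
  have h2 : (g.appLE W U hUW).hom.FiniteType :=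
    HasRingHomProperty.appLE (P := @LocallyOfFiniteType) g inferInstance ⟨W, hW⟩ ⟨U, hU⟩ hUW
  have e : (f ≫ g).appLE W V hVW = g.appLE W U hUW ≫ f.appLE U V hVU :=
    (Scheme.Hom.appLE_comp_appLE _ _ _ _ _ _ _).symm
  rw [e] at h1
  exact RingHom.FinitePresentation.of_comp_finiteType _ h1 h2

instance lfp_diagonal {X Y : Scheme.{u}} (f : X ⟶ Y) [LocallyOfFiniteType f] :
    LocallyOfFinitePresentation (pullback.diagonal f) := by
  have : LocallyOfFinitePresentation (pullback.diagonal f ≫ pullback.fst f f) := by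
    rw [pullback.diagonal_fst]; infer_instance
  exact lfp_of_comp (pullback.diagonal f) (pullback.fst f f)

set_option backward.isDefEq.respectTransparency false in
theorem lfp_equalizer_ι_left {S : Scheme.{u}} {X Y : Over S} [LocallyOfFiniteType Y.hom]
    (f g : X ⟶ Y) : LocallyOfFinitePresentation (equalizer.ι f g).left := by
  refine MorphismProperty.of_isPullback
    ((Limits.isPullback_equalizer_prod f g).map (Over.forget _)).flip ?_
  rw [← MorphismProperty.cancel_right_of_respectsIso @LocallyOfFinitePresentation _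
    (Over.prodLeftIsoPullback Y Y).hom]
  convert! (inferInstance : LocallyOfFinitePresentation (pullback.diagonal Y.hom))
  ext1 <;> simp [← Over.comp_left]

end Groth.Agent.H9.LFP
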