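import Mathlib

/-! Helper9: base schemes over which every morphism is universally open (fields, local artinian rings). -/

set_option linter.style.haveILetI false
set_option linter.unusedSectionVars false

namespace Groth.Agent.H9.GSE

universe u

open CategoryTheory CategoryTheory.Limits AlgebraicGeometry MorphismProperty

/-- Base schemes over which every morphism is universally open (e.g. spectra of fields or of
local artinian rings). -/
class UOBase (S : Scheme.{u}) : Prop where
  uo : ∀ {X : Scheme.{u}} (f : X ⟶ S), UniversallyOpen f

instance (k : Type u) [Field k] : UOBase (Spec (CommRingCat.of k)) := ⟨fun _ => inferInstance⟩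

theorem universallyOpen_of_surjective_isClosedImmersion {X Y : Scheme.{u}} (f : X ⟶ Y)
    [IsClosedImmersion f] [Surjective f] : UniversallyOpen f := by
  refine ⟨universally_mk' _ _ fun {T} g _ => ?_⟩
  have h1 : IsClosedImmersion (pullback.fst g f) := inferInstance
  have h2 : Surjective (pullback.fst g f) := inferInstance
  show IsOpenMap (pullback.fst g f)
  intro U hU
  have hbij : Function.Bijective (pullback.fst g f) :=
    ⟨(pullback.fst g f).isClosedEmbedding.injective, (pullback.fst g f).surjective⟩
  have : (pullback.fst g f) '' U = ((pullback.fst g f) '' Uᶜ)ᶜ := by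
    rw [Set.image_compl_eq hbij, compl_compl]
  rw [this]
  exact ((pullback.fst g f).isClosedEmbedding.isClosedMap _ hU.isClosed_compl).isOpen_compl

theorem universallyOpen_of_comp_surjective {X' X Y : Scheme.{u}} (i : X' ⟶ X) (f : X ⟶ Y)
    [Surjective i] [UniversallyOpen (i ≫ f)] : UniversallyOpen f := by
  refine ⟨universally_mk' _ _ fun {T} g _ => ?_⟩
  show IsOpenMap (pullback.fst g f)
  intro U hU
  let j : pullback g (i ≫ f) ⟶ pullback g f :=
    pullback.map g (i ≫ f) g f (𝟙 T) i (𝟙 Y) (by simp) (by simp)
  have hj : Function.Surjective j := by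
    have hr := Scheme.Pullback.range_map g (i ≫ f) g f (𝟙 T) i (𝟙 Y) (by simp) (by simp)
    rw [← Set.range_eq_univ]
    show Set.range (pullback.map g (i ≫ f) g f (𝟙 T) i (𝟙 Y) (by simp) (by simp)) = _
    rw [hr]
    have : Set.range i = Set.univ := Set.range_eq_univ.mpr i.surjective
    rw [this]
    simp
  have hfst : j ≫ pullback.fst g f = pullback.fst g (i ≫ f) := by
    show pullback.map g (i ≫ f) g f (𝟙 T) i (𝟙 Y) _ _ ≫ pullback.fst g f = _
    rw [pullback.lift_fst, Category.comp_id]
  have h3 : UniversallyOpen (pullback.fst g (i ≫ f)) := inferInstance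
  have : (pullback.fst g f) '' U = (pullback.fst g (i ≫ f)) '' (j ⁻¹' U) := by
    rw [← hfst, Scheme.Hom.comp_base, TopCat.coe_comp, Set.image_comp,
      Set.image_preimage_eq _ hj]
  rw [this]
  exact (pullback.fst g (i ≫ f)).isOpenMap _ (hU.preimage j.continuous)

theorem subsingleton_spec_of_artinian_local (A : Type u) [CommRing A] [IsArtinianRing A]
    [IsLocalRing A] : Subsingleton ↥(Spec (CommRingCat.of A)) :=
  Ring.KrullDimLE.subsingleton_primeSpectrum A

instance (A : Type u) [CommRing A] [IsArtinianRing A] [IsLocalRing A] :
    UOBase (Spec (CommRingCat.of A)) := by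
  constructor
  intro X f
  let c : Spec (CommRingCat.of (IsLocalRing.ResidueField A)) ⟶ Spec (CommRingCat.of A) :=
    Spec.map (CommRingCat.ofHom (IsLocalRing.residue A))
  have hc1 : IsClosedImmersion c :=
    IsClosedImmersion.spec_of_surjective _ IsLocalRing.residue_surjective
  have hsub := subsingleton_spec_of_artinian_local A
  have hne : Nonempty ↥(Spec (CommRingCat.of (IsLocalRing.ResidueField A))) := inferInstance
  have hc2 : Surjective c := ⟨fun x => ⟨hne.some, Subsingleton.elim _ _⟩⟩
  have hc : UniversallyOpen c := universallyOpen_of_surjective_isClosedImmersion c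
  have h1 : Surjective (pullback.fst f c) := inferInstance
  have h2 : UniversallyOpen (pullback.snd f c) := inferInstance
  have h3 : UniversallyOpen (pullback.fst f c ≫ f) := by
    rw [pullback.condition]; infer_instance
  exact universallyOpen_of_comp_surjective (pullback.fst f c) f

end Groth.Agent.H9.GSE
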