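import Mathlib
import Groth.Prelude.Def_W4swconnpcurvhiggsLogLam

set_option autoImplicit false
set_option linter.style.haveILetI false
set_option linter.unusedSectionVars false
set_option linter.unusedVariables false

universe v u
open TensorProduct

namespace Groth.Agent.H9.LogConnPiece

variable {A : Type v} {B L E : Type u} [CommRing A] [CommRing B]
    [Algebra A B] [AddCommGroup L] [Module B L] [Module A L] [IsScalarTower A B L]
    [AddCommGroup E] [Module B E] [Module A E] [IsScalarTower A B E]

variable (lam : B) {n : ℕ} (t : Fin n → B)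
    (bΩ : Module.Basis (Fin n) B (KaehlerDifferential A B))
    (hbΩ : ∀ i, bΩ i = KaehlerDifferential.D A B (t i))
    (ω : Module.Basis (Fin n) B L) (ι : KaehlerDifferential A B →ₗ[B] L)
    (hι : ∀ i, ι (KaehlerDifferential.D A B (t i)) = t i • ω i)
    (nabla : E →ₗ[A] E ⊗[B] L)
    (hc : Conn.IsLamConn (ι.compDer (KaehlerDifferential.D A B)) lam nabla)

include hbΩ hι in
theorem coord_iota (i : Fin n) (x : KaehlerDifferential A B) :
    ω.coord i (ι x) = bΩ.coord i x * t i := by
  have h : (ω.coord i) ∘ₗ ι = (t i) • (bΩ.coord i) := by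
    apply bΩ.ext
    intro k
    rw [LinearMap.comp_apply, LinearMap.smul_apply, hbΩ k, hι k, map_smul, ← hbΩ k,
      Module.Basis.coord_apply, Module.Basis.coord_apply, Module.Basis.repr_self,
      Module.Basis.repr_self, Finsupp.single_apply]
    split_ifs with h
    · subst h; rfl
    · simp
  have h2 := LinearMap.congr_fun h x
  rw [LinearMap.comp_apply, LinearMap.smul_apply, smul_eq_mul, mul_comm] at h2
  exact h2

include hbΩ hι hc in
theorem comp_smul (i : Fin n) (b : B) (e : E) :
    LogConn.comp nabla ω i (b • e) = b • LogConn.comp nabla ω i e +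
      (lam * (bΩ.coord i (KaehlerDifferential.D A B b) * t i)) • e := by
  unfold LogConn.comp
  rw [Conn.along_apply, Conn.along_apply, hc b e, map_add, map_add, map_smul, map_smul,
    map_smul, map_smul]
  congr 1
  have h1 : (ω.coord i) ((ι.compDer (KaehlerDifferential.D A B)) b) =
      bΩ.coord i (KaehlerDifferential.D A B b) * t i :=
    coord_iota t bΩ hbΩ ω ι hι i _
  rw [TensorProduct.map_tmul, TensorProduct.rid_tmul, LinearMap.id_apply, h1, smul_smul]

include hbΩ in
theorem coord_D_prod (j : Fin n) (K : Finset (Fin n)) (hj : j ∉ K) :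
    bΩ.coord j (KaehlerDifferential.D A B (∏ i ∈ K, t i)) = 0 := by
  induction K using Finset.induction_on with
  | empty => simp
  | insert a s ha ih =>
    rw [Finset.prod_insert ha, Derivation.leibniz, map_add, map_smul, map_smul,
      ih (fun h => hj (Finset.mem_insert_of_mem h)), ← hbΩ a, Module.Basis.coord_apply,
      Module.Basis.repr_self, Finsupp.single_apply, if_neg, smul_zero, smul_zero, add_zero]
    rintro rfl; exact hj (Finset.mem_insert_self _ _)

include hbΩ hι hc in
theorem comp_prod_smul (j : Fin n) (K : Finset (Fin n)) (hj : j ∉ K) (e : E) :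
    LogConn.comp nabla ω j ((∏ i ∈ K, t i) • e) =
      (∏ i ∈ K, t i) • LogConn.comp nabla ω j e := by
  rw [comp_smul lam t bΩ hbΩ ω ι hι nabla hc, coord_D_prod t bΩ hbΩ j K hj, zero_mul, mul_zero,
    zero_smul, add_zero]

theorem compProd_empty : LogConn.compProd nabla ω ∅ = LinearMap.id := by
  unfold LogConn.compProd; rw [Finset.sort_empty]; rfl

theorem compProd_insert (j : Fin n) (J : Finset (Fin n)) (hj : ∀ x ∈ J, j < x) :
    LogConn.compProd nabla ω (insert j J) =
      LogConn.comp nabla ω j ∘ₗ LogConn.compProd nabla ω J := by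
  unfold LogConn.compProd
  rw [Finset.sort_insert (· ≤ ·) (fun b hb => (hj b hb).le) (fun h => lt_irrefl _ (hj j h))]
  rfl

theorem gen_mem (I J : Finset (Fin n)) (hJ : J ⊆ I) (e : E) :
    (∏ i ∈ I \ J, t i) • LogConn.compProd nabla ω J e ∈ LogConn.piece nabla ω t I := by
  unfold LogConn.piece
  exact Submodule.mem_iSup_of_mem J
    (Submodule.mem_iSup_of_mem (Finset.mem_powerset.mpr hJ) ⟨e, rfl⟩)

theorem piece_le (I : Finset (Fin n)) (S : Submodule A E)
    (h : ∀ J, J ⊆ I → ∀ e, (∏ i ∈ I \ J, t i) • LogConn.compProd nabla ω J e ∈ S) :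
    LogConn.piece nabla ω t I ≤ S := by
  unfold LogConn.piece
  refine iSup₂_le fun J hJ => ?_
  rintro _ ⟨e, rfl⟩
  exact h J (Finset.mem_powerset.mp hJ) e

theorem prod_sdiff_mul (I J K : Finset (Fin n)) (hJ : J ⊆ I) (hK : K ⊆ J) :
    (∏ i ∈ I \ J, t i) * (∏ i ∈ J \ K, t i) = ∏ i ∈ I \ K, t i := by
  rw [← Finset.sdiff_union_sdiff_cancel hJ hK, Finset.prod_union]
  exact Finset.disjoint_left.mpr
    (fun x hx hx' => (Finset.mem_sdiff.mp hx).2 (Finset.mem_sdiff.mp hx').1)

theorem insert_sdiff_self' (j : Fin n) (J : Finset (Fin n)) (hjJ : j ∉ J) :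
    insert j J \ J = {j} := by
  ext a
  simp only [Finset.mem_sdiff, Finset.mem_insert, Finset.mem_singleton]
  constructor
  · rintro ⟨h | h, h'⟩
    · exact h
    · exact absurd h h'
  · rintro rfl; exact ⟨Or.inl rfl, hjJ⟩

theorem smul_piece_mem (I J : Finset (Fin n)) (hJ : J ⊆ I) (y : E)
    (hy : y ∈ LogConn.piece nabla ω t J) :
    (∏ i ∈ I \ J, t i) • y ∈ LogConn.piece nabla ω t I := by
  have h : LogConn.piece nabla ω t J ≤ (LogConn.piece nabla ω t I).comap
      ((LinearMap.lsmul B E (∏ i ∈ I \ J, t i)).restrictScalars A) := by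
    apply piece_le
    intro K hK e
    rw [Submodule.mem_comap]
    show (∏ i ∈ I \ J, t i) • ((∏ i ∈ J \ K, t i) • LogConn.compProd nabla ω K e) ∈ _
    rw [smul_smul, prod_sdiff_mul t I J K hJ hK]
    exact gen_mem t ω nabla I K (hK.trans hJ) e
  exact h hy

include hbΩ hι hc in
theorem comp_piece_mem (j : Fin n) (J : Finset (Fin n)) (hj : ∀ x ∈ J, j < x) (y : E)
    (hy : y ∈ LogConn.piece nabla ω t J) :
    LogConn.comp nabla ω j y ∈ LogConn.piece nabla ω t (insert j J) := by
  have hjJ : j ∉ J := fun h => lt_irrefl _ (hj j h)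
  have h : LogConn.piece nabla ω t J ≤ (LogConn.piece nabla ω t (insert j J)).comap
      (LogConn.comp nabla ω j) := by
    apply piece_le
    intro K hK e
    rw [Submodule.mem_comap]
    have hjK : j ∉ J \ K := fun h => hjJ (Finset.mem_sdiff.mp h).1
    rw [comp_prod_smul lam t bΩ hbΩ ω ι hι nabla hc j (J \ K) hjK]
    have e1 : J \ K = insert j J \ insert j K := by
      rw [Finset.insert_sdiff_insert, Finset.sdiff_insert_of_notMem hjJ]
    have e2 : LogConn.comp nabla ω j (LogConn.compProd nabla ω K e) =
        LogConn.compProd nabla ω (insert j K) e := by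
      rw [compProd_insert ω nabla j K (fun x hx => hj x (hK hx))]; rfl
    rw [e1, e2]
    exact gen_mem t ω nabla (insert j J) (insert j K) (Finset.insert_subset_insert j hK) e
  exact h hy

include hbΩ hι hc in
theorem smul_compProd_mem (J : Finset (Fin n)) :
    ∀ (b : B) (e : E), b • LogConn.compProd nabla ω J e ∈ LogConn.piece nabla ω t J := by
  induction J using Finset.induction_on_min with
  | empty =>
    intro b e
    have h := gen_mem t ω nabla ∅ ∅ (Finset.Subset.refl _) (b • e)
    rw [compProd_empty] at h ⊢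
    simpa using h
  | insert j J hj ih =>
    intro b e
    have hjJ : j ∉ J := fun h => lt_irrefl _ (hj j h)
    rw [compProd_insert ω nabla j J hj, LinearMap.comp_apply]
    have h1 := comp_smul lam t bΩ hbΩ ω ι hι nabla hc j b (LogConn.compProd nabla ω J e)
    have h2 : b • LogConn.comp nabla ω j (LogConn.compProd nabla ω J e) =
        LogConn.comp nabla ω j (b • LogConn.compProd nabla ω J e) -
          (lam * (bΩ.coord j (KaehlerDifferential.D A B b) * t j)) •
            LogConn.compProd nabla ω J e := by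
      rw [h1]; abel
    rw [h2]
    refine Submodule.sub_mem _ ?_ ?_
    · exact comp_piece_mem lam t bΩ hbΩ ω ι hι nabla hc j J hj _ (ih b e)
    · have h3 := smul_piece_mem t ω nabla (insert j J) J (Finset.subset_insert j J) _
        (ih (lam * bΩ.coord j (KaehlerDifferential.D A B b)) e)
      rw [insert_sdiff_self' j J hjJ, Finset.prod_singleton, smul_smul] at h3
      have e4 : lam * (bΩ.coord j (KaehlerDifferential.D A B b) * t j) =
          t j * (lam * bΩ.coord j (KaehlerDifferential.D A B b)) := by ring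
      rw [e4]; exact h3

include hbΩ hι hc in
/-- S16792 -/
theorem piece_smul_mem (I : Finset (Fin n)) (b : B) (x : E)
    (hx : x ∈ LogConn.piece nabla ω t I) :
    b • x ∈ LogConn.piece nabla ω t I := by
  have h : LogConn.piece nabla ω t I ≤ (LogConn.piece nabla ω t I).comap
      ((LinearMap.lsmul B E b).restrictScalars A) := by
    apply piece_le
    intro J hJ e
    rw [Submodule.mem_comap]
    show b • ((∏ i ∈ I \ J, t i) • LogConn.compProd nabla ω J e) ∈ _
    rw [smul_comm]
    exact smul_piece_mem t ω nabla I J hJ _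
      (smul_compProd_mem lam t bΩ hbΩ ω ι hι nabla hc J b e)
  exact h hx

/-! ### generators -/

variable {m : ℕ} (e : Fin m → E)

/-- the `B`-span of the generators -/
noncomputable def W (I : Finset (Fin n)) : Submodule B E :=
  Submodule.span B (⋃ J ∈ I.powerset, Set.range (fun k : Fin m =>
        (∏ i ∈ I \ J, t i) • LogConn.compProd nabla ω J (e k)))

theorem gen_mem_W (I K : Finset (Fin n)) (hK : K ⊆ I) (k : Fin m) :
    (∏ i ∈ I \ K, t i) • LogConn.compProd nabla ω K (e k) ∈ W t ω nabla e I :=
  Submodule.subset_span (Set.mem_iUnion₂.mpr ⟨K, Finset.mem_powerset.mpr hK, ⟨k, rfl⟩⟩)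

theorem smul_W_mem (I J : Finset (Fin n)) (hJ : J ⊆ I) (y : E) (hy : y ∈ W t ω nabla e J) :
    (∏ i ∈ I \ J, t i) • y ∈ W t ω nabla e I := by
  have h : W t ω nabla e J ≤ (W t ω nabla e I).comap (LinearMap.lsmul B E (∏ i ∈ I \ J, t i)) := by
    refine Submodule.span_le.mpr ?_
    intro x hx
    obtain ⟨K, hK, hk⟩ := Set.mem_iUnion₂.mp hx
    obtain ⟨k, rfl⟩ := hk
    have hK' := Finset.mem_powerset.mp hK
    rw [SetLike.mem_coe, Submodule.mem_comap, LinearMap.lsmul_apply, smul_smul,
      prod_sdiff_mul t I J K hJ hK']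
    exact gen_mem_W t ω nabla e I K (hK'.trans hJ) k
  exact h hy

include hbΩ hι hc in
theorem comp_W_mem (j : Fin n) (J : Finset (Fin n)) (hj : ∀ x ∈ J, j < x) (y : E)
    (hy : y ∈ W t ω nabla e J) :
    LogConn.comp nabla ω j y ∈ W t ω nabla e (insert j J) := by
  have hjJ : j ∉ J := fun h => lt_irrefl _ (hj j h)
  unfold W at hy
  induction hy using Submodule.span_induction with
  | mem x h =>
    obtain ⟨K, hK, hk⟩ := Set.mem_iUnion₂.mp h
    obtain ⟨k, rfl⟩ := hk
    have hK' := Finset.mem_powerset.mp hK
    have hjK : j ∉ J \ K := fun h => hjJ (Finset.mem_sdiff.mp h).1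
    show LogConn.comp nabla ω j ((∏ i ∈ J \ K, t i) • LogConn.compProd nabla ω K (e k)) ∈ _
    rw [comp_prod_smul lam t bΩ hbΩ ω ι hι nabla hc j (J \ K) hjK]
    have e1 : J \ K = insert j J \ insert j K := by
      rw [Finset.insert_sdiff_insert, Finset.sdiff_insert_of_notMem hjJ]
    have e2 : LogConn.comp nabla ω j (LogConn.compProd nabla ω K (e k)) =
        LogConn.compProd nabla ω (insert j K) (e k) := by
      rw [compProd_insert ω nabla j K (fun x hx => hj x (hK' hx))]; rfl
    rw [e1, e2]
    exact gen_mem_W t ω nabla e (insert j J) (insert j K) (Finset.insert_subset_insert j hK') k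
  | zero => rw [map_zero]; exact Submodule.zero_mem _
  | add x y hx hy ihx ihy => rw [map_add]; exact Submodule.add_mem _ ihx ihy
  | smul a x hx ih =>
    rw [comp_smul lam t bΩ hbΩ ω ι hι nabla hc]
    refine Submodule.add_mem _ (Submodule.smul_mem _ _ ih) ?_
    have h3 := smul_W_mem t ω nabla e (insert j J) J (Finset.subset_insert j J) x hx
    rw [insert_sdiff_self' j J hjJ, Finset.prod_singleton] at h3
    have e5 : (lam * (bΩ.coord j (KaehlerDifferential.D A B a) * t j)) • x =
        (lam * bΩ.coord j (KaehlerDifferential.D A B a)) • (t j • x) := by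
      rw [smul_smul]; congr 1; ring
    rw [e5]; exact Submodule.smul_mem _ _ h3

include hbΩ hι hc in
theorem compProd_mem_W (he : Submodule.span B (Set.range e) = ⊤) (J : Finset (Fin n)) :
    ∀ x : E, LogConn.compProd nabla ω J x ∈ W t ω nabla e J := by
  induction J using Finset.induction_on_min with
  | empty =>
    intro x
    rw [compProd_empty, LinearMap.id_apply]
    have hx : x ∈ Submodule.span B (Set.range e) := by rw [he]; exact Submodule.mem_top
    have hle : Submodule.span B (Set.range e) ≤ W t ω nabla e ∅ := by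
      refine Submodule.span_le.mpr ?_
      rintro _ ⟨k, rfl⟩
      have h := gen_mem_W t ω nabla e ∅ ∅ (Finset.Subset.refl _) k
      rw [compProd_empty] at h
      simpa using h
    exact hle hx
  | insert j J hj ih =>
    intro x
    rw [compProd_insert ω nabla j J hj, LinearMap.comp_apply]
    exact comp_W_mem lam t bΩ hbΩ ω ι hι nabla hc e j J hj _ (ih x)

include hbΩ hι hc in
/-- S16795 -/
theorem span_gens_eq_piece (he : Submodule.span B (Set.range e) = ⊤) (I : Finset (Fin n)) :
    (Submodule.span B (⋃ J ∈ I.powerset, Set.range (fun k : Fin m =>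
        (∏ i ∈ I \ J, t i) • LogConn.compProd nabla ω J (e k)))).restrictScalars A =
      LogConn.piece nabla ω t I := by
  apply le_antisymm
  · intro x hx
    have hx' : x ∈ Submodule.span B (⋃ J ∈ I.powerset, Set.range (fun k : Fin m =>
        (∏ i ∈ I \ J, t i) • LogConn.compProd nabla ω J (e k))) := hx
    clear hx
    induction hx' using Submodule.span_induction with
    | mem x h =>
      obtain ⟨K, hK, hk⟩ := Set.mem_iUnion₂.mp h
      obtain ⟨k, rfl⟩ := hk
      exact gen_mem t ω nabla I K (Finset.mem_powerset.mp hK) (e k)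
    | zero => exact Submodule.zero_mem _
    | add x y hx hy ihx ihy => exact Submodule.add_mem _ ihx ihy
    | smul a x hx ih => exact piece_smul_mem lam t bΩ hbΩ ω ι hι nabla hc I a x ih
  · apply piece_le
    intro J hJ x
    exact smul_W_mem t ω nabla e I J hJ _
      (compProd_mem_W lam t bΩ hbΩ ω ι hι nabla hc e he J x)

end Groth.Agent.H9.LogConnPiece
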