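import Mathlib
import Groth.Prelude.Def_EtMil

/-! Helper9: Milnor patching — the glued module over a fibre product of rings recovers its pieces -/

set_option linter.style.haveILetI false
set_option linter.unusedSectionVars false

namespace Groth.Agent.H9.Miln
open scoped TensorProduct

universe u

section ker
variable {A' A : Type u} [CommRing A'] [CommRing A] [Algebra A' A]
  {X : Type u} [AddCommGroup X] [Module A' X]

/-- kernel of `X → A ⊗ X` for a surjective `A' → A` -/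
lemma mem_smul_top_of_tmul_eq_zero (hs : Function.Surjective (algebraMap A' A)) (x : X)
    (h : (1 : A) ⊗ₜ[A'] x = 0) :
    x ∈ (RingHom.ker (algebraMap A' A)) • (⊤ : Submodule A' X) := by
  set I' : Ideal A' := LinearMap.ker (Algebra.linearMap A' A) with hI'
  have hI : I' = RingHom.ker (algebraMap A' A) := by
    ext a
    simp [hI', RingHom.mem_ker]
  rw [← hI]
  let e : (A' ⧸ I') ≃ₗ[A'] A := LinearMap.quotKerEquivOfSurjective (Algebra.linearMap A' A) hs
  have he : e.symm 1 = Submodule.Quotient.mk 1 := by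
    rw [LinearEquiv.symm_apply_eq]
    show (1 : A) = (Algebra.linearMap A' A) 1
    simp
  let E := (TensorProduct.congr e.symm (LinearEquiv.refl A' X)) ≪≫ₗ
    TensorProduct.quotTensorEquivQuotSMul X I'
  have h1 : E ((1 : A) ⊗ₜ[A'] x) = Submodule.Quotient.mk x := by
    show TensorProduct.quotTensorEquivQuotSMul X I' (e.symm 1 ⊗ₜ[A'] x) = _
    rw [he]
    have := TensorProduct.quotTensorEquivQuotSMul_mk_tmul (M := X) I' (1 : A') x
    rw [one_smul] at this
    exact this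
  rw [h, map_zero] at h1
  exact (Submodule.Quotient.mk_eq_zero _).mp h1.symm

/-- every element of `A ⊗ X` is `1 ⊗ x` for a surjective `A' → A` -/
lemma exists_one_tmul (hs : Function.Surjective (algebraMap A' A)) (y : A ⊗[A'] X) :
    ∃ x : X, y = (1 : A) ⊗ₜ[A'] x := by
  induction y using TensorProduct.induction_on with
  | zero => exact ⟨0, by simp⟩
  | tmul a m =>
    obtain ⟨a', rfl⟩ := hs a
    refine ⟨a' • m, ?_⟩
    rw [Algebra.algebraMap_eq_smul_one, TensorProduct.smul_tmul]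
  | add x y hx hy =>
    obtain ⟨x', rfl⟩ := hx
    obtain ⟨y', rfl⟩ := hy
    exact ⟨x' + y', by rw [TensorProduct.tmul_add]⟩

end ker

section main
variable {B' B A' A : Type u} [CommRing B'] [CommRing B] [CommRing A'] [CommRing A]
  [Algebra B' B] [Algebra B' A'] [Algebra B A] [Algebra A' A] [Algebra B' A]
  [IsScalarTower B' B A] [IsScalarTower B' A' A]
  {N M' : Type u} [AddCommGroup N] [Module B N] [Module B' N] [IsScalarTower B' B N]
  [AddCommGroup M'] [Module A' M'] [Module B' M'] [IsScalarTower B' A' M']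
  (φ : A ⊗[B] N ≃ₗ[A] A ⊗[A'] M')

lemma surj_B (hsq : EtMil.IsFibreSquare B' B A' A) : Function.Surjective (algebraMap B' B) := by
  intro b
  obtain ⟨a', ha'⟩ := hsq.1 (algebraMap B A b)
  obtain ⟨b', ⟨hb1, hb2⟩, -⟩ := hsq.2 b a' ha'.symm
  exact ⟨b', hb1⟩

lemma exists_beta (hsq : EtMil.IsFibreSquare B' B A' A) (i' : A')
    (hi : algebraMap A' A i' = 0) :
    ∃ β : B', algebraMap B' B β = 0 ∧ algebraMap B' A' β = i' := by
  obtain ⟨b', ⟨hb1, hb2⟩, -⟩ := hsq.2 0 i' (by rw [map_zero, hi])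
  exact ⟨b', hb1, hb2⟩

lemma mem_glue (x : N × M') :
    x ∈ EtMil.glue B' φ ↔ φ ((1 : A) ⊗ₜ[B] x.1) = (1 : A) ⊗ₜ[A'] x.2 := Iff.rfl

lemma glue_prop (g : EtMil.glue B' φ) :
    φ ((1 : A) ⊗ₜ[B] (EtMil.glueFst B' φ g)) = (1 : A) ⊗ₜ[A'] (EtMil.glueSnd B' φ g) := g.2

lemma glueFst_apply (g : EtMil.glue B' φ) : EtMil.glueFst B' φ g = g.1.1 := rfl
lemma glueSnd_apply (g : EtMil.glue B' φ) : EtMil.glueSnd B' φ g = g.1.2 := rfl

lemma glue_ext (g h : EtMil.glue B' φ) (h1 : EtMil.glueFst B' φ g = EtMil.glueFst B' φ h)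
    (h2 : EtMil.glueSnd B' φ g = EtMil.glueSnd B' φ h) : g = h := by
  apply Subtype.ext
  exact Prod.ext h1 h2

/-- `pr₁ : G → N` is surjective -/
lemma glueFst_surj (hs : Function.Surjective (algebraMap A' A)) :
    Function.Surjective (EtMil.glueFst B' φ) := by
  intro n
  obtain ⟨m', hm'⟩ := exists_one_tmul hs (φ ((1 : A) ⊗ₜ[B] n))
  exact ⟨⟨(n, m'), hm'⟩, rfl⟩

/-- `(0, i' m')` lies in `G` for `i'` in the kernel -/
lemma zero_smul_mem_glue (i' : A') (hi : algebraMap A' A i' = 0) (m' : M') :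
    ((0 : N), i' • m') ∈ EtMil.glue B' φ := by
  rw [mem_glue]
  show φ ((1 : A) ⊗ₜ[B] (0 : N)) = (1 : A) ⊗ₜ[A'] (i' • m')
  rw [TensorProduct.tmul_zero, map_zero, ← TensorProduct.smul_tmul, ← Algebra.algebraMap_eq_smul_one,
    hi, TensorProduct.zero_tmul]

/-- Claim S: the `A'`-span of `pr₂ G` is everything -/
lemma span_glueSnd (hs : Function.Surjective (algebraMap A' A)) :
    Submodule.span A' (Set.range (EtMil.glueSnd B' φ)) = ⊤ := by
  set P := Submodule.span A' (Set.range (EtMil.glueSnd B' φ)) with hP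
  have ha : (RingHom.ker (algebraMap A' A)) • (⊤ : Submodule A' M') ≤ P := by
    rw [Submodule.smul_le]
    intro i' hi m' _
    exact Submodule.subset_span ⟨⟨(0, i' • m'), zero_smul_mem_glue φ i' hi m'⟩, rfl⟩
  have hb : ∀ z : A ⊗[B] N, ∃ p ∈ P, φ z = (1 : A) ⊗ₜ[A'] p := by
    intro z
    induction z using TensorProduct.induction_on with
    | zero => exact ⟨0, zero_mem _, by simp⟩
    | tmul a n =>
      obtain ⟨a', rfl⟩ := hs a
      obtain ⟨g, rfl⟩ := glueFst_surj (B' := B') φ hs n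
      refine ⟨a' • EtMil.glueSnd B' φ g, Submodule.smul_mem _ _ (Submodule.subset_span ⟨g, rfl⟩), ?_⟩
      have : (algebraMap A' A a') ⊗ₜ[B] (EtMil.glueFst B' φ g) =
          (algebraMap A' A a') • ((1 : A) ⊗ₜ[B] (EtMil.glueFst B' φ g)) := by
        rw [TensorProduct.smul_tmul', smul_eq_mul, mul_one]
      rw [this, map_smul, glue_prop, TensorProduct.smul_tmul', smul_eq_mul, mul_one,
        Algebra.algebraMap_eq_smul_one, TensorProduct.smul_tmul]
    | add x y hx hy =>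
      obtain ⟨p, hp, hpx⟩ := hx
      obtain ⟨q, hq, hqy⟩ := hy
      exact ⟨p + q, add_mem hp hq, by rw [map_add, hpx, hqy, TensorProduct.tmul_add]⟩
  rw [eq_top_iff]
  intro m' _
  obtain ⟨p, hp, hpz⟩ := hb (φ.symm ((1 : A) ⊗ₜ[A'] m'))
  rw [LinearEquiv.apply_symm_apply] at hpz
  have h0 : (1 : A) ⊗ₜ[A'] (m' - p) = 0 := by
    rw [TensorProduct.tmul_sub, hpz, sub_self]
  have := ha (mem_smul_top_of_tmul_eq_zero hs _ h0)
  have h2 := add_mem this hp
  rwa [sub_add_cancel] at h2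

/-- (F5): elements `(0, m')` with `m' ∈ I' M'` die in `B ⊗ G` -/
lemma exists_glue_of_mem_smul (hsq : EtMil.IsFibreSquare B' B A' A) (m' : M')
    (hm : m' ∈ (RingHom.ker (algebraMap A' A)) • (⊤ : Submodule A' M')) :
    ∃ g₀ : EtMil.glue B' φ, EtMil.glueFst B' φ g₀ = 0 ∧ EtMil.glueSnd B' φ g₀ = m' ∧
      (1 : B) ⊗ₜ[B'] g₀ = 0 := by
  have key : ∀ m'' : M', ∀ i' ∈ RingHom.ker (algebraMap A' A),
      ∃ g₀ : EtMil.glue B' φ, EtMil.glueFst B' φ g₀ = 0 ∧ EtMil.glueSnd B' φ g₀ = i' • m'' ∧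
      (1 : B) ⊗ₜ[B'] g₀ = 0 := by
    intro m''
    have hm'' : m'' ∈ Submodule.span A' (Set.range (EtMil.glueSnd B' φ)) := by
      rw [span_glueSnd φ hsq.1]; trivial
    induction hm'' using Submodule.span_induction with
    | mem x hx =>
      obtain ⟨g, rfl⟩ := hx
      intro i' hi
      obtain ⟨β, hβ1, hβ2⟩ := exists_beta hsq i' hi
      refine ⟨β • g, ?_, ?_, ?_⟩
      · rw [map_smul, ← IsScalarTower.algebraMap_smul B β, hβ1, zero_smul]
      · rw [map_smul, ← IsScalarTower.algebraMap_smul A' β, hβ2]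
      · rw [← TensorProduct.smul_tmul, ← Algebra.algebraMap_eq_smul_one, hβ1,
          TensorProduct.zero_tmul]
    | zero =>
      intro i' _
      exact ⟨0, by simp, by simp, by simp⟩
    | add x y _ _ hx hy =>
      intro i' hi
      obtain ⟨gx, h1, h2, h3⟩ := hx i' hi
      obtain ⟨gy, k1, k2, k3⟩ := hy i' hi
      refine ⟨gx + gy, ?_, ?_, ?_⟩
      · rw [map_add, h1, k1, add_zero]
      · rw [map_add, h2, k2, smul_add]
      · rw [TensorProduct.tmul_add, h3, k3, add_zero]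
    | smul a' x _ hx =>
      intro i' hi
      obtain ⟨gx, h1, h2, h3⟩ := hx (i' * a') (Ideal.mul_mem_right _ _ hi)
      exact ⟨gx, h1, by rw [h2, mul_smul], h3⟩
  refine Submodule.smul_induction_on (p := fun m' => ∃ g₀ : EtMil.glue B' φ,
    EtMil.glueFst B' φ g₀ = 0 ∧ EtMil.glueSnd B' φ g₀ = m' ∧ (1 : B) ⊗ₜ[B'] g₀ = 0) hm
    (fun i' hi m'' _ => key m'' i' hi) ?_
  intro x y hx hy
  obtain ⟨gx, h1, h2, h3⟩ := hx
  obtain ⟨gy, k1, k2, k3⟩ := hy
  refine ⟨gx + gy, ?_, ?_, ?_⟩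
  · rw [map_add, h1, k1, add_zero]
  · rw [map_add, h2, k2]
  · rw [TensorProduct.tmul_add, h3, k3, add_zero]

/-- Claim 1 -/
theorem claim1 (hsq : EtMil.IsFibreSquare B' B A' A) :
    Function.Bijective (LinearMap.liftBaseChange B (EtMil.glueFst B' φ)) := by
  constructor
  · rw [injective_iff_map_eq_zero]
    intro x hx
    obtain ⟨g, rfl⟩ := exists_one_tmul (surj_B hsq) x
    rw [LinearMap.liftBaseChange_tmul, one_smul] at hx
    have h0 : (1 : A) ⊗ₜ[A'] (EtMil.glueSnd B' φ g) = 0 := by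
      rw [← glue_prop, hx, TensorProduct.tmul_zero, map_zero]
    obtain ⟨g₀, h1, h2, h3⟩ := exists_glue_of_mem_smul φ hsq _
      (mem_smul_top_of_tmul_eq_zero hsq.1 _ h0)
    have : g = g₀ := glue_ext φ g g₀ (by rw [hx, h1]) h2.symm
    rw [this, h3]
  · intro n
    obtain ⟨g, rfl⟩ := glueFst_surj (B' := B') φ hsq.1 n
    exact ⟨(1 : B) ⊗ₜ[B'] g, by rw [LinearMap.liftBaseChange_tmul, one_smul]⟩

/-- elements of `I' (A' ⊗ G)` are `1 ⊗ g₀` with `pr₁ g₀ = 0` -/
lemma exists_glue_of_mem_smul' (hsq : EtMil.IsFibreSquare B' B A' A)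
    (x : A' ⊗[B'] (EtMil.glue B' φ))
    (hx : x ∈ (RingHom.ker (algebraMap A' A)) • (⊤ : Submodule A' (A' ⊗[B'] (EtMil.glue B' φ)))) :
    ∃ g₀ : EtMil.glue B' φ, EtMil.glueFst B' φ g₀ = 0 ∧ x = (1 : A') ⊗ₜ[B'] g₀ := by
  have key : ∀ y : A' ⊗[B'] (EtMil.glue B' φ), ∀ i' ∈ RingHom.ker (algebraMap A' A),
      ∃ g₀ : EtMil.glue B' φ, EtMil.glueFst B' φ g₀ = 0 ∧ i' • y = (1 : A') ⊗ₜ[B'] g₀ := by
    intro y
    induction y using TensorProduct.induction_on with
    | zero =>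
      intro i' _
      exact ⟨0, by simp, by simp⟩
    | tmul a' g =>
      intro i' hi
      obtain ⟨β, hβ1, hβ2⟩ := exists_beta hsq (i' * a') (Ideal.mul_mem_right _ _ hi)
      refine ⟨β • g, ?_, ?_⟩
      · rw [map_smul, ← IsScalarTower.algebraMap_smul B β, hβ1, zero_smul]
      · rw [TensorProduct.smul_tmul', smul_eq_mul, ← hβ2, Algebra.algebraMap_eq_smul_one,
          TensorProduct.smul_tmul]
    | add x y hx hy =>
      intro i' hi
      obtain ⟨gx, h1, h2⟩ := hx i' hi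
      obtain ⟨gy, k1, k2⟩ := hy i' hi
      refine ⟨gx + gy, ?_, ?_⟩
      · rw [map_add, h1, k1, add_zero]
      · rw [smul_add, h2, k2, TensorProduct.tmul_add]
  refine Submodule.smul_induction_on (p := fun x => ∃ g₀ : EtMil.glue B' φ,
    EtMil.glueFst B' φ g₀ = 0 ∧ x = (1 : A') ⊗ₜ[B'] g₀) hx
    (fun i' hi y _ => key y i' hi) ?_
  intro x y hx hy
  obtain ⟨gx, h1, h2⟩ := hx
  obtain ⟨gy, k1, k2⟩ := hy
  refine ⟨gx + gy, ?_, ?_⟩
  · rw [map_add, h1, k1, add_zero]
  · rw [h2, k2, TensorProduct.tmul_add]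

/-- Claim 2 -/
theorem claim2 (hsq : EtMil.IsFibreSquare B' B A' A) :
    Function.Bijective (LinearMap.liftBaseChange A' (EtMil.glueSnd B' φ)) := by
  constructor
  · rw [injective_iff_map_eq_zero]
    intro x hx
    -- the comparison isomorphism
    let e1 : (B ⊗[B'] (EtMil.glue B' φ)) ≃ₗ[B] N :=
      LinearEquiv.ofBijective _ (claim1 φ hsq)
    let c1 := TensorProduct.AlgebraTensorModule.cancelBaseChange B' A' A A (EtMil.glue B' φ)
    let c2 := TensorProduct.AlgebraTensorModule.cancelBaseChange B' B A A (EtMil.glue B' φ)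
    let c3 := TensorProduct.congr (LinearEquiv.refl B A) e1
    have hΦ : ∀ y : A' ⊗[B'] (EtMil.glue B' φ),
        φ (c3 (c2.symm (c1 ((1 : A) ⊗ₜ[A'] y)))) =
          (1 : A) ⊗ₜ[A'] (LinearMap.liftBaseChange A' (EtMil.glueSnd B' φ) y) := by
      intro y
      induction y using TensorProduct.induction_on with
      | zero => simp
      | tmul a' g =>
        have h1 : c1 ((1 : A) ⊗ₜ[A'] (a' ⊗ₜ[B'] g)) = (a' • (1 : A)) ⊗ₜ[B'] g := rfl
        have h2 : c2.symm ((a' • (1 : A)) ⊗ₜ[B'] g) = (a' • (1 : A)) ⊗ₜ[B] ((1 : B) ⊗ₜ[B'] g) := rfl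
        have h3 : c3 ((a' • (1 : A)) ⊗ₜ[B] ((1 : B) ⊗ₜ[B'] g)) =
            (a' • (1 : A)) ⊗ₜ[B] (EtMil.glueFst B' φ g) := by
          show (a' • (1 : A)) ⊗ₜ[B] (e1 ((1 : B) ⊗ₜ[B'] g)) = _
          congr 1
          show LinearMap.liftBaseChange B (EtMil.glueFst B' φ) ((1 : B) ⊗ₜ[B'] g) = _
          rw [LinearMap.liftBaseChange_tmul, one_smul]
        rw [h1, h2, h3]
        have : (a' • (1 : A)) ⊗ₜ[B] (EtMil.glueFst B' φ g) =
            (a' • (1 : A)) • ((1 : A) ⊗ₜ[B] (EtMil.glueFst B' φ g)) := by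
          rw [TensorProduct.smul_tmul', smul_eq_mul, mul_one]
        rw [this, map_smul, glue_prop, TensorProduct.smul_tmul', smul_eq_mul, mul_one,
          TensorProduct.smul_tmul, LinearMap.liftBaseChange_tmul]
      | add x y hx hy =>
        simp only [TensorProduct.tmul_add, map_add, hx, hy]
    have h0 : (1 : A) ⊗ₜ[A'] x = 0 := by
      have := hΦ x
      rw [hx, TensorProduct.tmul_zero] at this
      have h4 := φ.injective (this.trans (map_zero φ).symm)
      have h5 := c3.injective (h4.trans (map_zero c3).symm)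
      have h6 := c2.symm.injective (h5.trans (map_zero c2.symm).symm)
      exact c1.injective (h6.trans (map_zero c1).symm)
    obtain ⟨g₀, h1, rfl⟩ := exists_glue_of_mem_smul' φ hsq x
      (mem_smul_top_of_tmul_eq_zero hsq.1 _ h0)
    rw [LinearMap.liftBaseChange_tmul, one_smul] at hx
    have : g₀ = 0 := glue_ext φ g₀ 0 (by rw [h1, map_zero]) (by rw [hx, map_zero])
    rw [this, TensorProduct.tmul_zero]
  · rw [← LinearMap.range_eq_top, LinearMap.range_liftBaseChange, LinearMap.coe_range,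
      span_glueSnd φ hsq.1]

end main

end Groth.Agent.H9.Miln
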