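import Mathlib

/-! Helper9: a Gordan-type lemma: faces of finitely generated submonoids of finitely generated
abelian groups are exposed by an integral linear form. -/

set_option linter.style.haveILetI false
set_option linter.unusedSectionVars false
set_option autoImplicit false

namespace Groth.Agent.H9.MagGor

section Sep

/-- homs to `ℤ` separate non-torsion elements of a f.g. abelian group -/
theorem sep_of_fg (A : Type*) [AddCommGroup A] [AddGroup.FG A] (v : A)
    (hv : ∀ ℓ : A →+ ℤ, ℓ v = 0) : ∃ k : ℕ, 0 < k ∧ k • v = 0 := by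
  haveI : Module.Finite ℤ A := Module.Finite.iff_addGroup_fg.mpr inferInstance
  have h1 : ∀ φ : Module.Dual ℤ (A ⧸ Submodule.torsion ℤ A),
      φ ((Submodule.torsion ℤ A).mkQ v) = 0 := by
    intro φ
    exact hv ((φ.comp (Submodule.torsion ℤ A).mkQ).toAddMonoidHom)
  have h2 := (Module.forall_dual_apply_eq_zero_iff ℤ ((Submodule.torsion ℤ A).mkQ v)).mp h1
  have h3 : v ∈ Submodule.torsion ℤ A := by
    rwa [Submodule.mkQ_apply, Submodule.Quotient.mk_eq_zero] at h2
  rw [Submodule.mem_torsion_iff] at h3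
  obtain ⟨a, ha⟩ := h3
  have ha0 : (a : ℤ) ≠ 0 := nonZeroDivisors.coe_ne_zero a
  refine ⟨(a : ℤ).natAbs, Int.natAbs_pos.mpr ha0, ?_⟩
  have ha' : (a : ℤ) • v = 0 := ha
  rcases Int.natAbs_eq (a : ℤ) with h | h
  · rw [h, natCast_zsmul] at ha'
    exact ha'
  · rw [h, neg_smul, natCast_zsmul, neg_eq_zero] at ha'
    exact ha'

end Sep

section Gordan

variable {A : Type*} [AddCommGroup A]

theorem zero_case (ψ ℓ₀ : A →+ ℤ) (s' : Finset A) (v : A) (hψ : ∀ u ∈ s', 0 < ψ u)
    (hψv : ψ v = 0) (hℓ₀ : 0 < ℓ₀ v) :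
    ∃ ℓ : A →+ ℤ, (∀ u ∈ s', 0 < ℓ u) ∧ 0 < ℓ v := by
  classical
  refine ⟨(1 + ∑ u ∈ s', |ℓ₀ u|) • ψ + ℓ₀, ?_, ?_⟩
  · intro u hu
    have h1 : |ℓ₀ u| ≤ ∑ u ∈ s', |ℓ₀ u| :=
      Finset.single_le_sum (f := fun u => |ℓ₀ u|) (fun i _ => abs_nonneg _) hu
    have h2 : 1 ≤ ψ u := hψ u hu
    have h3 : -|ℓ₀ u| ≤ ℓ₀ u := neg_abs_le _
    have h4 : 0 ≤ ∑ u ∈ s', |ℓ₀ u| := Finset.sum_nonneg (fun i _ => abs_nonneg _)
    simp only [AddMonoidHom.add_apply, AddMonoidHom.smul_apply, smul_eq_mul]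
    nlinarith
  · simp only [AddMonoidHom.add_apply, AddMonoidHom.smul_apply, smul_eq_mul, hψv, mul_zero,
      zero_add]
    exact hℓ₀

theorem exists_pos_aux (hA : ∀ v : A, (∀ ℓ : A →+ ℤ, ℓ v = 0) → ∃ k : ℕ, 0 < k ∧ k • v = 0) :
    ∀ (n : ℕ) (s : Finset A), s.card = n →
      (∀ x, x ∈ AddSubmonoid.closure (s : Set A) → -x ∈ AddSubmonoid.closure (s : Set A) →
        x = 0) → (0 : A) ∉ s → ∃ ℓ : A →+ ℤ, ∀ v ∈ s, 0 < ℓ v := by
  classical
  intro n
  induction n using Nat.strong_induction_on with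
  | _ n ih =>
    intro s hcard hs h0
    rcases s.eq_empty_or_nonempty with rfl | ⟨v, hv⟩
    · exact ⟨0, fun v hv => absurd hv (Finset.notMem_empty v)⟩
    have hs'card : (s.erase v).card < n := by
      rw [← hcard]
      exact Finset.card_erase_lt_of_mem hv
    have hsub : AddSubmonoid.closure ((s.erase v : Finset A) : Set A) ≤
        AddSubmonoid.closure (s : Set A) :=
      AddSubmonoid.closure_mono (by
        intro x hx
        exact Finset.mem_of_mem_erase hx)
    obtain ⟨ℓ, hℓ⟩ := ih _ hs'card (s.erase v) rfl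
      (fun x hx hx' => hs x (hsub hx) (hsub hx'))
      (fun h => h0 (Finset.mem_of_mem_erase h))
    have hvcl : v ∈ AddSubmonoid.closure (s : Set A) := AddSubmonoid.subset_closure hv
    have finish : (∃ ℓ' : A →+ ℤ, (∀ u ∈ s.erase v, 0 < ℓ' u) ∧ 0 < ℓ' v) →
        ∃ ℓ : A →+ ℤ, ∀ v ∈ s, 0 < ℓ v := by
      rintro ⟨ℓ', h1, h2⟩
      refine ⟨ℓ', fun u hu => ?_⟩
      by_cases huv : u = v
      · rw [huv]; exact h2
      · exact h1 u (Finset.mem_erase.mpr ⟨huv, hu⟩)
    rcases lt_trichotomy (ℓ v) 0 with hneg | hzero | hpos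
    · -- negative case
      obtain ⟨a, ha⟩ : ∃ a : ℕ, (a : ℤ) = -ℓ v := ⟨(ℓ v).natAbs, by
        rw [Int.ofNat_natAbs_of_nonpos hneg.le]⟩
      have ha1 : 1 ≤ a := by
        have : (0 : ℤ) < a := by rw [ha]; linarith
        exact_mod_cast this
      let φ : A →+ A := AddMonoidHom.mk' (fun u => a • u + ℓ u • v) (by
        intro x y
        simp only [map_add, smul_add, add_smul]
        abel)
      have hφ : ∀ u, φ u = a • u + ℓ u • v := fun u => rfl
      have hφmem : ∀ u ∈ s.erase v, φ u = a • u + (ℓ u).toNat • v := by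
        intro u hu
        rw [hφ]
        congr 1
        rw [← natCast_zsmul, Int.toNat_of_nonneg (hℓ u hu).le]
      have hφcl : ∀ u ∈ s.erase v, φ u ∈ AddSubmonoid.closure (s : Set A) := by
        intro u hu
        rw [hφmem u hu]
        exact add_mem (nsmul_mem (AddSubmonoid.subset_closure (Finset.mem_of_mem_erase hu)) _)
          (nsmul_mem hvcl _)
      have h0'' : (0 : A) ∉ (s.erase v).image φ := by
        intro h
        obtain ⟨u, hu, hu0⟩ := Finset.mem_image.mp h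
        rw [hφmem u hu] at hu0
        have hucl : u ∈ AddSubmonoid.closure (s : Set A) :=
          AddSubmonoid.subset_closure (Finset.mem_of_mem_erase hu)
        have e1 : u + ((a - 1) • u + (ℓ u).toNat • v) = 0 := by
          rw [← add_assoc, ← succ_nsmul', Nat.sub_add_cancel ha1]
          exact hu0
        have e2 : -u = (a - 1) • u + (ℓ u).toNat • v := neg_eq_of_add_eq_zero_right e1
        have e3 : -u ∈ AddSubmonoid.closure (s : Set A) := by
          rw [e2]
          exact add_mem (nsmul_mem hucl _) (nsmul_mem hvcl _)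
        have e4 := hs u hucl e3
        have e5 := hℓ u hu
        rw [e4, map_zero] at e5
        exact lt_irrefl _ e5
      have hsub'' : AddSubmonoid.closure (((s.erase v).image φ : Finset A) : Set A) ≤
          AddSubmonoid.closure (s : Set A) := by
        rw [AddSubmonoid.closure_le]
        intro x hx
        obtain ⟨u, hu, rfl⟩ := Finset.mem_image.mp (Finset.mem_coe.mp hx)
        exact hφcl u hu
      have hcard'' : ((s.erase v).image φ).card < n :=
        lt_of_le_of_lt Finset.card_image_le hs'card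
      obtain ⟨ℓ', hℓ'⟩ := ih _ hcard'' ((s.erase v).image φ) rfl
        (fun x hx hx' => hs x (hsub'' hx) (hsub'' hx')) h0''
      apply finish
      refine zero_case (ℓ'.comp φ) (-ℓ) (s.erase v) v ?_ ?_ ?_
      · intro u hu
        exact hℓ' (φ u) (Finset.mem_image_of_mem φ hu)
      · have : φ v = 0 := by
          rw [hφ, ← natCast_zsmul, ha, ← add_smul, neg_add_cancel, zero_smul]
        rw [AddMonoidHom.comp_apply, this, map_zero]
      · rw [AddMonoidHom.neg_apply]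
        linarith
    · -- zero case
      have hv0 : v ≠ 0 := fun h => h0 (h ▸ hv)
      have hnt : ¬ ∃ k : ℕ, 0 < k ∧ k • v = 0 := by
        rintro ⟨k, hk, hkv⟩
        have e1 : v + (k - 1) • v = 0 := by
          rw [← succ_nsmul', Nat.sub_add_cancel hk]
          exact hkv
        have e2 : -v = (k - 1) • v := neg_eq_of_add_eq_zero_right e1
        have e3 : -v ∈ AddSubmonoid.closure (s : Set A) := by
          rw [e2]
          exact nsmul_mem hvcl _
        exact hv0 (hs v hvcl e3)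
      have hex : ∃ ℓ₀ : A →+ ℤ, ℓ₀ v ≠ 0 := by
        by_contra hcon
        push_neg at hcon
        exact hnt (hA v hcon)
      obtain ⟨ℓ₀, hℓ₀⟩ := hex
      apply finish
      rcases lt_or_gt_of_ne hℓ₀ with h | h
      · refine zero_case ℓ (-ℓ₀) (s.erase v) v hℓ hzero ?_
        rw [AddMonoidHom.neg_apply]
        linarith
      · exact zero_case ℓ ℓ₀ (s.erase v) v hℓ hzero h
    · exact finish ⟨ℓ, hℓ, hpos⟩

theorem exists_pos (hA : ∀ v : A, (∀ ℓ : A →+ ℤ, ℓ v = 0) → ∃ k : ℕ, 0 < k ∧ k • v = 0)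
    (s : Finset A)
    (hs : ∀ x, x ∈ AddSubmonoid.closure (s : Set A) → -x ∈ AddSubmonoid.closure (s : Set A) →
      x = 0) (h0 : (0 : A) ∉ s) : ∃ ℓ : A →+ ℤ, ∀ v ∈ s, 0 < ℓ v :=
  exists_pos_aux hA s.card s rfl hs h0

end Gordan

section Face

variable {M : Type*} [AddCommGroup M]

theorem mem_closure_face {F : AddSubmonoid M} {x : M}
    (hx : x ∈ AddSubgroup.closure (F : Set M)) : ∃ f ∈ F, ∃ f' ∈ F, x + f' = f := by
  induction hx using AddSubgroup.closure_induction with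
  | mem x hx => exact ⟨x, hx, 0, F.zero_mem, add_zero x⟩
  | zero => exact ⟨0, F.zero_mem, 0, F.zero_mem, add_zero 0⟩
  | add x y _ _ hx hy =>
    obtain ⟨f₁, hf₁, f₁', hf₁', e₁⟩ := hx
    obtain ⟨f₂, hf₂, f₂', hf₂', e₂⟩ := hy
    refine ⟨f₁ + f₂, F.add_mem hf₁ hf₂, f₁' + f₂', F.add_mem hf₁' hf₂', ?_⟩
    rw [← e₁, ← e₂]
    abel
  | neg x _ hx =>
    obtain ⟨f, hf, f', hf', e⟩ := hx
    refine ⟨f', hf', f, hf, ?_⟩
    rw [← e]
    abel

theorem exists_face_height [AddGroup.FG M] {N F : AddSubmonoid M} (hN : N.FG) (hle : F ≤ N)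
    (hface : ∀ x ∈ N, ∀ y ∈ N, x + y ∈ F → x ∈ F ∧ y ∈ F) :
    ∃ ℓ : M →+ ℤ, (∀ n ∈ N, 0 ≤ ℓ n) ∧ ∀ n ∈ N, ℓ n = 0 ↔ n ∈ F := by
  classical
  obtain ⟨S, hS⟩ := hN
  let G : AddSubgroup M := AddSubgroup.closure (F : Set M)
  let π : M →+ M ⧸ G := QuotientAddGroup.mk' G
  have hπ0 : ∀ x, π x = 0 ↔ x ∈ G := fun x => QuotientAddGroup.eq_zero_iff x
  have hFG : ∀ n ∈ N, n ∈ G → n ∈ F := by
    intro n hn hnG
    obtain ⟨f, hf, f', hf', e⟩ := mem_closure_face hnG
    exact (hface n hn f' (hle hf') (e ▸ hf)).1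
  have hsharp : ∀ x, x ∈ N.map π → -x ∈ N.map π → x = 0 := by
    rintro x ⟨n, hn, rfl⟩ ⟨n', hn', e⟩
    have h1 : π (n + n') = 0 := by rw [map_add, e, add_neg_cancel]
    have h2 : n + n' ∈ G := (hπ0 _).mp h1
    obtain ⟨f, hf, f', hf', e'⟩ := mem_closure_face h2
    have h3 : n + (n' + f') ∈ F := by rw [← add_assoc, e']; exact hf
    have h4 := (hface n hn (n' + f') (N.add_mem hn' (hle hf')) h3).1
    exact (hπ0 n).mpr (AddSubgroup.subset_closure h4)
  let s : Finset (M ⧸ G) := (S.image π).erase 0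
  have hscl : AddSubmonoid.closure (s : Set (M ⧸ G)) ≤ N.map π := by
    rw [AddSubmonoid.closure_le]
    intro x hx
    obtain ⟨-, hx'⟩ := Finset.mem_erase.mp (Finset.mem_coe.mp hx)
    obtain ⟨m, hm, rfl⟩ := Finset.mem_image.mp hx'
    refine ⟨m, ?_, rfl⟩
    rw [← hS]
    exact AddSubmonoid.subset_closure hm
  obtain ⟨ℓ', hℓ'⟩ := exists_pos (sep_of_fg (M ⧸ G)) s
    (fun x hx hx' => hsharp x (hscl hx) (hscl hx')) (Finset.notMem_erase 0 _)
  have key : ∀ n ∈ N, 0 ≤ ℓ' (π n) ∧ (ℓ' (π n) = 0 → π n = 0) := by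
    intro n hn
    rw [← hS] at hn
    induction hn using AddSubmonoid.closure_induction with
    | mem x hx =>
      by_cases h0 : π x = 0
      · rw [h0, map_zero]
        exact ⟨le_rfl, fun _ => rfl⟩
      · have : π x ∈ s := Finset.mem_erase.mpr ⟨h0, Finset.mem_image_of_mem π hx⟩
        have hp := hℓ' _ this
        exact ⟨hp.le, fun h => absurd h hp.ne'⟩
    | zero =>
      rw [map_zero, map_zero]
      exact ⟨le_rfl, fun _ => rfl⟩
    | add x y _ _ hx hy =>
      rw [map_add, map_add]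
      refine ⟨add_nonneg hx.1 hy.1, fun h => ?_⟩
      have hx0 : ℓ' (π x) = 0 := by linarith [hx.1, hy.1]
      have hy0 : ℓ' (π y) = 0 := by linarith [hx.1, hy.1]
      rw [hx.2 hx0, hy.2 hy0, add_zero]
  refine ⟨ℓ'.comp π, fun n hn => (key n hn).1, fun n hn => ⟨fun h => ?_, fun h => ?_⟩⟩
  · exact hFG n hn ((hπ0 n).mp ((key n hn).2 h))
  · rw [AddMonoidHom.comp_apply, (hπ0 n).mpr (AddSubgroup.subset_closure h), map_zero]

end Face

end Groth.Agent.H9.MagGor
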