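import Mathlib

/-! Helper9: injectivity of base-changed ring maps having an additive retraction (pushout squares in CommRingCat). -/

set_option linter.style.haveILetI false
set_option linter.unusedSectionVars false

namespace Groth.Agent.H9.UDM

universe u

open CategoryTheory CategoryTheory.Limits

section Alg

theorem injective_of_retraction {Z R P P' B B' : Type u} [CommRing Z] [CommRing R] [CommRing P]
    [CommRing P'] [CommRing B] [CommRing B']
    [Algebra Z R] [Algebra Z P] [Algebra Z P'] [Algebra R B] [Algebra R B'] [Algebra P B]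
    [Algebra P' B'] [Algebra Z B] [Algebra Z B']
    [IsScalarTower Z R B] [IsScalarTower Z P B] [IsScalarTower Z R B'] [IsScalarTower Z P' B']
    [h : Algebra.IsPushout Z R P B] [h' : Algebra.IsPushout Z R P' B']
    (φ : P →ₗ[Z] P') (ψ : B →ₗ[R] B')
    (hψ : ∀ p, ψ (algebraMap P B p) = algebraMap P' B' (φ p))
    (r : P' →ₗ[Z] P) (hr : ∀ p, r (φ p) = p) : Function.Injective ψ := by
  let ρ : B' →ₗ[R] B := h'.out.lift ((IsScalarTower.toAlgHom Z P B).toLinearMap ∘ₗ r)
  have hρ : ∀ p', ρ (algebraMap P' B' p') = algebraMap P B (r p') := fun p' =>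
    h'.out.lift_eq _ p'
  have hid : ρ ∘ₗ ψ = LinearMap.id := by
    apply h.out.algHom_ext
    intro p
    change ρ (ψ (algebraMap P B p)) = algebraMap P B p
    rw [hψ, hρ, hr]
  intro x y hxy
  have := congrArg ρ hxy
  change (ρ ∘ₗ ψ) x = (ρ ∘ₗ ψ) y at this
  rwa [hid] at this

theorem injective_of_isPushout {Z R P P' B B' : CommRingCat.{u}} (zr : Z ⟶ R) (zp : Z ⟶ P)
    (rb : R ⟶ B) (pb : P ⟶ B) (φ : P ⟶ P') (ψ : B ⟶ B') (pb' : P' ⟶ B')
    (h1 : IsPushout zr zp rb pb) (h2 : IsPushout pb φ ψ pb')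
    (hZ : Function.Surjective (Int.cast : ℤ → Z))
    (r : P' →+ P) (hr : ∀ p, r (φ p) = p) : Function.Injective ψ := by
  have h12 : IsPushout zr (zp ≫ φ) (rb ≫ ψ) pb' := h1.paste_vert h2
  letI : Algebra Z R := zr.hom.toAlgebra
  letI : Algebra Z P := zp.hom.toAlgebra
  letI : Algebra Z P' := (zp ≫ φ).hom.toAlgebra
  letI : Algebra R B := rb.hom.toAlgebra
  letI : Algebra R B' := (rb ≫ ψ).hom.toAlgebra
  letI : Algebra P B := pb.hom.toAlgebra
  letI : Algebra P' B' := pb'.hom.toAlgebra
  letI : Algebra Z B := (zr ≫ rb).hom.toAlgebra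
  letI : Algebra Z B' := (zr ≫ rb ≫ ψ).hom.toAlgebra
  haveI : IsScalarTower Z R B := IsScalarTower.of_algebraMap_eq (fun x => rfl)
  haveI : IsScalarTower Z P B := IsScalarTower.of_algebraMap_eq (fun x => by
    change (zr ≫ rb) x = (zp ≫ pb) x
    rw [h1.w])
  haveI : IsScalarTower Z R B' := IsScalarTower.of_algebraMap_eq (fun x => rfl)
  haveI : IsScalarTower Z P' B' := IsScalarTower.of_algebraMap_eq (fun x => by
    change (zr ≫ rb ≫ ψ) x = ((zp ≫ φ) ≫ pb') x
    rw [h12.w])
  haveI : Algebra.IsPushout Z R P B := CommRingCat.isPushout_iff_isPushout.mp h1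
  haveI : Algebra.IsPushout Z R P' B' := CommRingCat.isPushout_iff_isPushout.mp h12
  have hlin : ∀ (A : Type u) [CommRing A] [Algebra Z A] (A' : Type u) [CommRing A'] [Algebra Z A']
      (g : A →+ A') (z : Z) (a : A), g (z • a) = z • g a := by
    intro A _ _ A' _ _ g z a
    obtain ⟨n, rfl⟩ := hZ z
    rw [Algebra.smul_def, Algebra.smul_def, map_intCast, map_intCast, ← zsmul_eq_mul,
      ← zsmul_eq_mul, map_zsmul]
  let φl : P →ₗ[Z] P' :=
    { toFun := φ.hom
      map_add' := map_add _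
      map_smul' := fun z p => hlin P P' φ.hom.toAddMonoidHom z p }
  let ψl : B →ₗ[R] B' :=
    { toFun := ψ.hom
      map_add' := map_add _
      map_smul' := fun x b => by
        change ψ.hom (rb.hom x * b) = (rb ≫ ψ).hom x * ψ.hom b
        rw [map_mul]; rfl }
  let rl : P' →ₗ[Z] P :=
    { toFun := r
      map_add' := map_add _
      map_smul' := fun z p => hlin P' P r z p }
  exact injective_of_retraction φl ψl (fun p => by
    change (pb ≫ ψ) p = (φ ≫ pb') p
    rw [h2.w]) rl hr

end Alg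

end Groth.Agent.H9.UDM
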