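import Mathlib
import Groth.Agent.Lib.Helper9.Misc.UDM1

/-! Helper9: scheme-theoretic dominance of base changes of Spec of a ring map with additive retraction, along product-type base changes. -/

set_option linter.style.haveILetI false
set_option linter.unusedSectionVars false

namespace Groth.Agent.H9.UDM

universe u

open CategoryTheory CategoryTheory.Limits AlgebraicGeometry

/-- criterion for scheme-theoretic dominance on an affine cover of the target -/
theorem dominant_of_cover {X Y : Scheme.{u}} (f : X ⟶ Y) {ι : Type*} (U : ι → Y.affineOpens)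
    (hU : ⨆ i, (U i).1 = ⊤) (h : ∀ i, Function.Injective (f.app (U i).1)) :
    IsSchemeTheoreticallyDominant f := by
  rw [isSchemeTheoreticallyDominant_iff]
  refine Scheme.IdealSheafData.ext_of_iSup_eq_top U hU ?_
  intro i
  rw [Scheme.IdealSheafData.ideal_bot, Pi.bot_apply, ← le_bot_iff]
  refine (Scheme.Hom.ideal_ker_le f (U i)).trans ?_
  rw [le_bot_iff, ← RingHom.injective_iff_ker_eq_bot]
  exact h i

theorem dominant_of_squares {W W' T : Scheme.{u}} {Z P P' : CommRingCat.{u}}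
    (f' : W' ⟶ W) (q' : W' ⟶ Spec P') (q : W ⟶ Spec P) (φ : P ⟶ P')
    (s : W ⟶ T) (τ : T ⟶ Spec Z) (a₀ : Z ⟶ P)
    (H1 : IsPullback f' q' q (Spec.map φ))
    (H2 : IsPullback s q τ (Spec.map a₀))
    (hZ : Function.Surjective (Int.cast : ℤ → Z))
    (r : P' →+ P) (hr : ∀ p, r (φ p) = p) : IsSchemeTheoreticallyDominant f' := by
  have haff : ∀ U : T.affineOpens, IsAffineOpen (s ⁻¹ᵁ U.1) := by
    intro U
    have hUS : IsAffineOpen (⊤ : (Spec Z).Opens) := isAffineOpen_top _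
    have hUT : IsAffineOpen (⊤ : (Spec P).Opens) := isAffineOpen_top _
    have : IsAffine _ := hUS
    have : IsAffine _ := hUT
    have : IsAffine _ := U.2
    exact .of_isIso (Scheme.Hom.isPullback_resLE H2 (US := ⊤) (UT := ⊤) (UX := U.1)
      (UY := s ⁻¹ᵁ U.1) le_top le_top (by simp)).isoPullback.hom
  refine dominant_of_cover f' (fun U : T.affineOpens => ⟨s ⁻¹ᵁ U.1, haff U⟩) ?_ ?_
  · change ⨆ U : T.affineOpens, s ⁻¹ᵁ U.1 = ⊤
    rw [← Scheme.Hom.preimage_iSup, iSup_affineOpens_eq_top, Scheme.Hom.preimage_top]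
  · intro U
    change Function.Injective (f'.app (s ⁻¹ᵁ U.1))
    have hUS : IsAffineOpen (⊤ : (Spec Z).Opens) := isAffineOpen_top _
    have hUP : IsAffineOpen (⊤ : (Spec P).Opens) := isAffineOpen_top _
    have hUP' : IsAffineOpen (⊤ : (Spec P').Opens) := isAffineOpen_top _
    have PO2 := (isIso_pushoutSection_iff H2 (US := ⊤) (UT := ⊤) (UX := U.1)
      (UY := s ⁻¹ᵁ U.1) le_top le_top (by simp)).mp
      (isIso_pushoutSection_of_isAffineOpen H2 _ _ _ hUS hUP U.2)
    have PO1 := (isIso_pushoutSection_iff H1 (US := ⊤) (UT := ⊤) (UX := s ⁻¹ᵁ U.1)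
      (UY := f' ⁻¹ᵁ (s ⁻¹ᵁ U.1)) le_top le_top (by simp)).mp
      (isIso_pushoutSection_of_isAffineOpen H1 _ _ _ hUP hUP' (haff U))
    have hZ' : Function.Surjective (Int.cast : ℤ → Γ(Spec Z, ⊤)) := by
      intro z
      obtain ⟨n, hn⟩ := hZ ((Scheme.ΓSpecIso Z).hom z)
      refine ⟨n, ?_⟩
      have : (Scheme.ΓSpecIso Z).hom (n : Γ(Spec Z, ⊤)) = (Scheme.ΓSpecIso Z).hom z := by
        rw [← hn, map_intCast]
      exact (ConcreteCategory.bijective_of_isIso (Scheme.ΓSpecIso Z).hom).1 this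
    let r' : Γ(Spec P', ⊤) →+ Γ(Spec P, ⊤) :=
      ((Scheme.ΓSpecIso P).inv.hom.toAddMonoidHom.comp r).comp
        (Scheme.ΓSpecIso P').hom.hom.toAddMonoidHom
    have hr' : ∀ p, r' (((Spec.map φ).appLE ⊤ ⊤ le_top) p) = p := by
      intro p
      have e1 : (Spec.map φ).appLE ⊤ ⊤ le_top ≫ (Scheme.ΓSpecIso P').hom =
          (Scheme.ΓSpecIso P).hom ≫ φ := by
        rw [← Scheme.ΓSpecIso_naturality]
        rfl
      change (Scheme.ΓSpecIso P).inv (r (((Spec.map φ).appLE ⊤ ⊤ le_top ≫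
        (Scheme.ΓSpecIso P').hom) p)) = p
      rw [e1]
      change (Scheme.ΓSpecIso P).inv (r (φ ((Scheme.ΓSpecIso P).hom p))) = p
      rw [hr]
      change ((Scheme.ΓSpecIso P).hom ≫ (Scheme.ΓSpecIso P).inv) p = p
      rw [Iso.hom_inv_id]
      rfl
    have := injective_of_isPushout _ _ _ _ _ _ _ PO2 PO1 hZ' r' hr'
    rwa [Scheme.Hom.app_eq_appLE]

end Groth.Agent.H9.UDM
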