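import Mathlib
import Groth.Prelude.Def_Magnet2
import Groth.Agent.Lib.Helper9.Misc.UDM2
import Groth.Agent.Lib.Helper9.Misc.SIM1

/-! Helper9: `A(N′)_S × T → A(N)_S × T` is scheme-theoretically dominant for an injective monoid map `N → N′`. -/

set_option linter.style.haveILetI false
set_option linter.unusedSectionVars false

namespace Groth.Agent.H9.UDM

universe u

open CategoryTheory CategoryTheory.Limits AlgebraicGeometry MonoidalCategory
  CartesianMonoidalCategory MonObj Opposite
open Magnet

section OverPullback

variable {C : Type*} [Category C] [HasPullbacks C]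

theorem isPullback_overPullback_map {X Y : C} (f : X ⟶ Y) {A B : Over Y} (k : A ⟶ B) :
    IsPullback ((Over.pullback f).map k).left (pullback.fst A.hom f) (pullback.fst B.hom f)
      k.left := by
  refine IsPullback.of_right (h₁₂ := pullback.snd B.hom f) (v₁₃ := f) (h₂₂ := B.hom) ?_ ?_ ?_
  · have e1 : ((Over.pullback f).map k).left ≫ pullback.snd B.hom f = pullback.snd A.hom f := by
      simp only [Over.pullback, Over.homMk_left]
      exact pullback.lift_snd _ _ _
    have e2 : k.left ≫ B.hom = A.hom := Over.w k
    rw [e1, e2]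
    exact (IsPullback.of_hasPullback A.hom f).flip
  · simp only [Over.pullback, Over.homMk_left]
    exact pullback.lift_fst _ _ _
  · exact (IsPullback.of_hasPullback B.hom f).flip

end OverPullback

section Retr

variable (R : Type u) [CommRing R] {M M' : Type} [Monoid M] [Monoid M']

/-- additive retraction of `mapDomain` along an injective map -/
noncomputable def retr (f : M → M') (hf : Function.Injective f) :
    MonoidAlgebra R M' →+ MonoidAlgebra R M :=
  (MonoidAlgebra.coeffAddEquiv.symm.toAddMonoidHom.comp
    (Finsupp.comapDomain.addMonoidHom hf)).comp MonoidAlgebra.coeffAddEquiv.toAddMonoidHom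

theorem retr_mapDomain (f : M → M') (hf : Function.Injective f) (x : MonoidAlgebra R M) :
    retr R f hf (MonoidAlgebra.mapDomain f x) = x := by
  apply MonoidAlgebra.coeff_injective
  change Finsupp.comapDomain f (Finsupp.mapDomain f x.coeff) hf.injOn = x.coeff
  exact Finsupp.comapDomain_mapDomain f hf x.coeff

end Retr

section Main

variable (S : Scheme.{u}) {N N' : Type} [AddCommMonoid N] [AddCommMonoid N']

theorem dominant_AMonS_map_whiskerRight (g : N →+ N') (hg : Function.Injective g) (T : Over S) :
    IsSchemeTheoreticallyDominant ((AMonS.map S g) ▷ T).left := by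
  let tS := Limits.IsTerminal.from specULiftZIsTerminal S
  let A := AMonS S N
  let A' := AMonS S N'
  let Z : CommRingCat.{u} := CommRingCat.of (ULift.{u} ℤ)
  let P : CommRingCat.{u} := CommRingCat.of (MonoidAlgebra (ULift.{u} ℤ) (Multiplicative N))
  let P' : CommRingCat.{u} := CommRingCat.of (MonoidAlgebra (ULift.{u} ℤ) (Multiplicative N'))
  let a₀ : Z ⟶ P := CommRingCat.ofHom (algebraMap _ _)
  let φ : P ⟶ P' := CommRingCat.ofHom
    (MonoidAlgebra.mapDomainBialgHom (ULift.{u} ℤ) (AddMonoidHom.toMultiplicative g)).toAlgHom.toRingHom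
  have H2 : IsPullback (snd A T).left ((fst A T).left ≫ pullback.fst (AMon (ULift.{u} ℤ) N).hom tS)
      (T.hom ≫ tS) (Spec.map a₀) :=
    (IsPullback.of_hasPullback A.hom T.hom).flip.paste_vert
      (IsPullback.of_hasPullback (AMon (ULift.{u} ℤ) N).hom tS).flip
  have H1 : IsPullback ((AMonS.map S g) ▷ T).left
      ((fst A' T).left ≫ pullback.fst (AMon (ULift.{u} ℤ) N').hom tS)
      ((fst A T).left ≫ pullback.fst (AMon (ULift.{u} ℤ) N).hom tS) (Spec.map φ) :=
    (SIM.isPullback_whiskerRight_left (AMonS.map S g) T).flip.paste_vert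
      (isPullback_overPullback_map tS (AMon.map (ULift.{u} ℤ) g))
  have hZ : Function.Surjective (Int.cast : ℤ → Z) := by
    intro z
    exact ⟨z.down, rfl⟩
  have hinj : Function.Injective (AddMonoidHom.toMultiplicative g) := hg
  refine dominant_of_squares _ _ _ φ _ _ a₀ H1 H2 hZ
    (retr (ULift.{u} ℤ) (AddMonoidHom.toMultiplicative g) hinj) ?_
  intro p
  exact retr_mapDomain (ULift.{u} ℤ) (AddMonoidHom.toMultiplicative g) hinj p

end Main

end Groth.Agent.H9.UDM
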