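import Mathlib
import Groth.Prelude.Def_Magnet2
import Groth.Agent.Lib.Helper9.Misc.UDM3
import Groth.Agent.Lib.Helper9.Misc.SIM1

/-! Helper9: Künneth for `A(M)_S ×_S T` with `T` affine: global functions are the monoid algebra `Γ(T)[M]`,
naturally in `T` and in `M`. -/

set_option linter.style.haveILetI false
set_option linter.unusedSectionVars false
set_option autoImplicit false

namespace Groth.Agent.H9.MagKun

universe u

open CategoryTheory CategoryTheory.Limits AlgebraicGeometry MonoidalCategory
  CartesianMonoidalCategory MonObj Opposite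
open Magnet

/-- any two ring homs out of `ULift ℤ` agree -/
theorem hom_ext_ZZ {A : Type*} [Ring A] (f g : ULift.{u} ℤ →+* A) : f = g := by
  ext x
  have hx : x = ((x.down : ℤ) : ULift.{u} ℤ) := rfl
  rw [hx, map_intCast, map_intCast]

theorem hom_ext_ΓZZ {A : CommRingCat.{u}}
    (f g : Γ(Spec (CommRingCat.of (ULift.{u} ℤ)), ⊤) ⟶ A) : f = g := by
  rw [← cancel_epi (Scheme.ΓSpecIso (CommRingCat.of (ULift.{u} ℤ))).inv]
  ext x
  exact DFunLike.congr_fun (hom_ext_ZZ
    ((Scheme.ΓSpecIso (CommRingCat.of (ULift.{u} ℤ))).inv ≫ f).hom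
    ((Scheme.ΓSpecIso (CommRingCat.of (ULift.{u} ℤ))).inv ≫ g).hom) x

variable (S : Scheme.{u}) (M : Type) [AddCommMonoid M] (T : Over S)

/-- the coordinate ring of `A(M)_ℤ` -/
noncomputable abbrev PM : CommRingCat.{u} := CommRingCat.of (MonoidAlgebra (ULift.{u} ℤ) (Multiplicative M))

/-- the projection `A(M)_S ×_S T → A(M)_ℤ` -/
noncomputable def pr : (AMonS S M ⊗ T).left ⟶ Spec (PM M) :=
  (fst (AMonS S M) T).left ≫ pullback.fst (AMon (ULift.{u} ℤ) M).hom
    (Limits.IsTerminal.from specULiftZIsTerminal S)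

theorem isPullback_pr :
    IsPullback (snd (AMonS S M) T).left (pr S M T)
      (T.hom ≫ Limits.IsTerminal.from specULiftZIsTerminal S) (AMon (ULift.{u} ℤ) M).hom :=
  (IsPullback.of_hasPullback (AMonS S M).hom T.hom).flip.paste_vert
    (IsPullback.of_hasPullback (AMon (ULift.{u} ℤ) M).hom
      (Limits.IsTerminal.from specULiftZIsTerminal S)).flip

/-- functions on `T` pulled back to `A(M)_S ×_S T` -/
noncomputable def cHom : Γ(T.left, ⊤) →+* Γ((AMonS S M ⊗ T).left, ⊤) :=
  (snd (AMonS S M) T).left.appTop.hom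

/-- functions on `A(M)_ℤ` pulled back to `A(M)_S ×_S T` -/
noncomputable def eHom :
    MonoidAlgebra (ULift.{u} ℤ) (Multiplicative M) →+* Γ((AMonS S M ⊗ T).left, ⊤) :=
  ((Scheme.ΓSpecIso (PM M)).inv ≫ (pr S M T).appTop).hom

/-- the Künneth map `Γ(T)[M] → Γ(A(M)_S ×_S T)` -/
noncomputable def kappa :
    MonoidAlgebra Γ(T.left, ⊤) (Multiplicative M) →+* Γ((AMonS S M ⊗ T).left, ⊤) :=
  MonoidAlgebra.liftNCRingHom (cHom S M T)
    (((eHom S M T : _ →* _)).comp (MonoidAlgebra.of (ULift.{u} ℤ) (Multiplicative M)))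
    (fun _ _ => Commute.all _ _)

theorem kappa_single (m : Multiplicative M) (r : Γ(T.left, ⊤)) :
    kappa S M T (MonoidAlgebra.single m r) =
      cHom S M T r * eHom S M T (MonoidAlgebra.single m 1) := by
  unfold kappa
  rw [MonoidAlgebra.liftNCRingHom_single]
  rfl

theorem kappa_single_one (r : Γ(T.left, ⊤)) :
    kappa S M T (MonoidAlgebra.single 1 r) = cHom S M T r := by
  rw [kappa_single]
  have : (MonoidAlgebra.single (1 : Multiplicative M) (1 : ULift.{u} ℤ)) = 1 := rfl
  rw [this, map_one, _root_.mul_one]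

theorem kappa_single_of (m : Multiplicative M) :
    kappa S M T (MonoidAlgebra.single m 1) = eHom S M T (MonoidAlgebra.single m 1) := by
  rw [kappa_single, map_one, _root_.one_mul]

/-- naturality in `T` -/
theorem kappa_natT {T T' : Over S} (t : T' ⟶ T)
    (y : MonoidAlgebra Γ(T.left, ⊤) (Multiplicative M)) :
    (AMonS S M ◁ t).left.appTop.hom (kappa S M T y) =
      kappa S M T' (MonoidAlgebra.mapRingHom _ t.left.appTop.hom y) := by
  have hc : ∀ r, (AMonS S M ◁ t).left.appTop.hom (cHom S M T r) =
      cHom S M T' (t.left.appTop.hom r) := by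
    intro r
    have h1 : (AMonS S M ◁ t).left ≫ (snd (AMonS S M) T).left =
        (snd (AMonS S M) T').left ≫ t.left := by
      rw [← Over.comp_left, ← Over.comp_left, whiskerLeft_snd]
    have h2 := congrArg (fun f => f.appTop) h1
    simp only [Scheme.Hom.comp_appTop] at h2
    exact DFunLike.congr_fun (congrArg CommRingCat.Hom.hom h2) r
  have he : ∀ z, (AMonS S M ◁ t).left.appTop.hom (eHom S M T z) = eHom S M T' z := by
    intro z
    have h1 : (AMonS S M ◁ t).left ≫ pr S M T = pr S M T' := by
      unfold pr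
      rw [← Category.assoc, ← Over.comp_left, whiskerLeft_fst]
    have h2 := congrArg (fun f => f.appTop) h1
    simp only [Scheme.Hom.comp_appTop] at h2
    have h3 := DFunLike.congr_fun (congrArg CommRingCat.Hom.hom h2)
      ((Scheme.ΓSpecIso (PM M)).inv.hom z)
    exact h3
  have key : ((AMonS S M ◁ t).left.appTop.hom).comp (kappa S M T) =
      (kappa S M T').comp (MonoidAlgebra.mapRingHom _ t.left.appTop.hom) := by
    apply MonoidAlgebra.ringHom_ext
    · intro r
      simp only [RingHom.comp_apply, MonoidAlgebra.mapRingHom_single]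
      rw [kappa_single_one, kappa_single_one, hc]
    · intro m
      simp only [RingHom.comp_apply, MonoidAlgebra.mapRingHom_single, map_one]
      rw [kappa_single_of, kappa_single_of, he]
  exact DFunLike.congr_fun key y

/-- naturality in the monoid -/
theorem kappa_natM {N : Type} [AddCommMonoid N] (g : N →+ M)
    (y : MonoidAlgebra Γ(T.left, ⊤) (Multiplicative N)) :
    (AMonS.map S g ▷ T).left.appTop.hom (kappa S N T y) =
      kappa S M T (MonoidAlgebra.mapDomainRingHom _ (AddMonoidHom.toMultiplicative g) y) := by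
  have hc : ∀ r, (AMonS.map S g ▷ T).left.appTop.hom (cHom S N T r) = cHom S M T r := by
    intro r
    have h1 : (AMonS.map S g ▷ T).left ≫ (snd (AMonS S N) T).left = (snd (AMonS S M) T).left := by
      rw [← Over.comp_left, whiskerRight_snd]
    have h2 := congrArg (fun f => f.appTop) h1
    simp only [Scheme.Hom.comp_appTop] at h2
    exact DFunLike.congr_fun (congrArg CommRingCat.Hom.hom h2) r
  have he : ∀ z, (AMonS.map S g ▷ T).left.appTop.hom (eHom S N T z) =
      eHom S M T ((MonoidAlgebra.mapDomainBialgHom (ULift.{u} ℤ)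
        (AddMonoidHom.toMultiplicative g)).toAlgHom.toRingHom z) := by
    intro z
    have h0 : (AMonS.map S g).left ≫ pullback.fst (AMon (ULift.{u} ℤ) N).hom
        (Limits.IsTerminal.from specULiftZIsTerminal S) =
        pullback.fst (AMon (ULift.{u} ℤ) M).hom (Limits.IsTerminal.from specULiftZIsTerminal S) ≫
          (AMon.map (ULift.{u} ℤ) g).left :=
      (UDM.isPullback_overPullback_map (Limits.IsTerminal.from specULiftZIsTerminal S)
        (AMon.map (ULift.{u} ℤ) g)).w
    have h1 : (AMonS.map S g ▷ T).left ≫ pr S N T = pr S M T ≫ Spec.map (CommRingCat.ofHom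
        (MonoidAlgebra.mapDomainBialgHom (ULift.{u} ℤ)
          (AddMonoidHom.toMultiplicative g)).toAlgHom.toRingHom) := by
      have hA : (AMonS.map S g ▷ T).left ≫ (fst (AMonS S N) T).left =
          (fst (AMonS S M) T).left ≫ (AMonS.map S g).left := by
        rw [← Over.comp_left, whiskerRight_fst, Over.comp_left]
      unfold pr
      calc _ = ((AMonS.map S g ▷ T).left ≫ (fst (AMonS S N) T).left) ≫ pullback.fst _ _ :=
            (Category.assoc _ _ _).symm
        _ = ((fst (AMonS S M) T).left ≫ (AMonS.map S g).left) ≫ pullback.fst _ _ := by rw [hA]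
        _ = (fst (AMonS S M) T).left ≫ ((AMonS.map S g).left ≫ pullback.fst _ _) :=
            Category.assoc _ _ _
        _ = (fst (AMonS S M) T).left ≫ (pullback.fst _ _ ≫ (AMon.map (ULift.{u} ℤ) g).left) :=
            congrArg _ h0
        _ = _ := (Category.assoc _ _ _).symm
    have h2 := congrArg (fun f => f.appTop) h1
    simp only [Scheme.Hom.comp_appTop] at h2
    have h3 := DFunLike.congr_fun (congrArg CommRingCat.Hom.hom h2)
      ((Scheme.ΓSpecIso (PM N)).inv.hom z)
    refine h3.trans ?_
    have h4 := Scheme.ΓSpecIso_inv_naturality (CommRingCat.ofHom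
        (MonoidAlgebra.mapDomainBialgHom (ULift.{u} ℤ)
          (AddMonoidHom.toMultiplicative g)).toAlgHom.toRingHom)
    have h5 := DFunLike.congr_fun (congrArg CommRingCat.Hom.hom h4) z
    change (pr S M T).appTop.hom ((Spec.map (CommRingCat.ofHom
        (MonoidAlgebra.mapDomainBialgHom (ULift.{u} ℤ)
          (AddMonoidHom.toMultiplicative g)).toAlgHom.toRingHom)).appTop.hom
            ((Scheme.ΓSpecIso (PM N)).inv.hom z)) = _
    change _ = ((Spec.map (CommRingCat.ofHom
        (MonoidAlgebra.mapDomainBialgHom (ULift.{u} ℤ)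
          (AddMonoidHom.toMultiplicative g)).toAlgHom.toRingHom)).appTop.hom
            ((Scheme.ΓSpecIso (PM N)).inv.hom z)) at h5
    rw [← h5]
    rfl
  have key : ((AMonS.map S g ▷ T).left.appTop.hom).comp (kappa S N T) =
      (kappa S M T).comp (MonoidAlgebra.mapDomainRingHom _ (AddMonoidHom.toMultiplicative g)) := by
    apply MonoidAlgebra.ringHom_ext
    · intro r
      simp only [RingHom.comp_apply, MonoidAlgebra.mapDomainRingHom_apply,
        MonoidAlgebra.mapDomain_single, map_one]
      rw [kappa_single_one, kappa_single_one, hc]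
    · intro m
      simp only [RingHom.comp_apply, MonoidAlgebra.mapDomainRingHom_apply,
        MonoidAlgebra.mapDomain_single]
      rw [kappa_single_of, kappa_single_of, he]
      congr 1
      simp
  exact DFunLike.congr_fun key y

/-- the structure map `ℤ' → Γ(T)` -/
noncomputable def zr : ULift.{u} ℤ →+* Γ(T.left, ⊤) :=
  (Int.castRingHom Γ(T.left, ⊤)).comp (ULift.ringEquiv : ULift.{u} ℤ ≃+* ℤ).toRingHom

theorem kappa_comp_map :
    (kappa S M T).comp (MonoidAlgebra.mapRingHom (Multiplicative M) (zr S T)) = eHom S M T := by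
  apply MonoidAlgebra.ringHom_ext
  · intro z
    simp only [RingHom.comp_apply, MonoidAlgebra.mapRingHom_single]
    rw [kappa_single_one]
    exact DFunLike.congr_fun (hom_ext_ZZ ((cHom S M T).comp (zr S T))
      ((eHom S M T).comp MonoidAlgebra.singleOneRingHom)) z
  · intro m
    simp only [RingHom.comp_apply, MonoidAlgebra.mapRingHom_single, map_one]
    rw [kappa_single_of]

theorem kappa_bijective [IsAffine T.left] : Function.Bijective (kappa S M T) := by
  have hpo := isPushout_appTop_of_isPullback (isPullback_pr S M T)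
  let a : Γ(T.left, ⊤) ⟶ CommRingCat.of (MonoidAlgebra Γ(T.left, ⊤) (Multiplicative M)) :=
    CommRingCat.ofHom MonoidAlgebra.singleOneRingHom
  let b : Γ(Spec (PM M), ⊤) ⟶ CommRingCat.of (MonoidAlgebra Γ(T.left, ⊤) (Multiplicative M)) :=
    (Scheme.ΓSpecIso (PM M)).hom ≫
      CommRingCat.ofHom (MonoidAlgebra.mapRingHom (Multiplicative M) (zr S T))
  let inv := hpo.desc a b (hom_ext_ΓZZ _ _)
  have h1 : (snd (AMonS S M) T).left.appTop ≫ inv = a := hpo.inl_desc _ _ _
  have h2 : (pr S M T).appTop ≫ inv = b := hpo.inr_desc _ _ _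
  have hk : CommRingCat.ofHom (kappa S M T) ≫ inv = 𝟙 _ := by
    apply CommRingCat.hom_ext
    apply MonoidAlgebra.ringHom_ext
    · intro r
      change inv.hom (kappa S M T (MonoidAlgebra.single 1 r)) = MonoidAlgebra.single 1 r
      rw [kappa_single_one]
      exact DFunLike.congr_fun (congrArg CommRingCat.Hom.hom h1) r
    · intro m
      change inv.hom (kappa S M T (MonoidAlgebra.single m 1)) = MonoidAlgebra.single m 1
      rw [kappa_single_of]
      have h3 := DFunLike.congr_fun (congrArg CommRingCat.Hom.hom h2)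
        ((Scheme.ΓSpecIso (PM M)).inv.hom (MonoidAlgebra.single m 1))
      refine h3.trans ?_
      change (MonoidAlgebra.mapRingHom (Multiplicative M) (zr S T))
        ((Scheme.ΓSpecIso (PM M)).hom.hom ((Scheme.ΓSpecIso (PM M)).inv.hom
          (MonoidAlgebra.single m 1))) = _
      have h4 : (Scheme.ΓSpecIso (PM M)).hom.hom ((Scheme.ΓSpecIso (PM M)).inv.hom
          (MonoidAlgebra.single m (1 : ULift.{u} ℤ))) = MonoidAlgebra.single m 1 := by
        rw [← CommRingCat.comp_apply, Iso.inv_hom_id]
        rfl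
      rw [h4, MonoidAlgebra.mapRingHom_single, map_one]
  have hk' : inv ≫ CommRingCat.ofHom (kappa S M T) = 𝟙 _ := by
    apply hpo.hom_ext
    · rw [← Category.assoc, h1, Category.comp_id]
      apply CommRingCat.hom_ext
      ext r
      exact kappa_single_one S M T r
    · rw [← Category.assoc, h2, Category.comp_id]
      have h5 : b ≫ CommRingCat.ofHom (kappa S M T) =
          (Scheme.ΓSpecIso (PM M)).hom ≫ CommRingCat.ofHom (eHom S M T) := by
        rw [← kappa_comp_map]
        rfl
      rw [h5]
      unfold eHom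
      rw [CommRingCat.ofHom_hom, Iso.hom_inv_id_assoc]
  constructor
  · intro x y hxy
    have := congrArg inv.hom hxy
    have e1 : ∀ z, inv.hom (kappa S M T z) = z := fun z =>
      DFunLike.congr_fun (congrArg CommRingCat.Hom.hom hk) z
    rw [e1, e1] at this
    exact this
  · intro w
    exact ⟨inv.hom w, DFunLike.congr_fun (congrArg CommRingCat.Hom.hom hk') w⟩

end Groth.Agent.H9.MagKun
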