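import Mathlib
import Groth.Prelude.Def_Magnet2
import Groth.Agent.H4.GaGm
import Groth.Agent.Lib.Helper9.Misc.MagKun

/-! Helper9: characters of points of the diagonalizable monoid scheme `A(M)_S`; multiplicativity; evaluation of
the Künneth map at a point. -/

set_option linter.style.haveILetI false
set_option linter.unusedSectionVars false
set_option autoImplicit false

namespace Groth.Agent.H9.MagChr

universe u

open CategoryTheory CategoryTheory.Limits AlgebraicGeometry MonoidalCategory
  CartesianMonoidalCategory MonObj Opposite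
open Magnet
open Groth.Agent.H9.MagKun
open Groth.Agent.H4.GaGm (ev ev₂ ev_mul ev₂_tmul)

section adj

variable {S Z : Scheme.{u}} (f : S ⟶ Z) (H : Over Z) [MonObj H] {X : Over S}

/-- transpose of a point of a base-changed monoid -/
noncomputable def tr (x : X ⟶ Red.bc f H) : (Over.map f).obj X ⟶ H :=
  ((Over.mapPullbackAdj f).homEquiv X H).symm x

theorem tr_left (x : X ⟶ Red.bc f H) : (tr f H x).left = x.left ≫ pullback.fst _ _ := rfl

theorem homEquiv_mul (b b' : (Over.map f).obj X ⟶ H) :
    (Over.mapPullbackAdj f).homEquiv X H (b * b') =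
      (Over.mapPullbackAdj f).homEquiv X H b * (Over.mapPullbackAdj f).homEquiv X H b' := by
  rw [Adjunction.homEquiv_unit, Adjunction.homEquiv_unit, Adjunction.homEquiv_unit,
    Functor.map_mul, MonObj.comp_mul]

theorem tr_mul (x y : X ⟶ Red.bc f H) : tr f H (x * y) = tr f H x * tr f H y := by
  apply ((Over.mapPullbackAdj f).homEquiv X H).injective
  rw [homEquiv_mul]
  simp [tr]

end adj

variable {S : Scheme.{u}} {M : Type} [AddCommMonoid M] {T : Over S}

/-- evaluation of a point of `A(M)_S` on functions of `A(M)_ℤ` -/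
noncomputable def evHom (g : T ⟶ AMonS S M) :
    MonoidAlgebra (ULift.{u} ℤ) (Multiplicative M) →+* Γ(T.left, ⊤) :=
  ((g.left ≫ pullback.fst (AMon (ULift.{u} ℤ) M).hom
      (Limits.IsTerminal.from specULiftZIsTerminal S)).appTop.hom).comp
    (Scheme.ΓSpecIso (PM M)).inv.hom

theorem evHom_eq_ev (g : T ⟶ AMonS S M) (z : MonoidAlgebra (ULift.{u} ℤ) (Multiplicative M)) :
    evHom g z =
      ev (tr (Limits.IsTerminal.from specULiftZIsTerminal S) (AMon (ULift.{u} ℤ) M) g) z := rfl

/-- the character attached to a point of `A(M)_S` -/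
noncomputable def chr (g : T ⟶ AMonS S M) : Multiplicative M →* Γ(T.left, ⊤) :=
  ((evHom g : MonoidAlgebra (ULift.{u} ℤ) (Multiplicative M) →+* Γ(T.left, ⊤)) :
      MonoidAlgebra (ULift.{u} ℤ) (Multiplicative M) →* Γ(T.left, ⊤)).comp
    (MonoidAlgebra.of (ULift.{u} ℤ) (Multiplicative M))

theorem chr_apply (g : T ⟶ AMonS S M) (m : Multiplicative M) :
    chr g m = (g.left ≫ pullback.fst (AMon (ULift.{u} ℤ) M).hom
      (Limits.IsTerminal.from specULiftZIsTerminal S)).appTop.hom
        ((Scheme.ΓSpecIso (PM M)).inv.hom (MonoidAlgebra.single m 1)) := rfl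

theorem chr_eq_evHom (g : T ⟶ AMonS S M) (m : Multiplicative M) :
    chr g m = evHom g (MonoidAlgebra.single m 1) := rfl

theorem chr_mul (g h : T ⟶ AMonS S M) (m : Multiplicative M) :
    chr (g * h) m = chr g m * chr h m := by
  rw [chr_eq_evHom, chr_eq_evHom, chr_eq_evHom, evHom_eq_ev, evHom_eq_ev, evHom_eq_ev,
    tr_mul, ev_mul, MonoidAlgebra.comul_single, CommSemiring.comul_apply]
  exact ev₂_tmul _ _ _ _

theorem chr_precomp {T' : Over S} (t : T' ⟶ T) (g : T ⟶ AMonS S M) (m : Multiplicative M) :
    chr (t ≫ g) m = t.left.appTop.hom (chr g m) := by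
  rw [chr_apply, chr_apply, Over.comp_left, Category.assoc, Scheme.Hom.comp_appTop]
  rfl

theorem chr_fst (T : Over S) (m : Multiplicative M) :
    chr (fst (AMonS S M) T) m = kappa S M T (MonoidAlgebra.single m 1) := by
  rw [kappa_single_of]
  rfl

/-- evaluating the Künneth map at a point -/
theorem eval_kappa {T T' : Over S} (g : T ⟶ AMonS S M) (x : T ⟶ T')
    (y : MonoidAlgebra Γ(T'.left, ⊤) (Multiplicative M)) :
    (lift g x).left.appTop.hom (kappa S M T' y) =
      MonoidAlgebra.liftNCRingHom x.left.appTop.hom (chr g) (fun _ _ => Commute.all _ _) y := by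
  have key : ((lift g x).left.appTop.hom).comp (kappa S M T') =
      MonoidAlgebra.liftNCRingHom x.left.appTop.hom (chr g) (fun _ _ => Commute.all _ _) := by
    apply MonoidAlgebra.ringHom_ext
    · intro r
      rw [RingHom.comp_apply, kappa_single_one, MonoidAlgebra.liftNCRingHom_single, map_one,
        _root_.mul_one]
      have h1 : (lift g x).left ≫ (snd (AMonS S M) T').left = x.left := by
        rw [← Over.comp_left, lift_snd]
      have h2 := congrArg (fun f => f.appTop) h1
      simp only [Scheme.Hom.comp_appTop] at h2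
      exact DFunLike.congr_fun (congrArg CommRingCat.Hom.hom h2) r
    · intro m
      rw [RingHom.comp_apply, kappa_single_of, MonoidAlgebra.liftNCRingHom_single, map_one,
        _root_.one_mul, chr_apply]
      have h1 : (lift g x).left ≫ pr S M T' = g.left ≫ pullback.fst (AMon (ULift.{u} ℤ) M).hom
          (Limits.IsTerminal.from specULiftZIsTerminal S) := by
        unfold pr
        rw [← Category.assoc, ← Over.comp_left, lift_fst]
        rfl
      have h2 := congrArg (fun f => f.appTop) h1
      simp only [Scheme.Hom.comp_appTop] at h2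
      exact DFunLike.congr_fun (congrArg CommRingCat.Hom.hom h2)
        ((Scheme.ΓSpecIso (PM M)).inv.hom (MonoidAlgebra.single m 1))
  exact DFunLike.congr_fun key y

end Groth.Agent.H9.MagChr
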