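import Mathlib
import Groth.Prelude.Def_Magnet2
import Groth.Agent.Lib.Helper9.Misc.MagKun

/-! Helper9: local criterion for extending orbit maps `A(M)_S × T → X` to `A(N)_S × T`, over an affine open
of the base, for `X` affine over `S`. -/

set_option linter.style.haveILetI false
set_option linter.unusedSectionVars false
set_option autoImplicit false

namespace Groth.Agent.H9.MagLoc

universe u

open CategoryTheory CategoryTheory.Limits AlgebraicGeometry MonoidalCategory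
  CartesianMonoidalCategory MonObj Opposite
open Magnet
open Groth.Agent.H9.MagKun

section Alg

/-- lifting a ring hom through an injective ring hom -/
theorem exists_ringHom_lift {A A' B : Type*} [CommRing A] [CommRing A'] [CommRing B]
    (i : A' →+* A) (hi : Function.Injective i) (w : B →+* A) (h : ∀ b, ∃ y, i y = w b) :
    ∃ β : B →+* A', i.comp β = w := by
  choose f hf using h
  refine ⟨{ toFun := f, map_one' := ?_, map_mul' := ?_, map_zero' := ?_, map_add' := ?_ }, ?_⟩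
  · apply hi; rw [hf, map_one, map_one]
  · intro x y; apply hi; rw [hf, map_mul, map_mul, hf, hf]
  · apply hi; rw [hf, map_zero, map_zero]
  · intro x y; apply hi; rw [hf, map_add, map_add, hf, hf]
  · ext b; exact hf b

variable {R : Type*} [CommRing R] {M : Type} [AddCommMonoid M] (N : AddSubmonoid M)

theorem coeff_mapDomain_eq_zero (y : MonoidAlgebra R (Multiplicative N)) (m : M) (hm : m ∉ N) :
    (MonoidAlgebra.mapDomainRingHom R (AddMonoidHom.toMultiplicative N.subtype) y).coeff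
      (Multiplicative.ofAdd m) = 0 := by
  change (Finsupp.mapDomain (AddMonoidHom.toMultiplicative N.subtype) y.coeff)
    (Multiplicative.ofAdd m) = 0
  apply Finsupp.mapDomain_of_notMem_range
  rintro ⟨n, hn⟩
  apply hm
  have : (n.toAdd : M) = m := hn
  rw [← this]
  exact n.toAdd.2

theorem exists_mapDomain_eq (z : MonoidAlgebra R (Multiplicative M))
    (hz : ∀ m : M, m ∉ N → z.coeff (Multiplicative.ofAdd m) = 0) :
    ∃ y : MonoidAlgebra R (Multiplicative N),
      MonoidAlgebra.mapDomainRingHom R (AddMonoidHom.toMultiplicative N.subtype) y = z := by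
  have hinj : Function.Injective (AddMonoidHom.toMultiplicative N.subtype) :=
    fun a b h => by
      have h' : ((a.toAdd : N) : M) = ((b.toAdd : N) : M) := h
      exact congrArg Multiplicative.ofAdd (Subtype.ext h')
  refine ⟨MonoidAlgebra.comapDomain _ hinj z, ?_⟩
  change MonoidAlgebra.mapDomain _ _ = z
  apply MonoidAlgebra.mapDomain_comapDomain
  intro m hm
  by_contra hcon
  have hm' : z.coeff m ≠ 0 := Finsupp.mem_support_iff.mp hm
  apply hm'
  refine hz m.toAdd ?_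
  intro hmem
  exact hcon ⟨Multiplicative.ofAdd ⟨m.toAdd, hmem⟩, rfl⟩

theorem mapDomain_injective :
    Function.Injective (MonoidAlgebra.mapDomainRingHom R (AddMonoidHom.toMultiplicative N.subtype)) := by
  have hinj : Function.Injective (AddMonoidHom.toMultiplicative N.subtype) :=
    fun a b h => by
      have h' : ((a.toAdd : N) : M) = ((b.toAdd : N) : M) := h
      exact congrArg Multiplicative.ofAdd (Subtype.ext h')
  exact MonoidAlgebra.mapDomain_injective hinj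

end Alg

section Sch

/-- morphism to an affine scheme from a ring map, with its `appTop` -/
theorem exists_hom_appTop (P Y : Scheme.{u}) [IsAffine Y] (β : Γ(Y, ⊤) ⟶ Γ(P, ⊤)) :
    ∃ ψ : P ⟶ Y, ψ.appTop = β := by
  refine ⟨P.toSpecΓ ≫ Spec.map β ≫ Y.isoSpec.inv, ?_⟩
  have e' : Y.isoSpec.inv.appTop ≫ (Scheme.ΓSpecIso Γ(Y, ⊤)).hom = 𝟙 _ := by
    have h1 : Y.toSpecΓ ≫ Y.isoSpec.inv = 𝟙 _ := Y.isoSpec.hom_inv_id
    rw [← Scheme.toSpecΓ_appTop, ← Scheme.Hom.comp_appTop, h1]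
    rfl
  have e : Y.isoSpec.inv.appTop = (Scheme.ΓSpecIso Γ(Y, ⊤)).inv :=
    (Iso.comp_hom_eq_id _).mp e'
  rw [Scheme.Hom.comp_appTop, Scheme.Hom.comp_appTop, e, Scheme.toSpecΓ_appTop, Category.assoc,
    Scheme.ΓSpecIso_naturality, Iso.inv_hom_id_assoc]

/-- closed subscheme of an affine scheme cut out by an ideal -/
theorem exists_closed_affine (Y : Scheme.{u}) [IsAffine Y] (I : Ideal Γ(Y, ⊤)) :
    ∃ (Z : Scheme.{u}) (z : Z ⟶ Y), IsClosedImmersion z ∧ IsAffine Z ∧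
      (∀ y ∈ I, z.appTop.hom y = 0) ∧
      ∀ {T : Scheme.{u}} (x : T ⟶ Y), (∀ y ∈ I, x.appTop.hom y = 0) → ∃ w : T ⟶ Z, w ≫ z = x := by
  obtain ⟨q, hq⟩ : ∃ q : Γ(Y, ⊤) ⟶ CommRingCat.of (Γ(Y, ⊤) ⧸ I),
      q = CommRingCat.ofHom (Ideal.Quotient.mk I) := ⟨_, rfl⟩
  have e' : Y.isoSpec.inv.appTop ≫ (Scheme.ΓSpecIso Γ(Y, ⊤)).hom = 𝟙 _ := by
    have h1 : Y.toSpecΓ ≫ Y.isoSpec.inv = 𝟙 _ := Y.isoSpec.hom_inv_id
    rw [← Scheme.toSpecΓ_appTop, ← Scheme.Hom.comp_appTop, h1]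
    rfl
  have e : Y.isoSpec.inv.appTop = (Scheme.ΓSpecIso Γ(Y, ⊤)).inv :=
    (Iso.comp_hom_eq_id _).mp e'
  have happ : (Spec.map q ≫ Y.isoSpec.inv).appTop = q ≫ (Scheme.ΓSpecIso _).inv := by
    rw [Scheme.Hom.comp_appTop, e, ← Scheme.ΓSpecIso_inv_naturality]
  have hcl : IsClosedImmersion (Spec.map q ≫ Y.isoSpec.inv) := by
    rw [hq]
    haveI : IsClosedImmersion (Spec.map (CommRingCat.ofHom (Ideal.Quotient.mk I))) :=
      IsClosedImmersion.spec_of_surjective _ Ideal.Quotient.mk_surjective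
    infer_instance
  refine ⟨Spec (CommRingCat.of (Γ(Y, ⊤) ⧸ I)), Spec.map q ≫ Y.isoSpec.inv, hcl, inferInstance,
    ?_, ?_⟩
  · intro y hy
    rw [happ, hq]
    change (Scheme.ΓSpecIso (CommRingCat.of (Γ(Y, ⊤) ⧸ I))).inv.hom (Ideal.Quotient.mk I y) = 0
    rw [Ideal.Quotient.eq_zero_iff_mem.mpr hy, map_zero]
  · intro T x hx
    have hker : ∀ y ∈ I, x.appTop.hom y = 0 := hx
    refine ⟨T.toSpecΓ ≫ Spec.map (CommRingCat.ofHom (Ideal.Quotient.lift I x.appTop.hom hker)), ?_⟩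
    have h2 : q ≫ CommRingCat.ofHom (Ideal.Quotient.lift I x.appTop.hom hker) = x.appTop := by
      rw [hq]
      apply CommRingCat.hom_ext
      ext y
      exact Ideal.Quotient.lift_mk I x.appTop.hom hker
    rw [Category.assoc, ← Spec.map_comp_assoc, h2, ← Scheme.toSpecΓ_naturality_assoc]
    have h1 : Y.toSpecΓ ≫ Y.isoSpec.inv = 𝟙 _ := Y.isoSpec.hom_inv_id
    rw [h1, Category.comp_id]

/-- gluing factorizations through a monomorphism -/
theorem factor_of_cover {T Z Y : Scheme.{u}} (z : Z ⟶ Y) [Mono z] (x : T ⟶ Y) (𝒰 : T.OpenCover)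
    (h : ∀ c, ∃ w : 𝒰.X c ⟶ Z, w ≫ z = 𝒰.f c ≫ x) : ∃ w : T ⟶ Z, w ≫ z = x := by
  choose w hw using h
  refine ⟨𝒰.glueMorphisms w ?_, ?_⟩
  · intro c c'
    rw [← cancel_mono z, Category.assoc, Category.assoc, hw, hw, ← Category.assoc, ← Category.assoc,
      pullback.condition]
  · apply 𝒰.hom_ext
    intro c
    rw [← Category.assoc, 𝒰.ι_glueMorphisms, hw]

end Sch

variable {S : Scheme.{u}} {M : Type} [AddCommMonoid M] (N : AddSubmonoid M) {X : Over S}
  (a : MonAct (AMonS S M) X)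

/-- the orbit map of the point `x` extends from `A(M)_S × T` to `A(N)_S × T` -/
def Ext {T : Over S} (x : T ⟶ X) : Prop :=
  ∃ φ : AMonS S N ⊗ T ⟶ X, (AMonS.map S N.subtype ▷ T) ≫ φ = (AMonS S M ◁ x) ≫ a.act

theorem Ext.comp {T T' : Over S} (t : T' ⟶ T) {x : T ⟶ X} (h : Ext N a x) : Ext N a (t ≫ x) := by
  obtain ⟨φ, hφ⟩ := h
  refine ⟨(AMonS S N ◁ t) ≫ φ, ?_⟩
  rw [← whisker_exchange_assoc, hφ, MonoidalCategory.whiskerLeft_comp, Category.assoc]

section Chart

variable (X) (U : S.Opens)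

/-- `X|_U` as an object over `S` -/
noncomputable abbrev XU : Over S := Over.mk ((X.hom ⁻¹ᵁ U).ι ≫ X.hom)

/-- the open immersion `X|_U → X` over `S` -/
noncomputable def x₀ : XU X U ⟶ X := Over.homMk (X.hom ⁻¹ᵁ U).ι rfl

instance : IsOpenImmersion (x₀ X U).left := inferInstanceAs (IsOpenImmersion (X.hom ⁻¹ᵁ U).ι)

instance : Mono (x₀ X U) := Over.mono_of_mono_left _

theorem XU_mem (y : (XU X U).left) : (XU X U).hom y ∈ U := by
  change ((X.hom ⁻¹ᵁ U).ι ≫ X.hom) y ∈ U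
  rw [Scheme.Hom.comp_apply]
  exact y.2

variable {X U}

theorem tensor_mem {A T : Over S} (hT : ∀ t : T.left, T.hom t ∈ U) (p : (A ⊗ T).left) :
    (A ⊗ T).hom p ∈ U := by
  have h : (A ⊗ T).hom = (snd A T).left ≫ T.hom := (Over.w (snd A T)).symm
  rw [h, Scheme.Hom.comp_apply]
  exact hT _

theorem mem_of_hom {T Y : Over S} (hY : ∀ y : Y.left, Y.hom y ∈ U) (f : T ⟶ Y) (t : T.left) :
    T.hom t ∈ U := by
  rw [← Over.w f, Scheme.Hom.comp_apply]
  exact hY _

theorem exists_factor {P : Over S} (hP : ∀ p : P.left, P.hom p ∈ U) (ψ : P ⟶ X) :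
    ∃ ψ' : P ⟶ XU X U, ψ' ≫ x₀ X U = ψ := by
  have hr : Set.range ψ.left ⊆ Set.range (X.hom ⁻¹ᵁ U).ι := by
    rintro _ ⟨p, rfl⟩
    rw [Scheme.Opens.range_ι]
    change X.hom (ψ.left p) ∈ U
    rw [← Scheme.Hom.comp_apply, Over.w ψ]
    exact hP p
  have hoi : IsOpenImmersion (X.hom ⁻¹ᵁ U).ι := inferInstance
  refine ⟨Over.homMk (IsOpenImmersion.lift (X.hom ⁻¹ᵁ U).ι ψ.left hr) ?_, ?_⟩
  · change IsOpenImmersion.lift _ _ _ ≫ (X.hom ⁻¹ᵁ U).ι ≫ X.hom = P.hom
    rw [← Category.assoc, IsOpenImmersion.lift_fac, Over.w ψ]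
  · apply Over.OverMorphism.ext
    change IsOpenImmersion.lift _ _ _ ≫ (X.hom ⁻¹ᵁ U).ι = ψ.left
    exact IsOpenImmersion.lift_fac _ _ _

/-- extension of a morphism along a morphism injective on functions -/
theorem exists_extension (hU : IsAffineOpen U) {Y D P : Over S} [IsAffine Y.left]
    (hY : ∀ y : Y.left, Y.hom y ∈ U) (hP : ∀ p : P.left, P.hom p ∈ U)
    (d : D ⟶ P) (hd : Function.Injective d.left.appTop.hom) (ω : D ⟶ Y)
    (β : Γ(Y.left, ⊤) ⟶ Γ(P.left, ⊤)) (hβ : β ≫ d.left.appTop = ω.left.appTop) :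
    ∃ ψ : P ⟶ Y, d ≫ ψ = ω := by
  obtain ⟨ψ₀, hψ₀⟩ := exists_hom_appTop P.left Y.left β
  have h1 : d.left ≫ ψ₀ = ω.left := by
    apply ext_of_isAffine
    rw [Scheme.Hom.comp_appTop, hψ₀, hβ]
  haveI : IsAffine U.toScheme := hU
  have hr1 : Set.range (ψ₀ ≫ Y.hom) ⊆ Set.range U.ι := by
    rintro _ ⟨p, rfl⟩
    rw [Scheme.Opens.range_ι, Scheme.Hom.comp_apply]
    exact hY _
  have hr2 : Set.range P.hom ⊆ Set.range U.ι := by
    rintro _ ⟨p, rfl⟩
    rw [Scheme.Opens.range_ι]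
    exact hP _
  have h2 : IsOpenImmersion.lift U.ι (ψ₀ ≫ Y.hom) hr1 = IsOpenImmersion.lift U.ι P.hom hr2 := by
    apply ext_of_isAffine
    apply CommRingCat.hom_ext
    apply RingHom.ext
    intro r
    apply hd
    have h3 : d.left ≫ IsOpenImmersion.lift U.ι (ψ₀ ≫ Y.hom) hr1 =
        d.left ≫ IsOpenImmersion.lift U.ι P.hom hr2 := by
      rw [← cancel_mono U.ι, Category.assoc, Category.assoc, IsOpenImmersion.lift_fac,
        IsOpenImmersion.lift_fac, ← Category.assoc, h1, Over.w ω, Over.w d]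
    have h4 := congrArg (fun f => f.appTop) h3
    simp only [Scheme.Hom.comp_appTop] at h4
    exact DFunLike.congr_fun (congrArg CommRingCat.Hom.hom h4) r
  have h5 : ψ₀ ≫ Y.hom = P.hom := by
    rw [← IsOpenImmersion.lift_fac U.ι (ψ₀ ≫ Y.hom) hr1, h2, IsOpenImmersion.lift_fac]
  refine ⟨Over.homMk ψ₀ h5, ?_⟩
  apply Over.OverMorphism.ext
  exact h1

end Chart

section Main

variable (U : S.Opens)

theorem exists_omega : ∃ ω : AMonS S M ⊗ XU X U ⟶ XU X U,
    ω ≫ x₀ X U = (AMonS S M ◁ x₀ X U) ≫ a.act :=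
  exists_factor (tensor_mem (XU_mem X U)) _

variable [IsAffine (XU X U).left] (ω : AMonS S M ⊗ XU X U ⟶ XU X U)

/-- the coaction on the chart -/
noncomputable def rho :
    Γ((XU X U).left, ⊤) →+* MonoidAlgebra Γ((XU X U).left, ⊤) (Multiplicative M) :=
  ((RingEquiv.ofBijective (kappa S M (XU X U)) (kappa_bijective S M (XU X U))).symm :
    Γ((AMonS S M ⊗ XU X U).left, ⊤) →+* MonoidAlgebra Γ((XU X U).left, ⊤) (Multiplicative M)).comp
    ω.left.appTop.hom

theorem kappa_rho (b : Γ((XU X U).left, ⊤)) :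
    kappa S M (XU X U) (rho U ω b) = ω.left.appTop.hom b :=
  (RingEquiv.ofBijective (kappa S M (XU X U)) (kappa_bijective S M (XU X U))).apply_symm_apply _

/-- the ideal generated by the homogeneous components of degree outside `N` -/
noncomputable def Iω : Ideal Γ((XU X U).left, ⊤) :=
  Ideal.span {y | ∃ b, ∃ m : M, m ∉ N ∧ y = (rho U ω b).coeff (Multiplicative.ofAdd m)}

theorem kills_of_ext (hω : ω ≫ x₀ X U = (AMonS S M ◁ x₀ X U) ≫ a.act) {T : Over S}
    [IsAffine T.left] (x : T ⟶ XU X U) (h : Ext N a (x ≫ x₀ X U)) :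
    ∀ y ∈ Iω N U ω, x.left.appTop.hom y = 0 := by
  obtain ⟨φ, hφ⟩ := h
  have hT : ∀ t : T.left, T.hom t ∈ U := mem_of_hom (XU_mem X U) x
  obtain ⟨φ', hφ'⟩ := exists_factor (tensor_mem hT) φ
  have h1 : (AMonS.map S N.subtype ▷ T) ≫ φ' = (AMonS S M ◁ x) ≫ ω := by
    rw [← cancel_mono (x₀ X U), Category.assoc, hφ', hφ, Category.assoc, hω,
      MonoidalCategory.whiskerLeft_comp, Category.assoc]
  have h2 : ∀ b, (AMonS.map S N.subtype ▷ T).left.appTop.hom (φ'.left.appTop.hom b) =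
      (AMonS S M ◁ x).left.appTop.hom (ω.left.appTop.hom b) := by
    intro b
    have := congrArg (fun f => f.left.appTop) h1
    simp only [Over.comp_left, Scheme.Hom.comp_appTop] at this
    exact DFunLike.congr_fun (congrArg CommRingCat.Hom.hom this) b
  suffices hgen : ∀ b (m : M), m ∉ N →
      x.left.appTop.hom ((rho U ω b).coeff (Multiplicative.ofAdd m)) = 0 by
    intro y hy
    have hle : Iω N U ω ≤ RingHom.ker x.left.appTop.hom := by
      apply Ideal.span_le.mpr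
      rintro _ ⟨b, m, hm, rfl⟩
      exact hgen b m hm
    exact hle hy
  intro b m hm
  obtain ⟨y, hy⟩ := (kappa_bijective S N T).2 (φ'.left.appTop.hom b)
  have h3 := h2 b
  have e1 : kappa S M T (MonoidAlgebra.mapDomainRingHom _
      (AddMonoidHom.toMultiplicative N.subtype) y) =
      (AMonS.map S N.subtype ▷ T).left.appTop.hom (φ'.left.appTop.hom b) := by
    rw [← hy]
    exact (kappa_natM S M T N.subtype y).symm
  have e2 : (AMonS S M ◁ x).left.appTop.hom (ω.left.appTop.hom b) =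
      kappa S M T (MonoidAlgebra.mapRingHom _ x.left.appTop.hom (rho U ω b)) := by
    rw [← kappa_rho U ω b]
    exact kappa_natT S M x (rho U ω b)
  have h4 := (kappa_bijective S M T).1 (e1.trans (h3.trans e2))
  have h5 := congrArg (fun z => z.coeff (Multiplicative.ofAdd m)) h4
  simp only [MonoidAlgebra.coeff_mapRingHom] at h5
  rw [← h5]
  exact coeff_mapDomain_eq_zero N y m hm

theorem ext_closed (hU : IsAffineOpen U)
    (hω : ω ≫ x₀ X U = (AMonS S M ◁ x₀ X U) ≫ a.act) {T₁ : Over S} [IsAffine T₁.left]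
    (j₁ : T₁ ⟶ XU X U) (hj : ∀ y ∈ Iω N U ω, j₁.left.appTop.hom y = 0) :
    Ext N a (j₁ ≫ x₀ X U) := by
  have hT : ∀ t : T₁.left, T₁.hom t ∈ U := mem_of_hom (XU_mem X U) j₁
  have hd : Function.Injective (AMonS.map S N.subtype ▷ T₁).left.appTop.hom := by
    intro w w' hww
    obtain ⟨y, rfl⟩ := (kappa_bijective S N T₁).2 w
    obtain ⟨y', rfl⟩ := (kappa_bijective S N T₁).2 w'
    have h := ((kappa_natM S M T₁ N.subtype y).symm.trans hww).trans
      (kappa_natM S M T₁ N.subtype y')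
    have := mapDomain_injective N ((kappa_bijective S M T₁).1 h)
    rw [this]
  have hpt : ∀ b, ∃ w, (AMonS.map S N.subtype ▷ T₁).left.appTop.hom w =
      ((AMonS S M ◁ j₁) ≫ ω).left.appTop.hom b := by
    intro b
    obtain ⟨y, hy⟩ := exists_mapDomain_eq N
      (MonoidAlgebra.mapRingHom _ j₁.left.appTop.hom (rho U ω b)) (by
        intro m hm
        rw [MonoidAlgebra.coeff_mapRingHom]
        exact hj _ (Ideal.subset_span ⟨b, m, hm, rfl⟩))
    refine ⟨kappa S N T₁ y, ?_⟩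
    have e1 : ((AMonS S M ◁ j₁) ≫ ω).left.appTop.hom b =
        (AMonS S M ◁ j₁).left.appTop.hom (ω.left.appTop.hom b) :=
      congrArg (fun f => f.hom b) (Scheme.Hom.comp_appTop (AMonS S M ◁ j₁).left ω.left)
    have e2 : kappa S M T₁ (MonoidAlgebra.mapDomainRingHom _
        (AddMonoidHom.toMultiplicative N.subtype) y) =
        kappa S M T₁ (MonoidAlgebra.mapRingHom _ j₁.left.appTop.hom (rho U ω b)) := by
      rw [hy]
    have e3 : (AMonS S M ◁ j₁).left.appTop.hom (kappa S M (XU X U) (rho U ω b)) =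
        (AMonS S M ◁ j₁).left.appTop.hom (ω.left.appTop.hom b) := by
      rw [kappa_rho]
    exact (kappa_natM S M T₁ N.subtype y).trans (e2.trans
      ((kappa_natT S M j₁ (rho U ω b)).symm.trans (e3.trans e1.symm)))
  obtain ⟨β, hβ⟩ := exists_ringHom_lift _ hd ((AMonS S M ◁ j₁) ≫ ω).left.appTop.hom hpt
  obtain ⟨ψ, hψ⟩ := exists_extension hU (XU_mem X U) (tensor_mem hT)
    (AMonS.map S N.subtype ▷ T₁) hd ((AMonS S M ◁ j₁) ≫ ω) (CommRingCat.ofHom β)
    (by apply CommRingCat.hom_ext; exact hβ)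
  refine ⟨ψ ≫ x₀ X U, ?_⟩
  rw [← Category.assoc, hψ, Category.assoc, hω, MonoidalCategory.whiskerLeft_comp, Category.assoc]

theorem local_main (hU : IsAffineOpen U) :
    ∃ (Z : Scheme.{u}) (z : Z ⟶ (XU X U).left), IsClosedImmersion z ∧
      ∀ (T : Over S) (u : T ⟶ XU X U),
        Ext N a (u ≫ x₀ X U) ↔ ∃ w : T.left ⟶ Z, w ≫ z = u.left := by
  obtain ⟨ω, hω⟩ := exists_omega a U
  obtain ⟨Z, z, hcl, hZ, hz, huniv⟩ := exists_closed_affine (XU X U).left (Iω N U ω)
  refine ⟨Z, z, hcl, fun T u => ⟨fun h => ?_, ?_⟩⟩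
  · haveI : Mono z := inferInstance
    apply factor_of_cover z u.left T.left.affineCover
    intro c
    obtain ⟨tc, htc⟩ : ∃ tc : Over.mk (T.left.affineCover.f c ≫ T.hom) ⟶ T,
        tc.left = T.left.affineCover.f c := ⟨Over.homMk (T.left.affineCover.f c) rfl, rfl⟩
    haveI : IsAffine (Over.mk (T.left.affineCover.f c ≫ T.hom)).left :=
      inferInstanceAs (IsAffine (T.left.affineCover.X c))
    have h1 : Ext N a ((tc ≫ u) ≫ x₀ X U) := by
      have h0 := Ext.comp N a tc h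
      rwa [← Category.assoc] at h0
    have h2 := kills_of_ext N a U ω hω (tc ≫ u) h1
    obtain ⟨w, hw⟩ := huniv (tc ≫ u).left h2
    refine ⟨w, ?_⟩
    rw [hw, Over.comp_left, htc]
  · rintro ⟨w, hw⟩
    obtain ⟨j₁, hj₁⟩ : ∃ j₁ : Over.mk (z ≫ (XU X U).hom) ⟶ XU X U, j₁.left = z :=
      ⟨Over.homMk z rfl, rfl⟩
    haveI : IsAffine (Over.mk (z ≫ (XU X U).hom)).left := hZ
    have h1 : Ext N a (j₁ ≫ x₀ X U) := ext_closed N a U ω hU hω j₁ (by rw [hj₁]; exact hz)
    obtain ⟨w', hw'⟩ : ∃ w' : T ⟶ Over.mk (z ≫ (XU X U).hom), w'.left = w :=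
      ⟨Over.homMk w (by
        change w ≫ z ≫ (XU X U).hom = T.hom
        rw [← Category.assoc, hw, Over.w u]), rfl⟩
    have h2 : w' ≫ j₁ = u := by
      apply Over.OverMorphism.ext
      rw [Over.comp_left, hw', hj₁, hw]
    rw [← h2, Category.assoc]
    exact Ext.comp N a w' h1

end Main

end Groth.Agent.H9.MagLoc
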