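import Mathlib
import Groth.Prelude.Def_Magnet2
import Groth.Agent.Lib.Helper9.Misc.MagKun
import Groth.Agent.Lib.Helper9.Misc.MagChr
import Groth.Agent.Lib.Helper9.Misc.MagLoc
import Groth.Agent.Lib.Helper9.Misc.SIM1
import Groth.Agent.Lib.Helper3.OverUEE

/-! Helper9: points of the diagonalizable monoid scheme `A(M)_S` are characters; fpqc morphisms
of `Over S` stay effective epimorphisms after whiskering. -/

set_option linter.style.haveILetI false
set_option linter.unusedSectionVars false
set_option autoImplicit false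

namespace Groth.Agent.H9.MagPts

universe u

open CategoryTheory CategoryTheory.Limits AlgebraicGeometry MonoidalCategory
  CartesianMonoidalCategory MonObj Opposite
open Magnet
open Groth.Agent.H9.MagKun Groth.Agent.H9.MagChr Groth.Agent.H9.MagLoc

section Pts

variable {S : Scheme.{u}} {M : Type} [AddCommMonoid M] {T : Over S}

theorem evHom_ext (g₁ g₂ : T ⟶ AMonS S M) (h : chr g₁ = chr g₂) : evHom g₁ = evHom g₂ := by
  apply MonoidAlgebra.ringHom_ext
  · intro z
    exact DFunLike.congr_fun (hom_ext_ZZ ((evHom g₁).comp MonoidAlgebra.singleOneRingHom)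
      ((evHom g₂).comp MonoidAlgebra.singleOneRingHom)) z
  · intro m
    exact DFunLike.congr_fun h m

theorem chr_injective : Function.Injective (chr (S := S) (M := M) (T := T)) := by
  intro g₁ g₂ h
  apply Over.OverMorphism.ext
  apply pullback.hom_ext
  · haveI : IsAffine (AMon (ULift.{u} ℤ) M).left := inferInstanceAs (IsAffine (Spec (PM M)))
    apply ext_of_isAffine
    have key : (Scheme.ΓSpecIso (PM M)).inv ≫ (g₁.left ≫ pullback.fst (AMon (ULift.{u} ℤ) M).hom
        (Limits.IsTerminal.from specULiftZIsTerminal S)).appTop =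
        (Scheme.ΓSpecIso (PM M)).inv ≫ (g₂.left ≫ pullback.fst (AMon (ULift.{u} ℤ) M).hom
        (Limits.IsTerminal.from specULiftZIsTerminal S)).appTop := by
      apply CommRingCat.hom_ext
      exact evHom_ext g₁ g₂ h
    exact (Iso.cancel_iso_inv_left (Scheme.ΓSpecIso (PM M)) _ _).mp key
  · exact (Over.w g₁).trans (Over.w g₂).symm

theorem chr_surjective (χ : Multiplicative M →* Γ(T.left, ⊤)) :
    ∃ g : T ⟶ AMonS S M, chr g = χ := by
  let R : MonoidAlgebra (ULift.{u} ℤ) (Multiplicative M) →+* Γ(T.left, ⊤) :=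
    MonoidAlgebra.liftNCRingHom (zr S T) χ (fun _ _ => Commute.all _ _)
  obtain ⟨ψ, hψ⟩ := exists_hom_appTop T.left (Spec (PM M))
    ((Scheme.ΓSpecIso (PM M)).hom ≫ CommRingCat.ofHom R)
  obtain ⟨g, hg⟩ : ∃ g : T ⟶ AMonS S M, g.left ≫ pullback.fst (AMon (ULift.{u} ℤ) M).hom
      (Limits.IsTerminal.from specULiftZIsTerminal S) = ψ :=
    ⟨Over.homMk (pullback.lift ψ T.hom (specULiftZIsTerminal.hom_ext _ _))
      (pullback.lift_snd _ _ _), pullback.lift_fst _ _ _⟩
  refine ⟨g, ?_⟩
  apply MonoidHom.ext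
  intro m
  rw [chr_apply]
  have e : (g.left ≫ pullback.fst (AMon (ULift.{u} ℤ) M).hom
      (Limits.IsTerminal.from specULiftZIsTerminal S)).appTop =
      (Scheme.ΓSpecIso (PM M)).hom ≫ CommRingCat.ofHom R :=
    (congrArg Scheme.Hom.appTop hg).trans hψ
  rw [e]
  change R ((Scheme.ΓSpecIso (PM M)).hom.hom ((Scheme.ΓSpecIso (PM M)).inv.hom
    (MonoidAlgebra.single m 1))) = χ m
  have h4 : (Scheme.ΓSpecIso (PM M)).hom.hom ((Scheme.ΓSpecIso (PM M)).inv.hom
      (MonoidAlgebra.single m (1 : ULift.{u} ℤ))) = MonoidAlgebra.single m 1 := by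
    rw [← CommRingCat.comp_apply, Iso.inv_hom_id]
    rfl
  rw [h4]
  change MonoidAlgebra.liftNCRingHom (zr S T) χ (fun _ _ => Commute.all _ _)
    (MonoidAlgebra.single m 1) = χ m
  rw [MonoidAlgebra.liftNCRingHom_single, map_one, _root_.one_mul]

theorem chr_comp_map {N : Type} [AddCommMonoid N] (φ : N →+ M) (g : T ⟶ AMonS S M)
    (n : Multiplicative N) :
    chr (g ≫ AMonS.map S φ) n = chr g (AddMonoidHom.toMultiplicative φ n) := by
  have h0 : chr (fst (AMonS S M) T ≫ AMonS.map S φ) n =
      chr (fst (AMonS S M) T) (AddMonoidHom.toMultiplicative φ n) := by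
    rw [← whiskerRight_fst, chr_precomp, chr_fst, chr_fst, kappa_natM]
    congr 1
    change MonoidAlgebra.mapDomain _ _ = _
    rw [MonoidAlgebra.mapDomain_single]
  have h1 : g = lift g (𝟙 T) ≫ fst (AMonS S M) T := (lift_fst _ _).symm
  have h2 : chr (g ≫ AMonS.map S φ) n =
      (lift g (𝟙 T)).left.appTop.hom (chr (fst (AMonS S M) T ≫ AMonS.map S φ) n) := by
    rw [← chr_precomp, ← Category.assoc, ← h1]
  have h3 : chr g (AddMonoidHom.toMultiplicative φ n) =
      (lift g (𝟙 T)).left.appTop.hom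
        (chr (fst (AMonS S M) T) (AddMonoidHom.toMultiplicative φ n)) := by
    rw [← chr_precomp, ← h1]
  rw [h2, h3, h0]

end Pts

section Eff

variable {S : Scheme.{u}} {A B : Over S} (p : A ⟶ B)

theorem ff_whiskerRight (h1 : Flat p.left) (h2 : Surjective p.left) (h3 : QuasiCompact p.left)
    (T : Over S) :
    Flat (p ▷ T).left ∧ Surjective (p ▷ T).left ∧ QuasiCompact (p ▷ T).left := by
  have sq := SIM.isPullback_whiskerRight_left p T
  exact ⟨MorphismProperty.of_isPullback sq h1, MorphismProperty.of_isPullback sq h2,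
    MorphismProperty.of_isPullback sq h3⟩

theorem ff_whiskerLeft (h1 : Flat p.left) (h2 : Surjective p.left) (h3 : QuasiCompact p.left)
    (T : Over S) :
    Flat (T ◁ p).left ∧ Surjective (T ◁ p).left ∧ QuasiCompact (T ◁ p).left := by
  have sq := SIM.isPullback_whiskerLeft_left T p
  exact ⟨MorphismProperty.of_isPullback sq h1, MorphismProperty.of_isPullback sq h2,
    MorphismProperty.of_isPullback sq h3⟩

theorem effectiveEpi_of_ff (h1 : Flat p.left) (h2 : Surjective p.left)
    (h3 : QuasiCompact p.left) : EffectiveEpi p :=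
  Groth.Agent.H3.OverUEE.effectiveEpi_of_left p

end Eff

end Groth.Agent.H9.MagPts
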