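import Groth.Agent.Lib.Helper9.Misc.PIN18
set_option autoImplicit false
set_option linter.style.haveILetI false
set_option linter.unusedSectionVars false
set_option linter.unusedVariables false

namespace Groth.Agent.H9.PIN

open AlgebraicGeometry CategoryTheory Limits TopologicalSpace

universe u

section Transport

variable {R A' B A R₁ A'₁ B₁ A₁ : Type*} [CommRing R] [CommRing A'] [CommRing B] [CommRing A]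
  [CommRing R₁] [CommRing A'₁] [CommRing B₁] [CommRing A₁]
  {α : R →+* A'} {β : R →+* B} {p : A' →+* A} {q : B →+* A}
  {α₁ : R₁ →+* A'₁} {β₁ : R₁ →+* B₁} {p₁ : A'₁ →+* A₁} {q₁ : B₁ →+* A₁}

theorem RingPinch.of_bijective (h : RingPinch α β p q)
    (eR : R →+* R₁) (eA' : A' →+* A'₁) (eB : B →+* B₁) (eA : A →+* A₁)
    (hR : Function.Bijective eR) (hA' : Function.Bijective eA') (hB : Function.Bijective eB)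
    (hA : Function.Bijective eA)
    (cα : ∀ r, α₁ (eR r) = eA' (α r)) (cβ : ∀ r, β₁ (eR r) = eB (β r))
    (cp : ∀ x, p₁ (eA' x) = eA (p x)) (cq : ∀ y, q₁ (eB y) = eA (q y)) :
    RingPinch α₁ β₁ p₁ q₁ := by
  refine ⟨?_, ?_, ?_, ?_⟩
  · intro r₁
    obtain ⟨r, rfl⟩ := hR.2 r₁
    rw [cα, cβ, cp, cq, h.comm]
  · intro r₁ h1 h2
    obtain ⟨r, rfl⟩ := hR.2 r₁
    rw [cα] at h1
    rw [cβ] at h2
    have h1' : α r = 0 := hA'.1 (by rw [h1, map_zero])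
    have h2' : β r = 0 := hB.1 (by rw [h2, map_zero])
    rw [h.inj r h1' h2', map_zero]
  · intro x₁ y₁ hxy
    obtain ⟨x, rfl⟩ := hA'.2 x₁
    obtain ⟨y, rfl⟩ := hB.2 y₁
    rw [cp, cq] at hxy
    obtain ⟨r, hr1, hr2⟩ := h.glue x y (hA.1 hxy)
    exact ⟨eR r, by rw [cα, hr1], by rw [cβ, hr2]⟩
  · intro z₁
    obtain ⟨z, rfl⟩ := hA.2 z₁
    obtain ⟨x, rfl⟩ := h.surj z
    exact ⟨eA' x, cp x⟩

end Transport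

variable {X Y Z P : Scheme.{u}} {i : Z ⟶ X} {j : Z ⟶ Y} {a : X ⟶ P} {b : Y ⟶ P}

/-- an all-affine square which is a pinching on global sections is a pinching. -/
theorem isPinch_of_isAffine [IsAffine X] [IsAffine Y] [IsAffine Z] [IsAffine P]
    (sq : i ≫ a = j ≫ b)
    (h : RingPinch a.appTop.hom b.appTop.hom i.appTop.hom j.appTop.hom) : IsPinch i j a b := by
  have hS := isPinch_Spec h
  have hsq : IsOpenSubSquare (Spec.map i.appTop) (Spec.map j.appTop) (Spec.map a.appTop)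
      (Spec.map b.appTop) i j a b Z.isoSpec.hom X.isoSpec.hom Y.isoSpec.hom P.isoSpec.hom :=
    { hn := inferInstance
      hu := inferInstance
      hv := inferInstance
      hw := inferInstance
      sq := hS.w
      sq₁ := sq
      hi := (Scheme.isoSpec_hom_naturality i).symm
      hj := (Scheme.isoSpec_hom_naturality j).symm
      ha := (Scheme.isoSpec_hom_naturality a).symm
      hb := (Scheme.isoSpec_hom_naturality b).symm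
      cu := fun x _ => ⟨X.isoSpec.inv x, by
        rw [← Scheme.Hom.comp_apply, Iso.inv_hom_id]; rfl⟩
      cv := fun y _ => ⟨Y.isoSpec.inv y, by
        rw [← Scheme.Hom.comp_apply, Iso.inv_hom_id]; rfl⟩
      cn := fun z _ => ⟨Z.isoSpec.inv z, by
        rw [← Scheme.Hom.comp_apply, Iso.inv_hom_id]; rfl⟩ }
  exact hsq.isPinch hS

/-- **A pinching can be recognised on an affine open cover.** -/
theorem IsPinch.of_affine_cover (sq : i ≫ a = j ≫ b) {ι : Type*} (𝒲 : ι → P.Opens)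
    (hcov : ∀ p : P, ∃ k, p ∈ 𝒲 k)
    (h : ∀ k, IsAffineOpen (𝒲 k) ∧ IsAffineOpen (a ⁻¹ᵁ 𝒲 k) ∧ IsAffineOpen (b ⁻¹ᵁ 𝒲 k) ∧
      IsAffineOpen (i ⁻¹ᵁ a ⁻¹ᵁ 𝒲 k) ∧
      ∃ e : i ⁻¹ᵁ a ⁻¹ᵁ 𝒲 k ≤ j ⁻¹ᵁ b ⁻¹ᵁ 𝒲 k,
      RingPinch (a.appLE (𝒲 k) (a ⁻¹ᵁ 𝒲 k) le_rfl).hom (b.appLE (𝒲 k) (b ⁻¹ᵁ 𝒲 k) le_rfl).hom
        (i.appLE (a ⁻¹ᵁ 𝒲 k) (i ⁻¹ᵁ a ⁻¹ᵁ 𝒲 k) le_rfl).hom
        (j.appLE (b ⁻¹ᵁ 𝒲 k) (i ⁻¹ᵁ a ⁻¹ᵁ 𝒲 k) e).hom) :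
    IsPinch i j a b := by
  refine IsPinch.of_local sq (fun p => ?_)
  obtain ⟨k, hk⟩ := hcov p
  obtain ⟨h1, h2, h3, h4, e, hR⟩ := h k
  haveI : IsAffine (𝒲 k).toScheme := h1
  haveI : IsAffine (a ⁻¹ᵁ 𝒲 k).toScheme := h2
  haveI : IsAffine (b ⁻¹ᵁ 𝒲 k).toScheme := h3
  haveI : IsAffine (i ⁻¹ᵁ a ⁻¹ᵁ 𝒲 k).toScheme := h4
  refine ⟨(i ⁻¹ᵁ a ⁻¹ᵁ 𝒲 k).toScheme, (a ⁻¹ᵁ 𝒲 k).toScheme, (b ⁻¹ᵁ 𝒲 k).toScheme,
    (𝒲 k).toScheme, i.resLE _ _ le_rfl, j.resLE _ _ e, a.resLE _ _ le_rfl, b.resLE _ _ le_rfl,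
    Scheme.Opens.ι _, Scheme.Opens.ι _, Scheme.Opens.ι _, Scheme.Opens.ι _, ?_, ?_, ?_⟩
  · have sq₁ : i.resLE (a ⁻¹ᵁ 𝒲 k) (i ⁻¹ᵁ a ⁻¹ᵁ 𝒲 k) le_rfl ≫ a.resLE (𝒲 k) (a ⁻¹ᵁ 𝒲 k) le_rfl =
        j.resLE (b ⁻¹ᵁ 𝒲 k) (i ⁻¹ᵁ a ⁻¹ᵁ 𝒲 k) e ≫ b.resLE (𝒲 k) (b ⁻¹ᵁ 𝒲 k) le_rfl := by
      rw [← cancel_mono (𝒲 k).ι]
      simp only [Category.assoc, Scheme.Hom.resLE_comp_ι, Scheme.Hom.resLE_comp_ι_assoc]
      rw [sq]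
    exact
      { hn := inferInstance
        hu := inferInstance
        hv := inferInstance
        hw := inferInstance
        sq := sq
        sq₁ := sq₁
        hi := Scheme.Hom.resLE_comp_ι _ _
        hj := Scheme.Hom.resLE_comp_ι _ _
        ha := Scheme.Hom.resLE_comp_ι _ _
        hb := Scheme.Hom.resLE_comp_ι _ _
        cu := fun x hx => by
          rw [Scheme.Opens.range_ι] at hx ⊢
          exact hx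
        cv := fun y hy => by
          rw [Scheme.Opens.range_ι] at hy ⊢
          exact hy
        cn := fun z hz => by
          rw [Scheme.Opens.range_ι] at hz ⊢
          exact hz }
  · have sq₁ : i.resLE (a ⁻¹ᵁ 𝒲 k) (i ⁻¹ᵁ a ⁻¹ᵁ 𝒲 k) le_rfl ≫ a.resLE (𝒲 k) (a ⁻¹ᵁ 𝒲 k) le_rfl =
        j.resLE (b ⁻¹ᵁ 𝒲 k) (i ⁻¹ᵁ a ⁻¹ᵁ 𝒲 k) e ≫ b.resLE (𝒲 k) (b ⁻¹ᵁ 𝒲 k) le_rfl := by
      rw [← cancel_mono (𝒲 k).ι]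
      simp only [Category.assoc, Scheme.Hom.resLE_comp_ι, Scheme.Hom.resLE_comp_ι_assoc]
      rw [sq]
    refine isPinch_of_isAffine sq₁ ?_
    refine hR.of_bijective (𝒲 k).topIso.inv.hom (a ⁻¹ᵁ 𝒲 k).topIso.inv.hom
      (b ⁻¹ᵁ 𝒲 k).topIso.inv.hom (i ⁻¹ᵁ a ⁻¹ᵁ 𝒲 k).topIso.inv.hom
      (ConcreteCategory.bijective_of_isIso _) (ConcreteCategory.bijective_of_isIso _)
      (ConcreteCategory.bijective_of_isIso _) (ConcreteCategory.bijective_of_isIso _) ?_ ?_ ?_ ?_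
    · intro r
      have := Scheme.Hom.resLE_app_top a (U := 𝒲 k) (V := a ⁻¹ᵁ 𝒲 k) le_rfl
      have h' : (𝒲 k).topIso.inv ≫ (a.resLE (𝒲 k) (a ⁻¹ᵁ 𝒲 k) le_rfl).appTop =
          a.appLE (𝒲 k) (a ⁻¹ᵁ 𝒲 k) le_rfl ≫ (a ⁻¹ᵁ 𝒲 k).topIso.inv := by
        rw [Scheme.Hom.appTop, this, Iso.inv_hom_id_assoc]
      exact congr($h' r)
    · intro r
      have := Scheme.Hom.resLE_app_top b (U := 𝒲 k) (V := b ⁻¹ᵁ 𝒲 k) le_rfl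
      have h' : (𝒲 k).topIso.inv ≫ (b.resLE (𝒲 k) (b ⁻¹ᵁ 𝒲 k) le_rfl).appTop =
          b.appLE (𝒲 k) (b ⁻¹ᵁ 𝒲 k) le_rfl ≫ (b ⁻¹ᵁ 𝒲 k).topIso.inv := by
        rw [Scheme.Hom.appTop, this, Iso.inv_hom_id_assoc]
      exact congr($h' r)
    · intro r
      have := Scheme.Hom.resLE_app_top i (U := a ⁻¹ᵁ 𝒲 k) (V := i ⁻¹ᵁ a ⁻¹ᵁ 𝒲 k) le_rfl
      have h' : (a ⁻¹ᵁ 𝒲 k).topIso.inv ≫
          (i.resLE (a ⁻¹ᵁ 𝒲 k) (i ⁻¹ᵁ a ⁻¹ᵁ 𝒲 k) le_rfl).appTop =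
          i.appLE (a ⁻¹ᵁ 𝒲 k) (i ⁻¹ᵁ a ⁻¹ᵁ 𝒲 k) le_rfl ≫ (i ⁻¹ᵁ a ⁻¹ᵁ 𝒲 k).topIso.inv := by
        rw [Scheme.Hom.appTop, this, Iso.inv_hom_id_assoc]
      exact congr($h' r)
    · intro r
      have := Scheme.Hom.resLE_app_top j (U := b ⁻¹ᵁ 𝒲 k) (V := i ⁻¹ᵁ a ⁻¹ᵁ 𝒲 k) e
      have h' : (b ⁻¹ᵁ 𝒲 k).topIso.inv ≫
          (j.resLE (b ⁻¹ᵁ 𝒲 k) (i ⁻¹ᵁ a ⁻¹ᵁ 𝒲 k) e).appTop =
          j.appLE (b ⁻¹ᵁ 𝒲 k) (i ⁻¹ᵁ a ⁻¹ᵁ 𝒲 k) e ≫ (i ⁻¹ᵁ a ⁻¹ᵁ 𝒲 k).topIso.inv := by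
        rw [Scheme.Hom.appTop, this, Iso.inv_hom_id_assoc]
      exact congr($h' r)
  · rw [Scheme.Opens.range_ι]
    exact hk

end Groth.Agent.H9.PIN
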