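import Mathlib
import Groth.Prelude.Def_Magnet4
import Groth.Agent.Lib.Helper9.Misc.MagKun
import Groth.Agent.Lib.Helper9.Misc.MagLoc
import Groth.Agent.Lib.Helper9.Misc.UDM1
import Groth.Agent.Lib.Helper9.Misc.PIN19

/-! Helper9: the monoid algebra of `N' = L' ∖ (L ∖ N)` is the fibre product of those of `L'` and `N`
over that of `L` (a `RingPinch`), and the Künneth map is natural for face maps. -/

set_option linter.style.haveILetI false
set_option linter.unusedSectionVars false
set_option autoImplicit false

namespace Groth.Agent.H9.MagPush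

universe u

open CategoryTheory CategoryTheory.Limits AlgebraicGeometry MonoidalCategory
  CartesianMonoidalCategory MonObj Opposite
open Magnet
open Groth.Agent.H9.MagKun Groth.Agent.H9.MagLoc Groth.Agent.H9.PIN

section Alg

variable (R : Type u) [CommRing R] {M : Type} [AddCommMonoid M]

/-- coefficient in `M` of an element of `R[X]`, `X ≤ M`. -/
noncomputable def cf (X : AddSubmonoid M) (y : MonoidAlgebra R (Multiplicative ↥X)) (m : M) : R :=
  (MonoidAlgebra.mapDomainRingHom R (AddMonoidHom.toMultiplicative X.subtype) y).coeff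
    (Multiplicative.ofAdd m)

variable {R}

theorem cf_of_notMem (X : AddSubmonoid M) (y : MonoidAlgebra R (Multiplicative ↥X)) (m : M)
    (hm : m ∉ X) : cf R X y m = 0 := coeff_mapDomain_eq_zero X y m hm

theorem cf_ext (X : AddSubmonoid M) (y y' : MonoidAlgebra R (Multiplicative ↥X))
    (h : ∀ m, cf R X y m = cf R X y' m) : y = y' := by
  apply mapDomain_injective X
  apply MonoidAlgebra.ext
  apply Finsupp.ext
  intro m
  exact h (Multiplicative.toAdd m)

theorem cf_add (X : AddSubmonoid M) (y y' : MonoidAlgebra R (Multiplicative ↥X)) (m : M) :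
    cf R X (y + y') m = cf R X y m + cf R X y' m := by
  unfold cf
  rw [map_add, MonoidAlgebra.coeff_add, Finsupp.add_apply]

theorem cf_zero (X : AddSubmonoid M) (m : M) :
    cf R X (0 : MonoidAlgebra R (Multiplicative ↥X)) m = 0 := by
  unfold cf
  rw [map_zero]
  rfl

theorem cf_incl {X X' : AddSubmonoid M} (h : X ≤ X') (y : MonoidAlgebra R (Multiplicative ↥X))
    (m : M) :
    cf R X' (MonoidAlgebra.mapDomainRingHom R
      (AddMonoidHom.toMultiplicative (AddSubmonoid.inclusion h)) y) m = cf R X y m := by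
  unfold cf
  rw [← RingHom.comp_apply, ← MonoidAlgebra.mapDomainRingHom_comp]
  rfl

open Classical in
theorem cf_single (X : AddSubmonoid M) (x : ↥X) (r : R) (m : M) :
    cf R X (MonoidAlgebra.single (Multiplicative.ofAdd x) r) m = if x.1 = m then r else 0 := by
  unfold cf
  change (MonoidAlgebra.mapDomain _ _).coeff _ = _
  rw [MonoidAlgebra.mapDomain_single, MonoidAlgebra.coeff_single]
  by_cases h : x.1 = m
  · rw [if_pos h]
    subst h
    exact Finsupp.single_eq_same
  · rw [if_neg h]
    apply Finsupp.single_eq_of_ne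
    intro hcon
    exact h (congrArg Multiplicative.toAdd hcon).symm

theorem cf_face {N F : AddSubmonoid M} (hF : IsFace N F)
    (y : MonoidAlgebra R (Multiplicative ↥N)) (m : M) (hm : m ∈ F) :
    cf R F (faceAlgHom R hF y) m = cf R N y m := by
  classical
  let f₁ : MonoidAlgebra R (Multiplicative ↥N) →+ R :=
    { toFun := fun y => cf R F (faceAlgHom R hF y) m
      map_zero' := by rw [map_zero, cf_zero]
      map_add' := fun y y' => by rw [map_add, cf_add] }
  let f₂ : MonoidAlgebra R (Multiplicative ↥N) →+ R :=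
    { toFun := fun y => cf R N y m
      map_zero' := cf_zero N m
      map_add' := fun y y' => cf_add N y y' m }
  have key : f₁ = f₂ := by
    apply MonoidAlgebra.addMonoidHom_ext
    intro n r
    change cf R F (faceAlgHom R hF (MonoidAlgebra.single n r)) m =
      cf R N (MonoidAlgebra.single n r) m
    rw [show n = Multiplicative.ofAdd (Multiplicative.toAdd n) from rfl]
    by_cases hn : ((Multiplicative.toAdd n : ↥N) : M) ∈ F
    · rw [faceAlgHom_single_of_mem R hF _ hn, cf_single, cf_single]
    · rw [faceAlgHom_single_of_not_mem R hF _ hn, cf_single]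
      have hne : ((Multiplicative.toAdd n : ↥N) : M) ≠ m := fun h => hn (h ▸ hm)
      rw [if_neg hne, cf_zero]
  exact DFunLike.congr_fun key y

theorem face_surjective {N F : AddSubmonoid M} (hF : IsFace N F) :
    Function.Surjective (faceAlgHom R hF) := by
  intro z
  refine ⟨(MonoidAlgebra.mapDomainBialgHom R
    (AddMonoidHom.toMultiplicative (AddSubmonoid.inclusion hF.le))).toAlgHom z, ?_⟩
  exact DFunLike.congr_fun (faceAlgHom_comp_mapDomain R hF) z

variable (R)

theorem ringPinch (N N' L L' : AddSubmonoid M) (hNL : N ≤ L) (hN'L' : N' ≤ L')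
    (hL : IsFace L' L) (hN : IsFace N' N)
    (hdiff : (N' : Set M) = (L' : Set M) \ ((L : Set M) \ (N : Set M))) :
    RingPinch
      (MonoidAlgebra.mapDomainRingHom R (AddMonoidHom.toMultiplicative (AddSubmonoid.inclusion hN'L')))
      (faceAlgHom R hN).toRingHom (faceAlgHom R hL).toRingHom
      (MonoidAlgebra.mapDomainRingHom R (AddMonoidHom.toMultiplicative (AddSubmonoid.inclusion hNL))) := by
  have hmemN' : ∀ m, m ∈ N' ↔ m ∈ L' ∧ ¬ (m ∈ L ∧ m ∉ N) := by
    intro m
    have := Set.ext_iff.mp hdiff m
    simpa using this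
  refine ⟨?_, ?_, ?_, face_surjective hL⟩
  · intro r
    apply cf_ext
    intro m
    change cf R L (faceAlgHom R hL _) m = cf R L _ m
    rw [cf_incl]
    by_cases hmL : m ∈ L
    · rw [cf_face hL _ m hmL, cf_incl]
      by_cases hmN : m ∈ N
      · exact (cf_face hN r m hmN).symm
      · rw [cf_of_notMem N _ m hmN]
        apply cf_of_notMem
        intro h
        exact ((hmemN' m).mp h).2 ⟨hmL, hmN⟩
    · rw [cf_of_notMem L _ m hmL, cf_of_notMem N _ m (fun h => hmL (hNL h))]
  · intro r h1 _
    apply cf_ext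
    intro m
    rw [← cf_incl hN'L', h1, cf_zero, cf_zero]
  · intro a' b hab
    have hab' : ∀ m, cf R L (faceAlgHom R hL a') m = cf R N b m := by
      intro m
      have := congrArg (fun z => cf R L z m) hab
      change cf R L (faceAlgHom R hL a') m = cf R L _ m at this
      rw [this, cf_incl]
    obtain ⟨r, hr⟩ := exists_mapDomain_eq N'
      (MonoidAlgebra.mapDomainRingHom R (AddMonoidHom.toMultiplicative L'.subtype) a') (by
        intro m hm
        change cf R L' a' m = 0
        by_cases hmL' : m ∈ L'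
        · have h2 : m ∈ L ∧ m ∉ N := by
            by_contra hcon
            exact hm ((hmemN' m).mpr ⟨hmL', hcon⟩)
          rw [← cf_face hL a' m h2.1, hab', cf_of_notMem N b m h2.2]
        · exact cf_of_notMem L' a' m hmL')
    have hr' : ∀ m, cf R N' r m = cf R L' a' m := by
      intro m
      unfold cf
      rw [hr]
    refine ⟨r, ?_, ?_⟩
    · apply cf_ext
      intro m
      rw [cf_incl, hr']
    · apply cf_ext
      intro m
      change cf R N (faceAlgHom R hN r) m = _
      by_cases hmN : m ∈ N
      · rw [cf_face hN r m hmN, hr', ← hab', cf_face hL a' m (hNL hmN)]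
      · rw [cf_of_notMem N _ m hmN, cf_of_notMem N _ m hmN]

end Alg

section Kappa

variable (S : Scheme.{u}) {M : Type} [AddCommMonoid M] {N F : AddSubmonoid M} (hF : IsFace N F)
  (T : Over S)

/-- naturality of the Künneth map for the face morphism -/
theorem kappa_face (y : MonoidAlgebra Γ(T.left, ⊤) (Multiplicative ↥N)) :
    (AMonS.faceMap S hF ▷ T).left.appTop.hom (kappa S ↥N T y) =
      kappa S ↥F T (faceAlgHom Γ(T.left, ⊤) hF y) := by
  have hc : ∀ r, (AMonS.faceMap S hF ▷ T).left.appTop.hom (cHom S ↥N T r) = cHom S ↥F T r := by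
    intro r
    have h1 : (AMonS.faceMap S hF ▷ T).left ≫ (snd (AMonS S ↥N) T).left =
        (snd (AMonS S ↥F) T).left := by
      rw [← Over.comp_left, whiskerRight_snd]
    have h2 := congrArg (fun f => f.appTop) h1
    simp only [Scheme.Hom.comp_appTop] at h2
    exact DFunLike.congr_fun (congrArg CommRingCat.Hom.hom h2) r
  have he : ∀ z, (AMonS.faceMap S hF ▷ T).left.appTop.hom (eHom S ↥N T z) =
      eHom S ↥F T ((faceAlgHom (ULift.{u} ℤ) hF).toRingHom z) := by
    intro z
    have h0 : (AMonS.faceMap S hF).left ≫ pullback.fst (AMon (ULift.{u} ℤ) ↥N).hom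
        (Limits.IsTerminal.from specULiftZIsTerminal S) =
        pullback.fst (AMon (ULift.{u} ℤ) ↥F).hom (Limits.IsTerminal.from specULiftZIsTerminal S) ≫
          (AMon.faceMap (ULift.{u} ℤ) hF).left :=
      (UDM.isPullback_overPullback_map (Limits.IsTerminal.from specULiftZIsTerminal S)
        (AMon.faceMap (ULift.{u} ℤ) hF)).w
    have h1 : (AMonS.faceMap S hF ▷ T).left ≫ pr S ↥N T = pr S ↥F T ≫ Spec.map (CommRingCat.ofHom
        (faceAlgHom (ULift.{u} ℤ) hF).toRingHom) := by
      have hA : (AMonS.faceMap S hF ▷ T).left ≫ (fst (AMonS S ↥N) T).left =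
          (fst (AMonS S ↥F) T).left ≫ (AMonS.faceMap S hF).left := by
        rw [← Over.comp_left, whiskerRight_fst, Over.comp_left]
      unfold pr
      calc _ = ((AMonS.faceMap S hF ▷ T).left ≫ (fst (AMonS S ↥N) T).left) ≫ pullback.fst _ _ :=
            (Category.assoc _ _ _).symm
        _ = ((fst (AMonS S ↥F) T).left ≫ (AMonS.faceMap S hF).left) ≫ pullback.fst _ _ := by rw [hA]
        _ = (fst (AMonS S ↥F) T).left ≫ ((AMonS.faceMap S hF).left ≫ pullback.fst _ _) :=
            Category.assoc _ _ _
        _ = (fst (AMonS S ↥F) T).left ≫ (pullback.fst _ _ ≫ (AMon.faceMap (ULift.{u} ℤ) hF).left) :=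
            congrArg _ h0
        _ = _ := (Category.assoc _ _ _).symm
    have h2 := congrArg (fun f => f.appTop) h1
    simp only [Scheme.Hom.comp_appTop] at h2
    have h3 := DFunLike.congr_fun (congrArg CommRingCat.Hom.hom h2)
      ((Scheme.ΓSpecIso (PM ↥N)).inv.hom z)
    refine h3.trans ?_
    have h4 := Scheme.ΓSpecIso_inv_naturality (CommRingCat.ofHom
        (faceAlgHom (ULift.{u} ℤ) hF).toRingHom)
    have h5 := DFunLike.congr_fun (congrArg CommRingCat.Hom.hom h4) z
    change (pr S ↥F T).appTop.hom ((Spec.map (CommRingCat.ofHom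
        (faceAlgHom (ULift.{u} ℤ) hF).toRingHom)).appTop.hom
            ((Scheme.ΓSpecIso (PM ↥N)).inv.hom z)) = _
    change _ = ((Spec.map (CommRingCat.ofHom
        (faceAlgHom (ULift.{u} ℤ) hF).toRingHom)).appTop.hom
            ((Scheme.ΓSpecIso (PM ↥N)).inv.hom z)) at h5
    rw [← h5]
    rfl
  have key : ((AMonS.faceMap S hF ▷ T).left.appTop.hom).comp (kappa S ↥N T) =
      (kappa S ↥F T).comp (faceAlgHom Γ(T.left, ⊤) hF).toRingHom := by
    apply MonoidAlgebra.ringHom_ext
    · intro r
      have e1 : (faceAlgHom Γ(T.left, ⊤) hF).toRingHom (MonoidAlgebra.single 1 r) =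
          MonoidAlgebra.single 1 r :=
        faceAlgHom_single_of_mem Γ(T.left, ⊤) hF 0 F.zero_mem r
      rw [RingHom.comp_apply, RingHom.comp_apply, e1, kappa_single_one, kappa_single_one, hc]
    · intro m
      rw [RingHom.comp_apply, RingHom.comp_apply, kappa_single_of, he]
      rw [show m = Multiplicative.ofAdd (Multiplicative.toAdd m) from rfl]
      by_cases hm : ((Multiplicative.toAdd m : ↥N) : M) ∈ F
      · have e1 : (faceAlgHom (ULift.{u} ℤ) hF).toRingHom
            (MonoidAlgebra.single (Multiplicative.ofAdd (Multiplicative.toAdd m)) 1) = _ :=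
          faceAlgHom_single_of_mem (ULift.{u} ℤ) hF _ hm 1
        have e2 : (faceAlgHom Γ(T.left, ⊤) hF).toRingHom
            (MonoidAlgebra.single (Multiplicative.ofAdd (Multiplicative.toAdd m)) 1) = _ :=
          faceAlgHom_single_of_mem Γ(T.left, ⊤) hF _ hm 1
        rw [e1, e2, kappa_single_of]
      · have e1 : (faceAlgHom (ULift.{u} ℤ) hF).toRingHom
            (MonoidAlgebra.single (Multiplicative.ofAdd (Multiplicative.toAdd m)) 1) = 0 :=
          faceAlgHom_single_of_not_mem (ULift.{u} ℤ) hF _ hm 1
        have e2 : (faceAlgHom Γ(T.left, ⊤) hF).toRingHom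
            (MonoidAlgebra.single (Multiplicative.ofAdd (Multiplicative.toAdd m)) 1) = 0 :=
          faceAlgHom_single_of_not_mem Γ(T.left, ⊤) hF _ hm 1
        rw [e1, e2, map_zero, map_zero]
  exact DFunLike.congr_fun key y

end Kappa

end Groth.Agent.H9.MagPush
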