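import Mathlib
import Groth.Prelude.Def_Magnet4
import Groth.Agent.Lib.Helper9.Misc.MagPushA
import Groth.Agent.Lib.Helper9.Misc.MagPts
import Groth.Agent.Lib.Helper9.Misc.MagGor

/-! Helper9: the strong deformation retract of `X^N` onto `X^F` for a face `F` of a finitely
generated magnet `N` (S18244). -/

set_option linter.style.haveILetI false
set_option linter.unusedSectionVars false
set_option autoImplicit false

namespace Groth.Agent.H9.MagDef

universe u

open CategoryTheory CategoryTheory.Limits AlgebraicGeometry MonoidalCategory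
  CartesianMonoidalCategory MonObj Opposite
open Magnet
open Groth.Agent.H9.MagKun Groth.Agent.H9.MagChr Groth.Agent.H9.MagPts Groth.Agent.H9.MagPush

variable {S : Scheme.{u}} {M : Type} [AddCommMonoid M] {N F : AddSubmonoid M}

section FaceChr

variable (hF : IsFace N F) {T : Over S}

theorem chr_faceMap_fst_of_mem (n : Multiplicative ↥N) (h : ((Multiplicative.toAdd n : ↥N) : M) ∈ F) :
    chr (fst (AMonS S ↥F) T ≫ AMonS.faceMap S hF) n =
      chr (fst (AMonS S ↥F) T) (Multiplicative.ofAdd ⟨((Multiplicative.toAdd n : ↥N) : M), h⟩) := by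
  rw [← whiskerRight_fst, chr_precomp, chr_fst, chr_fst, kappa_face S hF T]
  congr 1
  exact faceAlgHom_single_of_mem _ hF (Multiplicative.toAdd n) h 1

theorem chr_faceMap_fst_of_not_mem (n : Multiplicative ↥N)
    (h : ((Multiplicative.toAdd n : ↥N) : M) ∉ F) :
    chr (fst (AMonS S ↥F) T ≫ AMonS.faceMap S hF) n = 0 := by
  rw [← whiskerRight_fst, chr_precomp, chr_fst, kappa_face S hF T]
  have : faceAlgHom Γ(T.left, ⊤) hF (MonoidAlgebra.single n 1) = 0 :=
    faceAlgHom_single_of_not_mem _ hF (Multiplicative.toAdd n) h 1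
  rw [this, map_zero]

theorem chr_faceMap_of_mem (g : T ⟶ AMonS S ↥F) (n : Multiplicative ↥N)
    (h : ((Multiplicative.toAdd n : ↥N) : M) ∈ F) :
    chr (g ≫ AMonS.faceMap S hF) n =
      chr g (Multiplicative.ofAdd ⟨((Multiplicative.toAdd n : ↥N) : M), h⟩) := by
  have h1 : g = lift g (𝟙 T) ≫ fst (AMonS S ↥F) T := (lift_fst _ _).symm
  have h2 : chr (g ≫ AMonS.faceMap S hF) n =
      (lift g (𝟙 T)).left.appTop.hom (chr (fst (AMonS S ↥F) T ≫ AMonS.faceMap S hF) n) := by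
    rw [← chr_precomp, ← Category.assoc, ← h1]
  have h3 : chr g (Multiplicative.ofAdd ⟨((Multiplicative.toAdd n : ↥N) : M), h⟩) =
      (lift g (𝟙 T)).left.appTop.hom
        (chr (fst (AMonS S ↥F) T) (Multiplicative.ofAdd ⟨((Multiplicative.toAdd n : ↥N) : M), h⟩)) := by
    rw [← chr_precomp, ← h1]
  rw [h2, h3, chr_faceMap_fst_of_mem hF n h]

theorem chr_faceMap_of_not_mem (g : T ⟶ AMonS S ↥F) (n : Multiplicative ↥N)
    (h : ((Multiplicative.toAdd n : ↥N) : M) ∉ F) :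
    chr (g ≫ AMonS.faceMap S hF) n = 0 := by
  have h1 : g = lift g (𝟙 T) ≫ fst (AMonS S ↥F) T := (lift_fst _ _).symm
  have h2 : chr (g ≫ AMonS.faceMap S hF) n =
      (lift g (𝟙 T)).left.appTop.hom (chr (fst (AMonS S ↥F) T ≫ AMonS.faceMap S hF) n) := by
    rw [← chr_precomp, ← Category.assoc, ← h1]
  rw [h2, chr_faceMap_fst_of_not_mem hF n h, map_zero]

end FaceChr

section Homotopy

theorem pt_mul_comm {T : Over S} (g h : T ⟶ AMonS S ↥N) : g * h = h * g := by
  apply chr_injective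
  apply MonoidHom.ext
  intro m
  rw [chr_mul, chr_mul, _root_.mul_comm]

variable (ℓ : ↥N →+ ℕ)

/-- the character `n ↦ c ^ ℓ n`. -/
noncomputable def chi {T : Over S} (c : Γ(T.left, ⊤)) : Multiplicative ↥N →* Γ(T.left, ⊤) where
  toFun n := c ^ ℓ (Multiplicative.toAdd n)
  map_one' := by rw [toAdd_one, map_zero, pow_zero]
  map_mul' x y := by rw [toAdd_mul, map_add, pow_add]

/-- the `T`-point `c ^ ℓ` of `A(N)`. -/
noncomputable def pc {T : Over S} (c : Γ(T.left, ⊤)) : T ⟶ AMonS S ↥N :=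
  (chr_surjective (chi ℓ c)).choose

theorem chr_pc {T : Over S} (c : Γ(T.left, ⊤)) (n : Multiplicative ↥N) :
    chr (pc ℓ c) n = c ^ ℓ (Multiplicative.toAdd n) :=
  DFunLike.congr_fun (chr_surjective (chi ℓ c)).choose_spec n

theorem pc_precomp {T T' : Over S} (t : T' ⟶ T) (c : Γ(T.left, ⊤)) :
    t ≫ pc ℓ c = pc ℓ (t.left.appTop.hom c) := by
  apply chr_injective
  apply MonoidHom.ext
  intro n
  rw [chr_precomp, chr_pc, chr_pc, map_pow]

/-- multiplication by `c ^ ℓ` on `A(N) × T`. -/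
noncomputable def mc {T : Over S} (c : Γ(T.left, ⊤)) : AMonS S ↥N ⊗ T ⟶ AMonS S ↥N ⊗ T :=
  lift ((snd (AMonS S ↥N) T ≫ pc ℓ c) * fst (AMonS S ↥N) T) (snd (AMonS S ↥N) T)

theorem mc_fst {T : Over S} (c : Γ(T.left, ⊤)) :
    mc ℓ c ≫ fst (AMonS S ↥N) T = (snd (AMonS S ↥N) T ≫ pc ℓ c) * fst (AMonS S ↥N) T :=
  lift_fst _ _

theorem mc_snd {T : Over S} (c : Γ(T.left, ⊤)) :
    mc ℓ c ≫ snd (AMonS S ↥N) T = snd (AMonS S ↥N) T :=
  lift_snd _ _

theorem lift_mc {T T' : Over S} (c : Γ(T.left, ⊤)) (u : T' ⟶ AMonS S ↥N) (t : T' ⟶ T) :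
    lift u t ≫ mc ℓ c = lift ((t ≫ pc ℓ c) * u) t := by
  apply CartesianMonoidalCategory.hom_ext
  · rw [Category.assoc, mc_fst, MonObj.comp_mul, lift_snd_assoc, lift_fst, lift_fst]
  · rw [Category.assoc, mc_snd, lift_snd, lift_snd]

theorem lift_subAct {T' : Over S} (g : T' ⟶ AMonS S M) (b : T' ⟶ AMonS S ↥N) :
    lift g b ≫ (subAct S M N).act = (g ≫ AMonS.map S N.subtype) * b := by
  unfold subAct
  rw [MonAct.lift_restrict_act, MonAct.lift_regular_act]

theorem isEquivariant_mc {X : Over S} (a : MonAct (AMonS S M) X) {T : Over S}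
    (c : Γ(T.left, ⊤)) (φ : AMonS S ↥N ⊗ T ⟶ X)
    (hφ : MonAct.IsEquivariant ((subAct S M N).prod (MonAct.trivial (AMonS S M) T)) a φ) :
    MonAct.IsEquivariant ((subAct S M N).prod (MonAct.trivial (AMonS S M) T)) a
      (mc ℓ c ≫ φ) := by
  rw [MonAct.mem_eqvHom_iff] at hφ ⊢
  intro T' g b t
  have e : (t ≫ pc ℓ c) * (lift g b ≫ (subAct S M N).act) =
      lift g ((t ≫ pc ℓ c) * b) ≫ (subAct S M N).act := by
    rw [lift_subAct, lift_subAct, ← _root_.mul_assoc, pt_mul_comm (t ≫ pc ℓ c),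
      _root_.mul_assoc]
  have e1 : lift (lift g b ≫ (subAct S M N).act) t ≫ mc ℓ c ≫ φ =
      lift ((t ≫ pc ℓ c) * (lift g b ≫ (subAct S M N).act)) t ≫ φ := by
    rw [← Category.assoc, lift_mc]
  have e2 : lift b t ≫ mc ℓ c ≫ φ = lift ((t ≫ pc ℓ c) * b) t ≫ φ := by
    rw [← Category.assoc, lift_mc]
  rw [e1, e2, e]
  exact hφ T' g ((t ≫ pc ℓ c) * b) t

theorem mc_whiskerLeft {T T' : Over S} (t : T' ⟶ T) (c : Γ(T.left, ⊤)) :
    mc ℓ (t.left.appTop.hom c) ≫ (AMonS S ↥N ◁ t) = (AMonS S ↥N ◁ t) ≫ mc ℓ c := by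
  apply CartesianMonoidalCategory.hom_ext
  · rw [Category.assoc, whiskerLeft_fst, mc_fst, Category.assoc, mc_fst, MonObj.comp_mul,
      whiskerLeft_fst, whiskerLeft_snd_assoc, pc_precomp ℓ t c]
  · rw [Category.assoc, whiskerLeft_snd, ← Category.assoc, mc_snd, Category.assoc, mc_snd,
      whiskerLeft_snd]

theorem mc_one {T : Over S} : mc ℓ (1 : Γ(T.left, ⊤)) = 𝟙 (AMonS S ↥N ⊗ T) := by
  apply CartesianMonoidalCategory.hom_ext
  · rw [mc_fst, Category.id_comp]
    apply chr_injective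
    apply MonoidHom.ext
    intro n
    rw [chr_mul, chr_precomp, chr_pc, one_pow, map_one, _root_.one_mul]
  · rw [mc_snd, Category.id_comp]

theorem mc_incl (hle : F ≤ N) (hℓ : ∀ n : ↥N, (n : M) ∈ F → ℓ n = 0) {T : Over S}
    (c : Γ(T.left, ⊤)) :
    mc ℓ c ≫ (AMonS.map S (AddSubmonoid.inclusion hle) ▷ T) =
      AMonS.map S (AddSubmonoid.inclusion hle) ▷ T := by
  apply CartesianMonoidalCategory.hom_ext
  · rw [Category.assoc, whiskerRight_fst, ← Category.assoc, mc_fst]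
    apply chr_injective
    apply MonoidHom.ext
    intro f
    rw [chr_comp_map, chr_mul, chr_precomp, chr_pc, chr_comp_map]
    have h0 : ℓ (Multiplicative.toAdd
        (AddMonoidHom.toMultiplicative (AddSubmonoid.inclusion hle) f)) = 0 :=
      hℓ _ (Multiplicative.toAdd f).2
    rw [h0, pow_zero, map_one, _root_.one_mul]
  · rw [Category.assoc, whiskerRight_snd, mc_snd]

theorem mc_zero (hF : IsFace N F) (hℓ : ∀ n : ↥N, ℓ n = 0 ↔ (n : M) ∈ F) {T : Over S} :
    mc ℓ (0 : Γ(T.left, ⊤)) =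
      (AMonS.map S (AddSubmonoid.inclusion hF.le) ▷ T) ≫ (AMonS.faceMap S hF ▷ T) := by
  apply CartesianMonoidalCategory.hom_ext
  · rw [mc_fst, Category.assoc, whiskerRight_fst, whiskerRight_fst_assoc]
    apply chr_injective
    apply MonoidHom.ext
    intro n
    rw [chr_mul, chr_precomp, chr_pc, ← Category.assoc]
    by_cases h : ((Multiplicative.toAdd n : ↥N) : M) ∈ F
    · rw [chr_faceMap_of_mem hF _ n h, chr_comp_map, (hℓ _).mpr h, pow_zero, map_one,
        _root_.one_mul]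
      rfl
    · rw [chr_faceMap_of_not_mem hF _ n h, zero_pow (fun h0 => h ((hℓ _).mp h0)), map_zero,
        zero_mul]
  · rw [mc_snd, Category.assoc, whiskerRight_snd, whiskerRight_snd]

variable {X : Over S} (a : MonAct (AMonS S M) X)

/-- the homotopy -/
noncomputable def delta (T : Over S) (x : (attr a N).obj (op T)) (c : Γ(T.left, ⊤)) :
    (attr a N).obj (op T) :=
  ⟨mc ℓ c ≫ x.1, isEquivariant_mc ℓ a c x.1 x.2⟩

theorem delta_coe (T : Over S) (x : (attr a N).obj (op T)) (c : Γ(T.left, ⊤)) :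
    (delta ℓ a T x c).1 = mc ℓ c ≫ x.1 := rfl

end Homotopy

section Main

theorem S18244_main (S : Scheme.{u}) (M : Type) [AddCommGroup M] [AddGroup.FG M]
    {X : Over S} (a : Magnet.MonAct (Magnet.AMonS S M) X)
    {N F : AddSubmonoid M} (hN : N.FG) (hF : Magnet.IsFace N F) :
    ∃ δ : ∀ T : Over S, (Magnet.attr a N).obj (op T) → Γ(T.left, ⊤) →
        (Magnet.attr a N).obj (op T),
      (∀ (T T' : Over S) (t : T' ⟶ T) (x : (Magnet.attr a N).obj (op T)) (c : Γ(T.left, ⊤)),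
          δ T' ((Magnet.attr a N).map t.op x) (t.left.appTop c) =
            (Magnet.attr a N).map t.op (δ T x c)) ∧
      (∀ (T : Over S) (x : (Magnet.attr a N).obj (op T)),
          δ T x 0 = (Magnet.attrMap a hF.le).app (op T) ((Magnet.attrFace a hF).app (op T) x)) ∧
      (∀ (T : Over S) (x : (Magnet.attr a N).obj (op T)), δ T x 1 = x) ∧
      (∀ (T : Over S) (y : (Magnet.attr a F).obj (op T)) (c : Γ(T.left, ⊤)),
          δ T ((Magnet.attrMap a hF.le).app (op T) y) c =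
            (Magnet.attrMap a hF.le).app (op T) y) := by
  obtain ⟨ℓ₀, h1, h2⟩ := MagGor.exists_face_height hN hF.le hF.mem_of_add_mem
  let ℓ : ↥N →+ ℕ :=
    { toFun := fun n => (ℓ₀ (n : M)).toNat
      map_zero' := by simp
      map_add' := fun x y => by
        rw [AddSubmonoid.coe_add, map_add, Int.toNat_add (h1 x x.2) (h1 y y.2)] }
  have hℓ : ∀ n : ↥N, ℓ n = 0 ↔ (n : M) ∈ F := by
    intro n
    change (ℓ₀ (n : M)).toNat = 0 ↔ _
    rw [Int.toNat_eq_zero, ← h2 n n.2]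
    constructor
    · intro h
      exact le_antisymm h (h1 n n.2)
    · intro h
      exact h.le
  refine ⟨fun T x c => delta ℓ a T x c, ?_, ?_, ?_, ?_⟩
  · intro T T' t x c
    apply Subtype.ext
    change mc ℓ (t.left.appTop.hom c) ≫ (AMonS S ↥N ◁ t) ≫ x.1 =
      (AMonS S ↥N ◁ t) ≫ mc ℓ c ≫ x.1
    rw [← Category.assoc, mc_whiskerLeft, Category.assoc]
  · intro T x
    apply Subtype.ext
    change mc ℓ 0 ≫ x.1 = (AMonS.map S (AddSubmonoid.inclusion hF.le) ▷ T) ≫
      (AMonS.faceMap S hF ▷ T) ≫ x.1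
    rw [mc_zero ℓ hF hℓ, Category.assoc]
  · intro T x
    apply Subtype.ext
    change mc ℓ 1 ≫ x.1 = x.1
    rw [mc_one, Category.id_comp]
  · intro T y c
    apply Subtype.ext
    change mc ℓ c ≫ (AMonS.map S (AddSubmonoid.inclusion hF.le) ▷ T) ≫ y.1 =
      (AMonS.map S (AddSubmonoid.inclusion hF.le) ▷ T) ≫ y.1
    rw [← Category.assoc, mc_incl ℓ hF.le (fun n hn => (hℓ n).mpr hn)]

end Main

end Groth.Agent.H9.MagDef
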