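import Mathlib

set_option autoImplicit false
set_option linter.style.haveILetI false
set_option linter.unusedSectionVars false
set_option linter.unusedVariables false

namespace Groth.Agent.H9.AIC

open Polynomial

universe u

/-- `AdjoinRoot f` for monic `f` of positive degree is a faithful extension. -/
lemma adjoinRoot_of_injective {A : Type u} [CommRing A] {f : A[X]} (hf : f.Monic)
    (hd : 0 < f.natDegree) : Function.Injective (AdjoinRoot.of f) := by
  rw [injective_iff_map_eq_zero]
  intro a ha
  have hb := (AdjoinRoot.powerBasis' hf).basis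
  let pb := AdjoinRoot.powerBasis' hf
  have hdim : 0 < pb.dim := by
    rw [AdjoinRoot.powerBasis'_dim]; exact hd
  have h1 : AdjoinRoot.of f a = a • pb.basis ⟨0, hdim⟩ := by
    rw [PowerBasis.coe_basis]
    show AdjoinRoot.of f a = a • pb.gen ^ 0
    rw [pow_zero, Algebra.smul_def, mul_one]
    rfl
  rw [h1] at ha
  have h2 := congrArg (fun z => pb.basis.repr z ⟨0, hdim⟩) ha
  simp only [map_smul, Module.Basis.repr_self, map_zero, Finsupp.coe_zero, Pi.zero_apply,
    Finsupp.smul_apply, Finsupp.single_eq_same, smul_eq_mul, mul_one] at h2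
  exact h2

/-- finitely many monic polynomials acquire roots in a faithful extension -/
lemma exists_roots_list : ∀ (n : ℕ) (A : Type u) [CommRing A] (l : List A[X]), l.length = n →
    (∀ f ∈ l, f.Monic ∧ 0 < f.natDegree) →
    ∃ (T : Type u) (_ : CommRing T) (φ : A →+* T), Function.Injective φ ∧
      ∀ f ∈ l, ∃ t : T, f.eval₂ φ t = 0 := by
  intro n
  induction n with
  | zero =>
    intro A _ l hl _
    refine ⟨A, inferInstance, RingHom.id A, Function.injective_id, ?_⟩
    intro f hf
    rw [List.length_eq_zero_iff] at hl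
    rw [hl] at hf
    exact absurd hf (List.not_mem_nil)
  | succ n ih =>
    intro A _ l hl hmon
    match l, hl, hmon with
    | f :: l', hl, hmon =>
      have hf := hmon f (List.mem_cons_self)
      let φ₁ := AdjoinRoot.of f
      have hφ₁ : Function.Injective φ₁ := adjoinRoot_of_injective hf.1 hf.2
      obtain ⟨T, _, φ₂, hφ₂, hroots⟩ := ih (AdjoinRoot f) (l'.map (Polynomial.map φ₁))
        (by rw [List.length_map]; simpa using hl)
        (by
          intro g hg
          rw [List.mem_map] at hg
          obtain ⟨g₀, hg₀, rfl⟩ := hg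
          have := hmon g₀ (List.mem_cons_of_mem _ hg₀)
          exact ⟨this.1.map _, by rw [Polynomial.natDegree_map_eq_of_injective hφ₁]; exact this.2⟩)
      refine ⟨T, inferInstance, φ₂.comp φ₁, hφ₂.comp hφ₁, ?_⟩
      intro g hg
      rw [List.mem_cons] at hg
      rcases hg with rfl | hg
      · refine ⟨φ₂ (AdjoinRoot.root g), ?_⟩
        rw [← Polynomial.hom_eval₂, AdjoinRoot.eval₂_root, map_zero]
      · obtain ⟨t, ht⟩ := hroots (g.map φ₁) (List.mem_map_of_mem hg)
        exact ⟨t, by rwa [Polynomial.eval₂_map] at ht⟩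

section Step

variable (A : Type u) [CommRing A]

/-- monic polynomials of positive degree -/
abbrev Mon : Type u := {f : A[X] // f.Monic ∧ 0 < f.natDegree}

/-- the generators of the relation ideal -/
noncomputable def gen (f : Mon A) : MvPolynomial (Mon A) A :=
  Polynomial.aeval (MvPolynomial.X f) f.1

/-- the relation ideal -/
noncomputable def relIdeal : Ideal (MvPolynomial (Mon A) A) := Ideal.span (Set.range (gen A))

/-- one step: adjoin a root of every monic polynomial of positive degree -/
noncomputable abbrev Step : Type u := MvPolynomial (Mon A) A ⧸ relIdeal A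

/-- the structure map -/
noncomputable def toStep : A →+* Step A :=
  (Ideal.Quotient.mk (relIdeal A)).comp MvPolynomial.C

lemma toStep_exists_root (f : Mon A) : ∃ t : Step A, f.1.eval₂ (toStep A) t = 0 := by
  refine ⟨Ideal.Quotient.mk (relIdeal A) (MvPolynomial.X f), ?_⟩
  have h1 : f.1.eval₂ (toStep A) (Ideal.Quotient.mk (relIdeal A) (MvPolynomial.X f)) =
      Ideal.Quotient.mk (relIdeal A) (gen A f) := by
    rw [gen, Polynomial.aeval_def, Polynomial.hom_eval₂]
    rfl
  rw [h1, Ideal.Quotient.eq_zero_iff_mem]
  exact Ideal.subset_span ⟨f, rfl⟩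

lemma toStep_injective : Function.Injective (toStep A) := by
  classical
  rw [injective_iff_map_eq_zero]
  intro a ha
  have ha' : MvPolynomial.C a ∈ relIdeal A := Ideal.Quotient.eq_zero_iff_mem.mp ha
  obtain ⟨S, hS, haS⟩ := Submodule.mem_span_finite_of_mem_span ha'
  rw [← Set.image_univ, Finset.subset_set_image_iff] at hS
  obtain ⟨s, -, rfl⟩ := hS
  obtain ⟨T, _, φ, hφ, hroots⟩ := exists_roots_list s.card A (s.toList.map Subtype.val)
    (by rw [List.length_map, Finset.length_toList])
    (by
      intro f hf
      rw [List.mem_map] at hf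
      obtain ⟨f₀, -, rfl⟩ := hf
      exact f₀.2)
  have hroots' : ∀ f : Mon A, f ∈ s → ∃ t : T, f.1.eval₂ φ t = 0 := fun f hf =>
    hroots f.1 (List.mem_map_of_mem (Finset.mem_toList.mpr hf))
  let r : Mon A → T := fun f => if h : f ∈ s then (hroots' f h).choose else 0
  have hr : ∀ f ∈ s, f.1.eval₂ φ (r f) = 0 := by
    intro f hf
    simp only [r, dif_pos hf]
    exact (hroots' f hf).choose_spec
  let ev : MvPolynomial (Mon A) A →+* T := MvPolynomial.eval₂Hom φ r
  have hev : ∀ f ∈ s, ev (gen A f) = 0 := by
    intro f hf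
    rw [gen, Polynomial.aeval_def, Polynomial.hom_eval₂]
    have h1 : ev.comp (algebraMap A (MvPolynomial (Mon A) A)) = φ := by
      ext x
      simp [ev, MvPolynomial.algebraMap_eq]
    have h2 : ev (MvPolynomial.X f) = r f := by simp [ev]
    rw [h1, h2]
    exact hr f hf
  have hle : Ideal.span ((s.image (gen A) : Finset _) : Set (MvPolynomial (Mon A) A)) ≤
      RingHom.ker ev := by
    rw [Ideal.span_le]
    intro x hx
    rw [Finset.coe_image] at hx
    obtain ⟨f, hf, rfl⟩ := hx
    exact hev f hf
  have h3 : ev (MvPolynomial.C a) = 0 := hle haS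
  have h4 : ev (MvPolynomial.C a) = φ a := by simp [ev]
  rw [h4] at h3
  exact hφ (by rw [h3, map_zero])

end Step

section Tower

variable (A : Type u) [CommRing A]

/-- the tower of rings, bundled -/
noncomputable def towerAux : ℕ → Σ α : Type u, CommRing α
  | 0 => ⟨A, inferInstance⟩
  | n + 1 => ⟨@Step (towerAux n).1 (towerAux n).2, inferInstance⟩

/-- the `n`-th ring of the tower -/
def Tower (n : ℕ) : Type u := (towerAux A n).1

noncomputable instance (n : ℕ) : CommRing (Tower A n) := (towerAux A n).2

/-- transition map -/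
noncomputable def toSucc (n : ℕ) : Tower A n →+* Tower A (n + 1) :=
  @toStep (towerAux A n).1 (towerAux A n).2

lemma toSucc_injective (n : ℕ) : Function.Injective (toSucc A n) :=
  @toStep_injective (towerAux A n).1 (towerAux A n).2

lemma toSucc_exists_root (n : ℕ) (f : (Tower A n)[X]) (hf : f.Monic) (hd : 0 < f.natDegree) :
    ∃ t : Tower A (n + 1), f.eval₂ (toSucc A n) t = 0 :=
  @toStep_exists_root (towerAux A n).1 (towerAux A n).2 ⟨f, hf, hd⟩

/-- transition maps for `m ≤ n` -/
noncomputable def toLE (m n : ℕ) (h : m ≤ n) : Tower A m →+* Tower A n :=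
  Nat.leRec (motive := fun n _ => Tower A m →+* Tower A n) (RingHom.id _)
    (fun k _ ih => (toSucc A k).comp ih) h

lemma toLE_self (m : ℕ) : toLE A m m le_rfl = RingHom.id _ :=
  Nat.leRec_self _ _

lemma toLE_succ (m n : ℕ) (h : m ≤ n) :
    toLE A m (n + 1) (Nat.le_succ_of_le h) = (toSucc A n).comp (toLE A m n h) :=
  Nat.leRec_succ _ _ h

lemma toLE_trans (i j k : ℕ) (hij : i ≤ j) (hjk : j ≤ k) (x : Tower A i) :
    toLE A j k hjk (toLE A i j hij x) = toLE A i k (hij.trans hjk) x := by
  induction hjk with
  | refl => rw [toLE_self]; rfl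
  | step hjk ih =>
    rw [toLE_succ A j _ hjk, toLE_succ A i _ (hij.trans hjk), RingHom.comp_apply, ih]
    rfl

lemma toLE_injective (m n : ℕ) (h : m ≤ n) : Function.Injective (toLE A m n h) := by
  induction h with
  | refl => rw [toLE_self]; exact Function.injective_id
  | step h ih =>
    rw [toLE_succ A m _ h]
    exact (toSucc_injective A _).comp ih

instance : DirectedSystem (Tower A) fun i j h => toLE A i j h where
  map_self i x := by rw [toLE_self]; rfl
  map_map k j i hij hjk x := toLE_trans A i j k hij hjk x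

/-- the limit ring -/
noncomputable abbrev Lim : Type u := Ring.DirectLimit (Tower A) fun i j h => toLE A i j h

/-- the maps to the limit -/
noncomputable abbrev ofLim (n : ℕ) : Tower A n →+* Lim A :=
  Ring.DirectLimit.of (Tower A) (fun i j h => toLE A i j h) n

lemma ofLim_injective (n : ℕ) : Function.Injective (ofLim A n) :=
  Ring.DirectLimit.of_injective (f' := fun i j h => toLE A i j h) (toLE_injective A) n

lemma ofLim_succ (n : ℕ) (x : Tower A n) : ofLim A (n + 1) (toSucc A n x) = ofLim A n x := by
  have h1 : toLE A n (n + 1) (Nat.le_succ n) = toSucc A n := by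
    have := toLE_succ A n n le_rfl
    rw [toLE_self, RingHom.comp_id] at this
    exact this
  rw [← h1]
  exact Ring.DirectLimit.of_f (Nat.le_succ n) x

/-- every monic polynomial of positive degree over the limit has a root -/
lemma lim_exists_root (f : (Lim A)[X]) (hf : f.Monic) (hd : 0 < f.natDegree) :
    ∃ b : Lim A, f.IsRoot b := by
  rcases subsingleton_or_nontrivial (Lim A) with hB | hB
  · exfalso
    have : f = 0 := Subsingleton.elim _ _
    rw [this, Polynomial.natDegree_zero] at hd
    exact lt_irrefl _ hd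
  obtain ⟨n, p, hp⟩ := Ring.DirectLimit.Polynomial.exists_of (f' := fun i j h => toLE A i j h) f
  have hlift : f ∈ Polynomial.lifts (ofLim A n) := (Polynomial.mem_lifts _).mpr ⟨p, hp⟩
  obtain ⟨q, hq, hqd, hqm⟩ := Polynomial.lifts_and_degree_eq_and_monic hlift hf
  have hqd' : 0 < q.natDegree := by
    rw [← Polynomial.natDegree_map_eq_of_injective (ofLim_injective A n) q, hq]
    exact hd
  obtain ⟨t, ht⟩ := toSucc_exists_root A n q hqm hqd'
  refine ⟨ofLim A (n + 1) t, ?_⟩
  rw [Polynomial.IsRoot, ← hq, Polynomial.eval_map]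
  have h2 : ofLim A n = (ofLim A (n + 1)).comp (toSucc A n) := by
    ext x
    exact (ofLim_succ A n x).symm
  rw [h2, ← Polynomial.hom_eval₂, ht, map_zero]

end Tower

/-- splitting from existence of roots -/
lemma splits_of_roots {B : Type u} [CommRing B]
    (h : ∀ f : B[X], f.Monic → 0 < f.natDegree → ∃ b : B, f.IsRoot b) :
    ∀ (n : ℕ) (f : B[X]), f.Monic → f.natDegree = n →
      ∃ s : Multiset B, f = (s.map fun b => X - C b).prod := by
  rcases subsingleton_or_nontrivial B with hB | hB
  · intro n f _ _
    exact ⟨0, Subsingleton.elim _ _⟩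
  intro n
  induction n with
  | zero =>
    intro f hf hd
    refine ⟨0, ?_⟩
    rw [Multiset.map_zero, Multiset.prod_zero]
    exact hf.natDegree_eq_zero.mp hd
  | succ n ih =>
    intro f hf hd
    obtain ⟨b, hb⟩ := h f hf (by omega)
    have h1 : (X - C b) * (f /ₘ (X - C b)) = f := Polynomial.mul_divByMonic_eq_iff_isRoot.mpr hb
    have hg : (f /ₘ (X - C b)).Monic :=
      (Polynomial.monic_X_sub_C b).of_mul_monic_left (by rw [h1]; exact hf)
    have hgd : (f /ₘ (X - C b)).natDegree = n := by
      have := (Polynomial.monic_X_sub_C b).natDegree_mul hg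
      rw [h1, hd, Polynomial.natDegree_X_sub_C] at this
      omega
    obtain ⟨s, hs⟩ := ih _ hg hgd
    refine ⟨b ::ₘ s, ?_⟩
    rw [Multiset.map_cons, Multiset.prod_cons, ← hs, h1]

theorem main (A : Type u) [CommRing A] :
    ∃ (B : Type u) (_ : CommRing B) (_ : Algebra A B), Function.Injective (algebraMap A B) ∧
      ∀ f : B[X], f.Monic → ∃ s : Multiset B, f = (s.map fun b => X - C b).prod := by
  refine ⟨Lim A, inferInstance, (ofLim A 0).toAlgebra, ofLim_injective A 0, ?_⟩
  intro f hf
  exact splits_of_roots (lim_exists_root A) _ f hf rfl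

end Groth.Agent.H9.AIC
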