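import Mathlib

/-! Helper9: constructible sets are finite unions of locally closed sets; homogeneity criterion for local closedness. -/

set_option linter.style.haveILetI false
set_option linter.unusedSectionVars false

namespace Groth.Agent.H9.ORB

open Set Topology

variable {X : Type*} [TopologicalSpace X]

/-- Finite unions of locally closed sets. -/
def FinLC (s : Set X) : Prop :=
  ∃ t : Set (Set X), t.Finite ∧ (∀ L ∈ t, IsLocallyClosed L) ∧ s = ⋃₀ t

theorem FinLC.of_isLocallyClosed {s : Set X} (h : IsLocallyClosed s) : FinLC s :=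
  ⟨{s}, Set.finite_singleton _, by simpa using h, by simp⟩

theorem FinLC.union {s t : Set X} (hs : FinLC s) (ht : FinLC t) : FinLC (s ∪ t) := by
  obtain ⟨a, ha, ha', rfl⟩ := hs
  obtain ⟨b, hb, hb', rfl⟩ := ht
  refine ⟨a ∪ b, ha.union hb, ?_, (Set.sUnion_union a b).symm⟩
  rintro L (hL | hL)
  · exact ha' L hL
  · exact hb' L hL

theorem FinLC.inter {s t : Set X} (hs : FinLC s) (ht : FinLC t) : FinLC (s ∩ t) := by
  obtain ⟨a, ha, ha', rfl⟩ := hs
  obtain ⟨b, hb, hb', rfl⟩ := ht
  refine ⟨Set.image2 (· ∩ ·) a b, ha.image2 _ hb, ?_, ?_⟩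
  · rintro L ⟨L₁, h₁, L₂, h₂, rfl⟩
    exact (ha' L₁ h₁).inter (hb' L₂ h₂)
  · ext x
    simp only [Set.mem_inter_iff, Set.mem_sUnion, Set.mem_image2, exists_exists_and_exists_and_eq_and]
    constructor
    · rintro ⟨⟨L₁, h₁, hx₁⟩, ⟨L₂, h₂, hx₂⟩⟩
      exact ⟨L₁, h₁, L₂, h₂, hx₁, hx₂⟩
    · rintro ⟨L₁, h₁, L₂, h₂, hx₁, hx₂⟩
      exact ⟨⟨L₁, h₁, hx₁⟩, ⟨L₂, h₂, hx₂⟩⟩

theorem finLC_of_isConstructible {s : Set X} (hs : IsConstructible s) : FinLC s := by
  suffices h : FinLC s ∧ FinLC sᶜ from h.1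
  induction hs using IsConstructible.empty_union_induction with
  | open_retrocompact U hU _ =>
    exact ⟨.of_isLocallyClosed hU.isLocallyClosed,
      .of_isLocallyClosed hU.isClosed_compl.isLocallyClosed⟩
  | union s _ t _ hs ht =>
    refine ⟨hs.1.union ht.1, ?_⟩
    rw [Set.compl_union]
    exact hs.2.inter ht.2
  | compl s _ hs =>
    refine ⟨hs.2, ?_⟩
    rw [compl_compl]
    exact hs.1

/-- A nonempty finite union of locally closed sets contains a nonempty subset which is open in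
its closure. -/
theorem exists_open_of_finLC {E : Set X} (hE : FinLC E) (hne : E.Nonempty) :
    ∃ W : Set X, IsOpen W ∧ (W ∩ closure E).Nonempty ∧ W ∩ closure E ⊆ E := by
  obtain ⟨t, ht, ht', rfl⟩ := hE
  induction t, ht using Set.Finite.induction_on with
  | empty => simp at hne
  | @insert L t hL ht ih =>
    have hLC : IsLocallyClosed L := ht' L (Set.mem_insert _ _)
    have ht'' : ∀ L ∈ t, IsLocallyClosed L := fun L h ↦ ht' L (Set.mem_insert_of_mem _ h)
    rw [Set.sUnion_insert] at hne ⊢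
    rw [closure_union]
    by_cases hcase : L ⊆ closure (⋃₀ t)
    · have hcl : closure L ⊆ closure (⋃₀ t) := closure_minimal hcase isClosed_closure
      have hne' : (⋃₀ t).Nonempty := by
        by_contra h
        rw [Set.not_nonempty_iff_eq_empty] at h
        rw [h, closure_empty, Set.subset_empty_iff] at hcase
        rw [h, hcase, Set.union_empty] at hne
        exact Set.not_nonempty_empty hne
      obtain ⟨W, hW, hW1, hW2⟩ := ih ht'' hne'
      refine ⟨W, hW, ?_, ?_⟩
      · rw [Set.union_eq_self_of_subset_left hcl]; exact hW1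
      · rw [Set.union_eq_self_of_subset_left hcl]
        exact hW2.trans Set.subset_union_right
    · obtain ⟨x, hxL, hx⟩ := Set.not_subset.mp hcase
      obtain ⟨U, F, hU, hF, rfl⟩ := hLC
      refine ⟨U ∩ (closure (⋃₀ t))ᶜ, hU.inter isClosed_closure.isOpen_compl, ⟨x, ⟨hxL.1, hx⟩,
        Or.inl (subset_closure hxL)⟩, ?_⟩
      rintro y ⟨⟨hyU, hy⟩, hy' | hy'⟩
      · left
        refine ⟨hyU, ?_⟩
        have : closure (U ∩ F) ⊆ F := closure_minimal Set.inter_subset_right hF
        exact this hy'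
      · exact absurd hy' hy

/-- Homogeneity criterion for local closedness. -/
theorem isLocallyClosed_of_homogeneous {P : Type*} [TopologicalSpace P] (α p : P → X)
    (hα : IsOpenMap α) (hαc : Continuous α) (hp : IsOpenMap p) (hpc : Continuous p)
    (O : Set X) (hO : FinLC O)
    (hstab : p ⁻¹' O = α ⁻¹' O)
    (htrans : ∀ o ∈ O, ∀ u ∈ O, ∃ z : P, p z = u ∧ α z = o) : IsLocallyClosed O := by
  by_cases hne : O.Nonempty
  swap
  · rw [Set.not_nonempty_iff_eq_empty] at hne
    rw [hne]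
    exact isOpen_empty.isLocallyClosed
  obtain ⟨W, hW, ⟨u, huW, huO'⟩, hWO⟩ := exists_open_of_finLC hO hne
  have huO : u ∈ O := hWO ⟨huW, huO'⟩
  have hcl : p ⁻¹' closure O = α ⁻¹' closure O := by
    rw [hp.preimage_closure_eq_closure_preimage hpc, hα.preimage_closure_eq_closure_preimage hαc,
      hstab]
  refine ⟨α '' (p ⁻¹' W), closure O, hα _ (hW.preimage hpc), isClosed_closure, ?_⟩
  ext o
  constructor
  · intro ho
    obtain ⟨z, hz1, hz2⟩ := htrans o ho u huO
    exact ⟨⟨z, by simpa [hz1] using huW, hz2⟩, subset_closure ho⟩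
  · rintro ⟨⟨z, hzW, rfl⟩, hz⟩
    have h1 : z ∈ p ⁻¹' closure O := by rw [hcl]; exact hz
    have h2 : p z ∈ O := hWO ⟨hzW, h1⟩
    have h3 : z ∈ α ⁻¹' O := by rw [← hstab]; exact h2
    exact h3

end Groth.Agent.H9.ORB
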