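import Mathlib
import Groth.Prelude.Def_AlgGrp
import Groth.Agent.Lib.Helper9.Misc.FLH5
import Groth.Agent.Lib.Helper9.Misc.ORB1

/-! Helper9: orbits of rational points under algebraic group actions over a field are locally closed (S7984). -/

set_option linter.style.haveILetI false
set_option linter.unusedSectionVars false

namespace Groth.Agent.H9.ORB

universe u

open CategoryTheory CategoryTheory.Limits AlgebraicGeometry MonoidalCategory
  CartesianMonoidalCategory MonObj GrpObj Groth.Agent.H9.FLH Topology

variable {S : Scheme.{u}} {G X : Over S} [GrpObj G] (a : AlgGrp.Action G X)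

/-- `(g, x) ↦ (g⁻¹, g • x)`. -/
noncomputable def tau : G ⊗ X ⟶ G ⊗ X := lift (fst G X)⁻¹ a.act

theorem tau_snd : tau a ≫ snd G X = a.act := lift_snd _ _

theorem tau_act : tau a ≫ a.act = snd G X := by
  unfold tau
  conv_lhs => rw [act_eq_smul a]
  rw [comp_smul, lift_fst, lift_snd]
  rw [← FLH.mul_smul, inv_mul_cancel, FLH.one_smul]

variable (s₀ : 𝟙_ (Over S) ⟶ X)

/-- set-theoretic stability of the orbit -/
theorem act_mem_range_orbit (z : (G ⊗ X).left)
    (hz : (snd G X).left z ∈ Set.range (a.orbitMap s₀).left) :
    a.act.left z ∈ Set.range (a.orbitMap s₀).left := by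
  have hzr : z ∈ Set.range (G ◁ a.orbitMap s₀).left := by
    rw [Over.whiskerLeft_left, Scheme.Pullback.range_map]
    exact ⟨⟨_, rfl⟩, hz⟩
  obtain ⟨w, rfl⟩ := hzr
  refine ⟨μ[G].left w, ?_⟩
  rw [← Scheme.Hom.comp_apply, ← Scheme.Hom.comp_apply, ← Over.comp_left, ← Over.comp_left,
    orbitMap_equivariant]

theorem preimage_orbit_eq :
    (snd G X).left ⁻¹' Set.range (a.orbitMap s₀).left =
      a.act.left ⁻¹' Set.range (a.orbitMap s₀).left := by
  ext z
  constructor
  · exact act_mem_range_orbit a s₀ z
  · intro hz
    have h1 : (snd G X).left ((tau a).left z) ∈ Set.range (a.orbitMap s₀).left := by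
      rw [← Scheme.Hom.comp_apply, ← Over.comp_left, tau_snd]
      exact hz
    have h2 := act_mem_range_orbit a s₀ _ h1
    rw [← Scheme.Hom.comp_apply, ← Over.comp_left, tau_act] at h2
    exact h2

theorem orbit_transitive [Subsingleton S] (o u : X.left)
    (ho : o ∈ Set.range (a.orbitMap s₀).left) (hu : u ∈ Set.range (a.orbitMap s₀).left) :
    ∃ z : (G ⊗ X).left, (snd G X).left z = u ∧ a.act.left z = o := by
  obtain ⟨g₁, rfl⟩ := ho
  obtain ⟨g₂, rfl⟩ := hu
  obtain ⟨z', hz1, hz2⟩ := exists_mul_eq (G := G) g₁ g₂
  refine ⟨(G ◁ a.orbitMap s₀).left z', ?_, ?_⟩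
  · rw [← Scheme.Hom.comp_apply, ← Over.comp_left, whiskerLeft_snd, Over.comp_left,
      Scheme.Hom.comp_apply, hz1]
  · rw [← Scheme.Hom.comp_apply, ← Over.comp_left, orbitMap_equivariant, Over.comp_left,
      Scheme.Hom.comp_apply, hz2]

theorem S7984_main (k : Type u) [Field k] (G X : Over (Spec (CommRingCat.of k))) [GrpObj G]
    [LocallyOfFiniteType G.hom] [QuasiCompact G.hom] [LocallyOfFiniteType X.hom]
    [QuasiCompact X.hom] (a : AlgGrp.Action G X)
    (x : 𝟙_ (Over (Spec (CommRingCat.of k))) ⟶ X) :
    IsLocallyClosed (Set.range (a.orbitMap x).left.base) := by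
  have hXn : IsLocallyNoetherian X.left := LocallyOfFiniteType.isLocallyNoetherian X.hom
  have hXc : CompactSpace X.left := QuasiCompact.compactSpace_of_compactSpace X.hom
  have hGc : CompactSpace G.left := QuasiCompact.compactSpace_of_compactSpace G.hom
  have hφ1 : LocallyOfFiniteType (a.orbitMap x).left := by
    have : LocallyOfFiniteType ((a.orbitMap x).left ≫ X.hom) := by
      rw [Over.w]; infer_instance
    exact locallyOfFiniteType_of_comp (a.orbitMap x).left X.hom
  have hφ2 : LocallyOfFinitePresentation (a.orbitMap x).left := inferInstance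
  have hφ3 : QuasiCompact (a.orbitMap x).left := inferInstance
  have hcons : IsConstructible (Set.range (a.orbitMap x).left) := by
    rw [← Set.image_univ]
    exact (a.orbitMap x).left.isConstructible_image .univ
  have hsnd : UniversallyOpen (snd G X).left := by
    show UniversallyOpen (pullback.snd G.hom X.hom)
    infer_instance
  have hact : UniversallyOpen a.act.left := by
    have h : a.act.left = (shear a).left ≫ (snd G X).left := by
      rw [← Over.comp_left, shear_snd]
    have : IsIso (shear a) := ⟨shearInv a, shear_shearInv a, shearInv_shear a⟩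
    have : IsIso (shear a).left := inferInstanceAs (IsIso ((Over.forget _).map (shear a)))
    rw [h]
    infer_instance
  exact isLocallyClosed_of_homogeneous a.act.left (snd G X).left
    a.act.left.isOpenMap a.act.left.continuous (snd G X).left.isOpenMap (snd G X).left.continuous
    _ (finLC_of_isConstructible hcons) (preimage_orbit_eq a x)
    (fun o ho u hu ↦ orbit_transitive a x o u ho hu)

end Groth.Agent.H9.ORB
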