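import Mathlib
import Groth.Prelude.Def_AlgGrp
import Groth.Agent.Lib.Helper9.Misc.ORB2
import Groth.Agent.Lib.Helper1.ClosedDim
import Groth.Agent.Lib.Helper1.RelDim
import Groth.Agent.Lib.Helper3.TopDim

/-! Helper9: closed orbits of algebraic group actions over an algebraically closed field:
existence of closed orbits (Noetherian induction on stable closed subsets), the boundary of an
orbit has smaller dimension, orbits of minimal dimension are closed. -/

set_option autoImplicit false
set_option linter.style.haveILetI false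
set_option linter.unusedSectionVars false
set_option linter.unusedVariables false

namespace Groth.Agent.H9.ORB3

universe u

open CategoryTheory CategoryTheory.Limits AlgebraicGeometry MonoidalCategory
  CartesianMonoidalCategory MonObj GrpObj Groth.Agent.H9.FLH Topology TopologicalSpace
  Groth.Agent.H9.ORB

section Stable

variable {S : Scheme.{u}} {G X : Over S} [GrpObj G] (a : AlgGrp.Action G X)

/-- A subset of `X` is stable under the action: its preimages under the projection and under the
action map agree. -/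
def Stable (Z : Set X.left) : Prop := (snd G X).left ⁻¹' Z = a.act.left ⁻¹' Z

/-- orbits are stable -/
theorem stable_orbit (s₀ : 𝟙_ (Over S) ⟶ X) : Stable a (Set.range (a.orbitMap s₀).left) :=
  preimage_orbit_eq a s₀

theorem stable_univ : Stable a (Set.univ : Set X.left) := by
  unfold Stable
  rw [Set.preimage_univ, Set.preimage_univ]

theorem Stable.diff {Z₁ Z₂ : Set X.left} (h₁ : Stable a Z₁) (h₂ : Stable a Z₂) :
    Stable a (Z₁ \ Z₂) := by
  unfold Stable at *
  rw [Set.preimage_sdiff, Set.preimage_sdiff, h₁, h₂]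

/-- the closure of a stable subset is stable (projection and action are open). -/
theorem Stable.closure (hp : IsOpenMap (snd G X).left) (hα : IsOpenMap a.act.left)
    {Z : Set X.left} (h : Stable a Z) : Stable a (closure Z) := by
  unfold Stable at *
  rw [hp.preimage_closure_eq_closure_preimage (snd G X).left.continuous,
    hα.preimage_closure_eq_closure_preimage a.act.left.continuous, h]

/-- a stable subset containing a rational point contains its orbit. -/
theorem orbit_subset_of_stable {Z : Set X.left} (h : Stable a Z) (s₀ : 𝟙_ (Over S) ⟶ X)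
    (hs : Set.range s₀.left ⊆ Z) : Set.range (a.orbitMap s₀).left ⊆ Z := by
  rintro _ ⟨g, rfl⟩
  have h1 : (lift (𝟙 G) (toUnit G ≫ s₀)).left g ∈ (snd G X).left ⁻¹' Z := by
    show (snd G X).left ((lift (𝟙 G) (toUnit G ≫ s₀)).left g) ∈ Z
    rw [← Scheme.Hom.comp_apply, ← Over.comp_left, lift_snd, Over.comp_left,
      Scheme.Hom.comp_apply]
    exact hs ⟨_, rfl⟩
  rw [h] at h1
  have h2 : (a.orbitMap s₀).left g = a.act.left ((lift (𝟙 G) (toUnit G ≫ s₀)).left g) := by
    unfold AlgGrp.Action.orbitMap
    rw [Over.comp_left, Scheme.Hom.comp_apply]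
  rw [h2]
  exact h1

theorem unit_orbitMap (s₀ : 𝟙_ (Over S) ⟶ X) : η[G] ≫ a.orbitMap s₀ = s₀ := by
  rw [orbitMap_eq, comp_smul, Category.comp_id]
  have h1 : η[G] ≫ toUnit G ≫ s₀ = s₀ := by
    rw [← Category.assoc]
    have : η[G] ≫ toUnit G = 𝟙 _ := toUnit_unique _ _
    rw [this, Category.id_comp]
  have h2 : (η[G] : 𝟙_ (Over S) ⟶ G) = 1 := by
    rw [Hom.one_def]
    have : toUnit (𝟙_ (Over S)) = 𝟙 _ := toUnit_unique _ _
    rw [this, Category.id_comp]
  rw [h1, h2, FLH.one_smul]

/-- a rational point lies on its orbit. -/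
theorem range_subset_orbit (s₀ : 𝟙_ (Over S) ⟶ X) :
    Set.range s₀.left ⊆ Set.range (a.orbitMap s₀).left := by
  rintro _ ⟨p, rfl⟩
  have h := congrArg (fun f : 𝟙_ (Over S) ⟶ X => f.left p) (unit_orbitMap a s₀)
  simp only [Over.comp_left, Scheme.Hom.comp_apply] at h
  exact ⟨_, h⟩

end Stable

section Field

variable (k : Type u) [Field k]

/-- over an algebraically closed field, a nonempty closed subset of a scheme locally of finite
type contains a rational point. -/
theorem exists_point_of_closed [IsAlgClosed k] (X : Over (Spec (CommRingCat.of k)))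
    [LocallyOfFiniteType X.hom] (F : Set X.left) (hF : IsClosed F) (hne : F.Nonempty) :
    ∃ x : 𝟙_ (Over (Spec (CommRingCat.of k))) ⟶ X, Set.range x.left ⊆ F := by
  haveI : JacobsonSpace X.left := LocallyOfFiniteType.jacobsonSpace X.hom
  obtain ⟨z, hzF, hz⟩ := nonempty_inter_closedPoints hne hF.isLocallyClosed
  refine ⟨Over.homMk (pointOfClosedPoint X.hom z hz) (pointOfClosedPoint_comp X.hom z hz), ?_⟩
  rintro _ ⟨p, rfl⟩
  have : (Over.homMk (pointOfClosedPoint X.hom z hz) (pointOfClosedPoint_comp X.hom z hz) :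
      𝟙_ (Over (Spec (CommRingCat.of k))) ⟶ X).left p = z :=
    pointOfClosedPoint_apply X.hom z hz p
  rw [this]
  exact hzF

variable {k}

/-- a quasi-compact scheme locally of finite type over a field has finite dimension. -/
theorem exists_nat_dim_le {Z : Scheme.{u}} (gk : Z ⟶ Spec (CommRingCat.of k))
    [LocallyOfFiniteType gk] [QuasiCompact gk] : ∃ n : ℕ, topologicalKrullDim ↥Z ≤ n := by
  have hZn : IsLocallyNoetherian Z := LocallyOfFiniteType.isLocallyNoetherian gk
  have hZc : CompactSpace Z := QuasiCompact.compactSpace_of_compactSpace gk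
  haveI : IsNoetherian Z := {}
  have h : ∀ C ∈ irreducibleComponents ↥Z, ∃ t : ℕ, topologicalKrullDim ↥C = t := by
    intro C hC
    obtain ⟨ξ, hξ⟩ := QuasiSober.sober hC.1 (isClosed_of_mem_irreducibleComponents C hC)
    obtain ⟨t, -, ht⟩ := Groth.Agent.H1.ClosureDim.exists_trdeg_eq_dim_closure gk ξ
    rw [hξ.def] at ht
    exact ⟨t, ht⟩
  choose! t ht using h
  have hfin : (irreducibleComponents ↥Z).Finite := NoetherianSpace.finite_irreducibleComponents
  refine ⟨hfin.toFinset.sup t, ?_⟩
  rw [Groth.Agent.H3.TopDim.dim_eq_iSup_irreducibleComponents]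
  apply iSup₂_le
  intro C hC
  rw [ht C hC]
  exact_mod_cast Finset.le_sup (f := t) (hfin.mem_toFinset.mpr hC)

/-- a point of the boundary of a locally closed subset has closure of smaller dimension. -/
theorem dim_closure_lt_of_mem_boundary {Z : Scheme.{u}} (gk : Z ⟶ Spec (CommRingCat.of k))
    [LocallyOfFiniteType gk] [QuasiCompact gk] (O : Set Z) (hO : IsLocallyClosed O)
    (x : Z) (hxc : x ∈ closure O) (hxO : x ∉ O) :
    topologicalKrullDim ↥(closure ({x} : Set Z)) < topologicalKrullDim ↥O := by
  have hZn : IsLocallyNoetherian Z := LocallyOfFiniteType.isLocallyNoetherian gk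
  have hZc : CompactSpace Z := QuasiCompact.compactSpace_of_compactSpace gk
  haveI : IsNoetherian Z := {}
  have hB : IsClosed (closure O \ O) := by
    have h := hO.isOpen_coborder
    unfold coborder at h
    exact isOpen_compl_iff.mp h
  let x' : ↥(closure O) := ⟨x, hxc⟩
  have hT'mem : irreducibleComponent x' ∈ irreducibleComponents ↥(closure O) :=
    irreducibleComponent_mem_irreducibleComponents x'
  obtain ⟨o, ho, hone, hoT⟩ :=
    NoetherianSpace.exists_isOpen_nonempty_subset_irreducibleComponent
      (irreducibleComponent x') hT'mem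
  obtain ⟨o₂, ho₂, rfl⟩ := isOpen_induced_iff.mp ho
  obtain ⟨y, hy⟩ := hone
  obtain ⟨w, hw₂, hwO⟩ := mem_closure_iff.mp y.2 o₂ ho₂ hy
  have hwT' : (⟨w, subset_closure hwO⟩ : ↥(closure O)) ∈ irreducibleComponent x' := hoT hw₂
  -- the image in `Z`
  set T : Set Z := Subtype.val '' (irreducibleComponent x') with hTdef
  have hTirr : IsIrreducible T :=
    isIrreducible_irreducibleComponent.image _ continuous_subtype_val.continuousOn
  have hTcl : IsClosed T :=
    (isClosed_closure.isClosedEmbedding_subtypeVal).isClosedMap _ isClosed_irreducibleComponent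
  have hxT : x ∈ T := ⟨x', mem_irreducibleComponent, rfl⟩
  have hwT : w ∈ T := ⟨_, hwT', rfl⟩
  have hTsub : T ⊆ closure O := by
    rintro _ ⟨y, -, rfl⟩
    exact y.2
  let N : Z.Opens := ⟨coborder O, hO.isOpen_coborder⟩
  have hNT : ((N : Set Z) ∩ T).Nonempty := ⟨w, subset_coborder hwO, hwT⟩
  have hsub : ((N : Set Z) ∩ T) ⊆ O := by
    rintro y ⟨hy1, hy2⟩
    have : y ∈ coborder O ∩ closure O := ⟨hy1, hTsub hy2⟩
    rwa [coborder_inter_closure] at this
  have h1 := Groth.Agent.H1.RelDim.dim_inter_eq_dim gk T hTirr hTcl N hNT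
  have h2 : topologicalKrullDim ↥((N : Set Z) ∩ T) ≤ topologicalKrullDim ↥O :=
    Groth.Agent.H3.TopDim.dim_mono hsub
  have hne' : closure ({x} : Set Z) ≠ T := by
    intro h
    have hw : w ∈ closure ({x} : Set Z) := by rw [h]; exact hwT
    have hsub' : closure ({x} : Set Z) ⊆ closure O \ O :=
      closure_minimal (Set.singleton_subset_iff.mpr ⟨hxc, hxO⟩) hB
    exact (hsub' hw).2 hwO
  have h3 := Groth.Agent.H1.ClosedDim.dim_closure_lt_of_ne gk hTirr hTcl x hxT hne'
  calc topologicalKrullDim ↥(closure ({x} : Set Z)) < topologicalKrullDim ↥T := h3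
    _ = topologicalKrullDim ↥((N : Set Z) ∩ T) := h1.symm
    _ ≤ topologicalKrullDim ↥O := h2

/-- **the boundary of a nonempty locally closed subset of a scheme of finite type over a field has
smaller dimension.** -/
theorem dim_boundary_lt {Z : Scheme.{u}} (gk : Z ⟶ Spec (CommRingCat.of k))
    [LocallyOfFiniteType gk] [QuasiCompact gk] (O : Set Z) (hO : IsLocallyClosed O)
    (hne : O.Nonempty) :
    topologicalKrullDim ↥(closure O \ O) < topologicalKrullDim ↥O := by
  obtain ⟨n, hn⟩ := exists_nat_dim_le gk
  have hOn : topologicalKrullDim ↥O ≤ n := (topologicalKrullDim_subspace_le Z O).trans hn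
  haveI : Nonempty ↥O := hne.to_subtype
  have hO0 : 0 ≤ topologicalKrullDim ↥O := Groth.Agent.H3.TopDim.dim_nonneg
  obtain ⟨d, hd⟩ : ∃ d : ℕ, topologicalKrullDim ↥O = d := by
    induction h : topologicalKrullDim ↥O using WithBot.recBotCoe with
    | bot =>
      rw [h] at hO0
      exact absurd hO0 (not_le.mpr (WithBot.bot_lt_coe (0 : ℕ∞)))
    | coe a =>
      rw [h] at hOn
      have h' : a ≤ (n : ℕ∞) := by exact_mod_cast hOn
      lift a to ℕ using (ne_top_of_le_ne_top (ENat.natCast_ne_top n) h')
      exact ⟨a, rfl⟩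
  have hB : IsClosed (closure O \ O) := by
    have h := hO.isOpen_coborder
    unfold coborder at h
    exact isOpen_compl_iff.mp h
  rw [hd]
  refine lt_of_le_of_lt (Groth.Agent.H1.ClosedDim.dim_le_iSup_closure _ hB) ?_
  apply Groth.Agent.H1.ClosedDim.iSup_lt_nat
  rintro ⟨x, hxc, hxO⟩
  rw [← hd]
  exact dim_closure_lt_of_mem_boundary gk O hO x hxc hxO

end Field

section Main

variable (k : Type u) [Field k] (G X : Over (Spec (CommRingCat.of k))) [GrpObj G]
  [LocallyOfFiniteType G.hom] [QuasiCompact G.hom] [LocallyOfFiniteType X.hom]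
  [QuasiCompact X.hom] (a : AlgGrp.Action G X)

include k in
theorem isOpenMap_snd_act : IsOpenMap (snd G X).left ∧ IsOpenMap a.act.left := by
  have hsnd : UniversallyOpen (snd G X).left := by
    show UniversallyOpen (pullback.snd G.hom X.hom)
    infer_instance
  have hact : UniversallyOpen a.act.left := by
    have h : a.act.left = (shear a).left ≫ (snd G X).left := by
      rw [← Over.comp_left, shear_snd]
    have : IsIso (shear a) := ⟨shearInv a, shear_shearInv a, shearInv_shear a⟩
    have : IsIso (shear a).left := inferInstanceAs (IsIso ((Over.forget _).map (shear a)))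
    rw [h]
    infer_instance
  exact ⟨(snd G X).left.isOpenMap, a.act.left.isOpenMap⟩

theorem isClosed_boundary (x : 𝟙_ (Over (Spec (CommRingCat.of k))) ⟶ X) :
    IsClosed (closure (Set.range (a.orbitMap x).left) \ Set.range (a.orbitMap x).left) := by
  have h := (S7984_main k G X a x).isOpen_coborder
  unfold coborder at h
  exact isOpen_compl_iff.mp h

theorem stable_boundary (x : 𝟙_ (Over (Spec (CommRingCat.of k))) ⟶ X) :
    Stable a (closure (Set.range (a.orbitMap x).left) \ Set.range (a.orbitMap x).left) := by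
  obtain ⟨hp, hα⟩ := isOpenMap_snd_act k G X a
  exact ((stable_orbit a x).closure a hp hα).diff a (stable_orbit a x)

theorem orbit_nonempty (x : 𝟙_ (Over (Spec (CommRingCat.of k))) ⟶ X) :
    (Set.range (a.orbitMap x).left).Nonempty :=
  ⟨_, range_subset_orbit a x ⟨IsLocalRing.closedPoint k, rfl⟩⟩

/-- **S16131**: the boundary of an orbit has smaller dimension than the orbit. -/
theorem dim_orbit_boundary_lt (x : 𝟙_ (Over (Spec (CommRingCat.of k))) ⟶ X) :
    topologicalKrullDim ↥(closure (Set.range (a.orbitMap x).left) \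
      Set.range (a.orbitMap x).left) < topologicalKrullDim ↥(Set.range (a.orbitMap x).left) :=
  dim_boundary_lt X.hom _ (S7984_main k G X a x) (orbit_nonempty k G X a x)

/-- **S19519**: an orbit of minimal dimension is closed. -/
theorem isClosed_orbit_of_dim_minimal [IsAlgClosed k]
    (x : 𝟙_ (Over (Spec (CommRingCat.of k))) ⟶ X)
    (hmin : ∀ y : 𝟙_ (Over (Spec (CommRingCat.of k))) ⟶ X,
      topologicalKrullDim (Set.range (a.orbitMap x).left) ≤
        topologicalKrullDim (Set.range (a.orbitMap y).left)) :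
    IsClosed (Set.range (a.orbitMap x).left) := by
  by_contra hnc
  have hBne : (closure (Set.range (a.orbitMap x).left) \ Set.range (a.orbitMap x).left).Nonempty := by
    by_contra h
    apply hnc
    apply closure_subset_iff_isClosed.mp
    intro y hy
    by_contra hyO
    exact h ⟨y, hy, hyO⟩
  obtain ⟨y, hy⟩ := exists_point_of_closed k X _ (isClosed_boundary k G X a x) hBne
  have hyB := orbit_subset_of_stable a (stable_boundary k G X a x) y hy
  have h1 := Groth.Agent.H3.TopDim.dim_mono hyB
  have h2 := dim_orbit_boundary_lt k G X a x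
  exact absurd (hmin y) (not_le.mpr (h1.trans_lt h2))

/-- **S14586**: existence of a closed orbit. -/
theorem exists_isClosed_orbit [IsAlgClosed k] [Nonempty ↥X.left] :
    ∃ x : 𝟙_ (Over (Spec (CommRingCat.of k))) ⟶ X,
      IsClosed (Set.range (a.orbitMap x).left) := by
  have hXn : IsLocallyNoetherian X.left := LocallyOfFiniteType.isLocallyNoetherian X.hom
  have hXc : CompactSpace X.left := QuasiCompact.compactSpace_of_compactSpace X.hom
  haveI : IsNoetherian X.left := {}
  obtain ⟨hp, hα⟩ := isOpenMap_snd_act k G X a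
  let P : Closeds ↥X.left → Prop := fun Z => (Z : Set ↥X.left).Nonempty ∧ Stable a (Z : Set ↥X.left)
  have hP : ∃ Z, Z ∈ {Z | P Z} := ⟨⊤, Set.univ_nonempty, stable_univ a⟩
  obtain ⟨Z, hZ, hZmin⟩ := WellFounded.has_min
    (wellFounded_lt : WellFounded ((· < ·) : Closeds ↥X.left → Closeds ↥X.left → Prop)) {Z | P Z} hP
  obtain ⟨x, hx⟩ := exists_point_of_closed k X (Z : Set ↥X.left) Z.isClosed hZ.1
  have hOZ := orbit_subset_of_stable a hZ.2 x hx
  have hOst := stable_orbit a x
  have hOne := orbit_nonempty k G X a x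
  refine ⟨x, ?_⟩
  have hclsub : closure (Set.range (a.orbitMap x).left) ⊆ (Z : Set ↥X.left) :=
    closure_minimal hOZ Z.isClosed
  let W : Closeds ↥X.left := ⟨_, isClosed_boundary k G X a x⟩
  have hWle : W ≤ Z := fun y hy => hclsub hy.1
  have hWne : W ≠ Z := by
    intro h
    obtain ⟨w, hw⟩ := hOne
    have hwZ : w ∈ (Z : Set ↥X.left) := hOZ hw
    rw [← h] at hwZ
    exact hwZ.2 hw
  have hWempty : ¬ (W : Set ↥X.left).Nonempty := fun hne =>
    hZmin W ⟨hne, stable_boundary k G X a x⟩ (lt_of_le_of_ne hWle hWne)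
  apply closure_subset_iff_isClosed.mp
  intro y hy
  by_contra hyO
  exact hWempty ⟨y, hy, hyO⟩

end Main

end Groth.Agent.H9.ORB3
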