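import Mathlib

set_option autoImplicit false
set_option linter.style.haveILetI false
set_option linter.unusedSectionVars false
set_option linter.unusedVariables false

open TrivSqZeroExt

namespace Groth.Agent.H9.DNP
universe u

/-- the algebra map into the dual numbers attached to a point `χ` and a `χ`-derivation `δ`. -/
noncomputable def dualHom {k B : Type u} [Field k] [CommRing B] [Algebra k B] (χ : B →ₐ[k] k)
    (δ : B →ₗ[k] k) (hδ : ∀ b c, δ (b * c) = χ b * δ c + χ c * δ b) : B →ₐ[k] DualNumber k :=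
  AlgHom.ofLinearMap
    ((inlAlgHom k k k).toLinearMap.comp χ.toLinearMap + (inrHom k k).comp δ)
    (by
      have h1 : δ 1 = 0 := by
        have := hδ 1 1
        rw [mul_one, _root_.map_one χ, one_mul] at this
        have h2 : δ 1 + δ 1 = δ 1 + 0 := by rw [add_zero]; exact this.symm
        exact add_left_cancel h2
      ext <;> simp [h1])
    (by
      intro b c
      ext
      · simp
      · simp [hδ]
        ring)

theorem snd_dualHom {k B : Type u} [Field k] [CommRing B] [Algebra k B] (χ : B →ₐ[k] k)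
    (δ : B →ₗ[k] k) (hδ : ∀ b c, δ (b * c) = χ b * δ c + χ c * δ b) (b : B) :
    (dualHom χ δ hδ b).snd = δ b := by
  simp [dualHom]

theorem fst_dualHom {k B : Type u} [Field k] [CommRing B] [Algebra k B] (χ : B →ₐ[k] k)
    (δ : B →ₗ[k] k) (hδ : ∀ b c, δ (b * c) = χ b * δ c + χ c * δ b) (b : B) :
    (dualHom χ δ hδ b).fst = χ b := by
  simp [dualHom]

/-- ring-level: over an algebraically closed field, a finite type algebra whose dual number
points are determined by their reductions is formally unramified. -/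
theorem formallyUnramified_of_dualNumber (k : Type u) [Field k] [IsAlgClosed k] (B : Type u)
    [CommRing B] [Algebra k B] [Algebra.FiniteType k B]
    (H : ∀ ψ₁ ψ₂ : B →ₐ[k] DualNumber k,
      (fstHom k k k).comp ψ₁ = (fstHom k k k).comp ψ₂ → ψ₁ = ψ₂) :
    Algebra.FormallyUnramified k B := by
  constructor
  by_contra hcon
  rw [not_subsingleton_iff_nontrivial] at hcon
  -- a maximal submodule
  obtain ⟨N, hN, -⟩ := (eq_top_or_exists_le_coatom (⊥ : Submodule B (Ω[B⁄k]))).resolve_left
    (bot_ne_top)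
  haveI : IsSimpleModule B ((Ω[B⁄k]) ⧸ N) := isSimpleModule_iff_isCoatom.mpr hN
  obtain ⟨I, hI, ⟨e⟩⟩ := isSimpleModule_iff_quot_maximal.mp this
  let g : Ω[B⁄k] →ₗ[B] B ⧸ I := e.toLinearMap.comp N.mkQ
  have hg : Function.Surjective g := e.surjective.comp N.mkQ_surjective
  -- `B ⧸ I ≃ k`
  letI : Field (B ⧸ I) := Ideal.Quotient.field I
  haveI : Algebra.FiniteType k (B ⧸ I) :=
    Algebra.FiniteType.of_surjective (Ideal.Quotient.mkₐ k I) Ideal.Quotient.mk_surjective
  haveI : Module.Finite k (B ⧸ I) := finite_of_finite_type_of_isJacobsonRing k (B ⧸ I)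
  haveI : Algebra.IsIntegral k (B ⧸ I) := Algebra.IsIntegral.of_finite k (B ⧸ I)
  have hbij : Function.Bijective (Algebra.ofId k (B ⧸ I)) :=
    IsAlgClosed.algebraMap_bijective_of_isIntegral (k := k) (K := B ⧸ I)
  let ε : k ≃ₐ[k] (B ⧸ I) := AlgEquiv.ofBijective (Algebra.ofId k (B ⧸ I)) hbij
  let χ : B →ₐ[k] k := (ε.symm : (B ⧸ I) →ₐ[k] k).comp (Ideal.Quotient.mkₐ k I)
  let D : Derivation k B (B ⧸ I) := g.compDer (KaehlerDifferential.D k B)
  let δ : B →ₗ[k] k := ε.symm.toLinearMap.comp (D : B →ₗ[k] B ⧸ I)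
  have hδ : ∀ b c, δ (b * c) = χ b * δ c + χ c * δ b := by
    intro b c
    show ε.symm (D (b * c)) = ε.symm (Ideal.Quotient.mk I b) * ε.symm (D c) +
      ε.symm (Ideal.Quotient.mk I c) * ε.symm (D b)
    rw [D.leibniz, map_add, ← map_mul, ← map_mul]
    rfl
  have h0 := H (dualHom χ δ hδ) ((inlAlgHom k k k).comp χ) (by
    ext b
    simp [fst_dualHom])
  have hD : ∀ b, D b = 0 := by
    intro b
    have h1 := congrArg (fun ψ => (ψ b).snd) h0
    simp only [snd_dualHom] at h1
    have h2 : δ b = 0 := by simpa using h1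
    exact (EmbeddingLike.map_eq_zero_iff (f := ε.symm)).mp h2
  have hg0 : g = 0 := by
    apply LinearMap.ext_on_range (KaehlerDifferential.span_range_derivation k B)
    intro b
    exact hD b
  obtain ⟨x, hx⟩ := hg 1
  rw [hg0] at hx
  exact zero_ne_one hx

end Groth.Agent.H9.DNP
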