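import Mathlib
import Groth.Agent.Lib.Helper9.Misc.DNP1

set_option autoImplicit false
set_option linter.style.haveILetI false
set_option linter.unusedSectionVars false
set_option linter.unusedVariables false

open CategoryTheory CategoryTheory.Limits AlgebraicGeometry TrivSqZeroExt

namespace Groth.Agent.H9.DNP
universe u

/-- a surjection of rings with nilpotent kernel gives a closed immersion with nilpotent ideal
sheaf. -/
theorem isNilpotent_ker_SpecMap {R S : CommRingCat.{u}} (φ : R ⟶ S) (n : ℕ)
    (h : RingHom.ker φ.hom ^ n = ⊥) : IsNilpotent (Spec.map φ).ker := by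
  refine ⟨n, ?_⟩
  rw [Scheme.ker_of_isAffine, ← Scheme.IdealSheafData.equivOfIsAffine_symm_apply, ← map_pow]
  suffices hsuff : RingHom.ker (Spec.map φ).appTop.hom ^ n = ⊥ by
    rw [hsuff, ← Ideal.zero_eq_bot, map_zero]
  rw [eq_bot_iff]
  have hK : RingHom.ker (Spec.map φ).appTop.hom =
      (RingHom.ker φ.hom).comap (Scheme.ΓSpecIso R).hom.hom := by
    ext x
    rw [RingHom.mem_ker, Ideal.mem_comap, RingHom.mem_ker]
    have h1 := congrArg (fun t => t.hom x) (Scheme.ΓSpecIso_naturality φ)
    simp only [CommRingCat.hom_comp, RingHom.comp_apply] at h1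
    rw [← h1]
    constructor
    · intro h0; rw [h0, map_zero]
    · intro h0
      exact (Scheme.ΓSpecIso S).commRingCatIsoToRingEquiv.injective (by rw [map_zero]; exact h0)
  rw [hK]
  refine (Ideal.le_comap_pow _ n).trans ?_
  rw [h]
  intro x hx
  rw [Ideal.mem_comap, Ideal.mem_bot] at hx
  rw [Ideal.mem_bot]
  exact (Scheme.ΓSpecIso R).commRingCatIsoToRingEquiv.injective (by rw [map_zero]; exact hx)

theorem ker_fstHom_sq (k : Type u) [Field k] :
    RingHom.ker (fstHom k k k).toRingHom ^ 2 = ⊥ := by
  rw [eq_bot_iff, sq, Ideal.mul_le]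
  intro x hx y hy
  rw [Ideal.mem_bot]
  have hx' : x.fst = 0 := hx
  have hy' : y.fst = 0 := hy
  ext
  · simp [hx']
  · simp [hx', hy']

theorem main (k : Type u) [Field k] [IsAlgClosed k]
    {X : Scheme.{u}} (p : X ⟶ Spec (CommRingCat.of k)) [LocallyOfFiniteType p] :
    FormallyUnramified p ↔
      ∀ v₁ v₂ : Spec (CommRingCat.of (DualNumber k)) ⟶ X,
        v₁ ≫ p = Spec.map (CommRingCat.ofHom (algebraMap k (DualNumber k))) →
        v₂ ≫ p = Spec.map (CommRingCat.ofHom (algebraMap k (DualNumber k))) →
        Spec.map (CommRingCat.ofHom (TrivSqZeroExt.fstHom k k k).toRingHom) ≫ v₁ =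
          Spec.map (CommRingCat.ofHom (TrivSqZeroExt.fstHom k k k).toRingHom) ≫ v₂ →
        v₁ = v₂ := by
  constructor
  · intro hp v₁ v₂ h1 h2 h12
    haveI : IsClosedImmersion
        (Spec.map (CommRingCat.ofHom (TrivSqZeroExt.fstHom k k k).toRingHom)) :=
      IsClosedImmersion.spec_of_surjective _ (fun x => ⟨inl x, rfl⟩)
    exact FormallyUnramified.hom_ext
      (Spec.map (CommRingCat.ofHom (TrivSqZeroExt.fstHom k k k).toRingHom))
      (isNilpotent_ker_SpecMap _ 2 (ker_fstHom_sq k)) p h12 (h1.trans h2.symm)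
  · intro H
    rw [IsZariskiLocalAtSource.iff_of_openCover (P := @FormallyUnramified)
      X.affineOpenCover.openCover]
    intro i
    obtain ⟨φ, hφ⟩ := Spec.map_surjective (X.affineOpenCover.openCover.f i ≫ p)
    haveI hoi : IsOpenImmersion (X.affineOpenCover.openCover.f i) :=
      X.affineOpenCover.openCover.map_prop i
    haveI hlft : LocallyOfFiniteType (Spec.map φ) := by
      rw [hφ]
      haveI : LocallyOfFiniteType (X.affineOpenCover.openCover.f i) := inferInstance
      exact locallyOfFiniteType_comp (X.affineOpenCover.openCover.f i) p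
    suffices hsuff : FormallyUnramified (Spec.map φ) by
      rw [hφ] at hsuff; exact hsuff
    rw [HasRingHomProperty.Spec_iff (P := @FormallyUnramified)]
    have hft : φ.hom.FiniteType := (HasRingHomProperty.Spec_iff (P := @LocallyOfFiniteType)).mp hlft
    letI : Algebra k (X.affineOpenCover.X i) := φ.hom.toAlgebra
    haveI : Algebra.FiniteType k (X.affineOpenCover.X i) := hft
    have key := formallyUnramified_of_dualNumber k (X.affineOpenCover.X i) ?_
    · exact key
    intro ψ₁ ψ₂ hψ
    have hcomp : ∀ ψ : (X.affineOpenCover.X i) →ₐ[k] DualNumber k,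
        (Spec.map (CommRingCat.ofHom ψ.toRingHom) ≫ X.affineOpenCover.f i) ≫ p =
          Spec.map (CommRingCat.ofHom (algebraMap k (DualNumber k))) := by
      intro ψ
      rw [Category.assoc]
      have : X.affineOpenCover.f i ≫ p = Spec.map φ := hφ.symm
      rw [this, ← Spec.map_comp]
      congr 1
      refine CommRingCat.hom_ext (RingHom.ext fun x => ?_)
      exact ψ.commutes x
    have h3 := H (Spec.map (CommRingCat.ofHom ψ₁.toRingHom) ≫ X.affineOpenCover.f i)
      (Spec.map (CommRingCat.ofHom ψ₂.toRingHom) ≫ X.affineOpenCover.f i) (hcomp ψ₁) (hcomp ψ₂) (by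
        rw [← Category.assoc, ← Category.assoc, ← Spec.map_comp, ← Spec.map_comp]
        congr 2
        refine CommRingCat.hom_ext (RingHom.ext fun x => ?_)
        exact congrArg (fun t => t x) hψ)
    rw [cancel_mono, Spec.map_inj] at h3
    refine AlgHom.ext fun x => ?_
    exact congrArg (fun t => t.hom x) h3

end Groth.Agent.H9.DNP
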