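import Mathlib
import Groth.Prelude.Def_Curv2
import Groth.Agent.Lib.Helper9.Misc.GZA3

/-! Helper9: schemes over a field: dense rational points + irreducible => geometrically irreducible (S7596); preimages of components under base change (S7595); closures in fibre products (S7612). -/

set_option linter.style.haveILetI false
set_option linter.unusedSectionVars false

namespace Groth.Agent.H9.GZC

universe u

open CategoryTheory CategoryTheory.Limits AlgebraicGeometry Groth.Agent.H9.GZA

theorem specMap_resMap (k : Type u) [Field k] (X : Scheme.{u}) [X.Over (Spec (CommRingCat.of k))]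
    (x : X) : Spec.map (CommRingCat.ofHom (Curv2.resMap k X x)) =
      X.fromSpecResidueField x ≫ (X ↘ Spec (CommRingCat.of k)) := by
  apply ext_of_isAffine
  simp only [Curv2.resMap, Curv2.stalkMap, Coh.toGlobal, Scheme.fromSpecResidueField,
    Scheme.Hom.comp_appTop, Scheme.fromSpecStalk_appTop]
  rw [← cancel_mono (Scheme.ΓSpecIso _).hom]
  simp only [Category.assoc, Scheme.ΓSpecIso_naturality]
  rw [← cancel_epi (Scheme.ΓSpecIso _).inv]
  ext a
  simp

theorem isIso_of_resMap_surjective (k : Type u) [Field k] (X : Scheme.{u})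
    [X.Over (Spec (CommRingCat.of k))] (x : X) (hx : Function.Surjective (Curv2.resMap k X x)) :
    IsIso (X.fromSpecResidueField x ≫ (X ↘ Spec (CommRingCat.of k))) := by
  rw [← specMap_resMap]
  have hbij : Function.Bijective (Curv2.resMap k X x) := ⟨(Curv2.resMap k X x).injective, hx⟩
  let e : k ≃+* X.residueField x := RingEquiv.ofBijective _ hbij
  have : IsIso (CommRingCat.ofHom (Curv2.resMap k X x)) :=
    (inferInstance : IsIso e.toCommRingCatIso.hom)
  infer_instance

/-- The fibre of a base change to a field over a rational point is a single point. -/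
theorem subsingleton_fiber_of_rational {k : Type u} [Field k] {X : Scheme.{u}}
    (f : X ⟶ Spec (CommRingCat.of k)) {K : Type u} [Field K]
    (y : Spec (CommRingCat.of K) ⟶ Spec (CommRingCat.of k)) (x : X)
    (hx : IsIso (X.fromSpecResidueField x ≫ f)) :
    ((pullback.fst f y) ⁻¹' {x}).Subsingleton := by
  let j := X.fromSpecResidueField x
  have hr : Set.range (pullback.snd j (pullback.fst f y)) = (pullback.fst f y) ⁻¹' {x} := by
    rw [Scheme.Pullback.range_snd, Scheme.range_fromSpecResidueField]
  let e := pullbackRightPullbackFstIso f y j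
  haveI : IsIso (pullback.snd (j ≫ f) y) := inferInstance
  haveI : Subsingleton ↥(Spec (CommRingCat.of K)) :=
    inferInstanceAs (Subsingleton (PrimeSpectrum K))
  have hsub : Subsingleton ↥(pullback j (pullback.fst f y)) :=
    (e.hom ≫ pullback.snd (j ≫ f) y).homeomorph.injective.subsingleton
  rw [← hr]
  rintro _ ⟨a, rfl⟩ _ ⟨b, rfl⟩
  rw [Subsingleton.elim a b]

theorem geometricallyIrreducible_of_dense_rational {k : Type u} [Field k] {X : Scheme.{u}}
    (f : X ⟶ Spec (CommRingCat.of k)) [IrreducibleSpace X]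
    (hd : Dense {x : X | IsIso (X.fromSpecResidueField x ≫ f)}) : GeometricallyIrreducible f := by
  refine ⟨geometrically_iff_of_commRing_of_isClosedUnderIsomorphisms.mpr fun K _ _ => ?_⟩
  set y := Spec.map (CommRingCat.ofHom (algebraMap k K)) with hy
  set π := pullback.fst f y with hπ
  haveI : UniversallyOpen y := inferInstance
  haveI : Surjective y := ⟨fun x => ⟨IsLocalRing.closedPoint K,
    @Subsingleton.elim (PrimeSpectrum k) _ _ _⟩⟩
  have hopen : IsOpenMap π := π.isOpenMap
  have hsurj : Function.Surjective π := π.surjective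
  have hne : Nonempty ↥(pullback f y) := by
    obtain ⟨x⟩ := (inferInstance : Nonempty X)
    obtain ⟨p, -⟩ := hsurj x
    exact ⟨p⟩
  refine @IrreducibleSpace.mk _ _ ⟨?_⟩ hne
  rintro u v hu hv ⟨a, -, ha⟩ ⟨b, -, hb⟩
  have h1 : IsOpen (π '' u) := hopen u hu
  have h2 : IsOpen (π '' v) := hopen v hv
  have h3 : (π '' u ∩ π '' v).Nonempty := by
    have := (IrreducibleSpace.isIrreducible_univ X).isPreirreducible (π '' u) (π '' v) h1 h2
      ⟨π a, Set.mem_univ _, a, ha, rfl⟩ ⟨π b, Set.mem_univ _, b, hb, rfl⟩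
    obtain ⟨z, -, hz⟩ := this
    exact ⟨z, hz⟩
  obtain ⟨x, hx, hxr⟩ := hd.inter_open_nonempty _ (h1.inter h2) h3
  obtain ⟨⟨a', ha', hax⟩, ⟨b', hb', hbx⟩⟩ := hx
  have := subsingleton_fiber_of_rational f y x hxr hax hbx
  subst this
  exact ⟨a', Set.mem_univ _, ha', hb'⟩

theorem S7596_main (k : Type u) [Field k] (X : Scheme.{u}) [X.Over (Spec (CommRingCat.of k))]
    [IrreducibleSpace ↥X]
    (hd : Dense {x : ↥X | Function.Surjective (Curv2.resMap k X x)}) :
    GeometricallyIrreducible (X ↘ (Spec (CommRingCat.of k))) := by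
  apply geometricallyIrreducible_of_dense_rational
  refine hd.mono fun x hx => ?_
  exact isIso_of_resMap_surjective k X x hx

/-- Preimages of irreducible components under generalizing maps are unions of components. -/
theorem preimage_component_eq_sUnion {X' X : Scheme.{u}} (π : X' ⟶ X) (hπ : GeneralizingMap π)
    (T : Set X) (hT : T ∈ irreducibleComponents X) :
    π ⁻¹' T = ⋃₀ {Z : Set X' | Z ∈ irreducibleComponents X' ∧ Z ⊆ π ⁻¹' T} := by
  apply Set.Subset.antisymm
  · intro p hp
    obtain ⟨ξ, hξ⟩ := QuasiSober.sober hT.1 (isClosed_of_mem_irreducibleComponents T hT)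
    have mξ : IsMaxPt ξ := (isMaxPt_iff_component X ξ).mpr (by rw [hξ.def]; exact hT)
    have h1 : ξ ⤳ π p := by rw [specializes_iff_mem_closure, hξ.def]; exact hp
    obtain ⟨ζ, mζ, sζ, hζ⟩ := lift_maxPt π hπ p ξ mξ h1
    refine ⟨closure {ζ}, ⟨(isMaxPt_iff_component X' ζ).mp mζ, ?_⟩,
      specializes_iff_mem_closure.mp sζ⟩
    intro z hz
    have h2 : ζ ⤳ z := specializes_iff_mem_closure.mpr hz
    have h3 : ξ ⤳ π z := by rw [← hζ]; exact h2.map π.continuous
    rw [Set.mem_preimage, ← hξ.def]
    exact specializes_iff_mem_closure.mp h3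
  · rintro p ⟨Z, ⟨-, hZ⟩, hp⟩
    exact hZ hp

theorem S7595_main (k : Type u) [Field k] (X : Scheme.{u}) [X.Over (Spec (CommRingCat.of k))]
    (K : Type u) [Field K] [Algebra k K] (T : Set ↥X) (hT : T ∈ irreducibleComponents ↥X) :
    (Curv2.bcFst k X K).base ⁻¹' T =
      ⋃₀ {Z : Set ↥(Curv2.bc k X K) | Z ∈ irreducibleComponents ↥(Curv2.bc k X K) ∧
        Z ⊆ (Curv2.bcFst k X K).base ⁻¹' T} := by
  have hg : GeneralizingMap (Curv2.bcFst k X K) := Flat.generalizingMap _
  exact preimage_component_eq_sUnion (Curv2.bcFst k X K) hg T hT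

section Prod

variable {k : Type u} [Field k] {X Y : Scheme.{u}} (f : X ⟶ Spec (CommRingCat.of k))
  (g : Y ⟶ Spec (CommRingCat.of k))

theorem closure_half_right (A : Set X) (B : Set Y) :
    (pullback.fst f g) ⁻¹' A ∩ (pullback.snd f g) ⁻¹' (closure B) ⊆
      closure ((pullback.fst f g) ⁻¹' A ∩ (pullback.snd f g) ⁻¹' B) := by
  rintro w ⟨hwA, hwB⟩
  let a := (pullback.fst f g) w
  let j := X.fromSpecResidueField a
  let m : pullback (j ≫ f) g ⟶ pullback f g :=
    pullback.map (j ≫ f) g f g j (𝟙 Y) (𝟙 _) (by simp) (by simp)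
  have hr : Set.range m = (pullback.fst f g) ⁻¹' {a} := by
    have := Scheme.Pullback.range_map (j ≫ f) g f g j (𝟙 Y) (𝟙 _) (by simp) (by simp)
    rw [Scheme.range_fromSpecResidueField] at this
    rw [this]
    simp
  have hw : w ∈ Set.range m := by rw [hr]; rfl
  obtain ⟨p, hpw⟩ := hw
  let q := pullback.snd (j ≫ f) g
  have hq : IsOpenMap q := by
    haveI : UniversallyOpen (j ≫ f) := inferInstance
    exact q.isOpenMap
  have hmq : ∀ p', (pullback.snd f g) (m p') = q p' := by
    intro p'
    have : m ≫ pullback.snd f g = q ≫ 𝟙 Y := pullback.lift_snd _ _ _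
    have h' := congrArg (fun ψ : pullback (j ≫ f) g ⟶ Y => ψ p') this
    simpa using h'
  have hmf : ∀ p', (pullback.fst f g) (m p') = a := by
    intro p'
    have : m p' ∈ Set.range m := ⟨p', rfl⟩
    rw [hr] at this
    exact this
  have hp : p ∈ closure (q ⁻¹' B) := by
    rw [← hq.preimage_closure_eq_closure_preimage q.continuous]
    show q p ∈ closure B
    rw [← hmq, hpw]; exact hwB
  have h1 := image_closure_subset_closure_image m.continuous ⟨p, hp, hpw⟩
  refine closure_mono ?_ h1
  rintro _ ⟨p', hp', rfl⟩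
  refine ⟨?_, ?_⟩
  · rw [Set.mem_preimage, hmf]; exact hwA
  · rw [Set.mem_preimage, hmq]; exact hp'

theorem closure_half_left (A : Set X) (B : Set Y) :
    (pullback.fst f g) ⁻¹' (closure A) ∩ (pullback.snd f g) ⁻¹' B ⊆
      closure ((pullback.fst f g) ⁻¹' A ∩ (pullback.snd f g) ⁻¹' B) := by
  rintro w ⟨hwA, hwB⟩
  let b := (pullback.snd f g) w
  let j := Y.fromSpecResidueField b
  let m : pullback f (j ≫ g) ⟶ pullback f g :=
    pullback.map f (j ≫ g) f g (𝟙 X) j (𝟙 _) (by simp) (by simp)
  have hr : Set.range m = (pullback.snd f g) ⁻¹' {b} := by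
    have := Scheme.Pullback.range_map f (j ≫ g) f g (𝟙 X) j (𝟙 _) (by simp) (by simp)
    rw [Scheme.range_fromSpecResidueField] at this
    rw [this]
    simp
  have hw : w ∈ Set.range m := by rw [hr]; rfl
  obtain ⟨p, hpw⟩ := hw
  let q := pullback.fst f (j ≫ g)
  have hq : IsOpenMap q := by
    haveI : UniversallyOpen (j ≫ g) := inferInstance
    exact q.isOpenMap
  have hmq : ∀ p', (pullback.fst f g) (m p') = q p' := by
    intro p'
    have : m ≫ pullback.fst f g = q ≫ 𝟙 X := pullback.lift_fst _ _ _
    have h' := congrArg (fun ψ : pullback f (j ≫ g) ⟶ X => ψ p') this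
    simpa using h'
  have hmf : ∀ p', (pullback.snd f g) (m p') = b := by
    intro p'
    have : m p' ∈ Set.range m := ⟨p', rfl⟩
    rw [hr] at this
    exact this
  have hp : p ∈ closure (q ⁻¹' A) := by
    rw [← hq.preimage_closure_eq_closure_preimage q.continuous]
    show q p ∈ closure A
    rw [← hmq, hpw]; exact hwA
  have h1 := image_closure_subset_closure_image m.continuous ⟨p, hp, hpw⟩
  refine closure_mono ?_ h1
  rintro _ ⟨p', hp', rfl⟩
  refine ⟨?_, ?_⟩
  · rw [Set.mem_preimage, hmq]; exact hp'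
  · rw [Set.mem_preimage, hmf]; exact hwB

theorem closure_prod (A : Set X) (B : Set Y) :
    closure ((pullback.fst f g) ⁻¹' A ∩ (pullback.snd f g) ⁻¹' B) =
      (pullback.fst f g) ⁻¹' closure A ∩ (pullback.snd f g) ⁻¹' closure B := by
  apply Set.Subset.antisymm
  · refine closure_minimal ?_ ?_
    · exact Set.inter_subset_inter (Set.preimage_mono subset_closure)
        (Set.preimage_mono subset_closure)
    · exact (isClosed_closure.preimage (pullback.fst f g).continuous).inter
        (isClosed_closure.preimage (pullback.snd f g).continuous)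
  · refine (closure_half_left f g A (closure B)).trans ?_
    refine closure_minimal ?_ isClosed_closure
    exact closure_half_right f g A B

end Prod

theorem S7612_main (k : Type u) [Field k] (X : Scheme.{u}) [X.Over (Spec (CommRingCat.of k))]
    (Y : Scheme.{u}) [Y.Over (Spec (CommRingCat.of k))] (A : Set ↥X) (B : Set ↥Y) :
    closure ((pullback.fst (X ↘ (Spec (CommRingCat.of k))) (Y ↘ (Spec (CommRingCat.of k)))).base ⁻¹' A ∩
        (pullback.snd (X ↘ (Spec (CommRingCat.of k))) (Y ↘ (Spec (CommRingCat.of k)))).base ⁻¹' B) =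
      (pullback.fst (X ↘ (Spec (CommRingCat.of k))) (Y ↘ (Spec (CommRingCat.of k)))).base ⁻¹' closure A ∩
        (pullback.snd (X ↘ (Spec (CommRingCat.of k))) (Y ↘ (Spec (CommRingCat.of k)))).base ⁻¹' closure B :=
  closure_prod _ _ A B

end Groth.Agent.H9.GZC
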