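import Mathlib

/-!
# Faithfully flat descent for modules in comodule form: Amitsur exactness and effectivity (helper9)
-/

set_option autoImplicit false
set_option linter.unusedSectionVars false
set_option linter.unusedVariables false

namespace Groth.Agent.H9.DES

open TensorProduct

universe u v w

section Eta

variable (R : Type u) (S : Type v) [CommRing R] [CommRing S] [Algebra R S]
  (N : Type w) [AddCommGroup N] [Module R N]

/-- `η : N → S ⊗ N`, `n ↦ 1 ⊗ n`. -/
noncomputable def eta : N →ₗ[R] S ⊗[R] N := TensorProduct.mk R S N 1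

theorem eta_apply (n : N) : eta R S N n = (1 : S) ⊗ₜ[R] n := rfl

end Eta

section Basic

variable (R : Type u) (S : Type v) [CommRing R] [CommRing S] [Algebra R S]
  (N : Type w) [AddCommGroup N] [Module R N] [Module S N] [IsScalarTower R S N]

/-- `μ : S ⊗ N → N`, `s ⊗ n ↦ s • n`. -/
noncomputable def mu : S ⊗[R] N →ₗ[S] N := LinearMap.liftBaseChange S LinearMap.id

theorem mu_tmul (s : S) (n : N) : mu R S N (s ⊗ₜ[R] n) = s • n := rfl

theorem mu_eta (n : N) : mu R S N (eta R S N n) = n := by
  rw [eta_apply, mu_tmul, one_smul]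

/-- contracting the first two factors after inserting `1` in the middle is the identity -/
theorem mu_lTensor_eta (y : S ⊗[R] N) :
    mu R S (S ⊗[R] N) (LinearMap.lTensor S (eta R S N) y) = y := by
  induction y using TensorProduct.induction_on with
  | zero => rw [map_zero, map_zero]
  | add a b ha hb => rw [map_add, map_add, ha, hb]
  | tmul s n =>
    rw [LinearMap.lTensor_tmul, mu_tmul, eta_apply, TensorProduct.smul_tmul', smul_eq_mul, mul_one]

end Basic

/-- A descent datum (in comodule form) on an `S`-module `N` relative to `R → S`. -/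
structure DescData (R : Type u) (S : Type v) [CommRing R] [CommRing S] [Algebra R S]
    (N : Type w) [AddCommGroup N] [Module R N] [Module S N] [IsScalarTower R S N] where
  ρ : N →ₗ[S] S ⊗[R] N
  counit : ∀ n, mu R S N (ρ n) = n
  coassoc : ∀ n, LinearMap.lTensor S (ρ.restrictScalars R) (ρ n) =
    LinearMap.lTensor S (eta R S N) (ρ n)

namespace DescData

variable {R : Type u} {S : Type v} [CommRing R] [CommRing S] [Algebra R S]
  {N : Type w} [AddCommGroup N] [Module R N] [Module S N] [IsScalarTower R S N]
  (D : DescData R S N)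

/-- the invariants: `ρ n = 1 ⊗ n` -/
noncomputable def inv : Submodule R N := LinearMap.ker (D.ρ.restrictScalars R - eta R S N)

theorem mem_inv (n : N) : n ∈ D.inv ↔ D.ρ n = (1 : S) ⊗ₜ[R] n := by
  rw [inv, LinearMap.mem_ker, LinearMap.sub_apply, sub_eq_zero]
  rfl

/-- `S ⊗ N^ρ → N` -/
noncomputable def theta : S ⊗[R] D.inv →ₗ[S] N := LinearMap.liftBaseChange S D.inv.subtype

theorem theta_tmul (s : S) (p : D.inv) : D.theta (s ⊗ₜ[R] p) = s • (p : N) := rfl

theorem mu_lTensor_rho (y : S ⊗[R] N) :
    mu R S (S ⊗[R] N) (LinearMap.lTensor S (D.ρ.restrictScalars R) y) = D.ρ (mu R S N y) := by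
  induction y using TensorProduct.induction_on with
  | zero => rw [map_zero, map_zero, map_zero, map_zero]
  | add a b ha hb => rw [map_add, map_add, ha, hb, map_add, map_add]
  | tmul s n =>
    rw [LinearMap.lTensor_tmul, mu_tmul, mu_tmul, map_smul]
    rfl

theorem eq_rho_mu (y : S ⊗[R] N)
    (h : LinearMap.lTensor S (D.ρ.restrictScalars R) y = LinearMap.lTensor S (eta R S N) y) :
    y = D.ρ (mu R S N y) := by
  rw [← D.mu_lTensor_rho, h, mu_lTensor_eta]

theorem mu_lTensor_subtype (x : S ⊗[R] D.inv) :
    mu R S N (LinearMap.lTensor S D.inv.subtype x) = D.theta x := by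
  induction x using TensorProduct.induction_on with
  | zero => rw [map_zero, map_zero, map_zero]
  | add a b ha hb => rw [map_add, map_add, ha, hb, map_add]
  | tmul s p => rfl

theorem lTensor_sub_subtype (x : S ⊗[R] D.inv) :
    LinearMap.lTensor S (D.ρ.restrictScalars R) (LinearMap.lTensor S D.inv.subtype x) =
      LinearMap.lTensor S (eta R S N) (LinearMap.lTensor S D.inv.subtype x) := by
  induction x using TensorProduct.induction_on with
  | zero => rw [map_zero, map_zero, map_zero]
  | add a b ha hb => rw [map_add, map_add, map_add, ha, hb]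
  | tmul s p =>
    rw [LinearMap.lTensor_tmul, LinearMap.lTensor_tmul, LinearMap.lTensor_tmul]
    have := (D.mem_inv p).1 p.2
    show s ⊗ₜ[R] D.ρ (p : N) = s ⊗ₜ[R] ((1 : S) ⊗ₜ[R] (p : N))
    rw [this]

/-- Effectivity: `S ⊗ N^ρ ≅ N` (only flatness is needed). -/
theorem theta_bijective [Module.Flat R S] : Function.Bijective D.theta := by
  constructor
  · rw [injective_iff_map_eq_zero]
    intro x hx
    have h1 := D.eq_rho_mu _ (D.lTensor_sub_subtype x)
    rw [D.mu_lTensor_subtype, hx, map_zero] at h1
    have hinj : Function.Injective (LinearMap.lTensor S D.inv.subtype) :=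
      Module.Flat.lTensor_preserves_injective_linearMap (M := S) D.inv.subtype
        (Submodule.injective_subtype _)
    apply hinj
    rw [h1, map_zero]
  · intro n
    have hex : Function.Exact D.inv.subtype (D.ρ.restrictScalars R - eta R S N) :=
      LinearMap.exact_subtype_ker_map _
    have hex' := Module.Flat.lTensor_exact S hex
    have h1 : LinearMap.lTensor S (D.ρ.restrictScalars R - eta R S N) (D.ρ n) = 0 := by
      rw [LinearMap.lTensor_sub, LinearMap.sub_apply, D.coassoc, sub_self]
    obtain ⟨x, hx⟩ := (hex' (D.ρ n)).1 h1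
    refine ⟨x, ?_⟩
    rw [← D.mu_lTensor_subtype, hx, D.counit]

/-- `S ⊗ N^ρ ≃ N` -/
noncomputable def thetaEquiv [Module.Flat R S] : S ⊗[R] D.inv ≃ₗ[S] N :=
  LinearEquiv.ofBijective D.theta D.theta_bijective

theorem rho_theta (x : S ⊗[R] D.inv) :
    D.ρ (D.theta x) = LinearMap.lTensor S D.inv.subtype x := by
  induction x using TensorProduct.induction_on with
  | zero => rw [map_zero, map_zero, map_zero]
  | add a b ha hb => rw [map_add, map_add, ha, hb, map_add]
  | tmul s p =>
    rw [theta_tmul, map_smul, (D.mem_inv p).1 p.2, LinearMap.lTensor_tmul,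
      TensorProduct.smul_tmul', smul_eq_mul, mul_one]
    rfl

end DescData

section Amitsur

variable (R : Type u) (S : Type v) [CommRing R] [CommRing S] [Algebra R S]
  (Q : Type w) [AddCommGroup Q] [Module R Q]

theorem mu_lTensor_lTensor_eta (y : S ⊗[R] (S ⊗[R] Q)) :
    mu R S (S ⊗[R] (S ⊗[R] Q)) (LinearMap.lTensor S (LinearMap.lTensor S (eta R S Q)) y) =
      LinearMap.lTensor S (eta R S Q) (mu R S (S ⊗[R] Q) y) := by
  induction y using TensorProduct.induction_on with
  | zero => rw [map_zero, map_zero, map_zero, map_zero]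
  | add a b ha hb => rw [map_add, map_add, ha, hb, map_add, map_add]
  | tmul s z =>
    rw [LinearMap.lTensor_tmul, mu_tmul, mu_tmul]
    induction z using TensorProduct.induction_on with
    | zero => rw [map_zero, smul_zero, smul_zero, map_zero]
    | add a b ha hb => rw [map_add, smul_add, ha, hb, smul_add, map_add]
    | tmul t q =>
      rw [LinearMap.lTensor_tmul, TensorProduct.smul_tmul', TensorProduct.smul_tmul',
        LinearMap.lTensor_tmul]

/-- Amitsur exactness: `Q → S ⊗ Q ⇉ S ⊗ S ⊗ Q`. -/
theorem amitsur_exact [Module.FaithfullyFlat R S] :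
    Function.Exact (eta R S Q)
      (LinearMap.lTensor S (eta R S Q) - eta R S (S ⊗[R] Q)) := by
  rw [← Module.FaithfullyFlat.lTensor_exact_iff_exact R S]
  intro y
  constructor
  · intro hy
    rw [LinearMap.lTensor_sub, LinearMap.sub_apply, sub_eq_zero] at hy
    refine ⟨mu R S (S ⊗[R] Q) y, ?_⟩
    rw [← mu_lTensor_lTensor_eta, hy, mu_lTensor_eta]
  · rintro ⟨x, rfl⟩
    rw [← LinearMap.comp_apply, ← LinearMap.lTensor_comp]
    have : (LinearMap.lTensor S (eta R S Q) - eta R S (S ⊗[R] Q)) ∘ₗ eta R S Q = 0 := by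
      apply LinearMap.ext
      intro q
      rw [LinearMap.comp_apply, LinearMap.sub_apply, eta_apply, LinearMap.lTensor_tmul, eta_apply,
        eta_apply, sub_self, LinearMap.zero_apply]
    rw [this, LinearMap.lTensor_zero, LinearMap.zero_apply]

theorem amitsur [Module.FaithfullyFlat R S] (x : S ⊗[R] Q)
    (h : LinearMap.lTensor S (eta R S Q) x = (1 : S) ⊗ₜ[R] x) : ∃ q : Q, x = (1 : S) ⊗ₜ[R] q := by
  have h1 : (LinearMap.lTensor S (eta R S Q) - eta R S (S ⊗[R] Q)) x = 0 := by
    rw [LinearMap.sub_apply, h, eta_apply, sub_self]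
  obtain ⟨q, hq⟩ := (amitsur_exact R S Q x).1 h1
  exact ⟨q, hq.symm⟩

theorem eta_injective [Module.FaithfullyFlat R S] : Function.Injective (eta R S Q) :=
  Module.FaithfullyFlat.tensorProduct_mk_injective (A := R) (B := S) Q

end Amitsur

end Groth.Agent.H9.DES
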