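import Mathlib

/-! Helper9: finite birational morphism onto a normal integral scheme is an isomorphism -/

namespace Groth.Agent.H9.FinBir

open CategoryTheory AlgebraicGeometry TopologicalSpace

universe u

theorem intClosed_sections {Y : Scheme.{u}} [IsIntegral Y]
    (hN : ∀ y : Y, IsIntegrallyClosed (Y.presheaf.stalk y)) (W : Y.Opens) (hW : IsAffineOpen W)
    [Nonempty W] : IsIntegrallyClosed Γ(Y, W) := by
  apply IsIntegrallyClosed.of_localization_maximal
  intro p _ hp
  let p' : Spec Γ(Y, W) := ⟨p, hp.isPrime⟩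
  have hx : hW.fromSpec p' ∈ W := by
    have : hW.fromSpec p' ∈ Set.range hW.fromSpec := ⟨p', rfl⟩
    rw [hW.range_fromSpec] at this
    exact this
  have hprime : hW.primeIdealOf ⟨hW.fromSpec p', hx⟩ = p' := by
    apply hW.fromSpec.isOpenEmbedding.injective
    rw [hW.fromSpec_primeIdealOf]
  let _ := TopCat.Presheaf.algebra_section_stalk Y.presheaf ⟨hW.fromSpec p', hx⟩
  have hloc : IsLocalization.AtPrime (Y.presheaf.stalk (hW.fromSpec p')) p := by
    have := hW.isLocalization_stalk ⟨hW.fromSpec p', hx⟩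
    rw [hprime] at this
    exact this
  have := hN (hW.fromSpec p')
  exact IsIntegrallyClosed.of_equiv
    (IsLocalization.algEquiv p.primeCompl (Y.presheaf.stalk (hW.fromSpec p')) (Localization.AtPrime p)).toRingEquiv

theorem fracRing_of_eq_generic {Y : Scheme.{u}} [IsIntegral Y] (W : Y.Opens) (hW : IsAffineOpen W)
    [Nonempty W] (y : Y) (hy : y = genericPoint Y) (hyW : y ∈ W) :
    letI := (Y.presheaf.germ W y hyW).hom.toAlgebra
    IsFractionRing Γ(Y, W) (Y.presheaf.stalk y) := by
  subst hy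
  exact functionField_isFractionRing_of_isAffineOpen Y W hW

theorem app_bijective {Y' Y : Scheme.{u}} [IsIntegral Y'] [IsIntegral Y]
    (hN : ∀ y : Y, IsIntegrallyClosed (Y.presheaf.stalk y)) (u : Y' ⟶ Y) [IsFinite u]
    (hgen : u (genericPoint Y') = genericPoint Y)
    (hbir : IsIso (u.stalkMap (genericPoint Y'))) (W : Y.Opens) (hW : IsAffineOpen W) :
    Function.Bijective (u.app W).hom := by
  by_cases hne : Nonempty W
  swap
  · have hWbot : W = ⊥ := by
      ext x
      simp only [Opens.coe_bot, Set.mem_empty_iff_false, iff_false]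
      intro hx
      exact hne ⟨⟨x, hx⟩⟩
    subst hWbot
    have h1 : Subsingleton Γ(Y, ⊥) := inferInstance
    have h2 : Subsingleton Γ(Y', u ⁻¹ᵁ ⊥) := by
      have : u ⁻¹ᵁ (⊥ : Y.Opens) = ⊥ := rfl
      rw [this]; infer_instance
    constructor
    · intro a b _; exact Subsingleton.elim _ _
    · intro b; exact ⟨0, Subsingleton.elim _ _⟩
  have hηW : genericPoint Y ∈ W :=
    ((genericPoint_spec Y).mem_open_set_iff W.isOpen).mpr (by simpa using hne)
  have hη : u (genericPoint Y') ∈ W := by rw [hgen]; exact hηW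
  have hη' : genericPoint Y' ∈ u ⁻¹ᵁ W := hη
  have hne' : Nonempty ↥(u ⁻¹ᵁ W) := ⟨⟨_, hη'⟩⟩
  -- maps
  let gA := (Y.presheaf.germ W (u (genericPoint Y')) hη).hom
  let gB := (Y'.presheaf.germ (u ⁻¹ᵁ W) (genericPoint Y') hη').hom
  let ψ := (u.stalkMap (genericPoint Y')).hom
  let φ := (u.app W).hom
  have hcomp : ∀ a, ψ (gA a) = gB (φ a) := fun a => u.germ_stalkMap_apply W (genericPoint Y') hη a
  have hψ : Function.Bijective ψ := (ConcreteCategory.isIso_iff_bijective _).mp hbir
  have hgAinj : Function.Injective gA := germ_injective_of_isIntegral Y _ hη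
  have hgBinj : Function.Injective gB := germ_injective_of_isIntegral Y' _ hη'
  have hIC : IsIntegrallyClosed Γ(Y, W) := intClosed_sections hN W hW
  let _ : Algebra Γ(Y, W) (Y.presheaf.stalk (u (genericPoint Y'))) := gA.toAlgebra
  have hFR : IsFractionRing Γ(Y, W) (Y.presheaf.stalk (u (genericPoint Y'))) :=
    fracRing_of_eq_generic W hW _ hgen hη
  constructor
  · intro a b hab
    apply hgAinj
    apply hψ.1
    rw [hcomp, hcomp, hab]
  · intro b
    have hint : φ.IsIntegralElem b := (RingHom.Finite.to_isIntegral (IsFinite.finite_app u W hW)) b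
    obtain ⟨p, hpm, hp⟩ := hint
    obtain ⟨x, hx⟩ := hψ.2 (gB b)
    have hxint : IsIntegral Γ(Y, W) x := by
      refine ⟨p, hpm, ?_⟩
      apply hψ.1
      show ψ (Polynomial.eval₂ gA x p) = ψ 0
      rw [Polynomial.hom_eval₂, map_zero, hx]
      have : ψ.comp gA = gB.comp φ := RingHom.ext hcomp
      rw [this, ← Polynomial.hom_eval₂, hp, map_zero]
    obtain ⟨a, ha⟩ := IsIntegrallyClosed.isIntegral_iff.mp hxint
    refine ⟨a, ?_⟩
    apply hgBinj
    rw [← hcomp, ← hx]
    exact congrArg ψ ha

set_option backward.isDefEq.respectTransparency.types false in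
theorem main {Y' Y : Scheme.{u}} [IsIntegral Y'] [IsIntegral Y]
    (hN : ∀ y : Y, IsIntegrallyClosed (Y.presheaf.stalk y)) (u : Y' ⟶ Y) [IsFinite u]
    (hgen : u (genericPoint Y') = genericPoint Y)
    (hbir : IsIso (u.stalkMap (genericPoint Y'))) : IsIso u := by
  have key : ∀ (W : Y.Opens), IsAffineOpen W → IsIso (u.app W) := by
    intro W hW
    exact (ConcreteCategory.isIso_iff_bijective _).mpr (app_bijective hN u hgen hbir W hW)
  show (MorphismProperty.isomorphisms Scheme) u
  rw [HasAffineProperty.eq_targetAffineLocally (MorphismProperty.isomorphisms Scheme)]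
  intro U
  refine ⟨(U.2.preimage u : IsAffineOpen (u ⁻¹ᵁ U.1)), ?_⟩
  rw [morphismRestrict_appTop]
  have hA : IsAffineOpen (U.1.ι ''ᵁ ⊤) := by
    rw [Scheme.Opens.ι_image_top]; exact U.2
  have h1 := key _ hA
  have h2 : IsIso (Y'.presheaf.map (eqToHom (image_morphismRestrict_preimage u U.1 ⊤)).op) := by
    have : IsIso (eqToHom (image_morphismRestrict_preimage u U.1 ⊤)).op := inferInstance
    exact Functor.map_isIso _ _
  exact @IsIso.comp_isIso _ _ _ _ _ _ _ h1 h2

end Groth.Agent.H9.FinBir
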