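import Mathlib
import Groth.Prelude.Def_Red2
import Groth.Agent.H4.GaGm
import Groth.Agent.Lib.Helper9.Misc.GAQ1
import Groth.Agent.Lib.Helper9.Misc.GAQ2

/-! Helper9: Gm over a field is Spec K[T;T⁻¹] (for S15180). -/

set_option linter.style.haveILetI false
set_option linter.unusedSectionVars false

namespace Groth.Agent.H9.GAQ

universe u

open CategoryTheory MonoidalCategory CartesianMonoidalCategory MonObj GrpObj AlgebraicGeometry Limits
open Groth.Agent.H4.GaGm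

section pts

variable {S : Scheme.{u}} {X X' : Over S}

/-- the unit attached to a point of `𝔾_m` -/
noncomputable def gmUnit (z : X ⟶ Red.Gm S) : Γ(X.left, ⊤)ˣ := (isUnit_gmFn z).unit

@[simp] theorem gmUnit_val (z : X ⟶ Red.Gm S) : (gmUnit z : Γ(X.left, ⊤)) = Red.gmFn z := rfl

theorem gmUnit_mul (z w : X ⟶ Red.Gm S) : gmUnit (z * w) = gmUnit z * gmUnit w :=
  Units.ext (gmFn_mul z w)

theorem gmUnit_one : gmUnit (1 : X ⟶ Red.Gm S) = 1 := Units.ext gmFn_one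

theorem gmUnit_injective : Function.Injective (gmUnit (S := S) (X := X)) := by
  intro z w h
  exact gmFn_injective (congrArg Units.val h)

/-- the point of `𝔾_m` with given coordinate -/
noncomputable def gmPt (v : Γ(X.left, ⊤)ˣ) : X ⟶ Red.Gm S :=
  (exists_gmFn_eq (v : Γ(X.left, ⊤)) v.isUnit).choose

@[simp] theorem gmFn_gmPt (v : Γ(X.left, ⊤)ˣ) : Red.gmFn (gmPt (S := S) v) = v :=
  (exists_gmFn_eq (v : Γ(X.left, ⊤)) v.isUnit).choose_spec

@[simp] theorem gmUnit_gmPt (v : Γ(X.left, ⊤)ˣ) : gmUnit (gmPt (S := S) v) = v :=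
  Units.ext (gmFn_gmPt v)

@[simp] theorem gmPt_gmUnit (z : X ⟶ Red.Gm S) : gmPt (gmUnit z) = z :=
  gmUnit_injective (gmUnit_gmPt _)

theorem gmUnit_comp (π : X' ⟶ X) (z : X ⟶ Red.Gm S) :
    gmUnit (π ≫ z) = Units.map (π.left.appTop.hom : Γ(X.left, ⊤) →* Γ(X'.left, ⊤)) (gmUnit z) :=
  Units.ext (gmFn_comp π z)

theorem gmUnit_pow (z : X ⟶ Red.Gm S) (n : ℕ) : gmUnit (z ^ n) = gmUnit z ^ n := by
  induction n with
  | zero => rw [pow_zero, pow_zero, gmUnit_one]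
  | succ n ih => rw [pow_succ, pow_succ, gmUnit_mul, ih]

end pts

section Gm

open LaurentPolynomial

variable {K : Type u} [Field K] {X X' : Over (Spec (CommRingCat.of K))}

theorem ringHom_ext_laurent {R : Type*} [Semiring R] (φ ψ : K[T;T⁻¹] →+* R)
    (hC : ∀ c, φ (C c) = ψ (C c)) (hT : φ (T 1) = ψ (T 1)) : φ = ψ := by
  apply IsLocalization.ringHom_ext (Submonoid.powers (Polynomial.X : Polynomial K))
  apply Polynomial.ringHom_ext
  · intro c
    simp only [RingHom.comp_apply, algebraMap_eq_toLaurent, Polynomial.toLaurent_C, hC]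
  · simp only [RingHom.comp_apply, algebraMap_eq_toLaurent, Polynomial.toLaurent_X, hT]

/-- evaluation of Laurent polynomials at an invertible global function -/
noncomputable def evM (v : Γ(X.left, ⊤)ˣ) : K[T;T⁻¹] →+* Γ(X.left, ⊤) :=
  LaurentPolynomial.eval₂ (ρ X) v

@[simp] theorem evM_C (v : Γ(X.left, ⊤)ˣ) (c : K) : evM v (C c) = ρ X c := by
  simp [evM]

@[simp] theorem evM_T (v : Γ(X.left, ⊤)ˣ) : evM v (T 1) = v := by
  simp [evM]

theorem evM_toLaurent (v : Γ(X.left, ⊤)ˣ) (p : Polynomial K) :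
    evM v (Polynomial.toLaurent p) = Polynomial.eval₂ (ρ X) (v : Γ(X.left, ⊤)) p := by
  simp [evM]

theorem evM_algebraMap (v : Γ(X.left, ⊤)ˣ) : (evM v).comp (algebraMap K K[T;T⁻¹]) = ρ X := by
  ext c
  rw [RingHom.comp_apply, ← C_eq_algebraMap, evM_C]

theorem evM_comp (π : X' ⟶ X) (v : Γ(X.left, ⊤)ˣ) :
    (π.left.appTop.hom).comp (evM v) =
      evM (Units.map (π.left.appTop.hom : Γ(X.left, ⊤) →* Γ(X'.left, ⊤)) v) := by
  apply ringHom_ext_laurent
  · intro c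
    simp [ρ_comp_apply]
  · simp

/-- the coordinate function of `𝔾_m` -/
noncomputable def tGm : Γ((Red.Gm (Spec (CommRingCat.of K))).left, ⊤)ˣ :=
  gmUnit (𝟙 (Red.Gm (Spec (CommRingCat.of K))))

theorem gmUnit_eq_app (x : X ⟶ Red.Gm (Spec (CommRingCat.of K))) :
    gmUnit x = Units.map (x.left.appTop.hom :
      Γ((Red.Gm (Spec (CommRingCat.of K))).left, ⊤) →* Γ(X.left, ⊤)) tGm := by
  rw [tGm, ← gmUnit_comp, Category.comp_id]

/-- `𝔾_m → Spec K[T;T⁻¹]` -/
noncomputable def θmhom : Red.Gm (Spec (CommRingCat.of K)) ⟶ AB (K := K) K[T;T⁻¹] :=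
  ptB (evM tGm) (evM_algebraMap _)

/-- the coordinate of a point of `Spec K[T;T⁻¹]` is a unit -/
noncomputable def coUnit (y : X ⟶ AB (K := K) K[T;T⁻¹]) : Γ(X.left, ⊤)ˣ :=
  ((isUnit_T (R := K) 1).map (co y)).unit

@[simp] theorem coUnit_val (y : X ⟶ AB (K := K) K[T;T⁻¹]) :
    (coUnit y : Γ(X.left, ⊤)) = co y (T 1) := rfl

/-- `Spec K[T;T⁻¹] → 𝔾_m` -/
noncomputable def θminv : AB (K := K) K[T;T⁻¹] ⟶ Red.Gm (Spec (CommRingCat.of K)) :=
  gmPt (coUnit (𝟙 (AB (K := K) K[T;T⁻¹])))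

theorem co_comp_θmhom (x : X ⟶ Red.Gm (Spec (CommRingCat.of K))) :
    co (x ≫ θmhom) = evM (gmUnit x) := by
  rw [co_comp, θmhom, co_ptB, evM_comp, ← gmUnit_eq_app]

theorem gmUnit_comp_θminv (y : X ⟶ AB (K := K) K[T;T⁻¹]) :
    gmUnit (y ≫ θminv) = coUnit y := by
  rw [gmUnit_comp, θminv, gmUnit_gmPt]
  apply Units.ext
  have := co_comp y (𝟙 (AB (K := K) K[T;T⁻¹]))
  rw [Category.comp_id] at this
  rw [coUnit_val, this]
  rfl

theorem co_eq_evM (y : X ⟶ AB (K := K) K[T;T⁻¹]) : co y = evM (coUnit y) := by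
  apply ringHom_ext_laurent
  · intro c
    rw [evM_C]
    have := congrArg (fun f => f c) (co_algebraMap y)
    simpa [← C_eq_algebraMap] using this
  · simp

/-- `𝔾_m ≅ Spec K[T;T⁻¹]` over `K` -/
noncomputable def θm : Red.Gm (Spec (CommRingCat.of K)) ≅ AB (K := K) K[T;T⁻¹] where
  hom := θmhom
  inv := θminv
  hom_inv_id := by
    apply gmUnit_injective
    rw [gmUnit_comp_θminv]
    apply Units.ext
    rw [coUnit_val, θmhom, co_ptB, evM_T]
    rfl
  inv_hom_id := by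
    apply co_injective
    rw [co_comp_θmhom]
    have h1 := gmUnit_comp_θminv (𝟙 (AB (K := K) K[T;T⁻¹]))
    rw [Category.id_comp] at h1
    rw [h1, ← co_eq_evM]

end Gm

end Groth.Agent.H9.GAQ
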