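import Mathlib
import Groth.Agent.Lib.Helper9.Misc.GSC1

/-! Helper9: irreducible components of a lft group scheme over an algebraically closed field are disjoint. -/

set_option linter.style.haveILetI false
set_option linter.unusedSectionVars false

namespace Groth.Agent.H9.GSC

universe u

open CategoryTheory CategoryTheory.Limits MonoidalCategory CartesianMonoidalCategory MonObj GrpObj
  AlgebraicGeometry

variable {K : Type u} [Field K] [IsAlgClosed K] {G : Over (Spec (CommRingCat.of K))} [GrpObj G]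
  [LocallyOfFiniteType G.hom]

local notation "𝟙K" => 𝟙_ (Over (Spec (CommRingCat.of K)))

instance jacobson : JacobsonSpace G.left := LocallyOfFiniteType.jacobsonSpace G.hom

theorem closure_closedPoints {Z : Set G.left} (hZ : IsClosed Z) :
    closure (Z ∩ closedPoints G.left) = Z := by
  rw [JacobsonSpace.closure_inter_closedPoints_eq_closure hZ.isLocallyClosed, hZ.closure_eq]

/-- If all closed points of a closed set `Z` lie in a closed set `A`, then `Z ⊆ A`. -/
theorem subset_of_closedPoints {Z A : Set G.left} (hZ : IsClosed Z) (hA : IsClosed A)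
    (h : ∀ a : 𝟙K ⟶ G, pt G a ∈ Z → pt G a ∈ A) : Z ⊆ A := by
  rw [← closure_closedPoints hZ]
  refine closure_minimal ?_ hA
  rintro x ⟨hxZ, hxc⟩
  have hxc' : IsClosed ({x} : Set G.left) := hxc
  have := h (kpt G x hxc') (by rwa [pt_kpt])
  rwa [pt_kpt] at this

/-- The set of products of closed points. -/
def mulSet (Z₁ Z₂ : Set G.left) : Set G.left :=
  {x | ∃ a b : 𝟙K ⟶ G, pt G a ∈ Z₁ ∧ pt G b ∈ Z₂ ∧ x = pt G (a * b)}

theorem isPreirreducible_mulSet {Z₁ Z₂ : Set G.left} (h₁ : IsIrreducible Z₁) (hc₁ : IsClosed Z₁)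
    (h₂ : IsIrreducible Z₂) (hc₂ : IsClosed Z₂) : IsPreirreducible (mulSet Z₁ Z₂) := by
  rw [isPreirreducible_iff_isClosed_union_isClosed]
  intro A B hA hB hAB
  -- slices
  have hslice : ∀ a : 𝟙K ⟶ G, pt G a ∈ Z₁ →
      (∀ b : 𝟙K ⟶ G, pt G b ∈ Z₂ → pt G (a * b) ∈ A) ∨
      (∀ b : 𝟙K ⟶ G, pt G b ∈ Z₂ → pt G (a * b) ∈ B) := by
    intro a ha
    have hA' : IsClosed ((lmul a).hom.left ⁻¹' A) := hA.preimage (lmul a).hom.left.continuous
    have hB' : IsClosed ((lmul a).hom.left ⁻¹' B) := hB.preimage (lmul a).hom.left.continuous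
    have hsub : Z₂ ⊆ (lmul a).hom.left ⁻¹' A ∪ (lmul a).hom.left ⁻¹' B := by
      refine subset_of_closedPoints hc₂ (hA'.union hB') fun b hb => ?_
      have := hAB ⟨a, b, ha, hb, rfl⟩
      rw [← lmul_pt] at this
      exact this
    rcases (isPreirreducible_iff_isClosed_union_isClosed.mp h₂.2) _ _ hA' hB' hsub with h | h
    · left; intro b hb; have := h hb; rwa [Set.mem_preimage, lmul_pt] at this
    · right; intro b hb; have := h hb; rwa [Set.mem_preimage, lmul_pt] at this
  let CA : Set G.left := ⋂ (b : 𝟙K ⟶ G) (_ : pt G b ∈ Z₂), (rmul b).hom.left ⁻¹' A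
  let CB : Set G.left := ⋂ (b : 𝟙K ⟶ G) (_ : pt G b ∈ Z₂), (rmul b).hom.left ⁻¹' B
  have hCA : IsClosed CA := isClosed_iInter fun b => isClosed_iInter fun _ =>
    hA.preimage (rmul b).hom.left.continuous
  have hCB : IsClosed CB := isClosed_iInter fun b => isClosed_iInter fun _ =>
    hB.preimage (rmul b).hom.left.continuous
  have hsub : Z₁ ⊆ CA ∪ CB := by
    refine subset_of_closedPoints hc₁ (hCA.union hCB) fun a ha => ?_
    rcases hslice a ha with h | h
    · left
      simp only [CA, Set.mem_iInter, Set.mem_preimage]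
      intro b hb
      rw [rmul_pt]; exact h b hb
    · right
      simp only [CB, Set.mem_iInter, Set.mem_preimage]
      intro b hb
      rw [rmul_pt]; exact h b hb
  rcases (isPreirreducible_iff_isClosed_union_isClosed.mp h₁.2) _ _ hCA hCB hsub with h | h
  · left
    rintro x ⟨a, b, ha, hb, rfl⟩
    have := h ha
    simp only [CA, Set.mem_iInter, Set.mem_preimage] at this
    have := this b hb
    rwa [rmul_pt] at this
  · right
    rintro x ⟨a, b, ha, hb, rfl⟩
    have := h ha
    simp only [CB, Set.mem_iInter, Set.mem_preimage] at this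
    have := this b hb
    rwa [rmul_pt] at this

/-- There is exactly one irreducible component through the identity. -/
theorem component_unique_one {Z₁ Z₂ : Set G.left} (h₁ : Z₁ ∈ irreducibleComponents G.left)
    (h₂ : Z₂ ∈ irreducibleComponents G.left) (he₁ : pt G (1 : 𝟙K ⟶ G) ∈ Z₁)
    (he₂ : pt G (1 : 𝟙K ⟶ G) ∈ Z₂) : Z₁ = Z₂ := by
  have hc₁ := isClosed_of_mem_irreducibleComponents Z₁ h₁
  have hc₂ := isClosed_of_mem_irreducibleComponents Z₂ h₂
  have hT : IsIrreducible (closure (mulSet Z₁ Z₂)) := by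
    refine IsIrreducible.closure ⟨⟨pt G ((1 : 𝟙K ⟶ G) * 1), 1, 1, he₁, he₂, rfl⟩,
      isPreirreducible_mulSet h₁.1 hc₁ h₂.1 hc₂⟩
  have hs₁ : Z₁ ⊆ closure (mulSet Z₁ Z₂) :=
    subset_of_closedPoints hc₁ isClosed_closure fun a ha =>
      subset_closure ⟨a, 1, ha, he₂, by rw [_root_.mul_one]⟩
  have hs₂ : Z₂ ⊆ closure (mulSet Z₁ Z₂) :=
    subset_of_closedPoints hc₂ isClosed_closure fun b hb =>
      subset_closure ⟨1, b, he₁, hb, by rw [_root_.one_mul]⟩
  exact (hs₁.antisymm (h₁.2 hT hs₁)).trans (hs₂.antisymm (h₂.2 hT hs₂)).symm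

theorem preimage_component (φ : G ≅ G) {Z : Set G.left} (hZ : Z ∈ irreducibleComponents G.left) :
    φ.hom.left ⁻¹' Z ∈ irreducibleComponents G.left := by
  have hemb : Topology.IsOpenEmbedding (homeo φ) := (homeo φ).isOpenEmbedding
  refine preimage_mem_irreducibleComponents hZ hemb ?_
  have hr : Set.range ⇑(Over.Hom.left φ.hom) = Set.univ := (homeo φ).surjective.range_eq
  rw [hr, Set.inter_univ]
  exact hZ.1.nonempty

/-- There is exactly one irreducible component through each closed point. -/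
theorem component_unique {Z₁ Z₂ : Set G.left} (h₁ : Z₁ ∈ irreducibleComponents G.left)
    (h₂ : Z₂ ∈ irreducibleComponents G.left) (a : 𝟙K ⟶ G) (ha₁ : pt G a ∈ Z₁)
    (ha₂ : pt G a ∈ Z₂) : Z₁ = Z₂ := by
  have h := component_unique_one (preimage_component (lmul a) h₁) (preimage_component (lmul a) h₂)
    (by rw [Set.mem_preimage, lmul_pt, _root_.mul_one]; exact ha₁)
    (by rw [Set.mem_preimage, lmul_pt, _root_.mul_one]; exact ha₂)
  have hsurj : Function.Surjective (lmul a).hom.left := (homeo (lmul a)).surjective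
  exact Set.preimage_injective.mpr hsurj h

/-- Two irreducible components which meet are equal. -/
theorem component_eq_of_inter {Z₁ Z₂ : Set G.left} (h₁ : Z₁ ∈ irreducibleComponents G.left)
    (h₂ : Z₂ ∈ irreducibleComponents G.left) (h : (Z₁ ∩ Z₂).Nonempty) : Z₁ = Z₂ := by
  have hc : IsClosed (Z₁ ∩ Z₂) := (isClosed_of_mem_irreducibleComponents Z₁ h₁).inter
    (isClosed_of_mem_irreducibleComponents Z₂ h₂)
  obtain ⟨x, ⟨hx₁, hx₂⟩, hxc⟩ := nonempty_inter_closedPoints h hc.isLocallyClosed
  have hxc' : IsClosed ({x} : Set G.left) := hxc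
  exact component_unique h₁ h₂ (kpt G x hxc') (by rwa [pt_kpt]) (by rwa [pt_kpt])

end Groth.Agent.H9.GSC
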