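import Mathlib
import Groth.Agent.Lib.Helper9.Misc.GSC1
import Groth.Agent.Lib.Helper9.Misc.GSC2

/-! Helper9: irreducible components of a lft group scheme over an algebraically closed field are open (= connected components). -/

set_option linter.style.haveILetI false
set_option linter.unusedSectionVars false

namespace Groth.Agent.H9.GSC

universe u

open CategoryTheory CategoryTheory.Limits MonoidalCategory CartesianMonoidalCategory MonObj GrpObj
  AlgebraicGeometry

variable {K : Type u} [Field K] [IsAlgClosed K] {G : Over (Spec (CommRingCat.of K))} [GrpObj G]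
  [LocallyOfFiniteType G.hom]

local notation "𝟙K" => 𝟙_ (Over (Spec (CommRingCat.of K)))

/-- Every irreducible component contains a nonempty open subset. -/
theorem exists_open_subset_component {Z : Set G.left} (hZ : Z ∈ irreducibleComponents G.left) :
    ∃ o : Set G.left, IsOpen o ∧ o.Nonempty ∧ o ⊆ Z := by
  haveI : IsLocallyNoetherian G.left := LocallyOfFiniteType.isLocallyNoetherian G.hom
  obtain ⟨p, hp⟩ := hZ.1.nonempty
  obtain ⟨_, ⟨U, hU, rfl⟩, hpU, -⟩ :=
    G.left.isBasis_affineOpens.exists_subset_of_mem_open (Set.mem_univ p) isOpen_univ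
  haveI : IsNoetherianRing Γ(G.left, U) := IsLocallyNoetherian.component_noetherian ⟨U, hU⟩
  haveI : TopologicalSpace.NoetherianSpace U := noetherianSpace_of_isAffineOpen U hU
  have hemb : Topology.IsOpenEmbedding (Subtype.val : U → G.left) := U.2.isOpenEmbedding_subtypeVal
  have hcomp : (Subtype.val : U → G.left) ⁻¹' Z ∈ irreducibleComponents U :=
    preimage_mem_irreducibleComponents hZ hemb ⟨p, hp, ⟨p, hpU⟩, rfl⟩
  obtain ⟨o, ho, hone, hoZ⟩ :=
    TopologicalSpace.NoetherianSpace.exists_isOpen_nonempty_subset_irreducibleComponent _ hcomp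
  refine ⟨Subtype.val '' o, hemb.isOpenMap o ho, hone.image _, ?_⟩
  rintro _ ⟨x, hx, rfl⟩
  exact hoZ hx

/-- Irreducible components are open. -/
theorem isOpen_component {Z : Set G.left} (hZ : Z ∈ irreducibleComponents G.left) : IsOpen Z := by
  obtain ⟨o, ho, hone, hoZ⟩ := exists_open_subset_component hZ
  have hc := isClosed_of_mem_irreducibleComponents Z hZ
  obtain ⟨w, hwo, hwc⟩ := nonempty_inter_closedPoints hone ho.isLocallyClosed
  have hwc' : IsClosed ({w} : Set G.left) := hwc
  have key : ∀ a : 𝟙K ⟶ G, pt G a ∈ Z → pt G a ∈ interior Z := by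
    intro a ha
    let c := kpt G w hwc'
    let ψ := (lmul (a * c⁻¹)).symm
    have h1 : ψ.hom.left (pt G a) = w := by
      have : ψ.hom = (lmul (a * c⁻¹)).inv := rfl
      rw [this, lmul_inv_pt, _root_.mul_inv_rev, _root_.inv_inv, inv_mul_cancel_right, pt_kpt]
    have h2 : ψ.hom.left ⁻¹' Z = Z :=
      component_unique (preimage_component ψ hZ) hZ a
        (by rw [Set.mem_preimage, h1]; exact hoZ hwo) ha
    refine mem_interior.mpr ⟨ψ.hom.left ⁻¹' o, ?_, ho.preimage ψ.hom.left.continuous,
      by rw [Set.mem_preimage, h1]; exact hwo⟩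
    rw [← h2]
    exact Set.preimage_mono hoZ
  by_contra hno
  have hne : (Z \ interior Z).Nonempty := by
    by_contra h
    rw [Set.not_nonempty_iff_eq_empty, Set.sdiff_eq_empty] at h
    exact hno (by rw [h.antisymm interior_subset]; exact isOpen_interior)
  have hcl : IsClosed (Z \ interior Z) := hc.sdiff isOpen_interior
  obtain ⟨x, ⟨hxZ, hxi⟩, hxc⟩ := nonempty_inter_closedPoints hne hcl.isLocallyClosed
  have hxc' : IsClosed ({x} : Set G.left) := hxc
  have := key (kpt G x hxc') (by rwa [pt_kpt])
  rw [pt_kpt] at this
  exact hxi this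

/-- The component through a closed point is its connected component. -/
theorem component_eq_connectedComponent {Z : Set G.left} (hZ : Z ∈ irreducibleComponents G.left)
    {x : G.left} (hx : x ∈ Z) : Z = connectedComponent x := by
  apply Set.Subset.antisymm
  · exact hZ.1.isConnected.isPreconnected.subset_connectedComponent hx
  · exact IsClopen.connectedComponent_subset
      ⟨isClosed_of_mem_irreducibleComponents Z hZ, isOpen_component hZ⟩ hx

end Groth.Agent.H9.GSC
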