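import Mathlib
import Groth.Prelude.Def_AlgGrp
import Groth.Agent.Lib.Helper9.Misc.ORB3
import Groth.Agent.Lib.Helper9.Misc.GSC3
import Groth.Agent.Lib.Helper9.Misc.FLH5
import Groth.Agent.H4.SmRed2

/-! Helper9: a group scheme acting transitively on a connected reduced scheme with connected
stabilizer is connected (S15598); surjective orbit maps onto reduced schemes are flat and open. -/

set_option autoImplicit false
set_option linter.style.haveILetI false
set_option linter.unusedSectionVars false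
set_option linter.unusedVariables false

namespace Groth.Agent.H9.ORB4

universe u

open CategoryTheory CategoryTheory.Limits AlgebraicGeometry MonoidalCategory
  CartesianMonoidalCategory MonObj GrpObj Groth.Agent.H9.FLH Topology TopologicalSpace
  Groth.Agent.H9.GSC

variable {k : Type u} [Field k]
  (G X : Over (Spec (CommRingCat.of k))) [GrpObj G]
  (a : AlgGrp.Action G X) (x₀ : 𝟙_ (Over (Spec (CommRingCat.of k))) ⟶ X)

local notation "𝟙K" => 𝟙_ (Over (Spec (CommRingCat.of k)))

/-- a surjective orbit map onto a reduced scheme is flat. -/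
theorem flat_orbitMap_of_surjective [IsReduced X.left]
    (hsurj : Function.Surjective (a.orbitMap x₀).left) : Flat (a.orbitMap x₀).left := by
  haveI hne : Nonempty X.left := ⟨x₀.left (IsLocalRing.closedPoint k)⟩
  obtain ⟨ξ, hξ⟩ := Groth.Agent.H9.GSD.exists_maxPt X.left
  obtain ⟨g, hg⟩ := hsurj ξ
  have hfield := isField_stalk_of_isMaxPt X.left ((a.orbitMap x₀).left g) (by rw [hg]; exact hξ)
  have hfl : FlatAt (a.orbitMap x₀).left g := RingHom.Flat.of_isField hfield _
  haveI : Flat G.hom := inferInstance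
  exact flat_orbitMap a x₀ g hfl

/-- a surjective orbit map onto a reduced scheme of finite type is open. -/
theorem isOpenMap_orbitMap [LocallyOfFiniteType G.hom] [LocallyOfFiniteType X.hom]
    [IsReduced X.left] (hsurj : Function.Surjective (a.orbitMap x₀).left) :
    IsOpenMap (a.orbitMap x₀).left := by
  have hXn : IsLocallyNoetherian X.left := LocallyOfFiniteType.isLocallyNoetherian X.hom
  have hφ1 : LocallyOfFiniteType (a.orbitMap x₀).left := by
    have : LocallyOfFiniteType ((a.orbitMap x₀).left ≫ X.hom) := by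
      rw [Over.w]; infer_instance
    exact locallyOfFiniteType_of_comp (a.orbitMap x₀).left X.hom
  have hφ2 : LocallyOfFinitePresentation (a.orbitMap x₀).left := inferInstance
  haveI := flat_orbitMap_of_surjective G X a x₀ hsurj
  exact (a.orbitMap x₀).left.isOpenMap

variable {G X}

/-- the orbit map on rational points. -/
theorem pt_orbit (g : 𝟙K ⟶ G) : g ≫ a.orbitMap x₀ = smul a g x₀ := by
  rw [orbitMap_eq, comp_smul, Category.comp_id]
  congr 1
  rw [← Category.assoc]
  have : g ≫ toUnit G = 𝟙 _ := toUnit_unique _ _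
  rw [this, Category.id_comp]

theorem inv_mul_orbit {g₁ g₂ : 𝟙K ⟶ G} (h : g₁ ≫ a.orbitMap x₀ = g₂ ≫ a.orbitMap x₀) :
    (g₁⁻¹ * g₂) ≫ a.orbitMap x₀ = x₀ := by
  rw [pt_orbit, FLH.mul_smul, ← pt_orbit a x₀ g₂, ← h, pt_orbit, ← FLH.mul_smul,
    inv_mul_cancel, FLH.one_smul]

variable (G X)

/-- **S15598**. -/
theorem connectedSpace_of_connected_stabilizer [IsAlgClosed k] [LocallyOfFiniteType G.hom]
    [LocallyOfFiniteType X.hom] [IsReduced X.left] [ConnectedSpace ↥X.left]
    (hsurj : Function.Surjective (a.orbitMap x₀).left)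
    (H : Over (Spec (CommRingCat.of k))) [GrpObj H] (i : H ⟶ G) [IsMonHom i]
    (hH : ∀ g : 𝟙K ⟶ G, g ≫ a.orbitMap x₀ = x₀ → ∃ h : 𝟙K ⟶ H, h ≫ i = g)
    [ConnectedSpace ↥H.left] : ConnectedSpace ↥G.left := by
  set e : G.left := pt G (1 : 𝟙K ⟶ G) with he
  have hcomp : ∀ g : G.left, IsOpen (connectedComponent g) := by
    intro g
    have h1 := irreducibleComponent_mem_irreducibleComponents g
    have h2 := component_eq_connectedComponent h1 (mem_irreducibleComponent (x := g))
    rw [← h2]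
    exact isOpen_component h1
  have hC₀open : IsOpen (connectedComponent e) := hcomp e
  have hC₀closed : IsClosed (connectedComponent e) := isClosed_connectedComponent
  have hone : (1 : 𝟙K ⟶ H) ≫ i = (1 : 𝟙K ⟶ G) := by
    rw [Hom.one_def, Category.assoc, IsMonHom.one_hom, ← Hom.one_def]
  have hiC : Set.range i.left ⊆ connectedComponent e := by
    have hconn : _root_.IsPreconnected (Set.range i.left) := by
      rw [← Set.image_univ]
      exact isPreconnected_univ.image _ i.left.continuous.continuousOn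
    apply hconn.subset_connectedComponent
    refine ⟨pt H (1 : 𝟙K ⟶ H), ?_⟩
    show pt G ((1 : 𝟙K ⟶ H) ≫ i) = e
    rw [hone]
  have hα := isOpenMap_orbitMap G X a x₀ hsurj
  by_contra hnot
  have hne : ((connectedComponent e)ᶜ).Nonempty := by
    by_contra h
    rw [Set.not_nonempty_iff_eq_empty, Set.compl_empty_iff] at h
    apply hnot
    haveI : Nonempty G.left := ⟨e⟩
    haveI : PreconnectedSpace G.left := ⟨by rw [← h]; exact isPreconnected_connectedComponent⟩
    exact ⟨⟨e⟩⟩
  have hU₀ : IsOpen ((a.orbitMap x₀).left '' connectedComponent e) := hα _ hC₀open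
  have hU₁ : IsOpen ((a.orbitMap x₀).left '' (connectedComponent e)ᶜ) :=
    hα _ hC₀closed.isOpen_compl
  have hcov : (Set.univ : Set X.left) ⊆ ((a.orbitMap x₀).left '' connectedComponent e) ∪
      ((a.orbitMap x₀).left '' (connectedComponent e)ᶜ) := by
    intro y _
    obtain ⟨g, rfl⟩ := hsurj y
    by_cases hg : g ∈ connectedComponent e
    · left; exact ⟨g, hg, rfl⟩
    · right; exact ⟨g, hg, rfl⟩
  have hU₀ne : (Set.univ ∩ ((a.orbitMap x₀).left '' connectedComponent e)).Nonempty :=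
    ⟨_, trivial, e, mem_connectedComponent, rfl⟩
  have hU₁ne : (Set.univ ∩ ((a.orbitMap x₀).left '' (connectedComponent e)ᶜ)).Nonempty := by
    obtain ⟨g, hg⟩ := hne
    exact ⟨_, trivial, g, hg, rfl⟩
  obtain ⟨y', -, hy'⟩ := isPreconnected_univ (α := X.left) _ _ hU₀ hU₁ hcov hU₀ne hU₁ne
  haveI : JacobsonSpace X.left := LocallyOfFiniteType.jacobsonSpace X.hom
  obtain ⟨y, ⟨hy0, hy1⟩, hyc⟩ :=
    nonempty_inter_closedPoints ⟨y', hy'⟩ (hU₀.inter hU₁).isLocallyClosed
  have hyc' : IsClosed ({y} : Set X.left) := hyc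
  haveI : JacobsonSpace G.left := LocallyOfFiniteType.jacobsonSpace G.hom
  have hfib : IsClosed ((a.orbitMap x₀).left ⁻¹' {y}) :=
    hyc'.preimage (a.orbitMap x₀).left.continuous
  obtain ⟨g₁, ⟨hg₁y, hg₁C⟩, hg₁c⟩ :=
    nonempty_inter_closedPoints (Z := (a.orbitMap x₀).left ⁻¹' {y} ∩ connectedComponent e)
      (by obtain ⟨g, hg, hgy⟩ := hy0; exact ⟨g, hgy, hg⟩) (hfib.inter hC₀closed).isLocallyClosed
  obtain ⟨g₂, ⟨hg₂y, hg₂C⟩, hg₂c⟩ :=
    nonempty_inter_closedPoints (Z := (a.orbitMap x₀).left ⁻¹' {y} ∩ (connectedComponent e)ᶜ)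
      (by obtain ⟨g, hg, hgy⟩ := hy1; exact ⟨g, hgy, hg⟩)
      (hfib.inter hC₀open.isClosed_compl).isLocallyClosed
  have hg₁c' : IsClosed ({g₁} : Set G.left) := hg₁c
  have hg₂c' : IsClosed ({g₂} : Set G.left) := hg₂c
  have ha₁ : pt G (kpt G g₁ hg₁c') = g₁ := pt_kpt g₁ hg₁c'
  have ha₂ : pt G (kpt G g₂ hg₂c') = g₂ := pt_kpt g₂ hg₂c'
  have heq : kpt G g₁ hg₁c' ≫ a.orbitMap x₀ = kpt G g₂ hg₂c' ≫ a.orbitMap x₀ := by
    apply Over.OverMorphism.ext
    apply ext_of_apply_closedPoint_eq X.hom (Over.w _) (Over.w _)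
    show (a.orbitMap x₀).left (pt G (kpt G g₁ hg₁c')) = (a.orbitMap x₀).left (pt G (kpt G g₂ hg₂c'))
    rw [ha₁, ha₂]
    exact hg₁y.trans hg₂y.symm
  have hh := inv_mul_orbit a x₀ heq
  obtain ⟨h', hh'⟩ := hH _ hh
  have hhC : pt G ((kpt G g₁ hg₁c')⁻¹ * kpt G g₂ hg₂c') ∈ connectedComponent e := by
    apply hiC
    refine ⟨pt H h', ?_⟩
    show pt G (h' ≫ i) = _
    rw [hh']
  have hg₂ : g₂ = (lmul (kpt G g₁ hg₁c')).hom.left
      (pt G ((kpt G g₁ hg₁c')⁻¹ * kpt G g₂ hg₂c')) := by
    rw [lmul_pt, mul_inv_cancel_left, ha₂]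
  have hsub := Continuous.image_connectedComponent_subset
    (lmul (kpt G g₁ hg₁c')).hom.left.continuous e
  have he' : (lmul (kpt G g₁ hg₁c')).hom.left e = g₁ := by
    rw [he, lmul_pt, _root_.mul_one, ha₁]
  rw [he'] at hsub
  have hg₁C' : connectedComponent g₁ = connectedComponent e := (connectedComponent_eq hg₁C).symm
  rw [hg₁C'] at hsub
  apply hg₂C
  rw [hg₂]
  exact hsub ⟨_, hhC, rfl⟩

end Groth.Agent.H9.ORB4
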