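import Mathlib
import Groth.Prelude.Def_AlgGrp
import Groth.Prelude.Def_W4c6nonredquotmfGoodQuot
import Groth.Agent.Lib.Helper9.Misc.ORB3
import Groth.Agent.Lib.Helper9.Misc.ORB4
import Groth.Agent.Lib.Helper9.Misc.GSC1

/-! Helper9: good quotients (NRQuot.IsGoodQuot): orbit closures meet iff same image, fibres contain
a unique closed orbit, rational sections are determined by their image point. -/

set_option autoImplicit false
set_option linter.style.haveILetI false
set_option linter.unusedSectionVars false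
set_option linter.unusedVariables false

namespace Groth.Agent.H9.ORB5

universe u

open CategoryTheory CategoryTheory.Limits AlgebraicGeometry MonoidalCategory
  CartesianMonoidalCategory MonObj GrpObj Groth.Agent.H9.FLH Topology TopologicalSpace
  Groth.Agent.H9.ORB Groth.Agent.H9.ORB3 Groth.Agent.H9.GSC

section General

variable {k : Type u} [Field k]

/-- two sections of a scheme over a field with the same image point agree. -/
theorem section_ext {Z : Scheme.{u}} (f : Z ⟶ Spec (CommRingCat.of k))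
    (p₁ p₂ : Spec (CommRingCat.of k) ⟶ Z) (h₁ : p₁ ≫ f = 𝟙 _) (h₂ : p₂ ≫ f = 𝟙 _)
    (h : p₁ (IsLocalRing.closedPoint k) = p₂ (IsLocalRing.closedPoint k)) : p₁ = p₂ := by
  obtain ⟨⟨z₁, ψ₁⟩, rfl⟩ := (Scheme.SpecToEquivOfField k Z).symm.surjective p₁
  obtain ⟨⟨z₂, ψ₂⟩, rfl⟩ := (Scheme.SpecToEquivOfField k Z).symm.surjective p₂
  simp only [Scheme.SpecToEquivOfField_symm_apply] at h h₁ h₂ ⊢
  have hz : z₁ = z₂ := by
    simpa [Scheme.fromSpecResidueField_apply] using h
  subst hz
  set ii := Spec.preimage (Z.fromSpecResidueField z₁ ≫ f) with hii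
  have hι' : Spec.map ii = Z.fromSpecResidueField z₁ ≫ f := Spec.map_preimage _
  have key : ∀ ψ : Z.residueField z₁ ⟶ CommRingCat.of k,
      (Spec.map ψ ≫ Z.fromSpecResidueField z₁) ≫ f = 𝟙 _ → ii ≫ ψ = 𝟙 _ := by
    intro ψ hψ
    apply Spec.map_injective
    rw [Spec.map_comp, hι', ← Category.assoc, hψ, Spec.map_id]
  have key2 : ∀ ψ : Z.residueField z₁ ⟶ CommRingCat.of k, ii ≫ ψ = 𝟙 _ → ψ ≫ ii = 𝟙 _ := by
    intro ψ hψ
    ext t
    have h1 : ψ.hom (ii.hom (ψ.hom t)) = ψ.hom t := by
      have := congrArg (fun g : CommRingCat.of k ⟶ CommRingCat.of k => g.hom (ψ.hom t)) hψ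
      simpa using this
    exact ψ.hom.injective h1
  have e1 := key ψ₁ h₁
  have e2 := key ψ₂ h₂
  have : ψ₁ = ψ₂ := by
    calc ψ₁ = ψ₁ ≫ (ii ≫ ψ₂) := by rw [e2, Category.comp_id]
      _ = (ψ₁ ≫ ii) ≫ ψ₂ := (Category.assoc _ _ _).symm
      _ = ψ₂ := by rw [key2 ψ₁ e1, Category.id_comp]
  rw [this]

local notation "𝟙K" => 𝟙_ (Over (Spec (CommRingCat.of k)))

/-- rational points with the same underlying point agree. -/
theorem point_ext {Y : Over (Spec (CommRingCat.of k))} (y₁ y₂ : 𝟙K ⟶ Y)
    (h : y₁.left (IsLocalRing.closedPoint k) = y₂.left (IsLocalRing.closedPoint k)) : y₁ = y₂ := by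
  apply Over.OverMorphism.ext
  exact section_ext Y.hom y₁.left y₂.left (Over.w y₁) (Over.w y₂) h

/-- rational points are closed points. -/
theorem isClosed_point {Y : Over (Spec (CommRingCat.of k))} (y : 𝟙K ⟶ Y) :
    IsClosed ({y.left (IsLocalRing.closedPoint k)} : Set Y.left) := by
  let p : Spec (CommRingCat.of k) ⟶ Y.left := y.left
  have h : p ≫ Y.hom = 𝟙 _ := Over.w y
  have := isClosedImmersion_of_comp_eq_id _ _ h
  have h2 := p.isClosedEmbedding.isClosed_range
  have h3 : Set.range p = {y.left (IsLocalRing.closedPoint k)} := by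
    ext w
    constructor
    · rintro ⟨s, rfl⟩
      have hs : s = IsLocalRing.closedPoint k := Subsingleton.elim _ _
      rw [hs]; rfl
    · rintro rfl
      exact ⟨IsLocalRing.closedPoint k, rfl⟩
  rwa [h3] at h2

theorem range_point {Y : Over (Spec (CommRingCat.of k))} (y : 𝟙K ⟶ Y) :
    Set.range y.left = {y.left (IsLocalRing.closedPoint k)} := by
  ext w
  constructor
  · rintro ⟨s, rfl⟩
    have hs : s = IsLocalRing.closedPoint k :=
      Subsingleton.elim (α := Spec (CommRingCat.of k)) _ _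
    rw [hs]; rfl
  · rintro rfl
    exact ⟨IsLocalRing.closedPoint k, rfl⟩

theorem FinLC.image_isOpenEmbedding {A B : Type*} [TopologicalSpace A] [TopologicalSpace B]
    {e : A → B} (he : IsOpenEmbedding e) {s : Set A} (hs : FinLC s) : FinLC (e '' s) := by
  obtain ⟨t, ht, ht', rfl⟩ := hs
  refine ⟨(fun L => e '' L) '' t, ht.image _, ?_, ?_⟩
  · rintro _ ⟨L, hL, rfl⟩
    exact (ht' L hL).image he.isInducing he.isOpen_range.isLocallyClosed
  · rw [Set.image_sUnion, Set.sUnion_image]

variable {G X Y : Over (Spec (CommRingCat.of k))} [GrpObj G] (a : AlgGrp.Action G X)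

theorem isOpenMap_snd_act' [LocallyOfFiniteType G.hom] :
    IsOpenMap (snd G X).left ∧ IsOpenMap a.act.left := by
  have hsnd : UniversallyOpen (snd G X).left := by
    show UniversallyOpen (pullback.snd G.hom X.hom)
    infer_instance
  have hact : UniversallyOpen a.act.left := by
    have h : a.act.left = (shear a).left ≫ (snd G X).left := by
      rw [← Over.comp_left, shear_snd]
    have : IsIso (shear a) := ⟨shearInv a, shear_shearInv a, shearInv_shear a⟩
    have : IsIso (shear a).left := inferInstanceAs (IsIso ((Over.forget _).map (shear a)))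
    rw [h]
    infer_instance
  exact ⟨(snd G X).left.isOpenMap, a.act.left.isOpenMap⟩

/-- orbits contained in an affine open are locally closed (no quasi-compactness of `X`). -/
theorem isLocallyClosed_orbit_of_subset_affine [LocallyOfFiniteType G.hom] [QuasiCompact G.hom]
    [LocallyOfFiniteType X.hom] (x : 𝟙K ⟶ X) (U : X.left.Opens) (hU : IsAffineOpen U)
    (hsub : Set.range (a.orbitMap x).left ⊆ (U : Set X.left)) :
    IsLocallyClosed (Set.range (a.orbitMap x).left) := by
  have hXn : IsLocallyNoetherian X.left := LocallyOfFiniteType.isLocallyNoetherian X.hom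
  have hGc : CompactSpace G.left := QuasiCompact.compactSpace_of_compactSpace G.hom
  haveI : IsAffine ↑U := hU
  let f' : G.left ⟶ ↑U := IsOpenImmersion.lift U.ι (a.orbitMap x).left
    (by rw [Scheme.Opens.range_ι]; exact hsub)
  have hf' : f' ≫ U.ι = (a.orbitMap x).left := IsOpenImmersion.lift_fac _ _ _
  have h1 : LocallyOfFiniteType f' := by
    have : LocallyOfFiniteType (f' ≫ (U.ι ≫ X.hom)) := by
      rw [← Category.assoc, hf', Over.w]; infer_instance
    exact locallyOfFiniteType_of_comp f' (U.ι ≫ X.hom)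
  have h2 : LocallyOfFinitePresentation f' := inferInstance
  have h3 : QuasiCompact f' := inferInstance
  have hcons : IsConstructible (Set.range f') := by
    rw [← Set.image_univ]
    exact f'.isConstructible_image .univ
  have hrange : Set.range (a.orbitMap x).left = U.ι '' Set.range f' := by
    ext w
    constructor
    · rintro ⟨g, rfl⟩
      exact ⟨f' g, ⟨g, rfl⟩, by rw [← Scheme.Hom.comp_apply, hf']⟩
    · rintro ⟨_, ⟨g, rfl⟩, rfl⟩
      exact ⟨g, by rw [← hf', Scheme.Hom.comp_apply]⟩
  have hfin : FinLC (Set.range (a.orbitMap x).left) := by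
    rw [hrange]
    exact FinLC.image_isOpenEmbedding U.ι.isOpenEmbedding (finLC_of_isConstructible hcons)
  obtain ⟨hp, hα⟩ := isOpenMap_snd_act' a
  exact isLocallyClosed_of_homogeneous a.act.left (snd G X).left
    hα a.act.left.continuous hp (snd G X).left.continuous
    _ hfin (preimage_orbit_eq a x)
    (fun o ho u hu ↦ orbit_transitive a x o u ho hu)

/-- two rational points whose orbits meet are translates of each other. -/
theorem exists_translate_of_mem_orbit [IsAlgClosed k] [LocallyOfFiniteType G.hom]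
    (x x' : 𝟙K ⟶ X)
    (h : x'.left (IsLocalRing.closedPoint k) ∈ Set.range (a.orbitMap x).left) :
    ∃ g : 𝟙K ⟶ G, lift g x ≫ a.act = x' := by
  haveI : JacobsonSpace G.left := LocallyOfFiniteType.jacobsonSpace G.hom
  have hfib : IsClosed ((a.orbitMap x).left ⁻¹' {x'.left (IsLocalRing.closedPoint k)}) :=
    (isClosed_point x').preimage (a.orbitMap x).left.continuous
  obtain ⟨g₀, hg₀⟩ := h
  obtain ⟨g₁, hg₁, hg₁c⟩ := nonempty_inter_closedPoints ⟨g₀, hg₀⟩ hfib.isLocallyClosed
  have hg₁c' : IsClosed ({g₁} : Set G.left) := hg₁c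
  refine ⟨kpt G g₁ hg₁c', ?_⟩
  have h1 : kpt G g₁ hg₁c' ≫ a.orbitMap x = x' := by
    apply point_ext
    show (a.orbitMap x).left (pt G (kpt G g₁ hg₁c')) = _
    rw [pt_kpt]
    exact hg₁
  rw [← h1, Groth.Agent.H9.ORB4.pt_orbit]
  rfl

theorem smul_eq (g : 𝟙K ⟶ G) (x : 𝟙K ⟶ X) : lift g x ≫ a.act = smul a g x := rfl

/-- if two closed orbits meet, the points are translates. -/
theorem exists_translate_of_inter [IsAlgClosed k] [LocallyOfFiniteType G.hom]
    [LocallyOfFiniteType X.hom] (x₁ x₂ : 𝟙K ⟶ X)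
    (hc₁ : IsClosed (Set.range (a.orbitMap x₁).left))
    (hc₂ : IsClosed (Set.range (a.orbitMap x₂).left))
    (hne : (Set.range (a.orbitMap x₁).left ∩ Set.range (a.orbitMap x₂).left).Nonempty) :
    ∃ g : 𝟙K ⟶ G, lift g x₁ ≫ a.act = x₂ := by
  obtain ⟨x₃, hx₃⟩ := exists_point_of_closed k X _ (hc₁.inter hc₂) hne
  have h3 : x₃.left (IsLocalRing.closedPoint k) ∈
      Set.range (a.orbitMap x₁).left ∩ Set.range (a.orbitMap x₂).left := hx₃ ⟨_, rfl⟩
  obtain ⟨g₁, hg₁⟩ := exists_translate_of_mem_orbit a x₁ x₃ h3.1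
  obtain ⟨g₂, hg₂⟩ := exists_translate_of_mem_orbit a x₂ x₃ h3.2
  refine ⟨g₂⁻¹ * g₁, ?_⟩
  rw [smul_eq] at hg₁ hg₂ ⊢
  rw [FLH.mul_smul, hg₁, ← hg₂, ← FLH.mul_smul, inv_mul_cancel, FLH.one_smul]

end General

section Good

variable {k : Type u} [Field k] {G X Y : Over (Spec (CommRingCat.of k))} [GrpObj G]
  (a : AlgGrp.Action G X) (φ : X ⟶ Y)

local notation "𝟙K" => 𝟙_ (Over (Spec (CommRingCat.of k)))

theorem stable_preimage (hinv : GIT.IsInvariant a φ) (S : Set Y.left) :
    Stable a (φ.left ⁻¹' S) := by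
  unfold Stable
  rw [← Set.preimage_comp, ← Set.preimage_comp]
  have h := hinv.left
  have h' : (φ.left : X.left → Y.left) ∘ ((snd G X).left : (G ⊗ X).left → X.left) =
      (φ.left : X.left → Y.left) ∘ (a.act.left : (G ⊗ X).left → X.left) := by
    funext p
    show φ.left ((snd G X).left p) = φ.left (a.act.left p)
    rw [← Scheme.Hom.comp_apply, ← Scheme.Hom.comp_apply, h]
  rw [h']

theorem isInvariantSet_of_stable {W : Set X.left} (h : Stable a W) : NRQuot.IsInvariantSet a W := by
  intro p hp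
  have : p ∈ (snd G X).left ⁻¹' W := hp
  rw [h] at this
  exact this

/-- the orbit of `x` lies in the fibre of `φ` through `x`. -/
theorem orbit_subset_fibre (hinv : GIT.IsInvariant a φ) (x : 𝟙K ⟶ X) :
    Set.range (a.orbitMap x).left ⊆
      φ.left ⁻¹' {(x ≫ φ).left (IsLocalRing.closedPoint k)} := by
  apply orbit_subset_of_stable a (stable_preimage a φ hinv _) x
  rintro _ ⟨s, rfl⟩
  have hs : s = IsLocalRing.closedPoint k :=
    Subsingleton.elim (α := Spec (CommRingCat.of k)) _ _
  rw [hs]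
  rfl

/-- **S19424**. -/
theorem closures_meet_iff [LocallyOfFiniteType G.hom] (h : NRQuot.IsGoodQuot a φ)
    (x₁ x₂ : 𝟙K ⟶ X) :
    (closure (Set.range (a.orbitMap x₁).left) ∩
      closure (Set.range (a.orbitMap x₂).left)).Nonempty ↔ x₁ ≫ φ = x₂ ≫ φ := by
  obtain ⟨hp, hα⟩ := isOpenMap_snd_act' a
  constructor
  · rintro ⟨z, hz₁, hz₂⟩
    apply point_ext
    have hF : ∀ x : 𝟙K ⟶ X, closure (Set.range (a.orbitMap x).left) ⊆
        φ.left ⁻¹' {(x ≫ φ).left (IsLocalRing.closedPoint k)} := fun x =>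
      closure_minimal (orbit_subset_fibre a φ h.inv x)
        ((isClosed_point (x ≫ φ)).preimage φ.left.continuous)
    have e1 : φ.left z = (x₁ ≫ φ).left (IsLocalRing.closedPoint k) := hF x₁ hz₁
    have e2 : φ.left z = (x₂ ≫ φ).left (IsLocalRing.closedPoint k) := hF x₂ hz₂
    rw [← e1, ← e2]
  · intro hφ
    let W : ULift.{u} Bool → Set X.left := fun j =>
      if j.down then closure (Set.range (a.orbitMap x₁).left)
      else closure (Set.range (a.orbitMap x₂).left)
    have hWc : ∀ j, IsClosed (W j) := by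
      intro j
      by_cases hj : j.down
      · simp only [W, hj, if_true]; exact isClosed_closure
      · simp only [W, hj]; exact isClosed_closure
    have hWi : ∀ j, NRQuot.IsInvariantSet a (W j) := by
      intro j
      by_cases hj : j.down
      · simp only [W, hj, if_true]
        exact isInvariantSet_of_stable a ((stable_orbit a x₁).closure a hp hα)
      · simp only [W, hj]
        exact isInvariantSet_of_stable a ((stable_orbit a x₂).closure a hp hα)
    have hint := h.inter (ULift.{u} Bool) W hWc hWi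
    have hmem : (x₁ ≫ φ).left (IsLocalRing.closedPoint k) ∈ ⋂ j, φ.left.base '' (W j) := by
      rw [Set.mem_iInter]
      intro j
      by_cases hj : j.down
      · simp only [W, hj, if_true]
        exact ⟨x₁.left (IsLocalRing.closedPoint k),
          subset_closure (range_subset_orbit a x₁ ⟨_, rfl⟩), rfl⟩
      · simp only [W, hj]
        rw [hφ]
        exact ⟨x₂.left (IsLocalRing.closedPoint k),
          subset_closure (range_subset_orbit a x₂ ⟨_, rfl⟩), rfl⟩
    rw [← hint] at hmem
    obtain ⟨w, hw, -⟩ := hmem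
    rw [Set.mem_iInter] at hw
    have hw1 := hw ⟨true⟩
    have hw2 := hw ⟨false⟩
    simp only [W, if_true] at hw1
    simp only [W] at hw2
    exact ⟨w, hw1, hw2⟩

/-- **S18981 / uniqueness part of S19409**. -/
theorem exists_translate_of_closed [IsAlgClosed k] [LocallyOfFiniteType G.hom]
    [LocallyOfFiniteType X.hom] (h : NRQuot.IsGoodQuot a φ) (x₁ x₂ : 𝟙K ⟶ X)
    (hφ : x₁ ≫ φ = x₂ ≫ φ)
    (hc₁ : IsClosed (Set.range (a.orbitMap x₁).left))
    (hc₂ : IsClosed (Set.range (a.orbitMap x₂).left)) :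
    ∃ g : 𝟙K ⟶ G, lift g x₁ ≫ a.act = x₂ := by
  have hne := (closures_meet_iff a φ h x₁ x₂).mpr hφ
  rw [hc₁.closure_eq, hc₂.closure_eq] at hne
  exact exists_translate_of_inter a x₁ x₂ hc₁ hc₂ hne

theorem surjective_of_good (h : NRQuot.IsGoodQuot a φ) : Function.Surjective φ.left := by
  have hint := h.inter PEmpty.{u + 1} (fun j => j.elim) (fun j => j.elim) (fun j => j.elim)
  intro y
  have : y ∈ ⋂ j : PEmpty.{u + 1}, φ.left.base '' ((fun j => j.elim : PEmpty.{u + 1} → Set X.left) j) := by
    rw [Set.mem_iInter]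
    intro j
    exact j.elim
  rw [← hint] at this
  obtain ⟨w, -, hw⟩ := this
  exact ⟨w, hw⟩

/-- **existence part of S19409**: every fibre over a rational point contains a closed orbit. -/
theorem exists_closed_orbit_in_fibre [IsAlgClosed k] [LocallyOfFiniteType G.hom]
    [QuasiCompact G.hom] [LocallyOfFiniteType X.hom] (h : NRQuot.IsGoodQuot a φ) (y : 𝟙K ⟶ Y) :
    ∃ x : 𝟙K ⟶ X, x ≫ φ = y ∧ IsClosed (Set.range (a.orbitMap x).left) := by
  have hXn : IsLocallyNoetherian X.left := LocallyOfFiniteType.isLocallyNoetherian X.hom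
  obtain ⟨hp, hα⟩ := isOpenMap_snd_act' a
  set y₀ : Y.left := y.left (IsLocalRing.closedPoint k) with hy₀
  set F : Set X.left := φ.left ⁻¹' {y₀} with hF
  have hFc : IsClosed F := (isClosed_point y).preimage φ.left.continuous
  have hFst : Stable a F := stable_preimage a φ h.inv _
  have hFne : F.Nonempty := by
    obtain ⟨w, hw⟩ := surjective_of_good a φ h y₀
    exact ⟨w, hw⟩
  -- an affine neighbourhood
  obtain ⟨_, ⟨V, hV, rfl⟩, hyV, -⟩ :=
    Y.left.isBasis_affineOpens.exists_subset_of_mem_open (Set.mem_univ y₀) isOpen_univ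
  haveI := h.affine
  have hU : IsAffineOpen (φ.left ⁻¹ᵁ V) := hV.preimage φ.left
  have hFU : F ⊆ ((φ.left ⁻¹ᵁ V : X.left.Opens) : Set X.left) := by
    intro w hw
    have : φ.left w = y₀ := hw
    show φ.left w ∈ V
    rw [this]
    exact hyV
  haveI : IsNoetherianRing Γ(X.left, φ.left ⁻¹ᵁ V) :=
    IsLocallyNoetherian.component_noetherian ⟨_, hU⟩
  haveI : NoetherianSpace ((φ.left ⁻¹ᵁ V : X.left.Opens) : Set X.left) :=
    noetherianSpace_of_isAffineOpen _ hU
  -- Noetherian induction
  let res : Closeds X.left → Closeds ((φ.left ⁻¹ᵁ V : X.left.Opens) : Set X.left) := fun Z =>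
    ⟨Subtype.val ⁻¹' (Z : Set X.left), Z.isClosed.preimage continuous_subtype_val⟩
  let P : Set (Closeds X.left) := {Z | (Z : Set X.left).Nonempty ∧ (Z : Set X.left) ⊆ F ∧
    Stable a (Z : Set X.left)}
  have hPne : P.Nonempty := ⟨⟨F, hFc⟩, hFne, le_rfl, hFst⟩
  obtain ⟨Z, hZ, hZmin⟩ := WellFounded.has_min
    (InvImage.wf res (wellFounded_lt :
      WellFounded ((· < ·) : Closeds ((φ.left ⁻¹ᵁ V : X.left.Opens) : Set X.left) → _ → Prop)))
    P hPne
  have hlt : ∀ W : Closeds X.left, (W : Set X.left) ⊆ (Z : Set X.left) →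
      (W : Set X.left) ≠ (Z : Set X.left) → res W < res Z := by
    intro W hWZ hne
    apply lt_of_le_of_ne
    · intro w hw
      exact hWZ hw
    · intro heq
      apply hne
      apply Set.Subset.antisymm hWZ
      intro w hw
      have hwU : w ∈ ((φ.left ⁻¹ᵁ V : X.left.Opens) : Set X.left) := hFU (hZ.2.1 hw)
      have : (⟨w, hwU⟩ : ((φ.left ⁻¹ᵁ V : X.left.Opens) : Set X.left)) ∈
          (res Z : Set _) := hw
      rw [← heq] at this
      exact this
  obtain ⟨x, hx⟩ := exists_point_of_closed k X (Z : Set X.left) Z.isClosed hZ.1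
  have hOZ := orbit_subset_of_stable a hZ.2.2 x hx
  have hOne : (Set.range (a.orbitMap x).left).Nonempty :=
    ⟨_, range_subset_orbit a x ⟨IsLocalRing.closedPoint k, rfl⟩⟩
  have hOlc : IsLocallyClosed (Set.range (a.orbitMap x).left) :=
    isLocallyClosed_orbit_of_subset_affine a x _ hU ((hOZ.trans hZ.2.1).trans hFU)
  have hBc : IsClosed (closure (Set.range (a.orbitMap x).left) \ Set.range (a.orbitMap x).left) := by
    have h' := hOlc.isOpen_coborder
    unfold coborder at h'
    exact isOpen_compl_iff.mp h'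
  have hBst : Stable a (closure (Set.range (a.orbitMap x).left) \ Set.range (a.orbitMap x).left) :=
    ((stable_orbit a x).closure a hp hα).diff a (stable_orbit a x)
  have hclsub : closure (Set.range (a.orbitMap x).left) ⊆ (Z : Set X.left) :=
    closure_minimal hOZ Z.isClosed
  refine ⟨x, ?_, ?_⟩
  · apply point_ext
    have : x.left (IsLocalRing.closedPoint k) ∈ F := hZ.2.1 (hx ⟨_, rfl⟩)
    exact this
  · apply closure_subset_iff_isClosed.mp
    intro w hw
    by_contra hwO
    let W : Closeds X.left := ⟨_, hBc⟩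
    have hWZ : (W : Set X.left) ⊆ (Z : Set X.left) := fun v hv => hclsub hv.1
    have hWne : (W : Set X.left) ≠ (Z : Set X.left) := by
      intro heq
      obtain ⟨v, hv⟩ := hOne
      have hvZ : v ∈ (Z : Set X.left) := hOZ hv
      rw [← heq] at hvZ
      exact hvZ.2 hv
    exact hZmin W ⟨⟨w, hw, hwO⟩, hWZ.trans hZ.2.1, hBst⟩ (hlt W hWZ hWne)

end Good

end Groth.Agent.H9.ORB5
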