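import Mathlib
import Groth.Prelude.Def_AlgGrp
import Groth.Agent.Lib.Helper9.Misc.ORB5
import Groth.Agent.Lib.Helper1.FibDimTot
import Groth.Agent.Lib.Helper1.UO14C
import Groth.Agent.Lib.Helper1.CMQF
import Groth.Agent.Lib.Helper1.Chev2
import Groth.Agent.Lib.Helper1.FlatRelDim
import Groth.Agent.Lib.Helper1.ClosedDim
import Groth.Agent.Lib.Helper1.RelDim
import Groth.Agent.Lib.Helper3.TopDim

/-! Helper9: the orbit–stabilizer dimension formula `dim G = dim (G·x) + dim G_x` (S16130):
fibre dimension of the orbit map is constant (translations + Chevalley + Jacobson), and a general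
dimension formula for morphisms with constant fibre dimension and locally closed image. -/

set_option autoImplicit false
set_option linter.style.haveILetI false
set_option linter.unusedSectionVars false
set_option linter.unusedVariables false

namespace Groth.Agent.H9.ORB6

universe u

open CategoryTheory CategoryTheory.Limits AlgebraicGeometry MonoidalCategory
  CartesianMonoidalCategory MonObj GrpObj Groth.Agent.H9.FLH Topology TopologicalSpace
  Groth.Agent.H9.GSC

section General

variable {X Y : Scheme.{u}}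

/-- a self-homeomorphism of the source permuting the fibres preserves the local fibre dimension. -/
theorem fibreDimAt_eq_of_homeo (f : X ⟶ Y) (h : X ≃ₜ X) (g : X)
    (hiff : ∀ z : X, f.base z = f.base g ↔ f.base (h z) = f.base (h g)) :
    FlatMor.fibreDimAt f (h g) = FlatMor.fibreDimAt f g := by
  rw [Groth.Agent.H1.UO14.fibreDimAt_eq_localDim_preimage f (h g) (f.base (h g)) rfl,
    Groth.Agent.H1.UO14.fibreDimAt_eq_localDim_preimage f g (f.base g) rfl]
  let e : ↥(f.base ⁻¹' {f.base g}) ≃ₜ ↥(f.base ⁻¹' {f.base (h g)}) :=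
    Homeomorph.subtype (p := fun z => z ∈ f.base ⁻¹' {f.base g})
      (q := fun w => w ∈ f.base ⁻¹' {f.base (h g)}) h hiff
  exact (Groth.Agent.H1.DimFormula.localDim_eq_of_isOpenEmbedding e.isOpenEmbedding
    ⟨g, rfl⟩).symm

/-- Chevalley + Jacobson: a local fibre dimension constant on closed points is constant. -/
theorem fibreDimAt_eq_of_closedPoints [JacobsonSpace X] (f : X ⟶ Y) [LocallyOfFiniteType f]
    (n : ℕ) (hcl : ∀ g : X, IsClosed ({g} : Set X) → FlatMor.fibreDimAt f g = n) (z : X) :
    FlatMor.fibreDimAt f z = n := by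
  apply le_antisymm
  · by_contra hz
    have hU := Groth.Agent.H1.Chev.isOpen_fibreDimAt_le f n
    have hne : ({x : X | FlatMor.fibreDimAt f x ≤ n}ᶜ).Nonempty := ⟨z, hz⟩
    obtain ⟨w, hw, hwc⟩ := nonempty_inter_closedPoints hne hU.isClosed_compl.isLocallyClosed
    exact hw (le_of_eq (hcl w hwc))
  · obtain ⟨m, hm⟩ := Groth.Agent.H1.CMQF.exists_nat_fibreDimAt f z
    rw [hm]
    have hU := Groth.Agent.H1.Chev.isOpen_fibreDimAt_le f m
    have hne : ({x : X | FlatMor.fibreDimAt f x ≤ m}).Nonempty := ⟨z, le_of_eq hm⟩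
    obtain ⟨w, hw, hwc⟩ := nonempty_inter_closedPoints hne hU.isLocallyClosed
    calc (n : WithBot ℕ∞) = FlatMor.fibreDimAt f w := (hcl w hwc).symm
      _ ≤ m := hw

/-- if the local fibre dimension is constantly `n`, every nonempty fibre has dimension `n`. -/
theorem dim_preimage_eq (f : X ⟶ Y) (n : ℕ) (hn : ∀ g : X, FlatMor.fibreDimAt f g = n) (g : X) :
    topologicalKrullDim ↥(f.base ⁻¹' {f.base g}) = n := by
  rw [Groth.Agent.H3.TopDim.dim_eq_iSup_localDim]
  haveI : Nonempty ↥(f.base ⁻¹' {f.base g}) := ⟨⟨g, rfl⟩⟩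
  have h : ∀ t : ↥(f.base ⁻¹' {f.base g}),
      FlatMor.localDim ↥(f.base ⁻¹' {f.base g}) t = n := by
    rintro ⟨t, ht⟩
    rw [← Groth.Agent.H1.UO14.fibreDimAt_eq_localDim_preimage f t (f.base g) ht]
    exact hn t
  simp only [h]
  exact ciSup_const

/-- the closure of a point of a locally closed subset has dimension at most that of the subset. -/
theorem dim_closure_le_of_mem {k : Type u} [Field k] {Z : Scheme.{u}}
    (gk : Z ⟶ Spec (CommRingCat.of k)) [LocallyOfFiniteType gk] (O : Set Z)
    (hO : IsLocallyClosed O) (P : Z) (hP : P ∈ O) :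
    topologicalKrullDim ↥(closure ({P} : Set Z)) ≤ topologicalKrullDim ↥O := by
  let N : Z.Opens := ⟨coborder O, hO.isOpen_coborder⟩
  have hTirr : IsIrreducible (closure ({P} : Set Z)) := isIrreducible_singleton.closure
  have hNT : ((N : Set Z) ∩ closure ({P} : Set Z)).Nonempty :=
    ⟨P, subset_coborder hP, subset_closure (Set.mem_singleton P)⟩
  have hsub : ((N : Set Z) ∩ closure ({P} : Set Z)) ⊆ O := by
    rintro y ⟨hy1, hy2⟩
    have hy3 : y ∈ closure O := closure_mono (Set.singleton_subset_iff.mpr hP) hy2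
    have : y ∈ coborder O ∩ closure O := ⟨hy1, hy3⟩
    rwa [coborder_inter_closure] at this
  rw [← Groth.Agent.H1.RelDim.dim_inter_eq_dim gk _ hTirr isClosed_closure N hNT]
  exact Groth.Agent.H3.TopDim.dim_mono hsub

/-- a point of the closure of the image of a continuous map from a quasi-sober space with finitely
many irreducible components is a specialization of the image of a point. -/
theorem exists_closure_of_mem_closure_range {A B : Type*} [TopologicalSpace A]
    [TopologicalSpace B] [QuasiSober A] (hA : (irreducibleComponents A).Finite) {e : A → B}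
    (he : Continuous e) (P : B) (hP : P ∈ closure (Set.range e)) :
    ∃ w₀ : A, P ∈ closure ({e w₀} : Set B) := by
  have hcl : IsClosed (⋃ T ∈ irreducibleComponents A, closure (e '' T)) :=
    hA.isClosed_biUnion (fun T _ => isClosed_closure)
  have hsub : Set.range e ⊆ ⋃ T ∈ irreducibleComponents A, closure (e '' T) := by
    rintro _ ⟨g, rfl⟩
    exact Set.mem_biUnion (irreducibleComponent_mem_irreducibleComponents g)
      (subset_closure ⟨g, mem_irreducibleComponent, rfl⟩)
  obtain ⟨T, hT, hPT⟩ := Set.mem_iUnion₂.mp (closure_minimal hsub hcl hP)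
  obtain ⟨w₀, hw₀⟩ := QuasiSober.sober hT.1 (isClosed_of_mem_irreducibleComponents T hT)
  refine ⟨w₀, ?_⟩
  have h1 : e '' T ⊆ closure {e w₀} := by
    rw [← hw₀.def]
    refine (image_closure_subset_closure_image he).trans ?_
    rw [Set.image_singleton]
  exact closure_minimal h1 isClosed_closure hPT

/-- **dimension formula**: a morphism of schemes locally of finite type over a field, with constant
local fibre dimension `n` and locally closed image, satisfies `dim G = dim (image) + n`. -/
theorem dim_eq_dim_range_add {k : Type u} [Field k] {G X : Scheme.{u}}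
    (q : X ⟶ Spec (CommRingCat.of k)) [LocallyOfFiniteType q] (f : G ⟶ X)
    [LocallyOfFiniteType f] (hA : (irreducibleComponents ↥G).Finite)
    (hO : IsLocallyClosed (Set.range f.base)) (n : ℕ)
    (hn : ∀ g : G, FlatMor.fibreDimAt f g = n) :
    topologicalKrullDim ↥G = topologicalKrullDim ↥(Set.range f.base) + (n : WithBot ℕ∞) := by
  apply le_antisymm
  · rw [Groth.Agent.H1.FibDimTot.dim_eq_iSup_closure (T := ↥G)]
    apply iSup_le
    intro g
    rw [Groth.Agent.H1.FibDimTot.dim_closure_eq_add q f g]
    refine add_le_add ?_ ?_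
    · exact dim_closure_le_of_mem q _ hO (f.base g) ⟨g, rfl⟩
    · exact (Groth.Agent.H1.FibDimTot.dim_closure_asFiber_le f g).trans
        (le_of_eq (dim_preimage_eq f n hn g))
  · have hkey : ∀ P : ↥(closure (Set.range f.base)),
        topologicalKrullDim ↥(closure ({P.1} : Set X)) + (n : WithBot ℕ∞) ≤
          topologicalKrullDim ↥G := by
      rintro ⟨P, hP⟩
      obtain ⟨w₀, hw₀⟩ := exists_closure_of_mem_closure_range hA f.continuous P hP
      have h1 : topologicalKrullDim ↥(closure ({P} : Set X)) ≤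
          topologicalKrullDim ↥(closure ({f.base w₀} : Set X)) :=
        Groth.Agent.H3.TopDim.dim_mono
          (closure_minimal (Set.singleton_subset_iff.mpr hw₀) isClosed_closure)
      obtain ⟨g, hg, hgn⟩ := Groth.Agent.H1.FibDimTot.exists_asFiber_dim_ge f (f.base w₀) n
        (le_of_eq (dim_preimage_eq f n hn w₀).symm)
      rw [← hg] at h1
      calc topologicalKrullDim ↥(closure ({P} : Set X)) + (n : WithBot ℕ∞)
          ≤ topologicalKrullDim ↥(closure ({f g} : Set X)) +
            topologicalKrullDim ↥(closure ({f.asFiber g} : Set ↥(f.fiber (f g)))) :=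
            add_le_add h1 hgn
        _ = topologicalKrullDim ↥(closure ({g} : Set G)) :=
            (Groth.Agent.H1.FibDimTot.dim_closure_eq_add q f g).symm
        _ ≤ topologicalKrullDim ↥G := Groth.Agent.H1.FibDimTot.dim_closure_le g
    calc topologicalKrullDim ↥(Set.range f.base) + (n : WithBot ℕ∞)
        ≤ topologicalKrullDim ↥(closure (Set.range f.base)) + (n : WithBot ℕ∞) :=
          add_le_add (Groth.Agent.H3.TopDim.dim_mono subset_closure) le_rfl
      _ ≤ (⨆ P : ↥(closure (Set.range f.base)),
            topologicalKrullDim ↥(closure ({P.1} : Set X))) + (n : WithBot ℕ∞) :=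
          add_le_add (Groth.Agent.H1.ClosedDim.dim_le_iSup_closure _ isClosed_closure) le_rfl
      _ ≤ topologicalKrullDim ↥G :=
          Groth.Agent.H1.FlatRelDim.iSup_add_natCast_le _ n _ hkey

end General

section Group

variable {k : Type u} [Field k] {G X : Over (Spec (CommRingCat.of k))} [GrpObj G]
  (a : AlgGrp.Action G X) (x₀ : 𝟙_ (Over (Spec (CommRingCat.of k))) ⟶ X)

local notation "𝟙K" => 𝟙_ (Over (Spec (CommRingCat.of k)))

theorem lmul_inv_eq (c : 𝟙K ⟶ G) : (lmul c).inv = (lmul c⁻¹).hom := by
  show (cst G c G)⁻¹ * 𝟙 G = cst G c⁻¹ G * 𝟙 G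
  rw [cst, cst, GrpObj.comp_inv]

/-- the orbit map intertwines left translation by a rational point with its action on `X`. -/
theorem lmul_hom_orbitMap (c : 𝟙K ⟶ G) :
    (lmul c).hom ≫ a.orbitMap x₀ = a.orbitMap x₀ ≫ smul a (cst G c X) (𝟙 X) := by
  have h1 : (lmul c).hom ≫ a.orbitMap x₀ = smul a (cst G c G * 𝟙 G) (toUnit G ≫ x₀) := by
    show (cst G c G * 𝟙 G) ≫ a.orbitMap x₀ = _
    rw [orbitMap_eq, comp_smul, Category.comp_id]
    congr 1
    rw [← Category.assoc]
    congr 1
    exact toUnit_unique _ _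
  have h2 : a.orbitMap x₀ ≫ smul a (cst G c X) (𝟙 X) =
      smul a (cst G c G) (a.orbitMap x₀) := by
    rw [comp_smul, comp_cst, Category.comp_id]
  rw [h1, h2]
  exact FLH.mul_smul a _ _ _

theorem orbit_lmul_apply (c : 𝟙K ⟶ G) (z : G.left) :
    (a.orbitMap x₀).left ((lmul c).hom.left z) =
      (smul a (cst G c X) (𝟙 X)).left ((a.orbitMap x₀).left z) := by
  have h := congrArg (fun φ : G ⟶ X => φ.left z) (lmul_hom_orbitMap a x₀ c)
  simpa only [Over.comp_left, Scheme.Hom.comp_apply] using h

theorem lmul_inv_lmul_apply (c : 𝟙K ⟶ G) (z : G.left) :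
    (lmul c⁻¹).hom.left ((lmul c).hom.left z) = z := by
  rw [← lmul_inv_eq]
  have h := congrArg (fun φ : G ⟶ G => φ.left z) (lmul c).hom_inv_id
  simp only [Over.comp_left, Scheme.Hom.comp_apply] at h
  exact h

theorem fibre_iff (c : 𝟙K ⟶ G) (z g : G.left) :
    (a.orbitMap x₀).left z = (a.orbitMap x₀).left g ↔
      (a.orbitMap x₀).left ((lmul c).hom.left z) =
        (a.orbitMap x₀).left ((lmul c).hom.left g) := by
  constructor
  · intro h
    rw [orbit_lmul_apply, orbit_lmul_apply, h]
  · intro h
    have e1 := orbit_lmul_apply a x₀ c⁻¹ ((lmul c).hom.left z)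
    have e2 := orbit_lmul_apply a x₀ c⁻¹ ((lmul c).hom.left g)
    rw [lmul_inv_lmul_apply] at e1 e2
    rw [e1, e2, h]

/-- the local fibre dimension of the orbit map is invariant under translations. -/
theorem fibreDimAt_lmul (c : 𝟙K ⟶ G) (g : G.left) :
    FlatMor.fibreDimAt (a.orbitMap x₀).left ((lmul c).hom.left g) =
      FlatMor.fibreDimAt (a.orbitMap x₀).left g :=
  fibreDimAt_eq_of_homeo (a.orbitMap x₀).left (homeo (lmul c)) g
    (fun z => fibre_iff a x₀ c z g)

theorem fibreDimAt_closedPoint [IsAlgClosed k] [LocallyOfFiniteType G.hom] (g : G.left)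
    (hg : IsClosed ({g} : Set G.left)) :
    FlatMor.fibreDimAt (a.orbitMap x₀).left g =
      FlatMor.fibreDimAt (a.orbitMap x₀).left (pt G (1 : 𝟙K ⟶ G)) := by
  have h := fibreDimAt_lmul a x₀ (kpt G g hg) (pt G (1 : 𝟙K ⟶ G))
  rw [lmul_pt, _root_.mul_one, pt_kpt] at h
  exact h

/-- **the local fibre dimension of an orbit map is constant.** -/
theorem exists_fibreDimAt_eq [IsAlgClosed k] [LocallyOfFiniteType G.hom] :
    ∃ n : ℕ, ∀ g : G.left, FlatMor.fibreDimAt (a.orbitMap x₀).left g = n := by
  haveI hφ : LocallyOfFiniteType (a.orbitMap x₀).left := by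
    have : LocallyOfFiniteType ((a.orbitMap x₀).left ≫ X.hom) := by
      rw [Over.w]; infer_instance
    exact locallyOfFiniteType_of_comp _ X.hom
  haveI : JacobsonSpace G.left := LocallyOfFiniteType.jacobsonSpace G.hom
  obtain ⟨n, hn⟩ := Groth.Agent.H1.CMQF.exists_nat_fibreDimAt (a.orbitMap x₀).left
    (pt G (1 : 𝟙K ⟶ G))
  exact ⟨n, fun g => fibreDimAt_eq_of_closedPoints (a.orbitMap x₀).left n
    (fun g hg => (fibreDimAt_closedPoint a x₀ g hg).trans hn) g⟩

/-- the (scheme-theoretic) stabilizer has the common fibre dimension. -/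
theorem dim_stabilizer (n : ℕ)
    (hn : ∀ g : G.left, FlatMor.fibreDimAt (a.orbitMap x₀).left g = n) :
    topologicalKrullDim ↥(Limits.pullback (a.orbitMap x₀).left x₀.left) = n := by
  haveI hcl : IsClosedImmersion x₀.left :=
    isClosedImmersion_of_comp_eq_id (Y := Spec (CommRingCat.of k)) X.hom x₀.left (Over.w x₀)
  have h := congrArg (fun φ : 𝟙K ⟶ X => φ.left (IsLocalRing.closedPoint k))
    (Groth.Agent.H9.ORB3.unit_orbitMap a x₀)
  simp only [Over.comp_left, Scheme.Hom.comp_apply] at h
  have hemb : IsEmbedding (pullback.fst (a.orbitMap x₀).left x₀.left) :=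
    (pullback.fst (a.orbitMap x₀).left x₀.left).isEmbedding
  have hr : Set.range (pullback.fst (a.orbitMap x₀).left x₀.left) =
      (a.orbitMap x₀).left.base ⁻¹'
        {(a.orbitMap x₀).left.base (η[G].left (IsLocalRing.closedPoint k))} := by
    rw [Scheme.Pullback.range_fst, Groth.Agent.H9.ORB5.range_point, h]
  rw [IsHomeomorph.topologicalKrullDim_eq _ hemb.toHomeomorph.isHomeomorph, hr]
  exact dim_preimage_eq _ n hn _

end Group

/-- **S16130**: `dim G = dim (G·x) + dim G_x`. -/
theorem S16130_main (k : Type u) [Field k] [IsAlgClosed k]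
    (G X : Over (Spec (CommRingCat.of k))) [GrpObj G] [LocallyOfFiniteType G.hom]
    [QuasiCompact G.hom] [LocallyOfFiniteType X.hom] [QuasiCompact X.hom]
    (a : AlgGrp.Action G X) (x : 𝟙_ (Over (Spec (CommRingCat.of k))) ⟶ X) :
    topologicalKrullDim ↥G.left =
      topologicalKrullDim ↥(Set.range (a.orbitMap x).left.base) +
        topologicalKrullDim ↥(Limits.pullback (a.orbitMap x).left x.left) := by
  haveI hφ : LocallyOfFiniteType (a.orbitMap x).left := by
    have : LocallyOfFiniteType ((a.orbitMap x).left ≫ X.hom) := by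
      rw [Over.w]; infer_instance
    exact locallyOfFiniteType_of_comp _ X.hom
  have hGn : IsLocallyNoetherian G.left := LocallyOfFiniteType.isLocallyNoetherian G.hom
  have hGc : CompactSpace G.left := QuasiCompact.compactSpace_of_compactSpace G.hom
  haveI : IsNoetherian G.left := {}
  have hA : (irreducibleComponents ↥G.left).Finite :=
    NoetherianSpace.finite_irreducibleComponents
  obtain ⟨n, hn⟩ := exists_fibreDimAt_eq a x
  have hO : IsLocallyClosed (Set.range (a.orbitMap x).left.base) :=
    Groth.Agent.H9.ORB.S7984_main k G X a x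
  rw [dim_stabilizer a x n hn]
  exact dim_eq_dim_range_add X.hom (a.orbitMap x).left hA hO n hn

end Groth.Agent.H9.ORB6
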