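import Mathlib
import Groth.Prelude.Def_Red

namespace Groth.Agent.H9.StdExt

open CategoryTheory CategoryTheory.Limits MonoidalCategory CartesianMonoidalCategory MonObj GrpObj AlgebraicGeometry

universe u

/-- a closed immersion through which a scheme-theoretically dominant morphism factors is an iso -/
theorem isIso_of_factor {W E X : Scheme.{u}} (e : E ⟶ X) [IsClosedImmersion e] (l : W ⟶ E)
    (h : IsSchemeTheoreticallyDominant (l ≫ e)) : IsIso e := by
  have hk := (isSchemeTheoreticallyDominant_iff _).mp h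
  rw [IsClosedImmersion.isIso_iff_ker_eq_bot, ← le_bot_iff, ← hk]
  exact Scheme.Hom.le_ker_comp l e

/-- two morphisms to a separated target which agree on a scheme-theoretically dominant source agree -/
theorem ext_of_std {W X Y Z : Scheme.{u}} {f g : X ⟶ Y} (s : Y ⟶ Z) [IsSeparated s]
    (h : f ≫ s = g ≫ s) (j : W ⟶ X) [IsSchemeTheoreticallyDominant j] (hU : j ≫ f = j ≫ g) :
    f = g := by
  let X' : Over Z := Over.mk (f ≫ s)
  let Y' : Over Z := Over.mk s
  let U' : Over Z := Over.mk (j ≫ f ≫ s)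
  let f' : X' ⟶ Y' := Over.homMk f
  let g' : X' ⟶ Y' := Over.homMk g (by simpa [X', Y'] using h.symm)
  let j' : U' ⟶ X' := Over.homMk j
  have : IsSeparated Y'.hom := ‹_›
  have hjfg : j' ≫ f' = j' ≫ g' := by ext1; exact hU
  have hl : (equalizer.lift j' hjfg).left ≫ (equalizer.ι f' g').left = j := by
    rw [← Over.comp_left, equalizer.lift_ι]; rfl
  have : IsIso (equalizer.ι f' g').left :=
    isIso_of_factor _ (equalizer.lift j' hjfg).left (by rw [hl]; infer_instance)
  rw [← cancel_epi (equalizer.ι f' g').left]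
  exact congr($(equalizer.condition f' g').left)

/-- a morphism whose restriction to a scheme-theoretically dominant source factors through a closed
immersion factors through it -/
theorem exists_factor {W' W Z P : Scheme.{u}} (i : Z ⟶ P) [IsClosedImmersion i] (h : W ⟶ P)
    (j : W' ⟶ W) [IsSchemeTheoreticallyDominant j] (c : W' ⟶ Z) (hc : c ≫ i = j ≫ h) :
    ∃ d : W ⟶ Z, d ≫ i = h := by
  have : IsIso (pullback.snd i h) :=
    isIso_of_factor (pullback.snd i h) (pullback.lift c j hc)
      (by rw [pullback.lift_snd]; infer_instance)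
  exact ⟨inv (pullback.snd i h) ≫ pullback.fst i h, by
    rw [Category.assoc, pullback.condition, IsIso.inv_hom_id_assoc]⟩

theorem std_specMap {R S : CommRingCat.{u}} (φ : R ⟶ S) (hφ : Function.Injective φ.hom) :
    IsSchemeTheoreticallyDominant (Spec.map φ) := by
  rw [isSchemeTheoreticallyDominant_iff]
  have h1 : (Spec.map φ).appTop = (Scheme.ΓSpecIso R).hom ≫ φ ≫ (Scheme.ΓSpecIso S).inv := by
    rw [← Category.assoc, ← Scheme.ΓSpecIso_naturality, Category.assoc, Iso.hom_inv_id,
      Category.comp_id]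
  have hinj : Function.Injective (Spec.map φ).appTop := by
    rw [h1]
    simp only [CommRingCat.hom_comp, RingHom.coe_comp]
    exact ((ConcreteCategory.bijective_of_isIso (Scheme.ΓSpecIso S).inv).injective.comp hφ).comp
      (ConcreteCategory.bijective_of_isIso (Scheme.ΓSpecIso R).hom).injective
  apply Scheme.IdealSheafData.ext_of_isAffine
  rw [(Spec.map φ).ker_apply ⟨⊤, isAffineOpen_top _⟩]
  exact (RingHom.injective_iff_ker_eq_bot _).mp hinj

theorem std_specMap_algebraMap (A K : Type u) [CommRing A] [CommRing K] [Algebra A K]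
    (h : Function.Injective (algebraMap A K)) :
    IsSchemeTheoreticallyDominant (Spec.map (CommRingCat.ofHom (algebraMap A K))) :=
  std_specMap _ h

section grp

variable {S S' : Scheme.{u}} (g : S' ⟶ S) [IsSchemeTheoreticallyDominant g] [QuasiCompact g]

/-- morphisms from a flat S-scheme to a separated S-scheme are determined by their base change along
a scheme-theoretically dominant quasi-compact `S' ⟶ S` -/
theorem hom_ext_of_bc {Y G : Over S} [Flat Y.hom] [IsSeparated G.hom] (x y : Y ⟶ G)
    (h : (Over.pullback g).map x = (Over.pullback g).map y) : x = y := by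
  apply Over.OverMorphism.ext
  refine ext_of_std G.hom (by rw [Over.w, Over.w]) (pullback.fst Y.hom g) ?_
  have hx : ∀ z : Y ⟶ G, pullback.fst Y.hom g ≫ z.left =
      ((Over.pullback g).map z).left ≫ pullback.fst G.hom g := by
    intro z; simp only [Over.pullback_map_left]; exact (pullback.lift_fst _ _ _).symm
  rw [hx, hx, h]

open scoped Obj

theorem isCommMonObj_of_bc (G : Over S) [GrpObj G] [Flat G.hom] [IsSeparated G.hom]
    [IsCommMonObj (Red.bc g G)] : IsCommMonObj G := by
  constructor
  haveI : Flat (G ⊗ G).hom := by rw [Over.tensorObj_hom]; infer_instance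
  apply hom_ext_of_bc g
  have hc := IsCommMonObj.mul_comm (Red.bc g G)
  rw [Functor.obj.μ_def] at hc
  rw [← cancel_epi (Functor.LaxMonoidal.μ (Over.pullback g) G G), Functor.map_comp,
    Functor.LaxBraided.braided_assoc]
  exact hc

theorem pow_eq_one_of_bc (U : Over S) [GrpObj U] [Flat U.hom] [IsSeparated U.hom] (m : ℕ)
    (hm : (𝟙 (Red.bc g U) : Red.bc g U ⟶ Red.bc g U) ^ m = 1) : (𝟙 U : U ⟶ U) ^ m = 1 := by
  apply hom_ext_of_bc g
  have := map_pow ((Over.pullback g).homMonoidHom (X := U) (M := U)) (𝟙 U) m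
  simp only [Functor.homMonoidHom_apply] at this
  rw [this, Functor.map_one, (Over.pullback g).map_id U]
  exact hm

theorem isIso_pow_of_coprime (U : Over S) [GrpObj U] (m ℓ : ℕ) (hm : (𝟙 U : U ⟶ U) ^ m = 1)
    (hcop : Nat.Coprime ℓ m) : IsIso ((𝟙 U : U ⟶ U) ^ ℓ) := by
  set x : U ⟶ U := 𝟙 U with hx
  have hbez : (ℓ : ℤ) * Nat.gcdA ℓ m + (m : ℤ) * Nat.gcdB ℓ m = 1 := by
    have := Nat.gcd_eq_gcd_ab ℓ m
    rw [hcop.gcd_eq_one] at this
    exact_mod_cast this.symm
  set a := Nat.gcdA ℓ m
  set b := Nat.gcdB ℓ m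
  have hxa : x ^ ((ℓ : ℤ) * a) = x := by
    have h1 : (ℓ : ℤ) * a = 1 - (m : ℤ) * b := by linarith
    rw [h1, zpow_sub, zpow_one, zpow_mul, zpow_natCast, hm, one_zpow, inv_one, _root_.mul_one]
  refine ⟨⟨x ^ a, ?_, ?_⟩⟩
  · rw [GrpObj.comp_zpow, hx, Category.comp_id, ← hx, ← zpow_natCast, ← zpow_mul, hxa]
  · rw [MonObj.comp_pow, hx, Category.comp_id, ← hx, ← zpow_natCast, ← zpow_mul, _root_.mul_comm, hxa]

end grp

end Groth.Agent.H9.StdExt
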