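import Mathlib
import Groth.Prelude.Def_Red
import Groth.Prelude.Def_Neron
import Groth.Agent.Lib.Helper9.Misc.StdExt
import Groth.Agent.Lib.Helper9.Misc.GZD3

set_option linter.style.haveILetI false

namespace Groth.Agent.H9.SchClos

open CategoryTheory CategoryTheory.Limits MonoidalCategory CartesianMonoidalCategory MonObj GrpObj
  AlgebraicGeometry

universe u

/-- the canonical map to the scheme-theoretic image is scheme-theoretically dominant -/
theorem ker_toImage_eq_bot {X Y : Scheme.{u}} (f : X ⟶ Y) [QuasiCompact f] :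
    f.toImage.ker = ⊥ := by
  refine Scheme.IdealSheafData.ext_of_iSup_eq_top
    (fun U : Y.affineOpens => ⟨f.imageι ⁻¹ᵁ U.1, U.2.preimage f.imageι⟩)
    (f.imageι.iSup_preimage_eq_top (iSup_affineOpens_eq_top Y)) ?_
  intro U
  rw [Scheme.Hom.ker_apply]
  exact (RingHom.injective_iff_ker_eq_bot _).mp (f.toImage_app_injective U)

/-- a ring over a Dedekind domain `R` which embeds into a ring where the nonzero elements of `R`
become units is flat -/
theorem flat_of_units {R M N : Type u} [CommRing R] [IsDedekindDomain R] [CommRing M] [CommRing N]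
    (σ : R →+* M) (τ : M →+* N) (hτ : Function.Injective τ)
    (hu : ∀ a : R, a ≠ 0 → IsUnit (τ (σ a))) : σ.Flat := by
  algebraize [σ]
  haveI : Module.IsTorsionFree R M := ⟨fun r hr x y hxy => by
    apply hτ
    have h0 : σ r * x = σ r * y := by
      have := hxy
      simpa [Algebra.smul_def, RingHom.algebraMap_toAlgebra] using this
    have h1 : τ (σ r) * τ x = τ (σ r) * τ y := by
      rw [← map_mul, ← map_mul, h0]
    exact (hu r hr.ne_zero).mul_left_cancel h1⟩
  show Module.Flat R M
  infer_instance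

/-- a scheme over a Dedekind domain receiving a scheme-theoretically dominant quasi-compact map from
a scheme over the fraction field is flat -/
theorem flat_closure {R : Type u} [CommRing R] [IsDedekindDomain R] {X Z : Scheme.{u}}
    (φ : X ⟶ Z) [IsSchemeTheoreticallyDominant φ] [QuasiCompact φ]
    (a : X ⟶ Spec (CommRingCat.of (FractionRing R))) (b : Z ⟶ Spec (CommRingCat.of R))
    (hab : φ ≫ b = a ≫ Neron.genPt R) : Flat b := by
  apply HasRingHomProperty.of_iSup_eq_top (P := @Flat) (fun V : Z.affineOpens => V)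
    (iSup_affineOpens_eq_top Z)
  intro V
  rw [← RingHom.Flat.respectsIso.cancel_left_isIso (Scheme.ΓSpecIso (CommRingCat.of R)).inv
    (b.appLE ⊤ V.1 le_top)]
  have key : (Scheme.ΓSpecIso (CommRingCat.of R)).inv ≫ b.appLE ⊤ V.1 le_top ≫ φ.app V.1 =
      CommRingCat.ofHom (algebraMap R (FractionRing R)) ≫
        (Scheme.ΓSpecIso (CommRingCat.of (FractionRing R))).inv ≫
          a.appLE (Neron.genPt R ⁻¹ᵁ ⊤) (φ ⁻¹ᵁ V.1) le_top := by
    rw [Scheme.Hom.app_eq_appLE, Scheme.Hom.appLE_comp_appLE]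
    simp only [hab]
    rw [Scheme.Hom.comp_appLE, ← Category.assoc, ← Category.assoc]
    exact congrArg (· ≫ _) (Scheme.ΓSpecIso_inv_naturality
      (CommRingCat.ofHom (algebraMap R (FractionRing R)))).symm
  refine flat_of_units _ (φ.app V.1).hom (φ.app_injective V.1) ?_
  intro r hr
  have h1 := ConcreteCategory.congr_hom key r
  have h2 : IsUnit (algebraMap R (FractionRing R) r) :=
    IsUnit.mk0 _ ((map_ne_zero_iff _ (IsFractionRing.injective R (FractionRing R))).mpr hr)
  have h3 := h2.map ((Scheme.ΓSpecIso (CommRingCat.of (FractionRing R))).inv ≫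
          a.appLE (Neron.genPt R ⁻¹ᵁ ⊤) (φ ⁻¹ᵁ V.1) le_top).hom
  convert h3 using 1
  exact h1

section abstract

variable {S E : Scheme.{u}} (ν : E ⟶ S) [Flat ν] [Mono ν] [IsSchemeTheoreticallyDominant ν]
  [QuasiCompact ν]
  {G : Over S} [GrpObj G] {HK : Over E} [GrpObj HK] (i : HK ⟶ Red.bc ν G) [IsMonHom i]
  [IsClosedImmersion i.left]
  {H : Over S} (j : H ⟶ G) [IsClosedImmersion j.left] (φ : HK.left ⟶ H.left)
  [IsSchemeTheoreticallyDominant φ] [QuasiCompact φ]
  (hφ : φ ≫ j.left = i.left ≫ pullback.fst G.hom ν)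

omit [Flat ν] [Mono ν] [IsSchemeTheoreticallyDominant ν] [QuasiCompact ν] in
theorem map_left_fst {X Y : Over S} (f : X ⟶ Y) :
    ((Over.pullback ν).map f).left ≫ pullback.fst Y.hom ν = pullback.fst X.hom ν ≫ f.left := by
  simp only [Over.pullback_map_left]; exact pullback.lift_fst _ _ _

omit [Flat ν] [Mono ν] [IsSchemeTheoreticallyDominant ν] [QuasiCompact ν] in
theorem map_left_snd {X Y : Over S} (f : X ⟶ Y) :
    ((Over.pullback ν).map f).left ≫ pullback.snd Y.hom ν = pullback.snd X.hom ν :=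
  Over.w ((Over.pullback ν).map f)

include hφ in
omit [Flat ν] [Mono ν] [IsSchemeTheoreticallyDominant ν] [QuasiCompact ν] [GrpObj G] [GrpObj HK]
  [IsMonHom i] [IsClosedImmersion i.left] [IsClosedImmersion j.left]
  [IsSchemeTheoreticallyDominant φ] [QuasiCompact φ] in
theorem phi_hom : φ ≫ H.hom = HK.hom ≫ ν := by
  have h1 : H.hom = j.left ≫ G.hom := (Over.w j).symm
  have h2 : HK.hom = i.left ≫ pullback.snd G.hom ν := (Over.w i).symm
  rw [h1, ← Category.assoc, hφ, Category.assoc, pullback.condition, h2, Category.assoc]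

/-- the comparison map from `H_K` to the generic fibre of `H` -/
noncomputable def uMap : HK.left ⟶ pullback H.hom ν :=
  pullback.lift φ HK.hom (phi_hom ν i j φ hφ)

omit [Flat ν] [Mono ν] [IsSchemeTheoreticallyDominant ν] [QuasiCompact ν] [GrpObj G] [GrpObj HK]
  [IsMonHom i] [IsClosedImmersion i.left] [IsClosedImmersion j.left]
  [IsSchemeTheoreticallyDominant φ] [QuasiCompact φ] in
theorem uMap_comp : uMap ν i j φ hφ ≫ ((Over.pullback ν).map j).left = i.left := by
  apply pullback.hom_ext
  · rw [Category.assoc, map_left_fst, ← Category.assoc, uMap, pullback.lift_fst, hφ]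
  · rw [Category.assoc, map_left_snd, uMap, pullback.lift_snd]; exact (Over.w i).symm

omit [IsSchemeTheoreticallyDominant ν] [QuasiCompact ν] [GrpObj G] [GrpObj HK] [IsMonHom i] in
theorem isIso_uMap : IsIso (uMap ν i j φ hφ) := by
  haveI : Mono j := Over.mono_of_mono_left j
  haveI : Mono ((Over.pullback ν).map j) := inferInstance
  haveI : Mono ((Over.pullback ν).map j).left := inferInstance
  haveI : IsClosedImmersion (uMap ν i j φ hφ ≫ ((Over.pullback ν).map j).left) := by
    rw [uMap_comp]; infer_instance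
  haveI : IsClosedImmersion (uMap ν i j φ hφ) :=
    IsClosedImmersion.of_comp _ ((Over.pullback ν).map j).left
  refine StdExt.isIso_of_factor _ (pullback.fst φ (pullback.fst H.hom ν)) ?_
  have : pullback.fst φ (pullback.fst H.hom ν) ≫ uMap ν i j φ hφ =
      pullback.snd φ (pullback.fst H.hom ν) := by
    rw [← cancel_mono (pullback.fst H.hom ν), Category.assoc, uMap, pullback.lift_fst,
      pullback.condition]
  rw [this]; infer_instance

omit [IsSchemeTheoreticallyDominant ν] [QuasiCompact ν] [GrpObj G] [GrpObj HK] [IsMonHom i] in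
include hφ in
theorem isPullback_phi : IsPullback φ HK.hom H.hom ν := by
  haveI := isIso_uMap ν i j φ hφ
  exact IsPullback.of_iso_pullback ⟨phi_hom ν i j φ hφ⟩ (asIso (uMap ν i j φ hφ))
    (pullback.lift_fst _ _ _) (pullback.lift_snd _ _ _)

/-- the identification of the generic fibre of `H` with `H_K`, over `E` -/
noncomputable def kap : Red.bc ν H ⟶ HK :=
  haveI := isIso_uMap ν i j φ hφ
  Over.homMk (inv (uMap ν i j φ hφ)) (by
    rw [IsIso.inv_comp_eq]; exact (pullback.lift_snd _ _ _).symm)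

omit [IsSchemeTheoreticallyDominant ν] [QuasiCompact ν] [GrpObj G] [GrpObj HK] [IsMonHom i] in
theorem kap_comp : kap ν i j φ hφ ≫ i = (Over.pullback ν).map j := by
  haveI := isIso_uMap ν i j φ hφ
  apply Over.OverMorphism.ext
  simp only [Over.comp_left, kap, Over.homMk_left]
  rw [IsIso.inv_comp_eq, uMap_comp]

omit [Mono ν] [GrpObj G] [GrpObj HK] [IsMonHom i] [IsClosedImmersion i.left]
  [IsSchemeTheoreticallyDominant φ] [QuasiCompact φ] in
include hφ in
/-- a morphism from a flat `S`-scheme to `G` whose generic fibre factors through `H_K` factors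
through `H` -/
theorem exists_lift (Z : Over S) [Flat Z.hom] (h : Z ⟶ G) (c : Red.bc ν Z ⟶ HK)
    (hc : c ≫ i = (Over.pullback ν).map h) : ∃ d : Z ⟶ H, d ≫ j = h := by
  have hc' : (c.left ≫ φ) ≫ j.left = pullback.fst Z.hom ν ≫ h.left := by
    rw [Category.assoc, hφ, ← Category.assoc, ← Over.comp_left, hc, map_left_fst]
  obtain ⟨d, hd⟩ := StdExt.exists_factor j.left h.left (pullback.fst Z.hom ν) (c.left ≫ φ) hc'
  refine ⟨Over.homMk d ?_, Over.OverMorphism.ext hd⟩
  rw [← Over.w j, ← Category.assoc, hd, Over.w h]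

include hφ in
open scoped Obj in
theorem exists_grp [Flat H.hom] : ∃ (_ : GrpObj H), IsMonHom j := by
  haveI : Mono j := Over.mono_of_mono_left j
  haveI : Flat (𝟙_ (Over S)).hom := by
    rw [Over.tensorUnit_hom]; exact inferInstanceAs (Flat (𝟙 S))
  obtain ⟨e, he⟩ := exists_lift ν i j φ hφ (𝟙_ (Over S)) η[G]
    (Functor.OplaxMonoidal.η (Over.pullback ν) ≫ η[HK]) (by
      rw [Category.assoc, IsMonHom.one_hom, Functor.obj.η_def, Functor.Monoidal.η_ε_assoc])
  obtain ⟨iv, hiv⟩ := exists_lift ν i j φ hφ H (j ≫ ι[G]) (kap ν i j φ hφ ≫ ι[HK]) (by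
      rw [Category.assoc, GrpObj.inv_hom, ← Category.assoc, kap_comp, Functor.obj.ι_def,
        Functor.map_comp])
  haveI : Flat (H ⊗ H).hom := by rw [Over.tensorObj_hom]; infer_instance
  obtain ⟨m, hm⟩ := exists_lift ν i j φ hφ (H ⊗ H) ((j ⊗ₘ j) ≫ μ[G])
    (Functor.OplaxMonoidal.δ (Over.pullback ν) H H ≫
      (kap ν i j φ hφ ⊗ₘ kap ν i j φ hφ) ≫ μ[HK]) (by
      simp only [Category.assoc]
      rw [IsMonHom.mul_hom, tensorHom_comp_tensorHom_assoc, kap_comp, Functor.obj.μ_def,
        Functor.LaxMonoidal.μ_natural_assoc, Functor.Monoidal.δ_μ_assoc, Functor.map_comp])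
  exact ⟨GZD.grpObjOfMono j e m iv he hm hiv, GZD.isMonHom_ofMono j e m iv he hm hiv⟩

end abstract

theorem main (R : Type u) [CommRing R] [IsDedekindDomain R]
    (G : Over (Spec (CommRingCat.of R))) [GrpObj G]
    (HK : Over (Spec (CommRingCat.of (FractionRing R)))) [GrpObj HK]
    (i : HK ⟶ Red.bc (Neron.genPt R) G) [IsMonHom i] [IsClosedImmersion i.left] :
    ∃ (H : Over (Spec (CommRingCat.of R))) (_ : GrpObj H) (j : H ⟶ G) (φ : HK.left ⟶ H.left),
      IsMonHom j ∧ IsClosedImmersion j.left ∧ Flat H.hom ∧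
      IsPullback φ HK.hom H.hom (Neron.genPt R) ∧
      φ ≫ j.left = i.left ≫ pullback.fst G.hom (Neron.genPt R) ∧
      φ.ker = ⊥ := by
  haveI : Flat (Neron.genPt R) := by
    rw [HasRingHomProperty.Spec_iff (P := @Flat)]
    exact RingHom.flat_algebraMap_iff.mpr (IsLocalization.flat _ (nonZeroDivisors R))
  haveI : IsPreimmersion (Neron.genPt R) := IsPreimmersion.of_isLocalization (nonZeroDivisors R)
  haveI : Mono (Neron.genPt R) := inferInstance
  haveI : IsSchemeTheoreticallyDominant (Neron.genPt R) :=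
    StdExt.std_specMap_algebraMap R (FractionRing R) (IsFractionRing.injective R _)
  haveI : QuasiCompact (Neron.genPt R) := inferInstance
  let ψ : HK.left ⟶ G.left := i.left ≫ pullback.fst G.hom (Neron.genPt R)
  haveI : QuasiCompact ψ := inferInstance
  let H : Over (Spec (CommRingCat.of R)) := Over.mk (ψ.imageι ≫ G.hom)
  let j : H ⟶ G := Over.homMk ψ.imageι rfl
  let φ : HK.left ⟶ H.left := ψ.toImage
  have hφ : φ ≫ j.left = i.left ≫ pullback.fst G.hom (Neron.genPt R) := ψ.toImage_imageι
  have hker : φ.ker = ⊥ := ker_toImage_eq_bot ψ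
  haveI : IsSchemeTheoreticallyDominant φ := ⟨hker⟩
  haveI : QuasiCompact φ := inferInstanceAs (QuasiCompact ψ.toImage)
  haveI : IsClosedImmersion j.left := inferInstanceAs (IsClosedImmersion ψ.imageι)
  haveI : Flat H.hom := flat_closure φ HK.hom H.hom (phi_hom (Neron.genPt R) i j φ hφ)
  obtain ⟨grpH, hmon⟩ := exists_grp (Neron.genPt R) i j φ hφ
  exact ⟨H, grpH, j, φ, hmon, inferInstance, inferInstance,
    isPullback_phi (Neron.genPt R) i j φ hφ, hφ, hker⟩

end Groth.Agent.H9.SchClos
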