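import Mathlib

/-! Helper9: finite map from an equidimensional affine scheme to affine space is surjective on each component (S13904). -/

open MvPolynomial

namespace Groth.Agent.H9.FinComp

/-- an integral ring extension does not raise the Krull dimension -/
theorem ringKrullDim_le_of_isIntegral (R S : Type*) [CommRing R] [CommRing S] [Algebra R S]
    [Algebra.IsIntegral R S] : ringKrullDim S ≤ ringKrullDim R := by
  refine Order.krullDim_le_of_strictMono (fun P : PrimeSpectrum S => P.comap (algebraMap R S)) ?_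
  intro P Q hPQ
  have : P.asIdeal < Q.asIdeal := hPQ
  exact Ideal.IsIntegral.comap_lt_comap (R := R) this

theorem main (k : Type*) [Field k] (r : ℕ)
    (A : Type*) [CommRing A] [Algebra k A] (φ : MvPolynomial (Fin r) k →ₐ[k] A)
    (hφ : φ.toRingHom.Finite)
    (p : Ideal A) [hpp : p.IsPrime] (hdim : ringKrullDim (A ⧸ p) = r)
    (q : Ideal (MvPolynomial (Fin r) k)) [q.IsPrime] :
    ∃ P : Ideal A, P.IsPrime ∧ p ≤ P ∧ P.comap φ.toRingHom = q := by
  let ψ : MvPolynomial (Fin r) k →+* A ⧸ p := (Ideal.Quotient.mk p).comp φ.toRingHom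
  let a : Ideal (MvPolynomial (Fin r) k) := RingHom.ker ψ
  -- the induced map on the quotient
  let ψ' : MvPolynomial (Fin r) k ⧸ a →+* A ⧸ p := RingHom.kerLift ψ
  have hψfin : ψ.Finite := RingHom.Finite.comp (RingHom.Finite.of_surjective _ Ideal.Quotient.mk_surjective) hφ
  have hψ'fin : ψ'.Finite := by
    have : ψ = ψ'.comp (Ideal.Quotient.mk a) := by
      ext x <;> rfl
    rw [this] at hψfin
    exact RingHom.Finite.of_comp_finite hψfin
  -- dimension comparison
  have hle : ringKrullDim (A ⧸ p) ≤ ringKrullDim (MvPolynomial (Fin r) k ⧸ a) := by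
    let _ := ψ'.toAlgebra
    have : Algebra.IsIntegral (MvPolynomial (Fin r) k ⧸ a) (A ⧸ p) := by
      have : Module.Finite (MvPolynomial (Fin r) k ⧸ a) (A ⧸ p) := hψ'fin
      infer_instance
    exact ringKrullDim_le_of_isIntegral _ _
  have hdimP : ringKrullDim (MvPolynomial (Fin r) k) = r := by
    rw [MvPolynomial.ringKrullDim_of_isNoetherianRing]
    simp
  have ha : a = ⊥ := by
    by_contra hne
    obtain ⟨f, hfa, hf0⟩ := Submodule.exists_mem_ne_zero_of_ne_bot hne
    have h1 := ringKrullDim_succ_le_of_surjective (Ideal.Quotient.mk a) Ideal.Quotient.mk_surjective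
      (mem_nonZeroDivisors_of_ne_zero hf0) (Ideal.Quotient.eq_zero_iff_mem.2 hfa)
    rw [hdimP] at h1
    rw [hdim] at hle
    have h2 : ((r : WithBot ℕ∞)) + 1 ≤ r := (add_le_add_left hle 1).trans h1
    have : ((r + 1 : ℕ) : WithBot ℕ∞) ≤ (r : ℕ) := by exact_mod_cast h2
    have := (WithBot.coe_le_coe.1 this)
    have := (ENat.natCast_le_natCast.1 this)
    omega
  -- lying over
  let _ := ψ.toAlgebra
  have hint : Algebra.IsIntegral (MvPolynomial (Fin r) k) (A ⧸ p) := by
    have : Module.Finite (MvPolynomial (Fin r) k) (A ⧸ p) := hψfin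
    infer_instance
  obtain ⟨Q, -, hQprime, hQ⟩ := Ideal.exists_ideal_over_prime_of_isIntegral q (⊥ : Ideal (A ⧸ p))
    (by
      have : (⊥ : Ideal (A ⧸ p)).comap (algebraMap (MvPolynomial (Fin r) k) (A ⧸ p)) = a := rfl
      rw [this, ha]; exact bot_le)
  refine ⟨Q.comap (Ideal.Quotient.mk p), inferInstance, ?_, ?_⟩
  · intro x hx
    rw [Ideal.mem_comap, Ideal.Quotient.eq_zero_iff_mem.2 hx]
    exact Q.zero_mem
  · rw [Ideal.comap_comap]
    exact hQ

end Groth.Agent.H9.FinComp
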