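import Mathlib

/-! Helper9: heights under integral extensions with going down; S5764. -/

set_option linter.style.haveILetI false
set_option linter.unusedSectionVars false

namespace Groth.Agent.H9.GDH

variable {R S : Type*} [CommRing R] [CommRing S] [Algebra R S]

/-- for an integral extension, height can only go up under contraction. -/
lemma height_le_height_under [Algebra.IsIntegral R S] (P : Ideal S) [P.IsPrime] :
    P.height ≤ (P.under R).height := by
  have e1 := PrimeSpectrum.height_eq_orderHeight (⟨P, inferInstance⟩ : PrimeSpectrum S)
  have e2 := PrimeSpectrum.height_eq_orderHeight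
    (⟨P.under R, inferInstance⟩ : PrimeSpectrum R)
  simp only at e1 e2
  rw [e1, e2]
  let f : PrimeSpectrum S → PrimeSpectrum R := PrimeSpectrum.comap (algebraMap R S)
  have hf : StrictMono f := by
    intro a b hab
    have : a.asIdeal < b.asIdeal := hab
    exact Ideal.IsIntegral.comap_lt_comap (R := R) this
  exact Order.height_le_height_apply_of_strictMono f hf ⟨P, inferInstance⟩

/-- with going down, height can only go down under contraction. -/
lemma height_under_le_height [Algebra.HasGoingDown R S] (P : Ideal S) [P.IsPrime] :
    (P.under R).height ≤ P.height := by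
  have e1 := PrimeSpectrum.height_eq_orderHeight (⟨P, inferInstance⟩ : PrimeSpectrum S)
  have e2 := PrimeSpectrum.height_eq_orderHeight
    (⟨P.under R, inferInstance⟩ : PrimeSpectrum R)
  simp only at e1 e2
  rw [e1, e2]
  rw [Order.height_le_iff']
  intro l hl
  haveI : P.LiesOver l.last.asIdeal := ⟨by rw [hl]⟩
  obtain ⟨L, hlen, hlast, -⟩ := Ideal.exists_ltSeries_of_hasGoingDown l P
  rw [← hlen]
  exact Order.length_le_height (le_of_eq hlast)

theorem S5764_main (A B : Type*) [CommRing A]
    [CommRing B] [IsDomain B] [Algebra A B] (hinj : Function.Injective (algebraMap A B)) [IsDomain A]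
    [IsLocalRing A] [IsIntegrallyClosed A] [Algebra.IsIntegral A B] (n : Ideal B) [n.IsMaximal] :
    ringKrullDim (Localization.AtPrime n) = ringKrullDim A := by
  haveI : FaithfulSMul A B := (faithfulSMul_iff_algebraMap_injective A B).mpr hinj
  rw [IsLocalization.AtPrime.ringKrullDim_eq_height n,
    ← IsLocalRing.maximalIdeal_height_eq_ringKrullDim]
  congr 1
  have h1 : n.under A = IsLocalRing.maximalIdeal A := by
    have : (n.under A).IsMaximal := Ideal.isMaximal_comap_of_isIntegral_of_isMaximal n
    exact IsLocalRing.eq_maximalIdeal this
  rw [← h1]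
  exact le_antisymm (height_le_height_under n) (height_under_le_height n)

end Groth.Agent.H9.GDH
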