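import Mathlib
import Groth.Agent.Lib.Helper5.QFDual.DiscrEtale

set_option autoImplicit false
set_option linter.style.haveILetI false
set_option linter.unusedSectionVars false
set_option linter.unusedVariables false

open IsLocalRing

namespace Groth.Agent.H9.PFD
universe u v

/-- If `B` is unramified over `A` at all primes not containing (the image of) `t`, and `B` has a
finite `A`-basis `b`, then the discriminant of `b` becomes a unit in `A[1/t]`. -/
theorem isUnit_discr_away {A : Type u} {B : Type v} [CommRing A] [CommRing B] [Algebra A B]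
    {ι : Type*} [Fintype ι] [DecidableEq ι] (b : Module.Basis ι A B) (t : A)
    (h : ∀ q : PrimeSpectrum B, algebraMap A B t ∉ q.asIdeal →
      Algebra.IsUnramifiedAt A q.asIdeal) :
    IsUnit (algebraMap A (Localization (Submonoid.powers t)) (Algebra.discr A b)) := by
  let M : Submonoid A := Submonoid.powers t
  let Aₘ := Localization M
  let Bₘ := Localization (Algebra.algebraMapSubmonoid B M)
  have h1 : Algebra.FormallyUnramified A (Localization.Away (algebraMap A B t)) := by
    rw [← Algebra.basicOpen_subset_unramifiedLocus_iff]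
    intro q hq
    exact h q hq
  haveI : IsLocalization (Submonoid.powers (algebraMap A B t)) Bₘ := by
    have : Algebra.algebraMapSubmonoid B M = Submonoid.powers (algebraMap A B t) :=
      Submonoid.map_powers _ _
    rw [← this]
    infer_instance
  let e : Localization.Away (algebraMap A B t) ≃ₐ[A] Bₘ :=
    (IsLocalization.algEquiv (Submonoid.powers (algebraMap A B t))
      (Localization.Away (algebraMap A B t)) Bₘ).restrictScalars A
  haveI h2 : Algebra.FormallyUnramified A Bₘ := Algebra.FormallyUnramified.of_equiv e
  haveI h3 : Algebra.FormallyUnramified Aₘ Bₘ := Algebra.FormallyUnramified.of_restrictScalars (R := A) (A := Aₘ) (B := Bₘ)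
  have h4 := H5QFDual.isUnit_discr_of_formallyUnramified (b.localizationLocalization Aₘ M Bₘ)
  rw [Algebra.discr_localizationLocalization A M Bₘ b] at h4
  exact h4

/-- Purity for finite free algebras: ramification locus is a divisor. -/
theorem main (A : Type u) (B : Type v) [CommRing A] [CommRing B]
    [Algebra A B] [IsNoetherianRing A] [IsLocalRing A] (hdim : (2 : WithBot ℕ∞) ≤ ringKrullDim A)
    [Module.Finite A B] [Module.Flat A B]
    (h : ∀ q : PrimeSpectrum B, q.asIdeal.comap (algebraMap A B) ≠ IsLocalRing.maximalIdeal A →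
      Algebra.IsUnramifiedAt A q.asIdeal) :
    Algebra.Etale A B := by
  classical
  haveI : Module.Free A B := Module.free_of_flat_of_isLocalRing
  let b := Module.Free.chooseBasis A B
  rw [H5QFDual.etale_iff_isUnit_discr b]
  by_contra hd
  set d := Algebra.discr A b with hd_def
  have hdm : Ideal.span {d} ≤ maximalIdeal A := by
    rw [Ideal.span_le, Set.singleton_subset_iff]
    exact (mem_maximalIdeal d).mpr hd
  obtain ⟨p, hpmin, hpm⟩ := Ideal.exists_minimalPrimes_le hdm
  haveI hpp : p.IsPrime := hpmin.1.1
  have hht : p.height ≤ 1 := Ideal.height_le_one_of_isPrincipal_of_mem_minimalPrimes _ p hpmin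
  have hne : p ≠ maximalIdeal A := by
    intro heq
    rw [heq] at hht
    have h1 : ((maximalIdeal A).height : WithBot ℕ∞) ≤ ((1 : ℕ∞) : WithBot ℕ∞) :=
      WithBot.coe_le_coe.mpr hht
    rw [IsLocalRing.maximalIdeal_height_eq_ringKrullDim] at h1
    have h2 : (2 : WithBot ℕ∞) ≤ ((1 : ℕ∞) : WithBot ℕ∞) := hdim.trans h1
    have h3 : ((2 : ℕ∞) : WithBot ℕ∞) ≤ ((1 : ℕ∞) : WithBot ℕ∞) := h2
    rw [WithBot.coe_le_coe] at h3
    exact absurd h3 (by decide)
  obtain ⟨t, htm, htp⟩ : ∃ t ∈ maximalIdeal A, t ∉ p := by
    by_contra hcon
    push Not at hcon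
    exact hne (le_antisymm hpm hcon)
  have hunit := isUnit_discr_away b t (fun q hq => h q (fun heq => hq (by
    have : t ∈ q.asIdeal.comap (algebraMap A B) := by rw [heq]; exact htm
    exact this)))
  -- `p` extends to a proper ideal of `A[1/t]` containing the image of `d`
  have hdisj : Disjoint (Submonoid.powers t : Set A) (p : Set A) := by
    rw [Set.disjoint_left]
    rintro _ ⟨n, rfl⟩ hn
    exact htp (hpp.mem_of_pow_mem n hn)
  have hprime := IsLocalization.isPrime_of_isPrime_disjoint (Submonoid.powers t)
    (Localization (Submonoid.powers t)) p hpp hdisj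
  have hmem : algebraMap A (Localization (Submonoid.powers t)) d ∈
      Ideal.map (algebraMap A (Localization (Submonoid.powers t))) p :=
    Ideal.mem_map_of_mem _ (hpmin.1.2 (Ideal.mem_span_singleton_self d))
  exact hprime.ne_top (Ideal.eq_top_of_isUnit_mem _ hmem hunit)

end Groth.Agent.H9.PFD
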