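import Mathlib
import Groth.Agent.Lib.Helper9.Misc.PFD1

set_option autoImplicit false
set_option linter.style.haveILetI false
set_option linter.unusedSectionVars false
set_option linter.unusedVariables false

open IsLocalRing

namespace Groth.Agent.H9.PFD
universe u v

/-- transfer of unramifiedness between two localizations at the same prime. -/
theorem unram_transfer {A : Type*} {B : Type*} [CommRing A] [CommRing B] [Algebra A B]
    (q : Ideal B) [q.IsPrime] (L L' : Type*) [CommRing L] [Algebra B L] [Algebra A L]
    [IsScalarTower A B L] [IsLocalization.AtPrime L q]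
    [CommRing L'] [Algebra B L'] [Algebra A L']
    [IsScalarTower A B L'] [IsLocalization.AtPrime L' q]
    (h : Algebra.FormallyUnramified A L) : Algebra.FormallyUnramified A L' := by
  let e : L ≃ₐ[B] L' := IsLocalization.algEquiv q.primeCompl L L'
  let e' : L ≃ₐ[A] L' := e.restrictScalars A
  exact Algebra.FormallyUnramified.of_equiv e'

section Loc

variable (A : Type u) (B : Type v) [CommRing A] [CommRing B] [Algebra A B] [IsNoetherianRing A]
    [Module.Finite A B] [Module.Flat A B] (p : Ideal A) [hpp : p.IsPrime]

local notation "Ap" => Localization.AtPrime p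
local notation "Bp" => Localization (Algebra.algebraMapSubmonoid B p.primeCompl)

instance finite_loc : Module.Finite Ap Bp := Module.Finite.of_isLocalization A B p.primeCompl

instance flat_loc : Module.Flat Ap Bp := by
  haveI : Module.Flat A Bp := Module.Flat.trans A B Bp
  exact (Module.flat_iff_of_isLocalization Ap p.primeCompl Bp).mpr inferInstance

theorem dim_loc (hp2 : 2 ≤ p.height) : (2 : WithBot ℕ∞) ≤ ringKrullDim Ap := by
  rw [IsLocalization.AtPrime.ringKrullDim_eq_height p Ap]
  have : ((2 : ℕ∞) : WithBot ℕ∞) ≤ (p.height : WithBot ℕ∞) := WithBot.coe_le_coe.mpr hp2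
  exact this

theorem local_etale (hp2 : 2 ≤ p.height)
    (hlow : ∀ (q' : Ideal B) [q'.IsPrime], q'.comap (algebraMap A B) < p →
      Algebra.FormallyUnramified A (Localization.AtPrime q')) :
    Algebra.Etale Ap Bp := by
  refine main Ap Bp (dim_loc A p hp2) (fun Q hQ => ?_)
  set q' : Ideal B := Q.asIdeal.comap (algebraMap B Bp) with hq'
  haveI : q'.IsPrime := Ideal.comap_isPrime _ _
  set p' : Ideal A := q'.comap (algebraMap A B) with hp'
  haveI : p'.IsPrime := Ideal.comap_isPrime _ _
  have hp'2 : p' = (Q.asIdeal.comap (algebraMap Ap Bp)).comap (algebraMap A Ap) := by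
    rw [hp', hq', Ideal.comap_comap, Ideal.comap_comap,
      ← IsScalarTower.algebraMap_eq A B Bp, ← IsScalarTower.algebraMap_eq A Ap Bp]
  have hle : p' ≤ p := by
    rw [hp'2]
    intro a ha
    by_contra hap
    have hu : IsUnit (algebraMap A Ap a) := IsLocalization.map_units Ap (⟨a, hap⟩ : p.primeCompl)
    have hprime : (Q.asIdeal.comap (algebraMap Ap Bp)).IsPrime := Ideal.comap_isPrime _ _
    exact hprime.ne_top (Ideal.eq_top_of_isUnit_mem _ ha hu)
  have hne' : p' ≠ p := by
    intro heq
    apply hQ
    have h1 : Ideal.map (algebraMap A Ap) ((Q.asIdeal.comap (algebraMap Ap Bp)).comap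
        (algebraMap A Ap)) = Q.asIdeal.comap (algebraMap Ap Bp) :=
      IsLocalization.map_under p.primeCompl Ap _
    rw [← hp'2, heq, Localization.AtPrime.map_eq_maximalIdeal] at h1
    exact h1.symm
  have hlt : p' < p := lt_of_le_of_ne hle hne'
  have hunr' : Algebra.FormallyUnramified A (Localization.AtPrime q') := hlow q' hlt
  haveI : IsLocalization.AtPrime (Localization.AtPrime Q.asIdeal) q' :=
    IsLocalization.isLocalization_isLocalization_atPrime_isLocalization
      (Algebra.algebraMapSubmonoid B p.primeCompl) (Localization.AtPrime Q.asIdeal) Q.asIdeal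
  have h3 : Algebra.FormallyUnramified A (Localization.AtPrime Q.asIdeal) :=
    unram_transfer q' (Localization.AtPrime q') (Localization.AtPrime Q.asIdeal) hunr'
  show Algebra.FormallyUnramified Ap (Localization.AtPrime Q.asIdeal)
  exact Algebra.FormallyUnramified.of_restrictScalars (R := A) (A := Ap)
    (B := Localization.AtPrime Q.asIdeal)

theorem unram_of_local (q : Ideal B) [hq : q.IsPrime] (hqp : q.comap (algebraMap A B) = p)
    (hloc : Algebra.FormallyUnramified Ap Bp) :
    Algebra.FormallyUnramified A (Localization.AtPrime q) := by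
  haveI : Algebra.FormallyUnramified A Ap := Algebra.FormallyUnramified.of_isLocalization p.primeCompl
  haveI h1 : Algebra.FormallyUnramified A Bp := Algebra.FormallyUnramified.comp A Ap Bp
  have hdisj : Disjoint (Algebra.algebraMapSubmonoid B p.primeCompl : Set B) (q : Set B) := by
    rw [Set.disjoint_left]
    rintro _ ⟨a, ha, rfl⟩ hq'
    apply ha
    rw [← hqp]
    exact hq'
  set Q₀ : Ideal Bp := Ideal.map (algebraMap B Bp) q with hQ₀
  haveI hQ₀p : Q₀.IsPrime :=
    IsLocalization.isPrime_of_isPrime_disjoint (Algebra.algebraMapSubmonoid B p.primeCompl) Bp q hq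
      hdisj
  have hcomap : Q₀.comap (algebraMap B Bp) = q :=
    IsLocalization.under_map_of_isPrime_disjoint (Algebra.algebraMapSubmonoid B p.primeCompl) Bp
      hq hdisj
  haveI : Algebra.FormallyUnramified Bp (Localization.AtPrime Q₀) :=
    Algebra.FormallyUnramified.of_isLocalization Q₀.primeCompl
  haveI h2 : Algebra.FormallyUnramified A (Localization.AtPrime Q₀) :=
    Algebra.FormallyUnramified.comp A Bp (Localization.AtPrime Q₀)
  haveI hloc' : IsLocalization.AtPrime (Localization.AtPrime Q₀) (Q₀.comap (algebraMap B Bp)) :=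
    IsLocalization.isLocalization_isLocalization_atPrime_isLocalization
      (Algebra.algebraMapSubmonoid B p.primeCompl) (Localization.AtPrime Q₀) Q₀
  haveI hloc'' : IsLocalization.AtPrime (Localization.AtPrime Q₀) q := by
    have := hloc'
    simp only [hcomap] at this
    exact this
  exact unram_transfer q (Localization.AtPrime Q₀) (Localization.AtPrime q) h2

end Loc

theorem alg (A : Type u) (B : Type v) [CommRing A] [CommRing B] [Algebra A B] [IsNoetherianRing A]
    [Module.Finite A B] [Module.Flat A B] (S : Set (PrimeSpectrum A))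
    (hS : ∀ p : PrimeSpectrum A, p ∉ S → 2 ≤ p.asIdeal.height)
    (h : ∀ q : PrimeSpectrum B, q.comap (algebraMap A B) ∈ S →
      Algebra.IsUnramifiedAt A q.asIdeal) :
    Algebra.FormallyUnramified A B := by
  rw [← Algebra.unramifiedLocus_eq_univ_iff]
  by_contra hne
  obtain ⟨q₀, hq₀⟩ : ∃ q, q ∉ Algebra.unramifiedLocus A B := by
    by_contra hcon
    push Not at hcon
    exact hne (Set.eq_univ_of_forall hcon)
  let ht : PrimeSpectrum B → ℕ∞ := fun q => (q.asIdeal.comap (algebraMap A B)).height
  obtain ⟨q, hqT, hmin⟩ := WellFounded.has_min (InvImage.wf ht wellFounded_lt)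
    {q | q ∉ Algebra.unramifiedLocus A B} ⟨q₀, hq₀⟩
  haveI hpp : (q.asIdeal.comap (algebraMap A B)).IsPrime := Ideal.comap_isPrime _ _
  have hpS : q.comap (algebraMap A B) ∉ S := fun hs => hqT (h q hs)
  have hp2' := hS (q.comap (algebraMap A B)) hpS
  have hp2 : 2 ≤ (q.asIdeal.comap (algebraMap A B)).height := hp2'
  have key := local_etale A B (q.asIdeal.comap (algebraMap A B)) hp2 (fun q' _ hlt => by
    have hht : (q'.comap (algebraMap A B)).height < (q.asIdeal.comap (algebraMap A B)).height :=
      Ideal.height_strict_mono_of_isPrime_of_isPrime hlt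
    have hunr : (⟨q', inferInstance⟩ : PrimeSpectrum B) ∈ Algebra.unramifiedLocus A B := by
      by_contra hbad
      exact hmin ⟨q', inferInstance⟩ hbad hht
    exact hunr)
  apply hqT
  show Algebra.FormallyUnramified A (Localization.AtPrime q.asIdeal)
  haveI := key
  have hfu : Algebra.FormallyUnramified (Localization.AtPrime (q.asIdeal.comap (algebraMap A B)))
      (Localization (Algebra.algebraMapSubmonoid B
        (q.asIdeal.comap (algebraMap A B)).primeCompl)) := inferInstance
  exact unram_of_local A B (q.asIdeal.comap (algebraMap A B)) q.asIdeal rfl hfu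

end Groth.Agent.H9.PFD
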