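import Mathlib
import Groth.Agent.Lib.Helper9.Misc.PFD2

set_option autoImplicit false
set_option linter.style.haveILetI false
set_option linter.unusedSectionVars false
set_option linter.unusedVariables false

open CategoryTheory AlgebraicGeometry IsLocalRing

namespace Groth.Agent.H9.PFD
universe u

theorem lofp {X Y : Scheme.{u}} [IsLocallyNoetherian Y] (f : X ⟶ Y) [LocallyOfFiniteType f] :
    LocallyOfFinitePresentation f := by
  rw [locallyOfFinitePresentation_iff]
  intro U hU V hV e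
  haveI : IsNoetherianRing Γ(Y, U) := IsLocallyNoetherian.component_noetherian ⟨U, hU⟩
  exact RingHom.FinitePresentation.of_finiteType.mp (f.finiteType_appLE hU hV e)

/-- the stalk map at a point over `U` is formally unramified if `f ∣_ U` is étale. -/
theorem stalkMap_unram {X Y : Scheme.{u}} (f : X ⟶ Y) (U : Y.Opens) [Etale (f ∣_ U)]
    (x : X) (hx : f x ∈ U) : (f.stalkMap x).hom.FormallyUnramified := by
  have h1 := FormallyUnramified.stalkMap (f ∣_ U) (⟨x, hx⟩ : (f ⁻¹ᵁ U).toScheme)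
  exact (RingHom.FormallyUnramified.respectsIso.arrow_mk_iso_iff
    (morphismRestrictStalkMap f U ⟨x, hx⟩)).mp h1

theorem unram_app {X Y : Scheme.{u}} [IsLocallyNoetherian Y] (f : X ⟶ Y) [IsFinite f] [Flat f]
    (U : Y.Opens)
    (hU : ∀ y : Y, y ∉ U → (2 : WithBot ℕ∞) ≤ ringKrullDim (Y.presheaf.stalk y))
    [Etale (f ∣_ U)] (V : Y.Opens) (hV : IsAffineOpen V) :
    (f.app V).hom.FormallyUnramified := by
  have hW : IsAffineOpen (f ⁻¹ᵁ V) := hV.preimage f
  have hfin : (f.app V).hom.Finite := f.finite_app V hV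
  have hflat : (f.app V).hom.Flat := by
    rw [Scheme.Hom.app_eq_appLE]
    exact f.flat_appLE hV hW le_rfl
  haveI : IsNoetherianRing Γ(Y, V) := IsLocallyNoetherian.component_noetherian ⟨V, hV⟩
  algebraize [(f.app V).hom]
  show Algebra.FormallyUnramified Γ(Y, V) Γ(X, f ⁻¹ᵁ V)
  refine alg Γ(Y, V) Γ(X, f ⁻¹ᵁ V) {p | hV.fromSpec p ∈ U} ?_ ?_
  · intro p hp
    have hpU : hV.fromSpec p ∉ U := hp
    have hpV : hV.fromSpec p ∈ V := by
      have : hV.fromSpec p ∈ Set.range hV.fromSpec := Set.mem_range_self p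
      rw [hV.range_fromSpec] at this
      exact this
    letI : Algebra Γ(Y, V) (Y.presheaf.stalk (hV.fromSpec p)) :=
      TopCat.Presheaf.algebra_section_stalk Y.presheaf ⟨hV.fromSpec p, hpV⟩
    haveI : IsLocalization.AtPrime (Y.presheaf.stalk (hV.fromSpec p)) p.asIdeal :=
      hV.isLocalization_stalk' p hpV
    have h1 := hU _ hpU
    rw [IsLocalization.AtPrime.ringKrullDim_eq_height p.asIdeal
      (Y.presheaf.stalk (hV.fromSpec p))] at h1
    have h2 : ((2 : ℕ∞) : WithBot ℕ∞) ≤ (p.asIdeal.height : WithBot ℕ∞) := h1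
    exact WithBot.coe_le_coe.mp h2
  · intro q hq
    have hqU : hV.fromSpec (PrimeSpectrum.comap (algebraMap Γ(Y, V) Γ(X, f ⁻¹ᵁ V)) q) ∈ U := hq
    obtain ⟨x, hxW, hloc, hfx⟩ : ∃ (x : X) (hxW : x ∈ f ⁻¹ᵁ V),
        @IsLocalization.AtPrime Γ(X, f ⁻¹ᵁ V) _ (X.presheaf.stalk x) _
          (TopCat.Presheaf.algebra_section_stalk X.presheaf ⟨x, hxW⟩) q.asIdeal _ ∧
        f x = hV.fromSpec (PrimeSpectrum.comap (algebraMap Γ(Y, V) Γ(X, f ⁻¹ᵁ V)) q) := by
      have hxW : hW.fromSpec q ∈ f ⁻¹ᵁ V := by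
        have : hW.fromSpec q ∈ Set.range hW.fromSpec := Set.mem_range_self q
        rw [hW.range_fromSpec] at this
        exact this
      refine ⟨hW.fromSpec q, hxW, hW.isLocalization_stalk' q hxW, ?_⟩
      have h1 := IsAffineOpen.SpecMap_appLE_fromSpec f hV hW le_rfl
      have h2 : (Spec.map (f.appLE V (f ⁻¹ᵁ V) le_rfl) ≫ hV.fromSpec) q =
          (hW.fromSpec ≫ f) q := by rw [h1]
      rw [Scheme.Hom.comp_apply, Scheme.Hom.comp_apply] at h2
      rw [← h2]
      have h6 : Spec.map (f.appLE V (f ⁻¹ᵁ V) le_rfl) = Spec.map (f.app V) := by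
        rw [Scheme.Hom.appLE_eq_app]
      rw [h6]
      rfl
    have hfxU : f x ∈ U := hfx ▸ hqU
    have hfxV : f x ∈ V := hxW
    have hst := stalkMap_unram f U x hfxU
    letI algB : Algebra Γ(X, f ⁻¹ᵁ V) (X.presheaf.stalk x) :=
      TopCat.Presheaf.algebra_section_stalk X.presheaf ⟨x, hxW⟩
    haveI : IsLocalization.AtPrime (X.presheaf.stalk x) q.asIdeal := hloc
    letI algA : Algebra Γ(Y, V) (X.presheaf.stalk x) :=
      ((algebraMap Γ(X, f ⁻¹ᵁ V) (X.presheaf.stalk x)).comp
        (algebraMap Γ(Y, V) Γ(X, f ⁻¹ᵁ V))).toAlgebra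
    haveI : IsScalarTower Γ(Y, V) Γ(X, f ⁻¹ᵁ V) (X.presheaf.stalk x) :=
      IsScalarTower.of_algebraMap_eq' rfl
    have hL : Algebra.FormallyUnramified Γ(Y, V) (X.presheaf.stalk x) := by
      rw [← RingHom.formallyUnramified_algebraMap]
      have e : algebraMap Γ(Y, V) (X.presheaf.stalk x) =
          (f.stalkMap x).hom.comp (Y.presheaf.germ V (f x) hfxV).hom := by
        have h3 := Scheme.Hom.germ_stalkMap f V x hfxV
        have h4 := congrArg CommRingCat.Hom.hom h3
        rw [CommRingCat.hom_comp, CommRingCat.hom_comp] at h4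
        rw [h4]
        rfl
      rw [e]
      refine RingHom.FormallyUnramified.comp ?_ hst
      letI : Algebra Γ(Y, V) (Y.presheaf.stalk (f x)) :=
        TopCat.Presheaf.algebra_section_stalk Y.presheaf ⟨f x, hfxV⟩
      haveI : IsLocalization.AtPrime (Y.presheaf.stalk (f x))
          (hV.primeIdealOf ⟨f x, hfxV⟩).asIdeal := hV.isLocalization_stalk ⟨f x, hfxV⟩
      have h5 : Algebra.FormallyUnramified Γ(Y, V) (Y.presheaf.stalk (f x)) :=
        Algebra.FormallyUnramified.of_isLocalization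
          (hV.primeIdealOf ⟨f x, hfxV⟩).asIdeal.primeCompl
      exact RingHom.formallyUnramified_algebraMap.mpr h5
    exact unram_transfer q.asIdeal (X.presheaf.stalk x) (Localization.AtPrime q.asIdeal) hL

theorem geom {X Y : Scheme.{u}} [IsLocallyNoetherian Y] (f : X ⟶ Y) [IsFinite f] [Flat f]
    (U : Y.Opens)
    (hU : ∀ y : Y, y ∉ U → (2 : WithBot ℕ∞) ≤ ringKrullDim (Y.presheaf.stalk y))
    [Etale (f ∣_ U)] : Etale f := by
  haveI : LocallyOfFinitePresentation f := lofp f
  haveI : FormallyUnramified f := by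
    rw [HasRingHomProperty.iff_exists_appLE (P := @FormallyUnramified)
      (RingHom.FormallyUnramified.stableUnderComposition.stableUnderCompositionWithLocalizationAway
        RingHom.FormallyUnramified.holdsForLocalizationAway).1]
    intro x
    obtain ⟨V, hV, hfx, -⟩ := TopologicalSpace.Opens.isBasis_iff_nbhd.mp Y.isBasis_affineOpens
      (TopologicalSpace.Opens.mem_top (f x))
    refine ⟨⟨V, hV⟩, ⟨f ⁻¹ᵁ V, hV.preimage f⟩, hfx, le_rfl, ?_⟩
    have := unram_app f U hU V hV
    rw [Scheme.Hom.app_eq_appLE] at this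
    exact this
  exact Etale.of_formallyUnramified_of_flat f

end Groth.Agent.H9.PFD
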