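import Mathlib
import Groth.Prelude.Def_ResDeg

set_option autoImplicit false
set_option linter.style.haveILetI false
set_option linter.unusedSectionVars false
set_option linter.unusedVariables false

universe u

open AlgebraicGeometry CategoryTheory CategoryTheory.Limits

namespace Groth.Agent.H9.ZTC

variable {k : Type u} [Field k] {X : Scheme.{u}} (f : X ⟶ Spec (CommRingCat.of k))

/-- structure map `k → κ(x)` -/
noncomputable def chi (x : X) : CommRingCat.of k ⟶ X.residueField x :=
  Spec.preimage (X.fromSpecResidueField x ≫ f)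

theorem specMap_chi (x : X) :
    Spec.map (chi f x) = X.fromSpecResidueField x ≫ f := by
  unfold chi
  exact Spec.map_preimage _

/-- evaluation `k → κ(y)` for `y : Spec k` -/
noncomputable def ev (y : Spec (CommRingCat.of k)) :
    CommRingCat.of k ⟶ (Spec (CommRingCat.of k)).residueField y :=
  chi (𝟙 (Spec (CommRingCat.of k))) y

theorem specMap_ev (y : Spec (CommRingCat.of k)) :
    Spec.map (ev y) = (Spec (CommRingCat.of k)).fromSpecResidueField y := by
  unfold ev
  rw [specMap_chi, Category.comp_id]

theorem chi_eq (x : X) : chi f x = ev (f x) ≫ f.residueFieldMap x := by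
  apply Spec.map_injective
  rw [Spec.map_comp, specMap_ev, specMap_chi,
    Scheme.Hom.SpecMap_residueFieldMap_fromSpecResidueField]

theorem ev_bijective (y : Spec (CommRingCat.of k)) : Function.Bijective (ev y).hom := by
  refine ⟨(ev y).hom.injective, ?_⟩
  -- the identity of `Spec k` as a point
  set q := Scheme.SpecToEquivOfField k (Spec (CommRingCat.of k)) (𝟙 _) with hq
  have hsymm : (Scheme.SpecToEquivOfField k (Spec (CommRingCat.of k))).symm q = 𝟙 _ := by
    rw [hq, Equiv.symm_apply_apply]
  have hy : q.1 = y := Subsingleton.elim _ _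
  subst hy
  have h1 : Spec.map q.2 ≫ Spec.map (ev q.1) = 𝟙 _ := by
    rw [specMap_ev]; exact hsymm
  rw [← Spec.map_comp, ← Spec.map_id] at h1
  have h2 := Spec.map_injective h1
  have h3 : ∀ a : k, q.2.hom ((ev q.1).hom a) = a := by
    intro a
    have := congrArg (fun t => t.hom a) h2
    simpa using this
  intro b
  refine ⟨q.2.hom b, ?_⟩
  apply q.2.hom.injective
  rw [h3]

end Groth.Agent.H9.ZTC

namespace Groth.Agent.H9.ZTC

variable {k : Type u} [Field k] {X : Scheme.{u}} (f : X ⟶ Spec (CommRingCat.of k))


theorem residueDegree_eq (x : X) :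
    EGA4loc.residueDegree f x =
      (letI := (chi f x).hom.toAlgebra
       Module.finrank k (X.residueField x)) := by
  unfold EGA4loc.residueDegree
  letI a1 := (chi f x).hom.toAlgebra
  letI a2 := (f.residueFieldMap x).hom.toAlgebra
  symm
  refine Algebra.finrank_eq_of_equiv_equiv (RingEquiv.ofBijective (ev (f x)).hom (ev_bijective _))
    (RingEquiv.refl _) ?_
  ext a
  have := congrArg (fun t => t.hom a) (chi_eq f x)
  simp only [CommRingCat.hom_comp, RingHom.comp_apply] at this
  simp only [RingHom.comp_apply, RingEquiv.toRingHom_eq_coe, RingHom.coe_coe, RingEquiv.refl_apply,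
    RingEquiv.ofBijective_apply]
  exact this.symm

end Groth.Agent.H9.ZTC

namespace Groth.Agent.H9.ZTC

variable {k : Type u} [Field k] {X : Scheme.{u}} (f : X ⟶ Spec (CommRingCat.of k))

/-- `L`-points of `X` over `k`. -/
def Pts (L : Type u) [Field L] [Algebra k L] : Type u :=
  {g : Spec (CommRingCat.of L) ⟶ X // g ≫ f = Spec.map (CommRingCat.ofHom (algebraMap k L))}

/-- points as pairs (point, embedding of the residue field) -/
def SPts (L : Type u) [Field L] [Algebra k L] : Type u :=
  Σ x : X, {ι : X.residueField x ⟶ CommRingCat.of L //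
    chi f x ≫ ι = CommRingCat.ofHom (algebraMap k L)}

theorem comp_eq_iff (L : Type u) [Field L] [Algebra k L]
    (p : Σ x : X, (X.residueField x ⟶ CommRingCat.of L)) :
    (Scheme.SpecToEquivOfField L X).symm p ≫ f =
        Spec.map (CommRingCat.ofHom (algebraMap k L)) ↔
      chi f p.1 ≫ p.2 = CommRingCat.ofHom (algebraMap k L) := by
  have h1 : (Scheme.SpecToEquivOfField L X).symm p ≫ f = Spec.map (chi f p.1 ≫ p.2) := by
    rw [Spec.map_comp, specMap_chi]
    simp [Scheme.SpecToEquivOfField]
  rw [h1]
  exact Spec.map_injective.eq_iff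

/-- the underlying morphism of a pair -/
noncomputable def SPts.toHom {L : Type u} [Field L] [Algebra k L] (s : SPts f L) :
    Spec (CommRingCat.of L) ⟶ X :=
  Spec.map s.2.1 ≫ X.fromSpecResidueField s.1

noncomputable def ptsFun (L : Type u) [Field L] [Algebra k L] (s : SPts f L) : Pts f L :=
  ⟨(Scheme.SpecToEquivOfField L X).symm ⟨s.1, s.2.1⟩, (comp_eq_iff f L ⟨s.1, s.2.1⟩).2 s.2.2⟩

theorem ptsFun_val (L : Type u) [Field L] [Algebra k L] (s : SPts f L) :
    (ptsFun f L s).1 = s.toHom f := rfl

theorem ptsFun_bijective (L : Type u) [Field L] [Algebra k L] :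
    Function.Bijective (ptsFun f L) := by
  constructor
  · intro s s' h
    have h1 := (Scheme.SpecToEquivOfField L X).symm.injective (congrArg Subtype.val h)
    obtain ⟨x, ι, hι⟩ := s
    obtain ⟨x', ι', hι'⟩ := s'
    simp only at h1
    obtain ⟨rfl, h2⟩ := Sigma.mk.inj_iff.1 h1
    cases eq_of_heq h2
    rfl
  · intro g
    set p := Scheme.SpecToEquivOfField L X g.1 with hp
    have hg : (Scheme.SpecToEquivOfField L X).symm p = g.1 := by
      rw [hp, Equiv.symm_apply_apply]
    refine ⟨⟨p.1, p.2, (comp_eq_iff f L p).1 (by rw [hg]; exact g.2)⟩, ?_⟩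
    apply Subtype.ext
    exact hg

noncomputable def ptsEquiv (L : Type u) [Field L] [Algebra k L] : SPts f L ≃ Pts f L :=
  Equiv.ofBijective (ptsFun f L) (ptsFun_bijective f L)

theorem ptsEquiv_val (L : Type u) [Field L] [Algebra k L] (s : SPts f L) :
    (ptsEquiv f L s).1 = s.toHom f := rfl

/-- change of field -/
noncomputable def SPts.map {L L' : Type u} [Field L] [Algebra k L] [Field L'] [Algebra k L']
    (τ : L →ₐ[k] L') (s : SPts f L) : SPts f L' :=
  ⟨s.1, s.2.1 ≫ CommRingCat.ofHom τ.toRingHom, by
    rw [← Category.assoc, s.2.2, ← CommRingCat.ofHom_comp]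
    congr 1
    exact τ.comp_algebraMap⟩

theorem SPts.map_toHom {L L' : Type u} [Field L] [Algebra k L] [Field L'] [Algebra k L']
    (τ : L →ₐ[k] L') (s : SPts f L) :
    (s.map f τ).toHom f = Spec.map (CommRingCat.ofHom τ.toRingHom) ≫ s.toHom f := by
  unfold SPts.toHom SPts.map
  simp only [Spec.map_comp, Category.assoc]

end Groth.Agent.H9.ZTC

namespace Groth.Agent.H9.ZTC

theorem card_lifts {F K L : Type u} [Field F] [Field K] [Field L] [Finite L] [Algebra F L]
    (χ : F →+* K) :
    letI := χ.toAlgebra
    (Nonempty {ι : K →+* L // ι.comp χ = algebraMap F L} →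
      Module.finrank F K ∣ Module.finrank F L) ∧
    (Module.finrank F K ∣ Module.finrank F L →
      Nat.card {ι : K →+* L // ι.comp χ = algebraMap F L} = Module.finrank F K) := by
  letI := χ.toAlgebra
  let e : {ι : K →+* L // ι.comp χ = algebraMap F L} ≃ (K →ₐ[F] L) :=
    { toFun := fun ι => { ι.1 with
          commutes' := fun a => by
            have := congrArg (fun t => t a) ι.2
            exact this }
      invFun := fun τ => ⟨τ.toRingHom, τ.comp_algebraMap⟩
      left_inv := fun ι => by ext; rfl
      right_inv := fun τ => by ext; rfl }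
  constructor
  · rintro ⟨ι⟩
    exact FiniteField.nonempty_algHom_iff_finrank_dvd.1 ⟨e ι⟩
  · intro h
    rw [Nat.card_congr e]
    exact FiniteField.natCard_algHom_of_finrank_dvd h

variable {k : Type u} [Field k] {X : Scheme.{u}} (f : X ⟶ Spec (CommRingCat.of k))

theorem fibre_facts (L : Type u) [Field L] [Finite L] [Algebra k L] (x : X) :
    (Nonempty {ι : X.residueField x ⟶ CommRingCat.of L //
        chi f x ≫ ι = CommRingCat.ofHom (algebraMap k L)} →
      EGA4loc.residueDegree f x ∣ Module.finrank k L) ∧
    (EGA4loc.residueDegree f x ∣ Module.finrank k L →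
      Nat.card {ι : X.residueField x ⟶ CommRingCat.of L //
        chi f x ≫ ι = CommRingCat.ofHom (algebraMap k L)} = EGA4loc.residueDegree f x) := by
  rw [residueDegree_eq]
  let e : {ι : X.residueField x ⟶ CommRingCat.of L //
        chi f x ≫ ι = CommRingCat.ofHom (algebraMap k L)} ≃
      {ι : X.residueField x →+* L // ι.comp (chi f x).hom = algebraMap k L} :=
    { toFun := fun ι => ⟨ι.1.hom, by
        have := congrArg (fun t => t.hom) ι.2
        simpa using this⟩
      invFun := fun ι => ⟨CommRingCat.ofHom ι.1, by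
        ext a
        have := congrArg (fun t => t a) ι.2
        exact this⟩
      left_inv := fun ι => by apply Subtype.ext; rfl
      right_inv := fun ι => by apply Subtype.ext; rfl }
  have := card_lifts (F := k) (K := X.residueField x) (L := L) (chi f x).hom
  constructor
  · rintro ⟨ι⟩
    exact this.1 ⟨e ι⟩
  · intro h
    rw [Nat.card_congr e]
    exact this.2 h

theorem isClosed_of_residueDegree_pos [LocallyOfFiniteType f] (x : X)
    (h : 0 < EGA4loc.residueDegree f x) : IsClosed ({x} : Set X) := by
  haveI : JacobsonSpace X := LocallyOfFiniteType.jacobsonSpace f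
  rw [isClosed_singleton_iff_locallyOfFiniteType]
  rw [residueDegree_eq] at h
  letI := (chi f x).hom.toAlgebra
  have hfin : Module.Finite k (X.residueField x) := Module.finite_of_finrank_pos h
  have h1 : (chi f x).hom.Finite := hfin
  have h2 : LocallyOfFiniteType (Spec.map (chi f x)) := by
    rw [HasRingHomProperty.Spec_iff (P := @LocallyOfFiniteType)]
    exact h1.finiteType
  rw [specMap_chi] at h2
  exact locallyOfFiniteType_of_comp _ f

end Groth.Agent.H9.ZTC
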