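import Mathlib

/-! Helper9: reduced lft group scheme over a perfect field is smooth (S7495). -/

set_option linter.style.haveILetI false
set_option linter.unusedSectionVars false

namespace Groth.Agent.H9.GSB

universe u

open CategoryTheory CategoryTheory.Limits MonoidalCategory CartesianMonoidalCategory MonObj GrpObj
  AlgebraicGeometry

section Locus

variable {X Y Y' : Scheme.{u}} (f : X ⟶ Y) (g : Y' ⟶ Y) [LocallyOfFinitePresentation f]

theorem smooth_smoothLocus_ι : Smooth (f.smoothLocus.ι ≫ f) := by
  rw [← Scheme.Hom.smoothLocus_eq_top_iff, ← Scheme.Hom.preimage_smoothLocus_eq,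
    Scheme.Opens.ι_preimage_self]

/-- The smooth locus pulls back into the smooth locus of the base change. -/
theorem mem_smoothLocus_of_pullback (x' : ↥(pullback f g))
    (hx' : pullback.fst f g x' ∈ f.smoothLocus) : x' ∈ (pullback.snd f g).smoothLocus := by
  let j := f.smoothLocus.ι
  haveI : Smooth (j ≫ f) := smooth_smoothLocus_ι f
  let i : pullback (j ≫ f) g ⟶ pullback f g :=
    pullback.map (j ≫ f) g f g j (𝟙 Y') (𝟙 Y) (by simp) (by simp)
  have hi : i ≫ pullback.snd f g = pullback.snd (j ≫ f) g := by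
    rw [pullback.lift_snd, Category.comp_id]
  have hrange : x' ∈ Set.range i := by
    rw [Scheme.Pullback.range_map]
    refine ⟨?_, ?_⟩
    · rw [Set.mem_preimage, Scheme.Opens.range_ι]
      exact hx'
    · simp
  obtain ⟨w, rfl⟩ := hrange
  have h1 : i ⁻¹ᵁ (pullback.snd f g).smoothLocus = ⊤ := by
    rw [Scheme.Hom.preimage_smoothLocus_eq]
    have : (i ≫ pullback.snd f g).smoothLocus = (pullback.snd (j ≫ f) g).smoothLocus := by
      congr 1
    rw [this]
    exact Scheme.Hom.smoothLocus_eq_top _
  have h2 : w ∈ i ⁻¹ᵁ (pullback.snd f g).smoothLocus := by rw [h1]; trivial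
  exact h2

end Locus

section Grp

variable {K : Type u} [Field K]

set_option backward.defeqAttrib.useBackward true in
set_option backward.isDefEq.respectTransparency false in
/-- A group scheme locally of finite type over an algebraically closed field with nonempty
smooth locus is smooth (homogeneity). -/
theorem smooth_of_nonempty_smoothLocus [IsAlgClosed K] {G : Scheme.{u}} (f : G ⟶ Spec (.of K))
    [LocallyOfFiniteType f] [GrpObj (Over.mk f)]
    (hne : (f.smoothLocus : Set G).Nonempty) : Smooth f := by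
  have := LocallyOfFiniteType.jacobsonSpace f
  rw [← Scheme.Hom.smoothLocus_eq_top_iff, ← TopologicalSpace.Opens.coe_eq_univ,
    ← not_ne_iff, ← Set.nonempty_compl]
  intro H
  obtain ⟨x, hx, hxc⟩ :=
    nonempty_inter_closedPoints H f.smoothLocus.2.isClosed_compl.isLocallyClosed
  obtain ⟨y, hy : y ∈ f.smoothLocus, hyc⟩ := nonempty_inter_closedPoints
    hne f.smoothLocus.2.isLocallyClosed
  let x' : 𝟙_ _ ⟶ Over.mk f := Over.homMk _ ((pointEquivClosedPoint f).symm ⟨x, hxc⟩).2
  let y' : 𝟙_ _ ⟶ Over.mk f := Over.homMk _ ((pointEquivClosedPoint f).symm ⟨y, hyc⟩).2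
  let α := (GrpObj.mulRight (A := Over.mk f) x').symm ≪≫
    (GrpObj.mulRight (A := Over.mk f) y')
  have hα : x' ≫ α.hom = y' := by
    dsimp only [Iso.trans_hom, Iso.symm_hom, α]
    rw [← Category.assoc, ← Iso.eq_comp_inv]
    simp [comp_lift_assoc]
  have hα' : α.hom.left x = y := by
    simpa [x', y', pointEquivClosedPoint] using congr(($hα).left (IsLocalRing.closedPoint K))
  rw! [← hα', ← α.hom.left.mem_preimage, Scheme.Hom.preimage_smoothLocus_eq,
    show α.hom.left ≫ f = f from α.hom.w] at hy
  exact hx hy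

theorem S7495_main [PerfectField K] (G : Over (Spec (CommRingCat.of K))) [GrpObj G]
    [LocallyOfFiniteType G.hom] [IsReduced G.left] : Smooth G.hom := by
  let Ω : Type u := AlgebraicClosure K
  let g : Spec (.of Ω) ⟶ Spec (.of K) := Spec.map (CommRingCat.ofHom <| algebraMap K Ω)
  apply MorphismProperty.of_pullback_snd_of_descendsAlong
    (Q := @Surjective ⊓ @Flat ⊓ @QuasiCompact) (g := g)
  · exact ⟨⟨inferInstance, inferInstance⟩, inferInstance⟩
  · letI : GrpObj (Over.mk G.hom) := ‹GrpObj G›
    let : GrpObj (Over.mk (Limits.pullback.snd G.hom g)) := Over.grpObjMkPullbackSnd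
    apply smooth_of_nonempty_smoothLocus
    have hne : Nonempty G.left := ⟨η[G].left (IsLocalRing.closedPoint K)⟩
    obtain ⟨y, hy⟩ := (G.hom.dense_smoothLocus_of_perfectField).nonempty
    obtain ⟨x', hx'⟩ := (pullback.fst G.hom g).surjective y
    exact ⟨x', mem_smoothLocus_of_pullback _ _ x' (hx' ▸ hy)⟩

end Grp

end Groth.Agent.H9.GSB
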