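import Mathlib
import Groth.Prelude.Def_W4c2submetdescSubtr

/-! Helper9: over a DVR, quotient map iff pairs lift (S14766) -/

namespace Groth.Agent.H9.DVRSub

open AlgebraicGeometry CategoryTheory TopologicalSpace Opposite

universe u

theorem isOpen_compl_basicOpen_of_stable {X : Scheme.{u}} (t : Γ(X, ⊤))
    (h : StableUnderGeneralization ((X.basicOpen t : Set X)ᶜ)) :
    IsOpen ((X.basicOpen t : Set X)ᶜ) := by
  rw [isOpen_iff_forall_mem_open]
  intro x hx
  obtain ⟨U, hU, hxU, -⟩ := exists_isAffineOpen_mem_and_subset (x := x) (U := ⊤) trivial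
  have hT1 : StableUnderGeneralization (hU.fromSpec ⁻¹' ((X.basicOpen t : Set X)ᶜ)) :=
    h.preimage hU.fromSpec.continuous
  have hT2 : hU.fromSpec ⁻¹' ((X.basicOpen t : Set X)ᶜ) =
      ((PrimeSpectrum.basicOpen (X.presheaf.map (homOfLE le_top).op t) :
        Opens (PrimeSpectrum Γ(X, U))) : Set (PrimeSpectrum Γ(X, U)))ᶜ := by
    rw [← hU.fromSpec_preimage_basicOpen, Scheme.basicOpen_res]
    ext y
    have hy : hU.fromSpec y ∈ U := by
      have : hU.fromSpec y ∈ Set.range hU.fromSpec := ⟨y, rfl⟩
      rw [hU.range_fromSpec] at this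
      exact this
    have key : (y ∈ hU.fromSpec ⁻¹ᵁ (U ⊓ X.basicOpen t)) ↔ hU.fromSpec y ∈ X.basicOpen t := by
      constructor
      · intro h; exact h.2
      · intro h; exact ⟨hy, h⟩
    show ¬ (hU.fromSpec y ∈ X.basicOpen t) ↔ ¬ (y ∈ hU.fromSpec ⁻¹ᵁ (U ⊓ X.basicOpen t))
    rw [key]
  have hTo : IsOpen (hU.fromSpec ⁻¹' ((X.basicOpen t : Set X)ᶜ)) := by
    rw [hT2] at hT1 ⊢
    exact PrimeSpectrum.isOpen_of_stableUnderGeneralization_of_isConstructible hT1
      (PrimeSpectrum.isConstructible_basicOpen.compl)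
  refine ⟨hU.fromSpec '' (hU.fromSpec ⁻¹' ((X.basicOpen t : Set X)ᶜ)), ?_,
    hU.fromSpec.isOpenEmbedding.isOpenMap _ hTo, ?_⟩
  · rintro _ ⟨y, hy, rfl⟩; exact hy
  · have : x ∈ Set.range hU.fromSpec := by rw [hU.range_fromSpec]; exact hxU
    obtain ⟨y, rfl⟩ := this
    exact ⟨y, hx, rfl⟩

section DVR

variable (V : Type u) [CommRing V] [IsDomain V] [IsDiscreteValuationRing V]

theorem prime_cases (y : PrimeSpectrum V) : y = ⟨⊥, Ideal.isPrime_bot⟩ ∨ y = IsLocalRing.closedPoint V := by
  by_cases h : y.asIdeal = ⊥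
  · left; ext1; exact h
  · right
    ext1
    have : y.asIdeal.IsMaximal := y.isPrime.isMaximal h
    exact IsLocalRing.eq_maximalIdeal this

theorem bot_ne_closed : (⟨⊥, Ideal.isPrime_bot⟩ : PrimeSpectrum V) ≠ IsLocalRing.closedPoint V := by
  intro h
  have := congrArg PrimeSpectrum.asIdeal h
  exact IsDiscreteValuationRing.not_a_field V this.symm

theorem main {X : Scheme.{u}} (f : X ⟶ Spec (CommRingCat.of V)) :
    Topology.IsQuotientMap f ↔ Subtr.IsSSubtrusive f := by
  let η : ↥(Spec (CommRingCat.of V)) := (⟨⊥, Ideal.isPrime_bot⟩ : PrimeSpectrum V)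
  let s : ↥(Spec (CommRingCat.of V)) := IsLocalRing.closedPoint V
  have hcases : ∀ y : ↥(Spec (CommRingCat.of V)), y = η ∨ y = s := fun y => prime_cases V y
  have hne : η ≠ s := bot_ne_closed V
  have hηs : η ⤳ s := by
    show (⟨⊥, Ideal.isPrime_bot⟩ : PrimeSpectrum V) ⤳ IsLocalRing.closedPoint V
    rw [← PrimeSpectrum.le_iff_specializes]
    exact bot_le
  have hsη : ¬ s ⤳ η := by
    intro h
    have h' : IsLocalRing.closedPoint V ⤳ (⟨⊥, Ideal.isPrime_bot⟩ : PrimeSpectrum V) := h
    rw [← PrimeSpectrum.le_iff_specializes] at h'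
    have : (IsLocalRing.closedPoint V).asIdeal = ⊥ := le_bot_iff.mp h'
    exact IsDiscreteValuationRing.not_a_field V this
  have hclosed : IsClosed ({s} : Set ↥(Spec (CommRingCat.of V))) :=
    IsLocalRing.isClosed_singleton_closedPoint V
  constructor
  · -- quotient map ⇒ pairs lift
    intro hq y y' hyy'
    have hsurj : Function.Surjective f := hq.surjective
    by_cases hy : y' = y
    · obtain ⟨x, hx⟩ := hsurj y
      exact ⟨x, x, specializes_rfl, hx, by rw [hy, hx]⟩
    · -- y' = η, y = s
      have hy' : y' = η ∧ y = s := by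
        rcases hcases y' with h1 | h1 <;> rcases hcases y with h2 | h2
        · exact absurd (h1.trans h2.symm) hy
        · exact ⟨h1, h2⟩
        · rw [h1, h2] at hyy'; exact absurd hyy' hsη
        · exact absurd (h1.trans h2.symm) hy
      obtain ⟨rfl, rfl⟩ := hy'
      by_contra hno
      push Not at hno
      -- Z = f⁻¹{s} stable under generization
      obtain ⟨π, hπ⟩ := IsDiscreteValuationRing.exists_irreducible V
      let r : Γ(Spec (CommRingCat.of V), ⊤) := (Scheme.ΓSpecIso (CommRingCat.of V)).inv π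
      have hbo : ((Spec (CommRingCat.of V)).basicOpen r : Set ↥(Spec (CommRingCat.of V))) = {s}ᶜ := by
        rw [basicOpen_eq_of_affine]
        ext y
        show π ∉ (y : PrimeSpectrum V).asIdeal ↔ ¬ (y = s)
        constructor
        · intro h1 h2
          apply h1
          rw [h2]
          show π ∈ IsLocalRing.maximalIdeal V
          rw [hπ.maximalIdeal_eq]; exact Ideal.mem_span_singleton_self _
        · intro h1 h2
          rcases hcases y with h3 | h3
          · have : π ∈ (⊥ : Ideal V) := by rw [h3] at h2; exact h2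
            exact hπ.ne_zero (by simpa using this)
          · exact h1 h3
      have hZ : (f ⁻¹' ({s} : Set _)) = ((X.basicOpen (f.appTop r) : Set X))ᶜ := by
        rw [← Scheme.preimage_basicOpen_top]
        show _ = (f ⁻¹' ((Spec (CommRingCat.of V)).basicOpen r : Set _))ᶜ
        rw [hbo, Set.preimage_compl, compl_compl]
      have hstab : StableUnderGeneralization (f ⁻¹' ({s} : Set _)) := by
        intro x x' hxx' hx
        have hfx : f x = s := hx
        rcases hcases (f x') with h1 | h1
        · exact absurd h1 (hno x x' hxx' hfx)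
        · exact h1
      have hopen : IsOpen (f ⁻¹' ({s} : Set _)) := by
        rw [hZ] at hstab ⊢
        exact isOpen_compl_basicOpen_of_stable _ hstab
      have hopen' : IsOpen ({s} : Set ↥(Spec (CommRingCat.of V))) := hq.isOpen_preimage.mp hopen
      have : η ∈ ({s} : Set _) := hηs.mem_open hopen' rfl
      exact hne this
  · -- pairs lift ⇒ quotient map
    intro hsub
    have hsurj : Function.Surjective f := by
      intro y
      obtain ⟨x, _, _, hx, _⟩ := hsub (specializes_refl y)
      exact ⟨x, hx⟩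
    rw [Topology.isQuotientMap_iff_isClosed]
    refine ⟨hsurj, fun Z => ⟨fun hZ => hZ.preimage f.continuous, fun hZ => ?_⟩⟩
    by_cases hη : η ∈ Z
    · obtain ⟨x, x', hxx', hx, hx'⟩ := hsub hηs
      have h1 : x' ∈ f ⁻¹' Z := by show f x' ∈ Z; rw [hx']; exact hη
      have h2 : x ∈ f ⁻¹' Z := hxx'.mem_closed hZ h1
      have h3 : s ∈ Z := by rw [← hx]; exact h2
      have : Z = Set.univ := by
        ext y
        simp only [Set.mem_univ, iff_true]
        rcases hcases y with h | h <;> rw [h] <;> assumption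
      rw [this]; exact isClosed_univ
    · by_cases hs : s ∈ Z
      · have : Z = {s} := by
          ext y
          rcases hcases y with h | h
          · rw [h]; simp [hη, hne]
          · rw [h]; simp [hs]
        rw [this]; exact hclosed
      · have : Z = ∅ := by
          ext y
          rcases hcases y with h | h <;> rw [h] <;> simp [hη, hs]
        rw [this]; exact isClosed_empty

end DVR

end Groth.Agent.H9.DVRSub
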