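import Mathlib
import Groth.Agent.Lib.Helper9.ComodGIT
import Groth.Agent.Lib.Helper9.CocommDiag.Semisimple

/-!
# Translations of an affine `G`-scheme by rational points of `G` (helper9)
-/

set_option autoImplicit false
set_option linter.style.haveILetI false
set_option linter.unusedSectionVars false
set_option linter.unusedVariables false

universe u v w w'

open TensorProduct WithConv

namespace Groth.Agent.H9.CLO

open Groth.Agent.H9 Groth.Agent.H9.Comod Groth.Agent.H9.GIT Groth.Agent.H9.CocommDiag

section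

variable {k : Type u} [Field k] {A : Type v} [CommRing A] [HopfAlgebra k A]
  {R : Type w} [CommRing R] [Algebra k R] [HopfRep.Comod k A R] [GLin.IsCoactAlg k A R]

/-- translation by a point as an algebra map -/
noncomputable def tr (g : A →ₐ[k] k) : R →ₐ[k] R :=
  (Algebra.TensorProduct.rid k k R).toAlgHom.comp
    ((Algebra.TensorProduct.map (AlgHom.id k R) g).comp (GLin.coactAlgHom k A R))

lemma tr_apply (g : A →ₐ[k] k) (f : R) : tr g f = HopfRep.Comod.act k A R g f := by
  change (Algebra.TensorProduct.rid k k R) (Algebra.TensorProduct.map (AlgHom.id k R) g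
    (HopfRep.Comod.coact (k := k) (A := A) f)) =
    (TensorProduct.rid k R) (LinearMap.lTensor R g.toLinearMap
      (HopfRep.Comod.coact (k := k) (A := A) f))
  generalize HopfRep.Comod.coact (k := k) (A := A) f = z
  induction z using TensorProduct.induction_on with
  | zero => simp
  | tmul r a => simp
  | add z₁ z₂ h₁ h₂ => simp only [map_add, h₁, h₂]

lemma tr_apply' (g : A →ₐ[k] k) (f : R) :
    tr g f = Tact k A R (toConv g.toLinearMap) f := by
  rw [tr_apply]; rfl

lemma tr_mul (g h : WithConv (A →ₐ[k] k)) :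
    tr (R := R) (g * h).ofConv = (tr g.ofConv).comp (tr h.ofConv) := by
  ext f
  rw [AlgHom.comp_apply, tr_apply', tr_apply', tr_apply']
  have := AlgHom.toLinearMap_convMul g h
  rw [this, map_mul]
  rfl

lemma tr_one : tr (R := R) (1 : WithConv (A →ₐ[k] k)).ofConv = AlgHom.id k R := by
  ext f
  rw [tr_apply']
  have := AlgHom.toLinearMap_convOne (R := k) (C := A) (A := k)
  rw [this, map_one]
  rfl

lemma tr_inv_comp (g : WithConv (A →ₐ[k] k)) :
    (tr (R := R) (g⁻¹).ofConv).comp (tr g.ofConv) = AlgHom.id k R := by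
  rw [← tr_mul, inv_mul_cancel, tr_one]

lemma tr_comp_inv (g : WithConv (A →ₐ[k] k)) :
    (tr (R := R) g.ofConv).comp (tr (g⁻¹).ofConv) = AlgHom.id k R := by
  rw [← tr_mul, mul_inv_cancel, tr_one]

lemma comp_tr (x : R →ₐ[k] k) (g : A →ₐ[k] k) : x.comp (tr g) = GLin.actPt k g x := by
  ext f
  rw [AlgHom.comp_apply, tr_apply]
  exact apply_act x g f

/-- the regular comodule is an algebra coaction -/
instance regularCoactAlg : GLin.IsCoactAlg k A A :=
  ⟨Bialgebra.comul_one, Bialgebra.comul_mul⟩

lemma orbitHom_tr (x : R →ₐ[k] k) (g : A →ₐ[k] k) (f : R) :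
    GLin.orbitHom k A x (tr g f) = tr g (GLin.orbitHom k A x f) := by
  rw [tr_apply, tr_apply, orbitHom_apply, orbitHom_apply]
  exact (slice_coact_apply_of_isComodHom (isComodHom_mcoef x.toLinearMap) f g.toLinearMap).symm

end

section Equivariant

variable {k : Type u} [Field k] {A : Type v} [CommRing A] [HopfAlgebra k A]
  {S : Type w'} [CommRing S] [Algebra k S] [HopfRep.Comod k A S] [GLin.IsCoactAlg k A S]
  {R : Type w} [CommRing R] [Algebra k R] [HopfRep.Comod k A R] [GLin.IsCoactAlg k A R]
  (φ : S →ₐ[k] R)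
  (hφ : ∀ s : S, HopfRep.Comod.coact (k := k) (A := A) (φ s) =
    Algebra.TensorProduct.map φ (AlgHom.id k A) (HopfRep.Comod.coact (k := k) (A := A) s))

include hφ in
lemma isComodHom_of_equivariant : Hoch.IsComodHom A φ.toLinearMap := by
  rw [isComodHom_iff]
  intro s
  rw [AlgHom.toLinearMap_apply, hφ s]
  generalize HopfRep.Comod.coact (k := k) (A := A) s = z
  induction z using TensorProduct.induction_on with
  | zero => simp
  | tmul r a => simp
  | add z₁ z₂ h₁ h₂ => simp only [map_add, h₁, h₂]

include hφ in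
lemma map_tr (g : A →ₐ[k] k) (s : S) : φ (tr g s) = tr g (φ s) := by
  rw [tr_apply, tr_apply]
  exact (slice_coact_apply_of_isComodHom (isComodHom_of_equivariant φ hφ) s g.toLinearMap).symm

include hφ in
lemma orbitHom_map (x : R →ₐ[k] k) (s : S) :
    GLin.orbitHom k A x (φ s) = GLin.orbitHom k A (x.comp φ) s := by
  change (Algebra.TensorProduct.lid k A) (Algebra.TensorProduct.map x (AlgHom.id k A)
    (HopfRep.Comod.coact (k := k) (A := A) (φ s))) =
    (Algebra.TensorProduct.lid k A) (Algebra.TensorProduct.map (x.comp φ) (AlgHom.id k A)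
    (HopfRep.Comod.coact (k := k) (A := A) s))
  rw [hφ s]
  generalize HopfRep.Comod.coact (k := k) (A := A) s = z
  induction z using TensorProduct.induction_on with
  | zero => simp
  | tmul r a => simp
  | add z₁ z₂ h₁ h₂ => simp only [map_add, h₁, h₂]

include hφ in
lemma orbitHom_comp_eq (x : R →ₐ[k] k) :
    (GLin.orbitHom k A x).comp φ = GLin.orbitHom k A (x.comp φ) :=
  AlgHom.ext (fun s => orbitHom_map φ hφ x s)

end Equivariant

end Groth.Agent.H9.CLO
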