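import Mathlib
import Groth.Agent.Lib.Helper9.Misc.CLO1
import Groth.Agent.Lib.Helper9.Misc.ORB1

/-!
# Orbits of rational points are open in their closure (ring level) (helper9)
-/

set_option autoImplicit false
set_option linter.style.haveILetI false
set_option linter.unusedSectionVars false
set_option linter.unusedVariables false

universe u v w w'

open TensorProduct WithConv Topology

namespace Groth.Agent.H9.CLO

open Groth.Agent.H9 Groth.Agent.H9.Comod Groth.Agent.H9.GIT Groth.Agent.H9.CocommDiag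

section Jac

variable {k : Type u} [Field k] [IsAlgClosed k] {A : Type v} [CommRing A] [Algebra k A]
  [Algebra.FiniteType k A]

/-- the point of the spectrum given by a rational point -/
def pt (h : A →ₐ[k] k) : PrimeSpectrum A := ⟨RingHom.ker (h : A →+* k), RingHom.ker_isPrime _⟩

theorem eq_univ_of_forall_pt (C : Set (PrimeSpectrum A)) (hC : IsClosed C)
    (h : ∀ g : A →ₐ[k] k, pt g ∈ C) : C = Set.univ := by
  haveI : IsJacobsonRing A := isJacobsonRing_of_finiteType (A := k)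
  obtain ⟨J, rfl⟩ := (PrimeSpectrum.isClosed_iff_zeroLocus_ideal C).1 hC
  rw [Set.eq_univ_iff_forall]
  intro p
  rw [PrimeSpectrum.mem_zeroLocus]
  intro a ha
  have hp : p.asIdeal.jacobson = p.asIdeal := IsJacobsonRing.out inferInstance p.2.isRadical
  rw [SetLike.mem_coe, ← hp, Ideal.jacobson, Ideal.mem_sInf]
  rintro M ⟨hpM, hM⟩
  obtain ⟨g, hg⟩ := exists_algHom_ker_eq (k := k) M hM
  have h1 := h g
  rw [PrimeSpectrum.mem_zeroLocus] at h1
  have h2 : a ∈ RingHom.ker (g : A →+* k) := h1 ha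
  rw [← hg]; exact h2

theorem exists_pt_mem_of_isOpen (V : Set (PrimeSpectrum A)) (hV : IsOpen V) (hne : V.Nonempty) :
    ∃ g : A →ₐ[k] k, pt g ∈ V := by
  by_contra hcon
  push Not at hcon
  have h1 := eq_univ_of_forall_pt (k := k) Vᶜ hV.isClosed_compl (fun g => hcon g)
  obtain ⟨p, hp⟩ := hne
  have : p ∈ Vᶜ := by rw [h1]; trivial
  exact this hp

theorem exists_pt_mem_of_isClosed (C : Set (PrimeSpectrum A)) (hC : IsClosed C)
    (hne : C.Nonempty) : ∃ g : A →ₐ[k] k, pt g ∈ C := by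
  obtain ⟨J, rfl⟩ := (PrimeSpectrum.isClosed_iff_zeroLocus_ideal C).1 hC
  obtain ⟨p, hp⟩ := hne
  rw [PrimeSpectrum.mem_zeroLocus] at hp
  have hJ : J ≠ ⊤ := by
    intro h
    apply p.2.ne_top
    rw [eq_top_iff, ← h]; exact hp
  obtain ⟨g, hg⟩ := exists_algHom_of_ne_top (k := k) J hJ
  refine ⟨g, ?_⟩
  rw [PrimeSpectrum.mem_zeroLocus]
  intro a ha
  exact hg a ha

end Jac

section Reg

variable {k : Type u} [Field k] {A : Type v} [CommRing A] [HopfAlgebra k A]

lemma orbitHom_counit :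
    GLin.orbitHom k A (Bialgebra.counitAlgHom k A) = AlgHom.id k A := by
  ext a
  change (Algebra.TensorProduct.lid k A) (Algebra.TensorProduct.map (Bialgebra.counitAlgHom k A)
    (AlgHom.id k A) (CoalgebraStruct.comul (R := k) a)) = a
  have h1 : ∀ z : A ⊗[k] A, Algebra.TensorProduct.map (Bialgebra.counitAlgHom k A)
      (AlgHom.id k A) z = (Coalgebra.counit (R := k) (A := A)).rTensor A z := by
    intro z
    induction z using TensorProduct.induction_on with
    | zero => simp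
    | tmul r a => simp
    | add z₁ z₂ h₁ h₂ => simp only [map_add, h₁, h₂]
  rw [h1, Coalgebra.rTensor_counit_comul]
  simp

lemma actPt_counit (g : A →ₐ[k] k) :
    GLin.actPt k g (Bialgebra.counitAlgHom k A) = g := by
  rw [GLin.actPt, orbitHom_counit]
  rfl

lemma comp_tr_regular (h g : A →ₐ[k] k) :
    h.comp (tr (R := A) g) = (toConv h * toConv g).ofConv := by
  rw [comp_tr]
  conv_lhs => rw [← actPt_counit h]
  rw [← actPt_mul, actPt_counit]

end Reg

section Main

variable {k : Type u} [Field k] [IsAlgClosed k] {A : Type u} [CommRing A] [HopfAlgebra k A]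
  [Algebra.FiniteType k A]
  {R : Type u} [CommRing R] [Algebra k R] [Algebra.FiniteType k R] [HopfRep.Comod k A R]
  [GLin.IsCoactAlg k A R]

/-- translation on the spectrum -/
noncomputable def tS (g : A →ₐ[k] k) : PrimeSpectrum R → PrimeSpectrum R :=
  PrimeSpectrum.comap (tr (R := R) g).toRingHom

lemma continuous_tS (g : A →ₐ[k] k) : Continuous (tS (R := R) g) :=
  PrimeSpectrum.continuous_comap _

lemma mem_tS (g : A →ₐ[k] k) (P : PrimeSpectrum R) (f : R) :
    f ∈ (tS g P).asIdeal ↔ tr g f ∈ P.asIdeal := Iff.rfl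

lemma tS_inv_tS (g : A →ₐ[k] k) (P : PrimeSpectrum R) :
    tS ((toConv g)⁻¹).ofConv (tS g P) = P := by
  apply PrimeSpectrum.ext
  ext f
  rw [mem_tS, mem_tS]
  have := tr_comp_inv (R := R) (toConv g)
  have h2 : tr g (tr ((toConv g)⁻¹).ofConv f) = f := by
    have := AlgHom.congr_fun this f
    simpa using this
  rw [h2]

lemma tS_tS_inv (g : A →ₐ[k] k) (P : PrimeSpectrum R) :
    tS g (tS ((toConv g)⁻¹).ofConv P) = P := by
  apply PrimeSpectrum.ext
  ext f
  rw [mem_tS, mem_tS]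
  have := tr_inv_comp (R := R) (toConv g)
  have h2 : tr ((toConv g)⁻¹).ofConv (tr g f) = f := by
    have := AlgHom.congr_fun this f
    simpa using this
  rw [h2]

/-- the orbit map on spectra -/
noncomputable def cO (x : R →ₐ[k] k) : PrimeSpectrum A → PrimeSpectrum R :=
  PrimeSpectrum.comap (GLin.orbitHom k A x).toRingHom

lemma mem_cO (x : R →ₐ[k] k) (p : PrimeSpectrum A) (f : R) :
    f ∈ (cO x p).asIdeal ↔ GLin.orbitHom k A x f ∈ p.asIdeal := Iff.rfl

lemma tS_cO (x : R →ₐ[k] k) (g : A →ₐ[k] k) (p : PrimeSpectrum A) :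
    tS g (cO x p) = cO x (tS g p) := by
  apply PrimeSpectrum.ext
  ext f
  rw [mem_tS, mem_cO, mem_cO, mem_tS, orbitHom_tr]

lemma tS_mem_range (x : R →ₐ[k] k) (g : A →ₐ[k] k) {P : PrimeSpectrum R}
    (hP : P ∈ Set.range (cO (A := A) x)) : tS g P ∈ Set.range (cO (A := A) x) := by
  obtain ⟨p, rfl⟩ := hP
  exact ⟨tS g p, (tS_cO x g p).symm⟩

lemma mem_range_of_tS_mem (x : R →ₐ[k] k) (g : A →ₐ[k] k) {P : PrimeSpectrum R}
    (hP : tS g P ∈ Set.range (cO (A := A) x)) : P ∈ Set.range (cO (A := A) x) := by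
  have := tS_mem_range x ((toConv g)⁻¹).ofConv hP
  rwa [tS_inv_tS] at this

lemma closure_range_cO (x : R →ₐ[k] k) :
    closure (Set.range (cO (A := A) x)) =
      PrimeSpectrum.zeroLocus (RingHom.ker (GLin.orbitHom k A x).toRingHom : Set R) :=
  PrimeSpectrum.closure_range_comap _

lemma tS_mem_closure (x : R →ₐ[k] k) (g : A →ₐ[k] k) {P : PrimeSpectrum R}
    (hP : P ∈ closure (Set.range (cO (A := A) x))) :
    tS g P ∈ closure (Set.range (cO (A := A) x)) := by
  rw [closure_range_cO, PrimeSpectrum.mem_zeroLocus] at hP ⊢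
  intro f hf
  rw [SetLike.mem_coe, mem_tS]
  apply hP
  rw [SetLike.mem_coe, RingHom.mem_ker] at hf ⊢
  change GLin.orbitHom k A x (tr g f) = 0
  rw [orbitHom_tr]
  have : GLin.orbitHom k A x f = 0 := hf
  rw [this, map_zero]

lemma tS_pt (g h : A →ₐ[k] k) :
    tS g (pt h) = pt (toConv h * toConv g).ofConv := by
  apply PrimeSpectrum.ext
  ext a
  rw [mem_tS]
  change h (tr g a) = 0 ↔ (toConv h * toConv g).ofConv a = 0
  rw [← comp_tr_regular]
  rfl

lemma cO_pt (x : R →ₐ[k] k) (h : A →ₐ[k] k) : cO x (pt h) = pt (GLin.actPt k h x) := by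
  apply PrimeSpectrum.ext
  ext f
  rfl

/-- every point of `G` can be moved into a given nonempty open subset by a rational point. -/
lemma exists_tS_mem (V₀ : Set (PrimeSpectrum A)) (hV₀ : IsOpen V₀) (hne : V₀.Nonempty)
    (p : PrimeSpectrum A) : ∃ g : A →ₐ[k] k, tS g p ∈ V₀ := by
  obtain ⟨h₀, hh₀⟩ := exists_pt_mem_of_isOpen (k := k) V₀ hV₀ hne
  by_contra hcon
  push Not at hcon
  let C : Set (PrimeSpectrum A) := ⋂ g : A →ₐ[k] k, (tS g) ⁻¹' V₀ᶜ
  have hC : IsClosed C :=
    isClosed_iInter (fun g => hV₀.isClosed_compl.preimage (continuous_tS g))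
  have hpC : p ∈ C := by
    simp only [C, Set.mem_iInter, Set.mem_preimage, Set.mem_compl_iff]
    exact hcon
  obtain ⟨h, hh⟩ := exists_pt_mem_of_isClosed (k := k) C hC ⟨p, hpC⟩
  simp only [C, Set.mem_iInter, Set.mem_preimage, Set.mem_compl_iff] at hh
  apply hh ((toConv h)⁻¹ * toConv h₀).ofConv
  rw [tS_pt, toConv_ofConv, mul_inv_cancel_left]
  exact hh₀

/-- the orbit is open in its closure. -/
theorem exists_open_range_cO (x : R →ₐ[k] k) :
    ∃ W' : Set (PrimeSpectrum R), IsOpen W' ∧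
      Set.range (cO (A := A) x) = closure (Set.range (cO (A := A) x)) ∩ W' := by
  haveI : IsNoetherianRing R := Algebra.FiniteType.isNoetherianRing k R
  have hft : (GLin.orbitHom k A x).toRingHom.FiniteType := by
    apply RingHom.FiniteType.of_comp_finiteType (f := algebraMap k R)
    have : (GLin.orbitHom k A x).toRingHom.comp (algebraMap k R) = algebraMap k A :=
      (GLin.orbitHom k A x).comp_algebraMap
    rw [this]
    exact RingHom.finiteType_algebraMap.2 inferInstance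
  have hfp : (GLin.orbitHom k A x).toRingHom.FinitePresentation :=
    RingHom.FinitePresentation.of_finiteType.1 hft
  have hcons : IsConstructible (Set.range (cO (A := A) x)) :=
    PrimeSpectrum.isConstructible_range_comap hfp
  have hne : (Set.range (cO (A := A) x)).Nonempty :=
    ⟨_, ⟨pt (Bialgebra.counitAlgHom k A), rfl⟩⟩
  obtain ⟨W, hW, ⟨P₀, hP₀W, hP₀Z⟩, hWT⟩ :=
    ORB.exists_open_of_finLC (ORB.finLC_of_isConstructible hcons) hne
  obtain ⟨p₀, hp₀⟩ := hWT ⟨hP₀W, hP₀Z⟩
  let V₀ : Set (PrimeSpectrum A) := (cO x) ⁻¹' W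
  have hV₀ : IsOpen V₀ :=
    hW.preimage (PrimeSpectrum.continuous_comap (GLin.orbitHom k A x).toRingHom)
  have hV₀ne : V₀.Nonempty := ⟨p₀, by change cO x p₀ ∈ W; rw [hp₀]; exact hP₀W⟩
  refine ⟨⋃ g : A →ₐ[k] k, (tS g) ⁻¹' W, isOpen_iUnion (fun g => hW.preimage (continuous_tS g)),
    ?_⟩
  apply Set.Subset.antisymm
  · rintro _ ⟨p, rfl⟩
    refine ⟨subset_closure ⟨p, rfl⟩, ?_⟩
    obtain ⟨g, hg⟩ := exists_tS_mem (k := k) V₀ hV₀ hV₀ne p
    rw [Set.mem_iUnion]
    refine ⟨g, ?_⟩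
    change tS g (cO x p) ∈ W
    rw [tS_cO]
    exact hg
  · rintro P ⟨hPZ, hPW⟩
    rw [Set.mem_iUnion] at hPW
    obtain ⟨g, hg⟩ := hPW
    exact mem_range_of_tS_mem x g (hWT ⟨hg, tS_mem_closure x g hPZ⟩)

end Main

end Groth.Agent.H9.CLO
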