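import Mathlib
import Groth.Agent.Lib.Helper9.Misc.CLO2

/-!
# Closed orbits of rational points (ring level): existence in every orbit closure, and the unique
closed orbit in a fibre of the quotient by a linearly reductive group (helper9)
-/

set_option autoImplicit false
set_option linter.style.haveILetI false
set_option linter.unusedSectionVars false
set_option linter.unusedVariables false

universe u

open TensorProduct WithConv Topology

namespace Groth.Agent.H9.CLO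

open Groth.Agent.H9 Groth.Agent.H9.Comod Groth.Agent.H9.GIT Groth.Agent.H9.CocommDiag

section

variable {k : Type u} [Field k] [IsAlgClosed k] {A : Type u} [CommRing A] [HopfAlgebra k A]
  [Algebra.FiniteType k A]
  {R : Type u} [CommRing R] [Algebra k R] [Algebra.FiniteType k R] [HopfRep.Comod k A R]
  [GLin.IsCoactAlg k A R]

lemma actPt_apply (g : A →ₐ[k] k) (y : R →ₐ[k] k) (f : R) :
    GLin.actPt k g y f = y (HopfRep.Comod.act k A R g f) := (apply_act y g f).symm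

/-- the ideal of the closure of the orbit of `y` (rational points version). -/
def Ik (y : R →ₐ[k] k) : Ideal R :=
  ⨅ g : A →ₐ[k] k, RingHom.ker (GLin.actPt k g y : R →+* k)

lemma mem_Ik {y : R →ₐ[k] k} {f : R} :
    f ∈ Ik (A := A) y ↔ ∀ g : A →ₐ[k] k, GLin.actPt k g y f = 0 := by
  unfold Ik
  rw [Ideal.mem_iInf]
  rfl

lemma mem_Ik_raw {y : R →ₐ[k] k} {f : R} :
    f ∈ Ik (A := A) y ↔ ∀ g : A →ₐ[k] k, y (HopfRep.Comod.act k A R g f) = 0 := by
  rw [mem_Ik]
  constructor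
  · intro h g; rw [← actPt_apply]; exact h g
  · intro h g; rw [actPt_apply]; exact h g

/-- the orbit of `y` is closed (rational points formulation). -/
def ClosedPt (y : R →ₐ[k] k) : Prop :=
  ∀ z : R →ₐ[k] k, Ik (A := A) y ≤ RingHom.ker (z : R →+* k) →
    ∃ g : A →ₐ[k] k, z = GLin.actPt k g y

lemma Ik_le_ker (y : R →ₐ[k] k) : Ik (A := A) y ≤ RingHom.ker (y : R →+* k) := by
  intro f hf
  rw [mem_Ik] at hf
  have := hf (1 : WithConv (A →ₐ[k] k)).ofConv
  rw [actPt_one] at this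
  exact this

lemma Ik_ne_top (y : R →ₐ[k] k) : Ik (A := A) y ≠ ⊤ :=
  ne_top_of_le_ne_top (RingHom.ker_ne_top _) (Ik_le_ker y)

lemma actPt_actPt (g h : A →ₐ[k] k) (y : R →ₐ[k] k) :
    GLin.actPt k h (GLin.actPt k g y) = GLin.actPt k (toConv g * toConv h).ofConv y :=
  (actPt_mul g h y).symm

lemma tr_mem_Ik {y : R →ₐ[k] k} {f : R} (g : A →ₐ[k] k) (hf : f ∈ Ik (A := A) y) :
    tr g f ∈ Ik (A := A) y := by
  rw [mem_Ik] at hf ⊢
  intro g'
  have h1 : GLin.actPt k g' y (tr g f) = ((GLin.actPt k g' y).comp (tr g)) f := rfl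
  rw [h1, comp_tr, actPt_actPt]
  exact hf _

lemma apply_tr (w : R →ₐ[k] k) (g : A →ₐ[k] k) (f : R) : w (tr g f) = GLin.actPt k g w f := by
  rw [← comp_tr]; rfl

lemma ker_orbitHom_le_Ik (y : R →ₐ[k] k) :
    RingHom.ker (GLin.orbitHom k A y).toRingHom ≤ Ik (A := A) y := by
  intro f hf
  rw [mem_Ik]
  intro g
  have h0 : GLin.orbitHom k A y f = 0 := hf
  show g (GLin.orbitHom k A y f) = 0
  rw [h0, map_zero]

lemma mem_range_cO_iff (y z : R →ₐ[k] k) :
    pt z ∈ Set.range (cO (A := A) y) ↔ ∃ g : A →ₐ[k] k, z = GLin.actPt k g y := by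
  constructor
  · rintro ⟨q, hq⟩
    obtain ⟨M, hM, hqM⟩ := Ideal.exists_le_maximal q.asIdeal q.2.ne_top
    obtain ⟨g, hg⟩ := exists_algHom_ker_eq (k := k) M hM
    refine ⟨g, algHom_eq_of_ker_le ?_⟩
    intro f hf
    have h1 : f ∈ (cO (A := A) y q).asIdeal := by
      rw [hq]; exact hf
    have h2 : GLin.orbitHom k A y f ∈ M := hqM h1
    rw [← hg] at h2
    exact h2
  · rintro ⟨g, rfl⟩
    exact ⟨pt g, cO_pt y g⟩

lemma pt_mem_closure (y z : R →ₐ[k] k) (h : Ik (A := A) y ≤ RingHom.ker (z : R →+* k)) :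
    pt z ∈ closure (Set.range (cO (A := A) y)) := by
  rw [closure_range_cO, PrimeSpectrum.mem_zeroLocus]
  intro f hf
  exact h (ker_orbitHom_le_Ik y hf)

/-- **every orbit closure contains a closed orbit** (rational points). -/
theorem exists_closedPt (x : R →ₐ[k] k) :
    ∃ y : R →ₐ[k] k, ClosedPt (A := A) y ∧ Ik (A := A) x ≤ RingHom.ker (y : R →+* k) := by
  haveI : IsNoetherianRing R := Algebra.FiniteType.isNoetherianRing k R
  let 𝒮 : Set (Ideal R) := {I | I ≠ ⊤ ∧ Ik (A := A) x ≤ I ∧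
    ∀ (g : A →ₐ[k] k) (f : R), f ∈ I → tr g f ∈ I}
  have hne : 𝒮.Nonempty := ⟨Ik (A := A) x, Ik_ne_top x, le_rfl, fun g f hf => tr_mem_Ik g hf⟩
  obtain ⟨I, hI, hmax⟩ :=
    (wellFounded_gt : WellFounded ((· > ·) : Ideal R → Ideal R → Prop)).has_min 𝒮 hne
  obtain ⟨y, hy⟩ := exists_algHom_of_ne_top (k := k) I hI.1
  have hIy : I ≤ Ik (A := A) y := by
    intro f hf
    rw [mem_Ik]
    intro g
    rw [← apply_tr]
    exact hy _ (hI.2.2 g f hf)
  have hIky : Ik (A := A) y ∈ 𝒮 :=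
    ⟨Ik_ne_top y, hI.2.1.trans hIy, fun g f hf => tr_mem_Ik g hf⟩
  have hEq : Ik (A := A) y = I := by
    by_contra hne'
    exact hmax _ hIky (lt_of_le_of_ne hIy (Ne.symm hne'))
  refine ⟨y, ?_, hI.2.1.trans (hIy.trans (Ik_le_ker y))⟩
  intro z hz
  by_contra hzn
  obtain ⟨W', hW', hrange⟩ := exists_open_range_cO (A := A) y
  obtain ⟨s, hs⟩ := (PrimeSpectrum.isClosed_iff_zeroLocus _).mp hW'.isClosed_compl
  have hyr : pt y ∈ Set.range (cO (A := A) y) :=
    (mem_range_cO_iff y y).mpr ⟨(1 : WithConv (A →ₐ[k] k)).ofConv, (actPt_one y).symm⟩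
  have hyW : pt y ∈ W' := by
    rw [hrange] at hyr
    exact hyr.2
  have hyn : pt y ∉ PrimeSpectrum.zeroLocus s := by
    rw [← hs]
    exact fun h => h hyW
  rw [PrimeSpectrum.mem_zeroLocus, Set.not_subset] at hyn
  obtain ⟨f, hfs, hfy⟩ := hyn
  let T : Set (R →ₐ[k] k) := {w | Ik (A := A) y ≤ RingHom.ker (w : R →+* k) ∧
    ¬ ∃ g : A →ₐ[k] k, w = GLin.actPt k g y}
  let J : Ideal R := ⨅ w : T, RingHom.ker ((w : R →ₐ[k] k) : R →+* k)
  have hJz : J ≤ RingHom.ker (z : R →+* k) := iInf_le_of_le ⟨z, hz, hzn⟩ le_rfl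
  have hIJ : I ≤ J := by
    rw [← hEq]
    exact le_iInf fun w => w.2.1
  have hJS : J ∈ 𝒮 := by
    refine ⟨ne_top_of_le_ne_top (RingHom.ker_ne_top _) hJz, hI.2.1.trans hIJ, ?_⟩
    intro g f hf
    rw [Ideal.mem_iInf] at hf ⊢
    intro w
    have hw' : GLin.actPt k g w.1 ∈ T := by
      refine ⟨?_, ?_⟩
      · intro f' hf'
        show GLin.actPt k g w.1 f' = 0
        rw [← apply_tr]
        exact w.2.1 (tr_mem_Ik g hf')
      · rintro ⟨h, hh⟩
        exact w.2.2 (exists_actPt_eq_of_actPt_eq h g y w.1 hh.symm)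
    have h1 := hf ⟨_, hw'⟩
    show w.1 (tr g f) = 0
    rw [apply_tr]
    exact h1
  have hJI : J = I := by
    by_contra h
    exact hmax _ hJS (lt_of_le_of_ne hIJ (Ne.symm h))
  have hfJ : f ∈ J := by
    rw [Ideal.mem_iInf]
    intro w
    have h1 : pt w.1 ∈ closure (Set.range (cO (A := A) y)) := pt_mem_closure y w.1 w.2.1
    have h2 : pt w.1 ∉ Set.range (cO (A := A) y) :=
      fun h => w.2.2 ((mem_range_cO_iff y w.1).mp h)
    have h3 : pt w.1 ∉ W' := fun h => h2 (by rw [hrange]; exact ⟨h1, h⟩)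
    have h4 : pt w.1 ∈ PrimeSpectrum.zeroLocus s := by
      rw [← hs]; exact h3
    exact h4 hfs
  rw [hJI, ← hEq] at hfJ
  exact hfy (Ik_le_ker y hfJ)

/-- invariants are constant on orbit closures. -/
lemma apply_eq_of_Ik_le {x y : R →ₐ[k] k} (h : Ik (A := A) x ≤ RingHom.ker (y : R →+* k))
    {f : R} (hf : f ∈ HopfRep.fixedPts k A R) : y f = x f := by
  have h1 : f - algebraMap k R (x f) ∈ Ik (A := A) x := by
    rw [mem_Ik_raw]
    intro g
    rw [map_sub, act_of_mem_fixedPts g hf]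
    have : HopfRep.Comod.act k A R g (algebraMap k R (x f)) = algebraMap k R (x f) := by
      rw [← tr_apply, AlgHom.commutes]
    rw [this, map_sub, AlgHom.commutes, Algebra.algebraMap_self_apply, sub_self]
  have h2 : y (f - algebraMap k R (x f)) = 0 := h h1
  rw [map_sub, AlgHom.commutes, Algebra.algebraMap_self_apply, sub_eq_zero] at h2
  exact h2

/-- **S11805**: the unique closed orbit in a fibre of the quotient. -/
theorem exists_unique_closed_orbit (hss : HopfRep.IsSemisimpleComod k A R) (x : R →ₐ[k] k) :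
    ∃ y : R →ₐ[k] k,
      (∀ z : R →ₐ[k] k, (∀ f : R, (∀ g : A →ₐ[k] k, y (HopfRep.Comod.act k A R g f) = 0) → z f = 0) →
          ∃ g : A →ₐ[k] k, ∀ f : R, z f = y (HopfRep.Comod.act k A R g f)) ∧
      (∀ x' : R →ₐ[k] k, (∀ f ∈ HopfRep.fixedPts k A R, x' f = x f) →
          ∀ f : R, (∀ g : A →ₐ[k] k, x' (HopfRep.Comod.act k A R g f) = 0) → y f = 0) ∧
      (∀ y' : R →ₐ[k] k, (∀ f ∈ HopfRep.fixedPts k A R, y' f = x f) →
          (∀ z : R →ₐ[k] k, (∀ f : R, (∀ g : A →ₐ[k] k, y' (HopfRep.Comod.act k A R g f) = 0) → z f = 0) →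
          ∃ g : A →ₐ[k] k, ∀ f : R, z f = y' (HopfRep.Comod.act k A R g f)) →
            ∃ g : A →ₐ[k] k, ∀ f : R, y' f = y (HopfRep.Comod.act k A R g f)) := by
  obtain ⟨y, hyc, hxy⟩ := exists_closedPt (A := A) x
  have hyx : ∀ f ∈ HopfRep.fixedPts k A R, y f = x f := fun f hf => apply_eq_of_Ik_le hxy hf
  -- raw closedness of `y`
  have hraw : ∀ z : R →ₐ[k] k,
      (∀ f : R, (∀ g : A →ₐ[k] k, y (HopfRep.Comod.act k A R g f) = 0) → z f = 0) →
        ∃ g : A →ₐ[k] k, z = GLin.actPt k g y := by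
    intro z hz
    apply hyc z
    intro f hf
    exact hz f (mem_Ik_raw.mp hf)
  refine ⟨y, ?_, ?_, ?_⟩
  · intro z hz
    obtain ⟨g, rfl⟩ := hraw z hz
    exact ⟨g, fun f => actPt_apply g y f⟩
  · intro x' hx' f hf
    have hinv : ∀ f ∈ HopfRep.fixedPts k A R, x' f = y f := fun f hf => by
      rw [hx' f hf, hyx f hf]
    obtain ⟨z, hz1, hz2⟩ := (inv_eq_iff_closures_meet hss x' y).mp hinv
    obtain ⟨g, rfl⟩ := hraw z hz2
    have hy' : GLin.actPt k ((toConv g)⁻¹).ofConv (GLin.actPt k g y) = y := by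
      rw [actPt_actPt, toConv_ofConv, mul_inv_cancel, actPt_one]
    rw [← hy', ← apply_tr]
    apply hz1
    exact mem_Ik_raw.mp (tr_mem_Ik _ (mem_Ik_raw.mpr hf))
  · intro y' hy' hy'c
    have hinv : ∀ f ∈ HopfRep.fixedPts k A R, y' f = y f := fun f hf => by
      rw [hy' f hf, hyx f hf]
    obtain ⟨z, hz1, hz2⟩ := (inv_eq_iff_closures_meet hss y' y).mp hinv
    obtain ⟨g, hg⟩ := hraw z hz2
    obtain ⟨g', hg'⟩ := hy'c z hz1
    have hg'' : z = GLin.actPt k g' y' := by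
      ext f
      rw [hg' f, actPt_apply]
    obtain ⟨g'', h''⟩ := exists_actPt_eq_of_actPt_eq g g' y y' (hg.symm.trans hg'')
    exact ⟨g'', fun f => by rw [h'', actPt_apply]⟩

end

end Groth.Agent.H9.CLO
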