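import Mathlib
import Groth.Agent.Lib.Helper1.ClosureDim

set_option autoImplicit false
set_option linter.style.haveILetI false
set_option linter.unusedSectionVars false
set_option linter.unusedVariables false

universe u

open CategoryTheory AlgebraicGeometry TopologicalSpace Topology

namespace Groth.Agent.H9.DGP

open Groth.Agent.H1.DimFormula

theorem dim_closure_generic {T : Type*} [TopologicalSpace T] [IrreducibleSpace T]
    [QuasiSober T] :
    topologicalKrullDim T ≤ topologicalKrullDim ↥(closure ({genericPoint T} : Set T)) := by
  have h : closure ({genericPoint T} : Set T) = Set.univ :=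
    genericPoint_spec T
  have hmem : ∀ x : T, x ∈ closure ({genericPoint T} : Set T) := fun x => by
    rw [h]; trivial
  have hind : IsInducing (fun x : T => (⟨x, hmem x⟩ : ↥(closure ({genericPoint T} : Set T)))) := by
    have : IsInducing ((Subtype.val : ↥(closure ({genericPoint T} : Set T)) → T) ∘
        (fun x : T => (⟨x, hmem x⟩ : ↥(closure ({genericPoint T} : Set T))))) := by
      have : ((Subtype.val : ↥(closure ({genericPoint T} : Set T)) → T) ∘
        (fun x : T => (⟨x, hmem x⟩ : ↥(closure ({genericPoint T} : Set T))))) = id := rfl
      rw [this]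
      exact IsInducing.id
    exact IsInducing.of_comp (by fun_prop) continuous_subtype_val this
  exact hind.topologicalKrullDim_le

theorem main (k : Type u) [Field k] {X Y : Scheme.{u}}
    (p : X ⟶ Spec (CommRingCat.of k)) (q : Y ⟶ Spec (CommRingCat.of k))
    [LocallyOfFiniteType p] [LocallyOfFiniteType q]
    [IrreducibleSpace ↥X] (f : Y ⟶ X) (hf : f ≫ p = q)
    (hη : genericPoint ↥X ∈ Set.range f.base) :
    topologicalKrullDim ↥X ≤ topologicalKrullDim ↥Y := by
  obtain ⟨y, hy⟩ := hη
  obtain ⟨t, ht1, ht2⟩ := Groth.Agent.H1.ClosureDim.exists_trdeg_eq_dim_closure p (f y)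
  obtain ⟨s, hs1, hs2⟩ := Groth.Agent.H1.ClosureDim.exists_trdeg_eq_dim_closure q y
  have hcomp : toResidueField p (f y) ≫ f.residueFieldMap y = toResidueField q y := by
    apply Spec.map_injective
    rw [Spec.map_comp, SpecMap_toResidueField, SpecMap_toResidueField,
      ← Category.assoc, Scheme.Hom.SpecMap_residueFieldMap_fromSpecResidueField,
      Category.assoc, hf]
  have hts : t ≤ s := by
    letI a1 : Algebra k (X.residueField (f y)) := (toResidueField p (f y)).hom.toAlgebra
    letI a2 : Algebra k (Y.residueField y) := (toResidueField q y).hom.toAlgebra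
    let g : X.residueField (f y) →ₐ[k] Y.residueField y :=
      { (f.residueFieldMap y).hom with
        commutes' := by
          intro c
          change (f.residueFieldMap y).hom ((toResidueField p (f y)).hom c) =
            (toResidueField q y).hom c
          rw [← hcomp]
          rfl }
    have hg : Function.Injective g := (f.residueFieldMap y).hom.injective
    have := _root_.trdeg_le_of_injective g hg
    rw [ht1, hs1] at this
    exact_mod_cast this
  calc topologicalKrullDim ↥X ≤ topologicalKrullDim ↥(closure ({genericPoint ↥X} : Set X)) :=
        dim_closure_generic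
    _ = (t : WithBot ℕ∞) := by
        have hy' : f y = genericPoint ↥X := hy
        rw [← hy']; exact ht2
    _ ≤ (s : WithBot ℕ∞) := by exact_mod_cast hts
    _ = topologicalKrullDim ↥(closure ({y} : Set Y)) := hs2.symm
    _ ≤ topologicalKrullDim ↥Y := IsInducing.subtypeVal.topologicalKrullDim_le

end Groth.Agent.H9.DGP
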