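import Mathlib
import Groth.Agent.Lib.Helper9.Misc.CLO4
import Groth.Agent.Lib.Helper9.Misc.ORB3
import Groth.Agent.Lib.Helper9.Misc.DGP1
import Groth.Agent.H4.Dim2

/-!
# Dimension of orbits (ring level): image dimension, finite fibres, boundary (helper9)
-/

set_option autoImplicit false
set_option linter.style.haveILetI false
set_option linter.unusedSectionVars false
set_option linter.unusedVariables false

universe u

open CategoryTheory AlgebraicGeometry TopologicalSpace Topology

namespace Groth.Agent.H9.CLO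

open Groth.Agent.H9 Groth.Agent.H9.GIT Groth.Agent.H1.DimFormula

section Dim

variable {k : Type u} [Field k]

/-- the closure of the image of a point has dimension at most that of the closure of the point
(schemes locally of finite type over a field). -/
theorem dim_closure_map_le {X Y : Scheme.{u}}
    (p : X ⟶ Spec (CommRingCat.of k)) (q : Y ⟶ Spec (CommRingCat.of k))
    [LocallyOfFiniteType p] [LocallyOfFiniteType q] (f : Y ⟶ X) (hf : f ≫ p = q) (y : Y) :
    topologicalKrullDim ↥(closure ({f y} : Set X)) ≤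
      topologicalKrullDim ↥(closure ({y} : Set Y)) := by
  obtain ⟨t, ht1, ht2⟩ := Groth.Agent.H1.ClosureDim.exists_trdeg_eq_dim_closure p (f y)
  obtain ⟨s, hs1, hs2⟩ := Groth.Agent.H1.ClosureDim.exists_trdeg_eq_dim_closure q y
  have hcomp : toResidueField p (f y) ≫ f.residueFieldMap y = toResidueField q y := by
    apply Spec.map_injective
    rw [Spec.map_comp, SpecMap_toResidueField, SpecMap_toResidueField,
      ← Category.assoc, Scheme.Hom.SpecMap_residueFieldMap_fromSpecResidueField,
      Category.assoc, hf]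
  have hts : t ≤ s := by
    letI a1 : Algebra k (X.residueField (f y)) := (toResidueField p (f y)).hom.toAlgebra
    letI a2 : Algebra k (Y.residueField y) := (toResidueField q y).hom.toAlgebra
    let g : X.residueField (f y) →ₐ[k] Y.residueField y :=
      { (f.residueFieldMap y).hom with
        commutes' := by
          intro c
          change (f.residueFieldMap y).hom ((toResidueField p (f y)).hom c) =
            (toResidueField q y).hom c
          rw [← hcomp]
          rfl }
    have hg : Function.Injective g := (f.residueFieldMap y).hom.injective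
    have := _root_.trdeg_le_of_injective g hg
    rw [ht1, hs1] at this
    exact_mod_cast this
  rw [ht2, hs2]
  exact_mod_cast hts

variable {A R : Type u} [CommRing A] [CommRing R] [Algebra k A] [Algebra k R]
  [Algebra.FiniteType k A] [Algebra.FiniteType k R]

theorem lft_spec (B : Type u) [CommRing B] [Algebra k B] [Algebra.FiniteType k B] :
    LocallyOfFiniteType (Spec.map (CommRingCat.ofHom (algebraMap k B))) := by
  rw [HasRingHomProperty.Spec_iff (P := @LocallyOfFiniteType)]
  exact RingHom.finiteType_algebraMap.2 inferInstance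

/-- the boundary of a nonempty locally closed subset of the spectrum of a finitely generated
algebra over a field has smaller dimension. -/
theorem dim_boundary_lt_spec (k : Type u) [Field k] {R : Type u} [CommRing R] [Algebra k R]
    [Algebra.FiniteType k R] (O : Set (PrimeSpectrum R)) (hO : IsLocallyClosed O)
    (hne : O.Nonempty) :
    topologicalKrullDim ↥(closure O \ O) < topologicalKrullDim ↥O := by
  haveI := lft_spec (k := k) R
  exact Groth.Agent.H9.ORB3.dim_boundary_lt
    (Spec.map (CommRingCat.ofHom (algebraMap k R))) O hO hne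

/-- the image of a morphism of affine schemes of finite type over a field has dimension at most
that of the source. -/
theorem dim_range_le (φ : R →ₐ[k] A) :
    topologicalKrullDim ↥(Set.range (PrimeSpectrum.comap φ.toRingHom)) ≤
      topologicalKrullDim (PrimeSpectrum A) := by
  haveI := lft_spec (k := k) R
  haveI := lft_spec (k := k) A
  have hfg : Spec.map (CommRingCat.ofHom φ.toRingHom) ≫
      Spec.map (CommRingCat.ofHom (algebraMap k R)) =
      Spec.map (CommRingCat.ofHom (algebraMap k A)) := by
    rw [← Spec.map_comp]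
    congr 1
    ext c
    exact φ.commutes c
  have key : ∀ Q : PrimeSpectrum A,
      topologicalKrullDim
        ↥(closure ({PrimeSpectrum.comap φ.toRingHom Q} : Set (PrimeSpectrum R))) ≤
        topologicalKrullDim ↥(closure ({Q} : Set (PrimeSpectrum A))) := fun Q =>
    dim_closure_map_le (Spec.map (CommRingCat.ofHom (algebraMap k R)))
      (Spec.map (CommRingCat.ofHom (algebraMap k A)))
      (Spec.map (CommRingCat.ofHom φ.toRingHom)) hfg Q
  refine (Groth.Agent.H3.TopDim.dim_mono subset_closure).trans ?_
  refine (Groth.Agent.H1.ClosedDim.dim_le_iSup_closure _ isClosed_closure).trans ?_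
  apply iSup_le
  rintro ⟨P, hP⟩
  rw [PrimeSpectrum.closure_range_comap, PrimeSpectrum.mem_zeroLocus] at hP
  have hP' : RingHom.ker φ.toRingHom ≤ P.asIdeal := hP
  obtain ⟨p₀, hp₀, hp₀P⟩ := Ideal.exists_minimalPrimes_le hP'
  rw [RingHom.ker_eq_comap_bot] at hp₀
  obtain ⟨q₀, hq₀, -, hq₀'⟩ := Ideal.exists_comap_eq_of_mem_minimalPrimes φ.toRingHom p₀ hp₀
  have hQ₀ : (PrimeSpectrum.comap φ.toRingHom ⟨q₀, hq₀⟩).asIdeal = p₀ := hq₀'
  have hsub : closure ({P} : Set (PrimeSpectrum R)) ⊆
      closure ({PrimeSpectrum.comap φ.toRingHom ⟨q₀, hq₀⟩} : Set (PrimeSpectrum R)) := by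
    apply closure_minimal _ isClosed_closure
    rw [Set.singleton_subset_iff, PrimeSpectrum.closure_singleton, PrimeSpectrum.mem_zeroLocus,
      hQ₀]
    exact hp₀P
  calc topologicalKrullDim ↥(closure ({P} : Set (PrimeSpectrum R)))
      ≤ topologicalKrullDim
        ↥(closure ({PrimeSpectrum.comap φ.toRingHom ⟨q₀, hq₀⟩} : Set (PrimeSpectrum R))) :=
        Groth.Agent.H3.TopDim.dim_mono hsub
    _ ≤ topologicalKrullDim ↥(closure ({(⟨q₀, hq₀⟩ : PrimeSpectrum A)} : Set (PrimeSpectrum A))) :=
        key ⟨q₀, hq₀⟩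
    _ ≤ topologicalKrullDim (PrimeSpectrum A) := topologicalKrullDim_subspace_le _ _

theorem pt_injective [IsAlgClosed k] : Function.Injective (pt : (A →ₐ[k] k) → PrimeSpectrum A) := by
  intro g g' h
  apply algHom_eq_of_ker_le
  have : (pt g).asIdeal = (pt g').asIdeal := by rw [h]
  exact le_of_eq this

theorem isClosed_pt [IsAlgClosed k] (g : A →ₐ[k] k) : IsClosed ({pt g} : Set (PrimeSpectrum A)) := by
  rw [PrimeSpectrum.isClosed_singleton_iff_isMaximal]
  exact RingHom.ker_isMaximal_of_surjective _
    (fun c => ⟨algebraMap k A c, by simp⟩)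

theorem isClosed_image_pt [IsAlgClosed k] (T : Set (A →ₐ[k] k)) (hT : T.Finite) :
    IsClosed (pt '' T) := by
  have : pt '' T = ⋃ g' ∈ T, ({pt g'} : Set (PrimeSpectrum A)) := by
    ext q
    simp only [Set.mem_image, Set.mem_iUnion, Set.mem_singleton_iff, exists_prop]
    constructor
    · rintro ⟨g', hg', rfl⟩; exact ⟨g', hg', rfl⟩
    · rintro ⟨g', hg', rfl⟩; exact ⟨g', hg', rfl⟩
  rw [this]
  exact hT.isClosed_biUnion (fun g' _ => isClosed_pt g')

/-- a morphism with finite fibres over rational points does not lower the dimension. -/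
theorem dim_le_range_of_finite_fibres [IsAlgClosed k] (φ : R →ₐ[k] A)
    (hfin : ∀ g : A →ₐ[k] k, {g' : A →ₐ[k] k | g'.comp φ = g.comp φ}.Finite) :
    topologicalKrullDim (PrimeSpectrum A) ≤
      topologicalKrullDim ↥(Set.range (PrimeSpectrum.comap φ.toRingHom)) := by
  haveI : IsJacobsonRing A := isJacobsonRing_of_finiteType (A := k)
  set f : Spec (CommRingCat.of A) ⟶ Spec (CommRingCat.of R) :=
    Spec.map (CommRingCat.ofHom φ.toRingHom) with hfdef
  have hfapp : ∀ q : PrimeSpectrum A, f q = PrimeSpectrum.comap φ.toRingHom q := fun q => rfl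
  haveI hlft : LocallyOfFiniteType f := by
    rw [HasRingHomProperty.Spec_iff (P := @LocallyOfFiniteType)]
    show φ.toRingHom.FiniteType
    apply RingHom.FiniteType.of_comp_finiteType (f := algebraMap k R)
    have : φ.toRingHom.comp (algebraMap k R) = algebraMap k A := φ.comp_algebraMap
    rw [this]
    exact RingHom.finiteType_algebraMap.2 inferInstance
  have hfpt : ∀ g : A →ₐ[k] k, f (pt g) = pt (g.comp φ) := fun g => rfl
  have hq : ∀ g : A →ₐ[k] k, f.QuasiFiniteAt (pt g) := by
    intro g
    rw [Scheme.Hom.quasiFiniteAt_iff_isOpen_singleton_asFiber,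
      ← (f.fiberHomeo (f (pt g))).isOpen_image]
    simp only [Set.image_singleton, Scheme.Hom.asFiber, Homeomorph.apply_symm_apply]
    have hSfin : {g' : A →ₐ[k] k | g'.comp φ = g.comp φ}.Finite := hfin g
    have hFc : IsClosed ((f : PrimeSpectrum A → PrimeSpectrum R) ⁻¹' {f (pt g)}) := by
      apply IsClosed.preimage f.continuous
      rw [hfpt]
      exact isClosed_pt _
    have hFS : ∀ q : PrimeSpectrum A, f q = f (pt g) →
        ∃ g' ∈ {g' : A →ₐ[k] k | g'.comp φ = g.comp φ}, q = pt g' := by
      intro q hq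
      by_contra hcon
      push Not at hcon
      have hlc : IsLocallyClosed (((f : PrimeSpectrum A → PrimeSpectrum R) ⁻¹' {f (pt g)}) ∩
          (pt '' {g' : A →ₐ[k] k | g'.comp φ = g.comp φ})ᶜ) :=
        hFc.isLocallyClosed.inter (isClosed_image_pt _ hSfin).isOpen_compl.isLocallyClosed
      obtain ⟨q', ⟨hq'F, hq'n⟩, hq'c⟩ := nonempty_inter_closedPoints
        (⟨q, hq, fun ⟨g', hg', h⟩ => hcon g' hg' h.symm⟩ :
          (((f : PrimeSpectrum A → PrimeSpectrum R) ⁻¹' {f (pt g)}) ∩
          (pt '' {g' : A →ₐ[k] k | g'.comp φ = g.comp φ})ᶜ).Nonempty) hlc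
      have hq'c' : (q' : PrimeSpectrum A).asIdeal.IsMaximal :=
        (PrimeSpectrum.isClosed_singleton_iff_isMaximal (q' : PrimeSpectrum A)).mp hq'c
      obtain ⟨g'', hg''⟩ := exists_algHom_ker_eq (k := k) (q' : PrimeSpectrum A).asIdeal hq'c'
      have hq'pt : q' = pt g'' := PrimeSpectrum.ext hg''.symm
      apply hq'n
      refine ⟨g'', ?_, hq'pt.symm⟩
      have h1 : f (pt g'') = f (pt g) := by rw [← hq'pt]; exact hq'F
      rw [hfpt, hfpt] at h1
      exact pt_injective h1
    have hset : ({⟨pt g, rfl⟩} : Set ↥((f : PrimeSpectrum A → PrimeSpectrum R) ⁻¹' {f (pt g)})) =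
        (Subtype.val ⁻¹' (pt '' ({g' : A →ₐ[k] k | g'.comp φ = g.comp φ} \ {g})))ᶜ := by
      ext ⟨q, hq⟩
      simp only [Set.mem_singleton_iff, Subtype.mk.injEq, Set.mem_compl_iff, Set.mem_preimage]
      constructor
      · rintro rfl ⟨g', ⟨-, hg'⟩, h⟩
        exact hg' (pt_injective h)
      · intro h
        obtain ⟨g', hg', rfl⟩ := hFS q hq
        by_contra hne
        apply h
        refine ⟨g', ⟨hg', ?_⟩, rfl⟩
        intro h'
        apply hne
        rw [Set.mem_singleton_iff.mp h']
    rw [hset]
    exact ((isClosed_image_pt _ (hSfin.subset Set.sdiff_subset)).preimage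
      continuous_subtype_val).isOpen_compl
  have hall : ∀ q : PrimeSpectrum A, f.QuasiFiniteAt q := by
    intro q
    by_contra hqn
    have hC : IsClosed {q : PrimeSpectrum A | ¬ f.QuasiFiniteAt q} :=
      (f.isOpen_quasiFiniteAt).isClosed_compl
    obtain ⟨g, hg⟩ := exists_pt_mem_of_isClosed (k := k) _ hC ⟨q, hqn⟩
    exact hg (hq g)
  haveI hloc : LocallyQuasiFinite f :=
    (Scheme.Hom.quasiFiniteLocus_eq_top_iff f).mp (top_le_iff.mp fun x _ => hall x)
  have hinc := Groth.Agent.H4.SchDim.inc_of_locallyQuasiFinite f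
  exact Groth.Agent.H4.Spec.topologicalKrullDim_le_of_inc (X := PrimeSpectrum A)
    (f := fun q => (⟨PrimeSpectrum.comap φ.toRingHom q, q, rfl⟩ :
      Set.range (PrimeSpectrum.comap φ.toRingHom)))
    ((PrimeSpectrum.continuous_comap _).subtype_mk _)
    (fun q q' hs h => hinc q q' hs (congrArg Subtype.val h))

end Dim

end Groth.Agent.H9.CLO
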