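import Mathlib
import Groth.Prelude.Def_BlowUp2
import Groth.Agent.Lib.Helper9.Misc.BLA6

/-! Helper9: an injective `A → B` with `IB = I = (f)`, `f` a nonzerodivisor, is the blow-up of `I` (S14090). -/

set_option linter.style.haveILetI false
set_option linter.unusedSectionVars false
set_option linter.unusedVariables false

universe u
open CategoryTheory AlgebraicGeometry

namespace Groth.Agent.H9.BLA

section Alg
variable {A B : Type u} [CommRing A] [CommRing B] (φ : A →+* B)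
  (hinj : Function.Injective φ) (I : Ideal A)
  (hIB : (Ideal.map φ I : Set B) ⊆ φ '' (I : Set A))
  (f : B) (hf : f ∈ nonZeroDivisors B) (hgen : Ideal.map φ I = Ideal.span {f})

include hIB hgen in
theorem exists_preimage_mul (b : B) : ∃ x ∈ I, φ x = b * f := by
  have h : b * f ∈ (Ideal.map φ I : Set B) := by
    rw [hgen]
    exact Ideal.mem_span_singleton'.mpr ⟨b, rfl⟩
  obtain ⟨x, hx, hxb⟩ := hIB h
  exact ⟨x, hx, hxb⟩

include hIB hgen in
theorem exists_preimage_gen : ∃ a ∈ I, φ a = f := by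
  obtain ⟨a, ha, h⟩ := exists_preimage_mul φ I hIB f hgen 1
  exact ⟨a, ha, by rw [h, one_mul]⟩

include hinj hIB hgen in
theorem mul_le_span_mul {a : A} (ha : a ∈ I) (hfa : φ a = f) : I * I ≤ Ideal.span {a} * I := by
  rw [Ideal.mul_le]
  intro x hx x' hx'
  have h1 : φ x ∈ Ideal.span {f} := hgen ▸ Ideal.mem_map_of_mem φ hx
  obtain ⟨bx, hbx⟩ := Ideal.mem_span_singleton'.mp h1
  have h2 : bx * φ x' ∈ (Ideal.map φ I : Set B) :=
    Ideal.mul_mem_left _ _ (Ideal.mem_map_of_mem φ hx')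
  obtain ⟨x'', hx'', hxx⟩ := hIB h2
  have : x * x' = a * x'' := by
    apply hinj
    rw [map_mul, map_mul, hfa, hxx, ← hbx]
    ring
  rw [this]
  exact Ideal.mul_mem_mul (Ideal.mem_span_singleton_self a) hx''

variable {C : Type u} [CommRing C] (ψ : A →+* C) (c : C) (hc : c ∈ nonZeroDivisors C)
  (hψ : Ideal.map ψ I = Ideal.span {c})

include hinj hIB hgen hc hψ in
theorem exists_unit_mul {a : A} (ha : a ∈ I) (hfa : φ a = f) : ∃ w : C, IsUnit w ∧ ψ a = c * w := by
  have h1 : ψ a ∈ Ideal.span {c} := hψ ▸ Ideal.mem_map_of_mem ψ ha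
  obtain ⟨w, hw⟩ := Ideal.mem_span_singleton'.mp h1
  have h2 : Ideal.map ψ (I * I) ≤ Ideal.map ψ (Ideal.span {a} * I) :=
    Ideal.map_mono (mul_le_span_mul φ hinj I hIB f hgen ha hfa)
  rw [Ideal.map_mul, Ideal.map_mul, hψ, Ideal.map_span, Set.image_singleton,
    Ideal.span_singleton_mul_span_singleton, Ideal.span_singleton_mul_span_singleton] at h2
  have h3 : c * c ∈ Ideal.span {ψ a * c} := h2 (Ideal.mem_span_singleton_self _)
  obtain ⟨v, hv⟩ := Ideal.mem_span_singleton'.mp h3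
  have h4 : (v * w - 1) * c = 0 := by
    have : (v * w - 1) * c * c = 0 := by
      have e : (v * w - 1) * c * c = v * (w * c * c) - c * c := by ring
      rw [e, hw, hv, sub_self]
    exact (mem_nonZeroDivisors_iff_right.mp hc) _ this
  have h5 : v * w = 1 := sub_eq_zero.mp ((mem_nonZeroDivisors_iff_right.mp hc) _ h4)
  exact ⟨w, IsUnit.of_mul_eq_one v (by rw [mul_comm]; exact h5), by rw [← hw, mul_comm]⟩

include hinj hIB hgen hc hψ in
theorem map_a_mem_nonZeroDivisors {a : A} (ha : a ∈ I) (hfa : φ a = f) :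
    ψ a ∈ nonZeroDivisors C := by
  obtain ⟨w, hw, h⟩ := exists_unit_mul φ hinj I hIB f hgen ψ c hc hψ ha hfa
  rw [h]
  exact mul_mem hc hw.mem_nonZeroDivisors

include hinj hIB hgen hc hψ in
theorem map_eq_span_map_a {a : A} (ha : a ∈ I) (hfa : φ a = f) :
    Ideal.map ψ I = Ideal.span {ψ a} := by
  obtain ⟨w, hw, h⟩ := exists_unit_mul φ hinj I hIB f hgen ψ c hc hψ ha hfa
  rw [hψ, h]
  exact (Ideal.span_singleton_mul_right_unit hw c).symm

include hinj hIB hgen hc hψ in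
/-- uniqueness of extensions to `B`. -/
theorem ext_unique (ψ₁ ψ₂ : B →+* C) (h₁ : ψ₁.comp φ = ψ) (h₂ : ψ₂.comp φ = ψ) : ψ₁ = ψ₂ := by
  obtain ⟨a, ha, hfa⟩ := exists_preimage_gen φ I hIB f hgen
  have hnz := map_a_mem_nonZeroDivisors φ hinj I hIB f hgen ψ c hc hψ ha hfa
  ext b
  obtain ⟨x, hx, hxb⟩ := exists_preimage_mul φ I hIB f hgen b
  have e1 : ψ₁ b * ψ a = ψ x := by
    rw [← h₁]; change ψ₁ b * ψ₁ (φ a) = ψ₁ (φ x); rw [hfa, hxb, map_mul]
  have e2 : ψ₂ b * ψ a = ψ x := by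
    rw [← h₂]; change ψ₂ b * ψ₂ (φ a) = ψ₂ (φ x); rw [hfa, hxb, map_mul]
  exact mul_cancel_right_mem_nonZeroDivisors hnz |>.mp (e1.trans e2.symm)

include hinj hIB hgen hc hψ hf in
/-- existence of extensions to `B`. -/
theorem ext_exists : ∃ L : B →+* C, L.comp φ = ψ := by
  obtain ⟨a, ha, hfa⟩ := exists_preimage_gen φ I hIB f hgen
  have hnz := map_a_mem_nonZeroDivisors φ hinj I hIB f hgen ψ c hc hψ ha hfa
  have hspan := map_eq_span_map_a φ hinj I hIB f hgen ψ c hc hψ ha hfa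
  have hcancel : ∀ {z z' : C}, z * ψ a = z' * ψ a → z = z' :=
    fun h => (mul_cancel_right_mem_nonZeroDivisors hnz).mp h
  -- the value of the lift
  have key : ∀ b : B, ∃ z : C, ∀ x ∈ I, φ x = b * f → z * ψ a = ψ x := by
    intro b
    obtain ⟨x, hx, hxb⟩ := exists_preimage_mul φ I hIB f hgen b
    have h1 : ψ x ∈ Ideal.span {ψ a} := hspan ▸ Ideal.mem_map_of_mem ψ hx
    obtain ⟨z, hz⟩ := Ideal.mem_span_singleton'.mp h1
    refine ⟨z, fun x' hx' hxb' => ?_⟩
    have : x' = x := hinj (hxb'.trans hxb.symm)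
    rw [this, hz]
  choose Lz hLz using key
  have hLz' : ∀ (b : B) (x : A), x ∈ I → φ x = b * f → Lz b * ψ a = ψ x := hLz
  refine ⟨{ toFun := Lz, map_one' := ?_, map_mul' := ?_, map_zero' := ?_, map_add' := ?_ }, ?_⟩
  · apply hcancel
    rw [hLz' 1 a ha (by rw [hfa, one_mul]), one_mul]
  · intro b b'
    obtain ⟨x, hx, hxb⟩ := exists_preimage_mul φ I hIB f hgen b
    obtain ⟨x', hx', hxb'⟩ := exists_preimage_mul φ I hIB f hgen b'
    obtain ⟨x'', hx'', hxb''⟩ := exists_preimage_mul φ I hIB f hgen (b * b')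
    have hxx : x'' * a = x * x' := by
      apply hinj
      rw [map_mul, map_mul, hxb, hxb', hxb'', hfa]
      ring
    apply hcancel
    apply hcancel
    have e1 : Lz (b * b') * ψ a * ψ a = ψ (x'' * a) := by
      rw [hLz' _ x'' hx'' hxb'', map_mul]
    have e2 : Lz b * Lz b' * ψ a * ψ a = ψ (x * x') := by
      rw [map_mul, ← hLz' _ x hx hxb, ← hLz' _ x' hx' hxb']
      ring
    rw [e1, e2, hxx]
  · apply hcancel
    rw [hLz' 0 0 I.zero_mem (by rw [map_zero, zero_mul]), map_zero, zero_mul]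
  · intro b b'
    obtain ⟨x, hx, hxb⟩ := exists_preimage_mul φ I hIB f hgen b
    obtain ⟨x', hx', hxb'⟩ := exists_preimage_mul φ I hIB f hgen b'
    apply hcancel
    rw [hLz' (b + b') (x + x') (I.add_mem hx hx') (by rw [map_add, hxb, hxb', add_mul]),
      add_mul, hLz' _ x hx hxb, hLz' _ x' hx' hxb', map_add]
  · ext r
    apply hcancel
    change Lz (φ r) * ψ a = ψ r * ψ a
    rw [hLz' (φ r) (r * a) (I.mul_mem_left r ha) (by rw [map_mul, hfa]), map_mul]

end Alg

section Sch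
variable {A : Type u} [CommRing A] (I : Ideal A)

/-- principal with nonzerodivisor generator upstairs ⇒ effective Cartier inverse image on `Spec`. -/
theorem isEffCartier_SpecMap {R : CommRingCat.{u}} (φ : CommRingCat.of A ⟶ R) (r : R)
    (hr : r ∈ nonZeroDivisors R) (h : I.map φ.hom = Ideal.span {r}) :
    BlowUp.IsEffCartierIdeal ((idealSheaf I).comap (Spec.map φ)) := by
  intro x
  refine ⟨⟨⊤, isAffineOpen_top _⟩, trivial, (Scheme.ΓSpecIso R).inv.hom r, ?_, ?_⟩
  · exact (Groth.Agent.H9.MDP.nzd_iff_of_isIso' (Scheme.ΓSpecIso R).inv _).mpr hr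
  · rw [ideal_comap, secMap_SpecMap_top, CommRingCat.hom_comp, ← Ideal.map_map, h,
      Ideal.map_span, Set.image_singleton]

variable {B : Type u} [CommRing B] (φ : A →+* B)
  (hinj : Function.Injective φ)
  (hIB : (Ideal.map φ I : Set B) ⊆ φ '' (I : Set A))
  (f : B) (hf : f ∈ nonZeroDivisors B) (hgen : Ideal.map φ I = Ideal.span {f})

include hinj hIB hf hgen in
theorem isBlowUp_SpecMap_of_principal :
    BlowUp.IsBlowUp (Spec.map (CommRingCat.ofHom φ)) (idealSheaf I) := by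
  refine isBlowUp_of_local _ _ ?_ ?_ ?_
  · exact isEffCartier_SpecMap I (CommRingCat.ofHom φ) f hf hgen
  · intro Y h₁ h₂ hw hE
    refine hom_ext_of_local h₁ h₂ (fun y => ?_)
    obtain ⟨a', ha', U, hyU, -, hG⟩ := exists_genAt I (h₁ ≫ Spec.map (CommRingCat.ofHom φ)) hE y ⊤ trivial
    refine ⟨U, hyU, ?_⟩
    have hU := hG.1
    obtain ⟨ψ₁, hψ₁⟩ := Spec.map_surjective (hU.fromSpec ≫ h₁)
    obtain ⟨ψ₂, hψ₂⟩ := Spec.map_surjective (hU.fromSpec ≫ h₂)
    have key₁ : CommRingCat.ofHom φ ≫ ψ₁ = secMap (h₁ ≫ Spec.map (CommRingCat.ofHom φ)) U := by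
      apply Spec.map_injective
      rw [Spec.map_comp, hψ₁, Category.assoc, fromSpec_comp]
    have key₂ : CommRingCat.ofHom φ ≫ ψ₂ = secMap (h₁ ≫ Spec.map (CommRingCat.ofHom φ)) U := by
      apply Spec.map_injective
      rw [Spec.map_comp, hψ₂, Category.assoc, ← hw, fromSpec_comp]
    have hψ : ψ₁.hom = ψ₂.hom :=
      ext_unique φ hinj I hIB f hgen (secMap (h₁ ≫ Spec.map (CommRingCat.ofHom φ)) U).hom _ hG.2.2
        hG.2.1 ψ₁.hom ψ₂.hom (by rw [← key₁]; rfl) (by rw [← key₂]; rfl)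
    have hψ' : ψ₁ = ψ₂ := CommRingCat.hom_ext hψ
    have : hU.fromSpec ≫ h₁ = hU.fromSpec ≫ h₂ := by rw [← hψ₁, ← hψ₂, hψ']
    rw [← hU.isoSpec_hom_fromSpec, Category.assoc, Category.assoc, this]
  · intro Y g hE y
    obtain ⟨a', ha', U, hyU, -, hG⟩ := exists_genAt I g hE y ⊤ trivial
    have hU := hG.1
    obtain ⟨L, hL⟩ := ext_exists φ hinj I hIB f hf hgen (secMap g U).hom _ hG.2.2 hG.2.1
    refine ⟨U, hU.isoSpec.hom ≫ Spec.map (CommRingCat.ofHom L), hyU, ?_⟩
    have h1 : CommRingCat.ofHom φ ≫ CommRingCat.ofHom L = secMap g U := by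
      apply CommRingCat.hom_ext
      exact hL
    rw [Category.assoc, ← Spec.map_comp, h1, ← fromSpec_comp g hU, hU.isoSpec_hom_fromSpec_assoc]

end Sch

end Groth.Agent.H9.BLA
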