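import Mathlib

/-! Helper9: height-one primes in Noetherian domains (infinitely many below height ≥ 2; G-domain finiteness). -/

namespace Groth.Agent.H9.HeightOne

variable {R : Type*} [CommRing R] [IsDomain R] [IsNoetherianRing R]

/-- A prime of height at least two in a Noetherian domain contains infinitely many
height-one primes. -/
lemma infinite_height_one_le (P : Ideal R) [P.IsPrime] (hP : 2 ≤ P.height) :
    {q : Ideal R | q.IsPrime ∧ q ≤ P ∧ q.height = 1}.Infinite := by
  intro hfin
  classical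
  let S : Finset (Ideal R) := insert ⊥ hfin.toFinset
  have hSprime : ∀ i ∈ S, i.IsPrime := by
    intro i hi
    rcases Finset.mem_insert.1 hi with rfl | hi
    · exact Ideal.isPrime_bot
    · exact (hfin.mem_toFinset.1 hi).1
  have hsub : ¬ ((P : Set R) ⊆ ⋃ i ∈ (↑S : Set (Ideal R)), ((id i : Ideal R) : Set R)) := by
    rw [Ideal.subset_union_prime (f := id) ⊥ ⊥ (fun i hi _ _ => hSprime i hi)]
    rintro ⟨i, hi, hPi⟩
    rcases Finset.mem_insert.1 hi with rfl | hi
    · have h0 : P = ⊥ := le_bot_iff.1 hPi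
      rw [h0, Ideal.height_bot] at hP
      simp at hP
    · have hi' := hfin.mem_toFinset.1 hi
      have h0 : P = i := le_antisymm hPi hi'.2.1
      rw [h0, hi'.2.2] at hP
      norm_num at hP
  obtain ⟨x, hxP, hx⟩ := Set.not_subset.1 hsub
  simp only [Set.mem_iUnion, not_exists, id] at hx
  have hx0 : x ≠ 0 := fun h0 => hx ⊥ (Finset.mem_insert_self _ _) (by simp [h0])
  obtain ⟨q0, hq0, hq0P⟩ := Ideal.exists_minimalPrimes_le (I := Ideal.span {x}) (J := P)
    ((Ideal.span_singleton_le_iff_mem _).2 hxP)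
  have hq0prime : q0.IsPrime := hq0.1.1
  have hle1 : q0.height ≤ 1 :=
    Ideal.height_le_one_of_isPrincipal_of_mem_minimalPrimes _ q0 hq0
  have hxq0 : x ∈ q0 := hq0.1.2 (Ideal.mem_span_singleton_self x)
  have hne : q0 ≠ ⊥ := fun h => hx0 (by rw [h] at hxq0; exact hxq0)
  have h1 : q0.height = 1 := le_antisymm hle1 (by
    rw [Order.one_le_iff_ne_zero]; intro h0; exact hne (Ideal.height_eq_zero_iff_eq_bot.1 h0))
  exact hx q0 (Finset.mem_insert_of_mem (hfin.mem_toFinset.2 ⟨hq0prime, hq0P, h1⟩)) hxq0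

/-- A height-one prime containing a nonzero `f` is minimal over `(f)`. -/
lemma mem_minimalPrimes_of_height_one {f : R} (hf : f ≠ 0) (q : Ideal R) [q.IsPrime]
    (hq : q.height = 1) (hfq : f ∈ q) : q ∈ (Ideal.span {f}).minimalPrimes := by
  have hle : Ideal.span {f} ≤ q := (Ideal.span_singleton_le_iff_mem _).2 hfq
  obtain ⟨p, hp, hpq⟩ := Ideal.exists_minimalPrimes_le hle
  have hpprime : p.IsPrime := hp.1.1
  have hpne : p ≠ ⊥ := by
    intro h
    have : f ∈ p := hp.1.2 (Ideal.mem_span_singleton_self f)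
    rw [h] at this
    exact hf this
  have : p = q := by
    by_contra hne
    have hlt : p < q := lt_of_le_of_ne hpq hne
    have h1 := Ideal.height_add_one_le_of_lt_of_isPrime hlt
    rw [hq] at h1
    have h0 : p.height = 0 := by
      by_contra hne0
      have h2 : 1 ≤ p.height := Order.one_le_iff_ne_zero.2 hne0
      have h3 : (1 : ℕ∞) + 1 ≤ p.height + 1 := by gcongr
      have h4 := h3.trans h1
      norm_num at h4
    exact hpne (Ideal.height_eq_zero_iff_eq_bot.1 h0)
  exact this ▸ hp

/-- Key lemma: if every nonzero prime of a Noetherian domain contains the nonzero element `f`,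
then every nonzero prime has height one. -/
lemma height_eq_one_of_forall_mem {f : R} (hf : f ≠ 0)
    (h : ∀ (q : Ideal R), q.IsPrime → q ≠ ⊥ → f ∈ q) (P : Ideal R) [P.IsPrime] (hP : P ≠ ⊥) :
    P.height = 1 := by
  have h1 : 1 ≤ P.height := by
    rw [Order.one_le_iff_ne_zero]; intro h0; exact hP (Ideal.height_eq_zero_iff_eq_bot.1 h0)
  refine le_antisymm ?_ h1
  by_contra hgt
  have h2 : 2 ≤ P.height := by
    rw [not_le] at hgt
    have := Order.add_one_le_of_lt hgt
    simpa [one_add_one_eq_two] using this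
  have hinf := infinite_height_one_le P h2
  apply hinf
  refine (Ideal.finite_minimalPrimes_of_isNoetherianRing R (Ideal.span {f})).subset ?_
  rintro q ⟨hqp, -, hq1⟩
  have hqne : q ≠ ⊥ := Ideal.ne_bot_of_height_eq_one hq1
  exact mem_minimalPrimes_of_height_one hf q hq1 (h q hqp hqne)

lemma finite_primes_of_forall_mem {f : R} (hf : f ≠ 0)
    (h : ∀ (q : Ideal R), q.IsPrime → q ≠ ⊥ → f ∈ q) :
    {q : Ideal R | q.IsPrime}.Finite := by
  refine ((Ideal.finite_minimalPrimes_of_isNoetherianRing R (Ideal.span {f})).union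
    (Set.finite_singleton ⊥)).subset ?_
  intro q (hq : q.IsPrime)
  by_cases hq0 : q = ⊥
  · right; exact hq0
  · left
    exact mem_minimalPrimes_of_height_one hf q (height_eq_one_of_forall_mem hf h q hq0)
      (h q hq hq0)

lemma isMaximal_of_forall_mem {f : R} (hf : f ≠ 0)
    (h : ∀ (q : Ideal R), q.IsPrime → q ≠ ⊥ → f ∈ q) (P : Ideal R) [P.IsPrime] (hP : P ≠ ⊥) :
    P.IsMaximal := by
  obtain ⟨M, hM, hPM⟩ := Ideal.exists_le_maximal P (Ideal.IsPrime.ne_top ‹_›)
  have hMprime : M.IsPrime := hM.isPrime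
  have hMne : M ≠ ⊥ := fun h0 => hP (le_bot_iff.1 (h0 ▸ hPM))
  have h1 := height_eq_one_of_forall_mem hf h P hP
  have h2 := height_eq_one_of_forall_mem hf h M hMne
  have : P = M := by
    by_contra hne
    have hlt : P < M := lt_of_le_of_ne hPM hne
    have h3 := Ideal.height_add_one_le_of_lt_of_isPrime hlt
    rw [h1, h2] at h3
    norm_num at h3
  exact this ▸ hM

end Groth.Agent.H9.HeightOne
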