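import Mathlib
import Groth.Prelude.Def_CAlg
import Groth.Agent.Lib.Helper2.ConeCM
import Groth.Agent.Lib.Helper2.InterCM
import Groth.Agent.Lib.Helper6.Liai3
import Groth.Agent.Lib.Helper3.CMPt2

set_option autoImplicit false
set_option linter.unusedSectionVars false
set_option linter.unusedVariables false

open MvPolynomial

namespace Groth.Agent.H9.SchCM

universe u

attribute [local instance] MvPolynomial.gradedAlgebra

variable (K : Type u) [Field K] (σ : Type) [Fintype σ]

theorem irr_eq_ker :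
    (HomogeneousIdeal.irrelevant (homogeneousSubmodule σ K)).toIdeal =
      RingHom.ker (constantCoeff : MvPolynomial σ K →+* K) := by
  classical
  ext p
  rw [HomogeneousIdeal.toIdeal_irrelevant, RingHom.mem_ker, RingHom.mem_ker]
  have h1 : GradedRing.projZeroRingHom (homogeneousSubmodule σ K) p = homogeneousComponent 0 p :=
    decomposition.decompose'_apply p 0
  rw [h1, homogeneousComponent_zero, map_eq_zero_iff C (C_injective σ K), constantCoeff_eq]

variable {K σ}

theorem le_ker_of_homogeneous (I : Ideal (MvPolynomial σ K))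
    (hI : I.IsHomogeneous (homogeneousSubmodule σ K)) (hI' : I ≠ ⊤) :
    I ≤ RingHom.ker (constantCoeff : MvPolynomial σ K →+* K) := by
  intro p hp
  rw [RingHom.mem_ker]
  by_contra h
  apply hI'
  have h1 := homogeneousComponent_mem_of_mem hI hp 0
  rw [homogeneousComponent_zero, ← constantCoeff_eq] at h1
  rw [Ideal.eq_top_iff_one]
  have : (1 : MvPolynomial σ K) = C (constantCoeff p)⁻¹ * C (constantCoeff p) := by
    rw [← C_mul, inv_mul_cancel₀ h, C_1]
  rw [this]
  exact Ideal.mul_mem_left _ _ h1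

theorem mem_m_iff (I : Ideal (MvPolynomial σ K))
    (hle : I ≤ RingHom.ker (constantCoeff : MvPolynomial σ K →+* K)) (p : MvPolynomial σ K) :
    Ideal.Quotient.mk I p ∈
      (RingHom.ker (constantCoeff : MvPolynomial σ K →+* K)).map (Ideal.Quotient.mk I) ↔
      constantCoeff p = 0 := by
  constructor
  · intro h
    rw [Ideal.mem_map_iff_of_surjective _ Ideal.Quotient.mk_surjective] at h
    obtain ⟨p', hp', he⟩ := h
    rw [Ideal.Quotient.eq] at he
    have := hle he
    rw [RingHom.mem_ker, map_sub, RingHom.mem_ker.1 hp', zero_sub, neg_eq_zero] at this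
    exact this
  · intro h
    exact Ideal.mem_map_of_mem _ (RingHom.mem_ker.2 h)

theorem cone_cm_gen (I : Ideal (MvPolynomial σ K))
    (hI : I.IsHomogeneous (homogeneousSubmodule σ K)) (hI' : I ≠ ⊤)
    (𝔫 : Ideal (MvPolynomial σ K))
    (h𝔫 : 𝔫 = RingHom.ker (constantCoeff : MvPolynomial σ K →+* K))
    [hm : (𝔫.map (Ideal.Quotient.mk I)).IsPrime]
    (hcm : LocCoh.IsCohenMacaulayLocalRing (Localization.AtPrime (𝔫.map (Ideal.Quotient.mk I)))) :
    LocCoh.IsCohenMacaulayRing (MvPolynomial σ K ⧸ I) := by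
  classical
  subst h𝔫
  obtain ⟨N, hN⟩ : ∃ N, N = Fintype.card σ := ⟨_, rfl⟩
  let e : σ ≃ Fin N := (Fintype.equivFin σ).trans (finCongr hN.symm)
  let E : MvPolynomial σ K ≃ₐ[K] MvPolynomial (Fin N) K := renameEquiv K e
  obtain ⟨I', hI'def⟩ : ∃ I' : Ideal (MvPolynomial (Fin N) K),
      I' = I.map (E.toRingEquiv : MvPolynomial σ K →+* MvPolynomial (Fin N) K) := ⟨_, rfl⟩
  have hE : ∀ p, (E.toRingEquiv : MvPolynomial σ K →+* MvPolynomial (Fin N) K) p = E p :=
    fun p => rfl
  have hgen : ∃ T : Set (MvPolynomial (Fin N) K),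
      (∀ f ∈ T, ∃ k : ℕ, f.IsHomogeneous k) ∧ I' = Ideal.span T := by
    obtain ⟨S₀, hS₀⟩ := (Ideal.IsHomogeneous.iff_exists (homogeneousSubmodule σ K) I).1 hI
    refine ⟨(E.toRingEquiv : MvPolynomial σ K →+* MvPolynomial (Fin N) K) '' ((↑) '' S₀), ?_, ?_⟩
    · rintro _ ⟨_, ⟨s, _, rfl⟩, rfl⟩
      obtain ⟨k, hk⟩ := s.2
      refine ⟨k, ?_⟩
      rw [hE]
      exact IsHomogeneous.rename_isHomogeneous ((mem_homogeneousSubmodule k _).1 hk)
    · rw [hI'def, hS₀, Ideal.map_span]
  let Q : (MvPolynomial σ K ⧸ I) ≃+* (MvPolynomial (Fin N) K ⧸ I') :=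
    Ideal.quotientEquiv I I' E.toRingEquiv hI'def
  have hQ : ∀ p, Q (Ideal.Quotient.mk I p) = Ideal.Quotient.mk I' (E p) := fun p => rfl
  have hcc : ∀ p, constantCoeff (E p) = constantCoeff p := fun p => constantCoeff_rename _ _
  have hle := le_ker_of_homogeneous I hI hI'
  have hI'top : I' ≠ ⊤ := by
    intro h
    apply hI'
    rw [Ideal.eq_top_iff_one] at h ⊢
    rw [hI'def, Ideal.mem_map_iff_of_surjective
      (E.toRingEquiv : MvPolynomial σ K →+* MvPolynomial (Fin N) K)
      E.toRingEquiv.surjective] at h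
    obtain ⟨p, hp, hp1⟩ := h
    rw [hE] at hp1
    have : p = 1 := E.injective (by rw [map_one]; exact hp1)
    rwa [this] at hp
  have hle' : I' ≤ RingHom.ker (constantCoeff : MvPolynomial (Fin N) K →+* K) := by
    rw [hI'def, Ideal.map_le_iff_le_comap]
    intro p hp
    rw [Ideal.mem_comap, RingHom.mem_ker, hE, hcc]
    exact RingHom.mem_ker.1 (hle hp)
  haveI : (RingHom.ker (constantCoeff : MvPolynomial (Fin N) K →+* K)).IsPrime :=
    RingHom.ker_isPrime _
  haveI hm' : ((RingHom.ker (constantCoeff : MvPolynomial (Fin N) K →+* K)).map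
      (Ideal.Quotient.mk I')).IsPrime :=
    Ideal.map_isPrime_of_surjective Ideal.Quotient.mk_surjective
      (by rw [Ideal.mk_ker]; exact hle')
  have H : Submonoid.map Q.toMonoidHom
      ((RingHom.ker (constantCoeff : MvPolynomial σ K →+* K)).map
        (Ideal.Quotient.mk I)).primeCompl =
      ((RingHom.ker (constantCoeff : MvPolynomial (Fin N) K →+* K)).map
        (Ideal.Quotient.mk I')).primeCompl := by
    ext y
    constructor
    · rintro ⟨x, hx, rfl⟩
      obtain ⟨p, rfl⟩ := Ideal.Quotient.mk_surjective x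
      have hx' : Ideal.Quotient.mk I p ∉ (RingHom.ker (constantCoeff :
          MvPolynomial σ K →+* K)).map (Ideal.Quotient.mk I) := hx
      intro hmem
      apply hx'
      have hmem' : Ideal.Quotient.mk I' (E p) ∈ (RingHom.ker (constantCoeff :
          MvPolynomial (Fin N) K →+* K)).map (Ideal.Quotient.mk I') := hmem
      rw [mem_m_iff I' hle', hcc] at hmem'
      exact (mem_m_iff I hle p).2 hmem'
    · intro hy
      refine ⟨Q.symm y, ?_, by simp⟩
      obtain ⟨p, hp⟩ := Ideal.Quotient.mk_surjective (Q.symm y)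
      have hy' : y ∉ (RingHom.ker (constantCoeff :
          MvPolynomial (Fin N) K →+* K)).map (Ideal.Quotient.mk I') := hy
      intro hmem
      apply hy'
      have hmem' : Ideal.Quotient.mk I p ∈ (RingHom.ker (constantCoeff :
          MvPolynomial σ K →+* K)).map (Ideal.Quotient.mk I) := by
        rw [hp]
        exact hmem
      rw [mem_m_iff I hle] at hmem'
      have hyQ : y = Ideal.Quotient.mk I' (E p) := by
        rw [← hQ, hp, RingEquiv.apply_symm_apply]
      rw [hyQ, mem_m_iff I' hle', hcc]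
      exact hmem'
  haveI := hcm
  have hcm' : LocCoh.IsCohenMacaulayLocalRing (Localization.AtPrime
      ((RingHom.ker (constantCoeff : MvPolynomial (Fin N) K →+* K)).map
        (Ideal.Quotient.mk I'))) :=
    Groth.Agent.H6.Liai.cmLocal_of_ringEquiv
      (R₁ := Localization.AtPrime ((RingHom.ker (constantCoeff : MvPolynomial σ K →+* K)).map
          (Ideal.Quotient.mk I)))
      (IsLocalization.ringEquivOfRingEquiv
        (Localization.AtPrime ((RingHom.ker (constantCoeff : MvPolynomial σ K →+* K)).map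
          (Ideal.Quotient.mk I)))
        (Localization.AtPrime ((RingHom.ker (constantCoeff : MvPolynomial (Fin N) K →+* K)).map
          (Ideal.Quotient.mk I'))) Q H)
  haveI := Groth.Agent.H2.ConeCM.cone_cm K N I' hgen hI'top hcm'
  exact Groth.Agent.H6.Liai.cm_of_ringEquiv Q.symm

theorem union_cm (I J : Ideal (MvPolynomial σ K))
    (hI : I.IsHomogeneous (homogeneousSubmodule σ K))
    (hJ : J.IsHomogeneous (homogeneousSubmodule σ K)) (e : ℕ) (he : 1 ≤ e)
    (hIcm : LocCoh.IsCohenMacaulayRing (MvPolynomial σ K ⧸ I))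
    (hJcm : LocCoh.IsCohenMacaulayRing (MvPolynomial σ K ⧸ J))
    (hIJcm : LocCoh.IsCohenMacaulayRing (MvPolynomial σ K ⧸ (I ⊔ J)))
    (hIdim : ringKrullDim (MvPolynomial σ K ⧸ I) = (e : WithBot ℕ∞))
    (hJdim : ringKrullDim (MvPolynomial σ K ⧸ J) = (e : WithBot ℕ∞))
    (hIJdim : ringKrullDim (MvPolynomial σ K ⧸ (I ⊔ J)) = ((e - 1 : ℕ) : WithBot ℕ∞)) :
    LocCoh.IsCohenMacaulayRing (MvPolynomial σ K ⧸ (I ⊓ J)) ∧
      ringKrullDim (MvPolynomial σ K ⧸ (I ⊓ J)) = (e : WithBot ℕ∞) := by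
  have hItop : I ≠ ⊤ := by
    intro h
    have : Subsingleton (MvPolynomial σ K ⧸ I) := by
      rw [h]
      exact Ideal.Quotient.subsingleton_iff.mpr rfl
    rw [ringKrullDim_eq_bot_of_subsingleton] at hIdim
    exact WithBot.bot_ne_coe hIdim
  have hIJhom : (I ⊓ J).IsHomogeneous (homogeneousSubmodule σ K) := hI.inf hJ
  have hIJtop : I ⊓ J ≠ ⊤ := fun h => hItop (eq_top_iff.2 (h ▸ inf_le_left))
  have hle := le_ker_of_homogeneous (I ⊓ J) hIJhom hIJtop
  have h0 : ∀ a ∈ homogeneousSubmodule σ K 0,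
      ∃ c : K, algebraMap K (MvPolynomial σ K) c = a := by
    intro a ha
    rw [homogeneousSubmodule_zero, Submodule.mem_one] at ha
    exact ha
  haveI : (RingHom.ker (constantCoeff : MvPolynomial σ K →+* K)).IsPrime :=
    RingHom.ker_isPrime _
  haveI hm : (((HomogeneousIdeal.irrelevant (homogeneousSubmodule σ K)).toIdeal).map
      (Ideal.Quotient.mk (I ⊓ J))).IsPrime := by
    rw [irr_eq_ker]
    exact Ideal.map_isPrime_of_surjective Ideal.Quotient.mk_surjective
      (by rw [Ideal.mk_ker]; exact hle)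
  obtain ⟨h1, h2⟩ := Groth.Agent.H2.InterCM.main (homogeneousSubmodule σ K) h0 I J hI hJ e he
    hIcm hJcm hIJcm hIdim hJdim hIJdim
  refine ⟨cone_cm_gen (I ⊓ J) hIJhom hIJtop _ (irr_eq_ker K σ) h1, ?_⟩
  apply le_antisymm
  · have := Groth.Agent.H2.HilbDim.ringKrullDim_quotient_le_max (I ⊓ J) I J Ideal.mul_le_inf
    rw [hIdim, hJdim, max_self] at this
    exact this
  · rw [← hIdim]
    exact ringKrullDim_le_of_surjective (Ideal.Quotient.factor (inf_le_left : I ⊓ J ≤ I))
      (Ideal.Quotient.factor_surjective _)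

theorem lift_cm (J : Ideal (MvPolynomial σ K)) [hJp : J.IsPrime]
    (hJ : J.IsHomogeneous (homogeneousSubmodule σ K))
    (x : MvPolynomial σ K) (hx : x ∉ J) (hx0 : constantCoeff x = 0)
    (hcm : LocCoh.IsCohenMacaulayRing (MvPolynomial σ K ⧸ (J ⊔ Ideal.span {x}))) :
    LocCoh.IsCohenMacaulayRing (MvPolynomial σ K ⧸ J) := by
  have hf : Ideal.Quotient.mk J x ∈ nonZeroDivisors (MvPolynomial σ K ⧸ J) :=
    mem_nonZeroDivisors_of_ne_zero (by rw [Ne, Ideal.Quotient.eq_zero_iff_mem]; exact hx)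
  have hmap : (Ideal.span {x}).map (Ideal.Quotient.mk J) =
      Ideal.span {Ideal.Quotient.mk J x} := by
    rw [Ideal.map_span, Set.image_singleton]
  let eq1 : ((MvPolynomial σ K ⧸ J) ⧸ Ideal.span {Ideal.Quotient.mk J x}) ≃+*
      (MvPolynomial σ K ⧸ (J ⊔ Ideal.span {x})) :=
    (Ideal.quotEquivOfEq hmap.symm).trans (DoubleQuot.quotQuotEquivQuotSup J (Ideal.span {x}))
  haveI hcmq : LocCoh.IsCohenMacaulayRing
      ((MvPolynomial σ K ⧸ J) ⧸ Ideal.span {Ideal.Quotient.mk J x}) :=
    Groth.Agent.H6.Liai.cm_of_ringEquiv eq1.symm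
  have hJtop : J ≠ ⊤ := hJp.ne_top
  have hle := le_ker_of_homogeneous J hJ hJtop
  haveI : (RingHom.ker (constantCoeff : MvPolynomial σ K →+* K)).IsPrime :=
    RingHom.ker_isPrime _
  haveI hmAp : ((RingHom.ker (constantCoeff : MvPolynomial σ K →+* K)).map
      (Ideal.Quotient.mk J)).IsPrime :=
    Ideal.map_isPrime_of_surjective Ideal.Quotient.mk_surjective
      (by rw [Ideal.mk_ker]; exact hle)
  have hfm : Ideal.Quotient.mk J x ∈ (RingHom.ker (constantCoeff : MvPolynomial σ K →+* K)).map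
      (Ideal.Quotient.mk J) := (mem_m_iff J hle x).2 hx0
  have hspan_le : Ideal.span {Ideal.Quotient.mk J x} ≤
      (RingHom.ker (constantCoeff : MvPolynomial σ K →+* K)).map (Ideal.Quotient.mk J) := by
    rw [Ideal.span_le, Set.singleton_subset_iff]
    exact hfm
  haveI hPp : (((RingHom.ker (constantCoeff : MvPolynomial σ K →+* K)).map
      (Ideal.Quotient.mk J)).map
        (Ideal.Quotient.mk (Ideal.span {Ideal.Quotient.mk J x}))).IsPrime :=
    Ideal.map_isPrime_of_surjective Ideal.Quotient.mk_surjective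
      (by rw [Ideal.mk_ker]; exact hspan_le)
  have hcomap : (((RingHom.ker (constantCoeff : MvPolynomial σ K →+* K)).map
      (Ideal.Quotient.mk J)).map
        (Ideal.Quotient.mk (Ideal.span {Ideal.Quotient.mk J x}))).comap
          (Ideal.Quotient.mk (Ideal.span {Ideal.Quotient.mk J x})) =
      (RingHom.ker (constantCoeff : MvPolynomial σ K →+* K)).map (Ideal.Quotient.mk J) := by
    rw [Ideal.comap_map_of_surjective _ Ideal.Quotient.mk_surjective,
      ← RingHom.ker_eq_comap_bot, Ideal.mk_ker]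
    exact sup_eq_left.mpr hspan_le
  haveI := hcmq.isCohenMacaulayLocalRing_localization
    (((RingHom.ker (constantCoeff : MvPolynomial σ K →+* K)).map
      (Ideal.Quotient.mk J)).map (Ideal.Quotient.mk (Ideal.span {Ideal.Quotient.mk J x})))
  have h1 := Groth.Agent.H3.CMPt.cm_of_quotient_regular (Ideal.Quotient.mk J x) hf
    (((RingHom.ker (constantCoeff : MvPolynomial σ K →+* K)).map
      (Ideal.Quotient.mk J)).map (Ideal.Quotient.mk (Ideal.span {Ideal.Quotient.mk J x})))
  have h2 : ∀ (𝔮 : Ideal (MvPolynomial σ K ⧸ J))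
      (h𝔮 : 𝔮 = (RingHom.ker (constantCoeff : MvPolynomial σ K →+* K)).map
        (Ideal.Quotient.mk J)) [𝔮.IsPrime],
      LocCoh.IsCohenMacaulayLocalRing (Localization.AtPrime 𝔮) →
      LocCoh.IsCohenMacaulayLocalRing (Localization.AtPrime
        ((RingHom.ker (constantCoeff : MvPolynomial σ K →+* K)).map
          (Ideal.Quotient.mk J))) := by
    intro 𝔮 h𝔮 _ h
    subst h𝔮
    exact h
  have h3 := h2 _ hcomap h1
  exact cone_cm_gen J hJ hJtop _ rfl h3

end Groth.Agent.H9.SchCM
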