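import Mathlib
set_option autoImplicit false
set_option linter.unusedSectionVars false
set_option linter.unusedVariables false

namespace Groth.Agent.H9.Ldt

open MvPolynomial

section general

variable {σ : Type*} (m : MonomialOrder σ) {K : Type*} [CommRing K] [Nontrivial K]

theorem degree_eq_of_coeff (f : MvPolynomial σ K) (a : σ →₀ ℕ) (h1 : f.coeff a = 1)
    (h2 : ∀ b ∈ f.support, m.toSyn b ≤ m.toSyn a) : m.degree f = a ∧ m.Monic f := by
  have hmem : a ∈ f.support := by
    rw [MvPolynomial.mem_support_iff, h1]; exact one_ne_zero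
  have hle1 : m.toSyn (m.degree f) ≤ m.toSyn a := m.degree_le_iff.2 h2
  have hle2 : m.toSyn a ≤ m.toSyn (m.degree f) := m.le_degree hmem
  have : m.degree f = a := m.toSyn.injective (le_antisymm hle1 hle2)
  refine ⟨this, ?_⟩
  unfold MonomialOrder.Monic MonomialOrder.leadingCoeff
  rw [this, h1]

theorem linearIndependent_of_degree_injective {ι : Type*} (f : ι → MvPolynomial σ K)
    (hmonic : ∀ i, m.Monic (f i)) (hinj : Function.Injective (fun i => m.degree (f i))) :
    LinearIndependent K f := by
  classical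
  rw [linearIndependent_iff']
  intro s g hsum
  by_contra hcon
  push Not at hcon
  obtain ⟨i1, hi1, hgi1⟩ := hcon
  have hs' : (s.filter (fun i => g i ≠ 0)).Nonempty := ⟨i1, Finset.mem_filter.2 ⟨hi1, hgi1⟩⟩
  obtain ⟨i0, hi0, hmax⟩ := Finset.exists_max_image (s.filter (fun i => g i ≠ 0))
    (fun i => m.toSyn (m.degree (f i))) hs'
  have hc : (∑ i ∈ s, g i • f i).coeff (m.degree (f i0)) = g i0 := by
    rw [MvPolynomial.coeff_sum]
    rw [Finset.sum_eq_single i0]
    · rw [MvPolynomial.coeff_smul, (hmonic i0).coeff_degree, smul_eq_mul, mul_one]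
    · intro i hi hne
      rw [MvPolynomial.coeff_smul]
      by_cases hgi : g i = 0
      · rw [hgi, zero_smul]
      · have hi' : i ∈ s.filter (fun i => g i ≠ 0) := Finset.mem_filter.2 ⟨hi, hgi⟩
        have hle := hmax i hi'
        have hlt : m.toSyn (m.degree (f i)) < m.toSyn (m.degree (f i0)) :=
          lt_of_le_of_ne hle (fun h => hne (hinj (m.toSyn.injective h)))
        rw [m.coeff_eq_zero_of_lt hlt, smul_zero]
    · intro h; exact absurd (Finset.mem_filter.1 hi0).1 h
  rw [hsum, MvPolynomial.coeff_zero] at hc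
  exact (Finset.mem_filter.1 hi0).2 hc.symm

end general

theorem antitone_eq_of_count {m n : ℕ} (f g : Fin m → Fin n) (hf : Antitone f) (hg : Antitone g)
    (h : ∀ a, (Finset.univ.filter (fun k => f k = a)).card =
      (Finset.univ.filter (fun k => g k = a)).card) : f = g := by
  classical
  have hperm : (List.ofFn f).Perm (List.ofFn g) := by
    rw [← Multiset.coe_eq_coe, ← Fin.univ_val_map, ← Fin.univ_val_map]
    ext a
    rw [Multiset.count_map, Multiset.count_map]
    have h1 := h a
    rw [Finset.card_def, Finset.card_def] at h1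
    simp only [Finset.filter_val] at h1
    have e1 : (fun k => a = f k) = (fun k => f k = a) := by
      funext k; exact propext eq_comm
    have e2 : (fun k => a = g k) = (fun k => g k = a) := by
      funext k; exact propext eq_comm
    simp only [e1, e2]
    convert h1
  have := List.Perm.eq_of_sortedGE hf.sortedGE_ofFn hg.sortedGE_ofFn hperm
  exact List.ofFn_injective this

/-- block of zeros in the lower left: rows `≥ t`, columns `≤ t` -/
theorem det_eq_zero_of_block_ll {d : ℕ} {K : Type*} [CommRing K] (M : Matrix (Fin d) (Fin d) K)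
    (t : Fin d) (h : ∀ s c : Fin d, t ≤ s → c ≤ t → M s c = 0) : M.det = 0 := by
  classical
  rw [Matrix.det_apply]
  apply Finset.sum_eq_zero
  intro σ _
  have hex : ∃ c : Fin d, c ≤ t ∧ t ≤ σ c := by
    by_contra hcon
    push Not at hcon
    have hmaps : ∀ c ∈ Finset.Iic t, σ c ∈ Finset.Iio t := by
      intro c hc
      exact Finset.mem_Iio.2 (hcon c (Finset.mem_Iic.1 hc))
    have := Finset.card_le_card_of_injOn σ hmaps (fun x _ y _ hxy => σ.injective hxy)
    rw [Fin.card_Iic, Fin.card_Iio] at this
    omega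
  obtain ⟨c, hc1, hc2⟩ := hex
  have hz : ∏ i, M (σ i) i = 0 :=
    Finset.prod_eq_zero (i := c) (Finset.mem_univ c) (h (σ c) c hc2 hc1)
  rw [hz, smul_zero]

/-- block of zeros in the upper right: rows `≤ t`, columns `≥ t` -/
theorem det_eq_zero_of_block_ur {d : ℕ} {K : Type*} [CommRing K] (M : Matrix (Fin d) (Fin d) K)
    (t : Fin d) (h : ∀ s c : Fin d, s ≤ t → t ≤ c → M s c = 0) : M.det = 0 := by
  classical
  rw [Matrix.det_apply]
  apply Finset.sum_eq_zero
  intro σ _
  have hex : ∃ c : Fin d, t ≤ c ∧ σ c ≤ t := by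
    by_contra hcon
    push Not at hcon
    have hmaps : ∀ c ∈ Finset.Ici t, σ c ∈ Finset.Ioi t := by
      intro c hc
      exact Finset.mem_Ioi.2 (hcon c (Finset.mem_Ici.1 hc))
    have := Finset.card_le_card_of_injOn σ hmaps (fun x _ y _ hxy => σ.injective hxy)
    rw [Fin.card_Ici, Fin.card_Ioi] at this
    have := t.2
    omega
  obtain ⟨c, hc1, hc2⟩ := hex
  have hz : ∏ i, M (σ i) i = 0 :=
    Finset.prod_eq_zero (i := c) (Finset.mem_univ c) (h (σ c) c hc2 hc1)
  rw [hz, smul_zero]

end Groth.Agent.H9.Ldt
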