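import Mathlib
import Groth.Prelude.Def_W4bk4grassmannianPl
import Groth.Agent.Lib.Helper9.Misc.LdtA
set_option autoImplicit false
set_option linter.unusedSectionVars false
set_option linter.unusedVariables false

namespace Groth.Agent.H9.Ldt

open MvPolynomial W4bk4grassmannian

section shape

variable {K : Type*} [Field K] {d n : ℕ} {σ : Type*} [LinearOrder σ] [WellFoundedGT σ]
  (v : Fin n → Fin d → σ)
  (hv : ∀ s t s' t', v s t < v s' t' ↔ s < s' ∨ (s = s' ∧ t < t'))
  (hsurj : ∀ j : σ, ∃ s t, j = v s t)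
  (lo hi : Fin d → Fin n)

variable (K) in
/-- the generic matrix of shape `[lo, hi]` -/
noncomputable def G : Matrix (Fin n) (Fin d) (MvPolynomial σ K) :=
  Matrix.of fun s t => if lo t ≤ s ∧ s ≤ hi t then X (v s t) else 0

/-- exponent vector of the diagonal monomial on rows `θ` -/
noncomputable def mon (θ : Fin d → Fin n) : σ →₀ ℕ := ∑ t, Finsupp.single (v (θ t) t) 1

include hv in
theorem v_inj {s s' : Fin n} {t t' : Fin d} (h : v s t = v s' t') : s = s' ∧ t = t' := by
  have h1 : ¬ (v s t < v s' t') := by rw [h]; exact lt_irrefl _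
  have h2 : ¬ (v s' t' < v s t) := by rw [h]; exact lt_irrefl _
  rw [hv] at h1 h2
  rcases lt_trichotomy s s' with h3 | h3 | h3
  · exact absurd (Or.inl h3) h1
  · subst h3
    rcases lt_trichotomy t t' with h4 | h4 | h4
    · exact absurd (Or.inr ⟨rfl, h4⟩) h1
    · exact ⟨rfl, h4⟩
    · exact absurd (Or.inr ⟨rfl, h4⟩) h2
  · exact absurd (Or.inl h3) h2

include hv in
theorem mon_apply (θ : Fin d → Fin n) (a : Fin n) (t0 : Fin d) :
    mon v θ (v a t0) = if θ t0 = a then 1 else 0 := by
  classical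
  unfold mon
  rw [Finsupp.finsetSum_apply, Finset.sum_eq_single t0]
  · rw [Finsupp.single_apply]
    by_cases h : θ t0 = a
    · rw [if_pos h, if_pos (by rw [h])]
    · rw [if_neg h, if_neg]
      intro h'
      exact h (v_inj v hv h').1
  · intro t _ hne
    rw [Finsupp.single_apply, if_neg]
    intro h'
    exact hne (v_inj v hv h').2
  · intro h; exact absurd (Finset.mem_univ _) h

theorem G_apply (s : Fin n) (t : Fin d) :
    G K v lo hi s t = if lo t ≤ s ∧ s ≤ hi t then X (v s t) else 0 := rfl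

theorem term_of_fit (θ : Fin d → Fin n) (π : Equiv.Perm (Fin d))
    (h : ∀ i, lo i ≤ θ (π i) ∧ θ (π i) ≤ hi i) :
    ∏ i, ((G K v lo hi).submatrix θ id) (π i) i = monomial (mon v (θ ∘ π)) 1 := by
  unfold mon
  rw [MvPolynomial.monomial_sum_one]
  apply Finset.prod_congr rfl
  intro i _
  rw [Matrix.submatrix_apply, id_eq, G_apply, if_pos (h i)]
  rfl

theorem term_of_not_fit (θ : Fin d → Fin n) (π : Equiv.Perm (Fin d))
    (h : ¬ ∀ i, lo i ≤ θ (π i) ∧ θ (π i) ≤ hi i) :
    ∏ i, ((G K v lo hi).submatrix θ id) (π i) i = 0 := by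
  obtain ⟨i, hi'⟩ := not_forall.1 h
  apply Finset.prod_eq_zero (Finset.mem_univ i)
  rw [Matrix.submatrix_apply, id_eq, G_apply, if_neg hi']

include hv hsurj in
theorem mon_perm_lt (θ : Fin d → Fin n) (hθ : StrictMono θ) (π : Equiv.Perm (Fin d)) (hπ : π ≠ 1) :
    MonomialOrder.lex.toSyn (mon v (θ ∘ π)) < MonomialOrder.lex.toSyn (mon v θ) := by
  classical
  have hS : (Finset.univ.filter (fun i => π i ≠ i)).Nonempty := by
    by_contra hcon
    rw [Finset.not_nonempty_iff_eq_empty] at hcon
    apply hπ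
    apply Equiv.ext
    intro i
    have h1 : i ∉ Finset.univ.filter (fun i => π i ≠ i) := by
      rw [hcon]; exact Finset.notMem_empty _
    rw [Finset.mem_filter] at h1
    by_contra h2
    exact h1 ⟨Finset.mem_univ _, h2⟩
  have hc0mem : (Finset.univ.filter (fun i => π i ≠ i)).min' hS ∈
      Finset.univ.filter (fun i => π i ≠ i) := Finset.min'_mem _ hS
  have hfix0 : ∀ i, i < (Finset.univ.filter (fun i => π i ≠ i)).min' hS → π i = i := by
    intro i hi
    by_contra hne
    have : (Finset.univ.filter (fun i => π i ≠ i)).min' hS ≤ i :=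
      Finset.min'_le _ i (Finset.mem_filter.2 ⟨Finset.mem_univ _, hne⟩)
    exact absurd hi (not_lt.2 this)
  generalize (Finset.univ.filter (fun i => π i ≠ i)).min' hS = c0 at hc0mem hfix0
  have hc0ne : π c0 ≠ c0 := (Finset.mem_filter.1 hc0mem).2
  rw [MonomialOrder.lex_lt_iff, Finsupp.Lex.lt_iff]
  refine ⟨v (θ c0) c0, ?_, ?_⟩
  · intro j hj
    obtain ⟨s, t, rfl⟩ := hsurj j
    rw [hv] at hj
    show mon v (θ ∘ π) (v s t) = mon v θ (v s t)
    rw [mon_apply v hv, mon_apply v hv]
    have hiff : ((θ ∘ π) t = s ↔ θ t = s) := by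
      rcases hj with hj | ⟨hj1, hj2⟩
      · constructor
        · intro h
          have h1 : π t < c0 := by
            apply hθ.lt_iff_lt.1
            rw [show θ (π t) = s from h]; exact hj
          have h2 : π (π t) = π t := hfix0 _ h1
          have h3 : π t = t := π.injective h2
          rw [← h3]; exact h
        · intro h
          have h1 : t < c0 := by
            apply hθ.lt_iff_lt.1
            rw [h]; exact hj
          show θ (π t) = s
          rw [hfix0 t h1]; exact h
      · show θ (π t) = s ↔ θ t = s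
        rw [hfix0 t hj2]
    simp only [hiff]
  · show mon v (θ ∘ π) (v (θ c0) c0) < mon v θ (v (θ c0) c0)
    rw [mon_apply v hv, mon_apply v hv, if_pos rfl, if_neg]
    · exact Nat.zero_lt_one
    · intro h
      exact hc0ne (hθ.injective h)

include hv hsurj in
theorem degree_minor (θ : Fin d → Fin n) (hθ : StrictMono θ)
    (hfit : ∀ t, lo t ≤ θ t ∧ θ t ≤ hi t) :
    MonomialOrder.lex.degree (((G K v lo hi).submatrix θ id).det) = mon v θ ∧
      MonomialOrder.lex.Monic (((G K v lo hi).submatrix θ id).det) := by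
  classical
  have hterm : ∀ (π : Equiv.Perm (Fin d)) (b : σ →₀ ℕ),
      coeff b (Equiv.Perm.sign π • ∏ i, ((G K v lo hi).submatrix θ id) (π i) i) ≠ 0 →
        b = mon v (θ ∘ π) := by
    intro π b hb
    by_cases hf : ∀ i, lo i ≤ θ (π i) ∧ θ (π i) ≤ hi i
    · rw [term_of_fit v lo hi θ π hf] at hb
      by_contra hne
      apply hb
      rcases Int.units_eq_one_or (Equiv.Perm.sign π) with h | h
      · rw [h, one_smul, coeff_monomial, if_neg (Ne.symm hne)]
      · rw [h, Units.neg_smul, one_smul, coeff_neg, coeff_monomial, if_neg (Ne.symm hne), neg_zero]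
    · rw [term_of_not_fit v lo hi θ π hf, smul_zero, coeff_zero] at hb
      exact absurd rfl hb
  apply degree_eq_of_coeff
  · rw [Matrix.det_apply, coeff_sum, Finset.sum_eq_single (1 : Equiv.Perm (Fin d))]
    · rw [Equiv.Perm.sign_one, one_smul, term_of_fit v lo hi θ 1 (by intro i; exact hfit i)]
      rw [coeff_monomial, if_pos]
      rfl
    · intro π _ hπ
      by_contra hne
      have := hterm π _ hne
      have hlt := mon_perm_lt v hv hsurj θ hθ π hπ
      rw [← this] at hlt
      exact lt_irrefl _ hlt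
    · intro h; exact absurd (Finset.mem_univ _) h
  · intro b hb
    rw [mem_support_iff, Matrix.det_apply, coeff_sum] at hb
    obtain ⟨π, _, hπ⟩ := Finset.exists_ne_zero_of_sum_ne_zero hb
    have := hterm π b hπ
    rw [this]
    by_cases h1 : π = 1
    · rw [h1]; exact le_of_eq rfl
    · exact le_of_lt (mon_perm_lt v hv hsurj θ hθ π h1)

theorem minor_eq_zero_of_not_le (hhi : Monotone hi) (θ : Fin d → Fin n) (hθ : StrictMono θ)
    (h : ¬ ∀ t, θ t ≤ hi t) : ((G K v lo hi).submatrix θ id).det = 0 := by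
  obtain ⟨t, ht⟩ := not_forall.1 h
  apply det_eq_zero_of_block_ll _ t
  intro s c hs hc
  rw [Matrix.submatrix_apply, id_eq, G_apply, if_neg]
  intro h'
  apply ht
  calc θ t ≤ θ s := hθ.monotone hs
    _ ≤ hi c := h'.2
    _ ≤ hi t := hhi hc

theorem minor_eq_zero_of_not_ge (hlo : Monotone lo) (θ : Fin d → Fin n) (hθ : StrictMono θ)
    (h : ¬ ∀ t, lo t ≤ θ t) : ((G K v lo hi).submatrix θ id).det = 0 := by
  obtain ⟨t, ht⟩ := not_forall.1 h
  apply det_eq_zero_of_block_ur _ t
  intro s c hs hc
  rw [Matrix.submatrix_apply, id_eq, G_apply, if_neg]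
  intro h'
  apply ht
  calc lo t ≤ lo c := hlo hc
    _ ≤ θ s := h'.1
    _ ≤ θ t := hθ.monotone hs

end shape

end Groth.Agent.H9.Ldt
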