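import Mathlib
import Groth.Prelude.Def_W4bk4grassmannianPl
set_option autoImplicit false
set_option linter.unusedSectionVars false
set_option linter.unusedVariables false

namespace Groth.Agent.H9.Plk

open W4bk4grassmannian MvPolynomial

/-- inversion count of a permutation -/
def invP {d : ℕ} (τ : Equiv.Perm (Fin d)) : ℕ :=
  (Finset.univ.filter fun p : Fin d × Fin d => p.1 < p.2 ∧ τ p.2 < τ p.1).card

theorem sign_eq_signAux {d : ℕ} (τ : Equiv.Perm (Fin d)) :
    Equiv.Perm.sign τ = Equiv.Perm.signAux τ := by
  induction τ using Equiv.Perm.swap_induction_on with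
  | one => rw [Equiv.Perm.sign_one, Equiv.Perm.signAux_one]
  | swap_mul f x y hxy ih =>
    rw [Equiv.Perm.sign_mul, Equiv.Perm.signAux_mul, ih, Equiv.Perm.sign_swap hxy,
      Equiv.Perm.signAux_swap hxy]

theorem signAux_eq_pow {d : ℕ} (τ : Equiv.Perm (Fin d)) :
    Equiv.Perm.signAux τ = (-1) ^ invP τ := by
  unfold Equiv.Perm.signAux
  rw [Finset.prod_ite, Finset.prod_const_one, mul_one, Finset.prod_const]
  congr 1
  unfold invP
  apply Finset.card_bij (fun x _ => (x.2, x.1))
  · intro x hx
    obtain ⟨h1, h2⟩ := Finset.mem_filter.1 hx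
    have h3 : x.2 < x.1 := Equiv.Perm.mem_finPairsLT.1 h1
    refine Finset.mem_filter.2 ⟨Finset.mem_univ _, h3, ?_⟩
    refine lt_of_le_of_ne h2 ?_
    intro h4
    exact (ne_of_gt h3) (τ.injective h4)
  · intro x hx y hy hxy
    obtain ⟨x1, x2⟩ := x
    obtain ⟨y1, y2⟩ := y
    simp only [Prod.mk.injEq] at hxy
    obtain ⟨h1, h2⟩ := hxy
    subst h1; subst h2
    rfl
  · intro p hp
    obtain ⟨-, h1, h2⟩ := Finset.mem_filter.1 hp
    refine ⟨⟨p.2, p.1⟩, ?_, rfl⟩
    exact Finset.mem_filter.2 ⟨Equiv.Perm.mem_finPairsLT.2 h1, h2.le⟩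

theorem sign_cast (K : Type*) [CommRing K] {d : ℕ} (τ : Equiv.Perm (Fin d)) :
    (((Equiv.Perm.sign τ : ℤˣ) : ℤ) : K) = (-1) ^ invP τ := by
  rw [sign_eq_signAux, signAux_eq_pow]
  simp

variable {d n : ℕ} (K : Type*) [CommRing K]

/-- evaluation of the signed coordinate of a tuple -/
noncomputable def EC (f : Idx d n → K) (a : Fin d → Fin n) : K :=
  MvPolynomial.eval f (coord K d n a)

theorem EC_eq (f : Idx d n → K) (a : Fin d → Fin n) :
    EC K f a = if h : (Finset.univ.image a).card = d then
      (-1) ^ invCount d n a * f (sortIdx d n a h) else 0 := by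
  unfold EC coord
  split_ifs with h
  · rw [map_mul, map_pow, map_neg, map_one, eval_X]
  · rw [map_zero]

theorem card_image_iff_injective (a : Fin d → Fin n) :
    (Finset.univ.image a).card = d ↔ Function.Injective a := by
  constructor
  · intro h
    have h2 : (Finset.univ.image a).card = (Finset.univ : Finset (Fin d)).card := by
      rw [h, Finset.card_univ, Fintype.card_fin]
    have := Finset.card_image_iff.1 h2
    exact fun x y hxy => this (Finset.mem_coe.2 (Finset.mem_univ x))
      (Finset.mem_coe.2 (Finset.mem_univ y)) hxy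
  · intro hinj
    rw [Finset.card_image_of_injective _ hinj, Finset.card_univ, Fintype.card_fin]

theorem EC_minors (A : Matrix (Fin n) (Fin d) K) (a : Fin d → Fin n) :
    EC K (fun θ : Idx d n => (A.submatrix θ.1 id).det) a = (A.submatrix a id).det := by
  rw [EC_eq]
  by_cases h : (Finset.univ.image a).card = d
  · rw [dif_pos h]
    have hinj : Function.Injective a := (card_image_iff_injective a).1 h
    have hmono : StrictMono (a ∘ Tuple.sort a) :=
      (Tuple.monotone_sort a).strictMono_of_injective (hinj.comp (Tuple.sort a).injective)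
    have hθ : a ∘ Tuple.sort a = (sortIdx d n a h).1 := by
      have := Finset.orderEmbOfFin_unique h (f := a ∘ Tuple.sort a)
        (fun x => Finset.mem_image_of_mem _ (Finset.mem_univ _)) hmono
      exact this
    have ha : ∀ t, a t = (sortIdx d n a h).1 ((Tuple.sort a)⁻¹ t) := by
      intro t
      rw [← hθ]
      simp
    have hinv : invCount d n a = invP (Tuple.sort a)⁻¹ := by
      unfold invCount invP
      congr 1
      apply Finset.filter_congr
      intro p _
      rw [ha p.1, ha p.2, (sortIdx d n a h).2.lt_iff_lt]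
    have hdet : (A.submatrix a id).det =
        (((Equiv.Perm.sign (Tuple.sort a)⁻¹ : ℤˣ) : ℤ) : K) *
          (A.submatrix (sortIdx d n a h).1 id).det := by
      rw [← Matrix.det_permute]
      congr 1
      ext s c
      simp only [Matrix.submatrix_apply, id]
      rw [ha s]
    rw [hdet, hinv, sign_cast]
  · rw [dif_neg h]
    have hninj : ¬ Function.Injective a := fun hinj => h ((card_image_iff_injective a).2 hinj)
    rw [Function.Injective] at hninj
    push Not at hninj
    obtain ⟨s, t, hst, hne⟩ := hninj
    exact (Matrix.det_zero_of_row_eq hne (by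
      ext c; simp only [Matrix.submatrix_apply, id]; rw [hst])).symm

end Groth.Agent.H9.Plk
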