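import Mathlib
import Groth.Prelude.Def_W4bk4grassmannianPl
set_option autoImplicit false
set_option linter.unusedSectionVars false
set_option linter.unusedVariables false

namespace Groth.Agent.H9.SMT

open W4bk4grassmannian MvPolynomial

variable {d n : ℕ}

/-- weight of an index: the sum of its entries -/
def wt (τ : Idx d n) : ℕ := ∑ t : Fin d, ((τ.1 t : Fin n) : ℕ)

theorem wt_le (τ : Idx d n) : wt τ ≤ d * n := by
  unfold wt
  calc ∑ t : Fin d, ((τ.1 t : Fin n) : ℕ) ≤ ∑ _t : Fin d, n :=
        Finset.sum_le_sum (fun t _ => (τ.1 t).2.le)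
    _ = d * n := by simp

theorem eq_of_le_of_wt_le {a b : Idx d n} (h : a ≤ b) (hw : wt b ≤ wt a) : a = b := by
  have h' : ∀ t, ((a.1 t : Fin n) : ℕ) ≤ ((b.1 t : Fin n) : ℕ) := fun t => h t
  have hs : wt a = wt b := le_antisymm (Finset.sum_le_sum fun t _ => h' t) hw
  have := (Finset.sum_eq_sum_iff_of_le (fun t _ => h' t)).1 hs
  apply Subtype.ext
  funext t
  exact Fin.ext (this t (Finset.mem_univ t))

theorem sum_orderEmbOfFin {m k : ℕ} (s : Finset (Fin m)) (h : s.card = k) (g : Fin m → ℕ) :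
    ∑ u : Fin k, g (s.orderEmbOfFin h u) = ∑ x ∈ s, g x := by
  conv_rhs => rw [← Finset.map_orderEmbOfFin_univ s h]
  rw [Finset.sum_map]
  rfl

theorem le_of_strictMono {a b : ℕ} (f : Fin a → Fin b) (hf : StrictMono f) (u : Fin a) :
    u.val ≤ (f u).val := by
  obtain ⟨u, hu⟩ := u
  induction u with
  | zero => exact Nat.zero_le _
  | succ u ih =>
    have h1 := ih (by omega)
    have h2 : (f ⟨u, by omega⟩).val < (f ⟨u + 1, hu⟩).val :=
      hf (show (⟨u, by omega⟩ : Fin a) < ⟨u + 1, hu⟩ from Nat.lt_succ_self u)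
    show u + 1 ≤ (f ⟨u + 1, hu⟩).val
    have h3 : u ≤ (f ⟨u, by omega⟩).val := h1
    omega

/-- extension by zero of a function on `Fin m` -/
def ext0 {m : ℕ} (f : Fin m → ℕ) (t : ℕ) : ℕ := if h : t < m then f ⟨t, h⟩ else 0

theorem sum_ext0 {m : ℕ} (f : Fin m → ℕ) : ∑ t : Fin m, f t = ∑ t ∈ Finset.range m, ext0 f t := by
  rw [← Fin.sum_univ_eq_sum_range]
  apply Finset.sum_congr rfl
  intro t _
  unfold ext0
  rw [dif_pos t.2]

theorem ext0_of_lt {m : ℕ} (f : Fin m → ℕ) (t : ℕ) (h : t < m) : ext0 f t = f ⟨t, h⟩ := by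
  unfold ext0; rw [dif_pos h]

section coord

variable (K : Type*) [CommRing K]

theorem coord_pm (a : Fin d → Fin n) :
    coord K d n a = 0 ∨ ∃ (θ : Idx d n) (e : ℕ), coord K d n a = (-1) ^ e * X θ ∧
      wt θ = ∑ t : Fin d, ((a t : Fin n) : ℕ) := by
  unfold coord
  by_cases h : (Finset.univ.image a).card = d
  · right
    rw [dif_pos h]
    refine ⟨sortIdx d n a h, invCount d n a, rfl, ?_⟩
    show ∑ t : Fin d, (((Finset.univ.image a).orderEmbOfFin h t : Fin n) : ℕ) = _
    rw [sum_orderEmbOfFin (Finset.univ.image a) h (fun x => (x : ℕ))]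
    have hinj : Function.Injective a := by
      have h2 : (Finset.univ.image a).card = (Finset.univ : Finset (Fin d)).card := by
        rw [h, Finset.card_univ, Fintype.card_fin]
      have := Finset.card_image_iff.1 h2
      exact fun x y hxy => this (Finset.mem_coe.2 (Finset.mem_univ x))
        (Finset.mem_coe.2 (Finset.mem_univ y)) hxy
    rw [Finset.sum_image (fun x _ y _ hxy => hinj hxy)]
  · left
    rw [dif_neg h]

theorem invCount_eq_zero (a : Fin d → Fin n) (ha : StrictMono a) : invCount d n a = 0 := by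
  unfold invCount
  rw [Finset.card_eq_zero, Finset.filter_eq_empty_iff]
  rintro p - ⟨h1, h2⟩
  exact absurd (ha h1) (not_lt.2 h2.le)

theorem coord_mono (θ : Idx d n) : coord K d n θ.1 = X θ := by
  have hinj : Function.Injective θ.1 := θ.2.injective
  have h : (Finset.univ.image θ.1).card = d := by
    rw [Finset.card_image_of_injective _ hinj, Finset.card_univ, Fintype.card_fin]
  unfold coord
  rw [dif_pos h, invCount_eq_zero θ.1 θ.2, pow_zero, one_mul]
  congr 1
  apply Subtype.ext
  show (fun t => ((Finset.univ.image θ.1).orderEmbOfFin h t : Fin n)) = θ.1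
  have := Finset.orderEmbOfFin_unique h (f := θ.1)
    (fun x => Finset.mem_image_of_mem _ (Finset.mem_univ x)) θ.2
  exact this.symm

end coord

section moving

variable (i j : Idx d n) (r : Fin d)

theorem mov_of_le (k : Fin (d + 1)) (hk : k.val ≤ r.val) :
    movingRows i j r k = i.1 ⟨k.val, lt_of_le_of_lt hk r.isLt⟩ := by
  unfold movingRows; rw [dif_pos hk]

theorem mov_of_gt (k : Fin (d + 1)) (hk : ¬ k.val ≤ r.val) :
    movingRows i j r k = j.1 ⟨k.val - 1, by have := k.isLt; omega⟩ := by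
  unfold movingRows; rw [dif_neg hk]

theorem mov_strictMono (h : i.1 r < j.1 r) : StrictMono (movingRows i j r) := by
  intro k l hkl
  have hkl' : k.val < l.val := hkl
  by_cases hl : l.val ≤ r.val
  · have hk : k.val ≤ r.val := by omega
    rw [mov_of_le i j r k hk, mov_of_le i j r l hl]
    exact i.2 (Fin.mk_lt_mk.2 hkl')
  · rw [mov_of_gt i j r l hl]
    by_cases hk : k.val ≤ r.val
    · rw [mov_of_le i j r k hk]
      calc i.1 ⟨k.val, _⟩ ≤ i.1 r := i.2.monotone (Fin.mk_le_of_le_val hk)
        _ < j.1 r := h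
        _ ≤ j.1 ⟨l.val - 1, _⟩ := j.2.monotone (Fin.le_def.2 (by simp only []; omega))
    · rw [mov_of_gt i j r k hk]
      exact j.2 (Fin.mk_lt_mk.2 (by omega))

/-- the initial segment of positions -/
def A0 : Finset (Fin (d + 1)) := Finset.Iic (Fin.castSucc r)

theorem card_A0 : (A0 r).card = r.val + 1 := by
  unfold A0; rw [Fin.card_Iic]; rfl

theorem mem_A0 (k : Fin (d + 1)) : k ∈ A0 r ↔ k.val ≤ r.val := by
  unfold A0; rw [Finset.mem_Iic]; exact Iff.rfl

theorem oe_A0 (h : (A0 r).card = r.val + 1) (u : Fin (r.val + 1)) :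
    ((A0 r).orderEmbOfFin h u).val = u.val := by
  have := Finset.orderEmbOfFin_unique h
    (f := fun u : Fin (r.val + 1) =>
      (⟨u.val, by have := u.2; have := r.2; omega⟩ : Fin (d + 1)))
    (fun x => by rw [mem_A0]; have := x.2; show x.val ≤ r.val; omega)
    (fun x y hxy => hxy)
  have h2 := congrFun this u
  rw [← h2]

theorem oe_A0c (h : ((A0 r)ᶜ).card = d - r.val) (u : Fin (d - r.val)) :
    (((A0 r)ᶜ).orderEmbOfFin h u).val = u.val + r.val + 1 := by
  have := Finset.orderEmbOfFin_unique h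
    (f := fun u : Fin (d - r.val) =>
      (⟨u.val + r.val + 1, by have := u.2; have := r.2; omega⟩ : Fin (d + 1)))
    (fun x => by
      rw [Finset.mem_compl, mem_A0]
      show ¬ (x.val + r.val + 1 ≤ r.val)
      omega)
    (fun x y hxy => by
      show x.val + r.val + 1 < y.val + r.val + 1
      have : x.val < y.val := hxy
      omega)
  have h2 := congrFun this u
  rw [← h2]

variable (A : Finset (Fin (d + 1))) (hA : A.card = r.val + 1)

theorem shuffleI_of_le (t : Fin d) (ht : t.val ≤ r.val) :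
    shuffleI i j r A hA t = movingRows i j r (A.orderEmbOfFin hA ⟨t.val, by omega⟩) := by
  unfold shuffleI; rw [dif_pos ht]

theorem shuffleI_of_gt (t : Fin d) (ht : ¬ t.val ≤ r.val) : shuffleI i j r A hA t = i.1 t := by
  unfold shuffleI; rw [dif_neg ht]

theorem shuffleJ_of_lt (t : Fin d) (ht : t.val < r.val) : shuffleJ i j r A hA t = j.1 t := by
  unfold shuffleJ; rw [dif_pos ht]

theorem shuffleJ_of_ge (t : Fin d) (ht : ¬ t.val < r.val) (hC : Aᶜ.card = d - r.val) :
    shuffleJ i j r A hA t = movingRows i j r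
      (Aᶜ.orderEmbOfFin hC ⟨t.val - r.val, by have := t.isLt; omega⟩) := by
  unfold shuffleJ; rw [dif_neg ht]

include hA in
theorem card_compl_A : Aᶜ.card = d - r.val := by
  rw [Finset.card_compl, hA, Fintype.card_fin]; have := r.2; omega

end moving

end Groth.Agent.H9.SMT
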