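import Mathlib
import Groth.Agent.Lib.Helper9.Misc.SmtA
set_option autoImplicit false
set_option linter.unusedSectionVars false
set_option linter.unusedVariables false

namespace Groth.Agent.H9.Shf

section multilinear

variable {K M N : Type*} [CommRing K] [AddCommGroup M] [Module K M] [AddCommGroup N] [Module K N]

theorem swap_adj {m : ℕ} (F : MultilinearMap K (fun _ : Fin m => M) N)
    (hadj : ∀ (v : Fin m → M) (p q : Fin m), p.val + 1 = q.val → v p = v q → F v = 0)
    (v : Fin m → M) (p q : Fin m) (hpq : p.val + 1 = q.val) :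
    F (v ∘ Equiv.swap p q) + F v = 0 := by
  have hne : p ≠ q := by intro h; rw [h] at hpq; omega
  rw [Equiv.comp_swap_eq_update]
  have hw : F (Function.update (Function.update v p (v p + v q)) q (v p + v q)) = 0 :=
    hadj _ p q hpq (by
      rw [Function.update_of_ne hne, Function.update_self, Function.update_self])
  rw [F.map_update_add] at hw
  have e1 : Function.update (Function.update v p (v p + v q)) q (v p) =
      Function.update (Function.update v q (v p)) p (v p + v q) :=
    Function.update_comm hne _ _ _
  have e2 : Function.update (Function.update v p (v p + v q)) q (v q) =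
      Function.update v p (v p + v q) := by
    funext z
    by_cases hz : z = q
    · subst hz
      rw [Function.update_self, Function.update_of_ne hne.symm]
    · rw [Function.update_of_ne hz]
  rw [e1, e2, F.map_update_add, F.map_update_add] at hw
  have z1 : F (Function.update (Function.update v q (v p)) p (v p)) = 0 :=
    hadj _ p q hpq (by
      rw [Function.update_self, Function.update_of_ne hne.symm, Function.update_self])
  have z2 : F (Function.update v p (v q)) = 0 :=
    hadj _ p q hpq (by
      rw [Function.update_self, Function.update_of_ne hne.symm])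
  have e3 : Function.update v p (v p) = v := Function.update_eq_self p v
  rw [z1, z2, e3, zero_add, add_zero] at hw
  exact hw

theorem alt_of_adj_aux {m : ℕ} (F : MultilinearMap K (fun _ : Fin m => M) N)
    (hadj : ∀ (v : Fin m → M) (p q : Fin m), p.val + 1 = q.val → v p = v q → F v = 0) :
    ∀ (k : ℕ) (v : Fin m → M) (p q : Fin m), p.val + 1 + k = q.val → v p = v q → F v = 0 := by
  intro k
  induction k with
  | zero => intro v p q hpq hv; exact hadj v p q (by omega) hv
  | succ k ih =>
    intro v p q hpq hv
    have hq' : q.val - 1 < m := by have := q.2; omega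
    have hq'q : (⟨q.val - 1, hq'⟩ : Fin m).val + 1 = q.val := by
      show q.val - 1 + 1 = q.val; omega
    have hsw := swap_adj F hadj v ⟨q.val - 1, hq'⟩ q hq'q
    have h0 : F (v ∘ Equiv.swap ⟨q.val - 1, hq'⟩ q) = 0 := by
      apply ih (v ∘ Equiv.swap ⟨q.val - 1, hq'⟩ q) p ⟨q.val - 1, hq'⟩
        (by show p.val + 1 + k = q.val - 1; omega)
      have hpq' : p ≠ ⟨q.val - 1, hq'⟩ := by
        intro h
        have := congrArg Fin.val h
        simp only [] at this
        omega
      have hpq2 : p ≠ q := by
        intro h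
        have := congrArg Fin.val h
        omega
      simp only [Function.comp, Equiv.swap_apply_of_ne_of_ne hpq' hpq2, Equiv.swap_apply_left]
      exact hv
    rw [h0, zero_add] at hsw
    exact hsw

theorem alt_of_adj {m : ℕ} (F : MultilinearMap K (fun _ : Fin m => M) N)
    (hadj : ∀ (v : Fin m → M) (p q : Fin m), p.val + 1 = q.val → v p = v q → F v = 0)
    (v : Fin m → M) (p q : Fin m) (hv : v p = v q) (hpq : p ≠ q) : F v = 0 := by
  rcases lt_or_gt_of_ne hpq with h | h
  · exact alt_of_adj_aux F hadj (q.val - p.val - 1) v p q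
      (by have : p.val < q.val := h; omega) hv
  · exact alt_of_adj_aux F hadj (p.val - q.val - 1) v q p
      (by have : q.val < p.val := h; omega) hv.symm

end multilinear

section swapsets

variable {N : ℕ}

theorem swap_val (p q z : Fin N) :
    (Equiv.swap p q z).val = if z.val = p.val then q.val else if z.val = q.val then p.val
      else z.val := by
  rw [Equiv.swap_apply_def]
  by_cases h1 : z = p
  · rw [if_pos h1, if_pos (congrArg Fin.val h1)]
  · have h1' : z.val ≠ p.val := fun h => h1 (Fin.ext h)
    rw [if_neg h1, if_neg h1']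
    by_cases h2 : z = q
    · rw [if_pos h2, if_pos (congrArg Fin.val h2)]
    · have h2' : z.val ≠ q.val := fun h => h2 (Fin.ext h)
      rw [if_neg h2, if_neg h2']

theorem card_image_swap (T : Finset (Fin N)) (p q : Fin N) :
    (T.image (Equiv.swap p q)).card = T.card :=
  Finset.card_image_of_injective _ (Equiv.swap p q).injective

theorem oe_image_swap {m : ℕ} (T : Finset (Fin N)) (hT : T.card = m) (p q : Fin N)
    (hpq : p.val + 1 = q.val) (hmix : ¬ (p ∈ T ∧ q ∈ T))
    (hT' : (T.image (Equiv.swap p q)).card = m) (u : Fin m) :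
    (T.image (Equiv.swap p q)).orderEmbOfFin hT' u =
      Equiv.swap p q (T.orderEmbOfFin hT u) := by
  have := Finset.orderEmbOfFin_unique hT'
    (f := fun u => Equiv.swap p q (T.orderEmbOfFin hT u))
    (fun x => Finset.mem_image_of_mem _ (Finset.orderEmbOfFin_mem T hT x))
    (by
      intro x y hxy
      show Equiv.swap p q (T.orderEmbOfFin hT x) < Equiv.swap p q (T.orderEmbOfFin hT y)
      have h1 : T.orderEmbOfFin hT x < T.orderEmbOfFin hT y :=
        (T.orderEmbOfFin hT).strictMono hxy
      have hx := Finset.orderEmbOfFin_mem T hT x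
      have hy := Finset.orderEmbOfFin_mem T hT y
      generalize T.orderEmbOfFin hT x = a at *
      generalize T.orderEmbOfFin hT y = b at *
      rw [Fin.lt_def, swap_val, swap_val]
      have hab : a.val < b.val := h1
      have f1 : a.val = p.val → b.val ≠ q.val := fun e1 e2 =>
        hmix ⟨(Fin.ext e1 : a = p) ▸ hx, (Fin.ext e2 : b = q) ▸ hy⟩
      split_ifs <;> omega)
  exact (congrFun this u).symm

theorem image_swap_compl (T : Finset (Fin N)) (p q : Fin N) :
    (T.image (Equiv.swap p q))ᶜ = Tᶜ.image (Equiv.swap p q) := by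
  ext z
  simp only [Finset.mem_compl, Finset.mem_image]
  constructor
  · intro h
    refine ⟨Equiv.swap p q z, ?_, Equiv.swap_apply_self p q z⟩
    intro hz
    exact h ⟨Equiv.swap p q z, hz, Equiv.swap_apply_self p q z⟩
  · rintro ⟨w, hw, rfl⟩ ⟨w', hw', he⟩
    exact hw ((Equiv.swap p q).injective he ▸ hw')

theorem image_swap_image_swap (T : Finset (Fin N)) (p q : Fin N) :
    (T.image (Equiv.swap p q)).image (Equiv.swap p q) = T := by
  rw [Finset.image_image]
  have : (Equiv.swap p q : Fin N → Fin N) ∘ (Equiv.swap p q) = id := by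
    funext z; exact Equiv.swap_apply_self p q z
  rw [this, Finset.image_id]

theorem mem_image_swap (T : Finset (Fin N)) (p q z : Fin N) :
    z ∈ T.image (Equiv.swap p q) ↔ Equiv.swap p q z ∈ T := by
  constructor
  · intro h
    obtain ⟨w, hw, rfl⟩ := Finset.mem_image.1 h
    rw [Equiv.swap_apply_self]; exact hw
  · intro h
    exact Finset.mem_image.2 ⟨_, h, Equiv.swap_apply_self p q z⟩

theorem image_swap_eq_self (T : Finset (Fin N)) (p q : Fin N)
    (h : p ∈ T ↔ q ∈ T) : T.image (Equiv.swap p q) = T := by
  ext z
  rw [mem_image_swap]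
  by_cases h1 : z = p
  · subst h1; rw [Equiv.swap_apply_left]; exact h.symm
  · by_cases h2 : z = q
    · subst h2; rw [Equiv.swap_apply_right]; exact h
    · rw [Equiv.swap_apply_of_ne_of_ne h1 h2]

theorem sum_image_swap (T : Finset (Fin N)) (p q : Fin N) (hpq : p.val + 1 = q.val)
    (hp : p ∈ T) (hq : q ∉ T) :
    ∑ a ∈ T.image (Equiv.swap p q), a.val = ∑ a ∈ T, a.val + 1 := by
  rw [Finset.sum_image (fun x _ y _ h => (Equiv.swap p q).injective h)]
  rw [← Finset.add_sum_erase T _ hp, ← Finset.add_sum_erase T (fun a => a.val) hp]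
  rw [Equiv.swap_apply_left]
  have : ∑ x ∈ T.erase p, (Equiv.swap p q x).val = ∑ x ∈ T.erase p, x.val := by
    apply Finset.sum_congr rfl
    intro x hx
    obtain ⟨hx1, hx2⟩ := Finset.mem_erase.1 hx
    have hxq : x ≠ q := fun h => hq (h ▸ hx2)
    rw [Equiv.swap_apply_of_ne_of_ne hx1 hxq]
  rw [this]
  omega

theorem sum_ge_of_card {r : ℕ} (T : Finset (Fin N)) (hT : T.card = r + 1) :
    r * (r + 1) / 2 ≤ ∑ a ∈ T, a.val := by
  rw [← Groth.Agent.H9.SMT.sum_orderEmbOfFin T hT (fun a => a.val)]
  have h1 : ∑ u : Fin (r + 1), u.val ≤ ∑ u : Fin (r + 1), (T.orderEmbOfFin hT u).val :=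
    Finset.sum_le_sum (fun u _ =>
      Groth.Agent.H9.SMT.le_of_strictMono _ (T.orderEmbOfFin hT).strictMono u)
  have h2 : ∑ u : Fin (r + 1), u.val = r * (r + 1) / 2 := by
    rw [Fin.sum_univ_eq_sum_range (fun i => i) (r + 1), Finset.sum_range_id, Nat.add_sub_cancel,
      mul_comm]
  omega

end swapsets

end Groth.Agent.H9.Shf
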