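import Mathlib
import Groth.Agent.Lib.Helper9.Misc.ShfA
import Groth.Agent.Lib.Helper9.Misc.PlkA
set_option autoImplicit false
set_option linter.unusedSectionVars false
set_option linter.unusedVariables false

namespace Groth.Agent.H9.Shf

open W4bk4grassmannian MvPolynomial
open Groth.Agent.H9.SMT (card_compl_A)

variable {d n : ℕ} (K : Type*) [CommRing K] (A : Matrix (Fin n) (Fin d) K) (i j : Idx d n)
  (r : Fin d)

/-- matrix with the first `r+1` rows given by `x` and the others from `i` -/
def rowsP (x : Fin (r.val + 1) → (Fin d → K)) : Matrix (Fin d) (Fin d) K :=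
  Matrix.of fun t => if h : t.val ≤ r.val then x ⟨t.val, Nat.lt_succ_of_le h⟩ else A (i.1 t)

/-- matrix with the first `r` rows from `j` and the others given by `y` -/
def rowsQ (y : Fin (d - r.val) → (Fin d → K)) : Matrix (Fin d) (Fin d) K :=
  Matrix.of fun t => if h : t.val < r.val then A (j.1 t)
    else y ⟨t.val - r.val, by have := t.isLt; omega⟩

theorem rowsP_row (x : Fin (r.val + 1) → (Fin d → K)) (u : Fin (r.val + 1)) :
    rowsP K A i r x ⟨u.val, lt_of_lt_of_le u.2 r.2⟩ = x u := by
  unfold rowsP
  show (if h : u.val ≤ r.val then x ⟨u.val, Nat.lt_succ_of_le h⟩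
    else A (i.1 ⟨u.val, lt_of_lt_of_le u.2 r.2⟩)) = x u
  rw [dif_pos (Nat.le_of_lt_succ u.2)]

theorem rowsQ_row (y : Fin (d - r.val) → (Fin d → K)) (u : Fin (d - r.val)) :
    rowsQ K A j r y ⟨u.val + r.val, by have := u.2; have := r.2; omega⟩ = y u := by
  unfold rowsQ
  show (if h : u.val + r.val < r.val then
      A (j.1 ⟨u.val + r.val, by have := u.2; have := r.2; omega⟩)
    else y ⟨u.val + r.val - r.val, by have := u.2; omega⟩) = y u
  rw [dif_neg (by omega)]
  congr 1
  apply Fin.ext
  show u.val + r.val - r.val = u.val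
  omega

theorem rowsP_update [DecidableEq (Fin (r.val + 1))] (x : Fin (r.val + 1) → (Fin d → K))
    (u : Fin (r.val + 1)) (z : Fin d → K) :
    rowsP K A i r (Function.update x u z) =
      (rowsP K A i r x).updateRow ⟨u.val, lt_of_lt_of_le u.2 r.2⟩ z := by
  ext t c
  rw [Matrix.updateRow_apply]
  unfold rowsP
  simp only [Matrix.of_apply]
  by_cases ht : t = ⟨u.val, lt_of_lt_of_le u.2 r.2⟩
  · rw [if_pos ht]
    have htv : t.val = u.val := congrArg Fin.val ht
    rw [dif_pos (by rw [htv]; exact Nat.le_of_lt_succ u.2)]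
    have : (⟨t.val, Nat.lt_succ_of_le (by rw [htv]; exact Nat.le_of_lt_succ u.2)⟩ :
        Fin (r.val + 1)) = u := Fin.ext htv
    rw [this, Function.update_self]
  · rw [if_neg ht]
    by_cases h : t.val ≤ r.val
    · rw [dif_pos h, dif_pos h]
      rw [Function.update_of_ne]
      intro hh
      apply ht
      apply Fin.ext
      have h2 := congrArg Fin.val hh
      exact h2
    · rw [dif_neg h, dif_neg h]

theorem rowsQ_update [DecidableEq (Fin (d - r.val))] (y : Fin (d - r.val) → (Fin d → K))
    (u : Fin (d - r.val)) (z : Fin d → K) :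
    rowsQ K A j r (Function.update y u z) =
      (rowsQ K A j r y).updateRow ⟨u.val + r.val, by have := u.2; have := r.2; omega⟩ z := by
  ext t c
  rw [Matrix.updateRow_apply]
  unfold rowsQ
  simp only [Matrix.of_apply]
  by_cases ht : t = ⟨u.val + r.val, by have := u.2; have := r.2; omega⟩
  · rw [if_pos ht]
    have htv : t.val = u.val + r.val := congrArg Fin.val ht
    rw [dif_neg (by rw [htv]; omega)]
    have : (⟨t.val - r.val, by have := t.isLt; omega⟩ : Fin (d - r.val)) = u :=
      Fin.ext (by show t.val - r.val = u.val; omega)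
    rw [this, Function.update_self]
  · rw [if_neg ht]
    by_cases h : t.val < r.val
    · rw [dif_pos h, dif_pos h]
    · rw [dif_neg h, dif_neg h]
      rw [Function.update_of_ne]
      intro hh
      apply ht
      apply Fin.ext
      have := congrArg Fin.val hh
      show t.val = u.val + r.val
      simp only [] at this
      omega

/-- `x ↦ det (rowsP x)` as a multilinear map -/
noncomputable def Pm : MultilinearMap K (fun _ : Fin (r.val + 1) => (Fin d → K)) K where
  toFun x := (rowsP K A i r x).det
  map_update_add' := by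
    intro _ x u y z
    simp only [rowsP_update]
    exact Matrix.det_updateRow_add _ _ _ _
  map_update_smul' := by
    intro _ x u c y
    simp only [rowsP_update]
    exact Matrix.det_updateRow_smul _ _ _ _

noncomputable def Qm : MultilinearMap K (fun _ : Fin (d - r.val) => (Fin d → K)) K where
  toFun y := (rowsQ K A j r y).det
  map_update_add' := by
    intro _ x u y z
    simp only [rowsQ_update]
    exact Matrix.det_updateRow_add _ _ _ _
  map_update_smul' := by
    intro _ x u c y
    simp only [rowsQ_update]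
    exact Matrix.det_updateRow_smul _ _ _ _

theorem Pm_apply (x : Fin (r.val + 1) → (Fin d → K)) : Pm K A i r x = (rowsP K A i r x).det := rfl

theorem Qm_apply (y : Fin (d - r.val) → (Fin d → K)) : Qm K A j r y = (rowsQ K A j r y).det := rfl

theorem Pm_alt (x : Fin (r.val + 1) → (Fin d → K)) (u u' : Fin (r.val + 1)) (hu : u ≠ u')
    (hx : x u = x u') : Pm K A i r x = 0 := by
  rw [Pm_apply]
  refine Matrix.det_zero_of_row_eq (i := ⟨u.val, lt_of_lt_of_le u.2 r.2⟩)
    (j := ⟨u'.val, lt_of_lt_of_le u'.2 r.2⟩) ?_ ?_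
  · intro h
    have h2 := congrArg Fin.val h
    exact hu (Fin.ext h2)
  · rw [rowsP_row, rowsP_row, hx]

theorem Qm_alt (y : Fin (d - r.val) → (Fin d → K)) (u u' : Fin (d - r.val)) (hu : u ≠ u')
    (hy : y u = y u') : Qm K A j r y = 0 := by
  rw [Qm_apply]
  refine Matrix.det_zero_of_row_eq
    (i := ⟨u.val + r.val, by have := u.2; have := r.2; omega⟩)
    (j := ⟨u'.val + r.val, by have := u'.2; have := r.2; omega⟩) ?_ ?_
  · intro h
    apply hu
    apply Fin.ext
    have := congrArg Fin.val h
    simp only [] at this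
    omega
  · rw [rowsQ_row, rowsQ_row, hy]

/-- the product multilinear map attached to a subset -/
noncomputable def GS (S : Finset (Fin (d + 1))) (hS : S.card = r.val + 1)
    (hC : Sᶜ.card = d - r.val) : MultilinearMap K (fun _ : Fin (d + 1) => (Fin d → K)) K :=
  (LinearMap.mul' K K).compMultilinearMap
    (((Pm K A i r).domCoprod (Qm K A j r)).domDomCongr (finSumEquivOfFinset hS hC))

theorem GS_apply (S : Finset (Fin (d + 1))) (hS : S.card = r.val + 1)
    (hC : Sᶜ.card = d - r.val) (v : Fin (d + 1) → (Fin d → K)) :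
    GS K A i j r S hS hC v = Pm K A i r (fun u => v (S.orderEmbOfFin hS u)) *
      Qm K A j r (fun u => v (Sᶜ.orderEmbOfFin hC u)) := by
  unfold GS
  rw [LinearMap.compMultilinearMap_apply, MultilinearMap.domDomCongr_apply,
    MultilinearMap.domCoprod_apply, LinearMap.mul'_apply]
  rfl

/-- the full shuffle multilinear map -/
noncomputable def Fm : MultilinearMap K (fun _ : Fin (d + 1) => (Fin d → K)) K :=
  ∑ S : Finset (Fin (d + 1)), if hS : S.card = r.val + 1 then
    ((-1 : K) ^ shuffleSign r S) • GS K A i j r S hS (card_compl_A r S hS) else 0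

/-- one term -/
noncomputable def term (v : Fin (d + 1) → (Fin d → K)) (S : Finset (Fin (d + 1))) : K :=
  if hS : S.card = r.val + 1 then
    (-1 : K) ^ shuffleSign r S * (Pm K A i r (fun u => v (S.orderEmbOfFin hS u)) *
      Qm K A j r (fun u => v (Sᶜ.orderEmbOfFin (card_compl_A r S hS) u))) else 0

theorem Fm_apply (v : Fin (d + 1) → (Fin d → K)) :
    Fm K A i j r v = ∑ S : Finset (Fin (d + 1)), term K A i j r v S := by
  unfold Fm
  rw [MultilinearMap.sum_apply]
  apply Finset.sum_congr rfl
  intro S _
  unfold term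
  split_ifs with hS
  · rw [MultilinearMap.smul_apply, GS_apply, smul_eq_mul]
  · rfl

end Groth.Agent.H9.Shf
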