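import Mathlib
import Groth.Agent.Lib.Helper9.Misc.ShfB
set_option autoImplicit false
set_option linter.unusedSectionVars false
set_option linter.unusedVariables false

namespace Groth.Agent.H9.Shf

open W4bk4grassmannian MvPolynomial
open Groth.Agent.H9.SMT (card_compl_A)

variable {d n : ℕ} (K : Type*) [CommRing K] (A : Matrix (Fin n) (Fin d) K) (i j : Idx d n)
  (r : Fin d)

theorem oe_congr {N m : ℕ} {T T' : Finset (Fin N)} (h : T = T') (hT : T.card = m)
    (hT' : T'.card = m) (u : Fin m) : T.orderEmbOfFin hT u = T'.orderEmbOfFin hT' u := by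
  subst h; rfl

theorem exists_oe_eq {N m : ℕ} (T : Finset (Fin N)) (hT : T.card = m) (z : Fin N) (hz : z ∈ T) :
    ∃ u, T.orderEmbOfFin hT u = z := by
  have : z ∈ Set.range (T.orderEmbOfFin hT) := by
    rw [Finset.range_orderEmbOfFin]; exact hz
  exact this

/-- a term vanishes when `p, q` are on the same side -/
theorem term_zero (v : Fin (d + 1) → (Fin d → K)) (p q : Fin (d + 1)) (hpq : p ≠ q)
    (hv : v p = v q) (S : Finset (Fin (d + 1))) (h : p ∈ S ↔ q ∈ S) :
    term K A i j r v S = 0 := by
  unfold term
  split_ifs with hS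
  · by_cases hp : p ∈ S
    · have hq := h.1 hp
      obtain ⟨u, hu⟩ := exists_oe_eq S hS p hp
      obtain ⟨u', hu'⟩ := exists_oe_eq S hS q hq
      have hne : u ≠ u' := by
        intro e; rw [e] at hu; exact hpq (hu.symm.trans hu')
      rw [Pm_alt K A i r _ u u' hne (by show v _ = v _; rw [hu, hu', hv]), zero_mul, mul_zero]
    · have hq : q ∉ S := fun hq => hp (h.2 hq)
      have hC := card_compl_A r S hS
      obtain ⟨u, hu⟩ := exists_oe_eq Sᶜ hC p (Finset.mem_compl.2 hp)
      obtain ⟨u', hu'⟩ := exists_oe_eq Sᶜ hC q (Finset.mem_compl.2 hq)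
      have hne : u ≠ u' := by
        intro e; rw [e] at hu; exact hpq (hu.symm.trans hu')
      rw [Qm_alt K A j r _ u u' hne (by show v _ = v _; rw [hu, hu', hv]), mul_zero, mul_zero]
  · rfl

/-- cancellation of the two terms of a mixed pair -/
theorem term_cancel (v : Fin (d + 1) → (Fin d → K)) (p q : Fin (d + 1))
    (hpq : p.val + 1 = q.val) (hv : v p = v q) (S : Finset (Fin (d + 1)))
    (hp : p ∈ S) (hq : q ∉ S) :
    term K A i j r v S + term K A i j r v (S.image (Equiv.swap p q)) = 0 := by
  have hvσ : ∀ z, v (Equiv.swap p q z) = v z := by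
    intro z
    by_cases h1 : z = p
    · subst h1; rw [Equiv.swap_apply_left]; exact hv.symm
    · by_cases h2 : z = q
      · subst h2; rw [Equiv.swap_apply_right]; exact hv
      · rw [Equiv.swap_apply_of_ne_of_ne h1 h2]
  unfold term
  by_cases hS : S.card = r.val + 1
  · have hS' : (S.image (Equiv.swap p q)).card = r.val + 1 := by
      rw [card_image_swap]; exact hS
    rw [dif_pos hS, dif_pos hS']
    have hC := card_compl_A r S hS
    have hC' := card_compl_A r _ hS'
    have e1 : (fun u => v ((S.image (Equiv.swap p q)).orderEmbOfFin hS' u)) =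
        fun u => v (S.orderEmbOfFin hS u) := by
      funext u
      rw [oe_image_swap S hS p q hpq (fun h => hq h.2) hS' u, hvσ]
    have hC'' : (Sᶜ.image (Equiv.swap p q)).card = d - r.val := by
      rw [card_image_swap]; exact hC
    have e2 : (fun u => v ((S.image (Equiv.swap p q))ᶜ.orderEmbOfFin hC' u)) =
        fun u => v (Sᶜ.orderEmbOfFin hC u) := by
      funext u
      rw [oe_congr (image_swap_compl S p q) hC' hC'' u,
        oe_image_swap Sᶜ hC p q hpq (fun h => (Finset.mem_compl.1 h.1) hp) hC'' u, hvσ]
    rw [e1, e2]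
    have hsign : shuffleSign r (S.image (Equiv.swap p q)) = shuffleSign r S + 1 := by
      unfold shuffleSign
      rw [sum_image_swap S p q hpq hp hq]
      have := sum_ge_of_card S hS
      omega
    rw [hsign, pow_succ]
    ring
  · have hS' : ¬ (S.image (Equiv.swap p q)).card = r.val + 1 := by
      rw [card_image_swap]; exact hS
    rw [dif_neg hS, dif_neg hS', add_zero]

theorem Fm_adj (v : Fin (d + 1) → (Fin d → K)) (p q : Fin (d + 1))
    (hpq : p.val + 1 = q.val) (hv : v p = v q) : Fm K A i j r v = 0 := by
  classical
  have hne : p ≠ q := by intro h; rw [h] at hpq; omega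
  rw [Fm_apply]
  apply Finset.sum_ninvolution (fun S => S.image (Equiv.swap p q))
  · intro S
    by_cases hp : p ∈ S
    · by_cases hq : q ∈ S
      · have h : p ∈ S ↔ q ∈ S := ⟨fun _ => hq, fun _ => hp⟩
        rw [image_swap_eq_self S p q h, term_zero K A i j r v p q hne hv S h, add_zero]
      · exact term_cancel K A i j r v p q hpq hv S hp hq
    · by_cases hq : q ∈ S
      · have hp' : p ∈ S.image (Equiv.swap p q) := by
          rw [mem_image_swap, Equiv.swap_apply_left]; exact hq
        have hq' : q ∉ S.image (Equiv.swap p q) := by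
          rw [mem_image_swap, Equiv.swap_apply_right]; exact hp
        have := term_cancel K A i j r v p q hpq hv _ hp' hq'
        rw [image_swap_image_swap] at this
        rw [add_comm]; exact this
      · have h : p ∈ S ↔ q ∈ S := ⟨fun h => absurd h hp, fun h => absurd h hq⟩
        rw [image_swap_eq_self S p q h, term_zero K A i j r v p q hne hv S h, add_zero]
  · intro S hS heq
    apply hS
    apply term_zero K A i j r v p q hne hv S
    constructor
    · intro hp
      have : q ∈ S.image (Equiv.swap p q) := by
        rw [mem_image_swap, Equiv.swap_apply_right]; exact hp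
      rwa [heq] at this
    · intro hq
      have : p ∈ S.image (Equiv.swap p q) := by
        rw [mem_image_swap, Equiv.swap_apply_left]; exact hq
      rwa [heq] at this
  · intro S; exact Finset.mem_univ _
  · intro S; exact image_swap_image_swap S p q

/-- the shuffle map as an alternating map -/
noncomputable def Falt : (Fin d → K) [⋀^Fin (d + 1)]→ₗ[K] K :=
  { Fm K A i j r with
    map_eq_zero_of_eq' := fun v a b hv hab =>
      alt_of_adj (Fm K A i j r) (Fm_adj K A i j r) v a b hv hab }

theorem Fm_eq_zero (F : Type*) [Field F] (A : Matrix (Fin n) (Fin d) F) (i j : Idx d n)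
    (r : Fin d) (v : Fin (d + 1) → (Fin d → F)) : Fm F A i j r v = 0 := by
  have hdep : ¬ LinearIndependent F v := by
    intro h
    have := h.fintype_card_le_finrank
    rw [Fintype.card_fin, Module.finrank_fin_fun] at this
    omega
  exact (Falt F A i j r).map_linearDependent v hdep

end Groth.Agent.H9.Shf
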