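import Mathlib
import Groth.Agent.Lib.Helper9.Misc.ShfC
set_option autoImplicit false
set_option linter.unusedSectionVars false
set_option linter.unusedVariables false

namespace Groth.Agent.H9.Shf

open W4bk4grassmannian MvPolynomial

variable {d n : ℕ} (F : Type*) [Field F]

theorem evalMinors_coord (A : Matrix (Fin n) (Fin d) F) (a : Fin d → Fin n) :
    evalMinors F d n A (coord F d n a) = (A.submatrix a id).det := by
  have := Groth.Agent.H9.Plk.EC_minors F A a
  unfold Groth.Agent.H9.Plk.EC at this
  exact this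

theorem evalMinors_X (A : Matrix (Fin n) (Fin d) F) (θ : Idx d n) :
    evalMinors F d n A (X θ) = (A.submatrix θ.1 id).det := by
  unfold evalMinors
  rw [aeval_X]

theorem evalMinors_shuffleRel (A : Matrix (Fin n) (Fin d) F) (i j : Idx d n) (r : Fin d) :
    evalMinors F d n A (shuffleRel F i j r) = 0 := by
  have hF := Fm_eq_zero F A i j r (fun k => A (movingRows i j r k))
  rw [Fm_apply] at hF
  rw [← hF]
  unfold shuffleRel
  rw [map_sum]
  apply Finset.sum_congr rfl
  intro S _
  unfold shuffleTerm term
  split_ifs with hS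
  · rw [map_mul, map_mul, map_pow, map_neg, map_one, evalMinors_coord, evalMinors_coord,
      Pm_apply, Qm_apply, mul_assoc]
    congr 2
    · congr 1
      ext t c
      unfold rowsP shuffleI
      simp only [Matrix.submatrix_apply, Matrix.of_apply, id]
      split_ifs <;> rfl
    · congr 1
      ext t c
      unfold rowsQ shuffleJ
      simp only [Matrix.submatrix_apply, Matrix.of_apply, id]
      split_ifs <;> rfl
  · rw [map_zero]

theorem mem_vanishing_iff (f : PlRing F d n) :
    f ∈ vanishing F d n ↔ ∀ A : Matrix (Fin n) (Fin d) F, evalMinors F d n A f = 0 := by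
  unfold vanishing
  rw [Ideal.mem_iInf]
  exact Iff.rfl

theorem mem_schubertVanishing_iff (τ : Idx d n) (f : PlRing F d n) :
    f ∈ schubertVanishing F d n τ ↔ ∀ A : Matrix (Fin n) (Fin d) F,
      (∀ φ : Idx d n, ¬ φ ≤ τ → (A.submatrix φ.1 id).det = 0) → evalMinors F d n A f = 0 := by
  unfold schubertVanishing
  rw [Ideal.mem_iInf]
  constructor
  · intro h A hA
    have := h A
    rw [Ideal.mem_iInf] at this
    exact this hA
  · intro h A
    rw [Ideal.mem_iInf]
    intro hA
    exact h A hA

theorem plIdealTop_le_vanishing : plIdealTop (d := d) (n := n) F ≤ vanishing F d n := by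
  unfold plIdealTop
  rw [Ideal.span_le]
  rintro f ⟨i, j, r, -, rfl⟩
  rw [SetLike.mem_coe, mem_vanishing_iff]
  intro A
  exact evalMinors_shuffleRel F A i j r

theorem vanishing_le_schubert (τ : Idx d n) : vanishing F d n ≤ schubertVanishing F d n τ := by
  intro f hf
  rw [mem_vanishing_iff] at hf
  rw [mem_schubertVanishing_iff]
  intro A _
  exact hf A

theorem plIdealTop_le_schubert (τ : Idx d n) :
    plIdealTop (d := d) (n := n) F ≤ schubertVanishing F d n τ :=
  le_trans (plIdealTop_le_vanishing F) (vanishing_le_schubert F τ)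

theorem X_mem_schubert (τ φ : Idx d n) (hφ : ¬ φ ≤ τ) : (X φ : PlRing F d n) ∈
    schubertVanishing F d n τ := by
  rw [mem_schubertVanishing_iff]
  intro A hA
  rw [evalMinors_X]
  exact hA φ hφ

theorem plIdeal_le_schubert (τ : Idx d n) : plIdeal F τ ≤ schubertVanishing F d n τ := by
  unfold plIdeal
  rw [Ideal.span_le]
  rintro f (⟨i, j, r, hp, rfl⟩ | ⟨φ, hφ, rfl⟩)
  · exact plIdealTop_le_schubert F τ (Ideal.subset_span ⟨i, j, r, hp, rfl⟩)
  · exact X_mem_schubert F τ φ hφ

theorem plIdealTop_le_plIdeal (τ : Idx d n) : plIdealTop (d := d) (n := n) F ≤ plIdeal F τ := by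
  unfold plIdealTop plIdeal
  apply Ideal.span_mono
  exact Set.subset_union_left

end Groth.Agent.H9.Shf
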