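import Mathlib
import Groth.Prelude.Def_W4bk4grassmannianPl
import Groth.Agent.Lib.Helper9.Misc.LdtB
import Groth.Agent.Lib.Helper9.Misc.ShfD
set_option autoImplicit false
set_option linter.unusedSectionVars false
set_option linter.unusedVariables false

namespace Groth.Agent.H9.Ldt

open MvPolynomial W4bk4grassmannian

section general

variable {σ : Type*} (m : MonomialOrder σ) {K : Type*} [CommRing K] [Nontrivial K]

theorem coeff_zero_of_sum {ι : Type*} (f : ι → MvPolynomial σ K) (P : ι → Prop)
    (hmonic : ∀ i, P i → m.Monic (f i)) (hzero : ∀ i, ¬ P i → f i = 0)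
    (hinj : ∀ i j, P i → P j → m.degree (f i) = m.degree (f j) → i = j)
    (s : Finset ι) (g : ι → K) (hsum : ∑ i ∈ s, g i • f i = 0) : ∀ i ∈ s, P i → g i = 0 := by
  classical
  intro i1 hi1 hP1
  by_contra hgi1
  have hs' : (s.filter (fun i => P i ∧ g i ≠ 0)).Nonempty :=
    ⟨i1, Finset.mem_filter.2 ⟨hi1, hP1, hgi1⟩⟩
  obtain ⟨i0, hi0, hmax⟩ := Finset.exists_max_image (s.filter (fun i => P i ∧ g i ≠ 0))
    (fun i => m.toSyn (m.degree (f i))) hs'
  have hP0 := (Finset.mem_filter.1 hi0).2.1
  have hc : (∑ i ∈ s, g i • f i).coeff (m.degree (f i0)) = g i0 := by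
    rw [MvPolynomial.coeff_sum]
    rw [Finset.sum_eq_single i0]
    · rw [MvPolynomial.coeff_smul, (hmonic i0 hP0).coeff_degree, smul_eq_mul, mul_one]
    · intro i hi hne
      rw [MvPolynomial.coeff_smul]
      by_cases hPi : P i
      · by_cases hgi : g i = 0
        · rw [hgi, zero_smul]
        · have hi' : i ∈ s.filter (fun i => P i ∧ g i ≠ 0) :=
            Finset.mem_filter.2 ⟨hi, hPi, hgi⟩
          have hle := hmax i hi'
          have hlt : m.toSyn (m.degree (f i)) < m.toSyn (m.degree (f i0)) :=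
            lt_of_le_of_ne hle (fun h => hne (hinj i i0 hPi hP0 (m.toSyn.injective h)))
          rw [m.coeff_eq_zero_of_lt hlt, smul_zero]
      · rw [hzero i hPi, MvPolynomial.coeff_zero, smul_zero]
    · intro h; exact absurd (Finset.mem_filter.1 hi0).1 h
  rw [hsum, MvPolynomial.coeff_zero] at hc
  exact (Finset.mem_filter.1 hi0).2.2 hc.symm

end general

/-- chains of arbitrary length -/
abbrev Ch (d n : ℕ) : Type := Σ m : ℕ, {c : Fin m → Idx d n // Antitone c}

section chains

variable {K : Type*} [Field K] {d n : ℕ} {σ : Type*} [LinearOrder σ] [WellFoundedGT σ]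
  (v : Fin n → Fin d → σ)
  (hv : ∀ s t s' t', v s t < v s' t' ↔ s < s' ∨ (s = s' ∧ t < t'))
  (hsurj : ∀ j : σ, ∃ s t, j = v s t)
  (lo hi : Fin d → Fin n)

variable (K) in
noncomputable def Phi : PlRing K d n →ₐ[K] MvPolynomial σ K :=
  MvPolynomial.aeval fun θ : Idx d n => ((G K v lo hi).submatrix θ.1 id).det

theorem Phi_X (θ : Idx d n) :
    Phi K v lo hi (X θ) = ((G K v lo hi).submatrix θ.1 id).det := by
  unfold Phi; rw [aeval_X]

theorem Phi_chainMon {m : ℕ} (c : Fin m → Idx d n) :
    Phi K v lo hi (chainMon K c) = ∏ k, ((G K v lo hi).submatrix (c k).1 id).det := by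
  unfold chainMon
  rw [map_prod]
  apply Finset.prod_congr rfl
  intro k _
  rw [Phi_X]

def Fits (x : Ch d n) : Prop := ∀ k t, lo t ≤ (x.2.1 k).1 t ∧ (x.2.1 k).1 t ≤ hi t

noncomputable def E (x : Ch d n) : σ →₀ ℕ := ∑ k : Fin x.1, mon v (x.2.1 k).1

include hv in
theorem E_apply (x : Ch d n) (a : Fin n) (t0 : Fin d) :
    E v x (v a t0) = (Finset.univ.filter (fun k : Fin x.1 => (x.2.1 k).1 t0 = a)).card := by
  classical
  unfold E
  rw [Finsupp.finsetSum_apply, Finset.card_filter]
  apply Finset.sum_congr rfl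
  intro k _
  rw [mon_apply v hv]

include hv in
theorem E_injective (hd : 0 < d) : Function.Injective (E (d := d) (n := n) v) := by
  classical
  rintro ⟨m, c, hc⟩ ⟨m', c', hc'⟩ h
  have hcount : ∀ a t0, (Finset.univ.filter (fun k : Fin m => (c k).1 t0 = a)).card =
      (Finset.univ.filter (fun k : Fin m' => (c' k).1 t0 = a)).card := by
    intro a t0
    have h1 := DFunLike.congr_fun h (v a t0)
    rw [E_apply v hv, E_apply v hv] at h1
    exact h1
  have hlen : ∀ (m : ℕ) (c : Fin m → Idx d n),
      m = ∑ a : Fin n, (Finset.univ.filter (fun k : Fin m => (c k).1 ⟨0, hd⟩ = a)).card := by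
    intro m c
    have := Finset.card_eq_sum_card_fiberwise (s := (Finset.univ : Finset (Fin m)))
      (t := (Finset.univ : Finset (Fin n))) (f := fun k => (c k).1 ⟨0, hd⟩)
      (fun x _ => Finset.mem_coe.2 (Finset.mem_univ _))
    rw [Finset.card_univ, Fintype.card_fin] at this
    exact this
  have hm : m = m' := by
    rw [hlen m c, hlen m' c']
    apply Finset.sum_congr rfl
    intro a _
    exact hcount a _
  subst hm
  have hcc : c = c' := by
    funext k
    apply Subtype.ext
    funext t
    have := antitone_eq_of_count (fun k => (c k).1 t) (fun k => (c' k).1 t)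
      (fun a b hab => hc hab t) (fun a b hab => hc' hab t) (fun a => hcount a t)
    exact congrFun this k
  subst hcc
  rfl

include hv hsurj in
theorem degree_Phi_chain (x : Ch d n) (hx : Fits lo hi x) :
    MonomialOrder.lex.degree (Phi K v lo hi (chainMon K x.2.1)) = E v x ∧
      MonomialOrder.lex.Monic (Phi K v lo hi (chainMon K x.2.1)) := by
  rw [Phi_chainMon]
  have h := fun k : Fin x.1 =>
    degree_minor (K := K) v hv hsurj lo hi (x.2.1 k).1 (x.2.1 k).2 (hx k)
  constructor
  · rw [MonomialOrder.degree_prod]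
    · unfold E
      apply Finset.sum_congr rfl
      intro k _
      exact (h k).1
    · intro k _
      exact (h k).2.ne_zero
  · apply MonomialOrder.Monic.prod
    intro k _
    exact (h k).2

theorem Phi_chain_eq_zero (hlo : Monotone lo) (hhi : Monotone hi) (x : Ch d n)
    (hx : ¬ Fits lo hi x) : Phi K v lo hi (chainMon K x.2.1) = 0 := by
  rw [Phi_chainMon]
  unfold Fits at hx
  obtain ⟨k, hk⟩ := not_forall.1 hx
  apply Finset.prod_eq_zero (Finset.mem_univ k)
  by_cases h1 : ∀ t, (x.2.1 k).1 t ≤ hi t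
  · apply minor_eq_zero_of_not_ge v lo hi hlo _ (x.2.1 k).2
    intro h2
    exact hk (fun t => ⟨h2 t, h1 t⟩)
  · exact minor_eq_zero_of_not_le v lo hi hhi _ (x.2.1 k).2 h1

include hv hsurj in
theorem coeff_zero_of_Phi (hd : 0 < d) (hlo : Monotone lo) (hhi : Monotone hi) {ι : Type*}
    (c : ι → Ch d n) (hc : Function.Injective c) (s : Finset ι) (g : ι → K)
    (hsum : Phi K v lo hi (∑ i ∈ s, g i • chainMon K (c i).2.1) = 0) :
    ∀ i ∈ s, Fits lo hi (c i) → g i = 0 := by
  apply coeff_zero_of_sum MonomialOrder.lex (fun i => Phi K v lo hi (chainMon K (c i).2.1))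
    (fun i => Fits lo hi (c i))
  · intro i hi'; exact (degree_Phi_chain v hv hsurj lo hi (c i) hi').2
  · intro i hi'; exact Phi_chain_eq_zero v lo hi hlo hhi (c i) hi'
  · intro i j hi' hj h
    rw [(degree_Phi_chain v hv hsurj lo hi (c i) hi').1,
      (degree_Phi_chain v hv hsurj lo hi (c j) hj).1] at h
    exact hc (E_injective v hv hd h)
  · rw [map_sum] at hsum
    simp only [map_smul] at hsum
    exact hsum

theorem eval_Phi (a : σ → K) (f : PlRing K d n) :
    MvPolynomial.eval a (Phi K v lo hi f) =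
      evalMinors K d n ((G K v lo hi).map (MvPolynomial.eval a)) f := by
  induction f using MvPolynomial.induction_on with
  | C r => simp [Phi, evalMinors]
  | add p q hp hq => rw [map_add, map_add, map_add, hp, hq]
  | mul_X p θ hp =>
    rw [map_mul, map_mul, map_mul, hp, Phi_X, Shf.evalMinors_X, RingHom.map_det]
    rfl

theorem Phi_eq_zero_of_mem_schubert [Infinite K] (τ : Idx d n) {f : PlRing K d n}
    (hf : f ∈ schubertVanishing K d n τ) : Phi K v lo τ.1 f = 0 := by
  apply MvPolynomial.funext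
  intro a
  rw [eval_Phi, map_zero]
  rw [Shf.mem_schubertVanishing_iff] at hf
  apply hf
  intro φ hφ
  have h0 : ((G K v lo τ.1).submatrix φ.1 id).det = 0 :=
    minor_eq_zero_of_not_le v lo τ.1 τ.2.monotone φ.1 φ.2 hφ
  have := congrArg (MvPolynomial.eval a) h0
  rw [RingHom.map_det, map_zero] at this
  exact this

end chains

end Groth.Agent.H9.Ldt
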