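import Mathlib
import Groth.Agent.Lib.Helper9.Misc.SmtA
set_option autoImplicit false
set_option linter.unusedSectionVars false
set_option linter.unusedVariables false

namespace Groth.Agent.H9.SMT

open W4bk4grassmannian MvPolynomial

variable {d n : ℕ}

section sums

variable (i j : Idx d n) (r : Fin d) (A : Finset (Fin (d + 1))) (hA : A.card = r.val + 1)

def I' (i : Idx d n) : Fin d → ℕ := fun t => ((i.1 t : Fin n) : ℕ)

def MV : Fin (d + 1) → ℕ := fun k => ((movingRows i j r k : Fin n) : ℕ)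

theorem L1 : ∑ t : Fin d, ((shuffleI i j r A hA t : Fin n) : ℕ) =
    ∑ a ∈ A, MV i j r a + ∑ t ∈ Finset.Ico (r.val + 1) d, ext0 (I' i) t := by
  rw [sum_ext0, ← Finset.sum_range_add_sum_Ico _ (show r.val + 1 ≤ d from r.2)]
  congr 1
  · rw [← sum_orderEmbOfFin A hA (MV i j r), sum_ext0]
    apply Finset.sum_congr rfl
    intro t ht
    have ht' : t < r.val + 1 := Finset.mem_range.1 ht
    have htd : t < d := lt_of_lt_of_le ht' r.2
    rw [ext0_of_lt _ t htd, ext0_of_lt _ t ht']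
    beta_reduce
    rw [shuffleI_of_le i j r A hA ⟨t, htd⟩ (by show t ≤ r.val; omega)]
    rfl
  · apply Finset.sum_congr rfl
    intro t ht
    obtain ⟨h1, h2⟩ := Finset.mem_Ico.1 ht
    rw [ext0_of_lt _ t h2, ext0_of_lt _ t h2]
    beta_reduce
    rw [shuffleI_of_gt i j r A hA ⟨t, h2⟩ (by show ¬ t ≤ r.val; omega)]
    rfl

theorem L2 (hC : Aᶜ.card = d - r.val) : ∑ t : Fin d, ((shuffleJ i j r A hA t : Fin n) : ℕ) =
    ∑ t ∈ Finset.range r.val, ext0 (I' j) t + ∑ a ∈ Aᶜ, MV i j r a := by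
  rw [sum_ext0, ← Finset.sum_range_add_sum_Ico _ (le_of_lt r.2)]
  congr 1
  · apply Finset.sum_congr rfl
    intro t ht
    have ht' : t < r.val := Finset.mem_range.1 ht
    have htd : t < d := lt_trans ht' r.2
    rw [ext0_of_lt _ t htd, ext0_of_lt _ t htd]
    beta_reduce
    rw [shuffleJ_of_lt i j r A hA ⟨t, htd⟩ ht']
    rfl
  · rw [← sum_orderEmbOfFin Aᶜ hC (MV i j r), sum_ext0, Finset.sum_Ico_eq_sum_range]
    apply Finset.sum_congr rfl
    intro u hu
    have hu' : u < d - r.val := Finset.mem_range.1 hu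
    have hud : r.val + u < d := by omega
    rw [ext0_of_lt _ _ hud, ext0_of_lt _ u hu']
    beta_reduce
    rw [shuffleJ_of_ge i j r A hA ⟨r.val + u, hud⟩ (by show ¬ r.val + u < r.val; omega) hC]
    simp only [Nat.add_sub_cancel_left]
    rfl

theorem L3 : ∑ k : Fin (d + 1), MV i j r k =
    ∑ t ∈ Finset.range (r.val + 1), ext0 (I' i) t + ∑ t ∈ Finset.Ico r.val d, ext0 (I' j) t := by
  rw [sum_ext0, ← Finset.sum_range_add_sum_Ico _ (show r.val + 1 ≤ d + 1 by have := r.2; omega)]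
  congr 1
  · apply Finset.sum_congr rfl
    intro t ht
    have ht' : t < r.val + 1 := Finset.mem_range.1 ht
    have htd : t < d := lt_of_lt_of_le ht' r.2
    rw [ext0_of_lt _ t (by omega : t < d + 1), ext0_of_lt _ t htd]
    unfold MV I'
    rw [mov_of_le i j r ⟨t, by omega⟩ (by show t ≤ r.val; omega)]
  · rw [Finset.sum_Ico_eq_sum_range, Finset.sum_Ico_eq_sum_range, Nat.add_sub_add_right]
    apply Finset.sum_congr rfl
    intro u hu
    have hu' : u < d - r.val := Finset.mem_range.1 hu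
    rw [ext0_of_lt _ _ (by omega : r.val + 1 + u < d + 1),
      ext0_of_lt _ _ (by omega : r.val + u < d)]
    unfold MV I'
    rw [mov_of_gt i j r ⟨r.val + 1 + u, by omega⟩ (by show ¬ r.val + 1 + u ≤ r.val; omega)]
    have hcg : ∀ (a b : Fin d), a.val = b.val → ((j.1 a : Fin n) : ℕ) = ((j.1 b : Fin n) : ℕ) :=
      fun a b h => by rw [Fin.ext h]
    exact hcg _ _ (by show r.val + 1 + u - 1 = r.val + u; omega)

theorem conserve (hC : Aᶜ.card = d - r.val) :
    ∑ t : Fin d, ((shuffleI i j r A hA t : Fin n) : ℕ) +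
      ∑ t : Fin d, ((shuffleJ i j r A hA t : Fin n) : ℕ) = wt i + wt j := by
  rw [L1 i j r A hA, L2 i j r A hA hC]
  have h3 := L3 i j r
  have h4 := Finset.sum_add_sum_compl A (MV i j r)
  have hi : wt i = ∑ t ∈ Finset.range (r.val + 1), ext0 (I' i) t +
      ∑ t ∈ Finset.Ico (r.val + 1) d, ext0 (I' i) t := by
    unfold wt
    rw [sum_ext0 (fun t => ((i.1 t : Fin n) : ℕ)),
      Finset.sum_range_add_sum_Ico _ (show r.val + 1 ≤ d from r.2)]
    rfl
  have hj : wt j = ∑ t ∈ Finset.range r.val, ext0 (I' j) t +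
      ∑ t ∈ Finset.Ico r.val d, ext0 (I' j) t := by
    unfold wt
    rw [sum_ext0 (fun t => ((j.1 t : Fin n) : ℕ)),
      Finset.sum_range_add_sum_Ico _ (le_of_lt r.2)]
    rfl
  omega

theorem exists_lt_oe (hne : A ≠ A0 r) :
    ∃ u : Fin (r.val + 1), u.val < (A.orderEmbOfFin hA u).val := by
  by_contra hcon
  push Not at hcon
  have heq : ∀ u : Fin (r.val + 1), (A.orderEmbOfFin hA u).val = u.val := fun u =>
    le_antisymm (hcon u) (le_of_strictMono _ (A.orderEmbOfFin hA).strictMono u)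
  apply hne
  ext k
  rw [mem_A0]
  constructor
  · intro hk
    have : k ∈ Set.range (A.orderEmbOfFin hA) := by
      rw [Finset.range_orderEmbOfFin]; exact hk
    obtain ⟨u, rfl⟩ := this
    rw [heq u]; have := u.2; omega
  · intro hk
    have h1 : A.orderEmbOfFin hA ⟨k.val, by omega⟩ = k := Fin.ext (heq _)
    rw [← h1]; exact Finset.orderEmbOfFin_mem A hA _

theorem wt_lt_sumI (hp : i.1 r < j.1 r) (hne : A ≠ A0 r) :
    wt i < ∑ t : Fin d, ((shuffleI i j r A hA t : Fin n) : ℕ) := by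
  unfold wt
  have hmono := mov_strictMono i j r hp
  have key : ∀ t : Fin d, ∀ ht : t.val ≤ r.val,
      movingRows i j r ⟨t.val, by have := t.2; omega⟩ = i.1 t := by
    intro t ht; rw [mov_of_le i j r _ ht]
  apply Finset.sum_lt_sum
  · intro t _
    by_cases ht : t.val ≤ r.val
    · rw [shuffleI_of_le i j r A hA t ht, ← key t ht]
      exact Fin.le_def.1 (hmono.monotone (Fin.le_def.2
        (le_of_strictMono _ (A.orderEmbOfFin hA).strictMono ⟨t.val, by omega⟩)))
    · rw [shuffleI_of_gt i j r A hA t ht]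
  · obtain ⟨u, hu⟩ := exists_lt_oe r A hA hne
    have hud : u.val < d := lt_of_lt_of_le u.2 r.2
    refine ⟨⟨u.val, hud⟩, Finset.mem_univ _, ?_⟩
    have ht : (⟨u.val, hud⟩ : Fin d).val ≤ r.val := by
      have := u.2; show u.val ≤ r.val; omega
    rw [shuffleI_of_le i j r A hA ⟨u.val, hud⟩ ht, ← key ⟨u.val, hud⟩ ht]
    exact Fin.lt_def.1 (hmono (Fin.lt_def.2 hu))

end sums

section terms

variable (K : Type*) [CommRing K] (i j : Idx d n) (r : Fin d)

theorem shuffleI_A0 (h : (A0 r).card = r.val + 1) : shuffleI i j r (A0 r) h = i.1 := by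
  funext t
  by_cases ht : t.val ≤ r.val
  · rw [shuffleI_of_le i j r (A0 r) h t ht]
    have hv : ((A0 r).orderEmbOfFin h ⟨t.val, by omega⟩).val = t.val := oe_A0 r h ⟨t.val, by omega⟩
    rw [mov_of_le i j r _ (by rw [hv]; exact ht)]
    have hcg : ∀ (a b : Fin d), a.val = b.val → i.1 a = i.1 b :=
      fun a b h => by rw [Fin.ext h]
    exact hcg _ _ hv
  · rw [shuffleI_of_gt i j r (A0 r) h t ht]

theorem shuffleJ_A0 (h : (A0 r).card = r.val + 1) : shuffleJ i j r (A0 r) h = j.1 := by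
  funext t
  by_cases ht : t.val < r.val
  · rw [shuffleJ_of_lt i j r (A0 r) h t ht]
  · have hC := card_compl_A r (A0 r) h
    rw [shuffleJ_of_ge i j r (A0 r) h t ht hC]
    have hv : (((A0 r)ᶜ).orderEmbOfFin hC ⟨t.val - r.val, by have := t.2; omega⟩).val =
        t.val - r.val + r.val + 1 := oe_A0c r hC ⟨t.val - r.val, by have := t.2; omega⟩
    rw [mov_of_gt i j r _ (by rw [hv]; omega)]
    have hcg : ∀ (a b : Fin d), a.val = b.val → j.1 a = j.1 b :=
      fun a b h => by rw [Fin.ext h]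
    refine hcg _ _ ?_
    show (((A0 r)ᶜ).orderEmbOfFin hC ⟨t.val - r.val, _⟩).val - 1 = t.val
    rw [hv]
    omega

theorem term_A0 : shuffleTerm K i j r (A0 r) =
    (-1) ^ shuffleSign r (A0 r) * (X i * X j) := by
  unfold shuffleTerm
  rw [dif_pos (card_A0 r), shuffleI_A0, shuffleJ_A0, coord_mono, coord_mono, mul_assoc]

theorem term_form (hp : i.1 r < j.1 r) (A : Finset (Fin (d + 1))) (hne : A ≠ A0 r) :
    shuffleTerm K i j r A = 0 ∨ ∃ (θ1 θ2 : Idx d n) (e : ℕ),
      shuffleTerm K i j r A = (-1) ^ e * (X θ1 * X θ2) ∧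
        wt θ1 + wt θ2 = wt i + wt j ∧ wt i < wt θ1 := by
  unfold shuffleTerm
  by_cases hA : A.card = r.val + 1
  · rw [dif_pos hA]
    rcases coord_pm K (shuffleI i j r A hA) with h1 | ⟨θ1, e1, h1, hw1⟩
    · left; rw [h1, mul_zero, zero_mul]
    rcases coord_pm K (shuffleJ i j r A hA) with h2 | ⟨θ2, e2, h2, hw2⟩
    · left; rw [h2, mul_zero]
    right
    refine ⟨θ1, θ2, shuffleSign r A + e1 + e2, ?_, ?_, ?_⟩
    · rw [h1, h2, pow_add, pow_add]; ring
    · rw [hw1, hw2]; exact conserve i j r A hA (card_compl_A r A hA)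
    · rw [hw1]; exact wt_lt_sumI i j r A hA hp hne
  · left; rw [dif_neg hA]

end terms

end Groth.Agent.H9.SMT
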