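import Mathlib
import Groth.Prelude.Def_W4bk4grassmannianPl
import Groth.Agent.Lib.Helper9.Misc.LdtC
import Groth.Agent.Lib.Helper9.Misc.SmtC
set_option autoImplicit false
set_option linter.unusedSectionVars false
set_option linter.unusedVariables false

namespace Groth.Agent.H9.Ldt

open MvPolynomial W4bk4grassmannian

section concrete

variable (K : Type*) [Field K] {d n : ℕ}

/-- the variables `x_{s,t}`, ordered lexicographically (row first) -/
abbrev V (n d : ℕ) : Type := Lex (Fin n × Fin d)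

def vv (n d : ℕ) : Fin n → Fin d → V n d := fun s t => toLex (s, t)

theorem vv_lt (s : Fin n) (t : Fin d) (s' : Fin n) (t' : Fin d) :
    vv n d s t < vv n d s' t' ↔ s < s' ∨ (s = s' ∧ t < t') := Prod.Lex.toLex_lt_toLex

theorem vv_surj (j : V n d) : ∃ s t, j = vv n d s t := ⟨(ofLex j).1, (ofLex j).2, rfl⟩

/-- evaluation of Plücker polynomials at the minors of the generic matrix of shape `[lo, hi]` -/
noncomputable def Psi (lo hi : Fin d → Fin n) : PlRing K d n →ₐ[K] MvPolynomial (V n d) K :=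
  Phi K (vv n d) lo hi

theorem Psi_schubert [Infinite K] (lo : Fin d → Fin n) (τ : Idx d n) {f : PlRing K d n}
    (hf : f ∈ schubertVanishing K d n τ) : Psi K lo τ.1 f = 0 :=
  Phi_eq_zero_of_mem_schubert (vv n d) lo τ hf

theorem Psi_coeff_zero (hd : 0 < d) (lo hi : Fin d → Fin n) (hlo : Monotone lo)
    (hhi : Monotone hi) {ι : Type*} (c : ι → Ch d n) (hc : Function.Injective c)
    (s : Finset ι) (g : ι → K)
    (hsum : Psi K lo hi (∑ i ∈ s, g i • chainMon K (c i).2.1) = 0) :
    ∀ i ∈ s, Fits lo hi (c i) → g i = 0 :=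
  coeff_zero_of_Phi (vv n d) vv_lt vv_surj lo hi hd hlo hhi c hc s g hsum

theorem Psi_X_ne_zero (lo hi : Fin d → Fin n) (θ : Idx d n)
    (hfit : ∀ t, lo t ≤ θ.1 t ∧ θ.1 t ≤ hi t) : Psi K lo hi (X θ) ≠ 0 := by
  unfold Psi
  rw [Phi_X]
  exact (degree_minor (K := K) (vv n d) vv_lt vv_surj lo hi θ.1 θ.2 hfit).2.ne_zero

theorem Psi_X_eq_zero_of_not_ge (lo hi : Fin d → Fin n) (hlo : Monotone lo) (θ : Idx d n)
    (h : ¬ ∀ t, lo t ≤ θ.1 t) : Psi K lo hi (X θ) = 0 := by
  unfold Psi
  rw [Phi_X]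
  exact minor_eq_zero_of_not_ge (vv n d) lo hi hlo θ.1 θ.2 h

theorem Psi_X_eq_zero_of_not_le (lo hi : Fin d → Fin n) (hhi : Monotone hi) (θ : Idx d n)
    (h : ¬ ∀ t, θ.1 t ≤ hi t) : Psi K lo hi (X θ) = 0 := by
  unfold Psi
  rw [Phi_X]
  exact minor_eq_zero_of_not_le (vv n d) lo hi hhi θ.1 θ.2 h

/-- every Plücker polynomial is congruent to a combination of standard monomials modulo the
shuffle relations -/
theorem exists_expansion (p : PlRing K d n) :
    ∃ l : Ch d n →₀ K,
      p - l.sum (fun x a => a • chainMon K x.2.1) ∈ plIdealTop (d := d) (n := n) K := by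
  have h := Groth.Agent.H9.SMT.result' (d := d) (n := n) K
  have hp : Ideal.Quotient.mk (plIdealTop (d := d) (n := n) K) p ∈
      Submodule.span K (Set.range fun c : (Σ m : ℕ, {c : Fin m → Idx d n // Antitone c}) =>
        Ideal.Quotient.mk (plIdealTop (d := d) (n := n) K) (chainMon K c.2.1)) := by
    rw [h]; trivial
  rw [Finsupp.mem_span_range_iff_exists_finsupp] at hp
  obtain ⟨l, hl⟩ := hp
  refine ⟨l, ?_⟩
  rw [← Ideal.Quotient.eq, ← hl]
  unfold Finsupp.sum
  rw [map_sum]
  apply Finset.sum_congr rfl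
  intro x _
  rfl

/-- a chain monomial with a member `φ` is a multiple of `X φ` -/
theorem chainMon_mem_of_mem (I : Ideal (PlRing K d n)) {m : ℕ} (c : Fin m → Idx d n) (k : Fin m)
    (h : (X (c k) : PlRing K d n) ∈ I) : chainMon K c ∈ I := by
  unfold chainMon
  rw [← Finset.mul_prod_erase Finset.univ _ (Finset.mem_univ k)]
  exact Ideal.mul_mem_right _ _ h

end concrete

end Groth.Agent.H9.Ldt
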