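import Mathlib
import Groth.Prelude.Def_W4bk4grassmannianPl
import Groth.Agent.Lib.Helper9.Misc.LdtD
set_option autoImplicit false
set_option linter.unusedSectionVars false
set_option linter.unusedVariables false

namespace Groth.Agent.H9.Ldt

open MvPolynomial W4bk4grassmannian

section rows

variable (K : Type*) [Field K] {d n : ℕ}

/-- restriction to `X(τ)`: coefficients of standard monomials below `τ` in an element of `J(τ)`
vanish -/
theorem indep_schubert [Infinite K] (hd : 0 < d) {ι : Type*} (c : ι → Ch d n)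
    (hc : Function.Injective c) (s : Finset ι) (g : ι → K) (τ : Idx d n)
    (hF : ∑ i ∈ s, g i • chainMon K (c i).2.1 ∈ schubertVanishing K d n τ) :
    ∀ i ∈ s, (∀ k, (c i).2.1 k ≤ τ) → g i = 0 := by
  have hn : 0 < n := Fin.pos (τ.1 ⟨0, hd⟩)
  intro i hi hle
  have hΨ := Psi_schubert K (fun _ : Fin d => (⟨0, hn⟩ : Fin n)) τ hF
  refine Psi_coeff_zero K hd (fun _ : Fin d => (⟨0, hn⟩ : Fin n)) τ.1 monotone_const
    τ.2.monotone c hc s g hΨ i hi ?_
  intro k t
  exact ⟨Fin.le_def.2 (Nat.zero_le _), hle k t⟩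

theorem schubert_le_plIdeal [Infinite K] (hd : 0 < d) (τ : Idx d n) :
    schubertVanishing K d n τ ≤ plIdeal K τ := by
  intro f hf
  obtain ⟨l, hl⟩ := exists_expansion K f
  have hF : l.sum (fun x a => a • chainMon K x.2.1) ∈ schubertVanishing K d n τ := by
    have := (schubertVanishing K d n τ).sub_mem hf (Shf.plIdealTop_le_schubert K τ hl)
    rwa [sub_sub_cancel] at this
  unfold Finsupp.sum at hF
  have hcoef := indep_schubert K hd (fun x : Ch d n => x) Function.injective_id l.support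
    (fun x => l x) τ hF
  have hmem : l.sum (fun x a => a • chainMon K x.2.1) ∈ plIdeal K τ := by
    unfold Finsupp.sum
    apply Ideal.sum_mem
    intro x hx
    have hnf : ¬ ∀ k, x.2.1 k ≤ τ := fun hfit => (Finsupp.mem_support_iff.1 hx) (hcoef x hx hfit)
    obtain ⟨k, hk⟩ := not_forall.1 hnf
    apply Submodule.smul_of_tower_mem
    apply chainMon_mem_of_mem K _ _ k
    exact Ideal.subset_span (Or.inr ⟨x.2.1 k, hk, rfl⟩)
  have := (plIdeal K τ).add_mem (Shf.plIdealTop_le_plIdeal K τ hl) hmem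
  rwa [sub_add_cancel] at this

theorem plIdeal_eq_schubert [Infinite K] (hd : 0 < d) (τ : Idx d n) :
    plIdeal K τ = schubertVanishing K d n τ :=
  le_antisymm (Shf.plIdeal_le_schubert K τ) (schubert_le_plIdeal K hd τ)

theorem schubert_mono {φ τ : Idx d n} (h : φ ≤ τ) :
    schubertVanishing K d n τ ≤ schubertVanishing K d n φ := by
  intro f hf
  rw [Shf.mem_schubertVanishing_iff] at hf ⊢
  intro A hA
  apply hf A
  intro ψ hψ
  exact hA ψ (fun h' => hψ (le_trans h' h))

theorem schubert_isRadical (τ : Idx d n) : (schubertVanishing K d n τ).IsRadical := by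
  intro f hf
  obtain ⟨k, hk⟩ := Ideal.mem_radical_iff.1 hf
  rw [Shf.mem_schubertVanishing_iff] at hk ⊢
  intro A hA
  have := hk A hA
  rw [map_pow] at this
  exact eq_zero_of_pow_eq_zero this

theorem plIdeal_sup (w₁ w₂ : Idx d n) :
    plIdeal K w₁ ⊔ plIdeal K w₂ = plIdeal K (W4bk4grassmannian.inf w₁ w₂) := by
  have h1 : W4bk4grassmannian.inf w₁ w₂ ≤ w₁ := fun t => min_le_left _ _
  have h2 : W4bk4grassmannian.inf w₁ w₂ ≤ w₂ := fun t => min_le_right _ _
  have hmono : ∀ a b : Idx d n, a ≤ b → plIdeal K b ≤ plIdeal K a := by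
    intro a b hab
    unfold plIdeal
    rw [Ideal.span_le]
    rintro f (hf | ⟨φ, hφ, rfl⟩)
    · exact Ideal.subset_span (Or.inl hf)
    · exact Ideal.subset_span (Or.inr ⟨φ, fun h' => hφ (le_trans h' hab), rfl⟩)
  apply le_antisymm
  · exact sup_le (hmono _ _ h1) (hmono _ _ h2)
  · conv_lhs => unfold plIdeal
    rw [Ideal.span_le]
    rintro f (hf | ⟨φ, hφ, rfl⟩)
    · exact Ideal.mem_sup_left (Ideal.subset_span (Or.inl hf))
    · by_cases h3 : φ ≤ w₁
      · have h4 : ¬ φ ≤ w₂ := fun h4 => hφ (fun t => le_min (h3 t) (h4 t))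
        exact Ideal.mem_sup_right (Ideal.subset_span (Or.inr ⟨φ, h4, rfl⟩))
      · exact Ideal.mem_sup_left (Ideal.subset_span (Or.inr ⟨φ, h3, rfl⟩))

theorem schubert_sup_isRadical [Infinite K] (hd : 0 < d) (w₁ w₂ : Idx d n) :
    (schubertVanishing K d n w₁ ⊔ schubertVanishing K d n w₂).IsRadical := by
  rw [← plIdeal_eq_schubert K hd, ← plIdeal_eq_schubert K hd, plIdeal_sup,
    plIdeal_eq_schubert K hd]
  exact schubert_isRadical K _

/-- the class of any polynomial modulo an ideal containing the shuffle relations is a combination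
of classes of standard monomials -/
theorem union_basis [Infinite K] (hd : 0 < d) (r : ℕ) (τs : Fin r → Idx d n) :
    LinearIndependent K (fun c : (Σ m : ℕ, {c : Fin m → Idx d n //
        Antitone c ∧ ∃ i, ∀ k, c k ≤ τs i}) =>
        Ideal.Quotient.mk (⨅ i, schubertVanishing K d n (τs i)) (chainMon K c.2.1)) ∧
      Submodule.span K (Set.range fun c : (Σ m : ℕ, {c : Fin m → Idx d n //
        Antitone c ∧ ∃ i, ∀ k, c k ≤ τs i}) =>
        Ideal.Quotient.mk (⨅ i, schubertVanishing K d n (τs i)) (chainMon K c.2.1)) = ⊤ := by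
  constructor
  · rw [linearIndependent_iff']
    intro s g hsum i hi
    have he : Function.Injective (fun c : (Σ m : ℕ, {c : Fin m → Idx d n //
        Antitone c ∧ ∃ i, ∀ k, c k ≤ τs i}) => (⟨c.1, c.2.1, c.2.2.1⟩ : Ch d n)) := by
      rintro ⟨m, c, hc⟩ ⟨m', c', hc'⟩ h
      simp only [Sigma.mk.injEq] at h
      obtain ⟨rfl, h2⟩ := h
      have h3 := eq_of_heq h2
      simp only [Subtype.mk.injEq] at h3
      subst h3
      rfl
    have hF : (∑ i ∈ s, g i • chainMon K i.2.1) ∈ ⨅ i, schubertVanishing K d n (τs i) := by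
      rw [← Ideal.Quotient.eq_zero_iff_mem, map_sum]
      refine Eq.trans ?_ hsum
      apply Finset.sum_congr rfl
      intro x _
      rfl
    obtain ⟨j, hj⟩ := i.2.2.2
    exact indep_schubert K hd _ he s g (τs j) ((Ideal.mem_iInf.1 hF) j) i hi hj
  · rw [eq_top_iff]
    rintro x -
    obtain ⟨p, rfl⟩ := Ideal.Quotient.mk_surjective x
    obtain ⟨l, hl⟩ := exists_expansion K p
    have hle : plIdealTop (d := d) (n := n) K ≤ ⨅ i, schubertVanishing K d n (τs i) :=
      le_iInf (fun i => Shf.plIdealTop_le_schubert K (τs i))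
    rw [Ideal.Quotient.eq.2 (hle hl)]
    unfold Finsupp.sum
    rw [map_sum]
    apply Submodule.sum_mem
    intro x _
    have hx : Ideal.Quotient.mk (⨅ i, schubertVanishing K d n (τs i)) (l x • chainMon K x.2.1) =
        l x • Ideal.Quotient.mk (⨅ i, schubertVanishing K d n (τs i)) (chainMon K x.2.1) := rfl
    rw [hx]
    apply Submodule.smul_mem
    by_cases h : ∃ i, ∀ k, x.2.1 k ≤ τs i
    · exact Submodule.subset_span ⟨⟨x.1, x.2.1, x.2.2, h⟩, rfl⟩
    · have : chainMon K x.2.1 ∈ ⨅ i, schubertVanishing K d n (τs i) := by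
        rw [Ideal.mem_iInf]
        intro i
        have h1 : ¬ ∀ k, x.2.1 k ≤ τs i := fun h1 => h ⟨i, h1⟩
        obtain ⟨k, hk⟩ := not_forall.1 h1
        exact chainMon_mem_of_mem K _ _ k (Shf.X_mem_schubert K (τs i) _ hk)
      rw [Ideal.Quotient.eq_zero_iff_mem.2 this]
      exact Submodule.zero_mem _

end rows

end Groth.Agent.H9.Ldt
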