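import Mathlib
import Groth.Prelude.Def_W4bk4grassmannianPl

/-! Helper9: every proper Schubert subvariety lies in a Schubert divisor (S11268) -/

set_option linter.style.haveILetI false

namespace Groth.Agent.H9.SchubDiv
open W4bk4grassmannian

lemma val_ge (d n : ℕ) (τ : Idx d n) (t : Fin d) : t.val ≤ (τ.1 t).val := by
  have h := τ.2
  have key : ∀ (k : ℕ) (hk : k < d), k ≤ (τ.1 ⟨k, hk⟩).val := by
    intro k
    induction k with
    | zero => intro _; exact Nat.zero_le _
    | succ k ih =>
      intro hk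
      have hk' : k < d := Nat.lt_of_succ_lt hk
      have h1 : τ.1 ⟨k, hk'⟩ < τ.1 ⟨k + 1, hk⟩ := h (by simp [Fin.lt_def])
      have h2 : (τ.1 ⟨k, hk'⟩).val < (τ.1 ⟨k + 1, hk⟩).val := h1
      have := ih hk'
      omega
  exact key t.val t.2

theorem S11268_main (d n : ℕ) (τ w : Idx d n) (h : τ < w) :
    ∃ φ ∈ divisors w, τ ≤ φ := by
  classical
  have hle : ∀ t, τ.1 t ≤ w.1 t := fun t => h.le t
  have hne : ∃ t, τ.1 t < w.1 t := by
    by_contra hcon
    push Not at hcon
    apply h.not_ge
    intro t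
    exact hcon t
  -- smallest such index
  let P : Fin d → Prop := fun t => τ.1 t < w.1 t
  obtain ⟨t₀, ht₀, hmin⟩ : ∃ t₀, P t₀ ∧ ∀ s, s < t₀ → ¬ P s := by
    have hfin : (Finset.univ.filter P).Nonempty := by
      obtain ⟨t, ht⟩ := hne
      exact ⟨t, by simp [P, ht]⟩
    refine ⟨(Finset.univ.filter P).min' hfin, ?_, ?_⟩
    · exact (Finset.mem_filter.mp (Finset.min'_mem _ hfin)).2
    · intro s hs hPs
      have := Finset.min'_le (Finset.univ.filter P) s (by simp [hPs])
      exact absurd hs (not_lt.mpr this)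
  have heq : ∀ s, s < t₀ → τ.1 s = w.1 s := by
    intro s hs
    have := hmin s hs
    exact le_antisymm (hle s) (not_lt.mp this)
  have hpos : t₀.val < (w.1 t₀).val := lt_of_le_of_lt (val_ge d n τ t₀) ht₀
  have hwlt : (w.1 t₀).val - 1 < n := lt_of_le_of_lt (Nat.sub_le _ _) (w.1 t₀).2
  let f : Fin d → Fin n := fun t => if t = t₀ then ⟨(w.1 t₀).val - 1, hwlt⟩ else w.1 t
  have hf0 : f t₀ = ⟨(w.1 t₀).val - 1, hwlt⟩ := by simp [f]
  have hfne : ∀ t, t ≠ t₀ → f t = w.1 t := fun t ht => by simp [f, ht]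
  have hτt₀ : (τ.1 t₀).val ≤ (w.1 t₀).val - 1 := by
    have : (τ.1 t₀).val < (w.1 t₀).val := ht₀
    omega
  have hmono : StrictMono f := by
    intro s t hst
    by_cases hs : s = t₀
    · have ht : t ≠ t₀ := by rintro rfl; exact absurd hst (by rw [hs]; exact lt_irrefl _)
      rw [hfne t ht, hs, hf0]
      have : w.1 t₀ < w.1 t := w.2 (hs ▸ hst)
      show (w.1 t₀).val - 1 < (w.1 t).val
      have : (w.1 t₀).val < (w.1 t).val := this
      omega
    · by_cases ht : t = t₀
      · rw [hfne s hs, ht, hf0]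
        have hs' : s < t₀ := ht ▸ hst
        rw [← heq s hs']
        have : τ.1 s < τ.1 t₀ := τ.2 hs'
        show (τ.1 s).val < (w.1 t₀).val - 1
        have : (τ.1 s).val < (τ.1 t₀).val := this
        omega
      · rw [hfne s hs, hfne t ht]
        exact w.2 hst
  refine ⟨⟨f, hmono⟩, ⟨?_, ?_⟩, ?_⟩
  · -- φ < w
    refine lt_of_le_of_ne ?_ ?_
    · intro t
      by_cases ht : t = t₀
      · subst ht
        show f t ≤ w.1 t
        rw [hf0]
        show (w.1 t).val - 1 ≤ (w.1 t).val
        omega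
      · show f t ≤ w.1 t
        rw [hfne t ht]
    · intro hcon
      have : f t₀ = w.1 t₀ := congrFun (congrArg Subtype.val hcon) t₀
      rw [hf0] at this
      have := congrArg Fin.val this
      simp only at this
      omega
  · -- codeg
    unfold codeg
    show (∑ t : Fin d, ((f t).val - t.val)) + 1 = ∑ t : Fin d, ((w.1 t).val - t.val)
    rw [← Finset.add_sum_erase _ _ (Finset.mem_univ t₀),
      ← Finset.add_sum_erase (f := fun t : Fin d => (w.1 t).val - t.val) _ (Finset.mem_univ t₀)]
    have h1 : ∑ t ∈ Finset.univ.erase t₀, ((f t).val - t.val) =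
        ∑ t ∈ Finset.univ.erase t₀, ((w.1 t).val - t.val) := by
      refine Finset.sum_congr rfl fun t ht => ?_
      rw [hfne t (Finset.ne_of_mem_erase ht)]
    rw [h1, hf0]
    simp only
    omega
  · intro t
    by_cases ht : t = t₀
    · subst ht
      show τ.1 t ≤ f t
      rw [hf0]
      exact hτt₀
    · show τ.1 t ≤ f t
      rw [hfne t ht]
      exact hle t

end Groth.Agent.H9.SchubDiv
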