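import Mathlib
import Groth.Prelude.Def_W4bk4grassmannianPl
import Groth.Agent.Lib.Helper9.Misc.LdtE
import Groth.Agent.Lib.Helper9.Misc.SchubDiv
set_option autoImplicit false
set_option linter.unusedSectionVars false
set_option linter.unusedVariables false

namespace Groth.Agent.H9.Ldt

open MvPolynomial W4bk4grassmannian

section rows2

variable (K : Type*) [Field K] {d n : ℕ}

theorem divisor_inter [Infinite K] (hd : 0 < d) (τ : Idx d n) (hτ : ∃ φ : Idx d n, φ < τ) :
    schubertVanishing K d n τ ⊔ Ideal.span {MvPolynomial.X τ} =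
      ⨅ φ ∈ divisors τ, schubertVanishing K d n φ := by
  apply le_antisymm
  · apply sup_le
    · exact le_iInf (fun φ => le_iInf (fun hφ => schubert_mono K hφ.1.le))
    · rw [Ideal.span_le, Set.singleton_subset_iff]
      rw [SetLike.mem_coe, Ideal.mem_iInf]
      intro φ
      rw [Ideal.mem_iInf]
      intro hφ
      exact Shf.X_mem_schubert K φ τ (not_le_of_gt hφ.1)
  · intro f hf
    obtain ⟨l, hl⟩ := exists_expansion K f
    have hFφ : ∀ φ ∈ divisors τ,
        l.sum (fun x a => a • chainMon K x.2.1) ∈ schubertVanishing K d n φ := by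
      intro φ hφ
      have h1 : f ∈ schubertVanishing K d n φ := by
        have := Ideal.mem_iInf.1 hf φ
        exact Ideal.mem_iInf.1 this hφ
      have := (schubertVanishing K d n φ).sub_mem h1 (Shf.plIdealTop_le_schubert K φ hl)
      rwa [sub_sub_cancel] at this
    have hmem : l.sum (fun x a => a • chainMon K x.2.1) ∈
        schubertVanishing K d n τ ⊔ Ideal.span {X τ} := by
      unfold Finsupp.sum
      apply Ideal.sum_mem
      intro x hx
      apply Submodule.smul_of_tower_mem
      by_cases ha : ∀ k, x.2.1 k ≤ τ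
      · by_cases hb : ∃ k, x.2.1 k = τ
        · obtain ⟨k, hk⟩ := hb
          apply chainMon_mem_of_mem K _ _ k
          rw [hk]
          exact Ideal.mem_sup_right (Ideal.subset_span rfl)
        · exfalso
          have hb' : ∀ k, x.2.1 k ≠ τ := fun k hk => hb ⟨k, hk⟩
          have hex : ∃ φ ∈ divisors τ, ∀ k, x.2.1 k ≤ φ := by
            by_cases h0 : x.1 = 0
            · obtain ⟨φ0, hφ0⟩ := hτ
              obtain ⟨φ, hφ, _⟩ := Groth.Agent.H9.SchubDiv.S11268_main d n φ0 τ hφ0
              exact ⟨φ, hφ, fun k => absurd k.2 (by omega)⟩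
            · have hlt : x.2.1 ⟨0, by omega⟩ < τ := lt_of_le_of_ne (ha _) (hb' _)
              obtain ⟨φ, hφ, hle⟩ := Groth.Agent.H9.SchubDiv.S11268_main d n _ τ hlt
              exact ⟨φ, hφ, fun k => le_trans (x.2.2 (Fin.le_def.2 (Nat.zero_le _))) hle⟩
          obtain ⟨φ, hφ, hle⟩ := hex
          have h2 := hFφ φ hφ
          unfold Finsupp.sum at h2
          have := indep_schubert K hd (fun x : Ch d n => x) Function.injective_id l.support
            (fun x => l x) φ h2 x hx hle
          exact (Finsupp.mem_support_iff.1 hx) this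
      · obtain ⟨k, hk⟩ := not_forall.1 ha
        apply chainMon_mem_of_mem K _ _ k
        exact Ideal.mem_sup_left (Shf.X_mem_schubert K τ _ hk)
    have := Ideal.add_mem _ (Ideal.mem_sup_left (Shf.plIdealTop_le_schubert K τ hl)) hmem
    rwa [sub_add_cancel] at this

/-- the smallest index `(0, 1, …, d-1)` -/
def iota (hdn : d < n) : Idx d n := ⟨fun t => ⟨t.val, lt_trans t.isLt hdn⟩, fun a b h => h⟩

/-- its unique cover `(0, 1, …, d-2, d)` -/
def iotaLo (hdn : d < n) : Fin d → Fin n :=
  fun t => if t.val + 1 = d then ⟨d, hdn⟩ else ⟨t.val, lt_trans t.isLt hdn⟩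

theorem iotaLo_mono (hdn : d < n) : Monotone (iotaLo hdn) := by
  intro a b hab
  unfold iotaLo
  rw [Fin.le_def] at hab ⊢
  have := a.2
  have := b.2
  split_ifs <;> dsimp only <;> omega

theorem gap_of_strictMono {a b : ℕ} (f : Fin a → Fin b) (hf : StrictMono f) (u w : Fin a)
    (h : u ≤ w) : (f u).val + (w.val - u.val) ≤ (f w).val := by
  obtain ⟨w, hw⟩ := w
  induction w with
  | zero =>
    have hval : u.val ≤ 0 := Fin.le_def.1 h
    have : u = ⟨0, hw⟩ := Fin.ext (by show u.val = 0; omega)
    rw [this]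
    show (f ⟨0, hw⟩).val + (0 - 0) ≤ (f ⟨0, hw⟩).val
    omega
  | succ w ih =>
    have hval : u.val ≤ w + 1 := Fin.le_def.1 h
    by_cases hu : u.val = w + 1
    · have : u = ⟨w + 1, hw⟩ := Fin.ext hu
      rw [this]
      show (f ⟨w + 1, hw⟩).val + (w + 1 - (w + 1)) ≤ (f ⟨w + 1, hw⟩).val
      omega
    · have hle : u ≤ (⟨w, by omega⟩ : Fin a) := Fin.le_def.2 (show u.val ≤ w by omega)
      have h1 : (f u).val + (w - u.val) ≤ (f ⟨w, by omega⟩).val := ih (by omega) hle
      have h2 : (f ⟨w, by omega⟩).val < (f ⟨w + 1, hw⟩).val :=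
        hf (show (⟨w, by omega⟩ : Fin a) < ⟨w + 1, hw⟩ from Nat.lt_succ_self w)
      show (f u).val + (w + 1 - u.val) ≤ (f ⟨w + 1, hw⟩).val
      omega

theorem iotaLo_le (hd : 0 < d) (hdn : d < n) (θ : Idx d n) (hθ : θ ≠ iota hdn) :
    ∀ t, iotaLo hdn t ≤ θ.1 t := by
  have hlast : d ≤ (θ.1 ⟨d - 1, by omega⟩).val := by
    by_contra hcon
    apply hθ
    apply Subtype.ext
    funext t
    apply Fin.ext
    show (θ.1 t).val = t.val
    have h1 := Groth.Agent.H9.SMT.le_of_strictMono θ.1 θ.2 t
    have h2 : (θ.1 t).val + (d - 1 - t.val) ≤ (θ.1 ⟨d - 1, by omega⟩).val :=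
      gap_of_strictMono θ.1 θ.2 t ⟨d - 1, by omega⟩
        (Fin.le_def.2 (by show t.val ≤ d - 1; have := t.2; omega))
    have := t.2
    omega
  intro t
  unfold iotaLo
  rw [Fin.le_def]
  split_ifs with h
  · have : t = ⟨d - 1, by omega⟩ := Fin.ext (by show t.val = d - 1; omega)
    rw [this]; exact hlast
  · exact Groth.Agent.H9.SMT.le_of_strictMono θ.1 θ.2 t

theorem ker_Psi_iota [Infinite K] (hd : 0 < d) (hdn : d < n) (w : Idx d n) :
    schubertVanishing K d n w ⊔ Ideal.span {X (iota hdn)} =
      RingHom.ker (Psi K (iotaLo hdn) w.1).toRingHom := by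
  apply le_antisymm
  · apply sup_le
    · intro f hf
      rw [RingHom.mem_ker]
      exact Psi_schubert K (iotaLo hdn) w hf
    · rw [Ideal.span_le, Set.singleton_subset_iff, SetLike.mem_coe, RingHom.mem_ker]
      apply Psi_X_eq_zero_of_not_ge K _ _ (iotaLo_mono hdn)
      intro h
      have := h ⟨d - 1, by omega⟩
      unfold iotaLo iota at this
      rw [Fin.le_def] at this
      rw [if_pos (by show d - 1 + 1 = d; omega)] at this
      have h2 : d ≤ d - 1 := this
      omega
  · intro f hf
    rw [RingHom.mem_ker] at hf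
    obtain ⟨l, hl⟩ := exists_expansion K f
    have hΨ : Psi K (iotaLo hdn) w.1 (l.sum (fun x a => a • chainMon K x.2.1)) = 0 := by
      have h1 := Psi_schubert K (iotaLo hdn) w (Shf.plIdealTop_le_schubert K w hl)
      rw [map_sub] at h1
      have hf' : Psi K (iotaLo hdn) w.1 f = 0 := hf
      rw [hf', zero_sub, neg_eq_zero] at h1
      exact h1
    unfold Finsupp.sum at hΨ
    have hcoef := Psi_coeff_zero K hd (iotaLo hdn) w.1 (iotaLo_mono hdn) w.2.monotone
      (fun x : Ch d n => x) Function.injective_id l.support (fun x => l x) hΨ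
    have hmem : l.sum (fun x a => a • chainMon K x.2.1) ∈
        schubertVanishing K d n w ⊔ Ideal.span {X (iota hdn)} := by
      unfold Finsupp.sum
      apply Ideal.sum_mem
      intro x hx
      apply Submodule.smul_of_tower_mem
      have hnf : ¬ Fits (iotaLo hdn) w.1 x :=
        fun hfit => (Finsupp.mem_support_iff.1 hx) (hcoef x hx hfit)
      unfold Fits at hnf
      obtain ⟨k, hk⟩ := not_forall.1 hnf
      apply chainMon_mem_of_mem K _ _ k
      by_cases h1 : x.2.1 k ≤ w
      · have h2 : x.2.1 k = iota hdn := by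
          by_contra hne
          exact hk (fun t => ⟨iotaLo_le hd hdn _ hne t, h1 t⟩)
        rw [h2]
        exact Ideal.mem_sup_right (Ideal.subset_span rfl)
      · exact Ideal.mem_sup_left (Shf.X_mem_schubert K w _ h1)
    have := Ideal.add_mem _ (Ideal.mem_sup_left (Shf.plIdealTop_le_schubert K w hl)) hmem
    rwa [sub_add_cancel] at this

theorem prime_iota [Infinite K] (hd : 0 < d) (hdn : d < n) (w : Idx d n) :
    Prime (Ideal.Quotient.mk (schubertVanishing K d n w) (X (iota hdn))) := by
  have hprime : (schubertVanishing K d n w ⊔ Ideal.span {X (iota hdn)}).IsPrime := by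
    rw [ker_Psi_iota K hd hdn w]
    exact RingHom.ker_isPrime _
  have hne : Ideal.Quotient.mk (schubertVanishing K d n w) (X (iota hdn)) ≠ 0 := by
    intro h0
    rw [Ideal.Quotient.eq_zero_iff_mem] at h0
    have hn : 0 < n := by omega
    have h1 := Psi_schubert K (fun _ : Fin d => (⟨0, hn⟩ : Fin n)) w h0
    refine Psi_X_ne_zero K (fun _ : Fin d => (⟨0, hn⟩ : Fin n)) w.1 (iota hdn) ?_ h1
    intro t
    exact ⟨Fin.le_def.2 (Nat.zero_le _),
      Fin.le_def.2 (Groth.Agent.H9.SMT.le_of_strictMono w.1 w.2 t)⟩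
  rw [← Ideal.span_singleton_prime hne]
  have hmap : Ideal.span {Ideal.Quotient.mk (schubertVanishing K d n w) (X (iota hdn))} =
      Ideal.map (Ideal.Quotient.mk (schubertVanishing K d n w))
        (schubertVanishing K d n w ⊔ Ideal.span {X (iota hdn)}) := by
    rw [Ideal.map_sup, Ideal.map_quotient_self, bot_sup_eq, Ideal.map_span, Set.image_singleton]
  rw [hmap]
  haveI := hprime
  apply Ideal.map_isPrime_of_surjective Ideal.Quotient.mk_surjective
  rw [Ideal.mk_ker]
  exact le_sup_left

end rows2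

end Groth.Agent.H9.Ldt
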