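import Mathlib
import Groth.Prelude.Def_W4bk4grassmannianPl
import Groth.Agent.Lib.Helper9.Misc.PlkA
set_option autoImplicit false
set_option linter.unusedSectionVars false
set_option linter.unusedVariables false

namespace Groth.Agent.H9.Nrm

open MvPolynomial W4bk4grassmannian

theorem det_update_of_submatrix_eq_one {R : Type*} [CommRing R] {d n : ℕ}
    (B : Matrix (Fin n) (Fin d) R) (τ : Fin d → Fin n)
    (h1 : B.submatrix τ id = 1) (t : Fin d) (s : Fin n) :
    (B.submatrix (Function.update τ t s) id).det = B s t := by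
  have h2 : B.submatrix (Function.update τ t s) id =
      (1 : Matrix (Fin d) (Fin d) R).updateRow t (B s) := by
    ext i j
    rw [Matrix.submatrix_apply, id_eq, Matrix.updateRow_apply]
    by_cases hi : i = t
    · rw [if_pos hi, hi, Function.update_self]
    · rw [if_neg hi, Function.update_of_ne hi, ← h1, Matrix.submatrix_apply, id_eq]
  rw [h2, ← Matrix.cramer_transpose_apply, Matrix.transpose_one, Matrix.cramer_one]
  rfl

theorem aeval_coord {K Q : Type*} [CommRing K] [CommRing Q] [Algebra K Q] {d n : ℕ}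
    (Θ : PlRing K d n →ₐ[K] Q) (M : Matrix (Fin n) (Fin d) Q) (c : Q)
    (hΘ : ∀ θ : Idx d n, Θ (X θ) = c * (M.submatrix θ.1 id).det) (a : Fin d → Fin n) :
    Θ (coord K d n a) = c * (M.submatrix a id).det := by
  have h1 := Groth.Agent.H9.Plk.EC_minors Q M a
  rw [Groth.Agent.H9.Plk.EC_eq] at h1
  unfold coord
  by_cases h : (Finset.univ.image a).card = d
  · rw [dif_pos h] at h1 ⊢
    rw [map_mul, map_pow, map_neg, map_one, hΘ, ← h1]
    ring
  · rw [dif_neg h] at h1 ⊢
    rw [map_zero, ← h1, mul_zero]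

/-- normality criterion: `R ⊆ P ⊆ R[1/x]` with `P` integrally closed and `(x)` radical -/
theorem isIntegrallyClosed_of_embedding {R P : Type*} [CommRing R] [IsDomain R] [CommRing P]
    [IsDomain P] [IsIntegrallyClosed P]
    (φ : R →+* P) (hφ : Function.Injective φ) (x : R) (hx : φ x ≠ 0)
    (hrad : ∀ (r : R) (m : ℕ), x ∣ r ^ m → x ∣ r)
    (hgen : ∀ p : P, ∃ (k : ℕ) (r : R), φ x ^ k * p = φ r) : IsIntegrallyClosed R := by
  classical
  rw [isIntegrallyClosed_iff (FractionRing R)]
  rintro Z ⟨f, hf1, hf2⟩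
  obtain ⟨a, b, hb, hab⟩ : ∃ a b : R, b ≠ 0 ∧
      Z * algebraMap R (FractionRing R) b = algebraMap R (FractionRing R) a := by
    obtain ⟨⟨a, b⟩, h⟩ := IsLocalization.surj (nonZeroDivisors R) Z
    exact ⟨a, b.1, nonZeroDivisors.ne_zero b.2, h⟩
  have hb' : algebraMap R (FractionRing R) b ≠ 0 := by
    intro h0
    apply hb
    apply IsFractionRing.injective R (FractionRing R)
    rw [h0, map_zero]
  have hinj : Function.Injective ((algebraMap P (FractionRing P)).comp φ) :=
    (IsFractionRing.injective P (FractionRing P)).comp hφ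
  have hψ : ∀ r : R, (IsFractionRing.lift hinj) (algebraMap R (FractionRing R) r) =
      algebraMap P (FractionRing P) (φ r) := fun r => IsFractionRing.lift_algebraMap hinj r
  have hint : IsIntegral P ((IsFractionRing.lift hinj) Z) := by
    refine ⟨f.map φ, hf1.map φ, ?_⟩
    rw [Polynomial.eval₂_map]
    have h3 := congrArg (IsFractionRing.lift hinj) hf2
    rw [Polynomial.hom_eval₂, map_zero] at h3
    have h4 : (IsFractionRing.lift hinj).comp (algebraMap R (FractionRing R)) =
        (algebraMap P (FractionRing P)).comp φ := by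
      ext r; exact hψ r
    rw [h4] at h3
    exact h3
  obtain ⟨p, hp⟩ := IsIntegrallyClosed.isIntegral_iff.1 hint
  have hpb : p * φ b = φ a := by
    apply IsFractionRing.injective P (FractionRing P)
    rw [map_mul, hp, ← hψ, ← hψ, ← map_mul, hab]
  have hex : ∃ k, ∃ r, φ x ^ k * p = φ r := hgen p
  have hmin := @Nat.find_min _ _ hex
  obtain ⟨r, hr⟩ := Nat.find_spec hex
  generalize Nat.find hex = k at hmin hr
  have hxa : x ^ k * a = r * b := by
    apply hφ
    rw [map_mul, map_mul, map_pow, ← hr, ← hpb]; ring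
  have hXr : algebraMap R (FractionRing R) (x ^ k) * Z = algebraMap R (FractionRing R) r := by
    apply mul_right_cancel₀ hb'
    rw [mul_assoc, hab, ← map_mul, ← map_mul, hxa]
  have hdvd := Polynomial.dvd_pow_natDegree_of_eval₂_eq_zero
    (IsFractionRing.injective R (FractionRing R)) hf1 (x ^ k) r Z hf2 hXr
  rcases Nat.eq_zero_or_pos k with hk0 | hkpos
  · rw [hk0, pow_zero, one_mul] at hxa
    refine ⟨r, ?_⟩
    apply mul_right_cancel₀ hb'
    rw [hab, hxa, map_mul]
  · exfalso
    have h1 : x ∣ r ^ f.natDegree := dvd_trans (dvd_pow_self x (by omega)) hdvd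
    obtain ⟨r', hr'⟩ := hrad r _ h1
    apply hmin (m := k - 1) (by omega)
    refine ⟨r', ?_⟩
    apply mul_left_cancel₀ hx
    rw [← mul_assoc, ← pow_succ', show k - 1 + 1 = k by omega, hr, hr', map_mul]

end Groth.Agent.H9.Nrm
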