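import Mathlib
import Groth.Prelude.Def_W4bk4grassmannianPl
import Groth.Agent.Lib.Helper9.Misc.NrmA
import Groth.Agent.Lib.Helper9.Misc.LdtF
set_option autoImplicit false
set_option linter.unusedSectionVars false
set_option linter.unusedVariables false

namespace Groth.Agent.H9.Nrm

open MvPolynomial W4bk4grassmannian

section nrm

variable (K : Type*) [Field K] {d n : ℕ} (τ : Idx d n)

/-- coordinates of the big cell of `X(τ)` -/
abbrev W (τ : Idx d n) : Type := {p : Fin n × Fin d // p.1 < τ.1 p.2 ∧ p.1 ∉ Set.range τ.1}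

open Classical in
/-- the normalized generic matrix of the big cell of `X(τ)` -/
noncomputable def N1 : Matrix (Fin n) (Fin d) (MvPolynomial (Option (W τ)) K) :=
  Matrix.of fun s t => if s = τ.1 t then 1 else
    if h : s < τ.1 t ∧ s ∉ Set.range τ.1 then X (some ⟨(s, t), h⟩) else 0

theorem N1_apply_self (t : Fin d) : N1 K τ (τ.1 t) t = 1 := by
  unfold N1
  rw [Matrix.of_apply, if_pos rfl]

theorem N1_apply_range (c t : Fin d) (h : c ≠ t) : N1 K τ (τ.1 c) t = 0 := by
  unfold N1
  rw [Matrix.of_apply, if_neg (fun h' => h (τ.2.injective h')), dif_neg]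
  intro h'
  exact h'.2 ⟨c, rfl⟩

theorem N1_apply_gt (s : Fin n) (t : Fin d) (h : τ.1 t < s) : N1 K τ s t = 0 := by
  unfold N1
  rw [Matrix.of_apply, if_neg (ne_of_gt h), dif_neg]
  intro h'
  exact absurd h'.1 (not_lt.2 h.le)

theorem N1_apply_W (w : W τ) : N1 K τ w.1.1 w.1.2 = X (some w) := by
  unfold N1
  rw [Matrix.of_apply, if_neg, dif_pos w.2]
  intro h'
  exact w.2.2 ⟨w.1.2, h'.symm⟩

theorem N1_tau : (N1 K τ).submatrix τ.1 id = 1 := by
  ext i j
  rw [Matrix.submatrix_apply, id_eq]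
  by_cases h : i = j
  · rw [h, N1_apply_self, Matrix.one_apply_eq]
  · rw [N1_apply_range K τ i j h, Matrix.one_apply_ne h]

theorem N1_minor_eq_zero (φ : Idx d n) (h : ¬ φ ≤ τ) :
    ((N1 K τ).submatrix φ.1 id).det = 0 := by
  obtain ⟨t, ht⟩ := not_forall.1 h
  apply Groth.Agent.H9.Ldt.det_eq_zero_of_block_ll _ t
  intro s c hs hc
  rw [Matrix.submatrix_apply, id_eq]
  apply N1_apply_gt
  calc τ.1 c ≤ τ.1 t := τ.2.monotone hc
    _ < φ.1 t := not_le.1 ht
    _ ≤ φ.1 s := φ.2.monotone hs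

/-- the comorphism of `(y, B) ↦ y · minors(B)` on the normalized matrices -/
noncomputable def Nu : PlRing K d n →ₐ[K] MvPolynomial (Option (W τ)) K :=
  aeval fun θ : Idx d n => X none * ((N1 K τ).submatrix θ.1 id).det

theorem Nu_X (θ : Idx d n) : Nu K τ (X θ) = X none * ((N1 K τ).submatrix θ.1 id).det := by
  unfold Nu; rw [aeval_X]

theorem Nu_X_tau : Nu K τ (X τ) = X none := by
  rw [Nu_X, N1_tau, Matrix.det_one, mul_one]

theorem Nu_coord_update (w : W τ) :
    Nu K τ (coord K d n (Function.update τ.1 w.1.2 w.1.1)) = X none * X (some w) := by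
  rw [aeval_coord (Nu K τ) (N1 K τ) (X none) (Nu_X K τ),
    det_update_of_submatrix_eq_one _ _ (N1_tau K τ), N1_apply_W]

theorem Nu_gen (p : MvPolynomial (Option (W τ)) K) :
    ∃ (k : ℕ) (g : PlRing K d n), (X none) ^ k * p = Nu K τ g := by
  induction p using MvPolynomial.induction_on with
  | C c =>
    refine ⟨0, C c, ?_⟩
    rw [pow_zero, one_mul]
    unfold Nu
    rw [aeval_C]
    rfl
  | add p q hp hq =>
    obtain ⟨k1, g1, h1⟩ := hp
    obtain ⟨k2, g2, h2⟩ := hq
    refine ⟨k1 + k2, X τ ^ k2 * g1 + X τ ^ k1 * g2, ?_⟩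
    rw [map_add, map_mul, map_mul, map_pow, map_pow, Nu_X_tau, ← h1, ← h2]
    ring
  | mul_X p v hp =>
    obtain ⟨k1, g1, h1⟩ := hp
    have hv : ∃ (k : ℕ) (g : PlRing K d n), (X none) ^ k * X v = Nu K τ g := by
      rcases v with _ | w
      · exact ⟨0, X τ, by rw [pow_zero, one_mul, Nu_X_tau]⟩
      · exact ⟨1, _, by rw [pow_one, Nu_coord_update]⟩
    obtain ⟨k2, g2, h2⟩ := hv
    refine ⟨k1 + k2, g1 * g2, ?_⟩
    rw [map_mul, ← h1, ← h2]
    ring

theorem eval_Nu (a : Option (W τ) → K) (f : PlRing K d n) :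
    MvPolynomial.eval a (Nu K τ f) =
      aeval (fun θ : Idx d n =>
        a none * (((N1 K τ).map (MvPolynomial.eval a)).submatrix θ.1 id).det) f := by
  induction f using MvPolynomial.induction_on with
  | C r => simp [Nu]
  | add p q hp hq => rw [map_add, map_add, map_add, hp, hq]
  | mul_X p θ hp =>
    rw [map_mul, map_mul, map_mul, hp, Nu_X, aeval_X, map_mul, eval_X, RingHom.map_det]
    rfl

theorem Nu_schubert [Infinite K] (hd : 0 < d) {f : PlRing K d n}
    (hf : f ∈ schubertVanishing K d n τ) : Nu K τ f = 0 := by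
  classical
  apply MvPolynomial.funext
  intro a
  rw [eval_Nu, map_zero]
  rw [Groth.Agent.H9.Shf.mem_schubertVanishing_iff] at hf
  have hprod : ∏ i : Fin d, (if i = (⟨0, hd⟩ : Fin d) then a none else 1) = a none := by
    rw [Finset.prod_ite_eq' Finset.univ (⟨0, hd⟩ : Fin d) (fun _ => a none),
      if_pos (Finset.mem_univ _)]
  have hA : ∀ θ : Idx d n,
      ((Matrix.of fun (s : Fin n) (t : Fin d) => (if t = (⟨0, hd⟩ : Fin d) then a none else 1) *
        ((N1 K τ).map (MvPolynomial.eval a)) s t).submatrix θ.1 id).det =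
      a none * (((N1 K τ).map (MvPolynomial.eval a)).submatrix θ.1 id).det := by
    intro θ
    have := Matrix.det_mul_row (fun t : Fin d => if t = (⟨0, hd⟩ : Fin d) then a none else 1)
      (((N1 K τ).map (MvPolynomial.eval a)).submatrix θ.1 id)
    rw [hprod] at this
    rw [← this]
    rfl
  have h2 := hf (Matrix.of fun (s : Fin n) (t : Fin d) =>
      (if t = (⟨0, hd⟩ : Fin d) then a none else 1) *
        ((N1 K τ).map (MvPolynomial.eval a)) s t) ?_
  · unfold evalMinors at h2
    simp only [hA] at h2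
    exact h2
  · intro φ hφ
    rw [hA]
    have h0 := congrArg (MvPolynomial.eval a) (N1_minor_eq_zero K τ φ hφ)
    rw [RingHom.map_det, map_zero] at h0
    have h0' : (((N1 K τ).map (MvPolynomial.eval a)).submatrix φ.1 id).det = 0 := h0
    rw [h0', mul_zero]

end nrm

end Groth.Agent.H9.Nrm
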