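import Mathlib
import Groth.Prelude.Def_W4bk4grassmannianPl
import Groth.Agent.Lib.Helper9.Misc.NrmB
set_option autoImplicit false
set_option linter.unusedSectionVars false
set_option linter.unusedVariables false

namespace Groth.Agent.H9.Nrm

open MvPolynomial W4bk4grassmannian
open Groth.Agent.H9

section nrmC

variable (K : Type*) [Field K] {d n : ℕ}

theorem schubert_eq_ker_Psi [Infinite K] (hd : 0 < d) (τ : Idx d n) (hn : 0 < n) :
    schubertVanishing K d n τ =
      RingHom.ker (Ldt.Psi K (fun _ : Fin d => (⟨0, hn⟩ : Fin n)) τ.1).toRingHom := by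
  apply le_antisymm
  · intro f hf
    rw [RingHom.mem_ker]
    exact Ldt.Psi_schubert K _ τ hf
  · intro f hf
    rw [RingHom.mem_ker] at hf
    obtain ⟨l, hl⟩ := Ldt.exists_expansion K f
    have hΨ : Ldt.Psi K (fun _ : Fin d => (⟨0, hn⟩ : Fin n)) τ.1
        (l.sum (fun x a => a • chainMon K x.2.1)) = 0 := by
      have h1 := Ldt.Psi_schubert K (fun _ : Fin d => (⟨0, hn⟩ : Fin n)) τ
        (Shf.plIdealTop_le_schubert K τ hl)
      rw [map_sub] at h1
      have hf' : Ldt.Psi K (fun _ : Fin d => (⟨0, hn⟩ : Fin n)) τ.1 f = 0 := hf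
      rw [hf', zero_sub, neg_eq_zero] at h1
      exact h1
    unfold Finsupp.sum at hΨ
    have hcoef := Ldt.Psi_coeff_zero K hd (fun _ : Fin d => (⟨0, hn⟩ : Fin n)) τ.1 monotone_const
      τ.2.monotone (fun x : Ldt.Ch d n => x) Function.injective_id l.support (fun x => l x) hΨ
    have hmem : l.sum (fun x a => a • chainMon K x.2.1) ∈ schubertVanishing K d n τ := by
      unfold Finsupp.sum
      apply Ideal.sum_mem
      intro x hx
      apply Submodule.smul_of_tower_mem
      have hnf : ¬ Ldt.Fits (fun _ : Fin d => (⟨0, hn⟩ : Fin n)) τ.1 x :=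
        fun hfit => (Finsupp.mem_support_iff.1 hx) (hcoef x hx hfit)
      unfold Ldt.Fits at hnf
      obtain ⟨k, hk⟩ := not_forall.1 hnf
      apply Ldt.chainMon_mem_of_mem K _ _ k
      apply Shf.X_mem_schubert
      intro hle
      exact hk (fun t => ⟨Fin.le_def.2 (Nat.zero_le _), hle t⟩)
    have := Ideal.add_mem _ (Shf.plIdealTop_le_schubert K τ hl) hmem
    rwa [sub_add_cancel] at this

theorem schubert_isPrime [Infinite K] (hd : 0 < d) (τ : Idx d n) :
    (schubertVanishing K d n τ).IsPrime := by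
  have hn : 0 < n := Fin.pos (τ.1 ⟨0, hd⟩)
  rw [schubert_eq_ker_Psi K hd τ hn]
  exact RingHom.ker_isPrime _

theorem X_not_mem_schubert [Infinite K] (hd : 0 < d) (τ θ : Idx d n) (h : θ ≤ τ) :
    (X θ : PlRing K d n) ∉ schubertVanishing K d n τ := by
  intro h0
  have hn : 0 < n := Fin.pos (τ.1 ⟨0, hd⟩)
  have h1 := Ldt.Psi_schubert K (fun _ : Fin d => (⟨0, hn⟩ : Fin n)) τ h0
  exact Ldt.Psi_X_ne_zero K _ τ.1 θ (fun t => ⟨Fin.le_def.2 (Nat.zero_le _), h t⟩) h1

theorem wt_update_lt (τ : Idx d n) (t : Fin d) (s : Fin n) (h : τ.1 t < s) :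
    SMT.wt τ < ∑ c : Fin d, ((Function.update τ.1 t s c : Fin n) : ℕ) := by
  unfold SMT.wt
  apply Finset.sum_lt_sum
  · intro c _
    by_cases hc : c = t
    · rw [hc, Function.update_self]; exact Nat.le_of_lt (Fin.lt_def.1 h)
    · rw [Function.update_of_ne hc]
  · exact ⟨t, Finset.mem_univ _, by rw [Function.update_self]; exact Fin.lt_def.1 h⟩

theorem entry_eq_zero (B : Matrix (Fin n) (Fin d) K) (τ : Idx d n)
    (h1 : B.submatrix τ.1 id = 1)
    (hB : ∀ φ : Idx d n, ¬ φ ≤ τ → (B.submatrix φ.1 id).det = 0) (t : Fin d) (s : Fin n)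
    (h : τ.1 t < s) : B s t = 0 := by
  rw [← det_update_of_submatrix_eq_one B τ.1 h1 t s, ← Shf.evalMinors_coord]
  rcases SMT.coord_pm K (Function.update τ.1 t s) with h0 | ⟨θ, e, h2, h3⟩
  · rw [h0, map_zero]
  · rw [h2, map_mul, map_pow, map_neg, map_one, Shf.evalMinors_X, hB θ, mul_zero]
    intro hle
    have hw : SMT.wt θ ≤ SMT.wt τ := Finset.sum_le_sum (fun c _ => Fin.le_def.1 (hle c))
    have := wt_update_lt τ t s h
    omega

theorem evalMinors_eq_zero_of_Nu (τ : Idx d n) (f : PlRing K d n) (hf : Nu K τ f = 0)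
    (A : Matrix (Fin n) (Fin d) K)
    (hA : ∀ φ : Idx d n, ¬ φ ≤ τ → (A.submatrix φ.1 id).det = 0)
    (hδ : (A.submatrix τ.1 id).det ≠ 0) : evalMinors K d n A f = 0 := by
  classical
  obtain ⟨M, hM⟩ : ∃ M, M = A.submatrix τ.1 id := ⟨_, rfl⟩
  rw [← hM] at hδ
  have hu : IsUnit M.det := IsUnit.mk0 _ hδ
  obtain ⟨B, hB⟩ : ∃ B, B = A * M⁻¹ := ⟨_, rfl⟩
  have hBM : B * M = A := by
    rw [hB, Matrix.mul_assoc, Matrix.nonsing_inv_mul _ hu, Matrix.mul_one]
  have hBτ : B.submatrix τ.1 id = 1 := by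
    have : B.submatrix τ.1 id = M * M⁻¹ := by
      ext i j
      simp only [hB, hM, Matrix.submatrix_apply, Matrix.mul_apply, id_eq]
    rw [this, Matrix.mul_nonsing_inv _ hu]
  have hminor : ∀ θ : Fin d → Fin n,
      (A.submatrix θ id).det = M.det * (B.submatrix θ id).det := by
    intro θ
    have : A.submatrix θ id = B.submatrix θ id * M := by
      rw [← hBM]
      ext i j
      simp only [Matrix.submatrix_apply, Matrix.mul_apply, id_eq]
    rw [this, Matrix.det_mul, mul_comm]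
  have hSchB : ∀ φ : Idx d n, ¬ φ ≤ τ → (B.submatrix φ.1 id).det = 0 := by
    intro φ hφ
    have h1 := hminor φ.1
    rw [hA φ hφ] at h1
    rcases mul_eq_zero.1 h1.symm with h2 | h2
    · exact absurd h2 hδ
    · exact h2
  obtain ⟨a, ha⟩ : ∃ a : Option (W τ) → K, a = fun v => match v with
      | none => M.det
      | some w => B w.1.1 w.1.2 := ⟨_, rfl⟩
  have ha0 : a none = M.det := by rw [ha]
  have ha1 : ∀ w : W τ, a (some w) = B w.1.1 w.1.2 := by intro w; rw [ha]
  have hN : (N1 K τ).map (MvPolynomial.eval a) = B := by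
    ext s t
    rw [Matrix.map_apply]
    by_cases h1 : ∃ c, s = τ.1 c
    · obtain ⟨c, rfl⟩ := h1
      by_cases hct : c = t
      · subst hct
        rw [N1_apply_self, map_one]
        have := congrFun (congrFun hBτ c) c
        rw [Matrix.submatrix_apply, id_eq, Matrix.one_apply_eq] at this
        exact this.symm
      · rw [N1_apply_range K τ c t hct, map_zero]
        have := congrFun (congrFun hBτ c) t
        rw [Matrix.submatrix_apply, id_eq, Matrix.one_apply_ne hct] at this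
        exact this.symm
    · have hnr : s ∉ Set.range τ.1 := fun ⟨c, hc⟩ => h1 ⟨c, hc.symm⟩
      rcases lt_trichotomy s (τ.1 t) with h2 | h2 | h2
      · have h3 : N1 K τ s t = X (some ⟨(s, t), h2, hnr⟩) :=
          N1_apply_W K τ ⟨(s, t), h2, hnr⟩
        rw [h3, eval_X, ha1]
      · exact absurd ⟨t, h2⟩ h1
      · rw [N1_apply_gt K τ s t h2, map_zero]
        exact (entry_eq_zero K B τ hBτ hSchB t s h2).symm
  have h4 := eval_Nu K τ a f
  rw [hf, map_zero, hN] at h4
  have hfun : (fun θ : Idx d n => a none * (B.submatrix θ.1 id).det) =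
      fun θ : Idx d n => (A.submatrix θ.1 id).det := by
    funext θ
    rw [ha0]
    exact (hminor θ.1).symm
  rw [hfun] at h4
  exact h4.symm

theorem ker_Nu [Infinite K] (hd : 0 < d) (τ : Idx d n) :
    RingHom.ker (Nu K τ).toRingHom = schubertVanishing K d n τ := by
  apply le_antisymm
  · intro f hf
    rw [RingHom.mem_ker] at hf
    have hf' : Nu K τ f = 0 := hf
    have hmul : X τ * f ∈ schubertVanishing K d n τ := by
      rw [Shf.mem_schubertVanishing_iff]
      intro A hA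
      rw [map_mul, Shf.evalMinors_X]
      by_cases hδ : (A.submatrix τ.1 id).det = 0
      · rw [hδ, zero_mul]
      · rw [evalMinors_eq_zero_of_Nu K τ f hf' A hA hδ, mul_zero]
    have hP := schubert_isPrime K hd τ
    rcases Ideal.IsPrime.mem_or_mem hP hmul with h | h
    · exact absurd h (X_not_mem_schubert K hd τ τ le_rfl)
    · exact h
  · intro f hf
    rw [RingHom.mem_ker]
    exact Nu_schubert K τ hd hf

theorem dvd_mk_iff {S : Type*} [CommRing S] (J : Ideal S) (a b : S) :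
    Ideal.Quotient.mk J a ∣ Ideal.Quotient.mk J b ↔ b ∈ J ⊔ Ideal.span {a} := by
  constructor
  · rintro ⟨c, hc⟩
    obtain ⟨c', rfl⟩ := Ideal.Quotient.mk_surjective c
    rw [← map_mul, Ideal.Quotient.eq] at hc
    have : b = (b - a * c') + a * c' := by ring
    rw [this]
    exact Ideal.add_mem _ (Ideal.mem_sup_left hc)
      (Ideal.mem_sup_right (Ideal.mul_mem_right _ _ (Ideal.subset_span rfl)))
  · intro h
    obtain ⟨j, hj, z, hz, rfl⟩ := Submodule.mem_sup.1 h
    obtain ⟨c, rfl⟩ := Ideal.mem_span_singleton'.1 hz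
    refine ⟨Ideal.Quotient.mk J c, ?_⟩
    rw [map_add, Ideal.Quotient.eq_zero_iff_mem.2 hj, zero_add, map_mul, mul_comm]

theorem sup_isRadical [Infinite K] (hd : 0 < d) (hdn : d < n) (τ : Idx d n) :
    (schubertVanishing K d n τ ⊔ Ideal.span {X τ}).IsRadical := by
  by_cases hτ : ∃ φ : Idx d n, φ < τ
  · rw [Ldt.divisor_inter K hd τ hτ]
    intro f hf
    obtain ⟨k, hk⟩ := Ideal.mem_radical_iff.1 hf
    rw [Ideal.mem_iInf] at hk ⊢
    intro φ
    have := hk φ
    rw [Ideal.mem_iInf] at this ⊢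
    intro hφ
    exact Ldt.schubert_isRadical K φ (Ideal.mem_radical_iff.2 ⟨k, this hφ⟩)
  · have hτι : τ = Ldt.iota hdn := by
      by_contra hne
      apply hτ
      refine ⟨Ldt.iota hdn, lt_of_le_of_ne ?_ (Ne.symm hne)⟩
      intro t
      exact Fin.le_def.2 (SMT.le_of_strictMono τ.1 τ.2 t)
    rw [hτι, Ldt.ker_Psi_iota K hd hdn]
    exact (RingHom.ker_isPrime _).isRadical

theorem normal [Infinite K] (hd : 0 < d) (hdn : d < n) (τ : Idx d n) :
    IsDomain (PlRing K d n ⧸ schubertVanishing K d n τ) ∧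
      IsIntegrallyClosed (PlRing K d n ⧸ schubertVanishing K d n τ) := by
  haveI hP := schubert_isPrime K hd τ
  haveI hdom : IsDomain (PlRing K d n ⧸ schubertVanishing K d n τ) := Ideal.Quotient.isDomain _
  refine ⟨hdom, ?_⟩
  have hker : ∀ f ∈ schubertVanishing K d n τ, (Nu K τ).toRingHom f = 0 :=
    fun f hf => Nu_schubert K τ hd hf
  apply isIntegrallyClosed_of_embedding (Ideal.Quotient.lift _ (Nu K τ).toRingHom hker) ?_
    (Ideal.Quotient.mk _ (X τ)) ?_ ?_ ?_
  · rw [injective_iff_map_eq_zero]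
    intro r hr
    obtain ⟨g, rfl⟩ := Ideal.Quotient.mk_surjective r
    rw [Ideal.Quotient.lift_mk] at hr
    rw [Ideal.Quotient.eq_zero_iff_mem, ← ker_Nu K hd τ, RingHom.mem_ker]
    exact hr
  · rw [Ideal.Quotient.lift_mk]
    show Nu K τ (X τ) ≠ 0
    rw [Nu_X_tau]
    exact MvPolynomial.X_ne_zero _
  · intro r m hdvd
    obtain ⟨g, rfl⟩ := Ideal.Quotient.mk_surjective r
    rw [← map_pow, dvd_mk_iff] at hdvd
    rw [dvd_mk_iff]
    exact sup_isRadical K hd hdn τ (Ideal.mem_radical_iff.2 ⟨m, hdvd⟩)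
  · intro p
    obtain ⟨k, g, hg⟩ := Nu_gen K τ p
    refine ⟨k, Ideal.Quotient.mk _ g, ?_⟩
    rw [Ideal.Quotient.lift_mk, Ideal.Quotient.lift_mk]
    show Nu K τ (X τ) ^ k * p = Nu K τ g
    rw [Nu_X_tau]; exact hg

end nrmC

end Groth.Agent.H9.Nrm
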