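import Mathlib
import Groth.Prelude.Def_W4bk4grassmannianPl
import Groth.Agent.Lib.Helper9.Misc.NrmC
import Groth.Agent.Lib.Helper2.DimFG
set_option autoImplicit false
set_option linter.unusedSectionVars false
set_option linter.unusedVariables false

universe u

namespace Groth.Agent.H9.Nrm

open MvPolynomial W4bk4grassmannian
open Groth.Agent.H9

theorem trdeg_eq_of_embedding {K R P : Type u} [Field K] [CommRing R] [IsDomain R] [Algebra K R]
    [CommRing P] [IsDomain P] [Algebra K P]
    (φ : R →ₐ[K] P) (hφ : Function.Injective φ) (x : R) (hx : φ x ≠ 0)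
    (hgen : ∀ p : P, ∃ (k : ℕ) (r : R), φ x ^ k * p = φ r) :
    Algebra.trdeg K R = Algebra.trdeg K P := by
  letI : Algebra R P := φ.toRingHom.toAlgebra
  haveI : IsScalarTower K R P := IsScalarTower.of_algebraMap_eq (fun c => (φ.commutes c).symm)
  haveI : FaithfulSMul K R :=
    (faithfulSMul_iff_algebraMap_injective _ _).mpr (algebraMap K R).injective
  haveI : FaithfulSMul R P := (faithfulSMul_iff_algebraMap_injective _ _).mpr hφ
  haveI : Algebra.IsAlgebraic R P := by
    constructor
    intro p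
    obtain ⟨k, r, hkr⟩ := hgen p
    refine ⟨Polynomial.C (x ^ k) * Polynomial.X - Polynomial.C r, ?_, ?_⟩
    · intro h0
      have h1 : (Polynomial.C (x ^ k) * Polynomial.X - Polynomial.C r).coeff (0 + 1) =
          (0 : Polynomial R).coeff (0 + 1) := by rw [h0]
      rw [Polynomial.coeff_sub, Polynomial.coeff_mul_X, Polynomial.coeff_C_zero,
        Polynomial.coeff_C_of_ne_zero (by norm_num), sub_zero, Polynomial.coeff_zero] at h1
      apply hx
      rw [eq_zero_of_pow_eq_zero h1, map_zero]
    · rw [map_sub, map_mul, Polynomial.aeval_C, Polynomial.aeval_C, Polynomial.aeval_X]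
      show φ (x ^ k) * p - φ r = 0
      rw [map_pow, hkr, sub_self]
  have h := trdeg_add_eq K R (A := P)
  rw [trdeg_eq_zero (R := R) (A := P), add_zero] at h
  exact h

section count

variable {d n : ℕ} (w : Idx d n)

theorem card_fiber (t : Fin d) :
    Fintype.card {s : Fin n // s < w.1 t ∧ s ∉ Set.range w.1} = (w.1 t).val - t.val := by
  classical
  rw [Fintype.card_subtype]
  have hset : (Finset.univ.filter fun s : Fin n => s < w.1 t ∧ s ∉ Set.range w.1) =
      Finset.Iio (w.1 t) \ (Finset.Iio t).image w.1 := by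
    ext s
    simp only [Finset.mem_filter, Finset.mem_univ, true_and, Finset.mem_sdiff, Finset.mem_Iio,
      Finset.mem_image, Set.mem_range, not_exists, not_and]
    constructor
    · rintro ⟨h1, h2⟩
      exact ⟨h1, fun c _ hc => h2 c hc⟩
    · rintro ⟨h1, h2⟩
      refine ⟨h1, fun c hc => ?_⟩
      have hlt : c < t := by
        apply w.2.lt_iff_lt.1
        rw [hc]; exact h1
      exact h2 c hlt hc
  rw [hset, Finset.card_sdiff_of_subset, Fin.card_Iio,
    Finset.card_image_of_injective _ w.2.injective, Fin.card_Iio]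
  intro s hs
  obtain ⟨c, hc, rfl⟩ := Finset.mem_image.1 hs
  exact Finset.mem_Iio.2 (w.2 (Finset.mem_Iio.1 hc))

/-- the cell coordinates fibre over the columns -/
def WEquiv : W w ≃ Σ t : Fin d, {s : Fin n // s < w.1 t ∧ s ∉ Set.range w.1} where
  toFun p := ⟨p.1.2, ⟨p.1.1, p.2⟩⟩
  invFun q := ⟨(q.2.1, q.1), q.2.2⟩
  left_inv p := rfl
  right_inv q := rfl

theorem card_W : Fintype.card (W w) = codeg w := by
  classical
  rw [Fintype.card_congr (WEquiv w), Fintype.card_sigma]
  unfold codeg
  apply Finset.sum_congr rfl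
  intro t _
  exact card_fiber w t

end count

theorem krullDim {K : Type u} [Field K] [Infinite K] {d n : ℕ} (hd : 0 < d) (hdn : d < n)
    (w : Idx d n) :
    ringKrullDim (PlRing K d n ⧸ schubertVanishing K d n w) =
      ((codeg w + 1 : ℕ) : WithBot ℕ∞) := by
  classical
  haveI hP := schubert_isPrime K hd w
  haveI hdom : IsDomain (PlRing K d n ⧸ schubertVanishing K d n w) := Ideal.Quotient.isDomain _
  obtain ⟨s, hs1, hs2⟩ := Groth.Agent.H2.DimFG.exists_dim_eq_trdeg K
    (PlRing K d n ⧸ schubertVanishing K d n w)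
  rw [hs1]
  suffices h : s = codeg w + 1 by rw [h]
  have hker : ∀ f ∈ schubertVanishing K d n w, Nu K w f = 0 :=
    fun f hf => Nu_schubert K w hd hf
  have htr := trdeg_eq_of_embedding (Ideal.Quotient.liftₐ _ (Nu K w) hker) ?_
    (Ideal.Quotient.mk _ (X w)) ?_ ?_
  · rw [hs2, MvPolynomial.trdeg_of_isDomain] at htr
    have hc : Fintype.card (Option (W w)) = codeg w + 1 := by
      rw [Fintype.card_option, card_W]
    rw [Cardinal.mk_fintype, hc] at htr
    simp only [Cardinal.lift_natCast] at htr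
    exact_mod_cast htr
  · rw [injective_iff_map_eq_zero]
    intro r hr
    obtain ⟨g, rfl⟩ := Ideal.Quotient.mk_surjective r
    rw [Ideal.Quotient.liftₐ_apply, Ideal.Quotient.lift_mk] at hr
    rw [Ideal.Quotient.eq_zero_iff_mem, ← ker_Nu K hd w, RingHom.mem_ker]
    exact hr
  · rw [Ideal.Quotient.liftₐ_apply, Ideal.Quotient.lift_mk]
    show Nu K w (X w) ≠ 0
    rw [Nu_X_tau]
    exact MvPolynomial.X_ne_zero _
  · intro p
    obtain ⟨k, g, hg⟩ := Nu_gen K w p
    refine ⟨k, Ideal.Quotient.mk _ g, ?_⟩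
    rw [Ideal.Quotient.liftₐ_apply, Ideal.Quotient.lift_mk, Ideal.Quotient.liftₐ_apply,
      Ideal.Quotient.lift_mk]
    show Nu K w (X w) ^ k * p = Nu K w g
    rw [Nu_X_tau]; exact hg

end Groth.Agent.H9.Nrm
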