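import Mathlib
import Groth.Prelude.Def_W4bk4grassmannianPl
import Groth.Agent.Lib.Helper9.Misc.LdtF
import Groth.Agent.Lib.Helper9.Misc.NrmD
import Groth.Agent.Lib.Helper9.Misc.CmA

set_option autoImplicit false
set_option linter.unusedSectionVars false
set_option linter.unusedVariables false

open MvPolynomial W4bk4grassmannian

namespace Groth.Agent.H9.SchCM

attribute [local instance] MvPolynomial.gradedAlgebra

universe u

variable (K : Type u) [Field K] {d n : ℕ}

theorem coord_isHomogeneous (a : Fin d → Fin n) : (coord K d n a).IsHomogeneous 1 := by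
  unfold coord
  split_ifs with h
  · have h1 : ((-1 : PlRing K d n) ^ invCount d n a) = C ((-1 : K) ^ invCount d n a) := by simp
    rw [h1]
    have := (isHomogeneous_C (Idx d n) ((-1 : K) ^ invCount d n a)).mul
      (isHomogeneous_X K (sortIdx d n a h))
    rwa [zero_add] at this
  · exact isHomogeneous_zero _ _ _

theorem shuffleRel_isHomogeneous (i j : Idx d n) (r : Fin d) :
    (shuffleRel K i j r).IsHomogeneous 2 := by
  unfold shuffleRel
  apply IsHomogeneous.sum
  intro A _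
  unfold shuffleTerm
  split_ifs with hA
  · have h1 : ((-1 : PlRing K d n) ^ shuffleSign r A) = C ((-1 : K) ^ shuffleSign r A) := by simp
    rw [h1]
    have := ((isHomogeneous_C (Idx d n) ((-1 : K) ^ shuffleSign r A)).mul
      (coord_isHomogeneous K (shuffleI i j r A hA))).mul
      (coord_isHomogeneous K (shuffleJ i j r A hA))
    rwa [zero_add] at this
  · exact isHomogeneous_zero _ _ _

theorem plIdeal_isHomogeneous (τ : Idx d n) :
    (plIdeal K τ).IsHomogeneous (homogeneousSubmodule (Idx d n) K) := by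
  unfold plIdeal
  apply Ideal.homogeneous_span
  rintro f (⟨i, j, r, _, rfl⟩ | ⟨φ, _, rfl⟩)
  · exact ⟨2, (mem_homogeneousSubmodule 2 _).2 (shuffleRel_isHomogeneous K i j r)⟩
  · exact ⟨1, (mem_homogeneousSubmodule 1 _).2 (isHomogeneous_X K φ)⟩

theorem schubert_isHomogeneous [Infinite K] (hd : 0 < d) (τ : Idx d n) :
    (schubertVanishing K d n τ).IsHomogeneous (homogeneousSubmodule (Idx d n) K) := by
  rw [← Ldt.plIdeal_eq_schubert K hd τ]
  exact plIdeal_isHomogeneous K τ

theorem iInf_schubert_isHomogeneous [Infinite K] (hd : 0 < d) (Φ : Finset (Idx d n)) :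
    (⨅ φ ∈ Φ, schubertVanishing K d n φ).IsHomogeneous (homogeneousSubmodule (Idx d n) K) :=
  Ideal.IsHomogeneous.iInf₂ fun φ _ => schubert_isHomogeneous K hd φ

theorem iInf_schubert_eq [Infinite K] (hd : 0 < d) (Φ : Finset (Idx d n)) (hΦ : Φ.Nonempty) :
    ⨅ φ ∈ Φ, schubertVanishing K d n φ =
      plIdealTop (d := d) (n := n) K ⊔
        Ideal.span {f | ∃ θ : Idx d n, (∀ φ ∈ Φ, ¬ θ ≤ φ) ∧ f = X θ} := by
  apply le_antisymm
  · intro f hf
    obtain ⟨l, hl⟩ := Ldt.exists_expansion K f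
    have hFφ : ∀ φ ∈ Φ,
        l.sum (fun x a => a • chainMon K x.2.1) ∈ schubertVanishing K d n φ := by
      intro φ hφ
      have h1 : f ∈ schubertVanishing K d n φ := by
        have := Ideal.mem_iInf.1 hf φ
        exact Ideal.mem_iInf.1 this hφ
      have := (schubertVanishing K d n φ).sub_mem h1 (Shf.plIdealTop_le_schubert K φ hl)
      rwa [sub_sub_cancel] at this
    have hmem : l.sum (fun x a => a • chainMon K x.2.1) ∈
        Ideal.span {f | ∃ θ : Idx d n, (∀ φ ∈ Φ, ¬ θ ≤ φ) ∧ f = X θ} := by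
      unfold Finsupp.sum
      apply Ideal.sum_mem
      intro x hx
      apply Submodule.smul_of_tower_mem
      by_cases ha : ∃ k, ∀ φ ∈ Φ, ¬ x.2.1 k ≤ φ
      · obtain ⟨k, hk⟩ := ha
        apply Ldt.chainMon_mem_of_mem K _ _ k
        exact Ideal.subset_span ⟨_, hk, rfl⟩
      · exfalso
        push Not at ha
        have hex : ∃ φ ∈ Φ, ∀ k, x.2.1 k ≤ φ := by
          by_cases h0 : x.1 = 0
          · obtain ⟨φ, hφ⟩ := hΦ
            exact ⟨φ, hφ, fun k => absurd k.2 (by omega)⟩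
          · obtain ⟨φ, hφ, hle⟩ := ha ⟨0, by omega⟩
            exact ⟨φ, hφ, fun k => le_trans (x.2.2 (Fin.le_def.2 (Nat.zero_le _))) hle⟩
        obtain ⟨φ, hφ, hle⟩ := hex
        have h2 := hFφ φ hφ
        unfold Finsupp.sum at h2
        have := Ldt.indep_schubert K hd (fun x : Ldt.Ch d n => x) Function.injective_id l.support
          (fun x => l x) φ h2 x hx hle
        exact (Finsupp.mem_support_iff.1 hx) this
    have := Ideal.add_mem _ (Ideal.mem_sup_left hl) (Ideal.mem_sup_right hmem)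
    rwa [sub_add_cancel] at this
  · apply sup_le
    · exact le_iInf fun φ => le_iInf fun _ => Shf.plIdealTop_le_schubert K φ
    · rw [Ideal.span_le]
      rintro f ⟨θ, hθ, rfl⟩
      rw [SetLike.mem_coe, Ideal.mem_iInf]
      intro φ
      rw [Ideal.mem_iInf]
      intro hφ
      exact Shf.X_mem_schubert K φ θ (hθ φ hφ)

theorem inf_le_l (φ ψ : Idx d n) : W4bk4grassmannian.inf φ ψ ≤ φ := fun t => min_le_left _ _

theorem inf_le_r (φ ψ : Idx d n) : W4bk4grassmannian.inf φ ψ ≤ ψ := fun t => min_le_right _ _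

theorem le_inf' {θ φ ψ : Idx d n} (h1 : θ ≤ φ) (h2 : θ ≤ ψ) : θ ≤ W4bk4grassmannian.inf φ ψ :=
  fun t => le_min (h1 t) (h2 t)

theorem sup_iInf_eq [Infinite K] (hd : 0 < d) (ψ : Idx d n) (Φ : Finset (Idx d n))
    (hΦ : Φ.Nonempty) :
    schubertVanishing K d n ψ ⊔ ⨅ φ ∈ Φ, schubertVanishing K d n φ =
      ⨅ φ ∈ Φ.image (fun φ => W4bk4grassmannian.inf φ ψ), schubertVanishing K d n φ := by
  classical
  have h1 : schubertVanishing K d n ψ =
      ⨅ φ ∈ ({ψ} : Finset (Idx d n)), schubertVanishing K d n φ := by simp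
  rw [h1, iInf_schubert_eq K hd _ (Finset.singleton_nonempty ψ), iInf_schubert_eq K hd Φ hΦ,
    iInf_schubert_eq K hd _ (hΦ.image _)]
  rw [sup_sup_sup_comm, sup_idem, ← Ideal.span_union]
  refine congrArg (fun s => plIdealTop (d := d) (n := n) K ⊔ Ideal.span s) ?_
  apply Set.ext
  intro f
  constructor
  · rintro (⟨θ, hθ, rfl⟩ | ⟨θ, hθ, rfl⟩)
    · refine ⟨θ, ?_, rfl⟩
      intro φ' hφ' hle
      rw [Finset.mem_image] at hφ'
      obtain ⟨φ, hφ, rfl⟩ := hφ'
      exact hθ ψ (Finset.mem_singleton_self ψ) (le_trans hle (inf_le_r φ ψ))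
    · refine ⟨θ, ?_, rfl⟩
      intro φ' hφ' hle
      rw [Finset.mem_image] at hφ'
      obtain ⟨φ, hφ, rfl⟩ := hφ'
      exact hθ φ hφ (le_trans hle (inf_le_l φ ψ))
  · rintro ⟨θ, hθ, rfl⟩
    by_cases hψ : θ ≤ ψ
    · right
      refine ⟨θ, ?_, rfl⟩
      intro φ hφ hle
      exact hθ _ (Finset.mem_image_of_mem _ hφ) (le_inf' hle hψ)
    · left
      refine ⟨θ, ?_, rfl⟩
      intro φ hφ
      rw [Finset.mem_singleton] at hφ
      rw [hφ]
      exact hψ

theorem codeg_eq_add {α β : Idx d n} (h : α ≤ β) :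
    codeg β = codeg α + ∑ t, ((β.1 t).val - (α.1 t).val) := by
  unfold codeg
  rw [← Finset.sum_add_distrib]
  refine Finset.sum_congr rfl fun t _ => ?_
  have h1 := Groth.Agent.H9.SchubDiv.val_ge d n α t
  have h2 : (α.1 t).val ≤ (β.1 t).val := Fin.le_def.1 (h t)
  omega

theorem exists_unique_entry {α β : Idx d n} (h : α ≤ β) (hc : codeg α + 1 = codeg β) :
    ∃ a, (β.1 a).val = (α.1 a).val + 1 ∧ ∀ t, t ≠ a → α.1 t = β.1 t := by
  classical
  have hsum : ∑ t, ((β.1 t).val - (α.1 t).val) = 1 := by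
    have := codeg_eq_add h
    omega
  have hex : ∃ a, (β.1 a).val - (α.1 a).val ≠ 0 := by
    by_contra hne
    push Not at hne
    rw [Finset.sum_eq_zero (fun t _ => hne t)] at hsum
    omega
  obtain ⟨a, ha⟩ := hex
  have hsplit := Finset.add_sum_erase Finset.univ (fun t => (β.1 t).val - (α.1 t).val)
    (Finset.mem_univ a)
  rw [hsum] at hsplit
  have ha1 : (β.1 a).val - (α.1 a).val = 1 := by omega
  have hrest : ∑ t ∈ Finset.univ.erase a, ((β.1 t).val - (α.1 t).val) = 0 := by omega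
  rw [Finset.sum_eq_zero_iff] at hrest
  refine ⟨a, by omega, ?_⟩
  intro t hta
  have := hrest t (Finset.mem_erase.2 ⟨hta, Finset.mem_univ _⟩)
  have h2 : (α.1 t).val ≤ (β.1 t).val := Fin.le_def.1 (h t)
  apply Fin.ext
  omega

theorem inf_mem_divisors {τ φ ψ : Idx d n} (hφ : φ ∈ divisors τ) (hψ : ψ ∈ divisors τ)
    (hne : φ ≠ ψ) : W4bk4grassmannian.inf φ ψ ∈ divisors ψ := by
  obtain ⟨a, ha1, ha2⟩ := exists_unique_entry hφ.1.le hφ.2
  obtain ⟨b, hb1, hb2⟩ := exists_unique_entry hψ.1.le hψ.2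
  have hab : a ≠ b := by
    rintro rfl
    apply hne
    apply Subtype.ext
    funext t
    by_cases hta : t = a
    · subst hta
      apply Fin.ext
      omega
    · rw [ha2 t hta, hb2 t hta]
  have hle : W4bk4grassmannian.inf φ ψ ≤ ψ := inf_le_r φ ψ
  have hinf_a : ((W4bk4grassmannian.inf φ ψ).1 a).val + 1 = (ψ.1 a).val := by
    show (min (φ.1 a) (ψ.1 a)).val + 1 = _
    have h1 : ψ.1 a = τ.1 a := hb2 a hab
    have h2 : φ.1 a ≤ ψ.1 a := by
      rw [h1, Fin.le_def]
      omega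
    rw [min_eq_left h2, h1]
    omega
  have hinf_t : ∀ t, t ≠ a → (W4bk4grassmannian.inf φ ψ).1 t = ψ.1 t := by
    intro t hta
    show min (φ.1 t) (ψ.1 t) = ψ.1 t
    rw [ha2 t hta]
    exact min_eq_right (hψ.1.le t)
  refine ⟨lt_of_le_of_ne hle ?_, ?_⟩
  · intro h
    have := congrArg (fun x : Idx d n => (x.1 a).val) h
    omega
  · have := codeg_eq_add hle
    have hsum : ∑ t, ((ψ.1 t).val - ((W4bk4grassmannian.inf φ ψ).1 t).val) = 1 := by
      rw [Finset.sum_eq_single a]
      · omega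
      · intro t _ hta
        rw [hinf_t t hta, Nat.sub_self]
      · intro h
        exact absurd (Finset.mem_univ a) h
    omega

end Groth.Agent.H9.SchCM
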