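import Mathlib
import Groth.Prelude.Def_W4bk4grassmannianPl
import Groth.Agent.Lib.Helper9.Misc.CmB
import Groth.Agent.Lib.Helper6.PolyBasic

set_option autoImplicit false
set_option linter.unusedSectionVars false
set_option linter.unusedVariables false

open MvPolynomial W4bk4grassmannian

namespace Groth.Agent.H9.SchCM

attribute [local instance] MvPolynomial.gradedAlgebra

universe u

variable (K : Type u) [Field K] {d n : ℕ}

theorem field_cm : LocCoh.IsCohenMacaulayRing K := by
  haveI : LocCoh.IsCohenMacaulayRing (MvPolynomial (Fin 0) K) := Groth.Agent.H6.PolyGr.instCM K 0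
  exact Groth.Agent.H6.Liai.cm_of_ringEquiv (MvPolynomial.isEmptyRingEquiv K (Fin 0))

theorem quot_ker_cm (σ : Type) [Fintype σ] :
    LocCoh.IsCohenMacaulayRing
      (MvPolynomial σ K ⧸ RingHom.ker (constantCoeff : MvPolynomial σ K →+* K)) := by
  haveI := field_cm K
  have hsurj : Function.Surjective (constantCoeff : MvPolynomial σ K →+* K) := by
    intro c
    exact ⟨C c, constantCoeff_C _ c⟩
  exact Groth.Agent.H6.Liai.cm_of_ringEquiv
    (RingHom.quotientKerEquivOfSurjective hsurj).symm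

theorem base_eq [Infinite K] (hd : 0 < d) (τ : Idx d n) (hτ : codeg τ = 0) :
    schubertVanishing K d n τ ⊔ Ideal.span {X τ} =
      RingHom.ker (constantCoeff : PlRing K d n →+* K) := by
  classical
  have hval : ∀ t, (τ.1 t).val = t.val := by
    intro t
    unfold codeg at hτ
    rw [Finset.sum_eq_zero_iff] at hτ
    have h1 := hτ t (Finset.mem_univ t)
    have h2 := Groth.Agent.H9.SchubDiv.val_ge d n τ t
    omega
  have hall : ∀ θ : Idx d n, θ ≤ τ → θ = τ := by
    intro θ hθ
    apply Subtype.ext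
    funext t
    apply Fin.ext
    have h1 : (θ.1 t).val ≤ (τ.1 t).val := Fin.le_def.1 (hθ t)
    have h2 := Groth.Agent.H9.SchubDiv.val_ge d n θ t
    have h3 := hval t
    omega
  haveI := Nrm.schubert_isPrime K hd τ
  apply le_antisymm
  · apply sup_le (le_ker_of_homogeneous _ (schubert_isHomogeneous K hd τ)
      (Ideal.IsPrime.ne_top inferInstance))
    rw [Ideal.span_le, Set.singleton_subset_iff, SetLike.mem_coe, RingHom.mem_ker]
    simp
  · intro p hp
    rw [RingHom.mem_ker] at hp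
    have h1 : p ∈ Ideal.span (X '' (Set.univ : Set (Idx d n))) := by
      rw [mem_ideal_span_X_image]
      intro m hm
      have hm0 : m ≠ 0 := by
        rintro rfl
        rw [mem_support_iff] at hm
        apply hm
        rw [← hp, constantCoeff_eq]
      obtain ⟨i, hi⟩ := Finsupp.ne_iff.1 hm0
      exact ⟨i, Set.mem_univ _, hi⟩
    refine (Ideal.span_le.2 ?_) h1
    rintro _ ⟨θ, _, rfl⟩
    by_cases hθ : θ ≤ τ
    · rw [hall θ hθ]
      exact Ideal.mem_sup_right (Ideal.subset_span rfl)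
    · exact Ideal.mem_sup_left (Shf.X_mem_schubert K τ θ hθ)

theorem main [Infinite K] (hd : 0 < d) (hdn : d < n) : ∀ e : ℕ,
    (∀ τ : Idx d n, codeg τ = e →
      LocCoh.IsCohenMacaulayRing (PlRing K d n ⧸ schubertVanishing K d n τ)) ∧
    (∀ τ : Idx d n, codeg τ = e → ∀ Φ : Finset (Idx d n), Φ.Nonempty →
      (∀ φ ∈ Φ, φ ∈ divisors τ) →
      LocCoh.IsCohenMacaulayRing (PlRing K d n ⧸ ⨅ φ ∈ Φ, schubertVanishing K d n φ) ∧
      ringKrullDim (PlRing K d n ⧸ ⨅ φ ∈ Φ, schubertVanishing K d n φ) =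
        (e : WithBot ℕ∞)) := by
  classical
  intro e
  induction e using Nat.strong_induction_on with
  | _ e ih =>
  have hQ : ∀ τ : Idx d n, codeg τ = e → ∀ Φ : Finset (Idx d n), Φ.Nonempty →
      (∀ φ ∈ Φ, φ ∈ divisors τ) →
      LocCoh.IsCohenMacaulayRing (PlRing K d n ⧸ ⨅ φ ∈ Φ, schubertVanishing K d n φ) ∧
      ringKrullDim (PlRing K d n ⧸ ⨅ φ ∈ Φ, schubertVanishing K d n φ) =
        (e : WithBot ℕ∞) := by
    intro τ hτ Φ hΦ
    have he : ∀ φ, φ ∈ divisors τ → 1 ≤ e ∧ codeg φ = e - 1 := by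
      intro φ hφ
      have := hφ.2
      omega
    refine Finset.Nonempty.cons_induction (motive := fun Φ _ => (∀ φ ∈ Φ, φ ∈ divisors τ) →
      LocCoh.IsCohenMacaulayRing (PlRing K d n ⧸ ⨅ φ ∈ Φ, schubertVanishing K d n φ) ∧
      ringKrullDim (PlRing K d n ⧸ ⨅ φ ∈ Φ, schubertVanishing K d n φ) =
        (e : WithBot ℕ∞)) ?_ ?_ hΦ
    · intro ψ hdiv
      have hψ := hdiv ψ (Finset.mem_singleton_self ψ)
      obtain ⟨he1, hcod⟩ := he ψ hψ
      have h1 : ⨅ φ ∈ ({ψ} : Finset (Idx d n)), schubertVanishing K d n φ =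
          schubertVanishing K d n ψ := by simp
      rw [h1]
      refine ⟨(ih (e - 1) (by omega)).1 ψ hcod, ?_⟩
      rw [Nrm.krullDim hd hdn ψ, hcod]
      have : e - 1 + 1 = e := by omega
      rw [this]
    · intro ψ Φ hψΦ hΦ ihΦ hdiv
      rw [Finset.cons_eq_insert] at hdiv ⊢
      have hψ := hdiv ψ (Finset.mem_insert_self ψ Φ)
      obtain ⟨he1, hcod⟩ := he ψ hψ
      have hdivΦ : ∀ φ ∈ Φ, φ ∈ divisors τ := fun φ hφ => hdiv φ (Finset.mem_insert_of_mem hφ)
      obtain ⟨hcmΦ, hdimΦ⟩ := ihΦ hdivΦ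
      have h1 : ⨅ φ ∈ insert ψ Φ, schubertVanishing K d n φ =
          schubertVanishing K d n ψ ⊓ ⨅ φ ∈ Φ, schubertVanishing K d n φ :=
        Finset.iInf_insert _ _ _
      rw [h1]
      have hcmψ := (ih (e - 1) (by omega)).1 ψ hcod
      have hdimψ : ringKrullDim (PlRing K d n ⧸ schubertVanishing K d n ψ) =
          (e : WithBot ℕ∞) := by
        rw [Nrm.krullDim hd hdn ψ, hcod]
        have : e - 1 + 1 = e := by omega
        rw [this]
      have hsup := sup_iInf_eq K hd ψ Φ hΦ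
      have hdiv' : ∀ φ' ∈ Φ.image (fun φ => W4bk4grassmannian.inf φ ψ), φ' ∈ divisors ψ := by
        intro φ' hφ'
        rw [Finset.mem_image] at hφ'
        obtain ⟨φ, hφ, rfl⟩ := hφ'
        exact inf_mem_divisors (hdivΦ φ hφ) hψ (by rintro rfl; exact hψΦ hφ)
      obtain ⟨hcmIJ, hdimIJ⟩ := (ih (e - 1) (by omega)).2 ψ hcod _ (hΦ.image _) hdiv'
      rw [← hsup] at hcmIJ hdimIJ
      exact union_cm (schubertVanishing K d n ψ) (⨅ φ ∈ Φ, schubertVanishing K d n φ)
        (schubert_isHomogeneous K hd ψ) (iInf_schubert_isHomogeneous K hd Φ) e he1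
        hcmψ hcmΦ hcmIJ hdimψ hdimΦ hdimIJ
  refine ⟨?_, hQ⟩
  intro τ hτ
  haveI := Nrm.schubert_isPrime K hd τ
  have hhom := schubert_isHomogeneous K hd τ
  have hx : (X τ : PlRing K d n) ∉ schubertVanishing K d n τ :=
    Nrm.X_not_mem_schubert K hd τ τ le_rfl
  apply lift_cm (schubertVanishing K d n τ) hhom (X τ) hx (by simp)
  by_cases he0 : e = 0
  · rw [base_eq K hd τ (by omega)]
    exact quot_ker_cm K (Idx d n)
  · have hle : Ldt.iota hdn ≤ τ := by
      intro t
      rw [Fin.le_def]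
      exact Groth.Agent.H9.SchubDiv.val_ge d n τ t
    have hne : Ldt.iota hdn ≠ τ := by
      intro h
      have h0 : codeg (Ldt.iota hdn) = 0 := by
        unfold codeg
        apply Finset.sum_eq_zero
        intro t _
        show t.val - t.val = 0
        omega
      rw [h] at h0
      omega
    have hlt : Ldt.iota hdn < τ := lt_of_le_of_ne hle hne
    rw [Ldt.divisor_inter K hd τ ⟨_, hlt⟩]
    have hconv : ⨅ φ ∈ divisors τ, schubertVanishing K d n φ =
        ⨅ φ ∈ Finset.univ.filter (fun φ => φ ∈ divisors τ), schubertVanishing K d n φ := by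
      refine iInf_congr fun φ => ?_
      refine iInf_congr_Prop ?_ (fun _ => rfl)
      simp
    rw [hconv]
    have hΦne : (Finset.univ.filter (fun φ => φ ∈ divisors τ)).Nonempty := by
      obtain ⟨φ, hφ, _⟩ := Groth.Agent.H9.SchubDiv.S11268_main d n _ τ hlt
      exact ⟨φ, by simp [hφ]⟩
    exact (hQ τ hτ _ hΦne (fun φ hφ => by simpa using hφ)).1

theorem schubert_cm [Infinite K] (hd : 0 < d) (hdn : d < n) (τ : Idx d n) :
    LocCoh.IsCohenMacaulayRing (PlRing K d n ⧸ schubertVanishing K d n τ) :=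
  (main K hd hdn (codeg τ)).1 τ rfl

theorem union_divisors_cm [Infinite K] (hd : 0 < d) (hdn : d < n) (τ : Idx d n) (s : ℕ)
    (φ : Fin s → Idx d n) (hφ : ∀ i, φ i ∈ divisors τ) :
    LocCoh.IsCohenMacaulayRing (PlRing K d n ⧸ ⨅ i, schubertVanishing K d n (φ i)) := by
  classical
  by_cases hs : s = 0
  · subst hs
    have htop : ⨅ i, schubertVanishing K d n (φ i) = ⊤ := by
      rw [eq_top_iff]
      exact le_iInf fun i => i.elim0
    rw [htop]
    haveI : Subsingleton (PlRing K d n ⧸ (⊤ : Ideal (PlRing K d n))) :=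
      Ideal.Quotient.subsingleton_iff.mpr rfl
    exact { isCohenMacaulayLocalRing_localization := fun p hp =>
      absurd (Subsingleton.elim p ⊤) hp.ne_top }
  · have hne : (Finset.univ.image φ).Nonempty :=
      ⟨φ ⟨0, by omega⟩, Finset.mem_image_of_mem _ (Finset.mem_univ _)⟩
    have hconv : ⨅ i, schubertVanishing K d n (φ i) =
        ⨅ φ' ∈ Finset.univ.image φ, schubertVanishing K d n φ' := by
      apply le_antisymm
      · refine le_iInf fun φ' => le_iInf fun hφ' => ?_
        rw [Finset.mem_image] at hφ'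
        obtain ⟨i, _, rfl⟩ := hφ'
        exact iInf_le _ i
      · refine le_iInf fun i => ?_
        exact iInf₂_le (φ i) (Finset.mem_image_of_mem _ (Finset.mem_univ _))
    rw [hconv]
    refine ((main K hd hdn (codeg τ)).2 τ rfl _ hne ?_).1
    intro φ' hφ'
    rw [Finset.mem_image] at hφ'
    obtain ⟨i, _, rfl⟩ := hφ'
    exact hφ i

end Groth.Agent.H9.SchCM
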