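import Mathlib
import Groth.Prelude.Def_W4bk4grassmannianPl
import Groth.Agent.Lib.Helper9.Misc.LdtF

set_option autoImplicit false
set_option linter.unusedSectionVars false
set_option linter.unusedVariables false

open W4bk4grassmannian

namespace Groth.Agent.H9.Bit

/-- number of entries below `x` -/
def cnt {k N : ℕ} (a : Fin k → Fin N) (x : ℕ) : ℕ :=
  (Finset.univ.filter fun j : Fin k => (a j).val < x).card

theorem cnt_lt_iff {k N : ℕ} (a : Fin k → Fin N) (ha : StrictMono a) (j0 : Fin k) (x : ℕ) :
    (a j0).val < x ↔ j0.val < cnt a x := by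
  constructor
  · intro h
    have hsub : Finset.Iic j0 ⊆ Finset.univ.filter fun j : Fin k => (a j).val < x := by
      intro j hj
      rw [Finset.mem_Iic] at hj
      rw [Finset.mem_filter]
      refine ⟨Finset.mem_univ _, lt_of_le_of_lt ?_ h⟩
      exact Fin.le_def.1 (ha.monotone hj)
    have := Finset.card_le_card hsub
    rw [Fin.card_Iic] at this
    unfold cnt
    omega
  · intro h
    by_contra hx
    push Not at hx
    have hsub : (Finset.univ.filter fun j : Fin k => (a j).val < x) ⊆ Finset.Iio j0 := by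
      intro j hj
      rw [Finset.mem_filter] at hj
      rw [Finset.mem_Iio]
      by_contra hjj
      push Not at hjj
      have := Fin.le_def.1 (ha.monotone hjj)
      omega
    have := Finset.card_le_card hsub
    rw [Fin.card_Iio] at this
    unfold cnt at h
    omega

theorem cnt_full {k N : ℕ} (a : Fin k → Fin N) (x : ℕ) (hx : N ≤ x) : cnt a x = k := by
  unfold cnt
  rw [Finset.filter_true_of_mem (fun j _ => lt_of_lt_of_le (a j).isLt hx)]
  simp

theorem bottomLE_iff_cnt {k k' N : ℕ} (a : Fin k → Fin N) (a' : Fin k' → Fin N)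
    (ha : StrictMono a) (ha' : StrictMono a') :
    (k ≤ k' ∧ ∀ (j : Fin k) (j' : Fin k'), j.val = j'.val → a' j' ≤ a j) ↔
      ∀ x : ℕ, cnt a x ≤ cnt a' x := by
  constructor
  · rintro ⟨hk, h⟩ x
    unfold cnt
    have hsub : (Finset.univ.filter fun j : Fin k => (a j).val < x).map
        ⟨Fin.castLE hk, Fin.castLE_injective hk⟩ ⊆
        Finset.univ.filter fun j : Fin k' => (a' j).val < x := by
      intro j' hj'
      rw [Finset.mem_map] at hj'
      obtain ⟨j, hj, rfl⟩ := hj'
      rw [Finset.mem_filter] at hj ⊢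
      refine ⟨Finset.mem_univ _, lt_of_le_of_lt ?_ hj.2⟩
      exact Fin.le_def.1 (h j (Fin.castLE hk j) rfl)
    have := Finset.card_le_card hsub
    rwa [Finset.card_map] at this
  · intro h
    have hk : k ≤ k' := by
      have := h N
      rwa [cnt_full a N le_rfl, cnt_full a' N le_rfl] at this
    refine ⟨hk, ?_⟩
    intro j j' hjj
    by_contra hlt
    push Not at hlt
    have h1 : (a j).val < (a' j').val := hlt
    have h2 := (cnt_lt_iff a ha j _).1 h1
    have h3 := h (a' j').val
    have h4 : j'.val < cnt a' (a' j').val := by omega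
    have h5 := (cnt_lt_iff a' ha' j' _).2 h4
    omega

theorem idx_le_iff_cnt {d N : ℕ} (θ' θ : Idx d N) :
    θ' ≤ θ ↔ ∀ x : ℕ, cnt θ.1 x ≤ cnt θ'.1 x := by
  rw [← bottomLE_iff_cnt θ.1 θ'.1 θ.2 θ'.2]
  constructor
  · intro h
    refine ⟨le_rfl, ?_⟩
    intro j j' hjj
    have : j = j' := Fin.ext hjj
    subst this
    exact h j
  · rintro ⟨_, h⟩ j
    exact h j j rfl

theorem minorGE_iff_cnt {m n : ℕ} (M M' : MinorIdx m n) :
    MinorGE M M' ↔ (∀ x, cnt M.2.1.1 x ≤ cnt M'.2.1.1 x) ∧
      (∀ x, cnt M.2.2.1 x ≤ cnt M'.2.2.1 x) := by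
  rw [← bottomLE_iff_cnt M.2.1.1 M'.2.1.1 M.2.1.2 M'.2.1.2,
    ← bottomLE_iff_cnt M.2.2.1 M'.2.2.1 M.2.2.2 M'.2.2.2]
  unfold MinorGE
  constructor
  · rintro ⟨h1, h2⟩
    exact ⟨⟨by omega, fun j j' hjj => (h2 j j' hjj).1⟩,
      ⟨by omega, fun j j' hjj => (h2 j j' hjj).2⟩⟩
  · rintro ⟨⟨h1, h2⟩, ⟨_, h3⟩⟩
    exact ⟨by omega, fun j j' hjj => ⟨h2 j j' hjj, h3 j j' hjj⟩⟩

theorem minorGE_refl {m n : ℕ} (M : MinorIdx m n) : MinorGE M M := by
  refine ⟨le_rfl, ?_⟩
  intro j j' hjj
  have : j = j' := Fin.ext hjj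
  subst this
  exact ⟨le_rfl, le_rfl⟩

theorem minorGE_antisymm {m n : ℕ} {M M' : MinorIdx m n} (h : MinorGE M M')
    (h' : MinorGE M' M) : M = M' := by
  obtain ⟨s, A, B⟩ := M
  obtain ⟨s', A', B'⟩ := M'
  have hs : s = s' := le_antisymm h.1 h'.1
  subst hs
  have hA : A = A' :=
    Subtype.ext (funext fun j => le_antisymm (h'.2 j j rfl).1 (h.2 j j rfl).1)
  have hB : B = B' :=
    Subtype.ext (funext fun j => le_antisymm (h'.2 j j rfl).2 (h.2 j j rfl).2)
  rw [hA, hB]

/-- count of elements of a finset below `x` -/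
def cf {N : ℕ} (S : Finset (Fin N)) (x : ℕ) : ℕ := (S.filter fun y => y.val < x).card

theorem cnt_eq_cf {k N : ℕ} (a : Fin k → Fin N) (ha : Function.Injective a) (x : ℕ) :
    cnt a x = cf (Finset.univ.image a) x := by
  classical
  unfold cnt cf
  rw [Finset.filter_image, Finset.card_image_of_injective _ ha]

variable {d r : ℕ}

/-- columns of the minor attached to `θ`: the `j' < d` missing from `θ` -/
def Bset (θ : Idx d (d + r)) : Finset (Fin d) :=
  Finset.univ.filter fun j' : Fin d => ∀ j, θ.1 j ≠ Fin.castAdd r j'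

/-- (reversed) rows of the minor attached to `θ` -/
def Aset (θ : Idx d (d + r)) : Finset (Fin r) :=
  Finset.univ.filter fun i : Fin r => ∃ j, θ.1 j = Fin.natAdd d (Fin.rev i)

theorem cnt_add_cf_Bset (θ : Idx d (d + r)) (x : ℕ) (hx : x ≤ d) :
    cnt θ.1 x + cf (Bset θ) x = x := by
  classical
  have hT : (Finset.univ.filter fun j' : Fin d => j'.val < x).card = x := by
    have himg : (Finset.univ.filter fun j' : Fin d => j'.val < x).image Fin.val =
        Finset.range x := by
      ext a
      simp only [Finset.mem_image, Finset.mem_filter, Finset.mem_univ, true_and,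
        Finset.mem_range]
      constructor
      · rintro ⟨j', hj', rfl⟩
        exact hj'
      · intro ha
        exact ⟨⟨a, by omega⟩, ha, rfl⟩
    rw [← Finset.card_image_of_injective _ Fin.val_injective, himg, Finset.card_range]
  have hsplit := Finset.card_filter_add_card_filter_not
    (s := Finset.univ.filter fun j' : Fin d => j'.val < x)
    (fun j' : Fin d => ∃ j, θ.1 j = Fin.castAdd r j')
  rw [hT] at hsplit
  have h1 : ((Finset.univ.filter fun j' : Fin d => j'.val < x).filter
      fun j' : Fin d => ∃ j, θ.1 j = Fin.castAdd r j').card = cnt θ.1 x := by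
    unfold cnt
    symm
    refine Finset.card_bij (fun j hj => (⟨(θ.1 j).val, by
      rw [Finset.mem_filter] at hj; omega⟩ : Fin d)) ?_ ?_ ?_
    · intro j hj
      rw [Finset.mem_filter] at hj
      rw [Finset.mem_filter, Finset.mem_filter]
      refine ⟨⟨Finset.mem_univ _, hj.2⟩, j, ?_⟩
      exact Fin.ext (by simp)
    · intro j1 h1 j2 h2 h
      apply θ.2.injective
      apply Fin.ext
      exact Fin.mk.inj_iff.1 h
    · intro j' hj'
      rw [Finset.mem_filter, Finset.mem_filter] at hj'
      obtain ⟨⟨_, hlt⟩, j, hj⟩ := hj'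
      refine ⟨j, ?_, ?_⟩
      · rw [Finset.mem_filter]
        refine ⟨Finset.mem_univ _, ?_⟩
        rw [hj]
        exact hlt
      · apply Fin.ext
        show (θ.1 j).val = j'.val
        rw [hj]
        rfl
  have h2 : ((Finset.univ.filter fun j' : Fin d => j'.val < x).filter
      fun j' : Fin d => ¬ ∃ j, θ.1 j = Fin.castAdd r j').card = cf (Bset θ) x := by
    unfold cf Bset
    congr 1
    ext j'
    simp only [Finset.mem_filter, Finset.mem_univ, true_and, not_exists]
    tauto
  rw [h1, h2] at hsplit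
  exact hsplit

theorem cnt_add_cf_Aset (θ : Idx d (d + r)) (x : ℕ) (hx : d ≤ x) (hx' : x ≤ d + r) :
    cnt θ.1 x + cf (Aset θ) (d + r - x) = d := by
  classical
  have hsplit := Finset.card_filter_add_card_filter_not
    (s := (Finset.univ : Finset (Fin d))) (fun j : Fin d => (θ.1 j).val < x)
  rw [Finset.card_univ, Fintype.card_fin] at hsplit
  have h2 : ((Finset.univ : Finset (Fin d)).filter fun j : Fin d => ¬ (θ.1 j).val < x).card =
      cf (Aset θ) (d + r - x) := by
    unfold cf Aset
    refine Finset.card_bij (fun j hj => Fin.rev (⟨(θ.1 j).val - d, by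
      have := (θ.1 j).isLt; rw [Finset.mem_filter] at hj; omega⟩ : Fin r)) ?_ ?_ ?_
    · intro j hj
      rw [Finset.mem_filter] at hj
      rw [Finset.mem_filter, Finset.mem_filter]
      refine ⟨⟨Finset.mem_univ _, j, ?_⟩, ?_⟩
      · rw [Fin.rev_rev]
        apply Fin.ext
        simp only [Fin.val_natAdd]
        omega
      · rw [Fin.val_rev]
        have := (θ.1 j).isLt
        simp only
        omega
    · intro j1 h1 j2 h2 h
      have h' := Fin.rev_injective h
      rw [Finset.mem_filter] at h1 h2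
      apply θ.2.injective
      apply Fin.ext
      have := congrArg Fin.val h'
      simp only at this
      omega
    · intro i hi
      rw [Finset.mem_filter, Finset.mem_filter] at hi
      obtain ⟨⟨_, j, hj⟩, hlt⟩ := hi
      refine ⟨j, ?_, ?_⟩
      · rw [Finset.mem_filter]
        refine ⟨Finset.mem_univ _, ?_⟩
        rw [hj, Fin.val_natAdd, Fin.val_rev]
        omega
      · apply Fin.rev_injective
        rw [Fin.rev_rev]
        apply Fin.ext
        show (θ.1 j).val - d = (Fin.rev i).val
        rw [hj, Fin.val_natAdd]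
        omega
  unfold cnt
  rw [h2] at hsplit
  exact hsplit

end Groth.Agent.H9.Bit
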