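import Mathlib
import Groth.Prelude.Def_W4bk4grassmannianPl
import Groth.Agent.Lib.Helper9.Misc.BitA

set_option autoImplicit false
set_option linter.unusedSectionVars false
set_option linter.unusedVariables false

open W4bk4grassmannian

namespace Groth.Agent.H9.Bit

variable {d r : ℕ}

/-- the correspondence between Plücker indices of `[I_d ; Z]` and minors of `Z` (rows reversed) -/
def Rel (θ : Idx d (d + r)) (M : MinorIdx r d) : Prop :=
  Bset θ = Finset.univ.image M.2.2.1 ∧ Aset θ = Finset.univ.image M.2.1.1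

theorem Rel.cf_B {θ : Idx d (d + r)} {M : MinorIdx r d} (h : Rel θ M) (x : ℕ) :
    cf (Bset θ) x = cnt M.2.2.1 x := by
  rw [h.1, ← cnt_eq_cf _ M.2.2.2.injective]

theorem Rel.cf_A {θ : Idx d (d + r)} {M : MinorIdx r d} (h : Rel θ M) (x : ℕ) :
    cf (Aset θ) x = cnt M.2.1.1 x := by
  rw [h.2, ← cnt_eq_cf _ M.2.1.2.injective]

theorem rel_le_iff {θ θ' : Idx d (d + r)} {M M' : MinorIdx r d} (h : Rel θ M)
    (h' : Rel θ' M') : θ' ≤ θ ↔ MinorGE M' M := by
  rw [idx_le_iff_cnt, minorGE_iff_cnt]
  constructor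
  · intro hc
    have keyA : ∀ y, y ≤ r → cnt M'.2.1.1 y ≤ cnt M.2.1.1 y := by
      intro y hy
      have e1 := cnt_add_cf_Aset θ (d + r - y) (by omega) (by omega)
      have e2 := cnt_add_cf_Aset θ' (d + r - y) (by omega) (by omega)
      have e3 : d + r - (d + r - y) = y := by omega
      rw [e3, h.cf_A] at e1
      rw [e3, h'.cf_A] at e2
      have := hc (d + r - y)
      omega
    have keyB : ∀ x, x ≤ d → cnt M'.2.2.1 x ≤ cnt M.2.2.1 x := by
      intro x hx
      have e1 := cnt_add_cf_Bset θ x hx
      have e2 := cnt_add_cf_Bset θ' x hx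
      rw [h.cf_B] at e1
      rw [h'.cf_B] at e2
      have := hc x
      omega
    constructor
    · intro y
      by_cases hy : y ≤ r
      · exact keyA y hy
      · push Not at hy
        rw [cnt_full _ _ hy.le, cnt_full _ _ hy.le]
        have := keyA r le_rfl
        rwa [cnt_full _ _ le_rfl, cnt_full _ _ le_rfl] at this
    · intro x
      by_cases hx : x ≤ d
      · exact keyB x hx
      · push Not at hx
        rw [cnt_full _ _ hx.le, cnt_full _ _ hx.le]
        have := keyB d le_rfl
        rwa [cnt_full _ _ le_rfl, cnt_full _ _ le_rfl] at this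
  · rintro ⟨hA, hB⟩ x
    by_cases hx : x ≤ d
    · have e1 := cnt_add_cf_Bset θ x hx
      have e2 := cnt_add_cf_Bset θ' x hx
      rw [h.cf_B] at e1
      rw [h'.cf_B] at e2
      have := hB x
      omega
    · push Not at hx
      by_cases hx' : x ≤ d + r
      · have e1 := cnt_add_cf_Aset θ x hx.le hx'
        have e2 := cnt_add_cf_Aset θ' x hx.le hx'
        rw [h.cf_A] at e1
        rw [h'.cf_A] at e2
        have := hA (d + r - x)
        omega
      · rw [cnt_full _ _ (by omega), cnt_full _ _ (by omega)]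

theorem rel_theta_unique {θ θ' : Idx d (d + r)} {M : MinorIdx r d} (h : Rel θ M)
    (h' : Rel θ' M) : θ = θ' :=
  le_antisymm ((rel_le_iff h' h).2 (minorGE_refl M)) ((rel_le_iff h h').2 (minorGE_refl M))

theorem rel_minor_unique {θ : Idx d (d + r)} {M M' : MinorIdx r d} (h : Rel θ M)
    (h' : Rel θ M') : M = M' :=
  minorGE_antisymm ((rel_le_iff h' h).1 le_rfl) ((rel_le_iff h h').1 le_rfl)

/-- the minimal index `(0, 1, …, d-1)` -/
def theta0 (d r : ℕ) : Idx d (d + r) :=
  ⟨fun j => Fin.castAdd r j, fun _ _ h => h⟩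

theorem theta0_le (θ : Idx d (d + r)) : theta0 d r ≤ θ := by
  intro j
  rw [Fin.le_def]
  show j.val ≤ (θ.1 j).val
  have hd : 0 < d := by have := j.isLt; omega
  have g1 := Groth.Agent.H9.Ldt.gap_of_strictMono θ.1 θ.2 ⟨0, hd⟩ j (Fin.le_def.2 (Nat.zero_le _))
  simp only at g1
  omega

theorem Rel.ne_theta0 {θ : Idx d (d + r)} {M : MinorIdx r d} (h : Rel θ M) :
    θ ≠ theta0 d r := by
  intro hθ
  have hmem : M.2.2.1 0 ∈ Bset θ := by
    rw [h.1]
    exact Finset.mem_image_of_mem _ (Finset.mem_univ _)
  unfold Bset at hmem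
  rw [Finset.mem_filter] at hmem
  apply hmem.2 (M.2.2.1 0)
  rw [hθ]
  rfl

theorem Rel.size_le {θ : Idx d (d + r)} {M : MinorIdx r d} (h : Rel θ M) : M.1 + 1 ≤ d := by
  have := Finset.card_le_univ (Finset.univ.image M.2.2.1)
  rwa [Finset.card_image_of_injective _ M.2.2.2.injective, Finset.card_univ, Fintype.card_fin,
    Fintype.card_fin] at this

/-- number of entries of `θ` in the top block is `d - size` -/
theorem Rel.cnt_d {θ : Idx d (d + r)} {M : MinorIdx r d} (h : Rel θ M) :
    cnt θ.1 d + (M.1 + 1) = d := by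
  have e1 := cnt_add_cf_Bset θ d le_rfl
  rw [h.cf_B, cnt_full _ _ le_rfl] at e1
  exact e1

theorem exists_rel (M : MinorIdx r d) : ∃ θ : Idx d (d + r), Rel θ M := by
  classical
  obtain ⟨s, A, B⟩ := M
  set P1 : Finset (Fin (d + r)) :=
    (Finset.univ.filter fun j' : Fin d => j' ∉ Finset.univ.image B.1).image (Fin.castAdd r)
    with hP1
  set P2 : Finset (Fin (d + r)) :=
    (Finset.univ.image A.1).image (fun i : Fin r => Fin.natAdd d (Fin.rev i)) with hP2
  have hdisj : Disjoint P1 P2 := by
    rw [Finset.disjoint_left]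
    intro y h1 h2
    rw [hP1, Finset.mem_image] at h1
    rw [hP2, Finset.mem_image] at h2
    obtain ⟨j', _, rfl⟩ := h1
    obtain ⟨i, _, hi⟩ := h2
    have := congrArg Fin.val hi
    simp only [Fin.val_natAdd, Fin.val_castAdd] at this
    have := j'.isLt
    omega
  have hinj2 : Function.Injective (fun i : Fin r => Fin.natAdd d (Fin.rev i)) := by
    intro i i' hii
    have := congrArg Fin.val hii
    simp only [Fin.val_natAdd] at this
    apply Fin.rev_injective
    apply Fin.ext
    omega
  have hcB : (Finset.univ.image B.1).card = s + 1 := by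
    rw [Finset.card_image_of_injective _ B.2.injective, Finset.card_univ, Fintype.card_fin]
  have hcA : (Finset.univ.image A.1).card = s + 1 := by
    rw [Finset.card_image_of_injective _ A.2.injective, Finset.card_univ, Fintype.card_fin]
  have hsd : s + 1 ≤ d := by
    have := Finset.card_le_univ (Finset.univ.image B.1)
    rwa [hcB, Fintype.card_fin] at this
  have hc1 : P1.card = d - (s + 1) := by
    rw [hP1, Finset.card_image_of_injective _ (Fin.castAdd_injective d r)]
    have : (Finset.univ.filter fun j' : Fin d => j' ∉ Finset.univ.image B.1) =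
        (Finset.univ.image B.1)ᶜ := by
      ext j'
      simp
    rw [this, Finset.card_compl, hcB, Fintype.card_fin]
  have hc2 : P2.card = s + 1 := by
    rw [hP2, Finset.card_image_of_injective _ hinj2, hcA]
  have hcard : (P1 ∪ P2).card = d := by
    rw [Finset.card_union_of_disjoint hdisj, hc1, hc2]
    omega
  have hmem : ∀ y, (∃ j, (P1 ∪ P2).orderEmbOfFin hcard j = y) ↔ y ∈ P1 ∪ P2 := by
    intro y
    have := Finset.range_orderEmbOfFin (P1 ∪ P2) hcard
    rw [Set.ext_iff] at this
    exact (this y).trans Finset.mem_coe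
  refine ⟨⟨fun j => (P1 ∪ P2).orderEmbOfFin hcard j,
    ((P1 ∪ P2).orderEmbOfFin hcard).strictMono⟩, ?_, ?_⟩
  · show Bset _ = Finset.univ.image B.1
    ext j'
    unfold Bset
    rw [Finset.mem_filter]
    simp only [Finset.mem_univ, true_and]
    have h1 : (∀ j, (P1 ∪ P2).orderEmbOfFin hcard j ≠ Fin.castAdd r j') ↔
        Fin.castAdd r j' ∉ P1 ∪ P2 := by
      rw [← hmem]
      push Not
      rfl
    rw [h1, Finset.mem_union, hP1, hP2]
    constructor
    · intro hn
      by_contra hj'
      apply hn
      left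
      exact Finset.mem_image_of_mem _ (by rw [Finset.mem_filter]; exact ⟨Finset.mem_univ _, hj'⟩)
    · intro hj' hn
      rcases hn with hn | hn
      · rw [Finset.mem_image] at hn
        obtain ⟨j'', hj'', he⟩ := hn
        rw [Finset.mem_filter] at hj''
        have := Fin.castAdd_injective d r he
        rw [this] at hj''
        exact hj''.2 hj'
      · rw [Finset.mem_image] at hn
        obtain ⟨i, _, hi⟩ := hn
        have := congrArg Fin.val hi
        simp only [Fin.val_natAdd, Fin.val_castAdd] at this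
        have := j'.isLt
        omega
  · show Aset _ = Finset.univ.image A.1
    ext i
    unfold Aset
    rw [Finset.mem_filter]
    simp only [Finset.mem_univ, true_and]
    rw [hmem, Finset.mem_union, hP1, hP2]
    constructor
    · intro hn
      rcases hn with hn | hn
      · rw [Finset.mem_image] at hn
        obtain ⟨j'', _, he⟩ := hn
        have := congrArg Fin.val he
        simp only [Fin.val_natAdd, Fin.val_castAdd] at this
        have := j''.isLt
        omega
      · rw [Finset.mem_image] at hn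
        obtain ⟨i', hi', he⟩ := hn
        have := hinj2 he
        rw [← this]
        exact hi'
    · intro hi
      right
      exact Finset.mem_image_of_mem _ hi

theorem exists_rel_of_ne (θ : Idx d (d + r)) (hθ : θ ≠ theta0 d r) :
    ∃ M : MinorIdx r d, Rel θ M := by
  classical
  have e1 := cnt_add_cf_Bset θ d le_rfl
  have e2 := cnt_add_cf_Aset θ d le_rfl (by omega)
  have hB : cf (Bset θ) d = (Bset θ).card := by
    unfold cf
    rw [Finset.filter_true_of_mem (fun y _ => y.isLt)]
  have hA : cf (Aset θ) (d + r - d) = (Aset θ).card := by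
    unfold cf
    rw [Finset.filter_true_of_mem (fun y _ => by have := y.isLt; omega)]
  rw [hB] at e1
  rw [hA] at e2
  have hcard : (Aset θ).card = (Bset θ).card := by omega
  have hpos : 0 < (Bset θ).card := by
    by_contra h0
    have h0' : (Bset θ).card = 0 := by omega
    apply hθ
    have hc : cnt θ.1 d = d := by omega
    have hlt : ∀ j, (θ.1 j).val < d := by
      intro j
      rw [cnt_lt_iff θ.1 θ.2 j d, hc]
      exact j.isLt
    apply Subtype.ext
    funext j
    apply Fin.ext
    show (θ.1 j).val = j.val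
    have hd : 0 < d := by have := j.isLt; omega
    have g1 := Groth.Agent.H9.Ldt.gap_of_strictMono θ.1 θ.2 ⟨0, hd⟩ j
      (Fin.le_def.2 (Nat.zero_le _))
    have g2 := Groth.Agent.H9.Ldt.gap_of_strictMono θ.1 θ.2 j ⟨d - 1, by omega⟩
      (Fin.le_def.2 (by show j.val ≤ d - 1; have := j.isLt; omega))
    have := hlt ⟨d - 1, by omega⟩
    simp only at g1 g2
    omega
  have hcA : (Aset θ).card = (Bset θ).card - 1 + 1 := by omega
  have hcB : (Bset θ).card = (Bset θ).card - 1 + 1 := by omega
  refine ⟨⟨(Bset θ).card - 1,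
    ⟨fun l => (Aset θ).orderEmbOfFin hcA l, ((Aset θ).orderEmbOfFin hcA).strictMono⟩,
    ⟨fun l => (Bset θ).orderEmbOfFin hcB l, ((Bset θ).orderEmbOfFin hcB).strictMono⟩⟩, ?_, ?_⟩
  · exact (Finset.image_orderEmbOfFin_univ (Bset θ) hcB).symm
  · exact (Finset.image_orderEmbOfFin_univ (Aset θ) hcA).symm

/-- the index of the Schubert variety whose opposite cell is the determinantal variety `D_t` -/
def wIdx (d r t : ℕ) (ht : 1 ≤ t) (htr : t ≤ r + 1) : Idx d (d + r) :=
  ⟨fun j => if h : j.val + t ≤ d then ⟨t - 1 + j.val, by have := j.isLt; omega⟩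
    else ⟨r + j.val, by have := j.isLt; omega⟩, by
    intro j j' hjj
    have hlt : j.val < j'.val := hjj
    rw [Fin.lt_def]
    beta_reduce
    by_cases h1 : j.val + t ≤ d <;> by_cases h2 : j'.val + t ≤ d
    · rw [dif_pos h1, dif_pos h2]; simp only; omega
    · rw [dif_pos h1, dif_neg h2]; simp only; omega
    · omega
    · rw [dif_neg h1, dif_neg h2]; simp only; omega⟩

theorem le_wIdx_iff (t : ℕ) (ht : 1 ≤ t) (htr : t ≤ r + 1) (htd : t ≤ d)
    (θ : Idx d (d + r)) :
    θ ≤ wIdx d r t ht htr ↔ (θ.1 ⟨d - t, by omega⟩).val < d := by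
  constructor
  · intro h
    have := Fin.le_def.1 (h ⟨d - t, by omega⟩)
    unfold wIdx at this
    simp only at this
    rw [dif_pos (by show d - t + t ≤ d; omega)] at this
    simp only at this
    omega
  · intro h j
    rw [Fin.le_def]
    unfold wIdx
    simp only
    by_cases h1 : j.val + t ≤ d
    · rw [dif_pos h1]
      simp only
      have g := Groth.Agent.H9.Ldt.gap_of_strictMono θ.1 θ.2 j ⟨d - t, by omega⟩
        (Fin.le_def.2 (by show j.val ≤ d - t; omega))
      simp only at g
      omega
    · rw [dif_neg h1]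
      simp only
      have g := Groth.Agent.H9.Ldt.gap_of_strictMono θ.1 θ.2 j ⟨d - 1, by omega⟩
        (Fin.le_def.2 (by show j.val ≤ d - 1; have := j.isLt; omega))
      have := (θ.1 ⟨d - 1, by omega⟩).isLt
      simp only at g
      omega

theorem le_wIdx_of_lt (t : ℕ) (ht : 1 ≤ t) (htr : t ≤ r + 1) (htd : d < t)
    (θ : Idx d (d + r)) : θ ≤ wIdx d r t ht htr := by
  intro j
  rw [Fin.le_def]
  unfold wIdx
  simp only
  have hd : 0 < d := by have := j.isLt; omega
  rw [dif_neg (by omega)]
  simp only
  have g := Groth.Agent.H9.Ldt.gap_of_strictMono θ.1 θ.2 j ⟨d - 1, by omega⟩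
    (Fin.le_def.2 (by show j.val ≤ d - 1; have := j.isLt; omega))
  have := (θ.1 ⟨d - 1, by omega⟩).isLt
  simp only at g
  omega

/-- `θ ≤ w` iff the attached minor has size `≤ t - 1` -/
theorem Rel.le_wIdx_iff {θ : Idx d (d + r)} {M : MinorIdx r d} (h : Rel θ M)
    (t : ℕ) (ht : 1 ≤ t) (htr : t ≤ r + 1) (htd : t ≤ d + 1) :
    θ ≤ wIdx d r t ht htr ↔ M.1 + 1 ≤ t - 1 := by
  have hs := h.size_le
  by_cases htd' : t ≤ d
  · rw [Groth.Agent.H9.Bit.le_wIdx_iff t ht htr htd' θ, cnt_lt_iff θ.1 θ.2]
    have := h.cnt_d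
    simp only
    omega
  · constructor
    · intro _
      omega
    · intro _
      exact le_wIdx_of_lt t ht htr (by omega) θ

end Groth.Agent.H9.Bit
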