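import Mathlib
import Groth.Prelude.Def_CAlgX
import Groth.Prelude.Def_W4bk4grassmannianPl
import Groth.Agent.Lib.Helper9.Misc.BitB
import Groth.Agent.Lib.Helper9.Misc.ShfD
import Groth.Agent.Lib.Helper5.DetCell.D

set_option autoImplicit false
set_option linter.unusedSectionVars false
set_option linter.unusedVariables false

open W4bk4grassmannian MvPolynomial

namespace Groth.Agent.H9.Bit

universe u

variable (K : Type u) [Field K] (d r : ℕ)

/-- restriction of Plücker polynomials to the opposite big cell -/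
noncomputable def cellMap : PlRing K d (d + r) →ₐ[K] CellRing K d r :=
  MvPolynomial.aeval (cellMinor K d r)

theorem cellMap_X (θ : Idx d (d + r)) : cellMap K d r (X θ) = cellMinor K d r θ := by
  unfold cellMap
  rw [aeval_X]

/-- reversal of the rows of the generic matrix -/
noncomputable def rho : CellRing K d r →ₐ[K] CellRing K d r :=
  MvPolynomial.rename (Prod.map Fin.rev id)

theorem rho_rho (p : CellRing K d r) : rho K d r (rho K d r p) = p := by
  unfold rho
  rw [MvPolynomial.rename_rename]
  have : (Prod.map Fin.rev id ∘ Prod.map Fin.rev id : Fin r × Fin d → Fin r × Fin d) = id := by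
    funext ⟨i, j⟩
    simp
  rw [this, MvPolynomial.rename_id_apply]

theorem rho_minor {β : Type} [Fintype β] [DecidableEq β] (f : β → Fin r) (g : β → Fin d) :
    rho K d r ((genMatrix K r d).submatrix f g).det =
      ((genMatrix K r d).submatrix (fun k => Fin.rev (f k)) g).det := by
  rw [AlgHom.map_det]
  congr 1
  ext a b
  simp [rho, genMatrix, Matrix.submatrix_apply, AlgHom.mapMatrix_apply, Matrix.map_apply]

theorem rho_mem_minorIdeal (t : ℕ) {p : CellRing K d r}
    (hp : p ∈ CAlgX.minorIdeal (genMatrix K r d) t) :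
    rho K d r p ∈ CAlgX.minorIdeal (genMatrix K r d) t := by
  have hle : CAlgX.minorIdeal (genMatrix K r d) t ≤
      (CAlgX.minorIdeal (genMatrix K r d) t).comap (rho K d r).toRingHom := by
    have hdef : CAlgX.minorIdeal (genMatrix K r d) t = Ideal.span (Set.range
      fun fg : (Fin t → Fin r) × (Fin t → Fin d) =>
        Matrix.det ((genMatrix K r d).submatrix fg.1 fg.2)) := rfl
    conv_lhs => rw [hdef]
    rw [Ideal.span_le]
    rintro _ ⟨⟨f, g⟩, rfl⟩
    rw [SetLike.mem_coe, Ideal.mem_comap]
    show rho K d r _ ∈ _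
    rw [rho_minor, hdef]
    apply Ideal.subset_span
    exact ⟨(fun k => Fin.rev (f k), g), rfl⟩
  exact hle hp

variable {d r}

theorem rel_cellMinor {θ : Idx d (d + r)} {M : MinorIdx r d} (h : Rel θ M) :
    ∃ e : K, e ≠ 0 ∧ rho K d r (cellMinor K d r θ) = C e * minorOf K M := by
  classical
  obtain ⟨s, A, B⟩ := M
  have hBset : ∀ j' : Fin d, (∀ j, θ.1 j ≠ Fin.castAdd r j') ↔ ∃ l, B.1 l = j' := by
    intro j'
    have h1 : j' ∈ Bset θ ↔ j' ∈ Finset.univ.image B.1 := by rw [h.1]
    unfold Bset at h1
    simpa using h1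
  have hAset : ∀ i : Fin r, (∃ j, θ.1 j = Fin.natAdd d (Fin.rev i)) ↔ ∃ l, A.1 l = i := by
    intro i
    have h1 : i ∈ Aset θ ↔ i ∈ Finset.univ.image A.1 := by rw [h.2]
    unfold Aset at h1
    simpa using h1
  have hpos : ∀ l : Fin (s + 1), ∃ j, θ.1 j = Fin.natAdd d (Fin.rev (A.1 l)) :=
    fun l => (hAset _).2 ⟨l, rfl⟩
  choose pos hposs using hpos
  let α := {j : Fin d // (θ.1 j).val < d}
  let ρ₀ : α ⊕ Fin (s + 1) → Fin d := Sum.elim (fun a => a.1) pos
  let κ₀ : α ⊕ Fin (s + 1) → Fin d := Sum.elim (fun a => ⟨(θ.1 a.1).val, a.2⟩) B.1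
  have hρbij : Function.Bijective ρ₀ := by
    constructor
    · intro x y hxy
      rcases x with a | l <;> rcases y with a' | l'
      · simp only [ρ₀, Sum.elim_inl] at hxy
        rw [Subtype.ext hxy]
      · exfalso
        simp only [ρ₀, Sum.elim_inl, Sum.elim_inr] at hxy
        have h1 := a.2
        rw [hxy, hposs] at h1
        simp only [Fin.val_natAdd] at h1
        omega
      · exfalso
        simp only [ρ₀, Sum.elim_inl, Sum.elim_inr] at hxy
        have h1 := a'.2
        rw [← hxy, hposs] at h1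
        simp only [Fin.val_natAdd] at h1
        omega
      · simp only [ρ₀, Sum.elim_inr] at hxy
        have h1 := hposs l
        rw [hxy, hposs l'] at h1
        have h2 := congrArg Fin.val h1
        simp only [Fin.val_natAdd] at h2
        have h3 : Fin.rev (A.1 l') = Fin.rev (A.1 l) := Fin.ext (by omega)
        have h4 := A.2.injective (Fin.rev_injective h3)
        rw [h4]
    · intro j
      by_cases hj : (θ.1 j).val < d
      · exact ⟨Sum.inl ⟨j, hj⟩, rfl⟩
      · have hlt := (θ.1 j).isLt
        obtain ⟨l, hl⟩ := (hAset (Fin.rev ⟨(θ.1 j).val - d, by omega⟩)).1 ⟨j, by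
          rw [Fin.rev_rev]
          apply Fin.ext
          simp only [Fin.val_natAdd]
          omega⟩
        refine ⟨Sum.inr l, ?_⟩
        show pos l = j
        apply θ.2.injective
        rw [hposs, hl, Fin.rev_rev]
        apply Fin.ext
        simp only [Fin.val_natAdd]
        omega
  have hκbij : Function.Bijective κ₀ := by
    constructor
    · intro x y hxy
      rcases x with a | l <;> rcases y with a' | l'
      · simp only [κ₀, Sum.elim_inl] at hxy
        have h1 : (θ.1 a.1).val = (θ.1 a'.1).val := Fin.mk.inj_iff.1 hxy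
        have := θ.2.injective (Fin.ext h1)
        rw [Subtype.ext this]
      · exfalso
        simp only [κ₀, Sum.elim_inl, Sum.elim_inr] at hxy
        have h1 := (hBset (B.1 l')).2 ⟨l', rfl⟩
        apply h1 a.1
        apply Fin.ext
        rw [← hxy]
        rfl
      · exfalso
        simp only [κ₀, Sum.elim_inl, Sum.elim_inr] at hxy
        have h1 := (hBset (B.1 l)).2 ⟨l, rfl⟩
        apply h1 a'.1
        apply Fin.ext
        rw [hxy]
        rfl
      · simp only [κ₀, Sum.elim_inr] at hxy
        rw [B.2.injective hxy]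
    · intro j'
      by_cases hj' : ∀ j, θ.1 j ≠ Fin.castAdd r j'
      · obtain ⟨l, hl⟩ := (hBset j').1 hj'
        exact ⟨Sum.inr l, hl⟩
      · push Not at hj'
        obtain ⟨j, hj⟩ := hj'
        refine ⟨Sum.inl ⟨j, by rw [hj]; exact j'.isLt⟩, ?_⟩
        apply Fin.ext
        show (θ.1 j).val = j'.val
        rw [hj]
        rfl
  let ρ : α ⊕ Fin (s + 1) ≃ Fin d := Equiv.ofBijective ρ₀ hρbij
  let κ : α ⊕ Fin (s + 1) ≃ Fin d := Equiv.ofBijective κ₀ hκbij
  have key := Groth.Agent.H5.DetCell.cellMinor_eq' K d r θ.1 ρ κ (fun a => rfl)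
    (fun l => Fin.rev (A.1 l)) B.1 (fun l => by
      show (θ.1 (pos l)).val = _
      rw [hposs]
      simp only [Fin.val_natAdd]) (fun l => rfl)
  have key2 := congrArg (rho K d r) key
  rw [map_mul, rho_minor] at key2
  have hAA : (fun k => Fin.rev (Fin.rev (A.1 k))) = A.1 := by
    funext k
    rw [Fin.rev_rev]
  rw [hAA] at key2
  rcases Int.units_eq_one_or (Equiv.Perm.sign (ρ.symm.trans κ)) with hs | hs
  · refine ⟨1, one_ne_zero, ?_⟩
    rw [hs] at key2
    simp only [Units.val_one, Int.cast_one, map_one, one_mul] at key2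
    rw [map_one, one_mul]
    exact key2
  · refine ⟨-1, by simp, ?_⟩
    rw [hs] at key2
    simp only [Units.val_neg, Units.val_one, Int.cast_neg, Int.cast_one, map_neg, map_one,
      neg_mul, one_mul] at key2
    rw [map_neg, map_one, neg_mul, one_mul]
    show _ = - ((genMatrix K r d).submatrix A.1 B.1).det
    rw [← key2, neg_neg]
    rfl

variable (d r)

theorem cellMinor_theta0 : cellMinor K d r (theta0 d r) = 1 := by
  unfold cellMinor
  have : (cellMatrix K d r).submatrix (theta0 d r).1 id = 1 := by
    apply Matrix.ext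
    intro i j
    rw [Matrix.submatrix_apply, id_eq,
      Groth.Agent.H5.DetCell.cellMatrix_apply_lt K d r _ _
        (by show (Fin.castAdd r i).val < d; simp), Matrix.one_apply]
    show (if (Fin.castAdd r i).val = j.val then (1 : CellRing K d r) else 0) = _
    simp only [Fin.val_castAdd, Fin.ext_iff]
  rw [this, Matrix.det_one]

theorem eval_cellMap (z : Fin r × Fin d → K) (P : PlRing K d (d + r)) :
    MvPolynomial.eval z (cellMap K d r P) =
      evalMinors K d (d + r) ((cellMatrix K d r).map (MvPolynomial.eval z)) P := by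
  induction P using MvPolynomial.induction_on with
  | C a => simp [cellMap, evalMinors]
  | add p q hp hq => rw [map_add, map_add, map_add, hp, hq]
  | mul_X p θ hp =>
    rw [map_mul, map_mul, map_mul, hp, cellMap_X, Groth.Agent.H9.Shf.evalMinors_X]
    unfold cellMinor
    rw [RingHom.map_det]
    rfl

theorem key_eval (A : Matrix (Fin (d + r)) (Fin d) K)
    (hδ : (A.submatrix (theta0 d r).1 id).det ≠ 0) :
    ∃ z : Fin r × Fin d → K, ∀ θ : Idx d (d + r),
      (A.submatrix θ.1 id).det =
        MvPolynomial.eval z (cellMinor K d r θ) * (A.submatrix (theta0 d r).1 id).det := by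
  set T : Matrix (Fin d) (Fin d) K := A.submatrix (theta0 d r).1 id with hT
  have hTu : IsUnit T.det := isUnit_iff_ne_zero.2 hδ
  let AT : Matrix (Fin (d + r)) (Fin d) K := Matrix.of fun i j => ∑ k, A i k * T⁻¹ k j
  refine ⟨fun p => AT (Fin.natAdd d p.1) p.2, ?_⟩
  intro θ
  set z : Fin r × Fin d → K := fun p => AT (Fin.natAdd d p.1) p.2 with hz
  have hCz : (cellMatrix K d r).map (MvPolynomial.eval z) = AT := by
    ext i j
    rw [Matrix.map_apply]
    by_cases hi : i.val < d
    · rw [Groth.Agent.H5.DetCell.cellMatrix_apply_lt K d r i j hi]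
      have h1 : AT i j = (T * T⁻¹) ⟨i.val, hi⟩ j := by
        rw [Matrix.mul_apply]
        show ∑ k, A i k * T⁻¹ k j = ∑ k, T ⟨i.val, hi⟩ k * T⁻¹ k j
        refine Finset.sum_congr rfl fun k _ => ?_
        congr 1
      rw [h1, Matrix.mul_nonsing_inv T hTu, Matrix.one_apply]
      by_cases hij : i.val = j.val
      · rw [if_pos hij, if_pos (Fin.ext hij), map_one]
      · rw [if_neg hij, if_neg (fun h => hij (congrArg Fin.val h)), map_zero]
    · push Not at hi
      rw [Groth.Agent.H5.DetCell.cellMatrix_apply_ge K d r i j hi, MvPolynomial.eval_X]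
      show AT (Fin.natAdd d ⟨i.val - d, _⟩) j = AT i j
      congr 1
      apply Fin.ext
      simp only [Fin.val_natAdd]
      omega
  have hAT : ∀ i j, A i j = ∑ k, AT i k * T k j := by
    intro i j
    show A i j = ∑ k, (∑ l, A i l * T⁻¹ l k) * T k j
    have h1 : ∑ k, (∑ l, A i l * T⁻¹ l k) * T k j = ∑ l, A i l * (T⁻¹ * T) l j := by
      simp only [Matrix.mul_apply, Finset.sum_mul, Finset.mul_sum]
      rw [Finset.sum_comm]
      refine Finset.sum_congr rfl fun l _ => Finset.sum_congr rfl fun k _ => by ring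
    rw [h1, Matrix.nonsing_inv_mul T hTu]
    simp [Matrix.one_apply]
  have hsub : A.submatrix θ.1 id = (AT.submatrix θ.1 id) * T := by
    ext i j
    rw [Matrix.mul_apply, Matrix.submatrix_apply, hAT]
    rfl
  rw [hsub, Matrix.det_mul, ← hCz]
  congr 1
  unfold cellMinor
  rw [RingHom.map_det]
  rfl

end Groth.Agent.H9.Bit
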