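import Mathlib
import Groth.Prelude.Def_CAlgX
import Groth.Prelude.Def_W4bk4grassmannianPl
import Groth.Agent.Lib.Helper9.Misc.BitC
import Groth.Agent.Lib.Helper9.Misc.LdtE

set_option autoImplicit false
set_option linter.unusedSectionVars false
set_option linter.unusedVariables false

open W4bk4grassmannian MvPolynomial

namespace Groth.Agent.H9.Bit

open Groth.Agent.H9.Ldt (Ch)

universe u

variable (K : Type u) [Field K] {d r : ℕ}

/-- extend a chain by copies of the minimum -/
def ext0 {m : ℕ} (u : Fin m → Idx d (d + r)) (e : ℕ) : Fin (m + e) → Idx d (d + r) :=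
  fun i => if h : i.val < m then u ⟨i.val, h⟩ else theta0 d r

theorem ext0_antitone {m : ℕ} (u : Fin m → Idx d (d + r)) (hu : Antitone u) (e : ℕ) :
    Antitone (ext0 u e) := by
  intro i j hij
  unfold ext0
  by_cases hj : j.val < m
  · have hi : i.val < m := lt_of_le_of_lt (Fin.le_def.1 hij) hj
    rw [dif_pos hj, dif_pos hi]
    exact hu (Fin.le_def.2 (Fin.le_def.1 hij))
  · rw [dif_neg hj]
    exact theta0_le _

theorem chainMon_ext0 {m : ℕ} (u : Fin m → Idx d (d + r)) (e : ℕ) :
    chainMon K (ext0 u e) = chainMon K u * X (theta0 d r) ^ e := by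
  unfold chainMon
  rw [Fin.prod_univ_add]
  congr 1
  · refine Finset.prod_congr rfl fun i _ => ?_
    unfold ext0
    rw [dif_pos (by simp : (Fin.castAdd e i).val < m)]
    rfl
  · have : ∀ i : Fin e, (X (ext0 u e (Fin.natAdd m i)) : PlRing K d (d + r)) =
        X (theta0 d r) := by
      intro i
      unfold ext0
      rw [dif_neg (by simp)]
    rw [Finset.prod_congr rfl (fun i _ => this i), Finset.prod_const, Finset.card_univ,
      Fintype.card_fin]

theorem ofFn_ext0 {m : ℕ} (u : Fin m → Idx d (d + r)) (e : ℕ) :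
    List.ofFn (ext0 u e) = List.ofFn u ++ List.replicate e (theta0 d r) := by
  rw [List.ofFn_add]
  congr 1
  · congr 1
    funext i
    unfold ext0
    split_ifs with h
    · rfl
    · exact absurd i.isLt h
  · rw [← List.ofFn_const]
    congr 1
    funext i
    unfold ext0
    rw [dif_neg (by simp)]

theorem filter_ext0 {m : ℕ} (u : Fin m → Idx d (d + r))
    (hu : ∀ k, u k ≠ theta0 d r) (e : ℕ) :
    (List.ofFn (ext0 u e)).filter (fun y => decide (y ≠ theta0 d r)) = List.ofFn u := by
  rw [ofFn_ext0, List.filter_append]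
  have h1 : (List.ofFn u).filter (fun y => decide (y ≠ theta0 d r)) = List.ofFn u := by
    rw [List.filter_eq_self]
    intro y hy
    rcases List.mem_ofFn.1 hy with ⟨k, rfl⟩
    simpa using hu k
  have h2 : (List.replicate e (theta0 d r)).filter (fun y => decide (y ≠ theta0 d r)) = [] := by
    rw [List.filter_eq_nil_iff]
    intro y hy
    rw [List.mem_replicate] at hy
    simp [hy.2]
  rw [h1, h2, List.append_nil]

theorem ch_ext {n' : ℕ} (y y' : Ch d n')
    (h : (⟨y.1, y.2.1⟩ : Σ k : ℕ, Fin k → Idx d n') = ⟨y'.1, y'.2.1⟩) : y = y' := by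
  obtain ⟨m, c, hc⟩ := y
  obtain ⟨m', c', hc'⟩ := y'
  simp only at h
  obtain ⟨rfl, h3⟩ := Sigma.mk.inj_iff.1 h
  have := eq_of_heq h3
  subst this
  rfl

theorem li_core [Infinite K] (hd : 0 < d) (t : ℕ) (w : Idx d (d + r))
    (hw : ∀ p ∈ CAlgX.minorIdeal (genMatrix K r d) t, ∀ z : Fin r × Fin d → K,
      (∀ θ : Idx d (d + r), ¬ θ ≤ w → MvPolynomial.eval z (cellMinor K d r θ) = 0) →
        MvPolynomial.eval z p = 0)
    {ι : Type*} (x : ι → Ch d (d + r)) (hx : Function.Injective x)
    (hx0 : ∀ b k, (x b).2.1 k ≠ theta0 d r) (hxw : ∀ b k, (x b).2.1 k ≤ w)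
    (s : Finset ι) (g : ι → K)
    (hsum : ∑ b ∈ s, g b • cellMap K d r (chainMon K (x b).2.1) ∈
      CAlgX.minorIdeal (genMatrix K r d) t) :
    ∀ b ∈ s, g b = 0 := by
  classical
  set D := s.sup (fun b => (x b).1) with hD
  let hom : ι → Ch d (d + r) := fun b =>
    ⟨(x b).1 + (D + 1 - (x b).1), ext0 (x b).2.1 (D + 1 - (x b).1),
      ext0_antitone _ (x b).2.2 _⟩
  have hominj : Function.Injective hom := by
    intro b b' hbb
    apply hx
    have h1 := congrArg (fun y : Ch d (d + r) =>
      (List.ofFn y.2.1).filter (fun y => decide (y ≠ theta0 d r))) hbb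
    simp only [hom] at h1
    rw [filter_ext0 _ (hx0 b), filter_ext0 _ (hx0 b')] at h1
    exact ch_ext _ _ (List.ofFn_inj'.1 h1)
  have hQ : ∑ b ∈ s, g b • chainMon K (hom b).2.1 ∈ schubertVanishing K d (d + r) w := by
    rw [Groth.Agent.H9.Shf.mem_schubertVanishing_iff]
    intro A hA
    rw [map_sum]
    set δ := (A.submatrix (theta0 d r).1 id).det with hδ
    have hterm : ∀ b, evalMinors K d (d + r) A (chainMon K (hom b).2.1) =
        evalMinors K d (d + r) A (chainMon K (x b).2.1) * δ ^ (D + 1 - (x b).1) := by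
      intro b
      show evalMinors K d (d + r) A (chainMon K (ext0 (x b).2.1 (D + 1 - (x b).1))) = _
      rw [chainMon_ext0, map_mul, map_pow, Groth.Agent.H9.Shf.evalMinors_X]
    by_cases hδ0 : δ = 0
    · refine Finset.sum_eq_zero fun b hb => ?_
      rw [map_smul, hterm, hδ0, zero_pow, mul_zero, smul_zero]
      have : (x b).1 ≤ D := Finset.le_sup (f := fun b => (x b).1) hb
      omega
    · obtain ⟨z, hz⟩ := key_eval K d r A hδ0
      have hchain : ∀ b, evalMinors K d (d + r) A (chainMon K (x b).2.1) =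
          MvPolynomial.eval z (cellMap K d r (chainMon K (x b).2.1)) * δ ^ (x b).1 := by
        intro b
        unfold chainMon
        rw [map_prod, map_prod, map_prod]
        have hk : ∀ k, evalMinors K d (d + r) A (X ((x b).2.1 k)) =
            MvPolynomial.eval z (cellMap K d r (X ((x b).2.1 k))) * δ := by
          intro k
          rw [Groth.Agent.H9.Shf.evalMinors_X, cellMap_X, hz]
        rw [Finset.prod_congr rfl (fun k _ => hk k), Finset.prod_mul_distrib, Finset.prod_const,
          Finset.card_univ, Fintype.card_fin]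
      have hz0 : ∀ θ : Idx d (d + r), ¬ θ ≤ w →
          MvPolynomial.eval z (cellMinor K d r θ) = 0 := by
        intro θ hθ
        have h1 := hz θ
        rw [hA θ hθ] at h1
        rcases mul_eq_zero.1 h1.symm with h2 | h2
        · exact h2
        · exact absurd h2 hδ0
      have hzero := hw _ hsum z hz0
      rw [map_sum] at hzero
      have hrew : ∑ b ∈ s, evalMinors K d (d + r) A (g b • chainMon K (hom b).2.1) =
          δ ^ (D + 1) * ∑ b ∈ s,
            MvPolynomial.eval z (g b • cellMap K d r (chainMon K (x b).2.1)) := by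
        rw [Finset.mul_sum]
        refine Finset.sum_congr rfl fun b hb => ?_
        have hle : (x b).1 ≤ D := Finset.le_sup (f := fun b => (x b).1) hb
        rw [map_smul, hterm, hchain, smul_eq_mul, MvPolynomial.smul_eval]
        have hsplit : D + 1 = (x b).1 + (D + 1 - (x b).1) := by omega
        conv_rhs => rw [hsplit, pow_add]
        ring
      rw [hrew, hzero, mul_zero]
  intro b hb
  refine Groth.Agent.H9.Ldt.indep_schubert K hd hom hominj s g w hQ b hb ?_
  intro k
  show ext0 (x b).2.1 _ k ≤ w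
  unfold ext0
  split_ifs with h
  · exact hxw b _
  · exact theta0_le w

end Groth.Agent.H9.Bit
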