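import Mathlib
import Groth.Prelude.Def_CAlgX
import Groth.Prelude.Def_W4bk4grassmannianPl
import Groth.Agent.Lib.Helper9.Misc.BitD
import Groth.Agent.Lib.Helper9.Misc.LdtD

set_option autoImplicit false
set_option linter.unusedSectionVars false
set_option linter.unusedVariables false

open W4bk4grassmannian MvPolynomial

namespace Groth.Agent.H9.Bit

open Groth.Agent.H9.Ldt (Ch)

universe u

variable (K : Type u) [Field K] (m n : ℕ)

/-- restriction to the opposite cell followed by row reversal -/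
noncomputable def cm : PlRing K n (n + m) →ₐ[K] MvPolynomial (Fin m × Fin n) K :=
  (rho K n m).comp (cellMap K n m)

variable {m n}

theorem cm_X_rel {θ : Idx n (n + m)} {M : MinorIdx m n} (h : Rel θ M) :
    ∃ e : K, e ≠ 0 ∧ cm K m n (X θ) = C e * minorOf K M := by
  obtain ⟨e, he, h1⟩ := rel_cellMinor K h
  refine ⟨e, he, ?_⟩
  unfold cm
  rw [AlgHom.comp_apply, cellMap_X]
  exact h1

variable (m n)

theorem cm_theta0 : cm K m n (X (theta0 n m)) = 1 := by
  unfold cm
  rw [AlgHom.comp_apply, cellMap_X, cellMinor_theta0, map_one]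

theorem cm_top [Infinite K] {p : PlRing K n (n + m)}
    (hp : p ∈ plIdealTop (d := n) (n := n + m) K) : cm K m n p = 0 := by
  have h1 : cellMap K n m p = 0 := by
    apply MvPolynomial.funext
    intro z
    rw [eval_cellMap, map_zero]
    exact (Groth.Agent.H9.Shf.mem_vanishing_iff K _).1
      (Groth.Agent.H9.Shf.plIdealTop_le_vanishing K hp) _
  unfold cm
  rw [AlgHom.comp_apply, h1, map_zero]

theorem cm_surjective : Function.Surjective (cm K m n) := by
  rw [← AlgHom.range_eq_top, eq_top_iff, ← MvPolynomial.adjoin_range_X, Algebra.adjoin_le_iff]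
  rintro _ ⟨⟨i, j⟩, rfl⟩
  show X (i, j) ∈ (cm K m n).range
  rw [AlgHom.mem_range]
  let M : MinorIdx m n := ⟨0, ⟨fun _ => i, fun a b h => absurd h (by
      have := a.isLt; have := b.isLt; rw [Fin.lt_def]; omega)⟩,
    ⟨fun _ => j, fun a b h => absurd h (by
      have := a.isLt; have := b.isLt; rw [Fin.lt_def]; omega)⟩⟩
  obtain ⟨θ, hθ⟩ := exists_rel M
  obtain ⟨e, he, h1⟩ := cm_X_rel K hθ
  have h2 : minorOf K M = X (i, j) := by
    unfold minorOf
    show ((genMatrix K m n).submatrix (fun _ : Fin (0 + 1) => i) (fun _ : Fin (0 + 1) => j)).det = _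
    have hdet : ∀ Mx : Matrix (Fin (0 + 1)) (Fin (0 + 1)) (MvPolynomial (Fin m × Fin n) K),
        Mx.det = Mx 0 0 := fun Mx => Matrix.det_fin_one Mx
    rw [hdet]
    rfl
  refine ⟨C e⁻¹ * X θ, ?_⟩
  rw [map_mul, h1, h2, MvPolynomial.algHom_C, MvPolynomial.algebraMap_eq, ← mul_assoc, ← C_mul,
    inv_mul_cancel₀ he, C_1, one_mul]

variable (t : ℕ)

/-- index set of standard bitableaux with minors of size `< t` -/
abbrev BT : Type := Σ k : ℕ, {c : Fin k → MinorIdx m n //
  (∀ i, (c i).1 + 1 ≤ t - 1) ∧ ∀ i j, i < j → MinorGE (c i) (c j)}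

noncomputable def vfam (c : BT m n t) :
    MvPolynomial (Fin m × Fin n) K ⧸ CAlgX.minorIdeal (genMatrix K m n) t :=
  Ideal.Quotient.mk (CAlgX.minorIdeal (genMatrix K m n) t)
    (Finset.univ.prod fun i => minorOf K (c.2.1 i))

theorem minor_mem_of_size (M : MinorIdx m n) (h : t ≤ M.1 + 1) :
    minorOf K M ∈ CAlgX.minorIdeal (genMatrix K m n) t := by
  have h1 := Groth.Agent.H5.DetCell.det_submatrix_mem_minorIdeal (genMatrix K m n)
    (β := Fin (M.1 + 1)) M.2.1.1 M.2.2.1
  rw [Fintype.card_fin] at h1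
  exact Groth.Agent.H5.DetCell.minorIdeal_le_of_le (genMatrix K m n) h h1

theorem cm_X_mem (ht : 1 ≤ t) (htr : t ≤ m + 1) (htd : t ≤ n + 1) (θ : Idx n (n + m))
    (hθ : ¬ θ ≤ wIdx n m t ht htr) :
    cm K m n (X θ) ∈ CAlgX.minorIdeal (genMatrix K m n) t := by
  have hne : θ ≠ theta0 n m := by
    rintro rfl
    exact hθ (theta0_le _)
  obtain ⟨M, hM⟩ := exists_rel_of_ne θ hne
  obtain ⟨e, he, h1⟩ := cm_X_rel K hM
  rw [h1]
  apply Ideal.mul_mem_left
  apply minor_mem_of_size
  have := (hM.le_wIdx_iff t ht htr htd).not.1 hθ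
  omega

theorem chain_mem (ht : 1 ≤ t) (htr : t ≤ m + 1) (htd : t ≤ n + 1) :
    ∀ (k : ℕ) (y : Fin k → Idx n (n + m)), Antitone y → (∀ i, y i ≤ wIdx n m t ht htr) →
      Ideal.Quotient.mk (CAlgX.minorIdeal (genMatrix K m n) t) (cm K m n (chainMon K y)) ∈
        Submodule.span K (Set.range (vfam K m n t)) := by
  intro k
  induction k with
  | zero =>
    intro y _ _
    apply Submodule.subset_span
    refine ⟨⟨0, Fin.elim0, fun i => i.elim0, fun i => i.elim0⟩, ?_⟩
    unfold vfam chainMon
    simp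
  | succ k ih =>
    intro y hy hyw
    by_cases hlast : y (Fin.last k) = theta0 n m
    · have h1 : chainMon K y =
          chainMon K (fun i : Fin k => y (Fin.castSucc i)) * X (theta0 n m) := by
        unfold chainMon
        rw [Fin.prod_univ_castSucc, hlast]
      rw [h1, map_mul, cm_theta0, mul_one]
      exact ih _ (fun i j hij => hy (Fin.castSucc_le_castSucc_iff.2 hij)) (fun i => hyw _)
    · have hne : ∀ i, y i ≠ theta0 n m := by
        intro i hi
        apply hlast
        apply le_antisymm _ (theta0_le _)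
        rw [← hi]
        exact hy (Fin.le_last i)
      choose M hM using fun i => exists_rel_of_ne (y i) (hne i)
      choose e he using fun i => cm_X_rel K (hM i)
      have hsize : ∀ i, (M i).1 + 1 ≤ t - 1 :=
        fun i => ((hM i).le_wIdx_iff t ht htr htd).1 (hyw i)
      have hchain : ∀ i j : Fin (k + 1), i < j → MinorGE (M (Fin.rev i)) (M (Fin.rev j)) := by
        intro i j hij
        apply (rel_le_iff (hM (Fin.rev j)) (hM (Fin.rev i))).1
        apply hy
        exact Fin.rev_le_rev.2 hij.le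
      have hprod : cm K m n (chainMon K y) =
          C (∏ i, e i) * ∏ i, minorOf K (M (Fin.rev i)) := by
        unfold chainMon
        rw [map_prod, Finset.prod_congr rfl (fun i _ => (he i).2), Finset.prod_mul_distrib,
          ← map_prod]
        congr 1
        exact (Equiv.prod_comp Fin.revPerm (fun i => minorOf K (M i))).symm
      rw [hprod]
      have hv : Ideal.Quotient.mk (CAlgX.minorIdeal (genMatrix K m n) t)
          (C (∏ i, e i) * ∏ i, minorOf K (M (Fin.rev i))) =
          (∏ i, e i) • vfam K m n t ⟨k + 1, fun i => M (Fin.rev i),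
            fun i => hsize (Fin.rev i), hchain⟩ := by
        unfold vfam
        rw [← MvPolynomial.smul_eq_C_mul]
        rfl
      rw [hv]
      exact Submodule.smul_mem _ _ (Submodule.subset_span ⟨_, rfl⟩)

theorem span_top [Infinite K] (ht : 1 ≤ t) (htr : t ≤ m + 1) (htd : t ≤ n + 1) :
    Submodule.span K (Set.range (vfam K m n t)) = ⊤ := by
  rw [eq_top_iff]
  rintro q -
  obtain ⟨p, rfl⟩ := Ideal.Quotient.mk_surjective q
  obtain ⟨P, rfl⟩ := cm_surjective K m n p
  obtain ⟨l, hl⟩ := Groth.Agent.H9.Ldt.exists_expansion K P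
  have h0 := cm_top K m n hl
  rw [map_sub, sub_eq_zero] at h0
  rw [h0]
  unfold Finsupp.sum
  rw [map_sum, map_sum]
  refine Submodule.sum_mem _ fun x _ => ?_
  rw [map_smul]
  have hsm : Ideal.Quotient.mk (CAlgX.minorIdeal (genMatrix K m n) t)
      (l x • cm K m n (chainMon K x.2.1)) =
      l x • Ideal.Quotient.mk (CAlgX.minorIdeal (genMatrix K m n) t)
        (cm K m n (chainMon K x.2.1)) := rfl
  rw [hsm]
  apply Submodule.smul_mem
  by_cases hall : ∀ i, x.2.1 i ≤ wIdx n m t ht htr
  · exact chain_mem K m n t ht htr htd x.1 x.2.1 x.2.2 hall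
  · push Not at hall
    obtain ⟨i, hi⟩ := hall
    have hmem : cm K m n (chainMon K x.2.1) ∈ CAlgX.minorIdeal (genMatrix K m n) t := by
      have := Groth.Agent.H9.Ldt.chainMon_mem_of_mem K
        ((CAlgX.minorIdeal (genMatrix K m n) t).comap (cm K m n).toRingHom) x.2.1 i
        (by rw [Ideal.mem_comap]; exact cm_X_mem K m n t ht htr htd _ hi)
      exact this
    rw [Ideal.Quotient.eq_zero_iff_mem.2 hmem]
    exact zero_mem _

theorem eval_minorIdeal (hn : 0 < n) (ht : 1 ≤ t) (htr : t ≤ m + 1) (htd : t ≤ n + 1) :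
    ∀ p ∈ CAlgX.minorIdeal (genMatrix K m n) t, ∀ z : Fin m × Fin n → K,
      (∀ θ : Idx n (n + m), ¬ θ ≤ wIdx n m t ht htr →
        MvPolynomial.eval z (cellMinor K n m θ) = 0) → MvPolynomial.eval z p = 0 := by
  intro p hp z hz
  have hle : CAlgX.minorIdeal (genMatrix K m n) t ≤ RingHom.ker (MvPolynomial.eval z) := by
    have hdef : CAlgX.minorIdeal (genMatrix K m n) t = Ideal.span (Set.range
      fun fg : (Fin t → Fin m) × (Fin t → Fin n) =>
        Matrix.det ((genMatrix K m n).submatrix fg.1 fg.2)) := rfl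
    rw [hdef, Ideal.span_le]
    rintro _ ⟨⟨f, g⟩, rfl⟩
    rw [SetLike.mem_coe, RingHom.mem_ker]
    show (MvPolynomial.eval z) (((genMatrix K m n).submatrix f g).det) = 0
    by_cases htd' : t ≤ n
    · have h1 := Groth.Agent.H5.DetCell.minor_mem K n m t hn ht htd' f g
      have h2 : Ideal.span {x : CellRing K n m | ∃ θ : Idx n (n + m),
          n ≤ (θ.1 ⟨n - t, Nat.sub_lt hn ht⟩).val ∧ x = cellMinor K n m θ} ≤
          RingHom.ker (MvPolynomial.eval z) := by
        rw [Ideal.span_le]
        rintro _ ⟨θ, hθ, rfl⟩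
        rw [SetLike.mem_coe, RingHom.mem_ker]
        apply hz
        rw [le_wIdx_iff t ht htr htd' θ]
        omega
      exact RingHom.mem_ker.1 (h2 h1)
    · have hg : ¬ Function.Injective g := by
        intro hinj
        have := Fintype.card_le_of_injective g hinj
        simp only [Fintype.card_fin] at this
        omega
      rw [Function.Injective] at hg
      push Not at hg
      obtain ⟨a, b, hab, hne⟩ := hg
      rw [Matrix.det_zero_of_column_eq hne (by intro k; simp [hab]), map_zero]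
  exact RingHom.mem_ker.1 (hle hp)

theorem li [Infinite K] (hn : 0 < n) (ht : 1 ≤ t) (htr : t ≤ m + 1) (htd : t ≤ n + 1) :
    LinearIndependent K (vfam K m n t) := by
  classical
  rw [linearIndependent_iff']
  intro s g hsum c0 hc0
  choose th hth using fun M : MinorIdx m n => exists_rel M
  choose e he using fun M : MinorIdx m n => cm_X_rel K (hth M)
  let x : BT m n t → Ch n (n + m) := fun c => ⟨c.1, fun i => th (c.2.1 (Fin.rev i)), by
    intro i j hij
    rcases hij.eq_or_lt with h | h
    · rw [h]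
    · exact (rel_le_iff (hth (c.2.1 (Fin.rev i))) (hth (c.2.1 (Fin.rev j)))).2
        (c.2.2.2 _ _ (Fin.rev_lt_rev.2 h))⟩
  have hxinj : Function.Injective x := by
    rintro ⟨k, c, hc⟩ ⟨k', c', hc'⟩ h
    have hk : k = k' := congrArg Sigma.fst h
    subst hk
    have h2 : (fun i => th (c (Fin.rev i))) = fun i => th (c' (Fin.rev i)) := by
      have := (Sigma.mk.inj_iff.1 h).2
      exact congrArg Subtype.val (eq_of_heq this)
    have h3 : c = c' := by
      funext i
      have h4 := congrFun h2 (Fin.rev i)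
      rw [Fin.rev_rev] at h4
      exact rel_minor_unique (hth (c i)) (by rw [h4]; exact hth (c' i))
    subst h3
    rfl
  have hmem : ∑ c ∈ s, g c • ∏ i, minorOf K (c.2.1 i) ∈
      CAlgX.minorIdeal (genMatrix K m n) t := by
    rw [← Ideal.Quotient.eq_zero_iff_mem, map_sum, ← hsum]
    refine Finset.sum_congr rfl fun c _ => rfl
  let ε : BT m n t → K := fun c => ∏ i, e (c.2.1 (Fin.rev i))
  have hε : ∀ c, ε c ≠ 0 := fun c => Finset.prod_ne_zero_iff.2 fun i _ => (he _).1
  have hprod : ∀ c : BT m n t, cm K m n (chainMon K (x c).2.1) =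
      C (ε c) * ∏ i, minorOf K (c.2.1 i) := by
    intro c
    show cm K m n (chainMon K (fun i => th (c.2.1 (Fin.rev i)))) = _
    unfold chainMon
    rw [map_prod, Finset.prod_congr rfl (fun i _ => (he _).2), Finset.prod_mul_distrib,
      ← map_prod]
    congr 1
    exact Equiv.prod_comp Fin.revPerm (fun i => minorOf K (c.2.1 i))
  have hsum2 : ∑ c ∈ s, (g c * (ε c)⁻¹) • cellMap K n m (chainMon K (x c).2.1) ∈
      CAlgX.minorIdeal (genMatrix K m n) t := by
    have h1 : rho K n m (∑ c ∈ s, (g c * (ε c)⁻¹) • cellMap K n m (chainMon K (x c).2.1)) =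
        ∑ c ∈ s, g c • ∏ i, minorOf K (c.2.1 i) := by
      rw [map_sum]
      refine Finset.sum_congr rfl fun c _ => ?_
      rw [map_smul]
      have hcm : rho K n m (cellMap K n m (chainMon K (x c).2.1)) =
          cm K m n (chainMon K (x c).2.1) := rfl
      rw [hcm, hprod, MvPolynomial.smul_eq_C_mul, MvPolynomial.smul_eq_C_mul, ← mul_assoc,
        ← C_mul, mul_assoc, inv_mul_cancel₀ (hε c), mul_one]
    have h3 : rho K n m (∑ c ∈ s, (g c * (ε c)⁻¹) • cellMap K n m (chainMon K (x c).2.1)) ∈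
        CAlgX.minorIdeal (genMatrix K m n) t := by
      rw [h1]
      exact hmem
    have h2 := rho_mem_minorIdeal K n m t h3
    rwa [rho_rho] at h2
  have hcore := li_core K hn t (wIdx n m t ht htr) (eval_minorIdeal K m n t hn ht htr htd) x hxinj
    (fun c k => (hth _).ne_theta0)
    (fun c k => ((hth _).le_wIdx_iff t ht htr htd).2 (c.2.2.1 _)) s
    (fun c => g c * (ε c)⁻¹) hsum2 c0 hc0
  rcases mul_eq_zero.1 hcore with h | h
  · exact h
  · exact absurd (inv_eq_zero.1 h) (hε c0)

theorem main [Infinite K] (hm : 0 < m) (hn : 0 < n) (ht : 1 ≤ t) (htmn : t ≤ min m n + 1) :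
    LinearIndependent K (fun c : (Σ k : ℕ, {c : Fin k → MinorIdx m n //
        (∀ i, (c i).1 + 1 ≤ t - 1) ∧ ∀ i j, i < j → MinorGE (c i) (c j)}) =>
        Ideal.Quotient.mk (CAlgX.minorIdeal (genMatrix K m n) t)
          (Finset.univ.prod fun i => minorOf K (c.2.1 i))) ∧
      Submodule.span K (Set.range fun c : (Σ k : ℕ, {c : Fin k → MinorIdx m n //
        (∀ i, (c i).1 + 1 ≤ t - 1) ∧ ∀ i j, i < j → MinorGE (c i) (c j)}) =>
        Ideal.Quotient.mk (CAlgX.minorIdeal (genMatrix K m n) t)
          (Finset.univ.prod fun i => minorOf K (c.2.1 i))) = ⊤ := by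
  have htr : t ≤ m + 1 := by have := min_le_left m n; omega
  have htd : t ≤ n + 1 := by have := min_le_right m n; omega
  exact ⟨li K m n t hn ht htr htd, span_top K m n t ht htr htd⟩

end Groth.Agent.H9.Bit
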