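import Mathlib
import Groth.Prelude.Def_CAlgX
import Groth.Prelude.Def_W4bk4grassmannianPl
import Groth.Agent.Lib.Helper9.Misc.BitE
import Groth.Agent.Lib.Helper9.Misc.NrmA
import Groth.Agent.Lib.Helper9.Misc.SmtA

set_option autoImplicit false
set_option linter.unusedSectionVars false
set_option linter.unusedVariables false

open W4bk4grassmannian MvPolynomial

namespace Groth.Agent.H9.Det

open Groth.Agent.H9.Bit

universe u

variable (K : Type u) [Field K] (d r : ℕ)

/-- the matrix of Plücker coordinates `[θ0 with j replaced by i]` -/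
noncomputable def Xi : Matrix (Fin (d + r)) (Fin d) (PlRing K d (d + r)) :=
  Matrix.of fun i j => coord K d (d + r) (Function.update (theta0 d r).1 j i)

theorem evalMinors_Xi (M : Matrix (Fin (d + r)) (Fin d) K) (s : Fin (d + r)) (b : Fin d) :
    evalMinors K d (d + r) M (Xi K d r s b) =
      ∑ k : Fin d, M s k * Matrix.adjugate (M.submatrix (theta0 d r).1 id) k b := by
  unfold Xi
  rw [Matrix.of_apply, Groth.Agent.H9.Shf.evalMinors_coord]
  have h2 : M.submatrix (Function.update (theta0 d r).1 b s) id =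
      (M.submatrix (theta0 d r).1 id).updateRow b (M s) := by
    ext i j
    rw [Matrix.submatrix_apply, id_eq, Matrix.updateRow_apply]
    by_cases hi : i = b
    · rw [if_pos hi, hi, Function.update_self]
    · rw [if_neg hi, Function.update_of_ne hi, Matrix.submatrix_apply, id_eq]
  rw [h2, ← Matrix.cramer_transpose_apply, Matrix.cramer_eq_adjugate_mulVec,
    ← Matrix.adjugate_transpose]
  simp only [Matrix.mulVec, dotProduct, Matrix.transpose_apply]
  apply Finset.sum_congr rfl
  intro k _
  ring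

theorem cramer_vanishing (θ : Idx d (d + r)) :
    ((Xi K d r).submatrix θ.1 id).det - X (theta0 d r) ^ (d - 1) * X θ ∈
      vanishing K d (d + r) := by
  rw [Groth.Agent.H9.Shf.mem_vanishing_iff]
  intro M
  rw [map_sub, map_mul, map_pow, Groth.Agent.H9.Shf.evalMinors_X,
    Groth.Agent.H9.Shf.evalMinors_X, AlgHom.map_det]
  have h : (evalMinors K d (d + r) M).mapMatrix ((Xi K d r).submatrix θ.1 id) =
      (M.submatrix θ.1 id) * Matrix.adjugate (M.submatrix (theta0 d r).1 id) := by
    ext a b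
    rw [AlgHom.mapMatrix_apply, Matrix.map_apply, Matrix.submatrix_apply, id_eq,
      evalMinors_Xi, Matrix.mul_apply]
    rfl
  rw [h, Matrix.det_mul, Matrix.det_adjugate, Fintype.card_fin]
  ring

theorem Xi_top (i₀ j : Fin d) :
    Xi K d r (Fin.castAdd r i₀) j = if i₀ = j then X (theta0 d r) else 0 := by
  unfold Xi
  rw [Matrix.of_apply]
  by_cases h : i₀ = j
  · rw [if_pos h, h]
    have h1 : Function.update (theta0 d r).1 j (Fin.castAdd r j) = (theta0 d r).1 :=
      Function.update_eq_self j (theta0 d r).1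
    rw [h1, Groth.Agent.H9.SMT.coord_mono]
  · rw [if_neg h]
    unfold coord
    rw [dif_neg]
    intro hc
    have hinj : Set.InjOn (Function.update (theta0 d r).1 j (Fin.castAdd r i₀))
        (Finset.univ : Finset (Fin d)) := by
      rw [← Finset.card_image_iff, hc, Finset.card_univ, Fintype.card_fin]
    have := hinj (Finset.mem_coe.2 (Finset.mem_univ i₀)) (Finset.mem_coe.2 (Finset.mem_univ j))
      (by rw [Function.update_self, Function.update_of_ne h]; rfl)
    exact h this

theorem cellMatrix_theta0 : (cellMatrix K d r).submatrix (theta0 d r).1 id = 1 := by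
  apply Matrix.ext
  intro a b
  rw [Matrix.submatrix_apply, id_eq,
    Groth.Agent.H5.DetCell.cellMatrix_apply_lt K d r _ _ (by
      show ((theta0 d r).1 a).val < d
      exact a.isLt), Matrix.one_apply]
  by_cases h : a = b
  · rw [if_pos h, if_pos]
    rw [h]
    rfl
  · rw [if_neg h, if_neg]
    intro h'
    exact h (Fin.ext h')

theorem cellMap_Xi (i : Fin (d + r)) (j : Fin d) :
    cellMap K d r (Xi K d r i j) = cellMatrix K d r i j := by
  unfold Xi
  rw [Matrix.of_apply]
  have h1 := Groth.Agent.H9.Nrm.aeval_coord (cellMap K d r) (cellMatrix K d r) 1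
    (fun θ => by rw [cellMap_X, one_mul]; rfl) (Function.update (theta0 d r).1 j i)
  rw [h1, one_mul]
  exact Groth.Agent.H9.Nrm.det_update_of_submatrix_eq_one (cellMatrix K d r) (theta0 d r).1
    (cellMatrix_theta0 K d r) j i

theorem cm_Xi (i : Fin (d + r)) (j : Fin d) :
    cm K r d (Xi K d r i j) = rho K d r (cellMatrix K d r i j) := by
  unfold cm
  rw [AlgHom.comp_apply, cellMap_Xi]

theorem cellMatrix_castAdd (i₀ j : Fin d) :
    cellMatrix K d r (Fin.castAdd r i₀) j = if i₀ = j then 1 else 0 := by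
  rw [Groth.Agent.H5.DetCell.cellMatrix_apply_lt K d r _ _ (by
    show (Fin.castAdd r i₀).val < d
    exact i₀.isLt)]
  by_cases h : i₀ = j
  · rw [if_pos h, if_pos]
    rw [h]
    rfl
  · rw [if_neg h, if_neg]
    intro h'
    exact h (Fin.ext h')

theorem cellMatrix_natAdd (i' : Fin r) (j : Fin d) :
    cellMatrix K d r (Fin.natAdd d i') j = X (i', j) := by
  rw [Groth.Agent.H5.DetCell.cellMatrix_apply_ge K d r _ _ (by
    show d ≤ (Fin.natAdd d i').val
    rw [Fin.val_natAdd]; omega)]
  congr 2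
  apply Fin.ext
  show (Fin.natAdd d i').val - d = i'.val
  rw [Fin.val_natAdd]; omega

theorem rho_X (i' : Fin r) (j : Fin d) : rho K d r (X (i', j)) = X (Fin.rev i', j) := by
  unfold rho
  rw [rename_X]
  rfl

/-- the candidate inverse of the dehomogenisation, with values in any ring where `X θ0` is
invertible -/
noncomputable def psiGen {Q : Type*} [CommRing Q] (φ : PlRing K d (d + r) →+* Q) (u : Q) :
    CellRing K d r →+* Q :=
  MvPolynomial.eval₂Hom (φ.comp C)
    (fun ij => φ (Xi K d r (Fin.natAdd d (Fin.rev ij.1)) ij.2) * u)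

theorem psiGen_C {Q : Type*} [CommRing Q] (φ : PlRing K d (d + r) →+* Q) (u : Q) (a : K) :
    psiGen K d r φ u (C a) = φ (C a) := by
  unfold psiGen
  rw [eval₂Hom_C]
  rfl

theorem psiGen_X {Q : Type*} [CommRing Q] (φ : PlRing K d (d + r) →+* Q) (u : Q)
    (i' : Fin r) (j : Fin d) :
    psiGen K d r φ u (X (i', j)) = φ (Xi K d r (Fin.natAdd d (Fin.rev i')) j) * u := by
  unfold psiGen
  rw [eval₂Hom_X']

theorem psiGen_rho_cellMatrix {Q : Type*} [CommRing Q] (φ : PlRing K d (d + r) →+* Q) (u : Q)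
    (hu : φ (X (theta0 d r)) * u = 1) (i : Fin (d + r)) (j : Fin d) :
    psiGen K d r φ u (rho K d r (cellMatrix K d r i j)) = φ (Xi K d r i j) * u := by
  refine Fin.addCases (fun i₀ => ?_) (fun i' => ?_) i
  · rw [cellMatrix_castAdd, Xi_top]
    by_cases h : i₀ = j
    · rw [if_pos h, if_pos h, map_one, map_one, hu]
    · rw [if_neg h, if_neg h, map_zero, map_zero, map_zero, zero_mul]
  · rw [cellMatrix_natAdd, rho_X, psiGen_X, Fin.rev_rev]

theorem psiGen_cm_X {Q : Type*} [CommRing Q] (hd : 0 < d) (φ : PlRing K d (d + r) →+* Q) (u : Q)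
    (hφ : ∀ p ∈ vanishing K d (d + r), φ p = 0)
    (hu : φ (X (theta0 d r)) * u = 1) (θ : Idx d (d + r)) :
    psiGen K d r φ u (cm K r d (X θ)) = φ (X θ) * u := by
  unfold cm
  rw [AlgHom.comp_apply, cellMap_X]
  unfold cellMinor
  have e1 : psiGen K d r φ u (rho K d r ((cellMatrix K d r).submatrix θ.1 id).det) =
      (((psiGen K d r φ u).comp (rho K d r).toRingHom).mapMatrix
        ((cellMatrix K d r).submatrix θ.1 id)).det := by
    rw [← RingHom.map_det]
    rfl
  rw [e1]
  have e2 : ((psiGen K d r φ u).comp (rho K d r).toRingHom).mapMatrix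
      ((cellMatrix K d r).submatrix θ.1 id) =
      u • (φ.mapMatrix ((Xi K d r).submatrix θ.1 id)) := by
    apply Matrix.ext
    intro a b
    rw [RingHom.mapMatrix_apply, Matrix.map_apply, Matrix.submatrix_apply, Matrix.smul_apply,
      RingHom.mapMatrix_apply, Matrix.map_apply, Matrix.submatrix_apply, id_eq, smul_eq_mul,
      mul_comm]
    exact psiGen_rho_cellMatrix K d r φ u hu (θ.1 a) b
  rw [e2, Matrix.det_smul, Fintype.card_fin, ← RingHom.map_det]
  have e3 : φ ((Xi K d r).submatrix θ.1 id).det = φ (X (theta0 d r)) ^ (d - 1) * φ (X θ) := by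
    have := hφ _ (cramer_vanishing K d r θ)
    rw [map_sub, sub_eq_zero] at this
    rw [this, map_mul, map_pow]
  rw [e3]
  have hd1 : u ^ d = u ^ (d - 1) * u := by
    conv_lhs => rw [show d = (d - 1) + 1 by omega, pow_succ]
  rw [hd1]
  calc u ^ (d - 1) * u * (φ (X (theta0 d r)) ^ (d - 1) * φ (X θ))
      = (φ (X (theta0 d r)) * u) ^ (d - 1) * (φ (X θ) * u) := by ring
    _ = φ (X θ) * u := by rw [hu, one_pow, one_mul]

theorem psiGen_It {Q : Type*} [CommRing Q] (hd : 0 < d) (t : ℕ) (ht : 1 ≤ t) (htr : t ≤ r)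
    (htd : t ≤ d) (φ : PlRing K d (d + r) →+* Q) (u : Q)
    (hφ : ∀ p ∈ vanishing K d (d + r), φ p = 0)
    (hu : φ (X (theta0 d r)) * u = 1)
    (hw : ∀ θ : Idx d (d + r), ¬ θ ≤ wIdx d r t ht (by omega) → φ (X θ) = 0)
    (p : CellRing K d r) (hp : p ∈ CAlgX.minorIdeal (genMatrix K r d) t) :
    psiGen K d r φ u p = 0 := by
  have h1 := rho_mem_minorIdeal K d r t hp
  rw [← Groth.Agent.H5.DetCell.main K d r t hd ht htd htr] at h1
  have h2 : Ideal.span {f : CellRing K d r | ∃ θ : Idx d (d + r),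
        d ≤ (θ.1 ⟨d - t, Nat.sub_lt hd ht⟩).val ∧ f = cellMinor K d r θ} ≤
      RingHom.ker ((psiGen K d r φ u).comp (rho K d r).toRingHom) := by
    rw [Ideal.span_le]
    rintro _ ⟨θ, hθ, rfl⟩
    rw [SetLike.mem_coe, RingHom.mem_ker]
    have h3 := psiGen_cm_X K d r hd φ u hφ hu θ
    have e : ((psiGen K d r φ u).comp (rho K d r).toRingHom) (cellMinor K d r θ) =
        psiGen K d r φ u (cm K r d (X θ)) := by
      unfold cm
      rw [AlgHom.comp_apply, cellMap_X]
      rfl
    rw [e, h3, hw θ ?_, zero_mul]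
    rw [le_wIdx_iff t ht _ htd θ]
    omega
  have h3 := h2 h1
  rw [RingHom.mem_ker] at h3
  have h4 : psiGen K d r φ u p =
      ((psiGen K d r φ u).comp (rho K d r).toRingHom) (rho K d r p) := by
    show _ = psiGen K d r φ u (rho K d r (rho K d r p))
    rw [rho_rho]
  rw [h4, h3]

end Groth.Agent.H9.Det
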