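import Mathlib
import Groth.Prelude.Def_CAlgX
import Groth.Prelude.Def_W4bk4grassmannianPl
import Groth.Agent.Lib.Helper9.Misc.DetA
import Groth.Agent.Lib.Helper9.Misc.NrmD
import Groth.Agent.Lib.Helper9.Misc.LdtE

set_option autoImplicit false
set_option linter.unusedSectionVars false
set_option linter.unusedVariables false

open W4bk4grassmannian MvPolynomial

namespace Groth.Agent.H9.Det

open Groth.Agent.H9.Bit

universe u

section retract

theorem isDomain_of_retract {B L : Type*} [CommRing B] [CommRing L] [IsDomain L]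
    (s : B →+* L) (p : L →+* B) (h : ∀ b, p (s b) = b) : IsDomain B :=
  Function.Injective.isDomain s (Function.LeftInverse.injective h)

theorem isIntegrallyClosed_of_retract {B L : Type*} [CommRing B] [IsDomain B] [CommRing L]
    [IsDomain L] [IsIntegrallyClosed L] (s : B →+* L) (p : L →+* B) (h : ∀ b, p (s b) = b) :
    IsIntegrallyClosed B := by
  classical
  have hs : Function.Injective s := Function.LeftInverse.injective h
  rw [isIntegrallyClosed_iff (FractionRing B)]
  rintro Z ⟨f, hf1, hf2⟩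
  obtain ⟨a, b, hb, hab⟩ : ∃ a b : B, b ≠ 0 ∧
      Z * algebraMap B (FractionRing B) b = algebraMap B (FractionRing B) a := by
    obtain ⟨⟨a, b⟩, h⟩ := IsLocalization.surj (nonZeroDivisors B) Z
    exact ⟨a, b.1, nonZeroDivisors.ne_zero b.2, h⟩
  have hb' : algebraMap B (FractionRing B) b ≠ 0 := by
    intro h0
    apply hb
    apply IsFractionRing.injective B (FractionRing B)
    rw [h0, map_zero]
  have hinj : Function.Injective ((algebraMap L (FractionRing L)).comp s) :=
    (IsFractionRing.injective L (FractionRing L)).comp hs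
  have hψ : ∀ r : B, (IsFractionRing.lift hinj) (algebraMap B (FractionRing B) r) =
      algebraMap L (FractionRing L) (s r) := fun r => IsFractionRing.lift_algebraMap hinj r
  have hint : IsIntegral L ((IsFractionRing.lift hinj) Z) := by
    refine ⟨f.map s, hf1.map s, ?_⟩
    rw [Polynomial.eval₂_map]
    have h3 := congrArg (IsFractionRing.lift hinj) hf2
    rw [Polynomial.hom_eval₂, map_zero] at h3
    have h4 : (IsFractionRing.lift hinj).comp (algebraMap B (FractionRing B)) =
        (algebraMap L (FractionRing L)).comp s := by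
      ext r; exact hψ r
    rw [h4] at h3
    exact h3
  obtain ⟨l, hl⟩ := IsIntegrallyClosed.isIntegral_iff.1 hint
  have hpb : l * s b = s a := by
    apply IsFractionRing.injective L (FractionRing L)
    rw [map_mul, hl, ← hψ, ← hψ, ← map_mul, hab]
  have hpb' : p l * b = a := by
    have := congrArg p hpb
    rwa [map_mul, h, h] at this
  refine ⟨p l, ?_⟩
  apply mul_right_cancel₀ hb'
  rw [hab, ← map_mul, hpb']

end retract

variable (K : Type u) [Field K] (d r t : ℕ)

/-- the Schubert ideal of the index `w` attached to `t` -/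
noncomputable abbrev JW (ht : 1 ≤ t) (htr : t ≤ r) : Ideal (PlRing K d (d + r)) :=
  schubertVanishing K d (d + r) (wIdx d r t ht (Nat.le_succ_of_le htr))

noncomputable abbrev AW (ht : 1 ≤ t) (htr : t ≤ r) : Type u := PlRing K d (d + r) ⧸ JW K d r t ht htr

noncomputable abbrev IT : Ideal (CellRing K d r) := CAlgX.minorIdeal (genMatrix K r d) t

noncomputable abbrev BT : Type u := CellRing K d r ⧸ IT K d r t

noncomputable def xW (ht : 1 ≤ t) (htr : t ≤ r) : AW K d r t ht htr :=
  Ideal.Quotient.mk (JW K d r t ht htr) (X (theta0 d r))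

noncomputable abbrev LW (ht : 1 ≤ t) (htr : t ≤ r) : Type u := Localization.Away (xW K d r t ht htr)

theorem cm_mem [Infinite K] (hd : 0 < d) (ht : 1 ≤ t) (htr : t ≤ r) (htd : t ≤ d)
    (p : PlRing K d (d + r)) (hp : p ∈ JW K d r t ht htr) : cm K r d p ∈ IT K d r t := by
  have hp' : p ∈ plIdeal K (wIdx d r t ht (Nat.le_succ_of_le htr)) := by
    rw [Groth.Agent.H9.Ldt.plIdeal_eq_schubert K hd]
    exact hp
  have hle : plIdeal K (wIdx d r t ht (Nat.le_succ_of_le htr)) ≤
      (IT K d r t).comap (cm K r d).toRingHom := by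
    unfold plIdeal
    rw [Ideal.span_le]
    rintro f (⟨i, j, s, hpv, rfl⟩ | ⟨φ, hφ, rfl⟩)
    · rw [SetLike.mem_coe, Ideal.mem_comap]
      have h0 : cm K r d (shuffleRel K i j s) = 0 :=
        cm_top K r d (Ideal.subset_span ⟨i, j, s, hpv, rfl⟩)
      show cm K r d _ ∈ _
      rw [h0]
      exact Ideal.zero_mem _
    · rw [SetLike.mem_coe, Ideal.mem_comap]
      exact cm_X_mem K r d t ht (Nat.le_succ_of_le htr) (Nat.le_succ_of_le htd) φ hφ
  exact hle hp'

noncomputable def cmA [Infinite K] (hd : 0 < d) (ht : 1 ≤ t) (htr : t ≤ r) (htd : t ≤ d) :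
    AW K d r t ht htr →+* BT K d r t :=
  Ideal.Quotient.lift (JW K d r t ht htr)
    ((Ideal.Quotient.mk (IT K d r t)).comp (cm K r d).toRingHom)
    (fun p hp => by
      rw [RingHom.comp_apply, Ideal.Quotient.eq_zero_iff_mem]
      exact cm_mem K d r t hd ht htr htd p hp)

theorem cmA_mk [Infinite K] (hd : 0 < d) (ht : 1 ≤ t) (htr : t ≤ r) (htd : t ≤ d)
    (p : PlRing K d (d + r)) :
    cmA K d r t hd ht htr htd (Ideal.Quotient.mk _ p) =
      Ideal.Quotient.mk (IT K d r t) (cm K r d p) := rfl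

theorem cmA_x [Infinite K] (hd : 0 < d) (ht : 1 ≤ t) (htr : t ≤ r) (htd : t ≤ d) :
    cmA K d r t hd ht htr htd (xW K d r t ht htr) = 1 := by
  unfold xW
  rw [cmA_mk, cm_theta0, map_one]

noncomputable def piL [Infinite K] (hd : 0 < d) (ht : 1 ≤ t) (htr : t ≤ r) (htd : t ≤ d) :
    LW K d r t ht htr →+* BT K d r t :=
  IsLocalization.Away.lift (xW K d r t ht htr) (g := cmA K d r t hd ht htr htd)
    (by rw [cmA_x]; exact isUnit_one)

theorem piL_alg [Infinite K] (hd : 0 < d) (ht : 1 ≤ t) (htr : t ≤ r) (htd : t ≤ d)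
    (a : AW K d r t ht htr) :
    piL K d r t hd ht htr htd (algebraMap (AW K d r t ht htr) (LW K d r t ht htr) a) =
      cmA K d r t hd ht htr htd a :=
  IsLocalization.Away.lift_eq _ _ a

theorem piL_inv [Infinite K] (hd : 0 < d) (ht : 1 ≤ t) (htr : t ≤ r) (htd : t ≤ d) :
    piL K d r t hd ht htr htd
      (IsLocalization.Away.invSelf (S := LW K d r t ht htr) (xW K d r t ht htr)) = 1 := by
  have h := congrArg (piL K d r t hd ht htr htd)
    (IsLocalization.Away.mul_invSelf (S := LW K d r t ht htr) (xW K d r t ht htr))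
  rw [map_mul, piL_alg, cmA_x, one_mul, map_one] at h
  exact h

noncomputable def phiL (ht : 1 ≤ t) (htr : t ≤ r) :
    PlRing K d (d + r) →+* LW K d r t ht htr :=
  (algebraMap (AW K d r t ht htr) (LW K d r t ht htr)).comp
    (Ideal.Quotient.mk (JW K d r t ht htr))

theorem phiL_vanishing (ht : 1 ≤ t) (htr : t ≤ r) (p : PlRing K d (d + r))
    (hp : p ∈ vanishing K d (d + r)) : phiL K d r t ht htr p = 0 := by
  unfold phiL
  rw [RingHom.comp_apply,
    Ideal.Quotient.eq_zero_iff_mem.2 (Groth.Agent.H9.Shf.vanishing_le_schubert K _ hp), map_zero]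

theorem phiL_unit (ht : 1 ≤ t) (htr : t ≤ r) :
    phiL K d r t ht htr (X (theta0 d r)) *
      IsLocalization.Away.invSelf (S := LW K d r t ht htr) (xW K d r t ht htr) = 1 := by
  show algebraMap (AW K d r t ht htr) (LW K d r t ht htr) (xW K d r t ht htr) * _ = 1
  exact IsLocalization.Away.mul_invSelf (xW K d r t ht htr)

theorem phiL_w (ht : 1 ≤ t) (htr : t ≤ r) (θ : Idx d (d + r))
    (hθ : ¬ θ ≤ wIdx d r t ht (Nat.le_succ_of_le htr)) : phiL K d r t ht htr (X θ) = 0 := by
  unfold phiL
  rw [RingHom.comp_apply,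
    Ideal.Quotient.eq_zero_iff_mem.2 (Groth.Agent.H9.Shf.X_mem_schubert K _ θ hθ), map_zero]

noncomputable def psiBar (hd : 0 < d) (ht : 1 ≤ t) (htr : t ≤ r) (htd : t ≤ d) :
    BT K d r t →+* LW K d r t ht htr :=
  Ideal.Quotient.lift (IT K d r t)
    (psiGen K d r (phiL K d r t ht htr)
      (IsLocalization.Away.invSelf (S := LW K d r t ht htr) (xW K d r t ht htr)))
    (fun p hp => psiGen_It K d r hd t ht htr htd _ _ (phiL_vanishing K d r t ht htr)
      (phiL_unit K d r t ht htr) (phiL_w K d r t ht htr) p hp)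

theorem psiBar_mk (hd : 0 < d) (ht : 1 ≤ t) (htr : t ≤ r) (htd : t ≤ d) (p : CellRing K d r) :
    psiBar K d r t hd ht htr htd (Ideal.Quotient.mk _ p) =
      psiGen K d r (phiL K d r t ht htr)
        (IsLocalization.Away.invSelf (S := LW K d r t ht htr) (xW K d r t ht htr)) p := rfl

theorem piL_psiBar [Infinite K] (hd : 0 < d) (ht : 1 ≤ t) (htr : t ≤ r) (htd : t ≤ d)
    (b : BT K d r t) :
    piL K d r t hd ht htr htd (psiBar K d r t hd ht htr htd b) = b := by
  have h : (piL K d r t hd ht htr htd).comp (psiBar K d r t hd ht htr htd) =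
      RingHom.id (BT K d r t) := by
    apply Ideal.Quotient.ringHom_ext
    apply MvPolynomial.ringHom_ext
    · intro a
      show piL K d r t hd ht htr htd (psiBar K d r t hd ht htr htd (Ideal.Quotient.mk _ (C a))) =
        Ideal.Quotient.mk _ (C a)
      rw [psiBar_mk, psiGen_C]
      show piL K d r t hd ht htr htd (algebraMap (AW K d r t ht htr) (LW K d r t ht htr)
        (Ideal.Quotient.mk _ (C a))) = _
      rw [piL_alg, cmA_mk]
      have hc : cm K r d (C a) = C a := (cm K r d).commutes a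
      rw [hc]
    · rintro ⟨i', j⟩
      show piL K d r t hd ht htr htd (psiBar K d r t hd ht htr htd
        (Ideal.Quotient.mk _ (X (i', j)))) = Ideal.Quotient.mk _ (X (i', j))
      rw [psiBar_mk, psiGen_X, map_mul, piL_inv, mul_one]
      show piL K d r t hd ht htr htd (algebraMap (AW K d r t ht htr) (LW K d r t ht htr)
        (Ideal.Quotient.mk _ (Xi K d r (Fin.natAdd d (Fin.rev i')) j))) = _
      rw [piL_alg, cmA_mk, cm_Xi, cellMatrix_natAdd, rho_X, Fin.rev_rev]
  exact RingHom.congr_fun h b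

theorem AW_isDomain [Infinite K] (hd : 0 < d) (ht : 1 ≤ t) (htr : t ≤ r) :
    IsDomain (AW K d r t ht htr) := by
  haveI := Groth.Agent.H9.Nrm.schubert_isPrime K hd (wIdx d r t ht (Nat.le_succ_of_le htr))
  exact Ideal.Quotient.isDomain _

theorem xW_ne_zero [Infinite K] (hd : 0 < d) (ht : 1 ≤ t) (htr : t ≤ r) :
    xW K d r t ht htr ≠ 0 := by
  unfold xW
  rw [Ne, Ideal.Quotient.eq_zero_iff_mem]
  exact Groth.Agent.H9.Nrm.X_not_mem_schubert K hd _ _ (theta0_le _)

theorem LW_isDomain [Infinite K] (hd : 0 < d) (ht : 1 ≤ t) (htr : t ≤ r) :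
    IsDomain (LW K d r t ht htr) := by
  haveI := AW_isDomain K d r t hd ht htr
  exact IsLocalization.isDomain_localization
    (powers_le_nonZeroDivisors_of_noZeroDivisors (xW_ne_zero K d r t hd ht htr))

theorem LW_normal [Infinite K] (hd : 0 < d) (hr : 0 < r) (ht : 1 ≤ t) (htr : t ≤ r) :
    IsIntegrallyClosed (LW K d r t ht htr) := by
  haveI := AW_isDomain K d r t hd ht htr
  haveI : IsIntegrallyClosed (AW K d r t ht htr) :=
    (Groth.Agent.H9.Nrm.normal K hd (by omega : d < d + r) _).2
  exact isIntegrallyClosed_of_isLocalization (LW K d r t ht htr)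
    (Submonoid.powers (xW K d r t ht htr))
    (powers_le_nonZeroDivisors_of_noZeroDivisors (xW_ne_zero K d r t hd ht htr))

theorem BT_isDomain [Infinite K] (hd : 0 < d) (ht : 1 ≤ t) (htr : t ≤ r) (htd : t ≤ d) :
    IsDomain (BT K d r t) := by
  haveI := LW_isDomain K d r t hd ht htr
  exact isDomain_of_retract (psiBar K d r t hd ht htr htd) (piL K d r t hd ht htr htd)
    (piL_psiBar K d r t hd ht htr htd)

theorem BT_normal [Infinite K] (hd : 0 < d) (hr : 0 < r) (ht : 1 ≤ t) (htr : t ≤ r)
    (htd : t ≤ d) : IsIntegrallyClosed (BT K d r t) := by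
  haveI := LW_isDomain K d r t hd ht htr
  haveI := LW_normal K d r t hd hr ht htr
  haveI := BT_isDomain K d r t hd ht htr htd
  exact isIntegrallyClosed_of_retract (psiBar K d r t hd ht htr htd) (piL K d r t hd ht htr htd)
    (piL_psiBar K d r t hd ht htr htd)

end Groth.Agent.H9.Det
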