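import Mathlib
import Groth.Prelude.Def_CAlgX
import Groth.Prelude.Def_W4bk4grassmannianPl
import Groth.Agent.Lib.Helper9.Misc.DetB
import Groth.Agent.Lib.Helper9.Misc.CmC
import Groth.Agent.Lib.Helper2.DimFG
import Groth.Agent.Lib.Helper6.Liai3

set_option autoImplicit false
set_option linter.unusedSectionVars false
set_option linter.unusedVariables false
set_option linter.style.haveILetI false

open W4bk4grassmannian MvPolynomial

namespace Groth.Agent.H9.Det

open Groth.Agent.H9.Bit

universe u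

theorem cancel_one (D : WithBot ℕ∞) (c : ℕ)
    (h : ((1 : ℕ∞) : WithBot ℕ∞) + D = ((c + 1 : ℕ) : WithBot ℕ∞)) : D = (c : WithBot ℕ∞) := by
  induction D using WithBot.recBotCoe with
  | bot =>
    exfalso
    rw [WithBot.add_bot] at h
    exact WithBot.natCast_ne_bot _ h.symm
  | coe e =>
    have h' : (((1 : ℕ∞) + e : ℕ∞) : WithBot ℕ∞) = (((c + 1 : ℕ) : ℕ∞) : WithBot ℕ∞) := by
      rw [WithBot.coe_add]; exact h
    have h'' : (1 : ℕ∞) + e = ((c + 1 : ℕ) : ℕ∞) := WithBot.coe_injective h'
    induction e using ENat.recTopCoe with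
    | top =>
      exfalso
      rw [add_top] at h''
      exact ENat.natCast_ne_top _ h''.symm
    | coe k =>
      have h3 : (1 + k : ℕ) = c + 1 := by exact_mod_cast h''
      have : k = c := by omega
      rw [this]
      rfl

variable (K : Type u) [Field K] (d r t : ℕ)

theorem codeg_wIdx (ht : 1 ≤ t) (htr : t ≤ r + 1) (htd : t ≤ d) :
    codeg (wIdx d r t ht htr) = (t - 1) * (r + d - t + 1) := by
  unfold codeg
  have h1 : ∀ j : Fin d, ((wIdx d r t ht htr).1 j).val - j.val =
      if j.val + t ≤ d then t - 1 else r := by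
    intro j
    unfold wIdx
    simp only
    by_cases h : j.val + t ≤ d
    · rw [dif_pos h, if_pos h]; simp only; omega
    · rw [dif_neg h, if_neg h]; simp only; omega
  rw [Finset.sum_congr rfl (fun j _ => h1 j)]
  rw [Finset.sum_ite, Finset.sum_const, Finset.sum_const, smul_eq_mul, smul_eq_mul]
  have c1 : (Finset.univ.filter fun j : Fin d => j.val + t ≤ d).card = d - t + 1 := by
    have : (Finset.univ.filter fun j : Fin d => j.val + t ≤ d) =
        Finset.Iic (⟨d - t, by omega⟩ : Fin d) := by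
      ext j
      simp only [Finset.mem_filter, Finset.mem_univ, true_and, Finset.mem_Iic, Fin.le_def]
      omega
    rw [this, Fin.card_Iic]
  have c2 : (Finset.univ.filter fun j : Fin d => ¬ j.val + t ≤ d).card = t - 1 := by
    have := Finset.card_filter_add_card_filter_not (s := (Finset.univ : Finset (Fin d)))
      (fun j : Fin d => j.val + t ≤ d)
    rw [c1, Finset.card_univ, Fintype.card_fin] at this
    omega
  rw [c1, c2]
  have : r + d - t + 1 = (d - t + 1) + r := by omega
  rw [this]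
  ring

theorem X_sub_one_not_mem {n : ℕ} (hd : 0 < d) (w θ : Idx d n) :
    (X θ - 1 : PlRing K d n) ∉ schubertVanishing K d n w := by
  intro h
  rw [Groth.Agent.H9.Shf.mem_schubertVanishing_iff] at h
  have h0 : ∀ a : Fin d → Fin n, ((0 : Matrix (Fin n) (Fin d) K).submatrix a id).det = 0 := by
    intro a
    haveI : Nonempty (Fin d) := ⟨⟨0, hd⟩⟩
    have : (0 : Matrix (Fin n) (Fin d) K).submatrix a id = 0 := rfl
    rw [this]
    exact Matrix.det_zero
  have h1 := h 0 (fun φ _ => h0 φ.1)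
  rw [map_sub, Groth.Agent.H9.Shf.evalMinors_X, h0, map_one] at h1
  simp at h1

theorem fW_ne_zero (hd : 0 < d) (ht : 1 ≤ t) (htr : t ≤ r) : xW K d r t ht htr - 1 ≠ 0 := by
  unfold xW
  rw [← map_one (Ideal.Quotient.mk (JW K d r t ht htr)), ← map_sub, Ne,
    Ideal.Quotient.eq_zero_iff_mem]
  exact X_sub_one_not_mem K d hd _ _

/-- the dehomogenisation `A/(x - 1)` -/
noncomputable abbrev AQ (ht : 1 ≤ t) (htr : t ≤ r) : Type u :=
  AW K d r t ht htr ⧸ Ideal.span {xW K d r t ht htr - 1}

noncomputable def qA (ht : 1 ≤ t) (htr : t ≤ r) : AW K d r t ht htr →+* AQ K d r t ht htr :=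
  Ideal.Quotient.mk _

theorem qA_x (ht : 1 ≤ t) (htr : t ≤ r) : qA K d r t ht htr (xW K d r t ht htr) = 1 := by
  have h : qA K d r t ht htr (xW K d r t ht htr - 1) = 0 := by
    unfold qA
    rw [Ideal.Quotient.eq_zero_iff_mem]
    exact Ideal.mem_span_singleton_self _
  rw [map_sub, map_one, sub_eq_zero] at h
  exact h

theorem qA_unit (ht : 1 ≤ t) (htr : t ≤ r) :
    IsUnit (qA K d r t ht htr (xW K d r t ht htr)) := by
  rw [qA_x]; exact isUnit_one

noncomputable def qL (ht : 1 ≤ t) (htr : t ≤ r) : LW K d r t ht htr →+* AQ K d r t ht htr :=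
  IsLocalization.Away.lift (S := LW K d r t ht htr) (P := AQ K d r t ht htr) (xW K d r t ht htr)
    (g := qA K d r t ht htr) (qA_unit K d r t ht htr)

theorem qL_alg (ht : 1 ≤ t) (htr : t ≤ r) (a : AW K d r t ht htr) :
    qL K d r t ht htr (algebraMap (AW K d r t ht htr) (LW K d r t ht htr) a) =
      qA K d r t ht htr a :=
  IsLocalization.Away.lift_eq (S := LW K d r t ht htr) (P := AQ K d r t ht htr)
    (xW K d r t ht htr) (qA_unit K d r t ht htr) a

theorem qL_inv (ht : 1 ≤ t) (htr : t ≤ r) :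
    qL K d r t ht htr
      (IsLocalization.Away.invSelf (S := LW K d r t ht htr) (xW K d r t ht htr)) = 1 := by
  have h := congrArg (qL K d r t ht htr)
    (IsLocalization.Away.mul_invSelf (S := LW K d r t ht htr) (xW K d r t ht htr))
  rw [map_mul, qL_alg, qA_x] at h
  exact (one_mul _).symm.trans (h.trans (map_one _))

noncomputable def cbar [Infinite K] (hd : 0 < d) (ht : 1 ≤ t) (htr : t ≤ r) (htd : t ≤ d) :
    AQ K d r t ht htr →+* BT K d r t :=
  Ideal.Quotient.lift _ (cmA K d r t hd ht htr htd) (by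
    intro a ha
    rw [Ideal.mem_span_singleton] at ha
    obtain ⟨c, rfl⟩ := ha
    rw [map_mul, map_sub, cmA_x, map_one, sub_self, zero_mul])

theorem cbar_qA [Infinite K] (hd : 0 < d) (ht : 1 ≤ t) (htr : t ≤ r) (htd : t ≤ d)
    (a : AW K d r t ht htr) :
    cbar K d r t hd ht htr htd (qA K d r t ht htr a) = cmA K d r t hd ht htr htd a := rfl

noncomputable def sig (hd : 0 < d) (ht : 1 ≤ t) (htr : t ≤ r) (htd : t ≤ d) :
    BT K d r t →+* AQ K d r t ht htr :=
  (qL K d r t ht htr).comp (psiBar K d r t hd ht htr htd)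

theorem cbar_qL [Infinite K] (hd : 0 < d) (ht : 1 ≤ t) (htr : t ≤ r) (htd : t ≤ d)
    (l : LW K d r t ht htr) :
    cbar K d r t hd ht htr htd (qL K d r t ht htr l) = piL K d r t hd ht htr htd l := by
  have e : (cbar K d r t hd ht htr htd).comp (qL K d r t ht htr) = piL K d r t hd ht htr htd := by
    apply IsLocalization.ringHom_ext (Submonoid.powers (xW K d r t ht htr))
    refine RingHom.ext fun a => ?_
    show cbar K d r t hd ht htr htd (qL K d r t ht htr (algebraMap _ _ a)) =
      piL K d r t hd ht htr htd (algebraMap _ _ a)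
    rw [qL_alg, piL_alg, cbar_qA]
  exact RingHom.congr_fun e l

theorem cbar_sig [Infinite K] (hd : 0 < d) (ht : 1 ≤ t) (htr : t ≤ r) (htd : t ≤ d) :
    (cbar K d r t hd ht htr htd).comp (sig K d r t hd ht htr htd) = RingHom.id (BT K d r t) := by
  refine RingHom.ext fun b => ?_
  show cbar K d r t hd ht htr htd (qL K d r t ht htr (psiBar K d r t hd ht htr htd b)) = b
  rw [cbar_qL, piL_psiBar]

theorem sig_cbar [Infinite K] (hd : 0 < d) (ht : 1 ≤ t) (htr : t ≤ r) (htd : t ≤ d) :
    (sig K d r t hd ht htr htd).comp (cbar K d r t hd ht htr htd) =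
      RingHom.id (AQ K d r t ht htr) := by
  apply Ideal.Quotient.ringHom_ext
  apply Ideal.Quotient.ringHom_ext
  apply MvPolynomial.ringHom_ext
  · intro a
    show qL K d r t ht htr (psiBar K d r t hd ht htr htd
      (cmA K d r t hd ht htr htd (Ideal.Quotient.mk _ (C a)))) =
      qA K d r t ht htr (Ideal.Quotient.mk _ (C a))
    rw [cmA_mk]
    have hc : cm K r d (C a) = C a := (cm K r d).commutes a
    rw [hc, psiBar_mk, psiGen_C]
    show qL K d r t ht htr (algebraMap (AW K d r t ht htr) (LW K d r t ht htr)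
      (Ideal.Quotient.mk _ (C a))) = _
    rw [qL_alg]
  · intro θ
    show qL K d r t ht htr (psiBar K d r t hd ht htr htd
      (cmA K d r t hd ht htr htd (Ideal.Quotient.mk _ (X θ)))) =
      qA K d r t ht htr (Ideal.Quotient.mk _ (X θ))
    rw [cmA_mk, psiBar_mk, psiGen_cm_X K d r hd _ _ (phiL_vanishing K d r t ht htr)
      (phiL_unit K d r t ht htr) θ, map_mul, qL_inv]
    refine (mul_one (qL K d r t ht htr (phiL K d r t ht htr (X θ)))).trans ?_
    show qL K d r t ht htr (algebraMap (AW K d r t ht htr) (LW K d r t ht htr)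
      (Ideal.Quotient.mk _ (X θ))) = _
    rw [qL_alg]

noncomputable def equivAB [Infinite K] (hd : 0 < d) (ht : 1 ≤ t) (htr : t ≤ r) (htd : t ≤ d) :
    AQ K d r t ht htr ≃+* BT K d r t :=
  RingEquiv.ofRingHom (cbar K d r t hd ht htr htd) (sig K d r t hd ht htr htd)
    (cbar_sig K d r t hd ht htr htd) (sig_cbar K d r t hd ht htr htd)

theorem BT_cm [Infinite K] (hd : 0 < d) (hr : 0 < r) (ht : 1 ≤ t) (htr : t ≤ r) (htd : t ≤ d) :
    LocCoh.IsCohenMacaulayRing (BT K d r t) := by
  haveI := AW_isDomain K d r t hd ht htr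
  haveI : LocCoh.IsCohenMacaulayRing (AW K d r t ht htr) :=
    Groth.Agent.H9.SchCM.schubert_cm K hd (by omega : d < d + r) _
  have hreg : IsSMulRegular (AW K d r t ht htr) (xW K d r t ht htr - 1) := by
    rw [isSMulRegular_iff_right_eq_zero_of_smul]
    intro y hy
    rw [smul_eq_mul] at hy
    exact (mul_eq_zero.1 hy).resolve_left (fW_ne_zero K d r t hd ht htr)
  haveI := Groth.Agent.H6.Liai.cm_quot_of_regular (xW K d r t ht htr - 1) hreg
  exact Groth.Agent.H6.Liai.cm_of_ringEquiv (A := AQ K d r t ht htr) (equivAB K d r t hd ht htr htd)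

theorem BT_dim [Infinite K] (hd : 0 < d) (hr : 0 < r) (ht : 1 ≤ t) (htr : t ≤ r) (htd : t ≤ d) :
    ringKrullDim (BT K d r t) = (((t - 1) * (r + d - t + 1) : ℕ) : WithBot ℕ∞) := by
  haveI := AW_isDomain K d r t hd ht htr
  haveI hBd := BT_isDomain K d r t hd ht htr htd
  haveI hQd : IsDomain (AQ K d r t ht htr) :=
    Function.Injective.isDomain (equivAB K d r t hd ht htr htd).toRingHom
      (equivAB K d r t hd ht htr htd).injective
  haveI hp : (Ideal.span {xW K d r t ht htr - 1} : Ideal (AW K d r t ht htr)).IsPrime :=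
    (Ideal.Quotient.isDomain_iff_prime _).1 hQd
  have hdimA := Groth.Agent.H9.Nrm.krullDim (K := K) hd (by omega : d < d + r)
    (wIdx d r t ht (Nat.le_succ_of_le htr))
  have hnu : ¬ IsUnit (xW K d r t ht htr - 1) := by
    intro hu
    exact hp.ne_top (Ideal.span_singleton_eq_top.2 hu)
  have hht : (Ideal.span {xW K d r t ht htr - 1} : Ideal (AW K d r t ht htr)).height = 1 :=
    Ideal.height_span_singleton_eq_one_of_mem_nonZeroDivisors
      (mem_nonZeroDivisors_of_ne_zero (fW_ne_zero K d r t hd ht htr)) hnu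
  have h := Groth.Agent.H2.DimFG.height_add_ringKrullDim_quotient K (AW K d r t ht htr)
    (Ideal.span {xW K d r t ht htr - 1})
  rw [hht, hdimA, ringKrullDim_eq_of_ringEquiv (equivAB K d r t hd ht htr htd)] at h
  rw [cancel_one _ _ h, codeg_wIdx d r t ht (Nat.le_succ_of_le htr) htd]

theorem main [Infinite K] (m n t : ℕ) (hm : 0 < m) (hn : 0 < n) (ht : 1 ≤ t) (htm : t ≤ m)
    (htn : t ≤ n) :
    IsDomain (MvPolynomial (Fin m × Fin n) K ⧸ CAlgX.minorIdeal (genMatrix K m n) t) ∧
      IsIntegrallyClosed (MvPolynomial (Fin m × Fin n) K ⧸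
        CAlgX.minorIdeal (genMatrix K m n) t) ∧
      LocCoh.IsCohenMacaulayRing (MvPolynomial (Fin m × Fin n) K ⧸
        CAlgX.minorIdeal (genMatrix K m n) t) ∧
      ringKrullDim (MvPolynomial (Fin m × Fin n) K ⧸ CAlgX.minorIdeal (genMatrix K m n) t) =
        (((t - 1) * (m + n - t + 1) : ℕ) : WithBot ℕ∞) :=
  ⟨BT_isDomain K n m t hn ht htm htn, BT_normal K n m t hn hm ht htm htn,
    BT_cm K n m t hn hm ht htm htn, BT_dim K n m t hn hm ht htm htn⟩

end Groth.Agent.H9.Det
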