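import Mathlib
import Groth.Agent.Lib.Helper9.Misc.HeightOne

/-! Helper9: locally closed points in locally Noetherian schemes. -/

namespace Groth.Agent.H9.LCPoint

open AlgebraicGeometry TopologicalSpace

universe u

lemma alg_key {A : Type*} [CommRing A] [IsNoetherianRing A] (p q r : PrimeSpectrum A)
    (hp : IsLocallyClosed ({p} : Set (PrimeSpectrum A))) (hpq : p ⤳ q) (hqr : q ⤳ r)
    (hne : q ≠ p) : r = q := by
  obtain ⟨O, C, hO, hC, hEq⟩ := hp
  have hpOC : p ∈ O ∩ C := hEq ▸ Set.mem_singleton p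
  obtain ⟨_, ⟨f, rfl⟩, hpf, hfO⟩ :=
    PrimeSpectrum.isTopologicalBasis_basic_opens.exists_subset_of_mem_open hpOC.1 hO
  have hfb : Ideal.Quotient.mk p.asIdeal f ≠ 0 := by
    rw [Ne, Ideal.Quotient.eq_zero_iff_mem]; exact hpf
  have H : ∀ I : Ideal (A ⧸ p.asIdeal), I.IsPrime → I ≠ ⊥ → Ideal.Quotient.mk p.asIdeal f ∈ I := by
    intro I hI hI0
    by_contra hfI
    let s : PrimeSpectrum A := ⟨I.comap (Ideal.Quotient.mk p.asIdeal), Ideal.comap_isPrime _ _⟩
    have hps : p ≤ s := by
      intro x hx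
      show Ideal.Quotient.mk p.asIdeal x ∈ I
      rw [Ideal.Quotient.eq_zero_iff_mem.2 hx]
      exact I.zero_mem
    have hsC : s ∈ C := ((PrimeSpectrum.le_iff_specializes _ _).1 hps).mem_closed hC hpOC.2
    have hsO : s ∈ O := hfO (show f ∉ s.asIdeal from hfI)
    have hsp : s = p := by
      have : s ∈ ({p} : Set (PrimeSpectrum A)) := hEq ▸ ⟨hsO, hsC⟩
      exact this
    apply hI0
    rw [eq_bot_iff]
    intro x hx
    obtain ⟨a, rfl⟩ := Ideal.Quotient.mk_surjective x
    have : a ∈ s.asIdeal := hx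
    rw [hsp] at this
    exact (Ideal.mem_bot).2 (Ideal.Quotient.eq_zero_iff_mem.2 this)
  have hpq' : p.asIdeal ≤ q.asIdeal := (PrimeSpectrum.le_iff_specializes _ _).2 hpq
  have hqr' : q.asIdeal ≤ r.asIdeal := (PrimeSpectrum.le_iff_specializes _ _).2 hqr
  let I := q.asIdeal.map (Ideal.Quotient.mk p.asIdeal)
  have hker : RingHom.ker (Ideal.Quotient.mk p.asIdeal) ≤ q.asIdeal := by
    rw [Ideal.mk_ker]; exact hpq'
  have hI : I.IsPrime := Ideal.map_isPrime_of_surjective Ideal.Quotient.mk_surjective hker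
  have hcomap : I.comap (Ideal.Quotient.mk p.asIdeal) = q.asIdeal :=
    Ideal.comap_map_of_surjective' _ Ideal.Quotient.mk_surjective _ |>.trans
      (by rw [Ideal.mk_ker]; exact sup_eq_left.2 hpq')
  have hI0 : I ≠ ⊥ := by
    intro h0
    apply hne
    apply PrimeSpectrum.ext
    rw [← hcomap, h0, ← RingHom.ker_eq_comap_bot, Ideal.mk_ker]
  have hmax : I.IsMaximal := HeightOne.isMaximal_of_forall_mem hfb H I hI0
  have hqmax : q.asIdeal.IsMaximal := hcomap ▸ Ideal.comap_isMaximal_of_surjective _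
    Ideal.Quotient.mk_surjective
  exact PrimeSpectrum.ext (hqmax.eq_of_le r.2.ne_top hqr').symm

lemma spec_eq {X : Scheme.{u}} [IsLocallyNoetherian X] (x y z : X)
    (hx : IsLocallyClosed ({x} : Set X)) (hxy : x ⤳ y) (hyz : y ⤳ z) (hne : y ≠ x) : z = y := by
  obtain ⟨U, hU, hzU, -⟩ := exists_isAffineOpen_mem_and_subset (x := z) (U := ⊤) trivial
  have hyU : y ∈ U := hyz.mem_open U.isOpen hzU
  have hxU : x ∈ U := hxy.mem_open U.isOpen hyU
  have : IsNoetherianRing Γ(X, U) := IsLocallyNoetherian.component_noetherian ⟨U, hU⟩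
  have hrange : Set.range hU.fromSpec = U := hU.range_fromSpec
  obtain ⟨p, rfl⟩ : x ∈ Set.range hU.fromSpec := hrange ▸ hxU
  obtain ⟨q, rfl⟩ : y ∈ Set.range hU.fromSpec := hrange ▸ hyU
  obtain ⟨r, rfl⟩ : z ∈ Set.range hU.fromSpec := hrange ▸ hzU
  have hemb : Topology.IsOpenEmbedding hU.fromSpec := hU.fromSpec.isOpenEmbedding
  have hp : IsLocallyClosed ({p} : Set (PrimeSpectrum Γ(X, U))) := by
    have := hx.preimage hU.fromSpec.continuous
    rwa [← Set.image_singleton, hemb.injective.preimage_image] at this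
  have hpq : p ⤳ q := hemb.isInducing.specializes_iff.1 hxy
  have hqr : q ⤳ r := hemb.isInducing.specializes_iff.1 hyz
  have hne' : q ≠ p := fun h => hne (by rw [h])
  rw [alg_key p q r hp hpq hqr hne']

theorem isClosed_of_mem_closure {X : Scheme.{u}} [IsLocallyNoetherian X] (x : X)
    (hx : IsLocallyClosed ({x} : Set X)) (y : X) (hy : y ∈ closure ({x} : Set X)) (hne : y ≠ x) :
    IsClosed ({y} : Set X) := by
  rw [← closure_subset_iff_isClosed]
  intro z hz
  exact spec_eq x y z hx (specializes_iff_mem_closure.2 hy) (specializes_iff_mem_closure.2 hz) hne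

theorem dim_le_one {X : Scheme.{u}} [IsLocallyNoetherian X] (x : X)
    (hx : IsLocallyClosed ({x} : Set X)) :
    topologicalKrullDim (closure ({x} : Set X)) ≤ 1 := by
  have hqs : QuasiSober ↥(closure ({x} : Set X)) :=
    isClosed_closure.isClosedEmbedding_subtypeVal.quasiSober
  rw [topologicalKrullDim, Order.krullDim_le_one_iff]
  intro Z
  have hgen := Z.isIrreducible'.isGenericPoint_genericPoint Z.isClosed'
  set z := Z.isIrreducible'.genericPoint with hz
  by_cases hzx : (z : X) = x
  · right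
    intro Z' _ t _
    have h1 : z ⤳ t := by
      rw [subtype_specializes_iff, hzx]
      exact specializes_iff_mem_closure.2 t.2
    have : t ∈ closure ({z} : Set ↥(closure ({x} : Set X))) := specializes_iff_mem_closure.1 h1
    rw [hgen.def] at this
    exact this
  · left
    intro Z' hZ'
    have hcl : IsClosed ({(z : X)} : Set X) := isClosed_of_mem_closure x hx z z.2 hzx
    have hcl' : IsClosed ({z} : Set ↥(closure ({x} : Set X))) := by
      have := hcl.preimage continuous_subtype_val (X := ↥(closure ({x} : Set X)))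
      rwa [← Set.image_singleton, Subtype.val_injective.preimage_image] at this
    have hZeq : Z.carrier = {z} := by
      rw [← hgen.def, hcl'.closure_eq]
    intro t ht
    obtain ⟨t', ht'⟩ := Z'.isIrreducible'.nonempty
    have h1 : t' ∈ Z.carrier := hZ' ht'
    have ht2 : t ∈ Z.carrier := ht
    rw [hZeq] at h1 ht2
    rw [Set.mem_singleton_iff] at h1 ht2
    rw [ht2, ← h1]
    exact ht'

end Groth.Agent.H9.LCPoint
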