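import Mathlib
import Groth.Agent.Lib.Helper9.Misc.LCPoint

/-! Helper9: closed points exist in closed subsets of locally Noetherian schemes. -/

namespace Groth.Agent.H9.ClosedPt

open AlgebraicGeometry TopologicalSpace

universe u

/-- In a scheme, every nonempty closed subset contains a point `x` with `{x}` locally closed
(in fact closed in an affine open). -/
lemma exists_locallyClosed_point {X : Scheme.{u}} (Z : Set X) (hZ : IsClosed Z) (hne : Z.Nonempty) :
    ∃ x ∈ Z, IsLocallyClosed ({x} : Set X) := by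
  obtain ⟨z, hz⟩ := hne
  obtain ⟨U, hU, hzU, -⟩ := exists_isAffineOpen_mem_and_subset (x := z) (U := ⊤) trivial
  have : CompactSpace ↥U := isCompact_iff_compactSpace.1 hU.isCompact
  have hS : IsClosed (Subtype.val ⁻¹' Z : Set ↥U) := hZ.preimage continuous_subtype_val
  obtain ⟨x', hx'S, hx'⟩ := hS.exists_closed_singleton ⟨⟨z, hzU⟩, hz⟩
  obtain ⟨C, hC, hCeq⟩ := isClosed_induced_iff.1 hx'
  refine ⟨x'.1, hx'S, ⟨U, C, U.isOpen, hC, ?_⟩⟩
  ext t
  constructor
  · intro ht
    rw [Set.mem_singleton_iff] at ht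
    subst ht
    refine ⟨x'.2, ?_⟩
    have : x' ∈ Subtype.val ⁻¹' C := hCeq ▸ Set.mem_singleton x'
    exact this
  · rintro ⟨htU, htC⟩
    have : (⟨t, htU⟩ : ↥U) ∈ Subtype.val ⁻¹' C := htC
    rw [hCeq] at this
    exact congrArg Subtype.val (Set.mem_singleton_iff.1 this)

theorem main {X : Scheme.{u}} [IsLocallyNoetherian X] (Z : Set X) (hZ : IsClosed Z)
    (hne : Z.Nonempty) : ∃ x ∈ Z, IsClosed ({x} : Set X) := by
  obtain ⟨x, hxZ, hx⟩ := exists_locallyClosed_point Z hZ hne
  by_cases h : closure ({x} : Set X) = {x}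
  · exact ⟨x, hxZ, closure_eq_iff_isClosed.1 h⟩
  · have : ∃ y ∈ closure ({x} : Set X), y ≠ x := by
      by_contra hcon
      push Not at hcon
      apply h
      exact Set.Subset.antisymm (fun y hy => Set.mem_singleton_iff.2 (hcon y hy)) subset_closure
    obtain ⟨y, hy, hyx⟩ := this
    refine ⟨y, ?_, LCPoint.isClosed_of_mem_closure x hx y hy hyx⟩
    exact (closure_minimal (Set.singleton_subset_iff.2 hxZ) hZ) hy

end Groth.Agent.H9.ClosedPt
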