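import Mathlib
import Groth.Agent.Lib.Helper9.Misc.BLA12

/-! Helper9: blow-ups — properness for locally finitely generated centres. -/

set_option linter.style.haveILetI false
set_option linter.unusedSectionVars false
set_option linter.unusedVariables false

universe u
open CategoryTheory Limits AlgebraicGeometry TopologicalSpace Opposite

namespace Groth.Agent.H9.BLA

section Props
variable {X X' : Scheme.{u}} {𝓘 : X.IdealSheafData} {b : X' ⟶ X}

/-- **a blow-up in an ideal sheaf which is locally of finite type is proper.** -/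
theorem IsBlowUp.isProper_of_locally_fg (hb : BlowUp.IsBlowUp b 𝓘)
    (h𝓘 : ∀ x : X, ∃ U : X.affineOpens, x ∈ U.1 ∧ (𝓘.ideal U).FG) : IsProper b := by
  choose U hxU hfg using h𝓘
  refine IsZariskiLocalAtTarget.of_iSup_eq_top (P := @IsProper)
    (fun x : X => (U x).1) ?_ ?_
  · rw [eq_top_iff]
    intro x _
    exact Opens.mem_iSup.mpr ⟨x, hxU x⟩
  intro x
  haveI : IsAffine ((U x).1 : Scheme.{u}) := (U x).2
  obtain ⟨e, he⟩ := exists_iso_of_isBlowUp (IsBlowUp.restrict hb (U x).1)
    (isBlowUp_affineModel ((U x).1 : Scheme.{u}) (𝓘.comap (U x).1.ι))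
  rw [← he]
  have hfg' : ((𝓘.comap (U x).1.ι).ideal ⟨⊤, isAffineOpen_top _⟩).FG := by
    rw [Groth.Agent.LD.QC.ideal_comap_of_le 𝓘 (U x).1.ι (U x) ⟨⊤, isAffineOpen_top _⟩
      (by intro z _; exact z.2)]
    exact (hfg x).map _
  haveI := isProper_blMap _ hfg'
  infer_instance

end Props

end Groth.Agent.H9.BLA
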