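import Mathlib
import Groth.Agent.Lib.Helper1.ClosureDim
import Groth.Agent.Lib.Helper1.ClosedDim

set_option autoImplicit false
set_option linter.style.haveILetI false
set_option linter.unusedSectionVars false
set_option linter.unusedVariables false

universe u

open CategoryTheory AlgebraicGeometry TopologicalSpace Topology

namespace Groth.Agent.H9.GOP

open Groth.Agent.H1.DimFormula

theorem exists_algEquiv_comp (k F K : Type*) [Field k] [Field F] [Field K] [Algebra k F]
    [Algebra k K] [Normal k K] (φ ψ : F →ₐ[k] K) :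
    ∃ σ : K ≃ₐ[k] K, ∀ a, σ (φ a) = ψ a := by
  letI : Algebra F K := φ.toRingHom.toAlgebra
  haveI : IsScalarTower k F K := IsScalarTower.of_algebraMap_eq (fun c => (φ.commutes c).symm)
  refine ⟨AlgEquiv.ofBijective (ψ.liftNormal K) (AlgHom.normal_bijective k K K _), fun a => ?_⟩
  exact ψ.liftNormal_commutes K a

variable (k K : Type u) [Field k] [Field K] [Algebra k K] {X : Scheme.{u}}
  (f : X ⟶ Spec (CommRingCat.of k))

/-- factorization of a `K`-point over `k` through the residue field of its image. -/
theorem exists_factor (p : Spec (CommRingCat.of K) ⟶ X)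
    (hp : p ≫ f = Spec.map (CommRingCat.ofHom (algebraMap k K))) :
    ∃ φ : X.residueField (p (IsLocalRing.closedPoint K)) ⟶ CommRingCat.of K,
      Spec.map φ ≫ X.fromSpecResidueField _ = p ∧
      toResidueField f _ ≫ φ = CommRingCat.ofHom (algebraMap k K) := by
  refine ⟨Scheme.descResidueField (Scheme.stalkClosedPointTo p),
    Scheme.descResidueField_stalkClosedPointTo_fromSpecResidueField K X p, ?_⟩
  apply Spec.map_injective
  rw [Spec.map_comp, SpecMap_toResidueField, ← Category.assoc,
    Scheme.descResidueField_stalkClosedPointTo_fromSpecResidueField, hp]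

theorem isAlgebraic_of_hom [Algebra.IsAlgebraic k K] (x : X)
    (φ : X.residueField x ⟶ CommRingCat.of K)
    (hφ : toResidueField f x ≫ φ = CommRingCat.ofHom (algebraMap k K)) :
    @Algebra.IsAlgebraic k (X.residueField x) _ _ (toResidueField f x).hom.toAlgebra := by
  letI : Algebra k (X.residueField x) := (toResidueField f x).hom.toAlgebra
  let g : X.residueField x →ₐ[k] K :=
    { φ.hom with
      commutes' := fun c => by
        change φ.hom ((toResidueField f x).hom c) = algebraMap k K c
        rw [← CommRingCat.comp_apply, hφ]; rfl }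
  exact Algebra.IsAlgebraic.of_injective g φ.hom.injective

theorem isClosed_of_isAlgebraic [LocallyOfFiniteType f] (x : X)
    (h : @Algebra.IsAlgebraic k (X.residueField x) _ _ (toResidueField f x).hom.toAlgebra) :
    IsClosed ({x} : Set X) := by
  obtain ⟨t, ht1, ht2⟩ := Groth.Agent.H1.ClosureDim.exists_trdeg_eq_dim_closure f x
  have ht0 : t = 0 := by
    letI := (toResidueField f x).hom.toAlgebra
    have h0 : Algebra.trdeg k (X.residueField x) = 0 := trdeg_eq_zero
    rw [h0] at ht1
    exact_mod_cast ht1.symm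
  rw [← closure_eq_iff_isClosed]
  apply Set.Subset.antisymm _ subset_closure
  intro y hy
  by_contra hne
  have hne' : closure ({y} : Set X) ≠ closure ({x} : Set X) := fun h' =>
    hne ((inseparable_iff_closure_eq.mpr h').eq)
  have hlt := Groth.Agent.H1.ClosedDim.dim_closure_lt_of_ne f isIrreducible_singleton.closure
    isClosed_closure y hy hne'
  obtain ⟨s, -, hs⟩ := Groth.Agent.H1.ClosureDim.exists_trdeg_eq_dim_closure f y
  rw [hs, ht2, ht0] at hlt
  have : ((s : ℕ) : WithBot ℕ∞) < ((0 : ℕ) : WithBot ℕ∞) := hlt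
  have h2 : s < 0 := by exact_mod_cast this
  exact absurd h2 (Nat.not_lt_zero s)

theorem exists_point_of_isClosed [IsAlgClosure k K] [LocallyOfFiniteType f] (x : X)
    (hx : IsClosed ({x} : Set X)) :
    ∃ p : Spec (CommRingCat.of K) ⟶ X,
      p ≫ f = Spec.map (CommRingCat.ofHom (algebraMap k K)) ∧
        p (IsLocalRing.closedPoint K) = x := by
  haveI := isClosed_singleton_iff_isClosedImmersion.mp hx
  haveI : IsFinite (X.fromSpecResidueField x ≫ f) :=
    (isFinite_iff_locallyOfFiniteType_of_jacobsonSpace
      (f := X.fromSpecResidueField x ≫ f)).mpr inferInstance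
  have hfin : (toResidueField f x).hom.Finite := by
    have : IsFinite (Spec.map (toResidueField f x)) := by
      rw [SpecMap_toResidueField]; infer_instance
    exact (IsFinite.SpecMap_iff _).mp this
  letI : Algebra k (X.residueField x) := (toResidueField f x).hom.toAlgebra
  haveI : Module.Finite k (X.residueField x) := hfin
  haveI : Algebra.IsAlgebraic k (X.residueField x) := Algebra.IsAlgebraic.of_finite _ _
  haveI : IsAlgClosed K := IsAlgClosure.isAlgClosed k
  let g : X.residueField x →ₐ[k] K := IsAlgClosed.lift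
  refine ⟨Spec.map (CommRingCat.ofHom g.toRingHom) ≫ X.fromSpecResidueField x, ?_, ?_⟩
  · rw [Category.assoc, ← SpecMap_toResidueField, ← Spec.map_comp]
    congr 1
    ext c
    exact g.commutes c
  · exact Scheme.fromSpecResidueField_apply x _

theorem exists_aut [IsAlgClosure k K] (p q : Spec (CommRingCat.of K) ⟶ X)
    (hp : p ≫ f = Spec.map (CommRingCat.ofHom (algebraMap k K)))
    (hq : q ≫ f = Spec.map (CommRingCat.ofHom (algebraMap k K)))
    (hpq : p (IsLocalRing.closedPoint K) = q (IsLocalRing.closedPoint K)) :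
    ∃ σ : K ≃ₐ[k] K, q = Spec.map (CommRingCat.ofHom σ.toRingHom) ≫ p := by
  obtain ⟨φ, hφ1, hφ2⟩ := exists_factor k K f p hp
  obtain ⟨ψ', hψ1', hψ2'⟩ := exists_factor k K f q hq
  obtain ⟨x, hx⟩ : ∃ x : X, x = p (IsLocalRing.closedPoint K) := ⟨_, rfl⟩
  let ψ : X.residueField (p (IsLocalRing.closedPoint K)) ⟶ CommRingCat.of K :=
    (X.residueFieldCongr hpq).hom ≫ ψ'
  have hψ1 : Spec.map ψ ≫ X.fromSpecResidueField _ = q := by
    rw [Spec.map_comp, Category.assoc, Scheme.residueFieldCongr_fromSpecResidueField, hψ1']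
  have hψ2 : toResidueField f _ ≫ ψ = CommRingCat.ofHom (algebraMap k K) := by
    apply Spec.map_injective
    rw [Spec.map_comp, SpecMap_toResidueField, ← Category.assoc, hψ1, hq]
  letI : Algebra k (X.residueField (p (IsLocalRing.closedPoint K))) :=
    (toResidueField f _).hom.toAlgebra
  let φa : X.residueField (p (IsLocalRing.closedPoint K)) →ₐ[k] K :=
    { φ.hom with
      commutes' := fun c => by
        change φ.hom ((toResidueField f _).hom c) = algebraMap k K c
        rw [← CommRingCat.comp_apply, hφ2]; rfl }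
  let ψa : X.residueField (p (IsLocalRing.closedPoint K)) →ₐ[k] K :=
    { ψ.hom with
      commutes' := fun c => by
        change ψ.hom ((toResidueField f _).hom c) = algebraMap k K c
        rw [← CommRingCat.comp_apply, hψ2]; rfl }
  obtain ⟨σ, hσ⟩ := exists_algEquiv_comp k _ K φa ψa
  refine ⟨σ, ?_⟩
  calc q = Spec.map ψ ≫ X.fromSpecResidueField _ := hψ1.symm
    _ = Spec.map (CommRingCat.ofHom σ.toRingHom) ≫ Spec.map φ ≫ X.fromSpecResidueField _ := by
        rw [← Category.assoc, ← Spec.map_comp]
        congr 2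
        ext a
        exact (hσ a).symm
    _ = Spec.map (CommRingCat.ofHom σ.toRingHom) ≫ p := by rw [hφ1]

theorem main [IsAlgClosure k K] [LocallyOfFiniteType f] :
    (∀ x : X, IsClosed ({x} : Set X) ↔
        ∃ p : Spec (CommRingCat.of K) ⟶ X, p ≫ f = Spec.map (CommRingCat.ofHom (algebraMap k K)) ∧
          p.base (IsLocalRing.closedPoint K) = x) ∧
      ∀ p q : Spec (CommRingCat.of K) ⟶ X,
        p ≫ f = Spec.map (CommRingCat.ofHom (algebraMap k K)) →
        q ≫ f = Spec.map (CommRingCat.ofHom (algebraMap k K)) →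
          (p.base (IsLocalRing.closedPoint K) = q.base (IsLocalRing.closedPoint K) ↔
            ∃ σ : K ≃ₐ[k] K, q = Spec.map (CommRingCat.ofHom σ.toRingHom) ≫ p) := by
  refine ⟨fun x => ⟨exists_point_of_isClosed k K f x, ?_⟩, fun p q hp hq => ⟨?_, ?_⟩⟩
  · rintro ⟨p, hp, rfl⟩
    obtain ⟨φ, hφ1, hφ2⟩ := exists_factor k K f p hp
    exact isClosed_of_isAlgebraic k f _ (isAlgebraic_of_hom k K f _ φ hφ2)
  · exact exists_aut k K f p q hp hq
  · rintro ⟨σ, rfl⟩
    have : (Spec.map (CommRingCat.ofHom σ.toRingHom)) (IsLocalRing.closedPoint K) =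
        IsLocalRing.closedPoint K := Subsingleton.elim _ _
    change p.base _ = p.base ((Spec.map (CommRingCat.ofHom σ.toRingHom)) _)
    rw [this]

end Groth.Agent.H9.GOP
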