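import Mathlib
import Groth.Prelude.Def_CAlg
import Groth.Prelude.Def_CInt

set_option autoImplicit false
set_option linter.style.haveILetI false
set_option linter.unusedSectionVars false
set_option linter.unusedVariables false

universe u

open CategoryTheory CategoryTheory.Limits AlgebraicGeometry TopologicalSpace Topology Opposite

namespace Groth.Agent.H9.SDD

/-- a minimal prime of a noetherian ring lies in every dense open of the spectrum. -/
theorem minimal_mem_dense_open (A : Type*) [CommRing A] [IsNoetherianRing A]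
    (p : PrimeSpectrum A) (hp : p.asIdeal ∈ minimalPrimes A)
    (D : Set (PrimeSpectrum A)) (hDo : IsOpen D) (hD : Dense D) : p ∈ D := by
  classical
  have hfin : (minimalPrimes A).Finite := minimalPrimes.finite_of_isNoetherianRing A
  let T : Finset (Ideal A) := hfin.toFinset.erase p.asIdeal
  let q : Ideal A := T.inf id
  have hqp : ¬ q ≤ p.asIdeal := by
    intro hle
    obtain ⟨p', hp'T, hp'le⟩ := (Ideal.IsPrime.inf_le' p.isPrime).mp hle
    have hp'min : p' ∈ minimalPrimes A := hfin.mem_toFinset.mp (Finset.mem_of_mem_erase hp'T)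
    have hne : p' ≠ p.asIdeal := Finset.ne_of_mem_erase hp'T
    apply hne
    have hle2 : p.asIdeal ≤ p' := hp.2 ⟨hp'min.1.1, bot_le⟩ hp'le
    exact le_antisymm hp'le hle2
  have hOopen : IsOpen (PrimeSpectrum.zeroLocus (q : Set A))ᶜ :=
    (PrimeSpectrum.isClosed_zeroLocus _).isOpen_compl
  have hpO : p ∈ (PrimeSpectrum.zeroLocus (q : Set A))ᶜ := by
    intro hmem
    exact hqp ((PrimeSpectrum.mem_zeroLocus _ _).mp hmem)
  obtain ⟨r, hrO, hrD⟩ := hD.inter_open_nonempty _ hOopen ⟨p, hpO⟩
  obtain ⟨p'', hp''min, hp''le⟩ := Ideal.exists_minimalPrimes_le (J := r.asIdeal) bot_le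
  have hp''eq : p'' = p.asIdeal := by
    by_contra hne
    apply hrO
    rw [PrimeSpectrum.mem_zeroLocus]
    have hp''T : p'' ∈ T := Finset.mem_erase.mpr ⟨hne, hfin.mem_toFinset.mpr hp''min⟩
    have : q ≤ p'' := Finset.inf_le (f := id) hp''T
    exact this.trans hp''le
  have hspec : p ⤳ r := by
    rw [← PrimeSpectrum.le_iff_specializes]
    change p.asIdeal ≤ r.asIdeal
    rw [← hp''eq]; exact hp''le
  exact hspec.mem_open hDo hrD

/-- a point of a locally noetherian scheme whose local ring has dimension `≤ 0` lies in every dense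
open. -/
theorem mem_of_dense_of_dim_zero (X : Scheme.{u}) [IsLocallyNoetherian X] (U : X.Opens)
    (hU : Dense (U : Set X)) (x : X) (hx : ringKrullDim (X.presheaf.stalk x) ≤ 0) : x ∈ U := by
  obtain ⟨W, hW, hxW, -⟩ := exists_isAffineOpen_mem_and_subset (x := x) (U := ⊤) trivial
  haveI : IsNoetherianRing Γ(X, W) := IsLocallyNoetherian.component_noetherian ⟨W, hW⟩
  let p : PrimeSpectrum Γ(X, W) := hW.primeIdealOf ⟨x, hxW⟩
  have hpx : hW.fromSpec p = x := hW.fromSpec_primeIdealOf ⟨x, hxW⟩
  letI : Algebra Γ(X, W) (X.presheaf.stalk x) :=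
    TopCat.Presheaf.algebra_section_stalk X.presheaf ⟨x, hxW⟩
  haveI hloc : IsLocalization.AtPrime (X.presheaf.stalk x) p.asIdeal :=
    hW.isLocalization_stalk ⟨x, hxW⟩
  have hht : p.asIdeal.height = 0 := by
    have h1 := IsLocalization.AtPrime.ringKrullDim_eq_height p.asIdeal (X.presheaf.stalk x)
    rw [h1] at hx
    have : p.asIdeal.height ≤ 0 := by exact_mod_cast hx
    exact le_antisymm this zero_le
  have hmin : p.asIdeal ∈ minimalPrimes Γ(X, W) := Ideal.height_eq_zero_iff.mp hht
  have hD : Dense (hW.fromSpec ⁻¹' (U : Set X)) :=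
    hU.preimage hW.fromSpec.isOpenEmbedding.isOpenMap
  have hDo : IsOpen (hW.fromSpec ⁻¹' (U : Set X)) := U.2.preimage hW.fromSpec.continuous
  have h9 : hW.fromSpec p ∈ (U : Set X) := minimal_mem_dense_open Γ(X, W) p hmin _ hDo hD
  rw [hpx] at h9
  exact h9

/-- depth zero for a local ring whose maximal ideal is associated. -/
theorem depth_eq_zero (R : Type u) [CommRing R] [IsLocalRing R]
    (h : IsLocalRing.maximalIdeal R ∈ associatedPrimes R R) : LocCoh.depth R R = 0 := by
  unfold LocCoh.depth LocCoh.idealDepth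
  have hne : ¬ IsLocalRing.maximalIdeal R • (⊤ : Submodule R R) = ⊤ := by
    intro htop
    have : IsLocalRing.maximalIdeal R = ⊤ := by
      have h2 : IsLocalRing.maximalIdeal R • (⊤ : Submodule R R) = IsLocalRing.maximalIdeal R := by
        rw [smul_eq_mul, ← Ideal.one_eq_top, mul_one]
      rw [h2] at htop
      exact htop
    exact (IsLocalRing.maximalIdeal.isMaximal R).ne_top this
  rw [if_neg hne]
  obtain ⟨z, hz⟩ := h.2
  apply le_antisymm _ zero_le
  apply iSup_le
  intro rs
  apply iSup_le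
  rintro ⟨hreg, hmem⟩
  cases rs with
  | nil => simp
  | cons r rs' =>
    exfalso
    have hr : IsSMulRegular R r := ((RingTheory.Sequence.isWeaklyRegular_cons_iff R r rs').mp hreg).1
    have hrm : r ∈ IsLocalRing.maximalIdeal R := hmem r (List.mem_cons_self)
    rw [hz] at hrm
    obtain ⟨n, hn⟩ := hrm
    rw [Submodule.mem_colon_singleton] at hn
    have hz0 : z = 0 := by
      have hreg' : IsSMulRegular R (r ^ n) := hr.pow n
      apply hreg'
      change r ^ n • z = r ^ n • (0 : R)
      rw [smul_zero]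
      exact hn
    have htop : IsLocalRing.maximalIdeal R = ⊤ := by
      rw [hz, hz0]
      rw [Ideal.radical_eq_top]
      ext a
      simp [Submodule.mem_colon_singleton]
    exact (IsLocalRing.maximalIdeal.isMaximal R).ne_top htop

/-- an open of a locally noetherian scheme containing all associated points is scheme-theoretically
dense. -/
theorem dominant_of_associated (S : Scheme.{u}) [IsLocallyNoetherian S] (U : S.Opens)
    (hU : ∀ s : S, IsLocalRing.maximalIdeal (S.presheaf.stalk s) ∈
        associatedPrimes (S.presheaf.stalk s) (S.presheaf.stalk s) → s ∈ U) :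
    IsSchemeTheoreticallyDominant U.ι := by
  rw [isSchemeTheoreticallyDominant_iff, ← le_bot_iff, Scheme.IdealSheafData.le_def]
  intro V
  rw [Scheme.Hom.ker_apply]
  simp only [Scheme.IdealSheafData.ideal_bot, Pi.bot_apply]
  intro a ha
  rw [RingHom.mem_ker] at ha
  rw [Ideal.mem_bot]
  by_contra hne
  haveI : IsNoetherianRing Γ(S, V.1) := IsLocallyNoetherian.component_noetherian V
  obtain ⟨P, hP, hle⟩ := exists_le_isAssociatedPrime_of_isNoetherianRing Γ(S, V.1) a hne
  haveI : P.IsPrime := hP.isPrime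
  let s : S := V.2.fromSpec ⟨P, hP.isPrime⟩
  have hsV : s ∈ V.1 := by
    have : s ∈ Set.range V.2.fromSpec := ⟨_, rfl⟩
    rw [V.2.range_fromSpec] at this
    exact this
  letI : Algebra Γ(S, V.1) (S.presheaf.stalk s) :=
    TopCat.Presheaf.algebra_section_stalk S.presheaf ⟨s, hsV⟩
  haveI hloc : IsLocalization.AtPrime (S.presheaf.stalk s) P :=
    V.2.isLocalization_stalk' ⟨P, hP.isPrime⟩ hsV
  have hsU : s ∈ U := by
    apply hU
    haveI : IsLocalizedModule P.primeCompl
        (Algebra.linearMap Γ(S, V.1) (S.presheaf.stalk s)) :=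
      (isLocalizedModule_iff_isLocalization' P.primeCompl _).mpr hloc
    apply Module.associatedPrimes.mem_associatedPrimes_of_comap_mem_associatedPrimes_of_isLocalizedModule
      P.primeCompl (Algebra.linearMap Γ(S, V.1) (S.presheaf.stalk s))
    have hc : Ideal.comap (algebraMap Γ(S, V.1) (S.presheaf.stalk s))
        (IsLocalRing.maximalIdeal (S.presheaf.stalk s)) = P :=
      IsLocalization.AtPrime.under_maximalIdeal (S.presheaf.stalk s) P
    rw [hc]
    exact hP
  have hgerm : algebraMap Γ(S, V.1) (S.presheaf.stalk s) a = 0 := by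
    have hsW : s ∈ U.ι ''ᵁ U.ι ⁻¹ᵁ V.1 := by
      refine ⟨⟨s, hsU⟩, ?_, rfl⟩
      exact hsV
    have h0 : S.presheaf.map (homOfLE (x := U.ι ''ᵁ U.ι ⁻¹ᵁ V.1)
        (Set.image_preimage_subset _ _)).op a = 0 := ha
    change S.presheaf.germ V.1 s hsV a = 0
    rw [← TopCat.Presheaf.germ_res_apply S.presheaf (homOfLE (x := U.ι ''ᵁ U.ι ⁻¹ᵁ V.1)
        (Set.image_preimage_subset _ _)) s hsW a, h0, map_zero]
  obtain ⟨⟨t, ht⟩, hta⟩ := (IsLocalization.map_eq_zero_iff P.primeCompl
    (S.presheaf.stalk s) a).mp hgerm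
  apply ht
  apply hle
  rw [Submodule.mem_colon_singleton]
  exact hta

/-- scheme-theoretic dominance of `U.ι` gives the prelude's schematic density. -/
theorem schDense_of_dominant (X : Scheme.{u}) (U : X.Opens) [QuasiCompact U.ι]
    [IsSchemeTheoreticallyDominant U.ι] : CInt.IsSchematicallyDense U := by
  intro V a b hab
  apply Scheme.Hom.app_injective U.ι V
  change X.presheaf.map (homOfLE (x := U.ι ''ᵁ U.ι ⁻¹ᵁ V) (Set.image_preimage_subset _ _)).op a =
    X.presheaf.map (homOfLE (x := U.ι ''ᵁ U.ι ⁻¹ᵁ V) (Set.image_preimage_subset _ _)).op b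
  have hle : U.ι ''ᵁ U.ι ⁻¹ᵁ V ≤ V ⊓ U := by
    rintro _ ⟨y, hy, rfl⟩
    exact ⟨hy, y.2⟩
  have key : ∀ c : Γ(X, V), X.presheaf.map (homOfLE (x := U.ι ''ᵁ U.ι ⁻¹ᵁ V)
      (Set.image_preimage_subset _ _)).op c =
      X.presheaf.map (homOfLE hle).op (X.presheaf.map (homOfLE (inf_le_left : V ⊓ U ≤ V)).op c) := by
    intro c
    rw [← ConcreteCategory.comp_apply, ← X.presheaf.map_comp]
    rfl
  rw [key a, key b, hab]

theorem main (X : Scheme.{u}) [IsLocallyNoetherian X]
    (hS1 : ∀ x : X, min (1 : WithBot ℕ∞) (ringKrullDim (X.presheaf.stalk x)) ≤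
      ((LocCoh.depth (X.presheaf.stalk x) (X.presheaf.stalk x) : ℕ∞) : WithBot ℕ∞))
    (U : X.Opens) (hU : Dense (U : Set X)) : CInt.IsSchematicallyDense U := by
  haveI : IsSchemeTheoreticallyDominant U.ι := by
    apply dominant_of_associated
    intro s hs
    apply mem_of_dense_of_dim_zero X U hU
    have h1 := hS1 s
    rw [depth_eq_zero _ hs] at h1
    rcases min_le_iff.mp h1 with h2 | h2
    · exfalso
      have : ((1 : ℕ) : WithBot ℕ∞) ≤ ((0 : ℕ) : WithBot ℕ∞) := by exact_mod_cast h2
      have h3 : (1 : ℕ) ≤ 0 := by exact_mod_cast this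
      omega
    · exact_mod_cast h2
  exact schDense_of_dominant X U

/-- (as in helper7's `SchDenseRed1`) a schematically dense open is topologically dense. -/
theorem dense_of_schDense {X : Scheme.{u}} {V : X.Opens} (hV : CInt.IsSchematicallyDense V) :
    Dense (V : Set X) := by
  rw [dense_iff_inter_open]
  intro O hO hne
  by_contra hcon
  rw [Set.not_nonempty_iff_eq_empty] at hcon
  obtain ⟨x, hx⟩ := hne
  let O' : X.Opens := ⟨O, hO⟩
  have hbot : O' ⊓ V = ⊥ := by
    ext y
    simp only [TopologicalSpace.Opens.coe_inf, TopologicalSpace.Opens.coe_bot,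
      Set.mem_empty_iff_false, iff_false]
    intro hy
    have : y ∈ O ∩ (V : Set X) := hy
    rw [hcon] at this
    exact this
  have hsub : Subsingleton Γ(X, O' ⊓ V) := by rw [hbot]; infer_instance
  have h10 : (1 : Γ(X, O')) = 0 := hV O' (Subsingleton.elim _ _)
  have := congrArg (X.presheaf.germ O' x hx) h10
  rw [map_one, map_zero] at this
  exact one_ne_zero this

theorem main_iff (X : Scheme.{u}) [IsLocallyNoetherian X]
    (hS1 : ∀ x : X, min (1 : WithBot ℕ∞) (ringKrullDim (X.presheaf.stalk x)) ≤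
      ((LocCoh.depth (X.presheaf.stalk x) (X.presheaf.stalk x) : ℕ∞) : WithBot ℕ∞))
    (U : X.Opens) : CInt.IsSchematicallyDense U ↔ Dense (U : Set X) :=
  ⟨dense_of_schDense, main X hS1 U⟩

end Groth.Agent.H9.SDD
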