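import Mathlib

/-!
# Fixed points of a linearly reductive finite group acting on a regular local ring

`A/J` is regular, where `J` is the ideal generated by the `g • a - a`.
-/

set_option autoImplicit false
set_option linter.unusedSectionVars false
universe u

namespace Groth.Agent.H9.FixedReg

open IsLocalRing

section Reynolds

variable {k : Type*} [Field k] {A : Type*} [CommRing A] [Algebra k A]
  {G : Type*} [Group G] [Fintype G] [MulSemiringAction G A] [SMulCommClass G k A]

/-- The ideal generated by the `g • a - a`. -/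
def coinv (G : Type*) (A : Type*) [CommRing A] [Group G] [MulSemiringAction G A] : Ideal A :=
  Ideal.span {x : A | ∃ (g : G) (a : A), x = g • a - a}

theorem sub_mem_coinv (g : G) (a : A) : g • a - a ∈ coinv G A :=
  Ideal.subset_span ⟨g, a, rfl⟩

/-- Reynolds operator. -/
noncomputable def rho (k : Type*) [Field k] {A : Type*} [CommRing A] [Algebra k A]
    (G : Type*) [Group G] [Fintype G] [MulSemiringAction G A] (a : A) : A :=
  ((Fintype.card G : k)⁻¹) • ∑ g : G, g • a

theorem rho_add (a b : A) : rho k G (a + b) = rho k G a + rho k G b := by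
  simp only [rho, smul_add, Finset.sum_add_distrib]

theorem rho_sub (a b : A) : rho k G (a - b) = rho k G a - rho k G b := by
  simp only [rho, smul_sub, Finset.sum_sub_distrib]

theorem rho_smul (c : k) (a : A) : rho k G (c • a) = c • rho k G a := by
  simp only [rho]
  rw [smul_comm c]
  congr 1
  rw [Finset.smul_sum]
  exact Finset.sum_congr rfl fun g _ => smul_comm g c a

theorem rho_smul_group (g : G) (a : A) : rho k G (g • a) = rho k G a := by
  simp only [rho]
  congr 1
  simp only [← mul_smul]
  exact Equiv.sum_comp (Equiv.mulRight g) fun h => h • a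

theorem rho_mem {I : Ideal A} (hI : ∀ (g : G) (x : A), x ∈ I → g • x ∈ I) {x : A} (hx : x ∈ I) :
    rho k G x ∈ I := by
  simp only [rho]
  exact I.smul_of_tower_mem _ (I.sum_mem fun g _ => hI g x hx)

theorem sub_rho_eq (hG : (Fintype.card G : k) ≠ 0) (a : A) :
    a - rho k G a = ((Fintype.card G : k)⁻¹) • ∑ g : G, (a - g • a) := by
  simp only [rho, Finset.sum_sub_distrib, smul_sub, Finset.sum_const, Finset.card_univ]
  congr 1
  rw [← Nat.cast_smul_eq_nsmul k, smul_smul, inv_mul_cancel₀ hG, one_smul]

section Local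

variable [IsLocalRing A]

theorem smul_mem_maximalIdeal (g : G) {x : A} (hx : x ∈ maximalIdeal A) :
    g • x ∈ maximalIdeal A := by
  rw [mem_maximalIdeal, mem_nonunits_iff] at hx ⊢
  intro hu
  apply hx
  have h := hu.map (MulSemiringAction.toRingHom G A g⁻¹)
  simpa using h

theorem exists_scalar (hres : Function.Surjective (algebraMap k (ResidueField A))) (a : A) :
    ∃ c : k, a - algebraMap k A c ∈ maximalIdeal A := by
  obtain ⟨c, hc⟩ := hres (residue A a)
  refine ⟨c, ?_⟩
  rw [← Ideal.Quotient.eq_zero_iff_mem, map_sub]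
  change residue A a - residue A (algebraMap k A c) = 0
  rw [← hc, sub_eq_zero]
  rfl

theorem smul_algebraMap (g : G) (c : k) : g • algebraMap k A c = algebraMap k A c := by
  rw [Algebra.algebraMap_eq_smul_one, smul_comm, smul_one]

theorem coinv_le_maximalIdeal (hres : Function.Surjective (algebraMap k (ResidueField A))) :
    coinv G A ≤ maximalIdeal A := by
  rw [coinv, Ideal.span_le]
  rintro x ⟨g, a, rfl⟩
  obtain ⟨c, hc⟩ := exists_scalar hres a
  have h : g • a - a = g • (a - algebraMap k A c) - (a - algebraMap k A c) := by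
    rw [smul_sub, smul_algebraMap]
    ring
  rw [h]
  exact sub_mem (smul_mem_maximalIdeal g hc) hc

theorem smul_mem_coinv (h : G) {x : A} (hx : x ∈ coinv G A) : h • x ∈ coinv G A := by
  induction hx using Submodule.span_induction with
  | mem x hx =>
    obtain ⟨g, a, rfl⟩ := hx
    have : h • (g • a - a) = (h * g * h⁻¹) • (h • a) - h • a := by
      rw [smul_sub, ← mul_smul, ← mul_smul, inv_mul_cancel_right]
    rw [this]
    exact sub_mem_coinv _ _
  | zero => rw [smul_zero]; exact zero_mem _
  | add x y _ _ hx hy => rw [smul_add]; exact add_mem hx hy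
  | smul a x _ hx =>
    rw [smul_eq_mul, smul_mul']
    exact Ideal.mul_mem_left _ _ hx

theorem smul_mem_mul {I J : Ideal A} (hI : ∀ (g : G) (x : A), x ∈ I → g • x ∈ I)
    (hJ : ∀ (g : G) (x : A), x ∈ J → g • x ∈ J) (g : G) {x : A} (hx : x ∈ I * J) :
    g • x ∈ I * J := by
  refine Submodule.mul_induction_on hx (fun a ha b hb => ?_) (fun a b ha hb => ?_)
  · rw [smul_mul']
    exact Ideal.mul_mem_mul (hI g a ha) (hJ g b hb)
  · rw [smul_add]
    exact add_mem ha hb

theorem sub_rho_mem (hG : (Fintype.card G : k) ≠ 0) {x : A}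
    (hx : x ∈ maximalIdeal A * maximalIdeal A) :
    x - rho k G x ∈ maximalIdeal A * coinv G A := by
  refine Submodule.mul_induction_on hx (fun a ha b hb => ?_) (fun a b ha hb => ?_)
  · rw [sub_rho_eq hG]
    refine (maximalIdeal A * coinv G A).smul_of_tower_mem _ (Ideal.sum_mem _ fun g _ => ?_)
    have h : a * b - g • (a * b) = a * (-(g • b - b)) + (g • b) * (-(g • a - a)) := by
      rw [smul_mul']
      ring
    rw [h]
    refine add_mem (Ideal.mul_mem_mul ha (neg_mem (sub_mem_coinv g b))) ?_
    exact Ideal.mul_mem_mul (smul_mem_maximalIdeal g hb) (neg_mem (sub_mem_coinv g a))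
  · have h : a + b - rho k G (a + b) = (a - rho k G a) + (b - rho k G b) := by
      rw [rho_add]; ring
    rw [h]
    exact add_mem ha hb

theorem rho_mul_mem (hres : Function.Surjective (algebraMap k (ResidueField A)))
    {j : A} (hj : j ∈ coinv G A) :
    ∀ b : A, rho k G (b * j) ∈ maximalIdeal A * coinv G A := by
  have hstable : ∀ (g : G) (x : A), x ∈ maximalIdeal A * coinv G A →
      g • x ∈ maximalIdeal A * coinv G A :=
    fun g x hx => smul_mem_mul (fun g x hx => smul_mem_maximalIdeal g hx)
      (fun g x hx => smul_mem_coinv g hx) g hx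
  induction hj using Submodule.span_induction with
  | mem y hy =>
    obtain ⟨g, a, rfl⟩ := hy
    intro b
    obtain ⟨c, hc⟩ := exists_scalar hres b
    have h : b * (g • a - a) = c • (g • a - a) + (b - algebraMap k A c) * (g • a - a) := by
      rw [Algebra.smul_def]; ring
    rw [h, rho_add, rho_smul, rho_sub, rho_smul_group, sub_self, smul_zero, zero_add]
    exact rho_mem hstable (Ideal.mul_mem_mul hc (sub_mem_coinv g a))
  | zero => intro b; rw [mul_zero]; simp [rho]
  | add x y _ _ hx hy =>
    intro b
    rw [mul_add, rho_add]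
    exact add_mem (hx b) (hy b)
  | smul a x _ hx =>
    intro b
    rw [smul_eq_mul, ← mul_assoc]
    exact hx (b * a)

theorem coinv_inf_sq_le (hres : Function.Surjective (algebraMap k (ResidueField A)))
    (hG : (Fintype.card G : k) ≠ 0) :
    coinv G A ⊓ maximalIdeal A ^ 2 ≤ maximalIdeal A * coinv G A := by
  rintro j ⟨hjJ, hjM⟩
  rw [SetLike.mem_coe, pow_two] at hjM
  have h1 := sub_rho_mem (k := k) (G := G) hG hjM
  have h2 := rho_mul_mem (k := k) hres hjJ 1
  rw [one_mul] at h2
  have : j = (j - rho k G j) + rho k G j := by ring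
  rw [this]
  exact add_mem h1 h2

end Local

end Reynolds

section Regular

variable {A : Type*} [CommRing A]

/-- Quotient of a regular local ring by an ideal `J ≤ m` with `J ∩ m² ≤ m J` is regular. -/
theorem isRegularLocalRing_quotient [IsRegularLocalRing A] (J : Ideal A)
    (hJM : J ≤ maximalIdeal A) (hJ2 : J ⊓ maximalIdeal A ^ 2 ≤ maximalIdeal A * J) :
    IsRegularLocalRing (A ⧸ J) := by
  classical
  have hJtop : J ≠ ⊤ := fun h => (maximalIdeal.isMaximal A).ne_top (top_le_iff.mp (h ▸ hJM))
  have : Nontrivial (A ⧸ J) := Ideal.Quotient.nontrivial_iff.mpr hJtop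
  have : IsLocalRing (A ⧸ J) :=
    IsLocalRing.of_surjective' (Ideal.Quotient.mk J) Ideal.Quotient.mk_surjective
  apply IsRegularLocalRing.of_spanFinrank_maximalIdeal_le
  -- notation
  set M := maximalIdeal A with hM
  let κ := ResidueField A
  let V := CotangentSpace A
  have hn : (Module.finrank κ V : WithBot ℕ∞) = ringKrullDim A :=
    (IsRegularLocalRing.iff_finrank_cotangentSpace A).mp inferInstance
  -- the image of `J` in the cotangent space
  let S : Set V := {v | ∃ (j : A) (hj : j ∈ J), v = M.toCotangent ⟨j, hJM hj⟩}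
  set s := Module.finrank κ (Submodule.span κ S) with hs
  obtain ⟨f, hfS, hfspan, -⟩ : ∃ f : Fin s → V, (∀ i, f i ∈ S) ∧
      Submodule.span κ (Set.range f) = Submodule.span κ S ∧ LinearIndependent κ f :=
    Submodule.exists_fun_fin_finrank_span_eq κ S
  choose y hyJ hy using hfS
  -- `J` is generated by the `y i`
  have hJgen : J ≤ Ideal.span (Set.range y) := by
    apply Submodule.le_of_le_smul_of_le_jacobson_bot (IsNoetherian.noetherian J)
      (IsLocalRing.jacobson_eq_maximalIdeal ⊥ bot_ne_top).ge
    intro j hj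
    have hmem : M.toCotangent ⟨j, hJM hj⟩ ∈ Submodule.span κ (Set.range f) := by
      rw [hfspan]
      exact Submodule.subset_span ⟨j, hj, rfl⟩
    obtain ⟨c, hc⟩ := (Submodule.mem_span_range_iff_exists_fun κ).mp hmem
    choose c' hc' using fun i => residue_surjective (c i)
    have hz : (j - ∑ i, c' i * y i) ∈ M ^ 2 := by
      have h1 : M.toCotangent (⟨j, hJM hj⟩ - ∑ i, c' i • ⟨y i, hJM (hyJ i)⟩) = 0 := by
        rw [map_sub, map_sum, ← hc, sub_eq_zero]
        refine (Finset.sum_congr rfl fun i _ => ?_).symm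
        rw [map_smul, hy i, ← hc' i]
        rfl
      rw [Ideal.toCotangent_eq_zero] at h1
      convert h1 using 1
      simp
    have hzJ : (j - ∑ i, c' i * y i) ∈ J :=
      sub_mem hj (J.sum_mem fun i _ => J.mul_mem_left _ (hyJ i))
    have hz' := hJ2 ⟨hzJ, hz⟩
    have : j = ∑ i, c' i * y i + (j - ∑ i, c' i * y i) := by ring
    rw [this]
    refine Submodule.add_mem_sup ?_ ?_
    · exact Ideal.sum_mem _ fun i _ => Ideal.mul_mem_left _ _ (Ideal.subset_span ⟨i, rfl⟩)
    · rw [smul_eq_mul]
      exact hz'
  have hJeq : J = Ideal.span (Set.range y) :=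
    le_antisymm hJgen (Ideal.span_le.mpr (by rintro _ ⟨i, rfl⟩; exact hyJ i))
  have hJfin : J.spanFinrank ≤ s := by
    rw [hJeq]
    refine (Submodule.spanFinrank_span_le_ncard_of_finite (Set.finite_range y)).trans ?_
    calc (Set.range y).ncard ≤ Nat.card (Fin s) := by
          rw [← Set.ncard_univ, ← Set.image_univ]
          exact Set.ncard_image_le Set.finite_univ
      _ = s := by simp
  -- dimension inequality
  have hdim : ringKrullDim A ≤ ringKrullDim (A ⧸ J) + (s : ℕ) := by
    refine (ringKrullDim_le_ringKrullDim_quotient_add_spanFinrank J ?_).trans ?_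
    · rw [IsLocalRing.ringJacobson_eq_maximalIdeal]
      exact hJM
    · gcongr
  -- a complement of the image of `J`
  obtain ⟨W', hW'⟩ := (Submodule.span κ S).exists_isCompl
  set r := Module.finrank κ W' with hr
  have hrs : s + r = Module.finrank κ V := Submodule.finrank_add_eq_of_isCompl hW'
  let b := Module.finBasis κ W'
  choose x hx using fun i : Fin r => Ideal.toCotangent_surjective M ((b i : W') : V)
  let T : Set M := Set.range x ∪ Set.range fun i => (⟨y i, hJM (hyJ i)⟩ : M)
  have hT : Submodule.span κ (M.toCotangent '' T) = ⊤ := by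
    rw [eq_top_iff, ← hW'.sup_eq_top, sup_le_iff]
    constructor
    · rw [← hfspan, Submodule.span_le]
      rintro _ ⟨i, rfl⟩
      exact Submodule.subset_span ⟨⟨y i, hJM (hyJ i)⟩, Or.inr ⟨i, rfl⟩, (hy i).symm⟩
    · intro w hw
      have hw' : (⟨w, hw⟩ : W') ∈ Submodule.span κ (Set.range b) := by
        rw [b.span_eq]; exact Submodule.mem_top
      have := Submodule.mem_map_of_mem (f := W'.subtype) hw'
      rw [Submodule.map_span] at this
      refine Submodule.span_mono ?_ this
      rintro _ ⟨_, ⟨i, rfl⟩, rfl⟩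
      exact ⟨x i, Or.inl ⟨i, rfl⟩, hx i⟩
  have hT' : Submodule.span A T = ⊤ := CotangentSpace.span_image_eq_top_iff.mp hT
  have hMgen : M = Ideal.span (Subtype.val '' T) := by
    have := congrArg (Submodule.map M.subtype) hT'
    rw [Submodule.map_span, Submodule.map_top, Submodule.range_subtype] at this
    exact this.symm
  -- the maximal ideal of the quotient
  have hMB : maximalIdeal (A ⧸ J) = Ideal.span (Set.range fun i => Ideal.Quotient.mk J (x i)) := by
    rw [← map_maximalIdeal_of_surjective (Ideal.Quotient.mk J) Ideal.Quotient.mk_surjective,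
      ← hM]
    conv_lhs => rw [hMgen, Ideal.map_span]
    apply le_antisymm
    · rw [Ideal.span_le]
      rintro _ ⟨_, ⟨t, ht, rfl⟩, rfl⟩
      rcases ht with ⟨i, rfl⟩ | ⟨i, rfl⟩
      · exact Ideal.subset_span ⟨i, rfl⟩
      · have : Ideal.Quotient.mk J (y i) = 0 := Ideal.Quotient.eq_zero_iff_mem.mpr (hyJ i)
        change Ideal.Quotient.mk J (y i) ∈ _
        rw [this]
        exact zero_mem _
    · rw [Ideal.span_le]
      rintro _ ⟨i, rfl⟩
      exact Ideal.subset_span ⟨_, ⟨x i, Or.inl ⟨i, rfl⟩, rfl⟩, rfl⟩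
  have hMBfin : (maximalIdeal (A ⧸ J)).spanFinrank ≤ r := by
    rw [hMB]
    refine (Submodule.spanFinrank_span_le_ncard_of_finite (Set.finite_range _)).trans ?_
    calc (Set.range fun i => Ideal.Quotient.mk J (x i : A)).ncard ≤ Nat.card (Fin r) := by
          rw [← Set.ncard_univ, ← Set.image_univ]
          exact Set.ncard_image_le Set.finite_univ
      _ = r := by simp
  -- conclude
  have hne : ringKrullDim (A ⧸ J) ≠ ⊥ := ringKrullDim_ne_bot
  obtain ⟨d, hd⟩ := WithBot.ne_bot_iff_exists.mp hne
  rw [← hd]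
  rw [← hn, ← hrs, ← hd] at hdim
  have h2 : ((s + r : ℕ) : ℕ∞) ≤ d + (s : ℕ) := by
    exact_mod_cast hdim
  have h3 : (r : ℕ∞) ≤ d := by
    have h4 : (r : ℕ∞) + (s : ℕ∞) ≤ d + (s : ℕ∞) := by
      convert h2 using 1
      push_cast
      ring
    exact (ENat.add_le_add_iff_right (ENat.natCast_ne_top s)).mp h4
  calc ((maximalIdeal (A ⧸ J)).spanFinrank : WithBot ℕ∞) ≤ (r : WithBot ℕ∞) := by
        exact_mod_cast hMBfin
    _ ≤ ((d : ℕ∞) : WithBot ℕ∞) := by exact_mod_cast h3

end Regular

theorem main (k : Type*) [Field k] (A : Type*) [CommRing A]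
    [Algebra k A] [IsRegularLocalRing A]
    (hres : Function.Surjective (algebraMap k (IsLocalRing.ResidueField A)))
    (G : Type*) [Group G] [Finite G] [MulSemiringAction G A] [SMulCommClass G k A]
    (hG : (Nat.card G : k) ≠ 0) :
    IsRegularLocalRing (A ⧸ Ideal.span {x : A | ∃ (g : G) (a : A), x = g • a - a}) := by
  let _ := Fintype.ofFinite G
  rw [Nat.card_eq_fintype_card] at hG
  exact isRegularLocalRing_quotient (coinv G A) (coinv_le_maximalIdeal hres)
    (coinv_inf_sq_le hres hG)

end Groth.Agent.H9.FixedReg
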