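import Mathlib

/-! Helper9: separably closed fields are infinite; nontrivial algebras etale over a polynomial ring over a separably closed field have rational points. -/

set_option linter.style.haveILetI false
set_option linter.unusedSectionVars false

namespace Groth.Agent.H9.SCP

universe u

open MvPolynomial

/-- A separably closed field is infinite. -/
theorem infinite_of_isSepClosed (K : Type u) [Field K] [IsSepClosed K] : Infinite K := by
  by_contra h
  rw [not_infinite_iff_finite] at h
  have : IsAlgClosed K := IsSepClosed.isAlgClosed_of_perfectField K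
  exact (not_finite K)

/-- Over an infinite field, a flat finitely presented nontrivial algebra over a polynomial ring has
a prime lying over the maximal ideal of some rational point. -/
theorem exists_point_map_ne_top (K : Type u) [Field K] [Infinite K] (n : ℕ)
    (A : Type u) [CommRing A] [Nontrivial A] [Algebra (MvPolynomial (Fin n) K) A]
    [Module.Flat (MvPolynomial (Fin n) K) A]
    [Algebra.FinitePresentation (MvPolynomial (Fin n) K) A] :
    ∃ a : Fin n → K, Ideal.map (algebraMap (MvPolynomial (Fin n) K) A)
      (RingHom.ker (MvPolynomial.eval a)) ≠ ⊤ := by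
  have hopen : IsOpenMap (PrimeSpectrum.comap (algebraMap (MvPolynomial (Fin n) K) A)) :=
    PrimeSpectrum.isOpenMap_comap_of_hasGoingDown_of_finitePresentation
  have hU : IsOpen (Set.range (PrimeSpectrum.comap (algebraMap (MvPolynomial (Fin n) K) A))) :=
    hopen.isOpen_range
  obtain ⟨q₀⟩ : Nonempty (PrimeSpectrum A) := inferInstance
  obtain ⟨_, ⟨_, ⟨h, rfl⟩, rfl⟩, hp, hsub⟩ :=
    PrimeSpectrum.isBasis_basic_opens.exists_subset_of_mem_open (Set.mem_range_self q₀) hU
  have hh : h ≠ 0 := by
    rintro rfl
    simp at hp
  obtain ⟨a, ha⟩ : ∃ a : Fin n → K, MvPolynomial.eval a h ≠ 0 := by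
    by_contra hcon
    push Not at hcon
    exact hh (MvPolynomial.funext (fun x => by simpa using hcon x))
  refine ⟨a, ?_⟩
  have hmax : (RingHom.ker (MvPolynomial.eval a : MvPolynomial (Fin n) K →+* K)).IsMaximal :=
    RingHom.ker_isMaximal_of_surjective _ (fun c => ⟨C c, by simp⟩)
  let m : PrimeSpectrum (MvPolynomial (Fin n) K) := ⟨RingHom.ker (MvPolynomial.eval a), hmax.isPrime⟩
  have hm : m ∈ (PrimeSpectrum.basicOpen h : Set _) := by
    show h ∉ RingHom.ker (MvPolynomial.eval a)
    rwa [RingHom.mem_ker]
  obtain ⟨q, hq⟩ := hsub hm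
  intro htop
  have hle : Ideal.map (algebraMap (MvPolynomial (Fin n) K) A)
      (RingHom.ker (MvPolynomial.eval a)) ≤ q.asIdeal := by
    rw [Ideal.map_le_iff_le_comap]
    have := congrArg PrimeSpectrum.asIdeal hq
    exact this.ge
  rw [htop] at hle
  exact q.isPrime.ne_top (top_le_iff.mp hle)

/-- A nontrivial algebra étale over a polynomial ring over a separably closed field has a
rational point. -/
theorem exists_algHom_of_etale_mvPolynomial (K : Type u) [Field K] [IsSepClosed K] (n : ℕ)
    (A : Type u) [CommRing A] [Nontrivial A] [Algebra K A]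
    (g : MvPolynomial (Fin n) K →ₐ[K] A) (hg : g.toRingHom.Etale) :
    Nonempty (A →ₐ[K] K) := by
  have : Infinite K := infinite_of_isSepClosed K
  algebraize [g.toRingHom]
  have : IsScalarTower K (MvPolynomial (Fin n) K) A :=
    IsScalarTower.of_algebraMap_eq' g.comp_algebraMap.symm
  have hflat : Module.Flat (MvPolynomial (Fin n) K) A := inferInstance
  obtain ⟨a, ha⟩ := exists_point_map_ne_top K n A
  obtain ⟨M, hM, hle⟩ := Ideal.exists_le_maximal _ ha
  let L := A ⧸ M
  letI : Field L := Ideal.Quotient.field M
  -- `L` is of finite type and formally unramified over `K`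
  have hft : Algebra.FiniteType K A :=
    Algebra.FiniteType.trans (S := MvPolynomial (Fin n) K) inferInstance inferInstance
  have hftL : Algebra.FiniteType K L :=
    Algebra.FiniteType.of_surjective (Ideal.Quotient.mkₐ K M) Ideal.Quotient.mk_surjective
  -- `K` as an algebra over the polynomial ring via evaluation at `a`
  letI algPK : Algebra (MvPolynomial (Fin n) K) K := (MvPolynomial.eval a).toAlgebra
  have hPK : ∀ p : MvPolynomial (Fin n) K, algebraMap (MvPolynomial (Fin n) K) K p =
    MvPolynomial.eval a p := fun p => rfl
  have htower : IsScalarTower (MvPolynomial (Fin n) K) K L := by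
    refine IsScalarTower.of_algebraMap_eq' (RingHom.ext fun p => ?_)
    simp only [RingHom.comp_apply, hPK]
    rw [IsScalarTower.algebraMap_apply (MvPolynomial (Fin n) K) A L,
      IsScalarTower.algebraMap_apply K A L]
    change Ideal.Quotient.mk M _ = Ideal.Quotient.mk M _
    rw [Ideal.Quotient.eq]
    apply hle
    have hk : p - C (MvPolynomial.eval a p) ∈ RingHom.ker (MvPolynomial.eval a) := by
      rw [RingHom.mem_ker, map_sub, MvPolynomial.eval_C, sub_self]
    have := Ideal.mem_map_of_mem (algebraMap (MvPolynomial (Fin n) K) A) hk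
    rw [map_sub] at this
    convert this using 2
    rw [IsScalarTower.algebraMap_apply K (MvPolynomial (Fin n) K) A]
    rfl
  have hunr : Algebra.FormallyUnramified (MvPolynomial (Fin n) K) L :=
    Algebra.FormallyUnramified.of_surjective (Ideal.Quotient.mkₐ (MvPolynomial (Fin n) K) M)
      Ideal.Quotient.mk_surjective
  have hunrK : Algebra.FormallyUnramified K L :=
    Algebra.FormallyUnramified.of_restrictScalars (MvPolynomial (Fin n) K) K L
  have hsep : Algebra.IsSeparable K L := Algebra.FormallyUnramified.isSeparable K L
  have hbij : Function.Bijective (algebraMap K L) :=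
    ⟨(algebraMap K L).injective, IsSepClosed.algebraMap_surjective K L⟩
  let e : K ≃ₐ[K] L := AlgEquiv.ofBijective (Algebra.ofId K L) hbij
  exact ⟨e.symm.toAlgHom.comp (Ideal.Quotient.mkₐ K M)⟩

end Groth.Agent.H9.SCP
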