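import Mathlib
import Groth.Agent.Lib.Helper9.Misc.SCP1

/-! Helper9: nonempty smooth schemes over a separably closed field have rational points. -/

set_option linter.style.haveILetI false
set_option linter.unusedSectionVars false

namespace Groth.Agent.H9.SCP

universe u

open CategoryTheory CategoryTheory.Limits AlgebraicGeometry

/-- A nontrivial standard smooth algebra over a separably closed field has a rational point. -/
theorem exists_retraction_of_isStandardSmooth (K : Type u) [Field K] [IsSepClosed K]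
    (S : Type u) [CommRing S] [Nontrivial S] (f : K →+* S) (hf : f.IsStandardSmooth) :
    ∃ φ : S →+* K, φ.comp f = RingHom.id K := by
  obtain ⟨n, g, hgf, hg⟩ := hf.exists_etale_mvPolynomial
  algebraize [f]
  let g' : MvPolynomial (Fin n) K →ₐ[K] S :=
    { g with
      commutes' := fun c => by
        change g (MvPolynomial.C c) = f c
        rw [← hgf]
        rfl }
  obtain ⟨φ⟩ := exists_algHom_of_etale_mvPolynomial K n S g' hg
  refine ⟨φ.toRingHom, RingHom.ext fun c => ?_⟩
  exact φ.commutes c

/-- A nonempty smooth scheme over a separably closed field has a rational point. -/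
theorem exists_section_of_smooth (K : Type u) [Field K] [IsSepClosed K] {X : Scheme.{u}}
    (f : X ⟶ Spec (CommRingCat.of K)) [Smooth f] [Nonempty X] :
    ∃ s : Spec (CommRingCat.of K) ⟶ X, s ≫ f = 𝟙 _ := by
  obtain ⟨x⟩ := ‹Nonempty X›
  obtain ⟨U, hU, V, hV, hxV, e, hstd⟩ := Smooth.exists_isStandardSmooth f x
  have hUtop : U = ⊤ := by
    ext y
    simp only [TopologicalSpace.Opens.coe_top, Set.mem_univ, iff_true]
    have : y = f x := Subsingleton.elim _ _
    rw [this]
    exact e hxV
  subst hUtop
  have : Nontrivial Γ(X, V) := by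
    have : Nonempty V := ⟨⟨x, hxV⟩⟩
    infer_instance
  let f' : K →+* Γ(X, V) := (f.appLE ⊤ V e).hom.comp (Scheme.ΓSpecIso (CommRingCat.of K)).inv.hom
  have hf' : f'.IsStandardSmooth :=
    RingHom.isStandardSmooth_respectsIso.2 _
      (Scheme.ΓSpecIso (CommRingCat.of K)).symm.commRingCatIsoToRingEquiv hstd
  obtain ⟨φ, hφ⟩ := exists_retraction_of_isStandardSmooth K Γ(X, V) f' hf'
  refine ⟨Spec.map (CommRingCat.ofHom φ) ≫ hV.fromSpec, ?_⟩
  rw [Category.assoc, ← IsAffineOpen.SpecMap_appLE_fromSpec f (isAffineOpen_top _) hV e,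
    IsAffineOpen.fromSpec_top, Scheme.isoSpec_Spec_inv, ← Spec.map_comp, ← Spec.map_comp]
  have : ((Scheme.ΓSpecIso (CommRingCat.of K)).inv ≫ f.appLE ⊤ V e) ≫ CommRingCat.ofHom φ = 𝟙 _ := by
    ext c
    exact congrArg (fun ψ : K →+* K => ψ c) hφ
  rw [this, Spec.map_id]

end Groth.Agent.H9.SCP
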