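import Mathlib
import Groth.Prelude.Def_AlgGrp
import Groth.Agent.Lib.Helper9.Misc.SCP2
import Groth.Agent.H4.SmRed2

/-! Helper9: rational points are dense in smooth schemes over a separably closed field; a closed subscheme of a smooth k-scheme containing all K-points is everything. -/

set_option linter.style.haveILetI false
set_option linter.unusedSectionVars false

namespace Groth.Agent.H9.SCP

universe u

open CategoryTheory CategoryTheory.Limits AlgebraicGeometry MonoidalCategory
  CartesianMonoidalCategory MonObj

/-- Rational points are dense in a smooth scheme over a separably closed field. -/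
theorem exists_section_mem_of_smooth (K : Type u) [Field K] [IsSepClosed K] {X : Scheme.{u}}
    (f : X ⟶ Spec (CommRingCat.of K)) [Smooth f] (U : X.Opens) (hU : (U : Set X).Nonempty) :
    ∃ s : Spec (CommRingCat.of K) ⟶ X, s ≫ f = 𝟙 _ ∧ ∀ t, s t ∈ U := by
  obtain ⟨x, hx⟩ := hU
  have : Nonempty U.toScheme := ⟨⟨x, hx⟩⟩
  obtain ⟨s, hs⟩ := exists_section_of_smooth K (U.ι ≫ f)
  refine ⟨s ≫ U.ι, by rw [Category.assoc, hs], fun t => ?_⟩
  rw [Scheme.Hom.comp_apply]
  exact (s t).2

/-- The point of `pt K` notation: `Spec K` over `Spec k`. -/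
noncomputable abbrev ptK (k K : Type u) [Field k] [Field K] [Algebra k K] :
    Over (Spec (CommRingCat.of k)) :=
  Over.mk (Spec.map (CommRingCat.ofHom (algebraMap k K)))

/-- A closed subscheme of a smooth `k`-scheme containing all `K`-points (`K` separably closed)
is everything. -/
theorem isIso_of_forall_pts (k K : Type u) [Field k] [Field K] [Algebra k K] [IsSepClosed K]
    {X Z : Over (Spec (CommRingCat.of k))} [Smooth X.hom] (j : Z ⟶ X) [IsClosedImmersion j.left]
    (h : ∀ x : ptK k K ⟶ X, ∃ z : ptK k K ⟶ Z, z ≫ j = x) : IsIso j := by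
  let y := Spec.map (CommRingCat.ofHom (algebraMap k K))
  let p := pullback.fst X.hom y
  have hsm : Smooth (pullback.snd X.hom y) := inferInstance
  have hred : IsReduced (pullback X.hom y) :=
    Groth.Agent.H4.SmRed.isReduced_of_smooth_scheme (pullback.snd X.hom y)
  let jK := pullback.snd j.left p
  have hcl : IsClosedImmersion jK := inferInstance
  have hsurj : Surjective jK := by
    rw [surjective_iff, ← Set.range_eq_univ]
    have hclosed : IsClosed (Set.range jK) := jK.isClosedEmbedding.isClosed_range
    by_contra hne
    let U : (pullback X.hom y).Opens := ⟨(Set.range jK)ᶜ, hclosed.isOpen_compl⟩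
    have hU : (U : Set ↥(pullback X.hom y)).Nonempty := by
      exact Set.nonempty_compl.mpr hne
    obtain ⟨s, hs, hsU⟩ := exists_section_mem_of_smooth K (pullback.snd X.hom y) U hU
    -- the point `s` comes from a `K`-point of `X`
    let x : ptK k K ⟶ X := Over.homMk (s ≫ p) (by
      change (s ≫ p) ≫ X.hom = y
      rw [Category.assoc, pullback.condition, ← Category.assoc, hs, Category.id_comp])
    obtain ⟨z, hz⟩ := h x
    have hz' : z.left ≫ j.left = s ≫ p := congrArg (fun φ => φ.left) hz
    let w : Spec (CommRingCat.of K) ⟶ pullback j.left p := pullback.lift z.left s hz'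
    have hw : w ≫ jK = s := pullback.lift_snd _ _ _
    apply hsU (IsLocalRing.closedPoint K)
    rw [← hw, Scheme.Hom.comp_apply]
    exact Set.mem_range_self _
  have hiso : IsIso jK := isIso_of_isClosedImmersion_of_surjective jK
  have hy : Surjective y := ⟨fun x => ⟨IsLocalRing.closedPoint K, Subsingleton.elim _ _⟩⟩
  have hp : (@Surjective ⊓ @Flat ⊓ @QuasiCompact : MorphismProperty Scheme.{u}) p :=
    ⟨⟨inferInstance, inferInstance⟩, inferInstance⟩
  have : IsIso j.left :=
    MorphismProperty.of_isPullback_of_descendsAlong (P := MorphismProperty.isomorphisms Scheme.{u})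
      (Q := @Surjective ⊓ @Flat ⊓ @QuasiCompact) (IsPullback.of_hasPullback j.left p).flip hp hiso
  have : IsIso ((Over.forget _).map j) := this
  exact isIso_of_reflects_iso j (Over.forget _)

end Groth.Agent.H9.SCP
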