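import Mathlib

set_option autoImplicit false
set_option linter.style.haveILetI false
set_option linter.unusedSectionVars false
set_option linter.unusedVariables false

namespace Groth.Agent.H9.WAP

universe u

section One

variable {K : Type u} [Field K] (A : ValuationSubring K) [IsDiscreteValuationRing A]
  (ϖ : A) (hϖ : Irreducible ϖ)

include hϖ in
theorem c_lt_one : A.valuation (ϖ : K) < 1 := by
  rw [← ValuationSubring.valuation_lt_one_iff]
  exact (IsLocalRing.mem_maximalIdeal _).mpr hϖ.not_isUnit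

include hϖ in
theorem c_ne_zero : A.valuation (ϖ : K) ≠ 0 := by
  rw [Valuation.ne_zero_iff]
  intro h
  exact hϖ.ne_zero (Subtype.ext h)

include hϖ in
theorem c_pos : 0 < A.valuation (ϖ : K) := zero_lt_iff.mpr (c_ne_zero A ϖ hϖ)

include hϖ in
theorem exists_zpow (x : K) (hx : x ≠ 0) : ∃ n : ℤ, A.valuation x = A.valuation (ϖ : K) ^ n := by
  have key : ∀ y : K, y ≠ 0 → y ∈ A → ∃ n : ℕ, A.valuation y = A.valuation (ϖ : K) ^ n := by
    intro y hy hyA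
    have hy' : (⟨y, hyA⟩ : A) ≠ 0 := fun h => hy (congrArg Subtype.val h)
    obtain ⟨n, u, hu⟩ := IsDiscreteValuationRing.eq_unit_mul_pow_irreducible hy' hϖ
    refine ⟨n, ?_⟩
    have h1 : y = ((u : A) : K) * (ϖ : K) ^ n := by
      have := congrArg Subtype.val hu
      simpa using this
    rw [h1, map_mul, map_pow, ValuationSubring.valuation_unit, one_mul]
  rcases A.mem_or_inv_mem x with h | h
  · obtain ⟨n, hn⟩ := key x hx h
    exact ⟨n, by rw [hn, zpow_natCast]⟩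
  · obtain ⟨n, hn⟩ := key x⁻¹ (inv_ne_zero hx) h
    refine ⟨-n, ?_⟩
    rw [zpow_neg, zpow_natCast, ← hn, map_inv₀, inv_inv]

include hϖ in
theorem zpow_le_iff (a b : ℤ) :
    A.valuation (ϖ : K) ^ a ≤ A.valuation (ϖ : K) ^ b ↔ b ≤ a :=
  zpow_le_zpow_iff_right_of_lt_one₀ (c_pos A ϖ hϖ) (c_lt_one A ϖ hϖ)

include hϖ in
theorem zpow_lt_iff (a b : ℤ) :
    A.valuation (ϖ : K) ^ a < A.valuation (ϖ : K) ^ b ↔ b < a :=
  zpow_lt_zpow_iff_right_of_lt_one₀ (c_pos A ϖ hϖ) (c_lt_one A ϖ hϖ)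

include hϖ in
theorem le_c_of_lt_one (x : K) (hx : A.valuation x < 1) : A.valuation x ≤ A.valuation (ϖ : K) := by
  by_cases h0 : x = 0
  · rw [h0, map_zero]; exact zero_le
  obtain ⟨n, hn⟩ := exists_zpow A ϖ hϖ x h0
  rw [hn] at hx ⊢
  rw [zpow_lt_one_iff_right_of_lt_one₀ (c_pos A ϖ hϖ) (c_lt_one A ϖ hϖ)] at hx
  calc A.valuation (ϖ : K) ^ n ≤ A.valuation (ϖ : K) ^ (1 : ℤ) :=
        (zpow_le_iff A ϖ hϖ n 1).mpr (by omega)
    _ = A.valuation (ϖ : K) := zpow_one _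

include hϖ in
theorem c_inv_le_of_one_lt (x : K) (hx : 1 < A.valuation x) :
    (A.valuation (ϖ : K))⁻¹ ≤ A.valuation x := by
  have h0 : x ≠ 0 := by
    rintro rfl
    rw [map_zero] at hx
    exact not_lt_of_ge zero_le hx
  obtain ⟨n, hn⟩ := exists_zpow A ϖ hϖ x h0
  rw [hn] at hx ⊢
  rw [one_lt_zpow_iff_right_of_lt_one₀ (c_pos A ϖ hϖ) (c_lt_one A ϖ hϖ)] at hx
  calc (A.valuation (ϖ : K))⁻¹ = A.valuation (ϖ : K) ^ (-1 : ℤ) := by rw [zpow_neg, zpow_one]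
    _ ≤ A.valuation (ϖ : K) ^ n := (zpow_le_iff A ϖ hϖ (-1) n).mpr (by omega)

include hϖ in
/-- an element of valuation `c ^ n` is a unit times `ϖ ^ n` -/
theorem eq_unit_mul_zpow (x : K) (n : ℤ) (hx : A.valuation x = A.valuation (ϖ : K) ^ n) :
    ∃ w : Aˣ, x = ((w : A) : K) * (ϖ : K) ^ n := by
  have hϖ0 : (ϖ : K) ≠ 0 := fun h => hϖ.ne_zero (Subtype.ext h)
  have h1 : A.valuation (x * ((ϖ : K) ^ n)⁻¹) = 1 := by
    rw [map_mul, map_inv₀, map_zpow₀, hx]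
    exact mul_inv_cancel₀ (zpow_ne_zero _ (c_ne_zero A ϖ hϖ))
  have hmem : x * ((ϖ : K) ^ n)⁻¹ ∈ A := (A.valuation_le_one_iff _).mp h1.le
  have hunit : IsUnit (⟨_, hmem⟩ : A) := (A.valuation_eq_one_iff _).mpr h1
  refine ⟨hunit.unit, ?_⟩
  show x = x * ((ϖ : K) ^ n)⁻¹ * (ϖ : K) ^ n
  rw [inv_mul_cancel_right₀ (zpow_ne_zero _ hϖ0)]

end One

end Groth.Agent.H9.WAP
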