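import Mathlib
import Groth.Agent.Lib.Helper9.Misc.WAP1

set_option autoImplicit false
set_option linter.style.haveILetI false
set_option linter.unusedSectionVars false
set_option linter.unusedVariables false

namespace Groth.Agent.H9.WAP

universe u

section Many

variable {K : Type u} [Field K] {r : ℕ} (O : Fin r → ValuationSubring K)
  [hO : ∀ i, IsDiscreteValuationRing (O i)] (hinj : Function.Injective O)
  (ϖ : ∀ i, O i) (hϖ : ∀ i, Irreducible (ϖ i))

theorem zpow_mem_of_inv_mem (A : ValuationSubring K) (p : K) (hp : p ∈ A) (hp' : p⁻¹ ∈ A) (m : ℤ) :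
    p ^ m ∈ A := by
  rcases Int.le_total 0 m with h | h
  · obtain ⟨n, rfl⟩ := Int.eq_ofNat_of_zero_le h
    rw [zpow_natCast]
    exact pow_mem hp n
  · obtain ⟨n, hn⟩ := Int.eq_ofNat_of_zero_le (neg_nonneg.mpr h)
    have : m = -(n : ℤ) := by omega
    rw [this, zpow_neg, zpow_natCast, ← inv_pow]
    exact pow_mem hp' n

include hinj hϖ in
theorem not_subring_le (i j : Fin r) (hij : i ≠ j) : ¬ O i ≤ O j := by
  intro hle
  have hne : O i ≠ O j := fun h => hij (hinj h)
  have hnle : ¬ O j ≤ O i := fun h => hne (le_antisymm hle h)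
  obtain ⟨x, hxj, hxi⟩ := SetLike.not_le_iff_exists.mp hnle
  have hx0 : x ≠ 0 := by
    rintro rfl
    exact hxi (zero_mem _)
  have hvx : 1 < (O i).valuation x := by
    rw [← _root_.not_le, (O i).valuation_le_one_iff]
    exact hxi
  obtain ⟨n, hn⟩ := exists_zpow (O i) (ϖ i) (hϖ i) x hx0
  have hn0 : n < 0 := by
    rw [hn, one_lt_zpow_iff_right_of_lt_one₀ (c_pos _ _ (hϖ i)) (c_lt_one _ _ (hϖ i))] at hvx
    exact hvx
  obtain ⟨w, hw⟩ := eq_unit_mul_zpow (O i) (ϖ i) (hϖ i) x n hn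
  have hp0 : ((ϖ i : O i) : K) ≠ 0 := fun h => (hϖ i).ne_zero (Subtype.ext h)
  -- p ^ n ∈ O j
  have hpn : ((ϖ i : O i) : K) ^ n ∈ O j := by
    have h1 : ((ϖ i : O i) : K) ^ n = (((w⁻¹ : (O i)ˣ) : O i) : K) * x := by
      rw [hw, ← mul_assoc]
      have : (((w⁻¹ : (O i)ˣ) : O i) : K) * ((w : O i) : K) = 1 := by
        have h2 : ((w⁻¹ : (O i)ˣ) : O i) * (w : O i) = 1 := Units.inv_mul w
        have h3 : (((w⁻¹ : (O i)ˣ) : O i) : K) * ((w : O i) : K) = ((1 : O i) : K) := by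
          rw [← h2]; rfl
        rw [h3]; rfl
      rw [this, one_mul]
    rw [h1]
    exact mul_mem (hle (Subtype.mem _)) hxj
  have hpinv : ((ϖ i : O i) : K)⁻¹ ∈ O j := by
    have h1 : ((ϖ i : O i) : K)⁻¹ = ((ϖ i : O i) : K) ^ (-n - 1).toNat * ((ϖ i : O i) : K) ^ n := by
      rw [← zpow_natCast, ← zpow_add₀ hp0, ← zpow_neg_one]
      congr 1
      omega
    rw [h1]
    exact mul_mem (pow_mem (hle (Subtype.mem _)) _) hpn
  -- now ϖ j is a unit
  have hq0 : ((ϖ j : O j) : K) ≠ 0 := fun h => (hϖ j).ne_zero (Subtype.ext h)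
  obtain ⟨m, hm⟩ := exists_zpow (O i) (ϖ i) (hϖ i) ((ϖ j : O j) : K)⁻¹ (inv_ne_zero hq0)
  obtain ⟨w', hw'⟩ := eq_unit_mul_zpow (O i) (ϖ i) (hϖ i) _ m hm
  have hmem : ((ϖ j : O j) : K)⁻¹ ∈ O j := by
    rw [hw']
    exact mul_mem (hle (Subtype.mem _)) (zpow_mem_of_inv_mem _ _ (hle (Subtype.mem _)) hpinv m)
  apply (hϖ j).not_isUnit
  refine IsUnit.of_mul_eq_one ⟨_, hmem⟩ ?_
  apply Subtype.ext
  show ((ϖ j : O j) : K) * ((ϖ j : O j) : K)⁻¹ = 1
  exact mul_inv_cancel₀ hq0

include hinj hϖ in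
theorem exists_sep (i j : Fin r) (hij : i ≠ j) :
    ∃ u : K, (O i).valuation u < 1 ∧ 1 < (O j).valuation u := by
  obtain ⟨a, hai, haj⟩ := SetLike.not_le_iff_exists.mp (not_subring_le O hinj ϖ hϖ i j hij)
  obtain ⟨b, hbj, hbi⟩ := SetLike.not_le_iff_exists.mp (not_subring_le O hinj ϖ hϖ j i (Ne.symm hij))
  have h1 : (O i).valuation a ≤ 1 := ((O i).valuation_le_one_iff a).mpr hai
  have h2 : 1 < (O i).valuation b := by
    rw [← _root_.not_le, (O i).valuation_le_one_iff]; exact hbi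
  have h3 : (O j).valuation b ≤ 1 := ((O j).valuation_le_one_iff b).mpr hbj
  have h4 : 1 < (O j).valuation a := by
    rw [← _root_.not_le, (O j).valuation_le_one_iff]; exact haj
  refine ⟨a * b⁻¹, ?_, ?_⟩
  · rw [map_mul, map_inv₀, mul_inv_lt_iff₀ (lt_trans zero_lt_one h2), one_mul]
    exact lt_of_le_of_lt h1 h2
  · have hb0 : 0 < (O j).valuation b := by
      rw [zero_lt_iff, Valuation.ne_zero_iff]
      rintro rfl
      exact hbi (zero_mem _)
    rw [map_mul, map_inv₀, lt_mul_inv_iff₀ hb0, one_mul]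
    exact lt_of_le_of_lt h3 h4

theorem bad_finite {Γ : Type*} [LinearOrderedCommGroupWithZero Γ] (x a : Γ) (ha : 1 < a) :
    {s : ℕ | x ^ s = a}.Finite := by
  apply Set.Subsingleton.finite
  intro s hs t ht
  simp only [Set.mem_ofPred_eq] at hs ht
  have hx0 : x ≠ 0 := by
    rintro rfl
    rcases Nat.eq_zero_or_pos s with h | h
    · rw [h, pow_zero] at hs
      exact ha.ne hs
    · rw [zero_pow h.ne'] at hs
      rw [← hs] at ha
      exact not_lt_of_ge zero_le ha
  have hx1 : x ≠ 1 := by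
    rintro rfl
    rw [one_pow] at hs
    exact ha.ne hs
  exact pow_right_injective₀ (zero_lt_iff.mpr hx0) hx1 (hs.trans ht.symm)

include hinj hϖ in
theorem exists_sep_set (i : Fin r) (S : Finset (Fin r)) (hS : i ∉ S) :
    ∃ u : K, (O i).valuation u < 1 ∧ ∀ j ∈ S, 1 < (O j).valuation u := by
  classical
  induction S using Finset.induction_on with
  | empty =>
    exact ⟨((ϖ i : O i) : K), c_lt_one _ _ (hϖ i), fun j hj => absurd hj (Finset.notMem_empty j)⟩
  | insert j₀ S hj₀ ih =>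
    have hiS : i ∉ S := fun h => hS (Finset.mem_insert_of_mem h)
    have hij₀ : i ≠ j₀ := fun h => hS (h ▸ Finset.mem_insert_self _ _)
    obtain ⟨u, hu1, hu2⟩ := ih hiS
    obtain ⟨w, hw1, hw2⟩ := exists_sep O hinj ϖ hϖ i j₀ hij₀
    by_cases hcase : 1 < (O j₀).valuation u
    · refine ⟨u, hu1, fun j hj => ?_⟩
      rcases Finset.mem_insert.mp hj with rfl | hj
      · exact hcase
      · exact hu2 j hj
    · push Not at hcase
      -- choose s
      have hfin : (⋃ j ∈ S, {s : ℕ | (O j).valuation w ^ s = (O j).valuation u}).Finite :=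
        Set.Finite.biUnion S.finite_toSet (fun j hj => bad_finite _ _ (hu2 j hj))
      obtain ⟨B, hB⟩ := hfin.bddAbove
      have hs : ∀ j ∈ S, (O j).valuation w ^ (B + 1) ≠ (O j).valuation u := by
        intro j hj heq
        have : B + 1 ∈ ⋃ j ∈ S, {s : ℕ | (O j).valuation w ^ s = (O j).valuation u} := by
          simp only [Set.mem_iUnion, Set.mem_ofPred_eq]
          exact ⟨j, hj, heq⟩
        have := hB this
        omega
      refine ⟨u + w ^ (B + 1), ?_, fun j hj => ?_⟩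
      · refine lt_of_le_of_lt (Valuation.map_add _ _ _) (max_lt hu1 ?_)
        rw [map_pow]
        exact pow_lt_one₀ zero_le hw1 (Nat.succ_ne_zero B)
      · rcases Finset.mem_insert.mp hj with rfl | hj
        · have h1 : 1 < (O j).valuation (w ^ (B + 1)) := by
            rw [map_pow]
            exact one_lt_pow₀ hw2 (Nat.succ_ne_zero B)
          rw [Valuation.map_add_eq_of_lt_right _ (lt_of_le_of_lt hcase h1)]
          exact h1
        · have hne : (O j).valuation u ≠ (O j).valuation (w ^ (B + 1)) := by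
            rw [map_pow]
            exact fun h => hs j hj h.symm
          rw [Valuation.map_add_of_distinct_val _ hne]
          exact lt_of_lt_of_le (hu2 j hj) (le_max_left _ _)

include hinj hϖ in
theorem exists_near_one (i : Fin r) (N : ℕ) :
    ∃ z : K, (O i).valuation (z - 1) ≤ (O i).valuation ((ϖ i : O i) : K) ^ N ∧
      ∀ j, j ≠ i → (O j).valuation z ≤ (O j).valuation ((ϖ j : O j) : K) ^ N := by
  classical
  obtain ⟨u, hu1, hu2⟩ := exists_sep_set O hinj ϖ hϖ i (Finset.univ.erase i)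
    (Finset.notMem_erase i _)
  set m := N + 1 with hm
  have hm0 : m ≠ 0 := Nat.succ_ne_zero N
  have hum : (O i).valuation (u ^ m) < 1 := by
    rw [map_pow]; exact pow_lt_one₀ zero_le hu1 hm0
  have h1 : (O i).valuation (1 + u ^ m) = 1 := by
    rw [Valuation.map_add_eq_of_lt_left _ (by rw [map_one]; exact hum), map_one]
  have hne : (1 + u ^ m) ≠ 0 := by
    intro h
    rw [h, map_zero] at h1
    exact zero_ne_one h1
  refine ⟨(1 + u ^ m)⁻¹, ?_, ?_⟩
  · have : (1 + u ^ m)⁻¹ - 1 = -(u ^ m) * (1 + u ^ m)⁻¹ := by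
      field_simp
      ring
    rw [this, map_mul, map_inv₀, h1, inv_one, mul_one, Valuation.map_neg, map_pow]
    have hle := le_c_of_lt_one (O i) (ϖ i) (hϖ i) u hu1
    calc (O i).valuation u ^ m ≤ (O i).valuation ((ϖ i : O i) : K) ^ m := pow_le_pow_left₀ zero_le hle m
      _ ≤ (O i).valuation ((ϖ i : O i) : K) ^ N :=
        pow_le_pow_of_le_one zero_le (c_lt_one _ _ (hϖ i)).le (Nat.le_succ N)
  · intro j hj
    have huj : 1 < (O j).valuation u := hu2 j (Finset.mem_erase.mpr ⟨hj, Finset.mem_univ j⟩)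
    have hle := c_inv_le_of_one_lt (O j) (ϖ j) (hϖ j) u huj
    have hum' : 1 < (O j).valuation (u ^ m) := by
      rw [map_pow]; exact one_lt_pow₀ huj hm0
    have h2 : (O j).valuation (1 + u ^ m) = (O j).valuation (u ^ m) :=
      Valuation.map_add_eq_of_lt_right _ (by rw [map_one]; exact hum')
    rw [map_inv₀, h2, map_pow]
    have hc0 := c_pos (O j) (ϖ j) (hϖ j)
    have h3 : ((O j).valuation ((ϖ j : O j) : K) ^ m)⁻¹ ≤ (O j).valuation u ^ m := by
      rw [← inv_pow]
      exact pow_le_pow_left₀ zero_le hle m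
    calc ((O j).valuation u ^ m)⁻¹ ≤ (((O j).valuation ((ϖ j : O j) : K) ^ m)⁻¹)⁻¹ :=
          inv_anti₀ (inv_pos.mpr (pow_pos hc0 m)) h3
      _ = (O j).valuation ((ϖ j : O j) : K) ^ m := inv_inv _
      _ ≤ (O j).valuation ((ϖ j : O j) : K) ^ N :=
        pow_le_pow_of_le_one zero_le (c_lt_one _ _ (hϖ j)).le (Nat.le_succ N)

include hϖ in
theorem exists_bound (i : Fin r) (x : K) :
    ∃ M : ℕ, (O i).valuation x * (O i).valuation ((ϖ i : O i) : K) ^ M ≤ 1 := by
  by_cases hx : x = 0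
  · exact ⟨0, by rw [hx, map_zero, zero_mul]; exact zero_le⟩
  obtain ⟨t, ht⟩ := exists_zpow (O i) (ϖ i) (hϖ i) x hx
  refine ⟨(-t).toNat, ?_⟩
  rw [ht, ← zpow_natCast, ← zpow_add₀ (c_ne_zero _ _ (hϖ i)),
    zpow_le_one_iff_right_of_lt_one₀ (c_pos _ _ (hϖ i)) (c_lt_one _ _ (hϖ i))]
  omega

include hinj hϖ in
theorem weak_approx (g : Fin r → K) (N : ℕ) :
    ∃ f : K, ∀ i, (O i).valuation (f - g i) ≤ (O i).valuation ((ϖ i : O i) : K) ^ N := by
  classical
  choose Mfun hMfun using fun (ij : Fin r × Fin r) => exists_bound O ϖ hϖ ij.1 (g ij.2)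
  set M := ∑ ij : Fin r × Fin r, Mfun ij with hM
  have hMle : ∀ ij, Mfun ij ≤ M := fun ij =>
    Finset.single_le_sum (fun _ _ => Nat.zero_le _) (Finset.mem_univ ij)
  have hbound : ∀ i j, (O i).valuation (g j) * (O i).valuation ((ϖ i : O i) : K) ^ M ≤ 1 := by
    intro i j
    refine le_trans ?_ (hMfun (i, j))
    exact mul_le_mul_right (pow_le_pow_of_le_one zero_le (c_lt_one _ _ (hϖ i)).le (hMle (i, j))) _
  choose z hz1 hz2 using fun i => exists_near_one O hinj ϖ hϖ i (N + M)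
  refine ⟨∑ j, z j * g j, fun i => ?_⟩
  have hsum : ∑ j, z j * g j - g i = ∑ j, (z j - if j = i then 1 else 0) * g j := by
    simp only [sub_mul, Finset.sum_sub_distrib, ite_mul, one_mul, zero_mul,
      Finset.sum_ite_eq', Finset.mem_univ, if_true]
  rw [hsum]
  apply Valuation.map_sum_le
  intro j _
  rw [map_mul]
  have hterm : ∀ y : K, (O i).valuation y ≤ (O i).valuation ((ϖ i : O i) : K) ^ (N + M) →
      (O i).valuation y * (O i).valuation (g j) ≤ (O i).valuation ((ϖ i : O i) : K) ^ N := by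
    intro y hy
    calc (O i).valuation y * (O i).valuation (g j)
        ≤ (O i).valuation ((ϖ i : O i) : K) ^ (N + M) * (O i).valuation (g j) :=
          mul_le_mul_left hy _
      _ = (O i).valuation ((ϖ i : O i) : K) ^ N *
            ((O i).valuation (g j) * (O i).valuation ((ϖ i : O i) : K) ^ M) := by
          rw [pow_add, mul_assoc, mul_comm (_ ^ M)]
      _ ≤ (O i).valuation ((ϖ i : O i) : K) ^ N * 1 := mul_le_mul_right (hbound i j) _
      _ = _ := mul_one _
  apply hterm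
  by_cases hji : j = i
  · subst hji
    rw [if_pos rfl]
    exact hz1 j
  · rw [if_neg hji, sub_zero]
    exact hz2 j i (Ne.symm hji)

include hinj hϖ in
theorem approx_exact (fs : Fin r → K) (n : Fin r → ℤ) :
    ∃ f : K, ∀ i : Fin r, ∃ w : (O i)ˣ,
      f - fs i = ((w : O i) : K) * (((ϖ i : O i) : K) ^ (n i)) := by
  set N := ∑ i, ((n i).toNat + 1) with hNdef
  have hN : ∀ i, n i < (N : ℤ) := by
    intro i
    have h1 : (n i).toNat + 1 ≤ N :=
      Finset.single_le_sum (f := fun i => (n i).toNat + 1) (fun _ _ => Nat.zero_le _)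
        (Finset.mem_univ i)
    have h2 : n i ≤ ((n i).toNat : ℤ) := Int.self_le_toNat (n i)
    omega
  obtain ⟨f, hf⟩ := weak_approx O hinj ϖ hϖ (fun i => fs i + ((ϖ i : O i) : K) ^ (n i)) N
  refine ⟨f, fun i => ?_⟩
  apply eq_unit_mul_zpow (O i) (ϖ i) (hϖ i)
  have hsplit : f - fs i = ((ϖ i : O i) : K) ^ (n i) + (f - (fs i + ((ϖ i : O i) : K) ^ (n i))) := by
    ring
  have hlt : (O i).valuation (f - (fs i + ((ϖ i : O i) : K) ^ (n i))) <
      (O i).valuation (((ϖ i : O i) : K) ^ (n i)) := by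
    calc (O i).valuation (f - (fs i + ((ϖ i : O i) : K) ^ (n i)))
        ≤ (O i).valuation ((ϖ i : O i) : K) ^ N := hf i
      _ = (O i).valuation ((ϖ i : O i) : K) ^ (N : ℤ) := (zpow_natCast _ _).symm
      _ < (O i).valuation ((ϖ i : O i) : K) ^ (n i) := (zpow_lt_iff _ _ (hϖ i) _ _).mpr (hN i)
      _ = (O i).valuation (((ϖ i : O i) : K) ^ (n i)) := (map_zpow₀ _ _ _).symm
  rw [hsplit, Valuation.map_add_eq_of_lt_left _ hlt, map_zpow₀]

end Many

theorem main (K : Type u) [Field K] {r : ℕ} (O : Fin r → ValuationSubring K)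
    (hO : ∀ i, IsDiscreteValuationRing (O i)) (hinj : Function.Injective O)
    (fs : Fin r → K) (n : Fin r → ℤ) :
    ∃ f : K, ∀ i : Fin r, ∃ (ϖ : O i) (_ : Irreducible ϖ) (w : (O i)ˣ),
      f - fs i = ((w : O i) : K) * ((ϖ : K) ^ (n i)) := by
  haveI := hO
  choose ϖ hϖ using fun i => IsDiscreteValuationRing.exists_irreducible (O i)
  obtain ⟨f, hf⟩ := approx_exact O hinj ϖ hϖ fs n
  refine ⟨f, fun i => ?_⟩
  obtain ⟨w, hw⟩ := hf i
  exact ⟨ϖ i, hϖ i, w, hw⟩

end Groth.Agent.H9.WAP
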