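import Mathlib

/-! Helper9: existence of cofiltered limits of schemes with affine transition morphisms
(S2151, EGA IV 8.2.3 / Stacks 01YX). -/

set_option linter.style.haveILetI false
set_option linter.unusedSectionVars false
set_option linter.unusedVariables false
set_option backward.isDefEq.respectTransparency false

universe u
open CategoryTheory Limits AlgebraicGeometry TopologicalSpace Opposite

namespace Groth.Agent.H9.GLM

section Aff

/-- a small diagram of affine schemes has a limit in schemes. -/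
theorem hasLimit_of_forall_isAffine {J : Type u} [SmallCategory J] (F : J ⥤ Scheme.{u})
    [∀ j, IsAffine (F.obj j)] : HasLimit F := by
  let G : J ⥤ CommRingCatᵒᵖ := F ⋙ Scheme.Γ.rightOp
  have e : F ≅ G ⋙ Scheme.Spec := NatIso.ofComponents (fun j => (F.obj j).isoSpec) (by
    intro j k f
    exact (Scheme.isoSpec_hom_naturality (F.map f)).symm)
  haveI : HasLimit (G ⋙ Scheme.Spec) :=
    ⟨⟨⟨_, isLimitOfPreserves Scheme.Spec (limit.isLimit G)⟩⟩⟩
  exact hasLimit_of_iso e.symm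

end Aff

section Lim
variable {I : Type u} [SmallCategory I] [IsCofiltered I] (D : I ⥤ Scheme.{u})
  [∀ {i j : I} (f : i ⟶ j), IsAffineHom (D.map f)] (i₀ : I)

/-- the transition between the restricted diagrams. -/
noncomputable def opensDiagramHomOfLE {U V : (D.obj i₀).Opens} (h : U ≤ V) :
    opensDiagram D i₀ U ⟶ opensDiagram D i₀ V where
  app j := (D.obj j.left).homOfLE ((D.map j.hom).preimage_mono h)
  naturality j k f := by
    rw [← cancel_mono (Scheme.Opens.ι _)]
    simp [Scheme.Hom.resLE_comp_ι]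

instance (U : (D.obj i₀).affineOpens) (j : Over i₀) :
    IsAffine ((opensDiagram D i₀ U.1).obj j) :=
  U.2.preimage (D.map j.hom)

instance (U : (D.obj i₀).affineOpens) : HasLimit (opensDiagram D i₀ U.1) :=
  hasLimit_of_forall_isAffine _

/-- the local limits. -/
noncomputable def Lf : (D.obj i₀).affineOpens ⥤ Scheme.{u} where
  obj U := limit (opensDiagram D i₀ U.1)
  map f := limMap (opensDiagramHomOfLE D i₀ (leOfHom f))
  map_id U := by
    apply limit.hom_ext
    intro j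
    simp only [limMap_π, Category.id_comp]
    have : (opensDiagramHomOfLE D i₀ (leOfHom (𝟙 U))).app j = 𝟙 _ :=
      Scheme.homOfLE_rfl _ _
    rw [this, Category.comp_id]
  map_comp f g := by
    apply limit.hom_ext
    intro j
    simp only [limMap_π, Category.assoc, limMap_π_assoc]
    congr 1
    exact (Scheme.homOfLE_homOfLE _ ((D.map j.hom).preimage_mono (leOfHom f))
      ((D.map j.hom).preimage_mono (leOfHom g))).symm


/-- the terminal object of `Over i₀`. -/
abbrev t₀ : Over i₀ := Over.mk (𝟙 i₀)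

/-- the canonical map to the terminal object. -/
abbrev toT₀ (j : Over i₀) : j ⟶ t₀ i₀ := Over.homMk j.hom (by simp)

/-- the projection of a local limit to a stage, followed by the inclusion. -/
noncomputable def πι (U : (D.obj i₀).affineOpens) (j : Over i₀) :
    (Lf D i₀).obj U ⟶ D.obj j.left :=
  limit.π (opensDiagram D i₀ U.1) j ≫ (D.map j.hom ⁻¹ᵁ U.1).ι

theorem πι_map (U : (D.obj i₀).affineOpens) {j k : Over i₀} (f : j ⟶ k) :
    πι D i₀ U j ≫ D.map f.left = πι D i₀ U k := by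
  have h1 := limit.w (opensDiagram D i₀ U.1) f
  simp only [πι, Category.assoc]
  rw [← h1, Category.assoc]
  congr 1
  simp [Scheme.Hom.resLE_comp_ι]

theorem Lf_map_πι {U V : (D.obj i₀).affineOpens} (f : U ⟶ V) (j : Over i₀) :
    (Lf D i₀).map f ≫ πι D i₀ V j = πι D i₀ U j := by
  simp only [πι, Lf, limMap_π_assoc]
  congr 1
  exact Scheme.homOfLE_ι _ ((D.map j.hom).preimage_mono (leOfHom f))

theorem range_πι_subset (U : (D.obj i₀).affineOpens) :
    Set.range (πι D i₀ U (t₀ i₀) ≫ D.map (t₀ i₀).hom) ⊆ Set.range U.1.ι := by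
  rintro _ ⟨x, rfl⟩
  rw [Scheme.Opens.range_ι]
  unfold πι
  exact ((limit.π (opensDiagram D i₀ U.1) (t₀ i₀)) x).2

/-- the structure map of a local limit. -/
noncomputable def ν (U : (D.obj i₀).affineOpens) : (Lf D i₀).obj U ⟶ (U.1 : Scheme.{u}) :=
  IsOpenImmersion.lift U.1.ι (πι D i₀ U (t₀ i₀) ≫ D.map (t₀ i₀).hom) (range_πι_subset D i₀ U)

theorem ν_ι (U : (D.obj i₀).affineOpens) (j : Over i₀) :
    ν D i₀ U ≫ U.1.ι = πι D i₀ U j ≫ D.map j.hom := by
  rw [ν, IsOpenImmersion.lift_fac, ← πι_map D i₀ U (toT₀ i₀ j), Category.assoc]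
  congr 1
  change D.map j.hom ≫ D.map (𝟙 i₀) = D.map j.hom
  rw [D.map_id, Category.comp_id]

theorem Lf_map_ν {U V : (D.obj i₀).affineOpens} (f : U ⟶ V) :
    (Lf D i₀).map f ≫ ν D i₀ V = ν D i₀ U ≫ (D.obj i₀).homOfLE (leOfHom f) := by
  rw [← cancel_mono V.1.ι, Category.assoc, Category.assoc, Scheme.homOfLE_ι,
    ν_ι D i₀ V (t₀ i₀), ν_ι D i₀ U (t₀ i₀), ← Category.assoc, Lf_map_πι]


theorem Lf_hom_ext {T : Scheme.{u}} (U : (D.obj i₀).affineOpens) (x y : T ⟶ (Lf D i₀).obj U)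
    (h : ∀ j, x ≫ πι D i₀ U j = y ≫ πι D i₀ U j) : x = y := by
  apply limit.hom_ext
  intro j
  rw [← cancel_mono (D.map j.hom ⁻¹ᵁ U.1).ι, Category.assoc, Category.assoc]
  exact h j


/-- the natural transformation to the affine cover. -/
noncomputable def νNat :
    Lf D i₀ ⟶ (D.obj i₀).directedAffineCover.functorOfLocallyDirected where
  app U := ν D i₀ U
  naturality U V f := by
    change (Lf D i₀).map f ≫ ν D i₀ V = ν D i₀ U ≫ (D.obj i₀).directedAffineCover.trans f
    rw [Lf_map_ν]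
    rfl

section Equi
variable {D i₀}
variable {U V : (D.obj i₀).affineOpens} (f : U ⟶ V) {T : Scheme.{u}}
  (a : T ⟶ (Lf D i₀).obj V) (b : T ⟶ (U.1 : Scheme.{u}))
  (hab : a ≫ ν D i₀ V = b ≫ (D.obj i₀).homOfLE (leOfHom f))

include hab in
theorem range_subset_of_pair (j : Over i₀) :
    Set.range (a ≫ πι D i₀ V j) ⊆ Set.range (D.map j.hom ⁻¹ᵁ U.1).ι := by
  rintro _ ⟨t, rfl⟩
  rw [Scheme.Opens.range_ι]
  change D.map j.hom ((a ≫ πι D i₀ V j) t) ∈ U.1
  have h1 : (a ≫ πι D i₀ V j ≫ D.map j.hom) = b ≫ U.1.ι := by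
    rw [← ν_ι D i₀ V j, ← Category.assoc, hab, Category.assoc, Scheme.homOfLE_ι]
  have h2 : D.map j.hom ((a ≫ πι D i₀ V j) t) = (b ≫ U.1.ι) t := by
    rw [← h1]; rfl
  rw [h2]
  exact (b t).2

/-- the cone defined by a compatible pair. -/
noncomputable def pairCone : Cone (opensDiagram D i₀ U.1) where
  pt := T
  π :=
    { app := fun j => IsOpenImmersion.lift (D.map j.hom ⁻¹ᵁ U.1).ι (a ≫ πι D i₀ V j)
        (range_subset_of_pair f a b hab j)
      naturality := by
        intro j k g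
        rw [← cancel_mono (D.map k.hom ⁻¹ᵁ U.1).ι]
        simp only [Functor.const_obj_obj, Functor.const_obj_map, Category.id_comp, Category.assoc,
          opensDiagram_map, Scheme.Hom.resLE_comp_ι, IsOpenImmersion.lift_fac,
          IsOpenImmersion.lift_fac_assoc]
        rw [πι_map] }


/-- the lift of a compatible pair. -/
noncomputable def pairLift : T ⟶ (Lf D i₀).obj U := limit.lift _ (pairCone f a b hab)

theorem pairLift_πι (j : Over i₀) : pairLift f a b hab ≫ πι D i₀ U j = a ≫ πι D i₀ V j := by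
  simp only [pairLift, πι, limit.lift_π_assoc, pairCone]
  exact IsOpenImmersion.lift_fac _ _ _

theorem pairLift_map : pairLift f a b hab ≫ (Lf D i₀).map f = a := by
  refine Lf_hom_ext D i₀ V _ _ (fun j => ?_)
  rw [Category.assoc, Lf_map_πι, pairLift_πι]

theorem pairLift_ν : pairLift f a b hab ≫ ν D i₀ U = b := by
  rw [← cancel_mono U.1.ι, Category.assoc, ν_ι D i₀ U (t₀ i₀), ← Category.assoc, pairLift_πι,
    Category.assoc, ← ν_ι D i₀ V (t₀ i₀), ← Category.assoc, hab, Category.assoc, Scheme.homOfLE_ι]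

theorem pairLift_uniq (m : T ⟶ (Lf D i₀).obj U) (hm : m ≫ (Lf D i₀).map f = a) :
    m = pairLift f a b hab := by
  refine Lf_hom_ext D i₀ U _ _ (fun j => ?_)
  rw [pairLift_πι, ← hm, Category.assoc, Lf_map_πι]

end Equi

theorem νNat_equifibered : NatTrans.Equifibered (νNat D i₀) := by
  intro U V f
  change IsPullback ((Lf D i₀).map f) (ν D i₀ U) (ν D i₀ V)
    ((D.obj i₀).directedAffineCover.trans f)
  have htr : (D.obj i₀).directedAffineCover.trans f = (D.obj i₀).homOfLE (leOfHom f) := rfl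
  rw [htr]
  refine ⟨⟨Lf_map_ν D i₀ f⟩, ⟨PullbackCone.IsLimit.mk _
    (fun s => pairLift f s.fst s.snd s.condition) ?_ ?_ ?_⟩⟩
  · intro s
    exact pairLift_map f s.fst s.snd s.condition
  · intro s
    exact pairLift_ν f s.fst s.snd s.condition
  · intro s m h1 h2
    exact pairLift_uniq f s.fst s.snd s.condition m h1

/-- the relative gluing datum. -/
noncomputable def glueData :
    Scheme.Cover.RelativeGluingData (D.obj i₀).directedAffineCover where
  functor := Lf D i₀
  natTrans := νNat D i₀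
  equifibered := νNat_equifibered D i₀

/-- the glued scheme. -/
noncomputable abbrev G : Scheme.{u} := (glueData D i₀).glued

/-- the inclusion of a local limit. -/
noncomputable abbrev Gι (U : (D.obj i₀).affineOpens) : (Lf D i₀).obj U ⟶ G D i₀ :=
  colimit.ι (glueData D i₀).functor U

instance (U : (D.obj i₀).affineOpens) : IsOpenImmersion (Gι D i₀ U) :=
  (glueData D i₀).cover.map_prop U

/-- the projection to the base. -/
noncomputable abbrev Gbase : G D i₀ ⟶ D.obj i₀ := (glueData D i₀).toBase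

theorem Gι_base (U : (D.obj i₀).affineOpens) :
    Gι D i₀ U ≫ Gbase D i₀ = ν D i₀ U ≫ U.1.ι :=
  (glueData D i₀).ι_toBase U

theorem Gbase_preimage (U : (D.obj i₀).affineOpens) :
    Gbase D i₀ ⁻¹ᵁ U.1 = (Gι D i₀ U).opensRange := by
  have := (glueData D i₀).toBase_preimage_eq_opensRange_ι U
  refine Eq.trans ?_ this
  congr 1
  exact (Scheme.Opens.opensRange_ι U.1).symm


/-- the projections from the glued scheme. -/
noncomputable def Gπ (j : Over i₀) : G D i₀ ⟶ D.obj j.left :=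
  colimit.desc (glueData D i₀).functor
    { pt := D.obj j.left
      ι :=
        { app := fun U => πι D i₀ U j
          naturality := by
            intro U V f
            simp only [Functor.const_obj_obj, Functor.const_obj_map, Category.comp_id]
            exact Lf_map_πι D i₀ f j } }

theorem Gι_π (U : (D.obj i₀).affineOpens) (j : Over i₀) :
    Gι D i₀ U ≫ Gπ D i₀ j = πι D i₀ U j :=
  colimit.ι_desc _ _

theorem Gπ_map {j k : Over i₀} (f : j ⟶ k) : Gπ D i₀ j ≫ D.map f.left = Gπ D i₀ k := by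
  apply colimit.hom_ext
  intro U
  have h1 := Gι_π D i₀ U j
  have h2 := Gι_π D i₀ U k
  simp only [Gι] at h1 h2
  rw [← Category.assoc, h1, h2, πι_map]

theorem Gπ_t₀ : Gπ D i₀ (t₀ i₀) = Gbase D i₀ := by
  apply colimit.hom_ext
  intro U
  have h1 := Gι_π D i₀ U (t₀ i₀)
  have h2 := Gι_base D i₀ U
  simp only [Gι] at h1 h2
  rw [h1, h2, ν_ι D i₀ U (t₀ i₀)]
  change _ = _ ≫ D.map (𝟙 i₀)
  rw [D.map_id, Category.comp_id]

/-- the cone over the restricted diagram. -/
noncomputable def Gcone : Cone (Over.forget i₀ ⋙ D) where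
  pt := G D i₀
  π :=
    { app := fun j => Gπ D i₀ j
      naturality := by
        intro j k f
        simp only [Functor.const_obj_obj, Functor.const_obj_map, Category.id_comp,
          Functor.comp_obj, Over.forget_obj, Functor.comp_map, Over.forget_map]
        exact (Gπ_map D i₀ f).symm }

end Lim

section Gen

theorem hom_ext_of_local {Y Z : Scheme.{u}} (h₁ h₂ : Y ⟶ Z)
    (H : ∀ y : Y, ∃ U : Y.Opens, y ∈ U ∧ U.ι ≫ h₁ = U.ι ≫ h₂) : h₁ = h₂ := by
  choose U hyU hU using H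
  have hcov : IsOpenCover U := by
    rw [IsOpenCover, eq_top_iff]
    intro y _
    exact Opens.mem_iSup.mpr ⟨y, hyU y⟩
  exact (Y.openCoverOfIsOpenCover U hcov).hom_ext h₁ h₂ (fun y => hU y)

/-- a cone of schemes is limiting if lifts are unique and exist locally. -/
theorem isLimit_of_local {J : Type u} [SmallCategory J] {F : J ⥤ Scheme.{u}} (c : Cone F)
    (huniq : ∀ (T : Scheme.{u}) (x y : T ⟶ c.pt),
      (∀ j, x ≫ c.π.app j = y ≫ c.π.app j) → x = y)
    (hex : ∀ (s : Cone F) (t : s.pt), ∃ (W : s.pt.Opens) (h : (W : Scheme.{u}) ⟶ c.pt),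
      t ∈ W ∧ ∀ j, h ≫ c.π.app j = W.ι ≫ s.π.app j) :
    Nonempty (IsLimit c) := by
  have key : ∀ s : Cone F, ∃ l : s.pt ⟶ c.pt, ∀ j, l ≫ c.π.app j = s.π.app j := by
    intro s
    choose W h htW hh using hex s
    have hcov : IsOpenCover W := by
      rw [IsOpenCover, eq_top_iff]
      intro y _
      exact Opens.mem_iSup.mpr ⟨y, htW y⟩
    let 𝒰 := s.pt.openCoverOfIsOpenCover W hcov
    have hcompat : ∀ x y : s.pt,
        pullback.fst (𝒰.f x) (𝒰.f y) ≫ h x = pullback.snd _ _ ≫ h y := by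
      intro x y
      refine huniq _ _ _ (fun j => ?_)
      rw [Category.assoc, Category.assoc, hh x j, hh y j]
      exact pullback.condition_assoc _
    refine ⟨𝒰.glueMorphisms h hcompat, fun j => ?_⟩
    refine 𝒰.hom_ext _ _ (fun y => ?_)
    rw [← Category.assoc, Scheme.Cover.ι_glueMorphisms]
    exact hh y j
  choose l hl using key
  exact ⟨{ lift := l
           fac := hl
           uniq := fun s m hm => huniq _ _ _ (fun j => by rw [hm j, hl s j]) }⟩

end Gen


section Lim2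
variable {I : Type u} [SmallCategory I] [IsCofiltered I] (D : I ⥤ Scheme.{u})
  [∀ {i j : I} (f : i ⟶ j), IsAffineHom (D.map f)] (i₀ : I)

theorem exists_affineOpens_mem {X : Scheme.{u}} (x : X) : ∃ U : X.affineOpens, x ∈ U.1 := by
  obtain ⟨U, hU, hx, -⟩ := exists_isAffineOpen_mem_and_subset (x := x) (U := ⊤) trivial
  exact ⟨⟨U, hU⟩, hx⟩

theorem Gcone_hom_ext {T : Scheme.{u}} (x y : T ⟶ G D i₀)
    (h : ∀ j, x ≫ Gπ D i₀ j = y ≫ Gπ D i₀ j) : x = y := by
  have hb : x ≫ Gbase D i₀ = y ≫ Gbase D i₀ := by rw [← Gπ_t₀]; exact h _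
  refine hom_ext_of_local x y (fun t => ?_)
  obtain ⟨U, htU⟩ := exists_affineOpens_mem ((x ≫ Gbase D i₀) t)
  let W : T.Opens := (x ≫ Gbase D i₀) ⁻¹ᵁ U.1
  refine ⟨W, htU, ?_⟩
  have hr₁ : Set.range (W.ι ≫ x) ⊆ Set.range (Gι D i₀ U) := by
    rintro _ ⟨z, rfl⟩
    have hz : x z.1 ∈ Gbase D i₀ ⁻¹ᵁ U.1 := z.2
    rw [Gbase_preimage] at hz
    exact hz
  have hr₂ : Set.range (W.ι ≫ y) ⊆ Set.range (Gι D i₀ U) := by
    rintro _ ⟨z, rfl⟩
    have hz : (y ≫ Gbase D i₀) z.1 ∈ U.1 := by rw [← hb]; exact z.2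
    have hz' : y z.1 ∈ Gbase D i₀ ⁻¹ᵁ U.1 := hz
    rw [Gbase_preimage] at hz'
    exact hz'
  let k₁ := IsOpenImmersion.lift (Gι D i₀ U) (W.ι ≫ x) hr₁
  let k₂ := IsOpenImmersion.lift (Gι D i₀ U) (W.ι ≫ y) hr₂
  have hk₁ : k₁ ≫ Gι D i₀ U = W.ι ≫ x := IsOpenImmersion.lift_fac _ _ _
  have hk₂ : k₂ ≫ Gι D i₀ U = W.ι ≫ y := IsOpenImmersion.lift_fac _ _ _
  have hk : k₁ = k₂ := by
    refine Lf_hom_ext D i₀ U _ _ (fun j => ?_)
    rw [← Gι_π D i₀ U j, ← Category.assoc, ← Category.assoc, hk₁, hk₂, Category.assoc,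
      Category.assoc, h j]
  rw [← hk₁, ← hk₂, hk]

section Ex
variable {D i₀}
variable (s : Cone (Over.forget i₀ ⋙ D)) (U : (D.obj i₀).affineOpens)

theorem cone_w (j : Over i₀) : s.π.app j ≫ D.map j.hom = s.π.app (t₀ i₀) :=
  s.w (toT₀ i₀ j)

theorem range_subset_of_cone (j : Over i₀) :
    Set.range (((s.π.app (t₀ i₀)) ⁻¹ᵁ U.1).ι ≫ s.π.app j) ⊆
      Set.range (D.map j.hom ⁻¹ᵁ U.1).ι := by
  rintro _ ⟨z, rfl⟩
  rw [Scheme.Opens.range_ι]
  change D.map j.hom ((s.π.app j) z.1) ∈ U.1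
  have h2 : D.map j.hom ((s.π.app j) z.1) = (s.π.app (t₀ i₀)) z.1 :=
    congrArg (fun φ : s.pt ⟶ D.obj i₀ => φ z.1) (cone_w s j)
  rw [h2]
  exact z.2

/-- the restricted cone. -/
noncomputable def resCone : Cone (opensDiagram D i₀ U.1) where
  pt := (((s.π.app (t₀ i₀)) ⁻¹ᵁ U.1 : s.pt.Opens) : Scheme.{u})
  π :=
    { app := fun j => IsOpenImmersion.lift (D.map j.hom ⁻¹ᵁ U.1).ι
        (((s.π.app (t₀ i₀)) ⁻¹ᵁ U.1).ι ≫ s.π.app j) (range_subset_of_cone s U j)
      naturality := by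
        intro j k g
        rw [← cancel_mono (D.map k.hom ⁻¹ᵁ U.1).ι]
        simp only [Functor.const_obj_obj, Functor.const_obj_map, Category.id_comp, Category.assoc,
          opensDiagram_map, Scheme.Hom.resLE_comp_ι, IsOpenImmersion.lift_fac,
          IsOpenImmersion.lift_fac_assoc]
        have := s.w g
        simp only [Functor.comp_obj, Over.forget_obj, Functor.comp_map, Over.forget_map] at this
        rw [this] }

/-- the local lift. -/
noncomputable def resLift : (((s.π.app (t₀ i₀)) ⁻¹ᵁ U.1 : s.pt.Opens) : Scheme.{u}) ⟶ G D i₀ :=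
  limit.lift _ (resCone s U) ≫ Gι D i₀ U

theorem resLift_π (j : Over i₀) :
    resLift s U ≫ Gπ D i₀ j = ((s.π.app (t₀ i₀)) ⁻¹ᵁ U.1).ι ≫ s.π.app j := by
  rw [resLift, Category.assoc, Gι_π]
  simp only [πι, limit.lift_π_assoc, resCone]
  exact IsOpenImmersion.lift_fac _ _ _

end Ex

theorem Gcone_isLimit : Nonempty (IsLimit (Gcone D i₀)) := by
  refine isLimit_of_local _ ?_ ?_
  · intro T x y h
    exact Gcone_hom_ext D i₀ x y h
  · intro s t
    obtain ⟨U, htU⟩ := exists_affineOpens_mem ((s.π.app (t₀ i₀)) t)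
    exact ⟨(s.π.app (t₀ i₀)) ⁻¹ᵁ U.1, resLift s U, htU, fun j => resLift_π s U j⟩

include i₀ in
theorem hasLimit_of_isAffineHom : HasLimit D := by
  obtain ⟨h⟩ := Gcone_isLimit D i₀
  haveI : HasLimit (Over.forget i₀ ⋙ D) := ⟨⟨⟨_, h⟩⟩⟩
  exact Functor.Initial.hasLimit_of_comp (Over.forget i₀)

end Lim2

theorem S2151_main {I : Type u} [SmallCategory I] [IsCofiltered I] (D : I ⥤ Scheme.{u})
    [∀ (i j : I) (f : i ⟶ j), IsAffineHom (D.map f)] :
    ∃ (c : Limits.Cone D) (_ : Limits.IsLimit c), ∀ i, IsAffineHom (c.π.app i) := by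
  obtain ⟨i₀⟩ := IsCofiltered.nonempty (C := I)
  haveI : ∀ {i j : I} (f : i ⟶ j), IsAffineHom (D.map f) := fun f => inferInstance
  haveI := hasLimit_of_isAffineHom D i₀
  exact ⟨limit.cone D, limit.isLimit D, fun i => isAffineHom_π_app D _ (limit.isLimit D) i⟩

end Groth.Agent.H9.GLM
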