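import Mathlib
import Groth.Agent.Lib.Helper1.RegDer

set_option autoImplicit false
set_option linter.style.haveILetI false
set_option linter.unusedSectionVars false
set_option linter.unusedVariables false

universe u

open CategoryTheory AlgebraicGeometry TopologicalSpace Topology IsLocalRing

namespace Groth.Agent.H9.RSF

/-- pure algebra: `R → O → V`, `R`,`V` DVRs with `m_R V = m_V`, `O` regular local, `O → V` local:
then `O / m_R O` is regular. -/
theorem alg (R O V : Type u) [CommRing R] [IsDomain R] [IsDiscreteValuationRing R]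
    [CommRing O] [IsRegularLocalRing O]
    [CommRing V] [IsDomain V] [IsDiscreteValuationRing V]
    (α : R →+* O) (τ : O →+* V) [IsLocalHom τ]
    (hV : Ideal.map (τ.comp α) (maximalIdeal R) = maximalIdeal V) :
    IsRegularLocalRing (O ⧸ Ideal.map α (maximalIdeal R)) := by
  obtain ⟨ϖ, hϖ⟩ := IsDiscreteValuationRing.exists_irreducible R
  have hm : maximalIdeal R = Ideal.span {ϖ} := hϖ.maximalIdeal_eq
  have hmap : Ideal.map α (maximalIdeal R) = Ideal.span {α ϖ} := by
    rw [hm, Ideal.map_span, Set.image_singleton]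
  have hmV : maximalIdeal V = Ideal.span {τ (α ϖ)} := by
    rw [← hV, hm, Ideal.map_span, Set.image_singleton]
    rfl
  have hne : τ (α ϖ) ≠ 0 := by
    intro h0
    rw [h0] at hmV
    have : maximalIdeal V = ⊥ := by rw [hmV]; simp
    exact IsDiscreteValuationRing.not_a_field V this
  have hnu : ¬ IsUnit (τ (α ϖ)) := by
    have : τ (α ϖ) ∈ maximalIdeal V := by rw [hmV]; exact Ideal.mem_span_singleton_self _
    exact (IsLocalRing.mem_maximalIdeal _).mp this
  have hx : α ϖ ∈ maximalIdeal O := by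
    rw [IsLocalRing.mem_maximalIdeal, mem_nonunits_iff]
    intro hu
    exact hnu (hu.map τ)
  have hx2 : α ϖ ∉ maximalIdeal O ^ 2 := by
    intro hmem
    have h1 : τ (α ϖ) ∈ Ideal.map τ (maximalIdeal O ^ 2) := Ideal.mem_map_of_mem τ hmem
    rw [Ideal.map_pow] at h1
    have h2 : Ideal.map τ (maximalIdeal O) ≤ maximalIdeal V :=
      ((IsLocalRing.local_hom_TFAE τ).out 0 2).mp ‹IsLocalHom τ›
    have h3 : τ (α ϖ) ∈ maximalIdeal V ^ 2 := Ideal.pow_right_mono h2 2 h1
    rw [hmV, Ideal.span_singleton_pow, Ideal.mem_span_singleton] at h3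
    obtain ⟨c, hc⟩ := h3
    -- t = t^2 c ⇒ t (1 - t c) = 0
    have h4 : τ (α ϖ) * (1 - τ (α ϖ) * c) = 0 := by
      have : τ (α ϖ) * (1 - τ (α ϖ) * c) = τ (α ϖ) - τ (α ϖ) ^ 2 * c := by ring
      rw [this, ← hc, sub_self]
    rcases mul_eq_zero.mp h4 with h5 | h5
    · exact hne h5
    · apply hnu
      have h6 : τ (α ϖ) * c = 1 := (sub_eq_zero.mp h5).symm
      exact IsUnit.of_mul_eq_one _ h6
  rw [hmap]
  exact Groth.Agent.H1.RegDer.isRegularLocalRing_quotient_of_not_mem_sq O (α ϖ) hx hx2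

end Groth.Agent.H9.RSF

namespace Groth.Agent.H9.RSF

theorem germ_stalkClosedPointTo_of_eq {R S : CommRingCat.{u}} [IsLocalRing S]
    (g : Spec S ⟶ Spec R) (φ : R ⟶ S) (h : g = Spec.map φ) :
    (Spec R).presheaf.germ ⊤ (g (closedPoint S)) trivial ≫ Scheme.stalkClosedPointTo g =
      (Scheme.ΓSpecIso R).hom ≫ φ := by
  subst h
  exact Scheme.germ_stalkClosedPointTo_Spec φ

theorem geom (R V : Type u) [CommRing R] [CommRing V] [IsLocalRing V] [Algebra R V]
    {Y : Scheme.{u}} (f : Y ⟶ Spec (CommRingCat.of R))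
    (σ : Spec (CommRingCat.of V) ⟶ Y)
    (hσ : σ ≫ f = Spec.map (CommRingCat.ofHom (algebraMap R V))) :
    (Scheme.stalkClosedPointTo σ).hom.comp
      ((Y.presheaf.germ ⊤ (σ (closedPoint V)) trivial).hom.comp
        ((f.appTop).hom.comp (Scheme.ΓSpecIso (CommRingCat.of R)).inv.hom)) = algebraMap R V := by
  have h1 := germ_stalkClosedPointTo_of_eq (σ ≫ f) (CommRingCat.ofHom (algebraMap R V)) hσ
  rw [Scheme.stalkClosedPointTo_comp] at h1
  have h2 : (Spec (CommRingCat.of R)).presheaf.germ ⊤ ((σ ≫ f) (closedPoint V)) trivial ≫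
      f.stalkMap (σ (closedPoint V)) =
      f.appTop ≫ Y.presheaf.germ ⊤ (σ (closedPoint V)) trivial :=
    Scheme.Hom.germ_stalkMap f ⊤ (σ (closedPoint V)) trivial
  have h3 : (Scheme.ΓSpecIso (CommRingCat.of R)).inv ≫ f.appTop ≫
      Y.presheaf.germ ⊤ (σ (closedPoint V)) trivial ≫ Scheme.stalkClosedPointTo σ =
      CommRingCat.ofHom (algebraMap R V) := by
    rw [← Category.assoc f.appTop, ← h2, Category.assoc]
    refine (congrArg (fun g => (Scheme.ΓSpecIso (CommRingCat.of R)).inv ≫ g) h1).trans ?_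
    exact Iso.inv_hom_id_assoc _ _
  ext r
  have := congrArg (fun g => g.hom r) h3
  exact this

end Groth.Agent.H9.RSF
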