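import Mathlib

set_option autoImplicit false
set_option linter.style.haveILetI false
set_option linter.unusedSectionVars false
set_option linter.unusedVariables false

universe u

open CategoryTheory CategoryTheory.Limits AlgebraicGeometry TopologicalSpace Topology Opposite

namespace Groth.Agent.H9.RAM

/-- stalks of the spectrum of a regular ring are regular local rings. -/
theorem isRegularLocalRing_stalk_Spec (R : Type u) [CommRing R] [IsRegularRing R]
    (y : Spec (CommRingCat.of R)) :
    IsRegularLocalRing ((Spec (CommRingCat.of R)).presheaf.stalk y) := by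
  haveI : IsRegularLocalRing (Localization.AtPrime y.asIdeal) := inferInstance
  letI : Algebra R ((Spec.structureSheaf R).presheaf.stalk y) := StructureSheaf.stalkAlgebra R y
  haveI : IsLocalization.AtPrime ((Spec.structureSheaf R).presheaf.stalk y) y.asIdeal :=
    StructureSheaf.IsLocalization.to_stalk R y
  let e : Localization.AtPrime y.asIdeal ≃+* (Spec.structureSheaf R).presheaf.stalk y :=
    (IsLocalization.algEquiv y.asIdeal.primeCompl (Localization.AtPrime y.asIdeal)
      ((Spec.structureSheaf R).presheaf.stalk y)).toRingEquiv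
  exact IsRegularLocalRing.of_ringEquiv e

theorem main (k : Type u) [Field k] {X : Scheme.{u}}
    (f : X ⟶ Spec (CommRingCat.of k)) [LocallyOfFiniteType f] (x : X) :
    ∃ (U : X.Opens) (_ : x ∈ U) (Y : Scheme.{u}) (g : Y ⟶ Spec (CommRingCat.of k))
      (i : (U : Scheme.{u}) ⟶ Y),
      IsImmersion i ∧ i ≫ g = U.ι ≫ f ∧ ∀ y : Y, IsRegularLocalRing (Y.presheaf.stalk y) := by
  obtain ⟨U, hU, hxU, -⟩ := exists_isAffineOpen_mem_and_subset (x := x) (U := ⊤) trivial
  let ψ : CommRingCat.of k ⟶ Γ(X, U) := Spec.preimage (hU.fromSpec ≫ f)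
  have hψ : Spec.map ψ = hU.fromSpec ≫ f := Spec.map_preimage _
  letI algA : Algebra k Γ(X, U) := ψ.hom.toAlgebra
  have hft : Algebra.FiniteType k Γ(X, U) := by
    have h1 : LocallyOfFiniteType (Spec.map ψ) := by
      rw [hψ]; infer_instance
    exact (HasRingHomProperty.Spec_iff (P := @LocallyOfFiniteType)).mp h1
  obtain ⟨n, π, hπ⟩ := Algebra.FiniteType.iff_quotient_mvPolynomial''.mp hft
  refine ⟨U, hxU, Spec (CommRingCat.of (MvPolynomial (Fin n) k)),
    Spec.map (CommRingCat.ofHom (algebraMap k (MvPolynomial (Fin n) k))),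
    hU.isoSpec.hom ≫ Spec.map (CommRingCat.ofHom π.toRingHom), ?_, ?_, ?_⟩
  · haveI : IsClosedImmersion (Spec.map (CommRingCat.ofHom π.toRingHom)) :=
      IsClosedImmersion.spec_of_surjective _ hπ
    infer_instance
  · rw [Category.assoc, ← Spec.map_comp]
    have h1 : CommRingCat.ofHom (algebraMap k (MvPolynomial (Fin n) k)) ≫
        CommRingCat.ofHom π.toRingHom = ψ := by
      ext c
      exact π.commutes c
    rw [h1, hψ, ← Category.assoc]
    congr 1
    rw [← hU.isoSpec_inv_ι, Iso.hom_inv_id_assoc]
  · intro y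
    exact isRegularLocalRing_stalk_Spec (MvPolynomial (Fin n) k) y

end Groth.Agent.H9.RAM
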