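import Mathlib
import Groth.Prelude.Def_W4c5cptfessfintypeLocImm

/-! Helper9: localizing immersions are monomorphisms (S18207, S18196). -/

set_option linter.style.haveILetI false
set_option linter.unusedSectionVars false

namespace Groth.Agent.H9.LOC

universe u

open CategoryTheory AlgebraicGeometry Limits

theorem surjectiveOnStalks_of_isLocHom {A B : Type u} [CommRing A] [CommRing B] (φ : A →+* B)
    (h : LocImm.IsLocHom φ) : φ.SurjectiveOnStalks := by
  letI := φ.toAlgebra
  obtain ⟨S, hS⟩ := h
  exact RingHom.surjectiveOnStalks_of_isLocalization S B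

theorem surjectiveOnStalks_stable :
    RingHom.StableUnderCompositionWithLocalizationAwaySource RingHom.SurjectiveOnStalks := by
  intro R S T _ _ _ _ r _ f hf
  exact hf.comp (RingHom.surjectiveOnStalks_of_isLocalization (.powers r) S)

variable {X Y Z : Scheme.{u}}

theorem surjectiveOnStalks_of_isLocalizing (f : X ⟶ Y) (hf : LocImm.IsLocalizing f) :
    SurjectiveOnStalks f := by
  rw [HasRingHomProperty.iff_exists_appLE (P := @SurjectiveOnStalks) surjectiveOnStalks_stable]
  intro x
  obtain ⟨U, V, hx, e, h⟩ := hf x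
  exact ⟨U, V, hx, e, surjectiveOnStalks_of_isLocHom _ h⟩

theorem mono_of_isLocImmersion (f : X ⟶ Y) (hf : LocImm.IsLocImmersion f) : Mono f := by
  haveI := surjectiveOnStalks_of_isLocalizing f hf.1
  exact SurjectiveOnStalks.mono_of_injective hf.2

theorem S18207_main (f : X ⟶ Y) :
    LocImm.IsLocImmersion f ↔ (LocImm.IsLocalizing f ∧ Mono f) := by
  refine ⟨fun h => ⟨h.1, mono_of_isLocImmersion f h⟩, fun ⟨h1, h2⟩ => ⟨h1, ?_⟩⟩
  haveI := h2
  exact Scheme.Hom.injective f

theorem S18196_main (f : X ⟶ Y) (g : Y ⟶ Z) (hfg : LocImm.IsLocImmersion (f ≫ g))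
    [IsSeparated g] [IsProper f] : IsClosedImmersion f := by
  haveI := mono_of_isLocImmersion _ hfg
  haveI : Mono f := mono_of_mono f g
  exact (IsClosedImmersion.iff_isProper_and_mono (f := f)).mpr ⟨inferInstance, inferInstance⟩

end Groth.Agent.H9.LOC
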