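import Mathlib
import Groth.Prelude.Def_W4c5cptfessfintypeLocImm
import Groth.Agent.Lib.Helper9.Misc.LOC1

/-! Helper9: localizing immersions: stalk isos, generization, embedding (S18203). -/

set_option linter.style.haveILetI false
set_option linter.unusedSectionVars false

namespace Groth.Agent.H9.LOC

universe u

open CategoryTheory AlgebraicGeometry Limits

section ring

theorem localRingHom_bijective_of_isLocalization {A B : Type u} [CommRing A] [CommRing B]
    [Algebra A B] (M : Submonoid A) [IsLocalization M B] (p : Ideal B) [p.IsPrime] :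
    Function.Bijective
      (Localization.localRingHom (p.comap (algebraMap A B)) p (algebraMap A B) rfl) := by
  refine ⟨?_, RingHom.surjectiveOnStalks_of_isLocalization M B p inferInstance⟩
  rw [injective_iff_map_eq_zero]
  intro z hz
  obtain ⟨a, s, rfl⟩ := IsLocalization.exists_mk'_eq (p.comap (algebraMap A B)).primeCompl z
  rw [Localization.localRingHom_mk', IsLocalization.mk'_eq_zero_iff] at hz
  obtain ⟨⟨t, ht⟩, hta⟩ := hz
  obtain ⟨a', m, rfl⟩ := IsLocalization.exists_mk'_eq M t
  have hm : IsUnit (algebraMap A B m) := IsLocalization.map_units B m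
  have h1 : algebraMap A B (a' * a) = 0 := by
    have h2 : IsLocalization.mk' B a' m * algebraMap A B m = algebraMap A B a' :=
      IsLocalization.mk'_spec B a' m
    rw [map_mul, ← h2]
    calc IsLocalization.mk' B a' m * algebraMap A B m * algebraMap A B a
        = algebraMap A B m * (IsLocalization.mk' B a' m * algebraMap A B a) := by ring
      _ = 0 := by rw [show IsLocalization.mk' B a' m * algebraMap A B a = 0 from hta, mul_zero]
  obtain ⟨m', hm'⟩ := (IsLocalization.map_eq_zero_iff M B _).mp h1
  rw [IsLocalization.mk'_eq_zero_iff]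
  have ha' : a' ∈ (p.comap (algebraMap A B)).primeCompl := by
    intro hmem
    apply ht
    have h2 : IsLocalization.mk' B a' m * algebraMap A B m = algebraMap A B a' :=
      IsLocalization.mk'_spec B a' m
    have h3 : IsLocalization.mk' B a' m * algebraMap A B m ∈ p := by rw [h2]; exact hmem
    rcases (inferInstance : p.IsPrime).mem_or_mem h3 with h4 | h4
    · exact h4
    · exact absurd (p.eq_top_of_isUnit_mem h4 hm) (inferInstance : p.IsPrime).ne_top
  have hm'' : (m' : A) ∈ (p.comap (algebraMap A B)).primeCompl := by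
    intro hmem
    exact absurd (p.eq_top_of_isUnit_mem hmem (IsLocalization.map_units B m'))
      (inferInstance : p.IsPrime).ne_top
  refine ⟨⟨m' * a', Submonoid.mul_mem _ hm'' ha'⟩, ?_⟩
  show (m' : A) * a' * a = 0
  rw [mul_assoc]
  exact hm'

end ring

section stalk

/-- the ring-hom property: all local ring homs bijective -/
def Qb {R S : Type u} [CommRing R] [CommRing S] (φ : R →+* S) : Prop :=
  ∀ (p : Ideal S) (_ : p.IsPrime), Function.Bijective (Localization.localRingHom _ p φ rfl)

theorem bijective_respectsIso :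
    RingHom.RespectsIso (fun {R S : Type u} [CommRing R] [CommRing S] (f : R →+* S) =>
      Function.Bijective f) := by
  constructor
  · intro R S T _ _ _ f e hf
    exact e.bijective.comp hf
  · intro R S T _ _ _ f e hf
    exact hf.comp e.bijective

theorem Qb_of_isLocHom {A B : Type u} [CommRing A] [CommRing B] (φ : A →+* B)
    (h : LocImm.IsLocHom φ) : Qb φ := by
  letI := φ.toAlgebra
  obtain ⟨S, hS⟩ := h
  intro p hp
  exact localRingHom_bijective_of_isLocalization S p

theorem Qb_stable : RingHom.StableUnderCompositionWithLocalizationAwaySource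
    (fun {R S : Type u} [CommRing R] [CommRing S] (φ : R →+* S) => Qb φ) := by
  intro R S T _ _ _ _ r _ f hf p hp
  have h1 := Localization.localRingHom_comp (I := (p.comap f).comap (algebraMap R S))
    (p.comap f) p (algebraMap R S) rfl f rfl
  change Function.Bijective (Localization.localRingHom
    (Ideal.comap (algebraMap R S) (Ideal.comap f p)) p (f.comp (algebraMap R S)) _)
  rw [h1]
  exact (hf p hp).comp (localRingHom_bijective_of_isLocalization (.powers r) (p.comap f))

variable {X Y : Scheme.{u}}

theorem stalkwise_bijective_of_isLocalizing (f : X ⟶ Y) (hf : LocImm.IsLocalizing f) :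
    stalkwise (fun {R S : Type u} [CommRing R] [CommRing S] (f : R →+* S) =>
      Function.Bijective f) f := by
  haveI := HasRingHomProperty.stalkwise bijective_respectsIso
  rw [HasRingHomProperty.iff_exists_appLE (P := stalkwise (fun {R S : Type u} [CommRing R]
    [CommRing S] (f : R →+* S) => Function.Bijective f)) Qb_stable]
  intro x
  obtain ⟨U, V, hx, e, h⟩ := hf x
  exact ⟨U, V, hx, e, Qb_of_isLocHom _ h⟩

theorem isIso_stalkMap_of_isLocalizing (f : X ⟶ Y) (hf : LocImm.IsLocalizing f) (x : X) :
    IsIso (f.stalkMap x) :=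
  (ConcreteCategory.isIso_iff_bijective _).mpr (stalkwise_bijective_of_isLocalizing f hf x)

end stalk

section topology

variable {X Y : Scheme.{u}}

theorem exists_generization_lift (f : X ⟶ Y) (hf : LocImm.IsLocalizing f) (x : X) (y : Y)
    (h : y ⤳ f x) : ∃ x' : X, x' ⤳ x ∧ f x' = y := by
  have hy : y ∈ Set.range (Y.fromSpecStalk (f x)) := by
    rw [Scheme.range_fromSpecStalk]
    exact h
  obtain ⟨z, rfl⟩ := hy
  haveI := isIso_stalkMap_of_isLocalizing f hf x
  obtain ⟨z', rfl⟩ : ∃ z', Spec.map (f.stalkMap x) z' = z :=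
    (Spec.map (f.stalkMap x)).homeomorph.surjective z
  refine ⟨X.fromSpecStalk x z', ?_, ?_⟩
  · have : X.fromSpecStalk x z' ∈ Set.range (X.fromSpecStalk x) := ⟨z', rfl⟩
    rw [Scheme.range_fromSpecStalk] at this
    exact this
  · rw [← Scheme.Hom.comp_apply, ← Scheme.SpecMap_stalkMap_fromSpecStalk, Scheme.Hom.comp_apply]

theorem stableUnderGeneralization_range (f : X ⟶ Y) (hf : LocImm.IsLocalizing f) :
    StableUnderGeneralization (Set.range (fun x => f x)) := by
  rintro y' y h ⟨x, rfl⟩
  obtain ⟨x', -, hx'⟩ := exists_generization_lift f hf x y h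
  exact ⟨x', hx'⟩

theorem isEmbedding_of_isLocImmersion [IsNoetherian X] (f : X ⟶ Y)
    (hf : LocImm.IsLocImmersion f) : Topology.IsEmbedding (fun x => f x) := by
  refine ⟨⟨?_⟩, hf.2⟩
  refine le_antisymm f.continuous.le_induced ?_
  intro V hV
  rw [isOpen_induced_iff]
  -- the closed complement
  have hC : IsClosed (Vᶜ : Set X) := hV.isClosed_compl
  obtain ⟨S, hSf, hSc, hSi, hSU⟩ :=
    TopologicalSpace.NoetherianSpace.exists_finite_set_isClosed_irreducible hC
  let D : Set Y := ⋃ t ∈ S, closure ((fun x => f x) '' t)
  have hD : IsClosed D := hSf.isClosed_biUnion fun t _ => isClosed_closure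
  refine ⟨Dᶜ, hD.isOpen_compl, ?_⟩
  ext x
  simp only [Set.mem_preimage, Set.mem_compl_iff]
  constructor
  · intro hx
    by_contra hxV
    apply hx
    have : x ∈ ⋃₀ S := hSU ▸ hxV
    obtain ⟨t, ht, hxt⟩ := this
    exact Set.mem_biUnion ht (subset_closure ⟨x, hxt, rfl⟩)
  · intro hxV hxD
    obtain ⟨t, ht, hxt⟩ := Set.mem_iUnion₂.mp hxD
    obtain ⟨c, hc⟩ := QuasiSober.sober (hSi t ht) (hSc t ht)
    -- `closure (f '' t) = closure {f c}`
    have h1 : closure ((fun x => f x) '' t) ⊆ closure {f c} := by
      apply closure_minimal _ isClosed_closure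
      rintro _ ⟨a, hat, rfl⟩
      have hca : c ⤳ a := by
        rw [specializes_iff_mem_closure, hc.def]
        exact hat
      have := hca.map f.continuous
      rw [specializes_iff_mem_closure] at this
      exact this
    have h2 : f c ⤳ f x := by
      rw [specializes_iff_mem_closure]
      exact h1 hxt
    obtain ⟨x', hx'x, hx'⟩ := exists_generization_lift f hf.1 x (f c) h2
    have hx'c : x' = c := hf.2 hx'
    subst hx'c
    have hxt' : x ∈ t := by
      rw [← hc.def]
      exact specializes_iff_mem_closure.mp hx'x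
    have : x ∈ (Vᶜ : Set X) := by
      rw [hSU]
      exact ⟨t, ht, hxt'⟩
    exact this hxV

theorem S18203_main [IsNoetherian X] (f : X ⟶ Y) (hf : LocImm.IsLocImmersion f) :
    Topology.IsEmbedding (fun x => f x) ∧
      StableUnderGeneralization (Set.range (fun x => f x)) ∧ ∀ x : X, IsIso (f.stalkMap x) :=
  ⟨isEmbedding_of_isLocImmersion f hf, stableUnderGeneralization_range f hf.1,
    isIso_stalkMap_of_isLocalizing f hf.1⟩

end topology

end Groth.Agent.H9.LOC
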