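import Mathlib
import Groth.Prelude.Def_W4c5cptfessfintypeLocImm
import Groth.Agent.Lib.Helper9.Misc.LOC1
import Groth.Agent.Lib.Helper9.Misc.LOC2

/-! Helper9: localizing immersions with closed range / of finite type are open immersions (S18205, S18204). -/

set_option linter.style.haveILetI false
set_option linter.unusedSectionVars false

namespace Groth.Agent.H9.LOC

universe u

open CategoryTheory AlgebraicGeometry Limits TopologicalSpace

section top

theorem isOpen_of_isClosed_of_stableUnderGeneralization {α : Type*} [TopologicalSpace α]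
    [NoetherianSpace α] [QuasiSober α] {Z : Set α} (hc : IsClosed Z)
    (hg : StableUnderGeneralization Z) : IsOpen Z := by
  have hfin : (irreducibleComponents α).Finite := NoetherianSpace.finite_irreducibleComponents
  let T : Set (Set α) := {C ∈ irreducibleComponents α | Disjoint C Z}
  have hT : IsClosed (⋃₀ T) := by
    rw [Set.sUnion_eq_biUnion]
    exact (hfin.subset (fun C hC => hC.1)).isClosed_biUnion
      fun C hC => isClosed_of_mem_irreducibleComponents C hC.1
  have : Z = (⋃₀ T)ᶜ := by
    ext y
    simp only [Set.mem_compl_iff]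
    constructor
    · rintro hy ⟨C, hC, hyC⟩
      exact Set.disjoint_left.mp hC.2 hyC hy
    · intro hy
      by_contra hyZ
      apply hy
      refine ⟨irreducibleComponent y, ⟨irreducibleComponent_mem_irreducibleComponents y, ?_⟩,
        mem_irreducibleComponent⟩
      rw [Set.disjoint_left]
      intro z hzC hzZ
      obtain ⟨η, hη⟩ := QuasiSober.sober (isIrreducible_irreducibleComponent (x := y))
        isClosed_irreducibleComponent
      have h1 : η ⤳ z := by
        rw [specializes_iff_mem_closure, hη.def]
        exact hzC
      have h2 : η ∈ Z := hg h1 hzZ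
      have h3 : irreducibleComponent y ⊆ Z := by
        rw [← hη.def]
        exact closure_minimal (Set.singleton_subset_iff.mpr h2) hc
      exact hyZ (h3 mem_irreducibleComponent)
  rw [this]
  exact hT.isOpen_compl

end top

variable {X Y : Scheme.{u}}

theorem isOpenImmersion_of_isOpen_range [IsNoetherian X] (f : X ⟶ Y)
    (hf : LocImm.IsLocImmersion f) (ho : IsOpen (Set.range (fun x => f x))) :
    IsOpenImmersion f := by
  rw [IsOpenImmersion.iff_isIso_stalkMap]
  exact ⟨⟨isEmbedding_of_isLocImmersion f hf, ho⟩, isIso_stalkMap_of_isLocalizing f hf.1⟩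

theorem S18205_main [IsNoetherian X] [IsNoetherian Y] (f : X ⟶ Y)
    (hf : LocImm.IsLocImmersion f) (hc : IsClosed (Set.range (fun x => f x))) :
    IsOpenImmersion f := by
  haveI : NoetherianSpace Y := inferInstance
  exact isOpenImmersion_of_isOpen_range f hf
    (isOpen_of_isClosed_of_stableUnderGeneralization hc (stableUnderGeneralization_range f hf.1))

theorem flat_stable : RingHom.StableUnderCompositionWithLocalizationAwaySource
    (fun {R S : Type u} [CommRing R] [CommRing S] (φ : R →+* S) => φ.Flat) := by
  intro R S T _ _ _ _ r _ f hf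
  exact RingHom.Flat.comp (RingHom.Flat.holdsForLocalizationAway S r) hf

theorem flat_of_isLocHom {A B : Type u} [CommRing A] [CommRing B] (φ : A →+* B)
    (h : LocImm.IsLocHom φ) : φ.Flat := by
  letI := φ.toAlgebra
  obtain ⟨S, hS⟩ := h
  show Module.Flat A B
  exact IsLocalization.flat B S

theorem flat_of_isLocalizing (f : X ⟶ Y) (hf : LocImm.IsLocalizing f) : Flat f := by
  rw [HasRingHomProperty.iff_exists_appLE (P := @Flat) flat_stable]
  intro x
  obtain ⟨U, V, hx, e, h⟩ := hf x
  exact ⟨U, V, hx, e, flat_of_isLocHom _ h⟩

theorem S18204_main [IsNoetherian X] [IsNoetherian Y] (f : X ⟶ Y)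
    (hf : LocImm.IsLocImmersion f) [LocallyOfFiniteType f] : IsOpenImmersion f := by
  haveI := flat_of_isLocalizing f hf.1
  haveI : LocallyOfFinitePresentation f :=
    LocallyOfFinitePresentation.iff_locallyOfFiniteType.mpr inferInstance
  exact isOpenImmersion_of_isOpen_range f hf f.isOpenMap.isOpen_range

end Groth.Agent.H9.LOC
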