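import Mathlib

set_option autoImplicit false
set_option linter.style.haveILetI false
set_option linter.unusedSectionVars false
set_option linter.unusedVariables false

namespace Groth.Agent.H9.SEI

universe u

open Finset PowerSeries

section Leibniz

variable {k Q : Type u} [Field k] [CharZero k] [CommRing Q] [Algebra k Q] (D : Derivation k Q Q)

theorem iterate_mul (n : ℕ) (x y : Q) :
    D^[n] (x * y) = ∑ ij ∈ antidiagonal n, (n.choose ij.1 : Q) * (D^[ij.1] x * D^[ij.2] y) := by
  induction n with
  | zero => simp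
  | succ n ih =>
    rw [Function.iterate_succ_apply', ih, map_sum,
      Finset.sum_antidiagonal_choose_succ_mul (fun i j => D^[i] x * D^[j] y) n, ← Finset.sum_add_distrib]
    refine Finset.sum_congr rfl (fun ij hij => ?_)
    have hsymm : n.choose ij.2 = n.choose ij.1 := by
      have := Finset.HasAntidiagonal.mem_antidiagonal.mp hij
      exact Nat.choose_symm_of_eq_add (by omega)
    rw [hsymm, ← nsmul_eq_mul, map_nsmul, D.leibniz, nsmul_eq_mul, Function.iterate_succ_apply',
      Function.iterate_succ_apply', smul_eq_mul, smul_eq_mul]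
    ring

/-- The exponential series of a derivation. -/
noncomputable def expD (x : Q) : PowerSeries Q :=
  PowerSeries.mk fun n => ((n.factorial : k)⁻¹) • (D^[n] x)

theorem coeff_expD (x : Q) (n : ℕ) :
    PowerSeries.coeff n (expD D x) = ((n.factorial : k)⁻¹) • (D^[n] x) := by
  unfold expD; rw [PowerSeries.coeff_mk]

theorem constantCoeff_expD (x : Q) : PowerSeries.constantCoeff (expD D x) = x := by
  rw [← PowerSeries.coeff_zero_eq_constantCoeff_apply, coeff_expD]
  simp

theorem coeff_one_expD (x : Q) : PowerSeries.coeff 1 (expD D x) = D x := by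
  rw [coeff_expD]
  simp

theorem expD_mul (x y : Q) : expD D (x * y) = expD D x * expD D y := by
  ext n
  rw [PowerSeries.coeff_mul, coeff_expD, iterate_mul, Finset.smul_sum]
  refine Finset.sum_congr rfl (fun ij hij => ?_)
  have hn : ij.1 + ij.2 = n := Finset.HasAntidiagonal.mem_antidiagonal.mp hij
  rw [coeff_expD, coeff_expD, smul_mul_smul_comm, ← nsmul_eq_mul, ← Nat.cast_smul_eq_nsmul k,
    smul_smul]
  congr 1
  have h1 : ((ij.1 + ij.2).choose ij.1 * ij.1.factorial * ij.2.factorial : ℕ) =
      (ij.1 + ij.2).factorial := by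
    have := Nat.add_choose_mul_factorial_mul_factorial ij.2 ij.1
    rw [add_comm ij.2 ij.1] at this
    rw [← this]; ring
  have h2 : ((n.choose ij.1 : ℕ) : k) * (ij.1.factorial : k) * (ij.2.factorial : k) =
      (n.factorial : k) := by
    rw [← hn]; exact_mod_cast h1
  have hf1 : (ij.1.factorial : k) ≠ 0 := Nat.cast_ne_zero.mpr (Nat.factorial_ne_zero _)
  have hf2 : (ij.2.factorial : k) ≠ 0 := Nat.cast_ne_zero.mpr (Nat.factorial_ne_zero _)
  have hfn : (n.factorial : k) ≠ 0 := Nat.cast_ne_zero.mpr (Nat.factorial_ne_zero _)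
  field_simp
  linear_combination h2

theorem expD_mul_pow (d x : Q) (m : ℕ) : expD D (d * x ^ m) = expD D d * expD D x ^ m := by
  induction m with
  | zero => simp
  | succ m ih => rw [pow_succ, ← mul_assoc, expD_mul, ih, pow_succ, mul_assoc]

/-- Key identity. -/
theorem key_identity (d x : Q) (n : ℕ) :
    d * (D x) ^ n = ∑ m ∈ range (n + 1),
      PowerSeries.coeff n (expD D (d * x ^ m)) * (-x) ^ (n - m) * (n.choose m : Q) := by
  have h1 : expD D x - PowerSeries.C x =
      PowerSeries.X * PowerSeries.mk fun q => PowerSeries.coeff (q + 1) (expD D x) := by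
    conv_lhs => rw [PowerSeries.eq_X_mul_shift_add_const (expD D x), constantCoeff_expD]
    ring
  have hL : PowerSeries.coeff n (expD D d * (expD D x - PowerSeries.C x) ^ n) = d * (D x) ^ n := by
    rw [h1, mul_pow, ← mul_assoc, mul_comm (expD D d), mul_assoc, PowerSeries.coeff_X_pow_mul',
      if_pos le_rfl, Nat.sub_self, PowerSeries.coeff_zero_eq_constantCoeff_apply, map_mul, map_pow,
      constantCoeff_expD, ← PowerSeries.coeff_zero_eq_constantCoeff_apply, PowerSeries.coeff_mk,
      zero_add, coeff_one_expD]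
  rw [← hL, sub_eq_add_neg, add_pow, Finset.mul_sum, map_sum]
  refine Finset.sum_congr rfl (fun m _ => ?_)
  rw [← mul_assoc, ← mul_assoc, ← expD_mul_pow, ← map_neg, ← map_pow, ← map_natCast (PowerSeries.C (R := Q)),
    mul_assoc, ← map_mul, PowerSeries.coeff_mul_C, mul_assoc]

end Leibniz

end Groth.Agent.H9.SEI
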