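import Mathlib
import Groth.Agent.Lib.Helper9.Misc.SEI1

set_option autoImplicit false
set_option linter.style.haveILetI false
set_option linter.unusedSectionVars false
set_option linter.unusedVariables false

namespace Groth.Agent.H9.SEI

universe u

open Finset PowerSeries

section Ext

variable {k A Q : Type u} [Field k] [CommRing A] [CommRing Q] [Algebra k A] [Algebra A Q]
  [Algebra k Q] [IsScalarTower k A Q] (M : Submonoid A) [IsLocalization M Q]

/-- Extension of a derivation to a localization. -/
noncomputable def extLoc (D : Derivation k A A) : Derivation k Q Q :=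
  have := Algebra.FormallyEtale.of_isLocalization (Rₘ := Q) M
  ((KaehlerDifferential.isBaseChange_of_formallyEtale k A Q).lift
    ((Algebra.linearMap A Q) ∘ₗ D.liftKaehlerDifferential)).compDer (KaehlerDifferential.D k Q)

theorem extLoc_algebraMap (D : Derivation k A A) (r : A) :
    extLoc (Q := Q) M D (algebraMap A Q r) = algebraMap A Q (D r) := by
  unfold extLoc
  rw [Derivation.coe_comp]
  simp only [LinearMap.coe_comp, Function.comp_apply, LinearMap.coe_restrictScalars,
    Derivation.coeFn_coe]
  rw [← KaehlerDifferential.map_D k k A Q, IsBaseChange.lift_eq]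
  simp [Derivation.liftKaehlerDifferential_comp_D]

end Ext

section Main

variable {k A Q : Type u} [Field k] [CharZero k] [CommRing A] [CommRing Q] [Algebra k A]
  [Algebra A Q] [Algebra k Q] [IsScalarTower k A Q]

theorem iterate_algebraMap (D : Derivation k A A) (DQ : Derivation k Q Q)
    (hDQ : ∀ a, DQ (algebraMap A Q a) = algebraMap A Q (D a)) (n : ℕ) (a : A) :
    DQ^[n] (algebraMap A Q a) = algebraMap A Q (D^[n] a) := by
  induction n with
  | zero => rfl
  | succ n ih => rw [Function.iterate_succ_apply', ih, hDQ, Function.iterate_succ_apply']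

theorem fg_of_le {R M : Type*} [Ring R] [IsNoetherianRing R] [AddCommGroup M] [Module R M]
    {N N' : Submodule R M} (hN : N.FG) (h : N' ≤ N) : N'.FG := by
  haveI : IsNoetherian R N := isNoetherian_of_fg_of_noetherian N hN
  have h1 : (N'.comap N.subtype).FG := IsNoetherian.noetherian _
  have h2 := h1.map N.subtype
  rwa [Submodule.map_comap_subtype, inf_eq_right.mpr h] at h2

theorem isIntegral_derivation [IsNoetherianRing A] (M : Submonoid A) [IsLocalization M Q]
    (D : Derivation k A A) (DQ : Derivation k Q Q)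
    (hDQ : ∀ a, DQ (algebraMap A Q a) = algebraMap A Q (D a)) (x : Q) (hx : IsIntegral A x) :
    IsIntegral A (DQ x) := by
  classical
  obtain ⟨B, hBdef⟩ : ∃ B : Subalgebra A Q, B = Algebra.adjoin A {x} := ⟨_, rfl⟩
  have hxB : x ∈ B := by rw [hBdef]; exact Algebra.subset_adjoin rfl
  have hBfg : (Subalgebra.toSubmodule B).FG := by rw [hBdef]; exact hx.fg_adjoin_singleton
  obtain ⟨s, hs⟩ := hBfg
  obtain ⟨d, hd⟩ := IsLocalization.exist_integer_multiples_of_finset M s
  have hdB' : ∀ z ∈ Submodule.span A (s : Set Q), ∃ a : A, algebraMap A Q a = algebraMap A Q d * z := by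
    intro z hz'
    induction hz' using Submodule.span_induction with
    | mem z hz =>
      obtain ⟨a, ha⟩ := hd z hz
      exact ⟨a, by rw [ha, Algebra.smul_def]⟩
    | zero => exact ⟨0, by simp⟩
    | add z w _ _ hz hw =>
      obtain ⟨a, ha⟩ := hz
      obtain ⟨b, hb⟩ := hw
      exact ⟨a + b, by rw [map_add, ha, hb, mul_add]⟩
    | smul c z _ hz =>
      obtain ⟨a, ha⟩ := hz
      exact ⟨c * a, by rw [map_mul, ha, Algebra.smul_def]; ring⟩
  have hdB : ∀ z ∈ B, ∃ a : A, algebraMap A Q a = algebraMap A Q d * z := by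
    intro z hz
    exact hdB' z (by rw [hs]; exact hz)
  obtain ⟨dQ, hdQ⟩ : ∃ dQ : Q, dQ = algebraMap A Q d := ⟨_, rfl⟩
  have hunit : IsUnit dQ := by rw [hdQ]; exact IsLocalization.map_units Q d
  have hkey : ∀ n : ℕ, dQ * (DQ x) ^ n ∈ B := by
    intro n
    rw [key_identity DQ dQ x n]
    refine Subalgebra.sum_mem _ (fun m _ => ?_)
    refine Subalgebra.mul_mem _ (Subalgebra.mul_mem _ ?_ ?_) (natCast_mem _ _)
    · obtain ⟨a, ha⟩ := hdB (x ^ m) (Subalgebra.pow_mem _ hxB m)
      rw [coeff_expD, hdQ, ← ha, iterate_algebraMap D DQ hDQ]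
      have h1 : ∀ (c : k) (a' : A), c • algebraMap A Q a' = algebraMap A Q (c • a') := by
        intro c a'
        rw [Algebra.algebraMap_eq_smul_one, Algebra.algebraMap_eq_smul_one, smul_assoc]
      rw [h1]
      exact Subalgebra.algebraMap_mem _ _
    · exact Subalgebra.pow_mem _ (Subalgebra.neg_mem _ hxB) _
  -- the module `T`
  let μ : Q →ₗ[A] Q := LinearMap.mulLeft A dQ
  have hμ : Function.Injective μ := hunit.mul_right_injective
  let T : Submodule A Q := (Subalgebra.toSubmodule B).comap μ
  have hTfg : T.FG := by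
    refine Submodule.fg_of_fg_map_injective μ hμ ?_
    refine fg_of_le ⟨s, hs⟩ ?_
    rintro _ ⟨z, hz, rfl⟩
    exact hz
  let S : Subalgebra A Q := (Algebra.adjoin ↥B {DQ x}).restrictScalars A
  have hST : Subalgebra.toSubmodule S ≤ T := by
    intro z hz
    have hz' : z ∈ Algebra.adjoin ↥B {DQ x} := hz
    rw [Algebra.adjoin_singleton_eq_range_aeval] at hz'
    obtain ⟨q, rfl⟩ := hz'
    change dQ * Polynomial.aeval (DQ x) q ∈ B
    rw [Polynomial.aeval_eq_sum_range, Finset.mul_sum]
    refine Subalgebra.sum_mem _ (fun i _ => ?_)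
    rw [Algebra.smul_def, mul_left_comm]
    exact Subalgebra.mul_mem _ (q.coeff i).2 (hkey i)
  have hSfg : (Subalgebra.toSubmodule S).FG := fg_of_le hTfg hST
  exact IsIntegral.of_mem_of_fg S hSfg (DQ x) (Algebra.subset_adjoin rfl)

end Main

end Groth.Agent.H9.SEI

namespace Groth.Agent.H9.SEI

universe u

theorem main (k : Type u) [Field k] [CharZero k] (A : Type u) [CommRing A]
    [Algebra k A] [IsNoetherianRing A] (D : Derivation k A A) :
    ∃ D' : Derivation k ↥(integralClosure A (FractionRing A)) ↥(integralClosure A (FractionRing A)),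
      ∀ a : A, (D' (algebraMap A ↥(integralClosure A (FractionRing A)) a) : FractionRing A) =
        algebraMap A (FractionRing A) (D a) := by
  obtain ⟨DQ, hDQdef⟩ : ∃ DQ : Derivation k (FractionRing A) (FractionRing A),
      DQ = extLoc (nonZeroDivisors A) D := ⟨_, rfl⟩
  have hDQ : ∀ a, DQ (algebraMap A (FractionRing A) a) = algebraMap A (FractionRing A) (D a) := by
    intro a; rw [hDQdef]; exact extLoc_algebraMap _ D a
  have hmem : ∀ z : ↥(integralClosure A (FractionRing A)),
      DQ z.1 ∈ integralClosure A (FractionRing A) :=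
    fun z => isIntegral_derivation (nonZeroDivisors A) D DQ hDQ z.1 z.2
  let L : ↥(integralClosure A (FractionRing A)) →ₗ[k] ↥(integralClosure A (FractionRing A)) :=
    { toFun := fun z => ⟨DQ z.1, hmem z⟩
      map_add' := fun z w => Subtype.ext (map_add DQ z.1 w.1)
      map_smul' := fun c z => Subtype.ext (DQ.map_smul c z.1) }
  refine ⟨⟨L, Subtype.ext DQ.map_one_eq_zero, fun z w => Subtype.ext (DQ.leibniz z.1 w.1)⟩, ?_⟩
  intro a
  exact hDQ a

end Groth.Agent.H9.SEI
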