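import Mathlib

set_option autoImplicit false
set_option linter.style.haveILetI false
set_option linter.unusedSectionVars false
set_option linter.unusedVariables false

namespace Groth.Agent.H9.KLS

open MvPowerSeries

universe u

variable {k : Type u} [Field k] {σ : Type*}

/-- power series with coefficients in the subfield `F` -/
noncomputable def coeffSubring (σ : Type*) (F : Subfield k) : Subring (MvPowerSeries σ k) :=
  (MvPowerSeries.map (σ := σ) F.subtype).range

lemma mem_coeffSubring {F : Subfield k} {f : MvPowerSeries σ k} :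
    f ∈ coeffSubring σ F ↔ ∀ n, coeff n f ∈ F := by
  constructor
  · rintro ⟨g, rfl⟩ n
    rw [coeff_map]
    exact (coeff n g).2
  · intro h
    refine ⟨fun n => ⟨coeff n f, h n⟩, ?_⟩
    ext n
    rw [coeff_map]
    rfl

lemma coe_coeffSubring (F : Subfield k) :
    ((coeffSubring σ F : Subring (MvPowerSeries σ k)) : Set (MvPowerSeries σ k)) =
      {f | ∀ n, coeff n f ∈ F} := by
  ext f
  exact mem_coeffSubring

lemma coeffSubring_mono {F G : Subfield k} (h : F ≤ G) : coeffSubring σ F ≤ coeffSubring σ G := by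
  intro f hf
  rw [mem_coeffSubring] at hf ⊢
  exact fun n => h (hf n)

section LemmaA

variable {K : Type*} [Field K] [Algebra (MvPowerSeries σ k) K]

lemma mem_closure_iff (F : Subfield k) (z : K) :
    z ∈ Subfield.closure (algebraMap (MvPowerSeries σ k) K '' {f | ∀ n, coeff n f ∈ F}) ↔
      ∃ a b, a ∈ coeffSubring σ F ∧ b ∈ coeffSubring σ F ∧
        algebraMap (MvPowerSeries σ k) K b ≠ 0 ∧
        z * algebraMap (MvPowerSeries σ k) K b = algebraMap (MvPowerSeries σ k) K a := by
  rw [← coe_coeffSubring, ← Subring.coe_map]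
  constructor
  · intro hz
    rw [Subfield.mem_closure_iff, Subring.closure_eq] at hz
    obtain ⟨y, ⟨a, ha, rfl⟩, w, ⟨b, hb, rfl⟩, rfl⟩ := hz
    by_cases hb0 : algebraMap (MvPowerSeries σ k) K b = 0
    · refine ⟨0, 1, zero_mem _, one_mem _, by simp, ?_⟩
      rw [hb0, div_zero, zero_mul, map_zero]
    · exact ⟨a, b, ha, hb, hb0, div_mul_cancel₀ _ hb0⟩
  · rintro ⟨a, b, ha, hb, hb0, h⟩
    have hz : z = algebraMap (MvPowerSeries σ k) K a / algebraMap (MvPowerSeries σ k) K b := by
      rw [eq_div_iff hb0, h]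
    rw [hz]
    exact div_mem (Subfield.subset_closure ⟨a, ha, rfl⟩) (Subfield.subset_closure ⟨b, hb, rfl⟩)

end LemmaA

/-- Lemma B: `q`-th powers have coefficients in `k₀`. -/
lemma pow_mem_coeffSubring (F₀ : Subfield k) (e : ℕ)
    (hq : ∀ x : k, x ^ ringExpChar k ^ e ∈ F₀) (b : MvPowerSeries σ k) :
    b ^ ringExpChar k ^ e ∈ coeffSubring σ F₀ := by
  have hp : ringExpChar k ≠ 0 := expChar_ne_zero k (ringExpChar k)
  rw [mem_coeffSubring]
  intro n
  rw [← MvPowerSeries.map_iterateFrobenius_expand (ringExpChar k) hp b e, coeff_map,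
    iterateFrobenius_def]
  exact hq _

/-- Lemma C: `Frac(F[[T]]) ∩ k[[T]] = F[[T]]`. -/
lemma mem_coeffSubring_of_mul_eq (F : Subfield k) {a b h : MvPowerSeries σ k}
    (ha : a ∈ coeffSubring σ F) (hb : b ∈ coeffSubring σ F) (hb0 : b ≠ 0) (hab : b * h = a) :
    h ∈ coeffSubring σ F := by
  classical
  obtain ⟨π, hπ⟩ := LinearMap.exists_leftInverse_of_injective (Algebra.linearMap F k)
    (LinearMap.ker_eq_bot.mpr (algebraMap F k).injective)
  have hπ' : ∀ x : F, π (x : k) = x := fun x => by
    have := LinearMap.congr_fun hπ x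
    exact this
  rw [mem_coeffSubring] at ha hb
  -- the projected series
  let h' : MvPowerSeries σ k := fun n => (π (coeff n h) : k)
  have hcoeff' : ∀ n, coeff n h' = (π (coeff n h) : k) := fun n => rfl
  have key : b * h' = a := by
    ext n
    rw [← hab, coeff_mul, coeff_mul]
    have h1 : (π (∑ p ∈ Finset.HasAntidiagonal.antidiagonal n, coeff p.1 b * coeff p.2 h) : k)
        = ∑ p ∈ Finset.HasAntidiagonal.antidiagonal n, coeff p.1 b * coeff p.2 h' := by
      rw [map_sum, AddSubmonoidClass.coe_finsetSum]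
      refine Finset.sum_congr rfl fun p _ => ?_
      have : coeff p.1 b * coeff p.2 h = (⟨coeff p.1 b, hb p.1⟩ : F) • coeff p.2 h := rfl
      rw [this, map_smul, hcoeff']
      rfl
    rw [← h1]
    have h2 : ∑ p ∈ Finset.HasAntidiagonal.antidiagonal n, coeff p.1 b * coeff p.2 h = coeff n a := by
      rw [← coeff_mul, hab]
    rw [h2]
    exact congrArg Subtype.val (hπ' ⟨coeff n a, ha n⟩)
  have heq : h = h' := by
    have : b * (h - h') = 0 := by rw [mul_sub, hab, key, sub_self]
    rcases mul_eq_zero.mp this with h0 | h0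
    · exact absurd h0 hb0
    · exact sub_eq_zero.mp h0
  rw [mem_coeffSubring]
  intro n
  rw [heq, hcoeff']
  exact (π (coeff n h)).2

theorem main {ι : Type*} [Nonempty ι] (F : ι → Subfield k) (e : ℕ)
    (hq : ∀ x : k, x ^ ringExpChar k ^ e ∈ ⨅ i, F i) (r : ℕ) :
    (⨅ i, Subfield.closure (algebraMap (MvPowerSeries (Fin r) k)
        (FractionRing (MvPowerSeries (Fin r) k)) '' {f | ∀ n, MvPowerSeries.coeff n f ∈ F i})) =
      Subfield.closure (algebraMap (MvPowerSeries (Fin r) k)
        (FractionRing (MvPowerSeries (Fin r) k)) '' {f | ∀ n, MvPowerSeries.coeff n f ∈ ⨅ i, F i}) := by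
  have hinj : Function.Injective (algebraMap (MvPowerSeries (Fin r) k)
      (FractionRing (MvPowerSeries (Fin r) k))) := IsFractionRing.injective _ _
  apply le_antisymm
  · intro z hz
    rw [Subfield.mem_iInf] at hz
    obtain ⟨i₀⟩ := ‹Nonempty ι›
    obtain ⟨a, b, ha, hb, hb0, hz0⟩ := (mem_closure_iff (F i₀) z).mp (hz i₀)
    have hb0' : b ≠ 0 := fun h => hb0 (by rw [h, map_zero])
    set q := ringExpChar k ^ e with hqdef
    have hqpos : 0 < q := pow_pos (Nat.pos_of_ne_zero (expChar_ne_zero k (ringExpChar k))) e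
    -- new denominator and numerator
    have hs : b ^ q ∈ coeffSubring (Fin r) (⨅ i, F i) := pow_mem_coeffSubring _ e hq b
    have hs0 : b ^ q ≠ 0 := pow_ne_zero _ hb0'
    have hzs : z * algebraMap (MvPowerSeries (Fin r) k) (FractionRing (MvPowerSeries (Fin r) k)) (b ^ q)
        = algebraMap (MvPowerSeries (Fin r) k) (FractionRing (MvPowerSeries (Fin r) k))
          (a * b ^ (q - 1)) := by
      have : b ^ q = b * b ^ (q - 1) := by rw [← pow_succ', Nat.sub_add_cancel hqpos]
      rw [this, map_mul _ b, map_mul _ a, ← mul_assoc, hz0]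
    have hnum : ∀ i, a * b ^ (q - 1) ∈ coeffSubring (Fin r) (F i) := by
      intro i
      obtain ⟨ai, bi, hai, hbi, hbi0, hzi⟩ := (mem_closure_iff (F i) z).mp (hz i)
      have hbi0' : bi ≠ 0 := fun h => hbi0 (by rw [h, map_zero])
      refine mem_coeffSubring_of_mul_eq (F i) (a := ai * b ^ q) (b := bi)
        (mul_mem hai (coeffSubring_mono (iInf_le F i) hs)) hbi hbi0' ?_
      apply hinj
      rw [map_mul _ bi, map_mul _ ai, ← hzi, ← hzs]
      ring
    have hnum' : a * b ^ (q - 1) ∈ coeffSubring (Fin r) (⨅ i, F i) := by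
      rw [mem_coeffSubring]
      intro n
      rw [Subfield.mem_iInf]
      intro i
      exact mem_coeffSubring.mp (hnum i) n
    exact (mem_closure_iff (⨅ i, F i) z).mpr
      ⟨a * b ^ (q - 1), b ^ q, hnum', hs, fun h => hs0 (hinj (by rw [h, map_zero])), hzs⟩
  · refine le_iInf fun i => Subfield.closure_mono (Set.image_mono ?_)
    intro f hf n
    exact (iInf_le F i) (hf n)

end Groth.Agent.H9.KLS
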