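import Mathlib

set_option autoImplicit false
set_option linter.style.haveILetI false
set_option linter.unusedSectionVars false
set_option linter.unusedVariables false

namespace Groth.Agent.H9.PBS

open Polynomial

universe u

variable {k : Type u} [Field k] (p : ℕ) [Fact p.Prime] [CharP k p]

/-- the subfield `k^p` -/
def PP : Subfield k := (frobenius k p).fieldRange

lemma pow_mem_PP (x : k) : x ^ p ∈ PP (k := k) p := ⟨x, rfl⟩

lemma mem_PP {x : k} : x ∈ PP (k := k) p ↔ ∃ y : k, y ^ p = x := Iff.rfl

/-- `k^p(Y)` -/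
def adj (Y : Set k) : Subfield k := Subfield.closure ((PP (k := k) p : Set k) ∪ Y)

lemma PP_le_adj (Y : Set k) : PP (k := k) p ≤ adj p Y :=
  fun x hx => Subfield.subset_closure (Or.inl hx)

lemma subset_adj (Y : Set k) : Y ⊆ adj p Y :=
  fun x hx => Subfield.subset_closure (Or.inr hx)

lemma adj_mono {Y Z : Set k} (h : Y ⊆ Z) : adj p Y ≤ adj p Z :=
  Subfield.closure_mono (Set.union_subset_union_right _ h)

lemma adj_le {Y : Set k} {E : Subfield k} (hP : PP (k := k) p ≤ E) (hY : Y ⊆ E) : adj p Y ≤ E :=
  Subfield.closure_le.mpr (Set.union_subset hP hY)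

lemma adj_empty : adj (k := k) p ∅ = PP p := by
  rw [adj, Set.union_empty, Subfield.closure_eq]

/-- `k^p(Y ∪ Z) = closure (k^p(Y) ∪ Z)` -/
lemma adj_union (Y Z : Set k) :
    adj p (Y ∪ Z) = Subfield.closure ((adj p Y : Set k) ∪ Z) := by
  apply le_antisymm
  · apply adj_le
    · exact fun x hx => Subfield.subset_closure (Or.inl (PP_le_adj p Y hx))
    · rintro x (hx | hx)
      · exact Subfield.subset_closure (Or.inl (subset_adj p Y hx))
      · exact Subfield.subset_closure (Or.inr hx)
  · rw [Subfield.closure_le]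
    rintro x (hx | hx)
    · exact adj_mono p Set.subset_union_left hx
    · exact subset_adj p _ (Or.inr hx)

/-- finite character of the closure -/
lemma adj_finite_char {Y : Set k} {x : k} (hx : x ∈ adj p Y) :
    ∃ T : Finset k, (T : Set k) ⊆ Y ∧ x ∈ adj p (T : Set k) := by
  classical
  induction hx using Subfield.closure_induction with
  | mem x hx =>
    rcases hx with hx | hx
    · exact ⟨∅, by simp, PP_le_adj p _ hx⟩
    · exact ⟨{x}, by simpa using hx, subset_adj p _ (by simp)⟩
  | one => exact ⟨∅, by simp, one_mem _⟩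
  | add x y _ _ hx hy =>
    obtain ⟨T₁, h₁, hx⟩ := hx
    obtain ⟨T₂, h₂, hy⟩ := hy
    refine ⟨T₁ ∪ T₂, by simpa using ⟨h₁, h₂⟩, ?_⟩
    exact add_mem (adj_mono p (by simp) hx) (adj_mono p (by simp) hy)
  | neg x _ hx =>
    obtain ⟨T, h, hx⟩ := hx
    exact ⟨T, h, neg_mem hx⟩
  | inv x _ hx =>
    obtain ⟨T, h, hx⟩ := hx
    exact ⟨T, h, inv_mem hx⟩
  | mul x y _ _ hx hy =>
    obtain ⟨T₁, h₁, hx⟩ := hx
    obtain ⟨T₂, h₂, hy⟩ := hy
    refine ⟨T₁ ∪ T₂, by simpa using ⟨h₁, h₂⟩, ?_⟩
    exact mul_mem (adj_mono p (by simp) hx) (adj_mono p (by simp) hy)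

/-- exchange lemma -/
theorem exchange (E : Subfield k) (hE : PP (k := k) p ≤ E) (c x : k)
    (hx : x ∈ Subfield.closure ((E : Set k) ∪ {c})) (hxE : x ∉ E) :
    c ∈ Subfield.closure ((E : Set k) ∪ {x}) := by
  have hp : p.Prime := Fact.out
  have hrange : Set.range (algebraMap E k) = (E : Set k) := by
    ext y
    constructor
    · rintro ⟨z, rfl⟩; exact z.2
    · intro hy; exact ⟨⟨y, hy⟩, rfl⟩
  have hcE : c ∉ E := by
    intro hc
    apply hxE
    have : Subfield.closure ((E : Set k) ∪ {c}) ≤ E := by
      rw [Subfield.closure_le]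
      rintro y (hy | hy)
      · exact hy
      · rw [Set.mem_singleton_iff.mp hy]; exact hc
    exact this hx
  set a : E := ⟨c ^ p, hE (pow_mem_PP p c)⟩ with ha
  have hirr : Irreducible (X ^ p - C a : E[X]) := by
    apply X_pow_sub_C_irreducible_of_prime hp
    intro b hb
    apply hcE
    have h1 : (b : k) ^ p = c ^ p := by
      have := congrArg (fun z : E => (z : k)) hb
      simpa [ha] using this
    have h2 : ((b : k) - c) ^ p = 0 := by
      rw [sub_pow_char, h1, sub_self]
    have h3 : (b : k) - c = 0 := pow_eq_zero_iff hp.ne_zero |>.mp h2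
    rw [← sub_eq_zero.mp h3]
    exact b.2
  have hmonic : (X ^ p - C a : E[X]).Monic := monic_X_pow_sub_C a hp.ne_zero
  have hroot : aeval c (X ^ p - C a : E[X]) = 0 := by
    rw [map_sub, map_pow, aeval_X, aeval_C, sub_eq_zero]; rfl
  have hcint : IsIntegral E c := ⟨_, hmonic, by rwa [aeval_def] at hroot⟩
  have hmin : (X ^ p - C a : E[X]) = minpoly E c :=
    minpoly.eq_of_irreducible_of_monic hirr hroot hmonic
  set L : IntermediateField E k := IntermediateField.adjoin E {c} with hL
  set M : IntermediateField E k := IntermediateField.adjoin E {x} with hM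
  have hLfin : FiniteDimensional E L := IntermediateField.adjoin.finiteDimensional hcint
  have hLrank : Module.finrank E L = p := by
    rw [hL, IntermediateField.adjoin.finrank hcint, ← hmin, natDegree_X_pow_sub_C]
  have hxL : x ∈ L := by
    change x ∈ Subfield.closure (Set.range (algebraMap E k) ∪ {c})
    rw [hrange]; exact hx
  have hML : M ≤ L := IntermediateField.adjoin_simple_le_iff.mpr hxL
  have hMbot : M ≠ ⊥ := by
    intro h
    have hxM : x ∈ M := IntermediateField.mem_adjoin_simple_self E x
    rw [h, IntermediateField.mem_bot, hrange] at hxM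
    exact hxE hxM
  have hMdvd : Module.finrank E M ∣ p := by
    rw [← hLrank]; exact IntermediateField.finrank_dvd_of_le_right hML
  have hMrank : Module.finrank E M = p := by
    rcases (Nat.dvd_prime hp).mp hMdvd with h | h
    · exact absurd (IntermediateField.finrank_eq_one_iff.mp h) hMbot
    · exact h
  have hMLeq : M = L := IntermediateField.eq_of_le_of_finrank_eq hML (by rw [hMrank, hLrank])
  have hcM : c ∈ M := by
    rw [hMLeq]; exact IntermediateField.mem_adjoin_simple_self E c
  have : c ∈ Subfield.closure (Set.range (algebraMap E k) ∪ {x}) := hcM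
  rwa [hrange] at this

/-- p-independence -/
def PInd (B : Set k) : Prop := ∀ c ∈ B, c ∉ adj p (B \ {c})

/-- exchange in terms of `adj` -/
theorem exchange' (Y : Set k) (c x : k) (hx : x ∈ adj p (Y ∪ {c})) (hxY : x ∉ adj p Y) :
    c ∈ adj p (Y ∪ {x}) := by
  rw [adj_union] at hx ⊢
  exact exchange p (adj p Y) (PP_le_adj p Y) c x hx hxY

theorem exists_maximal_pind : ∃ B : Set k, Maximal (fun B => PInd p B) B := by
  apply zorn_subset
  intro 𝒞 h𝒞 hchain
  by_cases hne : 𝒞.Nonempty
  · refine ⟨⋃₀ 𝒞, ?_, fun s hs => Set.subset_sUnion_of_mem hs⟩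
    intro c hc hcon
    obtain ⟨C₁, hC₁, hcC₁⟩ := hc
    obtain ⟨T, hT, hcT⟩ := adj_finite_char p hcon
    have hT' : (T : Set k) ⊆ ⋃₀ 𝒞 := fun y hy => (hT hy).1
    obtain ⟨C₀, hC₀, hTC₀⟩ := hchain.directedOn.exists_mem_subset_of_finite_of_subset_sUnion hne
      T.finite_toSet hT'
    obtain ⟨C, hC, h0, h1⟩ := hchain.directedOn C₀ hC₀ C₁ hC₁
    have hcC : c ∈ C := h1 hcC₁
    apply h𝒞 hC c hcC
    apply adj_mono p _ hcT
    intro y hy
    exact ⟨h0 (hTC₀ hy), (hT hy).2⟩
  · refine ⟨∅, ?_, fun s hs => absurd ⟨s, hs⟩ hne⟩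
    intro c hc
    exact absurd hc (Set.notMem_empty c)

theorem adj_eq_top_of_maximal {B : Set k} (hB : Maximal (fun B => PInd p B) B) :
    adj p B = ⊤ := by
  rw [eq_top_iff]
  intro x _
  by_contra hx
  have hxB : x ∉ B := fun h => hx (subset_adj p B h)
  have hind : PInd p (B ∪ {x}) := by
    intro c hc hcon
    rcases hc with hc | hc
    · have hcx : c ≠ x := fun h => hxB (h ▸ hc)
      have hsub : (B ∪ {x}) \ {c} ⊆ (B \ {c}) ∪ {x} := by
        rintro y ⟨h1 | h1, h2⟩
        · exact Or.inl ⟨h1, h2⟩
        · exact Or.inr h1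
      have h1 : c ∈ adj p ((B \ {c}) ∪ {x}) := adj_mono p hsub hcon
      have h2 : c ∉ adj p (B \ {c}) := hB.prop c hc
      have h3 := exchange' p (B \ {c}) x c h1 h2
      apply hx
      apply adj_mono p _ h3
      rintro y (hy | hy)
      · exact hy.1
      · rw [Set.mem_singleton_iff.mp hy]; exact hc
    · rw [Set.mem_singleton_iff.mp hc] at hcon
      apply hx
      apply adj_mono p _ hcon
      rintro y ⟨h1 | h1, h2⟩
      · exact h1
      · exact absurd h1 h2
  have := hB.2 hind Set.subset_union_left
  exact hxB (this (Or.inr rfl))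

/-- intersection of the cofinite subfields is `k^p` -/
theorem iInf_adj_diff {B : Set k} (hB : PInd p B) (htop : adj p B = ⊤) :
    (⨅ J : Finset k, adj p (B \ (J : Set k))) = PP p := by
  classical
  apply le_antisymm
  · intro x hx
    rw [Subfield.mem_iInf] at hx
    have hxB : x ∈ adj p B := by rw [htop]; trivial
    obtain ⟨T, hTB, hxT⟩ := adj_finite_char p hxB
    have hxT' := hx T
    clear hx hxB
    induction T using Finset.induction_on generalizing x with
    | empty =>
      rw [Finset.coe_empty, adj_empty] at hxT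
      exact hxT
    | insert c T₁ hc ih =>
      have hcB : c ∈ B := hTB (by simp)
      have hT₁B : (T₁ : Set k) ⊆ B := fun y hy => hTB (by simp [Finset.mem_coe.mp hy])
      have hcoe : ((insert c T₁ : Finset k) : Set k) = (T₁ : Set k) ∪ {c} := by
        rw [Finset.coe_insert, Set.union_singleton]
      rw [hcoe] at hxT hxT'
      by_cases hx1 : x ∈ adj p (T₁ : Set k)
      · apply ih hT₁B hx1
        apply adj_mono p _ hxT'
        intro y hy
        exact ⟨hy.1, fun h => hy.2 (Or.inl h)⟩
      · exfalso
        have h3 := exchange' p (T₁ : Set k) c x hxT hx1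
        apply hB c hcB
        have hle : adj p ((T₁ : Set k) ∪ {x}) ≤ adj p (B \ {c}) := by
          apply adj_le p (PP_le_adj p _)
          rintro y (hy | hy)
          · apply subset_adj
            refine ⟨hT₁B hy, ?_⟩
            intro h
            rw [Set.mem_singleton_iff.mp h] at hy
            exact hc (Finset.mem_coe.mp hy)
          · rw [Set.mem_singleton_iff.mp hy]
            apply adj_mono p _ hxT'
            intro z hz
            exact ⟨hz.1, fun h => hz.2 (Or.inr h)⟩
        exact hle h3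
  · exact le_iInf (fun J => PP_le_adj p _)

/-- `k` is finite over `k^p(B \ J)` -/
theorem finite_over_adj_diff {B : Set k} (htop : adj p B = ⊤) (J : Finset k) :
    Module.Finite (adj p (B \ (J : Set k))) k := by
  classical
  set E := adj p (B \ (J : Set k)) with hE
  set S : Set k := B ∩ (J : Set k) with hS
  have hSfin : S.Finite := J.finite_toSet.subset Set.inter_subset_right
  haveI : Finite S := hSfin.to_subtype
  have hrange : Set.range (algebraMap E k) = (E : Set k) := by
    ext y
    constructor
    · rintro ⟨z, rfl⟩; exact z.2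
    · intro hy; exact ⟨⟨y, hy⟩, rfl⟩
  have hint : ∀ x ∈ S, IsIntegral E x := by
    intro x _
    refine ⟨X ^ p - C (⟨x ^ p, PP_le_adj p _ (pow_mem_PP p x)⟩ : E),
      monic_X_pow_sub_C _ (Fact.out : p.Prime).ne_zero, ?_⟩
    rw [← aeval_def, map_sub, map_pow, aeval_X, aeval_C, sub_eq_zero]; rfl
  haveI hfd : FiniteDimensional E (IntermediateField.adjoin E S) :=
    IntermediateField.finiteDimensional_adjoin hint
  have hadj : IntermediateField.adjoin E S = ⊤ := by
    rw [eq_top_iff]
    intro x _
    change x ∈ Subfield.closure (Set.range (algebraMap E k) ∪ S)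
    rw [hrange, hE, ← adj_union]
    have : (B \ (J : Set k)) ∪ S = B := by
      rw [hS]; exact Set.sdiff_union_inter B J
    rw [this, htop]; trivial
  rw [hadj] at hfd
  exact Module.Finite.equiv (IntermediateField.topEquiv (F := E) (E := k)).toLinearEquiv

end Groth.Agent.H9.PBS
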