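import Mathlib

set_option autoImplicit false
set_option linter.style.haveILetI false
set_option linter.unusedSectionVars false
set_option linter.unusedVariables false

namespace Groth.Agent.H9.PBS2

open MvPowerSeries

universe u

variable {k : Type u} [Field k] (p : ℕ) [hp : Fact p.Prime]
variable {σ : Type} [Fintype σ] [DecidableEq σ]

/-- the embedding `F[[T]] → k[[T]]`, `g ↦ g(T^p)` -/
noncomputable def psi (F : Subfield k) : MvPowerSeries σ F →+* MvPowerSeries σ k :=
  ((MvPowerSeries.expand (R := k) (σ := σ) p hp.out.ne_zero).toRingHom).comp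
    (MvPowerSeries.map F.subtype)

/-- componentwise quotient by `p` -/
noncomputable def quo (n : σ →₀ ℕ) : σ →₀ ℕ := n.mapRange (· / p) (Nat.zero_div p)

lemma quo_apply (n : σ →₀ ℕ) (i : σ) : quo p n i = n i / p := by simp [quo]

/-- componentwise remainder -/
def rem (n : σ →₀ ℕ) : σ → Fin p := fun i => ⟨n i % p, Nat.mod_lt _ hp.out.pos⟩

/-- function to finsupp -/
noncomputable def toF (δ : σ → Fin p) : σ →₀ ℕ := Finsupp.equivFunOnFinite.symm (fun i => (δ i : ℕ))

lemma toF_apply (δ : σ → Fin p) (i : σ) : toF p δ i = (δ i : ℕ) := by simp [toF]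

lemma quo_add_rem (n : σ →₀ ℕ) : p • quo p n + toF p (rem p n) = n := by
  ext i
  simp only [Finsupp.add_apply, Finsupp.smul_apply, quo_apply, toF_apply, rem, smul_eq_mul]
  exact Nat.div_add_mod _ _

lemma quo_smul_add (m : σ →₀ ℕ) (δ : σ → Fin p) : quo p (p • m + toF p δ) = m := by
  ext i
  simp only [quo_apply, Finsupp.add_apply, Finsupp.smul_apply, toF_apply, smul_eq_mul]
  rw [Nat.mul_add_div hp.out.pos, Nat.div_eq_of_lt (δ i).2, add_zero]

lemma rem_smul_add (m : σ →₀ ℕ) (δ : σ → Fin p) : rem p (p • m + toF p δ) = δ := by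
  funext i
  apply Fin.ext
  simp only [rem, Finsupp.add_apply, Finsupp.smul_apply, toF_apply, smul_eq_mul]
  rw [Nat.mul_add_mod, Nat.mod_eq_of_lt (δ i).2]

lemma coeff_psi (F : Subfield k) (h : MvPowerSeries σ F) (m : σ →₀ ℕ) :
    coeff m (psi p F h) = if ∀ i, p ∣ m i then ((coeff (quo p m) h : F) : k) else 0 := by
  split_ifs with hm
  · have : m = p • quo p m := by
      ext i
      simp only [Finsupp.smul_apply, quo_apply, smul_eq_mul]
      exact (Nat.mul_div_cancel' (hm i)).symm
    conv_lhs => rw [this]
    simp only [psi, RingHom.comp_apply, AlgHom.toRingHom_eq_coe, RingHom.coe_coe]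
    rw [coeff_expand_smul, coeff_map]
    rfl
  · push Not at hm
    obtain ⟨i, hi⟩ := hm
    simp only [psi, RingHom.comp_apply, AlgHom.toRingHom_eq_coe, RingHom.coe_coe]
    exact coeff_expand_of_not_dvd p hp.out.ne_zero _ hi

lemma psi_injective (F : Subfield k) : Function.Injective (psi (σ := σ) p F) := by
  intro h₁ h₂ h
  ext m
  have := congrArg (coeff (p • m)) h
  rw [coeff_psi, coeff_psi] at this
  have hd : ∀ i, p ∣ (p • m) i := fun i => by simp
  rw [if_pos hd, if_pos hd] at this
  have hq : quo p (p • m) = m := by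
    have := quo_smul_add p m (fun _ => ⟨0, hp.out.pos⟩)
    have h0 : toF p (fun _ : σ => (⟨0, hp.out.pos⟩ : Fin p)) = 0 := by
      ext i; simp [toF_apply]
    rwa [h0, add_zero] at this
  rw [hq] at this
  exact congrArg Subtype.val (Subtype.ext this)

/-- key coefficient formula for one term -/
lemma coeff_term (F : Subfield k) (h : MvPowerSeries σ F) (δ : σ → Fin p) (c : k) (n : σ →₀ ℕ) :
    coeff n (psi p F h * monomial (toF p δ) c) =
      if δ = rem p n then ((coeff (quo p n) h : F) : k) * c else 0 := by
  rw [coeff_mul_monomial]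
  by_cases hδ : δ = rem p n
  · rw [if_pos hδ]
    have hle : toF p δ ≤ n := by
      intro i
      rw [toF_apply, hδ]
      exact Nat.mod_le _ _
    rw [if_pos hle]
    have hsub : n - toF p δ = p • quo p n := by
      conv_lhs => rw [← quo_add_rem p n, hδ]
      exact add_tsub_cancel_right _ _
    rw [hsub, coeff_psi, if_pos (fun i => by simp)]
    have hq : quo p (p • quo p n) = quo p n := by
      have := quo_smul_add p (quo p n) (fun _ => ⟨0, hp.out.pos⟩)
      have h0 : toF p (fun _ : σ => (⟨0, hp.out.pos⟩ : Fin p)) = 0 := by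
        ext i; simp [toF_apply]
      rwa [h0, add_zero] at this
    rw [hq]
  · rw [if_neg hδ]
    split_ifs with hle
    · rw [coeff_psi, if_neg, zero_mul]
      intro hdvd
      apply hδ
      funext i
      apply Fin.ext
      simp only [rem]
      have h1 := hdvd i
      have h2 := hle i
      rw [Finsupp.tsub_apply, toF_apply] at h1
      rw [toF_apply] at h2
      have h3 : n i = (n i - δ i) + δ i := (Nat.sub_add_cancel h2).symm
      obtain ⟨q, hq⟩ := h1
      rw [h3, hq, Nat.mul_add_mod, Nat.mod_eq_of_lt (δ i).2]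
    · rfl

variable (F : Subfield k) {ι : Type} [Fintype ι] [DecidableEq ι] (e : Module.Basis ι F k)

/-- the candidate basis vectors -/
noncomputable def bvec (i : ι × (σ → Fin p)) : MvPowerSeries σ k := monomial (toF p i.2) (e i.1)

/-- coefficient formula for a combination -/
lemma coeff_comb (h : ι × (σ → Fin p) → MvPowerSeries σ F) (n : σ →₀ ℕ) :
    coeff n (∑ i, psi p F (h i) * bvec p F e i) =
      ∑ a, ((coeff (quo p n) (h (a, rem p n)) : F) : k) * e a := by
  rw [map_sum, Fintype.sum_prod_type]
  apply Finset.sum_congr rfl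
  intro a _
  simp only [bvec, coeff_term]
  rw [Finset.sum_ite_eq' Finset.univ (rem p n)]
  simp

/-- the subring `F[[T^p]]` -/
noncomputable def SS : Subring (MvPowerSeries σ k) := (psi (σ := σ) p F).range

lemma mem_SS_iff (f : MvPowerSeries σ k) :
    f ∈ SS (σ := σ) p F ↔ (∀ n, coeff n f ∈ F) ∧ (∀ n, coeff n f ≠ 0 → ∀ i, p ∣ n i) := by
  constructor
  · rintro ⟨h, rfl⟩
    constructor
    · intro n
      rw [coeff_psi]
      split_ifs
      · exact (coeff (quo p n) h).2
      · exact zero_mem _
    · intro n hn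
      rw [coeff_psi] at hn
      by_contra hcon
      exact hn (if_neg hcon)
  · rintro ⟨h1, h2⟩
    refine ⟨fun m => ⟨coeff (p • m) f, h1 _⟩, ?_⟩
    ext n
    rw [coeff_psi]
    split_ifs with hd
    · have : p • quo p n = n := by
        ext i
        simp only [Finsupp.smul_apply, quo_apply, smul_eq_mul]
        exact Nat.mul_div_cancel' (hd i)
      show coeff (p • quo p n) f = coeff n f
      rw [this]
    · by_contra hne
      exact hd (h2 n (Ne.symm hne))

theorem isNoetherianRing_SS : IsNoetherianRing (SS (σ := σ) p F) := by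
  have hbij : Function.Bijective (psi (σ := σ) p F).rangeRestrict :=
    ⟨fun a b hab => psi_injective p F (congrArg Subtype.val hab),
      RingHom.rangeRestrict_surjective _⟩
  exact isNoetherianRing_of_ringEquiv _ (RingEquiv.ofBijective _ hbij)

theorem linearIndependent_bvec :
    LinearIndependent (SS (σ := σ) p F) (bvec (σ := σ) p F e) := by
  rw [Fintype.linearIndependent_iff]
  intro g hg
  choose h hh using fun i => (g i).2
  have hsum : ∑ i, psi p F (h i) * bvec p F e i = 0 := by
    rw [← hg]
    apply Finset.sum_congr rfl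
    intro i _
    rw [hh i]
    rfl
  have hcoef : ∀ n a, coeff (quo p n) (h (a, rem p n)) = 0 := by
    intro n
    have h1 := coeff_comb p F e h n
    rw [hsum, map_zero] at h1
    have h2 : ∑ a, (coeff (quo p n) (h (a, rem p n))) • e a = 0 := by
      rw [h1]
      rfl
    exact Fintype.linearIndependent_iff.mp e.linearIndependent _ h2
  intro i
  have hi : h i = 0 := by
    ext m
    have := hcoef (p • m + toF p i.2) i.1
    rw [quo_smul_add, rem_smul_add] at this
    simpa using this
  apply Subtype.ext
  rw [← hh i, hi, map_zero]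
  rfl

theorem span_bvec :
    ⊤ ≤ Submodule.span (SS (σ := σ) p F) (Set.range (bvec (σ := σ) p F e)) := by
  intro f _
  let h : ι × (σ → Fin p) → MvPowerSeries σ F :=
    fun i m => e.repr (coeff (p • m + toF p i.2) f) i.1
  have hf : f = ∑ i, (⟨psi p F (h i), ⟨h i, rfl⟩⟩ : SS (σ := σ) p F) • bvec p F e i := by
    ext n
    have h1 := coeff_comb p F e h n
    have h2 : (∑ i, (⟨psi p F (h i), ⟨h i, rfl⟩⟩ : SS (σ := σ) p F) • bvec p F e i) =
        ∑ i, psi p F (h i) * bvec p F e i := by
      apply Finset.sum_congr rfl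
      intro i _
      rfl
    rw [h2, h1]
    have h3 : ∀ a, coeff (quo p n) (h (a, rem p n)) = e.repr (coeff n f) a := by
      intro a
      show e.repr (coeff (p • quo p n + toF p (rem p n)) f) a = _
      rw [quo_add_rem]
    simp only [h3]
    conv_lhs => rw [← e.sum_repr (coeff n f)]
    rfl
  rw [hf]
  apply Submodule.sum_mem
  intro i _
  exact Submodule.smul_mem _ _ (Submodule.subset_span ⟨i, rfl⟩)

include e in
theorem free_finite_SS :
    Module.Free (SS (σ := σ) p F) (MvPowerSeries σ k) ∧
      Module.Finite (SS (σ := σ) p F) (MvPowerSeries σ k) := by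
  let B := Module.Basis.mk (linearIndependent_bvec (σ := σ) p F e) (span_bvec (σ := σ) p F e)
  exact ⟨Module.Free.of_basis B, Module.Finite.of_basis B⟩

end Groth.Agent.H9.PBS2
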