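import Mathlib
import Groth.Agent.Lib.Helper9.Misc.KLS1
import Groth.Agent.Lib.Helper9.Misc.PBS1
import Groth.Agent.Lib.Helper9.Misc.PBS2

set_option autoImplicit false
set_option linter.style.haveILetI false
set_option linter.unusedSectionVars false
set_option linter.unusedVariables false

namespace Groth.Agent.H9.PBS3

open MvPowerSeries
open Groth.Agent.H9.PBS Groth.Agent.H9.PBS2

universe u

variable {k : Type u} [Field k] (p : ℕ) [hp : Fact p.Prime] [CharP k p]
variable {σ : Type} [Fintype σ] [DecidableEq σ]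

section general
variable {K : Type*} [Field K] [Algebra (MvPowerSeries σ k) K]

lemma mem_closure_image (R' : Subring (MvPowerSeries σ k)) (z : K) :
    z ∈ Subfield.closure (algebraMap (MvPowerSeries σ k) K '' (R' : Set (MvPowerSeries σ k))) ↔
      ∃ a b, a ∈ R' ∧ b ∈ R' ∧
        algebraMap (MvPowerSeries σ k) K b ≠ 0 ∧
        z * algebraMap (MvPowerSeries σ k) K b = algebraMap (MvPowerSeries σ k) K a := by
  rw [← Subring.coe_map]
  constructor
  · intro hz
    rw [Subfield.mem_closure_iff, Subring.closure_eq] at hz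
    obtain ⟨y, ⟨a, ha, rfl⟩, w, ⟨b, hb, rfl⟩, rfl⟩ := hz
    by_cases hb0 : algebraMap (MvPowerSeries σ k) K b = 0
    · refine ⟨0, 1, zero_mem _, one_mem _, by simp, ?_⟩
      rw [hb0, div_zero, zero_mul, map_zero]
    · exact ⟨a, b, ha, hb, hb0, div_mul_cancel₀ _ hb0⟩
  · rintro ⟨a, b, ha, hb, hb0, h⟩
    have hz : z = algebraMap (MvPowerSeries σ k) K a / algebraMap (MvPowerSeries σ k) K b := by
      rw [eq_div_iff hb0, h]
    rw [hz]
    exact div_mem (Subfield.subset_closure ⟨a, ha, rfl⟩) (Subfield.subset_closure ⟨b, hb, rfl⟩)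

end general

lemma SS_mono {F G : Subfield k} (h : F ≤ G) : SS (σ := σ) p F ≤ SS (σ := σ) p G := by
  intro f hf
  rw [mem_SS_iff] at hf ⊢
  exact ⟨fun n => h (hf.1 n), hf.2⟩

/-- every `p`-th power lies in `k^p[[T^p]]` -/
lemma pow_mem_SS (g : MvPowerSeries σ k) : g ^ p ∈ SS (σ := σ) p (PP (k := k) p) := by
  haveI : ExpChar k p := ExpChar.prime hp.out
  rw [mem_SS_iff]
  have hg : g ^ p = (g.expand p hp.out.ne_zero).map (frobenius k p) :=
    (MvPowerSeries.map_frobenius_expand p hp.out.ne_zero).symm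
  constructor
  · intro n
    rw [hg, coeff_map, frobenius_def]
    exact pow_mem_PP p _
  · intro n hn i
    by_contra hd
    apply hn
    rw [hg, coeff_map, coeff_expand_of_not_dvd p hp.out.ne_zero g hd, map_zero]

/-- every element of `k^p[[T^p]]` is a `p`-th power -/
lemma exists_pow_eq_of_mem_SS {y : MvPowerSeries σ k} (hy : y ∈ SS (σ := σ) p (PP (k := k) p)) :
    ∃ g : MvPowerSeries σ k, g ^ p = y := by
  haveI : ExpChar k p := ExpChar.prime hp.out
  obtain ⟨h₀, rfl⟩ := hy
  have hroot : ∀ m, ∃ c : k, c ^ p = ((coeff m h₀ : PP (k := k) p) : k) := fun m => (coeff m h₀).2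
  choose c hc using hroot
  refine ⟨(fun m => c m : MvPowerSeries σ k), ?_⟩
  rw [← MvPowerSeries.map_frobenius_expand p hp.out.ne_zero, MvPowerSeries.map_expand]
  simp only [psi, RingHom.comp_apply, AlgHom.toRingHom_eq_coe, RingHom.coe_coe]
  congr 1
  ext m
  rw [coeff_map, coeff_map, frobenius_def]
  exact hc m

section frac
variable (r : ℕ)

local notation "AA" => MvPowerSeries (Fin r) k
local notation "KK" => FractionRing (MvPowerSeries (Fin r) k)

theorem range_pow_le (F : Subfield k) (hF : PP (k := k) p ≤ F) (x : KK) :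
    x ^ p ∈ Subfield.closure (algebraMap AA KK '' (SS (σ := Fin r) p F : Set AA)) := by
  obtain ⟨a, b, hb, rfl⟩ := IsFractionRing.div_surjective (A := AA) x
  rw [div_pow, ← map_pow, ← map_pow]
  exact div_mem (Subfield.subset_closure ⟨_, SS_mono p hF (pow_mem_SS p a), rfl⟩)
    (Subfield.subset_closure ⟨_, SS_mono p hF (pow_mem_SS p b), rfl⟩)

theorem iInf_closure_eq {B : Set k} (hB : PInd p B) (htop : adj p B = ⊤) :
    ((⨅ J : Finset k, Subfield.closure (algebraMap AA KK ''
        (SS (σ := Fin r) p (adj p (B \ (J : Set k))) : Set AA)) : Subfield KK) : Set KK) =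
      Set.range fun x : KK => x ^ p := by
  have hinj : Function.Injective (algebraMap AA KK) := IsFractionRing.injective _ _
  haveI : ExpChar k p := ExpChar.prime hp.out
  ext x
  constructor
  · intro hx
    rw [SetLike.mem_coe, Subfield.mem_iInf] at hx
    -- Step 1
    have h1 : x ∈ ⨅ J : Finset k, Subfield.closure (algebraMap AA KK ''
        {f | ∀ n, MvPowerSeries.coeff n f ∈ adj p (B \ (J : Set k))}) := by
      rw [Subfield.mem_iInf]
      intro J
      refine Subfield.closure_mono ?_ (hx J)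
      rintro _ ⟨f, hf, rfl⟩
      exact ⟨f, ((mem_SS_iff p _ f).mp hf).1, rfl⟩
    have hq : ∀ x : k, x ^ ringExpChar k ^ 1 ∈ ⨅ J : Finset k, adj p (B \ (J : Set k)) := by
      intro x
      rw [pow_one, ringExpChar.eq k p, iInf_adj_diff p hB htop]
      exact pow_mem_PP p x
    rw [KLS.main (fun J : Finset k => adj p (B \ (J : Set k))) 1 hq r,
      iInf_adj_diff p hB htop, KLS.mem_closure_iff] at h1
    obtain ⟨u, w, hu, hw, hw0, hxw⟩ := h1
    -- Step 2
    have h2 := (mem_closure_image (SS (σ := Fin r) p (adj p (B \ ((∅ : Finset k) : Set k)))) x).mp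
      (hx ∅)
    obtain ⟨a, c, ha, hc, hc0, hxc⟩ := h2
    have ha' : a ∈ SS (σ := Fin r) p (⊤ : Subfield k) := SS_mono p le_top ha
    have hc' : c ∈ SS (σ := Fin r) p (⊤ : Subfield k) := SS_mono p le_top hc
    have hp1 : p = (p - 1) + 1 := (Nat.sub_add_cancel hp.out.one_le).symm
    -- Step 3
    set u' := u * w ^ (p - 1) with hu'
    set w' := w ^ p with hw'
    set a' := a * c ^ (p - 1) with ha'def
    set c' := c ^ p with hc'def
    have hu'mem : u' ∈ KLS.coeffSubring (Fin r) (PP (k := k) p) :=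
      mul_mem hu (pow_mem hw _)
    have hw'mem : w' ∈ SS (σ := Fin r) p (PP (k := k) p) := pow_mem_SS p w
    have hc'mem : c' ∈ SS (σ := Fin r) p (PP (k := k) p) := pow_mem_SS p c
    have ha'mem : a' ∈ SS (σ := Fin r) p (⊤ : Subfield k) := mul_mem ha' (pow_mem hc' _)
    have hxw' : x * algebraMap AA KK w' = algebraMap AA KK u' := by
      rw [hw', hu', hp1, pow_succ', map_mul, map_mul, ← mul_assoc, hxw, Nat.add_sub_cancel]
    have hxc' : x * algebraMap AA KK c' = algebraMap AA KK a' := by
      rw [hc'def, ha'def, hp1, pow_succ', map_mul, map_mul, ← mul_assoc, hxc, Nat.add_sub_cancel]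
    have hw'0 : algebraMap AA KK w' ≠ 0 := by rw [hw', map_pow]; exact pow_ne_zero _ hw0
    have hc'0 : algebraMap AA KK c' ≠ 0 := by rw [hc'def, map_pow]; exact pow_ne_zero _ hc0
    clear_value u' w' a' c'
    -- Step 4
    have hcross : u' * c' = a' * w' := by
      apply hinj
      rw [map_mul, map_mul, ← hxw', ← hxc']
      ring
    have hSle : SS (σ := Fin r) p (PP (k := k) p) ≤ KLS.coeffSubring (Fin r) (PP (k := k) p) := by
      intro f hf
      rw [KLS.mem_coeffSubring]
      exact ((mem_SS_iff p _ f).mp hf).1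
    have hy : u' * c' ∈ SS (σ := Fin r) p (PP (k := k) p) := by
      rw [mem_SS_iff]
      constructor
      · have := mul_mem hu'mem (hSle hc'mem)
        rwa [KLS.mem_coeffSubring] at this
      · rw [hcross]
        have := mul_mem ha'mem (SS_mono p le_top hw'mem)
        exact ((mem_SS_iff p _ _).mp this).2
    have hden : w' * c' ∈ SS (σ := Fin r) p (PP (k := k) p) := mul_mem hw'mem hc'mem
    have hfin : x * algebraMap AA KK (w' * c') = algebraMap AA KK (u' * c') := by
      rw [map_mul, map_mul, ← mul_assoc, hxw']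
    -- Step 5
    obtain ⟨g, hg⟩ := exists_pow_eq_of_mem_SS p hy
    obtain ⟨h, hh⟩ := exists_pow_eq_of_mem_SS p hden
    have hden0 : algebraMap AA KK (w' * c') ≠ 0 := by
      rw [map_mul]; exact mul_ne_zero hw'0 hc'0
    have hh0 : algebraMap AA KK h ≠ 0 := by
      intro h0
      apply hden0
      rw [← hh, map_pow, h0, zero_pow hp.out.ne_zero]
    refine ⟨algebraMap AA KK g / algebraMap AA KK h, ?_⟩
    show (algebraMap AA KK g / algebraMap AA KK h) ^ p = x
    rw [div_pow, ← map_pow, ← map_pow, hg, hh, div_eq_iff hden0, hfin]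
  · rintro ⟨y, rfl⟩
    rw [SetLike.mem_coe, Subfield.mem_iInf]
    intro J
    exact range_pow_le p r _ (PP_le_adj p _) y

end frac

theorem main (k : Type u) [Field k] (p : ℕ) [Fact p.Prime] [CharP k p] (r : ℕ) :
    ∃ (ι : Type u) (_ : Nonempty ι) (S : ι → Subring (MvPowerSeries (Fin r) k)),
      (∀ a b : ι, ∃ c, S c ≤ S a ⊓ S b) ∧
      (∀ i, IsNoetherianRing (S i) ∧ Module.Free (S i) (MvPowerSeries (Fin r) k) ∧
        Module.Finite (S i) (MvPowerSeries (Fin r) k)) ∧
      ((⨅ i, Subfield.closure (algebraMap (MvPowerSeries (Fin r) k)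
          (FractionRing (MvPowerSeries (Fin r) k)) '' (S i)) :
          Set (FractionRing (MvPowerSeries (Fin r) k)))) =
        Set.range fun x : FractionRing (MvPowerSeries (Fin r) k) => x ^ p := by
  classical
  obtain ⟨B, hB⟩ := exists_maximal_pind (k := k) p
  have htop := adj_eq_top_of_maximal p hB
  refine ⟨Finset k, ⟨∅⟩, fun J => SS (σ := Fin r) p (adj p (B \ (J : Set k))), ?_, ?_, ?_⟩
  rotate_left 2
  · rw [Set.iInf_eq_iInter, ← Subfield.coe_iInf]
    exact iInf_closure_eq p r hB.prop htop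
  · intro a b
    refine ⟨a ∪ b, le_inf ?_ ?_⟩
    · apply SS_mono p
      apply adj_mono p
      intro x hx
      exact ⟨hx.1, fun h => hx.2 (by simp [Finset.mem_coe.mp h])⟩
    · apply SS_mono p
      apply adj_mono p
      intro x hx
      exact ⟨hx.1, fun h => hx.2 (by simp [Finset.mem_coe.mp h])⟩
  · intro J
    haveI := finite_over_adj_diff p htop J
    let e := Module.finBasis (adj p (B \ (J : Set k))) k
    exact ⟨isNoetherianRing_SS p _, (free_finite_SS (σ := Fin r) p _ e).1,
      (free_finite_SS (σ := Fin r) p _ e).2⟩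

end Groth.Agent.H9.PBS3
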