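import Mathlib
import Groth.Agent.Lib.Lead.QC.CartierBC
import Groth.Prelude.Def_W4c6modpairsegaMP

/-! Helper9: effective Cartier ideals pulled back to a cofiltered limit with affine transition maps (S18744). -/

set_option linter.style.haveILetI false
set_option linter.unusedSectionVars false

universe u
open CategoryTheory Limits AlgebraicGeometry TopologicalSpace Opposite

namespace Groth.Agent.H9.CLM

theorem nzd_iff_of_isIso {A B : CommRingCat.{u}} (φ : A ⟶ B) [IsIso φ] (x : A) :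
    φ x ∈ nonZeroDivisors B ↔ x ∈ nonZeroDivisors A := by
  have hinj : Function.Injective φ := by
    intro a b hab
    have := congr((inv φ) $hab)
    simpa using this
  have hinj' : Function.Injective (inv φ) := by
    intro a b hab
    have := congr(φ $hab)
    simpa using this
  constructor
  · intro h
    exact mem_nonZeroDivisors_of_injective (f := φ.hom) hinj h
  · intro h
    refine mem_nonZeroDivisors_of_injective (f := (inv φ).hom) hinj' ?_
    have : (inv φ).hom (φ x) = x := by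
      change (φ ≫ inv φ) x = x
      simp
    rw [this]; exact h

section N
variable {I : Type u} [Category.{u} I] [IsCofiltered I] (D : I ⥤ Scheme.{u}) (c : Cone D)
  (hc : IsLimit c)

include hc in
/-- nonzerodivisors at all later stages of an affine cofiltered system stay nonzerodivisors in
the limit. -/
theorem appTop_mem_nonZeroDivisors_of_isAffine [∀ i, IsAffine (D.obj i)] (i : I)
    (s : Γ(D.obj i, ⊤))
    (hs : ∀ (j : I) (t : j ⟶ i), (D.map t).appTop s ∈ nonZeroDivisors Γ(D.obj j, ⊤)) :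
    (c.π.app i).appTop s ∈ nonZeroDivisors Γ(c.pt, ⊤) := by
  refine (mem_nonZeroDivisors_iff_right (M₀ := Γ(c.pt, ⊤))).mpr ?_
  intro a ha
  obtain ⟨j, aj, rfl⟩ := exists_appTop_π_eq_of_isAffine_of_isLimit D c hc a
  obtain ⟨k, u, v, -⟩ := IsCofilteredOrEmpty.cone_objs i j
  have h1 : (c.π.app k).appTop ((D.map v).appTop aj * (D.map u).appTop s) = 0 := by
    rw [map_mul]
    have e1 : (c.π.app k).appTop ((D.map v).appTop aj) = (c.π.app j).appTop aj := by
      rw [← c.w v, Scheme.Hom.comp_appTop]; rfl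
    have e2 : (c.π.app k).appTop ((D.map u).appTop s) = (c.π.app i).appTop s := by
      rw [← c.w u, Scheme.Hom.comp_appTop]; rfl
    rw [e1, e2, ha]
  obtain ⟨l, w, hw⟩ := exists_appTop_map_eq_zero_of_isAffine_of_isLimit D c hc k _ h1
  rw [map_mul] at hw
  have e3 : (D.map w).appTop ((D.map u).appTop s) = (D.map (w ≫ u)).appTop s := by
    rw [D.map_comp, Scheme.Hom.comp_appTop]; rfl
  have e4 : (D.map w).appTop ((D.map v).appTop aj) = (D.map (w ≫ v)).appTop aj := by
    rw [D.map_comp, Scheme.Hom.comp_appTop]; rfl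
  rw [e3, e4] at hw
  have h2 := (mem_nonZeroDivisors_iff_right.mp (hs l (w ≫ u))) _ hw
  have e5 : (c.π.app j).appTop aj = (c.π.app l).appTop ((D.map (w ≫ v)).appTop aj) := by
    rw [← c.w (w ≫ v), Scheme.Hom.comp_appTop]; rfl
  rw [e5, h2, map_zero]

end N

section T
variable {I : Type u} [Category.{u} I] [IsCofiltered I] (D : I ⥤ Scheme.{u}) (c : Cone D)
  (hc : IsLimit c)

set_option backward.defeqAttrib.useBackward true in
set_option backward.isDefEq.respectTransparency false in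
theorem E1 (i : I) (U : (D.obj i).Opens) (j : Over i) (t : j ⟶ Over.mk (𝟙 i))
    (H : (D.map (𝟙 i) ⁻¹ᵁ U).ι ''ᵁ ⊤ ≤ U)
    (Hj : (D.map j.hom ⁻¹ᵁ U).ι ''ᵁ ⊤ ≤ D.map j.hom ⁻¹ᵁ U) :
    (D.obj i).presheaf.map (homOfLE H).op ≫ ((opensDiagram D i U).map t).appTop =
      (D.map j.hom).app U ≫ (D.obj j.left).presheaf.map (homOfLE Hj).op := by
  have ht : t.left = j.hom := by simpa using Over.w t
  simp [Scheme.Hom.app_eq_appLE, Scheme.Hom.resLE_appLE, Scheme.Hom.appTop, ht]

set_option backward.defeqAttrib.useBackward true in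
set_option backward.isDefEq.respectTransparency false in
theorem E2 (i : I) (U : (D.obj i).Opens)
    (H : (D.map (𝟙 i) ⁻¹ᵁ U).ι ''ᵁ ⊤ ≤ U)
    (Hc : (c.π.app i ⁻¹ᵁ U).ι ''ᵁ ⊤ ≤ c.π.app i ⁻¹ᵁ U) :
    (D.obj i).presheaf.map (homOfLE H).op ≫
        ((opensCone D c i U).π.app (Over.mk (𝟙 i))).appTop =
      (c.π.app i).app U ≫ c.pt.presheaf.map (homOfLE Hc).op := by
  simp [Scheme.Hom.app_eq_appLE, Scheme.Hom.resLE_appLE, Scheme.Hom.appTop]

include hc in
/-- nonzerodivisors on an affine open at all later stages stay nonzerodivisors in the limit. -/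
theorem app_mem_nonZeroDivisors_of_isLimit [∀ {i j : I} (f : i ⟶ j), IsAffineHom (D.map f)]
    (i : I) (U : (D.obj i).Opens) (hU : IsAffineOpen U) (s : Γ(D.obj i, U))
    (hs : ∀ (j : I) (t : j ⟶ i),
      (D.map t).app U s ∈ nonZeroDivisors Γ(D.obj j, D.map t ⁻¹ᵁ U)) :
    (c.π.app i).app U s ∈ nonZeroDivisors Γ(c.pt, c.π.app i ⁻¹ᵁ U) := by
  have aff : ∀ j : Over i, IsAffine ((opensDiagram D i U).obj j) := fun j => hU.preimage (D.map _)
  have H : (D.map (𝟙 i) ⁻¹ᵁ U).ι ''ᵁ ⊤ ≤ U := by simp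
  have Hc : (c.π.app i ⁻¹ᵁ U).ι ''ᵁ ⊤ ≤ c.π.app i ⁻¹ᵁ U := by simp
  have key := appTop_mem_nonZeroDivisors_of_isAffine (opensDiagram D i U) (opensCone D c i U)
    (isLimitOpensCone D c hc i U) (Over.mk (𝟙 i))
    ((D.obj i).presheaf.map (homOfLE H).op s) ?_
  · have e2 := E2 D c i U H Hc
    have e2' := congr($e2 s)
    simp only [CommRingCat.comp_apply] at e2'
    have hiso : IsIso (c.pt.presheaf.map (homOfLE Hc).op) := by
      have : homOfLE Hc = eqToHom (by simp) := rfl
      rw [this]; infer_instance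
    refine (nzd_iff_of_isIso (c.pt.presheaf.map (homOfLE Hc).op) _).mp ?_
    rw [← e2']
    exact key
  · intro j t
    have Hj : (D.map j.hom ⁻¹ᵁ U).ι ''ᵁ ⊤ ≤ D.map j.hom ⁻¹ᵁ U := by simp
    have e1 := E1 D i U j t H Hj
    have e1' := congr($e1 s)
    simp only [CommRingCat.comp_apply] at e1'
    have hiso : IsIso ((D.obj j.left).presheaf.map (homOfLE Hj).op) := by
      have : homOfLE Hj = eqToHom (by simp) := rfl
      rw [this]; infer_instance
    have h := (nzd_iff_of_isIso ((D.obj j.left).presheaf.map (homOfLE Hj).op) _).mpr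
      (hs j.left j.hom)
    rw [← e1'] at h
    exact h

end T

/-- a principal generator of an effective Cartier ideal on an affine open is a nonzerodivisor. -/
theorem mem_nonZeroDivisors_of_ideal_eq_span {X : Scheme.{u}} (𝓘 : X.IdealSheafData)
    (h𝓘 : BlowUp.IsEffCartierIdeal 𝓘) (W : X.affineOpens) (g : Γ(X, W.1))
    (hg : 𝓘.ideal W = Ideal.span {g}) : g ∈ nonZeroDivisors Γ(X, W.1) := by
  refine mem_nonZeroDivisors_iff_right.mpr ?_
  intro a ha
  refine X.IsSheaf.section_ext (U := op W.1) ?_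
  intro x hx
  obtain ⟨V, hxV, hVW, h, hh, hIV⟩ := Groth.Agent.LD.QC.exists_affine_principal_le 𝓘 h𝓘 x W.1 hx
  refine ⟨V.1, hVW, hxV, ?_⟩
  rw [map_zero]
  have h1 := 𝓘.map_ideal (U := V) (V := W) hVW
  rw [hg, Ideal.map_span, Set.image_singleton, hIV] at h1
  have h2 : h ∈ Ideal.span {(X.presheaf.map (homOfLE hVW).op).hom g} := by
    have h0 : h ∈ Ideal.span {h} := Ideal.mem_span_singleton_self h
    rw [← h1] at h0
    exact h0
  obtain ⟨v, hv⟩ := Ideal.mem_span_singleton'.mp h2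
  refine (mem_nonZeroDivisors_iff_right.mp hh) _ ?_
  rw [← hv]
  have h3 : (X.presheaf.map (homOfLE hVW).op).hom a * (X.presheaf.map (homOfLE hVW).op).hom g
      = 0 := by
    rw [← map_mul, ha, map_zero]
  calc (X.presheaf.map (homOfLE hVW).op).hom a * (v * (X.presheaf.map (homOfLE hVW).op).hom g)
      = v * ((X.presheaf.map (homOfLE hVW).op).hom a *
          (X.presheaf.map (homOfLE hVW).op).hom g) := by ring
    _ = 0 := by rw [h3, mul_zero]

theorem S18744_main {I : Type u}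
    [SmallCategory I] [IsCofiltered I] (D : I ⥤ Scheme.{u}) (c : Cone D) (hc : IsLimit c)
    [∀ (i j : I) (t : i ⟶ j), IsAffineHom (D.map t)]
    (J : ∀ i, (D.obj i).IdealSheafData) (hJ : ∀ i, BlowUp.IsEffCartierIdeal (J i))
    (hmin : ∀ (i j : I) (t : i ⟶ j), ModPair.IsMinimal (J i) (J j) (D.map t)) (i : I) :
    BlowUp.IsEffCartierIdeal ((J i).comap (c.π.app i)) := by
  haveI : ∀ {i j : I} (f : i ⟶ j), IsAffineHom (D.map f) := fun f => inferInstance
  intro x
  obtain ⟨U, hxU, f, hf, hIU⟩ := hJ i (c.π.app i x)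
  have hπ : IsAffineHom (c.π.app i) := isAffineHom_π_app D c hc i
  refine ⟨⟨c.π.app i ⁻¹ᵁ U.1, U.2.preimage _⟩, hxU, (c.π.app i).app U.1 f, ?_, ?_⟩
  · apply app_mem_nonZeroDivisors_of_isLimit D c hc i U.1 U.2 f
    intro j t
    have h1 : J j = (J i).comap (D.map t) := hmin j i t
    apply mem_nonZeroDivisors_of_ideal_eq_span (J j) (hJ j) ⟨D.map t ⁻¹ᵁ U.1, U.2.preimage _⟩
    rw [h1, Groth.Agent.LD.QC.ideal_comap_of_le (J i) (D.map t) U ⟨_, _⟩ le_rfl, hIU,
      Ideal.map_span, Set.image_singleton, Scheme.Hom.appLE_eq_app]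
  · rw [Groth.Agent.LD.QC.ideal_comap_of_le (J i) (c.π.app i) U ⟨_, _⟩ le_rfl, hIU,
      Ideal.map_span, Set.image_singleton, Scheme.Hom.appLE_eq_app]

end Groth.Agent.H9.CLM
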