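import Mathlib
import Groth.Prelude.Def_BlowUp2
import Groth.Agent.Lib.Lead.QC.BlowUpMul
import Groth.Agent.Lib.Lead.QC.CartierCompl
import Groth.Agent.Lib.Lead.QC.IdealComap
import Groth.Agent.Lib.Helper9.Misc.BLA8
import Groth.Agent.Lib.Helper9.Misc.BLA9

/-! Helper9: the strict transform of a closed subscheme under a blow-up is the blow-up of the
closed subscheme; in particular the induced morphism of blow-ups is a closed immersion
(S17385, S10920). -/

set_option linter.style.haveILetI false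
set_option linter.unusedSectionVars false
set_option linter.unusedVariables false

universe u
open CategoryTheory Limits AlgebraicGeometry TopologicalSpace Opposite

namespace Groth.Agent.H9.BLA

section STR
variable {X X' : Scheme.{u}} (𝓘 𝓙 : X.IdealSheafData) (b : X' ⟶ X)

/-- the complement of the exceptional divisor. -/
noncomputable abbrev excCompl : X'.Opens := (𝓘.comap b).support.compl

/-- the ideal of the strict transform of `V(𝓙)`: restrict the total transform to the complement of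
the exceptional divisor and take the scheme-theoretic closure. -/
noncomputable def strictIdeal : X'.IdealSheafData :=
  ((𝓙.comap b).comap (excCompl 𝓘 b).ι).map (excCompl 𝓘 b).ι

theorem comap_le_strictIdeal : 𝓙.comap b ≤ strictIdeal 𝓘 𝓙 b :=
  Scheme.IdealSheafData.le_map_comap _ _

theorem comap_subschemeι_self (𝓚 : X.IdealSheafData) : 𝓚.comap 𝓚.subschemeι = ⊥ := by
  rw [← le_bot_iff, ← Scheme.IdealSheafData.le_map_iff_comap_le, Scheme.IdealSheafData.map_bot,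
    Scheme.IdealSheafData.ker_subschemeι]

/-- the strict transform as a scheme. -/
noncomputable abbrev strictT : Scheme.{u} := (strictIdeal 𝓘 𝓙 b).subscheme

/-- its closed immersion into the blow-up. -/
noncomputable abbrev strictι : strictT 𝓘 𝓙 b ⟶ X' := (strictIdeal 𝓘 𝓙 b).subschemeι

theorem le_ker_strictι_comp : 𝓙 ≤ (strictι 𝓘 𝓙 b ≫ b).ker := by
  change 𝓙 ≤ (strictIdeal 𝓘 𝓙 b).map b
  rw [Scheme.IdealSheafData.le_map_iff_comap_le]
  exact comap_le_strictIdeal 𝓘 𝓙 b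

/-- the map from the strict transform to the closed subscheme. -/
noncomputable def strictc : strictT 𝓘 𝓙 b ⟶ 𝓙.subscheme :=
  (strictι 𝓘 𝓙 b ≫ b).toImage ≫ Scheme.IdealSheafData.inclusion (le_ker_strictι_comp 𝓘 𝓙 b)

theorem strictc_ι : strictc 𝓘 𝓙 b ≫ 𝓙.subschemeι = strictι 𝓘 𝓙 b ≫ b := by
  unfold strictc
  rw [Category.assoc, Scheme.IdealSheafData.inclusion_subschemeι, Scheme.Hom.toImage_imageι]

variable {𝓘 b}

/-- `U'.ι` is affine. -/
theorem isAffineHom_excCompl_ι (hE : BlowUp.IsEffCartierIdeal (𝓘.comap b)) :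
    IsAffineHom (excCompl 𝓘 b).ι :=
  Groth.Agent.LD.QC.isAffineHom_compl_of_locPrincipal _ (fun x _ => by
    obtain ⟨U, hx, a, _, h⟩ := hE x
    exact ⟨U, hx, a, h⟩)

theorem strictIdeal_ideal (hE : BlowUp.IsEffCartierIdeal (𝓘.comap b)) (V' : X'.affineOpens) :
    haveI := isAffineHom_excCompl_ι hE
    (strictIdeal 𝓘 𝓙 b).ideal V' =
      (((𝓙.comap b).comap (excCompl 𝓘 b).ι).ideal ⟨_, V'.2.preimage (excCompl 𝓘 b).ι⟩).comap
        ((excCompl 𝓘 b).ι.app V'.1).hom := by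
  haveI := isAffineHom_excCompl_ι hE
  exact Scheme.IdealSheafData.ideal_map_of_isAffineHom _ _ V'

/-- a local generator of the exceptional ideal becomes a unit on the complement. -/
theorem isUnit_app_of_span (hE : BlowUp.IsEffCartierIdeal (𝓘.comap b)) (V' : X'.affineOpens)
    (t : Γ(X', V'.1)) (ht : (𝓘.comap b).ideal V' = Ideal.span {t}) :
    IsUnit (((excCompl 𝓘 b).ι.app V'.1).hom t) := by
  haveI := isAffineHom_excCompl_ι hE
  have h1 := Groth.Agent.LD.QC.ideal_comap_of_le (𝓘.comap b) (excCompl 𝓘 b).ι V'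
    ⟨_, V'.2.preimage (excCompl 𝓘 b).ι⟩ le_rfl
  rw [Groth.Agent.LD.QC.comap_compl_support_eq_top, ht, Ideal.map_span, Set.image_singleton,
    Scheme.IdealSheafData.ideal_top] at h1
  have h2 : Ideal.span {((excCompl 𝓘 b).ι.appLE V'.1 ((excCompl 𝓘 b).ι ⁻¹ᵁ V'.1) le_rfl).hom t} = ⊤ :=
    h1.symm
  rw [Ideal.span_singleton_eq_top] at h2
  rwa [Scheme.Hom.app_eq_appLE]

/-- the inverse image of the centre on the strict transform is effective Cartier. -/
theorem isEffCartier_comap_strictι (hE : BlowUp.IsEffCartierIdeal (𝓘.comap b)) :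
    BlowUp.IsEffCartierIdeal ((𝓘.comap b).comap (strictι 𝓘 𝓙 b)) := by
  haveI := isAffineHom_excCompl_ι hE
  intro z
  obtain ⟨V', hzV', t, ht, hEt⟩ := hE (strictι 𝓘 𝓙 b z)
  set j := strictι 𝓘 𝓙 b with hj
  refine ⟨⟨j ⁻¹ᵁ V'.1, V'.2.preimage j⟩, hzV', (j.app V'.1).hom t, ?_, ?_⟩
  · rw [mem_nonZeroDivisors_iff_right]
    intro r hr
    obtain ⟨s, rfl⟩ := (strictIdeal 𝓘 𝓙 b).subschemeι_app_surjective V' r
    have hker := (strictIdeal 𝓘 𝓙 b).ker_subschemeι_app V'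
    have h1 : s * t ∈ (strictIdeal 𝓘 𝓙 b).ideal V' := by
      rw [← hker, RingHom.mem_ker, map_mul]
      exact hr
    rw [strictIdeal_ideal 𝓙 hE V', Ideal.mem_comap, map_mul] at h1
    have h2 := (Ideal.mul_unit_mem_iff_mem _ (isUnit_app_of_span hE V' t hEt)).mp h1
    have h3 : s ∈ (strictIdeal 𝓘 𝓙 b).ideal V' := by
      rw [strictIdeal_ideal 𝓙 hE V', Ideal.mem_comap]
      exact h2
    rw [← hker, RingHom.mem_ker] at h3
    exact h3
  · rw [Groth.Agent.LD.QC.ideal_comap_of_le (𝓘.comap b) j V' ⟨j ⁻¹ᵁ V'.1, V'.2.preimage j⟩ le_rfl,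
      hEt, Ideal.map_span, Set.image_singleton, Scheme.Hom.app_eq_appLE]

theorem app_eq_zero_of_eq {Y Z : Scheme.{u}} {φ ψ : Y ⟶ Z} (e : φ = ψ) (V : Z.Opens) (s : Γ(Z, V))
    (h : (ψ.app V).hom s = 0) : (φ.app V).hom s = 0 := by
  subst e; exact h

theorem app_comp_apply {Y Z T : Scheme.{u}} (f : Y ⟶ Z) (g : Z ⟶ T) (V : T.Opens) (s : Γ(T, V)) :
    ((f ≫ g).app V).hom s = (f.app (g ⁻¹ᵁ V)).hom ((g.app V).hom s) := rfl

theorem app_eq_zero_of_comp {W Y Z : Scheme.{u}} (i : W ⟶ Y) [IsSchemeTheoreticallyDominant i]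
    [QuasiCompact i] (f : Y ⟶ Z) (V : Z.Opens) (s : Γ(Z, V))
    (h : ((i ≫ f).app V).hom s = 0) : (f.app V).hom s = 0 := by
  apply i.app_injective (f ⁻¹ᵁ V)
  rw [map_zero]
  rw [app_comp_apply] at h
  exact h

theorem app_mem_ker_of_le {Y Z : Scheme.{u}} (f : Y ⟶ Z) (𝓚 : Z.IdealSheafData) (h𝓚 : 𝓚 ≤ f.ker)
    (V : Z.affineOpens) (s : Γ(Z, V.1)) (hs : s ∈ 𝓚.ideal V) : (f.app V.1).hom s = 0 :=
  RingHom.mem_ker.mp (f.ideal_ker_le _ (h𝓚 _ hs))

/-- the open complement of the support of an ideal sheaf. -/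
noncomputable abbrev cmpl {Y : Scheme.{u}} (D : Y.IdealSheafData) : Y.Opens := D.support.compl

theorem exists_lift_excCompl {Y : Scheme.{u}} (h : Y ⟶ X') :
    ∃ hU : (cmpl ((𝓘.comap b).comap h) : Scheme.{u}) ⟶ (excCompl 𝓘 b : Scheme.{u}),
      hU ≫ (excCompl 𝓘 b).ι = (cmpl ((𝓘.comap b).comap h)).ι ≫ h := by
  have hrange : Set.range ((cmpl ((𝓘.comap b).comap h)).ι ≫ h) ⊆
      Set.range (excCompl 𝓘 b).ι := by
    rintro _ ⟨y, rfl⟩
    rw [Scheme.Opens.range_ι]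
    have hy : y.1 ∉ ((𝓘.comap b).comap h).support := y.2
    rw [Scheme.IdealSheafData.support_comap] at hy
    exact hy
  exact ⟨IsOpenImmersion.lift _ _ hrange, IsOpenImmersion.lift_fac _ _ _⟩

/-- a morphism to the blow-up along which the centre becomes effective Cartier and `𝓙` dies
kills the ideal of the strict transform. -/
theorem strictIdeal_le_ker (hE : BlowUp.IsEffCartierIdeal (𝓘.comap b)) {Y : Scheme.{u}} (h : Y ⟶ X')
    (hD : BlowUp.IsEffCartierIdeal ((𝓘.comap b).comap h)) (hJ : 𝓙.comap (h ≫ b) = ⊥) :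
    strictIdeal 𝓘 𝓙 b ≤ h.ker := by
  haveI := isAffineHom_excCompl_ι hE
  haveI hdom : IsSchemeTheoreticallyDominant (cmpl ((𝓘.comap b).comap h)).ι :=
    Groth.Agent.LD.QC.isSchemeTheoreticallyDominant_compl_of_effCartier _ hD
  haveI : IsAffineHom (cmpl ((𝓘.comap b).comap h)).ι :=
    Groth.Agent.LD.QC.isAffineHom_compl_of_locPrincipal _ (fun x _ => by
      obtain ⟨U, hx, a, _, h⟩ := hD x
      exact ⟨U, hx, a, h⟩)
  obtain ⟨hU, hhU⟩ := exists_lift_excCompl (𝓘 := 𝓘) (b := b) h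
  have hle : (𝓙.comap b).comap (excCompl 𝓘 b).ι ≤ hU.ker := by
    rw [← Scheme.IdealSheafData.map_bot, Scheme.IdealSheafData.le_map_iff_comap_le]
    have e1 : ((𝓙.comap b).comap (excCompl 𝓘 b).ι).comap hU =
        (𝓙.comap b).comap (hU ≫ (excCompl 𝓘 b).ι) :=
      (Scheme.IdealSheafData.comap_comp _ _ _).symm
    have e2 : (𝓙.comap b).comap ((cmpl ((𝓘.comap b).comap h)).ι ≫ h) =
        ((𝓙.comap b).comap h).comap (cmpl ((𝓘.comap b).comap h)).ι :=
      Scheme.IdealSheafData.comap_comp _ _ _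
    have e3 : (𝓙.comap b).comap h = 𝓙.comap (h ≫ b) :=
      (Scheme.IdealSheafData.comap_comp _ _ _).symm
    rw [e1, hhU, e2, e3, hJ, Scheme.IdealSheafData.comap_bot]
  unfold Scheme.Hom.ker
  rw [Scheme.IdealSheafData.le_ofIdeals_iff]
  intro V' s hs
  rw [RingHom.mem_ker]
  apply app_eq_zero_of_comp (cmpl ((𝓘.comap b).comap h)).ι h V'.1 s
  apply app_eq_zero_of_eq hhU.symm
  rw [app_comp_apply]
  rw [strictIdeal_ideal 𝓙 hE V', Ideal.mem_comap] at hs
  exact app_mem_ker_of_le hU _ hle _ _ hs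

/-- **the strict transform of `V(𝓙)` is the blow-up of `V(𝓙)` in the inverse image of the
centre.** -/
theorem isBlowUp_strictc (hb : BlowUp.IsBlowUp b 𝓘) :
    BlowUp.IsBlowUp (strictc 𝓘 𝓙 b) (𝓘.comap 𝓙.subschemeι) := by
  refine ⟨?_, ?_⟩
  · rw [← Scheme.IdealSheafData.comap_comp, strictc_ι, Scheme.IdealSheafData.comap_comp]
    exact isEffCartier_comap_strictι 𝓙 hb.1
  · intro Y g hg
    have hg' : BlowUp.IsEffCartierIdeal (𝓘.comap (g ≫ 𝓙.subschemeι)) := by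
      rw [Scheme.IdealSheafData.comap_comp]; exact hg
    obtain ⟨h, hh, hu⟩ := hb.2 Y (g ≫ 𝓙.subschemeι) hg'
    have hD : BlowUp.IsEffCartierIdeal ((𝓘.comap b).comap h) := by
      rw [← Scheme.IdealSheafData.comap_comp, hh]; exact hg'
    have hJ : 𝓙.comap (h ≫ b) = ⊥ := by
      rw [hh, Scheme.IdealSheafData.comap_comp, comap_subschemeι_self,
        Scheme.IdealSheafData.comap_bot]
    have hle := strictIdeal_le_ker 𝓙 hb.1 h hD hJ
    let l : Y ⟶ strictT 𝓘 𝓙 b := h.toImage ≫ Scheme.IdealSheafData.inclusion hle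
    have hl : l ≫ strictι 𝓘 𝓙 b = h := by
      change (h.toImage ≫ Scheme.IdealSheafData.inclusion hle) ≫ _ = h
      rw [Category.assoc, Scheme.IdealSheafData.inclusion_subschemeι, Scheme.Hom.toImage_imageι]
    refine ⟨l, ?_, ?_⟩
    · change l ≫ strictc 𝓘 𝓙 b = g
      rw [← cancel_mono 𝓙.subschemeι, Category.assoc, strictc_ι, ← Category.assoc, hl, hh]
    · intro l' hl'
      change l' ≫ strictc 𝓘 𝓙 b = g at hl'
      rw [← cancel_mono (strictι 𝓘 𝓙 b), hl]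
      apply hu
      rw [Category.assoc, ← strictc_ι, ← Category.assoc, hl']

/-- **the morphism between the blow-ups of a closed subscheme and of the ambient scheme is a
closed immersion.** -/
theorem isClosedImmersion_of_isBlowUp_subscheme (hb : BlowUp.IsBlowUp b 𝓘) {Z' : Scheme.{u}}
    (b' : Z' ⟶ 𝓙.subscheme) (hb' : BlowUp.IsBlowUp b' (𝓘.comap 𝓙.subschemeι))
    (k : Z' ⟶ X') (hk : k ≫ b = b' ≫ 𝓙.subschemeι) : IsClosedImmersion k := by
  obtain ⟨e, he⟩ := exists_iso_of_isBlowUp hb' (isBlowUp_strictc 𝓙 hb)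
  have hkE : BlowUp.IsEffCartierIdeal (𝓘.comap (k ≫ b)) := by
    rw [hk, Scheme.IdealSheafData.comap_comp]; exact hb'.1
  have : k = e.hom ≫ strictι 𝓘 𝓙 b := by
    apply Groth.Agent.LD.QC.IsBlowUp.hom_ext hb _ _ hkE
    rw [hk, Category.assoc, ← strictc_ι, ← Category.assoc, he]
  rw [this]
  infer_instance

theorem S17385_main {Z' : Scheme.{u}} (hb : BlowUp.IsBlowUp b 𝓘)
    (b' : Z' ⟶ 𝓙.subscheme) (hb' : BlowUp.IsBlowUp b' (𝓘.comap 𝓙.subschemeι))
    (k : Z' ⟶ X') (hk : k ≫ b = b' ≫ 𝓙.subschemeι) :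
    IsClosedImmersion k ∧
      IsAffineHom ((k ⁻¹ᵁ (b ⁻¹ᵁ 𝓘.support.compl)).ι ≫ k) ∧
      ((k ⁻¹ᵁ (b ⁻¹ᵁ 𝓘.support.compl)).ι ≫ k).ker = k.ker := by
  haveI hk' := isClosedImmersion_of_isBlowUp_subscheme 𝓙 hb b' hb' k hk
  have hD : BlowUp.IsEffCartierIdeal (𝓘.comap (k ≫ b)) := by
    rw [hk, Scheme.IdealSheafData.comap_comp]; exact hb'.1
  have hW : k ⁻¹ᵁ (b ⁻¹ᵁ 𝓘.support.compl) = cmpl (𝓘.comap (k ≫ b)) := by
    ext z
    change (b (k z)) ∉ 𝓘.support ↔ z ∉ (𝓘.comap (k ≫ b)).support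
    rw [Scheme.IdealSheafData.support_comap]
    rfl
  suffices H : ∀ W : Z'.Opens, W = cmpl (𝓘.comap (k ≫ b)) →
      IsAffineHom (W.ι ≫ k) ∧ (W.ι ≫ k).ker = k.ker from ⟨hk', H _ hW⟩
  rintro _ rfl
  haveI : IsAffineHom (cmpl (𝓘.comap (k ≫ b))).ι :=
    Groth.Agent.LD.QC.isAffineHom_compl_of_locPrincipal _ (fun x _ => by
      obtain ⟨U, hx, a, _, h⟩ := hD x
      exact ⟨U, hx, a, h⟩)
  haveI : IsSchemeTheoreticallyDominant (cmpl (𝓘.comap (k ≫ b))).ι :=
    Groth.Agent.LD.QC.isSchemeTheoreticallyDominant_compl_of_effCartier _ hD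
  refine ⟨inferInstance, ?_⟩
  rw [Scheme.Hom.ker_comp, Scheme.Hom.ker_eq_bot, Scheme.IdealSheafData.map_bot]

theorem S10920_main {Y Y' : Scheme.{u}} (f : Y ⟶ X) [IsClosedImmersion f]
    (hb : BlowUp.IsBlowUp b 𝓘) (b' : Y' ⟶ Y) (hb' : BlowUp.IsBlowUp b' (𝓘.comap f))
    (f' : Y' ⟶ X') (hf' : f' ≫ b = b' ≫ f) : IsClosedImmersion f' := by
  haveI : IsIso f.toImage := inferInstance
  have hb'' : BlowUp.IsBlowUp (b' ≫ (asIso f.toImage).hom) (𝓘.comap f.ker.subschemeι) := by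
    apply isBlowUp_comp_iso (asIso f.toImage) _ b'
    rw [← Scheme.IdealSheafData.comap_comp]
    change BlowUp.IsBlowUp b' (𝓘.comap (f.toImage ≫ f.imageι))
    rw [Scheme.Hom.toImage_imageι]
    exact hb'
  refine isClosedImmersion_of_isBlowUp_subscheme f.ker hb _ hb'' f' ?_
  rw [hf']
  change b' ≫ f = (b' ≫ f.toImage) ≫ f.imageι
  rw [Category.assoc, Scheme.Hom.toImage_imageι]

end STR

end Groth.Agent.H9.BLA
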