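import Mathlib
import Groth.Agent.Lib.Helper9.Misc.BLA19
import Groth.Agent.Lib.Helper9.Misc.BLA13

/-! Helper9: finite type ideal sheaves (products, inverse images) and domination of finitely many
admissible blow-ups (S8858). -/

set_option linter.style.haveILetI false
set_option linter.unusedSectionVars false
set_option linter.unusedVariables false

universe u
open CategoryTheory Limits AlgebraicGeometry TopologicalSpace Opposite

namespace Groth.Agent.H9.BLA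

section FT
variable {X Y : Scheme.{u}}

theorem isFiniteTypeIdeal_top : BlowUp.IsFiniteTypeIdeal (⊤ : X.IdealSheafData) := by
  intro U
  change (⊤ : Ideal Γ(X, U.1)).FG
  exact ⟨{1}, by simp⟩

theorem isFiniteTypeIdeal_one : BlowUp.IsFiniteTypeIdeal (1 : X.IdealSheafData) :=
  isFiniteTypeIdeal_top

theorem isFiniteTypeIdeal_mul {𝓘 𝓙 : X.IdealSheafData} (h₁ : BlowUp.IsFiniteTypeIdeal 𝓘)
    (h₂ : BlowUp.IsFiniteTypeIdeal 𝓙) : BlowUp.IsFiniteTypeIdeal (𝓘 * 𝓙) := by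
  intro U
  change (𝓘.ideal U * 𝓙.ideal U).FG
  exact (h₁ U).mul (h₂ U)

theorem isFiniteTypeIdeal_sup {𝓘 𝓙 : X.IdealSheafData} (h₁ : BlowUp.IsFiniteTypeIdeal 𝓘)
    (h₂ : BlowUp.IsFiniteTypeIdeal 𝓙) : BlowUp.IsFiniteTypeIdeal (𝓘 ⊔ 𝓙) := by
  intro U
  rw [Scheme.IdealSheafData.ideal_sup]
  exact Submodule.FG.sup (h₁ U) (h₂ U)

theorem isFiniteTypeIdeal_prod {ι : Type*} (s : Finset ι) (𝓘 : ι → X.IdealSheafData)
    (h : ∀ i ∈ s, BlowUp.IsFiniteTypeIdeal (𝓘 i)) : BlowUp.IsFiniteTypeIdeal (∏ i ∈ s, 𝓘 i) := by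
  classical
  induction s using Finset.induction_on with
  | empty => simpa using isFiniteTypeIdeal_one
  | insert a s ha ih =>
    rw [Finset.prod_insert ha]
    exact isFiniteTypeIdeal_mul (h a (Finset.mem_insert_self a s))
      (ih fun i hi => h i (Finset.mem_insert_of_mem hi))

theorem disjoint_support_prod {ι : Type*} (s : Finset ι) (𝓘 : ι → X.IdealSheafData) (U : Set X)
    (h : ∀ i ∈ s, Disjoint ((𝓘 i).support : Set X) U) :
    Disjoint ((∏ i ∈ s, 𝓘 i).support : Set X) U := by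
  classical
  induction s using Finset.induction_on with
  | empty =>
    rw [Finset.prod_empty]
    change Disjoint ((⊤ : X.IdealSheafData).support : Set X) U
    rw [Scheme.IdealSheafData.support_top]
    simp
  | insert a s ha ih =>
    rw [Finset.prod_insert ha, Scheme.IdealSheafData.support_mul]
    change Disjoint (((𝓘 a).support : Set X) ∪ ((∏ i ∈ s, 𝓘 i).support : Set X)) U
    rw [Set.disjoint_union_left]
    exact ⟨h a (Finset.mem_insert_self a s), ih fun i hi => h i (Finset.mem_insert_of_mem hi)⟩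

/-- finite generation of an ideal of sections over an affine open is local for basic opens. -/
theorem fg_of_basicOpen_cover {U : X.Opens} (hU : IsAffineOpen U) (I : Ideal Γ(X, U))
    (t : Set Γ(X, U)) (ht : Ideal.span t = ⊤)
    (H : ∀ g ∈ t, (I.map (X.presheaf.map (homOfLE (X.basicOpen_le g)).op).hom).FG) : I.FG := by
  refine Ideal.fg_of_localizationSpan t ht fun g => ?_
  letI : Algebra Γ(X, U) Γ(X, X.basicOpen g.1) :=
    (X.presheaf.map (homOfLE (X.basicOpen_le g.1)).op).hom.toAlgebra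
  haveI : IsLocalization.Away g.1 Γ(X, X.basicOpen g.1) := hU.isLocalization_basicOpen g.1
  let e : Γ(X, X.basicOpen g.1) ≃ₐ[Γ(X, U)] Localization.Away g.1 :=
    IsLocalization.algEquiv (Submonoid.powers g.1) _ _
  have h1 : I.map (algebraMap Γ(X, U) (Localization.Away g.1)) =
      (I.map (algebraMap Γ(X, U) Γ(X, X.basicOpen g.1))).map (e : Γ(X, X.basicOpen g.1) →+* _) := by
    rw [Ideal.map_map]
    congr 1
    ext x
    simp
  rw [h1]
  exact (H g.1 g.2).map _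

/-- the inverse image of a finite type ideal sheaf is of finite type. -/
theorem isFiniteTypeIdeal_comap {𝓙 : X.IdealSheafData} (h : BlowUp.IsFiniteTypeIdeal 𝓙)
    (f : Y ⟶ X) : BlowUp.IsFiniteTypeIdeal (𝓙.comap f) := by
  intro U'
  have key : ∀ y : U'.1, ∃ (V : X.affineOpens) (r : Γ(Y, U'.1)),
      y.1 ∈ Y.basicOpen r ∧ Y.basicOpen r ≤ f ⁻¹ᵁ V.1 := by
    intro y
    obtain ⟨V, hV, hyV, -⟩ := exists_isAffineOpen_mem_and_subset (x := f y.1) (U := (⊤ : X.Opens))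
      (Set.mem_univ _)
    obtain ⟨r, hr, hyr⟩ := U'.2.exists_basicOpen_le (V := f ⁻¹ᵁ V) ⟨y.1, hyV⟩ y.2
    exact ⟨⟨V, hV⟩, r, hyr, hr⟩
  choose V r hyr hrV using key
  refine fg_of_basicOpen_cover U'.2 _ (Set.range r) ?_ ?_
  · rw [← U'.2.self_le_iSup_basicOpen_iff]
    intro y hy
    rw [Opens.mem_iSup]
    exact ⟨⟨r ⟨y, hy⟩, ⟨⟨y, hy⟩, rfl⟩⟩, hyr ⟨y, hy⟩⟩
  · rintro _ ⟨y, rfl⟩
    rw [Scheme.IdealSheafData.map_ideal_basicOpen]
    rw [Groth.Agent.LD.QC.ideal_comap_of_le 𝓙 f (V y) (Y.affineBasicOpen (r y)) (hrV y)]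
    exact (h (V y)).map _

theorem isAdmissibleFor_comap {𝓙 : X.IdealSheafData} {U : X.Opens}
    (h : BlowUp.IsAdmissibleFor U 𝓙) (f : Y ⟶ X) :
    BlowUp.IsAdmissibleFor (f ⁻¹ᵁ U) (𝓙.comap f) := by
  refine ⟨isFiniteTypeIdeal_comap h.1 f, ?_⟩
  rw [Scheme.IdealSheafData.support_comap]
  rw [Set.disjoint_left]
  intro y hy hyU
  exact (Set.disjoint_left.mp h.2) hy hyU

end FT

section Dom
variable {X : Scheme.{u}}

/-- **S8858**: finitely many `U`-admissible blow-ups are dominated by a `U`-admissible blow-up,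
each factor being an admissible blow-up again. -/
theorem S8858_main (U : X.Opens) {n : ℕ} (Xi : Fin n → Scheme.{u}) (b : ∀ i, Xi i ⟶ X)
    (𝓘 : Fin n → X.IdealSheafData) (hb : ∀ i, BlowUp.IsBlowUp (b i) (𝓘 i))
    (ha : ∀ i, BlowUp.IsAdmissibleFor U (𝓘 i)) :
    ∃ (𝓙 : X.IdealSheafData) (X' : Scheme.{u}) (c : X' ⟶ X), BlowUp.IsBlowUp c 𝓙 ∧
      BlowUp.IsAdmissibleFor U 𝓙 ∧
      ∀ i, ∃ (g : X' ⟶ Xi i) (𝓚 : (Xi i).IdealSheafData), g ≫ b i = c ∧ BlowUp.IsBlowUp g 𝓚 ∧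
        BlowUp.IsAdmissibleFor ((b i) ⁻¹ᵁ U) 𝓚 := by
  classical
  obtain ⟨X', c, hc⟩ := exists_isBlowUp X (∏ i, 𝓘 i)
  refine ⟨∏ i, 𝓘 i, X', c, hc, ⟨isFiniteTypeIdeal_prod _ _ fun i _ => (ha i).1,
    disjoint_support_prod _ _ _ fun i _ => (ha i).2⟩, fun i => ?_⟩
  set 𝓛 : X.IdealSheafData := ∏ j ∈ Finset.univ.erase i, 𝓘 j with h𝓛
  have hprod : ∏ j, 𝓘 j = 𝓘 i * 𝓛 := (Finset.mul_prod_erase _ _ (Finset.mem_univ i)).symm
  have h𝓛adm : BlowUp.IsAdmissibleFor U 𝓛 :=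
    ⟨isFiniteTypeIdeal_prod _ _ fun j _ => (ha j).1,
      disjoint_support_prod _ _ _ fun j _ => (ha j).2⟩
  obtain ⟨X'', b', hb'⟩ := exists_isBlowUp (Xi i) (𝓛.comap (b i))
  have hcomp : BlowUp.IsBlowUp (b' ≫ b i) (∏ j, 𝓘 j) := by
    rw [hprod]
    exact Groth.Agent.LD.QC.IsBlowUp.comp (hb i) 𝓛 b' hb'
  obtain ⟨e, he⟩ := exists_iso_of_isBlowUp hc hcomp
  refine ⟨e.hom ≫ b', 𝓛.comap (b i), ?_, isBlowUp_of_iso_source e hb',
    isAdmissibleFor_comap h𝓛adm (b i)⟩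
  rw [Category.assoc]
  exact he

end Dom

end Groth.Agent.H9.BLA
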