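import Mathlib
import Groth.Agent.Lib.Helper9.Misc.BLA20
import Groth.Agent.Lib.Lead.QC.IdealOfHom

/-! Helper9: extension of finite type quasi-coherent ideals on qcqs schemes (ideal form of
Stacks 01PF, via the lead's module version) and extension of admissible blow-ups (S8857). -/

set_option linter.style.haveILetI false
set_option linter.unusedSectionVars false
set_option linter.unusedVariables false

universe u
open CategoryTheory Limits AlgebraicGeometry TopologicalSpace Opposite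

namespace Groth.Agent.H9.BLA

open Groth.Agent.LD Groth.Agent.LD.QC

section Ext
variable {X : Scheme.{u}}

/-- **extension of finite type ideals**: on a qcqs scheme, an ideal sheaf `𝓚` which is of finite
type over a quasi-compact open `O` contains a finite type ideal sheaf agreeing with it on `O`. -/
theorem exists_ft_le_agree [CompactSpace X] [QuasiSeparatedSpace X] (𝓚 : X.IdealSheafData)
    (O : X.Opens) (hO : IsCompact (O : Set X))
    (hfg : ∀ W : X.affineOpens, W.1 ≤ O → (𝓚.ideal W).FG) :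
    ∃ 𝓙 : X.IdealSheafData, BlowUp.IsFiniteTypeIdeal 𝓙 ∧ 𝓙 ≤ 𝓚 ∧
      ∀ W : X.affineOpens, W.1 ≤ O → 𝓙.ideal W = 𝓚.ideal W := by
  classical
  have hfin : ∀ W : X.Opens, IsAffineOpen W → W ≤ O →
      Module.Finite Γ(X, W) Γ(ClSub.idealMod 𝓚, W) := by
    intro W hW hWO
    have e := idealModSectionsEquiv 𝓚 ⟨W, hW⟩
    haveI : Module.Finite Γ(X, W) (𝓚.ideal ⟨W, hW⟩) :=
      Module.Finite.iff_fg.mpr (hfg ⟨W, hW⟩ hWO)
    exact Module.Finite.equiv e.symm
  obtain ⟨F, u₀, hu₀, hF, hFft, hbij⟩ := exists_sub_finiteType (ClSub.idealMod 𝓚) O hO hfin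
  haveI := hF
  have hle : idealOfHom F (u₀ ≫ ClSub.idealModι 𝓚) ≤ 𝓚 := by
    intro V s hs
    obtain ⟨t, ht⟩ := (mem_idealOfHom_iff F _ V s).mp hs
    exact (exists_idealModι_app_eq_iff 𝓚 V s).mp ⟨u₀.app V.1 t, ht⟩
  refine ⟨idealOfHom F (u₀ ≫ ClSub.idealModι 𝓚), isFiniteTypeIdeal_idealOfHom F _ hFft, hle, ?_⟩
  intro W hW
  refine le_antisymm (hle W) ?_
  intro s hs
  rw [mem_idealOfHom_iff]
  obtain ⟨c, hc⟩ := (exists_idealModι_app_eq_iff 𝓚 W _).mpr hs
  obtain ⟨t, ht⟩ := (hbij W.1 hW).2 c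
  refine ⟨t, ?_⟩
  change (show Γ(X, W.1) from (ClSub.idealModι 𝓚).app W.1 (u₀.app W.1 t)) = s
  rw [ht]; exact hc

end Ext

section MapOpen
variable {X Y : Scheme.{u}}

/-- the direct image ideal along a quasi-compact open immersion restricts back to the ideal. -/
theorem comap_map_of_isOpenImmersion (j : Y ⟶ X) [IsOpenImmersion j] [QuasiCompact j]
    (I : Y.IdealSheafData) : (I.map j).comap j = I := by
  refine le_antisymm (Scheme.IdealSheafData.comap_map_le _ _) ?_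
  intro W' s hs
  rw [Scheme.IdealSheafData.ideal_comap_of_isOpenImmersion, Ideal.mem_comap]
  change (j.appIso W'.1).inv.hom s ∈ ((I.subschemeι ≫ j).ker).ideal
    ⟨j ''ᵁ W'.1, W'.2.image_of_isOpenImmersion j⟩
  rw [Scheme.Hom.ker_apply, RingHom.mem_ker]
  rw [← I.ker_subschemeι_app W', RingHom.mem_ker] at hs
  have h1 : ((I.subschemeι ≫ j).app (j ''ᵁ W'.1)).hom ((j.appIso W'.1).inv.hom s) =
      (I.subschemeι.app (j ⁻¹ᵁ (j ''ᵁ W'.1))).hom
        ((Y.presheaf.map (eqToHom (j.preimage_image_eq W'.1)).op).hom s) := by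
    have h2 := congr($(j.appIso_inv_app W'.1) s)
    rw [CommRingCat.comp_apply] at h2
    rw [← h2]
    rfl
  rw [h1]
  have h3 := I.subschemeι.naturality (eqToHom (j.preimage_image_eq W'.1)).op
  have h4 := congr($h3 s)
  simp only [CommRingCat.comp_apply] at h4
  erw [h4, hs, map_zero]
  try rfl

/-- the direct image ideal along a quasi-compact open immersion is the unit ideal away from the
image of the support. -/
theorem ideal_map_eq_top_of_disjoint (j : Y ⟶ X) [QuasiCompact j] (I : Y.IdealSheafData)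
    (W : X.affineOpens) (h : Disjoint (j '' (I.support : Set Y)) (W.1 : Set X)) :
    (I.map j).ideal W = ⊤ := by
  rw [Ideal.eq_top_iff_one]
  change (1 : Γ(X, W.1)) ∈ ((I.subschemeι ≫ j).ker).ideal W
  rw [Scheme.Hom.ker_apply, RingHom.mem_ker]
  have hbot : (I.subschemeι ≫ j) ⁻¹ᵁ W.1 = ⊥ := by
    ext z
    simp only [Scheme.Hom.comp_base, Opens.coe_bot, Set.mem_empty_iff_false, iff_false]
    intro hz
    refine (Set.disjoint_left.mp h) ⟨I.subschemeι z, ?_, rfl⟩ hz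
    rw [← I.range_subschemeι]
    exact ⟨z, rfl⟩
  haveI : Subsingleton Γ(I.subscheme, (I.subschemeι ≫ j) ⁻¹ᵁ W.1) := by
    rw [hbot]; infer_instance
  exact Subsingleton.elim _ _

/-- the direct image ideal along a quasi-compact open immersion is of finite type on the affine
opens inside the image when the ideal is. -/
theorem fg_ideal_map_of_le_opensRange (j : Y ⟶ X) [IsOpenImmersion j] [QuasiCompact j]
    (I : Y.IdealSheafData) (hI : BlowUp.IsFiniteTypeIdeal I) (W : X.affineOpens)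
    (hW : W.1 ≤ j.opensRange) : ((I.map j).ideal W).FG := by
  have H : IsAffineOpen (j ⁻¹ᵁ W.1) := W.2.preimage_of_isOpenImmersion j hW
  rw [Scheme.IdealSheafData.ideal_map I j W H]
  haveI : IsIso (j.app W.1) := j.isIso_app W.1 hW
  let e : Γ(X, W.1) ≃+* Γ(Y, j ⁻¹ᵁ W.1) := (asIso (j.app W.1)).commRingCatIsoToRingEquiv
  have h1 : (I.ideal ⟨_, H⟩).comap (j.app W.1).hom = (I.ideal ⟨_, H⟩).map e.symm := by
    rw [Ideal.map_symm]; rfl
  rw [h1]
  exact (hI ⟨_, H⟩).map _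

end MapOpen

section S8857
variable {X : Scheme.{u}}

theorem disjoint_support_of_forall_ideal_eq_top (𝓙 : X.IdealSheafData) (U : X.Opens)
    (h : ∀ W : X.affineOpens, W.1 ≤ U → 𝓙.ideal W = ⊤) :
    Disjoint (𝓙.support : Set X) (U : Set X) := by
  rw [Set.disjoint_left]
  intro x hx hxU
  obtain ⟨W, hW, hxW, hWU⟩ := exists_isAffineOpen_mem_and_subset (x := x) (U := U) hxU
  change x ∈ 𝓙.support at hx
  rw [Scheme.IdealSheafData.mem_support_iff_of_mem (U := ⟨W, hW⟩) hxW] at hx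
  rw [h ⟨W, hW⟩ hWU] at hx
  simp at hx
  exact hx hxW

/-- **S8857**. -/
theorem S8857_main [CompactSpace X] [QuasiSeparatedSpace X] (U V : X.Opens)
    (hU : IsCompact (U : Set X)) (hV : IsCompact (V : Set X))
    (𝓘 : (V : Scheme.{u}).IdealSheafData) (h𝓘 : BlowUp.IsAdmissibleFor (V.ι ⁻¹ᵁ U) 𝓘) :
    ∃ 𝓙 : X.IdealSheafData, BlowUp.IsAdmissibleFor U 𝓙 ∧ 𝓙.comap V.ι = 𝓘 ∧
      ∀ (X' : Scheme.{u}) (c : X' ⟶ X), BlowUp.IsBlowUp c 𝓙 → BlowUp.IsBlowUp (c ∣_ V) 𝓘 := by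
  haveI : CompactSpace (V : Scheme.{u}) := isCompact_iff_compactSpace.mp hV
  haveI : QuasiCompact V.ι := quasiCompact_of_compactSpace V.ι
  set 𝓚 : X.IdealSheafData := 𝓘.map V.ι with h𝓚
  have hK1 : ∀ W : X.affineOpens, W.1 ≤ V → (𝓚.ideal W).FG := fun W hW =>
    fg_ideal_map_of_le_opensRange V.ι 𝓘 h𝓘.1 W (by rwa [Scheme.Opens.opensRange_ι])
  have hK2 : ∀ W : X.affineOpens, W.1 ≤ U → 𝓚.ideal W = ⊤ := fun W hW =>
    ideal_map_eq_top_of_disjoint V.ι 𝓘 W (by
      rw [Set.disjoint_left]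
      rintro _ ⟨z, hz, rfl⟩ hzW
      exact (Set.disjoint_left.mp h𝓘.2) hz (hW hzW))
  obtain ⟨𝓙₁, hft₁, hle₁, hag₁⟩ := exists_ft_le_agree 𝓚 V hV hK1
  obtain ⟨𝓙₂, hft₂, hle₂, hag₂⟩ := exists_ft_le_agree 𝓚 U hU (fun W hW => by
    rw [hK2 W hW]; exact ⟨{1}, by simp⟩)
  have hcomap : (𝓙₁ ⊔ 𝓙₂).comap V.ι = 𝓘 := by
    have h1 : (𝓙₁ ⊔ 𝓙₂).comap V.ι = 𝓚.comap V.ι := by
      apply Scheme.IdealSheafData.ext
      funext W'
      rw [Scheme.IdealSheafData.ideal_comap_of_isOpenImmersion,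
        Scheme.IdealSheafData.ideal_comap_of_isOpenImmersion]
      congr 1
      rw [Scheme.IdealSheafData.ideal_sup]
      have hWV : (V.ι ''ᵁ W'.1) ≤ V := by
        intro x hx
        obtain ⟨z, -, rfl⟩ := hx
        exact z.2
      change 𝓙₁.ideal ⟨V.ι ''ᵁ W'.1, _⟩ ⊔ 𝓙₂.ideal ⟨V.ι ''ᵁ W'.1, _⟩ = _
      rw [hag₁ ⟨V.ι ''ᵁ W'.1, W'.2.image_of_isOpenImmersion V.ι⟩ hWV]
      exact sup_eq_left.mpr (hle₂ _)
    rw [h1]
    exact comap_map_of_isOpenImmersion V.ι 𝓘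
  refine ⟨𝓙₁ ⊔ 𝓙₂, ⟨isFiniteTypeIdeal_sup hft₁ hft₂, ?_⟩, hcomap, ?_⟩
  · apply disjoint_support_of_forall_ideal_eq_top
    intro W hW
    rw [Scheme.IdealSheafData.ideal_sup]
    change 𝓙₁.ideal W ⊔ 𝓙₂.ideal W = ⊤
    rw [hag₂ W hW, hK2 W hW]
    simp
  · intro X' c hc
    have h2 := IsBlowUp.restrict hc V
    rwa [hcomap] at h2

end S8857

end Groth.Agent.H9.BLA
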