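import Mathlib
import Groth.Agent.Lib.Helper6.CMKit
import Groth.Agent.Lib.Helper1.CMFlat

set_option autoImplicit false
set_option linter.style.haveILetI false
set_option linter.unusedSectionVars false
set_option linter.unusedVariables false

universe u

namespace Groth.Agent.H9.RSL

open RingTheory.Sequence

/-- In a regular local ring, `c` elements of the maximal ideal cutting the dimension down by
`c` form a regular sequence. -/
theorem isRegular_of_dim (R : Type u) [CommRing R] [IsRegularLocalRing R] (xs : List R)
    (hmem : ∀ x ∈ xs, x ∈ IsLocalRing.maximalIdeal R)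
    (hdim : ringKrullDim (R ⧸ Ideal.ofList xs) + (xs.length : WithBot ℕ∞) = ringKrullDim R) :
    IsRegular R xs := by
  haveI := Groth.Agent.H1.CMFlat.isCohenMacaulayLocalRing_of_isRegularLocalRing R
  have hCM : LocCoh.IsCohenMacaulayModule R R :=
    LocCoh.IsCohenMacaulayLocalRing.supportDim_eq_depth
  have hsm : (Ideal.ofList xs • (⊤ : Submodule R R)) = Ideal.ofList xs := by
    rw [smul_eq_mul, Ideal.mul_top]
  have h1 : Module.supportDim R (R ⧸ (Ideal.ofList xs • (⊤ : Submodule R R))) =
      ringKrullDim (R ⧸ Ideal.ofList xs) := by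
    rw [hsm]
    exact Module.supportDim_quotient_eq_ringKrullDim _
  have hw : IsWeaklyRegular R xs := by
    apply Groth.Agent.H6.CM.isWeaklyRegular_of_supportDim xs R hCM hmem
    rw [h1, Module.supportDim_self_eq_ringKrullDim]
    exact hdim
  refine ⟨hw, ?_⟩
  rw [hsm]
  intro htop
  have hle : Ideal.ofList xs ≤ IsLocalRing.maximalIdeal R := by
    rw [Ideal.ofList, Ideal.span_le]
    intro x hx
    exact hmem x hx
  exact (IsLocalRing.maximalIdeal.isMaximal R).ne_top (top_le_iff.mp (htop ▸ hle))

end Groth.Agent.H9.RSL
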