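import Groth.Agent.Lib.Helper9.Misc.PIN20
set_option autoImplicit false
set_option linter.style.haveILetI false
set_option linter.unusedSectionVars false
set_option linter.unusedVariables false

namespace Groth.Agent.H9.PIN

open AlgebraicGeometry CategoryTheory Limits TopologicalSpace

universe u

variable {X Y Z P F XF YF ZF : Scheme.{u}} {i : Z ⟶ X} {j : Z ⟶ Y} {a : X ⟶ P} {b : Y ⟶ P}

/-- sections of a cartesian square over affine opens form a pushout square of rings. -/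
theorem isPushout_appLE_of_isPullback' {X P F XF : Scheme.{u}} {a : X ⟶ P} {q : F ⟶ P}
    {pX : XF ⟶ X} {aF : XF ⟶ F} (hX : IsPullback pX aF a q) {W : P.Opens} {W' : F.Opens}
    {U : X.Opens} (hW : IsAffineOpen W) (hW' : IsAffineOpen W') (hU : IsAffineOpen U)
    (hle : W' ≤ q ⁻¹ᵁ W) (hU' : U ≤ a ⁻¹ᵁ W) {U' : XF.Opens} (hUU' : U' = pX ⁻¹ᵁ U ⊓ aF ⁻¹ᵁ W')
    (e₁ : U' ≤ aF ⁻¹ᵁ W') (e₂ : U' ≤ pX ⁻¹ᵁ U) :
    IsPushout (q.appLE W W' hle) (a.appLE W U hU') (aF.appLE W' U' e₁) (pX.appLE U U' e₂) := by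
  have := isIso_pushoutSection_of_isAffineOpen hX hle hU' hUU' hW hW' hU
  exact ((isIso_pushoutSection_iff hX hle hU' hUU').mp this).flip

/-- **Flat base change of a pinching is a pinching.** -/
theorem IsPinch.flat_baseChange (hp : IsPinch i j a b) [IsClosedImmersion i]
    {ι : Type*} (𝒲 : ι → P.Opens) (hcov : ∀ p : P, ∃ k, p ∈ 𝒲 k)
    (h𝒲 : ∀ k, IsAffineOpen (𝒲 k) ∧ IsAffineOpen (a ⁻¹ᵁ 𝒲 k) ∧ IsAffineOpen (b ⁻¹ᵁ 𝒲 k))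
    (q : F ⟶ P) [Flat q]
    (pX : XF ⟶ X) (aF : XF ⟶ F) (hX : IsPullback pX aF a q)
    (pY : YF ⟶ Y) (bF : YF ⟶ F) (hY : IsPullback pY bF b q)
    (pZ : ZF ⟶ Z) (iF : ZF ⟶ XF) (hZ : IsPullback pZ iF i pX)
    (jF : ZF ⟶ YF) (hj₁ : jF ≫ pY = pZ ≫ j) (hj₂ : iF ≫ aF = jF ≫ bF) :
    IsPinch iF jF aF bF := by
  haveI : IsAffineHom a := isAffineHom_of_forall_exists_isAffineOpen a (fun p => by
    obtain ⟨k, hk⟩ := hcov p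
    exact ⟨𝒲 k, hk, (h𝒲 k).1, (h𝒲 k).2.1⟩)
  haveI : IsAffineHom b := isAffineHom_of_forall_exists_isAffineOpen b (fun p => by
    obtain ⟨k, hk⟩ := hcov p
    exact ⟨𝒲 k, hk, (h𝒲 k).1, (h𝒲 k).2.2⟩)
  haveI : IsAffineHom aF := MorphismProperty.of_isPullback (P := @IsAffineHom) hX inferInstance
  haveI : IsAffineHom bF := MorphismProperty.of_isPullback (P := @IsAffineHom) hY inferInstance
  haveI : IsClosedImmersion iF :=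
    MorphismProperty.of_isPullback (P := @IsClosedImmersion) hZ inferInstance
  refine IsPinch.of_affine_cover hj₂
    (ι := Σ k : ι, {W' : F.Opens // IsAffineOpen W' ∧ W' ≤ q ⁻¹ᵁ 𝒲 k})
    (fun idx => idx.2.1) ?_ ?_
  · intro φ
    obtain ⟨k, hk⟩ := hcov (q φ)
    obtain ⟨_, ⟨W', hW', rfl⟩, hφW', hle⟩ :=
      F.isBasis_affineOpens.exists_subset_of_mem_open (show φ ∈ q ⁻¹ᵁ 𝒲 k from hk)
        (q ⁻¹ᵁ 𝒲 k).2
    exact ⟨⟨k, W', hW', hle⟩, hφW'⟩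
  · rintro ⟨k, W', hW', hle⟩
    dsimp only
    obtain ⟨hW, haW, hbW⟩ := h𝒲 k
    have haW' : IsAffineOpen (aF ⁻¹ᵁ W') := hW'.preimage aF
    have hbW' : IsAffineOpen (bF ⁻¹ᵁ W') := hW'.preimage bF
    have hiW' : IsAffineOpen (iF ⁻¹ᵁ aF ⁻¹ᵁ W') := haW'.preimage iF
    have hiW : IsAffineOpen (i ⁻¹ᵁ a ⁻¹ᵁ 𝒲 k) := haW.preimage i
    have e' : iF ⁻¹ᵁ aF ⁻¹ᵁ W' ≤ jF ⁻¹ᵁ bF ⁻¹ᵁ W' := by
      rw [← Scheme.Hom.comp_preimage, ← Scheme.Hom.comp_preimage, hj₂]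
    refine ⟨hW', haW', hbW', hiW', e', ?_⟩
    have hR := (hp.pinchAt (𝒲 k)).ringPinch hp.w (hp.preimage_le (𝒲 k))
      (i.app_surjective _ haW)
    simp only [Scheme.Hom.app_eq_appLE] at hR
    -- inclusions
    have leX : aF ⁻¹ᵁ W' ≤ pX ⁻¹ᵁ a ⁻¹ᵁ 𝒲 k := by
      rw [← Scheme.Hom.comp_preimage, hX.w, Scheme.Hom.comp_preimage]
      exact aF.preimage_mono hle
    have leY : bF ⁻¹ᵁ W' ≤ pY ⁻¹ᵁ b ⁻¹ᵁ 𝒲 k := by
      rw [← Scheme.Hom.comp_preimage, hY.w, Scheme.Hom.comp_preimage]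
      exact bF.preimage_mono hle
    have leZ : iF ⁻¹ᵁ aF ⁻¹ᵁ W' ≤ pZ ⁻¹ᵁ i ⁻¹ᵁ a ⁻¹ᵁ 𝒲 k := by
      rw [← Scheme.Hom.comp_preimage pZ, hZ.w, Scheme.Hom.comp_preimage]
      exact iF.preimage_mono leX
    have poA' := isPushout_appLE_of_isPullback' hX hW hW' haW hle le_rfl
      (U' := aF ⁻¹ᵁ W') (inf_eq_right.mpr leX).symm le_rfl leX
    have poB := isPushout_appLE_of_isPullback' hY hW hW' hbW hle le_rfl
      (U' := bF ⁻¹ᵁ W') (inf_eq_right.mpr leY).symm le_rfl leY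
    have hZX := hZ.paste_vert hX
    have poA := isPushout_appLE_of_isPullback' hZX hW hW' hiW hle
      (show i ⁻¹ᵁ a ⁻¹ᵁ 𝒲 k ≤ (i ≫ a) ⁻¹ᵁ 𝒲 k from le_rfl)
      (U' := iF ⁻¹ᵁ aF ⁻¹ᵁ W') (inf_eq_right.mpr leZ).symm le_rfl leZ
    have eq1 : (i ≫ a).appLE (𝒲 k) (i ⁻¹ᵁ a ⁻¹ᵁ 𝒲 k) le_rfl =
        a.appLE (𝒲 k) (a ⁻¹ᵁ 𝒲 k) le_rfl ≫ i.appLE (a ⁻¹ᵁ 𝒲 k) (i ⁻¹ᵁ a ⁻¹ᵁ 𝒲 k) le_rfl := by
      rw [Scheme.Hom.appLE_comp_appLE]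
    have eq2 : (iF ≫ aF).appLE W' (iF ⁻¹ᵁ aF ⁻¹ᵁ W') le_rfl =
        aF.appLE W' (aF ⁻¹ᵁ W') le_rfl ≫ iF.appLE (aF ⁻¹ᵁ W') (iF ⁻¹ᵁ aF ⁻¹ᵁ W') le_rfl := by
      rw [Scheme.Hom.appLE_comp_appLE]
    rw [eq1, eq2] at poA
    refine RingPinch.baseChange_cat (q.appLE (𝒲 k) W' hle) _ _ _ hR ?_ poA' poB poA ?_ ?_ ?_
    · exact HasRingHomProperty.appLE (P := @Flat) q inferInstance ⟨𝒲 k, hW⟩ ⟨W', hW'⟩ hle
    · rw [Scheme.Hom.appLE_comp_appLE, Scheme.Hom.appLE_comp_appLE]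
      exact appLE_congr_hom hZ.w.symm _ _ _ _
    · rw [Scheme.Hom.appLE_comp_appLE, Scheme.Hom.appLE_comp_appLE]
      exact appLE_congr_hom hj₁ _ _ _ _
    · rw [Scheme.Hom.appLE_comp_appLE, Scheme.Hom.appLE_comp_appLE]
      exact appLE_congr_hom hj₂ _ _ _ _

end Groth.Agent.H9.PIN
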