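import Groth.Agent.Lib.Helper9.Misc.PIN15
set_option autoImplicit false
set_option linter.style.haveILetI false
set_option linter.unusedSectionVars false
set_option linter.unusedVariables false

namespace Groth.Agent.H9.PIN

open AlgebraicGeometry CategoryTheory Limits TopologicalSpace

universe u

section Ring

variable {R A' B A O : Type*} [CommRing R] [CommRing A'] [CommRing B] [CommRing A] [CommRing O]
variable {α : R →+* A'} {β : R →+* B} {p : A' →+* A} {q : B →+* A}

/-- Artin–Tate for a pinching: if `A'` and `B` are of finite type over a Noetherian ring `O`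
and `B → A` is finite, then `R = B ×_A A'` is of finite type over `O`. -/
theorem RingPinch.finiteType_of [IsNoetherianRing O] (h : RingPinch α β p q) (σ : O →+* R)
    (hα : (α.comp σ).FiniteType) (hβ : (β.comp σ).FiniteType) (hq : q.Finite) :
    σ.FiniteType := by
  have hαf : α.Finite := h.α_finite_of hq
  letI := σ.toAlgebra
  letI := α.toAlgebra
  letI := β.toAlgebra
  letI : Algebra O A' := (α.comp σ).toAlgebra
  letI : Algebra O B := (β.comp σ).toAlgebra
  haveI : IsScalarTower O R A' := .of_algebraMap_eq (fun _ => rfl)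
  haveI : IsScalarTower O R B := .of_algebraMap_eq (fun _ => rfl)
  haveI : Algebra.FiniteType O A' := hα
  haveI : Algebra.FiniteType O B := hβ
  haveI : Module.Finite R A' := hαf
  haveI : Module.Finite R B :=
    Module.Finite.of_surjective (Algebra.linearMap R B) h.β_surjective
  have hinj : Function.Injective (algebraMap R (A' × B)) := by
    rw [injective_iff_map_eq_zero]
    intro r hr
    have h1 : α r = 0 := congrArg Prod.fst hr
    have h2 : β r = 0 := congrArg Prod.snd hr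
    exact h.inj r h1 h2
  have hfg := fg_of_fg_of_fg (A := O) (B := R) (C := A' × B)
    (Algebra.FiniteType.out) (Module.Finite.fg_top) hinj
  exact ⟨hfg⟩

end Ring

variable {X Y Z P : Scheme.{u}} {i : Z ⟶ X} {j : Z ⟶ Y} {a : X ⟶ P} {b : Y ⟶ P}

theorem IsPinch.locallyOfFiniteType (hp : IsPinch i j a b) [IsClosedImmersion i] [IsFinite j]
    {ι : Type*} (𝒲 : ι → P.Opens) (hcov : ∀ p : P, ∃ k, p ∈ 𝒲 k)
    (h𝒲 : ∀ k, IsAffineOpen (𝒲 k) ∧ IsAffineOpen (a ⁻¹ᵁ 𝒲 k) ∧ IsAffineOpen (b ⁻¹ᵁ 𝒲 k))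
    {S : Scheme.{u}} [IsLocallyNoetherian S] (r : P ⟶ S)
    [LocallyOfFiniteType (a ≫ r)] [LocallyOfFiniteType (b ≫ r)] : LocallyOfFiniteType r := by
  rw [HasRingHomProperty.iff_exists_appLE (P := @LocallyOfFiniteType)
    (RingHom.finiteType_stableUnderComposition.stableUnderCompositionWithLocalizationAway
      RingHom.finiteType_holdsForLocalizationAway).1]
  intro w
  obtain ⟨k, hk⟩ := hcov w
  obtain ⟨O, hO, hwO, -⟩ := Opens.isBasis_iff_nbhd.mp S.isBasis_affineOpens
    (Opens.mem_top (r w))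
  obtain ⟨g, hg₁, hg₂⟩ := (h𝒲 k).1.exists_basicOpen_le (V := r ⁻¹ᵁ O ⊓ 𝒲 k)
    ⟨w, hwO, hk⟩ hk
  have hW' : IsAffineOpen (P.basicOpen g) := (h𝒲 k).1.basicOpen g
  have haW' : IsAffineOpen (a ⁻¹ᵁ P.basicOpen g) := by
    rw [Scheme.preimage_basicOpen]; exact (h𝒲 k).2.1.basicOpen _
  have hbW' : IsAffineOpen (b ⁻¹ᵁ P.basicOpen g) := by
    rw [Scheme.preimage_basicOpen]; exact (h𝒲 k).2.2.basicOpen _
  have er : P.basicOpen g ≤ r ⁻¹ᵁ O := hg₁.trans inf_le_left
  refine ⟨⟨O, hO⟩, ⟨P.basicOpen g, hW'⟩, hg₂, er, ?_⟩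
  have hrp := (hp.pinchAt (P.basicOpen g)).ringPinch hp.w (hp.preimage_le _)
    (i.app_surjective _ haW')
  haveI : IsNoetherianRing Γ(S, O) := IsLocallyNoetherian.component_noetherian ⟨O, hO⟩
  refine hrp.finiteType_of (r.appLE O (P.basicOpen g) er).hom ?_ ?_ ?_
  · have e1 : (a.app (P.basicOpen g)).hom.comp (r.appLE O (P.basicOpen g) er).hom =
        ((a ≫ r).appLE O (a ⁻¹ᵁ P.basicOpen g) (a.preimage_mono er)).hom := by
      rw [← CommRingCat.hom_comp, a.app_eq_appLE, Scheme.Hom.appLE_comp_appLE]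
    rw [e1]
    exact HasRingHomProperty.appLE (P := @LocallyOfFiniteType) _ inferInstance ⟨O, hO⟩
      ⟨_, haW'⟩ _
  · have e1 : (b.app (P.basicOpen g)).hom.comp (r.appLE O (P.basicOpen g) er).hom =
        ((b ≫ r).appLE O (b ⁻¹ᵁ P.basicOpen g) (b.preimage_mono er)).hom := by
      rw [← CommRingCat.hom_comp, b.app_eq_appLE, Scheme.Hom.appLE_comp_appLE]
    rw [e1]
    exact HasRingHomProperty.appLE (P := @LocallyOfFiniteType) _ inferInstance ⟨O, hO⟩
      ⟨_, hbW'⟩ _
  · have heq : i ⁻¹ᵁ a ⁻¹ᵁ P.basicOpen g = j ⁻¹ᵁ b ⁻¹ᵁ P.basicOpen g := by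
      rw [← Scheme.Hom.comp_preimage, ← Scheme.Hom.comp_preimage, hp.w]
    obtain ⟨φ, hφ⟩ := appLE_eq_app_of_eq j (b ⁻¹ᵁ P.basicOpen g) _ heq (hp.preimage_le _)
    rw [hφ, CommRingCat.hom_comp]
    exact RingHom.Finite.comp
      (RingHom.Finite.of_surjective _ (ConcreteCategory.bijective_of_isIso φ.hom).2)
      (j.finite_app _ hbW')

end Groth.Agent.H9.PIN
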