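import Groth.Agent.Lib.Helper9.Misc.AVD3
import Groth.Agent.Lib.Helper9.Misc.PIN16
set_option autoImplicit false
set_option linter.style.haveILetI false
set_option linter.unusedSectionVars false
set_option linter.unusedVariables false

namespace Groth.Agent.H9.AVD

open AlgebraicGeometry CategoryTheory Limits TopologicalSpace
open Groth.Agent.H9.PIN

universe u

theorem exists_cpair_of_integral {X Y Z : Scheme.{u}} (i : Z ⟶ X) (j : Z ⟶ Y) [IsClosedImmersion i]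
    [IsIntegralHom j]
    (haff : ∀ y : Y, ∃ U : X.Opens, IsAffineOpen U ∧ j ⁻¹' {y} ⊆ (i ⁻¹ᵁ U : Set ↑Z)) :
    ∀ y : Y, ∃ k : CPair i j, y ∈ k.V := by
  intro y
  obtain ⟨U₀, hU₀, hfib⟩ := haff y
  obtain ⟨U, V, hU, hV, hy, e⟩ := exists_affine_pair i j y U₀ hU₀ hfib
  exact ⟨⟨U, V, hU, hV, e⟩, hy⟩

theorem S7182_main {X Y Z P S : Scheme.{u}} (i : Z ⟶ X) (j : Z ⟶ Y) [IsClosedImmersion i]
    [IsIntegralHom j]
    (haff : ∀ y : Y, ∃ U : X.Opens, IsAffineOpen U ∧ j ⁻¹' {y} ⊆ (i ⁻¹ᵁ U : Set ↑Z))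
    (a : X ⟶ P) (b : Y ⟶ P) (hP : IsPushout i j a b) (p : X ⟶ S) (q : Y ⟶ S) (r : P ⟶ S)
    (hp : a ≫ r = p) (hq : b ≫ r = q) [IsLocallyNoetherian S]
    [LocallyOfFiniteType p] [LocallyOfFiniteType q] [LocallyOfFiniteType (j ≫ q)] :
    LocallyOfFiniteType r := by
  subst hp hq
  obtain ⟨hpin, W, hW, hcov⟩ := isPinch_of_isPushout (exists_cpair_of_integral i j haff) hP
  haveI : LocallyOfFiniteType j := locallyOfFiniteType_of_comp j (b ≫ r)
  haveI : IsFinite j := (IsFinite.iff_isIntegralHom_and_locallyOfFiniteType j).mpr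
    ⟨inferInstance, inferInstance⟩
  exact hpin.locallyOfFiniteType W hcov hW r

end Groth.Agent.H9.AVD
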