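import Groth.Agent.Lib.Helper9.Misc.PIN26
import Groth.Agent.Lib.Helper9.Misc.AVD4
set_option autoImplicit false
set_option linter.style.haveILetI false
set_option linter.unusedSectionVars false
set_option linter.unusedVariables false

namespace Groth.Agent.H9.PIN

open AlgebraicGeometry CategoryTheory Limits TopologicalSpace

universe u

variable {X Y Z P S : Scheme.{u}} {i : Z ⟶ X} {j : Z ⟶ Y} {a : X ⟶ P} {b : Y ⟶ P}

/-- a pinching of `S`-flat schemes along an `S`-flat scheme is `S`-flat. -/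
theorem IsPinch.flat_of_flat (hp : IsPinch i j a b) [IsClosedImmersion i]
    {ι : Type*} (𝒲 : ι → P.Opens) (hcov : ∀ p : P, ∃ k, p ∈ 𝒲 k)
    (h𝒲 : ∀ k, IsAffineOpen (𝒲 k) ∧ IsAffineOpen (a ⁻¹ᵁ 𝒲 k) ∧ IsAffineOpen (b ⁻¹ᵁ 𝒲 k))
    (s : P ⟶ S) [Flat (a ≫ s)] [Flat (b ≫ s)] [Flat (i ≫ a ≫ s)] : Flat s := by
  rw [HasRingHomProperty.iff_exists_appLE (P := @Flat)
    (RingHom.Flat.stableUnderComposition.stableUnderCompositionWithLocalizationAway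
      RingHom.Flat.holdsForLocalizationAway).1]
  intro w
  obtain ⟨k, hk⟩ := hcov w
  obtain ⟨O, hO, hwO, -⟩ := Opens.isBasis_iff_nbhd.mp S.isBasis_affineOpens
    (Opens.mem_top (s w))
  obtain ⟨r, hr₁, hr₂⟩ := (h𝒲 k).1.exists_basicOpen_le (V := s ⁻¹ᵁ O ⊓ 𝒲 k)
    ⟨w, hwO, hk⟩ hk
  have hW : IsAffineOpen (P.basicOpen r) := (h𝒲 k).1.basicOpen r
  have haW : IsAffineOpen (a ⁻¹ᵁ P.basicOpen r) := by
    rw [Scheme.preimage_basicOpen]; exact (h𝒲 k).2.1.basicOpen _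
  have hbW : IsAffineOpen (b ⁻¹ᵁ P.basicOpen r) := by
    rw [Scheme.preimage_basicOpen]; exact (h𝒲 k).2.2.basicOpen _
  have hiW : IsAffineOpen (i ⁻¹ᵁ a ⁻¹ᵁ P.basicOpen r) := haW.preimage i
  have hrO : P.basicOpen r ≤ s ⁻¹ᵁ O := hr₁.trans inf_le_left
  refine ⟨⟨O, hO⟩, ⟨P.basicOpen r, hW⟩, hr₂, hrO, ?_⟩
  have hR := (hp.pinchAt (P.basicOpen r)).ringPinch hp.w (hp.preimage_le _)
    (i.app_surjective _ haW)
  simp only [Scheme.Hom.app_eq_appLE] at hR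
  refine RingPinch.flat_cat (s.appLE O (P.basicOpen r) hrO) hR ?_ ?_ ?_
  · rw [Scheme.Hom.appLE_comp_appLE]
    exact HasRingHomProperty.appLE (P := @Flat) _ inferInstance ⟨O, hO⟩ ⟨_, haW⟩ _
  · rw [Scheme.Hom.appLE_comp_appLE]
    exact HasRingHomProperty.appLE (P := @Flat) _ inferInstance ⟨O, hO⟩ ⟨_, hbW⟩ _
  · rw [Scheme.Hom.appLE_comp_appLE, Scheme.Hom.appLE_comp_appLE]
    have : ((i ≫ a ≫ s).appLE O (i ⁻¹ᵁ a ⁻¹ᵁ P.basicOpen r)
        (i.preimage_mono (a.preimage_mono hrO))).hom.Flat :=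
      HasRingHomProperty.appLE (P := @Flat) _ inferInstance ⟨O, hO⟩ ⟨_, hiW⟩ _
    rwa [appLE_congr_hom (Category.assoc i a s).symm] at this

section S14098

open Groth.Agent.H9.AVD

theorem S14098_main {S X Y Y' P T XT YT Y'T PT : Scheme.{u}}
    (i : Y ⟶ X) [IsClosedImmersion i] (h : Y ⟶ Y') [IsFinite h] [Flat h] [Surjective h]
    (q : X ⟶ P) [IsAffineHom q] (j : Y' ⟶ P) (hP : IsPushout i h q j)
    (sP : P ⟶ S) [Flat (q ≫ sP)] [Flat (j ≫ sP)] (g : T ⟶ S)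
    (pP : PT ⟶ P) (sPT : PT ⟶ T) (hPT : IsPullback pP sPT sP g)
    (pX : XT ⟶ X) (qT : XT ⟶ PT) (hXT : IsPullback pX qT q pP)
    (pY' : Y'T ⟶ Y') (jT : Y'T ⟶ PT) (hY'T : IsPullback pY' jT j pP)
    (pY : YT ⟶ Y) (iT : YT ⟶ XT) (hYT : IsPullback pY iT i pX)
    (hT : YT ⟶ Y'T) (hhT₁ : hT ≫ pY' = pY ≫ h) (hhT₂ : hT ≫ jT = iT ≫ qT) :
    Flat sP ∧ IsPushout iT hT qT jT := by
  -- the compatible pairs
  have hcovY : ∀ y' : Y', ∃ k : CPair i h, y' ∈ k.V := by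
    refine exists_cpair_of_integral i h (fun y' => ?_)
    obtain ⟨_, ⟨W₀, hW₀, rfl⟩, hyW₀, -⟩ :=
      P.isBasis_affineOpens.exists_subset_of_mem_open (Set.mem_univ (j y')) isOpen_univ
    refine ⟨q ⁻¹ᵁ W₀, IsAffineOpen.preimage hW₀ q, ?_⟩
    intro z hz
    have hz' : h z = y' := hz
    change q (i z) ∈ W₀
    rw [← Scheme.Hom.comp_apply, hP.w, Scheme.Hom.comp_apply, hz']
    exact hyW₀
  obtain ⟨hp, W, hW, hcov⟩ := isPinch_of_isPushout hcovY hP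
  haveI : Flat (i ≫ q ≫ sP) := by
    rw [← Category.assoc, hP.w, Category.assoc]
    infer_instance
  refine ⟨hp.flat_of_flat W hcov hW sP, ?_⟩
  exact (hp.baseChange_of_flat W hcov hW sP g pP sPT hPT pX qT hXT pY' jT hY'T pY iT hYT hT hhT₁
    hhT₂.symm).isPushout

end S14098

end Groth.Agent.H9.PIN
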