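import Mathlib
import Groth.Agent.Lib.Helper9.Misc.PIN27

set_option autoImplicit false
set_option linter.style.haveILetI false
set_option linter.unusedSectionVars false
set_option linter.unusedVariables false

namespace Groth.Agent.H9.SHP

open AlgebraicGeometry CategoryTheory Limits TopologicalSpace Opposite

universe u

section Top

variable {A B C D : TopCat.{u}} {f : A ⟶ B} {g : A ⟶ C} {h : B ⟶ D} {k : C ⟶ D}

theorem top_surj (hT : IsPushout f g h k) (d : D) : (∃ x, h x = d) ∨ (∃ y, k y = d) := by
  have := hT.map (forget TopCat)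
  exact Types.eq_or_eq_of_isPushout this d

/-- the Sierpinski space in universe `u`. -/
noncomputable def sier : TopCat.{u} := TopCat.of (ULift.{u} Prop)

noncomputable def chi {B : TopCat.{u}} (U : Opens B) : B ⟶ sier.{u} :=
  TopCat.ofHom ⟨fun x => ULift.up (x ∈ U), continuous_uliftUp.comp
    (isOpen_iff_continuous_mem.mp U.isOpen)⟩

theorem chi_apply {B : TopCat.{u}} (U : Opens B) (x : B) : (chi U x).down ↔ x ∈ U := Iff.rfl

theorem top_exists_open (hT : IsPushout f g h k) (U : Opens B) (V : Opens C)
    (hUV : (Opens.map f).obj U = (Opens.map g).obj V) :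
    ∃ W : Opens D, (Opens.map h).obj W = U ∧ (Opens.map k).obj W = V := by
  have hw : f ≫ chi U = g ≫ chi V := by
    ext x
    change ULift.up (f x ∈ U) = ULift.up (g x ∈ V)
    congr 1
    have := congr(x ∈ $hUV)
    exact this
  let χ := hT.desc (chi U) (chi V) hw
  have h1 : h ≫ χ = chi U := hT.inl_desc _ _ _
  have h2 : k ≫ χ = chi V := hT.inr_desc _ _ _
  refine ⟨⟨{d | (χ d).down}, ?_⟩, ?_, ?_⟩
  · have : IsOpen {p : ULift.{u} Prop | p.down} := by
      have h0 := isOpen_singleton_true.preimage (continuous_uliftDown (X := Prop))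
      convert h0 using 1
      ext p
      simp
    exact this.preimage χ.hom.continuous
  · ext x
    change (χ (h x)).down ↔ x ∈ U
    have := congr($h1 x)
    change χ (h x) = chi U x at this
    rw [this]; rfl
  · ext x
    change (χ (k x)).down ↔ x ∈ V
    have := congr($h2 x)
    change χ (k x) = chi V x at this
    rw [this]; rfl

end Top

section Psh

open PresheafedSpace (componentwiseDiagram colimitPresheafObjIsoComponentwiseLimit colimitPresheafObjIsoComponentwiseLimit_hom_π colimitPresheafObjIsoComponentwiseLimit_inv_ι_app)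

theorem colim_ext (F : WalkingSpan ⥤ PresheafedSpace.{u, u+1, u} CommRingCat.{u})
    (U : Opens (colimit F).carrier) (s t : (colimit F).presheaf.obj (op U))
    (hst : ∀ j, (colimit.ι F j).c.app (op U) s = (colimit.ι F j).c.app (op U) t) : s = t := by
  have hinj : Function.Injective (colimitPresheafObjIsoComponentwiseLimit F U).hom :=
    ((ConcreteCategory.isIso_iff_bijective _).mp inferInstance).1
  apply hinj
  refine Concrete.limit_ext _ _ _ (fun j => ?_)
  have := colimitPresheafObjIsoComponentwiseLimit_hom_π F U j.unop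
  have e1 := congr($this s)
  have e2 := congr($this t)
  simp only [CommRingCat.comp_apply] at e1 e2
  exact e1.trans ((hst j.unop).trans e2.symm)

theorem colim_glue (F : WalkingSpan ⥤ PresheafedSpace.{u, u+1, u} CommRingCat.{u})
    (U : Opens (colimit F).carrier)
    (x : ∀ j : WalkingSpanᵒᵖ, (componentwiseDiagram F U).obj j)
    (hx : ∀ {j j' : WalkingSpanᵒᵖ} (φ : j ⟶ j'), (componentwiseDiagram F U).map φ (x j) = x j') :
    ∃ s : (colimit F).presheaf.obj (op U), ∀ j, (colimit.ι F j).c.app (op U) s = x (op j) := by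
  let D := componentwiseDiagram F U
  have hl := isLimitOfPreserves (forget CommRingCat) (limit.isLimit D)
  let sec : (D ⋙ forget CommRingCat).sections := ⟨fun j => x j, fun φ => hx φ⟩
  let y := (Types.isLimitEquivSections hl).symm sec
  have hy : ∀ j, limit.π D j y = x j := fun j =>
    Types.isLimitEquivSections_symm_apply hl sec j
  refine ⟨(colimitPresheafObjIsoComponentwiseLimit F U).inv y, fun j => ?_⟩
  have := colimitPresheafObjIsoComponentwiseLimit_inv_ι_app F U j
  have e1 := congr($this y)
  simp only [CommRingCat.comp_apply] at e1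
  exact e1.trans (hy (op j))

section Cocone

variable {F : WalkingSpan ⥤ PresheafedSpace.{u, u+1, u} CommRingCat.{u}} (c : Cocone F) (hc : IsColimit c)

/-- comparison iso. -/
noncomputable def cmp : Limits.colimit F ≅ c.pt := (colimit.isColimit F).coconePointUniqueUpToIso hc

theorem cmp_ι (j : WalkingSpan) : colimit.ι F j ≫ (cmp c hc).hom = c.ι.app j :=
  IsColimit.comp_coconePointUniqueUpToIso_hom (colimit.isColimit F) hc j

theorem cmp_opens (W : Opens c.pt) (j : WalkingSpan) :
    (Opens.map (colimit.ι F j).base).obj ((Opens.map (cmp c hc).hom.base).obj W) =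
      (Opens.map (c.ι.app j).base).obj W := by
  rw [← cmp_ι c hc j]; rfl

theorem cmp_key (W : Opens c.pt) (j : WalkingSpan) (s : c.pt.presheaf.obj (op W)) :
    (colimit.ι F j).c.app (op ((Opens.map (cmp c hc).hom.base).obj W))
      ((cmp c hc).hom.c.app (op W) s) =
    (F.obj j).presheaf.map (eqToHom (cmp_opens c hc W j)).op ((c.ι.app j).c.app (op W) s) := by
  have h1 := PresheafedSpace.congr_app (cmp_ι c hc j) (op W)
  have h2 := congr($h1 s)
  rw [PresheafedSpace.comp_c_app] at h2
  rw [eqToHom_op]
  exact h2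

theorem cmp_bij (W : Opens c.pt) : Function.Bijective ((cmp c hc).hom.c.app (op W)) := by
  have h1 : IsIso (cmp c hc).hom.c := PresheafedSpace.c_isIso_of_iso _
  have : IsIso ((cmp c hc).hom.c.app (op W)) := NatIso.isIso_app_of_isIso _ _
  exact (ConcreteCategory.isIso_iff_bijective _).mp this

theorem map_eqToHom_injective {X : PresheafedSpace.{u, u+1, u} CommRingCat.{u}} {V V' : Opens X} (hV : V' = V) :
    Function.Injective (X.presheaf.map (eqToHom hV).op) := by
  subst hV
  intro a b hab
  simpa using hab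

include hc in
theorem cocone_ext (W : Opens c.pt) (s t : c.pt.presheaf.obj (op W))
    (hst : ∀ j, (c.ι.app j).c.app (op W) s = (c.ι.app j).c.app (op W) t) : s = t := by
  refine (cmp_bij c hc W).1 ?_
  refine colim_ext F _ _ _ (fun j => ?_)
  rw [cmp_key, cmp_key, hst j]

theorem map_map_apply {X : TopCat.{u}} (P : X.Presheaf CommRingCat.{u}) {a b c : (Opens X)ᵒᵖ}
    (m1 : a ⟶ b) (m2 : b ⟶ c) (y : P.obj a) : P.map m2 (P.map m1 y) = P.map (m1 ≫ m2) y := by
  rw [Functor.map_comp]; rfl

theorem map_congr_apply {X : TopCat.{u}} (P : X.Presheaf CommRingCat.{u}) {a b : (Opens X)ᵒᵖ}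
    (m m' : a ⟶ b) (y : P.obj a) : P.map m y = P.map m' y := by
  rw [Subsingleton.elim m m']

theorem cocone_w_opens (W : Opens c.pt) {j j' : WalkingSpan} (φ : j ⟶ j') :
    (Opens.map (F.map φ).base).obj ((Opens.map (c.ι.app j').base).obj W) =
      (Opens.map (c.ι.app j).base).obj W := by
  rw [← c.w φ]; rfl

include hc in
theorem cocone_glue (W : Opens c.pt)
    (y : ∀ j : WalkingSpan, (F.obj j).presheaf.obj (op ((Opens.map (c.ι.app j).base).obj W)))
    (hy : ∀ {j j' : WalkingSpan} (φ : j ⟶ j'),
      (F.map φ).c.app (op ((Opens.map (c.ι.app j').base).obj W)) (y j') =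
        (F.obj j).presheaf.map (eqToHom (cocone_w_opens c W φ)).op (y j)) :
    ∃ s : c.pt.presheaf.obj (op W), ∀ j, (c.ι.app j).c.app (op W) s = y j := by
  let U := (Opens.map (cmp c hc).hom.base).obj W
  let x : ∀ j : WalkingSpanᵒᵖ, (componentwiseDiagram F U).obj j := fun j =>
    (F.obj j.unop).presheaf.map (eqToHom (cmp_opens c hc W j.unop)).op (y j.unop)
  have hx : ∀ {j j' : WalkingSpanᵒᵖ} (φ : j ⟶ j'),
      (componentwiseDiagram F U).map φ (x j) = x j' := by
    intro j j' φ
    have hy' := hy φ.unop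
    simp only [x]
    rw [PresheafedSpace.componentwiseDiagram_map]
    have nat := (F.map φ.unop).c.naturality (eqToHom (cmp_opens c hc W j.unop)).op
    have nat' := congr($nat (y j.unop))
    change (F.obj (unop j')).presheaf.map _ ((F.map φ.unop).c.app _
      ((F.obj (unop j)).presheaf.map _ (y (unop j)))) = _
    change (F.map φ.unop).c.app _ ((F.obj (unop j)).presheaf.map _ (y (unop j))) =
      ((F.map φ.unop).base _* (F.obj (unop j')).presheaf).map _
        ((F.map φ.unop).c.app _ (y (unop j))) at nat'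
    rw [nat', hy']
    change (F.obj (unop j')).presheaf.map _ ((F.obj (unop j')).presheaf.map _
      ((F.obj (unop j')).presheaf.map _ (y (unop j')))) = _
    rw [map_map_apply, map_map_apply]
    exact map_congr_apply _ _ _ _
  obtain ⟨s', hs'⟩ := colim_glue F U x hx
  obtain ⟨s, rfl⟩ := (cmp_bij c hc W).2 s'
  refine ⟨s, fun j => ?_⟩
  have h1 := hs' j
  rw [cmp_key] at h1
  exact map_eqToHom_injective _ h1

end Cocone

section Square

variable {A B C D : PresheafedSpace.{u, u+1, u} CommRingCat.{u}} {f : A ⟶ B} {g : A ⟶ C}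
  {h : B ⟶ D} {k : C ⟶ D}

theorem psh_inj (hP : IsPushout f g h k) (W : Opens D) (s t : D.presheaf.obj (op W))
    (h1 : h.c.app (op W) s = h.c.app (op W) t) (h2 : k.c.app (op W) s = k.c.app (op W) t) :
    s = t := by
  refine cocone_ext (PushoutCocone.mk h k hP.w) hP.isColimit W s t (fun j => ?_)
  rcases j with _ | _ | _
  · change (f ≫ h).c.app (op W) s = (f ≫ h).c.app (op W) t
    rw [PresheafedSpace.comp_c_app]
    change f.c.app _ (h.c.app (op W) s) = f.c.app _ (h.c.app (op W) t)
    rw [h1]
  · exact h1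
  · exact h2

theorem psh_glue (hP : IsPushout f g h k) (W : Opens D)
    (sB : B.presheaf.obj (op ((Opens.map h.base).obj W)))
    (sC : C.presheaf.obj (op ((Opens.map k.base).obj W)))
    (e : (Opens.map g.base).obj ((Opens.map k.base).obj W) =
      (Opens.map f.base).obj ((Opens.map h.base).obj W))
    (hcomp : g.c.app _ sC = A.presheaf.map (eqToHom e).op (f.c.app _ sB)) :
    ∃ s : D.presheaf.obj (op W), h.c.app (op W) s = sB ∧ k.c.app (op W) s = sC := by
  let c := PushoutCocone.mk h k hP.w
  let y : ∀ j : WalkingSpan, ((span f g).obj j).presheaf.obj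
      (op ((Opens.map (c.ι.app j).base).obj W)) := fun j =>
    match j with
    | none => f.c.app _ sB
    | some .left => sB
    | some .right => sC
  obtain ⟨s, hs⟩ := cocone_glue c hP.isColimit W y (by
    intro j j' φ
    rcases φ with _ | j0
    · have h0 : (span f g).map (WidePushoutShape.Hom.id j) = 𝟙 _ := (span f g).map_id j
      have h1 := PresheafedSpace.congr_app h0 (op ((Opens.map (c.ι.app j).base).obj W))
      rw [h1]
      change ((span f g).obj j).presheaf.map _ ((𝟙 ((span f g).obj j) : _ ⟶ _).c.app _ (y j)) = _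
      rw [PresheafedSpace.id_c_app]
      change ((span f g).obj j).presheaf.map _ (((span f g).obj j).presheaf.map _ (y j)) = _
      rw [map_map_apply]
      exact map_congr_apply _ _ _ _
    · rcases j0 with _ | _
      · change f.c.app _ sB = A.presheaf.map _ (f.c.app _ sB)
        have : ∀ (m : op ((Opens.map f.base).obj ((Opens.map h.base).obj W)) ⟶
            op ((Opens.map f.base).obj ((Opens.map h.base).obj W))) , A.presheaf.map m = 𝟙 _ := by
          intro m
          rw [Subsingleton.elim m (𝟙 _), A.presheaf.map_id]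
        rw [this]
        rfl
      · exact hcomp)
  exact ⟨s, hs (some .left), hs (some .right)⟩

theorem psh_glue' (hP : IsPushout f g h k) (W : Opens D)
    (sB : B.presheaf.obj (op ((Opens.map h.base).obj W)))
    (sC : C.presheaf.obj (op ((Opens.map k.base).obj W)))
    (e : (Opens.map f.base).obj ((Opens.map h.base).obj W) ≤
      (Opens.map g.base).obj ((Opens.map k.base).obj W))
    (hcomp : f.c.app _ sB = A.presheaf.map (homOfLE e).op (g.c.app _ sC)) :
    ∃ s : D.presheaf.obj (op W), h.c.app (op W) s = sB ∧ k.c.app (op W) s = sC := by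
  have e' : (Opens.map g.base).obj ((Opens.map k.base).obj W) =
      (Opens.map f.base).obj ((Opens.map h.base).obj W) := by
    have := congr_arg (fun m => (Opens.map (PresheafedSpace.Hom.base m)).obj W) hP.w
    exact this.symm
  refine psh_glue hP W sB sC e' ?_
  rw [hcomp, map_map_apply]
  have : ∀ (m : op ((Opens.map g.base).obj ((Opens.map k.base).obj W)) ⟶
      op ((Opens.map g.base).obj ((Opens.map k.base).obj W))), A.presheaf.map m = 𝟙 _ := by
    intro m
    rw [Subsingleton.elim m (𝟙 _), A.presheaf.map_id]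
  rw [this]
  rfl

end Square

end Psh


section Sch

variable {X Y Z P : Scheme.{u}}

/-- the forgetful functor to sheafed spaces (ringed spaces). -/
abbrev toSh : Scheme.{u} ⥤ SheafedSpace CommRingCat.{u} :=
  Scheme.forgetToLocallyRingedSpace ⋙ LocallyRingedSpace.forgetToSheafedSpace

theorem isPinch_of_isPushout_toSh (i : Z ⟶ X) (j : Z ⟶ Y) (a : X ⟶ P) (b : Y ⟶ P)
    (hpo : IsPushout (toSh.map i) (toSh.map j) (toSh.map a) (toSh.map b)) :
    PIN.IsPinch i j a b := by
  have hT : IsPushout i.base j.base a.base b.base := hpo.map (SheafedSpace.forget CommRingCat)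
  have hP : IsPushout i.toPshHom j.toPshHom a.toPshHom b.toPshHom :=
    hpo.map SheafedSpace.forgetToPresheafedSpace
  refine ⟨?_, ?_, ?_, ?_⟩
  · apply toSh.map_injective
    rw [Functor.map_comp, Functor.map_comp]
    exact hpo.w
  · intro p
    exact top_surj hT p
  · intro U V hUV
    exact top_exists_open hT U V hUV
  · intro W
    refine ⟨?_, ?_⟩
    · intro s h1 h2
      refine psh_inj hP W s 0 ?_ ?_
      · rw [map_zero]; exact h1
      · rw [map_zero]; exact h2
    · intro e sX sY hXY
      exact psh_glue' hP W sX sY e hXY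

theorem affine_cover_data (a : X ⟶ P) (b : Y ⟶ P) [IsAffineHom a] [IsAffineHom b] :
    (∀ p : P, ∃ k : P.affineOpens, p ∈ k.1) ∧
    (∀ k : P.affineOpens, IsAffineOpen k.1 ∧ IsAffineOpen (a ⁻¹ᵁ k.1) ∧ IsAffineOpen (b ⁻¹ᵁ k.1)) := by
  refine ⟨fun p => ?_, fun k => ⟨k.2, k.2.preimage a, k.2.preimage b⟩⟩
  obtain ⟨U, hU, hpU, -⟩ := Opens.isBasis_iff_nbhd.mp P.isBasis_affineOpens (Opens.mem_top p)
  exact ⟨⟨U, hU⟩, hpU⟩

theorem S17903_main {S X Z Z' X' : Scheme.{u}}
    (fX : X ⟶ S) (fZ' : Z' ⟶ S) (fX' : X' ⟶ S) (ι : Z ⟶ X) (q : Z ⟶ Z') (π : X ⟶ X')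
    (ι' : Z' ⟶ X')
    [IsClosedImmersion ι] [IsClosedImmersion ι'] [IsAffineHom q] [IsAffineHom π]
    (hq : q ≫ fZ' = ι ≫ fX) (hπ : π ≫ fX' = fX) (hι' : ι' ≫ fX' = fZ')
    (hpo : IsPushout (toSh.map ι) (toSh.map q) (toSh.map π) (toSh.map ι'))
    [Flat fX] [Flat (ι ≫ fX)] [Flat fZ'] : Flat fX' := by
  have hp := isPinch_of_isPushout_toSh ι q π ι' hpo
  haveI : Flat (π ≫ fX') := by rw [hπ]; infer_instance
  haveI : Flat (ι' ≫ fX') := by rw [hι']; infer_instance
  haveI : Flat (ι ≫ π ≫ fX') := by rw [hπ]; infer_instance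
  obtain ⟨hcov, h𝒲⟩ := affine_cover_data π ι'
  exact hp.flat_of_flat (fun U : X'.affineOpens => U.1) hcov h𝒲 fX'

end Sch

end Groth.Agent.H9.SHP
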