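import Mathlib
import Groth.Agent.Lib.Helper9.Misc.SHP1

set_option autoImplicit false
set_option linter.style.haveILetI false
set_option linter.unusedSectionVars false
set_option linter.unusedVariables false

namespace Groth.Agent.H9.SHP

open AlgebraicGeometry CategoryTheory Limits TopologicalSpace Opposite

universe u

section Desc

variable {F : WalkingSpan ⥤ PresheafedSpace.{u, u+1, u} CommRingCat.{u}} (c : Cocone F)

theorem desc_opens (W : Opens c.pt) (j : WalkingSpan) :
    (Opens.map (colimit.ι F j).base).obj ((Opens.map (colimit.desc F c).base).obj W) =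
      (Opens.map (c.ι.app j).base).obj W := by
  rw [← colimit.ι_desc c j]; rfl

theorem desc_key (W : Opens c.pt) (j : WalkingSpan) (s : c.pt.presheaf.obj (op W)) :
    (colimit.ι F j).c.app (op ((Opens.map (colimit.desc F c).base).obj W))
      ((colimit.desc F c).c.app (op W) s) =
    (F.obj j).presheaf.map (eqToHom (desc_opens c W j)).op ((c.ι.app j).c.app (op W) s) := by
  have h1 := PresheafedSpace.congr_app (colimit.ι_desc c j) (op W)
  have h2 := congr($h1 s)
  rw [PresheafedSpace.comp_c_app] at h2
  rw [eqToHom_op]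
  exact h2

end Desc

section ColimExt

open PresheafedSpace (componentwiseDiagram colimitPresheafObjIsoComponentwiseLimit colimitPresheafObjIsoComponentwiseLimit_hom_π colimitPresheafObjIsoComponentwiseLimit_inv_ι_app)

variable (F : WalkingSpan ⥤ PresheafedSpace.{u, u+1, u} CommRingCat.{u})

theorem zero_opens (U : Opens (Limits.colimit F).carrier) :
    (Opens.map (colimit.ι F WalkingSpan.zero).base).obj U =
    (Opens.map (F.map WalkingSpan.Hom.fst).base).obj
      ((Opens.map (colimit.ι F WalkingSpan.left).base).obj U) := by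
  rw [← colimit.w F WalkingSpan.Hom.fst]; rfl

theorem zero_key (U : Opens (Limits.colimit F).carrier) (s : (Limits.colimit F).presheaf.obj (op U)) :
    (colimit.ι F WalkingSpan.zero).c.app (op U) s =
      (F.obj WalkingSpan.zero).presheaf.map (eqToHom (zero_opens F U)).op
        ((F.map WalkingSpan.Hom.fst).c.app _ ((colimit.ι F WalkingSpan.left).c.app (op U) s)) := by
  have h1 := PresheafedSpace.congr_app (colimit.w F WalkingSpan.Hom.fst).symm (op U)
  have h2 := congr($h1 s)
  rw [PresheafedSpace.comp_c_app] at h2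
  rw [eqToHom_op]
  exact h2

theorem zero_opens' (U : Opens (Limits.colimit F).carrier) :
    (Opens.map (colimit.ι F WalkingSpan.zero).base).obj U =
    (Opens.map (F.map WalkingSpan.Hom.snd).base).obj
      ((Opens.map (colimit.ι F WalkingSpan.right).base).obj U) := by
  rw [← colimit.w F WalkingSpan.Hom.snd]; rfl

theorem zero_key' (U : Opens (Limits.colimit F).carrier)
    (s : (Limits.colimit F).presheaf.obj (op U)) :
    (colimit.ι F WalkingSpan.zero).c.app (op U) s =
      (F.obj WalkingSpan.zero).presheaf.map (eqToHom (zero_opens' F U)).op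
        ((F.map WalkingSpan.Hom.snd).c.app _ ((colimit.ι F WalkingSpan.right).c.app (op U) s)) := by
  have h1 := PresheafedSpace.congr_app (colimit.w F WalkingSpan.Hom.snd).symm (op U)
  have h2 := congr($h1 s)
  rw [PresheafedSpace.comp_c_app] at h2
  rw [eqToHom_op]
  exact h2

theorem map_id_apply' {X : TopCat.{u}} (P : X.Presheaf CommRingCat.{u}) {a : (Opens X)ᵒᵖ}
    (m : a ⟶ a) (y : P.obj a) : P.map m y = y := by
  rw [Subsingleton.elim m (𝟙 _), P.map_id]; rfl

theorem colim_ext' (U : Opens (Limits.colimit F).carrier)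
    (s t : (Limits.colimit F).presheaf.obj (op U))
    (hL : (colimit.ι F WalkingSpan.left).c.app (op U) s =
      (colimit.ι F WalkingSpan.left).c.app (op U) t)
    (hR : (colimit.ι F WalkingSpan.right).c.app (op U) s =
      (colimit.ι F WalkingSpan.right).c.app (op U) t) : s = t := by
  refine colim_ext F U s t (fun j => ?_)
  rcases j with _ | _ | _
  · change (colimit.ι F WalkingSpan.zero).c.app (op U) s =
      (colimit.ι F WalkingSpan.zero).c.app (op U) t
    rw [zero_key, zero_key, hL]
  · exact hL
  · exact hR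

end ColimExt

section Converse

variable {A B C D : PresheafedSpace.{u, u+1, u} CommRingCat.{u}} {f : A ⟶ B} {g : A ⟶ C}
  {h : B ⟶ D} {k : C ⟶ D}

theorem psh_isPushout_of (w : f ≫ h = g ≫ k)
    (hT : IsPushout f.base g.base h.base k.base)
    (hinj : ∀ (W : Opens D) (s t : D.presheaf.obj (op W)),
      h.c.app (op W) s = h.c.app (op W) t → k.c.app (op W) s = k.c.app (op W) t → s = t)
    (hglue : ∀ (W : Opens D) (sB : B.presheaf.obj (op ((Opens.map h.base).obj W)))
      (sC : C.presheaf.obj (op ((Opens.map k.base).obj W)))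
      (e : (Opens.map f.base).obj ((Opens.map h.base).obj W) ≤
        (Opens.map g.base).obj ((Opens.map k.base).obj W)),
      f.c.app _ sB = A.presheaf.map (homOfLE e).op (g.c.app _ sC) →
      ∃ s : D.presheaf.obj (op W), h.c.app (op W) s = sB ∧ k.c.app (op W) s = sC) :
    IsPushout f g h k := by
  let F := span f g
  let c : Cocone F := PushoutCocone.mk h k w
  let κ := colimit.desc F c
  -- (a) base iso
  have ha : IsIso κ.base := by
    let G := PresheafedSpace.forget CommRingCat.{u}
    have hc' : IsColimit (G.mapCocone (colimit.cocone F)) :=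
      isColimitOfPreserves G (colimit.isColimit F)
    have hcD : IsColimit (G.mapCocone c) :=
      (isColimitMapCoconePushoutCoconeEquiv G w).symm hT.isColimit
    let κ' : colimit.cocone F ⟶ c := { hom := κ, w := fun j => colimit.ι_desc c j }
    haveI hiso : IsIso ((Cocone.functoriality F G).map κ') :=
      IsColimit.hom_isIso hc' hcD ((Cocone.functoriality F G).map κ')
    exact (Cocone.forget _).map_isIso ((Cocone.functoriality F G).map κ')
  -- (b)
  have hb : ∀ W : Opens D, Function.Bijective (κ.c.app (op W)) := by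
    intro W
    constructor
    · intro s t hst
      have hj : ∀ j, (c.ι.app j).c.app (op W) s = (c.ι.app j).c.app (op W) t := by
        intro j
        have h1 := desc_key c W j s
        have h2 := desc_key c W j t
        have hst' : (colimit.desc F c).c.app (op W) s = (colimit.desc F c).c.app (op W) t := hst
        rw [hst'] at h1
        exact map_eqToHom_injective _ (h1.symm.trans h2)
      exact hinj W s t (hj WalkingSpan.left) (hj WalkingSpan.right)
    · intro s'
      let U := (Opens.map κ.base).obj W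
      let tL := (colimit.ι F WalkingSpan.left).c.app (op U) s'
      let tR := (colimit.ι F WalkingSpan.right).c.app (op U) s'
      let sB : B.presheaf.obj (op ((Opens.map h.base).obj W)) :=
        B.presheaf.map (eqToHom (desc_opens c W WalkingSpan.left).symm).op tL
      let sC : C.presheaf.obj (op ((Opens.map k.base).obj W)) :=
        C.presheaf.map (eqToHom (desc_opens c W WalkingSpan.right).symm).op tR
      have e : (Opens.map f.base).obj ((Opens.map h.base).obj W) ≤
          (Opens.map g.base).obj ((Opens.map k.base).obj W) := by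
        have := congr_arg (fun m => (Opens.map (PresheafedSpace.Hom.base m)).obj W) w
        exact le_of_eq this
      have hz1 := zero_key F U s'
      have hz2 := zero_key' F U s'
      have hz : A.presheaf.map (eqToHom (zero_opens F U)).op (f.c.app _ tL) =
          A.presheaf.map (eqToHom (zero_opens' F U)).op (g.c.app _ tR) := hz1.symm.trans hz2
      have hz3 := congrArg (A.presheaf.map
        (eqToHom (desc_opens c W WalkingSpan.zero).symm).op) hz
      rw [map_map_apply, map_map_apply] at hz3
      have natf := congr($(f.c.naturality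
        (eqToHom (desc_opens c W WalkingSpan.left).symm).op) tL)
      have natg := congr($(g.c.naturality
        (eqToHom (desc_opens c W WalkingSpan.right).symm).op) tR)
      change f.c.app _ sB = A.presheaf.map _ (f.c.app _ tL) at natf
      change g.c.app _ sC = A.presheaf.map _ (g.c.app _ tR) at natg
      have hcomp : f.c.app _ sB = A.presheaf.map (homOfLE e).op (g.c.app _ sC) := by
        rw [natf, natg, map_map_apply]
        refine (map_congr_apply _ _ _ _).trans (hz3.trans (map_congr_apply _ _ _ _))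
      obtain ⟨s, hs1, hs2⟩ := hglue W sB sC e hcomp
      refine ⟨s, ?_⟩
      refine colim_ext' F U _ _ ?_ ?_
      · refine (desc_key c W WalkingSpan.left s).trans ?_
        change B.presheaf.map _ (h.c.app (op W) s) = tL
        rw [hs1]
        change B.presheaf.map _ (B.presheaf.map _ tL) = tL
        rw [map_map_apply]
        exact map_id_apply' _ _ _
      · refine (desc_key c W WalkingSpan.right s).trans ?_
        change C.presheaf.map _ (k.c.app (op W) s) = tR
        rw [hs2]
        change C.presheaf.map _ (C.presheaf.map _ tR) = tR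
        rw [map_map_apply]
        exact map_id_apply' _ _ _
  have hc : IsIso κ.c := by
    refine @NatIso.isIso_of_isIso_app _ _ _ _ _ _ κ.c (fun V => ?_)
    induction V with
    | op V => exact (ConcreteCategory.isIso_iff_bijective _).mpr (hb V)
  have hκ : IsIso κ := PresheafedSpace.isIso_of_components κ
  haveI : IsIso ((colimit.isColimit F).desc c) := hκ
  exact IsPushout.of_isColimit (IsColimit.ofPointIso (colimit.isColimit F) (t := c))

end Converse

section TopPush

variable {X Y Z P : Scheme.{u}} {i : Z ⟶ X} {j : Z ⟶ Y} {a : X ⟶ P} {b : Y ⟶ P}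

/-- the open complement of the closed subscheme. -/
noncomputable def compl (i : Z ⟶ X) [IsClosedImmersion i] : X.Opens :=
  ⟨(Set.range i)ᶜ, i.isClosedEmbedding.isClosed_range.isOpen_compl⟩

theorem mem_compl (i : Z ⟶ X) [IsClosedImmersion i] (x : X) :
    x ∈ compl i ↔ x ∉ Set.range i := Iff.rfl

theorem exists_open_away (hp : PIN.IsPinch i j a b) [IsClosedImmersion i] (U : X.Opens) :
    ∃ W : P.Opens, a ⁻¹ᵁ W = U ⊓ compl i ∧ b ⁻¹ᵁ W = ⊥ := by
  refine hp.exists_open (U ⊓ compl i) ⊥ ?_
  ext z
  change (i z ∈ U ∧ i z ∈ compl i) ↔ j z ∈ (⊥ : Y.Opens)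
  constructor
  · rintro ⟨-, hz⟩
    exact (hz ⟨z, rfl⟩).elim
  · intro hz
    exact (hz : j z ∈ (⊥ : Y.Opens)).elim

theorem fibre_ab (hp : PIN.IsPinch i j a b) [IsClosedImmersion i] (hb : Function.Injective b)
    {x : X} {y : Y} (hxy : a x = b y) : ∃ z, i z = x ∧ j z = y := by
  obtain ⟨W, hW1, hW2⟩ := exists_open_away hp ⊤
  by_cases hx : x ∈ Set.range i
  · obtain ⟨z, rfl⟩ := hx
    refine ⟨z, rfl, hb ?_⟩
    rw [← hxy, ← Scheme.Hom.comp_apply, ← hp.w, Scheme.Hom.comp_apply]
  · exfalso
    have h1 : x ∈ a ⁻¹ᵁ W := by rw [hW1]; exact ⟨trivial, hx⟩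
    have h2 : y ∈ b ⁻¹ᵁ W := by
      change b y ∈ W
      rw [← hxy]; exact h1
    rw [hW2] at h2
    exact h2

theorem fibre_a (hp : PIN.IsPinch i j a b) [IsClosedImmersion i] (hb : Function.Injective b)
    {x x' : X} (hxx : a x = a x') :
    x = x' ∨ ∃ z z', i z = x ∧ i z' = x' ∧ j z = j z' := by
  have key : ∀ U : X.Opens, (x ∈ U ⊓ compl i ↔ x' ∈ U ⊓ compl i) := by
    intro U
    obtain ⟨W, hW1, hW2⟩ := exists_open_away hp U
    rw [← hW1]
    change a x ∈ W ↔ a x' ∈ W
    rw [hxx]
  by_cases hx : x ∈ Set.range i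
  · have hx' : x' ∈ Set.range i := by
      by_contra hx'
      have := (key ⊤).2 ⟨trivial, hx'⟩
      exact this.2 hx
    obtain ⟨z, rfl⟩ := hx
    obtain ⟨z', rfl⟩ := hx'
    refine Or.inr ⟨z, z', rfl, rfl, hb ?_⟩
    have h1 : a (i z) = b (j z) := by
      rw [← Scheme.Hom.comp_apply, hp.w, Scheme.Hom.comp_apply]
    have h2 : a (i z') = b (j z') := by
      rw [← Scheme.Hom.comp_apply, hp.w, Scheme.Hom.comp_apply]
    rw [← h1, ← h2, hxx]
  · left
    have hx' : x' ∉ Set.range i := fun hx' => ((key ⊤).1 ⟨trivial, hx⟩).2 hx'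
    by_contra hne
    obtain ⟨U, hU, hxor⟩ := exists_isOpen_xor_mem hne
    have := key ⟨U, hU⟩
    rcases hxor with ⟨h1, h2⟩ | ⟨h1, h2⟩
    · exact h2 (this.1 ⟨h1, hx⟩).1
    · exact h2 (this.2 ⟨h1, hx'⟩).1

theorem top_exists_desc (hp : PIN.IsPinch i j a b) [IsClosedImmersion i]
    (hb : Function.Injective b) {T : TopCat.{u}} (φ : X.toTopCat ⟶ T) (ψ : Y.toTopCat ⟶ T)
    (hφψ : i.base ≫ φ = j.base ≫ ψ) :
    ∃ θ : P.toTopCat ⟶ T, a.base ≫ θ = φ ∧ b.base ≫ θ = ψ := by
  classical
  have hcompat : ∀ z : Z, φ (i z) = ψ (j z) := fun z => congr($hφψ z)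
  let θ : P → T := fun p =>
    if hx : ∃ x, a x = p then φ hx.choose else
      ψ ((hp.surj p).resolve_left hx).choose
  have θa : ∀ x, θ (a x) = φ x := by
    intro x
    have hx : ∃ x₀, a x₀ = a x := ⟨x, rfl⟩
    simp only [θ, dif_pos hx]
    rcases fibre_a hp hb hx.choose_spec with h | ⟨z, z', h1, h2, h3⟩
    · rw [h]
    · rw [← h1, ← h2, hcompat, hcompat, h3]
  have θb : ∀ y, θ (b y) = ψ y := by
    intro y
    by_cases hx : ∃ x₀, a x₀ = b y
    · simp only [θ, dif_pos hx]
      obtain ⟨z, h1, h2⟩ := fibre_ab hp hb hx.choose_spec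
      rw [← h1, ← h2, hcompat]
    · simp only [θ, dif_neg hx]
      congr 1
      exact hb ((hp.surj (b y)).resolve_left hx).choose_spec
  have hcont : Continuous θ := by
    rw [continuous_def]
    intro O hO
    let U : X.Opens := ⟨φ ⁻¹' O, hO.preimage φ.hom.continuous⟩
    let V : Y.Opens := ⟨ψ ⁻¹' O, hO.preimage ψ.hom.continuous⟩
    have hUV : i ⁻¹ᵁ U = j ⁻¹ᵁ V := by
      ext z
      change φ (i z) ∈ O ↔ ψ (j z) ∈ O
      rw [hcompat]
    obtain ⟨W, hW1, hW2⟩ := hp.exists_open U V hUV
    have : θ ⁻¹' O = (W : Set P) := by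
      ext p
      rcases hp.surj p with ⟨x, rfl⟩ | ⟨y, rfl⟩
      · change θ (a x) ∈ O ↔ x ∈ a ⁻¹ᵁ W
        rw [θa, hW1]; rfl
      · change θ (b y) ∈ O ↔ y ∈ b ⁻¹ᵁ W
        rw [θb, hW2]; rfl
    rw [this]
    exact W.2
  refine ⟨TopCat.ofHom ⟨θ, hcont⟩, ?_, ?_⟩
  · ext x; exact θa x
  · ext y; exact θb y

theorem top_isPushout (hp : PIN.IsPinch i j a b) [IsClosedImmersion i]
    (hb : Function.Injective b) : IsPushout i.base j.base a.base b.base := by
  have hw : i.base ≫ a.base = j.base ≫ b.base := by
    rw [← Scheme.Hom.comp_base, ← Scheme.Hom.comp_base, hp.w]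
  have hex : ∀ s : PushoutCocone i.base j.base, ∃ θ : P.toTopCat ⟶ s.pt,
      a.base ≫ θ = s.inl ∧ b.base ≫ θ = s.inr := fun s =>
    top_exists_desc hp hb s.inl s.inr s.condition
  choose desc h1 h2 using hex
  refine IsPushout.of_isColimit (PushoutCocone.IsColimit.mk hw desc h1 h2 ?_)
  intro s m hm1 hm2
  ext p
  rcases hp.surj p with ⟨x, rfl⟩ | ⟨y, rfl⟩
  · have e1 := congr($hm1 x)
    have e2 := congr($(h1 s) x)
    exact e1.trans e2.symm
  · have e1 := congr($hm2 y)
    have e2 := congr($(h2 s) y)
    exact e1.trans e2.symm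

theorem isPushout_toSh_of_isPinch (hp : PIN.IsPinch i j a b) [IsClosedImmersion i]
    (hb : Function.Injective b) :
    IsPushout (toSh.map i) (toSh.map j) (toSh.map a) (toSh.map b) := by
  have hw : toSh.map i ≫ toSh.map a = toSh.map j ≫ toSh.map b := by
    rw [← Functor.map_comp, ← Functor.map_comp, hp.w]
  refine IsPushout.of_map SheafedSpace.forgetToPresheafedSpace hw ?_
  change IsPushout i.toPshHom j.toPshHom a.toPshHom b.toPshHom
  refine psh_isPushout_of ?_ (top_isPushout hp hb) ?_ ?_
  · exact congr_arg (fun m => SheafedSpace.forgetToPresheafedSpace.map m) hw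
  · intro W s t h1 h2
    have := (hp.pinchAt W).inj (s - t) ?_ ?_
    · exact sub_eq_zero.mp this
    · rw [map_sub, sub_eq_zero]; exact h1
    · rw [map_sub, sub_eq_zero]; exact h2
  · intro W sB sC e hcomp
    exact (hp.pinchAt W).glue e sB sC hcomp

end TopPush

section S17904

theorem S17904_main {S X Z Z' X' : Scheme.{u}}
    (fX : X ⟶ S) (fZ' : Z' ⟶ S) (fX' : X' ⟶ S) (ι : Z ⟶ X) (q : Z ⟶ Z') (π : X ⟶ X')
    (ι' : Z' ⟶ X')
    [IsClosedImmersion ι] [IsClosedImmersion ι'] [IsAffineHom q] [IsAffineHom π]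
    (hq : q ≫ fZ' = ι ≫ fX) (hπ : π ≫ fX' = fX) (hι' : ι' ≫ fX' = fZ')
    (hpo : IsPushout (toSh.map ι) (toSh.map q) (toSh.map π) (toSh.map ι'))
    [Flat fX] [Flat (ι ≫ fX)] [Flat fZ'] {T : Scheme.{u}} (g : T ⟶ S) :
    IsPushout
      (toSh.map ((Over.pullback g).map (Over.homMk ι rfl : Over.mk (ι ≫ fX) ⟶ Over.mk fX)).left)
      (toSh.map ((Over.pullback g).map (Over.homMk q hq : Over.mk (ι ≫ fX) ⟶ Over.mk fZ')).left)
      (toSh.map ((Over.pullback g).map (Over.homMk π hπ : Over.mk fX ⟶ Over.mk fX')).left)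
      (toSh.map ((Over.pullback g).map
        (Over.homMk ι' hι' : Over.mk fZ' ⟶ Over.mk fX')).left) := by
  have hp := isPinch_of_isPushout_toSh ι q π ι' hpo
  haveI : Flat (ι ≫ π ≫ fX') := by rw [hπ]; infer_instance
  obtain ⟨hcov, h𝒲⟩ := affine_cover_data π ι'
  let φι : Over.mk (ι ≫ fX) ⟶ Over.mk fX := Over.homMk ι rfl
  let φq : Over.mk (ι ≫ fX) ⟶ Over.mk fZ' := Over.homMk q hq
  let φπ : Over.mk fX ⟶ Over.mk fX' := Over.homMk π hπ
  let φι' : Over.mk fZ' ⟶ Over.mk fX' := Over.homMk ι' hι'
  have hφ : φι ≫ φπ = φq ≫ φι' := by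
    ext
    exact hp.w
  have hw : ((Over.pullback g).map φι).left ≫ ((Over.pullback g).map φπ).left =
      ((Over.pullback g).map φq).left ≫ ((Over.pullback g).map φι').left := by
    rw [← Over.comp_left, ← Over.comp_left, ← Functor.map_comp, ← Functor.map_comp, hφ]
  have hpT := hp.baseChange_of_flat (fun U : X'.affineOpens => U.1) hcov h𝒲 fX' g
    (pullback.fst fX' g) (pullback.snd fX' g) (IsPullback.of_hasPullback fX' g)
    (pullback.fst fX g) ((Over.pullback g).map φπ).left (PIN.isPullback_overPullback_map g φπ)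
    (pullback.fst fZ' g) ((Over.pullback g).map φι').left
      (PIN.isPullback_overPullback_map g φι')
    (pullback.fst (ι ≫ fX) g) ((Over.pullback g).map φι).left
      (PIN.isPullback_overPullback_map g φι)
    ((Over.pullback g).map φq).left (pullback.lift_fst _ _ _) hw
  haveI : IsClosedImmersion ((Over.pullback g).map φι).left :=
    MorphismProperty.of_isPullback (P := @IsClosedImmersion)
      (PIN.isPullback_overPullback_map g φι) (inferInstanceAs (IsClosedImmersion ι))
  haveI : IsClosedImmersion ((Over.pullback g).map φι').left :=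
    MorphismProperty.of_isPullback (P := @IsClosedImmersion)
      (PIN.isPullback_overPullback_map g φι') (inferInstanceAs (IsClosedImmersion ι'))
  exact isPushout_toSh_of_isPinch hpT
    ((Over.pullback g).map φι').left.isClosedEmbedding.injective

end S17904

end Groth.Agent.H9.SHP
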