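import Mathlib
import Groth.Agent.Lib.Helper9.Misc.SHP2

set_option autoImplicit false
set_option linter.style.haveILetI false
set_option linter.unusedSectionVars false
set_option linter.unusedVariables false

namespace Groth.Agent.H9.SHP

open AlgebraicGeometry CategoryTheory Limits TopologicalSpace Opposite

universe u

section Inj

set_option backward.isDefEq.respectTransparency.types false in
theorem stalkMap_injective_of_flat {A B : Scheme.{u}} (f : A ⟶ B) [Flat f] (x : A) :
    Function.Injective (f.stalkMap x) := by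
  algebraize [(f.stalkMap x).hom]
  have : Module.FaithfullyFlat (B.presheaf.stalk (f x)) (A.presheaf.stalk x) :=
    @Module.FaithfullyFlat.of_flat_of_isLocalHom _ _ _ _ _ _ _
      (Flat.stalkMap f x) (f.toLRSHom.prop x)
  exact ‹RingHom.FaithfullyFlat _›.injective

theorem app_injective_of_flat_of_surjective {A B : Scheme.{u}} (f : A ⟶ B) [Flat f]
    [Surjective f] (V : B.Opens) : Function.Injective (f.app V) := by
  intro s t hst
  refine TopCat.Presheaf.section_ext B.sheaf V s t (fun y hy => ?_)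
  obtain ⟨x, rfl⟩ := f.surjective y
  apply stalkMap_injective_of_flat f x
  have h1 := Scheme.Hom.germ_stalkMap_apply f V x hy s
  have h2 := Scheme.Hom.germ_stalkMap_apply f V x hy t
  exact h1.trans ((congrArg _ hst).trans h2.symm)

theorem appLE_injective_of_eq {A B : Scheme.{u}} (f : A ⟶ B) (U : B.Opens) (V : A.Opens)
    (hV : V = f ⁻¹ᵁ U) (hinj : Function.Injective (f.app U)) :
    Function.Injective (f.appLE U V (le_of_eq hV)) := by
  subst hV
  rwa [← Scheme.Hom.app_eq_appLE]

theorem appLE_bijective_of_eq {A B : Scheme.{u}} (f : A ⟶ B) (U : B.Opens) (V : A.Opens)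
    (hV : V = f ⁻¹ᵁ U) [IsIso (f.app U)] :
    Function.Bijective (f.appLE U V (le_of_eq hV)) := by
  subst hV
  rw [← Scheme.Hom.app_eq_appLE]
  exact (ConcreteCategory.isIso_iff_bijective _).mp inferInstance

end Inj

section S17905

theorem S17905_main {S X Z Z' X' : Scheme.{u}}
    (fX : X ⟶ S) (fZ' : Z' ⟶ S) (fX' : X' ⟶ S) (ι : Z ⟶ X) (q : Z ⟶ Z') (π : X ⟶ X')
    (ι' : Z' ⟶ X')
    [IsClosedImmersion ι] [IsClosedImmersion ι'] [IsFinite q] [Flat q] [Surjective q]
    [IsAffineHom π]
    (hq : q ≫ fZ' = ι ≫ fX) (hπ : π ≫ fX' = fX) (hι' : ι' ≫ fX' = fZ')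
    (hpo : IsPushout (toSh.map ι) (toSh.map q) (toSh.map π) (toSh.map ι'))
    [Flat fX] [Flat (ι ≫ fX)] [Flat fZ']
    (hX : ∀ (T : Scheme.{u}) (g : T ⟶ S) (U : T.Opens),
      IsIso ((Limits.pullback.snd fX g).app U))
    (T : Scheme.{u}) (g : T ⟶ S) (U : T.Opens) :
    IsIso ((Limits.pullback.snd fX' g).app U) := by
  have hp := isPinch_of_isPushout_toSh ι q π ι' hpo
  haveI : Flat (ι ≫ π ≫ fX') := by rw [hπ]; infer_instance
  obtain ⟨hcov, h𝒲⟩ := affine_cover_data π ι'
  let φι : Over.mk (ι ≫ fX) ⟶ Over.mk fX := Over.homMk ι rfl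
  let φq : Over.mk (ι ≫ fX) ⟶ Over.mk fZ' := Over.homMk q hq
  let φπ : Over.mk fX ⟶ Over.mk fX' := Over.homMk π hπ
  let φι' : Over.mk fZ' ⟶ Over.mk fX' := Over.homMk ι' hι'
  have hφ : φι ≫ φπ = φq ≫ φι' := by
    ext
    exact hp.w
  have hw : ((Over.pullback g).map φι).left ≫ ((Over.pullback g).map φπ).left =
      ((Over.pullback g).map φq).left ≫ ((Over.pullback g).map φι').left := by
    rw [← Over.comp_left, ← Over.comp_left, ← Functor.map_comp, ← Functor.map_comp, hφ]
  have hpT := hp.baseChange_of_flat (fun U : X'.affineOpens => U.1) hcov h𝒲 fX' g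
    (pullback.fst fX' g) (pullback.snd fX' g) (IsPullback.of_hasPullback fX' g)
    (pullback.fst fX g) ((Over.pullback g).map φπ).left (PIN.isPullback_overPullback_map g φπ)
    (pullback.fst fZ' g) ((Over.pullback g).map φι').left
      (PIN.isPullback_overPullback_map g φι')
    (pullback.fst (ι ≫ fX) g) ((Over.pullback g).map φι).left
      (PIN.isPullback_overPullback_map g φι)
    ((Over.pullback g).map φq).left (pullback.lift_fst _ _ _) hw
  generalize haT : ((Over.pullback g).map φπ).left = aT at hpT hw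
  generalize hbT : ((Over.pullback g).map φι').left = bT at hpT hw
  generalize hiT : ((Over.pullback g).map φι).left = iT at hpT hw
  have hjfl : Flat ((Over.pullback g).map φq).left :=
    MorphismProperty.of_isPullback (P := @Flat)
      (PIN.isPullback_overPullback_map g φq) (inferInstanceAs (Flat q))
  have hjsu : Surjective ((Over.pullback g).map φq).left :=
    MorphismProperty.of_isPullback (P := @Surjective)
      (PIN.isPullback_overPullback_map g φq) (inferInstanceAs (Surjective q))
  generalize hjT : ((Over.pullback g).map φq).left = jT at hpT hw hjfl hjsu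
  have ha_snd : aT ≫ pullback.snd fX' g = pullback.snd fX g := by
    rw [← haT]; exact pullback.lift_snd _ _ _
  generalize hsT : pullback.snd fX' g = sT at ha_snd
  let W := sT ⁻¹ᵁ U
  let V := aT ⁻¹ᵁ W
  have hV : V = (pullback.snd fX g) ⁻¹ᵁ U := by rw [← ha_snd]; rfl
  haveI := hX T g U
  have hbij := appLE_bijective_of_eq (pullback.snd fX g) U V hV
  have hfac : (pullback.snd fX g).appLE U V (le_of_eq hV) = sT.app U ≫ aT.app W := by
    rw [Scheme.Hom.app_eq_appLE, Scheme.Hom.app_eq_appLE, Scheme.Hom.appLE_comp_appLE]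
    exact PIN.appLE_congr_hom ha_snd.symm _ _ _ _
  have hfac' : ∀ t, aT.app W (sT.app U t) =
      (pullback.snd fX g).appLE U V (le_of_eq hV) t := fun t => (congr($hfac t)).symm
  refine (ConcreteCategory.isIso_iff_bijective _).mpr ⟨?_, ?_⟩
  · intro t t' htt
    apply hbij.1
    rw [← hfac', ← hfac', htt]
  · intro s
    obtain ⟨t, ht⟩ := hbij.2 (aT.app W s)
    refine ⟨t, ?_⟩
    have h1 : aT.app W (sT.app U t - s) = 0 := by rw [map_sub, hfac', ht, sub_self]
    have e : iT ⁻¹ᵁ aT ⁻¹ᵁ W ≤ jT ⁻¹ᵁ bT ⁻¹ᵁ W := hpT.preimage_le W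
    have h2 : bT.app W (sT.app U t - s) = 0 := by
      have hjinj := appLE_injective_of_eq jT (bT ⁻¹ᵁ W) (iT ⁻¹ᵁ aT ⁻¹ᵁ W)
        (by change (iT ≫ aT) ⁻¹ᵁ W = (jT ≫ bT) ⁻¹ᵁ W; rw [hw])
        (app_injective_of_flat_of_surjective jT _)
      apply hjinj
      rw [map_zero]
      have h3 := congr($(PIN.app_comp_eq hw W e) (sT.app U t - s))
      refine Eq.trans h3 ?_
      change iT.app _ (aT.app W (sT.app U t - s)) = 0
      rw [h1, map_zero]
    exact sub_eq_zero.mp ((hpT.pinchAt W).inj _ h1 h2)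

end S17905

end Groth.Agent.H9.SHP
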