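import Mathlib
import Groth.Prelude.Def_AlgGrp
import Groth.Agent.Lib.Helper9.Misc.FLH5

/-! Helper9: action map inherits base-change-stable properties of G → S (S7994); mono quotient maps are isos (S7995). -/

set_option linter.style.haveILetI false
set_option linter.unusedSectionVars false

namespace Groth.Agent.H9.ACT

universe u

open CategoryTheory CategoryTheory.Limits AlgebraicGeometry MonoidalCategory
  CartesianMonoidalCategory MonObj GrpObj Groth.Agent.H9.FLH

variable {S : Scheme.{u}} {G X : Over S} [GrpObj G] (a : AlgGrp.Action G X)

theorem act_left_eq : a.act.left = (shear a).left ≫ (snd G X).left := by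
  rw [← Over.comp_left, shear_snd]

instance isIso_shear_left : IsIso (shear a).left := by
  have : IsIso (shear a) := ⟨shearInv a, shear_shearInv a, shearInv_shear a⟩
  exact inferInstanceAs (IsIso ((Over.forget _).map (shear a)))

/-- Any property stable under base change and composition containing isomorphisms passes from
`G → S` to the action map. -/
theorem act_of_stable (P : MorphismProperty Scheme.{u}) [P.IsStableUnderBaseChange]
    [P.RespectsIso] (h : P G.hom) : P a.act.left := by
  rw [act_left_eq, P.cancel_left_of_respectsIso]
  exact P.pullback_snd G.hom X.hom h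

theorem S7994_main (k : Type u) [Field k]
    (G X : Over (Spec (CommRingCat.of k))) [GrpObj G] [LocallyOfFiniteType G.hom]
    [QuasiCompact G.hom]
    [LocallyOfFiniteType X.hom] [QuasiCompact X.hom] (a : AlgGrp.Action G X) :
    Flat a.act.left ∧ Surjective a.act.left ∧ (Smooth G.hom → Smooth a.act.left) ∧
      (IsFinite G.hom → IsFinite a.act.left) := by
  refine ⟨inferInstance, ?_, fun h ↦ act_of_stable a @Smooth h,
    fun h ↦ act_of_stable a @IsFinite h⟩
  have hs : Surjective G.hom := by
    refine ⟨fun p ↦ ?_⟩
    have : Nonempty (Spec (CommRingCat.of k)) := inferInstance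
    refine ⟨η[G].left p, ?_⟩
    rw [← Scheme.Hom.comp_apply, Over.w]
    exact Subsingleton.elim _ _
  exact act_of_stable a @Surjective hs

theorem S7995_main (k : Type u) [Field k]
    (G Q : Over (Spec (CommRingCat.of k))) [GrpObj G] [GrpObj Q]
    [LocallyOfFiniteType G.hom] [QuasiCompact G.hom] [LocallyOfFiniteType Q.hom]
    [QuasiCompact Q.hom]
    (q : G ⟶ Q) [IsMonHom q] [Mono q] [Flat q.left] [Surjective q.left] : IsIso q := by
  have hQn : IsLocallyNoetherian Q.left := LocallyOfFiniteType.isLocallyNoetherian Q.hom
  have hGc : CompactSpace G.left := QuasiCompact.compactSpace_of_compactSpace G.hom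
  have hqc : QuasiCompact q.left := inferInstance
  have hmono : Mono q.left := by
    have : Mono ((Over.forget _).map q) := inferInstance
    exact this
  have : IsIso q.left := Flat.isIso_of_surjective_of_mono q.left
  have : IsIso ((Over.forget _).map q) := this
  exact isIso_of_reflects_iso q (Over.forget _)

end Groth.Agent.H9.ACT
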