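import Mathlib
import Groth.Prelude.Def_AlgGrp
import Groth.Agent.Lib.Helper9.Misc.ACT1
import Groth.Agent.Lib.Helper9.Misc.SIM1

/-! Helper9: equivariant morphisms: the equivariance square is cartesian; the largest open over which an equivariant map has a descendable property is stable (S18826). -/

set_option linter.style.haveILetI false
set_option linter.unusedSectionVars false

namespace Groth.Agent.H9.EQV

universe u

open CategoryTheory CategoryTheory.Limits AlgebraicGeometry MonoidalCategory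
  CartesianMonoidalCategory MonObj GrpObj Groth.Agent.H9.FLH Groth.Agent.H9.ACT
  Groth.Agent.H9.SIM

/-- For a property local at the target there is a largest open over which `f` has it. -/
theorem exists_largest_open (P : MorphismProperty Scheme.{u}) [IsZariskiLocalAtTarget P]
    {X Y : Scheme.{u}} (f : X ⟶ Y) :
    ∃ V : Y.Opens, P (f ∣_ V) ∧ ∀ V' : Y.Opens, P (f ∣_ V') → V' ≤ V := by
  let J := {V' : Y.Opens // P (f ∣_ V')}
  let V : Y.Opens := ⨆ i : J, i.1
  refine ⟨V, ?_, fun V' h ↦ le_iSup (fun i : J ↦ i.1) ⟨V', h⟩⟩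
  apply IsZariskiLocalAtTarget.of_iSup_eq_top (fun i : J ↦ V.ι ⁻¹ᵁ i.1)
  · apply V.ι.image_injective
    dsimp
    rw [Scheme.Hom.image_iSup, Scheme.Hom.image_top_eq_opensRange, Scheme.Opens.opensRange_ι]
    simp only [Scheme.Hom.image_preimage_eq_opensRange_inf, Scheme.Opens.opensRange_ι]
    apply le_antisymm
    · exact iSup_le fun i ↦ inf_le_left
    · exact iSup_le fun i ↦ le_iSup_of_le i (le_inf (le_iSup (fun i : J ↦ i.1) i) le_rfl)
  · intro i
    rw [P.arrow_mk_iso_iff (morphismRestrictRestrict f V _)]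
    have e : V.ι ''ᵁ (V.ι ⁻¹ᵁ i.1) = i.1 := by
      rw [Scheme.Hom.image_preimage_eq_opensRange_inf, Scheme.Opens.opensRange_ι]
      exact inf_eq_right.mpr (le_iSup (fun i : J ↦ i.1) i)
    rw [P.arrow_mk_iso_iff (morphismRestrictEq f e)]
    exact i.2

instance isIso_shear {S : Scheme.{u}} {G X : Over S} [GrpObj G] (a : AlgGrp.Action G X) :
    IsIso (shear a) := ⟨shearInv a, shear_shearInv a, shearInv_shear a⟩

variable {S : Scheme.{u}} {G X Y : Over S} [GrpObj G] (aX : AlgGrp.Action G X)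
  (aY : AlgGrp.Action G Y) (f : X ⟶ Y) (hf : (G ◁ f) ≫ aY.act = aX.act ≫ f)

include hf in
theorem shearInv_whiskerLeft : (G ◁ f) ≫ shearInv aY = shearInv aX ≫ (G ◁ f) := by
  rw [← cancel_mono (shear aY), Category.assoc, shearInv_shear, Category.comp_id, Category.assoc]
  have h : (G ◁ f) ≫ shear aY = shear aX ≫ (G ◁ f) := by
    unfold shear
    apply CartesianMonoidalCategory.hom_ext
    · simp
    · simp [hf]
  rw [h, ← Category.assoc, shearInv_shear, Category.id_comp]

include hf in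
/-- The equivariance square is cartesian. -/
theorem isPullback_equivariant :
    IsPullback aX.act.left (G ◁ f).left f.left aY.act.left := by
  have hX : IsIso (shearInv aX) := ⟨shear aX, shearInv_shear aX, shear_shearInv aX⟩
  have hY : IsIso (shearInv aY) := ⟨shear aY, shearInv_shear aY, shear_shearInv aY⟩
  have hX' : IsIso (shearInv aX).left := inferInstanceAs (IsIso ((Over.forget _).map (shearInv aX)))
  have hY' : IsIso (shearInv aY).left := inferInstanceAs (IsIso ((Over.forget _).map (shearInv aY)))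
  refine IsPullback.of_iso (isPullback_whiskerLeft_left G f) (asIso (shearInv aX).left) (Iso.refl _)
    (asIso (shearInv aY).left) (Iso.refl _) ?_ ?_ ?_ ?_
  · simp only [Iso.refl_hom, Category.comp_id, asIso_hom]
    rw [← Over.comp_left]
    congr 1
    rw [← cancel_epi (shear aX), shear_snd, ← Category.assoc, shear_shearInv, Category.id_comp]
  · simp only [asIso_hom]
    rw [← Over.comp_left, ← Over.comp_left, shearInv_whiskerLeft aX aY f hf]
  · simp
  · simp only [Iso.refl_hom, Category.comp_id, asIso_hom]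
    rw [← Over.comp_left]
    congr 1
    rw [← cancel_epi (shear aY), shear_snd, ← Category.assoc, shear_shearInv, Category.id_comp]


theorem S18826_main (k : Type u) [Field k]
    (G X Y : Over (Spec (CommRingCat.of k))) [GrpObj G]
    (aX : AlgGrp.Action G X) (aY : AlgGrp.Action G Y) (f : X ⟶ Y)
    (hf : (G ◁ f) ≫ aY.act = aX.act ≫ f)
    (P : MorphismProperty Scheme.{u}) [IsZariskiLocalAtTarget P] [P.IsStableUnderBaseChange]
    [P.DescendsAlong (@Flat ⊓ @Surjective ⊓ @UniversallyOpen)] :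
    ∃ V : Y.left.Opens, P (f.left ∣_ V) ∧ (∀ V' : Y.left.Opens, P (f.left ∣_ V') → V' ≤ V) ∧
      (CartesianMonoidalCategory.snd G Y).left ⁻¹ᵁ V ≤ aY.act.left ⁻¹ᵁ V := by
  obtain ⟨V, hV, hmax⟩ := exists_largest_open P f.left
  refine ⟨V, hV, hmax, ?_⟩
  have hGo : UniversallyOpen G.hom := inferInstance
  have hαo : UniversallyOpen aY.act.left := act_of_stable aY @UniversallyOpen hGo
  have hαf : Flat aY.act.left := inferInstance
  let U : (G ⊗ Y).left.Opens := (snd G Y).left ⁻¹ᵁ V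
  let V'' : Y.left.Opens := ⟨aY.act.left '' U, aY.act.left.isOpenMap _ U.2⟩
  have hUα : U ≤ aY.act.left ⁻¹ᵁ V'' := fun z hz ↦ ⟨z, hz, rfl⟩
  suffices h : P (f.left ∣_ V'') by
    intro z hz
    exact hmax V'' h ⟨z, hz, rfl⟩
  have E2 := isPullback_whiskerLeft_left G f
  have E1 := isPullback_equivariant aX aY f hf
  have hUY2 : (G ◁ f).left ⁻¹ᵁ U =
      (snd G X).left ⁻¹ᵁ (f.left ⁻¹ᵁ V) ⊓ (G ◁ f).left ⁻¹ᵁ U := by
    have : (snd G X).left ⁻¹ᵁ (f.left ⁻¹ᵁ V) = (G ◁ f).left ⁻¹ᵁ U := by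
      rw [← Scheme.Hom.comp_preimage, E2.w, Scheme.Hom.comp_preimage]
    rw [this, inf_idem]
  have R2 := Scheme.Hom.isPullback_resLE E2 (US := V) (UT := U) (UX := f.left ⁻¹ᵁ V)
    le_rfl le_rfl hUY2
  have hPF := P.of_isPullback R2
    (by rw [Scheme.Hom.resLE_eq_morphismRestrict]; exact hV)
  have hUY1 : (G ◁ f).left ⁻¹ᵁ U =
      aX.act.left ⁻¹ᵁ (f.left ⁻¹ᵁ V'') ⊓ (G ◁ f).left ⁻¹ᵁ U := by
    have : (G ◁ f).left ⁻¹ᵁ U ≤ aX.act.left ⁻¹ᵁ (f.left ⁻¹ᵁ V'') := by
      have e : aX.act.left ⁻¹ᵁ (f.left ⁻¹ᵁ V'') = (G ◁ f).left ⁻¹ᵁ (aY.act.left ⁻¹ᵁ V'') := by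
        rw [← Scheme.Hom.comp_preimage, ← Scheme.Hom.comp_preimage, E1.w]
      rw [e]
      exact (G ◁ f).left.preimage_mono hUα
    exact (inf_eq_right.mpr this).symm
  have R1 := Scheme.Hom.isPullback_resLE E1 (US := V'') (UT := U) (UX := f.left ⁻¹ᵁ V'')
    hUα le_rfl hUY1
  have hQ : (@Flat ⊓ @Surjective ⊓ @UniversallyOpen : MorphismProperty Scheme.{u})
      (aY.act.left.resLE V'' U hUα) := by
    refine ⟨⟨inferInstance, ⟨?_⟩⟩, ?_⟩
    · rintro ⟨y, z, hz, rfl⟩
      exact ⟨⟨z, hz⟩, Subtype.ext (by simp)⟩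
    · apply MorphismProperty.of_postcomp (W := @UniversallyOpen) (W' := MorphismProperty.monomorphisms _)
        (aY.act.left.resLE V'' U hUα) V''.ι (inferInstanceAs (Mono V''.ι))
      rw [Scheme.Hom.resLE_comp_ι]
      infer_instance
  have := MorphismProperty.DescendsAlong.of_isPullback R1.flip hQ hPF
  rwa [Scheme.Hom.resLE_eq_morphismRestrict] at this

end Groth.Agent.H9.EQV
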