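import Mathlib

/-!
# Connected components of a finite étale cover of a connected scheme meet every fibre
-/

set_option autoImplicit false
set_option linter.style.haveILetI false
set_option linter.unusedSectionVars false
set_option linter.unusedVariables false

universe u

namespace Groth.Agent.H9.FEtConn

open AlgebraicGeometry CategoryTheory

section Top

variable {Y : Type*} [TopologicalSpace Y]

lemma step (F : Set Y) (hF : F.Finite)
    (h : ∀ Z : Set Y, IsClopen Z → Z.Nonempty → (Z ∩ F).Nonempty) (c : Y) (n : ℕ)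
    (ih : ∀ Z : Set Y, IsClopen Z → c ∈ Z → (Z ∩ F).ncard ≤ n →
      (connectedComponent c ∩ F).Nonempty)
    (Z : Set Y) (hZ : IsClopen Z) (hc : c ∈ Z) (hn : (Z ∩ F).ncard ≤ n + 1)
    (u v : Set Y) (hu : IsOpen u) (hv : IsOpen v) (hZuv : Z ⊆ u ∪ v) (hdisj : Z ∩ (u ∩ v) = ∅)
    (hnu : ¬ Z ⊆ u) (hcu : c ∈ u) : (connectedComponent c ∩ F).Nonempty := by
  have hZu : Z ∩ u = Z ∩ vᶜ := by
    ext z
    constructor
    · rintro ⟨hz, hzu⟩
      refine ⟨hz, fun hzv => ?_⟩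
      have : z ∈ Z ∩ (u ∩ v) := ⟨hz, hzu, hzv⟩
      rw [hdisj] at this
      exact this
    · rintro ⟨hz, hzv⟩
      rcases hZuv hz with h1 | h1
      · exact ⟨hz, h1⟩
      · exact absurd h1 hzv
  have hZv : Z ∩ v = Z ∩ uᶜ := by
    ext z
    constructor
    · rintro ⟨hz, hzv⟩
      refine ⟨hz, fun hzu => ?_⟩
      have : z ∈ Z ∩ (u ∩ v) := ⟨hz, hzu, hzv⟩
      rw [hdisj] at this
      exact this
    · rintro ⟨hz, hzu⟩
      rcases hZuv hz with h1 | h1
      · exact absurd h1 hzu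
      · exact ⟨hz, h1⟩
  have hclu : IsClopen (Z ∩ u) :=
    ⟨by rw [hZu]; exact hZ.isClosed.inter hv.isClosed_compl, hZ.isOpen.inter hu⟩
  have hclv : IsClopen (Z ∩ v) :=
    ⟨by rw [hZv]; exact hZ.isClosed.inter hu.isClosed_compl, hZ.isOpen.inter hv⟩
  obtain ⟨z, hzZ, hzu⟩ := Set.not_subset.1 hnu
  have hzv : z ∈ v := by
    rcases hZuv hzZ with h1 | h1
    · exact absurd h1 hzu
    · exact h1
  obtain ⟨y, ⟨hyZ, hyv⟩, hyF⟩ := h (Z ∩ v) hclv ⟨z, hzZ, hzv⟩
  have hyu : y ∉ u := by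
    intro hyu
    have : y ∈ Z ∩ (u ∩ v) := ⟨hyZ, hyu, hyv⟩
    rw [hdisj] at this
    exact this
  have hfin : (Z ∩ F).Finite := hF.subset Set.inter_subset_right
  have hss : Z ∩ u ∩ F ⊂ Z ∩ F := by
    refine ⟨fun w hw => ⟨hw.1.1, hw.2⟩, fun hsub => ?_⟩
    exact hyu (hsub ⟨hyZ, hyF⟩).1.2
  have hlt := Set.ncard_lt_ncard hss hfin
  exact ih (Z ∩ u) hclu ⟨hc, hcu⟩ (by omega)

theorem conn_meets (F : Set Y) (hF : F.Finite)
    (h : ∀ Z : Set Y, IsClopen Z → Z.Nonempty → (Z ∩ F).Nonempty) (c : Y) :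
    (connectedComponent c ∩ F).Nonempty := by
  suffices H : ∀ n : ℕ, ∀ Z : Set Y, IsClopen Z → c ∈ Z → (Z ∩ F).ncard ≤ n →
      (connectedComponent c ∩ F).Nonempty from
    H _ Set.univ isClopen_univ (Set.mem_univ c) le_rfl
  intro n
  induction n with
  | zero =>
    intro Z hZ hc hn
    obtain ⟨y, hy⟩ := h Z hZ ⟨c, hc⟩
    have hfin : (Z ∩ F).Finite := hF.subset Set.inter_subset_right
    have h0 : (Z ∩ F).ncard = 0 := Nat.le_zero.1 hn
    rw [Set.ncard_eq_zero hfin] at h0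
    rw [h0] at hy
    exact absurd hy (Set.notMem_empty y)
  | succ n ih =>
    intro Z hZ hc hn
    by_cases hpre : IsPreconnected Z
    · obtain ⟨y, hyZ, hyF⟩ := h Z hZ ⟨c, hc⟩
      exact ⟨y, hpre.subset_connectedComponent hc hyZ, hyF⟩
    · rw [isPreconnected_iff_subset_of_disjoint] at hpre
      push Not at hpre
      obtain ⟨u, v, hu, hv, hZuv, hdisj, hnu, hnv⟩ := hpre
      rcases hZuv hc with hcu | hcv
      · exact step F hF h c n ih Z hZ hc hn u v hu hv hZuv hdisj hnu hcu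
      · refine step F hF h c n ih Z hZ hc hn v u hv hu ?_ ?_ hnv hcv
        · rw [Set.union_comm]
          exact hZuv
        · rw [Set.inter_comm v u]
          exact hdisj

end Top

theorem main {X X' : Scheme.{u}} [ConnectedSpace X] (f : X' ⟶ X)
    [IsFinite f] [Etale f] (x : X) (c : X') :
    ∃ x' : X', f.base x' = x ∧ x' ∈ connectedComponent c := by
  have hF : (f.base ⁻¹' {x}).Finite := f.finite_preimage_singleton x
  have hopen : IsOpenMap f.base := f.isOpenMap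
  have hclosed : IsClosedMap f.base := f.isClosedMap
  have key : ∀ Z : Set X', IsClopen Z → Z.Nonempty → (Z ∩ f.base ⁻¹' {x}).Nonempty := by
    intro Z hZ hne
    have h1 : IsClopen (f.base '' Z) := ⟨hclosed _ hZ.isClosed, hopen _ hZ.isOpen⟩
    have h2 : f.base '' Z = Set.univ :=
      (isClopen_iff.1 h1).resolve_left (hne.image _).ne_empty
    have h3 : x ∈ f.base '' Z := h2 ▸ Set.mem_univ x
    obtain ⟨z, hz, hzx⟩ := h3
    exact ⟨z, hz, hzx⟩
  obtain ⟨y, hy1, hy2⟩ := conn_meets _ hF key c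
  exact ⟨y, hy2, hy1⟩

end Groth.Agent.H9.FEtConn
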