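import Mathlib
import Groth.Prelude.Def_Hyper

/-! Helper9: coverings of semi-representable objects: composition, isos, base change -/

open CategoryTheory CategoryTheory.Limits Opposite

universe u

namespace Groth.Agent.H9.SR1

variable {C : Type u} [SmallCategory C] (J : GrothendieckTopology C)

lemma mem_ofArrows_iff {X : C} {ι : Type*} (Y : ι → C) (f : ∀ i, Y i ⟶ X) {Z : C} (g : Z ⟶ X) :
    (Sieve.ofArrows Y f).arrows g ↔ ∃ (i : ι) (a : Z ⟶ Y i), g = a ≫ f i := by
  constructor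
  · rintro ⟨W, a, b, hb, rfl⟩
    obtain ⟨i⟩ := hb
    exact ⟨i, a, rfl⟩
  · rintro ⟨i, a, rfl⟩
    exact ⟨_, a, f i, ⟨i⟩, rfl⟩

theorem comp_covering {K L M : FormalCoproduct.{u} C} (f : K ⟶ L) (g : L ⟶ M)
    (hf : Hyper.IsSRCovering J f) (hg : Hyper.IsSRCovering J g) : Hyper.IsSRCovering J (f ≫ g) := by
  intro m
  refine J.transitive (hg m) _ ?_
  intro Y a ha
  rw [mem_ofArrows_iff] at ha
  obtain ⟨⟨j, hj⟩, h, rfl⟩ := ha
  rw [Sieve.pullback_comp]
  apply J.pullback_stable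
  refine J.superset_covering ?_ (hf j)
  rw [Sieve.ofArrows, Sieve.generate_le_iff]
  rintro Z b ⟨⟨i, hi⟩⟩
  subst hi
  subst hj
  show (Sieve.ofArrows _ _).arrows _
  rw [mem_ofArrows_iff]
  refine ⟨⟨i, rfl⟩, 𝟙 _, ?_⟩
  simp

end Groth.Agent.H9.SR1

namespace Groth.Agent.H9.SR1

variable {C : Type u} [SmallCategory C] (J : GrothendieckTopology C)

theorem iso_covering {K L : FormalCoproduct.{u} C} (e : K ≅ L) : Hyper.IsSRCovering J e.hom := by
  intro j
  have h := (FormalCoproduct.hom_ext_iff' (e.inv ≫ e.hom) (𝟙 L)).1 e.inv_hom_id j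
  obtain ⟨h1, h2⟩ := h
  have h1' : e.hom.f (e.inv.f j) = j := h1
  have : Sieve.ofArrows (fun i : {i : K.I // e.hom.f i = j} => K.obj i.1)
      (fun i => e.hom.φ i.1 ≫ eqToHom (congrArg L.obj i.2)) = ⊤ := by
    rw [← Sieve.id_mem_iff_eq_top, mem_ofArrows_iff]
    refine ⟨⟨e.inv.f j, h1'⟩, e.inv.φ j, ?_⟩
    have h3 : (e.inv ≫ e.hom).φ j = e.inv.φ j ≫ e.hom.φ (e.inv.f j) := rfl
    rw [h3] at h2
    rw [← Category.assoc]
    exact h2.symm
  rw [this]
  exact J.top_mem _

end Groth.Agent.H9.SR1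

namespace Groth.Agent.H9.SR1

variable {C : Type u} [SmallCategory C] (J : GrothendieckTopology C) [HasPullbacks C]

theorem pbCone_covering {K L L' : FormalCoproduct.{u} C} (f : K ⟶ L) (g : L' ⟶ L)
    (hf : Hyper.IsSRCovering J f) :
    Hyper.IsSRCovering J
      (FormalCoproduct.pullbackCone g f (fun _ => pullback.cone _ _)).fst := by
  intro j'
  refine J.superset_covering ?_ (J.pullback_stable (g.φ j') (hf (g.f j')))
  intro Y a ha
  rw [Sieve.pullback_apply, mem_ofArrows_iff] at ha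
  obtain ⟨⟨i, hi⟩, h, hah⟩ := ha
  rw [mem_ofArrows_iff]
  let p : Function.Pullback g.f f.f := ⟨(j', i), hi.symm⟩
  refine ⟨⟨p, rfl⟩, pullback.lift a h ?_, ?_⟩
  · show a ≫ g.φ j' ≫ eqToHom _ = h ≫ f.φ i
    rw [← Category.assoc, hah]
    simp
  · rw [FormalCoproduct.pullbackCone_fst_φ]
    show a = pullback.lift a h _ ≫ pullback.fst _ _ ≫ 𝟙 _
    exact ((congrArg _ (Category.comp_id _)).trans (pullback.lift_fst _ _ _)).symm

end Groth.Agent.H9.SR1

namespace Groth.Agent.H9.SR1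

variable {C : Type u} [SmallCategory C] (J : GrothendieckTopology C)

theorem main :
    (∀ {K L M : FormalCoproduct.{u} C} (f : K ⟶ L) (g : L ⟶ M),
      Hyper.IsSRCovering J f → Hyper.IsSRCovering J g → Hyper.IsSRCovering J (f ≫ g)) ∧
    (∀ [HasPullbacks C] {K L L' : FormalCoproduct.{u} C} (f : K ⟶ L) (g : L' ⟶ L),
      Hyper.IsSRCovering J f → HasPullback g f ∧
        ∀ [HasPullback g f], Hyper.IsSRCovering J (pullback.fst g f)) := by
  refine ⟨fun f g hf hg => comp_covering J f g hf hg, ?_⟩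
  intro _ K L L' f g hf
  refine ⟨inferInstance, ?_⟩
  intro _
  let pc := FormalCoproduct.pullbackCone g f (fun _ => pullback.cone _ _)
  have hpc : IsLimit pc :=
    FormalCoproduct.isLimitPullbackCone g f _ (fun _ => pullback.isLimit _ _)
  let e : pullback g f ≅ pc.pt := (limit.isLimit _).conePointUniqueUpToIso hpc
  have he : pullback.fst g f = e.hom ≫ pc.fst :=
    ((limit.isLimit _).conePointUniqueUpToIso_hom_comp hpc WalkingCospan.left).symm
  rw [he]
  exact comp_covering J _ _ (iso_covering J e) (pbCone_covering J f g hf)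

end Groth.Agent.H9.SR1
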