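import Mathlib
import Groth.Agent.Lib.Helper9.Misc.LCPoint

/-! Helper9: points with finite closure are very dense in Noetherian schemes. -/

namespace Groth.Agent.H9.FinClos

open AlgebraicGeometry TopologicalSpace

universe u

/-- A quasi-sober Noetherian space all of whose points are closed is finite. -/
lemma finite_of_noetherian_of_closedPoints (F : Type*) [TopologicalSpace F] [NoetherianSpace F]
    [QuasiSober F] (h : ∀ t : F, IsClosed ({t} : Set F)) : Finite F := by
  have hfin : (irreducibleComponents F).Finite := NoetherianSpace.finite_irreducibleComponents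
  have huniv : (Set.univ : Set F) = ⋃₀ irreducibleComponents F := sUnion_irreducibleComponents.symm
  have : (Set.univ : Set F).Finite := by
    rw [huniv]
    refine hfin.sUnion fun C hC => ?_
    have hirr : IsIrreducible C := hC.1
    have hcl : IsClosed C := isClosed_of_mem_irreducibleComponents C hC
    have hgen := hirr.isGenericPoint_genericPoint hcl
    rw [← hgen.def, (h _).closure_eq]
    exact Set.finite_singleton _
  exact Set.finite_univ_iff.1 this

theorem finite_closure {X : Scheme.{u}} [IsNoetherian X] (x : X)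
    (hx : IsLocallyClosed ({x} : Set X)) : (closure ({x} : Set X)).Finite := by
  obtain ⟨O, C, hO, hC, hEq⟩ := hx
  have hxOC : x ∈ O ∩ C := hEq ▸ Set.mem_singleton x
  let F : Set X := closure ({x} : Set X) \ O
  have hFcl : IsClosed F := isClosed_closure.sdiff hO
  have hFx : ∀ t ∈ F, t ≠ x := fun t ht h => ht.2 (h ▸ hxOC.1)
  have hsub : closure ({x} : Set X) ⊆ F ∪ {x} := by
    intro t ht
    by_cases htO : t ∈ O
    · right
      have : t ∈ O ∩ C := ⟨htO, (closure_minimal (Set.singleton_subset_iff.2 hxOC.2) hC) ht⟩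
      rw [← hEq] at this
      exact this
    · left; exact ⟨ht, htO⟩
  have hqs : QuasiSober ↥F := hFcl.isClosedEmbedding_subtypeVal.quasiSober
  have hFfin : Finite ↥F := by
    apply finite_of_noetherian_of_closedPoints
    intro t
    have hcl : IsClosed ({(t : X)} : Set X) :=
      LCPoint.isClosed_of_mem_closure x ⟨O, C, hO, hC, hEq⟩ t t.2.1 (hFx t t.2)
    have := hcl.preimage continuous_subtype_val (X := ↥F)
    rwa [← Set.image_singleton, Subtype.val_injective.preimage_image] at this
  exact ((Set.toFinite F).union (Set.finite_singleton x)).subset hsub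

theorem main {X : Scheme.{u}} [IsNoetherian X] (Z : Set X) (hZ : IsLocallyClosed Z)
    (hne : Z.Nonempty) : ∃ x ∈ Z, (closure ({x} : Set X)).Finite := by
  obtain ⟨O, C, hO, hC, rfl⟩ := hZ
  have hnonempty : Nonempty ↥(O ∩ C) := hne.to_subtype
  obtain ⟨x', -, hx'⟩ := (isClosed_univ (X := ↥(O ∩ C))).exists_closed_singleton Set.univ_nonempty
  obtain ⟨C', hC', hCeq⟩ := isClosed_induced_iff.1 hx'
  refine ⟨x'.1, x'.2, finite_closure x'.1 ⟨O, C ∩ C', hO, hC.inter hC', ?_⟩⟩
  ext t
  constructor
  · intro ht
    rw [Set.mem_singleton_iff] at ht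
    subst ht
    have : x' ∈ Subtype.val ⁻¹' C' := hCeq ▸ Set.mem_singleton x'
    exact ⟨x'.2.1, x'.2.2, this⟩
  · rintro ⟨htO, htC, htC'⟩
    have : (⟨t, htO, htC⟩ : ↥(O ∩ C)) ∈ Subtype.val ⁻¹' C' := htC'
    rw [hCeq] at this
    exact congrArg Subtype.val (Set.mem_singleton_iff.1 this)

end Groth.Agent.H9.FinClos
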