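import Mathlib

set_option linter.style.haveILetI false
set_option linter.unusedSectionVars false
set_option linter.unusedVariables false

namespace Groth.Agent.H9.PIN

open TopologicalSpace

section RingPinch

variable {R A' B A : Type*} [CommRing R] [CommRing A'] [CommRing B] [CommRing A]

/-- `R = B ×_A A'` with `A' → A` surjective. -/
structure RingPinch (α : R →+* A') (β : R →+* B) (p : A' →+* A) (q : B →+* A) : Prop where
  comm : ∀ r, p (α r) = q (β r)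
  inj : ∀ r, α r = 0 → β r = 0 → r = 0
  glue : ∀ a' b, p a' = q b → ∃ r, α r = a' ∧ β r = b
  surj : Function.Surjective p

variable {α : R →+* A'} {β : R →+* B} {p : A' →+* A} {q : B →+* A} (h : RingPinch α β p q)

include h

theorem RingPinch.β_surjective : Function.Surjective β := by
  intro b
  obtain ⟨a', ha'⟩ := h.surj (q b)
  obtain ⟨r, -, hr⟩ := h.glue a' b ha'
  exact ⟨r, hr⟩

theorem RingPinch.exists_ker (x : A') (hx : p x = 0) : ∃ k, α k = x ∧ β k = 0 :=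
  h.glue x 0 (by rw [hx, map_zero])

theorem RingPinch.ext (r s : R) (h1 : α r = α s) (h2 : β r = β s) : r = s := by
  refine sub_eq_zero.mp (h.inj _ ?_ ?_)
  · rw [map_sub, h1, sub_self]
  · rw [map_sub, h2, sub_self]

theorem RingPinch.α_surjective_of (hq : Function.Surjective q) : Function.Surjective α := by
  intro a'
  obtain ⟨b, hb⟩ := hq (p a')
  obtain ⟨r, hr, -⟩ := h.glue a' b hb.symm
  exact ⟨r, hr⟩

theorem RingPinch.mem_range_comap (𝔓 : PrimeSpectrum R) :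
    𝔓 ∈ Set.range (PrimeSpectrum.comap α) ∨ 𝔓 ∈ Set.range (PrimeSpectrum.comap β) := by
  by_cases hK : RingHom.ker β ≤ 𝔓.asIdeal
  · right
    rw [range_comap_of_surjective _ _ h.β_surjective]
    exact hK
  · left
    obtain ⟨k, hk, hk𝔓⟩ := SetLike.not_le_iff_exists.mp hK
    rw [RingHom.mem_ker] at hk
    rw [PrimeSpectrum.mem_range_comap_iff]
    refine le_antisymm ?_ Ideal.le_comap_map
    intro r hr
    rw [Ideal.mem_comap] at hr
    have key : ∀ y ∈ Ideal.map α 𝔓.asIdeal, ∃ (n : ℕ) (π : R), π ∈ 𝔓.asIdeal ∧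
        α π = α k ^ (n + 1) * y ∧ β π = 0 := by
      intro y hy
      refine Submodule.span_induction ?_ ?_ ?_ ?_ hy
      · rintro _ ⟨π₀, hπ₀, rfl⟩
        exact ⟨0, k * π₀, Ideal.mul_mem_left _ _ hπ₀, by rw [map_mul, zero_add, pow_one],
          by rw [map_mul, hk, zero_mul]⟩
      · exact ⟨0, 0, Ideal.zero_mem _, by simp, by simp⟩
      · rintro y₁ y₂ - - ⟨n₁, π₁, hπ₁, h1a, h1b⟩ ⟨n₂, π₂, hπ₂, h2a, h2b⟩
        refine ⟨n₁ + n₂ + 1, k ^ (n₂ + 1) * π₁ + k ^ (n₁ + 1) * π₂,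
          Ideal.add_mem _ (Ideal.mul_mem_left _ _ hπ₁) (Ideal.mul_mem_left _ _ hπ₂), ?_, ?_⟩
        · rw [map_add, map_mul, map_mul, map_pow, map_pow, h1a, h2a]; ring
        · rw [map_add, map_mul, map_mul, h1b, h2b, mul_zero, mul_zero, add_zero]
      · rintro c y - ⟨n, π, hπ, ha, hb⟩
        obtain ⟨κ, hκa, hκb⟩ := h.exists_ker (α k * c) (by
          rw [map_mul, h.comm, hk, map_zero, zero_mul])
        refine ⟨n + 1, κ * π, Ideal.mul_mem_left _ _ hπ, ?_, ?_⟩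
        · rw [map_mul, hκa, ha, smul_eq_mul]; ring
        · rw [map_mul, hκb, zero_mul]
    obtain ⟨n, π, hπ, ha, hb⟩ := key _ hr
    have : π = k ^ (n + 1) * r := by
      refine h.ext _ _ ?_ ?_
      · rw [ha, map_mul, map_pow]
      · rw [hb, map_mul, map_pow, hk, zero_pow (Nat.succ_ne_zero n), zero_mul]
    rw [this] at hπ
    rcases 𝔓.2.mem_or_mem hπ with h1 | h1
    · exact absurd (𝔓.2.mem_of_pow_mem _ h1) hk𝔓
    · exact h1

end RingPinch

section RingPinch2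

variable {R A' B A : Type*} [CommRing R] [CommRing A'] [CommRing B] [CommRing A]
variable {α : R →+* A'} {β : R →+* B} {p : A' →+* A} {q : B →+* A} (h : RingPinch α β p q)

include h

theorem RingPinch.exists_open (U : Opens (PrimeSpectrum A')) (V : Opens (PrimeSpectrum B))
    (hUV : PrimeSpectrum.comap p ⁻¹' (U : Set (PrimeSpectrum A')) =
      PrimeSpectrum.comap q ⁻¹' (V : Set (PrimeSpectrum B))) :
    ∃ W : Opens (PrimeSpectrum R),
      PrimeSpectrum.comap α ⁻¹' (W : Set (PrimeSpectrum R)) = (U : Set (PrimeSpectrum A')) ∧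
      PrimeSpectrum.comap β ⁻¹' (W : Set (PrimeSpectrum R)) = (V : Set (PrimeSpectrum B)) := by
  classical
  set J' := PrimeSpectrum.vanishingIdeal ((U : Set (PrimeSpectrum A'))ᶜ) with hJ'
  have hzl : PrimeSpectrum.zeroLocus (J' : Set A') = (U : Set (PrimeSpectrum A'))ᶜ := by
    rw [hJ', PrimeSpectrum.zeroLocus_vanishingIdeal_eq_closure]
    exact (U.2.isClosed_compl).closure_eq
  have hmemU : ∀ 𝔮 : PrimeSpectrum A', 𝔮 ∈ U ↔ ∃ y ∈ J', y ∉ 𝔮.asIdeal := by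
    intro 𝔮
    have : 𝔮 ∈ U ↔ 𝔮 ∉ PrimeSpectrum.zeroLocus (J' : Set A') := by
      rw [hzl]; simp
    rw [this, PrimeSpectrum.mem_zeroLocus, Set.not_subset]
    rfl
  -- claim (i)
  have claim1 : ∀ 𝔭 : PrimeSpectrum B, 𝔭 ∈ V → ∃ r : R,
      PrimeSpectrum.basicOpen (α r) ≤ U ∧ PrimeSpectrum.basicOpen (β r) ≤ V ∧
        β r ∉ 𝔭.asIdeal := by
    intro 𝔭 h𝔭
    obtain ⟨_, ⟨b₀, rfl⟩, h𝔭b₀, hb₀V⟩ :=
      PrimeSpectrum.isTopologicalBasis_basic_opens.exists_subset_of_mem_open h𝔭 V.2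
    have hrad : q b₀ ∈ (Ideal.map p J').radical := by
      rw [← Ideal.span_singleton_le_iff_mem, ← PrimeSpectrum.zeroLocus_subset_zeroLocus_iff,
        PrimeSpectrum.zeroLocus_span]
      intro 𝔯 h𝔯
      rw [PrimeSpectrum.mem_zeroLocus, Set.singleton_subset_iff]
      rw [PrimeSpectrum.mem_zeroLocus, SetLike.coe_subset_coe, Ideal.map_le_iff_le_comap] at h𝔯
      by_contra hcon
      have h1 : PrimeSpectrum.comap q 𝔯 ∈ (V : Set (PrimeSpectrum B)) := by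
        apply hb₀V
        exact hcon
      have h2 : 𝔯 ∈ PrimeSpectrum.comap p ⁻¹' (U : Set (PrimeSpectrum A')) := by
        rw [hUV]; exact h1
      have h3 : PrimeSpectrum.comap p 𝔯 ∈ U := h2
      rw [hmemU] at h3
      obtain ⟨y, hy, hy'⟩ := h3
      exact hy' (h𝔯 hy)
    obtain ⟨n, hn⟩ := hrad
    have hn1 : q b₀ ^ (n + 1) ∈ Ideal.map p J' := by
      rw [pow_succ]; exact Ideal.mul_mem_right _ _ hn
    rw [Ideal.mem_map_iff_of_surjective p h.surj] at hn1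
    obtain ⟨y, hy, hpy⟩ := hn1
    obtain ⟨r, hra, hrb⟩ := h.glue y (b₀ ^ (n + 1)) (by rw [hpy, map_pow])
    refine ⟨r, ?_, ?_, ?_⟩
    · intro 𝔮 h𝔮
      rw [hra] at h𝔮
      exact (hmemU 𝔮).mpr ⟨y, hy, h𝔮⟩
    · intro 𝔭' h𝔭'
      rw [hrb] at h𝔭'
      apply hb₀V
      intro hcon
      exact h𝔭' (Ideal.pow_mem_of_mem _ hcon _ (Nat.succ_pos n))
    · rw [hrb]
      intro hcon
      exact h𝔭b₀ (𝔭.2.mem_of_pow_mem _ hcon)
  -- claim (ii)
  have claim2 : ∀ 𝔮 : PrimeSpectrum A', 𝔮 ∈ U → ∃ r : R,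
      PrimeSpectrum.basicOpen (α r) ≤ U ∧ PrimeSpectrum.basicOpen (β r) ≤ V ∧
        α r ∉ 𝔮.asIdeal := by
    intro 𝔮 h𝔮
    by_cases hI : RingHom.ker p ≤ 𝔮.asIdeal
    · have : 𝔮 ∈ Set.range (PrimeSpectrum.comap p) := by
        rw [range_comap_of_surjective _ _ h.surj]
        exact hI
      obtain ⟨𝔯, rfl⟩ := this
      have h1 : 𝔯 ∈ PrimeSpectrum.comap q ⁻¹' (V : Set (PrimeSpectrum B)) := by
        rw [← hUV]; exact h𝔮
      obtain ⟨r, hr1, hr2, hr3⟩ := claim1 _ h1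
      refine ⟨r, hr1, hr2, ?_⟩
      intro hcon
      apply hr3
      change q (β r) ∈ 𝔯.asIdeal
      rw [← h.comm]
      exact hcon
    · obtain ⟨x, hx, hx𝔮⟩ := SetLike.not_le_iff_exists.mp hI
      rw [RingHom.mem_ker] at hx
      obtain ⟨y, hy, hy𝔮⟩ := (hmemU 𝔮).mp h𝔮
      obtain ⟨κ, hκa, hκb⟩ := h.exists_ker (x * y) (by rw [map_mul, hx, zero_mul])
      refine ⟨κ, ?_, ?_, ?_⟩
      · intro 𝔮' h𝔮'
        rw [hκa] at h𝔮'
        refine (hmemU 𝔮').mpr ⟨y, hy, fun hcon => h𝔮' (Ideal.mul_mem_left _ _ hcon)⟩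
      · intro 𝔭' h𝔭'
        rw [hκb] at h𝔭'
        exact absurd (Ideal.zero_mem _) h𝔭'
      · rw [hκa]
        intro hcon
        rcases 𝔮.2.mem_or_mem hcon with h1 | h1
        · exact hx𝔮 h1
        · exact hy𝔮 h1
  let ι := {r : R // PrimeSpectrum.basicOpen (α r) ≤ U ∧ PrimeSpectrum.basicOpen (β r) ≤ V}
  refine ⟨⨆ r : ι, PrimeSpectrum.basicOpen r.1, ?_, ?_⟩
  · ext 𝔮
    simp only [Set.mem_preimage, SetLike.mem_coe, Opens.mem_iSup]
    constructor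
    · rintro ⟨r, hr⟩
      exact r.2.1 hr
    · intro h𝔮
      obtain ⟨r, hr1, hr2, hr3⟩ := claim2 𝔮 h𝔮
      exact ⟨⟨r, hr1, hr2⟩, hr3⟩
  · ext 𝔭
    simp only [Set.mem_preimage, SetLike.mem_coe, Opens.mem_iSup]
    constructor
    · rintro ⟨r, hr⟩
      exact r.2.2 hr
    · intro h𝔭
      obtain ⟨r, hr1, hr2, hr3⟩ := claim1 𝔭 h𝔭
      exact ⟨⟨r, hr1, hr2⟩, hr3⟩

end RingPinch2

end Groth.Agent.H9.PIN
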