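import Mathlib
import Groth.Agent.Lib.Helper9.Misc.PIN27

set_option autoImplicit false
set_option linter.style.haveILetI false
set_option linter.unusedSectionVars false
set_option linter.unusedVariables false

namespace Groth.Agent.H9.FPA

open AlgebraicGeometry CategoryTheory Limits TopologicalSpace Opposite

universe u

section Ring

variable {R : Type*} [CommRing R]

/-- coset prime avoidance, when no prime contains `I`. -/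
theorem coset_avoid' (I : Ideal R) : ∀ (n : ℕ) (F : Finset (Ideal R)), F.card = n →
    (∀ 𝔭 ∈ F, 𝔭.IsPrime ∧ ¬ I ≤ 𝔭) → ∀ a₀ : R, ∃ y ∈ I, ∀ 𝔭 ∈ F, a₀ + y ∉ 𝔭 := by
  intro n
  induction n with
  | zero =>
    intro F hF _ a₀
    rw [Finset.card_eq_zero] at hF
    subst hF
    exact ⟨0, I.zero_mem, fun 𝔭 h𝔭 => absurd h𝔭 (Finset.notMem_empty _)⟩
  | succ n ih =>
    intro F hF hP a₀
    have hne : F.Nonempty := by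
      rw [← Finset.card_pos, hF]; exact Nat.succ_pos _
    obtain ⟨𝔮, h𝔮F, h𝔮min⟩ := F.exists_minimal hne
    have hcard : (F.erase 𝔮).card = n := by
      rw [Finset.card_erase_of_mem h𝔮F, hF]; rfl
    obtain ⟨y₀, hy₀I, hy₀⟩ := ih (F.erase 𝔮) hcard
      (fun 𝔭 h𝔭 => hP 𝔭 (Finset.mem_of_mem_erase h𝔭)) a₀
    haveI : 𝔮.IsPrime := (hP 𝔮 h𝔮F).1
    by_cases hq : a₀ + y₀ ∈ 𝔮
    · -- find z
      have hnot : ¬ (I ⊓ (F.erase 𝔮).inf id ≤ 𝔮) := by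
        intro hle
        rcases (Ideal.IsPrime.inf_le ‹𝔮.IsPrime›).mp hle with h1 | h2
        · exact (hP 𝔮 h𝔮F).2 h1
        · obtain ⟨𝔭, h𝔭, h𝔭le⟩ := (Ideal.IsPrime.inf_le' ‹𝔮.IsPrime›).mp h2
          have h𝔭F := Finset.mem_of_mem_erase h𝔭
          have hne' : 𝔭 ≠ 𝔮 := Finset.ne_of_mem_erase h𝔭
          exact hne' (le_antisymm h𝔭le (h𝔮min h𝔭F h𝔭le))
      obtain ⟨z, hz, hzq⟩ := SetLike.not_le_iff_exists.mp hnot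
      have hzI : z ∈ I := hz.1
      have hzF : ∀ 𝔭 ∈ F.erase 𝔮, z ∈ 𝔭 := fun 𝔭 h𝔭 =>
        (Finset.inf_le (f := id) h𝔭 : (F.erase 𝔮).inf id ≤ 𝔭) hz.2
      refine ⟨y₀ + z, I.add_mem hy₀I hzI, fun 𝔭 h𝔭 => ?_⟩
      by_cases h𝔭q : 𝔭 = 𝔮
      · subst h𝔭q
        intro hmem
        apply hzq
        have : z = (a₀ + (y₀ + z)) - (a₀ + y₀) := by ring
        rw [this]
        exact 𝔭.sub_mem hmem hq
      · have h𝔭' : 𝔭 ∈ F.erase 𝔮 := Finset.mem_erase.mpr ⟨h𝔭q, h𝔭⟩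
        intro hmem
        apply hy₀ 𝔭 h𝔭'
        have : a₀ + y₀ = (a₀ + (y₀ + z)) - z := by ring
        rw [this]
        exact 𝔭.sub_mem hmem (hzF 𝔭 h𝔭')
    · refine ⟨y₀, hy₀I, fun 𝔭 h𝔭 => ?_⟩
      by_cases h𝔭q : 𝔭 = 𝔮
      · subst h𝔭q; exact hq
      · exact hy₀ 𝔭 (Finset.mem_erase.mpr ⟨h𝔭q, h𝔭⟩)

/-- coset prime avoidance. -/
theorem coset_avoid (I : Ideal R) (F : Set (Ideal R)) (hfin : F.Finite)
    (hF : ∀ 𝔭 ∈ F, 𝔭.IsPrime) (a₀ : R) (h : ∀ 𝔭 ∈ F, I ≤ 𝔭 → a₀ ∉ 𝔭) :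
    ∃ y ∈ I, ∀ 𝔭 ∈ F, a₀ + y ∉ 𝔭 := by
  classical
  let F' : Finset (Ideal R) := hfin.toFinset.filter (fun 𝔭 => ¬ I ≤ 𝔭)
  obtain ⟨y, hyI, hy⟩ := coset_avoid' I F'.card F' rfl (fun 𝔭 h𝔭 => by
    rw [Finset.mem_filter, Set.Finite.mem_toFinset] at h𝔭
    exact ⟨hF 𝔭 h𝔭.1, h𝔭.2⟩) a₀
  refine ⟨y, hyI, fun 𝔭 h𝔭 => ?_⟩
  by_cases hI : I ≤ 𝔭
  · intro hmem
    apply h 𝔭 h𝔭 hI
    have : a₀ = (a₀ + y) - y := by ring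
    rw [this]
    exact 𝔭.sub_mem hmem (hI hyI)
  · exact hy 𝔭 (by
      rw [Finset.mem_filter, Set.Finite.mem_toFinset]
      exact ⟨h𝔭, hI⟩)

end Ring

section Sch

variable {X Y : Scheme.{u}}

theorem mem_basicOpen_iff {U : X.Opens} (hU : IsAffineOpen U) (f : Γ(X, U)) (x : X) (hx : x ∈ U) :
    x ∈ X.basicOpen f ↔ f ∉ (hU.primeIdealOf ⟨x, hx⟩).asIdeal := by
  have h1 := hU.fromSpec_primeIdealOf ⟨x, hx⟩
  have h2 := hU.fromSpec_preimage_basicOpen f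
  have h3 : hU.primeIdealOf ⟨x, hx⟩ ∈ hU.fromSpec ⁻¹ᵁ X.basicOpen f ↔ x ∈ X.basicOpen f := by
    change hU.fromSpec (hU.primeIdealOf ⟨x, hx⟩) ∈ X.basicOpen f ↔ _
    rw [h1]
  rw [← h3, h2]
  rfl

theorem exists_basicOpen_finite {U : X.Opens} (hU : IsAffineOpen U) (O : X.Opens) (F : Set X)
    (hF : F.Finite) (hFO : F ⊆ O) (hFU : F ⊆ U) :
    ∃ f : Γ(X, U), F ⊆ X.basicOpen f ∧ X.basicOpen f ≤ O := by
  have hcl : IsClosed ((hU.fromSpec ⁻¹ᵁ O : (Spec Γ(X, U)).Opens) : Set (Spec Γ(X, U)))ᶜ :=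
    (hU.fromSpec ⁻¹ᵁ O).isOpen.isClosed_compl
  obtain ⟨J, hJ⟩ := (PrimeSpectrum.isClosed_iff_zeroLocus_ideal _).mp hcl
  let P : Set (Ideal Γ(X, U)) := {𝔭 | ∃ (x : X) (hx : x ∈ F), 𝔭 = (hU.primeIdealOf ⟨x, hFU hx⟩).asIdeal}
  have hPfin : P.Finite := by
    have hsub : P ⊆ (fun x : F => (hU.primeIdealOf ⟨x.1, hFU x.2⟩).asIdeal) '' Set.univ := by
      rintro 𝔭 ⟨x, hx, rfl⟩
      exact ⟨⟨x, hx⟩, trivial, rfl⟩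
    haveI := hF.to_subtype
    exact (Set.finite_univ.image _).subset hsub
  have hnot : ∀ (x : X) (hx : x ∈ F), ¬ J ≤ (hU.primeIdealOf ⟨x, hFU hx⟩).asIdeal := by
    intro x hx hle
    have hmem : hU.primeIdealOf ⟨x, hFU hx⟩ ∈ PrimeSpectrum.zeroLocus (J : Set Γ(X, U)) := hle
    rw [← hJ] at hmem
    apply hmem
    change hU.fromSpec (hU.primeIdealOf ⟨x, hFU hx⟩) ∈ O
    rw [hU.fromSpec_primeIdealOf]
    exact hFO hx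
  obtain ⟨f, hfJ, hf⟩ := coset_avoid J P hPfin (by
    rintro 𝔭 ⟨x, hx, rfl⟩; exact (hU.primeIdealOf _).isPrime) 0 (by
    rintro 𝔭 ⟨x, hx, rfl⟩ hle
    exact absurd hle (hnot x hx))
  rw [zero_add] at hf
  refine ⟨f, fun x hx => ?_, fun z hz => ?_⟩
  · rw [SetLike.mem_coe, mem_basicOpen_iff hU f x (hFU hx)]
    exact hf _ ⟨x, hx, rfl⟩
  · have hzU : z ∈ U := X.basicOpen_le f hz
    rw [mem_basicOpen_iff hU f z hzU] at hz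
    have h1 : hU.primeIdealOf ⟨z, hzU⟩ ∉ PrimeSpectrum.zeroLocus (J : Set Γ(X, U)) := by
      intro hle
      exact hz (hle hfJ)
    rw [← hJ] at h1
    have h2 : hU.primeIdealOf ⟨z, hzU⟩ ∈ hU.fromSpec ⁻¹ᵁ O := by
      by_contra h; exact h1 h
    have h3 : hU.fromSpec (hU.primeIdealOf ⟨z, hzU⟩) ∈ O := h2
    rwa [hU.fromSpec_primeIdealOf] at h3

theorem mem_range_of_ker_le (θ : Y ⟶ X) [IsClosedImmersion θ] {U : X.Opens} (hU : IsAffineOpen U)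
    (x : X) (hx : x ∈ U)
    (hle : RingHom.ker (θ.app U).hom ≤ (hU.primeIdealOf ⟨x, hx⟩).asIdeal) : x ∈ Set.range θ := by
  by_contra hxr
  let O : X.Opens := ⟨(Set.range θ)ᶜ, θ.isClosedEmbedding.isClosed_range.isOpen_compl⟩
  obtain ⟨f, hxf, hfO⟩ := exists_basicOpen_finite hU O {x} (Set.finite_singleton x)
    (by rintro _ rfl; exact hxr) (by rintro _ rfl; exact hx)
  have hbot : θ ⁻¹ᵁ X.basicOpen f = ⊥ := by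
    ext y
    simp only [Opens.coe_bot, Set.mem_empty_iff_false, iff_false]
    intro hy
    exact hfO hy ⟨y, rfl⟩
  rw [Scheme.preimage_basicOpen] at hbot
  have hN : IsAffineOpen (θ ⁻¹ᵁ U) := hU.preimage θ
  have h2 := hN.fromSpec_preimage_basicOpen (θ.app U f)
  rw [hbot] at h2
  have h3 : PrimeSpectrum.basicOpen ((θ.app U).hom f) = ⊥ := by
    rw [← h2]; rfl
  rw [PrimeSpectrum.basicOpen_eq_bot_iff] at h3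
  obtain ⟨n, hn⟩ := h3
  have hmem : f ^ n ∈ RingHom.ker (θ.app U).hom := by
    rw [RingHom.mem_ker, map_pow]; exact hn
  have hfp : f ∈ (hU.primeIdealOf ⟨x, hx⟩).asIdeal :=
    (hU.primeIdealOf ⟨x, hx⟩).isPrime.mem_of_pow_mem n (hle hmem)
  exact (mem_basicOpen_iff hU f x hx).mp (hxf rfl) hfp

theorem exists_lift_avoid (θ : Y ⟶ X) [IsClosedImmersion θ] {U : X.Opens} (hU : IsAffineOpen U)
    (E : Set X) (hE : E.Finite) (hEU : E ⊆ U) (c : Γ(Y, θ ⁻¹ᵁ U))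
    (hc : ∀ y : Y, θ y ∈ E → y ∈ Y.basicOpen c) :
    ∃ a : Γ(X, U), θ.app U a = c ∧ E ⊆ X.basicOpen a := by
  obtain ⟨a₀, ha₀⟩ := θ.app_surjective U hU c
  let P : Set (Ideal Γ(X, U)) :=
    {𝔭 | ∃ (x : X) (hx : x ∈ E), 𝔭 = (hU.primeIdealOf ⟨x, hEU hx⟩).asIdeal}
  have hPfin : P.Finite := by
    have hsub : P ⊆ (fun x : E => (hU.primeIdealOf ⟨x.1, hEU x.2⟩).asIdeal) '' Set.univ := by
      rintro 𝔭 ⟨x, hx, rfl⟩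
      exact ⟨⟨x, hx⟩, trivial, rfl⟩
    haveI := hE.to_subtype
    exact (Set.finite_univ.image _).subset hsub
  obtain ⟨y, hyI, hy⟩ := coset_avoid (RingHom.ker (θ.app U).hom) P hPfin (by
    rintro 𝔭 ⟨x, hx, rfl⟩; exact (hU.primeIdealOf _).isPrime) a₀ (by
    rintro 𝔭 ⟨x, hx, rfl⟩ hle
    obtain ⟨z, rfl⟩ := mem_range_of_ker_le θ hU x (hEU hx) hle
    have hz := hc z hx
    rw [← ha₀, ← Scheme.preimage_basicOpen] at hz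
    exact (mem_basicOpen_iff hU a₀ (θ z) (hEU hx)).mp hz)
  refine ⟨a₀ + y, ?_, fun x hx => ?_⟩
  · rw [map_add, ha₀]
    have : (θ.app U).hom y = 0 := hyI
    change c + (θ.app U).hom y = c
    rw [this, add_zero]
  · rw [SetLike.mem_coe, mem_basicOpen_iff hU _ x (hEU hx)]
    exact hy _ ⟨x, hx, rfl⟩

end Sch

section CP

variable {Y X₁ X₂ : Scheme.{u}}

theorem exists_cpair_finite (θ₁ : Y ⟶ X₁) (θ₂ : Y ⟶ X₂) [IsClosedImmersion θ₁]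
    [IsClosedImmersion θ₂] (E₁ : Set X₁) (E₂ : Set X₂) (hE₁ : E₁.Finite) (hE₂ : E₂.Finite)
    (hcomp : ∀ y : Y, θ₁ y ∈ E₁ ↔ θ₂ y ∈ E₂)
    {U₁ : X₁.Opens} (hU₁ : IsAffineOpen U₁) (h₁ : E₁ ⊆ U₁)
    {U₂ : X₂.Opens} (hU₂ : IsAffineOpen U₂) (h₂ : E₂ ⊆ U₂) :
    ∃ k : PIN.CPair θ₁ θ₂, E₁ ⊆ k.U ∧ E₂ ⊆ k.V := by
  let EY : Set Y := θ₁ ⁻¹' E₁
  have hEY : EY.Finite := hE₁.preimage θ₁.isClosedEmbedding.injective.injOn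
  have hN₁ : IsAffineOpen (θ₁ ⁻¹ᵁ U₁) := hU₁.preimage θ₁
  have hN₂ : IsAffineOpen (θ₂ ⁻¹ᵁ U₂) := hU₂.preimage θ₂
  have hEY₁ : EY ⊆ θ₁ ⁻¹ᵁ U₁ := fun y hy => h₁ hy
  have hEY₂ : EY ⊆ θ₂ ⁻¹ᵁ U₂ := fun y hy => h₂ ((hcomp y).mp hy)
  obtain ⟨c₁, hc₁F, hc₁O⟩ := exists_basicOpen_finite hN₁ (θ₂ ⁻¹ᵁ U₂) EY hEY hEY₂ hEY₁
  obtain ⟨c₂, hc₂F, hc₂O⟩ := exists_basicOpen_finite hN₂ (Y.basicOpen c₁) EY hEY hc₁F hEY₂
  let g : Γ(Y, Y.basicOpen c₁) := Y.presheaf.map (homOfLE hc₁O).op c₂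
  have hg : Y.basicOpen g = Y.basicOpen c₂ := by
    rw [Scheme.basicOpen_res]
    exact inf_eq_right.mpr hc₂O
  obtain ⟨c₁', hc₁'⟩ := hN₁.basicOpen_basicOpen_is_basicOpen c₁ g
  rw [hg] at hc₁'
  obtain ⟨a₁, ha₁, ha₁E⟩ := exists_lift_avoid θ₁ hU₁ E₁ hE₁ h₁ c₁' (fun y hy => by
    rw [hc₁']; exact hc₂F hy)
  obtain ⟨a₂, ha₂, ha₂E⟩ := exists_lift_avoid θ₂ hU₂ E₂ hE₂ h₂ c₂ (fun y hy =>
    hc₂F ((hcomp y).mpr hy))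
  refine ⟨⟨X₁.basicOpen a₁, X₂.basicOpen a₂, hU₁.basicOpen a₁, hU₂.basicOpen a₂, ?_⟩,
    ha₁E, ha₂E⟩
  rw [Scheme.preimage_basicOpen, Scheme.preimage_basicOpen, ha₁, ha₂, hc₁']

end CP

section Main

variable {X Y Z P : Scheme.{u}} {i : Z ⟶ X} {j : Z ⟶ Y} {a : X ⟶ P} {b : Y ⟶ P}

/-- variant of `isPinch_of_isPushout` remembering the preimages of the charts. -/
theorem isPinch_of_isPushout' [IsClosedImmersion i]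
    (hcovY : ∀ y : Y, ∃ k : PIN.CPair i j, y ∈ k.V) (hP : IsPushout i j a b) :
    PIN.IsPinch i j a b ∧ ∃ W : PIN.CPair i j → P.Opens, (∀ k, IsAffineOpen (W k) ∧
      a ⁻¹ᵁ (W k) = k.U ∧ b ⁻¹ᵁ (W k) = k.V) ∧ ∀ p : P, ∃ k, p ∈ W k := by
  obtain ⟨P₀, a₀, b₀, hp₀, W, hW, hcov⟩ := PIN.exists_isPinch hcovY
  let e : P₀ ≅ P := hp₀.isPushout.isoIsPushout _ _ hP
  have hea : a₀ ≫ e.hom = a := IsPushout.inl_isoIsPushout_hom _ _ _ _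
  have heb : b₀ ≫ e.hom = b := IsPushout.inr_isoIsPushout_hom _ _ _ _
  have hp := hp₀.of_iso e
  rw [hea, heb] at hp
  have hea' : a ≫ e.inv = a₀ := by rw [← hea, Category.assoc, e.hom_inv_id, Category.comp_id]
  have heb' : b ≫ e.inv = b₀ := by rw [← heb, Category.assoc, e.hom_inv_id, Category.comp_id]
  refine ⟨hp, fun k => e.inv ⁻¹ᵁ W k, fun k => ⟨?_, ?_, ?_⟩, fun p => ?_⟩
  · exact (hW k).1.preimage_of_isIso e.inv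
  · rw [← Scheme.Hom.comp_preimage, hea', (hW k).2.1]
  · rw [← Scheme.Hom.comp_preimage, heb', (hW k).2.2]
  · obtain ⟨k, hk⟩ := hcov (e.inv p)
    exact ⟨k, hk⟩

theorem S16031_main {Y X₁ X₂ X : Scheme.{u}} (θ₁ : Y ⟶ X₁) (θ₂ : Y ⟶ X₂)
    [IsClosedImmersion θ₁] [IsClosedImmersion θ₂]
    (φ₁ : X₁ ⟶ X) (φ₂ : X₂ ⟶ X) (hX : IsPushout θ₁ θ₂ φ₁ φ₂)
    (E : Set ↥X) (hE : E.Finite)
    (h₁ : ∃ U₁ : X₁.Opens, IsAffineOpen U₁ ∧ φ₁ ⁻¹' E ⊆ (U₁ : Set ↥X₁))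
    (h₂ : ∃ U₂ : X₂.Opens, IsAffineOpen U₂ ∧ φ₂ ⁻¹' E ⊆ (U₂ : Set ↥X₂)) :
    ∃ U : X.Opens, IsAffineOpen U ∧ E ⊆ (U : Set ↥X) := by
  obtain ⟨U₁, hU₁, hEU₁⟩ := h₁
  obtain ⟨U₂, hU₂, hEU₂⟩ := h₂
  have hcovY := PIN.exists_cpair_of_closedImmersions θ₁ θ₂
  obtain ⟨hp, W, hW, hcov⟩ := isPinch_of_isPushout' hcovY hX
  haveI hφ₂ : IsClosedImmersion φ₂ := hp.isClosedImmersion_b W hcov
    (fun k => ⟨(hW k).1, by rw [(hW k).2.1]; exact k.hU, by rw [(hW k).2.2]; exact k.hV⟩)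
  haveI hφ₁ : IsClosedImmersion φ₁ := hp.isClosedImmersion_a W hcov
    (fun k => ⟨(hW k).1, by rw [(hW k).2.1]; exact k.hU, by rw [(hW k).2.2]; exact k.hV⟩)
  have hE₁ : (φ₁ ⁻¹' E).Finite := hE.preimage φ₁.isClosedEmbedding.injective.injOn
  have hE₂ : (φ₂ ⁻¹' E).Finite := hE.preimage φ₂.isClosedEmbedding.injective.injOn
  have hcomp : ∀ y : Y, θ₁ y ∈ φ₁ ⁻¹' E ↔ θ₂ y ∈ φ₂ ⁻¹' E := by
    intro y
    change φ₁ (θ₁ y) ∈ E ↔ φ₂ (θ₂ y) ∈ E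
    rw [← Scheme.Hom.comp_apply, ← Scheme.Hom.comp_apply, hp.w]
  obtain ⟨k, hk₁, hk₂⟩ := exists_cpair_finite θ₁ θ₂ _ _ hE₁ hE₂ hcomp hU₁ hEU₁ hU₂ hEU₂
  refine ⟨W k, (hW k).1, fun e he => ?_⟩
  rcases hp.surj e with ⟨x, rfl⟩ | ⟨y, rfl⟩
  · have : x ∈ φ₁ ⁻¹ᵁ W k := by rw [(hW k).2.1]; exact hk₁ he
    exact this
  · have : y ∈ φ₂ ⁻¹ᵁ W k := by rw [(hW k).2.2]; exact hk₂ he
    exact this

end Main

end Groth.Agent.H9.FPA
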