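import Groth.Agent.Lib.Helper9.Misc.PIN29
import Groth.Agent.Lib.Helper9.Misc.FPA1
import Groth.Agent.Lib.Helper9.Misc.SHP3
set_option autoImplicit false
set_option linter.style.haveILetI false
set_option linter.unusedSectionVars false
set_option linter.unusedVariables false

namespace Groth.Agent.H9.PIN

open AlgebraicGeometry CategoryTheory Limits TopologicalSpace

universe u

section Transport

variable {Y T Z : Scheme.{u}} {ξ : Z ⟶ T}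

theorem cokerFlat_congr {k k' : Z ⟶ Y} (hk : k = k') {U : Y.Opens} {M M' : T.Opens}
    {N N' : Z.Opens} (hM : M = M') (hN : N = N') (eN : N ≤ k ⁻¹ᵁ U) (eN' : N' ≤ k' ⁻¹ᵁ U)
    (e : N ≤ ξ ⁻¹ᵁ M) (e' : N' ≤ ξ ⁻¹ᵁ M') :
    CokerFlat (k.appLE U N eN) (ξ.appLE M N e) → CokerFlat (k'.appLE U N' eN') (ξ.appLE M' N' e') := by
  subst hk hM hN
  exact id

theorem cokerFlat_of_eq_bot {O : CommRingCat.{u}} {M : T.Opens} {N : Z.Opens} (hM : M = ⊥)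
    (hN : N = ⊥) (σA : O ⟶ Γ(Z, N)) (q : Γ(T, M) ⟶ Γ(Z, N)) : CokerFlat σA q := by
  subst hM hN
  letI := σA.hom.toAlgebra
  refine ⟨fun x y _ => Subsingleton.elim x y, ?_⟩
  haveI : Subsingleton (Γ(Z, ⊥) ⧸ Submodule.span O (Set.range q.hom)) :=
    Function.Surjective.subsingleton (Submodule.mkQ_surjective _)
  haveI := Module.Free.of_subsingleton O (Γ(Z, ⊥) ⧸ Submodule.span O (Set.range q.hom))
  infer_instance

end Transport

section Main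

variable {X Y T Z P : Scheme.{u}}

theorem S15954_core (f : X ⟶ Y) (t : T ⟶ Y) (ξ : Z ⟶ T) (ι : Z ⟶ X)
    [IsAffineHom t] [IsClosedImmersion ι] (hsq : ι ≫ f = ξ ≫ t)
    (hstd : ∀ y : Y, ∃ U : Y.Opens, IsAffineOpen U ∧ y ∈ U ∧ ∃ V : X.Opens, IsAffineOpen V ∧
      V ≤ f ⁻¹ᵁ U ∧ ∀ z : Z, (ξ ≫ t).base z ∈ U → ι.base z ∈ V)
    (a : X ⟶ P) (b : T ⟶ P) (hP : IsPushout ι ξ a b)
    (hv : ∀ U : Y.affineOpens, CokerFlat ((ξ ≫ t).app U) (ξ.app (t ⁻¹ᵁ U)))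
    (p : P ⟶ Y) (hap : a ≫ p = f) (hbp : b ≫ p = t) {Y' : Scheme.{u}} (g : Y' ⟶ Y) :
    IsPushout ((Over.pullback g).map (Over.homMk ι hsq : Over.mk (ξ ≫ t) ⟶ Over.mk f)).left
      ((Over.pullback g).map (Over.homMk ξ rfl : Over.mk (ξ ≫ t) ⟶ Over.mk t)).left
      ((Over.pullback g).map (Over.homMk a hap : Over.mk f ⟶ Over.mk p)).left
      ((Over.pullback g).map (Over.homMk b hbp : Over.mk t ⟶ Over.mk p)).left := by
  have hcovY := exists_cpair_of_std f t ξ ι hsq hstd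
  obtain ⟨hp, W, hW, hcov⟩ := FPA.isPinch_of_isPushout' hcovY hP
  have hk : ι ≫ a ≫ p = ξ ≫ t := by rw [hap, hsq]
  let Q : CPair ι ξ → Y.Opens → Prop := fun k U => IsAffineOpen U ∧ ∃ hle : W k ≤ p ⁻¹ᵁ U,
    CokerFlat (p.appLE U (W k) hle ≫ a.appLE (W k) (a ⁻¹ᵁ W k) le_rfl ≫
      ι.appLE (a ⁻¹ᵁ W k) (ι ⁻¹ᵁ a ⁻¹ᵁ W k) le_rfl)
      (ξ.appLE (b ⁻¹ᵁ W k) (ι ⁻¹ᵁ a ⁻¹ᵁ W k) (hp.preimage_le _))
  have hWle : ∀ (k : CPair ι ξ) (U : Y.Opens), k.U ≤ f ⁻¹ᵁ U → k.V ≤ t ⁻¹ᵁ U →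
      W k ≤ p ⁻¹ᵁ U := by
    intro k U h1 h2 w hw
    rcases hp.surj w with ⟨x, rfl⟩ | ⟨y, rfl⟩
    · have hx : x ∈ a ⁻¹ᵁ W k := hw
      rw [(hW k).2.1] at hx
      have := h1 hx
      change p (a x) ∈ U
      rw [← Scheme.Hom.comp_apply, hap]; exact this
    · have hy : y ∈ b ⁻¹ᵁ W k := hw
      rw [(hW k).2.2] at hy
      have := h2 hy
      change p (b y) ∈ U
      rw [← Scheme.Hom.comp_apply, hbp]; exact this
  have hstdQ : ∀ y : T, ∃ (k : CPair ι ξ) (U : Y.Opens), Q k U ∧ y ∈ k.V := by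
    intro y
    obtain ⟨U, hU, hyU, V, hV, hVU, hz⟩ := hstd (t y)
    have hh : ι ⁻¹ᵁ V = ξ ⁻¹ᵁ (t ⁻¹ᵁ U) := by
      ext z
      simp only [Scheme.Hom.coe_preimage, Set.mem_preimage, SetLike.mem_coe]
      constructor
      · intro h
        have h1 : f (ι z) ∈ U := hVU h
        rw [← Scheme.Hom.comp_apply, hsq, Scheme.Hom.comp_apply] at h1
        exact h1
      · intro h
        exact hz z (by rw [Scheme.Hom.comp_apply]; exact h)
    let k : CPair ι ξ := ⟨V, t ⁻¹ᵁ U, hV, hU.preimage t, hh⟩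
    have hle := hWle k U hVU le_rfl
    refine ⟨k, U, ⟨hU, hle, ?_⟩, hyU⟩
    have h0 := hv ⟨U, hU⟩
    rw [Scheme.Hom.app_eq_appLE, Scheme.Hom.app_eq_appLE] at h0
    have hcomp : p.appLE U (W k) hle ≫ a.appLE (W k) (a ⁻¹ᵁ W k) le_rfl ≫
        ι.appLE (a ⁻¹ᵁ W k) (ι ⁻¹ᵁ a ⁻¹ᵁ W k) le_rfl =
        (ι ≫ a ≫ p).appLE U (ι ⁻¹ᵁ a ⁻¹ᵁ W k)
          (ι.preimage_mono (a.preimage_mono hle)) := by
      rw [Scheme.Hom.appLE_comp_appLE, Scheme.Hom.appLE_comp_appLE]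
      exact appLE_congr_hom (Category.assoc _ _ _).symm _ _ _ _
    rw [hcomp]
    have hM : t ⁻¹ᵁ U = b ⁻¹ᵁ W k := (hW k).2.2.symm
    have hN : ξ ⁻¹ᵁ t ⁻¹ᵁ U = ι ⁻¹ᵁ a ⁻¹ᵁ W k := by
      rw [(hW k).2.1]; exact hh.symm
    exact cokerFlat_congr hk.symm hM hN _ _ _ _ h0
  have hoffQ : ∀ x : X, x ∉ Set.range ι → ∃ (k : CPair ι ξ) (U : Y.Opens), Q k U ∧ x ∈ k.U := by
    intro x hx
    obtain ⟨U, hU, hfxU, -⟩ := Opens.isBasis_iff_nbhd.mp Y.isBasis_affineOpens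
      (Opens.mem_top (f x))
    let O : X.Opens := f ⁻¹ᵁ U ⊓ ⟨(Set.range ι)ᶜ, ι.isClosedEmbedding.isClosed_range.isOpen_compl⟩
    have hxO : x ∈ O := ⟨hfxU, hx⟩
    obtain ⟨V, hV, hxV, hVO⟩ := Opens.isBasis_iff_nbhd.mp X.isBasis_affineOpens hxO
    have hιV : ι ⁻¹ᵁ V = ⊥ := by
      ext z
      simp only [Scheme.Hom.coe_preimage, Set.mem_preimage, SetLike.mem_coe, Opens.coe_bot,
        Set.mem_empty_iff_false, iff_false]
      intro hz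
      exact (hVO hz).2 ⟨z, rfl⟩
    have hh : ι ⁻¹ᵁ V = ξ ⁻¹ᵁ ⊥ := by
      rw [hιV]; rfl
    let k : CPair ι ξ := ⟨V, ⊥, hV, isAffineOpen_bot _, hh⟩
    have hle := hWle k U (hVO.trans inf_le_left) bot_le
    refine ⟨k, U, ⟨hU, hle, ?_⟩, hxV⟩
    have hM : b ⁻¹ᵁ W k = ⊥ := (hW k).2.2
    have hN : ι ⁻¹ᵁ a ⁻¹ᵁ W k = ⊥ := by
      rw [(hW k).2.1]; exact hιV
    exact cokerFlat_of_eq_bot hM hN _ _
  have hcov' : ∀ w : P, ∃ d : {d : CPair ι ξ × Y.Opens // Q d.1 d.2}, w ∈ W d.1.1 := by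
    have hb : ∀ y : T, ∃ d : {d : CPair ι ξ × Y.Opens // Q d.1 d.2}, b y ∈ W d.1.1 := by
      intro y
      obtain ⟨k, U, hQ, hy⟩ := hstdQ y
      refine ⟨⟨(k, U), hQ⟩, ?_⟩
      have : y ∈ b ⁻¹ᵁ W k := by rw [(hW k).2.2]; exact hy
      exact this
    intro w
    rcases hp.surj w with ⟨x, rfl⟩ | ⟨y, rfl⟩
    · by_cases hx : x ∈ Set.range ι
      · obtain ⟨z, rfl⟩ := hx
        have : a (ι z) = b (ξ z) := by
          rw [← Scheme.Hom.comp_apply, hp.w, Scheme.Hom.comp_apply]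
        rw [this]
        exact hb _
      · obtain ⟨k, U, hQ, hxk⟩ := hoffQ x hx
        refine ⟨⟨(k, U), hQ⟩, ?_⟩
        have : x ∈ a ⁻¹ᵁ W k := by rw [(hW k).2.1]; exact hxk
        exact this
    · exact hb y
  let φι : Over.mk (ξ ≫ t) ⟶ Over.mk f := Over.homMk ι hsq
  let φξ : Over.mk (ξ ≫ t) ⟶ Over.mk t := Over.homMk ξ rfl
  let φa : Over.mk f ⟶ Over.mk p := Over.homMk a hap
  let φb : Over.mk t ⟶ Over.mk p := Over.homMk b hbp
  have hφ : φι ≫ φa = φξ ≫ φb := by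
    ext
    exact hp.w
  have hw : ((Over.pullback g).map φι).left ≫ ((Over.pullback g).map φa).left =
      ((Over.pullback g).map φξ).left ≫ ((Over.pullback g).map φb).left := by
    rw [← Over.comp_left, ← Over.comp_left, ← Functor.map_comp, ← Functor.map_comp, hφ]
  have hpT := hp.baseChange_of_charts
    (fun d : {d : CPair ι ξ × Y.Opens // Q d.1 d.2} => W d.1.1) hcov'
    (fun d => ⟨(hW d.1.1).1, by rw [(hW d.1.1).2.1]; exact d.1.1.hU,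
      by rw [(hW d.1.1).2.2]; exact d.1.1.hV⟩)
    p (fun d => d.1.2) (fun d => ⟨d.2.1, d.2.2.choose⟩) g
    (fun d OT hOT hle => by
      have haW : IsAffineOpen (a ⁻¹ᵁ W d.1.1) := by rw [(hW d.1.1).2.1]; exact d.1.1.hU
      have hR := (hp.pinchAt (W d.1.1)).ringPinch hp.w (hp.preimage_le _)
        (ι.app_surjective _ haW)
      simp only [Scheme.Hom.app_eq_appLE] at hR
      exact tensorInj_of_cokerFlat _ hR d.2.2.choose_spec _)
    (pullback.fst p g) (pullback.snd p g) (IsPullback.of_hasPullback p g)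
    (pullback.fst f g) ((Over.pullback g).map φa).left (isPullback_overPullback_map g φa)
    (pullback.fst t g) ((Over.pullback g).map φb).left (isPullback_overPullback_map g φb)
    (pullback.fst (ξ ≫ t) g) ((Over.pullback g).map φι).left
      (isPullback_overPullback_map g φι)
    ((Over.pullback g).map φξ).left (pullback.lift_fst _ _ _) hw
  exact hpT.isPushout

/-- local copy of the cokernel-projectivity condition. -/
def CokerProj (R : Type u) {B C : Type u} [CommRing R] [CommRing B] [CommRing C] [Algebra R B]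
    (c : C →+* B) : Prop :=
  Module.Projective R (B ⧸ Submodule.span R (Set.range c))

theorem S15954_main (f : X ⟶ Y) (t : T ⟶ Y) (ξ : Z ⟶ T) (ι : Z ⟶ X)
    [IsAffineHom t] [IsClosedImmersion ι] (hsq : ι ≫ f = ξ ≫ t)
    (hstd : ∀ y : Y, ∃ U : Y.Opens, IsAffineOpen U ∧ y ∈ U ∧ ∃ V : X.Opens, IsAffineOpen V ∧
      V ≤ f ⁻¹ᵁ U ∧ ∀ z : Z, (ξ ≫ t).base z ∈ U → ι.base z ∈ V)
    (a : X ⟶ P) (b : T ⟶ P) (hP : IsPushout ι ξ a b) [Flat ξ] [Surjective ξ]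
    (hv : ∀ U : Y.affineOpens, @CokerProj Γ(Y, U) Γ(Z, (ξ ≫ t) ⁻¹ᵁ U) Γ(T, t ⁻¹ᵁ U) _ _ _
      ((ξ ≫ t).app U).hom.toAlgebra (ξ.app (t ⁻¹ᵁ U)).hom)
    (p : P ⟶ Y) (hap : a ≫ p = f) (hbp : b ≫ p = t) {Y' : Scheme.{u}} (g : Y' ⟶ Y) :
    IsPushout ((Over.pullback g).map (Over.homMk ι hsq : Over.mk (ξ ≫ t) ⟶ Over.mk f)).left
      ((Over.pullback g).map (Over.homMk ξ rfl : Over.mk (ξ ≫ t) ⟶ Over.mk t)).left
      ((Over.pullback g).map (Over.homMk a hap : Over.mk f ⟶ Over.mk p)).left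
      ((Over.pullback g).map (Over.homMk b hbp : Over.mk t ⟶ Over.mk p)).left := by
  refine S15954_core f t ξ ι hsq hstd a b hP (fun U => ?_) p hap hbp g
  letI := ((ξ ≫ t).app U).hom.toAlgebra
  refine ⟨SHP.app_injective_of_flat_of_surjective ξ _, ?_⟩
  have h1 := hv U
  unfold CokerProj at h1
  haveI := h1
  exact Module.Flat.of_projective

end Main

end Groth.Agent.H9.PIN
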