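import Mathlib
import Groth.Agent.Lib.Helper9.Misc.BLA21
import Groth.Agent.Lib.Lead.QC.SubSup

/-! Helper9: a closed subscheme of a qcqs scheme is a directed limit of closed subschemes of
finite presentation (S7379, Stacks 09ZP-ish). -/

set_option linter.style.haveILetI false
set_option linter.unusedSectionVars false
set_option linter.unusedVariables false

universe u
open CategoryTheory Limits AlgebraicGeometry TopologicalSpace Opposite

namespace Groth.Agent.H9.APX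

open Groth.Agent.LD Groth.Agent.LD.QC Groth.Agent.H9.BLA

section Sup
variable {X : Scheme.{u}}

/-- on a qcqs scheme every local section of an ideal sheaf lies in a finite type sub-ideal. -/
theorem exists_ft_le_mem [CompactSpace X] [QuasiSeparatedSpace X] (𝓘 : X.IdealSheafData)
    (U : X.affineOpens) (s : Γ(X, U.1)) (hs : s ∈ 𝓘.ideal U) :
    ∃ 𝓙 : X.IdealSheafData, BlowUp.IsFiniteTypeIdeal 𝓙 ∧ 𝓙 ≤ 𝓘 ∧ s ∈ 𝓙.ideal U := by
  obtain ⟨c, hc⟩ := (exists_idealModι_app_eq_iff 𝓘 U s).mpr hs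
  obtain ⟨G, i, hi, hG, hft, g, hg⟩ := exists_sub_finiteType_of_section (ClSub.idealMod 𝓘) U.2 c
  haveI := hG
  refine ⟨idealOfHom G (i ≫ ClSub.idealModι 𝓘), isFiniteTypeIdeal_idealOfHom G _ hft, ?_, ?_⟩
  · intro V t ht
    obtain ⟨r, hr⟩ := (mem_idealOfHom_iff G _ V t).mp ht
    exact (exists_idealModι_app_eq_iff 𝓘 V t).mp ⟨i.app V.1 r, hr⟩
  · rw [mem_idealOfHom_iff]
    refine ⟨g, ?_⟩
    change (show Γ(X, U.1) from (ClSub.idealModι 𝓘).app U.1 (i.app U.1 g)) = s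
    rw [hg]; exact hc

end Sup

section FP
variable {Y : Scheme.{u}}

theorem locallyOfFinitePresentation_subschemeι (𝓙 : Y.IdealSheafData)
    (h : BlowUp.IsFiniteTypeIdeal 𝓙) : LocallyOfFinitePresentation 𝓙.subschemeι := by
  rw [HasRingHomProperty.iff_appLE (P := @LocallyOfFinitePresentation)]
  intro U V e
  have h1 : 𝓙.subschemeι.appLE U.1 V.1 e =
      𝓙.subschemeι.app U.1 ≫ Scheme.Hom.appLE (𝟙 (𝓙.subscheme : Scheme.{u})) (𝓙.subschemeι ⁻¹ᵁ U.1) V.1 e := by
    simp only [Scheme.Hom.appLE, Scheme.Hom.id_app, Category.id_comp]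
    rfl
  rw [h1, CommRingCat.hom_comp]
  refine RingHom.FinitePresentation.comp ?_ ?_
  · exact HasRingHomProperty.appLE @LocallyOfFinitePresentation (𝟙 (𝓙.subscheme : Scheme.{u})) inferInstance
      ⟨𝓙.subschemeι ⁻¹ᵁ U.1, U.2.preimage 𝓙.subschemeι⟩ V e
  · refine RingHom.FinitePresentation.of_surjective _ (𝓙.subschemeι_app_surjective U) ?_
    rw [𝓙.ker_subschemeι_app U]
    exact h U

end FP


section S7379
variable {X Y : Scheme.{u}}

/-- the index type: finite type ideal sheaves inside `𝓘`. -/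
def FtSub (𝓘 : Y.IdealSheafData) : Type u :=
  {𝓙 : Y.IdealSheafData // BlowUp.IsFiniteTypeIdeal 𝓙 ∧ 𝓙 ≤ 𝓘}

instance (𝓘 : Y.IdealSheafData) : Preorder (FtSub 𝓘) :=
  inferInstanceAs (Preorder {𝓙 : Y.IdealSheafData // BlowUp.IsFiniteTypeIdeal 𝓙 ∧ 𝓙 ≤ 𝓘})

theorem isFiniteTypeIdeal_bot : BlowUp.IsFiniteTypeIdeal (⊥ : Y.IdealSheafData) := by
  intro U
  rw [Scheme.IdealSheafData.ideal_bot]
  exact Submodule.fg_bot

instance (𝓘 : Y.IdealSheafData) : Nonempty (FtSub 𝓘) :=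
  ⟨⟨⊥, isFiniteTypeIdeal_bot, bot_le⟩⟩

instance (𝓘 : Y.IdealSheafData) : IsDirected (FtSub 𝓘) (fun a b => a ≤ b) :=
  ⟨fun a b => ⟨⟨a.1 ⊔ b.1, isFiniteTypeIdeal_sup a.2.1 b.2.1, sup_le a.2.2 b.2.2⟩,
    (le_sup_left : a.1 ≤ a.1 ⊔ b.1), (le_sup_right : b.1 ≤ a.1 ⊔ b.1)⟩⟩

/-- the forgetful monotone map. -/
def FtSub.val {𝓘 : Y.IdealSheafData} (a : FtSub 𝓘) : Y.IdealSheafData := a.1

theorem FtSub.val_mono (𝓘 : Y.IdealSheafData) : Monotone (FtSub.val (𝓘 := 𝓘)) :=
  fun _ _ h => h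

/-- the diagram of finitely presented closed subschemes. -/
noncomputable def ftDiagram (𝓘 : Y.IdealSheafData) : (FtSub 𝓘)ᵒᵖ ⥤ Over Y :=
  (FtSub.val_mono 𝓘).functor.op ⋙ Scheme.IdealSheafData.subschemeFunctor Y

/-- the cone over the diagram with vertex the subscheme of `𝓘`. -/
noncomputable def ftCone (𝓘 : Y.IdealSheafData) : Cone (ftDiagram 𝓘) where
  pt := Over.mk 𝓘.subschemeι
  π :=
    { app := fun a => Over.homMk (Scheme.IdealSheafData.inclusion a.unop.2.2)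
        (Scheme.IdealSheafData.inclusion_subschemeι _)
      naturality := by
        intro a b f
        ext1
        simp only [Functor.const_obj_obj, Functor.const_obj_map, Category.id_comp, Over.comp_left,
          Over.homMk_left]
        change _ = Scheme.IdealSheafData.inclusion _ ≫ Scheme.IdealSheafData.inclusion _
        rw [Scheme.IdealSheafData.inclusion_comp] }

theorem le_ker_of_cone [CompactSpace Y] [QuasiSeparatedSpace Y] (𝓘 : Y.IdealSheafData)
    (s : Cone (ftDiagram 𝓘)) : 𝓘 ≤ s.pt.hom.ker := by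
  intro U x hx
  obtain ⟨𝓙, hft, hle, hmem⟩ := exists_ft_le_mem 𝓘 U x hx
  have h1 : (s.π.app (op (⟨𝓙, hft, hle⟩ : FtSub 𝓘))).left ≫ 𝓙.subschemeι = s.pt.hom :=
    Over.w (s.π.app (op (⟨𝓙, hft, hle⟩ : FtSub 𝓘)))
  have h2 : 𝓙 ≤ s.pt.hom.ker := by
    rw [← h1]
    calc 𝓙 = 𝓙.subschemeι.ker := (Scheme.IdealSheafData.ker_subschemeι 𝓙).symm
      _ ≤ _ := Scheme.Hom.le_ker_comp _ _
  exact h2 U hmem

/-- the lift of a cone. -/
noncomputable def ftLift [CompactSpace Y] [QuasiSeparatedSpace Y] (𝓘 : Y.IdealSheafData)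
    (s : Cone (ftDiagram 𝓘)) : s.pt.left ⟶ (𝓘.subscheme : Scheme.{u}) :=
  IsClosedImmersion.lift 𝓘.subschemeι s.pt.hom (by
    rw [Scheme.IdealSheafData.ker_subschemeι]; exact le_ker_of_cone 𝓘 s)

theorem ftLift_fac [CompactSpace Y] [QuasiSeparatedSpace Y] (𝓘 : Y.IdealSheafData)
    (s : Cone (ftDiagram 𝓘)) : ftLift 𝓘 s ≫ 𝓘.subschemeι = s.pt.hom :=
  IsClosedImmersion.lift_fac _ _ _

/-- the cone is limiting. -/
noncomputable def ftConeIsLimit [CompactSpace Y] [QuasiSeparatedSpace Y] (𝓘 : Y.IdealSheafData) :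
    IsLimit (ftCone 𝓘) where
  lift s := Over.homMk (U := s.pt) (V := (ftCone 𝓘).pt) (ftLift 𝓘 s) (ftLift_fac 𝓘 s)
  fac s a := by
    ext1
    have key : @Eq (s.pt.left ⟶ ((a.unop.1).subscheme : Scheme.{u}))
        (ftLift 𝓘 s ≫ Scheme.IdealSheafData.inclusion a.unop.2.2) (s.π.app a).left :=
      (cancel_mono (a.unop.1).subschemeι).mp (by
        rw [Category.assoc, Scheme.IdealSheafData.inclusion_subschemeι, ftLift_fac]
        exact (Over.w (s.π.app a)).symm)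
    exact key
  uniq s m hm := by
    ext1
    have key : @Eq (s.pt.left ⟶ (𝓘.subscheme : Scheme.{u})) m.left (ftLift 𝓘 s) :=
      (cancel_mono 𝓘.subschemeι).mp (by
        rw [ftLift_fac]
        exact Over.w m)
    exact key

theorem S7379_main (ι : X ⟶ Y) [IsClosedImmersion ι] [CompactSpace Y] [QuasiSeparatedSpace Y] :
    ∃ (I : Type u) (_ : Preorder I) (_ : IsDirected I (fun a b => a ≤ b)) (_ : Nonempty I)
      (D : Iᵒᵖ ⥤ Over Y) (c : Limits.Cone D) (_ : Limits.IsLimit c),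
      (∀ i, IsClosedImmersion (D.obj i).hom ∧ LocallyOfFinitePresentation (D.obj i).hom) ∧
      Nonempty (c.pt ≅ Over.mk ι) := by
  refine ⟨FtSub ι.ker, inferInstance, inferInstance, inferInstance, ftDiagram ι.ker,
    ftCone ι.ker, ftConeIsLimit ι.ker, ?_, ?_⟩
  · intro i
    refine ⟨?_, ?_⟩
    · change IsClosedImmersion (i.unop.1).subschemeι
      infer_instance
    · change LocallyOfFinitePresentation (i.unop.1).subschemeι
      exact locallyOfFinitePresentation_subschemeι _ i.unop.2.1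
  · refine ⟨Over.isoMk (asIso ι.toImage).symm ?_⟩
    change inv ι.toImage ≫ ι = ι.ker.subschemeι
    rw [IsIso.inv_comp_eq]
    exact (Scheme.Hom.toImage_imageι ι).symm

end S7379

end Groth.Agent.H9.APX
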