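import Mathlib

set_option autoImplicit false
set_option linter.unusedSectionVars false
set_option linter.unusedVariables false

namespace Groth.Agent.H9.Rex

universe u v' u'

open CategoryTheory Limits

section Basic

variable {A : Type u} [CommRing A] {B : Type u'} [Category.{v'} B] [Preadditive B]
variable {K : B} (κ : A →+* End K)

theorem kappa_add (a b : A) : (κ (a + b) : K ⟶ K) = (κ a : K ⟶ K) + (κ b : K ⟶ K) :=
  map_add κ a b

theorem kappa_mul (a b : A) : (κ (a * b) : K ⟶ K) = (κ b : K ⟶ K) ≫ (κ a : K ⟶ K) :=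
  map_mul κ a b

theorem kappa_mul' (a b : A) : (κ (a * b) : K ⟶ K) = (κ a : K ⟶ K) ≫ (κ b : K ⟶ K) := by
  rw [mul_comm]
  exact kappa_mul κ b a

theorem kappa_one : (κ 1 : K ⟶ K) = 𝟙 K := map_one κ

theorem kappa_add_comp (a b : A) {X : B} (g : K ⟶ X) :
    (κ (a + b) : K ⟶ K) ≫ g = (κ a : K ⟶ K) ≫ g + (κ b : K ⟶ K) ≫ g := by
  rw [map_add]
  exact Preadditive.add_comp K K X (κ a) (κ b) g

theorem kappa_zero : (κ 0 : K ⟶ K) = 0 := map_zero κ

/-- κ-linear maps from a module `M` to `Hom(K, X)` -/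
structure KLin (M : Type u) [AddCommGroup M] [Module A M] (X : B) where
  toFun : M → (K ⟶ X)
  map_add' : ∀ m m', toFun (m + m') = toFun m + toFun m'
  map_smul' : ∀ (a : A) m, toFun (a • m) = (κ a : K ⟶ K) ≫ toFun m

namespace KLin

variable {κ} {M : Type u} [AddCommGroup M] [Module A M] {X : B}

instance : CoeFun (KLin κ M X) (fun _ => M → (K ⟶ X)) := ⟨KLin.toFun⟩

theorem ext {ψ ψ' : KLin κ M X} (h : ∀ m, ψ m = ψ' m) : ψ = ψ' := by
  cases ψ; cases ψ'; congr; funext m; exact h m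

theorem map_add (ψ : KLin κ M X) (m m' : M) : ψ (m + m') = ψ m + ψ m' := ψ.map_add' m m'

theorem map_smul (ψ : KLin κ M X) (a : A) (m : M) : ψ (a • m) = (κ a : K ⟶ K) ≫ ψ m :=
  ψ.map_smul' a m

def toAddMonoidHom (ψ : KLin κ M X) : M →+ (K ⟶ X) := AddMonoidHom.mk' ψ.toFun ψ.map_add'

theorem map_zero (ψ : KLin κ M X) : ψ 0 = 0 := ψ.toAddMonoidHom.map_zero

theorem map_sub (ψ : KLin κ M X) (m m' : M) : ψ (m - m') = ψ m - ψ m' :=
  ψ.toAddMonoidHom.map_sub m m'

theorem map_sum {ι : Type*} (ψ : KLin κ M X) (s : Finset ι) (g : ι → M) :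
    ψ (∑ i ∈ s, g i) = ∑ i ∈ s, ψ (g i) := _root_.map_sum ψ.toAddMonoidHom g s

def comp (ψ : KLin κ M X) {Y : B} (φ : X ⟶ Y) : KLin κ M Y where
  toFun m := ψ m ≫ φ
  map_add' m m' := by
    show ψ (m + m') ≫ φ = ψ m ≫ φ + ψ m' ≫ φ
    rw [ψ.map_add, Preadditive.add_comp]
  map_smul' a m := by
    show ψ (a • m) ≫ φ = (κ a : K ⟶ K) ≫ ψ m ≫ φ
    rw [ψ.map_smul, Category.assoc]

theorem comp_apply (ψ : KLin κ M X) {Y : B} (φ : X ⟶ Y) (m : M) : ψ.comp φ m = ψ m ≫ φ := rfl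

def precomp (ψ : KLin κ M X) {M' : Type u} [AddCommGroup M'] [Module A M'] (ρ : M' →ₗ[A] M) :
    KLin κ M' X where
  toFun m := ψ (ρ m)
  map_add' m m' := by
    show ψ (ρ (m + m')) = ψ (ρ m) + ψ (ρ m')
    rw [ρ.map_add, ψ.map_add]
  map_smul' a m := by
    show ψ (ρ (a • m)) = (κ a : K ⟶ K) ≫ ψ (ρ m)
    rw [ρ.map_smul, ψ.map_smul]

theorem precomp_apply (ψ : KLin κ M X) {M' : Type u} [AddCommGroup M'] [Module A M']
    (ρ : M' →ₗ[A] M) (m : M') : ψ.precomp ρ m = ψ (ρ m) := rfl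

def ker (ψ : KLin κ M X) : Submodule A M where
  carrier := {m | ψ m = 0}
  add_mem' := fun {a b} (ha : ψ a = 0) (hb : ψ b = 0) =>
    show ψ (a + b) = 0 by rw [ψ.map_add, ha, hb, add_zero]
  zero_mem' := ψ.map_zero
  smul_mem' := fun a m (hm : ψ m = 0) =>
    show ψ (a • m) = 0 by rw [ψ.map_smul, hm, comp_zero]

theorem mem_ker {ψ : KLin κ M X} {m : M} : m ∈ ψ.ker ↔ ψ m = 0 := Iff.rfl

theorem exists_desc_of_surjective {M₂ M₃ : Type u} [AddCommGroup M₂] [Module A M₂]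
    [AddCommGroup M₃] [Module A M₃] (π : M₂ →ₗ[A] M₃) (hπ : Function.Surjective π)
    (Ψ : KLin κ M₂ X) (h : ∀ m, π m = 0 → Ψ m = 0) :
    ∃ ψ : KLin κ M₃ X, ∀ m, ψ (π m) = Ψ m := by
  have key : ∀ m m', π m = π m' → Ψ m = Ψ m' := by
    intro m m' hm
    have := h (m - m') (by rw [π.map_sub, hm, sub_self])
    rw [Ψ.map_sub, sub_eq_zero] at this
    exact this
  have hf : ∀ m, Ψ (Function.surjInv hπ (π m)) = Ψ m :=
    fun m => key _ _ (Function.surjInv_eq hπ (π m))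
  refine ⟨{ toFun := fun y => Ψ (Function.surjInv hπ y), map_add' := ?_, map_smul' := ?_ }, hf⟩
  · intro y y'
    obtain ⟨m, rfl⟩ := hπ y
    obtain ⟨m', rfl⟩ := hπ y'
    show Ψ (Function.surjInv hπ (π m + π m')) =
      Ψ (Function.surjInv hπ (π m)) + Ψ (Function.surjInv hπ (π m'))
    rw [← π.map_add, hf, hf, hf, Ψ.map_add]
  · intro a y
    obtain ⟨m, rfl⟩ := hπ y
    show Ψ (Function.surjInv hπ (a • π m)) = (κ a : K ⟶ K) ≫ Ψ (Function.surjInv hπ (π m))
    rw [← π.map_smul, hf, hf, Ψ.map_smul]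

end KLin

/-- a representing object for `X ↦ KLin κ M X` -/
structure Rep (M : Type u) [AddCommGroup M] [Module A M] where
  obj : B
  tau : KLin κ M obj
  exists_desc : ∀ {X : B} (ψ : KLin κ M X), ∃ φ : obj ⟶ X, tau.comp φ = ψ
  hom_ext' : ∀ {X : B} (φ φ' : obj ⟶ X), (∀ m, tau m ≫ φ = tau m ≫ φ') → φ = φ'

namespace Rep

variable {κ} {M : Type u} [AddCommGroup M] [Module A M]

noncomputable def desc (R : Rep κ M) {X : B} (ψ : KLin κ M X) : R.obj ⟶ X :=
  (R.exists_desc ψ).choose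

theorem tau_desc (R : Rep κ M) {X : B} (ψ : KLin κ M X) (m : M) :
    R.tau m ≫ R.desc ψ = ψ m :=
  congrArg (fun t : KLin κ M X => t m) (R.exists_desc ψ).choose_spec

theorem hom_ext (R : Rep κ M) {X : B} {φ φ' : R.obj ⟶ X}
    (h : ∀ m, R.tau m ≫ φ = R.tau m ≫ φ') : φ = φ' := R.hom_ext' φ φ' h

variable {M' M'' : Type u} [AddCommGroup M'] [Module A M'] [AddCommGroup M''] [Module A M'']

noncomputable def map (R : Rep κ M) (R' : Rep κ M') (ρ : M →ₗ[A] M') : R.obj ⟶ R'.obj :=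
  R.desc (R'.tau.precomp ρ)

theorem tau_map (R : Rep κ M) (R' : Rep κ M') (ρ : M →ₗ[A] M') (m : M) :
    R.tau m ≫ map R R' ρ = R'.tau (ρ m) := R.tau_desc _ m

theorem map_id (R : Rep κ M) : map R R LinearMap.id = 𝟙 _ :=
  R.hom_ext (fun m => (tau_map R R LinearMap.id m).trans (Category.comp_id _).symm)

theorem map_comp (R : Rep κ M) (R' : Rep κ M') (R'' : Rep κ M'') (ρ : M →ₗ[A] M')
    (σ : M' →ₗ[A] M'') : map R R' ρ ≫ map R' R'' σ = map R R'' (σ ∘ₗ ρ) :=
  R.hom_ext (fun m => by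
    rw [← Category.assoc, tau_map, tau_map, tau_map, LinearMap.comp_apply])

end Rep

section Free

variable [HasFiniteBiproducts B]

noncomputable def freeTau (n : ℕ) : KLin κ (Fin n → A) (⨁ (fun _ : Fin n => K)) where
  toFun v := ∑ i, (κ (v i) : K ⟶ K) ≫ biproduct.ι (fun _ : Fin n => K) i
  map_add' v v' := by
    simp only [Pi.add_apply, kappa_add_comp κ, Finset.sum_add_distrib]
  map_smul' a v := by
    simp only [Pi.smul_apply, smul_eq_mul, kappa_mul' κ, Category.assoc, Preadditive.comp_sum]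

theorem freeTau_apply (n : ℕ) (v : Fin n → A) :
    freeTau κ n v = ∑ i, (κ (v i) : K ⟶ K) ≫ biproduct.ι (fun _ : Fin n => K) i := rfl

theorem freeTau_single (n : ℕ) (i : Fin n) :
    freeTau κ n (Pi.single i 1) = biproduct.ι (fun _ : Fin n => K) i := by
  rw [freeTau_apply, Finset.sum_eq_single i]
  · rw [Pi.single_eq_same, kappa_one, Category.id_comp]
  · intro j _ hj
    rw [Pi.single_eq_of_ne hj, kappa_zero, zero_comp]
  · intro h
    exact absurd (Finset.mem_univ i) h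

noncomputable def free (n : ℕ) : Rep κ (Fin n → A) where
  obj := ⨁ (fun _ : Fin n => K)
  tau := freeTau κ n
  exists_desc {X} ψ := by
    refine ⟨biproduct.desc (fun i => ψ (Pi.single i 1)), KLin.ext (fun v => ?_)⟩
    have hv : ∑ i, v i • (Pi.single i (1 : A) : Fin n → A) = v := by
      funext j
      simp [Finset.sum_apply, Pi.single_apply]
    show freeTau κ n v ≫ _ = ψ v
    rw [freeTau_apply, Preadditive.sum_comp]
    conv_rhs => rw [← hv, ψ.map_sum]
    refine Finset.sum_congr rfl (fun i _ => ?_)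
    rw [Category.assoc, biproduct.ι_desc, ψ.map_smul]
  hom_ext' {X} φ φ' h := by
    refine biproduct.hom_ext' _ _ (fun i => ?_)
    have := h (Pi.single i 1)
    rw [freeTau_single] at this
    exact this

end Free

section Coker

variable [HasCokernels B]
variable {M₁ M₂ M₃ : Type u} [AddCommGroup M₁] [Module A M₁] [AddCommGroup M₂] [Module A M₂]
  [AddCommGroup M₃] [Module A M₃]
variable {κ}
variable (R₁ : Rep κ M₁) (R₂ : Rep κ M₂) (ρ : M₁ →ₗ[A] M₂) (π : M₂ →ₗ[A] M₃)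
  (hπ : Function.Surjective π) (hex : Function.Exact ρ π)

include hπ hex in
theorem exists_cokerTau :
    ∃ ψ : KLin κ M₃ (cokernel (Rep.map R₁ R₂ ρ)),
      ∀ m, ψ (π m) = R₂.tau m ≫ cokernel.π (Rep.map R₁ R₂ ρ) := by
  apply KLin.exists_desc_of_surjective π hπ (R₂.tau.comp (cokernel.π (Rep.map R₁ R₂ ρ)))
  intro m hm
  obtain ⟨m₁, rfl⟩ := (hex m).mp hm
  show R₂.tau (ρ m₁) ≫ cokernel.π (Rep.map R₁ R₂ ρ) = 0
  rw [← Rep.tau_map R₁ R₂ ρ m₁, Category.assoc, cokernel.condition, comp_zero]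

noncomputable def cokerTau : KLin κ M₃ (cokernel (Rep.map R₁ R₂ ρ)) :=
  (exists_cokerTau R₁ R₂ ρ π hπ hex).choose

theorem cokerTau_apply (m : M₂) :
    cokerTau R₁ R₂ ρ π hπ hex (π m) = R₂.tau m ≫ cokernel.π (Rep.map R₁ R₂ ρ) :=
  (exists_cokerTau R₁ R₂ ρ π hπ hex).choose_spec m

noncomputable def coker : Rep κ M₃ where
  obj := cokernel (Rep.map R₁ R₂ ρ)
  tau := cokerTau R₁ R₂ ρ π hπ hex
  exists_desc {X} ψ := by
    have h0 : Rep.map R₁ R₂ ρ ≫ R₂.desc (ψ.precomp π) = 0 := by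
      apply R₁.hom_ext
      intro m₁
      rw [← Category.assoc, Rep.tau_map, R₂.tau_desc, comp_zero]
      show ψ (π (ρ m₁)) = 0
      rw [hex.apply_apply_eq_zero, ψ.map_zero]
    refine ⟨cokernel.desc _ _ h0, KLin.ext (fun m₃ => ?_)⟩
    obtain ⟨m, rfl⟩ := hπ m₃
    show cokerTau R₁ R₂ ρ π hπ hex (π m) ≫ _ = ψ (π m)
    rw [cokerTau_apply, Category.assoc, cokernel.π_desc, R₂.tau_desc]
    rfl
  hom_ext' {X} φ φ' h := by
    apply (cancel_epi (cokernel.π (Rep.map R₁ R₂ ρ))).mp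
    apply R₂.hom_ext
    intro m
    rw [← Category.assoc, ← Category.assoc, ← cokerTau_apply R₁ R₂ ρ π hπ hex m]
    exact h (π m)

end Coker

section Exists

variable [HasFiniteBiproducts B] [HasCokernels B]

theorem nonempty_rep (M : Type u) [AddCommGroup M] [Module A M]
    [Module.FinitePresentation A M] : Nonempty (Rep κ M) := by
  obtain ⟨n, m, f, g, hf, hex⟩ := Module.FinitePresentation.exists_fin' A M
  exact ⟨coker (free κ m) (free κ n) g f hf hex⟩

end Exists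

/-- `K` itself represents for `M = A` -/
noncomputable def self : Rep κ A where
  obj := K
  tau :=
    { toFun := fun a => (κ a : K ⟶ K)
      map_add' := kappa_add κ
      map_smul' := fun a b => by
        rw [smul_eq_mul]
        exact kappa_mul' κ a b }
  exists_desc {X} ψ := by
    refine ⟨ψ 1, KLin.ext (fun a => ?_)⟩
    show (κ a : K ⟶ K) ≫ ψ 1 = ψ a
    rw [← ψ.map_smul, smul_eq_mul, mul_one]
  hom_ext' {X} φ φ' h := by
    have := h 1
    change (κ 1 : K ⟶ K) ≫ φ = (κ 1 : K ⟶ K) ≫ φ' at this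
    rw [kappa_one, Category.id_comp, Category.id_comp] at this
    exact this

theorem self_tau (a : A) : (self κ).tau a = (κ a : K ⟶ K) := rfl

end Basic

end Groth.Agent.H9.Rex
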