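import Mathlib
import Groth.Agent.Lib.Helper9.Misc.RexA

set_option autoImplicit false
set_option linter.unusedSectionVars false
set_option linter.unusedVariables false

namespace Groth.Agent.H9.Rex

universe u v' u'

open CategoryTheory Limits

/-- the category of finitely presented modules -/
abbrev FP (A : Type u) [CommRing A] :=
  ObjectProperty.FullSubcategory (fun M : ModuleCat.{u} A => Module.FinitePresentation A M)

section Key

attribute [local instance] Classical.propDecidable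

variable {A : Type u} [CommRing A]
variable {J : Type} [SmallCategory J] [FinCategory J] (D : J ⥤ FP A) (c : Cocone D)

abbrev PP : Type u := (j : J) → ((D.obj j).obj : ModuleCat.{u} A)

abbrev dm {j j' : J} (α : j ⟶ j') :
    ((D.obj j).obj : ModuleCat.{u} A) →ₗ[A] ((D.obj j').obj : ModuleCat.{u} A) :=
  (D.map α).hom.hom

abbrev lg (j : J) : ((D.obj j).obj : ModuleCat.{u} A) →ₗ[A] (c.pt.obj : ModuleCat.{u} A) :=
  (c.ι.app j).hom.hom

theorem lg_dm {j j' : J} (α : j ⟶ j') (m : ((D.obj j).obj : ModuleCat.{u} A)) :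
    lg D c j' (dm D α m) = lg D c j m :=
  congrArg (fun t : D.obj j ⟶ c.pt => t.hom.hom m) (c.w α)

noncomputable def Smap : PP D →ₗ[A] (c.pt.obj : ModuleCat.{u} A) :=
  ∑ j, (lg D c j) ∘ₗ (LinearMap.proj j)

theorem Smap_apply (x : PP D) : Smap D c x = ∑ j, lg D c j (x j) := by
  simp [Smap, LinearMap.sum_apply]

theorem Smap_single (j : J) (m : ((D.obj j).obj : ModuleCat.{u} A)) :
    Smap D c (Pi.single j m) = lg D c j m := by
  rw [Smap_apply, Finset.sum_eq_single j]
  · rw [Pi.single_eq_same]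
  · intro j' _ hj'
    rw [Pi.single_eq_of_ne hj', map_zero]
  · intro h
    exact absurd (Finset.mem_univ j) h

noncomputable def Lmap (t : Σ (j j' : J), (j ⟶ j')) :
    ((D.obj t.1).obj : ModuleCat.{u} A) →ₗ[A] PP D :=
  LinearMap.single A (fun j => ((D.obj j).obj : ModuleCat.{u} A)) t.1 -
    (LinearMap.single A (fun j => ((D.obj j).obj : ModuleCat.{u} A)) t.2.1) ∘ₗ (dm D t.2.2)

theorem Lmap_apply (j j' : J) (α : j ⟶ j') (m : ((D.obj j).obj : ModuleCat.{u} A)) :
    Lmap D ⟨j, j', α⟩ m = Pi.single j m - Pi.single j' (dm D α m) := rfl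

noncomputable def Nsub : Submodule A (PP D) := ⨆ t, LinearMap.range (Lmap D t)

theorem Lmap_mem (j j' : J) (α : j ⟶ j') (m : ((D.obj j).obj : ModuleCat.{u} A)) :
    (Pi.single j m - Pi.single j' (dm D α m) : PP D) ∈ Nsub D :=
  Submodule.mem_iSup_of_mem (p := fun t => LinearMap.range (Lmap D t)) ⟨j, j', α⟩ ⟨m, rfl⟩

theorem Nsub_fg : (Nsub D).FG := by
  haveI : ∀ j, Module.FinitePresentation A ((D.obj j).obj : ModuleCat.{u} A) :=
    fun j => (D.obj j).property
  show (⨆ t, LinearMap.range (Lmap D t)).FG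
  apply Submodule.fg_iSup
  intro t
  rw [LinearMap.range_eq_map]
  exact Submodule.FG.map _ (Module.finite_def.mp inferInstance)

theorem Smap_surjective (hc : IsColimit c) : Function.Surjective (Smap D c) := by
  haveI : ∀ j, Module.FinitePresentation A ((D.obj j).obj : ModuleCat.{u} A) :=
    fun j => (D.obj j).property
  haveI : Module.FinitePresentation A (c.pt.obj : ModuleCat.{u} A) := c.pt.property
  obtain ⟨R, hR⟩ : ∃ R, R = LinearMap.range (Smap D c) := ⟨_, rfl⟩
  have hfg : R.FG := by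
    rw [hR, LinearMap.range_eq_map]
    exact Submodule.FG.map _ (Module.finite_def.mp inferInstance)
  have hT : Module.FinitePresentation A ((c.pt.obj : ModuleCat.{u} A) ⧸ R) :=
    Module.finitePresentation_of_surjective R.mkQ R.mkQ_surjective
      (by rw [Submodule.ker_mkQ]; exact hfg)
  obtain ⟨T, hTdef⟩ : ∃ T : FP A, T = ⟨ModuleCat.of A ((c.pt.obj : ModuleCat.{u} A) ⧸ R), hT⟩ :=
    ⟨_, rfl⟩
  subst hTdef
  have hqz : (ObjectProperty.homMk (ModuleCat.ofHom R.mkQ) :
      c.pt ⟶ (⟨ModuleCat.of A ((c.pt.obj : ModuleCat.{u} A) ⧸ R), hT⟩ : FP A)) =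
      ObjectProperty.homMk (ModuleCat.ofHom 0) := by
    apply hc.hom_ext
    intro j
    apply ObjectProperty.hom_ext
    apply ModuleCat.hom_ext
    apply LinearMap.ext
    intro m
    show R.mkQ (lg D c j m) = 0
    rw [Submodule.mkQ_apply, Submodule.Quotient.mk_eq_zero, hR]
    exact ⟨Pi.single j m, Smap_single D c j m⟩
  intro y
  have : R.mkQ y = 0 :=
    congrArg (fun t : c.pt ⟶ (⟨ModuleCat.of A ((c.pt.obj : ModuleCat.{u} A) ⧸ R), hT⟩ : FP A) =>
      t.hom.hom y) hqz
  rw [Submodule.mkQ_apply, Submodule.Quotient.mk_eq_zero, hR] at this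
  exact this

noncomputable def Qobj : FP A :=
  ⟨ModuleCat.of A (PP D ⧸ Nsub D), by
    haveI : ∀ j, Module.FinitePresentation A ((D.obj j).obj : ModuleCat.{u} A) :=
      fun j => (D.obj j).property
    exact Module.finitePresentation_of_surjective (Nsub D).mkQ (Nsub D).mkQ_surjective
      (by rw [Submodule.ker_mkQ]; exact Nsub_fg D)⟩

noncomputable def Qcocone : Cocone D where
  pt := Qobj D
  ι :=
    { app := fun j => ObjectProperty.homMk (ModuleCat.ofHom
        ((Nsub D).mkQ ∘ₗ LinearMap.single A (fun j => ((D.obj j).obj : ModuleCat.{u} A)) j))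
      naturality := fun j j' α => by
        apply ObjectProperty.hom_ext
        apply ModuleCat.hom_ext
        apply LinearMap.ext
        intro m
        show (Nsub D).mkQ (Pi.single j' (dm D α m)) = (Nsub D).mkQ (Pi.single j m)
        rw [Submodule.mkQ_apply, Submodule.mkQ_apply, eq_comm, Submodule.Quotient.eq]
        exact Lmap_mem D j j' α m }

theorem ker_Smap_le (hc : IsColimit c) : LinearMap.ker (Smap D c) ≤ Nsub D := by
  intro x hx
  have hx0 : Smap D c x = 0 := LinearMap.mem_ker.mp hx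
  obtain ⟨G, hG⟩ : ∃ G : (c.pt.obj : ModuleCat.{u} A) →ₗ[A] (PP D ⧸ Nsub D),
      ∀ j (m : ((D.obj j).obj : ModuleCat.{u} A)),
        G (lg D c j m) = (Nsub D).mkQ (Pi.single j m) :=
    ⟨(hc.desc (Qcocone D)).hom.hom, fun j m =>
      congrArg (fun t : D.obj j ⟶ Qobj D => t.hom.hom m) (hc.fac (Qcocone D) j)⟩
  have h1 : G (Smap D c x) = (Nsub D).mkQ x := by
    rw [Smap_apply, map_sum]
    simp only [hG]
    rw [← map_sum, Finset.univ_sum_single]
  rw [hx0, map_zero] at h1
  exact (Submodule.Quotient.mk_eq_zero (Nsub D)).mp h1.symm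

section Glue

variable {B : Type u'} [Category.{v'} B] [Preadditive B] {K : B} (κ : A →+* End K)
variable {X : B} (ψ : ∀ j, KLin κ ((D.obj j).obj : ModuleCat.{u} A) X)

noncomputable def bigPsi : KLin κ (PP D) X where
  toFun x := ∑ j, ψ j (x j)
  map_add' x x' := by
    simp only [Pi.add_apply, KLin.map_add, Finset.sum_add_distrib]
  map_smul' a x := by
    simp only [Pi.smul_apply, KLin.map_smul, Preadditive.comp_sum]

theorem bigPsi_apply (x : PP D) : bigPsi D κ ψ x = ∑ j, ψ j (x j) := rfl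

theorem bigPsi_single (j : J) (m : ((D.obj j).obj : ModuleCat.{u} A)) :
    bigPsi D κ ψ (Pi.single j m) = ψ j m := by
  rw [bigPsi_apply, Finset.sum_eq_single j]
  · rw [Pi.single_eq_same]
  · intro j' _ hj'
    rw [Pi.single_eq_of_ne hj', KLin.map_zero]
  · intro h
    exact absurd (Finset.mem_univ j) h

theorem bigPsi_zero_of_mem
    (hψ : ∀ {j j' : J} (α : j ⟶ j') (m : ((D.obj j).obj : ModuleCat.{u} A)),
      ψ j' (dm D α m) = ψ j m)
    (x : PP D) (hx : x ∈ Nsub D) : bigPsi D κ ψ x = 0 := by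
  have hle : Nsub D ≤ (bigPsi D κ ψ).ker := by
    apply iSup_le
    rintro ⟨j, j', α⟩ _ ⟨m, rfl⟩
    rw [KLin.mem_ker, Lmap_apply, KLin.map_sub, bigPsi_single, bigPsi_single, hψ α m, sub_self]
  exact hle hx

theorem exists_glue (hc : IsColimit c)
    (hψ : ∀ {j j' : J} (α : j ⟶ j') (m : ((D.obj j).obj : ModuleCat.{u} A)),
      ψ j' (dm D α m) = ψ j m) :
    ∃ Ψ : KLin κ (c.pt.obj : ModuleCat.{u} A) X, ∀ j m, Ψ (lg D c j m) = ψ j m := by
  obtain ⟨Ψ, hΨ⟩ := KLin.exists_desc_of_surjective (Smap D c) (Smap_surjective D c hc)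
    (bigPsi D κ ψ)
    (fun x hx => bigPsi_zero_of_mem D κ ψ hψ x (ker_Smap_le D c hc (LinearMap.mem_ker.mpr hx)))
  refine ⟨Ψ, fun j m => ?_⟩
  rw [← Smap_single D c j m, hΨ, bigPsi_single]

theorem glue_unique (hc : IsColimit c) (Ψ Ψ' : KLin κ (c.pt.obj : ModuleCat.{u} A) X)
    (h : ∀ j m, Ψ (lg D c j m) = Ψ' (lg D c j m)) : Ψ = Ψ' := by
  apply KLin.ext
  intro y
  obtain ⟨x, rfl⟩ := Smap_surjective D c hc y
  rw [Smap_apply, Ψ.map_sum, Ψ'.map_sum]
  exact Finset.sum_congr rfl (fun j _ => h j (x j))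

end Glue

end Key

end Groth.Agent.H9.Rex
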