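import Mathlib
import Groth.Agent.Lib.Helper9.Misc.RexB

set_option autoImplicit false
set_option linter.unusedSectionVars false
set_option linter.unusedVariables false

namespace Groth.Agent.H9.Rex

universe u v' u'

open CategoryTheory Limits

section Main

variable {A : Type u} [CommRing A] {B : Type u'} [Category.{v'} B] [Preadditive B]
  [HasFiniteBiproducts B] [HasCokernels B] {K : B} (κ : A →+* End K)

noncomputable def chosen (M : FP A) : Rep κ (M.obj : ModuleCat.{u} A) :=
  haveI : Module.FinitePresentation A (M.obj : ModuleCat.{u} A) := M.property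
  (nonempty_rep κ (M.obj : ModuleCat.{u} A)).some

noncomputable def FF : FP A ⥤ B where
  obj M := (chosen κ M).obj
  map {M N} f := Rep.map (chosen κ M) (chosen κ N) f.hom.hom
  map_id M := Rep.map_id (chosen κ M)
  map_comp {M N P} f g :=
    (Rep.map_comp (chosen κ M) (chosen κ N) (chosen κ P) f.hom.hom g.hom.hom).symm

theorem FF_map {M N : FP A} (f : M ⟶ N) :
    (FF κ).map f = Rep.map (chosen κ M) (chosen κ N) f.hom.hom := rfl

theorem nonempty_isColimit_map {J : Type} [SmallCategory J] [FinCategory J] (D : J ⥤ FP A)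
    (c : Cocone D) (hc : IsColimit c) : Nonempty (IsColimit ((FF κ).mapCocone c)) := by
  refine ⟨IsColimit.ofExistsUnique (fun s => ?_)⟩
  obtain ⟨ψ, hψdef⟩ : ∃ ψ : ∀ j, KLin κ ((D.obj j).obj : ModuleCat.{u} A) s.pt,
      ∀ j m, ψ j m = (chosen κ (D.obj j)).tau m ≫ s.ι.app j :=
    ⟨fun j => (chosen κ (D.obj j)).tau.comp (s.ι.app j), fun j m => rfl⟩
  have hψ : ∀ {j j' : J} (α : j ⟶ j') (m : ((D.obj j).obj : ModuleCat.{u} A)),
      ψ j' (dm D α m) = ψ j m := by
    intro j j' α m
    rw [hψdef, hψdef,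
      ← Rep.tau_map (chosen κ (D.obj j)) (chosen κ (D.obj j')) (D.map α).hom.hom m,
      Category.assoc]
    exact congrArg (fun t => (chosen κ (D.obj j)).tau m ≫ t) (s.w α)
  obtain ⟨Ψ, hΨ⟩ := exists_glue D c κ ψ hc hψ
  refine ⟨(chosen κ c.pt).desc Ψ, ?_, ?_⟩
  · intro j
    apply (chosen κ (D.obj j)).hom_ext
    intro m
    show (chosen κ (D.obj j)).tau m ≫
      Rep.map (chosen κ (D.obj j)) (chosen κ c.pt) (c.ι.app j).hom.hom ≫ _ = _
    rw [← Category.assoc, Rep.tau_map, Rep.tau_desc, ← hψdef]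
    exact hΨ j m
  · intro d' hd'
    apply (chosen κ c.pt).hom_ext
    intro y
    rw [Rep.tau_desc]
    have : (chosen κ c.pt).tau.comp d' = Ψ := by
      apply glue_unique D c κ hc
      intro j m
      rw [hΨ, hψdef]
      show (chosen κ c.pt).tau ((c.ι.app j).hom.hom m) ≫ d' =
        (chosen κ (D.obj j)).tau m ≫ s.ι.app j
      rw [← Rep.tau_map (chosen κ (D.obj j)) (chosen κ c.pt) (c.ι.app j).hom.hom m,
        Category.assoc]
      exact congrArg (fun t => (chosen κ (D.obj j)).tau m ≫ t) (hd' j)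
    exact congrArg (fun t : KLin κ _ s.pt => t y) this

instance : PreservesFiniteColimits (FF κ) :=
  ⟨fun J _ _ => ⟨fun {D} => ⟨fun {c} hc => nonempty_isColimit_map κ D c hc⟩⟩⟩

noncomputable def selfM : Rep κ (ModuleCat.of A A : ModuleCat.{u} A) := self κ

end Main

theorem main (A : Type u) [CommRing A] {B : Type u'} [Category.{v'} B] [Preadditive B]
    [HasFiniteBiproducts B] [HasCokernels B] (K : B) (κ : A →+* End K) :
    ∃ (F : (ObjectProperty.FullSubcategory (fun M : ModuleCat.{u} A => Module.FinitePresentation A M)) ⥤ B) (_ : PreservesFiniteColimits F)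
      (e : F.obj (⟨ModuleCat.of A A, inferInstance⟩ : (ObjectProperty.FullSubcategory (fun M : ModuleCat.{u} A => Module.FinitePresentation A M))) ≅ K),
      ∀ a : A, F.map (ObjectProperty.homMk (ModuleCat.ofHom (LinearMap.lsmul A A a)) : (⟨ModuleCat.of A A, inferInstance⟩ : (ObjectProperty.FullSubcategory (fun M : ModuleCat.{u} A => Module.FinitePresentation A M))) ⟶ (⟨ModuleCat.of A A, inferInstance⟩ : (ObjectProperty.FullSubcategory (fun M : ModuleCat.{u} A => Module.FinitePresentation A M)))) ≫ e.hom = e.hom ≫ κ a := by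
  obtain ⟨Aobj, hAobj⟩ : ∃ Aobj : FP A, Aobj = ⟨ModuleCat.of A A, inferInstance⟩ := ⟨_, rfl⟩
  subst hAobj
  refine ⟨FF κ, inferInstance,
    { hom := Rep.map (chosen κ ⟨ModuleCat.of A A, inferInstance⟩) (selfM κ) LinearMap.id
      inv := Rep.map (selfM κ) (chosen κ ⟨ModuleCat.of A A, inferInstance⟩) LinearMap.id
      hom_inv_id :=
        (Rep.map_comp (chosen κ ⟨ModuleCat.of A A, inferInstance⟩) (selfM κ)
          (chosen κ ⟨ModuleCat.of A A, inferInstance⟩) LinearMap.id LinearMap.id).trans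
          (Rep.map_id _)
      inv_hom_id :=
        (Rep.map_comp (selfM κ) (chosen κ ⟨ModuleCat.of A A, inferInstance⟩)
          (selfM κ) LinearMap.id LinearMap.id).trans
          (Rep.map_id _) }, ?_⟩
  intro a
  apply (chosen κ ⟨ModuleCat.of A A, inferInstance⟩).hom_ext
  intro b
  show (chosen κ ⟨ModuleCat.of A A, inferInstance⟩).tau b ≫
      Rep.map (chosen κ ⟨ModuleCat.of A A, inferInstance⟩)
        (chosen κ ⟨ModuleCat.of A A, inferInstance⟩) (LinearMap.lsmul A A a) ≫
      Rep.map (chosen κ ⟨ModuleCat.of A A, inferInstance⟩) (selfM κ) LinearMap.id =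
    (chosen κ ⟨ModuleCat.of A A, inferInstance⟩).tau b ≫
      Rep.map (chosen κ ⟨ModuleCat.of A A, inferInstance⟩) (selfM κ) LinearMap.id ≫
      (κ a : K ⟶ K)
  rw [← Category.assoc, Rep.tau_map, Rep.tau_map, ← Category.assoc, Rep.tau_map]
  show (κ (a * b) : K ⟶ K) = (κ b : K ⟶ K) ≫ (κ a : K ⟶ K)
  exact kappa_mul κ a b

end Groth.Agent.H9.Rex
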