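import Mathlib
import Groth.Agent.Lib.Helper9.Misc.RexC

set_option autoImplicit false
set_option linter.unusedSectionVars false
set_option linter.unusedVariables false

namespace Groth.Agent.H9.Rex

universe u v' u'

open CategoryTheory Limits

section Add

variable {A : Type u} [CommRing A] {B : Type u'} [Category.{v'} B] [Preadditive B]
  (F : FP A ⥤ B) [PreservesFiniteColimits F]

/-- `F` on linear maps -/
def Fm {M N : FP A} (f : (M.obj : ModuleCat.{u} A) →ₗ[A] (N.obj : ModuleCat.{u} A)) :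
    F.obj M ⟶ F.obj N := F.map (ObjectProperty.homMk (ModuleCat.ofHom f))

theorem Fm_id (M : FP A) :
    Fm F (LinearMap.id : (M.obj : ModuleCat.{u} A) →ₗ[A] (M.obj : ModuleCat.{u} A)) =
      𝟙 (F.obj M) := by
  have h : (ObjectProperty.homMk (ModuleCat.ofHom
      (LinearMap.id : (M.obj : ModuleCat.{u} A) →ₗ[A] (M.obj : ModuleCat.{u} A))) : M ⟶ M) = 𝟙 M := by
    apply ObjectProperty.hom_ext
    rfl
  unfold Fm
  rw [h, F.map_id]

theorem Fm_comp {M N P : FP A} (f : (M.obj : ModuleCat.{u} A) →ₗ[A] (N.obj : ModuleCat.{u} A))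
    (g : (N.obj : ModuleCat.{u} A) →ₗ[A] (P.obj : ModuleCat.{u} A)) :
    Fm F (g ∘ₗ f) = Fm F f ≫ Fm F g := by
  have h : (ObjectProperty.homMk (ModuleCat.ofHom (g ∘ₗ f)) : M ⟶ P) =
      ObjectProperty.homMk (ModuleCat.ofHom f) ≫ ObjectProperty.homMk (ModuleCat.ofHom g) := by
    apply ObjectProperty.hom_ext
    rfl
  unfold Fm
  rw [h, F.map_comp]

theorem Fm_hom {M N : FP A} (f : M ⟶ N) : Fm F f.hom.hom = F.map f := by
  have h : (ObjectProperty.homMk (ModuleCat.ofHom f.hom.hom) : M ⟶ N) = f := by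
    apply ObjectProperty.hom_ext
    rfl
  unfold Fm
  rw [h]

/-- the zero object -/
abbrev Zobj : FP A := ⟨ModuleCat.of A PUnit.{u+1}, inferInstance⟩

def Zinit : IsInitial (Zobj : FP A) :=
  IsInitial.ofUniqueHom (fun Y => ObjectProperty.homMk (ModuleCat.ofHom 0))
    (fun Y m => by
      apply ObjectProperty.hom_ext
      apply ModuleCat.hom_ext
      apply LinearMap.ext
      intro x
      have hx : x = 0 := Subsingleton.elim _ _
      subst hx
      simp)

theorem Fm_to_Z {M : FP A}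
    (f : (M.obj : ModuleCat.{u} A) →ₗ[A] ((Zobj : FP A).obj : ModuleCat.{u} A)) :
    Fm F f = 0 := by
  have hI : IsInitial (F.obj (Zobj : FP A)) := IsInitial.isInitialObj F _ Zinit
  have hid : 𝟙 (F.obj (Zobj : FP A)) = 0 := hI.hom_ext _ _
  calc Fm F f = Fm F f ≫ 𝟙 _ := (Category.comp_id _).symm
    _ = 0 := by rw [hid, comp_zero]

theorem Fm_zero (M N : FP A) :
    Fm F (0 : (M.obj : ModuleCat.{u} A) →ₗ[A] (N.obj : ModuleCat.{u} A)) = 0 := by
  have h : (0 : (M.obj : ModuleCat.{u} A) →ₗ[A] (N.obj : ModuleCat.{u} A)) =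
      (0 : ((Zobj : FP A).obj : ModuleCat.{u} A) →ₗ[A] (N.obj : ModuleCat.{u} A)) ∘ₗ
        (0 : (M.obj : ModuleCat.{u} A) →ₗ[A] ((Zobj : FP A).obj : ModuleCat.{u} A)) := by
    rw [LinearMap.zero_comp]
  rw [h, Fm_comp, Fm_to_Z, zero_comp]

/-- binary coproduct -/
abbrev Pobj (M N : FP A) : FP A :=
  ⟨ModuleCat.of A (Prod (M.obj : ModuleCat.{u} A) (N.obj : ModuleCat.{u} A)), by
    haveI : Module.FinitePresentation A (M.obj : ModuleCat.{u} A) := M.property
    haveI : Module.FinitePresentation A (N.obj : ModuleCat.{u} A) := N.property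
    exact Module.FinitePresentation.prod _ _⟩

def Pinl (M N : FP A) : M ⟶ Pobj M N :=
  ObjectProperty.homMk (ModuleCat.ofHom
    (LinearMap.inl A (M.obj : ModuleCat.{u} A) (N.obj : ModuleCat.{u} A)))

def Pinr (M N : FP A) : N ⟶ Pobj M N :=
  ObjectProperty.homMk (ModuleCat.ofHom
    (LinearMap.inr A (M.obj : ModuleCat.{u} A) (N.obj : ModuleCat.{u} A)))

def cofanL {M N : FP A} (s : BinaryCofan M N) :
    (M.obj : ModuleCat.{u} A) →ₗ[A] (s.pt.obj : ModuleCat.{u} A) := s.inl.hom.hom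

def cofanR {M N : FP A} (s : BinaryCofan M N) :
    (N.obj : ModuleCat.{u} A) →ₗ[A] (s.pt.obj : ModuleCat.{u} A) := s.inr.hom.hom

def Pobj_isColimit (M N : FP A) : IsColimit (BinaryCofan.mk (Pinl M N) (Pinr M N)) :=
  BinaryCofan.isColimitMk
    (fun s => ObjectProperty.homMk (ModuleCat.ofHom ((cofanL s).coprod (cofanR s))))
    (fun s => by
      apply ObjectProperty.hom_ext
      apply ModuleCat.hom_ext
      apply LinearMap.ext
      intro x
      show (cofanL s) x + (cofanR s) 0 = (cofanL s) x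
      rw [map_zero, add_zero])
    (fun s => by
      apply ObjectProperty.hom_ext
      apply ModuleCat.hom_ext
      apply LinearMap.ext
      intro x
      show (cofanL s) 0 + (cofanR s) x = (cofanR s) x
      rw [map_zero, zero_add])
    (fun s m h₁ h₂ => by
      apply ObjectProperty.hom_ext
      apply ModuleCat.hom_ext
      apply LinearMap.ext
      rintro ⟨x, y⟩
      have e1 : m.hom.hom (x, 0) = (cofanL s) x :=
        congrArg (fun t : M ⟶ s.pt => t.hom.hom x) h₁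
      have e2 : m.hom.hom (0, y) = (cofanR s) y :=
        congrArg (fun t : N ⟶ s.pt => t.hom.hom y) h₂
      show m.hom.hom (x, y) = (cofanL s) x + (cofanR s) y
      rw [← e1, ← e2, ← map_add]
      simp)

theorem Fm_add {M N : FP A} (f g : (M.obj : ModuleCat.{u} A) →ₗ[A] (N.obj : ModuleCat.{u} A)) :
    Fm F (f + g) = Fm F f + Fm F g := by
  have hB : IsColimit (BinaryCofan.mk (F.map (Pinl M M)) (F.map (Pinr M M))) :=
    mapIsColimitOfPreservesOfIsColimit F _ _ (Pobj_isColimit M M)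
  obtain ⟨i1, hi1⟩ : ∃ i1 : F.obj M ⟶ F.obj (Pobj M M), i1 = Fm F (M := M) (N := Pobj M M)
      (LinearMap.inl A (M.obj : ModuleCat.{u} A) (M.obj : ModuleCat.{u} A)) :=
    ⟨Fm F (M := M) (N := Pobj M M)
      (LinearMap.inl A (M.obj : ModuleCat.{u} A) (M.obj : ModuleCat.{u} A)), rfl⟩
  obtain ⟨i2, hi2⟩ : ∃ i2 : F.obj M ⟶ F.obj (Pobj M M), i2 = Fm F (M := M) (N := Pobj M M)
      (LinearMap.inr A (M.obj : ModuleCat.{u} A) (M.obj : ModuleCat.{u} A)) :=
    ⟨Fm F (M := M) (N := Pobj M M)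
      (LinearMap.inr A (M.obj : ModuleCat.{u} A) (M.obj : ModuleCat.{u} A)), rfl⟩
  obtain ⟨p1, hp1⟩ : ∃ p1 : F.obj (Pobj M M) ⟶ F.obj M, p1 = Fm F (M := Pobj M M) (N := M)
      (LinearMap.fst A (M.obj : ModuleCat.{u} A) (M.obj : ModuleCat.{u} A)) :=
    ⟨Fm F (M := Pobj M M) (N := M)
      (LinearMap.fst A (M.obj : ModuleCat.{u} A) (M.obj : ModuleCat.{u} A)), rfl⟩
  obtain ⟨p2, hp2⟩ : ∃ p2 : F.obj (Pobj M M) ⟶ F.obj M, p2 = Fm F (M := Pobj M M) (N := M)
      (LinearMap.snd A (M.obj : ModuleCat.{u} A) (M.obj : ModuleCat.{u} A)) :=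
    ⟨Fm F (M := Pobj M M) (N := M)
      (LinearMap.snd A (M.obj : ModuleCat.{u} A) (M.obj : ModuleCat.{u} A)), rfl⟩
  have h11 : i1 ≫ p1 = 𝟙 _ := by
    rw [hi1, hp1, ← Fm_comp, LinearMap.fst_comp_inl, Fm_id]
  have h12 : i1 ≫ p2 = 0 := by
    rw [hi1, hp2, ← Fm_comp, LinearMap.snd_comp_inl, Fm_zero]
  have h21 : i2 ≫ p1 = 0 := by
    rw [hi2, hp1, ← Fm_comp, LinearMap.fst_comp_inr, Fm_zero]
  have h22 : i2 ≫ p2 = 𝟙 _ := by
    rw [hi2, hp2, ← Fm_comp, LinearMap.snd_comp_inr, Fm_id]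
  have hid : 𝟙 (F.obj (Pobj M M)) = p1 ≫ i1 + p2 ≫ i2 := by
    have hi1' : F.map (Pinl M M) = i1 := hi1.symm
    have hi2' : F.map (Pinr M M) = i2 := hi2.symm
    apply BinaryCofan.IsColimit.hom_ext hB
    · rw [BinaryCofan.mk_inl, hi1']
      show (i1 ≫ 𝟙 (F.obj (Pobj M M)) : F.obj M ⟶ F.obj (Pobj M M)) = i1 ≫ (p1 ≫ i1 + p2 ≫ i2)
      rw [Category.comp_id, Preadditive.comp_add, ← Category.assoc, ← Category.assoc, h11, h12,
        Category.id_comp, zero_comp, add_zero]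
    · rw [BinaryCofan.mk_inr, hi2']
      show (i2 ≫ 𝟙 (F.obj (Pobj M M)) : F.obj M ⟶ F.obj (Pobj M M)) = i2 ≫ (p1 ≫ i1 + p2 ≫ i2)
      rw [Category.comp_id, Preadditive.comp_add, ← Category.assoc, ← Category.assoc, h21, h22,
        Category.id_comp, zero_comp, zero_add]
  have hΔ : Fm F (LinearMap.prod (LinearMap.id : (M.obj : ModuleCat.{u} A) →ₗ[A] _)
      (LinearMap.id : (M.obj : ModuleCat.{u} A) →ₗ[A] _) :
      (M.obj : ModuleCat.{u} A) →ₗ[A] ((Pobj M M).obj : ModuleCat.{u} A)) = i1 + i2 := by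
    have e1 : Fm F (LinearMap.prod (LinearMap.id : (M.obj : ModuleCat.{u} A) →ₗ[A] _)
        (LinearMap.id : (M.obj : ModuleCat.{u} A) →ₗ[A] _) :
        (M.obj : ModuleCat.{u} A) →ₗ[A] ((Pobj M M).obj : ModuleCat.{u} A)) ≫ p1 = 𝟙 _ := by
      rw [hp1, ← Fm_comp, LinearMap.fst_prod, Fm_id]
    have e2 : Fm F (LinearMap.prod (LinearMap.id : (M.obj : ModuleCat.{u} A) →ₗ[A] _)
        (LinearMap.id : (M.obj : ModuleCat.{u} A) →ₗ[A] _) :
        (M.obj : ModuleCat.{u} A) →ₗ[A] ((Pobj M M).obj : ModuleCat.{u} A)) ≫ p2 = 𝟙 _ := by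
      rw [hp2, ← Fm_comp, LinearMap.snd_prod, Fm_id]
    have h := congrArg (fun t => Fm F (LinearMap.prod
      (LinearMap.id : (M.obj : ModuleCat.{u} A) →ₗ[A] _)
      (LinearMap.id : (M.obj : ModuleCat.{u} A) →ₗ[A] _) :
      (M.obj : ModuleCat.{u} A) →ₗ[A] ((Pobj M M).obj : ModuleCat.{u} A)) ≫ t) hid
    simp only [Category.comp_id, Preadditive.comp_add] at h
    rw [← Category.assoc, ← Category.assoc, e1, e2, Category.id_comp, Category.id_comp] at h
    exact h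
  have hfg : f + g = (f.coprod g) ∘ₗ (LinearMap.prod
      (LinearMap.id : (M.obj : ModuleCat.{u} A) →ₗ[A] _)
      (LinearMap.id : (M.obj : ModuleCat.{u} A) →ₗ[A] _)) := by
    apply LinearMap.ext
    intro x
    simp
  have hc := Fm_comp F (M := M) (N := Pobj M M) (P := N) (LinearMap.prod
      (LinearMap.id : (M.obj : ModuleCat.{u} A) →ₗ[A] _)
      (LinearMap.id : (M.obj : ModuleCat.{u} A) →ₗ[A] _) :
      (M.obj : ModuleCat.{u} A) →ₗ[A] ((Pobj M M).obj : ModuleCat.{u} A))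
      (f.coprod g : ((Pobj M M).obj : ModuleCat.{u} A) →ₗ[A] (N.obj : ModuleCat.{u} A))
  rw [hfg]
  refine hc.trans ?_
  rw [hΔ, Preadditive.add_comp, hi1, hi2, ← Fm_comp, ← Fm_comp, LinearMap.coprod_inl,
    LinearMap.coprod_inr]

theorem Fm_sum {ι : Type*} {M N : FP A} (s : Finset ι)
    (f : ι → ((M.obj : ModuleCat.{u} A) →ₗ[A] (N.obj : ModuleCat.{u} A))) :
    Fm F (∑ i ∈ s, f i) = ∑ i ∈ s, Fm F (f i) := by
  classical
  induction s using Finset.induction_on with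
  | empty => rw [Finset.sum_empty, Finset.sum_empty, Fm_zero]
  | insert a s ha ih => rw [Finset.sum_insert ha, Finset.sum_insert ha, Fm_add, ih]

end Add

end Groth.Agent.H9.Rex
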