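import Mathlib
import Groth.Agent.Lib.Helper9.Misc.RexD

set_option autoImplicit false
set_option linter.unusedSectionVars false
set_option linter.unusedVariables false

namespace Groth.Agent.H9.Rex

universe u v' u'

open CategoryTheory Limits

section Full

variable {A : Type u} [CommRing A] {B : Type u'} [Category.{v'} B] [Preadditive B]
  (F : FP A ⥤ B) [PreservesFiniteColimits F]

abbrev AA : FP A := ⟨ModuleCat.of A A, inferInstance⟩

/-- the ring action on `F(A)` -/
noncomputable def kap : A →+* End (F.obj (AA : FP A)) where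
  toFun a := Fm F (M := AA) (N := AA) (LinearMap.lsmul A A a)
  map_one' := by
    show Fm F (M := AA) (N := AA) (LinearMap.lsmul A A 1) = 𝟙 _
    have h : (LinearMap.lsmul A A 1 : A →ₗ[A] A) = LinearMap.id := by
      apply LinearMap.ext; intro x; simp
    rw [h]
    exact Fm_id F AA
  map_mul' a b := by
    show Fm F (M := AA) (N := AA) (LinearMap.lsmul A A (a * b)) =
      Fm F (M := AA) (N := AA) (LinearMap.lsmul A A b) ≫
        Fm F (M := AA) (N := AA) (LinearMap.lsmul A A a)
    have h : (LinearMap.lsmul A A (a * b) : A →ₗ[A] A) =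
        (LinearMap.lsmul A A a) ∘ₗ (LinearMap.lsmul A A b) := by
      apply LinearMap.ext; intro x; simp [mul_assoc]
    rw [h]
    exact Fm_comp F (M := AA) (N := AA) (P := AA) _ _
  map_zero' := by
    show Fm F (M := AA) (N := AA) (LinearMap.lsmul A A 0) = 0
    rw [map_zero]
    exact Fm_zero F AA AA
  map_add' a b := by
    show Fm F (M := AA) (N := AA) (LinearMap.lsmul A A (a + b)) =
      Fm F (M := AA) (N := AA) (LinearMap.lsmul A A a) +
        Fm F (M := AA) (N := AA) (LinearMap.lsmul A A b)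
    rw [map_add]
    exact Fm_add F (M := AA) (N := AA) _ _

theorem kap_apply (a : A) :
    (kap F a : F.obj (AA : FP A) ⟶ F.obj AA) =
      Fm F (M := AA) (N := AA) (LinearMap.lsmul A A a) := rfl

/-- the element map `A → M` -/
abbrev elt (M : FP A) (m : (M.obj : ModuleCat.{u} A)) :
    ((AA : FP A).obj : ModuleCat.{u} A) →ₗ[A] (M.obj : ModuleCat.{u} A) :=
  LinearMap.toSpanSingleton A (M.obj : ModuleCat.{u} A) m

theorem elt_apply (M : FP A) (m : (M.obj : ModuleCat.{u} A)) (a : A) :
    elt M m a = a • m := rfl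

theorem elt_add (M : FP A) (m m' : (M.obj : ModuleCat.{u} A)) :
    elt M (m + m') = elt M m + elt M m' := by
  apply LinearMap.ext; intro a
  show a • (m + m') = a • m + a • m'
  rw [smul_add]

theorem elt_smul (M : FP A) (a : A) (m : (M.obj : ModuleCat.{u} A)) :
    elt M (a • m) = (elt M m) ∘ₗ (LinearMap.lsmul A A a) := by
  apply LinearMap.ext; intro b
  show b • (a • m) = (a • b) • m
  rw [smul_smul, smul_eq_mul, mul_comm]

theorem comp_elt {M N : FP A}
    (f : (M.obj : ModuleCat.{u} A) →ₗ[A] (N.obj : ModuleCat.{u} A)) (m : (M.obj : ModuleCat.{u} A)) :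
    f ∘ₗ (elt M m) = elt N (f m) := by
  apply LinearMap.ext; intro b
  show f (b • m) = b • f m
  rw [map_smul]

theorem elt_AA (a : A) : elt (AA : FP A) a = LinearMap.lsmul A A a := by
  apply LinearMap.ext; intro b
  show b • a = a • b
  rw [smul_eq_mul, smul_eq_mul, mul_comm]

noncomputable def tauF (M : FP A) :
    KLin (kap F) (M.obj : ModuleCat.{u} A) (F.obj M) where
  toFun m := Fm F (M := AA) (N := M) (elt M m)
  map_add' m m' := by
    rw [elt_add]
    exact Fm_add F (M := AA) (N := M) _ _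
  map_smul' a m := by
    show Fm F (M := AA) (N := M) (elt M (a • m)) =
      Fm F (M := AA) (N := AA) (LinearMap.lsmul A A a) ≫ Fm F (M := AA) (N := M) (elt M m)
    rw [elt_smul]
    exact Fm_comp F (M := AA) (N := AA) (P := M) _ _

theorem tauF_apply (M : FP A) (m : (M.obj : ModuleCat.{u} A)) :
    tauF F M m = Fm F (M := AA) (N := M) (elt M m) := rfl

theorem tauF_comp {M N : FP A}
    (f : (M.obj : ModuleCat.{u} A) →ₗ[A] (N.obj : ModuleCat.{u} A)) (m : (M.obj : ModuleCat.{u} A)) :
    tauF F M m ≫ Fm F f = tauF F N (f m) := by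
  rw [tauF_apply, tauF_apply, ← comp_elt f m]
  exact (Fm_comp F (M := AA) (N := M) (P := N) _ _).symm

/-- free objects -/
abbrev Fn (n : ℕ) : FP A := ⟨ModuleCat.of A (Fin n → A), inferInstance⟩

abbrev sg (n : ℕ) (i : Fin n) :
    ((AA : FP A).obj : ModuleCat.{u} A) →ₗ[A] ((Fn n : FP A).obj : ModuleCat.{u} A) :=
  LinearMap.single A (fun _ : Fin n => A) i

abbrev pj (n : ℕ) (i : Fin n) :
    ((Fn n : FP A).obj : ModuleCat.{u} A) →ₗ[A] ((AA : FP A).obj : ModuleCat.{u} A) :=
  LinearMap.proj i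

theorem sum_sg_pj (n : ℕ) :
    ∑ i, (sg (A := A) n i) ∘ₗ (pj n i) = LinearMap.id := by
  apply LinearMap.ext; intro x
  funext j
  simp [LinearMap.sum_apply, Finset.sum_apply, Pi.single_apply]

theorem hsum_Fn (n : ℕ) :
    𝟙 (F.obj (Fn n : FP A)) =
      ∑ i, Fm F (M := Fn n) (N := AA) (pj n i) ≫ Fm F (M := AA) (N := Fn n) (sg n i) := by
  rw [← Fm_id F (Fn n), ← sum_sg_pj n, Fm_sum]
  refine Finset.sum_congr rfl (fun i _ => ?_)
  exact Fm_comp F (M := Fn n) (N := AA) (P := Fn n) _ _

theorem hom_ext_Fn (n : ℕ) {X : B} (a b : F.obj (Fn n : FP A) ⟶ X)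
    (h : ∀ i, Fm F (M := AA) (N := Fn n) (sg n i) ≫ a = Fm F (M := AA) (N := Fn n) (sg n i) ≫ b) :
    a = b := by
  have ha := congrArg (fun t => t ≫ a) (hsum_Fn F n)
  have hb := congrArg (fun t => t ≫ b) (hsum_Fn F n)
  simp only [Category.id_comp, Preadditive.sum_comp, Category.assoc] at ha hb
  rw [ha, hb]
  refine Finset.sum_congr rfl (fun i _ => ?_)
  rw [h i]

theorem sg_eq_elt (n : ℕ) (i : Fin n) :
    sg (A := A) n i = elt (Fn n : FP A) (Pi.single i 1) := by
  apply LinearMap.ext; intro a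
  funext j
  show (Pi.single i a : Fin n → A) j = (a • (Pi.single i (1:A) : Fin n → A)) j
  simp [Pi.single_apply]

theorem elt_Fn (n : ℕ) (v : Fin n → A) :
    elt (Fn n : FP A) v = ∑ i, (sg n i) ∘ₗ (LinearMap.lsmul A A (v i)) := by
  apply LinearMap.ext; intro a
  funext j
  simp [LinearMap.sum_apply, Finset.sum_apply, Pi.single_apply, mul_comm]

end Full

end Groth.Agent.H9.Rex
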