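import Mathlib
import Groth.Agent.Lib.Helper9.Misc.RexE

set_option autoImplicit false
set_option linter.unusedSectionVars false
set_option linter.unusedVariables false

namespace Groth.Agent.H9.Rex

universe u v' u'

open CategoryTheory Limits

section Factor

variable {A : Type u} [CommRing A]

theorem exists_factor {N M P : Type u} [AddCommGroup N] [Module A N] [AddCommGroup M] [Module A M]
    [AddCommGroup P] [Module A P] (f : N →ₗ[A] M) (hf : Function.Surjective f)
    (h : N →ₗ[A] P) (hle : LinearMap.ker f ≤ LinearMap.ker h) :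
    ∃ h' : M →ₗ[A] P, ∀ x, h' (f x) = h x := by
  refine ⟨(LinearMap.ker f).liftQ h hle ∘ₗ (f.quotKerEquivOfSurjective hf).symm.toLinearMap, ?_⟩
  intro x
  simp only [LinearMap.comp_apply, LinearEquiv.coe_coe]
  have : (f.quotKerEquivOfSurjective hf).symm (f x) = Submodule.Quotient.mk x := by
    rw [LinearEquiv.symm_apply_eq]
    rfl
  rw [this, Submodule.liftQ_apply]

end Factor

section Pres

variable {A : Type u} [CommRing A] {M : FP A} {n m : ℕ}
  (f : (Fin n → A) →ₗ[A] (M.obj : ModuleCat.{u} A)) (g : (Fin m → A) →ₗ[A] (Fin n → A))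
  (hf : Function.Surjective f) (hex : Function.Exact g f)

def gM : (Fn m : FP A) ⟶ Fn n := ObjectProperty.homMk (ModuleCat.ofHom g)

def zM (n m : ℕ) : (Fn m : FP A) ⟶ Fn n :=
  ObjectProperty.homMk (ModuleCat.ofHom (0 : (Fin m → A) →ₗ[A] (Fin n → A)))

def piM : (Fn n : FP A) ⟶ M := ObjectProperty.homMk (ModuleCat.ofHom f)

include hex in
theorem cofork_w : gM g ≫ piM f = zM n m ≫ piM f := by
  apply ObjectProperty.hom_ext
  apply ModuleCat.hom_ext
  apply LinearMap.ext
  intro x
  show f (g x) = f 0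
  rw [hex.apply_apply_eq_zero, map_zero]

def coforkPi (s : Cofork (gM g) (zM n m)) :
    (Fin n → A) →ₗ[A] (s.pt.obj : ModuleCat.{u} A) := s.π.hom.hom

include hex in
theorem coforkPi_le (s : Cofork (gM g) (zM n m)) :
    LinearMap.ker f ≤ LinearMap.ker (coforkPi g s) := by
  intro x hx
  obtain ⟨y, rfl⟩ := (hex x).mp (LinearMap.mem_ker.mp hx)
  rw [LinearMap.mem_ker]
  have h := congrArg (fun t : (Fn m : FP A) ⟶ s.pt => t.hom.hom y) s.condition
  have h' : coforkPi g s (g y) = coforkPi g s 0 := h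
  rw [h', map_zero]

noncomputable def coforkIsColimit : IsColimit (Cofork.ofπ (piM f) (cofork_w f g hex)) :=
  Cofork.IsColimit.mk _
    (fun s => ObjectProperty.homMk (ModuleCat.ofHom
      (Classical.choose (exists_factor f hf (coforkPi g s) (coforkPi_le f g hex s)))))
    (fun s => by
      apply ObjectProperty.hom_ext
      apply ModuleCat.hom_ext
      apply LinearMap.ext
      intro x
      exact Classical.choose_spec (exists_factor f hf (coforkPi g s) (coforkPi_le f g hex s)) x)
    (fun s k hk => by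
      apply ObjectProperty.hom_ext
      apply ModuleCat.hom_ext
      apply LinearMap.ext
      intro y
      obtain ⟨x, rfl⟩ := hf y
      have h1 : k.hom.hom (f x) = coforkPi g s x :=
        congrArg (fun t : (Fn n : FP A) ⟶ s.pt => t.hom.hom x) hk
      have h2 := Classical.choose_spec
        (exists_factor f hf (coforkPi g s) (coforkPi_le f g hex s)) x
      exact h1.trans h2.symm)

end Pres

section RepF

variable {A : Type u} [CommRing A] {B : Type u'} [Category.{v'} B] [Preadditive B]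
  (F : FP A ⥤ B) [PreservesFiniteColimits F]

theorem sg_comp_tau {M : FP A} {n : ℕ}
    (f : (Fin n → A) →ₗ[A] (M.obj : ModuleCat.{u} A)) (i : Fin n) :
    Fm F (M := AA) (N := Fn n) (sg n i) ≫ F.map (piM f) = tauF F M (f (Pi.single i 1)) := by
  have h := tauF_comp F (M := Fn n) (N := M) f (Pi.single i 1)
  rw [tauF_apply, ← sg_eq_elt] at h
  exact h

theorem sg_comp_g {n m : ℕ} (g : (Fin m → A) →ₗ[A] (Fin n → A)) (k : Fin m) :
    Fm F (M := AA) (N := Fn m) (sg m k) ≫ F.map (gM g) = tauF F (Fn n) (g (Pi.single k 1)) := by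
  have h := tauF_comp F (M := Fn m) (N := Fn n) g (Pi.single k 1)
  rw [tauF_apply, ← sg_eq_elt] at h
  exact h

theorem pj_sg_same (n : ℕ) (j : Fin n) :
    (pj (A := A) n j) ∘ₗ (sg n j) = LinearMap.id := by
  apply LinearMap.ext; intro a
  show (Pi.single j a : Fin n → A) j = a
  rw [Pi.single_eq_same]

theorem pj_sg_ne (n : ℕ) (i j : Fin n) (h : i ≠ j) :
    (pj (A := A) n i) ∘ₗ (sg n j) = 0 := by
  apply LinearMap.ext; intro a
  show (Pi.single j a : Fin n → A) i = 0
  rw [Pi.single_eq_of_ne h]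

theorem exists_desc_F (M : FP A) {X : B} (ψ : KLin (kap F) (M.obj : ModuleCat.{u} A) X) :
    ∃ φ : F.obj M ⟶ X, (tauF F M).comp φ = ψ := by
  haveI : Module.FinitePresentation A (M.obj : ModuleCat.{u} A) := M.property
  obtain ⟨n, m, f, g, hf, hex⟩ :=
    Module.FinitePresentation.exists_fin' A (M.obj : ModuleCat.{u} A)
  obtain ⟨h, hh⟩ : ∃ h : F.obj (Fn n : FP A) ⟶ X,
      h = ∑ i, Fm F (M := Fn n) (N := AA) (pj n i) ≫ ψ (f (Pi.single i 1)) := ⟨_, rfl⟩
  have hsg : ∀ j, Fm F (M := AA) (N := Fn n) (sg n j) ≫ h = ψ (f (Pi.single j 1)) := by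
    intro j
    rw [hh, Preadditive.comp_sum, Finset.sum_eq_single j]
    · rw [← Category.assoc, ← Fm_comp, pj_sg_same, Fm_id, Category.id_comp]
    · intro i _ hij
      rw [← Category.assoc, ← Fm_comp, pj_sg_ne n i j hij, Fm_zero, zero_comp]
    · intro hj
      exact absurd (Finset.mem_univ j) hj
  have hC : ∀ v : Fin n → A, tauF F (Fn n) v ≫ h = ψ (f v) := by
    intro v
    have hv : v = ∑ i, v i • (Pi.single i (1:A) : Fin n → A) := by
      funext j
      simp [Finset.sum_apply, Pi.single_apply]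
    have hfv : f v = ∑ i, v i • f (Pi.single i 1) := by
      conv_lhs => rw [hv]
      rw [map_sum]
      simp only [map_smul]
    rw [tauF_apply, elt_Fn, Fm_sum, Preadditive.sum_comp, hfv, KLin.map_sum]
    refine Finset.sum_congr rfl (fun i _ => ?_)
    rw [Fm_comp, Category.assoc, hsg, KLin.map_smul]
    rfl
  have hcof := isColimitCoforkMapOfIsColimit F (cofork_w f g hex) (coforkIsColimit f g hf hex)
  have hgz : F.map (gM g) ≫ h = F.map (zM n m) ≫ h := by
    have hz : F.map (zM (A := A) n m) = 0 := Fm_zero F (Fn m) (Fn n)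
    rw [hz, zero_comp]
    apply hom_ext_Fn F m
    intro k
    rw [comp_zero, ← Category.assoc, sg_comp_g, hC, hex.apply_apply_eq_zero, KLin.map_zero]
  obtain ⟨φ, hφ⟩ := Cofork.IsColimit.desc' hcof h hgz
  have hφ' : F.map (piM f) ≫ φ = h := hφ
  refine ⟨φ, KLin.ext (fun y => ?_)⟩
  obtain ⟨v, rfl⟩ := hf y
  rw [KLin.comp_apply]
  have h1 : tauF F M (f v) = tauF F (Fn n) v ≫ F.map (piM f) :=
    (tauF_comp F (M := Fn n) (N := M) f v).symm
  rw [h1, Category.assoc, hφ', hC]

theorem hom_ext_F (M : FP A) {X : B} (φ φ' : F.obj M ⟶ X)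
    (h : ∀ y, tauF F M y ≫ φ = tauF F M y ≫ φ') : φ = φ' := by
  haveI : Module.FinitePresentation A (M.obj : ModuleCat.{u} A) := M.property
  obtain ⟨n, m, f, g, hf, hex⟩ :=
    Module.FinitePresentation.exists_fin' A (M.obj : ModuleCat.{u} A)
  have hcof := isColimitCoforkMapOfIsColimit F (cofork_w f g hex) (coforkIsColimit f g hf hex)
  apply Cofork.IsColimit.hom_ext hcof
  show F.map (piM f) ≫ φ = F.map (piM f) ≫ φ'
  apply hom_ext_Fn F n
  intro i
  rw [← Category.assoc, ← Category.assoc, sg_comp_tau]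
  exact h _

noncomputable def RepF (M : FP A) : Rep (kap F) (M.obj : ModuleCat.{u} A) where
  obj := F.obj M
  tau := tauF F M
  exists_desc := fun ψ => exists_desc_F F M ψ
  hom_ext' := fun φ φ' h => hom_ext_F F M φ φ' h

end RepF

end Groth.Agent.H9.Rex
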