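import Mathlib

set_option autoImplicit false
set_option linter.style.haveILetI false
set_option linter.unusedSectionVars false
set_option linter.unusedVariables false

/-!
# Murray–von Neumann equivalence of idempotent matrices and presentations of
finite projective modules by idempotent matrices.
-/

namespace Groth.Agent.H9.MVN

open Matrix TensorProduct

universe u v w

section defs

variable {R : Type*} [CommRing R]

/-- Murray–von Neumann equivalence of (idempotent) square matrices of possibly
different sizes: `e = v u`, `e' = u v`. -/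
def MvN {ι κ : Type*} [Fintype ι] [Fintype κ]
    (e : Matrix ι ι R) (e' : Matrix κ κ R) : Prop :=
  ∃ (u : Matrix κ ι R) (v : Matrix ι κ R), v * u = e ∧ u * v = e'

variable {ι κ μ : Type*} [Fintype ι] [Fintype κ] [Fintype μ]

theorem MvN.refl {e : Matrix ι ι R} (he : e * e = e) : MvN e e := ⟨e, e, he, he⟩

theorem MvN.symm {e : Matrix ι ι R} {e' : Matrix κ κ R} (h : MvN e e') : MvN e' e := by
  obtain ⟨u, v, h1, h2⟩ := h
  exact ⟨v, u, h2, h1⟩

theorem MvN.trans {e : Matrix ι ι R} {e' : Matrix κ κ R} {e'' : Matrix μ μ R}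
    (h1 : MvN e e') (h2 : MvN e' e'') (he : e * e = e) (he'' : e'' * e'' = e'') :
    MvN e e'' := by
  obtain ⟨u, v, hvu, huv⟩ := h1
  obtain ⟨u', v', hvu', huv'⟩ := h2
  refine ⟨u' * u, v * v', ?_, ?_⟩
  · calc v * v' * (u' * u) = v * (v' * u') * u := by simp only [Matrix.mul_assoc]
      _ = v * (u * v) * u := by rw [hvu', huv]
      _ = (v * u) * (v * u) := by simp only [Matrix.mul_assoc]
      _ = e := by rw [hvu, he]
  · calc u' * u * (v * v') = u' * (u * v) * v' := by simp only [Matrix.mul_assoc]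
      _ = u' * (v' * u') * v' := by rw [huv, hvu']
      _ = (u' * v') * (u' * v') := by simp only [Matrix.mul_assoc]
      _ = e'' := by rw [huv', he'']

theorem MvN.map {S : Type*} [CommRing S] (f : R →+* S) {e : Matrix ι ι R} {e' : Matrix κ κ R}
    (h : MvN e e') : MvN (e.map f) (e'.map f) := by
  obtain ⟨u, v, h1, h2⟩ := h
  refine ⟨u.map f, v.map f, ?_, ?_⟩
  · rw [← Matrix.map_mul, h1]
  · rw [← Matrix.map_mul, h2]

/-- One can always normalise the witnesses. -/
theorem MvN.exists_normalized {e : Matrix ι ι R} {e' : Matrix κ κ R} (h : MvN e e')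
    (he : e * e = e) (he' : e' * e' = e') :
    ∃ (u : Matrix κ ι R) (v : Matrix ι κ R), v * u = e ∧ u * v = e' ∧
      e' * u = u ∧ u * e = u ∧ e * v = v ∧ v * e' = v := by
  obtain ⟨u, v, hvu, huv⟩ := h
  have h1 : u * e * v = e' := by
    calc u * e * v = u * (v * u) * v := by rw [hvu]
      _ = (u * v) * (u * v) := by simp only [Matrix.mul_assoc]
      _ = e' := by rw [huv, he']
  have h2 : v * e' * u = e := by
    calc v * e' * u = v * (u * v) * u := by rw [huv]
      _ = (v * u) * (v * u) := by simp only [Matrix.mul_assoc]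
      _ = e := by rw [hvu, he]
  refine ⟨e' * u * e, e * v * e', ?_, ?_, ?_, ?_, ?_, ?_⟩
  · calc e * v * e' * (e' * u * e) = e * (v * (e' * e') * u) * e := by
          simp only [Matrix.mul_assoc]
      _ = e * (v * e' * u) * e := by rw [he']
      _ = e := by rw [h2, he, he]
  · calc e' * u * e * (e * v * e') = e' * (u * (e * e) * v) * e' := by
          simp only [Matrix.mul_assoc]
      _ = e' * (u * e * v) * e' := by rw [he]
      _ = e' := by rw [h1, he', he']
  · calc e' * (e' * u * e) = (e' * e') * u * e := by simp only [Matrix.mul_assoc]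
      _ = e' * u * e := by rw [he']
  · calc e' * u * e * e = e' * u * (e * e) := by simp only [Matrix.mul_assoc]
      _ = e' * u * e := by rw [he]
  · calc e * (e * v * e') = (e * e) * v * e' := by simp only [Matrix.mul_assoc]
      _ = e * v * e' := by rw [he]
  · calc e * v * e' * e' = e * v * (e' * e') := by simp only [Matrix.mul_assoc]
      _ = e * v * e' := by rw [he']

end defs

section pres

variable (R : Type*) [CommRing R] (M : Type*) [AddCommGroup M] [Module R M]
variable {ι : Type*} [Fintype ι] [DecidableEq ι]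

/-- `M` is presented as the image of the idempotent matrix `e`. -/
def Pres (e : Matrix ι ι R) : Prop :=
  ∃ (i : M →ₗ[R] (ι → R)) (p : (ι → R) →ₗ[R] M),
    p ∘ₗ i = LinearMap.id ∧ i ∘ₗ p = Matrix.toLin' e

variable {R M}

theorem Pres.idem {e : Matrix ι ι R} (h : Pres R M e) : e * e = e := by
  obtain ⟨i, p, hpi, hip⟩ := h
  apply Matrix.toLin'.injective
  rw [Matrix.toLin'_mul, ← hip]
  calc (i ∘ₗ p) ∘ₗ (i ∘ₗ p) = i ∘ₗ (p ∘ₗ i) ∘ₗ p := by
        simp only [LinearMap.comp_assoc]
    _ = i ∘ₗ p := by rw [hpi, LinearMap.id_comp]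

theorem Pres.projective {e : Matrix ι ι R} (h : Pres R M e) : Module.Projective R M := by
  obtain ⟨i, p, hpi, hip⟩ := h
  exact Module.Projective.of_split i p hpi

theorem Pres.finite {e : Matrix ι ι R} (h : Pres R M e) : Module.Finite R M := by
  obtain ⟨i, p, hpi, hip⟩ := h
  refine Module.Finite.of_surjective p ?_
  intro x
  exact ⟨i x, by rw [← LinearMap.comp_apply, hpi]; rfl⟩

theorem Pres.of_equiv {M' : Type*} [AddCommGroup M'] [Module R M'] {e : Matrix ι ι R}
    (h : Pres R M e) (f : M ≃ₗ[R] M') : Pres R M' e := by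
  obtain ⟨i, p, hpi, hip⟩ := h
  refine ⟨i ∘ₗ f.symm.toLinearMap, f.toLinearMap ∘ₗ p, ?_, ?_⟩
  · ext x
    have := LinearMap.congr_fun hpi (f.symm x)
    simp only [LinearMap.comp_apply, LinearEquiv.coe_coe, LinearMap.id_apply] at this ⊢
    rw [this]; simp
  · rw [← hip]
    ext x j
    simp

theorem pres_range {e : Matrix ι ι R} (he : e * e = e) :
    Pres R (LinearMap.range (Matrix.toLin' e)) e := by
  refine ⟨(LinearMap.range (Matrix.toLin' e)).subtype, (Matrix.toLin' e).rangeRestrict, ?_, ?_⟩
  · refine LinearMap.ext fun x => ?_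
    obtain ⟨x, y, rfl⟩ := x
    apply Subtype.ext
    simp only [LinearMap.comp_apply, Submodule.subtype_apply, LinearMap.id_apply,
      LinearMap.codRestrict_apply]
    rw [← Matrix.toLin'_mul_apply, he]
  · ext x j
    simp

theorem pres_pi : Pres R (ι → R) (1 : Matrix ι ι R) := by
  refine ⟨LinearMap.id, LinearMap.id, ?_, ?_⟩
  · simp
  · simp [Matrix.toLin'_one]

theorem exists_pres (R : Type u) [CommRing R] (M : Type v) [AddCommGroup M] [Module R M]
    [Module.Finite R M] [Module.Projective R M] :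
    ∃ (n : ℕ) (e : Matrix (Fin n) (Fin n) R), Pres R M e := by
  obtain ⟨n, p, hp⟩ := Module.Finite.exists_fin' R M
  obtain ⟨i, hi⟩ := Module.projective_lifting_property p LinearMap.id hp
  refine ⟨n, LinearMap.toMatrix' (i ∘ₗ p), i, p, hi, ?_⟩
  rw [Matrix.toLin'_toMatrix']

variable {κ : Type*} [Fintype κ] [DecidableEq κ]
variable {M' : Type*} [AddCommGroup M'] [Module R M']

theorem Pres.equiv_of_mvn {e : Matrix ι ι R} {e' : Matrix κ κ R}
    (h : Pres R M e) (h' : Pres R M' e') (hm : MvN e e') : Nonempty (M ≃ₗ[R] M') := by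
  obtain ⟨i, p, hpi, hip⟩ := h
  obtain ⟨i', p', hpi', hip'⟩ := h'
  obtain ⟨u, v, hvu, huv⟩ := hm
  have hpip : ∀ x, p (i x) = x := fun x => LinearMap.congr_fun hpi x
  have hpip' : ∀ x, p' (i' x) = x := fun x => LinearMap.congr_fun hpi' x
  have hipx : ∀ x, i (p x) = Matrix.toLin' e x := fun x => LinearMap.congr_fun hip x
  have hipx' : ∀ x, i' (p' x) = Matrix.toLin' e' x := fun x => LinearMap.congr_fun hip' x
  have hE : ∀ x, Matrix.toLin' e (i x) = i x := by
    intro x; rw [← hipx, hpip]
  have hE' : ∀ x, Matrix.toLin' e' (i' x) = i' x := by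
    intro x; rw [← hipx', hpip']
  have hm1 : u * e * v = e' * e' := by
    rw [← hvu]
    calc u * (v * u) * v = (u * v) * (u * v) := by simp only [Matrix.mul_assoc]
      _ = e' * e' := by rw [huv]
  have hm2 : v * e' * u = e * e := by
    rw [← huv]
    calc v * (u * v) * u = (v * u) * (v * u) := by simp only [Matrix.mul_assoc]
      _ = e * e := by rw [hvu]
  refine ⟨LinearEquiv.ofLinearMap (p' ∘ₗ Matrix.toLin' u ∘ₗ i) (p ∘ₗ Matrix.toLin' v ∘ₗ i') ?_ ?_⟩
  · ext x
    simp only [LinearMap.comp_apply, LinearMap.id_apply]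
    rw [hipx, ← Matrix.toLin'_mul_apply, ← Matrix.toLin'_mul_apply, hm1, Matrix.toLin'_mul_apply,
      hE', hE', hpip']
  · ext x
    simp only [LinearMap.comp_apply, LinearMap.id_apply]
    rw [hipx', ← Matrix.toLin'_mul_apply, ← Matrix.toLin'_mul_apply, hm2, Matrix.toLin'_mul_apply,
      hE, hE, hpip]

theorem Pres.mvn_of_equiv {e : Matrix ι ι R} {e' : Matrix κ κ R}
    (h : Pres R M e) (h' : Pres R M' e') (f : M ≃ₗ[R] M') : MvN e e' := by
  obtain ⟨i, p, hpi, hip⟩ := h
  obtain ⟨i', p', hpi', hip'⟩ := h'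
  refine ⟨LinearMap.toMatrix' (i' ∘ₗ f.toLinearMap ∘ₗ p),
    LinearMap.toMatrix' (i ∘ₗ f.symm.toLinearMap ∘ₗ p'), ?_, ?_⟩
  · rw [← LinearMap.toMatrix'_comp]
    apply Matrix.toLin'.injective
    rw [Matrix.toLin'_toMatrix', ← hip]
    refine LinearMap.ext fun x => ?_
    simp only [LinearMap.comp_apply, LinearEquiv.coe_coe]
    have := LinearMap.congr_fun hpi' (f (p x))
    simp only [LinearMap.comp_apply, LinearMap.id_apply] at this
    rw [this]; simp
  · rw [← LinearMap.toMatrix'_comp]
    apply Matrix.toLin'.injective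
    rw [Matrix.toLin'_toMatrix', ← hip']
    refine LinearMap.ext fun x => ?_
    simp only [LinearMap.comp_apply, LinearEquiv.coe_coe]
    have := LinearMap.congr_fun hpi (f.symm (p' x))
    simp only [LinearMap.comp_apply, LinearMap.id_apply] at this
    rw [this]; simp

end pres

end Groth.Agent.H9.MVN
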