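import Mathlib
import Groth.Agent.Lib.Helper9.Misc.MVN1

set_option autoImplicit false
set_option linter.style.haveILetI false
set_option linter.unusedSectionVars false
set_option linter.unusedVariables false

namespace Groth.Agent.H9.MVN

open Matrix TensorProduct

section baseChange

variable {R : Type*} [CommRing R] {M : Type*} [AddCommGroup M] [Module R M]
variable {ι : Type*} [Fintype ι] [DecidableEq ι]

theorem Pres.baseChange (S : Type*) [CommRing S] [Algebra R S] {e : Matrix ι ι R}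
    (h : Pres R M e) : Pres S (S ⊗[R] M) (e.map (algebraMap R S)) := by
  obtain ⟨i, p, hpi, hip⟩ := h
  let j : S ⊗[R] (ι → R) ≃ₗ[S] (ι → S) := TensorProduct.piScalarRight R S S ι
  refine ⟨j.toLinearMap ∘ₗ i.baseChange S, p.baseChange S ∘ₗ j.symm.toLinearMap, ?_, ?_⟩
  · have : (p.baseChange S ∘ₗ j.symm.toLinearMap) ∘ₗ (j.toLinearMap ∘ₗ i.baseChange S)
        = (p ∘ₗ i).baseChange S := by
      rw [LinearMap.baseChange_comp]
      refine LinearMap.ext fun x => ?_
      simp
    rw [this, hpi, LinearMap.baseChange_id]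
  · have key : j.toLinearMap ∘ₗ (Matrix.toLin' e).baseChange S
        = Matrix.toLin' (e.map (algebraMap R S)) ∘ₗ j.toLinearMap := by
      apply TensorProduct.AlgebraTensorModule.curry_injective
      refine LinearMap.ext fun s => LinearMap.ext fun x => ?_
      funext k
      simp only [AlgebraTensorModule.curry_apply, LinearMap.restrictScalars_comp, curry_apply,
        LinearMap.coe_comp, LinearMap.coe_restrictScalars, LinearEquiv.coe_coe,
        Function.comp_apply, LinearMap.baseChange_tmul, toLin'_apply, j,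
        TensorProduct.piScalarRight_apply, TensorProduct.piScalarRightHom_tmul]
      simp only [Matrix.mulVec, dotProduct, Matrix.map_apply, Finset.sum_smul]
      refine Finset.sum_congr rfl fun l _ => ?_
      rw [mul_smul, Algebra.smul_def (e k l), Algebra.smul_def (x l)]
    calc (j.toLinearMap ∘ₗ i.baseChange S) ∘ₗ (p.baseChange S ∘ₗ j.symm.toLinearMap)
        = j.toLinearMap ∘ₗ (i ∘ₗ p).baseChange S ∘ₗ j.symm.toLinearMap := by
          rw [LinearMap.baseChange_comp]; rfl
      _ = (Matrix.toLin' (e.map (algebraMap R S)) ∘ₗ j.toLinearMap) ∘ₗ j.symm.toLinearMap := by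
          rw [hip, ← key]; rfl
      _ = Matrix.toLin' (e.map (algebraMap R S)) := by
          refine LinearMap.ext fun x => ?_
          simp

end baseChange

end Groth.Agent.H9.MVN

namespace Groth.Agent.H9.MVN

open Matrix

section adj

variable {B : Type*} [CommRing B]
variable {ι κ : Type*} [Fintype ι] [Fintype κ] [DecidableEq ι] [DecidableEq κ]

/-- The adjugate trick: if `v u = Θ e` and `u v = e' Θ'` with `det Θ'` regular, then after
replacing `v` by `e * adj Θ * v` one has `ṽ u = det Θ • e`, `u ṽ = det Θ • e'`. -/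
theorem adj_trick {e : Matrix ι ι B} {e' : Matrix κ κ B} {u : Matrix κ ι B} {v : Matrix ι κ B}
    {Θ : Matrix ι ι B} {Θ' : Matrix κ κ B}
    (he : e * e = e) (he' : e' * e' = e') (hue : u * e = u) (he'u : e' * u = u)
    (hve' : v * e' = v)
    (hvu : v * u = Θ * e) (huv : u * v = e' * Θ')
    (hG' : ∀ x : B, Θ'.det * x = 0 → x = 0) :
    ∃ w : Matrix ι κ B, w * u = Θ.det • e ∧ u * w = Θ.det • e' ∧ e * w = w ∧ w * e' = w := by
  refine ⟨e * Θ.adjugate * v, ?_, ?_, ?_, ?_⟩
  · calc e * Θ.adjugate * v * u = e * Θ.adjugate * (v * u) := by simp only [Matrix.mul_assoc]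
      _ = e * (Θ.adjugate * Θ) * e := by rw [hvu]; simp only [Matrix.mul_assoc]
      _ = Θ.det • e := by
          rw [Matrix.adjugate_mul, Matrix.mul_smul, Matrix.mul_one, Matrix.smul_mul, he]
  · set κ' := u * (e * Θ.adjugate * v) with hκ
    have h0 : κ' = u * Θ.adjugate * v := by
      rw [hκ]
      calc u * (e * Θ.adjugate * v) = (u * e) * Θ.adjugate * v := by
            simp only [Matrix.mul_assoc]
        _ = u * Θ.adjugate * v := by rw [hue]
    have h1 : κ' * u = Θ.det • u := by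
      rw [h0]
      calc u * Θ.adjugate * v * u = u * Θ.adjugate * (v * u) := by simp only [Matrix.mul_assoc]
        _ = u * (Θ.adjugate * Θ) * e := by rw [hvu]; simp only [Matrix.mul_assoc]
        _ = Θ.det • u := by
            rw [Matrix.adjugate_mul, Matrix.mul_smul, Matrix.mul_one, Matrix.smul_mul, hue]
    have h2 : κ' * e' = κ' := by
      rw [h0]
      calc u * Θ.adjugate * v * e' = u * Θ.adjugate * (v * e') := by simp only [Matrix.mul_assoc]
        _ = u * Θ.adjugate * v := by rw [hve']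
    have h3 : (κ' - Θ.det • e') * u = 0 := by
      rw [Matrix.sub_mul, h1, Matrix.smul_mul, he'u, sub_self]
    have h4 : (κ' - Θ.det • e') * (e' * Θ') = 0 := by
      rw [← huv, ← Matrix.mul_assoc, h3, Matrix.zero_mul]
    have h5 : (κ' - Θ.det • e') * Θ' = 0 := by
      have : (κ' - Θ.det • e') * e' = κ' - Θ.det • e' := by
        rw [Matrix.sub_mul, h2, Matrix.smul_mul, he']
      rw [← this, Matrix.mul_assoc, h4]
    have h6 : Θ'.det • (κ' - Θ.det • e') = 0 := by
      have := congrArg (· * Θ'.adjugate) h5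
      simp only [Matrix.zero_mul] at this
      rw [Matrix.mul_assoc, Matrix.mul_adjugate, Matrix.mul_smul, Matrix.mul_one] at this
      exact this
    have h7 : κ' - Θ.det • e' = 0 := by
      ext a b
      have := congrFun (congrFun h6 a) b
      simp only [Matrix.smul_apply, smul_eq_mul, Matrix.zero_apply] at this
      exact hG' _ this
    exact sub_eq_zero.mp h7
  · rw [← Matrix.mul_assoc, ← Matrix.mul_assoc, he]
  · rw [Matrix.mul_assoc, hve']

end adj

end Groth.Agent.H9.MVN

namespace Groth.Agent.H9.MVN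

open Matrix

section glue

variable {R : Type*} [CommRing R]
variable {ι κ : Type*} [Fintype ι] [Fintype κ] [DecidableEq ι] [DecidableEq κ]

/-- Hypotheses for explicit Zariski gluing of `e₀` (on `D(d₁)`) and `e₀'` (on `D(d₂)`). -/
structure IsGlue (e₀ : Matrix ι ι R) (e₀' : Matrix κ κ R) (u : Matrix κ ι R) (v : Matrix ι κ R)
    (d₁ d₂ a b : R) : Prop where
  he₀ : e₀ * e₀ = e₀
  he₀' : e₀' * e₀' = e₀'
  h1 : d₁ * a + d₂ * b = 1
  hvu : v * u = (d₁ * d₂) • e₀
  huv : u * v = (d₁ * d₂) • e₀'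
  n1 : e₀ * v = v
  n2 : v * e₀' = v
  n3 : e₀' * u = u
  n4 : u * e₀ = u

/-- The glued idempotent. -/
def glue (e₀ : Matrix ι ι R) (e₀' : Matrix κ κ R) (u : Matrix κ ι R) (v : Matrix ι κ R)
    (d₁ d₂ a b : R) : Matrix (ι ⊕ κ) (ι ⊕ κ) R :=
  fromBlocks ((d₁ * a) • e₀) (b • v) (a • u) ((d₂ * b) • e₀')

variable {e₀ : Matrix ι ι R} {e₀' : Matrix κ κ R} {u : Matrix κ ι R} {v : Matrix ι κ R}
  {d₁ d₂ a b : R}

theorem IsGlue.map {S : Type*} [CommRing S] (ψ : R →+* S) (h : IsGlue e₀ e₀' u v d₁ d₂ a b) :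
    IsGlue (e₀.map ψ) (e₀'.map ψ) (u.map ψ) (v.map ψ) (ψ d₁) (ψ d₂) (ψ a) (ψ b) where
  he₀ := by rw [← Matrix.map_mul, h.he₀]
  he₀' := by rw [← Matrix.map_mul, h.he₀']
  h1 := by rw [← map_mul, ← map_mul, ← map_add, h.h1, map_one]
  hvu := by
    rw [← Matrix.map_mul, h.hvu, ← map_mul]
    ext i j; simp
  huv := by
    rw [← Matrix.map_mul, h.huv, ← map_mul]
    ext i j; simp
  n1 := by rw [← Matrix.map_mul, h.n1]
  n2 := by rw [← Matrix.map_mul, h.n2]
  n3 := by rw [← Matrix.map_mul, h.n3]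
  n4 := by rw [← Matrix.map_mul, h.n4]

theorem glue_map {S : Type*} [CommRing S] (ψ : R →+* S) :
    (glue e₀ e₀' u v d₁ d₂ a b).map ψ =
      glue (e₀.map ψ) (e₀'.map ψ) (u.map ψ) (v.map ψ) (ψ d₁) (ψ d₂) (ψ a) (ψ b) := by
  unfold glue
  rw [Matrix.fromBlocks_map]
  congr 1 <;> (ext i j; simp)

theorem IsGlue.idem (h : IsGlue e₀ e₀' u v d₁ d₂ a b) :
    glue e₀ e₀' u v d₁ d₂ a b * glue e₀ e₀' u v d₁ d₂ a b = glue e₀ e₀' u v d₁ d₂ a b := by
  unfold glue
  rw [Matrix.fromBlocks_multiply]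
  have h1 := h.h1
  congr 1
  · rw [Matrix.smul_mul, Matrix.mul_smul, h.he₀, Matrix.smul_mul, Matrix.mul_smul, h.hvu,
      smul_smul, smul_smul, smul_smul, ← add_smul]
    congr 1
    linear_combination (d₁ * a) * h1
  · rw [Matrix.smul_mul, Matrix.mul_smul, h.n1, Matrix.smul_mul, Matrix.mul_smul, h.n2,
      smul_smul, smul_smul, ← add_smul]
    congr 1
    linear_combination b * h1
  · rw [Matrix.smul_mul, Matrix.mul_smul, h.n4, Matrix.smul_mul, Matrix.mul_smul, h.n3,
      smul_smul, smul_smul, ← add_smul]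
    congr 1
    linear_combination a * h1
  · rw [Matrix.smul_mul, Matrix.mul_smul, h.huv, Matrix.smul_mul, Matrix.mul_smul, h.he₀',
      smul_smul, smul_smul, smul_smul, ← add_smul]
    congr 1
    linear_combination (d₂ * b) * h1

theorem IsGlue.mvn_left (h : IsGlue e₀ e₀' u v d₁ d₂ a b) (w : R) (hw : d₁ * w = 1) :
    MvN (glue e₀ e₀' u v d₁ d₂ a b) e₀ := by
  have h1 := h.h1
  refine ⟨fromCols ((d₁ * a) • e₀) (b • v), fromRows e₀ (w • u), ?_, ?_⟩
  · rw [fromRows_mul_fromCols]
    unfold glue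
    congr 1
    · rw [Matrix.mul_smul, h.he₀]
    · rw [Matrix.mul_smul, h.n1]
    · rw [Matrix.smul_mul, Matrix.mul_smul, h.n4, smul_smul]
      congr 1
      linear_combination a * hw
    · rw [Matrix.smul_mul, Matrix.mul_smul, h.huv, smul_smul, smul_smul]
      congr 1
      linear_combination (d₂ * b) * hw
  · rw [fromCols_mul_fromRows, Matrix.smul_mul, h.he₀, Matrix.smul_mul, Matrix.mul_smul, h.hvu,
      smul_smul, smul_smul, ← add_smul]
    have : d₁ * a + b * w * (d₁ * d₂) = 1 := by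
      linear_combination h1 + (d₂ * b) * hw
    rw [this, one_smul]

theorem IsGlue.mvn_right (h : IsGlue e₀ e₀' u v d₁ d₂ a b) (w : R) (hw : d₂ * w = 1) :
    MvN (glue e₀ e₀' u v d₁ d₂ a b) e₀' := by
  have h1 := h.h1
  refine ⟨fromCols (a • u) ((d₂ * b) • e₀'), fromRows (w • v) e₀', ?_, ?_⟩
  · rw [fromRows_mul_fromCols]
    unfold glue
    congr 1
    · rw [Matrix.smul_mul, Matrix.mul_smul, h.hvu, smul_smul, smul_smul]
      congr 1
      linear_combination (d₁ * a) * hw
    · rw [Matrix.smul_mul, Matrix.mul_smul, h.n2, smul_smul]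
      congr 1
      linear_combination b * hw
    · rw [Matrix.mul_smul, h.n3]
    · rw [Matrix.mul_smul, h.he₀']
  · rw [fromCols_mul_fromRows, Matrix.smul_mul, Matrix.mul_smul, h.huv, Matrix.smul_mul, h.he₀',
      smul_smul, smul_smul, ← add_smul]
    have : a * w * (d₁ * d₂) + d₂ * b = 1 := by
      linear_combination h1 + (d₁ * a) * hw
    rw [this, one_smul]

end glue

end Groth.Agent.H9.MVN
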