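import Mathlib
import Groth.Agent.Lib.Helper9.Misc.MVN1
import Groth.Agent.Lib.Helper9.Misc.MVN2

set_option autoImplicit false
set_option linter.style.haveILetI false
set_option linter.unusedSectionVars false
set_option linter.unusedVariables false

/-!
# Approximation of Murray–von Neumann equivalences along a "completion-like" ring map
`φ : B → B'` (think `A[1/t] → Â[1/t]`).
-/

namespace Groth.Agent.H9.APM

open Matrix Groth.Agent.H9.MVN

universe u

/-- Abstract hypotheses on `φ : B → B'`, `t : B` and a subring `O ⊆ B'` ("integral elements"). -/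
structure Hyp {B B' : Type*} [CommRing B] [CommRing B'] (φ : B →+* B') (t : B)
    (O : Subring B') : Prop where
  t_mem : φ t ∈ O
  bdd : ∀ b' : B', ∃ k : ℕ, φ t ^ k * b' ∈ O
  dense : ∀ (b' : B') (n : ℕ), ∃ b : B, ∃ c ∈ O, b' - φ b = φ t ^ n * c
  closed : ∀ b : B, (∃ c ∈ O, φ b = φ t * c) → ∃ a : B, φ a ∈ O ∧ b = t * a
  unit : ∀ a : B, φ a ∈ O → IsUnit (1 + t * a)
  unit' : ∀ c ∈ O, IsUnit (1 + φ t * c)

section intm

variable {S : Type*} [CommRing S] (O : Subring S)
variable {ι κ μ : Type*} [Fintype ι] [Fintype κ] [Fintype μ]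

/-- All entries lie in the subring `O`. -/
def IntM (X : Matrix ι κ S) : Prop := ∀ i j, X i j ∈ O

variable {O}

theorem IntM.add {X Y : Matrix ι κ S} (hX : IntM O X) (hY : IntM O Y) : IntM O (X + Y) :=
  fun i j => O.add_mem (hX i j) (hY i j)

theorem IntM.sub {X Y : Matrix ι κ S} (hX : IntM O X) (hY : IntM O Y) : IntM O (X - Y) :=
  fun i j => O.sub_mem (hX i j) (hY i j)

theorem IntM.neg {X : Matrix ι κ S} (hX : IntM O X) : IntM O (-X) :=
  fun i j => O.neg_mem (hX i j)

theorem IntM.mul {X : Matrix ι κ S} {Y : Matrix κ μ S} (hX : IntM O X) (hY : IntM O Y) :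
    IntM O (X * Y) := by
  intro i j
  rw [Matrix.mul_apply]
  exact O.sum_mem fun l _ => O.mul_mem (hX i l) (hY l j)

theorem IntM.smul {X : Matrix ι κ S} {c : S} (hc : c ∈ O) (hX : IntM O X) : IntM O (c • X) :=
  fun i j => by
    rw [Matrix.smul_apply, smul_eq_mul]
    exact O.mul_mem hc (hX i j)

theorem IntM.zero : IntM O (0 : Matrix ι κ S) := fun i j => O.zero_mem

theorem IntM.one [DecidableEq ι] : IntM O (1 : Matrix ι ι S) := fun i j => by
  by_cases h : i = j
  · subst h; rw [Matrix.one_apply_eq]; exact O.one_mem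
  · rw [Matrix.one_apply_ne h]; exact O.zero_mem

/-- `det (1 + t • δ) = 1 + t * a` over any commutative ring. -/
theorem exists_det_one_add_smul [DecidableEq ι] (t : S) (δ : Matrix ι ι S) :
    ∃ a : S, (1 + t • δ).det = 1 + t * a := by
  let q := Ideal.Quotient.mk (Ideal.span {t})
  have h1 : (1 + t • δ).map q = 1 := by
    refine Matrix.ext fun i j => ?_
    have ht : q t = 0 := Ideal.Quotient.eq_zero_iff_mem.mpr (Ideal.mem_span_singleton_self t)
    simp only [Matrix.map_apply, Matrix.add_apply, Matrix.smul_apply, smul_eq_mul, map_add,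
      map_mul, ht, zero_mul, add_zero]
    by_cases h : i = j
    · subst h; simp
    · simp [Matrix.one_apply_ne h]
  have h2 : q (1 + t • δ).det = 1 := by
    rw [RingHom.map_det, RingHom.mapMatrix_apply, h1, Matrix.det_one]
  have h3 : (1 + t • δ).det - 1 ∈ Ideal.span {t} := by
    rw [← Ideal.Quotient.eq_zero_iff_mem, map_sub, h2, map_one, sub_self]
  obtain ⟨a, ha⟩ := Ideal.mem_span_singleton'.mp h3
  exact ⟨a, by rw [mul_comm, ha]; ring⟩

/-- Same with integrality: if `t ∈ O` and `δ` has entries in `O` then `a ∈ O`. -/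
theorem exists_det_one_add_smul_mem [DecidableEq ι] {t : S} (ht : t ∈ O) {δ : Matrix ι ι S}
    (hδ : IntM O δ) : ∃ a ∈ O, (1 + t • δ).det = 1 + t * a := by
  let δ₀ : Matrix ι ι O := fun i j => ⟨δ i j, hδ i j⟩
  let t₀ : O := ⟨t, ht⟩
  obtain ⟨a, ha⟩ := exists_det_one_add_smul t₀ δ₀
  refine ⟨a, a.2, ?_⟩
  have h1 : (1 + t₀ • δ₀).map O.subtype = 1 + t • δ := by
    refine Matrix.ext fun i j => ?_
    simp only [Matrix.map_apply, Matrix.add_apply, Matrix.smul_apply, smul_eq_mul, map_add,
      map_mul, Subring.subtype_apply, δ₀, t₀]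
    by_cases h : i = j
    · subst h; simp
    · simp [Matrix.one_apply_ne h]
  have := congrArg O.subtype ha
  rw [RingHom.map_det, RingHom.mapMatrix_apply, h1] at this
  rw [this]
  simp [t₀]

end intm

end Groth.Agent.H9.APM
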