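import Mathlib
import Groth.Agent.Lib.Helper9.Misc.MVN1
import Groth.Agent.Lib.Helper9.Misc.MVN2
import Groth.Agent.Lib.Helper9.Misc.APM1

set_option autoImplicit false
set_option linter.style.haveILetI false
set_option linter.unusedSectionVars false
set_option linter.unusedVariables false

namespace Groth.Agent.H9.APM

open Matrix Groth.Agent.H9.MVN

section small

variable {S : Type*} [CommRing S] (s : S) (O : Subring S)
variable {ι κ μ : Type*} [Fintype ι] [Fintype κ] [Fintype μ]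

/-- `X ∈ s^j • M(O)`. -/
def Small (j : ℕ) (X : Matrix ι κ S) : Prop := ∃ C : Matrix ι κ S, IntM O C ∧ X = s ^ j • C

variable {s O}

theorem Small.intM (hs : s ∈ O) {j : ℕ} {X : Matrix ι κ S} (h : Small s O j X) : IntM O X := by
  obtain ⟨C, hC, rfl⟩ := h
  exact IntM.smul (O.pow_mem hs j) hC

theorem Small.add {j : ℕ} {X Y : Matrix ι κ S} (hX : Small s O j X) (hY : Small s O j Y) :
    Small s O j (X + Y) := by
  obtain ⟨C, hC, rfl⟩ := hX
  obtain ⟨C', hC', rfl⟩ := hY
  exact ⟨C + C', hC.add hC', by rw [smul_add]⟩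

theorem Small.neg {j : ℕ} {X : Matrix ι κ S} (hX : Small s O j X) : Small s O j (-X) := by
  obtain ⟨C, hC, rfl⟩ := hX
  exact ⟨-C, hC.neg, by rw [smul_neg]⟩

theorem Small.sub {j : ℕ} {X Y : Matrix ι κ S} (hX : Small s O j X) (hY : Small s O j Y) :
    Small s O j (X - Y) := by
  rw [sub_eq_add_neg]
  exact hX.add hY.neg

theorem Small.mono (hs : s ∈ O) {j i : ℕ} {X : Matrix ι κ S} (hX : Small s O (j + i) X) :
    Small s O j X := by
  obtain ⟨C, hC, rfl⟩ := hX
  exact ⟨s ^ i • C, IntM.smul (O.pow_mem hs i) hC, by rw [smul_smul, pow_add]⟩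

theorem Small.mul_left {a j : ℕ} {X : Matrix ι κ S} {Y : Matrix κ μ S}
    (hX : IntM O (s ^ a • X)) (hY : Small s O (a + j) Y) : Small s O j (X * Y) := by
  obtain ⟨C, hC, rfl⟩ := hY
  refine ⟨(s ^ a • X) * C, hX.mul hC, ?_⟩
  rw [Matrix.mul_smul, Matrix.smul_mul, smul_smul, pow_add, mul_comm]

theorem Small.mul_right {a j : ℕ} {X : Matrix κ μ S} {Y : Matrix ι κ S}
    (hX : IntM O (s ^ a • X)) (hY : Small s O (a + j) Y) : Small s O j (Y * X) := by
  obtain ⟨C, hC, rfl⟩ := hY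
  refine ⟨C * (s ^ a • X), hC.mul hX, ?_⟩
  rw [Matrix.mul_smul, Matrix.smul_mul, smul_smul, pow_add, mul_comm]

theorem Small.mul_left' (hs : s ∈ O) {j : ℕ} {X : Matrix ι κ S} {Y : Matrix κ μ S}
    (hX : IntM O X) (hY : Small s O j Y) : Small s O j (X * Y) := by
  refine Small.mul_left (a := 0) ?_ ?_
  · simpa using hX
  · simpa using hY

theorem intM_pow_smul_mono (hs : s ∈ O) {k k' : ℕ} (hk : k ≤ k') {X : Matrix ι κ S}
    (hX : IntM O (s ^ k • X)) : IntM O (s ^ k' • X) := by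
  obtain ⟨d, rfl⟩ := Nat.exists_eq_add_of_le hk
  rw [pow_add, mul_comm, ← smul_smul]
  exact IntM.smul (O.pow_mem hs d) hX

end small

section hyp

variable {B B' : Type*} [CommRing B] [CommRing B'] {φ : B →+* B'} {t : B} {O : Subring B'}
variable {ι κ μ : Type*} [Fintype ι] [Fintype κ] [Fintype μ]

theorem Hyp.bddM (H : Hyp φ t O) (X : Matrix ι κ B') : ∃ k : ℕ, IntM O (φ t ^ k • X) := by
  choose k hk using fun i j => H.bdd (X i j)
  refine ⟨Finset.univ.sup fun i => Finset.univ.sup fun j => k i j, fun i j => ?_⟩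
  have hle : k i j ≤ Finset.univ.sup fun i => Finset.univ.sup fun j => k i j := by
    refine le_trans ?_ (Finset.le_sup (f := fun i => Finset.univ.sup fun j => k i j)
      (Finset.mem_univ i))
    exact Finset.le_sup (f := fun j => k i j) (Finset.mem_univ j)
  obtain ⟨d, hd⟩ := Nat.exists_eq_add_of_le hle
  rw [Matrix.smul_apply, smul_eq_mul, hd, pow_add, mul_comm (φ t ^ k i j), mul_assoc]
  exact O.mul_mem (O.pow_mem H.t_mem d) (hk i j)

theorem Hyp.denseM (H : Hyp φ t O) (X : Matrix ι κ B') (n : ℕ) :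
    ∃ Y : Matrix ι κ B, Small (φ t) O n (X - Y.map φ) := by
  choose b c hc hbc using fun i j => H.dense (X i j) n
  refine ⟨Matrix.of b, Matrix.of c, fun i j => hc i j, ?_⟩
  refine Matrix.ext fun i j => ?_
  simp only [Matrix.sub_apply, Matrix.map_apply, Matrix.of_apply, Matrix.smul_apply, smul_eq_mul]
  exact hbc i j

theorem Hyp.closedM (H : Hyp φ t O) (D : Matrix ι κ B) (hD : Small (φ t) O 1 (D.map φ)) :
    ∃ δ : Matrix ι κ B, IntM O (δ.map φ) ∧ D = t • δ := by
  obtain ⟨C, hC, hDC⟩ := hD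
  have : ∀ i j, ∃ a : B, φ a ∈ O ∧ D i j = t * a := by
    intro i j
    refine H.closed (D i j) ⟨C i j, hC i j, ?_⟩
    have := congrFun (congrFun hDC i) j
    simpa using this
  choose a ha hDa using this
  refine ⟨Matrix.of a, fun i j => ha i j, ?_⟩
  refine Matrix.ext fun i j => ?_
  simp only [Matrix.smul_apply, Matrix.of_apply, smul_eq_mul]
  exact hDa i j

theorem Hyp.isUnit_det [DecidableEq ι] (H : Hyp φ t O) (δ : Matrix ι ι B)
    (hδ : IntM O (δ.map φ)) : IsUnit (1 + t • δ).det := by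
  have ht : t ∈ O.comap φ := H.t_mem
  have hδ' : IntM (O.comap φ) δ := fun i j => hδ i j
  obtain ⟨a, ha, hdet⟩ := exists_det_one_add_smul_mem ht hδ'
  rw [hdet]
  exact H.unit a ha

theorem Hyp.isUnit_det' [DecidableEq ι] (H : Hyp φ t O) (C : Matrix ι ι B')
    (hC : IntM O C) : IsUnit (1 + φ t • C).det := by
  obtain ⟨a, ha, hdet⟩ := exists_det_one_add_smul_mem H.t_mem hC
  rw [hdet]
  exact H.unit' a ha

end hyp

end Groth.Agent.H9.APM

namespace Groth.Agent.H9.APM

open Matrix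

theorem Small.of_le {S : Type*} [CommRing S] {s : S} {O : Subring S}
    {ι κ : Type*} [Fintype ι] [Fintype κ] (hs : s ∈ O) {j j' : ℕ} (h : j ≤ j')
    {X : Matrix ι κ S} (hX : Small s O j' X) : Small s O j X := by
  obtain ⟨d, rfl⟩ := Nat.exists_eq_add_of_le h
  exact hX.mono hs

end Groth.Agent.H9.APM
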