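import Mathlib
import Groth.Agent.Lib.Helper9.Misc.MVN1
import Groth.Agent.Lib.Helper9.Misc.MVN2
import Groth.Agent.Lib.Helper9.Misc.APM1
import Groth.Agent.Lib.Helper9.Misc.APM1b

set_option autoImplicit false
set_option linter.style.haveILetI false
set_option linter.unusedSectionVars false
set_option linter.unusedVariables false

namespace Groth.Agent.H9.APM

open Matrix Groth.Agent.H9.MVN

section bmat

variable {B B' : Type*} [CommRing B] [CommRing B'] {φ : B →+* B'} {t : B} {O : Subring B'}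
variable {ι κ : Type*} [Fintype ι] [Fintype κ] [DecidableEq ι] [DecidableEq κ]

/-- Descent of Murray–von Neumann equivalence along `φ`. -/
theorem Hyp.mvn_descent (H : Hyp φ t O) {e₁ : Matrix ι ι B} {e₂ : Matrix κ κ B}
    (he₁ : e₁ * e₁ = e₁) (he₂ : e₂ * e₂ = e₂) (h : MvN (e₁.map φ) (e₂.map φ)) :
    MvN e₁ e₂ := by
  have he₁' : e₁.map φ * e₁.map φ = e₁.map φ := by rw [← Matrix.map_mul, he₁]
  have he₂' : e₂.map φ * e₂.map φ = e₂.map φ := by rw [← Matrix.map_mul, he₂]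
  obtain ⟨u', v', hvu', huv', h2u, hu1, h1v, hv2⟩ := h.exists_normalized he₁' he₂'
  obtain ⟨s, hs⟩ : ∃ s, s = φ t := ⟨_, rfl⟩
  have hsO : s ∈ O := hs ▸ H.t_mem
  -- common bound
  obtain ⟨k1, hk1⟩ := H.bddM (e₁.map φ)
  obtain ⟨k2, hk2⟩ := H.bddM (e₂.map φ)
  obtain ⟨k3, hk3⟩ := H.bddM u'
  obtain ⟨k4, hk4⟩ := H.bddM v'
  obtain ⟨k, hk⟩ : ∃ k, k = k1 + k2 + k3 + k4 := ⟨_, rfl⟩
  rw [← hs] at hk1 hk2 hk3 hk4
  have hE1 : IntM O (s ^ k • e₁.map φ) := intM_pow_smul_mono (k' := k) hsO (by omega) hk1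
  have hE2 : IntM O (s ^ k • e₂.map φ) := intM_pow_smul_mono (k' := k) hsO (by omega) hk2
  have hU : IntM O (s ^ k • u') := intM_pow_smul_mono (k' := k) hsO (by omega) hk3
  have hV : IntM O (s ^ k • v') := intM_pow_smul_mono (k' := k) hsO (by omega) hk4
  obtain ⟨u₀, hu₀⟩ := H.denseM u' (k + (k + (k + 1)))
  obtain ⟨v₀, hv₀⟩ := H.denseM v' (k + (k + (k + 1)))
  rw [← hs] at hu₀ hv₀
  obtain ⟨u, hu⟩ : ∃ u, u = e₂ * u₀ * e₁ := ⟨_, rfl⟩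
  obtain ⟨v, hv⟩ : ∃ v, v = e₁ * v₀ * e₂ := ⟨_, rfl⟩
  -- normalisations of u, v
  have hue : u * e₁ = u := by rw [hu, Matrix.mul_assoc, he₁]
  have heu : e₂ * u = u := by rw [hu, ← Matrix.mul_assoc, ← Matrix.mul_assoc, he₂]
  have hve : v * e₂ = v := by rw [hv, Matrix.mul_assoc, he₂]
  have hev : e₁ * v = v := by rw [hv, ← Matrix.mul_assoc, ← Matrix.mul_assoc, he₁]
  -- error terms
  obtain ⟨Δu, hΔu⟩ : ∃ Δu, Δu = e₂.map φ * (u' - u₀.map φ) * e₁.map φ := ⟨_, rfl⟩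
  obtain ⟨Δv, hΔv⟩ : ∃ Δv, Δv = e₁.map φ * (v' - v₀.map φ) * e₂.map φ := ⟨_, rfl⟩
  have hΔuS : Small s O (k + 1) Δu := by
    rw [hΔu]; exact Small.mul_right hE1 (Small.mul_left hE2 hu₀)
  have hΔvS : Small s O (k + 1) Δv := by
    rw [hΔv]; exact Small.mul_right hE2 (Small.mul_left hE1 hv₀)
  have humap : u.map φ = u' - Δu := by
    rw [hu, hΔu, Matrix.map_mul, Matrix.map_mul, Matrix.mul_sub, Matrix.sub_mul, h2u, hu1,
      sub_sub_cancel]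
  have hvmap : v.map φ = v' - Δv := by
    rw [hv, hΔv, Matrix.map_mul, Matrix.map_mul, Matrix.mul_sub, Matrix.sub_mul, h1v, hv2,
      sub_sub_cancel]
  -- D = v u - e₁
  have hD1 : Small s O 1 ((v * u - e₁).map φ) := by
    have : (v * u - e₁).map φ = -(v' * Δu) - Δv * u' + Δv * Δu := by
      rw [Matrix.map_sub _ (map_sub φ), Matrix.map_mul, humap, hvmap, ← hvu', Matrix.sub_mul,
        Matrix.mul_sub, Matrix.mul_sub]
      abel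
    rw [this]
    refine Small.add (Small.sub (Small.neg ?_) ?_) ?_
    · exact Small.mul_left hV hΔuS
    · exact Small.mul_right hU hΔvS
    · exact Small.mul_left' hsO (hΔvS.intM hsO) (hΔuS.of_le hsO (by omega))
  have hD2 : Small s O 1 ((u * v - e₂).map φ) := by
    have : (u * v - e₂).map φ = -(u' * Δv) - Δu * v' + Δu * Δv := by
      rw [Matrix.map_sub _ (map_sub φ), Matrix.map_mul, humap, hvmap, ← huv', Matrix.sub_mul,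
        Matrix.mul_sub, Matrix.mul_sub]
      abel
    rw [this]
    refine Small.add (Small.sub (Small.neg ?_) ?_) ?_
    · exact Small.mul_left hU hΔvS
    · exact Small.mul_right hV hΔuS
    · exact Small.mul_left' hsO (hΔuS.intM hsO) (hΔvS.of_le hsO (by omega))
  rw [hs] at hD1 hD2
  obtain ⟨δ, hδ, hDδ⟩ := H.closedM (v * u - e₁) hD1
  obtain ⟨δ', hδ', hDδ'⟩ := H.closedM (u * v - e₂) hD2
  have hvu : v * u = (1 + t • δ) * e₁ := by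
    rw [← hDδ, Matrix.add_mul, Matrix.one_mul, Matrix.sub_mul, he₁, Matrix.mul_assoc, hue]
    abel
  have huv : u * v = e₂ * (1 + t • δ') := by
    rw [← hDδ', Matrix.mul_add, Matrix.mul_one, Matrix.mul_sub, he₂, ← Matrix.mul_assoc, heu]
    abel
  have hdet : IsUnit (1 + t • δ).det := H.isUnit_det δ hδ
  have hdet' : IsUnit (1 + t • δ').det := H.isUnit_det δ' hδ'
  obtain ⟨w, hwu, huw, -, -⟩ := adj_trick he₁ he₂ hue heu hve hvu huv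
    (fun x hx => (hdet'.mul_right_eq_zero).mp hx)
  obtain ⟨d, hd⟩ := hdet.exists_left_inv
  refine ⟨u, d • w, ?_, ?_⟩
  · rw [Matrix.smul_mul, hwu, smul_smul, hd, one_smul]
  · rw [Matrix.mul_smul, huw, smul_smul, hd, one_smul]

end bmat

end Groth.Agent.H9.APM

namespace Groth.Agent.H9.APM

open Matrix Groth.Agent.H9.MVN

section cmat

variable {ι κ : Type*} [Fintype ι] [Fintype κ] [DecidableEq ι] [DecidableEq κ]

/-- If `Φ Ψ = 1`, `Φ' Ψ' = 1` and `Φ α = Φ'` with `α` invertible, then the complementary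
idempotents `1 - Ψ' Φ'` and `1 - Ψ Φ` are Murray–von Neumann equivalent. -/
theorem mvn_of_conj {S : Type*} [CommRing S] {Φ Φ' : Matrix κ ι S} {Ψ Ψ' : Matrix ι κ S}
    {α β : Matrix ι ι S}
    (h1 : Φ * Ψ = 1) (h2 : Φ' * Ψ' = 1) (hα : Φ * α = Φ') (hαβ : α * β = 1) (hβα : β * α = 1) :
    MvN (1 - Ψ' * Φ') (1 - Ψ * Φ) := by
  have hΦ'e : Φ' * (1 - Ψ' * Φ') = 0 := by
    rw [Matrix.mul_sub, Matrix.mul_one, ← Matrix.mul_assoc, h2, Matrix.one_mul, sub_self]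
  have hΦe : Φ * (1 - Ψ * Φ) = 0 := by
    rw [Matrix.mul_sub, Matrix.mul_one, ← Matrix.mul_assoc, h1, Matrix.one_mul, sub_self]
  have hΦ'β : Φ' * β = Φ := by
    rw [← hα, Matrix.mul_assoc, hαβ, Matrix.mul_one]
  have h3 : (1 - Ψ * Φ) * (α * (1 - Ψ' * Φ')) = α * (1 - Ψ' * Φ') := by
    rw [Matrix.sub_mul, Matrix.one_mul, Matrix.mul_assoc Ψ Φ, ← Matrix.mul_assoc Φ α, hα, hΦ'e,
      Matrix.mul_zero, sub_zero]
  have h4 : (1 - Ψ' * Φ') * (β * (1 - Ψ * Φ)) = β * (1 - Ψ * Φ) := by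
    rw [Matrix.sub_mul, Matrix.one_mul, Matrix.mul_assoc Ψ' Φ', ← Matrix.mul_assoc Φ' β, hΦ'β, hΦe,
      Matrix.mul_zero, sub_zero]
  refine ⟨α * (1 - Ψ' * Φ'), β * (1 - Ψ * Φ), ?_, ?_⟩
  · rw [Matrix.mul_assoc, h3, ← Matrix.mul_assoc, hβα, Matrix.one_mul]
  · rw [Matrix.mul_assoc, h4, ← Matrix.mul_assoc, hαβ, Matrix.one_mul]

variable {B B' : Type*} [CommRing B] [CommRing B'] {φ : B →+* B'} {t : B} {O : Subring B'}

/-- Lifting a split surjection `Φ : B'^ι → B'^κ` to `B` up to conjugation. -/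
theorem Hyp.lift_split (H : Hyp φ t O) {Φ : Matrix κ ι B'} {Ψ : Matrix ι κ B'}
    (h : Φ * Ψ = 1) :
    ∃ (Φ₀ : Matrix κ ι B) (Ψ₀ : Matrix ι κ B), Φ₀ * Ψ₀ = 1 ∧
      MvN ((1 - Ψ₀ * Φ₀).map φ) (1 - Ψ * Φ) := by
  obtain ⟨s, hs⟩ : ∃ s, s = φ t := ⟨_, rfl⟩
  have hsO : s ∈ O := hs ▸ H.t_mem
  obtain ⟨k1, hk1⟩ := H.bddM Φ
  obtain ⟨k2, hk2⟩ := H.bddM Ψ
  obtain ⟨k, hk⟩ : ∃ k, k = k1 + k2 := ⟨_, rfl⟩
  rw [← hs] at hk1 hk2
  have hΦi : IntM O (s ^ k • Φ) := intM_pow_smul_mono (k' := k) hsO (by omega) hk1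
  have hΨi : IntM O (s ^ k • Ψ) := intM_pow_smul_mono (k' := k) hsO (by omega) hk2
  obtain ⟨Φ₁, hΦ₁⟩ := H.denseM Φ (k + 1)
  obtain ⟨Ψ₁, hΨ₁⟩ := H.denseM Ψ (k + 1)
  rw [← hs] at hΦ₁ hΨ₁
  obtain ⟨ΔΦ, hΔΦ⟩ : ∃ ΔΦ, ΔΦ = Φ - Φ₁.map φ := ⟨_, rfl⟩
  obtain ⟨ΔΨ, hΔΨ⟩ : ∃ ΔΨ, ΔΨ = Ψ - Ψ₁.map φ := ⟨_, rfl⟩
  rw [← hΔΦ] at hΦ₁
  rw [← hΔΨ] at hΨ₁
  have hΦ₁map : Φ₁.map φ = Φ - ΔΦ := by rw [hΔΦ, sub_sub_cancel]
  have hΨ₁map : Ψ₁.map φ = Ψ - ΔΨ := by rw [hΔΨ, sub_sub_cancel]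
  have hD : Small s O 1 ((Φ₁ * Ψ₁ - 1).map φ) := by
    have : (Φ₁ * Ψ₁ - 1).map φ = -(Φ * ΔΨ) - ΔΦ * Ψ + ΔΦ * ΔΨ := by
      rw [Matrix.map_sub _ (map_sub φ), Matrix.map_mul, hΦ₁map, hΨ₁map,
        Matrix.map_one _ (map_zero φ) (map_one φ), ← h, Matrix.sub_mul,
        Matrix.mul_sub, Matrix.mul_sub]
      abel
    rw [this]
    refine Small.add (Small.sub (Small.neg ?_) ?_) ?_
    · exact Small.mul_left hΦi hΨ₁
    · exact Small.mul_right hΨi hΦ₁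
    · exact Small.mul_left' hsO (hΦ₁.intM hsO) (hΨ₁.of_le hsO (by omega))
  rw [hs] at hD
  obtain ⟨δ, hδ, hDδ⟩ := H.closedM (Φ₁ * Ψ₁ - 1) hD
  have hΘ : Φ₁ * Ψ₁ = 1 + t • δ := by rw [← hDδ]; abel
  have hdet : IsUnit (Φ₁ * Ψ₁).det := by rw [hΘ]; exact H.isUnit_det δ hδ
  -- α
  have hα1 : Small s O 1 (Ψ * ΔΦ) := Small.mul_left hΨi hΦ₁
  obtain ⟨C, hC, hCeq⟩ := hα1
  rw [pow_one] at hCeq
  have hαdet : IsUnit (1 - Ψ * ΔΦ).det := by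
    have : (1 - Ψ * ΔΦ) = 1 + φ t • (-C) := by rw [hCeq, hs, smul_neg, sub_eq_add_neg]
    rw [this]
    exact H.isUnit_det' (-C) hC.neg
  refine ⟨Φ₁, Ψ₁ * (Φ₁ * Ψ₁)⁻¹, ?_, ?_⟩
  · rw [← Matrix.mul_assoc, Matrix.mul_nonsing_inv _ hdet]
  · have hmap : (1 - Ψ₁ * (Φ₁ * Ψ₁)⁻¹ * Φ₁).map φ
        = 1 - (Ψ₁ * (Φ₁ * Ψ₁)⁻¹).map φ * Φ₁.map φ := by
      rw [Matrix.map_sub _ (map_sub φ), Matrix.map_one _ (map_zero φ) (map_one φ), Matrix.map_mul]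
    rw [hmap]
    refine mvn_of_conj (α := 1 - Ψ * ΔΦ) (β := (1 - Ψ * ΔΦ)⁻¹) h ?_ ?_
      (Matrix.mul_nonsing_inv _ hαdet) (Matrix.nonsing_inv_mul _ hαdet)
    · rw [← Matrix.map_mul, ← Matrix.mul_assoc, Matrix.mul_nonsing_inv _ hdet,
        Matrix.map_one _ (map_zero φ) (map_one φ)]
    · rw [Matrix.mul_sub, Matrix.mul_one, ← Matrix.mul_assoc, h, Matrix.one_mul, hΦ₁map]

end cmat

end Groth.Agent.H9.APM
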