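import Mathlib
import Groth.Agent.Lib.Helper9.Misc.MVN1
import Groth.Agent.Lib.Helper9.Misc.MVN2
import Groth.Agent.Lib.Helper9.Misc.APM1
import Groth.Agent.Lib.Helper9.Misc.APM1b
import Groth.Agent.Lib.Helper9.Misc.APM2

set_option autoImplicit false
set_option linter.style.haveILetI false
set_option linter.unusedSectionVars false
set_option linter.unusedVariables false

namespace Groth.Agent.H9.APM

open Matrix TensorProduct Groth.Agent.H9.MVN

universe u

section stab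

variable {S : Type*} [CommRing S] {M : Type*} [AddCommGroup M] [Module S M]

/-- A stably free module `M × S^n ≃ S^m` is presented by `1 - Ψ Φ` with `Φ Ψ = 1`. -/
theorem exists_split_of_stab {n m : ℕ} (σ : (M × (Fin n → S)) ≃ₗ[S] (Fin m → S)) :
    ∃ (Φ : Matrix (Fin n) (Fin m) S) (Ψ : Matrix (Fin m) (Fin n) S),
      Φ * Ψ = 1 ∧ Pres S M (1 - Ψ * Φ) := by
  let i : M →ₗ[S] (Fin m → S) := σ.toLinearMap ∘ₗ LinearMap.inl S M (Fin n → S)
  let p : (Fin m → S) →ₗ[S] M := LinearMap.fst S M (Fin n → S) ∘ₗ σ.symm.toLinearMap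
  let Ψl : (Fin n → S) →ₗ[S] (Fin m → S) := σ.toLinearMap ∘ₗ LinearMap.inr S M (Fin n → S)
  let Φl : (Fin m → S) →ₗ[S] (Fin n → S) := LinearMap.snd S M (Fin n → S) ∘ₗ σ.symm.toLinearMap
  have hΦΨ : Φl ∘ₗ Ψl = LinearMap.id := by
    refine LinearMap.ext fun x => ?_
    simp [Φl, Ψl]
  have hpi : p ∘ₗ i = LinearMap.id := by
    refine LinearMap.ext fun x => ?_
    simp [p, i]
  have hsum : i ∘ₗ p + Ψl ∘ₗ Φl = LinearMap.id := by
    refine LinearMap.ext fun z => ?_
    simp only [LinearMap.add_apply, LinearMap.comp_apply, LinearMap.id_apply, i, p, Ψl, Φl,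
      LinearEquiv.coe_coe, LinearMap.inl_apply, LinearMap.inr_apply, LinearMap.fst_apply,
      LinearMap.snd_apply]
    rw [← map_add]
    simp
  refine ⟨LinearMap.toMatrix' Φl, LinearMap.toMatrix' Ψl, ?_, i, p, hpi, ?_⟩
  · rw [← LinearMap.toMatrix'_comp, hΦΨ, LinearMap.toMatrix'_id]
  · rw [map_sub, Matrix.toLin'_one, ← LinearMap.toMatrix'_comp, Matrix.toLin'_toMatrix', ← hsum]
    abel

/-- Conversely. -/
theorem stab_of_split {n m : ℕ} {Φ : Matrix (Fin n) (Fin m) S} {Ψ : Matrix (Fin m) (Fin n) S}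
    (h : Φ * Ψ = 1) (hP : Pres S M (1 - Ψ * Φ)) :
    Nonempty ((M × (Fin n → S)) ≃ₗ[S] (Fin m → S)) := by
  obtain ⟨i, p, hpi, hip⟩ := hP
  have hpix : ∀ x, p (i x) = x := fun x => LinearMap.congr_fun hpi x
  have hipx : ∀ z, i (p z) = z - Matrix.toLin' Ψ (Matrix.toLin' Φ z) := by
    intro z
    have := LinearMap.congr_fun hip z
    rw [LinearMap.comp_apply] at this
    rw [this, map_sub, Matrix.toLin'_one, Matrix.toLin'_mul]
    rfl
  have hΦΨx : ∀ y, Matrix.toLin' Φ (Matrix.toLin' Ψ y) = y := by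
    intro y
    rw [← Matrix.toLin'_mul_apply, h, Matrix.toLin'_one]; rfl
  have hi_inj : Function.Injective i := by
    intro x y hxy
    rw [← hpix x, ← hpix y, hxy]
  have hpΨ : ∀ y, p (Matrix.toLin' Ψ y) = 0 := by
    intro y
    apply hi_inj
    rw [hipx, hΦΨx, sub_self, map_zero]
  have hΦi : ∀ x, Matrix.toLin' Φ (i x) = 0 := by
    intro x
    have h1 := hipx (i x)
    rw [hpix] at h1
    have h2 : Matrix.toLin' Ψ (Matrix.toLin' Φ (i x)) = 0 := by
      have := sub_eq_zero.mpr h1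
      simpa using this
    have := congrArg (Matrix.toLin' Φ) h2
    rwa [hΦΨx, map_zero] at this
  refine ⟨LinearEquiv.ofLinearMap
    (i.coprod (Matrix.toLin' Ψ)) (p.prod (Matrix.toLin' Φ)) ?_ ?_⟩
  · refine LinearMap.ext fun z => ?_
    simp only [LinearMap.comp_apply, LinearMap.coprod_apply, LinearMap.prod_apply,
      Function.prod_apply, LinearMap.id_apply]
    rw [hipx]; abel
  · refine LinearMap.ext fun z => ?_
    obtain ⟨x, y⟩ := z
    simp only [LinearMap.comp_apply, LinearMap.coprod_apply, LinearMap.prod_apply,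
      Function.prod_apply, LinearMap.id_apply, map_add, hpix, hpΨ, hΦi, hΦΨx, add_zero, zero_add,
      Prod.mk_add_mk]

end stab

section main

variable {B B' : Type u} [CommRing B] [CommRing B'] [Algebra B B'] {t : B} {O : Subring B'}

/-- Main abstract theorem: descent of isomorphisms of finite projective modules along
`B → B'` and extension of stably free modules. -/
theorem Hyp.main (H : Hyp (algebraMap B B') t O) :
    (∀ (M N : Type u) [AddCommGroup M] [Module B M] [Module.Finite B M] [Module.Projective B M]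
        [AddCommGroup N] [Module B N] [Module.Finite B N] [Module.Projective B N],
        Nonempty (B' ⊗[B] M ≃ₗ[B'] B' ⊗[B] N) → Nonempty (M ≃ₗ[B] N)) ∧
    (∀ (M' : Type u) [AddCommGroup M'] [Module B' M'] [Module.Finite B' M'],
        (∃ n m : ℕ, Nonempty ((M' × (Fin n → B')) ≃ₗ[B'] (Fin m → B'))) →
        ∃ (M : Type u) (_ : AddCommGroup M) (_ : Module B M), Module.Finite B M ∧
          (∃ n m : ℕ, Nonempty ((M × (Fin n → B)) ≃ₗ[B] (Fin m → B))) ∧
          Nonempty (B' ⊗[B] M ≃ₗ[B'] M')) := by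
  refine ⟨?_, ?_⟩
  · intro M N _ _ _ _ _ _ _ _ ⟨f⟩
    obtain ⟨n, e₁, h₁⟩ := exists_pres B M
    obtain ⟨m, e₂, h₂⟩ := exists_pres B N
    have hm : MvN (e₁.map (algebraMap B B')) (e₂.map (algebraMap B B')) :=
      (h₁.baseChange B').mvn_of_equiv (h₂.baseChange B') f
    exact h₁.equiv_of_mvn h₂ (H.mvn_descent h₁.idem h₂.idem hm)
  · intro M' _ _ _ ⟨n, m, ⟨σ⟩⟩
    obtain ⟨Φ, Ψ, hΦΨ, hP⟩ := exists_split_of_stab σ
    obtain ⟨Φ₀, Ψ₀, h₀, hmvn⟩ := H.lift_split hΦΨ
    have he : (1 - Ψ₀ * Φ₀) * (1 - Ψ₀ * Φ₀) = 1 - Ψ₀ * Φ₀ := by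
      rw [Matrix.sub_mul, Matrix.one_mul, Matrix.mul_sub, Matrix.mul_one, Matrix.mul_assoc Ψ₀ Φ₀,
        ← Matrix.mul_assoc Φ₀ Ψ₀, h₀, Matrix.one_mul, sub_self, sub_zero]
    have hP₀ := pres_range he
    refine ⟨LinearMap.range (Matrix.toLin' (1 - Ψ₀ * Φ₀)), inferInstance, inferInstance,
      hP₀.finite, ⟨n, m, stab_of_split h₀ hP₀⟩, ?_⟩
    exact (hP₀.baseChange B').equiv_of_mvn hP hmvn

end main

end Groth.Agent.H9.APM
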