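import Mathlib
import Groth.Agent.Lib.Helper9.Misc.APM1
import Groth.Agent.Lib.Helper9.Misc.APM1b
import Groth.Agent.Lib.Helper9.Misc.APM2
import Groth.Agent.Lib.Helper9.Misc.APM3

set_option autoImplicit false
set_option linter.style.haveILetI false
set_option linter.unusedSectionVars false
set_option linter.unusedVariables false

/-!
# The instance `A[1/t] → Â[1/t]` of the approximation framework.
-/

namespace Groth.Agent.H9.APA

open Groth.Agent.H9.APM

universe u

section abstract

variable {A A' B B' : Type*} [CommRing A] [CommRing A'] [CommRing B] [CommRing B']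
  [Algebra A A'] [Algebra A B] [Algebra A' B'] [Algebra B B'] (t : A)
  [IsLocalization.Away t B] [IsLocalization.Away (algebraMap A A' t) B']

/-- Abstract verification of `Hyp` for `A[1/t] → A'[1/t]` where `A → A'` behaves like a
`t`-adic completion. -/
theorem hyp_of_away
    (hcomp : ∀ a : A, algebraMap B B' (algebraMap A B a) = algebraMap A' B' (algebraMap A A' a))
    (ht : t ∈ (⊥ : Ideal A).jacobson)
    (AC1 : ∀ (n : ℕ) (x : A'), ∃ (a : A) (y : A'),
      x - algebraMap A A' a = algebraMap A A' t ^ n * y)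
    (AC2 : ∀ (n : ℕ) (a : A) (y : A'), algebraMap A A' a = algebraMap A A' t ^ n * y →
      ∃ a' : A, a = t ^ n * a')
    (AC3 : ∀ y : A', IsUnit (1 + algebraMap A A' t * y)) :
    Hyp (algebraMap B B') (algebraMap A B t) (algebraMap A' B').range := by
  have hut : IsUnit (algebraMap A B t) := IsLocalization.Away.algebraMap_isUnit t
  have huτ : IsUnit (algebraMap A' B' (algebraMap A A' t)) :=
    IsLocalization.Away.algebraMap_isUnit (algebraMap A A' t)
  -- key lemma
  have key : ∀ (b : B) (m : ℕ) (y : A'),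
      algebraMap B B' b = algebraMap A' B' (algebraMap A A' t) ^ m * algebraMap A' B' y →
      ∃ a : A, b = algebraMap A B t ^ m * algebraMap A B a := by
    intro b m y hb
    obtain ⟨k, a₀, hk⟩ := IsLocalization.Away.surj t b
    have h1 : algebraMap A' B' (algebraMap A A' t ^ (m + k) * y) =
        algebraMap A' B' (algebraMap A A' a₀) := by
      rw [← hcomp a₀, ← hk]
      simp only [map_mul, map_pow, hcomp, hb, pow_add]
      ring
    obtain ⟨c, hc⟩ := IsLocalization.Away.exists_of_eq (algebraMap A A' t) h1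
    have h2 : algebraMap A A' (t ^ c * a₀) = algebraMap A A' t ^ (c + (m + k)) * y := by
      rw [map_mul, map_pow, ← hc, pow_add]; ring
    obtain ⟨a', ha'⟩ := AC2 _ _ _ h2
    refine ⟨a', ?_⟩
    have h3 : algebraMap A B t ^ c * algebraMap A B a₀ =
        algebraMap A B t ^ c * (algebraMap A B t ^ (m + k) * algebraMap A B a') := by
      rw [← map_pow, ← map_mul, ha', map_mul, map_pow, pow_add, mul_assoc, map_pow]
    have h4 : algebraMap A B a₀ = algebraMap A B t ^ (m + k) * algebraMap A B a' :=
      (hut.pow c).mul_right_injective h3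
    apply (hut.pow k).mul_left_injective
    simp only
    rw [hk, h4, pow_add]; ring
  refine ⟨?_, ?_, ?_, ?_, ?_, ?_⟩
  · exact ⟨algebraMap A A' t, (hcomp t).symm⟩
  · intro b'
    obtain ⟨k, x, hk⟩ := IsLocalization.Away.surj (algebraMap A A' t) b'
    exact ⟨k, x, by rw [hcomp, mul_comm, hk]⟩
  · intro b' n
    obtain ⟨k, x, hk⟩ := IsLocalization.Away.surj (algebraMap A A' t) b'
    obtain ⟨a, y, hay⟩ := AC1 (n + k) x
    obtain ⟨w, hw⟩ := (hut.pow k).exists_right_inv
    refine ⟨algebraMap A B a * w, algebraMap A' B' y, ⟨y, rfl⟩, ?_⟩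
    apply (huτ.pow k).mul_left_injective
    simp only
    have hw' : algebraMap B B' w * algebraMap A' B' (algebraMap A A' t) ^ k = 1 := by
      have := congrArg (algebraMap B B') hw
      rw [map_mul, map_pow, hcomp, map_one] at this
      rw [mul_comm]; exact this
    rw [sub_mul, hk, map_mul, mul_assoc, hw', mul_one, hcomp, ← map_sub, hay, map_mul, map_pow,
      hcomp, pow_add]
    ring
  · rintro b ⟨c, ⟨y, rfl⟩, hb⟩
    rw [hcomp] at hb
    obtain ⟨a, ha⟩ := key b 1 y (by rw [pow_one]; exact hb)
    rw [pow_one] at ha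
    exact ⟨algebraMap A B a, ⟨algebraMap A A' a, (hcomp a).symm⟩, ha⟩
  · rintro a' ⟨y, hy⟩
    obtain ⟨a, ha⟩ := key a' 0 y (by rw [pow_zero, one_mul]; exact hy.symm)
    rw [pow_zero, one_mul] at ha
    have h1 : IsUnit (1 + t * a) := by
      have := (Ideal.mem_jacobson_bot.mp ht) a
      rwa [add_comm] at this
    have h2 : 1 + algebraMap A B t * a' = algebraMap A B (1 + t * a) := by
      rw [ha, map_add, map_one, map_mul]
    rw [h2]; exact h1.map _
  · rintro c ⟨y, rfl⟩
    have h2 : 1 + algebraMap B B' (algebraMap A B t) * algebraMap A' B' y =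
        algebraMap A' B' (1 + algebraMap A A' t * y) := by
      rw [hcomp, map_add, map_one, map_mul]
    rw [h2]; exact (AC3 y).map _

end abstract

end Groth.Agent.H9.APA

namespace Groth.Agent.H9.APA

open Groth.Agent.H9.APM

universe u

section adic

variable {A : Type u} [CommRing A] (t : A)

theorem adic_smul_eq (n : ℕ) (y : AdicCompletion (Ideal.span {t}) A) :
    (t ^ n) • y = algebraMap A (AdicCompletion (Ideal.span {t}) A) t ^ n * y := by
  rw [Algebra.smul_def, map_pow]

theorem mem_pow_smul_top_iff (n : ℕ) (x : AdicCompletion (Ideal.span {t}) A) :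
    x ∈ ((Ideal.span {t}) ^ n • ⊤ : Submodule A (AdicCompletion (Ideal.span {t}) A)) ↔
      ∃ y : AdicCompletion (Ideal.span {t}) A,
        x = algebraMap A (AdicCompletion (Ideal.span {t}) A) t ^ n * y := by
  rw [Ideal.span_singleton_pow, Submodule.ideal_span_singleton_smul,
    Submodule.mem_smul_pointwise_iff_exists]
  constructor
  · rintro ⟨y, -, rfl⟩
    exact ⟨y, adic_smul_eq t n y⟩
  · rintro ⟨y, rfl⟩
    exact ⟨y, Submodule.mem_top, adic_smul_eq t n y⟩

theorem adic_AC1 (n : ℕ) (x : AdicCompletion (Ideal.span {t}) A) :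
    ∃ (a : A) (y : AdicCompletion (Ideal.span {t}) A),
      x - algebraMap A (AdicCompletion (Ideal.span {t}) A) a =
        algebraMap A (AdicCompletion (Ideal.span {t}) A) t ^ n * y := by
  obtain ⟨a, ha⟩ := Submodule.mkQ_surjective _ (AdicCompletion.eval (Ideal.span {t}) A n x)
  have hfg : (Ideal.span {t}).FG := ⟨{t}, by simp⟩
  have hmem : x - algebraMap A (AdicCompletion (Ideal.span {t}) A) a ∈
      ((Ideal.span {t}) ^ n • ⊤ : Submodule A (AdicCompletion (Ideal.span {t}) A)) := by
    rw [AdicCompletion.pow_smul_top_eq_ker_eval hfg, LinearMap.mem_ker, map_sub, sub_eq_zero,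
      ← ha]
    rfl
  obtain ⟨y, hy⟩ := (mem_pow_smul_top_iff t n _).mp hmem
  exact ⟨a, y, hy⟩

theorem adic_AC2 (n : ℕ) (a : A) (y : AdicCompletion (Ideal.span {t}) A)
    (h : algebraMap A (AdicCompletion (Ideal.span {t}) A) a =
      algebraMap A (AdicCompletion (Ideal.span {t}) A) t ^ n * y) :
    ∃ a' : A, a = t ^ n * a' := by
  have hmem : algebraMap A (AdicCompletion (Ideal.span {t}) A) a ∈
      ((Ideal.span {t}) ^ n • ⊤ : Submodule A (AdicCompletion (Ideal.span {t}) A)) :=
    (mem_pow_smul_top_iff t n _).mpr ⟨y, h⟩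
  have h1 := AdicCompletion.pow_smul_top_le_ker_eval (I := Ideal.span {t}) (M := A) n hmem
  rw [LinearMap.mem_ker] at h1
  have h2 : AdicCompletion.eval (Ideal.span {t}) A n
      (algebraMap A (AdicCompletion (Ideal.span {t}) A) a) =
      Submodule.mkQ ((Ideal.span {t}) ^ n • ⊤ : Submodule A A) a := rfl
  rw [h2, Submodule.mkQ_apply, Submodule.Quotient.mk_eq_zero] at h1
  have h3 : a ∈ (Ideal.span {t}) ^ n := by
    simpa using h1
  rw [Ideal.span_singleton_pow, Ideal.mem_span_singleton'] at h3
  obtain ⟨a', ha'⟩ := h3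
  exact ⟨a', by rw [← ha', mul_comm]⟩

theorem adic_AC3 (y : AdicCompletion (Ideal.span {t}) A) :
    IsUnit (1 + algebraMap A (AdicCompletion (Ideal.span {t}) A) t * y) := by
  have hfg : (Ideal.span {t}).FG := ⟨{t}, by simp⟩
  haveI := AdicCompletion.isAdicComplete_self (Ideal.span {t}) hfg
  have h1 : algebraMap A (AdicCompletion (Ideal.span {t}) A) t ∈
      (Ideal.span {t}).map (algebraMap A (AdicCompletion (Ideal.span {t}) A)) :=
    Ideal.mem_map_of_mem _ (Ideal.mem_span_singleton_self t)
  have h2 := IsAdicComplete.le_jacobson_bot _ h1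
  have := (Ideal.mem_jacobson_bot.mp h2) y
  rwa [add_comm] at this

end adic

end Groth.Agent.H9.APA

namespace Groth.Agent.H9.APA

open Groth.Agent.H9.APM

universe u

theorem hyp_adic {A : Type u} [CommRing A] (t : A) (ht : t ∈ (⊥ : Ideal A).jacobson)
    [Algebra (Localization.Away t)
      (Localization.Away (algebraMap A (AdicCompletion (Ideal.span {t}) A) t))]
    (halg : algebraMap (Localization.Away t)
        (Localization.Away (algebraMap A (AdicCompletion (Ideal.span {t}) A) t)) =
      Localization.awayMap (algebraMap A (AdicCompletion (Ideal.span {t}) A)) t) :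
    Hyp (algebraMap (Localization.Away t)
        (Localization.Away (algebraMap A (AdicCompletion (Ideal.span {t}) A) t)))
      (algebraMap A (Localization.Away t) t)
      (algebraMap (AdicCompletion (Ideal.span {t}) A)
        (Localization.Away (algebraMap A (AdicCompletion (Ideal.span {t}) A) t))).range := by
  refine hyp_of_away (A' := AdicCompletion (Ideal.span {t}) A) t ?_ ht (adic_AC1 t) (adic_AC2 t)
    (adic_AC3 t)
  intro a
  rw [halg]
  exact IsLocalization.map_eq _ _

end Groth.Agent.H9.APA
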