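import Mathlib
import Groth.Prelude.Def_W4bk4boschfrg79

/-! Helper9: restricted power series are flat over base rings of class (N)/(V). -/

namespace Groth.Agent.H9.RPowFlat

universe u

open AdicCompletion

/-- multiplication by a power of a non-zero-divisor `τ` is injective on the `(τ)`-adic completion -/
lemma eq_zero_of_pow_smul {P : Type u} [CommRing P] (τ : P) (hτ : τ ∈ nonZeroDivisors P)
    (m : ℕ) (x : AdicCompletion (Ideal.span {τ}) P) (hx : (τ ^ m) • x = 0) : x = 0 := by
  ext k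
  rw [val_zero_apply]
  obtain ⟨y, hy⟩ := Submodule.mkQ_surjective _ (x.val (k + m))
  have h1 : (τ ^ m • x).val (k + m) = 0 := by rw [hx]; rfl
  rw [val_smul_apply, ← hy, ← map_smul, Submodule.mkQ_apply, Submodule.Quotient.mk_eq_zero,
    smul_eq_mul, Ideal.mul_top, Ideal.span_singleton_pow, Ideal.mem_span_singleton'] at h1
  obtain ⟨z, hz⟩ := h1
  have h2 : y = z * τ ^ k := by
    have : τ ^ m * (z * τ ^ k) = τ ^ m * y := by rw [smul_eq_mul] at hz; rw [← hz]; ring
    exact (mul_cancel_left_mem_nonZeroDivisors (pow_mem hτ m)).mp this.symm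
  rw [← transitionMap_comp_eval_apply (I := Ideal.span {τ}) (M := P) (Nat.le_add_right k m) x, ← hy]
  show Submodule.mkQ _ y = 0
  rw [Submodule.mkQ_apply, Submodule.Quotient.mk_eq_zero, smul_eq_mul, Ideal.mul_top,
    Ideal.span_singleton_pow, Ideal.mem_span_singleton']
  exact ⟨z, h2.symm⟩

lemma eq_zero_of_pow_smul' {P : Type u} [CommRing P] (τ : P) (hτ : τ ∈ nonZeroDivisors P)
    (J : Ideal P) (hJ : J = Ideal.span {τ})
    (m : ℕ) (x : AdicCompletion J P) (hx : (τ ^ m) • x = 0) : x = 0 := by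
  subst hJ
  exact eq_zero_of_pow_smul τ hτ m x hx

theorem caseN (R : Type u) [CommRing R] (I : Ideal R) [IsNoetherianRing R] (n : ℕ) :
    Module.Flat R (AdicRing.RPow R I n) := by
  have h1 : Module.Flat (MvPolynomial (Fin n) R) (AdicRing.RPow R I n) :=
    AdicCompletion.flat_of_isNoetherian _
  exact Module.Flat.trans R (MvPolynomial (Fin n) R) (AdicRing.RPow R I n)

theorem caseV (R : Type u) [CommRing R] [IsDomain R] [ValuationRing R] (I : Ideal R)
    [IsHausdorff I R] (t : R) (ht : t ≠ 0) (hI : I = Ideal.span {t}) (n : ℕ) :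
    Module.Flat R (AdicRing.RPow R I n) := by
  rw [Module.Flat.flat_iff_torsion_eq_bot_of_isBezout, eq_bot_iff]
  intro x hx
  rw [Submodule.mem_torsion_iff] at hx
  obtain ⟨⟨r, hr⟩, hrx⟩ := hx
  have hr0 : r ≠ 0 := nonZeroDivisors.ne_zero hr
  rw [Submodule.mem_bot]
  -- r divides a power of t
  have hdiv : ∃ m, r ∣ t ^ m := by
    by_contra hcon
    push Not at hcon
    apply hr0
    refine IsHausdorff.haus' (I := I) r fun m => ?_
    rw [SModEq.zero, smul_eq_mul, Ideal.mul_top, hI, Ideal.span_singleton_pow,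
      Ideal.mem_span_singleton]
    obtain ⟨c, hc | hc⟩ := ValuationRing.cond r (t ^ m)
    · exact absurd ⟨c, hc.symm⟩ (hcon m)
    · exact ⟨c, hc.symm⟩
  obtain ⟨m, b, hb⟩ := hdiv
  have hJ : I.map (MvPolynomial.C : R →+* MvPolynomial (Fin n) R) =
      Ideal.span {(MvPolynomial.C t : MvPolynomial (Fin n) R)} := by
    rw [hI, Ideal.map_span, Set.image_singleton]
  have hCt : (MvPolynomial.C t : MvPolynomial (Fin n) R) ∈ nonZeroDivisors _ := by
    apply mem_nonZeroDivisors_of_ne_zero
    rw [Ne, MvPolynomial.C_eq_zero]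
    exact ht
  refine eq_zero_of_pow_smul' (MvPolynomial.C t) hCt _ hJ m x ?_
  have h1 : ((MvPolynomial.C t : MvPolynomial (Fin n) R) ^ m) • x = (t ^ m) • x := by
    rw [← map_pow]
    exact algebraMap_smul (MvPolynomial (Fin n) R) (t ^ m) x
  rw [h1, hb, mul_comm, mul_smul]
  have : r • x = 0 := hrx
  rw [this, smul_zero]

theorem S11546
    (R : Type u) [CommRing R] (I : Ideal R) (hR : AdicRing.IsBase R I) (n : ℕ) :
    Module.Flat R (AdicRing.RPow R I n) := by
  obtain ⟨hc, ⟨hN, -⟩ | ⟨hdom, hpre, -, t, ht, hI⟩⟩ := hR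
  · exact caseN R I n
  · have : ValuationRing R := { toPreValuationRing := hpre }
    have : IsHausdorff I R := hc.toIsHausdorff
    exact caseV R I t ht hI n

end Groth.Agent.H9.RPowFlat
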