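import Mathlib

/-! Helper9: fibre rings over the closed and generic points (for S0421, S3417, S0436). -/

set_option linter.style.haveILetI false
set_option linter.unusedSectionVars false

namespace Groth.Agent.H9.DVF

open TensorProduct

universe u

theorem quot_reduced_of_fiber (R : Type u) [CommRing R] [IsLocalRing R] (B : Type u) [CommRing B]
    [Algebra R B] (h : IsReduced ((IsLocalRing.maximalIdeal R).Fiber B)) :
    IsReduced (B ⧸ (IsLocalRing.maximalIdeal R).map (algebraMap R B)) := by
  let m := IsLocalRing.maximalIdeal R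
  let e0 : (R ⧸ m) ≃ₐ[R] m.ResidueField :=
    AlgEquiv.ofBijective (IsScalarTower.toAlgHom R (R ⧸ m) m.ResidueField)
      (Ideal.bijective_algebraMap_quotient_residueField m)
  let e1 : (B ⧸ m.map (algebraMap R B)) ≃ₐ[B] B ⊗[R] (R ⧸ m) :=
    Algebra.TensorProduct.quotIdealMapEquivTensorQuot B m
  let e2 : B ⊗[R] (R ⧸ m) ≃ₐ[R] B ⊗[R] m.ResidueField :=
    Algebra.TensorProduct.congr AlgEquiv.refl e0
  let e3 : B ⊗[R] m.ResidueField ≃ₐ[R] m.ResidueField ⊗[R] B :=
    Algebra.TensorProduct.comm R B m.ResidueField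
  let e : (B ⧸ m.map (algebraMap R B)) ≃+* m.ResidueField ⊗[R] B :=
    (e1.toRingEquiv.trans e2.toRingEquiv).trans e3.toRingEquiv
  exact isReduced_of_injective e.toRingHom e.injective

theorem fiber_bot_reduced (R : Type u) [CommRing R] [IsDomain R] (B : Type u) [CommRing B]
    [Algebra R B] [IsReduced B] : IsReduced ((⊥ : Ideal R).Fiber B) := by
  letI : Algebra B ((⊥ : Ideal R).ResidueField ⊗[R] B) := Algebra.TensorProduct.rightAlgebra
  haveI : IsLocalization (Algebra.algebraMapSubmonoid B (nonZeroDivisors R))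
      ((⊥ : Ideal R).ResidueField ⊗[R] B) :=
    IsLocalization.tensorRight (A := (⊥ : Ideal R).ResidueField) (S := B) (nonZeroDivisors R)
  exact isReduced_localizationPreserves (Algebra.algebraMapSubmonoid B (nonZeroDivisors R)) _
    inferInstance

end Groth.Agent.H9.DVF
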