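import Mathlib

set_option linter.unusedSectionVars false
set_option linter.unusedVariables false
set_option linter.style.longLine false

namespace Groth.Agent.H9.WildFrob

noncomputable section

section OneVar

open Polynomial

variable {R : Type*} [CommRing R]

/-- the one-variable relation `u^p - c u - x` -/
def fp (p : ℕ) (c x : R) : R[X] := X ^ p - C c * X - C x

theorem fp_eq (p : ℕ) (c x : R) : fp p c x = X ^ p + -(C c * X + C x) := by
  unfold fp; ring

theorem X_pow_add_eq (p : ℕ) (c x : R) (t : ℕ) :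
    (X : R[X]) ^ (t + p) = (C c * X ^ (t + 1) + C x * X ^ t) + fp p c x * X ^ t := by
  unfold fp; ring

variable [Nontrivial R]

theorem fp_aux {p : ℕ} (hp : 2 ≤ p) (c x : R) :
    (-(C c * X + C x) : R[X]).degree < (p : WithBot ℕ) := by
  rw [degree_neg]
  exact lt_of_le_of_lt degree_linear_le (by exact_mod_cast (by omega : 1 < p))

theorem fp_monic {p : ℕ} (hp : 2 ≤ p) (c x : R) : (fp p c x).Monic := by
  rw [fp_eq]; exact monic_X_pow_add (fp_aux hp c x)

theorem fp_degree {p : ℕ} (hp : 2 ≤ p) (c x : R) : (fp p c x).degree = (p : WithBot ℕ) := by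
  rw [fp_eq, degree_add_eq_left_of_degree_lt, degree_X_pow]
  rw [degree_X_pow]; exact fp_aux hp c x

theorem fp_natDegree {p : ℕ} (hp : 2 ≤ p) (c x : R) : (fp p c x).natDegree = p :=
  natDegree_eq_of_degree_eq_some (fp_degree hp c x)

theorem fp_ne_one {p : ℕ} (hp : 2 ≤ p) (c x : R) : fp p c x ≠ 1 := by
  intro h
  have := fp_natDegree hp c x
  rw [h, natDegree_one] at this
  omega

theorem mod_of_eq {p : ℕ} (hp : 2 ≤ p) (c x : R) {q r s : R[X]} (h : q = r + fp p c x * s)
    (hr : r.degree < (p : WithBot ℕ)) : q %ₘ fp p c x = r :=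
  (div_modByMonic_unique s r (fp_monic hp c x) ⟨h.symm, by rw [fp_degree hp]; exact hr⟩).2

theorem mod_self_of_lt {p : ℕ} (hp : 2 ≤ p) (c x : R) {q : R[X]}
    (hq : q.degree < (p : WithBot ℕ)) : q %ₘ fp p c x = q :=
  (modByMonic_eq_self_iff (fp_monic hp c x)).2 (by rw [fp_degree hp]; exact hq)

theorem coeff_mod_rec {p : ℕ} (hp : 2 ≤ p) (c x : R) (k l : ℕ) :
    ((X : R[X]) ^ (k + p) %ₘ fp p c x).coeff l =
      c * ((X : R[X]) ^ (k + 1) %ₘ fp p c x).coeff l + x * ((X : R[X]) ^ k %ₘ fp p c x).coeff l := by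
  have hm := fp_monic hp c x
  rw [X_pow_add_eq p c x k, add_modByMonic, add_modByMonic,
    (modByMonic_eq_zero_iff_dvd hm).2 (dvd_mul_right _ _), add_zero, C_mul', C_mul',
    smul_modByMonic, smul_modByMonic, coeff_add, coeff_smul, coeff_smul, smul_eq_mul, smul_eq_mul]

/-- dual basis polynomials -/
def dl (p : ℕ) (c : R) (b : ℕ) : R[X] := X ^ (p - 1 - b) - if b = 0 then C c else 0

theorem coeff_top_dual {p : ℕ} (hp : 2 ≤ p) (c x : R) (a b : ℕ) (ha : a < p) (hb : b < p) :
    (((X : R[X]) ^ a * dl p c b) %ₘ fp p c x).coeff (p - 1) = if a = b then 1 else 0 := by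
  unfold dl
  by_cases hb0 : b = 0
  · subst hb0
    rw [if_pos rfl]
    rcases Nat.eq_zero_or_pos a with ha0 | ha0
    · subst ha0
      have hd : ((X : R[X]) ^ (p - 1 - 0) - C c).degree < (p : WithBot ℕ) := by
        refine lt_of_le_of_lt (degree_sub_le _ _) (max_lt ?_ ?_)
        · rw [degree_X_pow]; exact_mod_cast (by omega : p - 1 - 0 < p)
        · exact lt_of_le_of_lt degree_C_le (by exact_mod_cast (by omega : 0 < p))
      rw [pow_zero, one_mul, mod_self_of_lt hp c x hd, if_pos rfl, coeff_sub, coeff_X_pow, coeff_C,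
        if_pos (by omega : p - 1 = p - 1 - 0), if_neg (by omega : ¬ (p - 1 = 0)), sub_zero]
    · obtain ⟨t, rfl⟩ : ∃ t, a = t + 1 := ⟨a - 1, by omega⟩
      have key : (X : R[X]) ^ (t + 1) * (X ^ (p - 1 - 0) - C c) =
          C x * X ^ t + fp p c x * X ^ t := by
        have e : (X : R[X]) ^ (t + 1) * X ^ (p - 1 - 0) = X ^ (t + p) := by
          rw [← pow_add]; congr 1; omega
        rw [mul_sub, e, X_pow_add_eq p c x t]; ring
      have hd : (C x * (X : R[X]) ^ t).degree < (p : WithBot ℕ) :=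
        lt_of_le_of_lt (degree_C_mul_X_pow_le _ _) (by exact_mod_cast (by omega : t < p))
      rw [mod_of_eq hp c x key hd, coeff_C_mul_X_pow, if_neg (by omega : ¬ (p - 1 = t)),
        if_neg (by omega : ¬ (t + 1 = 0))]
  · rw [if_neg hb0, sub_zero, ← pow_add]
    rcases Nat.lt_or_ge b a with hab | hab
    · obtain ⟨t, rfl⟩ : ∃ t, a = b + t + 1 := ⟨a - b - 1, by omega⟩
      have e : b + t + 1 + (p - 1 - b) = t + p := by omega
      have hd : (C c * (X : R[X]) ^ (t + 1) + C x * X ^ t).degree < (p : WithBot ℕ) := by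
        refine lt_of_le_of_lt (degree_add_le _ _) (max_lt ?_ ?_)
        · exact lt_of_le_of_lt (degree_C_mul_X_pow_le _ _)
            (by exact_mod_cast (by omega : t + 1 < p))
        · exact lt_of_le_of_lt (degree_C_mul_X_pow_le _ _)
            (by exact_mod_cast (by omega : t < p))
      rw [e, mod_of_eq hp c x (X_pow_add_eq p c x t) hd, coeff_add, coeff_C_mul_X_pow,
        coeff_C_mul_X_pow, if_neg (by omega : ¬ (p - 1 = t + 1)),
        if_neg (by omega : ¬ (p - 1 = t)), add_zero, if_neg (by omega : ¬ (b + t + 1 = b))]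
    · have hd : ((X : R[X]) ^ (a + (p - 1 - b))).degree < (p : WithBot ℕ) := by
        rw [degree_X_pow]; exact_mod_cast (by omega : a + (p - 1 - b) < p)
      rw [mod_self_of_lt hp c x hd, coeff_X_pow]
      by_cases hab' : a = b
      · rw [if_pos hab', if_pos (by omega : p - 1 = a + (p - 1 - b))]
      · rw [if_neg hab', if_neg (by omega : ¬ (p - 1 = a + (p - 1 - b)))]

theorem coeff_top_shift {p : ℕ} (hp : 2 ≤ p) (c x r : R) (a : ℕ) (ha : a < p) :
    (((X + C r : R[X]) ^ a) %ₘ fp p c x).coeff (p - 1) = if a = p - 1 then 1 else 0 := by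
  have hnd : ((X + C r : R[X]) ^ a).natDegree = a := natDegree_pow_X_add_C a r
  have hmon : ((X + C r : R[X]) ^ a).Monic := (monic_X_add_C r).pow a
  have hd : ((X + C r : R[X]) ^ a).degree < (p : WithBot ℕ) := by
    rw [degree_eq_natDegree hmon.ne_zero, hnd]; exact_mod_cast ha
  rw [mod_self_of_lt hp c x hd]
  by_cases h : a = p - 1
  · rw [if_pos h]
    have h1 := hmon.coeff_natDegree
    rw [hnd] at h1
    rw [← h]; exact h1
  · rw [if_neg h]
    apply coeff_eq_zero_of_natDegree_lt
    rw [hnd]; omega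

end OneVar

section Multi

variable {R : Type*} [CommRing R] [Nontrivial R] {n p : ℕ}

/-- the relations -/
abbrev Frel (p : ℕ) (c x : Fin n → R) (i : Fin n) : MvPolynomial (Fin n) R :=
  MvPolynomial.X i ^ p - MvPolynomial.C (c i) * MvPolynomial.X i - MvPolynomial.C (x i)

/-- the ideal -/
abbrev II (p : ℕ) (c x : Fin n → R) : Ideal (MvPolynomial (Fin n) R) :=
  Ideal.span (Set.range (Frel p c x))

/-- the quotient -/
abbrev QA (p : ℕ) (c x : Fin n → R) := MvPolynomial (Fin n) R ⧸ II p c x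

/-- the quotient map -/
abbrev mkA (p : ℕ) (c x : Fin n → R) : MvPolynomial (Fin n) R →ₐ[R] QA p c x :=
  Ideal.Quotient.mkₐ R (II p c x)

/-- coordinates of a monomial -/
def w (p : ℕ) (c x : Fin n → R) (m : Fin n →₀ ℕ) (β : Fin n → Fin p) : R :=
  ∏ j, ((Polynomial.X ^ (m j) : Polynomial R) %ₘ fp p (c j) (x j)).coeff (β j)

/-- coordinates of a polynomial -/
def rho (p : ℕ) (c x : Fin n → R) : MvPolynomial (Fin n) R →ₗ[R] ((Fin n → Fin p) → R) :=
  (MvPolynomial.basisMonomials (Fin n) R).constr R (fun m => w p c x m)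

theorem rho_monomial (c x : Fin n → R) (m : Fin n →₀ ℕ) (a : R) :
    rho p c x (MvPolynomial.monomial m a) = a • w p c x m := by
  have h : MvPolynomial.monomial m a = a • (MvPolynomial.basisMonomials (Fin n) R) m := by
    simp only [MvPolynomial.coe_basisMonomials, MvPolynomial.smul_monomial, smul_eq_mul, mul_one]
  rw [h, map_smul]
  unfold rho
  rw [Module.Basis.constr_basis]

theorem w_add_single (c x : Fin n → R) (m : Fin n →₀ ℕ) (i : Fin n) (k : ℕ)
    (β : Fin n → Fin p) :
    w p c x (m + Finsupp.single i k) β =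
      ((Polynomial.X ^ (m i + k) : Polynomial R) %ₘ fp p (c i) (x i)).coeff (β i) *
        ∏ j ∈ Finset.univ.erase i,
          ((Polynomial.X ^ (m j) : Polynomial R) %ₘ fp p (c j) (x j)).coeff (β j) := by
  unfold w
  rw [← Finset.mul_prod_erase Finset.univ _ (Finset.mem_univ i)]
  congr 1
  · simp only [Finsupp.add_apply, Finsupp.single_eq_same]
  · apply Finset.prod_congr rfl
    intro j hj
    have hji : ¬ i = j := fun e => (Finset.ne_of_mem_erase hj) e.symm
    simp only [Finsupp.add_apply, Finsupp.single_apply, if_neg hji, add_zero]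

theorem rho_mul_Frel (hp : 2 ≤ p) (c x : Fin n → R) (m : Fin n →₀ ℕ) (a : R) (i : Fin n) :
    rho p c x (MvPolynomial.monomial m a * Frel p c x i) = 0 := by
  have e : MvPolynomial.monomial m a * Frel p c x i =
      MvPolynomial.monomial (m + Finsupp.single i p) a
        - MvPolynomial.monomial (m + Finsupp.single i 1) (a * c i)
        - MvPolynomial.monomial (m + Finsupp.single i 0) (a * x i) := by
    show MvPolynomial.monomial m a * (MvPolynomial.X i ^ p - MvPolynomial.C (c i) * MvPolynomial.X i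
      - MvPolynomial.C (x i)) = _
    rw [MvPolynomial.X_pow_eq_monomial, MvPolynomial.C_mul_X_eq_monomial, MvPolynomial.C_apply,
      mul_sub, mul_sub, MvPolynomial.monomial_mul, MvPolynomial.monomial_mul,
      MvPolynomial.monomial_mul, mul_one, Finsupp.single_zero]
  rw [e, map_sub, map_sub, rho_monomial, rho_monomial, rho_monomial]
  funext β
  simp only [Pi.sub_apply, Pi.smul_apply, smul_eq_mul, Pi.zero_apply]
  rw [w_add_single, w_add_single, w_add_single, add_zero, coeff_mod_rec hp]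
  ring

theorem rho_mul_Frel' (hp : 2 ≤ p) (c x : Fin n → R) (g : MvPolynomial (Fin n) R) (i : Fin n) :
    rho p c x (g * Frel p c x i) = 0 := by
  refine MvPolynomial.induction_on' (P := fun g => rho p c x (g * Frel p c x i) = 0) g ?_ ?_
  · intro m a; exact rho_mul_Frel hp c x m a i
  · intro g1 g2 h1 h2
    have h1' : rho p c x (g1 * Frel p c x i) = 0 := h1
    have h2' : rho p c x (g2 * Frel p c x i) = 0 := h2
    show rho p c x ((g1 + g2) * Frel p c x i) = 0
    rw [add_mul, map_add, h1', h2', add_zero]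

theorem rho_eq_zero_of_mem (hp : 2 ≤ p) (c x : Fin n → R) {q : MvPolynomial (Fin n) R}
    (hq : q ∈ II p c x) : rho p c x q = 0 := by
  obtain ⟨g, rfl⟩ := Ideal.mem_span_range_iff_exists_fun.1 hq
  rw [map_sum]
  exact Finset.sum_eq_zero (fun i _ => rho_mul_Frel' hp c x (g i) i)

/-- the reduced monomials -/
def mono (R : Type*) [CommRing R] {n p : ℕ} (β : Fin n → Fin p) : MvPolynomial (Fin n) R :=
  ∏ i, MvPolynomial.X i ^ (β i : ℕ)

theorem monomial_eq_prod (m : Fin n →₀ ℕ) :
    MvPolynomial.monomial m (1 : R) = ∏ i, MvPolynomial.X i ^ (m i) := by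
  rw [MvPolynomial.monomial_eq, Finsupp.prod_fintype _ _ (fun i => pow_zero _), map_one, one_mul]

theorem aeval_expand (i : Fin n) (r : Polynomial R) (hr : r.natDegree < p) :
    Polynomial.aeval (MvPolynomial.X i : MvPolynomial (Fin n) R) r =
      ∑ j : Fin p, MvPolynomial.C (r.coeff j) * MvPolynomial.X i ^ (j : ℕ) := by
  conv_lhs => rw [Polynomial.as_sum_range' r p hr]
  rw [map_sum, Fin.sum_univ_eq_sum_range
    (fun j => MvPolynomial.C (r.coeff j) * (MvPolynomial.X i : MvPolynomial (Fin n) R) ^ j) p]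
  apply Finset.sum_congr rfl
  intro j _
  rw [Polynomial.aeval_monomial, MvPolynomial.algebraMap_eq]

theorem prod_aeval_expand (r : Fin n → Polynomial R) (hr : ∀ i, (r i).natDegree < p) :
    ∏ i, Polynomial.aeval (MvPolynomial.X i : MvPolynomial (Fin n) R) (r i) =
      ∑ β : Fin n → Fin p, MvPolynomial.C (∏ i, (r i).coeff (β i)) * mono R β := by
  rw [Finset.prod_congr rfl (fun i _ => aeval_expand i (r i) (hr i)),
    Finset.prod_univ_sum (fun _ => Finset.univ), Fintype.piFinset_univ]
  apply Finset.sum_congr rfl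
  intro β _
  rw [Finset.prod_mul_distrib, map_prod]
  rfl

theorem mkA_Frel (c x : Fin n → R) (i : Fin n) : mkA p c x (Frel p c x i) = 0 := by
  show Ideal.Quotient.mk (II p c x) (Frel p c x i) = 0
  exact Ideal.Quotient.eq_zero_iff_mem.2 (Ideal.subset_span ⟨i, rfl⟩)

theorem aeval_fp (c x : Fin n → R) (i : Fin n) :
    Polynomial.aeval (MvPolynomial.X i : MvPolynomial (Fin n) R) (fp p (c i) (x i)) =
      Frel p c x i := by
  show Polynomial.aeval _ (Polynomial.X ^ p - Polynomial.C (c i) * Polynomial.X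
    - Polynomial.C (x i)) = MvPolynomial.X i ^ p - MvPolynomial.C (c i) * MvPolynomial.X i
      - MvPolynomial.C (x i)
  simp only [map_sub, map_mul, map_pow, Polynomial.aeval_X, Polynomial.aeval_C,
    MvPolynomial.algebraMap_eq]

theorem mk_aeval_mod (c x : Fin n → R) (i : Fin n) (q : Polynomial R) :
    mkA p c x (Polynomial.aeval (MvPolynomial.X i) q) =
      mkA p c x (Polynomial.aeval (MvPolynomial.X i) (q %ₘ fp p (c i) (x i))) := by
  conv_lhs => rw [← Polynomial.modByMonic_add_div q (fp p (c i) (x i))]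
  rw [map_add, map_mul, aeval_fp, map_add, map_mul, mkA_Frel, zero_mul, add_zero]

theorem mk_prod_aeval (hp : 2 ≤ p) (c x : Fin n → R) (q : Fin n → Polynomial R) :
    mkA p c x (∏ i, Polynomial.aeval (MvPolynomial.X i) (q i)) =
      ∑ β : Fin n → Fin p,
        (∏ i, ((q i) %ₘ fp p (c i) (x i)).coeff (β i)) • mkA p c x (mono R β) := by
  have hr : ∀ i, ((q i) %ₘ fp p (c i) (x i)).natDegree < p := by
    intro i
    have := Polynomial.natDegree_modByMonic_lt (q i) (fp_monic hp (c i) (x i))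
      (fp_ne_one hp (c i) (x i))
    rwa [fp_natDegree hp] at this
  rw [map_prod, Finset.prod_congr rfl (fun i _ => mk_aeval_mod c x i (q i)), ← map_prod,
    prod_aeval_expand (fun i => q i %ₘ fp p (c i) (x i)) hr, map_sum]
  apply Finset.sum_congr rfl
  intro β _
  rw [← MvPolynomial.smul_eq_C_mul, map_smul]

theorem prod_ite_eq' (a b : Fin n → Fin p) :
    (∏ j, (if (a j : ℕ) = (b j : ℕ) then (1 : R) else 0)) = if a = b then 1 else 0 := by
  by_cases h : a = b
  · subst h; simp
  · rw [if_neg h]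
    obtain ⟨j, hj⟩ := Function.ne_iff.1 h
    exact Finset.prod_eq_zero (Finset.mem_univ j) (if_neg (fun e => hj (Fin.ext e)))

theorem rho_mono (hp : 2 ≤ p) (c x : Fin n → R) (β : Fin n → Fin p) :
    rho p c x (mono R β) = Pi.single β (1 : R) := by
  have e : mono R β =
      MvPolynomial.monomial (Finsupp.equivFunOnFinite.symm (fun i => (β i : ℕ))) (1 : R) := by
    rw [monomial_eq_prod]
    unfold mono
    simp only [Finsupp.equivFunOnFinite_symm_apply_apply]
  rw [e, rho_monomial, one_smul]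
  funext γ
  unfold w
  simp only [Finsupp.equivFunOnFinite_symm_apply_apply]
  have h1 : ∀ j, ((Polynomial.X ^ (β j : ℕ) : Polynomial R) %ₘ fp p (c j) (x j)).coeff (γ j)
      = if (γ j : ℕ) = (β j : ℕ) then 1 else 0 := by
    intro j
    rw [mod_self_of_lt hp (c j) (x j), Polynomial.coeff_X_pow]
    rw [Polynomial.degree_X_pow]; exact_mod_cast (β j).2
  rw [Finset.prod_congr rfl (fun j _ => h1 j), prod_ite_eq' γ β, Pi.single_apply]

/-- the quotient map as a linear map -/
def gI (p : ℕ) (c x : Fin n → R) : MvPolynomial (Fin n) R →ₗ[R] QA p c x :=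
  (mkA p c x).toLinearMap

theorem gI_surj (c x : Fin n → R) : Function.Surjective (gI p c x) :=
  Ideal.Quotient.mkₐ_surjective R (II p c x)

theorem ker_le (hp : 2 ≤ p) (c x : Fin n → R) :
    LinearMap.ker (gI p c x) ≤ LinearMap.ker (rho p c x) := by
  intro q hq
  rw [LinearMap.mem_ker] at hq ⊢
  exact rho_eq_zero_of_mem hp c x (Ideal.Quotient.eq_zero_iff_mem.1 hq)

/-- coordinates on the quotient -/
def rhobar (hp : 2 ≤ p) (c x : Fin n → R) : QA p c x →ₗ[R] ((Fin n → Fin p) → R) :=
  ((LinearMap.ker (gI p c x)).liftQ (rho p c x) (ker_le hp c x)).comp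
    ((gI p c x).quotKerEquivOfSurjective (gI_surj c x)).symm.toLinearMap

theorem rhobar_mk (hp : 2 ≤ p) (c x : Fin n → R) (q : MvPolynomial (Fin n) R) :
    rhobar hp c x (mkA p c x q) = rho p c x q := by
  have h : ((gI p c x).quotKerEquivOfSurjective (gI_surj c x)).symm (mkA p c x q) =
      Submodule.Quotient.mk q := by
    rw [LinearEquiv.symm_apply_eq]; rfl
  unfold rhobar
  rw [LinearMap.comp_apply, LinearEquiv.coe_coe, h, Submodule.liftQ_apply]

/-- from coordinates back to the quotient -/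
def theta (p : ℕ) (c x : Fin n → R) : ((Fin n → Fin p) → R) →ₗ[R] QA p c x :=
  Fintype.linearCombination R (fun β => mkA p c x (mono R β))

theorem theta_apply (c x : Fin n → R) (v : (Fin n → Fin p) → R) :
    theta p c x v = ∑ β, v β • mkA p c x (mono R β) := by
  unfold theta; rw [Fintype.linearCombination_apply]

theorem theta_rho (hp : 2 ≤ p) (c x : Fin n → R) (q : MvPolynomial (Fin n) R) :
    theta p c x (rho p c x q) = mkA p c x q := by
  have h : (theta p c x).comp (rho p c x) = (mkA p c x).toLinearMap := by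
    apply (MvPolynomial.basisMonomials (Fin n) R).ext
    intro m
    simp only [MvPolynomial.coe_basisMonomials, LinearMap.comp_apply, AlgHom.toLinearMap_apply]
    rw [rho_monomial, one_smul, monomial_eq_prod]
    have h2 := mk_prod_aeval hp c x (fun i => (Polynomial.X ^ (m i) : Polynomial R))
    simp only [map_pow, Polynomial.aeval_X] at h2
    rw [h2, theta_apply]
    rfl
  exact LinearMap.congr_fun h q

theorem theta_rhobar (hp : 2 ≤ p) (c x : Fin n → R) (b : QA p c x) :
    theta p c x (rhobar hp c x b) = b := by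
  obtain ⟨q, rfl⟩ := Ideal.Quotient.mkₐ_surjective R (II p c x) b
  rw [rhobar_mk, theta_rho hp]

theorem lin_ext (hp : 2 ≤ p) (c x : Fin n → R) {M : Type*} [AddCommMonoid M] [Module R M]
    (f f' : QA p c x →ₗ[R] M)
    (h : ∀ β : Fin n → Fin p, f (mkA p c x (mono R β)) = f' (mkA p c x (mono R β))) : f = f' := by
  ext b
  calc f b = f (theta p c x (rhobar hp c x b)) := by rw [theta_rhobar]
    _ = ∑ β, (rhobar hp c x b β) • f (mkA p c x (mono R β)) := by
      rw [theta_apply, map_sum]; simp_rw [map_smul]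
    _ = ∑ β, (rhobar hp c x b β) • f' (mkA p c x (mono R β)) := by simp_rw [h]
    _ = f' (theta p c x (rhobar hp c x b)) := by
      rw [theta_apply, map_sum]; simp_rw [map_smul]
    _ = f' b := by rw [theta_rhobar]

/-- the top index -/
def topIdx (hp : 2 ≤ p) : Fin n → Fin p := fun _ => ⟨p - 1, by omega⟩

/-- the Frobenius form -/
def tau (hp : 2 ≤ p) (c x : Fin n → R) : QA p c x →ₗ[R] R :=
  (LinearMap.proj (topIdx hp)).comp (rhobar hp c x)

theorem tau_apply (hp : 2 ≤ p) (c x : Fin n → R) (b : QA p c x) :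
    tau hp c x b = rhobar hp c x b (topIdx hp) := rfl

theorem rhobar_prod_aeval (hp : 2 ≤ p) (c x : Fin n → R) (q : Fin n → Polynomial R)
    (γ : Fin n → Fin p) :
    rhobar hp c x (mkA p c x (∏ i, Polynomial.aeval (MvPolynomial.X i) (q i))) γ =
      ∏ i, ((q i) %ₘ fp p (c i) (x i)).coeff (γ i) := by
  rw [mk_prod_aeval hp c x q, map_sum]
  simp_rw [map_smul, rhobar_mk, rho_mono hp]
  simp only [Finset.sum_apply, Pi.smul_apply, Pi.single_apply, smul_eq_mul, mul_ite, mul_one,
    mul_zero, Finset.sum_ite_eq, Finset.mem_univ, if_true]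

theorem tau_prod_aeval (hp : 2 ≤ p) (c x : Fin n → R) (q : Fin n → Polynomial R) :
    tau hp c x (mkA p c x (∏ i, Polynomial.aeval (MvPolynomial.X i) (q i))) =
      ∏ i, ((q i) %ₘ fp p (c i) (x i)).coeff (p - 1) :=
  rhobar_prod_aeval hp c x q (topIdx hp)

theorem tau_mono (hp : 2 ≤ p) (c x : Fin n → R) (α : Fin n → Fin p) :
    tau hp c x (mkA p c x (mono R α)) = if α = topIdx hp then 1 else 0 := by
  rw [tau_apply, rhobar_mk, rho_mono hp, Pi.single_apply]
  by_cases h : α = topIdx hp
  · rw [if_pos h, if_pos h.symm]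
  · rw [if_neg h, if_neg (fun e => h e.symm)]

/-- the dual elements -/
def mstar (c : Fin n → R) (β : Fin n → Fin p) : MvPolynomial (Fin n) R :=
  ∏ i, Polynomial.aeval (MvPolynomial.X i) (dl p (c i) (β i))

theorem tau_mono_mstar (hp : 2 ≤ p) (c x : Fin n → R) (α β : Fin n → Fin p) :
    tau hp c x (mkA p c x (mono R α) * mkA p c x (mstar c β)) = if α = β then 1 else 0 := by
  rw [← map_mul]
  have e : mono R α * mstar c β = ∏ i, Polynomial.aeval (MvPolynomial.X i)
      ((Polynomial.X ^ (α i : ℕ) : Polynomial R) * dl p (c i) (β i)) := by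
    unfold mono mstar
    rw [← Finset.prod_mul_distrib]
    apply Finset.prod_congr rfl
    intro i _
    rw [map_mul, map_pow, Polynomial.aeval_X]
  rw [e, tau_prod_aeval,
    Finset.prod_congr rfl (fun i _ => coeff_top_dual hp (c i) (x i) (α i) (β i) (α i).2 (β i).2)]
  exact prod_ite_eq' α β

theorem tau_surj (hp : 2 ≤ p) (c x : Fin n → R) (f : QA p c x →ₗ[R] R) :
    ∃ y : QA p c x, ∀ b, f b = tau hp c x (b * y) := by
  refine ⟨∑ β : Fin n → Fin p, f (mkA p c x (mono R β)) • mkA p c x (mstar c β), fun b => ?_⟩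
  have h : f = (tau hp c x).comp
      (LinearMap.mulRight R (∑ β : Fin n → Fin p, f (mkA p c x (mono R β)) • mkA p c x (mstar c β))) := by
    apply lin_ext hp c x
    intro α
    rw [LinearMap.comp_apply, LinearMap.mulRight_apply, Finset.mul_sum, map_sum]
    simp_rw [mul_smul_comm, map_smul, tau_mono_mstar, smul_eq_mul, mul_ite, mul_one, mul_zero]
    rw [Finset.sum_ite_eq, if_pos (Finset.mem_univ α)]
  exact LinearMap.congr_fun h b

theorem tau_inj (hp : 2 ≤ p) (c x : Fin n → R) (y : QA p c x)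
    (hy : ∀ b, tau hp c x (b * y) = 0) : y = 0 := by
  have h0 : rhobar hp c x y = 0 := by
    funext γ
    obtain ⟨z, hz⟩ := tau_surj hp c x ((LinearMap.proj γ).comp (rhobar hp c x))
    have h1 := hz y
    rw [mul_comm, hy z] at h1
    exact h1
  rw [← theta_rhobar hp c x y, h0, map_zero]

theorem tau_invariant (hp : 2 ≤ p) (c x : Fin n → R) (σ : QA p c x →ₐ[R] QA p c x)
    (r : Fin n → R)
    (hσ : ∀ i, σ (mkA p c x (MvPolynomial.X i)) =
      mkA p c x (MvPolynomial.X i) + algebraMap R (QA p c x) (r i)) (b : QA p c x) :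
    tau hp c x (σ b) = tau hp c x b := by
  have h : (tau hp c x).comp σ.toLinearMap = tau hp c x := by
    apply lin_ext hp c x
    intro α
    rw [LinearMap.comp_apply, AlgHom.toLinearMap_apply]
    have e1 : σ (mkA p c x (mono R α)) = mkA p c x (∏ i, Polynomial.aeval (MvPolynomial.X i)
        ((Polynomial.X + Polynomial.C (r i) : Polynomial R) ^ (α i : ℕ))) := by
      unfold mono
      rw [map_prod, map_prod, map_prod]
      apply Finset.prod_congr rfl
      intro i _
      simp only [map_pow, map_add, Polynomial.aeval_X, Polynomial.aeval_C, AlgHom.commutes, hσ]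
    rw [e1, tau_prod_aeval, tau_mono,
      Finset.prod_congr rfl (fun i _ => coeff_top_shift hp (c i) (x i) (r i) (α i) (α i).2)]
    exact prod_ite_eq' α (topIdx hp)
  exact LinearMap.congr_fun h b

theorem frob_exists (hp : 2 ≤ p) (c x : Fin n → R) :
    ∃ τ : (MvPolynomial (Fin n) R ⧸ II p c x) →ₗ[R] R,
      (∀ f : (MvPolynomial (Fin n) R ⧸ II p c x) →ₗ[R] R, ∃ y, ∀ b, f b = τ (b * y)) ∧
      (∀ y, (∀ b, τ (b * y) = 0) → y = 0) ∧
      (∀ (σ : (MvPolynomial (Fin n) R ⧸ II p c x) →ₐ[R] (MvPolynomial (Fin n) R ⧸ II p c x))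
        (r : Fin n → R),
        (∀ i, σ (Ideal.Quotient.mk (II p c x) (MvPolynomial.X i)) =
          Ideal.Quotient.mk (II p c x) (MvPolynomial.X i) +
            algebraMap R (MvPolynomial (Fin n) R ⧸ II p c x) (r i)) →
        ∀ b, τ (σ b) = τ b) :=
  ⟨tau hp c x, tau_surj hp c x, tau_inj hp c x, fun σ r hσ b => tau_invariant hp c x σ r hσ b⟩

theorem frob_exists' (hp : 2 ≤ p) (c x : Fin n → R) (I : Ideal (MvPolynomial (Fin n) R))
    (hI : I = II p c x) :
    ∃ τ : (MvPolynomial (Fin n) R ⧸ I) →ₗ[R] R,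
      (∀ f : (MvPolynomial (Fin n) R ⧸ I) →ₗ[R] R, ∃ y, ∀ b, f b = τ (b * y)) ∧
      (∀ y, (∀ b, τ (b * y) = 0) → y = 0) ∧
      (∀ (σ : (MvPolynomial (Fin n) R ⧸ I) →ₐ[R] (MvPolynomial (Fin n) R ⧸ I))
        (r : Fin n → R),
        (∀ i, σ (Ideal.Quotient.mk I (MvPolynomial.X i)) =
          Ideal.Quotient.mk I (MvPolynomial.X i) +
            algebraMap R (MvPolynomial (Fin n) R ⧸ I) (r i)) →
        ∀ b, τ (σ b) = τ b) := by
  subst hI
  exact frob_exists hp c x

end Multi

end

end Groth.Agent.H9.WildFrob
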