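import Mathlib
import Groth.Prelude.Def_AlgGrp
import Groth.Agent.Lib.Helper3.AntiAff.Kunneth
import Groth.Agent.Lib.Helper3.AntiAff.Const
import Groth.Agent.Lib.Helper3.AntiAff.AffKer
import Groth.Agent.Lib.Helper3.AntiAff.AABC
import Groth.Agent.Lib.Helper9.Misc.QUO1

/-! Helper9: anti-affineness via constancy of maps to affine schemes; extensions and quotients of
anti-affine groups (uses helper3's AntiAff library). -/

set_option autoImplicit false
set_option linter.style.haveILetI false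
set_option linter.unusedSectionVars false
set_option linter.unusedVariables false

namespace Groth.Agent.H9.AAExt

universe u

open CategoryTheory CategoryTheory.Limits AlgebraicGeometry MonoidalCategory
  CartesianMonoidalCategory MonObj
open Groth.Agent.H3.AntiAff

variable {k : Type u} [Field k]

local notation "𝟙K" => 𝟙_ (Over (Spec (CommRingCat.of k)))

/-- If every map from `X` to an affine `k`-scheme is constant then `Γ(X) = k`. -/
theorem isIso_appTop_of_const (X : Over (Spec (CommRingCat.of k))) (x₀ : 𝟙K ⟶ X)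
    (h : ∀ (Z : Over (Spec (CommRingCat.of k))), IsAffine Z.left → ∀ u : X ⟶ Z,
      u = toUnit X ≫ x₀ ≫ u) : IsIso X.hom.appTop := by
  obtain ⟨ζ, hζ⟩ := exists_gammaStr X
  let Z : Over (Spec (CommRingCat.of k)) := Over.mk ζ
  let u : X ⟶ Z := Over.homMk X.left.toSpecΓ hζ
  have hZ : IsAffine Z.left := (inferInstance : IsAffine (Spec Γ(X.left, ⊤)))
  have hu := h Z hZ u
  have hul0 : u.left = X.hom ≫ (x₀ ≫ u).left := by
    have := congrArg (fun φ => φ.left) hu
    simp only [Over.comp_left] at this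
    rw [toUnit_left] at this
    rw [Over.comp_left]
    exact this
  have hul : X.left.toSpecΓ = X.hom ≫ (x₀ ≫ u).left := hul0
  have happ : X.left.toSpecΓ.appTop = (x₀ ≫ u).left.appTop ≫ X.hom.appTop := by
    conv_lhs => rw [hul]
    rw [Scheme.Hom.comp_appTop]
  have hiso : IsIso ((x₀ ≫ u).left.appTop ≫ X.hom.appTop) := by
    rw [← happ, Scheme.toSpecΓ_appTop]
    infer_instance
  haveI : Nonempty X.left := ⟨x₀.left (IsLocalRing.closedPoint k)⟩
  haveI : Nonempty (⊤ : X.left.Opens) := ⟨⟨x₀.left (IsLocalRing.closedPoint k), trivial⟩⟩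
  haveI : Nontrivial Γ(X.left, ⊤) := inferInstance
  rw [ConcreteCategory.isIso_iff_bijective]
  constructor
  · letI := (isField_gammaSpec k).toField
    exact RingHom.injective X.hom.appTop.hom
  · have hb := (ConcreteCategory.isIso_iff_bijective _).mp hiso
    intro y
    obtain ⟨a, ha⟩ := hb.2 y
    exact ⟨(x₀ ≫ u).left.appTop a, ha⟩

variable (G₁ G G₂ : Over (Spec (CommRingCat.of k))) [GrpObj G₁] [GrpObj G] [GrpObj G₂]
  [LocallyOfFiniteType G.hom] [QuasiCompact G.hom]
  (i : G₁ ⟶ G) [IsMonHom i] (q : G ⟶ G₂) [IsMonHom q] [Surjective q.left] [Flat q.left]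
  (hex : AlgGrp.IsKernel i q)

include q in
theorem quot [IsIso G.hom.appTop] : IsIso G₂.hom.appTop := by
  haveI : Epi q := Groth.Agent.H9.QUO.epi_of_flat_surjective q
  apply isIso_appTop_of_const G₂ η[G₂]
  intro Z hZ u
  have h1 := const_of_affine_target G Z η[G] (q ≫ u)
  rw [← cancel_epi q]
  calc q ≫ u = toUnit G ≫ η[G] ≫ q ≫ u := h1
    _ = toUnit G ≫ η[G₂] ≫ u := by rw [← Category.assoc η[G], IsMonHom.one_hom q]
    _ = q ≫ toUnit G₂ ≫ η[G₂] ≫ u := by
      rw [← Category.assoc q, toUnit_unique (q ≫ toUnit G₂) (toUnit G)]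

include hex in
theorem ext [LocallyOfFiniteType G₁.hom] [QuasiCompact G₁.hom] [IsIso G₁.hom.appTop]
    [IsIso G₂.hom.appTop] : IsIso G.hom.appTop := by
  haveI : IsLocallyNoetherian G₁.left := LocallyOfFiniteType.isLocallyNoetherian G₁.hom
  haveI : CompactSpace G₁.left := QuasiCompact.compactSpace_of_compactSpace G₁.hom
  haveI : IsLocallyNoetherian G.left := LocallyOfFiniteType.isLocallyNoetherian G.hom
  haveI : CompactSpace G.left := QuasiCompact.compactSpace_of_compactSpace G.hom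
  haveI : IsNoetherian G.left := {}
  haveI : QuasiCompact q.left := inferInstance
  apply isIso_appTop_of_const G η[G]
  intro Z hZ u
  -- invariance under right translation by `G₁`
  have hinv : ∀ {T : Over (Spec (CommRingCat.of k))} (g : T ⟶ G) (n : T ⟶ G₁),
      (g * (n ≫ i)) ≫ u = g ≫ u := by
    intro T g n
    have key : lift (toUnit G ≫ η[G₁]) (𝟙 G) ≫ (snd G₁ G * (fst G₁ G ≫ i)) = 𝟙 G := by
      rw [MonObj.comp_mul, lift_snd, lift_fst_assoc, Category.assoc, IsMonHom.one_hom i,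
        ← CategoryTheory.Hom.one_def, _root_.mul_one]
    have hf := factor_of_affine_target G₁ G Z η[G₁] ((snd G₁ G * (fst G₁ G ≫ i)) ≫ u)
    calc (g * (n ≫ i)) ≫ u = lift n g ≫ ((snd G₁ G * (fst G₁ G ≫ i)) ≫ u) := by
          rw [← Category.assoc, MonObj.comp_mul, lift_snd, lift_fst_assoc]
      _ = lift n g ≫ (snd G₁ G ≫ lift (toUnit G ≫ η[G₁]) (𝟙 G) ≫
            (snd G₁ G * (fst G₁ G ≫ i)) ≫ u) := congrArg (fun φ => lift n g ≫ φ) hf
      _ = g ≫ u := by
          rw [lift_snd_assoc, ← Category.assoc (lift _ _), key, Category.id_comp]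
  have hdesc : ∀ {Z' : Scheme.{u}} (g₁ g₂ : Z' ⟶ G.left), g₁ ≫ q.left = g₂ ≫ q.left →
      g₁ ≫ u.left = g₂ ≫ u.left := by
    intro Z' g₁ g₂ hg
    let T : Over (Spec (CommRingCat.of k)) := Over.mk (g₁ ≫ G.hom)
    let g₁' : T ⟶ G := Over.homMk g₁ rfl
    let g₂' : T ⟶ G := Over.homMk g₂ (by
      change g₂ ≫ G.hom = g₁ ≫ G.hom
      rw [← Over.w q, ← Category.assoc, ← hg, Category.assoc])
    have hq : g₁' ≫ q = g₂' ≫ q := by
      ext : 1
      exact hg
    let n : T ⟶ G := g₁'⁻¹ * g₂'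
    have hn : n ≫ q = toUnit T ≫ η[G₂] := by
      rw [← CategoryTheory.Hom.one_def, MonObj.mul_comp, GrpObj.inv_comp, hq, inv_mul_cancel]
    let n' : T ⟶ G₁ := hex.lift n (toUnit T) hn
    have hn' : n' ≫ i = n := hex.lift_fst _ _ _
    have hg2 : g₂' = g₁' * (n' ≫ i) := by
      rw [hn']
      change g₂' = g₁' * (g₁'⁻¹ * g₂')
      rw [mul_inv_cancel_left]
    have : g₁' ≫ u = g₂' ≫ u := by
      rw [hg2, hinv]
    exact congrArg (fun x => x.left) this
  let ρ₀ : G₂.left ⟶ Z.left := EffectiveEpi.desc q.left u.left hdesc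
  have hρ₀ : q.left ≫ ρ₀ = u.left := EffectiveEpi.fac q.left u.left hdesc
  haveI : Epi q.left := Flat.epi_of_flat_of_surjective q.left
  let ρ : G₂ ⟶ Z := Over.homMk ρ₀ (by
    rw [← cancel_epi q.left, ← Category.assoc, hρ₀, Over.w u, Over.w q])
  have hρ : q ≫ ρ = u := by
    ext : 1
    exact hρ₀
  have hc := const_of_affine_target G₂ Z η[G₂] ρ
  calc u = q ≫ ρ := hρ.symm
    _ = q ≫ toUnit G₂ ≫ η[G₂] ≫ ρ := congrArg (fun φ => q ≫ φ) hc
    _ = toUnit G ≫ η[G₂] ≫ ρ := by
      rw [← Category.assoc, toUnit_unique (q ≫ toUnit G₂) (toUnit G)]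
    _ = toUnit G ≫ (η[G] ≫ q) ≫ ρ := by rw [IsMonHom.one_hom q]
    _ = toUnit G ≫ η[G] ≫ u := by rw [Category.assoc, hρ]

end Groth.Agent.H9.AAExt
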