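import Mathlib

set_option autoImplicit false
set_option linter.style.haveILetI false
set_option linter.unusedSectionVars false
set_option linter.unusedVariables false

namespace Groth.Agent.H9.ACI

open Cardinal

universe u

/-- Cardinal arithmetic: `a + b = c`, `a` finite, `c` infinite ⇒ `b = c`. -/
theorem eq_of_add_eq {a b c : Cardinal.{u}} (h : a + b = c) (ha : a < ℵ₀) (hc : ℵ₀ ≤ c) :
    b = c := by
  have hb : ℵ₀ ≤ b := by
    by_contra hb
    push Not at hb
    have := Cardinal.add_lt_aleph0 ha hb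
    rw [h] at this
    exact absurd hc (not_le.mpr this)
  rw [← h, Cardinal.add_eq_right hb (ha.le.trans hb)]

/-- Two algebraically closed fields over a ring `A` (injecting in both) with the same transcendence
degree are isomorphic over `A`. -/
theorem exists_ringEquiv_of_trdeg_eq {A K L : Type u} [CommRing A] [Field K] [Field L]
    [Algebra A K] [Algebra A L] [IsAlgClosed K] [IsAlgClosed L] [FaithfulSMul A K]
    [FaithfulSMul A L] (h : Algebra.trdeg A K = Algebra.trdeg A L) :
    ∃ e : K ≃+* L, ∀ a : A, e (algebraMap A K a) = algebraMap A L a := by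
  obtain ⟨ι, v, hv⟩ := exists_isTranscendenceBasis' A K
  obtain ⟨κ, w, hw⟩ := exists_isTranscendenceBasis' A L
  haveI : Nontrivial A := RingHom.domain_nontrivial (algebraMap A K)
  have hc : #ι = #κ := by
    rw [hv.cardinalMk_eq_trdeg, hw.cardinalMk_eq_trdeg, h]
  obtain ⟨e⟩ := Cardinal.eq.mp hc
  letI := IsAlgClosed.isAlgClosure_of_transcendence_basis v hv
  letI := IsAlgClosed.isAlgClosure_of_transcendence_basis w hw
  let e' : Algebra.adjoin A (Set.range v) ≃ₐ[A] Algebra.adjoin A (Set.range w) :=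
    (hv.1.aevalEquiv.symm.trans (MvPolynomial.renameEquiv A e)).trans hw.1.aevalEquiv
  refine ⟨IsAlgClosure.equivOfEquiv K L e'.toRingEquiv, fun a => ?_⟩
  have h1 : algebraMap A K a =
      algebraMap (Algebra.adjoin A (Set.range v)) K (algebraMap A _ a) := rfl
  rw [h1, IsAlgClosure.equivOfEquiv_algebraMap]
  have h2 : e'.toRingEquiv (algebraMap A _ a) = algebraMap A _ a := e'.commutes a
  rw [h2]
  rfl

/-- Lemma A: transcendence degree over a finite-transcendence-degree intermediate ring. -/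
theorem trdeg_eq_of_tower {k₀ A K : Type u} [Field k₀] [CommRing A] [Field K]
    [Algebra k₀ A] [Algebra k₀ K] [Algebra A K] [IsScalarTower k₀ A K] [FaithfulSMul A K]
    (hA : Algebra.trdeg k₀ A < ℵ₀) (hK : ℵ₀ ≤ Algebra.trdeg k₀ K) :
    Algebra.trdeg A K = Algebra.trdeg k₀ K := by
  haveI : Nontrivial A := RingHom.domain_nontrivial (algebraMap A K)
  haveI : FaithfulSMul k₀ A := (faithfulSMul_iff_algebraMap_injective k₀ A).mpr
    (algebraMap k₀ A).injective
  exact eq_of_add_eq (trdeg_add_eq k₀ A (A := K)) hA hK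

/-- Lemma B. -/
theorem trdeg_eq_of_tower' {k₀ k L : Type u} [Field k₀] [Field k] [Field L]
    [Algebra k₀ k] [Algebra k₀ L] [Algebra k L] [IsScalarTower k₀ k L]
    (hL : Algebra.trdeg k L < ℵ₀) (hk : ℵ₀ ≤ Algebra.trdeg k₀ k) :
    Algebra.trdeg k₀ L = Algebra.trdeg k₀ k := by
  rw [← trdeg_add_eq k₀ k (A := L), Cardinal.add_eq_left hk (hL.le.trans hk)]

/-- Abstract main theorem. -/
theorem main_abstract {k₀ k A L : Type u} [Field k₀] [Field k] [CommRing A] [Field L]
    [Algebra k₀ k] [Algebra k₀ A] [Algebra k₀ L] [Algebra k L] [IsScalarTower k₀ k L]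
    [IsAlgClosed k] [IsAlgClosed L]
    (hk : ℵ₀ ≤ Algebra.trdeg k₀ k) (hL : Algebra.trdeg k L < ℵ₀)
    (hA : Algebra.trdeg k₀ A < ℵ₀)
    (φ₁ : A →ₐ[k₀] L) (φ₂ : A →ₐ[k₀] k) (h₁ : Function.Injective φ₁)
    (h₂ : Function.Injective φ₂) :
    ∃ e : L ≃+* k, ∀ a : A, e (φ₁ a) = φ₂ a := by
  letI i1 : Algebra A L := φ₁.toRingHom.toAlgebra
  letI i2 : Algebra A k := φ₂.toRingHom.toAlgebra
  haveI : IsScalarTower k₀ A L := .of_algebraMap_eq fun x => (φ₁.commutes x).symm
  haveI : IsScalarTower k₀ A k := .of_algebraMap_eq fun x => (φ₂.commutes x).symm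
  haveI : FaithfulSMul A L := (faithfulSMul_iff_algebraMap_injective A L).mpr h₁
  haveI : FaithfulSMul A k := (faithfulSMul_iff_algebraMap_injective A k).mpr h₂
  have e1 : Algebra.trdeg k₀ L = Algebra.trdeg k₀ k := trdeg_eq_of_tower' hL hk
  have e2 : Algebra.trdeg A L = Algebra.trdeg k₀ L := trdeg_eq_of_tower hA (e1 ▸ hk)
  have e3 : Algebra.trdeg A k = Algebra.trdeg k₀ k := trdeg_eq_of_tower hA hk
  obtain ⟨e, he⟩ := exists_ringEquiv_of_trdeg_eq (A := A) (K := L) (L := k)
    (by rw [e2, e1, e3])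
  exact ⟨e, he⟩

end Groth.Agent.H9.ACI
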