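import Mathlib
import Groth.Agent.Lib.Helper9.Misc.ACI1

set_option autoImplicit false
set_option linter.style.haveILetI false
set_option linter.unusedSectionVars false
set_option linter.unusedVariables false

namespace Groth.Agent.H9.ACI

open Cardinal TensorProduct

universe u

theorem main (k₀ k : Type u)
    [Field k₀] [Field k] [Algebra k₀ k] [IsAlgClosed k] (hinf : ∃ x : ℕ → k, AlgebraicIndependent k₀ x)
    (R₀ : Type u) [CommRing R₀] [Algebra k₀ R₀] [Algebra.FiniteType k₀ R₀] [IsDomain (k ⊗[k₀] R₀)]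
    (ev : k ⊗[k₀] R₀ →ₐ[k] k) (hP : Function.Injective fun r : R₀ => ev (1 ⊗ₜ[k₀] r)) :
    ∃ e : AlgebraicClosure (FractionRing (k ⊗[k₀] R₀)) ≃+* k,
      ∀ r : R₀, e (algebraMap (k ⊗[k₀] R₀) (AlgebraicClosure (FractionRing (k ⊗[k₀] R₀)))
        (1 ⊗ₜ[k₀] r)) = ev (1 ⊗ₜ[k₀] r) := by
  obtain ⟨x, hx⟩ := hinf
  have hk : ℵ₀ ≤ Algebra.trdeg k₀ k := by
    have := hx.lift_cardinalMk_le_trdeg
    simpa using this
  have hA : Algebra.trdeg k₀ R₀ < ℵ₀ := trdeg_lt_aleph0_of_finiteType
  have hR : Algebra.trdeg k (k ⊗[k₀] R₀) < ℵ₀ := trdeg_lt_aleph0_of_finiteType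
  set R := k ⊗[k₀] R₀ with hRdef
  set L := AlgebraicClosure (FractionRing R) with hLdef
  haveI : Algebra.IsAlgebraic R L :=
    (IsFractionRing.comap_isAlgebraic_iff (A := R) (K := FractionRing R) (C := L)).mpr
      inferInstance
  have hj : Function.Injective (algebraMap R L) := by
    rw [IsScalarTower.algebraMap_eq R (FractionRing R) L]
    exact (algebraMap (FractionRing R) L).injective.comp (IsFractionRing.injective R _)
  haveI : FaithfulSMul R L := (faithfulSMul_iff_algebraMap_injective R L).mpr hj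
  have hL : Algebra.trdeg k L < ℵ₀ := by
    haveI : FaithfulSMul k R := (faithfulSMul_iff_algebraMap_injective k R).mpr
      (algebraMap k R).injective
    have h0 : Algebra.trdeg R L = 0 := trdeg_eq_zero
    have := trdeg_add_eq k R (A := L)
    rw [h0, add_zero] at this
    rw [← this]; exact hR
  let φ₁ : R₀ →ₐ[k₀] L := (IsScalarTower.toAlgHom k₀ R L).comp Algebra.TensorProduct.includeRight
  let φ₂ : R₀ →ₐ[k₀] k := (ev.restrictScalars k₀).comp Algebra.TensorProduct.includeRight
  have h₁ : Function.Injective φ₁ := by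
    have hi : Function.Injective (Algebra.TensorProduct.includeRight : R₀ →ₐ[k₀] R) :=
      Algebra.TensorProduct.includeRight_injective (algebraMap k₀ k).injective
    exact hj.comp hi
  have h₂ : Function.Injective φ₂ := hP
  obtain ⟨e, he⟩ := main_abstract hk hL hA φ₁ φ₂ h₁ h₂
  exact ⟨e, fun r => he r⟩

end Groth.Agent.H9.ACI
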