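import Mathlib

/-! Helper9: annihilator transfer along a flat intermediate base (for S15125). -/

set_option linter.style.haveILetI false
set_option linter.unusedSectionVars false

namespace Groth.Agent.H9.ADC

open TensorProduct

section lemmaC

variable {K S L : Type*} [CommRing K] [CommRing S] [CommRing L] [Algebra K S] [Algebra K L]
  [Algebra S L] [IsScalarTower K S L] [Module.Flat S L]

/-- multiplication by `d` on `S ⊗[K] L` as an `S`-linear map. -/
noncomputable def mulD (d : S ⊗[K] L) : (S ⊗[K] L) →ₗ[S] (S ⊗[K] L) :=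
  (LinearMap.mulRight S d)

omit [Module.Flat S L] in
lemma lTensor_mulD (d : S ⊗[K] L) (t : L ⊗[S] (S ⊗[K] L)) :
    (mulD d).lTensor L t = t * (1 ⊗ₜ d) := by
  induction t using TensorProduct.induction_on with
  | zero => simp
  | tmul a n =>
    simp [mulD, Algebra.TensorProduct.tmul_mul_tmul]
  | add a b ha hb => rw [map_add, ha, hb, add_mul]

/-- annihilator transfer along a flat base extension. -/
theorem ann_transfer (d : S ⊗[K] L)
    (hd : ∀ c : S ⊗[K] L, c * d = 0 → ∃ n, c = d * n)
    (s : L ⊗[K] L)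
    (hs : s * Algebra.TensorProduct.cancelBaseChange K S S L L (1 ⊗ₜ d) = 0) :
    ∃ s', s = Algebra.TensorProduct.cancelBaseChange K S S L L (1 ⊗ₜ d) * s' := by
  set e := Algebra.TensorProduct.cancelBaseChange K S S L L with he
  set t := e.symm s with ht
  have h1 : t * (1 ⊗ₜ d) = 0 := by
    apply e.injective
    rw [map_mul, map_zero, ht, AlgEquiv.apply_symm_apply]
    exact hs
  have h2 : t ∈ LinearMap.ker ((mulD d).lTensor L) := by
    rw [LinearMap.mem_ker, lTensor_mulD, h1]
  have hex := Module.Flat.lTensor_exact L (LinearMap.exact_subtype_ker_map (mulD d))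
  rw [LinearMap.exact_iff] at hex
  rw [hex] at h2
  obtain ⟨w, hw⟩ := h2
  have h3 : ∀ w : L ⊗[S] (LinearMap.ker (mulD d)),
      ∃ u : L ⊗[S] (S ⊗[K] L), (LinearMap.ker (mulD d)).subtype.lTensor L w = (1 ⊗ₜ d) * u := by
    intro w
    induction w using TensorProduct.induction_on with
    | zero => exact ⟨0, by simp⟩
    | tmul a c =>
      obtain ⟨n, hn⟩ := hd c.1 (by
        have := c.2
        rw [LinearMap.mem_ker] at this
        exact this)
      refine ⟨a ⊗ₜ n, ?_⟩
      simp [Algebra.TensorProduct.tmul_mul_tmul, hn]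
    | add a b ha hb =>
      obtain ⟨u, hu⟩ := ha
      obtain ⟨v, hv⟩ := hb
      exact ⟨u + v, by rw [map_add, hu, hv, mul_add]⟩
  obtain ⟨u, hu⟩ := h3 w
  refine ⟨e u, ?_⟩
  rw [← map_mul, ← hu, hw, ht, AlgEquiv.apply_symm_apply]

end lemmaC

end Groth.Agent.H9.ADC
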