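import Mathlib

/-! Helper9: annihilators of `x ⊗ 1 - 1 ⊗ x` in `K[X] ⊗ L` and `AdjoinRoot f ⊗ L` (for S15125). -/

set_option linter.style.haveILetI false
set_option linter.unusedSectionVars false

namespace Groth.Agent.H9.ADC

open TensorProduct Polynomial

section D1

variable {K L : Type*} [Field K] [Field L] [Algebra K L]

/-- the iso `K[X] ⊗ L ≃ L[X]`. -/
noncomputable def eD1 (K L : Type*) [Field K] [Field L] [Algebra K L] :
    (K[X] ⊗[K] L) ≃ₐ[K] L[X] :=
  (Algebra.TensorProduct.comm K K[X] L).trans (polyEquivTensor K L).symm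

lemma eD1_X : eD1 K L ((X : K[X]) ⊗ₜ[K] (1 : L)) = X := by
  simp [eD1, polyEquivTensor_symm_apply_tmul_eq_smul]

lemma eD1_C (x : L) : eD1 K L ((1 : K[X]) ⊗ₜ[K] x) = C x := by
  simp [eD1, polyEquivTensor_symm_apply_tmul_eq_smul, Algebra.smul_def]

lemma annD1 (x : L) (c : K[X] ⊗[K] L)
    (hc : c * ((X : K[X]) ⊗ₜ[K] (1 : L) - (1 : K[X]) ⊗ₜ[K] x) = 0) : c = 0 := by
  have h1 := congrArg (eD1 K L) hc
  rw [map_mul, map_sub, eD1_X, eD1_C, map_zero] at h1
  rcases mul_eq_zero.mp h1 with h | h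
  · exact (eD1 K L).injective (by rw [h, map_zero])
  · exact absurd h (X_sub_C_ne_zero x)

end D1

section D2

variable {K L : Type*} [Field K] [Field L] [Algebra K L] (f : K[X]) (x : L)

/-- the evaluation map `L[X] → AdjoinRoot f ⊗ L`. -/
noncomputable def psi : L[X] →+* (AdjoinRoot f ⊗[K] L) :=
  eval₂RingHom (Algebra.TensorProduct.includeRight : L →ₐ[K] (AdjoinRoot f ⊗[K] L)).toRingHom
    ((AdjoinRoot.root f) ⊗ₜ[K] (1 : L))

lemma psi_X : psi (L := L) f X = (AdjoinRoot.root f) ⊗ₜ[K] (1 : L) := by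
  simp [psi]

lemma psi_C (a : L) : psi (L := L) f (C a) = (1 : AdjoinRoot f) ⊗ₜ[K] a := by
  simp [psi]

lemma psi_map (P : K[X]) :
    psi (L := L) f (P.map (algebraMap K L)) = (AdjoinRoot.mk f P) ⊗ₜ[K] (1 : L) := by
  have h1 : psi (L := L) f (P.map (algebraMap K L)) =
      aeval ((AdjoinRoot.root f) ⊗ₜ[K] (1 : L)) P := by
    rw [psi, coe_eval₂RingHom, eval₂_map, aeval_def]
    congr 1
    ext a
    simp [Algebra.algebraMap_eq_smul_one]
  rw [h1]
  have h2 : ((AdjoinRoot.root f) ⊗ₜ[K] (1 : L) : AdjoinRoot f ⊗[K] L) =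
      (Algebra.TensorProduct.includeLeft : AdjoinRoot f →ₐ[K] (AdjoinRoot f ⊗[K] L))
        (AdjoinRoot.root f) := rfl
  rw [h2, aeval_algHom_apply, AdjoinRoot.aeval_eq]
  rfl

lemma psi_surjective : Function.Surjective (psi (L := L) f) := by
  intro n
  induction n using TensorProduct.induction_on with
  | zero => exact ⟨0, map_zero _⟩
  | tmul a l =>
    obtain ⟨P, rfl⟩ := AdjoinRoot.mk_surjective a
    refine ⟨C l * P.map (algebraMap K L), ?_⟩
    rw [map_mul, psi_C, psi_map, Algebra.TensorProduct.tmul_mul_tmul, one_mul, mul_one]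
  | add a b ha hb =>
    obtain ⟨u, rfl⟩ := ha
    obtain ⟨v, rfl⟩ := hb
    exact ⟨u + v, map_add _ _ _⟩

/-- the retraction `AdjoinRoot f ⊗ L → L[X]/(f)`. -/
noncomputable def rho :
    (AdjoinRoot f ⊗[K] L) →ₐ[K] (L[X] ⧸ Ideal.span {f.map (algebraMap K L)}) :=
  Algebra.TensorProduct.lift
    (AdjoinRoot.liftAlgHom f (Algebra.ofId K _)
      (Ideal.Quotient.mk (Ideal.span {f.map (algebraMap K L)}) X) (by
        have : eval₂ (algebraMap K (L[X] ⧸ Ideal.span {f.map (algebraMap K L)}))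
            (Ideal.Quotient.mk (Ideal.span {f.map (algebraMap K L)}) X) f =
            Ideal.Quotient.mk (Ideal.span {f.map (algebraMap K L)}) (f.map (algebraMap K L)) := by
          rw [IsScalarTower.algebraMap_eq K L[X] (L[X] ⧸ Ideal.span {f.map (algebraMap K L)}),
            Ideal.Quotient.algebraMap_eq, ← hom_eval₂, IsScalarTower.algebraMap_eq K L L[X],
            ← eval₂_map]
          congr 1
          simp [eval₂_C_X]
        change eval₂ (algebraMap K _) _ f = 0
        rw [this, Ideal.Quotient.eq_zero_iff_mem]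
        exact Ideal.subset_span rfl))
    ((Ideal.Quotient.mkₐ K (Ideal.span {f.map (algebraMap K L)})).comp
      (CAlgHom : L →ₐ[K] L[X]))
    (fun _ _ => Commute.all _ _)

lemma rho_psi (P : L[X]) :
    rho (L := L) f (psi (L := L) f P) =
      Ideal.Quotient.mk (Ideal.span {f.map (algebraMap K L)}) P := by
  have : ((rho (L := L) f).toRingHom.comp (psi (L := L) f)) =
      Ideal.Quotient.mk (Ideal.span {f.map (algebraMap K L)}) := by
    apply Polynomial.ringHom_ext
    · intro a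
      simp [rho, psi_C]
    · simp [rho, psi_X]
  exact congrArg (fun g => g P) this

/-- annihilator of `root ⊗ 1 - 1 ⊗ x` for an inseparable element. -/
lemma annD2 (hfx : aeval x f = 0) (hf' : derivative f = 0)
    (c : AdjoinRoot f ⊗[K] L)
    (hc : c * ((AdjoinRoot.root f) ⊗ₜ[K] (1 : L) - (1 : AdjoinRoot f) ⊗ₜ[K] x) = 0) :
    ∃ n, c = ((AdjoinRoot.root f) ⊗ₜ[K] (1 : L) - (1 : AdjoinRoot f) ⊗ₜ[K] x) * n := by
  set fL := f.map (algebraMap K L) with hfL
  -- (X - C x)^2 ∣ fL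
  have hroot : fL.IsRoot x := by
    rw [IsRoot, hfL, eval_map, ← aeval_def]; exact hfx
  obtain ⟨h, hh⟩ := dvd_iff_isRoot.mpr hroot
  have hder : derivative fL = 0 := by rw [hfL, derivative_map, hf', Polynomial.map_zero]
  have hh2 : (X - C x) ∣ h := by
    have h1 := congrArg derivative hh
    rw [hder, derivative_mul, derivative_sub, derivative_X, derivative_C, sub_zero, one_mul] at h1
    exact ⟨-derivative h, by linear_combination -h1⟩
  obtain ⟨g, hg⟩ := hh2
  have hfL2 : fL = (X - C x) * ((X - C x) * g) := by rw [hh, hg]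
  obtain ⟨C', rfl⟩ := psi_surjective (L := L) f c
  have hd : psi (L := L) f (X - C x) =
      (AdjoinRoot.root f) ⊗ₜ[K] (1 : L) - (1 : AdjoinRoot f) ⊗ₜ[K] x := by
    rw [map_sub, psi_X, psi_C]
  rw [← hd, ← map_mul] at hc
  have h3 := congrArg (rho (L := L) f) hc
  rw [rho_psi, map_zero, Ideal.Quotient.eq_zero_iff_mem, Ideal.mem_span_singleton] at h3
  have hne : (X - C x : L[X]) ≠ 0 := X_sub_C_ne_zero x
  have h4 : (X - C x) * g ∣ C' := by
    rw [← hfL, hfL2, mul_comm C' _] at h3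
    exact (mul_dvd_mul_iff_left hne).mp h3
  obtain ⟨C'', hC''⟩ := h4
  refine ⟨psi (L := L) f (g * C''), ?_⟩
  rw [← hd, ← map_mul, hC'']
  congr 1
  ring

end D2

end Groth.Agent.H9.ADC
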