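import Mathlib
import Groth.Agent.Lib.Helper9.Misc.ADC1
import Groth.Agent.Lib.Helper9.Misc.ADC2

/-! Helper9: equaliser of the two maps to the completed diagonal is the separable closure (S15125). -/

set_option linter.style.haveILetI false
set_option linter.unusedSectionVars false

namespace Groth.Agent.H9.ADC

open TensorProduct Polynomial

universe u

section main

variable {K L : Type*} [Field K] [Field L] [Algebra K L]

/-- the element `x ⊗ 1 - 1 ⊗ x`. -/
noncomputable def delta (x : L) : L ⊗[K] L := x ⊗ₜ[K] (1 : L) - (1 : L) ⊗ₜ[K] x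

lemma delta_mem (x : L) : delta (K := K) x ∈ KaehlerDifferential.ideal K L := by
  have := KaehlerDifferential.one_smul_sub_smul_one_mem_ideal K x
  have h2 : delta (K := K) x = -((1 : L) ⊗ₜ[K] x - x ⊗ₜ[K] (1 : L)) := by
    rw [delta]; ring
  rw [h2]
  exact (KaehlerDifferential.ideal K L).neg_mem this

lemma one_notMem : (1 : L ⊗[K] L) ∉ KaehlerDifferential.ideal K L := by
  intro h
  have h1 : (KaehlerDifferential.ideal K L) = ⊤ := (Ideal.eq_top_iff_one _).mpr h
  have h2 : (1 : L ⊗[K] L) ∈ RingHom.ker (Algebra.TensorProduct.lmul' K : L ⊗[K] L →ₐ[K] L) := h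
  rw [RingHom.mem_ker, map_one] at h2
  exact one_ne_zero h2

/-- separable case. -/
lemma sep_case (x : L) (hx : IsSeparable K x) :
    ∃ r ∈ KaehlerDifferential.ideal K L, r * delta (K := K) x = delta (K := K) x := by
  set f := minpoly K x with hf
  have hint : IsIntegral K x := hx.isIntegral
  have hfx : aeval x f = 0 := minpoly.aeval K x
  set R := L ⊗[K] L
  set a : R := x ⊗ₜ[K] (1 : L) with ha
  set b : R := (1 : L) ⊗ₜ[K] x with hb
  set fR := f.map (algebraMap K R) with hfR
  have hea : fR.eval a = 0 := by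
    rw [hfR, eval_map, ← aeval_def]
    have : a = (Algebra.TensorProduct.includeLeft : L →ₐ[K] R) x := rfl
    rw [this, aeval_algHom_apply, hfx, map_zero]
  have heb : fR.eval b = 0 := by
    rw [hfR, eval_map, ← aeval_def]
    have : b = (Algebra.TensorProduct.includeRight : L →ₐ[K] R) x := rfl
    rw [this, aeval_algHom_apply, hfx, map_zero]
  have hdb : fR.derivative.eval b = (1 : L) ⊗ₜ[K] (aeval x (derivative f)) := by
    rw [hfR, derivative_map, eval_map, ← aeval_def]
    have : b = (Algebra.TensorProduct.includeRight : L →ₐ[K] R) x := rfl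
    rw [this, aeval_algHom_apply]
    rfl
  have hu : aeval x (derivative f) ≠ 0 := hx.aeval_derivative_ne_zero hfx
  obtain ⟨k, hk⟩ := Polynomial.binomExpansion fR b (delta (K := K) x)
  have hab : b + delta (K := K) x = a := by rw [delta]; ring
  rw [hab, hea, heb, hdb, zero_add] at hk
  set v : R := (1 : L) ⊗ₜ[K] (aeval x (derivative f))⁻¹ with hv
  have hvu : v * ((1 : L) ⊗ₜ[K] (aeval x (derivative f))) = 1 := by
    rw [hv, Algebra.TensorProduct.tmul_mul_tmul, one_mul, inv_mul_cancel₀ hu]
    rfl
  refine ⟨-(v * k * delta (K := K) x), ?_, ?_⟩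
  · exact (KaehlerDifferential.ideal K L).neg_mem
      ((KaehlerDifferential.ideal K L).mul_mem_left _ (delta_mem x))
  · have h1 : delta (K := K) x = v * (((1 : L) ⊗ₜ[K] (aeval x (derivative f))) *
        delta (K := K) x) := by
      rw [← mul_assoc, hvu, one_mul]
    have h2 : ((1 : L) ⊗ₜ[K] (aeval x (derivative f))) * delta (K := K) x =
        -(k * delta (K := K) x ^ 2) := by
      linear_combination -hk
    conv_rhs => rw [h1, h2]
    ring

/-- algebraic inseparable case. -/
lemma insep_case (x : L) (halg : IsAlgebraic K x) (hx : ¬ IsSeparable K x)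
    (s : L ⊗[K] L) (hs : s * delta (K := K) x = 0) : s ∈ KaehlerDifferential.ideal K L := by
  set f := minpoly K x with hf
  have hint : IsIntegral K x := halg.isIntegral
  have hfx : aeval x f = 0 := minpoly.aeval K x
  have hirr : Irreducible f := minpoly.irreducible hint
  have hf' : derivative f = 0 := by
    by_contra h
    exact hx ((Polynomial.separable_iff_derivative_ne_zero hirr).mpr h)
  haveI : Fact (Irreducible f) := ⟨hirr⟩
  have hfx' : eval₂ (Algebra.ofId K L : K →+* L) x f = 0 := hfx
  letI : Algebra (AdjoinRoot f) L :=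
    (AdjoinRoot.liftAlgHom f (Algebra.ofId K L) x hfx').toRingHom.toAlgebra
  haveI : IsScalarTower K (AdjoinRoot f) L := IsScalarTower.of_algebraMap_eq (fun a => by
    change algebraMap K L a = AdjoinRoot.liftAlgHom f (Algebra.ofId K L) x hfx' (algebraMap K _ a)
    rw [AlgHom.commutes])
  have hroot : algebraMap (AdjoinRoot f) L (AdjoinRoot.root f) = x := by
    change AdjoinRoot.liftAlgHom f (Algebra.ofId K L) x hfx' (AdjoinRoot.root f) = x
    exact AdjoinRoot.liftAlgHom_root _ _ _ _
  set d : AdjoinRoot f ⊗[K] L :=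
    (AdjoinRoot.root f) ⊗ₜ[K] (1 : L) - (1 : AdjoinRoot f) ⊗ₜ[K] x with hd
  have hD : Algebra.TensorProduct.cancelBaseChange K (AdjoinRoot f) (AdjoinRoot f) L L
      ((1 : L) ⊗ₜ[AdjoinRoot f] d) = delta (K := K) x := by
    rw [hd, tmul_sub, map_sub, Algebra.TensorProduct.cancelBaseChange_tmul,
      Algebra.TensorProduct.cancelBaseChange_tmul, Algebra.smul_def, hroot, mul_one, one_smul]
    rfl
  obtain ⟨s', hs'⟩ := ann_transfer (K := K) (S := AdjoinRoot f) (L := L) d
    (annD2 f x hfx hf') s (by rw [hD]; exact hs)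
  rw [hs', hD]
  exact (KaehlerDifferential.ideal K L).mul_mem_right _ (delta_mem x)

/-- transcendental case. -/
lemma transc_case (x : L) (htr : Transcendental K x)
    (s : L ⊗[K] L) (hs : s * delta (K := K) x = 0) : s ∈ KaehlerDifferential.ideal K L := by
  letI : Algebra K[X] L := (aeval x).toRingHom.toAlgebra
  haveI : IsScalarTower K K[X] L := IsScalarTower.of_algebraMap_eq (fun a => by
    change algebraMap K L a = aeval x (algebraMap K K[X] a)
    rw [AlgHom.commutes])
  have hX : algebraMap K[X] L X = x := by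
    change aeval x X = x
    simp
  haveI : Module.IsTorsionFree K[X] L := ⟨fun r hr l₁ l₂ h => by
    have h1 : aeval x r * l₁ = aeval x r * l₂ := h
    have h2 : aeval x r ≠ 0 := by
      intro h0
      have := (transcendental_iff.mp htr) r h0
      exact hr.ne_zero this
    exact mul_left_cancel₀ h2 h1⟩
  set d : K[X] ⊗[K] L := (X : K[X]) ⊗ₜ[K] (1 : L) - (1 : K[X]) ⊗ₜ[K] x with hd
  have hD : Algebra.TensorProduct.cancelBaseChange K K[X] K[X] L L
      ((1 : L) ⊗ₜ[K[X]] d) = delta (K := K) x := by
    rw [hd, tmul_sub, map_sub, Algebra.TensorProduct.cancelBaseChange_tmul,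
      Algebra.TensorProduct.cancelBaseChange_tmul, Algebra.smul_def, hX, mul_one, one_smul]
    rfl
  obtain ⟨s', hs'⟩ := ann_transfer (K := K) (S := K[X]) (L := L) d
    (fun c hc => ⟨0, by rw [annD1 x c hc, mul_zero]⟩) s (by rw [hD]; exact hs)
  rw [hs', hD]
  exact (KaehlerDifferential.ideal K L).mul_mem_right _ (delta_mem x)

theorem S15125_main (K L : Type u) [Field K] [Field L] [Algebra K L]
    (hfg : (⊤ : IntermediateField K L).FG) (x : L) :
    AdicCompletion.of (KaehlerDifferential.ideal K L) (L ⊗[K] L) (x ⊗ₜ[K] (1 : L)) =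
        AdicCompletion.of (KaehlerDifferential.ideal K L) (L ⊗[K] L) ((1 : L) ⊗ₜ[K] x) ↔
      x ∈ separableClosure K L := by
  set I := KaehlerDifferential.ideal K L with hI
  haveI : Algebra.EssFiniteType K L := IntermediateField.fg_top_iff.mp hfg
  haveI : IsNoetherianRing (L ⊗[K] L) := Algebra.EssFiniteType.isNoetherianRing L (L ⊗[K] L)
  have h1 : (AdicCompletion.of I (L ⊗[K] L) (x ⊗ₜ[K] (1 : L)) =
      AdicCompletion.of I (L ⊗[K] L) ((1 : L) ⊗ₜ[K] x)) ↔
      delta (K := K) x ∈ (⨅ i : ℕ, I ^ i • ⊤ : Submodule (L ⊗[K] L) (L ⊗[K] L)) := by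
    rw [← sub_eq_zero, ← map_sub, Submodule.mem_iInf]
    constructor
    · intro h n
      have h2 := congrArg (fun z => AdicCompletion.eval I (L ⊗[K] L) n z) h
      simp only [AdicCompletion.eval_of, map_zero] at h2
      exact (Submodule.Quotient.mk_eq_zero _).mp h2
    · intro h
      apply AdicCompletion.ext
      intro n
      rw [AdicCompletion.of_apply]
      exact (Submodule.Quotient.mk_eq_zero _).mpr (h n)
  rw [h1, Ideal.mem_iInf_smul_pow_eq_bot_iff, mem_separableClosure_iff]
  constructor
  · rintro ⟨r, hr⟩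
    by_contra hx
    have hs : (1 - (r : L ⊗[K] L)) * delta (K := K) x = 0 := by
      rw [sub_mul, one_mul, sub_eq_zero]
      exact hr.symm
    have hmem : (1 - (r : L ⊗[K] L)) ∈ I := by
      by_cases halg : IsAlgebraic K x
      · exact insep_case x halg hx _ hs
      · exact transc_case x halg _ hs
    apply one_notMem (K := K) (L := L)
    have : (1 : L ⊗[K] L) = (1 - (r : L ⊗[K] L)) + r := by ring
    rw [this]
    exact I.add_mem hmem r.2
  · intro hx
    obtain ⟨r, hr, hr2⟩ := sep_case x hx
    exact ⟨⟨r, hr⟩, hr2⟩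

end main

end Groth.Agent.H9.ADC
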