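import Mathlib

set_option autoImplicit false

open CategoryTheory CategoryTheory.Limits AlgebraicGeometry

universe u

namespace Groth.Agent.H9.AFR

theorem ext_of_dense_points {X Y Z : Scheme.{u}} (f g : X ⟶ Y) (i : Y ⟶ Z) [IsSeparated i]
    [IsReduced X] (S : Set X) (hS : Dense S)
    (H : ∀ y ∈ S, ∃ (T : Scheme.{u}) (x : T ⟶ X) (t : T), x t = y ∧ x ≫ f = x ≫ g)
    (H' : f ≫ i = g ≫ i) : f = g := by
  suffices IsDominant (equalizer.ι f g) from
    ext_of_isDominant_of_isSeparated i H' (equalizer.ι f g) (equalizer.condition _ _)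
  refine ⟨.mono (fun y hy ↦ ?_) hS⟩
  obtain ⟨T, x, t, hxt, hx⟩ := H y hy
  exact ⟨equalizer.lift x hx t, by rw [← Scheme.Hom.comp_apply, equalizer.lift_ι, hxt]⟩

theorem main (k : Type u) [Field k] (X : Scheme.{u}) (f : X ⟶ Spec (CommRingCat.of k))
    [IsIntegral X] [IsSeparated f]
    (G : Type u) [Group G] [Finite G] (ρ : G →* Aut X)
    (hρ : ∀ g : G, (ρ g).hom ≫ f = f) (hfaith : Function.Injective ρ) :
    ∃ U : X.Opens, (U : Set X).Nonempty ∧ (∀ g : G, (ρ g).hom ⁻¹ᵁ U = U) ∧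
      ∀ (K : Type u) [Field K] (x : Spec (CommRingCat.of K) ⟶ X),
        Set.range x.base ⊆ (U : Set X) → ∀ g : G, x ≫ (ρ g).hom = x → g = 1 := by
  classical
  let W : G → Set X := fun g =>
    {y | ∃ (T : Scheme.{u}) (x : T ⟶ X) (t : T), x t = y ∧ x ≫ (ρ g).hom = x}
  have hcomp : ∀ a b : G, (ρ (a * b)).hom = (ρ b).hom ≫ (ρ a).hom := fun a b => by
    rw [map_mul]; rfl
  have hone : (ρ 1).hom = 𝟙 X := by rw [map_one]; rfl
  have hdense : ∀ g, Dense (W g) → g = 1 := by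
    intro g hg
    have h1 : (ρ g).hom = 𝟙 X := by
      refine ext_of_dense_points _ _ f (W g) hg (fun y hy => ?_)
        (by rw [hρ g, Category.id_comp])
      obtain ⟨T, x, t, hxt, hx⟩ := hy
      exact ⟨T, x, t, hxt, by rw [hx, Category.comp_id]⟩
    apply hfaith
    rw [map_one]
    exact Iso.ext h1
  have hW : ∀ h g y, y ∈ W g → (ρ h).hom y ∈ W (h * g * h⁻¹) := by
    rintro h g y ⟨T, x, t, hxt, hx⟩
    refine ⟨T, x ≫ (ρ h).hom, t, by rw [Scheme.Hom.comp_apply, hxt], ?_⟩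
    rw [Category.assoc, ← hcomp, inv_mul_cancel_right, hcomp, ← Category.assoc, hx]
  have hZ : ∀ h g y, y ∈ closure (W g) → (ρ h).hom y ∈ closure (W (h * g * h⁻¹)) := by
    intro h g y hy
    have hcont : Continuous (ρ h).hom := (ρ h).hom.continuous
    have hsub : (ρ h).hom '' W g ⊆ W (h * g * h⁻¹) := by
      rintro _ ⟨z, hz, rfl⟩
      exact hW h g z hz
    exact closure_mono hsub (image_closure_subset_closure_image hcont ⟨y, hy, rfl⟩)
  let C : Set X := ⋃ g ∈ {g : G | g ≠ 1}, closure (W g)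
  have hC : IsClosed C :=
    (Set.toFinite {g : G | g ≠ 1}).isClosed_biUnion fun g _ => isClosed_closure
  refine ⟨⟨Cᶜ, hC.isOpen_compl⟩, ?_, ?_, ?_⟩
  · by_contra hne
    have hCu : C = Set.univ := by
      rw [Set.not_nonempty_iff_eq_empty] at hne
      exact Set.compl_empty_iff.mp hne
    haveI : Fintype G := Fintype.ofFinite G
    have hirr := IrreducibleSpace.isIrreducible_univ X
    obtain ⟨z, hz, hzu⟩ := isIrreducible_iff_sUnion_isClosed.mp hirr
      ((Finset.univ.filter (fun g : G => g ≠ 1)).image (fun g => closure (W g)))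
      (by
        intro z hz
        obtain ⟨g, -, rfl⟩ := Finset.mem_image.mp hz
        exact isClosed_closure)
      (by
        intro y _
        have hy : y ∈ C := hCu ▸ Set.mem_univ y
        obtain ⟨g, hg, hyg⟩ := Set.mem_iUnion₂.mp hy
        exact Set.mem_sUnion.mpr ⟨closure (W g), Finset.mem_coe.mpr (Finset.mem_image.mpr
          ⟨g, Finset.mem_filter.mpr ⟨Finset.mem_univ g, hg⟩, rfl⟩), hyg⟩)
    obtain ⟨g, hg, rfl⟩ := Finset.mem_image.mp hz
    exact (Finset.mem_filter.mp hg).2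
      (hdense g (dense_iff_closure_eq.mpr (Set.eq_univ_of_univ_subset hzu)))
  · intro h
    have hinv : ∀ y, (ρ h⁻¹).hom ((ρ h).hom y) = y := by
      intro y
      rw [← Scheme.Hom.comp_apply, ← hcomp, inv_mul_cancel, hone]; rfl
    ext y
    show (ρ h).hom y ∈ Cᶜ ↔ y ∈ Cᶜ
    rw [Set.mem_compl_iff, Set.mem_compl_iff, not_iff_not]
    constructor
    · intro hy
      obtain ⟨g, hg, hyg⟩ := Set.mem_iUnion₂.mp hy
      have := hZ h⁻¹ g _ hyg
      rw [hinv] at this
      exact Set.mem_iUnion₂.mpr ⟨h⁻¹ * g * h⁻¹⁻¹, fun e => hg (conj_eq_one_iff.mp e), this⟩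
    · intro hy
      obtain ⟨g, hg, hyg⟩ := Set.mem_iUnion₂.mp hy
      exact Set.mem_iUnion₂.mpr ⟨h * g * h⁻¹, fun e => hg (conj_eq_one_iff.mp e), hZ h g y hyg⟩
  · intro K _ x hx g hxg
    by_contra hg
    have hy : x.base default ∈ Cᶜ := hx ⟨default, rfl⟩
    exact hy (Set.mem_iUnion₂.mpr ⟨g, hg, subset_closure ⟨_, x, default, rfl, hxg⟩⟩)

end Groth.Agent.H9.AFR
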