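import Mathlib
import Groth.Agent.Lib.Helper9.Misc.APM1
import Groth.Agent.Lib.Helper9.Misc.APM1b
import Groth.Agent.Lib.Helper9.Misc.APM2
import Groth.Agent.Lib.Helper9.Misc.APM3

set_option autoImplicit false
set_option linter.style.haveILetI false
set_option linter.unusedSectionVars false
set_option linter.unusedVariables false

/-!
# The instance `R(t) → R((t))` of the approximation framework.
-/

namespace Groth.Agent.H9.APL

open Polynomial Groth.Agent.H9.APM

universe u

section

variable {R : Type u} [CommRing R]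

/-- The submonoid of `R[X]` generated by `X` and the polynomials with constant term one. -/
noncomputable abbrev SS (R : Type u) [CommRing R] : Submonoid R[X] :=
  Submonoid.closure ({f : R[X] | f.coeff 0 = 1} ∪ {X})

theorem mem_SS_of_coeff {g : R[X]} (hg : g.coeff 0 = 1) : g ∈ SS R :=
  Submonoid.subset_closure (Or.inl hg)

theorem X_mem_SS : (X : R[X]) ∈ SS R :=
  Submonoid.subset_closure (Or.inr rfl)

theorem exists_of_mem_SS {s : R[X]} (hs : s ∈ SS R) :
    ∃ (k : ℕ) (g : R[X]), g.coeff 0 = 1 ∧ s = X ^ k * g := by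
  induction hs using Submonoid.closure_induction with
  | mem x hx =>
    rcases hx with hx | hx
    · exact ⟨0, x, hx, by simp⟩
    · rw [Set.mem_singleton_iff] at hx
      exact ⟨1, 1, by simp, by simp [hx]⟩
  | one => exact ⟨0, 1, by simp, by simp⟩
  | mul x y _ _ hx hy =>
    obtain ⟨k, g, hg, rfl⟩ := hx
    obtain ⟨k', g', hg', rfl⟩ := hy
    refine ⟨k + k', g * g', ?_, by ring⟩
    rw [Polynomial.mul_coeff_zero, hg, hg', mul_one]

/-- A polynomial which, as a power series, is divisible by `X^n` is divisible by `X^n`. -/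
theorem exists_eq_X_pow_mul_of_coe {p : R[X]} {n : ℕ} {h : PowerSeries R}
    (hp : (p : PowerSeries R) = PowerSeries.X ^ n * h) : ∃ q : R[X], p = X ^ n * q := by
  have : X ^ n ∣ p := by
    rw [Polynomial.X_pow_dvd_iff]
    intro d hd
    have h1 : (PowerSeries.X : PowerSeries R) ^ n ∣ (p : PowerSeries R) := ⟨h, hp⟩
    rw [PowerSeries.X_pow_dvd_iff] at h1
    have := h1 d hd
    rwa [Polynomial.coeff_coe] at this
  exact this

theorem isUnit_coe_of_coeff {g : R[X]} (hg : g.coeff 0 = 1) :
    IsUnit (g : PowerSeries R) := by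
  rw [PowerSeries.isUnit_iff_constantCoeff]
  have : PowerSeries.constantCoeff (g : PowerSeries R) = 1 := by
    rw [← PowerSeries.coeff_zero_eq_constantCoeff_apply, Polynomial.coeff_coe, hg]
  rw [this]; exact isUnit_one

end

end Groth.Agent.H9.APL

namespace Groth.Agent.H9.APL

open Polynomial Groth.Agent.H9.APM

universe u

section main

variable {R : Type u} [CommRing R]
    {L : Type u} [CommRing L] [Algebra R[X] L]
    [IsLocalization (SS R) L]
    {L' : Type u} [CommRing L'] [Algebra L L'] (e : L' ≃+* LaurentSeries R)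

/-- "Integral" elements of `L' ≃ R((t))`: those corresponding to power series. -/
noncomputable def OO : Subring L' :=
  (HahnSeries.ofPowerSeries ℤ R).range.comap (e : L' →+* LaurentSeries R)

theorem mem_OO {x : L'} : x ∈ OO e ↔ ∃ h : PowerSeries R, HahnSeries.ofPowerSeries ℤ R h = e x :=
  Iff.rfl

variable (he : ∀ p : R[X], e (algebraMap L L' (algebraMap R[X] L p)) =
      HahnSeries.ofPowerSeries ℤ R (Polynomial.coeToPowerSeries.ringHom p))

include he

theorem he' (p : R[X]) : e (algebraMap L L' (algebraMap R[X] L p)) =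
    HahnSeries.ofPowerSeries ℤ R (p : PowerSeries R) := he p

theorem e_t : e (algebraMap L L' (algebraMap R[X] L X)) =
    HahnSeries.ofPowerSeries ℤ R (PowerSeries.X) := by
  rw [he' e he, Polynomial.coe_X]

theorem isUnit_t : IsUnit (algebraMap R[X] L X) :=
  IsLocalization.map_units L (⟨X, X_mem_SS⟩ : SS R)

theorem key (b : L) (j : ℕ) (h : PowerSeries R)
    (hb : e (algebraMap L L' b) = HahnSeries.ofPowerSeries ℤ R (PowerSeries.X ^ j * h)) :
    ∃ q g : R[X], g.coeff 0 = 1 ∧
      b * algebraMap R[X] L g = (algebraMap R[X] L X) ^ j * algebraMap R[X] L q := by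
  obtain ⟨⟨p, s⟩, hps⟩ := IsLocalization.surj (SS R) b
  obtain ⟨k, g, hg, hs⟩ := exists_of_mem_SS s.2
  simp only at hps
  have h1 := congrArg (fun x => e (algebraMap L L' x)) hps
  simp only [map_mul, he' e he, hb] at h1
  simp only [← map_mul (HahnSeries.ofPowerSeries ℤ R)] at h1
  have h2 := HahnSeries.ofPowerSeries_injective h1
  rw [hs, Polynomial.coe_mul, Polynomial.coe_pow, Polynomial.coe_X] at h2
  have h3 : (p : PowerSeries R) = PowerSeries.X ^ (j + k) * (h * (g : PowerSeries R)) := by
    rw [← h2, pow_add]; ring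
  obtain ⟨q, hq⟩ := exists_eq_X_pow_mul_of_coe h3
  refine ⟨q, g, hg, ?_⟩
  have hu : IsUnit ((algebraMap R[X] L X) ^ k) := (isUnit_t (L := L) e he).pow k
  apply hu.mul_left_injective
  simp only
  rw [hs, hq] at hps
  simp only [map_mul, map_pow] at hps
  rw [mul_assoc, mul_comm (algebraMap R[X] L g), hps, pow_add]
  ring

theorem hyp : Hyp (algebraMap L L') (algebraMap R[X] L X) (OO e) where
  t_mem := by
    rw [mem_OO]
    exact ⟨PowerSeries.X, (e_t e he).symm⟩
  bdd := by
    intro b'
    obtain ⟨⟨f, s⟩, hfs⟩ := IsLocalization.surj (Submonoid.powers (PowerSeries.X : PowerSeries R))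
      (e b')
    obtain ⟨k, hk⟩ := s.2
    refine ⟨k, ?_⟩
    rw [mem_OO]
    refine ⟨f, ?_⟩
    simp only [LaurentSeries.coe_algebraMap] at hfs
    have hs : (s : PowerSeries R) = PowerSeries.X ^ k := hk.symm
    rw [map_mul, map_pow, e_t e he, ← map_pow, ← hs, mul_comm, hfs]
  dense := by
    intro b' n
    obtain ⟨⟨f, s⟩, hfs⟩ := IsLocalization.surj (Submonoid.powers (PowerSeries.X : PowerSeries R))
      (e b')
    obtain ⟨k, hk⟩ := s.2
    simp only [LaurentSeries.coe_algebraMap] at hfs
    -- the polynomial truncation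
    obtain ⟨p, hp⟩ : ∃ p : R[X], p = PowerSeries.trunc (k + n) f := ⟨_, rfl⟩
    obtain ⟨g, hg⟩ : ∃ g : PowerSeries R, g = PowerSeries.mk fun i => PowerSeries.coeff (i + (k + n)) f :=
      ⟨_, rfl⟩
    have hf : f = PowerSeries.X ^ (k + n) * g + (p : PowerSeries R) := by
      rw [hg, hp]; exact PowerSeries.eq_X_pow_mul_shift_add_trunc (k + n) f
    have hu : IsUnit ((algebraMap R[X] L X) ^ k) := (isUnit_t (L := L) e he).pow k
    obtain ⟨w, hw⟩ := hu.exists_right_inv
    refine ⟨algebraMap R[X] L p * w, e.symm (HahnSeries.ofPowerSeries ℤ R g), ?_, ?_⟩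
    · rw [mem_OO]; exact ⟨g, by simp⟩
    · apply e.injective
      have hXu : IsUnit (HahnSeries.ofPowerSeries ℤ R (PowerSeries.X : PowerSeries R) ^ k) := by
        have := (hu.map (algebraMap L L')).map (e : L' →+* LaurentSeries R)
        simpa only [map_pow, RingEquiv.coe_toRingHom, e_t e he] using this
      apply hXu.mul_left_injective
      simp only
      have hw' : e (algebraMap L L' w) * HahnSeries.ofPowerSeries ℤ R (PowerSeries.X : PowerSeries R) ^ k
          = 1 := by
        have := congrArg (fun x => e (algebraMap L L' x)) hw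
        simp only [map_mul, map_pow, map_one, e_t e he] at this
        rw [mul_comm]; exact this
      simp only [map_sub, map_mul, map_pow, RingEquiv.apply_symm_apply, e_t e he, he' e he]
      rw [sub_mul, mul_assoc, hw', mul_one]
      have hs : (s : PowerSeries R) = PowerSeries.X ^ k := hk.symm
      rw [hs, map_pow] at hfs
      rw [hfs, hf, map_add, add_sub_cancel_right, map_mul, map_pow, pow_add]
      ring
  closed := by
    rintro b ⟨c, hc, hbc⟩
    rw [mem_OO] at hc
    obtain ⟨h, hh⟩ := hc
    have hb : e (algebraMap L L' b) =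
        HahnSeries.ofPowerSeries ℤ R (PowerSeries.X ^ 1 * h) := by
      rw [hbc, map_mul, e_t e he, ← hh, pow_one, map_mul]
    obtain ⟨q, g, hg, hqg⟩ := key e he b 1 h hb
    have hgu : IsUnit (algebraMap R[X] L g) :=
      IsLocalization.map_units L (⟨g, mem_SS_of_coeff hg⟩ : SS R)
    obtain ⟨w, hw⟩ := hgu.exists_right_inv
    refine ⟨algebraMap R[X] L q * w, ?_, ?_⟩
    · rw [mem_OO]
      obtain ⟨g', hg'⟩ := (isUnit_coe_of_coeff hg).exists_right_inv
      refine ⟨(q : PowerSeries R) * g', ?_⟩
      have h1 : e (algebraMap L L' w) * HahnSeries.ofPowerSeries ℤ R (g : PowerSeries R) = 1 := by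
        have := congrArg (fun x => e (algebraMap L L' x)) hw
        simp only [map_mul, map_one, he' e he] at this
        rw [mul_comm]; exact this
      have h2 : HahnSeries.ofPowerSeries ℤ R (g : PowerSeries R) *
          HahnSeries.ofPowerSeries ℤ R g' = 1 := by
        rw [← map_mul, hg', map_one]
      have h3 : e (algebraMap L L' w) = HahnSeries.ofPowerSeries ℤ R g' := by
        calc e (algebraMap L L' w) = e (algebraMap L L' w) *
              (HahnSeries.ofPowerSeries ℤ R (g : PowerSeries R) *
                HahnSeries.ofPowerSeries ℤ R g') := by rw [h2, mul_one]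
          _ = HahnSeries.ofPowerSeries ℤ R g' := by rw [← mul_assoc, h1, one_mul]
      rw [map_mul, map_mul, map_mul, he' e he, h3]
    · apply hgu.mul_left_injective
      simp only
      rw [hqg, pow_one, mul_assoc, mul_assoc, mul_comm w, hw, mul_one]
  unit := by
    intro a ha
    rw [mem_OO] at ha
    obtain ⟨h, hh⟩ := ha
    have hb : e (algebraMap L L' a) =
        HahnSeries.ofPowerSeries ℤ R (PowerSeries.X ^ 0 * h) := by
      rw [pow_zero, one_mul, hh]
    obtain ⟨q, g, hg, hqg⟩ := key e he a 0 h hb
    rw [pow_zero, one_mul] at hqg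
    have hgu : IsUnit (algebraMap R[X] L g) :=
      IsLocalization.map_units L (⟨g, mem_SS_of_coeff hg⟩ : SS R)
    have hg2 : (g + X * q).coeff 0 = 1 := by
      rw [Polynomial.coeff_add, hg, Polynomial.mul_coeff_zero, Polynomial.coeff_X_zero, zero_mul,
        add_zero]
    have hgu2 : IsUnit (algebraMap R[X] L (g + X * q)) :=
      IsLocalization.map_units L (⟨g + X * q, mem_SS_of_coeff hg2⟩ : SS R)
    have : (1 + algebraMap R[X] L X * a) * algebraMap R[X] L g = algebraMap R[X] L (g + X * q) := by
      rw [add_mul, one_mul, mul_assoc, hqg, map_add, map_mul]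
    have h3 : IsUnit ((1 + algebraMap R[X] L X * a) * algebraMap R[X] L g) := by
      rw [this]; exact hgu2
    exact isUnit_of_mul_isUnit_left h3
  unit' := by
    intro c hc
    rw [mem_OO] at hc
    obtain ⟨h, hh⟩ := hc
    have h1 : IsUnit (1 + PowerSeries.X * h : PowerSeries R) := by
      rw [PowerSeries.isUnit_iff_constantCoeff]
      simp
    have h2 : e (1 + algebraMap L L' (algebraMap R[X] L X) * c) =
        HahnSeries.ofPowerSeries ℤ R (1 + PowerSeries.X * h) := by
      rw [map_add, map_one, map_mul, e_t e he, ← hh, map_add, map_one, map_mul]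
    have h3 : IsUnit (e (1 + algebraMap L L' (algebraMap R[X] L X) * c)) := by
      rw [h2]; exact h1.map _
    have := h3.map (e.symm : LaurentSeries R →+* L')
    simpa using this

end main

end Groth.Agent.H9.APL
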