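import Mathlib

/-! Helper9: order-p automorphisms of k[[u]] in characteristic p: valuation formula for sigma - 1. -/

namespace Groth.Agent.H9.AS

open PowerSeries

universe u
variable {k : Type u} [Field k]
variable (σ : PowerSeries k ≃ₐ[k] PowerSeries k)

/-- `D = σ - 1` -/
noncomputable def D (f : PowerSeries k) : PowerSeries k := σ f - f

theorem D_mul (f g : PowerSeries k) : D σ (f * g) = D σ f * σ g + f * D σ g := by
  unfold D; rw [map_mul]; ring

theorem sig_C (c : k) : σ (C c) = C c := by
  have : (C c : PowerSeries k) = algebraMap k (PowerSeries k) c := rfl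
  rw [this, AlgEquiv.commutes]

variable {σ} {m : ℕ}

theorem exists_e' (hm : (σ X - X).order = ((m + 1 : ℕ) : ℕ∞)) :
    ∃ e' : PowerSeries k, σ X - X = X ^ (m + 1) * e' ∧ constantCoeff e' ≠ 0 := by
  refine ⟨divXPowOrder (σ X - X), ?_, ?_⟩
  · have := X_pow_order_mul_divXPowOrder (f := σ X - X)
    rw [hm, ENat.toNat_natCast] at this
    exact this.symm
  · rw [Ne, constantCoeff_divXPowOrder_eq_zero_iff]
    intro h
    rw [h, order_zero] at hm
    exact ENat.natCast_ne_top _ hm.symm

/-- continuity: `X^(m+1)` divides `σ g - g` -/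
theorem cont_aux (hm : (σ X - X).order = ((m + 1 : ℕ) : ℕ∞)) :
    ∀ (N : ℕ) (g : PowerSeries k), X ^ (min N (m + 1)) ∣ D σ g := by
  obtain ⟨e', he, -⟩ := exists_e' hm
  intro N
  induction N with
  | zero => intro g; simp
  | succ N ih =>
    intro g
    have hg := eq_X_mul_shift_add_const g
    set g' : PowerSeries k := (mk fun p => coeff (p + 1) g) with hg'
    have hD : D σ g = (σ X - X) * σ g' + X * D σ g' := by
      unfold D
      conv_lhs => rw [hg]
      rw [map_add, map_mul, sig_C]
      ring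
    rw [hD]
    apply dvd_add
    · rw [he]
      exact Dvd.dvd.mul_right (Dvd.dvd.mul_right (pow_dvd_pow (X : PowerSeries k) (min_le_right _ _)) _) _
    · obtain ⟨q, hq⟩ := ih g'
      rw [hq, ← mul_assoc, ← pow_succ']
      exact Dvd.dvd.mul_right (pow_dvd_pow (X : PowerSeries k) (by omega)) _

theorem cont (hm : (σ X - X).order = ((m + 1 : ℕ) : ℕ∞)) (g : PowerSeries k) :
    X ^ (m + 1) ∣ D σ g := by
  have := cont_aux hm (m + 1) g
  rwa [min_self] at this

theorem constantCoeff_sig (hm : (σ X - X).order = ((m + 1 : ℕ) : ℕ∞)) (g : PowerSeries k) :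
    constantCoeff (σ g) = constantCoeff g := by
  obtain ⟨q, hq⟩ := cont hm g
  have : σ g = g + X ^ (m + 1) * q := by rw [← hq]; unfold D; ring
  rw [this, map_add, map_mul, map_pow, constantCoeff_X, zero_pow (by omega), zero_mul, add_zero]


section charp

variable {p : ℕ} [hp : Fact p.Prime] [CharP k p]

theorem sig_pow_apply (σ : PowerSeries k ≃ₐ[k] PowerSeries k) (j : ℕ) (f : PowerSeries k) :
    (σ ^ (j + 1)) f = σ ((σ ^ j) f) := by
  rw [pow_succ', AlgEquiv.mul_apply]

/-- `m ≥ 1` -/
theorem m_pos (hσp : σ ^ p = 1) (hm : (σ X - X).order = ((m + 1 : ℕ) : ℕ∞)) : 1 ≤ m := by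
  by_contra hlt
  have hm0 : m = 0 := by omega
  subst hm0
  obtain ⟨e', he, hc⟩ := exists_e' hm
  set lam : k := 1 + constantCoeff e' with hlam
  have hσX : σ X = X * (1 + e') := by
    have : σ X = X + (σ X - X) := by ring
    rw [this, he]; ring
  have key : ∀ g : PowerSeries k, constantCoeff g = 0 →
      constantCoeff (σ g) = 0 ∧ coeff 1 (σ g) = lam * coeff 1 g := by
    intro g hg0
    have hg := eq_X_mul_shift_add_const g
    set g' : PowerSeries k := (mk fun p => coeff (p + 1) g) with hg'
    rw [hg0, map_zero, add_zero] at hg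
    have h1 : σ g = X * ((1 + e') * σ g') := by
      conv_lhs => rw [hg]
      rw [map_mul, hσX]; ring
    constructor
    · rw [constantCoeff_sig hm, hg0]
    · rw [h1]
      have : coeff 1 (X * ((1 + e') * σ g')) = constantCoeff ((1 + e') * σ g') := by
        rw [show (1:ℕ) = 0 + 1 from rfl, coeff_succ_X_mul, coeff_zero_eq_constantCoeff]
      rw [this, map_mul, map_add, map_one, constantCoeff_sig hm]
      have : constantCoeff g' = coeff 1 g := by
        rw [hg', ← coeff_zero_eq_constantCoeff_apply, coeff_mk]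
      rw [this]
  have hall : ∀ j : ℕ, constantCoeff ((σ ^ j) X) = 0 ∧ coeff 1 ((σ ^ j) X) = lam ^ j := by
    intro j
    induction j with
    | zero => simp
    | succ j ih =>
      rw [sig_pow_apply]
      obtain ⟨h1, h2⟩ := key _ ih.1
      exact ⟨h1, by rw [h2, ih.2, pow_succ]; ring⟩
  have := (hall p).2
  rw [hσp, AlgEquiv.one_apply, coeff_one_X] at this
  have h0 : (lam - 1) ^ p = 0 := by
    rw [sub_pow_char, one_pow, ← this, sub_self]
  have : lam - 1 = 0 := by
    by_contra hne
    exact pow_ne_zero p hne h0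
  apply hc
  rw [hlam] at this
  linear_combination this

end charp

/-- orders are preserved -/
theorem order_sig (hm : (σ X - X).order = ((m + 1 : ℕ) : ℕ∞)) (hm1 : 1 ≤ m)
    (f : PowerSeries k) : (σ f).order = f.order := by
  by_cases hf : f = 0
  · rw [hf, map_zero]
  · have hX : (σ X).order = 1 := by
      have : σ X = X + (σ X - X) := by ring
      rw [this]
      have hne : (X : PowerSeries k).order ≠ (σ X - X).order := by
        rw [hm, order_X]
        intro h
        have : (1 : ℕ) = m + 1 := by exact_mod_cast h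
        omega
      rw [order_add_of_order_ne _ _ hne, hm, order_X]
      apply min_eq_left
      exact_mod_cast (by omega : 1 ≤ m + 1)
    have hw : IsUnit (divXPowOrder f) := by
      rw [isUnit_iff_constantCoeff, isUnit_iff_ne_zero, Ne, constantCoeff_divXPowOrder_eq_zero_iff]
      exact hf
    have hf' := X_pow_order_mul_divXPowOrder (f := f)
    conv_lhs => rw [← hf']
    rw [map_mul, map_pow, order_mul, order_pow, hX, order_zero_of_unit (hw.map σ)]
    have : f.order = ((f.order.toNat : ℕ) : ℕ∞) := by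
      rw [ENat.natCast_toNat]
      rwa [Ne, order_eq_top]
    conv_rhs => rw [this]
    simp

theorem order_sig_pow (hm : (σ X - X).order = ((m + 1 : ℕ) : ℕ∞)) (hm1 : 1 ≤ m)
    (j : ℕ) (f : PowerSeries k) : ((σ ^ j) f).order = f.order := by
  induction j with
  | zero => simp
  | succ j ih => rw [sig_pow_apply, order_sig hm hm1, ih]

/-- `D (X^n)` -/
theorem D_X_pow (hm1 : 1 ≤ m) (e' : PowerSeries k) (he : σ X - X = X ^ (m + 1) * e') (n : ℕ) :
    ∃ r : PowerSeries k, D σ (X ^ n) = (n : PowerSeries k) * X ^ (n + m) * e' + X ^ (n + m + 1) * r := by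
  obtain ⟨m', rfl⟩ : ∃ m', m = m' + 1 := ⟨m - 1, by omega⟩
  induction n with
  | zero => exact ⟨0, by simp [D]⟩
  | succ n ih =>
    obtain ⟨r, hr⟩ := ih
    have hσX : σ X = X + X ^ (m' + 1 + 1) * e' := by rw [← he]; ring
    have hDX : D σ X = X ^ (m' + 1 + 1) * e' := by unfold D; rw [he]
    refine ⟨(n : PowerSeries k) * X ^ m' * e' ^ 2 + r + X ^ (m' + 1) * r * e', ?_⟩
    rw [pow_succ, D_mul, hr, hσX, hDX]
    push_cast
    ring

/-- the main valuation formula -/
theorem D_formula (hm : (σ X - X).order = ((m + 1 : ℕ) : ℕ∞)) (hm1 : 1 ≤ m)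
    (e' : PowerSeries k) (he : σ X - X = X ^ (m + 1) * e') (f : PowerSeries k) :
    ∃ R : PowerSeries k, D σ f = X ^ (f.order.toNat + m) *
      ((f.order.toNat : PowerSeries k) * (e' * divXPowOrder f)) + X ^ (f.order.toNat + m + 1) * R := by
  set n := f.order.toNat with hn
  set w := divXPowOrder f with hw
  have hf : f = X ^ n * w := (X_pow_order_mul_divXPowOrder (f := f)).symm
  obtain ⟨r, hr⟩ := D_X_pow hm1 e' he n
  obtain ⟨w', hw'⟩ := cont hm w
  have hσw : σ w = w + X ^ (m + 1) * w' := by rw [← hw']; unfold D; ring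
  refine ⟨(n : PowerSeries k) * X ^ m * e' * w' + r * (w + X ^ (m + 1) * w') + w', ?_⟩
  conv_lhs => rw [hf]
  rw [D_mul, hr, hσw, hw']
  ring

end Groth.Agent.H9.AS
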