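import Mathlib
import Groth.Agent.Lib.Helper9.Misc.AS1

/-! Helper9: consequences of the valuation formula; invariants have order divisible by p. -/

namespace Groth.Agent.H9.AS

open PowerSeries

universe u
variable {k : Type u} [Field k] {p : ℕ} [hp : Fact p.Prime] [CharP k p]
variable {σ : PowerSeries k ≃ₐ[k] PowerSeries k} {m : ℕ}

theorem natCast_ps (n : ℕ) : (n : PowerSeries k) = C (n : k) := by
  rw [map_natCast]

theorem order_D_of_not_dvd (hm : (σ X - X).order = ((m + 1 : ℕ) : ℕ∞)) (hm1 : 1 ≤ m)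
    (f : PowerSeries k) (hf : f ≠ 0) (hn : ¬ p ∣ f.order.toNat) :
    (D σ f).order = ((f.order.toNat + m : ℕ) : ℕ∞) := by
  obtain ⟨e', he, hc⟩ := exists_e' hm
  obtain ⟨R, hR⟩ := D_formula hm hm1 e' he f
  set n := f.order.toNat with hn'
  have hu : ((n : PowerSeries k) * (e' * divXPowOrder f)).order = 0 := by
    apply order_zero_of_unit
    rw [isUnit_iff_constantCoeff, isUnit_iff_ne_zero, natCast_ps, map_mul, map_mul,
      constantCoeff_C]
    refine mul_ne_zero ?_ (mul_ne_zero hc ?_)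
    · rwa [Ne, CharP.cast_eq_zero_iff k p]
    · rwa [Ne, constantCoeff_divXPowOrder_eq_zero_iff]
  have h1 : (X ^ (n + m) * ((n : PowerSeries k) * (e' * divXPowOrder f))).order
      = ((n + m : ℕ) : ℕ∞) := by
    rw [order_mul, order_X_pow, hu, add_zero]
  have h2 : ((n + m : ℕ) : ℕ∞) < (X ^ (n + m + 1) * R).order := by
    rw [order_mul, order_X_pow]
    calc ((n + m : ℕ) : ℕ∞) < ((n + m + 1 : ℕ) : ℕ∞) := by exact_mod_cast Nat.lt_succ_self _
      _ ≤ _ := le_self_add
  rw [hR, order_add_of_order_ne _ _ (by rw [h1]; exact ne_of_lt h2), h1]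
  exact min_eq_left h2.le

theorem le_order_D_of_dvd (hm : (σ X - X).order = ((m + 1 : ℕ) : ℕ∞)) (hm1 : 1 ≤ m)
    (f : PowerSeries k) (hn : p ∣ f.order.toNat) :
    ((f.order.toNat + m + 1 : ℕ) : ℕ∞) ≤ (D σ f).order := by
  obtain ⟨e', he, hc⟩ := exists_e' hm
  obtain ⟨R, hR⟩ := D_formula hm hm1 e' he f
  have h0 : (f.order.toNat : PowerSeries k) = 0 := by
    rw [natCast_ps, (CharP.cast_eq_zero_iff k p _).2 hn, map_zero]
  rw [hR, h0, zero_mul, mul_zero, zero_add, order_mul, order_X_pow]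
  exact le_self_add

/-- invariants have order divisible by `p` -/
theorem dvd_order_of_invariant (hm : (σ X - X).order = ((m + 1 : ℕ) : ℕ∞)) (hm1 : 1 ≤ m)
    (f : PowerSeries k) (hf : f ≠ 0) (hinv : σ f = f) : p ∣ f.order.toNat := by
  by_contra hn
  have := order_D_of_not_dvd hm hm1 f hf hn
  unfold D at this
  rw [hinv, sub_self, order_zero] at this
  exact ENat.natCast_ne_top _ this.symm

theorem order_eq_toNat (f : PowerSeries k) (hf : f ≠ 0) :
    f.order = ((f.order.toNat : ℕ) : ℕ∞) := by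
  rw [ENat.natCast_toNat]
  rwa [Ne, order_eq_top]

/-- the direction (⇐) of S19996 -/
theorem dvd_of_exists (hσp : σ ^ p = 1) (hm : (σ X - X).order = ((m + 1 : ℕ) : ℕ∞))
    (s a : PowerSeries k) (hs : s.order = 1) (ha : σ a = a) (hsa : σ s = s + a) : p ∣ m + 1 := by
  have hm1 := m_pos hσp hm
  have hs0 : s ≠ 0 := by
    intro h; rw [h, order_zero] at hs; exact ENat.top_ne_one hs
  have hs1 : s.order.toNat = 1 := by rw [hs]; rfl
  have hDs : D σ s = a := by unfold D; rw [hsa]; ring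
  have h1 := order_D_of_not_dvd hm hm1 s hs0 (by rw [hs1]; exact hp.out.one_lt.ne' ∘ Nat.dvd_one.1 ∘ id)
  rw [hDs, hs1] at h1
  have ha0 : a ≠ 0 := by
    intro h; rw [h, order_zero] at h1; exact ENat.natCast_ne_top _ h1.symm
  have := dvd_order_of_invariant hm hm1 a ha0 ha
  rw [h1, ENat.toNat_natCast] at this
  rwa [add_comm] at this

end Groth.Agent.H9.AS
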