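import Mathlib
import Groth.Agent.Lib.Helper9.Misc.AS2

/-! Helper9: iterates of sigma - 1 and their orders. -/

namespace Groth.Agent.H9.AS

open PowerSeries

universe u
variable {k : Type u} [Field k] {p : ℕ} [hp : Fact p.Prime] [CharP k p]
variable {σ : PowerSeries k ≃ₐ[k] PowerSeries k} {m : ℕ}

/-- `σ - 1` as a linear endomorphism -/
noncomputable def Dlin (σ : PowerSeries k ≃ₐ[k] PowerSeries k) : Module.End k (PowerSeries k) :=
  σ.toLinearMap - 1

theorem Dlin_apply (f : PowerSeries k) : Dlin σ f = D σ f := rfl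

theorem Dlin_pow_succ (i : ℕ) (f : PowerSeries k) :
    ((Dlin σ) ^ (i + 1)) f = D σ (((Dlin σ) ^ i) f) := by
  rw [pow_succ', Module.End.mul_apply, Dlin_apply]

theorem toLin_pow (j : ℕ) (f : PowerSeries k) :
    ((σ.toLinearMap : Module.End k (PowerSeries k)) ^ j) f = (σ ^ j) f := by
  induction j generalizing f with
  | zero => simp
  | succ j ih =>
    rw [pow_succ', Module.End.mul_apply, ih, sig_pow_apply]
    rfl

theorem Dlin_pow_p (hσp : σ ^ p = 1) : (Dlin σ) ^ p = 0 := by
  have hpoly : ((Polynomial.X : Polynomial k) - 1) ^ p = Polynomial.X ^ p - 1 := by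
    rw [sub_pow_char, one_pow]
  have := congrArg (Polynomial.aeval (σ.toLinearMap : Module.End k (PowerSeries k))) hpoly
  simp only [map_pow, map_sub, Polynomial.aeval_X, map_one] at this
  unfold Dlin
  rw [this]
  have h1 : (σ.toLinearMap : Module.End k (PowerSeries k)) ^ p = 1 := by
    apply LinearMap.ext
    intro f
    rw [toLin_pow, hσp]
    rfl
  rw [h1, sub_self]

/-- orders of the iterates on `X^(p-1)` -/
theorem order_iter (hm : (σ X - X).order = ((m + 1 : ℕ) : ℕ∞)) (hm1 : 1 ≤ m)
    (hdiv : p ∣ m + 1) (i : ℕ) (hi : i ≤ p - 1) :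
    (((Dlin σ) ^ i) (X ^ (p - 1))).order = ((p - 1 + i * m : ℕ) : ℕ∞) := by
  have hp2 := hp.out.two_le
  induction i with
  | zero => simp [order_X_pow]
  | succ i ih =>
    have ih' := ih (by omega)
    have hne : ((Dlin σ) ^ i) (X ^ (p - 1)) ≠ 0 := by
      intro h; rw [h, order_zero] at ih'; exact ENat.natCast_ne_top _ ih'.symm
    have htn : (((Dlin σ) ^ i) (X ^ (p - 1))).order.toNat = p - 1 + i * m := by
      rw [ih', ENat.toNat_natCast]
    have hnd : ¬ p ∣ p - 1 + i * m := by
      obtain ⟨q, hq⟩ := hdiv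
      intro hd
      have h1 : p ∣ (p - 1 + i * m) + (i + 1) := by
        have : (p - 1 + i * m) + (i + 1) = p + i * (m + 1) := by
          have : 1 ≤ p := by omega
          zify [this]
          ring
        rw [this, hq]
        exact Dvd.dvd.add (dvd_refl p) (Dvd.dvd.mul_left (Dvd.intro _ rfl) _)
      have h2 : p ∣ i + 1 := (Nat.dvd_add_right hd).1 h1
      have := Nat.le_of_dvd (by omega) h2
      omega
    rw [Dlin_pow_succ, order_D_of_not_dvd hm hm1 _ hne (by rw [htn]; exact hnd), htn]
    congr 1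
    ring

end Groth.Agent.H9.AS
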