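import Mathlib
import Groth.Agent.Lib.Helper9.Misc.AS3

/-! Helper9: order-p automorphisms of k[[u]]: norm and ramification jump (S19996). -/

namespace Groth.Agent.H9.AS

open PowerSeries

universe u
variable {k : Type u} [Field k] {p : ℕ} [hp : Fact p.Prime] [CharP k p]
variable {σ : PowerSeries k ≃ₐ[k] PowerSeries k} {m : ℕ}

/-- the norm of a power series -/
noncomputable def Nm (σ : PowerSeries k ≃ₐ[k] PowerSeries k) (p : ℕ) (b : PowerSeries k) :
    PowerSeries k := ∏ i ∈ Finset.range p, (σ ^ i) b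

omit hp [CharP k p] in
theorem sig_Nm (hσp : σ ^ p = 1) (b : PowerSeries k) (hb : b ≠ 0) : σ (Nm σ p b) = Nm σ p b := by
  unfold Nm
  rw [map_prod]
  have h1 : ∀ i ∈ Finset.range p, σ ((σ ^ i) b) = (σ ^ (i + 1)) b := fun i _ => (sig_pow_apply σ i b).symm
  rw [Finset.prod_congr rfl h1]
  have h2 := Finset.prod_range_succ (fun i => (σ ^ i) b) p
  have h3 := Finset.prod_range_succ' (fun i => (σ ^ i) b) p
  rw [h2] at h3
  simp only [hσp, pow_zero, AlgEquiv.one_apply] at h3
  exact (mul_right_cancel₀ hb h3).symm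

omit hp [CharP k p] in
theorem order_Nm (hm : (σ X - X).order = ((m + 1 : ℕ) : ℕ∞)) (hm1 : 1 ≤ m) (b : PowerSeries k)
    (j : ℕ) : (∏ i ∈ Finset.range j, (σ ^ i) b).order = j • b.order := by
  induction j with
  | zero => simp
  | succ j ih =>
    rw [Finset.prod_range_succ, order_mul, ih, order_sig_pow hm hm1, succ_nsmul]

/-- the direction (⇒) of S19996 -/
theorem exists_of_dvd (hσp : σ ^ p = 1) (hm : (σ X - X).order = ((m + 1 : ℕ) : ℕ∞))
    (hdiv : p ∣ m + 1) :
    ∃ s a : PowerSeries k, s.order = 1 ∧ σ a = a ∧ σ s = s + a := by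
  have hp2 := hp.out.two_le
  have hm1 : 1 ≤ m := by
    have := Nat.le_of_dvd (by omega) hdiv
    omega
  obtain ⟨q, hq⟩ := hdiv
  set z : PowerSeries k := X ^ (p - 1) with hz
  set t := ((Dlin σ) ^ (p - 2)) z with ht
  set w := D σ t with hw
  have hwt : w = ((Dlin σ) ^ (p - 1)) z := by
    rw [hw, ht, ← Dlin_pow_succ]
    congr 2
    omega
  have hDw : D σ w = 0 := by
    rw [hwt, ← Dlin_pow_succ]
    have : p - 1 + 1 = p := by omega
    rw [this, Dlin_pow_p hσp]
    rfl
  have hσw : σ w = w := by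
    unfold D at hDw
    exact sub_eq_zero.1 hDw
  have hot : t.order = ((1 + p * ((p - 2) * q) : ℕ) : ℕ∞) := by
    rw [ht, order_iter hm hm1 ⟨q, hq⟩ (p - 2) (by omega)]
    congr 1
    have hm' : m = p * q - 1 := by omega
    have hpq : 1 ≤ p * q := by omega
    obtain ⟨p', rfl⟩ : ∃ p', p = p' + 2 := ⟨p - 2, by omega⟩
    simp only [Nat.add_sub_cancel]
    zify [hpq] at hm' ⊢
    rw [hm']
    have : ((p' + 2 - 1 : ℕ) : ℤ) = p' + 1 := by omega
    rw [this]
    ring
  set l := (p - 2) * q with hl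
  have ht0 : t ≠ 0 := by
    intro h; rw [h, order_zero] at hot; exact ENat.natCast_ne_top _ hot.symm
  have hX0 : (X : PowerSeries k) ≠ 0 := X_ne_zero
  set x := Nm σ p X with hx
  have hσx : σ x = x := sig_Nm hσp X hX0
  have hox : x.order = (p : ℕ∞) := by
    rw [hx, Nm, order_Nm hm hm1, order_X]
    simp
  have hoxl : (x ^ l).order = ((p * l : ℕ) : ℕ∞) := by
    rw [order_pow, hox]
    push_cast
    rw [mul_comm]
    simp
  have hxl0 : x ^ l ≠ 0 := by
    intro h; rw [h, order_zero] at hoxl; exact ENat.natCast_ne_top _ hoxl.symm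
  -- decompositions
  set t' := divXPowOrder t with ht'
  set y' := divXPowOrder (x ^ l) with hy'
  have htdec : t = X ^ (1 + p * l) * t' := by
    have := X_pow_order_mul_divXPowOrder (f := t)
    rw [hot, ENat.toNat_natCast] at this
    exact this.symm
  have hydec : x ^ l = X ^ (p * l) * y' := by
    have := X_pow_order_mul_divXPowOrder (f := x ^ l)
    rw [hoxl, ENat.toNat_natCast] at this
    exact this.symm
  have hy'c : constantCoeff y' ≠ 0 := by
    rw [hy', Ne, constantCoeff_divXPowOrder_eq_zero_iff]; exact hxl0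
  have ht'c : constantCoeff t' ≠ 0 := by
    rw [ht', Ne, constantCoeff_divXPowOrder_eq_zero_iff]; exact ht0
  set s := X * t' * y'⁻¹ with hs
  have hxs : x ^ l * s = t := by
    rw [hydec, htdec, hs]
    have := PowerSeries.mul_inv_cancel y' hy'c
    calc X ^ (p * l) * y' * (X * t' * y'⁻¹) = X ^ (1 + p * l) * t' * (y' * y'⁻¹) := by ring
      _ = X ^ (1 + p * l) * t' := by rw [this, mul_one]
  have hos : s.order = 1 := by
    have h1 : t'.order = 0 := order_zero_of_unit (by
      rw [isUnit_iff_constantCoeff, isUnit_iff_ne_zero]; exact ht'c)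
    have h2 : (y'⁻¹).order = 0 := order_zero_of_unit (by
      rw [isUnit_iff_constantCoeff, isUnit_iff_ne_zero, constantCoeff_inv]
      exact inv_ne_zero hy'c)
    rw [hs, order_mul, order_mul, order_X, h1, h2]
    simp
  refine ⟨s, σ s - s, hos, ?_, by ring⟩
  have hxa : x ^ l * (σ s - s) = w := by
    have : σ t = x ^ l * σ s := by rw [← hxs, map_mul, map_pow, hσx]
    rw [hw, D, this, ← hxs]
    ring
  have : x ^ l * σ (σ s - s) = x ^ l * (σ s - s) := by
    have h1 : σ (x ^ l * (σ s - s)) = x ^ l * σ (σ s - s) := by rw [map_mul, map_pow, hσx]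
    rw [← h1, hxa, hσw]
  exact mul_left_cancel₀ hxl0 this

theorem main96 (p : ℕ) [Fact p.Prime] (k : Type u) [Field k] [CharP k p]
    (σ : PowerSeries k ≃ₐ[k] PowerSeries k) (hσp : σ ^ p = 1)
    (m : ℕ) (hm : (σ PowerSeries.X - PowerSeries.X).order = ((m + 1 : ℕ) : ℕ∞)) :
    p ∣ m + 1 ↔
      ∃ s a : PowerSeries k, s.order = 1 ∧ σ a = a ∧ σ s = s + a := by
  constructor
  · exact exists_of_dvd hσp hm
  · rintro ⟨s, a, h1, h2, h3⟩
    exact dvd_of_exists hσp hm s a h1 h2 h3

end Groth.Agent.H9.AS
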