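import Mathlib
import Groth.Agent.Lib.Helper9.Misc.AS4

/-! Helper9: Artin–Schreier generator and the ramification jump (S15813). -/

namespace Groth.Agent.H9.AS

open PowerSeries

universe u
variable {k : Type u} [Field k] {p : ℕ} [hp : Fact p.Prime] [CharP k p]
variable {σ : PowerSeries k ≃ₐ[k] PowerSeries k} {m : ℕ}

theorem core (hσp : σ ^ p = 1) (hm : (σ X - X).order = ((m + 1 : ℕ) : ℕ∞))
    (w y x f : PowerSeries k) (hy : σ y = y) (hxσ : σ x = x) (hfσ : σ f = f) (hy0 : y ≠ 0)
    (hxo : x.order = (p : ℕ∞)) (hf0 : constantCoeff f ≠ 0) (μ : ℕ) (hμ : 0 < μ) (hpμ : ¬ p ∣ μ)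
    (heq : x ^ μ * (w ^ p - w * y ^ (p - 1)) = f * y ^ p) : μ = m := by
  have hm1 := m_pos hσp hm
  have hp2 := hp.out.two_le
  obtain ⟨q, hq⟩ : ∃ q, p = q + 1 := ⟨p - 1, by omega⟩
  have hq1 : 1 ≤ q := by omega
  have hpq : p - 1 = q := by omega
  rw [hpq] at heq
  have hfo : f.order = 0 :=
    order_zero_of_unit (by rwa [isUnit_iff_constantCoeff, isUnit_iff_ne_zero])
  have hf_ne : f ≠ 0 := by rintro rfl; simp at hf0
  have hx0 : x ≠ 0 := by
    rintro rfl; rw [order_zero] at hxo; exact ENat.natCast_ne_top _ hxo.symm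
  have hRne : f * y ^ p ≠ 0 := mul_ne_zero hf_ne (pow_ne_zero _ hy0)
  have hw0 : w ≠ 0 := by
    rintro rfl
    apply hRne
    rw [← heq]
    simp [zero_pow (by omega : p ≠ 0)]
  have hdd0 : w ^ p - w * y ^ q ≠ 0 := by
    intro h
    apply hRne
    rw [← heq, h, mul_zero]
  obtain ⟨ow, how⟩ : ∃ n : ℕ, w.order = n := ⟨_, order_eq_toNat w hw0⟩
  obtain ⟨oy, hoy⟩ : ∃ n : ℕ, y.order = n := ⟨_, order_eq_toNat y hy0⟩
  obtain ⟨od, hod⟩ : ∃ n : ℕ, (w ^ p - w * y ^ q).order = n := ⟨_, order_eq_toNat _ hdd0⟩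
  have hpoy : p ∣ oy := by
    have := dvd_order_of_invariant hm hm1 y hy0 hy
    rwa [hoy, ENat.toNat_natCast] at this
  have h1 : (w ^ p).order = ((p * ow : ℕ) : ℕ∞) := by
    rw [order_pow, how]; push_cast; simp
  have h2 : (w * y ^ q).order = ((ow + q * oy : ℕ) : ℕ∞) := by
    rw [order_mul, order_pow, how, hoy]; push_cast; simp
  have h4 : μ * p + od = p * oy := by
    have h := congrArg order heq
    rw [order_mul, order_mul, order_pow, order_pow, hxo, hfo, hoy, hod, zero_add] at h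
    have h' : ((μ * p + od : ℕ) : ℕ∞) = ((p * oy : ℕ) : ℕ∞) := by
      push_cast; simpa using h
    exact_mod_cast h'
  have e1 : p * ow = q * ow + ow := by rw [hq]; ring
  have e2 : p * oy = q * oy + oy := by rw [hq]; ring
  have hlt : ow < oy := by
    by_contra hge
    push Not at hge
    have h3 : ((p * oy : ℕ) : ℕ∞) ≤ (w ^ p - w * y ^ q).order := by
      rw [sub_eq_add_neg]
      refine le_trans ?_ (min_order_le_order_add _ _)
      rw [order_neg, h1, h2]
      apply le_min
      · exact_mod_cast Nat.mul_le_mul_left p hge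
      · exact_mod_cast (by rw [e2]; omega)
    rw [hod] at h3
    have h3' : p * oy ≤ od := by exact_mod_cast h3
    have : μ * p = 0 := by omega
    rcases Nat.mul_eq_zero.1 this with h | h <;> omega
  have hqlt : q * ow < q * oy := Nat.mul_lt_mul_of_pos_left hlt (by omega)
  have hod' : od = p * ow := by
    have hne : (w ^ p).order ≠ (-(w * y ^ q)).order := by
      rw [order_neg, h1, h2]
      intro h
      have : p * ow = ow + q * oy := by exact_mod_cast h
      omega
    have h := order_add_of_order_ne _ _ hne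
    rw [← sub_eq_add_neg, hod, order_neg, h1, h2] at h
    have hmin : min ((p * ow : ℕ) : ℕ∞) ((ow + q * oy : ℕ) : ℕ∞) = ((p * ow : ℕ) : ℕ∞) := by
      apply min_eq_left
      exact_mod_cast (by omega)
    rw [hmin] at h
    exact_mod_cast h
  have h5 : μ + ow = oy := by
    have : p * (μ + ow) = p * oy := by rw [← h4, hod']; ring
    exact Nat.eq_of_mul_eq_mul_left (by omega) this
  have hpow : ¬ p ∣ ow := by
    intro h
    apply hpμ
    have : p ∣ μ + ow := by rw [h5]; exact hpoy
    exact (Nat.dvd_add_left h).1 this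
  have hdo : (D σ w).order = ((ow + m : ℕ) : ℕ∞) := by
    have := order_D_of_not_dvd hm hm1 w hw0 (by rwa [how, ENat.toNat_natCast])
    rwa [how, ENat.toNat_natCast] at this
  have hd0 : D σ w ≠ 0 := by
    intro h; rw [h, order_zero] at hdo; exact ENat.natCast_ne_top _ hdo.symm
  have heq' := congrArg σ heq
  simp only [map_mul, map_pow, map_sub, hy, hxσ, hfσ] at heq'
  have : CharP (PowerSeries k) p :=
    charP_of_injective_algebraMap (algebraMap k (PowerSeries k)).injective p
  have h6 : x ^ μ * ((D σ w) ^ p - D σ w * y ^ q) = 0 := by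
    unfold D
    rw [sub_pow_char]
    linear_combination heq' - heq
  have h7 : (D σ w) ^ p = D σ w * y ^ q := by
    rcases mul_eq_zero.1 h6 with h | h
    · exact absurd h (pow_ne_zero _ hx0)
    · exact sub_eq_zero.1 h
  have h8 := congrArg order h7
  rw [order_pow, order_mul, order_pow, hdo, hoy] at h8
  have h9 : p * (ow + m) = (ow + m) + q * oy := by
    have h' : ((p * (ow + m) : ℕ) : ℕ∞) = (((ow + m) + q * oy : ℕ) : ℕ∞) := by
      push_cast; simpa [mul_add] using h8
    exact_mod_cast h'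
  have h10 : q * (ow + m) = q * oy := by
    have : p * (ow + m) = q * (ow + m) + (ow + m) := by rw [hq]; ring
    omega
  have h11 : ow + m = oy := Nat.eq_of_mul_eq_mul_left (by omega) h10
  omega

theorem main13 (p : ℕ) [Fact p.Prime] (k : Type u) [Field k] [CharP k p]
    (σ : PowerSeries k ≃ₐ[k] PowerSeries k) (hσp : σ ^ p = 1)
    (m : ℕ) (hm : (σ PowerSeries.X - PowerSeries.X).order = ((m + 1 : ℕ) : ℕ∞))
    (f : PowerSeries k) (hfσ : σ f = f) (hf0 : PowerSeries.constantCoeff f ≠ 0)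
    (μ : ℕ) (hμ : 0 < μ) (hpμ : ¬ p ∣ μ)
    (z : FractionRing (PowerSeries k))
    (hz : z ^ p - z = algebraMap (PowerSeries k) (FractionRing (PowerSeries k)) f /
      algebraMap (PowerSeries k) (FractionRing (PowerSeries k))
        (∏ i ∈ Finset.range p, (σ ^ i) PowerSeries.X) ^ μ) :
    μ = m := by
  have hm1 := m_pos hσp hm
  have hp2 := (Fact.out : p.Prime).two_le
  have hinj : Function.Injective (algebraMap (PowerSeries k) (FractionRing (PowerSeries k))) :=
    IsFractionRing.injective _ _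
  obtain ⟨a, b, hb, hab⟩ := IsFractionRing.div_surjective (A := PowerSeries k) z
  have hb0 : b ≠ 0 := nonZeroDivisors.ne_zero hb
  have hxσ : σ (∏ i ∈ Finset.range p, (σ ^ i) (X : PowerSeries k))
      = ∏ i ∈ Finset.range p, (σ ^ i) (X : PowerSeries k) := sig_Nm hσp X X_ne_zero
  have hxo : (∏ i ∈ Finset.range p, (σ ^ i) (X : PowerSeries k)).order = (p : ℕ∞) := by
    rw [order_Nm hm hm1, order_X]; simp
  have hx0 : (∏ i ∈ Finset.range p, (σ ^ i) (X : PowerSeries k)) ≠ 0 := by
    intro h; rw [h, order_zero] at hxo; exact ENat.natCast_ne_top _ hxo.symm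
  have hyσ : σ (∏ i ∈ Finset.range p, (σ ^ i) b) = ∏ i ∈ Finset.range p, (σ ^ i) b :=
    sig_Nm hσp b hb0
  have hy0 : (∏ i ∈ Finset.range p, (σ ^ i) b) ≠ 0 := by
    rw [Finset.prod_ne_zero_iff]
    intro i _
    exact (EmbeddingLike.map_ne_zero_iff (f := σ ^ i)).2 hb0
  obtain ⟨c, hc⟩ : b ∣ ∏ i ∈ Finset.range p, (σ ^ i) b := by
    have := Finset.dvd_prod_of_mem (fun i => (σ ^ i) b) (Finset.mem_range.2 (by omega : 0 < p))
    simpa using this
  generalize (∏ i ∈ Finset.range p, (σ ^ i) b) = y at hyσ hy0 hc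
  generalize (∏ i ∈ Finset.range p, (σ ^ i) (X : PowerSeries k)) = x at hxσ hxo hx0 hz
  have hx' : algebraMap (PowerSeries k) (FractionRing (PowerSeries k)) x ≠ 0 := by
    rwa [Ne, map_eq_zero_iff _ hinj]
  have hb' : algebraMap (PowerSeries k) (FractionRing (PowerSeries k)) b ≠ 0 := by
    rwa [Ne, map_eq_zero_iff _ hinj]
  have hzw : z * algebraMap (PowerSeries k) (FractionRing (PowerSeries k)) y
      = algebraMap (PowerSeries k) (FractionRing (PowerSeries k)) (a * c) := by
    rw [← hab, hc, map_mul, map_mul]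
    field_simp
  have e1 : (z ^ p - z) * (algebraMap (PowerSeries k) (FractionRing (PowerSeries k)) x) ^ μ
      = algebraMap (PowerSeries k) (FractionRing (PowerSeries k)) f := by
    rw [hz, div_mul_cancel₀ _ (pow_ne_zero _ hx')]
  have key : ∀ (Y Z X' : FractionRing (PowerSeries k)) (q : ℕ),
      X' * ((Z * Y) ^ (q + 1) - Z * Y * Y ^ q) = (Z ^ (q + 1) - Z) * X' * Y ^ (q + 1) := by
    intros; ring
  have hk := key (algebraMap (PowerSeries k) (FractionRing (PowerSeries k)) y) z
    ((algebraMap (PowerSeries k) (FractionRing (PowerSeries k)) x) ^ μ) (p - 1)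
  rw [Nat.sub_add_cancel (by omega : 1 ≤ p), e1, hzw] at hk
  have heq : x ^ μ * ((a * c) ^ p - (a * c) * y ^ (p - 1)) = f * y ^ p := by
    apply hinj
    simp only [map_mul, map_sub, map_pow]
    simp only [map_mul] at hk
    exact hk
  exact core hσp hm (a * c) y x f hyσ hxσ hfσ hy0 hxo hf0 μ hμ hpμ heq

end Groth.Agent.H9.AS
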