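import Mathlib
import Groth.Agent.Lib.Helper9.Misc.ArtinG

/-! Helper9: S5120 Artin-Schreier freeness -/

universe u

namespace Groth.Agent.H9.AS5120

open Polynomial

theorem main (p : ℕ) [Fact p.Prime] (A : Type u) [CommRing A]
    (q : A[X]) :
    ∃! c : Fin p → A[X], q = ∑ i : Fin p, aeval (X - X ^ p : A[X]) (c i) * X ^ (i : ℕ) := by
  have hp : 1 < p := (Fact.out : p.Prime).one_lt
  have hε : (-1 : A) * (-1) = 1 := by ring
  have hGeq : (C (-1 : A) * (X - X ^ p) : A[X]) = X ^ p - X := by
    rw [map_neg, map_one]; ring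
  have hb := Groth.Agent.H9.ArtinG.expMap_bijective_unit' (X - X ^ p : A[X]) (-1) hε p
    (by omega) (by
      intro hnt
      rw [hGeq]
      constructor
      · apply monic_X_pow_sub
        rw [degree_X]
        exact_mod_cast hp
      · rw [natDegree_sub_eq_left_of_natDegree_lt]
        · exact natDegree_X_pow p
        · rw [natDegree_X_pow, natDegree_X]; exact hp)
  obtain ⟨c, hc⟩ := hb.2 q
  refine ⟨c, hc.symm, fun c' hc' => hb.1 ?_⟩
  rw [hc]
  exact hc'.symm

end Groth.Agent.H9.AS5120
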