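import Mathlib

set_option autoImplicit false

namespace Groth.Agent.H9.ASch

/-- Artin–Schreier: a Galois extension of prime degree `p` in characteristic `p` is generated by a
root of `x^p - x = β`. -/
theorem exists_as_gen (p : ℕ) [hp : Fact p.Prime] (F E : Type*) [Field F] [Field E] [Algebra F E]
    [CharP F p] [IsGalois F E] (hdeg : Module.finrank F E = p) :
    ∃ x : E, ∃ β : F, IntermediateField.adjoin F {x} = ⊤ ∧ x ^ p - x = algebraMap F E β := by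
  haveI : FiniteDimensional F E := Module.finite_of_finrank_pos (by rw [hdeg]; exact hp.out.pos)
  haveI : CharP E p := charP_of_injective_algebraMap (algebraMap F E).injective p
  have hc : Nat.card (E ≃ₐ[F] E) = p := by rw [IsGalois.card_aut_eq_finrank, hdeg]
  haveI : IsCyclic (E ≃ₐ[F] E) := isCyclic_of_prime_card hc
  haveI : NeZero (Nat.card (E ≃ₐ[F] E)) := ⟨by rw [hc]; exact hp.out.ne_zero⟩
  have hnat : ∀ k : ℕ, ((k : E)) ^ p = k := by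
    intro k
    induction k with
    | zero => rw [Nat.cast_zero, zero_pow hp.out.ne_zero]
    | succ k ih => rw [Nat.cast_succ, add_pow_char, ih, one_pow]
  obtain ⟨e, -⟩ : ∃ e : Multiplicative (ZMod (Nat.card (E ≃ₐ[F] E))) ≃* (E ≃ₐ[F] E), True :=
    ⟨zmodCyclicMulEquiv inferInstance, trivial⟩
  obtain ⟨φ, -⟩ : ∃ φ : ZMod (Nat.card (E ≃ₐ[F] E)) →+* E, True :=
    ⟨ZMod.castHom (show p ∣ Nat.card (E ≃ₐ[F] E) from by rw [hc]) E, trivial⟩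
  obtain ⟨c, hcdef⟩ : ∃ c : (E ≃ₐ[F] E) → E,
      ∀ τ, c τ = φ (Multiplicative.toAdd (e.symm τ)) := ⟨_, fun _ => rfl⟩
  have hcmul : ∀ τ₁ τ₂ : E ≃ₐ[F] E, c (τ₁ * τ₂) = c τ₁ + c τ₂ := by
    intro τ₁ τ₂
    rw [hcdef, hcdef, hcdef, map_mul, toAdd_mul, map_add]
  have hcnat : ∀ τ : E ≃ₐ[F] E, ∃ k : ℕ, c τ = (k : E) := by
    intro τ
    obtain ⟨k, hk⟩ := ZMod.natCast_zmod_surjective (Multiplicative.toAdd (e.symm τ))
    exact ⟨k, by rw [hcdef, ← hk, map_natCast]⟩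
  have hcpow : ∀ τ : E ≃ₐ[F] E, c τ ^ p = c τ := by
    intro τ
    obtain ⟨k, hk⟩ := hcnat τ
    rw [hk, hnat]
  have hcfix : ∀ ρ τ : E ≃ₐ[F] E, ρ (c τ) = c τ := by
    intro ρ τ
    obtain ⟨k, hk⟩ := hcnat τ
    rw [hk, map_natCast]
  obtain ⟨σ, hσ⟩ : ∃ σ : E ≃ₐ[F] E, c σ = 1 := by
    refine ⟨e (Multiplicative.ofAdd 1), ?_⟩
    rw [hcdef, MulEquiv.symm_apply_apply, toAdd_ofAdd, map_one]
  obtain ⟨θ, hθ⟩ := Algebra.trace_surjective F E 1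
  have htr : ∑ τ : E ≃ₐ[F] E, τ θ = 1 := by
    rw [← trace_eq_sum_automorphisms, hθ, map_one]
  obtain ⟨x₀, hx₀⟩ : ∃ x₀ : E, x₀ = -∑ τ : E ≃ₐ[F] E, c τ * τ θ := ⟨_, rfl⟩
  have hact : ∀ ρ : E ≃ₐ[F] E, ρ x₀ = x₀ + c ρ := by
    intro ρ
    have h1 : ∑ τ : E ≃ₐ[F] E, c (ρ * τ) * (ρ * τ) θ = ∑ τ : E ≃ₐ[F] E, c τ * τ θ :=
      Equiv.sum_comp (Equiv.mulLeft ρ) (fun τ => c τ * τ θ)
    have h2 : ∑ τ : E ≃ₐ[F] E, (ρ * τ) θ = ∑ τ : E ≃ₐ[F] E, τ θ :=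
      Equiv.sum_comp (Equiv.mulLeft ρ) (fun τ => τ θ)
    have h3 : ∀ τ : E ≃ₐ[F] E,
        ρ (c τ * τ θ) = c (ρ * τ) * (ρ * τ) θ - c ρ * (ρ * τ) θ := by
      intro τ
      rw [map_mul, hcfix, hcmul, AlgEquiv.mul_apply]
      ring
    rw [hx₀, map_neg, map_sum, Finset.sum_congr rfl (fun τ _ => h3 τ), Finset.sum_sub_distrib, h1,
      ← Finset.mul_sum, h2, htr]
    ring
  have hfix : ∀ ρ : E ≃ₐ[F] E, ρ (x₀ ^ p - x₀) = x₀ ^ p - x₀ := by
    intro ρ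
    rw [map_sub, map_pow, hact, add_pow_char, hcpow]
    ring
  obtain ⟨β, hβ⟩ := (IsGalois.mem_range_algebraMap_iff_fixed (F := F) (x₀ ^ p - x₀)).mpr hfix
  have hnot : x₀ ∉ (⊥ : IntermediateField F E) := by
    intro hmem
    have h1 := (IsGalois.mem_bot_iff_fixed (F := F) x₀).mp hmem σ
    rw [hact, hσ] at h1
    exact one_ne_zero (add_left_cancel (h1.trans (add_zero x₀).symm))
  haveI : IsSimpleOrder (IntermediateField F E) :=
    IntermediateField.isSimpleOrder_of_finrank_prime F E (by rw [hdeg]; exact hp.out)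
  refine ⟨x₀, β, ?_, hβ.symm⟩
  rcases eq_bot_or_eq_top (IntermediateField.adjoin F {x₀}) with hb | ht
  · exact absurd (by rw [← hb]; exact IntermediateField.mem_adjoin_simple_self F x₀) hnot
  · exact ht

end Groth.Agent.H9.ASch
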