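import Mathlib

set_option autoImplicit false

namespace Groth.Agent.H9.ASch

open PowerSeries

private lemma field_id {F : Type*} [Field F] (T U V ρp α₂ ρ : F) (hT : T ≠ 0) (hU : U ≠ 0)
    (hV : V ≠ 0) :
    (ρp + T * α₂) / (U * V * T) - ρp / (U * V * T) + ρ / U = (α₂ + ρ * V) / (U * V) := by
  field_simp
  try ring

theorem exists_rep {K : Type*} [Field K] {F : Type*} [Field F] [Algebra (PowerSeries K) F]
    [IsFractionRing (PowerSeries K) F] (β : F) :
    ∃ (a : PowerSeries K) (n : ℕ),
      β = algebraMap (PowerSeries K) F a / algebraMap (PowerSeries K) F X ^ n := by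
  obtain ⟨x, y, hy, hxy⟩ := IsFractionRing.div_surjective (PowerSeries K) β
  have hy0 : y ≠ 0 := nonZeroDivisors.ne_zero hy
  obtain ⟨n, u, hu⟩ := IsDiscreteValuationRing.eq_unit_mul_pow_irreducible hy0
    (PowerSeries.X_prime (R := K)).irreducible
  have hT : algebraMap (PowerSeries K) F X ≠ 0 := fun h =>
    PowerSeries.X_ne_zero (IsFractionRing.injective (PowerSeries K) F (h.trans (map_zero _).symm))
  have hyF : algebraMap (PowerSeries K) F y ≠ 0 := fun h =>
    hy0 (IsFractionRing.injective (PowerSeries K) F (h.trans (map_zero _).symm))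
  refine ⟨x * ((u⁻¹ : (PowerSeries K)ˣ) : PowerSeries K), n, ?_⟩
  rw [← hxy, div_eq_div_iff hyF (pow_ne_zero _ hT), ← map_pow, ← map_mul, ← map_mul]
  congr 1
  have hinv := Units.inv_mul u
  rw [hu]
  linear_combination (-(x * X ^ n)) * hinv

private theorem pole_reduce_aux (p : ℕ) [hp : Fact p.Prime] (K : Type*) [Field K] [CharP K p]
    [PerfectField K] {F : Type*} [Field F] [Algebra (PowerSeries K) F] [CharP F p]
    (T : F) (hT : T ≠ 0) (hTX : algebraMap (PowerSeries K) F X = T) :
    ∀ (n : ℕ) (a : PowerSeries K), ∃ y : F,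
      (∃ b : PowerSeries K,
        algebraMap (PowerSeries K) F a / T ^ n + y ^ p - y = algebraMap (PowerSeries K) F b) ∨
      (∃ (m : ℕ) (a' : PowerSeries K), 0 < m ∧ ¬ p ∣ m ∧ constantCoeff a' ≠ 0 ∧
        algebraMap (PowerSeries K) F a / T ^ n + y ^ p - y =
          algebraMap (PowerSeries K) F a' / T ^ m) := by
  have hp2 : 2 ≤ p := hp.out.two_le
  haveI : ExpChar K p := ExpChar.prime hp.out
  haveI : PerfectRing K p := PerfectField.toPerfectRing p
  intro n
  induction n using Nat.strong_induction_on with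
  | _ n ih =>
    intro a
    rcases Nat.eq_zero_or_pos n with hn0 | hnpos
    · subst hn0
      exact ⟨0, Or.inl ⟨a, by
        rw [pow_zero, div_one, zero_pow hp.out.ne_zero, add_zero, sub_zero]⟩⟩
    by_cases h0 : constantCoeff a = 0
    · obtain ⟨a₁, ha₁⟩ := PowerSeries.X_dvd_iff.mpr h0
      obtain ⟨k, rfl⟩ : ∃ k, n = k + 1 := ⟨n - 1, by omega⟩
      have e : algebraMap (PowerSeries K) F a / T ^ (k + 1) =
          algebraMap (PowerSeries K) F a₁ / T ^ k := by
        rw [ha₁, map_mul, hTX, pow_succ,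
          div_eq_div_iff (mul_ne_zero (pow_ne_zero _ hT) hT) (pow_ne_zero _ hT)]
        ring
      obtain ⟨y, hy⟩ := ih k (by omega) a₁
      exact ⟨y, by rw [e]; exact hy⟩
    by_cases hpn : p ∣ n
    · obtain ⟨k, hk⟩ := hpn
      have hk1 : 1 ≤ k := by
        rcases Nat.eq_zero_or_pos k with h | h
        · rw [h, mul_zero] at hk; omega
        · exact h
      have hkn : k + 1 ≤ n := by
        calc k + 1 ≤ 2 * k := by omega
          _ ≤ p * k := Nat.mul_le_mul_right k hp2
          _ = n := hk.symm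
      obtain ⟨j, hj⟩ : ∃ j, n = k + j + 1 := ⟨n - 1 - k, by omega⟩
      obtain ⟨r, hr⟩ := surjective_frobenius K p (constantCoeff a)
      rw [frobenius_def] at hr
      obtain ⟨a₂, ha₂⟩ : X ∣ a - C (r ^ p) := by
        rw [PowerSeries.X_dvd_iff, map_sub, constantCoeff_C, hr, sub_self]
      have ha' : a = (C r) ^ p + X * a₂ := by rw [← map_pow, ← ha₂]; ring
      have hα : algebraMap (PowerSeries K) F a =
          (algebraMap (PowerSeries K) F (C r)) ^ p + T * algebraMap (PowerSeries K) F a₂ := by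
        conv_lhs => rw [ha']
        rw [map_add, map_pow, map_mul, hTX]
      obtain ⟨z, hz⟩ : ∃ z : F, z = algebraMap (PowerSeries K) F (C r) / T ^ k := ⟨_, rfl⟩
      obtain ⟨a₃, ha₃⟩ : ∃ a₃ : PowerSeries K, a₃ = a₂ + C r * X ^ j := ⟨_, rfl⟩
      have hkey : algebraMap (PowerSeries K) F a / T ^ n - z ^ p + z =
          algebraMap (PowerSeries K) F a₃ / T ^ (n - 1) := by
        have hTn : T ^ n = (T ^ k) ^ p := by rw [hk, pow_mul']
        have hTn' : T ^ n = T ^ k * T ^ j * T := by rw [hj, pow_succ, pow_add]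
        have hTn1 : T ^ (n - 1) = T ^ k * T ^ j := by
          rw [show n - 1 = k + j by omega, pow_add]
        have hz' : z ^ p =
            (algebraMap (PowerSeries K) F (C r)) ^ p / (T ^ k * T ^ j * T) := by
          rw [hz, div_pow, ← hTn, hTn']
        rw [hz', hTn1, hTn', hα, ha₃, map_add, map_mul, map_pow, hTX, hz]
        exact field_id T (T ^ k) (T ^ j) _ _ _ hT (pow_ne_zero _ hT) (pow_ne_zero _ hT)
      obtain ⟨y₂, hy₂⟩ := ih (n - 1) (by omega) a₃
      have e : algebraMap (PowerSeries K) F a / T ^ n + (y₂ - z) ^ p - (y₂ - z) =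
          algebraMap (PowerSeries K) F a₃ / T ^ (n - 1) + y₂ ^ p - y₂ := by
        rw [sub_pow_char]
        linear_combination hkey
      exact ⟨y₂ - z, by rw [e]; exact hy₂⟩
    · exact ⟨0, Or.inr ⟨n, a, hnpos, hpn, h0, by
        rw [zero_pow hp.out.ne_zero, add_zero, sub_zero]⟩⟩

/-- Pole reduction: every `β` in the fraction field of `K⟦X⟧` (perfect `K` of char `p`) is,
modulo `y ↦ y^p - y`, either integral or of the form `a / X^m` with `a(0) ≠ 0`, `p ∤ m`. -/
theorem pole_reduce (p : ℕ) [hp : Fact p.Prime] (K : Type*) [Field K] [CharP K p]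
    [PerfectField K] {F : Type*} [Field F] [Algebra (PowerSeries K) F]
    [IsFractionRing (PowerSeries K) F] (β : F) :
    ∃ y : F, (∃ b : PowerSeries K, β + y ^ p - y = algebraMap (PowerSeries K) F b) ∨
      (∃ (m : ℕ) (a' : PowerSeries K), 0 < m ∧ ¬ p ∣ m ∧ constantCoeff a' ≠ 0 ∧
        β + y ^ p - y =
          algebraMap (PowerSeries K) F a' / algebraMap (PowerSeries K) F (X ^ m)) := by
  haveI : CharP F p := charP_of_injective_ringHom
    ((algebraMap (PowerSeries K) F).comp (PowerSeries.C (R := K))).injective p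
  have hT : algebraMap (PowerSeries K) F X ≠ 0 := fun h =>
    PowerSeries.X_ne_zero (IsFractionRing.injective (PowerSeries K) F (h.trans (map_zero _).symm))
  obtain ⟨a, n, rfl⟩ := exists_rep (K := K) β
  obtain ⟨y, hy⟩ := pole_reduce_aux p K _ hT rfl n a
  refine ⟨y, ?_⟩
  simp only [map_pow]
  exact hy

end Groth.Agent.H9.ASch
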