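import Mathlib

set_option autoImplicit false
universe u
attribute [local instance] FractionRing.liftAlgebra

namespace Groth.Agent.H9.ASch

open Polynomial

/-- If `E = Frac B` is generated over `F = Frac A` by a root of `x^p - x + b` with `b ∈ A` integral
(char `p`), then `B/A` is unramified everywhere; in particular no prime has ramification index
`p`. -/
theorem no_integral_case (p : ℕ) [hp : Fact p.Prime] (A : Type u) [CommRing A]
    [IsDedekindDomain A] (hpA : (p : A) = 0)
    (B : Type u) [CommRing B] [IsDedekindDomain B] [Algebra A B] [Module.Finite A B]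
    [Module.IsTorsionFree A B]
    [IsGalois (FractionRing A) (FractionRing B)]
    (hdeg : Module.finrank (FractionRing A) (FractionRing B) = p)
    (M : Ideal B) [M.IsMaximal] (hram : M.ramificationIdx A = p)
    (x : FractionRing B) (hx : IntermediateField.adjoin (FractionRing A) {x} = ⊤) (b : A)
    (h : x ^ p - x + algebraMap (FractionRing A) (FractionRing B)
      (algebraMap A (FractionRing A) b) = 0) : False := by
  have hp1 : 1 < p := hp.out.one_lt
  haveI : FiniteDimensional (FractionRing A) (FractionRing B) :=
    Module.finite_of_finrank_pos (by rw [hdeg]; exact hp.out.pos)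
  obtain ⟨q, hq⟩ : ∃ q : Polynomial A, q = X ^ p - X + C b := ⟨_, rfl⟩
  have hqm : q.Monic := by
    have : q = X ^ p - (X - C b) := by rw [hq]; ring
    rw [this]
    exact Polynomial.monic_X_pow_sub (by rw [degree_X_sub_C]; exact_mod_cast hp1)
  have hev : eval₂ (algebraMap A (FractionRing B)) x q = 0 := by
    rw [hq, eval₂_add, eval₂_sub, eval₂_pow, eval₂_X, eval₂_C,
      IsScalarTower.algebraMap_apply A (FractionRing A) (FractionRing B)]
    exact h
  have hxA : IsIntegral A x := ⟨q, hqm, hev⟩
  have hxB : IsIntegral B x := hxA.tower_top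
  obtain ⟨xB, hxB'⟩ := IsIntegrallyClosed.isIntegral_iff.mp hxB
  have hint : IsIntegral A xB := Algebra.IsIntegral.isIntegral xB
  have hq0 : aeval xB q = 0 := by
    apply IsFractionRing.injective B (FractionRing B)
    rw [map_zero, ← Polynomial.aeval_algebraMap_apply, hxB', Polynomial.aeval_def]
    exact hev
  obtain ⟨g, hg⟩ := minpoly.isIntegrallyClosed_dvd hint hq0
  have hpA' : (p : Polynomial A) = 0 := by
    rw [← map_natCast (C : A →+* Polynomial A), hpA, map_zero]
  have hd : derivative q = -1 := by
    rw [hq]
    simp [derivative_X_pow, hpA, hpA']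
  have h1 : aeval xB (derivative (minpoly A xB)) * aeval xB g = -1 := by
    have := congrArg (aeval xB) (congrArg derivative hg)
    rw [hd, derivative_mul, map_add, map_mul, map_mul, minpoly.aeval, zero_mul, add_zero,
      map_neg, map_one] at this
    exact this.symm
  have hadj : Algebra.adjoin (FractionRing A) {algebraMap B (FractionRing B) xB} = ⊤ := by
    rw [hxB']
    exact (IntermediateField.adjoin_simple_eq_top_iff_of_isAlgebraic
      (Algebra.IsAlgebraic.isAlgebraic x)).mp hx
  have hmem := aeval_derivative_mem_differentIdeal A (FractionRing A) (FractionRing B) xB hadj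
  have htop : differentIdeal A B = ⊤ := by
    rw [Ideal.eq_top_iff_one]
    have h2 := Ideal.mul_mem_right (aeval xB g) _ hmem
    rw [h1] at h2
    have h3 := (differentIdeal A B).neg_mem h2
    rwa [neg_neg] at h3
  have hnd : ¬ M ∣ differentIdeal A B := by
    rw [htop, Ideal.dvd_iff_le]
    intro hle
    exact (Ideal.IsMaximal.ne_top inferInstance) (top_le_iff.mp hle)
  haveI : Algebra.IsUnramifiedAt A M := not_dvd_differentIdeal_iff.mp hnd
  have he := Ideal.ramificationIdx_eq_one M A
  rw [hram] at he
  omega

end Groth.Agent.H9.ASch
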