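import Mathlib
set_option autoImplicit false
set_option linter.style.haveILetI false
set_option linter.unusedSectionVars false
set_option linter.unusedVariables false

namespace Groth.Agent.H9.AVD

open scoped Classical in
/-- Simultaneous avoidance of all primes over `𝔭` in an integral extension, for a set `S` of
"sections extendable after multiplying by a power". -/
theorem exists_avoid {B D : Type*} [CommRing B] [CommRing D] [Algebra B D] [Algebra.IsIntegral B D]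
    (𝔭 : Ideal B) [𝔭.IsPrime] (S : AddSubmonoid D)
    (hS : ∀ s ∈ S, ∀ d : D, ∃ N : ℕ, s ^ N * d ∈ S)
    (hspan : Ideal.span (S : Set D) = ⊤) :
    ∃ s ∈ S, ∀ 𝔮 : Ideal D, 𝔮.IsPrime → 𝔮.comap (algebraMap B D) = 𝔭 → s ∉ 𝔮 := by
  have h1 : (1 : D) ∈ Ideal.span (S : Set D) := hspan ▸ Submodule.mem_top
  obtain ⟨S₀, hS₀, h1'⟩ := Submodule.mem_span_finite_of_mem_span h1
  obtain ⟨f, -, hf⟩ := Submodule.mem_span_finset.mp h1'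
  let G : Finset D := S₀ ∪ S₀.image f
  let D' : Subalgebra B D := Algebra.adjoin B (G : Set D)
  haveI hfin : Module.Finite B D' :=
    Algebra.finite_adjoin_of_finite_of_isIntegral G.finite_toSet
      (fun x _ => Algebra.IsIntegral.isIntegral x)
  have hT : (𝔭.primesOver D').Finite := Algebra.QuasiFinite.finite_primesOver 𝔭
  have hmemS₀ : ∀ s ∈ S₀, s ∈ D' := fun s hs =>
    Algebra.subset_adjoin (by simp [G, hs])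
  have hmemf : ∀ s ∈ S₀, f s ∈ D' := fun s hs =>
    Algebra.subset_adjoin (by
      simp only [G, Finset.coe_union, Finset.coe_image, Set.mem_union, Set.mem_image]
      exact Or.inr ⟨s, hs, rfl⟩)
  -- for each prime in `T`, an element of `S₀` avoiding it
  have hpick : ∀ 𝔮' ∈ 𝔭.primesOver D', ∃ s : D', (s : D) ∈ S₀ ∧ s ∉ 𝔮' := by
    intro 𝔮' h𝔮'
    haveI := h𝔮'.1
    by_contra hcon
    push Not at hcon
    have : (1 : D') ∈ 𝔮' := by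
      have h1D' : (1 : D') = ∑ a ∈ S₀.attach, (⟨f a.1, hmemf a.1 a.2⟩ : D') * ⟨a.1, hmemS₀ a.1 a.2⟩ := by
        apply Subtype.ext
        rw [← Finset.sum_attach] at hf
        simp only [smul_eq_mul] at hf
        simp [hf]
      rw [h1D']
      exact Ideal.sum_mem _ fun a _ => Ideal.mul_mem_left _ _ (hcon ⟨a.1, hmemS₀ a.1 a.2⟩ a.2)
    exact h𝔮'.1.ne_top ((Ideal.eq_top_iff_one _).mpr this)
  choose! sel hsel₁ hsel₂ using hpick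
  -- incomparability
  have hinc : ∀ 𝔮₁ ∈ 𝔭.primesOver D', ∀ 𝔮₂ ∈ 𝔭.primesOver D', 𝔮₁ ≠ 𝔮₂ →
      ∃ e : D', e ∈ 𝔮₂ ∧ e ∉ 𝔮₁ := by
    intro 𝔮₁ h₁ 𝔮₂ h₂ hne
    by_contra hcon
    push Not at hcon
    have hle : 𝔮₂ ≤ 𝔮₁ := fun e he => hcon e he
    haveI := h₂.1
    have hlt : 𝔮₂ < 𝔮₁ := lt_of_le_of_ne hle (Ne.symm hne)
    have := Ideal.IsIntegral.comap_lt_comap (R := B) hlt
    have e₁ : 𝔮₁.comap (algebraMap B D') = 𝔭 := (h₁.2.over).symm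
    have e₂ : 𝔮₂.comap (algebraMap B D') = 𝔭 := (h₂.2.over).symm
    rw [e₁, e₂] at this
    exact lt_irrefl _ this
  choose! e he₁ he₂ using hinc
  let T : Finset (Ideal D') := hT.toFinset
  have hTmem : ∀ 𝔮', 𝔮' ∈ T ↔ 𝔮' ∈ 𝔭.primesOver D' := fun 𝔮' => hT.mem_toFinset
  let δ : Ideal D' → D' := fun 𝔮' => ∏ 𝔮'' ∈ T.erase 𝔮', e 𝔮' 𝔮''
  have hδ₁ : ∀ 𝔮' ∈ T, δ 𝔮' ∉ 𝔮' := by
    intro 𝔮' h𝔮'
    have hp := (hTmem _).mp h𝔮'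
    haveI := hp.1
    intro hmem
    obtain ⟨𝔮'', h'', hmem'⟩ := Ideal.IsPrime.prod_mem_iff.mp hmem
    rw [Finset.mem_erase] at h''
    exact he₂ 𝔮' hp 𝔮'' ((hTmem _).mp h''.2) (Ne.symm h''.1) hmem'
  have hδ₂ : ∀ 𝔮' ∈ T, ∀ 𝔮'' ∈ T, 𝔮' ≠ 𝔮'' → δ 𝔮' ∈ 𝔮'' := by
    intro 𝔮' h𝔮' 𝔮'' h𝔮'' hne
    exact Ideal.prod_mem (f := fun 𝔮'' => e 𝔮' 𝔮'') _ (Finset.mem_erase.mpr ⟨Ne.symm hne, h𝔮''⟩)
      (he₁ 𝔮' ((hTmem _).mp h𝔮') 𝔮'' ((hTmem _).mp h𝔮'') hne)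
  have hN : ∀ 𝔮' ∈ T, ∃ N : ℕ, ((sel 𝔮' : D') : D) ^ N * ((δ 𝔮' : D') : D) ∈ S := by
    intro 𝔮' h𝔮'
    exact hS _ (hS₀ (hsel₁ 𝔮' ((hTmem _).mp h𝔮'))) _
  choose! N hN using hN
  let s' : D' := ∑ 𝔮' ∈ T, sel 𝔮' ^ N 𝔮' * δ 𝔮'
  refine ⟨(s' : D), ?_, ?_⟩
  · have : (s' : D) = ∑ 𝔮' ∈ T, ((sel 𝔮' : D') : D) ^ N 𝔮' * ((δ 𝔮' : D') : D) := by
      simp [s']
    rw [this]
    exact AddSubmonoid.sum_mem _ fun 𝔮' h => hN 𝔮' h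
  · intro 𝔮 h𝔮 hcomap hmem
    let 𝔮₀ : Ideal D' := 𝔮.comap (algebraMap D' D)
    haveI : 𝔮₀.IsPrime := Ideal.comap_isPrime _ _
    have h𝔮₀ : 𝔮₀ ∈ 𝔭.primesOver D' := by
      refine ⟨inferInstance, ⟨?_⟩⟩
      rw [← hcomap]
      rfl
    have h𝔮₀T : 𝔮₀ ∈ T := (hTmem _).mpr h𝔮₀
    have hs'mem : s' ∈ 𝔮₀ := hmem
    have hsplit : s' = sel 𝔮₀ ^ N 𝔮₀ * δ 𝔮₀ + ∑ 𝔮' ∈ T.erase 𝔮₀, sel 𝔮' ^ N 𝔮' * δ 𝔮' := by
      simp only [s']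
      exact (Finset.add_sum_erase T (fun 𝔮' => sel 𝔮' ^ N 𝔮' * δ 𝔮') h𝔮₀T).symm
    have hrest : ∑ 𝔮' ∈ T.erase 𝔮₀, sel 𝔮' ^ N 𝔮' * δ 𝔮' ∈ 𝔮₀ := by
      refine Ideal.sum_mem _ fun 𝔮' h' => Ideal.mul_mem_left _ _ ?_
      rw [Finset.mem_erase] at h'
      exact hδ₂ 𝔮' h'.2 𝔮₀ h𝔮₀T h'.1
    have hmain : sel 𝔮₀ ^ N 𝔮₀ * δ 𝔮₀ ∈ 𝔮₀ := by
      have := hs'mem
      rw [hsplit] at this
      exact (Ideal.add_mem_iff_left _ hrest).mp this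
    rcases Ideal.IsPrime.mem_or_mem inferInstance hmain with h | h
    · exact hsel₂ 𝔮₀ h𝔮₀ (Ideal.IsPrime.mem_of_pow_mem inferInstance _ h)
    · exact hδ₁ 𝔮₀ h𝔮₀T h

end Groth.Agent.H9.AVD
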