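import Groth.Agent.Lib.Helper9.Misc.PIN1

set_option linter.style.haveILetI false
set_option linter.unusedSectionVars false
set_option linter.unusedVariables false

namespace Groth.Agent.H9.PIN

open AlgebraicGeometry CategoryTheory Limits TopologicalSpace Opposite

universe u

variable {X Y Z P : Scheme.{u}}

section Res

theorem res_res {O₁ O₂ O₃ : X.Opens} (h₁ : O₂ ≤ O₁) (h₂ : O₃ ≤ O₂) (s : Γ(X, O₁)) :
    X.presheaf.map (homOfLE h₂).op (X.presheaf.map (homOfLE h₁).op s) =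
      X.presheaf.map (homOfLE (h₂.trans h₁)).op s := by
  rw [← ConcreteCategory.comp_apply, ← Functor.map_comp]
  rfl

theorem app_res (a : X ⟶ P) {W D : P.Opens} (h : D ≤ W) (s : Γ(P, W)) :
    a.app D (P.presheaf.map (homOfLE h).op s) =
      X.presheaf.map (homOfLE (a.preimage_mono h)).op (a.app W s) := by
  have := a.naturality (homOfLE h).op
  exact congr($this s)

theorem appLE_res (a : X ⟶ P) {W D : P.Opens} (h : D ≤ W) {U U' : X.Opens}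
    (e : U ≤ a ⁻¹ᵁ W) (e' : U' ≤ a ⁻¹ᵁ D) (hU : U' ≤ U) (s : Γ(P, W)) :
    a.appLE D U' e' (P.presheaf.map (homOfLE h).op s) =
      X.presheaf.map (homOfLE hU).op (a.appLE W U e s) := by
  have h1 := Scheme.Hom.map_appLE a e' (homOfLE h).op
  have h2 := Scheme.Hom.appLE_map a e (homOfLE hU).op
  rw [← ConcreteCategory.comp_apply, ← ConcreteCategory.comp_apply, h1, h2]

theorem le_iSup_basis {𝔅 : Set P.Opens} (hB : Opens.IsBasis 𝔅) (W : P.Opens) :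
    W ≤ ⨆ D : {D : P.Opens // D ∈ 𝔅 ∧ D ≤ W}, D.1 := by
  intro x hx
  obtain ⟨D, hD, hxD, hDW⟩ := Opens.isBasis_iff_nbhd.mp hB hx
  exact Opens.mem_iSup.mpr ⟨⟨D, hD, hDW⟩, hxD⟩

end Res

section Basis

variable {i : Z ⟶ X} {j : Z ⟶ Y} {a : X ⟶ P} {b : Y ⟶ P}

theorem inj_of_basis {𝔅 : Set P.Opens} (hB : Opens.IsBasis 𝔅)
    (h𝔅 : ∀ D ∈ 𝔅, ∀ s : Γ(P, D), a.app D s = 0 → b.app D s = 0 → s = 0) (W : P.Opens)
    (s : Γ(P, W)) (ha : a.app W s = 0) (hb : b.app W s = 0) : s = 0 := by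
  refine P.sheaf.eq_of_locally_eq' (fun D : {D : P.Opens // D ∈ 𝔅 ∧ D ≤ W} => D.1) W
    (fun D => homOfLE D.2.2) (le_iSup_basis hB W) s 0 ?_
  intro D
  change P.presheaf.map (homOfLE D.2.2).op s = P.presheaf.map (homOfLE D.2.2).op 0
  rw [map_zero]
  refine h𝔅 D.1 D.2.1 _ ?_ ?_
  · rw [app_res, ha, map_zero]
  · rw [app_res, hb, map_zero]

theorem pinchAt_of_basis (w : i ≫ a = j ≫ b) {𝔅 : Set P.Opens} (hB : Opens.IsBasis 𝔅)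
    (h𝔅 : ∀ D ∈ 𝔅, PinchAt i j a b D) (W : P.Opens) : PinchAt i j a b W := by
  have hinj : ∀ (W : P.Opens) (s : Γ(P, W)), a.app W s = 0 → b.app W s = 0 → s = 0 :=
    fun W => inj_of_basis hB (fun D hD => (h𝔅 D hD).inj) W
  have huniq : ∀ (W : P.Opens) (s t : Γ(P, W)), a.app W s = a.app W t → b.app W s = b.app W t →
      s = t := by
    intro W s t h1 h2
    refine sub_eq_zero.mp (hinj W _ ?_ ?_)
    · rw [map_sub, h1, sub_self]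
    · rw [map_sub, h2, sub_self]
  have hle : ∀ W : P.Opens, i ⁻¹ᵁ a ⁻¹ᵁ W ≤ j ⁻¹ᵁ b ⁻¹ᵁ W := by
    intro W
    rw [← Scheme.Hom.comp_preimage, ← Scheme.Hom.comp_preimage, w]
  refine ⟨hinj W, ?_⟩
  intro e sX sY hcompat
  let ι := {D : P.Opens // D ∈ 𝔅 ∧ D ≤ W}
  have hloc : ∀ D : ι, ∃ s : Γ(P, D.1),
      a.app D.1 s = X.presheaf.map (homOfLE (a.preimage_mono D.2.2)).op sX ∧
      b.app D.1 s = Y.presheaf.map (homOfLE (b.preimage_mono D.2.2)).op sY := by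
    intro D
    refine (h𝔅 D.1 D.2.1).glue (hle D.1) _ _ ?_
    have h1 := i.naturality (homOfLE (a.preimage_mono D.2.2)).op
    have h1' := congr($h1 sX)
    simp only [CommRingCat.comp_apply] at h1'
    rw [h1', hcompat]
    have h2 := appLE_res j (b.preimage_mono D.2.2) e (hle D.1)
      (i.preimage_mono (a.preimage_mono D.2.2)) sY
    rw [h2]
    rfl
  choose sf hsfa hsfb using hloc
  have hcomp : TopCat.Presheaf.IsCompatible P.sheaf.1 (fun D : ι => D.1) sf := by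
    intro D D'
    change P.presheaf.map (homOfLE inf_le_left).op (sf D) =
      P.presheaf.map (homOfLE inf_le_right).op (sf D')
    refine huniq _ _ _ ?_ ?_
    · rw [app_res, app_res, hsfa, hsfa, res_res, res_res]
    · rw [app_res, app_res, hsfb, hsfb, res_res, res_res]
  obtain ⟨s, hs, -⟩ := P.sheaf.existsUnique_gluing' (fun D : ι => D.1) W
    (fun D => homOfLE D.2.2) (le_iSup_basis hB W) sf hcomp
  have hs' : ∀ D : ι, P.presheaf.map (homOfLE D.2.2).op s = sf D := hs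
  refine ⟨s, ?_, ?_⟩
  · refine X.sheaf.eq_of_locally_eq' (fun D : ι => a ⁻¹ᵁ D.1) (a ⁻¹ᵁ W)
      (fun D => homOfLE (a.preimage_mono D.2.2)) ?_ _ _ ?_
    · intro x hx
      have := le_iSup_basis hB W hx
      rw [Opens.mem_iSup] at this ⊢
      exact this
    · intro D
      change X.presheaf.map (homOfLE (a.preimage_mono D.2.2)).op (a.app W s) =
        X.presheaf.map (homOfLE (a.preimage_mono D.2.2)).op sX
      rw [← app_res a D.2.2, hs', hsfa]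
  · refine Y.sheaf.eq_of_locally_eq' (fun D : ι => b ⁻¹ᵁ D.1) (b ⁻¹ᵁ W)
      (fun D => homOfLE (b.preimage_mono D.2.2)) ?_ _ _ ?_
    · intro x hx
      have := le_iSup_basis hB W hx
      rw [Opens.mem_iSup] at this ⊢
      exact this
    · intro D
      change Y.presheaf.map (homOfLE (b.preimage_mono D.2.2)).op (b.app W s) =
        Y.presheaf.map (homOfLE (b.preimage_mono D.2.2)).op sY
      rw [← app_res b D.2.2, hs', hsfb]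

end Basis

section Alg

/-- a commutative square of maps of pointed sets which is "cartesian": `A = B ×_D C`. -/
def SqCart {A B C D : Type*} [Zero A] [Zero B] [Zero C] (α : A → B) (β : A → C) (γ : B → D)
    (δ : C → D) : Prop :=
  (∀ s, α s = 0 → β s = 0 → s = 0) ∧ (∀ x y, γ x = δ y → ∃ s, α s = x ∧ β s = y)

theorem sqCart_iff {A B C D A' B' C' D' : Type*} [Zero A] [Zero B] [Zero C] [Zero A'] [Zero B']
    [Zero C'] {α : A → B} {β : A → C} {γ : B → D} {δ : C → D}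
    {α' : A' → B'} {β' : A' → C'} {γ' : B' → D'} {δ' : C' → D'}
    (ρP : A → A') (ρX : B → B') (ρY : C → C') (ρZ : D → D')
    (hP : Function.Bijective ρP) (hX : Function.Bijective ρX) (hY : Function.Bijective ρY)
    (hZ : Function.Injective ρZ) (h0P : ρP 0 = 0) (h0X : ρX 0 = 0) (h0Y : ρY 0 = 0)
    (c1 : ∀ s, ρX (α s) = α' (ρP s)) (c2 : ∀ s, ρY (β s) = β' (ρP s))
    (c3 : ∀ x, ρZ (γ x) = γ' (ρX x)) (c4 : ∀ y, ρZ (δ y) = δ' (ρY y)) :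
    SqCart α β γ δ ↔ SqCart α' β' γ' δ' := by
  constructor
  · rintro ⟨h1, h2⟩
    refine ⟨fun s' ha hb => ?_, fun x' y' hxy => ?_⟩
    · obtain ⟨s, rfl⟩ := hP.2 s'
      rw [← c1, ← h0X] at ha
      rw [← c2, ← h0Y] at hb
      rw [h1 s (hX.1 ha) (hY.1 hb), h0P]
    · obtain ⟨x, rfl⟩ := hX.2 x'
      obtain ⟨y, rfl⟩ := hY.2 y'
      rw [← c3, ← c4] at hxy
      obtain ⟨s, hs1, hs2⟩ := h2 x y (hZ hxy)
      exact ⟨ρP s, by rw [← c1, hs1], by rw [← c2, hs2]⟩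
  · rintro ⟨h1, h2⟩
    refine ⟨fun s ha hb => ?_, fun x y hxy => ?_⟩
    · apply hP.1
      rw [h0P]
      refine h1 _ ?_ ?_
      · rw [← c1, ha, h0X]
      · rw [← c2, hb, h0Y]
    · obtain ⟨s', hs1, hs2⟩ := h2 (ρX x) (ρY y) (by rw [← c3, ← c4, hxy])
      obtain ⟨s, rfl⟩ := hP.2 s'
      exact ⟨s, hX.1 (by rw [c1, hs1]), hY.1 (by rw [c2, hs2])⟩

end Alg

variable {X Y Z P : Scheme.{u}}

section Transfer

variable {i : Z ⟶ X} {j : Z ⟶ Y} {a : X ⟶ P} {b : Y ⟶ P}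

theorem pinchAt_iff_sqCart (W : P.Opens) (e : i ⁻¹ᵁ a ⁻¹ᵁ W ≤ j ⁻¹ᵁ b ⁻¹ᵁ W) :
    PinchAt i j a b W ↔ SqCart (fun s => a.app W s) (fun s => b.app W s)
      (fun s => i.app (a ⁻¹ᵁ W) s) (fun s => j.appLE (b ⁻¹ᵁ W) (i ⁻¹ᵁ a ⁻¹ᵁ W) e s) :=
  ⟨fun h => ⟨h.inj, fun x y hxy => h.glue e x y hxy⟩,
    fun h => ⟨h.1, fun e' x y hxy => h.2 x y hxy⟩⟩

theorem appLE_bijective_of_image_eq {X Y : Scheme.{u}} (f : X ⟶ Y) [IsOpenImmersion f]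
    (U : Y.Opens) (V : X.Opens) (h : f ''ᵁ V = U) (e : V ≤ f ⁻¹ᵁ U) :
    Function.Bijective (f.appLE U V e) := by
  subst h
  have := Scheme.Hom.appIso_hom' f V
  rw [← this]
  exact ConcreteCategory.bijective_of_isIso _

variable {X₁ Y₁ Z₁ P₁ : Scheme.{u}} {i₁ : Z₁ ⟶ X₁} {j₁ : Z₁ ⟶ Y₁} {a₁ : X₁ ⟶ P₁} {b₁ : Y₁ ⟶ P₁}
  {n : Z₁ ⟶ Z} {u : X₁ ⟶ X} {v : Y₁ ⟶ Y} {w : P₁ ⟶ P}

/-- the data of an "open sub-square" of a commutative square. -/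
structure IsOpenSubSquare (i : Z ⟶ X) (j : Z ⟶ Y) (a : X ⟶ P) (b : Y ⟶ P)
    (i₁ : Z₁ ⟶ X₁) (j₁ : Z₁ ⟶ Y₁) (a₁ : X₁ ⟶ P₁) (b₁ : Y₁ ⟶ P₁)
    (n : Z₁ ⟶ Z) (u : X₁ ⟶ X) (v : Y₁ ⟶ Y) (w : P₁ ⟶ P) : Prop where
  hn : IsOpenImmersion n
  hu : IsOpenImmersion u
  hv : IsOpenImmersion v
  hw : IsOpenImmersion w
  sq : i ≫ a = j ≫ b
  sq₁ : i₁ ≫ a₁ = j₁ ≫ b₁
  hi : i₁ ≫ u = n ≫ i
  hj : j₁ ≫ v = n ≫ j
  ha : a₁ ≫ w = u ≫ a
  hb : b₁ ≫ w = v ≫ b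
  cu : ∀ x, a x ∈ Set.range w → x ∈ Set.range u
  cv : ∀ y, b y ∈ Set.range w → y ∈ Set.range v
  cn : ∀ z, i z ∈ Set.range u → z ∈ Set.range n

namespace IsOpenSubSquare

variable (h : IsOpenSubSquare i j a b i₁ j₁ a₁ b₁ n u v w)

theorem image_preimage_gen {X₁ X P₁ P : Scheme.{u}} (a : X ⟶ P) (a₁ : X₁ ⟶ P₁) (u : X₁ ⟶ X)
    (w : P₁ ⟶ P) [IsOpenImmersion u] [IsOpenImmersion w] (ha : a₁ ≫ w = u ≫ a)
    (cu : ∀ x, a x ∈ Set.range w → x ∈ Set.range u) (D₁ : P₁.Opens) :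
    u ''ᵁ (a₁ ⁻¹ᵁ D₁) = a ⁻¹ᵁ (w ''ᵁ D₁) := by
  have hwa : ∀ x₁, w (a₁ x₁) = a (u x₁) := fun x₁ => by
    rw [← Scheme.Hom.comp_apply, ha, Scheme.Hom.comp_apply]
  apply Opens.ext
  ext x
  simp only [Scheme.Hom.coe_image, Scheme.Hom.coe_preimage, Set.mem_image, Set.mem_preimage,
    SetLike.mem_coe]
  constructor
  · rintro ⟨x₁, hx₁, rfl⟩
    exact ⟨a₁ x₁, hx₁, hwa x₁⟩
  · rintro ⟨d, hd, hdx⟩
    obtain ⟨x₁, rfl⟩ := cu x ⟨d, hdx⟩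
    refine ⟨x₁, ?_, rfl⟩
    have : w (a₁ x₁) = w d := by rw [hdx, hwa]
    have := w.isOpenEmbedding.injective this
    rw [this]; exact hd

include h in
theorem image_preimage_a (D₁ : P₁.Opens) :
    haveI := h.hu; haveI := h.hw
    u ''ᵁ (a₁ ⁻¹ᵁ D₁) = a ⁻¹ᵁ (w ''ᵁ D₁) :=
  haveI := h.hu; haveI := h.hw
  image_preimage_gen a a₁ u w h.ha h.cu D₁

include h in
theorem image_preimage_b (D₁ : P₁.Opens) :
    haveI := h.hv; haveI := h.hw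
    v ''ᵁ (b₁ ⁻¹ᵁ D₁) = b ⁻¹ᵁ (w ''ᵁ D₁) :=
  haveI := h.hv; haveI := h.hw
  image_preimage_gen b b₁ v w h.hb h.cv D₁

include h in
theorem image_preimage_i (U₁ : X₁.Opens) :
    haveI := h.hu; haveI := h.hn
    n ''ᵁ (i₁ ⁻¹ᵁ U₁) = i ⁻¹ᵁ (u ''ᵁ U₁) :=
  haveI := h.hu; haveI := h.hn
  image_preimage_gen i i₁ n u h.hi h.cn U₁

include h in
theorem pinchAt_image_iff (D₁ : P₁.Opens) :
    haveI := h.hw
    PinchAt i j a b (w ''ᵁ D₁) ↔ PinchAt i₁ j₁ a₁ b₁ D₁ := by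
  haveI := h.hu; haveI := h.hw; haveI := h.hv; haveI := h.hn
  have e : i ⁻¹ᵁ a ⁻¹ᵁ (w ''ᵁ D₁) ≤ j ⁻¹ᵁ b ⁻¹ᵁ (w ''ᵁ D₁) := by
    rw [← Scheme.Hom.comp_preimage, ← Scheme.Hom.comp_preimage, h.sq]
  have e₁ : i₁ ⁻¹ᵁ a₁ ⁻¹ᵁ D₁ ≤ j₁ ⁻¹ᵁ b₁ ⁻¹ᵁ D₁ := by
    rw [← Scheme.Hom.comp_preimage, ← Scheme.Hom.comp_preimage, h.sq₁]
  rw [pinchAt_iff_sqCart _ e, pinchAt_iff_sqCart _ e₁]
  have hP : D₁ ≤ w ⁻¹ᵁ (w ''ᵁ D₁) := (Scheme.Hom.preimage_image_eq w D₁).ge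
  have hXeq := h.image_preimage_a D₁
  have hYeq := h.image_preimage_b D₁
  have hZeq : n ''ᵁ (i₁ ⁻¹ᵁ a₁ ⁻¹ᵁ D₁) = i ⁻¹ᵁ a ⁻¹ᵁ (w ''ᵁ D₁) := by
    rw [h.image_preimage_i, hXeq]
  have hX : a₁ ⁻¹ᵁ D₁ ≤ u ⁻¹ᵁ (a ⁻¹ᵁ (w ''ᵁ D₁)) := by
    rw [← hXeq]; exact (Scheme.Hom.preimage_image_eq u _).ge
  have hY : b₁ ⁻¹ᵁ D₁ ≤ v ⁻¹ᵁ (b ⁻¹ᵁ (w ''ᵁ D₁)) := by
    rw [← hYeq]; exact (Scheme.Hom.preimage_image_eq v _).ge
  have hZ : i₁ ⁻¹ᵁ a₁ ⁻¹ᵁ D₁ ≤ n ⁻¹ᵁ (i ⁻¹ᵁ a ⁻¹ᵁ (w ''ᵁ D₁)) := by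
    rw [← hZeq]; exact (Scheme.Hom.preimage_image_eq n _).ge
  refine sqCart_iff (fun s => w.appLE _ _ hP s) (fun s => u.appLE _ _ hX s)
    (fun s => v.appLE _ _ hY s) (fun s => n.appLE _ _ hZ s)
    (appLE_bijective_of_image_eq w _ _ rfl hP) (appLE_bijective_of_image_eq u _ _ hXeq hX)
    (appLE_bijective_of_image_eq v _ _ hYeq hY) (appLE_bijective_of_image_eq n _ _ hZeq hZ).1
    (map_zero _) (map_zero _) (map_zero _) ?_ ?_ ?_ ?_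
  · intro s
    change (a.app _ ≫ u.appLE _ _ hX) s = (w.appLE _ _ hP ≫ a₁.app _) s
    congr 2
    rw [Scheme.Hom.app_eq_appLE, Scheme.Hom.app_eq_appLE, Scheme.Hom.appLE_comp_appLE,
      Scheme.Hom.appLE_comp_appLE]
    exact appLE_congr_hom h.ha.symm _ _ _ _
  · intro s
    change (b.app _ ≫ v.appLE _ _ hY) s = (w.appLE _ _ hP ≫ b₁.app _) s
    congr 2
    rw [Scheme.Hom.app_eq_appLE, Scheme.Hom.app_eq_appLE, Scheme.Hom.appLE_comp_appLE,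
      Scheme.Hom.appLE_comp_appLE]
    exact appLE_congr_hom h.hb.symm _ _ _ _
  · intro s
    change (i.app _ ≫ n.appLE _ _ hZ) s = (u.appLE _ _ hX ≫ i₁.app _) s
    congr 2
    rw [Scheme.Hom.app_eq_appLE, Scheme.Hom.app_eq_appLE, Scheme.Hom.appLE_comp_appLE,
      Scheme.Hom.appLE_comp_appLE]
    exact appLE_congr_hom h.hi.symm _ _ _ _
  · intro s
    change (j.appLE _ _ e ≫ n.appLE _ _ hZ) s = (v.appLE _ _ hY ≫ j₁.appLE _ _ e₁) s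
    congr 2
    rw [Scheme.Hom.appLE_comp_appLE, Scheme.Hom.appLE_comp_appLE]
    exact appLE_congr_hom h.hj.symm _ _ _ _

end IsOpenSubSquare

end Transfer

section Transfer2

variable {i : Z ⟶ X} {j : Z ⟶ Y} {a : X ⟶ P} {b : Y ⟶ P}
variable {X₁ Y₁ Z₁ P₁ : Scheme.{u}} {i₁ : Z₁ ⟶ X₁} {j₁ : Z₁ ⟶ Y₁} {a₁ : X₁ ⟶ P₁} {b₁ : Y₁ ⟶ P₁}
  {n : Z₁ ⟶ Z} {u : X₁ ⟶ X} {v : Y₁ ⟶ Y} {w : P₁ ⟶ P}

namespace IsOpenSubSquare

variable (h : IsOpenSubSquare i j a b i₁ j₁ a₁ b₁ n u v w)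

include h in
theorem w_a (x₁ : X₁) : w (a₁ x₁) = a (u x₁) := by
  rw [← Scheme.Hom.comp_apply, h.ha, Scheme.Hom.comp_apply]

include h in
theorem w_b (y₁ : Y₁) : w (b₁ y₁) = b (v y₁) := by
  rw [← Scheme.Hom.comp_apply, h.hb, Scheme.Hom.comp_apply]

include h in
theorem cn' (z : Z) (hz : j z ∈ Set.range v) : z ∈ Set.range n := by
  obtain ⟨y₁, hy₁⟩ := hz
  refine h.cn z (h.cu _ ⟨b₁ y₁, ?_⟩)
  rw [h.w_b, hy₁, ← Scheme.Hom.comp_apply, ← Scheme.Hom.comp_apply, h.sq]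

include h in
theorem image_preimage_j (V₁ : Y₁.Opens) :
    haveI := h.hv; haveI := h.hn
    n ''ᵁ (j₁ ⁻¹ᵁ V₁) = j ⁻¹ᵁ (v ''ᵁ V₁) :=
  haveI := h.hv; haveI := h.hn
  image_preimage_gen j j₁ n v h.hj h.cn' V₁

include h in
/-- restriction of a pinching to an open sub-square. -/
theorem isPinch (hp : IsPinch i j a b) : IsPinch i₁ j₁ a₁ b₁ := by
  haveI := h.hu; haveI := h.hw; haveI := h.hv; haveI := h.hn
  refine ⟨h.sq₁, ?_, ?_, ?_⟩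
  · intro p₁
    rcases hp.surj (w p₁) with ⟨x, hx⟩ | ⟨y, hy⟩
    · obtain ⟨x₁, rfl⟩ := h.cu x ⟨p₁, hx.symm⟩
      refine Or.inl ⟨x₁, w.isOpenEmbedding.injective ?_⟩
      rw [h.w_a, hx]
    · obtain ⟨y₁, rfl⟩ := h.cv y ⟨p₁, hy.symm⟩
      refine Or.inr ⟨y₁, w.isOpenEmbedding.injective ?_⟩
      rw [h.w_b, hy]
  · intro U₁ V₁ hUV
    obtain ⟨W, hWa, hWb⟩ := hp.exists_open (u ''ᵁ U₁) (v ''ᵁ V₁) (by
      rw [← h.image_preimage_i, ← h.image_preimage_j, hUV])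
    refine ⟨w ⁻¹ᵁ W, ?_, ?_⟩
    · rw [← Scheme.Hom.comp_preimage, h.ha, Scheme.Hom.comp_preimage, hWa,
        Scheme.Hom.preimage_image_eq]
    · rw [← Scheme.Hom.comp_preimage, h.hb, Scheme.Hom.comp_preimage, hWb,
        Scheme.Hom.preimage_image_eq]
  · intro D₁
    exact (h.pinchAt_image_iff D₁).mp (hp.pinchAt _)

end IsOpenSubSquare

/-- **Being a pinching is local on the target.** -/
theorem IsPinch.of_local (sq : i ≫ a = j ≫ b)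
    (charts : ∀ p : P, ∃ (Z₁ X₁ Y₁ P₁ : Scheme.{u}) (i₁ : Z₁ ⟶ X₁) (j₁ : Z₁ ⟶ Y₁) (a₁ : X₁ ⟶ P₁)
      (b₁ : Y₁ ⟶ P₁) (n : Z₁ ⟶ Z) (u : X₁ ⟶ X) (v : Y₁ ⟶ Y) (w : P₁ ⟶ P),
      IsOpenSubSquare i j a b i₁ j₁ a₁ b₁ n u v w ∧ IsPinch i₁ j₁ a₁ b₁ ∧ p ∈ Set.range w) :
    IsPinch i j a b := by
  choose Z₁ X₁ Y₁ P₁ i₁ j₁ a₁ b₁ n u v w hsq hpin hmem using charts
  have hu := fun p => (hsq p).hu
  have hv := fun p => (hsq p).hv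
  have hw := fun p => (hsq p).hw
  have hn := fun p => (hsq p).hn
  refine ⟨sq, ?_, ?_, ?_⟩
  · intro p
    obtain ⟨p₁, hp₁⟩ := hmem p
    rcases (hpin p).surj p₁ with ⟨x₁, hx₁⟩ | ⟨y₁, hy₁⟩
    · exact Or.inl ⟨u p x₁, by rw [← (hsq p).w_a x₁, hx₁, hp₁]⟩
    · exact Or.inr ⟨v p y₁, by rw [← (hsq p).w_b y₁, hy₁, hp₁]⟩
  · intro U V hUV
    have hloc : ∀ p : P, ∃ W₁ : (P₁ p).Opens, a₁ p ⁻¹ᵁ W₁ = u p ⁻¹ᵁ U ∧
        b₁ p ⁻¹ᵁ W₁ = v p ⁻¹ᵁ V := by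
      intro p
      refine (hpin p).exists_open _ _ ?_
      rw [← Scheme.Hom.comp_preimage, ← Scheme.Hom.comp_preimage, (hsq p).hi, (hsq p).hj,
        Scheme.Hom.comp_preimage, Scheme.Hom.comp_preimage, hUV]
    choose W₁ hW₁a hW₁b using hloc
    refine ⟨⨆ p, w p ''ᵁ W₁ p, ?_, ?_⟩
    · ext x
      simp only [Scheme.Hom.coe_preimage, Set.mem_preimage, SetLike.mem_coe, Opens.mem_iSup]
      constructor
      · rintro ⟨p, hp⟩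
        have : x ∈ a ⁻¹ᵁ (w p ''ᵁ W₁ p) := hp
        rw [← (hsq p).image_preimage_a, hW₁a] at this
        obtain ⟨x₁, hx₁, rfl⟩ := this
        exact hx₁
      · intro hx
        refine ⟨a x, ?_⟩
        obtain ⟨x₁, hx₁⟩ := (hsq (a x)).cu x (hmem (a x))
        have : x ∈ a ⁻¹ᵁ (w (a x) ''ᵁ W₁ (a x)) := by
          rw [← (hsq _).image_preimage_a, hW₁a]
          exact ⟨x₁, by change u (a x) x₁ ∈ U; rw [hx₁]; exact hx, hx₁⟩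
        exact this
    · ext y
      simp only [Scheme.Hom.coe_preimage, Set.mem_preimage, SetLike.mem_coe, Opens.mem_iSup]
      constructor
      · rintro ⟨p, hp⟩
        have : y ∈ b ⁻¹ᵁ (w p ''ᵁ W₁ p) := hp
        rw [← (hsq p).image_preimage_b, hW₁b] at this
        obtain ⟨y₁, hy₁, rfl⟩ := this
        exact hy₁
      · intro hy
        refine ⟨b y, ?_⟩
        obtain ⟨y₁, hy₁⟩ := (hsq (b y)).cv y (hmem (b y))
        have : y ∈ b ⁻¹ᵁ (w (b y) ''ᵁ W₁ (b y)) := by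
          rw [← (hsq _).image_preimage_b, hW₁b]
          exact ⟨y₁, by change v (b y) y₁ ∈ V; rw [hy₁]; exact hy, hy₁⟩
        exact this
  · refine pinchAt_of_basis sq (𝔅 := {D | ∃ (p : P) (D₁ : (P₁ p).Opens), D = w p ''ᵁ D₁}) ?_ ?_
    · rw [Opens.isBasis_iff_nbhd]
      intro W q hq
      obtain ⟨q₁, hq₁⟩ := hmem q
      refine ⟨w q ''ᵁ (w q ⁻¹ᵁ W), ⟨q, _, rfl⟩, ⟨q₁, ?_, hq₁⟩, ?_⟩
      · change w q q₁ ∈ W
        rw [hq₁]; exact hq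
      · exact Scheme.Hom.image_preimage_le _ _
    · rintro D ⟨p, D₁, rfl⟩
      exact ((hsq p).pinchAt_image_iff D₁).mpr ((hpin p).pinchAt D₁)

end Transfer2

end Groth.Agent.H9.PIN
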