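import Groth.Agent.Lib.Helper9.Misc.AVD1
import Groth.Agent.Lib.Helper9.Misc.PIN2
set_option autoImplicit false
set_option linter.style.haveILetI false
set_option linter.unusedSectionVars false
set_option linter.unusedVariables false

namespace Groth.Agent.H9.AVD

open AlgebraicGeometry CategoryTheory Limits TopologicalSpace
open Groth.Agent.H9.PIN

universe u

/-- closedness: if the fibre of `j` over `y` lies in an open `W`, so does the preimage of a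
neighbourhood of `y`. -/
theorem exists_open_of_fibre_subset {Z Y : Scheme.{u}} (j : Z ⟶ Y) [UniversallyClosed j] (y : Y)
    (W : Z.Opens) (hW : j ⁻¹' {y} ⊆ (W : Set Z)) : ∃ V' : Y.Opens, y ∈ V' ∧ j ⁻¹ᵁ V' ≤ W := by
  have hcl : IsClosed (j '' (W : Set Z)ᶜ) := j.isClosedMap _ W.isOpen.isClosed_compl
  refine ⟨⟨(j '' (W : Set Z)ᶜ)ᶜ, hcl.isOpen_compl⟩, ?_, ?_⟩
  · rintro ⟨z, hz, hzy⟩
    exact hz (hW hzy)
  · intro z hz
    by_contra hzW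
    exact hz ⟨z, hzW, rfl⟩

variable {Z : Scheme.{u}} {N₀ M₀ : Z.Opens}

/-- restrictions to `M₀` of the sections over `N₀` whose basic open lies in `M₀`. -/
def resSub (Z : Scheme.{u}) {N₀ M₀ : Z.Opens} (hMN : M₀ ≤ N₀) : AddSubmonoid Γ(Z, M₀) where
  carrier := {d | ∃ c : Γ(Z, N₀), Z.basicOpen c ≤ M₀ ∧ Z.presheaf.map (homOfLE hMN).op c = d}
  zero_mem' := ⟨0, by simp, map_zero _⟩
  add_mem' := by
    rintro _ _ ⟨c₁, h₁, rfl⟩ ⟨c₂, h₂, rfl⟩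
    exact ⟨c₁ + c₂, (Z.basicOpen_add_le c₁ c₂).trans (sup_le h₁ h₂), map_add _ _ _⟩

theorem mem_resSub {hMN : M₀ ≤ N₀} {d : Γ(Z, M₀)} :
    d ∈ resSub Z hMN ↔
      ∃ c : Γ(Z, N₀), Z.basicOpen c ≤ M₀ ∧ Z.presheaf.map (homOfLE hMN).op c = d := Iff.rfl

theorem span_resSub (hN₀ : IsAffineOpen N₀) (hM₀ : IsAffineOpen M₀) (hMN : M₀ ≤ N₀) :
    Ideal.span (resSub Z hMN : Set Γ(Z, M₀)) = ⊤ := by
  rw [← hM₀.self_le_iSup_basicOpen_iff]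
  intro z hz
  obtain ⟨c, hc₁, hc₂⟩ := hN₀.exists_basicOpen_le (V := M₀) ⟨z, hz⟩ (hMN hz)
  have hmem : Z.presheaf.map (homOfLE hMN).op c ∈ (resSub Z hMN : Set Γ(Z, M₀)) := ⟨c, hc₁, rfl⟩
  refine Opens.mem_iSup.mpr ⟨⟨_, hmem⟩, ?_⟩
  rw [Scheme.basicOpen_res]
  exact ⟨hz, hc₂⟩

theorem exists_extend (hN₀ : IsAffineOpen N₀) (hM₀ : IsAffineOpen M₀) (hMN : M₀ ≤ N₀)
    (c : Γ(Z, N₀)) (hc : Z.basicOpen c ≤ M₀) (d : Γ(Z, M₀)) :
    ∃ (n : ℕ) (c' : Γ(Z, N₀)), Z.basicOpen c' ≤ M₀ ∧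
      Z.presheaf.map (homOfLE hMN).op c' = (Z.presheaf.map (homOfLE hMN).op c) ^ (n + 1) * d := by
  have hHN : Z.basicOpen c ≤ N₀ := Z.basicOpen_le c
  haveI locN := hN₀.isLocalization_basicOpen c
  obtain ⟨⟨c'', ⟨_, n, rfl⟩⟩, hsurj⟩ := IsLocalization.surj (Submonoid.powers c)
    (Z.presheaf.map (homOfLE hc).op d)
  have hsurj' : Z.presheaf.map (homOfLE hc).op d * (Z.presheaf.map (homOfLE hHN).op c) ^ n =
      Z.presheaf.map (homOfLE hHN).op c'' := by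
    simpa [RingHom.algebraMap_toAlgebra] using hsurj
  have e : Z.basicOpen c = Z.basicOpen (Z.presheaf.map (homOfLE hMN).op c) := by
    rw [Scheme.basicOpen_res]
    exact (inf_eq_right.mpr hc).symm
  have locM := hM₀.isLocalization_of_eq_basicOpen (Z.presheaf.map (homOfLE hMN).op c)
    (homOfLE hc) e
  letI := (Z.presheaf.map (homOfLE hc).op).hom.toAlgebra
  have key : algebraMap Γ(Z, M₀) Γ(Z, Z.basicOpen c) (Z.presheaf.map (homOfLE hMN).op c'') =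
      algebraMap Γ(Z, M₀) Γ(Z, Z.basicOpen c) ((Z.presheaf.map (homOfLE hMN).op c) ^ n * d) := by
    simp only [RingHom.algebraMap_toAlgebra]
    change Z.presheaf.map (homOfLE hc).op (Z.presheaf.map (homOfLE hMN).op c'') =
      Z.presheaf.map (homOfLE hc).op ((Z.presheaf.map (homOfLE hMN).op c) ^ n * d)
    rw [map_mul, map_pow, res_res, res_res, ← hsurj', mul_comm]
  obtain ⟨⟨_, m, rfl⟩, hm⟩ := (IsLocalization.eq_iff_exists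
    (Submonoid.powers (Z.presheaf.map (homOfLE hMN).op c)) Γ(Z, Z.basicOpen c)).mp key
  refine ⟨m + n, c ^ (m + 1) * c'', ?_, ?_⟩
  · rw [Scheme.basicOpen_mul, Z.basicOpen_pow c (Nat.succ_pos m)]
    exact inf_le_left.trans hc
  · rw [map_mul, map_pow]
    simp only at hm
    calc (Z.presheaf.map (homOfLE hMN).op c) ^ (m + 1) * (Z.presheaf.map (homOfLE hMN).op c'')
        = (Z.presheaf.map (homOfLE hMN).op c) * ((Z.presheaf.map (homOfLE hMN).op c) ^ m *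
            (Z.presheaf.map (homOfLE hMN).op c'')) := by ring
      _ = (Z.presheaf.map (homOfLE hMN).op c) * ((Z.presheaf.map (homOfLE hMN).op c) ^ m *
            ((Z.presheaf.map (homOfLE hMN).op c) ^ n * d)) := by rw [hm]
      _ = _ := by ring

/-- points of the fibre over `y`, in terms of primes. -/
theorem fibre_subset_basicOpen {Z Y : Scheme.{u}} (j : Z ⟶ Y) {V₀ : Y.Opens}
    (hV₀ : IsAffineOpen V₀) {M₀ : Z.Opens} (hM₀ : IsAffineOpen M₀) (hM : M₀ = j ⁻¹ᵁ V₀)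
    (y : Y) (hy : y ∈ V₀) (s : Γ(Z, M₀))
    (hs : ∀ 𝔮 : Ideal Γ(Z, M₀), 𝔮.IsPrime →
      𝔮.comap (j.appLE V₀ M₀ hM.le).hom = (hV₀.primeIdealOf ⟨y, hy⟩).asIdeal → s ∉ 𝔮) :
    j ⁻¹' {y} ⊆ (Z.basicOpen s : Set Z) := by
  intro z hz
  have hzy : j z = y := hz
  have hzM : z ∈ M₀ := by
    rw [hM]
    change j z ∈ V₀
    rw [hzy]
    exact hy
  set 𝔮 := hM₀.primeIdealOf ⟨z, hzM⟩ with h𝔮
  have h1 : hM₀.fromSpec 𝔮 = z := hM₀.fromSpec_primeIdealOf ⟨z, hzM⟩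
  have h2 : hV₀.fromSpec (hV₀.primeIdealOf ⟨y, hy⟩) = y := hV₀.fromSpec_primeIdealOf ⟨y, hy⟩
  have h3 := IsAffineOpen.SpecMap_appLE_fromSpec j hV₀ hM₀ hM.le
  have h4 : hV₀.fromSpec (Spec.map (j.appLE V₀ M₀ hM.le) 𝔮) = j (hM₀.fromSpec 𝔮) := by
    rw [← Scheme.Hom.comp_apply, ← Scheme.Hom.comp_apply, h3]
  rw [h1, hzy, ← h2] at h4
  have h5 := hV₀.fromSpec.isOpenEmbedding.injective h4
  have h6 : 𝔮.asIdeal.comap (j.appLE V₀ M₀ hM.le).hom =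
      (hV₀.primeIdealOf ⟨y, hy⟩).asIdeal := congrArg PrimeSpectrum.asIdeal h5
  have h7 := hs 𝔮.asIdeal 𝔮.isPrime h6
  have h8 : 𝔮 ∈ (PrimeSpectrum.basicOpen s : Set _) := h7
  rw [← hM₀.fromSpec_preimage_basicOpen] at h8
  have h9 : hM₀.fromSpec 𝔮 ∈ Z.basicOpen s := h8
  rwa [h1] at h9

theorem exists_affine_pair {X Y Z : Scheme.{u}} (i : Z ⟶ X) [IsClosedImmersion i] (j : Z ⟶ Y)
    [IsIntegralHom j] (y : Y) (U₀ : X.Opens) (hU₀ : IsAffineOpen U₀)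
    (hfib : j ⁻¹' {y} ⊆ (i ⁻¹ᵁ U₀ : Set Z)) :
    ∃ (U : X.Opens) (V : Y.Opens), IsAffineOpen U ∧ IsAffineOpen V ∧ y ∈ V ∧
      i ⁻¹ᵁ U = j ⁻¹ᵁ V := by
  have hN₀ : IsAffineOpen (i ⁻¹ᵁ U₀) := hU₀.preimage i
  obtain ⟨V', hyV', hV'⟩ := exists_open_of_fibre_subset j y (i ⁻¹ᵁ U₀) hfib
  obtain ⟨_, ⟨V₀, hV₀, rfl⟩, hyV₀, hV₀V'⟩ :=
    Y.isBasis_affineOpens.exists_subset_of_mem_open hyV' V'.2
  have hV₀ : IsAffineOpen V₀ := hV₀
  have hM₀ : IsAffineOpen (j ⁻¹ᵁ V₀) := hV₀.preimage j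
  have hMN : j ⁻¹ᵁ V₀ ≤ i ⁻¹ᵁ U₀ := (j.preimage_mono (show V₀ ≤ V' from hV₀V')).trans hV'
  -- the algebra
  have hint : (j.appLE V₀ (j ⁻¹ᵁ V₀) le_rfl).hom.IsIntegral := by
    rw [← Scheme.Hom.app_eq_appLE]
    exact j.isIntegral_app V₀ hV₀
  letI := (j.appLE V₀ (j ⁻¹ᵁ V₀) le_rfl).hom.toAlgebra
  haveI : Algebra.IsIntegral Γ(Y, V₀) Γ(Z, j ⁻¹ᵁ V₀) := ⟨hint⟩
  haveI := (hV₀.primeIdealOf ⟨y, hyV₀⟩).isPrime
  obtain ⟨s, hsS, hs⟩ := exists_avoid (hV₀.primeIdealOf ⟨y, hyV₀⟩).asIdeal (resSub Z hMN)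
    (by
      rintro s ⟨c, hc, rfl⟩ d
      obtain ⟨n, c', hc', e⟩ := exists_extend hN₀ hM₀ hMN c hc d
      exact ⟨n + 1, c', hc', e⟩)
    (span_resSub hN₀ hM₀ hMN)
  obtain ⟨c, hc, rfl⟩ := hsS
  have hfib' : j ⁻¹' {y} ⊆ (Z.basicOpen c : Set Z) := by
    refine (fibre_subset_basicOpen j hV₀ hM₀ rfl y hyV₀ _ hs).trans ?_
    rw [Scheme.basicOpen_res]
    exact fun z hz => hz.2
  -- second shrinking
  obtain ⟨V'', hyV'', hV''⟩ := exists_open_of_fibre_subset j y (Z.basicOpen c) hfib'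
  obtain ⟨b, hb₁, hb₂⟩ := hV₀.exists_basicOpen_le (V := V'') ⟨y, hyV''⟩ hyV₀
  have hpre : j ⁻¹ᵁ Y.basicOpen b = Z.basicOpen (j.app V₀ b) := Scheme.preimage_basicOpen j b
  have hle : Z.basicOpen (j.app V₀ b) ≤ Z.basicOpen c := by
    rw [← hpre]
    exact (j.preimage_mono hb₁).trans hV''
  obtain ⟨n, c', hc', e⟩ := exists_extend hN₀ hM₀ hMN c hc (j.app V₀ b)
  obtain ⟨f, hf⟩ := i.app_surjective U₀ hU₀ (c * c')
  refine ⟨X.basicOpen f, Y.basicOpen b, hU₀.basicOpen f, hV₀.basicOpen b, hb₂, ?_⟩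
  rw [hpre, Scheme.preimage_basicOpen, hf, Scheme.basicOpen_mul]
  have e1 : Z.basicOpen c' = Z.basicOpen (Z.presheaf.map (homOfLE hMN).op c') := by
    rw [Scheme.basicOpen_res]
    exact (inf_eq_right.mpr hc').symm
  have e2 : Z.basicOpen (Z.presheaf.map (homOfLE hMN).op c) = Z.basicOpen c := by
    rw [Scheme.basicOpen_res]
    exact inf_eq_right.mpr hc
  rw [e1, e, Scheme.basicOpen_mul, Z.basicOpen_pow _ (Nat.succ_pos n), e2, ← inf_assoc, inf_idem]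
  exact inf_eq_right.mpr hle

end Groth.Agent.H9.AVD
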