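import Groth.Agent.Lib.Helper9.Misc.PIN11

set_option linter.style.haveILetI false
set_option linter.unusedSectionVars false
set_option linter.unusedVariables false

namespace Groth.Agent.H9.PIN

open AlgebraicGeometry CategoryTheory Limits TopologicalSpace Opposite

universe u

section S0432

variable {X Y Z : Scheme.{u}}

/-- shrinking an affine open of the target of a closed immersion so that its preimage lands in a
given open. -/
theorem exists_basicOpen_preimage_le (i : Z ⟶ X) [IsClosedImmersion i] {U₀ : X.Opens}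
    (hU₀ : IsAffineOpen U₀) (W : Z.Opens) (z : Z) (hzU : i z ∈ U₀) (hzW : z ∈ W) :
    ∃ f : Γ(X, U₀), i ⁻¹ᵁ X.basicOpen f ≤ W ∧ i z ∈ X.basicOpen f := by
  have hN : IsAffineOpen (i ⁻¹ᵁ U₀) := hU₀.preimage i
  obtain ⟨f', hf'1, hf'2⟩ := hN.exists_basicOpen_le (V := W) ⟨z, hzW⟩ hzU
  obtain ⟨f, rfl⟩ := Scheme.Hom.app_surjective i U₀ hU₀ f'
  refine ⟨f, ?_, ?_⟩
  · rw [Scheme.preimage_basicOpen]; exact hf'1
  · have : z ∈ i ⁻¹ᵁ X.basicOpen f := by rw [Scheme.preimage_basicOpen]; exact hf'2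
    exact this

/-- for two closed immersions, every point of `Y` lies in a compatible affine pair. -/
theorem exists_cpair_of_closedImmersions (i : Z ⟶ X) (j : Z ⟶ Y) [IsClosedImmersion i]
    [IsClosedImmersion j] (y : Y) : ∃ k : CPair i j, y ∈ k.V := by
  by_cases hy : y ∈ Set.range j
  · obtain ⟨z, rfl⟩ := hy
    obtain ⟨U₀, hU₀, hzU₀, -⟩ := exists_isAffineOpen_mem_and_subset (x := i z) (U := ⊤) trivial
    obtain ⟨V₀, hV₀, hzV₀, -⟩ := exists_isAffineOpen_mem_and_subset (x := j z) (U := ⊤) trivial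
    -- step 1
    obtain ⟨f, hf1, hf2⟩ := exists_basicOpen_preimage_le i hU₀ (j ⁻¹ᵁ V₀) z hzU₀ hzV₀
    have hU₁ : IsAffineOpen (X.basicOpen f) := hU₀.basicOpen f
    -- step 2
    obtain ⟨g, hg1, hg2⟩ := exists_basicOpen_preimage_le j hV₀ (i ⁻¹ᵁ X.basicOpen f) z hzV₀ hf2
    have hV₁ : IsAffineOpen (Y.basicOpen g) := hV₀.basicOpen g
    -- step 3
    have hN₁ : IsAffineOpen (i ⁻¹ᵁ X.basicOpen f) := hU₁.preimage i
    let gbar : Γ(Z, i ⁻¹ᵁ X.basicOpen f) := Z.presheaf.map (homOfLE hf1).op (j.app V₀ g)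
    obtain ⟨f', hf'⟩ := Scheme.Hom.app_surjective i _ hU₁ gbar
    have hU₂ : IsAffineOpen (X.basicOpen f') := hU₁.basicOpen f'
    refine ⟨⟨X.basicOpen f', Y.basicOpen g, hU₂, hV₁, ?_⟩, hg2⟩
    rw [Scheme.preimage_basicOpen, hf', Scheme.basicOpen_res, ← Scheme.preimage_basicOpen]
    exact inf_eq_right.mpr hg1
  · have hO : IsOpen (Set.range j)ᶜ := j.isClosedEmbedding.isClosed_range.isOpen_compl
    obtain ⟨V, hV, hyV, hVO⟩ := exists_isAffineOpen_mem_and_subset (x := y) (U := ⟨_, hO⟩) hy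
    refine ⟨⟨⊥, V, isAffineOpen_bot X, hV, ?_⟩, hyV⟩
    ext z
    simp only [Scheme.Hom.coe_preimage, Set.mem_preimage, SetLike.mem_coe, Opens.coe_bot,
      Set.mem_empty_iff_false, false_iff]
    intro hz
    exact hVO hz ⟨z, rfl⟩

theorem S0432_main (i : Z ⟶ X) (j : Z ⟶ Y) [IsClosedImmersion i] [IsClosedImmersion j] :
    ∃ (P : Scheme.{u}) (a : X ⟶ P) (b : Y ⟶ P), IsPushout i j a b ∧ IsPullback i j a b ∧
      IsClosedImmersion a ∧ IsClosedImmersion b := by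
  obtain ⟨P, a, b, hp, W, hW, hcov⟩ := exists_isPinch (exists_cpair_of_closedImmersions i j)
  have hW' : ∀ k, IsAffineOpen (W k) ∧ IsAffineOpen (a ⁻¹ᵁ W k) ∧ IsAffineOpen (b ⁻¹ᵁ W k) :=
    fun k => ⟨(hW k).1, by rw [(hW k).2.1]; exact k.hU, by rw [(hW k).2.2]; exact k.hV⟩
  have hb : IsClosedImmersion b := hp.isClosedImmersion_b W hcov hW'
  have ha : IsClosedImmersion a := hp.isClosedImmersion_a W hcov hW'
  exact ⟨P, a, b, hp.isPushout, hp.isPullback W hcov (fun k => (hW' k).2.1), ha, hb⟩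

end S0432

end Groth.Agent.H9.PIN
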