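import Groth.Agent.Lib.Helper9.Misc.AVD2
import Groth.Agent.Lib.Helper9.Misc.PIN12
set_option autoImplicit false
set_option linter.style.haveILetI false
set_option linter.unusedSectionVars false
set_option linter.unusedVariables false

namespace Groth.Agent.H9.AVD

open AlgebraicGeometry CategoryTheory Limits TopologicalSpace
open Groth.Agent.H9.PIN

universe u

theorem S1442_main {X Y Z : Scheme.{u}} (i : Z ⟶ X) [IsClosedImmersion i] (j : Z ⟶ Y)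
    [IsIntegralHom j]
    (h : ∀ y : Y, ∃ U : X.Opens, IsAffineOpen U ∧ j ⁻¹' {y} ⊆ (i ⁻¹ᵁ U : Set ↑Z)) (y : Y) :
    ∃ (U : X.Opens) (V : Y.Opens), IsAffineOpen U ∧ IsAffineOpen V ∧ y ∈ V ∧
      i ⁻¹ᵁ U = j ⁻¹ᵁ V := by
  obtain ⟨U₀, hU₀, hfib⟩ := h y
  exact exists_affine_pair i j y U₀ hU₀ hfib

theorem S0430_main {X Y Z : Scheme.{u}} (i : Z ⟶ X) (j : Z ⟶ Y) [IsClosedImmersion i]
    [IsIntegralHom j]
    (haff : ∀ y : ↑Y, ∃ U : X.Opens, IsAffineOpen U ∧ j ⁻¹' {y} ⊆ i ⁻¹' (U : Set ↑X)) :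
    ∃ (P : Scheme.{u}) (a : X ⟶ P) (b : Y ⟶ P), IsPushout i j a b ∧ IsPullback i j a b ∧
      IsIntegralHom a ∧ IsClosedImmersion b := by
  have hcovY : ∀ y : Y, ∃ k : CPair i j, y ∈ k.V := by
    intro y
    obtain ⟨U₀, hU₀, hfib⟩ := haff y
    obtain ⟨U, V, hU, hV, hy, e⟩ := exists_affine_pair i j y U₀ hU₀ hfib
    exact ⟨⟨U, V, hU, hV, e⟩, hy⟩
  obtain ⟨P, a, b, hp, W, hW, hcov⟩ := exists_isPinch hcovY
  have hW' : ∀ k, IsAffineOpen (W k) ∧ IsAffineOpen (a ⁻¹ᵁ W k) ∧ IsAffineOpen (b ⁻¹ᵁ W k) :=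
    fun k => ⟨(hW k).1, by rw [(hW k).2.1]; exact k.hU, by rw [(hW k).2.2]; exact k.hV⟩
  have hb : IsClosedImmersion b := hp.isClosedImmersion_b W hcov hW'
  have ha : IsIntegralHom a := hp.isIntegralHom_a W hcov hW'
  exact ⟨P, a, b, hp.isPushout, hp.isPullback W hcov (fun k => (hW' k).2.1), ha, hb⟩

end Groth.Agent.H9.AVD
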