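import Groth.Agent.Lib.Helper9.Misc.PIN16
import Groth.Agent.Lib.Helper1.ProperOverClSub2
set_option autoImplicit false
set_option linter.style.haveILetI false
set_option linter.unusedSectionVars false
set_option linter.unusedVariables false

namespace Groth.Agent.H9.PIN

open AlgebraicGeometry CategoryTheory Limits TopologicalSpace

universe u

variable {X Y Z P : Scheme.{u}} {i : Z ⟶ X} {j : Z ⟶ Y} {a : X ⟶ P} {b : Y ⟶ P}

theorem quasiCompact_of_jointly_surjective {S : Scheme.{u}} (a : X ⟶ P) (b : Y ⟶ P)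
    (hsurj : ∀ p : P, (∃ x, a x = p) ∨ (∃ y, b y = p)) (r : P ⟶ S)
    [QuasiCompact (a ≫ r)] [QuasiCompact (b ≫ r)] : QuasiCompact r := by
  constructor
  intro U hU hUc
  have h1 : IsCompact ((a ≫ r) ⁻¹' U) := QuasiCompact.isCompact_preimage U hU hUc
  have h2 : IsCompact ((b ≫ r) ⁻¹' U) := QuasiCompact.isCompact_preimage U hU hUc
  have : r ⁻¹' U = a '' ((a ≫ r) ⁻¹' U) ∪ b '' ((b ≫ r) ⁻¹' U) := by
    ext w
    constructor
    · intro hw
      rcases hsurj w with ⟨x, rfl⟩ | ⟨y, rfl⟩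
      · exact Or.inl ⟨x, by simpa using hw, rfl⟩
      · exact Or.inr ⟨y, by simpa using hw, rfl⟩
    · rintro (⟨x, hx, rfl⟩ | ⟨y, hy, rfl⟩)
      · simpa using hx
      · simpa using hy
  rw [this]
  exact (h1.image a.continuous).union (h2.image b.continuous)

/-- the two maps into `P` as a `Bool`-indexed family. -/
noncomputable def bfam (a : X ⟶ P) (b : Y ⟶ P) : ∀ k : Bool, (cond k X Y : Scheme.{u}) ⟶ P
  | true => a
  | false => b

theorem isProper_of_jointly_surjective {S : Scheme.{u}} (a : X ⟶ P) (b : Y ⟶ P)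
    (hsurj : ∀ p : P, (∃ x, a x = p) ∨ (∃ y, b y = p)) (r : P ⟶ S)
    [UniversallyClosed a] [UniversallyClosed b] [LocallyOfFiniteType r]
    [IsProper (a ≫ r)] [IsProper (b ≫ r)] : IsProper r := by
  have hs : ∀ w : P, ∃ k, w ∈ Set.range (bfam a b k) := by
    intro w
    rcases hsurj w with ⟨x, rfl⟩ | ⟨y, rfl⟩
    · exact ⟨true, x, rfl⟩
    · exact ⟨false, y, rfl⟩
  haveI : IsSeparated r := by
    refine Groth.Agent.H1.isSeparated_of_forall_comp (bfam a b) r hs ?_ ?_
    · rintro (_ | _) <;> (dsimp only [bfam]; infer_instance)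
    · rintro (_ | _) <;> (dsimp only [bfam]; infer_instance)
  haveI : UniversallyClosed r := by
    refine Groth.Agent.H1.universallyClosed_of_forall_comp (bfam a b) r hs ?_
    rintro (_ | _) <;> (dsimp only [bfam]; infer_instance)
  haveI : QuasiCompact r := inferInstance
  exact {}

section S15944

variable {X Y T Z : Scheme.{u}}

theorem S15944_main (f : X ⟶ Y) (t : T ⟶ Y) (ξ : Z ⟶ T) (ι : Z ⟶ X)
    [IsAffineHom t] [IsAffineHom (ξ ≫ t)] [IsClosedImmersion ι] (hsq : ι ≫ f = ξ ≫ t)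
    (hstd : ∀ y : Y, ∃ U : Y.Opens, IsAffineOpen U ∧ y ∈ U ∧ ∃ V : X.Opens, IsAffineOpen V ∧
      V ≤ f ⁻¹ᵁ U ∧ ∀ z : Z, (ξ ≫ t).base z ∈ U → ι.base z ∈ V)
    [IsLocallyNoetherian Y] [LocallyOfFiniteType f] [QuasiCompact f] [LocallyOfFiniteType t]
    [QuasiCompact t]
    [IsFinite ξ] {P : Scheme.{u}} (a : X ⟶ P) (b : T ⟶ P) (hP : IsPushout ι ξ a b)
    (p : P ⟶ Y) (hap : a ≫ p = f) (hbp : b ≫ p = t) :
    (LocallyOfFiniteType p ∧ QuasiCompact p) ∧ (IsProper f → IsProper t → IsProper p) := by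
  obtain ⟨hp, W, hW, hcov⟩ := isPinch_of_isPushout (exists_cpair_of_std f t ξ ι hsq hstd) hP
  subst hap hbp
  haveI hlft : LocallyOfFiniteType p := hp.locallyOfFiniteType W hcov hW p
  haveI : IsClosedImmersion b := hp.isClosedImmersion_b W hcov hW
  haveI : IsFinite a := hp.isFinite_a W hcov hW
  refine ⟨⟨hlft, quasiCompact_of_jointly_surjective a b hp.surj p⟩, fun hf ht => ?_⟩
  exact isProper_of_jointly_surjective a b hp.surj p

end S15944

end Groth.Agent.H9.PIN
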