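import Groth.Agent.Lib.Helper9.Misc.AVD4
import Groth.Agent.Lib.Helper9.Misc.PIN17
set_option autoImplicit false
set_option linter.style.haveILetI false
set_option linter.unusedSectionVars false
set_option linter.unusedVariables false

namespace Groth.Agent.H9.AVD

open AlgebraicGeometry CategoryTheory Limits TopologicalSpace
open Groth.Agent.H9.PIN

universe u

/-- Quasi-separatedness can be checked on a finite jointly surjective family of quasi-compact
morphisms. -/
theorem quasiSeparated_of_forall_comp {Y Z : Scheme.{u}} {ι : Type*} [Finite ι]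
    {T : ι → Scheme.{u}}
    (a : ∀ k, T k ⟶ Y) (g : Y ⟶ Z) (ha : ∀ y : Y, ∃ k, y ∈ Set.range (a k))
    (hu : ∀ k, QuasiCompact (a k)) (h : ∀ k, QuasiSeparated (a k ≫ g)) : QuasiSeparated g := by
  constructor
  constructor
  intro K hK hKc
  have h1 : ∀ k, IsCompact ((a k ≫ pullback.diagonal g) ⁻¹' K) := by
    intro k
    have h2 : QuasiCompact
        (pullback.map (a k ≫ g) (a k ≫ g) g g (a k) (a k) (𝟙 Z) (by simp) (by simp)) :=
      MorphismProperty.pullbackMap (P := @QuasiCompact) (hu k) (hu k) rfl rfl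
    have h3 : a k ≫ pullback.diagonal g = pullback.diagonal (a k ≫ g) ≫
        pullback.map (a k ≫ g) (a k ≫ g) g g (a k) (a k) (𝟙 Z) (by simp) (by simp) := by
      apply pullback.hom_ext
      · rw [Category.assoc, Category.assoc, pullback.diagonal_fst, pullback.lift_fst,
          pullback.diagonal_fst_assoc, Category.comp_id]
      · rw [Category.assoc, Category.assoc, pullback.diagonal_snd, pullback.lift_snd,
          pullback.diagonal_snd_assoc, Category.comp_id]
    rw [h3]
    have := h k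
    exact QuasiCompact.isCompact_preimage (f := pullback.diagonal (a k ≫ g) ≫
      pullback.map (a k ≫ g) (a k ≫ g) g g (a k) (a k) (𝟙 Z) (by simp) (by simp)) K hK hKc
  have h5 : pullback.diagonal g ⁻¹' K = ⋃ k, a k '' ((a k ≫ pullback.diagonal g) ⁻¹' K) := by
    ext y
    simp only [Set.mem_preimage, Set.mem_iUnion, Set.mem_image]
    constructor
    · intro hy
      obtain ⟨k, z, rfl⟩ := ha y
      exact ⟨k, z, by simpa using hy, rfl⟩
    · rintro ⟨k, z, hz, rfl⟩
      simpa using hz
  rw [h5]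
  exact isCompact_iUnion fun k => (h1 k).image (a k).continuous

theorem S7181_main {X Y Z P S : Scheme.{u}} (i : Z ⟶ X) (j : Z ⟶ Y) [IsClosedImmersion i]
    [IsIntegralHom j]
    (haff : ∀ y : Y, ∃ U : X.Opens, IsAffineOpen U ∧ j ⁻¹' {y} ⊆ (i ⁻¹ᵁ U : Set ↑Z))
    (a : X ⟶ P) (b : Y ⟶ P) (hP : IsPushout i j a b) (p : X ⟶ S) (q : Y ⟶ S) (r : P ⟶ S)
    (hp : a ≫ r = p) (hq : b ≫ r = q) :
    ((IsSeparated p ∧ IsSeparated q) → IsSeparated r) ∧
      ((QuasiSeparated p ∧ QuasiSeparated q) → QuasiSeparated r) := by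
  subst hp hq
  obtain ⟨hpin, W, hW, hcov⟩ := isPinch_of_isPushout (exists_cpair_of_integral i j haff) hP
  haveI : IsClosedImmersion b := hpin.isClosedImmersion_b W hcov hW
  haveI : IsIntegralHom a := hpin.isIntegralHom_a W hcov hW
  have hs : ∀ w : P, ∃ k, w ∈ Set.range (bfam a b k) := by
    intro w
    rcases hpin.surj w with ⟨x, rfl⟩ | ⟨y, rfl⟩
    · exact ⟨true, x, rfl⟩
    · exact ⟨false, y, rfl⟩
  constructor
  · rintro ⟨h1, h2⟩
    refine Groth.Agent.H1.isSeparated_of_forall_comp (bfam a b) r hs ?_ ?_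
    · rintro (_ | _) <;> (dsimp only [bfam]; infer_instance)
    · rintro (_ | _) <;> (dsimp only [bfam]; infer_instance)
  · rintro ⟨h1, h2⟩
    refine quasiSeparated_of_forall_comp (bfam a b) r hs ?_ ?_
    · rintro (_ | _) <;> (dsimp only [bfam]; infer_instance)
    · rintro (_ | _) <;> (dsimp only [bfam]; infer_instance)

end Groth.Agent.H9.AVD
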