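import Mathlib
import Groth.Agent.Lib.Helper1.HensML
import Groth.Agent.Lib.Helper7.Azu3

set_option autoImplicit false
universe u

namespace Groth.Agent.H9.AZH

open TensorProduct MulOpposite

section Idem

/-- idempotent lifting in (noncommutative) finite algebras over a henselian local ring -/
theorem exists_idem_nc (R : Type u) [CommRing R] [HenselianLocalRing R] (C : Type u) [Ring C]
    [Algebra R C] [Module.Finite R C] (c : C) :
    ∃ ε w y : C, ε * ε = ε ∧ ε = w * c ∧ 1 - ε = y * (1 - c) := by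
  haveI : IsMulCommutative (Algebra.adjoin R {c}) := Algebra.isMulCommutative_adjoin R (by
    intro a ha b hb
    rw [Set.mem_singleton_iff] at ha hb
    rw [ha, hb])
  letI : CommRing (Algebra.adjoin R {c}) := inferInstance
  haveI : Module.Finite R (Algebra.adjoin R {c}) :=
    Module.Finite.iff_fg.mpr (IsIntegral.fg_adjoin_singleton (Algebra.IsIntegral.isIntegral c))
  obtain ⟨e, w, y, h1, h2, h3⟩ := Groth.Agent.H1.HensML.exists_idem R (Algebra.adjoin R {c})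
    ⟨c, Algebra.self_mem_adjoin_singleton R c⟩
  refine ⟨e.1, w.1, y.1, ?_, ?_, ?_⟩
  · exact congrArg Subtype.val h1
  · exact congrArg Subtype.val h2
  · exact congrArg Subtype.val h3

end Idem

section Gen

variable (R : Type u) [CommRing R] [IsLocalRing R]

theorem mem_smul_top_of_tmul_eq_zero (M : Type u) [AddCommGroup M] [Module R M] (z : M)
    (h : (1 : IsLocalRing.ResidueField R) ⊗ₜ[R] z = 0) :
    z ∈ IsLocalRing.maximalIdeal R • (⊤ : Submodule R M) := by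
  have h' : ((1 : R ⧸ IsLocalRing.maximalIdeal R) ⊗ₜ[R] z :
      (R ⧸ IsLocalRing.maximalIdeal R) ⊗[R] M) = 0 := h
  have h1 := congrArg (TensorProduct.quotTensorEquivQuotSMul M (IsLocalRing.maximalIdeal R)) h'
  rw [map_zero, TensorProduct.quotTensorEquivQuotSMul_mk_one_tmul] at h1
  exact (Submodule.Quotient.mk_eq_zero _).mp h1

theorem injective_of_residue_id (M : Type u) [AddCommGroup M] [Module R M] [Module.Finite R M]
    (h : M →ₗ[R] M)
    (hh : ∀ x, (1 : IsLocalRing.ResidueField R) ⊗ₜ[R] h x = 1 ⊗ₜ[R] x) :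
    Function.Injective h := by
  apply OrzechProperty.injective_of_surjective_endomorphism
  rw [← LinearMap.range_eq_top, eq_top_iff]
  apply Submodule.le_of_le_smul_of_le_jacobson_bot Module.Finite.fg_top
    (IsLocalRing.maximalIdeal_le_jacobson ⊥)
  intro x _
  have hx : x - h x ∈ IsLocalRing.maximalIdeal R • (⊤ : Submodule R M) :=
    mem_smul_top_of_tmul_eq_zero R M _ (by rw [TensorProduct.tmul_sub, hh, sub_self])
  have : x = h x + (x - h x) := by abel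
  rw [this]
  exact Submodule.add_mem_sup (LinearMap.mem_range_self h x) hx

end Gen

section Main

variable (R : Type u) [CommRing R] [IsLocalRing R]
variable (A : Type u) [Ring A] [Algebra R A] (B : Type u) [Ring B] [Algebra R B]

local notation "𝕜" => IsLocalRing.ResidueField R

variable (e₀ : ((IsLocalRing.ResidueField R) ⊗[R] A) ≃ₐ[IsLocalRing.ResidueField R]
  ((IsLocalRing.ResidueField R) ⊗[R] B))

/-- `a ↦ e₀ (1 ⊗ a)` -/
noncomputable def gA : A →ₐ[R] (𝕜 ⊗[R] B) :=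
  (e₀.toAlgHom.restrictScalars R).comp (Algebra.TensorProduct.includeRight : A →ₐ[R] 𝕜 ⊗[R] A)

theorem gA_apply (a : A) : gA R A B e₀ a = e₀ ((1 : 𝕜) ⊗ₜ[R] a) := rfl

noncomputable def tau : B ⊗[R] Aᵐᵒᵖ →ₐ[R] ((𝕜 ⊗[R] B) ⊗[𝕜] (𝕜 ⊗[R] B)ᵐᵒᵖ) :=
  Algebra.TensorProduct.lift
    ((Algebra.TensorProduct.includeLeft :
        (𝕜 ⊗[R] B) →ₐ[R] (𝕜 ⊗[R] B) ⊗[𝕜] (𝕜 ⊗[R] B)ᵐᵒᵖ).comp
      (Algebra.TensorProduct.includeRight : B →ₐ[R] 𝕜 ⊗[R] B))
    (((Algebra.TensorProduct.includeRight :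
        (𝕜 ⊗[R] B)ᵐᵒᵖ →ₐ[𝕜] (𝕜 ⊗[R] B) ⊗[𝕜] (𝕜 ⊗[R] B)ᵐᵒᵖ).restrictScalars R).comp
      (AlgHom.op (gA R A B e₀)))
    (fun b a => by
      simp [commute_iff_eq, Algebra.TensorProduct.tmul_mul_tmul])

theorem tau_tmul (b : B) (a : A) :
    tau R A B e₀ (b ⊗ₜ[R] op a) =
      ((1 : 𝕜) ⊗ₜ[R] b) ⊗ₜ[𝕜] op (e₀ ((1 : 𝕜) ⊗ₜ[R] a)) := by
  simp [tau, Algebra.TensorProduct.tmul_mul_tmul, gA_apply]

theorem tau_surjective : Function.Surjective (tau R A B e₀) := by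
  have hsurjk : Function.Surjective (algebraMap R 𝕜) := IsLocalRing.residue_surjective
  intro t
  induction t using TensorProduct.induction_on with
  | zero => exact ⟨0, map_zero _⟩
  | tmul y z =>
    obtain ⟨b, rfl⟩ := TensorProduct.mk_surjective R B 𝕜 hsurjk y
    obtain ⟨a', ha'⟩ := e₀.surjective z.unop
    obtain ⟨a, rfl⟩ := TensorProduct.mk_surjective R A 𝕜 hsurjk a'
    refine ⟨b ⊗ₜ[R] op a, ?_⟩
    rw [tau_tmul]
    simp only [TensorProduct.mk_apply] at ha' ⊢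
    rw [ha', op_unop]
  | add x y hx hy =>
    obtain ⟨c, rfl⟩ := hx
    obtain ⟨d, rfl⟩ := hy
    exact ⟨c + d, map_add _ _ _⟩

theorem tau_ker [Module.Finite R A] [Module.Projective R A] [Module.Finite R B]
    [Module.Projective R B] (c : B ⊗[R] Aᵐᵒᵖ) (hc : tau R A B e₀ c = 0) :
    c ∈ (IsLocalRing.maximalIdeal R) • (⊤ : Submodule R (B ⊗[R] Aᵐᵒᵖ)) := by
  haveI : Module.Free R A := Module.free_of_flat_of_isLocalRing
  haveI : Module.Free R B := Module.free_of_flat_of_isLocalRing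
  haveI : Module.Free R Aᵐᵒᵖ := Module.Free.of_equiv (MulOpposite.opLinearEquiv R : A ≃ₗ[R] Aᵐᵒᵖ)
  haveI : Module.Finite R Aᵐᵒᵖ := Module.Finite.equiv (MulOpposite.opLinearEquiv R : A ≃ₗ[R] Aᵐᵒᵖ)
  haveI : Module.Finite 𝕜 (𝕜 ⊗[R] B)ᵐᵒᵖ :=
    Module.Finite.equiv (MulOpposite.opLinearEquiv 𝕜 : (𝕜 ⊗[R] B) ≃ₗ[𝕜] (𝕜 ⊗[R] B)ᵐᵒᵖ)
  let tb : 𝕜 ⊗[R] (B ⊗[R] Aᵐᵒᵖ) →ₗ[𝕜] ((𝕜 ⊗[R] B) ⊗[𝕜] (𝕜 ⊗[R] B)ᵐᵒᵖ) :=
    LinearMap.liftBaseChange 𝕜 (tau R A B e₀).toLinearMap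
  have hsurj : Function.Surjective tb := by
    intro t
    obtain ⟨c, rfl⟩ := tau_surjective R A B e₀ t
    exact ⟨1 ⊗ₜ c, by simp [tb]⟩
  have hfr : Module.finrank 𝕜 (𝕜 ⊗[R] (B ⊗[R] Aᵐᵒᵖ)) =
      Module.finrank 𝕜 ((𝕜 ⊗[R] B) ⊗[𝕜] (𝕜 ⊗[R] B)ᵐᵒᵖ) := by
    have h1 : Module.finrank R Aᵐᵒᵖ = Module.finrank R A :=
      (MulOpposite.opLinearEquiv R : A ≃ₗ[R] Aᵐᵒᵖ).finrank_eq.symm
    have h2 : Module.finrank 𝕜 (𝕜 ⊗[R] B)ᵐᵒᵖ = Module.finrank 𝕜 (𝕜 ⊗[R] B) :=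
      (MulOpposite.opLinearEquiv 𝕜 : (𝕜 ⊗[R] B) ≃ₗ[𝕜] (𝕜 ⊗[R] B)ᵐᵒᵖ).finrank_eq.symm
    have h3 : Module.finrank 𝕜 (𝕜 ⊗[R] A) = Module.finrank 𝕜 (𝕜 ⊗[R] B) :=
      e₀.toLinearEquiv.finrank_eq
    have hA : Module.finrank 𝕜 (𝕜 ⊗[R] A) = Module.finrank R A := Module.finrank_baseChange
    have hB : Module.finrank 𝕜 (𝕜 ⊗[R] B) = Module.finrank R B := Module.finrank_baseChange
    have hC : Module.finrank 𝕜 (𝕜 ⊗[R] (B ⊗[R] Aᵐᵒᵖ)) = Module.finrank R (B ⊗[R] Aᵐᵒᵖ) :=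
      Module.finrank_baseChange
    rw [hC, Module.finrank_tensorProduct, Module.finrank_tensorProduct, h1, h2, hB, ← hA, h3, hB]
  have hinj : Function.Injective tb :=
    (LinearMap.injective_iff_surjective_of_finrank_eq_finrank hfr).mpr hsurj
  apply mem_smul_top_of_tmul_eq_zero
  apply hinj
  simp [tb, hc]

/-- the action of `B ⊗ Aᵒᵖ` on the special fibre of `B` -/
noncomputable def rho (c : B ⊗[R] Aᵐᵒᵖ) : Module.End 𝕜 (𝕜 ⊗[R] B) :=
  AlgHom.mulLeftRight 𝕜 (𝕜 ⊗[R] B) (tau R A B e₀ c)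

theorem rho_tmul (b : B) (a : A) (x : 𝕜 ⊗[R] B) :
    rho R A B e₀ (b ⊗ₜ[R] op a) x = ((1 : 𝕜) ⊗ₜ[R] b) * x * e₀ ((1 : 𝕜) ⊗ₜ[R] a) := by
  rw [rho, tau_tmul, AlgHom.mulLeftRight_apply, unop_op]

theorem rho_left (b : B) (x : 𝕜 ⊗[R] B) :
    rho R A B e₀ (b ⊗ₜ[R] (1 : Aᵐᵒᵖ)) x = ((1 : 𝕜) ⊗ₜ[R] b) * x := by
  rw [← MulOpposite.op_one, rho_tmul, ← Algebra.TensorProduct.one_def, map_one, mul_one]

theorem rho_right (a : A) (x : 𝕜 ⊗[R] B) :
    rho R A B e₀ ((1 : B) ⊗ₜ[R] op a) x = x * e₀ ((1 : 𝕜) ⊗ₜ[R] a) := by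
  rw [rho_tmul, ← Algebra.TensorProduct.one_def, one_mul]

theorem rho_mul (c d : B ⊗[R] Aᵐᵒᵖ) :
    rho R A B e₀ (c * d) = rho R A B e₀ c * rho R A B e₀ d := by
  simp only [rho, map_mul]

theorem rho_one : rho R A B e₀ 1 = 1 := by
  simp only [rho, map_one]

theorem rho_add (c d : B ⊗[R] Aᵐᵒᵖ) :
    rho R A B e₀ (c + d) = rho R A B e₀ c + rho R A B e₀ d := by
  simp only [rho, map_add]

theorem rho_sub (c d : B ⊗[R] Aᵐᵒᵖ) :
    rho R A B e₀ (c - d) = rho R A B e₀ c - rho R A B e₀ d := by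
  simp only [rho, map_sub]

theorem rho_smul_apply (r : R) (c : B ⊗[R] Aᵐᵒᵖ) (x : 𝕜 ⊗[R] B) :
    rho R A B e₀ (r • c) x = r • rho R A B e₀ c x := by
  rw [rho, map_smul, ← algebraMap_smul 𝕜 r (tau R A B e₀ c), map_smul, LinearMap.smul_apply,
    algebraMap_smul]
  rfl

/-- evaluation at `1` -/
noncomputable def ev1 : B ⊗[R] Aᵐᵒᵖ →ₗ[R] (𝕜 ⊗[R] B) where
  toFun c := rho R A B e₀ c 1
  map_add' c d := by rw [rho_add, LinearMap.add_apply]
  map_smul' r c := by rw [RingHom.id_apply, rho_smul_apply]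

theorem ev1_apply (c : B ⊗[R] Aᵐᵒᵖ) : ev1 R A B e₀ c = rho R A B e₀ c 1 := rfl

theorem exists_rho_eq [IsAzumaya 𝕜 (𝕜 ⊗[R] B)] (f : Module.End 𝕜 (𝕜 ⊗[R] B)) :
    ∃ c, rho R A B e₀ c = f := by
  obtain ⟨t, rfl⟩ := (IsAzumaya.bij (R := 𝕜) (A := 𝕜 ⊗[R] B)).2 f
  obtain ⟨c, rfl⟩ := tau_surjective R A B e₀ t
  exact ⟨c, rfl⟩

theorem rho_ker [IsAzumaya 𝕜 (𝕜 ⊗[R] B)] [Module.Finite R A] [Module.Projective R A]
    [Module.Finite R B] [Module.Projective R B] (c : B ⊗[R] Aᵐᵒᵖ) (hc : rho R A B e₀ c = 0) :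
    c ∈ (IsLocalRing.maximalIdeal R) • (⊤ : Submodule R (B ⊗[R] Aᵐᵒᵖ)) := by
  apply tau_ker R A B e₀
  apply (IsAzumaya.bij (R := 𝕜) (A := 𝕜 ⊗[R] B)).1
  rw [map_zero]
  exact hc

end Main

section Thm

theorem main (R : Type u) [CommRing R] [HenselianLocalRing R] (A : Type u) [Ring A] [Algebra R A]
    [IsAzumaya R A] (B : Type u) [Ring B] [Algebra R B] [IsAzumaya R B]
    (e₀ : ((IsLocalRing.ResidueField R) ⊗[R] A) ≃ₐ[IsLocalRing.ResidueField R]
      ((IsLocalRing.ResidueField R) ⊗[R] B)) :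
    ∃ e : A ≃ₐ[R] B, ∀ a : A, e₀ ((1 : IsLocalRing.ResidueField R) ⊗ₜ[R] a) =
      (1 : IsLocalRing.ResidueField R) ⊗ₜ[R] (e a) := by
  classical
  haveI : IsAzumaya (IsLocalRing.ResidueField R) ((IsLocalRing.ResidueField R) ⊗[R] B) :=
    Groth.Agent.H7.Azu.isAzumaya_baseChange R (IsLocalRing.ResidueField R) B
  haveI : Module.Finite R Aᵐᵒᵖ := Module.Finite.equiv (MulOpposite.opLinearEquiv R : A ≃ₗ[R] Aᵐᵒᵖ)
  haveI : Module.Projective R Aᵐᵒᵖ :=
    Module.Projective.of_equiv (MulOpposite.opLinearEquiv R : A ≃ₗ[R] Aᵐᵒᵖ)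
  have hsurjk : Function.Surjective (algebraMap R (IsLocalRing.ResidueField R)) :=
    IsLocalRing.residue_surjective
  haveI : Nontrivial ((IsLocalRing.ResidueField R) ⊗[R] B) := by
    by_contra h
    rw [not_nontrivial_iff_subsingleton] at h
    have : (1 : IsLocalRing.ResidueField R) = 0 :=
      FaithfulSMul.eq_of_smul_eq_smul (α := (IsLocalRing.ResidueField R) ⊗[R] B)
        (fun x => Subsingleton.elim _ _)
    exact one_ne_zero this
  -- a functional with φ 1 = 1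
  obtain ⟨φ, hφ⟩ := LinearMap.exists_leftInverse_of_injective
    (LinearMap.toSpanSingleton (IsLocalRing.ResidueField R)
      ((IsLocalRing.ResidueField R) ⊗[R] B) 1)
    (LinearMap.ker_toSpanSingleton _ one_ne_zero)
  have hφ1 : φ 1 = 1 := by
    have := LinearMap.congr_fun hφ 1
    simpa using this
  set π₀ : Module.End (IsLocalRing.ResidueField R) ((IsLocalRing.ResidueField R) ⊗[R] B) :=
    (LinearMap.toSpanSingleton (IsLocalRing.ResidueField R)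
      ((IsLocalRing.ResidueField R) ⊗[R] B) 1) ∘ₗ φ with hπ₀
  have hπ₀x : ∀ x, π₀ x = φ x • (1 : (IsLocalRing.ResidueField R) ⊗[R] B) := fun x => by
    rw [hπ₀, LinearMap.comp_apply, LinearMap.toSpanSingleton_apply]
  have hπ : π₀ * π₀ = π₀ := by
    apply LinearMap.ext
    intro x
    rw [Module.End.mul_apply, hπ₀x, hπ₀x, map_smul, hφ1, smul_eq_mul, mul_one]
  obtain ⟨c, hc⟩ := exists_rho_eq R A B e₀ π₀
  obtain ⟨ε, w, y, hεε, hεw, hεy⟩ := exists_idem_nc R (B ⊗[R] Aᵐᵒᵖ) c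
  have hρε : rho R A B e₀ ε = π₀ := by
    have h1 : rho R A B e₀ ε = rho R A B e₀ w * π₀ := by rw [hεw, rho_mul, hc]
    have h2 : 1 - rho R A B e₀ ε = rho R A B e₀ y * (1 - π₀) := by
      rw [← rho_one R A B e₀, ← rho_sub, hεy, rho_mul, rho_sub, rho_one, hc]
    have h3 : rho R A B e₀ ε * π₀ = rho R A B e₀ ε := by rw [h1, mul_assoc, hπ]
    have h4 : (1 - rho R A B e₀ ε) * π₀ = 0 := by
      rw [h2, mul_assoc, sub_mul, one_mul, hπ, sub_self, mul_zero]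
    have h5 : π₀ = rho R A B e₀ ε * π₀ := by
      rw [sub_mul, one_mul, sub_eq_zero] at h4
      exact h4
    rw [← h3, ← h5]
  have hρε1 : rho R A B e₀ ε 1 = 1 := by
    rw [hρε, hπ₀x, hφ1, one_smul]
  -- the two maps
  set β : B →ₗ[R] (B ⊗[R] Aᵐᵒᵖ) :=
    (LinearMap.mulRight R ε) ∘ₗ
      (Algebra.TensorProduct.includeLeft : B →ₐ[R] B ⊗[R] Aᵐᵒᵖ).toLinearMap with hβdef
  set α : A →ₗ[R] (B ⊗[R] Aᵐᵒᵖ) :=
    (LinearMap.mulRight R ε) ∘ₗ
      ((Algebra.TensorProduct.includeRight : Aᵐᵒᵖ →ₐ[R] B ⊗[R] Aᵐᵒᵖ).toLinearMap ∘ₗ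
        (MulOpposite.opLinearEquiv R : A ≃ₗ[R] Aᵐᵒᵖ).toLinearMap) with hαdef
  have hβa : ∀ b, β b = (b ⊗ₜ[R] (1 : Aᵐᵒᵖ)) * ε := fun b => rfl
  have hαa : ∀ a, α a = ((1 : B) ⊗ₜ[R] op a) * ε := fun a => rfl
  have F1 : ∀ b, rho R A B e₀ (β b) 1 = (1 : IsLocalRing.ResidueField R) ⊗ₜ[R] b := by
    intro b
    rw [hβa, rho_mul, Module.End.mul_apply, hρε1, rho_left, mul_one]
  have F2 : ∀ a, rho R A B e₀ (α a) 1 = e₀ ((1 : IsLocalRing.ResidueField R) ⊗ₜ[R] a) := by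
    intro a
    rw [hαa, rho_mul, Module.End.mul_apply, hρε1, rho_right, one_mul]
  have F3 : ∀ q, q * ε = q → rho R A B e₀ q 1 = 0 → rho R A B e₀ q = 0 := by
    intro q hq hq1
    apply LinearMap.ext
    intro x
    rw [← hq, rho_mul, hρε, Module.End.mul_apply, hπ₀x, map_smul, hq1, smul_zero,
      LinearMap.zero_apply]
  set P : Submodule R (B ⊗[R] Aᵐᵒᵖ) := LinearMap.range (LinearMap.mulRight R ε) with hP
  have hPfg : P.FG := by
    rw [hP, LinearMap.range_eq_map]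
    exact Module.Finite.fg_top.map _
  have hmP : ∀ q, q ∈ (IsLocalRing.maximalIdeal R) • (⊤ : Submodule R (B ⊗[R] Aᵐᵒᵖ)) →
      q * ε ∈ (IsLocalRing.maximalIdeal R) • P := by
    intro q hq
    have : q * ε ∈ Submodule.map (LinearMap.mulRight R ε)
        ((IsLocalRing.maximalIdeal R) • (⊤ : Submodule R (B ⊗[R] Aᵐᵒᵖ))) :=
      ⟨q, hq, rfl⟩
    rw [Submodule.map_smul'', ← LinearMap.range_eq_map] at this
    exact this
  have hjac := IsLocalRing.maximalIdeal_le_jacobson (⊥ : Ideal R)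
  have hPβ : P ≤ LinearMap.range β := by
    apply Submodule.le_of_le_smul_of_le_jacobson_bot hPfg hjac
    rintro _ ⟨p', rfl⟩
    have hpε : (LinearMap.mulRight R ε p') * ε = LinearMap.mulRight R ε p' := by
      rw [LinearMap.mulRight_apply, mul_assoc, hεε]
    obtain ⟨b, hb⟩ := TensorProduct.mk_surjective R B (IsLocalRing.ResidueField R) hsurjk
      (rho R A B e₀ (LinearMap.mulRight R ε p') 1)
    rw [TensorProduct.mk_apply] at hb
    have hq1 : (LinearMap.mulRight R ε p' - β b) * ε = LinearMap.mulRight R ε p' - β b := by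
      rw [sub_mul, hpε, hβa, mul_assoc, hεε]
    have hq2 : rho R A B e₀ (LinearMap.mulRight R ε p' - β b) 1 = 0 := by
      rw [rho_sub, LinearMap.sub_apply, F1, hb, sub_self]
    have hq3 := hmP _ (rho_ker R A B e₀ _ (F3 _ hq1 hq2))
    rw [hq1] at hq3
    have : LinearMap.mulRight R ε p' = β b + (LinearMap.mulRight R ε p' - β b) := by abel
    rw [this]
    exact Submodule.add_mem_sup (LinearMap.mem_range_self β b) hq3
  have hPα : P ≤ LinearMap.range α := by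
    apply Submodule.le_of_le_smul_of_le_jacobson_bot hPfg hjac
    rintro _ ⟨p', rfl⟩
    have hpε : (LinearMap.mulRight R ε p') * ε = LinearMap.mulRight R ε p' := by
      rw [LinearMap.mulRight_apply, mul_assoc, hεε]
    obtain ⟨a', ha'⟩ := e₀.surjective (rho R A B e₀ (LinearMap.mulRight R ε p') 1)
    obtain ⟨a, rfl⟩ := TensorProduct.mk_surjective R A (IsLocalRing.ResidueField R) hsurjk a'
    rw [TensorProduct.mk_apply] at ha'
    have hq1 : (LinearMap.mulRight R ε p' - α a) * ε = LinearMap.mulRight R ε p' - α a := by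
      rw [sub_mul, hpε, hαa, mul_assoc, hεε]
    have hq2 : rho R A B e₀ (LinearMap.mulRight R ε p' - α a) 1 = 0 := by
      rw [rho_sub, LinearMap.sub_apply, F2, ha', sub_self]
    have hq3 := hmP _ (rho_ker R A B e₀ _ (F3 _ hq1 hq2))
    rw [hq1] at hq3
    have : LinearMap.mulRight R ε p' = α a + (LinearMap.mulRight R ε p' - α a) := by abel
    rw [this]
    exact Submodule.add_mem_sup (LinearMap.mem_range_self α a) hq3
  -- injectivity
  obtain ⟨γB, hγB⟩ := Module.projective_lifting_property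
    (TensorProduct.mk R (IsLocalRing.ResidueField R) B 1) (ev1 R A B e₀)
    (TensorProduct.mk_surjective R B (IsLocalRing.ResidueField R) hsurjk)
  have hβinj : Function.Injective β := by
    have h1 : Function.Injective (γB ∘ₗ β) := by
      apply injective_of_residue_id R B
      intro b
      have h2 : (1 : IsLocalRing.ResidueField R) ⊗ₜ[R] γB (β b) =
          rho R A B e₀ (β b) 1 := LinearMap.congr_fun hγB (β b)
      rw [F1] at h2
      exact h2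
    exact Function.Injective.of_comp (f := γB) h1
  obtain ⟨γA, hγA⟩ := Module.projective_lifting_property
    (TensorProduct.mk R (IsLocalRing.ResidueField R) A 1)
    ((e₀.symm.toLinearEquiv.toLinearMap.restrictScalars R) ∘ₗ (ev1 R A B e₀))
    (TensorProduct.mk_surjective R A (IsLocalRing.ResidueField R) hsurjk)
  have hαinj : Function.Injective α := by
    have h1 : Function.Injective (γA ∘ₗ α) := by
      apply injective_of_residue_id R A
      intro a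
      have h2 : (1 : IsLocalRing.ResidueField R) ⊗ₜ[R] γA (α a) =
          e₀.symm (rho R A B e₀ (α a) 1) := LinearMap.congr_fun hγA (α a)
      rw [F2, e₀.symm_apply_apply] at h2
      exact h2
    exact Function.Injective.of_comp (f := γA) h1
  -- the map
  have hαP : ∀ a, α a ∈ P := fun a => ⟨(1 : B) ⊗ₜ[R] op a, rfl⟩
  have hβP : ∀ b, β b ∈ P := fun b => ⟨b ⊗ₜ[R] (1 : Aᵐᵒᵖ), rfl⟩
  have hex : ∀ a, ∃ b, β b = α a := fun a => hPβ (hαP a)
  choose f hf using hex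
  have hfadd : ∀ a a', f (a + a') = f a + f a' := by
    intro a a'
    apply hβinj
    rw [map_add, hf, hf, hf, map_add]
  have hfsmul : ∀ (r : R) a, f (r • a) = r • f a := by
    intro r a
    apply hβinj
    rw [map_smul, hf, hf, map_smul]
  have hfone : f 1 = 1 := by
    apply hβinj
    rw [hf, hαa, hβa, MulOpposite.op_one]
  have hfmul : ∀ a a', f (a * a') = f a * f a' := by
    intro a a'
    apply hβinj
    have e1 : α (a * a') = ((1 : B) ⊗ₜ[R] op a') * α a := by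
      rw [hαa, hαa, ← mul_assoc, Algebra.TensorProduct.tmul_mul_tmul, mul_one, ← op_mul]
    have e2 : ∀ (b : B) (x : A), ((1 : B) ⊗ₜ[R] op x) * β b = (b ⊗ₜ[R] (1 : Aᵐᵒᵖ)) * α x := by
      intro b x
      rw [hβa, hαa, ← mul_assoc, ← mul_assoc, Algebra.TensorProduct.tmul_mul_tmul,
        Algebra.TensorProduct.tmul_mul_tmul, one_mul, mul_one, one_mul, mul_one]
    rw [hf, e1, ← hf a, e2, ← hf a', hβa, hβa (f a * f a'), ← mul_assoc,
      Algebra.TensorProduct.tmul_mul_tmul, mul_one]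
  have hfinj : Function.Injective f := by
    intro a a' h
    apply hαinj
    rw [← hf, ← hf, h]
  have hfsurj : Function.Surjective f := by
    intro b
    obtain ⟨a, ha⟩ := hPα (hβP b)
    refine ⟨a, ?_⟩
    apply hβinj
    rw [hf, ha]
  let fl : A →ₗ[R] B := { toFun := f, map_add' := hfadd, map_smul' := hfsmul }
  let fa : A →ₐ[R] B := AlgHom.ofLinearMap fl hfone hfmul
  refine ⟨AlgEquiv.ofBijective fa ⟨hfinj, hfsurj⟩, ?_⟩
  intro a
  show e₀ ((1 : IsLocalRing.ResidueField R) ⊗ₜ[R] a) =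
    (1 : IsLocalRing.ResidueField R) ⊗ₜ[R] (f a)
  rw [← F1, hf, F2]

end Thm

end Groth.Agent.H9.AZH
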