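import Mathlib
import Groth.Prelude.Def_Adeq
import Groth.Agent.Lib.Helper2.AdeqVanish
import Groth.Agent.Lib.Helper2.AdeqAb

/-!
# Filtered colimits of algebras and tensor products, elementwise (helper9)
-/

set_option autoImplicit false

universe u v

open CategoryTheory Limits Opposite TensorProduct

namespace Groth.Agent.H9.AdeqFC

section alg

variable {A : Type u} [CommRing A] {J : Type u} [SmallCategory J] [IsFiltered J]

/-- the underlying type of an algebra -/
noncomputable abbrev U (A : Type u) [CommRing A] : Adeq.Alg A ⥤ Type u :=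
  (commAlgCatEquivUnder (CommRingCat.of A)).functor ⋙ Under.forget _ ⋙ forget CommRingCat

lemma preservesU : PreservesColimitsOfShape J (U A) := by
  haveI : IsConnected J := IsFiltered.isConnected J
  haveI : PreservesColimitsOfShape J (forget CommRingCat.{u}) :=
    PreservesFilteredColimitsOfSize.preserves_filtered_colimits J
  infer_instance

lemma hom_comp_apply {B B' B'' : Adeq.Alg A} (f : B ⟶ B') (g : B' ⟶ B'') (x : B) :
    (f ≫ g).hom x = g.hom (f.hom x) := by
  rw [CommAlgCat.hom_comp]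
  rfl

variable {D : J ⥤ Adeq.Alg A} {c : Cocone D}

lemma cocone_w_apply {i j : J} (f : i ⟶ j) (x : D.obj i) :
    (c.ι.app j).hom ((D.map f).hom x) = (c.ι.app i).hom x := by
  rw [← hom_comp_apply, c.w]

variable (hc : IsColimit c)
include hc

lemma alg_surj (b : c.pt) : ∃ (i : J) (x : D.obj i), (c.ι.app i).hom x = b := by
  haveI := preservesU (A := A) (J := J)
  obtain ⟨i, x, hx⟩ := Types.jointly_surjective_of_isColimit (isColimitOfPreserves (U A) hc) b
  exact ⟨i, x, hx⟩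

lemma alg_inj (i : J) (x y : D.obj i) (h : (c.ι.app i).hom x = (c.ι.app i).hom y) :
    ∃ (j : J) (f : i ⟶ j), (D.map f).hom x = (D.map f).hom y := by
  haveI := preservesU (A := A) (J := J)
  obtain ⟨j, f, hf⟩ :=
    (Types.FilteredColimit.isColimit_eq_iff' (isColimitOfPreserves (U A) hc) x y).1 h
  exact ⟨j, f, hf⟩

lemma alg_inj_family {κ : Type*} [Fintype κ] (i : J) (e : κ → D.obj i)
    (h : ∀ k, (c.ι.app i).hom (e k) = 0) :
    ∃ (j : J) (f : i ⟶ j), ∀ k, (D.map f).hom (e k) = 0 := by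
  classical
  suffices H : ∀ s : Finset κ, ∃ (j : J) (f : i ⟶ j), ∀ k ∈ s, (D.map f).hom (e k) = 0 by
    obtain ⟨j, f, hf⟩ := H Finset.univ
    exact ⟨j, f, fun k => hf k (Finset.mem_univ k)⟩
  intro s
  induction s using Finset.induction_on with
  | empty => exact ⟨i, 𝟙 i, fun k hk => by simp at hk⟩
  | insert k₀ s hk₀ ih =>
    obtain ⟨j, f, hf⟩ := ih
    have h0 : (c.ι.app j).hom ((D.map f).hom (e k₀)) = (c.ι.app j).hom 0 := by
      rw [cocone_w_apply, h, map_zero]
    obtain ⟨j', g, hg⟩ := alg_inj hc j _ _ h0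
    refine ⟨j', f ≫ g, fun k hk => ?_⟩
    rw [D.map_comp, hom_comp_apply]
    rcases Finset.mem_insert.1 hk with rfl | hk'
    · rw [hg, map_zero]
    · rw [hf k hk', map_zero]

lemma alg_surj_family {κ : Type*} [Fintype κ] (i : J) (b : κ → c.pt) :
    ∃ (j : J) (_ : i ⟶ j) (x : κ → D.obj j), ∀ k, (c.ι.app j).hom (x k) = b k := by
  classical
  suffices H : ∀ s : Finset κ, ∃ (j : J) (_ : i ⟶ j) (x : κ → D.obj j),
      ∀ k ∈ s, (c.ι.app j).hom (x k) = b k by
    obtain ⟨j, f, x, hx⟩ := H Finset.univ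
    exact ⟨j, f, x, fun k => hx k (Finset.mem_univ k)⟩
  intro s
  induction s using Finset.induction_on with
  | empty => exact ⟨i, 𝟙 i, fun _ => 0, fun k hk => by simp at hk⟩
  | insert k₀ s hk₀ ih =>
    obtain ⟨j, f, x, hx⟩ := ih
    obtain ⟨i₁, x₁, hx₁⟩ := alg_surj hc (b k₀)
    refine ⟨IsFiltered.max j i₁, f ≫ IsFiltered.leftToMax j i₁,
      fun k => if k = k₀ then (D.map (IsFiltered.rightToMax j i₁)).hom x₁
        else (D.map (IsFiltered.leftToMax j i₁)).hom (x k), fun k hk => ?_⟩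
    dsimp only
    by_cases hkk : k = k₀
    · rw [if_pos hkk, cocone_w_apply, hx₁, hkk]
    · rw [if_neg hkk, cocone_w_apply]
      rcases Finset.mem_insert.1 hk with h1 | h1
      · exact absurd h1 hkk
      · exact hx k h1

end alg

section tensor

variable {A : Type u} [CommRing A] {J : Type u} [SmallCategory J] [IsFiltered J]

/-- the map `B ⊗ M → B' ⊗ M` -/
noncomputable abbrev rT (M : Type v) [AddCommGroup M] [Module A M] {B B' : Adeq.Alg A}
    (f : B ⟶ B') : B ⊗[A] M →ₗ[A] B' ⊗[A] M :=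
  f.hom.toLinearMap.rTensor M

variable {M : Type v} [AddCommGroup M] [Module A M]

lemma rT_comp_apply {B B' B'' : Adeq.Alg A} (f : B ⟶ B') (g : B' ⟶ B'') (w : B ⊗[A] M) :
    rT M g (rT M f w) = rT M (f ≫ g) w := by
  show g.hom.toLinearMap.rTensor M (f.hom.toLinearMap.rTensor M w) =
    (f ≫ g).hom.toLinearMap.rTensor M w
  rw [CommAlgCat.hom_comp, AlgHom.comp_toLinearMap, LinearMap.rTensor_comp, LinearMap.comp_apply]

lemma rT_tmul {B B' : Adeq.Alg A} (f : B ⟶ B') (b : B) (m : M) :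
    rT M f (b ⊗ₜ m) = f.hom b ⊗ₜ m := by
  show f.hom.toLinearMap.rTensor M (b ⊗ₜ m) = f.hom b ⊗ₜ m
  rw [LinearMap.rTensor_tmul]
  rfl

lemma exists_fin_rep {B : Type*} [AddCommGroup B] [Module A B] (w : B ⊗[A] M) :
    ∃ (l : ℕ) (b : Fin l → B) (m : Fin l → M), w = ∑ k, b k ⊗ₜ[A] m k := by
  induction w using TensorProduct.induction_on with
  | zero => exact ⟨0, Fin.elim0, Fin.elim0, by simp⟩
  | tmul b m => exact ⟨1, fun _ => b, fun _ => m, by simp⟩
  | add w₁ w₂ h₁ h₂ =>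
    obtain ⟨l₁, b₁, m₁, rfl⟩ := h₁
    obtain ⟨l₂, b₂, m₂, rfl⟩ := h₂
    refine ⟨l₁ + l₂, Fin.append b₁ b₂, Fin.append m₁ m₂, ?_⟩
    rw [Fin.sum_univ_add]
    simp only [Fin.append_left, Fin.append_right]

variable {D : J ⥤ Adeq.Alg A} {c : Cocone D} (hc : IsColimit c)
include hc

lemma tensor_surj (z : c.pt ⊗[A] M) :
    ∃ (i : J) (w : D.obj i ⊗[A] M), rT M (c.ι.app i) w = z := by
  induction z using TensorProduct.induction_on with
  | zero => exact ⟨(IsFiltered.nonempty (C := J)).some, 0, map_zero _⟩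
  | tmul b m =>
    obtain ⟨i, x, hx⟩ := alg_surj hc b
    exact ⟨i, x ⊗ₜ m, by rw [rT_tmul, hx]⟩
  | add z₁ z₂ h₁ h₂ =>
    obtain ⟨i₁, w₁, rfl⟩ := h₁
    obtain ⟨i₂, w₂, rfl⟩ := h₂
    refine ⟨IsFiltered.max i₁ i₂, rT M (D.map (IsFiltered.leftToMax i₁ i₂)) w₁ +
      rT M (D.map (IsFiltered.rightToMax i₁ i₂)) w₂, ?_⟩
    rw [map_add, rT_comp_apply, rT_comp_apply, c.w, c.w]

lemma tensor_inj (i : J) (w : D.obj i ⊗[A] M) (h : rT M (c.ι.app i) w = 0) :
    ∃ (j : J) (f : i ⟶ j), rT M (D.map f) w = 0 := by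
  classical
  obtain ⟨l, b, m, rfl⟩ := exists_fin_rep w
  have h' : ∑ k, (c.ι.app i).hom (b k) ⊗ₜ[A] m k = 0 := by
    rw [← h, map_sum]
    exact Finset.sum_congr rfl (fun k _ => (rT_tmul _ _ _).symm)
  obtain ⟨r, c', hv⟩ := Groth.Agent.H2.AdeqVanish.exists_extension_vanishesTrivially (R := A)
    (fun k => (c.ι.app i).hom (b k)) m h'
  obtain ⟨κ, a, y, h₁, h₂⟩ := hv
  obtain ⟨j₁, g₁, x, hx⟩ := alg_surj_family hc i c'
  set d : Fin l ⊕ Fin r → D.obj j₁ := Sum.elim (fun k => (D.map g₁).hom (b k)) x with hd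
  have hdι : ∀ s, (c.ι.app j₁).hom (d s) =
      Sum.elim (fun k => (c.ι.app i).hom (b k)) c' s := by
    rintro (k | k)
    · simp only [hd, Sum.elim_inl]
      exact cocone_w_apply g₁ (b k)
    · simp only [hd, Sum.elim_inr]
      exact hx k
  have he : ∀ t : Fin κ, (c.ι.app j₁).hom (∑ s, a s t • d s) = 0 := by
    intro t
    rw [map_sum]
    refine Eq.trans ?_ (h₂ t)
    apply Finset.sum_congr rfl
    intro s _
    rw [map_smul, hdι]
  obtain ⟨j₂, g₂, hg₂⟩ := alg_inj_family hc j₁ (fun t => ∑ s, a s t • d s) he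
  refine ⟨j₂, g₁ ≫ g₂, ?_⟩
  have hv2 : TensorProduct.VanishesTrivially A (fun s => (D.map g₂).hom (d s))
      (Sum.elim m (fun _ => (0 : M))) := by
    refine ⟨κ, a, y, h₁, fun t => ?_⟩
    have := hg₂ t
    rw [map_sum] at this
    refine Eq.trans ?_ this
    apply Finset.sum_congr rfl
    intro s _
    rw [map_smul]
  have hsum := TensorProduct.sum_tmul_eq_zero_of_vanishesTrivially A hv2
  rw [Fintype.sum_sum_type] at hsum
  simp only [Sum.elim_inl, Sum.elim_inr, TensorProduct.tmul_zero, Finset.sum_const_zero,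
    add_zero, hd] at hsum
  rw [map_sum]
  refine Eq.trans ?_ hsum
  apply Finset.sum_congr rfl
  intro k _
  rw [rT_tmul, D.map_comp, hom_comp_apply]

lemma tensor_inj' (i : J) (a b : D.obj i ⊗[A] M)
    (h : rT M (c.ι.app i) a = rT M (c.ι.app i) b) :
    ∃ (j : J) (f : i ⟶ j), rT M (D.map f) a = rT M (D.map f) b := by
  obtain ⟨k, f, hf⟩ := tensor_inj hc i (a - b) (by rw [map_sub, h, sub_self])
  exact ⟨k, f, by rwa [map_sub, sub_eq_zero] at hf⟩

end tensor

end Groth.Agent.H9.AdeqFC
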