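import Mathlib
import Groth.Prelude.Def_Adeq
import Groth.Agent.Lib.Helper9.Misc.AdeqFC1

/-!
# An adequate functor commutes with filtered colimits (helper9)
-/

set_option autoImplicit false

universe u

open CategoryTheory Limits Opposite TensorProduct Adeq

namespace Groth.Agent.H9.AdeqFC

open Groth.Agent.H2.AdeqKer Groth.Agent.H2.AdeqAb

variable {A : Type u} [CommRing A] {J : Type u} [SmallCategory J] [IsFiltered J]
  (F : MVF A) (hF : adequate A F) {D : J ⥤ Alg A} {c : Cocone D} (hc : IsColimit c)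

include hF hc

lemma F_surj (x : F.obj (pt c.pt)) :
    ∃ (i : J) (xi : F.obj (pt (D.obj i))), (F.map (ptHom (c.ι.app i))).hom xi = x := by
  obtain ⟨M, N, φ, ⟨e⟩⟩ := hF
  let ψ := (underline A).map φ
  let ι : F ⟶ (underline A).obj M := e.hom ≫ kernel.ι ψ
  have hιψ : ι ≫ ψ = 0 := by rw [Category.assoc, kernel.condition, comp_zero]
  have hιinj := iso_kernel_app_injective ψ e
  have hker : ∀ (X : (Alg A)ᵒᵖᵒᵖ) (z : ((underline A).obj M).obj X),
      (ψ.app X).hom z = 0 → ∃ x : F.obj X, (ι.app X).hom x = z := by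
    intro X z hz
    obtain ⟨k, hk⟩ := exists_of_app_eq_zero ψ X z hz
    have h0 : e.inv ≫ ι = kernel.ι ψ := by
      rw [← Category.assoc, Iso.inv_hom_id, Category.id_comp]
    exact ⟨(e.inv.app X) k, (comp_app_apply h0 X k).trans hk⟩
  have hzero : ∀ (X : (Alg A)ᵒᵖᵒᵖ) (x : F.obj X), (ψ.app X).hom ((ι.app X).hom x) = 0 :=
    fun X x => comp_app_apply hιψ X x
  have natι : ∀ {B B' : Alg A} (g : B ⟶ B') (p : F.obj (pt B)),
      (ι.app (pt B')).hom ((F.map (ptHom g)).hom p) = rT M g ((ι.app (pt B)).hom p) :=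
    fun g p => PresheafOfModules.naturality_apply ι (ptHom g) p
  have natψ : ∀ {B B' : Alg A} (g : B ⟶ B') (z : B ⊗[A] M),
      (ψ.app (pt B')).hom (rT M g z) = rT N g ((ψ.app (pt B)).hom z) :=
    fun g z => PresheafOfModules.naturality_apply ψ (ptHom g) z
  obtain ⟨i, w, hw⟩ := tensor_surj hc (M := M) ((ι.app (pt c.pt)).hom x)
  have h1 : rT N (c.ι.app i) ((ψ.app (pt (D.obj i))).hom w) = 0 :=
    (natψ (c.ι.app i) w).symm.trans ((congrArg (ψ.app (pt c.pt)).hom hw).trans (hzero _ x))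
  obtain ⟨j, f, hf⟩ := tensor_inj hc (M := N) i _ h1
  have h2 : (ψ.app (pt (D.obj j))).hom (rT M (D.map f) w) = 0 :=
    (natψ (D.map f) w).trans hf
  obtain ⟨xj, hxj⟩ := hker (pt (D.obj j)) _ h2
  refine ⟨j, xj, hιinj (pt c.pt) ?_⟩
  exact (natι (c.ι.app j) xj).trans ((congrArg (rT M (c.ι.app j)) hxj).trans
    ((rT_comp_apply _ _ w).trans ((congrArg (fun g => rT M g w) (c.w f)).trans hw)))

lemma F_inj (i : J) (x y : F.obj (pt (D.obj i)))
    (h : (F.map (ptHom (c.ι.app i))).hom x = (F.map (ptHom (c.ι.app i))).hom y) :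
    ∃ (k : J) (f : i ⟶ k),
      (F.map (ptHom (D.map f))).hom x = (F.map (ptHom (D.map f))).hom y := by
  obtain ⟨M, N, φ, ⟨e⟩⟩ := hF
  let ψ := (underline A).map φ
  let ι : F ⟶ (underline A).obj M := e.hom ≫ kernel.ι ψ
  have hιinj := iso_kernel_app_injective ψ e
  have natι : ∀ {B B' : Alg A} (g : B ⟶ B') (p : F.obj (pt B)),
      (ι.app (pt B')).hom ((F.map (ptHom g)).hom p) = rT M g ((ι.app (pt B)).hom p) :=
    fun g p => PresheafOfModules.naturality_apply ι (ptHom g) p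
  have h0 : rT M (c.ι.app i) ((ι.app (pt (D.obj i))).hom x) =
      rT M (c.ι.app i) ((ι.app (pt (D.obj i))).hom y) :=
    (natι (c.ι.app i) x).symm.trans ((congrArg (ι.app (pt c.pt)).hom h).trans
      (natι (c.ι.app i) y))
  obtain ⟨k, f, hf⟩ := tensor_inj' hc (M := M) i _ _ h0
  refine ⟨k, f, hιinj (pt (D.obj k)) ?_⟩
  exact (natι (D.map f) x).trans (hf.trans (natι (D.map f) y).symm)

theorem adequate_filtered : Nonempty (IsColimit (F.toAb.mapCocone c)) := by
  haveI : PreservesFilteredColimitsOfSize.{u, u} (forget AddCommGrpCat.{u + 1}) :=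
    preservesFilteredColimitsOfSize_shrink.{u, u + 1, u, u + 1} _
  haveI : PreservesColimitsOfShape J (forget AddCommGrpCat.{u + 1}) :=
    PreservesFilteredColimitsOfSize.preserves_filtered_colimits J
  haveI : ReflectsColimitsOfShape J (forget AddCommGrpCat.{u + 1}) :=
    reflectsColimitsOfShape_of_reflectsIsomorphisms
  refine ⟨isColimitOfReflects (forget AddCommGrpCat.{u + 1})
    (Types.FilteredColimit.isColimitOf' _ _ ?_ ?_)⟩
  · intro x
    obtain ⟨i, xi, hxi⟩ := F_surj F hF hc x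
    exact ⟨i, xi, hxi.symm⟩
  · intro i x y h
    exact F_inj F hF hc i x y h

end Groth.Agent.H9.AdeqFC
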