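import Mathlib
import Groth.Prelude.Def_Red2

namespace Groth.Agent.H9.FibreMul

open CategoryTheory CategoryTheory.Limits MonoidalCategory CartesianMonoidalCategory MonObj GrpObj AlgebraicGeometry

universe v u

section cat

variable {C : Type u} [Category.{v} C] [CartesianMonoidalCategory C] {G P Q I : C} [GrpObj G] [GrpObj Q]

/-- `P ×_G Q` is the fibre over the unit of `(a,b) ↦ p(a) q(b)` via `(a,b) ↦ (a,b⁻¹)` -/
theorem isPullback_fibre (p : P ⟶ G) (q : Q ⟶ G) [IsMonHom q] (m : I ⟶ P) (m' : I ⟶ Q)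
    (hI : IsPullback m m' p q) :
    IsPullback (lift m (m'⁻¹)) (toUnit I) ((p ⊗ₘ q) ≫ μ[G]) η[G] := by
  have hw : lift m (m'⁻¹) ≫ (p ⊗ₘ q) ≫ μ[G] = toUnit I ≫ η[G] := by
    rw [lift_map_assoc, ← Hom.mul_def, GrpObj.inv_comp, ← hI.w, mul_inv_cancel, Hom.one_def]
  have hcond : ∀ s : PullbackCone ((p ⊗ₘ q) ≫ μ[G]) η[G],
      (s.fst ≫ fst P Q) ≫ p = (s.fst ≫ snd P Q)⁻¹ ≫ q := by
    intro s
    have h1 := s.condition
    have h2 : s.fst = lift (s.fst ≫ fst P Q) (s.fst ≫ snd P Q) := by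
      ext <;> simp
    rw [h2, lift_map_assoc, ← Hom.mul_def] at h1
    have h3 : s.snd ≫ η[G] = 1 := by
      rw [Hom.one_def]; congr 1; exact toUnit_unique _ _
    rw [h3] at h1
    rw [GrpObj.inv_comp]
    have h4 := eq_inv_of_mul_eq_one_left h1
    simpa only [lift_fst, lift_snd] using h4
  refine ⟨⟨hw⟩, ⟨PullbackCone.IsLimit.mk hw
    (fun s => hI.lift (s.fst ≫ fst P Q) ((s.fst ≫ snd P Q)⁻¹) (hcond s)) ?_ ?_ ?_⟩⟩
  · intro s
    ext
    · rw [Category.assoc, lift_fst, hI.lift_fst]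
    · rw [Category.assoc, lift_snd, GrpObj.comp_inv, hI.lift_snd, _root_.inv_inv]
  · intro s
    exact toUnit_unique _ _
  · intro s m₁ h1 _
    apply hI.hom_ext
    · rw [hI.lift_fst, ← h1, Category.assoc, lift_fst]
    · rw [hI.lift_snd, ← h1, Category.assoc, lift_snd, GrpObj.comp_inv, _root_.inv_inv]

end cat

theorem smooth_of_transversal {S : Scheme.{u}} {G P Q I : Over S} [GrpObj G] [GrpObj Q]
    (p : P ⟶ G) (q : Q ⟶ G) [IsMonHom q]
    (htr : Smooth ((p ⊗ₘ q) ≫ μ[G]).left) (m : I ⟶ P) (m' : I ⟶ Q) (hI : IsPullback m m' p q) :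
    Smooth I.hom := by
  have h2 := (isPullback_fibre p q m m' hI).map (Over.forget S)
  have : Smooth ((Over.forget S).map (toUnit I)) :=
    MorphismProperty.of_isPullback (P := @Smooth) h2 htr
  exact this

end Groth.Agent.H9.FibreMul
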