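import Mathlib
import Groth.Prelude.Def_CInt
import Groth.Agent.Lib.Helper5.AlgSp.SchDenseQC
import Groth.Agent.Lib.Helper9.Misc.StdExt
import Groth.Agent.Lib.Helper9.Misc.SchClos
import Groth.Agent.Lib.Helper9.Misc.FibreMul

set_option linter.style.haveILetI false

namespace Groth.Agent.H9.AlignSep

open CategoryTheory CategoryTheory.Limits MonoidalCategory CartesianMonoidalCategory MonObj GrpObj
  AlgebraicGeometry

universe u

variable {S : Scheme.{u}}

/-- a group scheme whose unit section is a closed immersion is separated -/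
theorem isSeparated_of_closed_unit (H : Over S) [GrpObj H] [IsClosedImmersion η[H].left] :
    IsSeparated H.hom := by
  have h1 := (FibreMul.isPullback_fibre (𝟙 H) (𝟙 H) (𝟙 H) (𝟙 H)
    (IsPullback.id_horiz (𝟙 H))).map (Over.forget S)
  have h2 : IsClosedImmersion ((Over.forget S).map (lift (𝟙 H) ((𝟙 H)⁻¹))) :=
    MorphismProperty.of_isPullback (P := @IsClosedImmersion) h1.flip
      (inferInstanceAs (IsClosedImmersion η[H].left))
  have h3 : lift (𝟙 H) ((𝟙 H)⁻¹) ≫ (H ◁ ι[H]) = lift (𝟙 H) (𝟙 H) := by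
    rw [lift_whiskerLeft, ← Hom.inv_def, _root_.inv_inv]
  have h4 : pullback.diagonal H.hom = (lift (𝟙 H) ((𝟙 H)⁻¹) ≫ (H ◁ ι[H])).left := by
    rw [h3]; rfl
  haveI : IsIso (H ◁ ι[H]).left :=
    inferInstanceAs (IsIso ((Over.forget S).map (H ◁ ι[H])))
  haveI : IsClosedImmersion (lift (𝟙 H) ((𝟙 H)⁻¹)).left := h2
  exact ⟨by rw [h4, Over.comp_left]; infer_instance⟩

/-- the unit section of an aligned subgroup of a weak Néron model is a closed immersion -/
theorem closed_unit (S₀ : S.Opens) [IsSchemeTheoreticallyDominant S₀.ι] [QuasiCompact S₀.ι]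
    (G : Over S)
    (hG : ∀ U : Over S, Etale U.hom →
      Function.Injective (fun g : U ⟶ G => (Over.pullback S₀.ι).map g))
    (H : Over S) [GrpObj H] [QuasiSeparated H.hom] (j : H ⟶ G) [Mono j.left]
    (hal : Etale (η[H].left.ker.subschemeι ≫ H.hom))
    (h0 : IsSeparated (Limits.pullback.snd H.hom S₀.ι)) :
    IsClosedImmersion η[H].left := by
  have he : η[H].left ≫ H.hom = 𝟙 S := Over.w η[H]
  haveI : QuasiCompact (η[H].left ≫ H.hom) := by
    rw [he]; exact (inferInstance : QuasiCompact (𝟙 S))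
  haveI : QuasiCompact η[H].left := QuasiCompact.of_comp η[H].left H.hom
  haveI : IsSchemeTheoreticallyDominant η[H].left.toImage :=
    ⟨SchClos.ker_toImage_eq_bot η[H].left⟩
  -- notation
  have hfac : η[H].left.toImage ≫ η[H].left.imageι = η[H].left := η[H].left.toImage_imageι
  have hsec : η[H].left.toImage ≫ η[H].left.imageι ≫ H.hom = 𝟙 S := by
    rw [← Category.assoc, hfac, he]
  have hsec2 : η[H].left.toImage ≫ η[H].left.imageι ≫ H.hom ≫ η[H].left = η[H].left :=
    ((reassoc_of% hsec) η[H].left).trans (Category.id_comp _)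
  -- the two morphisms from the étale scheme `E` to `G`
  let a' : Over.mk (η[H].left.imageι ≫ H.hom) ⟶ G :=
    Over.homMk (η[H].left.imageι ≫ j.left) (by
      simp only [Over.mk_hom, Category.assoc, Over.w j])
  let b' : Over.mk (η[H].left.imageι ≫ H.hom) ⟶ G :=
    Over.homMk ((η[H].left.imageι ≫ H.hom) ≫ η[H].left ≫ j.left) (by
      simp only [Over.mk_hom, Category.assoc, Over.w j]
      rw [he, Category.comp_id])
  -- agreement over `S₀`
  have key : pullback.fst (η[H].left.imageι ≫ H.hom) S₀.ι ≫ η[H].left.imageι =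
      pullback.fst (η[H].left.imageι ≫ H.hom) S₀.ι ≫ (η[H].left.imageι ≫ H.hom) ≫ η[H].left := by
    have c₁ : (pullback.fst (η[H].left.imageι ≫ H.hom) S₀.ι ≫ η[H].left.imageι) ≫ H.hom =
        pullback.snd (η[H].left.imageι ≫ H.hom) S₀.ι ≫ S₀.ι := by
      rw [Category.assoc, pullback.condition]
    have c₂ : (pullback.fst (η[H].left.imageι ≫ H.hom) S₀.ι ≫ (η[H].left.imageι ≫ H.hom) ≫
        η[H].left) ≫ H.hom = pullback.snd (η[H].left.imageι ≫ H.hom) S₀.ι ≫ S₀.ι := by
      simp only [Category.assoc]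
      rw [he, Category.comp_id]
      exact pullback.condition
    have c₃ : (S₀.ι ≫ η[H].left.toImage) ≫ η[H].left.imageι ≫ H.hom = 𝟙 _ ≫ S₀.ι := by
      rw [Category.assoc, hsec, Category.comp_id, Category.id_comp]
    -- the dense section of `E₀`
    have hd1 : pullback.lift (S₀.ι ≫ η[H].left.toImage) (𝟙 _) c₃ ≫
        pullback.snd (η[H].left.imageι ≫ H.hom) S₀.ι = 𝟙 _ := pullback.lift_snd _ _ _
    have hd2 : pullback.lift (S₀.ι ≫ η[H].left.toImage) (𝟙 _) c₃ ≫
        pullback.fst (η[H].left.imageι ≫ H.hom) S₀.ι = S₀.ι ≫ η[H].left.toImage :=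
      pullback.lift_fst _ _ _
    haveI : IsSchemeTheoreticallyDominant (pullback.lift (S₀.ι ≫ η[H].left.toImage) (𝟙 _) c₃) := by
      have so : IsPullback (pullback.lift (S₀.ι ≫ η[H].left.toImage) (𝟙 _) c₃ ≫
          pullback.snd (η[H].left.imageι ≫ H.hom) S₀.ι) S₀.ι S₀.ι
          (η[H].left.toImage ≫ η[H].left.imageι ≫ H.hom) := by
        rw [hd1, hsec]; exact IsPullback.id_horiz S₀.ι
      have t : IsPullback (pullback.snd (η[H].left.imageι ≫ H.hom) S₀.ι)
          (pullback.fst (η[H].left.imageι ≫ H.hom) S₀.ι) S₀.ι (η[H].left.imageι ≫ H.hom) :=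
        (IsPullback.of_hasPullback _ _).flip
      exact IsSchemeTheoreticallyDominant.of_isPullback (IsPullback.of_right so hd2 t).flip
    have hext := StdExt.ext_of_std (pullback.snd H.hom S₀.ι)
      (f := pullback.lift _ _ c₁) (g := pullback.lift _ _ c₂)
      (by rw [pullback.lift_snd, pullback.lift_snd])
      (pullback.lift (S₀.ι ≫ η[H].left.toImage) (𝟙 _) c₃) (by
        apply pullback.hom_ext
        · simp only [Category.assoc, pullback.lift_fst]
          rw [reassoc_of% hd2, reassoc_of% hd2, hfac, hsec2]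
        · simp only [Category.assoc, pullback.lift_snd])
    have := congrArg (fun m => m ≫ pullback.fst H.hom S₀.ι) hext
    simpa only [pullback.lift_fst] using this
  have hab : (Over.pullback S₀.ι).map a' = (Over.pullback S₀.ι).map b' := by
    apply Over.OverMorphism.ext
    simp only [Over.pullback_map_left]
    apply pullback.hom_ext
    · simp only [pullback.lift_fst]
      show pullback.fst (η[H].left.imageι ≫ H.hom) S₀.ι ≫ η[H].left.imageι ≫ j.left =
        pullback.fst (η[H].left.imageι ≫ H.hom) S₀.ι ≫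
          ((η[H].left.imageι ≫ H.hom) ≫ η[H].left ≫ j.left)
      rw [reassoc_of% key]
      simp only [Category.assoc]
    · simp only [pullback.lift_snd]
  have hab' : a' = b' := hG (Over.mk (η[H].left.imageι ≫ H.hom)) hal hab
  have h5 : η[H].left.imageι ≫ j.left = ((η[H].left.imageι ≫ H.hom) ≫ η[H].left) ≫ j.left := by
    have := congrArg (fun m => m.left) hab'
    simpa only [a', b', Over.homMk_left, Category.assoc] using this
  have h6 : η[H].left.imageι = (η[H].left.imageι ≫ H.hom) ≫ η[H].left :=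
    (cancel_mono j.left).mp h5
  have h7 : (η[H].left.imageι ≫ H.hom) ≫ η[H].left.toImage = 𝟙 _ := by
    rw [← cancel_mono η[H].left.imageι, Category.assoc, hfac, ← h6, Category.id_comp]
  haveI : IsIso η[H].left.toImage :=
    ⟨⟨η[H].left.imageι ≫ H.hom, hsec, h7⟩⟩
  rw [← hfac]
  infer_instance

theorem main [IsLocallyNoetherian S] (S₀ : S.Opens) (hS₀ : CInt.IsSchematicallyDense S₀)
    (G : Over S)
    (hG : ∀ U : Over S, Etale U.hom →
      Function.Bijective (fun g : U ⟶ G => (Over.pullback S₀.ι).map g))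
    (H : Over S) [GrpObj H] [Smooth H.hom] (j : H ⟶ G) [Mono j.left]
    (hal : Etale (η[H].left.ker.subschemeι ≫ H.hom))
    (h0 : IsSeparated (Limits.pullback.snd H.hom S₀.ι)) :
    IsSeparated H.hom := by
  haveI : IsSchemeTheoreticallyDominant S₀.ι :=
    ⟨Groth.Agent.H5.AlgSp.ker_eq_bot_of_isSchematicallyDense hS₀⟩
  haveI : IsLocallyNoetherian H.left := LocallyOfFiniteType.isLocallyNoetherian H.hom
  haveI : QuasiSeparated H.hom := inferInstance
  haveI := closed_unit S₀ G (fun U hU => (hG U hU).1) H j hal h0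
  exact isSeparated_of_closed_unit H

end Groth.Agent.H9.AlignSep
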