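import Mathlib
import Groth.Prelude.Def_SymTen
import Groth.Prelude.Def_W4c5normfunctorschNorm

/-! Helper9: symmetric tensors preserve the alternating span on finite projective modules (S17910) -/

set_option linter.style.haveILetI false

namespace Groth.Agent.H9.AltTS
open scoped TensorProduct

universe u
variable {R : Type u} [CommRing R] {d : ℕ}

section mods
variable {P : Type u} [AddCommGroup P] [Module R P] {F : Type u} [AddCommGroup F] [Module R F]

/-- `t + τ t` lies in `altSpan` for a transposition `τ` -/
lemma tprod_add_swap_mem (p : Fin d → P) (i j : Fin d) (hij : i ≠ j) :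
    PiTensorProduct.tprod R p + PiTensorProduct.tprod R (fun k => p (Equiv.swap i j k)) ∈
      SymTen.altSpan R P d := by
  classical
  have hgen : ∀ v : P, PiTensorProduct.tprod R (Function.update (Function.update p i v) j v) ∈
      SymTen.altSpan R P d := by
    intro v
    refine Submodule.subset_span ⟨_, i, j, hij, ?_, rfl⟩
    rw [Function.update_self, Function.update_of_ne hij, Function.update_self]
  have hadd2 : ∀ (m : Fin d → P) (v v' : P),
      PiTensorProduct.tprod R (Function.update m j (v + v')) =
        PiTensorProduct.tprod R (Function.update m j v) +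
          PiTensorProduct.tprod R (Function.update m j v') :=
    fun m v v' => (PiTensorProduct.tprod R).map_update_add m j v v'
  have hadd1 : ∀ (u u' v : P),
      PiTensorProduct.tprod R (Function.update (Function.update p i (u + u')) j v) =
        PiTensorProduct.tprod R (Function.update (Function.update p i u) j v) +
          PiTensorProduct.tprod R (Function.update (Function.update p i u') j v) := by
    intro u u' v
    rw [Function.update_comm hij, (PiTensorProduct.tprod R).map_update_add,
      Function.update_comm hij u v p, Function.update_comm hij u' v p]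
  have h1 := hgen (p i + p j)
  rw [hadd2, hadd1, hadd1] at h1
  have h2 := hgen (p i)
  have h3 := hgen (p j)
  have e1 : Function.update (Function.update p i (p i)) j (p j) = p := by
    rw [Function.update_eq_self, Function.update_eq_self]
  have e2 : Function.update (Function.update p i (p j)) j (p i) =
      fun k => p (Equiv.swap i j k) := by
    funext k
    by_cases hkj : k = j
    · subst hkj; rw [Function.update_self, Equiv.swap_apply_right]
    · by_cases hki : k = i
      · subst hki
        rw [Function.update_of_ne hkj, Function.update_self, Equiv.swap_apply_left]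
      · rw [Function.update_of_ne hkj, Function.update_of_ne hki,
          Equiv.swap_apply_of_ne_of_ne hki hkj]
  rw [e1, e2] at h1
  have h4 := Submodule.sub_mem _ (Submodule.sub_mem _ h1 h2) h3
  convert h4 using 1
  abel

/-- the functorial map on tensor powers sends `altSpan` into `altSpan` -/
lemma map_altSpan (f : F →ₗ[R] P) (x : ⨂[R] _ : Fin d, F) (hx : x ∈ SymTen.altSpan R F d) :
    PiTensorProduct.map (fun _ : Fin d => f) x ∈ SymTen.altSpan R P d := by
  unfold SymTen.altSpan at hx
  induction hx using Submodule.span_induction with
  | zero => rw [map_zero]; exact Submodule.zero_mem _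
  | add x y _ _ hx hy => rw [map_add]; exact Submodule.add_mem _ hx hy
  | smul a x _ hx => rw [map_smul]; exact Submodule.smul_mem _ _ hx
  | mem x hx =>
    obtain ⟨p, i, j, hij, hp, rfl⟩ := hx
    rw [PiTensorProduct.map_tprod]
    exact Submodule.subset_span ⟨_, i, j, hij, by rw [hp], rfl⟩

lemma map_reindex' (f : F →ₗ[R] P) (σ : Equiv.Perm (Fin d)) (x : ⨂[R] _ : Fin d, F) :
    PiTensorProduct.map (fun _ : Fin d => f) (PiTensorProduct.reindex R (fun _ : Fin d => F) σ x) =
      PiTensorProduct.reindex R (fun _ : Fin d => P) σ (PiTensorProduct.map (fun _ : Fin d => f) x) := by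
  induction x using PiTensorProduct.induction_on with
  | smul_tprod r g =>
    simp only [map_smul, PiTensorProduct.reindex_tprod, PiTensorProduct.map_tprod]
  | add x y hx hy => simp only [map_add, hx, hy]

end mods

section free
variable {F : Type u} [AddCommGroup F] [Module R F] {κ : Type*}

/-- invariants of a transposition lie in `altSpan`, free case -/
lemma mem_altSpan_of_swap_free (b : Module.Basis κ R F) (i j : Fin d) (hij : i ≠ j) (y : ⨂[R] _ : Fin d, F)
    (hy : PiTensorProduct.reindex R (fun _ : Fin d => F) (Equiv.swap i j) y = y) :
    y ∈ SymTen.altSpan R F d := by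
  classical
  set B := Basis.piTensorProduct (fun _ : Fin d => b) with hB
  set τ : Equiv.Perm (Fin d) := Equiv.swap i j with hτ
  have hBτ : ∀ c : Fin d → κ, PiTensorProduct.reindex R (fun _ : Fin d => F) τ (B c) =
      B (fun k => c (τ k)) := by
    intro c
    rw [hB, Basis.piTensorProduct_apply, Basis.piTensorProduct_apply, PiTensorProduct.reindex_tprod]
    congr 1
  -- coefficients are invariant
  have hcoef : ∀ c : Fin d → κ, B.repr y (fun k => c (τ k)) = B.repr y c := by
    intro c
    have h1 : B.repr (PiTensorProduct.reindex R (fun _ : Fin d => F) τ y) (fun k => c (τ k)) =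
        B.repr y c := by
      conv_lhs => rw [← B.linearCombination_repr y]
      rw [Finsupp.linearCombination_apply, Finsupp.sum, map_sum, map_sum, Finsupp.finsetSum_apply]
      simp only [map_smul, hBτ, Module.Basis.repr_self, Finsupp.smul_apply, smul_eq_mul]
      rw [Finset.sum_eq_single c]
      · rw [Finsupp.single_eq_same, mul_one]
      · intro c' _ hc'
        rw [Finsupp.single_eq_of_ne, mul_zero]
        intro h
        apply hc'
        funext k
        have := congrFun h (τ k)
        simp only [hτ, Equiv.swap_apply_self] at this
        exact this.symm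
      · intro hc
        rw [Finsupp.notMem_support_iff.mp hc, zero_mul]
    rw [hy] at h1
    exact h1
  rw [← Submodule.Quotient.mk_eq_zero]
  conv_lhs => rw [← B.linearCombination_repr y]
  rw [Finsupp.linearCombination_apply, Finsupp.sum, ← Submodule.mkQ_apply, map_sum]
  refine Finset.sum_involution (fun c _ => fun k => c (τ k)) ?_ ?_ ?_ ?_
  · intro c _
    rw [hcoef c, map_smul, map_smul, ← smul_add, ← map_add, Submodule.mkQ_apply,
      (Submodule.Quotient.mk_eq_zero _).mpr, smul_zero]
    rw [hB, Basis.piTensorProduct_apply, Basis.piTensorProduct_apply]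
    exact tprod_add_swap_mem (fun k => b (c k)) i j hij
  · intro c _ hne hfix
    apply hne
    have hcij : c i = c j := by
      have := congrFun hfix i
      simp only [hτ, Equiv.swap_apply_left] at this
      exact this.symm
    rw [map_smul, Submodule.mkQ_apply, (Submodule.Quotient.mk_eq_zero _).mpr, smul_zero]
    rw [hB, Basis.piTensorProduct_apply]
    exact Submodule.subset_span ⟨_, i, j, hij, by rw [hcij], rfl⟩
  · intro c hc
    rw [Finsupp.mem_support_iff] at hc ⊢
    rw [hcoef c]
    exact hc
  · intro c _
    funext k
    simp only [hτ, Equiv.swap_apply_self]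

end free

section proj
variable {P : Type u} [AddCommGroup P] [Module R P] [Module.Finite R P] [Module.Projective R P]

/-- invariants of a transposition lie in `altSpan`, finite projective case -/
lemma mem_altSpan_of_swap (i j : Fin d) (hij : i ≠ j) (y : ⨂[R] _ : Fin d, P)
    (hy : PiTensorProduct.reindex R (fun _ : Fin d => P) (Equiv.swap i j) y = y) :
    y ∈ SymTen.altSpan R P d := by
  obtain ⟨n, f, g, -, -, hfg⟩ := Module.Finite.exists_comp_eq_id_of_projective R P
  set y' := PiTensorProduct.map (fun _ : Fin d => g) y with hy'
  have h1 : PiTensorProduct.reindex R (fun _ : Fin d => (Fin n → R)) (Equiv.swap i j) y' = y' := by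
    rw [hy', ← map_reindex', hy]
  have h2 := mem_altSpan_of_swap_free (Pi.basisFun R (Fin n)) i j hij y' h1
  have h3 := map_altSpan f y' h2
  have h4 : PiTensorProduct.map (fun _ : Fin d => f) y' = y := by
    rw [hy', ← LinearMap.comp_apply, ← PiTensorProduct.map_comp]
    simp only [hfg]
    rw [PiTensorProduct.map_id]
    rfl
  rw [h4] at h3
  exact h3

end proj

section act
variable {A : Type u} [CommRing A] [Algebra R A]
  {P : Type u} [AddCommGroup P] [Module R P] [Module A P] [IsScalarTower R A P]

lemma tpowAct_tprod (a : Fin d → A) (p : Fin d → P) :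
    SymTen.tpowAct R A P d (PiTensorProduct.tprod R a) (PiTensorProduct.tprod R p) =
      PiTensorProduct.tprod R (fun k => a k • p k) := by
  rw [SymTen.tpowAct, PiTensorProduct.lift.tprod]
  simp [PiTensorProduct.mapMultilinear_apply, PiTensorProduct.map_tprod]

lemma reindex_tpowAct (σ : Equiv.Perm (Fin d)) (a : ⨂[R] _ : Fin d, A) (x : ⨂[R] _ : Fin d, P) :
    PiTensorProduct.reindex R (fun _ : Fin d => P) σ (SymTen.tpowAct R A P d a x) =
      SymTen.tpowAct R A P d (PiTensorProduct.reindex R (fun _ : Fin d => A) σ a)
        (PiTensorProduct.reindex R (fun _ : Fin d => P) σ x) := by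
  induction a using PiTensorProduct.induction_on with
  | smul_tprod r a =>
    induction x using PiTensorProduct.induction_on with
    | smul_tprod s p =>
      simp only [map_smul, LinearMap.smul_apply, PiTensorProduct.reindex_tprod, tpowAct_tprod]
    | add x y hx hy => simp only [map_add, hx, hy]
  | add a a' ha ha' => simp only [map_add, LinearMap.add_apply, ha, ha']

theorem S17910_main [Module.Finite R P] [Module.Projective R P]
    (a : ⨂[R] _ : Fin d, A) (ha : a ∈ SymTen.TS R A d)
    (x : ⨂[R] _ : Fin d, P) (hx : x ∈ SymTen.altSpan R P d) :
    SymTen.tpowAct R A P d a x ∈ SymTen.altSpan R P d := by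
  unfold SymTen.altSpan at hx
  induction hx using Submodule.span_induction with
  | zero => rw [map_zero]; exact Submodule.zero_mem _
  | add x y _ _ hx hy => rw [map_add]; exact Submodule.add_mem _ hx hy
  | smul r x _ hx => rw [map_smul]; exact Submodule.smul_mem _ _ hx
  | mem x hx =>
    obtain ⟨p, i, j, hij, hp, rfl⟩ := hx
    refine mem_altSpan_of_swap i j hij _ ?_
    rw [reindex_tpowAct, ha (Equiv.swap i j), PiTensorProduct.reindex_tprod]
    congr 2
    funext k
    simp only [Equiv.symm_swap]
    by_cases hki : k = i
    · subst hki; rw [Equiv.swap_apply_left, hp]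
    · by_cases hkj : k = j
      · subst hkj; rw [Equiv.swap_apply_right, hp]
      · rw [Equiv.swap_apply_of_ne_of_ne hki hkj]

end act

end Groth.Agent.H9.AltTS
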