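import Mathlib
import Groth.Agent.Lib.Helper3.CA.CplMap
import Groth.Agent.Lib.Helper8.Hens.SmoothReduced
import Groth.Agent.Lib.Helper9.AdicComplete
import Groth.Agent.S0543

/-!
# Analytic reducedness ascends along etale local homomorphisms
-/

set_option autoImplicit false
universe u
open IsLocalRing

namespace Groth.Agent.H9.AnRed

/-- Complete Nakayama: a local algebra over a complete Noetherian local ring which is separated
and whose residue field is finite over the base residue field (with `𝔪_R E = 𝔪_E`) is finite. -/
theorem finite_of_complete (R : Type u) [CommRing R] [IsLocalRing R]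
    [IsAdicComplete (maximalIdeal R) R]
    (E : Type u) [CommRing E] [IsLocalRing E] [Algebra R E] [IsLocalHom (algebraMap R E)]
    [IsHausdorff (maximalIdeal E) E]
    (hmap : (maximalIdeal R).map (algebraMap R E) = maximalIdeal E)
    [Module.Finite (ResidueField R) (ResidueField E)] : Module.Finite R E := by
  classical
  obtain ⟨r, t, ht⟩ := Module.Finite.exists_fin (R := ResidueField R) (M := ResidueField E)
  choose v hv using fun i => IsLocalRing.residue_surjective (t i)
  haveI : IsAdicComplete (maximalIdeal R) (Fin r → R) :=
    Groth.Agent.H9.isAdicComplete_pi (maximalIdeal R) (fun _ : Fin r => R)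
  haveI : IsHausdorff (maximalIdeal R) E := by
    have h1 : IsHausdorff ((maximalIdeal R).map (algebraMap R E)) E := by
      rw [hmap]; infer_instance
    exact IsHausdorff.map_algebraMap_iff.mp h1
  have key : ∀ x : R, residue E (algebraMap R E x) =
      algebraMap (ResidueField R) (ResidueField E) (residue R x) := fun x =>
    (IsLocalRing.ResidueField.map_residue (algebraMap R E) x).symm
  have hsurj : Function.Surjective (Fintype.linearCombination R v) := by
    apply surjective_of_mkQ_comp_surjective (I := maximalIdeal R)
    intro y
    obtain ⟨e, rfl⟩ := Submodule.mkQ_surjective _ y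
    have hmem : residue E e ∈ Submodule.span (ResidueField R) (Set.range t) := by
      rw [ht]; trivial
    obtain ⟨c, hc⟩ := (Submodule.mem_span_range_iff_exists_fun (ResidueField R)).mp hmem
    choose c' hc' using fun i => IsLocalRing.residue_surjective (c i)
    refine ⟨c', ?_⟩
    rw [LinearMap.comp_apply, Submodule.mkQ_apply, Submodule.mkQ_apply, Submodule.Quotient.eq,
      Ideal.smul_top_eq_map, Submodule.restrictScalars_mem, hmap,
      ← IsLocalRing.residue_eq_zero_iff, map_sub, Fintype.linearCombination_apply, map_sum,
      sub_eq_zero, ← hc]
    refine Finset.sum_congr rfl fun i _ => ?_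
    rw [Algebra.smul_def, map_mul, key, hv i, hc' i, Algebra.smul_def]
  exact Module.Finite.of_surjective _ hsurj

/-- Abstract core: a flat local extension `R → E` of a reduced complete Noetherian local ring,
unramified with finite separable residue extension, is reduced. -/
theorem core (A B R E : Type u) [CommRing A] [CommRing B] [CommRing R] [CommRing E]
    [IsLocalRing A] [IsLocalRing B] [IsLocalRing R] [IsLocalRing E]
    [IsNoetherianRing R]
    [Algebra A B] [Algebra A R] [Algebra B E] [Algebra R E] [Algebra A E]
    [IsScalarTower A R E] [IsScalarTower A B E]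
    [IsLocalHom (algebraMap A B)] [IsLocalHom (algebraMap A R)] [IsLocalHom (algebraMap B E)]
    [Module.Finite (ResidueField A) (ResidueField B)]
    [Algebra.IsSeparable (ResidueField A) (ResidueField B)]
    (hAR : Function.Bijective (ResidueField.map (algebraMap A R)))
    (hBE : Function.Bijective (ResidueField.map (algebraMap B E)))
    (hmR : maximalIdeal R = (maximalIdeal A).map (algebraMap A R))
    (hmE : maximalIdeal E = (maximalIdeal B).map (algebraMap B E))
    (hmB : (maximalIdeal A).map (algebraMap A B) = maximalIdeal B)
    [IsAdicComplete (maximalIdeal R) R] [IsHausdorff (maximalIdeal E) E]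
    [Module.Flat R E] [IsReduced R] : IsReduced E := by
  have hmap : (maximalIdeal R).map (algebraMap R E) = maximalIdeal E := by
    rw [hmR, Ideal.map_map, ← IsScalarTower.algebraMap_eq A R E,
      IsScalarTower.algebraMap_eq A B E, ← Ideal.map_map, hmB, ← hmE]
  haveI : IsLocalHom (algebraMap R E) :=
    ((IsLocalRing.local_hom_TFAE (algebraMap R E)).out 0 2).mpr hmap.le
  obtain ⟨e₁, he₁⟩ : ∃ e : ResidueField A ≃+* ResidueField R,
      ∀ x, e x = ResidueField.map (algebraMap A R) x :=
    ⟨RingEquiv.ofBijective _ hAR, fun _ => rfl⟩
  obtain ⟨e₂, he₂⟩ : ∃ e : ResidueField B ≃+* ResidueField E,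
      ∀ x, e x = ResidueField.map (algebraMap B E) x :=
    ⟨RingEquiv.ofBijective _ hBE, fun _ => rfl⟩
  have he : RingHom.comp (algebraMap (ResidueField R) (ResidueField E))
      (e₁ : ResidueField A →+* ResidueField R) =
      RingHom.comp (e₂ : ResidueField B →+* ResidueField E)
        (algebraMap (ResidueField A) (ResidueField B)) := by
    refine RingHom.ext fun x => ?_
    obtain ⟨a, rfl⟩ := IsLocalRing.residue_surjective x
    simp only [RingHom.comp_apply, RingHom.coe_coe, he₁, he₂]
    show ResidueField.map (algebraMap R E) (ResidueField.map (algebraMap A R) (residue A a)) =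
      ResidueField.map (algebraMap B E) (ResidueField.map (algebraMap A B) (residue A a))
    rw [ResidueField.map_residue, ResidueField.map_residue, ResidueField.map_residue,
      ResidueField.map_residue, ← IsScalarTower.algebraMap_apply A R E,
      ← IsScalarTower.algebraMap_apply A B E]
  haveI : Algebra.IsSeparable (ResidueField R) (ResidueField E) :=
    Algebra.IsSeparable.of_equiv_equiv e₁ e₂ he
  haveI : Module.Finite (ResidueField R) (ResidueField E) :=
    Module.Finite.of_equiv_equiv e₁ e₂ he
  haveI : Module.Finite R E := finite_of_complete R E hmap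
  haveI : Algebra.FiniteType R E := inferInstance
  haveI : Algebra.FinitePresentation R E :=
    Algebra.FinitePresentation.of_finiteType.mp inferInstance
  haveI : Algebra.EssFiniteType R E := inferInstance
  haveI : Algebra.FormallyUnramified R E := Algebra.FormallyUnramified.of_map_maximalIdeal hmap
  haveI : Algebra.Etale R E := Algebra.Etale.of_formallyUnramified_of_flat
  haveI : Algebra.Smooth R E :=
    (Algebra.Etale.iff_formallyUnramified_and_smooth.mp inferInstance).2
  exact Groth.Agent.H8.Hens.isReduced_of_smooth R E

/-- The local ring at an etale point is flat over the base. -/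
theorem flat_of_isEtaleAt (A C : Type u) [CommRing A] [CommRing C] [Algebra A C]
    [Algebra.FinitePresentation A C] (q : Ideal C) [q.IsPrime] (hC : Algebra.IsEtaleAt A q) :
    Module.Flat A (Localization.AtPrime q) := by
  haveI := hC
  obtain ⟨f, hf, hE⟩ := Algebra.exists_etale_of_isEtaleAt (R := A) q
  haveI : Algebra.Smooth A (Localization.Away f) :=
    (Algebra.Etale.iff_formallyUnramified_and_smooth.mp hE).2
  haveI : Module.Flat A (Localization.Away f) := Algebra.Smooth.flat A _
  have hfu : IsUnit (algebraMap C (Localization.AtPrime q) f) :=
    IsLocalization.map_units (M := q.primeCompl) _ ⟨f, hf⟩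
  letI alg : Algebra (Localization.Away f) (Localization.AtPrime q) :=
    (IsLocalization.Away.lift f (g := algebraMap C (Localization.AtPrime q)) hfu).toAlgebra
  haveI t1 : IsScalarTower C (Localization.Away f) (Localization.AtPrime q) :=
    IsScalarTower.of_algebraMap_eq fun c => (IsLocalization.Away.lift_eq f hfu c).symm
  haveI t2 : IsScalarTower A (Localization.Away f) (Localization.AtPrime q) :=
    IsScalarTower.of_algebraMap_eq fun a => by
      rw [IsScalarTower.algebraMap_apply A C (Localization.AtPrime q),
        IsScalarTower.algebraMap_apply A C (Localization.Away f),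
        ← IsScalarTower.algebraMap_apply C (Localization.Away f) (Localization.AtPrime q)]
  haveI : IsLocalization ((q.primeCompl).map (algebraMap C (Localization.Away f)))
      (Localization.AtPrime q) :=
    IsLocalization.isLocalization_of_submonoid_le (Localization.Away f) (Localization.AtPrime q)
      (Submonoid.powers f) q.primeCompl (Submonoid.powers_le.mpr hf)
  haveI : Module.Flat (Localization.Away f) (Localization.AtPrime q) :=
    IsLocalization.flat _ ((q.primeCompl).map (algebraMap C (Localization.Away f)))
  exact Module.Flat.trans A (Localization.Away f) (Localization.AtPrime q)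

theorem main (A C : Type u) [CommRing A] [IsLocalRing A]
    [IsNoetherianRing A] [CommRing C] [Algebra A C] [Algebra.FiniteType A C] (q : Ideal C) [q.IsPrime]
    (hq : Ideal.comap (algebraMap A C) q = IsLocalRing.maximalIdeal A) (hC : Algebra.IsEtaleAt A q)
    (hA : IsReduced (AdicCompletion (IsLocalRing.maximalIdeal A) A)) :
    IsReduced (AdicCompletion (IsLocalRing.maximalIdeal (Localization.AtPrime q)) (Localization.AtPrime q)) ∧
      IsReduced (Localization.AtPrime q) := by
  haveI : IsNoetherianRing C := Algebra.FiniteType.isNoetherianRing A C
  haveI : Algebra.FinitePresentation A C :=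
    Algebra.FinitePresentation.of_finiteType.mp inferInstance
  haveI : IsNoetherianRing (Localization.AtPrime q) :=
    IsLocalization.isNoetherianRing q.primeCompl _ inferInstance
  haveI hloc : IsLocalHom (algebraMap A (Localization.AtPrime q)) := ⟨fun a ha => by
    by_contra h
    have h1 : a ∈ maximalIdeal A := (IsLocalRing.mem_maximalIdeal a).mpr h
    rw [← hq, Ideal.mem_comap] at h1
    have h2 : algebraMap C (Localization.AtPrime q) (algebraMap A C a) ∈
        maximalIdeal (Localization.AtPrime q) :=
      (IsLocalization.AtPrime.to_map_mem_maximal_iff _ q _).mpr h1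
    rw [← IsScalarTower.algebraMap_apply] at h2
    exact (IsLocalRing.mem_maximalIdeal _).mp h2 ha⟩
  haveI : Algebra.EssFiniteType C (Localization.AtPrime q) :=
    Algebra.EssFiniteType.of_isLocalization _ q.primeCompl
  haveI : Algebra.EssFiniteType A (Localization.AtPrime q) :=
    Algebra.EssFiniteType.comp A C _
  haveI hunr : Algebra.FormallyUnramified A (Localization.AtPrime q) :=
    (Algebra.FormallyEtale.iff_formallyUnramified_and_formallySmooth.mp hC).1
  haveI : Module.Flat A (Localization.AtPrime q) := flat_of_isEtaleAt A C q hC
  have hmB := Algebra.FormallyUnramified.map_maximalIdeal (R := A) (S := Localization.AtPrime q)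
  have h1 : IsReduced (AdicCompletion (maximalIdeal (Localization.AtPrime q))
      (Localization.AtPrime q)) := by
    obtain ⟨inst, htower, hff⟩ := Groth.Agent.H3.CplMap.exists_cpl_tower A (Localization.AtPrime q)
    letI := inst
    haveI := htower
    haveI := hff
    haveI : IsScalarTower A (Localization.AtPrime q)
        (AdicCompletion (maximalIdeal (Localization.AtPrime q)) (Localization.AtPrime q)) :=
      Groth.Agent.H3.CplMap.isScalarTower_cpl A _
    haveI : IsNoetherianRing (AdicCompletion (maximalIdeal A) A) := Groth.Agent.S0543.result A _
    haveI := hA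
    exact core A (Localization.AtPrime q) (AdicCompletion (maximalIdeal A) A)
      (AdicCompletion (maximalIdeal (Localization.AtPrime q)) (Localization.AtPrime q))
      (AdicCompletion.residueField_map_bijective A)
      (AdicCompletion.residueField_map_bijective (Localization.AtPrime q))
      AdicCompletion.maximalIdeal_eq_map AdicCompletion.maximalIdeal_eq_map hmB
  refine ⟨h1, ?_⟩
  haveI := h1
  haveI : Module.Flat (Localization.AtPrime q)
      (AdicCompletion (maximalIdeal (Localization.AtPrime q)) (Localization.AtPrime q)) :=
    AdicCompletion.flat_of_isNoetherian _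
  haveI : Module.FaithfullyFlat (Localization.AtPrime q)
      (AdicCompletion (maximalIdeal (Localization.AtPrime q)) (Localization.AtPrime q)) :=
    Module.FaithfullyFlat.of_flat_of_isLocalHom
  exact isReduced_of_injective (algebraMap (Localization.AtPrime q)
      (AdicCompletion (maximalIdeal (Localization.AtPrime q)) (Localization.AtPrime q)))
    (FaithfulSMul.algebraMap_injective _ _)

end Groth.Agent.H9.AnRed
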