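import Mathlib

/-! Helper9: annihilators and flat base change -/

namespace Groth.Agent.H9.AnnFlat

open TensorProduct

universe u

theorem key {R S : Type*} [CommRing R] [CommRing S] [Algebra R S] [Module.Flat R S]
    {N : Type*} [AddCommGroup N] [Module R N] (g : R →ₗ[R] N) (s : S)
    (h : s ⊗ₜ[R] (g 1) = (0 : S ⊗[R] N)) : s ∈ Ideal.map (algebraMap R S) (LinearMap.ker g) := by
  have hex := Module.Flat.lTensor_exact S (LinearMap.exact_subtype_ker_map g)
  have h1 : (g.lTensor S) (s ⊗ₜ 1) = 0 := by rw [LinearMap.lTensor_tmul]; exact h
  obtain ⟨z, hz⟩ := (hex (s ⊗ₜ 1)).mp h1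
  have h2 : ∀ z : S ⊗[R] (LinearMap.ker g),
      TensorProduct.rid R S ((LinearMap.ker g).subtype.lTensor S z) ∈
        Ideal.map (algebraMap R S) (LinearMap.ker g) := by
    intro z
    induction z using TensorProduct.induction_on with
    | zero => simp
    | tmul x y =>
      rw [LinearMap.lTensor_tmul, TensorProduct.rid_tmul, Submodule.subtype_apply, Algebra.smul_def]
      exact Ideal.mul_mem_right _ _ (Ideal.mem_map_of_mem _ y.2)
    | add a b ha hb => rw [map_add, map_add]; exact Ideal.add_mem _ ha hb
  have := h2 z
  rw [hz, TensorProduct.rid_tmul, one_smul] at this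
  exact this

theorem main {R S : Type u} [CommRing R] [CommRing S] [Algebra R S] [Module.Flat R S] (M : Type u)
    [AddCommGroup M] [Module R M] :
    (∀ m : M, ((Submodule.span R {m}).annihilator).map (algebraMap R S) =
      (Submodule.span S {(1 : S) ⊗ₜ[R] m}).annihilator) ∧
    (Module.Finite R M → (Module.annihilator R M).map (algebraMap R S) =
      Module.annihilator S (S ⊗[R] M)) := by
  classical
  constructor
  · intro m
    apply le_antisymm
    · rw [Ideal.map_le_iff_le_comap]
      intro r hr
      rw [Submodule.mem_annihilator_span_singleton] at hr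
      rw [Ideal.mem_comap, Submodule.mem_annihilator_span_singleton, algebraMap_smul, ← TensorProduct.tmul_smul,
        hr, TensorProduct.tmul_zero]
    · intro s hs
      rw [Submodule.mem_annihilator_span_singleton] at hs
      have hs' : s ⊗ₜ[R] (LinearMap.toSpanSingleton R M m 1) = (0 : S ⊗[R] M) := by
        rw [LinearMap.toSpanSingleton_apply, one_smul]
        rw [TensorProduct.smul_tmul', smul_eq_mul, mul_one] at hs
        exact hs
      have := key (LinearMap.toSpanSingleton R M m) s hs'
      have hk : (LinearMap.ker (LinearMap.toSpanSingleton R M m) : Ideal R) = (Submodule.span R {m}).annihilator := by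
        ext r
        rw [LinearMap.mem_ker, LinearMap.toSpanSingleton_apply, Submodule.mem_annihilator_span_singleton]
      rw [hk] at this
      exact this
  · intro hfin
    apply le_antisymm
    · rw [Ideal.map_le_iff_le_comap]
      intro r hr
      rw [Module.mem_annihilator] at hr
      rw [Ideal.mem_comap, Module.mem_annihilator]
      intro z
      induction z using TensorProduct.induction_on with
      | zero => simp
      | tmul x y => rw [algebraMap_smul, ← TensorProduct.tmul_smul, hr, TensorProduct.tmul_zero]
      | add a b ha hb => rw [smul_add, ha, hb, add_zero]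
    · intro s hs
      rw [Module.mem_annihilator] at hs
      obtain ⟨T, hT⟩ := (Module.Finite.fg_top : (⊤ : Submodule R M).FG)
      let v : ↥T → M := fun i => i.1
      have hs' : s ⊗ₜ[R] (LinearMap.toSpanSingleton R (↥T → M) v 1) = (0 : S ⊗[R] (↥T → M)) := by
        rw [LinearMap.toSpanSingleton_apply, one_smul]
        have hv : v = ∑ i, Pi.single i (v i) := by
          funext j
          simp [Finset.sum_apply, Pi.single_apply]
        rw [hv, TensorProduct.tmul_sum]
        apply Finset.sum_eq_zero
        intro i _
        have h1 : s ⊗ₜ[R] (Pi.single i (v i) : ↥T → M) =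
            (LinearMap.single R (fun _ : ↥T => M) i).lTensor S (s ⊗ₜ[R] v i) := by
          rw [LinearMap.lTensor_tmul]; rfl
        have h2 : s ⊗ₜ[R] v i = (0 : S ⊗[R] M) := by
          have := hs ((1 : S) ⊗ₜ[R] v i)
          rw [TensorProduct.smul_tmul', smul_eq_mul, mul_one] at this
          exact this
        rw [h1, h2, map_zero]
      have := key (LinearMap.toSpanSingleton R (↥T → M) v) s hs'
      have hk : (LinearMap.ker (LinearMap.toSpanSingleton R (↥T → M) v) : Ideal R) = Module.annihilator R M := by
        ext r
        rw [LinearMap.mem_ker, LinearMap.toSpanSingleton_apply, Module.mem_annihilator]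
        constructor
        · intro h x
          have hle : Submodule.span R (T : Set M) ≤ LinearMap.ker (LinearMap.lsmul R M r) := by
            rw [Submodule.span_le]
            intro y hy
            have := congrFun h ⟨y, hy⟩
            simpa [v] using this
          have hx : x ∈ Submodule.span R (T : Set M) := by rw [hT]; trivial
          exact hle hx
        · intro h
          funext i
          simpa using h (v i)
      rw [hk] at this
      exact this

end Groth.Agent.H9.AnnFlat
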