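import Mathlib
import Groth.Prelude.Def_W4c3degenlocivbPfaff

/-! Helper9: apolarity: degree-d part of the apolar ideal via partial derivatives. -/

set_option linter.unusedSectionVars false
set_option linter.unusedVariables false
set_option linter.unusedSimpArgs false

universe u

namespace Groth.Agent.H9.Apolar

open W4c3degenlocivb MvPolynomial

variable {k : Type u} [Field k] {m : ℕ}

/-- product of falling factorials over a finite set of coordinates -/
def desc (β α : Fin m →₀ ℕ) : ℕ := β.support.prod fun i => Nat.descFactorial (β i) (α i)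

theorem desc_eq_univ (β α : Fin m →₀ ℕ) (hα : α ≤ β) :
    desc β α = ∏ i : Fin m, Nat.descFactorial (β i) (α i) := by
  unfold desc
  apply Finset.prod_subset (Finset.subset_univ _)
  intro i _ hi
  rw [Finsupp.mem_support_iff, not_not] at hi
  have : α i = 0 := by
    have := hα i
    omega
  rw [hi, this]
  rfl

/-- coefficient formula -/
theorem coeff_contract (D G : MvPolynomial (Fin m) k) (γ : Fin m →₀ ℕ) :
    coeff γ (contract D G) =
      ∑ α ∈ D.support, coeff α D * coeff (γ + α) G * ((desc (γ + α) α : ℕ) : k) := by
  classical
  unfold contract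
  rw [coeff_sum]
  apply Finset.sum_congr rfl
  intro α _
  rw [coeff_sum]
  by_cases hmem : γ + α ∈ G.support
  · rw [Finset.sum_eq_single (γ + α)]
    · have hle : α ≤ γ + α := le_add_self
      rw [if_pos hle, coeff_monomial]
      have : γ + α - α = γ := add_tsub_cancel_right γ α
      rw [if_pos this]
      rfl
    · intro β _ hne
      split_ifs with h
      · rw [coeff_monomial, if_neg]
        intro h2
        apply hne
        rw [← h2]
        exact (tsub_add_cancel_of_le h).symm
      · simp
    · intro h
      exact absurd hmem h
  · rw [Finset.sum_eq_zero]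
    · rw [notMem_support_iff] at hmem
      rw [hmem]; ring
    · intro β hβ
      split_ifs with h
      · rw [coeff_monomial, if_neg]
        intro h2
        apply hmem
        rw [← h2, tsub_add_cancel_of_le h]
        exact hβ
      · simp

theorem desc_identity (α β : Fin m →₀ ℕ) :
    desc (β + α) α * desc β β = (∏ i : Fin m, (α i).factorial) * desc (α + β) β := by
  rw [desc_eq_univ (β + α) α le_add_self, desc_eq_univ β β le_rfl, desc_eq_univ (α + β) β le_add_self,
    ← Finset.prod_mul_distrib, ← Finset.prod_mul_distrib]
  apply Finset.prod_congr rfl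
  intro i _
  simp only [Finsupp.coe_add, Pi.add_apply]
  have h1 : Nat.descFactorial (β i + α i) (α i) * (β i).factorial = (β i + α i).factorial := by
    have := Nat.factorial_mul_descFactorial (n := β i + α i) (k := α i) (Nat.le_add_left _ _)
    rw [Nat.add_sub_cancel] at this
    rw [mul_comm]; exact this
  have h2 : (α i).factorial * Nat.descFactorial (α i + β i) (β i) = (α i + β i).factorial := by
    have := Nat.factorial_mul_descFactorial (n := α i + β i) (k := β i) (Nat.le_add_left _ _)
    rw [Nat.add_sub_cancel] at this
    exact this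
  rw [Nat.descFactorial_self, h1, h2, add_comm]

theorem main [CharZero k]
    (F : MvPolynomial (Fin m) k) (e : ℕ) (hF : F.IsHomogeneous e) (d : ℕ) (hd : d ≤ e)
    (D : MvPolynomial (Fin m) k) (hD : D.IsHomogeneous d) :
    W4c3degenlocivb.contract D F = 0 ↔
      ∀ α : Fin m →₀ ℕ, α.degree = e - d → W4c3degenlocivb.contract D (W4c3degenlocivb.contract (MvPolynomial.monomial α 1) F) = 0 := by
  classical
  -- coefficients of G_α
  have hG : ∀ α γ : Fin m →₀ ℕ, coeff γ (contract (monomial α (1 : k)) F) =
      coeff (γ + α) F * ((desc (γ + α) α : ℕ) : k) := by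
    intro α γ
    rw [coeff_contract, support_monomial, if_neg one_ne_zero, Finset.sum_singleton, coeff_monomial,
      if_pos rfl, one_mul]
  -- coefficient of contract D G_α
  have hDG : ∀ α γ : Fin m →₀ ℕ, coeff γ (contract D (contract (monomial α (1 : k)) F)) =
      ∑ β ∈ D.support, coeff β D * (coeff (γ + β + α) F * ((desc (γ + β + α) α : ℕ) : k)) *
        ((desc (γ + β) β : ℕ) : k) := by
    intro α γ
    rw [coeff_contract]
    apply Finset.sum_congr rfl
    intro β _
    rw [hG]
  -- the zero coefficient
  have h0 : ∀ α : Fin m →₀ ℕ, coeff 0 (contract D (contract (monomial α (1 : k)) F)) =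
      ((∏ i : Fin m, (α i).factorial : ℕ) : k) * coeff α (contract D F) := by
    intro α
    rw [hDG, coeff_contract, Finset.mul_sum]
    apply Finset.sum_congr rfl
    intro β _
    rw [zero_add]
    have := desc_identity α β
    have h2 : ((desc (β + α) α : ℕ) : k) * ((desc β β : ℕ) : k) =
        ((∏ i : Fin m, (α i).factorial : ℕ) : k) * ((desc (α + β) β : ℕ) : k) := by
      exact_mod_cast congrArg (Nat.cast (R := k)) this
    calc coeff β D * (coeff (β + α) F * ((desc (β + α) α : ℕ) : k)) * ((desc β β : ℕ) : k)
        = coeff β D * coeff (β + α) F * (((desc (β + α) α : ℕ) : k) * ((desc β β : ℕ) : k)) := by ring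
      _ = _ := by rw [h2, add_comm β α]; ring
  -- nonzero coefficients vanish
  have hne : ∀ α γ : Fin m →₀ ℕ, α.degree = e - d → γ ≠ 0 →
      coeff γ (contract D (contract (monomial α (1 : k)) F)) = 0 := by
    intro α γ hα hγ
    rw [hDG]
    apply Finset.sum_eq_zero
    intro β hβ
    have hβd : β.degree = d := by
      by_contra h
      rw [mem_support_iff] at hβ
      exact hβ (hD.coeff_eq_zero h)
    have : coeff (γ + β + α) F = 0 := by
      apply hF.coeff_eq_zero
      rw [map_add, map_add, hβd, hα]
      have : γ.degree ≠ 0 := fun h => hγ ((Finsupp.degree_eq_zero_iff γ).1 h)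
      omega
    rw [this]; ring
  have hfact : ∀ α : Fin m →₀ ℕ, ((∏ i : Fin m, (α i).factorial : ℕ) : k) ≠ 0 := by
    intro α
    rw [Nat.cast_ne_zero]
    exact Finset.prod_ne_zero_iff.2 (fun i _ => Nat.factorial_ne_zero _)
  constructor
  · intro h α hα
    ext γ
    rw [coeff_zero]
    by_cases hγ : γ = 0
    · rw [hγ, h0, h, coeff_zero, mul_zero]
    · exact hne α γ hα hγ
  · intro h
    ext α
    rw [coeff_zero]
    by_cases hα : α.degree = e - d
    · have h1 := h α hα
      have h2 := h0 α
      rw [h1, coeff_zero] at h2
      rcases mul_eq_zero.1 h2.symm with h3 | h3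
      · exact absurd h3 (hfact α)
      · exact h3
    · rw [coeff_contract]
      apply Finset.sum_eq_zero
      intro β hβ
      have hβd : β.degree = d := by
        by_contra h
        rw [mem_support_iff] at hβ
        exact hβ (hD.coeff_eq_zero h)
      have : coeff (α + β) F = 0 := by
        apply hF.coeff_eq_zero
        rw [map_add, hβd]
        omega
      rw [this]; ring

end Groth.Agent.H9.Apolar
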