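import Mathlib

set_option autoImplicit false

namespace Groth.Agent.H9.AxThm

open Finset

/-- rotated value of a digit list -/
def rotL (p e : ℕ) : List ℕ → ℕ → ℕ
  | [], _ => 0
  | d :: L, b => d * p ^ (b % e) + rotL p e L (b + 1)

lemma pow_mod_modEq (p e : ℕ) (hp : 0 < p) (b : ℕ) :
    p ^ (b % e) ≡ p ^ b [MOD p ^ e - 1] := by
  have h1 : 1 ≡ p ^ e [MOD p ^ e - 1] :=
    (Nat.modEq_iff_dvd' (Nat.one_le_pow _ _ hp)).2 dvd_rfl
  have h2 : p ^ b = (p ^ e) ^ (b / e) * p ^ (b % e) := by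
    rw [← pow_mul, ← pow_add, Nat.div_add_mod]
  rw [h2]
  have h3 : 1 ^ (b / e) * p ^ (b % e) ≡ (p ^ e) ^ (b / e) * p ^ (b % e) [MOD p ^ e - 1] :=
    (h1.pow _).mul_right _
  simpa using h3

lemma rotL_modEq (p e : ℕ) (hp : 0 < p) (L : List ℕ) (b : ℕ) :
    rotL p e L b ≡ p ^ b * Nat.ofDigits p L [MOD p ^ e - 1] := by
  induction L generalizing b with
  | nil => simp [rotL, Nat.ModEq]
  | cons d L ih =>
    simp only [rotL, Nat.ofDigits_cons]
    have h1 := (pow_mod_modEq p e hp b).mul_left d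
    have h2 := ih (b + 1)
    have h3 := h1.add h2
    have h4 : d * p ^ b + p ^ (b + 1) * Nat.ofDigits p L =
        p ^ b * (d + p * Nat.ofDigits p L) := by ring
    rw [h4] at h3
    exact h3

lemma rotL_add_period (p e : ℕ) (L : List ℕ) (b : ℕ) :
    rotL p e L (b + e) = rotL p e L b := by
  induction L generalizing b with
  | nil => rfl
  | cons d L ih =>
    simp only [rotL]
    rw [Nat.add_mod_right, Nat.add_right_comm b e 1, ih (b + 1)]

lemma sum_range_shift_periodic (e : ℕ) (f : ℕ → ℕ) (hf : ∀ b, f (b + e) = f b) :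
    ∑ b ∈ range e, f (b + 1) = ∑ b ∈ range e, f b := by
  have h1 := Finset.sum_range_succ' f e
  have h2 := Finset.sum_range_succ f e
  have h3 : f e = f 0 := by simpa using hf 0
  omega

lemma sum_rotL (p e : ℕ) (L : List ℕ) :
    ∑ b ∈ range e, rotL p e L b = L.sum * ∑ a ∈ range e, p ^ a := by
  induction L with
  | nil => simp [rotL]
  | cons d L ih =>
    have h1 : ∑ b ∈ range e, rotL p e (d :: L) b =
        d * ∑ b ∈ range e, p ^ (b % e) + ∑ b ∈ range e, rotL p e L (b + 1) := by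
      simp only [rotL, Finset.sum_add_distrib, Finset.mul_sum]
    have h2 : ∑ b ∈ range e, p ^ (b % e) = ∑ b ∈ range e, p ^ b :=
      Finset.sum_congr rfl fun b hb => by rw [Nat.mod_eq_of_lt (Finset.mem_range.1 hb)]
    rw [h1, h2, sum_range_shift_periodic e _ (rotL_add_period p e L), ih, List.sum_cons]
    ring

lemma rotL_pos (p e : ℕ) (hp : 0 < p) (L : List ℕ) (b : ℕ) (h : 0 < Nat.ofDigits p L) :
    0 < rotL p e L b := by
  induction L generalizing b with
  | nil => simp at h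
  | cons d L ih =>
    rw [Nat.ofDigits_cons] at h
    simp only [rotL]
    rcases Nat.eq_zero_or_pos d with hd | hd
    · subst hd
      have h0 : 0 < Nat.ofDigits p L := by
        rcases Nat.eq_zero_or_pos (Nat.ofDigits p L) with h0 | h0
        · rw [h0] at h; simp at h
        · exact h0
      have := ih (b + 1) h0
      omega
    · have : 0 < d * p ^ (b % e) := Nat.mul_pos hd (pow_pos hp _)
      omega

/-- digit sum -/
def dsum (p n : ℕ) : ℕ := (Nat.digits p n).sum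

lemma dsum_rec (p : ℕ) (hp : 1 < p) (n : ℕ) : dsum p n = n % p + dsum p (n / p) := by
  rcases Nat.eq_zero_or_pos n with h | h
  · subst h; simp [dsum]
  · unfold dsum; rw [Nat.digits_def' hp h, List.sum_cons]

lemma dsum_mul (p : ℕ) (hp : 1 < p) (n : ℕ) : dsum p (p * n) = dsum p n := by
  rw [dsum_rec p hp (p * n), Nat.mul_mod_right, Nat.mul_div_cancel_left _ (by omega), zero_add]

lemma dsum_mul_pow (p : ℕ) (hp : 1 < p) (n k : ℕ) : dsum p (n * p ^ k) = dsum p n := by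
  induction k with
  | zero => simp
  | succ k ih =>
    rw [show n * p ^ (k + 1) = p * (n * p ^ k) by ring, dsum_mul p hp, ih]

lemma dsum_pow_sub_one (p : ℕ) (hp : 1 < p) (e : ℕ) : dsum p (p ^ e - 1) = e * (p - 1) := by
  induction e with
  | zero => simp [dsum]
  | succ e ih =>
    have h0 : 1 ≤ p ^ e := Nat.one_le_pow _ _ (by omega)
    have h2 : p * (p ^ e - 1) = p ^ (e + 1) - p := by
      rw [Nat.mul_sub, mul_one, pow_succ, mul_comm]
    have h3 : p ≤ p ^ (e + 1) := by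
      calc p = p * 1 := (mul_one p).symm
        _ ≤ p * p ^ e := Nat.mul_le_mul_left _ h0
        _ = p ^ (e + 1) := by rw [pow_succ, mul_comm]
    have h1 : p ^ (e + 1) - 1 = (p - 1) + p * (p ^ e - 1) := by omega
    rw [h1, dsum_rec p hp, Nat.add_mul_mod_self_left, Nat.mod_eq_of_lt (by omega : p - 1 < p),
      Nat.add_mul_div_left _ _ (by omega : 0 < p), Nat.div_eq_of_lt (by omega : p - 1 < p),
      zero_add, ih]
    ring

lemma legendre_add (p : ℕ) [hp : Fact p.Prime] (n : ℕ) :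
    (p - 1) * padicValNat p n.factorial + dsum p n = n := by
  have h := sub_one_mul_padicValNat_factorial (p := p) n
  have h2 := Nat.digit_sum_le p n
  unfold dsum
  omega

lemma padicVal_prod_factorial (p : ℕ) [hp : Fact p.Prime] {ι : Type*} (I : Finset ι)
    (κ : ι → ℕ) :
    padicValNat p (∏ u ∈ I, (κ u).factorial) = ∑ u ∈ I, padicValNat p (κ u).factorial := by
  classical
  induction I using Finset.induction_on with
  | empty => simp
  | insert a s ha ih =>
    rw [Finset.prod_insert ha, Finset.sum_insert ha,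
      padicValNat.mul (Nat.factorial_ne_zero _)
        (Finset.prod_ne_zero_iff.2 fun u _ => Nat.factorial_ne_zero _), ih]

lemma padicVal_multinomial (p : ℕ) [hp : Fact p.Prime] {ι : Type*} (I : Finset ι)
    (κ : ι → ℕ) :
    padicValNat p (∑ u ∈ I, κ u).factorial =
      ∑ u ∈ I, padicValNat p (κ u).factorial + padicValNat p (Nat.multinomial I κ) := by
  rw [← Nat.multinomial_spec I κ,
    padicValNat.mul (Finset.prod_ne_zero_iff.2 fun u _ => Nat.factorial_ne_zero _)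
      (Nat.multinomial_pos I κ).ne', padicVal_prod_factorial]

lemma geom_aux (p : ℕ) (hp : 1 ≤ p) (e : ℕ) :
    (∑ a ∈ range e, p ^ a) * (p - 1) + 1 = p ^ e := by
  obtain ⟨s, rfl⟩ : ∃ s, p = s + 1 := ⟨p - 1, by omega⟩
  simp only [Nat.add_sub_cancel]
  induction e with
  | zero => simp
  | succ e ih =>
    rw [Finset.sum_range_succ, add_mul, pow_succ]
    nlinarith [ih]

theorem key_val (p e : ℕ) [hp : Fact p.Prime] (he : 0 < e) {ι : Type*} (I : Finset ι)
    (N d j : ℕ) (hd : 0 < d) (hN : j * d < N) (w : ι → Fin N → ℕ)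
    (hw : ∀ u ∈ I, ∑ c, w u c = d) (κ : ι → ℕ)
    (hκ : ∑ u ∈ I, κ u = (p ^ e - 1) * (p ^ e) ^ j)
    (hs : ∀ c, (p ^ e - 1) ∣ ∑ u ∈ I, κ u * w u c) :
    p ^ (e * (j - (Finset.univ.filter fun c : Fin N => ∑ u ∈ I, κ u * w u c = 0).card)) ∣
      Nat.multinomial I κ := by
  classical
  obtain ⟨n₀, hn₀⟩ : ∃ n₀, n₀ = (Finset.univ.filter fun c : Fin N =>
      ∑ u ∈ I, κ u * w u c = 0).card := ⟨_, rfl⟩
  rw [← hn₀]
  have hp1 : 1 < p := hp.out.one_lt
  have hp0 : 0 < p := by omega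
  obtain ⟨Q, hQ⟩ : ∃ Q, Q = p ^ e - 1 := ⟨_, rfl⟩
  rw [← hQ] at hκ hs
  have hpe : p ≤ p ^ e := by
    calc p = p ^ 1 := (pow_one p).symm
      _ ≤ p ^ e := Nat.pow_le_pow_right hp0 he
  have hQpos : 0 < Q := by omega
  rcases le_or_gt j n₀ with hjn | hjn
  · rw [Nat.sub_eq_zero_of_le hjn, mul_zero, pow_zero]; exact one_dvd _
  -- rotated values
  obtain ⟨R, hR⟩ : ∃ R : ℕ → ι → ℕ, R = fun b u => rotL p e (Nat.digits p (κ u)) b := ⟨_, rfl⟩
  have hR_mod : ∀ b u, ((R b u : ℕ) : ZMod Q) = ((p ^ b * κ u : ℕ) : ZMod Q) := by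
    intro b u
    rw [ZMod.natCast_eq_natCast_iff, hR, hQ]
    have := rotL_modEq p e hp0 (Nat.digits p (κ u)) b
    rwa [Nat.ofDigits_digits] at this
  have hR_pos : ∀ b u, 0 < κ u → 0 < R b u := by
    intro b u h
    rw [hR]
    apply rotL_pos p e hp0
    rwa [Nat.ofDigits_digits]
  have hR_sum : ∀ u, ∑ b ∈ range e, R b u = dsum p (κ u) * ∑ a ∈ range e, p ^ a := by
    intro u
    rw [hR]
    exact sum_rotL p e _
  -- T_b divisible by Q
  have hT : ∀ b, Q ∣ ∑ u ∈ I, R b u := by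
    intro b
    rw [← ZMod.natCast_eq_zero_iff, Nat.cast_sum,
      Finset.sum_congr rfl (fun u _ => hR_mod b u), ← Nat.cast_sum, ← Finset.mul_sum, hκ,
      ZMod.natCast_eq_zero_iff]
    exact Dvd.dvd.mul_left (Dvd.intro _ rfl) _
  -- coordinate sums
  have hS_dvd : ∀ b c, Q ∣ ∑ u ∈ I, R b u * w u c := by
    intro b c
    rw [← ZMod.natCast_eq_zero_iff, Nat.cast_sum]
    have h1 : ∀ u ∈ I, ((R b u * w u c : ℕ) : ZMod Q) = ((p ^ b * (κ u * w u c) : ℕ) : ZMod Q) := by
      intro u _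
      rw [Nat.cast_mul, hR_mod b u, ← Nat.cast_mul, mul_assoc]
    rw [Finset.sum_congr rfl h1, ← Nat.cast_sum, ← Finset.mul_sum, ZMod.natCast_eq_zero_iff]
    exact Dvd.dvd.mul_left (hs c) _
  have hS_pos : ∀ b c, (∑ u ∈ I, κ u * w u c ≠ 0) → Q ≤ ∑ u ∈ I, R b u * w u c := by
    intro b c hne
    apply Nat.le_of_dvd _ (hS_dvd b c)
    obtain ⟨u, hu, hne'⟩ := Finset.exists_ne_zero_of_sum_ne_zero hne
    have hk : 0 < κ u := Nat.pos_of_ne_zero fun h => hne' (by rw [h, zero_mul])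
    have hwp : 0 < w u c := Nat.pos_of_ne_zero fun h => hne' (by rw [h, mul_zero])
    have h1 : 0 < R b u * w u c := Nat.mul_pos (hR_pos b u hk) hwp
    have h2 : R b u * w u c ≤ ∑ u ∈ I, R b u * w u c :=
      Finset.single_le_sum (f := fun u => R b u * w u c) (fun _ _ => Nat.zero_le _) hu
    omega
  have hcardneg : (Finset.univ.filter fun c : Fin N => ¬ ∑ u ∈ I, κ u * w u c = 0).card + n₀
      = N := by
    have := Finset.card_filter_add_card_filter_not (s := (Finset.univ : Finset (Fin N)))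
      (fun c : Fin N => ∑ u ∈ I, κ u * w u c = 0)
    rw [Finset.card_univ, Fintype.card_fin] at this
    omega
  have hsumS : ∀ b, ∑ c : Fin N, ∑ u ∈ I, R b u * w u c = d * ∑ u ∈ I, R b u := by
    intro b
    rw [Finset.sum_comm, Finset.mul_sum]
    refine Finset.sum_congr rfl fun u hu => ?_
    rw [← Finset.mul_sum, hw u hu, mul_comm]
  have hlow : ∀ b, (N - n₀) * Q ≤ d * ∑ u ∈ I, R b u := by
    intro b
    rw [← hsumS b]
    have h1 : (Finset.univ.filter fun c : Fin N => ¬ ∑ u ∈ I, κ u * w u c = 0).card • Q ≤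
        ∑ c ∈ (Finset.univ.filter fun c : Fin N => ¬ ∑ u ∈ I, κ u * w u c = 0),
          ∑ u ∈ I, R b u * w u c :=
      Finset.card_nsmul_le_sum _ _ _ fun c hc => hS_pos b c (Finset.mem_filter.1 hc).2
    have h2 : ∑ c ∈ (Finset.univ.filter fun c : Fin N => ¬ ∑ u ∈ I, κ u * w u c = 0),
          ∑ u ∈ I, R b u * w u c ≤ ∑ c : Fin N, ∑ u ∈ I, R b u * w u c :=
      Finset.sum_le_sum_of_subset (Finset.filter_subset _ _)
    have h3 : (Finset.univ.filter fun c : Fin N => ¬ ∑ u ∈ I, κ u * w u c = 0).card = N - n₀ := by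
      omega
    rw [h3, smul_eq_mul] at h1
    exact h1.trans h2
  -- quotients
  obtain ⟨cq, hcq⟩ : ∃ cq : ℕ → ℕ, ∀ b, ∑ u ∈ I, R b u = Q * cq b :=
    ⟨fun b => (∑ u ∈ I, R b u) / Q, fun b => (Nat.mul_div_cancel' (hT b)).symm⟩
  have hcq_low : ∀ b, j - n₀ + 1 ≤ cq b := by
    intro b
    by_contra hcon
    have hc : cq b ≤ j - n₀ := by omega
    have h1 := hlow b
    rw [hcq b] at h1
    have h2 : (N - n₀) * Q ≤ (d * cq b) * Q := by
      calc (N - n₀) * Q ≤ d * (Q * cq b) := h1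
        _ = (d * cq b) * Q := by ring
    have h3 : N - n₀ ≤ d * cq b := Nat.le_of_mul_le_mul_right h2 hQpos
    have h4 : d * cq b ≤ d * (j - n₀) := Nat.mul_le_mul_left d hc
    have h5 : d * (j - n₀) + d * n₀ = d * j := by
      rw [← Nat.mul_add, Nat.sub_add_cancel hjn.le]
    have h6 : n₀ ≤ d * n₀ := Nat.le_mul_of_pos_left n₀ hd
    have h7 : d * j = j * d := mul_comm d j
    omega
  -- sum over b
  obtain ⟨G, hG⟩ : ∃ G, G = ∑ a ∈ range e, p ^ a := ⟨_, rfl⟩
  have hGQ : G * (p - 1) = Q := by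
    have := geom_aux p hp0 e
    rw [← hG] at this
    omega
  have hGpos : 0 < G := by
    rcases Nat.eq_zero_or_pos G with h | h
    · rw [h, zero_mul] at hGQ; omega
    · exact h
  have hdouble : Q * ∑ b ∈ range e, cq b = G * ∑ u ∈ I, dsum p (κ u) := by
    rw [Finset.mul_sum, Finset.mul_sum]
    calc ∑ b ∈ range e, Q * cq b = ∑ b ∈ range e, ∑ u ∈ I, R b u :=
          Finset.sum_congr rfl fun b _ => (hcq b).symm
      _ = ∑ u ∈ I, ∑ b ∈ range e, R b u := Finset.sum_comm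
      _ = ∑ u ∈ I, G * dsum p (κ u) :=
          Finset.sum_congr rfl fun u _ => by rw [hR_sum u, ← hG, mul_comm]
  have hE4 : (p - 1) * ∑ b ∈ range e, cq b = ∑ u ∈ I, dsum p (κ u) := by
    have h1 : G * ((p - 1) * ∑ b ∈ range e, cq b) = G * ∑ u ∈ I, dsum p (κ u) := by
      rw [← hdouble, ← hGQ]; ring
    exact Nat.eq_of_mul_eq_mul_left hGpos h1
  -- Legendre
  have hE1 : (p - 1) * padicValNat p (∑ u ∈ I, κ u).factorial + e * (p - 1) = ∑ u ∈ I, κ u := by
    have h1 := legendre_add p (∑ u ∈ I, κ u)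
    have h2 : dsum p (∑ u ∈ I, κ u) = e * (p - 1) := by
      rw [hκ, hQ, ← pow_mul, dsum_mul_pow p hp1, dsum_pow_sub_one p hp1]
    rw [h2] at h1
    exact h1
  have hE2 : (p - 1) * ∑ u ∈ I, padicValNat p (κ u).factorial + ∑ u ∈ I, dsum p (κ u) =
      ∑ u ∈ I, κ u := by
    rw [Finset.mul_sum, ← Finset.sum_add_distrib]
    exact Finset.sum_congr rfl fun u _ => legendre_add p (κ u)
  have hE3 := padicVal_multinomial p I κ
  have hE5 : e * (j - n₀ + 1) ≤ ∑ b ∈ range e, cq b := by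
    have := Finset.card_nsmul_le_sum (range e) cq (j - n₀ + 1) fun b _ => hcq_low b
    rwa [Finset.card_range, smul_eq_mul] at this
  have hV : e * (j - n₀) ≤ padicValNat p (Nat.multinomial I κ) := by
    obtain ⟨A, hA⟩ : ∃ A, A = ∑ u ∈ I, padicValNat p (κ u).factorial := ⟨_, rfl⟩
    obtain ⟨V, hVd⟩ : ∃ V, V = padicValNat p (Nat.multinomial I κ) := ⟨_, rfl⟩
    obtain ⟨C, hC⟩ : ∃ C, C = ∑ b ∈ range e, cq b := ⟨_, rfl⟩
    rw [← hA, ← hVd] at hE3
    rw [hE3, ← hE2, ← hE4, ← hA, ← hC] at hE1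
    rw [← hVd]
    rw [← hC] at hE5
    have h1 : (p - 1) * (V + e) = (p - 1) * C := by
      have : (p - 1) * (A + V) + e * (p - 1) = (p - 1) * A + (p - 1) * C := hE1
      nlinarith [this]
    have h2 : V + e = C := Nat.eq_of_mul_eq_mul_left (by omega : 0 < p - 1) h1
    have h3 : e * (j - n₀ + 1) = e * (j - n₀) + e := by ring
    omega
  exact (pow_dvd_pow p hV).trans pow_padicValNat_dvd

end Groth.Agent.H9.AxThm
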