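import Mathlib
import Groth.Agent.Lib.Helper9.Misc.AxArith

set_option autoImplicit false
universe u

namespace Groth.Agent.H9.AxThm

open Finset

section Core

variable (p : ℕ) [hp : Fact p.Prime] {k : Type u} [Field k] [Fintype k] [CharP k p]
  {W : Type u} [CommRing W] [IsDomain W] (τ : k →* W) (π : W →+* k)

lemma teich_sum_eq_zero (hτ0 : τ 0 = 0) (hinj : Function.Injective τ) (s : ℕ) (hs : s ≠ 0)
    (hq : ¬ (Fintype.card k - 1) ∣ s) : ∑ t : k, τ t ^ s = 0 := by
  classical
  let φ : kˣ ↪ k := ⟨fun x => x, Units.val_injective⟩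
  have hmap : univ.map φ = univ \ {0} := by
    ext x
    simpa only [mem_map, mem_univ, Function.Embedding.coeFn_mk, true_and, mem_sdiff,
      mem_singleton, φ] using! isUnit_iff_ne_zero
  have h1 : ∑ t : k, τ t ^ s = ∑ t ∈ univ \ {(0 : k)}, τ t ^ s := by
    rw [← Finset.sum_sdiff ({0} : Finset k).subset_univ, Finset.sum_singleton, hτ0,
      zero_pow hs, add_zero]
  have h2 : ∑ t ∈ univ \ {(0 : k)}, τ t ^ s = ∑ x : kˣ, τ (x : k) ^ s := by
    rw [← hmap, Finset.sum_map]
    rfl
  rw [h1, h2]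
  let f : kˣ →* W := (powMonoidHom s).comp (τ.comp (Units.coeHom k))
  have hf : f ≠ 1 := by
    intro h
    apply hq
    rw [← FiniteField.forall_pow_eq_one_iff]
    intro x
    have hx : f x = 1 := by rw [h]; rfl
    have h3 : τ ((x : k) ^ s) = τ 1 := by
      rw [map_pow, map_one]
      exact hx
    have h4 := hinj h3
    exact Units.ext (by simpa using h4)
  exact sum_hom_units_eq_zero f hf

lemma pow_indicator (hker : ∀ w : W, π w = 0 → (p : W) ∣ w) (e j : ℕ)
    (hq : Fintype.card k = p ^ e) (he : 0 < e) (w : W) [Decidable (π w = 0)] :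
    ((p : W) ^ (e * j)) ∣ w ^ ((p ^ e - 1) * (p ^ e) ^ j) - (if π w = 0 then 0 else 1) := by
  have hp1 : 1 < p := hp.out.one_lt
  split_ifs with h
  · rw [sub_zero]
    obtain ⟨c, rfl⟩ := hker w h
    rw [mul_pow]
    apply Dvd.dvd.mul_right
    apply pow_dvd_pow
    have h1 : e * j < p ^ (e * j) := Nat.lt_pow_self hp1
    have h2 : (p ^ e) ^ j = p ^ (e * j) := (pow_mul p e j).symm
    have h3 : p ≤ p ^ e := by
      calc p = p ^ 1 := (pow_one p).symm
        _ ≤ p ^ e := Nat.pow_le_pow_right (by omega) he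
    have h4 : 1 * p ^ (e * j) ≤ (p ^ e - 1) * p ^ (e * j) :=
      Nat.mul_le_mul_right _ (by omega)
    rw [h2]
    omega
  · have h1 : π (w ^ (p ^ e - 1) - 1) = 0 := by
      rw [map_sub, map_pow, map_one, ← hq, FiniteField.pow_card_sub_one_eq_one _ h, sub_self]
    have h2 := hker _ h1
    have h3 := dvd_sub_pow_of_dvd_sub h2 (e * j)
    rw [one_pow] at h3
    have h4 : w ^ ((p ^ e - 1) * (p ^ e) ^ j) = (w ^ (p ^ e - 1)) ^ (p ^ (e * j)) := by
      rw [pow_mul p e j, pow_mul w]
    rw [h4]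
    exact (pow_dvd_pow _ (Nat.le_succ _)).trans h3

omit [Fintype k] in
include π in
lemma nat_dvd_of_cast_dvd (hp0 : (p : W) ≠ 0) (a n : ℕ) (h : ((p : W) ^ a) ∣ (n : W)) :
    p ^ a ∣ n := by
  rcases Nat.eq_zero_or_pos n with hn | hn
  · subst hn; exact dvd_zero _
  obtain ⟨b, n', hn', rfl⟩ := Nat.exists_eq_pow_mul_and_not_dvd hn.ne' p hp.out.ne_one
  rcases le_or_gt a b with hab | hab
  · exact (pow_dvd_pow p hab).trans (Dvd.intro _ rfl)
  · exfalso
    obtain ⟨c, hc⟩ := h
    have hpa : (p : W) ^ a = (p : W) ^ b * (p : W) ^ (a - b) := by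
      rw [← pow_add, Nat.add_sub_cancel' hab.le]
    push_cast at hc
    rw [hpa] at hc
    have h1 : (p : W) ^ b * ((n' : W) - (p : W) ^ (a - b) * c) = 0 := by
      rw [mul_sub, hc]
      ring
    have h2 : (n' : W) = (p : W) ^ (a - b) * c := by
      rcases mul_eq_zero.1 h1 with h | h
      · exact absurd h (pow_ne_zero _ hp0)
      · exact sub_eq_zero.1 h
    have h3 : (n' : k) = 0 := by
      have h4 := congrArg π h2
      rw [map_natCast, map_mul, map_pow, map_natCast, CharP.cast_eq_zero k p,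
        zero_pow (by omega), zero_mul] at h4
      exact h4
    exact hn' ((CharP.cast_eq_zero_iff k p n').1 h3)

theorem ax_core (e : ℕ) (he : 0 < e) (hq : Fintype.card k = p ^ e)
    (hτ0 : τ 0 = 0) (hπτ : ∀ x, π (τ x) = x) (hker : ∀ w : W, π w = 0 → (p : W) ∣ w)
    (hp0 : (p : W) ≠ 0) [DecidableEq k] (N d j : ℕ) (hd : 0 < d)
    (F : MvPolynomial (Fin N) k) (hF : F.IsHomogeneous d) (hj : j * d < N) :
    Fintype.card k ^ j ∣ Fintype.card {x : Fin N → k // MvPolynomial.eval x F = 0} := by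
  classical
  have hinj : Function.Injective τ := fun x y h => by rw [← hπτ x, ← hπτ y, h]
  obtain ⟨M, hM⟩ : ∃ M, M = (p ^ e - 1) * (p ^ e) ^ j := ⟨_, rfl⟩
  have hw : ∀ u ∈ F.support, ∑ c : Fin N, (u : Fin N →₀ ℕ) c = d := by
    intro u hu
    have h1 : Finsupp.degree u = d := by
      rw [Finsupp.degree_eq_weight_one]
      exact hF (MvPolynomial.mem_support_iff.1 hu)
    rw [← h1, Finsupp.degree_eq_sum]
  obtain ⟨g, hg⟩ : ∃ g : (Fin N → k) → W, g = fun x =>
      ∑ u ∈ F.support, τ (F.coeff u) * ∏ c, τ (x c) ^ (u c) := ⟨_, rfl⟩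
  have hπg : ∀ x, π (g x) = MvPolynomial.eval x F := by
    intro x
    rw [hg]
    simp only [map_sum, map_mul, map_prod, map_pow, hπτ]
    exact (MvPolynomial.eval_eq' x F).symm
  obtain ⟨Sg, hSg⟩ : ∃ Sg : W, Sg = ∑ x : Fin N → k, g x ^ M := ⟨_, rfl⟩
  -- (1)
  have h1 : (p : W) ^ (e * j) ∣
      Sg - ((Fintype.card {x : Fin N → k // ¬ MvPolynomial.eval x F = 0} : ℕ) : W) := by
    have hc : ((Fintype.card {x : Fin N → k // ¬ MvPolynomial.eval x F = 0} : ℕ) : W) =
        ∑ x : Fin N → k, (if π (g x) = 0 then (0 : W) else 1) := by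
      rw [Fintype.card_subtype, Finset.card_filter, Nat.cast_sum]
      refine Finset.sum_congr rfl fun x _ => ?_
      rw [hπg x]
      by_cases h : MvPolynomial.eval x F = 0 <;> simp [h]
    rw [hc, hSg, ← Finset.sum_sub_distrib, hM]
    exact Finset.dvd_sum fun x _ => pow_indicator p π hker e j hq he (g x)
  -- (2)
  have h2 : (p : W) ^ (e * j) ∣ Sg := by
    have hexp : Sg = ∑ κ ∈ Finset.piAntidiag F.support M,
        ((Nat.multinomial F.support κ : ℕ) : W) *
          ((∏ u ∈ F.support, τ (F.coeff u) ^ κ u) *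
            ∏ c : Fin N, ∑ t : k, τ t ^ (∑ u ∈ F.support, κ u * u c)) := by
      rw [hSg, hg]
      simp only []
      rw [Finset.sum_congr rfl fun x _ => Finset.sum_pow_eq_sum_piAntidiag F.support _ M]
      rw [Finset.sum_comm]
      refine Finset.sum_congr rfl fun κ _ => ?_
      rw [Finset.prod_univ_sum, Fintype.piFinset_univ, Finset.mul_sum, Finset.mul_sum]
      refine Finset.sum_congr rfl fun x _ => ?_
      congr 1
      simp only [mul_pow, Finset.prod_mul_distrib]
      congr 1
      simp only [← Finset.prod_pow, ← pow_mul]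
      rw [Finset.prod_comm]
      refine Finset.prod_congr rfl fun c _ => ?_
      rw [Finset.prod_pow_eq_pow_sum]
      congr 1
      exact Finset.sum_congr rfl fun u _ => mul_comm _ _
    rw [hexp]
    refine Finset.dvd_sum fun κ hκ => ?_
    rw [Finset.mem_piAntidiag] at hκ
    obtain ⟨hκsum, -⟩ := hκ
    rw [hM] at hκsum
    by_cases hall : ∀ c : Fin N, (p ^ e - 1) ∣ ∑ u ∈ F.support, κ u * u c
    · have hkv := key_val p e he F.support N d j hd hj (fun u c => u c) hw κ hκsum hall
      obtain ⟨n₀, hn₀⟩ : ∃ n₀, n₀ = (Finset.univ.filter fun c : Fin N =>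
          ∑ u ∈ F.support, κ u * u c = 0).card := ⟨_, rfl⟩
      rw [← hn₀] at hkv
      have hP : (p : W) ^ (e * n₀) ∣
          ∏ c : Fin N, ∑ t : k, τ t ^ (∑ u ∈ F.support, κ u * u c) := by
        rw [← Finset.prod_filter_mul_prod_filter_not Finset.univ
          (fun c : Fin N => ∑ u ∈ F.support, κ u * u c = 0)]
        apply Dvd.dvd.mul_right
        have h3 : ∏ c ∈ Finset.univ.filter (fun c : Fin N => ∑ u ∈ F.support, κ u * u c = 0),
            ∑ t : k, τ t ^ (∑ u ∈ F.support, κ u * u c) = ((p : W) ^ e) ^ n₀ := by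
          rw [hn₀, ← Finset.prod_const]
          refine Finset.prod_congr rfl fun c hc => ?_
          rw [(Finset.mem_filter.1 hc).2]
          simp only [pow_zero, Finset.sum_const, Finset.card_univ, nsmul_eq_mul, mul_one]
          rw [hq]
          push_cast
          rfl
        rw [h3, ← pow_mul]
      have hmul : (p : W) ^ (e * (j - n₀)) ∣ ((Nat.multinomial F.support κ : ℕ) : W) := by
        have h3 := Nat.cast_dvd_cast (α := W) hkv
        simpa using h3
      have hle : e * j ≤ e * (j - n₀) + e * n₀ := by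
        rw [← Nat.mul_add]
        exact Nat.mul_le_mul_left e (by omega)
      refine (pow_dvd_pow _ hle).trans ?_
      rw [pow_add]
      exact mul_dvd_mul hmul (Dvd.dvd.mul_left hP _)
    · simp only [not_forall] at hall
      obtain ⟨c, hc⟩ := hall
      have hne : ∑ u ∈ F.support, κ u * u c ≠ 0 := fun h => hc (h ▸ dvd_zero _)
      have h3 : ∑ t : k, τ t ^ (∑ u ∈ F.support, κ u * u c) = 0 :=
        teich_sum_eq_zero τ hτ0 hinj _ hne (by rwa [hq])
      rw [Finset.prod_eq_zero (Finset.mem_univ c) h3, mul_zero, mul_zero]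
      exact dvd_zero _
  -- conclusion
  have h3 : (p : W) ^ (e * j) ∣
      ((Fintype.card {x : Fin N → k // ¬ MvPolynomial.eval x F = 0} : ℕ) : W) := by
    have h4 := dvd_sub h2 h1
    rwa [sub_sub_cancel] at h4
  have h4 := nat_dvd_of_cast_dvd p π hp0 (e * j) _ h3
  have h5 : Fintype.card {x : Fin N → k // ¬ MvPolynomial.eval x F = 0} =
      Fintype.card k ^ N - Fintype.card {x : Fin N → k // MvPolynomial.eval x F = 0} := by
    rw [Fintype.card_subtype_compl, Fintype.card_fun, Fintype.card_fin]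
  have h6 : Fintype.card {x : Fin N → k // MvPolynomial.eval x F = 0} ≤ Fintype.card k ^ N := by
    have := Fintype.card_subtype_le (fun x : Fin N → k => MvPolynomial.eval x F = 0)
    rwa [Fintype.card_fun, Fintype.card_fin] at this
  have hjN : j ≤ N := by
    have : j * 1 ≤ j * d := Nat.mul_le_mul_left j hd
    omega
  have h7 : Fintype.card k ^ j ∣ Fintype.card k ^ N := pow_dvd_pow _ hjN
  have h8 : Fintype.card k ^ j = p ^ (e * j) := by rw [hq, ← pow_mul]
  rw [h5, ← h8] at h4
  have h9 := Nat.dvd_sub h7 h4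
  rwa [Nat.sub_sub_self h6] at h9

end Core

theorem ax_theorem (k : Type u) [Field k] [Fintype k] [DecidableEq k] (N d j : ℕ)
    (hd : 0 < d) (F : MvPolynomial (Fin N) k) (hF : F.IsHomogeneous d) (hj : j * d < N) :
    Fintype.card k ^ j ∣ Fintype.card {x : Fin N → k // MvPolynomial.eval x F = 0} := by
  obtain ⟨p, hchar⟩ := CharP.exists k
  haveI := hchar
  obtain ⟨n, hpprime, hcard⟩ := FiniteField.card k p
  haveI : Fact p.Prime := ⟨hpprime⟩
  refine ax_core p (WittVector.teichmuller p) (WittVector.constantCoeff) (n : ℕ) n.pos hcard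
    (WittVector.teichmuller_zero p) (fun x => ?_) (fun w hw => ?_) (WittVector.p_nonzero p k)
    N d j hd F hF hj
  · rw [WittVector.constantCoeff_apply, WittVector.teichmuller_coeff_zero]
  · rw [WittVector.constantCoeff_apply] at hw
    exact Ideal.mem_span_singleton.1 ((WittVector.mem_span_p_iff_coeff_zero_eq_zero w).2 hw)

end Groth.Agent.H9.AxThm
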