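import Mathlib
import Groth.Prelude.Def_W4c1hurwitzcptBd

/-! Helper9: representability of based algebra structures (S13882). -/

namespace Groth.Agent.H9.BAlg

open W4c1hurwitzcpt

universe u

section
variable (K : Type u) [Field K] (d : ℕ)

abbrev Idx (d : ℕ) : Type := (Fin d × Fin d × Fin d) ⊕ Fin d

noncomputable def cX (i j k : Fin d) : MvPolynomial (Idx d) K := MvPolynomial.X (Sum.inl (i, j, k))
noncomputable def uX (i : Fin d) : MvPolynomial (Idx d) K := MvPolynomial.X (Sum.inr i)

noncomputable def relComm (i j k : Fin d) : MvPolynomial (Idx d) K := cX K d i j k - cX K d j i k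
noncomputable def relAssoc (i j l m : Fin d) : MvPolynomial (Idx d) K :=
  (∑ k, cX K d i j k * cX K d k l m) - ∑ k, cX K d j l k * cX K d i k m
noncomputable def relUnit (j m : Fin d) : MvPolynomial (Idx d) K :=
  (∑ i, uX K d i * cX K d i j m) - if j = m then 1 else 0

def Rel : Set (MvPolynomial (Idx d) K) :=
  {p | (∃ i j k, p = relComm K d i j k) ∨ (∃ i j l m, p = relAssoc K d i j l m) ∨
    (∃ j m, p = relUnit K d j m)}

noncomputable def I : Ideal (MvPolynomial (Idx d) K) := Ideal.span (Rel K d)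

abbrev B : Type u := MvPolynomial (Idx d) K ⧸ I K d

instance : Algebra.FiniteType K (B K d) :=
  Algebra.FiniteType.of_surjective (Ideal.Quotient.mkₐ K (I K d)) (Ideal.Quotient.mkₐ_surjective K _)

variable {K d}
variable {A : Type u} [CommRing A] [Algebra K A]

noncomputable def vals (s : BasedAlg d A) : Idx d → A :=
  Sum.elim (fun t => s.c t.1 t.2.1 t.2.2) s.u

lemma aeval_cX (s : BasedAlg d A) (i j k : Fin d) :
    MvPolynomial.aeval (vals s) (cX K d i j k) = s.c i j k := by
  simp [cX, vals]

lemma aeval_uX (s : BasedAlg d A) (i : Fin d) :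
    MvPolynomial.aeval (vals s) (uX K d i) = s.u i := by
  simp [uX, vals]

lemma I_le_ker (s : BasedAlg d A) :
    ∀ p ∈ I K d, (MvPolynomial.aeval (vals s) : MvPolynomial (Idx d) K →ₐ[K] A) p = 0 := by
  intro p hp
  have : I K d ≤ RingHom.ker (MvPolynomial.aeval (vals s) : MvPolynomial (Idx d) K →ₐ[K] A) := by
    rw [I, Ideal.span_le]
    rintro q (⟨i, j, k, rfl⟩ | ⟨i, j, l, m, rfl⟩ | ⟨j, m, rfl⟩)
    · simp only [SetLike.mem_coe, RingHom.mem_ker, relComm, map_sub, aeval_cX]
      rw [s.comm i j k, sub_self]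
    · simp only [SetLike.mem_coe, RingHom.mem_ker, relAssoc, map_sub, map_sum, map_mul, aeval_cX]
      rw [s.assoc i j l m, sub_self]
    · simp only [SetLike.mem_coe, RingHom.mem_ker, relUnit, map_sub, map_sum, map_mul, aeval_cX,
        aeval_uX]
      rw [s.unit j m]
      split <;> simp
  exact this hp

noncomputable def ofBased (s : BasedAlg d A) : B K d →ₐ[K] A :=
  Ideal.Quotient.liftₐ (I K d) (MvPolynomial.aeval (vals s)) (I_le_ker s)

lemma mk_rel_eq_zero {p : MvPolynomial (Idx d) K} (hp : p ∈ Rel K d) :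
    (Ideal.Quotient.mk (I K d) p) = 0 :=
  Ideal.Quotient.eq_zero_iff_mem.2 (Ideal.subset_span hp)

noncomputable def toBased (g : B K d →ₐ[K] A) : BasedAlg d A where
  c i j k := g (Ideal.Quotient.mk _ (cX K d i j k))
  u i := g (Ideal.Quotient.mk _ (uX K d i))
  comm i j k := by
    have h : Ideal.Quotient.mk (I K d) (relComm K d i j k) = 0 :=
      mk_rel_eq_zero (Or.inl ⟨i, j, k, rfl⟩)
    have h2 := congrArg g h
    simp only [relComm, map_sub, map_zero] at h2
    exact sub_eq_zero.1 h2
  assoc i j l m := by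
    have h : Ideal.Quotient.mk (I K d) (relAssoc K d i j l m) = 0 :=
      mk_rel_eq_zero (Or.inr (Or.inl ⟨i, j, l, m, rfl⟩))
    have h2 := congrArg g h
    simp only [relAssoc, map_sub, map_zero, map_sum, map_mul] at h2
    exact sub_eq_zero.1 h2
  unit j m := by
    have h : Ideal.Quotient.mk (I K d) (relUnit K d j m) = 0 :=
      mk_rel_eq_zero (Or.inr (Or.inr ⟨j, m, rfl⟩))
    have h2 := congrArg g h
    simp only [relUnit, map_sub, map_zero, map_sum, map_mul] at h2
    rw [sub_eq_zero] at h2
    rw [h2]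
    split <;> simp

lemma ofBased_mk (s : BasedAlg d A) (p : MvPolynomial (Idx d) K) :
    ofBased s (Ideal.Quotient.mk _ p) = MvPolynomial.aeval (vals s) p := by
  rfl

noncomputable def eta (A : Type u) [CommRing A] [Algebra K A] : (B K d →ₐ[K] A) ≃ BasedAlg d A where
  toFun := toBased
  invFun := ofBased
  left_inv g := by
    apply Ideal.Quotient.algHom_ext
    apply MvPolynomial.algHom_ext
    intro t
    simp only [AlgHom.comp_apply, Ideal.Quotient.mkₐ_eq_mk, ofBased_mk, MvPolynomial.aeval_X]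
    rcases t with ⟨i, j, k⟩ | i
    · rfl
    · rfl
  right_inv s := by
    ext i j k
    · show ofBased s (Ideal.Quotient.mk _ (cX K d i j k)) = _
      rw [ofBased_mk, aeval_cX]
    · show ofBased s (Ideal.Quotient.mk _ (uX K d _)) = _
      rw [ofBased_mk, aeval_uX]

theorem main (K : Type u) [Field K] (d : ℕ) :
    ∃ (B : Type u) (_ : CommRing B) (_ : Algebra K B) (_ : Algebra.FiniteType K B)
      (η : ∀ (A : Type u) [CommRing A] [Algebra K A], (B →ₐ[K] A) ≃ W4c1hurwitzcpt.BasedAlg d A),
      ∀ (A A' : Type u) [CommRing A] [Algebra K A] [CommRing A'] [Algebra K A']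
        (f : A →ₐ[K] A') (g : B →ₐ[K] A),
        η A' (f.comp g) = (η A g).map f.toRingHom := by
  refine ⟨B K d, inferInstance, inferInstance, inferInstance, fun A _ _ => eta A, ?_⟩
  intro A A' _ _ _ _ f g
  ext i j k
  · rfl
  · rfl

end

end Groth.Agent.H9.BAlg
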