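import Mathlib
import Groth.Prelude.Def_Magnet3
import Groth.Prelude.Def_ActBC

/-! # BCC1: iterated base change of monoid actions vs base change along the composite;
objectwise base change of functors of equivariant maps (S18300). -/

set_option autoImplicit false
set_option linter.style.haveILetI false
set_option linter.unusedSectionVars false
set_option linter.unusedVariables false

open CategoryTheory CategoryTheory.Limits AlgebraicGeometry MonoidalCategory
  CartesianMonoidalCategory MonObj Opposite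

namespace Groth.Agent.H9.BCC
universe u

open Magnet ActBC

section Comp

variable {S S' S'' : Scheme.{u}} (f : S'' ⟶ S') (g : S' ⟶ S) {d : S'' ⟶ S} {A B X : Over S}
  [MonObj A]

@[reassoc]
theorem bc_bc_act (h : f ≫ g = d) (a : MonAct A X) :
    ((a.bc g).bc f).act ≫ (bcCompIso f g X h).hom =
      (Red.bc f (Red.bc g A) ◁ (bcCompIso f g X h).hom) ≫
        ((bcCompIso f g A h).hom ▷ Red.bc d X) ≫ (a.bc d).act := by
  ext
  apply pullback.hom_ext
  · simp only [MonAct.bc_act, Over.comp_left, Category.assoc,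
      bcCompIso_hom_left_fst, pullback_map_left_fst, pullback_map_left_fst_assoc]
    simp only [← Category.assoc]
    congr 1
    simp only [Category.assoc]
    apply pullback.hom_ext
    · simp only [Category.assoc]
      rw [μ_left_fst_fst, μ_left_fst_fst_assoc, μ_left_fst_fst, Over.whiskerRight_left_fst_assoc,
        Over.whiskerLeft_left_fst_assoc, bcCompIso_hom_left_fst]
    · simp only [Category.assoc]
      rw [μ_left_fst_snd, μ_left_fst_snd_assoc, μ_left_fst_snd, Over.whiskerRight_left_snd_assoc,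
        Over.whiskerLeft_left_snd_assoc, bcCompIso_hom_left_fst]
  · exact (Over.w _).trans (Over.w _).symm

theorem conj_equivariant_iff (h : f ≫ g = d) (ρ : MonAct A B) (a : MonAct A X)
    (ψ : Red.bc d B ⟶ Red.bc d X) :
    MonAct.IsEquivariant ((ρ.bc g).bc f) ((a.bc g).bc f)
        ((bcCompIso f g B h).hom ≫ ψ ≫ (bcCompIso f g X h).inv) ↔
      MonAct.IsEquivariant (ρ.bc d) (a.bc d) ψ := by
  unfold MonAct.IsEquivariant
  rw [← cancel_mono (bcCompIso f g X h).hom]
  simp only [Category.assoc, Iso.inv_hom_id, Category.comp_id]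
  rw [bc_bc_act f g h a, bc_bc_act_assoc f g h ρ]
  have e1 : (Red.bc f (Red.bc g A) ◁ ((bcCompIso f g B h).hom ≫ ψ ≫ (bcCompIso f g X h).inv)) ≫
      (Red.bc f (Red.bc g A) ◁ (bcCompIso f g X h).hom) =
      (Red.bc f (Red.bc g A) ◁ (bcCompIso f g B h).hom) ≫ (Red.bc f (Red.bc g A) ◁ ψ) := by
    rw [← MonoidalCategory.whiskerLeft_comp, ← MonoidalCategory.whiskerLeft_comp]
    simp
  rw [reassoc_of% e1, whisker_exchange_assoc (bcCompIso f g A h).hom ψ, cancel_epi, cancel_epi]

/-- conjugation by the canonical isomorphisms, on equivariant morphisms -/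
noncomputable def conjEquiv (h : f ≫ g = d) (ρ : MonAct A B) (a : MonAct A X) :
    {ψ : Red.bc d B ⟶ Red.bc d X // MonAct.IsEquivariant (ρ.bc d) (a.bc d) ψ} ≃
      {ψ' : Red.bc f (Red.bc g B) ⟶ Red.bc f (Red.bc g X) //
        MonAct.IsEquivariant ((ρ.bc g).bc f) ((a.bc g).bc f) ψ'} where
  toFun ψ := ⟨(bcCompIso f g B h).hom ≫ ψ.1 ≫ (bcCompIso f g X h).inv,
    (conj_equivariant_iff f g h ρ a ψ.1).2 ψ.2⟩
  invFun ψ' := ⟨(bcCompIso f g B h).inv ≫ ψ'.1 ≫ (bcCompIso f g X h).hom,
    (conj_equivariant_iff f g h ρ a _).1 (by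
      have := ψ'.2
      simpa using this)⟩
  left_inv ψ := Subtype.ext (by simp)
  right_inv ψ' := Subtype.ext (by simp)

end Comp

section Main

theorem S18300_gen {S : Scheme.{u}} {A B X : Over S} [MonObj A] (ρ : MonAct A B) (a : MonAct A X)
    (T : Over S) (T'' : Over T.left) :
    ∃ Φ : (MonAct.eqvHom ρ a).obj (op ((Over.map T.hom).obj T'')) ≃
        (MonAct.eqvHom (ρ.bc T.hom) (a.bc T.hom)).obj (op T''),
      ∀ φ, (eqvHomEquivBc T'' (ρ.bc T.hom) (a.bc T.hom) (Φ φ)).1 ≫
          (bcCompIso T''.hom T.hom X rfl).hom =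
        (bcCompIso T''.hom T.hom B rfl).hom ≫
          (eqvHomEquivBc ((Over.map T.hom).obj T'') ρ a φ).1 := by
  refine ⟨(eqvHomEquivBc ((Over.map T.hom).obj T'') ρ a).trans
    ((conjEquiv T''.hom T.hom rfl ρ a).trans
      (eqvHomEquivBc T'' (ρ.bc T.hom) (a.bc T.hom)).symm), ?_⟩
  intro φ
  simp only [Equiv.trans_apply, Equiv.apply_symm_apply]
  change ((bcCompIso T''.hom T.hom B rfl).hom ≫ _ ≫ (bcCompIso T''.hom T.hom X rfl).inv) ≫
    (bcCompIso T''.hom T.hom X rfl).hom = _
  simp only [Category.assoc, Iso.inv_hom_id, Category.comp_id]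

theorem S18300_main (S : Scheme.{u}) (M : Type) [AddCommMonoid M] (N : AddSubmonoid M)
    (X : Over S) (a : Magnet.MonAct (Magnet.AMonS S M) X) (T : Over S) (T'' : Over T.left) :
    ∃ Φ : (Magnet.attr a N).obj (op ((Over.map T.hom).obj T'')) ≃
        (Magnet.MonAct.eqvHom ((Magnet.subAct S M N).bc T.hom) (a.bc T.hom)).obj (op T''),
      ∀ φ, (Magnet.eqvHomEquivBc T'' ((Magnet.subAct S M N).bc T.hom) (a.bc T.hom) (Φ φ)).1 ≫
          (ActBC.bcCompIso T''.hom T.hom X rfl).hom =
        (ActBC.bcCompIso T''.hom T.hom (Magnet.AMonS S N) rfl).hom ≫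
          (Magnet.eqvHomEquivBc ((Over.map T.hom).obj T'') (Magnet.subAct S M N) a φ).1 :=
  S18300_gen (Magnet.subAct S M N) a T T''

end Main

end Groth.Agent.H9.BCC
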