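import Mathlib

/-!
# Base change bookkeeping for properties of `pullback.snd`
-/

set_option autoImplicit false

namespace Groth.Agent.H9.BCI

open CategoryTheory Limits AlgebraicGeometry

universe u

section Gen

variable {C : Type*} [Category C] [HasPullbacks C] (P : MorphismProperty C)

/-- in a pullback square, base changes of `snd` are base changes of `f`. -/
lemma snd_iff_of_isPullback [P.RespectsIso] {Q A B T T' : C} {fst : Q ⟶ A} {snd : Q ⟶ T}
    {f : A ⟶ B} {g : T ⟶ B} (sq : IsPullback fst snd f g) (h : T' ⟶ T) :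
    P (pullback.snd snd h) ↔ P (pullback.snd f (h ≫ g)) := by
  have big : IsPullback (pullback.fst snd h ≫ fst) (pullback.snd snd h) f (h ≫ g) :=
    (IsPullback.of_hasPullback snd h).paste_horiz sq
  have e : big.isoPullback.hom ≫ pullback.snd f (h ≫ g) = pullback.snd snd h :=
    big.isoPullback_hom_snd
  rw [← e, P.cancel_left_of_respectsIso]

lemma snd_congr {A B T : C} (f : A ⟶ B) {h h' : T ⟶ B} (e : h = h') :
    P (pullback.snd f h) ↔ P (pullback.snd f h') := by
  subst e
  rfl

/-- a base change of a base change. -/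
lemma snd_comp_of_snd [P.RespectsIso] [P.IsStableUnderBaseChange] {A B T T' : C} (f : A ⟶ B)
    (h : T ⟶ B) (a : T' ⟶ T) (hP : P (pullback.snd f h)) : P (pullback.snd f (a ≫ h)) := by
  rw [← snd_iff_of_isPullback P (IsPullback.of_hasPullback f h) a]
  exact P.pullback_snd _ _ hP

end Gen

section Sch

variable {X Y : Scheme.{u}}

lemma isIso_morphismRestrict_iff (f : X ⟶ Y) (U : Y.Opens) :
    IsIso (f ∣_ U) ↔ IsIso (pullback.snd f U.ι) := by
  rw [← pullbackRestrictIsoRestrict_hom_morphismRestrict f U]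
  constructor
  · intro h
    infer_instance
  · intro h
    exact IsIso.of_isIso_comp_left (pullbackRestrictIsoRestrict f U).hom (f ∣_ U)

lemma isIso_iff_isomorphisms {A B : Scheme.{u}} (f : A ⟶ B) :
    IsIso f ↔ MorphismProperty.isomorphisms Scheme.{u} f := Iff.rfl

/-- `IsIso (pullback.snd · ·)` bookkeeping, specialised. -/
lemma isIso_snd_iff_of_isPullback {Q A B T T' : Scheme.{u}} {fst : Q ⟶ A} {snd : Q ⟶ T}
    {f : A ⟶ B} {g : T ⟶ B} (sq : IsPullback fst snd f g) (h : T' ⟶ T) :
    IsIso (pullback.snd snd h) ↔ IsIso (pullback.snd f (h ≫ g)) :=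
  snd_iff_of_isPullback (MorphismProperty.isomorphisms Scheme.{u}) sq h

lemma isIso_snd_comp_of_snd {A B T T' : Scheme.{u}} (f : A ⟶ B) (h : T ⟶ B) (a : T' ⟶ T)
    (hP : IsIso (pullback.snd f h)) : IsIso (pullback.snd f (a ≫ h)) :=
  snd_comp_of_snd (MorphismProperty.isomorphisms Scheme.{u}) f h a hP

lemma isProper_snd_comp_of_snd {A B T T' : Scheme.{u}} (f : A ⟶ B) (h : T ⟶ B) (a : T' ⟶ T)
    (hP : IsProper (pullback.snd f h)) : IsProper (pullback.snd f (a ≫ h)) :=
  snd_comp_of_snd @IsProper f h a hP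

/-- restriction to an open of the base change, in terms of the original morphism. -/
lemma isIso_morphismRestrict_iff_of_isPullback {Q A B T : Scheme.{u}} {fst : Q ⟶ A}
    {snd : Q ⟶ T} {f : A ⟶ B} {g : T ⟶ B} (sq : IsPullback fst snd f g) (U : T.Opens) :
    IsIso (snd ∣_ U) ↔ IsIso (pullback.snd f (U.ι ≫ g)) := by
  rw [isIso_morphismRestrict_iff, isIso_snd_iff_of_isPullback sq]

end Sch

end Groth.Agent.H9.BCI
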