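import Mathlib

set_option autoImplicit false
set_option linter.style.haveILetI false
set_option linter.unusedSectionVars false
set_option linter.unusedVariables false

/-!
# Buchsbaum–Eisenbud, part 1: an elementary acyclicity lemma

A complex `M_e → ⋯ → M_1 → M_0` of Noetherian modules (with the map into `M_e` zero) such that a
list `rs` of length `e` of elements of the Jacobson radical is weakly regular on every `M_i`,
and such that every homology class at positions `1, …, e` is killed by a power of each element of
`rs`, is exact at positions `1, …, e`.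
-/

namespace Groth.Agent.H9.BE

open RingTheory.Sequence

universe u v

theorem quot_mk_eq_zero_iff {R : Type u} [CommRing R] {N : Type v} [AddCommGroup N] [Module R N]
    (x : R) (z : N) :
    (Submodule.Quotient.mk z : QuotSMulTop x N) = 0 ↔ ∃ u : N, z = x • u := by
  rw [Submodule.Quotient.mk_eq_zero, Submodule.mem_smul_pointwise_iff_exists]
  constructor
  · rintro ⟨u, -, hu⟩
    exact ⟨u, hu.symm⟩
  · rintro ⟨u, hu⟩
    exact ⟨u, trivial, hu.symm⟩

theorem quot_mk_eq_mk_iff {R : Type u} [CommRing R] {N : Type v} [AddCommGroup N] [Module R N]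
    (x : R) (z w : N) :
    (Submodule.Quotient.mk z : QuotSMulTop x N) = Submodule.Quotient.mk w ↔
      ∃ u : N, z = w + x • u := by
  rw [← sub_eq_zero, ← Submodule.Quotient.mk_sub, quot_mk_eq_zero_iff]
  constructor
  · rintro ⟨u, hu⟩
    exact ⟨u, by rw [← hu]; abel⟩
  · rintro ⟨u, hu⟩
    exact ⟨u, by rw [hu]; abel⟩

theorem smul_pow_cancel {R : Type u} [CommRing R] {N : Type v} [AddCommGroup N] [Module R N]
    {x : R} (hx : IsSMulRegular N x) (k : ℕ) {z : N} (h : x ^ k • z = 0) : z = 0 := by
  have := (hx.pow k)
  exact this (by simpa using h)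

theorem acyclic_aux {R : Type u} [CommRing R] (rs : List R) :
    ∀ (M : ℕ → Type v) [∀ i, AddCommGroup (M i)] [∀ i, Module R (M i)]
      [∀ i, IsNoetherian R (M i)] (d : ∀ i, M (i + 1) →ₗ[R] M i),
      (∀ x ∈ rs, x ∈ Ideal.jacobson (⊥ : Ideal R)) →
      (∀ i (z : M (i + 1 + 1)), d i (d (i + 1) z) = 0) →
      (∀ z, d rs.length z = 0) →
      (∀ i, IsWeaklyRegular (M i) rs) →
      (∀ i, i < rs.length → ∀ z : M (i + 1), d i z = 0 → ∀ x ∈ rs,
        ∃ (k : ℕ) (w : M (i + 1 + 1)), x ^ k • z = d (i + 1) w) →
      ∀ i, i < rs.length → ∀ z : M (i + 1), d i z = 0 →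
        ∃ w : M (i + 1 + 1), z = d (i + 1) w := by
  induction rs with
  | nil =>
    intro M _ _ _ d _ _ _ _ _ i hi
    simp at hi
  | cons x rs ih =>
    intro M _ _ _ d hjac hd hend hreg htors
    have hxreg : ∀ i, IsSMulRegular (M i) x := fun i =>
      ((isWeaklyRegular_cons_iff _ _ _).1 (hreg i)).1
    have hreg' : ∀ i, IsWeaklyRegular (QuotSMulTop x (M (i + 1))) rs := fun i =>
      ((isWeaklyRegular_cons_iff _ _ _).1 (hreg (i + 1))).2
    have hlen : (x :: rs).length = rs.length + 1 := List.length_cons
    -- the quotient complex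
    have key := ih (fun i => QuotSMulTop x (M (i + 1))) (fun i => QuotSMulTop.map x (d (i + 1)))
      (fun y hy => hjac y (List.mem_cons_of_mem _ hy))
      (by
        intro i z
        obtain ⟨z, rfl⟩ := Submodule.mkQ_surjective _ z
        simp only [Submodule.mkQ_apply, QuotSMulTop.map_apply_mk]
        rw [hd (i + 1) z]
        rfl)
      (by
        intro z
        obtain ⟨z, rfl⟩ := Submodule.mkQ_surjective _ z
        simp only [Submodule.mkQ_apply, QuotSMulTop.map_apply_mk]
        have : d (rs.length + 1) z = 0 := hend z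
        rw [this]
        rfl)
      hreg'
      (by
        intro i hi z hz y hy
        obtain ⟨z, rfl⟩ := Submodule.mkQ_surjective _ z
        simp only [Submodule.mkQ_apply, QuotSMulTop.map_apply_mk] at hz ⊢
        obtain ⟨u, hu⟩ := (quot_mk_eq_zero_iff x _).1 hz
        -- `u` is a cycle
        have hu0 : d i u = 0 := by
          apply hxreg i
          show x • d i u = x • 0
          rw [smul_zero, ← map_smul, ← hu, hd]
        have hy' : y ∈ x :: rs := List.mem_cons_of_mem _ hy
        obtain ⟨a, v, hv⟩ := htors i (by omega) u hu0 y hy'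
        have h2 : d (i + 1) (y ^ a • z - x • v) = 0 := by
          rw [map_sub, map_smul, map_smul, hu, ← hv, smul_comm]
          exact sub_self _
        obtain ⟨b, w, hw⟩ := htors (i + 1) (by omega) _ h2 y hy'
        refine ⟨b + a, Submodule.Quotient.mk w, ?_⟩
        simp only [QuotSMulTop.map_apply_mk]
        rw [← Submodule.Quotient.mk_smul, quot_mk_eq_mk_iff]
        refine ⟨y ^ b • v, ?_⟩
        rw [← hw, smul_sub, pow_add, mul_smul, smul_comm (y ^ b) x v]
        abel)
    intro i hi z hz
    rcases Nat.eq_zero_or_pos i with rfl | hipos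
    · -- position 1: `x` is a nonzerodivisor on the homology, which is `x`-power torsion
      obtain ⟨k, w, hw⟩ := htors 0 hi z hz x List.mem_cons_self
      induction k generalizing w with
      | zero => exact ⟨w, by simpa using hw⟩
      | succ k ihk =>
        rcases Nat.eq_zero_or_pos rs.length with h0 | hpos
        · have h1 : d (0 + 1) w = 0 := by
            have := hend
            rw [hlen, h0] at this
            exact this w
          rw [h1] at hw
          have hz0 : z = 0 := smul_pow_cancel (hxreg _) _ hw
          exact ⟨0, by rw [hz0, map_zero]⟩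
        · have h1 : QuotSMulTop.map x (d (0 + 1)) (Submodule.Quotient.mk w) = 0 := by
            rw [QuotSMulTop.map_apply_mk, quot_mk_eq_zero_iff]
            exact ⟨x ^ k • z, by rw [← hw, pow_succ', mul_smul]⟩
          obtain ⟨v, hv⟩ := key 0 hpos (Submodule.Quotient.mk w) h1
          obtain ⟨v, rfl⟩ := Submodule.mkQ_surjective _ v
          simp only [Submodule.mkQ_apply, QuotSMulTop.map_apply_mk] at hv
          obtain ⟨w', hw'⟩ := (quot_mk_eq_mk_iff x _ _).1 hv
          refine ihk w' ?_
          apply hxreg _
          show x • x ^ k • z = x • d (0 + 1) w'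
          have h2 : d (0 + 1) w = x • d (0 + 1) w' := by
            rw [hw', map_add, map_smul, hd (0 + 1) v]
            exact zero_add _
          rw [← mul_smul, ← pow_succ', hw, h2]
    · -- positions `≥ 2`: Nakayama
      obtain ⟨i, rfl⟩ : ∃ j, i = j + 1 := ⟨i - 1, by omega⟩
      have hi' : i < rs.length := by rw [hlen] at hi; omega
      have hle : LinearMap.ker (d (i + 1)) ≤
          LinearMap.range (d (i + 1 + 1)) ⊔
            (Ideal.span {x} : Ideal R) • LinearMap.ker (d (i + 1)) := by
        intro z hz
        rw [LinearMap.mem_ker] at hz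
        have h1 : QuotSMulTop.map x (d (i + 1)) (Submodule.Quotient.mk z) = 0 := by
          rw [QuotSMulTop.map_apply_mk, hz]
          rfl
        obtain ⟨v, hv⟩ := key i hi' (Submodule.Quotient.mk z) h1
        obtain ⟨v, rfl⟩ := Submodule.mkQ_surjective _ v
        simp only [Submodule.mkQ_apply, QuotSMulTop.map_apply_mk] at hv
        obtain ⟨u, hu⟩ := (quot_mk_eq_mk_iff x _ _).1 hv
        have hu0 : d (i + 1) u = 0 := by
          apply hxreg _
          show x • d (i + 1) u = x • 0
          rw [smul_zero, ← map_smul]
          have : x • u = z - d (i + 1 + 1) v := by rw [hu]; abel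
          rw [this, map_sub, hz, hd, sub_zero]
        rw [hu]
        refine Submodule.add_mem_sup ⟨v, rfl⟩ ?_
        exact Submodule.smul_mem_smul (Ideal.mem_span_singleton_self x) hu0
      have hfg : (LinearMap.ker (d (i + 1))).FG := IsNoetherian.noetherian _
      have hjx : (Ideal.span {x} : Ideal R) ≤ Ideal.jacobson ⊥ := by
        rw [Ideal.span_le, Set.singleton_subset_iff]
        exact hjac x List.mem_cons_self
      have := Submodule.le_of_le_smul_of_le_jacobson_bot hfg hjx hle
      obtain ⟨w, hw⟩ := this (LinearMap.mem_ker.2 hz)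
      exact ⟨w, hw.symm⟩

end Groth.Agent.H9.BE
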