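import Mathlib
import Groth.Agent.Lib.Helper9.Misc.BE1

set_option autoImplicit false
set_option linter.style.haveILetI false
set_option linter.unusedSectionVars false
set_option linter.unusedVariables false

/-!
# Buchsbaum–Eisenbud, part 2: matrices and localization
-/

namespace Groth.Agent.H9.BE

open RingTheory.Sequence

universe u v

section loc

variable {R : Type u} [CommRing R] (T : Submonoid R) (S : Type v) [CommRing S] [Algebra R S]
  [IsLocalization T S]

/-- a vector over `R` which becomes zero in the localization is killed by an element of `T`. -/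
theorem exists_smul_eq_zero_of_map_eq_zero {b : ℕ} (z : Fin b → R)
    (hz : ∀ j, algebraMap R S (z j) = 0) : ∃ t ∈ T, t • z = 0 := by
  classical
  have h1 : ∀ j, ∃ t : T, (t : R) * z j = 0 := fun j =>
    (IsLocalization.map_eq_zero_iff T S (z j)).1 (hz j)
  choose t ht using h1
  refine ⟨((∏ j, t j : T) : R), (∏ j, t j : T).2, ?_⟩
  funext j
  simp only [Pi.smul_apply, smul_eq_mul, Pi.zero_apply]
  rw [Submonoid.coe_finsetProd, ← Finset.mul_prod_erase _ _ (Finset.mem_univ j), mul_comm _ (∏ _ ∈ _, _),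
    mul_assoc, ht, mul_zero]

/-- clearing denominators of a vector -/
theorem exists_smul_eq_map {c : ℕ} (w' : Fin c → S) :
    ∃ s ∈ T, ∃ w : Fin c → R, ∀ j, algebraMap R S (w j) = algebraMap R S s * w' j := by
  obtain ⟨s, hs⟩ := IsLocalization.exist_integer_multiples_of_finite T w'
  choose w hw using hs
  refine ⟨s, s.2, w, fun j => ?_⟩
  rw [hw j, Algebra.smul_def]

/-- local exactness gives exactness up to a denominator. -/
theorem exists_smul_mem_range_of_loc {a b c : ℕ} (A : Matrix (Fin a) (Fin b) R)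
    (B : Matrix (Fin b) (Fin c) R)
    (h : LinearMap.ker (A.map (algebraMap R S)).mulVecLin ≤
      LinearMap.range (B.map (algebraMap R S)).mulVecLin)
    (z : Fin b → R) (hz : A.mulVec z = 0) :
    ∃ s ∈ T, ∃ w : Fin c → R, s • z = B.mulVec w := by
  have h1 : (algebraMap R S) ∘ z ∈ LinearMap.ker (A.map (algebraMap R S)).mulVecLin := by
    rw [LinearMap.mem_ker, Matrix.mulVecLin_apply]
    funext i
    rw [← RingHom.map_mulVec, hz]
    simp
  obtain ⟨w', hw'⟩ := h h1
  rw [Matrix.mulVecLin_apply] at hw'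
  obtain ⟨s, hs, w, hw⟩ := exists_smul_eq_map T S w'
  have h2 : ∀ j, algebraMap R S ((B.mulVec w - s • z) j) = 0 := by
    intro j
    rw [Pi.sub_apply, map_sub, RingHom.map_mulVec]
    have : (algebraMap R S) ∘ w = algebraMap R S s • w' := by
      funext j
      simp [hw j]
    rw [this, Matrix.mulVec_smul, hw']
    simp
  obtain ⟨t, ht, h3⟩ := exists_smul_eq_zero_of_map_eq_zero T S _ h2
  refine ⟨t * s, T.mul_mem ht hs, t • w, ?_⟩
  rw [Matrix.mulVec_smul, mul_smul]
  rw [smul_sub, sub_eq_zero] at h3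
  exact h3.symm

theorem exists_smul_eq_zero_of_loc {a b : ℕ} (A : Matrix (Fin a) (Fin b) R)
    (h : LinearMap.ker (A.map (algebraMap R S)).mulVecLin = ⊥)
    (z : Fin b → R) (hz : A.mulVec z = 0) :
    ∃ s ∈ T, s • z = 0 := by
  have h1 : (algebraMap R S) ∘ z ∈ LinearMap.ker (A.map (algebraMap R S)).mulVecLin := by
    rw [LinearMap.mem_ker, Matrix.mulVecLin_apply]
    funext i
    rw [← RingHom.map_mulVec, hz]
    simp
  rw [h, Submodule.mem_bot] at h1
  exact exists_smul_eq_zero_of_map_eq_zero T S z (fun j => congrFun h1 j)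

end loc

section flat

variable {R : Type u} [CommRing R]

theorem weaklyRegular_of_flat (N : Type v) [AddCommGroup N] [Module R N] [Module.Flat R N]
    {rs : List R} (h : IsWeaklyRegular R rs) : IsWeaklyRegular N rs :=
  ((TensorProduct.lid R N).isWeaklyRegular_congr rs).1 (h.isWeaklyRegular_rTensor (M₂ := N))

end flat

section dmat

variable {R : Type u} [CommRing R]

/-- the differentials of the complex `0 → R^{n_e} → ⋯ → R^{n_0}` given by matrices. -/
noncomputable def dmat (e : ℕ) (n : ℕ → ℕ) (A : (i : ℕ) → Matrix (Fin (n i)) (Fin (n (i + 1))) R)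
    (i : ℕ) : (Fin (n (i + 1)) → R) →ₗ[R] (Fin (n i) → R) :=
  if i + 1 ≤ e then (A i).mulVecLin else 0

theorem dmat_of_le {e : ℕ} {n : ℕ → ℕ} {A : (i : ℕ) → Matrix (Fin (n i)) (Fin (n (i + 1))) R}
    {i : ℕ} (h : i + 1 ≤ e) : dmat e n A i = (A i).mulVecLin := if_pos h

theorem dmat_of_lt {e : ℕ} {n : ℕ → ℕ} {A : (i : ℕ) → Matrix (Fin (n i)) (Fin (n (i + 1))) R}
    {i : ℕ} (h : e < i + 1) : dmat e n A i = 0 := if_neg (by omega)

theorem dmat_comp {e : ℕ} {n : ℕ → ℕ} {A : (i : ℕ) → Matrix (Fin (n i)) (Fin (n (i + 1))) R}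
    (hA : ∀ i, i + 2 ≤ e → A i * A (i + 1) = 0) (i : ℕ) (z : Fin (n (i + 1 + 1)) → R) :
    dmat e n A i (dmat e n A (i + 1) z) = 0 := by
  by_cases h : i + 2 ≤ e
  · rw [dmat_of_le (by omega : i + 1 ≤ e), dmat_of_le (by omega : i + 1 + 1 ≤ e),
      Matrix.mulVecLin_apply, Matrix.mulVecLin_apply, Matrix.mulVec_mulVec, hA i h,
      Matrix.zero_mulVec]
  · rw [dmat_of_lt (by omega : e < i + 1 + 1)]
    simp

/-- exactness of the complex, in the form used in the statements -/
def IsExact (e : ℕ) (n : ℕ → ℕ) (A : (i : ℕ) → Matrix (Fin (n i)) (Fin (n (i + 1))) R) : Prop :=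
  LinearMap.ker (A (e - 1)).mulVecLin = ⊥ ∧
    ∀ i, i + 2 ≤ e → LinearMap.ker (A i).mulVecLin = LinearMap.range (A (i + 1)).mulVecLin

theorem isExact_of_dmat {e : ℕ} (he : 1 ≤ e) {n : ℕ → ℕ}
    {A : (i : ℕ) → Matrix (Fin (n i)) (Fin (n (i + 1))) R}
    (hA : ∀ i, i + 2 ≤ e → A i * A (i + 1) = 0)
    (h : ∀ i, i < e → ∀ z : Fin (n (i + 1)) → R, dmat e n A i z = 0 →
      ∃ w, z = dmat e n A (i + 1) w) : IsExact e n A := by
  constructor
  · obtain ⟨e, rfl⟩ : ∃ e', e = e' + 1 := ⟨e - 1, by omega⟩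
    show LinearMap.ker (A e).mulVecLin = ⊥
    rw [eq_bot_iff]
    intro z hz
    rw [LinearMap.mem_ker] at hz
    have h1 := h e (by omega) z (by rw [dmat_of_le (le_refl _)]; exact hz)
    obtain ⟨w, hw⟩ := h1
    rw [dmat_of_lt (by omega)] at hw
    simpa using hw
  · intro i hi
    apply le_antisymm
    · intro z hz
      rw [LinearMap.mem_ker] at hz
      obtain ⟨w, hw⟩ := h i (by omega) z (by rw [dmat_of_le (by omega)]; exact hz)
      rw [dmat_of_le (by omega)] at hw
      exact ⟨w, hw.symm⟩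
    · rintro _ ⟨w, rfl⟩
      rw [LinearMap.mem_ker, Matrix.mulVecLin_apply, Matrix.mulVecLin_apply, Matrix.mulVec_mulVec,
        hA i hi, Matrix.zero_mulVec]

theorem dmat_of_isExact {e : ℕ} {n : ℕ → ℕ}
    {A : (i : ℕ) → Matrix (Fin (n i)) (Fin (n (i + 1))) R}
    (h : IsExact e n A) (i : ℕ) (hi : i < e) (z : Fin (n (i + 1)) → R)
    (hz : dmat e n A i z = 0) : ∃ w, z = dmat e n A (i + 1) w := by
  rw [dmat_of_le (by omega)] at hz
  by_cases h2 : i + 2 ≤ e
  · have : z ∈ LinearMap.range (A (i + 1)).mulVecLin := by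
      rw [← h.2 i h2]
      exact hz
    obtain ⟨w, hw⟩ := this
    exact ⟨w, by rw [dmat_of_le (by omega), hw]⟩
  · obtain rfl : i = e - 1 := by omega
    have : z ∈ LinearMap.ker (A (e - 1)).mulVecLin := hz
    rw [h.1, Submodule.mem_bot] at this
    exact ⟨0, by rw [this, map_zero]⟩

end dmat

end Groth.Agent.H9.BE
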