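import Mathlib
import Groth.Agent.Lib.Helper9.Misc.BE2

set_option autoImplicit false
set_option linter.style.haveILetI false
set_option linter.unusedSectionVars false
set_option linter.unusedVariables false

/-!
# Buchsbaum–Eisenbud, part 3: the acyclicity lemma for matrices over a local ring
-/

namespace Groth.Agent.H9.BE

open RingTheory.Sequence

universe u v

variable {R : Type u} [CommRing R]

/-- acyclicity lemma, torsion form (ring with the regular sequence in the Jacobson radical) -/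
theorem acyclicity_tors [IsNoetherianRing R]
    (e : ℕ) (he : 1 ≤ e) (n : ℕ → ℕ) (A : (i : ℕ) → Matrix (Fin (n i)) (Fin (n (i + 1))) R)
    (hA : ∀ i, i + 2 ≤ e → A i * A (i + 1) = 0)
    (rs : List R) (hlen : rs.length = e) (hmem : ∀ x ∈ rs, x ∈ Ideal.jacobson (⊥ : Ideal R))
    (hreg : IsWeaklyRegular R rs)
    (htors : ∀ i, i < e → ∀ z : Fin (n (i + 1)) → R, dmat e n A i z = 0 → ∀ x ∈ rs,
      ∃ (k : ℕ) (w : Fin (n (i + 1 + 1)) → R), x ^ k • z = dmat e n A (i + 1) w) :
    IsExact e n A := by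
  apply isExact_of_dmat he hA
  subst hlen
  exact acyclic_aux rs (fun i => Fin (n i) → R) (dmat rs.length n A) hmem (dmat_comp hA)
    (fun z => by rw [dmat_of_lt (by omega)]; rfl)
    (fun i => weaklyRegular_of_flat _ hreg) htors

/-- acyclicity lemma over a local ring: exactness on the punctured spectrum (in elementwise form)
and depth at least `e` give exactness. -/
theorem acyclicity_local [IsLocalRing R] [IsNoetherianRing R]
    (e : ℕ) (he : 1 ≤ e) (n : ℕ → ℕ) (A : (i : ℕ) → Matrix (Fin (n i)) (Fin (n (i + 1))) R)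
    (hA : ∀ i, i + 2 ≤ e → A i * A (i + 1) = 0)
    (rs : List R) (hlen : rs.length = e) (hmem : ∀ x ∈ rs, x ∈ IsLocalRing.maximalIdeal R)
    (hreg : IsWeaklyRegular R rs)
    (hloc : ∀ i, i < e → ∀ z : Fin (n (i + 1)) → R, dmat e n A i z = 0 →
      ∀ p : Ideal R, p.IsPrime → p ≠ IsLocalRing.maximalIdeal R →
        ∃ s, s ∉ p ∧ ∃ w : Fin (n (i + 1 + 1)) → R, s • z = dmat e n A (i + 1) w) :
    IsExact e n A := by
  have hj : Ideal.jacobson (⊥ : Ideal R) = IsLocalRing.maximalIdeal R :=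
    IsLocalRing.jacobson_eq_maximalIdeal ⊥ bot_ne_top
  refine acyclicity_tors e he n A hA rs hlen (fun x hx => hj ▸ hmem x hx) hreg ?_
  intro i hi z hz x hx
  set I : Ideal R := (LinearMap.range (dmat e n A (i + 1))).colon {z} with hI
  have hxr : x ∈ I.radical := by
    rw [Ideal.radical_eq_sInf, Ideal.mem_sInf]
    rintro J ⟨hIJ, hJ⟩
    by_cases hJm : J = IsLocalRing.maximalIdeal R
    · rw [hJm]; exact hmem x hx
    · obtain ⟨s, hs, w, hw⟩ := hloc i hi z hz J hJ hJm
      exfalso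
      apply hs
      apply hIJ
      rw [hI, Submodule.mem_colon_singleton]
      exact ⟨w, hw.symm⟩
  obtain ⟨k, hk⟩ := hxr
  rw [hI, Submodule.mem_colon_singleton] at hk
  obtain ⟨w, hw⟩ := hk
  exact ⟨k, w, hw.symm⟩

/-- the statement of S18128 -/
theorem acyclicity_S18128
    [IsLocalRing R] [IsNoetherianRing R]
    (e : ℕ) (he : 1 ≤ e) (n : ℕ → ℕ) (A : (i : ℕ) → Matrix (Fin (n i)) (Fin (n (i + 1))) R)
    (hA : ∀ i, i + 2 ≤ e → A i * A (i + 1) = 0)
    (rs : List R) (hlen : rs.length = e) (hmem : ∀ x ∈ rs, x ∈ IsLocalRing.maximalIdeal R)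
    (hreg : RingTheory.Sequence.IsRegular R rs)
    (hloc : ∀ (p : Ideal R) [p.IsPrime], p ≠ IsLocalRing.maximalIdeal R →
      LinearMap.ker ((A (e - 1)).map (algebraMap R (Localization.AtPrime p))).mulVecLin = ⊥ ∧
        ∀ i, i + 2 ≤ e →
          LinearMap.ker ((A i).map (algebraMap R (Localization.AtPrime p))).mulVecLin =
            LinearMap.range ((A (i + 1)).map (algebraMap R (Localization.AtPrime p))).mulVecLin) :
    LinearMap.ker (A (e - 1)).mulVecLin = ⊥ ∧
      ∀ i, i + 2 ≤ e → LinearMap.ker (A i).mulVecLin = LinearMap.range (A (i + 1)).mulVecLin := by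
  refine acyclicity_local e he n A hA rs hlen hmem hreg.toIsWeaklyRegular ?_
  intro i hi z hz p hp hpm
  haveI := hp
  obtain ⟨h1, h2⟩ := hloc p hpm
  rw [dmat_of_le (by omega)] at hz
  by_cases hi2 : i + 2 ≤ e
  · obtain ⟨s, hs, w, hw⟩ := exists_smul_mem_range_of_loc p.primeCompl (Localization.AtPrime p)
      (A i) (A (i + 1)) (le_of_eq (h2 i hi2)) z hz
    exact ⟨s, hs, w, by rw [dmat_of_le (by omega)]; exact hw⟩
  · obtain rfl : i = e - 1 := by omega
    obtain ⟨s, hs, h0⟩ := exists_smul_eq_zero_of_loc p.primeCompl (Localization.AtPrime p)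
      (A (e - 1)) h1 z hz
    exact ⟨s, hs, 0, by rw [h0, map_zero]⟩

end Groth.Agent.H9.BE
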