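import Mathlib
import Groth.Prelude.Def_CAlgX
import Groth.Agent.Lib.Helper9.Misc.BE3
import Groth.Agent.Lib.Helper5.CA2.MinorLocal
import Groth.Agent.Lib.Helper5.CA2.McCoy

set_option autoImplicit false
set_option linter.style.haveILetI false
set_option linter.unusedSectionVars false
set_option linter.unusedVariables false

/-!
# Buchsbaum–Eisenbud, part 4: truncated acyclicity lemma, split exactness, minor ideals
-/

namespace Groth.Agent.H9.BE

open RingTheory.Sequence

universe u v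

section trunc

/-- acyclicity lemma for a complex which is "split" at positions `≥ rs.length`. -/
theorem acyclic_trunc {R : Type u} [CommRing R] (rs : List R)
    (F : ℕ → Type v) [∀ i, AddCommGroup (F i)] [∀ i, Module R (F i)] [∀ i, IsNoetherian R (F i)]
    (d : ∀ i, F (i + 1) →ₗ[R] F i)
    (hjac : ∀ x ∈ rs, x ∈ Ideal.jacobson (⊥ : Ideal R))
    (hd : ∀ i (z : F (i + 1 + 1)), d i (d (i + 1) z) = 0)
    (hreg : ∀ i, IsWeaklyRegular (F i) rs)
    (hreg' : ∀ i, rs.length ≤ i → IsWeaklyRegular (F i ⧸ LinearMap.range (d i)) rs)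
    (htors : ∀ i, i < rs.length → ∀ z : F (i + 1), d i z = 0 → ∀ x ∈ rs,
        ∃ (k : ℕ) (w : F (i + 1 + 1)), x ^ k • z = d (i + 1) w) :
    ∀ i, i < rs.length → ∀ z : F (i + 1), d i z = 0 → ∃ w : F (i + 1 + 1), z = d (i + 1) w := by
  classical
  obtain ⟨N, hNdef⟩ : ∃ N : ∀ i, Submodule R (F i),
      ∀ i, N i = if rs.length ≤ i then LinearMap.range (d i) else ⊥ := ⟨_, fun _ => rfl⟩
  have hNpos : ∀ i, rs.length ≤ i → N i = LinearMap.range (d i) := fun i h => by
    rw [hNdef, if_pos h]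
  have hNneg : ∀ i, i < rs.length → N i = ⊥ := fun i h => by
    rw [hNdef, if_neg (by omega)]
  have hN : ∀ i, N (i + 1) ≤ (N i).comap (d i) := by
    intro i z hz
    rw [Submodule.mem_comap]
    by_cases h : rs.length ≤ i + 1
    · rw [hNpos _ h] at hz
      obtain ⟨w, rfl⟩ := hz
      rw [hd]
      exact Submodule.zero_mem _
    · rw [hNneg _ (by omega), Submodule.mem_bot] at hz
      rw [hz, map_zero]
      exact Submodule.zero_mem _
  have key := acyclic_aux rs (fun i => F i ⧸ N i)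
    (fun i => (N (i + 1)).mapQ (N i) (d i) (hN i)) hjac
    (by
      intro i z
      obtain ⟨z, rfl⟩ := Submodule.mkQ_surjective _ z
      simp only [Submodule.mkQ_apply, Submodule.mapQ_apply]
      rw [hd]
      rfl)
    (by
      intro z
      obtain ⟨z, rfl⟩ := Submodule.mkQ_surjective _ z
      simp only [Submodule.mkQ_apply, Submodule.mapQ_apply]
      rw [Submodule.Quotient.mk_eq_zero, hNpos _ le_rfl]
      exact ⟨z, rfl⟩)
    (by
      intro i
      by_cases h : rs.length ≤ i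
      · exact ((Submodule.quotEquivOfEq (N i) _ (hNpos i h)).isWeaklyRegular_congr rs).2
          (hreg' i h)
      · exact ((Submodule.quotEquivOfEqBot (N i) (hNneg i (by omega))).isWeaklyRegular_congr rs).2
          (hreg i))
    (by
      intro i hi z hz x hx
      obtain ⟨z, rfl⟩ := Submodule.mkQ_surjective _ z
      simp only [Submodule.mkQ_apply, Submodule.mapQ_apply] at hz ⊢
      rw [Submodule.Quotient.mk_eq_zero, hNneg i hi, Submodule.mem_bot] at hz
      obtain ⟨k, w, hw⟩ := htors i hi z hz x hx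
      refine ⟨k, Submodule.Quotient.mk w, ?_⟩
      rw [Submodule.mapQ_apply, ← Submodule.Quotient.mk_smul, hw])
  intro i hi z hz
  obtain ⟨w, hw⟩ := key i hi (Submodule.Quotient.mk z) (by
    rw [Submodule.mapQ_apply, hz]
    rfl)
  obtain ⟨w, rfl⟩ := Submodule.mkQ_surjective _ w
  simp only [Submodule.mkQ_apply, Submodule.mapQ_apply] at hw
  rw [Submodule.Quotient.eq] at hw
  by_cases h : rs.length ≤ i + 1
  · rw [hNpos _ h] at hw
    obtain ⟨v, hv⟩ := hw
    refine ⟨v + w, ?_⟩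
    rw [map_add, hv]
    abel
  · rw [hNneg _ (by omega), Submodule.mem_bot, sub_eq_zero] at hw
    exact ⟨w, hw⟩

end trunc

section split

variable {S : Type u} [CommRing S] [IsLocalRing S]

theorem free_of_isCompl {F : Type v} [AddCommGroup F] [Module S F] [Module.Finite S F]
    [Module.Free S F] (P N : Submodule S F) (hc : IsCompl P N) :
    Module.Finite S P ∧ Module.Free S P := by
  haveI : Module.Finite S P :=
    Module.Finite.of_surjective (Submodule.projectionOnto P N hc)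
      (Submodule.projectionOnto_surjective hc)
  haveI : Module.Projective S P :=
    Module.Projective.of_split P.subtype (Submodule.projectionOnto P N hc)
      (LinearMap.ext fun x => Submodule.projectionOnto_apply_left hc x)
  exact ⟨inferInstance, Module.free_of_flat_of_isLocalRing⟩

theorem finrank_add_of_isCompl {F : Type v} [AddCommGroup F] [Module S F] [Module.Finite S F]
    [Module.Free S F] (P N : Submodule S F) (hc : IsCompl P N) :
    Module.finrank S P + Module.finrank S N = Module.finrank S F := by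
  obtain ⟨_, _⟩ := free_of_isCompl P N hc
  obtain ⟨_, _⟩ := free_of_isCompl N P hc.symm
  rw [← Module.finrank_prod, (Submodule.prodEquivOfIsCompl P N hc).finrank_eq]

theorem ker_le_range_of_split {a b c : ℕ}
    (φ : (Fin b → S) →ₗ[S] (Fin a → S)) (ψ : (Fin c → S) →ₗ[S] (Fin b → S))
    (hφψ : ∀ z, φ (ψ z) = 0) (ρ ρ' : ℕ) (hb : ρ + ρ' = b)
    (hφ : ∃ N, IsCompl (LinearMap.range φ) N) (hφr : Module.finrank S (LinearMap.range φ) = ρ)
    (hψ : ∃ N', IsCompl (LinearMap.range ψ) N')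
    (hψr : Module.finrank S (LinearMap.range ψ) = ρ') :
    LinearMap.ker φ ≤ LinearMap.range ψ := by
  obtain ⟨N, hcN⟩ := hφ
  obtain ⟨N', hc⟩ := hψ
  obtain ⟨_, _⟩ := free_of_isCompl _ N hcN
  obtain ⟨_, _⟩ := free_of_isCompl N' _ hc.symm
  have hN' : Module.finrank S N' = ρ := by
    have := finrank_add_of_isCompl _ N' hc
    rw [hψr, Module.finrank_fin_fun] at this
    omega
  -- the restriction of `φ` to `N'`
  let f : N' →ₗ[S] LinearMap.range φ := φ.rangeRestrict ∘ₗ N'.subtype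
  have hfs : Function.Surjective f := by
    rintro ⟨_, ⟨v, rfl⟩⟩
    have hv : v ∈ LinearMap.range ψ ⊔ N' := by rw [hc.sup_eq_top]; trivial
    obtain ⟨p, ⟨w, rfl⟩, n', hn', rfl⟩ := Submodule.mem_sup.1 hv
    refine ⟨⟨n', hn'⟩, ?_⟩
    apply Subtype.ext
    simp [f, hφψ]
  let e : LinearMap.range φ ≃ₗ[S] N' := LinearEquiv.ofFinrankEq _ _ (by rw [hφr, hN'])
  have hinj : Function.Injective (e.toLinearMap ∘ₗ f) :=
    OrzechProperty.injective_of_surjective_endomorphism _
      (by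
        rw [LinearMap.coe_comp]
        exact e.surjective.comp hfs)
  have hfi : Function.Injective f := by
    intro x y hxy
    apply hinj
    simp [hxy]
  intro z hz
  rw [LinearMap.mem_ker] at hz
  have hv : z ∈ LinearMap.range ψ ⊔ N' := by rw [hc.sup_eq_top]; trivial
  obtain ⟨p, ⟨w, rfl⟩, n', hn', rfl⟩ := Submodule.mem_sup.1 hv
  have h0 : f ⟨n', hn'⟩ = 0 := by
    apply Subtype.ext
    simp only [f, LinearMap.comp_apply, Submodule.subtype_apply, LinearMap.codRestrict_apply,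
      LinearMap.rangeRestrict, ZeroMemClass.coe_zero]
    rw [map_add, hφψ, zero_add] at hz
    exact hz
  have hn0 : (⟨n', hn'⟩ : N') = 0 := hfi (by rw [h0, map_zero])
  have : n' = 0 := congrArg Subtype.val hn0
  rw [this, add_zero]
  exact ⟨w, rfl⟩

end split

section minor

variable {R : Type u} [CommRing R]

theorem minorIdeal_map {S : Type v} [CommRing S] (φ : R →+* S) {n m : ℕ}
    (A : Matrix (Fin n) (Fin m) R) (r : ℕ) :
    CAlgX.minorIdeal (A.map φ) r = (CAlgX.minorIdeal A r).map φ := by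
  unfold CAlgX.minorIdeal
  rw [Ideal.map_span]
  congr 1
  ext s
  constructor
  · rintro ⟨fg, rfl⟩
    refine ⟨_, ⟨fg, rfl⟩, ?_⟩
    simp only
    rw [RingHom.map_det]
    rfl
  · rintro ⟨_, ⟨fg, rfl⟩, rfl⟩
    refine ⟨fg, ?_⟩
    simp only
    rw [RingHom.map_det]
    rfl

theorem minorIdeal_zero {n m : ℕ} (A : Matrix (Fin n) (Fin m) R) : CAlgX.minorIdeal A 0 = ⊤ := by
  rw [Ideal.eq_top_iff_one]
  unfold CAlgX.minorIdeal
  refine Ideal.subset_span ⟨(Fin.elim0, Fin.elim0), ?_⟩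
  simp

theorem minorIdeal_succ_le {n m : ℕ} (A : Matrix (Fin n) (Fin m) R) (r : ℕ) :
    CAlgX.minorIdeal A (r + 1) ≤ CAlgX.minorIdeal A r := by
  unfold CAlgX.minorIdeal
  rw [Ideal.span_le]
  rintro _ ⟨⟨f, g⟩, rfl⟩
  show (A.submatrix f g).det ∈ _
  rw [Matrix.det_succ_row_zero]
  refine Ideal.sum_mem _ fun j _ => ?_
  apply Ideal.mul_mem_left
  apply Ideal.subset_span
  exact ⟨(f ∘ Fin.succ, g ∘ j.succAbove), rfl⟩

theorem minorIdeal_anti {n m : ℕ} (A : Matrix (Fin n) (Fin m) R) {s t : ℕ}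
    (h : t ≤ s) : CAlgX.minorIdeal A s ≤ CAlgX.minorIdeal A t := by
  induction s, h using Nat.le_induction with
  | base => exact le_rfl
  | succ s _ ih => exact (minorIdeal_succ_le A s).trans ih

theorem matrixRank_spec [Nontrivial R] {n m : ℕ} (A : Matrix (Fin n) (Fin m) R) :
    CAlgX.minorIdeal A (CAlgX.matrixRank A) ≠ ⊥ ∧
      ∀ r, CAlgX.matrixRank A < r → CAlgX.minorIdeal A r = ⊥ := by
  have hbdd : ∀ r ∈ {r : ℕ | CAlgX.minorIdeal A r ≠ ⊥}, r ≤ m := by
    intro r hr
    by_contra hlt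
    exact hr (H5McCoy.minorIdeal_eq_bot_of_lt A (not_le.mp hlt))
  have hne : {r : ℕ | CAlgX.minorIdeal A r ≠ ⊥}.Nonempty :=
    ⟨0, by
      show CAlgX.minorIdeal A 0 ≠ ⊥
      rw [minorIdeal_zero]
      exact top_ne_bot⟩
  have hbdd' : BddAbove {r : ℕ | CAlgX.minorIdeal A r ≠ ⊥} := ⟨m, hbdd⟩
  refine ⟨Nat.sSup_mem hne hbdd', fun r hr => ?_⟩
  by_contra hcon
  have : r ≤ CAlgX.matrixRank A := le_csSup hbdd' hcon
  omega

theorem matrixRank_eq_of [Nontrivial R] {n m : ℕ} (A : Matrix (Fin n) (Fin m) R) (r : ℕ)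
    (h1 : CAlgX.minorIdeal A r ≠ ⊥) (h2 : CAlgX.minorIdeal A (r + 1) = ⊥) :
    CAlgX.matrixRank A = r := by
  obtain ⟨h3, h4⟩ := matrixRank_spec A
  apply le_antisymm
  · by_contra hlt
    push Not at hlt
    apply h3
    rw [eq_bot_iff, ← h2]
    exact minorIdeal_anti A (by omega)
  · by_contra hlt
    push Not at hlt
    exact h1 (h4 r hlt)

theorem alt_sum_succ (n : ℕ → ℕ) (j e : ℕ) (hj : j ≤ e) :
    (∑ t ∈ Finset.Icc j e, (-1 : ℤ) ^ (t - j) * (n t : ℤ)) +
      (∑ t ∈ Finset.Icc (j + 1) e, (-1 : ℤ) ^ (t - (j + 1)) * (n t : ℤ)) = n j := by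
  rw [← Finset.insert_Icc_add_one_left_eq_Icc hj, Finset.sum_insert (by simp)]
  have : ∀ t ∈ Finset.Icc (j + 1) e, (-1 : ℤ) ^ (t - j) * (n t : ℤ) =
      - ((-1 : ℤ) ^ (t - (j + 1)) * (n t : ℤ)) := by
    intro t ht
    rw [Finset.mem_Icc] at ht
    have : t - j = (t - (j + 1)) + 1 := by omega
    rw [this, pow_succ]
    ring
  rw [Finset.sum_congr rfl this, Finset.sum_neg_distrib]
  simp

end minor

end Groth.Agent.H9.BE
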