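import Mathlib
import Groth.Prelude.Def_CAlgX
import Groth.Agent.Lib.Helper9.Misc.BE4

set_option autoImplicit false
set_option linter.style.haveILetI false
set_option linter.unusedSectionVars false
set_option linter.unusedVariables false

/-!
# Buchsbaum–Eisenbud, part 5: the criterion is sufficient (local step)
-/

namespace Groth.Agent.H9.BE

open RingTheory.Sequence

universe u v

section local_step

variable {S : Type u} [CommRing S] [IsLocalRing S]

theorem tors_of_loc {b c : ℕ} (ψ : (Fin c → S) →ₗ[S] (Fin b → S)) (z : Fin b → S)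
    (h : ∀ p : Ideal S, p.IsPrime → p ≠ IsLocalRing.maximalIdeal S →
      ∃ s, s ∉ p ∧ ∃ w, s • z = ψ w)
    (x : S) (hx : x ∈ IsLocalRing.maximalIdeal S) : ∃ (k : ℕ) (w : Fin c → S), x ^ k • z = ψ w := by
  set I : Ideal S := (LinearMap.range ψ).colon {z} with hI
  have hxr : x ∈ I.radical := by
    rw [Ideal.radical_eq_sInf, Ideal.mem_sInf]
    rintro J ⟨hIJ, hJ⟩
    by_cases hJm : J = IsLocalRing.maximalIdeal S
    · rw [hJm]; exact hx
    · obtain ⟨s, hs, w, hw⟩ := h J hJ hJm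
      exfalso
      apply hs
      apply hIJ
      rw [hI, Submodule.mem_colon_singleton]
      exact ⟨w, hw.symm⟩
  obtain ⟨k, hk⟩ := hxr
  rw [hI, Submodule.mem_colon_singleton] at hk
  obtain ⟨w, hw⟩ := hk
  exact ⟨k, w, hw.symm⟩

theorem BE_local [IsNoetherianRing S]
    (e : ℕ) (he : 1 ≤ e) (n : ℕ → ℕ) (A : (i : ℕ) → Matrix (Fin (n i)) (Fin (n (i + 1))) S)
    (hA : ∀ i, i + 2 ≤ e → A i * A (i + 1) = 0)
    (ρ : ℕ → ℕ) (hρ : ∀ i, i < e → ρ i + ρ (i + 1) = n (i + 1)) (hρe : ρ e = 0)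
    (hbot : ∀ i, i < e → CAlgX.minorIdeal (A i) (ρ i + 1) = ⊥)
    (hdet : ∀ i, i < e → CAlgX.minorIdeal (A i) (ρ i) = ⊤ ∨
      ∃ rs : List S, rs.length = i + 1 ∧ (∀ x ∈ rs, x ∈ IsLocalRing.maximalIdeal S) ∧
        IsWeaklyRegular S rs)
    (hloc : ∀ i, i < e → ∀ z : Fin (n (i + 1)) → S, dmat e n A i z = 0 →
      ∀ p : Ideal S, p.IsPrime → p ≠ IsLocalRing.maximalIdeal S →
        ∃ s, s ∉ p ∧ ∃ w : Fin (n (i + 1 + 1)) → S, s • z = dmat e n A (i + 1) w) :
    IsExact e n A := by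
  classical
  have hP : ∃ k, k ≤ e ∧ ∀ i, k ≤ i → i < e → CAlgX.minorIdeal (A i) (ρ i) = ⊤ :=
    ⟨e, le_rfl, fun i h1 h2 => by omega⟩
  obtain ⟨δ, hδdef⟩ : ∃ δ, δ = Nat.find hP := ⟨_, rfl⟩
  obtain ⟨hδe, hδ⟩ : δ ≤ e ∧ ∀ i, δ ≤ i → i < e → CAlgX.minorIdeal (A i) (ρ i) = ⊤ := by
    rw [hδdef]; exact Nat.find_spec hP
  have hδmin : ∀ k, k < δ → ¬ (k ≤ e ∧ ∀ i, k ≤ i → i < e → CAlgX.minorIdeal (A i) (ρ i) = ⊤) := by
    intro k hk
    rw [hδdef] at hk
    exact Nat.find_min hP hk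
  -- the maps at positions `≥ δ` are split
  have hsplitA : ∀ i, δ ≤ i → i < e →
      (∃ N', IsCompl (LinearMap.range (A i).mulVecLin) N') ∧
        Module.finrank S (LinearMap.range (A i).mulVecLin) = ρ i := by
    intro i h1 h2
    obtain ⟨N', h3, h4⟩ := (H5MinorLocal.main _ _ (ρ i) (A i)).2 ⟨hbot i h2, hδ i h1 h2⟩
    exact ⟨⟨N', h3⟩, h4⟩
  have hcompl : ∀ i, δ ≤ i → ∃ N', IsCompl (LinearMap.range (dmat e n A i)) N' := by
    intro i h1
    by_cases h2 : i < e
    · rw [dmat_of_le (by omega)]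
      exact (hsplitA i h1 h2).1
    · rw [dmat_of_lt (by omega), LinearMap.range_zero]
      exact ⟨⊤, isCompl_bot_top⟩
  have hrank : ∀ i, δ ≤ i → i ≤ e → Module.finrank S (LinearMap.range (dmat e n A i)) = ρ i := by
    intro i h1 h2
    by_cases h3 : i < e
    · rw [dmat_of_le (by omega)]
      exact (hsplitA i h1 h3).2
    · obtain rfl : i = e := by omega
      rw [dmat_of_lt (by omega), LinearMap.range_zero, hρe]
      exact finrank_bot S _
  have hsplit : ∀ i, δ ≤ i → i < e → ∀ z : Fin (n (i + 1)) → S, dmat e n A i z = 0 →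
      ∃ w, z = dmat e n A (i + 1) w := by
    intro i h1 h2 z hz
    have := ker_le_range_of_split (dmat e n A i) (dmat e n A (i + 1)) (dmat_comp hA i)
      (ρ i) (ρ (i + 1)) (hρ i h2) (hcompl i h1) (hrank i h1 h2.le) (hcompl (i + 1) (by omega))
      (hrank (i + 1) (by omega) (by omega)) (LinearMap.mem_ker.2 hz)
    obtain ⟨w, hw⟩ := this
    exact ⟨w, hw.symm⟩
  apply isExact_of_dmat he hA
  rcases Nat.eq_zero_or_pos δ with h0 | hpos
  · intro i hi z hz
    exact hsplit i (by omega) hi z hz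
  · -- a regular sequence of length `δ`
    have hne : δ - 1 < e ∧ CAlgX.minorIdeal (A (δ - 1)) (ρ (δ - 1)) ≠ ⊤ := by
      have h1 := hδmin (δ - 1) (by omega)
      rw [not_and] at h1
      have h2 := h1 (by omega)
      push Not at h2
      obtain ⟨i, hi1, hi2, hi3⟩ := h2
      by_cases hi4 : δ ≤ i
      · exact absurd (hδ i hi4 hi2) hi3
      · obtain rfl : i = δ - 1 := by omega
        exact ⟨hi2, hi3⟩
    obtain ⟨rs, hlen, hmem, hrs⟩ := (hdet (δ - 1) hne.1).resolve_left hne.2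
    have hlen' : rs.length = δ := by omega
    have hj : Ideal.jacobson (⊥ : Ideal S) = IsLocalRing.maximalIdeal S :=
      IsLocalRing.jacobson_eq_maximalIdeal ⊥ bot_ne_top
    have key := acyclic_trunc rs (fun i => Fin (n i) → S) (dmat e n A)
      (fun x hx => hj ▸ hmem x hx) (dmat_comp hA)
      (fun i => weaklyRegular_of_flat _ hrs)
      (by
        intro i hi
        obtain ⟨N', hc⟩ := hcompl i (by omega)
        obtain ⟨_, _⟩ := free_of_isCompl N' _ hc.symm
        exact ((Submodule.quotientEquivOfIsCompl _ N' hc).isWeaklyRegular_congr rs).2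
          (weaklyRegular_of_flat _ hrs))
      (by
        intro i hi z hz x hx
        exact tors_of_loc _ z (hloc i (by omega) z hz) x (hmem x hx))
    intro i hi z hz
    by_cases h : i < δ
    · exact key i (by omega) z hz
    · exact hsplit i (by omega) hi z hz

end local_step

end Groth.Agent.H9.BE
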