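import Mathlib
import Groth.Prelude.Def_CAlgX
import Groth.Agent.Lib.Helper9.Misc.BE5

set_option autoImplicit false
set_option linter.style.haveILetI false
set_option linter.unusedSectionVars false
set_option linter.unusedVariables false

/-!
# Buchsbaum–Eisenbud, part 6: the criterion is sufficient (global statement)
-/

namespace Groth.Agent.H9.BE

open RingTheory.Sequence

universe u v

section map

variable {R : Type u} [CommRing R] {S : Type v} [CommRing S]

theorem dmat_map (f : R →+* S) (e : ℕ) (n : ℕ → ℕ)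
    (A : (i : ℕ) → Matrix (Fin (n i)) (Fin (n (i + 1))) R) (i : ℕ) (z : Fin (n (i + 1)) → R) :
    dmat e n (fun i => (A i).map f) i (f ∘ z) = f ∘ (dmat e n A i z) := by
  by_cases h : i + 1 ≤ e
  · rw [dmat_of_le h, dmat_of_le h]
    funext j
    rw [Matrix.mulVecLin_apply, Matrix.mulVecLin_apply, Function.comp_apply, RingHom.map_mulVec]
  · rw [dmat_of_lt (by omega), dmat_of_lt (by omega)]
    funext j
    simp

theorem map_comp_smul (f : R →+* S) {b : ℕ} (s : R) (z : Fin b → R) :
    f ∘ (s • z) = f s • (f ∘ z) := by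
  funext j
  simp

variable (T : Submonoid R) [Algebra R S] [IsLocalization T S]

theorem exists_smul_eq_dmat_of_isExact (e : ℕ) (n : ℕ → ℕ)
    (A : (i : ℕ) → Matrix (Fin (n i)) (Fin (n (i + 1))) R)
    (h : IsExact e n (fun i => (A i).map (algebraMap R S))) (i : ℕ) (hi : i < e)
    (z : Fin (n (i + 1)) → R) (hz : dmat e n A i z = 0) :
    ∃ s ∈ T, ∃ w : Fin (n (i + 1 + 1)) → R, s • z = dmat e n A (i + 1) w := by
  have h1 : dmat e n (fun i => (A i).map (algebraMap R S)) i ((algebraMap R S) ∘ z) = 0 := by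
    rw [dmat_map, hz]
    funext j
    simp
  obtain ⟨w', hw'⟩ := dmat_of_isExact h i hi _ h1
  obtain ⟨s, hs, w, hw⟩ := exists_smul_eq_map T S w'
  have hw2 : (algebraMap R S) ∘ w = algebraMap R S s • w' := by
    funext j
    simp [hw j]
  have h2 : ∀ j, algebraMap R S ((s • z - dmat e n A (i + 1) w) j) = 0 := by
    intro j
    have : (algebraMap R S) ∘ (s • z - dmat e n A (i + 1) w) = 0 := by
      have h3 : (algebraMap R S) ∘ (s • z - dmat e n A (i + 1) w) =
          (algebraMap R S) ∘ (s • z) - (algebraMap R S) ∘ (dmat e n A (i + 1) w) := by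
        funext j
        simp
      rw [h3, map_comp_smul, ← dmat_map, hw2, map_smul, ← hw', sub_self]
    exact congrFun this j
  obtain ⟨t, ht, h3⟩ := exists_smul_eq_zero_of_map_eq_zero T S _ h2
  refine ⟨t * s, T.mul_mem ht hs, t • w, ?_⟩
  rw [smul_sub, sub_eq_zero] at h3
  rw [map_smul, mul_smul]
  exact h3

end map

section global

variable {R : Type u} [CommRing R] [IsNoetherianRing R]

/-- the property "the complex is exact after localizing at `p`", in elementwise form. -/
def ExactAt (e : ℕ) (n : ℕ → ℕ) (A : (i : ℕ) → Matrix (Fin (n i)) (Fin (n (i + 1))) R)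
    (p : Ideal R) : Prop :=
  ∀ i, i < e → ∀ z : Fin (n (i + 1)) → R, dmat e n A i z = 0 →
    ∃ s, s ∉ p ∧ ∃ w : Fin (n (i + 1 + 1)) → R, s • z = dmat e n A (i + 1) w

theorem isExact_of_exactAt (e : ℕ) (he : 1 ≤ e) (n : ℕ → ℕ)
    (A : (i : ℕ) → Matrix (Fin (n i)) (Fin (n (i + 1))) R)
    (hA : ∀ i, i + 2 ≤ e → A i * A (i + 1) = 0)
    (h : ∀ p : Ideal R, p.IsMaximal → ExactAt e n A p) : IsExact e n A := by
  apply isExact_of_dmat he hA
  intro i hi z hz
  set I : Ideal R := (LinearMap.range (dmat e n A (i + 1))).colon {z} with hI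
  have hI1 : I = ⊤ := by
    by_contra hne
    obtain ⟨M, hM, hIM⟩ := Ideal.exists_le_maximal I hne
    obtain ⟨s, hs, w, hw⟩ := h M hM i hi z hz
    apply hs
    apply hIM
    rw [hI, Submodule.mem_colon_singleton]
    exact ⟨w, hw.symm⟩
  have h1 : (1 : R) ∈ I := by rw [hI1]; trivial
  rw [hI, Submodule.mem_colon_singleton, one_smul] at h1
  obtain ⟨w, hw⟩ := h1
  exact ⟨w, hw.symm⟩

/-- inductive step: exactness at all smaller primes gives exactness at `p`. -/
theorem exactAt_of_lt
    (e : ℕ) (he : 1 ≤ e) (n : ℕ → ℕ) (A : (i : ℕ) → Matrix (Fin (n i)) (Fin (n (i + 1))) R)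
    (hA : ∀ i, i + 2 ≤ e → A i * A (i + 1) = 0)
    (ρ : ℕ → ℕ) (hρ : ∀ i, i < e → ρ i + ρ (i + 1) = n (i + 1)) (hρe : ρ e = 0)
    (hbot : ∀ i, i < e → CAlgX.minorIdeal (A i) (ρ i + 1) = ⊥)
    (hdet : ∀ i, i < e → CAlgX.minorIdeal (A i) (ρ i) = ⊤ ∨
      ∃ rs : List R, rs.length = i + 1 ∧ (∀ x ∈ rs, x ∈ CAlgX.minorIdeal (A i) (ρ i)) ∧
        IsWeaklyRegular R rs)
    (p : Ideal R) [hp : p.IsPrime]
    (ih : ∀ q : Ideal R, q.IsPrime → q < p → ExactAt e n A q) : ExactAt e n A p := by
  set S := Localization.AtPrime p with hS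
  set f := algebraMap R S with hf
  haveI : IsNoetherianRing S := IsLocalization.isNoetherianRing p.primeCompl S inferInstance
  have hex : IsExact e n (fun i => (A i).map f) := by
    refine BE_local e he n _ ?_ ρ hρ hρe ?_ ?_ ?_
    · intro i hi
      show (A i).map f * (A (i + 1)).map f = 0
      rw [← Matrix.map_mul, hA i hi, Matrix.map_zero _ (map_zero f)]
    · intro i hi
      show CAlgX.minorIdeal ((A i).map f) (ρ i + 1) = ⊥
      rw [minorIdeal_map, hbot i hi, Ideal.map_bot]
    · intro i hi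
      show CAlgX.minorIdeal ((A i).map f) (ρ i) = ⊤ ∨ _
      rw [minorIdeal_map]
      rcases hdet i hi with h | ⟨rs, hlen, hmem, hrs⟩
      · left
        rw [h, Ideal.map_top]
      · by_cases hall : ∀ x ∈ rs, x ∈ p
        · right
          refine ⟨rs.map f, by rw [List.length_map, hlen], ?_, ?_⟩
          · intro y hy
            obtain ⟨x, hx, rfl⟩ := List.mem_map.1 hy
            exact (IsLocalization.AtPrime.to_map_mem_maximal_iff S p x).2 (hall x hx)
          · exact IsWeaklyRegular.of_isLocalization S p.primeCompl hrs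
        · left
          push Not at hall
          obtain ⟨x, hx, hxp⟩ := hall
          exact Ideal.eq_top_of_isUnit_mem _ (Ideal.mem_map_of_mem f (hmem x hx))
            (IsLocalization.map_units S (⟨x, hxp⟩ : p.primeCompl))
    · intro i hi z' hz' q' hq' hq'm
      haveI := hq'
      set q := q'.comap f with hq
      have hqp : q ≤ p := by
        have h1 : q' ≤ IsLocalRing.maximalIdeal S := IsLocalRing.le_maximalIdeal hq'.ne_top
        have h2 := Ideal.comap_mono (f := f) h1
        have h3 : Ideal.comap f (IsLocalRing.maximalIdeal S) = p :=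
          IsLocalization.AtPrime.under_maximalIdeal S p
        rwa [h3] at h2
      have hqne : q ≠ p := by
        intro h
        apply hq'm
        have h4 : Ideal.map f (Ideal.comap f q') = q' := IsLocalization.map_under p.primeCompl S q'
        rw [← h4, ← hq, h]
        exact IsLocalization.AtPrime.map_eq_maximalIdeal (p := p) (Rₚ := S)
      have hqlt : q < p := lt_of_le_of_ne hqp hqne
      have hEq := ih q (Ideal.comap_isPrime f q') hqlt
      obtain ⟨t, ht, z₀, hz₀⟩ := exists_smul_eq_map p.primeCompl S z'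
      have hz₀' : f ∘ z₀ = f t • z' := by
        funext j
        simp [hz₀ j, hf]
      have h1 : ∀ j, f ((dmat e n A i z₀) j) = 0 := by
        intro j
        have : f ∘ (dmat e n A i z₀) = 0 := by
          rw [← dmat_map, hz₀', map_smul, hz', smul_zero]
        exact congrFun this j
      obtain ⟨t', ht', h2⟩ := exists_smul_eq_zero_of_map_eq_zero p.primeCompl S _ h1
      rw [← map_smul] at h2
      obtain ⟨s₀, hs₀, w₀, hw₀⟩ := hEq i hi _ h2
      refine ⟨f (s₀ * t' * t), ?_, f ∘ w₀, ?_⟩
      · intro hmem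
        have h3 : s₀ * t' * t ∈ q := hmem
        have hq_prime : q.IsPrime := Ideal.comap_isPrime f q'
        rcases hq_prime.mem_or_mem h3 with h4 | h4
        · rcases hq_prime.mem_or_mem h4 with h5 | h5
          · exact hs₀ h5
          · exact ht' (hqp h5)
        · exact ht (hqp h4)
      · rw [dmat_map, ← hw₀, map_comp_smul, map_comp_smul, hz₀', smul_smul, smul_smul,
          ← map_mul, ← map_mul]
  intro i hi z hz
  obtain ⟨s, hs, w, hw⟩ := exists_smul_eq_dmat_of_isExact (S := S) p.primeCompl e n A hex i hi z hz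
  exact ⟨s, hs, w, hw⟩

theorem BE_suff
    (e : ℕ) (he : 1 ≤ e) (n : ℕ → ℕ) (A : (i : ℕ) → Matrix (Fin (n i)) (Fin (n (i + 1))) R)
    (hA : ∀ i, i + 2 ≤ e → A i * A (i + 1) = 0)
    (ρ : ℕ → ℕ) (hρ : ∀ i, i < e → ρ i + ρ (i + 1) = n (i + 1)) (hρe : ρ e = 0)
    (hbot : ∀ i, i < e → CAlgX.minorIdeal (A i) (ρ i + 1) = ⊥)
    (hdet : ∀ i, i < e → CAlgX.minorIdeal (A i) (ρ i) = ⊤ ∨
      ∃ rs : List R, rs.length = i + 1 ∧ (∀ x ∈ rs, x ∈ CAlgX.minorIdeal (A i) (ρ i)) ∧
        IsWeaklyRegular R rs) :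
    IsExact e n A := by
  have key : ∀ (h : ℕ∞) (p : Ideal R), p.IsPrime → p.height = h → ExactAt e n A p := by
    intro h
    induction h using WellFoundedLT.induction with
    | ind h ih =>
      intro p hp hph
      haveI := hp
      refine exactAt_of_lt e he n A hA ρ hρ hρe hbot hdet p ?_
      intro q hq hqp
      haveI := hq
      exact ih q.height (by rw [← hph]; exact Ideal.height_strict_mono_of_isPrime hqp) q hq rfl
  exact isExact_of_exactAt e he n A hA (fun p hp => key _ p hp.isPrime rfl)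

end global

end Groth.Agent.H9.BE
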