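import Mathlib
import Groth.Prelude.Def_CAlgX
import Groth.Agent.Lib.Helper9.Misc.BE6

set_option autoImplicit false
set_option linter.style.haveILetI false
set_option linter.unusedSectionVars false
set_option linter.unusedVariables false

/-!
# Buchsbaum–Eisenbud, part 7: the criterion is sufficient (statement with `matrixRank`)
-/

namespace Groth.Agent.H9.BE

open RingTheory.Sequence

universe u v

variable {R : Type u} [CommRing R]

theorem isExact_of_subsingleton [Subsingleton R] (e : ℕ) (n : ℕ → ℕ)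
    (A : (i : ℕ) → Matrix (Fin (n i)) (Fin (n (i + 1))) R) : IsExact e n A := by
  constructor
  · ext x
    simp [Subsingleton.elim x 0]
  · intro i _
    ext x
    simp [Subsingleton.elim x 0]

/-- the numerical consequences of the rank hypothesis -/
theorem rho_add (e : ℕ) (n : ℕ → ℕ) (r : ℕ → ℕ)
    (hrank : ∀ j, 1 ≤ j → j ≤ e →
      (r (j - 1) : ℤ) = ∑ t ∈ Finset.Icc j e, (-1 : ℤ) ^ (t - j) * (n t : ℤ))
    (i : ℕ) (hi : i < e) :
    (if i < e then r i else 0) + (if i + 1 < e then r (i + 1) else 0) = n (i + 1) := by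
  rw [if_pos hi]
  have h1 := hrank (i + 1) (by omega) (by omega)
  rw [Nat.add_sub_cancel] at h1
  have h3 := alt_sum_succ n (i + 1) e (by omega)
  by_cases h : i + 1 < e
  · rw [if_pos h]
    have h2 := hrank (i + 1 + 1) (by omega) (by omega)
    rw [Nat.add_sub_cancel] at h2
    rw [← h1, ← h2] at h3
    exact_mod_cast h3
  · rw [if_neg h]
    have : Finset.Icc (i + 1 + 1) e = ∅ := Finset.Icc_eq_empty (by omega)
    rw [this, Finset.sum_empty, ← h1] at h3
    rw [add_zero] at h3 ⊢
    exact_mod_cast h3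

theorem BE_suff_rank [IsNoetherianRing R]
    (e : ℕ) (he : 1 ≤ e) (n : ℕ → ℕ) (A : (i : ℕ) → Matrix (Fin (n i)) (Fin (n (i + 1))) R)
    (hA : ∀ i, i + 2 ≤ e → A i * A (i + 1) = 0)
    (hrank : ∀ j, 1 ≤ j → j ≤ e →
      (CAlgX.matrixRank (A (j - 1)) : ℤ) = ∑ t ∈ Finset.Icc j e, (-1 : ℤ) ^ (t - j) * (n t : ℤ))
    (hdet : ∀ j, 1 ≤ j → j ≤ e →
      CAlgX.detIdeal (A (j - 1)) = ⊤ ∨
        ∃ rs : List R, rs.length = j ∧ (∀ r ∈ rs, r ∈ CAlgX.detIdeal (A (j - 1))) ∧
          RingTheory.Sequence.IsRegular R rs) :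
    LinearMap.ker (A (e - 1)).mulVecLin = ⊥ ∧
      ∀ i, i + 2 ≤ e → LinearMap.ker (A i).mulVecLin = LinearMap.range (A (i + 1)).mulVecLin := by
  rcases subsingleton_or_nontrivial R with hsub | hnt
  · exact isExact_of_subsingleton e n A
  · refine BE_suff e he n A hA (fun i => if i < e then CAlgX.matrixRank (A i) else 0) ?_ ?_ ?_ ?_
    · intro i hi
      exact rho_add e n (fun i => CAlgX.matrixRank (A i)) hrank i hi
    · simp
    · intro i hi
      simp only [if_pos hi]
      exact (matrixRank_spec (A i)).2 _ (by omega)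
    · intro i hi
      simp only [if_pos hi]
      have h1 := hdet (i + 1) (by omega) (by omega)
      rcases h1 with h1 | ⟨rs, h2, h3, h4⟩
      · left
        exact h1
      · right
        exact ⟨rs, h2, h3, h4.toIsWeaklyRegular⟩

end Groth.Agent.H9.BE
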