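import Mathlib
import Groth.Prelude.Def_CAlgX
import Groth.Agent.Lib.Helper9.Misc.BE7

set_option autoImplicit false
set_option linter.style.haveILetI false
set_option linter.unusedSectionVars false
set_option linter.unusedVariables false

/-!
# Buchsbaum–Eisenbud, part 8: exact complexes over a local ring of depth zero are split
-/

namespace Groth.Agent.H9.BE

open RingTheory.Sequence

universe u v

section depth0

variable {S : Type u} [CommRing S] [IsLocalRing S]

/-- depth zero: an ideal with zero annihilator is the unit ideal -/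
theorem eq_top_of_annihilator_eq_bot
    (hdepth : ∃ a : S, a ≠ 0 ∧ ∀ x ∈ IsLocalRing.maximalIdeal S, x * a = 0)
    (I : Ideal S) (hI : I.annihilator = ⊥) : I = ⊤ := by
  by_contra hne
  obtain ⟨a, ha, ha'⟩ := hdepth
  have hle : I ≤ IsLocalRing.maximalIdeal S := IsLocalRing.le_maximalIdeal hne
  have : a ∈ I.annihilator := by
    rw [Submodule.mem_annihilator]
    intro x hx
    rw [smul_eq_mul, mul_comm]
    exact ha' x (hle hx)
  rw [hI, Ideal.mem_bot] at this
  exact ha this

/-- over a local ring of depth zero an injective map from a finite free module to `S^a` is split -/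
theorem split_of_injective
    (hdepth : ∃ a : S, a ≠ 0 ∧ ∀ x ∈ IsLocalRing.maximalIdeal S, x * a = 0)
    {a r : ℕ} (g : (Fin r → S) →ₗ[S] (Fin a → S)) (hg : Function.Injective g) :
    (∃ N', IsCompl (LinearMap.range g) N') ∧ Module.finrank S (LinearMap.range g) = r := by
  set M : Matrix (Fin a) (Fin r) S := LinearMap.toMatrix' g with hM
  have hMg : M.mulVecLin = g := by
    rw [← Matrix.toLin'_apply', hM, Matrix.toLin'_toMatrix']
  have hinj : Function.Injective M.mulVecLin := by rw [hMg]; exact hg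
  have h1 := (H5McCoy.injective_iff_annihilator M).1 hinj
  have h2 := eq_top_of_annihilator_eq_bot hdepth _ h1
  obtain ⟨N', h3, h4⟩ := (H5MinorLocal.main _ _ r M).2
    ⟨H5McCoy.minorIdeal_eq_bot_of_lt M (by omega), h2⟩
  rw [hMg] at h3 h4
  exact ⟨⟨N', h3⟩, h4⟩

theorem split_step
    (hdepth : ∃ a : S, a ≠ 0 ∧ ∀ x ∈ IsLocalRing.maximalIdeal S, x * a = 0)
    {a b c : ℕ}
    (φ : (Fin b → S) →ₗ[S] (Fin a → S)) (ψ : (Fin c → S) →ₗ[S] (Fin b → S))
    (hφψ : ∀ z, φ (ψ z) = 0) (hex : LinearMap.ker φ ≤ LinearMap.range ψ)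
    (hψ : ∃ N', IsCompl (LinearMap.range ψ) N') :
    (∃ N, IsCompl (LinearMap.range φ) N) ∧
      Module.finrank S (LinearMap.range φ) + Module.finrank S (LinearMap.range ψ) = b := by
  obtain ⟨N', hc⟩ := hψ
  obtain ⟨_, _⟩ := free_of_isCompl N' _ hc.symm
  have hadd := finrank_add_of_isCompl _ N' hc
  rw [Module.finrank_fin_fun] at hadd
  obtain ⟨r, hr⟩ : ∃ r, Module.finrank S N' = r := ⟨_, rfl⟩
  let bas : Module.Basis (Fin r) S N' := Module.finBasisOfFinrankEq S N' hr
  let g : (Fin r → S) →ₗ[S] (Fin a → S) := φ ∘ₗ N'.subtype ∘ₗ bas.equivFun.symm.toLinearMap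
  have hg : Function.Injective g := by
    rw [← LinearMap.ker_eq_bot, eq_bot_iff]
    intro v hv
    rw [LinearMap.mem_ker] at hv
    have h1 : ((bas.equivFun.symm v : N') : Fin b → S) ∈ LinearMap.ker φ := hv
    have h2 := hex h1
    have h3 : ((bas.equivFun.symm v : N') : Fin b → S) ∈ LinearMap.range ψ ⊓ N' :=
      ⟨h2, (bas.equivFun.symm v).2⟩
    rw [hc.inf_eq_bot, Submodule.mem_bot] at h3
    have h4 : bas.equivFun.symm v = 0 := Subtype.ext h3
    rw [Submodule.mem_bot]
    exact bas.equivFun.symm.map_eq_zero_iff.1 h4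
  have hrange : LinearMap.range g = LinearMap.range φ := by
    apply le_antisymm
    · rintro _ ⟨v, rfl⟩
      exact ⟨_, rfl⟩
    · rintro _ ⟨v, rfl⟩
      have hv : v ∈ LinearMap.range ψ ⊔ N' := by rw [hc.sup_eq_top]; trivial
      obtain ⟨p, ⟨w, rfl⟩, n', hn', rfl⟩ := Submodule.mem_sup.1 hv
      refine ⟨bas.equivFun ⟨n', hn'⟩, ?_⟩
      simp [g, hφψ]
  obtain ⟨h5, h6⟩ := split_of_injective hdepth g hg
  rw [hrange] at h5 h6
  exact ⟨h5, by omega⟩

/-- over a local ring of depth zero, an exact complex of finite free modules is split, with the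
expected ranks. -/
theorem depth0_main
    (hdepth : ∃ a : S, a ≠ 0 ∧ ∀ x ∈ IsLocalRing.maximalIdeal S, x * a = 0)
    (e : ℕ) (he : 1 ≤ e) (n : ℕ → ℕ) (A : (i : ℕ) → Matrix (Fin (n i)) (Fin (n (i + 1))) S)
    (hA : ∀ i, i + 2 ≤ e → A i * A (i + 1) = 0) (hex : IsExact e n A) :
    ∃ ρ : ℕ → ℕ, ρ e = 0 ∧ (∀ i, i < e → ρ i + ρ (i + 1) = n (i + 1)) ∧
      ∀ i, i < e → CAlgX.minorIdeal (A i) (ρ i + 1) = ⊥ ∧ CAlgX.minorIdeal (A i) (ρ i) = ⊤ := by
  have hC : ∀ k i, i + k = e → ∃ N', IsCompl (LinearMap.range (dmat e n A i)) N' := by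
    intro k
    induction k with
    | zero =>
      intro i hi
      rw [dmat_of_lt (by omega), LinearMap.range_zero]
      exact ⟨⊤, isCompl_bot_top⟩
    | succ k ih =>
      intro i hi
      have h1 := ih (i + 1) (by omega)
      exact (split_step hdepth (dmat e n A i) (dmat e n A (i + 1)) (dmat_comp hA i)
        (fun z hz => by
          obtain ⟨w, hw⟩ := dmat_of_isExact hex i (by omega) z hz
          exact ⟨w, hw.symm⟩) h1).1
  refine ⟨fun i => Module.finrank S (LinearMap.range (dmat e n A i)), ?_, ?_, ?_⟩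
  · show Module.finrank S (LinearMap.range (dmat e n A e)) = 0
    rw [dmat_of_lt (by omega), LinearMap.range_zero]
    exact finrank_bot S _
  · intro i hi
    exact (split_step hdepth (dmat e n A i) (dmat e n A (i + 1)) (dmat_comp hA i)
        (fun z hz => by
          obtain ⟨w, hw⟩ := dmat_of_isExact hex i (by omega) z hz
          exact ⟨w, hw.symm⟩) (hC (e - (i + 1)) (i + 1) (by omega))).2
  · intro i hi
    obtain ⟨N', hN'⟩ := hC (e - i) i (by omega)
    show CAlgX.minorIdeal (A i) (Module.finrank S (LinearMap.range (dmat e n A i)) + 1) = ⊥ ∧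
      CAlgX.minorIdeal (A i) (Module.finrank S (LinearMap.range (dmat e n A i))) = ⊤
    have hd : dmat e n A i = (A i).mulVecLin := dmat_of_le (by omega)
    rw [hd] at hN' ⊢
    exact (H5MinorLocal.main _ _ _ (A i)).1 ⟨N', hN', rfl⟩

end depth0

section uniq

theorem rho_unique (e : ℕ) (n : ℕ → ℕ) (ρ ρ' : ℕ → ℕ) (h0 : ρ e = 0) (h0' : ρ' e = 0)
    (h : ∀ i, i < e → ρ i + ρ (i + 1) = n (i + 1))
    (h' : ∀ i, i < e → ρ' i + ρ' (i + 1) = n (i + 1)) :
    ∀ i, i ≤ e → ρ i = ρ' i := by
  have : ∀ k i, i + k = e → ρ i = ρ' i := by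
    intro k
    induction k with
    | zero =>
      intro i hi
      obtain rfl : i = e := by omega
      rw [h0, h0']
    | succ k ih =>
      intro i hi
      have h1 := ih (i + 1) (by omega)
      have h2 := h i (by omega)
      have h3 := h' i (by omega)
      omega
  intro i hi
  exact this (e - i) i (by omega)

theorem rho_eq_sum (e : ℕ) (n : ℕ → ℕ) (ρ : ℕ → ℕ) (h0 : ρ e = 0)
    (h : ∀ i, i < e → ρ i + ρ (i + 1) = n (i + 1)) :
    ∀ i, i ≤ e → (ρ i : ℤ) = ∑ t ∈ Finset.Icc (i + 1) e, (-1 : ℤ) ^ (t - (i + 1)) * (n t : ℤ) := by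
  have : ∀ k i, i + k = e →
      (ρ i : ℤ) = ∑ t ∈ Finset.Icc (i + 1) e, (-1 : ℤ) ^ (t - (i + 1)) * (n t : ℤ) := by
    intro k
    induction k with
    | zero =>
      intro i hi
      obtain rfl : i = e := by omega
      rw [h0, Finset.Icc_eq_empty (by omega), Finset.sum_empty]
      rfl
    | succ k ih =>
      intro i hi
      have h1 := ih (i + 1) (by omega)
      have h2 := h i (by omega)
      have h3 := alt_sum_succ n (i + 1) e (by omega)
      rw [← h1] at h3
      have h4 : (ρ i : ℤ) + (ρ (i + 1) : ℤ) = (n (i + 1) : ℤ) := by exact_mod_cast h2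
      linarith
  intro i hi
  exact this (e - i) i (by omega)

end uniq

end Groth.Agent.H9.BE
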