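import Mathlib
import Groth.Prelude.Def_CAlgX
import Groth.Agent.Lib.Helper9.Misc.BE8

set_option autoImplicit false
set_option linter.style.haveILetI false
set_option linter.unusedSectionVars false
set_option linter.unusedVariables false

/-!
# Buchsbaum–Eisenbud, part 9: necessity of the rank condition and grade at least one
-/

namespace Groth.Agent.H9.BE

open RingTheory.Sequence

universe u v

section locExact

theorem isExact_localization {R : Type u} [CommRing R] {S : Type v} [CommRing S]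
    (T : Submonoid R) [Algebra R S] [IsLocalization T S] (e : ℕ) (he : 1 ≤ e) (n : ℕ → ℕ)
    (A : (i : ℕ) → Matrix (Fin (n i)) (Fin (n (i + 1))) R)
    (hA : ∀ i, i + 2 ≤ e → A i * A (i + 1) = 0) (hex : IsExact e n A) :
    IsExact e n (fun i => (A i).map (algebraMap R S)) := by
  set f := algebraMap R S with hf
  have hB : ∀ i, i + 2 ≤ e → (A i).map f * (A (i + 1)).map f = 0 := by
    intro i hi
    rw [← Matrix.map_mul, hA i hi, Matrix.map_zero _ (map_zero f)]
  apply isExact_of_dmat he hB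
  intro i hi z' hz'
  obtain ⟨t, ht, z₀, hz₀⟩ := exists_smul_eq_map T S z'
  have hz₀' : f ∘ z₀ = f t • z' := by
    funext j
    simp [hz₀ j, hf]
  have h1 : ∀ j, f ((dmat e n A i z₀) j) = 0 := by
    intro j
    have : f ∘ (dmat e n A i z₀) = 0 := by
      rw [← dmat_map, hz₀', map_smul, hz', smul_zero]
    exact congrFun this j
  obtain ⟨t', ht', h2⟩ := exists_smul_eq_zero_of_map_eq_zero T S _ h1
  rw [← map_smul] at h2
  obtain ⟨w₀, hw₀⟩ := dmat_of_isExact hex i hi _ h2
  have hu : IsUnit (f (t' * t)) := IsLocalization.map_units S (⟨t' * t, T.mul_mem ht' ht⟩ : T)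
  obtain ⟨u, hu⟩ := hu
  refine ⟨(↑u⁻¹ : S) • (f ∘ w₀), ?_⟩
  rw [map_smul, dmat_map, ← hw₀, map_comp_smul, hz₀', smul_smul, smul_smul, mul_assoc, ← map_mul,
    ← hu, Units.inv_mul, one_smul]

end locExact

section assoc

variable {R : Type u} [CommRing R] [IsNoetherianRing R]

/-- the localization of a Noetherian ring at an associated prime has depth zero -/
theorem depth_zero_of_isAssociatedPrime (P : Ideal R) (hP : IsAssociatedPrime P R) :
    haveI := hP.isPrime
    ∃ a : Localization.AtPrime P, a ≠ 0 ∧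
      ∀ x ∈ IsLocalRing.maximalIdeal (Localization.AtPrime P), x * a = 0 := by
  haveI := hP.isPrime
  obtain ⟨_, a, ha⟩ := isAssociatedPrime_iff.1 hP
  have hmem : ∀ x : R, x ∈ P ↔ x * a = 0 := by
    intro x
    rw [ha, Submodule.mem_colon_singleton, Submodule.mem_bot, smul_eq_mul]
  refine ⟨algebraMap R _ a, ?_, ?_⟩
  · intro h0
    obtain ⟨s, hs⟩ := (IsLocalization.map_eq_zero_iff P.primeCompl _ a).1 h0
    apply s.2
    show (s : R) ∈ P
    rw [hmem]
    exact hs
  · intro y hy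
    rw [← IsLocalization.AtPrime.map_eq_maximalIdeal (p := P),
      IsLocalization.mem_map_algebraMap_iff P.primeCompl] at hy
    obtain ⟨⟨x, s⟩, hxs⟩ := hy
    have hxa : (x : R) * a = 0 := (hmem _).1 x.2
    have hu : IsUnit (algebraMap R (Localization.AtPrime P) s) := IsLocalization.map_units _ s
    apply hu.mul_left_cancel
    rw [mul_zero, ← mul_assoc, mul_comm _ y, hxs, ← map_mul, hxa, map_zero]

theorem rank_and_grade_one [Nontrivial R]
    (e : ℕ) (he : 1 ≤ e) (n : ℕ → ℕ) (A : (i : ℕ) → Matrix (Fin (n i)) (Fin (n (i + 1))) R)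
    (hA : ∀ i, i + 2 ≤ e → A i * A (i + 1) = 0) (hex : IsExact e n A) :
    ∃ ρ : ℕ → ℕ, ρ e = 0 ∧ (∀ i, i < e → ρ i + ρ (i + 1) = n (i + 1)) ∧
      ∀ i, i < e → CAlgX.minorIdeal (A i) (ρ i + 1) = ⊥ ∧
        (CAlgX.minorIdeal (A i) (ρ i)).annihilator = ⊥ := by
  -- at each associated prime
  have hloc : ∀ P : Ideal R, IsAssociatedPrime P R → ∃ ρ : ℕ → ℕ, ρ e = 0 ∧
      (∀ i, i < e → ρ i + ρ (i + 1) = n (i + 1)) ∧
      ∀ i, i < e → ∃ _ : P.IsPrime,
        (CAlgX.minorIdeal (A i) (ρ i + 1)).map (algebraMap R (Localization.AtPrime P)) = ⊥ ∧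
        (CAlgX.minorIdeal (A i) (ρ i)).map (algebraMap R (Localization.AtPrime P)) = ⊤ := by
    intro P hP
    haveI := hP.isPrime
    have hB : ∀ i, i + 2 ≤ e → (A i).map (algebraMap R (Localization.AtPrime P)) *
        (A (i + 1)).map (algebraMap R (Localization.AtPrime P)) = 0 := by
      intro i hi
      rw [← Matrix.map_mul, hA i hi, Matrix.map_zero _ (map_zero _)]
    obtain ⟨ρ, h1, h2, h3⟩ := depth0_main (depth_zero_of_isAssociatedPrime P hP) e he n
      (fun i => (A i).map (algebraMap R (Localization.AtPrime P))) hB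
      (isExact_localization P.primeCompl e he n A hA hex)
    refine ⟨ρ, h1, h2, fun i hi => ⟨hP.isPrime, ?_, ?_⟩⟩
    · rw [← minorIdeal_map]; exact (h3 i hi).1
    · rw [← minorIdeal_map]; exact (h3 i hi).2
  obtain ⟨P₀, hP₀⟩ := associatedPrimes.nonempty R R
  obtain ⟨ρ, h1, h2, _⟩ := hloc P₀ hP₀
  refine ⟨ρ, h1, h2, fun i hi => ⟨?_, ?_⟩⟩
  · rw [eq_bot_iff]
    intro c hc
    rw [Ideal.mem_bot]
    by_contra hc0
    obtain ⟨P, hP, hle⟩ := exists_le_isAssociatedPrime_of_isNoetherianRing R c hc0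
    obtain ⟨ρ', h1', h2', h3'⟩ := hloc P hP
    obtain ⟨hPp, h4, -⟩ := h3' i hi
    haveI := hPp
    rw [← rho_unique e n ρ ρ' h1 h1' h2 h2' i hi.le] at h4
    have h5 : algebraMap R (Localization.AtPrime P) c ∈
        (CAlgX.minorIdeal (A i) (ρ i + 1)).map (algebraMap R (Localization.AtPrime P)) :=
      Ideal.mem_map_of_mem _ hc
    rw [h4, Ideal.mem_bot] at h5
    obtain ⟨s, hs⟩ := (IsLocalization.map_eq_zero_iff P.primeCompl _ c).1 h5
    apply s.2
    apply hle
    rw [Submodule.mem_colon_singleton, Submodule.mem_bot, smul_eq_mul]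
    exact hs
  · rw [eq_bot_iff]
    intro c hc
    rw [Ideal.mem_bot]
    by_contra hc0
    obtain ⟨P, hP, hle⟩ := exists_le_isAssociatedPrime_of_isNoetherianRing R c hc0
    obtain ⟨ρ', h1', h2', h3'⟩ := hloc P hP
    obtain ⟨hPp, -, h4⟩ := h3' i hi
    haveI := hPp
    rw [← rho_unique e n ρ ρ' h1 h1' h2 h2' i hi.le] at h4
    have hIP : CAlgX.minorIdeal (A i) (ρ i) ≤ P := by
      intro y hy
      apply hle
      rw [Submodule.mem_colon_singleton, Submodule.mem_bot, smul_eq_mul, mul_comm]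
      rw [Submodule.mem_annihilator] at hc
      exact hc y hy
    have h5 := Ideal.map_mono (f := algebraMap R (Localization.AtPrime P)) hIP
    rw [h4, IsLocalization.AtPrime.map_eq_maximalIdeal (p := P), top_le_iff] at h5
    exact Ideal.IsPrime.ne_top inferInstance h5

/-- Buchsbaum–Eisenbud, necessity, first part: ranks and nonzerodivisors in the minor ideals. -/
theorem rank_and_regular [Nontrivial R]
    (e : ℕ) (he : 1 ≤ e) (n : ℕ → ℕ) (A : (i : ℕ) → Matrix (Fin (n i)) (Fin (n (i + 1))) R)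
    (hA : ∀ i, i + 2 ≤ e → A i * A (i + 1) = 0) (hex : IsExact e n A) :
    ∃ ρ : ℕ → ℕ, ρ e = 0 ∧ (∀ i, i < e → ρ i + ρ (i + 1) = n (i + 1)) ∧
      ∀ i, i < e → CAlgX.matrixRank (A i) = ρ i ∧
        ∃ a ∈ CAlgX.minorIdeal (A i) (ρ i), IsRegular a := by
  obtain ⟨ρ, h1, h2, h3⟩ := rank_and_grade_one e he n A hA hex
  refine ⟨ρ, h1, h2, fun i hi => ?_⟩
  obtain ⟨h4, h5⟩ := h3 i hi
  have h6 := (H5McCoy.annihilator_eq_bot_iff_exists_regular _).1 h5
  refine ⟨matrixRank_eq_of (A i) (ρ i) ?_ h4, h6⟩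
  intro hbot
  obtain ⟨a, ha, hreg⟩ := h6
  rw [hbot, Ideal.mem_bot] at ha
  rw [ha] at hreg
  exact not_isRegular_zero hreg

end assoc

end Groth.Agent.H9.BE
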