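import Mathlib
import Groth.Prelude.Def_CAlgX
import Groth.Agent.Lib.Helper9.Misc.BE9

set_option autoImplicit false
set_option linter.style.haveILetI false
set_option linter.unusedSectionVars false
set_option linter.unusedVariables false

/-!
# Buchsbaum–Eisenbud, part 10: necessity of the grade condition
-/

namespace Groth.Agent.H9.BE

open RingTheory.Sequence
open scoped Pointwise

universe u v

section modx

variable {R : Type u} [CommRing R]

theorem vec_lift (I : Ideal R) {b : ℕ} (z' : Fin b → R ⧸ I) :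
    ∃ z : Fin b → R, (Ideal.Quotient.mk I) ∘ z = z' := by
  choose z hz using fun j => Ideal.Quotient.mk_surjective (z' j)
  exact ⟨z, funext hz⟩

theorem vec_eq_smul_of_map_eq_zero (x : R) {b : ℕ} (v : Fin b → R)
    (hv : (Ideal.Quotient.mk (Ideal.span {x})) ∘ v = 0) : ∃ u : Fin b → R, v = x • u := by
  have h1 : ∀ j, ∃ a, a * x = v j := by
    intro j
    have := congrFun hv j
    rw [Function.comp_apply, Pi.zero_apply, Ideal.Quotient.eq_zero_iff_mem,
      Ideal.mem_span_singleton'] at this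
    exact this
  choose u hu using h1
  refine ⟨u, funext fun j => ?_⟩
  rw [Pi.smul_apply, smul_eq_mul, mul_comm, hu]

theorem dmat_shift (e : ℕ) (n : ℕ → ℕ) (A : (i : ℕ) → Matrix (Fin (n i)) (Fin (n (i + 1))) R)
    (i : ℕ) :
    dmat e (fun i => n (i + 1)) (fun i => A (i + 1)) i = dmat (e + 1) n A (i + 1) := by
  by_cases h : i + 1 ≤ e
  · rw [dmat_of_le h, dmat_of_le (by omega)]
  · rw [dmat_of_lt (by omega), dmat_of_lt (by omega)]

theorem smul_vec_cancel {x : R} (hx : IsSMulRegular R x) {b : ℕ} {v : Fin b → R}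
    (h : x • v = 0) : v = 0 := by
  funext j
  have := congrFun h j
  rw [Pi.smul_apply, Pi.zero_apply] at this
  exact hx (by simpa using this)

/-- reduction of an exact complex modulo a nonzerodivisor, dropping the last term, is exact -/
theorem isExact_mod (x : R) (hx : IsSMulRegular R x)
    (e : ℕ) (he : 1 ≤ e) (n : ℕ → ℕ) (A : (i : ℕ) → Matrix (Fin (n i)) (Fin (n (i + 1))) R)
    (hA : ∀ i, i + 2 ≤ e + 1 → A i * A (i + 1) = 0) (hex : IsExact (e + 1) n A) :
    IsExact e (fun i => n (i + 1))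
      (fun i => (A (i + 1)).map (Ideal.Quotient.mk (Ideal.span {x}))) := by
  set f := Ideal.Quotient.mk (Ideal.span {x}) with hf
  have hfx : f x = 0 := by
    rw [hf, Ideal.Quotient.eq_zero_iff_mem]
    exact Ideal.mem_span_singleton_self x
  have hB : ∀ i, i + 2 ≤ e → (A (i + 1)).map f * (A (i + 1 + 1)).map f = 0 := by
    intro i hi
    rw [← Matrix.map_mul, hA (i + 1) (by omega), Matrix.map_zero _ (map_zero f)]
  apply isExact_of_dmat he hB
  intro i hi z' hz'
  obtain ⟨z, rfl⟩ := vec_lift _ z'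
  have hsh := dmat_shift e n (fun i => (A i).map f)
  rw [hsh, dmat_map] at hz'
  obtain ⟨u, hu⟩ := vec_eq_smul_of_map_eq_zero x _ hz'
  have hu0 : dmat (e + 1) n A i u = 0 := by
    apply smul_vec_cancel hx
    rw [← map_smul, ← hu, dmat_comp hA]
  obtain ⟨v, hv⟩ := dmat_of_isExact hex i (by omega) u hu0
  have h2 : dmat (e + 1) n A (i + 1) (z - x • v) = 0 := by
    rw [map_sub, map_smul, ← hv, hu, sub_self]
  obtain ⟨w, hw⟩ := dmat_of_isExact hex (i + 1) (by omega) _ h2
  refine ⟨f ∘ w, ?_⟩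
  rw [hsh, dmat_map, ← hw]
  funext j
  simp only [Function.comp_apply, Pi.sub_apply, Pi.smul_apply, smul_eq_mul, map_sub, map_mul, hfx,
    zero_mul, sub_zero]
  rfl

end modx

section lift

variable {R : Type u} [CommRing R]

theorem list_lift (J I : Ideal R) (l' : List (R ⧸ J))
    (hl' : ∀ y ∈ l', y ∈ I.map (Ideal.Quotient.mk J)) :
    ∃ l : List R, l.map (Ideal.Quotient.mk J) = l' ∧ ∀ y ∈ l, y ∈ I := by
  induction l' with
  | nil => exact ⟨[], rfl, by simp⟩
  | cons a l' ih =>
    obtain ⟨l, hl1, hl2⟩ := ih (fun y hy => hl' y (List.mem_cons_of_mem _ hy))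
    obtain ⟨y, hy1, hy2⟩ := (Ideal.mem_map_iff_of_surjective _ Ideal.Quotient.mk_surjective).1
      (hl' a List.mem_cons_self)
    refine ⟨y :: l, by rw [List.map_cons, hy2, hl1], ?_⟩
    intro z hz
    rcases List.mem_cons.1 hz with rfl | hz
    · exact hy1
    · exact hl2 z hz

theorem smul_top_eq_span (x : R) : x • (⊤ : Submodule R R) = Ideal.span {x} := by
  ext y
  rw [Submodule.mem_smul_pointwise_iff_exists, Ideal.mem_span_singleton']
  constructor
  · rintro ⟨b, -, hb⟩
    exact ⟨b, by rw [← hb, smul_eq_mul, mul_comm]⟩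
  · rintro ⟨b, hb⟩
    exact ⟨b, trivial, by rw [← hb, smul_eq_mul, mul_comm]⟩

theorem isRegular_cons_of_quot (x : R) (hx : IsSMulRegular R x) (l : List R)
    (hl : IsRegular (R ⧸ Ideal.span {x}) (l.map (Ideal.Quotient.mk (Ideal.span {x})))) :
    IsRegular R (x :: l) := by
  rw [isRegular_cons_iff]
  refine ⟨hx, ?_⟩
  let e₀ : QuotSMulTop x R ≃ₗ[R] (R ⧸ Ideal.span {x}) :=
    Submodule.quotEquivOfEq _ _ (smul_top_eq_span x)
  refine (AddEquiv.isRegular_congr (e := e₀.toAddEquiv) (as := l)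
    (bs := l.map (Ideal.Quotient.mk (Ideal.span {x}))) ?_).2 hl
  refine List.forall₂_map_right_iff.mpr (List.forall₂_same.mpr fun r _ m => ?_)
  show e₀ (r • m) = Ideal.Quotient.mk (Ideal.span {x}) r • e₀ m
  rw [map_smul, smul_eq_mul, Algebra.smul_def, Ideal.Quotient.algebraMap_eq]

theorem exists_regular_lift (x : R) (hx : IsSMulRegular R x) (I : Ideal R) (hxI : x ∈ I)
    (l' : List (R ⧸ Ideal.span {x}))
    (hl' : ∀ y ∈ l', y ∈ I.map (Ideal.Quotient.mk (Ideal.span {x})))
    (hreg : IsRegular (R ⧸ Ideal.span {x}) l') :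
    ∃ rs : List R, rs.length = l'.length + 1 ∧ (∀ y ∈ rs, y ∈ I) ∧ IsRegular R rs := by
  obtain ⟨l, hl1, hl2⟩ := list_lift _ I l' hl'
  refine ⟨x :: l, ?_, ?_, ?_⟩
  · rw [List.length_cons, ← hl1, List.length_map]
  · intro y hy
    rcases List.mem_cons.1 hy with rfl | hy
    · exact hxI
    · exact hl2 y hy
  · exact isRegular_cons_of_quot x hx l (hl1 ▸ hreg)

theorem eq_top_of_map_eq_top (x : R) (I : Ideal R) (hxI : x ∈ I)
    (h : I.map (Ideal.Quotient.mk (Ideal.span {x})) = ⊤) : I = ⊤ := by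
  rw [Ideal.eq_top_iff_one]
  have h1 : (1 : R ⧸ Ideal.span {x}) ∈ I.map (Ideal.Quotient.mk (Ideal.span {x})) := by
    rw [h]; trivial
  obtain ⟨y, hy1, hy2⟩ := (Ideal.mem_map_iff_of_surjective _ Ideal.Quotient.mk_surjective).1 h1
  have h2 : y - 1 ∈ Ideal.span {x} := by
    rw [← Ideal.Quotient.eq_zero_iff_mem, map_sub, hy2, map_one, sub_self]
  have h3 : y - 1 ∈ I := (Ideal.span_singleton_le_iff_mem I |>.2 hxI) h2
  have : (1 : R) = y - (y - 1) := by ring
  rw [this]
  exact I.sub_mem hy1 h3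

end lift

section main

/-- Buchsbaum–Eisenbud, necessity of the grade condition. -/
theorem grade_ge : ∀ (e : ℕ) (R : Type u) [CommRing R] [IsNoetherianRing R] (n : ℕ → ℕ)
    (A : (i : ℕ) → Matrix (Fin (n i)) (Fin (n (i + 1))) R),
    1 ≤ e → (∀ i, i + 2 ≤ e → A i * A (i + 1) = 0) → IsExact e n A →
    ∀ (ρ : ℕ → ℕ), ρ e = 0 → (∀ i, i < e → ρ i + ρ (i + 1) = n (i + 1)) →
    ∀ i, i < e → CAlgX.minorIdeal (A i) (ρ i) = ⊤ ∨
      ∃ rs : List R, rs.length = i + 1 ∧ (∀ y ∈ rs, y ∈ CAlgX.minorIdeal (A i) (ρ i)) ∧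
        IsRegular R rs := by
  intro e
  induction e with
  | zero => intro R _ _ n A he; omega
  | succ e ih =>
    intro R _ _ n A he hA hex ρ h0 hrec i hi
    rcases subsingleton_or_nontrivial R with hsub | hnt
    · left
      exact Subsingleton.elim _ _
    by_cases htop : CAlgX.minorIdeal (A i) (ρ i) = ⊤
    · exact Or.inl htop
    right
    obtain ⟨ρ', h0', hrec', h3⟩ := rank_and_regular (e + 1) he n A hA hex
    have hρ : ∀ i, i ≤ e + 1 → ρ' i = ρ i := rho_unique (e + 1) n ρ' ρ h0' h0 hrec' hrec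
    have h4 : ∀ i, i < e + 1 → ∃ a ∈ CAlgX.minorIdeal (A i) (ρ i), IsRegular a := by
      intro i hi
      have := (h3 i hi).2
      rwa [hρ i hi.le] at this
    choose! a ha1 ha2 using h4
    obtain ⟨x, hxdef⟩ : ∃ x, x = ∏ i ∈ Finset.range (e + 1), a i := ⟨_, rfl⟩
    have hxreg : IsRegular x := by
      rw [isRegular_iff_mem_nonZeroDivisors, hxdef]
      refine Submonoid.prod_mem _ fun i hi => ?_
      rw [← isRegular_iff_mem_nonZeroDivisors]
      exact ha2 i (Finset.mem_range.1 hi)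
    have hxs : IsSMulRegular R x := hxreg.left
    have hxI : ∀ i, i < e + 1 → x ∈ CAlgX.minorIdeal (A i) (ρ i) := by
      intro i hi
      rw [hxdef, ← Finset.mul_prod_erase _ _ (Finset.mem_range.2 hi)]
      exact Ideal.mul_mem_right _ _ (ha1 i hi)
    -- the quotient ring is nontrivial
    have hnt' : Nontrivial (R ⧸ Ideal.span {x}) := by
      rw [Ideal.Quotient.nontrivial_iff]
      intro h
      apply htop
      rw [Ideal.eq_top_iff_one]
      have h1 : (1 : R) ∈ Ideal.span {x} := by rw [h]; trivial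
      exact (Ideal.span_singleton_le_iff_mem _ |>.2 (hxI i hi)) h1
    rcases Nat.eq_zero_or_pos i with rfl | hipos
    · obtain ⟨rs, h5, h6, h7⟩ := exists_regular_lift x hxs _ (hxI 0 hi) []
        (by simp) (IsRegular.nil _ _)
      exact ⟨rs, by simpa using h5, h6, h7⟩
    · obtain ⟨i, rfl⟩ : ∃ i', i = i' + 1 := ⟨i - 1, by omega⟩
      have he1 : 1 ≤ e := by omega
      have hex' := isExact_mod x hxs e he1 n A hA hex
      have hB : ∀ i, i + 2 ≤ e → (A (i + 1)).map (Ideal.Quotient.mk (Ideal.span {x})) *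
          (A (i + 1 + 1)).map (Ideal.Quotient.mk (Ideal.span {x})) = 0 := by
        intro i hi
        rw [← Matrix.map_mul, hA (i + 1) (by omega), Matrix.map_zero _ (map_zero _)]
      have key := ih (R ⧸ Ideal.span {x}) (fun i => n (i + 1))
        (fun i => (A (i + 1)).map (Ideal.Quotient.mk (Ideal.span {x}))) he1 hB hex'
        (fun i => ρ (i + 1)) h0 (fun i hi => hrec (i + 1) (by omega)) i (by omega)
      simp only [minorIdeal_map] at key
      rcases key with key | ⟨l', h5, h6, h7⟩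
      · exact absurd (eq_top_of_map_eq_top x _ (hxI (i + 1) hi) key) htop
      · obtain ⟨rs, h8, h9, h10⟩ := exists_regular_lift x hxs _ (hxI (i + 1) hi) l' h6 h7
        exact ⟨rs, by rw [h8, h5], h9, h10⟩

end main

end Groth.Agent.H9.BE
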