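import Mathlib
import Groth.Prelude.Def_CAlgX
import Groth.Agent.Lib.Helper9.Misc.BE10

set_option autoImplicit false
set_option linter.style.haveILetI false
set_option linter.unusedSectionVars false
set_option linter.unusedVariables false

/-!
# Buchsbaum–Eisenbud, part 11: the exactness criterion
-/

namespace Groth.Agent.H9.BE

open RingTheory.Sequence

universe u v

/-- Buchsbaum–Eisenbud, necessity (any nontrivial Noetherian ring). -/
theorem BE_nec {R : Type u} [CommRing R] [IsNoetherianRing R] [Nontrivial R]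
    (e : ℕ) (he : 1 ≤ e) (n : ℕ → ℕ) (A : (i : ℕ) → Matrix (Fin (n i)) (Fin (n (i + 1))) R)
    (hA : ∀ i, i + 2 ≤ e → A i * A (i + 1) = 0)
    (hex : LinearMap.ker (A (e - 1)).mulVecLin = ⊥ ∧
        ∀ i, i + 2 ≤ e → LinearMap.ker (A i).mulVecLin = LinearMap.range (A (i + 1)).mulVecLin) :
    ∀ j, 1 ≤ j → j ≤ e →
      (CAlgX.matrixRank (A (j - 1)) : ℤ) = ∑ t ∈ Finset.Icc j e, (-1 : ℤ) ^ (t - j) * (n t : ℤ) ∧
        (CAlgX.detIdeal (A (j - 1)) = ⊤ ∨
          ∃ rs : List R, rs.length = j ∧ (∀ r ∈ rs, r ∈ CAlgX.detIdeal (A (j - 1))) ∧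
            RingTheory.Sequence.IsRegular R rs) := by
  have hex' : IsExact e n A := hex
  obtain ⟨ρ, h0, hrec, h3⟩ := rank_and_regular e he n A hA hex'
  have h4 := grade_ge e R n A he hA hex' ρ h0 hrec
  have h5 := rho_eq_sum e n ρ h0 hrec
  intro j hj1 hj2
  obtain ⟨i, rfl⟩ : ∃ i, j = i + 1 := ⟨j - 1, by omega⟩
  show (CAlgX.matrixRank (A i) : ℤ) = _ ∧ (CAlgX.detIdeal (A i) = ⊤ ∨
    ∃ rs : List R, rs.length = i + 1 ∧ (∀ r ∈ rs, r ∈ CAlgX.detIdeal (A i)) ∧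
      RingTheory.Sequence.IsRegular R rs)
  have hrk := (h3 i (by omega)).1
  have hdet : CAlgX.detIdeal (A i) = CAlgX.minorIdeal (A i) (ρ i) := by
    unfold CAlgX.detIdeal
    rw [hrk]
  rw [hrk, hdet]
  exact ⟨h5 i (by omega), h4 i (by omega)⟩

/-- Buchsbaum–Eisenbud exactness criterion over a Noetherian local ring (statement S2065). -/
theorem BE_iff {R : Type u} [CommRing R] [IsLocalRing R] [IsNoetherianRing R]
    (e : ℕ) (he : 1 ≤ e) (n : ℕ → ℕ) (A : (i : ℕ) → Matrix (Fin (n i)) (Fin (n (i + 1))) R)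
    (hA : ∀ i, i + 2 ≤ e → A i * A (i + 1) = 0) :
    (LinearMap.ker (A (e - 1)).mulVecLin = ⊥ ∧
        ∀ i, i + 2 ≤ e → LinearMap.ker (A i).mulVecLin = LinearMap.range (A (i + 1)).mulVecLin) ↔
      ∀ j, 1 ≤ j → j ≤ e →
        (CAlgX.matrixRank (A (j - 1)) : ℤ) = ∑ t ∈ Finset.Icc j e, (-1 : ℤ) ^ (t - j) * (n t : ℤ) ∧
          (CAlgX.detIdeal (A (j - 1)) = ⊤ ∨
            ∃ rs : List R, rs.length = j ∧ (∀ r ∈ rs, r ∈ CAlgX.detIdeal (A (j - 1))) ∧
              RingTheory.Sequence.IsRegular R rs) := by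
  constructor
  · intro hex
    exact BE_nec e he n A hA hex
  · intro h
    exact BE_suff_rank e he n A hA (fun j h1 h2 => (h j h1 h2).1) (fun j h1 h2 => (h j h1 h2).2)

end Groth.Agent.H9.BE
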