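import Mathlib
import Groth.Prelude.Def_W4c4cptpiccptjacBI

/-! Helper9: basic identities for the Basic Inequality on weighted multigraphs. -/

namespace Groth.Agent.H9.BI

open LabGraph

universe u

set_option linter.unusedSectionVars false

variable {V E : Type u} [Fintype V] [Fintype E] [DecidableEq V] [DecidableEq E]

/-- integer indicator of a finset -/
def ind (Y : Finset V) (v : V) : ℤ := if v ∈ Y then 1 else 0

lemma ind_mem {Y : Finset V} {v : V} (h : v ∈ Y) : ind Y v = 1 := by simp [ind, h]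
lemma ind_not_mem {Y : Finset V} {v : V} (h : v ∉ Y) : ind Y v = 0 := by simp [ind, h]

lemma sum_ind_mul (Y : Finset V) (f : V → ℤ) : ∑ v, ind Y v * f v = ∑ v ∈ Y, f v := by
  simp [ind, Finset.sum_ite_mem]

/-- the per-vertex canonical degree -/
def cv (ends : E → V × V) (w : V → ℕ) (v : V) : ℤ :=
  2 * (w v : ℤ) - 2 + (endCount ends Finset.univ v : ℤ)

lemma canDeg_eq (ends : E → V × V) (w : V → ℕ) (Y : Finset V) :
    canDeg ends w Y = ∑ v ∈ Y, cv ends w v := rfl

lemma cut_eq (ends : E → V × V) (Y : Finset V) :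
    (cut ends Y : ℤ) = ∑ e, (ind Y (ends e).1 - ind Y (ends e).2) ^ 2 := by
  unfold cut
  rw [Finset.card_eq_sum_ones, Finset.sum_filter]
  push_cast
  refine Finset.sum_congr rfl fun e _ => ?_
  by_cases h1 : (ends e).1 ∈ Y <;> by_cases h2 : (ends e).2 ∈ Y <;> simp [ind, h1, h2]

lemma sum_endCount (ends : E → V × V) : ∑ v, (endCount ends Finset.univ v : ℤ) = 2 * Fintype.card E := by
  unfold endCount
  push_cast
  rw [Finset.sum_comm]
  simp [Finset.sum_add_distrib]
  ring

lemma canDeg_univ (ends : E → V × V) (w : V → ℕ) :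
    canDeg ends w Finset.univ = 2 * genus ends w - 2 := by
  unfold canDeg genus
  rw [Finset.sum_add_distrib, Finset.sum_sub_distrib, sum_endCount, ← Finset.mul_sum]
  simp
  ring

lemma sum_twist (ends : E → V × V) (φ : V → ℤ) (Y : Finset V) :
    ∑ v ∈ Y, twist ends φ v =
      - ∑ e, (ind Y (ends e).1 - ind Y (ends e).2) * (φ (ends e).1 - φ (ends e).2) := by
  rw [← sum_ind_mul]
  unfold twist
  simp_rw [Finset.mul_sum]
  rw [Finset.sum_comm, ← Finset.sum_neg_distrib]
  refine Finset.sum_congr rfl fun e _ => ?_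
  simp only [mul_add, Finset.sum_add_distrib, mul_ite, mul_zero, Finset.sum_ite_eq, Finset.mem_univ, if_true]
  ring

lemma sum_twist_univ (ends : E → V × V) (φ : V → ℤ) : ∑ v, twist ends φ v = 0 := by
  rw [sum_twist]
  simp [ind]

/-- `β(Y) = K d_Y - D canDeg Y` -/
def beta (ends : E → V × V) (w : V → ℕ) (d : V → ℤ) (Y : Finset V) : ℤ :=
  canDeg ends w Finset.univ * (∑ v ∈ Y, d v) - (∑ v : V, d v) * canDeg ends w Y

lemma beta_eq_sum (ends : E → V × V) (w : V → ℕ) (d : V → ℤ) (Y : Finset V) :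
    beta ends w d Y = ∑ v ∈ Y, (canDeg ends w Finset.univ * d v - (∑ v : V, d v) * cv ends w v) := by
  unfold beta
  rw [Finset.sum_sub_distrib, ← Finset.mul_sum, ← Finset.mul_sum, canDeg_eq ends w Y]

lemma beta_union_inter (ends : E → V × V) (w : V → ℕ) (d : V → ℤ) (Y Z : Finset V) :
    beta ends w d (Y ∪ Z) + beta ends w d (Y ∩ Z) = beta ends w d Y + beta ends w d Z := by
  simp only [beta_eq_sum]
  exact Finset.sum_union_inter

lemma beta_sdiff_inter (ends : E → V × V) (w : V → ℕ) (d : V → ℤ) (Y Z : Finset V) :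
    beta ends w d (Y \ Z) + beta ends w d (Y ∩ Z) = beta ends w d Y := by
  simp only [beta_eq_sum]
  rw [add_comm]
  exact Finset.sum_inter_add_sum_sdiff Y Z _

lemma bi_iff (ends : E → V × V) (w : V → ℕ) (d : V → ℤ) :
    SatisfiesBI ends w d ↔ ∀ Y, 2 * |beta ends w d Y| ≤ (cut ends Y : ℤ) * canDeg ends w Finset.univ :=
  Iff.rfl

lemma beta_twist (ends : E → V × V) (w : V → ℕ) (d : V → ℤ) (φ : V → ℤ) (Y : Finset V) :
    beta ends w (fun v => d v + twist ends φ v) Y =
      beta ends w d Y + canDeg ends w Finset.univ * ∑ v ∈ Y, twist ends φ v := by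
  unfold beta
  rw [Finset.sum_add_distrib, Finset.sum_add_distrib, sum_twist_univ]
  ring

end Groth.Agent.H9.BI
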