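import Mathlib
import Groth.Agent.Lib.Helper9.Misc.BI1

/-! Helper9: Basic Inequality is preserved by twisting at an extremal set (S17179). -/

namespace Groth.Agent.H9.BI

open LabGraph

universe u

set_option linter.unusedSectionVars false

variable {V E : Type u} [Fintype V] [Fintype E] [DecidableEq V] [DecidableEq E]

lemma K_pos (ends : E → V × V) (w : V → ℕ) (hg : 2 ≤ genus ends w) :
    0 < canDeg ends w Finset.univ := by
  rw [canDeg_univ]; linarith

lemma edge_upper (ends : E → V × V) (Y Z : Finset V) :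
    (cut ends (Y ∪ Z) : ℤ) + cut ends (Y ∩ Z) - cut ends Z
      + 2 * ∑ v ∈ Y, twist ends (ind Z) v ≤ cut ends Y := by
  rw [cut_eq, cut_eq, cut_eq, cut_eq, sum_twist]
  have key : ∀ e : E, (ind (Y ∪ Z) (ends e).1 - ind (Y ∪ Z) (ends e).2) ^ 2
      + (ind (Y ∩ Z) (ends e).1 - ind (Y ∩ Z) (ends e).2) ^ 2
      - (ind Z (ends e).1 - ind Z (ends e).2) ^ 2
      + 2 * -((ind Y (ends e).1 - ind Y (ends e).2) * (ind Z (ends e).1 - ind Z (ends e).2))
      ≤ (ind Y (ends e).1 - ind Y (ends e).2) ^ 2 := by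
    intro e
    by_cases h1 : (ends e).1 ∈ Y <;> by_cases h2 : (ends e).2 ∈ Y <;>
      by_cases h3 : (ends e).1 ∈ Z <;> by_cases h4 : (ends e).2 ∈ Z <;>
      simp [ind, h1, h2, h3, h4]
  have := Finset.sum_le_sum (fun e (_ : e ∈ Finset.univ) => key e)
  simp only [Finset.sum_add_distrib, Finset.sum_sub_distrib, ← Finset.mul_sum,
    Finset.sum_neg_distrib] at this
  linarith

lemma edge_lower (ends : E → V × V) (Y Z : Finset V) :
    (cut ends (Y \ Z) : ℤ) + cut ends (Z \ Y) - cut ends Z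
      - 2 * ∑ v ∈ Y, twist ends (ind Z) v ≤ cut ends Y := by
  rw [cut_eq, cut_eq, cut_eq, cut_eq, sum_twist]
  have key : ∀ e : E, (ind (Y \ Z) (ends e).1 - ind (Y \ Z) (ends e).2) ^ 2
      + (ind (Z \ Y) (ends e).1 - ind (Z \ Y) (ends e).2) ^ 2
      - (ind Z (ends e).1 - ind Z (ends e).2) ^ 2
      - 2 * -((ind Y (ends e).1 - ind Y (ends e).2) * (ind Z (ends e).1 - ind Z (ends e).2))
      ≤ (ind Y (ends e).1 - ind Y (ends e).2) ^ 2 := by
    intro e
    by_cases h1 : (ends e).1 ∈ Y <;> by_cases h2 : (ends e).2 ∈ Y <;>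
      by_cases h3 : (ends e).1 ∈ Z <;> by_cases h4 : (ends e).2 ∈ Z <;>
      simp [ind, h1, h2, h3, h4]
  have := Finset.sum_le_sum (fun e (_ : e ∈ Finset.univ) => key e)
  simp only [Finset.sum_add_distrib, Finset.sum_sub_distrib, ← Finset.mul_sum,
    Finset.sum_neg_distrib] at this
  linarith

lemma two_abs_le {x c : ℤ} : 2 * |x| ≤ c ↔ -c ≤ 2 * x ∧ 2 * x ≤ c := by
  constructor
  · intro h
    constructor <;> linarith [neg_abs_le x, le_abs_self x]
  · rintro ⟨h1, h2⟩
    rcases abs_cases x with ⟨h, _⟩ | ⟨h, _⟩ <;> rw [h] <;> linarith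

theorem s17179 (ends : E → V × V) (w : V → ℕ)
    (hg : 2 ≤ genus ends w) (d : V → ℤ) (hBI : SatisfiesBI ends w d) (Z : Finset V)
    (hZ : 2 * (canDeg ends w Finset.univ * (∑ v ∈ Z, d v) - (∑ v : V, d v) * canDeg ends w Z) =
      (cut ends Z : ℤ) * canDeg ends w Finset.univ) :
    SatisfiesBI ends w (fun v => d v + twist ends (fun u => if u ∈ Z then 1 else 0) v) := by
  have hK := K_pos ends w hg
  rw [bi_iff] at hBI ⊢
  intro Y
  change 2 * |beta ends w (fun v => d v + twist ends (ind Z) v) Y| ≤ _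
  rw [beta_twist]
  have hZ' : 2 * beta ends w d Z = (cut ends Z : ℤ) * canDeg ends w Finset.univ := hZ
  have eu := edge_upper ends Y Z
  have el := edge_lower ends Y Z
  have h1 := (two_abs_le.1 (hBI (Y ∪ Z))).2
  have h2 := (two_abs_le.1 (hBI (Y ∩ Z))).2
  have h3 := (two_abs_le.1 (hBI (Y \ Z))).1
  have h4 := (two_abs_le.1 (hBI (Z \ Y))).2
  have e1 := beta_union_inter ends w d Y Z
  have e2 := beta_sdiff_inter ends w d Y Z
  have e3 := beta_sdiff_inter ends w d Z Y
  rw [Finset.inter_comm] at e3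
  set K := canDeg ends w Finset.univ
  set t := ∑ v ∈ Y, twist ends (ind Z) v
  have p1 := mul_le_mul_of_nonneg_right eu hK.le
  have p2 := mul_le_mul_of_nonneg_right el hK.le
  rw [two_abs_le]
  constructor
  · nlinarith
  · nlinarith

end Groth.Agent.H9.BI
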