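import Mathlib
import Groth.Agent.Lib.Helper9.Misc.BI2

/-! Helper9: normal form of twists between two BI multidegrees (S17174). -/

namespace Groth.Agent.H9.BI

open LabGraph

universe u

set_option linter.unusedSectionVars false

variable {V E : Type u} [Fintype V] [Fintype E] [DecidableEq V] [DecidableEq E]

/-- a connected graph has an edge crossing any nonempty proper vertex set -/
lemma exists_crossing (ends : E → V × V) (hc : Connected ends) (Z : V → Prop) {u v : V}
    (hu : Z u) (hv : ¬ Z v) :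
    ∃ e : E, (Z (ends e).1 ∧ ¬ Z (ends e).2) ∨ (¬ Z (ends e).1 ∧ Z (ends e).2) := by
  have h := hc.2 u v
  induction h with
  | refl => exact absurd hu hv
  | tail hxy hyz ih =>
    rename_i y z
    by_cases hy : Z y
    · obtain ⟨e, he | he⟩ := hyz
      · exact ⟨e, Or.inl (by rw [he]; exact ⟨hy, hv⟩)⟩
      · exact ⟨e, Or.inr (by rw [he]; exact ⟨hv, hy⟩)⟩
    · exact ih hy

lemma twist_shift (ends : E → V × V) (φ : V → ℤ) (m : ℤ) (v : V) :
    twist ends (fun u => φ u - m) v = twist ends φ v := by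
  unfold twist
  simp

lemma abs_twist_le (ends : E → V × V) (w : V → ℕ) (hg : 2 ≤ genus ends w) (d d' : V → ℤ)
    (hBI : SatisfiesBI ends w d) (hBI' : SatisfiesBI ends w d') (φ : V → ℤ)
    (hφ : ∀ v, d v - d' v = twist ends φ v) (Z : Finset V) :
    |∑ v ∈ Z, twist ends φ v| ≤ cut ends Z := by
  have hK := K_pos ends w hg
  have hd : d = fun v => d' v + twist ends φ v := by
    funext v; have := hφ v; linarith
  have h1 := two_abs_le.1 ((bi_iff ends w d).1 hBI Z)
  have h2 := two_abs_le.1 ((bi_iff ends w d').1 hBI' Z)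
  rw [hd, beta_twist] at h1
  set K := canDeg ends w Finset.univ
  set t := ∑ v ∈ Z, twist ends φ v
  rw [abs_le]
  constructor
  · have : K * (-(cut ends Z : ℤ)) ≤ K * t := by nlinarith
    exact le_of_mul_le_mul_left this hK
  · have : K * t ≤ K * (cut ends Z : ℤ) := by nlinarith
    exact le_of_mul_le_mul_left this hK

/-- every edge has `|φ a - φ b| ≤ 1` -/
lemma edge_diff_le (ends : E → V × V) (w : V → ℕ) (hg : 2 ≤ genus ends w) (d d' : V → ℤ)
    (hBI : SatisfiesBI ends w d) (hBI' : SatisfiesBI ends w d') (φ : V → ℤ)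
    (hφ : ∀ v, d v - d' v = twist ends φ v) (e : E) :
    φ (ends e).1 - φ (ends e).2 ≤ 1 := by
  by_contra hcon
  push Not at hcon
  set c := φ (ends e).1 with hc
  set Z : Finset V := Finset.univ.filter (fun v => c ≤ φ v) with hZ
  have h := (abs_le.1 (abs_twist_le ends w hg d d' hBI hBI' φ hφ Z)).1
  rw [sum_twist, cut_eq] at h
  have hnn : ∀ e' ∈ (Finset.univ : Finset E), 0 ≤ (ind Z (ends e').1 - ind Z (ends e').2) * (φ (ends e').1 - φ (ends e').2)
      - (ind Z (ends e').1 - ind Z (ends e').2) ^ 2 := by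
    intro e' _
    by_cases h1 : c ≤ φ (ends e').1 <;> by_cases h2 : c ≤ φ (ends e').2 <;>
      simp [ind, hZ, h1, h2] <;> linarith
  have hsum : ∑ e' : E, ((ind Z (ends e').1 - ind Z (ends e').2) * (φ (ends e').1 - φ (ends e').2)
      - (ind Z (ends e').1 - ind Z (ends e').2) ^ 2) ≤ 0 := by
    rw [Finset.sum_sub_distrib]; linarith
  have hz := (Finset.sum_eq_zero_iff_of_nonneg hnn).1 (le_antisymm hsum (Finset.sum_nonneg hnn)) e (Finset.mem_univ e)
  have h1 : c ≤ φ (ends e).1 := le_refl _
  have h2 : ¬ c ≤ φ (ends e).2 := by push Not; linarith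
  simp [ind, hZ, h1, h2] at hz
  linarith

theorem s17174 (ends : E → V × V) (w : V → ℕ) (hX : IsSemistableGraph ends w)
    (hg : 2 ≤ genus ends w) (d d' : V → ℤ)
    (hBI : SatisfiesBI ends w d) (hBI' : SatisfiesBI ends w d') (heq : TwistEquiv ends d d') :
    ∃ (q : ℕ) (h : V → ℕ), (∀ v : V, h v ≤ q) ∧ (∀ i : ℕ, i ≤ q → ∃ v : V, h v = i) ∧
      (∀ v : V, d v - d' v = twist ends (fun u => (h u : ℤ)) v) ∧
      (∀ i j : ℕ, i ≤ q → j ≤ q → i ≠ j →
        ((∃ e : E, (h (ends e).1 = i ∧ h (ends e).2 = j) ∨ (h (ends e).1 = j ∧ h (ends e).2 = i)) ↔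
          (i + 1 = j ∨ j + 1 = i))) := by
  obtain ⟨φ, hφ⟩ := heq
  have hconn := hX.1
  obtain ⟨v0⟩ := hconn.1
  have hne : (Finset.univ : Finset V).Nonempty := ⟨v0, Finset.mem_univ _⟩
  obtain ⟨vmin, -, hmin⟩ := Finset.exists_min_image Finset.univ φ hne
  set m := φ vmin with hm
  -- edge bound
  have hedge1 : ∀ e : E, φ (ends e).1 - φ (ends e).2 ≤ 1 :=
    fun e => edge_diff_le ends w hg d d' hBI hBI' φ hφ e
  have hedge2 : ∀ e : E, φ (ends e).2 - φ (ends e).1 ≤ 1 := by
    intro e
    -- apply to the opposite labelling with roles swapped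
    have hφ' : ∀ v, d' v - d v = twist ends (fun u => - φ u) v := by
      intro v
      have := hφ v
      have h2 : twist ends (fun u => - φ u) v = - twist ends φ v := by
        unfold twist
        rw [← Finset.sum_neg_distrib]
        refine Finset.sum_congr rfl fun e _ => ?_
        split_ifs <;> ring
      rw [h2]; linarith
    have := edge_diff_le ends w hg d' d hBI' hBI (fun u => - φ u) hφ' e
    linarith
  set h : V → ℕ := fun v => (φ v - m).toNat with hh
  have hcast : ∀ v, (h v : ℤ) = φ v - m := by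
    intro v
    simp only [hh]
    rw [Int.toNat_of_nonneg]
    have := hmin v (Finset.mem_univ v)
    linarith
  obtain ⟨vmax, -, hmax⟩ := Finset.exists_max_image Finset.univ h hne
  set q := h vmax with hq
  have hvmin : h vmin = 0 := by simp [hh, hm]
  have hedgeN : ∀ e : E, h (ends e).1 ≤ h (ends e).2 + 1 ∧ h (ends e).2 ≤ h (ends e).1 + 1 := by
    intro e
    have h1 := hedge1 e
    have h2 := hedge2 e
    have c1 := hcast (ends e).1
    have c2 := hcast (ends e).2
    constructor <;> omega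
  -- adjacent levels are joined
  have hadj : ∀ i : ℕ, i + 1 ≤ q →
      ∃ e : E, (h (ends e).1 = i ∧ h (ends e).2 = i + 1) ∨ (h (ends e).1 = i + 1 ∧ h (ends e).2 = i) := by
    intro i hi
    have hu : (fun v => i + 1 ≤ h v) vmax := hi
    have hv : ¬ (fun v => i + 1 ≤ h v) vmin := by simp [hvmin]
    obtain ⟨e, he | he⟩ := exists_crossing ends hconn (fun v => i + 1 ≤ h v) hu hv
    · refine ⟨e, Or.inr ?_⟩
      have := hedgeN e
      omega
    · refine ⟨e, Or.inl ?_⟩
      have := hedgeN e
      omega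
  refine ⟨q, h, fun v => hmax v (Finset.mem_univ v), ?_, ?_, ?_⟩
  · intro i hi
    rcases Nat.lt_or_ge i q with hlt | hge
    · obtain ⟨e, he | he⟩ := hadj i hlt
      · exact ⟨_, he.1⟩
      · exact ⟨_, he.2⟩
    · exact ⟨vmax, by omega⟩
  · intro v
    rw [hφ v]
    have : (fun u => (h u : ℤ)) = fun u => φ u - m := funext hcast
    rw [this, twist_shift]
  · intro i j hi hj hij
    constructor
    · rintro ⟨e, he | he⟩
      · have := hedgeN e
        omega
      · have := hedgeN e
        omega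
    · rintro (rfl | rfl)
      · obtain ⟨e, he⟩ := hadj i hj
        exact ⟨e, he⟩
      · obtain ⟨e, he⟩ := hadj j hi
        exact ⟨e, he.symm⟩

end Groth.Agent.H9.BI
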