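import Mathlib
import Groth.Agent.Lib.Helper9.Misc.BI3

/-! Helper9: existence of a BI representative in every twist class via energy minimisation (S17173). -/

namespace Groth.Agent.H9.BI

open LabGraph

universe u

set_option linter.unusedSectionVars false

variable {V E : Type u} [Fintype V] [Fintype E] [DecidableEq V] [DecidableEq E]

lemma boundary_add (ends : E → V × V) (f g : E → ℤ) (v : V) :
    boundary ends (fun e => f e + g e) v = boundary ends f v + boundary ends g v := by
  unfold boundary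
  rw [← Finset.sum_add_distrib]
  refine Finset.sum_congr rfl fun e _ => ?_
  split_ifs <;> ring

lemma boundary_smul (ends : E → V × V) (c : ℤ) (f : E → ℤ) (v : V) :
    boundary ends (fun e => c * f e) v = c * boundary ends f v := by
  unfold boundary
  rw [Finset.mul_sum]
  refine Finset.sum_congr rfl fun e _ => ?_
  split_ifs <;> ring

lemma boundary_zero (ends : E → V × V) (v : V) :
    boundary ends (fun _ => (0:ℤ)) v = 0 := by
  unfold boundary
  simp

lemma boundary_single (ends : E → V × V) (e : E) (v : V) :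
    boundary ends (fun e' => if e' = e then (1:ℤ) else 0) v =
      (if (ends e).2 = v then 1 else 0) - (if (ends e).1 = v then 1 else 0) := by
  unfold boundary
  rw [Finset.sum_eq_single e]
  · simp
  · intro e' _ hne
    simp [hne]
  · intro h; exact absurd (Finset.mem_univ e) h

/-- flows along paths -/
lemma exists_flow_path (ends : E → V × V) {u v : V} (h : Relation.ReflTransGen (Adj ends) u v) :
    ∃ f : E → ℤ, ∀ t, boundary ends f t = (if v = t then 1 else 0) - (if u = t then 1 else 0) := by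
  induction h with
  | refl => exact ⟨fun _ => 0, fun t => by rw [boundary_zero]; ring⟩
  | tail hxy hyz ih =>
    rename_i y z
    obtain ⟨f, hf⟩ := ih
    obtain ⟨e, he | he⟩ := hyz
    · refine ⟨fun e' => f e' + (if e' = e then (1:ℤ) else 0), fun t => ?_⟩
      rw [boundary_add, hf, boundary_single, he]
      ring
    · refine ⟨fun e' => f e' + (-1) * (if e' = e then (1:ℤ) else 0), fun t => ?_⟩
      rw [boundary_add, boundary_smul, hf, boundary_single, he]
      ring

lemma exists_flow (ends : E → V × V) (hc : Connected ends) (x : V → ℤ) (hx : ∑ v, x v = 0) :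
    ∃ f : E → ℤ, ∀ t, boundary ends f t = x t := by
  obtain ⟨v0⟩ := hc.1
  -- x = Σ_v x_v (1_v - 1_{v0})
  have key : ∀ s : Finset V, ∃ f : E → ℤ, ∀ t, boundary ends f t =
      ∑ v ∈ s, x v * ((if v = t then 1 else 0) - (if v0 = t then 1 else 0)) := by
    intro s
    induction s using Finset.induction_on with
    | empty => exact ⟨fun _ => 0, fun t => by rw [boundary_zero]; simp⟩
    | insert a s ha ih =>
      obtain ⟨f, hf⟩ := ih
      obtain ⟨g, hg⟩ := exists_flow_path ends (hc.2 v0 a)
      refine ⟨fun e => x a * g e + f e, fun t => ?_⟩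
      rw [boundary_add, boundary_smul, hf, hg, Finset.sum_insert ha]
  obtain ⟨f, hf⟩ := key Finset.univ
  refine ⟨f, fun t => ?_⟩
  rw [hf]
  simp only [mul_sub, Finset.sum_sub_distrib, ← Finset.sum_mul, hx]
  simp

/-- the energy -/
def GG (ends : E → V × V) (K : ℤ) (x : V → ℤ) (φ : V → ℤ) : ℤ :=
  K * ∑ e, (φ (ends e).1 - φ (ends e).2) ^ 2 - 2 * ∑ v, φ v * x v

lemma sum_mul_boundary (ends : E → V × V) (f : E → ℤ) (φ : V → ℤ) :
    ∑ v, φ v * boundary ends f v = - ∑ e, f e * (φ (ends e).1 - φ (ends e).2) := by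
  unfold boundary
  simp_rw [Finset.mul_sum]
  rw [Finset.sum_comm, ← Finset.sum_neg_distrib]
  refine Finset.sum_congr rfl fun e _ => ?_
  simp only [mul_sub, Finset.sum_sub_distrib, mul_ite, mul_zero, Finset.sum_ite_eq, Finset.mem_univ, if_true]
  ring

lemma GG_lower (ends : E → V × V) (K : ℤ) (hK : 1 ≤ K) (f : E → ℤ) (φ : V → ℤ) :
    - ∑ e, f e ^ 2 ≤ GG ends K (boundary ends f) φ := by
  unfold GG
  rw [sum_mul_boundary, Finset.mul_sum, ← Finset.sum_neg_distrib, mul_neg, sub_neg_eq_add,
    Finset.mul_sum, ← Finset.sum_add_distrib]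
  refine Finset.sum_le_sum fun e _ => ?_
  nlinarith [sq_nonneg (φ (ends e).1 - φ (ends e).2 + f e), sq_nonneg (φ (ends e).1 - φ (ends e).2)]

lemma GG_shift (ends : E → V × V) (K : ℤ) (x : V → ℤ) (φ : V → ℤ) (s : ℤ) (Z : Finset V) :
    GG ends K x (fun v => φ v + s * ind Z v) = GG ends K x φ
      - 2 * K * s * (∑ v ∈ Z, twist ends φ v) + K * s ^ 2 * (cut ends Z : ℤ) - 2 * s * ∑ v ∈ Z, x v := by
  unfold GG
  rw [sum_twist, cut_eq, ← sum_ind_mul Z x]
  have h1 : ∑ e, ((φ (ends e).1 + s * ind Z (ends e).1) - (φ (ends e).2 + s * ind Z (ends e).2)) ^ 2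
      = ∑ e, (φ (ends e).1 - φ (ends e).2) ^ 2
        + 2 * s * ∑ e, (ind Z (ends e).1 - ind Z (ends e).2) * (φ (ends e).1 - φ (ends e).2)
        + s ^ 2 * ∑ e, (ind Z (ends e).1 - ind Z (ends e).2) ^ 2 := by
    rw [Finset.mul_sum, Finset.mul_sum, ← Finset.sum_add_distrib, ← Finset.sum_add_distrib]
    refine Finset.sum_congr rfl fun e _ => ?_
    ring
  have h2 : ∑ v, (φ v + s * ind Z v) * x v = ∑ v, φ v * x v + s * ∑ v, ind Z v * x v := by
    rw [Finset.mul_sum, ← Finset.sum_add_distrib]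
    refine Finset.sum_congr rfl fun v _ => ?_
    ring
  rw [h1, h2]
  ring

theorem s17173 (ends : E → V × V) (w : V → ℕ) (hc : Connected ends)
    (hg : 2 ≤ genus ends w) (d : V → ℤ) :
    ∃ d' : V → ℤ, TwistEquiv ends d' d ∧ SatisfiesBI ends w d' := by
  have hK := K_pos ends w hg
  set K := canDeg ends w Finset.univ with hKdef
  set x : V → ℤ := fun v => K * d v - (∑ v : V, d v) * cv ends w v with hx
  have hx0 : ∑ v, x v = 0 := by
    simp only [hx, Finset.sum_sub_distrib, ← Finset.mul_sum]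
    rw [← canDeg_eq ends w Finset.univ]
    ring
  obtain ⟨f, hf⟩ := exists_flow ends hc x hx0
  have hfx : boundary ends f = x := funext hf
  -- minimizer
  obtain ⟨lb, ⟨φ, hφ⟩, hlb⟩ := Int.exists_least_of_bdd (P := fun z => ∃ φ : V → ℤ, GG ends K x φ = z)
    ⟨- ∑ e, f e ^ 2, by
      rintro z ⟨φ, rfl⟩
      rw [← hfx]
      exact GG_lower ends K (by linarith) f φ⟩ ⟨_, fun _ => 0, rfl⟩
  refine ⟨fun v => d v + twist ends φ v, ⟨φ, fun v => by ring⟩, ?_⟩
  rw [bi_iff]
  intro Z
  rw [beta_twist, two_abs_le, beta_eq_sum]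
  have h1 := hlb _ ⟨fun v => φ v + 1 * ind Z v, rfl⟩
  have h2 := hlb _ ⟨fun v => φ v + (-1) * ind Z v, rfl⟩
  rw [GG_shift, hφ] at h1 h2
  constructor
  · linarith
  · linarith

end Groth.Agent.H9.BI
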