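import Mathlib
import Groth.Agent.Lib.Helper9.Misc.BI4

/-! Helper9: strictly balanced multidegrees are unique in their class (S19033). -/

namespace Groth.Agent.H9.BI

open LabGraph

universe u

set_option linter.unusedSectionVars false

variable {V E : Type u} [Fintype V] [Fintype E] [DecidableEq V] [DecidableEq E]

lemma twist_sum {ι : Type*} (s : Finset ι) (ends : E → V × V) (φ : ι → V → ℤ) (v : V) :
    twist ends (fun u => ∑ i ∈ s, φ i u) v = ∑ i ∈ s, twist ends (φ i) v := by
  unfold twist
  rw [Finset.sum_comm]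
  refine Finset.sum_congr rfl fun e _ => ?_
  rw [Finset.sum_add_distrib]
  congr 1
  · split_ifs
    · rw [Finset.sum_sub_distrib]
    · simp
  · split_ifs
    · rw [Finset.sum_sub_distrib]
    · simp

lemma twist_const (ends : E → V × V) (c : ℤ) (v : V) : twist ends (fun _ => c) v = 0 := by
  unfold twist; simp

lemma ind_empty : ind (∅ : Finset V) = fun _ => 0 := by
  funext v; simp [ind]

lemma ind_univ : ind (Finset.univ : Finset V) = fun _ => 1 := by
  funext v; simp [ind]

/-- sum over edge-ends -/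
lemma sum_ends (ends : E → V × V) (f : V → ℤ) :
    ∑ e, (f (ends e).1 + f (ends e).2) = ∑ v, f v * (endCount ends Finset.univ v : ℤ) := by
  unfold endCount
  push_cast
  simp_rw [Finset.mul_sum]
  rw [Finset.sum_comm]
  refine Finset.sum_congr rfl fun e _ => ?_
  simp only [mul_add, Finset.sum_add_distrib, mul_ite, mul_one, mul_zero, Finset.sum_ite_eq,
    Finset.mem_univ, if_true]

lemma endCount_exceptional (ends : E → V × V) (w : V → ℕ) (v : V) (hv : IsExceptional ends w v) :
    endCount ends Finset.univ v = 2 := by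
  obtain ⟨-, hloop, hcut⟩ := hv
  rw [← hcut]
  unfold endCount cut
  rw [Finset.card_eq_sum_ones, Finset.sum_filter]
  refine Finset.sum_congr rfl fun e _ => ?_
  have hl := hloop e
  by_cases h1 : (ends e).1 = v <;> by_cases h2 : (ends e).2 = v
  · exact absurd (Prod.ext h1 h2) hl
  · simp [h1, h2]
  · simp [h1, h2]
  · simp [h1, h2]

lemma cv_exceptional (ends : E → V × V) (w : V → ℕ) (v : V) (hv : IsExceptional ends w v) :
    cv ends w v = 0 := by
  unfold cv
  rw [endCount_exceptional ends w v hv, hv.1]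
  simp

lemma cut_pos (ends : E → V × V) (hc : Connected ends) (A : Finset V) (hne : A.Nonempty)
    (hA : A ≠ Finset.univ) : 1 ≤ cut ends A := by
  obtain ⟨u, hu⟩ := hne
  obtain ⟨v, hv⟩ : ∃ v, v ∉ A := by
    by_contra h
    push Not at h
    exact hA (Finset.eq_univ_iff_forall.2 h)
  obtain ⟨e, he⟩ := exists_crossing ends hc (fun v => v ∈ A) hu hv
  unfold cut
  exact Finset.card_pos.2 ⟨e, by simpa using he⟩

/-- Core: a nonempty proper upper-extreme set `A` which is the top level set of `l` with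
`twist l` vanishing on exceptional vertices cannot exist for strictly balanced `d`. -/
lemma core (ends : E → V × V) (w : V → ℕ) (hc : Connected ends)
    (hg : 2 ≤ genus ends w) (d : V → ℤ)
    (hBI : SatisfiesBI ends w d)
    (hone : ∀ v : V, IsExceptional ends w v → d v = 1)
    (hstrict : ∀ Y : Finset V, Y.Nonempty → Y ≠ Finset.univ →
      2 * (canDeg ends w Finset.univ * (∑ v ∈ Y, d v) - (∑ v, d v) * canDeg ends w Y)
          = (cut ends Y : ℤ) * canDeg ends w Finset.univ →
      ∀ e : E, (((ends e).1 ∈ Y ∧ (ends e).2 ∉ Y) ∨ ((ends e).1 ∉ Y ∧ (ends e).2 ∈ Y)) →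
        (IsExceptional ends w (ends e).1 ∨ IsExceptional ends w (ends e).2))
    (A : Finset V) (hne : A.Nonempty) (hA : A ≠ Finset.univ)
    (hext : 2 * (canDeg ends w Finset.univ * (∑ v ∈ A, d v) - (∑ v, d v) * canDeg ends w A)
          = (cut ends A : ℤ) * canDeg ends w Finset.univ)
    (l : V → ℤ) (M : ℤ) (hlA : ∀ v ∈ A, l v = M) (hlN : ∀ v, v ∉ A → l v ≤ M - 1)
    (hT : ∀ v, IsExceptional ends w v → twist ends l v = 0) : False := by
  have hK := K_pos ends w hg
  have hlM : ∀ v, l v ≤ M := by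
    intro v
    by_cases hv : v ∈ A
    · exact (hlA v hv).le
    · have := hlN v hv; linarith
  -- a vertex of `A` on a cut edge is not exceptional
  have hnotexc : ∀ e : E, ∀ a b : V, ((ends e).1 = a ∧ (ends e).2 = b) ∨ ((ends e).1 = b ∧ (ends e).2 = a) →
      a ∈ A → b ∉ A → ¬ IsExceptional ends w a := by
    intro e0 a b he ha hb hexc
    have h0 := hT a hexc
    have hab : b ≠ a := fun h => hb (h ▸ ha)
    have hle : twist ends l a ≤ ∑ e : E, (if e = e0 then (-1 : ℤ) else 0) := by
      unfold twist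
      refine Finset.sum_le_sum fun e _ => ?_
      have t1 : (if (ends e).1 = a then l (ends e).2 - l (ends e).1 else 0) ≤ 0 := by
        split_ifs with h
        · rw [h, hlA a ha]; linarith [hlM (ends e).2]
        · exact le_refl _
      have t2 : (if (ends e).2 = a then l (ends e).1 - l (ends e).2 else 0) ≤ 0 := by
        split_ifs with h
        · rw [h, hlA a ha]; linarith [hlM (ends e).1]
        · exact le_refl _
      by_cases hee : e = e0
      · subst hee
        rw [if_pos rfl]
        rcases he with ⟨h1, h2⟩ | ⟨h1, h2⟩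
        · rw [if_pos h1, h1, h2, hlA a ha, if_neg hab]
          have := hlN b hb
          linarith
        · rw [if_pos h2, h1, h2, hlA a ha, if_neg hab]
          have := hlN b hb
          linarith
      · rw [if_neg hee]; linarith
    rw [Finset.sum_ite_eq' Finset.univ e0] at hle
    simp at hle
    linarith
  -- the set N of outside endpoints of cut edges
  set N : Finset V := Finset.univ.filter (fun v => v ∉ A ∧ ∃ e : E,
    (((ends e).1 ∈ A ∧ (ends e).2 = v) ∨ ((ends e).1 = v ∧ (ends e).2 ∈ A))) with hN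
  have hNexc : ∀ b ∈ N, IsExceptional ends w b := by
    intro b hb
    rw [hN, Finset.mem_filter] at hb
    obtain ⟨-, hbA, e, he | he⟩ := hb
    · have hcross : (((ends e).1 ∈ A ∧ (ends e).2 ∉ A) ∨ ((ends e).1 ∉ A ∧ (ends e).2 ∈ A)) :=
        Or.inl ⟨he.1, he.2 ▸ hbA⟩
      rcases hstrict A hne hA hext e hcross with h | h
      · exact absurd h (hnotexc e _ b (Or.inl ⟨rfl, he.2⟩) he.1 hbA)
      · rw [he.2] at h; exact h
    · have hcross : (((ends e).1 ∈ A ∧ (ends e).2 ∉ A) ∨ ((ends e).1 ∉ A ∧ (ends e).2 ∈ A)) :=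
        Or.inr ⟨he.1 ▸ hbA, he.2⟩
      rcases hstrict A hne hA hext e hcross with h | h
      · rw [he.1] at h; exact h
      · exact absurd h (hnotexc e _ b (Or.inr ⟨he.1, rfl⟩) he.2 hbA)
  have hdisj : Disjoint A N := by
    rw [Finset.disjoint_left]
    intro v hv hvN
    rw [hN, Finset.mem_filter] at hvN
    exact hvN.2.1 hv
  -- beta of A ∪ N
  have hbeta : beta ends w d (A ∪ N) = beta ends w d A + canDeg ends w Finset.univ * (N.card : ℤ) := by
    rw [beta_eq_sum, beta_eq_sum, Finset.sum_union hdisj]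
    congr 1
    rw [Finset.sum_congr rfl (fun b hb => by
      rw [hone b (hNexc b hb), cv_exceptional ends w b (hNexc b hb)])]
    simp
    ring
  -- cut of A ∪ N
  have hcut : (cut ends (A ∪ N) : ℤ) ≤ 2 * (N.card : ℤ) := by
    rw [cut_eq]
    calc ∑ e, (ind (A ∪ N) (ends e).1 - ind (A ∪ N) (ends e).2) ^ 2
        ≤ ∑ e, (ind N (ends e).1 + ind N (ends e).2) := by
          refine Finset.sum_le_sum fun e _ => ?_
          by_cases h1 : (ends e).1 ∈ A <;> by_cases h2 : (ends e).2 ∈ A <;>
            by_cases h3 : (ends e).1 ∈ N <;> by_cases h4 : (ends e).2 ∈ N <;>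
            simp [ind, h1, h2, h3, h4]
          · exact h4 (by rw [hN, Finset.mem_filter]; exact ⟨Finset.mem_univ _, h2, e, Or.inl ⟨h1, rfl⟩⟩)
          · exact h3 (by rw [hN, Finset.mem_filter]; exact ⟨Finset.mem_univ _, h1, e, Or.inr ⟨rfl, h2⟩⟩)
      _ = ∑ v, ind N v * (endCount ends Finset.univ v : ℤ) := sum_ends ends (ind N)
      _ = ∑ v ∈ N, (endCount ends Finset.univ v : ℤ) := sum_ind_mul N _
      _ = ∑ v ∈ N, (2 : ℤ) := Finset.sum_congr rfl (fun b hb => by
          rw [endCount_exceptional ends w b (hNexc b hb)]; rfl)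
      _ = 2 * (N.card : ℤ) := by simp; ring
  have hb1 := (two_abs_le.1 ((bi_iff ends w d).1 hBI (A ∪ N))).2
  rw [hbeta] at hb1
  have hext' : 2 * beta ends w d A = (cut ends A : ℤ) * canDeg ends w Finset.univ := hext
  have hpos := cut_pos ends hc A hne hA
  have hpos' : (1 : ℤ) ≤ (cut ends A : ℤ) := by exact_mod_cast hpos
  set K := canDeg ends w Finset.univ
  nlinarith

theorem s19033 (ends : E → V × V) (w : V → ℕ) (hc : Connected ends)
    (hg : 2 ≤ genus ends w) (d d' : V → ℤ)
    (hBI : SatisfiesBI ends w d)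
    (hone : ∀ v : V, IsExceptional ends w v → d v = 1) (hone' : ∀ v : V, IsExceptional ends w v → d' v = 1)
    (hstrict : ∀ Y : Finset V, Y.Nonempty → Y ≠ Finset.univ →
      2 * (canDeg ends w Finset.univ * (∑ v ∈ Y, d v) - (∑ v, d v) * canDeg ends w Y)
          = (cut ends Y : ℤ) * canDeg ends w Finset.univ →
      ∀ e : E, (((ends e).1 ∈ Y ∧ (ends e).2 ∉ Y) ∨ ((ends e).1 ∉ Y ∧ (ends e).2 ∈ Y)) →
        (IsExceptional ends w (ends e).1 ∨ IsExceptional ends w (ends e).2))
    (m : ℕ) (Z : Fin m → Finset V) (hmono : ∀ i j : Fin m, i ≤ j → Z i ⊆ Z j)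
    (hext : ∀ i : Fin m, 2 * (canDeg ends w Finset.univ * (∑ v ∈ Z i, d v) - (∑ v, d v) * canDeg ends w (Z i))
          = (cut ends (Z i) : ℤ) * canDeg ends w Finset.univ)
    (hsum : ∀ v : V, d' v = d v + ∑ i : Fin m, twist ends (fun u => if u ∈ Z i then (1 : ℤ) else 0) v) :
    d = d' := by
  have hsum' : ∀ v : V, d' v = d v + ∑ i : Fin m, twist ends (ind (Z i)) v := hsum
  funext v
  rw [hsum' v]
  suffices h : ∀ i, Z i = ∅ ∨ Z i = Finset.univ by
    have h0 : ∀ i, twist ends (ind (Z i)) v = 0 := by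
      intro i
      rcases h i with h | h <;> rw [h]
      · rw [ind_empty, twist_const]
      · rw [ind_univ, twist_const]
    simp [h0]
  by_contra hcon
  push Not at hcon
  obtain ⟨i1, hi1e, hi1u⟩ := hcon
  obtain ⟨i0, hi0, hmin⟩ := Finset.exists_min_image
    (Finset.univ.filter (fun i : Fin m => (Z i).Nonempty)) id
    ⟨i1, by simp [hi1e]⟩
  simp only [Finset.mem_filter, Finset.mem_univ, true_and, id] at hi0 hmin
  have hprop : Z i0 ≠ Finset.univ := by
    intro h
    apply hi1u
    have := hmono i0 i1 (hmin i1 hi1e)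
    rw [h] at this
    exact Finset.univ_subset_iff.1 this
  have hbefore : ∀ i, i < i0 → Z i = ∅ := by
    intro i hi
    by_contra h
    exact absurd (hmin i (Finset.nonempty_iff_ne_empty.2 h)) (not_le.2 hi)
  refine core ends w hc hg d hBI hone hstrict (Z i0) hi0 hprop (hext i0)
    (fun u => ∑ i : Fin m, ind (Z i) u)
    (∑ i : Fin m, (if i0 ≤ i then (1:ℤ) else 0)) ?_ ?_ ?_
  · intro u hu
    refine Finset.sum_congr rfl fun i _ => ?_
    by_cases hi : i0 ≤ i
    · rw [if_pos hi, ind_mem (hmono i0 i hi hu)]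
    · rw [if_neg hi, hbefore i (not_le.1 hi)]; simp [ind]
  · intro u hu
    have : ∑ i : Fin m, ind (Z i) u ≤ ∑ i : Fin m, ((if i0 ≤ i then (1:ℤ) else 0) - (if i = i0 then 1 else 0)) := by
      refine Finset.sum_le_sum fun i _ => ?_
      by_cases hi : i0 ≤ i
      · by_cases hii : i = i0
        · subst hii; rw [ind_not_mem hu]; simp
        · rw [if_pos hi, if_neg hii]; unfold ind; split_ifs <;> norm_num
      · have hii : i ≠ i0 := fun h => hi (h ▸ le_refl _)
        rw [if_neg hi, if_neg hii, hbefore i (not_le.1 hi)]; simp [ind]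
    rw [Finset.sum_sub_distrib, Finset.sum_ite_eq' Finset.univ i0] at this
    simpa using this
  · intro u hu
    rw [twist_sum]
    have := hsum' u
    rw [hone u hu, hone' u hu] at this
    linarith

end Groth.Agent.H9.BI
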