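import Mathlib
import Groth.Agent.Lib.Helper9.Misc.BI5

/-! Helper9: pull-back of a balanced multidegree along contraction of exceptional vertices (S19034). -/

namespace Groth.Agent.H9.BI

open LabGraph

universe u

set_option linter.unusedSectionVars false

variable {V E : Type u} [Fintype V] [Fintype E] [DecidableEq V] [DecidableEq E]

lemma ind_sq (Y : Finset V) (v : V) : ind Y v * ind Y v = ind Y v := by
  unfold ind; split_ifs <;> simp

lemma ind_nonneg (Y : Finset V) (v : V) : 0 ≤ ind Y v := by
  unfold ind; split_ifs <;> simp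

lemma ind_le_one (Y : Finset V) (v : V) : ind Y v ≤ 1 := by
  unfold ind; split_ifs <;> simp

lemma ind_congr {Y Y' : Finset V} {v : V} (h : v ∈ Y ↔ v ∈ Y') : ind Y v = ind Y' v := by
  unfold ind; simp [h]

/-- local optimisation of the cut at a set of pairwise non-adjacent loopless degree-2 vertices -/
lemma cut_le_of_local (ends : E → V × V) (S : Finset V)
    (hloop : ∀ s ∈ S, ∀ e, ends e ≠ (s, s))
    (hnoadj : ∀ e, ¬ ((ends e).1 ∈ S ∧ (ends e).2 ∈ S))
    (hdeg : ∀ s ∈ S, endCount ends Finset.univ s = 2)
    (Y Y' : Finset V) (hagree : ∀ v, v ∉ S → (v ∈ Y ↔ v ∈ Y'))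
    (hopt : ∀ s ∈ S, (s ∈ Y' ↔ ∀ e, ((ends e).1 = s → (ends e).2 ∈ Y') ∧ ((ends e).2 = s → (ends e).1 ∈ Y'))) :
    cut ends Y' ≤ cut ends Y := by
  have hgoal : (cut ends Y' : ℤ) ≤ cut ends Y := by
    rw [cut_eq, cut_eq, ← sub_nonneg, ← Finset.sum_sub_distrib]
    -- rewrite each term as a sum over s ∈ S
    have hterm : ∀ e : E, (ind Y (ends e).1 - ind Y (ends e).2) ^ 2 - (ind Y' (ends e).1 - ind Y' (ends e).2) ^ 2
        = ∑ s ∈ S, ((if (ends e).1 = s then (1:ℤ) else 0) + (if (ends e).2 = s then 1 else 0)) *
          ((ind Y (ends e).1 - ind Y (ends e).2) ^ 2 - (ind Y' (ends e).1 - ind Y' (ends e).2) ^ 2) := by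
      intro e
      rw [← Finset.sum_mul, Finset.sum_add_distrib, Finset.sum_ite_eq, Finset.sum_ite_eq]
      by_cases h1 : (ends e).1 ∈ S
      · have h2 : (ends e).2 ∉ S := fun h2 => hnoadj e ⟨h1, h2⟩
        simp [h1, h2]
      · by_cases h2 : (ends e).2 ∈ S
        · simp [h1, h2]
        · rw [ind_congr (hagree _ h1), ind_congr (hagree _ h2)]
          simp
    rw [Finset.sum_congr rfl (fun e _ => hterm e), Finset.sum_comm]
    refine Finset.sum_nonneg fun s hs => ?_
    -- per-vertex analysis
    have hother1 : ∀ e, (ends e).1 = s → (ends e).2 ∉ S := fun e h h2 => hnoadj e ⟨h ▸ hs, h2⟩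
    have hother2 : ∀ e, (ends e).2 = s → (ends e).1 ∉ S := fun e h h1 => hnoadj e ⟨h1, h ▸ hs⟩
    by_cases hsame : (s ∈ Y ↔ s ∈ Y')
    · -- no change at s
      refine Finset.sum_nonneg fun e _ => ?_
      by_cases h1 : (ends e).1 = s
      · rw [h1, ind_congr hsame, ind_congr (hagree _ (hother1 e h1))]; simp
      · by_cases h2 : (ends e).2 = s
        · rw [h2, ind_congr hsame, ind_congr (hagree _ (hother2 e h2))]; simp
        · simp [h1, h2]
    · by_cases hsY' : s ∈ Y'
      · -- all neighbours in Y'
        have hall := (hopt s hs).1 hsY'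
        refine Finset.sum_nonneg fun e _ => ?_
        by_cases h1 : (ends e).1 = s
        · have := (hall e).1 h1
          have hz : ind Y' (ends e).1 - ind Y' (ends e).2 = 0 := by
            rw [h1, ind_mem hsY', ind_mem this]; ring
          rw [hz]
          have h4 : 0 ≤ (if (ends e).2 = s then (1:ℤ) else 0) := by split_ifs <;> simp
          have h3 : (0:ℤ) ≤ (if (ends e).1 = s then (1:ℤ) else 0) := by split_ifs <;> simp
          refine mul_nonneg (add_nonneg h3 h4) ?_
          have h00 : (0:ℤ) ^ 2 = 0 := by norm_num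
          rw [h00, sub_zero]; exact sq_nonneg _
        · by_cases h2 : (ends e).2 = s
          · have := (hall e).2 h2
            have hz : ind Y' (ends e).1 - ind Y' (ends e).2 = 0 := by
              rw [h2, ind_mem hsY', ind_mem this]; ring
            rw [hz]
            have h3 : (0:ℤ) ≤ (if (ends e).1 = s then (1:ℤ) else 0) := by split_ifs <;> simp
            have h4 : (0:ℤ) ≤ (if (ends e).2 = s then (1:ℤ) else 0) := by split_ifs <;> simp
            refine mul_nonneg (add_nonneg h3 h4) ?_
            have h00 : (0:ℤ) ^ 2 = 0 := by norm_num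
            rw [h00, sub_zero]; exact sq_nonneg _
          · simp [h1, h2]
      · -- s ∈ Y, s ∉ Y', some neighbour outside Y'
        have hsY : s ∈ Y := by
          by_contra h
          exact hsame ⟨fun h' => absurd h' h, fun h' => absurd h' hsY'⟩
        have hnall := (not_congr (hopt s hs)).1 hsY'
        obtain ⟨e0, he0⟩ := not_forall.1 hnall
        have hd := hdeg s hs
        have hd' : ∑ e : E, ((if (ends e).1 = s then (1:ℤ) else 0) + (if (ends e).2 = s then 1 else 0)) = 2 := by
          have : ((endCount ends Finset.univ s : ℕ) : ℤ) = 2 := by rw [hd]; rfl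
          rw [← this]
          unfold endCount
          push_cast
          rfl
        have hlow : ∑ e : E, ((if e = e0 then (2:ℤ) else 0) -
            ((if (ends e).1 = s then (1:ℤ) else 0) + (if (ends e).2 = s then 1 else 0))) = 0 := by
          rw [Finset.sum_sub_distrib, hd', Finset.sum_ite_eq' Finset.univ e0]
          simp
        refine le_trans (le_of_eq hlow.symm) (Finset.sum_le_sum fun e _ => ?_)
        have hloop' := hloop s hs e
        by_cases h1 : (ends e).1 = s
        · have h2 : (ends e).2 ≠ s := fun h2 => hloop' (Prod.ext h1 h2)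
          have hag := hagree _ (hother1 e h1)
          rw [if_pos h1, if_neg h2, h1, ind_mem hsY, ind_not_mem hsY', ind_congr hag]
          by_cases hee : e = e0
          · subst hee
            have : (ends e).2 ∉ Y' := by
              by_contra hin
              rcases Classical.not_and_iff_not_or_not.1 he0 with h | h
              · exact h (fun _ => hin)
              · exact h (fun h' => absurd h' h2)
            rw [if_pos rfl, ind_not_mem this]; norm_num
          · rw [if_neg hee]
            have := ind_le_one Y' (ends e).2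
            have := ind_nonneg Y' (ends e).2
            have := ind_sq Y' (ends e).2
            nlinarith
        · by_cases h2 : (ends e).2 = s
          · have hag := hagree _ (hother2 e h2)
            rw [if_neg h1, if_pos h2, h2, ind_mem hsY, ind_not_mem hsY', ind_congr hag]
            by_cases hee : e = e0
            · subst hee
              have : (ends e).1 ∉ Y' := by
                by_contra hin
                rcases Classical.not_and_iff_not_or_not.1 he0 with h | h
                · exact h (fun h' => absurd h' h1)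
                · exact h (fun _ => hin)
              rw [if_pos rfl, ind_not_mem this]; norm_num
            · rw [if_neg hee]
              have := ind_le_one Y' (ends e).1
              have := ind_nonneg Y' (ends e).1
              have := ind_sq Y' (ends e).1
              nlinarith
          · have hee : e ≠ e0 := by
              rintro rfl
              exact he0 ⟨fun h => absurd h h1, fun h => absurd h h2⟩
            rw [if_neg h1, if_neg h2, if_neg hee]; simp
  exact_mod_cast hgoal

theorem s19034 (ends : E → V × V) (w : V → ℕ) (hZ : IsQuasistableGraph ends w)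
    (hg : 2 ≤ genus ends w) (S : Finset V) (hS : ∀ v ∈ S, IsExceptional ends w v)
    (dt : V → ℤ) (hzero : ∀ v ∈ S, dt v = 0)
    (hBI : ∀ W : Finset V, Disjoint W S →
      2 * |canDeg ends w Finset.univ * (∑ v ∈ W, dt v) - (∑ v, dt v) * canDeg ends w (Finset.univ.filter (fun v : V => v ∈ W ∨ (v ∈ S ∧ ∀ e : E, ((ends e).1 = v → (ends e).2 ∈ W) ∧ ((ends e).2 = v → (ends e).1 ∈ W))))|
        ≤ (cut ends (Finset.univ.filter (fun v : V => v ∈ W ∨ (v ∈ S ∧ ∀ e : E, ((ends e).1 = v → (ends e).2 ∈ W) ∧ ((ends e).2 = v → (ends e).1 ∈ W)))) : ℤ) * canDeg ends w Finset.univ) :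
    SatisfiesBI ends w dt := by
  have hK := K_pos ends w hg
  intro Y
  set W : Finset V := Y \ S with hW
  have hdisj : Disjoint W S := Finset.sdiff_disjoint
  have h := hBI W hdisj
  set W' : Finset V := Finset.univ.filter (fun v : V => v ∈ W ∨ (v ∈ S ∧ ∀ e : E, ((ends e).1 = v → (ends e).2 ∈ W) ∧ ((ends e).2 = v → (ends e).1 ∈ W))) with hW'
  have hmemW' : ∀ v, v ∈ W' ↔ (v ∈ W ∨ (v ∈ S ∧ ∀ e : E, ((ends e).1 = v → (ends e).2 ∈ W) ∧ ((ends e).2 = v → (ends e).1 ∈ W))) := by
    intro v; rw [hW', Finset.mem_filter]; simp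
  have hmemW : ∀ v, v ∈ W ↔ (v ∈ Y ∧ v ∉ S) := by
    intro v; rw [hW, Finset.mem_sdiff]
  -- sums agree
  have hWY : W ⊆ Y := Finset.sdiff_subset
  have hWW' : W ⊆ W' := fun v hv => (hmemW' v).2 (Or.inl hv)
  have hd1 : ∑ v ∈ W, dt v = ∑ v ∈ Y, dt v :=
    Finset.sum_subset hWY (fun v hv hnv => hzero v (by
      by_contra hs; exact hnv ((hmemW v).2 ⟨hv, hs⟩)))
  have hc1 : canDeg ends w W = canDeg ends w Y := by
    rw [canDeg_eq, canDeg_eq]
    exact Finset.sum_subset hWY (fun v hv hnv => cv_exceptional ends w v (hS v (by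
      by_contra hs; exact hnv ((hmemW v).2 ⟨hv, hs⟩))))
  have hc2 : canDeg ends w W = canDeg ends w W' := by
    rw [canDeg_eq, canDeg_eq]
    exact Finset.sum_subset hWW' (fun v hv hnv => cv_exceptional ends w v (hS v (by
      rcases (hmemW' v).1 hv with h1 | h1
      · exact absurd h1 hnv
      · exact h1.1)))
  rw [hd1, ← hc2, hc1] at h
  refine le_trans h (mul_le_mul_of_nonneg_right ?_ hK.le)
  -- cut comparison
  have hnoadj : ∀ e, ¬ ((ends e).1 ∈ S ∧ (ends e).2 ∈ S) := by
    rintro e ⟨h1, h2⟩
    by_cases heq : (ends e).1 = (ends e).2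
    · exact (hS _ h1).2.1 e (Prod.ext rfl heq.symm)
    · exact hZ.2 e heq ⟨hS _ h1, hS _ h2⟩
  have hcut := cut_le_of_local ends S (fun s hs => (hS s hs).2.1) hnoadj
    (fun s hs => endCount_exceptional ends w s (hS s hs)) Y W' ?_ ?_
  · exact_mod_cast hcut
  · intro v hv
    rw [hmemW', hmemW]
    constructor
    · intro h; exact Or.inl ⟨h, hv⟩
    · rintro (h | h)
      · exact h.1
      · exact absurd h.1 hv
  · intro s hs
    rw [hmemW']
    have hsW : s ∉ W := fun h => ((hmemW s).1 h).2 hs
    constructor
    · rintro (h | h)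
      · exact absurd h hsW
      · intro e
        exact ⟨fun h1 => hWW' ((h.2 e).1 h1), fun h2 => hWW' ((h.2 e).2 h2)⟩
    · intro h
      refine Or.inr ⟨hs, fun e => ⟨fun h1 => ?_, fun h2 => ?_⟩⟩
      · have hin := (h e).1 h1
        have hnS : (ends e).2 ∉ S := fun h2 => hnoadj e ⟨h1 ▸ hs, h2⟩
        rcases (hmemW' _).1 hin with h3 | h3
        · exact h3
        · exact absurd h3.1 hnS
      · have hin := (h e).2 h2
        have hnS : (ends e).1 ∉ S := fun h1 => hnoadj e ⟨h1, h2 ▸ hs⟩
        rcases (hmemW' _).1 hin with h3 | h3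
        · exact h3
        · exact absurd h3.1 hnS

end Groth.Agent.H9.BI
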