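import Mathlib
import Groth.Prelude.Def_BlowUp2
import Groth.Agent.Lib.Lead.QC.BlowUpMul
import Groth.Agent.Lib.Lead.QC.CartierFactor
import Groth.Agent.Lib.Helper9.Misc.MDP6

/-! Helper9: blow-up of a union of two disjoint centres is the fibre product of the blow-ups (S17083). -/

set_option linter.style.haveILetI false
set_option linter.unusedSectionVars false
set_option linter.unusedVariables false

universe u
open CategoryTheory Limits AlgebraicGeometry TopologicalSpace Opposite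

namespace Groth.Agent.H9.BLA

section DJ
variable {X B B₁ B₂ P : Scheme.{u}} {I₁ I₂ : X.IdealSheafData}
  {σ : B ⟶ X} {σ₁ : B₁ ⟶ X} {σ₂ : B₂ ⟶ X} {p₁ : P ⟶ B₁} {p₂ : P ⟶ B₂}

theorem inf_eq_mul_of_sup_eq_top (hdisj : I₁ ⊔ I₂ = ⊤) : I₁ ⊓ I₂ = I₁ * I₂ := by
  apply Scheme.IdealSheafData.ext
  funext U
  rw [Scheme.IdealSheafData.ideal_inf, Scheme.IdealSheafData.ideal_mul]
  change I₁.ideal U ⊓ I₂.ideal U = I₁.ideal U * I₂.ideal U
  refine (Ideal.mul_eq_inf_of_isCoprime ?_).symm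
  rw [Ideal.isCoprime_iff_sup_eq]
  have := congrArg (fun 𝓘 : X.IdealSheafData => 𝓘.ideal U) hdisj
  simpa using this

theorem mem_compl_support_or (hdisj : I₁ ⊔ I₂ = ⊤) (x : X) :
    x ∈ (I₁.support.compl : X.Opens) ∨ x ∈ (I₂.support.compl : X.Opens) := by
  by_contra h
  push Not at h
  have h1 : x ∈ I₁.support := by
    by_contra h1; exact h.1 h1
  have h2 : x ∈ I₂.support := by
    by_contra h2; exact h.2 h2
  have : x ∈ (I₁ ⊔ I₂).support := by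
    rw [Scheme.IdealSheafData.support_sup]; exact ⟨h1, h2⟩
  rw [hdisj, Scheme.IdealSheafData.support_top] at this
  exact this

/-- on the fibre product of the blow-ups of two disjoint centres, the inverse image of the first
centre is effective Cartier. -/
theorem isEffCartier_comap_of_isPullback (hdisj : I₁ ⊔ I₂ = ⊤) (hσ₁ : BlowUp.IsBlowUp σ₁ I₁)
    (hσ₂ : BlowUp.IsBlowUp σ₂ I₂) (H : IsPullback p₁ p₂ σ₁ σ₂) :
    BlowUp.IsEffCartierIdeal (I₁.comap (p₁ ≫ σ₁)) := by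
  let U₁ : X.Opens := I₁.support.compl
  let U₂ : X.Opens := I₂.support.compl
  let UY : P.Opens := p₁ ⁻¹ᵁ (σ₁ ⁻¹ᵁ U₂) ⊓ p₂ ⁻¹ᵁ (σ₂ ⁻¹ᵁ U₂)
  let W : Bool → P.Opens := fun i => cond i ((p₁ ≫ σ₁) ⁻¹ᵁ U₁) UY
  refine Groth.Agent.H9.MDP.isEffCartierIdeal_of_comap (ι := Bool) (fun i => ((W i : P.Opens) : Scheme.{u}))
    (fun i => (W i).ι) ?_ _ ?_
  · intro x
    rcases mem_compl_support_or hdisj ((p₁ ≫ σ₁) x) with h | h
    · exact ⟨true, ⟨x, h⟩, rfl⟩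
    · refine ⟨false, ⟨x, ⟨h, ?_⟩⟩, rfl⟩
      change σ₂ (p₂ x) ∈ U₂
      have : σ₂ (p₂ x) = (p₁ ≫ σ₁) x := by
        rw [H.w]; rfl
      rw [this]; exact h
  · intro i
    cases i
    · -- over the complement of the second centre, `p₁` is an open immersion
      change BlowUp.IsEffCartierIdeal ((I₁.comap (p₁ ≫ σ₁)).comap UY.ι)
      have hpb := Scheme.Hom.isPullback_resLE H (US := U₂) (UT := σ₂ ⁻¹ᵁ U₂) (UX := σ₁ ⁻¹ᵁ U₂)
        le_rfl le_rfl (UY := UY) rfl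
      haveI : IsIso (σ₂.resLE U₂ (σ₂ ⁻¹ᵁ U₂) le_rfl) := by
        have : σ₂.resLE U₂ (σ₂ ⁻¹ᵁ U₂) le_rfl = σ₂ ∣_ U₂ := by
          simp [Scheme.Hom.resLE]
        rw [this]
        exact Groth.Agent.LD.QC.IsBlowUp.isIso_restrict_compl hσ₂
      haveI := hpb.isIso_fst_of_isIso
      have hfac : UY.ι ≫ p₁ = p₁.resLE (σ₁ ⁻¹ᵁ U₂) UY (by simp [UY]) ≫ (σ₁ ⁻¹ᵁ U₂).ι :=
        (Scheme.Hom.resLE_comp_ι _ _).symm
      haveI : IsOpenImmersion (UY.ι ≫ p₁) := by rw [hfac]; infer_instance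
      rw [← Scheme.IdealSheafData.comap_comp, ← Category.assoc, Scheme.IdealSheafData.comap_comp]
      exact Groth.Agent.LD.QC.isEffCartierIdeal_comap_of_flat _ _ hσ₁.1
    · -- over the complement of the first centre the ideal is the unit ideal
      change BlowUp.IsEffCartierIdeal ((I₁.comap (p₁ ≫ σ₁)).comap ((p₁ ≫ σ₁) ⁻¹ᵁ U₁).ι)
      rw [← Scheme.IdealSheafData.comap_comp, ← morphismRestrict_ι, Scheme.IdealSheafData.comap_comp,
        Groth.Agent.LD.QC.comap_compl_support_eq_top, Scheme.IdealSheafData.comap_top]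
      exact Groth.Agent.LD.QC.isEffCartierIdeal_top

theorem S17083_main (hdisj : I₁ ⊔ I₂ = ⊤) (hσ : BlowUp.IsBlowUp σ (I₁ ⊓ I₂))
    (hσ₁ : BlowUp.IsBlowUp σ₁ I₁) (hσ₂ : BlowUp.IsBlowUp σ₂ I₂) :
    ∃ ι : B ⟶ pullback σ₁ σ₂, IsClosedImmersion ι ∧ ι ≫ pullback.fst σ₁ σ₂ ≫ σ₁ = σ := by
  have hmul := inf_eq_mul_of_sup_eq_top hdisj
  rw [hmul] at hσ
  -- the two components
  have hB := hσ.1
  rw [Groth.Agent.LD.QC.comap_mul] at hB
  obtain ⟨q₁, hq₁, -⟩ := hσ₁.2 B σ (Groth.Agent.LD.QC.isEffCartierIdeal_of_mul_left _ _ hB)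
  obtain ⟨q₂, hq₂, -⟩ := hσ₂.2 B σ (Groth.Agent.LD.QC.isEffCartierIdeal_of_mul_right _ _ hB)
  let ι : B ⟶ pullback σ₁ σ₂ := pullback.lift q₁ q₂ (hq₁.trans hq₂.symm)
  have hι₁ : ι ≫ pullback.fst σ₁ σ₂ = q₁ := pullback.lift_fst _ _ _
  have hι₂ : ι ≫ pullback.snd σ₁ σ₂ = q₂ := pullback.lift_snd _ _ _
  have hισ : ι ≫ pullback.fst σ₁ σ₂ ≫ σ₁ = σ := by rw [← Category.assoc, hι₁, hq₁]
  -- the inverse
  have H := IsPullback.of_hasPullback σ₁ σ₂
  have hP₁ := isEffCartier_comap_of_isPullback hdisj hσ₁ hσ₂ H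
  have hP₂ := isEffCartier_comap_of_isPullback (by rw [sup_comm]; exact hdisj) hσ₂ hσ₁ H.flip
  have hP₂' : BlowUp.IsEffCartierIdeal (I₂.comap (pullback.fst σ₁ σ₂ ≫ σ₁)) := by
    rw [pullback.condition]; exact hP₂
  have hP : BlowUp.IsEffCartierIdeal ((I₁ * I₂).comap (pullback.fst σ₁ σ₂ ≫ σ₁)) := by
    rw [Groth.Agent.LD.QC.comap_mul]
    exact Groth.Agent.LD.QC.isEffCartierIdeal_mul _ _ hP₁ hP₂'
  obtain ⟨r, hr, -⟩ := hσ.2 _ _ hP
  have h1 : ι ≫ r = 𝟙 B := by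
    apply Groth.Agent.LD.QC.IsBlowUp.hom_ext hσ
    · rw [Category.assoc, hr, hισ]; exact hσ.1
    · rw [Category.assoc, hr, hισ, Category.id_comp]
  have h2 : r ≫ ι = 𝟙 _ := by
    apply pullback.hom_ext
    · rw [Category.assoc, hι₁, Category.id_comp]
      apply Groth.Agent.LD.QC.IsBlowUp.hom_ext hσ₁
      · rw [Category.assoc, hq₁, hr]; exact hP₁
      · rw [Category.assoc, hq₁, hr]
    · rw [Category.assoc, hι₂, Category.id_comp]
      apply Groth.Agent.LD.QC.IsBlowUp.hom_ext hσ₂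
      · rw [Category.assoc, hq₂, hr, pullback.condition]; exact hP₂
      · rw [Category.assoc, hq₂, hr, pullback.condition]
  haveI : IsIso ι := ⟨r, h1, h2⟩
  exact ⟨ι, inferInstance, hισ⟩

end DJ

end Groth.Agent.H9.BLA
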