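import Mathlib
import Groth.Prelude.Def_BlowUp2
import Groth.Agent.Lib.Lead.QC.BlowUpMul
import Groth.Agent.Lib.Lead.QC.CartierBC
import Groth.Agent.Lib.Lead.QC.IdealComap

/-! Helper9: strict transforms avoid the charts of the blow-up generated by sections of their own ideal (S17393, S17386). -/

set_option linter.style.haveILetI false
set_option linter.unusedSectionVars false
set_option linter.unusedVariables false

universe u
open CategoryTheory Limits AlgebraicGeometry TopologicalSpace Opposite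

namespace Groth.Agent.H9.BLA

section ST
variable {X X' Yt : Scheme.{u}}

/-- an effective Cartier ideal is not generated by `0` on an affine open neighbourhood of a point. -/
theorem IsEffCartierIdeal.ideal_ne_bot {Y : Scheme.{u}} (E : Y.IdealSheafData)
    (hE : BlowUp.IsEffCartierIdeal E) (y : Y) (W : Y.affineOpens) (hy : y ∈ W.1) :
    E.ideal W ≠ ⊥ := by
  intro h0
  obtain ⟨W', hyW', hW'W, t, ht, hEt⟩ :=
    Groth.Agent.LD.QC.exists_affine_principal_le E hE y W.1 hy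
  have h1 := E.map_ideal (U := W') (V := W) hW'W
  rw [h0, Ideal.map_bot, hEt] at h1
  have ht0 : t = 0 := by
    have : t ∈ (⊥ : Ideal Γ(Y, W'.1)) := h1 ▸ Ideal.mem_span_singleton_self t
    simpa using this
  rw [ht0] at ht
  have hsub : Subsingleton Γ(Y, W'.1) := by
    by_contra hne
    rw [not_subsingleton_iff_nontrivial] at hne
    exact zero_notMem_nonZeroDivisors ht
  have hbot : W'.1 = ⊥ := by
    have h1 : Y.basicOpen (1 : Γ(Y, W'.1)) = W'.1 := Scheme.basicOpen_of_isUnit _ isUnit_one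
    have h2 : Y.basicOpen (0 : Γ(Y, W'.1)) = ⊥ := Scheme.basicOpen_zero _ _
    rw [← h1, Subsingleton.elim (1 : Γ(Y, W'.1)) 0, h2]
  rw [hbot] at hyW'
  exact hyW'

/-- a section of `𝓘` dies on the blow-up of `V(𝓘)`. -/
theorem appLE_eq_zero_of_mem (𝓘 : X.IdealSheafData) (b' : Yt ⟶ 𝓘.subscheme)
    (g : Yt ⟶ X) (hg : g = b' ≫ 𝓘.subschemeι) (V : X.affineOpens) (s : Γ(X, V.1))
    (hs : s ∈ 𝓘.ideal V) (W : Yt.Opens) (e : W ≤ g ⁻¹ᵁ V.1) :
    (g.appLE V.1 W e).hom s = 0 := by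
  subst hg
  rw [Scheme.Hom.comp_appLE]
  have : (𝓘.subschemeι.app V.1).hom s = 0 := by
    have h := 𝓘.ker_subschemeι_app V
    have hs' : s ∈ RingHom.ker (𝓘.subschemeι.app V.1).hom := h ▸ hs
    exact hs'
  rw [CommRingCat.hom_comp, RingHom.comp_apply, this, map_zero]

/-- the strict transform of `V(𝓘)` in a blow-up of `𝓚` misses the locus where the inverse image
of `𝓚` is generated by a section of `𝓘`. -/
theorem strict_transform_ne_span (𝓘 𝓚 : X.IdealSheafData) (b : X' ⟶ X)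
    (b' : Yt ⟶ 𝓘.subscheme) (hb' : BlowUp.IsEffCartierIdeal ((𝓚.comap 𝓘.subschemeι).comap b'))
    (k : Yt ⟶ X') (hk : k ≫ b = b' ≫ 𝓘.subschemeι)
    (V : X.affineOpens) (s : Γ(X, V.1)) (hs : s ∈ 𝓘.ideal V)
    (V' : X'.affineOpens) (hV' : V'.1 ≤ b ⁻¹ᵁ V.1)
    (hmeet : (Set.range (fun y => k y) ∩ (V'.1 : Set X')).Nonempty) :
    (𝓚.comap b).ideal V' ≠ Ideal.span {(b.appLE V.1 V'.1 hV').hom s} := by
  intro hgen
  obtain ⟨_, ⟨y, rfl⟩, hyV'⟩ := hmeet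
  have hy : y ∈ k ⁻¹ᵁ V'.1 := hyV'
  obtain ⟨W, hW, hyW, hWle⟩ := exists_isAffineOpen_mem_and_subset (x := y) (U := k ⁻¹ᵁ V'.1) hy
  have hE : BlowUp.IsEffCartierIdeal ((𝓚.comap b).comap k) := by
    rw [← Scheme.IdealSheafData.comap_comp, hk, Scheme.IdealSheafData.comap_comp]
    exact hb'
  refine IsEffCartierIdeal.ideal_ne_bot _ hE y ⟨W, hW⟩ hyW ?_
  rw [Groth.Agent.LD.QC.ideal_comap_of_le _ k V' ⟨W, hW⟩ hWle, hgen, Ideal.map_span,
    Set.image_singleton]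
  have h0 : (k.appLE V'.1 W hWle).hom ((b.appLE V.1 V'.1 hV').hom s) = 0 := by
    rw [← RingHom.comp_apply, ← CommRingCat.hom_comp, Scheme.Hom.appLE_comp_appLE]
    exact appLE_eq_zero_of_mem 𝓘 b' (k ≫ b) hk V s hs W _
  rw [h0]
  simp

theorem S17393_main (𝓘 𝓘' : X.IdealSheafData) (b : X' ⟶ X)
    (b' : Yt ⟶ 𝓘.subscheme) (hb' : BlowUp.IsBlowUp b' ((𝓘 ⊔ 𝓘').comap 𝓘.subschemeι))
    (k : Yt ⟶ X') (hk : k ≫ b = b' ≫ 𝓘.subschemeι)
    (V : X.affineOpens) (s : Γ(X, V.1)) (hs : s ∈ 𝓘.ideal V)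
    (V' : X'.affineOpens) (hV' : V'.1 ≤ b ⁻¹ᵁ V.1)
    (hmeet : (Set.range (fun y => k y) ∩ (V'.1 : Set X')).Nonempty) :
    ((𝓘 ⊔ 𝓘').comap b).ideal V' ≠ Ideal.span {(b.appLE V.1 V'.1 hV').hom s} :=
  strict_transform_ne_span 𝓘 (𝓘 ⊔ 𝓘') b b' hb'.1 k hk V s hs V' hV' hmeet

/-- locally on a blow-up of `⨆ 𝓙 i` the inverse image ideal is generated by a section of one
of the `𝓙 i`. -/
theorem exists_gen_of_iSup {ι : Type*} (𝓙 : ι → X.IdealSheafData) (b : X' ⟶ X)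
    (hE : BlowUp.IsEffCartierIdeal ((⨆ i, 𝓙 i).comap b)) (x' : X') :
    ∃ (i : ι) (V : X.affineOpens) (s : Γ(X, V.1)) (_ : s ∈ (𝓙 i).ideal V)
      (V' : X'.affineOpens) (hV' : V'.1 ≤ b ⁻¹ᵁ V.1), x' ∈ V'.1 ∧
      ((⨆ i, 𝓙 i).comap b).ideal V' = Ideal.span {(b.appLE V.1 V'.1 hV').hom s} := by
  obtain ⟨V, hV, hxV, -⟩ := exists_isAffineOpen_mem_and_subset (x := b x') (U := (⊤ : X.Opens))
    (Set.mem_univ _)
  obtain ⟨U, hxU, hUle, t, ht, hEt⟩ :=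
    Groth.Agent.LD.QC.exists_affine_principal_le _ hE x' (b ⁻¹ᵁ V) hxV
  have hEU := Groth.Agent.LD.QC.ideal_comap_of_le (⨆ i, 𝓙 i) b ⟨V, hV⟩ U hUle
  set φ := (b.appLE V U.1 hUle).hom with hφ
  have hK : (⨆ i, 𝓙 i).ideal ⟨V, hV⟩ = ⨆ i, (𝓙 i).ideal ⟨V, hV⟩ := by
    rw [Scheme.IdealSheafData.ideal_iSup, iSup_apply]
  rw [hEt, hK, Ideal.map_iSup] at hEU
  let S : Set Γ(X', U.1) := {d | ∃ i, ∃ x ∈ (𝓙 i).ideal ⟨V, hV⟩, φ x = t * d}
  have hS : Ideal.span S = ⊤ := by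
    have h1 : (⨆ i, Ideal.map φ ((𝓙 i).ideal ⟨V, hV⟩)) ≤ Ideal.span {t} * Ideal.span S := by
      refine iSup_le fun i => ?_
      rw [Ideal.map_le_iff_le_comap]
      intro x hx
      rw [Ideal.mem_comap]
      have hx' : φ x ∈ Ideal.span {t} := by
        rw [hEU]
        exact (le_iSup (fun i => Ideal.map φ ((𝓙 i).ideal ⟨V, hV⟩)) i) (Ideal.mem_map_of_mem φ hx)
      obtain ⟨d, hd⟩ := Ideal.mem_span_singleton'.mp hx'
      have hxd : φ x = t * d := by rw [← hd, mul_comm]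
      rw [hxd]
      exact Ideal.mul_mem_mul (Ideal.mem_span_singleton_self t) (Ideal.subset_span ⟨i, x, hx, hxd⟩)
    have h2 : t ∈ Ideal.span {t} * Ideal.span S := h1 (hEU ▸ Ideal.mem_span_singleton_self t)
    obtain ⟨σ, hσ, hσt⟩ := Ideal.mem_span_singleton_mul.mp h2
    have h3 : (σ - 1) * t = 0 := by rw [sub_mul, one_mul, mul_comm, hσt, sub_self]
    have h4 : σ - 1 = 0 := (mem_nonZeroDivisors_iff_right.mp ht) _ h3
    rw [sub_eq_zero] at h4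
    rw [Ideal.eq_top_iff_one, ← h4]
    exact hσ
  obtain ⟨d, hdS, hxd⟩ : ∃ d ∈ S, x' ∈ X'.basicOpen d := by
    by_contra hcon
    push Not at hcon
    let 𝔪 : Ideal Γ(X', U.1) :=
      (IsLocalRing.maximalIdeal (X'.presheaf.stalk x')).comap (X'.presheaf.germ U.1 x' hxU).hom
    have hle : Ideal.span S ≤ 𝔪 := by
      rw [Ideal.span_le]
      intro d hd
      have := hcon d hd
      rw [Scheme.mem_basicOpen _ _ x' hxU] at this
      exact this
    rw [hS] at hle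
    have h1 : (1 : Γ(X', U.1)) ∈ 𝔪 := hle trivial
    have h1' : (X'.presheaf.germ U.1 x' hxU).hom 1 ∈
        IsLocalRing.maximalIdeal (X'.presheaf.stalk x') := h1
    rw [map_one] at h1'
    exact (IsLocalRing.maximalIdeal (X'.presheaf.stalk x')).ne_top_iff_one.mp
      (IsLocalRing.maximalIdeal.isMaximal _).ne_top h1'
  obtain ⟨i, s, hs, hsd⟩ := hdS
  have hWU : X'.basicOpen d ≤ U.1 := X'.basicOpen_le d
  have hW : IsAffineOpen (X'.basicOpen d) := U.2.basicOpen d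
  refine ⟨i, ⟨V, hV⟩, s, hs, ⟨X'.basicOpen d, hW⟩, hWU.trans hUle, hxd, ?_⟩
  have hu : IsUnit ((X'.presheaf.map (homOfLE hWU).op).hom d) :=
    X'.toRingedSpace.isUnit_res_basicOpen d
  have hres := ((⨆ i, 𝓙 i).comap b).map_ideal (U := ⟨X'.basicOpen d, hW⟩) (V := U) hWU
  have happ : (b.appLE V (X'.basicOpen d) (hWU.trans hUle)).hom s =
      (X'.presheaf.map (homOfLE hWU).op).hom (φ s) := by
    rw [hφ, ← RingHom.comp_apply, ← CommRingCat.hom_comp, Scheme.Hom.appLE_map]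
  rw [← hres, hEt, Ideal.map_span, Set.image_singleton, happ, hsd, map_mul,
    Ideal.span_singleton_mul_right_unit hu]
  rfl

theorem S17386_main {n : ℕ} (𝓙 : Fin n → X.IdealSheafData) (b : X' ⟶ X)
    (hb : BlowUp.IsBlowUp b (⨆ i, 𝓙 i))
    (Y' : Fin n → Scheme.{u}) (b' : ∀ i, Y' i ⟶ (𝓙 i).subscheme)
    (hb' : ∀ i, BlowUp.IsBlowUp (b' i) ((⨆ j, 𝓙 j).comap (𝓙 i).subschemeι))
    (k : ∀ i, Y' i ⟶ X') (hk : ∀ i, k i ≫ b = b' i ≫ (𝓙 i).subschemeι) :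
    (⋂ i, Set.range (fun y => k i y)) = (∅ : Set X') := by
  rw [Set.eq_empty_iff_forall_notMem]
  intro x' hx'
  obtain ⟨i, V, s, hs, V', hV', hxV', hgen⟩ := exists_gen_of_iSup 𝓙 b hb.1 x'
  have hmeet : (Set.range (fun y => k i y) ∩ (V'.1 : Set X')).Nonempty :=
    ⟨x', Set.mem_iInter.mp hx' i, hxV'⟩
  exact strict_transform_ne_span (𝓙 i) (⨆ j, 𝓙 j) b (b' i) (hb' i).1 (k i) (hk i) V s hs V' hV'
    hmeet hgen

end ST

end Groth.Agent.H9.BLA
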