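import Mathlib
import Groth.Agent.Lib.Helper9.Misc.BLA21
import Groth.Agent.Lib.Helper9.Misc.BLA18

/-! Helper9: separating disjoint closed constructible subsets of a quasi-compact open by an
admissible blow-up (S1279, Stacks 080P (2)). -/

set_option linter.style.haveILetI false
set_option linter.unusedSectionVars false
set_option linter.unusedVariables false

universe u
open CategoryTheory Limits AlgebraicGeometry TopologicalSpace Opposite Topology

namespace Groth.Agent.H9.BLA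

open Groth.Agent.LD Groth.Agent.LD.QC

section Cons

/-- in a quasi-compact quasi-separated scheme, constructible subsets are quasi-compact. -/
theorem isCompact_of_isConstructible (Y : Scheme.{u}) [CompactSpace Y] [QuasiSeparatedSpace Y]
    {s : Set Y} (hs : IsConstructible s) : IsCompact s := by
  haveI : Nonempty Y.affineOpens := ⟨⟨⊥, isAffineOpen_bot Y⟩⟩
  have hbasis : IsTopologicalBasis (Set.range fun V : Y.affineOpens => ((V : Y.Opens) : Set Y)) := by
    have h := Y.isBasis_affineOpens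
    rw [Opens.isBasis_iff_nbhd] at h
    refine isTopologicalBasis_of_isOpen_of_nhds ?_ ?_
    · rintro _ ⟨V, rfl⟩; exact V.1.2
    · intro a u ha hu
      obtain ⟨V, hV, haV, hVu⟩ := h (U := ⟨u, hu⟩) ha
      exact ⟨V, ⟨⟨V, hV⟩, rfl⟩, haV, hVu⟩
  induction s, hs using IsConstructible.induction_of_isTopologicalBasis
      (fun V : Y.affineOpens => ((V : Y.Opens) : Set Y)) hbasis (fun V => V.2.isCompact) with
  | sdiff i s hs =>
    have hcl : IsClosed (⋃ j ∈ s, ((j : Y.Opens) : Set Y))ᶜ :=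
      (isOpen_biUnion fun j _ => j.1.2).isClosed_compl
    rw [Set.sdiff_eq]
    exact i.2.isCompact.inter_right hcl
  | union s hs t ht hs' ht' => exact hs'.union ht'

end Cons

section Sep
variable {X : Scheme.{u}}

/-- a closed constructible subset of a quasi-compact open `U` of a qcqs scheme is cut out in `U`
by a finite type ideal sheaf on the whole scheme. -/
theorem exists_ft_ideal_of_closed_constructible [CompactSpace X] [QuasiSeparatedSpace X]
    (U : X.Opens) (hU : IsCompact (U : Set X)) (T : Set U) (hT : IsClosed T)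
    (cT : IsConstructible T) :
    ∃ 𝓘 : X.IdealSheafData, BlowUp.IsFiniteTypeIdeal 𝓘 ∧
      (𝓘.support : Set X) ∩ (U : Set X) = Subtype.val '' T := by
  haveI : CompactSpace (U : Scheme.{u}) := isCompact_iff_compactSpace.mp hU
  haveI : QuasiSeparatedSpace (U : Scheme.{u}) := U.ι.isOpenEmbedding.quasiSeparatedSpace
  have hc : IsCompact (Tᶜ : Set U) := isCompact_of_isConstructible (U : Scheme.{u}) cT.compl
  let O : X.Opens := ⟨Subtype.val '' Tᶜ, U.2.isOpenMap_subtype_val _ hT.isOpen_compl⟩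
  have hO : IsCompact (O : Set X) := hc.image continuous_subtype_val
  let Z : Closeds X := ⟨closure (Subtype.val '' T), isClosed_closure⟩
  have hdisj : ∀ W : X.affineOpens, W.1 ≤ O → Disjoint (W.1 : Set X) (Z : Set X) := by
    intro W hW
    rw [Set.disjoint_left]
    intro z hzW hzZ
    obtain ⟨w, hwT, hwW⟩ := mem_closure_iff.mp hzZ W.1 W.1.2 hzW
    obtain ⟨t, ht, rfl⟩ := hwW
    obtain ⟨t', ht', hE⟩ := hW hwT
    have : t' = t := Subtype.ext hE
    exact ht' (this ▸ ht)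
  have htop : ∀ W : X.affineOpens, W.1 ≤ O →
      (Scheme.IdealSheafData.vanishingIdeal Z).ideal W = ⊤ := fun W hW =>
    vanishingIdeal_ideal_eq_top Z W (hdisj W hW)
  obtain ⟨𝓘, hft, hle, hag⟩ := exists_ft_le_agree (Scheme.IdealSheafData.vanishingIdeal Z) O hO
    (fun W hW => by rw [htop W hW]; exact ⟨{1}, by simp⟩)
  refine ⟨𝓘, hft, ?_⟩
  have h1 : Z ≤ 𝓘.support := Scheme.IdealSheafData.le_support_iff_le_vanishingIdeal.mpr hle
  have h2 : Disjoint (𝓘.support : Set X) (O : Set X) :=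
    disjoint_support_of_forall_ideal_eq_top 𝓘 O (fun W hW => by rw [hag W hW, htop W hW])
  ext x
  constructor
  · rintro ⟨hxs, hxU⟩
    by_contra hx
    exact Set.disjoint_left.mp h2 hxs ⟨⟨x, hxU⟩, fun hT' => hx ⟨_, hT', rfl⟩, rfl⟩
  · rintro ⟨t, ht, rfl⟩
    exact ⟨h1 (subset_closure ⟨t, ht, rfl⟩), t.2⟩

/-- points over `V(𝓙) ∖ V(𝓘)` lie in the strict transform of `V(𝓙)`. -/
theorem mem_range_strictι {X' : Scheme.{u}} (𝓘 𝓙 : X.IdealSheafData) (b : X' ⟶ X)
    (hE : BlowUp.IsEffCartierIdeal (𝓘.comap b)) (x' : X') (h𝓙 : b x' ∈ 𝓙.support)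
    (h𝓘 : b x' ∉ 𝓘.support) : x' ∈ Set.range (strictι 𝓘 𝓙 b) := by
  haveI := isAffineHom_excCompl_ι hE
  rw [Scheme.IdealSheafData.range_subschemeι]
  change x' ∈ (strictIdeal 𝓘 𝓙 b).support
  unfold strictIdeal
  rw [Scheme.IdealSheafData.support_map]
  have hx' : x' ∈ excCompl 𝓘 b := by
    change x' ∉ (𝓘.comap b).support
    rw [Scheme.IdealSheafData.support_comap]
    exact h𝓘
  refine subset_closure ⟨⟨x', hx'⟩, ?_, rfl⟩
  change (⟨x', hx'⟩ : excCompl 𝓘 b) ∈ ((𝓙.comap b).comap (excCompl 𝓘 b).ι).support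
  rw [Scheme.IdealSheafData.support_comap, Scheme.IdealSheafData.support_comap]
  exact h𝓙

/-- **S1279** (Stacks 080P (2)). -/
theorem S1279_main [CompactSpace X] [QuasiSeparatedSpace X]
    (U : X.Opens) (hU : IsCompact (U : Set X)) (T₁ T₂ : Set U)
    (h₁ : IsClosed T₁) (h₂ : IsClosed T₂) (c₁ : IsConstructible T₁) (c₂ : IsConstructible T₂)
    (hd : Disjoint T₁ T₂) :
    ∃ (𝓘 : X.IdealSheafData) (X' : Scheme.{u}) (b : X' ⟶ X), BlowUp.IsBlowUp b 𝓘 ∧
      BlowUp.IsAdmissibleFor U 𝓘 ∧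
      Disjoint (closure (b.base ⁻¹' (Subtype.val '' T₁)))
        (closure (b.base ⁻¹' (Subtype.val '' T₂))) := by
  obtain ⟨𝓘₁, hft₁, hs₁⟩ := exists_ft_ideal_of_closed_constructible U hU T₁ h₁ c₁
  obtain ⟨𝓘₂, hft₂, hs₂⟩ := exists_ft_ideal_of_closed_constructible U hU T₂ h₂ c₂
  let 𝓙 : Fin 2 → X.IdealSheafData := ![𝓘₁, 𝓘₂]
  have hsup : (⨆ i, 𝓙 i) = 𝓘₁ ⊔ 𝓘₂ := by
    apply le_antisymm
    · refine iSup_le fun i => ?_
      fin_cases i
      · exact le_sup_left
      · exact le_sup_right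
    · exact sup_le (le_iSup 𝓙 0) (le_iSup 𝓙 1)
  obtain ⟨X', b, hb⟩ := exists_isBlowUp X (⨆ i, 𝓙 i)
  have hadm : Disjoint ((⨆ i, 𝓙 i).support : Set X) (U : Set X) := by
    rw [hsup, Scheme.IdealSheafData.support_sup, Set.disjoint_left]
    rintro x ⟨hx₁, hx₂⟩ hxU
    have m₁ : x ∈ Subtype.val '' T₁ := hs₁ ▸ ⟨hx₁, hxU⟩
    have m₂ : x ∈ Subtype.val '' T₂ := hs₂ ▸ ⟨hx₂, hxU⟩
    obtain ⟨t₁, ht₁, e₁⟩ := m₁
    obtain ⟨t₂, ht₂, e₂⟩ := m₂
    have : t₁ = t₂ := Subtype.ext (e₁.trans e₂.symm)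
    exact Set.disjoint_left.mp hd ht₁ (this ▸ ht₂)
  refine ⟨⨆ i, 𝓙 i, X', b, hb, ⟨?_, hadm⟩, ?_⟩
  · rw [hsup]; exact isFiniteTypeIdeal_sup hft₁ hft₂
  · have hT : ∀ i : Fin 2, ∃ T : Set U, (𝓙 i).support.1 ∩ (U : Set X) = Subtype.val '' T ∧
        (T = T₁ ∧ i = 0 ∨ T = T₂ ∧ i = 1) := by
      intro i
      fin_cases i
      · exact ⟨T₁, hs₁, Or.inl ⟨rfl, rfl⟩⟩
      · exact ⟨T₂, hs₂, Or.inr ⟨rfl, rfl⟩⟩
    have key : ∀ (i : Fin 2) (T : Set U), (𝓙 i).support.1 ∩ (U : Set X) = Subtype.val '' T →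
        closure (b.base ⁻¹' (Subtype.val '' T)) ⊆
          Set.range (strictι (⨆ j, 𝓙 j) (𝓙 i) b) := by
      intro i T hT
      have hcl : IsClosed (Set.range (strictι (⨆ j, 𝓙 j) (𝓙 i) b)) := by
        rw [Scheme.IdealSheafData.range_subschemeι]
        exact (strictIdeal (⨆ j, 𝓙 j) (𝓙 i) b).support.isClosed
      refine closure_minimal ?_ hcl
      intro x' hx'
      have hx'' : b x' ∈ Subtype.val '' T := hx'
      rw [← hT] at hx''
      exact mem_range_strictι _ _ b hb.1 x' hx''.1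
        (fun h => Set.disjoint_left.mp hadm h hx''.2)
    have hempty := S17386_main 𝓙 b hb (fun i => strictT (⨆ j, 𝓙 j) (𝓙 i) b)
      (fun i => strictc (⨆ j, 𝓙 j) (𝓙 i) b) (fun i => isBlowUp_strictc (𝓙 i) hb)
      (fun i => strictι (⨆ j, 𝓙 j) (𝓙 i) b) (fun i => (strictc_ι _ _ _).symm)
    rw [Set.disjoint_left]
    intro x' hx₁ hx₂
    have m₁ := key 0 T₁ hs₁ hx₁
    have m₂ := key 1 T₂ hs₂ hx₂
    have : x' ∈ ⋂ i, Set.range (fun y => strictι (⨆ j, 𝓙 j) (𝓙 i) b y) := by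
      rw [Set.mem_iInter]
      intro i
      fin_cases i
      · exact m₁
      · exact m₂
    rw [hempty] at this
    exact this

end Sep

end Groth.Agent.H9.BLA
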