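import Mathlib
import Groth.Agent.Lib.Helper9.Misc.BLA22

/-! Helper9: a separation lemma for blow-ups in a sum of two ideals (core of Conrad/Deligne's
lemmas on Nagata compactification: S17391, S17889, S17392). -/

set_option linter.style.haveILetI false
set_option linter.unusedSectionVars false
set_option linter.unusedVariables false

universe u
open CategoryTheory Limits AlgebraicGeometry TopologicalSpace Opposite Topology

namespace Groth.Agent.H9.BLA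

open Groth.Agent.LD Groth.Agent.LD.QC

section Core
variable {X X' Z Z' : Scheme.{u}}

theorem appLE_eq_of_eq {Y T : Scheme.{u}} {f g : Y ⟶ T} (h : f = g) (U : T.Opens) (V : Y.Opens)
    (e : V ≤ f ⁻¹ᵁ U) (e' : V ≤ g ⁻¹ᵁ U) : f.appLE U V e = g.appLE U V e' := by
  subst h; rfl

/-- the strict transform hypothesis needed for `strict_transform_ne_span`. -/
theorem isEffCartier_comap_strictc (𝓘 𝓙 : X.IdealSheafData) (b : X' ⟶ X)
    (hE : BlowUp.IsEffCartierIdeal (𝓘.comap b)) :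
    BlowUp.IsEffCartierIdeal ((𝓘.comap 𝓙.subschemeι).comap (strictc 𝓘 𝓙 b)) := by
  rw [← Scheme.IdealSheafData.comap_comp, strictc_ι, Scheme.IdealSheafData.comap_comp]
  exact isEffCartier_comap_strictι 𝓙 hE

/-- a point of the support lies outside the basic opens of sections of the ideal. -/
theorem notMem_basicOpen_of_mem_support (𝓘 : X.IdealSheafData) (W : X.affineOpens) (x : X)
    (hxW : x ∈ W.1) (hx : x ∈ 𝓘.support) (s : Γ(X, W.1)) (hs : s ∈ 𝓘.ideal W) :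
    x ∉ X.basicOpen s := by
  rw [Scheme.IdealSheafData.mem_support_iff_of_mem (U := W) hxW, Scheme.mem_zeroLocus_iff] at hx
  exact hx s hs

/-- a point outside the support lies in the basic open of a generator. -/
theorem mem_basicOpen_of_notMem_support (𝓘 : X.IdealSheafData) (W : X.affineOpens) (x : X)
    (hxW : x ∈ W.1) (hx : x ∉ 𝓘.support) (t : Γ(X, W.1)) (ht : 𝓘.ideal W = Ideal.span {t}) :
    x ∈ X.basicOpen t := by
  rw [Scheme.IdealSheafData.mem_support_iff_of_mem (U := W) hxW, ht, Scheme.zeroLocus_span,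
    Scheme.mem_zeroLocus_iff] at hx
  by_contra h
  exact hx (fun f hf => by rw [Set.mem_singleton_iff.mp hf]; exact h)

/-- on the strict transform of `V(𝓘₁)` in a blow-up of `𝓘`, sections of `𝓘₁` are multiples of a
local generator of `𝓘·O` by a function vanishing at the point. -/
theorem notMem_basicOpen_of_strict (𝓘₁ 𝓘 : X.IdealSheafData) (h𝓘₁ : 𝓘₁ ≤ 𝓘) (q : X' ⟶ X)
    (hE : BlowUp.IsEffCartierIdeal (𝓘.comap q)) (x' : X')
    (hx' : x' ∈ Set.range (strictι 𝓘 𝓘₁ q))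
    (A : X.affineOpens) (A' : X'.affineOpens) (hA' : A'.1 ≤ q ⁻¹ᵁ A.1) (hx'A' : x' ∈ A'.1)
    (t : Γ(X', A'.1)) (ht : (𝓘.comap q).ideal A' = Ideal.span {t})
    (s₁ : Γ(X, A.1)) (hs₁ : s₁ ∈ 𝓘₁.ideal A) (r : Γ(X', A'.1))
    (hr : (q.appLE A.1 A'.1 hA').hom s₁ = r * t) : x' ∉ X'.basicOpen r := by
  intro hxr
  have hWU : X'.basicOpen r ≤ A'.1 := X'.basicOpen_le r
  have hW : IsAffineOpen (X'.basicOpen r) := A'.2.basicOpen r
  have hu : IsUnit ((X'.presheaf.map (homOfLE hWU).op).hom r) :=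
    X'.toRingedSpace.isUnit_res_basicOpen r
  have hres := (𝓘.comap q).map_ideal (U := ⟨X'.basicOpen r, hW⟩) (V := A') hWU
  have happ : (q.appLE A.1 (X'.basicOpen r) (hWU.trans hA')).hom s₁ =
      (X'.presheaf.map (homOfLE hWU).op).hom ((q.appLE A.1 A'.1 hA').hom s₁) := by
    rw [← RingHom.comp_apply, ← CommRingCat.hom_comp, Scheme.Hom.appLE_map]
  have hgen : (𝓘.comap q).ideal ⟨X'.basicOpen r, hW⟩ =
      Ideal.span {(q.appLE A.1 (X'.basicOpen r) (hWU.trans hA')).hom s₁} := by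
    rw [← hres, ht, Ideal.map_span, Set.image_singleton, happ, hr, map_mul, mul_comm,
      Ideal.span_singleton_mul_right_unit hu]
    rfl
  obtain ⟨y, hy⟩ := hx'
  exact strict_transform_ne_span 𝓘₁ 𝓘 q (strictc 𝓘 𝓘₁ q) (isEffCartier_comap_strictc 𝓘 𝓘₁ q hE)
    (strictι 𝓘 𝓘₁ q) (strictc_ι 𝓘 𝓘₁ q).symm A s₁ hs₁ ⟨X'.basicOpen r, hW⟩ (hWU.trans hA')
    ⟨x', ⟨y, hy⟩, hxr⟩ hgen

/-- **core separation lemma.** Let `q : X' ⟶ X` be such that `(𝓘₁ ⊔ 𝓘₂)·O_{X'}` is an effective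
Cartier divisor, and consider a commutative square `fst ≫ p = snd ≫ q`. If
`𝓘₂·O_Z ≤ 𝓘₁·O_Z + 𝓑` and `S ⊆ Z'` lies over `V(𝓑)` and away from `V(𝓘₁ + 𝓘₂)`, then the closure
of `S` does not meet the preimage of the strict transform of `V(𝓘₁)`. -/
theorem core_disjoint (𝓘₁ 𝓘₂ : X.IdealSheafData) (p : Z ⟶ X) (q : X' ⟶ X)
    (hE : BlowUp.IsEffCartierIdeal ((𝓘₁ ⊔ 𝓘₂).comap q))
    (fst : Z' ⟶ Z) (snd : Z' ⟶ X') (hsq : fst ≫ p = snd ≫ q)
    (𝓑 : Z.IdealSheafData) (hincl : 𝓘₂.comap p ≤ 𝓘₁.comap p ⊔ 𝓑)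
    (S : Set Z') (hS𝓑 : ∀ w ∈ S, fst w ∈ 𝓑.support)
    (hS𝓘 : ∀ w ∈ S, q (snd w) ∉ (𝓘₁ ⊔ 𝓘₂).support) :
    Disjoint (closure S) (snd ⁻¹' Set.range (strictι (𝓘₁ ⊔ 𝓘₂) 𝓘₁ q)) := by
  rw [Set.disjoint_left]
  intro z' hz'S hz'T
  set 𝓘 : X.IdealSheafData := 𝓘₁ ⊔ 𝓘₂ with h𝓘
  have hx'T : snd z' ∈ Set.range (strictι 𝓘 𝓘₁ q) := hz'T
  -- charts on `X` and `X'`
  let 𝓙 : Bool → X.IdealSheafData := fun b => if b then 𝓘₁ else 𝓘₂
  have h𝓙 : (⨆ b, 𝓙 b) = 𝓘 := by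
    rw [iSup_bool_eq]
    rfl
  have hE' : BlowUp.IsEffCartierIdeal ((⨆ b, 𝓙 b).comap q) := by rw [h𝓙]; exact hE
  obtain ⟨i, A, s, hs, A', hA', hx'A', hgen⟩ := exists_gen_of_iSup 𝓙 q hE' (snd z')
  rw [h𝓙] at hgen
  have hi : i = false := by
    cases i
    · rfl
    · exfalso
      obtain ⟨y, hy⟩ := hx'T
      exact strict_transform_ne_span 𝓘₁ 𝓘 q (strictc 𝓘 𝓘₁ q)
        (isEffCartier_comap_strictc 𝓘 𝓘₁ q hE) (strictι 𝓘 𝓘₁ q) (strictc_ι 𝓘 𝓘₁ q).symm A s hs A'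
        hA' ⟨snd z', ⟨y, hy⟩, hx'A'⟩ hgen
  subst hi
  have hs₂ : s ∈ 𝓘₂.ideal A := hs
  set φ := (q.appLE A.1 A'.1 hA').hom with hφ
  set t := φ s with ht
  -- charts on `Z` and `Z'`
  have hzA : p (fst z') ∈ A.1 := by
    have h1 : p (fst z') = q (snd z') := by
      have := congr($(hsq) z')
      exact this
    rw [h1]
    exact hA' hx'A'
  obtain ⟨B, hB, hzB, hBle⟩ := exists_isAffineOpen_mem_and_subset (x := fst z')
    (U := p ⁻¹ᵁ A.1) hzA
  obtain ⟨N, hN, hzN, hNle⟩ := exists_isAffineOpen_mem_and_subset (x := z')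
    (U := fst ⁻¹ᵁ B ⊓ snd ⁻¹ᵁ A'.1) ⟨hzB, hx'A'⟩
  have hNB : N ≤ fst ⁻¹ᵁ B := fun w hw => (hNle hw).1
  have hNA' : N ≤ snd ⁻¹ᵁ A'.1 := fun w hw => (hNle hw).2
  set ψ := (p.appLE A.1 B hBle).hom with hψ
  set χ := (fst.appLE B N hNB).hom with hχ
  set ω := (snd.appLE A'.1 N hNA').hom with hω
  have hcomm : ∀ y : Γ(X, A.1), χ (ψ y) = ω (φ y) := by
    intro y
    have h1 : χ (ψ y) = ((fst ≫ p).appLE A.1 N (fun w hw => hBle (hNB hw))).hom y := by
      rw [hχ, hψ, ← RingHom.comp_apply, ← CommRingCat.hom_comp, Scheme.Hom.appLE_comp_appLE]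
    have h2 : ω (φ y) = ((snd ≫ q).appLE A.1 N (fun w hw => hA' (hNA' hw))).hom y := by
      rw [hω, hφ, ← RingHom.comp_apply, ← CommRingCat.hom_comp, Scheme.Hom.appLE_comp_appLE]
    rw [h1, h2, appLE_eq_of_eq hsq]
  set a := ω t with ha
  -- the prime ideal of `z'` in `Γ(N)`
  let 𝔪 : Ideal Γ(Z', N) :=
    (IsLocalRing.maximalIdeal (Z'.presheaf.stalk z')).comap (Z'.presheaf.germ N z' hzN).hom
  have h𝔪 : ∀ c : Γ(Z', N), c ∈ 𝔪 ↔ z' ∉ Z'.basicOpen c := by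
    intro c
    rw [Scheme.mem_basicOpen _ _ z' hzN]
    exact Iff.rfl
  -- sections of `𝓘₁` map into `a · 𝔪`
  have hI₁ : Ideal.map (χ.comp ψ) (𝓘₁.ideal A) ≤ Ideal.span {a} * 𝔪 := by
    rw [Ideal.map_le_iff_le_comap]
    intro s₁ hs₁
    rw [Ideal.mem_comap, RingHom.comp_apply, hcomm]
    have hs₁' : φ s₁ ∈ Ideal.span {t} := by
      rw [← hgen, ideal_comap_of_le 𝓘 q A A' hA']
      exact Ideal.mem_map_of_mem _ ((le_sup_left : 𝓘₁ ≤ 𝓘) A hs₁)
    obtain ⟨r, hr⟩ := Ideal.mem_span_singleton'.mp hs₁'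
    have hxr := notMem_basicOpen_of_strict 𝓘₁ 𝓘 le_sup_left q hE (snd z') hx'T A A' hA' hx'A' t hgen
      s₁ hs₁ r hr.symm
    have hωr : ω (φ s₁) = a * ω r := by rw [← hr, map_mul, mul_comm]
    rw [hωr]
    refine Ideal.mul_mem_mul (Ideal.mem_span_singleton_self a) ?_
    rw [h𝔪, hω, Scheme.basicOpen_appLE]
    intro hcon
    exact hxr hcon.2
  -- decompose `ψ s`
  have hψs : ψ s ∈ Ideal.map ψ (𝓘₁.ideal A) ⊔ 𝓑.ideal ⟨B, hB⟩ := by
    have h1 : ψ s ∈ (𝓘₂.comap p).ideal ⟨B, hB⟩ := by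
      rw [ideal_comap_of_le 𝓘₂ p A ⟨B, hB⟩ hBle]
      exact Ideal.mem_map_of_mem _ hs₂
    have h2 := hincl ⟨B, hB⟩ h1
    rw [Scheme.IdealSheafData.ideal_sup] at h2
    change ψ s ∈ (𝓘₁.comap p).ideal ⟨B, hB⟩ ⊔ 𝓑.ideal ⟨B, hB⟩ at h2
    rwa [ideal_comap_of_le 𝓘₁ p A ⟨B, hB⟩ hBle] at h2
  obtain ⟨y, hy, k, hk, hyk⟩ := Submodule.mem_sup.mp hψs
  have hχy : χ y ∈ Ideal.span {a} * 𝔪 := by
    apply hI₁
    rw [← Ideal.map_map]
    exact Ideal.mem_map_of_mem _ hy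
  obtain ⟨c, hc, hac⟩ := Ideal.mem_span_singleton_mul.mp hχy
  have hkey : a * (1 - c) = χ k := by
    have h1 : a = χ y + χ k := by
      rw [ha, ht, ← hcomm, ← hyk, map_add]
    rw [mul_sub, mul_one, hac]
    rw [← hac] at h1 ⊢
    rw [sub_eq_iff_eq_add, add_comm]
    rw [hac]
    rw [hac] at h1
    exact h1
  -- `z'` lies in the basic open of `1 - c`
  have hz1 : z' ∈ Z'.basicOpen (1 - c) := by
    by_contra hcon
    have h1 : (1 - c) ∈ 𝔪 := (h𝔪 _).mpr hcon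
    have h2 : (1 : Γ(Z', N)) ∈ 𝔪 := by
      have := 𝔪.add_mem h1 hc
      rwa [sub_add_cancel] at this
    have h2' : (Z'.presheaf.germ N z' hzN).hom 1 ∈
        IsLocalRing.maximalIdeal (Z'.presheaf.stalk z') := h2
    rw [map_one] at h2'
    exact (IsLocalRing.maximalIdeal (Z'.presheaf.stalk z')).ne_top_iff_one.mp
      (IsLocalRing.maximalIdeal.isMaximal _).ne_top h2'
  obtain ⟨w, hw1, hwS⟩ := mem_closure_iff.mp hz'S _ (Z'.basicOpen (1 - c)).2 hz1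
  have hwN : w ∈ N := Z'.basicOpen_le _ hw1
  -- `w` lies in the basic open of `a`
  have hwa : w ∈ Z'.basicOpen a := by
    rw [ha, hω, Scheme.basicOpen_appLE]
    refine ⟨hwN, ?_⟩
    have hw' : snd w ∉ (𝓘.comap q).support := by
      rw [Scheme.IdealSheafData.support_comap]
      exact hS𝓘 w hwS
    exact mem_basicOpen_of_notMem_support (𝓘.comap q) A' (snd w) (hNA' hwN) hw' t hgen
  -- `w` is not in the basic open of `χ k`
  have hwk : w ∉ Z'.basicOpen (χ k) := by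
    rw [hχ, Scheme.basicOpen_appLE]
    rintro ⟨-, hcon⟩
    exact notMem_basicOpen_of_mem_support 𝓑 ⟨B, hB⟩ (fst w) (hNB hwN) (hS𝓑 w hwS) k hk hcon
  apply hwk
  rw [← hkey, Scheme.basicOpen_mul]
  exact ⟨hwa, hw1⟩

/-- the closure of the preimage of a subset of `V(𝓘₁) ∖ V(𝓘)` lies in the strict transform. -/
theorem closure_preimage_subset_range_strictι (𝓘 𝓘₁ : X.IdealSheafData) (q : X' ⟶ X)
    (hE : BlowUp.IsEffCartierIdeal (𝓘.comap q)) (T : Set X) (hT₁ : T ⊆ (𝓘₁.support : Set X))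
    (hT : Disjoint T (𝓘.support : Set X)) :
    closure (q ⁻¹' T) ⊆ Set.range (strictι 𝓘 𝓘₁ q) := by
  have hcl : IsClosed (Set.range (strictι 𝓘 𝓘₁ q)) := by
    rw [Scheme.IdealSheafData.range_subschemeι]
    exact (strictIdeal 𝓘 𝓘₁ q).support.isClosed
  refine closure_minimal ?_ hcl
  intro x' hx'
  exact mem_range_strictι 𝓘 𝓘₁ q hE x' (hT₁ hx') (fun h => Set.disjoint_left.mp hT hx' h)

theorem S17391_main {Y : Scheme.{u}} (p : Z ⟶ X) (U V : X.Opens) (hUV : U ≤ V)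
    (f : Y ⟶ Z) (hY : Set.range (fun y => p (f y)) ⊆ (U : Set X))
    (𝓘₁ 𝓘₂ : X.IdealSheafData)
    (h₁ : (V : Set X) \ (U : Set X) ⊆ (𝓘₁.support : Set X))
    (h₁' : Disjoint (𝓘₁.support : Set X) (U : Set X))
    (h₂ : (𝓘₂.support : Set X) ⊆ (𝓘₁.support : Set X) \ (V : Set X))
    (hincl : 𝓘₂.comap p ≤ (𝓘₁ * 𝓘₁).comap p ⊔ f.ker)
    (q : X' ⟶ X) (hq : BlowUp.IsBlowUp q (𝓘₁ ⊔ 𝓘₂)) :
    Disjoint (closure (Set.range (fun y => (pullback.snd f (pullback.fst p q)) y)))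
      ((fun z => (pullback.snd p q) z) ⁻¹'
        closure ((fun x' => q x') ⁻¹' ((V : Set X) \ (U : Set X)))) := by
  have hmul : (𝓘₁ * 𝓘₁).comap p ≤ 𝓘₁.comap p := by
    apply Scheme.IdealSheafData.comap_mono
    intro W
    change 𝓘₁.ideal W * 𝓘₁.ideal W ≤ 𝓘₁.ideal W
    exact Ideal.mul_le_right
  have hincl' : 𝓘₂.comap p ≤ 𝓘₁.comap p ⊔ f.ker :=
    hincl.trans (sup_le_sup_right hmul _)
  have hsupp : ((𝓘₁ ⊔ 𝓘₂).support : Set X) ⊆ (𝓘₂.support : Set X) := by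
    rw [Scheme.IdealSheafData.support_sup]
    exact Set.inter_subset_right
  have hcore := core_disjoint 𝓘₁ 𝓘₂ p q hq.1 (pullback.fst p q) (pullback.snd p q)
    pullback.condition f.ker hincl'
    (Set.range (fun y => (pullback.snd f (pullback.fst p q)) y)) ?_ ?_
  · refine hcore.mono_right ?_
    intro z hz
    exact closure_preimage_subset_range_strictι (𝓘₁ ⊔ 𝓘₂) 𝓘₁ q hq.1 _ h₁
      (Set.disjoint_left.mpr fun x hx hx' => (h₂ (hsupp hx')).2 hx.1) hz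
  · rintro _ ⟨y, rfl⟩
    have h1 : (pullback.fst p q) ((pullback.snd f (pullback.fst p q)) y) =
        f ((pullback.fst f (pullback.fst p q)) y) := by
      have := congr($(pullback.condition (f := f) (g := pullback.fst p q)) y)
      exact this.symm
    rw [h1]
    exact f.range_subset_ker_support ⟨_, rfl⟩
  · rintro _ ⟨y, rfl⟩ hcon
    have h1 : (pullback.fst p q) ((pullback.snd f (pullback.fst p q)) y) =
        f ((pullback.fst f (pullback.fst p q)) y) := by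
      have := congr($(pullback.condition (f := f) (g := pullback.fst p q)) y)
      exact this.symm
    have h2 : q ((pullback.snd p q) ((pullback.snd f (pullback.fst p q)) y)) =
        p ((pullback.fst p q) ((pullback.snd f (pullback.fst p q)) y)) := by
      have := congr($(pullback.condition (f := p) (g := q)) ((pullback.snd f (pullback.fst p q)) y))
      exact this.symm
    rw [h2, h1] at hcon
    have hU : p (f ((pullback.fst f (pullback.fst p q)) y)) ∈ (U : Set X) := hY ⟨_, rfl⟩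
    exact Set.disjoint_left.mp h₁' (h₂ (hsupp hcon)).1 hU

theorem S17889_main (p : Z ⟶ X) (X₀ : X.Opens) (F : Closeds X) (G : Closeds Z)
    (𝔞 : X.IdealSheafData) (h₁ : Disjoint (𝔞.support : Set X) (X₀ : Set X))
    (h₂ : Scheme.IdealSheafData.vanishingIdeal F ≤ 𝔞)
    (h₃ : 𝔞 ≤ (((Scheme.IdealSheafData.vanishingIdeal F).comap p ⊔
      Scheme.IdealSheafData.vanishingIdeal G).subschemeι ≫ p).ker)
    (π : X' ⟶ X) (hπ : BlowUp.IsBlowUp π 𝔞) :
    (Limits.pullback.snd p π).base ⁻¹' closure (π.base ⁻¹' ((F : Set X) ∩ (X₀ : Set X))) ∩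
      closure ((Limits.pullback.fst p π).base ⁻¹' ((G : Set Z) ∩ (p ⁻¹ᵁ X₀ : Set Z))) = ∅ := by
  set 𝓘₁ := Scheme.IdealSheafData.vanishingIdeal F with h𝓘₁
  have hsup : 𝓘₁ ⊔ 𝔞 = 𝔞 := sup_eq_right.mpr h₂
  have hE : BlowUp.IsEffCartierIdeal ((𝓘₁ ⊔ 𝔞).comap π) := by rw [hsup]; exact hπ.1
  have hincl : 𝔞.comap p ≤ 𝓘₁.comap p ⊔ Scheme.IdealSheafData.vanishingIdeal G := by
    rw [← Scheme.IdealSheafData.le_map_iff_comap_le]
    exact h₃
  have hcore := core_disjoint 𝓘₁ 𝔞 p π hE (pullback.fst p π) (pullback.snd p π)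
    pullback.condition (Scheme.IdealSheafData.vanishingIdeal G) hincl
    ((Limits.pullback.fst p π).base ⁻¹' ((G : Set Z) ∩ (p ⁻¹ᵁ X₀ : Set Z))) ?_ ?_
  · rw [Set.eq_empty_iff_forall_notMem]
    rintro z ⟨hz1, hz2⟩
    refine Set.disjoint_left.mp hcore hz2 ?_
    have hsub := closure_preimage_subset_range_strictι (𝓘₁ ⊔ 𝔞) 𝓘₁ π hE
      ((F : Set X) ∩ (X₀ : Set X)) ?_ ?_
    · exact hsub hz1
    · intro x hx
      rw [h𝓘₁, Scheme.IdealSheafData.coe_support_vanishingIdeal]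
      exact hx.1
    · rw [hsup, Set.disjoint_left]
      intro x hx hx'
      exact Set.disjoint_left.mp h₁ hx' hx.2
  · intro w hw
    change (pullback.fst p π) w ∈ ((Scheme.IdealSheafData.vanishingIdeal G).support : Set Z)
    rw [Scheme.IdealSheafData.coe_support_vanishingIdeal]
    exact hw.1
  · intro w hw hcon
    rw [hsup] at hcon
    have h2 : π ((pullback.snd p π) w) = p ((pullback.fst p π) w) := by
      have := congr($(pullback.condition (f := p) (g := π)) w)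
      exact this.symm
    rw [h2] at hcon
    exact Set.disjoint_left.mp h₁ hcon hw.2

end Core

end Groth.Agent.H9.BLA
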