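import Mathlib
import Groth.Agent.Lib.Helper9.Misc.BLA23

/-! Helper9: S17392 (Conrad/Deligne): separating the closure of `c⁻¹(Y₁)` from the closure of
`c₂⁻¹(U)` by a `V₁`-admissible blow-up. -/

set_option linter.style.haveILetI false
set_option linter.unusedSectionVars false
set_option linter.unusedVariables false

universe u
open CategoryTheory Limits AlgebraicGeometry TopologicalSpace Opposite Topology

namespace Groth.Agent.H9.BLA

open Groth.Agent.LD Groth.Agent.LD.QC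

section S17392
variable {X : Scheme.{u}}

/-- a closed subset with quasi-compact complement of a qcqs scheme is the support of a finite
type ideal sheaf. -/
theorem exists_ft_ideal_support_eq [CompactSpace X] [QuasiSeparatedSpace X] (Z : Set X)
    (hZ : IsClosed Z) (hZc : IsCompact Zᶜ) :
    ∃ 𝓘 : X.IdealSheafData, BlowUp.IsFiniteTypeIdeal 𝓘 ∧ (𝓘.support : Set X) = Z := by
  let O : X.Opens := ⟨Zᶜ, hZ.isOpen_compl⟩
  let Zc : Closeds X := ⟨Z, hZ⟩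
  have htop : ∀ W : X.affineOpens, W.1 ≤ O →
      (Scheme.IdealSheafData.vanishingIdeal Zc).ideal W = ⊤ := fun W hW =>
    vanishingIdeal_ideal_eq_top Zc W (Set.disjoint_left.mpr fun x hxW hxZ => hW hxW hxZ)
  obtain ⟨𝓘, hft, hle, hag⟩ := exists_ft_le_agree (Scheme.IdealSheafData.vanishingIdeal Zc) O hZc
    (fun W hW => by rw [htop W hW]; exact ⟨{1}, by simp⟩)
  refine ⟨𝓘, hft, ?_⟩
  have h1 : Zc ≤ 𝓘.support := Scheme.IdealSheafData.le_support_iff_le_vanishingIdeal.mpr hle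
  have h2 : Disjoint (𝓘.support : Set X) (O : Set X) :=
    disjoint_support_of_forall_ideal_eq_top 𝓘 O (fun W hW => by rw [hag W hW, htop W hW])
  apply Set.Subset.antisymm
  · intro x hx
    by_contra hxZ
    exact Set.disjoint_left.mp h2 hx hxZ
  · exact h1

theorem mem_closure_preimage_ι {T : Scheme.{u}} (W : T.Opens) (A : Set T) (z₀ : (W : Scheme.{u}))
    (hz : W.ι z₀ ∈ closure A) : z₀ ∈ closure ((fun w => W.ι w) ⁻¹' A) := by
  rw [mem_closure_iff]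
  intro o ho hz₀
  have hopen : IsOpen ((fun w => W.ι w) '' o) := W.ι.isOpenEmbedding.isOpenMap o ho
  obtain ⟨y, ⟨w, hwo, rfl⟩, hyA⟩ := mem_closure_iff.mp hz _ hopen ⟨z₀, hz₀, rfl⟩
  exact ⟨w, hwo, hyA⟩

theorem S17392_main {X₁ X₂ : Scheme.{u}} [CompactSpace X₁] [QuasiSeparatedSpace X₁]
    [CompactSpace X₂] [QuasiSeparatedSpace X₂]
    (q : X₂ ⟶ X₁) [QuasiCompact q]
    (V₁ : X₁.Opens) (hV₁ : IsCompact (V₁ : Set X₁))
    (U : X₂.Opens) (hU : U ≤ q ⁻¹ᵁ V₁)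
    (Z₁ : Set X₁) (hZ₁ : IsClosed Z₁) (hZ₁c : IsCompact Z₁ᶜ)
    (Z₂ : Set X₂) (hZ₂ : IsClosed Z₂) (hZ₂c : IsCompact Z₂ᶜ)
    (hYZ : (fun x => q x) ⁻¹' (Z₁ ∩ (V₁ : Set X₁)) ⊆ Z₂) :
    ∃ 𝓔 : X₁.IdealSheafData, BlowUp.IsFiniteTypeIdeal 𝓔 ∧
      (𝓔.support : Set X₁) ⊆ Z₁ \ (V₁ : Set X₁) ∧
      ∀ (X₁' : Scheme.{u}) (c : X₁' ⟶ X₁), BlowUp.IsBlowUp c 𝓔 →
        (fun z => (pullback.snd q c) z) ⁻¹' closure ((fun x => c x) ⁻¹' (Z₁ ∩ (V₁ : Set X₁))) ∩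
            closure ((fun z => (pullback.fst q c) z) ⁻¹' (U : Set X₂)) ⊆
          (fun z => (pullback.fst q c) z) ⁻¹' Z₂ := by
  obtain ⟨𝓘₁, hft₁, hsupp₁⟩ := exists_ft_ideal_support_eq Z₁ hZ₁ hZ₁c
  let W₂ : X₂.Opens := ⟨Z₂ᶜ, hZ₂.isOpen_compl⟩
  haveI : CompactSpace (W₂ : Scheme.{u}) := isCompact_iff_compactSpace.mp hZ₂c
  haveI : QuasiCompact W₂.ι := quasiCompact_of_compactSpace W₂.ι
  let p : (W₂ : Scheme.{u}) ⟶ X₁ := W₂.ι ≫ q
  haveI : QuasiCompact p := by dsimp only [p]; infer_instance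
  let 𝓚 : X₁.IdealSheafData := (𝓘₁.comap p).map p
  let O : X₁.Opens := V₁ ⊔ ⟨Z₁ᶜ, hZ₁.isOpen_compl⟩
  have hO : IsCompact (O : Set X₁) := by
    change IsCompact ((V₁ : Set X₁) ∪ Z₁ᶜ)
    exact hV₁.union hZ₁c
  have hpY : ∀ w : (W₂ : Scheme.{u}), p w ∈ Z₁ → p w ∉ (V₁ : Set X₁) := by
    intro w hw1 hw2
    have h1 : W₂.ι w ∈ Z₂ := hYZ (by
      change q (W₂.ι w) ∈ Z₁ ∩ (V₁ : Set X₁)
      exact ⟨hw1, hw2⟩)
    have h2 : W₂.ι w ∈ (W₂ : Set X₂) := w.2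
    exact h2 h1
  have hKtop : ∀ W : X₁.affineOpens, W.1 ≤ O → 𝓚.ideal W = ⊤ := by
    intro W hW
    apply ideal_map_eq_top_of_disjoint p (𝓘₁.comap p) W
    rw [Set.disjoint_left]
    rintro _ ⟨w, hw, rfl⟩ hxW
    have hw' : p w ∈ Z₁ := by
      rw [← hsupp₁]
      have hw2 : w ∈ (𝓘₁.comap p).support := hw
      rw [Scheme.IdealSheafData.support_comap] at hw2
      exact hw2
    rcases hW hxW with h | h
    · exact hpY w hw' h
    · exact h hw'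
  obtain ⟨𝓘₂, hft₂, hle₂, hag₂⟩ := exists_ft_le_agree 𝓚 O hO
    (fun W hW => by rw [hKtop W hW]; exact ⟨{1}, by simp⟩)
  have hsupp₂ : Disjoint (𝓘₂.support : Set X₁) (O : Set X₁) :=
    disjoint_support_of_forall_ideal_eq_top 𝓘₂ O (fun W hW => by rw [hag₂ W hW, hKtop W hW])
  have hsuppE : ((𝓘₁ ⊔ 𝓘₂).support : Set X₁) ⊆ Z₁ \ (V₁ : Set X₁) := by
    rw [Scheme.IdealSheafData.support_sup]
    intro x hx
    have hx1 : x ∈ (𝓘₁.support : Set X₁) := hx.1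
    have hx2 : x ∈ (𝓘₂.support : Set X₁) := hx.2
    rw [hsupp₁] at hx1
    exact ⟨hx1, fun hxV => Set.disjoint_left.mp hsupp₂ hx2 (Or.inl hxV)⟩
  refine ⟨𝓘₁ ⊔ 𝓘₂, isFiniteTypeIdeal_sup hft₁ hft₂, hsuppE, ?_⟩
  intro X₁' c hc
  rintro z ⟨hz1, hz2⟩
  by_contra hzZ₂
  have hzW : (pullback.fst q c) z ∈ (W₂ : Set X₂) := hzZ₂
  let Z' : (pullback q c).Opens := (pullback.fst q c) ⁻¹ᵁ W₂
  let z₀ : (Z' : Scheme.{u}) := ⟨z, hzW⟩
  let fst' : (Z' : Scheme.{u}) ⟶ (W₂ : Scheme.{u}) := (pullback.fst q c) ∣_ W₂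
  let snd' : (Z' : Scheme.{u}) ⟶ X₁' := Z'.ι ≫ pullback.snd q c
  have hsq : fst' ≫ p = snd' ≫ c := by
    dsimp only [fst', p, snd']
    rw [← Category.assoc, morphismRestrict_ι, Category.assoc, Category.assoc, pullback.condition]
  have hincl : 𝓘₂.comap p ≤ 𝓘₁.comap p ⊔ ⊥ := by
    rw [sup_bot_eq]
    exact (Scheme.IdealSheafData.comap_mono p hle₂).trans
      (Scheme.IdealSheafData.comap_map_le _ _)
  have hcore := core_disjoint 𝓘₁ 𝓘₂ p c hc.1 fst' snd' hsq ⊥ hincl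
    ((fun w => Z'.ι w) ⁻¹' ((fun z => (pullback.fst q c) z) ⁻¹' (U : Set X₂))) ?_ ?_
  · have hdis : ∀ a : (Z' : Scheme.{u}), a ∈ closure ((fun w => Z'.ι w) ⁻¹'
        ((fun z => (pullback.fst q c) z) ⁻¹' (U : Set X₂))) →
        a ∉ (snd' ⁻¹' Set.range (strictι (𝓘₁ ⊔ 𝓘₂) 𝓘₁ c)) := fun a => @Set.disjoint_left.mp hcore a
    refine hdis z₀ ?_ ?_
    · exact mem_closure_preimage_ι Z' _ z₀ hz2
    · have hsub := closure_preimage_subset_range_strictι (𝓘₁ ⊔ 𝓘₂) 𝓘₁ c hc.1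
        (Z₁ ∩ (V₁ : Set X₁)) ?_ ?_
      · exact hsub hz1
      · rw [hsupp₁]
        exact Set.inter_subset_left
      · rw [Set.disjoint_left]
        intro x hx hx'
        exact (hsuppE hx').2 hx.2
  · intro w hw
    rw [Scheme.IdealSheafData.support_bot]
    trivial
  · intro w hw hcon
    have h1 : c (snd' w) = q ((pullback.fst q c) (Z'.ι w)) := by
      have := congr($(pullback.condition (f := q) (g := c)) (Z'.ι w))
      exact this.symm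
    rw [h1] at hcon
    exact (hsuppE hcon).2 (hU hw)

end S17392

end Groth.Agent.H9.BLA
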