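import Mathlib
import Groth.Agent.Lib.Helper9.Misc.BLA24

/-! Helper9: multi-ideal version of the separation lemma `core_disjoint`, for S17394. -/

set_option linter.style.haveILetI false
set_option linter.unusedSectionVars false
set_option linter.unusedVariables false

universe u
open CategoryTheory Limits AlgebraicGeometry TopologicalSpace Opposite Topology

namespace Groth.Agent.H9.BLA

open Groth.Agent.LD Groth.Agent.LD.QC

section Multi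

/-- near a point of the strict transform of `V(𝓘₁)` in a blow-up of `𝓘₁ ⊔ 𝓘₂`, the inverse image
ideal is generated by a section of `𝓘₂`. -/
theorem exists_chart_of_strict {X X' : Scheme.{u}} (𝓘₁ 𝓘₂ : X.IdealSheafData) (q : X' ⟶ X)
    (hE : BlowUp.IsEffCartierIdeal ((𝓘₁ ⊔ 𝓘₂).comap q)) (x' : X')
    (hx' : x' ∈ Set.range (strictι (𝓘₁ ⊔ 𝓘₂) 𝓘₁ q)) :
    ∃ (A : X.affineOpens) (s : Γ(X, A.1)) (_ : s ∈ 𝓘₂.ideal A) (A' : X'.affineOpens)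
      (hA' : A'.1 ≤ q ⁻¹ᵁ A.1), x' ∈ A'.1 ∧
      ((𝓘₁ ⊔ 𝓘₂).comap q).ideal A' = Ideal.span {(q.appLE A.1 A'.1 hA').hom s} := by
  set 𝓘 : X.IdealSheafData := 𝓘₁ ⊔ 𝓘₂ with h𝓘
  let 𝓙 : Bool → X.IdealSheafData := fun b => if b then 𝓘₁ else 𝓘₂
  have h𝓙 : (⨆ b, 𝓙 b) = 𝓘 := by
    rw [iSup_bool_eq]
    rfl
  have hE' : BlowUp.IsEffCartierIdeal ((⨆ b, 𝓙 b).comap q) := by rw [h𝓙]; exact hE
  obtain ⟨i, A, s, hs, A', hA', hx'A', hgen⟩ := exists_gen_of_iSup 𝓙 q hE' x'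
  rw [h𝓙] at hgen
  have hi : i = false := by
    cases i
    · rfl
    · exfalso
      obtain ⟨y, hy⟩ := hx'
      exact strict_transform_ne_span 𝓘₁ 𝓘 q (strictc 𝓘 𝓘₁ q)
        (isEffCartier_comap_strictc 𝓘 𝓘₁ q hE) (strictι 𝓘 𝓘₁ q) (strictc_ι 𝓘 𝓘₁ q).symm A s hs A'
        hA' ⟨x', ⟨y, hy⟩, hx'A'⟩ hgen
  subst hi
  exact ⟨A, s, hs, A', hA', hx'A', hgen⟩

/-- **multi-ideal separation lemma.** -/
theorem core_disjoint_multi {ι : Type} [Finite ι] [Nonempty ι]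
    {X X' : ι → Scheme.{u}} {Z Z' : Scheme.{u}}
    (𝓘 𝓙 : ∀ i, (X i).IdealSheafData) (p : ∀ i, Z ⟶ X i) (q : ∀ i, X' i ⟶ X i)
    (hE : ∀ i, BlowUp.IsEffCartierIdeal ((𝓘 i ⊔ 𝓙 i).comap (q i)))
    (fst : Z' ⟶ Z) (snd : ∀ i, Z' ⟶ X' i) (hsq : ∀ i, fst ≫ p i = snd i ≫ q i)
    (𝓑 : Z.IdealSheafData)
    (hincl : ∀ i, (𝓙 i).comap (p i) ≤ (⨆ k, (𝓘 k).comap (p k)) ⊔ 𝓑)
    (S : Set Z') (hS𝓑 : ∀ w ∈ S, fst w ∈ 𝓑.support)
    (hS𝓘 : ∀ w ∈ S, ∀ i, q i (snd i w) ∉ (𝓘 i ⊔ 𝓙 i).support)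
    (z' : Z') (hz'S : z' ∈ closure S)
    (hz'T : ∀ i, snd i z' ∈ Set.range (strictι (𝓘 i ⊔ 𝓙 i) (𝓘 i) (q i))) : False := by
  have hch := fun i => exists_chart_of_strict (𝓘 i) (𝓙 i) (q i) (hE i) (snd i z') (hz'T i)
  choose A s hs A' hA' hx'A' hgen using hch
  -- charts on `Z` and `Z'`
  have hzA : ∀ i, p i (fst z') ∈ (A i).1 := by
    intro i
    have h1 : p i (fst z') = q i (snd i z') := by
      have := congr($(hsq i) z')
      exact this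
    rw [h1]
    exact hA' i (hx'A' i)
  let OB : Z.Opens := ⟨⋂ i, (p i ⁻¹ᵁ (A i).1 : Set Z),
    isOpen_iInter_of_finite fun i => (p i ⁻¹ᵁ (A i).1).2⟩
  obtain ⟨B, hB, hzB, hBle⟩ := exists_isAffineOpen_mem_and_subset (x := fst z')
    (U := OB) (Set.mem_iInter.mpr hzA)
  have hBle' : ∀ i, B ≤ p i ⁻¹ᵁ (A i).1 := fun i w hw => Set.mem_iInter.mp (hBle hw) i
  let ON : Z'.Opens := ⟨(fst ⁻¹ᵁ B : Set Z') ∩ ⋂ i, (snd i ⁻¹ᵁ (A' i).1 : Set Z'),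
    (fst ⁻¹ᵁ B).2.inter (isOpen_iInter_of_finite fun i => (snd i ⁻¹ᵁ (A' i).1).2)⟩
  obtain ⟨N, hN, hzN, hNle⟩ := exists_isAffineOpen_mem_and_subset (x := z')
    (U := ON) ⟨hzB, Set.mem_iInter.mpr hx'A'⟩
  have hNB : N ≤ fst ⁻¹ᵁ B := fun w hw => (hNle hw).1
  have hNA' : ∀ i, N ≤ snd i ⁻¹ᵁ (A' i).1 := fun i w hw => Set.mem_iInter.mp (hNle hw).2 i
  let φ := fun i => ((q i).appLE (A i).1 (A' i).1 (hA' i)).hom
  let ψ := fun i => ((p i).appLE (A i).1 B (hBle' i)).hom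
  let χ := (fst.appLE B N hNB).hom
  let ω := fun i => ((snd i).appLE (A' i).1 N (hNA' i)).hom
  have hcomm : ∀ i (y : Γ(X i, (A i).1)), χ (ψ i y) = ω i (φ i y) := by
    intro i y
    have h1 : χ (ψ i y) =
        ((fst ≫ p i).appLE (A i).1 N (fun w hw => hBle' i (hNB hw))).hom y := by
      dsimp only [χ, ψ]
      rw [← RingHom.comp_apply, ← CommRingCat.hom_comp, Scheme.Hom.appLE_comp_appLE]
    have h2 : ω i (φ i y) =
        ((snd i ≫ q i).appLE (A i).1 N (fun w hw => hA' i (hNA' i hw))).hom y := by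
      dsimp only [ω, φ]
      rw [← RingHom.comp_apply, ← CommRingCat.hom_comp, Scheme.Hom.appLE_comp_appLE]
    rw [h1, h2, appLE_eq_of_eq (hsq i)]
  let t := fun i => φ i (s i)
  let a := fun i => ω i (t i)
  -- the prime ideal of `z'` in `Γ(N)`
  let 𝔪 : Ideal Γ(Z', N) :=
    (IsLocalRing.maximalIdeal (Z'.presheaf.stalk z')).comap (Z'.presheaf.germ N z' hzN).hom
  have h𝔪 : ∀ c : Γ(Z', N), c ∈ 𝔪 ↔ z' ∉ Z'.basicOpen c := by
    intro c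
    rw [Scheme.mem_basicOpen _ _ z' hzN]
    exact Iff.rfl
  have h1𝔪 : (1 : Γ(Z', N)) ∉ 𝔪 := by
    intro h2
    have h2' : (Z'.presheaf.germ N z' hzN).hom 1 ∈
        IsLocalRing.maximalIdeal (Z'.presheaf.stalk z') := h2
    rw [map_one] at h2'
    exact (IsLocalRing.maximalIdeal (Z'.presheaf.stalk z')).ne_top_iff_one.mp
      (IsLocalRing.maximalIdeal.isMaximal _).ne_top h2'
  -- sections of `𝓘 i` map into `a i · 𝔪`
  have hI₁ : ∀ i, Ideal.map (χ.comp (ψ i)) ((𝓘 i).ideal (A i)) ≤ Ideal.span {a i} * 𝔪 := by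
    intro i
    rw [Ideal.map_le_iff_le_comap]
    intro s₁ hs₁
    rw [Ideal.mem_comap, RingHom.comp_apply, hcomm]
    have hs₁' : φ i s₁ ∈ Ideal.span {t i} := by
      rw [← hgen i, ideal_comap_of_le (𝓘 i ⊔ 𝓙 i) (q i) (A i) (A' i) (hA' i)]
      exact Ideal.mem_map_of_mem _ ((le_sup_left : 𝓘 i ≤ 𝓘 i ⊔ 𝓙 i) (A i) hs₁)
    obtain ⟨r, hr⟩ := Ideal.mem_span_singleton'.mp hs₁'
    have hxr := notMem_basicOpen_of_strict (𝓘 i) (𝓘 i ⊔ 𝓙 i) le_sup_left (q i) (hE i) (snd i z')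
      (hz'T i) (A i) (A' i) (hA' i) (hx'A' i) (t i) (hgen i) s₁ hs₁ r hr.symm
    have hωr : ω i (φ i s₁) = a i * ω i r := by
      dsimp only [a]
      rw [← hr, map_mul, mul_comm]
    rw [hωr]
    refine Ideal.mul_mem_mul (Ideal.mem_span_singleton_self (a i)) ?_
    rw [h𝔪]
    dsimp only [ω]
    rw [Scheme.basicOpen_appLE]
    intro hcon
    exact hxr hcon.2
  let K : Ideal Γ(Z', N) := Ideal.map χ (𝓑.ideal ⟨B, hB⟩)
  let Ia : Ideal Γ(Z', N) := Ideal.span (Set.range a)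
  have hmul : ∀ k, Ideal.span {a k} * 𝔪 ≤ 𝔪 • Ia := by
    intro k
    rw [smul_eq_mul, mul_comm]
    exact Ideal.mul_mono_right (Ideal.span_mono (by
      rintro _ rfl
      exact ⟨k, rfl⟩))
  have hai : ∀ i, a i ∈ K ⊔ 𝔪 • Ia := by
    intro i
    have h1 : ψ i (s i) ∈ ((𝓙 i).comap (p i)).ideal ⟨B, hB⟩ := by
      rw [ideal_comap_of_le (𝓙 i) (p i) (A i) ⟨B, hB⟩ (hBle' i)]
      exact Ideal.mem_map_of_mem _ (hs i)
    have h2 := hincl i ⟨B, hB⟩ h1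
    rw [Scheme.IdealSheafData.ideal_sup, Pi.sup_apply, Scheme.IdealSheafData.ideal_iSup,
      iSup_apply] at h2
    have h3 : a i = χ (ψ i (s i)) := (hcomm i (s i)).symm
    rw [h3]
    have h4 : χ (ψ i (s i)) ∈ Ideal.map χ ((⨆ k, ((𝓘 k).comap (p k)).ideal ⟨B, hB⟩) ⊔
        𝓑.ideal ⟨B, hB⟩) := Ideal.mem_map_of_mem _ h2
    rw [Ideal.map_sup, Ideal.map_iSup] at h4
    have hle : (⨆ k, Ideal.map χ (((𝓘 k).comap (p k)).ideal ⟨B, hB⟩)) ⊔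
        Ideal.map χ (𝓑.ideal ⟨B, hB⟩) ≤ K ⊔ 𝔪 • Ia := by
      refine sup_le (iSup_le fun k => ?_) le_sup_left
      rw [ideal_comap_of_le (𝓘 k) (p k) (A k) ⟨B, hB⟩ (hBle' k), Ideal.map_map]
      exact ((hI₁ k).trans (hmul k)).trans le_sup_right
    exact hle h4
  have hIa : Ia ≤ K ⊔ 𝔪 • Ia := by
    apply Ideal.span_le.mpr
    rintro _ ⟨i, rfl⟩
    exact hai i
  have hfg : (Ia : Submodule Γ(Z', N) Γ(Z', N)).FG := Submodule.fg_span (Set.finite_range a)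
  obtain ⟨r, hr𝔪, hrK⟩ := Submodule.exists_sub_one_mem_and_smul_le_of_fg_of_le_sup
    (I := 𝔪) (N := K) (N' := Ia) (P := Ia) hfg le_rfl hIa
  have hr : r ∉ 𝔪 := by
    intro h
    apply h1𝔪
    have := 𝔪.sub_mem h hr𝔪
    simpa using this
  have hz1 : z' ∈ Z'.basicOpen r := by
    by_contra hcon
    exact hr ((h𝔪 _).mpr hcon)
  obtain ⟨w, hw1, hwS⟩ := mem_closure_iff.mp hz'S _ (Z'.basicOpen r).2 hz1
  have hwN : w ∈ N := Z'.basicOpen_le _ hw1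
  obtain ⟨i₀⟩ := ‹Nonempty ι›
  have hwa : w ∈ Z'.basicOpen (a i₀) := by
    dsimp only [a, ω]
    rw [Scheme.basicOpen_appLE]
    refine ⟨hwN, ?_⟩
    have hw' : snd i₀ w ∉ ((𝓘 i₀ ⊔ 𝓙 i₀).comap (q i₀)).support := by
      rw [Scheme.IdealSheafData.support_comap]
      exact hS𝓘 w hwS i₀
    exact mem_basicOpen_of_notMem_support ((𝓘 i₀ ⊔ 𝓙 i₀).comap (q i₀)) (A' i₀) (snd i₀ w)
      (hNA' i₀ hwN) hw' (t i₀) (hgen i₀)
  let 𝔭 : Ideal Γ(Z', N) :=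
    (IsLocalRing.maximalIdeal (Z'.presheaf.stalk w)).comap (Z'.presheaf.germ N w hwN).hom
  have h𝔭 : ∀ c : Γ(Z', N), c ∈ 𝔭 ↔ w ∉ Z'.basicOpen c := by
    intro c
    rw [Scheme.mem_basicOpen _ _ w hwN]
    exact Iff.rfl
  have hK𝔭 : K ≤ 𝔭 := by
    rw [Ideal.map_le_iff_le_comap]
    intro k hk
    rw [Ideal.mem_comap, h𝔭]
    dsimp only [χ]
    rw [Scheme.basicOpen_appLE]
    rintro ⟨-, hcon⟩
    exact notMem_basicOpen_of_mem_support 𝓑 ⟨B, hB⟩ (fst w) (hNB hwN) (hS𝓑 w hwS) k hk hcon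
  have hra : r * a i₀ ∈ 𝔭 := by
    apply hK𝔭
    apply hrK
    have := Submodule.smul_mem_pointwise_smul (a i₀) r Ia (Ideal.subset_span ⟨i₀, rfl⟩)
    simpa using this
  rw [h𝔭, Scheme.basicOpen_mul] at hra
  exact hra ⟨hw1, hwa⟩

end Multi

end Groth.Agent.H9.BLA
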