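import Mathlib
import Groth.Agent.Lib.Helper9.Misc.BLA25

/-! Helper9: S17394 (Conrad/Deligne): separating strict transforms in a product of
compactifications. -/

set_option linter.style.haveILetI false
set_option linter.unusedSectionVars false
set_option linter.unusedVariables false

universe u
open CategoryTheory Limits AlgebraicGeometry TopologicalSpace Opposite Topology

namespace Groth.Agent.H9.BLA

open Groth.Agent.LD Groth.Agent.LD.QC

section S17394

/-- points of the closure of `U` in a product lying over `X_i` lie over `X_k` (properness of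
`X_k → X`). -/
theorem mem_range_of_mem_closure_of_isProper {S X U P Xi Xk Xbi Xbk : Scheme.{u}}
    (gX : X ⟶ S) (gbi : Xbi ⟶ S) (gbk : Xbk ⟶ S) [IsSeparated gbk]
    (oi : Xi ⟶ Xbi) [IsOpenImmersion oi] (ok : Xk ⟶ Xbk)
    (qi : Xi ⟶ X) (qk : Xk ⟶ X) [IsProper qk]
    (hqi : qi ≫ gX = oi ≫ gbi) (hqk : qk ≫ gX = ok ≫ gbk)
    (πi : P ⟶ Xbi) (πk : P ⟶ Xbk) (hπ : πi ≫ gbi = πk ≫ gbk)
    (lU : U ⟶ P) (vi : U ⟶ Xi) (vk : U ⟶ Xk) (hvi : lU ≫ πi = vi ≫ oi)
    (hvk : lU ≫ πk = vk ≫ ok) (hv : vi ≫ qi = vk ≫ qk)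
    (z : P) (hz : z ∈ closure (Set.range (fun x => lU x)))
    (hzi : πi z ∈ Set.range (fun x => oi x)) : πk z ∈ Set.range (fun x => ok x) := by
  let Pi : P.Opens := πi ⁻¹ᵁ oi.opensRange
  have hPi : ∀ x : (Pi : Scheme.{u}), (Pi.ι ≫ πi) x ∈ Set.range oi := fun x => x.2
  let ρ : (Pi : Scheme.{u}) ⟶ Xi := IsOpenImmersion.lift oi (Pi.ι ≫ πi) (by
    rintro _ ⟨x, rfl⟩
    exact hPi x)
  have hρ : ρ ≫ oi = Pi.ι ≫ πi := IsOpenImmersion.lift_fac _ _ _
  let θ : (Pi : Scheme.{u}) ⟶ pullback gX gbk := pullback.lift (ρ ≫ qi) (Pi.ι ≫ πk) (by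
    rw [Category.assoc, hqi, ← Category.assoc, hρ, Category.assoc, hπ, Category.assoc])
  let γ : Xk ⟶ pullback gX gbk := pullback.lift qk ok hqk
  have hθ1 : θ ≫ pullback.fst gX gbk = ρ ≫ qi := pullback.lift_fst _ _ _
  have hθ2 : θ ≫ pullback.snd gX gbk = Pi.ι ≫ πk := pullback.lift_snd _ _ _
  have hγ1 : γ ≫ pullback.fst gX gbk = qk := pullback.lift_fst _ _ _
  have hγ2 : γ ≫ pullback.snd gX gbk = ok := pullback.lift_snd _ _ _
  haveI : IsProper (γ ≫ pullback.fst gX gbk) := by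
    rw [hγ1]
    infer_instance
  haveI : IsProper γ := IsProper.of_comp γ (pullback.fst gX gbk)
  have hclosed : IsClosed (Set.range γ) := γ.isClosedMap.isClosed_range
  have hlU : ∀ x : U, lU x ∈ Pi := by
    intro x
    change πi (lU x) ∈ Set.range oi
    have : πi (lU x) = oi (vi x) := congr($(hvi) x)
    rw [this]
    exact ⟨_, rfl⟩
  let lUi : U ⟶ (Pi : Scheme.{u}) := IsOpenImmersion.lift Pi.ι lU (by
    rintro _ ⟨x, rfl⟩
    rw [Scheme.Opens.range_ι]
    exact hlU x)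
  have hlUi : lUi ≫ Pi.ι = lU := IsOpenImmersion.lift_fac _ _ _
  have hlρ : lUi ≫ ρ = vi := by
    rw [← cancel_mono oi, Category.assoc, hρ, ← Category.assoc, hlUi, hvi]
  have hθ : lUi ≫ θ = vk ≫ γ := by
    apply pullback.hom_ext
    · rw [Category.assoc, Category.assoc, hθ1, hγ1, ← Category.assoc, hlρ, hv]
    · rw [Category.assoc, Category.assoc, hθ2, hγ2, ← Category.assoc, hlUi, hvk]
  let z₀ : (Pi : Scheme.{u}) := ⟨z, hzi⟩
  have hz₀ : z₀ ∈ closure (Set.range (fun x => lUi x)) := by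
    have h1 := mem_closure_preimage_ι Pi (Set.range (fun x => lU x)) z₀ hz
    refine closure_mono ?_ h1
    rintro y ⟨x, hx⟩
    refine ⟨x, ?_⟩
    apply Pi.ι.isOpenEmbedding.injective
    have : Pi.ι (lUi x) = lU x := congr($(hlUi) x)
    rw [this]
    exact hx
  have hθz : θ z₀ ∈ Set.range γ := by
    have h1 : θ z₀ ∈ closure ((fun y => θ y) '' Set.range (fun x => lUi x)) :=
      map_mem_closure θ.continuous hz₀ (fun y hy => ⟨y, hy, rfl⟩)
    refine (closure_minimal ?_ hclosed) h1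
    rintro _ ⟨_, ⟨x, rfl⟩, rfl⟩
    refine ⟨vk x, ?_⟩
    have := congr($(hθ) x)
    exact this.symm
  obtain ⟨y, hy⟩ := hθz
  refine ⟨y, ?_⟩
  have h1 : πk z = (θ ≫ pullback.snd gX gbk) z₀ := by
    rw [hθ2]
    rfl
  have h2 : ok y = (γ ≫ pullback.snd gX gbk) y := by
    rw [hγ2]
  rw [h1]
  change ok y = _
  rw [h2]
  change (pullback.snd gX gbk) (γ y) = (pullback.snd gX gbk) (θ z₀)
  rw [hy]

/-- a weak product over `S` with quasi-compact structure morphism. -/
structure WeakProd {S : Scheme.{u}} {m : ℕ} (Xb : Fin m → Scheme.{u}) (gb : ∀ i, Xb i ⟶ S) where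
  Q : Scheme.{u}
  base : Q ⟶ S
  p : ∀ i, Q ⟶ Xb i
  hp : ∀ i, p i ≫ gb i = base
  qc : QuasiCompact base
  lift : ∀ (T : Scheme.{u}) (b : T ⟶ S) (f : ∀ i, T ⟶ Xb i) (hf : ∀ i, f i ≫ gb i = b),
    ∃ l : T ⟶ Q, l ≫ base = b ∧ ∀ i, l ≫ p i = f i

theorem nonempty_weakProd {S : Scheme.{u}} : ∀ {m : ℕ} (Xb : Fin m → Scheme.{u})
    (gb : ∀ i, Xb i ⟶ S) (h : ∀ i, QuasiCompact (gb i)), Nonempty (WeakProd Xb gb)
  | 0, Xb, gb, h => ⟨{
      Q := S
      base := 𝟙 S
      p := fun i => i.elim0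
      hp := fun i => i.elim0
      qc := inferInstance
      lift := fun T b f hf => ⟨b, by simp, fun i => i.elim0⟩ }⟩
  | m + 1, Xb, gb, h => by
    obtain ⟨W⟩ := nonempty_weakProd (fun i => Xb i.succ) (fun i => gb i.succ) (fun i => h i.succ)
    haveI := W.qc
    haveI := h 0
    refine ⟨{
      Q := pullback (gb 0) W.base
      base := pullback.fst _ _ ≫ gb 0
      p := fun i => Fin.cases (motive := fun i => pullback (gb 0) W.base ⟶ Xb i)
        (pullback.fst _ _) (fun j => pullback.snd _ _ ≫ W.p j) i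
      hp := ?_
      qc := inferInstance
      lift := ?_ }⟩
    · intro i
      refine Fin.cases ?_ (fun j => ?_) i
      · simp
      · simp only [Fin.cases_succ, Category.assoc]
        rw [W.hp j, pullback.condition]
    · intro T b f hf
      obtain ⟨l₀, hl₀, hl₀'⟩ := W.lift T b (fun j => f j.succ) (fun j => hf j.succ)
      refine ⟨pullback.lift (f 0) l₀ (by rw [hf 0, hl₀]), ?_, fun i => ?_⟩
      · rw [← Category.assoc, pullback.lift_fst, hf 0]
      · refine Fin.cases ?_ (fun j => ?_) i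
        · simp only [Fin.cases_zero]
          exact pullback.lift_fst _ _ _
        · simp only [Fin.cases_succ]
          rw [← Category.assoc, pullback.lift_snd, hl₀' j]

theorem compactSpace_widePullback {S : Scheme.{u}} [CompactSpace S] {m : ℕ}
    (Xb : Fin m → Scheme.{u}) (gb : ∀ i, Xb i ⟶ S) [∀ i, QuasiCompact (gb i)] :
    CompactSpace ↑(widePullback S Xb gb) := by
  obtain ⟨W⟩ := nonempty_weakProd Xb gb (fun i => inferInstance)
  haveI := W.qc
  haveI : CompactSpace W.Q := QuasiCompact.compactSpace_of_compactSpace W.base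
  let e : W.Q ⟶ widePullback S Xb gb := WidePullback.lift W.base W.p W.hp
  obtain ⟨l, hl, hl'⟩ := W.lift (widePullback S Xb gb) (WidePullback.base gb)
    (fun i => WidePullback.π gb i) (fun i => WidePullback.π_arrow gb i)
  have hle : l ≫ e = 𝟙 _ := by
    apply WidePullback.hom_ext
    · intro j
      rw [Category.assoc, WidePullback.lift_π, hl' j, Category.id_comp]
    · rw [Category.assoc, WidePullback.lift_base, hl, Category.id_comp]
  have hsurj : Function.Surjective e := by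
    intro z
    refine ⟨l z, ?_⟩
    have := congr($(hle) z)
    exact this
  exact hsurj.compactSpace e.continuous

/-- extension of a finite type ideal along a quasi-compact open immersion into a qcqs scheme. -/
theorem exists_ft_extension {X Y : Scheme.{u}} [CompactSpace X] [QuasiSeparatedSpace X]
    (j : Y ⟶ X) [IsOpenImmersion j] [QuasiCompact j]
    (I : Y.IdealSheafData) (hI : BlowUp.IsFiniteTypeIdeal I) :
    ∃ 𝓙 : X.IdealSheafData, BlowUp.IsFiniteTypeIdeal 𝓙 ∧ 𝓙.comap j = I := by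
  haveI : CompactSpace Y := QuasiCompact.compactSpace_of_compactSpace j
  have hc : IsCompact (j.opensRange : Set X) := isCompact_range j.continuous
  set 𝓚 : X.IdealSheafData := I.map j with h𝓚
  have hK1 : ∀ W : X.affineOpens, W.1 ≤ j.opensRange → (𝓚.ideal W).FG := fun W hW =>
    fg_ideal_map_of_le_opensRange j I hI W hW
  obtain ⟨𝓙₁, hft₁, hle₁, hag₁⟩ := exists_ft_le_agree 𝓚 j.opensRange hc hK1
  refine ⟨𝓙₁, hft₁, ?_⟩
  have h1 : 𝓙₁.comap j = 𝓚.comap j := by
    apply Scheme.IdealSheafData.ext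
    funext W'
    rw [Scheme.IdealSheafData.ideal_comap_of_isOpenImmersion,
      Scheme.IdealSheafData.ideal_comap_of_isOpenImmersion]
    congr 1
    have hWV : (j ''ᵁ W'.1) ≤ j.opensRange := by
      intro x hx
      obtain ⟨z, -, rfl⟩ := hx
      exact ⟨z, rfl⟩
    exact hag₁ ⟨j ''ᵁ W'.1, W'.2.image_of_isOpenImmersion j⟩ hWV
  rw [h1]
  exact comap_map_of_isOpenImmersion j I

theorem mem_support_iff_of_comap_eq {X Y : Scheme.{u}} (j : Y ⟶ X) (I : Y.IdealSheafData)
    (𝓙 : X.IdealSheafData) (h : 𝓙.comap j = I) (y : Y) :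
    j y ∈ 𝓙.support ↔ y ∈ I.support := by
  rw [← h, Scheme.IdealSheafData.support_comap]
  rfl

theorem S17394_main {S X U : Scheme.{u}} [CompactSpace S] [QuasiSeparatedSpace S] {m : ℕ}
    (gX : X ⟶ S)
    (Xi Xb : Fin m → Scheme.{u}) (gb : ∀ i, Xb i ⟶ S) [∀ i, IsProper (gb i)]
    (o : ∀ i, Xi i ⟶ Xb i) [∀ i, IsOpenImmersion (o i)] [∀ i, QuasiCompact (o i)]
    (q : ∀ i, Xi i ⟶ X) [∀ i, IsProper (q i)] (hq : ∀ i, q i ≫ gX = o i ≫ gb i)
    (jU : U ⟶ X)
    (v : ∀ i, U ⟶ Xi i)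
    (hv : ∀ i, v i ≫ q i = jU) (w : ∀ i, (v i ≫ o i) ≫ gb i = jU ≫ gX)
    (Y : ∀ i, (Xi i).IdealSheafData) (hY : ∀ i, BlowUp.IsFiniteTypeIdeal (Y i))
    (hempty : ∀ z ∈ closure (Set.range
        (fun x => (WidePullback.lift (jU ≫ gX) (fun i => v i ≫ o i) w) x)),
      ∃ i, (WidePullback.π gb i) z ∉ (fun x => o i x) '' ((Y i).support : Set (Xi i))) :
    ∃ (𝓔 : ∀ i, (Xb i).IdealSheafData) (Xb' : Fin m → Scheme.{u}) (c : ∀ i, Xb' i ⟶ Xb i)
      (v' : ∀ i, U ⟶ Xb' i) (w' : ∀ i, v' i ≫ c i ≫ gb i = jU ≫ gX),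
      (∀ i, BlowUp.IsBlowUp (c i) (𝓔 i) ∧ BlowUp.IsAdmissibleFor (o i).opensRange (𝓔 i) ∧
        v' i ≫ c i = v i ≫ o i) ∧
      ∀ z ∈ closure (Set.range
          (fun x => (WidePullback.lift (jU ≫ gX) (fun i => v' i) w') x)),
        ∃ i, (WidePullback.π (fun i => c i ≫ gb i) i) z ∉
          closure ((fun y => c i y) ⁻¹' ((fun x => o i x) '' ((Y i).support : Set (Xi i)))) := by
  classical
  haveI : ∀ i, CompactSpace (Xb i) := fun i => QuasiCompact.compactSpace_of_compactSpace (gb i)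
  haveI : ∀ i, QuasiSeparatedSpace (Xb i) := fun i => quasiSeparatedSpace_of_quasiSeparated (gb i)
  haveI : CompactSpace ↑(widePullback S Xb gb) := compactSpace_widePullback Xb gb
  let π := fun i => WidePullback.π gb i
  let lU : U ⟶ widePullback S Xb gb := WidePullback.lift (jU ≫ gX) (fun i => v i ≫ o i) w
  -- step 1: extend the `Y i`
  have h1 := fun i => exists_ft_extension (o i) (Y i) (hY i)
  choose 𝓘 h𝓘ft h𝓘comap using h1
  have h𝓘supp : ∀ i (y : Xi i), o i y ∈ (𝓘 i).support ↔ y ∈ (Y i).support := fun i y =>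
    mem_support_iff_of_comap_eq (o i) (Y i) (𝓘 i) (h𝓘comap i) y
  -- the ideal of the closure of `U`
  let C : Closeds ↑(widePullback S Xb gb) :=
    ⟨closure (Set.range (fun x => lU x)), isClosed_closure⟩
  let 𝓑 : (widePullback S Xb gb).IdealSheafData := Scheme.IdealSheafData.vanishingIdeal C
  have h𝓑 : (𝓑.support : Set ↑(widePullback S Xb gb)) = closure (Set.range (fun x => lU x)) :=
    Scheme.IdealSheafData.coe_support_vanishingIdeal C
  let 𝓐 : (widePullback S Xb gb).IdealSheafData := (⨆ k, (𝓘 k).comap (π k)) ⊔ 𝓑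
  have hkey : ∀ i (z : ↑(widePullback S Xb gb)), z ∈ 𝓐.support →
      π i z ∉ Set.range (fun x => o i x) := by
    intro i z hz hzi
    have hz𝓑 : z ∈ closure (Set.range (fun x => lU x)) := by
      rw [← h𝓑]
      exact Scheme.IdealSheafData.support_antitone (le_sup_right : 𝓑 ≤ 𝓐) hz
    have hzk : ∀ k, π k z ∈ (𝓘 k).support := by
      intro k
      have h2 : z ∈ ((𝓘 k).comap (π k)).support :=
        Scheme.IdealSheafData.support_antitone
          ((le_iSup (fun k => (𝓘 k).comap (π k)) k).trans (le_sup_left : _ ≤ 𝓐)) hz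
      rw [Scheme.IdealSheafData.support_comap] at h2
      exact h2
    obtain ⟨k, hk⟩ := hempty z hz𝓑
    apply hk
    have hzk' : π k z ∈ Set.range (fun x => o k x) :=
      mem_range_of_mem_closure_of_isProper gX (gb i) (gb k) (o i) (o k) (q i) (q k) (hq i) (hq k)
        (π i) (π k) (by rw [WidePullback.π_arrow, WidePullback.π_arrow]) lU (v i) (v k)
        (WidePullback.lift_π _ _ _ _ _) (WidePullback.lift_π _ _ _ _ _)
        (by rw [hv i, hv k]) z hz𝓑 hzi
    obtain ⟨y, hy⟩ := hzk'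
    refine ⟨y, ?_, hy⟩
    have hy' : o k y = π k z := hy
    have h5 : y ∈ (Y k).support := by
      rw [← h𝓘supp k y, hy']
      exact hzk k
    exact h5
  have h𝓚top : ∀ i (W : (Xb i).affineOpens), W.1 ≤ (o i).opensRange →
      (𝓐.map (π i)).ideal W = ⊤ := by
    intro i W hW
    apply ideal_map_eq_top_of_disjoint (π i) 𝓐 W
    rw [Set.disjoint_left]
    rintro _ ⟨z, hz, rfl⟩ hzW
    exact hkey i z hz (hW hzW)
  have hco : ∀ i, IsCompact ((o i).opensRange : Set (Xb i)) := fun i => by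
    haveI : CompactSpace (Xi i) := QuasiCompact.compactSpace_of_compactSpace (o i)
    exact isCompact_range (o i).continuous
  have h2 := fun i => exists_ft_le_agree (𝓐.map (π i)) (o i).opensRange (hco i)
    (fun W hW => by rw [h𝓚top i W hW]; exact ⟨{1}, by simp⟩)
  choose 𝓙 h𝓙ft h𝓙le h𝓙ag using h2
  have h𝓙supp : ∀ i, Disjoint ((𝓙 i).support : Set (Xb i)) ((o i).opensRange : Set (Xb i)) :=
    fun i => disjoint_support_of_forall_ideal_eq_top (𝓙 i) _
      (fun W hW => by rw [h𝓙ag i W hW, h𝓚top i W hW])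
  let 𝓔 := fun i => 𝓘 i ⊔ 𝓙 i
  have h𝓔supp : ∀ i, Disjoint ((𝓔 i).support : Set (Xb i))
      ((o i).opensRange : Set (Xb i)) := by
    intro i
    refine (h𝓙supp i).mono_left ?_
    intro x hx
    exact Scheme.IdealSheafData.support_antitone (le_sup_right : 𝓙 i ≤ 𝓔 i) hx
  -- blow-ups
  have h3 := fun i => exists_isBlowUp (Xb i) (𝓔 i)
  choose Xb' c hc using h3
  have hEC : ∀ i, BlowUp.IsEffCartierIdeal ((𝓔 i).comap (v i ≫ o i)) := by
    intro i
    have : (𝓔 i).comap (v i ≫ o i) = ⊤ := by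
      rw [← Scheme.IdealSheafData.support_eq_bot_iff, Scheme.IdealSheafData.support_comap]
      ext y
      simp only [Closeds.coe_preimage, Set.mem_preimage, SetLike.mem_coe, Closeds.coe_bot,
        Set.mem_empty_iff_false, iff_false]
      intro hy
      exact Set.disjoint_left.mp (h𝓔supp i) hy ⟨v i y, rfl⟩
    rw [this]
    exact isEffCartierIdeal_top
  have h4 := fun i => ((hc i).2 U (v i ≫ o i) (hEC i)).exists
  choose v' hv' using h4
  have w' : ∀ i, v' i ≫ c i ≫ gb i = jU ≫ gX := fun i => by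
    rw [← Category.assoc, hv' i, w i]
  refine ⟨𝓔, Xb', c, v', w', fun i => ⟨hc i,
    ⟨isFiniteTypeIdeal_sup (h𝓘ft i) (h𝓙ft i), h𝓔supp i⟩, hv' i⟩, ?_⟩
  intro z' hz'
  by_contra hcon
  push Not at hcon
  let π' := fun i => WidePullback.π (fun i => c i ≫ gb i) i
  let fst : widePullback S Xb' (fun i => c i ≫ gb i) ⟶ widePullback S Xb gb :=
    WidePullback.lift (WidePullback.base _) (fun i => π' i ≫ c i) (fun i => by
      rw [Category.assoc, WidePullback.π_arrow])
  let lU' : U ⟶ widePullback S Xb' (fun i => c i ≫ gb i) :=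
    WidePullback.lift (jU ≫ gX) (fun i => v' i) w'
  have hfst : lU' ≫ fst = lU := by
    apply WidePullback.hom_ext
    · intro j
      rw [Category.assoc, WidePullback.lift_π, ← Category.assoc, WidePullback.lift_π,
        WidePullback.lift_π, hv' j]
    · rw [Category.assoc, WidePullback.lift_base, WidePullback.lift_base,
        WidePullback.lift_base]
  have hfx : ∀ x : U, fst (lU' x) = lU x := fun x => congr($(hfst) x)
  have hfz : fst z' ∈ closure (Set.range (fun x => lU x)) := by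
    refine map_mem_closure fst.continuous hz' ?_
    rintro _ ⟨x, rfl⟩
    exact ⟨x, (hfx x).symm⟩
  obtain ⟨i₀, -⟩ := hempty (fst z') hfz
  haveI : Nonempty (Fin m) := ⟨i₀⟩
  refine core_disjoint_multi 𝓘 𝓙 π c (fun i => (hc i).1) fst π'
    (fun i => WidePullback.lift_π _ _ _ _ _) 𝓑 ?_ (Set.range (fun x => lU' x)) ?_ ?_ z' hz' ?_
  · intro i
    rw [← Scheme.IdealSheafData.le_map_iff_comap_le]
    exact h𝓙le i
  · rintro _ ⟨x, rfl⟩
    change fst (lU' x) ∈ (𝓑.support : Set ↑(widePullback S Xb gb))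
    rw [h𝓑, hfx x]
    exact subset_closure ⟨x, rfl⟩
  · rintro _ ⟨x, rfl⟩ i hcon2
    have e1 : lU' ≫ π' i ≫ c i = v i ≫ o i := by
      rw [← Category.assoc, WidePullback.lift_π, hv' i]
    have e2 : c i (π' i (lU' x)) = o i (v i x) := congr($(e1) x)
    rw [e2] at hcon2
    exact Set.disjoint_left.mp (h𝓔supp i) hcon2 ⟨_, rfl⟩
  · intro i
    refine closure_preimage_subset_range_strictι (𝓔 i) (𝓘 i) (c i) (hc i).1
      ((fun x => o i x) '' ((Y i).support : Set (Xi i))) ?_ ?_ (hcon i)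
    · rintro _ ⟨y, hy, rfl⟩
      exact (h𝓘supp i y).mpr hy
    · rw [Set.disjoint_left]
      rintro _ ⟨y, hy, rfl⟩ h
      exact Set.disjoint_left.mp (h𝓔supp i) h ⟨y, rfl⟩

end S17394

end Groth.Agent.H9.BLA
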