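import Mathlib
import Groth.Agent.Lib.Helper9.Misc.BLA26
import Groth.Prelude.Def_W4c6modpairsegaMP

/-! Helper9: S19336: a Zariski covering of the interior of a modulus pair extends to a Zariski
covering of the total space after an admissible blow-up. -/

set_option linter.style.haveILetI false
set_option linter.unusedSectionVars false
set_option linter.unusedVariables false

universe u
open CategoryTheory Limits AlgebraicGeometry TopologicalSpace Opposite Topology

namespace Groth.Agent.H9.BLA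

open Groth.Agent.LD Groth.Agent.LD.QC

section S19336
variable {S : Scheme.{u}}

theorem isFiniteTypeIdeal_iSup_of_finite {κ : Type*} [Finite κ] (𝓙 : κ → S.IdealSheafData)
    (h : ∀ k, BlowUp.IsFiniteTypeIdeal (𝓙 k)) : BlowUp.IsFiniteTypeIdeal (⨆ k, 𝓙 k) := by
  intro U
  rw [Scheme.IdealSheafData.ideal_iSup, iSup_apply]
  exact Submodule.fg_iSup _ (fun k => h k U)

theorem S19336_main [CompactSpace S] [QuasiSeparatedSpace S] (I : S.IdealSheafData)
    (hI : BlowUp.IsEffCartierIdeal I) {ι : Type u} (V : ι → S.Opens)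
    (hVU : ∀ i, V i ≤ ModPair.interior I) (hVqc : ∀ i, IsCompact (V i : Set S))
    (hcov : ModPair.interior I ≤ ⨆ i, V i) :
    ∃ (F : S.IdealSheafData) (Y : Scheme.{u}) (b : Y ⟶ S) (κ : Type u) (W : κ → Y.Opens),
      BlowUp.IsAdmissibleFor (ModPair.interior I) F ∧ BlowUp.IsBlowUp b F ∧
        BlowUp.IsEffCartierIdeal (I.comap b) ∧ (∀ k, IsCompact (W k : Set Y)) ∧
        (⨆ k, W k) = ⊤ ∧ ∀ k, ∃ i, W k ⊓ b ⁻¹ᵁ ModPair.interior I ≤ b ⁻¹ᵁ V i := by
  classical
  set U : S.Opens := ModPair.interior I with hU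
  haveI : IsAffineHom U.ι := isAffineHom_compl_of_locPrincipal I (fun x _ => by
    obtain ⟨W, hx, a, _, h⟩ := hI x
    exact ⟨W, hx, a, h⟩)
  haveI : CompactSpace (U : Scheme.{u}) := QuasiCompact.compactSpace_of_compactSpace U.ι
  have hUc : IsCompact (U : Set S) := isCompact_iff_compactSpace.mpr ‹CompactSpace (U : Scheme.{u})›
  have hcov' : (U : Set S) ⊆ ⋃ i, (V i : Set S) := by
    intro x hx
    have := hcov hx
    rw [Opens.mem_iSup] at this
    obtain ⟨i, hi⟩ := this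
    exact Set.mem_iUnion.mpr ⟨i, hi⟩
  obtain ⟨t, ht⟩ := hUc.elim_finite_subcover (fun i => (V i : Set S)) (fun i => (V i).2) hcov'
  have h1 := fun i => exists_ft_ideal_support_eq ((V i : Set S)ᶜ) (V i).2.isClosed_compl
    (by rw [compl_compl]; exact hVqc i)
  choose 𝓘 h𝓘ft h𝓘supp using h1
  set F : S.IdealSheafData := ⨆ k : t, 𝓘 k.1 with hF
  have hFft : BlowUp.IsFiniteTypeIdeal F := isFiniteTypeIdeal_iSup_of_finite _ (fun k => h𝓘ft k.1)
  have hFsupp : Disjoint (F.support : Set S) (U : Set S) := by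
    rw [Set.disjoint_left]
    intro x hxF hxU
    obtain ⟨i, hit, hxi⟩ := Set.mem_iUnion₂.mp (ht hxU)
    have h2 : x ∈ (𝓘 i).support :=
      Scheme.IdealSheafData.support_antitone (le_iSup (fun k : t => 𝓘 k.1) ⟨i, hit⟩) hxF
    have h3 : x ∈ ((𝓘 i).support : Set S) := h2
    rw [h𝓘supp i] at h3
    exact h3 hxi
  obtain ⟨Y, b, hb⟩ := exists_isBlowUp S F
  let κ : Type u := {W : Y.Opens // IsAffineOpen W ∧ ∃ i, W ⊓ b ⁻¹ᵁ U ≤ b ⁻¹ᵁ V i}
  refine ⟨F, Y, b, κ, fun k => k.1, ⟨hFft, hFsupp⟩, hb,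
    IsBlowUp.isEffCartierIdeal_comap hb I hI, fun k => k.2.1.isCompact, ?_, fun k => k.2.2⟩
  rw [eq_top_iff]
  intro y _
  rw [Opens.mem_iSup]
  obtain ⟨k, A, s, hs, A', hA', hyA', hgen⟩ :=
    exists_gen_of_iSup (fun k : t => 𝓘 k.1) b hb.1 y
  refine ⟨⟨A'.1, A'.2, k.1, ?_⟩, hyA'⟩
  rintro y' ⟨hy'A', hy'U⟩
  have hy' : y' ∉ (F.comap b).support := by
    rw [Scheme.IdealSheafData.support_comap]
    intro hcon
    exact Set.disjoint_left.mp hFsupp hcon hy'U
  have h4 := mem_basicOpen_of_notMem_support (F.comap b) A' y' hy'A' hy' _ hgen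
  rw [Scheme.basicOpen_appLE] at h4
  have h5 : b y' ∉ ((𝓘 k.1).support : Set S) := by
    intro hcon
    exact notMem_basicOpen_of_mem_support (𝓘 k.1) A (b y') (hA' hy'A') hcon s hs h4.2
  rw [h𝓘supp k.1] at h5
  change b y' ∈ (V k.1 : Set S)
  by_contra hcon
  exact h5 hcon

end S19336

end Groth.Agent.H9.BLA
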