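import Mathlib
import Groth.Agent.Lib.Helper9.Misc.BLA26
import Groth.Agent.Lib.Helper9.Misc.MDP1
import Groth.Agent.Lib.Lead.QC.BlowUpDense

/-! Helper9: S17390 (Conrad): a quasi-domination of a blow-up over `V` is the blow-up of `V` in
the inverse image ideal. -/

set_option linter.style.haveILetI false
set_option linter.unusedSectionVars false
set_option linter.unusedVariables false

universe u
open CategoryTheory Limits AlgebraicGeometry TopologicalSpace Opposite Topology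

namespace Groth.Agent.H9.BLA

open Groth.Agent.LD Groth.Agent.LD.QC

section S17390

theorem isPullback_id_of_mono {A B C : Scheme.{u}} (f : A ⟶ B) (g : B ⟶ C) [Mono g] :
    IsPullback (𝟙 A) f (f ≫ g) g := by
  refine ⟨⟨by simp⟩, ⟨PullbackCone.IsLimit.mk _ (fun s => s.fst) (fun s => by simp)
    (fun s => ?_) (fun s m h1 h2 => by simpa using h1)⟩⟩
  rw [← cancel_mono g, Category.assoc]
  exact s.condition

theorem schDominant_of_comp_flat_mono {A B C : Scheme.{u}} (f : A ⟶ B) (g : B ⟶ C) [Mono g]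
    [Flat g] [IsSchemeTheoreticallyDominant (f ≫ g)] [QuasiCompact (f ≫ g)] :
    IsSchemeTheoreticallyDominant f :=
  IsSchemeTheoreticallyDominant.of_isPullback (isPullback_id_of_mono f g)

theorem comap_eq_top_of_disjoint {A B : Scheme.{u}} (f : A ⟶ B) (𝓘 : B.IdealSheafData)
    (h : Disjoint (𝓘.support : Set B) (Set.range f)) : 𝓘.comap f = ⊤ := by
  rw [← Scheme.IdealSheafData.support_eq_bot_iff, Scheme.IdealSheafData.support_comap]
  ext y
  simp only [Closeds.coe_preimage, Set.mem_preimage, SetLike.mem_coe, Closeds.coe_bot,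
    Set.mem_empty_iff_false, iff_false]
  intro hy
  exact Set.disjoint_left.mp h hy ⟨y, rfl⟩

theorem S17390_main
    {S U X Y Xt : Scheme.{u}} [CompactSpace S] [QuasiSeparatedSpace S]
    (gX : X ⟶ S) (gY : Y ⟶ S)
    [IsSeparated gX] [QuasiCompact gX] [LocallyOfFiniteType gX]
    [IsSeparated gY] [QuasiCompact gY] [LocallyOfFiniteType gY]
    (jX : U ⟶ X) [IsOpenImmersion jX] [IsDominant jX] [CompactSpace U]
    (V : Y.Opens) (hVc : IsCompact (V : Set Y))
    (jV : U ⟶ (V : Scheme.{u})) [IsOpenImmersion jV] [IsSchemeTheoreticallyDominant jV]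
    [IsDominant (jV ≫ V.ι)]
    (φ : (V : Scheme.{u}) ⟶ X) (hφU : jV ≫ φ = jX) (hφ : V.ι ≫ gY = φ ≫ gX)
    (hφcl : IsClosed (Set.range (fun x => pullback.lift V.ι φ hφ x)))
    (𝓘 : X.IdealSheafData) (h𝓘 : BlowUp.IsAdmissibleFor jX.opensRange 𝓘)
    (b : Xt ⟶ X) (hb : BlowUp.IsBlowUp b 𝓘)
    (W : Xt.Opens) (u : U ⟶ (W : Scheme.{u})) (hu : u ≫ W.ι ≫ b = jX)
    [IsSchemeTheoreticallyDominant (u ≫ W.ι)]
    (ψ : (W : Scheme.{u}) ⟶ (V : Scheme.{u})) (hψU : u ≫ ψ = jV)
    (hψ : W.ι ≫ b ≫ gX = ψ ≫ V.ι ≫ gY)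
    (hψcl : IsClosed (Set.range (fun x => pullback.lift W.ι ψ hψ x))) :
    BlowUp.IsBlowUp ψ (𝓘.comap φ) ∧
      IsClosed (Set.range (fun x => pullback.lift (f := b ≫ gX) (g := gY) W.ι (ψ ≫ V.ι)
        (hψ.trans (Category.assoc ψ V.ι gY).symm) x)) := by
  classical
  haveI hbsep : IsSeparated b := IsBlowUp.isSeparated hb
  haveI : QuasiSeparatedSpace X := quasiSeparatedSpace_of_quasiSeparated gX
  haveI : QuasiSeparatedSpace Xt := quasiSeparatedSpace_of_quasiSeparated b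
  haveI : QuasiSeparatedSpace Y := quasiSeparatedSpace_of_quasiSeparated gY
  haveI : QuasiSeparatedSpace (V : Scheme.{u}) := quasiSeparatedSpace_of_quasiSeparated V.ι
  haveI : QuasiSeparatedSpace (W : Scheme.{u}) := quasiSeparatedSpace_of_quasiSeparated W.ι
  haveI hudom : IsSchemeTheoreticallyDominant u := schDominant_of_comp_flat_mono u W.ι
  -- the two morphisms `W → X` agree
  have hL3 : ψ ≫ φ = W.ι ≫ b := by
    refine MDP.ext_of_schDominant_of_isSeparated gX ?_ u ?_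
    · rw [Category.assoc, Category.assoc, ← hφ, hψ]
    · rw [← Category.assoc, hψU, hφU, hu]
  have hIU : 𝓘.comap jX = ⊤ := by
    apply comap_eq_top_of_disjoint
    have := h𝓘.2
    rwa [Scheme.Hom.coe_opensRange] at this
  -- the blow-up of `V`
  obtain ⟨Vt, β, hβ⟩ := exists_isBlowUp (V : Scheme.{u}) (𝓘.comap φ)
  haveI hβsep : IsSeparated β := IsBlowUp.isSeparated hβ
  haveI : QuasiSeparatedSpace Vt := quasiSeparatedSpace_of_quasiSeparated β
  have hEW : BlowUp.IsEffCartierIdeal ((𝓘.comap φ).comap ψ) := by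
    rw [← Scheme.IdealSheafData.comap_comp, hL3, Scheme.IdealSheafData.comap_comp]
    exact isEffCartierIdeal_comap_of_flat W.ι _ hb.1
  obtain ⟨k, hk, -⟩ := hβ.2 _ ψ hEW
  have hEγ : BlowUp.IsEffCartierIdeal (𝓘.comap (β ≫ φ)) := by
    rw [Scheme.IdealSheafData.comap_comp]
    exact hβ.1
  obtain ⟨γ, hγ, -⟩ := hb.2 _ (β ≫ φ) hEγ
  have hKU : (𝓘.comap φ).comap jV = ⊤ := by
    rw [← Scheme.IdealSheafData.comap_comp, hφU, hIU]
  obtain ⟨ut, hut, -⟩ := hβ.2 _ jV (by rw [hKU]; exact isEffCartierIdeal_top)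
  have hkγ : W.ι = k ≫ γ := by
    refine IsBlowUp.hom_ext_of_flat hb W.ι (k ≫ γ) ?_
    rw [Category.assoc, hγ, ← Category.assoc, hk, hL3]
  have hutγ : ut ≫ γ = u ≫ W.ι := by
    refine IsBlowUp.hom_ext hb (ut ≫ γ) (u ≫ W.ι) ?_ ?_
    · rw [Category.assoc, hγ, ← Category.assoc, hut, hφU, hIU]
      exact isEffCartierIdeal_top
    · rw [Category.assoc, hγ, ← Category.assoc, hut, hφU, Category.assoc, hu]
  have huk : u ≫ k = ut := by
    refine IsBlowUp.hom_ext hβ (u ≫ k) ut ?_ ?_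
    · rw [Category.assoc, hk, hψU, hKU]
      exact isEffCartierIdeal_top
    · rw [Category.assoc, hk, hψU, hut]
  -- `ut` is schematically dominant
  have hdisj : Disjoint ((𝓘.comap φ).support : Set (V : Scheme.{u}))
      (jV.opensRange : Set (V : Scheme.{u})) := by
    rw [Set.disjoint_left]
    rintro x hx ⟨y, rfl⟩
    rw [Scheme.IdealSheafData.support_comap] at hx
    have hx' : φ (jV y) ∈ 𝓘.support := hx
    have h2 : φ (jV y) = jX y := by rw [← hφU]; rfl
    rw [h2] at hx'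
    exact Set.disjoint_left.mp h𝓘.2 hx' ⟨y, rfl⟩
  haveI : IsSchemeTheoreticallyDominant (jV.isoOpensRange.hom ≫ jV.opensRange.ι) := by
    rw [Scheme.Hom.isoOpensRange_hom_ι]; infer_instance
  haveI : IsSchemeTheoreticallyDominant jV.opensRange.ι :=
    MDP.isSchemeTheoreticallyDominant_of_comp jV.isoOpensRange.hom _
  haveI : CompactSpace (jV.opensRange : Scheme.{u}) :=
    jV.isoOpensRange.hom.homeomorph.compactSpace
  haveI : QuasiCompact jV.opensRange.ι := inferInstance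
  haveI hpre : IsSchemeTheoreticallyDominant (β ⁻¹ᵁ jV.opensRange).ι :=
    IsBlowUp.isSchemeTheoreticallyDominant_preimage hβ jV.opensRange hdisj
  let r : ((β ⁻¹ᵁ jV.opensRange : Vt.Opens) : Scheme.{u}) ⟶ U :=
    IsOpenImmersion.lift jV ((β ⁻¹ᵁ jV.opensRange).ι ≫ β) (by
      rintro _ ⟨x, rfl⟩
      exact x.2)
  have hr : r ≫ jV = (β ⁻¹ᵁ jV.opensRange).ι ≫ β := IsOpenImmersion.lift_fac _ _ _
  have hrut : (β ⁻¹ᵁ jV.opensRange).ι = r ≫ ut := by
    refine IsBlowUp.hom_ext_of_flat hβ _ _ ?_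
    rw [Category.assoc, hut, hr]
  haveI : IsSchemeTheoreticallyDominant (r ≫ ut) := by rw [← hrut]; exact hpre
  haveI hutdom : IsSchemeTheoreticallyDominant ut :=
    MDP.isSchemeTheoreticallyDominant_of_comp r ut
  haveI : QuasiCompact ut := inferInstance
  have hutdense : DenseRange ut := ut.denseRange
  -- `γ` lands in `W`
  have hm : γ ≫ b ≫ gX = β ≫ V.ι ≫ gY := by
    rw [← Category.assoc, hγ, Category.assoc, hφ]
  let g₁ : (W : Scheme.{u}) ⟶ pullback (b ≫ gX) (V.ι ≫ gY) := pullback.lift W.ι ψ hψ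
  let m : Vt ⟶ pullback (b ≫ gX) (V.ι ≫ gY) := pullback.lift γ β hm
  have hutm : ut ≫ m = u ≫ g₁ := by
    apply pullback.hom_ext
    · simp only [m, g₁, Category.assoc, pullback.lift_fst]; exact hutγ
    · simp only [m, g₁, Category.assoc, pullback.lift_snd]; rw [hut, hψU]
  have hcl1 : IsClosed (m ⁻¹' Set.range g₁) := hψcl.preimage m.continuous
  have hsub1 : Set.range ut ⊆ m ⁻¹' Set.range g₁ := by
    rintro _ ⟨y, rfl⟩
    refine ⟨u y, ?_⟩
    change (u ≫ g₁) y = (ut ≫ m) y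
    rw [hutm]
  have huniv : ∀ v : Vt, m v ∈ Set.range g₁ := by
    intro v
    have h1 : closure (Set.range ut) ⊆ m ⁻¹' Set.range g₁ := hcl1.closure_subset_iff.mpr hsub1
    exact h1 (hutdense v)
  have hγW : Set.range γ ⊆ Set.range W.ι := by
    rintro _ ⟨v, rfl⟩
    obtain ⟨w, hw⟩ := huniv v
    refine ⟨w, ?_⟩
    have h1 : (g₁ ≫ pullback.fst _ _) w = (m ≫ pullback.fst _ _) v :=
      congrArg (⇑(pullback.fst (b ≫ gX) (V.ι ≫ gY))) hw
    simpa only [g₁, m, pullback.lift_fst] using h1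
  let h : Vt ⟶ (W : Scheme.{u}) := IsOpenImmersion.lift W.ι γ hγW
  have hh : h ≫ W.ι = γ := IsOpenImmersion.lift_fac _ _ _
  have hkh : k ≫ h = 𝟙 _ := by
    rw [← cancel_mono W.ι, Category.assoc, hh, ← hkγ, Category.id_comp]
  have huth : ut ≫ h = u := by
    rw [← cancel_mono W.ι, Category.assoc, hh, hutγ]
  have hhψ : h ≫ ψ = β := by
    refine MDP.ext_of_schDominant_of_isSeparated (V.ι ≫ gY) ?_ ut ?_
    · rw [Category.assoc, ← hψ, ← Category.assoc, hh, hm]
    · rw [← Category.assoc, huth, hψU, hut]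
  have hhk : h ≫ k = 𝟙 _ := by
    refine IsBlowUp.hom_ext hβ (h ≫ k) (𝟙 _) ?_ ?_
    · rw [Category.assoc, hk, hhψ]; exact hβ.1
    · rw [Category.assoc, hk, hhψ, Category.id_comp]
  refine ⟨?_, ?_⟩
  · have h1 := isBlowUp_of_iso_source (⟨k, h, hkh, hhk⟩ : (W : Scheme.{u}) ≅ Vt) hβ
    rwa [show (⟨k, h, hkh, hhk⟩ : (W : Scheme.{u}) ≅ Vt).hom ≫ β = ψ from hk] at h1
  · -- closedness of the graph in `Xt ×_S Y`
    set g₂ : (W : Scheme.{u}) ⟶ pullback (b ≫ gX) gY :=
      pullback.lift (f := b ≫ gX) (g := gY) W.ι (ψ ≫ V.ι)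
        (hψ.trans (Category.assoc ψ V.ι gY).symm) with hg₂
    let gφ : (V : Scheme.{u}) ⟶ pullback gY gX := pullback.lift V.ι φ hφ
    let τ : pullback (b ≫ gX) gY ⟶ pullback gY gX :=
      pullback.lift (pullback.snd _ _) (pullback.fst _ _ ≫ b) (by
        rw [Category.assoc, pullback.condition])
    have hg₂τ : g₂ ≫ τ = ψ ≫ gφ := by
      apply pullback.hom_ext
      · simp only [g₂, τ, gφ, Category.assoc, pullback.lift_fst, pullback.lift_snd]
      · simp only [g₂, τ, gφ, Category.assoc, pullback.lift_fst, pullback.lift_snd,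
          pullback.lift_fst_assoc]
        exact hL3.symm
    have hTcl : IsClosed (τ ⁻¹' Set.range gφ) := hφcl.preimage τ.continuous
    have hG₂T : Set.range g₂ ⊆ τ ⁻¹' Set.range gφ := by
      rintro _ ⟨w, rfl⟩
      refine ⟨ψ w, ?_⟩
      change (ψ ≫ gφ) w = (g₂ ≫ τ) w
      rw [hg₂τ]
    set O₂ : (pullback (b ≫ gX) gY).Opens := pullback.snd (b ≫ gX) gY ⁻¹ᵁ V with hO₂
    have hTO : τ ⁻¹' Set.range gφ ⊆ (O₂ : Set _) := by
      rintro z ⟨v, hv⟩
      change pullback.snd (b ≫ gX) gY z ∈ V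
      have h1 : (gφ ≫ pullback.fst _ _) v = (τ ≫ pullback.fst _ _) z :=
        congrArg (⇑(pullback.fst gY gX)) hv
      simp only [gφ, τ, pullback.lift_fst] at h1
      rw [← h1]
      exact v.2
    let κ : (O₂ : Scheme.{u}) ⟶ pullback (b ≫ gX) (V.ι ≫ gY) :=
      pullback.lift (O₂.ι ≫ pullback.fst _ _) (pullback.snd (b ≫ gX) gY ∣_ V) (by
        rw [← Category.assoc (pullback.snd (b ≫ gX) gY ∣_ V), morphismRestrict_ι, Category.assoc,
          Category.assoc, pullback.condition])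
    let θ : pullback (b ≫ gX) (V.ι ≫ gY) ⟶ pullback (b ≫ gX) gY :=
      pullback.lift (pullback.fst _ _) (pullback.snd _ _ ≫ V.ι) (by
        rw [Category.assoc]; exact pullback.condition)
    have hκθ : κ ≫ θ = O₂.ι := by
      apply pullback.hom_ext
      · simp only [κ, θ, Category.assoc, pullback.lift_fst]
      · simp only [κ, θ, Category.assoc, pullback.lift_snd, pullback.lift_snd_assoc]
        exact morphismRestrict_ι _ _
    have hg₁θ : g₁ ≫ θ = g₂ := by
      apply pullback.hom_ext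
      · simp only [g₁, g₂, θ, Category.assoc, pullback.lift_fst]
      · simp only [g₁, g₂, θ, Category.assoc, pullback.lift_snd, pullback.lift_snd_assoc]
    have hg₂O : Set.range g₂ ⊆ Set.range O₂.ι := by
      rw [Scheme.Opens.range_ι]
      exact hG₂T.trans hTO
    let g₂' : (W : Scheme.{u}) ⟶ (O₂ : Scheme.{u}) := IsOpenImmersion.lift O₂.ι g₂ hg₂O
    have hg₂' : g₂' ≫ O₂.ι = g₂ := IsOpenImmersion.lift_fac _ _ _
    have hg₂'κ : g₂' ≫ κ = g₁ := by
      apply pullback.hom_ext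
      · simp only [κ, g₁, Category.assoc, pullback.lift_fst]
        rw [← Category.assoc, hg₂']
        simp only [g₂, pullback.lift_fst]
      · rw [← cancel_mono V.ι]
        simp only [κ, g₁, Category.assoc, pullback.lift_snd]
        rw [morphismRestrict_ι, ← Category.assoc, hg₂']
        simp only [g₂, pullback.lift_snd]
    have hcl2 : IsClosed (κ ⁻¹' Set.range g₁) := hψcl.preimage κ.continuous
    change IsClosed (Set.range g₂)
    refine isClosed_of_closure_subset ?_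
    intro z hz
    have hzT : z ∈ τ ⁻¹' Set.range gφ := hTcl.closure_subset_iff.mpr hG₂T hz
    have hzO : z ∈ O₂ := hTO hzT
    let z₀ : (O₂ : Scheme.{u}) := ⟨z, hzO⟩
    have hz₀ : O₂.ι z₀ = z := rfl
    have h1 : z₀ ∈ closure ((fun w => O₂.ι w) ⁻¹' Set.range g₂) :=
      mem_closure_preimage_ι O₂ _ z₀ (by rw [hz₀]; exact hz)
    have h2 : (fun w => O₂.ι w) ⁻¹' Set.range g₂ ⊆ κ ⁻¹' Set.range g₁ := by
      rintro z₁ ⟨w, hw⟩
      refine ⟨w, ?_⟩
      have hw' : g₂ w = O₂.ι z₁ := hw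
      have h3 : O₂.ι (g₂' w) = O₂.ι z₁ := by
        rw [← hw']
        change (g₂' ≫ O₂.ι) w = g₂ w
        rw [hg₂']
      have h4 : g₂' w = z₁ := O₂.ι.isOpenEmbedding.injective h3
      rw [← h4]
      change g₁ w = (g₂' ≫ κ) w
      rw [hg₂'κ]
    have h4 : κ z₀ ∈ Set.range g₁ := hcl2.closure_subset_iff.mpr h2 h1
    obtain ⟨w, hw⟩ := h4
    refine ⟨w, ?_⟩
    have h5 : (g₁ ≫ θ) w = (κ ≫ θ) z₀ := congrArg (⇑θ) hw
    rw [hg₁θ, hκθ] at h5
    exact h5

end S17390

end Groth.Agent.H9.BLA
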