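import Mathlib
import Groth.Agent.Lib.Helper9.Misc.BLA24

/-! Helper9: S9823: quasi-compact opens of a qcqs scheme are the complements of supports of
finite type ideal sheaves. -/

set_option linter.style.haveILetI false
set_option linter.unusedSectionVars false
set_option linter.unusedVariables false

universe u
open CategoryTheory Limits AlgebraicGeometry TopologicalSpace Opposite

namespace Groth.Agent.H9.BLA

theorem S9823_main (X : Scheme.{u}) [CompactSpace X] [QuasiSeparatedSpace X] (U : X.Opens) :
    IsCompact (U : Set X) ↔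
      ∃ I : X.IdealSheafData, (∀ V : X.affineOpens, (I.ideal V).FG) ∧
        (I.support : Set X) = (U : Set X)ᶜ := by
  constructor
  · intro hU
    obtain ⟨𝓘, hft, hs⟩ := exists_ft_ideal_support_eq (U : Set X)ᶜ U.isOpen.isClosed_compl
      (by rwa [compl_compl])
    exact ⟨𝓘, hft, hs⟩
  · rintro ⟨I, hfg, hs⟩
    obtain ⟨S, hS, hcov⟩ := (isCompact_and_isOpen_iff_finite_and_eq_biUnion_affineOpens
      (X := X) (U := Set.univ)).mp ⟨isCompact_univ, isOpen_univ⟩
    have hU : (U : Set X) = ⋃ V ∈ S, ((U : Set X) ∩ ((V : X.Opens) : Set X)) := by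
      rw [← Set.inter_iUnion₂, ← hcov, Set.inter_univ]
    rw [hU]
    refine hS.isCompact_biUnion (fun V _ => ?_)
    obtain ⟨s, hs'⟩ := hfg V
    have h1 : (U : Set X) ∩ ((V : X.Opens) : Set X) = ⋃ f ∈ s, (X.basicOpen f : Set X) := by
      ext x
      simp only [Set.mem_inter_iff, SetLike.mem_coe, Set.mem_iUnion, exists_prop]
      constructor
      · rintro ⟨hxU, hxV⟩
        have hx : x ∉ I.support := by
          intro hx
          have : x ∈ (U : Set X)ᶜ := hs ▸ hx
          exact this hxU
        rw [Scheme.IdealSheafData.mem_support_iff_of_mem (U := V) hxV, ← hs',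
          Scheme.zeroLocus_span, Scheme.mem_zeroLocus_iff] at hx
        push Not at hx
        obtain ⟨f, hf, hxf⟩ := hx
        exact ⟨f, hf, hxf⟩
      · rintro ⟨f, hf, hxf⟩
        have hxV : x ∈ V.1 := X.basicOpen_le f hxf
        refine ⟨?_, hxV⟩
        by_contra hxU
        have hx : x ∈ I.support := by
          have : x ∈ (U : Set X)ᶜ := hxU
          rw [← hs] at this
          exact this
        rw [Scheme.IdealSheafData.mem_support_iff_of_mem (U := V) hxV, ← hs',
          Scheme.zeroLocus_span, Scheme.mem_zeroLocus_iff] at hx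
        exact hx f hf hxf
    rw [h1]
    exact s.finite_toSet.isCompact_biUnion (fun f _ => (V.2.basicOpen f).isCompact)

end Groth.Agent.H9.BLA
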