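import Mathlib
import Groth.Prelude.Def_W4c6intromoduliQuartic

/-! Helper9: binary quartics with a double zero (S20025). -/

namespace Groth.Agent.H9.BQ

open MvPolynomial W4c6intromoduli

universe u

section
variable {k : Type u} [Field k]

noncomputable def ell (a b : k) : MvPolynomial (Fin 2) k := C b * X 0 - C a * X 1

lemma subst_X (M : Matrix (Fin 2) (Fin 2) k) (i : Fin 2) :
    subst M (X i) = C (M i 0) * X 0 + C (M i 1) * X 1 := by
  simp [subst, Fin.sum_univ_two]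

lemma subst_form1 (M : Matrix (Fin 2) (Fin 2) k) :
    subst M (X 0 ^ 2 * X 1 * (X 0 - X 1)) =
      (C (M 0 0) * X 0 + C (M 0 1) * X 1) ^ 2 * (C (M 1 0) * X 0 + C (M 1 1) * X 1) *
        ((C (M 0 0) * X 0 + C (M 0 1) * X 1) - (C (M 1 0) * X 0 + C (M 1 1) * X 1)) := by
  simp only [map_mul, map_pow, map_sub, subst_X]

lemma subst_form2 (M : Matrix (Fin 2) (Fin 2) k) :
    subst M (X 0 ^ 2 * X 1 ^ 2) =
      (C (M 0 0) * X 0 + C (M 0 1) * X 1) ^ 2 * (C (M 1 0) * X 0 + C (M 1 1) * X 1) ^ 2 := by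
  simp only [map_mul, map_pow, subst_X]

lemma prop_scalar {a b a' b' : k} (h : a ≠ 0 ∨ b ≠ 0) (h' : a' ≠ 0 ∨ b' ≠ 0)
    (hp : a' * b = a * b') : ∃ s : k, s ≠ 0 ∧ a' = s * a ∧ b' = s * b := by
  by_cases hb : b = 0
  · have ha : a ≠ 0 := by
      rcases h with h | h
      · exact h
      · exact absurd hb h
    subst hb
    have hb' : b' = 0 := by
      have : a * b' = 0 := by rw [← hp]; ring
      rcases mul_eq_zero.1 this with h1 | h1
      · exact absurd h1 ha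
      · exact h1
    subst hb'
    have ha' : a' ≠ 0 := by
      rcases h' with h1 | h1
      · exact h1
      · exact absurd rfl h1
    refine ⟨a' / a, div_ne_zero ha' ha, ?_, ?_⟩
    · field_simp
    · simp
  · have hs : b' ≠ 0 := by
      intro hb'
      subst hb'
      have : a' * b = 0 := by rw [hp]; ring
      rcases mul_eq_zero.1 this with h1 | h1
      · rcases h' with h2 | h2
        · exact h2 h1
        · exact h2 rfl
      · exact hb h1
    refine ⟨b' / b, div_ne_zero hs hb, ?_, ?_⟩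
    · field_simp
      linear_combination hp
    · field_simp

lemma ell_smul (s a b : k) : ell (s * a) (s * b) = C s * ell a b := by
  simp only [ell, map_mul]
  ring

/-- Case A. -/
lemma caseA {a1 b1 a2 b2 a3 b3 a4 b4 : k} (h1 : a1 ≠ 0 ∨ b1 ≠ 0) (h2 : a2 ≠ 0 ∨ b2 ≠ 0)
    (h12 : a2 * b1 = a1 * b2) (h13 : a1 * b3 - a3 * b1 ≠ 0) (h14 : a1 * b4 - a4 * b1 ≠ 0)
    (h34 : a3 * b4 - a4 * b3 ≠ 0) :
    ∃ (M : Matrix (Fin 2) (Fin 2) k) (c : k), IsUnit M.det ∧ c ≠ 0 ∧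
      ell a1 b1 * ell a2 b2 * ell a3 b3 * ell a4 b4 =
        C c * subst M (X 0 ^ 2 * X 1 * (X 0 - X 1)) := by
  obtain ⟨s, hs, rfl, rfl⟩ := prop_scalar h1 h2 h12
  set D := a3 * b4 - a4 * b3 with hD
  set β := (a1 * b4 - a4 * b1) / D with hβ
  set γ := (a3 * b1 - a1 * b3) / D with hγ
  have hβ0 : β ≠ 0 := div_ne_zero h14 h34
  have hγ0 : γ ≠ 0 := by
    refine div_ne_zero ?_ h34
    intro h
    apply h13
    linear_combination -h
  have ea : a1 = β * a3 + γ * a4 := by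
    rw [hβ, hγ]
    field_simp
    rw [hD]
    ring
  have eb : b1 = β * b3 + γ * b4 := by
    rw [hβ, hγ]
    field_simp
    rw [hD]
    ring
  refine ⟨!![b1, -a1; β * b3, -(β * a3)], s / (β * γ), ?_, ?_, ?_⟩
  · rw [Matrix.det_fin_two_of, isUnit_iff_ne_zero]
    intro h
    have : β * (a1 * b3 - a3 * b1) = 0 := by linear_combination h
    rcases mul_eq_zero.1 this with h' | h'
    · exact hβ0 h'
    · exact h13 h'
  · exact div_ne_zero hs (mul_ne_zero hβ0 hγ0)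
  · rw [subst_form1, ell_smul]
    simp only [Matrix.of_apply, Matrix.cons_val', Matrix.cons_val_zero, Matrix.cons_val_one,
      Matrix.empty_val', Matrix.cons_val_fin_one]
    have key : ell a1 b1 - C β * ell a3 b3 = C γ * ell a4 b4 := by
      simp only [ell]
      conv_lhs => rw [ea, eb]
      simp only [map_add, map_mul]
      ring
    have e1 : (C b1 * X 0 + C (-a1) * X 1 : MvPolynomial (Fin 2) k) = ell a1 b1 := by
      simp only [ell, map_neg]; ring
    have e2 : (C (β * b3) * X 0 + C (-(β * a3)) * X 1 : MvPolynomial (Fin 2) k) =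
        C β * ell a3 b3 := by
      simp only [ell, map_neg, map_mul]; ring
    rw [e1, e2, key]
    have hc : (C (s / (β * γ)) : MvPolynomial (Fin 2) k) * C β * C γ = C s := by
      rw [← map_mul, ← map_mul]
      congr 1
      field_simp
    linear_combination (- ell a1 b1 ^ 2 * ell a3 b3 * ell a4 b4) * hc

/-- Case B. -/
lemma caseB {a1 b1 a2 b2 a3 b3 a4 b4 : k} (h1 : a1 ≠ 0 ∨ b1 ≠ 0) (h2 : a2 ≠ 0 ∨ b2 ≠ 0)
    (h3 : a3 ≠ 0 ∨ b3 ≠ 0) (h4 : a4 ≠ 0 ∨ b4 ≠ 0)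
    (h12 : a2 * b1 = a1 * b2) (h34 : a4 * b3 = a3 * b4) (h13 : a1 * b3 - a3 * b1 ≠ 0) :
    ∃ (M : Matrix (Fin 2) (Fin 2) k) (c : k), IsUnit M.det ∧ c ≠ 0 ∧
      ell a1 b1 * ell a2 b2 * ell a3 b3 * ell a4 b4 =
        C c * subst M (X 0 ^ 2 * X 1 ^ 2) := by
  obtain ⟨s, hs, rfl, rfl⟩ := prop_scalar h1 h2 h12
  obtain ⟨s', hs', rfl, rfl⟩ := prop_scalar h3 h4 h34
  refine ⟨!![b1, -a1; b3, -a3], s * s', ?_, mul_ne_zero hs hs', ?_⟩
  · rw [Matrix.det_fin_two_of, isUnit_iff_ne_zero]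
    intro h
    apply h13
    linear_combination h
  · rw [subst_form2, ell_smul, ell_smul]
    simp only [Matrix.of_apply, Matrix.cons_val', Matrix.cons_val_zero, Matrix.cons_val_one,
      Matrix.empty_val', Matrix.cons_val_fin_one]
    simp only [ell, map_neg, map_mul]
    ring


lemma row_zero {r0 r1 x y x' y' : k} (h1 : r0 * x + r1 * y = 0) (h2 : r0 * x' + r1 * y' = 0)
    (hd : x * y' - y * x' ≠ 0) : r0 = 0 ∧ r1 = 0 := by
  constructor
  · have : r0 * (x * y' - y * x') = 0 := by linear_combination y' * h1 - y * h2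
    rcases mul_eq_zero.1 this with h | h
    · exact h
    · exact absurd h hd
  · have : r1 * (x * y' - y * x') = 0 := by linear_combination -x' * h1 + x * h2
    rcases mul_eq_zero.1 this with h | h
    · exact h
    · exact absurd h hd

lemma not_both (M M' : Matrix (Fin 2) (Fin 2) k) (c c' : k) (hM : IsUnit M.det)
    (hM' : IsUnit M'.det) (hc' : c' ≠ 0) (f : MvPolynomial (Fin 2) k)
    (h1 : f = C c * subst M (X 0 ^ 2 * X 1 * (X 0 - X 1)))
    (h2 : f = C c' * subst M' (X 0 ^ 2 * X 1 ^ 2)) : False := by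
  rw [subst_form1] at h1
  rw [subst_form2] at h2
  have hev : ∀ x y : k, c * ((M 0 0 * x + M 0 1 * y) ^ 2 * (M 1 0 * x + M 1 1 * y) *
      ((M 0 0 * x + M 0 1 * y) - (M 1 0 * x + M 1 1 * y))) =
      c' * ((M' 0 0 * x + M' 0 1 * y) ^ 2 * (M' 1 0 * x + M' 1 1 * y) ^ 2) := by
    intro x y
    have := congrArg (MvPolynomial.eval ![x, y]) (h1.symm.trans h2)
    simpa using this
  rw [Matrix.det_fin_two, isUnit_iff_ne_zero] at hM hM'
  have hz : ∀ x y : k, (M 0 0 * x + M 0 1 * y) ^ 2 * (M 1 0 * x + M 1 1 * y) *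
      ((M 0 0 * x + M 0 1 * y) - (M 1 0 * x + M 1 1 * y)) = 0 →
      (M' 0 0 * x + M' 0 1 * y = 0 ∨ M' 1 0 * x + M' 1 1 * y = 0) := by
    intro x y h
    have h' := hev x y
    rw [h, mul_zero] at h'
    have h'' := (mul_eq_zero.1 h'.symm).resolve_left hc'
    rcases mul_eq_zero.1 h'' with h3 | h3
    · exact Or.inl ((pow_eq_zero_iff (two_ne_zero)).1 h3)
    · exact Or.inr ((pow_eq_zero_iff (two_ne_zero)).1 h3)
  have z1 := hz (-M 0 1) (M 0 0) (by ring)
  have z2 := hz (M 1 1) (-M 1 0) (by ring)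
  have z3 := hz (M 1 1 - M 0 1) (M 0 0 - M 1 0) (by ring)
  have d12 : (-M 0 1) * (-M 1 0) - (M 0 0) * (M 1 1) ≠ 0 := by
    intro h; apply hM; linear_combination -h
  have d13 : (-M 0 1) * (M 0 0 - M 1 0) - (M 0 0) * (M 1 1 - M 0 1) ≠ 0 := by
    intro h; apply hM; linear_combination -h
  have d23 : (M 1 1) * (M 0 0 - M 1 0) - (-M 1 0) * (M 1 1 - M 0 1) ≠ 0 := by
    intro h; apply hM; linear_combination h
  have r0 : ¬ (M' 0 0 = 0 ∧ M' 0 1 = 0) := by
    rintro ⟨h, h'⟩; apply hM'; rw [h, h']; ring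
  have r1 : ¬ (M' 1 0 = 0 ∧ M' 1 1 = 0) := by
    rintro ⟨h, h'⟩; apply hM'; rw [h, h']; ring
  rcases z1 with a1 | a1 <;> rcases z2 with a2 | a2 <;> rcases z3 with a3 | a3
  · exact r0 (row_zero a1 a2 d12)
  · exact r0 (row_zero a1 a2 d12)
  · exact r0 (row_zero a1 a3 d13)
  · exact r1 (row_zero a2 a3 d23)
  · exact r0 (row_zero a2 a3 d23)
  · exact r1 (row_zero a1 a3 d13)
  · exact r1 (row_zero a1 a2 d12)
  · exact r1 (row_zero a1 a2 d12)

lemma others : ∀ i j : Fin 4, i < j → ∃ l m : Fin 4,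
    (Finset.univ : Finset (Fin 4)) = {i, j, l, m} ∧ i ≠ j ∧ i ≠ l ∧ i ≠ m ∧ j ≠ l ∧ j ≠ m ∧
      l ≠ m := by
  decide

lemma core (la mu : Fin 4 → k) (hne : ∀ i, la i ≠ 0 ∨ mu i ≠ 0)
    (h3z : ∀ i j l : Fin 4, i ≠ j → j ≠ l → i ≠ l →
      ¬ (la i * mu j = la j * mu i ∧ la j * mu l = la l * mu j))
    (i j l m : Fin 4) (huniv : (Finset.univ : Finset (Fin 4)) = {i, j, l, m})
    (hij : i ≠ j) (hil : i ≠ l) (him : i ≠ m) (hjl : j ≠ l) (hjm : j ≠ m) (hlm : l ≠ m)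
    (hprop : la j * mu i = la i * mu j) :
    (∃ (M : Matrix (Fin 2) (Fin 2) k) (c : k), IsUnit M.det ∧ c ≠ 0 ∧
        binForm la mu = C c * subst M (X 0 ^ 2 * X 1 * (X 0 - X 1))) ∨
    (∃ (M : Matrix (Fin 2) (Fin 2) k) (c : k), IsUnit M.det ∧ c ≠ 0 ∧
        binForm la mu = C c * subst M (X 0 ^ 2 * X 1 ^ 2)) := by
  have hb : binForm la mu =
      ell (la i) (mu i) * ell (la j) (mu j) * ell (la l) (mu l) * ell (la m) (mu m) := by
    unfold binForm
    rw [huniv, Finset.prod_insert (by simp [hij, hil, him]),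
      Finset.prod_insert (by simp [hjl, hjm]), Finset.prod_insert (by simp [hlm]),
      Finset.prod_singleton]
    simp only [ell]
    ring
  have h13 : la i * mu l - la l * mu i ≠ 0 := by
    intro h
    exact h3z j i l hij.symm hil hjl ⟨hprop, by linear_combination h⟩
  have h14 : la i * mu m - la m * mu i ≠ 0 := by
    intro h
    exact h3z j i m hij.symm him hjm ⟨hprop, by linear_combination h⟩
  rw [hb]
  by_cases h34 : la l * mu m - la m * mu l = 0
  · right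
    exact caseB (hne i) (hne j) (hne l) (hne m) hprop (by linear_combination -h34) h13
  · left
    exact caseA (hne i) (hne j) hprop h13 h14 h34

theorem main (la mu : Fin 4 → k)
    (hne : ∀ i, la i ≠ 0 ∨ mu i ≠ 0) (hd : disc la mu = 0)
    (h3z : ∀ i j l : Fin 4, i ≠ j → j ≠ l → i ≠ l →
      ¬ (la i * mu j = la j * mu i ∧ la j * mu l = la l * mu j)) :
    Xor
      (∃ (M : Matrix (Fin 2) (Fin 2) k) (c : k), IsUnit M.det ∧ c ≠ 0 ∧
        binForm la mu = C c * subst M (X 0 ^ 2 * X 1 * (X 0 - X 1)))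
      (∃ (M : Matrix (Fin 2) (Fin 2) k) (c : k), IsUnit M.det ∧ c ≠ 0 ∧
        binForm la mu = C c * subst M (X 0 ^ 2 * X 1 ^ 2)) := by
  have hor : (∃ (M : Matrix (Fin 2) (Fin 2) k) (c : k), IsUnit M.det ∧ c ≠ 0 ∧
        binForm la mu = C c * subst M (X 0 ^ 2 * X 1 * (X 0 - X 1))) ∨
      (∃ (M : Matrix (Fin 2) (Fin 2) k) (c : k), IsUnit M.det ∧ c ≠ 0 ∧
        binForm la mu = C c * subst M (X 0 ^ 2 * X 1 ^ 2)) := by
    unfold disc at hd
    rw [Finset.prod_eq_zero_iff] at hd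
    obtain ⟨⟨i, j⟩, hp, h0⟩ := hd
    simp only [Finset.mem_filter, Finset.mem_univ, true_and] at hp
    obtain ⟨l, m, huniv, hij, hil, him, hjl, hjm, hlm⟩ := others i j hp
    have h0' : la j * mu i - la i * mu j = 0 := by simpa using h0
    exact core la mu hne h3z i j l m huniv hij hil him hjl hjm hlm (by linear_combination h0')
  have hnb : ¬ ((∃ (M : Matrix (Fin 2) (Fin 2) k) (c : k), IsUnit M.det ∧ c ≠ 0 ∧
        binForm la mu = C c * subst M (X 0 ^ 2 * X 1 * (X 0 - X 1))) ∧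
      (∃ (M : Matrix (Fin 2) (Fin 2) k) (c : k), IsUnit M.det ∧ c ≠ 0 ∧
        binForm la mu = C c * subst M (X 0 ^ 2 * X 1 ^ 2))) := by
    rintro ⟨⟨M, c, hM, _, h1⟩, ⟨M', c', hM', hc', h2⟩⟩
    exact not_both M M' c c' hM hM' hc' _ h1 h2
  rcases hor with h | h
  · exact Or.inl ⟨h, fun h' => hnb ⟨h, h'⟩⟩
  · exact Or.inr ⟨h, fun h' => hnb ⟨h', h⟩⟩

end

end Groth.Agent.H9.BQ
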