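import Mathlib
import Groth.Prelude.Def_GLin6
import Groth.Agent.Lib.Helper9.ComodGIT

/-!
# Points of the matrix monoid acting on forms (helper9)

`rho k M l m` : matrix coefficients of the representation on forms of degree `d` at a `B`-point `M`
of the matrix monoid; multiplicativity, diagonal matrices, the semantic formula
`formPoly (a · rho M) = (formPoly a) ∘ M`.
-/

set_option autoImplicit false
set_option linter.unusedSectionVars false
set_option linter.unusedVariables false
set_option linter.style.haveILetI false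

open TensorProduct CoordGrp

noncomputable section

namespace Groth.Agent.H9.BinF

universe u v v'

section Rho
variable (k : Type u) [CommRing k] {n d : ℕ} {B : Type v} [CommRing B] [Algebra k B]
  {B' : Type v'} [CommRing B'] [Algebra k B']

/-- matrix coefficients of the representation on forms at a `B`-point of the matrix monoid -/
def rho (M : Matrix (Fin n) (Fin n) B) (l m : FormIdx n d) : B :=
  Mat.aeval n k M (formCoeff k n d l m)

lemma aeval_one : Mat.aeval n k (1 : Matrix (Fin n) (Fin n) B) =
    (Algebra.ofId k B).comp (Bialgebra.counitAlgHom k (Mat n k)) := by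
  apply Mat.algHom_ext; intro i j
  rw [Mat.aeval_X, AlgHom.comp_apply, Bialgebra.counitAlgHom_apply, Mat.counit_X, Matrix.one_apply]
  split_ifs <;> simp [Algebra.ofId_apply]

lemma rho_one (l m : FormIdx n d) :
    rho k (1 : Matrix (Fin n) (Fin n) B) l m = if l = m then 1 else 0 := by
  rw [rho, aeval_one, AlgHom.comp_apply, Bialgebra.counitAlgHom_apply, counit_formCoeff]
  split_ifs <;> simp [Algebra.ofId_apply]

lemma aeval_mul (M N : Matrix (Fin n) (Fin n) B) :
    Mat.aeval n k (M * N) =
      (Algebra.TensorProduct.productMap (Mat.aeval n k M) (Mat.aeval n k N)).comp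
        (Bialgebra.comulAlgHom k (Mat n k)) := by
  apply Mat.algHom_ext; intro i j
  rw [Mat.aeval_X, AlgHom.comp_apply, Bialgebra.comulAlgHom_apply, Mat.comul_X, map_sum,
    Matrix.mul_apply]
  refine Finset.sum_congr rfl fun l _ => ?_
  rw [Algebra.TensorProduct.productMap_apply_tmul, Mat.aeval_X, Mat.aeval_X]

lemma rho_mul (M N : Matrix (Fin n) (Fin n) B) (l m : FormIdx n d) :
    rho k (M * N) l m = ∑ j : FormIdx n d, rho k M l j * rho k N j m := by
  rw [rho, aeval_mul, AlgHom.comp_apply, Bialgebra.comulAlgHom_apply, comul_formCoeff, map_sum]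
  refine Finset.sum_congr rfl fun j _ => ?_
  rw [Algebra.TensorProduct.productMap_apply_tmul]
  rfl

lemma aeval_map (f : B →ₐ[k] B') (M : Matrix (Fin n) (Fin n) B) :
    Mat.aeval n k (M.map f) = f.comp (Mat.aeval n k M) := by
  apply Mat.algHom_ext; intro i j
  rw [Mat.aeval_X, AlgHom.comp_apply, Mat.aeval_X, Matrix.map_apply]

lemma rho_map (f : B →ₐ[k] B') (M : Matrix (Fin n) (Fin n) B) (l m : FormIdx n d) :
    rho k (M.map f) l m = f (rho k M l m) := by
  rw [rho, aeval_map, AlgHom.comp_apply]
  rfl

/-- substitution `x_i ↦ Σ_j M j i x_j` -/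
def substB (M : Matrix (Fin n) (Fin n) B) : MvPolynomial (Fin n) k →ₐ[k] MvPolynomial (Fin n) B :=
  MvPolynomial.aeval fun i => ∑ j, MvPolynomial.C (M j i) * MvPolynomial.X j

/-- auxiliary map out of the tensor product -/
def Phi (M : Matrix (Fin n) (Fin n) B) :
    MvPolynomial (Fin n) k ⊗[k] Mat n k →ₐ[k] MvPolynomial (Fin n) B :=
  Algebra.TensorProduct.productMap
    (MvPolynomial.mapAlgHom (Algebra.ofId k B) : MvPolynomial (Fin n) k →ₐ[k] MvPolynomial (Fin n) B)
    ((IsScalarTower.toAlgHom k B (MvPolynomial (Fin n) B)).comp (Mat.aeval n k M))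

lemma Phi_tmul (M : Matrix (Fin n) (Fin n) B) (p : MvPolynomial (Fin n) k) (x : Mat n k) :
    Phi k M (p ⊗ₜ[k] x) = MvPolynomial.map (algebraMap k B) p * MvPolynomial.C (Mat.aeval n k M x) := by
  rw [Phi, Algebra.TensorProduct.productMap_apply_tmul, MvPolynomial.mapAlgHom_apply,
    AlgHom.comp_apply, IsScalarTower.coe_toAlgHom', MvPolynomial.algebraMap_eq]
  rfl

lemma Phi_comp (M : Matrix (Fin n) (Fin n) B) : (Phi k M).comp (stdCoactAlg n k) = substB k M := by
  apply MvPolynomial.algHom_ext; intro i
  rw [AlgHom.comp_apply, stdCoactAlg_X, map_sum, substB, MvPolynomial.aeval_X]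
  refine Finset.sum_congr rfl fun j _ => ?_
  rw [Phi_tmul, MvPolynomial.map_X, Mat.aeval_X, mul_comm]

/-- the semantic lemma: the substitution of a monomial of degree `d` -/
lemma substB_monomial (M : Matrix (Fin n) (Fin n) B) (m : FormIdx n d) :
    substB k M (MvPolynomial.monomial m.1 1) =
      ∑ l : FormIdx n d, MvPolynomial.monomial l.1 (rho k M l m) := by
  rw [← Phi_comp, AlgHom.comp_apply, stdCoactAlg_monomial_expand d m, map_sum]
  refine Finset.sum_congr rfl fun l _ => ?_
  rw [Phi_tmul, MvPolynomial.map_monomial, map_one, mul_comm, MvPolynomial.C_mul_monomial, mul_one]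
  rfl

lemma monomial_one_eq_prod {S : Type*} [CommSemiring S] (m : Fin n →₀ ℕ) :
    (MvPolynomial.monomial m (1 : S)) = ∏ i, (MvPolynomial.X i : MvPolynomial (Fin n) S) ^ m i := by
  rw [MvPolynomial.monomial_eq, map_one, one_mul, Finsupp.prod_fintype]
  intro i; exact pow_zero _

lemma substB_X (M : Matrix (Fin n) (Fin n) B) (i : Fin n) :
    substB k M (MvPolynomial.X i) = ∑ j, MvPolynomial.C (M j i) * MvPolynomial.X j := by
  rw [substB, MvPolynomial.aeval_X]

lemma rho_diagonal (t : Fin n → B) (l m : FormIdx n d) :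
    rho k (Matrix.diagonal t) l m = if l = m then ∏ i, t i ^ m.1 i else 0 := by
  classical
  have h := substB_monomial k (Matrix.diagonal t) m
  have hX : ∀ i, substB k (Matrix.diagonal t) (MvPolynomial.X i) =
      MvPolynomial.C (t i) * MvPolynomial.X i := by
    intro i
    rw [substB_X, Finset.sum_eq_single i]
    · rw [Matrix.diagonal_apply_eq]
    · intro j _ hj
      rw [Matrix.diagonal_apply_ne _ hj, map_zero, zero_mul]
    · intro hi; exact absurd (Finset.mem_univ i) hi
  have h2 : substB k (Matrix.diagonal t) (MvPolynomial.monomial m.1 1) =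
      MvPolynomial.monomial m.1 (∏ i, t i ^ m.1 i) := by
    rw [monomial_one_eq_prod, map_prod]
    simp_rw [map_pow, hX, mul_pow]
    rw [Finset.prod_mul_distrib, ← monomial_one_eq_prod]
    simp_rw [← map_pow]
    rw [← map_prod, MvPolynomial.C_mul_monomial, mul_one]
  rw [h2] at h
  have h3 := congrArg (MvPolynomial.coeff l.1) h
  rw [MvPolynomial.coeff_monomial, MvPolynomial.coeff_sum, Finset.sum_eq_single l] at h3
  · rw [MvPolynomial.coeff_monomial, if_pos rfl] at h3
    rw [← h3]
    by_cases hlm : l = m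
    · subst hlm; simp
    · have : m.1 ≠ l.1 := fun e => hlm (Subtype.ext e.symm)
      simp [hlm, this]
  · intro l' _ hl'
    rw [MvPolynomial.coeff_monomial, if_neg (fun e => hl' (Subtype.ext e))]
  · intro hl; exact absurd (Finset.mem_univ l) hl

/-- the action on (row) vectors of coordinates -/
def actV (M : Matrix (Fin n) (Fin n) B) (a : FormIdx n d → B) : FormIdx n d → B :=
  fun m => ∑ l, a l * rho k M l m

lemma actV_one (a : FormIdx n d → B) : actV k (1 : Matrix (Fin n) (Fin n) B) a = a := by
  classical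
  funext m
  simp only [actV, rho_one]
  rw [Finset.sum_eq_single m]
  · simp
  · intro l _ hl; simp [hl]
  · intro h; exact absurd (Finset.mem_univ m) h

lemma actV_mul (M N : Matrix (Fin n) (Fin n) B) (a : FormIdx n d → B) :
    actV k (M * N) a = actV k N (actV k M a) := by
  funext m
  simp only [actV, rho_mul, Finset.mul_sum, Finset.sum_mul]
  rw [Finset.sum_comm]
  refine Finset.sum_congr rfl fun j _ => Finset.sum_congr rfl fun l _ => ?_
  ring

lemma actV_map (f : B →ₐ[k] B') (M : Matrix (Fin n) (Fin n) B) (a : FormIdx n d → B)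
    (m : FormIdx n d) :
    actV k (M.map f) (fun l => f (a l)) m = f (actV k M a m) := by
  simp only [actV, rho_map, map_sum, map_mul]

lemma actV_diagonal (t : Fin n → B) (a : FormIdx n d → B) (m : FormIdx n d) :
    actV k (Matrix.diagonal t) a m = a m * ∏ i, t i ^ m.1 i := by
  classical
  simp only [actV, rho_diagonal]
  rw [Finset.sum_eq_single m]
  · simp
  · intro l _ hl; simp [hl]
  · intro h; exact absurd (Finset.mem_univ m) h

end Rho

section Multinomial

lemma sum_pow_formIdx {S : Type*} [CommSemiring S] {n : ℕ} (f : Fin n → S) (d : ℕ) :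
    (∑ i, f i) ^ d = ∑ m : FormIdx n d, (m.1.multinomial : S) * ∏ i, f i ^ (m.1 i) := by
  classical
  rw [Finset.sum_pow_eq_sum_piAntidiag Finset.univ f d]
  symm
  refine Finset.sum_bij' (fun m _ => (m.1 : Fin n → ℕ))
    (fun q hq => (⟨Finsupp.equivFunOnFinite.symm q, by
      rw [Finset.mem_piAntidiag] at hq
      rw [Finsupp.degree_eq_sum]
      exact hq.1⟩ : FormIdx n d)) ?_ ?_ ?_ ?_ ?_
  · intro m _
    rw [Finset.mem_piAntidiag]
    refine ⟨?_, fun _ _ => Finset.mem_univ _⟩
    rw [← Finsupp.degree_eq_sum]; exact m.2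
  · intro q _; exact Finset.mem_univ _
  · intro m _
    apply Subtype.ext
    ext i; rfl
  · intro q _
    funext i; rfl
  · intro m _
    rw [Finsupp.multinomial_of_support_subset (Finset.subset_univ _)]

end Multinomial

section Semantic
variable (k : Type u) [Field k] {n d : ℕ}

/-- substitution `x_i ↦ Σ_j N i j x_j` on polynomials over `k` -/
def sigma (N : Matrix (Fin n) (Fin n) k) : MvPolynomial (Fin n) k →ₐ[k] MvPolynomial (Fin n) k :=
  MvPolynomial.aeval fun i => ∑ j, MvPolynomial.C (N i j) * MvPolynomial.X j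

lemma sigma_X (N : Matrix (Fin n) (Fin n) k) (i : Fin n) :
    sigma k N (MvPolynomial.X i) = ∑ j, MvPolynomial.C (N i j) * MvPolynomial.X j := by
  rw [sigma, MvPolynomial.aeval_X]

lemma sigma_comp (N N' : Matrix (Fin n) (Fin n) k) :
    (sigma k N).comp (sigma k N') = sigma k (N' * N) := by
  apply MvPolynomial.algHom_ext; intro i
  rw [AlgHom.comp_apply, sigma_X, map_sum, sigma_X]
  simp_rw [map_mul, MvPolynomial.algHom_C, sigma_X, Finset.mul_sum]
  rw [Finset.sum_comm]
  refine Finset.sum_congr rfl fun j _ => ?_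
  rw [Matrix.mul_apply, map_sum, Finset.sum_mul]
  refine Finset.sum_congr rfl fun l _ => ?_
  rw [map_mul, MvPolynomial.algebraMap_eq]
  ring

lemma sigma_one : sigma k (1 : Matrix (Fin n) (Fin n) k) = AlgHom.id k _ := by
  classical
  apply MvPolynomial.algHom_ext; intro i
  rw [sigma_X, AlgHom.id_apply, Finset.sum_eq_single i]
  · rw [Matrix.one_apply_eq, map_one, one_mul]
  · intro j _ hj
    rw [Matrix.one_apply_ne hj.symm, map_zero, zero_mul]
  · intro hi; exact absurd (Finset.mem_univ i) hi

lemma eval_sigma (N : Matrix (Fin n) (Fin n) k) (u : Fin n → k) (p : MvPolynomial (Fin n) k) :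
    MvPolynomial.eval u (sigma k N p) = MvPolynomial.eval (N.mulVec u) p := by
  have h : (MvPolynomial.aeval u : MvPolynomial (Fin n) k →ₐ[k] k).comp (sigma k N) =
      MvPolynomial.aeval (N.mulVec u) := by
    apply MvPolynomial.algHom_ext; intro i
    rw [AlgHom.comp_apply, sigma_X, map_sum, MvPolynomial.aeval_X]
    simp only [map_mul, MvPolynomial.aeval_C, MvPolynomial.aeval_X, Algebra.algebraMap_self_apply,
      Matrix.mulVec, dotProduct]
  have h2 := congrArg (fun φ : MvPolynomial (Fin n) k →ₐ[k] k => φ p) h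
  simp only [AlgHom.comp_apply] at h2
  exact h2

lemma eval_formPoly (b : FormIdx n d → k) (u : Fin n → k) :
    MvPolynomial.eval u (formPoly b) =
      ∑ m : FormIdx n d, (m.1.multinomial : k) * b m * ∏ i, u i ^ m.1 i := by
  rw [formPoly, map_sum]
  refine Finset.sum_congr rfl fun m _ => ?_
  rw [MvPolynomial.eval_monomial, Finsupp.prod_fintype]
  intro i; exact pow_zero _

/-- the key identity -/
lemma key_sum (M : Matrix (Fin n) (Fin n) k) (u : Fin n → k) (l : FormIdx n d) :
    ∑ m : FormIdx n d, (m.1.multinomial : k) * (∏ i, u i ^ m.1 i) * rho k M l m =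
      (l.1.multinomial : k) * ∏ j, (M.mulVec u) j ^ l.1 j := by
  classical
  set w := M.mulVec u with hw
  have h1 : ∑ i, MvPolynomial.C (u i) * substB k M (MvPolynomial.X i) =
      ∑ j, MvPolynomial.C (w j) * (MvPolynomial.X j : MvPolynomial (Fin n) k) := by
    simp_rw [substB_X, Finset.mul_sum]
    rw [Finset.sum_comm]
    refine Finset.sum_congr rfl fun j _ => ?_
    rw [hw, Matrix.mulVec, dotProduct, map_sum, Finset.sum_mul]
    refine Finset.sum_congr rfl fun i _ => ?_
    rw [map_mul]; ring
  have h2 : (∑ i, MvPolynomial.C (u i) * substB k M (MvPolynomial.X i)) ^ d =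
      (∑ j, MvPolynomial.C (w j) * (MvPolynomial.X j : MvPolynomial (Fin n) k)) ^ d := by rw [h1]
  rw [sum_pow_formIdx, sum_pow_formIdx] at h2
  have h3 := congrArg (MvPolynomial.coeff l.1) h2
  -- left side
  have hL : ∀ m : FormIdx n d,
      ((m.1.multinomial : MvPolynomial (Fin n) k) *
        ∏ i, (MvPolynomial.C (u i) * substB k M (MvPolynomial.X i)) ^ m.1 i) =
      ∑ l' : FormIdx n d, MvPolynomial.monomial l'.1
        ((m.1.multinomial : k) * (∏ i, u i ^ m.1 i) * rho k M l' m) := by
    intro m
    simp_rw [mul_pow]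
    rw [Finset.prod_mul_distrib]
    simp_rw [← map_pow]
    rw [← map_prod, ← map_prod, ← monomial_one_eq_prod, substB_monomial, Finset.mul_sum,
      Finset.mul_sum]
    refine Finset.sum_congr rfl fun l' _ => ?_
    rw [MvPolynomial.C_mul_monomial, ← map_natCast (MvPolynomial.C (σ := Fin n) (R := k)),
      MvPolynomial.C_mul_monomial, mul_assoc]
  have hR : ∀ l' : FormIdx n d,
      ((l'.1.multinomial : MvPolynomial (Fin n) k) *
        ∏ j, (MvPolynomial.C (w j) * (MvPolynomial.X j : MvPolynomial (Fin n) k)) ^ l'.1 j) =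
      MvPolynomial.monomial l'.1 ((l'.1.multinomial : k) * ∏ j, w j ^ l'.1 j) := by
    intro l'
    simp_rw [mul_pow]
    rw [Finset.prod_mul_distrib]
    simp_rw [← map_pow]
    rw [← map_prod, ← monomial_one_eq_prod, MvPolynomial.C_mul_monomial, mul_one,
      ← map_natCast (MvPolynomial.C (σ := Fin n) (R := k)), MvPolynomial.C_mul_monomial]
  simp_rw [hL, hR] at h3
  rw [MvPolynomial.coeff_sum, MvPolynomial.coeff_sum] at h3
  simp_rw [MvPolynomial.coeff_sum] at h3
  have e1 : ∀ m : FormIdx n d, ∑ l' : FormIdx n d, MvPolynomial.coeff l.1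
      (MvPolynomial.monomial l'.1 ((m.1.multinomial : k) * (∏ i, u i ^ m.1 i) * rho k M l' m)) =
      (m.1.multinomial : k) * (∏ i, u i ^ m.1 i) * rho k M l m := by
    intro m
    rw [Finset.sum_eq_single l]
    · rw [MvPolynomial.coeff_monomial, if_pos rfl]
    · intro l' _ hl'
      rw [MvPolynomial.coeff_monomial, if_neg (fun e => hl' (Subtype.ext e))]
    · intro hl; exact absurd (Finset.mem_univ l) hl
  have e2 : ∑ l' : FormIdx n d, MvPolynomial.coeff l.1
      (MvPolynomial.monomial l'.1 ((l'.1.multinomial : k) * ∏ j, w j ^ l'.1 j)) =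
      (l.1.multinomial : k) * ∏ j, w j ^ l.1 j := by
    rw [Finset.sum_eq_single l]
    · rw [MvPolynomial.coeff_monomial, if_pos rfl]
    · intro l' _ hl'
      rw [MvPolynomial.coeff_monomial, if_neg (fun e => hl' (Subtype.ext e))]
    · intro hl; exact absurd (Finset.mem_univ l) hl
  simp_rw [e1] at h3
  rw [e2] at h3
  exact h3

/-- the form of the moved point is the form with the matrix substituted -/
theorem formPoly_actV [Infinite k] (M : Matrix (Fin n) (Fin n) k) (a : FormIdx n d → k) :
    formPoly (actV k M a) = sigma k M (formPoly a) := by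
  apply MvPolynomial.funext
  intro u
  rw [eval_sigma, eval_formPoly, eval_formPoly]
  simp only [actV, Finset.mul_sum, Finset.sum_mul]
  rw [Finset.sum_comm]
  refine Finset.sum_congr rfl fun l _ => ?_
  have h := key_sum k M u l
  calc ∑ m : FormIdx n d, (m.1.multinomial : k) * (a l * rho k M l m) * ∏ i, u i ^ m.1 i
      = a l * ∑ m : FormIdx n d, (m.1.multinomial : k) * (∏ i, u i ^ m.1 i) * rho k M l m := by
        rw [Finset.mul_sum]
        refine Finset.sum_congr rfl fun m _ => ?_
        ring
    _ = (l.1.multinomial : k) * a l * ∏ i, (M.mulVec u) i ^ l.1 i := by rw [h]; ring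

end Semantic

end Groth.Agent.H9.BinF
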