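import Mathlib
import Groth.Agent.Lib.Helper9.Misc.FormPts

/-!
# Cartan decomposition of `SL_2` over the fraction field of a valuation ring, and the core
degeneration lemma for binary forms (helper9)
-/

set_option autoImplicit false
set_option linter.unusedSectionVars false
set_option linter.unusedVariables false
set_option linter.style.haveILetI false

open CoordGrp

noncomputable section

namespace Groth.Agent.H9.BinF

universe u

section Cartan
variable {R : Type*} [CommRing R] [IsDomain R] [ValuationRing R] {K : Type*} [Field K] [Algebra R K]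
  [IsFractionRing R K]

/-- the Weyl element -/
def wR (R : Type*) [CommRing R] : Matrix (Fin 2) (Fin 2) R := !![0, 1; -1, 0]
/-- its inverse -/
def wR' (R : Type*) [CommRing R] : Matrix (Fin 2) (Fin 2) R := !![0, -1; 1, 0]

lemma det_wR : (wR R).det = 1 := by simp [wR, Matrix.det_fin_two]
lemma det_wR' : (wR' R).det = 1 := by simp [wR', Matrix.det_fin_two]
lemma wR'_mul_wR : wR' R * wR R = 1 := by
  rw [wR', wR, Matrix.mul_fin_two, Matrix.one_fin_two]; simp

variable (R K) in
/-- the Weyl element over `K` -/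
def wK : Matrix (Fin 2) (Fin 2) K := (wR R).map (algebraMap R K)

lemma wK_eq : wK R K = !![0, 1; -1, 0] := by
  ext i j; fin_cases i <;> fin_cases j <;> simp [wK, wR]

lemma det_wK : (wK R K).det = 1 := by rw [wK_eq]; simp [Matrix.det_fin_two]

lemma wK_mul (M : Matrix (Fin 2) (Fin 2) K) :
    wK R K * M = !![M 1 0, M 1 1; -M 0 0, -M 0 1] := by
  rw [wK_eq]
  ext i j; fin_cases i <;> fin_cases j <;> simp [Matrix.mul_apply, Fin.sum_univ_two]

lemma mul_wK (M : Matrix (Fin 2) (Fin 2) K) :
    M * wK R K = !![-M 0 1, M 0 0; -M 1 1, M 1 0] := by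
  rw [wK_eq]
  ext i j; fin_cases i <;> fin_cases j <;> simp [Matrix.mul_apply, Fin.sum_univ_two]

variable (R) in
/-- Cartan decomposition (in the form `M Q = P D`) -/
def Cart (M : Matrix (Fin 2) (Fin 2) K) : Prop :=
  ∃ (P Q : Matrix (Fin 2) (Fin 2) R) (β : R), P.det = 1 ∧ Q.det = 1 ∧ β ≠ 0 ∧
    M * Q.map (algebraMap R K) = P.map (algebraMap R K) *
      Matrix.diagonal ![(algebraMap R K β)⁻¹, algebraMap R K β]

lemma cart_left {M : Matrix (Fin 2) (Fin 2) K} (h : Cart R (wK R K * M)) : Cart R M := by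
  obtain ⟨P, Q, β, hP, hQ, hβ, h⟩ := h
  refine ⟨wR' R * P, Q, β, by rw [Matrix.det_mul, det_wR', hP, one_mul], hQ, hβ, ?_⟩
  have h1 : (wR' R * P).map (algebraMap R K) =
      (wR' R).map (algebraMap R K) * P.map (algebraMap R K) := Matrix.map_mul
  have h2 : (wR' R).map (algebraMap R K) * wK R K = 1 := by
    rw [wK, ← Matrix.map_mul, wR'_mul_wR]
    exact Matrix.map_one _ (map_zero _) (map_one _)
  rw [h1, Matrix.mul_assoc, ← h, ← Matrix.mul_assoc, ← Matrix.mul_assoc, h2, Matrix.one_mul]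

lemma cart_right {M : Matrix (Fin 2) (Fin 2) K} (h : Cart R (M * wK R K)) : Cart R M := by
  obtain ⟨P, Q, β, hP, hQ, hβ, h⟩ := h
  refine ⟨P, wR R * Q, β, hP, by rw [Matrix.det_mul, det_wR, hQ, one_mul], hβ, ?_⟩
  have h1 : (wR R * Q).map (algebraMap R K) = wK R K * Q.map (algebraMap R K) := Matrix.map_mul
  rw [h1, ← Matrix.mul_assoc, h]

/-- divisibility in `K` relative to `R` -/
def Dv (R : Type*) [CommRing R] {K : Type*} [Field K] [Algebra R K] (y x : K) : Prop :=
  ∃ r : R, x = y * algebraMap R K r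

lemma Dv.neg {y x : K} (h : Dv R y x) : Dv R y (-x) := by
  obtain ⟨r, hr⟩ := h
  exact ⟨-r, by rw [hr, map_neg, mul_neg]⟩

lemma Dv.neg_left {y x : K} (h : Dv R y x) : Dv R (-y) x := by
  obtain ⟨r, hr⟩ := h
  exact ⟨-r, by rw [hr, map_neg, neg_mul_neg]⟩

/-- all entries divisible by `y` -/
def AllDv (R : Type*) [CommRing R] {K : Type*} [Field K] [Algebra R K] (y : K)
    (M : Matrix (Fin 2) (Fin 2) K) : Prop := ∀ i j, Dv R y (M i j)

lemma allDv_wK_mul {y : K} {M : Matrix (Fin 2) (Fin 2) K} (h : AllDv R y M) :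
    AllDv R y (wK R K * M) := by
  intro i j
  rw [wK_mul]
  fin_cases i <;> fin_cases j
  · exact h 1 0
  · exact h 1 1
  · exact (h 0 0).neg
  · exact (h 0 1).neg

lemma allDv_mul_wK {y : K} {M : Matrix (Fin 2) (Fin 2) K} (h : AllDv R y M) :
    AllDv R y (M * wK R K) := by
  intro i j
  rw [mul_wK]
  fin_cases i <;> fin_cases j
  · exact (h 0 1).neg
  · exact h 0 0
  · exact (h 1 1).neg
  · exact h 1 0

lemma allDv_neg {y : K} {M : Matrix (Fin 2) (Fin 2) K} (h : AllDv R y M) : AllDv R (-y) M :=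
  fun i j => (h i j).neg_left

lemma cart_base (M : Matrix (Fin 2) (Fin 2) K) (hdet : M.det = 1) (y : K) (hy : M 0 0 = y)
    (hmax : AllDv R y M) : Cart R M := by
  subst hy
  obtain ⟨s, hs⟩ := hmax 0 1
  obtain ⟨r, hr⟩ := hmax 1 0
  obtain ⟨s', hs'⟩ := hmax 1 1
  set a := M 0 0 with ha_def
  have hdet' : a * M 1 1 - M 0 1 * M 1 0 = 1 := by rw [← Matrix.det_fin_two]; exact hdet
  rw [hs, hr, hs'] at hdet'
  have ha : a ≠ 0 := by
    intro h0
    rw [h0] at hdet'
    simp at hdet'
  have hkey : a * (algebraMap R K s' - algebraMap R K r * algebraMap R K s) = a⁻¹ := by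
    apply eq_inv_of_mul_eq_one_right
    linear_combination hdet'
  obtain ⟨β, hβ⟩ : ∃ β : R, algebraMap R K β = a⁻¹ := by
    rcases ValuationRing.isInteger_or_isInteger R a with ⟨r0, hr0⟩ | ⟨β, hβ⟩
    · refine ⟨r0 * (s' - r * s), ?_⟩
      rw [map_mul, map_sub, map_mul]
      rw [← hkey]
      congr 1
    · exact ⟨β, hβ⟩
  have hβ0 : β ≠ 0 := by
    intro h0
    rw [h0, map_zero] at hβ
    exact inv_ne_zero ha hβ.symm
  refine ⟨!![1, 0; r, 1], !![1, -s; 0, 1], β, by simp [Matrix.det_fin_two],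
    by simp [Matrix.det_fin_two], hβ0, ?_⟩
  have hM : M = !![a, a * algebraMap R K s; a * algebraMap R K r, a * algebraMap R K s'] := by
    ext i j; fin_cases i <;> fin_cases j
    · rfl
    · exact hs
    · exact hr
    · exact hs'
  have hQ : (!![1, -s; 0, 1] : Matrix (Fin 2) (Fin 2) R).map (algebraMap R K) =
      !![1, -algebraMap R K s; 0, 1] := by
    ext i j; fin_cases i <;> fin_cases j <;> simp
  have hP : (!![1, 0; r, 1] : Matrix (Fin 2) (Fin 2) R).map (algebraMap R K) =
      !![1, 0; algebraMap R K r, 1] := by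
    ext i j; fin_cases i <;> fin_cases j <;> simp
  have hD : Matrix.diagonal ![(algebraMap R K β)⁻¹, algebraMap R K β] = !![a, 0; 0, a⁻¹] := by
    rw [hβ, inv_inv]
    ext i j; fin_cases i <;> fin_cases j <;> simp
  rw [hQ, hP, hD, hM, Matrix.mul_fin_two, Matrix.mul_fin_two]
  ext i j; fin_cases i <;> fin_cases j
  · simp
  · simp
  · simp [mul_comm]
  · simp only [Matrix.of_apply, Matrix.cons_val']
    rw [← hkey]; ring_nf

lemma cart_of_pos (M : Matrix (Fin 2) (Fin 2) K) (hdet : M.det = 1) (i0 j0 : Fin 2)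
    (hmax : AllDv R (M i0 j0) M) : Cart R M := by
  fin_cases i0 <;> fin_cases j0
  · exact cart_base M hdet _ rfl hmax
  · apply cart_right
    refine cart_base (M * wK R K) (by rw [Matrix.det_mul, det_wK, hdet, one_mul]) (-M 0 1) ?_
      (allDv_neg (allDv_mul_wK hmax))
    rw [mul_wK]; rfl
  · apply cart_left
    refine cart_base (wK R K * M) (by rw [Matrix.det_mul, det_wK, hdet, one_mul]) (M 1 0) ?_
      (allDv_wK_mul hmax)
    rw [wK_mul]; rfl
  · apply cart_left
    apply cart_right
    refine cart_base (wK R K * M * wK R K)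
      (by rw [Matrix.det_mul, Matrix.det_mul, det_wK, hdet, one_mul, one_mul]) (-M 1 1) ?_
      (allDv_neg (allDv_mul_wK (allDv_wK_mul hmax)))
    rw [mul_wK]
    change -(wK R K * M) 0 1 = _
    rw [wK_mul]; rfl

lemma dv_of_val_le {x y : K} (hy : y ≠ 0)
    (h : ValuationRing.valuation R K x ≤ ValuationRing.valuation R K y) : Dv R y x := by
  have hpos : 0 < ValuationRing.valuation R K y := by
    rw [Valuation.pos_iff]; exact hy
  have h1 : ValuationRing.valuation R K (x / y) ≤ 1 := by
    rw [map_div₀, div_le_one₀ hpos]; exact h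
  rw [← Valuation.mem_integer_iff, ValuationRing.mem_integer_iff] at h1
  obtain ⟨r, hr⟩ := h1
  exact ⟨r, by rw [hr]; field_simp⟩

/-- **Cartan decomposition** for `SL_2` of the fraction field of a valuation ring -/
theorem cart (M : Matrix (Fin 2) (Fin 2) K) (hdet : M.det = 1) : Cart R M := by
  obtain ⟨p, -, hp⟩ := Finset.exists_max_image (Finset.univ : Finset (Fin 2 × Fin 2))
    (fun p => ValuationRing.valuation R K (M p.1 p.2)) ⟨(0, 0), Finset.mem_univ _⟩
  have h0 : M p.1 p.2 ≠ 0 := by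
    intro h0
    have hz : ∀ i j, M i j = 0 := by
      intro i j
      have := hp (i, j) (Finset.mem_univ _)
      simp only [h0, map_zero] at this
      exact (Valuation.zero_iff _).mp (le_antisymm this zero_le)
    rw [Matrix.det_fin_two, hz, hz, hz, hz] at hdet
    simp at hdet
  exact cart_of_pos M hdet p.1 p.2 fun i j => dv_of_val_le h0 (hp (i, j) (Finset.mem_univ _))

end Cartan

end Groth.Agent.H9.BinF
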