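import Mathlib
import Groth.Agent.Lib.Helper9.Misc.BinCartan

/-!
# The core degeneration lemma for binary forms (helper9)
-/

set_option autoImplicit false
set_option linter.unusedSectionVars false
set_option linter.unusedVariables false
set_option linter.style.haveILetI false

open CoordGrp IsLocalRing

noncomputable section

namespace Groth.Agent.H9.BinF

universe u

section Core
variable {k : Type u} [Field k] {R : Type u} [CommRing R] [IsDomain R] [ValuationRing R] [Algebra k R]
  {K : Type u} [Field K] [Algebra R K] [IsFractionRing R K] [Algebra k K] [IsScalarTower k R K]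
  {d : ℕ}

theorem core_eq (M : Matrix (Fin 2) (Fin 2) K) (P Q : Matrix (Fin 2) (Fin 2) R) (β : R) (hβ : β ≠ 0)
    (hMQ : M * Q.map (algebraMap R K) = P.map (algebraMap R K) *
      Matrix.diagonal ![(algebraMap R K β)⁻¹, algebraMap R K β])
    (a : FormIdx 2 d → k) (c : FormIdx 2 d → R)
    (hc : ∀ m, algebraMap R K (c m) = actV k M (fun l => algebraMap k K (a l)) m)
    (m : FormIdx 2 d) :
    actV k P (fun l => algebraMap k R (a l)) m * β ^ (m.1 1) = actV k Q c m * β ^ (m.1 0) := by
  let φ : R →ₐ[k] K := IsScalarTower.toAlgHom k R K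
  have hφ : ∀ r, φ r = algebraMap R K r := fun r => rfl
  have hQφ : Q.map (algebraMap R K) = Q.map φ := rfl
  have hPφ : P.map (algebraMap R K) = P.map φ := rfl
  have hβK : algebraMap R K β ≠ 0 := by
    intro h0
    exact hβ ((IsFractionRing.injective R K) (by rw [h0, map_zero]))
  have h1 : algebraMap R K (actV k Q c m) =
      actV k (Q.map φ) (fun l => φ (c l)) m := (actV_map k φ Q c m).symm
  have h2 : (fun l => φ (c l)) = actV k M (fun l => algebraMap k K (a l)) := funext hc
  have h3 : algebraMap R K (actV k P (fun l => algebraMap k R (a l)) m) =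
      actV k (P.map φ) (fun l => algebraMap k K (a l)) m := by
    have := (actV_map k φ P (fun l => algebraMap k R (a l)) m).symm
    rw [hφ] at this
    rw [this]
    congr 1
    funext l
    rw [hφ, ← IsScalarTower.algebraMap_apply]
  have h4 : algebraMap R K (actV k Q c m) =
      algebraMap R K (actV k P (fun l => algebraMap k R (a l)) m) *
        ((algebraMap R K β)⁻¹ ^ (m.1 0) * (algebraMap R K β) ^ (m.1 1)) := by
    rw [h1, h2, ← actV_mul, ← hQφ, hMQ, actV_mul, actV_diagonal, Fin.prod_univ_two, hPφ, ← h3]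
    rfl
  apply IsFractionRing.injective R K
  rw [map_mul, map_mul, map_pow, map_pow, h4]
  have e : ((algebraMap R K β)⁻¹) ^ (m.1 0) * (algebraMap R K β) ^ (m.1 0) = 1 := by
    rw [← mul_pow, inv_mul_cancel₀ hβK, one_pow]
  generalize algebraMap R K (actV k P (fun l => algebraMap k R (a l)) m) = B
  linear_combination (-(B * (algebraMap R K β) ^ (m.1 1))) * e

variable (res : R →ₐ[k] k) (hres : RingHom.ker res = maximalIdeal R)

include hres in
lemma res_actV_eq (P : Matrix (Fin 2) (Fin 2) R) (a : FormIdx 2 d → k) (m : FormIdx 2 d) :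
    actV k (P.map res) a m = res (actV k P (fun l => algebraMap k R (a l)) m) := by
  rw [← actV_map k res P]
  congr 1
  funext l
  rw [AlgHom.commutes]; rfl

lemma det_map_res (P : Matrix (Fin 2) (Fin 2) R) (hP : P.det = 1) : (P.map res).det = 1 := by
  have := AlgHom.map_det res P
  rw [hP, map_one] at this
  rw [this]; rfl

include hres in
theorem core_deg (P Q : Matrix (Fin 2) (Fin 2) R) (β : R) (hβ : β ≠ 0) (hP : P.det = 1)
    (hβm : β ∈ maximalIdeal R) (a : FormIdx 2 d → k) (c : FormIdx 2 d → R)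
    (heq : ∀ m : FormIdx 2 d, actV k P (fun l => algebraMap k R (a l)) m * β ^ (m.1 1) =
      actV k Q c m * β ^ (m.1 0)) :
    ∃ N : Matrix (Fin 2) (Fin 2) k, N.det = 1 ∧
      ∀ m : FormIdx 2 d, m.1 1 < m.1 0 → actV k N a m = 0 := by
  refine ⟨P.map res, det_map_res res P hP, fun m hm => ?_⟩
  rw [res_actV_eq res hres]
  have h1 : actV k P (fun l => algebraMap k R (a l)) m = actV k Q c m * β ^ (m.1 0 - m.1 1) := by
    apply mul_right_cancel₀ (pow_ne_zero (m.1 1) hβ)
    rw [heq m, mul_assoc, ← pow_add, Nat.sub_add_cancel hm.le]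
  have h2 : actV k P (fun l => algebraMap k R (a l)) m ∈ maximalIdeal R := by
    rw [h1]
    apply Ideal.mul_mem_left
    exact Ideal.pow_mem_of_mem _ hβm _ (by omega)
  rw [← hres] at h2
  exact h2

include hres in
theorem core_null (P Q : Matrix (Fin 2) (Fin 2) R) (β : R) (hβ : β ≠ 0) (hP : P.det = 1)
    (a : FormIdx 2 d → k) (c : FormIdx 2 d → R) (hcm : ∀ m, c m ∈ maximalIdeal R)
    (heq : ∀ m : FormIdx 2 d, actV k P (fun l => algebraMap k R (a l)) m * β ^ (m.1 1) =
      actV k Q c m * β ^ (m.1 0)) :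
    ∃ N : Matrix (Fin 2) (Fin 2) k, N.det = 1 ∧
      ∀ m : FormIdx 2 d, m.1 1 ≤ m.1 0 → actV k N a m = 0 := by
  refine ⟨P.map res, det_map_res res P hP, fun m hm => ?_⟩
  rw [res_actV_eq res hres]
  have h1 : actV k P (fun l => algebraMap k R (a l)) m = actV k Q c m * β ^ (m.1 0 - m.1 1) := by
    apply mul_right_cancel₀ (pow_ne_zero (m.1 1) hβ)
    rw [heq m, mul_assoc, ← pow_add, Nat.sub_add_cancel hm]
  have h2 : actV k P (fun l => algebraMap k R (a l)) m ∈ maximalIdeal R := by
    rw [h1]
    apply Ideal.mul_mem_right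
    unfold actV
    exact Ideal.sum_mem _ fun l _ => Ideal.mul_mem_right _ _ (hcm l)
  rw [← hres] at h2
  exact h2

include hres in
theorem core_unit (M : Matrix (Fin 2) (Fin 2) K) (P Q : Matrix (Fin 2) (Fin 2) R) (β : R)
    (hP : P.det = 1) (hQ : Q.det = 1) (hβu : IsUnit β)
    (hMQ : M * Q.map (algebraMap R K) = P.map (algebraMap R K) *
      Matrix.diagonal ![(algebraMap R K β)⁻¹, algebraMap R K β])
    (a : FormIdx 2 d → k) (c : FormIdx 2 d → R)
    (heq : ∀ m : FormIdx 2 d, actV k P (fun l => algebraMap k R (a l)) m * β ^ (m.1 1) =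
      actV k Q c m * β ^ (m.1 0)) :
    (∃ N : Matrix (Fin 2) (Fin 2) k, N.det = 1 ∧ ∀ m : FormIdx 2 d, res (c m) = actV k N a m) ∧
      ∃ MR : Matrix (Fin 2) (Fin 2) R, MR.det = 1 ∧ M = MR.map (algebraMap R K) := by
  obtain ⟨βu, rfl⟩ := hβu
  set DR : Matrix (Fin 2) (Fin 2) R := Matrix.diagonal ![((βu⁻¹ : Rˣ) : R), (βu : R)] with hDR
  set MR : Matrix (Fin 2) (Fin 2) R := P * DR * Q.adjugate with hMR
  have hdetD : DR.det = 1 := by
    rw [hDR, Matrix.det_diagonal, Fin.prod_univ_two]
    simp
  have hdetMR : MR.det = 1 := by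
    rw [hMR, Matrix.det_mul, Matrix.det_mul, hP, hdetD, Matrix.det_adjugate, hQ]
    simp
  have hQadj : Q * Q.adjugate = 1 := by rw [Matrix.mul_adjugate, hQ, one_smul]
  constructor
  · refine ⟨MR.map res, det_map_res res MR hdetMR, fun m => ?_⟩
    rw [res_actV_eq res hres]
    congr 1
    -- c = actV MR aR
    have he : actV k Q c = actV k DR (actV k P (fun l => algebraMap k R (a l))) := by
      funext m'
      rw [actV_diagonal, Fin.prod_univ_two]
      have := heq m'
      simp only [Matrix.cons_val_zero, Matrix.cons_val_one]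
      have h1 : actV k Q c m' = actV k Q c m' * (βu : R) ^ (m'.1 0) * ((βu⁻¹ : Rˣ) : R) ^ (m'.1 0) := by
        rw [mul_assoc, ← mul_pow, Units.mul_inv, one_pow, mul_one]
      rw [h1, ← this]
      ring
    have hc : c = actV k Q.adjugate (actV k Q c) := by
      rw [← actV_mul, hQadj, actV_one]
    rw [hc, he, hMR, actV_mul, actV_mul]
  · refine ⟨MR, hdetMR, ?_⟩
    have h1 : Q.map (algebraMap R K) * Q.adjugate.map (algebraMap R K) = 1 := by
      rw [← Matrix.map_mul, hQadj]
      exact Matrix.map_one _ (map_zero _) (map_one _)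
    have h2 : Matrix.diagonal ![(algebraMap R K (βu : R))⁻¹, algebraMap R K (βu : R)] =
        DR.map (algebraMap R K) := by
      rw [hDR]
      ext i j; fin_cases i <;> fin_cases j <;> simp
    calc M = M * (Q.map (algebraMap R K) * Q.adjugate.map (algebraMap R K)) := by
          rw [h1, Matrix.mul_one]
      _ = (P.map (algebraMap R K) * DR.map (algebraMap R K)) * Q.adjugate.map (algebraMap R K) := by
          rw [← Matrix.mul_assoc, hMQ, h2]
      _ = MR.map (algebraMap R K) := by
          rw [hMR, Matrix.map_mul, Matrix.map_mul]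

include res hres in
/-- the three consequences, assembled -/
theorem core_main (M : Matrix (Fin 2) (Fin 2) K) (hdet : M.det = 1)
    (a : FormIdx 2 d → k) (c : FormIdx 2 d → R)
    (hc : ∀ m, algebraMap R K (c m) = actV k M (fun l => algebraMap k K (a l)) m) :
    ((∃ N : Matrix (Fin 2) (Fin 2) k, N.det = 1 ∧ ∀ m : FormIdx 2 d, res (c m) = actV k N a m) ∧
      ∃ MR : Matrix (Fin 2) (Fin 2) R, MR.det = 1 ∧ M = MR.map (algebraMap R K)) ∨
    (∃ N : Matrix (Fin 2) (Fin 2) k, N.det = 1 ∧
      ∀ m : FormIdx 2 d, m.1 1 < m.1 0 → actV k N a m = 0) := by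
  obtain ⟨P, Q, β, hP, hQ, hβ, hMQ⟩ := cart (R := R) M hdet
  have heq := core_eq M P Q β hβ hMQ a c hc
  by_cases hβu : IsUnit β
  · left
    exact core_unit res hres M P Q β hP hQ hβu hMQ a c heq
  · right
    exact core_deg res hres P Q β hβ hP ((mem_maximalIdeal β).mpr hβu) a c heq

include res hres in
theorem core_main_null (M : Matrix (Fin 2) (Fin 2) K) (hdet : M.det = 1)
    (a : FormIdx 2 d → k) (c : FormIdx 2 d → R) (hcm : ∀ m, c m ∈ maximalIdeal R)
    (hc : ∀ m, algebraMap R K (c m) = actV k M (fun l => algebraMap k K (a l)) m) :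
    ∃ N : Matrix (Fin 2) (Fin 2) k, N.det = 1 ∧
      ∀ m : FormIdx 2 d, m.1 1 ≤ m.1 0 → actV k N a m = 0 := by
  obtain ⟨P, Q, β, hP, hQ, hβ, hMQ⟩ := cart (R := R) M hdet
  have heq := core_eq M P Q β hβ hMQ a c hc
  exact core_null res hres P Q β hβ hP a c hcm heq

end Core

end Groth.Agent.H9.BinF
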