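import Mathlib
import Groth.Agent.Lib.Helper9.Misc.CLO5

/-!
# Points with finite stabilizer: their orbit is not in the boundary of another orbit; stable
points and fibres of the quotient (helper9; S11802, S11808)
-/

set_option autoImplicit false
set_option linter.style.haveILetI false
set_option linter.unusedSectionVars false
set_option linter.unusedVariables false

universe u

open TensorProduct WithConv Topology

namespace Groth.Agent.H9.CLO

open Groth.Agent.H9 Groth.Agent.H9.Comod Groth.Agent.H9.GIT Groth.Agent.H9.CocommDiag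

section

variable {k : Type u} [Field k] [IsAlgClosed k] {A : Type u} [CommRing A] [HopfAlgebra k A]
  [Algebra.FiniteType k A]
  {R : Type u} [CommRing R] [Algebra k R] [Algebra.FiniteType k R] [HopfRep.Comod k A R]
  [GLin.IsCoactAlg k A R]

/-- the stabilizer (rational points). -/
def StabK (x : R →ₐ[k] k) : Set (A →ₐ[k] k) := {g | GLin.actPt k g x = x}

lemma stabK_eq_raw (x : R →ₐ[k] k) :
    StabK (A := A) x = {g : A →ₐ[k] k | ∀ f : R, x (HopfRep.Comod.act k A R g f) = x f} := by
  ext g
  simp only [StabK, Set.mem_ofPred_eq]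
  constructor
  · intro h f
    rw [← actPt_apply, h]
  · intro h
    ext f
    rw [actPt_apply, h f]

lemma actPt_inv_actPt (g : A →ₐ[k] k) (x : R →ₐ[k] k) :
    GLin.actPt k ((toConv g)⁻¹).ofConv (GLin.actPt k g x) = x := by
  rw [actPt_actPt, toConv_ofConv, mul_inv_cancel, actPt_one]

lemma actPt_actPt_inv (g : A →ₐ[k] k) (x : R →ₐ[k] k) :
    GLin.actPt k g (GLin.actPt k ((toConv g)⁻¹).ofConv x) = x := by
  rw [actPt_actPt, toConv_ofConv, inv_mul_cancel, actPt_one]

lemma Ik_actPt_le (h : A →ₐ[k] k) (x : R →ₐ[k] k) :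
    Ik (A := A) (GLin.actPt k h x) ≤ Ik (A := A) x := by
  intro f hf
  rw [mem_Ik] at hf ⊢
  intro g'
  have := hf ((toConv h)⁻¹ * toConv g').ofConv
  rw [actPt_actPt, toConv_ofConv, mul_inv_cancel_left] at this
  exact this

lemma Ik_le_ker_actPt {x y : R →ₐ[k] k} (hxy : Ik (A := A) y ≤ RingHom.ker (x : R →+* k))
    (g : A →ₐ[k] k) : Ik (A := A) y ≤ RingHom.ker (GLin.actPt k g x : R →+* k) := by
  intro f hf
  show GLin.actPt k g x f = 0
  rw [← apply_tr]
  exact hxy (tr_mem_Ik g hf)

lemma finite_fibre_of_finite_stab (x : R →ₐ[k] k) (hfin : (StabK (A := A) x).Finite)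
    (g : A →ₐ[k] k) :
    {g' : A →ₐ[k] k | g'.comp (GLin.orbitHom k A x) = g.comp (GLin.orbitHom k A x)}.Finite := by
  refine (hfin.image (fun s => (toConv s * toConv g).ofConv)).subset ?_
  intro g' hg'
  have hg'' : GLin.actPt k g' x = GLin.actPt k g x := hg'
  refine ⟨(toConv g' * (toConv g)⁻¹).ofConv, ?_, ?_⟩
  · show GLin.actPt k (toConv g' * (toConv g)⁻¹).ofConv x = x
    have h1 : GLin.actPt k (toConv g' * (toConv g)⁻¹).ofConv x =
        GLin.actPt k ((toConv g)⁻¹).ofConv (GLin.actPt k g' x) := by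
      rw [actPt_actPt, toConv_ofConv]
    rw [h1, hg'', actPt_inv_actPt]
  · show (toConv (toConv g' * (toConv g)⁻¹).ofConv * toConv g).ofConv = g'
    rw [toConv_ofConv, inv_mul_cancel_right, ofConv_toConv]

lemma finite_stab_actPt (g : A →ₐ[k] k) (x : R →ₐ[k] k) (hfin : (StabK (A := A) x).Finite) :
    (StabK (A := A) (GLin.actPt k g x)).Finite := by
  have hinj : Function.Injective
      (fun h : A →ₐ[k] k => (toConv g * toConv h * (toConv g)⁻¹).ofConv) := by
    intro h h' hh
    have h1 : toConv g * toConv h * (toConv g)⁻¹ = toConv g * toConv h' * (toConv g)⁻¹ := by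
      have := congrArg toConv hh
      simpa using this
    have h2 : toConv h = toConv h' := by
      have := mul_right_cancel h1
      exact mul_left_cancel this
    have := congrArg WithConv.ofConv h2
    simpa using this
  refine (hfin.preimage hinj.injOn).subset ?_
  intro h hh
  have hh' : GLin.actPt k h (GLin.actPt k g x) = GLin.actPt k g x := hh
  show GLin.actPt k (toConv g * toConv h * (toConv g)⁻¹).ofConv x = x
  have h1 : GLin.actPt k (toConv g * toConv h * (toConv g)⁻¹).ofConv x =
      GLin.actPt k ((toConv g)⁻¹).ofConv (GLin.actPt k h (GLin.actPt k g x)) := by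
    rw [actPt_actPt g h x, actPt_actPt, toConv_ofConv, toConv_ofConv]
  rw [h1, hh', actPt_inv_actPt]

/-- **key**: a point with finite stabilizer lying in the closure of an orbit lies on that
orbit. -/
theorem exists_actPt_eq_of_finite_stab (x y : R →ₐ[k] k) (hfin : (StabK (A := A) x).Finite)
    (hxy : Ik (A := A) y ≤ RingHom.ker (x : R →+* k)) :
    ∃ h : A →ₐ[k] k, x = GLin.actPt k h y := by
  by_contra hno
  have h1 : topologicalKrullDim ↥(Set.range (cO (A := A) y)) ≤
      topologicalKrullDim (PrimeSpectrum A) := dim_range_le (GLin.orbitHom k A y)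
  have h2 : topologicalKrullDim (PrimeSpectrum A) ≤
      topologicalKrullDim ↥(Set.range (cO (A := A) x)) :=
    dim_le_range_of_finite_fibres (GLin.orbitHom k A x)
      (fun g => finite_fibre_of_finite_stab x hfin g)
  obtain ⟨W', hW', hrange⟩ := exists_open_range_cO (A := A) y
  have hlc : IsLocallyClosed (Set.range (cO (A := A) y)) := by
    rw [hrange]
    exact isClosed_closure.isLocallyClosed.inter hW'.isLocallyClosed
  have hne : (Set.range (cO (A := A) y)).Nonempty := ⟨_, ⟨pt (Bialgebra.counitAlgHom k A), rfl⟩⟩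
  have h4 := dim_boundary_lt_spec k (Set.range (cO (A := A) y)) hlc hne
  have hBc : IsClosed (closure (Set.range (cO (A := A) y)) \ Set.range (cO (A := A) y)) := by
    have h' := hlc.isOpen_coborder
    unfold coborder at h'
    exact isOpen_compl_iff.mp h'
  have h3 : Set.range (cO (A := A) x) ⊆
      closure (Set.range (cO (A := A) y)) \ Set.range (cO (A := A) y) := by
    have hpre : (cO (A := A) x) ⁻¹'
        (closure (Set.range (cO (A := A) y)) \ Set.range (cO (A := A) y)) = Set.univ := by
      apply eq_univ_of_forall_pt (k := k) _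
        (hBc.preimage (PrimeSpectrum.continuous_comap (GLin.orbitHom k A x).toRingHom))
      intro g
      change cO (A := A) x (pt g) ∈
        closure (Set.range (cO (A := A) y)) \ Set.range (cO (A := A) y)
      rw [cO_pt]
      refine ⟨pt_mem_closure y _ (Ik_le_ker_actPt hxy g), ?_⟩
      intro hmem
      obtain ⟨h, hh⟩ := (mem_range_cO_iff y _).mp hmem
      exact hno (exists_actPt_eq_of_actPt_eq h g y x hh.symm)
    rintro _ ⟨q, rfl⟩
    have : q ∈ (cO (A := A) x) ⁻¹'
        (closure (Set.range (cO (A := A) y)) \ Set.range (cO (A := A) y)) := by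
      rw [hpre]; trivial
    exact this
  have h5 := Groth.Agent.H3.TopDim.dim_mono h3
  exact lt_irrefl _ (lt_of_le_of_lt h5 (lt_of_lt_of_le h4 (h1.trans h2)))


/-- **S11802**: a stable point is separated by invariants from every point outside its orbit. -/
theorem S11802_main (hss : HopfRep.IsSemisimpleComod k A R) (x : R →ₐ[k] k)
    (hclosed : ∀ z : R →ₐ[k] k,
      (∀ f : R, (∀ g : A →ₐ[k] k, x (HopfRep.Comod.act k A R g f) = 0) → z f = 0) →
        ∃ g : A →ₐ[k] k, ∀ f : R, z f = x (HopfRep.Comod.act k A R g f))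
    (hfin : {g : A →ₐ[k] k | ∀ f : R, x (HopfRep.Comod.act k A R g f) = x f}.Finite)
    (y : R →ₐ[k] k) (hy : ∀ g : A →ₐ[k] k, ∃ f : R, y f ≠ x (HopfRep.Comod.act k A R g f)) :
    ∃ f ∈ HopfRep.fixedPts k A R, x f ≠ y f := by
  by_contra hall
  push Not at hall
  obtain ⟨z, hz1, hz2⟩ := (inv_eq_iff_closures_meet hss x y).mp hall
  obtain ⟨g, hg⟩ := hclosed z hz1
  have hzg : z = GLin.actPt k g x := by
    ext f
    rw [hg f, actPt_apply]
  have hzy : Ik (A := A) y ≤ RingHom.ker (z : R →+* k) := fun f hf => hz2 f (mem_Ik_raw.mp hf)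
  have hxy : Ik (A := A) y ≤ RingHom.ker (x : R →+* k) := by
    have := Ik_le_ker_actPt hzy ((toConv g)⁻¹).ofConv
    rwa [hzg, actPt_inv_actPt] at this
  have hfin' : (StabK (A := A) x).Finite := by
    rw [stabK_eq_raw]; exact hfin
  obtain ⟨h, hh⟩ := exists_actPt_eq_of_finite_stab x y hfin' hxy
  obtain ⟨f, hf⟩ := hy ((toConv h)⁻¹).ofConv
  apply hf
  rw [← actPt_apply, hh, actPt_inv_actPt]

/-- **S11808**: stability in terms of the stabilizers along the fibre of the quotient. -/
theorem S11808_main (hss : HopfRep.IsSemisimpleComod k A R) (x : R →ₐ[k] k) :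
    ((∀ z : R →ₐ[k] k, (∀ f : R, (∀ g : A →ₐ[k] k, x (HopfRep.Comod.act k A R g f) = 0) → z f = 0) →
          ∃ g : A →ₐ[k] k, ∀ f : R, z f = x (HopfRep.Comod.act k A R g f)) ∧
      {g : A →ₐ[k] k | ∀ f : R, x (HopfRep.Comod.act k A R g f) = x f}.Finite) ↔
    ∀ z : R →ₐ[k] k, (∀ f ∈ HopfRep.fixedPts k A R, z f = x f) →
      {g : A →ₐ[k] k | ∀ f : R, z (HopfRep.Comod.act k A R g f) = z f}.Finite := by
  constructor
  · rintro ⟨hclosed, hfin⟩ z hz
    by_cases horb : ∃ g : A →ₐ[k] k, z = GLin.actPt k g x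
    · obtain ⟨g, rfl⟩ := horb
      rw [← stabK_eq_raw]
      apply finite_stab_actPt
      rw [stabK_eq_raw]
      exact hfin
    · exfalso
      have hy : ∀ g : A →ₐ[k] k, ∃ f : R, z f ≠ x (HopfRep.Comod.act k A R g f) := by
        intro g
        by_contra hcon
        push Not at hcon
        apply horb
        refine ⟨g, ?_⟩
        ext f
        rw [hcon f, actPt_apply]
      obtain ⟨f, hf, hne⟩ := S11802_main hss x hclosed hfin z hy
      exact hne (hz f hf).symm
  · intro hall
    obtain ⟨y, hyc, hxy⟩ := exists_closedPt (A := A) x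
    have hyx : ∀ f ∈ HopfRep.fixedPts k A R, y f = x f := fun f hf => apply_eq_of_Ik_le hxy hf
    have hyfin : (StabK (A := A) y).Finite := by
      rw [stabK_eq_raw]; exact hall y hyx
    obtain ⟨h, hh⟩ := exists_actPt_eq_of_finite_stab y x hyfin hxy
    refine ⟨?_, hall x (fun f _ => rfl)⟩
    intro z hz
    have hzx : Ik (A := A) x ≤ RingHom.ker (z : R →+* k) := fun f hf => hz f (mem_Ik_raw.mp hf)
    have hzy : Ik (A := A) y ≤ RingHom.ker (z : R →+* k) := by
      rw [hh]; exact (Ik_actPt_le h x).trans hzx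
    obtain ⟨g, hg⟩ := hyc z hzy
    refine ⟨(toConv h * toConv g).ofConv, fun f => ?_⟩
    rw [← actPt_apply, ← actPt_actPt, ← hh, hg]

end

end Groth.Agent.H9.CLO
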