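import Mathlib
import Groth.Prelude.Def_AlgGrp
import Groth.Agent.Lib.Helper9.Misc.ORB6
import Groth.Agent.Lib.Helper1.FibDimBC

/-! Helper9: upper semicontinuity of the stabilizer dimension / lower semicontinuity of the orbit
dimension (S11244): the orbit map is the base change of `(g, x) ↦ (g x, x)`, Chevalley's theorem
along the unit section. -/

set_option autoImplicit false
set_option linter.style.haveILetI false
set_option linter.unusedSectionVars false
set_option linter.unusedVariables false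

namespace Groth.Agent.H9.ORB7

universe u

open CategoryTheory CategoryTheory.Limits AlgebraicGeometry MonoidalCategory
  CartesianMonoidalCategory MonObj GrpObj Groth.Agent.H9.FLH Topology TopologicalSpace
  Groth.Agent.H9.GSC Groth.Agent.H9.ORB6

section Arith

theorem natCast_le_iff (a b : ℕ) : (a : WithBot ℕ∞) ≤ (b : WithBot ℕ∞) ↔ a ≤ b := by
  show ((a : ℕ∞) : WithBot ℕ∞) ≤ ((b : ℕ∞) : WithBot ℕ∞) ↔ _
  rw [WithBot.coe_le_coe, Nat.cast_le]

theorem eq_of_natCast_eq_add (o n d : ℕ)
    (h : (d : WithBot ℕ∞) = (o : WithBot ℕ∞) + (n : WithBot ℕ∞)) : d = o + n := by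
  rw [← Nat.cast_add] at h
  exact le_antisymm ((natCast_le_iff _ _).mp (le_of_eq h)) ((natCast_le_iff _ _).mp (le_of_eq h.symm))

theorem orbit_le_iff (o : WithBot ℕ∞) (n d r m : ℕ) (h : (d : WithBot ℕ∞) = o + n)
    (hm : m + r + 1 = d) : o ≤ r ↔ ¬ ((n : WithBot ℕ∞) ≤ m) := by
  revert h
  refine Groth.Agent.H1.FlatRelDim.withBot_enat_cases
    (fun o => (d : WithBot ℕ∞) = o + n → (o ≤ r ↔ ¬ ((n : WithBot ℕ∞) ≤ m))) ?_ ?_ ?_ o
  · intro h
    rw [WithBot.bot_add] at h
    exact absurd h (WithBot.natCast_ne_bot d)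
  · intro h
    rw [Groth.Agent.H1.FlatRelDim.top_add_natCast] at h
    exact absurd (le_of_eq h.symm) (Groth.Agent.H1.FlatRelDim.not_top_le_natCast d)
  · intro o₀ h
    have h1 := eq_of_natCast_eq_add o₀ n d h
    rw [natCast_le_iff, natCast_le_iff]
    omega

theorem orbit_le_of_le (o : WithBot ℕ∞) (n d r : ℕ) (h : (d : WithBot ℕ∞) = o + n)
    (hdr : d ≤ r) : o ≤ r := by
  revert h
  refine Groth.Agent.H1.FlatRelDim.withBot_enat_cases
    (fun o => (d : WithBot ℕ∞) = o + n → o ≤ r) ?_ ?_ ?_ o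
  · intro h
    exact bot_le
  · intro h
    rw [Groth.Agent.H1.FlatRelDim.top_add_natCast] at h
    exact absurd (le_of_eq h.symm) (Groth.Agent.H1.FlatRelDim.not_top_le_natCast d)
  · intro o₀ h
    have h1 := eq_of_natCast_eq_add o₀ n d h
    rw [natCast_le_iff]
    omega

end Arith

section General

/-- the closure of a locally closed image has the dimension of the image. -/
theorem dim_closure_range_eq {k : Type u} [Field k] {G X : Scheme.{u}}
    (q : X ⟶ Spec (CommRingCat.of k)) [LocallyOfFiniteType q] (f : G ⟶ X)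
    (hA : (irreducibleComponents ↥G).Finite) (hO : IsLocallyClosed (Set.range f.base)) :
    topologicalKrullDim ↥(closure (Set.range f.base)) =
      topologicalKrullDim ↥(Set.range f.base) := by
  apply le_antisymm
  · refine (Groth.Agent.H1.ClosedDim.dim_le_iSup_closure _ isClosed_closure).trans ?_
    apply iSup_le
    rintro ⟨P, hP⟩
    obtain ⟨w₀, hw₀⟩ := exists_closure_of_mem_closure_range hA f.continuous P hP
    exact (Groth.Agent.H3.TopDim.dim_mono
      (closure_minimal (Set.singleton_subset_iff.mpr hw₀) isClosed_closure)).trans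
      (dim_closure_le_of_mem q _ hO (f.base w₀) ⟨w₀, rfl⟩)
  · exact Groth.Agent.H3.TopDim.dim_mono subset_closure

end General

section Semicont

variable {k : Type u} [Field k] {G X : Over (Spec (CommRingCat.of k))} [GrpObj G]
  (a : AlgGrp.Action G X)

local notation "𝟙K" => 𝟙_ (Over (Spec (CommRingCat.of k)))

/-- `(g, x) ↦ (g x, x)` -/
noncomputable def Phi : G ⊗ X ⟶ X ⊗ X := lift a.act (snd G X)

variable (G X) in
/-- `x ↦ (e, x)` -/
noncomputable def sig : X ⟶ G ⊗ X := lift (toUnit X ≫ η[G]) (𝟙 X)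

variable (x₀ : 𝟙_ (Over (Spec (CommRingCat.of k))) ⟶ X)

variable (G) in
/-- `g ↦ (g, x₀)` -/
noncomputable def inc : G ⟶ G ⊗ X := lift (𝟙 G) (toUnit G ≫ x₀)

/-- `y ↦ (y, x₀)` -/
noncomputable def jnc : X ⟶ X ⊗ X := lift (𝟙 X) (toUnit X ≫ x₀)

/-- the orbit map is the base change of `Phi` along `y ↦ (y, x₀)`. -/
theorem isPullback_orbit : IsPullback (inc G x₀) (a.orbitMap x₀) (Phi a) (jnc x₀) := by
  have hinc_fst : inc G x₀ ≫ fst G X = 𝟙 G := by unfold inc; rw [lift_fst]
  have hinc_snd : inc G x₀ ≫ snd G X = toUnit G ≫ x₀ := by unfold inc; rw [lift_snd]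
  have hinc_act : inc G x₀ ≫ a.act = a.orbitMap x₀ := rfl
  have hPhi_fst : Phi a ≫ fst X X = a.act := by unfold Phi; rw [lift_fst]
  have hPhi_snd : Phi a ≫ snd X X = snd G X := by unfold Phi; rw [lift_snd]
  have hj_fst : jnc x₀ ≫ fst X X = 𝟙 X := by unfold jnc; rw [lift_fst]
  have hj_snd : jnc x₀ ≫ snd X X = toUnit X ≫ x₀ := by unfold jnc; rw [lift_snd]
  have key : ∀ s : PullbackCone (Phi a) (jnc x₀),
      s.fst ≫ a.act = s.snd ∧ s.fst ≫ snd G X = toUnit s.pt ≫ x₀ := by
    intro s
    have h := s.condition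
    have h1 := congrArg (· ≫ fst X X) h
    have h2 := congrArg (· ≫ snd X X) h
    simp only [Category.assoc, hPhi_fst, hPhi_snd, hj_fst, hj_snd, Category.comp_id] at h1 h2
    refine ⟨h1, ?_⟩
    rw [h2, ← Category.assoc]
    congr 1
    exact toUnit_unique _ _
  have hlift : ∀ s : PullbackCone (Phi a) (jnc x₀),
      (s.fst ≫ fst G X) ≫ inc G x₀ = s.fst := by
    intro s
    apply CartesianMonoidalCategory.hom_ext
    · rw [Category.assoc, hinc_fst, Category.comp_id]
    · rw [Category.assoc, hinc_snd, (key s).2, ← Category.assoc]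
      congr 1
      exact toUnit_unique _ _
  refine ⟨⟨?_⟩, ⟨PullbackCone.IsLimit.mk _ (fun s => s.fst ≫ fst G X) hlift ?_ ?_⟩⟩
  · apply CartesianMonoidalCategory.hom_ext
    · rw [Category.assoc, hPhi_fst, Category.assoc, hj_fst, Category.comp_id]
      all_goals rfl
    · rw [Category.assoc, hPhi_snd, hinc_snd, Category.assoc, hj_snd, ← Category.assoc]
      congr 1
      exact toUnit_unique _ _
  · intro s
    rw [← hinc_act, ← Category.assoc, hlift s]
    exact (key s).1
  · intro s m hm _
    rw [← hm, Category.assoc, hinc_fst, Category.comp_id]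

theorem lft_Phi [LocallyOfFiniteType G.hom] [LocallyOfFiniteType X.hom] :
    LocallyOfFiniteType (Phi a).left := by
  have h1 : LocallyOfFiniteType (G ⊗ X).hom := by
    have h : (G ⊗ X).hom = (fst G X).left ≫ G.hom := (Over.w (fst G X)).symm
    rw [h]
    have : LocallyOfFiniteType (fst G X).left := by
      show LocallyOfFiniteType (pullback.fst G.hom X.hom)
      infer_instance
    infer_instance
  have : LocallyOfFiniteType ((Phi a).left ≫ (X ⊗ X).hom) := by
    rw [Over.w]; exact h1
  exact locallyOfFiniteType_of_comp _ (X ⊗ X).hom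

theorem fibreDimAt_orbit_eq [LocallyOfFiniteType (Phi a).left] (g : G.left) :
    FlatMor.fibreDimAt (a.orbitMap x₀).left g =
      FlatMor.fibreDimAt (Phi a).left ((inc G x₀).left g) :=
  Groth.Agent.H1.FibDimBC.fibreDimAt_eq_of_isPullback (Phi a).left (jnc x₀).left (inc G x₀).left
    (a.orbitMap x₀).left ((isPullback_orbit a x₀).map (Over.forget _)) g

theorem one_inc : (1 : 𝟙K ⟶ G) ≫ inc G x₀ = x₀ ≫ sig G X := by
  unfold inc sig
  apply CartesianMonoidalCategory.hom_ext
  · rw [Category.assoc, lift_fst, Category.comp_id, Category.assoc, lift_fst, ← Category.assoc,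
      Hom.one_def]
    congr 1
    exact toUnit_unique _ _
  · rw [Category.assoc, lift_snd, Category.assoc, lift_snd, Category.comp_id, ← Category.assoc]
    have : (1 : 𝟙K ⟶ G) ≫ toUnit G = 𝟙 _ := toUnit_unique _ _
    rw [this, Category.id_comp]

theorem inc_pt_one : (inc G x₀).left (pt G (1 : 𝟙K ⟶ G)) =
    (sig G X).left (x₀.left (IsLocalRing.closedPoint k)) := by
  have h := congrArg (fun φ : 𝟙K ⟶ G ⊗ X => φ.left (IsLocalRing.closedPoint k)) (one_inc x₀)
  simp only [Over.comp_left, Scheme.Hom.comp_apply] at h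
  exact h

end Semicont

/-- **S11244**: the rational points whose orbit (closure) has dimension at most `r` are those of a
closed subset. -/
theorem S11244_main (k : Type u) [Field k] [IsAlgClosed k]
    (G : Over (Spec (CommRingCat.of k))) [GrpObj G] [LocallyOfFiniteType G.hom]
    [QuasiCompact G.hom]
    (X : Over (Spec (CommRingCat.of k))) [LocallyOfFiniteType X.hom] [QuasiCompact X.hom]
    (a : AlgGrp.Action G X) (r : ℕ) :
    ∃ Z : Set ↥X.left, IsClosed Z ∧
      ∀ x : 𝟙_ (Over (Spec (CommRingCat.of k))) ⟶ X,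
        topologicalKrullDim ↥(closure (Set.range ⇑(a.orbitMap x).left.base)) ≤
            (r : WithBot ℕ∞) ↔
          Set.range ⇑x.left.base ⊆ Z := by
  haveI hΦ : LocallyOfFiniteType (Phi a).left := lft_Phi a
  have hGn : IsLocallyNoetherian G.left := LocallyOfFiniteType.isLocallyNoetherian G.hom
  have hGc : CompactSpace G.left := QuasiCompact.compactSpace_of_compactSpace G.hom
  haveI : IsNoetherian G.left := {}
  have hA : (irreducibleComponents ↥G.left).Finite :=
    NoetherianSpace.finite_irreducibleComponents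
  haveI : Nonempty ↥G.left := ⟨pt G (1 : 𝟙_ (Over (Spec (CommRingCat.of k))) ⟶ G)⟩
  obtain ⟨D, hD⟩ := Groth.Agent.H9.ORB3.exists_nat_dim_le G.hom
  have hG0 : 0 ≤ topologicalKrullDim ↥G.left := Groth.Agent.H3.TopDim.dim_nonneg
  obtain ⟨d, hd⟩ : ∃ d : ℕ, topologicalKrullDim ↥G.left = d := by
    induction h : topologicalKrullDim ↥G.left using WithBot.recBotCoe with
    | bot =>
      rw [h] at hG0
      exact absurd hG0 (not_le.mpr (WithBot.bot_lt_coe (0 : ℕ∞)))
    | coe a =>
      rw [h] at hD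
      have h' : a ≤ (D : ℕ∞) := by exact_mod_cast hD
      lift a to ℕ using (ne_top_of_le_ne_top (ENat.natCast_ne_top D) h')
      exact ⟨a, rfl⟩
  have hpt : ∀ x : 𝟙_ (Over (Spec (CommRingCat.of k))) ⟶ X, ∃ n : ℕ,
      FlatMor.fibreDimAt (Phi a).left
        ((sig G X).left (x.left (IsLocalRing.closedPoint k))) = n ∧
      (d : WithBot ℕ∞) =
        topologicalKrullDim ↥(closure (Set.range (a.orbitMap x).left.base)) + n := by
    intro x
    haveI hφ : LocallyOfFiniteType (a.orbitMap x).left := by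
      have : LocallyOfFiniteType ((a.orbitMap x).left ≫ X.hom) := by
        rw [Over.w]; infer_instance
      exact locallyOfFiniteType_of_comp _ X.hom
    obtain ⟨n, hn⟩ := exists_fibreDimAt_eq a x
    have hO : IsLocallyClosed (Set.range (a.orbitMap x).left.base) :=
      Groth.Agent.H9.ORB.S7984_main k G X a x
    refine ⟨n, ?_, ?_⟩
    · rw [← inc_pt_one, ← fibreDimAt_orbit_eq]
      exact hn _
    · rw [dim_closure_range_eq X.hom (a.orbitMap x).left hA hO, ← hd]
      exact dim_eq_dim_range_add X.hom (a.orbitMap x).left hA hO n hn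
  by_cases hdr : d ≤ r
  · refine ⟨Set.univ, isClosed_univ, fun x => ⟨fun _ => Set.subset_univ _, fun _ => ?_⟩⟩
    obtain ⟨n, -, h2⟩ := hpt x
    exact orbit_le_of_le _ n d r h2 hdr
  · push Not at hdr
    obtain ⟨m, hm⟩ : ∃ m, m + r + 1 = d := ⟨d - r - 1, by omega⟩
    refine ⟨(sig G X).left.base ⁻¹' {w | FlatMor.fibreDimAt (Phi a).left w ≤ m}ᶜ, ?_, ?_⟩
    · exact (Groth.Agent.H1.Chev.isOpen_fibreDimAt_le (Phi a).left m).isClosed_compl.preimage
        (sig G X).left.continuous
    · intro x
      obtain ⟨n, h1, h2⟩ := hpt x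
      have key := orbit_le_iff _ n d r m h2 hm
      rw [← h1] at key
      rw [Groth.Agent.H9.ORB5.range_point, Set.singleton_subset_iff]
      exact key

end Groth.Agent.H9.ORB7
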