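import Mathlib
import Groth.Agent.Lib.Helper9.Misc.CLO6
import Groth.Agent.Lib.Helper9.Misc.ORB7
import Groth.Agent.Lib.Helper1.FibDimBC
import Groth.Agent.Lib.Helper1.AlgSpDim3

/-!
# Semicontinuity of the stabilizer dimension at the ring level; the stable locus is cut out by
invariants (helper9; S11809)
-/

set_option autoImplicit false
set_option linter.style.haveILetI false
set_option linter.unusedSectionVars false
set_option linter.unusedVariables false

universe u

open TensorProduct WithConv Topology CategoryTheory AlgebraicGeometry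

namespace Groth.Agent.H9.CLO

open Groth.Agent.H9 Groth.Agent.H9.Comod Groth.Agent.H9.GIT Groth.Agent.H9.CocommDiag

section QF

variable {k : Type u} [Field k] [IsAlgClosed k] {A R : Type u} [CommRing A] [CommRing R]
  [Algebra k A] [Algebra k R] [Algebra.FiniteType k A] [Algebra.FiniteType k R]

theorem lft_sm (φ : R →ₐ[k] A) :
    LocallyOfFiniteType (Spec.map (CommRingCat.ofHom φ.toRingHom)) := by
  rw [HasRingHomProperty.Spec_iff (P := @LocallyOfFiniteType)]
  show φ.toRingHom.FiniteType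
  apply RingHom.FiniteType.of_comp_finiteType (f := algebraMap k R)
  have : φ.toRingHom.comp (algebraMap k R) = algebraMap k A := φ.comp_algebraMap
  rw [this]
  exact RingHom.finiteType_algebraMap.2 inferInstance

/-- a morphism of affine schemes of finite type over an algebraically closed field is
quasi-finite at a rational point whose fibre has finitely many rational points. -/
theorem quasiFiniteAt_pt (φ : R →ₐ[k] A) (g : A →ₐ[k] k)
    (hSfin : {g' : A →ₐ[k] k | g'.comp φ = g.comp φ}.Finite) :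
    (Spec.map (CommRingCat.ofHom φ.toRingHom)).QuasiFiniteAt (pt g) := by
  haveI : IsJacobsonRing A := isJacobsonRing_of_finiteType (A := k)
  set f : Spec (CommRingCat.of A) ⟶ Spec (CommRingCat.of R) :=
    Spec.map (CommRingCat.ofHom φ.toRingHom) with hfdef
  haveI hlft : LocallyOfFiniteType f := lft_sm φ
  have hfpt : ∀ g : A →ₐ[k] k, f (pt g) = pt (g.comp φ) := fun g => rfl
  rw [Scheme.Hom.quasiFiniteAt_iff_isOpen_singleton_asFiber,
    ← (f.fiberHomeo (f (pt g))).isOpen_image]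
  simp only [Set.image_singleton, Scheme.Hom.asFiber, Homeomorph.apply_symm_apply]
  have hFc : IsClosed ((f : PrimeSpectrum A → PrimeSpectrum R) ⁻¹' {f (pt g)}) := by
    apply IsClosed.preimage f.continuous
    rw [hfpt]
    exact isClosed_pt _
  have hFS : ∀ q : PrimeSpectrum A, f q = f (pt g) →
      ∃ g' ∈ {g' : A →ₐ[k] k | g'.comp φ = g.comp φ}, q = pt g' := by
    intro q hq
    by_contra hcon
    push Not at hcon
    have hlc : IsLocallyClosed (((f : PrimeSpectrum A → PrimeSpectrum R) ⁻¹' {f (pt g)}) ∩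
        (pt '' {g' : A →ₐ[k] k | g'.comp φ = g.comp φ})ᶜ) :=
      hFc.isLocallyClosed.inter (isClosed_image_pt _ hSfin).isOpen_compl.isLocallyClosed
    obtain ⟨q', ⟨hq'F, hq'n⟩, hq'c⟩ := nonempty_inter_closedPoints
      (⟨q, hq, fun ⟨g', hg', h⟩ => hcon g' hg' h.symm⟩ :
        (((f : PrimeSpectrum A → PrimeSpectrum R) ⁻¹' {f (pt g)}) ∩
        (pt '' {g' : A →ₐ[k] k | g'.comp φ = g.comp φ})ᶜ).Nonempty) hlc
    have hq'c' : (q' : PrimeSpectrum A).asIdeal.IsMaximal :=
      (PrimeSpectrum.isClosed_singleton_iff_isMaximal (q' : PrimeSpectrum A)).mp hq'c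
    obtain ⟨g'', hg''⟩ := exists_algHom_ker_eq (k := k) (q' : PrimeSpectrum A).asIdeal hq'c'
    have hq'pt : q' = pt g'' := PrimeSpectrum.ext hg''.symm
    apply hq'n
    refine ⟨g'', ?_, hq'pt.symm⟩
    have h1 : f (pt g'') = f (pt g) := by rw [← hq'pt]; exact hq'F
    rw [hfpt, hfpt] at h1
    exact pt_injective h1
  have hset : ({⟨pt g, rfl⟩} : Set ↥((f : PrimeSpectrum A → PrimeSpectrum R) ⁻¹' {f (pt g)})) =
      (Subtype.val ⁻¹' (pt '' ({g' : A →ₐ[k] k | g'.comp φ = g.comp φ} \ {g})))ᶜ := by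
    ext ⟨q, hq⟩
    simp only [Set.mem_singleton_iff, Subtype.mk.injEq]
    constructor
    · rintro rfl ⟨g', ⟨-, hg'⟩, h⟩
      exact hg' (pt_injective h)
    · intro h
      obtain ⟨g', hg', rfl⟩ := hFS q hq
      by_contra hne
      apply h
      refine ⟨g', ⟨hg', ?_⟩, rfl⟩
      intro h'
      apply hne
      rw [Set.mem_singleton_iff.mp h']
  rw [hset]
  exact ((isClosed_image_pt _ (hSfin.subset Set.sdiff_subset)).preimage
    continuous_subtype_val).isOpen_compl

end QF

section Pushout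

variable {k : Type u} [Field k] {A : Type u} [CommRing A] [Bialgebra k A]
  {R : Type u} [CommRing R] [Algebra k R] [HopfRep.Comod k A R] [GLin.IsCoactAlg k A R]

/-- `(x', g) ↦ (g x', x')` on coordinate rings. -/
noncomputable def psi : R ⊗[k] R →ₐ[k] R ⊗[k] A :=
  Algebra.TensorProduct.productMap (GLin.coactAlgHom k A R) Algebra.TensorProduct.includeLeft

lemma psi_tmul (r r' : R) : psi (k := k) (A := A) (r ⊗ₜ[k] r') =
    HopfRep.Comod.coact (k := k) (A := A) r * (r' ⊗ₜ[k] (1 : A)) := by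
  simp only [psi, Algebra.TensorProduct.productMap_apply_tmul, GLin.coactAlgHom_apply,
    Algebra.TensorProduct.includeLeft_apply]

/-- `z ↦ (z, y)` on coordinate rings. -/
noncomputable def beta (y : R →ₐ[k] k) : R ⊗[k] R →ₐ[k] R :=
  Algebra.TensorProduct.productMap (AlgHom.id k R) ((Algebra.ofId k R).comp y)

lemma beta_tmul (y : R →ₐ[k] k) (r r' : R) :
    beta y (r ⊗ₜ[k] r') = r * algebraMap k R (y r') := by
  simp only [beta, Algebra.TensorProduct.productMap_apply_tmul, AlgHom.coe_id, id_eq,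
    AlgHom.comp_apply, Algebra.ofId_apply]

/-- `g ↦ (y, g)` on coordinate rings. -/
noncomputable def alpha (y : R →ₐ[k] k) : R ⊗[k] A →ₐ[k] A :=
  (Algebra.TensorProduct.lid k A).toAlgHom.comp (Algebra.TensorProduct.map y (AlgHom.id k A))

lemma alpha_tmul (y : R →ₐ[k] k) (r : R) (a : A) : alpha y (r ⊗ₜ[k] a) = y r • a := by
  simp [alpha]

lemma orbitHom_eq_alpha (y : R →ₐ[k] k) (r : R) :
    GLin.orbitHom k A y r = alpha y (HopfRep.Comod.coact (k := k) (A := A) r) := rfl

/-- `x ↦ (x, e)` on coordinate rings. -/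
noncomputable def sigmaHom : R ⊗[k] A →ₐ[k] R :=
  (Algebra.TensorProduct.rid k k R).toAlgHom.comp
    (Algebra.TensorProduct.map (AlgHom.id k R) (Bialgebra.counitAlgHom k A))

lemma sigmaHom_tmul (r : R) (a : A) :
    sigmaHom (k := k) (r ⊗ₜ[k] a) = Coalgebra.counit (R := k) a • r := by
  simp [sigmaHom]

theorem pushout_aux {T : Type u} [CommRing T] (y : R →ₐ[k] k) (u : R ⊗[k] A →+* T)
    (v : R →+* T) (h : ∀ z : R ⊗[k] R, u (psi (A := A) z) = v (beta y z)) :
    (∀ z : R ⊗[k] A, u ((1 : R) ⊗ₜ[k] (alpha y z)) = u z) ∧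
    (∀ r : R, u ((1 : R) ⊗ₜ[k] (GLin.orbitHom k A y r)) = v r) := by
  have h1 : ∀ r : R, u (r ⊗ₜ[k] (1 : A)) = v (algebraMap k R (y r)) := by
    intro r
    have := h ((1 : R) ⊗ₜ[k] r)
    rw [psi_tmul, beta_tmul, GLin.IsCoactAlg.coact_one (k := k) (A := A) (R := R), one_mul,
      one_mul] at this
    exact this
  have h2 : ∀ c : k, u (algebraMap k (R ⊗[k] A) c) = v (algebraMap k R c) := by
    intro c
    have := h (algebraMap k (R ⊗[k] R) c)
    rw [AlgHom.commutes, AlgHom.commutes] at this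
    exact this
  have h3 : ∀ z : R ⊗[k] A, u ((1 : R) ⊗ₜ[k] (alpha y z)) = u z := by
    intro z
    induction z using TensorProduct.induction_on with
    | zero => simp
    | tmul r a =>
      rw [alpha_tmul]
      have e1 : ((1 : R) ⊗ₜ[k] (y r • a) : R ⊗[k] A) =
          algebraMap k (R ⊗[k] A) (y r) * ((1 : R) ⊗ₜ[k] a) := by
        rw [TensorProduct.tmul_smul, Algebra.smul_def]
      have e2 : (r ⊗ₜ[k] a : R ⊗[k] A) = (r ⊗ₜ[k] (1 : A)) * ((1 : R) ⊗ₜ[k] a) := by
        rw [Algebra.TensorProduct.tmul_mul_tmul, mul_one, one_mul]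
      rw [e1, map_mul, h2, ← h1, ← map_mul, ← e2]
    | add z₁ z₂ h₁ h₂ =>
      simp only [map_add, TensorProduct.tmul_add, h₁, h₂]
  refine ⟨h3, fun r => ?_⟩
  rw [orbitHom_eq_alpha, h3]
  have := h (r ⊗ₜ[k] (1 : R))
  have e : ((1 : R) ⊗ₜ[k] (1 : A) : R ⊗[k] A) = 1 := rfl
  rw [psi_tmul, beta_tmul, e, mul_one] at this
  simp only [map_one, mul_one] at this
  exact this

theorem alpha_psi (y : R →ₐ[k] k) (z : R ⊗[k] R) :
    alpha (A := A) y (psi z) = GLin.orbitHom k A y (beta y z) := by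
  induction z using TensorProduct.induction_on with
  | zero => simp
  | tmul r r' =>
    rw [psi_tmul, beta_tmul, map_mul, map_mul, alpha_tmul, AlgHom.commutes, ← orbitHom_eq_alpha,
      Algebra.algebraMap_eq_smul_one]
  | add z₁ z₂ h₁ h₂ => simp only [map_add, h₁, h₂]

/-- the orbit map of `y` is the base change of `psi` along `z ↦ (z, y)`. -/
theorem isPushout_orbit (y : R →ₐ[k] k) :
    IsPushout (CommRingCat.ofHom (psi (k := k) (A := A) (R := R)).toRingHom)
      (CommRingCat.ofHom (beta y).toRingHom)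
      (CommRingCat.ofHom (alpha (A := A) y).toRingHom)
      (CommRingCat.ofHom (GLin.orbitHom k A y).toRingHom) := by
  have hcond : ∀ s : Limits.PushoutCocone
      (CommRingCat.ofHom (psi (k := k) (A := A) (R := R)).toRingHom)
      (CommRingCat.ofHom (beta y).toRingHom),
      ∀ z : R ⊗[k] R, s.inl.hom (psi (A := A) z) = s.inr.hom (beta y z) := by
    intro s z
    have := congrArg (fun φ => φ.hom z) s.condition
    exact this
  refine ⟨⟨?_⟩, ⟨Limits.PushoutCocone.IsColimit.mk _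
    (fun s => CommRingCat.ofHom (s.inl.hom.comp
      (Algebra.TensorProduct.includeRight : A →ₐ[k] R ⊗[k] A).toRingHom)) ?_ ?_ ?_⟩⟩
  · refine CommRingCat.hom_ext (RingHom.ext fun z => ?_)
    exact alpha_psi y z
  · intro s
    refine CommRingCat.hom_ext (RingHom.ext fun z => ?_)
    exact (pushout_aux y s.inl.hom s.inr.hom (hcond s)).1 z
  · intro s
    refine CommRingCat.hom_ext (RingHom.ext fun r => ?_)
    exact (pushout_aux y s.inl.hom s.inr.hom (hcond s)).2 r
  · intro s m hm1 hm2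
    refine CommRingCat.hom_ext (RingHom.ext fun a => ?_)
    have h := congrArg (fun φ => φ.hom ((1 : R) ⊗ₜ[k] a)) hm1
    have e : alpha (A := A) y ((1 : R) ⊗ₜ[k] a) = a := by
      rw [alpha_tmul, map_one, one_smul]
    have h' : m.hom (alpha (A := A) y ((1 : R) ⊗ₜ[k] a)) = s.inl.hom ((1 : R) ⊗ₜ[k] a) := h
    rw [e] at h'
    exact h'

end Pushout

section Const

variable {k : Type u} [Field k] [IsAlgClosed k] {A : Type u} [CommRing A] [HopfAlgebra k A]
  [Algebra.FiniteType k A]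
  {R : Type u} [CommRing R] [Algebra k R] [Algebra.FiniteType k R] [HopfRep.Comod k A R]
  [GLin.IsCoactAlg k A R]

/-- the orbit map of `y` as a morphism of schemes. -/
noncomputable abbrev fy (y : R →ₐ[k] k) : Spec (CommRingCat.of A) ⟶ Spec (CommRingCat.of R) :=
  Spec.map (CommRingCat.ofHom (GLin.orbitHom k A y).toRingHom)

/-- translation by a rational point, as a homeomorphism of `Spec A`. -/
noncomputable def tSHomeo (g : A →ₐ[k] k) :
    ↥(Spec (CommRingCat.of A)) ≃ₜ ↥(Spec (CommRingCat.of A)) where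
  toFun := tS (R := A) g
  invFun := tS (R := A) ((toConv g)⁻¹).ofConv
  left_inv := tS_inv_tS g
  right_inv := tS_tS_inv g
  continuous_toFun := continuous_tS g
  continuous_invFun := continuous_tS _

theorem fibreDimAt_tS (y : R →ₐ[k] k) (g : A →ₐ[k] k) (p : PrimeSpectrum A) :
    FlatMor.fibreDimAt (fy (A := A) y) (tS (R := A) g p) =
      FlatMor.fibreDimAt (fy (A := A) y) p := by
  refine Groth.Agent.H9.ORB6.fibreDimAt_eq_of_homeo (fy (A := A) y) (tSHomeo g) p (fun z => ?_)
  show cO (A := A) y z = cO (A := A) y p ↔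
    cO (A := A) y (tS (R := A) g z) = cO (A := A) y (tS (R := A) g p)
  rw [← tS_cO, ← tS_cO]
  constructor
  · intro h; rw [h]
  · intro h
    have := congrArg (tS (R := R) ((toConv g)⁻¹).ofConv) h
    rwa [tS_inv_tS, tS_inv_tS] at this

lemma tS_pt_counit (g : A →ₐ[k] k) :
    tS (R := A) g (pt (Bialgebra.counitAlgHom k A)) = pt g := by
  apply PrimeSpectrum.ext
  ext a
  rw [mem_tS]
  have h := congrArg (fun φ : A →ₐ[k] k => φ a)
    ((comp_tr (Bialgebra.counitAlgHom k A) g).trans (actPt_counit g))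
  change (Bialgebra.counitAlgHom k A) (tr g a) = 0 ↔ g a = 0
  have h' : (Bialgebra.counitAlgHom k A) (tr g a) = g a := h
  rw [h']

/-- **the local fibre dimension of an orbit map is constant** (ring level). -/
theorem exists_fibreDimAt_fy (y : R →ₐ[k] k) :
    ∃ n : ℕ, ∀ p : PrimeSpectrum A, FlatMor.fibreDimAt (fy (A := A) y) p = n := by
  haveI := lft_sm (GLin.orbitHom k A y)
  haveI : IsJacobsonRing A := isJacobsonRing_of_finiteType (A := k)
  haveI : JacobsonSpace ↥(Spec (CommRingCat.of A)) :=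
    inferInstanceAs (JacobsonSpace (PrimeSpectrum A))
  obtain ⟨n, hn⟩ := Groth.Agent.H1.CMQF.exists_nat_fibreDimAt (fy (A := A) y)
    (pt (Bialgebra.counitAlgHom k A))
  refine ⟨n, fun p => Groth.Agent.H9.ORB6.fibreDimAt_eq_of_closedPoints (fy (A := A) y) n
    (fun q hq => ?_) p⟩
  have hmax : (q : PrimeSpectrum A).asIdeal.IsMaximal :=
    (PrimeSpectrum.isClosed_singleton_iff_isMaximal (q : PrimeSpectrum A)).mp hq
  obtain ⟨g, hg⟩ := exists_algHom_ker_eq (k := k) (q : PrimeSpectrum A).asIdeal hmax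
  have hq' : q = pt g := PrimeSpectrum.ext hg.symm
  rw [hq', ← hn]
  have := fibreDimAt_tS y g (pt (Bialgebra.counitAlgHom k A))
  rwa [tS_pt_counit] at this

/-- the stabilizer is finite iff the orbit map has fibre dimension zero. -/
theorem finite_stab_iff (y : R →ₐ[k] k) (n : ℕ)
    (hn : ∀ p : PrimeSpectrum A, FlatMor.fibreDimAt (fy (A := A) y) p = n) :
    (StabK (A := A) y).Finite ↔ n = 0 := by
  haveI := lft_sm (GLin.orbitHom k A y)
  constructor
  · intro hfin
    have hq := quasiFiniteAt_pt (GLin.orbitHom k A y) (Bialgebra.counitAlgHom k A)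
      (finite_fibre_of_finite_stab y hfin _)
    have h0 := (Groth.Agent.H1.QFDim.fibreDimAt_eq_zero_iff (fy (A := A) y) _).mpr hq
    rw [hn] at h0
    have h1 : (n : WithBot ℕ∞) ≤ ((0 : ℕ) : WithBot ℕ∞) := by
      rw [h0, Nat.cast_zero]
    exact Nat.le_zero.mp ((Groth.Agent.H9.ORB7.natCast_le_iff n 0).mp h1)
  · intro h0
    subst h0
    haveI : LocallyQuasiFinite (fy (A := A) y) :=
      (Groth.Agent.H1.QFDim.locallyQuasiFinite_iff_fibreDimAt (fy (A := A) y)).mpr
        (fun p => by rw [hn p, Nat.cast_zero])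
    have hfinF := Scheme.Hom.finite_preimage_singleton (fy (A := A) y) (pt y)
    refine (hfinF.preimage (pt_injective (k := k) (A := A)).injOn).subset ?_
    intro g hg
    show cO (A := A) y (pt g) = pt y
    rw [cO_pt]
    exact congrArg pt hg

end Const

section Semicont

variable {k : Type u} [Field k] [IsAlgClosed k] {A : Type u} [CommRing A] [HopfAlgebra k A]
  [Algebra.FiniteType k A]
  {R : Type u} [CommRing R] [Algebra k R] [Algebra.FiniteType k R] [HopfRep.Comod k A R]
  [GLin.IsCoactAlg k A R]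

lemma counit_alpha_eq (y : R →ₐ[k] k) :
    (Bialgebra.counitAlgHom k A).comp (alpha (A := A) y) = y.comp (sigmaHom (k := k) (A := A)) := by
  apply Algebra.TensorProduct.ext'
  intro r a
  rw [AlgHom.comp_apply, AlgHom.comp_apply, alpha_tmul, sigmaHom_tmul, map_smul, map_smul,
    smul_eq_mul, smul_eq_mul, mul_comm]
  rfl

theorem fibreDimAt_fy_eq (y : R →ₐ[k] k)
    [LocallyOfFiniteType (Spec.map (CommRingCat.ofHom (psi (k := k) (A := A) (R := R)).toRingHom))] :
    FlatMor.fibreDimAt (fy (A := A) y) (pt (Bialgebra.counitAlgHom k A)) =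
      FlatMor.fibreDimAt (Spec.map (CommRingCat.ofHom (psi (k := k) (A := A) (R := R)).toRingHom))
        ((Spec.map (CommRingCat.ofHom (sigmaHom (k := k) (A := A) (R := R)).toRingHom)) (pt y)) := by
  have hsq := isPullback_SpecMap_of_isPushout _ _ _ _ (isPushout_orbit (A := A) y)
  have h1 := Groth.Agent.H1.FibDimBC.fibreDimAt_eq_of_isPullback _ _ _ _ hsq
    (pt (Bialgebra.counitAlgHom k A))
  rw [h1]
  congr 1
  show PrimeSpectrum.comap (alpha (A := A) y).toRingHom (pt (Bialgebra.counitAlgHom k A)) =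
    PrimeSpectrum.comap (sigmaHom (k := k) (A := A) (R := R)).toRingHom (pt y)
  apply PrimeSpectrum.ext
  ext z
  show (Bialgebra.counitAlgHom k A) (alpha (A := A) y z) = 0 ↔ y (sigmaHom (k := k) (A := A) z) = 0
  rw [← AlgHom.comp_apply, ← AlgHom.comp_apply, counit_alpha_eq]

/-- **the rational points with infinite stabilizer are those of a closed subset.** -/
theorem exists_ideal_infinite_stab :
    ∃ J : Ideal R, ∀ y : R →ₐ[k] k,
      ¬ (StabK (A := A) y).Finite ↔ J ≤ RingHom.ker (y : R →+* k) := by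
  haveI hft : Algebra.FiniteType k (R ⊗[k] A) :=
    Algebra.FiniteType.trans (S := R) inferInstance inferInstance
  haveI hft2 : Algebra.FiniteType k (R ⊗[k] R) :=
    Algebra.FiniteType.trans (S := R) inferInstance inferInstance
  haveI hΦ := lft_sm (psi (k := k) (A := A) (R := R))
  have hU := Groth.Agent.H1.Chev.isOpen_fibreDimAt_le
    (Spec.map (CommRingCat.ofHom (psi (k := k) (A := A) (R := R)).toRingHom)) 0
  have hV := hU.preimage
    (Spec.map (CommRingCat.ofHom (sigmaHom (k := k) (A := A) (R := R)).toRingHom)).continuous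
  let C : Set (PrimeSpectrum R) :=
    ((Spec.map (CommRingCat.ofHom (sigmaHom (k := k) (A := A) (R := R)).toRingHom)) ⁻¹'
      {w | FlatMor.fibreDimAt
        (Spec.map (CommRingCat.ofHom (psi (k := k) (A := A) (R := R)).toRingHom)) w ≤
          ((0 : ℕ) : WithBot ℕ∞)})ᶜ
  have hC : IsClosed C := hV.isClosed_compl
  refine ⟨PrimeSpectrum.vanishingIdeal C, fun y => ?_⟩
  obtain ⟨n, hn⟩ := exists_fibreDimAt_fy (A := A) y
  have h1 : pt y ∈ C ↔ PrimeSpectrum.vanishingIdeal C ≤ RingHom.ker (y : R →+* k) := by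
    conv_lhs => rw [← hC.closure_eq, ← PrimeSpectrum.zeroLocus_vanishingIdeal_eq_closure,
      PrimeSpectrum.mem_zeroLocus]
    rfl
  have h2 : pt y ∈ C ↔ ¬ ((n : WithBot ℕ∞) ≤ ((0 : ℕ) : WithBot ℕ∞)) := by
    rw [← hn (pt (Bialgebra.counitAlgHom k A)), fibreDimAt_fy_eq y]
    rfl
  rw [← h1, h2, finite_stab_iff y n hn, Groth.Agent.H9.ORB7.natCast_le_iff]
  omega

end Semicont

section Main

variable {k : Type u} [Field k] [IsAlgClosed k] {A : Type u} [CommRing A] [HopfAlgebra k A]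
  [Algebra.FiniteType k A]
  {R : Type u} [CommRing R] [Algebra k R] [Algebra.FiniteType k R] [HopfRep.Comod k A R]
  [GLin.IsCoactAlg k A R]

lemma isSubcomod_iInf_ker (𝒵 : Set (R →ₐ[k] k)) :
    HopfRep.IsSubcomod (k := k) (A := A)
      ((⨅ y : 𝒵, RingHom.ker (GLin.orbitHom k A (y : R →ₐ[k] k) : R →+* A)).restrictScalars k) := by
  rw [isSubcomod_iff_slice]
  intro u hu φ
  rw [Submodule.restrictScalars_mem, Ideal.mem_iInf] at hu ⊢
  intro y
  exact (isSubcomod_iff_slice A _).mp (isSubcomod_ker_orbitHom (A := A) (y : R →ₐ[k] k)) u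
    (hu y) φ

/-- a closed orbit disjoint from a closed stable set of rational points is separated from it by an
invariant. -/
theorem exists_inv_of_closed_stable (hss : HopfRep.IsSemisimpleComod k A R) (J : Ideal R)
    (hJ : ∀ (y : R →ₐ[k] k) (g : A →ₐ[k] k), J ≤ RingHom.ker (y : R →+* k) →
      J ≤ RingHom.ker (GLin.actPt k g y : R →+* k))
    (x : R →ₐ[k] k) (hx : ClosedPt (A := A) x)
    (hxJ : ∀ g : A →ₐ[k] k, ¬ J ≤ RingHom.ker (GLin.actPt k g x : R →+* k)) :
    ∃ f ∈ HopfRep.fixedPts k A R, x f = 1 ∧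
      ∀ y : R →ₐ[k] k, J ≤ RingHom.ker (y : R →+* k) → y f = 0 := by
  haveI : IsNoetherianRing A := Algebra.FiniteType.isNoetherianRing k A
  let 𝒵 : Set (R →ₐ[k] k) := {y | J ≤ RingHom.ker (y : R →+* k)}
  have hJZ := isSubcomod_iInf_ker (A := A) 𝒵
  obtain ⟨N, hN⟩ : ∃ N : ℕ, ∀ a : A, IsNilpotent a → a ^ N = 0 := by
    obtain ⟨N, hN⟩ := IsNoetherianRing.isNilpotent_nilradical A
    refine ⟨N, fun a ha => ?_⟩
    have : a ^ N ∈ nilradical A ^ N := Ideal.pow_mem_pow (mem_nilradical.mpr ha) N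
    simpa [hN] using this
  have hpow : ∀ f ∈ J, f ^ N ∈
      (⨅ y : 𝒵, RingHom.ker (GLin.orbitHom k A (y : R →ₐ[k] k) : R →+* A)) := by
    intro f hf
    rw [Ideal.mem_iInf]
    rintro ⟨y, hy⟩
    rw [RingHom.mem_ker, map_pow]
    apply hN
    apply isNilpotent_of_forall_algHom_eq_zero (k := k)
    intro g
    exact hJ y g hy hf
  have hsup : (⨅ y : 𝒵, RingHom.ker (GLin.orbitHom k A (y : R →ₐ[k] k) : R →+* A)) ⊔
      RingHom.ker (GLin.orbitHom k A x : R →+* A) = ⊤ := by
    by_contra hne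
    obtain ⟨z, hz⟩ := exists_algHom_of_ne_top (k := k) _ hne
    have hz1 : J ≤ RingHom.ker (z : R →+* k) := by
      intro f hf
      have h1 := hz (f ^ N) (Ideal.mem_sup_left (hpow f hf))
      rw [map_pow] at h1
      exact eq_zero_of_pow_eq_zero h1
    have hz2 : Ik (A := A) x ≤ RingHom.ker (z : R →+* k) := by
      intro f hf
      rw [mem_Ik] at hf
      have hnil : IsNilpotent (GLin.orbitHom k A x f) := by
        apply isNilpotent_of_forall_algHom_eq_zero (k := k)
        intro g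
        exact hf g
      obtain ⟨n, hn⟩ := hnil
      have h1 : z (f ^ n) = 0 := by
        apply hz _ (Ideal.mem_sup_right _)
        show GLin.orbitHom k A x (f ^ n) = 0
        rw [map_pow, hn]
      rw [map_pow] at h1
      exact eq_zero_of_pow_eq_zero h1
    obtain ⟨g, hg⟩ := hx z hz2
    rw [hg] at hz1
    exact hxJ g hz1
  obtain ⟨f, hf, hf1, hf2⟩ := exists_inv_separating hss _ _ hJZ (isSubcomod_ker_orbitHom x) hsup
  refine ⟨f, hf, ?_, ?_⟩
  · have h0 : x (1 - f) = 0 := by
      rw [← counit_orbitHom (A := A) x (1 - f)]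
      have : GLin.orbitHom k A x (1 - f) = 0 := hf2
      rw [this, map_zero]
    rw [map_sub, map_one, sub_eq_zero] at h0
    exact h0.symm
  · intro y hy
    rw [← counit_orbitHom (A := A) y f]
    have : GLin.orbitHom k A y f = 0 := (Ideal.mem_iInf.mp hf1) ⟨y, hy⟩
    rw [this, map_zero]

/-- stability of a rational point. -/
def St (x : R →ₐ[k] k) : Prop := ClosedPt (A := A) x ∧ (StabK (A := A) x).Finite

lemma st_iff_raw (x : R →ₐ[k] k) :
    ((∀ z : R →ₐ[k] k, (∀ f : R, (∀ g : A →ₐ[k] k, x (HopfRep.Comod.act k A R g f) = 0) → z f = 0) →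
        ∃ g : A →ₐ[k] k, ∀ f : R, z f = x (HopfRep.Comod.act k A R g f)) ∧
      {g : A →ₐ[k] k | ∀ f : R, x (HopfRep.Comod.act k A R g f) = x f}.Finite) ↔
    St (A := A) x := by
  rw [← stabK_eq_raw]
  unfold St
  refine and_congr_left' ⟨fun h z hz => ?_, fun h z hz => ?_⟩
  · obtain ⟨g, hg⟩ := h z (fun f hf => hz (mem_Ik_raw.mpr hf))
    refine ⟨g, ?_⟩
    ext f
    rw [hg f, actPt_apply]
  · obtain ⟨g, hg⟩ := h z (fun f hf => hz f (mem_Ik_raw.mp hf))
    exact ⟨g, fun f => by rw [hg, actPt_apply]⟩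

/-- invariants cutting out the stable locus: existence of a good invariant at a stable point, and
goodness. -/
theorem stable_data (hss : HopfRep.IsSemisimpleComod k A R) :
    ∃ J : Ideal R, (∀ y : R →ₐ[k] k, ¬ (StabK (A := A) y).Finite ↔ J ≤ RingHom.ker (y : R →+* k)) ∧
      (∀ x : R →ₐ[k] k, St (A := A) x → ∃ f ∈ HopfRep.fixedPts k A R, x f = 1 ∧
        ∀ y : R →ₐ[k] k, J ≤ RingHom.ker (y : R →+* k) → y f = 0) ∧
      (∀ f ∈ HopfRep.fixedPts k A R,
        (∀ y : R →ₐ[k] k, J ≤ RingHom.ker (y : R →+* k) → y f = 0) →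
          ∀ y : R →ₐ[k] k, y f ≠ 0 → St (A := A) y) := by
  obtain ⟨J, hJ⟩ := exists_ideal_infinite_stab (k := k) (A := A) (R := R)
  have hJstab : ∀ (y : R →ₐ[k] k) (g : A →ₐ[k] k), J ≤ RingHom.ker (y : R →+* k) →
      J ≤ RingHom.ker (GLin.actPt k g y : R →+* k) := by
    intro y g hy
    rw [← hJ] at hy ⊢
    intro hfin
    apply hy
    have := finite_stab_actPt ((toConv g)⁻¹).ofConv (GLin.actPt k g y) hfin
    rwa [actPt_inv_actPt] at this
  refine ⟨J, hJ, ?_, ?_⟩
  · rintro x ⟨hxc, hxf⟩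
    apply exists_inv_of_closed_stable hss J hJstab x hxc
    intro g hg
    rw [← hJ] at hg
    exact hg (finite_stab_actPt g x hxf)
  · intro f hf hfZ y hyf
    have hfin : ∀ z : R →ₐ[k] k, z f ≠ 0 → (StabK (A := A) z).Finite := by
      intro z hzf
      by_contra hinf
      exact hzf (hfZ z ((hJ z).mp hinf))
    refine ⟨?_, hfin y hyf⟩
    intro z hz
    have hzf : z f = y f := apply_eq_of_Ik_le hz hf
    exact exists_actPt_eq_of_finite_stab z y (hfin z (by rw [hzf]; exact hyf)) hz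

/-- **S11809**: the stable locus is the complement of the common zero set of a family of
invariants. -/
theorem S11809_main (hss : HopfRep.IsSemisimpleComod k A R) :
    ∃ S : Set R, S ⊆ HopfRep.fixedPts k A R ∧
      ∀ x : R →ₐ[k] k,
        ((∀ z : R →ₐ[k] k, (∀ f : R, (∀ g : A →ₐ[k] k, x (HopfRep.Comod.act k A R g f) = 0) → z f = 0) →
          ∃ g : A →ₐ[k] k, ∀ f : R, z f = x (HopfRep.Comod.act k A R g f)) ∧
          {g : A →ₐ[k] k | ∀ f : R, x (HopfRep.Comod.act k A R g f) = x f}.Finite) ↔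
        ∃ f ∈ S, x f ≠ 0 := by
  obtain ⟨J, hJ, hkey, hgood⟩ := stable_data (k := k) (A := A) (R := R) hss
  refine ⟨{f | f ∈ HopfRep.fixedPts k A R ∧ ∀ y : R →ₐ[k] k, y f ≠ 0 → St (A := A) y},
    fun f hf => hf.1, fun x => ?_⟩
  rw [st_iff_raw]
  constructor
  · intro hx
    obtain ⟨f, hf, hxf, hfZ⟩ := hkey x hx
    exact ⟨f, ⟨hf, hgood f hf hfZ⟩, by rw [hxf]; exact one_ne_zero⟩
  · rintro ⟨f, ⟨-, hf2⟩, hxf⟩
    exact hf2 x hxf

end Main

end Groth.Agent.H9.CLO
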