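import Mathlib
import Groth.Agent.Lib.Helper9.Misc.CLO7

/-!
# Stable points: the scheme-theoretic (`GLin`) and the rational-points formulations agree
(helper9; S20021)
-/

set_option autoImplicit false
set_option linter.style.haveILetI false
set_option linter.unusedSectionVars false
set_option linter.unusedVariables false

universe u

open TensorProduct WithConv Topology

namespace Groth.Agent.H9.CLO

open Groth.Agent.H9 Groth.Agent.H9.Comod Groth.Agent.H9.GIT Groth.Agent.H9.CocommDiag

section FinPts

variable {k : Type u} [Field k] [IsAlgClosed k] {B : Type u} [CommRing B] [Algebra k B]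
  [Algebra.FiniteType k B]

/-- a finitely generated algebra over an algebraically closed field with finitely many rational
points is finite. -/
theorem moduleFinite_of_finite_algHom (h : Finite (B →ₐ[k] k)) : Module.Finite k B := by
  haveI : IsJacobsonRing B := isJacobsonRing_of_finiteType (A := k)
  rw [Module.finite_iff_krullDimLE_zero, Ring.krullDimLE_zero_iff]
  intro P hP
  have hM : {M : Ideal B | M.IsMaximal}.Finite := by
    have hsub : {M : Ideal B | M.IsMaximal} ⊆
        Set.range (fun h : B →ₐ[k] k => RingHom.ker (h : B →+* k)) := by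
      intro M hM
      obtain ⟨x, hx⟩ := exists_algHom_ker_eq (k := k) M hM
      exact ⟨x, hx⟩
    exact (Set.finite_range _).subset hsub
  have hJ : P.jacobson = P := IsJacobsonRing.out inferInstance hP.isRadical
  have ht : {J : Ideal B | P ≤ J ∧ J.IsMaximal}.Finite := hM.subset (fun J hJ => hJ.2)
  have h1 : sInf {J : Ideal B | P ≤ J ∧ J.IsMaximal} ≤ P := hJ.le
  rw [← ht.coe_toFinset, ← Finset.inf_id_eq_sInf, hP.inf_le'] at h1
  obtain ⟨M, hMt, hMP⟩ := h1
  rw [Set.Finite.mem_toFinset] at hMt
  have : M = P := le_antisymm hMP hMt.1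
  rw [← this]; exact hMt.2

theorem moduleFinite_iff_finite_algHom : Module.Finite k B ↔ Finite (B →ₐ[k] k) :=
  ⟨fun h => inferInstance, moduleFinite_of_finite_algHom⟩

theorem moduleFinite_quot_iff {A : Type u} [CommRing A] [Algebra k A] [Algebra.FiniteType k A]
    (I : Ideal A) :
    Module.Finite k (A ⧸ I) ↔ {g : A →ₐ[k] k | I ≤ RingHom.ker (g : A →+* k)}.Finite := by
  haveI : Algebra.FiniteType k (A ⧸ I) :=
    Algebra.FiniteType.of_surjective (Ideal.Quotient.mkₐ k I) Ideal.Quotient.mk_surjective
  rw [moduleFinite_iff_finite_algHom]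
  constructor
  · intro hfin
    rw [← Set.finite_coe_iff]
    let F : {g : A →ₐ[k] k | I ≤ RingHom.ker (g : A →+* k)} → (A ⧸ I →ₐ[k] k) :=
      fun g => Ideal.Quotient.liftₐ I g.1 (fun a ha => RingHom.mem_ker.mp (g.2 ha))
    apply Finite.of_injective F
    intro g g' hgg'
    apply Subtype.ext
    apply AlgHom.ext
    intro a
    have := AlgHom.congr_fun hgg' (Ideal.Quotient.mk I a)
    simpa [F] using this
  · intro hfin
    haveI := Set.finite_coe_iff.mpr hfin
    let F : (A ⧸ I →ₐ[k] k) → {g : A →ₐ[k] k | I ≤ RingHom.ker (g : A →+* k)} :=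
      fun h => ⟨h.comp (Ideal.Quotient.mkₐ k I), fun a ha => by
        rw [RingHom.mem_ker]
        show h (Ideal.Quotient.mk I a) = 0
        rw [Ideal.Quotient.eq_zero_iff_mem.mpr ha, map_zero]⟩
    apply Finite.of_injective F
    intro h h' hhh'
    apply AlgHom.ext
    intro b
    obtain ⟨a, rfl⟩ := Ideal.Quotient.mk_surjective b
    have := congrArg
      (fun g : {g : A →ₐ[k] k | I ≤ RingHom.ker (g : A →+* k)} => g.1 a) hhh'
    exact this

end FinPts

section StabEq

variable {k : Type u} [Field k] [IsAlgClosed k] {A : Type u} [CommRing A] [HopfAlgebra k A]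
  [Algebra.FiniteType k A]
  {R : Type u} [CommRing R] [Algebra k R] [Algebra.FiniteType k R] [HopfRep.Comod k A R]
  [GLin.IsCoactAlg k A R]

lemma mem_stabK_iff (x : R →ₐ[k] k) (g : A →ₐ[k] k) :
    g ∈ StabK (A := A) x ↔ GLin.stabIdeal k A x ≤ RingHom.ker (g : A →+* k) := by
  unfold GLin.stabIdeal
  rw [Ideal.map_le_iff_le_comap]
  constructor
  · intro hg f hf
    have hg' : GLin.actPt k g x = x := hg
    have h1 : (GLin.actPt k g x) f = x f := by rw [hg']
    have h2 : x f = 0 := hf
    rw [Ideal.mem_comap, RingHom.mem_ker]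
    rw [h2] at h1
    exact h1
  · intro h
    show GLin.actPt k g x = x
    symm
    apply algHom_eq_of_ker_le
    intro f hf
    have hf' : f ∈ RingHom.ker x := hf
    have := h hf'
    exact this

theorem hasFiniteStab_iff (x : R →ₐ[k] k) :
    GLin.HasFiniteStab k A x ↔ (StabK (A := A) x).Finite := by
  unfold GLin.HasFiniteStab
  rw [moduleFinite_quot_iff]
  have : {g : A →ₐ[k] k | GLin.stabIdeal k A x ≤ RingHom.ker (g : A →+* k)} =
      StabK (A := A) x := by
    ext g; exact (mem_stabK_iff x g).symm
  rw [this]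

theorem isClosedOrbit_iff_closedPt (x : R →ₐ[k] k) :
    GLin.IsClosedOrbit k A x ↔ ClosedPt (A := A) x := by
  constructor
  · intro hx z hz
    have h1 : IsClosed (Set.range (cO (A := A) x)) := hx
    have h2 := pt_mem_closure x z hz
    rw [h1.closure_eq] at h2
    exact (mem_range_cO_iff x z).mp h2
  · intro hx
    change IsClosed (Set.range (cO (A := A) x))
    obtain ⟨W', hW', hTW⟩ := exists_open_range_cO (A := A) x
    set T := Set.range (cO (A := A) x) with hT
    by_contra hnc
    have hBne : (closure T ∩ W'ᶜ).Nonempty := by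
      by_contra hempty
      rw [Set.not_nonempty_iff_eq_empty] at hempty
      apply hnc
      have : T = closure T := by
        apply Set.Subset.antisymm subset_closure
        intro P hP
        by_contra hPT
        have hPB : P ∈ closure T ∩ W'ᶜ := ⟨hP, fun hW => hPT (by rw [hTW]; exact ⟨hP, hW⟩)⟩
        rw [hempty] at hPB
        exact hPB
      rw [this]; exact isClosed_closure
    have hBc : IsClosed (closure T ∩ W'ᶜ) := isClosed_closure.inter hW'.isClosed_compl
    obtain ⟨z, hz⟩ := exists_pt_mem_of_isClosed (k := k) _ hBc hBne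
    have hIk : Ik (A := A) x ≤ RingHom.ker (z : R →+* k) := by
      intro f hf
      rw [mem_Ik] at hf
      have hnil : IsNilpotent (GLin.orbitHom k A x f) := by
        apply isNilpotent_of_forall_algHom_eq_zero (k := k)
        intro g
        exact hf g
      obtain ⟨n, hn⟩ := hnil
      have h1 : f ^ n ∈ RingHom.ker (GLin.orbitHom k A x).toRingHom := by
        show GLin.orbitHom k A x (f ^ n) = 0
        rw [map_pow, hn]
      have h2 : pt z ∈ PrimeSpectrum.zeroLocus
          (RingHom.ker (GLin.orbitHom k A x).toRingHom : Set R) := by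
        rw [← closure_range_cO]; exact hz.1
      have h3 : f ^ n ∈ (pt z).asIdeal := (PrimeSpectrum.mem_zeroLocus _ _).mp h2 h1
      have h4 : z (f ^ n) = 0 := h3
      rw [map_pow] at h4
      rw [RingHom.mem_ker]
      exact eq_zero_of_pow_eq_zero h4
    obtain ⟨g, hg⟩ := hx z hIk
    have hzT : pt z ∈ T := (mem_range_cO_iff x z).mpr ⟨g, hg⟩
    rw [hTW] at hzT
    exact hz.2 hzT.2

theorem isStablePt_iff_st (x : R →ₐ[k] k) : GLin.IsStablePt k A x ↔ St (A := A) x := by
  unfold GLin.IsStablePt St
  rw [isClosedOrbit_iff_closedPt, hasFiniteStab_iff]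

/-- **S20021** -/
theorem S20021_main (hss : HopfRep.IsSemisimpleComod k A R) :
    ∃ S : Set R, S ⊆ (GLin.invariants k A R : Set R) ∧
      ∀ x : R →ₐ[k] k, GLin.IsStablePt k A x ↔ ∃ f ∈ S, x f ≠ 0 := by
  obtain ⟨S, hS, h⟩ := S11809_main (k := k) (A := A) (R := R) hss
  refine ⟨S, fun f hf => hS hf, fun x => ?_⟩
  rw [isStablePt_iff_st, ← st_iff_raw]
  exact h x

end StabEq

end Groth.Agent.H9.CLO
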