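import Mathlib
import Groth.Prelude.Def_Hoch
import Groth.Prelude.Def_ComodTens
import Groth.Prelude.Def_GLin5

set_option autoImplicit false
set_option linter.unusedSectionVars false
set_option linter.unusedVariables false

open TensorProduct

noncomputable section

namespace Groth.Agent.H9.SchurW

universe u v w w'

section Act
variable {k : Type u} [CommRing k] {A : Type v} [AddCommGroup A] [Module k A] [Coalgebra k A]
variable {V : Type w} [AddCommGroup V] [Module k V] {W : Type w'} [AddCommGroup W] [Module k W]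

/-- being a comodule map, with explicit structures -/
def IsHom (c : HopfRep.Comod k A V) (d : HopfRep.Comod k A W) (f : V →ₗ[k] W) : Prop :=
  d.coact ∘ₗ f = f.rTensor A ∘ₗ c.coact

lemma isHom_iff (c : HopfRep.Comod k A V) (d : HopfRep.Comod k A W) (f : V →ₗ[k] W) :
    IsHom c d f ↔ @Hoch.IsComodHom k _ A _ _ _ V _ _ c W _ _ d f := Iff.rfl

/-- contraction of the second tensor factor with a functional -/
def contr (V : Type w) [AddCommGroup V] [Module k V] (φ : Module.Dual k A) : V ⊗[k] A →ₗ[k] V :=
  (TensorProduct.rid k V).toLinearMap ∘ₗ φ.lTensor V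

@[simp] lemma contr_tmul (φ : Module.Dual k A) (v : V) (a : A) :
    contr V φ (v ⊗ₜ[k] a) = φ a • v := by
  simp [contr]

/-- the action of a functional on a comodule -/
def act (c : HopfRep.Comod k A V) (φ : Module.Dual k A) : V →ₗ[k] V := contr V φ ∘ₗ c.coact

lemma act_apply (c : HopfRep.Comod k A V) (φ : Module.Dual k A) (v : V) :
    act c φ v = contr V φ (c.coact v) := rfl

lemma contr_natural (φ : Module.Dual k A) (f : V →ₗ[k] W) (z : V ⊗[k] A) :
    contr W φ (f.rTensor A z) = f (contr V φ z) := by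
  induction z using TensorProduct.induction_on with
  | zero => simp
  | add x y hx hy => simp only [map_add, hx, hy]
  | tmul v a => simp

lemma contr_add (φ ψ : Module.Dual k A) (z : V ⊗[k] A) :
    contr V (φ + ψ) z = contr V φ z + contr V ψ z := by
  induction z using TensorProduct.induction_on with
  | zero => simp
  | add x y hx hy => simp only [map_add, hx, hy]; abel
  | tmul v a => simp [add_smul]

lemma contr_smul (r : k) (φ : Module.Dual k A) (z : V ⊗[k] A) :
    contr V (r • φ) z = r • contr V φ z := by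
  induction z using TensorProduct.induction_on with
  | zero => simp
  | add x y hx hy => simp only [map_add, hx, hy, smul_add]
  | tmul v a => simp [smul_smul]

lemma contr_zero (z : V ⊗[k] A) : contr V (0 : Module.Dual k A) z = 0 := by
  induction z using TensorProduct.induction_on with
  | zero => simp
  | add x y hx hy => simp only [map_add, hx, hy, add_zero]
  | tmul v a => simp

lemma act_add (c : HopfRep.Comod k A V) (φ ψ : Module.Dual k A) :
    act c (φ + ψ) = act c φ + act c ψ := by
  apply LinearMap.ext; intro v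
  simp only [act_apply, LinearMap.add_apply, contr_add]

lemma act_smul (c : HopfRep.Comod k A V) (r : k) (φ : Module.Dual k A) :
    act c (r • φ) = r • act c φ := by
  apply LinearMap.ext; intro v
  simp only [act_apply, LinearMap.smul_apply, contr_smul]

lemma act_zero (c : HopfRep.Comod k A V) : act c (0 : Module.Dual k A) = 0 := by
  apply LinearMap.ext; intro v
  simp only [act_apply, LinearMap.zero_apply, contr_zero]

lemma act_sum (c : HopfRep.Comod k A V) {ι : Type*} (s : Finset ι) (φ : ι → Module.Dual k A) :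
    act c (∑ i ∈ s, φ i) = ∑ i ∈ s, act c (φ i) := by
  classical
  induction s using Finset.induction_on with
  | empty => simp [act_zero]
  | insert a s ha ih => rw [Finset.sum_insert ha, Finset.sum_insert ha, act_add, ih]

/-- convolution of functionals -/
def conv (φ ψ : Module.Dual k A) : Module.Dual k A :=
  (TensorProduct.lid k k).toLinearMap ∘ₗ TensorProduct.map φ ψ ∘ₗ CoalgebraStruct.comul

lemma act_conv (c : HopfRep.Comod k A V) (φ ψ : Module.Dual k A) :
    act c (conv φ ψ) = act c φ ∘ₗ act c ψ := by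
  apply LinearMap.ext; intro v
  have hG : ∀ z : (V ⊗[k] A) ⊗[k] A,
      contr V ψ ((contr V φ).rTensor A z) =
      (TensorProduct.rid k V)
        (((TensorProduct.lid k k).toLinearMap ∘ₗ TensorProduct.map φ ψ).lTensor V
          (TensorProduct.assoc k V A A z)) := by
    intro z
    induction z using TensorProduct.induction_on with
    | zero => simp
    | add x y hx hy => simp only [map_add, hx, hy]
    | tmul y b =>
      induction y using TensorProduct.induction_on with
      | zero => simp
      | add x y hx hy => simp only [TensorProduct.add_tmul, map_add, hx, hy]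
      | tmul v a => simp [smul_smul, mul_comm]
  have hc := LinearMap.congr_fun c.coassoc v
  simp only [LinearMap.coe_comp, Function.comp_apply, LinearEquiv.coe_coe] at hc
  show contr V (conv φ ψ) (c.coact v) = act c φ (contr V ψ (c.coact v))
  rw [← contr_natural ψ (act c φ) (c.coact v)]
  show _ = contr V ψ ((contr V φ ∘ₗ c.coact).rTensor A (c.coact v))
  rw [LinearMap.rTensor_comp, LinearMap.comp_apply, hG, hc,
    ← LinearMap.comp_apply (LinearMap.lTensor V _) (LinearMap.lTensor V _), ← LinearMap.lTensor_comp]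
  rfl

lemma act_congr (c : HopfRep.Comod k A V) {M : Type*} [AddCommGroup M] [Module k M] (τ : M →ₗ[k] A)
    (hτ : ∀ v, c.coact v ∈ LinearMap.range (τ.lTensor V)) (φ φ' : Module.Dual k A)
    (h : φ ∘ₗ τ = φ' ∘ₗ τ) : act c φ = act c φ' := by
  apply LinearMap.ext; intro v
  obtain ⟨y, hy⟩ := hτ v
  have key : ∀ χ : Module.Dual k A,
      contr V χ (τ.lTensor V y) = (TensorProduct.rid k V) ((χ ∘ₗ τ).lTensor V y) := by
    intro χ
    rw [LinearMap.lTensor_comp]
    rfl
  rw [act_apply, act_apply, ← hy, key φ, key φ', h]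

lemma act_basis {N : Type w'} [AddCommGroup N] [Module k N] (cN : HopfRep.Comod k A N)
    {𝒥 : Type*} [Fintype 𝒥] (n : Module.Basis 𝒥 k N) (cf : 𝒥 → 𝒥 → A)
    (hn : ∀ K, cN.coact (n K) = ∑ J, n J ⊗ₜ[k] cf J K) (φ : Module.Dual k A) (K : 𝒥) :
    act cN φ (n K) = ∑ J, φ (cf J K) • n J := by
  rw [act_apply, hn, map_sum]
  simp

lemma act_pi {b : ℕ} {X : Type w} [AddCommGroup X] [Module k X]
    (c : HopfRep.Comod k A X) (φ : Module.Dual k A) (y : Fin b → X) :
    act (ComodTens.Comod.pi fun _ : Fin b => c) φ y = fun i => act c φ (y i) := by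
  rw [act_apply, ComodTens.pi_coact, map_sum]
  simp only [contr_natural]
  funext i
  rw [Finset.sum_apply]
  simp only [LinearMap.coe_single, Pi.single_apply]
  rw [Finset.sum_eq_single i]
  · simp [act_apply]
  · intro j _ hj; rw [if_neg hj.symm]
  · intro hi; exact absurd (Finset.mem_univ i) hi

end Act

section Field
variable {k : Type u} [Field k] {A : Type v} [AddCommGroup A] [Module k A] [Coalgebra k A]
variable {V : Type w} [AddCommGroup V] [Module k V] {W : Type w'} [AddCommGroup W] [Module k W]

lemma sep (x : W ⊗[k] A) (hx : ∀ φ : Module.Dual k A, contr W φ x = 0) : x = 0 := by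
  classical
  let 𝒞 := Module.Basis.ofVectorSpace k A
  have key : ∀ (y : W ⊗[k] A) i,
      TensorProduct.equivFinsuppOfBasisRight 𝒞 y i = contr W (𝒞.coord i) y := by
    intro y i
    induction y using TensorProduct.induction_on with
    | zero => simp
    | add a b ha hb => simp only [map_add, Finsupp.add_apply, ha, hb]
    | tmul w a =>
      rw [TensorProduct.equivFinsuppOfBasisRight_apply_tmul_apply, contr_tmul,
        Module.Basis.coord_apply]
  apply (TensorProduct.equivFinsuppOfBasisRight 𝒞).injective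
  rw [map_zero]
  ext i
  rw [key, hx]
  rfl

lemma isHom_of_act (c : HopfRep.Comod k A V) (d : HopfRep.Comod k A W) (f : V →ₗ[k] W)
    (h : ∀ φ : Module.Dual k A, f ∘ₗ act c φ = act d φ ∘ₗ f) : IsHom c d f := by
  unfold IsHom
  apply LinearMap.ext; intro v
  rw [← sub_eq_zero]
  apply sep
  intro φ
  rw [map_sub, sub_eq_zero]
  simp only [LinearMap.comp_apply]
  rw [contr_natural]
  exact (LinearMap.congr_fun (h φ) v).symm

theorem retract [Module.Finite k V] (cV : HopfRep.Comod k A V)
    {N : Type w'} [AddCommGroup N] [Module k N] (cN : HopfRep.Comod k A N)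
    {𝒥 : Type} [Fintype 𝒥] [DecidableEq 𝒥] (n : Module.Basis 𝒥 k N) (cf : 𝒥 → 𝒥 → A)
    (hn : ∀ K, cN.coact (n K) = ∑ J, n J ⊗ₜ[k] cf J K)
    (θ : 𝒥 → 𝒥 → (V →ₗ[k] V))
    (h1 : ∑ K, θ K K = LinearMap.id)
    (h2 : ∀ (φ : Module.Dual k A) (J K : 𝒥), act cV φ ∘ₗ θ J K = ∑ L, φ (cf L J) • θ L K)
    (h3 : ∀ (φ : Module.Dual k A) (J L : 𝒥), θ J L ∘ₗ act cV φ = ∑ K, φ (cf L K) • θ J K) :
    ∃ (b : ℕ) (i : V →ₗ[k] (Fin b → N)) (p : (Fin b → N) →ₗ[k] V), p ∘ₗ i = LinearMap.id ∧
      IsHom cV (ComodTens.Comod.pi fun _ : Fin b => cN) i ∧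
      IsHom (ComodTens.Comod.pi fun _ : Fin b => cN) cV p := by
  classical
  haveI : Module.Finite k N := Module.Finite.of_basis n
  let 𝓗 : Submodule k (N →ₗ[k] V) :=
    { carrier := {f | IsHom cN cV f}
      add_mem' := by
        intro f g hf hg
        simp only [Set.mem_ofPred_eq, IsHom] at hf hg ⊢
        rw [LinearMap.comp_add, hf, hg, LinearMap.rTensor_add, LinearMap.add_comp]
      zero_mem' := by
        simp only [Set.mem_ofPred_eq, IsHom]
        rw [LinearMap.comp_zero, LinearMap.rTensor_zero, LinearMap.zero_comp]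
      smul_mem' := by
        intro a f hf
        simp only [Set.mem_ofPred_eq, IsHom] at hf ⊢
        rw [LinearMap.comp_smul, hf, LinearMap.rTensor_smul, LinearMap.smul_comp] }
  have mem𝓗 : ∀ f : N →ₗ[k] V, f ∈ 𝓗 ↔ IsHom cN cV f := fun f => Iff.rfl
  let b := Module.finrank k 𝓗
  let g : Module.Basis (Fin b) k 𝓗 := Module.finBasis k 𝓗
  obtain ⟨F0, F0_apply⟩ : ∃ F0 : 𝒥 → V →ₗ[k] (N →ₗ[k] V), ∀ K v J, F0 K v (n J) = θ J K v := by
    refine ⟨fun K => (n.constr k).toLinearMap ∘ₗ LinearMap.pi fun J => θ J K, ?_⟩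
    intro K v J
    simp [Module.Basis.constr_basis]
  have F0_mem : ∀ K v, F0 K v ∈ 𝓗 := by
    intro K v
    rw [mem𝓗]
    apply isHom_of_act; intro φ
    apply n.ext; intro J
    rw [LinearMap.comp_apply, LinearMap.comp_apply, act_basis cN n cf hn, map_sum, F0_apply]
    simp only [map_smul, F0_apply]
    have := LinearMap.congr_fun (h2 φ J K) v
    simp only [LinearMap.comp_apply, LinearMap.sum_apply, LinearMap.smul_apply] at this
    exact this.symm
  obtain ⟨F, F_coe⟩ : ∃ F : 𝒥 → V →ₗ[k] 𝓗, ∀ K v, ((F K v : 𝓗) : N →ₗ[k] V) = F0 K v :=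
    ⟨fun K => LinearMap.codRestrict 𝓗 (F0 K) (F0_mem K), fun K v => rfl⟩
  obtain ⟨j, j_apply⟩ : ∃ j : V →ₗ[k] (Fin b → N),
      ∀ v β, j v β = ∑ K, (g.repr (F K v) β) • n K := by
    refine ⟨LinearMap.pi fun β => ∑ K, ((g.coord β) ∘ₗ F K).smulRight (n K), ?_⟩
    intro v β
    simp [LinearMap.sum_apply, Module.Basis.coord_apply]
  obtain ⟨p, p_apply⟩ : ∃ p : (Fin b → N) →ₗ[k] V,
      ∀ y, p y = ∑ β, ((g β : 𝓗) : N →ₗ[k] V) (y β) := by
    refine ⟨∑ β, ((g β : 𝓗) : N →ₗ[k] V) ∘ₗ LinearMap.proj β, ?_⟩
    intro y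
    simp [LinearMap.sum_apply]
  have hrepr : ∀ (x : 𝓗) (z : N), ∑ β, g.repr x β • ((g β : 𝓗) : N →ₗ[k] V) z = (x : N →ₗ[k] V) z := by
    intro x z
    have h := g.sum_repr x
    have h' := congrArg (fun x : 𝓗 => (x : N →ₗ[k] V) z) h
    simp only [Submodule.coe_sum, Submodule.coe_smul, LinearMap.sum_apply,
      LinearMap.smul_apply] at h'
    exact h'
  refine ⟨b, j, p, ?_, ?_, ?_⟩
  · apply LinearMap.ext; intro v
    rw [LinearMap.comp_apply, LinearMap.id_apply, p_apply]
    simp only [j_apply, map_sum, map_smul]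
    rw [Finset.sum_comm]
    simp only [hrepr, F_coe, F0_apply]
    have := LinearMap.congr_fun h1 v
    simpa [LinearMap.sum_apply] using this
  · apply isHom_of_act; intro φ
    apply LinearMap.ext; intro v
    simp only [LinearMap.comp_apply]
    rw [act_pi]
    funext β
    rw [j_apply, j_apply, map_sum]
    simp only [map_smul, act_basis cN n cf hn, Finset.smul_sum, smul_smul]
    rw [Finset.sum_comm]
    refine Finset.sum_congr rfl fun L _ => ?_
    rw [← Finset.sum_smul]
    congr 1
    have hF : F L (act cV φ v) = ∑ K, φ (cf L K) • F K v := by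
      apply Subtype.ext
      apply n.ext; intro J
      simp only [Submodule.coe_sum, Submodule.coe_smul, LinearMap.sum_apply, LinearMap.smul_apply,
        F_coe, F0_apply]
      have := LinearMap.congr_fun (h3 φ J L) v
      simpa [LinearMap.sum_apply] using this
    rw [hF, map_sum]
    simp only [map_smul, Finsupp.coe_finsetSum, Finset.sum_apply, Finsupp.coe_smul, Pi.smul_apply,
      smul_eq_mul]
    refine Finset.sum_congr rfl fun K _ => ?_
    ring
  · unfold IsHom
    apply LinearMap.pi_ext; intro β y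
    simp only [LinearMap.comp_apply]
    rw [ComodTens.pi_coact_single]
    have e1 : ∀ z : N, p (Pi.single β z) = ((g β : 𝓗) : N →ₗ[k] V) z := by
      intro z
      rw [p_apply, Finset.sum_eq_single β]
      · simp
      · intro γ _ hγ; rw [Pi.single_eq_of_ne hγ, map_zero]
      · intro hb; exact absurd (Finset.mem_univ β) hb
    have e2 : p ∘ₗ LinearMap.single k (fun _ : Fin b => N) β = ((g β : 𝓗) : N →ₗ[k] V) := by
      apply LinearMap.ext; intro z
      rw [LinearMap.comp_apply, LinearMap.coe_single]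
      exact e1 z
    rw [e1, ← LinearMap.comp_apply (p.rTensor A), ← LinearMap.rTensor_comp, e2]
    exact LinearMap.congr_fun ((mem𝓗 _).1 (g β).2) y

end Field

end Groth.Agent.H9.SchurW
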