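import Mathlib
import Groth.Prelude.Def_Hoch
import Groth.Prelude.Def_ComodTens
import Groth.Agent.Lib.Helper9.Misc.SchurWAct

set_option autoImplicit false
set_option linter.unusedSectionVars false
set_option linter.unusedVariables false

open TensorProduct

noncomputable section

namespace Groth.Agent.H9.SchurW

universe u v w w'

section G1
variable {k : Type u} [Field k] {A : Type v} [AddCommGroup A] [Module k A] [Coalgebra k A]
variable {V : Type w} [AddCommGroup V] [Module k V] {W : Type w'} [AddCommGroup W] [Module k W]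

/-- stability of a subspace under the action of all functionals -/
def ActStable (c : HopfRep.Comod k A V) (U : Submodule k V) : Prop :=
  ∀ (φ : Module.Dual k A), ∀ u ∈ U, act c φ u ∈ U

lemma act_counit (c : HopfRep.Comod k A V) :
    act c (CoalgebraStruct.counit (R := k) (A := A)) = LinearMap.id := by
  apply LinearMap.ext; intro v
  have h := LinearMap.congr_fun c.counit_comp v
  simp only [LinearMap.comp_apply, LinearMap.flip_apply, TensorProduct.mk_apply] at h
  show TensorProduct.rid k V ((CoalgebraStruct.counit (R := k) (A := A)).lTensor V (c.coact v)) = _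
  rw [h, TensorProduct.rid_tmul, one_smul, LinearMap.id_apply]

lemma act_comm_of_isHom (c : HopfRep.Comod k A V) (d : HopfRep.Comod k A W) (f : V →ₗ[k] W)
    (hf : IsHom c d f) (φ : Module.Dual k A) : f ∘ₗ act c φ = act d φ ∘ₗ f := by
  apply LinearMap.ext; intro v
  have := LinearMap.congr_fun hf v
  simp only [LinearMap.comp_apply] at this ⊢
  rw [act_apply, act_apply, this, contr_natural]

lemma isSubcomod_of_actStable (c : HopfRep.Comod k A V) (U : Submodule k V)
    (h : ActStable c U) : @HopfRep.IsSubcomod k A _ _ _ _ V _ _ c U := by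
  intro w hw
  have hx : (U.mkQ.rTensor A) (c.coact w) = 0 := by
    apply sep
    intro φ
    rw [contr_natural]
    exact (Submodule.Quotient.mk_eq_zero U).2 (h φ w hw)
  have hex := rTensor_exact A (LinearMap.exact_subtype_mkQ U) (Submodule.mkQ_surjective U)
  exact (hex _).1 hx

lemma actStable_of_isSubcomod (c : HopfRep.Comod k A V) (U : Submodule k V)
    (h : @HopfRep.IsSubcomod k A _ _ _ _ V _ _ c U) : ActStable c U := by
  intro φ u hu
  obtain ⟨t, ht⟩ := h u hu
  change (U.subtype.rTensor A) t = c.coact u at ht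
  rw [act_apply, ← ht, contr_natural]
  exact (contr U φ t).2

lemma exists_proj_of_compl (c : HopfRep.Comod k A V) (U U' : Submodule k V)
    (hU : ActStable c U) (hU' : ActStable c U') (h : IsCompl U U') :
    ∃ q : V →ₗ[k] V, (∀ φ : Module.Dual k A, q ∘ₗ act c φ = act c φ ∘ₗ q) ∧ (∀ v, q v ∈ U) ∧
      (∀ u ∈ U, q u = u) := by
  refine ⟨U.subtype ∘ₗ Submodule.projectionOnto U U' h, ?_, ?_, ?_⟩
  · intro φ
    apply LinearMap.ext; intro v
    obtain ⟨u, hu, u', hu', rfl⟩ : ∃ u ∈ U, ∃ u' ∈ U', u + u' = v := by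
      have hv : v ∈ U ⊔ U' := by rw [h.sup_eq_top]; exact Submodule.mem_top
      exact Submodule.mem_sup.1 hv
    simp only [LinearMap.comp_apply, map_add, Submodule.subtype_apply]
    rw [Submodule.projectionOnto_apply_of_mem_left h hu,
      (Submodule.projectionOnto_apply_eq_zero_iff h).2 hu',
      Submodule.projectionOnto_apply_of_mem_left h (hU φ u hu),
      (Submodule.projectionOnto_apply_eq_zero_iff h).2 (hU' φ u' hu')]
    simp
  · intro v
    exact (Submodule.projectionOnto U U' h v).2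
  · intro u hu
    rw [LinearMap.comp_apply, Submodule.projectionOnto_apply_of_mem_left h hu]
    rfl

theorem retract' [Module.Finite k V] (cV : HopfRep.Comod k A V)
    {N : Type w'} [AddCommGroup N] [Module k N] (cN : HopfRep.Comod k A N)
    {𝒥 : Type} [Fintype 𝒥] [DecidableEq 𝒥] (n : Module.Basis 𝒥 k N) (cf : 𝒥 → 𝒥 → A)
    (hn : ∀ K, cN.coact (n K) = ∑ J, n J ⊗ₜ[k] cf J K)
    (θ : 𝒥 → 𝒥 → (V →ₗ[k] V))
    (h2 : ∀ (φ : Module.Dual k A) (J K : 𝒥), act cV φ ∘ₗ θ J K = ∑ L, φ (cf L J) • θ L K)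
    (h3 : ∀ (φ : Module.Dual k A) (J L : 𝒥), θ J L ∘ₗ act cV φ = ∑ K, φ (cf L K) • θ J K) :
    ∃ (b : ℕ) (i : V →ₗ[k] (Fin b → N)) (p : (Fin b → N) →ₗ[k] V), p ∘ₗ i = ∑ K, θ K K ∧
      IsHom cV (ComodTens.Comod.pi fun _ : Fin b => cN) i ∧
      IsHom (ComodTens.Comod.pi fun _ : Fin b => cN) cV p := by
  classical
  haveI : Module.Finite k N := Module.Finite.of_basis n
  let 𝓗 : Submodule k (N →ₗ[k] V) :=
    { carrier := {f | IsHom cN cV f}
      add_mem' := by
        intro f g hf hg
        simp only [Set.mem_ofPred_eq, IsHom] at hf hg ⊢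
        rw [LinearMap.comp_add, hf, hg, LinearMap.rTensor_add, LinearMap.add_comp]
      zero_mem' := by
        simp only [Set.mem_ofPred_eq, IsHom]
        rw [LinearMap.comp_zero, LinearMap.rTensor_zero, LinearMap.zero_comp]
      smul_mem' := by
        intro a f hf
        simp only [Set.mem_ofPred_eq, IsHom] at hf ⊢
        rw [LinearMap.comp_smul, hf, LinearMap.rTensor_smul, LinearMap.smul_comp] }
  have mem𝓗 : ∀ f : N →ₗ[k] V, f ∈ 𝓗 ↔ IsHom cN cV f := fun f => Iff.rfl
  let b := Module.finrank k 𝓗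
  let g : Module.Basis (Fin b) k 𝓗 := Module.finBasis k 𝓗
  obtain ⟨F0, F0_apply⟩ : ∃ F0 : 𝒥 → V →ₗ[k] (N →ₗ[k] V), ∀ K v J, F0 K v (n J) = θ J K v := by
    refine ⟨fun K => (n.constr k).toLinearMap ∘ₗ LinearMap.pi fun J => θ J K, ?_⟩
    intro K v J
    simp [Module.Basis.constr_basis]
  have F0_mem : ∀ K v, F0 K v ∈ 𝓗 := by
    intro K v
    rw [mem𝓗]
    apply isHom_of_act; intro φ
    apply n.ext; intro J
    rw [LinearMap.comp_apply, LinearMap.comp_apply, act_basis cN n cf hn, map_sum, F0_apply]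
    simp only [map_smul, F0_apply]
    have := LinearMap.congr_fun (h2 φ J K) v
    simp only [LinearMap.comp_apply, LinearMap.sum_apply, LinearMap.smul_apply] at this
    exact this.symm
  obtain ⟨F, F_coe⟩ : ∃ F : 𝒥 → V →ₗ[k] 𝓗, ∀ K v, ((F K v : 𝓗) : N →ₗ[k] V) = F0 K v :=
    ⟨fun K => LinearMap.codRestrict 𝓗 (F0 K) (F0_mem K), fun K v => rfl⟩
  obtain ⟨j, j_apply⟩ : ∃ j : V →ₗ[k] (Fin b → N),
      ∀ v β, j v β = ∑ K, (g.repr (F K v) β) • n K := by
    refine ⟨LinearMap.pi fun β => ∑ K, ((g.coord β) ∘ₗ F K).smulRight (n K), ?_⟩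
    intro v β
    simp [LinearMap.sum_apply, Module.Basis.coord_apply]
  obtain ⟨p, p_apply⟩ : ∃ p : (Fin b → N) →ₗ[k] V,
      ∀ y, p y = ∑ β, ((g β : 𝓗) : N →ₗ[k] V) (y β) := by
    refine ⟨∑ β, ((g β : 𝓗) : N →ₗ[k] V) ∘ₗ LinearMap.proj β, ?_⟩
    intro y
    simp [LinearMap.sum_apply]
  have hrepr : ∀ (x : 𝓗) (z : N), ∑ β, g.repr x β • ((g β : 𝓗) : N →ₗ[k] V) z = (x : N →ₗ[k] V) z := by
    intro x z
    have h := g.sum_repr x
    have h' := congrArg (fun x : 𝓗 => (x : N →ₗ[k] V) z) h
    simp only [Submodule.coe_sum, Submodule.coe_smul, LinearMap.sum_apply,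
      LinearMap.smul_apply] at h'
    exact h'
  refine ⟨b, j, p, ?_, ?_, ?_⟩
  · apply LinearMap.ext; intro v
    rw [LinearMap.comp_apply, p_apply]
    simp only [j_apply, map_sum, map_smul]
    rw [Finset.sum_comm]
    simp only [hrepr, F_coe, F0_apply]
    rw [LinearMap.sum_apply]
  · apply isHom_of_act; intro φ
    apply LinearMap.ext; intro v
    simp only [LinearMap.comp_apply]
    rw [act_pi]
    funext β
    rw [j_apply, j_apply, map_sum]
    simp only [map_smul, act_basis cN n cf hn, Finset.smul_sum, smul_smul]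
    rw [Finset.sum_comm]
    refine Finset.sum_congr rfl fun L _ => ?_
    rw [← Finset.sum_smul]
    congr 1
    have hF : F L (act cV φ v) = ∑ K, φ (cf L K) • F K v := by
      apply Subtype.ext
      apply n.ext; intro J
      simp only [Submodule.coe_sum, Submodule.coe_smul, LinearMap.sum_apply, LinearMap.smul_apply,
        F_coe, F0_apply]
      have := LinearMap.congr_fun (h3 φ J L) v
      simpa [LinearMap.sum_apply] using this
    rw [hF, map_sum]
    simp only [map_smul, Finsupp.coe_finsetSum, Finset.sum_apply, Finsupp.coe_smul, Pi.smul_apply,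
      smul_eq_mul]
    refine Finset.sum_congr rfl fun K _ => ?_
    ring
  · unfold IsHom
    apply LinearMap.pi_ext; intro β y
    simp only [LinearMap.comp_apply]
    rw [ComodTens.pi_coact_single]
    have e1 : ∀ z : N, p (Pi.single β z) = ((g β : 𝓗) : N →ₗ[k] V) z := by
      intro z
      rw [p_apply, Finset.sum_eq_single β]
      · simp
      · intro γ _ hγ; rw [Pi.single_eq_of_ne hγ, map_zero]
      · intro hb; exact absurd (Finset.mem_univ β) hb
    have e2 : p ∘ₗ LinearMap.single k (fun _ : Fin b => N) β = ((g β : 𝓗) : N →ₗ[k] V) := by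
      apply LinearMap.ext; intro z
      rw [LinearMap.comp_apply, LinearMap.coe_single]
      exact e1 z
    rw [e1, ← LinearMap.comp_apply (p.rTensor A), ← LinearMap.rTensor_comp, e2]
    exact LinearMap.congr_fun ((mem𝓗 _).1 (g β).2) y

end G1

end Groth.Agent.H9.SchurW
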