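import Mathlib
import Groth.Prelude.Def_GLin5
import Groth.Agent.H4.GLnChar
import Groth.Agent.Lib.Helper9.Misc.SchurWAct

set_option autoImplicit false
set_option linter.unusedSectionVars false
set_option linter.unusedVariables false

open TensorProduct

noncomputable section

namespace Groth.Agent.H9.SchurW

universe u

/-! ### tuples and their exponent vectors -/
section Comb
variable {ι : Type*} [DecidableEq ι]

/-- the exponent vector of a tuple -/
def mon {a : ℕ} (f : Fin a → ι) : ι →₀ ℕ := ∑ t, Finsupp.single (f t) 1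

lemma mon_comp {a : ℕ} (f : Fin a → ι) (σ : Equiv.Perm (Fin a)) : mon (f ∘ σ) = mon f :=
  Equiv.sum_comp σ (fun t => Finsupp.single (f t) 1)

lemma mon_apply {a : ℕ} (f : Fin a → ι) (i : ι) : mon f i = Fintype.card {t // f t = i} := by
  unfold mon
  rw [Finsupp.finsetSum_apply, Fintype.card_subtype]
  simp only [Finsupp.single_apply]
  rw [Finset.sum_boole]
  simp

lemma degree_mon {a : ℕ} (f : Fin a → ι) : Finsupp.degree (mon f) = a := by
  unfold mon
  rw [map_sum]
  simp

lemma mon_ne_of_ne {a a' : ℕ} (f : Fin a → ι) (g : Fin a' → ι) (h : a' ≠ a) : mon g ≠ mon f := by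
  intro e
  apply h
  rw [← degree_mon g, e, degree_mon f]

lemma exists_perm_of_mon_eq {a : ℕ} (g f : Fin a → ι) (h : mon g = mon f) :
    ∃ σ : Equiv.Perm (Fin a), g ∘ σ = f := by
  have hc : ∀ i, Fintype.card {t // f t = i} = Fintype.card {t // g t = i} := by
    intro i
    rw [← mon_apply, ← mon_apply, h]
  refine ⟨Equiv.ofFiberEquiv (fun i => Fintype.equivOfCardEq (hc i)), ?_⟩
  funext t
  exact Equiv.ofFiberEquiv_map _ t

/-- number of permutations carrying `g` to `f` -/
def cnt {a : ℕ} (g f : Fin a → ι) : ℕ := Fintype.card {σ : Equiv.Perm (Fin a) // g ∘ σ = f}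

lemma cnt_cast {R : Type*} [Semiring R] {a : ℕ} (g f : Fin a → ι) :
    ((cnt g f : ℕ) : R) = ∑ σ : Equiv.Perm (Fin a), if g ∘ σ = f then (1 : R) else 0 := by
  unfold cnt
  rw [Fintype.card_subtype, Finset.sum_boole]

lemma cnt_eq {a : ℕ} (g f : Fin a → ι) : cnt g f = if mon g = mon f then cnt f f else 0 := by
  split_ifs with h
  · obtain ⟨σ0, hσ0⟩ := exists_perm_of_mon_eq g f h
    unfold cnt
    apply Fintype.card_congr
    refine
      { toFun := fun σ => ⟨σ0⁻¹ * σ.1, ?_⟩
        invFun := fun σ => ⟨σ0 * σ.1, ?_⟩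
        left_inv := ?_
        right_inv := ?_ }
    · funext t
      have h1 := congrFun σ.2 t
      have h2 := congrFun hσ0 (σ0⁻¹ (σ.1 t))
      simp only [Function.comp_apply, Equiv.Perm.coe_mul, Equiv.Perm.coe_inv, Equiv.apply_symm_apply] at h1 h2 ⊢
      rw [← h2, h1]
    · funext t
      have h1 := congrFun σ.2 t
      have h2 := congrFun hσ0 (σ.1 t)
      simp only [Function.comp_apply, Equiv.Perm.coe_mul] at h1 h2 ⊢
      rw [h2, h1]
    · intro σ
      apply Subtype.ext
      simp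
    · intro σ
      apply Subtype.ext
      simp
  · unfold cnt
    rw [Fintype.card_eq_zero_iff]
    exact ⟨fun σ => h (by rw [← σ.2, mon_comp])⟩

lemma exists_tuple (s : ι →₀ ℕ) : ∃ (a : ℕ) (g : Fin a → ι), mon g = s := by
  induction s using Finsupp.induction_linear with
  | zero => exact ⟨0, Fin.elim0, by simp [mon]⟩
  | add s1 s2 h1 h2 =>
    obtain ⟨a1, g1, rfl⟩ := h1
    obtain ⟨a2, g2, rfl⟩ := h2
    refine ⟨a1 + a2, Fin.append g1 g2, ?_⟩
    unfold mon
    rw [Fin.sum_univ_add]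
    simp only [Fin.append_left, Fin.append_right]
  | single i n =>
    refine ⟨n, fun _ => i, ?_⟩
    unfold mon
    rw [Finset.sum_const, Finset.card_univ, Fintype.card_fin]
    simp

end Comb

/-! ### functionals on polynomials -/
section Poly
variable (k : Type u) [Field k] {ι : Type*} [DecidableEq ι]

/-- the monomial of a tuple -/
def xm {a : ℕ} (f : Fin a → ι) : MvPolynomial ι k := ∏ t, MvPolynomial.X (f t)

lemma xm_eq {a : ℕ} (f : Fin a → ι) : xm k f = MvPolynomial.monomial (mon f) 1 := by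
  unfold xm mon
  rw [MvPolynomial.monomial_sum_one]
  rfl

/-- symmetrised coefficient functional -/
def psi {a : ℕ} (f : Fin a → ι) : MvPolynomial ι k →ₗ[k] k :=
  (((a.factorial : ℕ) : k)⁻¹ * ((cnt f f : ℕ) : k)) • MvPolynomial.lcoeff k (mon f)

lemma psi_xm {a : ℕ} (f g : Fin a → ι) :
    psi k f (xm k g) = ((a.factorial : ℕ) : k)⁻¹ * ((cnt g f : ℕ) : k) := by
  unfold psi
  rw [LinearMap.smul_apply, xm_eq, MvPolynomial.lcoeff_apply, MvPolynomial.coeff_monomial,
    smul_eq_mul, cnt_eq g f]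
  split_ifs with h
  · rw [mul_one]
  · simp

lemma psi_xm_ne {a a' : ℕ} (f : Fin a → ι) (g : Fin a' → ι) (h : a' ≠ a) :
    psi k f (xm k g) = 0 := by
  unfold psi
  rw [LinearMap.smul_apply, xm_eq, MvPolynomial.lcoeff_apply, MvPolynomial.coeff_monomial,
    if_neg (mon_ne_of_ne f g h), smul_zero]

lemma lin_ext {M : Type*} [AddCommGroup M] [Module k M] (F G : MvPolynomial ι k →ₗ[k] M)
    (h : ∀ (a : ℕ) (g : Fin a → ι), F (xm k g) = G (xm k g)) : F = G := by
  apply MvPolynomial.linearMap_ext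
  intro s
  apply LinearMap.ext_ring
  obtain ⟨a, g, rfl⟩ := exists_tuple s
  simp only [LinearMap.comp_apply]
  rw [← xm_eq]
  exact h a g

/-- coefficient functional on Laurent polynomials -/
def cT (e : ℤ) : LaurentPolynomial k →ₗ[k] k where
  toFun x := x.coeff e
  map_add' x y := by rw [AddMonoidAlgebra.coeff_add, Finsupp.add_apply]
  map_smul' c x := by rw [AddMonoidAlgebra.coeff_smul]; rfl

lemma cT_T (e n : ℤ) : cT k e (LaurentPolynomial.T n) = if n = e then 1 else 0 :=
  LaurentPolynomial.T_apply e n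

end Poly

/-! ### the general linear group -/
section GLsec
open CoordGrp
variable (k : Type u) [Field k] {r : ℕ}

/-- products of matrix coordinates -/
def xH {a : ℕ} (J K : Fin a → Fin r) : GLn r k := ∏ t, GLn.X (J t) (K t)

/-- zipping two tuples -/
def zp {a : ℕ} (J K : Fin a → Fin r) : Fin a → Fin r × Fin r := fun t => (J t, K t)

lemma zp_comp_eq {a : ℕ} (J' K' J K : Fin a → Fin r) (σ : Equiv.Perm (Fin a)) :
    zp J' K' ∘ σ = zp J K ↔ J' ∘ σ = J ∧ K' ∘ σ = K := by
  simp only [funext_iff, zp, Function.comp_apply, Prod.mk.injEq]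
  exact forall_and

lemma exists_zp {a : ℕ} (g : Fin a → Fin r × Fin r) : ∃ J K : Fin a → Fin r, g = zp J K :=
  ⟨fun t => (g t).1, fun t => (g t).2, rfl⟩

/-- the polynomial functions inside the coordinate ring, as a linear map -/
def tauL (r : ℕ) : H4.GLnChar.P k r →ₗ[k] GLn r k := (H4.GLnChar.iota k r).toLinearMap

lemma tauL_apply (x : H4.GLnChar.P k r) : tauL k r x = H4.GLnChar.iota k r x := rfl

lemma tau_xm {a : ℕ} (J K : Fin a → Fin r) :
    H4.GLnChar.iota k r (xm k (zp J K)) = xH k J K := by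
  unfold xm xH H4.GLnChar.iota
  rw [map_prod]
  refine Finset.prod_congr rfl fun t _ => ?_
  rw [MvPolynomial.aeval_X]
  rfl

lemma xH_comp {a : ℕ} (J K : Fin a → Fin r) (σ : Equiv.Perm (Fin a)) :
    xH k (J ∘ σ) (K ∘ σ) = xH k J K := by
  unfold xH
  exact Equiv.prod_comp σ (fun t => GLn.X (J t) (K t))

lemma prod_tmul {A B : Type*} [CommRing A] [Algebra k A] [CommRing B] [Algebra k B] {α : Type*}
    (s : Finset α) (f : α → A) (g : α → B) :
    ∏ t ∈ s, (f t ⊗ₜ[k] g t) = (∏ t ∈ s, f t) ⊗ₜ[k] (∏ t ∈ s, g t) := by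
  classical
  induction s using Finset.induction_on with
  | empty => simp [Algebra.TensorProduct.one_def]
  | insert x s hx ih =>
    rw [Finset.prod_insert hx, Finset.prod_insert hx, Finset.prod_insert hx, ih,
      Algebra.TensorProduct.tmul_mul_tmul]

lemma comul_xH {a : ℕ} (J K : Fin a → Fin r) :
    CoalgebraStruct.comul (R := k) (xH k J K) =
      ∑ L : Fin a → Fin r, xH k J L ⊗ₜ[k] xH k L K := by
  unfold xH
  rw [← Bialgebra.comulAlgHom_apply, map_prod]
  simp only [Bialgebra.comulAlgHom_apply, GLn.comul_X]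
  rw [Finset.prod_univ_sum, Fintype.piFinset_univ]
  refine Finset.sum_congr rfl fun L _ => ?_
  exact prod_tmul k _ _ _

lemma conv_xH {a : ℕ} (φ ψ : Module.Dual k (GLn r k)) (J K : Fin a → Fin r) :
    conv φ ψ (xH k J K) = ∑ L : Fin a → Fin r, φ (xH k J L) * ψ (xH k L K) := by
  unfold conv
  rw [LinearMap.comp_apply, LinearMap.comp_apply, comul_xH, map_sum, map_sum]
  refine Finset.sum_congr rfl fun L _ => ?_
  rw [TensorProduct.map_tmul]
  simp

/-- the scalar one-parameter subgroup as a linear map -/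
def diagL (r : ℕ) : GLn r k →ₗ[k] LaurentPolynomial k :=
  ((GLn.diag r k fun _ => 1 : GLn r k →ₐc[k] LaurentPolynomial k) : GLn r k →ₗ[k] LaurentPolynomial k)

lemma diagL_apply (x : GLn r k) : diagL k r x = GLn.diag r k (fun _ => 1) x := rfl

lemma diag_xH {a : ℕ} (J K : Fin a → Fin r) :
    GLn.diag r k (fun _ => 1) (xH k J K) = if J = K then LaurentPolynomial.T (a : ℤ) else 0 := by
  unfold xH
  rw [map_prod]
  simp only [GLn.diag_X]
  rw [Fintype.prod_ite_zero, GLn.prod_T]
  simp only [Finset.sum_const, Finset.card_univ, Fintype.card_fin, nsmul_eq_mul, mul_one]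
  refine if_congr ?_ rfl rfl
  exact funext_iff.symm

end GLsec

/-! ### the three identities -/
section Ident
open CoordGrp
variable (k : Type u) [Field k] [CharZero k] {r : ℕ}

lemma cntk {a : ℕ} (J' K' J K : Fin a → Fin r) :
    ((cnt (zp J' K') (zp J K) : ℕ) : k) =
      ∑ σ : Equiv.Perm (Fin a), if (J' ∘ σ = J ∧ K' ∘ σ = K) then (1 : k) else 0 := by
  rw [cnt_cast]
  refine Finset.sum_congr rfl fun σ _ => ?_
  exact if_congr (zp_comp_eq J' K' J K σ) rfl rfl

lemma cntk' {a : ℕ} (J' K' J K : Fin a → Fin r) :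
    ((cnt (zp J' K') (zp J K) : ℕ) : k) =
      ∑ σ : Equiv.Perm (Fin a), if (K' ∘ σ = K ∧ J' ∘ σ = J) then (1 : k) else 0 := by
  rw [cnt_cast]
  refine Finset.sum_congr rfl fun σ _ => ?_
  exact if_congr ((zp_comp_eq J' K' J K σ).trans and_comm) rfl rfl

lemma SL {a : ℕ} (F : (Fin a → Fin r) → k) (J : Fin a → Fin r)
    (Q : Equiv.Perm (Fin a) → Prop) [DecidablePred Q] :
    ∑ L' : Fin a → Fin r, F L' *
        (∑ σ : Equiv.Perm (Fin a), if (L' ∘ σ = J ∧ Q σ) then (1 : k) else 0) =
      ∑ σ : Equiv.Perm (Fin a), if Q σ then F (J ∘ σ.symm) else 0 := by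
  simp only [Finset.mul_sum]
  rw [Finset.sum_comm]
  refine Finset.sum_congr rfl fun σ _ => ?_
  rw [Finset.sum_eq_single (J ∘ σ.symm)]
  · have : (J ∘ σ.symm) ∘ σ = J := by funext t; simp
    simp only [this, true_and]
    split_ifs <;> simp
  · intro L' _ hL'
    rw [if_neg, mul_zero]
    rintro ⟨h, -⟩
    apply hL'
    rw [← h]
    funext t
    simp
  · intro h
    exact absurd (Finset.mem_univ _) h

lemma SR {a : ℕ} (F : (Fin a → Fin r) → k) (J' : Fin a → Fin r)
    (Q : Equiv.Perm (Fin a) → Prop) [DecidablePred Q] :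
    ∑ L : Fin a → Fin r, F L *
        (∑ σ : Equiv.Perm (Fin a), if (J' ∘ σ = L ∧ Q σ) then (1 : k) else 0) =
      ∑ σ : Equiv.Perm (Fin a), if Q σ then F (J' ∘ σ) else 0 := by
  simp only [Finset.mul_sum]
  rw [Finset.sum_comm]
  refine Finset.sum_congr rfl fun σ _ => ?_
  rw [Finset.sum_eq_single (J' ∘ σ)]
  · simp only [true_and]
    split_ifs <;> simp
  · intro L _ hL
    rw [if_neg, mul_zero]
    rintro ⟨h, -⟩
    exact hL h.symm
  · intro h
    exact absurd (Finset.mem_univ _) h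

theorem I1 (a : ℕ) :
    (∑ K : Fin a → Fin r, psi k (zp K K)) = cT k (a : ℤ) ∘ₗ diagL k r ∘ₗ tauL k r := by
  apply lin_ext
  intro a' g
  obtain ⟨J', K', rfl⟩ := exists_zp g
  rw [LinearMap.sum_apply, LinearMap.comp_apply, LinearMap.comp_apply, tauL_apply, diagL_apply,
    tau_xm, diag_xH]
  by_cases ha : a' = a
  · subst ha
    simp only [psi_xm, cntk]
    rw [← Finset.mul_sum, Finset.sum_comm]
    have hσ : ∀ σ : Equiv.Perm (Fin a'),
        (∑ K : Fin a' → Fin r, if (J' ∘ σ = K ∧ K' ∘ σ = K) then (1 : k) else 0) =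
          if J' = K' then 1 else 0 := by
      intro σ
      rw [Finset.sum_eq_single (J' ∘ σ)]
      · refine if_congr ?_ rfl rfl
        constructor
        · rintro ⟨-, h⟩
          funext t
          have := congrFun h (σ.symm t)
          simpa using this.symm
        · rintro rfl
          exact ⟨rfl, rfl⟩
      · intro K _ hK
        rw [if_neg]
        rintro ⟨h, -⟩
        exact hK h.symm
      · intro h
        exact absurd (Finset.mem_univ _) h
    simp only [hσ]
    rw [Finset.sum_const, Finset.card_univ, Fintype.card_perm, Fintype.card_fin]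
    have hfac : ((a'.factorial : ℕ) : k) ≠ 0 := Nat.cast_ne_zero.2 (Nat.factorial_ne_zero a')
    split_ifs with hJK
    · rw [cT_T, if_pos rfl, nsmul_eq_mul, mul_one, inv_mul_cancel₀ hfac]
    · rw [map_zero, smul_zero, mul_zero]
  · simp only [psi_xm_ne k _ _ ha]
    rw [Finset.sum_const_zero]
    split_ifs with hJK
    · rw [cT_T, if_neg]
      intro h
      exact ha (by exact_mod_cast h)
    · rw [map_zero]

theorem I2 (π : GLn r k →ₗ[k] H4.GLnChar.P k r) (hπ : π ∘ₗ tauL k r = LinearMap.id) {a : ℕ}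
    (φ : Module.Dual k (GLn r k)) (J K : Fin a → Fin r) :
    conv φ (psi k (zp J K) ∘ₗ π) ∘ₗ tauL k r =
      ∑ L : Fin a → Fin r, φ (xH k L J) • psi k (zp L K) := by
  have hπ' : ∀ x, π (H4.GLnChar.iota k r x) = x := fun x => LinearMap.congr_fun hπ x
  apply lin_ext
  intro a' g
  obtain ⟨J', K', rfl⟩ := exists_zp g
  rw [LinearMap.comp_apply, tauL_apply, tau_xm, conv_xH, LinearMap.sum_apply]
  have h1 : ∀ L', (psi k (zp J K) ∘ₗ π) (xH k L' K') = psi k (zp J K) (xm k (zp L' K')) := by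
    intro L'
    rw [LinearMap.comp_apply, ← tau_xm, hπ']
  by_cases ha : a' = a
  · subst ha
    have e' : ∀ x y : k, x * (((a'.factorial : ℕ) : k)⁻¹ * y) =
        ((a'.factorial : ℕ) : k)⁻¹ * (x * y) := fun x y => by ring
    simp only [h1, LinearMap.smul_apply, smul_eq_mul, psi_xm, cntk, e']
    rw [← Finset.mul_sum, ← Finset.mul_sum]
    congr 1
    refine (SL k (fun L' => φ (xH k J' L')) J (fun σ => K' ∘ σ = K)).trans ?_
    refine Eq.trans ?_ (SR k (fun L => φ (xH k L J)) J' (fun σ => K' ∘ σ = K)).symm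
    refine Finset.sum_congr rfl fun σ _ => ?_
    refine if_congr Iff.rfl ?_ rfl
    congr 1
    rw [← xH_comp k J' (J ∘ σ.symm) σ]
    congr 1
    funext t
    simp
  · simp only [h1, LinearMap.smul_apply, smul_eq_mul, psi_xm_ne k _ _ ha, mul_zero,
      Finset.sum_const_zero]

theorem I3 (π : GLn r k →ₗ[k] H4.GLnChar.P k r) (hπ : π ∘ₗ tauL k r = LinearMap.id) {a : ℕ}
    (φ : Module.Dual k (GLn r k)) (J L : Fin a → Fin r) :
    conv (psi k (zp J L) ∘ₗ π) φ ∘ₗ tauL k r =
      ∑ K : Fin a → Fin r, φ (xH k L K) • psi k (zp J K) := by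
  have hπ' : ∀ x, π (H4.GLnChar.iota k r x) = x := fun x => LinearMap.congr_fun hπ x
  apply lin_ext
  intro a' g
  obtain ⟨J', K', rfl⟩ := exists_zp g
  rw [LinearMap.comp_apply, tauL_apply, tau_xm, conv_xH, LinearMap.sum_apply]
  have h1 : ∀ L', (psi k (zp J L) ∘ₗ π) (xH k J' L') = psi k (zp J L) (xm k (zp J' L')) := by
    intro L'
    rw [LinearMap.comp_apply, ← tau_xm, hπ']
  by_cases ha : a' = a
  · subst ha
    have e : ∀ x y : k, (((a'.factorial : ℕ) : k)⁻¹ * y) * x =
        ((a'.factorial : ℕ) : k)⁻¹ * (x * y) := fun x y => by ring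
    have e' : ∀ x y : k, x * (((a'.factorial : ℕ) : k)⁻¹ * y) =
        ((a'.factorial : ℕ) : k)⁻¹ * (x * y) := fun x y => by ring
    simp only [h1, LinearMap.smul_apply, smul_eq_mul, psi_xm, cntk', e, e']
    rw [← Finset.mul_sum, ← Finset.mul_sum]
    congr 1
    refine (SL k (fun L' => φ (xH k L' K')) L (fun σ => J' ∘ σ = J)).trans ?_
    refine Eq.trans ?_ (SR k (fun K => φ (xH k L K)) K' (fun σ => J' ∘ σ = J)).symm
    refine Finset.sum_congr rfl fun σ _ => ?_
    refine if_congr Iff.rfl ?_ rfl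
    congr 1
    rw [← xH_comp k (L ∘ σ.symm) K' σ]
    congr 1
    funext t
    simp
  · simp only [h1, LinearMap.smul_apply, smul_eq_mul, psi_xm_ne k _ _ ha, zero_mul, mul_zero,
      Finset.sum_const_zero]

end Ident

end Groth.Agent.H9.SchurW
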