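import Mathlib
import Groth.Prelude.Def_Hoch
import Groth.Prelude.Def_ComodTens
import Groth.Agent.Lib.Helper9.Misc.SchurWAct
import Groth.Agent.Lib.Helper9.Misc.SchurWCore

set_option autoImplicit false
set_option linter.unusedSectionVars false
set_option linter.unusedVariables false

open TensorProduct

noncomputable section

namespace Groth.Agent.H9.SchurW

universe u v

section G2
variable (k : Type u) [Field k] {A : Type v} [CommRing A] [Bialgebra k A] {n : ℕ}
  (x : Fin n → Fin n → A)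

/-- the polynomial ring in the matrix coordinates -/
abbrev PP (k : Type u) [Field k] (n : ℕ) := MvPolynomial (Fin n × Fin n) k

/-- the algebra map sending the coordinates to `x` -/
def tauA : PP k n →ₐ[k] A := MvPolynomial.aeval fun p => x p.1 p.2

/-- products of the `x` -/
def xA {a : ℕ} (J K : Fin a → Fin n) : A := ∏ t, x (J t) (K t)

lemma tauA_xm {a : ℕ} (J K : Fin a → Fin n) : tauA k x (xm k (zp J K)) = xA x J K := by
  unfold xm xA tauA
  rw [map_prod]
  refine Finset.prod_congr rfl fun t _ => ?_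
  rw [MvPolynomial.aeval_X]
  rfl

lemma xA_comp {a : ℕ} (J K : Fin a → Fin n) (σ : Equiv.Perm (Fin a)) :
    xA x (J ∘ σ) (K ∘ σ) = xA x J K := by
  unfold xA
  exact Equiv.prod_comp σ (fun t => x (J t) (K t))

lemma comul_xA (hx : ∀ i j, CoalgebraStruct.comul (R := k) (x i j) = ∑ l, x i l ⊗ₜ[k] x l j)
    {a : ℕ} (J K : Fin a → Fin n) :
    CoalgebraStruct.comul (R := k) (xA x J K) = ∑ L : Fin a → Fin n, xA x J L ⊗ₜ[k] xA x L K := by
  unfold xA
  rw [← Bialgebra.comulAlgHom_apply, map_prod]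
  simp only [Bialgebra.comulAlgHom_apply, hx]
  rw [Finset.prod_univ_sum, Fintype.piFinset_univ]
  refine Finset.sum_congr rfl fun L _ => ?_
  exact prod_tmul k _ _ _

lemma counit_xA (hε : ∀ i j, CoalgebraStruct.counit (R := k) (x i j) = if i = j then (1 : k) else 0)
    {a : ℕ} (J K : Fin a → Fin n) :
    CoalgebraStruct.counit (R := k) (xA x J K) = if J = K then (1 : k) else 0 := by
  unfold xA
  rw [← Bialgebra.counitAlgHom_apply, map_prod]
  simp only [Bialgebra.counitAlgHom_apply, hε]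
  rw [Fintype.prod_ite_zero, Finset.prod_const_one]
  by_cases h : J = K
  · subst h
    simp
  · rw [if_neg h, if_neg]
    intro h'
    exact h (funext h')

lemma conv_xA (hx : ∀ i j, CoalgebraStruct.comul (R := k) (x i j) = ∑ l, x i l ⊗ₜ[k] x l j)
    {a : ℕ} (φ ψ : Module.Dual k A) (J K : Fin a → Fin n) :
    conv φ ψ (xA x J K) = ∑ L : Fin a → Fin n, φ (xA x J L) * ψ (xA x L K) := by
  unfold conv
  rw [LinearMap.comp_apply, LinearMap.comp_apply, comul_xA k x hx, map_sum, map_sum]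
  refine Finset.sum_congr rfl fun L _ => ?_
  rw [TensorProduct.map_tmul]
  simp

/-- span of the monomials with degree in `S` -/
def PS (n : ℕ) (S : Finset ℕ) : Submodule k (PP k n) :=
  Submodule.span k {p | ∃ a ∈ S, ∃ g : Fin a → Fin n × Fin n, p = xm k g}

lemma xm_mem_PS {S : Finset ℕ} {a : ℕ} (ha : a ∈ S) (g : Fin a → Fin n × Fin n) :
    xm k g ∈ PS k n S := Submodule.subset_span ⟨a, ha, g, rfl⟩

/-- `tauA` restricted to `PS` -/
def tauS (S : Finset ℕ) : PS k n S →ₗ[k] A := (tauA k x).toLinearMap ∘ₗ (PS k n S).subtype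

lemma tauS_apply (S : Finset ℕ) (p : PS k n S) : tauS k x S p = tauA k x (p : PP k n) := rfl

lemma comp_tauS_ext (S : Finset ℕ) (F G : Module.Dual k A)
    (h : ∀ a ∈ S, ∀ g : Fin a → Fin n × Fin n,
      F (tauA k x (xm k g)) = G (tauA k x (xm k g))) :
    F ∘ₗ tauS k x S = G ∘ₗ tauS k x S := by
  apply LinearMap.ext
  rintro ⟨p, hp⟩
  show F (tauA k x p) = G (tauA k x p)
  induction hp using Submodule.span_induction with
  | mem p hp =>
    obtain ⟨a, ha, g, rfl⟩ := hp
    exact h a ha g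
  | zero => simp
  | add p q _ _ hp hq => rw [map_add, map_add, map_add, hp, hq]
  | smul c p _ hp => rw [map_smul, map_smul, map_smul, hp]

end G2

section G2b
variable (k : Type u) [Field k] [CharZero k] {A : Type v} [CommRing A] [Bialgebra k A] {n : ℕ}
  (x : Fin n → Fin n → A)

lemma sum_psi_diag {a : ℕ} (J' K' : Fin a → Fin n) :
    ∑ K : Fin a → Fin n, psi k (zp K K) (xm k (zp J' K')) = if J' = K' then (1 : k) else 0 := by
  simp only [psi_xm, cntk]
  rw [← Finset.mul_sum, Finset.sum_comm]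
  have hσ : ∀ σ : Equiv.Perm (Fin a),
      (∑ K : Fin a → Fin n, if (J' ∘ σ = K ∧ K' ∘ σ = K) then (1 : k) else 0) =
        if J' = K' then 1 else 0 := by
    intro σ
    rw [Finset.sum_eq_single (J' ∘ σ)]
    · refine if_congr ?_ rfl rfl
      constructor
      · rintro ⟨-, h⟩
        funext t
        have := congrFun h (σ.symm t)
        simpa using this.symm
      · rintro rfl
        exact ⟨rfl, rfl⟩
    · intro K _ hK
      rw [if_neg]
      rintro ⟨h, -⟩
      exact hK h.symm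
    · intro h
      exact absurd (Finset.mem_univ _) h
  simp only [hσ]
  rw [Finset.sum_const, Finset.card_univ, Fintype.card_perm, Fintype.card_fin]
  have hfac : ((a.factorial : ℕ) : k) ≠ 0 := Nat.cast_ne_zero.2 (Nat.factorial_ne_zero a)
  split_ifs with hJK
  · rw [nsmul_eq_mul, mul_one, inv_mul_cancel₀ hfac]
  · rw [smul_zero, mul_zero]

/-- the functional restricting to the counit on `PS` -/
def PsiS (n : ℕ) (S : Finset ℕ) : Module.Dual k (PP k n) :=
  ∑ a ∈ S, ∑ K : Fin a → Fin n, psi k (zp K K)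

theorem I1' (hε : ∀ i j, CoalgebraStruct.counit (R := k) (x i j) = if i = j then (1 : k) else 0)
    (S : Finset ℕ) (π : A →ₗ[k] PP k n)
    (hπ : ∀ a ∈ S, ∀ g : Fin a → Fin n × Fin n, π (tauA k x (xm k g)) = xm k g) :
    (PsiS k n S ∘ₗ π) ∘ₗ tauS k x S = CoalgebraStruct.counit (R := k) (A := A) ∘ₗ tauS k x S := by
  classical
  apply comp_tauS_ext
  intro a' ha' g
  obtain ⟨J', K', rfl⟩ := exists_zp g
  rw [LinearMap.comp_apply, hπ a' ha', tauA_xm, counit_xA k x hε]
  unfold PsiS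
  rw [LinearMap.sum_apply, Finset.sum_eq_single a']
  · rw [LinearMap.sum_apply]
    exact sum_psi_diag k J' K'
  · intro b _ hb
    rw [LinearMap.sum_apply]
    refine Finset.sum_eq_zero fun K _ => ?_
    exact psi_xm_ne k _ _ (Ne.symm hb)
  · intro h
    exact absurd ha' h

theorem I2' (hx : ∀ i j, CoalgebraStruct.comul (R := k) (x i j) = ∑ l, x i l ⊗ₜ[k] x l j)
    (S : Finset ℕ) (π : A →ₗ[k] PP k n)
    (hπ : ∀ a ∈ S, ∀ g : Fin a → Fin n × Fin n, π (tauA k x (xm k g)) = xm k g)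
    {a : ℕ} (φ : Module.Dual k A) (J K : Fin a → Fin n) :
    conv φ (psi k (zp J K) ∘ₗ π) ∘ₗ tauS k x S =
      (∑ L : Fin a → Fin n, φ (xA x L J) • (psi k (zp L K) ∘ₗ π)) ∘ₗ tauS k x S := by
  apply comp_tauS_ext
  intro a' ha' g
  obtain ⟨J', K', rfl⟩ := exists_zp g
  have h1 : ∀ L', (psi k (zp J K) ∘ₗ π) (xA x L' K') = psi k (zp J K) (xm k (zp L' K')) := by
    intro L'
    rw [LinearMap.comp_apply, ← tauA_xm k x, hπ a' ha']
  rw [LinearMap.sum_apply]
  simp only [LinearMap.smul_apply, LinearMap.comp_apply, hπ a' ha', smul_eq_mul]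
  rw [tauA_xm, conv_xA k x hx]
  by_cases ha : a' = a
  · subst ha
    have e' : ∀ y z : k, y * (((a'.factorial : ℕ) : k)⁻¹ * z) =
        ((a'.factorial : ℕ) : k)⁻¹ * (y * z) := fun y z => by ring
    simp only [h1, psi_xm, cntk, e']
    rw [← Finset.mul_sum, ← Finset.mul_sum]
    congr 1
    refine (SL k (fun L' => φ (xA x J' L')) J (fun σ => K' ∘ σ = K)).trans ?_
    refine Eq.trans ?_ (SR k (fun L => φ (xA x L J)) J' (fun σ => K' ∘ σ = K)).symm
    refine Finset.sum_congr rfl fun σ _ => ?_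
    refine if_congr Iff.rfl ?_ rfl
    congr 1
    rw [← xA_comp x J' (J ∘ σ.symm) σ]
    congr 1
    funext t
    simp
  · simp only [h1, psi_xm_ne k _ _ ha, mul_zero, Finset.sum_const_zero]

theorem I3' (hx : ∀ i j, CoalgebraStruct.comul (R := k) (x i j) = ∑ l, x i l ⊗ₜ[k] x l j)
    (S : Finset ℕ) (π : A →ₗ[k] PP k n)
    (hπ : ∀ a ∈ S, ∀ g : Fin a → Fin n × Fin n, π (tauA k x (xm k g)) = xm k g)
    {a : ℕ} (φ : Module.Dual k A) (J L : Fin a → Fin n) :
    conv (psi k (zp J L) ∘ₗ π) φ ∘ₗ tauS k x S =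
      (∑ K : Fin a → Fin n, φ (xA x L K) • (psi k (zp J K) ∘ₗ π)) ∘ₗ tauS k x S := by
  apply comp_tauS_ext
  intro a' ha' g
  obtain ⟨J', K', rfl⟩ := exists_zp g
  have h1 : ∀ L', (psi k (zp J L) ∘ₗ π) (xA x J' L') = psi k (zp J L) (xm k (zp J' L')) := by
    intro L'
    rw [LinearMap.comp_apply, ← tauA_xm k x, hπ a' ha']
  rw [LinearMap.sum_apply]
  simp only [LinearMap.smul_apply, LinearMap.comp_apply, hπ a' ha', smul_eq_mul]
  rw [tauA_xm, conv_xA k x hx]
  by_cases ha : a' = a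
  · subst ha
    have e : ∀ y z : k, (((a'.factorial : ℕ) : k)⁻¹ * z) * y =
        ((a'.factorial : ℕ) : k)⁻¹ * (y * z) := fun y z => by ring
    have e' : ∀ y z : k, y * (((a'.factorial : ℕ) : k)⁻¹ * z) =
        ((a'.factorial : ℕ) : k)⁻¹ * (y * z) := fun y z => by ring
    simp only [h1, psi_xm, cntk', e, e']
    rw [← Finset.mul_sum, ← Finset.mul_sum]
    congr 1
    refine (SL k (fun L' => φ (xA x L' K')) L (fun σ => J' ∘ σ = J)).trans ?_
    refine Eq.trans ?_ (SR k (fun K => φ (xA x L K)) K' (fun σ => J' ∘ σ = J)).symm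
    refine Finset.sum_congr rfl fun σ _ => ?_
    refine if_congr Iff.rfl ?_ rfl
    congr 1
    rw [← xA_comp x (L ∘ σ.symm) K' σ]
    congr 1
    funext t
    simp
  · simp only [h1, psi_xm_ne k _ _ ha, zero_mul, mul_zero, Finset.sum_const_zero]

end G2b

end Groth.Agent.H9.SchurW
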