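import Mathlib
import Groth.Prelude.Def_ComodTens

set_option autoImplicit false
set_option linter.unusedSectionVars false
set_option linter.unusedVariables false

open TensorProduct

noncomputable section

namespace Groth.Agent.H9.SchurW

universe u v

section TP
variable {k : Type u} [CommRing k] {A : Type v} [CommRing A] [Bialgebra k A] {r : ℕ}

/-- basis tensors of the tensor power of `k^r` -/
def et (k : Type u) [CommRing k] (r a : ℕ) (K : Fin a → Fin r) : TensorPower k a (Fin r → k) :=
  PiTensorProduct.tprod k fun t => (Pi.single (K t) (1 : k) : Fin r → k)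

/-- splitting off the last coordinate -/
def snocE (a r : ℕ) : (Fin a → Fin r) × Fin r ≃ (Fin (a + 1) → Fin r) where
  toFun p := Fin.snoc p.1 p.2
  invFun J := (fun t => J t.castSucc, J (Fin.last a))
  left_inv p := by
    apply Prod.ext
    · funext t; simp
    · simp
  right_inv J := by
    funext t
    refine Fin.lastCases ?_ (fun i => ?_) t <;> simp

lemma et_succ (a : ℕ) (K : Fin (a + 1) → Fin r) :
    et k r (a + 1) K = TensorPower.mulEquiv (R := k) (M := Fin r → k) (n := a) (m := 1)
      (et k r a (fun t => K t.castSucc) ⊗ₜ[k]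
        (PiTensorProduct.subsingletonEquiv (R := k) (s := fun _ : Fin 1 => Fin r → k) (0 : Fin 1)).symm
          (Pi.single (K (Fin.last a)) 1)) := by
  rw [PiTensorProduct.subsingletonEquiv_symm_apply']
  unfold et
  rw [← TensorPower.gMul_def, TensorPower.tprod_mul_tprod]
  congr 1
  funext t
  refine Fin.lastCases ?_ (fun i => ?_) t
  · rw [Fin.append_right_eq_snoc, Fin.snoc_last]
  · rw [Fin.append_right_eq_snoc, Fin.snoc_castSucc]

theorem tpow_coact (c : HopfRep.Comod k A (Fin r → k)) (y : Fin r → Fin r → A)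
    (hc : ∀ i, c.coact (Pi.single i 1) = ∑ j, (Pi.single j (1 : k) : Fin r → k) ⊗ₜ[k] y j i) :
    ∀ (a : ℕ) (K : Fin a → Fin r), (ComodTens.Comod.tpow c a).coact (et k r a K) =
      ∑ J : Fin a → Fin r, et k r a J ⊗ₜ[k] ∏ t, y (J t) (K t) := by
  intro a
  induction a with
  | zero =>
    intro K
    have h0 : ∀ J : Fin 0 → Fin r, et k r 0 J =
        (PiTensorProduct.isEmptyEquiv (Fin 0) (R := k) (s := fun _ : Fin 0 => Fin r → k)).symm 1 := by
      intro J
      rw [LinearEquiv.eq_symm_apply]
      show PiTensorProduct.isEmptyEquiv (Fin 0) (PiTensorProduct.tprod k _) = 1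
      exact PiTensorProduct.isEmptyEquiv_apply_tprod (ι := Fin 0) (R := k)
        (s := fun _ : Fin 0 => Fin r → k) _
    rw [Fintype.sum_subsingleton _ K, Fin.prod_univ_zero, ComodTens.tpow_zero, h0 K,
      ComodTens.ofEquiv_coact_apply]
    show LinearMap.rTensor A _ ((1 : k) ⊗ₜ[k] (1 : A)) = _
    rw [LinearMap.rTensor_tmul]
    rfl
  | succ a ih =>
    intro K
    set sE := (PiTensorProduct.subsingletonEquiv (R := k) (s := fun _ : Fin 1 => Fin r → k)
      (0 : Fin 1)).symm with hsE
    have hw : ∀ l : Fin r, (ComodTens.Comod.tpowOne c).coact (sE (Pi.single l 1)) =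
        ∑ j : Fin r, sE (Pi.single j 1) ⊗ₜ[k] y j l := by
      intro l
      rw [ComodTens.ofEquiv_coact_apply, hc, map_sum]
      refine Finset.sum_congr rfl fun j _ => ?_
      rw [LinearMap.rTensor_tmul]
      rfl
    rw [ComodTens.tpow_succ, et_succ, ComodTens.ofEquiv_coact_apply,
      ComodTens.tensor_coact_tmul_of_sum (ComodTens.Comod.tpow c a) (ComodTens.Comod.tpowOne c)
        Finset.univ Finset.univ _ _ (fun J => et k r a J)
        (fun J => ∏ t, y (J t) (K t.castSucc)) (fun j => sE (Pi.single j 1))
        (fun j => y j (K (Fin.last a))) (ih _) (hw _)]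
    rw [map_sum]
    simp only [map_sum, LinearMap.rTensor_tmul]
    rw [← Fintype.sum_prod_type']
    symm
    refine Fintype.sum_equiv (snocE a r).symm _ _ fun J => ?_
    rw [et_succ, Fin.prod_univ_castSucc]
    rfl

/-- the basis of the tensor power given by the `et` -/
def etBasis (k : Type u) [CommRing k] (r a : ℕ) :
    Module.Basis (Fin a → Fin r) k (TensorPower k a (Fin r → k)) :=
  Basis.piTensorProduct (fun _ : Fin a => Pi.basisFun k (Fin r))

lemma etBasis_apply (a : ℕ) (K : Fin a → Fin r) : etBasis k r a K = et k r a K := by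
  unfold etBasis et
  rw [Basis.piTensorProduct_apply]
  simp only [Pi.basisFun_apply]

end TP

end Groth.Agent.H9.SchurW
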