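import Mathlib
import Groth.Prelude.Def_Hoch
import Groth.Prelude.Def_ComodTens
import Groth.Agent.Lib.Helper9.Misc.SchurWAct
import Groth.Agent.Lib.Helper9.Misc.SchurWTP
import Groth.Agent.Lib.Helper9.Misc.SchurWCore
import Groth.Agent.Lib.Helper9.Misc.SchurGAct

set_option autoImplicit false
set_option linter.unusedSectionVars false
set_option linter.unusedVariables false

open TensorProduct

noncomputable section

namespace Groth.Agent.H9.SchurW

universe u v w

section G3
variable {k : Type u} [Field k] {n a : ℕ} {N : Type v} [AddCommGroup N] [Module k N]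
  (bN : Module.Basis (Fin a → Fin n) k N)

/-- precomposition with the inverse of a permutation, on tuples -/
def compE (n a : ℕ) (σ : Equiv.Perm (Fin a)) : (Fin a → Fin n) ≃ (Fin a → Fin n) where
  toFun K := K ∘ σ.symm
  invFun K := K ∘ σ
  left_inv K := by funext t; simp
  right_inv K := by funext t; simp

/-- permutation operators on the tensor power -/
def permOp (σ : Equiv.Perm (Fin a)) : N →ₗ[k] N :=
  bN.constr k (fun K => bN (K ∘ σ.symm))

lemma permOp_apply (σ : Equiv.Perm (Fin a)) (K : Fin a → Fin n) :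
    permOp bN σ (bN K) = bN (K ∘ σ.symm) :=
  Module.Basis.constr_basis _ _ _ _

/-- the permutation representation of the symmetric group on the tensor power -/
def permRep : Representation k (Equiv.Perm (Fin a)) N where
  toFun := permOp bN
  map_one' := by
    apply bN.ext; intro K
    rw [permOp_apply]
    rfl
  map_mul' σ τ := by
    apply bN.ext; intro K
    show permOp bN (σ * τ) (bN K) = permOp bN σ (permOp bN τ (bN K))
    rw [permOp_apply, permOp_apply, permOp_apply]
    rfl

lemma permRep_apply (σ : Equiv.Perm (Fin a)) : permRep bN σ = permOp bN σ := rfl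

end G3

section G3b
variable {k : Type u} [Field k] {n a : ℕ} {A : Type v} [CommRing A] [Bialgebra k A]
  {N : Type w} [AddCommGroup N] [Module k N] (bN : Module.Basis (Fin a → Fin n) k N)

lemma act_comm_permOp (c : HopfRep.Comod k A (N))
    (cf : (Fin a → Fin n) → (Fin a → Fin n) → A)
    (hn : ∀ K, c.coact (bN K) = ∑ J, bN J ⊗ₜ[k] cf J K)
    (hcf : ∀ (σ : Equiv.Perm (Fin a)) J K, cf (J ∘ σ) (K ∘ σ) = cf J K)
    (φ : Module.Dual k A) (σ : Equiv.Perm (Fin a)) :
    act c φ ∘ₗ permOp bN σ = permOp bN σ ∘ₗ act c φ := by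
  apply (bN).ext; intro K
  rw [LinearMap.comp_apply, LinearMap.comp_apply, permOp_apply,
    act_basis c (bN) cf hn, act_basis c (bN) cf hn, map_sum]
  simp only [map_smul, permOp_apply]
  symm
  refine Fintype.sum_equiv (compE n a σ) _ _ fun J => ?_
  show _ = φ (cf (J ∘ σ.symm) (K ∘ σ.symm)) • bN (J ∘ σ.symm)
  rw [hcf]

lemma exists_act_eq [CharZero k] (c : HopfRep.Comod k A (N))
    (cf : (Fin a → Fin n) → (Fin a → Fin n) → A)
    (hn : ∀ K, c.coact (bN K) = ∑ J, bN J ⊗ₜ[k] cf J K)
    (ψ : (Fin a → Fin n) → (Fin a → Fin n) → Module.Dual k A)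
    (hψ : ∀ J K J' K', ψ J K (cf J' K') =
      ((a.factorial : ℕ) : k)⁻¹ * ((cnt (zp J' K') (zp J K) : ℕ) : k))
    (T : N →ₗ[k] N)
    (hT : ∀ σ, T ∘ₗ permOp bN σ = permOp bN σ ∘ₗ T) :
    ∃ φ : Module.Dual k A, act c φ = T := by
  classical
  let t : (Fin a → Fin n) → (Fin a → Fin n) → k :=
    fun J K => (bN).repr (T (bN K)) J
  have ht : ∀ K, T (bN K) = ∑ J, t J K • bN J :=
    fun K => ((bN).sum_repr _).symm
  have hinv : ∀ (σ : Equiv.Perm (Fin a)) J K, t (J ∘ σ) (K ∘ σ) = t J K := by
    intro σ J K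
    have h := LinearMap.congr_fun (hT σ) (bN (K ∘ σ))
    rw [LinearMap.comp_apply, LinearMap.comp_apply, permOp_apply] at h
    have hK : (K ∘ σ) ∘ σ.symm = K := by funext x; simp
    rw [hK] at h
    have e1 : ∑ J'', t J'' K • bN J'' = ∑ J'', t (J'' ∘ σ) (K ∘ σ) • bN J'' := by
      rw [← ht K, h, ht (K ∘ σ), map_sum]
      simp only [map_smul, permOp_apply]
      refine Fintype.sum_equiv (compE n a σ) _ _ fun J' => ?_
      show t J' (K ∘ σ) • bN (J' ∘ σ.symm) =
        t ((J' ∘ σ.symm) ∘ σ) (K ∘ σ) • bN (J' ∘ σ.symm)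
      have : (J' ∘ σ.symm) ∘ σ = J' := by funext x; simp
      rw [this]
    have e2 := congrArg (fun z => bN.repr z J) e1
    simp only [Module.Basis.repr_sum_self] at e2
    exact e2.symm
  have hfac : ((a.factorial : ℕ) : k) ≠ 0 := Nat.cast_ne_zero.2 (Nat.factorial_ne_zero a)
  refine ⟨∑ J, ∑ K, t J K • ψ J K, ?_⟩
  apply (bN).ext; intro K'
  rw [act_basis c (bN) cf hn, ht K']
  refine Finset.sum_congr rfl fun J' _ => ?_
  congr 1
  simp only [LinearMap.sum_apply, LinearMap.smul_apply, hψ, smul_eq_mul, cntk k]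
  have e3 : ∀ K, ∑ J, t J K *
      (∑ σ : Equiv.Perm (Fin a), if (J' ∘ σ = J ∧ K' ∘ σ = K) then (1 : k) else 0) =
      ∑ σ : Equiv.Perm (Fin a), if K' ∘ σ = K then t (J' ∘ σ) K else 0 :=
    fun K => SR k (fun J => t J K) J' (fun σ => K' ∘ σ = K)
  calc ∑ J, ∑ K, t J K * (((a.factorial : ℕ) : k)⁻¹ *
          ∑ σ : Equiv.Perm (Fin a), if (J' ∘ σ = J ∧ K' ∘ σ = K) then (1 : k) else 0)
      = ((a.factorial : ℕ) : k)⁻¹ * ∑ K, ∑ J, t J K *
          (∑ σ : Equiv.Perm (Fin a), if (J' ∘ σ = J ∧ K' ∘ σ = K) then (1 : k) else 0) := by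
        rw [Finset.sum_comm, Finset.mul_sum]
        refine Finset.sum_congr rfl fun K _ => ?_
        rw [Finset.mul_sum]
        refine Finset.sum_congr rfl fun J _ => ?_
        ring
    _ = ((a.factorial : ℕ) : k)⁻¹ * ∑ K, ∑ σ : Equiv.Perm (Fin a),
          if K' ∘ σ = K then t (J' ∘ σ) K else 0 := by
        simp only [e3]
    _ = ((a.factorial : ℕ) : k)⁻¹ * ∑ σ : Equiv.Perm (Fin a), t (J' ∘ σ) (K' ∘ σ) := by
        rw [Finset.sum_comm]
        congr 1
        refine Finset.sum_congr rfl fun σ _ => ?_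
        rw [Finset.sum_ite_eq]
        simp
    _ = ((a.factorial : ℕ) : k)⁻¹ * ∑ σ : Equiv.Perm (Fin a), t J' K' := by
        simp only [hinv]
    _ = t J' K' := by
        rw [Finset.sum_const, Finset.card_univ, Fintype.card_perm, Fintype.card_fin,
          nsmul_eq_mul, ← mul_assoc, inv_mul_cancel₀ hfac, one_mul]

set_option backward.isDefEq.respectTransparency false in
theorem exists_compl_pi [CharZero k] (c : HopfRep.Comod k A (N))
    (cf : (Fin a → Fin n) → (Fin a → Fin n) → A)
    (hn : ∀ K, c.coact (bN K) = ∑ J, bN J ⊗ₜ[k] cf J K)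
    (hcf : ∀ (σ : Equiv.Perm (Fin a)) J K, cf (J ∘ σ) (K ∘ σ) = cf J K)
    (ψ : (Fin a → Fin n) → (Fin a → Fin n) → Module.Dual k A)
    (hψ : ∀ J K J' K', ψ J K (cf J' K') =
      ((a.factorial : ℕ) : k)⁻¹ * ((cnt (zp J' K') (zp J K) : ℕ) : k))
    (b : ℕ) (U : Submodule k (Fin b → N))
    (hU : ActStable (ComodTens.Comod.pi fun _ : Fin b => c) U) :
    ∃ U' : Submodule k (Fin b → N),
      ActStable (ComodTens.Comod.pi fun _ : Fin b => c) U' ∧ IsCompl U U' := by
  classical
  let ρP : Representation k (Equiv.Perm (Fin a)) (N) := permRep bN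
  haveI : NeZero ((Nat.card (Equiv.Perm (Fin a)) : ℕ) : k) := ⟨by
    rw [Nat.card_eq_fintype_card, Fintype.card_perm, Fintype.card_fin]
    exact Nat.cast_ne_zero.2 (Nat.factorial_ne_zero a)⟩
  haveI : Module.Finite k (N) := Module.Finite.of_basis (bN)
  haveI : Module.Finite (MonoidAlgebra k (Equiv.Perm (Fin a))) ρP.asModule :=
    Module.Finite.of_restrictScalars_finite k _ _
  haveI : IsSemisimpleRing (Module.End (MonoidAlgebra k (Equiv.Perm (Fin a))) ρP.asModule) :=
    IsSemisimpleRing.moduleEnd _ _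
  let aE : ρP.asModule ≃ₗ[k] N := ρP.asModuleEquiv
  have hsm : ∀ (σ : Equiv.Perm (Fin a)) (y : ρP.asModule),
      aE (MonoidAlgebra.single σ (1 : k) • y) = permOp bN σ (aE y) := by
    intro σ y
    show ρP.asModuleEquiv (MonoidAlgebra.single σ (1 : k) • y) = _
    rw [Representation.asModuleEquiv_map_smul, Representation.asAlgebraHom_single_one]
    rfl
  have hR1 : ∀ T : Module.End (MonoidAlgebra k (Equiv.Perm (Fin a))) ρP.asModule,
      ∃ φ : Module.Dual k A, ∀ y : ρP.asModule, aE (T y) = act c φ (aE y) := by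
    intro T
    let Tk : N →ₗ[k] N :=
      aE.toLinearMap ∘ₗ (T.restrictScalars k) ∘ₗ aE.symm.toLinearMap
    have hTk : ∀ σ, Tk ∘ₗ permOp bN σ = permOp bN σ ∘ₗ Tk := by
      intro σ
      apply LinearMap.ext; intro x
      show aE (T (aE.symm (permOp bN σ x))) = permOp bN σ (aE (T (aE.symm x)))
      have h1 : aE.symm (permOp bN σ x) = MonoidAlgebra.single σ (1 : k) • aE.symm x := by
        apply aE.injective
        rw [hsm, LinearEquiv.apply_symm_apply, LinearEquiv.apply_symm_apply]
      rw [h1, map_smul, hsm]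
    obtain ⟨φ, hφ⟩ := exists_act_eq bN c cf hn ψ hψ Tk hTk
    refine ⟨φ, fun y => ?_⟩
    rw [hφ]
    show aE (T y) = aE (T (aE.symm (aE y)))
    rw [LinearEquiv.symm_apply_apply]
  have hR2 : ∀ φ : Module.Dual k A, ∃ T : Module.End (MonoidAlgebra k (Equiv.Perm (Fin a))) ρP.asModule,
      ∀ y : ρP.asModule, aE (T y) = act c φ (aE y) := by
    intro φ
    refine ⟨MonoidAlgebra.equivariantOfLinearOfComm
      (aE.symm.toLinearMap ∘ₗ act c φ ∘ₗ aE.toLinearMap) ?_, fun y => ?_⟩
    · intro σ y
      show aE.symm (act c φ (aE (MonoidAlgebra.single σ (1 : k) • y))) =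
        MonoidAlgebra.single σ (1 : k) • aE.symm (act c φ (aE y))
      apply aE.injective
      rw [LinearEquiv.apply_symm_apply, hsm σ y, hsm σ (aE.symm (act c φ (aE y))),
        LinearEquiv.apply_symm_apply]
      exact LinearMap.congr_fun (act_comm_permOp bN c cf hn hcf φ σ) (aE y)
    · show aE (aE.symm (act c φ (aE y))) = _
      rw [LinearEquiv.apply_symm_apply]
  have hR3 : ∀ s : k, ∃ T : Module.End (MonoidAlgebra k (Equiv.Perm (Fin a))) ρP.asModule,
      ∀ y : ρP.asModule, T y = s • y := by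
    intro s
    refine ⟨MonoidAlgebra.equivariantOfLinearOfComm (s • LinearMap.id) ?_, fun y => rfl⟩
    intro σ y
    show s • (MonoidAlgebra.single σ (1 : k) • y) = MonoidAlgebra.single σ (1 : k) • (s • y)
    exact (smul_algebra_smul_comm s (MonoidAlgebra.single σ (1 : k)) y).symm
  let e : (Fin b → ρP.asModule) ≃ₗ[k] (Fin b → N) :=
    LinearEquiv.piCongrRight (fun _ => aE)
  let UR : Submodule (Module.End (MonoidAlgebra k (Equiv.Perm (Fin a))) ρP.asModule) (Fin b → ρP.asModule) :=
    { carrier := {y | e y ∈ U}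
      add_mem' := by
        intro x y hx hy
        show e (x + y) ∈ U
        rw [map_add]
        exact U.add_mem hx hy
      zero_mem' := by
        show e 0 ∈ U
        rw [map_zero]
        exact U.zero_mem
      smul_mem' := by
        intro T y hy
        obtain ⟨φ, hφ⟩ := hR1 T
        show e (T • y) ∈ U
        have h1 : e (T • y) = act (ComodTens.Comod.pi fun _ : Fin b => c) φ (e y) := by
          rw [act_pi]
          funext i
          exact hφ (y i)
        rw [h1]
        exact hU φ _ hy }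
  obtain ⟨UR', hc⟩ := exists_isCompl UR
  let U' : Submodule k (Fin b → N) :=
    { carrier := {x | e.symm x ∈ UR'}
      add_mem' := by
        intro x y hx hy
        show e.symm (x + y) ∈ UR'
        rw [map_add]
        exact UR'.add_mem hx hy
      zero_mem' := by
        show e.symm 0 ∈ UR'
        rw [map_zero]
        exact UR'.zero_mem
      smul_mem' := by
        intro s x hx
        obtain ⟨T, hT⟩ := hR3 s
        show e.symm (s • x) ∈ UR'
        have h1 : e.symm (s • x) = T • e.symm x := by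
          rw [map_smul]
          funext i
          exact (hT _).symm
        rw [h1]
        exact UR'.smul_mem T hx }
  refine ⟨U', ?_, ?_⟩
  · intro φ x hx
    obtain ⟨T, hT⟩ := hR2 φ
    show e.symm (act (ComodTens.Comod.pi fun _ : Fin b => c) φ x) ∈ UR'
    have h1 : e.symm (act (ComodTens.Comod.pi fun _ : Fin b => c) φ x) = T • e.symm x := by
      apply e.injective
      rw [LinearEquiv.apply_symm_apply, act_pi]
      funext i
      have := hT (e.symm x i)
      show act c φ (x i) = aE (T (e.symm x i))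
      rw [this]
      show act c φ (x i) = act c φ (e (e.symm x) i)
      rw [LinearEquiv.apply_symm_apply]
    rw [h1]
    exact UR'.smul_mem T hx
  · constructor
    · rw [Submodule.disjoint_def]
      intro x hx hx'
      have h0 : e.symm x ∈ UR ⊓ UR' := by
        refine ⟨?_, hx'⟩
        show e (e.symm x) ∈ U
        rw [LinearEquiv.apply_symm_apply]
        exact hx
      rw [hc.inf_eq_bot, Submodule.mem_bot] at h0
      have := congrArg e h0
      rwa [LinearEquiv.apply_symm_apply, map_zero] at this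
    · rw [codisjoint_iff, Submodule.eq_top_iff']
      intro x
      have h0 : e.symm x ∈ UR ⊔ UR' := by
        rw [hc.sup_eq_top]
        exact Submodule.mem_top
      obtain ⟨y, hy, y', hy', hyy⟩ := Submodule.mem_sup.1 h0
      rw [Submodule.mem_sup]
      refine ⟨e y, hy, e y', ?_, ?_⟩
      · show e.symm (e y') ∈ UR'
        rw [LinearEquiv.symm_apply_apply]
        exact hy'
      · rw [← map_add, hyy, LinearEquiv.apply_symm_apply]

end G3b

end Groth.Agent.H9.SchurW
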