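import Mathlib
import Groth.Prelude.Def_Hoch
import Groth.Prelude.Def_ComodTens
import Groth.Prelude.Def_GLin5
import Groth.Agent.H4.GLnChar
import Groth.Agent.Lib.Helper9.Misc.SchurWAct
import Groth.Agent.Lib.Helper9.Misc.SchurWTP
import Groth.Agent.Lib.Helper9.Misc.SchurWCore

set_option autoImplicit false
set_option linter.unusedSectionVars false
set_option linter.unusedVariables false

open TensorProduct LaurentPolynomial

noncomputable section

namespace Groth.Agent.H9.SchurW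

universe u v w w'

section Gen
variable {k : Type u} [Field k] {A : Type v} [CommRing A] [Bialgebra k A]
variable {V : Type w} [AddCommGroup V] [Module k V] {W : Type w'} [AddCommGroup W] [Module k W]

lemma act_comp_eq (c : HopfRep.Comod k A V) {B : Type*} [AddCommGroup B] [Module k B]
    (χ : Module.Dual k B) (g : A →ₗ[k] B) (v : V) :
    act c (χ ∘ₗ g) v = TensorProduct.rid k V (χ.lTensor V (g.lTensor V (c.coact v))) := by
  show TensorProduct.rid k V ((χ ∘ₗ g).lTensor V (c.coact v)) = _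
  rw [LinearMap.lTensor_comp]
  rfl

lemma isHom_twist (c : HopfRep.Comod k A V) (d : HopfRep.Comod k A W) (g : A)
    (hg : IsGroupLikeElem k g) (f : V →ₗ[k] W) (hf : IsHom c d f) :
    IsHom (ComodTens.Comod.twist c g hg) (ComodTens.Comod.twist d g hg) f := by
  unfold IsHom at hf ⊢
  apply LinearMap.ext; intro v
  have := LinearMap.congr_fun hf v
  simp only [LinearMap.comp_apply] at this ⊢
  rw [ComodTens.twist_coact, ComodTens.twist_coact, this, ComodTens.lTensor_rTensor_comm]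

lemma twist_twist_coact (ρ : HopfRep.Comod k A V) (g g' : A) (hg : IsGroupLikeElem k g)
    (hg' : IsGroupLikeElem k g') (h : g * g' = 1) :
    (ComodTens.Comod.twist (ComodTens.Comod.twist ρ g hg) g' hg').coact = ρ.coact := by
  apply LinearMap.ext; intro v
  rw [ComodTens.twist_coact, ComodTens.twist_coact, ← LinearMap.comp_apply (LinearMap.lTensor V _),
    ← LinearMap.lTensor_comp]
  have : LinearMap.mulRight k g' ∘ₗ LinearMap.mulRight k g = LinearMap.id := by
    apply LinearMap.ext; intro x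
    simp only [LinearMap.comp_apply, LinearMap.mulRight_apply, LinearMap.id_apply, mul_assoc, h,
      mul_one]
  rw [this, LinearMap.lTensor_id, LinearMap.id_apply]

lemma sum_comp_cancel {P H : Type*} [AddCommGroup P] [Module k P] [AddCommGroup H] [Module k H]
    {ι : Type*} (s : Finset ι) (c : ι → k) (p : ι → (P →ₗ[k] k)) (π : H →ₗ[k] P) (τ : P →ₗ[k] H)
    (hπ : π ∘ₗ τ = LinearMap.id) :
    (∑ L ∈ s, c L • (p L ∘ₗ π)) ∘ₗ τ = ∑ L ∈ s, c L • p L := by
  apply LinearMap.ext; intro x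
  have hx : π (τ x) = x := LinearMap.congr_fun hπ x
  simp only [LinearMap.comp_apply, LinearMap.sum_apply, LinearMap.smul_apply, hx]

lemma sum_comp_cancel' {P H : Type*} [AddCommGroup P] [Module k P] [AddCommGroup H] [Module k H]
    {ι : Type*} (s : Finset ι) (p : ι → (P →ₗ[k] k)) (π : H →ₗ[k] P) (τ : P →ₗ[k] H)
    (hπ : π ∘ₗ τ = LinearMap.id) :
    (∑ L ∈ s, (p L ∘ₗ π)) ∘ₗ τ = ∑ L ∈ s, p L := by
  apply LinearMap.ext; intro x
  have hx : π (τ x) = x := LinearMap.congr_fun hπ x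
  simp only [LinearMap.comp_apply, LinearMap.sum_apply, hx]

end Gen

section Main
open CoordGrp
variable {k : Type u} [Field k] (r : ℕ)

lemma hdet : IsGroupLikeElem k (GLn.det : GLn r k) := ⟨GLn.counit_det, GLn.comul_det⟩
lemma hDinv : IsGroupLikeElem k (GLn.Dinv : GLn r k) := ⟨GLn.counit_Dinv, GLn.comul_Dinv⟩

lemma poly_range_aux (V : Type w) [AddCommGroup V] [Module k V] (x : V ⊗[k] GLn r k) :
    ∃ c0 : ℕ, ∀ c, c0 ≤ c → (LinearMap.mulRight k (GLn.det ^ c : GLn r k)).lTensor V x ∈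
      LinearMap.range ((tauL k r).lTensor V) := by
  induction x using TensorProduct.induction_on with
  | zero =>
    exact ⟨0, fun c _ => by rw [map_zero]; exact Submodule.zero_mem _⟩
  | tmul v χ =>
    obtain ⟨p, s, rfl⟩ := H4.GLnChar.exists_repr k r χ
    refine ⟨s, fun c hc => ⟨v ⊗ₜ[k] (p * H4.GLnChar.d0 k r ^ (c - s)), ?_⟩⟩
    rw [LinearMap.lTensor_tmul, LinearMap.lTensor_tmul, LinearMap.mulRight_apply, tauL_apply,
      map_mul, map_pow, H4.GLnChar.iota_d0]
    congr 1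
    obtain ⟨e, rfl⟩ := Nat.exists_eq_add_of_le hc
    rw [Nat.add_sub_cancel_left, pow_add, mul_assoc, ← mul_assoc (GLn.Dinv ^ s),
      mul_comm (GLn.Dinv ^ s) (GLn.det ^ s), H4.GLnChar.det_pow_mul_Dinv_pow, one_mul]
  | add x y hx hy =>
    obtain ⟨c1, h1⟩ := hx
    obtain ⟨c2, h2⟩ := hy
    exact ⟨max c1 c2, fun c hc => by
      rw [map_add]
      exact Submodule.add_mem _ (h1 c (le_trans (le_max_left _ _) hc))
        (h2 c (le_trans (le_max_right _ _) hc))⟩

lemma poly_range (V : Type w) [AddCommGroup V] [Module k V] [Module.Finite k V]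
    (ρ : HopfRep.Comod k (GLn r k) V) :
    ∃ c0 : ℕ, ∀ c, c0 ≤ c → ∀ v,
      (ComodTens.Comod.twist ρ (GLn.det ^ c) (hdet r).pow).coact v ∈
        LinearMap.range ((tauL k r).lTensor V) := by
  classical
  let bs := Module.finBasis k V
  choose c0 hc0 using fun i => poly_range_aux r V (ρ.coact (bs i))
  refine ⟨Finset.univ.sup c0, fun c hc v => ?_⟩
  have hsub : (⊤ : Submodule k V) ≤ Submodule.comap
      (ComodTens.Comod.twist ρ (GLn.det ^ c) (hdet r).pow).coact
      (LinearMap.range ((tauL k r).lTensor V)) := by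
    rw [← bs.span_eq, Submodule.span_le]
    rintro _ ⟨i, rfl⟩
    exact hc0 i c (le_trans (Finset.le_sup (Finset.mem_univ i)) hc)
  exact hsub Submodule.mem_top

lemma diag_det_pow (c : ℕ) :
    GLn.diag r k (fun _ => 1) (GLn.det ^ c) = T ((c : ℤ) * (r : ℤ)) := by
  rw [map_pow, GLn.diag_det, T_pow]
  congr 1
  simp

lemma diag_twist (V : Type w) [AddCommGroup V] [Module k V] (ρ : HopfRep.Comod k (GLn r k) V)
    (h : ℤ)
    (hh : @HopfRep.eigenspace k k[T;T⁻¹] _ _ _ V _ _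
      (GLin.comodAlong (GLn.diag r k (fun _ => 1)) ρ) (T h) = ⊤) (c : ℕ) (v : V) :
    (diagL k r).lTensor V ((ComodTens.Comod.twist ρ (GLn.det ^ c) (hdet r).pow).coact v) =
      v ⊗ₜ[k] T (h + (c : ℤ) * (r : ℤ)) := by
  have hv : v ∈ @HopfRep.eigenspace k k[T;T⁻¹] _ _ _ V _ _
      (GLin.comodAlong (GLn.diag r k (fun _ => 1)) ρ) (T h) := by
    rw [hh]; exact Submodule.mem_top
  have e1 : (diagL k r).lTensor V (ρ.coact v) = v ⊗ₜ[k] T h := hv
  have e2 : diagL k r ∘ₗ LinearMap.mulRight k (GLn.det ^ c : GLn r k) =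
      LinearMap.mulRight k (T ((c : ℤ) * (r : ℤ)) : k[T;T⁻¹]) ∘ₗ diagL k r := by
    apply LinearMap.ext; intro x
    simp only [LinearMap.comp_apply, LinearMap.mulRight_apply, diagL_apply, map_mul,
      diag_det_pow]
  rw [ComodTens.twist_coact, ← LinearMap.comp_apply (LinearMap.lTensor V _),
    ← LinearMap.lTensor_comp, e2, LinearMap.lTensor_comp, LinearMap.comp_apply, e1,
    LinearMap.lTensor_tmul, LinearMap.mulRight_apply, ← T_add]

theorem main_general [CharZero k] (hr : 0 < r) (V : Type w) [AddCommGroup V] [Module k V]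
    [Module.Finite k V] (ρ : HopfRep.Comod k (GLn r k) V) (h : ℤ)
    (hh : @HopfRep.eigenspace k k[T;T⁻¹] _ _ _ V _ _
      (GLin.comodAlong (GLn.diag r k (fun _ => 1)) ρ) (T h) = ⊤) :
    ∃ (a b c : ℕ), 0 < c ∧
      ∃ (i : V →ₗ[k] (Fin b → TensorPower k a (Fin r → k)))
        (p : (Fin b → TensorPower k a (Fin r → k)) →ₗ[k] V),
        p ∘ₗ i = LinearMap.id ∧
        @Hoch.IsComodHom k _ (GLn r k) _ _ _ V _ _ ρ (Fin b → TensorPower k a (Fin r → k)) _ _
          (ComodTens.Comod.twist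
            (ComodTens.Comod.pi fun _ : Fin b =>
              ComodTens.Comod.tpow (GLin.comodAlong (Mat.toGLn r k) (ComodTens.stdVec r k)) a)
            (GLn.Dinv ^ c) (IsGroupLikeElem.pow ⟨GLn.counit_Dinv, GLn.comul_Dinv⟩)) i ∧
        @Hoch.IsComodHom k _ (GLn r k) _ _ _ (Fin b → TensorPower k a (Fin r → k)) _ _
          (ComodTens.Comod.twist
            (ComodTens.Comod.pi fun _ : Fin b =>
              ComodTens.Comod.tpow (GLin.comodAlong (Mat.toGLn r k) (ComodTens.stdVec r k)) a)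
            (GLn.Dinv ^ c) (IsGroupLikeElem.pow ⟨GLn.counit_Dinv, GLn.comul_Dinv⟩)) V _ _ ρ p := by
  classical
  obtain ⟨c0, hc0⟩ := poly_range r V ρ
  obtain ⟨c, hc0c, hcpos, hnn⟩ : ∃ c : ℕ, c0 ≤ c ∧ 0 < c ∧ 0 ≤ h + (c : ℤ) * (r : ℤ) := by
    refine ⟨c0 + (-h).toNat + 1, by omega, by omega, ?_⟩
    have h1 : ((c0 + (-h).toNat + 1 : ℕ) : ℤ) ≤ ((c0 + (-h).toNat + 1 : ℕ) : ℤ) * (r : ℤ) :=
      le_mul_of_one_le_right (by positivity) (by exact_mod_cast hr)
    have h3 : -h ≤ ((-h).toNat : ℤ) := Int.self_le_toNat _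
    have h4 : (((-h).toNat : ℕ) : ℤ) + 1 ≤ ((c0 + (-h).toNat + 1 : ℕ) : ℤ) := by
      push_cast
      linarith [(Nat.cast_nonneg c0 : (0 : ℤ) ≤ (c0 : ℤ))]
    linarith
  obtain ⟨a, ha⟩ : ∃ a : ℕ, (a : ℤ) = h + (c : ℤ) * (r : ℤ) := ⟨_, Int.toNat_of_nonneg hnn⟩
  set ρ' : HopfRep.Comod k (GLn r k) V :=
    ComodTens.Comod.twist ρ (GLn.det ^ c) (hdet r).pow with hρ'
  have hτ : ∀ v, ρ'.coact v ∈ LinearMap.range ((tauL k r).lTensor V) := hc0 c hc0c
  obtain ⟨π, hπ⟩ := LinearMap.exists_leftInverse_of_injective (tauL k r)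
    (LinearMap.ker_eq_bot.2 (H4.GLnChar.iota_injective k r))
  set cstd : HopfRep.Comod k (GLn r k) (Fin r → k) :=
    GLin.comodAlong (Mat.toGLn r k) (ComodTens.stdVec r k) with hcstd
  have hcs : ∀ i, cstd.coact (Pi.single i 1) =
      ∑ j, (Pi.single j (1 : k) : Fin r → k) ⊗ₜ[k] (GLn.X j i : GLn r k) := by
    intro i
    rw [hcstd, GLin.comodAlong_coact, ComodTens.stdVec_coact_single, map_sum]
    refine Finset.sum_congr rfl fun j _ => ?_
    rw [TensorProduct.map_tmul, LinearMap.id_apply]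
    congr 1
    exact Mat.toGLn_X j i
  have hn : ∀ K, (ComodTens.Comod.tpow cstd a).coact (etBasis k r a K) =
      ∑ J, etBasis k r a J ⊗ₜ[k] xH k J K := by
    intro K
    simp only [etBasis_apply]
    exact tpow_coact cstd (fun j i => GLn.X j i) hcs a K
  let θ : (Fin a → Fin r) → (Fin a → Fin r) → (V →ₗ[k] V) :=
    fun J K => act ρ' (psi k (zp J K) ∘ₗ π)
  have h1 : ∑ K, θ K K = LinearMap.id := by
    show ∑ K, act ρ' (psi k (zp K K) ∘ₗ π) = LinearMap.id
    rw [← act_sum]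
    have e : act ρ' (∑ K : Fin a → Fin r, psi k (zp K K) ∘ₗ π) =
        act ρ' (cT k (a : ℤ) ∘ₗ diagL k r) :=
      act_congr ρ' (tauL k r) hτ _ _ (by
        rw [sum_comp_cancel' _ _ π (tauL k r) hπ, I1, LinearMap.comp_assoc])
    rw [e]
    apply LinearMap.ext; intro v
    rw [act_comp_eq, diag_twist r V ρ h hh c v, LinearMap.lTensor_tmul, TensorProduct.rid_tmul,
      cT_T, if_pos ha.symm, one_smul, LinearMap.id_apply]
  have h2 : ∀ (φ : Module.Dual k (GLn r k)) (J K : Fin a → Fin r),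
      act ρ' φ ∘ₗ θ J K = ∑ L, φ (xH k L J) • θ L K := by
    intro φ J K
    show act ρ' φ ∘ₗ act ρ' (psi k (zp J K) ∘ₗ π) =
      ∑ L, φ (xH k L J) • act ρ' (psi k (zp L K) ∘ₗ π)
    have e : ∑ L, φ (xH k L J) • act ρ' (psi k (zp L K) ∘ₗ π) =
        act ρ' (∑ L, φ (xH k L J) • (psi k (zp L K) ∘ₗ π)) := by
      rw [act_sum]
      refine Finset.sum_congr rfl fun L _ => ?_
      rw [act_smul]
    rw [e, ← act_conv]
    exact act_congr ρ' (tauL k r) hτ _ _ (by
      rw [I2 k π hπ φ J K, sum_comp_cancel _ _ _ π (tauL k r) hπ])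
  have h3 : ∀ (φ : Module.Dual k (GLn r k)) (J L : Fin a → Fin r),
      θ J L ∘ₗ act ρ' φ = ∑ K, φ (xH k L K) • θ J K := by
    intro φ J L
    show act ρ' (psi k (zp J L) ∘ₗ π) ∘ₗ act ρ' φ =
      ∑ K, φ (xH k L K) • act ρ' (psi k (zp J K) ∘ₗ π)
    have e : ∑ K, φ (xH k L K) • act ρ' (psi k (zp J K) ∘ₗ π) =
        act ρ' (∑ K, φ (xH k L K) • (psi k (zp J K) ∘ₗ π)) := by
      rw [act_sum]
      refine Finset.sum_congr rfl fun K _ => ?_
      rw [act_smul]
    rw [e, ← act_conv]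
    exact act_congr ρ' (tauL k r) hτ _ _ (by
      rw [I3 k π hπ φ J L, sum_comp_cancel _ _ _ π (tauL k r) hπ])
  obtain ⟨b, i, p, hpi, hi, hp⟩ := retract ρ' (ComodTens.Comod.tpow cstd a) (etBasis k r a)
    (fun J K => xH k J K) hn θ h1 h2 h3
  have hco : (ComodTens.Comod.twist ρ' (GLn.Dinv ^ c) (hDinv r).pow).coact = ρ.coact :=
    twist_twist_coact ρ (GLn.det ^ c) (GLn.Dinv ^ c) (hdet r).pow (hDinv r).pow
      (H4.GLnChar.det_pow_mul_Dinv_pow k r c)
  refine ⟨a, b, c, hcpos, i, p, hpi, ?_, ?_⟩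
  · have h' := isHom_twist ρ' _ (GLn.Dinv ^ c) (hDinv r).pow i hi
    refine (isHom_iff _ _ _).1 ?_
    unfold IsHom at h' ⊢
    rw [hco] at h'
    exact h'
  · have h' := isHom_twist _ ρ' (GLn.Dinv ^ c) (hDinv r).pow p hp
    refine (isHom_iff _ _ _).1 ?_
    unfold IsHom at h' ⊢
    rw [hco] at h'
    exact h'

end Main

end Groth.Agent.H9.SchurW
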