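import Mathlib
import Groth.Prelude.Def_Hoch
import Groth.Prelude.Def_HopfRep
import Groth.Prelude.Def_ComodTens
import Groth.Prelude.Def_GLin5
import Groth.Agent.H4.GLnChar
import Groth.Agent.Lib.Helper9.Misc.SchurWAct
import Groth.Agent.Lib.Helper9.Misc.SchurWTP
import Groth.Agent.Lib.Helper9.Misc.SchurWCore
import Groth.Agent.Lib.Helper9.Misc.SchurWMain
import Groth.Agent.Lib.Helper9.Misc.SchurGAct
import Groth.Agent.Lib.Helper9.Misc.SchurGCore
import Groth.Agent.Lib.Helper9.Misc.SchurGSemi
import Groth.Agent.Lib.Helper9.Misc.SchurGMain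

set_option autoImplicit false
set_option linter.unusedSectionVars false
set_option linter.unusedVariables false

open TensorProduct

noncomputable section

namespace Groth.Agent.H9.SchurW

universe u v w

section Deg
variable (k : Type u) [Field k] {n : ℕ}

lemma monomial_mem_PS {S : Finset ℕ} (u : Fin n × Fin n →₀ ℕ) (c : k)
    (hu : Finsupp.degree u ∈ S) : MvPolynomial.monomial u c ∈ PS k n S := by
  obtain ⟨a, g, hg⟩ := exists_tuple u
  have ha : a ∈ S := by
    have := degree_mon g
    rw [hg] at this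
    rwa [← this]
  have e : MvPolynomial.monomial u c = c • xm k g := by
    rw [xm_eq, hg, MvPolynomial.smul_monomial, smul_eq_mul, mul_one]
  rw [e]
  exact Submodule.smul_mem _ _ (xm_mem_PS k ha g)

lemma PS_mono {S S' : Finset ℕ} (h : S ⊆ S') : PS k n S ≤ PS k n S' := by
  apply Submodule.span_mono
  rintro p ⟨a, ha, g, rfl⟩
  exact ⟨a, h ha, g, rfl⟩

lemma exists_deg (p : PP k n) : ∃ D0 : ℕ, ∀ D, D0 ≤ D → p ∈ PS k n (Finset.range (D + 1)) := by
  induction p using MvPolynomial.induction_on' with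
  | monomial u c =>
    exact ⟨Finsupp.degree u, fun D hD => monomial_mem_PS k u c (Finset.mem_range.2 (by omega))⟩
  | add p q hp hq =>
    obtain ⟨D1, h1⟩ := hp
    obtain ⟨D2, h2⟩ := hq
    exact ⟨max D1 D2, fun D hD => Submodule.add_mem _ (h1 D (le_trans (le_max_left _ _) hD))
      (h2 D (le_trans (le_max_right _ _) hD))⟩

lemma tensor_deg (V : Type w) [AddCommGroup V] [Module k V] (y : V ⊗[k] PP k n) :
    ∃ D0 : ℕ, ∀ D, D0 ≤ D →
      y ∈ LinearMap.range ((PS k n (Finset.range (D + 1))).subtype.lTensor V) := by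
  induction y using TensorProduct.induction_on with
  | zero => exact ⟨0, fun D _ => Submodule.zero_mem _⟩
  | tmul v p =>
    obtain ⟨D0, h⟩ := exists_deg k p
    exact ⟨D0, fun D hD => ⟨v ⊗ₜ[k] ⟨p, h D hD⟩, by rw [LinearMap.lTensor_tmul]; rfl⟩⟩
  | add y z hy hz =>
    obtain ⟨D1, h1⟩ := hy
    obtain ⟨D2, h2⟩ := hz
    exact ⟨max D1 D2, fun D hD => Submodule.add_mem _ (h1 D (le_trans (le_max_left _ _) hD))
      (h2 D (le_trans (le_max_right _ _) hD))⟩

end Deg

section Gen
variable (k : Type u) [Field k] {A : Type v} [CommRing A] [Bialgebra k A] {n : ℕ}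
  (x : Fin n → Fin n → A)

lemma range_deg (V : Type w) [AddCommGroup V] [Module k V] (z : V ⊗[k] A)
    (hz : z ∈ LinearMap.range ((tauA k x).toLinearMap.lTensor V)) :
    ∃ D0 : ℕ, ∀ D, D0 ≤ D →
      z ∈ LinearMap.range ((tauS k x (Finset.range (D + 1))).lTensor V) := by
  obtain ⟨y, rfl⟩ := hz
  obtain ⟨D0, h⟩ := tensor_deg k V y
  refine ⟨D0, fun D hD => ?_⟩
  obtain ⟨y', hy'⟩ := h D hD
  refine ⟨y', ?_⟩
  rw [← hy']
  show (((tauA k x).toLinearMap ∘ₗ (PS k n _).subtype).lTensor V) y' = _
  rw [LinearMap.lTensor_comp, LinearMap.comp_apply]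

lemma range_deg_unif (V : Type w) [AddCommGroup V] [Module k V] [Module.Finite k V]
    (c : HopfRep.Comod k A V)
    (hτ : ∀ v, c.coact v ∈ LinearMap.range ((tauA k x).toLinearMap.lTensor V)) :
    ∃ D : ℕ, ∀ v, c.coact v ∈ LinearMap.range ((tauS k x (Finset.range (D + 1))).lTensor V) := by
  classical
  let bs := Module.finBasis k V
  choose D0 hD0 using fun i => range_deg k x V (c.coact (bs i)) (hτ (bs i))
  refine ⟨Finset.univ.sup D0, fun v => ?_⟩
  have hsub : (⊤ : Submodule k V) ≤ Submodule.comap c.coact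
      (LinearMap.range ((tauS k x (Finset.range (Finset.univ.sup D0 + 1))).lTensor V)) := by
    rw [← bs.span_eq, Submodule.span_le]
    rintro _ ⟨i, rfl⟩
    exact hD0 i _ (Finset.le_sup (Finset.mem_univ i))
  exact hsub Submodule.mem_top

variable {k}
variable {V : Type w} [AddCommGroup V] [Module k V]

lemma act_twist (c : HopfRep.Comod k A V) (g : A) (hg : IsGroupLikeElem k g)
    (φ : Module.Dual k A) :
    act (ComodTens.Comod.twist c g hg) φ = act c (φ ∘ₗ LinearMap.mulRight k g) := by
  apply LinearMap.ext; intro v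
  rw [act_apply, act_apply, ComodTens.twist_coact]
  show (TensorProduct.rid k V) (φ.lTensor V ((LinearMap.mulRight k g).lTensor V (c.coact v))) =
    (TensorProduct.rid k V) ((φ ∘ₗ LinearMap.mulRight k g).lTensor V (c.coact v))
  rw [LinearMap.lTensor_comp, LinearMap.comp_apply]

lemma actStable_twist_iff (c : HopfRep.Comod k A V) (g g' : A) (hg : IsGroupLikeElem k g)
    (h : g * g' = 1) (U : Submodule k V) :
    ActStable (ComodTens.Comod.twist c g hg) U ↔ ActStable c U := by
  constructor
  · intro hU φ u hu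
    have e : act c φ = act (ComodTens.Comod.twist c g hg) (φ ∘ₗ LinearMap.mulRight k g') := by
      rw [act_twist, LinearMap.comp_assoc]
      have : LinearMap.mulRight k g' ∘ₗ LinearMap.mulRight k g = LinearMap.id := by
        apply LinearMap.ext; intro y
        simp only [LinearMap.comp_apply, LinearMap.mulRight_apply, LinearMap.id_apply, mul_assoc, h,
          mul_one]
      rw [this, LinearMap.comp_id]
    rw [e]
    exact hU _ u hu
  · intro hU φ u hu
    rw [act_twist]
    exact hU _ u hu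

end Gen

section GLmain
open CoordGrp
variable (k : Type u) [Field k] (n : ℕ)

lemma gl_inj (S : Finset ℕ) :
    Function.Injective (tauS k (fun i j => (GLn.X i j : GLn n k)) S) := by
  intro p q h
  apply Subtype.ext
  exact H4.GLnChar.iota_injective k n h

theorem gl_linred [CharZero k] : HopfRep.IsLinearlyReductive k (GLn n k) := by
  classical
  intro V _ _ ρ hfin W hW
  haveI := hfin
  obtain ⟨c0, hc0⟩ := poly_range n V ρ
  have hτ0 : ∀ v, (ComodTens.Comod.twist ρ (GLn.det ^ c0) (hdet n).pow).coact v ∈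
      LinearMap.range ((tauA k (fun i j => (GLn.X i j : GLn n k))).toLinearMap.lTensor V) :=
    hc0 c0 le_rfl
  set cstd : HopfRep.Comod k (GLn n k) (Fin n → k) :=
    GLin.comodAlong (Mat.toGLn n k) (ComodTens.stdVec n k) with hcstd
  have hcs : ∀ i, cstd.coact (Pi.single i 1) =
      ∑ j, (Pi.single j (1 : k) : Fin n → k) ⊗ₜ[k] (GLn.X j i : GLn n k) := by
    intro i
    rw [hcstd, GLin.comodAlong_coact, ComodTens.stdVec_coact_single, map_sum]
    refine Finset.sum_congr rfl fun j _ => ?_
    rw [TensorProduct.map_tmul, LinearMap.id_apply]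
    congr 1
    exact Mat.toGLn_X j i
  obtain ⟨D, hD⟩ := range_deg_unif k (fun i j => (GLn.X i j : GLn n k)) V _ hτ0
  have hWst : ActStable (ComodTens.Comod.twist ρ (GLn.det ^ c0) (hdet n).pow) W :=
    (actStable_twist_iff ρ _ _ (hdet n).pow (H4.GLnChar.det_pow_mul_Dinv_pow k n c0) W).2
      (actStable_of_isSubcomod ρ W hW)
  obtain ⟨W', hW', hc⟩ := semisimple_of_poly (fun i j => (GLn.X i j : GLn n k))
    (fun i j => GLn.comul_X i j) (fun i j => GLn.counit_X i j) cstd hcs (Finset.range (D + 1))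
    (gl_inj k n _) _ hD W hWst
  exact ⟨W', isSubcomod_of_actStable ρ W'
    ((actStable_twist_iff ρ _ _ (hdet n).pow (H4.GLnChar.det_pow_mul_Dinv_pow k n c0) W').1 hW'),
    hc⟩

end GLmain

end Groth.Agent.H9.SchurW
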