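import Mathlib
import Groth.Prelude.Def_Hoch
import Groth.Prelude.Def_HopfRep
import Groth.Prelude.Def_ComodTens
import Groth.Prelude.Def_GLin5
import Groth.Agent.H4.GLnChar
import Groth.Agent.Lib.Helper9.Misc.SchurWAct
import Groth.Agent.Lib.Helper9.Misc.SchurWTP
import Groth.Agent.Lib.Helper9.Misc.SchurWCore
import Groth.Agent.Lib.Helper9.Misc.SchurWMain
import Groth.Agent.Lib.Helper9.Misc.SchurGAct
import Groth.Agent.Lib.Helper9.Misc.SchurGCore
import Groth.Agent.Lib.Helper9.Misc.SchurGSemi
import Groth.Agent.Lib.Helper9.Misc.SchurGMain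
import Groth.Agent.Lib.Helper9.Misc.SchurGGL

set_option autoImplicit false
set_option linter.unusedSectionVars false
set_option linter.unusedVariables false

open TensorProduct

noncomputable section

namespace Groth.Agent.H9.SchurW

universe u v w

section Hc
variable {k : Type u} [Field k] {σ : Type*}
open MvPolynomial

lemma hc_mul_add (d g : MvPolynomial σ k) {m : ℕ} (hd : d.IsHomogeneous m) (j : ℕ) :
    homogeneousComponent (j + m) (d * g) = d * homogeneousComponent j g := by
  classical
  have h1 : ∀ i, homogeneousComponent (j + m) (d * homogeneousComponent i g) =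
      if i = j then d * homogeneousComponent j g else 0 := by
    intro i
    rw [homogeneousComponent_of_mem (hd.mul (homogeneousComponent_isHomogeneous i g))]
    by_cases hij : i = j
    · subst hij
      rw [if_pos (by omega), if_pos rfl]
    · rw [if_neg (by omega), if_neg hij]
  conv_lhs => rw [← sum_homogeneousComponent g]
  rw [Finset.mul_sum, map_sum]
  simp only [h1]
  rw [Finset.sum_ite_eq']
  split_ifs with hj
  · rfl
  · rw [Finset.mem_range, not_lt] at hj
    rw [homogeneousComponent_eq_zero j g (by omega), mul_zero]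

lemma hc_mul_lt (d g : MvPolynomial σ k) {m : ℕ} (hd : d.IsHomogeneous m) (j : ℕ) (hj : j < m) :
    homogeneousComponent j (d * g) = 0 := by
  classical
  have h1 : ∀ i, homogeneousComponent j (d * homogeneousComponent i g) = 0 := by
    intro i
    rw [homogeneousComponent_of_mem (hd.mul (homogeneousComponent_isHomogeneous i g)),
      if_neg (by omega)]
  conv_lhs => rw [← sum_homogeneousComponent g]
  rw [Finset.mul_sum, map_sum]
  simp only [h1, Finset.sum_const_zero]

end Hc

section PSdeg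
variable (k : Type u) [Field k] {n : ℕ}
open MvPolynomial

lemma xm_isHomogeneous {a : ℕ} (g : Fin a → Fin n × Fin n) : (xm k g).IsHomogeneous a := by
  rw [xm_eq]
  exact isHomogeneous_monomial _ (degree_mon g)

lemma homog_mem_PS {S : Finset ℕ} {j : ℕ} (hj : j ∈ S) (q : PP k n) (hq : q.IsHomogeneous j) :
    q ∈ PS k n S := by
  rw [← support_sum_monomial_coeff q]
  refine Submodule.sum_mem _ fun d hd => ?_
  apply monomial_mem_PS
  by_contra hne
  have : Finsupp.degree d ≠ j := fun h => hne (h ▸ hj)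
  exact (mem_support_iff.1 hd) (hq.coeff_eq_zero this)

lemma mem_PS_iff {S : Finset ℕ} (p : PP k n) :
    p ∈ PS k n S ↔ ∀ j, j ∉ S → homogeneousComponent j p = 0 := by
  constructor
  · intro hp j hj
    induction hp using Submodule.span_induction with
    | mem p hp =>
      obtain ⟨a, ha, g, rfl⟩ := hp
      rw [homogeneousComponent_of_mem (xm_isHomogeneous k g), if_neg]
      rintro rfl
      exact hj ha
    | zero => rw [map_zero]
    | add p q _ _ hp hq => rw [map_add, hp, hq, add_zero]
    | smul c p _ hp => rw [map_smul, hp, smul_zero]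
  · intro h
    rw [← sum_homogeneousComponent p]
    refine Submodule.sum_mem _ fun i _ => ?_
    by_cases hi : i ∈ S
    · exact homog_mem_PS k hi _ (homogeneousComponent_isHomogeneous i p)
    · rw [h i hi]
      exact Submodule.zero_mem _

lemma d0_isHomogeneous : (H4.GLnChar.d0 k n).IsHomogeneous n := by
  classical
  unfold H4.GLnChar.d0
  rw [Matrix.det_apply]
  apply IsHomogeneous.sum
  intro σ _
  have h1 : (∏ i, H4.GLnChar.M0 k n (σ i) i).IsHomogeneous n := by
    have := IsHomogeneous.prod Finset.univ (fun i => H4.GLnChar.M0 k n (σ i) i) (fun _ => 1)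
      (fun i _ => isHomogeneous_X k (σ i, i))
    simpa using this
  rcases Int.units_eq_one_or (Equiv.Perm.sign σ) with h | h
  · rw [h, one_smul]
    exact h1
  · rw [h, Units.neg_smul, one_smul]
    exact h1.neg

end PSdeg

section SL
open CoordGrp
variable (k : Type u) [Field k] (n : ℕ)

/-- the coordinates on `SL_n` -/
def xS : Fin n → Fin n → SLn n k := fun i j => SLn.X i j

lemma tauA_sl (p : PP k n) : tauA k (xS k n) p = SLn.mk n k (H4.GLnChar.iota k n p) := by
  have : tauA k (xS k n) = (SLn.mk n k).comp (H4.GLnChar.iota k n) := by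
    apply MvPolynomial.algHom_ext
    intro q
    unfold tauA H4.GLnChar.iota
    rw [MvPolynomial.aeval_X, AlgHom.comp_apply, MvPolynomial.aeval_X]
    rfl
  rw [this]
  rfl

lemma mk_Dinv : SLn.mk n k (GLn.Dinv : GLn n k) = 1 := by
  have h := congrArg (SLn.mk n k) (GLn.det_mul_Dinv : (GLn.det : GLn n k) * GLn.Dinv = 1)
  rw [map_mul, map_one, SLn.det_eq_one, one_mul] at h
  exact h

lemma tauA_sl_surj : Function.Surjective (tauA k (xS k n)) := by
  intro ξ
  have hs : Function.Surjective (SLn.mk n k) := Ideal.Quotient.mkₐ_surjective k (GLn.slIdeal n k)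
  obtain ⟨χ, rfl⟩ := hs ξ
  obtain ⟨a, s, rfl⟩ := H4.GLnChar.exists_repr k n χ
  refine ⟨a, ?_⟩
  rw [tauA_sl, map_mul, map_pow, mk_Dinv, one_pow, mul_one]

lemma tauA_sl_d0 : tauA k (xS k n) (H4.GLnChar.d0 k n) = 1 := by
  rw [tauA_sl, H4.GLnChar.iota_d0, SLn.det_eq_one]

lemma sl_ker (p : PP k n) (hp : tauA k (xS k n) p = 0) : (H4.GLnChar.d0 k n - 1) ∣ p := by
  rw [tauA_sl] at hp
  have hp' : Ideal.Quotient.mk (GLn.slIdeal n k) (H4.GLnChar.iota k n p) = 0 := hp
  have hmem : H4.GLnChar.iota k n p ∈ Ideal.span {GLn.slRel n k} :=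
    Ideal.Quotient.eq_zero_iff_mem.1 hp'
  obtain ⟨χ, hχ⟩ := Ideal.mem_span_singleton'.1 hmem
  obtain ⟨a, s, rfl⟩ := H4.GLnChar.exists_repr k n χ
  have hd := H4.GLnChar.det_pow_mul_Dinv_pow k n s
  have e1 : H4.GLnChar.iota k n (p * H4.GLnChar.d0 k n ^ s) =
      H4.GLnChar.iota k n (a * (H4.GLnChar.d0 k n - 1)) := by
    rw [map_mul, map_pow, H4.GLnChar.iota_d0, ← hχ, map_mul, map_sub, map_one,
      H4.GLnChar.iota_d0]
    unfold GLn.slRel
    linear_combination (H4.GLnChar.iota k n a * (GLn.det - 1)) * hd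
  have e2 := H4.GLnChar.iota_injective k n e1
  have h3 : (H4.GLnChar.d0 k n - 1) ∣ H4.GLnChar.d0 k n ^ s - 1 := by
    have := sub_dvd_pow_sub_pow (H4.GLnChar.d0 k n) 1 s
    rwa [one_pow] at this
  have h4 : (H4.GLnChar.d0 k n - 1) ∣ p * H4.GLnChar.d0 k n ^ s := ⟨a, by rw [e2, mul_comm]⟩
  have h5 := dvd_sub h4 (Dvd.dvd.mul_left h3 p)
  have e3 : p * H4.GLnChar.d0 k n ^ s - p * (H4.GLnChar.d0 k n ^ s - 1) = p := by ring
  rwa [e3] at h5

lemma sl_spread (hn : 0 < n) (a : ℕ) (g : PP k n)
    (h : (H4.GLnChar.d0 k n - 1) * g ∈ PS k n (Finset.Ico a (a + n))) : g = 0 := by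
  classical
  set d := H4.GLnChar.d0 k n with hd
  have hdh : d.IsHomogeneous n := d0_isHomogeneous k
  have hd0 : d ≠ 0 := H4.GLnChar.d0_ne_zero k n
  have hp := (mem_PS_iff k _).1 h
  have key : ∀ j, j ∉ Finset.Ico a (a + n) →
      MvPolynomial.homogeneousComponent j (d * g) = MvPolynomial.homogeneousComponent j g := by
    intro j hj
    have := hp j hj
    rw [sub_mul, one_mul, map_sub, sub_eq_zero] at this
    exact this
  have hA : ∀ j, j < a → MvPolynomial.homogeneousComponent j g = 0 := by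
    intro j
    induction j using Nat.strong_induction_on with
    | _ j ih =>
      intro hja
      have hj : j ∉ Finset.Ico a (a + n) := by
        rw [Finset.mem_Ico]; omega
      rw [← key j hj]
      by_cases hjn : j < n
      · exact hc_mul_lt d g hdh j hjn
      · obtain ⟨i, rfl⟩ : ∃ i, j = i + n := ⟨j - n, by omega⟩
        rw [hc_mul_add d g hdh i, ih i (by omega) (by omega), mul_zero]
  have hB : ∀ t j, a ≤ j → g.totalDegree + 1 ≤ j + t →
      MvPolynomial.homogeneousComponent j g = 0 := by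
    intro t
    induction t with
    | zero =>
      intro j _ hj
      exact MvPolynomial.homogeneousComponent_eq_zero _ _ (by omega)
    | succ t ih =>
      intro j hja hj
      have h1 : MvPolynomial.homogeneousComponent (j + n) g = 0 :=
        ih (j + n) (by omega) (by omega)
      have hj' : j + n ∉ Finset.Ico a (a + n) := by
        rw [Finset.mem_Ico]; omega
      have h2 := key (j + n) hj'
      rw [hc_mul_add d g hdh j, h1] at h2
      rcases mul_eq_zero.1 h2 with h3 | h3
      · exact absurd h3 hd0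
      · exact h3
  have hall : ∀ j, MvPolynomial.homogeneousComponent j g = 0 := by
    intro j
    by_cases hja : j < a
    · exact hA j hja
    · exact hB (g.totalDegree + 1) j (by omega) (by omega)
  rw [← MvPolynomial.sum_homogeneousComponent g]
  exact Finset.sum_eq_zero fun i _ => hall i

lemma sl_inj (hn : 0 < n) (a : ℕ) :
    Function.Injective (tauS k (xS k n) (Finset.Ico a (a + n))) := by
  rw [← LinearMap.ker_eq_bot, LinearMap.ker_eq_bot']
  rintro ⟨p, hp⟩ h0
  have h0' : tauA k (xS k n) p = 0 := h0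
  obtain ⟨g, rfl⟩ := sl_ker k n p h0'
  have hg := sl_spread k n hn a g hp
  apply Subtype.ext
  show (H4.GLnChar.d0 k n - 1) * g = 0
  rw [hg, mul_zero]

lemma sl_shift (hn : 0 < n) (a : ℕ) (p : PP k n) (hp : p ∈ PS k n (Finset.range (a + 1))) :
    ∃ p' ∈ PS k n (Finset.Ico a (a + n)), tauA k (xS k n) p' = tauA k (xS k n) p := by
  induction hp using Submodule.span_induction with
  | mem p hp =>
    obtain ⟨j, hj, g, rfl⟩ := hp
    rw [Finset.mem_range] at hj
    obtain ⟨m, hm1, hm2⟩ : ∃ m, a ≤ j + n * m ∧ j + n * m < a + n := by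
      have h1 := Nat.div_add_mod (a - j + n - 1) n
      have h2 := Nat.mod_lt (a - j + n - 1) hn
      refine ⟨(a - j + n - 1) / n, ?_, ?_⟩ <;> omega
    refine ⟨H4.GLnChar.d0 k n ^ m * xm k g, ?_, ?_⟩
    · refine homog_mem_PS k (j := n * m + j) (Finset.mem_Ico.2 ⟨by omega, by omega⟩) _ ?_
      exact ((d0_isHomogeneous k).pow m).mul (xm_isHomogeneous k g)
    · rw [map_mul, map_pow, tauA_sl_d0, one_pow, one_mul]
  | zero => exact ⟨0, Submodule.zero_mem _, rfl⟩
  | add p q _ _ hp hq =>
    obtain ⟨p', hp', ep⟩ := hp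
    obtain ⟨q', hq', eq⟩ := hq
    exact ⟨p' + q', Submodule.add_mem _ hp' hq', by rw [map_add, map_add, ep, eq]⟩
  | smul c p _ hp =>
    obtain ⟨p', hp', ep⟩ := hp
    exact ⟨c • p', Submodule.smul_mem _ _ hp', by rw [map_smul, map_smul, ep]⟩

lemma sl_tensor_shift (hn : 0 < n) (a : ℕ) (V : Type w) [AddCommGroup V] [Module k V]
    (y : V ⊗[k] PS k n (Finset.range (a + 1))) :
    ∃ y' : V ⊗[k] PS k n (Finset.Ico a (a + n)),
      (tauS k (xS k n) (Finset.Ico a (a + n))).lTensor V y' =
        (tauS k (xS k n) (Finset.range (a + 1))).lTensor V y := by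
  induction y using TensorProduct.induction_on with
  | zero => exact ⟨0, by rw [map_zero, map_zero]⟩
  | tmul v p =>
    obtain ⟨p', hp', e⟩ := sl_shift k n hn a p.1 p.2
    refine ⟨v ⊗ₜ[k] ⟨p', hp'⟩, ?_⟩
    rw [LinearMap.lTensor_tmul, LinearMap.lTensor_tmul]
    show v ⊗ₜ[k] tauA k (xS k n) p' = v ⊗ₜ[k] tauA k (xS k n) (p : PP k n)
    rw [e]
  | add y z hy hz =>
    obtain ⟨y', ey⟩ := hy
    obtain ⟨z', ez⟩ := hz
    exact ⟨y' + z', by rw [map_add, map_add, ey, ez]⟩

theorem sl_linred [CharZero k] : HopfRep.IsLinearlyReductive k (SLn n k) := by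
  classical
  intro V _ _ ρ hfin W hW
  haveI := hfin
  have hx : ∀ i j, CoalgebraStruct.comul (R := k) (xS k n i j) =
      ∑ l, xS k n i l ⊗ₜ[k] xS k n l j := by
    intro i j
    have h := CoalgHomClass.map_comp_comul_apply (SLn.mkHom n k) (GLn.X i j : GLn n k)
    rw [GLn.comul_X, map_sum] at h
    rw [show xS k n i j = SLn.mkHom n k (GLn.X i j) from rfl, ← h]
    refine Finset.sum_congr rfl fun l _ => ?_
    rw [TensorProduct.map_tmul]
    rfl
  have hε : ∀ i j, CoalgebraStruct.counit (R := k) (xS k n i j) =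
      if i = j then (1 : k) else 0 := by
    intro i j
    rw [show xS k n i j = SLn.mkHom n k (GLn.X i j) from rfl, CoalgHomClass.counit_comp_apply,
      GLn.counit_X]
  set cstd : HopfRep.Comod k (SLn n k) (Fin n → k) :=
    GLin.comodAlong ((SLn.mkHom n k).comp (Mat.toGLn n k)) (ComodTens.stdVec n k) with hcstd
  have hcs : ∀ i, cstd.coact (Pi.single i 1) =
      ∑ j, (Pi.single j (1 : k) : Fin n → k) ⊗ₜ[k] xS k n j i := by
    intro i
    rw [hcstd, GLin.comodAlong_coact, ComodTens.stdVec_coact_single, map_sum]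
    refine Finset.sum_congr rfl fun j _ => ?_
    rw [TensorProduct.map_tmul, LinearMap.id_apply]
    congr 1
    show SLn.mkHom n k (Mat.toGLn n k (Mat.X j i)) = SLn.X j i
    rw [Mat.toGLn_X]
    rfl
  have hτ0 : ∀ v, ρ.coact v ∈
      LinearMap.range ((tauA k (xS k n)).toLinearMap.lTensor V) := by
    intro v
    exact LinearMap.mem_range.2 (LinearMap.lTensor_surjective V
      (g := (tauA k (xS k n)).toLinearMap) (tauA_sl_surj k n) (ρ.coact v))
  rcases Nat.eq_zero_or_pos n with h0 | hn
  · subst h0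
    have hS : ∀ p : PP k 0, p ∈ PS k 0 {0} := by
      intro p
      rw [mem_PS_iff]
      intro j hj
      rw [MvPolynomial.homogeneousComponent_of_mem (MvPolynomial.isHomogeneous_of_isEmpty _ _ p),
        if_neg]
      rintro rfl
      exact hj (Finset.mem_singleton_self 0)
    have hτ : ∀ v, ρ.coact v ∈ LinearMap.range ((tauS k (xS k 0) {0}).lTensor V) := by
      intro v
      have hs : Function.Surjective (tauS k (xS k 0) {0}) := by
        intro ξ
        obtain ⟨p, rfl⟩ := tauA_sl_surj k 0 ξ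
        exact ⟨⟨p, hS p⟩, rfl⟩
      exact LinearMap.mem_range.2 (LinearMap.lTensor_surjective V hs (ρ.coact v))
    have hinj : Function.Injective (tauS k (xS k 0) {0}) := by
      rw [← LinearMap.ker_eq_bot, LinearMap.ker_eq_bot']
      rintro ⟨p, hp⟩ h0
      have h0' : tauA k (xS k 0) p = 0 := h0
      obtain ⟨g, rfl⟩ := sl_ker k 0 p h0'
      apply Subtype.ext
      show (H4.GLnChar.d0 k 0 - 1) * g = 0
      have : H4.GLnChar.d0 k 0 = 1 := Matrix.det_isEmpty
      rw [this, sub_self, zero_mul]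
    obtain ⟨W', hW', hc⟩ := semisimple_of_poly (xS k 0) hx hε cstd hcs {0} hinj ρ hτ W
      (actStable_of_isSubcomod ρ W hW)
    exact ⟨W', isSubcomod_of_actStable ρ W' hW', hc⟩
  · obtain ⟨D, hD⟩ := range_deg_unif k (xS k n) V ρ hτ0
    have hτ : ∀ v, ρ.coact v ∈
        LinearMap.range ((tauS k (xS k n) (Finset.Ico D (D + n))).lTensor V) := by
      intro v
      obtain ⟨y, hy⟩ := hD v
      obtain ⟨y', hy'⟩ := sl_tensor_shift k n hn D V y
      exact ⟨y', by rw [hy', hy]⟩
    obtain ⟨W', hW', hc⟩ := semisimple_of_poly (xS k n) hx hε cstd hcs _ (sl_inj k n hn D) ρ hτ W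
      (actStable_of_isSubcomod ρ W hW)
    exact ⟨W', isSubcomod_of_actStable ρ W' hW', hc⟩

end SL

end Groth.Agent.H9.SchurW
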