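import Mathlib
import Groth.Prelude.Def_Hoch
import Groth.Prelude.Def_HopfRep
import Groth.Prelude.Def_ComodTens
import Groth.Prelude.Def_GLin
import Groth.Prelude.Def_GLin5
import Groth.Prelude.Def_GLin6
import Groth.Agent.H4.GLnChar
import Groth.Agent.Lib.Helper9.ComodGIT
import Groth.Agent.Lib.Helper9.ComodStab
import Groth.Agent.Lib.Helper9.Misc.SchurWAct
import Groth.Agent.Lib.Helper9.Misc.SchurGAct
import Groth.Agent.Lib.Helper9.Misc.SchurGSL

set_option autoImplicit false
set_option linter.unusedSectionVars false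
set_option linter.unusedVariables false

open TensorProduct

noncomputable section

namespace Groth.Agent.H9.SemiInv

universe u v w

section Pt
variable {k : Type u} [Field k] {A : Type v} [CommRing A] [HopfAlgebra k A]

/-- inverse of a rational point of an affine group -/
def ptInv (g : A →ₐ[k] k) : A →ₐ[k] k := g.comp (HopfAlgebra.antipodeAlgHom k A)

lemma ptInv_apply (g : A →ₐ[k] k) (a : A) : ptInv g a = g (HopfAlgebra.antipode k a) := rfl

lemma conv_ptInv_right (g : A →ₐ[k] k) :
    SchurW.conv g.toLinearMap (ptInv g).toLinearMap = CoalgebraStruct.counit (R := k) (A := A) := by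
  apply LinearMap.ext; intro a
  have h : ∀ z : A ⊗[k] A,
      (TensorProduct.lid k k) (TensorProduct.map g.toLinearMap (ptInv g).toLinearMap z) =
      g (LinearMap.mul' k A ((HopfAlgebra.antipode k (A := A)).lTensor A z)) := by
    intro z
    induction z using TensorProduct.induction_on with
    | zero => simp
    | tmul x y => simp [ptInv_apply]
    | add x y hx hy => simp only [map_add, hx, hy]
  change (TensorProduct.lid k k) (TensorProduct.map g.toLinearMap (ptInv g).toLinearMap
    (CoalgebraStruct.comul (R := k) a)) = _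
  rw [h, HopfAlgebra.mul_antipode_lTensor_comul_apply, AlgHom.commutes]
  rfl

lemma conv_ptInv_left (g : A →ₐ[k] k) :
    SchurW.conv (ptInv g).toLinearMap g.toLinearMap = CoalgebraStruct.counit (R := k) (A := A) := by
  apply LinearMap.ext; intro a
  have h : ∀ z : A ⊗[k] A,
      (TensorProduct.lid k k) (TensorProduct.map (ptInv g).toLinearMap g.toLinearMap z) =
      g (LinearMap.mul' k A ((HopfAlgebra.antipode k (A := A)).rTensor A z)) := by
    intro z
    induction z using TensorProduct.induction_on with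
    | zero => simp
    | tmul x y => simp [ptInv_apply]
    | add x y hx hy => simp only [map_add, hx, hy]
  change (TensorProduct.lid k k) (TensorProduct.map (ptInv g).toLinearMap g.toLinearMap
    (CoalgebraStruct.comul (R := k) a)) = _
  rw [h, HopfAlgebra.mul_antipode_rTensor_comul_apply, AlgHom.commutes]
  rfl

end Pt

section ActAlg
variable {k : Type u} [Field k] {A : Type v} [CommRing A] [HopfAlgebra k A]
  {R : Type w} [CommRing R] [Algebra k R] [cR : HopfRep.Comod k A R] [GLin.IsCoactAlg k A R]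

/-- the action of a rational point of the group on the coordinate ring, as an algebra map -/
def actAlg (g : A →ₐ[k] k) : R →ₐ[k] R :=
  (Algebra.TensorProduct.rid k k R).toAlgHom.comp
    ((Algebra.TensorProduct.map (AlgHom.id k R) g).comp (GLin.coactAlgHom k A R))

lemma actAlg_apply (g : A →ₐ[k] k) (f : R) :
    actAlg (A := A) g f = SchurW.act cR g.toLinearMap f := by
  change (Algebra.TensorProduct.rid k k R) (Algebra.TensorProduct.map (AlgHom.id k R) g
    (HopfRep.Comod.coact (k := k) (A := A) f)) =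
    SchurW.contr R g.toLinearMap (HopfRep.Comod.coact (k := k) (A := A) f)
  generalize HopfRep.Comod.coact (k := k) (A := A) f = z
  induction z using TensorProduct.induction_on with
  | zero => simp
  | tmul r a => simp
  | add z₁ z₂ h₁ h₂ => simp only [map_add, h₁, h₂]

lemma actAlg_comp (g h : A →ₐ[k] k)
    (hgh : SchurW.conv g.toLinearMap h.toLinearMap = CoalgebraStruct.counit (R := k) (A := A))
    (f : R) : actAlg (A := A) g (actAlg (A := A) h f) = f := by
  rw [actAlg_apply, actAlg_apply, ← LinearMap.comp_apply, ← SchurW.act_conv, hgh,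
    SchurW.act_counit]
  rfl

/-- the action of a rational point is an automorphism -/
def actEquiv (g : A →ₐ[k] k) : R ≃ₐ[k] R :=
  AlgEquiv.ofAlgHom (actAlg (A := A) g) (actAlg (A := A) (ptInv g))
    (AlgHom.ext fun f => actAlg_comp g (ptInv g) (conv_ptInv_right g) f)
    (AlgHom.ext fun f => actAlg_comp (ptInv g) g (conv_ptInv_left g) f)

lemma actEquiv_apply (g : A →ₐ[k] k) (f : R) : actEquiv (A := A) g f = actAlg (A := A) g f := rfl

variable (k A) in
/-- semi-invariants: eigenvectors for a character -/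
def IsSemiInv (f : R) : Prop :=
  ∃ χ : A, IsGroupLikeElem k χ ∧ HopfRep.Comod.coact (k := k) (A := A) f = f ⊗ₜ[k] χ

lemma isSemiInv_mul {f g : R} (hf : IsSemiInv k A f) (hg : IsSemiInv k A g) :
    IsSemiInv k A (f * g) := by
  obtain ⟨χ, hχ, h1⟩ := hf
  obtain ⟨ψ, hψ, h2⟩ := hg
  refine ⟨χ * ψ, hχ.mul hψ, ?_⟩
  rw [GLin.IsCoactAlg.coact_mul (k := k) (A := A) f g, h1, h2,
    Algebra.TensorProduct.tmul_mul_tmul]

lemma isSemiInv_algebraMap (r : k) : IsSemiInv k A (algebraMap k R r) := by
  refine ⟨1, IsGroupLikeElem.one, ?_⟩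
  have h := (GLin.coactAlgHom k A R).commutes r
  rw [GLin.coactAlgHom_apply] at h
  rw [h, Algebra.TensorProduct.algebraMap_apply]

lemma isSemiInv_one : IsSemiInv k A (1 : R) := by
  have h := isSemiInv_algebraMap (k := k) (A := A) (R := R) (1 : k)
  rwa [map_one] at h

end ActAlg

section Lin
variable {k : Type u} [Field k] {A : Type v} [CommRing A] [Bialgebra k A]
  {V : Type w} [AddCommGroup V] [Module k V]

lemma exists_tmul_of_mem_range_span (q : V) (y : V ⊗[k] A)
    (hy : y ∈ LinearMap.range ((Submodule.span k {q}).subtype.rTensor A)) :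
    ∃ a : A, y = q ⊗ₜ[k] a := by
  obtain ⟨t, rfl⟩ := hy
  induction t using TensorProduct.induction_on with
  | zero => exact ⟨0, by simp⟩
  | tmul u b =>
    obtain ⟨r, hr⟩ := Submodule.mem_span_singleton.mp u.2
    refine ⟨r • b, ?_⟩
    rw [LinearMap.rTensor_tmul, Submodule.subtype_apply, ← hr, TensorProduct.smul_tmul]
  | add x y hx hy =>
    obtain ⟨a, ha⟩ := hx
    obtain ⟨b, hb⟩ := hy
    exact ⟨a + b, by rw [map_add, ha, hb, TensorProduct.tmul_add]⟩

lemma coact_eq_tmul_of_line (c : HopfRep.Comod k A V) (p q : V) (hp : p ≠ 0)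
    (h : c.coact p ∈ LinearMap.range ((Submodule.span k {q}).subtype.rTensor A)) :
    ∃ χ : A, c.coact p = p ⊗ₜ[k] χ := by
  obtain ⟨a, ha⟩ := exists_tmul_of_mem_range_span q _ h
  have h1 := LinearMap.congr_fun c.counit_comp p
  simp only [LinearMap.comp_apply, LinearMap.flip_apply, TensorProduct.mk_apply] at h1
  rw [ha, LinearMap.lTensor_tmul] at h1
  have h2 := congrArg (TensorProduct.rid k V) h1
  rw [TensorProduct.rid_tmul, TensorProduct.rid_tmul, one_smul] at h2
  have hε : CoalgebraStruct.counit (R := k) a ≠ 0 := by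
    intro h0
    rw [h0, zero_smul] at h2
    exact hp h2.symm
  refine ⟨(CoalgebraStruct.counit (R := k) a)⁻¹ • a, ?_⟩
  have hp' : p = CoalgebraStruct.counit (R := k) a • q := h2.symm
  rw [ha]
  conv_rhs => rw [hp']
  rw [TensorProduct.smul_tmul, smul_smul, mul_inv_cancel₀ hε, one_smul]

lemma isGroupLike_of_coact_eq (c : HopfRep.Comod k A V) (p : V) (hp : p ≠ 0) (χ : A)
    (h : c.coact p = p ⊗ₜ[k] χ) : IsGroupLikeElem k χ := by
  obtain ⟨ℓ, hℓ⟩ : ∃ ℓ : Module.Dual k V, ℓ p ≠ 0 := by
    by_contra hcon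
    push Not at hcon
    exact hp ((Module.forall_dual_apply_eq_zero_iff k p).mp hcon)
  constructor
  · have h1 := LinearMap.congr_fun c.counit_comp p
    simp only [LinearMap.comp_apply, LinearMap.flip_apply, TensorProduct.mk_apply] at h1
    rw [h, LinearMap.lTensor_tmul] at h1
    have h2 := congrArg (TensorProduct.rid k V) h1
    rw [TensorProduct.rid_tmul, TensorProduct.rid_tmul, one_smul] at h2
    have h3 : (CoalgebraStruct.counit (R := k) χ - 1) • p = 0 := by
      rw [sub_smul, h2, one_smul, sub_self]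
    rcases smul_eq_zero.mp h3 with h4 | h4
    · exact sub_eq_zero.mp h4
    · exact absurd h4 hp
  · have h1 := LinearMap.congr_fun c.coassoc p
    simp only [LinearMap.comp_apply, LinearEquiv.coe_coe] at h1
    rw [h, LinearMap.rTensor_tmul, h, TensorProduct.assoc_tmul, LinearMap.lTensor_tmul] at h1
    have h2 := congrArg (Comod.sliceL ℓ) h1
    rw [Comod.sliceL_tmul, Comod.sliceL_tmul] at h2
    exact (smul_right_injective _ hℓ h2).symm

end Lin

section Null
variable {k : Type u} [Field k] [IsAlgClosed k] {A : Type v} [CommRing A] [HopfAlgebra k A]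
  {ι : Type w} [Finite ι] [cR : HopfRep.Comod k A (MvPolynomial ι k)]
  [GLin.IsCoactAlg k A (MvPolynomial ι k)]

/-- the zero set of `F` is stable under the rational points of the group -/
def ZStable (F : MvPolynomial ι k) : Prop :=
  ∀ (g : A →ₐ[k] k) (a : ι → k), MvPolynomial.eval a F = 0 →
    (GLin.actPt k g (GLin.vecPt k ι a)) F = 0

lemma eval_actAlg_of_zstable {F : MvPolynomial ι k} (hF : ZStable (A := A) F) (g : A →ₐ[k] k)
    (a : ι → k) (ha : MvPolynomial.eval a F = 0) :
    MvPolynomial.eval a (actAlg (A := A) g F) = 0 := by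
  have h1 := hF g a ha
  change g (GLin.orbitHom k A (GLin.vecPt k ι a) F) = 0 at h1
  rw [← GIT.apply_act] at h1
  rw [actAlg_apply]
  exact h1

lemma dvd_pow_actAlg {F : MvPolynomial ι k} (hF : ZStable (A := A) F) (g : A →ₐ[k] k) :
    ∃ m : ℕ, F ∣ (actAlg (A := A) g F) ^ m := by
  have hmem : actAlg (A := A) g F ∈
      MvPolynomial.vanishingIdeal k (MvPolynomial.zeroLocus k (Ideal.span {F})) := by
    intro a ha
    have h0 : MvPolynomial.eval a F = 0 := ha F (Ideal.subset_span rfl)
    exact eval_actAlg_of_zstable hF g a h0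
  rw [MvPolynomial.vanishingIdeal_zeroLocus_eq_radical] at hmem
  obtain ⟨m, hm⟩ := Ideal.mem_radical_iff.mp hmem
  exact ⟨m, Ideal.mem_span_singleton.mp hm⟩

lemma actAlg_factor_assoc {F : MvPolynomial ι k} (hF0 : F ≠ 0) (hF : ZStable (A := A) F)
    {p : MvPolynomial ι k} (hp : p ∈ UniqueFactorizationMonoid.factors F) (g : A →ₐ[k] k) :
    ∃ q ∈ UniqueFactorizationMonoid.factors F, Associated (actAlg (A := A) g p) q := by
  have hirr : Irreducible (actAlg (A := A) g p) := by
    have h := UniqueFactorizationMonoid.irreducible_of_factor p hp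
    exact (MulEquiv.irreducible_iff (f := actEquiv (A := A) (R := MvPolynomial ι k) g)).mpr h
  have hpF : p ∣ F := UniqueFactorizationMonoid.dvd_of_mem_factors hp
  obtain ⟨m, hm⟩ := dvd_pow_actAlg hF (ptInv g)
  have h1 : actAlg (A := A) g F ∣ F ^ m := by
    have h := map_dvd (actAlg (A := A) (R := MvPolynomial ι k) g) hm
    rwa [map_pow, actAlg_comp g (ptInv g) (conv_ptInv_right g)] at h
  have h2 : actAlg (A := A) g p ∣ F ^ m :=
    (map_dvd (actAlg (A := A) (R := MvPolynomial ι k) g) hpF).trans h1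
  have h3 : actAlg (A := A) g p ∣ F := hirr.prime.dvd_of_dvd_pow h2
  exact UniqueFactorizationMonoid.exists_mem_factors_of_dvd hF0 hirr h3

lemma exists_factor_line [IsDomain A] [Algebra.FiniteType k A] {F : MvPolynomial ι k}
    (hF0 : F ≠ 0) (hF : ZStable (A := A) F)
    {p : MvPolynomial ι k} (hp : p ∈ UniqueFactorizationMonoid.factors F) :
    ∃ q ∈ UniqueFactorizationMonoid.factors F,
      cR.coact p ∈ LinearMap.range ((Submodule.span k {q}).subtype.rTensor A) := by
  classical
  by_contra hcon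
  push Not at hcon
  have hex : ∀ q : MvPolynomial ι k, ∃ ℓ : MvPolynomial ι k →ₗ[k] k,
      q ∈ UniqueFactorizationMonoid.factors F →
        (ℓ q = 0 ∧ Comod.sliceL ℓ (cR.coact p) ≠ 0) := by
    intro q
    by_cases hq : q ∈ UniqueFactorizationMonoid.factors F
    · have h1 := hcon q hq
      rw [Stab.mem_range_rTensor_iff_sliceL] at h1
      push Not at h1
      obtain ⟨ℓ, hℓ1, hℓ2⟩ := h1
      exact ⟨ℓ, fun _ => ⟨hℓ1 q (Submodule.mem_span_singleton_self q), hℓ2⟩⟩
    · exact ⟨0, fun h => absurd h hq⟩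
  choose ℓ hℓ using hex
  let c : A := ∏ q ∈ (UniqueFactorizationMonoid.factors F).toFinset,
    Comod.sliceL (ℓ q) (cR.coact p)
  have hc0 : c ≠ 0 := by
    rw [Finset.prod_ne_zero_iff]
    intro q hq
    exact (hℓ q (Multiset.mem_toFinset.mp hq)).2
  have hcg : ∀ g : A →ₐ[k] k, g c = 0 := by
    intro g
    obtain ⟨q, hq, hassoc⟩ := actAlg_factor_assoc hF0 hF hp g
    rw [map_prod]
    apply Finset.prod_eq_zero (Multiset.mem_toFinset.mpr hq)
    have h1 : g (Comod.sliceL (ℓ q) (cR.coact p)) = ℓ q (actAlg (A := A) g p) := by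
      rw [actAlg_apply]
      exact Comod.apply_sliceL g.toLinearMap (ℓ q) _
    rw [h1]
    obtain ⟨u, hu⟩ := hassoc.symm
    obtain ⟨r, -, hr⟩ := MvPolynomial.isUnit_iff_eq_C_of_isReduced.mp u.isUnit
    rw [← hu, hr, mul_comm, MvPolynomial.C_mul', map_smul, (hℓ q hq).1, smul_zero]
  have hnil := GIT.isNilpotent_of_forall_algHom_eq_zero c hcg
  exact hc0 (IsNilpotent.eq_zero hnil)

/-- If the zero set of `F` is stable under the rational points of a connected affine group, then
`F` is a semi-invariant. -/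
theorem isSemiInv_of_zstable [IsDomain A] [Algebra.FiniteType k A] (F : MvPolynomial ι k)
    (hF : ZStable (A := A) F) : IsSemiInv k A F := by
  by_cases hF0 : F = 0
  · subst hF0
    exact ⟨1, IsGroupLikeElem.one, by simp⟩
  have hfac : ∀ p ∈ UniqueFactorizationMonoid.factors F, IsSemiInv k A p := by
    intro p hp
    obtain ⟨q, hq, hline⟩ := exists_factor_line hF0 hF hp
    have hp0 : p ≠ 0 := (UniqueFactorizationMonoid.irreducible_of_factor p hp).ne_zero
    obtain ⟨χ, hχ⟩ := coact_eq_tmul_of_line cR p q hp0 hline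
    exact ⟨χ, isGroupLike_of_coact_eq cR p hp0 χ hχ, hχ⟩
  have hprod : IsSemiInv k A (UniqueFactorizationMonoid.factors F).prod :=
    Multiset.prod_induction _ _ (fun a b => isSemiInv_mul) isSemiInv_one hfac
  obtain ⟨u, hu⟩ := UniqueFactorizationMonoid.factors_prod hF0
  obtain ⟨r, -, hr⟩ := MvPolynomial.isUnit_iff_eq_C_of_isReduced.mp u.isUnit
  rw [← hu, hr]
  exact isSemiInv_mul hprod (isSemiInv_algebraMap r)

end Null

section GLnInst
variable (k : Type u) [Field k] (n : ℕ)

lemma finiteType_GLb : Algebra.FiniteType k (CoordGrp.GLb n k) :=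
  inferInstanceAs (Algebra.FiniteType k (MvPolynomial (CoordGrp.GLPoly.Idx n) k))

lemma finiteType_GLn : Algebra.FiniteType k (CoordGrp.GLn n k) :=
  haveI := finiteType_GLb k n
  Algebra.FiniteType.of_surjective (CoordGrp.GLn.mk n k)
    (Ideal.Quotient.mkₐ_surjective k (CoordGrp.GLb.relIdeal n k))

lemma phi_injective : Function.Injective (H4.GLnChar.phi k n) := by
  rw [injective_iff_map_eq_zero]
  intro a ha
  obtain ⟨p, s, rfl⟩ := H4.GLnChar.exists_repr k n a
  have h1 : H4.GLnChar.iota k n p =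
      H4.GLnChar.iota k n p * CoordGrp.GLn.Dinv ^ s * CoordGrp.GLn.det ^ s := by
    rw [mul_assoc, mul_comm (CoordGrp.GLn.Dinv ^ s), H4.GLnChar.det_pow_mul_Dinv_pow, mul_one]
  have h2 : H4.GLnChar.phi k n (H4.GLnChar.iota k n p) = 0 := by
    rw [h1, map_mul, ha, zero_mul]
  rw [H4.GLnChar.phi_iota] at h2
  have h3 : p = 0 :=
    (IsFractionRing.injective (H4.GLnChar.P k n) (FractionRing (H4.GLnChar.P k n)))
      (by rw [h2, map_zero])
  rw [h3, map_zero, zero_mul]

lemma isDomain_GLn : IsDomain (CoordGrp.GLn n k) :=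
  Function.Injective.isDomain (H4.GLnChar.phi k n).toRingHom (phi_injective k n)

end GLnInst


section Final
open CoordGrp

theorem s12561 (k : Type u) [Field k] [IsAlgClosed k] [CharZero k] (n d : ℕ)
    (F : CoordGrp.FormRing k (n + 1) d) (N : ℕ) (hF : F.IsHomogeneous N)
    (hinv : ∀ (g : CoordGrp.GLn (n + 1) k →ₐ[k] k) (a : CoordGrp.FormIdx (n + 1) d → k),
      MvPolynomial.eval a F = 0 →
        (@GLin.actPt k _ (CoordGrp.GLn (n + 1) k) _ _ (CoordGrp.FormRing k (n + 1) d) _ _ (GLin.comodAlong (CoordGrp.Mat.toGLn (n + 1) k) (CoordGrp.formsCoact k (n + 1) d)) (GLin.isCoactAlg_comodAlong (CoordGrp.Mat.toGLn (n + 1) k) (CoordGrp.formsCoact k (n + 1) d) (CoordGrp.formsCoact_isCoactAlg k (n + 1) d))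
          g (GLin.vecPt k (CoordGrp.FormIdx (n + 1) d) a)) F = 0) :
    F ∈ @GLin.invariants k _ (CoordGrp.SLn (n + 1) k) _ _ (CoordGrp.FormRing k (n + 1) d) _ _ (GLin.comodAlong ((CoordGrp.SLn.mkHom (n + 1) k).comp (CoordGrp.Mat.toGLn (n + 1) k)) (CoordGrp.formsCoact k (n + 1) d)) (GLin.isCoactAlg_comodAlong ((CoordGrp.SLn.mkHom (n + 1) k).comp (CoordGrp.Mat.toGLn (n + 1) k)) (CoordGrp.formsCoact k (n + 1) d) (CoordGrp.formsCoact_isCoactAlg k (n + 1) d)) := by
  letI cG : HopfRep.Comod k (GLn (n + 1) k) (MvPolynomial (FormIdx (n + 1) d) k) :=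
    GLin.comodAlong (Mat.toGLn (n + 1) k) (formsCoact k (n + 1) d)
  haveI hG : GLin.IsCoactAlg k (GLn (n + 1) k) (MvPolynomial (FormIdx (n + 1) d) k) :=
    GLin.isCoactAlg_comodAlong (Mat.toGLn (n + 1) k) (formsCoact k (n + 1) d)
      (formsCoact_isCoactAlg k (n + 1) d)
  haveI := isDomain_GLn k (n + 1)
  haveI := finiteType_GLn k (n + 1)
  obtain ⟨χ, hχ, hco⟩ := isSemiInv_of_zstable (A := GLn (n + 1) k) F hinv
  obtain ⟨m, hm⟩ := (H4.GLnChar.main k (n + 1) χ).mp hχ
  have hmk : SLn.mk (n + 1) k χ = 1 := by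
    rcases hm with rfl | rfl
    · rw [map_pow, SLn.det_eq_one, one_pow]
    · rw [map_pow, SchurW.mk_Dinv, one_pow]
  have hbridge : ∀ z : FormRing k (n + 1) d ⊗[k] Mat (n + 1) k,
      TensorProduct.map LinearMap.id
        (((SLn.mkHom (n + 1) k).comp (Mat.toGLn (n + 1) k) :
          Mat (n + 1) k →ₐc[k] SLn (n + 1) k) : Mat (n + 1) k →ₗ[k] SLn (n + 1) k) z =
      TensorProduct.map LinearMap.id ((SLn.mk (n + 1) k).toLinearMap)
        (TensorProduct.map LinearMap.id
          ((Mat.toGLn (n + 1) k : Mat (n + 1) k →ₐc[k] GLn (n + 1) k) :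
            Mat (n + 1) k →ₗ[k] GLn (n + 1) k) z) := by
    intro z
    induction z using TensorProduct.induction_on with
    | zero => simp
    | tmul x y => rfl
    | add x y hx hy => simp only [map_add, hx, hy]
  change TensorProduct.map LinearMap.id
    (((SLn.mkHom (n + 1) k).comp (Mat.toGLn (n + 1) k) :
      Mat (n + 1) k →ₐc[k] SLn (n + 1) k) : Mat (n + 1) k →ₗ[k] SLn (n + 1) k)
    ((formsCoact k (n + 1) d).coact F) = F ⊗ₜ[k] 1
  rw [hbridge]
  have hco' : TensorProduct.map LinearMap.id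
      ((Mat.toGLn (n + 1) k : Mat (n + 1) k →ₐc[k] GLn (n + 1) k) :
        Mat (n + 1) k →ₗ[k] GLn (n + 1) k) ((formsCoact k (n + 1) d).coact F) = F ⊗ₜ[k] χ := hco
  rw [hco', TensorProduct.map_tmul, LinearMap.id_apply]
  change F ⊗ₜ[k] (SLn.mk (n + 1) k χ) = _
  rw [hmk]

end Final

end Groth.Agent.H9.SemiInv
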