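import Mathlib
import Groth.Agent.Lib.Helper9.Misc.FormPts
import Groth.Agent.Lib.Helper9.Misc.CLO9
import Groth.Agent.Lib.Helper9.Misc.SemiInv
import Groth.Agent.Lib.Helper9.Misc.SchurGSL
import Groth.Agent.Lib.Helper9.ComodNullcone
import Groth.Agent.Lib.Helper9.GmDiagStable

/-!
# Points of `SL_n` acting on forms (helper9)
-/

set_option autoImplicit false
set_option linter.unusedSectionVars false
set_option linter.unusedVariables false
set_option linter.style.haveILetI false

open TensorProduct CoordGrp WithConv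

noncomputable section

namespace Groth.Agent.H9.BinF

universe u v

open Groth.Agent.H9 Groth.Agent.H9.Comod Groth.Agent.H9.GIT Groth.Agent.H9.CLO

section Inst
variable (k : Type u) [Field k] (n d : ℕ)

/-- the action of `SL_n` on forms of degree `d` -/
@[reducible] def cS : HopfRep.Comod k (SLn n k) (FormRing k n d) :=
  GLin.comodAlong ((SLn.mkHom n k).comp (Mat.toGLn n k)) (formsCoact k n d)

theorem hS : @GLin.IsCoactAlg k _ (SLn n k) _ _ (FormRing k n d) _ _ (cS k n d) :=
  GLin.isCoactAlg_comodAlong ((SLn.mkHom n k).comp (Mat.toGLn n k)) (formsCoact k n d)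
    (formsCoact_isCoactAlg k n d)

theorem hLin : @GLin.IsLinear k _ (SLn n k) _ _ (FormIdx n d) _ (cS k n d) :=
  GLin.isLinear_comodAlong ((SLn.mkHom n k).comp (Mat.toGLn n k)) (formsCoact k n d)
    (formsCoact_isLinear k n d)

lemma finiteType_SLn : Algebra.FiniteType k (SLn n k) :=
  haveI := SemiInv.finiteType_GLn k n
  Algebra.FiniteType.of_surjective (SLn.mk n k)
    (Ideal.Quotient.mkₐ_surjective k (GLn.slIdeal n k))

end Inst

attribute [local instance] cS hS finiteType_SLn

section Pts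
variable {k : Type u} [Field k] {n d : ℕ} {B : Type v} [CommRing B] [Algebra k B]

lemma psi_X (i j : Fin n) :
    ((SLn.mkHom n k).comp (Mat.toGLn n k)) (Mat.X i j) = SLn.X i j := by
  rw [BialgHom.comp_apply, Mat.toGLn_X]; rfl

/-- the matrix of a point of `SL_n` -/
def matOf (g : SLn n k →ₐ[k] B) : Matrix (Fin n) (Fin n) B := fun i j => g (SLn.X i j)

lemma comp_psi (g : SLn n k →ₐ[k] B) (x : Mat n k) :
    g (((SLn.mkHom n k).comp (Mat.toGLn n k)) x) = Mat.aeval n k (matOf g) x := by
  have h : g.comp (((SLn.mkHom n k).comp (Mat.toGLn n k) : Mat n k →ₐc[k] SLn n k) :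
      Mat n k →ₐ[k] SLn n k) = Mat.aeval n k (matOf g) := by
    apply Mat.algHom_ext; intro i j
    rw [Mat.aeval_X]
    change g (((SLn.mkHom n k).comp (Mat.toGLn n k)) (Mat.X i j)) = _
    rw [psi_X]; rfl
  exact congrArg (fun φ : Mat n k →ₐ[k] B => φ x) h

lemma matOf_pt (M : Matrix (Fin n) (Fin n) B) (h : M.det = 1) : matOf (SLn.pt n k M h) = M := by
  ext i j; exact SLn.pt_X M h i j

lemma det_matOf (g : SLn n k →ₐ[k] B) : (matOf g).det = 1 := by
  have h1 : matOf g = (g.comp (SLn.mk n k)).mapMatrix (GLn.genMat n k) := by ext i j; rfl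
  rw [h1, ← AlgHom.map_det, ← GLn.det_eq, AlgHom.comp_apply, SLn.det_eq_one, map_one]

lemma mk_Dinv' : SLn.mk n k (GLn.Dinv : GLn n k) = 1 := by
  have h := congrArg (SLn.mk n k) (GLn.Dinv_mul_det (n := n) (k := k))
  rw [map_mul, SLn.det_eq_one, mul_one, map_one] at h
  exact h

lemma pt_matOf (g : SLn n k →ₐ[k] B) : SLn.pt n k (matOf g) (det_matOf g) = g := by
  apply SLn.algHom_ext
  · intro i j; exact SLn.pt_X _ _ i j
  · rw [mk_Dinv', map_one, map_one]

lemma matOf_comp {B' : Type*} [CommRing B'] [Algebra k B'] (f : B →ₐ[k] B') (g : SLn n k →ₐ[k] B) :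
    matOf (f.comp g) = (matOf g).map f := by
  ext i j; rfl

lemma coact_X (m : FormIdx n d) :
    HopfRep.Comod.coact (k := k) (A := SLn n k) (MvPolynomial.X m : FormRing k n d) =
      ∑ l : FormIdx n d, (MvPolynomial.X l : FormRing k n d) ⊗ₜ[k]
        ((SLn.mkHom n k).comp (Mat.toGLn n k)) (formCoeff k n d l m) := by
  change TensorProduct.map LinearMap.id _ ((formsCoact k n d).coact (MvPolynomial.X m)) = _
  rw [formsCoact_coact, formsCoactAlg_X, map_sum]
  refine Finset.sum_congr rfl fun l _ => ?_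
  rw [TensorProduct.map_tmul]; rfl

lemma orbitHom_X (a : FormIdx n d → k) (m : FormIdx n d) :
    GLin.orbitHom k (SLn n k) (GLin.vecPt k (FormIdx n d) a) (MvPolynomial.X m) =
      ∑ l, a l • ((SLn.mkHom n k).comp (Mat.toGLn n k)) (formCoeff k n d l m) := by
  rw [GLin.orbitHom, AlgHom.comp_apply, AlgHom.comp_apply, GLin.coactAlgHom_apply, coact_X,
    map_sum, map_sum]
  refine Finset.sum_congr rfl fun l _ => ?_
  rw [Algebra.TensorProduct.map_tmul, AlgHom.id_apply]
  change (Algebra.TensorProduct.lid k (SLn n k)) (_ ⊗ₜ[k] _) = _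
  rw [Algebra.TensorProduct.lid_tmul]
  simp [GLin.vecPt]

lemma pt_orbitHom_X (g : SLn n k →ₐ[k] B) (a : FormIdx n d → k) (m : FormIdx n d) :
    g (GLin.orbitHom k (SLn n k) (GLin.vecPt k (FormIdx n d) a) (MvPolynomial.X m)) =
      ∑ l, algebraMap k B (a l) * rho k (matOf g) l m := by
  rw [orbitHom_X, map_sum]
  refine Finset.sum_congr rfl fun l _ => ?_
  rw [map_smul, Algebra.smul_def, comp_psi]; rfl

lemma actPt_vecPt (g : SLn n k →ₐ[k] k) (a : FormIdx n d → k) :
    GLin.actPt k g (GLin.vecPt k (FormIdx n d) a) =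
      GLin.vecPt k (FormIdx n d) (actV k (matOf g) a) := by
  apply MvPolynomial.algHom_ext; intro m
  change g (GLin.orbitHom k (SLn n k) (GLin.vecPt k (FormIdx n d) a) (MvPolynomial.X m)) = _
  rw [pt_orbitHom_X]
  simp [GLin.vecPt, actV]

lemma actPt_pt (M : Matrix (Fin n) (Fin n) k) (h : M.det = 1) (a : FormIdx n d → k) :
    GLin.actPt k (SLn.pt n k M h) (GLin.vecPt k (FormIdx n d) a) =
      GLin.vecPt k (FormIdx n d) (actV k M a) := by
  rw [actPt_vecPt, matOf_pt]

lemma vecPt_injective {ι : Type*} {a b : ι → k} (h : GLin.vecPt k ι a = GLin.vecPt k ι b) : a = b := by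
  funext i
  have := congrArg (fun φ : MvPolynomial ι k →ₐ[k] k => φ (MvPolynomial.X i)) h
  simpa [GLin.vecPt] using this

lemma exists_vecPt {ι : Type*} (z : MvPolynomial ι k →ₐ[k] k) :
    z = GLin.vecPt k ι (fun i => z (MvPolynomial.X i)) := by
  apply MvPolynomial.algHom_ext; intro i
  simp [GLin.vecPt]

/-- invariants are constant along orbits -/
lemma eval_actV_of_mem_invariants (F : FormRing k n d)
    (hF : F ∈ GLin.invariants k (SLn n k) (FormRing k n d))
    (M : Matrix (Fin n) (Fin n) k) (h : M.det = 1) (a : FormIdx n d → k) :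
    MvPolynomial.eval (actV k M a) F = MvPolynomial.eval a F := by
  have h1 : GLin.actPt k (SLn.pt n k M h) (GLin.vecPt k (FormIdx n d) a) F =
      GLin.vecPt k (FormIdx n d) a F := by
    change (SLn.pt n k M h) (GLin.orbitHom k (SLn n k) (GLin.vecPt k (FormIdx n d) a) F) = _
    rw [orbitHom_of_mem_fixedPts _ hF, AlgHom.commutes]
    rfl
  rw [actPt_pt] at h1
  simpa [GLin.vecPt, MvPolynomial.aeval_eq_eval] using h1

end Pts

section Red
variable (k : Type u) [Field k] [IsAlgClosed k] [CharZero k] (n d : ℕ)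

theorem hss : HopfRep.IsSemisimpleComod k (SLn n k) (FormRing k n d) :=
  isSemisimpleComod_of_fd_semisimple (A := SLn n k) (SchurW.sl_linred k n)

end Red

end Groth.Agent.H9.BinF
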