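import Mathlib
import Groth.Agent.Lib.Helper9.Misc.FormSL
import Groth.Agent.Lib.Helper9.Misc.BinCore
import Groth.Agent.Lib.Helper6.KP3

/-!
# Stability of binary forms (helper9; S12546, S12547)
-/

set_option autoImplicit false
set_option linter.unusedSectionVars false
set_option linter.unusedVariables false
set_option linter.style.haveILetI false

open TensorProduct CoordGrp WithConv IsLocalRing

noncomputable section

namespace Groth.Agent.H9.BinF

universe u v

open Groth.Agent.H9 Groth.Agent.H9.Comod Groth.Agent.H9.GIT Groth.Agent.H9.CLO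

attribute [local instance] cS hS finiteType_SLn

section CurveGen
variable {k : Type u} [Field k] {ι : Type v}

/-- a polynomial function which is constant along the punctured curve `t ↦ (v i * t ^ e i)` takes
the same value at `t = 0` (universe-polymorphic version) -/
theorem eval_const_of_curve' [Infinite k] (v : ι → k) (e : ι → ℕ) (F : MvPolynomial ι k) (c : k)
    (hconst : ∀ t : k, t ≠ 0 → MvPolynomial.eval (fun i => v i * t ^ e i) F = c) :
    MvPolynomial.eval (fun i => v i * (0 : k) ^ e i) F = c := by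
  set P : Polynomial k :=
    MvPolynomial.aeval (fun i => Polynomial.C (v i) * Polynomial.X ^ e i) F with hP
  have hPeval : ∀ t : k, P.eval t = MvPolynomial.eval (fun i => v i * t ^ e i) F := by
    intro t
    have h1 : (Polynomial.aeval t).comp
        (MvPolynomial.aeval (fun i => Polynomial.C (v i) * Polynomial.X ^ e i)) =
        (MvPolynomial.aeval (fun i => v i * t ^ e i) : MvPolynomial ι k →ₐ[k] k) := by
      apply MvPolynomial.algHom_ext
      intro i
      simp
    have h2 : (Polynomial.aeval t)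
        (MvPolynomial.aeval (fun i => Polynomial.C (v i) * Polynomial.X ^ e i) F) =
        (MvPolynomial.aeval (fun i => v i * t ^ e i) : MvPolynomial ι k →ₐ[k] k) F := by
      rw [← h1]; rfl
    rw [MvPolynomial.aeval_def (fun i => v i * t ^ e i), Algebra.algebraMap_self,
      MvPolynomial.eval₂_id] at h2
    rw [← h2, hP]
    simp [Polynomial.aeval_def, Polynomial.eval₂_eq_eval_map]
  have hQ : P - Polynomial.C c = 0 := by
    apply Polynomial.eq_zero_of_infinite_isRoot
    refine Set.Infinite.mono ?_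
      (Set.Infinite.sdiff (Set.infinite_univ (α := k)) (Set.finite_singleton 0))
    intro t ht
    have ht0 : t ≠ 0 := by
      simpa using ht.2
    simp only [Set.mem_ofPred_eq, Polynomial.IsRoot.def, Polynomial.eval_sub, Polynomial.eval_C]
    rw [hPeval, hconst t ht0, sub_self]
  have h0 : P.eval 0 = c := by
    have := congrArg (Polynomial.eval 0) (sub_eq_zero.mp hQ)
    simpa using this
  rw [← h0, hPeval]

end CurveGen

section EL
variable {k : Type u} [Field k] [CharZero k] {d : ℕ}

lemma degree_two (m : FormIdx 2 d) : m.1 0 + m.1 1 = d := by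
  have h := m.2
  rw [Finsupp.degree_eq_sum, Fin.sum_univ_two] at h
  exact h

lemma multinomial_ne_zero (m : FormIdx 2 d) : (m.1.multinomial : k) ≠ 0 := by
  rw [Nat.cast_ne_zero, Finsupp.multinomial_eq]
  exact (Nat.multinomial_pos _ _).ne'

lemma X_pow_dvd_formPoly (b : FormIdx 2 d → k) (μ : ℕ)
    (hb : ∀ m : FormIdx 2 d, m.1 1 < μ → b m = 0) :
    (MvPolynomial.X (1 : Fin 2) : MvPolynomial (Fin 2) k) ^ μ ∣ formPoly b := by
  rw [formPoly]
  apply Finset.dvd_sum
  intro m _
  by_cases hm : m.1 1 < μ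
  · rw [hb m hm, mul_zero, map_zero]; exact dvd_zero _
  · have hle : Finsupp.single (1 : Fin 2) μ ≤ m.1 := Finsupp.single_le_iff.mpr (not_lt.mp hm)
    rw [← tsub_add_cancel_of_le hle, MvPolynomial.monomial_add_single]
    exact Dvd.intro_left _ rfl

theorem exists_form_of_vanish (a : FormIdx 2 d → k) (N : Matrix (Fin 2) (Fin 2) k) (hN : N.det = 1)
    (μ : ℕ) (hb : ∀ m : FormIdx 2 d, m.1 1 < μ → actV k N a m = 0) :
    ∃ ℓ : MvPolynomial (Fin 2) k, ℓ.IsHomogeneous 1 ∧ ℓ ≠ 0 ∧ ℓ ^ μ ∣ formPoly a := by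
  have h1 := X_pow_dvd_formPoly (actV k N a) μ hb
  rw [formPoly_actV] at h1
  have hNN : N * N.adjugate = 1 := by rw [Matrix.mul_adjugate, hN, one_smul]
  have hNN' : N.adjugate * N = 1 := by rw [Matrix.adjugate_mul, hN, one_smul]
  have hinv : ∀ p, sigma k N.adjugate (sigma k N p) = p := by
    intro p
    have := congrArg (fun φ : MvPolynomial (Fin 2) k →ₐ[k] MvPolynomial (Fin 2) k => φ p)
      (sigma_comp k N.adjugate N)
    simp only [AlgHom.comp_apply] at this
    rw [this, hNN, sigma_one]; rfl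
  have hinv' : ∀ p, sigma k N (sigma k N.adjugate p) = p := by
    intro p
    have := congrArg (fun φ : MvPolynomial (Fin 2) k →ₐ[k] MvPolynomial (Fin 2) k => φ p)
      (sigma_comp k N N.adjugate)
    simp only [AlgHom.comp_apply] at this
    rw [this, hNN', sigma_one]; rfl
  refine ⟨sigma k N.adjugate (MvPolynomial.X 1), ?_, ?_, ?_⟩
  · rw [sigma_X]
    exact MvPolynomial.IsHomogeneous.sum _ _ _ fun j _ => MvPolynomial.isHomogeneous_C_mul_X _ _
  · intro h0
    have := hinv' (MvPolynomial.X 1)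
    rw [h0, map_zero] at this
    exact MvPolynomial.X_ne_zero _ this.symm
  · have h2 := map_dvd (sigma k N.adjugate) h1
    rw [map_pow, hinv] at h2
    exact h2

lemma linear_form_eq (ℓ : MvPolynomial (Fin 2) k) (hℓ : ℓ.IsHomogeneous 1) :
    ℓ = MvPolynomial.C (ℓ.coeff (Finsupp.single 0 1)) * MvPolynomial.X 0 +
      MvPolynomial.C (ℓ.coeff (Finsupp.single 1 1)) * MvPolynomial.X 1 := by
  ext s
  rw [MvPolynomial.coeff_add, MvPolynomial.coeff_C_mul, MvPolynomial.coeff_C_mul,
    MvPolynomial.coeff_X', MvPolynomial.coeff_X']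
  have hne : Finsupp.single (1 : Fin 2) 1 ≠ Finsupp.single (0 : Fin 2) 1 := by
    intro h
    have := congrArg (fun f : Fin 2 →₀ ℕ => f 0) h
    simp at this
  by_cases h0 : Finsupp.single (0 : Fin 2) 1 = s
  · subst h0
    rw [if_pos rfl, if_neg hne]; simp
  · by_cases h1 : Finsupp.single (1 : Fin 2) 1 = s
    · subst h1
      rw [if_neg h0, if_pos rfl]; simp
    · rw [if_neg h0, if_neg h1, mul_zero, mul_zero, add_zero]
      apply hℓ.coeff_eq_zero
      intro hdeg
      rw [Finsupp.degree_eq_sum, Fin.sum_univ_two] at hdeg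
      rcases (by omega : (s 0 = 1 ∧ s 1 = 0) ∨ (s 0 = 0 ∧ s 1 = 1)) with ⟨e0, e1⟩ | ⟨e0, e1⟩
      · apply h0; ext i; fin_cases i <;> simp [e0, e1]
      · apply h1; ext i; fin_cases i <;> simp [e0, e1]

theorem exists_vanish_of_dvd (a : FormIdx 2 d → k) (ℓ : MvPolynomial (Fin 2) k)
    (hℓ : ℓ.IsHomogeneous 1) (hℓ0 : ℓ ≠ 0) (μ : ℕ) (h : ℓ ^ μ ∣ formPoly a) :
    ∃ N : Matrix (Fin 2) (Fin 2) k, N.det = 1 ∧
      ∀ m : FormIdx 2 d, m.1 1 < μ → actV k N a m = 0 := by
  set p := ℓ.coeff (Finsupp.single 0 1) with hp_def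
  set q := ℓ.coeff (Finsupp.single 1 1) with hq_def
  have hℓeq := linear_form_eq ℓ hℓ
  rw [← hp_def, ← hq_def] at hℓeq
  have hpq : p ≠ 0 ∨ q ≠ 0 := by
    by_contra hcon
    rw [not_or, not_not, not_not] at hcon
    apply hℓ0
    rw [hℓeq, hcon.1, hcon.2]; simp
  obtain ⟨n01, n11, hn⟩ : ∃ n01 n11 : k, p * n01 + q * n11 = 1 := by
    rcases hpq with hp | hq
    · exact ⟨p⁻¹, 0, by rw [mul_inv_cancel₀ hp, mul_zero, add_zero]⟩
    · exact ⟨0, q⁻¹, by rw [mul_inv_cancel₀ hq, mul_zero, zero_add]⟩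
  let N : Matrix (Fin 2) (Fin 2) k := !![q, n01; -p, n11]
  have hN : N.det = 1 := by
    rw [Matrix.det_fin_two_of]; linear_combination hn
  have hσ : sigma k N ℓ = MvPolynomial.X 1 := by
    rw [hℓeq, map_add, map_mul, map_mul, MvPolynomial.algHom_C, MvPolynomial.algHom_C, sigma_X,
      sigma_X, Fin.sum_univ_two, Fin.sum_univ_two]
    have e00 : N 0 0 = q := rfl
    have e01 : N 0 1 = n01 := rfl
    have e10 : N 1 0 = -p := rfl
    have e11 : N 1 1 = n11 := rfl
    rw [e00, e01, e10, e11]
    have hC : (MvPolynomial.C (p * n01 + q * n11) : MvPolynomial (Fin 2) k) = 1 := by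
      rw [hn, map_one]
    simp only [map_add, map_mul, map_neg, MvPolynomial.algebraMap_eq] at hC ⊢
    linear_combination (MvPolynomial.X 1 : MvPolynomial (Fin 2) k) * hC
  refine ⟨N, hN, fun m hm => ?_⟩
  have h2 := map_dvd (sigma k N) h
  rw [map_pow, hσ, ← formPoly_actV] at h2
  obtain ⟨g, hg⟩ := h2
  have h3 := coeff_formPoly (actV k N a) m
  rw [hg, mul_comm, MvPolynomial.X_pow_eq_monomial, MvPolynomial.coeff_mul_monomial', if_neg] at h3
  · exact (mul_eq_zero.mp h3.symm).resolve_left (multinomial_ne_zero m)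
  · rw [Finsupp.single_le_iff]; omega

end EL

section Curve
variable {k : Type u} [Field k] {d : ℕ}

/-- the diagonal one-parameter subgroup -/
def Dt (t : k) : Matrix (Fin 2) (Fin 2) k := Matrix.diagonal ![t⁻¹, t]

lemma det_Dt {t : k} (ht : t ≠ 0) : (Dt t).det = 1 := by
  rw [Dt, Matrix.det_diagonal, Fin.prod_univ_two]
  simp [ht]

/-- the weights -/
def ee (m : FormIdx 2 d) : ℕ := m.1 1 - m.1 0

lemma actV_Dt (b : FormIdx 2 d → k) (hb : ∀ m : FormIdx 2 d, m.1 1 < m.1 0 → b m = 0) {t : k}
    (ht : t ≠ 0) (m : FormIdx 2 d) : actV k (Dt t) b m = b m * t ^ ee m := by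
  rw [Dt, actV_diagonal, Fin.prod_univ_two]
  simp only [Matrix.cons_val_zero, Matrix.cons_val_one]
  by_cases hm : m.1 1 < m.1 0
  · rw [hb m hm, zero_mul, zero_mul]
  · have hle : m.1 0 ≤ m.1 1 := not_lt.mp hm
    congr 1
    rw [ee, pow_sub₀ t ht hle, inv_pow, mul_comm]

theorem limit_eval [Infinite k] (a : FormIdx 2 d → k) (N : Matrix (Fin 2) (Fin 2) k) (hN : N.det = 1)
    (hb : ∀ m : FormIdx 2 d, m.1 1 < m.1 0 → actV k N a m = 0)
    (F : FormRing k 2 d) (c : k)
    (hconst : ∀ M : Matrix (Fin 2) (Fin 2) k, M.det = 1 → MvPolynomial.eval (actV k M a) F = c) :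
    MvPolynomial.eval (fun m => actV k N a m * (0 : k) ^ ee m) F = c := by
  apply eval_const_of_curve' (actV k N a) ee F c
  intro t ht
  have h1 : (fun m => actV k N a m * t ^ ee m) = actV k (N * Dt t) a := by
    rw [actV_mul]; funext m; rw [actV_Dt _ hb ht]
  rw [h1]
  exact hconst _ (by rw [Matrix.det_mul, hN, det_Dt ht, one_mul])

end Curve

section Stab
variable {k : Type u} [Field k] [IsAlgClosed k] {A : Type u} [CommRing A] [HopfAlgebra k A]
  [Algebra.FiniteType k A]
  {R : Type u} [CommRing R] [Algebra k R] [Algebra.FiniteType k R] [HopfRep.Comod k A R]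
  [GLin.IsCoactAlg k A R]

lemma stabK_finite_actPt (g : A →ₐ[k] k) (x : R →ₐ[k] k) (h : (StabK (A := A) x).Finite) :
    (StabK (A := A) (GLin.actPt k g x)).Finite := by
  apply Set.Finite.of_finite_image (f := fun s : A →ₐ[k] k =>
    (toConv g * toConv s * (toConv g)⁻¹).ofConv)
  · apply h.subset
    rintro _ ⟨s, hs, rfl⟩
    have hs' : GLin.actPt k s (GLin.actPt k g x) = GLin.actPt k g x := hs
    show GLin.actPt k (toConv g * toConv s * (toConv g)⁻¹).ofConv x = x
    have e1 : (toConv g * toConv s * (toConv g)⁻¹) =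
        toConv ((toConv g * toConv s).ofConv) * toConv (((toConv g)⁻¹).ofConv) := by
      rw [toConv_ofConv, toConv_ofConv]
    rw [e1, actPt_mul, actPt_mul, hs', actPt_inv_actPt]
  · intro s _ s' _ hss
    have h1 : toConv g * toConv s * (toConv g)⁻¹ = toConv g * toConv s' * (toConv g)⁻¹ :=
      ofConv_injective hss
    have h2 : toConv s = toConv s' := mul_left_cancel (mul_right_cancel h1)
    exact toConv_injective h2

end Stab

section Unbounded

theorem exists_unbounded_point (k : Type u) [Field k] [IsAlgClosed k] (B : Type u) [CommRing B]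
    [Algebra k B] [Algebra.FiniteType k B] (hnf : ¬ Module.Finite k B) :
    ∃ (R : Type u) (_ : CommRing R) (_ : IsDomain R) (_ : ValuationRing R) (_ : Algebra k R)
      (res : R →ₐ[k] k) (Ξ : B →ₐ[k] FractionRing R),
      RingHom.ker res = IsLocalRing.maximalIdeal R ∧
        ¬ ∀ x : B, ∃ r : R, algebraMap R (FractionRing R) r = Ξ x := by
  obtain ⟨b, hb⟩ : ∃ b : B, ¬ IsIntegral k b := by
    by_contra hcon
    rw [not_exists] at hcon
    haveI : Algebra.IsIntegral k B := ⟨fun b => not_not.mp (hcon b)⟩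
    exact hnf Algebra.IsIntegral.finite
  let A₀ := Localization.Away b
  let u : A₀ := IsLocalization.Away.invSelf b
  have hu : algebraMap B A₀ b * u = 1 := IsLocalization.Away.mul_invSelf b
  let ω : Polynomial k →ₐ[k] A₀ := Polynomial.aeval u
  let yy : Polynomial k →ₐ[k] k := Polynomial.aeval (0 : k)
  have hker : RingHom.ker ω ≤ RingHom.ker yy := by
    intro p hp
    have hp0 : p = 0 := by
      by_contra hpne
      apply hb
      have hpu : Polynomial.aeval u p = 0 := hp
      letI iu : Invertible u := ⟨algebraMap B A₀ b, hu, by rw [mul_comm]; exact hu⟩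
      have h1 := Polynomial.eval₂_reverse_mul_pow (algebraMap k A₀) u p
      rw [← Polynomial.aeval_def, ← Polynomial.aeval_def, hpu] at h1
      have h2 : Polynomial.aeval (⅟u) p.reverse = 0 := by
        have hunit : IsUnit (u ^ p.natDegree) := (isUnit_of_invertible u).pow _
        exact (hunit.mul_left_eq_zero).mp h1
      have h3 : algebraMap B A₀ (Polynomial.aeval b p.reverse) = 0 := by
        rw [← Polynomial.aeval_algebraMap_apply]; exact h2
      obtain ⟨⟨_, n, rfl⟩, hn⟩ := (IsLocalization.map_eq_zero_iff (Submonoid.powers b) A₀ _).mp h3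
      have h4 : Polynomial.aeval b (Polynomial.X ^ n * p.reverse) = 0 := by
        rw [map_mul, map_pow, Polynomial.aeval_X]; exact hn
      have hne : Polynomial.X ^ n * p.reverse ≠ 0 :=
        mul_ne_zero (pow_ne_zero _ Polynomial.X_ne_zero) (by rwa [Ne, Polynomial.reverse_eq_zero])
      exact (isAlgebraic_iff_isIntegral).mp ⟨_, hne, h4⟩
    rw [hp0]; exact Ideal.zero_mem _
  obtain ⟨R, iR, iD, iV, iA, res, Ξ₀, h, hres, hcomp, hresh⟩ :=
    H6.KP.exists_valuationRing_point k (Polynomial k) A₀ ω yy hker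
  refine ⟨R, iR, iD, iV, iA, res, Ξ₀.comp (IsScalarTower.toAlgHom k B A₀), hres, ?_⟩
  intro hall
  obtain ⟨r', hr'⟩ := hall b
  have hr_m : h Polynomial.X ∈ maximalIdeal R := by
    rw [← hres, RingHom.mem_ker]
    have := congrArg (fun φ : Polynomial k →ₐ[k] k => φ Polynomial.X) hresh
    simpa [yy] using this
  have hr_im : algebraMap R (FractionRing R) (h Polynomial.X) = Ξ₀ u := by
    have := congrArg (fun φ : Polynomial k →ₐ[k] FractionRing R => φ Polynomial.X) hcomp
    simpa [ω] using this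
  have h1 : algebraMap R (FractionRing R) (r' * h Polynomial.X) = 1 := by
    rw [map_mul, hr', hr_im, AlgHom.comp_apply, ← map_mul]
    change Ξ₀ (algebraMap B A₀ b * u) = 1
    rw [hu, map_one]
  have h2 : r' * h Polynomial.X = 1 :=
    IsFractionRing.injective R (FractionRing R) (by rw [h1, map_one])
  exact (mem_maximalIdeal _).mp hr_m (IsUnit.of_mul_eq_one r' (by rw [mul_comm]; exact h2))

end Unbounded

end Groth.Agent.H9.BinF
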