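import Mathlib
import Groth.Agent.Lib.Helper9.Misc.BinForms

/-!
# Stability of binary forms: the main theorems (helper9; S12546, S12547)
-/

set_option autoImplicit false
set_option linter.unusedSectionVars false
set_option linter.unusedVariables false
set_option linter.style.haveILetI false

open TensorProduct CoordGrp WithConv IsLocalRing

noncomputable section

namespace Groth.Agent.H9.BinF

universe u

open Groth.Agent.H9 Groth.Agent.H9.Comod Groth.Agent.H9.GIT Groth.Agent.H9.CLO

attribute [local instance] cS hS finiteType_SLn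

section Main
variable (k : Type u) [Field k] [IsAlgClosed k] [CharZero k] (d : ℕ)

/-- the valuative criterion, in coordinates -/
theorem val_data (a y : FormIdx 2 d → k)
    (hcl : GLin.InOrbitClosure k (SLn 2 k) (GLin.vecPt k (FormIdx 2 d) a)
      (GLin.vecPt k (FormIdx 2 d) y)) :
    ∃ (R : Type u) (_ : CommRing R) (_ : IsDomain R) (_ : ValuationRing R) (_ : Algebra k R)
      (res : R →ₐ[k] k) (M : Matrix (Fin 2) (Fin 2) (FractionRing R)) (c : FormIdx 2 d → R),
      RingHom.ker res = IsLocalRing.maximalIdeal R ∧ M.det = 1 ∧ (∀ m, res (c m) = y m) ∧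
      ∀ m, algebraMap R (FractionRing R) (c m) =
        actV k M (fun l => algebraMap k (FractionRing R) (a l)) m := by
  obtain ⟨R, iR, iD, iV, iA, res, Ξ, h, hres, hcomp, hresh⟩ :=
    H6.KP.exists_valuationRing_point k (FormRing k 2 d) (SLn 2 k)
      (GLin.orbitHom k (SLn 2 k) (GLin.vecPt k (FormIdx 2 d) a)) (GLin.vecPt k (FormIdx 2 d) y) hcl
  refine ⟨R, iR, iD, iV, iA, res, matOf Ξ, fun m => h (MvPolynomial.X m), hres, det_matOf Ξ, ?_, ?_⟩
  · intro m
    have := congrArg (fun φ : FormRing k 2 d →ₐ[k] k => φ (MvPolynomial.X m)) hresh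
    simpa [GLin.vecPt] using this
  · intro m
    have := congrArg (fun φ : FormRing k 2 d →ₐ[k] FractionRing R => φ (MvPolynomial.X m)) hcomp
    simp only [AlgHom.comp_apply, IsScalarTower.coe_toAlgHom'] at this
    rw [this, pt_orbitHom_X]
    rfl

theorem semistable_iff (v : FormIdx 2 d → k) :
    GLin.IsSemistableVec k (SLn 2 k) v ↔
      ∀ ℓ : MvPolynomial (Fin 2) k, ℓ.IsHomogeneous 1 → ℓ ≠ 0 →
        ∀ m : ℕ, ℓ ^ m ∣ formPoly v → 2 * m ≤ d := by
  constructor
  · intro hss ℓ hℓ hℓ0 μ hdvd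
    by_contra hlt
    rw [not_le] at hlt
    obtain ⟨N, hN, hb⟩ := exists_vanish_of_dvd v ℓ hℓ hℓ0 μ hdvd
    apply hss
    intro F hF D hD hhom
    have hb' : ∀ m : FormIdx 2 d, m.1 1 < m.1 0 → actV k N v m = 0 := fun m hm =>
      hb m (by have := degree_two m; omega)
    have hlim := limit_eval v N hN hb' F (MvPolynomial.eval v F)
      (fun M hM => eval_actV_of_mem_invariants F hF M hM v)
    have hzero : (fun m : FormIdx 2 d => actV k N v m * (0 : k) ^ ee m) = fun _ => 0 := by
      funext m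
      by_cases h0 : actV k N v m = 0
      · rw [h0, zero_mul]
      · have h1 : ¬ m.1 1 < μ := fun hm => h0 (hb m hm)
        have h2 : ee m ≠ 0 := by
          unfold ee
          have := degree_two m
          omega
        rw [zero_pow h2, mul_zero]
    rw [hzero] at hlim
    rw [← hlim]
    exact Nullcone.eval_zero_of_isHomogeneous hD hhom
  · intro hcrit
    rw [Nullcone.isSemistableVec_iff (hss k 2 d) (hLin k 2 d) v]
    intro hcl
    obtain ⟨R, iR, iD, iV, iA, res, M, c, hres, hdet, hy, hc⟩ := val_data k d v (fun _ => 0) hcl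
    have hcm : ∀ m, c m ∈ maximalIdeal R := by
      intro m
      rw [← hres, RingHom.mem_ker]
      exact hy m
    obtain ⟨N, hN, hb⟩ := core_main_null res hres M hdet v c hcm hc
    have hb' : ∀ m : FormIdx 2 d, m.1 1 < d / 2 + 1 → actV k N v m = 0 := fun m hm =>
      hb m (by have := degree_two m; omega)
    obtain ⟨ℓ, hℓ, hℓ0, hdvd⟩ := exists_form_of_vanish v N hN (d / 2 + 1) hb'
    have := hcrit ℓ hℓ hℓ0 _ hdvd
    omega

/-- a degenerate transform contradicts the strict criterion -/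
lemma absurd_of_deg (v : FormIdx 2 d → k)
    (hcrit : ∀ ℓ : MvPolynomial (Fin 2) k, ℓ.IsHomogeneous 1 → ℓ ≠ 0 →
        ∀ m : ℕ, ℓ ^ m ∣ formPoly v → 2 * m < d)
    (N : Matrix (Fin 2) (Fin 2) k) (hN : N.det = 1)
    (hb : ∀ m : FormIdx 2 d, m.1 1 < m.1 0 → actV k N v m = 0) : False := by
  have hb' : ∀ m : FormIdx 2 d, m.1 1 < (d + 1) / 2 → actV k N v m = 0 := fun m hm =>
    hb m (by have := degree_two m; omega)
  obtain ⟨ℓ, hℓ, hℓ0, hdvd⟩ := exists_form_of_vanish v N hN ((d + 1) / 2) hb'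
  have := hcrit ℓ hℓ hℓ0 _ hdvd
  omega

theorem stable_iff (v : FormIdx 2 d → k) :
    GLin.IsStableVec k (SLn 2 k) v ↔
      ∀ ℓ : MvPolynomial (Fin 2) k, ℓ.IsHomogeneous 1 → ℓ ≠ 0 →
        ∀ m : ℕ, ℓ ^ m ∣ formPoly v → 2 * m < d := by
  constructor
  · intro hst ℓ hℓ hℓ0 μ hdvd
    have hst' : St (A := SLn 2 k) (GLin.vecPt k (FormIdx 2 d) v) :=
      (isStablePt_iff_st _).mp hst
    obtain ⟨hclosed, hfin⟩ := hst'
    by_contra hlt
    rw [not_lt] at hlt
    obtain ⟨N, hN, hb⟩ := exists_vanish_of_dvd v ℓ hℓ hℓ0 μ hdvd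
    have hb' : ∀ m : FormIdx 2 d, m.1 1 < m.1 0 → actV k N v m = 0 := fun m hm =>
      hb m (by have := degree_two m; omega)
    set b0 : FormIdx 2 d → k := fun m => actV k N v m * (0 : k) ^ ee m with hb0
    -- the limit lies in the orbit closure
    have hIk : Ik (A := SLn 2 k) (GLin.vecPt k (FormIdx 2 d) v) ≤
        RingHom.ker (GLin.vecPt k (FormIdx 2 d) b0 : FormRing k 2 d →+* k) := by
      intro f hf
      rw [mem_Ik] at hf
      rw [RingHom.mem_ker]
      have hlim := limit_eval v N hN hb' f 0 (fun M hM => by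
        have := hf (SLn.pt 2 k M hM)
        rw [actPt_pt] at this
        simpa [GLin.vecPt, MvPolynomial.aeval_eq_eval] using this)
      simpa [GLin.vecPt, MvPolynomial.aeval_eq_eval] using hlim
    obtain ⟨g', hg'⟩ := hclosed _ hIk
    -- the stabiliser of the limit is infinite
    have hinf : (StabK (A := SLn 2 k) (GLin.vecPt k (FormIdx 2 d) b0)).Infinite := by
      have hne : ∀ n : ℕ, ((n : k) + 1) ≠ 0 := fun n => Nat.cast_add_one_ne_zero n
      apply Set.infinite_of_injective_forall_mem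
        (f := fun n : ℕ => SLn.pt 2 k (Dt ((n : k) + 1)) (det_Dt (hne n)))
      · intro n n' hnn
        have h1 := congrArg (fun φ : SLn 2 k →ₐ[k] k => φ (SLn.X 1 1)) hnn
        simp only [SLn.pt_X, Dt, Matrix.diagonal_apply_eq] at h1
        have h2 : ((n : k) + 1) = (n' : k) + 1 := h1
        exact Nat.cast_injective (add_right_cancel h2)
      · intro n
        show GLin.actPt k _ _ = _
        rw [actPt_pt]
        congr 1
        funext m
        have hb0' : ∀ m : FormIdx 2 d, m.1 1 < m.1 0 → b0 m = 0 := fun m hm => by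
          rw [hb0]; simp only; rw [hb' m hm, zero_mul]
        rw [actV_Dt b0 hb0' (hne n)]
        by_cases he : ee m = 0
        · rw [he, pow_zero, mul_one]
        · rw [hb0]; simp only
          rw [zero_pow he, mul_zero, zero_mul]
    rw [hg'] at hinf
    exact hinf (stabK_finite_actPt g' _ hfin)
  · intro hcrit
    refine ⟨?_, ?_⟩
    · -- closed orbit
      rw [isClosedOrbit_iff_closedPt]
      intro z hz
      rw [exists_vecPt z] at hz ⊢
      set y : FormIdx 2 d → k := fun i => z (MvPolynomial.X i) with hy_def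
      have hcl : GLin.InOrbitClosure k (SLn 2 k) (GLin.vecPt k (FormIdx 2 d) v)
          (GLin.vecPt k (FormIdx 2 d) y) := by
        intro f hf
        apply hz
        rw [mem_Ik]
        intro g
        change g (GLin.orbitHom k (SLn 2 k) (GLin.vecPt k (FormIdx 2 d) v) f) = 0
        rw [RingHom.mem_ker.mp hf, map_zero]
      obtain ⟨R, iR, iD, iV, iA, res, M, c, hres, hdet, hy, hc⟩ := val_data k d v y hcl
      rcases core_main res hres M hdet v c hc with ⟨⟨N, hN, hNy⟩, -⟩ | ⟨N, hN, hb⟩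
      · refine ⟨SLn.pt 2 k N hN, ?_⟩
        rw [actPt_pt]
        congr 1
        funext m
        rw [← hy m, hNy m]
      · exact (absurd_of_deg k d v hcrit N hN hb).elim
    · -- finite stabiliser
      by_contra hnf
      unfold GLin.HasFiniteStab at hnf
      set I := GLin.stabIdeal k (SLn 2 k) (GLin.vecPt k (FormIdx 2 d) v) with hI
      haveI : Algebra.FiniteType k (SLn 2 k ⧸ I) :=
        Algebra.FiniteType.of_surjective (Ideal.Quotient.mkₐ k I) (Ideal.Quotient.mkₐ_surjective k I)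
      obtain ⟨R, iR, iD, iV, iA, res, ΞB, hres, hunb⟩ :=
        exists_unbounded_point k (SLn 2 k ⧸ I) hnf
      set Ξ : SLn 2 k →ₐ[k] FractionRing R := ΞB.comp (Ideal.Quotient.mkₐ k I) with hΞ
      have hc : ∀ m, algebraMap R (FractionRing R) (algebraMap k R (v m)) =
          actV k (matOf Ξ) (fun l => algebraMap k (FractionRing R) (v l)) m := by
        intro m
        have h1 := pt_orbitHom_X Ξ v m
        have h2 : (MvPolynomial.X m - MvPolynomial.C (v m) : FormRing k 2 d) ∈
            RingHom.ker (GLin.vecPt k (FormIdx 2 d) v) := by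
          rw [RingHom.mem_ker]; simp [GLin.vecPt]
        have h3 : GLin.orbitHom k (SLn 2 k) (GLin.vecPt k (FormIdx 2 d) v)
            (MvPolynomial.X m - MvPolynomial.C (v m)) ∈ I := Ideal.mem_map_of_mem _ h2
        have h4 : Ξ (GLin.orbitHom k (SLn 2 k) (GLin.vecPt k (FormIdx 2 d) v)
            (MvPolynomial.X m - MvPolynomial.C (v m))) = 0 := by
          rw [hΞ, AlgHom.comp_apply]
          have : (Ideal.Quotient.mkₐ k I) (GLin.orbitHom k (SLn 2 k) (GLin.vecPt k (FormIdx 2 d) v)
              (MvPolynomial.X m - MvPolynomial.C (v m))) = 0 :=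
            Ideal.Quotient.eq_zero_iff_mem.mpr h3
          rw [this, map_zero]
        rw [map_sub, map_sub, sub_eq_zero] at h4
        rw [← IsScalarTower.algebraMap_apply]
        have h5 : (MvPolynomial.C (v m) : FormRing k 2 d) = algebraMap k _ (v m) := rfl
        rw [h5, AlgHom.commutes, AlgHom.commutes] at h4
        rw [← h4, h1]
        rfl
      rcases core_main res hres (matOf Ξ) (det_matOf Ξ) v (fun m => algebraMap k R (v m)) hc with
        ⟨-, MR, hMR, hMeq⟩ | ⟨N, hN, hb⟩
      · apply hunb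
        intro x
        obtain ⟨x', rfl⟩ := Ideal.Quotient.mkₐ_surjective k I x
        have hΞeq : Ξ = (IsScalarTower.toAlgHom k R (FractionRing R)).comp (SLn.pt 2 k MR hMR) := by
          apply SLn.algHom_ext
          · intro i j
            have : Ξ (SLn.X i j) = matOf Ξ i j := rfl
            rw [this, hMeq, AlgHom.comp_apply, SLn.pt_X]
            rfl
          · rw [mk_Dinv', map_one, map_one]
        refine ⟨SLn.pt 2 k MR hMR x', ?_⟩
        have : ΞB ((Ideal.Quotient.mkₐ k I) x') = Ξ x' := rfl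
        rw [this, hΞeq]
        rfl
      · exact absurd_of_deg k d v hcrit N hN hb

end Main

section Final
open CoordGrp

theorem s12547 (k : Type u) [Field k] [IsAlgClosed k] [CharZero k]
    (d : ℕ) (a : Fin (d + 1) → k) (ha : a ≠ 0) :
    @GLin.IsSemistableVec k _ (CoordGrp.SLn 2 k) _ _ (CoordGrp.FormIdx 2 d) (GLin.comodAlong ((CoordGrp.SLn.mkHom 2 k).comp (CoordGrp.Mat.toGLn 2 k)) (CoordGrp.formsCoact k 2 d))
      (GLin.isCoactAlg_comodAlong ((CoordGrp.SLn.mkHom 2 k).comp (CoordGrp.Mat.toGLn 2 k)) (CoordGrp.formsCoact k 2 d)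
        (CoordGrp.formsCoact_isCoactAlg k 2 d))
      (CoordGrp.binVec d a) ↔
      ∀ ℓ : MvPolynomial (Fin 2) k, ℓ.IsHomogeneous 1 → ℓ ≠ 0 →
        ∀ m : ℕ, ℓ ^ m ∣ CoordGrp.formPoly (CoordGrp.binVec d a) → 2 * m ≤ d :=
  semistable_iff k d (binVec d a)

theorem s12546 (k : Type u) [Field k] [IsAlgClosed k] [CharZero k]
    (d : ℕ) (a : Fin (d + 1) → k) (ha : a ≠ 0) :
    @GLin.IsStableVec k _ (CoordGrp.SLn 2 k) _ _ (CoordGrp.FormIdx 2 d) (GLin.comodAlong ((CoordGrp.SLn.mkHom 2 k).comp (CoordGrp.Mat.toGLn 2 k)) (CoordGrp.formsCoact k 2 d))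
      (GLin.isCoactAlg_comodAlong ((CoordGrp.SLn.mkHom 2 k).comp (CoordGrp.Mat.toGLn 2 k)) (CoordGrp.formsCoact k 2 d)
        (CoordGrp.formsCoact_isCoactAlg k 2 d))
      (CoordGrp.binVec d a) ↔
      ∀ ℓ : MvPolynomial (Fin 2) k, ℓ.IsHomogeneous 1 → ℓ ≠ 0 →
        ∀ m : ℕ, ℓ ^ m ∣ CoordGrp.formPoly (CoordGrp.binVec d a) → 2 * m < d :=
  stable_iff k d (binVec d a)

end Final

end Groth.Agent.H9.BinF
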