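import Mathlib

/-! Helper9: edge labellings of bipartite graphs with prescribed vertex sums -/

namespace Groth.Agent.H9.BipFlow

open Finset SimpleGraph

variable {V : Type*} [Fintype V] [DecidableEq V] {A : Type*} [AddCommGroup A]

/-- indicator labelling of a single edge -/
def delta (e : Sym2 V) (b : A) : Sym2 V → A := fun e' => if e' = e then b else 0

/-- vertex sum -/
def vs (G : SimpleGraph V) [DecidableRel G.Adj] (x : Sym2 V → A) (t : V) : A :=
  ∑ e ∈ G.incidenceFinset t, x e

theorem vs_add (G : SimpleGraph V) [DecidableRel G.Adj] (x y : Sym2 V → A) (t : V) :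
    vs G (x + y) t = vs G x t + vs G y t := by
  simp [vs, Finset.sum_add_distrib]

theorem vs_zero (G : SimpleGraph V) [DecidableRel G.Adj] (t : V) :
    vs G (0 : Sym2 V → A) t = 0 := by
  simp [vs]

theorem vs_delta (G : SimpleGraph V) [DecidableRel G.Adj] {u w : V} (h : G.Adj u w) (b : A) (t : V) :
    vs G (delta s(u, w) b) t = (if t = u then b else 0) + (if t = w then b else 0) := by
  unfold vs delta
  rw [Finset.sum_ite_eq']
  have huw : u ≠ w := h.ne
  have hmem : s(u, w) ∈ G.incidenceFinset t ↔ (t = u ∨ t = w) := by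
    rw [SimpleGraph.mem_incidenceFinset, SimpleGraph.mk'_mem_incidenceSet_iff]
    constructor
    · rintro ⟨-, h1 | h1⟩
      · exact Or.inl h1
      · exact Or.inr h1
    · rintro (h1 | h1)
      · exact ⟨h, Or.inl h1⟩
      · exact ⟨h, Or.inr h1⟩
  by_cases h1 : t = u
  · subst h1
    rw [if_pos (hmem.2 (Or.inl rfl)), if_pos rfl, if_neg huw, add_zero]
  · by_cases h2 : t = w
    · subst h2
      rw [if_pos (hmem.2 (Or.inr rfl)), if_neg h1, if_pos rfl, zero_add]
    · rw [if_neg (fun hh => (hmem.1 hh).elim h1 h2), if_neg h1, if_neg h2, add_zero]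

/-- the alternating labelling along a walk (in any graph `H`) -/
def chi {H : SimpleGraph V} (a : A) : ∀ {u v : V}, H.Walk u v → (Sym2 V → A)
  | _, _, .nil => 0
  | u, _, @SimpleGraph.Walk.cons _ _ _ w _ _ p => chi a p + delta s(u, w) (((-1 : ℤ) ^ p.length) • a)

theorem chi_nil {H : SimpleGraph V} (a : A) (u : V) : chi a (SimpleGraph.Walk.nil : H.Walk u u) = 0 := rfl

theorem chi_cons {H : SimpleGraph V} (a : A) {u w v : V} (h : H.Adj u w) (p : H.Walk w v) :
    chi a (SimpleGraph.Walk.cons h p) = chi a p + delta s(u, w) (((-1 : ℤ) ^ p.length) • a) := rfl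

theorem chi_add {H : SimpleGraph V} (a b : A) {u v : V} (p : H.Walk u v) :
    chi (a + b) p = chi a p + chi b p := by
  induction p with
  | nil => simp [chi_nil]
  | cons h p ih =>
    rw [chi_cons, chi_cons, chi_cons, ih]
    funext e
    simp only [Pi.add_apply, delta]
    split_ifs
    · rw [smul_add]; abel
    · abel

theorem chi_off {H : SimpleGraph V} (a : A) {u v : V} (p : H.Walk u v) (e : Sym2 V)
    (he : e ∉ H.edgeSet) : chi a p e = 0 := by
  induction p with
  | nil => simp [chi_nil]
  | @cons u w v h p ih =>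
    rw [chi_cons, Pi.add_apply, ih, zero_add]
    unfold delta
    rw [if_neg]
    rintro rfl
    exact he ((SimpleGraph.mem_edgeSet H).2 h)

theorem vs_chi (G : SimpleGraph V) [DecidableRel G.Adj] {H : SimpleGraph V} (hHG : H ≤ G) (a : A)
    {u v : V} (p : H.Walk u v) (t : V) :
    vs G (chi a p) t = (if t = v then a else 0) - (if t = u then ((-1 : ℤ) ^ p.length) • a else 0) := by
  induction p with
  | nil => simp [chi_nil, vs_zero]
  | @cons u w v h p ih =>
    rw [chi_cons, vs_add, ih, vs_delta G (hHG h)]
    have huw : u ≠ w := h.ne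
    simp only [SimpleGraph.Walk.length_cons, pow_succ]
    by_cases h1 : t = u
    · subst h1
      simp [huw, neg_smul]
    · by_cases h2 : t = w
      · subst h2
        simp [h1]
      · simp [h1, h2]

theorem parity {H : SimpleGraph V} (c : V → Bool) (hbip : ∀ v w : V, H.Adj v w → c v ≠ c w)
    {u v : V} (p : H.Walk u v) : ((-1 : ℤ) ^ p.length) = if c u = c v then 1 else -1 := by
  induction p with
  | nil => simp
  | @cons u w v h p ih =>
    rw [SimpleGraph.Walk.length_cons, pow_succ, ih]
    have := hbip u w h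
    cases hu : c u <;> cases hw : c w <;> cases hv : c v <;> simp_all

theorem s13409 (G : SimpleGraph V) [DecidableRel G.Adj] (hconn : G.Connected) (c : V → Bool)
    (hbip : ∀ v w : V, G.Adj v w → c v ≠ c w) (a : V → A)
    (hsum : ∑ v ∈ Finset.univ.filter (fun v => c v = true), a v =
      ∑ v ∈ Finset.univ.filter (fun v => c v = false), a v) :
    ∃ x : Sym2 V → A, ∀ v : V, ∑ e ∈ G.incidenceFinset v, x e = a v := by
  classical
  obtain ⟨r⟩ := hconn.nonempty
  let p : ∀ v, G.Walk r v := fun v => (hconn.preconnected r v).some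
  refine ⟨∑ v, chi (a v) (p v), ?_⟩
  intro t
  have hvs : ∀ (s : Finset V), vs G (∑ v ∈ s, chi (a v) (p v)) t = ∑ v ∈ s, vs G (chi (a v) (p v)) t := by
    intro s
    induction s using Finset.induction_on with
    | empty => simp [vs_zero]
    | insert v s hv ih => rw [Finset.sum_insert hv, Finset.sum_insert hv, vs_add, ih]
  change vs G (∑ v, chi (a v) (p v)) t = a t
  rw [hvs]
  simp_rw [vs_chi G le_rfl, parity c hbip]
  rw [Finset.sum_sub_distrib, Finset.sum_ite_eq, if_pos (Finset.mem_univ _)]
  have hz : ∑ v, (if c r = c v then (1 : ℤ) else -1) • a v = 0 := by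
    rw [← Finset.sum_filter_add_sum_filter_not Finset.univ (fun v => c v = true)]
    have e1 : ∑ v ∈ Finset.univ.filter (fun v => c v = true), (if c r = c v then (1 : ℤ) else -1) • a v =
        (if c r = true then (1 : ℤ) else -1) • ∑ v ∈ Finset.univ.filter (fun v => c v = true), a v := by
      rw [Finset.smul_sum]
      refine Finset.sum_congr rfl (fun v hv => ?_)
      rw [(Finset.mem_filter.1 hv).2]
    have e0 : ∑ v ∈ Finset.univ.filter (fun v => ¬ c v = true), (if c r = c v then (1 : ℤ) else -1) • a v =
        (if c r = false then (1 : ℤ) else -1) • ∑ v ∈ Finset.univ.filter (fun v => c v = false), a v := by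
      rw [Finset.smul_sum]
      have : Finset.univ.filter (fun v => ¬ c v = true) = Finset.univ.filter (fun v => c v = false) := by
        refine Finset.filter_congr (fun v _ => ?_)
        simp
      rw [this]
      refine Finset.sum_congr rfl (fun v hv => ?_)
      rw [(Finset.mem_filter.1 hv).2]
    rw [e1, e0, hsum]
    cases hr : c r <;> simp
  by_cases h : t = r
  · subst h
    simp only [if_true]
    rw [hz, sub_zero]
  · simp [h]

end Groth.Agent.H9.BipFlow
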