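import Mathlib
import Groth.Agent.Lib.Helper9.Misc.BipFlow1

/-! Helper9: circulations attached to non-bridge edges of bipartite graphs -/

namespace Groth.Agent.H9.BipFlow

open Finset SimpleGraph

variable {V : Type*} [Fintype V] [DecidableEq V] {A : Type*} [AddCommGroup A]

theorem delta_add (e : Sym2 V) (a b : A) : delta e (a + b) = delta e a + delta e b := by
  funext e'
  simp only [delta, Pi.add_apply]
  split_ifs <;> simp

/-- the circulation attached to a non-tree edge `s(u,w)` and a walk from `w` to `u` avoiding it -/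
def phi {H : SimpleGraph V} {u w : V} (p : H.Walk w u) : A →+ (Sym2 V → A) :=
  AddMonoidHom.mk' (fun a => delta s(u, w) a + chi (-a) p) (by
    intro a b
    rw [delta_add, neg_add, chi_add]
    abel)

theorem phi_apply {H : SimpleGraph V} {u w : V} (p : H.Walk w u) (a : A) :
    phi p a = delta s(u, w) a + chi (-a) p := rfl

theorem phi_self {H : SimpleGraph V} {u w : V} (p : H.Walk w u) (hH : s(u, w) ∉ H.edgeSet) (a : A) :
    phi p a s(u, w) = a := by
  rw [phi_apply, Pi.add_apply, chi_off _ _ _ hH, add_zero]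
  simp [delta]

theorem phi_off {H : SimpleGraph V} {u w : V} (p : H.Walk w u) (a : A) (e : Sym2 V)
    (he : e ∉ H.edgeSet) (he' : e ≠ s(u, w)) : phi p a e = 0 := by
  rw [phi_apply, Pi.add_apply, chi_off _ _ _ he, add_zero]
  simp [delta, he']

theorem phi_vs (G : SimpleGraph V) [DecidableRel G.Adj] (c : V → Bool)
    (hbip : ∀ v w : V, G.Adj v w → c v ≠ c w) {H : SimpleGraph V} (hHG : H ≤ G) {u w : V}
    (huw : G.Adj u w) (p : H.Walk w u) (a : A) (t : V) : vs G (phi p a) t = 0 := by
  rw [phi_apply, vs_add, vs_delta G huw, vs_chi G hHG,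
    parity c (fun v w h => hbip v w (hHG h)) p]
  have hc : c w ≠ c u := (hbip u w huw).symm
  rw [if_neg hc]
  have hne : u ≠ w := huw.ne
  by_cases h1 : t = u
  · subst h1
    simp [hne]
  · by_cases h2 : t = w
    · subst h2
      simp [h1]
    · simp [h1, h2]

theorem s13410 (G : SimpleGraph V) [DecidableRel G.Adj] (c : V → Bool)
    (hbip : ∀ v w : V, G.Adj v w → c v ≠ c w) (e₀ : Sym2 V)
    (he₀ : e₀ ∈ G.edgeSet) (hdel : (G.deleteEdges {e₀}).Connected) :
    ∃ φ : A →+ (Sym2 V → A),
      (∀ a : A, (∀ e : Sym2 V, e ∉ G.edgeSet → φ a e = 0) ∧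
        ∀ v : V, ∑ e ∈ G.incidenceFinset v, φ a e = 0) ∧
      ∀ a : A, φ a e₀ = a := by
  classical
  induction e₀ using Sym2.ind with
  | _ u w =>
    have huw : G.Adj u w := (SimpleGraph.mem_edgeSet G).1 he₀
    let H := G.deleteEdges {s(u, w)}
    have hHG : H ≤ G := SimpleGraph.deleteEdges_le _
    have hH : s(u, w) ∉ H.edgeSet := by
      simp [H, SimpleGraph.edgeSet_deleteEdges]
    let p : H.Walk w u := (hdel.preconnected w u).some
    refine ⟨phi p, fun a => ⟨fun e he => ?_, fun v => phi_vs G c hbip hHG huw p a v⟩,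
      fun a => phi_self p hH a⟩
    refine phi_off p a e (fun h => he (SimpleGraph.edgeSet_mono hHG h)) ?_
    rintro rfl
    exact he he₀

end Groth.Agent.H9.BipFlow
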