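import Mathlib
import Groth.Agent.Lib.Helper9.Misc.BipFlow2

/-! Helper9: the group of circulations of a connected bipartite graph -/

namespace Groth.Agent.H9.BipFlow

open Finset SimpleGraph

variable {V : Type*} [Fintype V] [DecidableEq V] {A : Type*} [AddCommGroup A]

theorem vs_sub (G : SimpleGraph V) [DecidableRel G.Adj] (x y : Sym2 V → A) (t : V) :
    vs G (x - y) t = vs G x t - vs G y t := by
  simp [vs, Finset.sum_sub_distrib]

theorem vs_sum (G : SimpleGraph V) [DecidableRel G.Adj] {ι : Type*} (s : Finset ι)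
    (x : ι → Sym2 V → A) (t : V) : vs G (∑ i ∈ s, x i) t = ∑ i ∈ s, vs G (x i) t := by
  classical
  induction s using Finset.induction_on with
  | empty => simp [vs_zero]
  | insert v s hv ih => rw [Finset.sum_insert hv, Finset.sum_insert hv, vs_add, ih]

/-- a labelling supported on a forest inside a bipartite graph, with zero vertex sums, vanishes -/
theorem tree_zero (G : SimpleGraph V) [DecidableRel G.Adj] (c : V → Bool)
    (hbip : ∀ v w : V, G.Adj v w → c v ≠ c w) (T : SimpleGraph V) (hTG : T ≤ G) (hT : T.IsAcyclic)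
    (y : Sym2 V → A) (hy : ∀ e, e ∉ T.edgeSet → y e = 0) (hvs : ∀ t, vs G y t = 0) : y = 0 := by
  classical
  funext e
  by_cases heT : e ∈ T.edgeSet
  swap
  · exact hy e heT
  induction e using Sym2.ind with
  | _ u w =>
  have hTuw : T.Adj u w := (SimpleGraph.mem_edgeSet T).1 heT
  have hbr : ¬ (T.deleteEdges {s(u, w)}).Reachable u w :=
    SimpleGraph.isBridge_iff.1 (SimpleGraph.isAcyclic_iff_forall_adj_isBridge.1 hT hTuw)
  set T' := T.deleteEdges {s(u, w)} with hT'
  let U : Finset V := Finset.univ.filter (fun v => T'.Reachable u v)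
  let σ : V → ℤ := fun v => if c v = true then 1 else -1
  have hσ : ∀ a b, G.Adj a b → σ a + σ b = 0 := by
    intro a b hab
    have := hbip a b hab
    simp only [σ]
    cases ha : c a <;> cases hb : c b <;> simp_all
  have h0 : ∑ v ∈ U, σ v • vs G y v = 0 := by
    apply Finset.sum_eq_zero
    intro v _
    rw [hvs, smul_zero]
  have h1 : ∑ v ∈ U, σ v • vs G y v =
      ∑ e ∈ G.edgeFinset, ∑ v ∈ U.filter (fun v => v ∈ e), σ v • y e := by
    unfold vs
    simp_rw [Finset.smul_sum]
    apply Finset.sum_comm'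
    intro v e
    constructor
    · rintro ⟨hv, he⟩
      rw [SimpleGraph.mem_incidenceFinset] at he
      exact ⟨Finset.mem_filter.2 ⟨hv, he.2⟩, SimpleGraph.mem_edgeFinset.2 he.1⟩
    · rintro ⟨hv, he⟩
      have hv' := Finset.mem_filter.1 hv
      refine ⟨hv'.1, ?_⟩
      rw [SimpleGraph.mem_incidenceFinset]
      exact ⟨SimpleGraph.mem_edgeFinset.1 he, hv'.2⟩
  have hfil : ∀ a b : V, U.filter (fun v => v ∈ s(a, b)) = ({a, b} : Finset V).filter (fun v => v ∈ U) := by
    intro a b
    ext v
    simp only [Finset.mem_filter, Sym2.mem_iff, Finset.mem_insert, Finset.mem_singleton]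
    tauto
  have h2 : ∀ e ∈ G.edgeFinset, e ≠ s(u, w) → ∑ v ∈ U.filter (fun v => v ∈ e), σ v • y e = 0 := by
    intro e he hne
    by_cases heT' : e ∈ T.edgeSet
    swap
    · rw [hy e heT']
      simp
    induction e using Sym2.ind with
    | _ a b =>
    have hab : T.Adj a b := (SimpleGraph.mem_edgeSet T).1 heT'
    have hab' : T'.Adj a b := by
      rw [hT', SimpleGraph.deleteEdges_adj]
      exact ⟨hab, by simpa using hne⟩
    have hU : a ∈ U ↔ b ∈ U := by
      simp only [U, Finset.mem_filter, Finset.mem_univ, true_and]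
      exact ⟨fun h => h.trans hab'.reachable, fun h => h.trans hab'.symm.reachable⟩
    rw [hfil, Finset.sum_filter, Finset.sum_pair hab.ne]
    by_cases ha : a ∈ U
    · rw [if_pos ha, if_pos (hU.1 ha), ← add_smul, hσ a b (hTG hab), zero_smul]
    · rw [if_neg ha, if_neg (fun h => ha (hU.2 h)), add_zero]
  have h3 : ∑ v ∈ U.filter (fun v => v ∈ s(u, w)), σ v • y s(u, w) = σ u • y s(u, w) := by
    have hu : u ∈ U := by
      simp only [U, Finset.mem_filter, Finset.mem_univ, true_and]
      exact SimpleGraph.Reachable.refl u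
    have hw : w ∉ U := by
      simp only [U, Finset.mem_filter, Finset.mem_univ, true_and]
      exact hbr
    rw [hfil, Finset.sum_filter, Finset.sum_pair hTuw.ne, if_pos hu, if_neg hw, add_zero]
  have hmem : s(u, w) ∈ G.edgeFinset := by
    rw [SimpleGraph.mem_edgeFinset]
    exact SimpleGraph.edgeSet_mono hTG heT
  rw [h1, Finset.sum_eq_single_of_mem s(u, w) hmem (fun e he hne => h2 e he hne), h3] at h0
  have hσu : σ u = 1 ∨ σ u = -1 := by
    simp only [σ]
    split_ifs <;> simp
  rcases hσu with h | h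
  · rw [h, one_smul] at h0
    exact h0
  · rw [h, neg_smul, one_smul, neg_eq_zero] at h0
    exact h0

theorem s13411 (G : SimpleGraph V) [DecidableRel G.Adj] (hconn : G.Connected) (c : V → Bool)
    (hbip : ∀ v w : V, G.Adj v w → c v ≠ c w) (n : ℕ)
    (hn : G.edgeFinset.card + 1 = Fintype.card V + n) :
    ∃ f : (Fin n → A) →+ (Sym2 V → A), Function.Injective f ∧
      Set.range f = {x : Sym2 V → A | (∀ e : Sym2 V, e ∉ G.edgeSet → x e = 0) ∧
        ∀ v : V, ∑ e ∈ G.incidenceFinset v, x e = 0} := by
  classical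
  obtain ⟨T, hTG, hT⟩ := hconn.exists_isTree_le
  have hTcard := hT.card_edgeFinset
  have hsubE : T.edgeFinset ⊆ G.edgeFinset := by
    intro e he
    rw [SimpleGraph.mem_edgeFinset] at he ⊢
    exact SimpleGraph.edgeSet_mono hTG he
  set D : Finset (Sym2 V) := G.edgeFinset \ T.edgeFinset with hD
  have hDcard : D.card = n := by
    rw [hD, Finset.card_sdiff_of_subset hsubE]
    omega
  have hDmem : ∀ e, e ∈ D ↔ e ∈ G.edgeSet ∧ e ∉ T.edgeSet := by
    intro e
    rw [hD, Finset.mem_sdiff, SimpleGraph.mem_edgeFinset, SimpleGraph.mem_edgeFinset]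
  let ε : Fin n ≃ D := (Finset.equivFinOfCardEq hDcard).symm
  let uu : Fin n → V := fun i => (Quot.out (ε i).1).1
  let ww : Fin n → V := fun i => (Quot.out (ε i).1).2
  have hε : ∀ i, s(uu i, ww i) = (ε i).1 := fun i => Quot.out_eq (ε i).1
  have hεG : ∀ i, G.Adj (uu i) (ww i) := by
    intro i
    have := ((hDmem _).1 (ε i).2).1
    rw [← hε i] at this
    exact (SimpleGraph.mem_edgeSet G).1 this
  have hεT : ∀ i, s(uu i, ww i) ∉ T.edgeSet := by
    intro i
    have := ((hDmem _).1 (ε i).2).2
    rw [← hε i] at this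
    exact this
  let p : ∀ i, T.Walk (ww i) (uu i) := fun i => (hT.1.preconnected (ww i) (uu i)).some
  let f : (Fin n → A) →+ (Sym2 V → A) :=
    ∑ i, (phi (p i)).comp (Pi.evalAddMonoidHom (fun _ => A) i)
  have hf : ∀ a, f a = ∑ i, phi (p i) (a i) := by
    intro a
    simp [f]
  have hfe : ∀ a j, f a s(uu j, ww j) = a j := by
    intro a j
    rw [hf, Finset.sum_apply, Finset.sum_eq_single_of_mem j (Finset.mem_univ j)]
    · exact phi_self (p j) (hεT j) (a j)
    · intro i _ hij
      refine phi_off (p i) (a i) _ (hεT j) ?_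
      intro h
      apply hij
      have : (ε j).1 = (ε i).1 := by rw [← hε j, ← hε i, h]
      exact (ε.injective (Subtype.ext this)).symm
  have hfoff : ∀ a e, e ∉ G.edgeSet → f a e = 0 := by
    intro a e he
    rw [hf, Finset.sum_apply]
    apply Finset.sum_eq_zero
    intro i _
    refine phi_off (p i) (a i) e (fun h => he (SimpleGraph.edgeSet_mono hTG h)) ?_
    rintro rfl
    exact he ((SimpleGraph.mem_edgeSet G).2 (hεG i))
  have hfvs : ∀ a t, vs G (f a) t = 0 := by
    intro a t
    rw [hf, vs_sum]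
    apply Finset.sum_eq_zero
    intro i _
    exact phi_vs G c hbip hTG (hεG i) (p i) (a i) t
  refine ⟨f, ?_, ?_⟩
  · rw [injective_iff_map_eq_zero]
    intro a ha
    funext j
    have := hfe a j
    rw [ha] at this
    exact this.symm
  · ext x
    simp only [Set.mem_range, Set.mem_ofPred_eq]
    constructor
    · rintro ⟨a, rfl⟩
      exact ⟨hfoff a, hfvs a⟩
    · rintro ⟨hx1, hx2⟩
      let a : Fin n → A := fun i => x s(uu i, ww i)
      refine ⟨a, ?_⟩
      have hy : x - f a = 0 := by
        apply tree_zero G c hbip T hTG hT.2 (x - f a)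
        · intro e he
          by_cases heG : e ∈ G.edgeSet
          · have heD : e ∈ D := (hDmem e).2 ⟨heG, he⟩
            obtain ⟨j, hj⟩ := ε.surjective ⟨e, heD⟩
            have hej : e = s(uu j, ww j) := by
              rw [hε j, hj]
            rw [hej, Pi.sub_apply, hfe a j]
            exact sub_self _
          · rw [Pi.sub_apply, hx1 e heG, hfoff a e heG, sub_zero]
        · intro t
          rw [vs_sub, hfvs a t, sub_zero]
          exact hx2 t
      exact (sub_eq_zero.1 hy).symm

end Groth.Agent.H9.BipFlow
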