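import Mathlib

universe u

open CategoryTheory AlgebraicGeometry TopologicalSpace

namespace Groth.Agent.H9.Birat

variable {X Y Z : Scheme.{u}}

theorem comp_hom_fac [PreirreducibleSpace X] [Nonempty Y] (f₀ : X.PartialMap Y)
    [IsDominant f₀.hom] (g₀ : Y.PartialMap Z) :
    ∃ (hD : (f₀.comp g₀).domain ≤ f₀.domain)
      (s : (f₀.comp g₀).domain.toScheme ⟶ g₀.domain.toScheme),
      s ≫ g₀.domain.ι = X.homOfLE hD ≫ f₀.hom ∧ (f₀.comp g₀).hom = s ≫ g₀.hom := by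
  refine ⟨f₀.domain.ι_image_le _, (f₀.domain.ι.isoImage _).inv ≫ f₀.hom ∣_ g₀.domain, ?_, ?_⟩
  · have := Scheme.Opens.isoImage_ι_inv_ι f₀.domain (f₀.hom ⁻¹ᵁ g₀.domain)
    rw [Category.assoc, morphismRestrict_ι, ← Category.assoc]
    exact congrArg (· ≫ f₀.hom) this
  · exact (Category.assoc _ _ _).symm

theorem homOfLE_eq_of_ι_eq {U A : X.Opens} (h : A ≤ U) (p : A.toScheme) (u : U.toScheme)
    (hu : U.ι u = A.ι p) : X.homOfLE h p = u := by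
  apply U.ι.isOpenEmbedding.injective
  rw [hu, ← Scheme.Hom.comp_apply, Scheme.homOfLE_ι]

theorem P1 [PreirreducibleSpace X] [Nonempty Y] (f₀ : X.PartialMap Y) [IsDominant f₀.hom]
    (g₀ : Y.PartialMap X) (W : X.Opens) (hWl : W ≤ (f₀.comp g₀).domain)
    (E : X.homOfLE hWl ≫ (f₀.comp g₀).hom = W.ι)
    {T : Scheme.{u}} (t : T ⟶ f₀.domain.toScheme) (s' : T ⟶ g₀.domain.toScheme)
    (hts : t ≫ f₀.hom = s' ≫ g₀.domain.ι)
    (hT : ∀ p : T, (t ≫ f₀.domain.ι) p ∈ W) : s' ≫ g₀.hom = t ≫ f₀.domain.ι := by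
  obtain ⟨hD, s, hs1, hs2⟩ := comp_hom_fac f₀ g₀
  have hr : Set.range (t ≫ f₀.domain.ι) ⊆ Set.range W.ι := by
    rw [Scheme.Opens.range_ι]; rintro _ ⟨p, rfl⟩; exact hT p
  have ht' : IsOpenImmersion.lift W.ι (t ≫ f₀.domain.ι) hr ≫ W.ι = t ≫ f₀.domain.ι :=
    IsOpenImmersion.lift_fac _ _ _
  generalize IsOpenImmersion.lift W.ι (t ≫ f₀.domain.ι) hr = t' at ht'
  have h1 : t' ≫ X.homOfLE hWl ≫ X.homOfLE hD = t := by
    rw [← cancel_mono f₀.domain.ι]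
    simp only [Category.assoc, Scheme.homOfLE_ι]
    exact ht'
  have h2 : t' ≫ X.homOfLE hWl ≫ s = s' := by
    rw [← cancel_mono g₀.domain.ι, Category.assoc, Category.assoc, hs1, ← hts, ← h1]
    simp only [Category.assoc]
  rw [← h2, Category.assoc, Category.assoc, ← hs2, E, ht']

theorem half [PreirreducibleSpace X] [Nonempty Y] (f₀ : X.PartialMap Y) [IsDominant f₀.hom]
    (g₀ : Y.PartialMap X) (W : X.Opens) (hWl : W ≤ (f₀.comp g₀).domain)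
    (E : X.homOfLE hWl ≫ (f₀.comp g₀).hom = W.ι) (W' : Y.Opens) :
    ∃ (hAU : W ⊓ f₀.domain.ι ''ᵁ (f₀.hom ⁻¹ᵁ W') ≤ f₀.domain)
      (sA : (W ⊓ f₀.domain.ι ''ᵁ (f₀.hom ⁻¹ᵁ W')).toScheme ⟶ g₀.domain.toScheme)
      (hom : (W ⊓ f₀.domain.ι ''ᵁ (f₀.hom ⁻¹ᵁ W')).toScheme ⟶
        (W' ⊓ g₀.domain.ι ''ᵁ (g₀.hom ⁻¹ᵁ W)).toScheme),
      sA ≫ g₀.domain.ι = X.homOfLE hAU ≫ f₀.hom ∧
      sA ≫ g₀.hom = (W ⊓ f₀.domain.ι ''ᵁ (f₀.hom ⁻¹ᵁ W')).ι ∧
      hom ≫ (W' ⊓ g₀.domain.ι ''ᵁ (g₀.hom ⁻¹ᵁ W)).ι = X.homOfLE hAU ≫ f₀.hom := by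
  have hAU : W ⊓ f₀.domain.ι ''ᵁ (f₀.hom ⁻¹ᵁ W') ≤ f₀.domain :=
    inf_le_right.trans (f₀.domain.ι_image_le _)
  have hD : (f₀.comp g₀).domain = f₀.domain.ι ''ᵁ (f₀.hom ⁻¹ᵁ g₀.domain) := rfl
  have hrA : Set.range (X.homOfLE hAU ≫ f₀.hom) ⊆ Set.range g₀.domain.ι := by
    rw [Scheme.Opens.range_ι]
    rintro _ ⟨p, rfl⟩
    have hp : p.1 ∈ f₀.domain.ι ''ᵁ (f₀.hom ⁻¹ᵁ g₀.domain) := hD ▸ hWl p.2.1
    obtain ⟨u, hu, hup⟩ := hp
    rw [Scheme.Hom.comp_apply, homOfLE_eq_of_ι_eq hAU p u hup]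
    exact hu
  have hsA : IsOpenImmersion.lift g₀.domain.ι (X.homOfLE hAU ≫ f₀.hom) hrA ≫ g₀.domain.ι =
      X.homOfLE hAU ≫ f₀.hom := IsOpenImmersion.lift_fac _ _ _
  generalize IsOpenImmersion.lift g₀.domain.ι (X.homOfLE hAU ≫ f₀.hom) hrA = sA at hsA
  have hsAψ : sA ≫ g₀.hom = (W ⊓ f₀.domain.ι ''ᵁ (f₀.hom ⁻¹ᵁ W')).ι := by
    have := P1 f₀ g₀ W hWl E (X.homOfLE hAU) sA hsA.symm (by
      intro p; rw [Scheme.homOfLE_ι]; exact p.2.1)
    rw [this, Scheme.homOfLE_ι]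
  have hrB : Set.range (X.homOfLE hAU ≫ f₀.hom) ⊆
      Set.range (W' ⊓ g₀.domain.ι ''ᵁ (g₀.hom ⁻¹ᵁ W)).ι := by
    rw [Scheme.Opens.range_ι]
    rintro _ ⟨p, rfl⟩
    refine ⟨?_, sA p, ?_, ?_⟩
    · obtain ⟨u, hu, hup⟩ := p.2.2
      rw [Scheme.Hom.comp_apply, homOfLE_eq_of_ι_eq hAU p u hup]
      exact hu
    · show (sA ≫ g₀.hom) p ∈ W
      rw [hsAψ]
      exact p.2.1
    · show (sA ≫ g₀.domain.ι) p = _
      rw [hsA]
  exact ⟨hAU, sA, IsOpenImmersion.lift _ _ hrB, hsA, hsAψ, IsOpenImmersion.lift_fac _ _ _⟩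

theorem restrict_id_hom' (W : X.Opens) (hW : Dense (W : Set X))
    (hWr : W ≤ (Scheme.PartialMap.id X).domain) :
    ((Scheme.PartialMap.id X).restrict W hW hWr).hom = W.ι := by
  show X.homOfLE hWr ≫ X.topIso.hom ≫ 𝟙 X = W.ι
  rw [Category.comp_id, Scheme.topIso_hom]
  exact Scheme.homOfLE_ι X hWr

theorem dense_inf_image_preimage [PreirreducibleSpace X] [Nonempty Y] (U : X.Opens) (φ : U.toScheme ⟶ Y)
    [IsDominant φ] (W : X.Opens) (hW : Dense (W : Set X)) (W' : Y.Opens)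
    (hW' : Dense (W' : Set Y)) :
    Dense ((W ⊓ U.ι ''ᵁ (φ ⁻¹ᵁ W') : X.Opens) : Set X) := by
  have h1 : Dense ((U.ι ''ᵁ (φ ⁻¹ᵁ W') : X.Opens) : Set X) :=
    (U.ι ''ᵁ φ ⁻¹ᵁ W').2.dense <| by
      simpa [← Set.nonempty_preimage_iff] using
        φ.denseRange.inter_open_nonempty _ W'.2 hW'.nonempty
  exact hW.inter_of_isOpen_left h1 W.2

theorem birational_of_equiv [IsIntegral X] [IsIntegral Y] (f₀ : X.PartialMap Y)
    (g₀ : Y.PartialMap X) [IsDominant f₀.hom] [IsDominant g₀.hom]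
    (e1 : (f₀.comp g₀).equiv (Scheme.PartialMap.id X))
    (e2 : (g₀.comp f₀).equiv (Scheme.PartialMap.id Y)) : Scheme.Birational X Y := by
  obtain ⟨W, hW, hWl, hWr, E1⟩ := e1
  obtain ⟨W', hW', hWl', hWr', E2⟩ := e2
  have E1' : X.homOfLE hWl ≫ (f₀.comp g₀).hom = W.ι := E1.trans (restrict_id_hom' W hW hWr)
  have E2' : Y.homOfLE hWl' ≫ (g₀.comp f₀).hom = W'.ι :=
    E2.trans (restrict_id_hom' W' hW' hWr')
  obtain ⟨hAU, sA, hom, a1, a2, a3⟩ := half f₀ g₀ W hWl E1' W'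
  obtain ⟨hBV, sB, inv, b1, b2, b3⟩ := half g₀ f₀ W' hWl' E2' W
  have h1 : hom ≫ Y.homOfLE hBV = sA := by
    rw [← cancel_mono g₀.domain.ι, Category.assoc, Scheme.homOfLE_ι, a3, a1]
  have h2 : inv ≫ X.homOfLE hAU = sB := by
    rw [← cancel_mono f₀.domain.ι, Category.assoc, Scheme.homOfLE_ι, b3, b1]
  refine ⟨⟨W ⊓ f₀.domain.ι ''ᵁ (f₀.hom ⁻¹ᵁ W'),
    dense_inf_image_preimage f₀.domain f₀.hom W hW W' hW',
    W' ⊓ g₀.domain.ι ''ᵁ (g₀.hom ⁻¹ᵁ W),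
    dense_inf_image_preimage g₀.domain g₀.hom W' hW' W hW, ⟨hom, inv, ?_, ?_⟩⟩⟩
  · rw [← cancel_mono (W ⊓ f₀.domain.ι ''ᵁ (f₀.hom ⁻¹ᵁ W')).ι, Category.assoc, b3,
      ← Category.assoc, h1, a2, Category.id_comp]
  · rw [← cancel_mono (W' ⊓ g₀.domain.ι ''ᵁ (g₀.hom ⁻¹ᵁ W)).ι, Category.assoc, a3,
      ← Category.assoc, h2, b2, Category.id_comp]

theorem birational_of_inverse [IsIntegral X] [IsIntegral Y] (f : X ⤏ Y) (g : Y ⤏ X)
    [f.IsDominant] [g.IsDominant]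
    (h1 : f.comp g = Scheme.RationalMap.id X) (h2 : g.comp f = Scheme.RationalMap.id Y) :
    Scheme.Birational X Y := by
  have e1 : (f.representative.comp g.representative).equiv (Scheme.PartialMap.id X) := by
    rw [← g.toRationalMap_representative, Scheme.RationalMap.comp_def] at h1
    exact Scheme.PartialMap.toRationalMap_eq_iff.mp h1
  have e2 : (g.representative.comp f.representative).equiv (Scheme.PartialMap.id Y) := by
    rw [← f.toRationalMap_representative, Scheme.RationalMap.comp_def] at h2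
    exact Scheme.PartialMap.toRationalMap_eq_iff.mp h2
  exact birational_of_equiv f.representative g.representative e1 e2

theorem isDominant_toPartialMap_hom (e : X.PartialIso Y) : IsDominant e.toPartialMap.hom := by
  show IsDominant (e.iso.hom ≫ e.target.ι)
  have := AlgebraicGeometry.Opens.isDominant_ι e.dense_target
  infer_instance

theorem comp_equiv_id_of_iso [PreirreducibleSpace X] [Nonempty Y] (f₀ : X.PartialMap Y)
    [IsDominant f₀.hom] (g₀ : Y.PartialMap X)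
    (i : f₀.domain.toScheme ⟶ g₀.domain.toScheme) (hi1 : i ≫ g₀.domain.ι = f₀.hom)
    (hi2 : i ≫ g₀.hom = f₀.domain.ι) :
    (f₀.comp g₀).equiv (Scheme.PartialMap.id X) := by
  obtain ⟨hD, s, hs1, hs2⟩ := comp_hom_fac f₀ g₀
  have hs : s = X.homOfLE hD ≫ i := by
    rw [← cancel_mono g₀.domain.ι, hs1, Category.assoc, hi1]
  have hh : (f₀.comp g₀).hom = (f₀.comp g₀).domain.ι := by
    rw [hs2, hs, Category.assoc, hi2, Scheme.homOfLE_ι]
  refine ⟨(f₀.comp g₀).domain, (f₀.comp g₀).dense_domain, le_rfl, le_top, ?_⟩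
  rw [Scheme.PartialMap.restrict_id_hom, restrict_id_hom', hh]

theorem comp_symm_equiv [PreirreducibleSpace X] [Nonempty Y] (e : X.PartialIso Y)
    [IsDominant e.toPartialMap.hom] :
    (e.toPartialMap.comp e.symm.toPartialMap).equiv (Scheme.PartialMap.id X) :=
  comp_equiv_id_of_iso e.toPartialMap e.symm.toPartialMap e.iso.hom rfl
    (by show e.iso.hom ≫ e.iso.inv ≫ e.source.ι = e.source.ι; simp)

theorem main (X Y : Scheme.{u}) [IsIntegral X] [IsIntegral Y] :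
    Scheme.Birational X Y ↔
      ∃ (f : X ⤏ Y) (g : Y ⤏ X) (_ : f.IsDominant) (_ : g.IsDominant),
        f.comp g = Scheme.RationalMap.id X ∧ g.comp f = Scheme.RationalMap.id Y := by
  constructor
  · rintro ⟨e⟩
    haveI := isDominant_toPartialMap_hom e
    haveI := isDominant_toPartialMap_hom e.symm
    refine ⟨e.toRationalMap, e.symm.toRationalMap, inferInstance, inferInstance, ?_, ?_⟩
    · rw [Scheme.RationalMap.toRationalMap_comp, Scheme.PartialMap.toRationalMap_eq_iff]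
      exact comp_symm_equiv e
    · rw [Scheme.RationalMap.toRationalMap_comp, Scheme.PartialMap.toRationalMap_eq_iff]
      exact comp_symm_equiv e.symm
  · rintro ⟨f, g, hf, hg, h1, h2⟩
    exact birational_of_inverse f g h1 h2

end Groth.Agent.H9.Birat
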