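import Mathlib
import Groth.Prelude.Def_CAlgX
import Groth.Prelude.Def_W4bk4grassmannianPl
import Groth.Agent.Lib.Helper9.Misc.BitD
import Groth.Agent.Lib.Helper9.Misc.LdtE

set_option autoImplicit false
set_option linter.unusedSectionVars false
set_option linter.unusedVariables false

open W4bk4grassmannian MvPolynomial

namespace Groth.Agent.H9.Bit

open Groth.Agent.H9.Ldt (Ch V vv G Psi)

universe u

variable (K : Type u) [Field K] {d r : ℕ}

/-- the point of the opposite cell attached to a matrix with invertible top block -/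
noncomputable def zOf (A : Matrix (Fin (d + r)) (Fin d) K) : Fin r × Fin d → K :=
  fun p => ∑ k, A (Fin.natAdd d p.1) k * (A.submatrix (theta0 d r).1 id)⁻¹ k p.2

theorem key_eval' (A : Matrix (Fin (d + r)) (Fin d) K)
    (hδ : (A.submatrix (theta0 d r).1 id).det ≠ 0) (θ : Idx d (d + r)) :
    (A.submatrix θ.1 id).det =
      MvPolynomial.eval (zOf K A) (cellMinor K d r θ) *
        (A.submatrix (theta0 d r).1 id).det := by
  set T : Matrix (Fin d) (Fin d) K := A.submatrix (theta0 d r).1 id with hT
  have hTu : IsUnit T.det := isUnit_iff_ne_zero.2 hδ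
  let AT : Matrix (Fin (d + r)) (Fin d) K := Matrix.of fun i j => ∑ k, A i k * T⁻¹ k j
  have hzdef : zOf K A = fun p => AT (Fin.natAdd d p.1) p.2 := rfl
  rw [hzdef]
  set z : Fin r × Fin d → K := fun p => AT (Fin.natAdd d p.1) p.2 with hz
  have hCz : (cellMatrix K d r).map (MvPolynomial.eval z) = AT := by
    ext i j
    rw [Matrix.map_apply]
    by_cases hi : i.val < d
    · rw [Groth.Agent.H5.DetCell.cellMatrix_apply_lt K d r i j hi]
      have h1 : AT i j = (T * T⁻¹) ⟨i.val, hi⟩ j := by
        rw [Matrix.mul_apply]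
        show ∑ k, A i k * T⁻¹ k j = ∑ k, T ⟨i.val, hi⟩ k * T⁻¹ k j
        refine Finset.sum_congr rfl fun k _ => ?_
        congr 1
      rw [h1, Matrix.mul_nonsing_inv T hTu, Matrix.one_apply]
      by_cases hij : i.val = j.val
      · rw [if_pos hij, if_pos (Fin.ext hij), map_one]
      · rw [if_neg hij, if_neg (fun h => hij (congrArg Fin.val h)), map_zero]
    · push Not at hi
      rw [Groth.Agent.H5.DetCell.cellMatrix_apply_ge K d r i j hi, MvPolynomial.eval_X]
      show AT (Fin.natAdd d ⟨i.val - d, _⟩) j = AT i j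
      congr 1
      apply Fin.ext
      simp only [Fin.val_natAdd]
      omega
  have hAT : ∀ i j, A i j = ∑ k, AT i k * T k j := by
    intro i j
    show A i j = ∑ k, (∑ l, A i l * T⁻¹ l k) * T k j
    have h1 : ∑ k, (∑ l, A i l * T⁻¹ l k) * T k j = ∑ l, A i l * (T⁻¹ * T) l j := by
      simp only [Matrix.mul_apply, Finset.sum_mul, Finset.mul_sum]
      rw [Finset.sum_comm]
      refine Finset.sum_congr rfl fun l _ => Finset.sum_congr rfl fun k _ => by ring
    rw [h1, Matrix.nonsing_inv_mul T hTu]
    simp [Matrix.one_apply]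
  have hsub : A.submatrix θ.1 id = (AT.submatrix θ.1 id) * T := by
    ext i j
    rw [Matrix.mul_apply, Matrix.submatrix_apply, hAT]
    rfl
  rw [hsub, Matrix.det_mul, ← hCz]
  congr 1
  unfold cellMinor
  rw [RingHom.map_det]
  rfl

/-- the constant lower shape `0` -/
def lo0 (hd : 0 < d) : Fin d → Fin (d + r) := fun _ => ⟨0, by omega⟩

/-- the band matrix of shape `[0, w]` specialised at `a` -/
noncomputable def bandMat (hd : 0 < d) (w : Idx d (d + r)) (a : V (d + r) d → K) :
    Matrix (Fin (d + r)) (Fin d) K :=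
  (G K (vv (d + r) d) (lo0 hd) w.1).map (MvPolynomial.eval a)

theorem bandMat_apply (hd : 0 < d) (w : Idx d (d + r)) (a : V (d + r) d → K)
    (s : Fin (d + r)) (t : Fin d) :
    bandMat K hd w a s t = if s ≤ w.1 t then a (vv (d + r) d s t) else 0 := by
  unfold bandMat
  rw [Matrix.map_apply, Groth.Agent.H9.Ldt.G_apply]
  have h0 : lo0 (r := r) hd t ≤ s := Fin.le_def.2 (Nat.zero_le _)
  by_cases h : s ≤ w.1 t
  · rw [if_pos ⟨h0, h⟩, if_pos h, MvPolynomial.eval_X]
  · rw [if_neg (fun h' => h h'.2), if_neg h, map_zero]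

theorem li_core2 [Infinite K] (hd : 0 < d) (w : Idx d (d + r)) (J : Set (CellRing K d r))
    (hw : ∀ p ∈ J, ∀ a : V (d + r) d → K,
      ((bandMat K hd w a).submatrix (theta0 d r).1 id).det ≠ 0 →
        MvPolynomial.eval (zOf K (bandMat K hd w a)) p = 0)
    {ι : Type*} (x : ι → Ch d (d + r)) (hx : Function.Injective x)
    (hx0 : ∀ b k, (x b).2.1 k ≠ theta0 d r) (hxw : ∀ b k, (x b).2.1 k ≤ w)
    (s : Finset ι) (g : ι → K)
    (hsum : ∑ b ∈ s, g b • cellMap K d r (chainMon K (x b).2.1) ∈ J) :
    ∀ b ∈ s, g b = 0 := by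
  classical
  set D := s.sup (fun b => (x b).1) with hD
  let hom : ι → Ch d (d + r) := fun b =>
    ⟨(x b).1 + (D + 1 - (x b).1), ext0 (x b).2.1 (D + 1 - (x b).1),
      ext0_antitone _ (x b).2.2 _⟩
  have hominj : Function.Injective hom := by
    intro b b' hbb
    apply hx
    have h1 := congrArg (fun y : Ch d (d + r) =>
      (List.ofFn y.2.1).filter (fun y => decide (y ≠ theta0 d r))) hbb
    simp only [hom] at h1
    rw [filter_ext0 _ (hx0 b), filter_ext0 _ (hx0 b')] at h1
    exact ch_ext _ _ (List.ofFn_inj'.1 h1)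
  have hΨ : Psi K (lo0 hd) w.1 (∑ b ∈ s, g b • chainMon K (hom b).2.1) = 0 := by
    apply MvPolynomial.funext
    intro a
    unfold Psi
    rw [Groth.Agent.H9.Ldt.eval_Phi, map_zero, map_sum]
    have hAdef : (G K (vv (d + r) d) (lo0 hd) w.1).map (MvPolynomial.eval a) =
        bandMat K hd w a := rfl
    rw [hAdef]
    set A := bandMat K hd w a with hA
    set δ := (A.submatrix (theta0 d r).1 id).det with hδ
    have hterm : ∀ b, evalMinors K d (d + r) A (chainMon K (hom b).2.1) =
        evalMinors K d (d + r) A (chainMon K (x b).2.1) * δ ^ (D + 1 - (x b).1) := by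
      intro b
      show evalMinors K d (d + r) A (chainMon K (ext0 (x b).2.1 (D + 1 - (x b).1))) = _
      rw [chainMon_ext0, map_mul, map_pow, Groth.Agent.H9.Shf.evalMinors_X]
    by_cases hδ0 : δ = 0
    · refine Finset.sum_eq_zero fun b hb => ?_
      rw [map_smul, hterm, hδ0, zero_pow, mul_zero, smul_zero]
      have : (x b).1 ≤ D := Finset.le_sup (f := fun b => (x b).1) hb
      omega
    · have hz := key_eval' K A hδ0
      set z := zOf K A with hzdef
      have hchain : ∀ b, evalMinors K d (d + r) A (chainMon K (x b).2.1) =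
          MvPolynomial.eval z (cellMap K d r (chainMon K (x b).2.1)) * δ ^ (x b).1 := by
        intro b
        unfold chainMon
        rw [map_prod, map_prod, map_prod]
        have hk : ∀ k, evalMinors K d (d + r) A (X ((x b).2.1 k)) =
            MvPolynomial.eval z (cellMap K d r (X ((x b).2.1 k))) * δ := by
          intro k
          rw [Groth.Agent.H9.Shf.evalMinors_X, cellMap_X, hz]
        rw [Finset.prod_congr rfl (fun k _ => hk k), Finset.prod_mul_distrib, Finset.prod_const,
          Finset.card_univ, Fintype.card_fin]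
      have hzero := hw _ hsum a hδ0
      rw [map_sum] at hzero
      have hrew : ∑ b ∈ s, evalMinors K d (d + r) A (g b • chainMon K (hom b).2.1) =
          δ ^ (D + 1) * ∑ b ∈ s,
            MvPolynomial.eval z (g b • cellMap K d r (chainMon K (x b).2.1)) := by
        rw [Finset.mul_sum]
        refine Finset.sum_congr rfl fun b hb => ?_
        have hle : (x b).1 ≤ D := Finset.le_sup (f := fun b => (x b).1) hb
        rw [map_smul, hterm, hchain, smul_eq_mul, MvPolynomial.smul_eval]
        have hsplit : D + 1 = (x b).1 + (D + 1 - (x b).1) := by omega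
        conv_rhs => rw [hsplit, pow_add]
        ring
      rw [hrew, hzero, mul_zero]
  intro b hb
  refine Groth.Agent.H9.Ldt.Psi_coeff_zero K hd (lo0 hd) w.1 monotone_const w.2.monotone
    hom hominj s g hΨ b hb ?_
  intro k tt
  refine ⟨Fin.le_def.2 (Nat.zero_le _), ?_⟩
  have hkw : ext0 (x b).2.1 (D + 1 - (x b).1) k ≤ w := by
    unfold ext0
    split_ifs with h
    · exact hxw b _
    · exact theta0_le w
  exact hkw tt

end Groth.Agent.H9.Bit
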