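import Mathlib
import Groth.Prelude.Def_CAlgX
import Groth.Prelude.Def_W4bk4grassmannianPl
import Groth.Agent.Lib.Helper9.Misc.BitE
import Groth.Agent.Lib.Helper9.Misc.BitF

set_option autoImplicit false
set_option linter.unusedSectionVars false
set_option linter.unusedVariables false

open W4bk4grassmannian MvPolynomial

namespace Groth.Agent.H9.Bit

open Groth.Agent.H9.Ldt (Ch V vv G Psi)

universe u

variable (K : Type u) [Field K]

theorem li2 [Infinite K] (m n t : ℕ) (hn : 0 < n) (ht : 1 ≤ t) (htr : t ≤ m + 1)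
    (htd : t ≤ n + 1) (J : Set (MvPolynomial (Fin m × Fin n) K))
    (hJ : ∀ p ∈ J, ∀ a : V (n + m) n → K,
      ((bandMat K hn (wIdx n m t ht htr) a).submatrix (theta0 n m).1 id).det ≠ 0 →
        MvPolynomial.eval (zOf K (bandMat K hn (wIdx n m t ht htr) a)) (rho K n m p) = 0)
    (s : Finset (BT m n t)) (g : BT m n t → K)
    (hmem : ∑ c ∈ s, g c • ∏ i, minorOf K (c.2.1 i) ∈ J) : ∀ c ∈ s, g c = 0 := by
  classical
  intro c0 hc0
  choose th hth using fun M : MinorIdx m n => exists_rel M
  choose e he using fun M : MinorIdx m n => cm_X_rel K (hth M)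
  let x : BT m n t → Ch n (n + m) := fun c => ⟨c.1, fun i => th (c.2.1 (Fin.rev i)), by
    intro i j hij
    rcases hij.eq_or_lt with h | h
    · rw [h]
    · exact (rel_le_iff (hth (c.2.1 (Fin.rev i))) (hth (c.2.1 (Fin.rev j)))).2
        (c.2.2.2 _ _ (Fin.rev_lt_rev.2 h))⟩
  have hxinj : Function.Injective x := by
    rintro ⟨k, c, hc⟩ ⟨k', c', hc'⟩ h
    have hk : k = k' := congrArg Sigma.fst h
    subst hk
    have h2 : (fun i => th (c (Fin.rev i))) = fun i => th (c' (Fin.rev i)) := by
      have := (Sigma.mk.inj_iff.1 h).2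
      exact congrArg Subtype.val (eq_of_heq this)
    have h3 : c = c' := by
      funext i
      have h4 := congrFun h2 (Fin.rev i)
      rw [Fin.rev_rev] at h4
      exact rel_minor_unique (hth (c i)) (by rw [h4]; exact hth (c' i))
    subst h3
    rfl
  let ε : BT m n t → K := fun c => ∏ i, e (c.2.1 (Fin.rev i))
  have hε : ∀ c, ε c ≠ 0 := fun c => Finset.prod_ne_zero_iff.2 fun i _ => (he _).1
  have hprod : ∀ c : BT m n t, cm K m n (chainMon K (x c).2.1) =
      C (ε c) * ∏ i, minorOf K (c.2.1 i) := by
    intro c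
    show cm K m n (chainMon K (fun i => th (c.2.1 (Fin.rev i)))) = _
    unfold chainMon
    rw [map_prod, Finset.prod_congr rfl (fun i _ => (he _).2), Finset.prod_mul_distrib,
      ← map_prod]
    congr 1
    exact Equiv.prod_comp Fin.revPerm (fun i => minorOf K (c.2.1 i))
  have h1 : rho K n m (∑ c ∈ s, (g c * (ε c)⁻¹) • cellMap K n m (chainMon K (x c).2.1)) =
      ∑ c ∈ s, g c • ∏ i, minorOf K (c.2.1 i) := by
    rw [map_sum]
    refine Finset.sum_congr rfl fun c _ => ?_
    rw [map_smul]
    have hcm : rho K n m (cellMap K n m (chainMon K (x c).2.1)) =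
        cm K m n (chainMon K (x c).2.1) := rfl
    rw [hcm, hprod, MvPolynomial.smul_eq_C_mul, MvPolynomial.smul_eq_C_mul, ← mul_assoc,
      ← C_mul, mul_assoc, inv_mul_cancel₀ (hε c), mul_one]
  have hsum2 : ∑ c ∈ s, (g c * (ε c)⁻¹) • cellMap K n m (chainMon K (x c).2.1) ∈
      {p' : CellRing K n m | rho K n m p' ∈ J} := by
    show rho K n m _ ∈ J
    rw [h1]
    exact hmem
  have hcore := li_core2 K hn (wIdx n m t ht htr) {p' : CellRing K n m | rho K n m p' ∈ J}
    (fun p' hp' a ha => by
      have := hJ _ hp' a ha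
      rwa [rho_rho] at this) x hxinj
    (fun c k => (hth _).ne_theta0)
    (fun c k => ((hth _).le_wIdx_iff t ht htr htd).2 (c.2.2.1 _)) s
    (fun c => g c * (ε c)⁻¹) hsum2 c0 hc0
  rcases mul_eq_zero.1 hcore with h | h
  · exact h
  · exact absurd (inv_eq_zero.1 h) (hε c0)

theorem sum_shift {d n c : ℕ} (hc : d ≤ c + n) (α β : Fin d → K)
    (hα : ∀ k : Fin d, k.val < c → α k = 0) :
    ∑ l : Fin n, (if h : l.val + c < d then α ⟨l.val + c, h⟩ else 0) *
      (if h : l.val + c < d then β ⟨l.val + c, h⟩ else 0) = ∑ k : Fin d, α k * β k := by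
  classical
  let F' : ℕ → K := fun k => if h : k < d then α ⟨k, h⟩ * β ⟨k, h⟩ else 0
  have hL : ∀ l : Fin n, (if h : l.val + c < d then α ⟨l.val + c, h⟩ else 0) *
      (if h : l.val + c < d then β ⟨l.val + c, h⟩ else 0) = F' (c + l.val) := by
    intro l
    by_cases h : l.val + c < d
    · have h' : c + l.val < d := by omega
      rw [dif_pos h, dif_pos h]
      show _ = if h : c + l.val < d then α ⟨c + l.val, h⟩ * β ⟨c + l.val, h⟩ else 0
      rw [dif_pos h']
      have : (⟨l.val + c, h⟩ : Fin d) = ⟨c + l.val, h'⟩ := Fin.ext (by simp only; omega)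
      rw [this]
    · have h' : ¬ c + l.val < d := by omega
      rw [dif_neg h, dif_neg h, mul_zero]
      show _ = if h : c + l.val < d then α ⟨c + l.val, h⟩ * β ⟨c + l.val, h⟩ else 0
      rw [dif_neg h']
  have hR : ∀ k : Fin d, α k * β k = F' k.val := by
    intro k
    show _ = if h : k.val < d then α ⟨k.val, h⟩ * β ⟨k.val, h⟩ else 0
    rw [dif_pos k.isLt]
  rw [Finset.sum_congr rfl (fun l _ => hL l), Finset.sum_congr rfl (fun k _ => hR k),
    Fin.sum_univ_eq_sum_range (fun l => F' (c + l)) n, Fin.sum_univ_eq_sum_range F' d]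
  have h1 : ∑ l ∈ Finset.range n, F' (c + l) = ∑ k ∈ Finset.Ico c (c + n), F' k := by
    rw [Finset.sum_Ico_eq_sum_range, Nat.add_sub_cancel_left]
  rw [h1]
  have h2 : ∑ k ∈ Finset.Ico c d, F' k = ∑ k ∈ Finset.Ico c (c + n), F' k := by
    apply Finset.sum_subset
    · intro k hk
      rw [Finset.mem_Ico] at hk ⊢
      omega
    · intro k hk hk'
      rw [Finset.mem_Ico] at hk hk'
      show (if h : k < d then α ⟨k, h⟩ * β ⟨k, h⟩ else 0) = 0
      rw [dif_neg (by omega)]
  have h3 : ∑ k ∈ Finset.Ico c d, F' k = ∑ k ∈ Finset.range d, F' k := by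
    apply Finset.sum_subset
    · intro k hk
      rw [Finset.mem_Ico] at hk
      rw [Finset.mem_range]
      omega
    · intro k hk hk'
      rw [Finset.mem_range] at hk
      rw [Finset.mem_Ico] at hk'
      show (if h : k < d then α ⟨k, h⟩ * β ⟨k, h⟩ else 0) = 0
      rw [dif_pos hk, hα ⟨k, hk⟩ (by show k < c; omega), zero_mul]
  rw [← h2, h3]

section SFT

variable (m n q : ℕ)

theorem eval_pairingMap (uw : (Fin m × Fin n) ⊕ (Fin n × Fin q) → K)
    (p : MvPolynomial (Fin m × Fin q) K) :
    MvPolynomial.eval uw (pairingMap K n m q p) =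
      MvPolynomial.eval (fun ij : Fin m × Fin q =>
        ∑ k : Fin n, uw (Sum.inl (ij.1, k)) * uw (Sum.inr (k, ij.2))) p := by
  induction p using MvPolynomial.induction_on with
  | C a => simp [pairingMap]
  | add p1 p2 h1 h2 => rw [map_add, map_add, map_add, h1, h2]
  | mul_X p ij hp =>
    rw [map_mul, map_mul, map_mul, hp]
    congr 1
    unfold pairingMap
    rw [aeval_X, map_sum, eval_X]
    refine Finset.sum_congr rfl fun k _ => ?_
    rw [map_mul, eval_X, eval_X]

theorem minorIdeal_le_ker :
    CAlgX.minorIdeal (genMatrix K m q) (n + 1) ≤ RingHom.ker (pairingMap K n m q).toRingHom := by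
  have hdef : CAlgX.minorIdeal (genMatrix K m q) (n + 1) = Ideal.span (Set.range
    fun fg : (Fin (n + 1) → Fin m) × (Fin (n + 1) → Fin q) =>
      Matrix.det ((genMatrix K m q).submatrix fg.1 fg.2)) := rfl
  rw [hdef, Ideal.span_le]
  rintro _ ⟨⟨f, g⟩, rfl⟩
  rw [SetLike.mem_coe, RingHom.mem_ker]
  show (pairingMap K n m q) (((genMatrix K m q).submatrix f g).det) = 0
  rw [AlgHom.map_det]
  let U' : Matrix (Fin (n + 1)) (Fin (n + 1)) (PairRing K n m q) :=
    Matrix.of fun i k => if h : k.val < n then X (Sum.inl (f i, ⟨k.val, h⟩)) else 0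
  let W' : Matrix (Fin (n + 1)) (Fin (n + 1)) (PairRing K n m q) :=
    Matrix.of fun k j => if h : k.val < n then X (Sum.inr (⟨k.val, h⟩, g j)) else 0
  have hmat : (pairingMap K n m q).mapMatrix ((genMatrix K m q).submatrix f g) = U' * W' := by
    apply Matrix.ext
    intro i j
    rw [Matrix.mul_apply, Fin.sum_univ_castSucc]
    have hU : ∀ k : Fin n, U' i (Fin.castSucc k) = X (Sum.inl (f i, k)) := by
      intro k
      show (if h : (Fin.castSucc k).val < n then
        (X (Sum.inl (f i, ⟨(Fin.castSucc k).val, h⟩)) : PairRing K n m q) else 0) = _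
      rw [dif_pos (by simp)]
      rfl
    have hW : ∀ k : Fin n, W' (Fin.castSucc k) j = X (Sum.inr (k, g j)) := by
      intro k
      show (if h : (Fin.castSucc k).val < n then
        (X (Sum.inr (⟨(Fin.castSucc k).val, h⟩, g j)) : PairRing K n m q) else 0) = _
      rw [dif_pos (by simp)]
      rfl
    have hUl : U' i (Fin.last n) = 0 := by
      show (if h : (Fin.last n).val < n then
        (X (Sum.inl (f i, ⟨(Fin.last n).val, h⟩)) : PairRing K n m q) else 0) = _
      rw [dif_neg (by simp)]
    rw [hUl, zero_mul, add_zero, Finset.sum_congr rfl (fun k _ => by rw [hU k, hW k])]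
    show pairingMap K n m q (X (f i, g j)) = _
    unfold pairingMap
    rw [aeval_X]
  rw [hmat, Matrix.det_mul]
  have hdet : U'.det = 0 := Matrix.det_eq_zero_of_column_eq_zero (Fin.last n) (fun i => by
    show (if h : (Fin.last n).val < n then
      (X (Sum.inl (f i, ⟨(Fin.last n).val, h⟩)) : PairRing K n m q) else 0) = _
    rw [dif_neg (by simp)])
  rw [hdet, zero_mul]

theorem minorIdeal_eq_bot (t : ℕ) (h : m < t ∨ q < t) :
    CAlgX.minorIdeal (genMatrix K m q) t = ⊥ := by
  have hdef : CAlgX.minorIdeal (genMatrix K m q) t = Ideal.span (Set.range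
    fun fg : (Fin t → Fin m) × (Fin t → Fin q) =>
      Matrix.det ((genMatrix K m q).submatrix fg.1 fg.2)) := rfl
  rw [hdef, Ideal.span_eq_bot]
  rintro _ ⟨⟨f, g⟩, rfl⟩
  show ((genMatrix K m q).submatrix f g).det = 0
  rcases h with h | h
  · have hf : ¬ Function.Injective f := by
      intro hinj
      have := Fintype.card_le_of_injective f hinj
      simp only [Fintype.card_fin] at this
      omega
    rw [Function.Injective] at hf
    push Not at hf
    obtain ⟨a, b, hab, hne⟩ := hf
    exact Matrix.det_zero_of_row_eq hne (by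
      funext j
      simp only [Matrix.submatrix_apply, hab])
  · have hg : ¬ Function.Injective g := by
      intro hinj
      have := Fintype.card_le_of_injective g hinj
      simp only [Fintype.card_fin] at this
      omega
    rw [Function.Injective] at hg
    push Not at hg
    obtain ⟨a, b, hab, hne⟩ := hg
    exact Matrix.det_zero_of_column_eq hne (by
      intro k
      simp only [Matrix.submatrix_apply, hab])

theorem sft [Infinite K] :
    RingHom.ker (pairingMap K n m q).toRingHom =
      CAlgX.minorIdeal (genMatrix K m q) (n + 1) := by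
  classical
  apply le_antisymm _ (minorIdeal_le_ker K m n q)
  intro F hF
  rw [RingHom.mem_ker] at hF
  have hF' : pairingMap K n m q F = 0 := hF
  by_cases hq : q = 0
  · subst hq
    haveI : IsEmpty (Fin m × Fin 0) := ⟨fun p => p.2.elim0⟩
    rw [MvPolynomial.eq_C_of_isEmpty F] at hF' ⊢
    rw [MvPolynomial.algHom_C, MvPolynomial.algebraMap_eq] at hF'
    have h0 : F.coeff 0 = 0 := by simpa using hF'
    rw [h0, C_0]
    exact zero_mem _
  · have hq' : 0 < q := Nat.pos_of_ne_zero hq
    obtain ⟨t, htdef⟩ : ∃ t, t = min n (min m q) + 1 := ⟨_, rfl⟩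
    have hmin1 := min_le_left n (min m q)
    have hmin2 := min_le_right n (min m q)
    have hmin3 := min_le_left m q
    have hmin4 := min_le_right m q
    have ht : 1 ≤ t := by omega
    have htr : t ≤ m + 1 := by omega
    have htd : t ≤ q + 1 := by omega
    have htn : t ≤ n + 1 := by omega
    have hI : CAlgX.minorIdeal (genMatrix K m q) t =
        CAlgX.minorIdeal (genMatrix K m q) (n + 1) := by
      by_cases hcase : n ≤ min m q
      · have : t = n + 1 := by rw [htdef, min_eq_left hcase]
        rw [this]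
      · push Not at hcase
        have h1 : t = min m q + 1 := by rw [htdef, min_eq_right hcase.le]
        have hb1 : m < t ∨ q < t := by
          rcases le_total m q with h | h
          · left
            rw [min_eq_left h] at h1
            omega
          · right
            rw [min_eq_right h] at h1
            omega
        have hb2 : m < n + 1 ∨ q < n + 1 := by
          rcases le_total m q with h | h
          · left
            rw [min_eq_left h] at hcase
            omega
          · right
            rw [min_eq_right h] at hcase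
            omega
        rw [minorIdeal_eq_bot K m q t hb1, minorIdeal_eq_bot K m q (n + 1) hb2]
    rw [← hI]
    have hsp := span_top K m q t ht htr htd
    have hmkF : Ideal.Quotient.mk (CAlgX.minorIdeal (genMatrix K m q) t) F ∈
        Submodule.span K (Set.range (vfam K m q t)) := by
      rw [hsp]
      trivial
    rw [Finsupp.mem_span_range_iff_exists_finsupp] at hmkF
    obtain ⟨l, hl⟩ := hmkF
    have hdiff : F - ∑ c ∈ l.support, l c • ∏ i, minorOf K (c.2.1 i) ∈
        CAlgX.minorIdeal (genMatrix K m q) t := by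
      rw [← Ideal.Quotient.eq, ← hl]
      unfold Finsupp.sum
      rw [map_sum]
      refine Finset.sum_congr rfl fun c _ => rfl
    have hker : ∑ c ∈ l.support, l c • ∏ i, minorOf K (c.2.1 i) ∈
        {p : MvPolynomial (Fin m × Fin q) K | pairingMap K n m q p = 0} := by
      show pairingMap K n m q _ = 0
      have h1 : pairingMap K n m q
          (F - ∑ c ∈ l.support, l c • ∏ i, minorOf K (c.2.1 i)) = 0 := by
        have h2 : F - ∑ c ∈ l.support, l c • ∏ i, minorOf K (c.2.1 i) ∈
            CAlgX.minorIdeal (genMatrix K m q) (n + 1) := by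
          rw [← hI]
          exact hdiff
        exact minorIdeal_le_ker K m n q h2
      rw [map_sub, hF', zero_sub, neg_eq_zero] at h1
      exact h1
    have hJ : ∀ p ∈ {p : MvPolynomial (Fin m × Fin q) K | pairingMap K n m q p = 0},
        ∀ a : V (q + m) q → K,
        ((bandMat K hq' (wIdx q m t ht htr) a).submatrix (theta0 q m).1 id).det ≠ 0 →
          MvPolynomial.eval (zOf K (bandMat K hq' (wIdx q m t ht htr) a)) (rho K q m p) = 0 := by
      intro p hp a hδ
      have hp' : pairingMap K n m q p = 0 := hp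
      obtain ⟨A, hA⟩ : ∃ A, A = bandMat K hq' (wIdx q m t ht htr) a := ⟨_, rfl⟩
      rw [← hA]
      obtain ⟨Tinv, hTinv⟩ : ∃ Tinv, Tinv = (A.submatrix (theta0 q m).1 id)⁻¹ := ⟨_, rfl⟩
      unfold rho
      rw [MvPolynomial.eval_rename]
      obtain ⟨c, hc⟩ : ∃ c, c = q + 1 - t := ⟨_, rfl⟩
      let U : Fin m → Fin n → K := fun i l =>
        if h : l.val + c < q then A (Fin.natAdd q (Fin.rev i)) ⟨l.val + c, h⟩ else 0
      let W : Fin n → Fin q → K := fun l j =>
        if h : l.val + c < q then Tinv ⟨l.val + c, h⟩ j else 0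
      have hband : ∀ (i' : Fin m) (k : Fin q), k.val < c → A (Fin.natAdd q i') k = 0 := by
        intro i' k hk
        rw [hA, bandMat_apply, if_neg]
        rw [Fin.le_def]
        unfold wIdx
        simp only
        rw [dif_pos (by omega)]
        simp only [Fin.val_natAdd]
        omega
      have hzUW : (zOf K A ∘ Prod.map Fin.rev id) =
          fun ij : Fin m × Fin q => ∑ k : Fin n, U ij.1 k * W k ij.2 := by
        funext ⟨i, j⟩
        show ∑ k, A (Fin.natAdd q (Fin.rev i)) k * (A.submatrix (theta0 q m).1 id)⁻¹ k j =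
          ∑ l : Fin n, U i l * W l j
        rw [← hTinv]
        exact (sum_shift K (by omega) (fun k => A (Fin.natAdd q (Fin.rev i)) k)
          (fun k => Tinv k j) (fun k hk => hband _ k hk)).symm
      rw [hzUW]
      have := eval_pairingMap K m n q (Sum.elim (fun p => U p.1 p.2) (fun p => W p.1 p.2)) p
      rw [hp', map_zero] at this
      exact this.symm
    have hzero := li2 K m q t hq' ht htr htd _ hJ l.support (fun c => l c) hker
    have hsum0 : ∑ c ∈ l.support, l c • ∏ i, minorOf K (c.2.1 i) = 0 :=
      Finset.sum_eq_zero fun c hc => by rw [hzero c hc, zero_smul]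
    rw [hsum0, sub_zero] at hdiff
    exact hdiff

end SFT

end Groth.Agent.H9.Bit
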