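import Mathlib
import Groth.Prelude.Def_W4c2gerbepatchBitors

/-! Helper9: bitorsor structures vs isomorphism families -/

namespace Groth.Agent.H9.Bitors1

universe w v u
open CategoryTheory Opposite
open Bitors

variable {C : Type u} [Category.{v} C] {J : GrothendieckTopology C}
  {G H : Sheaf J GrpCat.{w}} {P : NonAbH1.GSheaf G}

theorem isomFamily_ext (φ₁ φ₂ : IsomFamily P H)
    (h : ∀ (U : Cᵒᵖ) (p : P.P.obj.obj U) (x : H.obj.obj U), φ₁.φ p x = φ₂.φ p x) : φ₁ = φ₂ := by
  cases φ₁ with | mk f1 a1 b1 =>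
  cases φ₂ with | mk f2 a2 b2 =>
  have : @f1 = @f2 := by
    funext U p
    exact MulEquiv.ext (h U p)
  subst this
  rfl

theorem rightStr_ext (ρ₁ ρ₂ : RightStr P H)
    (h : ∀ (U : Cᵒᵖ) (p : P.P.obj.obj U) (x : H.obj.obj U), ρ₁.rsmul p x = ρ₂.rsmul p x) : ρ₁ = ρ₂ := by
  cases ρ₁ with | mk f1 a1 b1 c1 d1 e1 =>
  cases ρ₂ with | mk f2 a2 b2 c2 d2 e2 =>
  have : @f1 = @f2 := by
    funext U p x
    exact h U p x
  subst this
  rfl

theorem smul_cancel (hP : P.IsPseudoTorsor) {U : Cᵒᵖ} (p : P.P.obj.obj U) {g g' : G.obj.obj U}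
    (h : P.smul g p = P.smul g' p) : g = g' :=
  (hP U p (P.smul g' p)).unique h rfl

/-- the isomorphism family attached to a right structure -/
noncomputable def toIsomFamily (hP : P.IsPseudoTorsor) (ρ : RightStr P H) : IsomFamily P H where
  φ {U} p :=
    { toFun := fun h => (hP U p (ρ.rsmul p h)).choose
      invFun := fun g => (ρ.existsUnique_rsmul p (P.smul g p)).choose
      left_inv := fun h => by
        have h1 := (hP U p (ρ.rsmul p h)).choose_spec.1
        have h2 := (ρ.existsUnique_rsmul p (P.smul (hP U p (ρ.rsmul p h)).choose p)).choose_spec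
        exact (h2.2 h (by simpa using h1.symm)).symm
      right_inv := fun g => by
        have h2 := (ρ.existsUnique_rsmul p (P.smul g p)).choose_spec.1
        have h1 := (hP U p (ρ.rsmul p (ρ.existsUnique_rsmul p (P.smul g p)).choose)).choose_spec.1
        apply smul_cancel hP p
        simpa using h1.trans h2
      map_mul' := fun h h' => by
        apply smul_cancel hP p
        have h1 := (hP U p (ρ.rsmul p (h * h'))).choose_spec.1
        have h2 := (hP U p (ρ.rsmul p h)).choose_spec.1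
        have h3 := (hP U p (ρ.rsmul p h')).choose_spec.1
        simp only at h1 h2 h3 ⊢
        rw [h1, P.mul_smul, h3, ← ρ.smul_rsmul, h2, ρ.rsmul_mul] }
  map_φ {U V} f p h := by
    apply smul_cancel hP (P.P.obj.map f p)
    have h1 := (hP U p (ρ.rsmul p h)).choose_spec.1
    have h2 := (hP V (P.P.obj.map f p) (ρ.rsmul (P.P.obj.map f p) (H.obj.map f h))).choose_spec.1
    simp only at h1 h2
    change P.smul (G.obj.map f (hP U p (ρ.rsmul p h)).choose) _ = P.smul (hP V (P.P.obj.map f p) (ρ.rsmul (P.P.obj.map f p) (H.obj.map f h))).choose _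
    rw [h2, ← P.map_smul, h1, ρ.map_rsmul]
  φ_smul {U} g p h := by
    apply smul_cancel hP (P.smul g p)
    have h1 := (hP U p (ρ.rsmul p h)).choose_spec.1
    have h2 := (hP U (P.smul g p) (ρ.rsmul (P.smul g p) h)).choose_spec.1
    simp only at h1 h2
    change P.smul (hP U (P.smul g p) (ρ.rsmul (P.smul g p) h)).choose _ = P.smul (g * (hP U p (ρ.rsmul p h)).choose * g⁻¹) _
    rw [h2, ρ.smul_rsmul, ← P.mul_smul, inv_mul_cancel_right, P.mul_smul, h1]

theorem toIsomFamily_spec (hP : P.IsPseudoTorsor) (ρ : RightStr P H)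
    (U : Cᵒᵖ) (p : P.P.obj.obj U) (h : H.obj.obj U) :
    ρ.rsmul p h = P.smul ((toIsomFamily hP ρ).φ p h) p :=
  ((hP U p (ρ.rsmul p h)).choose_spec.1).symm

/-- the right structure attached to an isomorphism family -/
noncomputable def toRightStr (hP : P.IsPseudoTorsor) (φ : IsomFamily P H) : RightStr P H where
  rsmul {U} p h := P.smul (φ.φ p h) p
  rsmul_one p := by simp [P.one_smul]
  rsmul_mul p h h' := by
    rw [φ.φ_smul, ← P.mul_smul, map_mul]
    simp
  map_rsmul f p h := by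
    rw [P.map_smul, φ.map_φ]
  smul_rsmul g p h := by
    rw [φ.φ_smul, ← P.mul_smul, ← P.mul_smul]
    simp
  existsUnique_rsmul {U} p q := by
    obtain ⟨g, hg, hguniq⟩ := hP U p q
    refine ⟨(φ.φ p).symm g, by simpa using hg, ?_⟩
    intro h hh
    have := hguniq _ hh
    rw [← this]
    simp

theorem main1 (hP : P.IsPseudoTorsor) (ρ : RightStr P H) :
    ∃! φ : IsomFamily P H,
      ∀ (U : Cᵒᵖ) (p : P.P.obj.obj U) (h : H.obj.obj U), ρ.rsmul p h = P.smul (φ.φ p h) p := by
  refine ⟨toIsomFamily hP ρ, toIsomFamily_spec hP ρ, ?_⟩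
  intro φ' hφ'
  apply isomFamily_ext
  intro U p x
  apply smul_cancel hP p
  rw [← hφ', ← toIsomFamily_spec]

theorem main2 (hP : P.IsPseudoTorsor) (φ : IsomFamily P H) :
    ∃! ρ : RightStr P H,
      ∀ (U : Cᵒᵖ) (p : P.P.obj.obj U) (h : H.obj.obj U), ρ.rsmul p h = P.smul (φ.φ p h) p := by
  refine ⟨toRightStr hP φ, fun _ _ _ => rfl, ?_⟩
  intro ρ' hρ'
  apply rightStr_ext
  intro U p x
  rw [hρ']
  rfl

end Groth.Agent.H9.Bitors1
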