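import Mathlib
import Groth.Prelude.Def_W4c2gerbepatchBitors

/-! Helper9: bitorsor structures vs isomorphism families -/

namespace Groth.Agent.H9.Bitors2

universe w v u
open CategoryTheory Opposite
open Bitors

variable {C : Type u} [Category.{v} C] {J : GrothendieckTopology C}

theorem grp_sheaf_sep (G : Sheaf J GrpCat.{w}) {X : C} (S : Sieve X) (hS : S ∈ J X)
    (x y : G.obj.obj (op X)) (h : ∀ ⦃V : C⦄ (f : V ⟶ X), S f → G.obj.map f.op x = G.obj.map f.op y) :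
    x = y := by
  have h1 : Presheaf.IsSheaf J (G.obj ⋙ forget GrpCat.{w}) :=
    GrothendieckTopology.HasSheafCompose.isSheaf (F := forget GrpCat.{w}) G.obj G.property
  have h2 := ((isSheaf_iff_isSheaf_of_type J _).1 h1).isSeparated S hS
  apply h2.ext
  intro V f hf
  exact h f hf

theorem hom_iff
    (G H : Sheaf J GrpCat.{w}) (P P' : NonAbH1.GSheaf G) (hP' : P'.IsPseudoTorsor)
    (ρ : Bitors.RightStr P H) (ρ' : Bitors.RightStr P' H)
    (φ : Bitors.IsomFamily P H) (φ' : Bitors.IsomFamily P' H)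
    (hρ : ∀ (U : Cᵒᵖ) (p : P.P.obj.obj U) (h : H.obj.obj U), ρ.rsmul p h = P.smul (φ.φ p h) p)
    (hρ' : ∀ (U : Cᵒᵖ) (p : P'.P.obj.obj U) (h : H.obj.obj U), ρ'.rsmul p h = P'.smul (φ'.φ p h) p)
    (f : P ⟶ P') :
    (∀ (U : Cᵒᵖ) (p : P.P.obj.obj U) (h : H.obj.obj U),
        f.hom.hom.app U (ρ.rsmul p h) = ρ'.rsmul (f.hom.hom.app U p) h) ↔
      ∀ (U : Cᵒᵖ) (p : P.P.obj.obj U) (h : H.obj.obj U),
        φ.φ p h = φ'.φ (f.hom.hom.app U p) h := by
  constructor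
  · intro hf U p h
    have h1 := hf U p h
    rw [hρ, hρ', f.map_smul] at h1
    exact (hP' U (f.hom.hom.app U p) (P'.smul (φ.φ p h) (f.hom.hom.app U p))).unique rfl h1.symm
  · intro hφ U p h
    rw [hρ, hρ', f.map_smul, hφ]

theorem main
    (G H : Sheaf J GrpCat.{w}) (P P' : NonAbH1.GSheaf G)
    (hP : P.IsPseudoTorsor) (hP' : P'.IsPseudoTorsor)
    (ρ : Bitors.RightStr P H) (ρ' : Bitors.RightStr P' H)
    (φ : Bitors.IsomFamily P H) (φ' : Bitors.IsomFamily P' H)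
    (hρ : ∀ (U : Cᵒᵖ) (q : P.P.obj.obj U) (h : H.obj.obj U), ρ.rsmul q h = P.smul (φ.φ q h) q)
    (hρ' : ∀ (U : Cᵒᵖ) (q : P'.P.obj.obj U) (h : H.obj.obj U), ρ'.rsmul q h = P'.smul (φ'.φ q h) q)
    (Y : C) (hY : J.CoversTop (fun _ : PUnit.{w + 1} => Y))
    (p : P.P.obj.obj (op Y)) (p' : P'.P.obj.obj (op Y)) (f : P ⟶ P') (g : G.obj.obj (op Y))
    (hg : f.hom.hom.app (op Y) p = P'.smul g p') :
    (∀ (U : Cᵒᵖ) (q : P.P.obj.obj U) (h : H.obj.obj U),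
        f.hom.hom.app U (ρ.rsmul q h) = ρ'.rsmul (f.hom.hom.app U q) h) ↔
      ∀ (V : C) (t : V ⟶ Y) (h : H.obj.obj (op V)),
        φ.φ (P.P.obj.map t.op p) h =
          G.obj.map t.op g * φ'.φ (P'.P.obj.map t.op p') h * (G.obj.map t.op g)⁻¹ := by
  rw [hom_iff G H P P' hP' ρ ρ' φ φ' hρ hρ' f]
  have hnat : ∀ {U V : Cᵒᵖ} (s : U ⟶ V) (q : P.P.obj.obj U),
      f.hom.hom.app V (P.P.obj.map s q) = P'.P.obj.map s (f.hom.hom.app U q) := by
    intro U V s q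
    exact NatTrans.naturality_apply f.hom.hom s q
  have key : ∀ (V : C) (t : V ⟶ Y), f.hom.hom.app (op V) (P.P.obj.map t.op p) =
      P'.smul (G.obj.map t.op g) (P'.P.obj.map t.op p') := by
    intro V t
    rw [hnat, hg, P'.map_smul]
  constructor
  · intro hφ V t h
    rw [hφ, key, φ'.φ_smul]
  · intro hφ U q h
    induction U using Opposite.rec with | _ U => ?_
    apply grp_sheaf_sep G _ (hY U)
    rintro V s ⟨_, ⟨t⟩⟩
    rw [φ.map_φ, φ'.map_φ, ← hnat]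
    obtain ⟨a, ha, -⟩ := hP (op V) (P.P.obj.map t.op p) (P.P.obj.map s.op q)
    rw [← ha, f.map_smul, key, φ.φ_smul, hφ, ← P'.mul_smul, φ'.φ_smul]
    simp [mul_assoc]

end Groth.Agent.H9.Bitors2
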