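import Mathlib

/-! Helper9: reverse characteristic polynomial of a block cyclic matrix -/

namespace Groth.Agent.H9.BlockCyc

open Matrix Kronecker

universe u v

variable {P : Type u} [CommRing P] {m : Type v} [Fintype m] [DecidableEq m]

/-- shift matrix times `x` -/
def Sx (n : ℕ) (x : P) : Matrix (Fin n) (Fin n) P :=
  Matrix.of fun i j => if j.val + 1 = i.val then x else 0

/-- corner matrix unit -/
def E (n : ℕ) : Matrix (Fin n) (Fin n) P :=
  Matrix.of fun i j => if i.val = 0 ∧ j.val = n - 1 then 1 else 0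

/-- inverse of `1 - Sx` -/
def U0 (n : ℕ) (x : P) : Matrix (Fin n) (Fin n) P :=
  Matrix.of fun i j => if j.val ≤ i.val then x ^ (i.val - j.val) else 0

/-- `U0 * E` -/
def Cc (n : ℕ) (x : P) : Matrix (Fin n) (Fin n) P :=
  Matrix.of fun i j => if j.val = n - 1 then x ^ i.val else 0

theorem U0_mul_Sx (n : ℕ) (x : P) : U0 n x * Sx n x = U0 n x - 1 := by
  ext i j
  rw [Matrix.mul_apply, Matrix.sub_apply, Matrix.one_apply]
  simp only [U0, Sx, Matrix.of_apply]
  by_cases hj : j.val + 1 < n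
  · rw [Finset.sum_eq_single (⟨j.val + 1, hj⟩ : Fin n)]
    · simp only [if_true]
      by_cases h1 : j.val + 1 ≤ i.val
      · have h2 : j.val ≤ i.val := by omega
        have h3 : i ≠ j := by intro h; rw [h] at h1; omega
        rw [if_pos h1, if_pos h2, if_neg h3, sub_zero, ← pow_succ]
        congr 1
        omega
      · rw [if_neg h1, zero_mul]
        by_cases h2 : j.val ≤ i.val
        · have h3 : i = j := Fin.ext (by omega)
          rw [if_pos h2, if_pos h3, h3, Nat.sub_self, pow_zero, sub_self]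
        · have h3 : i ≠ j := by intro h; rw [h] at h2; omega
          rw [if_neg h2, if_neg h3, sub_zero]
    · intro k _ hk
      have : ¬ (j.val + 1 = k.val) := by
        intro h
        apply hk
        exact Fin.ext h.symm
      rw [if_neg this, mul_zero]
    · intro h
      exact absurd (Finset.mem_univ _) h
  · rw [Finset.sum_eq_zero]
    · have hi : i.val < n := i.isLt
      by_cases h2 : j.val ≤ i.val
      · have h3 : i = j := Fin.ext (by omega)
        rw [if_pos h2, if_pos h3, h3, Nat.sub_self, pow_zero, sub_self]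
      · have h3 : i ≠ j := by intro h; rw [h] at h2; omega
        rw [if_neg h2, if_neg h3, sub_zero]
    · intro k _
      have hk : k.val < n := k.isLt
      have : ¬ (j.val + 1 = k.val) := by omega
      rw [if_neg this, mul_zero]

theorem U0_mul_E (n : ℕ) (hn : 1 ≤ n) (x : P) : U0 n x * E n = Cc n x := by
  ext i j
  rw [Matrix.mul_apply]
  simp only [U0, E, Cc, Matrix.of_apply]
  rw [Finset.sum_eq_single (⟨0, by omega⟩ : Fin n)]
  · simp only [Nat.zero_le, if_true, true_and, Nat.sub_zero]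
    by_cases h : j.val = n - 1
    · rw [if_pos h, if_pos h, mul_one]
    · rw [if_neg h, if_neg h, mul_zero]
  · intro k _ hk
    have : ¬ (k.val = 0 ∧ j.val = n - 1) := by
      rintro ⟨h, _⟩
      exact hk (Fin.ext h)
    rw [if_neg this, mul_zero]
  · intro h
    exact absurd (Finset.mem_univ _) h

theorem det_U0 (n : ℕ) (x : P) : (U0 n x).det = 1 := by
  rw [Matrix.det_of_lowerTriangular]
  · refine Finset.prod_eq_one (fun i _ => ?_)
    simp [U0]
  · intro i j hij
    simp only [U0, Matrix.of_apply]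
    rw [if_neg]
    simpa using hij

omit [Fintype m] [DecidableEq m] in
theorem sub_kron {l : Type*} (A B : Matrix l l P) (C : Matrix m m P) :
    (A - B) ⊗ₖ C = A ⊗ₖ C - B ⊗ₖ C := by
  ext ⟨i, a⟩ ⟨j, b⟩
  simp [sub_mul]

variable (m) in
/-- column inclusion weighted by powers of `x` -/
def Pm (n : ℕ) (x : P) : Matrix (Fin n × m) m P :=
  Matrix.of fun p b => if p.2 = b then x ^ p.1.val else 0

/-- last block row -/
def Qm (n : ℕ) (Y : Matrix m m P) : Matrix m (Fin n × m) P :=
  Matrix.of fun a q => if q.1.val = n - 1 then Y a q.2 else 0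

theorem Pm_mul_Qm (n : ℕ) (x : P) (Y : Matrix m m P) : Pm m n x * Qm n Y = Cc n x ⊗ₖ Y := by
  ext ⟨i, a⟩ ⟨j, b⟩
  rw [Matrix.mul_apply, kronecker_apply]
  simp only [Pm, Qm, Cc, Matrix.of_apply]
  rw [Finset.sum_eq_single a]
  · by_cases h : j.val = n - 1
    · simp [h]
    · simp [h]
  · intro c _ hc
    rw [if_neg (Ne.symm hc), zero_mul]
  · intro h
    exact absurd (Finset.mem_univ _) h

theorem Qm_mul_Pm (n : ℕ) (hn : 1 ≤ n) (x : P) (Y : Matrix m m P) :
    Qm n Y * Pm m n x = x ^ (n - 1) • Y := by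
  ext a b
  rw [Matrix.mul_apply, Matrix.smul_apply, smul_eq_mul, Fintype.sum_prod_type]
  simp only [Pm, Qm, Matrix.of_apply]
  rw [Finset.sum_eq_single (⟨n - 1, by omega⟩ : Fin n)]
  · rw [Finset.sum_eq_single b]
    · simp [mul_comm]
    · intro c _ hc
      rw [if_neg hc, mul_zero]
    · intro h
      exact absurd (Finset.mem_univ _) h
  · intro j _ hj
    have : ¬ (j.val = n - 1) := fun h => hj (Fin.ext h)
    refine Finset.sum_eq_zero (fun c _ => ?_)
    rw [if_neg this, zero_mul]
  · intro h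
    exact absurd (Finset.mem_univ _) h

theorem core (n : ℕ) (hn : 1 ≤ n) (x : P) (Y : Matrix m m P) :
    det (1 - (Sx n x ⊗ₖ (1 : Matrix m m P) + E n ⊗ₖ Y)) = det (1 - x ^ (n - 1) • Y) := by
  have hU : det (U0 n x ⊗ₖ (1 : Matrix m m P)) = 1 := by
    rw [det_kronecker, det_U0, det_one]
    simp
  have h1 : (U0 n x ⊗ₖ (1 : Matrix m m P)) * (1 - (Sx n x ⊗ₖ 1 + E n ⊗ₖ Y))
      = 1 - Cc n x ⊗ₖ Y := by
    rw [Matrix.mul_sub, Matrix.mul_one, Matrix.mul_add, ← mul_kronecker_mul, ← mul_kronecker_mul,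
      U0_mul_Sx, U0_mul_E n hn, Matrix.mul_one, Matrix.one_mul, sub_kron, one_kronecker_one]
    abel
  calc det (1 - (Sx n x ⊗ₖ (1 : Matrix m m P) + E n ⊗ₖ Y))
      = det (U0 n x ⊗ₖ (1 : Matrix m m P)) * det (1 - (Sx n x ⊗ₖ (1 : Matrix m m P) + E n ⊗ₖ Y)) := by
        rw [hU, one_mul]
    _ = det (1 - Cc n x ⊗ₖ Y) := by rw [← Matrix.det_mul, h1]
    _ = det (1 - Pm m n x * Qm n Y) := by rw [Pm_mul_Qm]
    _ = det (1 - Qm n Y * Pm m n x) := Matrix.det_one_sub_mul_comm _ _
    _ = det (1 - x ^ (n - 1) • Y) := by rw [Qm_mul_Pm n hn]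

open Polynomial in
theorem main {R : Type u} [CommRing R] (A : Matrix m m R) (n : ℕ) (hn : 1 ≤ n) :
    (Matrix.of fun (p q : Fin n × m) =>
        if p.1.val = 0 then (if q.1.val = n - 1 then A p.2 q.2 else 0)
        else (if q.1.val + 1 = p.1.val ∧ p.2 = q.2 then 1 else 0)).charpolyRev =
      Polynomial.expand R n A.charpolyRev := by
  rw [Matrix.charpolyRev, Matrix.charpolyRev]
  have h1 : (X : R[X]) • (Matrix.of fun (p q : Fin n × m) =>
        if p.1.val = 0 then (if q.1.val = n - 1 then A p.2 q.2 else 0)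
        else (if q.1.val + 1 = p.1.val ∧ p.2 = q.2 then 1 else 0)).map C
      = Sx n (X : R[X]) ⊗ₖ (1 : Matrix m m R[X]) + E n ⊗ₖ ((X : R[X]) • A.map C) := by
    ext ⟨i, a⟩ ⟨j, b⟩
    simp only [Matrix.smul_apply, Matrix.map_apply, Matrix.of_apply, Matrix.add_apply,
      kronecker_apply, Sx, E, smul_eq_mul, Matrix.one_apply]
    by_cases hi : i.val = 0
    · have h2 : ¬ (j.val + 1 = i.val) := by omega
      rw [if_pos hi, if_neg h2, zero_mul, zero_add]
      by_cases hj : j.val = n - 1
      · rw [if_pos hj, if_pos ⟨hi, hj⟩, one_mul]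
      · have : ¬ (i.val = 0 ∧ j.val = n - 1) := fun h => hj h.2
        rw [if_neg hj, if_neg this, zero_mul, map_zero, mul_zero]
    · have : ¬ (i.val = 0 ∧ j.val = n - 1) := fun h => hi h.1
      rw [if_neg hi, if_neg this, zero_mul, add_zero]
      by_cases h2 : j.val + 1 = i.val
      · by_cases hab : a = b
        · rw [if_pos ⟨h2, hab⟩, if_pos h2, if_pos hab, map_one]
        · have : ¬ (j.val + 1 = i.val ∧ a = b) := fun h => hab h.2
          rw [if_neg this, if_neg hab, map_zero, mul_zero, mul_zero]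
      · have : ¬ (j.val + 1 = i.val ∧ a = b) := fun h => h2 h.1
        rw [if_neg this, if_neg h2, map_zero, mul_zero, zero_mul]
  rw [h1, core n hn, smul_smul, ← pow_succ, Nat.sub_add_cancel hn]
  have h2 : (1 - (X : R[X]) ^ n • A.map C : Matrix m m R[X])
      = (Polynomial.expand R n : R[X] →+* R[X]).mapMatrix (1 - (X : R[X]) • A.map C) := by
    ext a b
    by_cases hab : a = b
    · subst hab
      simp
    · simp [hab]
  rw [h2, ← RingHom.map_det]
  rfl

end Groth.Agent.H9.BlockCyc
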