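import Mathlib
import Groth.Prelude.Def_W4c1nerontoraddGraph

/-! Helper9: multidegrees on the total blow-up graph of a labelled multigraph. -/

set_option linter.unusedSectionVars false
set_option linter.unusedVariables false
set_option linter.unusedSimpArgs false

universe u v

namespace Groth.Agent.H9.BlowUp

open LabGraph

variable {V E : Type u} [Fintype V] [Fintype E] [DecidableEq V] [DecidableEq E]

/-- value of a vertex labelling of the blow-up at the `j`-th vertex of the path of `e` -/
def PP (ends : E → V × V) (l : E → ℕ) (ψ : BlVert V E l → ℤ) (e : E) (j : ℕ) : ℤ :=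
  ψ (pathVert ends l e j)

theorem pathVert_zero (ends : E → V × V) (l : E → ℕ) (e : E) :
    pathVert ends l e 0 = Sum.inl (ends e).1 := by
  unfold pathVert
  rw [dif_pos rfl]

theorem pathVert_top (ends : E → V × V) (l : E → ℕ) (e : E) (j : ℕ) (h0 : j ≠ 0) (h : l e ≤ j) :
    pathVert ends l e j = Sum.inl (ends e).2 := by
  unfold pathVert
  rw [dif_neg h0, dif_neg (by omega)]

theorem pathVert_mid (ends : E → V × V) (l : E → ℕ) (e : E) (j : ℕ) (h0 : j ≠ 0) (h : j < l e) :
    pathVert ends l e j = Sum.inr ⟨e, ⟨j - 1, by omega⟩⟩ := by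
  unfold pathVert
  rw [dif_neg h0, dif_pos h]

/-- auxiliary codes -/
def idx (l : E → ℕ) : BlVert V E l → ℕ
  | Sum.inl _ => 0
  | Sum.inr p => p.2.val + 1

def edg (l : E → ℕ) : BlVert V E l → Option E
  | Sum.inl _ => none
  | Sum.inr p => some p.1

theorem pathVert_eq_inr (ends : E → V × V) (l : E → ℕ) (e : E) (j : ℕ) (e0 : E) (i0 : Fin (l e0 - 1)) :
    pathVert ends l e j = Sum.inr ⟨e0, i0⟩ ↔ e = e0 ∧ j = i0.val + 1 := by
  constructor
  · intro h
    by_cases h0 : j = 0
    · rw [h0, pathVert_zero] at h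
      exact absurd h (by simp)
    · by_cases hj : j < l e
      · rw [pathVert_mid ends l e j h0 hj] at h
        have h1 := congrArg (edg l) h
        have h2 := congrArg (idx l) h
        simp only [edg, idx] at h1 h2
        refine ⟨Option.some.inj h1, ?_⟩
        omega
      · rw [pathVert_top ends l e j h0 (by omega)] at h
        exact absurd h (by simp)
  · rintro ⟨rfl, rfl⟩
    have hi := i0.isLt
    rw [pathVert_mid ends l e _ (by omega) (by omega)]
    congr 1

theorem pathVert_eq_inl (ends : E → V × V) (l : E → ℕ) (e : E) (j : ℕ) (v : V) :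
    pathVert ends l e j = Sum.inl v ↔ (j = 0 ∧ (ends e).1 = v) ∨ (j ≠ 0 ∧ l e ≤ j ∧ (ends e).2 = v) := by
  by_cases h0 : j = 0
  · rw [h0, pathVert_zero]
    simp
  · by_cases hj : j < l e
    · rw [pathVert_mid ends l e j h0 hj]
      simp [h0]
      omega
    · rw [pathVert_top ends l e j h0 (by omega)]
      simp [h0]
      omega

theorem mdeg_bl (ends : E → V × V) (l : E → ℕ) (ψ : BlVert V E l → ℤ) (w : BlVert V E l) :
    mdeg (blEnds ends l) (fun _ => 1) ψ w = ∑ e, ∑ k ∈ Finset.range (l e),
      ((if pathVert ends l e k = w then PP ends l ψ e (k + 1) - PP ends l ψ e k else 0) +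
       (if pathVert ends l e (k + 1) = w then PP ends l ψ e k - PP ends l ψ e (k + 1) else 0)) := by
  unfold mdeg
  rw [Fintype.sum_sigma]
  apply Finset.sum_congr rfl
  intro e _
  rw [← Fin.sum_univ_eq_sum_range (fun k => ((if pathVert ends l e k = w then PP ends l ψ e (k + 1) - PP ends l ψ e k else 0) +
       (if pathVert ends l e (k + 1) = w then PP ends l ψ e k - PP ends l ψ e (k + 1) else 0))) (l e)]
  apply Finset.sum_congr rfl
  intro k _
  simp only [blEnds, PP, Nat.cast_one, Int.ediv_one]

theorem mdeg_bl_inr (ends : E → V × V) (l : E → ℕ) (ψ : BlVert V E l → ℤ) (e0 : E) (i0 : Fin (l e0 - 1)) :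
    mdeg (blEnds ends l) (fun _ => 1) ψ (Sum.inr ⟨e0, i0⟩) =
      PP ends l ψ e0 (i0.val + 2) - 2 * PP ends l ψ e0 (i0.val + 1) + PP ends l ψ e0 i0.val := by
  have hi := i0.isLt
  rw [mdeg_bl]
  simp only [pathVert_eq_inr]
  rw [Finset.sum_eq_single e0]
  · simp only [true_and, Nat.add_right_cancel_iff, Finset.sum_add_distrib, Finset.sum_ite_eq', Finset.mem_range]
    rw [if_pos (by omega), if_pos (by omega)]
    ring
  · intro e _ hne
    apply Finset.sum_eq_zero
    intro k _
    simp [hne]
  · intro h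
    exact absurd (Finset.mem_univ _) h

theorem mdeg_bl_inl (ends : E → V × V) (l : E → ℕ) (hl : ∀ e, 0 < l e) (ψ : BlVert V E l → ℤ) (v : V) :
    mdeg (blEnds ends l) (fun _ => 1) ψ (Sum.inl v) =
      ∑ e, ((if (ends e).1 = v then PP ends l ψ e 1 - PP ends l ψ e 0 else 0) +
        (if (ends e).2 = v then PP ends l ψ e (l e - 1) - PP ends l ψ e (l e) else 0)) := by
  rw [mdeg_bl]
  apply Finset.sum_congr rfl
  intro e _
  have hle := hl e
  rw [Finset.sum_add_distrib]
  congr 1
  · rw [Finset.sum_eq_single 0]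
    · simp [pathVert_eq_inl]
    · intro k hk hne
      rw [if_neg]
      rw [pathVert_eq_inl]
      rw [Finset.mem_range] at hk
      omega
    · intro h
      exact absurd (Finset.mem_range.2 hle) h
  · rw [Finset.sum_eq_single (l e - 1)]
    · have : l e - 1 + 1 = l e := by omega
      rw [this]
      have hne : l e ≠ 0 := by omega
      simp [pathVert_eq_inl, hne]
    · intro k hk hne
      rw [if_neg]
      rw [pathVert_eq_inl]
      rw [Finset.mem_range] at hk
      omega
    · intro h
      exact absurd (Finset.mem_range.2 (by omega)) h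

theorem PP_zero (ends : E → V × V) (l : E → ℕ) (ψ : BlVert V E l → ℤ) (e : E) :
    PP ends l ψ e 0 = ψ (Sum.inl (ends e).1) := by
  unfold PP
  rw [pathVert_zero]

theorem PP_top (ends : E → V × V) (l : E → ℕ) (hl : ∀ e, 0 < l e) (ψ : BlVert V E l → ℤ) (e : E) :
    PP ends l ψ e (l e) = ψ (Sum.inl (ends e).2) := by
  unfold PP
  rw [pathVert_top ends l e (l e) (by have := hl e; omega) le_rfl]

/-- harmonic along the path ⇒ linear -/
theorem PP_linear (ends : E → V × V) (l : E → ℕ) (ψ : BlVert V E l → ℤ)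
    (hψ : ∀ (e : E) (i : Fin (l e - 1)), mdeg (blEnds ends l) (fun _ => 1) ψ (Sum.inr ⟨e, i⟩) = 0)
    (e : E) : ∀ j, j ≤ l e →
      PP ends l ψ e j = PP ends l ψ e 0 + j * (PP ends l ψ e 1 - PP ends l ψ e 0) := by
  intro j
  induction j using Nat.twoStepInduction with
  | zero => intro _; simp
  | one => intro _; ring
  | more j ih1 ih2 =>
    intro hj
    have h := hψ e ⟨j, by omega⟩
    rw [mdeg_bl_inr] at h
    simp only at h
    have h1 := ih1 (by omega)
    have h2 := ih2 (by omega)
    push_cast at h1 h2 ⊢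
    linarith

theorem s13759 (ends : E → V × V) (l : E → ℕ) (hl : ∀ e, 0 < l e)
    (α : V → ℤ) (ψ : LabGraph.BlVert V E l → ℤ)
    (hψ : ∀ w : LabGraph.BlVert V E l,
      LabGraph.mdeg (LabGraph.blEnds ends l) (fun _ => 1) ψ w = Sum.elim α (fun _ => (0 : ℤ)) w) :
    ∃ φ : V → ℤ, LabGraph.IsCartier ends l φ ∧ ∀ v : V, LabGraph.mdeg ends l φ v = α v := by
  have hlin := PP_linear ends l ψ (fun e i => by rw [hψ]; rfl)
  have hkey : ∀ e, ψ (Sum.inl (ends e).2) - ψ (Sum.inl (ends e).1) =
      (l e : ℤ) * (PP ends l ψ e 1 - PP ends l ψ e 0) := by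
    intro e
    have := hlin e (l e) le_rfl
    rw [PP_top ends l hl, PP_zero] at this
    rw [this, PP_zero]
    ring
  refine ⟨fun v => ψ (Sum.inl v), ?_, ?_⟩
  · intro e
    have := hkey e
    refine ⟨-(PP ends l ψ e 1 - PP ends l ψ e 0), ?_⟩
    simp only
    linarith
  · intro v
    have h1 := hψ (Sum.inl v)
    rw [mdeg_bl_inl ends l hl] at h1
    simp only [Sum.elim_inl] at h1
    rw [← h1]
    unfold mdeg
    apply Finset.sum_congr rfl
    intro e _
    have hle : (l e : ℤ) ≠ 0 := by have := hl e; positivity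
    have hk := hkey e
    congr 1
    · split_ifs
      · simp only
        rw [hk, Int.mul_ediv_cancel_left _ hle]
      · rfl
    · split_ifs
      · simp only
        have h2 : ψ (Sum.inl (ends e).1) - ψ (Sum.inl (ends e).2) =
            (l e : ℤ) * (-(PP ends l ψ e 1 - PP ends l ψ e 0)) := by linarith
        rw [h2, Int.mul_ediv_cancel_left _ hle]
        have h3 := hlin e (l e - 1) (by omega)
        have h4 := hlin e (l e) le_rfl
        rw [h3, h4]
        have : ((l e - 1 : ℕ) : ℤ) = (l e : ℤ) - 1 := by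
          have := hl e
          push_cast [Nat.cast_sub this]
          ring
        rw [this]
        ring
      · rfl

end Groth.Agent.H9.BlowUp
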