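import Mathlib
import Groth.Prelude.Def_W4c1nerontoraddGraph

/-! Helper9: Cartier functions decompose into Cartier pre-achievable ones when labels are constant on circuits. -/

set_option linter.unusedSectionVars false
set_option linter.unusedVariables false

universe u v

namespace Groth.Agent.H9.PreAch

open LabGraph

variable {V E : Type u} [Fintype V] [Fintype E] [DecidableEq V] [DecidableEq E]

/-- contribution of the edge `e` to the end count at `v` -/
def cc (ends : E → V × V) (e : E) (v : V) : ℕ :=
  (if (ends e).1 = v then 1 else 0) + (if (ends e).2 = v then 1 else 0)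

theorem endCount_eq (ends : E → V × V) (C : Finset E) (v : V) :
    endCount ends C v = ∑ e ∈ C, cc ends e v := rfl

theorem endCount_sdiff (ends : E → V × V) {C D : Finset E} (h : C ⊆ D) (v : V) :
    endCount ends (D \ C) v + endCount ends C v = endCount ends D v := by
  simp only [endCount_eq]
  exact Finset.sum_sdiff h

theorem endCount_insert (ends : E → V × V) {C : Finset E} {e : E} (h : e ∉ C) (v : V) :
    endCount ends (insert e C) v = cc ends e v + endCount ends C v := by
  simp only [endCount_eq]
  exact Finset.sum_insert h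

theorem exists_circuit (ends : E → V × V) : ∀ (n : ℕ) (D : Finset E), D.card = n →
    (∀ v, Even (endCount ends D v)) → ∀ e0 ∈ D, ∃ C ⊆ D, IsCircuit ends C ∧ e0 ∈ C := by
  intro n
  induction n using Nat.strong_induction_on with
  | _ n ih =>
    intro D hD hev e0 he0
    by_cases hcirc : IsCircuit ends D
    · exact ⟨D, subset_rfl, hcirc, he0⟩
    · unfold IsCircuit at hcirc
      push Not at hcirc
      obtain ⟨C', hC'D, hC'ne, hC'ev⟩ := hcirc ⟨e0, he0⟩ hev
      by_cases hin : e0 ∈ C'
      · obtain ⟨C, hCC', hC, heC⟩ :=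
          ih C'.card (by rw [← hD]; exact Finset.card_lt_card hC'D) C' rfl hC'ev e0 hin
        exact ⟨C, hCC'.trans hC'D.subset, hC, heC⟩
      · have hsd : ∀ v, Even (endCount ends (D \ C') v) := by
          intro v
          have := endCount_sdiff ends hC'D.subset v
          have h1 := hev v
          have h2 := hC'ev v
          rw [← this] at h1
          exact (Nat.even_add.1 h1).2 h2
        have hcard : (D \ C').card < n := by
          rw [← hD]
          exact Finset.card_lt_card (Finset.sdiff_ssubset hC'D.subset hC'ne)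
        obtain ⟨C, hCs, hC, heC⟩ :=
          ih _ hcard (D \ C') rfl hsd e0 (Finset.mem_sdiff.2 ⟨he0, hin⟩)
        exact ⟨C, hCs.trans Finset.sdiff_subset, hC, heC⟩

theorem handshake (ends : E → V × V) (C : Finset E) (hev : ∀ v, Even (endCount ends C v))
    (e0 : E) (he0 : e0 ∈ C) (H : V → ℤ)
    (hH : ∀ e ∈ C, e ≠ e0 → H (ends e).1 = H (ends e).2) :
    H (ends e0).1 = H (ends e0).2 := by
  by_contra hne
  set a := (ends e0).1 with ha
  have h1 : ∑ v ∈ Finset.univ.filter (fun v => H v = H a), ((endCount ends C v : ℕ) : ZMod 2) = 0 := by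
    apply Finset.sum_eq_zero
    intro v _
    exact (ZMod.natCast_eq_zero_iff_even).2 (hev v)
  have hterm : ∀ e : E, ∑ v ∈ Finset.univ.filter (fun v => H v = H a), ((cc ends e v : ℕ) : ZMod 2)
      = (if H (ends e).1 = H a then 1 else 0) + (if H (ends e).2 = H a then 1 else 0) := by
    intro e
    unfold cc
    simp only [Nat.cast_add, Nat.cast_ite, Nat.cast_one, Nat.cast_zero, Finset.sum_add_distrib]
    congr 1
    · rw [Finset.sum_ite_eq]
      simp
    · rw [Finset.sum_ite_eq]
      simp
  have h2 : ∑ v ∈ Finset.univ.filter (fun v => H v = H a), ((endCount ends C v : ℕ) : ZMod 2)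
      = ∑ e ∈ C, (((if H (ends e).1 = H a then 1 else 0) + (if H (ends e).2 = H a then 1 else 0)) : ZMod 2) := by
    simp only [endCount_eq, Nat.cast_sum]
    rw [Finset.sum_comm]
    exact Finset.sum_congr rfl (fun e _ => hterm e)
  rw [h2, ← Finset.add_sum_erase C _ he0] at h1
  have h3 : ∑ e ∈ C.erase e0, (((if H (ends e).1 = H a then 1 else 0) + (if H (ends e).2 = H a then 1 else 0)) : ZMod 2) = 0 := by
    apply Finset.sum_eq_zero
    intro e he
    rw [Finset.mem_erase] at he
    rw [hH e he.2 he.1]
    exact CharTwo.add_self_eq_zero _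
  rw [h3, add_zero, if_pos rfl, if_neg (fun h => hne h.symm)] at h1
  simp at h1

/-- toggling an edge of `S` changes the end counts mod 2 by the contribution of the edge -/
theorem toggle (ends : E → V × V) (S D : Finset E) (hD : D ⊆ S) (e : E) (he : e ∈ S) :
    ∃ D' ⊆ S, ∀ u, ((endCount ends D' u : ℕ) : ZMod 2) = (endCount ends D u : ℕ) + (cc ends e u : ℕ) := by
  by_cases h : e ∈ D
  · refine ⟨D.erase e, (Finset.erase_subset _ _).trans hD, ?_⟩
    intro u
    have h1 : cc ends e u + endCount ends (D.erase e) u = endCount ends D u := by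
      simp only [endCount_eq]
      exact Finset.add_sum_erase D (fun e => cc ends e u) h
    have h2 : ((cc ends e u : ℕ) : ZMod 2) + (endCount ends (D.erase e) u : ℕ) = (endCount ends D u : ℕ) := by
      rw [← h1]; push_cast; ring
    have h3 : ((cc ends e u : ℕ) : ZMod 2) + (cc ends e u : ℕ) = 0 := CharTwo.add_self_eq_zero _
    linear_combination h2 - h3
  · refine ⟨insert e D, Finset.insert_subset he hD, ?_⟩
    intro u
    rw [endCount_insert ends h]
    push_cast
    ring

theorem core (ends : E → V × V) {L : Type v} [DecidableEq L] (lab : E → L)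
    (hcirc : ∀ C : Finset E, IsCircuit ends C → ∀ e ∈ C, ∀ e' ∈ C, lab e = lab e')
    (f : V → ℤ) (lam : L) (S : Finset E) :
    ∃ g : V → ℤ, ∀ e ∈ S, g (ends e).2 - g (ends e).1 =
      if lab e = lam then f (ends e).2 - f (ends e).1 else 0 := by
  classical
  induction S using Finset.induction_on with
  | empty => exact ⟨0, by simp⟩
  | insert e0 S' he0 ih =>
    obtain ⟨g', hg'⟩ := ih
    set a := (ends e0).1 with ha
    set b := (ends e0).2 with hb
    by_cases hK : ∃ K : Finset V, b ∈ K ∧ a ∉ K ∧ ∀ e ∈ S', ((ends e).1 ∈ K ↔ (ends e).2 ∈ K)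
    · obtain ⟨K, hbK, haK, hKc⟩ := hK
      set d : ℤ := (if lab e0 = lam then f b - f a else 0) - (g' b - g' a) with hd
      refine ⟨fun v => g' v + if v ∈ K then d else 0, ?_⟩
      intro e he
      rcases Finset.mem_insert.1 he with h | he'
      · rw [h]
        simp only [← ha, ← hb, if_pos hbK, if_neg haK]
        rw [hd]; ring
      · have := hKc e he'
        have h2 := hg' e he'
        by_cases h1 : (ends e).1 ∈ K
        · have h3 := this.1 h1
          simp only [if_pos h1, if_pos h3]
          linarith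
        · have h3 : (ends e).2 ∉ K := fun h => h1 (this.2 h)
          simp only [if_neg h1, if_neg h3]
          linarith
    · refine ⟨g', ?_⟩
      intro e he
      rcases Finset.mem_insert.1 he with h | he'
      swap
      · exact hg' e he'
      rw [h]
      clear he h e
      -- the parity-reachable set from b
      set K : Finset V := Finset.univ.filter (fun v => ∃ D ⊆ S', ∀ u,
        ((endCount ends D u : ℕ) : ZMod 2) = (if b = u then 1 else 0) + (if v = u then 1 else 0)) with hKdef
      have hbK : b ∈ K := by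
        rw [hKdef, Finset.mem_filter]
        refine ⟨Finset.mem_univ _, ∅, Finset.empty_subset _, ?_⟩
        intro u
        rw [endCount_eq, Finset.sum_empty, Nat.cast_zero]
        exact (CharTwo.add_self_eq_zero _).symm
      have hstep : ∀ e ∈ S', ∀ v w : V, ((ends e).1 = v ∧ (ends e).2 = w) ∨ ((ends e).1 = w ∧ (ends e).2 = v) →
          v ∈ K → w ∈ K := by
        intro e he v w hvw hv
        rw [hKdef, Finset.mem_filter] at hv ⊢
        obtain ⟨_, D, hDS, hDu⟩ := hv
        obtain ⟨D', hD'S, hD'u⟩ := toggle ends S' D hDS e he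
        refine ⟨Finset.mem_univ _, D', hD'S, ?_⟩
        intro u
        rw [hD'u u, hDu u]
        have hcc : ((cc ends e u : ℕ) : ZMod 2) = (if v = u then 1 else 0) + (if w = u then 1 else 0) := by
          unfold cc
          rcases hvw with ⟨h1, h2⟩ | ⟨h1, h2⟩
          · rw [h1, h2]; push_cast; rfl
          · rw [h1, h2]; push_cast; rw [add_comm]
        rw [hcc]
        have h3 : ((if v = u then 1 else 0 : ZMod 2)) + (if v = u then 1 else 0) = 0 :=
          CharTwo.add_self_eq_zero _
        linear_combination h3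
      have hclosed : ∀ e ∈ S', ((ends e).1 ∈ K ↔ (ends e).2 ∈ K) := by
        intro e he
        constructor
        · exact hstep e he _ _ (Or.inl ⟨rfl, rfl⟩)
        · exact hstep e he _ _ (Or.inr ⟨rfl, rfl⟩)
      have haK : a ∈ K := by
        by_contra haK
        exact hK ⟨K, hbK, haK, hclosed⟩
      rw [hKdef, Finset.mem_filter] at haK
      obtain ⟨_, D, hDS, hDu⟩ := haK
      have he0D : e0 ∉ D := fun h => he0 (hDS h)
      have hev : ∀ u, Even (endCount ends (insert e0 D) u) := by
        intro u
        rw [← ZMod.natCast_eq_zero_iff_even, endCount_insert ends he0D]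
        push_cast
        rw [hDu u]
        unfold cc
        push_cast
        rw [← ha, ← hb]
        have h3 : ((if a = u then 1 else 0 : ZMod 2)) + (if a = u then 1 else 0) = 0 :=
          CharTwo.add_self_eq_zero _
        have h4 : ((if b = u then 1 else 0 : ZMod 2)) + (if b = u then 1 else 0) = 0 :=
          CharTwo.add_self_eq_zero _
        linear_combination h3 + h4
      obtain ⟨C, hCs, hC, heC⟩ := exists_circuit ends _ (insert e0 D) rfl hev e0 (Finset.mem_insert_self _ _)
      have hlab : ∀ e ∈ C, lab e = lab e0 := fun e he => hcirc C hC e he e0 heC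
      have hH := handshake ends C hC.2.1 e0 heC (fun v => g' v - if lab e0 = lam then f v else 0) ?_
      · simp only [← ha, ← hb] at hH
        split_ifs at hH ⊢ with h
        · linarith
        · linarith
      · intro e he hne
        have heD : e ∈ D := by
          rcases Finset.mem_insert.1 (hCs he) with h | h
          · exact absurd h hne
          · exact h
        have h2 := hg' e (hDS heD)
        rw [hlab e he] at h2
        split_ifs at h2 ⊢ with h
        · linarith
        · linarith

theorem decomp (ends : E → V × V) {L : Type v} [DecidableEq L] (lab : E → L)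
    (hcirc : ∀ C : Finset E, IsCircuit ends C → ∀ e ∈ C, ∀ e' ∈ C, lab e = lab e')
    (f : V → ℤ) (v₀ : V) :
    ∃ (c : V → ℤ) (g : L → V → ℤ) (Λ : Finset L), (∀ e, c (ends e).1 = c (ends e).2) ∧
      (∀ lam e, g lam (ends e).2 - g lam (ends e).1 =
        if lab e = lam then f (ends e).2 - f (ends e).1 else 0) ∧
      (∀ lam, g lam v₀ = 0) ∧ c v₀ = f v₀ ∧ f = c + ∑ lam ∈ Λ, g lam := by
  classical
  have hex : ∀ lam : L, ∃ g : V → ℤ, ∀ e, g (ends e).2 - g (ends e).1 =
      if lab e = lam then f (ends e).2 - f (ends e).1 else 0 := by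
    intro lam
    obtain ⟨g, hg⟩ := core ends lab hcirc f lam Finset.univ
    exact ⟨g, fun e => hg e (Finset.mem_univ _)⟩
  choose g0 hg0 using hex
  set g : L → V → ℤ := fun lam v => g0 lam v - g0 lam v₀ with hgdef
  set Λ : Finset L := Finset.univ.image lab with hΛ
  have hg : ∀ lam e, g lam (ends e).2 - g lam (ends e).1 =
        if lab e = lam then f (ends e).2 - f (ends e).1 else 0 := by
    intro lam e
    rw [← hg0 lam e]
    simp only [hgdef]
    ring
  have hg0' : ∀ lam, g lam v₀ = 0 := by
    intro lam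
    simp only [hgdef]
    ring
  refine ⟨f - ∑ lam ∈ Λ, g lam, g, Λ, ?_, hg, hg0', ?_, ?_⟩
  · intro e
    have h1 : ∑ lam ∈ Λ, (g lam (ends e).2 - g lam (ends e).1) = f (ends e).2 - f (ends e).1 := by
      simp only [hg]
      rw [Finset.sum_ite_eq]
      rw [if_pos]
      rw [hΛ]
      exact Finset.mem_image_of_mem _ (Finset.mem_univ _)
    rw [Finset.sum_sub_distrib] at h1
    simp only [Pi.sub_apply, Finset.sum_apply]
    linarith
  · simp only [Pi.sub_apply, Finset.sum_apply, hg0', Finset.sum_const_zero, sub_zero]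
  · abel

theorem main (ends : E → V × V) {L : Type v} (lab : E → L) (n : E → ℕ)
    (hne : Nonempty V)
    (hcirc : ∀ C : Finset E, LabGraph.IsCircuit ends C → ∀ e ∈ C, ∀ e' ∈ C, lab e = lab e')
    (f : V → ℤ) (hf : LabGraph.IsCartier ends n f) :
    f ∈ AddSubmonoid.closure {g : V → ℤ | LabGraph.IsCartier ends n g ∧ (∃ B : Finset E, (∀ e ∈ B, ∀ e' ∈ B, lab e = lab e') ∧ ∀ e, e ∉ B → g (ends e).1 = g (ends e).2)} ∧
    ∀ v₀ : V, f v₀ = 0 →
      f ∈ AddSubmonoid.closure {g : V → ℤ | LabGraph.IsCartier ends n g ∧ (∃ B : Finset E, (∀ e ∈ B, ∀ e' ∈ B, lab e = lab e') ∧ ∀ e, e ∉ B → g (ends e).1 = g (ends e).2) ∧ g v₀ = 0} := by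
  classical
  have key : ∀ v₀ : V, ∃ (c : V → ℤ) (g : L → V → ℤ) (Λ : Finset L),
      (LabGraph.IsCartier ends n c ∧ (∃ B : Finset E, (∀ e ∈ B, ∀ e' ∈ B, lab e = lab e') ∧ ∀ e, e ∉ B → c (ends e).1 = c (ends e).2) ∧ c v₀ = f v₀) ∧
      (∀ lam, LabGraph.IsCartier ends n (g lam) ∧ (∃ B : Finset E, (∀ e ∈ B, ∀ e' ∈ B, lab e = lab e') ∧ ∀ e, e ∉ B → g lam (ends e).1 = g lam (ends e).2) ∧ g lam v₀ = 0) ∧
      f = c + ∑ lam ∈ Λ, g lam := by
    intro v₀
    obtain ⟨c, g, Λ, hc, hg, hg0, hc0, hfeq⟩ := decomp ends lab hcirc f v₀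
    refine ⟨c, g, Λ, ⟨?_, ⟨∅, by simp, fun e _ => hc e⟩, hc0⟩, ?_, hfeq⟩
    · intro e
      rw [hc e, sub_self]
      exact dvd_zero _
    · intro lam
      refine ⟨?_, ⟨Finset.univ.filter (fun e => lab e = lam), ?_, ?_⟩, hg0 lam⟩
      · intro e
        have h1 := hg lam e
        have h2 : g lam (ends e).1 - g lam (ends e).2 = -(g lam (ends e).2 - g lam (ends e).1) := by ring
        rw [h2, h1]
        split_ifs
        · have := hf e
          rw [neg_sub]
          exact this
        · simp
      · intro e he e' he'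
        rw [Finset.mem_filter] at he he'
        rw [he.2, he'.2]
      · intro e he
        have h1 := hg lam e
        rw [Finset.mem_filter] at he
        rw [if_neg (fun h => he ⟨Finset.mem_univ _, h⟩)] at h1
        linarith
  constructor
  · obtain ⟨v₀⟩ := hne
    obtain ⟨c, g, Λ, hc, hg, hfeq⟩ := key v₀
    rw [hfeq]
    refine AddSubmonoid.add_mem _ (AddSubmonoid.subset_closure ⟨hc.1, hc.2.1⟩) (AddSubmonoid.sum_mem _ ?_)
    intro lam _
    exact AddSubmonoid.subset_closure ⟨(hg lam).1, (hg lam).2.1⟩
  · intro v₀ hv₀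
    obtain ⟨c, g, Λ, hc, hg, hfeq⟩ := key v₀
    rw [hfeq]
    refine AddSubmonoid.add_mem _ (AddSubmonoid.subset_closure ⟨hc.1, hc.2.1, ?_⟩) (AddSubmonoid.sum_mem _ ?_)
    · rw [hc.2.2, hv₀]
    · intro lam _
      exact AddSubmonoid.subset_closure (hg lam)

end Groth.Agent.H9.PreAch
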