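import Mathlib
import Groth.Prelude.Def_W4c1nerontoraddGraph
import Groth.Agent.Lib.Helper9.Misc.PreAch

/-! Helper9: circuit-coprime labelled graphs: integral cycles on circuits, forests, and the surjectivity criterion. -/

set_option linter.unusedSectionVars false
set_option linter.unusedVariables false
set_option linter.unusedSimpArgs false

universe u v

namespace Groth.Agent.H9.CircCop

open LabGraph Groth.Agent.H9.PreAch

variable {V E : Type u} [Fintype V] [Fintype E] [DecidableEq V] [DecidableEq E]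

/-- coboundary of a vertex function -/
def dl (ends : E → V × V) (φ : V → ℤ) (e : E) : ℤ := φ (ends e).2 - φ (ends e).1

theorem sbp (ends : E → V × V) (γ : E → ℤ) (φ : V → ℤ) :
    ∑ e, γ e * dl ends φ e = ∑ v, φ v * boundary ends γ v := by
  unfold boundary
  simp only [Finset.mul_sum]
  rw [Finset.sum_comm]
  apply Finset.sum_congr rfl
  intro e _
  simp only [mul_sub, Finset.sum_sub_distrib, mul_ite, mul_zero, Finset.sum_ite_eq, Finset.mem_univ, if_true]
  unfold dl
  ring

theorem boundary_add (ends : E → V × V) (γ γ' : E → ℤ) (v : V) :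
    boundary ends (γ + γ') v = boundary ends γ v + boundary ends γ' v := by
  unfold boundary
  rw [← Finset.sum_add_distrib]
  apply Finset.sum_congr rfl
  intro e _
  simp only [Pi.add_apply]
  split_ifs <;> ring

theorem boundary_sub (ends : E → V × V) (γ γ' : E → ℤ) (v : V) :
    boundary ends (γ - γ') v = boundary ends γ v - boundary ends γ' v := by
  unfold boundary
  rw [← Finset.sum_sub_distrib]
  apply Finset.sum_congr rfl
  intro e _
  simp only [Pi.sub_apply]
  split_ifs <;> ring

theorem boundary_zero (ends : E → V × V) (v : V) :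
    boundary ends (0 : E → ℤ) v = 0 := by
  unfold boundary
  simp

theorem boundary_single (ends : E → V × V) (e0 : E) (v : V) :
    boundary ends (Pi.single e0 1) v =
      (if (ends e0).2 = v then 1 else 0) - (if (ends e0).1 = v then 1 else 0) := by
  unfold boundary
  rw [Finset.sum_eq_single e0]
  · simp
  · intro e _ hne
    simp [Pi.single_apply, hne]
  · intro h
    exact absurd (Finset.mem_univ _) h

/-- integral dichotomy: two vertices are either separated by a cut avoiding `S`, or joined by an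
integral chain supported in `S`. -/
theorem dichZ (ends : E → V × V) (S : Finset E) (a b : V) :
    (∃ K : Finset V, b ∈ K ∧ a ∉ K ∧ ∀ e ∈ S, ((ends e).1 ∈ K ↔ (ends e).2 ∈ K)) ∨
    (∃ γ : E → ℤ, (∀ e, e ∉ S → γ e = 0) ∧
      ∀ u, boundary ends γ u = (if a = u then 1 else 0) - (if b = u then 1 else 0)) := by
  classical
  set K : Finset V := Finset.univ.filter (fun v => ∃ γ : E → ℤ, (∀ e, e ∉ S → γ e = 0) ∧
      ∀ u, boundary ends γ u = (if v = u then 1 else 0) - (if b = u then 1 else 0)) with hKdef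
  have hbK : b ∈ K := by
    rw [hKdef, Finset.mem_filter]
    refine ⟨Finset.mem_univ _, 0, fun _ _ => rfl, ?_⟩
    intro u
    rw [boundary_zero, sub_self]
  have hclosed : ∀ e ∈ S, ((ends e).1 ∈ K ↔ (ends e).2 ∈ K) := by
    intro e he
    constructor
    · intro hv
      rw [hKdef, Finset.mem_filter] at hv ⊢
      obtain ⟨_, γ, hγS, hγ⟩ := hv
      refine ⟨Finset.mem_univ _, γ + Pi.single e 1, ?_, ?_⟩
      · intro e' he'
        have : e' ≠ e := fun h => he' (h ▸ he)
        simp [hγS e' he', Pi.single_apply, this]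
      · intro u
        rw [boundary_add, hγ u, boundary_single]
        ring
    · intro hv
      rw [hKdef, Finset.mem_filter] at hv ⊢
      obtain ⟨_, γ, hγS, hγ⟩ := hv
      refine ⟨Finset.mem_univ _, γ - Pi.single e 1, ?_, ?_⟩
      · intro e' he'
        have : e' ≠ e := fun h => he' (h ▸ he)
        simp [hγS e' he', Pi.single_apply, this]
      · intro u
        rw [boundary_sub, hγ u, boundary_single]
        ring
  by_cases haK : a ∈ K
  · right
    rw [hKdef, Finset.mem_filter] at haK
    exact haK.2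
  · left
    exact ⟨K, hbK, haK, hclosed⟩

/-- mod 2 dichotomy -/
theorem dich2 (ends : E → V × V) (S : Finset E) (a b : V) :
    (∃ K : Finset V, b ∈ K ∧ a ∉ K ∧ ∀ e ∈ S, ((ends e).1 ∈ K ↔ (ends e).2 ∈ K)) ∨
    (∃ D ⊆ S, ∀ u, ((endCount ends D u : ℕ) : ZMod 2) =
      (if b = u then 1 else 0) + (if a = u then 1 else 0)) := by
  classical
  set K : Finset V := Finset.univ.filter (fun v => ∃ D ⊆ S, ∀ u,
    ((endCount ends D u : ℕ) : ZMod 2) = (if b = u then 1 else 0) + (if v = u then 1 else 0)) with hKdef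
  have hbK : b ∈ K := by
    rw [hKdef, Finset.mem_filter]
    refine ⟨Finset.mem_univ _, ∅, Finset.empty_subset _, ?_⟩
    intro u
    rw [endCount_eq, Finset.sum_empty, Nat.cast_zero]
    exact (CharTwo.add_self_eq_zero _).symm
  have hstep : ∀ e ∈ S, ∀ v w : V, ((ends e).1 = v ∧ (ends e).2 = w) ∨ ((ends e).1 = w ∧ (ends e).2 = v) →
      v ∈ K → w ∈ K := by
    intro e he v w hvw hv
    rw [hKdef, Finset.mem_filter] at hv ⊢
    obtain ⟨_, D, hDS, hDu⟩ := hv
    obtain ⟨D', hD'S, hD'u⟩ := toggle ends S D hDS e he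
    refine ⟨Finset.mem_univ _, D', hD'S, ?_⟩
    intro u
    rw [hD'u u, hDu u]
    have hcc : ((cc ends e u : ℕ) : ZMod 2) = (if v = u then 1 else 0) + (if w = u then 1 else 0) := by
      unfold cc
      rcases hvw with ⟨h1, h2⟩ | ⟨h1, h2⟩
      · rw [h1, h2]; push_cast; rfl
      · rw [h1, h2]; push_cast; rw [add_comm]
    rw [hcc]
    have h3 : ((if v = u then 1 else 0 : ZMod 2)) + (if v = u then 1 else 0) = 0 :=
      CharTwo.add_self_eq_zero _
    linear_combination h3
  have hclosed : ∀ e ∈ S, ((ends e).1 ∈ K ↔ (ends e).2 ∈ K) := by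
    intro e he
    constructor
    · exact hstep e he _ _ (Or.inl ⟨rfl, rfl⟩)
    · exact hstep e he _ _ (Or.inr ⟨rfl, rfl⟩)
  by_cases haK : a ∈ K
  · right
    rw [hKdef, Finset.mem_filter] at haK
    exact haK.2
  · left
    exact ⟨K, hbK, haK, hclosed⟩

/-- if two endpoints of a new edge are parity-joined in `S`, a circuit passes through the new edge -/
theorem circuit_of_joined (ends : E → V × V) (S : Finset E) (e0 : E) (he0 : e0 ∉ S)
    (D : Finset E) (hDS : D ⊆ S) (hDu : ∀ u, ((endCount ends D u : ℕ) : ZMod 2) =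
      (if (ends e0).2 = u then 1 else 0) + (if (ends e0).1 = u then 1 else 0)) :
    ∃ C ⊆ insert e0 S, IsCircuit ends C ∧ e0 ∈ C := by
  have he0D : e0 ∉ D := fun h => he0 (hDS h)
  have hev : ∀ u, Even (endCount ends (insert e0 D) u) := by
    intro u
    rw [← ZMod.natCast_eq_zero_iff_even, endCount_insert ends he0D]
    push_cast
    rw [hDu u]
    unfold cc
    push_cast
    have h3 : ((if (ends e0).1 = u then 1 else 0 : ZMod 2)) + (if (ends e0).1 = u then 1 else 0) = 0 :=
      CharTwo.add_self_eq_zero _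
    have h4 : ((if (ends e0).2 = u then 1 else 0 : ZMod 2)) + (if (ends e0).2 = u then 1 else 0) = 0 :=
      CharTwo.add_self_eq_zero _
    linear_combination h3 + h4
  obtain ⟨C, hCs, hC, heC⟩ := exists_circuit ends _ (insert e0 D) rfl hev e0 (Finset.mem_insert_self _ _)
  exact ⟨C, hCs.trans (Finset.insert_subset_insert _ hDS), hC, heC⟩

/-- on an edge set without circuits every integral 1-cochain is a coboundary -/
theorem forest (ends : E → V × V) (c : E → ℤ) (S : Finset E)
    (hno : ∀ C ⊆ S, ¬ IsCircuit ends C) :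
    ∃ φ : V → ℤ, ∀ e ∈ S, dl ends φ e = c e := by
  classical
  induction S using Finset.induction_on with
  | empty => exact ⟨0, by simp⟩
  | insert e0 S' he0 ih =>
    obtain ⟨g', hg'⟩ := ih (fun C hC => hno C (hC.trans (Finset.subset_insert _ _)))
    rcases dich2 ends S' (ends e0).1 (ends e0).2 with ⟨K, hbK, haK, hKc⟩ | ⟨D, hDS, hDu⟩
    · set d : ℤ := c e0 - dl ends g' e0 with hd
      refine ⟨fun v => g' v + if v ∈ K then d else 0, ?_⟩
      intro e he
      rcases Finset.mem_insert.1 he with h | he'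
      · rw [h]
        unfold dl at hd ⊢
        simp only [if_pos hbK, if_neg haK]
        rw [hd]; ring
      · have := hKc e he'
        have h2 := hg' e he'
        unfold dl at h2 ⊢
        by_cases h1 : (ends e).1 ∈ K
        · have h3 := this.1 h1
          simp only [if_pos h1, if_pos h3]
          linarith
        · have h3 : (ends e).2 ∉ K := fun h => h1 (this.2 h)
          simp only [if_neg h1, if_neg h3]
          linarith
    · exfalso
      obtain ⟨C, hCs, hC, _⟩ := circuit_of_joined ends S' e0 he0 D hDS hDu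
      exact hno C hCs hC

/-- every circuit carries an integral cycle with coefficient one at a prescribed edge -/
theorem circuit_cycle (ends : E → V × V) (C : Finset E) (hC : IsCircuit ends C) (e0 : E) (he0 : e0 ∈ C) :
    ∃ γ : E → ℤ, (∀ e, e ∉ C → γ e = 0) ∧ γ e0 = 1 ∧ ∀ v, boundary ends γ v = 0 := by
  rcases dichZ ends (C.erase e0) (ends e0).1 (ends e0).2 with ⟨K, hbK, haK, hKc⟩ | ⟨γ, hγS, hγ⟩
  · exfalso
    have := handshake ends C hC.2.1 e0 he0 (fun v => if v ∈ K then 1 else 0) ?_
    · simp only [if_pos hbK, if_neg haK] at this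
      exact absurd this (by norm_num)
    · intro e he hne
      have := hKc e (Finset.mem_erase.2 ⟨hne, he⟩)
      by_cases h1 : (ends e).1 ∈ K
      · simp only [if_pos h1, if_pos (this.1 h1)]
      · have h3 : (ends e).2 ∉ K := fun h => h1 (this.2 h)
        simp only [if_neg h1, if_neg h3]
  · refine ⟨γ + Pi.single e0 1, ?_, ?_, ?_⟩
    · intro e he
      have h1 : e ∉ C.erase e0 := fun h => he (Finset.mem_of_mem_erase h)
      have h2 : e ≠ e0 := fun h => he (h ▸ he0)
      simp [hγS e h1, Pi.single_apply, h2]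
    · have h1 : e0 ∉ C.erase e0 := Finset.notMem_erase _ _
      simp [hγS e0 h1]
    · intro v
      rw [boundary_add, hγ v, boundary_single]
      ring

/-- the key equivalence -/
theorem coprime_imp_surj (ends : E → V × V) (l : E → ℕ) (hl : ∀ e, 0 < l e)
    (hcop : IsCircuitCoprime ends l) (x : E → ℤ) :
    ∃ (y : E → ℤ) (φ : V → ℤ), ∀ e, x e = (l e : ℤ) * y e + dl ends φ e := by
  classical
  -- Step A
  have stepA : ∀ p : ℕ, p.Prime → ∀ x : E → ℤ, ∃ (x' y : E → ℤ) (φ : V → ℤ),
      ∀ e, x e = (p : ℤ) * x' e + (l e : ℤ) * y e + dl ends φ e := by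
    intro p hp x
    have hno : ∀ C ⊆ Finset.univ.filter (fun e => p ∣ l e), ¬ IsCircuit ends C := by
      intro C hCs hC
      have h1 : p ∣ C.gcd l := Finset.dvd_gcd (fun e he => (Finset.mem_filter.1 (hCs he)).2)
      rw [hcop C hC] at h1
      exact hp.one_lt.ne' (Nat.dvd_one.1 h1)
    obtain ⟨φ, hφ⟩ := forest ends x _ hno
    refine ⟨fun e => if p ∣ l e then 0 else (x e - dl ends φ e) * Int.gcdA p (l e),
      fun e => if p ∣ l e then 0 else (x e - dl ends φ e) * Int.gcdB p (l e), φ, ?_⟩
    intro e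
    by_cases hpe : p ∣ l e
    · simp only [if_pos hpe]
      rw [hφ e (Finset.mem_filter.2 ⟨Finset.mem_univ _, hpe⟩)]
      ring
    · simp only [if_neg hpe]
      have hc : Nat.Coprime p (l e) := (Nat.Prime.coprime_iff_not_dvd hp).2 hpe
      have hbez : (1 : ℤ) = (p : ℤ) * Int.gcdA p (l e) + (l e : ℤ) * Int.gcdB p (l e) := by
        have := Int.gcd_eq_gcd_ab (p : ℤ) (l e : ℤ)
        rw [Int.gcd_natCast_natCast, hc] at this
        simpa using this
      linear_combination (x e - dl ends φ e) * hbez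
  -- Step B
  have stepB : ∀ n : ℕ, 0 < n → ∀ x : E → ℤ, ∃ (x' y : E → ℤ) (φ : V → ℤ),
      ∀ e, x e = (n : ℤ) * x' e + (l e : ℤ) * y e + dl ends φ e := by
    intro n
    induction n using induction_on_primes with
    | zero => intro h; exact absurd h (lt_irrefl _)
    | one =>
      intro _ x
      exact ⟨x, 0, 0, fun e => by simp [dl]⟩
    | prime_mul p a hp ih =>
      intro hpa x
      have ha : 0 < a := Nat.pos_of_mul_pos_left hpa
      obtain ⟨x1, y1, φ1, h1⟩ := stepA p hp x
      obtain ⟨x2, y2, φ2, h2⟩ := ih ha x1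
      refine ⟨x2, fun e => y1 e + p * y2 e, fun v => φ1 v + p * φ2 v, ?_⟩
      intro e
      rw [h1 e, h2 e]
      unfold dl
      push_cast
      ring
  -- Step C
  obtain ⟨x', y, φ, h⟩ := stepB (∏ e, l e) (Finset.prod_pos (fun e _ => hl e)) x
  have hdvd : ∀ e, l e ∣ ∏ e, l e := fun e => Finset.dvd_prod_of_mem _ (Finset.mem_univ e)
  choose c hc using hdvd
  refine ⟨fun e => y e + c e * x' e, φ, ?_⟩
  intro e
  rw [h e]
  have : ((∏ e, l e : ℕ) : ℤ) = (l e : ℤ) * (c e : ℤ) := by
    rw [hc e]; push_cast; ring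
  rw [this]
  ring

theorem surj_imp_coprime (ends : E → V × V) (l : E → ℕ)
    (h : ∀ x : E → ℤ, ∃ y : E → ℤ, ∀ γ : E → ℤ, (∀ v : V, boundary ends γ v = 0) →
        ∑ e : E, γ e * (x e - (l e : ℤ) * y e) = 0) :
    IsCircuitCoprime ends l := by
  classical
  intro C hC
  by_contra hne
  obtain ⟨p, hp, hpd⟩ := Nat.exists_prime_and_dvd hne
  have hpe : ∀ e ∈ C, p ∣ l e := fun e he => dvd_trans hpd (Finset.gcd_dvd he)
  obtain ⟨e0, he0⟩ := hC.1
  obtain ⟨γ, hγC, hγ0, hγ⟩ := circuit_cycle ends C hC e0 he0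
  obtain ⟨y, hy⟩ := h (Pi.single e0 1)
  have h1 := hy γ hγ
  simp only [mul_sub, Finset.sum_sub_distrib] at h1
  have h2 : ∑ e, γ e * (Pi.single e0 (1 : ℤ) : E → ℤ) e = 1 := by
    rw [Finset.sum_eq_single e0]
    · simp [hγ0]
    · intro e _ hne
      simp [Pi.single_apply, hne]
    · intro h
      exact absurd (Finset.mem_univ _) h
  have h3 : (p : ℤ) ∣ ∑ e, γ e * ((l e : ℤ) * y e) := by
    apply Finset.dvd_sum
    intro e _
    by_cases he : e ∈ C
    · exact Dvd.dvd.mul_left (Dvd.dvd.mul_right (Int.natCast_dvd_natCast.2 (hpe e he)) _) _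
    · rw [hγC e he, zero_mul]
      exact dvd_zero _
  rw [h2] at h1
  have h4 : (p : ℤ) ∣ 1 := by
    have : (1 : ℤ) = ∑ e, γ e * ((l e : ℤ) * y e) := by linarith
    rw [this]
    exact h3
  have := Int.natCast_dvd_natCast.1 (by simpa using h4 : ((p : ℕ) : ℤ) ∣ ((1 : ℕ) : ℤ))
  exact hp.one_lt.ne' (Nat.dvd_one.1 this)

theorem main (ends : E → V × V) (l : E → ℕ) (hl : ∀ e, 0 < l e) :
    LabGraph.IsCircuitCoprime ends l ↔
      ∀ x : E → ℤ, ∃ y : E → ℤ, ∀ γ : E → ℤ, (∀ v : V, LabGraph.boundary ends γ v = 0) →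
        ∑ e : E, γ e * (x e - (l e : ℤ) * y e) = 0 := by
  constructor
  · intro hcop x
    obtain ⟨y, φ, h⟩ := coprime_imp_surj ends l hl hcop x
    refine ⟨y, ?_⟩
    intro γ hγ
    have : ∀ e, x e - (l e : ℤ) * y e = dl ends φ e := fun e => by rw [h e]; ring
    simp only [this]
    rw [sbp]
    simp [hγ]
  · exact surj_imp_coprime ends l

end Groth.Agent.H9.CircCop
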