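import Mathlib
import Groth.Prelude.Def_W4c1nerontoraddGraph
import Groth.Agent.Lib.Helper9.Misc.CircCop
import Groth.Agent.Lib.Helper9.Misc.BlowUp

/-! Helper9: surjectivity of the blow-up comparison map iff circuit-coprime. -/

set_option linter.unusedSectionVars false
set_option linter.unusedVariables false
set_option linter.unusedSimpArgs false

universe u v

namespace Groth.Agent.H9.BlowUp

open LabGraph Groth.Agent.H9.CircCop

variable {V E : Type u} [Fintype V] [Fintype E] [DecidableEq V] [DecidableEq E]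

theorem coprime_of_phi_form (ends : E → V × V) (l : E → ℕ)
    (h : ∀ x : E → ℤ, ∃ (y : E → ℤ) (φ : V → ℤ), ∀ e, x e = (l e : ℤ) * y e + dl ends φ e) :
    IsCircuitCoprime ends l := by
  apply surj_imp_coprime ends l
  intro x
  obtain ⟨y, φ, h⟩ := h x
  refine ⟨y, ?_⟩
  intro γ hγ
  have : ∀ e, x e - (l e : ℤ) * y e = dl ends φ e := fun e => by rw [h e]; ring
  simp only [this]
  rw [sbp]
  simp [hγ]

/-- solution of the second-order recursion with zero initial data -/
def QQ (b : ℕ → ℤ) : ℕ → ℤ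
  | 0 => 0
  | 1 => 0
  | (j+2) => 2 * QQ b (j+1) - QQ b j - b j

theorem QQ_zero (b : ℕ → ℤ) : QQ b 0 = 0 := by simp [QQ]
theorem QQ_one (b : ℕ → ℤ) : QQ b 1 = 0 := by simp [QQ]
theorem QQ_succ (b : ℕ → ℤ) (j : ℕ) : QQ b (j+2) = 2 * QQ b (j+1) - QQ b j - b j := by
  rw [QQ]

/-- the values of `β` at the new vertices of the path of `e` -/
def bb (l : E → ℕ) (β : BlVert V E l → ℤ) (e : E) (i : ℕ) : ℤ :=
  if h : i < l e - 1 then β (Sum.inr ⟨e, ⟨i, h⟩⟩) else 0

theorem surj_of_coprime (ends : E → V × V) (l : E → ℕ) (hl : ∀ e, 0 < l e)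
    (hcop : IsCircuitCoprime ends l) (β : BlVert V E l → ℤ) :
    ∃ (ψ : BlVert V E l → ℤ) (α : V → ℤ), ∀ w : BlVert V E l,
      mdeg (blEnds ends l) (fun _ => 1) ψ w + β w = Sum.elim α (fun _ => (0 : ℤ)) w := by
  obtain ⟨y, φ, hyφ⟩ := coprime_imp_surj ends l hl hcop (fun e => QQ (bb l β e) (l e))
  -- the labelling
  set P : E → ℕ → ℤ := fun e j => φ (ends e).1 + j * (- y e) + QQ (bb l β e) j with hP
  set ψ : BlVert V E l → ℤ := fun w => match w with
    | Sum.inl v => φ v
    | Sum.inr p => P p.1 (p.2.val + 1) with hψ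
  have hPP : ∀ e j, j ≤ l e → PP ends l ψ e j = P e j := by
    intro e j hj
    by_cases h0 : j = 0
    · rw [h0, PP_zero]
      simp [hψ, hP, QQ_zero]
    · by_cases hlt : j < l e
      · unfold PP
        rw [pathVert_mid ends l e j h0 hlt]
        simp only [hψ]
        have : j - 1 + 1 = j := by omega
        rw [this]
      · have : j = l e := by omega
        rw [this, PP_top ends l hl]
        simp only [hψ, hP]
        have := hyφ e
        simp only [dl] at this
        linarith
  refine ⟨ψ, fun v => mdeg (blEnds ends l) (fun _ => 1) ψ (Sum.inl v) + β (Sum.inl v), ?_⟩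
  intro w
  rcases w with v | ⟨e, i⟩
  · rfl
  · have hi := i.isLt
    rw [mdeg_bl_inr, hPP e _ (by omega), hPP e _ (by omega), hPP e _ (by omega)]
    simp only [hP, Sum.elim_inr]
    rw [QQ_succ]
    have : bb l β e i.val = β (Sum.inr ⟨e, i⟩) := by
      unfold bb
      rw [dif_pos hi]
    rw [this]
    push_cast
    ring

theorem coprime_of_surj (ends : E → V × V) (l : E → ℕ) (hl : ∀ e, 0 < l e)
    (h : ∀ β : BlVert V E l → ℤ, ∃ (ψ : BlVert V E l → ℤ) (α : V → ℤ), ∀ w : BlVert V E l,
      mdeg (blEnds ends l) (fun _ => 1) ψ w + β w = Sum.elim α (fun _ => (0 : ℤ)) w) :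
    IsCircuitCoprime ends l := by
  apply coprime_of_phi_form
  intro x
  set β : BlVert V E l → ℤ := fun w => match w with
    | Sum.inl v => 0
    | Sum.inr p => if p.2.val + 2 = l p.1 then x p.1 else 0 with hβ
  obtain ⟨ψ, α, hψα⟩ := h β
  have hsd : ∀ e (i : ℕ), i < l e - 1 →
      PP ends l ψ e (i + 2) - 2 * PP ends l ψ e (i + 1) + PP ends l ψ e i =
        - (if i + 2 = l e then x e else 0) := by
    intro e i hi
    have := hψα (Sum.inr ⟨e, ⟨i, hi⟩⟩)
    rw [mdeg_bl_inr] at this
    simp only [hβ, Sum.elim_inr] at this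
    linarith
  have hlin : ∀ e j, j < l e →
      PP ends l ψ e j = PP ends l ψ e 0 + j * (PP ends l ψ e 1 - PP ends l ψ e 0) := by
    intro e j
    induction j using Nat.twoStepInduction with
    | zero => intro _; simp
    | one => intro _; ring
    | more j ih1 ih2 =>
      intro hj
      have h := hsd e j (by omega)
      rw [if_neg (by omega)] at h
      have h1 := ih1 (by omega)
      have h2 := ih2 (by omega)
      push_cast at h1 h2 ⊢
      linarith
  refine ⟨fun e => if l e = 1 then x e + dl ends (fun v => ψ (Sum.inl v)) e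
    else (PP ends l ψ e 1 - PP ends l ψ e 0), fun v => - ψ (Sum.inl v), ?_⟩
  intro e
  by_cases h1 : l e = 1
  · simp only [if_pos h1, h1, dl]
    push_cast
    ring
  · simp only [if_neg h1, dl]
    have hle := hl e
    obtain ⟨i, hi⟩ : ∃ i, l e = i + 2 := ⟨l e - 2, by omega⟩
    have h2 := hsd e i (by omega)
    rw [if_pos hi.symm] at h2
    have h3 := hlin e i (by omega)
    have h4 := hlin e (i + 1) (by omega)
    have h5 := PP_top ends l hl ψ e
    have h6 := PP_zero ends l ψ e
    rw [hi] at h5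
    rw [← h5, ← h6, hi]
    push_cast at h3 h4 ⊢
    linarith

theorem s13760 (ends : E → V × V) (l : E → ℕ) (hl : ∀ e, 0 < l e) :
    (∀ β : LabGraph.BlVert V E l → ℤ, ∃ (ψ : LabGraph.BlVert V E l → ℤ) (α : V → ℤ),
        ∀ w : LabGraph.BlVert V E l,
          LabGraph.mdeg (LabGraph.blEnds ends l) (fun _ => 1) ψ w + β w = Sum.elim α (fun _ => (0 : ℤ)) w) ↔
      LabGraph.IsCircuitCoprime ends l :=
  ⟨coprime_of_surj ends l hl, fun h β => surj_of_coprime ends l hl h β⟩

end Groth.Agent.H9.BlowUp
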