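import Mathlib
import Groth.Prelude.Def_CAlg
import Groth.Prelude.Def_Formal2
import Groth.Agent.Lib.Helper1.ComplDepth
import Groth.Agent.Lib.Helper5.DepthSeq.A
import Groth.Agent.Lib.Helper2.PFAnnB
import Groth.Agent.S2062
import Groth.Agent.S0543

/-! helper9: depth transfer to the completion of a localization at a minimal prime
(bootstrap conditions of the algebraization setting). -/

set_option autoImplicit false
universe u
open IsLocalRing TensorProduct

namespace Groth.Agent.H9.Boot

/-- depth is preserved by base change along a flat local homomorphism with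
zero-dimensional closed fibre -/
theorem depth_eq_of_isBaseChange {Rl Sl : Type u} [CommRing Rl] [CommRing Sl] [IsLocalRing Rl]
    [IsLocalRing Sl] [IsNoetherianRing Rl] [IsNoetherianRing Sl] [Algebra Rl Sl]
    [IsLocalHom (algebraMap Rl Sl)] [Module.Flat Rl Sl]
    (h0 : ringKrullDim (Sl ⧸ (maximalIdeal Rl).map (algebraMap Rl Sl)) = 0)
    {N O : Type u} [AddCommGroup N] [Module Rl N] [Module.Finite Rl N] [AddCommGroup O]
    [Module Rl O] [Module Sl O] [IsScalarTower Rl Sl O] (g : N →ₗ[Rl] O)
    (hg : IsBaseChange Sl g) :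
    LocCoh.depth Sl O = LocCoh.depth Rl N := by
  have h1 := Groth.Agent.S2062.result (R := Rl) (S := Sl) (M := N) (N := Sl)
  rw [Groth.Agent.H1.ComplDepth.depth_fiber_eq_zero _
    (Groth.Agent.H1.FlatDim.map_maximalIdeal_ne_top Rl Sl) h0, add_zero] at h1
  rw [← h1]
  exact (Groth.Agent.Lib.Helper5.DepthSeq.depth_congr hg.equiv).symm

/-- the closed fibre of `R_P → S_{P'}` is zero-dimensional when `P'` is minimal over `P S` -/
theorem ringKrullDim_fiber_eq_zero_of_minimal {R S : Type u} [CommRing R] [CommRing S]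
    [Algebra R S] (P : Ideal R) [P.IsPrime] (P' : Ideal S) [P'.IsPrime]
    (hmin : P' ∈ (P.map (algebraMap R S)).minimalPrimes)
    [Algebra (Localization.AtPrime P) (Localization.AtPrime P')]
    [IsScalarTower R (Localization.AtPrime P) (Localization.AtPrime P')]
    [IsLocalHom (algebraMap (Localization.AtPrime P) (Localization.AtPrime P'))] :
    ringKrullDim (Localization.AtPrime P' ⧸ (maximalIdeal (Localization.AtPrime P)).map
      (algebraMap (Localization.AtPrime P) (Localization.AtPrime P'))) = 0 := by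
  obtain ⟨J, hJdef⟩ : ∃ J : Ideal (Localization.AtPrime P'), J =
    (maximalIdeal (Localization.AtPrime P)).map
      (algebraMap (Localization.AtPrime P) (Localization.AtPrime P')) := ⟨_, rfl⟩
  rw [← hJdef]
  have hJ : J ≠ ⊤ := by
    rw [hJdef]
    exact Groth.Agent.H1.FlatDim.map_maximalIdeal_ne_top _ _
  have claim : ∀ Q : Ideal (Localization.AtPrime P'), Q.IsPrime → J ≤ Q →
      Q = maximalIdeal (Localization.AtPrime P') := by
    intro Q hQ hJQ
    have h1 : Q.under S ≤ P' := by
      have h := Ideal.comap_mono (f := algebraMap S (Localization.AtPrime P'))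
        (IsLocalRing.le_maximalIdeal hQ.ne_top)
      have h' : Ideal.under S (maximalIdeal (Localization.AtPrime P')) = P' :=
        Localization.AtPrime.under_maximalIdeal
      exact h.trans h'.le
    have h2 : P.map (algebraMap R S) ≤ Q.under S := by
      refine Ideal.map_le_iff_le_comap.mpr (fun x hx => ?_)
      show algebraMap S (Localization.AtPrime P') (algebraMap R S x) ∈ Q
      rw [← IsScalarTower.algebraMap_apply R S (Localization.AtPrime P'),
        IsScalarTower.algebraMap_apply R (Localization.AtPrime P) (Localization.AtPrime P')]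
      apply hJQ
      rw [hJdef]
      apply Ideal.mem_map_of_mem
      have hx' : x ∈ Ideal.under R (maximalIdeal (Localization.AtPrime P)) := by
        rw [Localization.AtPrime.under_maximalIdeal]
        exact hx
      exact hx'
    haveI : (Q.under S).IsPrime := Ideal.comap_isPrime _ _
    have h3 : P' ≤ Q.under S := hmin.2 ⟨inferInstance, h2⟩ h1
    have h4 : Q.under S = P' := le_antisymm h1 h3
    have h5 := IsLocalization.map_under P'.primeCompl (Localization.AtPrime P') Q
    rw [h4, Localization.AtPrime.map_eq_maximalIdeal] at h5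
    exact h5.symm
  haveI : Nontrivial (Localization.AtPrime P' ⧸ J) := Ideal.Quotient.nontrivial_iff.mpr hJ
  have hK : Ring.KrullDimLE 0 (Localization.AtPrime P' ⧸ J) := by
    refine Ring.krullDimLE_zero_iff.mpr (fun Q' hQ' => ?_)
    have hQ : Q'.comap (Ideal.Quotient.mk J) = maximalIdeal (Localization.AtPrime P') := by
      refine claim _ (Ideal.comap_isPrime _ _) (fun x hx => ?_)
      show Ideal.Quotient.mk J x ∈ Q'
      rw [Ideal.Quotient.eq_zero_iff_mem.mpr hx]
      exact Q'.zero_mem
    have hQ'eq : Q' = (maximalIdeal (Localization.AtPrime P')).map (Ideal.Quotient.mk J) := by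
      rw [← hQ, Ideal.map_comap_of_surjective _ Ideal.Quotient.mk_surjective]
    rcases Ideal.map_eq_top_or_isMaximal_of_surjective (Ideal.Quotient.mk J)
      Ideal.Quotient.mk_surjective (maximalIdeal.isMaximal (Localization.AtPrime P')) with h | h
    · exfalso
      rw [← hQ'eq] at h
      exact hQ'.ne_top h
    · rw [hQ'eq]
      exact h
  exact le_antisymm (Ring.krullDimLE_iff.mp hK) ringKrullDim_nonneg_of_nontrivial

/-- depth of a localized base change at a prime minimal over the extension of `P` -/
theorem depth_localized_eq {R S : Type u} [CommRing R] [CommRing S] [IsNoetherianRing R]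
    [IsNoetherianRing S] [Algebra R S] [Module.Flat R S]
    (P : Ideal R) [P.IsPrime] (P' : Ideal S) [P'.IsPrime] [P'.LiesOver P]
    (hmin : P' ∈ (P.map (algebraMap R S)).minimalPrimes)
    (N : Type u) [AddCommGroup N] [Module R N] [Module.Finite R N]
    (N' : Type u) [AddCommGroup N'] [Module R N'] [Module S N'] [IsScalarTower R S N']
    (f : N →ₗ[R] N') (hf : IsBaseChange S f) :
    LocCoh.depth (Localization.AtPrime P') (LocalizedModule P'.primeCompl N') =
      LocCoh.depth (Localization.AtPrime P) (LocalizedModule P.primeCompl N) := by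
  letI alg : Algebra (Localization.AtPrime P) (Localization.AtPrime P') :=
    Localization.AtPrime.algebraOfLiesOver P P'
  haveI tow : IsScalarTower R (Localization.AtPrime P) (Localization.AtPrime P') := inferInstance
  haveI loc : IsLocalHom (algebraMap (Localization.AtPrime P) (Localization.AtPrime P')) := by
    show IsLocalHom (Localization.localRingHom P P' (algebraMap R S) Ideal.LiesOver.over)
    infer_instance
  haveI flat : Module.Flat (Localization.AtPrime P) (Localization.AtPrime P') := by
    have h := RingHom.Flat.localRingHom (f := algebraMap R S)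
      (RingHom.flat_algebraMap_iff.mpr inferInstance) P' P Ideal.LiesOver.over
    exact h
  letI modRP : Module (Localization.AtPrime P) (LocalizedModule P'.primeCompl N') :=
    Module.compHom _ (algebraMap (Localization.AtPrime P) (Localization.AtPrime P'))
  haveI t3 : IsScalarTower (Localization.AtPrime P) (Localization.AtPrime P')
      (LocalizedModule P'.primeCompl N') :=
    IsScalarTower.of_algebraMap_smul (fun r x => rfl)
  haveI t4 : IsScalarTower R (Localization.AtPrime P) (LocalizedModule P'.primeCompl N') :=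
    IsScalarTower.of_algebraMap_smul (fun r x => by
      have e : algebraMap (Localization.AtPrime P) (Localization.AtPrime P')
          (algebraMap R (Localization.AtPrime P) r) = algebraMap R (Localization.AtPrime P') r :=
        (IsScalarTower.algebraMap_apply R (Localization.AtPrime P) (Localization.AtPrime P') r).symm
      calc algebraMap R (Localization.AtPrime P) r • x
          = algebraMap (Localization.AtPrime P) (Localization.AtPrime P')
              (algebraMap R (Localization.AtPrime P) r) • x := rfl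
        _ = algebraMap R (Localization.AtPrime P') r • x := by rw [e]
        _ = r • x := algebraMap_smul _ _ _)
  have hloc' : IsBaseChange (Localization.AtPrime P')
      (LocalizedModule.mkLinearMap P'.primeCompl N') :=
    IsLocalizedModule.isBaseChange P'.primeCompl (Localization.AtPrime P') _
  have hg1 : IsBaseChange (Localization.AtPrime P')
      (((LocalizedModule.mkLinearMap P'.primeCompl N').restrictScalars R).comp f) :=
    IsBaseChange.comp hf hloc'
  have hloc : IsBaseChange (Localization.AtPrime P)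
      (LocalizedModule.mkLinearMap P.primeCompl N) :=
    IsLocalizedModule.isBaseChange P.primeCompl (Localization.AtPrime P) _
  obtain ⟨g1, hg1def⟩ : ∃ g : N →ₗ[R] LocalizedModule P'.primeCompl N',
    g = ((LocalizedModule.mkLinearMap P'.primeCompl N').restrictScalars R).comp f := ⟨_, rfl⟩
  rw [← hg1def] at hg1
  have key : IsBaseChange (Localization.AtPrime P')
      (((hloc.lift g1).restrictScalars R).comp (LocalizedModule.mkLinearMap P.primeCompl N)) := by
    rw [hloc.lift_comp g1]
    exact hg1
  have hh : IsBaseChange (Localization.AtPrime P') (hloc.lift g1) :=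
    IsBaseChange.of_comp hloc key
  have h0 := ringKrullDim_fiber_eq_zero_of_minimal P P' hmin
  exact depth_eq_of_isBaseChange h0 (hloc.lift g1) hh

section Core

variable (A : Type u) [CommRing A] [IsNoetherianRing A] (I : Ideal A)
  (M : Type u) [AddCommGroup M] [Module A M] [Module.Finite A M]

/-- condition (6) of the bootstrap situation at a point `q` -/
def Cond6 (s : ℕ) (q : PrimeSpectrum A) : Prop :=
  ∀ p' : PrimeSpectrum (AdicCompletion (I.map (algebraMap A (Localization.AtPrime q.asIdeal))) (Localization.AtPrime q.asIdeal)), ¬ (I.map (algebraMap A (AdicCompletion (I.map (algebraMap A (Localization.AtPrime q.asIdeal))) (Localization.AtPrime q.asIdeal)))) ≤ p'.asIdeal → (∀ q' : PrimeSpectrum (AdicCompletion (I.map (algebraMap A (Localization.AtPrime q.asIdeal))) (Localization.AtPrime q.asIdeal)), p' ≤ q' → (I.map (algebraMap A (AdicCompletion (I.map (algebraMap A (Localization.AtPrime q.asIdeal))) (Localization.AtPrime q.asIdeal)))) ≤ q'.asIdeal → q'.asIdeal.IsMaximal) → (s : ℕ∞) < LocCoh.depth (Localization.AtPrime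 p'.asIdeal) (LocalizedModule p'.asIdeal.primeCompl (AdicCompletion (I.map (algebraMap A (Localization.AtPrime q.asIdeal))) (LocalizedModule q.asIdeal.primeCompl M)))

/-- the extended ideal of `I` in `A_q` -/
abbrev JB (q : PrimeSpectrum A) : Ideal (Localization.AtPrime q.asIdeal) :=
  I.map (algebraMap A (Localization.AtPrime q.asIdeal))

/-- the `I`-adic completion of `A_q` -/
abbrev Ac (q : PrimeSpectrum A) : Type u :=
  AdicCompletion (JB A I q) (Localization.AtPrime q.asIdeal)

/-- the `I`-adic completion of `M_q` -/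
abbrev Mc (q : PrimeSpectrum A) : Type u :=
  AdicCompletion (JB A I q) (LocalizedModule q.asIdeal.primeCompl M)

theorem core (s : ℕ) (p q : PrimeSpectrum A)
    (hmin : q.asIdeal ∈ (p.asIdeal ⊔ I).minimalPrimes) (hp : ¬ I ≤ p.asIdeal)
    (h6 : Cond6 A I M s q) :
    (s : ℕ∞) < LocCoh.depth (Localization.AtPrime p.asIdeal)
      (LocalizedModule p.asIdeal.primeCompl M) := by
  have hpq : p.asIdeal ≤ q.asIdeal := le_sup_left.trans hmin.1.2
  have hIq : I ≤ q.asIdeal := le_sup_right.trans hmin.1.2
  have hJ : JB A I q ≠ ⊤ := by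
    intro h
    have h1 : JB A I q ≤ maximalIdeal (Localization.AtPrime q.asIdeal) := by
      refine Ideal.map_le_iff_le_comap.mpr (fun x hx => ?_)
      have hx' : x ∈ Ideal.under A (maximalIdeal (Localization.AtPrime q.asIdeal)) := by
        rw [Localization.AtPrime.under_maximalIdeal]
        exact hIq hx
      exact hx'
    rw [h] at h1
    exact (maximalIdeal.isMaximal (Localization.AtPrime q.asIdeal)).ne_top (top_le_iff.mp h1)
  haveI : IsLocalRing (Ac A I q) :=
    Groth.Agent.H1.ComplDepth.isLocalRing_adicCompletion _ _ hJ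
  haveI : IsNoetherianRing (Ac A I q) := Groth.Agent.S0543.result _ _
  haveI : IsLocalHom (algebraMap (Localization.AtPrime q.asIdeal) (Ac A I q)) :=
    Groth.Agent.H1.ComplDepth.isLocalHom_adicCompletion _ _
  haveI : Module.Flat A (Ac A I q) :=
    Module.Flat.trans A (Localization.AtPrime q.asIdeal) (Ac A I q)
  have hφ : ∀ a : A, algebraMap A (Ac A I q) a =
      algebraMap (Localization.AtPrime q.asIdeal) (Ac A I q)
        (algebraMap A (Localization.AtPrime q.asIdeal) a) :=
    fun a => IsScalarTower.algebraMap_apply A (Localization.AtPrime q.asIdeal) (Ac A I q) a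
  have hmapq : q.asIdeal.map (algebraMap A (Ac A I q)) = maximalIdeal (Ac A I q) := by
    rw [IsScalarTower.algebraMap_eq A (Localization.AtPrime q.asIdeal) (Ac A I q),
      ← Ideal.map_map, Localization.AtPrime.map_eq_maximalIdeal]
    exact Groth.Agent.H1.ComplDepth.map_maximalIdeal_eq _ _
  have hunit : ∀ a : A, a ∉ q.asIdeal → IsUnit (algebraMap A (Ac A I q) a) := by
    intro a ha
    rw [hφ]
    exact (IsLocalization.map_units (Localization.AtPrime q.asIdeal)
      (⟨a, ha⟩ : q.asIdeal.primeCompl)).map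
        (algebraMap (Localization.AtPrime q.asIdeal) (Ac A I q))
  have hle : p.asIdeal.map (algebraMap A (Ac A I q)) ≤ maximalIdeal (Ac A I q) :=
    (Ideal.map_mono hpq).trans hmapq.le
  obtain ⟨p', hp'min, hp'le⟩ := Ideal.exists_minimalPrimes_le hle
  haveI hp'P : p'.IsPrime := hp'min.1.1
  have hover : p.asIdeal = p'.under A := by
    haveI : (p'.under A).IsPrime := Ideal.comap_isPrime _ _
    haveI : p'.LiesOver (p'.under A) := ⟨rfl⟩
    have hle0 : p.asIdeal ≤ p'.under A := Ideal.le_comap_of_map_le hp'min.1.2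
    obtain ⟨P1, hP1le, hP1prime, hP1over⟩ :=
      Ideal.exists_ideal_le_liesOver_of_le (p := p.asIdeal) (q := p'.under A) p' hle0
    have h1 : p.asIdeal.map (algebraMap A (Ac A I q)) ≤ P1 :=
      Ideal.map_le_iff_le_comap.mpr (le_of_eq hP1over.over)
    have h2 : p' ≤ P1 := hp'min.2 ⟨hP1prime, h1⟩ hP1le
    have h3 : P1 = p' := le_antisymm hP1le h2
    rw [← h3]
    exact hP1over.over
  haveI : p'.LiesOver p.asIdeal := ⟨hover⟩
  have hnot : ¬ I.map (algebraMap A (Ac A I q)) ≤ p' := by
    intro h
    apply hp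
    have h1 : I ≤ p'.under A := Ideal.le_comap_of_map_le h
    rwa [← hover] at h1
  have hmax : ∀ q' : PrimeSpectrum (Ac A I q), (⟨p', hp'P⟩ : PrimeSpectrum (Ac A I q)) ≤ q' →
      I.map (algebraMap A (Ac A I q)) ≤ q'.asIdeal → q'.asIdeal.IsMaximal := by
    intro q' hpq' hIq'
    have hr_prime : (q'.asIdeal.comap (algebraMap A (Ac A I q))).IsPrime :=
      Ideal.comap_isPrime _ _
    have hpr : p.asIdeal ≤ q'.asIdeal.comap (algebraMap A (Ac A I q)) := by
      rw [hover]
      exact Ideal.comap_mono (show p' ≤ q'.asIdeal from hpq')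
    have hIr : I ≤ q'.asIdeal.comap (algebraMap A (Ac A I q)) := Ideal.le_comap_of_map_le hIq'
    have hrq : q'.asIdeal.comap (algebraMap A (Ac A I q)) ≤ q.asIdeal := by
      intro a ha
      by_contra hna
      exact q'.isPrime.ne_top (Ideal.eq_top_of_isUnit_mem _ ha (hunit a hna))
    have hqr : q.asIdeal ≤ q'.asIdeal.comap (algebraMap A (Ac A I q)) :=
      hmin.2 ⟨hr_prime, sup_le hpr hIr⟩ hrq
    have h1 : maximalIdeal (Ac A I q) ≤ q'.asIdeal := by
      rw [← hmapq]
      exact Ideal.map_le_iff_le_comap.mpr hqr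
    have h2 := (maximalIdeal.isMaximal (Ac A I q)).eq_of_le q'.isPrime.ne_top h1
    rw [← h2]
    exact maximalIdeal.isMaximal _
  have hd := h6 ⟨p', hp'P⟩ hnot hmax
  haveI tAM : IsScalarTower A (Ac A I q) (Mc A I M q) :=
    IsScalarTower.of_algebraMap_smul (fun a m => by
      calc algebraMap A (Ac A I q) a • m
          = algebraMap (Localization.AtPrime q.asIdeal) (Ac A I q)
              (algebraMap A (Localization.AtPrime q.asIdeal) a) • m := by rw [hφ a]
        _ = algebraMap A (Localization.AtPrime q.asIdeal) a • m := algebraMap_smul _ _ _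
        _ = a • m := algebraMap_smul _ _ _)
  have hb1 : IsBaseChange (Localization.AtPrime q.asIdeal)
      (LocalizedModule.mkLinearMap q.asIdeal.primeCompl M) :=
    IsLocalizedModule.isBaseChange q.asIdeal.primeCompl (Localization.AtPrime q.asIdeal) _
  have hb2 : IsBaseChange (Ac A I q)
      (AdicCompletion.of (JB A I q) (LocalizedModule q.asIdeal.primeCompl M)) :=
    IsBaseChange.of_equiv (AdicCompletion.ofTensorProductEquivOfFiniteNoetherian (JB A I q)
      (LocalizedModule q.asIdeal.primeCompl M)) (fun x => by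
      rw [AdicCompletion.ofTensorProductEquivOfFiniteNoetherian_apply,
        AdicCompletion.ofTensorProduct_tmul, one_smul])
  have hf := IsBaseChange.comp hb1 hb2
  have hX := depth_localized_eq (R := A) (S := Ac A I q) p.asIdeal p' hp'min M (Mc A I M q) _ hf
  rw [← hX]
  exact hd

theorem s8796 (T : Set (PrimeSpectrum A)) (hTI : T ⊆ PrimeSpectrum.zeroLocus (I : Set A))
    (s : ℕ) (h6 : ∀ q : PrimeSpectrum A, q ∈ T → Cond6 A I M s q)
    (p q : PrimeSpectrum A) (hpq : p ≤ q) (hp : ¬ I ≤ p.asIdeal) (hq : q ∈ T)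
    (hr : ∀ r : PrimeSpectrum A, p ≤ r → r ≤ q → I ≤ r.asIdeal → r ∈ T) :
    (s : ℕ∞) < LocCoh.depth (Localization.AtPrime p.asIdeal)
      (LocalizedModule p.asIdeal.primeCompl M) := by
  have hIq : I ≤ q.asIdeal := fun x hx => (PrimeSpectrum.mem_zeroLocus _ _).mp (hTI hq) hx
  obtain ⟨q0, hq0min, hq0q⟩ := Ideal.exists_minimalPrimes_le
    (I := p.asIdeal ⊔ I) (J := q.asIdeal) (sup_le (show p.asIdeal ≤ q.asIdeal from hpq) hIq)
  have hq0P : q0.IsPrime := hq0min.1.1
  have hQT : (⟨q0, hq0P⟩ : PrimeSpectrum A) ∈ T :=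
    hr ⟨q0, hq0P⟩ (show p.asIdeal ≤ q0 from le_sup_left.trans hq0min.1.2)
      (show q0 ≤ q.asIdeal from hq0q) (le_sup_right.trans hq0min.1.2)
  exact core A I M s p ⟨q0, hq0P⟩ hq0min hp (h6 ⟨q0, hq0P⟩ hQT)

theorem dimBetween_mono (p r q : PrimeSpectrum A) (hrq : r ≤ q) :
    Formal2.dimBetween A p.asIdeal r.asIdeal ≤ Formal2.dimBetween A p.asIdeal q.asIdeal := by
  calc Formal2.dimBetween A p.asIdeal r.asIdeal
      = Order.krullDim ↥(Set.Icc p r) :=
        (Groth.Agent.H2.PFAnn.krullDim_Icc_eq_dimBetween p r).symm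
    _ ≤ Order.krullDim ↥(Set.Icc p q) :=
        Order.krullDim_le_of_strictMono
          (fun x : Set.Icc p r => (⟨x.1, x.2.1, x.2.2.trans hrq⟩ : Set.Icc p q))
          (fun a b h => h)
    _ = Formal2.dimBetween A p.asIdeal q.asIdeal :=
        Groth.Agent.H2.PFAnn.krullDim_Icc_eq_dimBetween p q

theorem s8827 (d : ℕ) (T : Set (PrimeSpectrum A))
    (hTI : T ⊆ PrimeSpectrum.zeroLocus (I : Set A)) (s : ℕ)
    (h4 : ∀ p r q : PrimeSpectrum A, p ≤ r → r ≤ q → ¬ I ≤ p.asIdeal → I ≤ r.asIdeal → r ∉ T → q ∈ T → (s : ℕ∞) ≤ LocCoh.depth (Localization.AtPrime p.asIdeal) (LocalizedModule p.asIdeal.primeCompl M) ∨ ((d + s : ℕ) : WithBot ℕ∞) < (LocCoh.depth (Localization.AtPrime p.asIdeal) (LocalizedModule p.asIdeal.primeCompl M) : WithBot ℕ∞) + Formal2.dimBetween A p.asIdeal q.asIdeal)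
    (h6 : ∀ q : PrimeSpectrum A, q ∈ T → Cond6 A I M s q)
    (T' : Set (PrimeSpectrum A)) (hT'T : T' ⊆ T) :
    (∀ p r q : PrimeSpectrum A, p ≤ r → r ≤ q → ¬ I ≤ p.asIdeal → I ≤ r.asIdeal → r ∉ T' → q ∈ T' → (s : ℕ∞) ≤ LocCoh.depth (Localization.AtPrime p.asIdeal) (LocalizedModule p.asIdeal.primeCompl M) ∨ ((d + s : ℕ) : WithBot ℕ∞) < (LocCoh.depth (Localization.AtPrime p.asIdeal) (LocalizedModule p.asIdeal.primeCompl M) : WithBot ℕ∞) + Formal2.dimBetween A p.asIdeal q.asIdeal) ∧
    (∀ q : PrimeSpectrum A, q ∈ T' → Cond6 A I M s q) := by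
  refine ⟨?_, fun q hq => h6 q (hT'T hq)⟩
  intro p r q hpr hrq hp hIr hrT' hqT'
  by_cases hrT : r ∈ T
  · by_cases hex : ∃ r' : PrimeSpectrum A, p ≤ r' ∧ r' ≤ r ∧ I ≤ r'.asIdeal ∧ r' ∉ T
    · obtain ⟨r', hpr', hr'r, hIr', hr'T⟩ := hex
      rcases h4 p r' r hpr' hr'r hp hIr' hr'T hrT with h | h
      · exact Or.inl h
      · exact Or.inr (lt_of_lt_of_le h (add_le_add le_rfl (dimBetween_mono A p r q hrq)))
    · have hall : ∀ r' : PrimeSpectrum A, p ≤ r' → r' ≤ r → I ≤ r'.asIdeal → r' ∈ T := by
        intro r' h1 h2 h3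
        by_contra h4'
        exact hex ⟨r', h1, h2, h3, h4'⟩
      have h := s8796 A I M T hTI s h6 p r hpr hp hrT hall
      exact Or.inl h.le
  · exact h4 p r q hpr hrq hp hIr hrT (hT'T hqT')

end Core

end Groth.Agent.H9.Boot
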