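import Mathlib

/-! Helper9: bounded divisibility by powers in finite extensions (dim 1). -/

namespace Groth.Agent.H9.CA1

universe u

/-- In a one-dimensional Noetherian local ring, a prime containing a nonzerodivisor is maximal. -/
lemma prime_eq_max (R : Type u) [CommRing R] [IsLocalRing R] (hR : ringKrullDim R = 1)
    (b : R) (hb : b ∈ nonZeroDivisors R) (p : Ideal R) [hp : p.IsPrime] (hbp : b ∈ p) :
    p = IsLocalRing.maximalIdeal R := by
  by_contra hne
  obtain ⟨p₀, hp₀, hle⟩ := Ideal.exists_minimalPrimes_le (I := ⊥) (J := p) bot_le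
  have hp₀' : p₀ ∈ minimalPrimes R := hp₀
  have hb0 : b ∉ p₀ := fun h =>
    Set.disjoint_left.mp (Ideal.disjoint_nonZeroDivisors_of_mem_minimalPrimes hp₀') h hb
  have hp₀prime : p₀.IsPrime := hp₀.1.1
  have hlt1 : p₀ < p := lt_of_le_of_ne hle (fun h => hb0 (h ▸ hbp))
  have hlt2 : p < IsLocalRing.maximalIdeal R :=
    lt_of_le_of_ne (IsLocalRing.le_maximalIdeal hp.ne_top) hne
  let q₀ : PrimeSpectrum R := ⟨p₀, hp₀prime⟩
  let q₁ : PrimeSpectrum R := ⟨p, hp⟩
  let q₂ : PrimeSpectrum R := ⟨IsLocalRing.maximalIdeal R, inferInstance⟩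
  have h01 : q₀ < q₁ := hlt1
  have h12 : q₁ < q₂ := hlt2
  let s₁ : LTSeries (PrimeSpectrum R) := (RelSeries.singleton _ q₀).snoc q₁ h01
  have h12' : s₁.last < q₂ := by
    have : s₁.last = q₁ := RelSeries.last_snoc _ _ _
    rw [this]; exact h12
  let s : LTSeries (PrimeSpectrum R) := s₁.snoc q₂ h12'
  have hlen : s.length = 2 := rfl
  have h3 : (s.length : WithBot ℕ∞) ≤ ringKrullDim R := Order.LTSeries.length_le_krullDim s
  rw [hR, hlen] at h3
  norm_cast at h3

theorem main (R : Type u) [CommRing R] [IsNoetherianRing R] [IsLocalRing R]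
    (hR : ringKrullDim R = 1) (a b : R) (ha : a ∈ nonZeroDivisors R)
    (ham : a ∈ IsLocalRing.maximalIdeal R) (hb : b ∈ nonZeroDivisors R) :
    ∃ n : ℕ, ∀ (R' : Type u) [CommRing R'] [Algebra R R'],
      Function.Injective (algebraMap R R') → Module.Finite R R' →
      ∀ (m : ℕ) (c : R'), algebraMap R R' b = algebraMap R R' a ^ m * c → m ≤ n := by
  have hrad : a ∈ (Ideal.span {b}).radical := by
    rw [Ideal.radical_eq_sInf, Ideal.mem_sInf]
    rintro p ⟨hbp, hp⟩
    have : b ∈ p := hbp (Ideal.subset_span rfl)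
    rw [prime_eq_max R hR b hb p this]
    exact ham
  obtain ⟨n, hn⟩ := hrad
  obtain ⟨d, hd⟩ := Ideal.mem_span_singleton'.mp hn
  refine ⟨n, ?_⟩
  intro R' _ _ hinj hfin m c hbc
  by_contra hlt
  push Not at hlt
  have hint : Algebra.IsIntegral R R' := Algebra.IsIntegral.of_finite R R'
  set f := algebraMap R R' with hf
  have h1 : f a ^ n = f a ^ m * c * f d := by
    rw [← map_pow, ← hd, map_mul, hbc]
    ring
  obtain ⟨k, rfl⟩ : ∃ k, m = n + (k + 1) := ⟨m - n - 1, by omega⟩
  let x : R' := f a ^ (k + 1) * c * f d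
  have hx : x ∈ (⊥ : Ideal R').jacobson := by
    rw [Ideal.jacobson, Ideal.mem_sInf]
    rintro M ⟨-, hM⟩
    have hMc : (M.comap f).IsMaximal := Ideal.isMaximal_comap_of_isIntegral_of_isMaximal M
    have : M.comap f = IsLocalRing.maximalIdeal R := IsLocalRing.eq_maximalIdeal hMc
    have haM : f a ∈ M := by
      have : a ∈ M.comap f := by rw [this]; exact ham
      exact this
    exact M.mul_mem_right _ (M.mul_mem_right _ (M.pow_mem_of_mem haM _ (Nat.succ_pos k)))
  have hunit : IsUnit (1 - x) := by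
    have := (Ideal.mem_jacobson_bot.mp hx) (-1)
    simpa [sub_eq_neg_add, add_comm] using this
  have h2 : f a ^ n * (1 - x) = 0 := by
    have : f a ^ n * x = f a ^ n := by
      conv_rhs => rw [h1]
      simp only [x]
      ring
    rw [mul_sub, mul_one, this, sub_self]
  have h3 : f a ^ n = 0 := by
    obtain ⟨u, hu⟩ := hunit
    rw [← hu] at h2
    simpa using congrArg (· * (u⁻¹ : R'ˣ).1) h2
  rw [← map_pow] at h3
  have h4 : a ^ n = 0 := hinj (by rw [h3, map_zero])
  have h5 : a ^ n ∈ nonZeroDivisors R := pow_mem ha n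
  have : (1 : R) = 0 := by
    have := (mem_nonZeroDivisors_iff.mp h5).2 1
    apply this
    rw [one_mul, h4]
  exact one_ne_zero this

end Groth.Agent.H9.CA1
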