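import Mathlib

set_option autoImplicit false
universe u

namespace Groth.Agent.H9.CCX

/-- an idempotent of a local ring which is sent to `1` by a ring map to a nontrivial ring is `1` -/
theorem idem_eq_one {T : Type*} [CommRing T] [IsLocalRing T] {R : Type*} [CommRing R]
    [Nontrivial R] (χ : T →+* R) (t : T) (ht : t * t = t) (h1 : χ t = 1) : t = 1 := by
  rcases IsLocalRing.isUnit_or_isUnit_one_sub_self t with h | h
  · obtain ⟨u, rfl⟩ := h
    have := congrArg (fun x => (↑u⁻¹ : T) * x) ht
    simpa [← mul_assoc] using this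
  · exfalso
    have h0 : (1 - t) * t = 0 := by rw [sub_mul, one_mul, ht, sub_self]
    have ht0 : t = 0 := by
      obtain ⟨u, hu⟩ := h
      have := congrArg (fun x => (↑u⁻¹ : T) * x) h0
      simp only [← hu, ← mul_assoc, Units.inv_mul, one_mul, mul_zero] at this
      exact this
    rw [ht0, map_zero] at h1
    exact zero_ne_one h1

/-- the comparison of unit components, abstractly -/
theorem mk_eq_mk {A : Type*} [CommRing A] {R : Type*} [CommRing R] [Nontrivial R]
    (ε : A →+* R) (J : Ideal A) (hJ : J ≤ RingHom.ker ε)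
    (e e' : A) (he : e * e = e)
    (he' : Ideal.Quotient.mk J e' * Ideal.Quotient.mk J e' = Ideal.Quotient.mk J e')
    (hε : ε e = 1) (hε' : ε e' = 1)
    [IsLocalRing (A ⧸ Ideal.span ({1 - e} : Set A))]
    [IsLocalRing (A ⧸ (J ⊔ Ideal.span ({1 - e'} : Set A)))] :
    Ideal.Quotient.mk J e = Ideal.Quotient.mk J e' := by
  -- general facts
  have hle : J ⊔ Ideal.span ({1 - e} : Set A) ≤ RingHom.ker ε := by
    refine sup_le hJ ?_
    rw [Ideal.span_le, Set.singleton_subset_iff]
    show 1 - e ∈ RingHom.ker ε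
    rw [RingHom.mem_ker, map_sub, map_one, hε, sub_self]
  have hle' : J ⊔ Ideal.span ({1 - e'} : Set A) ≤ RingHom.ker ε := by
    refine sup_le hJ ?_
    rw [Ideal.span_le, Set.singleton_subset_iff]
    show 1 - e' ∈ RingHom.ker ε
    rw [RingHom.mem_ker, map_sub, map_one, hε', sub_self]
  -- the local ring T₂
  let χ₂ : (A ⧸ (J ⊔ Ideal.span ({1 - e} : Set A))) →+* R :=
    Ideal.Quotient.lift _ ε (fun a ha => hle ha)
  haveI : Nontrivial (A ⧸ (J ⊔ Ideal.span ({1 - e} : Set A))) := χ₂.domain_nontrivial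
  haveI : IsLocalRing (A ⧸ (J ⊔ Ideal.span ({1 - e} : Set A))) :=
    IsLocalRing.of_surjective'
      (Ideal.Quotient.factor (le_sup_right : Ideal.span ({1 - e} : Set A) ≤ J ⊔ Ideal.span {1 - e}))
      (Ideal.Quotient.factor_surjective _)
  let χ₁ : (A ⧸ (J ⊔ Ideal.span ({1 - e'} : Set A))) →+* R :=
    Ideal.Quotient.lift _ ε (fun a ha => hle' ha)
  -- e' ↦ 1 in T₂
  have h2 : Ideal.Quotient.mk (J ⊔ Ideal.span ({1 - e} : Set A)) e' = 1 := by
    apply idem_eq_one χ₂
    · rw [← map_mul, Ideal.Quotient.eq]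
      have : e' * e' - e' ∈ J := by
        rw [← Ideal.Quotient.eq, map_mul]; exact he'
      exact Ideal.mem_sup_left this
    · show ε e' = 1
      exact hε'
  have h1 : Ideal.Quotient.mk (J ⊔ Ideal.span ({1 - e'} : Set A)) e = 1 := by
    apply idem_eq_one χ₁
    · rw [← map_mul, he]
    · show ε e = 1
      exact hε
  -- unfold
  rw [← map_one (Ideal.Quotient.mk _), Ideal.Quotient.eq, Submodule.mem_sup] at h1 h2
  obtain ⟨j₁, hj₁, z₁, hz₁, hs₁⟩ := h1
  obtain ⟨j₂, hj₂, z₂, hz₂, hs₂⟩ := h2
  rw [Ideal.mem_span_singleton'] at hz₁ hz₂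
  obtain ⟨c₁, rfl⟩ := hz₁
  obtain ⟨c₂, rfl⟩ := hz₂
  set a := Ideal.Quotient.mk J e with ha
  set a' := Ideal.Quotient.mk J e' with ha'
  have haa : a * a = a := by rw [ha, ← map_mul, he]
  have e1 : a - 1 = Ideal.Quotient.mk J c₁ * (1 - a') := by
    have := congrArg (Ideal.Quotient.mk J) hs₁
    rw [map_add, Ideal.Quotient.eq_zero_iff_mem.mpr hj₁, zero_add, map_mul, map_sub, map_sub,
      map_one] at this
    exact this.symm
  have e2 : a' - 1 = Ideal.Quotient.mk J c₂ * (1 - a) := by
    have := congrArg (Ideal.Quotient.mk J) hs₂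
    rw [map_add, Ideal.Quotient.eq_zero_iff_mem.mpr hj₂, zero_add, map_mul, map_sub, map_sub,
      map_one] at this
    exact this.symm
  have f1 : a * a' = a' := by
    have : (a - 1) * a' = 0 := by
      rw [e1, mul_assoc, sub_mul, one_mul, he', sub_self, mul_zero]
    rw [sub_mul, one_mul, sub_eq_zero] at this
    exact this
  have f2 : a' * a = a := by
    have : (a' - 1) * a = 0 := by
      rw [e2, mul_assoc, sub_mul, one_mul, haa, sub_self, mul_zero]
    rw [sub_mul, one_mul, sub_eq_zero] at this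
    exact this
  rw [← f2, mul_comm, f1]

/-- the map on unit components is faithfully flat -/
theorem faithfullyFlat_components (R : Type u) [CommRing R] [IsLocalRing R]
    (A A'' : Type u) [CommRing A] [Algebra R A] [Module.Finite R A]
    [CommRing A''] [Algebra R A''] [Module.Finite R A'']
    [Algebra A'' A] [IsScalarTower R A'' A] [Module.Flat A'' A]
    (e : A) (he : IsIdempotentElem e)
    [IsLocalRing (A ⧸ Ideal.span ({1 - e} : Set A))]
    (e'' : A'') (he'' : IsIdempotentElem e'')
    [IsLocalRing (A'' ⧸ Ideal.span ({1 - e''} : Set A''))]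
    (g : (A'' ⧸ Ideal.span ({1 - e''} : Set A'')) →+* (A ⧸ Ideal.span ({1 - e} : Set A)))
    (hg : g.comp (Ideal.Quotient.mk (Ideal.span ({1 - e''} : Set A''))) =
      (Ideal.Quotient.mk (Ideal.span ({1 - e} : Set A))).comp (algebraMap A'' A)) :
    g.FaithfullyFlat := by
  letI : Algebra (A'' ⧸ Ideal.span ({1 - e''} : Set A'')) (A ⧸ Ideal.span ({1 - e} : Set A)) :=
    g.toAlgebra
  haveI : IsScalarTower A'' (A'' ⧸ Ideal.span ({1 - e''} : Set A''))
      (A ⧸ Ideal.span ({1 - e} : Set A)) := by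
    apply IsScalarTower.of_algebraMap_eq
    intro x
    have := RingHom.congr_fun hg x
    exact this.symm
  haveI hloc'' : IsLocalization.Away e'' (A'' ⧸ Ideal.span ({1 - e''} : Set A'')) :=
    IsLocalization.Away.quotient_of_isIdempotentElem he''
  haveI hloc : IsLocalization.Away e (A ⧸ Ideal.span ({1 - e} : Set A)) :=
    IsLocalization.Away.quotient_of_isIdempotentElem he
  haveI : Module.Flat A (A ⧸ Ideal.span ({1 - e} : Set A)) :=
    IsLocalization.flat _ (Submonoid.powers e)
  haveI : Module.Flat A'' (A ⧸ Ideal.span ({1 - e} : Set A)) :=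
    Module.Flat.trans A'' A (A ⧸ Ideal.span ({1 - e} : Set A))
  haveI : Module.Flat (A'' ⧸ Ideal.span ({1 - e''} : Set A''))
      (A ⧸ Ideal.span ({1 - e} : Set A)) :=
    (Module.flat_iff_of_isLocalization (A'' ⧸ Ideal.span ({1 - e''} : Set A''))
      (Submonoid.powers e'') (A ⧸ Ideal.span ({1 - e} : Set A))).mpr inferInstance
  -- local homomorphism
  haveI : IsLocalHom (algebraMap (A'' ⧸ Ideal.span ({1 - e''} : Set A''))
      (A ⧸ Ideal.span ({1 - e} : Set A))) := by
    refine ((IsLocalRing.local_hom_TFAE _).out 0 4).mpr ?_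
    set P := (IsLocalRing.maximalIdeal (A ⧸ Ideal.span ({1 - e} : Set A))).comap
      (algebraMap (A'' ⧸ Ideal.span ({1 - e''} : Set A'')) (A ⧸ Ideal.span ({1 - e} : Set A)))
      with hP
    haveI : P.IsPrime := Ideal.comap_isPrime _ _
    haveI : IsScalarTower R (A'' ⧸ Ideal.span ({1 - e''} : Set A''))
        (A ⧸ Ideal.span ({1 - e} : Set A)) := by
      apply IsScalarTower.of_algebraMap_eq
      intro r
      have h1 : algebraMap R (A'' ⧸ Ideal.span ({1 - e''} : Set A'')) r =
          Ideal.Quotient.mk _ (algebraMap R A'' r) := rfl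
      have h2 : algebraMap R (A ⧸ Ideal.span ({1 - e} : Set A)) r =
          Ideal.Quotient.mk _ (algebraMap R A r) := rfl
      rw [h1, h2]
      have := RingHom.congr_fun hg (algebraMap R A'' r)
      rw [RingHom.comp_apply, RingHom.comp_apply, ← IsScalarTower.algebraMap_apply R A'' A] at this
      exact this.symm
    have hcomap : P.comap (algebraMap R (A'' ⧸ Ideal.span ({1 - e''} : Set A''))) =
        (IsLocalRing.maximalIdeal (A ⧸ Ideal.span ({1 - e} : Set A))).comap
          (algebraMap R (A ⧸ Ideal.span ({1 - e} : Set A))) := by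
      rw [hP, Ideal.comap_comap, ← IsScalarTower.algebraMap_eq]
    haveI hmax : (P.comap (algebraMap R (A'' ⧸ Ideal.span ({1 - e''} : Set A'')))).IsMaximal := by
      rw [hcomap]
      exact Ideal.isMaximal_comap_of_isIntegral_of_isMaximal _
    have hPmax : P.IsMaximal :=
      Ideal.isMaximal_of_isIntegral_of_isMaximal_comap P hmax
    exact IsLocalRing.eq_maximalIdeal hPmax
  exact Module.FaithfullyFlat.of_flat_of_isLocalHom

end Groth.Agent.H9.CCX
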