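import Mathlib

/-!
# Integrals on finite free commutative Hopf algebras (helper9)

For a commutative Hopf algebra `A` over a commutative ring `R`, finite and free as an `R`-module, we
construct left integrals `P f : A → R` (`Σ a₁ (P f)(a₂) = (P f)(a) 1`) by the trace formula
`P f x = tr (a ↦ Σ (x a)₁ f((x a)₂))` and prove the reconstruction formula
`ε(x) = Σ_i P(eⁱ)(x S(e_i))` for a basis `e_i` with dual basis `eⁱ`.
-/

set_option autoImplicit false
set_option linter.unusedSectionVars false

universe u v

open TensorProduct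

namespace Groth.Agent.H9.KT

section Galois

variable {R : Type u} [CommRing R] {A : Type v} [CommRing A] [HopfAlgebra R A]

/-- the map `u ⊗ v ↦ (S u ⊗ 1) Δ v` -/
noncomputable def galW : A ⊗[R] A →ₗ[R] A ⊗[R] A :=
  (LinearMap.mul' R A).rTensor A ∘ₗ (TensorProduct.assoc R A A A).symm.toLinearMap ∘ₗ
    TensorProduct.map (HopfAlgebraStruct.antipode R (A := A))
      (CoalgebraStruct.comul (R := R) (A := A))

lemma galW_tmul (u v : A) :
    galW (R := R) (u ⊗ₜ[R] v) =
      (HopfAlgebraStruct.antipode R u ⊗ₜ[R] (1 : A)) * CoalgebraStruct.comul (R := R) v := by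
  rw [galW, LinearMap.comp_apply, LinearMap.comp_apply, TensorProduct.map_tmul]
  generalize CoalgebraStruct.comul (R := R) v = t
  induction t using TensorProduct.induction_on with
  | zero => simp
  | tmul x y =>
    rw [LinearEquiv.coe_coe, TensorProduct.assoc_symm_tmul, LinearMap.rTensor_tmul,
      LinearMap.mul'_apply, Algebra.TensorProduct.tmul_mul_tmul, one_mul]
  | add x y hx hy =>
    rw [TensorProduct.tmul_add, map_add, map_add, hx, hy, mul_add]

/-- `Σ (S c₁ ⊗ 1) Δ c₂ = 1 ⊗ c` -/
lemma galW_comul (c : A) : galW (R := R) (CoalgebraStruct.comul (R := R) c) = (1 : A) ⊗ₜ[R] c := by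
  have h1 : TensorProduct.map (HopfAlgebraStruct.antipode R (A := A))
      (CoalgebraStruct.comul (R := R) (A := A)) =
      (HopfAlgebraStruct.antipode R (A := A)).rTensor (A ⊗[R] A) ∘ₗ
        (CoalgebraStruct.comul (R := R) (A := A)).lTensor A := by
    apply TensorProduct.ext'
    intro x y
    rfl
  have h2 : (TensorProduct.assoc R A A A).symm.toLinearMap ∘ₗ
      (HopfAlgebraStruct.antipode R (A := A)).rTensor (A ⊗[R] A) ∘ₗ
        (TensorProduct.assoc R A A A).toLinearMap =
      ((HopfAlgebraStruct.antipode R (A := A)).rTensor A).rTensor A := by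
    apply TensorProduct.ext_threefold
    intro x y z
    rfl
  rw [galW, h1, LinearMap.comp_apply, LinearMap.comp_apply, LinearMap.comp_apply,
    ← Coalgebra.coassoc_apply]
  have h3 := LinearMap.congr_fun h2
    ((CoalgebraStruct.comul (R := R) (A := A)).rTensor A (CoalgebraStruct.comul (R := R) c))
  simp only [LinearMap.comp_apply, LinearEquiv.coe_coe] at h3
  rw [LinearEquiv.coe_coe]
  rw [h3, ← LinearMap.comp_apply, ← LinearMap.rTensor_comp, ← LinearMap.comp_apply,
    ← LinearMap.rTensor_comp, LinearMap.comp_assoc, HopfAlgebra.mul_antipode_rTensor_comul,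
    LinearMap.rTensor_comp,
    LinearMap.comp_apply, Coalgebra.rTensor_counit_comul, LinearMap.rTensor_tmul]
  simp

/-- `θ(x ⊗ y) = (x ⊗ 1) Δ y`, an `A`-algebra map for the left `A`-structure. -/
noncomputable def theta : A ⊗[R] A →ₐ[A] A ⊗[R] A :=
  Algebra.TensorProduct.lift (Algebra.TensorProduct.includeLeft : A →ₐ[A] A ⊗[R] A)
    (Bialgebra.comulAlgHom R A) (fun _ _ => Commute.all _ _)

lemma theta_tmul (x y : A) :
    theta (R := R) (x ⊗ₜ[R] y) = (x ⊗ₜ[R] (1 : A)) * CoalgebraStruct.comul (R := R) y := by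
  rw [theta, Algebra.TensorProduct.lift_tmul]
  rfl

lemma galW_eq_theta (t : A ⊗[R] A) :
    galW (R := R) t =
      theta (R := R) (TensorProduct.map (HopfAlgebraStruct.antipode R (A := A)) LinearMap.id t) := by
  induction t using TensorProduct.induction_on with
  | zero => simp
  | tmul u v => rw [galW_tmul, TensorProduct.map_tmul, theta_tmul]; rfl
  | add x y hx hy => rw [map_add, map_add, map_add, hx, hy]

lemma theta_surjective : Function.Surjective (theta (R := R) (A := A)) := by
  intro t
  induction t using TensorProduct.induction_on with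
  | zero => exact ⟨0, map_zero _⟩
  | tmul x v =>
    refine ⟨(x ⊗ₜ[R] (1 : A)) * TensorProduct.map (HopfAlgebraStruct.antipode R (A := A))
      LinearMap.id (CoalgebraStruct.comul (R := R) v), ?_⟩
    rw [map_mul, ← galW_eq_theta, galW_comul, theta_tmul, Bialgebra.comul_one, mul_one,
      Algebra.TensorProduct.tmul_mul_tmul, mul_one, one_mul]
  | add x y hx hy =>
    obtain ⟨a, rfl⟩ := hx
    obtain ⟨b, rfl⟩ := hy
    exact ⟨a + b, map_add _ _ _⟩

variable [Module.Finite R A]

lemma theta_injective : Function.Injective (theta (R := R) (A := A)) :=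
  OrzechProperty.injective_of_surjective_endomorphism (theta (R := R) (A := A)).toLinearMap
    theta_surjective

/-- `θ` as a linear equivalence -/
noncomputable def thetaEquiv : (A ⊗[R] A) ≃ₗ[A] (A ⊗[R] A) :=
  LinearEquiv.ofBijective (theta (R := R) (A := A)).toLinearMap ⟨theta_injective, theta_surjective⟩

lemma thetaEquiv_apply (t : A ⊗[R] A) : thetaEquiv (R := R) t = theta (R := R) t := rfl

end Galois

section Integral

variable {R : Type u} [CommRing R] {A : Type v} [CommRing A] [HopfAlgebra R A]

/-- `a ↦ Σ a₁ f(a₂)` -/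
noncomputable def Rf (f : Module.Dual R A) : A →ₗ[R] A :=
  (TensorProduct.rid R A).toLinearMap ∘ₗ f.lTensor A ∘ₗ CoalgebraStruct.comul (R := R) (A := A)

lemma Rf_apply (f : Module.Dual R A) (a : A) :
    Rf f a = TensorProduct.rid R A (f.lTensor A (CoalgebraStruct.comul (R := R) a)) := rfl

/-- left integrals: `Σ a₁ λ(a₂) = λ(a) 1` -/
def IsLeftInt (lam : Module.Dual R A) : Prop := ∀ a : A, Rf lam a = lam a • (1 : A)

/-- `Δ ∘ Rf f = (id ⊗ Rf f) ∘ Δ` -/
lemma comul_Rf (f : Module.Dual R A) (a : A) :
    CoalgebraStruct.comul (R := R) (Rf f a) =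
      (Rf f).lTensor A (CoalgebraStruct.comul (R := R) a) := by
  have h1 : ∀ t : A ⊗[R] A,
      CoalgebraStruct.comul (R := R) (A := A) (TensorProduct.rid R A (f.lTensor A t)) =
      TensorProduct.rid R (A ⊗[R] A) (f.lTensor (A ⊗[R] A)
        ((CoalgebraStruct.comul (R := R) (A := A)).rTensor A t)) := by
    intro t
    induction t using TensorProduct.induction_on with
    | zero => simp
    | tmul x y => simp
    | add x y hx hy => simp only [map_add, hx, hy]
  have h2 : ((TensorProduct.rid R A).toLinearMap ∘ₗ f.lTensor A).lTensor A ∘ₗ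
      (TensorProduct.assoc R A A A).toLinearMap =
      (TensorProduct.rid R (A ⊗[R] A)).toLinearMap ∘ₗ f.lTensor (A ⊗[R] A) := by
    apply TensorProduct.ext_threefold
    intro x y z
    simp
  have h3 : Rf f = ((TensorProduct.rid R A).toLinearMap ∘ₗ f.lTensor A) ∘ₗ
      CoalgebraStruct.comul (R := R) (A := A) := rfl
  rw [Rf_apply, h1, h3, LinearMap.lTensor_comp, LinearMap.comp_apply, ← Coalgebra.coassoc_apply]
  have h4 := LinearMap.congr_fun h2
    ((CoalgebraStruct.comul (R := R) (A := A)).rTensor A (CoalgebraStruct.comul (R := R) a))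
  simp only [LinearMap.comp_apply, LinearEquiv.coe_coe] at h4
  exact h4.symm

/-- the functional `x ↦ tr (Rf f ∘ L_x)` -/
noncomputable def P (f : Module.Dual R A) : Module.Dual R A :=
  (LinearMap.trace R A) ∘ₗ (LinearMap.llcomp R A A A (Rf f)) ∘ₗ (LinearMap.mul R A)

lemma P_apply (f : Module.Dual R A) (x : A) :
    P f x = LinearMap.trace R A (Rf f ∘ₗ LinearMap.mulLeft R x) := rfl

variable [Module.Free R A] [Module.Finite R A]

theorem isLeftInt_P (f : Module.Dual R A) : IsLeftInt (P f) := by
  intro x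
  set Ψ : A ⊗[R] A →ₗ[A] A ⊗[R] A := (Rf f).baseChange A with hΨ
  let Φ : A ⊗[R] A →ₗ[A] A :=
    (LinearMap.trace A (A ⊗[R] A)) ∘ₗ (LinearMap.llcomp A (A ⊗[R] A) (A ⊗[R] A) (A ⊗[R] A) Ψ) ∘ₗ
      (LinearMap.mul A (A ⊗[R] A))
  have hΦ : ∀ t, Φ t = LinearMap.trace A (A ⊗[R] A) (Ψ ∘ₗ LinearMap.mulLeft A t) := fun t => rfl
  have hsmul : ∀ (c : A) (w : A ⊗[R] A), (c ⊗ₜ[R] (1 : A)) * w = c • w := by
    intro c w
    rw [Algebra.smul_def, Algebra.TensorProduct.algebraMap_apply]
    rfl
  -- on pure tensors
  have h1 : ∀ u v : A, Φ (u ⊗ₜ[R] v) = P f v • u := by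
    intro u v
    have e1 : LinearMap.mulLeft A (u ⊗ₜ[R] v) = u • (LinearMap.mulLeft R v).baseChange A := by
      apply TensorProduct.AlgebraTensorModule.ext
      intro c y
      simp [Algebra.TensorProduct.tmul_mul_tmul, TensorProduct.smul_tmul']
    rw [hΦ, e1, LinearMap.comp_smul, map_smul, hΨ, ← LinearMap.baseChange_comp,
      LinearMap.trace_baseChange, ← P_apply]
    simp [Algebra.smul_def, mul_comm]
  have h2 : ∀ t : A ⊗[R] A, Φ t = TensorProduct.rid R A ((P f).lTensor A t) := by
    intro t
    induction t using TensorProduct.induction_on with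
    | zero => simp
    | tmul u v => rw [h1]; simp
    | add x y hx hy => rw [map_add, map_add, map_add, hx, hy]
  -- `θ` commutes with `Ψ`
  have hcomm : ∀ s : A ⊗[R] A, theta (R := R) (Ψ s) = Ψ (theta (R := R) s) := by
    intro s
    induction s using TensorProduct.induction_on with
    | zero => simp
    | tmul c y =>
      rw [hΨ, LinearMap.baseChange_tmul, theta_tmul, theta_tmul, comul_Rf, hsmul, hsmul, map_smul,
        LinearMap.baseChange_eq_ltensor]
    | add x y hx hy => rw [map_add, map_add, map_add, map_add, hx, hy]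
  have h3 : Φ (CoalgebraStruct.comul (R := R) x) = Φ ((1 : A) ⊗ₜ[R] x) := by
    rw [hΦ, hΦ]
    have e2 : Ψ ∘ₗ LinearMap.mulLeft A (CoalgebraStruct.comul (R := R) x) =
        (thetaEquiv (R := R) (A := A)).conj (Ψ ∘ₗ LinearMap.mulLeft A ((1 : A) ⊗ₜ[R] x)) := by
      apply LinearMap.ext
      intro t
      obtain ⟨s, rfl⟩ := (thetaEquiv (R := R) (A := A)).surjective t
      rw [LinearEquiv.conj_apply]
      simp only [LinearMap.comp_apply, LinearEquiv.coe_coe, LinearEquiv.symm_apply_apply,
        LinearMap.mulLeft_apply]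
      rw [thetaEquiv_apply, thetaEquiv_apply, hcomm]
      have e3 : theta (R := R) (((1 : A) ⊗ₜ[R] x) * s) =
          CoalgebraStruct.comul (R := R) x * theta (R := R) s := by
        rw [map_mul, theta_tmul, ← Algebra.TensorProduct.one_def, one_mul]
      rw [e3]
    rw [e2, LinearMap.trace_conj']
  rw [show Rf (P f) x = Φ (CoalgebraStruct.comul (R := R) x) from (h2 _).symm, h3, h1]
  

/-- trace as a sum over a basis -/
lemma trace_eq_sum {M : Type*} [AddCommGroup M] [Module R M] {ι : Type*} [Fintype ι]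
    [DecidableEq ι] (b : Module.Basis ι R M) (T : M →ₗ[R] M) :
    LinearMap.trace R M T = ∑ j, b.repr (T (b j)) j := by
  rw [LinearMap.trace_eq_matrix_trace R b, Matrix.trace]
  simp [LinearMap.toMatrix_apply, Matrix.diag]

theorem sum_P_coord {ι : Type*} [Fintype ι] (b : Module.Basis ι R A) (x : A) :
    ∑ i, P (b.coord i) (x * HopfAlgebraStruct.antipode R (b i)) =
      CoalgebraStruct.counit (R := R) x := by
  classical
  let bb := b.tensorProduct b
  let V : A ⊗[R] A →ₗ[R] A := LinearMap.mul' R A ∘ₗ
    TensorProduct.map LinearMap.id (LinearMap.mulLeft R x ∘ₗ HopfAlgebraStruct.antipode R (A := A))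
  have hV : ∀ c d, V (c ⊗ₜ[R] d) = c * (x * HopfAlgebraStruct.antipode R d) := by
    intro c d
    simp [V]
  have key : ∀ (t : A ⊗[R] A) (i j : ι),
      b.repr (TensorProduct.rid R A ((b.coord i).lTensor A t)) j = bb.repr t (j, i) := by
    intro t i j
    induction t using TensorProduct.induction_on with
    | zero => simp
    | tmul c d =>
      simp [bb, Module.Basis.tensorProduct_repr_tmul_apply, mul_comm]
    | add x y hx hy => simp only [map_add, Finsupp.add_apply, hx, hy]
  have h1 : ∀ i, P (b.coord i) (x * HopfAlgebraStruct.antipode R (b i)) =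
      ∑ j, bb.repr (CoalgebraStruct.comul (R := R) (V (bb (j, i)))) (j, i) := by
    intro i
    rw [P_apply, trace_eq_sum b]
    refine Finset.sum_congr rfl fun j _ => ?_
    rw [LinearMap.comp_apply, LinearMap.mulLeft_apply, Rf_apply, key]
    congr 3
    rw [Module.Basis.tensorProduct_apply, hV]
    ring
  rw [Finset.sum_congr rfl (fun i _ => h1 i), Finset.sum_comm]
  have h2 : ∑ j, ∑ i, bb.repr (CoalgebraStruct.comul (R := R) (V (bb (j, i)))) (j, i) =
      LinearMap.trace R (A ⊗[R] A) (CoalgebraStruct.comul (R := R) (A := A) ∘ₗ V) := by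
    rw [trace_eq_sum bb, Fintype.sum_prod_type]
    rfl
  rw [h2, LinearMap.trace_comp_comm']
  have h3 : V ∘ₗ CoalgebraStruct.comul (R := R) (A := A) =
      (CoalgebraStruct.counit (R := R) (A := A)).smulRight x := by
    apply LinearMap.ext
    intro a
    have h4 : ∀ t : A ⊗[R] A, V t = x * LinearMap.mul' R A
        ((HopfAlgebraStruct.antipode R (A := A)).lTensor A t) := by
      intro t
      induction t using TensorProduct.induction_on with
      | zero => simp
      | tmul c d => rw [hV]; simp; ring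
      | add x y hx hy => rw [map_add, map_add, map_add, hx, hy, mul_add]
    rw [LinearMap.comp_apply, h4, HopfAlgebra.mul_antipode_lTensor_comul_apply,
      LinearMap.smulRight_apply, Algebra.smul_def, mul_comm]
  rw [h3, LinearMap.trace_smulRight]

/-- **Existence of enough integrals.** -/
theorem exists_integrals :
    ∃ (ι : Type v) (_ : Fintype ι) (lam : ι → Module.Dual R A) (Lam : ι → A),
      (∀ i, IsLeftInt (lam i)) ∧
        ∀ c : A, ∑ i, lam i (c * Lam i) = CoalgebraStruct.counit (R := R) c := by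
  let b := Module.Free.chooseBasis R A
  exact ⟨Module.Free.ChooseBasisIndex R A, inferInstance, fun i => P (b.coord i),
    fun i => HopfAlgebraStruct.antipode R (b i), fun i => isLeftInt_P _, fun c => sum_P_coord b c⟩

end Integral

end Groth.Agent.H9.KT
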