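import Mathlib
import Groth.Agent.Lib.Helper9.Misc.KT1

/-!
# Quotients of finite flat group schemes by finite free subgroups: Kreimer–Takeuchi (helper9)

`A` a commutative Hopf algebra over `R`, integral over `R`; `π : A → C` a surjective map of Hopf
algebras with `C` commutative, finite and free over `R`.  `inv π` is the subalgebra of functions
invariant under right translation by `Spec C`.  We show: there is an `R`-linear `G : A ⊗ C → A`
with `G (x ⊗ 1) = x` and `G (ρ x) ∈ inv π` (so `inv π` is a direct summand of `A`, compatibly with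
base change), `A` is finitely generated projective and faithfully flat over `inv π`.
-/

set_option autoImplicit false
set_option linter.unusedSectionVars false

universe u v w

open TensorProduct

namespace Groth.Agent.H9.KT

section Coaction

variable {R : Type u} [CommRing R] {A : Type v} [CommRing A] [HopfAlgebra R A]
  {C : Type w} [CommRing C] [HopfAlgebra R C] (π : A →ₐ[R] C)

/-- the coaction `a ↦ (id ⊗ π) Δ a` -/
noncomputable abbrev rho : A →ₐ[R] A ⊗[R] C :=
  (Algebra.TensorProduct.map (AlgHom.id R A) π).comp (Bialgebra.comulAlgHom R A)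

/-- the invariants -/
noncomputable abbrev inv : Subalgebra R A :=
  AlgHom.equalizer (rho π) (Algebra.TensorProduct.includeLeft : A →ₐ[R] A ⊗[R] C)

lemma mem_inv {a : A} : a ∈ inv π ↔ rho π a = a ⊗ₜ[R] (1 : C) := Iff.rfl

lemma map_eq_lTensor (t : A ⊗[R] A) :
    Algebra.TensorProduct.map (AlgHom.id R A) π t = π.toLinearMap.lTensor A t := by
  induction t using TensorProduct.induction_on with
  | zero => simp
  | tmul x y => rfl
  | add x y hx hy => rw [map_add, map_add, hx, hy]

lemma rho_apply (a : A) :
    rho π a = π.toLinearMap.lTensor A (CoalgebraStruct.comul (R := R) a) :=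
  map_eq_lTensor π _

/-- `w ↦ (id ⊗ λ) w` -/
noncomputable def sl (lam : Module.Dual R C) : A ⊗[R] C →ₗ[R] A :=
  (TensorProduct.rid R A).toLinearMap ∘ₗ lam.lTensor A

@[simp] lemma sl_tmul (lam : Module.Dual R C) (x : A) (c : C) :
    sl lam (x ⊗ₜ[R] c) = lam c • x := by
  simp [sl]

lemma sl_mul_left (lam : Module.Dual R C) (x : A) (w : A ⊗[R] C) :
    sl lam ((x ⊗ₜ[R] (1 : C)) * w) = x * sl lam w := by
  induction w using TensorProduct.induction_on with
  | zero => simp
  | tmul y c => simp [Algebra.TensorProduct.tmul_mul_tmul]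
  | add y z hy hz => rw [mul_add, map_add, map_add, hy, hz, mul_add]

lemma sl_mul_right (lam : Module.Dual R C) (Lam : C) (w : A ⊗[R] C) :
    sl lam (((1 : A) ⊗ₜ[R] Lam) * w) = sl (lam ∘ₗ LinearMap.mulLeft R Lam) w := by
  induction w using TensorProduct.induction_on with
  | zero => simp
  | tmul y c => simp [Algebra.TensorProduct.tmul_mul_tmul]
  | add y z hy hz => rw [mul_add, map_add, map_add, hy, hz]

/-- the trace `a ↦ (id ⊗ λ) ρ a` -/
noncomputable def tr (lam : Module.Dual R C) : A →ₗ[R] A :=
  sl lam ∘ₗ (rho π).toLinearMap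

lemma tr_apply (lam : Module.Dual R C) (a : A) : tr π lam a = sl lam (rho π a) := rfl

lemma tr_mul_of_mem (lam : Module.Dual R C) {b : A} (hb : b ∈ inv π) (a : A) :
    tr π lam (b * a) = b * tr π lam a := by
  rw [tr_apply, map_mul, (mem_inv π).mp hb, sl_mul_left, tr_apply]

section counit

variable (hε : ∀ a : A, CoalgebraStruct.counit (R := R) (π a) = CoalgebraStruct.counit (R := R) a)

include hε in
lemma sl_counit_rho (a : A) :
    sl (CoalgebraStruct.counit (R := R) (A := C)) (rho π a) = a := by
  have h : (CoalgebraStruct.counit (R := R) (A := C)) ∘ₗ π.toLinearMap =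
      CoalgebraStruct.counit (R := R) (A := A) := LinearMap.ext hε
  rw [sl, LinearMap.comp_apply, rho_apply, ← LinearMap.comp_apply (f := LinearMap.lTensor A _),
    ← LinearMap.lTensor_comp, h, Coalgebra.lTensor_counit_comul]
  simp

end counit

section comul

variable (hΔ : ∀ a : A, CoalgebraStruct.comul (R := R) (π a) =
    TensorProduct.map π.toLinearMap π.toLinearMap (CoalgebraStruct.comul (R := R) a))

include hΔ in
lemma rho_coassoc (a : A) :
    (rho π).toLinearMap.rTensor C (rho π a) =
      (TensorProduct.assoc R A C C).symm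
        ((CoalgebraStruct.comul (R := R) (A := C)).lTensor A (rho π a)) := by
  have h1 : (CoalgebraStruct.comul (R := R) (A := C)) ∘ₗ π.toLinearMap =
      TensorProduct.map π.toLinearMap π.toLinearMap ∘ₗ
        CoalgebraStruct.comul (R := R) (A := A) := LinearMap.ext hΔ
  have h2 : (TensorProduct.assoc R A C C).symm.toLinearMap ∘ₗ
      (TensorProduct.map π.toLinearMap π.toLinearMap).lTensor A ∘ₗ
        (TensorProduct.assoc R A A A).toLinearMap =
      TensorProduct.map (π.toLinearMap.lTensor A) π.toLinearMap := by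
    apply TensorProduct.ext_threefold
    intro x y z
    rfl
  have h3 : ∀ t : A ⊗[R] A, (rho π).toLinearMap.rTensor C (π.toLinearMap.lTensor A t) =
      TensorProduct.map (π.toLinearMap.lTensor A) π.toLinearMap
        ((CoalgebraStruct.comul (R := R) (A := A)).rTensor A t) := by
    intro t
    induction t using TensorProduct.induction_on with
    | zero => simp
    | tmul x y =>
      rw [LinearMap.lTensor_tmul, LinearMap.rTensor_tmul, LinearMap.rTensor_tmul,
        TensorProduct.map_tmul, AlgHom.toLinearMap_apply, rho_apply]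
    | add x y hx hy => simp only [map_add, hx, hy]
  rw [rho_apply, h3, ← LinearMap.comp_apply (f := LinearMap.lTensor A _), ← LinearMap.lTensor_comp,
    h1, LinearMap.lTensor_comp, LinearMap.comp_apply, ← Coalgebra.coassoc_apply, ← h2]
  rfl

include hΔ in
/-- traces against left integrals are invariant -/
lemma tr_mem {lam : Module.Dual R C} (hlam : IsLeftInt lam) (a : A) : tr π lam a ∈ inv π := by
  rw [mem_inv]
  -- Step A
  have hA : ∀ w : A ⊗[R] C, rho π (sl lam w) =
      TensorProduct.rid R (A ⊗[R] C) (lam.lTensor (A ⊗[R] C) ((rho π).toLinearMap.rTensor C w)) := by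
    intro w
    induction w using TensorProduct.induction_on with
    | zero => simp
    | tmul x c =>
      rw [sl_tmul, map_smul, LinearMap.rTensor_tmul, LinearMap.lTensor_tmul,
        TensorProduct.rid_tmul]
      rfl
    | add y z hy hz => simp only [map_add, hy, hz]
  -- Step C
  have hC : (TensorProduct.rid R (A ⊗[R] C)).toLinearMap ∘ₗ lam.lTensor (A ⊗[R] C) =
      ((TensorProduct.rid R C).toLinearMap ∘ₗ lam.lTensor C).lTensor A ∘ₗ
        (TensorProduct.assoc R A C C).toLinearMap := by
    apply TensorProduct.ext_threefold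
    intro x c d
    simp
  -- Step D
  have hD : Rf lam = lam.smulRight (1 : C) := LinearMap.ext hlam
  have hD' : ∀ w : A ⊗[R] C, (lam.smulRight (1 : C)).lTensor A w = sl lam w ⊗ₜ[R] (1 : C) := by
    intro w
    induction w using TensorProduct.induction_on with
    | zero => simp
    | tmul x c => simp [TensorProduct.smul_tmul]
    | add y z hy hz => simp only [map_add, hy, hz, TensorProduct.add_tmul]
  rw [tr_apply, hA, rho_coassoc π hΔ]
  have h5 := LinearMap.congr_fun hC ((TensorProduct.assoc R A C C).symm
        ((CoalgebraStruct.comul (R := R) (A := C)).lTensor A (rho π a)))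
  simp only [LinearMap.comp_apply, LinearEquiv.coe_coe, LinearEquiv.apply_symm_apply] at h5
  rw [h5, ← LinearMap.comp_apply (f := LinearMap.lTensor A _), ← LinearMap.lTensor_comp]
  rw [show ((TensorProduct.rid R C).toLinearMap ∘ₗ lam.lTensor C) ∘ₗ
      CoalgebraStruct.comul (R := R) (A := C) = Rf lam from rfl, hD, hD']

end comul

/-- the canonical (Galois) map `x ⊗ y ↦ (x ⊗ 1) ρ(y)` -/
noncomputable def canmap : A ⊗[R] A →ₐ[R] A ⊗[R] C :=
  Algebra.TensorProduct.lift (Algebra.TensorProduct.includeLeft : A →ₐ[R] A ⊗[R] C) (rho π)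
    (fun _ _ => Commute.all _ _)

lemma canmap_tmul (x y : A) : canmap π (x ⊗ₜ[R] y) = (x ⊗ₜ[R] (1 : C)) * rho π y := by
  rw [canmap, Algebra.TensorProduct.lift_tmul]
  rfl

lemma canmap_eq (t : A ⊗[R] A) :
    canmap π t = Algebra.TensorProduct.map (AlgHom.id R A) π (theta (R := R) t) := by
  induction t using TensorProduct.induction_on with
  | zero => simp
  | tmul x y =>
    rw [canmap_tmul, theta_tmul, map_mul, Algebra.TensorProduct.map_tmul, map_one]
    rfl
  | add x y hx hy => rw [map_add, map_add, map_add, hx, hy]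

/-- the canonical map hits `1 ⊗ π c` -/
lemma canmap_galW (c : A) :
    canmap π (TensorProduct.map (HopfAlgebraStruct.antipode R (A := A)) LinearMap.id
      (CoalgebraStruct.comul (R := R) c)) = (1 : A) ⊗ₜ[R] π c := by
  rw [canmap_eq, ← galW_eq_theta, galW_comul, Algebra.TensorProduct.map_tmul, map_one]

/-- `F λ t a = (id ⊗ λ)(can(t) ρ(a))` -/
lemma sl_canmap_tmul (lam : Module.Dual R C) (x y a : A) :
    sl lam (canmap π (x ⊗ₜ[R] y) * rho π a) = x * tr π lam (y * a) := by
  rw [canmap_tmul, mul_assoc, ← map_mul, sl_mul_left, tr_apply]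

end Coaction

section Main

variable {R : Type u} [CommRing R] {A : Type v} [CommRing A] [HopfAlgebra R A]
  {C : Type w} [CommRing C] [HopfAlgebra R C] (π : A →ₐ[R] C)
  (hε : ∀ a : A, CoalgebraStruct.counit (R := R) (π a) = CoalgebraStruct.counit (R := R) a)
  (hΔ : ∀ a : A, CoalgebraStruct.comul (R := R) (π a) =
    TensorProduct.map π.toLinearMap π.toLinearMap (CoalgebraStruct.comul (R := R) a))
  (hπ : Function.Surjective π)
  [Module.Free R C] [Module.Finite R C]

include hε hπ in
/-- reconstruction: `a = Σ_i (id ⊗ λ_i)(can(t_i) ρ(a))` -/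
theorem exists_recon :
    ∃ (ι : Type w) (_ : Fintype ι) (lam : ι → Module.Dual R C) (t : ι → A ⊗[R] A),
      (∀ i, IsLeftInt (lam i)) ∧
        ∀ a : A, ∑ i, sl (lam i) (canmap π (t i) * rho π a) = a := by
  obtain ⟨ι, hι, lam, Lam, hlam, hsum⟩ := exists_integrals (R := R) (A := C)
  choose c hc using fun i => hπ (Lam i)
  refine ⟨ι, hι, lam, fun i => TensorProduct.map (HopfAlgebraStruct.antipode R (A := A))
    LinearMap.id (CoalgebraStruct.comul (R := R) (c i)), hlam, fun a => ?_⟩
  have h1 : ∀ i, sl (lam i) (canmap π (TensorProduct.map (HopfAlgebraStruct.antipode R (A := A))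
      LinearMap.id (CoalgebraStruct.comul (R := R) (c i))) * rho π a) =
      sl (lam i ∘ₗ LinearMap.mulLeft R (Lam i)) (rho π a) := by
    intro i
    rw [canmap_galW, hc, sl_mul_right]
  rw [Finset.sum_congr rfl (fun i _ => h1 i)]
  have h2 : ∀ w : A ⊗[R] C, ∑ i, sl (lam i ∘ₗ LinearMap.mulLeft R (Lam i)) w =
      sl (CoalgebraStruct.counit (R := R) (A := C)) w := by
    intro w
    induction w using TensorProduct.induction_on with
    | zero => simp
    | tmul x d =>
      simp only [sl_tmul, LinearMap.comp_apply, LinearMap.mulLeft_apply]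
      rw [← Finset.sum_smul]
      congr 1
      rw [← hsum d]
      exact Finset.sum_congr rfl fun i _ => by rw [mul_comm]
    | add y z hy hz => simp only [map_add, Finset.sum_add_distrib, hy, hz]
  rw [h2, sl_counit_rho π hε]

variable [Algebra.IsIntegral R A]

include hε hΔ hπ in
/-- **The retraction.** -/
theorem exists_retraction :
    ∃ G : A ⊗[R] C →ₗ[R] A, (∀ x : A, G (x ⊗ₜ[R] (1 : C)) = x) ∧ ∀ x : A, G (rho π x) ∈ inv π := by
  classical
  obtain ⟨ι, hι, lam, t, hlam, hrec⟩ := exists_recon π hε hπ
  let gen : ι × A → inv π := fun p => ⟨tr π (lam p.1) p.2, tr_mem π hΔ (hlam p.1) p.2⟩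
  have hspan : Ideal.span (Set.range gen) = ⊤ := by
    by_contra hne
    obtain ⟨P, hP, hle⟩ := Ideal.exists_le_maximal _ hne
    haveI : Algebra.IsIntegral (inv π) A := Algebra.IsIntegral.tower_top (R := R)
    obtain ⟨Q, hQ, hQP⟩ := Ideal.exists_ideal_over_maximal_of_isIntegral (S := A) P
      (by
        intro x hx
        have : (x : A) = 0 := hx
        have hx0 : x = 0 := Subtype.ext this
        rw [hx0]; exact zero_mem _)
    have hmem : ∀ (i : ι) (y : A), tr π (lam i) y ∈ Q := by
      intro i y
      have h1 : gen (i, y) ∈ P := hle (Ideal.subset_span ⟨(i, y), rfl⟩)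
      rw [← hQP] at h1
      exact h1
    have hF : ∀ (i : ι) (s : A ⊗[R] A) (a : A), sl (lam i) (canmap π s * rho π a) ∈ Q := by
      intro i s a
      induction s using TensorProduct.induction_on with
      | zero => simp
      | tmul x y => rw [sl_canmap_tmul]; exact Q.mul_mem_left _ (hmem i _)
      | add y z hy hz => rw [map_add, add_mul, map_add]; exact Q.add_mem hy hz
    have h1 : (1 : A) ∈ Q := by
      rw [← hrec 1]
      exact Q.sum_mem fun i _ => hF i _ _
    exact hQ.ne_top ((Ideal.eq_top_iff_one _).mpr h1)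
  have h1 : (1 : inv π) ∈ Ideal.span (Set.range gen) := by rw [hspan]; trivial
  rw [Ideal.span, Finsupp.mem_span_range_iff_exists_finsupp] at h1
  obtain ⟨cf, hcf⟩ := h1
  let G : A ⊗[R] C →ₗ[R] A := ∑ p ∈ cf.support,
    (LinearMap.mulLeft R ((cf p : inv π) : A)) ∘ₗ sl (lam p.1) ∘ₗ LinearMap.mulLeft R (rho π p.2)
  have hG : ∀ w, G w = ∑ p ∈ cf.support, ((cf p : inv π) : A) * sl (lam p.1) (rho π p.2 * w) := by
    intro w
    simp [G, LinearMap.sum_apply]
  have hcf' : ∑ p ∈ cf.support, ((cf p : inv π) : A) * tr π (lam p.1) p.2 = 1 := by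
    have := congrArg (fun z : inv π => (z : A)) hcf
    simp only [Finsupp.sum, smul_eq_mul] at this
    push_cast at this
    exact this
  refine ⟨G, fun x => ?_, fun x => ?_⟩
  · rw [hG]
    have h2 : ∀ p : ι × A, sl (lam p.1) (rho π p.2 * (x ⊗ₜ[R] (1 : C))) =
        x * tr π (lam p.1) p.2 := by
      intro p
      rw [mul_comm, sl_mul_left, tr_apply]
    rw [Finset.sum_congr rfl (fun p _ => by rw [h2 p, mul_left_comm]), ← Finset.mul_sum, hcf',
      mul_one]
  · rw [hG]
    refine Subalgebra.sum_mem _ fun p _ => ?_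
    refine Subalgebra.mul_mem _ (cf p).2 ?_
    rw [← map_mul]
    exact tr_mem π hΔ (hlam p.1) _

include hε hΔ hπ in
/-- `A` is projective over the invariants -/
theorem projective_inv : Module.Projective (inv π) A := by
  classical
  obtain ⟨ι, hι, lam, t, hlam, hrec⟩ := exists_recon π hε hπ
  choose S hS using fun i => TensorProduct.exists_finset (t i)
  -- `y ↦ tr (y * ·)` as an `inv`-linear map
  let trB : ι → A → A →ₗ[inv π] inv π := fun i y =>
    { toFun := fun a => ⟨tr π (lam i) (y * a), tr_mem π hΔ (hlam i) _⟩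
      map_add' := fun a b => Subtype.ext (by simp [mul_add])
      map_smul' := fun b a => Subtype.ext (by
        show tr π (lam i) (y * ((b : A) * a)) = (b : A) * tr π (lam i) (y * a)
        rw [mul_left_comm, tr_mul_of_mem π _ b.2]) }
  rw [Module.projective_def']
  refine ⟨∑ i, ∑ q ∈ S i, (Finsupp.lsingle q.1 : inv π →ₗ[inv π] A →₀ inv π) ∘ₗ trB i q.2, ?_⟩
  apply LinearMap.ext
  intro a
  simp only [LinearMap.comp_apply, LinearMap.sum_apply, map_sum, Finsupp.lsingle_apply,
    Finsupp.linearCombination_single, id_eq, LinearMap.id_apply]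
  conv_rhs => rw [← hrec a]
  refine Finset.sum_congr rfl fun i _ => ?_
  rw [hS i, map_sum, Finset.sum_mul, map_sum]
  refine Finset.sum_congr rfl fun q _ => ?_
  rw [sl_canmap_tmul, Subalgebra.smul_def, mul_comm]
  rfl

include hε hΔ hπ in
/-- `A` is faithfully flat over the invariants -/
theorem faithfullyFlat_inv : Module.FaithfullyFlat (inv π) A := by
  haveI := projective_inv π hε hΔ hπ
  haveI : Algebra.IsIntegral (inv π) A := Algebra.IsIntegral.tower_top (R := R)
  exact Module.FaithfullyFlat.of_comap_surjective (Algebra.IsIntegral.comap_surjective _ _)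

end Main

end Groth.Agent.H9.KT
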