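import Mathlib
import Groth.Agent.Lib.Helper9.Misc.KT2
import Groth.Agent.Lib.Helper9.Misc.CCX1

/-!
# The connected-étale sequence of a finite flat group scheme over a Noetherian local ring (helper9)
-/

set_option autoImplicit false
set_option linter.unusedSectionVars false

universe u v w

open TensorProduct

namespace Groth.Agent.H9.KT

section General

/-- two idempotents congruent modulo the Jacobson radical are equal -/
lemma idem_eq_of_sub_mem_jacobson {T : Type*} [CommRing T] {x y : T} (hx : IsIdempotentElem x)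
    (hy : IsIdempotentElem y) (h : x - y ∈ Ideal.jacobson (⊥ : Ideal T)) : x = y := by
  have hx' : x * x = x := hx
  have hy' : y * y = y := hy
  have h3 : (x - y) * ((x - y) * (-(x - y)) + 1) = 0 := by
    linear_combination (3 * y - x - 1) * hx' + (y + 1 - 3 * x) * hy'
  have hunit := Ideal.mem_jacobson_bot.mp h (-(x - y))
  exact sub_eq_zero.mp ((IsUnit.mul_left_eq_zero hunit).mp h3)

/-- for a local ring `C` with an augmentation, the augmentation ideal generates an ideal in the
Jacobson radical of every integral `R`-algebra receiving `C` -/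
lemma map_ker_le_jacobson {R C T : Type*} [CommRing R] [Nontrivial R] [CommRing C] [IsLocalRing C]
    [Algebra R C] [CommRing T] [Algebra R T] [Algebra.IsIntegral R T] (ε : C →ₐ[R] R)
    (j : C →ₐ[R] T) :
    Ideal.map j (RingHom.ker ε) ≤ Ideal.jacobson ⊥ := by
  show Ideal.map (j : C →+* T) (RingHom.ker (ε : C →+* R)) ≤ Ideal.jacobson ⊥
  have hj : (j : C →+* T).IsIntegral := by
    apply RingHom.IsIntegral.tower_top (algebraMap R C) (j : C →+* T)
    rw [show (j : C →+* T).comp (algebraMap R C) = algebraMap R T from j.comp_algebraMap]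
    exact algebraMap_isIntegral_iff.mpr inferInstance
  rw [Ideal.jacobson, le_sInf_iff]
  rintro M ⟨-, hM⟩
  rw [Ideal.map_le_iff_le_comap]
  have hmax := Ideal.isMaximal_comap_of_isIntegral_of_isMaximal' (j : C →+* T) hj M
  rw [IsLocalRing.eq_maximalIdeal hmax]
  intro x hx
  rw [IsLocalRing.mem_maximalIdeal, mem_nonunits_iff]
  intro hu
  have h1 := hu.map (ε : C →+* R)
  rw [RingHom.mem_ker.mp hx] at h1
  exact not_isUnit_zero h1

end General

section Princ

variable {R : Type*} [CommRing R] [Nontrivial R] {C : Type*} [CommRing C] [IsLocalRing C]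
  [Algebra R C] (εC : C →ₐ[R] R)
  {T D : Type*} [CommRing T] [Algebra R T] [Algebra.IsIntegral R T] [CommRing D] [Algebra R D]
  (j : C →ₐ[R] T) (ν : T →ₐ[R] D)
  (hν : RingHom.ker ν ≤ Ideal.map j (RingHom.ker εC))

include hν in
lemma idem_princ {T₀ : Type*} [CommRing T₀] [Algebra R T₀] (φ₁ φ₂ : T₀ →ₐ[R] T)
    (h : ν.comp φ₁ = ν.comp φ₂) {x : T₀} (hx : IsIdempotentElem x) : φ₁ x = φ₂ x := by
  refine idem_eq_of_sub_mem_jacobson (hx.map φ₁) (hx.map φ₂) (map_ker_le_jacobson εC j (hν ?_))
  rw [RingHom.mem_ker, map_sub, sub_eq_zero]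
  exact AlgHom.congr_fun h x

include hν in
lemma uniq_princ [IsNoetherianRing T] {E : Type*} [CommRing E] [Algebra R E]
    [Algebra.FormallyUnramified R E] (φ₁ φ₂ : E →ₐ[R] T) (h : ν.comp φ₁ = ν.comp φ₂) :
    φ₁ = φ₂ := by
  have hJ : RingHom.ker ν ≤ Ideal.jacobson ⊥ := hν.trans (map_ker_le_jacobson εC j)
  have hK : ⨅ i : ℕ, (RingHom.ker ν) ^ i = ⊥ := by
    have := Ideal.iInf_pow_smul_eq_bot_of_le_jacobson (M := T) _ hJ
    simpa using this
  refine Algebra.FormallyUnramified.ext_of_iInf _ hK (fun x => ?_)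
  rw [Ideal.Quotient.eq, RingHom.mem_ker, map_sub, sub_eq_zero]
  exact AlgHom.congr_fun h x

end Princ

section MapLemmas

variable {R : Type*} [CommRing R] {A B D : Type*} [CommRing A] [Algebra R A] [CommRing B]
  [Algebra R B] [CommRing D] [Algebra R D]

lemma map_id_eq_lTensor (g : B →ₐ[R] D) (t : A ⊗[R] B) :
    Algebra.TensorProduct.map (AlgHom.id R A) g t = g.toLinearMap.lTensor A t := by
  induction t using TensorProduct.induction_on with
  | zero => simp
  | tmul x y => rfl
  | add x y hx hy => rw [map_add, map_add, hx, hy]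

lemma map_id_eq_rTensor (g : B →ₐ[R] D) (t : B ⊗[R] A) :
    Algebra.TensorProduct.map g (AlgHom.id R A) t = g.toLinearMap.rTensor A t := by
  induction t using TensorProduct.induction_on with
  | zero => simp
  | tmul x y => rfl
  | add x y hx hy => rw [map_add, map_add, hx, hy]

end MapLemmas

section HopfIdeal

variable {R : Type u} [CommRing R] [Nontrivial R] {A : Type v} [CommRing A] [HopfAlgebra R A]
  [Module.Finite R A]
  (e : A) (he : IsIdempotentElem e) (hε : Bialgebra.counitAlgHom R A e = 1)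
  [IsLocalRing (A ⧸ Ideal.span ({1 - e} : Set A))]

/-- the counit on the quotient, before the Hopf structure exists -/
noncomputable def epsQ : (A ⧸ Ideal.span ({1 - e} : Set A)) →ₐ[R] R :=
  Ideal.Quotient.liftₐ _ (Bialgebra.counitAlgHom R A) (by
    intro a ha
    obtain ⟨c, rfl⟩ := Ideal.mem_span_singleton'.mp ha
    rw [map_mul, map_sub, map_one, hε, sub_self, mul_zero])

lemma mk_e_eq_one : Ideal.Quotient.mk (Ideal.span ({1 - e} : Set A)) e = 1 := by
  rw [← map_one (Ideal.Quotient.mk (Ideal.span ({1 - e} : Set A))), Ideal.Quotient.eq]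
  have : e - 1 = -(1 - e) := by ring
  rw [this]
  exact neg_mem (Ideal.subset_span rfl)

include he hε in
theorem isHopfIdeal : (Ideal.span ({1 - e} : Set A)).IsHopfIdeal R := by
  let π₀ : A →ₐ[R] A ⧸ Ideal.span ({1 - e} : Set A) := Ideal.Quotient.mkₐ R _
  have hπe : π₀ e = 1 := mk_e_eq_one e
  let εC := epsQ e hε
  have hsurj : Function.Surjective εC := fun r => ⟨algebraMap R _ r, by simp⟩
  -- the idempotent `(π ⊗ π) Δ e` is `1`
  have hu1 : Algebra.TensorProduct.map π₀ π₀ (Bialgebra.comulAlgHom R A e) = 1 := by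
    apply idem_eq_of_sub_mem_jacobson ((he.map _).map _) IsIdempotentElem.one
    refine map_ker_le_jacobson εC (Algebra.TensorProduct.includeRight :
      (A ⧸ Ideal.span ({1 - e} : Set A)) →ₐ[R] (A ⧸ Ideal.span ({1 - e} : Set A)) ⊗[R]
        (A ⧸ Ideal.span ({1 - e} : Set A))) ?_
    have hk := Algebra.TensorProduct.lTensor_ker (A := A ⧸ Ideal.span ({1 - e} : Set A)) εC hsurj
    refine hk.le ?_
    rw [RingHom.mem_ker, map_sub, map_one, sub_eq_zero, ← AlgHom.comp_apply,
      ← Algebra.TensorProduct.map_comp]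
    have h1 : Algebra.TensorProduct.map ((AlgHom.id R _).comp π₀) (εC.comp π₀) =
        (Algebra.TensorProduct.map π₀ (AlgHom.id R R)).comp
          (Algebra.TensorProduct.map (AlgHom.id R A) (Bialgebra.counitAlgHom R A)) := by
      rw [← Algebra.TensorProduct.map_comp]
      rfl
    rw [h1, AlgHom.comp_apply, map_id_eq_lTensor]
    have h2 : (Bialgebra.counitAlgHom R A).toLinearMap.lTensor A (Bialgebra.comulAlgHom R A e) =
        e ⊗ₜ[R] (1 : R) := Coalgebra.lTensor_counit_comul e
    rw [h2, Algebra.TensorProduct.map_tmul, hπe]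
    rfl
  refine { counit_eq_zero := ?_, map_mkQ_comul_eq_zero := ?_, antipode_mem := ?_ }
  · intro x hx
    obtain ⟨c, rfl⟩ := Ideal.mem_span_singleton'.mp hx
    show Bialgebra.counitAlgHom R A (c * (1 - e)) = 0
    rw [map_mul, map_sub, map_one, hε, sub_self, mul_zero]
  · intro x hx
    obtain ⟨c, rfl⟩ := Ideal.mem_span_singleton'.mp hx
    show Algebra.TensorProduct.map π₀ π₀ (Bialgebra.comulAlgHom R A (c * (1 - e))) = 0
    rw [map_mul, map_mul, map_sub, map_sub, map_one, map_one, hu1, sub_self, mul_zero]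
  · intro x hx
    obtain ⟨c, rfl⟩ := Ideal.mem_span_singleton'.mp hx
    have h1 : π₀ (HopfAlgebra.antipodeAlgHom R A e) = 1 := by
      apply CCX.idem_eq_one (εC : _ →+* R)
      · rw [← map_mul, ← map_mul, he.eq]
      · show Bialgebra.counitAlgHom R A (HopfAlgebraStruct.antipode R e) = 1
        rw [Bialgebra.counitAlgHom_apply, HopfAlgebra.counit_antipode, ← Bialgebra.counitAlgHom_apply,
          hε]
    have h2 : HopfAlgebraStruct.antipode R (c * (1 - e)) =
        HopfAlgebra.antipodeAlgHom R A c * (1 - HopfAlgebra.antipodeAlgHom R A e) := by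
      show HopfAlgebra.antipodeAlgHom R A (c * (1 - e)) = _
      rw [map_mul, map_sub, map_one]
    rw [h2]
    apply Ideal.mul_mem_left
    rw [← Ideal.Quotient.eq_zero_iff_mem, map_sub, map_one]
    have : Ideal.Quotient.mk (Ideal.span ({1 - e} : Set A)) (HopfAlgebra.antipodeAlgHom R A e) = 1 :=
      h1
    rw [this, sub_self]

end HopfIdeal

end Groth.Agent.H9.KT
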