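import Mathlib
import Groth.Agent.Lib.Helper9.Misc.KT3

/-!
# The connected-étale sequence, main theorem (helper9)
-/

set_option autoImplicit false
set_option linter.unusedSectionVars false

universe u v w

open TensorProduct

namespace Groth.Agent.H9.KT

section Gen

variable {R : Type u} [CommRing R] {A : Type v} [CommRing A] [HopfAlgebra R A]
  {C : Type w} [CommRing C] [HopfAlgebra R C] (π : A →ₐ[R] C)
  (hε : ∀ a : A, CoalgebraStruct.counit (R := R) (π a) = CoalgebraStruct.counit (R := R) a)

include hε in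
lemma nu_rho :
    (Algebra.TensorProduct.map (AlgHom.id R A) (Bialgebra.counitAlgHom R C)).comp (rho π) =
      (Algebra.TensorProduct.map (AlgHom.id R A) (Bialgebra.counitAlgHom R C)).comp
        (Algebra.TensorProduct.includeLeft : A →ₐ[R] A ⊗[R] C) := by
  apply AlgHom.ext
  intro a
  show Algebra.TensorProduct.map (AlgHom.id R A) (Bialgebra.counitAlgHom R C) (rho π a) =
    Algebra.TensorProduct.map (AlgHom.id R A) (Bialgebra.counitAlgHom R C) (a ⊗ₜ[R] (1 : C))
  rw [map_id_eq_lTensor, Algebra.TensorProduct.map_tmul, map_one]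
  apply (TensorProduct.rid R A).injective
  have h1 := sl_counit_rho π hε a
  rw [sl, LinearMap.comp_apply] at h1
  rw [TensorProduct.rid_tmul, one_smul]
  exact h1

include hε in
/-- invariants with trivial counit are killed by `π` -/
lemma pi_eq_zero_of_mem {a : A} (ha : a ∈ inv π) (h0 : CoalgebraStruct.counit (R := R) a = 0) :
    π a = 0 := by
  have h1 : (CoalgebraStruct.counit (R := R) (A := A)).rTensor C (rho π a) = (1 : R) ⊗ₜ[R] π a := by
    rw [rho_apply, ← LinearMap.comp_apply, LinearMap.rTensor_comp_lTensor,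
      ← LinearMap.lTensor_comp_rTensor, LinearMap.comp_apply, Coalgebra.rTensor_counit_comul,
      LinearMap.lTensor_tmul]
    rfl
  rw [(mem_inv π).mp ha, LinearMap.rTensor_tmul, h0, TensorProduct.zero_tmul] at h1
  have h2 := congrArg (TensorProduct.lid R C) h1
  rw [map_zero, TensorProduct.lid_tmul, one_smul] at h2
  exact h2.symm

end Gen

section Shapes

variable {R : Type u} [CommRing R] {A : Type v} [CommRing A] [Algebra R A]
  {C : Type w} [CommRing C] [Algebra R C] (εC : C →ₐ[R] R)

lemma surj_eps : Function.Surjective εC := fun r => ⟨algebraMap R C r, by simp⟩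

lemma surj_nu1 : Function.Surjective (Algebra.TensorProduct.map (AlgHom.id R A) εC) := by
  intro y
  obtain ⟨x, hx⟩ := LinearMap.lTensor_surjective A
    (show Function.Surjective εC.toLinearMap from surj_eps εC) y
  exact ⟨x, by rw [map_id_eq_lTensor]; exact hx⟩

lemma ker_nu1 :
    RingHom.ker (Algebra.TensorProduct.map (AlgHom.id R A) εC) ≤
      Ideal.map (Algebra.TensorProduct.includeRight : C →ₐ[R] A ⊗[R] C) (RingHom.ker εC) :=
  (Algebra.TensorProduct.lTensor_ker (A := A) εC (surj_eps εC)).le

lemma ker_nu2 :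
    RingHom.ker (Algebra.TensorProduct.map (AlgHom.id R A)
        (Algebra.TensorProduct.map (AlgHom.id R A) εC)) ≤
      Ideal.map ((Algebra.TensorProduct.includeRight : A ⊗[R] C →ₐ[R] A ⊗[R] (A ⊗[R] C)).comp
        (Algebra.TensorProduct.includeRight : C →ₐ[R] A ⊗[R] C))
        (RingHom.ker εC) := by
  have h1 := Algebra.TensorProduct.lTensor_ker (A := A)
    (Algebra.TensorProduct.map (AlgHom.id R A) εC) (surj_nu1 εC)
  rw [h1]
  refine (Ideal.map_mono (ker_nu1 (A := A) εC)).trans ?_
  rw [Ideal.map_le_iff_le_comap, Ideal.map_le_iff_le_comap]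
  intro x hx
  exact Ideal.mem_map_of_mem ((Algebra.TensorProduct.includeRight :
    A ⊗[R] C →ₐ[R] A ⊗[R] (A ⊗[R] C)).comp
      (Algebra.TensorProduct.includeRight : C →ₐ[R] A ⊗[R] C)) hx

lemma ker_nu3 :
    RingHom.ker (Algebra.TensorProduct.map
        (Algebra.TensorProduct.map (AlgHom.id R A) εC) (AlgHom.id R A)) ≤
      Ideal.map ((Algebra.TensorProduct.includeLeft : A ⊗[R] C →ₐ[R] (A ⊗[R] C) ⊗[R] A).comp
        (Algebra.TensorProduct.includeRight : C →ₐ[R] A ⊗[R] C))
        (RingHom.ker εC) := by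
  have h1 := Algebra.TensorProduct.rTensor_ker (R := R) (S := R) (C := A)
    (Algebra.TensorProduct.map (AlgHom.id R A) εC) (surj_nu1 εC)
  rw [h1]
  refine (Ideal.map_mono (ker_nu1 (A := A) εC)).trans ?_
  rw [Ideal.map_le_iff_le_comap, Ideal.map_le_iff_le_comap]
  intro x hx
  exact Ideal.mem_map_of_mem ((Algebra.TensorProduct.includeLeft :
    A ⊗[R] C →ₐ[R] (A ⊗[R] C) ⊗[R] A).comp
      (Algebra.TensorProduct.includeRight : C →ₐ[R] A ⊗[R] C)) hx

end Shapes

section MainThm

variable {R : Type u} [CommRing R] [IsLocalRing R] [IsNoetherianRing R]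
  {A : Type v} [CommRing A] [HopfAlgebra R A] [Module.Finite R A] [Module.Flat R A]
  (e : A) (he : IsIdempotentElem e) (hε : Bialgebra.counitAlgHom R A e = 1)
  [IsLocalRing (A ⧸ Ideal.span ({1 - e} : Set A))]
  [(Ideal.span ({1 - e} : Set A)).IsHopfIdeal R]

/-- the quotient map -/
noncomputable abbrev piE : A →ₐ[R] A ⧸ Ideal.span ({1 - e} : Set A) := Ideal.Quotient.mkₐ R _

lemma piE_counit (a : A) :
    CoalgebraStruct.counit (R := R) (piE (R := R) e a) = CoalgebraStruct.counit (R := R) a := rfl

lemma piE_comul (a : A) : CoalgebraStruct.comul (R := R) (piE (R := R) e a) =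
    TensorProduct.map (piE (R := R) e).toLinearMap (piE (R := R) e).toLinearMap
      (CoalgebraStruct.comul (R := R) a) := rfl

lemma piE_surj : Function.Surjective (piE (R := R) e) := Ideal.Quotient.mkₐ_surjective R _

instance finite_quot : Module.Finite R (A ⧸ Ideal.span ({1 - e} : Set A)) :=
  Module.Finite.of_surjective (piE (R := R) e).toLinearMap (piE_surj (R := R) e)

include he in
lemma flat_quot : Module.Flat R (A ⧸ Ideal.span ({1 - e} : Set A)) := by
  haveI hloc : IsLocalization.Away e (A ⧸ Ideal.span ({1 - e} : Set A)) :=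
    IsLocalization.Away.quotient_of_isIdempotentElem he
  haveI : Module.Flat A (A ⧸ Ideal.span ({1 - e} : Set A)) :=
    IsLocalization.flat _ (Submonoid.powers e)
  exact Module.Flat.trans R A (A ⧸ Ideal.span ({1 - e} : Set A))

include he in
lemma free_quot : Module.Free R (A ⧸ Ideal.span ({1 - e} : Set A)) := by
  haveI := flat_quot (R := R) e he
  haveI := finite_quot (R := R) e
  exact Module.free_of_flat_of_isLocalRing

include he in
lemma e_mem_inv : e ∈ inv (piE (R := R) e) := by
  rw [mem_inv]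
  exact idem_princ (Bialgebra.counitAlgHom R (A ⧸ Ideal.span ({1 - e} : Set A)))
    Algebra.TensorProduct.includeRight
    (Algebra.TensorProduct.map (AlgHom.id R A) (Bialgebra.counitAlgHom R _))
    (ker_nu1 _) (rho (piE (R := R) e)) Algebra.TensorProduct.includeLeft
    (nu_rho _ (piE_counit (R := R) e)) he

/-- `S ⊗ id` -/
noncomputable abbrev Sid : A ⊗[R] A →ₐ[R] A ⊗[R] A :=
  Algebra.TensorProduct.map (HopfAlgebra.antipodeAlgHom R A) (AlgHom.id R A)

lemma Sid_eq (t : A ⊗[R] A) : Sid (R := R) t =
    TensorProduct.map (HopfAlgebraStruct.antipode R (A := A)) LinearMap.id t := by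
  induction t using TensorProduct.induction_on with
  | zero => simp
  | tmul x y => rfl
  | add x y hx hy => rw [map_add, map_add, hx, hy]

/-- the separability idempotent, `(g, h) ↦ e(g⁻¹ h)` -/
noncomputable abbrev dd : A ⊗[R] A := Sid (R := R) (Bialgebra.comulAlgHom R A e)

lemma theta_dd : theta (R := R) (dd (R := R) e) = (1 : A) ⊗ₜ[R] e := by
  rw [dd, Sid_eq, ← galW_eq_theta]
  exact galW_comul e

include he in
lemma dd_idem : IsIdempotentElem (dd (R := R) e) := (he.map _).map _

include he in
lemma dd_left :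
    Algebra.TensorProduct.map (AlgHom.id R A) (rho (piE (R := R) e)) (dd (R := R) e) =
      Algebra.TensorProduct.map (AlgHom.id R A)
        (Algebra.TensorProduct.includeLeft : A →ₐ[R] A ⊗[R] (A ⧸ Ideal.span ({1 - e} : Set A)))
        (dd (R := R) e) := by
  refine idem_princ (Bialgebra.counitAlgHom R (A ⧸ Ideal.span ({1 - e} : Set A))) _
    _ (ker_nu2 _) _ _ ?_ (dd_idem (R := R) e he)
  rw [← Algebra.TensorProduct.map_comp, ← Algebra.TensorProduct.map_comp,
    nu_rho _ (piE_counit (R := R) e)]

include he in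
lemma dd_right :
    Algebra.TensorProduct.map (rho (piE (R := R) e)) (AlgHom.id R A) (dd (R := R) e) =
      Algebra.TensorProduct.map
        (Algebra.TensorProduct.includeLeft : A →ₐ[R] A ⊗[R] (A ⧸ Ideal.span ({1 - e} : Set A)))
        (AlgHom.id R A) (dd (R := R) e) := by
  refine idem_princ (Bialgebra.counitAlgHom R (A ⧸ Ideal.span ({1 - e} : Set A))) _
    _ (ker_nu3 _) _ _ ?_ (dd_idem (R := R) e he)
  rw [← Algebra.TensorProduct.map_comp, ← Algebra.TensorProduct.map_comp,
    nu_rho _ (piE_counit (R := R) e)]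

section WithG

variable {G : A ⊗[R] (A ⧸ Ideal.span ({1 - e} : Set A)) →ₗ[R] A}
  (hG1 : ∀ x : A, G (x ⊗ₜ[R] (1 : A ⧸ Ideal.span ({1 - e} : Set A))) = x)
  (hG2 : ∀ x : A, G (rho (piE (R := R) e) x) ∈ inv (piE (R := R) e))

/-- the projector onto the invariants -/
noncomputable def pp (G : A ⊗[R] (A ⧸ Ideal.span ({1 - e} : Set A)) →ₗ[R] A) : A →ₗ[R] A :=
  G ∘ₗ (rho (piE (R := R) e)).toLinearMap

include hG1 in
lemma lTensor_pp (w : A ⊗[R] A)
    (h : Algebra.TensorProduct.map (AlgHom.id R A) (rho (piE (R := R) e)) w =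
      Algebra.TensorProduct.map (AlgHom.id R A)
        (Algebra.TensorProduct.includeLeft : A →ₐ[R] A ⊗[R] (A ⧸ Ideal.span ({1 - e} : Set A))) w) :
    (pp e G).lTensor A w = w := by
  have h1 : G ∘ₗ (Algebra.TensorProduct.includeLeft :
      A →ₐ[R] A ⊗[R] (A ⧸ Ideal.span ({1 - e} : Set A))).toLinearMap = LinearMap.id :=
    LinearMap.ext hG1
  rw [pp, LinearMap.lTensor_comp, LinearMap.comp_apply, ← map_id_eq_lTensor, h, map_id_eq_lTensor,
    ← LinearMap.comp_apply, ← LinearMap.lTensor_comp, h1, LinearMap.lTensor_id, LinearMap.id_apply]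

include hG1 in
lemma rTensor_pp (w : A ⊗[R] A)
    (h : Algebra.TensorProduct.map (rho (piE (R := R) e)) (AlgHom.id R A) w =
      Algebra.TensorProduct.map
        (Algebra.TensorProduct.includeLeft : A →ₐ[R] A ⊗[R] (A ⧸ Ideal.span ({1 - e} : Set A)))
        (AlgHom.id R A) w) :
    (pp e G).rTensor A w = w := by
  have h1 : G ∘ₗ (Algebra.TensorProduct.includeLeft :
      A →ₐ[R] A ⊗[R] (A ⧸ Ideal.span ({1 - e} : Set A))).toLinearMap = LinearMap.id :=
    LinearMap.ext hG1
  rw [pp, LinearMap.rTensor_comp, LinearMap.comp_apply, ← map_id_eq_rTensor, h, map_id_eq_rTensor,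
    ← LinearMap.comp_apply, ← LinearMap.rTensor_comp, h1, LinearMap.rTensor_id, LinearMap.id_apply]

/-- the corestricted projector -/
noncomputable def pp' : A →ₗ[R] inv (piE (R := R) e) :=
  { toFun := fun x => ⟨G (rho (piE (R := R) e) x), hG2 x⟩
    map_add' := fun x y => Subtype.ext (by simp)
    map_smul' := fun r x => Subtype.ext (by simp) }

lemma val_comp_pp' :
    (inv (piE (R := R) e)).val.toLinearMap ∘ₗ pp' e hG2 = pp e G :=
  LinearMap.ext fun _ => rfl

include hG1 in
lemma pp'_val (b : inv (piE (R := R) e)) : pp' e hG2 b = b := by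
  apply Subtype.ext
  show G (rho (piE (R := R) e) b) = b
  rw [(mem_inv _).mp b.2, hG1]

include hG1 hG2 in
lemma mem_range (w : A ⊗[R] A)
    (h₂ : Algebra.TensorProduct.map (AlgHom.id R A) (rho (piE (R := R) e)) w =
      Algebra.TensorProduct.map (AlgHom.id R A)
        (Algebra.TensorProduct.includeLeft : A →ₐ[R] A ⊗[R] (A ⧸ Ideal.span ({1 - e} : Set A))) w)
    (h₃ : Algebra.TensorProduct.map (rho (piE (R := R) e)) (AlgHom.id R A) w =
      Algebra.TensorProduct.map
        (Algebra.TensorProduct.includeLeft : A →ₐ[R] A ⊗[R] (A ⧸ Ideal.span ({1 - e} : Set A)))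
        (AlgHom.id R A) w) :
    w ∈ LinearMap.range (TensorProduct.map (inv (piE (R := R) e)).val.toLinearMap
      (inv (piE (R := R) e)).val.toLinearMap) := by
  refine ⟨TensorProduct.map (pp' e hG2) (pp' e hG2) w, ?_⟩
  rw [← LinearMap.comp_apply, ← TensorProduct.map_comp, val_comp_pp', ← LinearMap.rTensor_comp_lTensor,
    LinearMap.comp_apply, lTensor_pp e hG1 w h₂, rTensor_pp e hG1 w h₃]

end WithG

include he in
lemma key_dd {s : A} (hs : s ∈ inv (piE (R := R) e)) :
    ((1 : A) ⊗ₜ[R] s - s ⊗ₜ[R] (1 : A)) * dd (R := R) e = 0 := by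
  apply theta_injective (R := R) (A := A)
  rw [map_zero, map_mul, map_sub, theta_tmul, theta_tmul, theta_dd, Bialgebra.comul_one, mul_one]
  have hw : ((1 : A) ⊗ₜ[R] (1 : A)) * CoalgebraStruct.comul (R := R) s - s ⊗ₜ[R] (1 : A) ∈
      RingHom.ker (Algebra.TensorProduct.map (AlgHom.id R A) (piE (R := R) e)) := by
    rw [RingHom.mem_ker, map_sub, sub_eq_zero, ← Algebra.TensorProduct.one_def, one_mul,
      Algebra.TensorProduct.map_tmul, map_one]
    exact (mem_inv _).mp hs
  have hk : RingHom.ker (piE (R := R) e) = Ideal.span ({1 - e} : Set A) := by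
    ext x
    rw [RingHom.mem_ker]
    exact Ideal.Quotient.eq_zero_iff_mem
  rw [Algebra.TensorProduct.lTensor_ker _ (piE_surj (R := R) e), hk,
    Ideal.map_span, Set.image_singleton] at hw
  obtain ⟨z, hz⟩ := Ideal.mem_span_singleton'.mp hw
  rw [← hz, mul_assoc, Algebra.TensorProduct.includeRight_apply,
    Algebra.TensorProduct.tmul_mul_tmul, one_mul, sub_mul, one_mul, he.eq, sub_self,
    TensorProduct.tmul_zero, mul_zero]

include hε in
lemma lmul_dd : Algebra.TensorProduct.lmul' R (dd (R := R) e) = 1 := by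
  have h1 : Algebra.TensorProduct.lmul' R (dd (R := R) e) = LinearMap.mul' R A
      ((HopfAlgebraStruct.antipode R (A := A)).rTensor A (CoalgebraStruct.comul (R := R) e)) := by
    rw [← Algebra.TensorProduct.lmul'_toLinearMap, dd, Sid_eq]
    rfl
  rw [h1, HopfAlgebra.mul_antipode_rTensor_comul_apply, ← Bialgebra.counitAlgHom_apply, hε,
    map_one]

lemma lmul_nat (B : Subalgebra R A) (t : B ⊗[R] B) :
    ((Algebra.TensorProduct.lmul' R t : B) : A) =
      Algebra.TensorProduct.lmul' R (Algebra.TensorProduct.map B.val B.val t) := by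
  induction t using TensorProduct.induction_on with
  | zero => simp
  | tmul x y => simp
  | add x y hx hy => rw [map_add, map_add, map_add, Subalgebra.coe_add, hx, hy]

lemma map_val_eq (B : Subalgebra R A) (t : B ⊗[R] B) :
    Algebra.TensorProduct.map B.val B.val t =
      TensorProduct.map B.val.toLinearMap B.val.toLinearMap t := by
  induction t using TensorProduct.induction_on with
  | zero => simp
  | tmul x y => rfl
  | add x y hx hy => rw [map_add, map_add, hx, hy]

include he hε in
theorem unramified_inv : Algebra.FormallyUnramified R (inv (piE (R := R) e)) := by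
  haveI := free_quot (R := R) e he
  obtain ⟨G, hG1, hG2⟩ := exists_retraction (piE (R := R) e) (piE_counit (R := R) e)
    (piE_comul (R := R) e) (piE_surj (R := R) e)
  have hleft : ∀ t : inv (piE (R := R) e) ⊗[R] inv (piE (R := R) e),
      TensorProduct.map (pp' e hG2) (pp' e hG2)
        (Algebra.TensorProduct.map (inv (piE (R := R) e)).val (inv (piE (R := R) e)).val t) = t := by
    intro t
    induction t using TensorProduct.induction_on with
    | zero => simp
    | tmul x y =>
      rw [Algebra.TensorProduct.map_tmul, TensorProduct.map_tmul]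
      rw [show (inv (piE (R := R) e)).val x = (x : A) from rfl,
        show (inv (piE (R := R) e)).val y = (y : A) from rfl,
        pp'_val e hG1 hG2, pp'_val e hG1 hG2]
    | add x y hx hy => rw [map_add, map_add, hx, hy]
  have hΦinj : Function.Injective
      (Algebra.TensorProduct.map (inv (piE (R := R) e)).val (inv (piE (R := R) e)).val) :=
    Function.LeftInverse.injective hleft
  obtain ⟨t, ht⟩ := mem_range e hG1 hG2 (dd (R := R) e) (dd_left e he) (dd_right e he)
  have hΦt : Algebra.TensorProduct.map (inv (piE (R := R) e)).val (inv (piE (R := R) e)).val t =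
      dd (R := R) e := (map_val_eq _ t).trans ht
  haveI : Module.Finite R (inv (piE (R := R) e)) :=
    Module.Finite.of_injective (inv (piE (R := R) e)).val.toLinearMap Subtype.val_injective
  rw [Algebra.FormallyUnramified.iff_exists_tensorProduct]
  refine ⟨t, fun s => hΦinj ?_, ?_⟩
  · rw [map_mul, map_zero, map_sub, hΦt, Algebra.TensorProduct.map_tmul,
      Algebra.TensorProduct.map_tmul, map_one]
    exact key_dd e he s.2
  · apply Subtype.ext
    rw [lmul_nat, hΦt, lmul_dd e hε]
    rfl

include he hε in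
theorem etale_inv : Algebra.Etale R (inv (piE (R := R) e)) := by
  haveI := free_quot (R := R) e he
  haveI := unramified_inv e he hε
  obtain ⟨G, hG1, hG2⟩ := exists_retraction (piE (R := R) e) (piE_counit (R := R) e)
    (piE_comul (R := R) e) (piE_surj (R := R) e)
  haveI : Module.Free R A := Module.free_of_flat_of_isLocalRing
  haveI : Module.Projective R (inv (piE (R := R) e)) :=
    Module.Projective.of_split (inv (piE (R := R) e)).val.toLinearMap (pp' e hG2)
      (LinearMap.ext fun b => pp'_val e hG1 hG2 b)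
  haveI : Module.Finite R (inv (piE (R := R) e)) :=
    Module.Finite.of_injective (inv (piE (R := R) e)).val.toLinearMap Subtype.val_injective
  haveI : Algebra.FinitePresentation R (inv (piE (R := R) e)) :=
    Algebra.FinitePresentation.of_finiteType.mp inferInstance
  exact Algebra.Etale.of_formallyUnramified_of_flat

include he hε in
theorem antipode_mem_inv {b : A} (hb : b ∈ inv (piE (R := R) e)) :
    HopfAlgebraStruct.antipode R b ∈ inv (piE (R := R) e) := by
  haveI := unramified_inv e he hε
  haveI : IsNoetherianRing (A ⊗[R] (A ⧸ Ideal.span ({1 - e} : Set A))) :=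
    IsNoetherianRing.of_finite R (A ⊗[R] (A ⧸ Ideal.span ({1 - e} : Set A)))
  have h := uniq_princ (Bialgebra.counitAlgHom R (A ⧸ Ideal.span ({1 - e} : Set A))) _ _
    (ker_nu1 (A := A) _)
    ((rho (piE (R := R) e)).comp
      ((HopfAlgebra.antipodeAlgHom R A).comp (inv (piE (R := R) e)).val))
    ((Algebra.TensorProduct.includeLeft : A →ₐ[R] A ⊗[R] (A ⧸ Ideal.span ({1 - e} : Set A))).comp
      ((HopfAlgebra.antipodeAlgHom R A).comp (inv (piE (R := R) e)).val))
    (AlgHom.ext fun x => AlgHom.congr_fun (nu_rho _ (piE_counit (R := R) e))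
      (HopfAlgebra.antipodeAlgHom R A ((inv (piE (R := R) e)).val x)))
  rw [mem_inv]
  exact AlgHom.congr_fun h ⟨b, hb⟩

include he hε in
theorem comul_mem_range {b : A} (hb : b ∈ inv (piE (R := R) e)) :
    CoalgebraStruct.comul (R := R) b ∈
      LinearMap.range (TensorProduct.map (inv (piE (R := R) e)).val.toLinearMap
        (inv (piE (R := R) e)).val.toLinearMap) := by
  haveI := free_quot (R := R) e he
  haveI := unramified_inv e he hε
  obtain ⟨G, hG1, hG2⟩ := exists_retraction (piE (R := R) e) (piE_counit (R := R) e)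
    (piE_comul (R := R) e) (piE_surj (R := R) e)
  haveI : IsNoetherianRing (A ⊗[R] (A ⊗[R] (A ⧸ Ideal.span ({1 - e} : Set A)))) :=
    IsNoetherianRing.of_finite R (A ⊗[R] (A ⊗[R] (A ⧸ Ideal.span ({1 - e} : Set A))))
  haveI : IsNoetherianRing ((A ⊗[R] (A ⧸ Ideal.span ({1 - e} : Set A))) ⊗[R] A) :=
    IsNoetherianRing.of_finite R ((A ⊗[R] (A ⧸ Ideal.span ({1 - e} : Set A))) ⊗[R] A)
  have hc₂ : (Algebra.TensorProduct.map (AlgHom.id R A) (Algebra.TensorProduct.map (AlgHom.id R A)
      (Bialgebra.counitAlgHom R (A ⧸ Ideal.span ({1 - e} : Set A))))).comp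
        (Algebra.TensorProduct.map (AlgHom.id R A) (rho (piE (R := R) e))) =
      (Algebra.TensorProduct.map (AlgHom.id R A) (Algebra.TensorProduct.map (AlgHom.id R A)
      (Bialgebra.counitAlgHom R (A ⧸ Ideal.span ({1 - e} : Set A))))).comp
        (Algebra.TensorProduct.map (AlgHom.id R A)
          (Algebra.TensorProduct.includeLeft :
            A →ₐ[R] A ⊗[R] (A ⧸ Ideal.span ({1 - e} : Set A)))) := by
    rw [← Algebra.TensorProduct.map_comp, ← Algebra.TensorProduct.map_comp,
      nu_rho _ (piE_counit (R := R) e)]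
  have hc₃ : (Algebra.TensorProduct.map (Algebra.TensorProduct.map (AlgHom.id R A)
      (Bialgebra.counitAlgHom R (A ⧸ Ideal.span ({1 - e} : Set A)))) (AlgHom.id R A)).comp
        (Algebra.TensorProduct.map (rho (piE (R := R) e)) (AlgHom.id R A)) =
      (Algebra.TensorProduct.map (Algebra.TensorProduct.map (AlgHom.id R A)
      (Bialgebra.counitAlgHom R (A ⧸ Ideal.span ({1 - e} : Set A)))) (AlgHom.id R A)).comp
        (Algebra.TensorProduct.map
          (Algebra.TensorProduct.includeLeft :
            A →ₐ[R] A ⊗[R] (A ⧸ Ideal.span ({1 - e} : Set A))) (AlgHom.id R A)) := by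
    rw [← Algebra.TensorProduct.map_comp, ← Algebra.TensorProduct.map_comp,
      nu_rho _ (piE_counit (R := R) e)]
  have h₂ := uniq_princ (Bialgebra.counitAlgHom R (A ⧸ Ideal.span ({1 - e} : Set A))) _ _
    (ker_nu2 (A := A) _)
    ((Algebra.TensorProduct.map (AlgHom.id R A) (rho (piE (R := R) e))).comp
      ((Bialgebra.comulAlgHom R A).comp (inv (piE (R := R) e)).val))
    ((Algebra.TensorProduct.map (AlgHom.id R A)
      (Algebra.TensorProduct.includeLeft : A →ₐ[R] A ⊗[R] (A ⧸ Ideal.span ({1 - e} : Set A)))).comp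
      ((Bialgebra.comulAlgHom R A).comp (inv (piE (R := R) e)).val))
    (AlgHom.ext fun x => AlgHom.congr_fun hc₂
      (Bialgebra.comulAlgHom R A ((inv (piE (R := R) e)).val x)))
  have h₃ := uniq_princ (Bialgebra.counitAlgHom R (A ⧸ Ideal.span ({1 - e} : Set A))) _ _
    (ker_nu3 (A := A) _)
    ((Algebra.TensorProduct.map (rho (piE (R := R) e)) (AlgHom.id R A)).comp
      ((Bialgebra.comulAlgHom R A).comp (inv (piE (R := R) e)).val))
    ((Algebra.TensorProduct.map
      (Algebra.TensorProduct.includeLeft : A →ₐ[R] A ⊗[R] (A ⧸ Ideal.span ({1 - e} : Set A)))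
      (AlgHom.id R A)).comp
      ((Bialgebra.comulAlgHom R A).comp (inv (piE (R := R) e)).val))
    (AlgHom.ext fun x => AlgHom.congr_fun hc₃
      (Bialgebra.comulAlgHom R A ((inv (piE (R := R) e)).val x)))
  exact mem_range e hG1 hG2 _ (AlgHom.congr_fun h₂ ⟨b, hb⟩) (AlgHom.congr_fun h₃ ⟨b, hb⟩)

include he hε in
theorem augIdeal_eq :
    Ideal.span {a : A | a ∈ inv (piE (R := R) e) ∧ CoalgebraStruct.counit (R := R) a = 0} =
      Ideal.span ({1 - e} : Set A) := by
  apply le_antisymm
  · rw [Ideal.span_le]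
    rintro a ⟨ha, h0⟩
    have h1 := pi_eq_zero_of_mem (piE (R := R) e) (piE_counit (R := R) e) ha h0
    exact Ideal.Quotient.eq_zero_iff_mem.mp h1
  · rw [Ideal.span_le, Set.singleton_subset_iff]
    apply Ideal.subset_span
    refine ⟨Subalgebra.sub_mem _ (Subalgebra.one_mem _) (e_mem_inv e he), ?_⟩
    show Bialgebra.counitAlgHom R A (1 - e) = 0
    rw [map_sub, map_one, hε, sub_self]

include he hε in
/-- **The connected-étale sequence.** -/
theorem main :
    (∀ b ∈ inv (piE (R := R) e), CoalgebraStruct.comul (R := R) (A := A) b ∈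
      LinearMap.range (TensorProduct.map (inv (piE (R := R) e)).val.toLinearMap
        (inv (piE (R := R) e)).val.toLinearMap)) ∧
    (∀ b ∈ inv (piE (R := R) e), HopfAlgebraStruct.antipode R b ∈ inv (piE (R := R) e)) ∧
    Algebra.Etale R (inv (piE (R := R) e)) ∧
    Module.FaithfullyFlat (inv (piE (R := R) e)) A ∧
    Ideal.span {a : A | a ∈ inv (piE (R := R) e) ∧ CoalgebraStruct.counit (R := R) a = 0} =
      Ideal.span ({1 - e} : Set A) := by
  haveI := free_quot (R := R) e he
  exact ⟨fun b hb => comul_mem_range e he hε hb, fun b hb => antipode_mem_inv e he hε hb,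
    etale_inv e he hε,
    faithfullyFlat_inv (piE (R := R) e) (piE_counit (R := R) e) (piE_comul (R := R) e)
      (piE_surj (R := R) e),
    augIdeal_eq e he hε⟩

end MainThm

end Groth.Agent.H9.KT
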