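import Mathlib
import Groth.Prelude.Def_CartDual2
import Groth.Agent.Lib.Helper9.Misc.KT4

/-!
# Étale parts of Cartier duals are translation invariant (helper9)
-/

set_option autoImplicit false
set_option linter.unusedSectionVars false

universe u v w

open TensorProduct

namespace Groth.Agent.H9.CD

open Groth.Agent.H9.KT

section Factor

variable {R : Type u} [CommRing R] {A : Type v} [CommRing A] [HopfAlgebra R A]

/-- the quotient map between quotients by Hopf ideals, as a bialgebra map -/
noncomputable def factorC (I J : Ideal A) [I.IsHopfIdeal R] [J.IsHopfIdeal R] (h : I ≤ J) :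
    A ⧸ I →ₐc[R] A ⧸ J :=
  BialgHom.ofAlgHom (Ideal.Quotient.factorₐ R h)
    (Ideal.Quotient.algHom_ext R rfl)
    (Ideal.Quotient.algHom_ext R (by
      apply AlgHom.ext
      intro a
      show Algebra.TensorProduct.map (Ideal.Quotient.factorₐ R h) (Ideal.Quotient.factorₐ R h)
          (TensorProduct.map (Ideal.Quotient.mkₐ R I).toLinearMap (Ideal.Quotient.mkₐ R I).toLinearMap
            (CoalgebraStruct.comul (R := R) a)) =
        TensorProduct.map (Ideal.Quotient.mkₐ R J).toLinearMap (Ideal.Quotient.mkₐ R J).toLinearMap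
            (CoalgebraStruct.comul (R := R) a)
      generalize CoalgebraStruct.comul (R := R) a = t
      induction t using TensorProduct.induction_on with
      | zero => simp
      | tmul x y => rfl
      | add x y hx hy => simp only [map_add, hx, hy]))

@[simp] lemma factorC_mk (I J : Ideal A) [I.IsHopfIdeal R] [J.IsHopfIdeal R] (h : I ≤ J) (a : A) :
    factorC (R := R) I J h (Ideal.Quotient.mk I a) = Ideal.Quotient.mk J a := rfl

end Factor

section Invariant

variable {R : Type u} [CommRing R] [IsLocalRing R] [IsNoetherianRing R]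
  {B : Type v} [CommRing B] [Bialgebra R B] [Module.Finite R B]
  (e' : B) (he' : IsIdempotentElem e') (hε' : Bialgebra.counitAlgHom R B e' = 1)
  [IsLocalRing (B ⧸ Ideal.span ({1 - e'} : Set B))]
  {E : Type w} [CommRing E] [Algebra R E] [Algebra.FormallyUnramified R E] (T : E →ₐ[R] B)

/-- the counit on the quotient by `1 - e'` -/
noncomputable def epsQ' : (B ⧸ Ideal.span ({1 - e'} : Set B)) →ₐ[R] R :=
  Ideal.Quotient.liftₐ _ (Bialgebra.counitAlgHom R B) (by
    intro a ha
    obtain ⟨c, rfl⟩ := Ideal.mem_span_singleton'.mp ha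
    rw [map_mul, map_sub, map_one, hε', sub_self, mul_zero])

include he' hε' in
/-- elements in the image of an unramified algebra are invariant under translation by the
unit component -/
theorem invariant_of_unramified (y : E) :
    LinearMap.lTensor B (LinearMap.mulLeft R e') (CoalgebraStruct.comul (R := R) (T y)) =
      T y ⊗ₜ[R] e' := by
  let pr : B →ₐ[R] B ⧸ Ideal.span ({1 - e'} : Set B) := Ideal.Quotient.mkₐ R _
  have hprs : Function.Surjective pr := Ideal.Quotient.mkₐ_surjective R _
  haveI : Module.Finite R (B ⧸ Ideal.span ({1 - e'} : Set B)) :=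
    Module.Finite.of_surjective pr.toLinearMap hprs
  let εC : (B ⧸ Ideal.span ({1 - e'} : Set B)) →ₐ[R] R := epsQ' e' hε'
  haveI : IsNoetherianRing (B ⊗[R] (B ⧸ Ideal.span ({1 - e'} : Set B))) :=
    IsNoetherianRing.of_finite R (B ⊗[R] (B ⧸ Ideal.span ({1 - e'} : Set B)))
  have hcomp : εC.comp pr = Bialgebra.counitAlgHom R B := rfl
  have huniq := uniq_princ εC _ _ (ker_nu1 (A := B) εC)
    ((Algebra.TensorProduct.map (AlgHom.id R B) pr).comp ((Bialgebra.comulAlgHom R B).comp T))
    ((Algebra.TensorProduct.includeLeft : B →ₐ[R] B ⊗[R] (B ⧸ Ideal.span ({1 - e'} : Set B))).comp T)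
    (by
      apply AlgHom.ext
      intro z
      show Algebra.TensorProduct.map (AlgHom.id R B) εC
          (Algebra.TensorProduct.map (AlgHom.id R B) pr (CoalgebraStruct.comul (R := R) (T z))) =
        Algebra.TensorProduct.map (AlgHom.id R B) εC (T z ⊗ₜ[R] 1)
      rw [← AlgHom.comp_apply, ← Algebra.TensorProduct.map_comp, hcomp, AlgHom.comp_id,
        map_id_eq_lTensor, Algebra.TensorProduct.map_tmul, map_one]
      exact Coalgebra.lTensor_counit_comul (T z))
  have h1 : (pr.toLinearMap.lTensor B) (CoalgebraStruct.comul (R := R) (T y) - T y ⊗ₜ[R] (1 : B)) =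
      0 := by
    have h2 := AlgHom.congr_fun huniq y
    rw [map_sub, sub_eq_zero, ← map_id_eq_lTensor]
    exact h2
  -- exactness
  have hex := lTensor_exact B (LinearMap.exact_subtype_ker_map pr.toLinearMap) hprs
  obtain ⟨w, hw⟩ := (hex _).mp h1
  have h3 : LinearMap.mulLeft R e' ∘ₗ (LinearMap.ker pr.toLinearMap).subtype = 0 := by
    apply LinearMap.ext
    rintro ⟨b, hb⟩
    have hb' : b ∈ Ideal.span ({1 - e'} : Set B) := Ideal.Quotient.eq_zero_iff_mem.mp hb
    obtain ⟨c, rfl⟩ := Ideal.mem_span_singleton'.mp hb'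
    show e' * (c * (1 - e')) = 0
    have : e' * e' = e' := he'
    linear_combination (-c) * this
  have h4 : LinearMap.lTensor B (LinearMap.mulLeft R e')
      (CoalgebraStruct.comul (R := R) (T y) - T y ⊗ₜ[R] (1 : B)) = 0 := by
    rw [← hw, ← LinearMap.comp_apply, ← LinearMap.lTensor_comp, h3, LinearMap.lTensor_zero,
      LinearMap.zero_apply]
  rw [map_sub, sub_eq_zero] at h4
  rw [h4, LinearMap.lTensor_tmul, LinearMap.mulLeft_apply, mul_one]

end Invariant

end Groth.Agent.H9.CD
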