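import Mathlib
import Groth.Agent.Lib.Helper9.Misc.CD1
import Groth.Agent.Lib.Helper9.Misc.CCX1

/-!
# Functoriality of invariants under bialgebra maps (helper9)
-/

set_option autoImplicit false
set_option linter.unusedSectionVars false

universe u v w

open TensorProduct

namespace Groth.Agent.H9.CD

section QuotMap

variable {R : Type u} [CommRing R] {A : Type v} [CommRing A] [HopfAlgebra R A]
  {B : Type w} [CommRing B] [HopfAlgebra R B]

/-- the map induced on quotients by Hopf ideals by a bialgebra map -/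
noncomputable def quotMapC (ψ : B →ₐc[R] A) (I : Ideal B) (J : Ideal A) [I.IsHopfIdeal R]
    [J.IsHopfIdeal R] (h : I ≤ J.comap (ψ : B →ₐ[R] A)) : B ⧸ I →ₐc[R] A ⧸ J :=
  BialgHom.ofAlgHom (Ideal.quotientMapₐ J (ψ : B →ₐ[R] A) h)
    (Ideal.Quotient.algHom_ext R (by
      apply AlgHom.ext
      intro b
      exact CoalgHomClass.counit_comp_apply ψ b))
    (Ideal.Quotient.algHom_ext R (by
      apply AlgHom.ext
      intro b
      show Algebra.TensorProduct.map (Ideal.quotientMapₐ J (ψ : B →ₐ[R] A) h)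
          (Ideal.quotientMapₐ J (ψ : B →ₐ[R] A) h)
          (TensorProduct.map (Ideal.Quotient.mkₐ R I).toLinearMap (Ideal.Quotient.mkₐ R I).toLinearMap
            (CoalgebraStruct.comul (R := R) b)) =
        TensorProduct.map (Ideal.Quotient.mkₐ R J).toLinearMap (Ideal.Quotient.mkₐ R J).toLinearMap
            (CoalgebraStruct.comul (R := R) (ψ b))
      rw [← CoalgHomClass.map_comp_comul_apply ψ b]
      generalize CoalgebraStruct.comul (R := R) b = t
      induction t using TensorProduct.induction_on with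
      | zero => simp
      | tmul x y => rfl
      | add x y hx hy => simp only [map_add, hx, hy]))

@[simp] lemma quotMapC_mk (ψ : B →ₐc[R] A) (I : Ideal B) (J : Ideal A) [I.IsHopfIdeal R]
    [J.IsHopfIdeal R] (h : I ≤ J.comap (ψ : B →ₐ[R] A)) (b : B) :
    quotMapC ψ I J h (Ideal.Quotient.mk I b) = Ideal.Quotient.mk J (ψ b) := rfl

end QuotMap

section Idem

variable {R : Type u} [CommRing R] [Nontrivial R]
  {B : Type v} [CommRing B] [Bialgebra R B]
  (e' : B) (hε' : Bialgebra.counitAlgHom R B e' = 1)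
  [IsLocalRing (B ⧸ Ideal.span ({1 - e'} : Set B))]

include hε' in
/-- the unit-component idempotent absorbs every idempotent with counit `1` -/
theorem mul_idem_eq (he' : IsIdempotentElem e') (u : B) (hu : IsIdempotentElem u)
    (hεu : Bialgebra.counitAlgHom R B u = 1) : e' * u = e' := by
  have h1 : Ideal.Quotient.mk (Ideal.span ({1 - e'} : Set B)) u = 1 := by
    apply Groth.Agent.H9.CCX.idem_eq_one
      ((epsQ' e' hε' : (B ⧸ Ideal.span ({1 - e'} : Set B)) →ₐ[R] R) :
        (B ⧸ Ideal.span ({1 - e'} : Set B)) →+* R)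
    · rw [← map_mul]
      exact congrArg _ hu
    · exact hεu
  have h2 : 1 - u ∈ Ideal.span ({1 - e'} : Set B) := by
    rw [← Ideal.Quotient.eq_zero_iff_mem, map_sub, map_one, h1, sub_self]
  obtain ⟨c, hc⟩ := Ideal.mem_span_singleton'.mp h2
  have h3 : e' * e' = e' := he'
  linear_combination e' * hc + c * h3

end Idem

section InvMap

variable {R : Type u} [CommRing R]
  {D₁ : Type v} [CommRing D₁] [Bialgebra R D₁] {D₂ : Type w} [CommRing D₂] [Bialgebra R D₂]

/-- invariance under the unit component is transported by bialgebra maps -/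
theorem invariant_map (τ : D₁ →ₐc[R] D₂) (f₁ : D₁) (f₂ : D₂) (h12 : f₂ * τ f₁ = f₂) (x : D₁)
    (hx : LinearMap.lTensor D₁ (LinearMap.mulLeft R f₁) (CoalgebraStruct.comul (R := R) x) =
      x ⊗ₜ[R] f₁) :
    LinearMap.lTensor D₂ (LinearMap.mulLeft R f₂) (CoalgebraStruct.comul (R := R) (τ x)) =
      τ x ⊗ₜ[R] f₂ := by
  let τL : D₁ →ₗ[R] D₂ := (τ : D₁ →ₐ[R] D₂).toLinearMap
  have hΔ : TensorProduct.map τL τL (CoalgebraStruct.comul (R := R) x) =
      CoalgebraStruct.comul (R := R) (τ x) :=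
    CoalgHomClass.map_comp_comul_apply τ x
  have e1 : LinearMap.lTensor D₂ (LinearMap.mulLeft R f₂) ∘ₗ TensorProduct.map τL τL =
      TensorProduct.map τL (LinearMap.mulLeft R f₂ ∘ₗ τL) :=
    TensorProduct.ext' (fun a b => rfl)
  have e2 : TensorProduct.map τL (LinearMap.mulLeft R f₂ ∘ₗ τL) ∘ₗ
      LinearMap.lTensor D₁ (LinearMap.mulLeft R f₁) =
      TensorProduct.map τL (LinearMap.mulLeft R f₂ ∘ₗ τL) := by
    refine TensorProduct.ext' (fun a b => ?_)
    show τ a ⊗ₜ[R] (f₂ * τ (f₁ * b)) = τ a ⊗ₜ[R] (f₂ * τ b)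
    rw [map_mul, ← mul_assoc, h12]
  calc LinearMap.lTensor D₂ (LinearMap.mulLeft R f₂) (CoalgebraStruct.comul (R := R) (τ x))
      = (LinearMap.lTensor D₂ (LinearMap.mulLeft R f₂) ∘ₗ TensorProduct.map τL τL)
          (CoalgebraStruct.comul (R := R) x) := by rw [LinearMap.comp_apply, hΔ]
    _ = TensorProduct.map τL (LinearMap.mulLeft R f₂ ∘ₗ τL) (CoalgebraStruct.comul (R := R) x) := by
        rw [e1]
    _ = (TensorProduct.map τL (LinearMap.mulLeft R f₂ ∘ₗ τL) ∘ₗ
          LinearMap.lTensor D₁ (LinearMap.mulLeft R f₁)) (CoalgebraStruct.comul (R := R) x) := by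
        rw [e2]
    _ = TensorProduct.map τL (LinearMap.mulLeft R f₂ ∘ₗ τL) (x ⊗ₜ[R] f₁) := by
        rw [LinearMap.comp_apply, hx]
    _ = τ x ⊗ₜ[R] (f₂ * τ f₁) := rfl
    _ = τ x ⊗ₜ[R] f₂ := by rw [h12]

end InvMap

end Groth.Agent.H9.CD
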