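import Mathlib
import Groth.Agent.Lib.Helper9.Misc.KT1

/-!
# Integrals on finite projective commutative Hopf algebras (helper9)

Generalisation of `KT1.exists_integrals` from finite free to finite projective Hopf algebras:
the trace is taken through a splitting `p ∘ i = id` of a free module `Fin n → R` onto `A`.
-/

set_option autoImplicit false
set_option linter.unusedSectionVars false

universe u v

open TensorProduct

namespace Groth.Agent.H9.KT

section ProjIntegral

variable {R : Type u} [CommRing R] {A : Type v} [CommRing A] [HopfAlgebra R A]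
  [Module.Finite R A]
  {n : ℕ} (p : (Fin n → R) →ₗ[R] A) (i : A →ₗ[R] (Fin n → R))

/-- the functional `x ↦ tr (i ∘ Rf f ∘ L_x ∘ p)` -/
noncomputable def PP (f : Module.Dual R A) : Module.Dual R A :=
  (LinearMap.trace R (Fin n → R)) ∘ₗ (LinearMap.lcomp R (Fin n → R) p) ∘ₗ
    (LinearMap.llcomp R A A (Fin n → R) (i ∘ₗ Rf f)) ∘ₗ (LinearMap.mul R A)

lemma PP_apply (f : Module.Dual R A) (x : A) :
    PP p i f x = LinearMap.trace R (Fin n → R)
      (((i ∘ₗ Rf f) ∘ₗ LinearMap.mulLeft R x) ∘ₗ p) := rfl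

variable (hpi : p ∘ₗ i = LinearMap.id)

include hpi in
theorem isLeftInt_PP (f : Module.Dual R A) : IsLeftInt (PP p i f) := by
  intro x
  set Ψ : A ⊗[R] A →ₗ[A] A ⊗[R] A := (Rf f).baseChange A with hΨ
  let pA : A ⊗[R] (Fin n → R) →ₗ[A] A ⊗[R] A := p.baseChange A
  let iA : A ⊗[R] A →ₗ[A] A ⊗[R] (Fin n → R) := i.baseChange A
  have hpiA : ∀ t, pA (iA t) = t := by
    intro t
    have : pA ∘ₗ iA = LinearMap.id := by
      rw [← LinearMap.baseChange_comp, hpi, LinearMap.baseChange_id]
    exact LinearMap.congr_fun this t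
  let Φ : A ⊗[R] A →ₗ[A] A :=
    (LinearMap.trace A (A ⊗[R] (Fin n → R))) ∘ₗ (LinearMap.lcomp A (A ⊗[R] (Fin n → R)) pA) ∘ₗ
      (LinearMap.llcomp A (A ⊗[R] A) (A ⊗[R] A) (A ⊗[R] (Fin n → R)) (iA ∘ₗ Ψ)) ∘ₗ
      (LinearMap.mul A (A ⊗[R] A))
  have hΦ : ∀ t, Φ t = LinearMap.trace A (A ⊗[R] (Fin n → R))
      (((iA ∘ₗ Ψ) ∘ₗ LinearMap.mulLeft A t) ∘ₗ pA) := fun t => rfl
  have hsmul : ∀ (c : A) (w : A ⊗[R] A), (c ⊗ₜ[R] (1 : A)) * w = c • w := by
    intro c w
    rw [Algebra.smul_def, Algebra.TensorProduct.algebraMap_apply]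
    rfl
  -- on pure tensors
  have h1 : ∀ u v : A, Φ (u ⊗ₜ[R] v) = PP p i f v • u := by
    intro u v
    have e1 : LinearMap.mulLeft A (u ⊗ₜ[R] v) = u • (LinearMap.mulLeft R v).baseChange A := by
      apply TensorProduct.AlgebraTensorModule.ext
      intro c y
      simp [Algebra.TensorProduct.tmul_mul_tmul, TensorProduct.smul_tmul']
    have e1' : ((iA ∘ₗ Ψ) ∘ₗ LinearMap.mulLeft A (u ⊗ₜ[R] v)) ∘ₗ pA =
        u • ((((i ∘ₗ Rf f) ∘ₗ LinearMap.mulLeft R v) ∘ₗ p).baseChange A) := by
      rw [e1, LinearMap.comp_smul, LinearMap.smul_comp]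
      congr 1
      simp only [LinearMap.baseChange_comp]
      rfl
    rw [hΦ, e1', map_smul, LinearMap.trace_baseChange, ← PP_apply]
    simp [Algebra.smul_def, mul_comm]
  have h2 : ∀ t : A ⊗[R] A, Φ t = TensorProduct.rid R A ((PP p i f).lTensor A t) := by
    intro t
    induction t using TensorProduct.induction_on with
    | zero => simp
    | tmul u v => rw [h1]; simp
    | add x y hx hy => rw [map_add, map_add, map_add, hx, hy]
  -- `θ` commutes with `Ψ`
  have hcomm : ∀ s : A ⊗[R] A, theta (R := R) (Ψ s) = Ψ (theta (R := R) s) := by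
    intro s
    induction s using TensorProduct.induction_on with
    | zero => simp
    | tmul c y =>
      rw [hΨ, LinearMap.baseChange_tmul, theta_tmul, theta_tmul, comul_Rf, hsmul, hsmul, map_smul,
        LinearMap.baseChange_eq_ltensor]
    | add x y hx hy => rw [map_add, map_add, map_add, map_add, hx, hy]
  have h3 : Φ (CoalgebraStruct.comul (R := R) x) = Φ ((1 : A) ⊗ₜ[R] x) := by
    rw [hΦ, hΦ]
    have e2 : ∀ t, Ψ (CoalgebraStruct.comul (R := R) x * t) =
        theta (R := R) (Ψ (((1 : A) ⊗ₜ[R] x) * (thetaEquiv (R := R) (A := A)).symm t)) := by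
      intro t
      obtain ⟨s, rfl⟩ := (thetaEquiv (R := R) (A := A)).surjective t
      rw [LinearEquiv.symm_apply_apply, hcomm, thetaEquiv_apply]
      congr 1
      rw [map_mul, theta_tmul, ← Algebra.TensorProduct.one_def, one_mul]
    let a : Module.End A (A ⊗[R] (Fin n → R)) :=
      iA ∘ₗ (theta (R := R) (A := A)).toLinearMap ∘ₗ pA
    let b : Module.End A (A ⊗[R] (Fin n → R)) :=
      iA ∘ₗ (Ψ ∘ₗ LinearMap.mulLeft A ((1 : A) ⊗ₜ[R] x)) ∘ₗ
        (thetaEquiv (R := R) (A := A)).symm.toLinearMap ∘ₗ pA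
    have hab : ((iA ∘ₗ Ψ) ∘ₗ LinearMap.mulLeft A (CoalgebraStruct.comul (R := R) x)) ∘ₗ pA =
        a * b := by
      apply LinearMap.ext
      intro t
      show iA (Ψ (CoalgebraStruct.comul (R := R) x * pA t)) =
        iA (theta (R := R) (pA (iA (Ψ (((1 : A) ⊗ₜ[R] x) *
          (thetaEquiv (R := R) (A := A)).symm (pA t))))))
      rw [hpiA, e2]
    have hba : ((iA ∘ₗ Ψ) ∘ₗ LinearMap.mulLeft A ((1 : A) ⊗ₜ[R] x)) ∘ₗ pA = b * a := by
      apply LinearMap.ext
      intro t
      show iA (Ψ (((1 : A) ⊗ₜ[R] x) * pA t)) =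
        iA (Ψ (((1 : A) ⊗ₜ[R] x) * (thetaEquiv (R := R) (A := A)).symm
          (pA (iA (theta (R := R) (pA t))))))
      rw [hpiA, ← thetaEquiv_apply, LinearEquiv.symm_apply_apply]
    rw [hab, hba, LinearMap.trace_mul_comm]
  rw [show Rf (PP p i f) x = Φ (CoalgebraStruct.comul (R := R) x) from (h2 _).symm, h3, h1]

include hpi in
theorem sum_PP_coord (x : A) :
    ∑ k, PP p i (LinearMap.proj k ∘ₗ i)
        (x * HopfAlgebraStruct.antipode R (p (Pi.single k (1 : R)))) =
      CoalgebraStruct.counit (R := R) x := by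
  classical
  let bF : Module.Basis (Fin n) R (Fin n → R) := Pi.basisFun R (Fin n)
  let bb := bF.tensorProduct bF
  let β : Fin n → Module.Dual R A := fun k => LinearMap.proj k ∘ₗ i
  let V : A ⊗[R] A →ₗ[R] A := LinearMap.mul' R A ∘ₗ
    TensorProduct.map LinearMap.id (LinearMap.mulLeft R x ∘ₗ HopfAlgebraStruct.antipode R (A := A))
  have hV : ∀ c d, V (c ⊗ₜ[R] d) = c * (x * HopfAlgebraStruct.antipode R d) := by
    intro c d
    simp [V]
  have hp : ∀ a, p (i a) = a := fun a => LinearMap.congr_fun hpi a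
  have key : ∀ (t : A ⊗[R] A) (k j : Fin n),
      (i (TensorProduct.rid R A ((β k).lTensor A t))) j =
        bb.repr (TensorProduct.map i i t) (j, k) := by
    intro t k j
    induction t using TensorProduct.induction_on with
    | zero => simp
    | tmul c d =>
      simp [bb, bF, β, Module.Basis.tensorProduct_repr_tmul_apply, mul_comm]
    | add x y hx hy => simp only [map_add, Finsupp.add_apply, Pi.add_apply, hx, hy]
  have h1 : ∀ k, PP p i (β k) (x * HopfAlgebraStruct.antipode R (p (Pi.single k (1 : R)))) =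
      ∑ j, bb.repr (TensorProduct.map i i (CoalgebraStruct.comul (R := R)
        (V (TensorProduct.map p p (bb (j, k)))))) (j, k) := by
    intro k
    rw [PP_apply, trace_eq_sum bF]
    refine Finset.sum_congr rfl fun j _ => ?_
    have e0 : bF.repr ((((i ∘ₗ Rf (β k)) ∘ₗ LinearMap.mulLeft R
        (x * HopfAlgebraStruct.antipode R (p (Pi.single k (1 : R))))) ∘ₗ p) (bF j)) j =
        (i (TensorProduct.rid R A ((β k).lTensor A (CoalgebraStruct.comul (R := R)
          ((x * HopfAlgebraStruct.antipode R (p (Pi.single k (1 : R)))) * p (bF j)))))) j := by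
      simp only [bF, Pi.basisFun_repr]
      rfl
    rw [e0, key]
    congr 4
    rw [Module.Basis.tensorProduct_apply, TensorProduct.map_tmul, hV]
    simp only [bF, Pi.basisFun_apply]
    ring
  rw [Finset.sum_congr rfl (fun k _ => h1 k), Finset.sum_comm]
  let U₁ : (Fin n → R) →ₗ[R] (Fin n → R) ⊗[R] (Fin n → R) :=
    TensorProduct.map i i ∘ₗ CoalgebraStruct.comul (R := R) (A := A) ∘ₗ p
  let U₂ : (Fin n → R) ⊗[R] (Fin n → R) →ₗ[R] (Fin n → R) := i ∘ₗ V ∘ₗ TensorProduct.map p p
  have h2 : ∑ j, ∑ k, bb.repr (TensorProduct.map i i (CoalgebraStruct.comul (R := R)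
        (V (TensorProduct.map p p (bb (j, k)))))) (j, k) =
      LinearMap.trace R _ (U₁ ∘ₗ U₂) := by
    rw [trace_eq_sum bb, Fintype.sum_prod_type]
    refine Finset.sum_congr rfl fun j _ => Finset.sum_congr rfl fun k _ => ?_
    show _ = bb.repr (TensorProduct.map i i (CoalgebraStruct.comul (R := R)
      (p (i (V (TensorProduct.map p p (bb (j, k)))))))) (j, k)
    rw [hp]
  rw [h2, LinearMap.trace_comp_comm']
  have h3 : V ∘ₗ CoalgebraStruct.comul (R := R) (A := A) =
      (CoalgebraStruct.counit (R := R) (A := A)).smulRight x := by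
    apply LinearMap.ext
    intro a
    have h4 : ∀ t : A ⊗[R] A, V t = x * LinearMap.mul' R A
        ((HopfAlgebraStruct.antipode R (A := A)).lTensor A t) := by
      intro t
      induction t using TensorProduct.induction_on with
      | zero => simp
      | tmul c d => rw [hV]; simp; ring
      | add x y hx hy => rw [map_add, map_add, map_add, hx, hy, mul_add]
    rw [LinearMap.comp_apply, h4, HopfAlgebra.mul_antipode_lTensor_comul_apply,
      LinearMap.smulRight_apply, Algebra.smul_def, mul_comm]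
  have h4 : U₂ ∘ₗ U₁ = ((CoalgebraStruct.counit (R := R) (A := A)) ∘ₗ p).smulRight (i x) := by
    apply LinearMap.ext
    intro v
    have hpp : ∀ t : A ⊗[R] A, TensorProduct.map p p (TensorProduct.map i i t) = t := by
      intro t
      rw [← LinearMap.comp_apply, ← TensorProduct.map_comp, hpi, TensorProduct.map_id,
        LinearMap.id_apply]
    show i (V (TensorProduct.map p p (TensorProduct.map i i
      (CoalgebraStruct.comul (R := R) (p v))))) = _
    rw [hpp, ← LinearMap.comp_apply (f := V), h3]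
    simp [LinearMap.smulRight_apply]
  rw [h4, LinearMap.trace_smulRight, LinearMap.comp_apply, hp]

end ProjIntegral

section Exists

variable {R : Type u} [CommRing R] {A : Type v} [CommRing A] [HopfAlgebra R A]
  [Module.Finite R A] [Module.Projective R A]

/-- **Existence of enough integrals** on a finite projective commutative Hopf algebra. -/
theorem exists_integrals' :
    ∃ (ι : Type) (_ : Fintype ι) (lam : ι → Module.Dual R A) (Lam : ι → A),
      (∀ i, IsLeftInt (lam i)) ∧
        ∀ c : A, ∑ i, lam i (c * Lam i) = CoalgebraStruct.counit (R := R) c := by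
  obtain ⟨n, p, i, -, -, hpi⟩ := Module.Finite.exists_comp_eq_id_of_projective R A
  exact ⟨Fin n, inferInstance, fun k => PP p i (LinearMap.proj k ∘ₗ i),
    fun k => HopfAlgebraStruct.antipode R (p (Pi.single k (1 : R))),
    fun k => isLeftInt_PP p i hpi _, fun c => sum_PP_coord p i hpi c⟩

end Exists

end Groth.Agent.H9.KT
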