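import Mathlib
import Groth.Agent.Lib.Helper9.Misc.KT2
import Groth.Agent.Lib.Helper9.Misc.KT7

/-!
# Kreimer–Takeuchi for finite projective quotients (helper9)

Same statements as `KT2` (section `Main`), with `C` finite projective instead of finite free,
plus the kernel formula `ker π = A · (inv π)⁺`.
-/

set_option autoImplicit false
set_option linter.unusedSectionVars false

universe u v w

open TensorProduct

namespace Groth.Agent.H9.KT

section MainP

variable {R : Type u} [CommRing R] {A : Type v} [CommRing A] [HopfAlgebra R A]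
  {C : Type w} [CommRing C] [HopfAlgebra R C] (π : A →ₐ[R] C)
  (hε : ∀ a : A, CoalgebraStruct.counit (R := R) (π a) = CoalgebraStruct.counit (R := R) a)
  (hΔ : ∀ a : A, CoalgebraStruct.comul (R := R) (π a) =
    TensorProduct.map π.toLinearMap π.toLinearMap (CoalgebraStruct.comul (R := R) a))
  (hπ : Function.Surjective π)
  [Module.Projective R C] [Module.Finite R C]

include hε hπ in
/-- reconstruction: `a = Σ_i (id ⊗ λ_i)(can(t_i) ρ(a))` -/
theorem exists_recon' :
    ∃ (ι : Type) (_ : Fintype ι) (lam : ι → Module.Dual R C) (t : ι → A ⊗[R] A),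
      (∀ i, IsLeftInt (lam i)) ∧
        ∀ a : A, ∑ i, sl (lam i) (canmap π (t i) * rho π a) = a := by
  obtain ⟨ι, hι, lam, Lam, hlam, hsum⟩ := exists_integrals' (R := R) (A := C)
  choose c hc using fun i => hπ (Lam i)
  refine ⟨ι, hι, lam, fun i => TensorProduct.map (HopfAlgebraStruct.antipode R (A := A))
    LinearMap.id (CoalgebraStruct.comul (R := R) (c i)), hlam, fun a => ?_⟩
  have h1 : ∀ i, sl (lam i) (canmap π (TensorProduct.map (HopfAlgebraStruct.antipode R (A := A))
      LinearMap.id (CoalgebraStruct.comul (R := R) (c i))) * rho π a) =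
      sl (lam i ∘ₗ LinearMap.mulLeft R (Lam i)) (rho π a) := by
    intro i
    rw [canmap_galW, hc, sl_mul_right]
  rw [Finset.sum_congr rfl (fun i _ => h1 i)]
  have h2 : ∀ w : A ⊗[R] C, ∑ i, sl (lam i ∘ₗ LinearMap.mulLeft R (Lam i)) w =
      sl (CoalgebraStruct.counit (R := R) (A := C)) w := by
    intro w
    induction w using TensorProduct.induction_on with
    | zero => simp
    | tmul x d =>
      simp only [sl_tmul, LinearMap.comp_apply, LinearMap.mulLeft_apply]
      rw [← Finset.sum_smul]
      congr 1
      rw [← hsum d]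
      exact Finset.sum_congr rfl fun i _ => by rw [mul_comm]
    | add y z hy hz => simp only [map_add, Finset.sum_add_distrib, hy, hz]
  rw [h2, sl_counit_rho π hε]

variable [Algebra.IsIntegral R A]

include hε hΔ hπ in
/-- **The retraction.** -/
theorem exists_retraction' :
    ∃ G : A ⊗[R] C →ₗ[R] A, (∀ x : A, G (x ⊗ₜ[R] (1 : C)) = x) ∧ ∀ x : A, G (rho π x) ∈ inv π := by
  classical
  obtain ⟨ι, hι, lam, t, hlam, hrec⟩ := exists_recon' π hε hπ
  let gen : ι × A → inv π := fun p => ⟨tr π (lam p.1) p.2, tr_mem π hΔ (hlam p.1) p.2⟩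
  have hspan : Ideal.span (Set.range gen) = ⊤ := by
    by_contra hne
    obtain ⟨P, hP, hle⟩ := Ideal.exists_le_maximal _ hne
    haveI : Algebra.IsIntegral (inv π) A := Algebra.IsIntegral.tower_top (R := R)
    obtain ⟨Q, hQ, hQP⟩ := Ideal.exists_ideal_over_maximal_of_isIntegral (S := A) P
      (by
        intro x hx
        have : (x : A) = 0 := hx
        have hx0 : x = 0 := Subtype.ext this
        rw [hx0]; exact zero_mem _)
    have hmem : ∀ (i : ι) (y : A), tr π (lam i) y ∈ Q := by
      intro i y
      have h1 : gen (i, y) ∈ P := hle (Ideal.subset_span ⟨(i, y), rfl⟩)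
      rw [← hQP] at h1
      exact h1
    have hF : ∀ (i : ι) (s : A ⊗[R] A) (a : A), sl (lam i) (canmap π s * rho π a) ∈ Q := by
      intro i s a
      induction s using TensorProduct.induction_on with
      | zero => simp
      | tmul x y => rw [sl_canmap_tmul]; exact Q.mul_mem_left _ (hmem i _)
      | add y z hy hz => rw [map_add, add_mul, map_add]; exact Q.add_mem hy hz
    have h1 : (1 : A) ∈ Q := by
      rw [← hrec 1]
      exact Q.sum_mem fun i _ => hF i _ _
    exact hQ.ne_top ((Ideal.eq_top_iff_one _).mpr h1)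
  have h1 : (1 : inv π) ∈ Ideal.span (Set.range gen) := by rw [hspan]; trivial
  rw [Ideal.span, Finsupp.mem_span_range_iff_exists_finsupp] at h1
  obtain ⟨cf, hcf⟩ := h1
  let G : A ⊗[R] C →ₗ[R] A := ∑ p ∈ cf.support,
    (LinearMap.mulLeft R ((cf p : inv π) : A)) ∘ₗ sl (lam p.1) ∘ₗ LinearMap.mulLeft R (rho π p.2)
  have hG : ∀ w, G w = ∑ p ∈ cf.support, ((cf p : inv π) : A) * sl (lam p.1) (rho π p.2 * w) := by
    intro w
    simp [G, LinearMap.sum_apply]
  have hcf' : ∑ p ∈ cf.support, ((cf p : inv π) : A) * tr π (lam p.1) p.2 = 1 := by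
    have := congrArg (fun z : inv π => (z : A)) hcf
    simp only [Finsupp.sum, smul_eq_mul] at this
    push_cast at this
    exact this
  refine ⟨G, fun x => ?_, fun x => ?_⟩
  · rw [hG]
    have h2 : ∀ p : ι × A, sl (lam p.1) (rho π p.2 * (x ⊗ₜ[R] (1 : C))) =
        x * tr π (lam p.1) p.2 := by
      intro p
      rw [mul_comm, sl_mul_left, tr_apply]
    rw [Finset.sum_congr rfl (fun p _ => by rw [h2 p, mul_left_comm]), ← Finset.mul_sum, hcf',
      mul_one]
  · rw [hG]
    refine Subalgebra.sum_mem _ fun p _ => ?_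
    refine Subalgebra.mul_mem _ (cf p).2 ?_
    rw [← map_mul]
    exact tr_mem π hΔ (hlam p.1) _

include hε hΔ hπ in
/-- `A` is projective over the invariants -/
theorem projective_inv' : Module.Projective (inv π) A := by
  classical
  obtain ⟨ι, hι, lam, t, hlam, hrec⟩ := exists_recon' π hε hπ
  choose S hS using fun i => TensorProduct.exists_finset (t i)
  -- `y ↦ tr (y * ·)` as an `inv`-linear map
  let trB : ι → A → A →ₗ[inv π] inv π := fun i y =>
    { toFun := fun a => ⟨tr π (lam i) (y * a), tr_mem π hΔ (hlam i) _⟩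
      map_add' := fun a b => Subtype.ext (by simp [mul_add])
      map_smul' := fun b a => Subtype.ext (by
        show tr π (lam i) (y * ((b : A) * a)) = (b : A) * tr π (lam i) (y * a)
        rw [mul_left_comm, tr_mul_of_mem π _ b.2]) }
  rw [Module.projective_def']
  refine ⟨∑ i, ∑ q ∈ S i, (Finsupp.lsingle q.1 : inv π →ₗ[inv π] A →₀ inv π) ∘ₗ trB i q.2, ?_⟩
  apply LinearMap.ext
  intro a
  simp only [LinearMap.comp_apply, LinearMap.sum_apply, map_sum, Finsupp.lsingle_apply,
    Finsupp.linearCombination_single, id_eq, LinearMap.id_apply]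
  conv_rhs => rw [← hrec a]
  refine Finset.sum_congr rfl fun i _ => ?_
  rw [hS i, map_sum, Finset.sum_mul, map_sum]
  refine Finset.sum_congr rfl fun q _ => ?_
  rw [sl_canmap_tmul, Subalgebra.smul_def, mul_comm]
  rfl

include hε hΔ hπ in
/-- `A` is faithfully flat over the invariants -/
theorem faithfullyFlat_inv' : Module.FaithfullyFlat (inv π) A := by
  haveI := projective_inv' π hε hΔ hπ
  haveI : Algebra.IsIntegral (inv π) A := Algebra.IsIntegral.tower_top (R := R)
  exact Module.FaithfullyFlat.of_comap_surjective (Algebra.IsIntegral.comap_surjective _ _)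

end MainP
section Ker

variable {R : Type u} [CommRing R] {A : Type v} [CommRing A] [HopfAlgebra R A]
  {C : Type w} [CommRing C] [HopfAlgebra R C] (π : A →ₐ[R] C)

lemma counit_sl_lTensor (lam : Module.Dual R C) (t : A ⊗[R] A) :
    CoalgebraStruct.counit (R := R) (sl lam (π.toLinearMap.lTensor A t)) =
      lam (π (TensorProduct.lid R A ((CoalgebraStruct.counit (R := R) (A := A)).rTensor A t))) := by
  induction t using TensorProduct.induction_on with
  | zero => simp
  | tmul x y =>
    rw [LinearMap.lTensor_tmul, sl_tmul, map_smul, LinearMap.rTensor_tmul, TensorProduct.lid_tmul,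
      map_smul, map_smul, smul_eq_mul, smul_eq_mul, mul_comm]
    rfl
  | add x y hx hy => simp only [map_add, hx, hy]

lemma counit_tr (lam : Module.Dual R C) (b : A) :
    CoalgebraStruct.counit (R := R) (tr π lam b) = lam (π b) := by
  rw [tr_apply, rho_apply, counit_sl_lTensor, Coalgebra.rTensor_counit_comul,
    TensorProduct.lid_tmul, one_smul]

variable (hε : ∀ a : A, CoalgebraStruct.counit (R := R) (π a) = CoalgebraStruct.counit (R := R) a)
  (hΔ : ∀ a : A, CoalgebraStruct.comul (R := R) (π a) =
    TensorProduct.map π.toLinearMap π.toLinearMap (CoalgebraStruct.comul (R := R) a))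
  (hπ : Function.Surjective π)
  [Module.Projective R C] [Module.Finite R C]

include hε hΔ hπ in
/-- the kernel of `π` is generated by the augmentation ideal of the invariants -/
theorem ker_le_span {a : A} (ha : π a = 0) :
    a ∈ Ideal.span {k : A | k ∈ inv π ∧ CoalgebraStruct.counit (R := R) k = 0} := by
  classical
  obtain ⟨ι, hι, lam, t, hlam, hrec⟩ := exists_recon' π hε hπ
  rw [← hrec a]
  refine Ideal.sum_mem _ fun i _ => ?_
  have hF : ∀ s : A ⊗[R] A, sl (lam i) (canmap π s * rho π a) ∈
      Ideal.span {k : A | k ∈ inv π ∧ CoalgebraStruct.counit (R := R) k = 0} := by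
    intro s
    induction s using TensorProduct.induction_on with
    | zero => simp
    | tmul x y =>
      rw [sl_canmap_tmul]
      refine Ideal.mul_mem_left _ _ (Ideal.subset_span ⟨tr_mem π hΔ (hlam i) _, ?_⟩)
      rw [counit_tr, map_mul, ha, mul_zero, map_zero]
    | add y z hy hz => rw [map_add, add_mul, map_add]; exact Ideal.add_mem _ hy hz
  exact hF _

end Ker

end Groth.Agent.H9.KT
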