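import Mathlib

/-!
# Faithfully flat algebra maps between finite flat algebras split (helper9)

If `f : B → A` is a faithfully flat map of `R`-algebras and `A` is `R`-flat, then `A / f(B)` is
`R`-flat (purity of `f`).  Over a Noetherian ring, with `A` finite, `f` has an `R`-linear retraction.
-/

set_option autoImplicit false
set_option linter.unusedSectionVars false

universe u v w

open TensorProduct

namespace Groth.Agent.H9.Pure

section SmulTop

variable {R : Type u} [CommRing R] (I : Ideal R) (X : Type v) [AddCommGroup X] [Module R X]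

lemma lid_rTensor_mem (w : I ⊗[R] X) :
    TensorProduct.lid R X (LinearMap.rTensor X I.subtype w) ∈ I • (⊤ : Submodule R X) := by
  induction w using TensorProduct.induction_on with
  | zero => simp
  | tmul a x =>
    rw [LinearMap.rTensor_tmul, TensorProduct.lid_tmul]
    exact Submodule.smul_mem_smul a.2 Submodule.mem_top
  | add y z hy hz => rw [map_add, map_add]; exact Submodule.add_mem _ hy hz

lemma exists_rTensor_eq {x : X} (hx : x ∈ I • (⊤ : Submodule R X)) :
    ∃ v : I ⊗[R] X, TensorProduct.lid R X (LinearMap.rTensor X I.subtype v) = x := by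
  refine Submodule.smul_induction_on hx (fun r hr m _ => ⟨(⟨r, hr⟩ : I) ⊗ₜ[R] m, ?_⟩) ?_
  · rw [LinearMap.rTensor_tmul, TensorProduct.lid_tmul]
    rfl
  · rintro x y ⟨v, hv⟩ ⟨v', hv'⟩
    exact ⟨v + v', by rw [map_add, map_add, hv, hv']⟩

end SmulTop

section Main

variable {R : Type u} [CommRing R] {B : Type v} [CommRing B] [Algebra R B]
  {A : Type w} [CommRing A] [Algebra R A]

lemma lid_lTensor (φ : B →ₗ[R] A) (u : R ⊗[R] B) :
    TensorProduct.lid R A (φ.lTensor R u) = φ (TensorProduct.lid R B u) := by
  induction u using TensorProduct.induction_on with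
  | zero => simp
  | tmul r b => simp
  | add x y hx hy => simp only [map_add, hx, hy]

/-- purity: the cokernel of a faithfully flat algebra map into a flat algebra is flat -/
theorem flat_quotient_range (f : B →ₐ[R] A) (hf : f.toRingHom.FaithfullyFlat) [Module.Flat R A] :
    Module.Flat R (A ⧸ LinearMap.range f.toLinearMap) := by
  letI : Algebra B A := f.toRingHom.toAlgebra
  haveI : IsScalarTower R B A := IsScalarTower.of_algebraMap_eq (fun r => (f.commutes r).symm)
  haveI : Module.FaithfullyFlat B A := hf
  set φ : B →ₗ[R] A := f.toLinearMap with hφ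
  set N := LinearMap.range φ with hN
  rw [Module.Flat.iff_rTensor_injective']
  intro I
  rw [injective_iff_map_eq_zero]
  intro z hz
  obtain ⟨w, rfl⟩ := LinearMap.lTensor_surjective I (Submodule.mkQ_surjective N) z
  have h1 : (N.mkQ.lTensor R) (LinearMap.rTensor A I.subtype w) = 0 := by
    rw [← LinearMap.comp_apply, LinearMap.lTensor_comp_rTensor, ← LinearMap.rTensor_comp_lTensor,
      LinearMap.comp_apply]
    exact hz
  have hex : Function.Exact (φ.lTensor R) (N.mkQ.lTensor R) :=
    lTensor_exact R (LinearMap.exact_map_mkQ_range φ) (Submodule.mkQ_surjective N)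
  obtain ⟨u, hu⟩ := (hex _).mp h1
  have h2 : f (TensorProduct.lid R B u) ∈ I • (⊤ : Submodule R A) := by
    have e : f (TensorProduct.lid R B u) = TensorProduct.lid R A (φ.lTensor R u) :=
      (lid_lTensor φ u).symm
    rw [e, hu]
    exact lid_rTensor_mem I A w
  have h3 : TensorProduct.lid R B u ∈ I • (⊤ : Submodule R B) := by
    rw [Ideal.smul_top_eq_map] at h2 ⊢
    rw [Submodule.restrictScalars_mem] at h2 ⊢
    rw [← Ideal.comap_map_eq_self_of_faithfullyFlat (B := A) (I.map (algebraMap R B)),
      Ideal.mem_comap, Ideal.map_map, ← IsScalarTower.algebraMap_eq]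
    exact h2
  obtain ⟨v, hv⟩ := exists_rTensor_eq I B h3
  have huv : LinearMap.rTensor B I.subtype v = u := (TensorProduct.lid R B).injective hv
  have h4 : LinearMap.rTensor A I.subtype (φ.lTensor I v) = LinearMap.rTensor A I.subtype w := by
    rw [← LinearMap.comp_apply, LinearMap.rTensor_comp_lTensor, ← LinearMap.lTensor_comp_rTensor,
      LinearMap.comp_apply, huv, hu]
  have h5 : φ.lTensor I v = w :=
    Module.Flat.rTensor_preserves_injective_linearMap I.subtype Subtype.val_injective h4
  rw [← h5, ← LinearMap.comp_apply, ← LinearMap.lTensor_comp, LinearMap.range_mkQ_comp,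
    LinearMap.lTensor_zero, LinearMap.zero_apply]

/-- a faithfully flat algebra map into a finite flat algebra over a Noetherian ring has a linear
retraction -/
theorem exists_linear_retraction [IsNoetherianRing R] [Module.Finite R A] [Module.Flat R A]
    (f : B →ₐ[R] A) (hf : f.toRingHom.FaithfullyFlat) :
    ∃ s : A →ₗ[R] B, ∀ b, s (f b) = b := by
  have hinj : Function.Injective f.toLinearMap := hf.injective
  set φ : B →ₗ[R] A := f.toLinearMap with hφ
  set N := LinearMap.range φ with hN
  haveI : Module.Flat R (A ⧸ N) := flat_quotient_range f hf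
  haveI : Module.FinitePresentation R (A ⧸ N) := Module.finitePresentation_of_finite R _
  haveI : Module.Projective R (A ⧸ N) := Module.Flat.projective_of_finitePresentation
  obtain ⟨σ, hσ⟩ := Module.projective_lifting_property N.mkQ LinearMap.id
    (Submodule.mkQ_surjective N)
  have hσ' : ∀ t, N.mkQ (σ t) = t := fun t => LinearMap.congr_fun hσ t
  let e := LinearEquiv.ofInjective φ hinj
  let r : A →ₗ[R] N := LinearMap.codRestrict N (LinearMap.id - σ ∘ₗ N.mkQ) (by
    intro a
    have h : ((LinearMap.id : A →ₗ[R] A) - σ ∘ₗ N.mkQ) a ∈ LinearMap.ker N.mkQ := by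
      rw [LinearMap.mem_ker, LinearMap.sub_apply, map_sub,
        LinearMap.comp_apply, hσ', LinearMap.id_apply, sub_self]
    rwa [Submodule.ker_mkQ] at h)
  refine ⟨e.symm.toLinearMap ∘ₗ r, fun b => ?_⟩
  apply e.injective
  rw [LinearMap.comp_apply, LinearEquiv.coe_coe, LinearEquiv.apply_symm_apply]
  apply Subtype.ext
  show f b - σ (N.mkQ (f b)) = f b
  have h0 : N.mkQ (f b) = 0 := (Submodule.Quotient.mk_eq_zero N).mpr ⟨b, rfl⟩
  rw [h0, map_zero, sub_zero]

end Main

end Groth.Agent.H9.Pure
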