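import Mathlib
import Groth.Prelude.Def_CartDual2
import Groth.Agent.Lib.Helper9.Misc.KT8
import Groth.Agent.Lib.Helper9.Misc.PureSplit

/-!
# Cartier duality is exact on finite flat commutative group schemes (helper9)
-/

set_option autoImplicit false
set_option linter.unusedSectionVars false

universe u

open TensorProduct

namespace Groth.Agent.H9.CD

open Groth.Agent.H9.KT

section Ev

variable (R : Type u) [CommRing R] {A : Type u} [CommRing A] [HopfAlgebra R A]

/-- evaluation at `c` as a linear form on the dual -/
noncomputable def evc (c : A) : CartDual.D R A →ₗ[R] R :=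
  (LinearMap.applyₗ c) ∘ₗ (CartDual.toDual R A).toLinearMap

@[simp] lemma evc_apply (c : A) (x : CartDual.D R A) : evc R c x = x c := rfl

end Ev

section Exact

variable (R : Type u) [CommRing R] [IsNoetherianRing R]
    (A' A A'' : Type u) [CommRing A'] [HopfAlgebra R A'] [Coalgebra.IsCocomm R A']
    [Module.Finite R A'] [Module.Projective R A'] [CommRing A] [HopfAlgebra R A]
    [Coalgebra.IsCocomm R A] [Module.Finite R A] [Module.Projective R A] [CommRing A'']
    [HopfAlgebra R A''] [Coalgebra.IsCocomm R A''] [Module.Finite R A'']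
    [Module.Projective R A''] (f : A'' →ₐc[R] A)
    (hf : (f : A'' →ₐ[R] A).toRingHom.FaithfullyFlat)
    (g : A →ₐc[R] A') (hg : Function.Surjective g)
    (hker : RingHom.ker (g : A →ₐ[R] A') =
      Ideal.map (f : A'' →ₐ[R] A) (RingHom.ker (Bialgebra.counitAlgHom R A'')))

include hker in
lemma g_f (d : A'') : g (f d) = algebraMap R A' (Coalgebra.counit (R := R) d) := by
  have h1 : d - algebraMap R A'' (Coalgebra.counit (R := R) d) ∈
      RingHom.ker (Bialgebra.counitAlgHom R A'') := by
    rw [RingHom.mem_ker, map_sub, AlgHom.commutes]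
    simp
  have h2 : (f : A'' →ₐ[R] A) (d - algebraMap R A'' (Coalgebra.counit (R := R) d)) ∈
      RingHom.ker (g : A →ₐ[R] A') := by
    rw [hker]
    exact Ideal.mem_map_of_mem _ h1
  rw [RingHom.mem_ker, map_sub, map_sub, AlgHom.commutes, AlgHom.commutes, sub_eq_zero] at h2
  exact h2

include hker in
lemma F_G (y : CartDual.D R A') :
    CartDual.transpose R f (CartDual.transpose R g y) =
      (Coalgebra.counit (R := R) y) • (1 : CartDual.D R A'') := by
  apply WithConv.ext
  apply LinearMap.ext
  intro d
  change y (g (f d)) = ((Coalgebra.counit (R := R) y) • (1 : CartDual.D R A'')) d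
  rw [g_f R A' A A'' f g hker]
  simp [CartDual.coe_apply, LinearMap.convOne_apply, Algebra.algebraMap_eq_smul_one, mul_comm]

include hf hg hker in
theorem cartDual_exact :
    (CartDual.transpose R g : CartDual.D R A' →ₐ[R] CartDual.D R A).toRingHom.FaithfullyFlat ∧
      Function.Surjective (CartDual.transpose R f) ∧
      RingHom.ker (CartDual.transpose R f : CartDual.D R A →ₐ[R] CartDual.D R A'') =
        Ideal.map (CartDual.transpose R g : CartDual.D R A' →ₐ[R] CartDual.D R A)
          (RingHom.ker (Bialgebra.counitAlgHom R (CartDual.D R A'))) := by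
  classical
  set F := CartDual.transpose R f with hF
  set G := CartDual.transpose R g with hG
  have hFG : ∀ y, F (G y) = (Coalgebra.counit (R := R) y) • (1 : CartDual.D R A'') :=
    F_G R A' A A'' f g hker
  -- (2)
  have hFsurj : Function.Surjective F := by
    obtain ⟨s, hs⟩ := Pure.exists_linear_retraction (f : A'' →ₐ[R] A) hf
    intro y
    refine ⟨WithConv.toConv (y.ofConv ∘ₗ s), ?_⟩
    apply WithConv.ext
    apply LinearMap.ext
    intro d
    change y.ofConv (s (f d)) = y.ofConv d
    exact congrArg _ (hs d)
  let π : CartDual.D R A →ₐ[R] CartDual.D R A'' := (F : CartDual.D R A →ₐ[R] CartDual.D R A'')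
  let Glin : CartDual.D R A' →ₗ[R] CartDual.D R A :=
    (G : CartDual.D R A' →ₐ[R] CartDual.D R A).toLinearMap
  have hε : ∀ x, CoalgebraStruct.counit (R := R) (π x) = CoalgebraStruct.counit (R := R) x :=
    fun x => CoalgHomClass.counit_comp_apply F x
  have hΔ : ∀ x, CoalgebraStruct.comul (R := R) (π x) =
      TensorProduct.map π.toLinearMap π.toLinearMap (CoalgebraStruct.comul (R := R) x) :=
    fun x => (CoalgHomClass.map_comp_comul_apply F x).symm
  have hπ : Function.Surjective π := hFsurj
  have hGmem : ∀ y, G y ∈ inv π := by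
    intro y
    rw [mem_inv, rho_apply]
    have hΔG : CoalgebraStruct.comul (R := R) (G y) =
        TensorProduct.map Glin Glin (CoalgebraStruct.comul (R := R) y) :=
      (CoalgHomClass.map_comp_comul_apply G y).symm
    have e1 : π.toLinearMap.lTensor (CartDual.D R A) ∘ₗ TensorProduct.map Glin Glin =
        TensorProduct.map Glin (Algebra.linearMap R (CartDual.D R A'')) ∘ₗ
          (CoalgebraStruct.counit (R := R) (A := CartDual.D R A')).lTensor (CartDual.D R A') := by
      apply TensorProduct.ext'
      intro y₁ y₂
      show G y₁ ⊗ₜ[R] F (G y₂) = G y₁ ⊗ₜ[R] algebraMap R _ (CoalgebraStruct.counit (R := R) y₂)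
      rw [hFG, Algebra.algebraMap_eq_smul_one]
    rw [hΔG, ← LinearMap.comp_apply, e1, LinearMap.comp_apply, Coalgebra.lTensor_counit_comul,
      TensorProduct.map_tmul]
    simp [Glin]
  have hGinj : Function.Injective G := by
    intro y y' h
    apply WithConv.ext
    apply LinearMap.ext
    intro a'
    obtain ⟨a, rfl⟩ := hg a'
    have := congrArg (fun z : CartDual.D R A => z a) h
    exact this
  have hmemG : ∀ x, x ∈ inv π → ∃ y, G y = x := by
    intro x hx
    rw [mem_inv, rho_apply] at hx
    obtain ⟨τ, hτ⟩ := Module.projective_lifting_property (g : A →ₐ[R] A').toLinearMap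
      LinearMap.id hg
    have hτ' : ∀ a', g (τ a') = a' := fun a' => LinearMap.congr_fun hτ a'
    have hgen : ∀ (c : A) (d : A''), CoalgebraStruct.counit (R := R) d = 0 → x (c * f d) = 0 := by
      intro c d hd
      let E : CartDual.D R A ⊗[R] CartDual.D R A'' →ₗ[R] R :=
        LinearMap.mul' R R ∘ₗ TensorProduct.map (evc R c) (evc R d)
      have hE1 : ∀ t : CartDual.D R A ⊗[R] CartDual.D R A,
          E (π.toLinearMap.lTensor (CartDual.D R A) t) = CartDual.ev₂ R A t (c ⊗ₜ[R] f d) := by
        intro t
        induction t using TensorProduct.induction_on with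
        | zero => simp
        | tmul x₁ x₂ =>
          rw [LinearMap.lTensor_tmul, CartDual.ev₂_tmul]
          rfl
        | add y z hy hz => simp only [map_add, LinearMap.add_apply, hy, hz]
      have h1 := congrArg E hx
      rw [hE1, CartDual.ev₂_coalgebra_comul_tmul] at h1
      rw [h1]
      show x c * (1 : CartDual.D R A'') d = 0
      rw [CartDual.coe_apply R A'' (1 : CartDual.D R A'') d, LinearMap.convOne_apply, hd, map_zero,
        mul_zero]
    have hvan : ∀ a : A, g a = 0 → x a = 0 := by
      intro a ha
      have hmem : a ∈ Ideal.map (f : A'' →ₐ[R] A) (RingHom.ker (Bialgebra.counitAlgHom R A'')) := by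
        rw [← hker]
        exact ha
      have hall : ∀ c : A, x (c * a) = 0 := by
        refine Submodule.span_induction (p := fun a _ => ∀ c : A, x (c * a) = 0) ?_ ?_ ?_ ?_ hmem
        · rintro _ ⟨d, hd, rfl⟩ c
          exact hgen c d hd
        · intro c
          rw [mul_zero, map_zero]
        · intro a b _ _ ha hb c
          rw [mul_add, map_add, ha, hb, add_zero]
        · intro c' a _ ha c
          rw [smul_eq_mul, ← mul_assoc]
          exact ha _
      have := hall 1
      rwa [one_mul] at this
    refine ⟨WithConv.toConv (x.ofConv ∘ₗ τ), ?_⟩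
    apply WithConv.ext
    apply LinearMap.ext
    intro a
    change x (τ (g a)) = x a
    have h0 : x (τ (g a) - a) = 0 := hvan _ (by rw [map_sub, hτ', sub_self])
    rw [map_sub, sub_eq_zero] at h0
    exact h0
  refine ⟨?_, hFsurj, ?_⟩
  · -- (1)
    let Gc : CartDual.D R A' →ₐ[R] inv π :=
      (G : CartDual.D R A' →ₐ[R] CartDual.D R A).codRestrict (inv π) hGmem
    have hGc : Function.Bijective Gc := by
      refine ⟨fun y y' h => hGinj (congrArg Subtype.val h), ?_⟩
      rintro ⟨x, hx⟩
      obtain ⟨y, rfl⟩ := hmemG x hx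
      exact ⟨y, rfl⟩
    haveI : Module.FaithfullyFlat (inv π) (CartDual.D R A) := faithfullyFlat_inv' π hε hΔ hπ
    have h1 : (Gc : CartDual.D R A' →+* inv π).FaithfullyFlat :=
      RingHom.FaithfullyFlat.of_bijective hGc
    have h2 : (algebraMap (inv π) (CartDual.D R A)).FaithfullyFlat :=
      RingHom.faithfullyFlat_algebraMap_iff.mpr inferInstance
    have h3 := RingHom.FaithfullyFlat.stableUnderComposition _ _ h1 h2
    have e : (G : CartDual.D R A' →ₐ[R] CartDual.D R A).toRingHom =
        (algebraMap (inv π) (CartDual.D R A)).comp (Gc : CartDual.D R A' →+* inv π) :=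
      RingHom.ext fun y => rfl
    rw [e]
    exact h3
  · -- (3)
    apply le_antisymm
    · intro x hx
      have hx' : π x = 0 := hx
      have hsp := ker_le_span π hε hΔ hπ hx'
      refine (Ideal.span_le.mpr ?_) hsp
      rintro k ⟨hk, hk0⟩
      obtain ⟨y, rfl⟩ := hmemG k hk
      apply Ideal.mem_map_of_mem
      rw [RingHom.mem_ker]
      have h4 : CoalgebraStruct.counit (R := R) (G y) = CoalgebraStruct.counit (R := R) y :=
        CoalgHomClass.counit_comp_apply G y
      exact h4.symm.trans hk0
    · rw [Ideal.map_le_iff_le_comap]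
      intro y hy
      rw [Ideal.mem_comap, RingHom.mem_ker]
      show F (G y) = 0
      rw [hFG, show CoalgebraStruct.counit (R := R) y = 0 from hy, zero_smul]

end Exact

end Groth.Agent.H9.CD
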