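import Mathlib
import Groth.Prelude.Def_QuadGrp

/-! Base change of Clifford algebras of quadratic forms on free modules, without assuming that
`2` is invertible (helper9). -/

set_option autoImplicit false

open CliffordAlgebra TensorProduct

namespace Groth.Agent.H9.QG

universe u v u'

variable {R : Type u} [CommRing R] {M : Type v} [AddCommGroup M] [Module R M] [Module.Free R M]
variable (A : Type u') [CommRing A] [Algebra R A]

theorem bcf_tmul (Q : QuadraticForm R M) (a : A) (m : M) :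
    QuadGrp.baseChangeForm A Q (a ⊗ₜ[R] m) = Q m • (a * a) := by
  rw [QuadGrp.baseChangeForm, LinearMap.compQuadraticMap_apply, QuadGrp.baseChange_tmul]
  simp

theorem bcf_one_tmul (Q : QuadraticForm R M) (m : M) :
    QuadGrp.baseChangeForm A Q ((1 : A) ⊗ₜ[R] m) = algebraMap R A (Q m) := by
  rw [bcf_tmul, mul_one, Algebra.algebraMap_eq_smul_one]

theorem polar_bcf_one_tmul (Q : QuadraticForm R M) (m m' : M) :
    QuadraticMap.polar (QuadGrp.baseChangeForm A Q) ((1 : A) ⊗ₜ[R] m) ((1 : A) ⊗ₜ[R] m') =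
      algebraMap R A (QuadraticMap.polar Q m m') := by
  rw [QuadraticMap.polar, ← TensorProduct.tmul_add, bcf_one_tmul, bcf_one_tmul, bcf_one_tmul,
    QuadraticMap.polar, map_sub, map_sub]

/-- the canonical map `C(Q) → C(Q_A)` -/
noncomputable def toBC (Q : QuadraticForm R M) :
    CliffordAlgebra Q →ₐ[R] CliffordAlgebra (QuadGrp.baseChangeForm A Q) :=
  CliffordAlgebra.lift Q ⟨(ι (QuadGrp.baseChangeForm A Q)).restrictScalars R ∘ₗ
    TensorProduct.mk R A M 1, fun v => by
    refine (CliffordAlgebra.ι_sq_scalar (QuadGrp.baseChangeForm A Q) (1 ⊗ₜ v)).trans ?_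
    rw [bcf_one_tmul, ← IsScalarTower.algebraMap_apply]⟩

@[simp] theorem toBC_ι (Q : QuadraticForm R M) (v : M) :
    toBC A Q (ι Q v) = ι (QuadGrp.baseChangeForm A Q) (1 ⊗ₜ v) :=
  CliffordAlgebra.lift_ι_apply _ _ v

/-- `A ⊗ C(Q) → C(Q_A)` -/
noncomputable def ofTensor (Q : QuadraticForm R M) :
    A ⊗[R] CliffordAlgebra Q →ₐ[A] CliffordAlgebra (QuadGrp.baseChangeForm A Q) :=
  Algebra.TensorProduct.lift (Algebra.ofId _ _) (toBC A Q) fun _a _x => Algebra.commutes _ _

@[simp] theorem ofTensor_tmul (Q : QuadraticForm R M) (z : A) (x : CliffordAlgebra Q) :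
    ofTensor A Q (z ⊗ₜ x) = algebraMap _ _ z * toBC A Q x := by
  rw [ofTensor, Algebra.TensorProduct.lift_tmul]; rfl

theorem ofTensor_tmul_ι (Q : QuadraticForm R M) (z : A) (v : M) :
    ofTensor A Q (z ⊗ₜ ι Q v) = ι (QuadGrp.baseChangeForm A Q) (z ⊗ₜ v) := by
  rw [ofTensor_tmul, toBC_ι, ← Algebra.smul_def, ← map_smul, TensorProduct.smul_tmul',
    smul_eq_mul, mul_one]

theorem toTensor_aux (Q : QuadraticForm R M) (x : A ⊗[R] M) :
    (TensorProduct.AlgebraTensorModule.map (LinearMap.id : A →ₗ[A] A) (ι Q)) x *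
      (TensorProduct.AlgebraTensorModule.map (LinearMap.id : A →ₗ[A] A) (ι Q)) x =
    algebraMap A (A ⊗[R] CliffordAlgebra Q) (QuadGrp.baseChangeForm A Q x) := by
  set f : A ⊗[R] M →ₗ[A] A ⊗[R] CliffordAlgebra Q :=
    TensorProduct.AlgebraTensorModule.map (LinearMap.id : A →ₗ[A] A) (ι Q) with hf
  let q1 : QuadraticMap A (A ⊗[R] M) (A ⊗[R] CliffordAlgebra Q) :=
    LinearMap.BilinMap.toQuadraticMap
      ((LinearMap.mul A (A ⊗[R] CliffordAlgebra Q)).compl₁₂ f f)
  let q2 : QuadraticMap A (A ⊗[R] M) (A ⊗[R] CliffordAlgebra Q) :=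
    (Algebra.linearMap A (A ⊗[R] CliffordAlgebra Q)).compQuadraticMap
      (QuadGrp.baseChangeForm A Q)
  have h12 : q1 = q2 := by
    apply baseChange_ext
    intro m
    change f (1 ⊗ₜ m) * f (1 ⊗ₜ m) = algebraMap A _ (QuadGrp.baseChangeForm A Q (1 ⊗ₜ m))
    rw [hf, TensorProduct.AlgebraTensorModule.map_tmul, LinearMap.id_apply,
      Algebra.TensorProduct.tmul_mul_tmul, mul_one, ι_sq_scalar, bcf_one_tmul,
      Algebra.TensorProduct.algebraMap_apply, Algebra.algebraMap_eq_smul_one,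
      TensorProduct.tmul_smul, Algebra.algebraMap_eq_smul_one (Q m), TensorProduct.smul_tmul']
    rfl
  exact congrArg (fun q => q x) h12

/-- `C(Q_A) → A ⊗ C(Q)` -/
noncomputable def toTensor (Q : QuadraticForm R M) :
    CliffordAlgebra (QuadGrp.baseChangeForm A Q) →ₐ[A] A ⊗[R] CliffordAlgebra Q :=
  CliffordAlgebra.lift _ ⟨TensorProduct.AlgebraTensorModule.map (LinearMap.id : A →ₗ[A] A) (ι Q),
    toTensor_aux A Q⟩

@[simp] theorem toTensor_ι (Q : QuadraticForm R M) (z : A) (v : M) :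
    toTensor A Q (ι (QuadGrp.baseChangeForm A Q) (z ⊗ₜ v)) = z ⊗ₜ ι Q v :=
  CliffordAlgebra.lift_ι_apply _ _ _

theorem toTensor_toBC (Q : QuadraticForm R M) (x : CliffordAlgebra Q) :
    toTensor A Q (toBC A Q x) = 1 ⊗ₜ x := by
  have : ((toTensor A Q).restrictScalars R).comp (toBC A Q) =
      (Algebra.TensorProduct.includeRight : CliffordAlgebra Q →ₐ[R] A ⊗[R] CliffordAlgebra Q) := by
    apply CliffordAlgebra.hom_ext
    ext v
    simp
  exact AlgHom.congr_fun this x

theorem toTensor_ofTensor (Q : QuadraticForm R M) (x : A ⊗[R] CliffordAlgebra Q) :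
    toTensor A Q (ofTensor A Q x) = x := by
  induction x using TensorProduct.induction_on with
  | zero => simp
  | add x y hx hy => rw [map_add, map_add, hx, hy]
  | tmul a x =>
    rw [ofTensor_tmul, map_mul, AlgHom.commutes, toTensor_toBC,
      Algebra.TensorProduct.algebraMap_apply, Algebra.TensorProduct.tmul_mul_tmul, one_mul,
      mul_one]
    rfl

theorem ofTensor_toTensor (Q : QuadraticForm R M)
    (x : CliffordAlgebra (QuadGrp.baseChangeForm A Q)) :
    ofTensor A Q (toTensor A Q x) = x := by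
  have : (ofTensor A Q).comp (toTensor A Q) = AlgHom.id A _ := by
    apply CliffordAlgebra.hom_ext
    apply TensorProduct.AlgebraTensorModule.ext
    intro a v
    change ofTensor A Q (toTensor A Q (ι _ (a ⊗ₜ v))) = ι _ (a ⊗ₜ v)
    rw [toTensor_ι, ofTensor_tmul_ι]
  exact AlgHom.congr_fun this x

/-- base change of Clifford algebras (free module, no assumption on `2`) -/
noncomputable def bcEquiv (Q : QuadraticForm R M) :
    CliffordAlgebra (QuadGrp.baseChangeForm A Q) ≃ₐ[A] A ⊗[R] CliffordAlgebra Q :=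
  AlgEquiv.ofAlgHom (toTensor A Q) (ofTensor A Q)
    (AlgHom.ext (toTensor_ofTensor A Q)) (AlgHom.ext (ofTensor_toTensor A Q))

@[simp] theorem bcEquiv_apply (Q : QuadraticForm R M)
    (x : CliffordAlgebra (QuadGrp.baseChangeForm A Q)) : bcEquiv A Q x = toTensor A Q x := rfl

@[simp] theorem bcEquiv_symm_apply (Q : QuadraticForm R M) (x : A ⊗[R] CliffordAlgebra Q) :
    (bcEquiv A Q).symm x = ofTensor A Q x := rfl

theorem bcEquiv_toBC (Q : QuadraticForm R M) (x : CliffordAlgebra Q) :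
    bcEquiv A Q (toBC A Q x) = 1 ⊗ₜ x := toTensor_toBC A Q x

theorem toBC_eq (Q : QuadraticForm R M) (x : CliffordAlgebra Q) :
    toBC A Q x = (bcEquiv A Q).symm (1 ⊗ₜ x) := by
  rw [← bcEquiv_toBC, AlgEquiv.symm_apply_apply]

/-! ### parity -/

theorem toBC_mem_even (Q : QuadraticForm R M) {x : CliffordAlgebra Q} (hx : x ∈ evenOdd Q 0) :
    toBC A Q x ∈ evenOdd (QuadGrp.baseChangeForm A Q) 0 := by
  induction x, hx using even_induction with
  | algebraMap r =>
    rw [AlgHom.commutes, IsScalarTower.algebraMap_apply R A]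
    exact SetLike.algebraMap_mem_graded _ _
  | add x y _ _ ihx ihy => rw [map_add]; exact Submodule.add_mem _ ihx ihy
  | ι_mul_ι_mul m₁ m₂ x hx ih =>
    rw [map_mul, map_mul, toBC_ι, toBC_ι]
    have := SetLike.mul_mem_graded (ι_mul_ι_mem_evenOdd_zero (QuadGrp.baseChangeForm A Q)
      ((1 : A) ⊗ₜ m₁) ((1 : A) ⊗ₜ m₂)) ih
    rwa [add_zero] at this

theorem toBC_mem_odd (Q : QuadraticForm R M) {x : CliffordAlgebra Q} (hx : x ∈ evenOdd Q 1) :
    toBC A Q x ∈ evenOdd (QuadGrp.baseChangeForm A Q) 1 := by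
  induction x, hx using odd_induction with
  | ι v => rw [toBC_ι]; exact ι_mem_evenOdd_one _ _
  | add x y _ _ ihx ihy => rw [map_add]; exact Submodule.add_mem _ ihx ihy
  | ι_mul_ι_mul m₁ m₂ x hx ih =>
    rw [map_mul, map_mul, toBC_ι, toBC_ι]
    have := SetLike.mul_mem_graded (ι_mul_ι_mem_evenOdd_zero (QuadGrp.baseChangeForm A Q)
      ((1 : A) ⊗ₜ m₁) ((1 : A) ⊗ₜ m₂)) ih
    rwa [zero_add] at this

/-! ### isometries -/

theorem baseChange_mem_O (Q : QuadraticForm R M) (g : M ≃ₗ[R] M) (hg : g ∈ QuadGrp.O Q) :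
    g.baseChange R A M M ∈ QuadGrp.O (QuadGrp.baseChangeForm A Q) := by
  rw [QuadGrp.mem_O]
  have : (QuadGrp.baseChangeForm A Q).comp (g.baseChange R A M M).toLinearMap =
      QuadGrp.baseChangeForm A Q := by
    apply baseChange_ext
    intro m
    rw [QuadraticMap.comp_apply]
    change QuadGrp.baseChangeForm A Q (g.baseChange R A M M (1 ⊗ₜ m)) = _
    rw [LinearEquiv.baseChange_tmul, bcf_one_tmul, bcf_one_tmul, (QuadGrp.mem_O Q g).mp hg]
  intro v
  exact congrArg (fun q => q v) this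

theorem map_baseChange_toBC (Q : QuadraticForm R M) (g : M ≃ₗ[R] M) (hg : g ∈ QuadGrp.O Q)
    (x : CliffordAlgebra Q) :
    CliffordAlgebra.map (QuadGrp.isometryOfMem (QuadGrp.baseChangeForm A Q)
      (g.baseChange R A M M) (baseChange_mem_O A Q g hg)) (toBC A Q x) =
    toBC A Q (CliffordAlgebra.map (QuadGrp.isometryOfMem Q g hg) x) := by
  have : ((CliffordAlgebra.map (QuadGrp.isometryOfMem (QuadGrp.baseChangeForm A Q)
      (g.baseChange R A M M) (baseChange_mem_O A Q g hg))).restrictScalars R).comp (toBC A Q) =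
      (toBC A Q).comp (CliffordAlgebra.map (QuadGrp.isometryOfMem Q g hg)) := by
    apply CliffordAlgebra.hom_ext
    ext v
    simp [QuadGrp.isometryOfMem_apply]
  exact AlgHom.congr_fun this x

end Groth.Agent.H9.QG
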