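import Mathlib
import Groth.Prelude.Def_QuadGrp

/-! Filtration of the Clifford algebra by products of vectors, the top-form functional, and
its trace properties (helper9). -/

set_option autoImplicit false

open CliffordAlgebra

namespace Groth.Agent.H9.QG

universe u v

variable {R : Type u} [CommRing R] {M : Type v} [AddCommGroup M] [Module R M]

/-! ### list products and the filtration -/

/-- the product of the vectors of a list -/
noncomputable def lp (Q : QuadraticForm R M) (l : List M) : CliffordAlgebra Q :=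
  (l.map (ι Q)).prod

@[simp] theorem lp_nil (Q : QuadraticForm R M) : lp Q ([] : List M) = 1 := by simp [lp]

@[simp] theorem lp_cons (Q : QuadraticForm R M) (x : M) (l : List M) :
    lp Q (x :: l) = ι Q x * lp Q l := by simp [lp]

/-- span of the products of fewer than `k` vectors -/
def G (Q : QuadraticForm R M) (k : ℕ) : Submodule R (CliffordAlgebra Q) :=
  Submodule.span R {a | ∃ l : List M, l.length < k ∧ lp Q l = a}

theorem lp_mem_G (Q : QuadraticForm R M) (l : List M) {k : ℕ} (h : l.length < k) :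
    lp Q l ∈ G Q k := Submodule.subset_span ⟨l, h, rfl⟩

theorem G_mono (Q : QuadraticForm R M) {k k' : ℕ} (h : k ≤ k') : G Q k ≤ G Q k' :=
  Submodule.span_mono (fun _ ⟨l, hl, e⟩ => ⟨l, lt_of_lt_of_le hl h, e⟩)

theorem ι_mul_mem_G (Q : QuadraticForm R M) (x : M) {k : ℕ} {a : CliffordAlgebra Q}
    (ha : a ∈ G Q k) : ι Q x * a ∈ G Q (k + 1) := by
  induction ha using Submodule.span_induction with
  | mem a h =>
    obtain ⟨l, hl, rfl⟩ := h
    rw [← lp_cons]
    exact lp_mem_G Q _ (by simpa using hl)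
  | zero => rw [mul_zero]; exact Submodule.zero_mem _
  | add a b _ _ ha hb => rw [mul_add]; exact Submodule.add_mem _ ha hb
  | smul r a _ ha => rw [mul_smul_comm]; exact Submodule.smul_mem _ _ ha

theorem contract_lp_mem (Q : QuadraticForm R M) (d : Module.Dual R M) (l : List M) :
    contractLeft d (lp Q l) ∈ G Q l.length := by
  induction l with
  | nil => rw [lp_nil, contractLeft_one]; exact Submodule.zero_mem _
  | cons x l ih =>
    rw [lp_cons, contractLeft_ι_mul, List.length_cons]
    exact Submodule.sub_mem _ (Submodule.smul_mem _ _ (lp_mem_G Q l (Nat.lt_succ_self _)))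
      (ι_mul_mem_G Q x ih)

theorem contract_mem_G (Q : QuadraticForm R M) (d : Module.Dual R M) {k : ℕ}
    {a : CliffordAlgebra Q} (ha : a ∈ G Q (k + 1)) : contractLeft d a ∈ G Q k := by
  induction ha using Submodule.span_induction with
  | mem a h =>
    obtain ⟨l, hl, rfl⟩ := h
    exact G_mono Q (Nat.lt_succ_iff.mp hl) (contract_lp_mem Q d l)
  | zero => rw [map_zero]; exact Submodule.zero_mem _
  | add a b _ _ ha hb => rw [map_add]; exact Submodule.add_mem _ ha hb
  | smul r a _ ha => rw [map_smul]; exact Submodule.smul_mem _ _ ha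

theorem changeForm_lp {Q Q' : QuadraticForm R M} {B : LinearMap.BilinForm R M}
    (h : B.toQuadraticMap = Q' - Q) (l : List M) :
    changeForm h (lp Q l) - lp Q' l ∈ G Q' l.length := by
  induction l with
  | nil => rw [lp_nil, lp_nil, changeForm_one, sub_self]; exact Submodule.zero_mem _
  | cons x l ih =>
    rw [lp_cons, lp_cons, changeForm_ι_mul, List.length_cons]
    have h1 : ι Q' x * (changeForm h (lp Q l) - lp Q' l) ∈ G Q' (l.length + 1) :=
      ι_mul_mem_G Q' x ih
    have h2 : changeForm h (lp Q l) ∈ G Q' (l.length + 1) := by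
      have := Submodule.add_mem _ (G_mono Q' (Nat.le_succ _) ih)
        (lp_mem_G Q' l (Nat.lt_succ_self _))
      rwa [sub_add_cancel] at this
    have h3 := contract_mem_G Q' (B x) h2
    have e : ι Q' x * changeForm h (lp Q l) - contractLeft (B x) (changeForm h (lp Q l)) -
        ι Q' x * lp Q' l =
        ι Q' x * (changeForm h (lp Q l) - lp Q' l) -
          contractLeft (B x) (changeForm h (lp Q l)) := by
      rw [mul_sub]; abel
    rw [e]
    exact Submodule.sub_mem _ h1 (G_mono Q' (Nat.le_succ _) h3)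

/-! ### parity -/

theorem ι_mul_mem_odd (Q : QuadraticForm R M) (m : M) {x : CliffordAlgebra Q}
    (hx : x ∈ evenOdd Q 0) : ι Q m * x ∈ evenOdd Q 1 := by
  have := SetLike.mul_mem_graded (ι_mem_evenOdd_one Q m) hx
  rwa [add_zero] at this

theorem ι_mul_mem_even (Q : QuadraticForm R M) (m : M) {x : CliffordAlgebra Q}
    (hx : x ∈ evenOdd Q 1) : ι Q m * x ∈ evenOdd Q 0 := by
  have := SetLike.mul_mem_graded (ι_mem_evenOdd_one Q m) hx
  rwa [show (1 : ZMod 2) + 1 = 0 from rfl] at this

theorem mul_ι_mem_odd (Q : QuadraticForm R M) (m : M) {x : CliffordAlgebra Q}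
    (hx : x ∈ evenOdd Q 0) : x * ι Q m ∈ evenOdd Q 1 := by
  have := SetLike.mul_mem_graded hx (ι_mem_evenOdd_one Q m)
  rwa [zero_add] at this

theorem mul_ι_mem_even (Q : QuadraticForm R M) (m : M) {x : CliffordAlgebra Q}
    (hx : x ∈ evenOdd Q 1) : x * ι Q m ∈ evenOdd Q 0 := by
  have := SetLike.mul_mem_graded hx (ι_mem_evenOdd_one Q m)
  rwa [show (1 : ZMod 2) + 1 = 0 from rfl] at this

theorem contract_mem_odd_of_even (Q : QuadraticForm R M) (d : Module.Dual R M)
    {a : CliffordAlgebra Q} (ha : a ∈ evenOdd Q 0) : contractLeft d a ∈ evenOdd Q 1 := by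
  induction a, ha using even_induction with
  | algebraMap r => rw [contractLeft_algebraMap]; exact Submodule.zero_mem _
  | add x y _ _ ihx ihy => rw [map_add]; exact Submodule.add_mem _ ihx ihy
  | ι_mul_ι_mul m₁ m₂ x hx ih =>
    rw [mul_assoc, contractLeft_ι_mul, contractLeft_ι_mul]
    refine Submodule.sub_mem _ (Submodule.smul_mem _ _ (ι_mul_mem_odd Q m₂ hx)) ?_
    rw [mul_sub, mul_smul_comm]
    exact Submodule.sub_mem _ (Submodule.smul_mem _ _ (ι_mul_mem_odd Q m₁ hx))
      (ι_mul_mem_odd Q m₁ (ι_mul_mem_even Q m₂ ih))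

theorem contract_mem_even_of_odd (Q : QuadraticForm R M) (d : Module.Dual R M)
    {a : CliffordAlgebra Q} (ha : a ∈ evenOdd Q 1) : contractLeft d a ∈ evenOdd Q 0 := by
  induction a, ha using odd_induction with
  | ι v => rw [contractLeft_ι]; exact SetLike.algebraMap_mem_graded _ _
  | add x y _ _ ihx ihy => rw [map_add]; exact Submodule.add_mem _ ihx ihy
  | ι_mul_ι_mul m₁ m₂ x hx ih =>
    rw [mul_assoc, contractLeft_ι_mul, contractLeft_ι_mul]
    refine Submodule.sub_mem _ (Submodule.smul_mem _ _ (ι_mul_mem_even Q m₂ hx)) ?_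
    rw [mul_sub, mul_smul_comm]
    exact Submodule.sub_mem _ (Submodule.smul_mem _ _ (ι_mul_mem_even Q m₁ hx))
      (ι_mul_mem_even Q m₁ (ι_mul_mem_odd Q m₂ ih))

theorem changeForm_mem_even {Q Q' : QuadraticForm R M} {B : LinearMap.BilinForm R M}
    (h : B.toQuadraticMap = Q' - Q) {a : CliffordAlgebra Q} (ha : a ∈ evenOdd Q 0) :
    changeForm h a ∈ evenOdd Q' 0 := by
  induction a, ha using even_induction with
  | algebraMap r => rw [changeForm_algebraMap]; exact SetLike.algebraMap_mem_graded _ _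
  | add x y _ _ ihx ihy => rw [map_add]; exact Submodule.add_mem _ ihx ihy
  | ι_mul_ι_mul m₁ m₂ x hx ih =>
    have h1 : changeForm h (ι Q m₂ * x) ∈ evenOdd Q' 1 := by
      rw [changeForm_ι_mul]
      exact Submodule.sub_mem _ (ι_mul_mem_odd Q' m₂ ih) (contract_mem_odd_of_even Q' _ ih)
    rw [mul_assoc, changeForm_ι_mul]
    exact Submodule.sub_mem _ (ι_mul_mem_even Q' m₁ h1) (contract_mem_even_of_odd Q' _ h1)

theorem changeForm_mem_odd {Q Q' : QuadraticForm R M} {B : LinearMap.BilinForm R M}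
    (h : B.toQuadraticMap = Q' - Q) {a : CliffordAlgebra Q} (ha : a ∈ evenOdd Q 1) :
    changeForm h a ∈ evenOdd Q' 1 := by
  induction a, ha using odd_induction with
  | ι v => rw [changeForm_ι]; exact ι_mem_evenOdd_one Q' v
  | add x y _ _ ihx ihy => rw [map_add]; exact Submodule.add_mem _ ihx ihy
  | ι_mul_ι_mul m₁ m₂ x hx ih =>
    have h1 : changeForm h (ι Q m₂ * x) ∈ evenOdd Q' 0 := by
      rw [changeForm_ι_mul]
      exact Submodule.sub_mem _ (ι_mul_mem_even Q' m₂ ih) (contract_mem_even_of_odd Q' _ ih)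
    rw [mul_assoc, changeForm_ι_mul]
    exact Submodule.sub_mem _ (ι_mul_mem_odd Q' m₁ h1) (contract_mem_odd_of_even Q' _ h1)

/-- the super-commutator with a vector is the contraction with its polar functional -/
theorem ι_mul_sub_involute_mul_ι (Q : QuadraticForm R M) (x : M) (a : CliffordAlgebra Q) :
    ι Q x * a - involute a * ι Q x = contractLeft (QuadraticMap.polarBilin Q x) a := by
  induction a using CliffordAlgebra.left_induction with
  | algebraMap r =>
    rw [AlgHom.commutes, contractLeft_algebraMap, Algebra.commutes, sub_self]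
  | add a b ha hb => rw [map_add, map_add, mul_add, add_mul, ← ha, ← hb]; abel
  | ι_mul a y ih =>
    have h1 : ι Q x * ι Q y = algebraMap R _ (QuadraticMap.polar Q x y) - ι Q y * ι Q x :=
      eq_sub_of_add_eq (ι_mul_ι_add_swap x y)
    rw [contractLeft_ι_mul, ← ih, map_mul, involute_ι, QuadraticMap.polarBilin_apply_apply,
      Algebra.smul_def]
    calc ι Q x * (ι Q y * a) - -ι Q y * involute a * ι Q x
        = (ι Q x * ι Q y) * a + ι Q y * (involute a * ι Q x) := by noncomm_ring
      _ = (algebraMap R _ (QuadraticMap.polar Q x y) - ι Q y * ι Q x) * a +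
            ι Q y * (involute a * ι Q x) := by rw [h1]
      _ = _ := by noncomm_ring

/-! ### the top-form functional -/

section Top

variable {n : ℕ} (b : Module.Basis (Fin n) R M)

/-- the coefficient of the top basis element of the exterior algebra -/
noncomputable def topCoord : ExteriorAlgebra R M →ₗ[R] R :=
  b.ExteriorAlgebra.coord Finset.univ

theorem topCoord_exteriorPower {k : ℕ} (hk : k ≠ n) {w : ExteriorAlgebra R M}
    (hw : w ∈ ⋀[R]^k M) : topCoord b w = 0 := by
  have key : (topCoord b) ∘ₗ (⋀[R]^k M).subtype = 0 := by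
    apply (b.exteriorPower k).ext
    intro s
    rw [LinearMap.comp_apply, Submodule.subtype_apply, ← ExteriorAlgebra.basis_eq_coe_basis,
      topCoord, Module.Basis.coord_apply, Module.Basis.repr_self, Finsupp.single_apply, if_neg]
    · rfl
    · intro h
      apply hk
      have h1 := Set.powersetCard.card_eq s
      rw [h, Finset.card_univ, Fintype.card_fin] at h1
      exact h1.symm
  exact LinearMap.congr_fun key ⟨w, hw⟩

theorem lp_zero_mem (l : List M) : lp (0 : QuadraticForm R M) l ∈ ⋀[R]^(l.length) M := by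
  induction l with
  | nil =>
    rw [lp_nil, List.length_nil]
    change (1 : ExteriorAlgebra R M) ∈ LinearMap.range (ExteriorAlgebra.ι R) ^ 0
    rw [pow_zero]
    exact Submodule.one_le.mp le_rfl
  | cons x l ih =>
    rw [lp_cons, List.length_cons]
    change _ ∈ LinearMap.range (ExteriorAlgebra.ι R) ^ (l.length + 1)
    rw [pow_succ']
    exact Submodule.mul_mem_mul (LinearMap.mem_range_self _ x) ih

theorem topCoord_G {a : ExteriorAlgebra R M} (ha : a ∈ G (0 : QuadraticForm R M) n) :
    topCoord b a = 0 := by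
  induction ha using Submodule.span_induction with
  | mem a h =>
    obtain ⟨l, hl, rfl⟩ := h
    exact topCoord_exteriorPower b (Nat.ne_of_lt hl) (lp_zero_mem l)
  | zero => rw [map_zero]
  | add a b _ _ ha hb => rw [map_add, ha, hb, add_zero]
  | smul r a _ ha => rw [map_smul, ha, smul_zero]

theorem basisElt_eq_lp (s : Finset (Fin n)) :
    ∃ l : List M, l.length = s.card ∧ b.ExteriorAlgebra s = lp (0 : QuadraticForm R M) l := by
  refine ⟨List.ofFn (b ∘ (Set.powersetCard.ofFinEmbEquiv.symm
    (Set.powersetCard.prodEquiv.symm s).2)), by simp, ?_⟩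
  rw [ExteriorAlgebra.basis_apply]
  simp only [lp, List.map_ofFn]
  rfl

include b in
theorem mem_G_top (w : ExteriorAlgebra R M) : w ∈ G (0 : QuadraticForm R M) (n + 1) := by
  have : w ∈ Submodule.span R (Set.range b.ExteriorAlgebra) := by
    rw [Module.Basis.span_eq]; exact Submodule.mem_top
  refine (Submodule.span_le.mpr ?_) this
  rintro _ ⟨s, rfl⟩
  obtain ⟨l, hl, e⟩ := basisElt_eq_lp b s
  rw [e]
  refine lp_mem_G _ l ?_
  rw [hl]
  have := Finset.card_le_univ s
  rw [Fintype.card_fin] at this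
  omega

/-- the alternating form `v ↦ top coefficient of v₁ ∧ ⋯ ∧ vₙ` -/
noncomputable def topAlt : M [⋀^Fin n]→ₗ[R] R :=
  (topCoord b).compAlternatingMap (ExteriorAlgebra.ιMulti R n)

theorem topAlt_apply (v : Fin n → M) :
    topAlt b v = topCoord b (lp (0 : QuadraticForm R M) (List.ofFn v)) := by
  simp only [topAlt, LinearMap.compAlternatingMap_apply, ExteriorAlgebra.ιMulti_apply, lp,
    List.map_ofFn]
  rfl

theorem isUnit_topAlt : IsUnit (topAlt b b) := by
  have hcard : (Finset.univ : Finset (Fin n)).card = n := by simp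
  have h1 : topCoord b (b.ExteriorAlgebra Finset.univ) = 1 := by
    rw [topCoord, Module.Basis.coord_apply, Module.Basis.repr_self, Finsupp.single_eq_same]
  rw [ExteriorAlgebra.basis_apply_ofCard b hcard] at h1
  have h2 : topAlt b (b ∘ (Set.powersetCard.ofFinEmbEquiv.symm (Set.powersetCard.ofCard hcard)))
      = 1 := h1
  rw [AlternatingMap.eq_smul_basis_det b (topAlt b)] at h2
  rw [AlternatingMap.smul_apply, smul_eq_mul] at h2
  exact IsUnit.of_mul_eq_one _ h2

theorem topAlt_comp (g : M →ₗ[R] M) : topAlt b (g ∘ b) = LinearMap.det g * topAlt b b := by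
  conv_lhs => rw [AlternatingMap.eq_smul_basis_det b (topAlt b)]
  rw [AlternatingMap.smul_apply, smul_eq_mul, Module.Basis.det_comp, Module.Basis.det_self,
    mul_one, mul_comm]

variable {Q : QuadraticForm R M} {β : LinearMap.BilinForm R M}

theorem neg_proof (hβ : β.toQuadraticMap = Q) : (-β).toQuadraticMap = 0 - Q := by
  rw [zero_sub, ← hβ]; exact LinearMap.BilinMap.toQuadraticMap_neg β

/-- the top-form functional on the Clifford algebra -/
noncomputable def tInt (hβ : β.toQuadraticMap = Q) : CliffordAlgebra Q →ₗ[R] R :=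
  (topCoord b) ∘ₗ (changeForm (neg_proof hβ))

theorem tInt_contract (hβ : β.toQuadraticMap = Q) (d : Module.Dual R M)
    (a : CliffordAlgebra Q) : tInt b hβ (contractLeft d a) = 0 := by
  rw [tInt, LinearMap.comp_apply, changeForm_contractLeft]
  exact topCoord_G b (contract_mem_G _ d (mem_G_top b _))

theorem topCoord_evenOdd {i : ZMod 2} (hi : i ≠ (n : ZMod 2)) {w : ExteriorAlgebra R M}
    (hw : w ∈ evenOdd (0 : QuadraticForm R M) i) : topCoord b w = 0 := by
  rw [evenOdd] at hw
  refine Submodule.iSup_induction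
    (fun j : {k : ℕ // (k : ZMod 2) = i} => LinearMap.range (ι (0 : QuadraticForm R M)) ^ (j : ℕ))
    (motive := fun w => topCoord b w = 0) hw ?_ ?_ ?_
  · intro j x hx
    refine topCoord_exteriorPower b ?_ hx
    intro h
    apply hi
    rw [← j.2, h]
  · rw [map_zero]
  · intro x y hx hy
    rw [map_add, hx, hy, add_zero]

theorem tInt_even (hβ : β.toQuadraticMap = Q) (hn : (0 : ZMod 2) ≠ (n : ZMod 2))
    {a : CliffordAlgebra Q} (ha : a ∈ evenOdd Q 0) : tInt b hβ a = 0 := by
  rw [tInt, LinearMap.comp_apply]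
  exact topCoord_evenOdd b hn (changeForm_mem_even _ ha)

theorem tInt_odd (hβ : β.toQuadraticMap = Q) (hn : (1 : ZMod 2) ≠ (n : ZMod 2))
    {a : CliffordAlgebra Q} (ha : a ∈ evenOdd Q 1) : tInt b hβ a = 0 := by
  rw [tInt, LinearMap.comp_apply]
  exact topCoord_evenOdd b hn (changeForm_mem_odd _ ha)

theorem tInt_lp (hβ : β.toQuadraticMap = Q) (v : Fin n → M) :
    tInt b hβ (lp Q (List.ofFn v)) = topAlt b v := by
  have h := changeForm_lp (neg_proof hβ) (List.ofFn v)
  rw [List.length_ofFn] at h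
  have h2 := topCoord_G b h
  rw [map_sub, sub_eq_zero] at h2
  rw [tInt, LinearMap.comp_apply, h2, topAlt_apply]

theorem exists_even_add_odd (a : CliffordAlgebra Q) :
    ∃ a₀ ∈ evenOdd Q 0, ∃ a₁ ∈ evenOdd Q 1, a₀ + a₁ = a := by
  have : a ∈ evenOdd Q 0 ⊔ evenOdd Q 1 := by
    rw [(evenOdd_isCompl Q).sup_eq_top]; exact Submodule.mem_top
  exact Submodule.mem_sup.mp this

/-- odd rank: the top-form functional is a trace for multiplication by vectors -/
theorem tInt_ι_mul_of_odd (hβ : β.toQuadraticMap = Q) (hn : Odd n) (x : M)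
    (a : CliffordAlgebra Q) : tInt b hβ (ι Q x * a) = tInt b hβ (a * ι Q x) := by
  have hn1 : (n : ZMod 2) = 1 := (ZMod.natCast_eq_one_iff_odd).mpr hn
  have hn0 : (0 : ZMod 2) ≠ (n : ZMod 2) := by rw [hn1]; decide
  obtain ⟨a₀, h₀, a₁, h₁, rfl⟩ := exists_even_add_odd a
  have e0 : tInt b hβ (ι Q x * a₀) = tInt b hβ (a₀ * ι Q x) := by
    have := ι_mul_sub_involute_mul_ι Q x a₀
    rw [involute_eq_of_mem_even h₀] at this
    have h2 := congrArg (tInt b hβ) this
    rw [tInt_contract, map_sub, sub_eq_zero] at h2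
    exact h2
  have e1 : tInt b hβ (ι Q x * a₁) = tInt b hβ (a₁ * ι Q x) := by
    rw [tInt_even b hβ hn0 (ι_mul_mem_even Q x h₁), tInt_even b hβ hn0 (mul_ι_mem_even Q x h₁)]
  rw [mul_add, add_mul, map_add, map_add, e0, e1]

/-- even rank: the top-form functional is a super-trace for multiplication by vectors -/
theorem tInt_ι_mul_of_even (hβ : β.toQuadraticMap = Q) (hn : Even n) (x : M)
    (a : CliffordAlgebra Q) : tInt b hβ (ι Q x * a) = -tInt b hβ (a * ι Q x) := by
  have hn0 : (n : ZMod 2) = 0 := (ZMod.natCast_eq_zero_iff_even).mpr hn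
  have hn1 : (1 : ZMod 2) ≠ (n : ZMod 2) := by rw [hn0]; decide
  obtain ⟨a₀, h₀, a₁, h₁, rfl⟩ := exists_even_add_odd a
  have e0 : tInt b hβ (ι Q x * a₀) = -tInt b hβ (a₀ * ι Q x) := by
    rw [tInt_odd b hβ hn1 (ι_mul_mem_odd Q x h₀), tInt_odd b hβ hn1 (mul_ι_mem_odd Q x h₀),
      neg_zero]
  have e1 : tInt b hβ (ι Q x * a₁) = -tInt b hβ (a₁ * ι Q x) := by
    have := ι_mul_sub_involute_mul_ι Q x a₁
    rw [involute_eq_of_mem_odd h₁] at this
    have h2 := congrArg (tInt b hβ) this
    rw [tInt_contract, neg_mul, sub_neg_eq_add, map_add] at h2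
    exact eq_neg_of_add_eq_zero_left h2
  rw [mul_add, add_mul, map_add, map_add, e0, e1, neg_add]

theorem tInt_mul_comm_of_odd (hβ : β.toQuadraticMap = Q) (hn : Odd n)
    (c a : CliffordAlgebra Q) : tInt b hβ (c * a) = tInt b hβ (a * c) := by
  induction c using CliffordAlgebra.left_induction generalizing a with
  | algebraMap r => rw [Algebra.commutes]
  | add c c' hc hc' => rw [add_mul, mul_add, map_add, map_add, hc, hc']
  | ι_mul c m ih =>
    rw [mul_assoc, tInt_ι_mul_of_odd b hβ hn, mul_assoc, ih, mul_assoc]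

theorem tInt_mul_comm_of_even_even (hβ : β.toQuadraticMap = Q) (hn : Even n)
    {c : CliffordAlgebra Q} (hc : c ∈ evenOdd Q 0) (a : CliffordAlgebra Q) :
    tInt b hβ (c * a) = tInt b hβ (a * c) := by
  induction c, hc using even_induction generalizing a with
  | algebraMap r => rw [Algebra.commutes]
  | add c c' _ _ hc hc' => rw [add_mul, mul_add, map_add, map_add, hc, hc']
  | ι_mul_ι_mul m₁ m₂ c _ ih =>
    rw [mul_assoc, mul_assoc, tInt_ι_mul_of_even b hβ hn, mul_assoc, mul_assoc,
      tInt_ι_mul_of_even b hβ hn, neg_neg, mul_assoc, mul_assoc, ih]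
    simp only [mul_assoc]

theorem tInt_mul_comm_of_even_odd (hβ : β.toQuadraticMap = Q) (hn : Even n)
    {c : CliffordAlgebra Q} (hc : c ∈ evenOdd Q 1) (a : CliffordAlgebra Q) :
    tInt b hβ (c * a) = -tInt b hβ (a * c) := by
  induction c, hc using odd_induction generalizing a with
  | ι v => exact tInt_ι_mul_of_even b hβ hn v a
  | add c c' _ _ hc hc' => rw [add_mul, mul_add, map_add, map_add, hc, hc', neg_add]
  | ι_mul_ι_mul m₁ m₂ c _ ih =>
    rw [mul_assoc, mul_assoc, tInt_ι_mul_of_even b hβ hn, mul_assoc, mul_assoc,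
      tInt_ι_mul_of_even b hβ hn, neg_neg, mul_assoc, mul_assoc, ih]
    simp only [mul_assoc]

end Top

/-! ### conjugation and determinants -/

theorem lp_map_conj (Q : QuadraticForm R M) (u : (CliffordAlgebra Q)ˣ) (g : M → M)
    (hg : ∀ v, (u : CliffordAlgebra Q) * ι Q v * ↑u⁻¹ = ι Q (g v)) (l : List M) :
    lp Q (l.map g) = (u : CliffordAlgebra Q) * lp Q l * ↑u⁻¹ := by
  induction l with
  | nil => simp
  | cons x l ih =>
    rw [List.map_cons, lp_cons, lp_cons, ih, ← hg]
    simp only [mul_assoc, Units.inv_mul_cancel_left]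

/-- odd rank: conjugation by any unit normalising `M` induces a map of determinant one -/
theorem det_eq_one_of_conj_of_odd {n : ℕ} (b : Module.Basis (Fin n) R M) (hn : Odd n)
    (Q : QuadraticForm R M) (u : (CliffordAlgebra Q)ˣ) (g : M →ₗ[R] M)
    (hg : ∀ v, (u : CliffordAlgebra Q) * ι Q v * ↑u⁻¹ = ι Q (g v)) : LinearMap.det g = 1 := by
  haveI : Module.Free R M := Module.Free.of_basis b
  obtain ⟨β, hβ⟩ := LinearMap.BilinMap.toQuadraticMap_surjective Q
  have h1 : tInt b hβ (lp Q (List.ofFn (g ∘ b))) = tInt b hβ (lp Q (List.ofFn b)) := by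
    rw [← List.map_ofFn, lp_map_conj Q u g hg, mul_assoc, tInt_mul_comm_of_odd b hβ hn,
      mul_assoc, Units.inv_mul, mul_one]
  rw [tInt_lp, tInt_lp, topAlt_comp] at h1
  have hu := isUnit_topAlt b
  exact (hu.mul_left_inj).mp (by rw [h1, one_mul])

/-- even rank: conjugation by a homogeneous unit normalising `M` induces a map of determinant
`±1` according to the parity of the unit -/
theorem det_eq_one_of_conj_of_even {n : ℕ} (b : Module.Basis (Fin n) R M) (hn : Even n)
    (Q : QuadraticForm R M) (u : (CliffordAlgebra Q)ˣ) (hu0 : (u : CliffordAlgebra Q) ∈ evenOdd Q 0)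
    (g : M →ₗ[R] M)
    (hg : ∀ v, (u : CliffordAlgebra Q) * ι Q v * ↑u⁻¹ = ι Q (g v)) : LinearMap.det g = 1 := by
  haveI : Module.Free R M := Module.Free.of_basis b
  obtain ⟨β, hβ⟩ := LinearMap.BilinMap.toQuadraticMap_surjective Q
  have h1 : tInt b hβ (lp Q (List.ofFn (g ∘ b))) = tInt b hβ (lp Q (List.ofFn b)) := by
    rw [← List.map_ofFn, lp_map_conj Q u g hg, mul_assoc,
      tInt_mul_comm_of_even_even b hβ hn hu0, mul_assoc, Units.inv_mul, mul_one]
  rw [tInt_lp, tInt_lp, topAlt_comp] at h1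
  have hu := isUnit_topAlt b
  exact (hu.mul_left_inj).mp (by rw [h1, one_mul])

theorem det_eq_neg_one_of_conj_of_even {n : ℕ} (b : Module.Basis (Fin n) R M) (hn : Even n)
    (Q : QuadraticForm R M) (u : (CliffordAlgebra Q)ˣ) (hu1 : (u : CliffordAlgebra Q) ∈ evenOdd Q 1)
    (g : M →ₗ[R] M)
    (hg : ∀ v, (u : CliffordAlgebra Q) * ι Q v * ↑u⁻¹ = ι Q (g v)) : LinearMap.det g = -1 := by
  haveI : Module.Free R M := Module.Free.of_basis b
  obtain ⟨β, hβ⟩ := LinearMap.BilinMap.toQuadraticMap_surjective Q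
  have h1 : tInt b hβ (lp Q (List.ofFn (g ∘ b))) = -tInt b hβ (lp Q (List.ofFn b)) := by
    rw [← List.map_ofFn, lp_map_conj Q u g hg, mul_assoc,
      tInt_mul_comm_of_even_odd b hβ hn hu1, mul_assoc, Units.inv_mul, mul_one]
  rw [tInt_lp, tInt_lp, topAlt_comp] at h1
  have hu := isUnit_topAlt b
  exact (hu.mul_left_inj).mp (by rw [h1, neg_one_mul])

end Groth.Agent.H9.QG
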