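import Mathlib
import Groth.Prelude.Def_QuadGrp

/-! Units of the Clifford algebra normalising `M` and the isometries they induce (helper9). -/

set_option autoImplicit false

open CliffordAlgebra
open scoped Pointwise

namespace Groth.Agent.H9.QG

universe u v

variable {R : Type u} [CommRing R] {M : Type v} [AddCommGroup M] [Module R M]

theorem ι_injective [Module.Free R M] (Q : QuadraticForm R M) : Function.Injective (ι Q) := by
  obtain ⟨β, hβ⟩ := LinearMap.BilinMap.toQuadraticMap_surjective Q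
  have h : (-β).toQuadraticMap = 0 - Q := by
    rw [zero_sub, ← hβ]; exact LinearMap.BilinMap.toQuadraticMap_neg β
  intro x y hxy
  have := congrArg (changeForm h) hxy
  rw [changeForm_ι, changeForm_ι] at this
  exact ExteriorAlgebra.ι_leftInverse.injective this

theorem algebraMap_injective [Module.Free R M] (Q : QuadraticForm R M) :
    Function.Injective (algebraMap R (CliffordAlgebra Q)) := by
  obtain ⟨β, hβ⟩ := LinearMap.BilinMap.toQuadraticMap_surjective Q
  have h : (-β).toQuadraticMap = 0 - Q := by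
    rw [zero_sub, ← hβ]; exact LinearMap.BilinMap.toQuadraticMap_neg β
  intro x y hxy
  have := congrArg (changeForm h) hxy
  rw [changeForm_algebraMap, changeForm_algebraMap] at this
  exact (ExteriorAlgebra.algebraMap_leftInverse M).injective this

theorem conj_mem_range_of_mem_GPin' {Q : QuadraticForm R M} {u : (CliffordAlgebra Q)ˣ}
    (hu : u ∈ QuadGrp.GPin' Q) (m : M) :
    ∃ m', (u : CliffordAlgebra Q) * ι Q m * ↑u⁻¹ = ι Q m' := by
  rw [QuadGrp.mem_GPin'] at hu
  have h1 : ConjAct.toConjAct u • ι Q m ∈ ConjAct.toConjAct u • LinearMap.range (ι Q) :=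
    Submodule.smul_mem_pointwise_smul _ _ _ (LinearMap.mem_range_self _ m)
  rw [hu, ConjAct.units_smul_def, ConjAct.ofConjAct_toConjAct] at h1
  obtain ⟨m', hm'⟩ := h1
  exact ⟨m', hm'.symm⟩

theorem mem_GPin'_of_conj {Q : QuadraticForm R M} (u : (CliffordAlgebra Q)ˣ)
    (h1 : ∀ m, ∃ m', (u : CliffordAlgebra Q) * ι Q m * ↑u⁻¹ = ι Q m')
    (h2 : ∀ m, ∃ m', (↑u⁻¹ : CliffordAlgebra Q) * ι Q m * u = ι Q m') :
    u ∈ QuadGrp.GPin' Q := by
  rw [QuadGrp.mem_GPin']
  apply le_antisymm
  · rw [Submodule.pointwise_smul_def, Submodule.map_le_iff_le_comap]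
    rintro _ ⟨m, rfl⟩
    obtain ⟨m', hm'⟩ := h1 m
    rw [Submodule.mem_comap]
    change ConjAct.toConjAct u • ι Q m ∈ _
    rw [ConjAct.units_smul_def, ConjAct.ofConjAct_toConjAct, hm']
    exact LinearMap.mem_range_self _ _
  · rintro _ ⟨m, rfl⟩
    obtain ⟨m', hm'⟩ := h2 m
    have : ι Q m = ConjAct.toConjAct u • ι Q m' := by
      rw [ConjAct.units_smul_def, ConjAct.ofConjAct_toConjAct, ← hm']
      simp [mul_assoc]
    rw [this]
    exact Submodule.smul_mem_pointwise_smul _ _ _ (LinearMap.mem_range_self _ _)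

/-- a unit inducing an isometry by conjugation lies in the naive Clifford group -/
theorem mem_GPin'_of_equiv {Q : QuadraticForm R M} (u : (CliffordAlgebra Q)ˣ) (g : M ≃ₗ[R] M)
    (hg : ∀ v, (u : CliffordAlgebra Q) * ι Q v * ↑u⁻¹ = ι Q (g v)) : u ∈ QuadGrp.GPin' Q := by
  refine mem_GPin'_of_conj u (fun m => ⟨g m, hg m⟩) (fun m => ⟨g.symm m, ?_⟩)
  have := hg (g.symm m)
  rw [LinearEquiv.apply_symm_apply] at this
  rw [← this]
  simp [mul_assoc]

theorem exists_isometry_of_mem_GPin' [Module.Free R M] {Q : QuadraticForm R M}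
    {u : (CliffordAlgebra Q)ˣ} (hu : u ∈ QuadGrp.GPin' Q) :
    ∃ g : M ≃ₗ[R] M, g ∈ QuadGrp.O Q ∧
      ∀ v, (u : CliffordAlgebra Q) * ι Q v * ↑u⁻¹ = ι Q (g v) := by
  have hinj := ι_injective Q
  have h1 := fun m => conj_mem_range_of_mem_GPin' hu m
  have h2 := fun m => conj_mem_range_of_mem_GPin' ((QuadGrp.GPin' Q).inv_mem hu) m
  choose f hf using h1
  choose f' hf' using h2
  simp only [inv_inv] at hf'
  have hadd : ∀ x y, f (x + y) = f x + f y := fun x y => hinj (by
    rw [← hf, map_add, mul_add, add_mul, hf, hf, map_add])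
  have hsmul : ∀ (r : R) x, f (r • x) = r • f x := fun r x => hinj (by
    rw [← hf, map_smul, mul_smul_comm, smul_mul_assoc, hf, map_smul])
  have hadd' : ∀ x y, f' (x + y) = f' x + f' y := fun x y => hinj (by
    rw [← hf', map_add, mul_add, add_mul, hf', hf', map_add])
  have hsmul' : ∀ (r : R) x, f' (r • x) = r • f' x := fun r x => hinj (by
    rw [← hf', map_smul, mul_smul_comm, smul_mul_assoc, hf', map_smul])
  have h12 : ∀ x, f' (f x) = x := fun x => hinj (by
    rw [← hf', ← hf]; simp [mul_assoc])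
  have h21 : ∀ x, f (f' x) = x := fun x => hinj (by
    rw [← hf, ← hf']; simp [mul_assoc])
  let g : M ≃ₗ[R] M :=
    { toFun := f
      map_add' := hadd
      map_smul' := hsmul
      invFun := f'
      left_inv := h12
      right_inv := h21 }
  refine ⟨g, ?_, hf⟩
  rw [QuadGrp.mem_O]
  intro v
  apply algebraMap_injective Q
  change algebraMap R _ (Q (f v)) = _
  rw [← ι_sq_scalar, ← hf]
  calc (u : CliffordAlgebra Q) * ι Q v * ↑u⁻¹ * (↑u * ι Q v * ↑u⁻¹)
      = (u : CliffordAlgebra Q) * (ι Q v * ι Q v) * ↑u⁻¹ := by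
        simp only [mul_assoc, Units.inv_mul_cancel_left]
    _ = _ := by rw [ι_sq_scalar, ← Algebra.commutes, mul_assoc, Units.mul_inv, mul_one]

end Groth.Agent.H9.QG
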