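import Mathlib
import Groth.Agent.Lib.Helper9.Misc.QG1

/-! Contractions on the Clifford algebra of a free module: the common kernel of the contractions
is the scalars, and a nonzero contraction-stable submodule contains a nonzero scalar (helper9). -/

set_option autoImplicit false

open CliffordAlgebra

namespace Groth.Agent.H9.QG

universe u v

variable {R : Type u} [CommRing R] {M : Type v} [AddCommGroup M] [Module R M]
variable {n : ℕ} (b : Module.Basis (Fin n) R M) (Q : QuadraticForm R M)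

/-- span of the products of basis vectors with indices `≥ k` -/
def Ak (k : ℕ) : Submodule R (CliffordAlgebra Q) :=
  Submodule.span R {a | ∃ l : List (Fin n), (∀ j ∈ l, k ≤ j.val) ∧ lp Q (l.map b) = a}

theorem lp_mem_Ak {k : ℕ} (l : List (Fin n)) (hl : ∀ j ∈ l, k ≤ j.val) :
    lp Q (l.map b) ∈ Ak b Q k := Submodule.subset_span ⟨l, hl, rfl⟩

theorem one_mem_Ak (k : ℕ) : (1 : CliffordAlgebra Q) ∈ Ak b Q k := by
  have := lp_mem_Ak b Q (k := k) [] (by simp)
  simpa using this

theorem ι_mul_mem_Ak {k : ℕ} (j : Fin n) (hj : k ≤ j.val) {w : CliffordAlgebra Q}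
    (hw : w ∈ Ak b Q k) : ι Q (b j) * w ∈ Ak b Q k := by
  induction hw using Submodule.span_induction with
  | mem a h =>
    obtain ⟨l, hl, rfl⟩ := h
    rw [← lp_cons, ← List.map_cons]
    refine lp_mem_Ak b Q (j :: l) ?_
    intro i hi
    rcases List.mem_cons.mp hi with rfl | hi
    · exact hj
    · exact hl i hi
  | zero => rw [mul_zero]; exact Submodule.zero_mem _
  | add a c _ _ ha hc => rw [mul_add]; exact Submodule.add_mem _ ha hc
  | smul r a _ ha => rw [mul_smul_comm]; exact Submodule.smul_mem _ _ ha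

theorem Ak_zero_eq_top : Ak b Q 0 = ⊤ := by
  rw [eq_top_iff]
  intro w hw
  clear hw
  induction w using CliffordAlgebra.left_induction with
  | algebraMap r =>
    rw [Algebra.algebraMap_eq_smul_one]
    exact Submodule.smul_mem _ _ (one_mem_Ak b Q 0)
  | add x y hx hy => exact Submodule.add_mem _ hx hy
  | ι_mul x m hx =>
    have hm : ι Q m = ∑ j, b.repr m j • ι Q (b j) := by
      conv_lhs => rw [← b.sum_repr m]
      rw [map_sum]
      simp only [map_smul]
    rw [hm, Finset.sum_mul]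
    refine Submodule.sum_mem _ (fun j _ => ?_)
    rw [smul_mul_assoc]
    exact Submodule.smul_mem _ _ (ι_mul_mem_Ak b Q j (Nat.zero_le _) hx)

theorem Ak_top_le {w : CliffordAlgebra Q} (hw : w ∈ Ak b Q n) :
    ∃ r : R, algebraMap R _ r = w := by
  induction hw using Submodule.span_induction with
  | mem a h =>
    obtain ⟨l, hl, rfl⟩ := h
    have : l = [] := by
      rcases l with _ | ⟨j, l⟩
      · rfl
      · exact absurd (hl j (by simp)) (by have := j.2; omega)
    subst this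
    exact ⟨1, by simp⟩
  | zero => exact ⟨0, map_zero _⟩
  | add a c _ _ ha hc =>
    obtain ⟨r, rfl⟩ := ha
    obtain ⟨s, rfl⟩ := hc
    exact ⟨r + s, map_add _ _ _⟩
  | smul r a _ ha =>
    obtain ⟨s, rfl⟩ := ha
    exact ⟨r * s, by rw [map_mul, Algebra.smul_def]⟩

theorem contract_Ak {k : ℕ} (j : Fin n) (hj : j.val < k) {w : CliffordAlgebra Q}
    (hw : w ∈ Ak b Q k) : contractLeft (b.coord j) w = 0 := by
  induction hw using Submodule.span_induction with
  | mem a h =>
    obtain ⟨l, hl, rfl⟩ := h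
    induction l with
    | nil => simp
    | cons i l ih =>
      rw [List.map_cons, lp_cons, contractLeft_ι_mul,
        ih (fun j' hj' => hl j' (List.mem_cons_of_mem _ hj')), mul_zero, sub_zero]
      have hi : k ≤ i.val := hl i (by simp)
      have hne : i ≠ j := by
        intro h; rw [h] at hi; omega
      rw [Module.Basis.coord_apply, Module.Basis.repr_self, Finsupp.single_apply, if_neg hne,
        zero_smul]
  | zero => rw [map_zero]
  | add a c _ _ ha hc => rw [map_add, ha, hc, add_zero]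
  | smul r a _ ha => rw [map_smul, ha, smul_zero]

theorem Ak_succ_le (k : ℕ) : Ak b Q (k + 1) ≤ Ak b Q k :=
  Submodule.span_mono (fun _ ⟨l, hl, e⟩ => ⟨l, fun j hj => Nat.le_of_succ_le (hl j hj), e⟩)

/-- the decomposition `A_k = A_{k+1} + e_k A_{k+1}` -/
theorem Ak_dec {k : ℕ} (hk : k < n) {w : CliffordAlgebra Q} (hw : w ∈ Ak b Q k) :
    ∃ w₁ ∈ Ak b Q (k + 1), ∃ w₂ ∈ Ak b Q (k + 1), w = w₁ + ι Q (b ⟨k, hk⟩) * w₂ := by
  induction hw using Submodule.span_induction with
  | mem a h =>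
    obtain ⟨l, hl, rfl⟩ := h
    induction l with
    | nil => exact ⟨1, one_mem_Ak b Q _, 0, Submodule.zero_mem _, by simp⟩
    | cons j l ih =>
      obtain ⟨w₁, h₁, w₂, h₂, e⟩ := ih (fun j' hj' => hl j' (List.mem_cons_of_mem _ hj'))
      have hj : k ≤ j.val := hl j (by simp)
      rw [List.map_cons, lp_cons, e]
      rcases Nat.eq_or_lt_of_le hj with hjk | hjk
      · have hjj : j = ⟨k, hk⟩ := Fin.ext hjk.symm
        subst hjj
        refine ⟨Q (b ⟨k, hk⟩) • w₂, Submodule.smul_mem _ _ h₂, w₁, h₁, ?_⟩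
        rw [mul_add, ← mul_assoc, ι_sq_scalar, ← Algebra.smul_def, add_comm]
      · refine ⟨ι Q (b j) * w₁ + QuadraticMap.polar Q (b j) (b ⟨k, hk⟩) • w₂,
          Submodule.add_mem _ (ι_mul_mem_Ak b Q j hjk h₁) (Submodule.smul_mem _ _ h₂),
          -(ι Q (b j) * w₂), Submodule.neg_mem _ (ι_mul_mem_Ak b Q j hjk h₂), ?_⟩
        have h1 : ι Q (b j) * ι Q (b ⟨k, hk⟩) =
            algebraMap R _ (QuadraticMap.polar Q (b j) (b ⟨k, hk⟩)) -
              ι Q (b ⟨k, hk⟩) * ι Q (b j) := eq_sub_of_add_eq (ι_mul_ι_add_swap _ _)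
        rw [mul_add, ← mul_assoc, h1, sub_mul, ← Algebra.smul_def, mul_neg, mul_assoc]
        abel
  | zero => exact ⟨0, Submodule.zero_mem _, 0, Submodule.zero_mem _, by simp⟩
  | add a c _ _ ha hc =>
    obtain ⟨a₁, ha₁, a₂, ha₂, rfl⟩ := ha
    obtain ⟨c₁, hc₁, c₂, hc₂, rfl⟩ := hc
    refine ⟨a₁ + c₁, Submodule.add_mem _ ha₁ hc₁, a₂ + c₂, Submodule.add_mem _ ha₂ hc₂, ?_⟩
    rw [mul_add]; abel
  | smul r a _ ha =>
    obtain ⟨a₁, ha₁, a₂, ha₂, rfl⟩ := ha
    refine ⟨r • a₁, Submodule.smul_mem _ _ ha₁, r • a₂, Submodule.smul_mem _ _ ha₂, ?_⟩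
    rw [smul_add, mul_smul_comm]

theorem contract_dec {k : ℕ} (hk : k < n) {w₁ w₂ : CliffordAlgebra Q}
    (h₁ : w₁ ∈ Ak b Q (k + 1)) (h₂ : w₂ ∈ Ak b Q (k + 1)) :
    contractLeft (b.coord ⟨k, hk⟩) (w₁ + ι Q (b ⟨k, hk⟩) * w₂) = w₂ := by
  rw [map_add, contract_Ak b Q ⟨k, hk⟩ (Nat.lt_succ_self k) h₁, contractLeft_ι_mul,
    contract_Ak b Q ⟨k, hk⟩ (Nat.lt_succ_self k) h₂, mul_zero, sub_zero, zero_add,
    Module.Basis.coord_apply, Module.Basis.repr_self, Finsupp.single_eq_same, one_smul]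

/-- an element killed by all the contractions by the dual basis is a scalar -/
theorem scalar_of_contract_eq_zero (a : CliffordAlgebra Q)
    (h : ∀ j, contractLeft (b.coord j) a = 0) : ∃ r : R, algebraMap R _ r = a := by
  have key : ∀ k, k ≤ n → a ∈ Ak b Q k := by
    intro k
    induction k with
    | zero => intro _; rw [Ak_zero_eq_top]; exact Submodule.mem_top
    | succ k ih =>
      intro hk
      have hk' : k < n := hk
      obtain ⟨w₁, h₁, w₂, h₂, e⟩ := Ak_dec b Q hk' (ih (Nat.le_of_succ_le hk))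
      have := h ⟨k, hk'⟩
      rw [e, contract_dec b Q hk' h₁ h₂] at this
      rw [e, this, mul_zero, add_zero]
      exact h₁
  exact Ak_top_le b Q (key n le_rfl)

/-- a nonzero submodule stable under the contractions by the dual basis contains a nonzero scalar -/
theorem exists_scalar_mem_of_contract_stable (V : Submodule R (CliffordAlgebra Q))
    (hV : ∀ j, ∀ a ∈ V, contractLeft (b.coord j) a ∈ V) (a : CliffordAlgebra Q) (haV : a ∈ V)
    (ha : a ≠ 0) : ∃ r : R, algebraMap R (CliffordAlgebra Q) r ∈ V ∧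
      algebraMap R (CliffordAlgebra Q) r ≠ 0 := by
  have key : ∀ k, k ≤ n → ∃ w ∈ V, w ∈ Ak b Q k ∧ w ≠ 0 := by
    intro k
    induction k with
    | zero => intro _; exact ⟨a, haV, by rw [Ak_zero_eq_top]; exact Submodule.mem_top, ha⟩
    | succ k ih =>
      intro hk
      have hk' : k < n := hk
      obtain ⟨w, hwV, hwA, hw0⟩ := ih (Nat.le_of_succ_le hk)
      obtain ⟨w₁, h₁, w₂, h₂, e⟩ := Ak_dec b Q hk' hwA
      have hc := hV ⟨k, hk'⟩ w hwV
      rw [e, contract_dec b Q hk' h₁ h₂] at hc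
      by_cases hw2 : w₂ = 0
      · refine ⟨w, hwV, ?_, hw0⟩
        rw [e, hw2, mul_zero, add_zero]; exact h₁
      · exact ⟨w₂, hc, h₂, hw2⟩
  obtain ⟨w, hwV, hwA, hw0⟩ := key n le_rfl
  obtain ⟨r, rfl⟩ := Ak_top_le b Q hwA
  exact ⟨r, hwV, hw0⟩

end Groth.Agent.H9.QG
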