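import Mathlib
import Groth.Agent.Lib.Helper9.Misc.QG1
import Groth.Agent.Lib.Helper9.Misc.QG2
import Groth.Agent.Lib.Helper9.Misc.QG4

/-! A "good" generator `y` of the centre of the even Clifford algebra (even rank, regular form)
and its consequences: parity detection, centre, centre of the even part (helper9). -/

set_option autoImplicit false

open CliffordAlgebra

namespace Groth.Agent.H9.QG

universe u v

variable {R : Type u} [CommRing R] {M : Type v} [AddCommGroup M] [Module R M]

/-- `y` is even, `y v = v (1 - y)` for all vectors `v`, and `1 - 2y` is a unit. -/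
structure Good (Q : QuadraticForm R M) (y : CliffordAlgebra Q) : Prop where
  even : y ∈ evenOdd Q 0
  comm : ∀ x, y * ι Q x = ι Q x * (1 - y)
  unit : IsUnit (1 - 2 * y)

theorem map_mem_even {M' : Type*} [AddCommGroup M'] [Module R M'] {Q : QuadraticForm R M}
    {Q' : QuadraticForm R M'} (f : Q →qᵢ Q') {a : CliffordAlgebra Q} (ha : a ∈ evenOdd Q 0) :
    CliffordAlgebra.map f a ∈ evenOdd Q' 0 := by
  induction a, ha using even_induction with
  | algebraMap r => rw [AlgHom.commutes]; exact SetLike.algebraMap_mem_graded _ _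
  | add x y _ _ ihx ihy => rw [map_add]; exact Submodule.add_mem _ ihx ihy
  | ι_mul_ι_mul m₁ m₂ x hx ih =>
    rw [map_mul, map_mul, map_apply_ι, map_apply_ι]
    have := SetLike.mul_mem_graded (ι_mul_ι_mem_evenOdd_zero Q' (f m₁) (f m₂)) ih
    rwa [add_zero] at this

theorem map_mem_odd {M' : Type*} [AddCommGroup M'] [Module R M'] {Q : QuadraticForm R M}
    {Q' : QuadraticForm R M'} (f : Q →qᵢ Q') {a : CliffordAlgebra Q} (ha : a ∈ evenOdd Q 1) :
    CliffordAlgebra.map f a ∈ evenOdd Q' 1 := by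
  induction a, ha using odd_induction with
  | ι v => rw [map_apply_ι]; exact ι_mem_evenOdd_one _ _
  | add x y _ _ ihx ihy => rw [map_add]; exact Submodule.add_mem _ ihx ihy
  | ι_mul_ι_mul m₁ m₂ x hx ih =>
    rw [map_mul, map_mul, map_apply_ι, map_apply_ι]
    have := SetLike.mul_mem_graded (ι_mul_ι_mem_evenOdd_zero Q' (f m₁) (f m₂)) ih
    rwa [zero_add] at this

namespace Good

variable {Q : QuadraticForm R M} {y : CliffordAlgebra Q}

theorem comm' (hy : Good Q y) (x : M) : (1 - y) * ι Q x = ι Q x * y := by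
  rw [sub_mul, one_mul, hy.comm]; noncomm_ring

theorem comm2 (hy : Good Q y) (m₁ m₂ : M) : y * (ι Q m₁ * ι Q m₂) = ι Q m₁ * ι Q m₂ * y := by
  rw [← mul_assoc, hy.comm, mul_assoc, hy.comm', mul_assoc]

theorem W_anticomm (hy : Good Q y) (x : M) :
    (1 - 2 * y) * ι Q x = -(ι Q x * (1 - 2 * y)) := by
  rw [sub_mul, one_mul, mul_assoc, hy.comm]; noncomm_ring

theorem comm_even (hy : Good Q y) {a : CliffordAlgebra Q} (ha : a ∈ evenOdd Q 0) :
    y * a = a * y := by
  induction a, ha using even_induction with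
  | algebraMap r => exact (Algebra.commutes r y).symm
  | add x z _ _ ihx ihz => rw [mul_add, add_mul, ihx, ihz]
  | ι_mul_ι_mul m₁ m₂ x hx ih => rw [← mul_assoc, hy.comm2, mul_assoc, ih, ← mul_assoc]

theorem comm_odd (hy : Good Q y) {a : CliffordAlgebra Q} (ha : a ∈ evenOdd Q 1) :
    y * a = a * (1 - y) := by
  induction a, ha using odd_induction with
  | ι v => exact hy.comm v
  | add x z _ _ ihx ihz => rw [mul_add, add_mul, ihx, ihz]
  | ι_mul_ι_mul m₁ m₂ x hx ih => rw [← mul_assoc, hy.comm2, mul_assoc, ih, ← mul_assoc]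

theorem mem_even_of_comm (hy : Good Q y) {a : CliffordAlgebra Q} (h : y * a = a * y) :
    a ∈ evenOdd Q 0 := by
  obtain ⟨a₀, h₀, a₁, h₁, rfl⟩ := exists_even_add_odd a
  have e : a₁ * (1 - 2 * y) = 0 := by
    rw [mul_add, add_mul, hy.comm_even h₀, hy.comm_odd h₁] at h
    have h2 : a₁ * (1 - y) = a₁ * y := add_left_cancel h
    calc a₁ * (1 - 2 * y) = a₁ * (1 - y) - a₁ * y := by noncomm_ring
      _ = 0 := by rw [h2, sub_self]
  rw [(hy.unit.mul_left_eq_zero).mp e, add_zero]
  exact h₀

theorem mem_odd_of_comm (hy : Good Q y) {a : CliffordAlgebra Q} (h : y * a = a * (1 - y)) :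
    a ∈ evenOdd Q 1 := by
  obtain ⟨a₀, h₀, a₁, h₁, rfl⟩ := exists_even_add_odd a
  have e : a₀ * (1 - 2 * y) = 0 := by
    rw [mul_add, add_mul, hy.comm_even h₀, hy.comm_odd h₁] at h
    have h2 : a₀ * y = a₀ * (1 - y) := add_right_cancel h
    calc a₀ * (1 - 2 * y) = a₀ * (1 - y) - a₀ * y := by noncomm_ring
      _ = 0 := by rw [h2, sub_self]
  rw [(hy.unit.mul_left_eq_zero).mp e, zero_add]
  exact h₁

end Good

/-- an even element commuting with all vectors is a scalar (regular form on a finite free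
module) -/
theorem scalar_of_even_comm {n : ℕ} (b : Module.Basis (Fin n) R M) {Q : QuadraticForm R M}
    (hQ : QuadGrp.IsRegular Q) {a : CliffordAlgebra Q} (ha : a ∈ evenOdd Q 0)
    (h : ∀ x, ι Q x * a = a * ι Q x) : ∃ r : R, algebraMap R _ r = a := by
  apply scalar_of_contract_eq_zero b Q a
  intro j
  obtain ⟨x, hx⟩ := hQ.2 (b.coord j)
  rw [← hx, ← ι_mul_sub_involute_mul_ι, involute_eq_of_mem_even ha, h x, sub_self]

namespace Good

variable {Q : QuadraticForm R M} {y : CliffordAlgebra Q}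

/-- the centre of the Clifford algebra is the scalars -/
theorem center_eq {n : ℕ} (b : Module.Basis (Fin n) R M) (hQ : QuadGrp.IsRegular Q)
    (hy : Good Q y) {a : CliffordAlgebra Q} (h : ∀ c, c * a = a * c) :
    ∃ r : R, algebraMap R _ r = a :=
  scalar_of_even_comm b hQ (hy.mem_even_of_comm (h y)) (fun x => h _)

theorem one_sub_even (hy : Good Q y) : 1 - y ∈ evenOdd Q 0 :=
  Submodule.sub_mem _ (SetLike.one_mem_graded _) hy.even

theorem norm {n : ℕ} (b : Module.Basis (Fin n) R M) (hQ : QuadGrp.IsRegular Q)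
    (hy : Good Q y) : ∃ N : R, algebraMap R _ N = y * (1 - y) := by
  apply scalar_of_even_comm b hQ
  · have := SetLike.mul_mem_graded hy.even hy.one_sub_even
    rwa [add_zero] at this
  · intro x
    have e : (1 - y) * y = y * (1 - y) := by noncomm_ring
    rw [← mul_assoc, ← hy.comm', mul_assoc, ← hy.comm, ← mul_assoc, e]

theorem W_sq {N : R} (hN : algebraMap R _ N = y * (1 - y)) :
    (1 - 2 * y) * (1 - 2 * y) = algebraMap R (CliffordAlgebra Q) (1 - 4 * N) := by
  rw [map_sub, map_one, map_mul, hN, map_ofNat]; noncomm_ring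

/-- the centre of the even Clifford algebra is spanned by `1` and `y` -/
theorem center_even {n : ℕ} (b : Module.Basis (Fin n) R M) (hQ : QuadGrp.IsRegular Q)
    (hy : Good Q y) (x₀ : M) (hx₀ : IsUnit (Q x₀)) {a : CliffordAlgebra Q}
    (ha : a ∈ evenOdd Q 0) (hc : ∀ c ∈ evenOdd Q 0, c * a = a * c) :
    ∃ r s : R, a = algebraMap R _ r + s • y := by
  obtain ⟨q', hq'⟩ := hx₀.exists_right_inv
  set v := ι Q x₀ with hv
  have hvv : v * v = algebraMap R _ (Q x₀) := ι_sq_scalar Q x₀
  set a' : CliffordAlgebra Q := q' • (v * a * v) with ha'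
  have ha'e : a' ∈ evenOdd Q 0 :=
    Submodule.smul_mem _ _ (mul_ι_mem_even Q x₀ (ι_mul_mem_odd Q x₀ ha))
  have c1 : ∀ x, a * ι Q x = ι Q x * a' := by
    intro x
    have h1 := hc (ι Q x * v) (ι_mul_ι_mem_evenOdd_zero Q x x₀)
    calc a * ι Q x = (Q x₀ * q') • (a * ι Q x) := by rw [hq', one_smul]
      _ = q' • (a * ι Q x * (v * v)) := by
          rw [hvv, ← Algebra.commutes, ← Algebra.smul_def, smul_smul, mul_comm]
      _ = q' • (a * (ι Q x * v) * v) := by simp only [mul_assoc]
      _ = q' • (ι Q x * v * a * v) := by rw [← h1]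
      _ = ι Q x * a' := by rw [ha', mul_smul_comm]; simp only [mul_assoc]
  have c2 : ∀ x, a' * ι Q x = ι Q x * a := by
    intro x
    have h1 := hc (v * ι Q x) (ι_mul_ι_mem_evenOdd_zero Q x₀ x)
    calc a' * ι Q x = q' • (v * (a * (v * ι Q x))) := by
          rw [ha', smul_mul_assoc]; simp only [mul_assoc]
      _ = q' • (v * (v * ι Q x * a)) := by rw [← h1]
      _ = q' • ((v * v) * (ι Q x * a)) := by simp only [mul_assoc]
      _ = (Q x₀ * q') • (ι Q x * a) := by
          rw [hvv, ← Algebra.smul_def, smul_smul, mul_comm]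
      _ = ι Q x * a := by rw [hq', one_smul]
  obtain ⟨u, hu⟩ := hy.unit
  set W := 1 - 2 * y with hW
  set W' : CliffordAlgebra Q := ↑u⁻¹ with hW'
  have hWW' : W * W' = 1 := by rw [← hu, hW', Units.mul_inv]
  have hW'W : W' * W = 1 := by rw [← hu, hW', Units.inv_mul]
  have hWe : W ∈ evenOdd Q 0 := by
    refine Submodule.sub_mem _ (SetLike.one_mem_graded _) ?_
    have : (2 : CliffordAlgebra Q) * y = (2 : R) • y := by
      rw [Algebra.smul_def, map_ofNat]
    rw [this]
    exact Submodule.smul_mem _ _ hy.even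
  have hW'e : W' ∈ evenOdd Q 0 := by
    have hmem : u ∈ QuadGrp.evenUnits Q := by
      rw [QuadGrp.mem_evenUnits, hu]; exact hWe
    exact (QuadGrp.mem_evenUnits Q _).mp ((QuadGrp.evenUnits Q).inv_mem hmem)
  have hW'anti : ∀ x, W' * ι Q x = -(ι Q x * W') := by
    intro x
    have h1 := hy.W_anticomm x
    calc W' * ι Q x = W' * ι Q x * (W * W') := by rw [hWW', mul_one]
      _ = W' * (ι Q x * W) * W' := by simp only [mul_assoc]
      _ = W' * (-(W * ι Q x)) * W' := by rw [h1, neg_neg]
      _ = -((W' * W) * ι Q x * W') := by simp only [mul_assoc, mul_neg, neg_mul]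
      _ = -(ι Q x * W') := by rw [hW'W, one_mul]
  -- the scalar `s`
  set D := a - a' with hD
  have hDanti : ∀ x, D * ι Q x = -(ι Q x * D) := by
    intro x
    rw [hD, sub_mul, c1, c2, mul_sub]; abel
  obtain ⟨s, hs⟩ := scalar_of_even_comm b hQ (a := D * W')
    (by
      have := SetLike.mul_mem_graded (Submodule.sub_mem _ ha ha'e) hW'e
      rwa [add_zero] at this)
    (fun x => by
      have e1 : D * W' * ι Q x = D * (W' * ι Q x) := mul_assoc _ _ _
      rw [e1, hW'anti, mul_neg, ← mul_assoc D, hDanti, neg_mul, neg_neg, mul_assoc])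
  have hDs : D = s • W := by
    have : D = D * W' * W := by rw [mul_assoc, hW'W, mul_one]
    rw [this, ← hs, ← Algebra.smul_def]
  -- the scalar `r`
  obtain ⟨r, hr⟩ := scalar_of_even_comm b hQ (a := a + s • y)
    (Submodule.add_mem _ ha (Submodule.smul_mem _ _ hy.even))
    (fun x => by
      have e1 : a' + s • (1 - y) = a + s • y := by
        have h2 : a - a' = s • (1 - 2 * y) := hDs
        have h3 : a' = a - s • (1 - 2 * y) := by rw [← h2]; abel
        rw [h3, smul_sub, smul_sub, two_mul, smul_add]; abel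
      calc ι Q x * (a + s • y) = ι Q x * (a' + s • (1 - y)) := by rw [e1]
        _ = ι Q x * a' + s • (ι Q x * (1 - y)) := by rw [mul_add, mul_smul_comm s]
        _ = a * ι Q x + s • (y * ι Q x) := by rw [c1, hy.comm]
        _ = (a + s • y) * ι Q x := by rw [add_mul, smul_mul_assoc])
  refine ⟨r, -s, ?_⟩
  rw [hr, neg_smul]; abel

end Good

end Groth.Agent.H9.QG
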