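import Mathlib
import Groth.Prelude.Def_QuadGrp

/-! Splitting off a regular plane from a regular quadratic module (helper9). -/

set_option autoImplicit false

open QuadraticMap

namespace Groth.Agent.H9.QG

universe u v

variable {R : Type u} [CommRing R] {M : Type v} [AddCommGroup M] [Module R M]

section Plane

variable (Q : QuadraticForm R M) (e f : M) (d' : R)

/-- coefficient of `e` in the orthogonal projection onto the plane `⟨e, f⟩` -/
noncomputable def alpha : M →ₗ[R] R := d' • (polarBilin Q f - (2 * Q f) • polarBilin Q e)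

/-- coefficient of `f` -/
noncomputable def beta : M →ₗ[R] R := d' • (polarBilin Q e - (2 * Q e) • polarBilin Q f)

theorem alpha_apply (x : M) : alpha Q e f d' x = d' * (polar Q f x - 2 * Q f * polar Q e x) := by
  simp [alpha]

theorem beta_apply (x : M) : beta Q e f d' x = d' * (polar Q e x - 2 * Q e * polar Q f x) := by
  simp [beta]

/-- the orthogonal complement of the plane -/
def Nsub : Submodule R M := LinearMap.ker (polarBilin Q e) ⊓ LinearMap.ker (polarBilin Q f)

theorem mem_Nsub (x : M) : x ∈ Nsub Q e f ↔ polar Q e x = 0 ∧ polar Q f x = 0 := by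
  simp [Nsub]

/-- the projection onto the complement -/
noncomputable def proj : M →ₗ[R] M :=
  LinearMap.id - (alpha Q e f d').smulRight e - (beta Q e f d').smulRight f

theorem proj_apply (x : M) :
    proj Q e f d' x = x - alpha Q e f d' x • e - beta Q e f d' x • f := by
  simp [proj]

variable {Q e f d'}
variable (hef : polar Q e f = 1) (hd : (1 - 4 * Q e * Q f) * d' = 1)

include hef hd

theorem alpha_e : alpha Q e f d' e = 1 := by
  rw [alpha_apply, polar_comm, hef, polar_self]
  linear_combination hd

theorem alpha_f : alpha Q e f d' f = 0 := by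
  rw [alpha_apply, hef, polar_self]
  ring

theorem beta_e : beta Q e f d' e = 0 := by
  rw [beta_apply, polar_comm Q f e, hef, polar_self]
  ring

theorem beta_f : beta Q e f d' f = 1 := by
  rw [beta_apply, hef, polar_self]
  linear_combination hd

omit hef hd in
theorem alpha_N {x : M} (hx : x ∈ Nsub Q e f) : alpha Q e f d' x = 0 := by
  rw [mem_Nsub] at hx
  rw [alpha_apply, hx.1, hx.2]; ring

omit hef hd in
theorem beta_N {x : M} (hx : x ∈ Nsub Q e f) : beta Q e f d' x = 0 := by
  rw [mem_Nsub] at hx
  rw [beta_apply, hx.1, hx.2]; ring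

theorem proj_mem (x : M) : proj Q e f d' x ∈ Nsub Q e f := by
  rw [mem_Nsub, proj_apply]
  constructor
  · rw [polar_sub_right, polar_sub_right, polar_smul_right, polar_smul_right, polar_self, hef,
      smul_eq_mul, smul_eq_mul, alpha_apply, beta_apply]
    linear_combination (-(polar Q e x)) * hd
  · rw [polar_sub_right, polar_sub_right, polar_smul_right, polar_smul_right, polar_self,
      polar_comm Q f e, hef, smul_eq_mul, smul_eq_mul, alpha_apply, beta_apply]
    linear_combination (-(polar Q f x)) * hd

omit hef hd in
theorem proj_N {x : M} (hx : x ∈ Nsub Q e f) : proj Q e f d' x = x := by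
  rw [proj_apply, alpha_N hx, beta_N hx, zero_smul, zero_smul, sub_zero, sub_zero]

omit hef hd in
theorem decomp (x : M) :
    x = alpha Q e f d' x • e + beta Q e f d' x • f + proj Q e f d' x := by
  rw [proj_apply]; abel

/-- the projection as a map to the complement -/
noncomputable def projN : M →ₗ[R] Nsub Q e f :=
  (proj Q e f d').codRestrict _ (proj_mem hef hd)

theorem projN_coe (x : M) : (projN hef hd x : M) = proj Q e f d' x := rfl

theorem projN_N (x : Nsub Q e f) : projN hef hd (x : M) = x :=
  Subtype.ext (proj_N x.2)

theorem projN_surjective : Function.Surjective (projN hef hd) :=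
  fun x => ⟨x, projN_N hef hd x⟩

/-- `M ≃ R × R × N` -/
noncomputable def splitEquiv : M ≃ₗ[R] (R × R) × Nsub Q e f where
  toFun x := ((alpha Q e f d' x, beta Q e f d' x), projN hef hd x)
  map_add' x y := by simp
  map_smul' r x := by simp
  invFun p := p.1.1 • e + p.1.2 • f + (p.2 : M)
  left_inv x := by
    change alpha Q e f d' x • e + beta Q e f d' x • f + proj Q e f d' x = x
    exact (decomp x).symm
  right_inv p := by
    obtain ⟨⟨s, t⟩, x⟩ := p
    have h1 : alpha Q e f d' (s • e + t • f + (x : M)) = s := by
      rw [map_add, map_add, map_smul, map_smul, alpha_e hef hd, alpha_f hef hd, alpha_N x.2]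
      simp
    have h2 : beta Q e f d' (s • e + t • f + (x : M)) = t := by
      rw [map_add, map_add, map_smul, map_smul, beta_e hef hd, beta_f hef hd, beta_N x.2]
      simp
    have h3 : projN hef hd (s • e + t • f + (x : M)) = x := by
      apply Subtype.ext
      rw [projN_coe, proj_apply, h1, h2]
      abel
    change ((alpha Q e f d' _, beta Q e f d' _), projN hef hd _) = _
    rw [h1, h2, h3]

/-- the restriction of the form to the complement -/
noncomputable def QN : QuadraticForm R (Nsub Q e f) := Q.comp (Nsub Q e f).subtype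

omit hef hd in
theorem QN_apply (x : Nsub Q e f) : QN (Q := Q) (e := e) (f := f) x = Q (x : M) := rfl

omit hef hd in
theorem polar_QN (x y : Nsub Q e f) :
    polar (QN (Q := Q) (e := e) (f := f)) x y = polar Q (x : M) (y : M) := by
  simp [polar, QN_apply]

theorem isRegular_QN (hQ : QuadGrp.IsRegular Q) :
    QuadGrp.IsRegular (QN (Q := Q) (e := e) (f := f)) := by
  constructor
  · rw [injective_iff_map_eq_zero]
    intro x hx
    have h0 : polarBilin Q (x : M) = 0 := by
      ext z
      rw [polarBilin_apply_apply, LinearMap.zero_apply,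
        decomp (Q := Q) (e := e) (f := f) (d' := d') z, polar_add_right,
        polar_add_right, polar_smul_right, polar_smul_right]
      have hxN := (mem_Nsub Q e f _).mp x.2
      have h3 := LinearMap.congr_fun hx (projN hef hd z)
      rw [polarBilin_apply_apply, polar_QN, projN_coe, LinearMap.zero_apply] at h3
      rw [polar_comm Q _ e, polar_comm Q _ f, hxN.1, hxN.2, h3]
      simp
    have := hQ.1 (h0.trans (map_zero _).symm)
    exact Subtype.ext this
  · intro φ
    obtain ⟨x, hx⟩ := hQ.2 (φ ∘ₗ projN hef hd)
    refine ⟨projN hef hd x, ?_⟩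
    ext y
    rw [polarBilin_apply_apply, polar_QN, projN_coe, proj_apply, polar_sub_left, polar_sub_left,
      polar_smul_left, polar_smul_left]
    have hyN := (mem_Nsub Q e f _).mp y.2
    have h3 := LinearMap.congr_fun hx (y : M)
    rw [polarBilin_apply_apply, LinearMap.comp_apply, projN_N] at h3
    rw [hyN.1, hyN.2, h3]
    simp

theorem finite_N [Module.Finite R M] : Module.Finite R (Nsub Q e f) :=
  Module.Finite.of_surjective (projN hef hd) (projN_surjective hef hd)

theorem projective_N [Module.Projective R M] : Module.Projective R (Nsub Q e f) :=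
  Module.Projective.of_split (Nsub Q e f).subtype (projN hef hd)
    (LinearMap.ext fun x => projN_N hef hd x)

theorem free_N [IsLocalRing R] [Module.Free R M] [Module.Finite R M] :
    Module.Free R (Nsub Q e f) := by
  haveI := finite_N hef hd
  haveI := projective_N hef hd
  exact Module.free_of_flat_of_isLocalRing

theorem finrank_N [IsLocalRing R] [Module.Free R M] [Module.Finite R M] :
    Module.finrank R M = 2 + Module.finrank R (Nsub Q e f) := by
  haveI := finite_N hef hd
  haveI := free_N hef hd
  rw [(splitEquiv hef hd).finrank_eq, Module.finrank_prod, Module.finrank_prod,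
    Module.finrank_self]

end Plane

/-! ### existence of a regular plane over a local ring -/

theorem exists_plane [IsLocalRing R] [Module.Free R M] [Module.Finite R M]
    (Q : QuadraticForm R M) (hQ : QuadGrp.IsRegular Q) (hM : 2 ≤ Module.finrank R M) :
    ∃ e f : M, polar Q e f = 1 ∧ IsUnit (1 - 4 * Q e * Q f) := by
  classical
  let b := Module.finBasis R M
  let i0 : Fin (Module.finrank R M) := ⟨0, by omega⟩
  let i1 : Fin (Module.finrank R M) := ⟨1, by omega⟩
  have h01 : i0 ≠ i1 := by
    intro h; have := congrArg Fin.val h; simp [i0, i1] at this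
  obtain ⟨f₀, hf₀⟩ := hQ.2 (b.coord i0)
  set e₀ := b i0 with he₀
  have hef₀ : polar Q e₀ f₀ = 1 := by
    have := LinearMap.congr_fun hf₀ e₀
    rw [polarBilin_apply_apply, Module.Basis.coord_apply, he₀, Module.Basis.repr_self,
      Finsupp.single_eq_same] at this
    rw [polar_comm]; exact this
  by_cases hu : IsUnit (1 - 4 * Q e₀ * Q f₀)
  · exact ⟨e₀, f₀, hef₀, hu⟩
  · have hu4 : IsUnit (4 * Q e₀ * Q f₀) :=
      (IsLocalRing.isUnit_or_isUnit_one_sub_self _).resolve_right hu
    have h2a : IsUnit (2 * Q e₀) := by
      have : 4 * Q e₀ * Q f₀ = (2 * Q e₀) * (2 * Q f₀) := by ring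
      rw [this] at hu4
      exact isUnit_of_mul_isUnit_left hu4
    have h2 : IsUnit (2 : R) := isUnit_of_mul_isUnit_left h2a
    have ha : IsUnit (Q e₀) := isUnit_of_mul_isUnit_right h2a
    obtain ⟨t, ht⟩ := h2a.exists_left_inv
    obtain ⟨g, hg⟩ := hQ.2 (b.coord i1)
    have hge : polar Q g e₀ = 0 := by
      have := LinearMap.congr_fun hg e₀
      rw [polarBilin_apply_apply, Module.Basis.coord_apply, he₀, Module.Basis.repr_self,
        Finsupp.single_apply, if_neg h01] at this
      exact this
    have hg1 : polar Q g (b i1) = 1 := by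
      have := LinearMap.congr_fun hg (b i1)
      rw [polarBilin_apply_apply, Module.Basis.coord_apply, Module.Basis.repr_self,
        Finsupp.single_eq_same] at this
      exact this
    set b₁ := b i1 - (t * polar Q e₀ (b i1)) • e₀ with hb₁
    have hb₁e : polar Q e₀ b₁ = 0 := by
      rw [hb₁, polar_sub_right, polar_smul_right, polar_self, smul_eq_mul]
      linear_combination (-(polar Q e₀ (b i1))) * ht
    have hgb₁ : polar Q g b₁ = 1 := by
      rw [hb₁, polar_sub_right, polar_smul_right, hge, hg1, smul_zero, sub_zero]
    -- a vector orthogonal to `e₀` with unit value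
    have hex : ∃ h : M, polar Q e₀ h = 0 ∧ IsUnit (Q h) := by
      by_cases h1 : IsUnit (Q g)
      · exact ⟨g, by rw [polar_comm]; exact hge, h1⟩
      by_cases h2 : IsUnit (Q b₁)
      · exact ⟨b₁, hb₁e, h2⟩
      refine ⟨g + b₁, by rw [polar_add_right, polar_comm Q e₀ g, hge, hb₁e, add_zero], ?_⟩
      have hQ' : Q (g + b₁) = Q g + Q b₁ + 1 := by
        have := polar Q g b₁
        have h3 : polar Q g b₁ = Q (g + b₁) - Q g - Q b₁ := rfl
        rw [hgb₁] at h3
        linear_combination -h3
      rw [hQ']
      have hnon : Q g + Q b₁ ∈ nonunits R := IsLocalRing.nonunits_add h1 h2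
      have : IsUnit ((Q g + Q b₁ + 1) + (-(Q g + Q b₁))) := by
        rw [add_neg_cancel_comm]; exact isUnit_one
      rcases IsLocalRing.isUnit_or_isUnit_of_isUnit_add this with h | h
      · exact h
      · exact absurd (by simpa using h.neg) hnon
    obtain ⟨h, hh0, hhu⟩ := hex
    refine ⟨e₀, t • e₀ + h, ?_, ?_⟩
    · rw [polar_add_right, polar_smul_right, polar_self, hh0, smul_eq_mul, add_zero]
      linear_combination ht
    · have hQf : Q (t • e₀ + h) = t * t * Q e₀ + Q h := by
        have h3 : polar Q (t • e₀) h = Q (t • e₀ + h) - Q (t • e₀) - Q h := rfl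
        rw [polar_smul_left, hh0, smul_zero, QuadraticMap.map_smul, smul_eq_mul] at h3
        linear_combination -h3
      rw [hQf]
      have : 1 - 4 * Q e₀ * (t * t * Q e₀ + Q h) = -(2 * (2 * Q e₀) * Q h) := by
        linear_combination (-(1 + t * (2 * Q e₀))) * ht
      rw [this]
      exact ((h2.mul h2a).mul hhu).neg

end Groth.Agent.H9.QG
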