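import Mathlib
import Groth.Agent.Lib.Helper9.Misc.QG5
import Groth.Agent.Lib.Helper9.Misc.QG6

/-! Existence of a good generator of the centre of the even Clifford algebra for a regular form of
even rank over a local ring (helper9). -/

set_option autoImplicit false

open CliffordAlgebra QuadraticMap

namespace Groth.Agent.H9.QG

universe u v

variable {R : Type u} [CommRing R] {M : Type v} [AddCommGroup M] [Module R M]

/-! ### two noncommutative identities -/

theorem step_N {C : Type*} [Ring C] (Y z v : C) (h1 : Y * v = v * (1 - Y)) (h2 : z * v = v * z) :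
    (Y + z * (1 - 2 * Y)) * v = v * (1 - (Y + z * (1 - 2 * Y))) := by
  calc (Y + z * (1 - 2 * Y)) * v = Y * v + z * v - 2 * (z * (Y * v)) := by noncomm_ring
    _ = v * (1 - Y) + v * z - 2 * (v * z * (1 - Y)) := by rw [h1, ← mul_assoc z v, h2]
    _ = v * (1 - (Y + z * (1 - 2 * Y))) := by noncomm_ring

theorem step_P {C : Type*} [Ring C] (Y z v : C) (h1 : Y * v = v * Y) (h2 : z * v = v * (1 - z)) :
    (Y + z * (1 - 2 * Y)) * v = v * (1 - (Y + z * (1 - 2 * Y))) := by
  calc (Y + z * (1 - 2 * Y)) * v = Y * v + z * v - 2 * (z * (Y * v)) := by noncomm_ring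
    _ = v * Y + v * (1 - z) - 2 * (v * (1 - z) * Y) := by rw [h1, ← mul_assoc z v, h2]
    _ = v * (1 - (Y + z * (1 - 2 * Y))) := by noncomm_ring

theorem step_unit {C : Type*} [Ring C] (Y z : C) (h : Y * z = z * Y) :
    1 - 2 * (Y + z * (1 - 2 * Y)) = (1 - 2 * Y) * (1 - 2 * z) := by
  calc 1 - 2 * (Y + z * (1 - 2 * Y)) = 1 - 2 * Y - 2 * z + 4 * (z * Y) := by noncomm_ring
    _ = 1 - 2 * Y - 2 * z + 4 * (Y * z) := by rw [h]
    _ = (1 - 2 * Y) * (1 - 2 * z) := by noncomm_ring

section Step

variable {Q : QuadraticForm R M} {e f : M}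

/-- the inclusion of the complement as an isometry -/
noncomputable def incl : (QN (Q := Q) (e := e) (f := f)) →qᵢ Q :=
  { (Nsub Q e f).subtype with map_app' := fun _ => rfl }

theorem incl_apply (x : Nsub Q e f) : incl (Q := Q) (e := e) (f := f) x = (x : M) := rfl

theorem ι_anticomm_of_polar {x y : M} (h : polar Q x y = 0) :
    ι Q x * ι Q y = -(ι Q y * ι Q x) := by
  have := ι_mul_ι_add_swap (Q := Q) x y
  rw [h, map_zero] at this
  exact eq_neg_of_add_eq_zero_left this

theorem ι_mul_map_incl (x : M) (hx : ∀ n ∈ Nsub Q e f, polar Q x n = 0)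
    (c : CliffordAlgebra (QN (Q := Q) (e := e) (f := f))) :
    ι Q x * CliffordAlgebra.map incl c = CliffordAlgebra.map incl (involute c) * ι Q x := by
  induction c using CliffordAlgebra.left_induction with
  | algebraMap r =>
    simp only [AlgHom.commutes]
    exact (Algebra.commutes r _).symm
  | add a b ha hb => simp only [map_add, mul_add, add_mul, ha, hb]
  | ι_mul c n ih =>
    simp only [map_mul, map_neg, involute_ι, map_apply_ι, incl_apply]
    rw [← mul_assoc, ι_anticomm_of_polar (hx n n.2), neg_mul, mul_assoc, ih]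
    simp only [neg_mul, mul_assoc]

variable (hef : polar Q e f = 1)

include hef

theorem fe_eq : ι Q f * ι Q e = 1 - ι Q e * ι Q f := by
  have := ι_mul_ι_add_swap (Q := Q) f e
  rw [polar_comm, hef, map_one] at this
  exact eq_sub_of_add_eq this

theorem z_mul_e : ι Q e * ι Q f * ι Q e = ι Q e * (1 - ι Q e * ι Q f) := by
  rw [mul_assoc, fe_eq hef]

theorem z_mul_f : ι Q e * ι Q f * ι Q f = ι Q f * (1 - ι Q e * ι Q f) := by
  have h1 : ι Q f * (1 - ι Q e * ι Q f) = ι Q f - (ι Q f * ι Q e) * ι Q f := by noncomm_ring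
  rw [h1, fe_eq hef, mul_assoc, ι_sq_scalar]
  noncomm_ring
  rw [ι_sq_scalar]

theorem z_sq : ι Q e * ι Q f * (ι Q e * ι Q f) =
    ι Q e * ι Q f - algebraMap R _ (Q e * Q f) := by
  have h1 : ι Q e * ι Q f * (ι Q e * ι Q f) = ι Q e * (ι Q f * ι Q e) * ι Q f := by
    simp only [mul_assoc]
  rw [h1, fe_eq hef, map_mul, ← ι_sq_scalar, ← ι_sq_scalar]
  noncomm_ring

omit hef in
theorem z_comm_N {n : M} (hn : n ∈ Nsub Q e f) :
    ι Q e * ι Q f * ι Q n = ι Q n * (ι Q e * ι Q f) := by
  have hn' := (mem_Nsub Q e f n).mp hn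
  rw [mul_assoc, ι_anticomm_of_polar hn'.2, mul_neg, ← mul_assoc, ι_anticomm_of_polar hn'.1,
    neg_mul, neg_neg, mul_assoc]

theorem isUnit_w {d' : R} (hd : (1 - 4 * Q e * Q f) * d' = 1) :
    IsUnit (1 - 2 * (ι Q e * ι Q f)) := by
  have hzz := z_sq hef
  generalize ι Q e * ι Q f = z at hzz ⊢
  have hww : (1 - 2 * z) * (1 - 2 * z) = algebraMap R _ (1 - 4 * Q e * Q f) := by
    have h1 : (1 - 2 * z) * (1 - 2 * z) = 1 - 4 * z + 4 * (z * z) := by noncomm_ring
    have h2 : algebraMap R (CliffordAlgebra Q) (1 - 4 * Q e * Q f) =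
        1 - 4 * algebraMap R _ (Q e * Q f) := by
      rw [mul_assoc, map_sub, map_one, map_mul, map_ofNat]
    rw [h1, hzz, h2]
    noncomm_ring
  refine ⟨⟨1 - 2 * z, (1 - 2 * z) * algebraMap R _ d', ?_, ?_⟩, rfl⟩
  · rw [← mul_assoc, hww, ← map_mul, hd, map_one]
  · rw [mul_assoc, Algebra.commutes, ← mul_assoc, hww, ← map_mul, hd, map_one]

/-- the inductive step: a good element for the complement gives a good element for `Q` -/
theorem good_step {d' : R} (hd : (1 - 4 * Q e * Q f) * d' = 1)
    {yN : CliffordAlgebra (QN (Q := Q) (e := e) (f := f))} (hyN : Good QN yN) :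
    Good Q (CliffordAlgebra.map incl yN +
      ι Q e * ι Q f * (1 - 2 * CliffordAlgebra.map incl yN)) := by
  set Y := CliffordAlgebra.map (incl (Q := Q) (e := e) (f := f)) yN with hY
  set z := ι Q e * ι Q f with hz
  have hYeven : Y ∈ evenOdd Q 0 := map_mem_even incl hyN.even
  have hzeven : z ∈ evenOdd Q 0 := ι_mul_ι_mem_evenOdd_zero Q e f
  have hYe : Y * ι Q e = ι Q e * Y := by
    have := ι_mul_map_incl (Q := Q) (e := e) (f := f) e
      (fun n hn => ((mem_Nsub Q e f n).mp hn).1) yN
    rw [involute_eq_of_mem_even hyN.even] at this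
    exact this.symm
  have hYf : Y * ι Q f = ι Q f * Y := by
    have := ι_mul_map_incl (Q := Q) (e := e) (f := f) f
      (fun n hn => ((mem_Nsub Q e f n).mp hn).2) yN
    rw [involute_eq_of_mem_even hyN.even] at this
    exact this.symm
  have hYz : Y * z = z * Y := by
    rw [hz, ← mul_assoc, hYe, mul_assoc, hYf, mul_assoc]
  have hYn : ∀ n : Nsub Q e f, Y * ι Q (n : M) = ι Q (n : M) * (1 - Y) := by
    intro n
    have := congrArg (CliffordAlgebra.map (incl (Q := Q) (e := e) (f := f))) (hyN.comm n)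
    rw [map_mul, map_mul, map_sub, map_one, map_apply_ι, incl_apply] at this
    exact this
  refine ⟨?_, ?_, ?_⟩
  · refine Submodule.add_mem _ hYeven ?_
    have h2Y : (1 - 2 * Y) ∈ evenOdd Q 0 := by
      refine Submodule.sub_mem _ (SetLike.one_mem_graded _) ?_
      have : (2 : CliffordAlgebra Q) * Y = (2 : R) • Y := by
        rw [Algebra.smul_def, map_ofNat]
      rw [this]
      exact Submodule.smul_mem _ _ hYeven
    have := SetLike.mul_mem_graded hzeven h2Y
    rwa [add_zero] at this
  · intro x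
    rw [decomp (Q := Q) (e := e) (f := f) (d' := d') x, map_add, map_add, map_smul, map_smul]
    have he := step_P Y z (ι Q e) hYe (z_mul_e hef)
    have hf := step_P Y z (ι Q f) hYf (z_mul_f hef)
    have hn := step_N Y z (ι Q (proj Q e f d' x)) (hYn ⟨_, proj_mem hef hd x⟩)
      (z_comm_N (proj_mem hef hd x))
    generalize Y + z * (1 - 2 * Y) = y' at he hf hn ⊢
    rw [mul_add, mul_add, add_mul, add_mul, mul_smul_comm, mul_smul_comm, smul_mul_assoc,
      smul_mul_assoc, he, hf, hn]
  · rw [step_unit Y z hYz]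
    refine IsUnit.mul ?_ (isUnit_w hef hd)
    have := hyN.unit.map (CliffordAlgebra.map (incl (Q := Q) (e := e) (f := f)))
    rwa [map_sub, map_one, map_mul, map_ofNat] at this

end Step

/-- a regular quadratic form of even rank over a local ring has a good element -/
theorem exists_good [IsLocalRing R] : ∀ (m : ℕ) (M : Type v) [AddCommGroup M] [Module R M]
    [Module.Free R M] [Module.Finite R M] (Q : QuadraticForm R M),
    QuadGrp.IsRegular Q → Module.finrank R M = 2 * m → ∃ y : CliffordAlgebra Q, Good Q y := by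
  intro m
  induction m with
  | zero =>
    intro M _ _ _ _ Q _ hM
    have hsub : Subsingleton M := (Module.finrank_eq_zero_iff_of_free (R := R) (M := M)).mp hM
    refine ⟨0, Submodule.zero_mem _, fun x => ?_, by simp⟩
    rw [Subsingleton.elim x 0, map_zero]; simp
  | succ m ih =>
    intro M _ _ _ _ Q hQ hM
    obtain ⟨e, f, hef, hu⟩ := exists_plane Q hQ (by omega)
    obtain ⟨d', hd⟩ := hu.exists_right_inv
    haveI := finite_N hef hd
    haveI := free_N hef hd
    have hrank := finrank_N hef hd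
    obtain ⟨yN, hyN⟩ := ih (Nsub Q e f) (QN (Q := Q) (e := e) (f := f))
      (isRegular_QN hef hd hQ) (by omega)
    exact ⟨_, good_step hef hd hyN⟩

end Groth.Agent.H9.QG
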