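import Mathlib
import Groth.Agent.Lib.Helper9.Misc.QG3
import Groth.Agent.Lib.Helper9.Misc.QG7
import Groth.Agent.Lib.Helper7.AzFibre
import Groth.Agent.Lib.Helper7.LG.AzInner

/-! The Clifford algebra of a regular quadratic form of even rank is Azumaya; isometries over a
local ring are induced by inner automorphisms (helper9). -/

set_option autoImplicit false

open CliffordAlgebra QuadraticMap TensorProduct

namespace Groth.Agent.H9.QG

universe u v u'

variable {R : Type u} [CommRing R] {M : Type v} [AddCommGroup M] [Module R M]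

/-! ### regularity and the Gram determinant -/

/-- the Gram matrix of the polar form -/
noncomputable def gram {n : ℕ} (b : Module.Basis (Fin n) R M) (Q : QuadraticForm R M) :
    Matrix (Fin n) (Fin n) R := Matrix.of fun i j => polar Q (b i) (b j)

theorem toMatrix_polarBilin {n : ℕ} (b : Module.Basis (Fin n) R M) (Q : QuadraticForm R M) :
    LinearMap.toMatrix b b.dualBasis (polarBilin Q) = gram b Q := by
  ext i j
  rw [LinearMap.toMatrix_apply, Module.Basis.dualBasis_repr, polarBilin_apply_apply, gram,
    Matrix.of_apply, polar_comm]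

theorem isRegular_iff_isUnit_det {n : ℕ} (b : Module.Basis (Fin n) R M) (Q : QuadraticForm R M) :
    QuadGrp.IsRegular Q ↔ IsUnit (gram b Q).det := by
  rw [← toMatrix_polarBilin]
  constructor
  · intro h
    exact LinearEquiv.isUnit_det (LinearEquiv.ofBijective (polarBilin Q) h) b b.dualBasis
  · intro h
    exact (LinearEquiv.ofIsUnitDet h).bijective

theorem isRegular_baseChangeForm [Nontrivial R] [Module.Free R M] [Module.Finite R M] (A : Type u') [CommRing A]
    [Algebra R A] (Q : QuadraticForm R M) (hQ : QuadGrp.IsRegular Q) :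
    QuadGrp.IsRegular (QuadGrp.baseChangeForm A Q) := by
  let b := Module.finBasis R M
  rw [isRegular_iff_isUnit_det b] at hQ
  rw [isRegular_iff_isUnit_det (b.baseChange A)]
  have : gram (b.baseChange A) (QuadGrp.baseChangeForm A Q) = (gram b Q).map (algebraMap R A) := by
    ext i j
    simp only [gram, Matrix.of_apply, Matrix.map_apply, Module.Basis.baseChange_apply,
      polar_bcf_one_tmul]
  rw [this, ← RingHom.mapMatrix_apply, ← RingHom.map_det]
  exact hQ.map _

/-! ### finiteness of the Clifford algebra -/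

theorem finite_clifford [Nontrivial R] [Module.Free R M] [Module.Finite R M] (Q : QuadraticForm R M) :
    Module.Finite R (CliffordAlgebra Q) := by
  obtain ⟨β, hβ⟩ := LinearMap.BilinMap.toQuadraticMap_surjective Q
  let b := Module.finBasis R M
  haveI : Module.Finite R (ExteriorAlgebra R M) := Module.Finite.of_basis b.ExteriorAlgebra
  exact Module.Finite.equiv (changeFormEquiv (neg_proof hβ)).symm

theorem free_clifford [Nontrivial R] [Module.Free R M] [Module.Finite R M] (Q : QuadraticForm R M) :
    Module.Free R (CliffordAlgebra Q) := by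
  obtain ⟨β, hβ⟩ := LinearMap.BilinMap.toQuadraticMap_surjective Q
  let b := Module.finBasis R M
  haveI : Module.Free R (ExteriorAlgebra R M) := Module.Free.of_basis b.ExteriorAlgebra
  exact Module.Free.of_equiv (changeFormEquiv (neg_proof hβ)).symm

/-! ### the involution is inner -/

theorem involute_eq_conj {Q : QuadraticForm R M} {y : CliffordAlgebra Q} (hy : Good Q y)
    (W' : CliffordAlgebra Q) (h1 : (1 - 2 * y) * W' = 1) (h2 : W' * (1 - 2 * y) = 1)
    (a : CliffordAlgebra Q) : involute a = (1 - 2 * y) * a * W' := by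
  induction a using CliffordAlgebra.induction with
  | algebraMap r => rw [AlgHom.commutes, ← Algebra.commutes, mul_assoc, h1, mul_one]
  | ι x => rw [involute_ι, hy.W_anticomm, neg_mul, mul_assoc, h1, mul_one]
  | mul a b ha hb =>
    rw [map_mul, ha, hb]
    calc (1 - 2 * y) * a * W' * ((1 - 2 * y) * b * W')
        = (1 - 2 * y) * a * (W' * (1 - 2 * y)) * b * W' := by simp only [mul_assoc]
      _ = (1 - 2 * y) * (a * b) * W' := by rw [h2, mul_one]; simp only [mul_assoc]
  | add a b ha hb => rw [map_add, ha, hb, mul_add, add_mul]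

/-! ### the field case -/

theorem isCentral_of_field {k : Type u} [Field k] {V : Type v} [AddCommGroup V] [Module k V]
    [Module.Finite k V] (Q : QuadraticForm k V) (hQ : QuadGrp.IsRegular Q) (m : ℕ)
    (hV : Module.finrank k V = 2 * m) : Algebra.IsCentral k (CliffordAlgebra Q) := by
  obtain ⟨y, hy⟩ := exists_good m V Q hQ hV
  constructor
  intro z hz
  rw [Subalgebra.mem_center_iff] at hz
  obtain ⟨r, hr⟩ := hy.center_eq (Module.finBasis k V) hQ hz
  rw [Algebra.mem_bot]
  exact ⟨r, hr⟩

theorem isSimpleRing_of_field {k : Type u} [Field k] {V : Type v} [AddCommGroup V] [Module k V]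
    [Module.Finite k V] (Q : QuadraticForm k V) (hQ : QuadGrp.IsRegular Q) (m : ℕ)
    (hV : Module.finrank k V = 2 * m) : IsSimpleRing (CliffordAlgebra Q) := by
  obtain ⟨y, hy⟩ := exists_good m V Q hQ hV
  obtain ⟨u, hu⟩ := hy.unit
  have h1 : (1 - 2 * y) * (↑u⁻¹ : CliffordAlgebra Q) = 1 := by rw [← hu, Units.mul_inv]
  have h2 : (↑u⁻¹ : CliffordAlgebra Q) * (1 - 2 * y) = 1 := by rw [← hu, Units.inv_mul]
  let b := Module.finBasis k V
  rw [isSimpleRing_iff_isTwoSided_imp]
  refine ⟨(algebraMap_injective Q).nontrivial, fun I hI => ?_⟩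
  by_cases hbot : I = ⊥
  · exact Or.inl hbot
  right
  obtain ⟨a, haI, ha0⟩ := Submodule.exists_mem_ne_zero_of_ne_bot hbot
  have hstable : ∀ j, ∀ c ∈ I.restrictScalars k,
      contractLeft (b.coord j) c ∈ I.restrictScalars k := by
    intro j c hc
    obtain ⟨x, hx⟩ := hQ.2 (b.coord j)
    rw [← hx, ← ι_mul_sub_involute_mul_ι, involute_eq_conj hy _ h1 h2]
    rw [Submodule.restrictScalars_mem] at hc ⊢
    refine I.sub_mem (I.mul_mem_left _ hc) ?_
    exact I.mul_mem_right _ (I.mul_mem_right _ (I.mul_mem_left _ hc))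
  obtain ⟨r, hrI, hr0⟩ := exists_scalar_mem_of_contract_stable b Q (I.restrictScalars k)
    hstable a haI ha0
  rw [Submodule.restrictScalars_mem] at hrI
  have hr : r ≠ 0 := by
    intro h; rw [h, map_zero] at hr0; exact hr0 rfl
  rw [Ideal.eq_top_iff_one]
  have := I.mul_mem_left (algebraMap k _ r⁻¹) hrI
  rwa [← map_mul, inv_mul_cancel₀ hr, map_one] at this

/-! ### the Azumaya property -/

theorem isAzumaya_clifford [Nontrivial R] [Module.Free R M] [Module.Finite R M] (Q : QuadraticForm R M)
    (hQ : QuadGrp.IsRegular Q) (m : ℕ) (hM : Module.finrank R M = 2 * m) :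
    IsAzumaya R (CliffordAlgebra Q) := by
  haveI := finite_clifford Q
  haveI := free_clifford Q
  rw [Groth.Agent.H7.Azu.isAzumaya_iff_fibres]
  intro p _
  have hreg := isRegular_baseChangeForm p.ResidueField Q hQ
  have hrank : Module.finrank p.ResidueField (p.ResidueField ⊗[R] M) = 2 * m := by
    rw [Module.finrank_baseChange, hM]
  haveI := isCentral_of_field (QuadGrp.baseChangeForm p.ResidueField Q) hreg m hrank
  have hs := isSimpleRing_of_field (QuadGrp.baseChangeForm p.ResidueField Q) hreg m hrank
  exact ⟨Groth.Agent.H7.Br.isCentral_of_algEquiv' (bcEquiv p.ResidueField Q),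
    IsSimpleRing.of_ringEquiv (bcEquiv p.ResidueField Q).toRingEquiv hs⟩

/-- the isometry equivalence attached to an element of the orthogonal group -/
def isoOfMem (Q : QuadraticForm R M) (g : M ≃ₗ[R] M) (hg : g ∈ QuadGrp.O Q) :
    Q.IsometryEquiv Q := { g with map_app' := hg }

/-- over a local ring every isometry of a regular form of even rank is induced by an inner
automorphism of the Clifford algebra -/
theorem exists_conj_of_isometry [IsLocalRing R] [Module.Free R M] [Module.Finite R M]
    (Q : QuadraticForm R M) (hQ : QuadGrp.IsRegular Q) (m : ℕ)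
    (hM : Module.finrank R M = 2 * m) (g : M ≃ₗ[R] M) (hg : g ∈ QuadGrp.O Q) :
    ∃ u : (CliffordAlgebra Q)ˣ, ∀ v : M,
      (u : CliffordAlgebra Q) * ι Q v * ↑u⁻¹ = ι Q (g v) := by
  haveI := isAzumaya_clifford Q hQ m hM
  obtain ⟨u, hu⟩ := Groth.Agent.H7.LG.exists_inner_of_isLGRing
    (Groth.Agent.H7.LG.isLGRing_of_isLocalRing R)
    (CliffordAlgebra.equivOfIsometry (isoOfMem Q g hg))
  refine ⟨u, fun v => ?_⟩
  rw [← hu]
  exact (CliffordAlgebra.map_apply_ι _ v)

end Groth.Agent.H9.QG
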