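import Mathlib
import Groth.Agent.Lib.Helper9.Misc.QG8
import Groth.Agent.Lib.Helper7.QuadGrp.Reflect

/-! The Dickson dichotomy for regular quadratic forms of even rank (helper9). -/

set_option autoImplicit false

open CliffordAlgebra QuadraticMap

namespace Groth.Agent.H9.QG

universe u v

variable {R : Type u} [CommRing R] {M : Type v} [AddCommGroup M] [Module R M]

theorem poly_id (r : R) :
    (Polynomial.C r + Polynomial.C (1 - 2 * r) * Polynomial.X) *
      (1 - (Polynomial.C r + Polynomial.C (1 - 2 * r) * Polynomial.X)) =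
    Polynomial.C (r * (1 - r)) +
      Polynomial.C ((1 - 2 * r) ^ 2) * (Polynomial.X * (1 - Polynomial.X)) := by
  simp only [map_mul, map_sub, map_one, map_pow, map_ofNat]
  ring

theorem aeval_poly_id {C : Type*} [Ring C] [Algebra R C] (y : C) (r : R) :
    (algebraMap R C r + (1 - 2 * r) • y) * (1 - (algebraMap R C r + (1 - 2 * r) • y)) =
      algebraMap R C (r * (1 - r)) + ((1 - 2 * r) ^ 2) • (y * (1 - y)) := by
  have := congrArg (Polynomial.aeval y) (poly_id r)
  simp only [map_mul, map_add, map_sub, map_one, map_pow, map_ofNat, Polynomial.aeval_C,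
    Polynomial.aeval_X] at this
  simp only [Algebra.smul_def, map_mul, map_add, map_sub, map_one, map_pow, map_ofNat]
  exact this

theorem ι_left_cancel {Q : QuadraticForm R M} {x₀ : M} (hx₀ : IsUnit (Q x₀))
    {a c : CliffordAlgebra Q} (h : ι Q x₀ * a = ι Q x₀ * c) : a = c := by
  obtain ⟨q', hq'⟩ := hx₀.exists_left_inv
  have h1 : (q' • ι Q x₀) * ι Q x₀ = 1 := by
    rw [smul_mul_assoc, ι_sq_scalar, Algebra.algebraMap_eq_smul_one, smul_smul, hq', one_smul]
  calc a = (q' • ι Q x₀) * ι Q x₀ * a := by rw [h1, one_mul]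
    _ = (q' • ι Q x₀) * (ι Q x₀ * c) := by rw [mul_assoc, h]
    _ = c := by rw [← mul_assoc, h1, one_mul]

namespace Good

variable {Q : QuadraticForm R M} {y y' : CliffordAlgebra Q}

/-- two good elements with the same norm differ by an idempotent twist -/
theorem dichotomy {n : ℕ} (b : Module.Basis (Fin n) R M) (hQ : QuadGrp.IsRegular Q)
    (hy : Good Q y) (hy' : Good Q y') (x₀ : M) (hx₀ : IsUnit (Q x₀))
    (hN : y' * (1 - y') = y * (1 - y)) :
    ∃ r : R, IsIdempotentElem r ∧ y' = algebraMap R _ r + (1 - 2 * r) • y := by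
  haveI : Module.Free R M := Module.Free.of_basis b
  obtain ⟨r, s, hrs⟩ := hy.center_even b hQ x₀ hx₀ hy'.even
    (fun c hc => (hy'.comm_even hc).symm)
  -- `s = 1 - 2r`
  have hs : s = 1 - 2 * r := by
    have h1 := hy'.comm x₀
    rw [hrs] at h1
    have h2 : (algebraMap R _ r + s • y) * ι Q x₀ =
        ι Q x₀ * (algebraMap R _ r + s • (1 - y)) := by
      rw [add_mul, smul_mul_assoc, hy.comm, mul_add, mul_smul_comm, Algebra.commutes]
    rw [h2] at h1
    have h3 := ι_left_cancel hx₀ h1
    have h4 : algebraMap R (CliffordAlgebra Q) (r + s) = algebraMap R _ (1 - r) := by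
      rw [map_add, map_sub, map_one, Algebra.algebraMap_eq_smul_one s]
      calc algebraMap R (CliffordAlgebra Q) r + s • 1
          = (algebraMap R _ r + s • (1 - y)) + s • y := by rw [smul_sub]; abel
        _ = (1 - (algebraMap R _ r + s • y)) + s • y := by rw [h3]
        _ = 1 - algebraMap R _ r := by abel
    have h5 := algebraMap_injective Q h4
    linear_combination h5
  subst hs
  refine ⟨r, ?_, hrs⟩
  obtain ⟨N, hNy⟩ := hy.norm b hQ
  have h6 := aeval_poly_id y r
  rw [← hrs, hN, ← hNy] at h6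
  rw [Algebra.smul_def, ← map_mul, ← map_add] at h6
  have h7 := algebraMap_injective Q h6
  have h8 : r * (1 - r) * (1 - 4 * N) = 0 := by linear_combination -h7
  have hW := Good.W_sq hNy
  have hWu : IsUnit (algebraMap R (CliffordAlgebra Q) (1 - 4 * N)) := by
    rw [← hW]; exact hy.unit.mul hy.unit
  have h9 : algebraMap R (CliffordAlgebra Q) (r * (1 - r)) = 0 := by
    have : algebraMap R (CliffordAlgebra Q) (r * (1 - r)) *
        algebraMap R (CliffordAlgebra Q) (1 - 4 * N) = 0 := by
      rw [← map_mul, h8, map_zero]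
    exact (hWu.mul_left_eq_zero).mp this
  have h10 : r * (1 - r) = 0 := algebraMap_injective Q (h9.trans (map_zero _).symm)
  show r * r = r
  linear_combination -h10

/-- the image of a good element under the automorphism induced by an isometry is good -/
theorem map_isometry (hy : Good Q y) (g : M ≃ₗ[R] M) (hg : g ∈ QuadGrp.O Q) :
    Good Q (CliffordAlgebra.map (QuadGrp.isometryOfMem Q g hg) y) := by
  refine ⟨map_mem_even _ hy.even, fun x => ?_, ?_⟩
  · have h1 : CliffordAlgebra.map (QuadGrp.isometryOfMem Q g hg) (ι Q (g.symm x)) = ι Q x := by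
      rw [map_apply_ι, QuadGrp.isometryOfMem_apply, LinearEquiv.apply_symm_apply]
    have h2 := congrArg (CliffordAlgebra.map (QuadGrp.isometryOfMem Q g hg)) (hy.comm (g.symm x))
    rw [map_mul, map_mul, map_sub, map_one, h1] at h2
    exact h2
  · have := hy.unit.map (CliffordAlgebra.map (QuadGrp.isometryOfMem Q g hg))
    rwa [map_sub, map_one, map_mul, map_ofNat] at this

theorem map_isometry_norm (g : M ≃ₗ[R] M) (hg : g ∈ QuadGrp.O Q) {N : R}
    (hN : algebraMap R _ N = y * (1 - y)) :
    CliffordAlgebra.map (QuadGrp.isometryOfMem Q g hg) y *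
      (1 - CliffordAlgebra.map (QuadGrp.isometryOfMem Q g hg) y) = y * (1 - y) := by
  have := congrArg (CliffordAlgebra.map (QuadGrp.isometryOfMem Q g hg)) hN
  rw [AlgHom.commutes, map_mul, map_sub, map_one] at this
  rw [← this, hN]

/-- the Dickson dichotomy: the image of `y` is `r + (1 - 2r) y` for an idempotent `r` -/
theorem map_eq {n : ℕ} (b : Module.Basis (Fin n) R M) (hQ : QuadGrp.IsRegular Q)
    (hy : Good Q y) (x₀ : M) (hx₀ : IsUnit (Q x₀)) (g : M ≃ₗ[R] M) (hg : g ∈ QuadGrp.O Q) :
    ∃ r : R, IsIdempotentElem r ∧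
      CliffordAlgebra.map (QuadGrp.isometryOfMem Q g hg) y = algebraMap R _ r + (1 - 2 * r) • y := by
  obtain ⟨N, hN⟩ := hy.norm b hQ
  exact hy.dichotomy b hQ (hy.map_isometry g hg) x₀ hx₀ (map_isometry_norm g hg hN)

/-- the Dickson condition is the triviality of the action on `y` -/
theorem isDicksonTrivial_iff {n : ℕ} (b : Module.Basis (Fin n) R M) (hQ : QuadGrp.IsRegular Q)
    (hy : Good Q y) (x₀ : M) (hx₀ : IsUnit (Q x₀)) (g : M ≃ₗ[R] M) (hg : g ∈ QuadGrp.O Q) :
    QuadGrp.IsDicksonTrivial Q g hg ↔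
      CliffordAlgebra.map (QuadGrp.isometryOfMem Q g hg) y = y := by
  constructor
  · intro h
    have hmem : (⟨y, hy.even⟩ : CliffordAlgebra.even Q) ∈
        Subalgebra.center R (CliffordAlgebra.even Q) := by
      rw [Subalgebra.mem_center_iff]
      intro c
      apply Subtype.ext
      exact (hy.comm_even c.2).symm
    exact h ⟨y, hy.even⟩ hmem
  · intro h z hz
    rw [Subalgebra.mem_center_iff] at hz
    obtain ⟨r, s, hrs⟩ := hy.center_even b hQ x₀ hx₀ z.2 (fun c hc => by
      have := hz ⟨c, hc⟩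
      exact congrArg Subtype.val this)
    rw [hrs, map_add, map_smul, AlgHom.commutes, h]

end Good

theorem conj_eq_map {Q : QuadraticForm R M} (u : (CliffordAlgebra Q)ˣ) (g : M ≃ₗ[R] M)
    (hg : g ∈ QuadGrp.O Q) (hu : ∀ v, (u : CliffordAlgebra Q) * ι Q v * ↑u⁻¹ = ι Q (g v))
    (a : CliffordAlgebra Q) :
    (u : CliffordAlgebra Q) * a * ↑u⁻¹ = CliffordAlgebra.map (QuadGrp.isometryOfMem Q g hg) a := by
  induction a using CliffordAlgebra.induction with
  | algebraMap r => rw [AlgHom.commutes, ← Algebra.commutes, mul_assoc, Units.mul_inv, mul_one]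
  | ι x => rw [hu, map_apply_ι, QuadGrp.isometryOfMem_apply]
  | mul a c ha hc =>
    rw [map_mul, ← ha, ← hc]
    simp only [mul_assoc, Units.inv_mul_cancel_left]
  | add a c ha hc => rw [map_add, ← ha, ← hc, mul_add, add_mul]

theorem eq_zero_or_one_of_isIdempotentElem [IsLocalRing R] {r : R} (hr : IsIdempotentElem r) :
    r = 0 ∨ r = 1 := by
  have h : r * (1 - r) = 0 := by
    have : r * r = r := hr
    linear_combination -this
  rcases IsLocalRing.isUnit_or_isUnit_one_sub_self r with hu | hu
  · right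
    have := (hu.mul_right_eq_zero).mp h
    exact (sub_eq_zero.mp this).symm
  · left
    exact (hu.mul_left_eq_zero).mp h

/-- over a local ring a regular form of rank at least two represents a unit -/
theorem exists_isUnit_value [IsLocalRing R] [Module.Free R M] [Module.Finite R M]
    (Q : QuadraticForm R M) (hQ : QuadGrp.IsRegular Q) (hM : 2 ≤ Module.finrank R M) :
    ∃ x₀ : M, IsUnit (Q x₀) := by
  obtain ⟨e, f, hef, -⟩ := exists_plane Q hQ hM
  by_cases h1 : IsUnit (Q e)
  · exact ⟨e, h1⟩
  by_cases h2 : IsUnit (Q f)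
  · exact ⟨f, h2⟩
  refine ⟨e + f, ?_⟩
  have hQ' : Q (e + f) = Q e + Q f + 1 := by
    have h3 : polar Q e f = Q (e + f) - Q e - Q f := rfl
    rw [hef] at h3
    linear_combination -h3
  rw [hQ']
  have hnon : Q e + Q f ∈ nonunits R := IsLocalRing.nonunits_add h1 h2
  have : IsUnit ((Q e + Q f + 1) + (-(Q e + Q f))) := by
    rw [add_neg_cancel_comm]; exact isUnit_one
  rcases IsLocalRing.isUnit_or_isUnit_of_isUnit_add this with h | h
  · exact h
  · exact absurd (by simpa using h.neg) hnon

/-- over a local ring the induced automorphism fixes or flips `y` -/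
theorem Good.map_eq_or [IsLocalRing R] {Q : QuadraticForm R M} {y : CliffordAlgebra Q} {n : ℕ}
    (b : Module.Basis (Fin n) R M) (hQ : QuadGrp.IsRegular Q)
    (hy : Good Q y) (x₀ : M) (hx₀ : IsUnit (Q x₀)) (g : M ≃ₗ[R] M) (hg : g ∈ QuadGrp.O Q) :
    CliffordAlgebra.map (QuadGrp.isometryOfMem Q g hg) y = y ∨
      CliffordAlgebra.map (QuadGrp.isometryOfMem Q g hg) y = 1 - y := by
  obtain ⟨r, hr, h⟩ := hy.map_eq b hQ x₀ hx₀ g hg
  rcases eq_zero_or_one_of_isIdempotentElem hr with rfl | rfl
  · left; rw [h]; simp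
  · right; rw [h, map_one]
    have : (1 - 2 * 1 : R) = -1 := by ring
    rw [this, neg_smul, one_smul]; abel

theorem Good.ne_one_sub [Nontrivial R] [Module.Free R M] {Q : QuadraticForm R M}
    {y : CliffordAlgebra Q} (hy : Good Q y) : y ≠ 1 - y := by
  intro h
  have h0 : 1 - 2 * y = 0 := by
    calc 1 - 2 * y = (1 - y) - y := by noncomm_ring
      _ = 0 := by rw [← h, sub_self]
  have hu := hy.unit
  rw [h0] at hu
  haveI : Nontrivial (CliffordAlgebra Q) := (algebraMap_injective Q).nontrivial
  exact not_isUnit_zero hu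

end Groth.Agent.H9.QG
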