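import Mathlib
import Groth.Agent.Lib.Helper9.Misc.QG9

/-! Reflections flip the centre of the even Clifford algebra; index two (helper9). -/

set_option autoImplicit false

open CliffordAlgebra QuadraticMap

namespace Groth.Agent.H9.QG

universe u v

variable {R : Type u} [CommRing R] {M : Type v} [AddCommGroup M] [Module R M]

theorem ι_mul_ι_mul_ι_self (Q : QuadraticForm R M) (x w : M) :
    ι Q x * ι Q w * ι Q x = polar Q x w • ι Q x - Q x • ι Q w := by
  have h := ι_mul_ι_add_swap (Q := Q) x w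
  have h2 : ι Q x * ι Q w = algebraMap R _ (polar Q x w) - ι Q w * ι Q x := eq_sub_of_add_eq h
  calc ι Q x * ι Q w * ι Q x = (algebraMap R _ (polar Q x w) - ι Q w * ι Q x) * ι Q x := by rw [h2]
    _ = algebraMap R _ (polar Q x w) * ι Q x - ι Q w * (ι Q x * ι Q x) := by
      rw [sub_mul, mul_assoc]
    _ = _ := by
      rw [ι_sq_scalar, ← Algebra.commutes (Q x) (ι Q w), ← Algebra.smul_def, ← Algebra.smul_def]

/-- the reflection in a vector with unit value -/
noncomputable def reflQ (Q : QuadraticForm R M) (x₀ : M) (u : Rˣ) (hu : Q x₀ = u) : M ≃ₗ[R] M :=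
  Groth.Agent.H7.QG.refl Q (LinearEquiv.refl R R) x₀ u hu

theorem reflQ_apply (Q : QuadraticForm R M) (x₀ : M) (u : Rˣ) (hu : Q x₀ = u) (w : M) :
    reflQ Q x₀ u hu w = w - ((↑u⁻¹ : R) * polar Q x₀ w) • x₀ := by
  rw [reflQ, Groth.Agent.H7.QG.refl_apply]; rfl

theorem reflQ_mem_O (Q : QuadraticForm R M) (x₀ : M) (u : Rˣ) (hu : Q x₀ = u) :
    reflQ Q x₀ u hu ∈ QuadGrp.O Q :=
  Groth.Agent.H7.QG.refl_mem_O _ _ _ _ _

theorem map_reflQ (Q : QuadraticForm R M) (x₀ : M) (u : Rˣ) (hu : Q x₀ = u)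
    (a : CliffordAlgebra Q) :
    CliffordAlgebra.map (QuadGrp.isometryOfMem Q (reflQ Q x₀ u hu) (reflQ_mem_O Q x₀ u hu)) a =
      (↑u⁻¹ : R) • (ι Q x₀ * involute a * ι Q x₀) := by
  have hvv : ι Q x₀ * ι Q x₀ = algebraMap R _ (u : R) := by rw [ι_sq_scalar, hu]
  induction a using CliffordAlgebra.induction with
  | algebraMap r =>
    rw [AlgHom.commutes, AlgHom.commutes, ← Algebra.commutes, mul_assoc, hvv, ← map_mul,
      Algebra.smul_def, ← map_mul]
    congr 1
    rw [mul_comm r, ← mul_assoc, Units.inv_mul, one_mul]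
  | ι w =>
    rw [map_apply_ι, QuadGrp.isometryOfMem_apply, reflQ_apply, involute_ι, mul_neg, neg_mul,
      ι_mul_ι_mul_ι_self, hu, map_sub, map_smul, smul_neg, smul_sub, neg_sub, smul_smul, smul_smul,
      Units.inv_mul, one_smul]
  | mul a c ha hc =>
    have key : (ι Q x₀ * involute a * ι Q x₀) * (ι Q x₀ * involute c * ι Q x₀) =
        (u : R) • (ι Q x₀ * (involute a * involute c) * ι Q x₀) := by
      calc (ι Q x₀ * involute a * ι Q x₀) * (ι Q x₀ * involute c * ι Q x₀)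
          = ι Q x₀ * involute a * (ι Q x₀ * ι Q x₀) * (involute c * ι Q x₀) := by
            simp only [mul_assoc]
        _ = _ := by
            rw [hvv, ← Algebra.commutes, Algebra.smul_def]; simp only [mul_assoc]
    rw [map_mul, ha, hc, map_mul, smul_mul_smul_comm, key, smul_smul, mul_assoc, Units.inv_mul,
      mul_one]
  | add a c ha hc => rw [map_add, ha, hc, map_add, mul_add, add_mul, smul_add]

theorem Good.map_reflQ {Q : QuadraticForm R M} {y : CliffordAlgebra Q} (hy : Good Q y)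
    (x₀ : M) (u : Rˣ) (hu : Q x₀ = u) :
    CliffordAlgebra.map (QuadGrp.isometryOfMem Q (reflQ Q x₀ u hu) (reflQ_mem_O Q x₀ u hu)) y =
      1 - y := by
  have hvv : ι Q x₀ * ι Q x₀ = algebraMap R _ (u : R) := by rw [ι_sq_scalar, hu]
  rw [Groth.Agent.H9.QG.map_reflQ, involute_eq_of_mem_even hy.even, ← hy.comm' x₀, mul_assoc, hvv,
    ← Algebra.commutes, ← Algebra.smul_def, smul_smul, Units.inv_mul, one_smul]

theorem map_mul_isometry (Q : QuadraticForm R M) (g h : M ≃ₗ[R] M) (hg : g ∈ QuadGrp.O Q)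
    (hh : h ∈ QuadGrp.O Q) (a : CliffordAlgebra Q) :
    CliffordAlgebra.map (QuadGrp.isometryOfMem Q (g * h) ((QuadGrp.O Q).mul_mem hg hh)) a =
      CliffordAlgebra.map (QuadGrp.isometryOfMem Q g hg)
        (CliffordAlgebra.map (QuadGrp.isometryOfMem Q h hh) a) := by
  have : CliffordAlgebra.map (QuadGrp.isometryOfMem Q (g * h) ((QuadGrp.O Q).mul_mem hg hh)) =
      (CliffordAlgebra.map (QuadGrp.isometryOfMem Q g hg)).comp
        (CliffordAlgebra.map (QuadGrp.isometryOfMem Q h hh)) := by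
    apply CliffordAlgebra.hom_ext; ext m; simp [QuadGrp.isometryOfMem]
  rw [this, AlgHom.comp_apply]

/-- the Dickson-trivial isometries have index two in the orthogonal group (local ring) -/
theorem index_SOeven [IsLocalRing R] [Module.Free R M] [Module.Finite R M]
    (m : ℕ) (hm : 1 ≤ m) (hM : Module.finrank R M = 2 * m) (Q : QuadraticForm R M)
    (hQ : QuadGrp.IsRegular Q) :
    ((QuadGrp.SOeven Q).subgroupOf (QuadGrp.O Q)).index = 2 := by
  classical
  have hM2 : 2 ≤ Module.finrank R M := by omega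
  obtain ⟨y, hy⟩ := exists_good m M Q hQ hM
  obtain ⟨x₀, hx₀⟩ := exists_isUnit_value Q hQ hM2
  obtain ⟨u, hu⟩ := id hx₀
  have key : ∀ (g : M ≃ₗ[R] M) (hg : g ∈ QuadGrp.O Q),
      g ∈ QuadGrp.SOeven Q ↔ CliffordAlgebra.map (QuadGrp.isometryOfMem Q g hg) y = y := by
    intro g hg
    rw [← hy.isDicksonTrivial_iff (Module.finBasis R M) hQ x₀ hx₀ g hg]
    exact ⟨fun ⟨_, h⟩ => h, fun h => ⟨hg, h⟩⟩
  have hr := reflQ_mem_O Q x₀ u hu.symm
  have hflip := hy.map_reflQ x₀ u hu.symm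
  have hne := hy.ne_one_sub
  rw [Subgroup.index_eq_two_iff]
  refine ⟨⟨reflQ Q x₀ u hu.symm, hr⟩, fun g => ?_⟩
  have hgO : (g : M ≃ₗ[R] M) ∈ QuadGrp.O Q := g.2
  have h1 : g * ⟨reflQ Q x₀ u hu.symm, hr⟩ ∈ (QuadGrp.SOeven Q).subgroupOf (QuadGrp.O Q) ↔
      1 - CliffordAlgebra.map (QuadGrp.isometryOfMem Q g hgO) y = y := by
    rw [Subgroup.mem_subgroupOf]
    change (g : M ≃ₗ[R] M) * reflQ Q x₀ u hu.symm ∈ QuadGrp.SOeven Q ↔ _
    rw [key _ ((QuadGrp.O Q).mul_mem hgO hr), map_mul_isometry Q _ _ hgO hr, hflip, map_sub,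
      map_one]
  have h2 : g ∈ (QuadGrp.SOeven Q).subgroupOf (QuadGrp.O Q) ↔
      CliffordAlgebra.map (QuadGrp.isometryOfMem Q g hgO) y = y := by
    rw [Subgroup.mem_subgroupOf, key _ hgO]
  rw [h1, h2]
  rcases hy.map_eq_or (Module.finBasis R M) hQ x₀ hx₀ g hgO with h | h
  · right
    refine ⟨h, ?_⟩
    rw [h]
    exact fun h' => hne h'.symm
  · left
    rw [h]
    refine ⟨by abel, ?_⟩
    exact fun h' => hne h'.symm

end Groth.Agent.H9.QG
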