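import Mathlib
import Groth.Agent.Lib.Helper9.Misc.QG10

/-! Localisation of Clifford algebras; the Dickson condition is local (helper9). -/

set_option autoImplicit false

open CliffordAlgebra QuadraticMap TensorProduct

namespace Groth.Agent.H9.QG

universe u v

theorem eq_zero_of_mem_even_of_mem_odd {R : Type*} [CommRing R] {M : Type*} [AddCommGroup M]
    [Module R M] {Q : QuadraticForm R M} {a : CliffordAlgebra Q} (h0 : a ∈ evenOdd Q 0)
    (h1 : a ∈ evenOdd Q 1) : a = 0 :=
  Submodule.disjoint_def.mp (evenOdd_isCompl Q).disjoint a h0 h1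

variable {R : Type u} [CommRing R] {M : Type v} [AddCommGroup M] [Module R M] [Module.Free R M]

section Loc

variable (S : Submonoid R) (A : Type u) [CommRing A] [Algebra R A] [IsLocalization S A]
variable (Q : QuadraticForm R M)

theorem isLocalizedModule_mk :
    IsLocalizedModule S (TensorProduct.mk R A (CliffordAlgebra Q) 1) :=
  (isLocalizedModule_iff_isBaseChange S A _).mpr (TensorProduct.isBaseChange R _ A)

theorem exists_smul_eq_zero_of_toBC_eq_zero {c : CliffordAlgebra Q} (h : toBC A Q c = 0) :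
    ∃ t ∈ S, t • c = 0 := by
  have h1 : TensorProduct.mk R A (CliffordAlgebra Q) 1 c = 0 := by
    rw [TensorProduct.mk_apply, ← bcEquiv_toBC, h, map_zero]
  haveI := isLocalizedModule_mk S A Q
  obtain ⟨t, ht⟩ :=
    (IsLocalizedModule.eq_zero_iff S (TensorProduct.mk R A (CliffordAlgebra Q) 1)).mp h1
  exact ⟨t, t.2, ht⟩

theorem toBC_eq_zero_of_smul_eq_zero {c : CliffordAlgebra Q} {t : R} (ht : t ∈ S)
    (h : t • c = 0) : toBC A Q c = 0 := by
  have hu : IsUnit (algebraMap R A t) := IsLocalization.map_units A ⟨t, ht⟩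
  have h1 : algebraMap R A t • toBC A Q c = 0 := by
    rw [algebraMap_smul, ← map_smul, h, map_zero]
  exact (hu.smul_eq_zero).mp h1

theorem exists_toBC_eq_smul (w : CliffordAlgebra (QuadGrp.baseChangeForm A Q)) :
    ∃ c : CliffordAlgebra Q, ∃ s ∈ S, toBC A Q c = algebraMap R A s • w := by
  haveI := isLocalizedModule_mk S A Q
  obtain ⟨⟨c, s⟩, hcs⟩ := IsLocalizedModule.surj S
    (TensorProduct.mk R A (CliffordAlgebra Q) 1) (bcEquiv A Q w)
  refine ⟨c, s, s.2, ?_⟩
  apply (bcEquiv A Q).injective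
  rw [bcEquiv_toBC, map_smul, algebraMap_smul]
  exact hcs.symm

theorem exists_toBC_eq_smul_even {w : CliffordAlgebra (QuadGrp.baseChangeForm A Q)}
    (hw : w ∈ evenOdd (QuadGrp.baseChangeForm A Q) 0) :
    ∃ c ∈ evenOdd Q 0, ∃ s ∈ S, toBC A Q c = algebraMap R A s • w := by
  obtain ⟨c, s, hs, h⟩ := exists_toBC_eq_smul S A Q w
  obtain ⟨c₀, h₀, c₁, h₁, rfl⟩ := exists_even_add_odd c
  refine ⟨c₀, h₀, s, hs, ?_⟩
  have h2 : toBC A Q c₁ = 0 := by
    apply eq_zero_of_mem_even_of_mem_odd
    · have : toBC A Q c₁ = algebraMap R A s • w - toBC A Q c₀ := by rw [← h, map_add]; abel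
      rw [this]
      exact Submodule.sub_mem _ (Submodule.smul_mem _ _ hw) (toBC_mem_even A Q h₀)
    · exact toBC_mem_odd A Q h₁
  rw [← h, map_add, h2, add_zero]

theorem exists_toBC_eq_smul_odd {w : CliffordAlgebra (QuadGrp.baseChangeForm A Q)}
    (hw : w ∈ evenOdd (QuadGrp.baseChangeForm A Q) 1) :
    ∃ c ∈ evenOdd Q 1, ∃ s ∈ S, toBC A Q c = algebraMap R A s • w := by
  obtain ⟨c, s, hs, h⟩ := exists_toBC_eq_smul S A Q w
  obtain ⟨c₀, h₀, c₁, h₁, rfl⟩ := exists_even_add_odd c
  refine ⟨c₁, h₁, s, hs, ?_⟩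
  have h2 : toBC A Q c₀ = 0 := by
    apply eq_zero_of_mem_even_of_mem_odd
    · exact toBC_mem_even A Q h₀
    · have : toBC A Q c₀ = algebraMap R A s • w - toBC A Q c₁ := by rw [← h, map_add]; abel
      rw [this]
      exact Submodule.sub_mem _ (Submodule.smul_mem _ _ hw) (toBC_mem_odd A Q h₁)
  rw [← h, map_add, h2, zero_add]

include S in
/-- the image of an element central in the even subalgebra is central in the even subalgebra -/
theorem toBC_comm_even {z : CliffordAlgebra Q} (hz : ∀ c ∈ evenOdd Q 0, c * z = z * c)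
    {w : CliffordAlgebra (QuadGrp.baseChangeForm A Q)}
    (hw : w ∈ evenOdd (QuadGrp.baseChangeForm A Q) 0) :
    w * toBC A Q z = toBC A Q z * w := by
  obtain ⟨c, hc, s, hs, h⟩ := exists_toBC_eq_smul_even S A Q hw
  have hu : IsUnit (algebraMap R A s) := IsLocalization.map_units A ⟨s, hs⟩
  apply hu.smul_left_cancel.mp
  rw [← smul_mul_assoc, ← mul_smul_comm, ← h, ← map_mul, ← map_mul, hz c hc]

/-- an element commuting with the products of two basis vectors commutes with the even
subalgebra -/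
theorem comm_even_of_comm_basis {n : ℕ} (b : Module.Basis (Fin n) R M) (z : CliffordAlgebra Q)
    (h : ∀ i j, ι Q (b i) * ι Q (b j) * z = z * (ι Q (b i) * ι Q (b j)))
    {a : CliffordAlgebra Q} (ha : a ∈ evenOdd Q 0) : a * z = z * a := by
  let Cz : Subalgebra R (CliffordAlgebra Q) := Subalgebra.centralizer R {z}
  have hmem : ∀ {a : CliffordAlgebra Q}, a ∈ Cz ↔ a * z = z * a := by
    intro a
    rw [Subalgebra.mem_centralizer_iff]
    constructor
    · intro h'; exact (h' z (Set.mem_singleton z)).symm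
    · intro h' g hg; rw [Set.mem_singleton_iff] at hg; rw [hg]; exact h'.symm
  have h1 : ∀ i j, ι Q (b i) * ι Q (b j) ∈ Cz := fun i j => hmem.mpr (h i j)
  have h2 : ∀ x j, ι Q x * ι Q (b j) ∈ Cz := by
    intro x j
    have : ι Q x * ι Q (b j) = ∑ i, b.repr x i • (ι Q (b i) * ι Q (b j)) := by
      conv_lhs => rw [← b.sum_repr x]
      rw [map_sum, Finset.sum_mul]
      simp only [map_smul, smul_mul_assoc]
    rw [this]
    exact Subalgebra.sum_mem _ (fun i _ => Subalgebra.smul_mem _ (h1 i j) _)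
  have h3 : ∀ x x', ι Q x * ι Q x' ∈ Cz := by
    intro x x'
    have : ι Q x * ι Q x' = ∑ j, b.repr x' j • (ι Q x * ι Q (b j)) := by
      conv_lhs => rw [← b.sum_repr x']
      rw [map_sum, Finset.mul_sum]
      simp only [map_smul, mul_smul_comm]
    rw [this]
    exact Subalgebra.sum_mem _ (fun j _ => Subalgebra.smul_mem _ (h2 x j) _)
  have h4 : a ∈ Cz := by
    induction a, ha using even_induction with
    | algebraMap r => exact Subalgebra.algebraMap_mem _ r
    | add x y _ _ ihx ihy => exact Subalgebra.add_mem _ ihx ihy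
    | ι_mul_ι_mul m₁ m₂ x _ ih => exact Subalgebra.mul_mem _ (h3 m₁ m₂) ih
  exact hmem.mp h4

/-- an element central in the even subalgebra of the localisation comes, up to a unit, from an
element central in the even subalgebra -/
theorem exists_central_lift {n : ℕ} (b : Module.Basis (Fin n) R M)
    {w : CliffordAlgebra (QuadGrp.baseChangeForm A Q)}
    (hw : w ∈ evenOdd (QuadGrp.baseChangeForm A Q) 0)
    (hwc : ∀ a ∈ evenOdd (QuadGrp.baseChangeForm A Q) 0, a * w = w * a) :
    ∃ z ∈ evenOdd Q 0, (∀ c ∈ evenOdd Q 0, c * z = z * c) ∧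
      ∃ s ∈ S, toBC A Q z = algebraMap R A s • w := by
  classical
  obtain ⟨c, hc, s, hs, h⟩ := exists_toBC_eq_smul_even S A Q hw
  have h1 : ∀ i j, ∃ t ∈ S,
      t • (ι Q (b i) * ι Q (b j) * c - c * (ι Q (b i) * ι Q (b j))) = 0 := by
    intro i j
    apply exists_smul_eq_zero_of_toBC_eq_zero S A Q
    have e1 : toBC A Q (ι Q (b i) * ι Q (b j) * c) =
        algebraMap R A s • (toBC A Q (ι Q (b i) * ι Q (b j)) * w) := by
      rw [map_mul, h, mul_smul_comm]
    have e2 : toBC A Q (c * (ι Q (b i) * ι Q (b j))) =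
        algebraMap R A s • (w * toBC A Q (ι Q (b i) * ι Q (b j))) := by
      rw [map_mul, h, smul_mul_assoc]
    rw [map_sub, e1, e2, hwc _ (toBC_mem_even A Q (ι_mul_ι_mem_evenOdd_zero Q _ _)), sub_self]
  choose t ht htz using h1
  set T : R := ∏ i, ∏ j, t i j with hTdef
  have hT : T ∈ S := Submonoid.prod_mem _ (fun i _ => Submonoid.prod_mem _ (fun j _ => ht i j))
  have hTz : ∀ i j, T • (ι Q (b i) * ι Q (b j) * c - c * (ι Q (b i) * ι Q (b j))) = 0 := by
    intro i j
    obtain ⟨r, hr⟩ : t i j ∣ T :=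
      (Finset.dvd_prod_of_mem (fun j => t i j) (Finset.mem_univ j)).trans
        (Finset.dvd_prod_of_mem (fun i => ∏ j, t i j) (Finset.mem_univ i))
    rw [hr, mul_comm, mul_smul, htz, smul_zero]
  refine ⟨T • c, Submodule.smul_mem _ _ hc, ?_, T * s, S.mul_mem hT hs, ?_⟩
  · intro a ha
    apply comm_even_of_comm_basis Q b (T • c) _ ha
    intro i j
    have := hTz i j
    rw [smul_sub, sub_eq_zero] at this
    rw [mul_smul_comm, smul_mul_assoc, this]
  · rw [map_smul, h, map_mul, mul_smul]
    exact (algebraMap_smul A T _).symm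

end Loc

/-- an element of the Clifford algebra vanishing in all localisations at maximal ideals is zero -/
theorem eq_zero_of_toBC_eq_zero (Q : QuadraticForm R M) (a : CliffordAlgebra Q)
    (h : ∀ (p : Ideal R) [p.IsMaximal], toBC (Localization.AtPrime p) Q a = 0) : a = 0 := by
  by_contra ha
  set I : Ideal R := LinearMap.ker (LinearMap.toSpanSingleton R (CliffordAlgebra Q) a) with hI
  have hI1 : I ≠ ⊤ := by
    intro htop
    have : (1 : R) ∈ I := by rw [htop]; exact Submodule.mem_top
    rw [hI, LinearMap.mem_ker, LinearMap.toSpanSingleton_apply, one_smul] at this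
    exact ha this
  obtain ⟨p, hp, hIp⟩ := Ideal.exists_le_maximal I hI1
  haveI := hp
  obtain ⟨t, ht, hta⟩ :=
    exists_smul_eq_zero_of_toBC_eq_zero p.primeCompl (Localization.AtPrime p) Q (h p)
  have : t ∈ I := by rw [hI, LinearMap.mem_ker, LinearMap.toSpanSingleton_apply]; exact hta
  exact ht (hIp this)

section Local

/-- over a local ring, the determinant of an isometry is `1` or `-1` according to the Dickson
condition -/
theorem det_of_isDicksonTrivial [IsLocalRing R] [Module.Finite R M]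
    (m : ℕ) (hm : 1 ≤ m) (hM : Module.finrank R M = 2 * m) (Q : QuadraticForm R M)
    (hQ : QuadGrp.IsRegular Q) (g : M ≃ₗ[R] M) (hg : g ∈ QuadGrp.O Q) :
    (QuadGrp.IsDicksonTrivial Q g hg → LinearMap.det (g : M →ₗ[R] M) = 1) ∧
    (¬ QuadGrp.IsDicksonTrivial Q g hg → LinearMap.det (g : M →ₗ[R] M) = -1) := by
  classical
  have hM2 : 2 ≤ Module.finrank R M := by omega
  obtain ⟨y, hy⟩ := exists_good m M Q hQ hM
  obtain ⟨x₀, hx₀⟩ := exists_isUnit_value Q hQ hM2
  obtain ⟨u, hu⟩ := exists_conj_of_isometry Q hQ m hM g hg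
  have hn : Even (Module.finrank R M) := ⟨m, by omega⟩
  have hiff := hy.isDicksonTrivial_iff (Module.finBasis R M) hQ x₀ hx₀ g hg
  have hconj := conj_eq_map u g hg hu y
  constructor
  · intro hD
    rw [hiff.mp hD] at hconj
    have hcomm : y * (u : CliffordAlgebra Q) = u * y := by
      calc y * (u : CliffordAlgebra Q) = ((u : CliffordAlgebra Q) * y * ↑u⁻¹) * u := by rw [hconj]
        _ = u * y := by rw [mul_assoc, Units.inv_mul, mul_one]
    exact det_eq_one_of_conj_of_even (Module.finBasis R M) hn Q u (hy.mem_even_of_comm hcomm)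
      (g : M →ₗ[R] M) (fun v => hu v)
  · intro hD
    have hflip : CliffordAlgebra.map (QuadGrp.isometryOfMem Q g hg) y = 1 - y := by
      rcases hy.map_eq_or (Module.finBasis R M) hQ x₀ hx₀ g hg with h | h
      · exact absurd (hiff.mpr h) hD
      · exact h
    rw [hflip] at hconj
    have h1 : (u : CliffordAlgebra Q) * y = (1 - y) * u := by
      calc (u : CliffordAlgebra Q) * y = ((u : CliffordAlgebra Q) * y * ↑u⁻¹) * u := by
            rw [mul_assoc, mul_assoc, Units.inv_mul, mul_one]
        _ = (1 - y) * u := by rw [hconj]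
    have hcomm : y * (u : CliffordAlgebra Q) = u * (1 - y) := by
      rw [mul_sub, mul_one, h1, sub_mul, one_mul]; abel
    exact det_eq_neg_one_of_conj_of_even (Module.finBasis R M) hn Q u (hy.mem_odd_of_comm hcomm)
      (g : M →ₗ[R] M) (fun v => hu v)

end Local

section Global

variable [Module.Finite R M]

/-- the Dickson condition at a prime -/
def DTAt (Q : QuadraticForm R M) (g : M ≃ₗ[R] M) (hg : g ∈ QuadGrp.O Q) (p : Ideal R)
    [p.IsPrime] : Prop :=
  QuadGrp.IsDicksonTrivial (QuadGrp.baseChangeForm (Localization.AtPrime p) Q)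
    (g.baseChange R (Localization.AtPrime p) M M) (baseChange_mem_O (Localization.AtPrime p) Q g hg)

theorem nontrivial_of_isPrime (p : Ideal R) [p.IsPrime] : Nontrivial R :=
  (algebraMap R (Localization.AtPrime p)).domain_nontrivial

/-- the determinant at a prime -/
theorem det_at (m : ℕ) (hm : 1 ≤ m) (hM : Module.finrank R M = 2 * m) (Q : QuadraticForm R M)
    (hQ : QuadGrp.IsRegular Q) (g : M ≃ₗ[R] M) (hg : g ∈ QuadGrp.O Q) (p : Ideal R) [p.IsPrime] :
    (DTAt Q g hg p → algebraMap R (Localization.AtPrime p) (LinearMap.det (g : M →ₗ[R] M)) = 1) ∧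
    (¬ DTAt Q g hg p →
      algebraMap R (Localization.AtPrime p) (LinearMap.det (g : M →ₗ[R] M)) = -1) := by
  haveI := nontrivial_of_isPrime p
  have hQA := isRegular_baseChangeForm (Localization.AtPrime p) Q hQ
  have hMA : Module.finrank (Localization.AtPrime p) (Localization.AtPrime p ⊗[R] M) = 2 * m := by
    rw [Module.finrank_baseChange, hM]
  have h := det_of_isDicksonTrivial m hm hMA (QuadGrp.baseChangeForm (Localization.AtPrime p) Q) hQA
    (g.baseChange R (Localization.AtPrime p) M M) (baseChange_mem_O (Localization.AtPrime p) Q g hg)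
  rw [LinearEquiv.coe_baseChange, LinearMap.det_baseChange] at h
  exact h

/-- a globally Dickson-trivial isometry is Dickson-trivial at every prime -/
theorem dtAt_of_isDicksonTrivial (m : ℕ) (hm : 1 ≤ m) (hM : Module.finrank R M = 2 * m)
    (Q : QuadraticForm R M) (hQ : QuadGrp.IsRegular Q) (g : M ≃ₗ[R] M) (hg : g ∈ QuadGrp.O Q)
    (hD : QuadGrp.IsDicksonTrivial Q g hg) (p : Ideal R) [p.IsPrime] : DTAt Q g hg p := by
  haveI := nontrivial_of_isPrime p
  have hQA := isRegular_baseChangeForm (Localization.AtPrime p) Q hQ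
  have hMA : Module.finrank (Localization.AtPrime p) (Localization.AtPrime p ⊗[R] M) = 2 * m := by
    rw [Module.finrank_baseChange, hM]
  have hM2 : 2 ≤ Module.finrank (Localization.AtPrime p) (Localization.AtPrime p ⊗[R] M) := by
    omega
  obtain ⟨y, hy⟩ := exists_good m _ (QuadGrp.baseChangeForm (Localization.AtPrime p) Q) hQA hMA
  obtain ⟨x₀, hx₀⟩ := exists_isUnit_value (QuadGrp.baseChangeForm (Localization.AtPrime p) Q) hQA hM2
  rw [DTAt, hy.isDicksonTrivial_iff (Module.finBasis _ _) hQA x₀ hx₀]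
  obtain ⟨z, hz0, hzc, s, hs, hzs⟩ := exists_central_lift p.primeCompl (Localization.AtPrime p) Q
    (Module.finBasis R M) hy.even (fun a ha => (hy.comm_even ha).symm)
  have hmem : (⟨z, hz0⟩ : CliffordAlgebra.even Q) ∈
      Subalgebra.center R (CliffordAlgebra.even Q) := by
    rw [Subalgebra.mem_center_iff]
    intro c
    apply Subtype.ext
    exact hzc c.1 c.2
  have hfix : CliffordAlgebra.map (QuadGrp.isometryOfMem Q g hg) z = z := hD ⟨z, hz0⟩ hmem
  have h1 := map_baseChange_toBC (Localization.AtPrime p) Q g hg z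
  rw [hfix, hzs, map_smul] at h1
  have hu : IsUnit (algebraMap R (Localization.AtPrime p) s) :=
    IsLocalization.map_units _ (⟨s, hs⟩ : p.primeCompl)
  exact hu.smul_left_cancel.mp h1

/-- an isometry Dickson-trivial at every maximal ideal is Dickson-trivial -/
theorem isDicksonTrivial_of_dtAt (Q : QuadraticForm R M) (g : M ≃ₗ[R] M) (hg : g ∈ QuadGrp.O Q)
    (h : ∀ (p : Ideal R) [p.IsMaximal], DTAt Q g hg p) : QuadGrp.IsDicksonTrivial Q g hg := by
  intro z hz
  rw [← sub_eq_zero]
  apply eq_zero_of_toBC_eq_zero Q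
  intro p _
  rw [map_sub, sub_eq_zero, ← map_baseChange_toBC]
  rw [Subalgebra.mem_center_iff] at hz
  have hzc : ∀ c ∈ evenOdd Q 0, c * (z : CliffordAlgebra Q) = z * c := by
    intro c hc
    exact congrArg Subtype.val (hz ⟨c, hc⟩)
  have hmem : (⟨toBC (Localization.AtPrime p) Q z, toBC_mem_even _ Q z.2⟩ :
      CliffordAlgebra.even (QuadGrp.baseChangeForm (Localization.AtPrime p) Q)) ∈
      Subalgebra.center (Localization.AtPrime p)
        (CliffordAlgebra.even (QuadGrp.baseChangeForm (Localization.AtPrime p) Q)) := by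
    rw [Subalgebra.mem_center_iff]
    intro w
    apply Subtype.ext
    exact toBC_comm_even p.primeCompl (Localization.AtPrime p) Q hzc w.2
  exact h p _ hmem

/-- `SOeven ≤ SO'` -/
theorem SOeven_le_SO' (m : ℕ) (hm : 1 ≤ m) (hM : Module.finrank R M = 2 * m)
    (Q : QuadraticForm R M) (hQ : QuadGrp.IsRegular Q) : QuadGrp.SOeven Q ≤ QuadGrp.SO' Q := by
  rintro g ⟨hgO, hD⟩
  refine ⟨hgO, ?_⟩
  change LinearEquiv.det g = 1
  apply Units.ext
  rw [LinearEquiv.coe_det, Units.val_one, ← sub_eq_zero]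
  apply eq_zero_of_localization
  intro p hp
  haveI := hp
  rw [map_sub, map_one, sub_eq_zero]
  exact (det_at m hm hM Q hQ g hgO p).1 (dtAt_of_isDicksonTrivial m hm hM Q hQ g hgO hD p)

/-- `SO' ≤ SOeven` when `2` is invertible -/
theorem SO'_le_SOeven [Invertible (2 : R)] (m : ℕ) (hm : 1 ≤ m)
    (hM : Module.finrank R M = 2 * m)
    (Q : QuadraticForm R M) (hQ : QuadGrp.IsRegular Q) : QuadGrp.SO' Q ≤ QuadGrp.SOeven Q := by
  rintro g ⟨hgO, hdet⟩
  have hdet1 : LinearEquiv.det g = 1 := hdet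
  have hdet' : LinearMap.det (g : M →ₗ[R] M) = 1 := by
    rw [← LinearEquiv.coe_det, hdet1, Units.val_one]
  refine ⟨hgO, ?_⟩
  apply isDicksonTrivial_of_dtAt Q g hgO
  intro p hp
  by_contra hD
  have h1 := (det_at m hm hM Q hQ g hgO p).2 hD
  rw [hdet', map_one] at h1
  have h2 : (2 : Localization.AtPrime p) = 0 := by linear_combination h1
  have h3 : IsUnit (algebraMap R (Localization.AtPrime p) 2) :=
    (isUnit_of_invertible (2 : R)).map _
  rw [map_ofNat, h2] at h3
  exact not_isUnit_zero h3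

end Global

end Groth.Agent.H9.QG
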