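import Mathlib
import Groth.Agent.Lib.Helper9.Misc.QG11

/-! The Dickson locus is open and closed; `GPin' ≤ LH` (helper9). -/

set_option autoImplicit false

open CliffordAlgebra QuadraticMap TensorProduct

namespace Groth.Agent.H9.QG

universe u v

variable {R : Type u} [CommRing R] {M : Type v} [AddCommGroup M] [Module R M] [Module.Free R M]

theorem algebraMap_eq_smul_one' (A : Type u) [CommRing A] [Algebra R A] (Q : QuadraticForm R M)
    (s : R) :
    algebraMap R (CliffordAlgebra (QuadGrp.baseChangeForm A Q)) s =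
      algebraMap R A s • (1 : CliffordAlgebra (QuadGrp.baseChangeForm A Q)) := by
  rw [Algebra.smul_def, mul_one, ← IsScalarTower.algebraMap_apply]

/-- a unit at `p` is non-zero near `p` -/
theorem exists_nhds_toBC_ne_zero (Q : QuadraticForm R M) (p : Ideal R) [p.IsPrime]
    (e : CliffordAlgebra Q) (he : IsUnit (toBC (Localization.AtPrime p) Q e)) :
    ∃ f : R, f ∉ p ∧ ∀ (q : Ideal R) [q.IsPrime], f ∉ q →
      toBC (Localization.AtPrime q) Q e ≠ 0 := by
  obtain ⟨w, hw⟩ := he.exists_right_inv
  obtain ⟨e', s, hs, h⟩ := exists_toBC_eq_smul p.primeCompl (Localization.AtPrime p) Q w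
  have h0 : toBC (Localization.AtPrime p) Q (e * e' - algebraMap R _ s) = 0 := by
    rw [map_sub, map_mul, h, mul_smul_comm, hw, AlgHom.commutes, algebraMap_eq_smul_one', sub_self]
  obtain ⟨t, ht, hta⟩ := exists_smul_eq_zero_of_toBC_eq_zero p.primeCompl _ Q h0
  refine ⟨t * s, p.primeCompl.mul_mem ht hs, ?_⟩
  intro q _ hq hzero
  have htq : t ∉ q := fun h' => hq (q.mul_mem_right s h')
  have hsq : s ∉ q := fun h' => hq (q.mul_mem_left t h')
  have h1 := toBC_eq_zero_of_smul_eq_zero q.primeCompl (Localization.AtPrime q) Q htq hta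
  rw [map_sub, map_mul, hzero, zero_mul, zero_sub, neg_eq_zero, AlgHom.commutes,
    IsScalarTower.algebraMap_apply R (Localization.AtPrime q)] at h1
  have h2 := algebraMap_injective (QuadGrp.baseChangeForm (Localization.AtPrime q) Q)
    (h1.trans (map_zero _).symm)
  have hu : IsUnit (algebraMap R (Localization.AtPrime q) s) :=
    IsLocalization.map_units _ (⟨s, hsq⟩ : q.primeCompl)
  rw [h2] at hu
  exact not_isUnit_zero hu

theorem toBC_mem_center (S : Submonoid R) (A : Type u) [CommRing A] [Algebra R A]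
    [IsLocalization S A] (Q : QuadraticForm R M) {z : CliffordAlgebra Q}
    (hz0 : z ∈ evenOdd Q 0) (hzc : ∀ c ∈ evenOdd Q 0, c * z = z * c) :
    (⟨toBC A Q z, toBC_mem_even A Q hz0⟩ : CliffordAlgebra.even (QuadGrp.baseChangeForm A Q)) ∈
      Subalgebra.center A (CliffordAlgebra.even (QuadGrp.baseChangeForm A Q)) := by
  rw [Subalgebra.mem_center_iff]
  intro w
  apply Subtype.ext
  exact toBC_comm_even S A Q hzc w.2

section Global

variable [Module.Finite R M]

theorem dtAt_fix (Q : QuadraticForm R M) (g : M ≃ₗ[R] M) (hg : g ∈ QuadGrp.O Q) (q : Ideal R)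
    [q.IsPrime] (hq : DTAt Q g hg q) {z : CliffordAlgebra Q}
    (hz0 : z ∈ evenOdd Q 0) (hzc : ∀ c ∈ evenOdd Q 0, c * z = z * c) :
    toBC (Localization.AtPrime q) Q (CliffordAlgebra.map (QuadGrp.isometryOfMem Q g hg) z - z)
      = 0 := by
  rw [map_sub, ← map_baseChange_toBC, sub_eq_zero]
  exact hq _ (toBC_mem_center q.primeCompl (Localization.AtPrime q) Q hz0 hzc)

/-- the non-Dickson locus is open -/
theorem exists_nhds_not_dtAt (m : ℕ) (hm : 1 ≤ m) (hM : Module.finrank R M = 2 * m)
    (Q : QuadraticForm R M) (hQ : QuadGrp.IsRegular Q) (g : M ≃ₗ[R] M) (hg : g ∈ QuadGrp.O Q)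
    (p : Ideal R) [p.IsPrime] (hp : ¬ DTAt Q g hg p) :
    ∃ f : R, f ∉ p ∧ ∀ (q : Ideal R) [q.IsPrime], f ∉ q → ¬ DTAt Q g hg q := by
  haveI := nontrivial_of_isPrime p
  have hQA := isRegular_baseChangeForm (Localization.AtPrime p) Q hQ
  have hMA : Module.finrank (Localization.AtPrime p) (Localization.AtPrime p ⊗[R] M) = 2 * m := by
    rw [Module.finrank_baseChange, hM]
  have hM2 : 2 ≤ Module.finrank (Localization.AtPrime p) (Localization.AtPrime p ⊗[R] M) := by
    omega
  obtain ⟨y, hy⟩ := exists_good m _ (QuadGrp.baseChangeForm (Localization.AtPrime p) Q) hQA hMA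
  obtain ⟨x₀, hx₀⟩ := exists_isUnit_value (QuadGrp.baseChangeForm (Localization.AtPrime p) Q) hQA hM2
  have hflip : CliffordAlgebra.map (QuadGrp.isometryOfMem _ _
      (baseChange_mem_O (Localization.AtPrime p) Q g hg)) y = 1 - y := by
    rcases hy.map_eq_or (Module.finBasis _ _) hQA x₀ hx₀ _
      (baseChange_mem_O (Localization.AtPrime p) Q g hg) with h | h
    · exact absurd ((hy.isDicksonTrivial_iff (Module.finBasis _ _) hQA x₀ hx₀ _ _).mpr h) hp
    · exact h
  obtain ⟨z, hz0, hzc, s, hs, hzs⟩ := exists_central_lift p.primeCompl (Localization.AtPrime p) Q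
    (Module.finBasis R M) hy.even (fun a ha => (hy.comm_even ha).symm)
  have he : IsUnit (toBC (Localization.AtPrime p) Q
      (CliffordAlgebra.map (QuadGrp.isometryOfMem Q g hg) z - z)) := by
    have : toBC (Localization.AtPrime p) Q
        (CliffordAlgebra.map (QuadGrp.isometryOfMem Q g hg) z - z) =
        algebraMap R (Localization.AtPrime p) s • (1 - 2 * y) := by
      rw [map_sub, ← map_baseChange_toBC, hzs, map_smul, hflip, ← smul_sub]
      congr 1
      noncomm_ring
    rw [this, Algebra.smul_def]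
    exact ((IsLocalization.map_units (Localization.AtPrime p) (⟨s, hs⟩ : p.primeCompl)).map _).mul
      hy.unit
  obtain ⟨f, hf, hfq⟩ := exists_nhds_toBC_ne_zero Q p _ he
  exact ⟨f, hf, fun q _ hq hDT => hfq q hq (dtAt_fix Q g hg q hDT hz0 hzc)⟩

/-- the Dickson locus is open -/
theorem exists_nhds_dtAt (m : ℕ) (hm : 1 ≤ m) (hM : Module.finrank R M = 2 * m)
    (Q : QuadraticForm R M) (hQ : QuadGrp.IsRegular Q) (g : M ≃ₗ[R] M) (hg : g ∈ QuadGrp.O Q)
    (p : Ideal R) [p.IsPrime] (hp : DTAt Q g hg p) :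
    ∃ f : R, f ∉ p ∧ ∀ (q : Ideal R) [q.IsPrime], f ∉ q → DTAt Q g hg q := by
  haveI := nontrivial_of_isPrime p
  have hQA := isRegular_baseChangeForm (Localization.AtPrime p) Q hQ
  have hMA : Module.finrank (Localization.AtPrime p) (Localization.AtPrime p ⊗[R] M) = 2 * m := by
    rw [Module.finrank_baseChange, hM]
  have hM2 : 2 ≤ Module.finrank (Localization.AtPrime p) (Localization.AtPrime p ⊗[R] M) := by
    omega
  obtain ⟨y, hy⟩ := exists_good m _ (QuadGrp.baseChangeForm (Localization.AtPrime p) Q) hQA hMA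
  obtain ⟨x₀, hx₀⟩ := exists_isUnit_value (QuadGrp.baseChangeForm (Localization.AtPrime p) Q) hQA hM2
  have hfix : CliffordAlgebra.map (QuadGrp.isometryOfMem _ _
      (baseChange_mem_O (Localization.AtPrime p) Q g hg)) y = y :=
    (hy.isDicksonTrivial_iff (Module.finBasis _ _) hQA x₀ hx₀ _ _).mp hp
  obtain ⟨z, hz0, hzc, s, hs, hzs⟩ := exists_central_lift p.primeCompl (Localization.AtPrime p) Q
    (Module.finBasis R M) hy.even (fun a ha => (hy.comm_even ha).symm)
  have h0 : toBC (Localization.AtPrime p) Q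
      (CliffordAlgebra.map (QuadGrp.isometryOfMem Q g hg) z - z) = 0 := by
    rw [map_sub, ← map_baseChange_toBC, hzs, map_smul, hfix, sub_self]
  obtain ⟨t, ht, htz⟩ := exists_smul_eq_zero_of_toBC_eq_zero p.primeCompl _ Q h0
  -- a global vector with unit value at `p`
  obtain ⟨x, s₀, hs₀, hx⟩ : ∃ x : M, ∃ s₀ ∈ p.primeCompl,
      (1 : Localization.AtPrime p) ⊗ₜ[R] x = algebraMap R (Localization.AtPrime p) s₀ • x₀ := by
    haveI : IsLocalizedModule p.primeCompl (TensorProduct.mk R (Localization.AtPrime p) M 1) :=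
      (isLocalizedModule_iff_isBaseChange p.primeCompl (Localization.AtPrime p) _).mpr
        (TensorProduct.isBaseChange R M (Localization.AtPrime p))
    obtain ⟨⟨x, s₀⟩, hxs⟩ := IsLocalizedModule.surj p.primeCompl
      (TensorProduct.mk R (Localization.AtPrime p) M 1) x₀
    refine ⟨x, s₀, s₀.2, ?_⟩
    rw [algebraMap_smul]
    exact hxs.symm
  have hs₀u : IsUnit (algebraMap R (Localization.AtPrime p) s₀) :=
    IsLocalization.map_units _ (⟨s₀, hs₀⟩ : p.primeCompl)
  have hQx : IsUnit (QuadGrp.baseChangeForm (Localization.AtPrime p) Q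
      ((1 : Localization.AtPrime p) ⊗ₜ[R] x)) := by
    rw [hx, QuadraticMap.map_smul, smul_eq_mul]
    exact (hs₀u.mul hs₀u).mul hx₀
  have he : IsUnit (toBC (Localization.AtPrime p) Q (z * ι Q x - ι Q x * z)) := by
    have : toBC (Localization.AtPrime p) Q (z * ι Q x - ι Q x * z) =
        algebraMap R (Localization.AtPrime p) s •
          (ι (QuadGrp.baseChangeForm (Localization.AtPrime p) Q) (1 ⊗ₜ[R] x) * (1 - 2 * y)) := by
      rw [map_sub, map_mul, map_mul, toBC_ι, hzs, smul_mul_assoc, mul_smul_comm, ← smul_sub, hy.comm,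
        ← mul_sub]
      congr 2
      noncomm_ring
    rw [this, Algebra.smul_def]
    exact ((IsLocalization.map_units (Localization.AtPrime p) (⟨s, hs⟩ : p.primeCompl)).map _).mul
      ((isUnit_ι_of_isUnit _ hQx).mul hy.unit)
  obtain ⟨f₁, hf₁, hfq⟩ := exists_nhds_toBC_ne_zero Q p _ he
  refine ⟨t * f₁, p.primeCompl.mul_mem ht hf₁, ?_⟩
  intro q _ hq
  have htq : t ∉ q := fun h' => hq (q.mul_mem_right f₁ h')
  have hf₁q : f₁ ∉ q := fun h' => hq (q.mul_mem_left t h')
  by_contra hDT
  haveI := nontrivial_of_isPrime q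
  have hQA' := isRegular_baseChangeForm (Localization.AtPrime q) Q hQ
  have hMA' : Module.finrank (Localization.AtPrime q) (Localization.AtPrime q ⊗[R] M) = 2 * m := by
    rw [Module.finrank_baseChange, hM]
  have hM2' : 2 ≤ Module.finrank (Localization.AtPrime q) (Localization.AtPrime q ⊗[R] M) := by
    omega
  obtain ⟨y', hy'⟩ := exists_good m _ (QuadGrp.baseChangeForm (Localization.AtPrime q) Q) hQA' hMA'
  obtain ⟨x₀', hx₀'⟩ :=
    exists_isUnit_value (QuadGrp.baseChangeForm (Localization.AtPrime q) Q) hQA' hM2'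
  have hflip : CliffordAlgebra.map (QuadGrp.isometryOfMem _ _
      (baseChange_mem_O (Localization.AtPrime q) Q g hg)) y' = 1 - y' := by
    rcases hy'.map_eq_or (Module.finBasis _ _) hQA' x₀' hx₀' _
      (baseChange_mem_O (Localization.AtPrime q) Q g hg) with h | h
    · exact absurd ((hy'.isDicksonTrivial_iff (Module.finBasis _ _) hQA' x₀' hx₀' _ _).mpr h) hDT
    · exact h
  obtain ⟨r, s', hrs⟩ := hy'.center_even (Module.finBasis _ _) hQA' x₀' hx₀'
    (toBC_mem_even (Localization.AtPrime q) Q hz0)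
    (fun c hc => toBC_comm_even q.primeCompl (Localization.AtPrime q) Q hzc hc)
  have h1 := toBC_eq_zero_of_smul_eq_zero q.primeCompl (Localization.AtPrime q) Q htq htz
  rw [map_sub, ← map_baseChange_toBC, hrs, map_add, map_smul, AlgHom.commutes, hflip,
    add_sub_add_left_eq_sub, ← smul_sub] at h1
  have h2 : s' • (1 : CliffordAlgebra (QuadGrp.baseChangeForm (Localization.AtPrime q) Q)) = 0 := by
    have : (s' • (1 : CliffordAlgebra (QuadGrp.baseChangeForm (Localization.AtPrime q) Q))) *
        (1 - 2 * y') = 0 := by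
      rw [smul_mul_assoc, one_mul]
      have e : (1 : CliffordAlgebra (QuadGrp.baseChangeForm (Localization.AtPrime q) Q)) - 2 * y' =
          1 - y' - y' := by noncomm_ring
      rw [e]; exact h1
    exact (hy'.unit.mul_left_eq_zero).mp this
  have h3 : toBC (Localization.AtPrime q) Q z = algebraMap (Localization.AtPrime q) _ r := by
    have : s' • y' = (s' • (1 : CliffordAlgebra
        (QuadGrp.baseChangeForm (Localization.AtPrime q) Q))) * y' := by
      rw [smul_mul_assoc, one_mul]
    rw [hrs, this, h2, zero_mul, add_zero]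
  apply hfq q hf₁q
  rw [map_sub, map_mul, map_mul, h3, Algebra.commutes, sub_self]

/-- connected base: a non-Dickson isometry has determinant `-1` -/
theorem det_eq_neg_one_of_connected (hc : ConnectedSpace (PrimeSpectrum R))
    (m : ℕ) (hm : 1 ≤ m) (hM : Module.finrank R M = 2 * m)
    (Q : QuadraticForm R M) (hQ : QuadGrp.IsRegular Q) (g : M ≃ₗ[R] M) (hg : g ∈ QuadGrp.O Q)
    (hD : ¬ QuadGrp.IsDicksonTrivial Q g hg) : LinearEquiv.det g = -1 := by
  haveI := hc
  let U : Set (PrimeSpectrum R) := {p | DTAt Q g hg p.asIdeal}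
  have hUo : IsOpen U := by
    rw [isOpen_iff_forall_mem_open]
    intro p hp
    obtain ⟨f, hf, h⟩ := exists_nhds_dtAt m hm hM Q hQ g hg p.asIdeal hp
    exact ⟨PrimeSpectrum.basicOpen f, fun q hq => h q.asIdeal hq,
      PrimeSpectrum.isOpen_basicOpen, hf⟩
  have hUc : IsOpen Uᶜ := by
    rw [isOpen_iff_forall_mem_open]
    intro p hp
    obtain ⟨f, hf, h⟩ := exists_nhds_not_dtAt m hm hM Q hQ g hg p.asIdeal hp
    exact ⟨PrimeSpectrum.basicOpen f, fun q hq => h q.asIdeal hq,
      PrimeSpectrum.isOpen_basicOpen, hf⟩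
  have hclopen : IsClopen U := ⟨isOpen_compl_iff.mp hUc, hUo⟩
  rcases isClopen_iff.mp hclopen with h | h
  · apply Units.ext
    rw [LinearEquiv.coe_det, Units.val_neg, Units.val_one, ← add_eq_zero_iff_eq_neg]
    apply eq_zero_of_localization
    intro p hp
    haveI := hp
    rw [map_add, map_one, add_eq_zero_iff_eq_neg]
    refine (det_at m hm hM Q hQ g hg p).2 (fun hdt => ?_)
    have : (⟨p, inferInstance⟩ : PrimeSpectrum R) ∈ U := hdt
    rw [h] at this
    exact this
  · exfalso
    apply hD
    apply isDicksonTrivial_of_dtAt Q g hg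
    intro p hp
    have : (⟨p, hp.isPrime⟩ : PrimeSpectrum R) ∈ U := by rw [h]; trivial
    exact this

end Global

section LH

/-- over a local ring a unit inducing an isometry is even or odd -/
theorem even_or_odd_of_conj [IsLocalRing R] [Module.Finite R M]
    (m : ℕ) (hm : 1 ≤ m) (hM : Module.finrank R M = 2 * m) (Q : QuadraticForm R M)
    (hQ : QuadGrp.IsRegular Q) (u : (CliffordAlgebra Q)ˣ) (g : M ≃ₗ[R] M) (hg : g ∈ QuadGrp.O Q)
    (hu : ∀ v, (u : CliffordAlgebra Q) * ι Q v * ↑u⁻¹ = ι Q (g v)) :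
    (u : CliffordAlgebra Q) ∈ evenOdd Q 0 ∨ (u : CliffordAlgebra Q) ∈ evenOdd Q 1 := by
  classical
  have hM2 : 2 ≤ Module.finrank R M := by omega
  obtain ⟨y, hy⟩ := exists_good m M Q hQ hM
  obtain ⟨x₀, hx₀⟩ := exists_isUnit_value Q hQ hM2
  have hconj := conj_eq_map u g hg hu y
  rcases hy.map_eq_or (Module.finBasis R M) hQ x₀ hx₀ g hg with h | h
  · left
    rw [h] at hconj
    have hcomm : y * (u : CliffordAlgebra Q) = u * y := by
      calc y * (u : CliffordAlgebra Q) = ((u : CliffordAlgebra Q) * y * ↑u⁻¹) * u := by rw [hconj]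
        _ = u * y := by rw [mul_assoc, Units.inv_mul, mul_one]
    exact hy.mem_even_of_comm hcomm
  · right
    rw [h] at hconj
    have h1 : (u : CliffordAlgebra Q) * y = (1 - y) * u := by
      calc (u : CliffordAlgebra Q) * y = ((u : CliffordAlgebra Q) * y * ↑u⁻¹) * u := by
            rw [mul_assoc, mul_assoc, Units.inv_mul, mul_one]
        _ = (1 - y) * u := by rw [hconj]
    have hcomm : y * (u : CliffordAlgebra Q) = u * (1 - y) := by
      rw [mul_sub, mul_one, h1, sub_mul, one_mul]; abel
    exact hy.mem_odd_of_comm hcomm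

theorem toBC_even_or_odd [Module.Finite R M]
    (m : ℕ) (hm : 1 ≤ m) (hM : Module.finrank R M = 2 * m) (Q : QuadraticForm R M)
    (hQ : QuadGrp.IsRegular Q) (u : (CliffordAlgebra Q)ˣ) (hu : u ∈ QuadGrp.GPin' Q)
    (p : Ideal R) [p.IsPrime] :
    toBC (Localization.AtPrime p) Q u ∈ evenOdd (QuadGrp.baseChangeForm (Localization.AtPrime p) Q) 0 ∨
    toBC (Localization.AtPrime p) Q u ∈
      evenOdd (QuadGrp.baseChangeForm (Localization.AtPrime p) Q) 1 := by
  haveI := nontrivial_of_isPrime p
  have hQA := isRegular_baseChangeForm (Localization.AtPrime p) Q hQ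
  have hMA : Module.finrank (Localization.AtPrime p) (Localization.AtPrime p ⊗[R] M) = 2 * m := by
    rw [Module.finrank_baseChange, hM]
  obtain ⟨g, hg, hgu⟩ := exists_isometry_of_mem_GPin' hu
  let up : (CliffordAlgebra (QuadGrp.baseChangeForm (Localization.AtPrime p) Q))ˣ :=
    ⟨toBC (Localization.AtPrime p) Q u, toBC (Localization.AtPrime p) Q ↑u⁻¹,
      by rw [← map_mul, Units.mul_inv, map_one], by rw [← map_mul, Units.inv_mul, map_one]⟩
  have hconj : ∀ x : Localization.AtPrime p ⊗[R] M,
      (up : CliffordAlgebra (QuadGrp.baseChangeForm (Localization.AtPrime p) Q)) *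
        ι (QuadGrp.baseChangeForm (Localization.AtPrime p) Q) x *
        ((up⁻¹ : (CliffordAlgebra (QuadGrp.baseChangeForm (Localization.AtPrime p) Q))ˣ) :
          CliffordAlgebra (QuadGrp.baseChangeForm (Localization.AtPrime p) Q)) =
        ι (QuadGrp.baseChangeForm (Localization.AtPrime p) Q)
          (g.baseChange R (Localization.AtPrime p) M M x) := by
    intro x
    induction x using TensorProduct.induction_on with
    | zero => simp
    | tmul a v =>
      have e1 : a ⊗ₜ[R] v = a • ((1 : Localization.AtPrime p) ⊗ₜ[R] v) := by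
        rw [TensorProduct.smul_tmul', smul_eq_mul, mul_one]
      have e2 : a ⊗ₜ[R] g v = a • ((1 : Localization.AtPrime p) ⊗ₜ[R] g v) := by
        rw [TensorProduct.smul_tmul', smul_eq_mul, mul_one]
      have hv : (up : CliffordAlgebra (QuadGrp.baseChangeForm (Localization.AtPrime p) Q)) *
          ι (QuadGrp.baseChangeForm (Localization.AtPrime p) Q)
            ((1 : Localization.AtPrime p) ⊗ₜ[R] v) *
          ((up⁻¹ : (CliffordAlgebra (QuadGrp.baseChangeForm (Localization.AtPrime p) Q))ˣ) :
            CliffordAlgebra (QuadGrp.baseChangeForm (Localization.AtPrime p) Q)) =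
          ι (QuadGrp.baseChangeForm (Localization.AtPrime p) Q)
            ((1 : Localization.AtPrime p) ⊗ₜ[R] g v) := by
        have := congrArg (toBC (Localization.AtPrime p) Q) (hgu v)
        rw [map_mul, map_mul, toBC_ι, toBC_ι] at this
        exact this
      rw [LinearEquiv.baseChange_tmul, e1, e2, map_smul, map_smul, mul_smul_comm, smul_mul_assoc,
        hv]
    | add x x' hx hx' => rw [map_add, mul_add, add_mul, hx, hx', map_add, map_add]
  exact even_or_odd_of_conj m hm hMA _ hQA up _ (baseChange_mem_O (Localization.AtPrime p) Q g hg)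
    hconj

/-- every unit normalising `M` is locally homogeneous -/
theorem GPin'_le_LH [Module.Finite R M]
    (m : ℕ) (hm : 1 ≤ m) (hM : Module.finrank R M = 2 * m) (Q : QuadraticForm R M)
    (hQ : QuadGrp.IsRegular Q) : QuadGrp.GPin' Q ≤ QuadGrp.LH Q := by
  intro u hu
  rw [QuadGrp.mem_LH]
  obtain ⟨u₀, h₀, u₁, h₁, hsum⟩ := exists_even_add_odd (u : CliffordAlgebra Q)
  have htop : LinearMap.ker (LinearMap.toSpanSingleton R (CliffordAlgebra Q) u₀) ⊔
      LinearMap.ker (LinearMap.toSpanSingleton R (CliffordAlgebra Q) u₁) = (⊤ : Ideal R) := by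
    by_contra hne
    obtain ⟨p, hp, hle⟩ := Ideal.exists_le_maximal _ hne
    haveI := hp
    rcases toBC_even_or_odd m hm hM Q hQ u hu p with h | h
    · have h2 : toBC (Localization.AtPrime p) Q u₁ = 0 := by
        refine eq_zero_of_mem_even_of_mem_odd ?_ (toBC_mem_odd _ Q h₁)
        have : toBC (Localization.AtPrime p) Q u₁ =
            toBC (Localization.AtPrime p) Q u - toBC (Localization.AtPrime p) Q u₀ := by
          rw [← hsum, map_add]; abel
        rw [this]
        exact Submodule.sub_mem _ h (toBC_mem_even _ Q h₀)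
      obtain ⟨t, ht, htz⟩ := exists_smul_eq_zero_of_toBC_eq_zero p.primeCompl _ Q h2
      refine ht (hle (Ideal.mem_sup_right ?_))
      rw [LinearMap.mem_ker, LinearMap.toSpanSingleton_apply]; exact htz
    · have h2 : toBC (Localization.AtPrime p) Q u₀ = 0 := by
        refine eq_zero_of_mem_even_of_mem_odd (toBC_mem_even _ Q h₀) ?_
        have : toBC (Localization.AtPrime p) Q u₀ =
            toBC (Localization.AtPrime p) Q u - toBC (Localization.AtPrime p) Q u₁ := by
          rw [← hsum, map_add]; abel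
        rw [this]
        exact Submodule.sub_mem _ h (toBC_mem_odd _ Q h₁)
      obtain ⟨t, ht, htz⟩ := exists_smul_eq_zero_of_toBC_eq_zero p.primeCompl _ Q h2
      refine ht (hle (Ideal.mem_sup_left ?_))
      rw [LinearMap.mem_ker, LinearMap.toSpanSingleton_apply]; exact htz
  obtain ⟨a, ha, c, hc, hac⟩ := Submodule.mem_sup.mp ((Ideal.eq_top_iff_one _).mp htop)
  rw [LinearMap.mem_ker, LinearMap.toSpanSingleton_apply] at ha hc
  have hac0 : a * c = 0 := by
    have h1 : (a * c) • (u : CliffordAlgebra Q) = 0 := by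
      have e0 : (a * c) • u₀ = 0 := by rw [mul_comm, mul_smul, ha, smul_zero]
      have e1 : (a * c) • u₁ = 0 := by rw [mul_smul, hc, smul_zero]
      rw [← hsum, smul_add, e0, e1, add_zero]
    have h2 : algebraMap R (CliffordAlgebra Q) (a * c) = 0 := by
      have : algebraMap R _ (a * c) * (u : CliffordAlgebra Q) = 0 := by
        rw [← Algebra.smul_def]; exact h1
      exact (u.isUnit.mul_left_eq_zero).mp this
    exact algebraMap_injective Q (h2.trans (map_zero _).symm)
  refine ⟨c, ?_, ?_, ?_⟩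
  · change c * c = c
    linear_combination c * hac - hac0
  · rw [← hsum, smul_add, hc, add_zero]; exact Submodule.smul_mem _ _ h₀
  · have : (1 - c) = a := by rw [← hac]; ring
    rw [this, ← hsum, smul_add, ha, zero_add]; exact Submodule.smul_mem _ _ h₁

end LH

end Groth.Agent.H9.QG
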