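import Mathlib
import Groth.Agent.Lib.Helper7.QuadGrp.Half3
import Groth.Agent.Lib.Helper7.QuadGrp.HalfDisc

/-! Block identities for the half-discriminant (helper9). -/

set_option autoImplicit false

namespace Groth.Agent.H9.QO

open MvPolynomial Matrix Groth.Agent.H7.QG

section Block

variable {S : Type*} [CommRing S] (p q : ℕ)

/-- left block of a coefficient system -/
def cL (a : Sym2 (Fin (p + q)) → S) : Sym2 (Fin p) → S := fun s => a (s.map (Fin.castAdd q))

/-- right block of a coefficient system -/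
def cR (a : Sym2 (Fin (p + q)) → S) : Sym2 (Fin q) → S := fun s => a (s.map (Fin.natAdd p))

/-- the mixed coefficients vanish -/
def IsBlock (a : Sym2 (Fin (p + q)) → S) : Prop :=
  ∀ (i : Fin p) (k : Fin q), a s(Fin.castAdd q i, Fin.natAdd p k) = 0

theorem castAdd_ne_natAdd' (i : Fin p) (k : Fin q) : Fin.castAdd q i ≠ Fin.natAdd p k := by
  intro h
  have := congrArg Fin.val h
  rw [Fin.val_castAdd, Fin.val_natAdd] at this
  have := i.2
  omega

variable {p q}

theorem polMat_block (a : Sym2 (Fin (p + q)) → S) (h : IsBlock p q a) :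
    (polMat a).submatrix finSumFinEquiv finSumFinEquiv =
      Matrix.fromBlocks (polMat (cL p q a)) 0 0 (polMat (cR p q a)) := by
  ext x y
  rcases x with i | k <;> rcases y with j | l
  · simp only [submatrix_apply, finSumFinEquiv_apply_left, fromBlocks_apply₁₁, polMat, of_apply, cL,
      Sym2.map_mk, Fin.castAdd_inj]
  · simp only [submatrix_apply, finSumFinEquiv_apply_left, finSumFinEquiv_apply_right,
      fromBlocks_apply₁₂, polMat, of_apply, Matrix.zero_apply]
    rw [if_neg (castAdd_ne_natAdd' p q i l), h]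
  · simp only [submatrix_apply, finSumFinEquiv_apply_left, finSumFinEquiv_apply_right,
      fromBlocks_apply₂₁, polMat, of_apply, Matrix.zero_apply]
    rw [if_neg (castAdd_ne_natAdd' p q j k).symm, Sym2.eq_swap, h]
  · simp only [submatrix_apply, finSumFinEquiv_apply_right, fromBlocks_apply₂₂, polMat, of_apply, cR,
      Sym2.map_mk, Fin.natAdd_inj]

theorem dd_block (a : Sym2 (Fin (p + q)) → S) (h : IsBlock p q a) :
    dd a = dd (cL p q a) * dd (cR p q a) := by
  rw [dd_eq_det, dd_eq_det, dd_eq_det, ← det_submatrix_equiv_self finSumFinEquiv (polMat a),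
    polMat_block a h, det_fromBlocks_zero₂₁]

theorem hd_block_of_regular (hq : Odd q) (hp : Even p) (h2 : ∀ x : S, 2 * x = 0 → x = 0)
    (a : Sym2 (Fin (p + q)) → S) (h : IsBlock p q a) :
    hd a = dd (cL p q a) * hd (cR p q a) := by
  apply sub_eq_zero.1
  apply h2
  have hn : Odd (p + q) := hp.add_odd hq
  have h1 := two_mul_hd hn a
  rw [dd_block a h, ← two_mul_hd hq (cR p q a)] at h1
  linear_combination h1

theorem map_dd {S' : Type*} [CommRing S'] (φ : S →+* S') {n : ℕ} (a : Sym2 (Fin n) → S) :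
    φ (dd a) = dd (φ ∘ a) := by
  rw [dd, dd, eval₂_comp_left]
  congr 1
  exact RingHom.ext_int _ _

/-- a pair is mixed if it joins the two blocks -/
def Mixed (p q : ℕ) : Sym2 (Fin (p + q)) → Prop :=
  Sym2.lift ⟨fun x y => (x.val < p ∧ p ≤ y.val) ∨ (y.val < p ∧ p ≤ x.val), fun x y => by
    simp only [eq_iff_iff]; exact Or.comm⟩

theorem mixed_mk (x y : Fin (p + q)) :
    Mixed p q s(x, y) ↔ (x.val < p ∧ p ≤ y.val) ∨ (y.val < p ∧ p ≤ x.val) := Iff.rfl

theorem hd_block (hq : Odd q) (hp : Even p) (a : Sym2 (Fin (p + q)) → S) (h : IsBlock p q a) :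
    hd a = dd (cL p q a) * hd (cR p q a) := by
  classical
  let U := MvPolynomial (Sym2 (Fin (p + q))) ℤ
  let aU : Sym2 (Fin (p + q)) → U := fun s => if Mixed p q s then 0 else X s
  have hblock : IsBlock p q aU := by
    intro i k
    show (if Mixed p q s(Fin.castAdd q i, Fin.natAdd p k) then (0 : U) else X _) = 0
    rw [if_pos]
    rw [mixed_mk]
    left
    rw [Fin.val_castAdd, Fin.val_natAdd]
    exact ⟨i.2, Nat.le_add_right _ _⟩
  have hU : hd aU = dd (cL p q aU) * hd (cR p q aU) := by
    apply hd_block_of_regular hq hp _ aU hblock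
    intro x hx
    rcases mul_eq_zero.1 hx with h' | h'
    · exfalso
      have h3 : (C (2 : ℤ) : U) = 0 := by
        rw [← h']; simp
      have := congrArg (coeff 0) h3
      rw [coeff_C, if_pos rfl, coeff_zero] at this
      norm_num at this
    · exact h'
  let ev : U →+* S := eval₂Hom (Int.castRingHom S) a
  have h1 : ev ∘ aU = a := by
    funext s
    show ev (if Mixed p q s then (0 : U) else X s) = a s
    split_ifs with hm
    · rw [map_zero]
      induction s using Sym2.ind with
      | _ x y =>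
        rw [mixed_mk] at hm
        rcases hm with ⟨hx, hy⟩ | ⟨hy, hx⟩
        · have e1 : x = Fin.castAdd q ⟨x.val, hx⟩ := Fin.ext (by simp)
          have e2 : y = Fin.natAdd p ⟨y.val - p, by have := y.2; omega⟩ :=
            Fin.ext (by simp; omega)
          rw [e1, e2, h]
        · have e1 : y = Fin.castAdd q ⟨y.val, hy⟩ := Fin.ext (by simp)
          have e2 : x = Fin.natAdd p ⟨x.val - p, by have := x.2; omega⟩ :=
            Fin.ext (by simp; omega)
          rw [Sym2.eq_swap, e1, e2, h]
    · show eval₂ _ _ (X _) = _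
      rw [eval₂_X]
  have hL : ev ∘ cL p q aU = cL p q a := by
    funext s; show ev (aU _) = a _; rw [← h1]; rfl
  have hR : ev ∘ cR p q aU = cR p q a := by
    funext s; show ev (aU _) = a _; rw [← h1]; rfl
  have h3 := congrArg ev hU
  rw [map_hd, h1, map_mul, map_dd, map_hd, hL, hR] at h3
  exact h3

/-- the half-discriminant in rank one -/
theorem hd_one (a : Sym2 (Fin 1) → S) : hd a = a s(0, 0) := by
  have hU : QuadGrp.halfDiscUniv 1 = X s((0 : Fin 1), 0) := by
    have h1 := discUniv_eq_two_mul_halfDiscUniv 1 (by decide)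
    have h2 : QuadGrp.discUniv 1 = 2 * X s((0 : Fin 1), 0) := by
      rw [QuadGrp.discUniv, det_fin_one, QuadGrp.univPolarMat, of_apply, if_pos rfl]
    rw [h2] at h1
    have h3 : (2 : MvPolynomial (Sym2 (Fin 1)) ℤ) ≠ 0 := by
      intro h'
      have h3 : (C (2 : ℤ) : MvPolynomial (Sym2 (Fin 1)) ℤ) = 0 := by
        rw [← h']; simp
      have := congrArg (coeff 0) h3
      rw [coeff_C, if_pos rfl, coeff_zero] at this
      norm_num at this
    exact (mul_left_cancel₀ h3 h1).symm
  rw [hd, hU, eval₂_X]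

/-- the half-discriminant lies in any ideal containing `2` and the off-diagonal coefficients -/
theorem hd_mem_of_offdiag {n : ℕ} (hn : 2 ≤ n) (a : Sym2 (Fin n) → S) (I : Ideal S)
    (h2 : (2 : S) ∈ I) (h : ∀ s : Sym2 (Fin n), ¬ s.IsDiag → a s ∈ I) : hd a ∈ I := by
  classical
  rw [hd, eval₂_eq]
  refine Ideal.sum_mem _ (fun d _ => ?_)
  by_cases hdiag : DiagSupp n d
  · rw [coeff_halfDiscUniv_of_diagSupp n d hdiag]
    split_ifs
    · apply Ideal.mul_mem_right
      have h2' : ((2 : ℤ) ^ n / 2 : ℤ) = 2 ^ (n - 2) * 2 := by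
        obtain ⟨m, rfl⟩ : ∃ m, n = m + 2 := ⟨n - 2, by omega⟩
        rw [pow_succ, Int.mul_ediv_cancel _ (by norm_num), Nat.add_sub_cancel, pow_succ]
      rw [h2', map_mul, map_pow, map_ofNat]
      exact Ideal.mul_mem_left _ _ h2
    · simp
  · unfold DiagSupp at hdiag
    push Not at hdiag
    obtain ⟨z, hz, hzd⟩ := hdiag
    apply Ideal.mul_mem_left
    rw [← Finset.mul_prod_erase d.support _ hz]
    apply Ideal.mul_mem_right
    obtain ⟨k, hk⟩ := Nat.exists_eq_succ_of_ne_zero (Finsupp.mem_support_iff.1 hz)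
    rw [hk, pow_succ']
    exact Ideal.mul_mem_right _ _ (h z hzd)

end Block

end Groth.Agent.H9.QO
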