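import Mathlib
import Groth.Agent.Lib.Helper9.Misc.QG8
import Groth.Agent.Lib.Helper9.Misc.QO1

/-! Splitting a semiregular quadratic form of odd rank over a local ring (helper9). -/

set_option autoImplicit false

open QuadraticMap Groth.Agent.H7.QG Groth.Agent.H9.QG

namespace Groth.Agent.H9.QO

universe u v

variable {R : Type u} [CommRing R] {M : Type v} [AddCommGroup M] [Module R M]

theorem halfDisc_eq_hd {n : ℕ} (b : Module.Basis (Fin n) R M) (Q : QuadraticForm R M) :
    QuadGrp.halfDisc b (LinearEquiv.refl R R) Q =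
      hd (QuadGrp.coeffs b (LinearEquiv.refl R R) Q) := rfl

theorem coeffs_comp_equiv {n : ℕ} (b b'' : Module.Basis (Fin n) R M) (Q : QuadraticForm R M) :
    QuadGrp.coeffs b (LinearEquiv.refl R R)
        (Q.comp ((b.equiv b'' (Equiv.refl _) : M ≃ₗ[R] M) : M →ₗ[R] M)) =
      QuadGrp.coeffs b'' (LinearEquiv.refl R R) Q := by
  funext s
  induction s using Sym2.ind with
  | _ i j =>
    rw [QuadGrp.coeffs_mk, QuadGrp.coeffs_mk]
    have hg : ∀ i, ((b.equiv b'' (Equiv.refl _) : M ≃ₗ[R] M) : M →ₗ[R] M) (b i) = b'' i :=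
      fun i => by simp
    have hpol : QuadraticMap.polar
        (Q.comp ((b.equiv b'' (Equiv.refl _) : M ≃ₗ[R] M) : M →ₗ[R] M)) (b i) (b j) =
        QuadraticMap.polar Q (b'' i) (b'' j) := by
      simp only [QuadraticMap.polar, QuadraticMap.comp_apply, map_add, hg]
    split_ifs
    · rw [QuadraticMap.comp_apply, hg]
    · rw [hpol]

theorem isUnit_halfDisc_of_bases {n n' : ℕ} (h : n = n') (hn : Odd n)
    (b : Module.Basis (Fin n) R M) (b'' : Module.Basis (Fin n') R M) (Q : QuadraticForm R M)
    (hb : IsUnit (QuadGrp.halfDisc b (LinearEquiv.refl R R) Q)) :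
    IsUnit (QuadGrp.halfDisc b'' (LinearEquiv.refl R R) Q) := by
  subst h
  have h1 := halfDisc_comp hn b Q ((b.equiv b'' (Equiv.refl _) : M ≃ₗ[R] M) : M →ₗ[R] M)
  change hd (QuadGrp.coeffs b (LinearEquiv.refl R R) (Q.comp _)) = _ at h1
  rw [coeffs_comp_equiv] at h1
  rw [halfDisc_eq_hd b'' Q, h1]
  exact ((LinearEquiv.isUnit_det' _).pow 2).mul hb

theorem gram_eq_polMat {n : ℕ} (b : Module.Basis (Fin n) R M) (Q : QuadraticForm R M) :
    gram b Q = polMat (QuadGrp.coeffs b (LinearEquiv.refl R R) Q) := by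
  ext i j
  rw [gram, Matrix.of_apply, polMat, Matrix.of_apply, QuadGrp.coeffs_mk]
  split_ifs with h
  · subst h
    rw [polar_self, LinearEquiv.refl_apply, nsmul_eq_mul]
    norm_num
  · rfl

theorem isRegular_of_isSemiregular {n : ℕ} (hn : Odd n) (b : Module.Basis (Fin n) R M)
    (Q : QuadraticForm R M) (h2 : IsUnit (2 : R))
    (h : QuadGrp.IsSemiregular b (LinearEquiv.refl R R) Q) : QuadGrp.IsRegular Q := by
  rw [isRegular_iff_isUnit_det b Q, gram_eq_polMat, ← dd_eq_det, ← two_mul_hd hn]
  exact h2.mul h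

theorem exists_plane_of_isSemiregular [IsLocalRing R] {n : ℕ} (hn : Odd n) (hn3 : 3 ≤ n)
    (b : Module.Basis (Fin n) R M) (Q : QuadraticForm R M)
    (h : QuadGrp.IsSemiregular b (LinearEquiv.refl R R) Q) :
    ∃ e f : M, polar Q e f = 1 ∧ IsUnit (1 - 4 * Q e * Q f) := by
  haveI : Module.Free R M := Module.Free.of_basis b
  haveI : Module.Finite R M := Module.Finite.of_basis b
  by_cases h2 : IsUnit (2 : R)
  · have hQ := isRegular_of_isSemiregular hn b Q h2 h
    have hrank : Module.finrank R M = n := by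
      rw [Module.finrank_eq_card_basis b, Fintype.card_fin]
    exact exists_plane Q hQ (by omega)
  · have h2m : (2 : R) ∈ IsLocalRing.maximalIdeal R := (IsLocalRing.mem_maximalIdeal _).mpr h2
    by_contra hne
    push Not at hne
    have hoff : ∀ s : Sym2 (Fin n), ¬ s.IsDiag →
        QuadGrp.coeffs b (LinearEquiv.refl R R) Q s ∈ IsLocalRing.maximalIdeal R := by
      intro s hs
      induction s using Sym2.ind with
      | _ i j =>
        have hij : i ≠ j := fun h' => hs (Sym2.mk_isDiag_iff.2 h')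
        rw [QuadGrp.coeffs_mk, if_neg hij, LinearEquiv.refl_apply]
        by_contra hu
        rw [IsLocalRing.mem_maximalIdeal, mem_nonunits_iff, not_not] at hu
        obtain ⟨t, ht⟩ := hu
        apply hne (b i) ((↑t⁻¹ : R) • b j)
        · rw [polar_smul_right, ← ht, smul_eq_mul, Units.inv_mul]
        · apply IsLocalRing.isUnit_one_sub_self_of_mem_nonunits
          have e4 : (4 : R) * Q (b i) * Q ((↑t⁻¹ : R) • b j) =
              2 * (2 * Q (b i) * Q ((↑t⁻¹ : R) • b j)) := by ring
          rw [e4, ← IsLocalRing.mem_maximalIdeal]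
          exact Ideal.mul_mem_right _ _ h2m
    have hmem := hd_mem_of_offdiag (by omega : 2 ≤ n) _ _ h2m hoff
    rw [IsLocalRing.mem_maximalIdeal] at hmem
    exact hmem h

section Transfer

variable {Q : QuadraticForm R M} {e f : M} {d' : R}
variable (hef : polar Q e f = 1) (hd : (1 - 4 * Q e * Q f) * d' = 1)

/-- the basis of `M` adapted to the splitting off of a plane -/
noncomputable def adaptedBasis {q : ℕ} (b' : Module.Basis (Fin q) R (Nsub Q e f)) :
    Module.Basis (Fin (2 + q)) R M :=
  (((Module.Basis.finTwoProd R).prod b').map (splitEquiv hef hd).symm).reindex finSumFinEquiv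

theorem splitEquiv_symm_apply (p : (R × R) × Nsub Q e f) :
    (splitEquiv hef hd).symm p = p.1.1 • e + p.1.2 • f + (p.2 : M) := rfl

theorem adaptedBasis_zero {q : ℕ} (b' : Module.Basis (Fin q) R (Nsub Q e f)) :
    adaptedBasis hef hd b' (Fin.castAdd q 0) = e := by
  rw [adaptedBasis, Module.Basis.reindex_apply, ← finSumFinEquiv_apply_left,
    Equiv.symm_apply_apply, Module.Basis.map_apply, Module.Basis.prod_apply, Sum.elim_inl,
    Function.comp_apply, Module.Basis.finTwoProd_zero, LinearMap.inl_apply,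
    splitEquiv_symm_apply]
  simp

theorem adaptedBasis_one {q : ℕ} (b' : Module.Basis (Fin q) R (Nsub Q e f)) :
    adaptedBasis hef hd b' (Fin.castAdd q 1) = f := by
  rw [adaptedBasis, Module.Basis.reindex_apply, ← finSumFinEquiv_apply_left,
    Equiv.symm_apply_apply, Module.Basis.map_apply, Module.Basis.prod_apply, Sum.elim_inl,
    Function.comp_apply, Module.Basis.finTwoProd_one, LinearMap.inl_apply,
    splitEquiv_symm_apply]
  simp

theorem adaptedBasis_natAdd {q : ℕ} (b' : Module.Basis (Fin q) R (Nsub Q e f)) (k : Fin q) :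
    adaptedBasis hef hd b' (Fin.natAdd 2 k) = (b' k : M) := by
  rw [adaptedBasis, Module.Basis.reindex_apply, ← finSumFinEquiv_apply_right,
    Equiv.symm_apply_apply, Module.Basis.map_apply, Module.Basis.prod_apply, Sum.elim_inr,
    Function.comp_apply, LinearMap.inr_apply, splitEquiv_symm_apply]
  simp

include hef hd in
theorem isUnit_halfDisc_QN {n q : ℕ} (hn : Odd n) (hnq : n = 2 + q)
    (b : Module.Basis (Fin n) R M)
    (hb : IsUnit (QuadGrp.halfDisc b (LinearEquiv.refl R R) Q))
    (b' : Module.Basis (Fin q) R (Nsub Q e f)) :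
    IsUnit (QuadGrp.halfDisc b' (LinearEquiv.refl R (R)) (QN (Q := Q) (e := e) (f := f))) := by
  have hq : Odd q := by
    rcases hn with ⟨k, hk⟩
    exact ⟨k - 1, by omega⟩
  have h1 := isUnit_halfDisc_of_bases hnq hn b (adaptedBasis hef hd b') Q hb
  rw [halfDisc_eq_hd] at h1
  have hblock : IsBlock 2 q
      (QuadGrp.coeffs (adaptedBasis hef hd b') (LinearEquiv.refl R R) Q) := by
    intro i k
    rw [QuadGrp.coeffs_mk, if_neg (castAdd_ne_natAdd' 2 q i k), LinearEquiv.refl_apply,
      adaptedBasis_natAdd]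
    have hk := (mem_Nsub Q e f _).mp (b' k).2
    have hi : i = 0 ∨ i = 1 := by fin_cases i <;> simp
    rcases hi with rfl | rfl
    · rw [adaptedBasis_zero]; exact hk.1
    · rw [adaptedBasis_one]; exact hk.2
  have hR : cR 2 q (QuadGrp.coeffs (adaptedBasis hef hd b') (LinearEquiv.refl R R) Q) =
      QuadGrp.coeffs b' (LinearEquiv.refl R R) (QN (Q := Q) (e := e) (f := f)) := by
    funext s
    induction s using Sym2.ind with
    | _ k l =>
      show QuadGrp.coeffs (adaptedBasis hef hd b') (LinearEquiv.refl R R) Q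
        (Sym2.map (Fin.natAdd 2) s(k, l)) = _
      rw [Sym2.map_mk, QuadGrp.coeffs_mk, QuadGrp.coeffs_mk]
      simp only [Fin.natAdd_inj, adaptedBasis_natAdd, LinearEquiv.refl_apply]
      split_ifs
      · rfl
      · exact (polar_QN _ _).symm
  have hL : dd (cL 2 q (QuadGrp.coeffs (adaptedBasis hef hd b') (LinearEquiv.refl R R) Q)) =
      -(1 - 4 * Q e * Q f) := by
    have e00 : cL 2 q (QuadGrp.coeffs (adaptedBasis hef hd b') (LinearEquiv.refl R R) Q)
        s((0 : Fin 2), 0) = Q e := by
      show QuadGrp.coeffs (adaptedBasis hef hd b') (LinearEquiv.refl R R) Q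
        (Sym2.map (Fin.castAdd q) s((0 : Fin 2), 0)) = _
      rw [Sym2.map_mk, QuadGrp.coeffs_mk, if_pos rfl, adaptedBasis_zero, LinearEquiv.refl_apply]
    have e11 : cL 2 q (QuadGrp.coeffs (adaptedBasis hef hd b') (LinearEquiv.refl R R) Q)
        s((1 : Fin 2), 1) = Q f := by
      show QuadGrp.coeffs (adaptedBasis hef hd b') (LinearEquiv.refl R R) Q
        (Sym2.map (Fin.castAdd q) s((1 : Fin 2), 1)) = _
      rw [Sym2.map_mk, QuadGrp.coeffs_mk, if_pos rfl, adaptedBasis_one, LinearEquiv.refl_apply]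
    have e01 : cL 2 q (QuadGrp.coeffs (adaptedBasis hef hd b') (LinearEquiv.refl R R) Q)
        s((0 : Fin 2), 1) = 1 := by
      show QuadGrp.coeffs (adaptedBasis hef hd b') (LinearEquiv.refl R R) Q
        (Sym2.map (Fin.castAdd q) s((0 : Fin 2), 1)) = _
      rw [Sym2.map_mk, QuadGrp.coeffs_mk, if_neg, adaptedBasis_zero, adaptedBasis_one,
        LinearEquiv.refl_apply, hef]
      rw [Fin.castAdd_inj]; decide
    have e10 : cL 2 q (QuadGrp.coeffs (adaptedBasis hef hd b') (LinearEquiv.refl R R) Q)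
        s((1 : Fin 2), 0) = 1 := by rw [Sym2.eq_swap, e01]
    rw [dd_eq_det, Matrix.det_fin_two]
    simp only [polMat, Matrix.of_apply, e00, e11, e01, e10]
    simp
    ring
  rw [hd_block hq (by decide) _ hblock, hL, hR] at h1
  exact isUnit_of_mul_isUnit_right h1

end Transfer

/-- an orthogonal splitting `M = N ⊥ R x₀` with `N = ker φ₀` regular and `Q x₀` a unit -/
structure OddSplit (Q : QuadraticForm R M) (x₀ : M) (φ₀ : M →ₗ[R] R) : Prop where
  unit : IsUnit (Q x₀)
  one : φ₀ x₀ = 1
  orth : ∀ x, φ₀ x = 0 → polar Q x₀ x = 0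
  reg : ∀ φ : M →ₗ[R] R, ∃ x, φ₀ x = 0 ∧ ∀ n, φ₀ n = 0 → polar Q x n = φ n
  inj : ∀ x, φ₀ x = 0 → (∀ n, φ₀ n = 0 → polar Q x n = 0) → x = 0

section Lift

variable {Q : QuadraticForm R M} {e f : M} {d' : R}
variable (hef : polar Q e f = 1) (hd : (1 - 4 * Q e * Q f) * d' = 1)

include hef hd in
theorem OddSplit.lift {x₀' : Nsub Q e f} {φ₀' : Nsub Q e f →ₗ[R] R}
    (h : OddSplit (QN (Q := Q) (e := e) (f := f)) x₀' φ₀') :
    OddSplit Q (x₀' : M) (φ₀' ∘ₗ projN hef hd) := by
  have hx₀N := (mem_Nsub Q e f _).mp x₀'.2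
  have hprojN_e : projN hef hd e = 0 := by
    apply Subtype.ext
    rw [projN_coe, Groth.Agent.H9.QG.proj_apply, alpha_e hef hd, beta_e hef hd]
    simp
  have hprojN_f : projN hef hd f = 0 := by
    apply Subtype.ext
    rw [projN_coe, Groth.Agent.H9.QG.proj_apply, alpha_f hef hd, beta_f hef hd]
    simp
  refine ⟨h.unit, ?_, ?_, ?_, ?_⟩
  · rw [LinearMap.comp_apply, projN_N]; exact h.one
  · intro x hx
    rw [LinearMap.comp_apply] at hx
    have h3 := h.orth (projN hef hd x) hx
    rw [polar_QN, projN_coe] at h3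
    rw [decomp (Q := Q) (e := e) (f := f) (d' := d') x, polar_add_right, polar_add_right,
      polar_smul_right, polar_smul_right, polar_comm Q _ e, polar_comm Q _ f, hx₀N.1, hx₀N.2, h3]
    simp
  · intro φ
    obtain ⟨x', hx'0, hx'⟩ := h.reg (φ ∘ₗ (Nsub Q e f).subtype)
    have hx'N := (mem_Nsub Q e f _).mp x'.2
    refine ⟨(d' * (φ f - 2 * Q f * φ e)) • e + (d' * (φ e - 2 * Q e * φ f)) • f + (x' : M),
      ?_, ?_⟩
    · simp only [LinearMap.comp_apply, map_add, map_smul, hprojN_e, hprojN_f, projN_N, map_zero,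
        smul_zero, add_zero, hx'0]
    · intro n hn
      rw [LinearMap.comp_apply] at hn
      have hpe : polar Q ((d' * (φ f - 2 * Q f * φ e)) • e +
          (d' * (φ e - 2 * Q e * φ f)) • f + (x' : M)) e = φ e := by
        rw [polar_add_left, polar_add_left, polar_smul_left, polar_smul_left, polar_self,
          polar_comm Q f e, hef, polar_comm Q _ e, hx'N.1]
        simp only [smul_eq_mul, nsmul_eq_mul, Nat.cast_ofNat]
        linear_combination (φ e) * hd
      have hpf : polar Q ((d' * (φ f - 2 * Q f * φ e)) • e +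
          (d' * (φ e - 2 * Q e * φ f)) • f + (x' : M)) f = φ f := by
        rw [polar_add_left, polar_add_left, polar_smul_left, polar_smul_left, polar_self,
          hef, polar_comm Q _ f, hx'N.2]
        simp only [smul_eq_mul, nsmul_eq_mul, Nat.cast_ofNat]
        linear_combination (φ f) * hd
      have hpn : polar Q ((d' * (φ f - 2 * Q f * φ e)) • e +
          (d' * (φ e - 2 * Q e * φ f)) • f + (x' : M)) (proj Q e f d' n) =
          φ (proj Q e f d' n) := by
        have hpN := (mem_Nsub Q e f _).mp (proj_mem hef hd n)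
        have h4 := hx' (projN hef hd n) hn
        rw [polar_QN, projN_coe, LinearMap.comp_apply, Submodule.subtype_apply, projN_coe] at h4
        rw [polar_add_left, polar_add_left, polar_smul_left, polar_smul_left, hpN.1, hpN.2, h4]
        simp
      have h5 := congrArg φ (decomp (Q := Q) (e := e) (f := f) (d' := d') n)
      rw [map_add, map_add, map_smul, map_smul] at h5
      conv_lhs => rw [decomp (Q := Q) (e := e) (f := f) (d' := d') n]
      rw [polar_add_right, polar_add_right, polar_smul_right, polar_smul_right, hpe, hpf, hpn]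
      exact h5.symm
  · intro x hx hall
    rw [LinearMap.comp_apply] at hx
    have he : polar Q x e = 0 :=
      hall e (by rw [LinearMap.comp_apply, hprojN_e, map_zero])
    have hf : polar Q x f = 0 :=
      hall f (by rw [LinearMap.comp_apply, hprojN_f, map_zero])
    have hxN : x ∈ Nsub Q e f :=
      (mem_Nsub Q e f x).mpr ⟨by rw [polar_comm]; exact he, by rw [polar_comm]; exact hf⟩
    have h0 := h.inj ⟨x, hxN⟩ (by rw [← projN_N hef hd ⟨x, hxN⟩]; exact hx) (fun n' hn' => by
      rw [polar_QN]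
      exact hall n' (by rw [LinearMap.comp_apply, projN_N]; exact hn'))
    exact congrArg Subtype.val h0

end Lift

theorem oddSplit_of_rank_one (b : Module.Basis (Fin 1) R M) (Q : QuadraticForm R M)
    (h : IsUnit (QuadGrp.halfDisc b (LinearEquiv.refl R R) Q)) :
    OddSplit Q (b 0) (b.coord 0) := by
  have hzero : ∀ x, b.coord 0 x = 0 → x = 0 := by
    intro x hx
    apply b.ext_elem
    intro i
    rw [Module.Basis.coord_apply] at hx
    rw [Subsingleton.elim i 0, hx]
    simp
  refine ⟨?_, ?_, ?_, ?_, ?_⟩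
  · rw [halfDisc_eq_hd, hd_one, QuadGrp.coeffs_mk, if_pos rfl, LinearEquiv.refl_apply] at h
    exact h
  · rw [Module.Basis.coord_apply, Module.Basis.repr_self, Finsupp.single_eq_same]
  · intro x hx
    rw [hzero x hx, polar_zero_right]
  · intro φ
    exact ⟨0, map_zero _, fun n hn => by rw [hzero n hn, polar_zero_right, map_zero]⟩
  · intro x hx _
    exact hzero x hx

/-- a semiregular form of odd rank over a local ring splits as a regular form of even rank plus
a unit line -/
theorem exists_oddSplit [IsLocalRing R] : ∀ (m : ℕ) (M : Type v) [AddCommGroup M] [Module R M]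
    (Q : QuadraticForm R M) (n : ℕ) (_ : n = 2 * m + 1) (b : Module.Basis (Fin n) R M),
    IsUnit (QuadGrp.halfDisc b (LinearEquiv.refl R R) Q) →
    ∃ (x₀ : M) (φ₀ : M →ₗ[R] R), OddSplit Q x₀ φ₀ := by
  intro m
  induction m with
  | zero =>
    intro M _ _ Q n hn b hb
    subst hn
    exact ⟨_, _, oddSplit_of_rank_one b Q hb⟩
  | succ m ih =>
    intro M _ _ Q n hn b hb
    haveI : Module.Free R M := Module.Free.of_basis b
    haveI : Module.Finite R M := Module.Finite.of_basis b
    have hodd : Odd n := ⟨m + 1, by omega⟩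
    obtain ⟨e, f, hef, hu⟩ := exists_plane_of_isSemiregular hodd (by omega) b Q hb
    obtain ⟨d', hd⟩ := hu.exists_right_inv
    haveI := finite_N hef hd
    haveI := free_N hef hd
    have hrank := finrank_N hef hd
    have hM : Module.finrank R M = n := by
      rw [Module.finrank_eq_card_basis b, Fintype.card_fin]
    have hq : Module.finrank R (Nsub Q e f) = 2 * m + 1 := by omega
    have hb' := isUnit_halfDisc_QN hef hd hodd
      (by omega : n = 2 + Module.finrank R (Nsub Q e f)) b hb (Module.finBasis R (Nsub Q e f))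
    obtain ⟨x₀', φ₀', h'⟩ := ih (Nsub Q e f) QN (Module.finrank R (Nsub Q e f)) hq
      (Module.finBasis R (Nsub Q e f)) hb'
    exact ⟨_, _, h'.lift hef hd⟩

end Groth.Agent.H9.QO
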