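import Mathlib
import Groth.Agent.Lib.Helper9.Misc.QG12
import Groth.Agent.Lib.Helper9.Misc.QO2

/-! The Clifford algebra of a semiregular form of odd rank over a local ring: the centre (helper9). -/

set_option autoImplicit false

open CliffordAlgebra QuadraticMap Groth.Agent.H9.QG

namespace Groth.Agent.H9.QO

universe u v

variable {R : Type u} [CommRing R] {M : Type v} [AddCommGroup M] [Module R M]

/-! ### generalities -/

theorem star_map {M₁ : Type*} [AddCommGroup M₁] [Module R M₁] {Q₁ : QuadraticForm R M₁}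
    {Q : QuadraticForm R M} (j : Q₁ →qᵢ Q) (a : CliffordAlgebra Q₁) :
    star (CliffordAlgebra.map j a) = CliffordAlgebra.map j (star a) := by
  induction a using CliffordAlgebra.induction with
  | algebraMap r => rw [AlgHom.commutes, star_algebraMap, star_algebraMap, AlgHom.commutes]
  | ι x => rw [map_apply_ι, star_ι, star_ι, map_neg, map_apply_ι]
  | mul a c ha hc => rw [map_mul, star_mul, star_mul, map_mul, ha, hc]
  | add a c ha hc => rw [map_add, star_add, star_add, map_add, ha, hc]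

theorem ι_mul_map_of_orth {M₁ : Type*} [AddCommGroup M₁] [Module R M₁] {Q₁ : QuadraticForm R M₁}
    {Q : QuadraticForm R M} (j : Q₁ →qᵢ Q) (x : M) (hx : ∀ n, polar Q x (j n) = 0)
    (c : CliffordAlgebra Q₁) :
    ι Q x * CliffordAlgebra.map j c = CliffordAlgebra.map j (involute c) * ι Q x := by
  induction c using CliffordAlgebra.left_induction with
  | algebraMap r =>
    simp only [AlgHom.commutes]
    exact (Algebra.commutes r _).symm
  | add a b ha hb => simp only [map_add, mul_add, add_mul, ha, hb]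
  | ι_mul c n ih =>
    simp only [map_mul, map_neg, involute_ι, map_apply_ι]
    rw [← mul_assoc, ι_anticomm_of_polar (hx n), neg_mul, mul_assoc, ih]
    simp only [neg_mul, mul_assoc]

theorem central_of_comm_ι {Q : QuadraticForm R M} {a : CliffordAlgebra Q}
    (h : ∀ x, a * ι Q x = ι Q x * a) (c : CliffordAlgebra Q) : a * c = c * a := by
  induction c using CliffordAlgebra.induction with
  | algebraMap r => exact (Algebra.commutes r a).symm
  | ι x => exact h x
  | mul c d hc hd => rw [← mul_assoc, hc, mul_assoc, hd, mul_assoc]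
  | add c d hc hd => rw [mul_add, add_mul, hc, hd]

/-- the even and odd parts of a central element are central -/
theorem central_parts {Q : QuadraticForm R M} {a₀ a₁ : CliffordAlgebra Q}
    (h₀ : a₀ ∈ evenOdd Q 0) (h₁ : a₁ ∈ evenOdd Q 1)
    (h : ∀ x, (a₀ + a₁) * ι Q x = ι Q x * (a₀ + a₁)) (x : M) :
    a₀ * ι Q x = ι Q x * a₀ ∧ a₁ * ι Q x = ι Q x * a₁ := by
  have hx := h x
  rw [add_mul, mul_add] at hx
  have e1 : a₀ * ι Q x - ι Q x * a₀ = ι Q x * a₁ - a₁ * ι Q x := by
    rw [sub_eq_sub_iff_add_eq_add]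
    rw [hx]; abel
  have hodd : a₀ * ι Q x - ι Q x * a₀ ∈ evenOdd Q 1 :=
    Submodule.sub_mem _ (mul_ι_mem_odd Q x h₀) (ι_mul_mem_odd Q x h₀)
  have heven : a₀ * ι Q x - ι Q x * a₀ ∈ evenOdd Q 0 := by
    rw [e1]
    exact Submodule.sub_mem _ (ι_mul_mem_even Q x h₁) (mul_ι_mem_even Q x h₁)
  have hz := eq_zero_of_mem_even_of_mem_odd heven hodd
  refine ⟨sub_eq_zero.mp hz, ?_⟩
  rw [hz] at e1
  exact (sub_eq_zero.mp e1.symm).symm

/-! ### the kernel of `φ₀` as a regular quadratic module -/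

section Ker

variable {Q : QuadraticForm R M} {x₀ : M} {φ₀ : M →ₗ[R] R}

/-- the projection onto `ker φ₀` along `x₀` -/
noncomputable def projK (h1 : φ₀ x₀ = 1) : M →ₗ[R] LinearMap.ker φ₀ :=
  (LinearMap.id - φ₀.smulRight x₀).codRestrict _ (fun x => by
    rw [LinearMap.mem_ker, LinearMap.sub_apply, LinearMap.id_apply, LinearMap.smulRight_apply,
      map_sub, map_smul, h1, smul_eq_mul, mul_one, sub_self])

theorem projK_coe (h1 : φ₀ x₀ = 1) (x : M) : (projK h1 x : M) = x - φ₀ x • x₀ := rfl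

theorem projK_ker (h1 : φ₀ x₀ = 1) (n : LinearMap.ker φ₀) : projK h1 (n : M) = n := by
  apply Subtype.ext
  rw [projK_coe, LinearMap.mem_ker.mp n.2, zero_smul, sub_zero]

theorem decompK (h1 : φ₀ x₀ = 1) (x : M) : x = (projK h1 x : M) + φ₀ x • x₀ := by
  rw [projK_coe]; abel

/-- the restriction of the form to `ker φ₀` -/
noncomputable def QK (Q : QuadraticForm R M) (φ₀ : M →ₗ[R] R) :
    QuadraticForm R (LinearMap.ker φ₀) := Q.comp (LinearMap.ker φ₀).subtype

theorem QK_apply (x : LinearMap.ker φ₀) : QK Q φ₀ x = Q (x : M) := rfl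

theorem polar_QK (x y : LinearMap.ker φ₀) :
    polar (QK Q φ₀) x y = polar Q (x : M) (y : M) := by
  simp [polar, QK_apply]

/-- the inclusion as an isometry -/
noncomputable def inclK (Q : QuadraticForm R M) (φ₀ : M →ₗ[R] R) : QK Q φ₀ →qᵢ Q :=
  { (LinearMap.ker φ₀).subtype with map_app' := fun _ => rfl }

theorem inclK_apply (x : LinearMap.ker φ₀) : inclK Q φ₀ x = (x : M) := rfl

theorem isRegular_QK (h : OddSplit Q x₀ φ₀) : QuadGrp.IsRegular (QK Q φ₀) := by
  constructor
  · rw [injective_iff_map_eq_zero]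
    intro x hx
    have := h.inj (x : M) (LinearMap.mem_ker.mp x.2) (fun n hn => by
      have h3 := LinearMap.congr_fun hx ⟨n, LinearMap.mem_ker.mpr hn⟩
      rw [polarBilin_apply_apply, polar_QK, LinearMap.zero_apply] at h3
      exact h3)
    exact Subtype.ext this
  · intro ψ
    obtain ⟨x, hx0, hx⟩ := h.reg (ψ ∘ₗ projK h.one)
    refine ⟨⟨x, LinearMap.mem_ker.mpr hx0⟩, ?_⟩
    ext n
    rw [polarBilin_apply_apply, polar_QK, hx (n : M) (LinearMap.mem_ker.mp n.2),
      LinearMap.comp_apply, projK_ker]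

theorem finite_K (h1 : φ₀ x₀ = 1) [Module.Finite R M] : Module.Finite R (LinearMap.ker φ₀) :=
  Module.Finite.of_surjective (projK h1) (fun n => ⟨n, projK_ker h1 n⟩)

theorem projective_K (h1 : φ₀ x₀ = 1) [Module.Projective R M] :
    Module.Projective R (LinearMap.ker φ₀) :=
  Module.Projective.of_split (LinearMap.ker φ₀).subtype (projK h1)
    (LinearMap.ext fun x => projK_ker h1 x)

theorem free_K (h1 : φ₀ x₀ = 1) [IsLocalRing R] [Module.Free R M] [Module.Finite R M] :
    Module.Free R (LinearMap.ker φ₀) := by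
  haveI := finite_K h1
  haveI := projective_K h1
  exact Module.free_of_flat_of_isLocalRing

/-- `M ≃ ker φ₀ × R` -/
noncomputable def equivK (h1 : φ₀ x₀ = 1) : M ≃ₗ[R] LinearMap.ker φ₀ × R where
  toFun x := (projK h1 x, φ₀ x)
  map_add' x y := by simp
  map_smul' r x := by simp
  invFun p := (p.1 : M) + p.2 • x₀
  left_inv x := (decompK h1 x).symm
  right_inv p := by
    obtain ⟨n, t⟩ := p
    have h2 : φ₀ ((n : M) + t • x₀) = t := by
      rw [map_add, map_smul, h1, LinearMap.mem_ker.mp n.2]; simp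
    have h3 : projK h1 ((n : M) + t • x₀) = n := by
      apply Subtype.ext
      rw [projK_coe, h2]; abel
    change (projK h1 _, φ₀ _) = _
    rw [h2, h3]

theorem finrank_K (h1 : φ₀ x₀ = 1) [IsLocalRing R] [Module.Free R M] [Module.Finite R M] :
    Module.finrank R M = Module.finrank R (LinearMap.ker φ₀) + 1 := by
  haveI := finite_K h1
  haveI := free_K h1
  rw [(equivK h1).finrank_eq, Module.finrank_prod, Module.finrank_self]

end Ker

/-! ### good elements with prescribed behaviour under the anti-involution -/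

theorem star_step_even {C : Type*} [Ring C] (Y z : C) (h : Y * z = z * Y) :
    Y + (1 - (Y + Y)) * (1 - z) = 1 - (Y + z * (1 - 2 * Y)) := by
  calc Y + (1 - (Y + Y)) * (1 - z) = 1 - Y - z + 2 * (Y * z) := by noncomm_ring
    _ = 1 - Y - z + 2 * (z * Y) := by rw [h]
    _ = 1 - (Y + z * (1 - 2 * Y)) := by noncomm_ring

theorem star_step_odd {C : Type*} [Ring C] (Y z : C) (h : Y * z = z * Y) :
    (1 - Y) + (1 - ((1 - Y) + (1 - Y))) * (1 - z) = Y + z * (1 - 2 * Y) := by
  calc (1 - Y) + (1 - ((1 - Y) + (1 - Y))) * (1 - z) = Y + z - 2 * (Y * z) := by noncomm_ring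
    _ = Y + z - 2 * (z * Y) := by rw [h]
    _ = Y + z * (1 - 2 * Y) := by noncomm_ring

theorem exists_good_star [IsLocalRing R] : ∀ (m : ℕ) (M : Type v) [AddCommGroup M] [Module R M]
    [Module.Free R M] [Module.Finite R M] (Q : QuadraticForm R M),
    QuadGrp.IsRegular Q → Module.finrank R M = 2 * m →
    ∃ y : CliffordAlgebra Q, Good Q y ∧ star y = if Even m then y else 1 - y := by
  intro m
  induction m with
  | zero =>
    intro M _ _ _ _ Q _ hM
    have hsub : Subsingleton M := (Module.finrank_eq_zero_iff_of_free (R := R) (M := M)).mp hM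
    refine ⟨0, ⟨Submodule.zero_mem _, fun x => ?_, by simp⟩, by simp⟩
    rw [Subsingleton.elim x 0, map_zero]; simp
  | succ m ih =>
    intro M _ _ _ _ Q hQ hM
    obtain ⟨e, f, hef, hu⟩ := exists_plane Q hQ (by omega)
    obtain ⟨d', hd⟩ := hu.exists_right_inv
    haveI := finite_N hef hd
    haveI := free_N hef hd
    have hrank := finrank_N hef hd
    obtain ⟨yN, hyN, hstar⟩ := ih (Nsub Q e f) (QN (Q := Q) (e := e) (f := f))
      (isRegular_QN hef hd hQ) (by omega)
    refine ⟨_, good_step hef hd hyN, ?_⟩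
    set Y := CliffordAlgebra.map (incl (Q := Q) (e := e) (f := f)) yN with hY
    have hYe : Y * ι Q e = ι Q e * Y := by
      have := ι_mul_map_incl (Q := Q) (e := e) (f := f) e
        (fun n hn => ((mem_Nsub Q e f n).mp hn).1) yN
      rw [involute_eq_of_mem_even hyN.even] at this
      exact this.symm
    have hYf : Y * ι Q f = ι Q f * Y := by
      have := ι_mul_map_incl (Q := Q) (e := e) (f := f) f
        (fun n hn => ((mem_Nsub Q e f n).mp hn).2) yN
      rw [involute_eq_of_mem_even hyN.even] at this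
      exact this.symm
    have hYz : Y * (ι Q e * ι Q f) = ι Q e * ι Q f * Y := by
      rw [← mul_assoc, hYe, mul_assoc, hYf, mul_assoc]
    have hsz : star (ι Q e * ι Q f) = 1 - ι Q e * ι Q f := by
      rw [star_mul, star_ι, star_ι, neg_mul_neg, fe_eq hef]
    have hsY : star Y = CliffordAlgebra.map (incl (Q := Q) (e := e) (f := f)) (star yN) :=
      star_map _ _
    have h2 : (2 : CliffordAlgebra Q) * Y = Y + Y := two_mul Y
    have hstar' : star (Y + ι Q e * ι Q f * (1 - 2 * Y)) =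
        star Y + (1 - (star Y + star Y)) * (1 - ι Q e * ι Q f) := by
      rw [star_add, star_mul, hsz, h2, star_sub, star_one, star_add]
    rw [hstar', hsY, hstar]
    by_cases hm : Even m
    · rw [if_pos hm, if_neg (by rw [Nat.even_add_one]; exact not_not.mpr hm), ← hY]
      exact star_step_even Y _ hYz
    · rw [if_neg hm, if_pos (by rw [Nat.even_add_one]; exact hm), map_sub, map_one, ← hY]
      exact star_step_odd Y _ hYz

/-! ### the odd case -/

/-- a good element for the regular part of an odd splitting -/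
structure OddGood (Q : QuadraticForm R M) (x₀ : M) (φ₀ : M →ₗ[R] R) (Y : CliffordAlgebra Q) :
    Prop where
  even : Y ∈ evenOdd Q 0
  comm : ∀ x, φ₀ x = 0 → Y * ι Q x = ι Q x * (1 - Y)
  commv : Y * ι Q x₀ = ι Q x₀ * Y
  unit : IsUnit (1 - 2 * Y)

theorem exists_oddGood [IsLocalRing R] [Module.Free R M] [Module.Finite R M]
    {Q : QuadraticForm R M} {x₀ : M} {φ₀ : M →ₗ[R] R} (m : ℕ)
    (hM : Module.finrank R M = 2 * m + 1) (h : OddSplit Q x₀ φ₀) :
    ∃ Y, OddGood Q x₀ φ₀ Y ∧ star Y = if Even m then Y else 1 - Y := by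
  haveI := finite_K (φ₀ := φ₀) (x₀ := x₀) h.one
  haveI := free_K (φ₀ := φ₀) (x₀ := x₀) h.one
  have hrank := finrank_K (φ₀ := φ₀) (x₀ := x₀) h.one
  obtain ⟨y, hy, hstar⟩ := exists_good_star m (LinearMap.ker φ₀) (QK Q φ₀) (isRegular_QK h)
    (by omega)
  refine ⟨CliffordAlgebra.map (inclK Q φ₀) y, ⟨map_mem_even _ hy.even, ?_, ?_, ?_⟩, ?_⟩
  · intro x hx
    have := congrArg (CliffordAlgebra.map (inclK Q φ₀)) (hy.comm ⟨x, LinearMap.mem_ker.mpr hx⟩)
    rw [map_mul, map_mul, map_sub, map_one, map_apply_ι, inclK_apply] at this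
    exact this
  · have := ι_mul_map_of_orth (inclK Q φ₀) x₀
      (fun n => h.orth (n : M) (LinearMap.mem_ker.mp n.2)) y
    rw [involute_eq_of_mem_even hy.even] at this
    exact this.symm
  · have := hy.unit.map (CliffordAlgebra.map (inclK Q φ₀))
    rwa [map_sub, map_one, map_mul, map_ofNat] at this
  · rw [star_map, hstar]
    split_ifs
    · rfl
    · rw [map_sub, map_one]

namespace OddGood

variable {Q : QuadraticForm R M} {x₀ : M} {φ₀ : M →ₗ[R] R} {Y : CliffordAlgebra Q}

theorem W_anticomm (hy : OddGood Q x₀ φ₀ Y) (x : M) (hx : φ₀ x = 0) :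
    (1 - 2 * Y) * ι Q x = -(ι Q x * (1 - 2 * Y)) := by
  rw [sub_mul, one_mul, mul_assoc, hy.comm x hx]; noncomm_ring

theorem W_commv (hy : OddGood Q x₀ φ₀ Y) :
    (1 - 2 * Y) * ι Q x₀ = ι Q x₀ * (1 - 2 * Y) := by
  rw [sub_mul, one_mul, mul_assoc, hy.commv]; noncomm_ring

theorem W_even (hy : OddGood Q x₀ φ₀ Y) : (1 - 2 * Y) ∈ evenOdd Q 0 := by
  refine Submodule.sub_mem _ (SetLike.one_mem_graded _) ?_
  have : (2 : CliffordAlgebra Q) * Y = (2 : R) • Y := by
    rw [Algebra.smul_def, map_ofNat]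
  rw [this]
  exact Submodule.smul_mem _ _ hy.even

/-- the central odd element -/
theorem z_comm_ι (hs : OddSplit Q x₀ φ₀) (hy : OddGood Q x₀ φ₀ Y) (x : M) :
    ι Q x₀ * (1 - 2 * Y) * ι Q x = ι Q x * (ι Q x₀ * (1 - 2 * Y)) := by
  have hdec : x = (x - φ₀ x • x₀) + φ₀ x • x₀ := by abel
  have hn : φ₀ (x - φ₀ x • x₀) = 0 := by
    rw [map_sub, map_smul, hs.one, smul_eq_mul, mul_one, sub_self]
  rw [hdec, map_add, map_smul, mul_add, add_mul, mul_smul_comm, smul_mul_assoc]
  congr 1
  · rw [mul_assoc, hy.W_anticomm _ hn, mul_neg, ← mul_assoc,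
      ι_anticomm_of_polar (hs.orth _ hn), neg_mul, neg_neg, mul_assoc]
  · congr 1
    rw [mul_assoc, hy.W_commv, ← mul_assoc]

theorem z_odd (hy : OddGood Q x₀ φ₀ Y) : ι Q x₀ * (1 - 2 * Y) ∈ evenOdd Q 1 :=
  ι_mul_mem_odd Q x₀ hy.W_even

theorem z_unit (hs : OddSplit Q x₀ φ₀) (hy : OddGood Q x₀ φ₀ Y) :
    IsUnit (ι Q x₀ * (1 - 2 * Y)) :=
  (isUnit_ι_of_isUnit _ hs.unit).mul hy.unit

/-- every functional vanishing at `x₀` is a polar functional -/
theorem exists_polar_eq (hs : OddSplit Q x₀ φ₀) (φ : M →ₗ[R] R) (hφ : φ x₀ = 0) :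
    ∃ x, polarBilin Q x = φ := by
  obtain ⟨x, hx0, hx⟩ := hs.reg φ
  refine ⟨x, ?_⟩
  ext w
  rw [polarBilin_apply_apply, decompK hs.one w, polar_add_right, polar_smul_right, map_add,
    map_smul, hφ, polar_comm Q x x₀, hs.orth x hx0,
    hx _ (LinearMap.mem_ker.mp (projK hs.one w).2)]

/-- even elements commuting with all vectors are scalars -/
theorem scalar_of_even_comm {n : ℕ} (b : Module.Basis (Fin n) R M) (hs : OddSplit Q x₀ φ₀)
    {a : CliffordAlgebra Q} (ha : a ∈ evenOdd Q 0) (h : ∀ x, a * ι Q x = ι Q x * a) :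
    ∃ r : R, algebraMap R _ r = a := by
  -- contractions by polar functionals kill `a`
  have hpol : ∀ φ : M →ₗ[R] R, φ x₀ = 0 → contractLeft φ a = 0 := by
    intro φ hφ
    obtain ⟨x, hx⟩ := exists_polar_eq hs φ hφ
    rw [← hx, ← ι_mul_sub_involute_mul_ι, involute_eq_of_mem_even ha, h x, sub_self]
  have hsplit : ∀ ψ : M →ₗ[R] R, ∃ ψ' : M →ₗ[R] R, ψ' x₀ = 0 ∧ ψ = ψ x₀ • φ₀ + ψ' := by
    intro ψ
    refine ⟨ψ - ψ x₀ • φ₀, ?_, by abel⟩
    rw [LinearMap.sub_apply, LinearMap.smul_apply, hs.one, smul_eq_mul, mul_one, sub_self]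
  -- `β = φ₀ ⌋ a` is a scalar
  obtain ⟨s, hs'⟩ : ∃ s : R, algebraMap R _ s = contractLeft φ₀ a := by
    apply scalar_of_contract_eq_zero b Q
    intro j
    obtain ⟨ψ', hψ'0, hψ'⟩ := hsplit (b.coord j)
    rw [hψ', map_add, map_smul, LinearMap.add_apply, LinearMap.smul_apply,
      contractLeft_contractLeft, smul_zero, zero_add, contractLeft_comm, hpol ψ' hψ'0, map_zero,
      neg_zero]
  -- `α = a - ι x₀ * β` is a scalar
  obtain ⟨r, hr⟩ : ∃ r : R, algebraMap R _ r = a - ι Q x₀ * algebraMap R _ s := by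
    apply scalar_of_contract_eq_zero b Q
    intro j
    obtain ⟨ψ', hψ'0, hψ'⟩ := hsplit (b.coord j)
    have e1 : contractLeft ψ' (a - ι Q x₀ * algebraMap R _ s) = 0 := by
      rw [map_sub, hpol ψ' hψ'0, contractLeft_ι_mul, hψ'0, zero_smul, contractLeft_algebraMap,
        mul_zero, sub_zero, sub_zero]
    have e2 : contractLeft φ₀ (a - ι Q x₀ * algebraMap R _ s) = 0 := by
      rw [map_sub, contractLeft_ι_mul, hs.one, one_smul, contractLeft_algebraMap, mul_zero,
        sub_zero, hs', sub_self]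
    rw [hψ', map_add, map_smul, LinearMap.add_apply, LinearMap.smul_apply, e1, e2, smul_zero,
      add_zero]
  -- parity
  have hodd : ι Q x₀ * algebraMap R _ s ∈ evenOdd Q 1 :=
    ι_mul_mem_odd Q x₀ (SetLike.algebraMap_mem_graded _ _)
  have heven : ι Q x₀ * algebraMap R _ s ∈ evenOdd Q 0 := by
    have : ι Q x₀ * algebraMap R _ s = a - algebraMap R _ r := by rw [hr]; abel
    rw [this]
    exact Submodule.sub_mem _ ha (SetLike.algebraMap_mem_graded _ _)
  have hz := eq_zero_of_mem_even_of_mem_odd heven hodd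
  refine ⟨r, ?_⟩
  rw [hr, hz, sub_zero]

/-- the structure of the centre -/
theorem center_eq {n : ℕ} (b : Module.Basis (Fin n) R M) (hs : OddSplit Q x₀ φ₀)
    (hy : OddGood Q x₀ φ₀ Y) {a : CliffordAlgebra Q} (ha : ∀ x, a * ι Q x = ι Q x * a) :
    ∃ r s : R, a = algebraMap R _ r + s • (ι Q x₀ * (1 - 2 * Y)) := by
  obtain ⟨a₀, h₀, a₁, h₁, rfl⟩ := exists_even_add_odd a
  obtain ⟨r, hr⟩ := scalar_of_even_comm b hs h₀ (fun x => (central_parts h₀ h₁ ha x).1)
  obtain ⟨zu, hzu⟩ := z_unit hs hy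
  have hzc : ∀ x, (↑zu⁻¹ : CliffordAlgebra Q) * ι Q x = ι Q x * ↑zu⁻¹ := by
    intro x
    have h1 := z_comm_ι hs hy x
    rw [← hzu] at h1
    calc (↑zu⁻¹ : CliffordAlgebra Q) * ι Q x = ↑zu⁻¹ * (ι Q x * ↑zu) * ↑zu⁻¹ := by
          rw [mul_assoc, mul_assoc, Units.mul_inv, mul_one]
      _ = ↑zu⁻¹ * (↑zu * ι Q x) * ↑zu⁻¹ := by rw [h1]
      _ = ι Q x * ↑zu⁻¹ := by rw [← mul_assoc, Units.inv_mul, one_mul]
  have hzie : (↑zu⁻¹ : CliffordAlgebra Q) ∈ evenOdd Q 1 := by
    -- `zu⁻¹ = (z z)⁻¹ z` where `z z` is an even central unit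
    have hzz : (zu : CliffordAlgebra Q) * zu ∈ evenOdd Q 0 := by
      have := SetLike.mul_mem_graded (hzu ▸ z_odd hy) (hzu ▸ z_odd hy)
      rwa [show (1 : ZMod 2) + 1 = 0 from rfl] at this
    obtain ⟨t, ht⟩ := scalar_of_even_comm b hs hzz (fun x => by
      have h1 := z_comm_ι hs hy x
      rw [← hzu] at h1
      rw [mul_assoc, h1, ← mul_assoc, h1, mul_assoc])
    have e : (↑zu⁻¹ : CliffordAlgebra Q) = (↑zu⁻¹ * ↑zu⁻¹) * zu := by
      rw [mul_assoc, Units.inv_mul, mul_one]
    have e2 : (↑zu⁻¹ : CliffordAlgebra Q) * ↑zu⁻¹ * algebraMap R _ t = 1 := by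
      rw [ht, ← mul_assoc, mul_assoc (↑zu⁻¹ : CliffordAlgebra Q), Units.inv_mul, mul_one,
        Units.inv_mul]
    have htu : IsUnit t := by
      have h3 : IsUnit (algebraMap R (CliffordAlgebra Q) t) := by
        rw [ht]; exact zu.isUnit.mul zu.isUnit
      haveI : Module.Free R M := Module.Free.of_basis b
      obtain ⟨w, hw⟩ := h3.exists_right_inv
      -- the inverse is again an even element commuting with all vectors, hence a scalar
      have hw' : w = ↑zu⁻¹ * ↑zu⁻¹ := by
        calc w = (↑zu⁻¹ * ↑zu⁻¹ * algebraMap R _ t) * w := by rw [e2, one_mul]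
          _ = ↑zu⁻¹ * ↑zu⁻¹ := by rw [mul_assoc, hw, mul_one]
      have hwe : w ∈ evenOdd Q 0 := by
        have h4 : (zu : CliffordAlgebra Q) * zu * w = 1 := by rw [← ht, hw]
        have hu2 : (zu * zu : (CliffordAlgebra Q)ˣ) ∈ QuadGrp.evenUnits Q := by
          rw [QuadGrp.mem_evenUnits, Units.val_mul]; exact hzz
        have := (QuadGrp.mem_evenUnits Q _).mp ((QuadGrp.evenUnits Q).inv_mem hu2)
        rw [hw']
        have e3 : ((zu * zu)⁻¹ : (CliffordAlgebra Q)ˣ) = zu⁻¹ * zu⁻¹ := by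
          rw [mul_inv_rev]
        rw [e3, Units.val_mul] at this
        exact this
      obtain ⟨t', ht'⟩ := scalar_of_even_comm b hs hwe (fun x => by
        rw [hw', mul_assoc, hzc, ← mul_assoc, hzc, mul_assoc])
      rw [← ht', ← map_mul, ← map_one (algebraMap R (CliffordAlgebra Q))] at hw
      exact IsUnit.of_mul_eq_one _ (QG.algebraMap_injective Q hw)
    obtain ⟨tu, rfl⟩ := htu
    have e4 : (↑zu⁻¹ : CliffordAlgebra Q) = (↑tu⁻¹ : R) • (zu : CliffordAlgebra Q) := by
      have : (↑zu⁻¹ : CliffordAlgebra Q) * ↑zu⁻¹ = algebraMap R _ (↑tu⁻¹ : R) := by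
        calc (↑zu⁻¹ : CliffordAlgebra Q) * ↑zu⁻¹
            = (↑zu⁻¹ * ↑zu⁻¹) * (algebraMap R _ (tu : R) * algebraMap R _ (↑tu⁻¹ : R)) := by
              rw [← map_mul, Units.mul_inv, map_one, mul_one]
          _ = algebraMap R _ (↑tu⁻¹ : R) := by rw [← mul_assoc, e2, one_mul]
      rw [e, this, ← Algebra.smul_def]
    rw [e4, hzu]
    exact Submodule.smul_mem _ _ (z_odd hy)
  -- the odd part
  have h1c := fun x => (central_parts h₀ h₁ ha x).2
  have hev : a₁ * ↑zu⁻¹ ∈ evenOdd Q 0 := by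
    have := SetLike.mul_mem_graded h₁ hzie
    rwa [show (1 : ZMod 2) + 1 = 0 from rfl] at this
  obtain ⟨s, hs'⟩ := scalar_of_even_comm b hs hev (fun x => by
    rw [mul_assoc, hzc, ← mul_assoc, h1c, mul_assoc])
  refine ⟨r, s, ?_⟩
  rw [hr, hzu.symm, Algebra.smul_def, hs', mul_assoc, Units.inv_mul, mul_one]

end OddGood

/-- **S16999**: the centre of the Clifford algebra of a semiregular form of odd rank over a local
ring -/
theorem center_odd [IsLocalRing R] (m : ℕ) (b : Module.Basis (Fin (2 * m + 1)) R M)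
    (Q : QuadraticForm R M) (hQ : QuadGrp.IsSemiregular b (LinearEquiv.refl R R) Q) :
    ∃ z : CliffordAlgebra Q, z ∈ Subalgebra.center R (CliffordAlgebra Q) ∧
      z ∈ CliffordAlgebra.evenOdd Q 1 ∧ IsUnit z ∧
      z * z ∈ (algebraMap R (CliffordAlgebra Q)).range ∧
      LinearIndependent R ![(1 : CliffordAlgebra Q), z] ∧
      Subalgebra.toSubmodule (Subalgebra.center R (CliffordAlgebra Q)) =
        Submodule.span R {1, z} := by
  haveI : Module.Free R M := Module.Free.of_basis b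
  haveI : Module.Finite R M := Module.Finite.of_basis b
  have hM : Module.finrank R M = 2 * m + 1 := by
    rw [Module.finrank_eq_card_basis b, Fintype.card_fin]
  obtain ⟨x₀, φ₀, hs⟩ := exists_oddSplit m M Q (2 * m + 1) rfl b hQ
  obtain ⟨Y, hy, -⟩ := exists_oddGood m hM hs
  set z := ι Q x₀ * (1 - 2 * Y) with hz
  have hzc : ∀ c, z * c = c * z := central_of_comm_ι (hy.z_comm_ι hs)
  have hzmem : z ∈ Subalgebra.center R (CliffordAlgebra Q) := by
    rw [Subalgebra.mem_center_iff]; intro c; exact (hzc c).symm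
  have hzz : z * z ∈ evenOdd Q 0 := by
    have := SetLike.mul_mem_graded (hy.z_odd) (hy.z_odd)
    rwa [show (1 : ZMod 2) + 1 = 0 from rfl] at this
  refine ⟨z, hzmem, hy.z_odd, hy.z_unit hs, ?_, ?_, ?_⟩
  · obtain ⟨t, ht⟩ := OddGood.scalar_of_even_comm b hs hzz (fun x => by
      rw [mul_assoc, hzc (ι Q x), ← mul_assoc, hzc (ι Q x), mul_assoc])
    exact ⟨t, ht⟩
  · rw [LinearIndependent.pair_iff]
    intro s t hst
    have hodd : t • z ∈ evenOdd Q 1 := Submodule.smul_mem _ _ hy.z_odd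
    have heven : t • z ∈ evenOdd Q 0 := by
      have : t • z = -(s • (1 : CliffordAlgebra Q)) := eq_neg_of_add_eq_zero_right hst
      rw [this]
      exact Submodule.neg_mem _ (Submodule.smul_mem _ _ (SetLike.one_mem_graded _))
    have h0 := eq_zero_of_mem_even_of_mem_odd heven hodd
    rw [h0, add_zero] at hst
    constructor
    · rw [← Algebra.algebraMap_eq_smul_one] at hst
      exact QG.algebraMap_injective Q (hst.trans (map_zero _).symm)
    · have h1 : algebraMap R (CliffordAlgebra Q) t * z = 0 := by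
        rw [← Algebra.smul_def]; exact h0
      have h2 := ((hy.z_unit hs).mul_left_eq_zero).mp h1
      exact QG.algebraMap_injective Q (h2.trans (map_zero _).symm)
  · apply le_antisymm
    · intro a ha
      rw [Subalgebra.mem_toSubmodule, Subalgebra.mem_center_iff] at ha
      obtain ⟨r, s, hrs⟩ := OddGood.center_eq b hs hy (fun x => (ha (ι Q x)).symm)
      rw [hrs, Algebra.algebraMap_eq_smul_one]
      exact Submodule.add_mem _
        (Submodule.smul_mem _ _ (Submodule.subset_span (Set.mem_insert _ _)))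
        (Submodule.smul_mem _ _ (Submodule.subset_span
          (Set.mem_insert_of_mem _ (Set.mem_singleton _))))
    · rw [Submodule.span_le]
      intro a ha
      rcases ha with rfl | rfl
      · exact (Subalgebra.center R (CliffordAlgebra Q)).one_mem
      · exact hzmem

end Groth.Agent.H9.QO
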