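import Mathlib
import Groth.Agent.Lib.Helper9.Misc.QO3

/-! The anti-involution on the odd part of the centre (helper9). -/

set_option autoImplicit false

open CliffordAlgebra QuadraticMap TensorProduct Groth.Agent.H9.QG Groth.Agent.H7.QG

namespace Groth.Agent.H9.QO

universe u v

variable {R : Type u} [CommRing R] {M : Type v} [AddCommGroup M] [Module R M]

/-- local case -/
theorem star_central_odd_local [IsLocalRing R] (m : ℕ) (b : Module.Basis (Fin (2 * m + 1)) R M)
    (Q : QuadraticForm R M) (hQ : QuadGrp.IsSemiregular b (LinearEquiv.refl R R) Q)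
    (z : CliffordAlgebra Q) (hz : ∀ x, z * ι Q x = ι Q x * z) (hz1 : z ∈ evenOdd Q 1) :
    star z = ((-1 : R) ^ (m + 1)) • z := by
  haveI : Module.Free R M := Module.Free.of_basis b
  haveI : Module.Finite R M := Module.Finite.of_basis b
  have hM : Module.finrank R M = 2 * m + 1 := by
    rw [Module.finrank_eq_card_basis b, Fintype.card_fin]
  obtain ⟨x₀, φ₀, hs⟩ := exists_oddSplit m M Q (2 * m + 1) rfl b hQ
  obtain ⟨Y, hy, hstar⟩ := exists_oddGood m hM hs
  obtain ⟨r, s, hrs⟩ := OddGood.center_eq b hs hy hz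
  have hr0 : algebraMap R (CliffordAlgebra Q) r = 0 := by
    apply eq_zero_of_mem_even_of_mem_odd (SetLike.algebraMap_mem_graded _ _)
    have : algebraMap R (CliffordAlgebra Q) r = z - s • (ι Q x₀ * (1 - 2 * Y)) := by
      rw [hrs]; abel
    rw [this]
    exact Submodule.sub_mem _ hz1 (Submodule.smul_mem _ _ hy.z_odd)
  rw [hr0, zero_add] at hrs
  have h2 : (2 : CliffordAlgebra Q) * Y = Y + Y := two_mul Y
  have hstarz : star (ι Q x₀ * (1 - 2 * Y)) =
      ((-1 : R) ^ (m + 1)) • (ι Q x₀ * (1 - 2 * Y)) := by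
    rw [star_mul, star_ι, h2, star_sub, star_one, star_add, hstar]
    by_cases hm : Even m
    · rw [if_pos hm, (hm.add_one).neg_one_pow, neg_smul, one_smul, mul_neg, ← h2, hy.W_commv]
    · rw [if_neg hm]
      have hm' : Odd m := Nat.not_even_iff_odd.mp hm
      rw [(hm'.add_one).neg_one_pow, one_smul]
      have e : (1 : CliffordAlgebra Q) - (1 - Y + (1 - Y)) = -(1 - (Y + Y)) := by abel
      rw [e, neg_mul_neg, ← h2, hy.W_commv]
  rw [hrs, CliffordAlgebra.star_smul, hstarz, smul_comm]

/-- base change of the coefficient system -/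
theorem coeffs_baseChange [Module.Free R M] (A : Type u) [CommRing A] [Algebra R A] {n : ℕ}
    (b : Module.Basis (Fin n) R M) (Q : QuadraticForm R M) :
    QuadGrp.coeffs (b.baseChange A) (LinearEquiv.refl A A) (QuadGrp.baseChangeForm A Q) =
      (algebraMap R A) ∘ QuadGrp.coeffs b (LinearEquiv.refl R R) Q := by
  funext s
  induction s using Sym2.ind with
  | _ i j =>
    rw [Function.comp_apply, QuadGrp.coeffs_mk, QuadGrp.coeffs_mk, Module.Basis.baseChange_apply,
      Module.Basis.baseChange_apply]
    split_ifs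
    · rw [LinearEquiv.refl_apply, LinearEquiv.refl_apply, bcf_one_tmul]
    · rw [LinearEquiv.refl_apply, LinearEquiv.refl_apply, polar_bcf_one_tmul]

theorem isSemiregular_baseChange [Module.Free R M] (A : Type u) [CommRing A] [Algebra R A] {n : ℕ}
    (b : Module.Basis (Fin n) R M) (Q : QuadraticForm R M)
    (hQ : QuadGrp.IsSemiregular b (LinearEquiv.refl R R) Q) :
    QuadGrp.IsSemiregular (b.baseChange A) (LinearEquiv.refl A A) (QuadGrp.baseChangeForm A Q) := by
  have h1 : QuadGrp.halfDisc (b.baseChange A) (LinearEquiv.refl A A) (QuadGrp.baseChangeForm A Q) =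
      algebraMap R A (QuadGrp.halfDisc b (LinearEquiv.refl R R) Q) := by
    rw [halfDisc_eq_hd, halfDisc_eq_hd, coeffs_baseChange, map_hd]
  rw [QuadGrp.IsSemiregular, h1]
  exact hQ.map _

theorem star_toBC [Module.Free R M] (A : Type u) [CommRing A] [Algebra R A]
    (Q : QuadraticForm R M) (a : CliffordAlgebra Q) :
    star (toBC A Q a) = toBC A Q (star a) := by
  induction a using CliffordAlgebra.induction with
  | algebraMap r =>
    rw [star_algebraMap, AlgHom.commutes, IsScalarTower.algebraMap_apply R A, star_algebraMap]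
  | ι x => rw [toBC_ι, star_ι, star_ι, map_neg, toBC_ι]
  | mul a c ha hc => rw [map_mul, star_mul, star_mul, map_mul, ha, hc]
  | add a c ha hc => rw [map_add, star_add, star_add, map_add, ha, hc]

theorem toBC_comm_ι [Module.Free R M] (A : Type u) [CommRing A] [Algebra R A]
    (Q : QuadraticForm R M) {z : CliffordAlgebra Q} (hz : ∀ x, z * ι Q x = ι Q x * z)
    (x : A ⊗[R] M) :
    toBC A Q z * ι (QuadGrp.baseChangeForm A Q) x =
      ι (QuadGrp.baseChangeForm A Q) x * toBC A Q z := by
  induction x using TensorProduct.induction_on with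
  | zero => simp
  | tmul a v =>
    have e1 : a ⊗ₜ[R] v = a • ((1 : A) ⊗ₜ[R] v) := by
      rw [TensorProduct.smul_tmul', smul_eq_mul, mul_one]
    rw [e1, map_smul, ← toBC_ι, mul_smul_comm, smul_mul_assoc, ← map_mul, ← map_mul, hz v]
  | add x x' hx hx' => rw [map_add, mul_add, add_mul, hx, hx']

/-- **S16992** -/
theorem star_central_odd (m : ℕ) (b : Module.Basis (Fin (2 * m + 1)) R M)
    (Q : QuadraticForm R M) (hQ : QuadGrp.IsSemiregular b (LinearEquiv.refl R R) Q)
    (z : CliffordAlgebra Q) (hz : z ∈ Subalgebra.center R (CliffordAlgebra Q))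
    (hz1 : z ∈ CliffordAlgebra.evenOdd Q 1) :
    star z = ((-1 : R) ^ (m + 1)) • z := by
  haveI : Module.Free R M := Module.Free.of_basis b
  rw [Subalgebra.mem_center_iff] at hz
  rw [← sub_eq_zero]
  apply eq_zero_of_toBC_eq_zero Q
  intro p hp
  have hloc := star_central_odd_local m (b.baseChange (Localization.AtPrime p))
    (QuadGrp.baseChangeForm (Localization.AtPrime p) Q)
    (isSemiregular_baseChange (Localization.AtPrime p) b Q hQ)
    (toBC (Localization.AtPrime p) Q z)
    (toBC_comm_ι (Localization.AtPrime p) Q (fun x => (hz (ι Q x)).symm))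
    (toBC_mem_odd (Localization.AtPrime p) Q hz1)
  have e : ((-1 : R) ^ (m + 1)) • toBC (Localization.AtPrime p) Q z =
      ((-1 : Localization.AtPrime p) ^ (m + 1)) • toBC (Localization.AtPrime p) Q z := by
    rw [← algebraMap_smul (Localization.AtPrime p) ((-1 : R) ^ (m + 1))
      (toBC (Localization.AtPrime p) Q z), map_pow, map_neg, map_one]
  rw [map_sub, sub_eq_zero, ← star_toBC, hloc, map_smul, e]

end Groth.Agent.H9.QO
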