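import Mathlib
import Groth.Agent.Lib.Helper9.Misc.QO4

/-! The even Clifford algebra of a semiregular form of odd rank is Azumaya (helper9). -/

set_option autoImplicit false

open CliffordAlgebra QuadraticMap TensorProduct Groth.Agent.H9.QG

namespace Groth.Agent.H9.QO

universe u v

variable {R : Type u} [CommRing R] {M : Type v} [AddCommGroup M] [Module R M]

/-! ### the even part as a direct summand -/

section Proj

variable (Q : QuadraticForm R M)

/-- projection onto the even part -/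
noncomputable def e₀ : CliffordAlgebra Q →ₗ[R] CliffordAlgebra Q :=
  (evenOdd Q 0).projection (evenOdd Q 1) (evenOdd_isCompl Q)

/-- projection onto the odd part -/
noncomputable def e₁ : CliffordAlgebra Q →ₗ[R] CliffordAlgebra Q :=
  (evenOdd Q 1).projection (evenOdd Q 0) (evenOdd_isCompl Q).symm

theorem e₀_mem (a : CliffordAlgebra Q) : e₀ Q a ∈ evenOdd Q 0 := by
  rw [e₀, ← Submodule.coe_projectionOnto_apply]
  exact Subtype.property _

theorem e₁_mem (a : CliffordAlgebra Q) : e₁ Q a ∈ evenOdd Q 1 := by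
  rw [e₁, ← Submodule.coe_projectionOnto_apply]
  exact Subtype.property _

theorem e₀_add_e₁ (a : CliffordAlgebra Q) : e₀ Q a + e₁ Q a = a :=
  Submodule.projection_add_projection_eq_self (evenOdd_isCompl Q) a

theorem e₀_of_mem {a : CliffordAlgebra Q} (ha : a ∈ evenOdd Q 0) : e₀ Q a = a := by
  rw [e₀, ← Submodule.coe_projectionOnto_apply, Submodule.projectionOnto_apply_of_mem_left _ ha]

/-- the even projection as a map to the even subalgebra -/
noncomputable def evenProj : CliffordAlgebra Q →ₗ[R] ↥(CliffordAlgebra.even Q) :=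
  (e₀ Q).codRestrict (Subalgebra.toSubmodule (CliffordAlgebra.even Q)) (e₀_mem Q)

theorem evenProj_coe (a : CliffordAlgebra Q) : (evenProj Q a : CliffordAlgebra Q) = e₀ Q a := rfl

theorem evenProj_val (a : ↥(CliffordAlgebra.even Q)) :
    evenProj Q (a : CliffordAlgebra Q) = a :=
  Subtype.ext (e₀_of_mem Q a.2)

theorem finite_even [Module.Finite R (CliffordAlgebra Q)] :
    Module.Finite R ↥(CliffordAlgebra.even Q) :=
  Module.Finite.of_surjective (evenProj Q) (fun a => ⟨a, evenProj_val Q a⟩)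

theorem projective_even [Module.Projective R (CliffordAlgebra Q)] :
    Module.Projective R ↥(CliffordAlgebra.even Q) :=
  Module.Projective.of_split (CliffordAlgebra.even Q).val.toLinearMap (evenProj Q)
    (LinearMap.ext fun a => evenProj_val Q a)

end Proj

/-! ### base change of the even part -/

section BC

variable [Module.Free R M] (k : Type u) [CommRing k] [Algebra R k] (Q : QuadraticForm R M)

/-- `k ⊗ C₀(Q) → C(Q_k)` -/
noncomputable def psi₀ : k ⊗[R] ↥(CliffordAlgebra.even Q) →ₐ[k]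
    CliffordAlgebra (QuadGrp.baseChangeForm k Q) :=
  (ofTensor k Q).comp (Algebra.TensorProduct.map (AlgHom.id k k) (CliffordAlgebra.even Q).val)

theorem psi₀_tmul (c : k) (a : ↥(CliffordAlgebra.even Q)) :
    psi₀ k Q (c ⊗ₜ a) = algebraMap k _ c * toBC k Q (a : CliffordAlgebra Q) := by
  simp [psi₀]

theorem psi₀_mem (t : k ⊗[R] ↥(CliffordAlgebra.even Q)) :
    psi₀ k Q t ∈ CliffordAlgebra.even (QuadGrp.baseChangeForm k Q) := by
  induction t using TensorProduct.induction_on with
  | zero => rw [map_zero]; exact Subalgebra.zero_mem _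
  | tmul c a =>
    rw [psi₀_tmul]
    exact Subalgebra.mul_mem _ (Subalgebra.algebraMap_mem _ c) (toBC_mem_even k Q a.2)
  | add x y hx hy => rw [map_add]; exact Subalgebra.add_mem _ hx hy

theorem psi₀_injective : Function.Injective (psi₀ k Q) := by
  have h1 : Function.Injective (ofTensor k Q) := by
    have : (ofTensor k Q : k ⊗[R] CliffordAlgebra Q → _) = (bcEquiv k Q).symm := by
      funext x; rfl
    rw [this]; exact (bcEquiv k Q).symm.injective
  have h2 : Function.Injective
      (Algebra.TensorProduct.map (AlgHom.id k k) (CliffordAlgebra.even Q).val) := by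
    have hleft : Function.LeftInverse (LinearMap.lTensor k (evenProj Q))
        (Algebra.TensorProduct.map (AlgHom.id k k) (CliffordAlgebra.even Q).val) := by
      intro t
      induction t using TensorProduct.induction_on with
      | zero => simp
      | tmul c a =>
        rw [Algebra.TensorProduct.map_tmul, LinearMap.lTensor_tmul, AlgHom.id_apply]
        congr 1
        exact evenProj_val Q a
      | add x y hx hy => rw [map_add, map_add, hx, hy]
    exact hleft.injective
  intro x y hxy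
  exact h2 (h1 hxy)

/-- `k ⊗ C₀(Q) → C₀(Q_k)` -/
noncomputable def psi : k ⊗[R] ↥(CliffordAlgebra.even Q) →ₐ[k]
    ↥(CliffordAlgebra.even (QuadGrp.baseChangeForm k Q)) :=
  (psi₀ k Q).codRestrict _ (psi₀_mem k Q)

theorem psi_coe (t : k ⊗[R] ↥(CliffordAlgebra.even Q)) :
    (psi k Q t : CliffordAlgebra (QuadGrp.baseChangeForm k Q)) = psi₀ k Q t := rfl

theorem psi_injective : Function.Injective (psi k Q) := by
  intro x y hxy
  exact psi₀_injective k Q (congrArg Subtype.val hxy)

theorem ofTensor_lTensor_e₁_mem (t : k ⊗[R] CliffordAlgebra Q) :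
    ofTensor k Q (LinearMap.lTensor k (e₁ Q) t) ∈ evenOdd (QuadGrp.baseChangeForm k Q) 1 := by
  induction t using TensorProduct.induction_on with
  | zero => simp
  | tmul c a =>
    rw [LinearMap.lTensor_tmul, ofTensor_tmul, ← Algebra.smul_def]
    exact Submodule.smul_mem _ _ (toBC_mem_odd k Q (e₁_mem Q a))
  | add x y hx hy => rw [map_add, map_add]; exact Submodule.add_mem _ hx hy

theorem ofTensor_lTensor_e₀ (t : k ⊗[R] CliffordAlgebra Q) :
    ofTensor k Q (LinearMap.lTensor k (e₀ Q) t) =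
      psi₀ k Q (LinearMap.lTensor k (evenProj Q) t) := by
  induction t using TensorProduct.induction_on with
  | zero => simp
  | tmul c a =>
    rw [LinearMap.lTensor_tmul, LinearMap.lTensor_tmul, ofTensor_tmul, psi₀_tmul, evenProj_coe]
  | add x y hx hy => rw [map_add, map_add, map_add, map_add, hx, hy]

theorem psi_surjective : Function.Surjective (psi k Q) := by
  intro w
  set t := bcEquiv k Q (w : CliffordAlgebra (QuadGrp.baseChangeForm k Q)) with ht
  have hw : ofTensor k Q t = w := by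
    rw [ht]; exact (bcEquiv k Q).symm_apply_apply _
  have hsum : t = LinearMap.lTensor k (e₀ Q) t + LinearMap.lTensor k (e₁ Q) t := by
    rw [← LinearMap.add_apply, ← LinearMap.lTensor_add]
    have : e₀ Q + e₁ Q = LinearMap.id := LinearMap.ext (e₀_add_e₁ Q)
    rw [this, LinearMap.lTensor_id, LinearMap.id_apply]
  have hodd : ofTensor k Q (LinearMap.lTensor k (e₁ Q) t) = 0 := by
    apply eq_zero_of_mem_even_of_mem_odd _ (ofTensor_lTensor_e₁_mem k Q t)
    have : ofTensor k Q (LinearMap.lTensor k (e₁ Q) t) =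
        (w : CliffordAlgebra (QuadGrp.baseChangeForm k Q)) -
          psi₀ k Q (LinearMap.lTensor k (evenProj Q) t) := by
      have h := congrArg (ofTensor k Q) hsum
      rw [map_add, hw, ofTensor_lTensor_e₀] at h
      rw [eq_sub_iff_add_eq, add_comm]
      exact h.symm
    rw [this]
    exact Submodule.sub_mem _ w.2 (psi₀_mem k Q _)
  refine ⟨LinearMap.lTensor k (evenProj Q) t, ?_⟩
  apply Subtype.ext
  rw [psi_coe, ← ofTensor_lTensor_e₀, ← hw]
  conv_rhs => rw [hsum]
  rw [map_add, hodd, add_zero]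

end BC

/-! ### finiteness with an explicit basis -/

theorem finite_clifford' {n : ℕ} (b : Module.Basis (Fin n) R M) (Q : QuadraticForm R M) :
    Module.Finite R (CliffordAlgebra Q) := by
  haveI : Module.Free R M := Module.Free.of_basis b
  obtain ⟨β, hβ⟩ := LinearMap.BilinMap.toQuadraticMap_surjective Q
  haveI : Module.Finite R (ExteriorAlgebra R M) := Module.Finite.of_basis b.ExteriorAlgebra
  exact Module.Finite.equiv (changeFormEquiv (neg_proof hβ)).symm

theorem free_clifford' {n : ℕ} (b : Module.Basis (Fin n) R M) (Q : QuadraticForm R M) :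
    Module.Free R (CliffordAlgebra Q) := by
  haveI : Module.Free R M := Module.Free.of_basis b
  obtain ⟨β, hβ⟩ := LinearMap.BilinMap.toQuadraticMap_surjective Q
  haveI : Module.Free R (ExteriorAlgebra R M) := Module.Free.of_basis b.ExteriorAlgebra
  exact Module.Free.of_equiv (changeFormEquiv (neg_proof hβ)).symm

/-! ### the even Clifford algebra of an odd splitting -/

theorem isRegular_smul {Q : QuadraticForm R M} (hQ : QuadGrp.IsRegular Q) {u : R}
    (hu : IsUnit u) : QuadGrp.IsRegular (u • Q) := by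
  obtain ⟨w, hw⟩ := hu.exists_left_inv
  have hpol : ∀ x y, polar (u • Q) x y = u * polar Q x y := by
    intro x y
    rw [QuadraticMap.coeFn_smul, polar_smul, smul_eq_mul]
  constructor
  · rw [injective_iff_map_eq_zero]
    intro x hx
    apply (injective_iff_map_eq_zero _).mp hQ.1
    ext y
    have := LinearMap.congr_fun hx y
    rw [polarBilin_apply_apply, hpol, LinearMap.zero_apply] at this
    rw [polarBilin_apply_apply, LinearMap.zero_apply]
    calc polar Q x y = w * (u * polar Q x y) := by rw [← mul_assoc, hw, one_mul]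
      _ = 0 := by rw [this, mul_zero]
  · intro ψ
    obtain ⟨x, hx⟩ := hQ.2 (w • ψ)
    refine ⟨x, ?_⟩
    ext y
    rw [polarBilin_apply_apply, hpol, ← polarBilin_apply_apply, hx, LinearMap.smul_apply,
      smul_eq_mul, ← mul_assoc, mul_comm u w, hw, one_mul]

section Theta

variable {Q : QuadraticForm R M} {x₀ : M} {φ₀ : M →ₗ[R] R}

/-- the rescaled form on the kernel -/
noncomputable def QK' (Q : QuadraticForm R M) (x₀ : M) (φ₀ : M →ₗ[R] R) :
    QuadraticForm R (LinearMap.ker φ₀) := (-(Q x₀)) • QK Q φ₀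

theorem QK'_apply (n : LinearMap.ker φ₀) : QK' Q x₀ φ₀ n = -(Q x₀) * Q (n : M) := by
  rw [QK', QuadraticMap.smul_apply, QK_apply, smul_eq_mul]

theorem isRegular_QK' (hs : OddSplit Q x₀ φ₀) : QuadGrp.IsRegular (QK' Q x₀ φ₀) :=
  isRegular_smul (isRegular_QK hs) hs.unit.neg

noncomputable def theta₀ (Q : QuadraticForm R M) (x₀ : M) (φ₀ : M →ₗ[R] R) :
    LinearMap.ker φ₀ →ₗ[R] CliffordAlgebra Q :=
  (LinearMap.mulLeft R (ι Q x₀)).comp ((ι Q).comp (LinearMap.ker φ₀).subtype)

theorem theta₀_apply (n : LinearMap.ker φ₀) :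
    theta₀ Q x₀ φ₀ n = ι Q x₀ * ι Q (n : M) := rfl

theorem ι_ker_anti (hs : OddSplit Q x₀ φ₀) (n : LinearMap.ker φ₀) :
    ι Q (n : M) * ι Q x₀ = -(ι Q x₀ * ι Q (n : M)) := by
  have := ι_anticomm_of_polar (Q := Q) (hs.orth (n : M) (LinearMap.mem_ker.mp n.2))
  rw [this, neg_neg]

theorem theta₀_mul (hs : OddSplit Q x₀ φ₀) (n₁ n₂ : LinearMap.ker φ₀) :
    theta₀ Q x₀ φ₀ n₁ * theta₀ Q x₀ φ₀ n₂ =
      (-(Q x₀)) • (ι Q (n₁ : M) * ι Q (n₂ : M)) := by
  rw [theta₀_apply, theta₀_apply]
  calc ι Q x₀ * ι Q (n₁ : M) * (ι Q x₀ * ι Q (n₂ : M))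
      = ι Q x₀ * (ι Q (n₁ : M) * ι Q x₀) * ι Q (n₂ : M) := by noncomm_ring
    _ = -(ι Q x₀ * ι Q x₀ * (ι Q (n₁ : M) * ι Q (n₂ : M))) := by
        rw [ι_ker_anti hs]; noncomm_ring
    _ = _ := by rw [ι_sq_scalar, ← Algebra.smul_def, neg_smul]

theorem theta₀_sq (hs : OddSplit Q x₀ φ₀) (n : LinearMap.ker φ₀) :
    theta₀ Q x₀ φ₀ n * theta₀ Q x₀ φ₀ n = algebraMap R _ (QK' Q x₀ φ₀ n) := by
  rw [theta₀_mul hs, ι_sq_scalar, QK'_apply, map_mul, ← Algebra.smul_def]

/-- `C(-c • Q|K) → C(Q)`, `n ↦ x₀ n` -/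
noncomputable def theta (hs : OddSplit Q x₀ φ₀) :
    CliffordAlgebra (QK' Q x₀ φ₀) →ₐ[R] CliffordAlgebra Q :=
  CliffordAlgebra.lift (QK' Q x₀ φ₀) ⟨theta₀ Q x₀ φ₀, theta₀_sq hs⟩

theorem theta_ι (hs : OddSplit Q x₀ φ₀) (n : LinearMap.ker φ₀) :
    theta hs (ι (QK' Q x₀ φ₀) n) = ι Q x₀ * ι Q (n : M) := by
  rw [theta, CliffordAlgebra.lift_ι_apply]; rfl

theorem theta_mem_even (hs : OddSplit Q x₀ φ₀) (a : CliffordAlgebra (QK' Q x₀ φ₀)) :
    theta hs a ∈ CliffordAlgebra.even Q := by
  induction a using CliffordAlgebra.induction with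
  | algebraMap r => rw [AlgHom.commutes]; exact Subalgebra.algebraMap_mem _ r
  | ι n => rw [theta_ι]; exact ι_mul_ι_mem_evenOdd_zero Q _ _
  | mul a c ha hc => rw [map_mul]; exact Subalgebra.mul_mem _ ha hc
  | add a c ha hc => rw [map_add]; exact Subalgebra.add_mem _ ha hc

theorem ι_mul_ι_mem_range (hs : OddSplit Q x₀ φ₀) (m₁ m₂ : M) :
    ι Q m₁ * ι Q m₂ ∈ (theta hs).range := by
  obtain ⟨cu, hcu⟩ := hs.unit
  have h1 : ∀ n : LinearMap.ker φ₀, ι Q x₀ * ι Q (n : M) ∈ (theta hs).range :=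
    fun n => ⟨ι _ n, theta_ι hs n⟩
  have h2 : ∀ n : LinearMap.ker φ₀, ι Q (n : M) * ι Q x₀ ∈ (theta hs).range := fun n => by
    rw [ι_ker_anti hs]; exact Subalgebra.neg_mem _ (h1 n)
  have h3 : ∀ n₁ n₂ : LinearMap.ker φ₀, ι Q (n₁ : M) * ι Q (n₂ : M) ∈ (theta hs).range := by
    intro n₁ n₂
    have hmem := Subalgebra.mul_mem _ (h1 n₁) (h1 n₂)
    rw [← theta₀_apply, ← theta₀_apply, theta₀_mul hs] at hmem
    have := Subalgebra.smul_mem _ hmem (-(↑cu⁻¹ : R))
    rwa [smul_smul, ← hcu, neg_mul_neg, Units.inv_mul, one_smul] at this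
  have h4 : ι Q x₀ * ι Q x₀ ∈ (theta hs).range := by
    rw [ι_sq_scalar]; exact Subalgebra.algebraMap_mem _ _
  have h5 : ∀ m₂ : M, ι Q x₀ * ι Q m₂ ∈ (theta hs).range := by
    intro m₂
    rw [decompK hs.one m₂, map_add, map_smul, mul_add, mul_smul_comm]
    exact Subalgebra.add_mem _ (h1 _) (Subalgebra.smul_mem _ h4 _)
  have h6 : ∀ (n : LinearMap.ker φ₀) (m₂ : M), ι Q (n : M) * ι Q m₂ ∈ (theta hs).range := by
    intro n m₂
    rw [decompK hs.one m₂, map_add, map_smul, mul_add, mul_smul_comm]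
    exact Subalgebra.add_mem _ (h3 _ _) (Subalgebra.smul_mem _ (h2 _) _)
  rw [decompK hs.one m₁, map_add, map_smul, add_mul, smul_mul_assoc]
  exact Subalgebra.add_mem _ (h6 _ _) (Subalgebra.smul_mem _ (h5 _) _)

theorem mem_range_theta (hs : OddSplit Q x₀ φ₀) {a : CliffordAlgebra Q}
    (ha : a ∈ evenOdd Q 0) : a ∈ (theta hs).range := by
  induction a, ha using even_induction with
  | algebraMap r => exact Subalgebra.algebraMap_mem _ r
  | add x y _ _ ihx ihy => exact Subalgebra.add_mem _ ihx ihy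
  | ι_mul_ι_mul m₁ m₂ x hx ih => exact Subalgebra.mul_mem _ (ι_mul_ι_mem_range hs m₁ m₂) ih

/-- `C(-c • Q|K) → C₀(Q)` -/
noncomputable def theta' (hs : OddSplit Q x₀ φ₀) :
    CliffordAlgebra (QK' Q x₀ φ₀) →ₐ[R] ↥(CliffordAlgebra.even Q) :=
  (theta hs).codRestrict (CliffordAlgebra.even Q) (theta_mem_even hs)

theorem theta'_coe (hs : OddSplit Q x₀ φ₀) (a : CliffordAlgebra (QK' Q x₀ φ₀)) :
    (theta' hs a : CliffordAlgebra Q) = theta hs a := rfl

theorem theta'_surjective (hs : OddSplit Q x₀ φ₀) : Function.Surjective (theta' hs) := by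
  intro w
  obtain ⟨a, ha⟩ := mem_range_theta hs w.2
  exact ⟨a, Subtype.ext ha⟩

end Theta

/-- over a field the even Clifford algebra of an odd splitting is central simple -/
theorem even_central_simple {k : Type u} [Field k] {V : Type v} [AddCommGroup V] [Module k V]
    [Module.Free k V] [Module.Finite k V] {Q : QuadraticForm k V} {x₀ : V} {φ₀ : V →ₗ[k] k}
    (hs : OddSplit Q x₀ φ₀) (m : ℕ) (hV : Module.finrank k V = 2 * m + 1) :
    Algebra.IsCentral k ↥(CliffordAlgebra.even Q) ∧ IsSimpleRing ↥(CliffordAlgebra.even Q) := by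
  haveI := finite_K (φ₀ := φ₀) (x₀ := x₀) hs.one
  have hrank := finrank_K (φ₀ := φ₀) (x₀ := x₀) hs.one
  have hK : Module.finrank k (LinearMap.ker φ₀) = 2 * m := by omega
  haveI := isCentral_of_field (QK' Q x₀ φ₀) (isRegular_QK' hs) m hK
  have hsimple := isSimpleRing_of_field (QK' Q x₀ φ₀) (isRegular_QK' hs) m hK
  haveI := hsimple
  haveI : Nontrivial ↥(CliffordAlgebra.even Q) := by
    refine ⟨⟨0, 1, fun h => ?_⟩⟩
    have h1 : (0 : CliffordAlgebra Q) = 1 := congrArg Subtype.val h
    have h2 : algebraMap k (CliffordAlgebra Q) 0 = algebraMap k (CliffordAlgebra Q) 1 := by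
      rw [map_zero, map_one]; exact h1
    exact zero_ne_one (QG.algebraMap_injective Q h2)
  have hinj : Function.Injective (theta' hs) := RingHom.injective (theta' hs).toRingHom
  let e : CliffordAlgebra (QK' Q x₀ φ₀) ≃ₐ[k] ↥(CliffordAlgebra.even Q) :=
    AlgEquiv.ofBijective (theta' hs) ⟨hinj, theta'_surjective hs⟩
  exact ⟨Groth.Agent.H7.Br.isCentral_of_algEquiv' e,
    IsSimpleRing.of_ringEquiv e.toRingEquiv hsimple⟩

/-- base change of the even part, as an algebra isomorphism -/
noncomputable def psiEquiv [Module.Free R M] (k : Type u) [CommRing k] [Algebra R k]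
    (Q : QuadraticForm R M) :
    k ⊗[R] ↥(CliffordAlgebra.even Q) ≃ₐ[k]
      ↥(CliffordAlgebra.even (QuadGrp.baseChangeForm k Q)) :=
  AlgEquiv.ofBijective (psi k Q) ⟨psi_injective k Q, psi_surjective k Q⟩

/-- the even Clifford algebra of a semiregular form of odd rank is Azumaya -/
theorem isAzumaya_even (m : ℕ) (b : Module.Basis (Fin (2 * m + 1)) R M) (Q : QuadraticForm R M)
    (hQ : QuadGrp.IsSemiregular b (LinearEquiv.refl R R) Q) :
    IsAzumaya R ↥(CliffordAlgebra.even Q) := by
  haveI : Module.Free R M := Module.Free.of_basis b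
  haveI : Module.Finite R M := Module.Finite.of_basis b
  haveI := finite_clifford' b Q
  haveI := free_clifford' b Q
  haveI := finite_even Q
  haveI := projective_even Q
  rw [Groth.Agent.H7.Azu.isAzumaya_iff_fibres]
  intro p _
  have hQk := isSemiregular_baseChange p.ResidueField b Q hQ
  obtain ⟨x₀, φ₀, hs⟩ := exists_oddSplit m (p.ResidueField ⊗[R] M)
    (QuadGrp.baseChangeForm p.ResidueField Q) (2 * m + 1) rfl (b.baseChange p.ResidueField) hQk
  have hV : Module.finrank p.ResidueField (p.ResidueField ⊗[R] M) = 2 * m + 1 := by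
    rw [Module.finrank_eq_card_basis (b.baseChange p.ResidueField), Fintype.card_fin]
  obtain ⟨hc, hsimp⟩ := even_central_simple hs m hV
  haveI := hc
  exact ⟨Groth.Agent.H7.Br.isCentral_of_algEquiv' (psiEquiv p.ResidueField Q).symm,
    IsSimpleRing.of_ringEquiv (psiEquiv p.ResidueField Q).symm.toRingEquiv hsimp⟩

end Groth.Agent.H9.QO
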