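import Mathlib
import Groth.Agent.Lib.Helper9.Misc.QO5

/-! Odd rank: special isometries lift to the even Clifford group; `GPin' = Z^× · GSpin` over a
local ring (helper9). -/

set_option autoImplicit false

open CliffordAlgebra QuadraticMap TensorProduct Groth.Agent.H9.QG

namespace Groth.Agent.H9.QO

universe u v

variable {R : Type u} [CommRing R] {M : Type v} [AddCommGroup M] [Module R M]

/-! ### algebra in the span of `1` and a central element -/

theorem pair_mul {C : Type*} [Ring C] [Algebra R C] (z : C) (t α β α' β' : R)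
    (ht : z * z = t • (1 : C)) :
    (α • (1 : C) + β • z) * (α' • (1 : C) + β' • z) =
      (α * α' + β * β' * t) • (1 : C) + (α * β' + β * α') • z := by
  simp only [add_mul, mul_add, smul_mul_assoc, mul_smul_comm, one_mul, mul_one, ht]
  module

theorem pair_ext {C : Type*} [Ring C] [Algebra R C] {z : C}
    (hli : LinearIndependent R ![(1 : C), z]) {α β α' β' : R}
    (h : α • (1 : C) + β • z = α' • (1 : C) + β' • z) : α = α' ∧ β = β' := by
  rw [LinearIndependent.pair_iff] at hli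
  have h' : (α - α') • (1 : C) + (β - β') • z = 0 := by
    rw [sub_smul, sub_smul]
    have := sub_eq_zero.mpr h
    rw [← this]; abel
  obtain ⟨h1, h2⟩ := hli _ _ h'
  exact ⟨sub_eq_zero.mp h1, sub_eq_zero.mp h2⟩

theorem exists_smul_of_central_odd {Q : QuadraticForm R M} {z : CliffordAlgebra Q}
    (hz1 : z ∈ evenOdd Q 1)
    (hspan : Subalgebra.toSubmodule (Subalgebra.center R (CliffordAlgebra Q)) =
      Submodule.span R {1, z})
    {w : CliffordAlgebra Q} (hwc : w ∈ Subalgebra.center R (CliffordAlgebra Q))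
    (hw1 : w ∈ evenOdd Q 1) : ∃ s : R, w = s • z := by
  have hmem : w ∈ Subalgebra.toSubmodule (Subalgebra.center R (CliffordAlgebra Q)) := hwc
  rw [hspan, Submodule.mem_span_pair] at hmem
  obtain ⟨α, s, hαs⟩ := hmem
  refine ⟨s, ?_⟩
  have hodd : α • (1 : CliffordAlgebra Q) ∈ evenOdd Q 1 := by
    have : α • (1 : CliffordAlgebra Q) = w - s • z := by rw [← hαs]; abel
    rw [this]; exact Submodule.sub_mem _ hw1 (Submodule.smul_mem _ _ hz1)
  have heven : α • (1 : CliffordAlgebra Q) ∈ evenOdd Q 0 :=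
    Submodule.smul_mem _ _ (SetLike.one_mem_graded _)
  rw [← hαs, eq_zero_of_mem_even_of_mem_odd heven hodd, zero_add]

/-! ### the automorphism attached to an isometry -/

theorem exists_algEquiv_of_isometry (Q : QuadraticForm R M) (g : M ≃ₗ[R] M)
    (hg : g ∈ QuadGrp.O Q) :
    ∃ G : CliffordAlgebra Q ≃ₐ[R] CliffordAlgebra Q, (∀ v, G (ι Q v) = ι Q (g v)) ∧
      (∀ a ∈ evenOdd Q 0, G a ∈ evenOdd Q 0) ∧ (∀ a ∈ evenOdd Q 1, G a ∈ evenOdd Q 1) ∧
      (∀ a ∈ evenOdd Q 0, G.symm a ∈ evenOdd Q 0) := by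
  refine ⟨CliffordAlgebra.equivOfIsometry (isoOfMem Q g hg),
    fun v => CliffordAlgebra.map_apply_ι _ v, fun a ha => ?_, fun a ha => ?_, fun a ha => ?_⟩
  · change CliffordAlgebra.map (isoOfMem Q g hg).toIsometry a ∈ _
    exact map_mem_even _ ha
  · change CliffordAlgebra.map (isoOfMem Q g hg).toIsometry a ∈ _
    exact map_mem_odd _ ha
  · change CliffordAlgebra.map (isoOfMem Q g hg).symm.toIsometry a ∈ _
    exact map_mem_even _ ha

theorem exists_algEquiv_even {Q : QuadraticForm R M}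
    (G : CliffordAlgebra Q ≃ₐ[R] CliffordAlgebra Q)
    (h1 : ∀ a ∈ evenOdd Q 0, G a ∈ evenOdd Q 0) (h2 : ∀ a ∈ evenOdd Q 0, G.symm a ∈ evenOdd Q 0) :
    ∃ σ : ↥(CliffordAlgebra.even Q) ≃ₐ[R] ↥(CliffordAlgebra.even Q),
      ∀ a, (σ a : CliffordAlgebra Q) = G a := by
  let σ₀ : ↥(CliffordAlgebra.even Q) →ₐ[R] ↥(CliffordAlgebra.even Q) :=
    ((G : CliffordAlgebra Q →ₐ[R] CliffordAlgebra Q).comp
      (CliffordAlgebra.even Q).val).codRestrict (CliffordAlgebra.even Q) (fun a => h1 _ a.2)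
  have hσ₀ : ∀ a, (σ₀ a : CliffordAlgebra Q) = G a := fun a => rfl
  have hbij : Function.Bijective σ₀ := by
    constructor
    · intro a a' h
      have := congrArg Subtype.val h
      rw [hσ₀, hσ₀] at this
      exact Subtype.ext (G.injective this)
    · intro w
      refine ⟨⟨G.symm w, h2 _ w.2⟩, Subtype.ext ?_⟩
      rw [hσ₀]; exact G.apply_symm_apply _
  exact ⟨AlgEquiv.ofBijective σ₀ hbij, fun a => rfl⟩

/-! ### S16995 -/

theorem exists_gspin_of_SO' [IsLocalRing R] [Module.Free R M] [Module.Finite R M]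
    (m : ℕ) (b : Module.Basis (Fin (2 * m + 1)) R M) (Q : QuadraticForm R M)
    (hQ : QuadGrp.IsSemiregular b (LinearEquiv.refl R R) Q)
    (g : M ≃ₗ[R] M) (hg : g ∈ QuadGrp.SO' Q) :
    ∃ u ∈ QuadGrp.GSpin Q, ∀ v : M,
      (u : CliffordAlgebra Q) * ι Q v * ↑u⁻¹ = ι Q (g v) := by
  obtain ⟨hgO, hgdet⟩ : g ∈ QuadGrp.O Q ∧ LinearEquiv.det g = 1 := by
    rw [QuadGrp.SO', Subgroup.mem_inf, MonoidHom.mem_ker] at hg; exact hg
  haveI := isAzumaya_even m b Q hQ
  obtain ⟨z, hzc, hz1, hzu, ⟨t, ht⟩, hli, hspan⟩ := center_odd m b Q hQ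
  have hzc' : ∀ c, c * z = z * c := Subalgebra.mem_center_iff.mp hzc
  obtain ⟨G, hGι, hGe, hGo, hGse⟩ := exists_algEquiv_of_isometry Q g hgO
  obtain ⟨σ, hσ⟩ := exists_algEquiv_even G hGe hGse
  obtain ⟨a, ha⟩ := Groth.Agent.H7.LG.exists_inner_of_isLGRing
    (Groth.Agent.H7.LG.isLGRing_of_isLocalRing R) σ
  obtain ⟨u, hu_val, hu_inv⟩ : ∃ u : (CliffordAlgebra Q)ˣ,
      (u : CliffordAlgebra Q) = ((a : ↥(CliffordAlgebra.even Q)) : CliffordAlgebra Q) ∧
      (↑u⁻¹ : CliffordAlgebra Q) =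
        (((a⁻¹ : (↥(CliffordAlgebra.even Q))ˣ) : ↥(CliffordAlgebra.even Q)) :
          CliffordAlgebra Q) :=
    ⟨⟨((a : ↥(CliffordAlgebra.even Q)) : CliffordAlgebra Q),
      (((a⁻¹ : (↥(CliffordAlgebra.even Q))ˣ) : ↥(CliffordAlgebra.even Q)) : CliffordAlgebra Q),
      by rw [← MulMemClass.coe_mul, Units.mul_inv, OneMemClass.coe_one],
      by rw [← MulMemClass.coe_mul, Units.inv_mul, OneMemClass.coe_one]⟩, rfl, rfl⟩
  have hu_even : (u : CliffordAlgebra Q) ∈ evenOdd Q 0 := by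
    rw [hu_val]; exact (a : ↥(CliffordAlgebra.even Q)).2
  have hconj_even : ∀ e ∈ evenOdd Q 0, (u : CliffordAlgebra Q) * e * ↑u⁻¹ = G e := by
    intro e he
    have h := congrArg Subtype.val (ha ⟨e, he⟩)
    rw [hσ] at h
    rw [hu_val, hu_inv]
    exact h.symm
  have hGzc : G z ∈ Subalgebra.center R (CliffordAlgebra Q) := by
    rw [Subalgebra.mem_center_iff]
    intro c
    obtain ⟨c', rfl⟩ := G.surjective c
    rw [← map_mul, ← map_mul, hzc' c']
  obtain ⟨s, hs⟩ := exists_smul_of_central_odd hz1 hspan hGzc (hGo z hz1)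
  have hss : s * s = 1 := by
    have h1 : G (z * z) = z * z := by rw [← ht, AlgEquiv.commutes]
    rw [map_mul, hs, smul_mul_smul_comm] at h1
    have h2 : algebraMap R (CliffordAlgebra Q) (s * s - 1) * (z * z) = 0 := by
      rw [map_sub, map_one, sub_mul, one_mul, ← Algebra.smul_def, h1, sub_self]
    have h3 := ((hzu.mul hzu).mul_left_eq_zero).mp h2
    have h4 := QG.algebraMap_injective Q (h3.trans (map_zero _).symm)
    exact sub_eq_zero.mp h4
  have hconj_s : ∀ v, (u : CliffordAlgebra Q) * ι Q v * ↑u⁻¹ =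
      ι Q ((s • (g : M →ₗ[R] M)) v) := by
    intro v
    have he : z * ι Q v ∈ evenOdd Q 0 := by
      have := SetLike.mul_mem_graded hz1 (ι_mem_evenOdd_one Q v)
      rwa [show (1 : ZMod 2) + 1 = 0 from rfl] at this
    have h1 := hconj_even _ he
    rw [map_mul, hs, hGι] at h1
    have h2 : (u : CliffordAlgebra Q) * (z * ι Q v) * ↑u⁻¹ =
        z * ((u : CliffordAlgebra Q) * ι Q v * ↑u⁻¹) := by
      rw [← mul_assoc, hzc' u, mul_assoc, mul_assoc, mul_assoc]
    rw [h2] at h1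
    have h3 : z * ((u : CliffordAlgebra Q) * ι Q v * ↑u⁻¹) =
        z * ι Q ((s • (g : M →ₗ[R] M)) v) := by
      rw [h1, LinearMap.smul_apply, map_smul, smul_mul_assoc, mul_smul_comm, LinearEquiv.coe_coe]
    exact hzu.mul_left_cancel h3
  have hdet := det_eq_one_of_conj_of_odd b ⟨m, rfl⟩ Q u (s • (g : M →ₗ[R] M)) hconj_s
  rw [LinearMap.det_smul, ← LinearEquiv.coe_det, hgdet, Units.val_one, mul_one,
    Module.finrank_eq_card_basis b, Fintype.card_fin] at hdet
  have hs1 : s = 1 := by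
    have : s ^ (2 * m + 1) = s := by
      rw [pow_succ, pow_mul, _root_.sq, hss, one_pow, one_mul]
    rw [← this, hdet]
  subst hs1
  have hconj : ∀ v, (u : CliffordAlgebra Q) * ι Q v * ↑u⁻¹ = ι Q (g v) := by
    intro v
    have := hconj_s v
    rwa [one_smul] at this
  refine ⟨u, ?_, hconj⟩
  rw [QuadGrp.GSpin, QuadGrp.GPin, Subgroup.mem_inf, Subgroup.mem_inf]
  refine ⟨⟨mem_GPin'_of_equiv u g hconj, ?_⟩, (QuadGrp.mem_evenUnits Q u).mpr hu_even⟩
  rw [QuadGrp.mem_LH]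
  exact ⟨1, IsIdempotentElem.one, by rw [one_smul]; exact hu_even,
    by rw [sub_self, zero_smul]; exact Submodule.zero_mem _⟩

/-! ### S16996 -/

theorem exists_central_mul_gspin [IsLocalRing R] [Module.Free R M] [Module.Finite R M]
    (m : ℕ) (b : Module.Basis (Fin (2 * m + 1)) R M) (Q : QuadraticForm R M)
    (hQ : QuadGrp.IsSemiregular b (LinearEquiv.refl R R) Q)
    (u' : (CliffordAlgebra Q)ˣ) (hu' : u' ∈ QuadGrp.GPin' Q) :
    ∃ z : CliffordAlgebra Q, z ∈ Subalgebra.center R (CliffordAlgebra Q) ∧ IsUnit z ∧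
      ∃ u ∈ QuadGrp.GSpin Q, (u' : CliffordAlgebra Q) = z * u := by
  obtain ⟨g, hgO, hg⟩ := exists_isometry_of_mem_GPin' hu'
  have hdet : LinearMap.det (g : M →ₗ[R] M) = 1 :=
    det_eq_one_of_conj_of_odd b ⟨m, rfl⟩ Q u' (g : M →ₗ[R] M) hg
  have hgSO : g ∈ QuadGrp.SO' Q := by
    rw [QuadGrp.SO', Subgroup.mem_inf, MonoidHom.mem_ker]
    refine ⟨hgO, Units.ext ?_⟩
    rw [LinearEquiv.coe_det, hdet, Units.val_one]
  obtain ⟨u, huG, hu⟩ := exists_gspin_of_SO' m b Q hQ g hgSO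
  have hcomm : ∀ v, (↑u⁻¹ * (u' : CliffordAlgebra Q)) * ι Q v =
      ι Q v * (↑u⁻¹ * (u' : CliffordAlgebra Q)) := by
    intro v
    have h1 : (u' : CliffordAlgebra Q) * ι Q v * ↑u'⁻¹ = (u : CliffordAlgebra Q) * ι Q v * ↑u⁻¹ := by
      rw [hg, hu]
    calc ↑u⁻¹ * (u' : CliffordAlgebra Q) * ι Q v
        = ↑u⁻¹ * ((u' : CliffordAlgebra Q) * ι Q v * ↑u'⁻¹) * ↑u' := by
          simp only [mul_assoc, Units.inv_mul, mul_one]
      _ = ↑u⁻¹ * ((u : CliffordAlgebra Q) * ι Q v * ↑u⁻¹) * ↑u' := by rw [h1]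
      _ = ι Q v * (↑u⁻¹ * (u' : CliffordAlgebra Q)) := by
          simp only [mul_assoc, Units.inv_mul_cancel_left]
  refine ⟨↑u⁻¹ * (u' : CliffordAlgebra Q), ?_, ⟨u⁻¹ * u', Units.val_mul _ _⟩, u, huG, ?_⟩
  · rw [Subalgebra.mem_center_iff]
    intro c
    exact (central_of_comm_ι hcomm c).symm
  · rw [central_of_comm_ι hcomm (u : CliffordAlgebra Q), Units.mul_inv_cancel_left]

end Groth.Agent.H9.QO
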