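import Mathlib
import Groth.Agent.Lib.Helper9.Misc.QO6

/-! Odd rank `≡ 3 mod 4`, `2` invertible: `Pin = Pin'` (helper9). -/

set_option autoImplicit false

open CliffordAlgebra QuadraticMap TensorProduct Groth.Agent.H9.QG

namespace Groth.Agent.H9.QO

universe u v

variable {R : Type u} [CommRing R] {M : Type v} [AddCommGroup M] [Module R M]

/-! ### base change of units -/

section UnitBC

variable [Module.Free R M] (A : Type u) [CommRing A] [Algebra R A] (Q : QuadraticForm R M)

/-- base change of a unit of the Clifford algebra -/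
noncomputable def unitBC (u : (CliffordAlgebra Q)ˣ) :
    (CliffordAlgebra (QuadGrp.baseChangeForm A Q))ˣ :=
  ⟨toBC A Q u, toBC A Q ↑u⁻¹, by rw [← map_mul, Units.mul_inv, map_one],
    by rw [← map_mul, Units.inv_mul, map_one]⟩

theorem unitBC_val (u : (CliffordAlgebra Q)ˣ) :
    (unitBC A Q u : CliffordAlgebra (QuadGrp.baseChangeForm A Q)) = toBC A Q u := rfl

theorem unitBC_inv (u : (CliffordAlgebra Q)ˣ) :
    (↑(unitBC A Q u)⁻¹ : CliffordAlgebra (QuadGrp.baseChangeForm A Q)) = toBC A Q ↑u⁻¹ := rfl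

theorem unitBC_conj (u : (CliffordAlgebra Q)ˣ) (g : M ≃ₗ[R] M)
    (hgu : ∀ v, (u : CliffordAlgebra Q) * ι Q v * ↑u⁻¹ = ι Q (g v)) (x : A ⊗[R] M) :
    (unitBC A Q u : CliffordAlgebra (QuadGrp.baseChangeForm A Q)) *
      ι (QuadGrp.baseChangeForm A Q) x * ↑(unitBC A Q u)⁻¹ =
      ι (QuadGrp.baseChangeForm A Q) (g.baseChange R A M M x) := by
  rw [unitBC_val, unitBC_inv]
  induction x using TensorProduct.induction_on with
  | zero => simp
  | tmul a v =>
    have e1 : a ⊗ₜ[R] v = a • ((1 : A) ⊗ₜ[R] v) := by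
      rw [TensorProduct.smul_tmul', smul_eq_mul, mul_one]
    have e2 : a ⊗ₜ[R] g v = a • ((1 : A) ⊗ₜ[R] g v) := by
      rw [TensorProduct.smul_tmul', smul_eq_mul, mul_one]
    have hv : toBC A Q u * ι (QuadGrp.baseChangeForm A Q) ((1 : A) ⊗ₜ[R] v) * toBC A Q ↑u⁻¹ =
        ι (QuadGrp.baseChangeForm A Q) ((1 : A) ⊗ₜ[R] g v) := by
      have := congrArg (toBC A Q) (hgu v)
      rw [map_mul, map_mul, toBC_ι, toBC_ι] at this
      exact this
    rw [LinearEquiv.baseChange_tmul, e1, e2, map_smul, map_smul, mul_smul_comm, smul_mul_assoc,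
      hv]
  | add x x' hx hx' => rw [map_add, mul_add, add_mul, hx, hx', map_add, map_add]

theorem unitBC_mem_GPin' {u : (CliffordAlgebra Q)ˣ} (hu : u ∈ QuadGrp.GPin' Q) :
    unitBC A Q u ∈ QuadGrp.GPin' (QuadGrp.baseChangeForm A Q) := by
  obtain ⟨g, -, hgu⟩ := exists_isometry_of_mem_GPin' hu
  exact mem_GPin'_of_equiv _ (g.baseChange R A M M) (unitBC_conj A Q u g hgu)

end UnitBC

/-! ### local homogeneity is local -/

theorem mem_LH_of_local [Module.Free R M] (Q : QuadraticForm R M) (u : (CliffordAlgebra Q)ˣ)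
    (h : ∀ (p : Ideal R) [p.IsMaximal],
      toBC (Localization.AtPrime p) Q u ∈
        evenOdd (QuadGrp.baseChangeForm (Localization.AtPrime p) Q) 0 ∨
      toBC (Localization.AtPrime p) Q u ∈
        evenOdd (QuadGrp.baseChangeForm (Localization.AtPrime p) Q) 1) :
    u ∈ QuadGrp.LH Q := by
  rw [QuadGrp.mem_LH]
  obtain ⟨u₀, h₀, u₁, h₁, hsum⟩ := exists_even_add_odd (u : CliffordAlgebra Q)
  have htop : LinearMap.ker (LinearMap.toSpanSingleton R (CliffordAlgebra Q) u₀) ⊔
      LinearMap.ker (LinearMap.toSpanSingleton R (CliffordAlgebra Q) u₁) = (⊤ : Ideal R) := by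
    by_contra hne
    obtain ⟨p, hp, hle⟩ := Ideal.exists_le_maximal _ hne
    haveI := hp
    rcases h p with h | h
    · have h2 : toBC (Localization.AtPrime p) Q u₁ = 0 := by
        refine eq_zero_of_mem_even_of_mem_odd ?_ (toBC_mem_odd _ Q h₁)
        have : toBC (Localization.AtPrime p) Q u₁ =
            toBC (Localization.AtPrime p) Q u - toBC (Localization.AtPrime p) Q u₀ := by
          rw [← hsum, map_add]; abel
        rw [this]
        exact Submodule.sub_mem _ h (toBC_mem_even _ Q h₀)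
      obtain ⟨t, ht, htz⟩ := exists_smul_eq_zero_of_toBC_eq_zero p.primeCompl _ Q h2
      refine ht (hle (Ideal.mem_sup_right ?_))
      rw [LinearMap.mem_ker, LinearMap.toSpanSingleton_apply]; exact htz
    · have h2 : toBC (Localization.AtPrime p) Q u₀ = 0 := by
        refine eq_zero_of_mem_even_of_mem_odd (toBC_mem_even _ Q h₀) ?_
        have : toBC (Localization.AtPrime p) Q u₀ =
            toBC (Localization.AtPrime p) Q u - toBC (Localization.AtPrime p) Q u₁ := by
          rw [← hsum, map_add]; abel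
        rw [this]
        exact Submodule.sub_mem _ h (toBC_mem_odd _ Q h₁)
      obtain ⟨t, ht, htz⟩ := exists_smul_eq_zero_of_toBC_eq_zero p.primeCompl _ Q h2
      refine ht (hle (Ideal.mem_sup_left ?_))
      rw [LinearMap.mem_ker, LinearMap.toSpanSingleton_apply]; exact htz
  obtain ⟨a, ha, c, hc, hac⟩ := Submodule.mem_sup.mp ((Ideal.eq_top_iff_one _).mp htop)
  rw [LinearMap.mem_ker, LinearMap.toSpanSingleton_apply] at ha hc
  have hac0 : a * c = 0 := by
    have h1 : (a * c) • (u : CliffordAlgebra Q) = 0 := by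
      have e0 : (a * c) • u₀ = 0 := by rw [mul_comm, mul_smul, ha, smul_zero]
      have e1 : (a * c) • u₁ = 0 := by rw [mul_smul, hc, smul_zero]
      rw [← hsum, smul_add, e0, e1, add_zero]
    have h2 : algebraMap R (CliffordAlgebra Q) (a * c) = 0 := by
      have : algebraMap R _ (a * c) * (u : CliffordAlgebra Q) = 0 := by
        rw [← Algebra.smul_def]; exact h1
      exact (u.isUnit.mul_left_eq_zero).mp this
    exact QG.algebraMap_injective Q (h2.trans (map_zero _).symm)
  refine ⟨c, ?_, ?_, ?_⟩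
  · change c * c = c
    linear_combination c * hac - hac0
  · rw [← hsum, smul_add, hc, add_zero]; exact Submodule.smul_mem _ _ h₀
  · have : (1 - c) = a := by rw [← hac]; ring
    rw [this, ← hsum, smul_add, ha, zero_add]; exact Submodule.smul_mem _ _ h₁

/-! ### the local statement -/

theorem even_or_odd_of_pin' [IsLocalRing R] [Module.Free R M] [Module.Finite R M]
    (h2 : IsUnit (2 : R)) (m : ℕ) (hm : Odd m)
    (b : Module.Basis (Fin (2 * m + 1)) R M) (Q : QuadraticForm R M)
    (hQ : QuadGrp.IsSemiregular b (LinearEquiv.refl R R) Q)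
    (u' : (CliffordAlgebra Q)ˣ) (hu' : u' ∈ QuadGrp.GPin' Q)
    (hN : star (u' : CliffordAlgebra Q) * u' = 1) :
    (u' : CliffordAlgebra Q) ∈ evenOdd Q 0 ∨ (u' : CliffordAlgebra Q) ∈ evenOdd Q 1 := by
  obtain ⟨z, hzc, hz1, hzu, ⟨t, ht⟩, hli, hspan⟩ := center_odd m b Q hQ
  have hzz : z * z = t • (1 : CliffordAlgebra Q) := by
    rw [← ht, Algebra.algebraMap_eq_smul_one]
  obtain ⟨z', hz'c, hz'u, u, huG, hu'eq⟩ := exists_central_mul_gspin m b Q hQ u' hu'
  have hz'c' : ∀ c, c * z' = z' * c := Subalgebra.mem_center_iff.mp hz'c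
  have hmem : z' ∈ Subalgebra.toSubmodule (Subalgebra.center R (CliffordAlgebra Q)) := hz'c
  rw [hspan, Submodule.mem_span_pair] at hmem
  obtain ⟨α, β, hαβ⟩ := hmem
  have hstarz : star z = z := by
    rw [star_central_odd m b Q hQ z hzc hz1, Even.neg_one_pow hm.add_one, one_smul]
  have hstarz' : star z' = z' := by
    rw [← hαβ, star_add, CliffordAlgebra.star_smul, CliffordAlgebra.star_smul, star_one, hstarz]
  have hu_even : (u : CliffordAlgebra Q) ∈ evenOdd Q 0 := by
    rw [QuadGrp.GSpin, Subgroup.mem_inf] at huG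
    exact (QuadGrp.mem_evenUnits Q u).mp huG.2
  have hsu_even : star (u : CliffordAlgebra Q) ∈ evenOdd Q 0 := by
    rw [CliffordAlgebra.star_def]
    exact (reverse_mem_evenOdd_iff Q).mpr ((involute_mem_evenOdd_iff Q).mpr hu_even)
  have hN_even : star (u : CliffordAlgebra Q) * u ∈ evenOdd Q 0 := by
    have := SetLike.mul_mem_graded hsu_even hu_even
    rwa [add_zero] at this
  have hN_unit : IsUnit (star (u : CliffordAlgebra Q) * u) := (u.isUnit.star).mul u.isUnit
  have hnorm : z' * z' * (star (u : CliffordAlgebra Q) * u) = 1 := by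
    rw [hu'eq, star_mul, hstarz'] at hN
    have e : star (u : CliffordAlgebra Q) * z' * (z' * u) =
        z' * z' * (star (u : CliffordAlgebra Q) * u) := by
      rw [hz'c' (star (u : CliffordAlgebra Q)), mul_assoc z' (star (u : CliffordAlgebra Q)),
        ← mul_assoc (star (u : CliffordAlgebra Q)) z' u, hz'c' (star (u : CliffordAlgebra Q)),
        mul_assoc z' (star (u : CliffordAlgebra Q)) u, ← mul_assoc z' z']
    rw [← e]; exact hN
  have hz'z' : z' * z' = (α * α + β * β * t) • (1 : CliffordAlgebra Q) + (α * β + β * α) • z := by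
    rw [← hαβ]; exact pair_mul z t α β α β hzz
  have hodd0 : (α * β + β * α) • (z * (star (u : CliffordAlgebra Q) * u)) = 0 := by
    have h1 : (α * α + β * β * t) • (star (u : CliffordAlgebra Q) * u) +
        (α * β + β * α) • (z * (star (u : CliffordAlgebra Q) * u)) = 1 := by
      rw [← hnorm, hz'z', add_mul, smul_mul_assoc, smul_mul_assoc, one_mul]
    have hzN_odd : z * (star (u : CliffordAlgebra Q) * u) ∈ evenOdd Q 1 := by
      have := SetLike.mul_mem_graded hz1 hN_even; rwa [add_zero] at this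
    have hodd : (α * β + β * α) • (z * (star (u : CliffordAlgebra Q) * u)) ∈ evenOdd Q 1 :=
      Submodule.smul_mem _ _ hzN_odd
    have heven : (α * β + β * α) • (z * (star (u : CliffordAlgebra Q) * u)) ∈ evenOdd Q 0 := by
      have : (α * β + β * α) • (z * (star (u : CliffordAlgebra Q) * u)) =
          1 - (α * α + β * β * t) • (star (u : CliffordAlgebra Q) * u) := by rw [← h1]; abel
      rw [this]
      exact Submodule.sub_mem _ (SetLike.one_mem_graded _) (Submodule.smul_mem _ _ hN_even)
    exact eq_zero_of_mem_even_of_mem_odd heven hodd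
  have hαβ0 : α * β = 0 := by
    have h2' : algebraMap R (CliffordAlgebra Q) (α * β + β * α) *
        (z * (star (u : CliffordAlgebra Q) * u)) = 0 := by
      rw [← Algebra.smul_def]; exact hodd0
    have h3 := ((hzu.mul hN_unit).mul_left_eq_zero).mp h2'
    have h4 : α * β + β * α = 0 := QG.algebraMap_injective Q (h3.trans (map_zero _).symm)
    have h5 : (2 : R) * (α * β) = 0 := by rw [← h4]; ring
    exact (h2.mul_right_eq_zero).mp h5
  obtain ⟨w, hw⟩ := hz'u.exists_right_inv
  have hw' : w * z' = 1 := by rw [hz'c' w]; exact hw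
  have hwc : w ∈ Subalgebra.center R (CliffordAlgebra Q) := by
    rw [Subalgebra.mem_center_iff]
    intro c
    calc c * w = (w * z') * (c * w) := by rw [hw', one_mul]
      _ = w * (c * (z' * w)) := by
          rw [mul_assoc, ← mul_assoc z' c w, ← hz'c' c, mul_assoc c z' w]
      _ = w * c := by rw [hw, mul_one]
  have hwmem : w ∈ Subalgebra.toSubmodule (Subalgebra.center R (CliffordAlgebra Q)) := hwc
  rw [hspan, Submodule.mem_span_pair] at hwmem
  obtain ⟨α', β', hwαβ⟩ := hwmem
  have hprod : (α * α' + β * β' * t) • (1 : CliffordAlgebra Q) + (α * β' + β * α') • z =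
      (1 : R) • (1 : CliffordAlgebra Q) + (0 : R) • z := by
    rw [← pair_mul z t α β α' β' hzz, hαβ, hwαβ, hw, one_smul, zero_smul, add_zero]
  obtain ⟨h1, -⟩ := pair_ext hli hprod
  rcases IsLocalRing.isUnit_or_isUnit_of_add_one h1 with hu1 | hu1
  · have hαu : IsUnit α := isUnit_of_mul_isUnit_left hu1
    have hβ0 : β = 0 := (hαu.mul_right_eq_zero).mp hαβ0
    left
    rw [hu'eq, ← hαβ, hβ0, zero_smul, add_zero, smul_mul_assoc, one_mul]
    exact Submodule.smul_mem _ _ hu_even
  · have hβu : IsUnit β := isUnit_of_mul_isUnit_left (by rwa [mul_assoc] at hu1)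
    have hα0 : α = 0 := (hβu.mul_left_eq_zero).mp hαβ0
    right
    rw [hu'eq, ← hαβ, hα0, zero_smul, zero_add, smul_mul_assoc]
    refine Submodule.smul_mem _ _ ?_
    have := SetLike.mul_mem_graded hz1 hu_even
    rwa [add_zero] at this

/-! ### S16997 -/

theorem pin_eq_pin' [Invertible (2 : R)] [Module.Free R M] [Module.Finite R M]
    (m : ℕ) (hm : Odd m) (b : Module.Basis (Fin (2 * m + 1)) R M) (Q : QuadraticForm R M)
    (hQ : QuadGrp.IsSemiregular b (LinearEquiv.refl R R) Q) :
    QuadGrp.Pin Q = QuadGrp.Pin' Q := by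
  apply le_antisymm
  · intro u hu
    rw [QuadGrp.Pin, QuadGrp.GPin, Subgroup.mem_inf, Subgroup.mem_inf] at hu
    rw [QuadGrp.Pin', Subgroup.mem_inf]
    exact ⟨hu.1.1, hu.2⟩
  · intro u hu
    rw [QuadGrp.Pin', Subgroup.mem_inf] at hu
    rw [QuadGrp.Pin, QuadGrp.GPin, Subgroup.mem_inf, Subgroup.mem_inf]
    refine ⟨⟨hu.1, ?_⟩, hu.2⟩
    apply mem_LH_of_local Q u
    intro p hp
    have hN : star (u : CliffordAlgebra Q) * u = 1 := (QuadGrp.mem_normOne Q u).mp hu.2
    have h2 : IsUnit (2 : Localization.AtPrime p) := by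
      have := (isUnit_of_invertible (2 : R)).map (algebraMap R (Localization.AtPrime p))
      rwa [map_ofNat] at this
    exact even_or_odd_of_pin' h2 m hm (b.baseChange (Localization.AtPrime p))
      (QuadGrp.baseChangeForm (Localization.AtPrime p) Q)
      (isSemiregular_baseChange (Localization.AtPrime p) b Q hQ)
      (unitBC (Localization.AtPrime p) Q u) (unitBC_mem_GPin' (Localization.AtPrime p) Q hu.1)
      (by rw [unitBC_val, star_toBC, ← map_mul, hN, map_one])

end Groth.Agent.H9.QO
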