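import Mathlib
import Groth.Agent.Lib.Helper9.Misc.QO7
import Groth.Agent.Lib.Helper7.AzQE3

/-! Odd rank over an arbitrary base: fppf splitting of the even Clifford algebra, the even part of
the centre, the vectors as a direct summand (helper9). -/

set_option autoImplicit false

open CliffordAlgebra QuadraticMap TensorProduct Groth.Agent.H9.QG

namespace Groth.Agent.H9.QO

universe u v

variable {R : Type u} [CommRing R] {M : Type v} [AddCommGroup M] [Module R M]

/-! ### ranks -/

theorem finrank_clifford [Nontrivial R] {n : ℕ} (b : Module.Basis (Fin n) R M)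
    (Q : QuadraticForm R M) : Module.finrank R (CliffordAlgebra Q) = 2 ^ n := by
  haveI : Module.Free R M := Module.Free.of_basis b
  obtain ⟨β, hβ⟩ := LinearMap.BilinMap.toQuadraticMap_surjective Q
  rw [(changeFormEquiv (neg_proof hβ)).finrank_eq,
    Module.finrank_eq_card_basis b.ExteriorAlgebra, Fintype.card_finset, Fintype.card_fin]

theorem finrank_even_of_field {k : Type u} [Field k] {V : Type v} [AddCommGroup V] [Module k V]
    [Module.Free k V] [Module.Finite k V] {Q : QuadraticForm k V} {x₀ : V} {φ₀ : V →ₗ[k] k}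
    (hs : OddSplit Q x₀ φ₀) (m : ℕ) (hV : Module.finrank k V = 2 * m + 1) :
    Module.finrank k ↥(CliffordAlgebra.even Q) = 2 ^ (2 * m) := by
  haveI := finite_K (φ₀ := φ₀) (x₀ := x₀) hs.one
  have hrank := finrank_K (φ₀ := φ₀) (x₀ := x₀) hs.one
  have hK : Module.finrank k (LinearMap.ker φ₀) = 2 * m := by omega
  have hsimple := isSimpleRing_of_field (QK' Q x₀ φ₀) (isRegular_QK' hs) m hK
  haveI := hsimple
  haveI : Nontrivial ↥(CliffordAlgebra.even Q) := by
    refine ⟨⟨0, 1, fun h => ?_⟩⟩
    have h1 : (0 : CliffordAlgebra Q) = 1 := congrArg Subtype.val h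
    have h2 : algebraMap k (CliffordAlgebra Q) 0 = algebraMap k (CliffordAlgebra Q) 1 := by
      rw [map_zero, map_one]; exact h1
    exact zero_ne_one (QG.algebraMap_injective Q h2)
  have hinj : Function.Injective (theta' hs) := RingHom.injective (theta' hs).toRingHom
  let e : CliffordAlgebra (QK' Q x₀ φ₀) ≃ₐ[k] ↥(CliffordAlgebra.even Q) :=
    AlgEquiv.ofBijective (theta' hs) ⟨hinj, theta'_surjective hs⟩
  rw [← e.toLinearEquiv.finrank_eq,
    finrank_clifford (Module.finBasis k (LinearMap.ker φ₀)) (QK' Q x₀ φ₀), hK]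

theorem rankAtStalk_even (m : ℕ) (b : Module.Basis (Fin (2 * m + 1)) R M)
    (Q : QuadraticForm R M) (hQ : QuadGrp.IsSemiregular b (LinearEquiv.refl R R) Q)
    (p : PrimeSpectrum R) :
    Module.rankAtStalk (R := R) ↥(CliffordAlgebra.even Q) p = (2 ^ m) ^ 2 := by
  haveI : Module.Free R M := Module.Free.of_basis b
  haveI : Module.Finite R M := Module.Finite.of_basis b
  haveI := finite_clifford' b Q
  haveI := free_clifford' b Q
  haveI := finite_even Q
  haveI := projective_even Q
  rw [Module.rankAtStalk_eq p]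
  have hQk := isSemiregular_baseChange p.asIdeal.ResidueField b Q hQ
  obtain ⟨x₀, φ₀, hs⟩ := exists_oddSplit m (p.asIdeal.ResidueField ⊗[R] M)
    (QuadGrp.baseChangeForm p.asIdeal.ResidueField Q) (2 * m + 1) rfl
    (b.baseChange p.asIdeal.ResidueField) hQk
  have hV : Module.finrank p.asIdeal.ResidueField (p.asIdeal.ResidueField ⊗[R] M) = 2 * m + 1 := by
    rw [Module.finrank_eq_card_basis (b.baseChange p.asIdeal.ResidueField), Fintype.card_fin]
  rw [(psiEquiv p.asIdeal.ResidueField Q).toLinearEquiv.finrank_eq,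
    finrank_even_of_field hs m hV, ← pow_mul, mul_comm]

/-! ### (a) -/

theorem exists_fppf_splitting {R : Type u} [CommRing R] {M : Type u} [AddCommGroup M]
    [Module R M] (m : ℕ) (b : Module.Basis (Fin (2 * m + 1)) R M)
    (Q : QuadraticForm R M) (hQ : QuadGrp.IsSemiregular b (LinearEquiv.refl R R) Q) :
    ∃ (R' : Type u) (_ : CommRing R') (_ : Algebra R R'), Module.FaithfullyFlat R R' ∧
      Algebra.FinitePresentation R R' ∧
      Nonempty ((R' ⊗[R] ↥(CliffordAlgebra.even Q)) ≃ₐ[R']
        Matrix (Fin (2 ^ m)) (Fin (2 ^ m)) R') := by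
  haveI := isAzumaya_even m b Q hQ
  obtain ⟨R', i1, i2, het, hff, hiso⟩ := Groth.Agent.H7.AzQE.exists_global_etale_splitting R
    ↥(CliffordAlgebra.even Q) (2 ^ m) (rankAtStalk_even m b Q hQ) (by positivity)
  exact ⟨R', i1, i2, hff, Algebra.Etale.finitePresentation, hiso⟩

/-! ### (d) -/

theorem exists_isCompl_range_ι [Module.Free R M] (Q : QuadraticForm R M) :
    ∃ W : Submodule R (CliffordAlgebra Q), IsCompl (LinearMap.range (ι Q)) W := by
  obtain ⟨β, hβ⟩ := LinearMap.BilinMap.toQuadraticMap_surjective Q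
  let ρ : CliffordAlgebra Q →ₗ[R] M := ExteriorAlgebra.ιInv ∘ₗ (changeForm (neg_proof hβ))
  have hρ : ∀ x, ρ (ι Q x) = x := by
    intro x
    change ExteriorAlgebra.ιInv (changeForm (neg_proof hβ) (ι Q x)) = x
    rw [changeForm_ι]
    exact ExteriorAlgebra.ι_leftInverse x
  let f : CliffordAlgebra Q →ₗ[R] LinearMap.range (ι Q) := (ι Q).rangeRestrict ∘ₗ ρ
  refine ⟨LinearMap.ker f, LinearMap.isCompl_of_proj (f := f) ?_⟩
  rintro ⟨_, x, rfl⟩
  apply Subtype.ext
  change ι Q (ρ (ι Q x)) = ι Q x
  rw [hρ]

/-! ### units -/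

theorem isUnit_of_isUnit_algebraMap [Module.Free R M] (Q : QuadraticForm R M) {t : R}
    (h : IsUnit (algebraMap R (CliffordAlgebra Q) t)) : IsUnit t := by
  obtain ⟨β, hβ⟩ := LinearMap.BilinMap.toQuadraticMap_surjective Q
  obtain ⟨w, hw⟩ := h.exists_right_inv
  have e1 : ExteriorAlgebra.algebraMapInv (changeForm (neg_proof hβ) (algebraMap R _ t * w)) =
      t * ExteriorAlgebra.algebraMapInv (changeForm (neg_proof hβ) w) := by
    rw [← Algebra.smul_def, map_smul, map_smul, smul_eq_mul]
  have e2 : ExteriorAlgebra.algebraMapInv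
      (changeForm (neg_proof hβ) (1 : CliffordAlgebra Q)) = 1 := by
    rw [← map_one (algebraMap R (CliffordAlgebra Q)), changeForm_algebraMap]
    exact ExteriorAlgebra.algebraMap_leftInverse M 1
  rw [hw, e2] at e1
  exact IsUnit.of_mul_eq_one _ e1.symm

/-! ### (b) -/

theorem even_central_scalar (m : ℕ) (b : Module.Basis (Fin (2 * m + 1)) R M)
    (Q : QuadraticForm R M) (hQ : QuadGrp.IsSemiregular b (LinearEquiv.refl R R) Q)
    {a : CliffordAlgebra Q} (hac : ∀ x, a * ι Q x = ι Q x * a) (ha0 : a ∈ evenOdd Q 0) :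
    ∃ r : R, algebraMap R (CliffordAlgebra Q) r = a := by
  haveI : Module.Free R M := Module.Free.of_basis b
  haveI : Module.Finite R M := Module.Finite.of_basis b
  let I : Ideal R := Submodule.comap (LinearMap.toSpanSingleton R (CliffordAlgebra Q) a)
    (LinearMap.range (Algebra.linearMap R (CliffordAlgebra Q)))
  have hI : ∀ t, t ∈ I ↔ ∃ r, algebraMap R (CliffordAlgebra Q) r = t • a := by
    intro t
    rw [Submodule.mem_comap, LinearMap.mem_range, LinearMap.toSpanSingleton_apply]
    rfl
  have htop : I = ⊤ := by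
    by_contra hne
    obtain ⟨p, hp, hle⟩ := Ideal.exists_le_maximal _ hne
    haveI := hp
    have hQA := isSemiregular_baseChange (Localization.AtPrime p) b Q hQ
    obtain ⟨x₀, φ₀, hs⟩ := exists_oddSplit m (Localization.AtPrime p ⊗[R] M)
      (QuadGrp.baseChangeForm (Localization.AtPrime p) Q) (2 * m + 1) rfl
      (b.baseChange (Localization.AtPrime p)) hQA
    obtain ⟨r', hr'⟩ := OddGood.scalar_of_even_comm (b.baseChange (Localization.AtPrime p)) hs
      (toBC_mem_even (Localization.AtPrime p) Q ha0) (toBC_comm_ι (Localization.AtPrime p) Q hac)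
    obtain ⟨⟨r, s⟩, hrs⟩ := IsLocalization.surj p.primeCompl r'
    have e1 : toBC (Localization.AtPrime p) Q ((s : R) • a) =
        algebraMap (Localization.AtPrime p) _ (algebraMap R (Localization.AtPrime p) (s : R) * r') := by
      rw [map_smul, ← hr', ← algebraMap_smul (Localization.AtPrime p) (s : R), Algebra.smul_def,
        ← map_mul]
    have e2 : toBC (Localization.AtPrime p) Q (algebraMap R _ r) =
        algebraMap (Localization.AtPrime p) _ (algebraMap R (Localization.AtPrime p) r) := by
      rw [AlgHom.commutes, IsScalarTower.algebraMap_apply R (Localization.AtPrime p)]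
    have h0 : toBC (Localization.AtPrime p) Q ((s : R) • a - algebraMap R _ r) = 0 := by
      rw [map_sub, e1, e2, ← hrs, mul_comm (algebraMap R (Localization.AtPrime p) (s : R)) r',
        sub_self]
    obtain ⟨t, ht, htz⟩ := exists_smul_eq_zero_of_toBC_eq_zero p.primeCompl _ Q h0
    have hmem : t * (s : R) ∈ I := (hI _).mpr ⟨t * r, by
      rw [smul_sub, sub_eq_zero] at htz
      rw [mul_smul, htz, Algebra.smul_def, ← map_mul]⟩
    rcases hp.isPrime.mem_or_mem (hle hmem) with h | h
    · exact ht h
    · exact s.2 h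
  obtain ⟨r, hr⟩ := (hI 1).mp (by rw [htop]; trivial)
  exact ⟨r, by rw [hr, one_smul]⟩

/-! ### lifting central odd elements -/

theorem exists_central_odd_lift [Module.Free R M] (S : Submonoid R) (A : Type u) [CommRing A]
    [Algebra R A] [IsLocalization S A] (Q : QuadraticForm R M) {n : ℕ}
    (b : Module.Basis (Fin n) R M)
    {w : CliffordAlgebra (QuadGrp.baseChangeForm A Q)}
    (hw : w ∈ evenOdd (QuadGrp.baseChangeForm A Q) 1)
    (hwc : ∀ x, w * ι (QuadGrp.baseChangeForm A Q) x = ι (QuadGrp.baseChangeForm A Q) x * w) :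
    ∃ z ∈ evenOdd Q 1, (∀ x, z * ι Q x = ι Q x * z) ∧
      ∃ s ∈ S, toBC A Q z = algebraMap R A s • w := by
  classical
  obtain ⟨c, hc, s, hs, h⟩ := exists_toBC_eq_smul_odd S A Q hw
  have h1 : ∀ i, ∃ t ∈ S, t • (c * ι Q (b i) - ι Q (b i) * c) = 0 := by
    intro i
    apply exists_smul_eq_zero_of_toBC_eq_zero S A Q
    rw [map_sub, map_mul, map_mul, h, toBC_ι, smul_mul_assoc, mul_smul_comm, hwc, sub_self]
  choose t ht htz using h1
  have hT : (∏ i, t i) ∈ S := Submonoid.prod_mem _ (fun i _ => ht i)
  have hTz : ∀ i, (∏ i, t i) • (c * ι Q (b i) - ι Q (b i) * c) = 0 := by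
    intro i
    obtain ⟨r, hr⟩ : t i ∣ ∏ i, t i := Finset.dvd_prod_of_mem t (Finset.mem_univ i)
    rw [hr, mul_comm, mul_smul, htz, smul_zero]
  refine ⟨(∏ i, t i) • c, Submodule.smul_mem _ _ hc, ?_, (∏ i, t i) * s, S.mul_mem hT hs, ?_⟩
  · intro x
    have hb : ∀ i, ((∏ i, t i) • c) * ι Q (b i) = ι Q (b i) * ((∏ i, t i) • c) := by
      intro i
      have := hTz i
      rw [smul_sub, sub_eq_zero] at this
      rw [smul_mul_assoc, mul_smul_comm, this]
    have hlin : (LinearMap.mulLeft R ((∏ i, t i) • c)).comp (ι Q) =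
        (LinearMap.mulRight R ((∏ i, t i) • c)).comp (ι Q) := b.ext hb
    exact LinearMap.congr_fun hlin x
  · rw [map_smul, h, map_mul, mul_smul]
    exact (algebraMap_smul A (∏ i, t i) _).symm

/-! ### a partition of unity by squares of central odd elements -/

theorem exists_odd_central_family (m : ℕ) (b : Module.Basis (Fin (2 * m + 1)) R M)
    (Q : QuadraticForm R M) (hQ : QuadGrp.IsSemiregular b (LinearEquiv.refl R R) Q) :
    ∃ (n : ℕ) (f : Fin n → R) (w : Fin n → CliffordAlgebra Q),
      (∀ j x, w j * ι Q x = ι Q x * w j) ∧ (∀ j, w j ∈ evenOdd Q 1) ∧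
      ∑ j, f j • (w j * w j) = 1 := by
  haveI : Module.Free R M := Module.Free.of_basis b
  haveI : Module.Finite R M := Module.Finite.of_basis b
  let S : Set R := {r | ∃ w : CliffordAlgebra Q, (∀ x, w * ι Q x = ι Q x * w) ∧
    w ∈ evenOdd Q 1 ∧ w * w = algebraMap R _ r}
  have htop : Ideal.span S = ⊤ := by
    by_contra hne
    obtain ⟨p, hp, hle⟩ := Ideal.exists_le_maximal _ hne
    haveI := hp
    have hQA := isSemiregular_baseChange (Localization.AtPrime p) b Q hQ
    obtain ⟨zp, hzpc, hzp1, hzpu, ⟨tp, htp⟩, -, -⟩ := center_odd m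
      (b.baseChange (Localization.AtPrime p)) (QuadGrp.baseChangeForm (Localization.AtPrime p) Q)
      hQA
    have hzpc' : ∀ x, zp * ι (QuadGrp.baseChangeForm (Localization.AtPrime p) Q) x =
        ι (QuadGrp.baseChangeForm (Localization.AtPrime p) Q) x * zp :=
      fun x => ((Subalgebra.mem_center_iff.mp hzpc) _).symm
    obtain ⟨w, hw1, hwc, s, hs, hws⟩ :=
      exists_central_odd_lift p.primeCompl (Localization.AtPrime p) Q b hzp1 hzpc'
    have hww0 : w * w ∈ evenOdd Q 0 := by
      have := SetLike.mul_mem_graded hw1 hw1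
      rwa [show (1 : ZMod 2) + 1 = 0 from rfl] at this
    obtain ⟨r, hr⟩ := even_central_scalar m b Q hQ (a := w * w)
      (fun x => by rw [mul_assoc, hwc, ← mul_assoc, hwc, mul_assoc]) hww0
    have hrS : r ∈ S := ⟨w, hwc, hw1, hr.symm⟩
    have hrp : r ∈ p := hle (Ideal.subset_span hrS)
    have h1 : algebraMap (Localization.AtPrime p)
        (CliffordAlgebra (QuadGrp.baseChangeForm (Localization.AtPrime p) Q))
          (algebraMap R (Localization.AtPrime p) r) =
        algebraMap (Localization.AtPrime p) _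
          (algebraMap R (Localization.AtPrime p) s * algebraMap R (Localization.AtPrime p) s *
            tp) := by
      calc algebraMap (Localization.AtPrime p)
            (CliffordAlgebra (QuadGrp.baseChangeForm (Localization.AtPrime p) Q))
            (algebraMap R (Localization.AtPrime p) r)
          = toBC (Localization.AtPrime p) Q (algebraMap R _ r) := by
            rw [AlgHom.commutes]
            exact (IsScalarTower.algebraMap_apply R (Localization.AtPrime p) _ r).symm
        _ = toBC (Localization.AtPrime p) Q (w * w) := by rw [hr]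
        _ = (algebraMap R (Localization.AtPrime p) s • zp) *
              (algebraMap R (Localization.AtPrime p) s • zp) := by rw [map_mul, hws]
        _ = (algebraMap R (Localization.AtPrime p) s * algebraMap R (Localization.AtPrime p) s) •
              (zp * zp) := smul_mul_smul_comm _ _ _ _
        _ = _ := by rw [← htp, Algebra.smul_def, ← map_mul]
    have h2 := QG.algebraMap_injective (QuadGrp.baseChangeForm (Localization.AtPrime p) Q) h1
    have htpu : IsUnit tp :=
      isUnit_of_isUnit_algebraMap (QuadGrp.baseChangeForm (Localization.AtPrime p) Q)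
        (by rw [htp]; exact hzpu.mul hzpu)
    have hσu : IsUnit (algebraMap R (Localization.AtPrime p) s) :=
      IsLocalization.map_units (Localization.AtPrime p) (⟨s, hs⟩ : p.primeCompl)
    have hru : IsUnit (algebraMap R (Localization.AtPrime p) r) := by
      rw [h2]; exact (hσu.mul hσu).mul htpu
    exact ((IsLocalization.AtPrime.isUnit_to_map_iff (Localization.AtPrime p) p r).mp hru) hrp
  have h1 : (1 : R) ∈ Ideal.span S := by rw [htop]; trivial
  obtain ⟨n, f, g, hfg⟩ := Submodule.mem_span_set'.mp h1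
  choose w hwc hw1 hww using fun j => (g j).2
  refine ⟨n, f, w, hwc, hw1, ?_⟩
  rw [← map_one (algebraMap R (CliffordAlgebra Q)), ← hfg, map_sum]
  refine Finset.sum_congr rfl (fun j _ => ?_)
  rw [hww, smul_eq_mul, map_mul, Algebra.smul_def]

end Groth.Agent.H9.QO
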