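import Mathlib
import Groth.Agent.Lib.Helper9.Misc.QO8

/-! Odd rank over an arbitrary base: `Z ⊗ C₀ ≃ C` (helper9). -/

set_option autoImplicit false

open CliffordAlgebra QuadraticMap TensorProduct Groth.Agent.H9.QG

namespace Groth.Agent.H9.QO

universe u v

variable {R : Type u} [CommRing R] {M : Type v} [AddCommGroup M] [Module R M]

/-! ### more on the projections -/

section Proj

variable (Q : QuadraticForm R M)

theorem e₁_of_mem {a : CliffordAlgebra Q} (ha : a ∈ evenOdd Q 1) : e₁ Q a = a := by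
  rw [e₁, ← Submodule.coe_projectionOnto_apply, Submodule.projectionOnto_apply_of_mem_left _ ha]

theorem e₀_of_mem_odd {a : CliffordAlgebra Q} (ha : a ∈ evenOdd Q 1) : e₀ Q a = 0 := by
  have h := e₀_add_e₁ Q a
  rw [e₁_of_mem Q ha] at h
  have := congrArg (fun x => x - a) h
  simpa using this

theorem e₁_of_mem_even {a : CliffordAlgebra Q} (ha : a ∈ evenOdd Q 0) : e₁ Q a = 0 := by
  have h := e₀_add_e₁ Q a
  rw [e₀_of_mem Q ha] at h
  have := congrArg (fun x => x - a) h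
  simpa using this

theorem e₀_add {a₀ a₁ : CliffordAlgebra Q} (h₀ : a₀ ∈ evenOdd Q 0) (h₁ : a₁ ∈ evenOdd Q 1) :
    e₀ Q (a₀ + a₁) = a₀ := by
  rw [map_add, e₀_of_mem Q h₀, e₀_of_mem_odd Q h₁, add_zero]

theorem e₁_add {a₀ a₁ : CliffordAlgebra Q} (h₀ : a₀ ∈ evenOdd Q 0) (h₁ : a₁ ∈ evenOdd Q 1) :
    e₁ Q (a₀ + a₁) = a₁ := by
  rw [map_add, e₁_of_mem_even Q h₀, e₁_of_mem Q h₁, zero_add]

/-- the multiplication map `Z ⊗ C₀ → C` -/
noncomputable def mu :
    ↥(Subalgebra.center R (CliffordAlgebra Q)) ⊗[R] ↥(CliffordAlgebra.even Q) →ₗ[R]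
      CliffordAlgebra Q :=
  TensorProduct.lift
    (((LinearMap.mul R (CliffordAlgebra Q)).comp
      (Subalgebra.center R (CliffordAlgebra Q)).val.toLinearMap).compl₂
      (CliffordAlgebra.even Q).val.toLinearMap)

theorem mu_tmul (ζ : ↥(Subalgebra.center R (CliffordAlgebra Q)))
    (a : ↥(CliffordAlgebra.even Q)) :
    mu Q (ζ ⊗ₜ a) = (ζ : CliffordAlgebra Q) * (a : CliffordAlgebra Q) := by
  rw [mu, TensorProduct.lift.tmul]; rfl

end Proj

section Nu

variable {Q : QuadraticForm R M} {n : ℕ} (f : Fin n → R) (w : Fin n → CliffordAlgebra Q)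
  (hwc : ∀ j x, w j * ι Q x = ι Q x * w j) (hw1 : ∀ j, w j ∈ evenOdd Q 1)

/-- the central elements of the family -/
def zeta (j : Fin n) : ↥(Subalgebra.center R (CliffordAlgebra Q)) :=
  ⟨w j, Subalgebra.mem_center_iff.mpr (fun c => (central_of_comm_ι (hwc j) c).symm)⟩

theorem zeta_coe (j : Fin n) : (zeta w hwc j : CliffordAlgebra Q) = w j := rfl

/-- `a ↦ w_j * a₁` as a map to the even subalgebra -/
noncomputable def lam (j : Fin n) : CliffordAlgebra Q →ₗ[R] ↥(CliffordAlgebra.even Q) :=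
  ((LinearMap.mulLeft R (w j)).comp (e₁ Q)).codRestrict
    (Subalgebra.toSubmodule (CliffordAlgebra.even Q))
    (fun a => by
      have := SetLike.mul_mem_graded (hw1 j) (e₁_mem Q a)
      rwa [show (1 : ZMod 2) + 1 = 0 from rfl] at this)

theorem lam_coe (j : Fin n) (a : CliffordAlgebra Q) :
    (lam w hw1 j a : CliffordAlgebra Q) = w j * e₁ Q a := rfl

/-- the inverse of the multiplication map -/
noncomputable def nu : CliffordAlgebra Q →ₗ[R]
    ↥(Subalgebra.center R (CliffordAlgebra Q)) ⊗[R] ↥(CliffordAlgebra.even Q) :=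
  (TensorProduct.mk R ↥(Subalgebra.center R (CliffordAlgebra Q)) ↥(CliffordAlgebra.even Q) 1).comp
      (evenProj Q) +
    ∑ j, f j • (TensorProduct.mk R ↥(Subalgebra.center R (CliffordAlgebra Q))
      ↥(CliffordAlgebra.even Q) (zeta w hwc j)).comp (lam w hw1 j)

theorem nu_apply (a : CliffordAlgebra Q) :
    nu f w hwc hw1 a = (1 : ↥(Subalgebra.center R (CliffordAlgebra Q))) ⊗ₜ evenProj Q a +
      ∑ j, f j • (zeta w hwc j ⊗ₜ[R] lam w hw1 j a) := by
  simp only [nu, LinearMap.add_apply, LinearMap.sum_apply, LinearMap.smul_apply,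
    LinearMap.comp_apply, TensorProduct.mk_apply]

theorem mu_nu (hsum : ∑ j, f j • (w j * w j) = 1) (a : CliffordAlgebra Q) :
    mu Q (nu f w hwc hw1 a) = a := by
  rw [nu_apply, map_add, map_sum, mu_tmul]
  simp only [map_smul, mu_tmul]
  have h1 : ∀ j, f j • ((zeta w hwc j : CliffordAlgebra Q) * (lam w hw1 j a : CliffordAlgebra Q)) =
      (f j • (w j * w j)) * e₁ Q a := by
    intro j
    rw [zeta_coe, lam_coe, smul_mul_assoc, mul_assoc]
  rw [Finset.sum_congr rfl (fun j _ => h1 j), ← Finset.sum_mul, hsum, one_mul, evenProj_coe,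
    OneMemClass.coe_one, one_mul, e₀_add_e₁]

theorem nu_mu_tmul (m : ℕ) (b : Module.Basis (Fin (2 * m + 1)) R M)
    (hQ : QuadGrp.IsSemiregular b (LinearEquiv.refl R R) Q)
    (hsum : ∑ j, f j • (w j * w j) = 1)
    (ζ : ↥(Subalgebra.center R (CliffordAlgebra Q))) (a : ↥(CliffordAlgebra.even Q)) :
    nu f w hwc hw1 (mu Q (ζ ⊗ₜ a)) = ζ ⊗ₜ a := by
  rw [mu_tmul, nu_apply]
  obtain ⟨ζ₀, h₀, ζ₁, h₁, hζ⟩ := exists_even_add_odd (ζ : CliffordAlgebra Q)
  have hζc : ∀ x, (ζ₀ + ζ₁) * ι Q x = ι Q x * (ζ₀ + ζ₁) := by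
    intro x; rw [hζ]; exact ((Subalgebra.mem_center_iff.mp ζ.2) (ι Q x)).symm
  have hc₀ := fun x => (central_parts h₀ h₁ hζc x).1
  have hc₁ := fun x => (central_parts h₀ h₁ hζc x).2
  obtain ⟨r₀, hr₀⟩ := even_central_scalar m b Q hQ hc₀ h₀
  have hρ' : ∀ j, ∃ ρ : R, algebraMap R (CliffordAlgebra Q) ρ = w j * ζ₁ := by
    intro j
    apply even_central_scalar m b Q hQ
    · intro x; rw [mul_assoc, hc₁, ← mul_assoc, hwc, mul_assoc]
    · have := SetLike.mul_mem_graded (hw1 j) h₁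
      rwa [show (1 : ZMod 2) + 1 = 0 from rfl] at this
  choose ρ hρ using hρ'
  have h00 : ζ₀ * (a : CliffordAlgebra Q) ∈ evenOdd Q 0 := by
    have := SetLike.mul_mem_graded h₀ a.2
    rwa [add_zero] at this
  have h10 : ζ₁ * (a : CliffordAlgebra Q) ∈ evenOdd Q 1 := by
    have := SetLike.mul_mem_graded h₁ a.2
    rwa [add_zero] at this
  have hi : evenProj Q ((ζ : CliffordAlgebra Q) * (a : CliffordAlgebra Q)) = r₀ • a := by
    apply Subtype.ext
    rw [evenProj_coe, ← hζ, add_mul, e₀_add Q h00 h10, ← hr₀, ← Algebra.smul_def]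
    rfl
  have hii : ∀ j, lam w hw1 j ((ζ : CliffordAlgebra Q) * (a : CliffordAlgebra Q)) = ρ j • a := by
    intro j
    apply Subtype.ext
    rw [lam_coe, ← hζ, add_mul, e₁_add Q h00 h10, ← mul_assoc, ← hρ j, ← Algebra.smul_def]
    rfl
  have hζ₁ : ζ₁ = ∑ j, (f j * ρ j) • w j := by
    calc ζ₁ = (∑ j, f j • (w j * w j)) * ζ₁ := by rw [hsum, one_mul]
      _ = ∑ j, (f j * ρ j) • w j := by
        rw [Finset.sum_mul]
        refine Finset.sum_congr rfl (fun j _ => ?_)
        rw [smul_mul_assoc, mul_assoc, ← hρ j, ← Algebra.commutes, ← Algebra.smul_def, smul_smul]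
  have hiii : ζ = r₀ • (1 : ↥(Subalgebra.center R (CliffordAlgebra Q))) +
      ∑ j, (f j * ρ j) • zeta w hwc j := by
    apply Subtype.ext
    simp only [Subalgebra.coe_add, Subalgebra.coe_smul, Subalgebra.coe_one,
      AddSubmonoidClass.coe_finset_sum, zeta_coe]
    rw [← hζ, ← hζ₁, ← hr₀, Algebra.algebraMap_eq_smul_one]
  rw [hi]
  simp only [hii]
  conv_rhs => rw [hiii]
  simp only [TensorProduct.add_tmul, TensorProduct.sum_tmul, TensorProduct.tmul_smul,
    ← TensorProduct.smul_tmul', smul_smul]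

end Nu

theorem mu_bijective (m : ℕ) (b : Module.Basis (Fin (2 * m + 1)) R M) (Q : QuadraticForm R M)
    (hQ : QuadGrp.IsSemiregular b (LinearEquiv.refl R R) Q) : Function.Bijective (mu Q) := by
  obtain ⟨n, f, w, hwc, hw1, hsum⟩ := exists_odd_central_family m b Q hQ
  refine Function.bijective_iff_has_inverse.mpr ⟨nu f w hwc hw1, ?_, ?_⟩
  · intro T
    have : (nu f w hwc hw1).comp (mu Q) = LinearMap.id :=
      TensorProduct.ext' (fun ζ a => nu_mu_tmul f w hwc hw1 m b hQ hsum ζ a)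
    exact LinearMap.congr_fun this T
  · intro a
    exact mu_nu f w hwc hw1 hsum a

/-- **S16998** -/
theorem clifford_odd_structure {R : Type u} [CommRing R] {M : Type u} [AddCommGroup M]
    [Module R M] (m : ℕ) (b : Module.Basis (Fin (2 * m + 1)) R M) (Q : QuadraticForm R M)
    (hQ : QuadGrp.IsSemiregular b (LinearEquiv.refl R R) Q) :
    (∃ (R' : Type u) (_ : CommRing R') (_ : Algebra R R'), Module.FaithfullyFlat R R' ∧ Algebra.FinitePresentation R R' ∧
        Nonempty ((R' ⊗[R] ↥(CliffordAlgebra.even Q)) ≃ₐ[R'] Matrix (Fin (2 ^ m)) (Fin (2 ^ m)) R')) ∧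
    (∀ z ∈ Subalgebra.center R (CliffordAlgebra Q), z ∈ CliffordAlgebra.evenOdd Q 0 →
        z ∈ (algebraMap R (CliffordAlgebra Q)).range) ∧
    Function.Bijective (TensorProduct.lift
        (((LinearMap.mul R (CliffordAlgebra Q)).comp (Subalgebra.center R (CliffordAlgebra Q)).val.toLinearMap).compl₂
          (CliffordAlgebra.even Q).val.toLinearMap)) ∧
    (Function.Injective (CliffordAlgebra.ι Q) ∧
      ∃ W : Submodule R (CliffordAlgebra Q), IsCompl (LinearMap.range (CliffordAlgebra.ι Q)) W) := by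
  haveI : Module.Free R M := Module.Free.of_basis b
  refine ⟨exists_fppf_splitting m b Q hQ, ?_, mu_bijective m b Q hQ, QG.ι_injective Q,
    exists_isCompl_range_ι Q⟩
  intro z hz hz0
  obtain ⟨r, hr⟩ := even_central_scalar m b Q hQ
    (fun x => ((Subalgebra.mem_center_iff.mp hz) (ι Q x)).symm) hz0
  exact RingHom.mem_range.mpr ⟨r, hr⟩

end Groth.Agent.H9.QO
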