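import Mathlib
import Groth.Agent.Lib.Helper9.Misc.QO9
import Groth.Agent.Lib.Helper9.Misc.QG12
import Groth.Agent.Lib.Helper7.LG.AzSep

/-! The centre of the even Clifford algebra is a direct summand of the even Clifford algebra
(helper9). -/

set_option autoImplicit false

open CliffordAlgebra QuadraticMap TensorProduct MulOpposite Groth.Agent.H9.QG Groth.Agent.H9.QO

namespace Groth.Agent.H9.CE

universe u v

variable {R : Type u} [CommRing R] {M : Type v} [AddCommGroup M] [Module R M]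

section Parity

variable (Q : QuadraticForm R M)

theorem mul_mem_00 {a b : CliffordAlgebra Q} (ha : a ∈ evenOdd Q 0) (hb : b ∈ evenOdd Q 0) :
    a * b ∈ evenOdd Q 0 := by
  have := SetLike.mul_mem_graded ha hb
  rwa [show (0 : ZMod 2) + 0 = 0 from rfl] at this

theorem mul_mem_01 {a b : CliffordAlgebra Q} (ha : a ∈ evenOdd Q 0) (hb : b ∈ evenOdd Q 1) :
    a * b ∈ evenOdd Q 1 := by
  have := SetLike.mul_mem_graded ha hb
  rwa [show (0 : ZMod 2) + 1 = 1 from rfl] at this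

theorem mul_mem_10 {a b : CliffordAlgebra Q} (ha : a ∈ evenOdd Q 1) (hb : b ∈ evenOdd Q 0) :
    a * b ∈ evenOdd Q 1 := by
  have := SetLike.mul_mem_graded ha hb
  rwa [show (1 : ZMod 2) + 0 = 1 from rfl] at this

theorem mul_mem_11 {a b : CliffordAlgebra Q} (ha : a ∈ evenOdd Q 1) (hb : b ∈ evenOdd Q 1) :
    a * b ∈ evenOdd Q 0 := by
  have := SetLike.mul_mem_graded ha hb
  rwa [show (1 : ZMod 2) + 1 = 0 from rfl] at this

theorem mul_decomp (x y : CliffordAlgebra Q) :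
    x * y = (e₀ Q x * e₀ Q y + e₁ Q x * e₁ Q y) + (e₀ Q x * e₁ Q y + e₁ Q x * e₀ Q y) := by
  have hx := e₀_add_e₁ Q x
  have hy := e₀_add_e₁ Q y
  calc x * y = (e₀ Q x + e₁ Q x) * (e₀ Q y + e₁ Q y) := by rw [hx, hy]
    _ = _ := by rw [mul_add, add_mul, add_mul]; abel

theorem e₀_mul (x y : CliffordAlgebra Q) :
    e₀ Q (x * y) = e₀ Q x * e₀ Q y + e₁ Q x * e₁ Q y :=
  (congrArg (e₀ Q) (mul_decomp Q x y)).trans
    (e₀_add Q (add_mem (mul_mem_00 Q (e₀_mem Q x) (e₀_mem Q y))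
      (mul_mem_11 Q (e₁_mem Q x) (e₁_mem Q y)))
      (add_mem (mul_mem_01 Q (e₀_mem Q x) (e₁_mem Q y))
        (mul_mem_10 Q (e₁_mem Q x) (e₀_mem Q y))))

theorem e₁_mul (x y : CliffordAlgebra Q) :
    e₁ Q (x * y) = e₀ Q x * e₁ Q y + e₁ Q x * e₀ Q y :=
  (congrArg (e₁ Q) (mul_decomp Q x y)).trans
    (e₁_add Q (add_mem (mul_mem_00 Q (e₀_mem Q x) (e₀_mem Q y))
      (mul_mem_11 Q (e₁_mem Q x) (e₁_mem Q y)))
      (add_mem (mul_mem_01 Q (e₀_mem Q x) (e₁_mem Q y))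
        (mul_mem_10 Q (e₁_mem Q x) (e₀_mem Q y))))

theorem e₀_even_mul {c : CliffordAlgebra Q} (hc : c ∈ evenOdd Q 0) (x : CliffordAlgebra Q) :
    e₀ Q (c * x) = c * e₀ Q x := by
  rw [e₀_mul, e₀_of_mem Q hc, e₁_of_mem_even Q hc, zero_mul, add_zero]

theorem e₁_even_mul {c : CliffordAlgebra Q} (hc : c ∈ evenOdd Q 0) (x : CliffordAlgebra Q) :
    e₁ Q (c * x) = c * e₁ Q x := by
  rw [e₁_mul, e₀_of_mem Q hc, e₁_of_mem_even Q hc, zero_mul, add_zero]

theorem e₀_mul_even {c : CliffordAlgebra Q} (hc : c ∈ evenOdd Q 0) (x : CliffordAlgebra Q) :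
    e₀ Q (x * c) = e₀ Q x * c := by
  rw [e₀_mul, e₀_of_mem Q hc, e₁_of_mem_even Q hc, mul_zero, add_zero]

theorem e₁_mul_even {c : CliffordAlgebra Q} (hc : c ∈ evenOdd Q 0) (x : CliffordAlgebra Q) :
    e₁ Q (x * c) = e₁ Q x * c := by
  rw [e₁_mul, e₀_of_mem Q hc, e₁_of_mem_even Q hc, mul_zero, zero_add]

/-- `z` is even and commutes with all even elements -/
def IsZ (z : CliffordAlgebra Q) : Prop :=
  z ∈ evenOdd Q 0 ∧ ∀ c ∈ evenOdd Q 0, c * z = z * c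

/-- the submodule of even elements commuting with all even elements -/
def Zsub : Submodule R (CliffordAlgebra Q) where
  carrier := {z | IsZ Q z}
  add_mem' := fun {a b} ha hb => ⟨add_mem ha.1 hb.1, fun c hc => by
    rw [mul_add, add_mul, ha.2 c hc, hb.2 c hc]⟩
  zero_mem' := ⟨zero_mem _, fun c _ => by rw [mul_zero, zero_mul]⟩
  smul_mem' := fun r a ha => ⟨Submodule.smul_mem _ r ha.1, fun c hc => by
    rw [mul_smul_comm, smul_mul_assoc, ha.2 c hc]⟩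

theorem mem_Zsub {z : CliffordAlgebra Q} : z ∈ Zsub Q ↔ IsZ Q z := Iff.rfl

theorem mem_center_iff_isZ (z : ↥(CliffordAlgebra.even Q)) :
    z ∈ Subalgebra.center R ↥(CliffordAlgebra.even Q) ↔ IsZ Q (z : CliffordAlgebra Q) := by
  rw [Subalgebra.mem_center_iff]
  constructor
  · intro h
    exact ⟨z.2, fun c hc => congrArg Subtype.val (h ⟨c, hc⟩)⟩
  · intro h b
    exact Subtype.ext (h.2 b.1 b.2)

theorem conj_even {b : CliffordAlgebra Q} (hb : b ∈ evenOdd Q 0) (x : M) :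
    ι Q x * b * ι Q x ∈ evenOdd Q 0 :=
  mul_mem_11 Q (mul_mem_10 Q (ι_mem_evenOdd_one Q x) hb) (ι_mem_evenOdd_one Q x)

end Parity

section Sep

variable {Q : QuadraticForm R M}
variable (S : Finset (CliffordAlgebra Q × (CliffordAlgebra Q)ᵐᵒᵖ))

/-- the bilinear evaluation `x ⊗ y ↦ f x * b * f y` -/
noncomputable def Lmap (f : CliffordAlgebra Q →ₗ[R] CliffordAlgebra Q) (b : CliffordAlgebra Q) :
    CliffordAlgebra Q ⊗[R] (CliffordAlgebra Q)ᵐᵒᵖ →ₗ[R] CliffordAlgebra Q :=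
  TensorProduct.lift (LinearMap.mk₂ R
    (fun x (y : (CliffordAlgebra Q)ᵐᵒᵖ) => f x * b * f (unop y))
    (fun x x' y => by simp only [map_add, add_mul])
    (fun r x y => by simp only [map_smul, smul_mul_assoc])
    (fun x y y' => by simp only [unop_add, map_add, mul_add])
    (fun r x y => by simp only [unop_smul, map_smul, mul_smul_comm]))

theorem Lmap_tmul (f : CliffordAlgebra Q →ₗ[R] CliffordAlgebra Q) (b x : CliffordAlgebra Q)
    (y : (CliffordAlgebra Q)ᵐᵒᵖ) : Lmap f b (x ⊗ₜ[R] y) = f x * b * f (unop y) := by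
  simp only [Lmap, TensorProduct.lift.tmul, LinearMap.mk₂_apply]

/-- `b ↦ Σ f(xᵢ) b f(yᵢ)` -/
noncomputable def sig (f : CliffordAlgebra Q →ₗ[R] CliffordAlgebra Q) :
    CliffordAlgebra Q →ₗ[R] CliffordAlgebra Q :=
  ∑ i ∈ S, (LinearMap.mulLeft R (f i.1)).comp (LinearMap.mulRight R (f (unop i.2)))

theorem sig_apply (f : CliffordAlgebra Q →ₗ[R] CliffordAlgebra Q) (b : CliffordAlgebra Q) :
    sig S f b = ∑ i ∈ S, f i.1 * b * f (unop i.2) := by
  simp only [sig, LinearMap.sum_apply, LinearMap.comp_apply, LinearMap.mulLeft_apply,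
    LinearMap.mulRight_apply, mul_assoc]

variable (hone : ∑ i ∈ S, i.1 * unop i.2 = 1)
  (hsep : ∀ c : CliffordAlgebra Q,
    ∑ i ∈ S, (c * i.1) ⊗ₜ[R] i.2 = ∑ i ∈ S, i.1 ⊗ₜ[R] (op c * i.2))

include hsep in
theorem key (f : CliffordAlgebra Q →ₗ[R] CliffordAlgebra Q) (b c : CliffordAlgebra Q) :
    ∑ i ∈ S, f (c * i.1) * b * f (unop i.2) = ∑ i ∈ S, f i.1 * b * f (unop i.2 * c) := by
  have := congrArg (Lmap f b) (hsep c)
  simpa only [map_sum, Lmap_tmul, unop_mul, unop_op] using this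

include hsep in
theorem sig_comm (f : CliffordAlgebra Q →ₗ[R] CliffordAlgebra Q)
    (hfl : ∀ c ∈ evenOdd Q 0, ∀ x, f (c * x) = c * f x)
    (hfr : ∀ c ∈ evenOdd Q 0, ∀ x, f (x * c) = f x * c)
    (b : CliffordAlgebra Q) {c : CliffordAlgebra Q} (hc : c ∈ evenOdd Q 0) :
    c * sig S f b = sig S f b * c := by
  rw [sig_apply, Finset.mul_sum, Finset.sum_mul]
  calc ∑ i ∈ S, c * (f i.1 * b * f (unop i.2))
      = ∑ i ∈ S, f (c * i.1) * b * f (unop i.2) := by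
        refine Finset.sum_congr rfl fun i _ => ?_
        rw [hfl c hc]
        simp only [mul_assoc]
    _ = ∑ i ∈ S, f i.1 * b * f (unop i.2 * c) := key S hsep f b c
    _ = ∑ i ∈ S, f i.1 * b * f (unop i.2) * c := by
        refine Finset.sum_congr rfl fun i _ => ?_
        rw [hfr c hc]
        simp only [mul_assoc]

theorem sig_mem_even (f : CliffordAlgebra Q →ₗ[R] CliffordAlgebra Q)
    (hfe : ∀ x y b, b ∈ evenOdd Q 0 → f x * b * f y ∈ evenOdd Q 0)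
    {b : CliffordAlgebra Q} (hb : b ∈ evenOdd Q 0) : sig S f b ∈ evenOdd Q 0 := by
  rw [sig_apply]
  exact Submodule.sum_mem _ fun i _ => hfe _ _ _ hb

include hsep in
theorem sig₀_isZ {b : CliffordAlgebra Q} (hb : b ∈ evenOdd Q 0) : IsZ Q (sig S (e₀ Q) b) :=
  ⟨sig_mem_even S (e₀ Q)
      (fun x y b hb => mul_mem_00 Q (mul_mem_00 Q (e₀_mem Q x) hb) (e₀_mem Q y)) hb,
    fun c hc => sig_comm S hsep (e₀ Q) (fun c hc x => e₀_even_mul Q hc x)
      (fun c hc x => e₀_mul_even Q hc x) b hc⟩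

include hsep in
theorem sig₁_isZ {b : CliffordAlgebra Q} (hb : b ∈ evenOdd Q 0) : IsZ Q (sig S (e₁ Q) b) :=
  ⟨sig_mem_even S (e₁ Q)
      (fun x y b hb => mul_mem_11 Q (mul_mem_10 Q (e₁_mem Q x) hb) (e₁_mem Q y)) hb,
    fun c hc => sig_comm S hsep (e₁ Q) (fun c hc x => e₁_even_mul Q hc x)
      (fun c hc x => e₁_mul_even Q hc x) b hc⟩

theorem sig₀_of_isZ {z : CliffordAlgebra Q} (hz : IsZ Q z) :
    sig S (e₀ Q) z = z * sig S (e₀ Q) 1 := by
  rw [sig_apply, sig_apply, Finset.mul_sum]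
  refine Finset.sum_congr rfl fun i _ => ?_
  rw [hz.2 _ (e₀_mem Q i.1), mul_one, mul_assoc]

theorem sig₁_conj {z : CliffordAlgebra Q} (hz : IsZ Q z) (x : M) :
    sig S (e₁ Q) (ι Q x * z * ι Q x) = Q x • (z * sig S (e₁ Q) 1) := by
  rw [sig_apply, sig_apply, Finset.mul_sum, Finset.smul_sum]
  refine Finset.sum_congr rfl fun i _ => ?_
  have h1 : e₁ Q i.1 * ι Q x ∈ evenOdd Q 0 :=
    mul_mem_11 Q (e₁_mem Q i.1) (ι_mem_evenOdd_one Q x)
  have h2 := hz.2 _ h1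
  calc e₁ Q i.1 * (ι Q x * z * ι Q x) * e₁ Q (unop i.2)
      = (e₁ Q i.1 * ι Q x * z) * (ι Q x * e₁ Q (unop i.2)) := by simp only [mul_assoc]
    _ = z * (e₁ Q i.1 * ι Q x) * (ι Q x * e₁ Q (unop i.2)) := by rw [h2]
    _ = z * (e₁ Q i.1 * (ι Q x * ι Q x) * e₁ Q (unop i.2)) := by simp only [mul_assoc]
    _ = Q x • (z * (e₁ Q i.1 * 1 * e₁ Q (unop i.2))) := by
        rw [ι_sq_scalar, Algebra.algebraMap_eq_smul_one]
        simp only [mul_smul_comm, smul_mul_assoc, mul_one]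

include hone in
theorem sig_one_add : sig S (e₀ Q) 1 + sig S (e₁ Q) 1 = 1 := by
  rw [sig_apply, sig_apply, ← Finset.sum_add_distrib]
  have h : ∀ i ∈ S, e₀ Q i.1 * 1 * e₀ Q (unop i.2) + e₁ Q i.1 * 1 * e₁ Q (unop i.2) =
      e₀ Q (i.1 * unop i.2) := by
    intro i _
    rw [mul_one, mul_one, e₀_mul]
  rw [Finset.sum_congr rfl h, ← map_sum, hone]
  exact e₀_of_mem Q (SetLike.one_mem_graded _)

variable (x₁ x₂ x₃ : M)

/-- `b ↦ ι x * b * ι x` -/
noncomputable def conjL (Q : QuadraticForm R M) (x : M) :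
    CliffordAlgebra Q →ₗ[R] CliffordAlgebra Q :=
  (LinearMap.mulLeft R (ι Q x)).comp (LinearMap.mulRight R (ι Q x))

theorem conjL_apply (x : M) (b : CliffordAlgebra Q) : conjL Q x b = ι Q x * b * ι Q x := by
  simp only [conjL, LinearMap.comp_apply, LinearMap.mulLeft_apply, LinearMap.mulRight_apply,
    mul_assoc]

/-- the retraction onto the centre of the even part -/
noncomputable def rho : CliffordAlgebra Q →ₗ[R] CliffordAlgebra Q :=
  sig S (e₀ Q) + (sig S (e₁ Q)).comp (conjL Q x₁) - (sig S (e₁ Q)).comp (conjL Q x₂) -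
    (sig S (e₁ Q)).comp (conjL Q x₃)

theorem rho_apply (b : CliffordAlgebra Q) :
    rho S x₁ x₂ x₃ b = sig S (e₀ Q) b + sig S (e₁ Q) (ι Q x₁ * b * ι Q x₁) -
      sig S (e₁ Q) (ι Q x₂ * b * ι Q x₂) - sig S (e₁ Q) (ι Q x₃ * b * ι Q x₃) := by
  simp only [rho, LinearMap.add_apply, LinearMap.sub_apply, LinearMap.comp_apply, conjL_apply]

include hsep in
theorem rho_isZ {b : CliffordAlgebra Q} (hb : b ∈ evenOdd Q 0) : IsZ Q (rho S x₁ x₂ x₃ b) := by
  rw [rho_apply]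
  exact (Zsub Q).sub_mem ((Zsub Q).sub_mem ((Zsub Q).add_mem (sig₀_isZ S hsep hb)
    (sig₁_isZ S hsep (conj_even Q hb x₁))) (sig₁_isZ S hsep (conj_even Q hb x₂)))
    (sig₁_isZ S hsep (conj_even Q hb x₃))

include hone in
theorem rho_of_isZ (hx : Q x₁ - Q x₂ - Q x₃ = 1) {z : CliffordAlgebra Q} (hz : IsZ Q z) :
    rho S x₁ x₂ x₃ z = z := by
  rw [rho_apply, sig₀_of_isZ S hz, sig₁_conj S hz, sig₁_conj S hz, sig₁_conj S hz]
  have h : z * sig S (e₀ Q) 1 + Q x₁ • (z * sig S (e₁ Q) 1) - Q x₂ • (z * sig S (e₁ Q) 1) -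
      Q x₃ • (z * sig S (e₁ Q) 1) =
      z * sig S (e₀ Q) 1 + (Q x₁ - Q x₂ - Q x₃) • (z * sig S (e₁ Q) 1) := by
    rw [sub_smul, sub_smul]; abel
  rw [h, hx, one_smul, ← mul_add, sig_one_add S hone, mul_one]

/-- the retraction as a map from the even subalgebra to its centre -/
noncomputable def rhoZ (hmem : ∀ b ∈ evenOdd Q 0, IsZ Q (rho S x₁ x₂ x₃ b)) :
    ↥(CliffordAlgebra.even Q) →ₗ[R] ↥(Subalgebra.center R ↥(CliffordAlgebra.even Q)) :=
  LinearMap.codRestrict (Subalgebra.toSubmodule (Subalgebra.center R ↥(CliffordAlgebra.even Q)))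
    (LinearMap.codRestrict (Subalgebra.toSubmodule (CliffordAlgebra.even Q))
      ((rho S x₁ x₂ x₃).comp (CliffordAlgebra.even Q).val.toLinearMap)
      (fun b => (hmem b.1 b.2).1))
    (fun b => (mem_center_iff_isZ Q _).mpr (hmem b.1 b.2))

theorem rhoZ_coe (hmem : ∀ b ∈ evenOdd Q 0, IsZ Q (rho S x₁ x₂ x₃ b))
    (b : ↥(CliffordAlgebra.even Q)) :
    ((rhoZ S x₁ x₂ x₃ hmem b : ↥(CliffordAlgebra.even Q)) : CliffordAlgebra Q) =
      rho S x₁ x₂ x₃ (b : CliffordAlgebra Q) := rfl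

end Sep

/-- a separability datum for an Azumaya Clifford algebra -/
theorem exists_sepData (Q : QuadraticForm R M) [IsAzumaya R (CliffordAlgebra Q)] :
    ∃ S : Finset (CliffordAlgebra Q × (CliffordAlgebra Q)ᵐᵒᵖ),
      ∑ i ∈ S, i.1 * unop i.2 = 1 ∧
      ∀ c : CliffordAlgebra Q,
        ∑ i ∈ S, (c * i.1) ⊗ₜ[R] i.2 = ∑ i ∈ S, i.1 ⊗ₜ[R] (op c * i.2) := by
  obtain ⟨ε, h1, h2⟩ := Groth.Agent.H7.LG.exists_sepElement R (CliffordAlgebra Q)
  obtain ⟨S, hS⟩ := TensorProduct.exists_finset ε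
  refine ⟨S, ?_, fun c => ?_⟩
  · rw [hS] at h1
    simpa only [map_sum, LinearMap.sum_apply, AlgHom.mulLeftRight_apply, mul_one] using h1
  · have := h2 c
    rw [hS, Finset.mul_sum, Finset.mul_sum] at this
    simpa only [Algebra.TensorProduct.tmul_mul_tmul, one_mul] using this

/-- the centre of the even Clifford algebra is a direct summand of the even Clifford algebra -/
theorem exists_retraction_center (Q : QuadraticForm R M) [IsAzumaya R (CliffordAlgebra Q)]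
    (x₁ x₂ x₃ : M) (hx : Q x₁ - Q x₂ - Q x₃ = 1) :
    ∃ ρ : ↥(CliffordAlgebra.even Q) →ₗ[R] ↥(Subalgebra.center R ↥(CliffordAlgebra.even Q)),
      ∀ z : ↥(Subalgebra.center R ↥(CliffordAlgebra.even Q)),
        ρ (z : ↥(CliffordAlgebra.even Q)) = z := by
  obtain ⟨S, hone, hsep⟩ := exists_sepData Q
  have hmem : ∀ b ∈ evenOdd Q 0, IsZ Q (rho S x₁ x₂ x₃ b) :=
    fun b hb => rho_isZ S hsep x₁ x₂ x₃ hb
  refine ⟨rhoZ S x₁ x₂ x₃ hmem, fun z => ?_⟩
  apply Subtype.ext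
  apply Subtype.ext
  rw [rhoZ_coe]
  exact rho_of_isZ S hone x₁ x₂ x₃ hx ((mem_center_iff_isZ Q _).mp z.2)

/-- a regular form on a nonzero free module represents `1` up to signs -/
theorem exists_three {n : ℕ} (b : Module.Basis (Fin n) R M) (hn : 0 < n) (Q : QuadraticForm R M)
    (hQ : QuadGrp.IsRegular Q) : ∃ x₁ x₂ x₃ : M, Q x₁ - Q x₂ - Q x₃ = 1 := by
  obtain ⟨w, hw⟩ := hQ.2 (b.coord ⟨0, hn⟩)
  refine ⟨w + b ⟨0, hn⟩, w, b ⟨0, hn⟩, ?_⟩
  have h := LinearMap.congr_fun hw (b ⟨0, hn⟩)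
  rw [polarBilin_apply_apply, polar] at h
  rw [h, Module.Basis.coord_apply, Module.Basis.repr_self, Finsupp.single_eq_same]

theorem finite_center (Q : QuadraticForm R M) [IsAzumaya R (CliffordAlgebra Q)]
    (x₁ x₂ x₃ : M) (hx : Q x₁ - Q x₂ - Q x₃ = 1) :
    Module.Finite R ↥(Subalgebra.center R ↥(CliffordAlgebra.even Q)) := by
  obtain ⟨ρ, hρ⟩ := exists_retraction_center Q x₁ x₂ x₃ hx
  haveI : Module.Finite R ↥(CliffordAlgebra.even Q) := finite_even Q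
  exact Module.Finite.of_surjective ρ (fun z => ⟨z, hρ z⟩)

theorem projective_center (Q : QuadraticForm R M) [IsAzumaya R (CliffordAlgebra Q)]
    (x₁ x₂ x₃ : M) (hx : Q x₁ - Q x₂ - Q x₃ = 1) :
    Module.Projective R ↥(Subalgebra.center R ↥(CliffordAlgebra.even Q)) := by
  obtain ⟨ρ, hρ⟩ := exists_retraction_center Q x₁ x₂ x₃ hx
  haveI : Module.Projective R ↥(CliffordAlgebra.even Q) := projective_even Q
  exact Module.Projective.of_split
    (Subalgebra.center R ↥(CliffordAlgebra.even Q)).val.toLinearMap ρ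
    (LinearMap.ext fun z => hρ z)

end Groth.Agent.H9.CE
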