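import Mathlib
import Groth.Agent.Lib.Helper9.Misc.CE1
import Groth.Agent.Lib.Helper9.Misc.QO8
import Groth.Agent.Lib.Helper7.Azu8

/-! The centre of the even Clifford algebra of a regular form of even rank: centralizer,
localization, rank two, formally unramified (helper9). -/

set_option autoImplicit false

open CliffordAlgebra QuadraticMap TensorProduct MulOpposite Groth.Agent.H9.QG Groth.Agent.H9.QO

namespace Groth.Agent.H9.CE

universe u v

variable {R : Type u} [CommRing R] {M : Type v} [AddCommGroup M] [Module R M] [Module.Free R M]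

/-! ### the centralizer of the centre of the even part -/

section Centralizer

variable [Module.Finite R M]

theorem mem_even_of_comm_isZ (m : ℕ) (hM : Module.finrank R M = 2 * m) (Q : QuadraticForm R M)
    (hQ : QuadGrp.IsRegular Q) {a : CliffordAlgebra Q}
    (h : ∀ z, IsZ Q z → z * a = a * z) : a ∈ evenOdd Q 0 := by
  have h1 : e₁ Q a = 0 := by
    apply eq_zero_of_toBC_eq_zero Q
    intro p _
    haveI := nontrivial_of_isPrime p
    have hQA := isRegular_baseChangeForm (Localization.AtPrime p) Q hQ
    have hMA : Module.finrank (Localization.AtPrime p) (Localization.AtPrime p ⊗[R] M) = 2 * m := by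
      rw [Module.finrank_baseChange, hM]
    obtain ⟨y, hy⟩ := exists_good m _ (QuadGrp.baseChangeForm (Localization.AtPrime p) Q) hQA hMA
    obtain ⟨z, hz0, hzc, s, hs, hzs⟩ := exists_central_lift p.primeCompl (Localization.AtPrime p) Q
      (Module.finBasis R M) hy.even (fun a ha => (hy.comm_even ha).symm)
    have hz : IsZ Q z := ⟨hz0, hzc⟩
    have hc1 : z * e₁ Q a = e₁ Q a * z := by
      have := congrArg (e₁ Q) (h z hz)
      rwa [e₁_even_mul Q hz0, e₁_mul_even Q hz0] at this
    have hc2 := congrArg (toBC (Localization.AtPrime p) Q) hc1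
    rw [map_mul, map_mul, hzs, smul_mul_assoc, mul_smul_comm] at hc2
    have hu : IsUnit (algebraMap R (Localization.AtPrime p) s) :=
      IsLocalization.map_units _ (⟨s, hs⟩ : p.primeCompl)
    have hc3 := hu.smul_left_cancel.mp hc2
    have hodd := toBC_mem_odd (Localization.AtPrime p) Q (e₁_mem Q a)
    have hc4 := hy.comm_odd hodd
    have hc5 : toBC (Localization.AtPrime p) Q (e₁ Q a) * (1 - 2 * y) = 0 := by
      have h6 : toBC (Localization.AtPrime p) Q (e₁ Q a) * y =
          toBC (Localization.AtPrime p) Q (e₁ Q a) * (1 - y) := by rw [← hc3, hc4]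
      calc toBC (Localization.AtPrime p) Q (e₁ Q a) * (1 - 2 * y)
          = toBC (Localization.AtPrime p) Q (e₁ Q a) * (1 - y) -
            toBC (Localization.AtPrime p) Q (e₁ Q a) * y := by noncomm_ring
        _ = 0 := by rw [← h6, sub_self]
    exact hy.unit.mul_left_eq_zero.mp hc5
  have h2 := e₀_add_e₁ Q a
  rw [h1, add_zero] at h2
  rw [← h2]
  exact e₀_mem Q a

/-- the centralizer of the centre of the even part is the even part -/
theorem centralizer_center_even (m : ℕ) (hM : Module.finrank R M = 2 * m) (Q : QuadraticForm R M)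
    (hQ : QuadGrp.IsRegular Q) :
    Subalgebra.centralizer R
        ((CliffordAlgebra.even Q).val ''
          (Subalgebra.center R ↥(CliffordAlgebra.even Q) : Set ↥(CliffordAlgebra.even Q))) =
      CliffordAlgebra.even Q := by
  apply le_antisymm
  · intro a ha
    rw [Subalgebra.mem_centralizer_iff] at ha
    apply mem_even_of_comm_isZ m hM Q hQ
    intro z hz
    exact ha z ⟨⟨z, hz.1⟩, (mem_center_iff_isZ Q _).mpr hz, rfl⟩
  · intro a ha
    rw [Subalgebra.mem_centralizer_iff]
    rintro _ ⟨z, hz, rfl⟩
    exact (((mem_center_iff_isZ Q z).mp hz).2 a ha).symm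

end Centralizer

/-! ### the centre after localization -/

section KL

variable (Q : QuadraticForm R M) (p : Ideal R) [p.IsPrime]

/-- `R_p ⊗ Z → C⁺(Q_p)` -/
noncomputable def Phi₀ :
    Localization.AtPrime p ⊗[R] ↥(Subalgebra.center R ↥(CliffordAlgebra.even Q)) →ₐ[Localization.AtPrime p]
      ↥(CliffordAlgebra.even (QuadGrp.baseChangeForm (Localization.AtPrime p) Q)) :=
  (psi (Localization.AtPrime p) Q).comp
    (Algebra.TensorProduct.map (AlgHom.id (Localization.AtPrime p) (Localization.AtPrime p))
      (Subalgebra.center R ↥(CliffordAlgebra.even Q)).val)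

theorem Phi₀_tmul_coe (s : Localization.AtPrime p)
    (z : ↥(Subalgebra.center R ↥(CliffordAlgebra.even Q))) :
    ((Phi₀ Q p (s ⊗ₜ[R] z) :
        ↥(CliffordAlgebra.even (QuadGrp.baseChangeForm (Localization.AtPrime p) Q))) :
      CliffordAlgebra (QuadGrp.baseChangeForm (Localization.AtPrime p) Q)) =
      algebraMap (Localization.AtPrime p) _ s *
        toBC (Localization.AtPrime p) Q ((z : ↥(CliffordAlgebra.even Q)) : CliffordAlgebra Q) := by
  rw [Phi₀, AlgHom.comp_apply, Algebra.TensorProduct.map_tmul, psi_coe, psi₀_tmul]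
  rfl

theorem Phi₀_injective : Function.Injective (Phi₀ Q p) := by
  have h2 : Function.Injective (LinearMap.lTensor (Localization.AtPrime p)
      (Subalgebra.center R ↥(CliffordAlgebra.even Q)).val.toLinearMap) :=
    Module.Flat.lTensor_preserves_injective_linearMap _ Subtype.val_injective
  have key : ∀ t, LinearMap.lTensor (Localization.AtPrime p)
      (Subalgebra.center R ↥(CliffordAlgebra.even Q)).val.toLinearMap t =
      Algebra.TensorProduct.map (AlgHom.id (Localization.AtPrime p) (Localization.AtPrime p))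
        (Subalgebra.center R ↥(CliffordAlgebra.even Q)).val t := by
    intro t
    induction t using TensorProduct.induction_on with
    | zero => simp
    | tmul a b => simp
    | add x y hx hy => rw [map_add, map_add, hx, hy]
  have h1 : Function.Injective
      (Algebra.TensorProduct.map (AlgHom.id (Localization.AtPrime p) (Localization.AtPrime p))
        (Subalgebra.center R ↥(CliffordAlgebra.even Q)).val) := by
    intro x y hxy
    apply h2
    rw [key, key, hxy]
  rw [Phi₀, AlgHom.coe_comp]
  exact (psi_injective (Localization.AtPrime p) Q).comp h1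

theorem Phi₀_mem_center
    (t : Localization.AtPrime p ⊗[R] ↥(Subalgebra.center R ↥(CliffordAlgebra.even Q))) :
    Phi₀ Q p t ∈ Subalgebra.center (Localization.AtPrime p)
      ↥(CliffordAlgebra.even (QuadGrp.baseChangeForm (Localization.AtPrime p) Q)) := by
  induction t using TensorProduct.induction_on with
  | zero => rw [map_zero]; exact zero_mem _
  | tmul s z =>
    have hz := (mem_center_iff_isZ Q _).mp z.2
    have h1 := toBC_mem_center p.primeCompl (Localization.AtPrime p) Q hz.1 hz.2
    have h2 : Phi₀ Q p (s ⊗ₜ[R] z) = s •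
        (⟨toBC (Localization.AtPrime p) Q ((z : ↥(CliffordAlgebra.even Q)) : CliffordAlgebra Q),
          toBC_mem_even (Localization.AtPrime p) Q hz.1⟩ :
          ↥(CliffordAlgebra.even (QuadGrp.baseChangeForm (Localization.AtPrime p) Q))) := by
      apply Subtype.ext
      rw [Phi₀_tmul_coe, ← Algebra.smul_def]
      rfl
    rw [h2]
    exact Subalgebra.smul_mem _ h1 s
  | add x y hx hy => rw [map_add]; exact add_mem hx hy

theorem Phi₀_surj {n : ℕ} (b : Module.Basis (Fin n) R M)
    (w : ↥(CliffordAlgebra.even (QuadGrp.baseChangeForm (Localization.AtPrime p) Q)))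
    (hw : w ∈ Subalgebra.center (Localization.AtPrime p)
      ↥(CliffordAlgebra.even (QuadGrp.baseChangeForm (Localization.AtPrime p) Q))) :
    ∃ t, Phi₀ Q p t = w := by
  have hwZ := (mem_center_iff_isZ _ w).mp hw
  obtain ⟨z, hz0, hzc, s, hs, hzs⟩ := exists_central_lift p.primeCompl (Localization.AtPrime p) Q b
    hwZ.1 hwZ.2
  have hzmem : (⟨z, hz0⟩ : ↥(CliffordAlgebra.even Q)) ∈
      Subalgebra.center R ↥(CliffordAlgebra.even Q) := (mem_center_iff_isZ Q _).mpr ⟨hz0, hzc⟩
  have hu : IsUnit (algebraMap R (Localization.AtPrime p) s) :=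
    IsLocalization.map_units _ (⟨s, hs⟩ : p.primeCompl)
  obtain ⟨u, hu'⟩ := hu
  refine ⟨(↑u⁻¹ : Localization.AtPrime p) ⊗ₜ[R] ⟨⟨z, hz0⟩, hzmem⟩, ?_⟩
  apply Subtype.ext
  rw [Phi₀_tmul_coe]
  show algebraMap (Localization.AtPrime p) _ (↑u⁻¹ : Localization.AtPrime p) *
    toBC (Localization.AtPrime p) Q z = w
  rw [hzs, ← hu', ← Algebra.smul_def, smul_smul, Units.inv_mul, one_smul]

/-- `R_p ⊗ Z → Z(C⁺(Q_p))` -/
noncomputable def PhiC :
    Localization.AtPrime p ⊗[R] ↥(Subalgebra.center R ↥(CliffordAlgebra.even Q)) →ₐ[Localization.AtPrime p]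
      ↥(Subalgebra.center (Localization.AtPrime p)
        ↥(CliffordAlgebra.even (QuadGrp.baseChangeForm (Localization.AtPrime p) Q))) :=
  (Phi₀ Q p).codRestrict _ (Phi₀_mem_center Q p)

theorem PhiC_bijective {n : ℕ} (b : Module.Basis (Fin n) R M) : Function.Bijective (PhiC Q p) := by
  constructor
  · intro x y hxy
    apply Phi₀_injective Q p
    exact congrArg Subtype.val hxy
  · intro w
    obtain ⟨t, ht⟩ := Phi₀_surj Q p b w.1 w.2
    exact ⟨t, Subtype.ext ht⟩

/-- the centre of the even part commutes with localization -/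
noncomputable def PhiE {n : ℕ} (b : Module.Basis (Fin n) R M) :
    (Localization.AtPrime p ⊗[R] ↥(Subalgebra.center R ↥(CliffordAlgebra.even Q)))
      ≃ₐ[Localization.AtPrime p]
      ↥(Subalgebra.center (Localization.AtPrime p)
        ↥(CliffordAlgebra.even (QuadGrp.baseChangeForm (Localization.AtPrime p) Q))) :=
  AlgEquiv.ofBijective (PhiC Q p) (PhiC_bijective Q p b)

end KL

/-! ### local structure in the presence of a good element -/

theorem der_eq_zero_of_sq {R : Type*} [CommRing R] {A : Type*} [CommRing A] [Algebra R A]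
    {N' : Type*} [AddCommGroup N'] [Module R N'] [Module A N'] [IsScalarTower R A N']
    (D : Derivation R A N') (y w : A) (n : R) (hsq : y * y = y - n • 1)
    (hinv : w * (1 - 2 * y) = 1) : D y = 0 := by
  have h1 := congrArg D hsq
  rw [Derivation.leibniz, map_sub, Derivation.map_smul, Derivation.map_one_eq_zero, smul_zero,
    sub_zero] at h1
  have h2 : (1 - 2 * y) • D y = 0 := by
    rw [sub_smul, one_smul, two_mul, add_smul, h1, sub_self]
  calc D y = (w * (1 - 2 * y)) • D y := by rw [hinv, one_smul]
    _ = 0 := by rw [mul_smul, h2, smul_zero]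

section LS

variable {Q : QuadraticForm R M} {n : ℕ} (b : Module.Basis (Fin n) R M)
  (hQ : QuadGrp.IsRegular Q) {y : CliffordAlgebra Q} (hy : Good Q y) (x₀ : M)
  (hx₀ : IsUnit (Q x₀))

/-- a good element as an element of the centre of the even algebra -/
def yZ (hy : Good Q y) : ↥(Subalgebra.center R ↥(CliffordAlgebra.even Q)) :=
  ⟨⟨y, hy.even⟩, (mem_center_iff_isZ Q _).mpr ⟨hy.even, fun _ hc => (hy.comm_even hc).symm⟩⟩

/-- `(r, s) ↦ r + s y` -/
noncomputable def gmap (hy : Good Q y) :
    R × R →ₗ[R] ↥(Subalgebra.center R ↥(CliffordAlgebra.even Q)) :=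
  (LinearMap.toSpanSingleton R _ 1).coprod (LinearMap.toSpanSingleton R _ (yZ hy))

theorem gmap_apply (r s : R) : gmap hy (r, s) = r • 1 + s • yZ hy := by
  simp only [gmap, LinearMap.coprod_apply, LinearMap.toSpanSingleton_apply]

theorem gmap_coe (r s : R) :
    (((gmap hy (r, s) : ↥(Subalgebra.center R ↥(CliffordAlgebra.even Q))) :
      ↥(CliffordAlgebra.even Q)) : CliffordAlgebra Q) = algebraMap R _ r + s • y := by
  rw [gmap_apply, Algebra.algebraMap_eq_smul_one]
  rfl

include hy hx₀ in
theorem indep {r s : R} (h : algebraMap R (CliffordAlgebra Q) r + s • y = 0) :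
    r = 0 ∧ s = 0 := by
  have h2 : ι Q x₀ * (algebraMap R _ r + s • (1 - y)) = ι Q x₀ * 0 := by
    rw [mul_zero, mul_add, mul_smul_comm, ← hy.comm x₀, ← Algebra.commutes, ← smul_mul_assoc,
      ← add_mul, h, zero_mul]
  have h3 := ι_left_cancel hx₀ h2
  have h4 : s • (1 - 2 * y) = 0 := by
    have : s • (1 - 2 * y) = (algebraMap R _ r + s • (1 - y)) - (algebraMap R _ r + s • y) := by
      rw [two_mul]
      simp only [smul_sub, smul_add]
      abel
    rw [this, h3, h, sub_zero]
  have h5 : algebraMap R (CliffordAlgebra Q) s * (1 - 2 * y) = 0 := by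
    rw [Algebra.algebraMap_eq_smul_one, smul_mul_assoc, one_mul, h4]
  have h6 : algebraMap R (CliffordAlgebra Q) s = 0 := hy.unit.mul_left_eq_zero.mp h5
  have hs : s = 0 := algebraMap_injective Q (by rw [h6, map_zero])
  rw [hs, zero_smul, add_zero] at h
  exact ⟨algebraMap_injective Q (by rw [h, map_zero]), hs⟩

include b hQ hx₀ in
theorem gmap_bijective : Function.Bijective (gmap hy) := by
  constructor
  · rw [← LinearMap.ker_eq_bot, LinearMap.ker_eq_bot']
    rintro ⟨r, s⟩ h
    have h' : algebraMap R (CliffordAlgebra Q) r + s • y = 0 := by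
      rw [← gmap_coe hy r s, h]
      rfl
    obtain ⟨hr, hs⟩ := indep hy x₀ hx₀ h'
    rw [hr, hs]
    rfl
  · intro z
    have hz := (mem_center_iff_isZ Q _).mp z.2
    obtain ⟨r, s, hrs⟩ := hy.center_even b hQ x₀ hx₀ hz.1 hz.2
    exact ⟨(r, s), Subtype.ext (Subtype.ext ((gmap_coe hy r s).trans hrs.symm))⟩

include b hQ hy hx₀ in
theorem finrank_center_of_good [Nontrivial R] :
    Module.finrank R ↥(Subalgebra.center R ↥(CliffordAlgebra.even Q)) = 2 := by
  rw [← (LinearEquiv.ofBijective (gmap hy) (gmap_bijective b hQ hy x₀ hx₀)).finrank_eq,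
    Module.finrank_prod, Module.finrank_self]

include b hQ hy hx₀ in
theorem formallyUnramified_center_of_good :
    Algebra.FormallyUnramified R ↥(Subalgebra.center R ↥(CliffordAlgebra.even Q)) := by
  obtain ⟨N, hN⟩ := hy.norm b hQ
  have hW := Good.W_sq hN
  have hu : IsUnit (1 - 4 * N) := by
    apply isUnit_of_isUnit_algebraMap Q
    rw [← hW]
    exact hy.unit.mul hy.unit
  obtain ⟨u, hu'⟩ := hu
  -- relations in the centre
  have hsq : yZ hy * yZ hy = yZ hy - N • 1 := by
    apply Subtype.ext
    apply Subtype.ext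
    show y * y = y - N • (1 : CliffordAlgebra Q)
    rw [← Algebra.algebraMap_eq_smul_one, hN]
    noncomm_ring
  have hinv : ((↑u⁻¹ : R) • (1 - 2 * yZ hy)) * (1 - 2 * yZ hy) = 1 := by
    apply Subtype.ext
    apply Subtype.ext
    show ((↑u⁻¹ : R) • (1 - 2 * y)) * (1 - 2 * y) = (1 : CliffordAlgebra Q)
    rw [smul_mul_assoc, hW, ← hu', Algebra.algebraMap_eq_smul_one, smul_smul, Units.inv_mul,
      one_smul]
  have hDy := der_eq_zero_of_sq
    (KaehlerDifferential.D R ↥(Subalgebra.center R ↥(CliffordAlgebra.even Q))) (yZ hy)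
    ((↑u⁻¹ : R) • (1 - 2 * yZ hy)) N hsq hinv
  have hD : ∀ z, KaehlerDifferential.D R ↥(Subalgebra.center R ↥(CliffordAlgebra.even Q)) z = 0 := by
    intro z
    obtain ⟨⟨r, s⟩, rfl⟩ := (gmap_bijective b hQ hy x₀ hx₀).2 z
    rw [gmap_apply, map_add, Derivation.map_smul, Derivation.map_smul,
      Derivation.map_one_eq_zero, hDy, smul_zero, smul_zero, add_zero]
  have htop : (⊤ : Submodule ↥(Subalgebra.center R ↥(CliffordAlgebra.even Q))
      Ω[↥(Subalgebra.center R ↥(CliffordAlgebra.even Q))⁄R]) = ⊥ := by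
    rw [← KaehlerDifferential.span_range_derivation, Submodule.span_eq_bot]
    rintro _ ⟨z, rfl⟩
    exact hD z
  exact ⟨(Submodule.subsingleton_iff _).mp (subsingleton_of_bot_eq_top htop.symm)⟩

end LS

/-! ### global consequences -/

section Global

variable [Module.Finite R M]

theorem rankAtStalk_center (m : ℕ) (hm : 1 ≤ m) (hM : Module.finrank R M = 2 * m)
    (Q : QuadraticForm R M) (hQ : QuadGrp.IsRegular Q) (p : PrimeSpectrum R) :
    Module.rankAtStalk (R := R) ↥(Subalgebra.center R ↥(CliffordAlgebra.even Q)) p = 2 := by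
  haveI := nontrivial_of_isPrime p.asIdeal
  have hQA := isRegular_baseChangeForm (Localization.AtPrime p.asIdeal) Q hQ
  have hMA : Module.finrank (Localization.AtPrime p.asIdeal)
      (Localization.AtPrime p.asIdeal ⊗[R] M) = 2 * m := by
    rw [Module.finrank_baseChange, hM]
  have hM2 : 2 ≤ Module.finrank (Localization.AtPrime p.asIdeal)
      (Localization.AtPrime p.asIdeal ⊗[R] M) := by omega
  obtain ⟨y, hy⟩ := exists_good m _ (QuadGrp.baseChangeForm (Localization.AtPrime p.asIdeal) Q)
    hQA hMA
  obtain ⟨x₀, hx₀⟩ := exists_isUnit_value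
    (QuadGrp.baseChangeForm (Localization.AtPrime p.asIdeal) Q) hQA hM2
  rw [Module.rankAtStalk_eq_finrank_tensorProduct,
    (PhiE Q p.asIdeal (Module.finBasis R M)).toLinearEquiv.finrank_eq]
  exact finrank_center_of_good (Module.finBasis _ _) hQA hy x₀ hx₀

attribute [local instance] Algebra.TensorProduct.rightAlgebra in
theorem formallyUnramified_center (m : ℕ) (hm : 1 ≤ m) (hM : Module.finrank R M = 2 * m)
    (Q : QuadraticForm R M) (hQ : QuadGrp.IsRegular Q) :
    Algebra.FormallyUnramified R ↥(Subalgebra.center R ↥(CliffordAlgebra.even Q)) := by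
  rw [Algebra.formallyUnramified_iff]
  apply Groth.Agent.H7.Azu.subsingleton_of_baseChange_localization_maximal R
  intro p _
  haveI := nontrivial_of_isPrime p
  have hQA := isRegular_baseChangeForm (Localization.AtPrime p) Q hQ
  have hMA : Module.finrank (Localization.AtPrime p) (Localization.AtPrime p ⊗[R] M) = 2 * m := by
    rw [Module.finrank_baseChange, hM]
  have hM2 : 2 ≤ Module.finrank (Localization.AtPrime p) (Localization.AtPrime p ⊗[R] M) := by
    omega
  obtain ⟨y, hy⟩ := exists_good m _ (QuadGrp.baseChangeForm (Localization.AtPrime p) Q) hQA hMA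
  obtain ⟨x₀, hx₀⟩ := exists_isUnit_value (QuadGrp.baseChangeForm (Localization.AtPrime p) Q) hQA hM2
  haveI : Algebra.FormallyUnramified (Localization.AtPrime p)
      ↥(Subalgebra.center (Localization.AtPrime p)
        ↥(CliffordAlgebra.even (QuadGrp.baseChangeForm (Localization.AtPrime p) Q))) :=
    formallyUnramified_center_of_good (Module.finBasis _ _) hQA hy x₀ hx₀
  haveI : Algebra.FormallyUnramified (Localization.AtPrime p)
      (Localization.AtPrime p ⊗[R] ↥(Subalgebra.center R ↥(CliffordAlgebra.even Q))) :=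
    Algebra.FormallyUnramified.of_equiv (PhiE Q p (Module.finBasis R M)).symm
  exact (KaehlerDifferential.tensorKaehlerEquivBase R (Localization.AtPrime p)
    ↥(Subalgebra.center R ↥(CliffordAlgebra.even Q))
    (Localization.AtPrime p ⊗[R] ↥(Subalgebra.center R ↥(CliffordAlgebra.even Q)))).toEquiv.subsingleton

end Global

end Groth.Agent.H9.CE
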