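import Mathlib
import Groth.Agent.Lib.Helper7.Corner2
import Groth.Agent.Lib.Helper7.Azu3

/-! The centralizer of a commutative separable subalgebra of an Azumaya algebra is Azumaya over
that subalgebra (helper9). -/

set_option autoImplicit false

open TensorProduct MulOpposite Groth.Agent.H7.Corner

namespace Groth.Agent.H9.CE

universe u v w w'

section G

variable {R : Type u} [CommRing R] {C : Type v} [Ring C] [Algebra R C]
  {Z : Type w} [CommRing Z] [Algebra R Z]
  (j : Z →ₐ[R] C) (E : Z ⊗[R] Z)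

/-- `Z ⊗ Z → Z ⊗ C` -/
noncomputable def jj : Z ⊗[R] Z →ₐ[Z] Z ⊗[R] C := Algebra.TensorProduct.map (AlgHom.id Z Z) j

theorem jj_tmul (a b : Z) : jj j (a ⊗ₜ[R] b) = a ⊗ₜ[R] j b := by
  rw [jj, Algebra.TensorProduct.map_tmul]
  rfl

/-- the image of the separability idempotent in `Z ⊗ C` -/
noncomputable def E' : Z ⊗[R] C := jj j E

/-- `z ⊗ c ↦ c * j z` -/
noncomputable def mm : Z ⊗[R] C →ₗ[R] C :=
  TensorProduct.lift ((LinearMap.mul R C).flip.comp j.toLinearMap)

theorem mm_tmul (z : Z) (c : C) : mm j (z ⊗ₜ[R] c) = c * j z := by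
  simp only [mm, TensorProduct.lift.tmul, LinearMap.comp_apply, AlgHom.toLinearMap_apply,
    LinearMap.flip_apply, LinearMap.mul_apply']

/-- `a ⊗ b ↦ j b * c * j a` -/
noncomputable def pic (c : C) : Z ⊗[R] Z →ₗ[R] C :=
  TensorProduct.lift (LinearMap.mk₂ R (fun a b : Z => j b * c * j a)
    (fun a a' b => by simp only [map_add, mul_add])
    (fun r a b => by simp only [map_smul, mul_smul_comm])
    (fun a b b' => by simp only [map_add, add_mul])
    (fun r a b => by simp only [map_smul, smul_mul_assoc]))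

theorem pic_tmul (c : C) (a b : Z) : pic j c (a ⊗ₜ[R] b) = j b * c * j a := by
  simp only [pic, TensorProduct.lift.tmul, LinearMap.mk₂_apply]

theorem j_comm (a b : Z) : j a * j b = j b * j a := by
  rw [← map_mul, ← map_mul, mul_comm]

variable (hE1 : ∀ z : Z, ((1 : Z) ⊗ₜ[R] z) * E = (z ⊗ₜ[R] (1 : Z)) * E)
  (hE2 : Algebra.TensorProduct.lmul' R E = 1)

include hE1 in
theorem mul_E (t : Z ⊗[R] Z) :
    t * E = ((Algebra.TensorProduct.lmul' R t) ⊗ₜ[R] (1 : Z)) * E := by
  induction t using TensorProduct.induction_on with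
  | zero => rw [map_zero, zero_tmul, zero_mul]
  | tmul a b =>
    rw [Algebra.TensorProduct.lmul'_apply_tmul]
    calc (a ⊗ₜ[R] b) * E = (a ⊗ₜ[R] (1 : Z)) * (((1 : Z) ⊗ₜ[R] b) * E) := by
          rw [← mul_assoc, Algebra.TensorProduct.tmul_mul_tmul, mul_one, one_mul]
      _ = (a ⊗ₜ[R] (1 : Z)) * ((b ⊗ₜ[R] (1 : Z)) * E) := by rw [hE1]
      _ = ((a * b) ⊗ₜ[R] (1 : Z)) * E := by
          rw [← mul_assoc, Algebra.TensorProduct.tmul_mul_tmul, mul_one]
  | add x y hx hy => rw [add_mul, hx, hy, map_add, add_tmul, add_mul]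

include hE1 hE2 in
theorem E_idem : E * E = E := by
  rw [mul_E E hE1 E, hE2, ← Algebra.TensorProduct.one_def, one_mul]

include hE1 hE2 in
theorem E'_idem : IsIdempotentElem (E' j E) := by
  show E' j E * E' j E = E' j E
  rw [E', ← map_mul, E_idem E hE1 hE2]

include hE1 in
theorem tmul_one_mul_E' (z : Z) :
    (z ⊗ₜ[R] (1 : C)) * E' j E = ((1 : Z) ⊗ₜ[R] j z) * E' j E := by
  have h := congrArg (jj j) (hE1 z)
  rw [map_mul, map_mul, jj_tmul, jj_tmul, map_one] at h
  exact h.symm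

theorem jj_comm {c : C} (hc : ∀ z : Z, j z * c = c * j z) (t : Z ⊗[R] Z) :
    jj j t * ((1 : Z) ⊗ₜ[R] c) = ((1 : Z) ⊗ₜ[R] c) * jj j t := by
  induction t using TensorProduct.induction_on with
  | zero => rw [map_zero, zero_mul, mul_zero]
  | tmul a b =>
    rw [jj_tmul, Algebra.TensorProduct.tmul_mul_tmul, Algebra.TensorProduct.tmul_mul_tmul,
      mul_one, one_mul, hc]
  | add x y hx hy => rw [map_add, add_mul, mul_add, hx, hy]

theorem mm_mul_jj (c : C) (t : Z ⊗[R] Z) :
    mm j (((1 : Z) ⊗ₜ[R] c) * jj j t) = c * j (Algebra.TensorProduct.lmul' R t) := by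
  induction t using TensorProduct.induction_on with
  | zero => rw [map_zero, mul_zero, map_zero, map_zero, map_zero, mul_zero]
  | tmul a b =>
    rw [jj_tmul, Algebra.TensorProduct.tmul_mul_tmul, one_mul, mm_tmul,
      Algebra.TensorProduct.lmul'_apply_tmul, mul_assoc, ← map_mul, mul_comm b a]
  | add x y hx hy => rw [map_add, mul_add, map_add, hx, hy, map_add, map_add, mul_add]

include hE2 in
theorem mm_mul_E' (c : C) : mm j (((1 : Z) ⊗ₜ[R] c) * E' j E) = c := by
  rw [E', mm_mul_jj, hE2, map_one, mul_one]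

include hE1 in
theorem jj_mul_E' (c : C) (t : Z ⊗[R] Z) :
    jj j t * ((1 : Z) ⊗ₜ[R] c) * E' j E = ((1 : Z) ⊗ₜ[R] pic j c t) * E' j E := by
  induction t using TensorProduct.induction_on with
  | zero => rw [map_zero, zero_mul, zero_mul, map_zero, tmul_zero, zero_mul]
  | tmul a b =>
    rw [jj_tmul, pic_tmul]
    calc (a ⊗ₜ[R] j b) * ((1 : Z) ⊗ₜ[R] c) * E' j E
        = ((1 : Z) ⊗ₜ[R] (j b * c)) * ((a ⊗ₜ[R] (1 : C)) * E' j E) := by
          rw [← mul_assoc, Algebra.TensorProduct.tmul_mul_tmul, Algebra.TensorProduct.tmul_mul_tmul,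
            mul_one, one_mul, mul_one]
      _ = ((1 : Z) ⊗ₜ[R] (j b * c)) * (((1 : Z) ⊗ₜ[R] j a) * E' j E) := by
          rw [tmul_one_mul_E' j E hE1]
      _ = ((1 : Z) ⊗ₜ[R] (j b * c * j a)) * E' j E := by
          rw [← mul_assoc, Algebra.TensorProduct.tmul_mul_tmul, one_mul]
  | add x y hx hy => rw [map_add, add_mul, add_mul, hx, hy, map_add, tmul_add, add_mul]

theorem pic_tmul_one_mul (c : C) (z : Z) (t : Z ⊗[R] Z) :
    pic j c ((z ⊗ₜ[R] (1 : Z)) * t) = pic j c t * j z := by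
  induction t using TensorProduct.induction_on with
  | zero => rw [mul_zero, map_zero, zero_mul]
  | tmul a b =>
    rw [Algebra.TensorProduct.tmul_mul_tmul, one_mul, pic_tmul, pic_tmul, map_mul, j_comm j z a,
      mul_assoc (j b * c)]
  | add x y hx hy => rw [mul_add, map_add, hx, hy, map_add, add_mul]

theorem pic_one_tmul_mul (c : C) (z : Z) (t : Z ⊗[R] Z) :
    pic j c (((1 : Z) ⊗ₜ[R] z) * t) = j z * pic j c t := by
  induction t using TensorProduct.induction_on with
  | zero => rw [mul_zero, map_zero, mul_zero]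
  | tmul a b =>
    rw [Algebra.TensorProduct.tmul_mul_tmul, one_mul, pic_tmul, pic_tmul, map_mul, mul_assoc,
      mul_assoc, mul_assoc]
  | add x y hx hy => rw [mul_add, map_add, hx, hy, map_add, mul_add]

include hE1 in
theorem pic_E_comm (c : C) (z : Z) : j z * pic j c E = pic j c E * j z := by
  rw [← pic_one_tmul_mul, hE1, pic_tmul_one_mul]

variable {B : Type w'} [Ring B] [Algebra R B] [Algebra Z B] (i : B →ₐ[R] C)
  (hiZ : ∀ z : Z, i (algebraMap Z B z) = j z)
  (hcomm : ∀ (b : B) (z : Z), j z * i b = i b * j z)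
  (hrange : ∀ c : C, (∀ z : Z, j z * c = c * j z) → ∃ b : B, i b = c)

include hcomm in
theorem E'_comm (b : B) : E' j E * ((1 : Z) ⊗ₜ[R] i b) = ((1 : Z) ⊗ₜ[R] i b) * E' j E :=
  jj_comm j (fun z => hcomm b z) E

/-- `b ↦ (1 ⊗ b) E'` -/
noncomputable def phi (he : IsIdempotentElem (E' j E)) : B →ₐ[Z] he.Corner where
  toFun b := ⟨((1 : Z) ⊗ₜ[R] i b) * E' j E, ⟨(1 : Z) ⊗ₜ[R] i b, by
    show E' j E * ((1 : Z) ⊗ₜ[R] i b) * E' j E = ((1 : Z) ⊗ₜ[R] i b) * E' j E
    rw [E'_comm j E i hcomm, mul_assoc, he.eq]⟩⟩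
  map_one' := Subtype.ext (by
    show ((1 : Z) ⊗ₜ[R] i 1) * E' j E = E' j E
    rw [map_one, ← Algebra.TensorProduct.one_def, one_mul])
  map_mul' b b' := Subtype.ext (by
    show ((1 : Z) ⊗ₜ[R] i (b * b')) * E' j E =
      (((1 : Z) ⊗ₜ[R] i b) * E' j E) * (((1 : Z) ⊗ₜ[R] i b') * E' j E)
    rw [mul_assoc, ← mul_assoc (E' j E), E'_comm j E i hcomm, mul_assoc, he.eq, ← mul_assoc,
      Algebra.TensorProduct.tmul_mul_tmul, one_mul, map_mul])
  map_zero' := Subtype.ext (by
    show ((1 : Z) ⊗ₜ[R] i 0) * E' j E = 0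
    rw [map_zero, tmul_zero, zero_mul])
  map_add' b b' := Subtype.ext (by
    show ((1 : Z) ⊗ₜ[R] i (b + b')) * E' j E =
      ((1 : Z) ⊗ₜ[R] i b) * E' j E + ((1 : Z) ⊗ₜ[R] i b') * E' j E
    rw [map_add, tmul_add, add_mul])
  commutes' z := Subtype.ext (by
    show ((1 : Z) ⊗ₜ[R] i (algebraMap Z B z)) * E' j E = (algebraMap Z he.Corner z).1
    rw [hiZ, ← tmul_one_mul_E' j E hE1, Algebra.algebraMap_eq_smul_one, corner_val_smul,
      corner_val_one, Algebra.smul_def, Algebra.TensorProduct.algebraMap_apply]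
    rfl)

theorem phi_val (he : IsIdempotentElem (E' j E)) (b : B) :
    (phi j E hE1 i hiZ hcomm he b).1 = ((1 : Z) ⊗ₜ[R] i b) * E' j E := rfl

include hE2 in
theorem phi_injective (he : IsIdempotentElem (E' j E)) (hi : Function.Injective i) :
    Function.Injective (phi j E hE1 i hiZ hcomm he) := by
  rw [injective_iff_map_eq_zero]
  intro b hb
  have h1 := congrArg Subtype.val hb
  rw [phi_val] at h1
  have h2 := congrArg (mm j) h1
  rw [mm_mul_E' j E hE2] at h2
  apply hi
  rw [h2, map_zero]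
  exact (map_zero (mm j))

include hE1 hrange in
theorem exists_corner (he : IsIdempotentElem (E' j E)) (t : Z ⊗[R] C) :
    ∃ b : B, ((1 : Z) ⊗ₜ[R] i b) * E' j E = E' j E * t * E' j E := by
  induction t using TensorProduct.induction_on with
  | zero => exact ⟨0, by rw [map_zero, tmul_zero, zero_mul, mul_zero, zero_mul]⟩
  | tmul z c =>
    obtain ⟨b, hb⟩ := hrange (pic j (c * j z) E) (fun z' => pic_E_comm j E hE1 _ z')
    refine ⟨b, ?_⟩
    rw [hb, ← jj_mul_E' j E hE1]
    have h1 : (z ⊗ₜ[R] c) * E' j E = ((1 : Z) ⊗ₜ[R] (c * j z)) * E' j E := by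
      calc (z ⊗ₜ[R] c) * E' j E = ((1 : Z) ⊗ₜ[R] c) * ((z ⊗ₜ[R] (1 : C)) * E' j E) := by
            rw [← mul_assoc, Algebra.TensorProduct.tmul_mul_tmul, one_mul, mul_one]
        _ = ((1 : Z) ⊗ₜ[R] c) * (((1 : Z) ⊗ₜ[R] j z) * E' j E) := by
            rw [tmul_one_mul_E' j E hE1]
        _ = ((1 : Z) ⊗ₜ[R] (c * j z)) * E' j E := by
            rw [← mul_assoc, Algebra.TensorProduct.tmul_mul_tmul, one_mul]
    rw [mul_assoc (E' j E), h1, ← mul_assoc]
    rfl
  | add x y hx hy =>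
    obtain ⟨b₁, h₁⟩ := hx
    obtain ⟨b₂, h₂⟩ := hy
    exact ⟨b₁ + b₂, by rw [map_add, tmul_add, add_mul, h₁, h₂, mul_add, add_mul]⟩

include hE1 hrange in
theorem phi_surjective (he : IsIdempotentElem (E' j E)) :
    Function.Surjective (phi j E hE1 i hiZ hcomm he) := by
  intro x
  obtain ⟨t, ht⟩ := x.2
  obtain ⟨b, hb⟩ := exists_corner j E hE1 i hrange he t
  refine ⟨b, Subtype.ext ?_⟩
  rw [phi_val, hb]
  exact ht

include hE1 hE2 hiZ hcomm hrange in
/-- the centralizer of a commutative separable subalgebra of an Azumaya algebra is Azumaya over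
the subalgebra -/
theorem isAzumaya_centralizer [IsAzumaya R C] (hi : Function.Injective i)
    (hj : Function.Injective j) : IsAzumaya Z B := by
  have he := E'_idem j E hE1 hE2
  haveI : IsAzumaya Z (Z ⊗[R] C) := Groth.Agent.H7.Azu.isAzumaya_baseChange R Z C
  have hfaith : FaithfulSMul Z he.Corner := by
    rw [faithfulSMul_iff_algebraMap_injective]
    rw [injective_iff_map_eq_zero]
    intro z hz
    have h1 := congrArg Subtype.val hz
    rw [Algebra.algebraMap_eq_smul_one, corner_val_smul, corner_val_one, corner_val_zero,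
      Algebra.smul_def, Algebra.TensorProduct.algebraMap_apply] at h1
    have h1' : (z ⊗ₜ[R] (1 : C)) * E' j E = 0 := h1
    rw [tmul_one_mul_E' j E hE1] at h1'
    have h2 := congrArg (mm j) h1'
    rw [mm_mul_E' j E hE2, map_zero] at h2
    apply hj
    rw [h2, map_zero]
  haveI : IsAzumaya Z he.Corner :=
    { toProjective := inferInstance
      toFaithfulSMul := hfaith
      toFinite := inferInstance
      bij := corner_mulLeftRight_bijective Z he IsAzumaya.bij }
  exact IsAzumaya.of_AlgEquiv Z _ _ (AlgEquiv.ofBijective (phi j E hE1 i hiZ hcomm he)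
    ⟨phi_injective j E hE1 hE2 i hiZ hcomm he hi, phi_surjective j E hE1 i hiZ hcomm hrange he⟩).symm

end G

end Groth.Agent.H9.CE
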