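import Mathlib

/-! Helper9: upper semicontinuity of fibre dimension of finite modules -/

open TensorProduct

universe u

namespace Groth.Agent.H9.CF1

variable {A : Type u} [CommRing A]

/-- span over the residue field of the pure tensors `1 ⊗ x` -/
lemma span_one_tmul (κ : Type u) [Field κ] [Algebra A κ] (N : Type u) [AddCommGroup N] [Module A N]
    (s : Set N) (hs : Submodule.span A s = ⊤) :
    Submodule.span κ ((fun x : N => (1 : κ) ⊗ₜ[A] x) '' s) = ⊤ := by
  rw [eq_top_iff]
  intro z hz
  clear hz
  induction z using TensorProduct.induction_on with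
  | zero => exact Submodule.zero_mem _
  | add a b ha hb => exact Submodule.add_mem _ ha hb
  | tmul c x =>
    have hx : x ∈ Submodule.span A s := hs ▸ Submodule.mem_top
    induction hx using Submodule.span_induction with
    | mem y hy =>
      have : c ⊗ₜ[A] y = c • ((1 : κ) ⊗ₜ[A] y) := by
        rw [TensorProduct.smul_tmul', smul_eq_mul, mul_one]
      rw [this]
      exact Submodule.smul_mem _ _ (Submodule.subset_span ⟨y, hy, rfl⟩)
    | zero => rw [TensorProduct.tmul_zero]; exact Submodule.zero_mem _
    | add y y' _ _ h1 h2 => rw [TensorProduct.tmul_add]; exact Submodule.add_mem _ h1 h2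
    | smul a y _ h1 =>
      have : c ⊗ₜ[A] (a • y) = (algebraMap A κ a) • (c ⊗ₜ[A] y) := by
        rw [TensorProduct.smul_tmul', smul_eq_mul, ← TensorProduct.smul_tmul, Algebra.smul_def,
          mul_comm]
      rw [this]
      exact Submodule.smul_mem _ _ h1

end Groth.Agent.H9.CF1

namespace Groth.Agent.H9.CF1

variable {A : Type u} [CommRing A]

lemma span_top_of_quot_trivial (κ : Type u) [Field κ] [Algebra A κ] (N : Type u) [AddCommGroup N]
    [Module A N] (t : Set N)
    (h : Subsingleton (κ ⊗[A] (N ⧸ Submodule.span A t))) :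
    Submodule.span κ ((fun x : N => (1 : κ) ⊗ₜ[A] x) '' t) = ⊤ := by
  set W := Submodule.span A t with hW
  have hex : Function.Exact (W.subtype.lTensor κ) (W.mkQ.lTensor κ) :=
    lTensor_exact κ (LinearMap.exact_subtype_mkQ W) (Submodule.mkQ_surjective W)
  -- generating set of `W`
  let t' : Set W := {w | (w : N) ∈ t}
  have ht' : Submodule.span A t' = ⊤ := by
    have := Submodule.span_span_coe_preimage (R := A) (s := t)
    exact this
  have h1 := span_one_tmul κ W t' ht'
  rw [eq_top_iff]
  intro z _
  have hz : (W.mkQ.lTensor κ) z = 0 := Subsingleton.elim _ _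
  obtain ⟨y, rfl⟩ := (hex z).1 hz
  have hy : y ∈ Submodule.span κ ((fun x : W => (1 : κ) ⊗ₜ[A] x) '' t') := h1 ▸ Submodule.mem_top
  have h2 : (W.subtype.lTensor κ) y = (W.subtype.baseChange κ) y := rfl
  rw [h2]
  have h3 := Submodule.mem_map_of_mem (f := W.subtype.baseChange κ) hy
  rw [Submodule.map_span] at h3
  refine Submodule.span_mono ?_ h3
  rintro _ ⟨_, ⟨w, hw, rfl⟩, rfl⟩
  exact ⟨w, hw, by simp⟩

lemma finrank_le_of_quot_trivial (κ : Type u) [Field κ] [Algebra A κ] (N : Type u)
    [AddCommGroup N] [Module A N] (t : Finset N)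
    (h : Subsingleton (κ ⊗[A] (N ⧸ Submodule.span A (t : Set N)))) :
    Module.finrank κ (κ ⊗[A] N) ≤ t.card := by
  classical
  have h1 := span_top_of_quot_trivial κ N (t : Set N) h
  have h2 : ((fun x : N => (1 : κ) ⊗ₜ[A] x) '' (t : Set N)) =
      ((t.image (fun x : N => (1 : κ) ⊗ₜ[A] x) : Finset (κ ⊗[A] N)) : Set (κ ⊗[A] N)) := by
    simp
  rw [h2] at h1
  calc Module.finrank κ (κ ⊗[A] N)
      = Module.finrank κ (⊤ : Submodule κ (κ ⊗[A] N)) := (finrank_top κ _).symm
    _ = Module.finrank κ (Submodule.span κ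
          ((t.image (fun x : N => (1 : κ) ⊗ₜ[A] x) : Finset (κ ⊗[A] N)) : Set (κ ⊗[A] N))) := by
        rw [h1]
    _ ≤ (t.image (fun x : N => (1 : κ) ⊗ₜ[A] x)).card := finrank_span_finset_le_card _
    _ ≤ t.card := Finset.card_image_le

end Groth.Agent.H9.CF1

namespace Groth.Agent.H9.CF1

variable {A : Type u} [CommRing A]

theorem isOpen_finrank_le (N : Type u) [AddCommGroup N] [Module A N] [Module.Finite A N] (k : ℕ) :
    IsOpen {p : PrimeSpectrum A |
      Module.finrank p.asIdeal.ResidueField (p.asIdeal.ResidueField ⊗[A] N) ≤ k} := by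
  classical
  rw [isOpen_iff_forall_mem_open]
  intro p hp
  set κ := p.asIdeal.ResidueField with hκ
  let s : Set (κ ⊗[A] N) := (fun x : N => (1 : κ) ⊗ₜ[A] x) '' Set.univ
  have hs : Submodule.span κ s = ⊤ := span_one_tmul κ N Set.univ (by simp)
  obtain ⟨b, hbs, hbspan, hbli⟩ := exists_linearIndependent κ s
  rw [hs] at hbspan
  have hbfin : b.Finite := hbli.setFinite
  have hcard : hbfin.toFinset.card = Module.finrank κ (κ ⊗[A] N) := by
    have h1 : Module.finrank κ (Submodule.span κ (hbfin.toFinset : Set (κ ⊗[A] N))) =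
        hbfin.toFinset.card := by
      apply finrank_span_finset_eq_card
      rw [hbfin.coe_toFinset]
      exact hbli
    rw [← h1, hbfin.coe_toFinset, hbspan, finrank_top]
  -- choose representatives
  have hrep : ∀ v : κ ⊗[A] N, v ∈ b → ∃ x : N, (1 : κ) ⊗ₜ[A] x = v := by
    intro v hv
    obtain ⟨x, _, hx⟩ := hbs hv
    exact ⟨x, hx⟩
  let c : κ ⊗[A] N → N := fun v => if h : v ∈ b then (hrep v h).choose else 0
  have hc : ∀ v ∈ b, (1 : κ) ⊗ₜ[A] (c v) = v := by
    intro v hv
    simp only [c, dif_pos hv]
    exact (hrep v hv).choose_spec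
  let t : Finset N := hbfin.toFinset.image c
  have htcard : t.card ≤ k := (Finset.card_image_le).trans (hcard ▸ hp)
  set N' := N ⧸ Submodule.span A (t : Set N) with hN'
  -- the fibre of `N'` at `p` is trivial
  have htriv : Subsingleton (κ ⊗[A] N') := by
    refine ⟨fun z1 z2 => ?_⟩
    suffices h : ∀ z : κ ⊗[A] N', z = 0 by rw [h z1, h z2]
    intro z
    obtain ⟨y, rfl⟩ := LinearMap.lTensor_surjective κ
      (Submodule.mkQ_surjective (Submodule.span A (t : Set N))) z
    have hy : y ∈ Submodule.span κ b := hbspan ▸ Submodule.mem_top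
    have h2 : ((Submodule.span A (t : Set N)).mkQ.lTensor κ) y =
        ((Submodule.span A (t : Set N)).mkQ.baseChange κ) y := rfl
    rw [h2]
    clear h2
    induction hy using Submodule.span_induction with
    | mem v hv =>
      rw [← hc v hv, LinearMap.baseChange_tmul]
      have : (Submodule.span A (t : Set N)).mkQ (c v) = 0 := by
        rw [Submodule.mkQ_apply, Submodule.Quotient.mk_eq_zero]
        apply Submodule.subset_span
        exact Finset.mem_coe.mpr (Finset.mem_image_of_mem c (hbfin.mem_toFinset.mpr hv))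
      rw [this, TensorProduct.tmul_zero]
    | zero => rw [map_zero]
    | add a a' _ _ h1 h2 => rw [map_add, h1, h2, add_zero]
    | smul r a _ h1 => rw [map_smul, h1, smul_zero]
  have hpsupp : p ∉ Module.support A N' := by
    rw [Module.mem_support_iff_nontrivial_residueField_tensorProduct]
    exact not_nontrivial_iff_subsingleton.mpr htriv
  refine ⟨(Module.support A N')ᶜ, ?_, (Module.isClosed_support (R := A) (M := N')).isOpen_compl, hpsupp⟩
  intro q hq
  have hq' : Subsingleton (q.asIdeal.ResidueField ⊗[A] N') := by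
    rw [← not_nontrivial_iff_subsingleton, ← Module.mem_support_iff_nontrivial_residueField_tensorProduct]
    exact hq
  exact (finrank_le_of_quot_trivial q.asIdeal.ResidueField N t hq').trans htcard

end Groth.Agent.H9.CF1
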