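import Mathlib
import Groth.Agent.Lib.Helper9.Misc.CF1

/-! Helper9: constructibility of level sets of fibre dimension over a Noetherian ring -/

open TensorProduct

universe u

namespace Groth.Agent.H9.CF2

open Groth.Agent.H9.CF1

variable {A : Type u} [CommRing A]

/-- fibre dimension -/
noncomputable abbrev psi (N : Type u) [AddCommGroup N] [Module A N] (p : PrimeSpectrum A) : ℕ :=
  Module.finrank p.asIdeal.ResidueField (p.asIdeal.ResidueField ⊗[A] N)

theorem isConstructible_psi_eq [IsNoetherianRing A] (N : Type u) [AddCommGroup N] [Module A N]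
    [Module.Finite A N] (b : ℕ) : Topology.IsConstructible {p : PrimeSpectrum A | psi N p = b} := by
  have hopen : ∀ k, Topology.IsConstructible {p : PrimeSpectrum A | psi N p ≤ k} := fun k =>
    (TopologicalSpace.NoetherianSpace.isCompact _).isConstructible (isOpen_finrank_le N k)
  rcases Nat.eq_zero_or_pos b with rfl | hb
  · have : {p : PrimeSpectrum A | psi N p = 0} = {p | psi N p ≤ 0} := by
      ext p; simp
    rw [this]; exact hopen 0
  · have : {p : PrimeSpectrum A | psi N p = b} = {p | psi N p ≤ b} \ {p | psi N p ≤ b - 1} := by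
      ext p
      simp only [Set.mem_setOf_eq, Set.mem_diff]
      omega
    rw [this]; exact (hopen b).sdiff (hopen (b - 1))

theorem psi_bounded (N : Type u) [AddCommGroup N] [Module A N] [Module.Finite A N] :
    ∃ M : ℕ, ∀ p : PrimeSpectrum A, psi N p ≤ M := by
  obtain ⟨t, ht⟩ := (Module.Finite.fg_top : (⊤ : Submodule A N).FG)
  refine ⟨t.card, fun p => ?_⟩
  apply finrank_le_of_quot_trivial
  rw [ht]
  infer_instance

theorem isConstructible_psi_sub [IsNoetherianRing A] (N P : Type u) [AddCommGroup N] [Module A N]
    [Module.Finite A N] [AddCommGroup P] [Module A P] [Module.Finite A P] (n : ℕ) :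
    Topology.IsConstructible {p : PrimeSpectrum A | psi P p = psi N p + n} := by
  obtain ⟨M, hM⟩ := psi_bounded (A := A) N
  have : {p : PrimeSpectrum A | psi P p = psi N p + n} =
      ⋃ b ∈ ((Finset.range (M + 1) : Finset ℕ) : Set ℕ), ({p | psi N p = b} ∩ {p | psi P p = b + n}) := by
    ext p
    simp only [Set.mem_setOf_eq, Finset.coe_range, Set.mem_Iio, Set.mem_iUnion, Set.mem_inter_iff,
      exists_prop]
    constructor
    · intro h
      exact ⟨psi N p, Nat.lt_succ_iff.mpr (hM p), rfl, h⟩
    · rintro ⟨b, _, h1, h2⟩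
      rw [h2, h1]
  rw [this]
  exact Topology.IsConstructible.biUnion (Finset.finite_toSet _)
    (fun b _ => (isConstructible_psi_eq N b).inter (isConstructible_psi_eq P (b + n)))

end Groth.Agent.H9.CF2
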