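import Mathlib
import Groth.Agent.Lib.Helper9.Misc.CF2

/-! Helper9: constructibility of the rank of the image of S in End of the fibres -/

open TensorProduct

universe u

namespace Groth.Agent.H9.CF3

open Groth.Agent.H9.CF1 Groth.Agent.H9.CF2

variable {A : Type u} [CommRing A] (S : Type u) [CommRing S] [Algebra A S]
  (Q : Type u) [AddCommGroup Q] [Module A Q] [Module S Q] [IsScalarTower A S Q]

/-- the orbit map `s ↦ (s • q_j)_j` -/
def orb (A : Type u) [CommRing A] (S : Type u) [CommRing S] [Algebra A S]
    (Q : Type u) [AddCommGroup Q] [Module A Q] [Module S Q] [IsScalarTower A S Q]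
    {m : ℕ} (q : Fin m → Q) : S →ₗ[A] (Fin m → Q) where
  toFun s j := s • q j
  map_add' s s' := by ext j; simp [add_smul]
  map_smul' a s := by ext j; simp [smul_assoc]

variable {Q}

/-- key dimension count in a fibre -/
theorem fibre_count (κ : Type u) [Field κ] [Algebra A κ] {m : ℕ} (q : Fin m → Q)
    (hq : Submodule.span A (Set.range q) = ⊤) [Module.Finite A Q] :
    Module.finrank κ (Submodule.span κ (Set.range fun s : S =>
        LinearMap.baseChange κ (DistribSMul.toLinearMap A Q s))) +
      Module.finrank κ (κ ⊗[A] ((Fin m → Q) ⧸ LinearMap.range (orb A S Q q))) =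
    Module.finrank κ (κ ⊗[A] (Fin m → Q)) := by
  classical
  set W := LinearMap.range (orb A S Q q) with hW
  -- evaluation at the generators
  let ev : ((κ ⊗[A] Q) →ₗ[κ] (κ ⊗[A] Q)) →ₗ[κ] (Fin m → κ ⊗[A] Q) :=
    LinearMap.pi fun j => LinearMap.applyₗ ((1 : κ) ⊗ₜ[A] q j)
  have hev : Function.Injective ev := by
    intro f g hfg
    have hspan := span_one_tmul κ Q (Set.range q) hq
    apply LinearMap.ext_on hspan
    rintro _ ⟨_, ⟨j, rfl⟩, rfl⟩
    exact congrFun hfg j
  let θ := TensorProduct.piRight A κ κ (fun _ : Fin m => Q)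
  -- the span in question
  set D := Submodule.span κ (Set.range fun s : S =>
        LinearMap.baseChange κ (DistribSMul.toLinearMap A Q s)) with hD
  -- image of `κ ⊗ W`
  set R := LinearMap.range (W.subtype.baseChange κ) with hR
  have hDR : D.map ev = R.map θ.toLinearMap := by
    have hR' : R = Submodule.span κ ((fun w : (Fin m → Q) => (1 : κ) ⊗ₜ[A] w) '' (W : Set (Fin m → Q))) := by
      have h1 := span_one_tmul (A := A) κ W Set.univ (by simp)
      rw [hR, LinearMap.range_eq_map, ← h1, Submodule.map_span]
      congr 1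
      ext z
      constructor
      · rintro ⟨_, ⟨w, _, rfl⟩, rfl⟩
        exact ⟨w.1, w.2, by simp⟩
      · rintro ⟨w, hw, rfl⟩
        exact ⟨_, ⟨⟨w, hw⟩, trivial, rfl⟩, by simp⟩
    rw [hR', hD, Submodule.map_span, Submodule.map_span]
    congr 1
    ext z
    constructor
    · rintro ⟨_, ⟨s, rfl⟩, rfl⟩
      refine ⟨_, ⟨orb A S Q q s, ⟨s, rfl⟩, rfl⟩, ?_⟩
      ext j
      simp [ev, θ, orb]
    · rintro ⟨_, ⟨w, ⟨s, rfl⟩, rfl⟩, rfl⟩
      refine ⟨_, ⟨s, rfl⟩, ?_⟩
      ext j
      simp [ev, θ, orb]
  have h1 : Module.finrank κ D = Module.finrank κ R := by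
    have e1 : Module.finrank κ (D.map ev) = Module.finrank κ D :=
      (Submodule.equivMapOfInjective ev hev D).finrank_eq.symm
    have e2 : Module.finrank κ (R.map θ.toLinearMap) = Module.finrank κ R :=
      (Submodule.equivMapOfInjective θ.toLinearMap θ.injective R).finrank_eq.symm
    rw [← e1, ← e2, hDR]
  -- exactness
  have hex : Function.Exact (W.subtype.lTensor κ) (W.mkQ.lTensor κ) :=
    lTensor_exact κ (LinearMap.exact_subtype_mkQ W) (Submodule.mkQ_surjective W)
  have hker : LinearMap.ker (W.mkQ.baseChange κ) = R := by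
    ext z
    rw [LinearMap.mem_ker, hR, LinearMap.mem_range]
    exact hex z
  have hsurj : Function.Surjective (W.mkQ.baseChange κ) :=
    LinearMap.lTensor_surjective κ (Submodule.mkQ_surjective W)
  have h2 := LinearMap.finrank_range_add_finrank_ker (W.mkQ.baseChange κ)
  rw [LinearMap.range_eq_top.mpr hsurj, finrank_top, hker] at h2
  rw [h1, add_comm]
  exact h2

end Groth.Agent.H9.CF3

namespace Groth.Agent.H9.CF3

open Groth.Agent.H9.CF1 Groth.Agent.H9.CF2

theorem main (A : Type u) [CommRing A] [IsNoetherianRing A]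
    (S : Type u) [CommRing S] [Algebra A S]
    (Q : Type u) [AddCommGroup Q] [Module A Q] [Module S Q] [IsScalarTower A S Q]
    [Module.Finite A Q] (n : ℕ) :
    Topology.IsConstructible {p : PrimeSpectrum A |
      Module.finrank p.asIdeal.ResidueField
        (Submodule.span p.asIdeal.ResidueField
          (Set.range fun s : S =>
            LinearMap.baseChange p.asIdeal.ResidueField (DistribSMul.toLinearMap A Q s))) = n} := by
  obtain ⟨m, q, hq⟩ := Module.Finite.exists_fin (R := A) (M := Q)
  have key : ∀ p : PrimeSpectrum A, _ := fun p =>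
    fibre_count S p.asIdeal.ResidueField q hq
  have : {p : PrimeSpectrum A |
      Module.finrank p.asIdeal.ResidueField
        (Submodule.span p.asIdeal.ResidueField
          (Set.range fun s : S =>
            LinearMap.baseChange p.asIdeal.ResidueField (DistribSMul.toLinearMap A Q s))) = n} =
      {p | psi (Fin m → Q) p = psi ((Fin m → Q) ⧸ LinearMap.range (orb A S Q q)) p + n} := by
    ext p
    have := key p
    simp only [Set.mem_ofPred_eq, psi]
    omega
  rw [this]
  exact isConstructible_psi_sub _ _ n

end Groth.Agent.H9.CF3
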