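import Mathlib

/-! Helper9: combinatorial homotopy from a natural family over simplices of Δ[1] -/

open CategoryTheory Simplicial Opposite SimplexCategory

universe v u

namespace Groth.Agent.H9.CK1

/-- the map `⦋m⦌ ⟶ ⦋1⦌` sending exactly the first `j` elements to `0`. -/
def al (m j : ℕ) : ⦋m⦌ ⟶ ⦋1⦌ :=
  SimplexCategory.mkHom ⟨fun k => if (k : ℕ) < j then 0 else 1, by
    intro a b hab
    dsimp only
    split_ifs with h1 h2
    · exact le_rfl
    · exact Fin.zero_le _
    · exfalso; exact h1 (lt_of_le_of_lt hab (by assumption))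
    · exact le_rfl⟩

lemma al_apply (m j : ℕ) (k : Fin (m + 1)) :
    (al m j).toOrderHom k = if (k : ℕ) < j then 0 else 1 := rfl

lemma δ_al (m j : ℕ) (i : Fin (m + 2)) :
    SimplexCategory.δ i ≫ al (m + 1) j = al m (if (i : ℕ) < j then j - 1 else j) := by
  ext k : 3
  simp only [SimplexCategory.comp_toOrderHom, OrderHom.comp_coe, Function.comp_apply, al_apply]
  have hδ : ((SimplexCategory.δ i).toOrderHom k : ℕ) = if (k : ℕ) < i then (k : ℕ) else k + 1 := by
    simp only [SimplexCategory.δ, SimplexCategory.mkHom, SimplexCategory.Hom.toOrderHom_mk,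
      OrderEmbedding.toOrderHom_coe, Fin.succAboveOrderEmb_apply, Fin.succAbove]
    split_ifs with h1 h2 h2
    · rfl
    · exfalso; exact h2 (by simpa [Fin.lt_def] using h1)
    · exfalso; exact h1 (by simpa [Fin.lt_def] using h2)
    · rfl
  rw [hδ]
  split_ifs <;> first | rfl | (exfalso; omega)

lemma σ_al (m j : ℕ) (i : Fin (m + 1)) :
    SimplexCategory.σ i ≫ al m j = al (m + 1) (if (i : ℕ) < j then j + 1 else j) := by
  ext k : 3
  simp only [SimplexCategory.comp_toOrderHom, OrderHom.comp_coe, Function.comp_apply, al_apply]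
  have hσ : ((SimplexCategory.σ i).toOrderHom k : ℕ) = if (k : ℕ) ≤ i then (k : ℕ) else k - 1 := by
    simp only [SimplexCategory.σ, SimplexCategory.mkHom, SimplexCategory.Hom.toOrderHom_mk]
    show ((Fin.predAbove i k : Fin (m + 1)) : ℕ) = _
    by_cases h1 : (k : ℕ) ≤ i
    · rw [if_pos h1, Fin.predAbove_of_le_castSucc i k (by simpa [Fin.le_def] using h1)]
      simp
    · rw [if_neg h1, Fin.predAbove_of_castSucc_lt i k (by simp [Fin.lt_def]; omega)]
      simp
  rw [hσ]
  split_ifs <;> first | rfl | (exfalso; omega)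

end Groth.Agent.H9.CK1

namespace Groth.Agent.H9.CK1

variable {E : Type u} [Category.{v} E]

/-- a natural family of maps indexed by the simplices of `Δ[1]`. -/
structure NatFam (A B : SimplicialObject E) where
  H : ∀ (m : ℕ) (_ : ⦋m⦌ ⟶ ⦋1⦌), (A _⦋m⦌ ⟶ B _⦋m⦌)
  nat : ∀ (m m' : ℕ) (θ : ⦋m'⦌ ⟶ ⦋m⦌) (α : ⦋m⦌ ⟶ ⦋1⦌),
    H m α ≫ B.map θ.op = A.map θ.op ≫ H m' (θ ≫ α)

variable {A B : SimplicialObject E}

lemma NatFam.natD (N : NatFam A B) (m j : ℕ) (i : Fin (m + 2)) :
    N.H (m + 1) (al (m + 1) j) ≫ B.δ i =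
      A.δ i ≫ N.H m (al m (if (i : ℕ) < j then j - 1 else j)) := by
  have := N.nat (m + 1) m (SimplexCategory.δ i) (al (m + 1) j)
  rw [δ_al] at this
  exact this

lemma NatFam.natS (N : NatFam A B) (m j : ℕ) (i : Fin (m + 1)) :
    N.H m (al m j) ≫ B.σ i =
      A.σ i ≫ N.H (m + 1) (al (m + 1) (if (i : ℕ) < j then j + 1 else j)) := by
  have := N.nat m (m + 1) (SimplexCategory.σ i) (al m j)
  rw [σ_al] at this
  exact this

/-- the combinatorial homotopy attached to a natural family. -/
noncomputable def homotopyOfNatFam {F G : A ⟶ B} (N : NatFam A B)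
    (h0 : ∀ m, N.H m (al m (m + 1)) = F.app (op ⦋m⦌))
    (h1 : ∀ m, N.H m (al m 0) = G.app (op ⦋m⦌)) : SimplicialObject.Homotopy F G where
  h {m} i := A.σ i ≫ N.H (m + 1) (al (m + 1) (i + 1))
  h_zero_comp_δ_zero n := by
    rw [Category.assoc, N.natD]
    have := A.δ_comp_σ_self (i := (0 : Fin (n + 1)))
    rw [Fin.castSucc_zero] at this
    rw [reassoc_of% this]
    simpa using h1 n
  h_last_comp_δ_last n := by
    rw [Category.assoc, N.natD]
    have := A.δ_comp_σ_succ (i := Fin.last n)
    rw [Fin.succ_last] at this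
    rw [reassoc_of% this]
    simpa using h0 n
  h_succ_comp_δ_castSucc_of_lt {n} i j hij := by
    rw [Category.assoc, N.natD, ← Category.assoc, A.δ_comp_σ_of_le hij, Category.assoc]
    congr 3
    have : (i : ℕ) ≤ j := hij
    simp only [Fin.val_succ, Fin.val_castSucc]
    congr 1; split_ifs <;> omega
  h_succ_comp_δ_castSucc_succ {n} j := by
    rw [Category.assoc, N.natD, Category.assoc, N.natD]
    have e1 := A.δ_comp_σ_self (i := j.succ)
    have e2 := A.δ_comp_σ_succ (i := j.castSucc)
    rw [← Fin.succ_castSucc] at e1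
    rw [reassoc_of% e1, reassoc_of% e2]
    congr 2
    simp only [Fin.val_succ, Fin.val_castSucc]
    split_ifs <;> omega
  h_castSucc_comp_δ_succ_of_lt {n} i j hji := by
    rw [Category.assoc, N.natD, ← Category.assoc, A.δ_comp_σ_of_gt hji, Category.assoc]
    congr 3
    have : (j : ℕ) < i := hji
    simp only [Fin.val_succ, Fin.val_castSucc]
    congr 1; split_ifs <;> omega
  h_comp_σ_castSucc_of_le {n} i j hij := by
    rw [Category.assoc, N.natS, ← Category.assoc, A.σ_comp_σ hij, Category.assoc]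
    congr 3
    have : (i : ℕ) ≤ j := hij
    simp only [Fin.val_succ, Fin.val_castSucc]
    congr 1; split_ifs <;> omega
  h_comp_σ_succ_of_lt {n} i j hji := by
    rw [Category.assoc, N.natS, ← Category.assoc, ← A.σ_comp_σ hji, Category.assoc]
    congr 3
    have : (j : ℕ) ≤ i := hji
    simp only [Fin.val_succ, Fin.val_castSucc]
    congr 1; split_ifs <;> omega

end Groth.Agent.H9.CK1
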