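import Mathlib

/-! Helper9: finiteness of the indexing category for coskeleta; pointwise Kan extensions -/

open CategoryTheory CategoryTheory.Limits Simplicial Opposite SimplexCategory

universe v u

namespace Groth.Agent.H9.CK2

variable (n : ℕ) (d : SimplexCategoryᵒᵖ)

/-- the indexing category of the pointwise formula for the coskeleton -/
abbrev SA := StructuredArrow d (SimplexCategory.Truncated.inclusion n).op

/-- a structured arrow from its explicit data -/
def mkSA (k : ℕ) (hk : k ≤ n) (θ : ⦋k⦌ ⟶ d.unop) : SA n d :=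
  StructuredArrow.mk (Y := op (⟨⦋k⦌, hk⟩ : SimplexCategory.Truncated n))
    (show d ⟶ (SimplexCategory.Truncated.inclusion n).op.obj
      (op (⟨⦋k⦌, hk⟩ : SimplexCategory.Truncated n)) from θ.op)

lemma mkSA_surj (s : SA n d) : ∃ (k : ℕ) (hk : k ≤ n) (θ : ⦋k⦌ ⟶ d.unop), mkSA n d k hk θ = s :=
  ⟨s.right.unop.obj.len, s.right.unop.property, s.hom.unop, rfl⟩

instance : Finite (SA n d) := by
  let α := Σ k : Fin (n + 1), (⦋(k : ℕ)⦌ ⟶ d.unop)
  have : Finite α := inferInstance
  refine Finite.of_surjective (fun a : α => mkSA n d a.1 (Nat.lt_succ_iff.mp a.1.2) a.2) ?_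
  intro s
  obtain ⟨k, hk, θ, rfl⟩ := mkSA_surj n d s
  exact ⟨⟨⟨k, Nat.lt_succ_iff.mpr hk⟩, θ⟩, rfl⟩

instance (s t : SA n d) : Finite (s ⟶ t) := by
  refine Finite.of_injective (fun φ : s ⟶ t => φ.right.unop.hom) ?_
  intro φ ψ h
  apply StructuredArrow.ext
  apply Quiver.Hom.unop_inj
  exact ObjectProperty.hom_ext _ h

noncomputable instance : FinCategory (SA n d) where
  fintypeObj := Fintype.ofFinite _
  fintypeHom := fun _ _ => Fintype.ofFinite _

variable {E : Type u} [Category.{v} E] [HasFiniteLimits E]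

instance (F : (SimplexCategory.Truncated n)ᵒᵖ ⥤ E) :
    (SimplexCategory.Truncated.inclusion n).op.HasPointwiseRightKanExtension F :=
  fun _ => inferInstance

end Groth.Agent.H9.CK2
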