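import Mathlib
import Groth.Agent.Lib.Helper9.Misc.CK1

/-! Helper9: homotopy between maps into a pointwise right Kan extension along the truncation inclusion -/

open CategoryTheory CategoryTheory.Limits Simplicial Opposite SimplexCategory

universe v u

namespace Groth.Agent.H9.CK3

open Groth.Agent.H9.CK1

variable {E : Type u} [Category.{v} E] (n : ℕ) {X X' : SimplicialObject E} (f g : X ⟶ X')

section key
variable (hfg : ∀ p : ℕ, p < n → f.app (op (SimplexCategory.mk p)) = g.app (op (SimplexCategory.mk p)))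
include hfg

lemma key_eq {a b : SimplexCategory} (ha : a.len ≤ n) (ψ : a ⟶ b) (hb : b.len ≤ n)
    (hψ : ¬ Function.Surjective ψ.toOrderHom) :
    X.map ψ.op ≫ f.app (op a) = X.map ψ.op ≫ g.app (op a) := by
  induction a using SimplexCategory.rec with | _ m' =>
  induction b using SimplexCategory.rec with | _ m =>
  have hm : m ≤ n := hb
  have hm' : m' ≤ n := ha
  rcases hm'.lt_or_eq with hlt | heq
  · rw [hfg m' hlt]
  · subst heq
    by_cases hinj : Function.Injective ψ.toOrderHom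
    · exfalso
      have h1 := Fintype.card_le_of_injective _ hinj
      simp only [SimplexCategory.len_mk, Fintype.card_fin] at h1
      have : m = m' := by omega
      subst this
      exact hψ (Finite.surjective_of_injective hinj)
    · obtain _ | n' := m'
      · exfalso
        apply hinj
        intro a b _
        have ha : a = (0 : Fin 1) := Fin.fin_one_eq_zero a
        have hb : b = (0 : Fin 1) := Fin.fin_one_eq_zero b
        exact ha.trans hb.symm
      · obtain ⟨i, θ', rfl⟩ := SimplexCategory.eq_σ_comp_of_not_injective ψ hinj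
        rw [op_comp, Functor.map_comp, Category.assoc, Category.assoc]
        have e0 := f.naturality (SimplexCategory.σ i).op
        have e1 := g.naturality (SimplexCategory.σ i).op
        rw [e0, e1, hfg n' (by omega)]

end key

end Groth.Agent.H9.CK3

namespace Groth.Agent.H9.CK3

open Groth.Agent.H9.CK1

variable {E : Type u} [Category.{v} E] (n : ℕ) {X X' : SimplicialObject E} (f g : X ⟶ X')

/-- the inclusion of the truncated simplex category, opposite -/
abbrev io (n : ℕ) := (SimplexCategory.Truncated.inclusion n).op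

/-- the truncated homotopy component -/
def phi (c : (SimplexCategory.Truncated n)ᵒᵖ) (β : c.unop.obj ⟶ ⦋1⦌) :
    (io n ⋙ X).obj c ⟶ (io n ⋙ X').obj c :=
  if β.toOrderHom 0 = 1 then g.app _ else f.app _

lemma phi_of_eq_one (c : (SimplexCategory.Truncated n)ᵒᵖ) (β : c.unop.obj ⟶ ⦋1⦌)
    (h : β.toOrderHom 0 = 1) : phi n f g c β = g.app _ := if_pos h

lemma phi_of_ne_one (c : (SimplexCategory.Truncated n)ᵒᵖ) (β : c.unop.obj ⟶ ⦋1⦌)
    (h : β.toOrderHom 0 ≠ 1) : phi n f g c β = f.app _ := if_neg h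

variable (hfg : ∀ p : ℕ, p < n → f.app (op (SimplexCategory.mk p)) = g.app (op (SimplexCategory.mk p)))
include hfg

lemma phi_nat {c c' : (SimplexCategory.Truncated n)ᵒᵖ} (u : c ⟶ c') (β : c.unop.obj ⟶ ⦋1⦌) :
    phi n f g c β ≫ (io n ⋙ X').map u = (io n ⋙ X).map u ≫ phi n f g c' (u.unop.hom ≫ β) := by
  have n0 : f.app (op c.unop.obj) ≫ X'.map u.unop.hom.op = X.map u.unop.hom.op ≫ f.app (op c'.unop.obj) :=
    (f.naturality u.unop.hom.op).symm
  have n1 : g.app (op c.unop.obj) ≫ X'.map u.unop.hom.op = X.map u.unop.hom.op ≫ g.app (op c'.unop.obj) :=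
    (g.naturality u.unop.hom.op).symm
  have hcomp : (u.unop.hom ≫ β).toOrderHom 0 = β.toOrderHom (u.unop.hom.toOrderHom 0) := rfl
  by_cases hb : β.toOrderHom 0 = 1
  · have h2 : (u.unop.hom ≫ β).toOrderHom 0 = 1 := by
      rw [hcomp]
      have hmono := β.toOrderHom.monotone (Fin.zero_le (u.unop.hom.toOrderHom 0))
      rw [hb] at hmono
      exact le_antisymm (Fin.le_last _) hmono
    rw [phi_of_eq_one _ _ _ _ _ hb, phi_of_eq_one _ _ _ _ _ h2]
    exact n1
  · by_cases h2 : (u.unop.hom ≫ β).toOrderHom 0 = 1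
    · rw [phi_of_ne_one _ _ _ _ _ hb, phi_of_eq_one _ _ _ _ _ h2]
      refine n0.trans ?_
      apply key_eq n f g hfg c'.unop.property u.unop.hom c.unop.property
      intro hsurj
      obtain ⟨x, hx⟩ := hsurj 0
      have h3 : u.unop.hom.toOrderHom 0 = 0 := by
        have := u.unop.hom.toOrderHom.monotone (Fin.zero_le x)
        rw [hx] at this
        exact le_antisymm this (Fin.zero_le _)
      rw [hcomp, h3] at h2
      exact hb h2
    · rw [phi_of_ne_one _ _ _ _ _ hb, phi_of_ne_one _ _ _ _ _ h2]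
      exact n0

end Groth.Agent.H9.CK3

namespace Groth.Agent.H9.CK3

open Groth.Agent.H9.CK1

variable {E : Type u} [Category.{v} E] (n : ℕ) {X X' : SimplicialObject E} (f g : X ⟶ X')
  (hfg : ∀ p : ℕ, p < n → f.app (op (SimplexCategory.mk p)) = g.app (op (SimplexCategory.mk p)))
  {A B : SimplicialObject E} (tA : io n ⋙ A ⟶ io n ⋙ X) (tB : io n ⋙ B ⟶ io n ⋙ X')
  (hB : (Functor.RightExtension.mk B tB).IsPointwiseRightKanExtension)

/-- the cone defining the homotopy component -/
def cone (m : ℕ) (α : ⦋m⦌ ⟶ ⦋1⦌) :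
    Cone (StructuredArrow.proj (op ⦋m⦌) (io n) ⋙ (io n ⋙ X')) where
  pt := A _⦋m⦌
  π :=
    { app := fun s => A.map s.hom ≫ tA.app s.right ≫ phi n f g s.right (s.hom.unop ≫ α)
      naturality := by
        intro s t u
        have hw := StructuredArrow.w u
        have e : t.hom.unop = u.right.unop.hom ≫ s.hom.unop := by rw [← hw]; rfl
        have h1 := phi_nat n f g hfg u.right (s.hom.unop ≫ α)
        have h2 := tA.naturality u.right
        show 𝟙 _ ≫ (A.map t.hom ≫ tA.app t.right ≫ phi n f g t.right (t.hom.unop ≫ α)) =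
          (A.map s.hom ≫ tA.app s.right ≫ phi n f g s.right (s.hom.unop ≫ α)) ≫
            (io n ⋙ X').map u.right
        rw [Category.id_comp, Category.assoc, Category.assoc, h1, ← Category.assoc (tA.app s.right),
          ← h2, e, ← hw]
        simp only [Functor.map_comp, Category.assoc, Functor.comp_map] }

end Groth.Agent.H9.CK3

namespace Groth.Agent.H9.CK3

open Groth.Agent.H9.CK1

variable {E : Type u} [Category.{v} E] (n : ℕ) {X X' : SimplicialObject E} (f g : X ⟶ X')
  (hfg : ∀ p : ℕ, p < n → f.app (op (SimplexCategory.mk p)) = g.app (op (SimplexCategory.mk p)))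
  {A B : SimplicialObject E} (tA : io n ⋙ A ⟶ io n ⋙ X) (tB : io n ⋙ B ⟶ io n ⋙ X')
  (hB : (Functor.RightExtension.mk B tB).IsPointwiseRightKanExtension)

/-- the homotopy components -/
noncomputable def HH (m : ℕ) (α : ⦋m⦌ ⟶ ⦋1⦌) : A _⦋m⦌ ⟶ B _⦋m⦌ :=
  (hB (op ⦋m⦌)).lift (cone n f g hfg tA m α)

lemma HH_fac (m : ℕ) (α : ⦋m⦌ ⟶ ⦋1⦌) (c : (SimplexCategory.Truncated n)ᵒᵖ)
    (ρ : op ⦋m⦌ ⟶ (io n).obj c) :
    HH n f g hfg tA tB hB m α ≫ B.map ρ ≫ tB.app c =
      A.map ρ ≫ tA.app c ≫ phi n f g c (ρ.unop ≫ α) :=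
  (hB (op ⦋m⦌)).fac (cone n f g hfg tA m α) (StructuredArrow.mk ρ)

/-- the natural family -/
noncomputable def natFam : NatFam A B where
  H := HH n f g hfg tA tB hB
  nat := by
    intro m m' θ α
    apply (hB (op ⦋m'⦌)).hom_ext'
    intro c ρ
    have h1 := HH_fac n f g hfg tA tB hB m α c (θ.op ≫ ρ)
    have h2 := HH_fac n f g hfg tA tB hB m' (θ ≫ α) c ρ
    show (HH n f g hfg tA tB hB m α ≫ B.map θ.op) ≫ B.map ρ ≫ tB.app c =
      (A.map θ.op ≫ HH n f g hfg tA tB hB m' (θ ≫ α)) ≫ B.map ρ ≫ tB.app c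
    rw [Category.assoc, ← Category.assoc (B.map θ.op), ← B.map_comp, h1, Category.assoc, h2,
      A.map_comp, Category.assoc]
    rfl

lemma natFam_zero (cf : A ⟶ B)
    (hcf : Functor.whiskerLeft (io n) cf ≫ tB = tA ≫ Functor.whiskerLeft (io n) f) (m : ℕ) :
    (natFam n f g hfg tA tB hB).H m (al m (m + 1)) = cf.app (op ⦋m⦌) := by
  apply (hB (op ⦋m⦌)).hom_ext'
  intro c ρ
  have h1 := HH_fac n f g hfg tA tB hB m (al m (m + 1)) c ρ
  have h2 := congrArg (fun t => t.app c) hcf
  show HH n f g hfg tA tB hB m (al m (m + 1)) ≫ B.map ρ ≫ tB.app c =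
    cf.app (op ⦋m⦌) ≫ B.map ρ ≫ tB.app c
  rw [h1, phi_of_ne_one]
  · have h3 : cf.app (op ⦋m⦌) ≫ B.map ρ = A.map ρ ≫ cf.app ((io n).obj c) := (cf.naturality ρ).symm
    rw [reassoc_of% h3]
    congr 1
    exact h2.symm
  · show (al m (m + 1)).toOrderHom (ρ.unop.toOrderHom 0) ≠ 1
    rw [al_apply, if_pos (Fin.is_lt _)]
    decide

lemma natFam_one (cg : A ⟶ B)
    (hcg : Functor.whiskerLeft (io n) cg ≫ tB = tA ≫ Functor.whiskerLeft (io n) g) (m : ℕ) :
    (natFam n f g hfg tA tB hB).H m (al m 0) = cg.app (op ⦋m⦌) := by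
  apply (hB (op ⦋m⦌)).hom_ext'
  intro c ρ
  have h1 := HH_fac n f g hfg tA tB hB m (al m 0) c ρ
  have h2 := congrArg (fun t => t.app c) hcg
  show HH n f g hfg tA tB hB m (al m 0) ≫ B.map ρ ≫ tB.app c =
    cg.app (op ⦋m⦌) ≫ B.map ρ ≫ tB.app c
  rw [h1, phi_of_eq_one]
  · have h3 : cg.app (op ⦋m⦌) ≫ B.map ρ = A.map ρ ≫ cg.app ((io n).obj c) := (cg.naturality ρ).symm
    rw [reassoc_of% h3]
    congr 1
    exact h2.symm
  · show (al m 0).toOrderHom (ρ.unop.toOrderHom 0) = 1
    rw [al_apply, if_neg (Nat.not_lt_zero _)]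

include hfg hB in
theorem gen (cf cg : A ⟶ B)
    (hcf : Functor.whiskerLeft (io n) cf ≫ tB = tA ≫ Functor.whiskerLeft (io n) f)
    (hcg : Functor.whiskerLeft (io n) cg ≫ tB = tA ≫ Functor.whiskerLeft (io n) g) :
    Nonempty (SimplicialObject.Homotopy cf cg) :=
  ⟨homotopyOfNatFam (natFam n f g hfg tA tB hB) (natFam_zero n f g hfg tA tB hB cf hcf)
    (natFam_one n f g hfg tA tB hB cg hcg)⟩

end Groth.Agent.H9.CK3
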