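import Mathlib
import Groth.Agent.Lib.Helper9.Misc.CK2
import Groth.Agent.Lib.Helper9.Misc.CK3

/-! Helper9: cosk_n of maps agreeing below n are simplicially homotopic (general category) -/

open CategoryTheory CategoryTheory.Limits Simplicial Opposite SimplexCategory

universe v u

namespace Groth.Agent.H9.CK4

open Groth.Agent.H9.CK1 Groth.Agent.H9.CK2 Groth.Agent.H9.CK3

theorem main {E : Type u} [Category.{v} E] [HasFiniteLimits E] (n : ℕ)
    [∀ (F : (SimplexCategory.Truncated n)ᵒᵖ ⥤ E),
      (SimplexCategory.Truncated.inclusion n).op.HasRightKanExtension F]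
    {X X' : SimplicialObject E} (f g : X ⟶ X')
    (hfg : ∀ p : ℕ, p < n → f.app (op (SimplexCategory.mk p)) = g.app (op (SimplexCategory.mk p))) :
    Nonempty (SimplicialObject.Homotopy ((SimplicialObject.cosk n).map f)
      ((SimplicialObject.cosk n).map g)) := by
  let tA := (SimplicialObject.coskAdj (C := E) n).counit.app ((SimplicialObject.truncation n).obj X)
  let tB := (SimplicialObject.coskAdj (C := E) n).counit.app ((SimplicialObject.truncation n).obj X')
  have inst : Functor.IsRightKanExtension ((SimplicialObject.Truncated.cosk n).obj
      ((SimplicialObject.truncation n).obj X')) tB :=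
    (inferInstance : ((SimplicialObject.cosk n).obj X').IsRightKanExtension
      ((SimplicialObject.coskAdj n).counit.app _))
  have hB : (Functor.RightExtension.mk ((SimplicialObject.cosk n).obj X') tB).IsPointwiseRightKanExtension :=
    Functor.isPointwiseRightKanExtensionOfIsRightKanExtension _ tB
  refine gen n f g hfg tA tB hB _ _ ?_ ?_
  · exact (SimplicialObject.coskAdj (C := E) n).counit.naturality
      ((SimplicialObject.truncation n).map f)
  · exact (SimplicialObject.coskAdj (C := E) n).counit.naturality
      ((SimplicialObject.truncation n).map g)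

end Groth.Agent.H9.CK4
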