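import Mathlib
import Groth.Agent.Lib.Helper9.Misc.CE2
import Groth.Agent.Lib.Helper7.AzQE0

/-! The canonical involution of the centre of the even Clifford algebra (helper9). -/

set_option autoImplicit false

open CliffordAlgebra QuadraticMap TensorProduct Groth.Agent.H9.QG Groth.Agent.H9.QO
  Groth.Agent.H9.CE

namespace Groth.Agent.H9.CLF

universe u v

variable {R : Type u} [CommRing R] {M : Type v} [AddCommGroup M] [Module R M]

section Sigma

variable (Q : QuadraticForm R M) (x₁ x₂ x₃ : M)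

/-- `a ↦ ι x₁ a ι x₁ - ι x₂ a ι x₂ - ι x₃ a ι x₃` -/
noncomputable def sigC : CliffordAlgebra Q →ₗ[R] CliffordAlgebra Q :=
  conjL Q x₁ - conjL Q x₂ - conjL Q x₃

theorem sigC_apply (a : CliffordAlgebra Q) :
    sigC Q x₁ x₂ x₃ a =
      ι Q x₁ * a * ι Q x₁ - ι Q x₂ * a * ι Q x₂ - ι Q x₃ * a * ι Q x₃ := by
  simp only [sigC, LinearMap.sub_apply, conjL_apply]

variable {Q x₁ x₂ x₃}
variable (hx : Q x₁ - Q x₂ - Q x₃ = 1)

include hx in
theorem expand (a : CliffordAlgebra Q) :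
    a = a * ι Q x₁ * ι Q x₁ - a * ι Q x₂ * ι Q x₂ - a * ι Q x₃ * ι Q x₃ := by
  rw [mul_assoc, mul_assoc, mul_assoc, ι_sq_scalar, ι_sq_scalar, ι_sq_scalar, ← mul_sub,
    ← mul_sub, ← map_sub, ← map_sub, hx, map_one, mul_one]

include hx in
theorem cancel_ι {a b : CliffordAlgebra Q} (h : ∀ v, a * ι Q v = b * ι Q v) : a = b := by
  calc a = a * ι Q x₁ * ι Q x₁ - a * ι Q x₂ * ι Q x₂ - a * ι Q x₃ * ι Q x₃ := expand hx a
    _ = b * ι Q x₁ * ι Q x₁ - b * ι Q x₂ * ι Q x₂ - b * ι Q x₃ * ι Q x₃ := by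
        rw [h x₁, h x₂, h x₃]
    _ = b := (expand hx b).symm

include hx in
theorem ι_mul_of_isZ {z : CliffordAlgebra Q} (hz : IsZ Q z) (v : M) :
    ι Q v * z = sigC Q x₁ x₂ x₃ z * ι Q v := by
  have key : ∀ x : M, ι Q x * z * ι Q x * ι Q v = Q x • (ι Q v * z) := by
    intro x
    have h1 : ι Q x * ι Q v ∈ evenOdd Q 0 :=
      mul_mem_11 Q (ι_mem_evenOdd_one Q x) (ι_mem_evenOdd_one Q v)
    have h2 := hz.2 _ h1
    calc ι Q x * z * ι Q x * ι Q v = ι Q x * (z * (ι Q x * ι Q v)) := by simp only [mul_assoc]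
      _ = ι Q x * (ι Q x * ι Q v * z) := by rw [h2]
      _ = (ι Q x * ι Q x) * (ι Q v * z) := by simp only [mul_assoc]
      _ = Q x • (ι Q v * z) := by rw [ι_sq_scalar, ← Algebra.smul_def]
  rw [sigC_apply, sub_mul, sub_mul, key, key, key, ← sub_smul, ← sub_smul, hx, one_smul]

include hx in
theorem ι_mul_sigC {z : CliffordAlgebra Q} (hz : IsZ Q z) (v : M) :
    ι Q v * sigC Q x₁ x₂ x₃ z = z * ι Q v := by
  have key : ∀ x : M, ι Q v * (ι Q x * z * ι Q x) = Q x • (z * ι Q v) := by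
    intro x
    have h1 : ι Q v * ι Q x ∈ evenOdd Q 0 :=
      mul_mem_11 Q (ι_mem_evenOdd_one Q v) (ι_mem_evenOdd_one Q x)
    have h2 := hz.2 _ h1
    calc ι Q v * (ι Q x * z * ι Q x) = (ι Q v * ι Q x * z) * ι Q x := by simp only [mul_assoc]
      _ = z * (ι Q v * ι Q x) * ι Q x := by rw [h2]
      _ = z * ι Q v * (ι Q x * ι Q x) := by simp only [mul_assoc]
      _ = Q x • (z * ι Q v) := by rw [ι_sq_scalar, ← Algebra.commutes, ← Algebra.smul_def]
  rw [sigC_apply, mul_sub, mul_sub, key, key, key, ← sub_smul, ← sub_smul, hx, one_smul]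

theorem sigC_mem_even {z : CliffordAlgebra Q} (hz : z ∈ evenOdd Q 0) :
    sigC Q x₁ x₂ x₃ z ∈ evenOdd Q 0 := by
  rw [sigC_apply]
  exact sub_mem (sub_mem (conj_even Q hz x₁) (conj_even Q hz x₂)) (conj_even Q hz x₃)

include hx in
theorem sigC_isZ [Module.Free R M] {n : ℕ} (b : Module.Basis (Fin n) R M) {z : CliffordAlgebra Q}
    (hz : IsZ Q z) : IsZ Q (sigC Q x₁ x₂ x₃ z) := by
  refine ⟨sigC_mem_even hz.1, fun c hc => ?_⟩
  apply comm_even_of_comm_basis Q b _ _ hc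
  intro i j
  rw [mul_assoc, ι_mul_sigC hx hz, ← mul_assoc, ← mul_assoc, ← ι_mul_of_isZ hx hz]

theorem isZ_mul {z z' : CliffordAlgebra Q} (hz : IsZ Q z) (hz' : IsZ Q z') : IsZ Q (z * z') :=
  ⟨mul_mem_00 Q hz.1 hz'.1, fun c hc => by
    rw [← mul_assoc, hz.2 c hc, mul_assoc, hz'.2 c hc, mul_assoc]⟩

theorem isZ_one : IsZ Q (1 : CliffordAlgebra Q) :=
  ⟨SetLike.one_mem_graded _, fun c _ => by rw [mul_one, one_mul]⟩

include hx in
theorem sigC_sigC [Module.Free R M] {n : ℕ} (b : Module.Basis (Fin n) R M) {z : CliffordAlgebra Q}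
    (hz : IsZ Q z) : sigC Q x₁ x₂ x₃ (sigC Q x₁ x₂ x₃ z) = z := by
  apply cancel_ι hx
  intro v
  rw [← ι_mul_of_isZ hx (sigC_isZ hx b hz), ι_mul_sigC hx hz]

include hx in
theorem sigC_mul {z z' : CliffordAlgebra Q} (hz : IsZ Q z) (hz' : IsZ Q z') :
    sigC Q x₁ x₂ x₃ (z * z') = sigC Q x₁ x₂ x₃ z * sigC Q x₁ x₂ x₃ z' := by
  apply cancel_ι hx
  intro v
  rw [← ι_mul_of_isZ hx (isZ_mul hz hz'), mul_assoc, ← ι_mul_of_isZ hx hz', ← mul_assoc,
    ι_mul_of_isZ hx hz, mul_assoc]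

include hx in
theorem sigC_one : sigC Q x₁ x₂ x₃ (1 : CliffordAlgebra Q) = 1 := by
  rw [sigC_apply, mul_one, mul_one, mul_one, ι_sq_scalar, ι_sq_scalar, ι_sq_scalar, ← map_sub,
    ← map_sub, hx, map_one]

include hx in
theorem central_of_sigC_eq {z : CliffordAlgebra Q} (hz : IsZ Q z)
    (h : sigC Q x₁ x₂ x₃ z = z) (c : CliffordAlgebra Q) : z * c = c * z := by
  apply central_of_comm_ι
  intro v
  rw [ι_mul_of_isZ hx hz, h]

end Sigma

section SigZ

variable [Module.Free R M] {Q : QuadraticForm R M} {x₁ x₂ x₃ : M}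
  (hx : Q x₁ - Q x₂ - Q x₃ = 1) {n : ℕ} (b : Module.Basis (Fin n) R M)

/-- the involution as a linear endomorphism of the centre of the even part -/
noncomputable def sigLin : ↥(Subalgebra.center R ↥(CliffordAlgebra.even Q)) →ₗ[R]
    ↥(Subalgebra.center R ↥(CliffordAlgebra.even Q)) :=
  LinearMap.codRestrict (Subalgebra.toSubmodule (Subalgebra.center R ↥(CliffordAlgebra.even Q)))
    (LinearMap.codRestrict (Subalgebra.toSubmodule (CliffordAlgebra.even Q))
      ((sigC Q x₁ x₂ x₃).comp ((CliffordAlgebra.even Q).val.toLinearMap.comp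
        (Subalgebra.center R ↥(CliffordAlgebra.even Q)).val.toLinearMap))
      (fun z => sigC_mem_even z.1.2))
    (fun z => (mem_center_iff_isZ Q _).mpr (sigC_isZ hx b ((mem_center_iff_isZ Q _).mp z.2)))

theorem sigLin_coe (z : ↥(Subalgebra.center R ↥(CliffordAlgebra.even Q))) :
    ((sigLin hx b z : ↥(CliffordAlgebra.even Q)) : CliffordAlgebra Q) =
      sigC Q x₁ x₂ x₃ ((z : ↥(CliffordAlgebra.even Q)) : CliffordAlgebra Q) := rfl

/-- the involution as an algebra endomorphism -/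
noncomputable def sigHom : ↥(Subalgebra.center R ↥(CliffordAlgebra.even Q)) →ₐ[R]
    ↥(Subalgebra.center R ↥(CliffordAlgebra.even Q)) :=
  AlgHom.ofLinearMap (sigLin hx b)
    (Subtype.ext (Subtype.ext (by rw [sigLin_coe]; exact sigC_one hx)))
    (fun z z' => Subtype.ext (Subtype.ext (by
      rw [sigLin_coe]
      exact sigC_mul hx ((mem_center_iff_isZ Q _).mp z.2) ((mem_center_iff_isZ Q _).mp z'.2))))

theorem sigHom_coe (z : ↥(Subalgebra.center R ↥(CliffordAlgebra.even Q))) :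
    ((sigHom hx b z : ↥(CliffordAlgebra.even Q)) : CliffordAlgebra Q) =
      sigC Q x₁ x₂ x₃ ((z : ↥(CliffordAlgebra.even Q)) : CliffordAlgebra Q) := rfl

theorem sigHom_sigHom (z : ↥(Subalgebra.center R ↥(CliffordAlgebra.even Q))) :
    sigHom hx b (sigHom hx b z) = z :=
  Subtype.ext (Subtype.ext (by
    rw [sigHom_coe, sigHom_coe]
    exact sigC_sigC hx b ((mem_center_iff_isZ Q _).mp z.2)))

/-- the canonical involution of the centre of the even Clifford algebra -/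
noncomputable def sigZ : ↥(Subalgebra.center R ↥(CliffordAlgebra.even Q)) ≃ₐ[R]
    ↥(Subalgebra.center R ↥(CliffordAlgebra.even Q)) :=
  AlgEquiv.ofAlgHom (sigHom hx b) (sigHom hx b)
    (AlgHom.ext fun z => sigHom_sigHom hx b z) (AlgHom.ext fun z => sigHom_sigHom hx b z)

theorem sigZ_coe (z : ↥(Subalgebra.center R ↥(CliffordAlgebra.even Q))) :
    ((sigZ hx b z : ↥(CliffordAlgebra.even Q)) : CliffordAlgebra Q) =
      sigC Q x₁ x₂ x₃ ((z : ↥(CliffordAlgebra.even Q)) : CliffordAlgebra Q) := rfl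

theorem sigZ_sigZ (z : ↥(Subalgebra.center R ↥(CliffordAlgebra.even Q))) :
    sigZ hx b (sigZ hx b z) = z := sigHom_sigHom hx b z

/-- `ι v z = σ(z) ι v` -/
theorem ι_mul_center (z : ↥(Subalgebra.center R ↥(CliffordAlgebra.even Q))) (v : M) :
    ι Q v * ((z : ↥(CliffordAlgebra.even Q)) : CliffordAlgebra Q) =
      ((sigZ hx b z : ↥(CliffordAlgebra.even Q)) : CliffordAlgebra Q) * ι Q v := by
  rw [sigZ_coe]
  exact ι_mul_of_isZ hx ((mem_center_iff_isZ Q _).mp z.2) v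

theorem isFixedRing_sigZ [IsAzumaya R (CliffordAlgebra Q)] :
    RInv.IsFixedRing R ↥(Subalgebra.center R ↥(CliffordAlgebra.even Q))
      (sigZ hx b).toRingEquiv := by
  constructor
  · intro r s h
    apply algebraMap_injective Q
    exact congrArg (fun z : ↥(Subalgebra.center R ↥(CliffordAlgebra.even Q)) =>
      ((z : ↥(CliffordAlgebra.even Q)) : CliffordAlgebra Q)) h
  · intro z
    constructor
    · intro h
      have h' : sigC Q x₁ x₂ x₃ ((z : ↥(CliffordAlgebra.even Q)) : CliffordAlgebra Q) =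
          ((z : ↥(CliffordAlgebra.even Q)) : CliffordAlgebra Q) := by
        rw [← sigZ_coe hx b z]
        exact congrArg (fun z : ↥(Subalgebra.center R ↥(CliffordAlgebra.even Q)) =>
          ((z : ↥(CliffordAlgebra.even Q)) : CliffordAlgebra Q)) h
      obtain ⟨r, hr⟩ := Groth.Agent.H7.LG.center_azumaya R (CliffordAlgebra Q) _
        (central_of_sigC_eq hx ((mem_center_iff_isZ Q _).mp z.2) h')
      exact ⟨r, Subtype.ext (Subtype.ext hr.symm)⟩
    · rintro ⟨r, rfl⟩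
      exact (sigZ hx b).commutes r

end SigZ

end Groth.Agent.H9.CLF
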