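import Mathlib
import Groth.Agent.Lib.Helper9.Misc.CLF1
import Groth.Agent.Lib.Helper9.Misc.CE3
import Groth.Agent.Lib.Helper9.Misc.QG8

/-! After base change to the centre of the even Clifford algebra there is a good idempotent
(helper9). -/

set_option autoImplicit false

open CliffordAlgebra QuadraticMap TensorProduct Groth.Agent.H9.QG Groth.Agent.H9.QO
  Groth.Agent.H9.CE

namespace Groth.Agent.H9.CLF

universe u

variable {R : Type u} [CommRing R] {M : Type u} [AddCommGroup M] [Module R M] [Module.Free R M]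

section GoodIdem

variable (Q : QuadraticForm R M)

/-- the centre of the even Clifford algebra, as an opaque type (to keep elaboration of base-changed
forms manageable) -/
def ZQ : Type u := ↥(Subalgebra.center R ↥(CliffordAlgebra.even Q))

noncomputable instance : CommRing (ZQ Q) :=
  inferInstanceAs (CommRing ↥(Subalgebra.center R ↥(CliffordAlgebra.even Q)))

noncomputable instance : Algebra R (ZQ Q) :=
  inferInstanceAs (Algebra R ↥(Subalgebra.center R ↥(CliffordAlgebra.even Q)))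

/-- the inclusion of the centre of the even part in the Clifford algebra -/
noncomputable def jZ : (ZQ Q) →ₐ[R] CliffordAlgebra Q :=
  (CliffordAlgebra.even Q).val.comp (Subalgebra.center R ↥(CliffordAlgebra.even Q)).val

theorem jZ_mem_even (z : ZQ Q) : jZ Q z ∈ evenOdd Q 0 :=
  (show ↥(Subalgebra.center R ↥(CliffordAlgebra.even Q)) from z).1.2

theorem ofTensor_jj_mem_even
    (t : (ZQ Q) ⊗[R]
      (ZQ Q)) :
    ofTensor (ZQ Q) Q (jj (jZ Q) t) ∈
      evenOdd (QuadGrp.baseChangeForm (ZQ Q) Q) 0 := by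
  induction t using TensorProduct.induction_on with
  | zero => rw [map_zero, map_zero]; exact zero_mem _
  | tmul a b =>
    rw [jj_tmul, ofTensor_tmul, ← Algebra.smul_def]
    exact Submodule.smul_mem _ _ (toBC_mem_even _ Q (jZ_mem_even Q b))
  | add x y hx hy => rw [map_add, map_add]; exact add_mem hx hy

variable {Q} {x₁ x₂ x₃ : M} (hx : Q x₁ - Q x₂ - Q x₃ = 1) {n : ℕ} (b : Module.Basis (Fin n) R M)

/-- the canonical involution on `ZQ` -/
noncomputable def sigQ : ZQ Q ≃ₐ[R] ZQ Q := sigZ hx b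

theorem sigQ_sigQ (z : ZQ Q) : sigQ hx b (sigQ hx b z) = z := sigZ_sigZ hx b z

theorem ι_mul_jZ (z : ZQ Q) (v : M) : ι Q v * jZ Q z = jZ Q (sigQ hx b z) * ι Q v :=
  ι_mul_center hx b z v

theorem one_tmul_ι_mul_jj (v : M)
    (t : (ZQ Q) ⊗[R]
      (ZQ Q)) :
    ((1 : (ZQ Q)) ⊗ₜ[R] ι Q v) * jj (jZ Q) t =
      jj (jZ Q) (Groth.Agent.H7.AzQE.tw (sigQ hx b) t) *
        ((1 : (ZQ Q)) ⊗ₜ[R] ι Q v) := by
  induction t using TensorProduct.induction_on with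
  | zero => rw [map_zero, mul_zero, map_zero, map_zero, zero_mul]
  | tmul c d =>
    rw [Groth.Agent.H7.AzQE.tw_tmul, jj_tmul, jj_tmul, Algebra.TensorProduct.tmul_mul_tmul,
      Algebra.TensorProduct.tmul_mul_tmul, one_mul, mul_one, ι_mul_jZ hx b d v]
  | add x y hx' hy' => rw [map_add, mul_add, hx', hy', map_add, map_add, add_mul]

variable (e₀ : (ZQ Q) ⊗[R]
      (ZQ Q))
  (h1 : ∀ r : (ZQ Q),
    e₀ * (r ⊗ₜ[R] 1) = e₀ * (1 ⊗ₜ[R] r))
  (h2 : Algebra.TensorProduct.lmul' R e₀ = 1)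
  (h4 : e₀ + Groth.Agent.H7.AzQE.tw (sigQ hx b) e₀ = 1)

include h1 h2 in
theorem jj_e₀_idem : jj (jZ Q) e₀ * jj (jZ Q) e₀ = jj (jZ Q) e₀ := by
  rw [← map_mul, E_idem e₀ (fun z => by rw [mul_comm, mul_comm (z ⊗ₜ[R] 1)]; exact (h1 z).symm) h2]

include h4 in
theorem jj_e₀_mul_ι (a : (ZQ Q)) (v : M) :
    jj (jZ Q) e₀ * (a ⊗ₜ[R] ι Q v) =
      (a ⊗ₜ[R] ι Q v) * jj (jZ Q) (Groth.Agent.H7.AzQE.tw (sigQ hx b) e₀) := by
  have h5 : jj (jZ Q) e₀ + jj (jZ Q) (Groth.Agent.H7.AzQE.tw (sigQ hx b) e₀) = 1 := by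
    rw [← map_add, h4, map_one]
  have h6 := one_tmul_ι_mul_jj hx b v e₀
  have hA : jj (jZ Q) e₀ * ((1 : (ZQ Q)) ⊗ₜ[R] ι Q v) +
      ((1 : (ZQ Q)) ⊗ₜ[R] ι Q v) * jj (jZ Q) e₀ = (1 : (ZQ Q)) ⊗ₜ[R] ι Q v := by
    rw [h6, ← add_mul, h5, one_mul]
  have hB : ((1 : (ZQ Q)) ⊗ₜ[R] ι Q v) * jj (jZ Q) (Groth.Agent.H7.AzQE.tw (sigQ hx b) e₀) +
      ((1 : (ZQ Q)) ⊗ₜ[R] ι Q v) * jj (jZ Q) e₀ = (1 : (ZQ Q)) ⊗ₜ[R] ι Q v := by
    rw [← mul_add, add_comm, h5, mul_one]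
  have h7 : jj (jZ Q) e₀ * ((1 : (ZQ Q)) ⊗ₜ[R] ι Q v) =
      ((1 : (ZQ Q)) ⊗ₜ[R] ι Q v) * jj (jZ Q) (Groth.Agent.H7.AzQE.tw (sigQ hx b) e₀) :=
    add_right_cancel (hA.trans hB.symm)
  have h8 : (a ⊗ₜ[R] ι Q v) = algebraMap (ZQ Q)
      ((ZQ Q) ⊗[R] CliffordAlgebra Q) a *
      ((1 : (ZQ Q)) ⊗ₜ[R] ι Q v) := by
    rw [Algebra.TensorProduct.algebraMap_apply, Algebra.TensorProduct.tmul_mul_tmul, one_mul]
    simp
  rw [h8, ← mul_assoc, ← Algebra.commutes, mul_assoc, h7, mul_assoc]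

include h1 h2 h4 in
theorem good_of_e₀ :
    Good (QuadGrp.baseChangeForm (ZQ Q) Q)
      (ofTensor (ZQ Q) Q (jj (jZ Q) e₀)) ∧
    ofTensor (ZQ Q) Q (jj (jZ Q) e₀) *
      ofTensor (ZQ Q) Q (jj (jZ Q) e₀) =
      ofTensor (ZQ Q) Q (jj (jZ Q) e₀) := by
  have hidem : ofTensor (ZQ Q) Q (jj (jZ Q) e₀) *
      ofTensor (ZQ Q) Q (jj (jZ Q) e₀) =
      ofTensor (ZQ Q) Q (jj (jZ Q) e₀) := by
    rw [← map_mul, jj_e₀_idem e₀ h1 h2]
  refine ⟨⟨ofTensor_jj_mem_even Q e₀, ?_, ?_⟩, hidem⟩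
  · intro x
    induction x using TensorProduct.induction_on with
    | zero => rw [map_zero, mul_zero, zero_mul]
    | tmul a v =>
      have h9 : (1 : CliffordAlgebra (QuadGrp.baseChangeForm (ZQ Q) Q)) -
          ofTensor (ZQ Q) Q (jj (jZ Q) e₀) =
          ofTensor (ZQ Q) Q (jj (jZ Q) (Groth.Agent.H7.AzQE.tw (sigQ hx b) e₀)) := by
        rw [sub_eq_iff_eq_add, ← map_add, ← map_add, add_comm, h4, map_one, map_one]
      rw [h9, ← ofTensor_tmul_ι, ← map_mul, ← map_mul, jj_e₀_mul_ι hx b e₀ h4]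
    | add x y hx' hy' => rw [map_add, mul_add, add_mul, hx', hy']
  · generalize ofTensor (ZQ Q) Q (jj (jZ Q) e₀) = y at hidem ⊢
    have h : (1 - 2 * y) * (1 - 2 * y) = 1 := by
      calc (1 - 2 * y) * (1 - 2 * y) = 1 - 4 * y + 4 * (y * y) := by noncomm_ring
        _ = 1 := by rw [hidem]; abel
    exact ⟨⟨1 - 2 * y, 1 - 2 * y, h, h⟩, rfl⟩

end GoodIdem

section Exists

variable [Module.Finite R M]

/-- after base change to the centre of the even Clifford algebra there is a good idempotent -/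
theorem exists_good_idem (m : ℕ) (hm : 1 ≤ m) (hM : Module.finrank R M = 2 * m)
    (Q : QuadraticForm R M) (hQ : QuadGrp.IsRegular Q) :
    ∃ y : CliffordAlgebra
        (QuadGrp.baseChangeForm (ZQ Q) Q),
      Good (QuadGrp.baseChangeForm (ZQ Q) Q) y ∧
        y * y = y := by
  haveI : Nontrivial R := by
    rcases subsingleton_or_nontrivial R with h | h
    · exfalso
      have := Module.finrank_subsingleton (R := R) (M := M)
      omega
    · exact h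
  haveI : IsAzumaya R (CliffordAlgebra Q) := isAzumaya_clifford Q hQ m hM
  have hn : 0 < Module.finrank R M := by omega
  obtain ⟨x₁, x₂, x₃, hx⟩ := exists_three (Module.finBasis R M) hn Q hQ
  have hfin := finite_center Q x₁ x₂ x₃ hx
  have hproj := projective_center Q x₁ x₂ x₃ hx
  have hunr := formallyUnramified_center m hm hM Q hQ
  have hrank := rankAtStalk_center m hm hM Q hQ
  obtain ⟨e₀, h1, h2, -, h4⟩ := Groth.Agent.H7.AzQE.exists_e₀
    (S := R) (R := ZQ Q)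
    (sigQ hx (Module.finBasis R M)) (sigQ_sigQ hx (Module.finBasis R M))
    (isFixedRing_sigZ hx (Module.finBasis R M)) ⟨hfin, hproj, hunr, hrank⟩
  exact ⟨_, good_of_e₀ hx (Module.finBasis R M) e₀ h1 h2 h4⟩

end Exists

end Groth.Agent.H9.CLF
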