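import Mathlib
import Groth.Agent.Lib.Helper9.Misc.CE2
import Groth.Agent.Lib.Helper9.Misc.QG8
import Groth.Agent.Lib.Helper9.Misc.QO8
import Groth.Agent.Lib.Helper7.Corner2
import Groth.Agent.Lib.Helper7.AzQE3

/-! In the presence of a good idempotent and a vector of unit value, the even Clifford algebra
is a product of two copies of an Azumaya algebra and splits étale locally (helper9). -/

set_option autoImplicit false

open CliffordAlgebra QuadraticMap TensorProduct Groth.Agent.H9.QG Groth.Agent.H9.QO
  Groth.Agent.H9.CE Groth.Agent.H7.Corner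

namespace Groth.Agent.H9.CLF

universe u

variable {R : Type u} [CommRing R] {M : Type u} [AddCommGroup M] [Module R M]

section Conj

variable {Q : QuadraticForm R M} {y : CliffordAlgebra Q} (hy : Good Q y) (hyy : y * y = y)
  (v : M) (q' : R) (hq : Q v * q' = 1)

/-- conjugation by `ι v` -/
noncomputable def conjC (Q : QuadraticForm R M) (v : M) (q' : R) :
    CliffordAlgebra Q →ₗ[R] CliffordAlgebra Q := q' • conjL Q v

theorem conjC_apply (c : CliffordAlgebra Q) : conjC Q v q' c = q' • (ι Q v * c * ι Q v) := by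
  simp only [conjC, LinearMap.smul_apply, conjL_apply]

include hq in
theorem conjC_mul (a c : CliffordAlgebra Q) :
    conjC Q v q' (a * c) = conjC Q v q' a * conjC Q v q' c := by
  rw [conjC_apply, conjC_apply, conjC_apply, smul_mul_smul_comm]
  have h : ι Q v * a * ι Q v * (ι Q v * c * ι Q v) = Q v • (ι Q v * (a * c) * ι Q v) := by
    calc ι Q v * a * ι Q v * (ι Q v * c * ι Q v)
        = ι Q v * a * (ι Q v * ι Q v) * c * ι Q v := by simp only [mul_assoc]
      _ = Q v • (ι Q v * (a * c) * ι Q v) := by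
        rw [ι_sq_scalar, Algebra.algebraMap_eq_smul_one]
        simp only [mul_smul_comm, smul_mul_assoc, mul_one, mul_assoc]
  have e : q' * q' * Q v = q' := by rw [mul_assoc, mul_comm q' (Q v), hq, mul_one]
  rw [h, smul_smul, e]

include hq in
theorem conjC_one : conjC Q v q' (1 : CliffordAlgebra Q) = 1 := by
  rw [conjC_apply, mul_one, ι_sq_scalar, Algebra.algebraMap_eq_smul_one, smul_smul, mul_comm, hq,
    one_smul]

include hq in
theorem conjC_conjC (c : CliffordAlgebra Q) : conjC Q v q' (conjC Q v q' c) = c := by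
  rw [conjC_apply, conjC_apply]
  have h : ι Q v * q' • (ι Q v * c * ι Q v) * ι Q v = (q' * (Q v * Q v)) • c := by
    calc ι Q v * q' • (ι Q v * c * ι Q v) * ι Q v
        = q' • ((ι Q v * ι Q v) * c * (ι Q v * ι Q v)) := by
          simp only [mul_smul_comm, smul_mul_assoc, mul_assoc]
      _ = (q' * (Q v * Q v)) • c := by
        rw [ι_sq_scalar, Algebra.algebraMap_eq_smul_one]
        simp only [mul_smul_comm, smul_mul_assoc, mul_one, one_mul, smul_smul]
  rw [h, smul_smul]
  have : q' * (q' * (Q v * Q v)) = (Q v * q') * (Q v * q') := by ring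
  rw [this, hq, one_mul, one_smul]

include hy hq in
theorem conjC_y : conjC Q v q' y = 1 - y := by
  rw [conjC_apply, ← hy.comm' v, mul_assoc, ι_sq_scalar, Algebra.algebraMap_eq_smul_one,
    mul_smul_comm, mul_one, smul_smul, mul_comm, hq, one_smul]

theorem conjC_mem_even {c : CliffordAlgebra Q} (hc : c ∈ evenOdd Q 0) :
    conjC Q v q' c ∈ evenOdd Q 0 := by
  rw [conjC_apply]
  exact Submodule.smul_mem _ _ (conj_even Q hc v)

include hy hyy in
theorem y_mul_one_sub : y * (1 - y) = 0 := by rw [mul_sub, mul_one, hyy, sub_self]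

include hy hyy in
theorem one_sub_mul_y : (1 - y) * y = 0 := by rw [sub_mul, one_mul, hyy, sub_self]

include hy hyy in
theorem corner_mem_even (c : CliffordAlgebra Q) : y * c * y ∈ evenOdd Q 0 := by
  have h1 : y * e₁ Q c * y = 0 := by
    rw [hy.comm_odd (e₁_mem Q c), mul_assoc, one_sub_mul_y hy hyy, mul_zero]
  have h2 : y * c * y = y * e₀ Q c * y := by
    conv_lhs => rw [← e₀_add_e₁ Q c]
    rw [mul_add, add_mul, h1, add_zero]
  rw [h2]
  exact mul_mem_00 Q (mul_mem_00 Q hy.even (e₀_mem Q c)) hy.even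

include hy hyy in
theorem corner_mul {c c' : CliffordAlgebra Q} (hc : c ∈ evenOdd Q 0) :
    y * (c * c') * y = (y * c * y) * (y * c' * y) := by
  symm
  calc (y * c * y) * (y * c' * y) = y * c * (y * y) * c' * y := by simp only [mul_assoc]
    _ = y * (c * y) * c' * y := by rw [hyy]; simp only [mul_assoc]
    _ = y * (y * c) * c' * y := by rw [hy.comm_even hc]
    _ = (y * y) * c * c' * y := by simp only [mul_assoc]
    _ = y * (c * c') * y := by rw [hyy]; simp only [mul_assoc]

end Conj

section Split

variable [Module.Free R M] [Module.Finite R M]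
variable {Q : QuadraticForm R M} {y : CliffordAlgebra Q} (hy : Good Q y) (hyy : y * y = y)
  (v : M) (q' : R) (hq : Q v * q' = 1)

/-- first projection `C⁺ → y C y` -/
noncomputable def f₁ (he : IsIdempotentElem y) : ↥(CliffordAlgebra.even Q) →ₐ[R] he.Corner :=
  AlgHom.ofLinearMap ((cretr R he).comp (CliffordAlgebra.even Q).val.toLinearMap)
    (Subtype.ext (by
      show y * ((1 : ↥(CliffordAlgebra.even Q)) : CliffordAlgebra Q) * y = y
      rw [Subalgebra.coe_one, mul_one, he.eq]))
    (fun b b' => Subtype.ext (by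
      show y * ((b * b' : ↥(CliffordAlgebra.even Q)) : CliffordAlgebra Q) * y =
        (y * (b : CliffordAlgebra Q) * y) * (y * (b' : CliffordAlgebra Q) * y)
      rw [Subalgebra.coe_mul]
      exact corner_mul hy he.eq b.2))

theorem f₁_val (he : IsIdempotentElem y) (b : ↥(CliffordAlgebra.even Q)) :
    (f₁ hy he b).1 = y * (b : CliffordAlgebra Q) * y := rfl

/-- second projection `C⁺ → y C y`, twisted by the conjugation -/
noncomputable def f₂ (he : IsIdempotentElem y) : ↥(CliffordAlgebra.even Q) →ₐ[R] he.Corner :=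
  AlgHom.ofLinearMap ((cretr R he).comp ((conjC Q v q').comp
      (CliffordAlgebra.even Q).val.toLinearMap))
    (Subtype.ext (by
      show y * conjC Q v q' ((1 : ↥(CliffordAlgebra.even Q)) : CliffordAlgebra Q) * y = y
      rw [Subalgebra.coe_one, conjC_one v q' hq, mul_one, he.eq]))
    (fun b b' => Subtype.ext (by
      show y * conjC Q v q' ((b * b' : ↥(CliffordAlgebra.even Q)) : CliffordAlgebra Q) * y =
        (y * conjC Q v q' (b : CliffordAlgebra Q) * y) *
          (y * conjC Q v q' (b' : CliffordAlgebra Q) * y)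
      rw [Subalgebra.coe_mul, conjC_mul v q' hq]
      exact corner_mul hy he.eq (conjC_mem_even v q' b.2)))

theorem f₂_val (he : IsIdempotentElem y) (b : ↥(CliffordAlgebra.even Q)) :
    (f₂ hy v q' hq he b).1 = y * conjC Q v q' (b : CliffordAlgebra Q) * y := rfl

/-- `C⁺ → y C y × y C y` -/
noncomputable def FF (he : IsIdempotentElem y) :
    ↥(CliffordAlgebra.even Q) →ₐ[R] he.Corner × he.Corner :=
  (f₁ hy he).prod (f₂ hy v q' hq he)

/-- the inverse of `FF` -/
noncomputable def GG (he : IsIdempotentElem y) (x : he.Corner × he.Corner) :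
    ↥(CliffordAlgebra.even Q) :=
  ⟨x.1.1 + conjC Q v q' x.2.1, by
    obtain ⟨c₁, h₁⟩ := x.1.2
    obtain ⟨c₂, h₂⟩ := x.2.2
    have e1 : x.1.1 ∈ evenOdd Q 0 := by
      have : y * c₁ * y = x.1.1 := h₁
      rw [← this]; exact corner_mem_even hy he.eq c₁
    have e2 : x.2.1 ∈ evenOdd Q 0 := by
      have : y * c₂ * y = x.2.1 := h₂
      rw [← this]; exact corner_mem_even hy he.eq c₂
    exact add_mem e1 (conjC_mem_even v q' e2)⟩

include hy hq in
theorem y_conjC_corner (he : IsIdempotentElem y) (x : he.Corner) :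
    y * conjC Q v q' x.1 * y = 0 := by
  have h1 : x.1 = y * x.1 * y := by rw [corner_left, corner_right]
  rw [h1, conjC_mul v q' hq, conjC_mul v q' hq, conjC_y hy v q' hq]
  calc y * ((1 - y) * conjC Q v q' x.1 * (1 - y)) * y
      = (y * (1 - y)) * conjC Q v q' x.1 * ((1 - y) * y) := by simp only [mul_assoc]
    _ = 0 := by rw [y_mul_one_sub hy he.eq, zero_mul, zero_mul]

include hy hq in
theorem FF_GG (he : IsIdempotentElem y) (x : he.Corner × he.Corner) :
    FF hy v q' hq he (GG hy v q' he x) = x := by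
  apply Prod.ext
  · apply Subtype.ext
    show y * (x.1.1 + conjC Q v q' x.2.1) * y = x.1.1
    rw [mul_add, add_mul, y_conjC_corner hy v q' hq he x.2, add_zero, corner_left, corner_right]
  · apply Subtype.ext
    show y * conjC Q v q' (x.1.1 + conjC Q v q' x.2.1) * y = x.2.1
    rw [map_add, conjC_conjC v q' hq, mul_add, add_mul, y_conjC_corner hy v q' hq he x.1, zero_add,
      corner_left, corner_right]

include hy hq in
theorem GG_FF (he : IsIdempotentElem y) (b : ↥(CliffordAlgebra.even Q)) :
    GG hy v q' he (FF hy v q' hq he b) = b := by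
  apply Subtype.ext
  show y * (b : CliffordAlgebra Q) * y +
    conjC Q v q' (y * conjC Q v q' (b : CliffordAlgebra Q) * y) = b
  rw [conjC_mul v q' hq, conjC_mul v q' hq, conjC_conjC v q' hq, conjC_y hy v q' hq]
  have hc := hy.comm_even b.2
  have h1 : y * (b : CliffordAlgebra Q) * y = y * (b : CliffordAlgebra Q) := by
    rw [mul_assoc, ← hc, ← mul_assoc, he.eq]
  have h2 : (1 - y) * (b : CliffordAlgebra Q) * (1 - y) = (1 - y) * (b : CliffordAlgebra Q) := by
    have hc' : (b : CliffordAlgebra Q) * (1 - y) = (1 - y) * (b : CliffordAlgebra Q) := by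
      rw [mul_sub, sub_mul, mul_one, one_mul, hc]
    rw [mul_assoc, hc', ← mul_assoc]
    have : (1 - y) * (1 - y) = 1 - y := by
      rw [mul_sub, mul_one, sub_mul, one_mul, he.eq, sub_self, sub_zero]
    rw [this]
  rw [h1, h2, sub_mul, one_mul]
  abel

/-- `C⁺ ≃ y C y × y C y` -/
noncomputable def PhiS (he : IsIdempotentElem y) :
    ↥(CliffordAlgebra.even Q) ≃ₐ[R] he.Corner × he.Corner :=
  AlgEquiv.ofBijective (FF hy v q' hq he)
    ⟨Function.LeftInverse.injective (GG_FF hy v q' hq he),
      Function.RightInverse.surjective (FF_GG hy v q' hq he)⟩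

/-- `C ≃ C⁺ × C⁺` as modules -/
noncomputable def Theta : CliffordAlgebra Q ≃ₗ[R]
    ↥(CliffordAlgebra.even Q) × ↥(CliffordAlgebra.even Q) :=
  LinearEquiv.ofLinear
    ((evenProj Q).prod ((evenProj Q).comp (LinearMap.mulLeft R (ι Q v))))
    ((CliffordAlgebra.even Q).val.toLinearMap.coprod
      ((q' • LinearMap.mulLeft R (ι Q v)).comp (CliffordAlgebra.even Q).val.toLinearMap))
    (by
      apply LinearMap.ext
      rintro ⟨a, b⟩
      have hodd1 : ι Q v * (b : CliffordAlgebra Q) ∈ evenOdd Q 1 :=
        mul_mem_10 Q (ι_mem_evenOdd_one Q v) b.2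
      have hodd2 : ι Q v * (a : CliffordAlgebra Q) ∈ evenOdd Q 1 :=
        mul_mem_10 Q (ι_mem_evenOdd_one Q v) a.2
      apply Prod.ext
      · apply Subtype.ext
        show e₀ Q ((a : CliffordAlgebra Q) + q' • (ι Q v * (b : CliffordAlgebra Q))) = a
        exact e₀_add Q a.2 (Submodule.smul_mem _ _ hodd1)
      · apply Subtype.ext
        show e₀ Q (ι Q v * ((a : CliffordAlgebra Q) + q' • (ι Q v * (b : CliffordAlgebra Q)))) = b
        have h : ι Q v * ((a : CliffordAlgebra Q) + q' • (ι Q v * (b : CliffordAlgebra Q))) =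
            (b : CliffordAlgebra Q) + ι Q v * (a : CliffordAlgebra Q) := by
          rw [mul_add, mul_smul_comm, ← mul_assoc, ι_sq_scalar, Algebra.algebraMap_eq_smul_one,
            smul_mul_assoc, one_mul, smul_smul, mul_comm, hq, one_smul, add_comm]
        rw [h]
        exact e₀_add Q b.2 hodd2)
    (by
      apply LinearMap.ext
      intro c
      show e₀ Q c + q' • (ι Q v * e₀ Q (ι Q v * c)) = c
      have h : e₀ Q (ι Q v * c) = ι Q v * e₁ Q c := by
        rw [e₀_mul, e₀_of_mem_odd Q (ι_mem_evenOdd_one Q v), e₁_of_mem Q (ι_mem_evenOdd_one Q v),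
          zero_mul, zero_add]
      rw [h, ← mul_assoc, ι_sq_scalar, Algebra.algebraMap_eq_smul_one, smul_mul_assoc, one_mul,
        smul_smul, mul_comm, hq, one_smul, e₀_add_e₁])

include hy hq in
theorem rank_corner [IsAzumaya R (CliffordAlgebra Q)] (he : IsIdempotentElem y) (m : ℕ)
    (hm : 1 ≤ m) (hM : Module.finrank R M = 2 * m) (p : PrimeSpectrum R) :
    Module.rankAtStalk (R := R) he.Corner p = (2 ^ (m - 1)) ^ 2 := by
  haveI := p.nontrivial
  haveI : Module.Finite R ↥(CliffordAlgebra.even Q) := finite_even Q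
  haveI : Module.Projective R ↥(CliffordAlgebra.even Q) := projective_even Q
  haveI : Module.Free R (CliffordAlgebra Q) := free_clifford' (Module.finBasis R M) Q
  have h1 := Module.rankAtStalk_eq_of_equiv (Theta (Q := Q) v q' hq)
  rw [Module.rankAtStalk_prod, Module.rankAtStalk_eq_finrank_of_free,
    finrank_clifford (Module.finBasis R M) Q, hM] at h1
  have h2 := Module.rankAtStalk_eq_of_equiv (PhiS hy v q' hq he).toLinearEquiv
  rw [Module.rankAtStalk_prod] at h2
  have h1p := congrFun h1 p
  have h2p := congrFun h2 p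
  simp only [Pi.add_apply] at h1p h2p
  have h3 : (2 : ℕ) ^ (2 * m) = 4 * (2 ^ (m - 1)) ^ 2 := by
    obtain ⟨k, rfl⟩ : ∃ k, m = k + 1 := ⟨m - 1, by omega⟩
    simp only [Nat.add_sub_cancel]
    ring
  have h1p' : (2 : ℕ) ^ (2 * m) = Module.rankAtStalk (R := R) ↥(CliffordAlgebra.even Q) p +
      Module.rankAtStalk (R := R) ↥(CliffordAlgebra.even Q) p := by
    simpa using h1p
  omega

include hy hq in
/-- the corner of a good idempotent is Azumaya -/
theorem isAzumaya_corner [IsAzumaya R (CliffordAlgebra Q)] (he : IsIdempotentElem y)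
    (hv : IsUnit (Q v)) : IsAzumaya R he.Corner := by
  have hfaith : FaithfulSMul R he.Corner := by
    rw [faithfulSMul_iff_algebraMap_injective, injective_iff_map_eq_zero]
    intro r hr
    have h1 := congrArg Subtype.val hr
    rw [Algebra.algebraMap_eq_smul_one, corner_val_smul, corner_val_one, corner_val_zero] at h1
    have h2 : algebraMap R (CliffordAlgebra Q) 0 + r • y = 0 := by rw [map_zero, zero_add, h1]
    exact (indep hy v hv h2).2
  exact { toProjective := inferInstance
          toFaithfulSMul := hfaith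
          toFinite := inferInstance
          bij := corner_mulLeftRight_bijective R he IsAzumaya.bij }

include hy hyy in
/-- in the presence of a good idempotent and a vector of unit value the even Clifford algebra splits
étale locally as a product of two matrix algebras -/
theorem split_of_good_idem (m : ℕ) (hm : 1 ≤ m) (hM : Module.finrank R M = 2 * m)
    (hQ : QuadGrp.IsRegular Q) (hv : IsUnit (Q v)) :
    ∃ (R' : Type u) (_ : CommRing R') (_ : Algebra R R'), Algebra.Etale R R' ∧
      Module.FaithfullyFlat R R' ∧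
      Nonempty ((R' ⊗[R] ↥(CliffordAlgebra.even Q)) ≃ₐ[R']
        (Matrix (Fin (2 ^ (m - 1))) (Fin (2 ^ (m - 1))) R' ×
          Matrix (Fin (2 ^ (m - 1))) (Fin (2 ^ (m - 1))) R')) := by
  haveI : Nontrivial R := by
    rcases subsingleton_or_nontrivial R with h | h
    · exfalso
      have := Module.finrank_subsingleton (R := R) (M := M)
      omega
    · exact h
  haveI : IsAzumaya R (CliffordAlgebra Q) := isAzumaya_clifford Q hQ m hM
  obtain ⟨u, hu⟩ := hv
  have hq : Q v * (↑u⁻¹ : R) = 1 := by rw [← hu, Units.mul_inv]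
  have he : IsIdempotentElem y := hyy
  haveI : IsAzumaya R he.Corner := isAzumaya_corner hy v _ hq he ⟨u, hu⟩
  obtain ⟨R', hR'c, hR'a, het, hff, ⟨φ⟩⟩ :=
    Groth.Agent.H7.AzQE.exists_global_etale_splitting R he.Corner (2 ^ (m - 1))
      (rank_corner hy v _ hq he m hm hM) (by positivity)
  refine ⟨R', hR'c, hR'a, het, hff, ⟨?_⟩⟩
  exact ((Algebra.TensorProduct.congr (AlgEquiv.refl : R' ≃ₐ[R'] R')
    (PhiS hy v _ hq he)).trans
    (Algebra.TensorProduct.prodRight R R' R' he.Corner he.Corner)).trans
    (AlgEquiv.prodCongr φ φ)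

end Split

end Groth.Agent.H9.CLF
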