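import Mathlib
import Groth.Agent.Lib.Helper9.Misc.CLF2
import Groth.Agent.Lib.Helper9.Misc.CLF3
import Groth.Agent.Lib.Helper7.AzFibre
import Groth.Agent.Lib.Helper7.AzQE4

/-! The even Clifford algebra of a regular form of even rank splits étale locally as a product of
two matrix algebras (helper9). -/

set_option autoImplicit false

open CliffordAlgebra QuadraticMap TensorProduct Groth.Agent.H9.QG Groth.Agent.H9.QO
  Groth.Agent.H9.CE

namespace Groth.Agent.H9.CLF

universe u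

variable {R : Type u} [CommRing R] {M : Type u} [AddCommGroup M] [Module R M] [Module.Free R M]

/-! ### descent of splittings along a cover -/

section Desc

/-- transport a splitting of the even Clifford algebra of the base-changed form -/
noncomputable def liftIso (Q : QuadraticForm R M) (T : Type u) [CommRing T] [Algebra R T]
    (R' : Type u) [CommRing R'] [Algebra R R'] [Algebra T R'] [IsScalarTower R T R']
    {X : Type u} [Ring X] [Algebra R' X]
    (φ : (R' ⊗[T] ↥(CliffordAlgebra.even (QuadGrp.baseChangeForm T Q))) ≃ₐ[R'] X) :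
    (R' ⊗[R] ↥(CliffordAlgebra.even Q)) ≃ₐ[R'] X :=
  ((Groth.Agent.H7.Azu.cancelNC' R R' T ↥(CliffordAlgebra.even Q)).symm.trans
    (Algebra.TensorProduct.congr (AlgEquiv.refl : R' ≃ₐ[R'] R') (psiEquiv T Q))).trans φ

theorem desc (Q : QuadraticForm R M) (r : ℕ)
    (T : Type u) [CommRing T] [Algebra R T] [Algebra.Etale R T] [Module.FaithfullyFlat R T]
    (h : ∃ (R' : Type u) (_ : CommRing R') (_ : Algebra T R'), Algebra.Etale T R' ∧
      Module.FaithfullyFlat T R' ∧
      Nonempty ((R' ⊗[T] ↥(CliffordAlgebra.even (QuadGrp.baseChangeForm T Q))) ≃ₐ[R']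
        (Matrix (Fin r) (Fin r) R' × Matrix (Fin r) (Fin r) R'))) :
    ∃ (R' : Type u) (_ : CommRing R') (_ : Algebra R R') (_ : Algebra T R')
      (_ : IsScalarTower R T R'), Algebra.Etale R R' ∧ Module.FaithfullyFlat R R' ∧
      Nonempty ((R' ⊗[R] ↥(CliffordAlgebra.even Q)) ≃ₐ[R']
        (Matrix (Fin r) (Fin r) R' × Matrix (Fin r) (Fin r) R')) := by
  obtain ⟨R', hc, ha, het, hff, ⟨φ⟩⟩ := h
  letI : Algebra R R' := Algebra.compHom R' (algebraMap R T)
  haveI : IsScalarTower R T R' := IsScalarTower.of_algebraMap_eq (fun _ => rfl)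
  refine ⟨R', hc, inferInstance, ha, inferInstance, Algebra.Etale.comp R T R',
    Module.FaithfullyFlat.trans R T R', ⟨liftIso Q T R' φ⟩⟩

end Desc

/-! ### a Zariski cover with a vector of unit value -/

section Zariski

variable (Q : QuadraticForm R M)

theorem polar_bcf_tmul (A : Type u) [CommRing A] [Algebra R A] (a a' : A) (x x' : M) :
    polar (QuadGrp.baseChangeForm A Q) (a ⊗ₜ[R] x) (a' ⊗ₜ[R] x') =
      (a * a') * algebraMap R A (polar Q x x') := by
  have h1 : a ⊗ₜ[R] x = a • ((1 : A) ⊗ₜ[R] x) := by rw [smul_tmul', smul_eq_mul, mul_one]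
  have h2 : a' ⊗ₜ[R] x' = a' • ((1 : A) ⊗ₜ[R] x') := by rw [smul_tmul', smul_eq_mul, mul_one]
  rw [h1, h2, polar_smul_left, polar_smul_right, polar_bcf_one_tmul, smul_eq_mul, smul_eq_mul,
    mul_assoc]

variable (x : Fin 3 → M) (hx : Q (x 0) - Q (x 1) - Q (x 2) = 1)

/-- the Zariski cover -/
abbrev ZarCov : Type u := Π i : Fin 3, Localization.Away (Q (x i))

/-- the vector of unit value over the Zariski cover -/
noncomputable def zarVec : ZarCov Q x ⊗[R] M :=
  (Pi.single 0 1 : ZarCov Q x) ⊗ₜ[R] x 0 + (Pi.single 1 1 : ZarCov Q x) ⊗ₜ[R] x 1 +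
    (Pi.single 2 1 : ZarCov Q x) ⊗ₜ[R] x 2

theorem single_mul_single {i j : Fin 3} (hij : i ≠ j) :
    (Pi.single i 1 : ZarCov Q x) * (Pi.single j 1 : ZarCov Q x) = 0 := by
  ext k
  rw [Pi.mul_apply, Pi.zero_apply]
  by_cases hk : k = i
  · subst hk
    rw [Pi.single_eq_of_ne hij, mul_zero]
  · rw [Pi.single_eq_of_ne hk, zero_mul]

theorem single_mul_self (i : Fin 3) :
    (Pi.single i 1 : ZarCov Q x) * (Pi.single i 1 : ZarCov Q x) = Pi.single i 1 := by
  ext k
  rw [Pi.mul_apply]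
  by_cases hk : k = i
  · subst hk
    rw [Pi.single_eq_same, mul_one]
  · rw [Pi.single_eq_of_ne hk, zero_mul]

theorem bcf_zarVec : QuadGrp.baseChangeForm (ZarCov Q x) Q (zarVec Q x) =
    fun i => algebraMap R (Localization.Away (Q (x i))) (Q (x i)) := by
  have hp : ∀ i j : Fin 3, i ≠ j →
      polar (QuadGrp.baseChangeForm (ZarCov Q x) Q) ((Pi.single i 1 : ZarCov Q x) ⊗ₜ[R] x i)
        ((Pi.single j 1 : ZarCov Q x) ⊗ₜ[R] x j) = 0 := by
    intro i j hij
    rw [polar_bcf_tmul, single_mul_single Q x hij, zero_mul]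
  have hs : ∀ i : Fin 3, QuadGrp.baseChangeForm (ZarCov Q x) Q
      ((Pi.single i 1 : ZarCov Q x) ⊗ₜ[R] x i) = Q (x i) • (Pi.single i 1 : ZarCov Q x) := by
    intro i
    rw [bcf_tmul, single_mul_self]
  rw [zarVec, QuadraticMap.map_add (⇑(QuadGrp.baseChangeForm (ZarCov Q x) Q))
      ((Pi.single 0 1 : ZarCov Q x) ⊗ₜ[R] x 0 + (Pi.single 1 1 : ZarCov Q x) ⊗ₜ[R] x 1)
      ((Pi.single 2 1 : ZarCov Q x) ⊗ₜ[R] x 2),
    QuadraticMap.map_add (⇑(QuadGrp.baseChangeForm (ZarCov Q x) Q))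
      ((Pi.single 0 1 : ZarCov Q x) ⊗ₜ[R] x 0) ((Pi.single 1 1 : ZarCov Q x) ⊗ₜ[R] x 1),
    polar_add_left, hp 0 1 (by decide),
    hp 0 2 (by decide), hp 1 2 (by decide), hs, hs, hs]
  ext k
  simp only [Pi.add_apply, Pi.smul_apply, Pi.zero_apply, add_zero, Algebra.smul_def, mul_comm]
  fin_cases k <;> simp [Pi.single_apply]

theorem isUnit_bcf_zarVec : IsUnit (QuadGrp.baseChangeForm (ZarCov Q x) Q (zarVec Q x)) := by
  rw [bcf_zarVec, Pi.isUnit_iff]
  intro i
  exact IsLocalization.Away.algebraMap_isUnit (Q (x i))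

instance zarCov_etale : Algebra.Etale R (ZarCov Q x) := by
  haveI : ∀ i : Fin 3, Algebra.Etale R (Localization.Away (Q (x i))) :=
    fun i => Algebra.Etale.of_isLocalizationAway (Q (x i))
  infer_instance

include hx in
theorem zarCov_faithfullyFlat : Module.FaithfullyFlat R (ZarCov Q x) := by
  haveI : Module.Flat R (ZarCov Q x) := inferInstance
  apply Module.FaithfullyFlat.of_comap_surjective
  intro p
  have hex : ∃ i : Fin 3, Q (x i) ∉ p.asIdeal := by
    by_contra hne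
    simp only [not_exists, not_not] at hne
    have h1 : (1 : R) ∈ p.asIdeal := by
      rw [← hx]
      exact sub_mem (sub_mem (hne 0) (hne 1)) (hne 2)
    exact p.isPrime.ne_top ((Ideal.eq_top_iff_one _).mpr h1)
  obtain ⟨i, hi⟩ := hex
  have hmem : p ∈ Set.range (PrimeSpectrum.comap (algebraMap R (Localization.Away (Q (x i))))) := by
    rw [PrimeSpectrum.localization_away_comap_range (Localization.Away (Q (x i))) (Q (x i))]
    exact hi
  obtain ⟨p', hp'⟩ := hmem
  refine ⟨p'.comap (Pi.evalRingHom (fun i : Fin 3 => Localization.Away (Q (x i))) i), ?_⟩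
  rw [← hp']
  rfl

end Zariski

/-! ### the three reduction steps -/

theorem nontrivial_of_faithfullyFlat (R : Type*) [CommRing R] [Nontrivial R] (T : Type*)
    [CommRing T] [Algebra R T] [Module.FaithfullyFlat R T] : Nontrivial T :=
  (FaithfulSMul.algebraMap_injective R T).nontrivial

section Steps

variable [Module.Finite R M]

/-- with a vector of unit value -/
theorem split_of_unit_value (m : ℕ) (hm : 1 ≤ m) (hM : Module.finrank R M = 2 * m)
    (Q : QuadraticForm R M) (hQ : QuadGrp.IsRegular Q) (v : M) (hv : IsUnit (Q v)) :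
    ∃ (R' : Type u) (_ : CommRing R') (_ : Algebra R R'), Algebra.Etale R R' ∧
      Module.FaithfullyFlat R R' ∧
      Nonempty ((R' ⊗[R] ↥(CliffordAlgebra.even Q)) ≃ₐ[R']
        (Matrix (Fin (2 ^ (m - 1))) (Fin (2 ^ (m - 1))) R' ×
          Matrix (Fin (2 ^ (m - 1))) (Fin (2 ^ (m - 1))) R')) := by
  haveI : Nontrivial R := by
    rcases subsingleton_or_nontrivial R with h | h
    · exfalso
      have := Module.finrank_subsingleton (R := R) (M := M)
      omega
    · exact h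
  haveI : IsAzumaya R (CliffordAlgebra Q) := isAzumaya_clifford Q hQ m hM
  have hn : 0 < Module.finrank R M := by omega
  obtain ⟨x₁, x₂, x₃, hx⟩ := exists_three (Module.finBasis R M) hn Q hQ
  have hfin := finite_center Q x₁ x₂ x₃ hx
  have hproj := projective_center Q x₁ x₂ x₃ hx
  have hunr := formallyUnramified_center m hm hM Q hQ
  have hrank := rankAtStalk_center m hm hM Q hQ
  haveI het : Algebra.Etale R (ZQ Q) :=
    Groth.Agent.H7.AzQE.etale_of_isQuadEtale R
      ↥(Subalgebra.center R ↥(CliffordAlgebra.even Q)) ⟨hfin, hproj, hunr, hrank⟩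
  haveI hff : Module.FaithfullyFlat R (ZQ Q) :=
    Groth.Agent.H7.AzQE.faithfullyFlat_of_isQuadEtale R
      ↥(Subalgebra.center R ↥(CliffordAlgebra.even Q)) ⟨hfin, hproj, hunr, hrank⟩
  obtain ⟨y, hy, hyy⟩ := exists_good_idem m hm hM Q hQ
  haveI : Nontrivial (ZQ Q) := nontrivial_of_faithfullyFlat R (ZQ Q)
  have hQT := isRegular_baseChangeForm (ZQ Q) Q hQ
  have hMT : Module.finrank (ZQ Q) (ZQ Q ⊗[R] M) = 2 * m := by
    rw [Module.finrank_baseChange, hM]
  have hvT : IsUnit (QuadGrp.baseChangeForm (ZQ Q) Q ((1 : ZQ Q) ⊗ₜ[R] v)) := by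
    rw [bcf_one_tmul]
    exact hv.map _
  obtain ⟨R', hc, ha, -, -, h1, h2, h3⟩ := desc Q (2 ^ (m - 1)) (ZQ Q)
    (split_of_good_idem hy hyy ((1 : ZQ Q) ⊗ₜ[R] v) m hm hMT hQT hvT)
  exact ⟨R', hc, ha, h1, h2, h3⟩

/-- the even Clifford algebra of a regular form of even rank splits étale locally as a product of
two matrix algebras -/
theorem split_even (m : ℕ) (hm : 1 ≤ m) (hM : Module.finrank R M = 2 * m)
    (Q : QuadraticForm R M) (hQ : QuadGrp.IsRegular Q) :
    ∃ (R' : Type u) (_ : CommRing R') (_ : Algebra R R'), Algebra.Etale R R' ∧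
      Module.FaithfullyFlat R R' ∧
      Nonempty ((R' ⊗[R] ↥(CliffordAlgebra.even Q)) ≃ₐ[R']
        (Matrix (Fin (2 ^ (m - 1))) (Fin (2 ^ (m - 1))) R' ×
          Matrix (Fin (2 ^ (m - 1))) (Fin (2 ^ (m - 1))) R')) := by
  haveI : Nontrivial R := by
    rcases subsingleton_or_nontrivial R with h | h
    · exfalso
      have := Module.finrank_subsingleton (R := R) (M := M)
      omega
    · exact h
  have hn : 0 < Module.finrank R M := by omega
  obtain ⟨x₁, x₂, x₃, hx⟩ := exists_three (Module.finBasis R M) hn Q hQ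
  have hx' : Q (![x₁, x₂, x₃] 0) - Q (![x₁, x₂, x₃] 1) - Q (![x₁, x₂, x₃] 2) = 1 := hx
  haveI := zarCov_faithfullyFlat Q ![x₁, x₂, x₃] hx'
  haveI : Nontrivial (ZarCov Q ![x₁, x₂, x₃]) :=
    nontrivial_of_faithfullyFlat R (ZarCov Q ![x₁, x₂, x₃])
  have hQT := isRegular_baseChangeForm (ZarCov Q ![x₁, x₂, x₃]) Q hQ
  have hMT : Module.finrank (ZarCov Q ![x₁, x₂, x₃]) (ZarCov Q ![x₁, x₂, x₃] ⊗[R] M) = 2 * m := by
    rw [Module.finrank_baseChange, hM]
  obtain ⟨R', hc, ha, -, -, h1, h2, h3⟩ := desc Q (2 ^ (m - 1)) (ZarCov Q ![x₁, x₂, x₃])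
    (split_of_unit_value m hm hMT _ hQT (zarVec Q ![x₁, x₂, x₃])
      (isUnit_bcf_zarVec Q ![x₁, x₂, x₃]))
  exact ⟨R', hc, ha, h1, h2, h3⟩

end Steps

end Groth.Agent.H9.CLF
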