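import Mathlib
import Groth.Agent.Lib.Helper9.Misc.CLO2

/-!
# Closed orbits and finite equivariant maps (helper9)
-/

set_option autoImplicit false
set_option linter.style.haveILetI false
set_option linter.unusedSectionVars false
set_option linter.unusedVariables false

universe u v w w'

open TensorProduct WithConv Topology

namespace Groth.Agent.H9.CLO

open Groth.Agent.H9 Groth.Agent.H9.Comod Groth.Agent.H9.GIT Groth.Agent.H9.CocommDiag

section Main

variable {k : Type u} [Field k] [IsAlgClosed k] {A : Type u} [CommRing A] [HopfAlgebra k A]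
  [Algebra.FiniteType k A]
  {S : Type u} [CommRing S] [Algebra k S] [Algebra.FiniteType k S] [HopfRep.Comod k A S]
  [GLin.IsCoactAlg k A S]
  {R : Type u} [CommRing R] [Algebra k R] [Algebra.FiniteType k R] [HopfRep.Comod k A R]
  [GLin.IsCoactAlg k A R]
  [Algebra S R] [IsScalarTower k S R]
  (hequiv : ∀ s : S, HopfRep.Comod.coact (k := k) (A := A) (algebraMap S R s) =
    Algebra.TensorProduct.map (IsScalarTower.toAlgHom k S R) (AlgHom.id k A)
      (HopfRep.Comod.coact (k := k) (A := A) s))

/-- the map of spectra -/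
noncomputable def cφ : PrimeSpectrum R → PrimeSpectrum S := PrimeSpectrum.comap (algebraMap S R)

lemma mem_cφ (P : PrimeSpectrum R) (s : S) :
    s ∈ (cφ (S := S) P).asIdeal ↔ algebraMap S R s ∈ P.asIdeal := Iff.rfl

include hequiv in
lemma cφ_cO (x : R →ₐ[k] k) (p : PrimeSpectrum A) :
    cφ (S := S) (cO x p) = cO (x.comp (IsScalarTower.toAlgHom k S R)) p := by
  apply PrimeSpectrum.ext
  ext s
  rw [mem_cφ, mem_cO, mem_cO]
  have := orbitHom_map (IsScalarTower.toAlgHom k S R) hequiv x s
  rw [← this]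
  rfl

include hequiv in
lemma cφ_tS (g : A →ₐ[k] k) (P : PrimeSpectrum R) :
    cφ (S := S) (tS g P) = tS g (cφ (S := S) P) := by
  apply PrimeSpectrum.ext
  ext s
  rw [mem_cφ, mem_tS, mem_tS, mem_cφ]
  have := map_tr (IsScalarTower.toAlgHom k S R) hequiv g s
  have h2 : algebraMap S R (tr g s) = tr g (algebraMap S R s) := this
  rw [h2]

include hequiv in
lemma range_cO_comp (x : R →ₐ[k] k) :
    Set.range (cO (A := A) (x.comp (IsScalarTower.toAlgHom k S R))) =
      cφ (S := S) '' Set.range (cO (A := A) x) := by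
  ext Q
  constructor
  · rintro ⟨p, rfl⟩
    exact ⟨cO x p, ⟨p, rfl⟩, cφ_cO hequiv x p⟩
  · rintro ⟨_, ⟨p, rfl⟩, rfl⟩
    exact ⟨p, (cφ_cO hequiv x p).symm⟩

include hequiv in
theorem isClosedOrbit_comp_of_isClosedOrbit [Algebra.IsIntegral S R] (x : R →ₐ[k] k)
    (hx : GLin.IsClosedOrbit k A x) :
    GLin.IsClosedOrbit k A (x.comp (IsScalarTower.toAlgHom k S R)) := by
  change IsClosed (Set.range (cO (A := A) (x.comp (IsScalarTower.toAlgHom k S R))))
  rw [range_cO_comp hequiv]
  exact PrimeSpectrum.isClosedMap_comap_of_isIntegral (algebraMap S R)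
    (algebraMap_isIntegral_iff.2 inferInstance) _ hx

include hequiv in
theorem isClosedOrbit_of_isClosedOrbit_comp [Algebra.IsIntegral S R] (x : R →ₐ[k] k)
    (hy : GLin.IsClosedOrbit k A (x.comp (IsScalarTower.toAlgHom k S R))) :
    GLin.IsClosedOrbit k A x := by
  set y := x.comp (IsScalarTower.toAlgHom k S R) with hy_def
  set T : Set (PrimeSpectrum R) := Set.range (cO (A := A) x) with hT
  set TS : Set (PrimeSpectrum S) := Set.range (cO (A := A) y) with hTS
  have hTSc : IsClosed TS := hy
  obtain ⟨W', hW', hTW0⟩ := exists_open_range_cO (A := A) x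
  have hTW : T = closure T ∩ W' := hTW0
  -- the boundary
  set B : Set (PrimeSpectrum R) := closure T ∩ W'ᶜ with hB
  have hBc : IsClosed B := isClosed_closure.inter hW'.isClosed_compl
  have hBT : ∀ P ∈ B, P ∉ T := by
    intro P hP hPT
    rw [hTW] at hPT
    exact hP.2 hPT.2
  have hBstab : ∀ (g : A →ₐ[k] k) (P : PrimeSpectrum R), P ∈ B → tS g P ∈ B := by
    intro g P hP
    refine ⟨tS_mem_closure x g hP.1, ?_⟩
    intro hW
    have h1 : tS g P ∈ T := by
      rw [hTW]; exact ⟨tS_mem_closure x g hP.1, hW⟩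
    exact hBT P hP (mem_range_of_tS_mem x g h1)
  suffices hempty : B = ∅ by
    have : T = closure T := by
      apply Set.Subset.antisymm subset_closure
      intro P hP
      by_contra hPT
      have : P ∈ B := ⟨hP, fun hW => hPT (by rw [hTW]; exact ⟨hP, hW⟩)⟩
      rw [hempty] at this
      exact this
    change IsClosed T
    rw [this]
    exact isClosed_closure
  by_contra hne
  have hBne : B.Nonempty := Set.nonempty_iff_ne_empty.2 hne
  -- the image of the boundary
  set D : Set (PrimeSpectrum S) := cφ (S := S) '' B with hD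
  have hDc : IsClosed D :=
    PrimeSpectrum.isClosedMap_comap_of_isIntegral (algebraMap S R)
      (algebraMap_isIntegral_iff.2 inferInstance) _ hBc
  have hDne : D.Nonempty := hBne.image _
  have hDTS : D ⊆ TS := by
    rintro _ ⟨P, hP, rfl⟩
    have h1 : cφ (S := S) P ∈ cφ (S := S) '' closure T := ⟨P, hP.1, rfl⟩
    have h2 := image_closure_subset_closure_image
      (PrimeSpectrum.continuous_comap (algebraMap S R)) h1
    have h3 : cφ (S := S) '' T = TS := (range_cO_comp hequiv x).symm
    change cφ (S := S) P ∈ closure (cφ (S := S) '' T) at h2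
    rw [h3, hTSc.closure_eq] at h2
    exact h2
  have hDstab : ∀ (g : A →ₐ[k] k) (Q : PrimeSpectrum S), Q ∈ D → tS g Q ∈ D := by
    rintro g _ ⟨P, hP, rfl⟩
    exact ⟨tS g P, hBstab g P hP, cφ_tS hequiv g P⟩
  -- a rational point of `D`
  obtain ⟨w, hw⟩ := exists_pt_mem_of_isClosed (k := k) D hDc hDne
  obtain ⟨p, hp⟩ := hDTS hw
  obtain ⟨M, hM, hpM⟩ := Ideal.exists_le_maximal p.asIdeal p.2.ne_top
  obtain ⟨h, hh⟩ := exists_algHom_ker_eq (k := k) M hM
  have hwh : pt w = pt (GLin.actPt k h y) := by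
    rw [← cO_pt]
    apply PrimeSpectrum.ext
    have hle : (pt w).asIdeal ≤ (cO y (pt h)).asIdeal := by
      rw [← hp]
      intro s hs
      rw [mem_cO] at hs ⊢
      change GLin.orbitHom k A y s ∈ RingHom.ker (h : A →+* k)
      rw [hh]
      exact hpM hs
    have hmax : (pt w).asIdeal.IsMaximal := RingHom.ker_isMaximal_of_surjective _
      (fun c => ⟨algebraMap k S c, by simp⟩)
    exact hmax.eq_of_le (cO y (pt h)).2.ne_top hle
  -- all rational points of the orbit of `y` lie in `D`
  have hall : ∀ g' : A →ₐ[k] k, cO y (pt g') ∈ D := by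
    intro g'
    have h1 := hDstab ((toConv h)⁻¹ * toConv g').ofConv (pt w) hw
    rw [hwh, ← cO_pt, tS_cO, tS_pt, toConv_ofConv, mul_inv_cancel_left] at h1
    exact h1
  have hTSD : TS ⊆ D := by
    have hpre : (cO (A := A) y) ⁻¹' D = Set.univ :=
      eq_univ_of_forall_pt (k := k) _
        (hDc.preimage (PrimeSpectrum.continuous_comap (GLin.orbitHom k A y).toRingHom)) hall
    rintro _ ⟨q, rfl⟩
    have : q ∈ (cO (A := A) y) ⁻¹' D := by rw [hpre]; trivial
    exact this
  -- a minimal prime over the kernel of the orbit map of `y`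
  have hkerS : RingHom.ker (GLin.orbitHom k A y).toRingHom ≤ (pt w).asIdeal := by
    have : pt w ∈ closure TS := subset_closure (hDTS hw)
    rw [closure_range_cO, PrimeSpectrum.mem_zeroLocus] at this
    exact this
  obtain ⟨w₀, hw₀min, hw₀le⟩ := Ideal.exists_minimalPrimes_le hkerS
  haveI hw₀prime : w₀.IsPrime := hw₀min.1.1
  have hw₀TS : (⟨w₀, hw₀prime⟩ : PrimeSpectrum S) ∈ TS := by
    have : (⟨w₀, hw₀prime⟩ : PrimeSpectrum S) ∈ closure TS := by
      rw [closure_range_cO, PrimeSpectrum.mem_zeroLocus]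
      exact hw₀min.1.2
    rwa [hTSc.closure_eq] at this
  obtain ⟨P, hPB, hPw₀⟩ := hTSD hw₀TS
  -- a minimal prime below `P`
  have hkerR : RingHom.ker (GLin.orbitHom k A x).toRingHom ≤ P.asIdeal := by
    have := hPB.1
    rw [closure_range_cO, PrimeSpectrum.mem_zeroLocus] at this
    exact this
  obtain ⟨z₀, hz₀min, hz₀le⟩ := Ideal.exists_minimalPrimes_le hkerR
  haveI hz₀prime : z₀.IsPrime := hz₀min.1.1
  have hcomap : z₀.comap (algebraMap S R) = w₀ := by
    have h1 : z₀.comap (algebraMap S R) ≤ w₀ := by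
      have : P.asIdeal.comap (algebraMap S R) = w₀ := congrArg PrimeSpectrum.asIdeal hPw₀
      rw [← this]
      exact Ideal.comap_mono hz₀le
    have h2 : RingHom.ker (GLin.orbitHom k A y).toRingHom ≤ z₀.comap (algebraMap S R) := by
      intro s hs
      rw [Ideal.mem_comap]
      apply hz₀min.1.2
      rw [RingHom.mem_ker] at hs ⊢
      have := orbitHom_map (IsScalarTower.toAlgHom k S R) hequiv x s
      change GLin.orbitHom k A x (algebraMap S R s) = 0
      rw [show algebraMap S R s = IsScalarTower.toAlgHom k S R s from rfl, this]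
      exact hs
    exact le_antisymm h1 (hw₀min.2 ⟨inferInstance, h2⟩ h1)
  have hz₀P : z₀ = P.asIdeal := by
    rcases lt_or_eq_of_le hz₀le with hlt | heq
    · exfalso
      obtain ⟨-, r, hrP, hrz⟩ := SetLike.lt_iff_le_and_exists.1 hlt
      have := Ideal.comap_lt_comap_of_integral_mem_sdiff (R := S) hz₀le ⟨hrP, hrz⟩
        (Algebra.IsIntegral.isIntegral r)
      rw [hcomap] at this
      have h2 : P.asIdeal.comap (algebraMap S R) = w₀ := congrArg PrimeSpectrum.asIdeal hPw₀
      rw [h2] at this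
      exact lt_irrefl _ this
    · exact heq
  -- `z₀` lies in the orbit
  obtain ⟨p', hp', -, hp'z⟩ := Ideal.exists_comap_eq_of_mem_minimalPrimes (I := ⊥)
    (GLin.orbitHom k A x).toRingHom z₀ (by rwa [← RingHom.ker_eq_comap_bot])
  apply hBT P hPB
  refine ⟨⟨p', hp'⟩, ?_⟩
  apply PrimeSpectrum.ext
  rw [← hz₀P, ← hp'z]
  rfl

end Main

end Groth.Agent.H9.CLO
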