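import Mathlib

/-!
# Descending an inclusion of extended ideals along a filtered colimit of rings
-/

set_option autoImplicit false

namespace Groth.Agent.H9.HCM

open CategoryTheory Limits

universe vJ uJ u

variable {J : Type uJ} [Category.{vJ} J] [IsFiltered J]
variable (F : J ⥤ CommRingCat.{u}) (c : Cocone F) (hc : IsColimit c)
variable [PreservesColimit F (forget CommRingCat)]

omit [IsFiltered J] [PreservesColimit F (forget CommRingCat)] in
lemma map_map_le {i j k : J} (f : i ⟶ j) (g : j ⟶ k) (N 𝔟 : Ideal (F.obj i))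
    (h : N.map (F.map f).hom ≤ 𝔟.map (F.map f).hom) :
    N.map (F.map (f ≫ g)).hom ≤ 𝔟.map (F.map (f ≫ g)).hom := by
  rw [F.map_comp, CommRingCat.hom_comp, ← Ideal.map_map, ← Ideal.map_map]
  exact Ideal.map_mono h

include hc in
lemma exists_lift_of_mem_map (i : J) (𝔟 : Ideal (F.obj i)) (x : c.pt)
    (hx : x ∈ 𝔟.map (c.ι.app i).hom) :
    ∃ (j : J) (f : i ⟶ j) (y : F.obj j), y ∈ 𝔟.map (F.map f).hom ∧ (c.ι.app j).hom y = x := by
  have hc' := isColimitOfPreserves (forget _) hc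
  rw [Ideal.map] at hx
  induction hx using Submodule.span_induction with
  | mem x hx =>
    obtain ⟨b, hb, rfl⟩ := hx
    refine ⟨i, 𝟙 i, b, ?_, rfl⟩
    rw [F.map_id]
    simpa using hb
  | zero => exact ⟨i, 𝟙 i, 0, zero_mem _, map_zero _⟩
  | add x₁ x₂ _ _ h₁ h₂ =>
    obtain ⟨j₁, f₁, y₁, hy₁, rfl⟩ := h₁
    obtain ⟨j₂, f₂, y₂, hy₂, rfl⟩ := h₂
    obtain ⟨k, g₁, g₂, e⟩ := IsFiltered.span f₁ f₂
    refine ⟨k, f₁ ≫ g₁, (F.map g₁).hom y₁ + (F.map g₂).hom y₂, add_mem ?_ ?_, ?_⟩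
    · rw [F.map_comp, CommRingCat.hom_comp, ← Ideal.map_map]
      exact Ideal.mem_map_of_mem _ hy₁
    · rw [e, F.map_comp, CommRingCat.hom_comp, ← Ideal.map_map]
      exact Ideal.mem_map_of_mem _ hy₂
    · rw [map_add]
      congr 1
      · exact congr(($(c.w g₁)).hom y₁)
      · exact congr(($(c.w g₂)).hom y₂)
  | smul r x _ h =>
    obtain ⟨j, f, y, hy, rfl⟩ := h
    obtain ⟨j', r', hr'⟩ := Types.jointly_surjective_of_isColimit hc' r
    have hr'' : (c.ι.app j').hom r' = r := hr'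
    refine ⟨IsFiltered.max j j', f ≫ IsFiltered.leftToMax j j',
      (F.map (IsFiltered.rightToMax j j')).hom r' * (F.map (IsFiltered.leftToMax j j')).hom y,
      Ideal.mul_mem_left _ _ ?_, ?_⟩
    · rw [F.map_comp, CommRingCat.hom_comp, ← Ideal.map_map]
      exact Ideal.mem_map_of_mem _ hy
    · rw [map_mul, smul_eq_mul, ← hr'']
      congr 1
      · exact congr(($(c.w (IsFiltered.rightToMax j j'))).hom r')
      · exact congr(($(c.w (IsFiltered.leftToMax j j'))).hom y)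

include hc in
lemma exists_map_mem_map (i : J) (𝔟 : Ideal (F.obj i)) (a : F.obj i)
    (ha : (c.ι.app i).hom a ∈ 𝔟.map (c.ι.app i).hom) :
    ∃ (j : J) (f : i ⟶ j), (F.map f).hom a ∈ 𝔟.map (F.map f).hom := by
  have hc' := isColimitOfPreserves (forget _) hc
  obtain ⟨j, f, y, hy, e⟩ := exists_lift_of_mem_map F c hc i 𝔟 _ ha
  have e' : (c.ι.app j).hom y = (c.ι.app j).hom ((F.map f).hom a) := by
    rw [e]; exact congr(($(c.w f)).hom a).symm
  obtain ⟨k, g, hk⟩ := (Types.FilteredColimit.isColimit_eq_iff' hc' (i := j) y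
    ((F.map f).hom a)).mp e'
  refine ⟨k, f ≫ g, ?_⟩
  have hk' : (F.map g).hom y = (F.map g).hom ((F.map f).hom a) := hk
  have : (F.map (f ≫ g)).hom a = (F.map g).hom y := by
    rw [F.map_comp, hk']; rfl
  rw [this, F.map_comp, CommRingCat.hom_comp, ← Ideal.map_map]
  exact Ideal.mem_map_of_mem _ hy

include hc in
/-- If `𝔞` is finitely generated and `𝔞 · colim F ≤ 𝔟 · colim F`, then `𝔞 · F_j ≤ 𝔟 · F_j` for some `j`. -/
lemma exists_map_le_map (i : J) (𝔞 𝔟 : Ideal (F.obj i)) (h𝔞 : 𝔞.FG)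
    (h : 𝔞.map (c.ι.app i).hom ≤ 𝔟.map (c.ι.app i).hom) :
    ∃ (j : J) (f : i ⟶ j), 𝔞.map (F.map f).hom ≤ 𝔟.map (F.map f).hom := by
  revert h
  refine Submodule.fg_induction (motive := fun (N : Ideal (F.obj i)) _ ↦
    N.map (c.ι.app i).hom ≤ 𝔟.map (c.ι.app i).hom →
      ∃ (j : J) (f : i ⟶ j), N.map (F.map f).hom ≤ 𝔟.map (F.map f).hom) ?_ ?_ 𝔞 h𝔞
  · intro a h
    obtain ⟨j, f, hf⟩ := exists_map_mem_map F c hc i 𝔟 a
      (h (Ideal.mem_map_of_mem _ (Submodule.mem_span_singleton_self a)))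
    refine ⟨j, f, ?_⟩
    change Ideal.map _ (Ideal.span {a}) ≤ _
    rw [Ideal.map_span, Set.image_singleton, Ideal.span_le, Set.singleton_subset_iff]
    exact hf
  · intro N₁ N₂ _ _ h₁ h₂ h
    obtain ⟨j₁, f₁, hf₁⟩ := h₁ ((Ideal.map_mono le_sup_left).trans h)
    obtain ⟨j₂, f₂, hf₂⟩ := h₂ ((Ideal.map_mono le_sup_right).trans h)
    obtain ⟨k, g₁, g₂, e⟩ := IsFiltered.span f₁ f₂
    refine ⟨k, f₁ ≫ g₁, ?_⟩
    rw [Ideal.map_sup]
    refine sup_le (map_map_le F f₁ g₁ _ _ hf₁) ?_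
    rw [e]
    exact map_map_le F f₂ g₂ _ _ hf₂

end Groth.Agent.H9.HCM
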