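import Mathlib
import Groth.Agent.Lib.Helper9.Misc.HCM1
import Groth.Agent.Lib.Helper9.Misc.MDP6
import Groth.Agent.Lib.Lead.QC.IdealComap

/-!
# Descending an inclusion of inverse image ideal sheaves along a cofiltered limit of schemes
-/

set_option autoImplicit false

namespace Groth.Agent.H9.HCM

open CategoryTheory Limits AlgebraicGeometry Opposite

universe u

lemma ideal_comap_top {X Y : Scheme.{u}} [IsAffine X] [IsAffine Y] (f : X ⟶ Y)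
    (A : Y.IdealSheafData) :
    (A.comap f).ideal ⟨⊤, isAffineOpen_top X⟩ =
      (A.ideal ⟨⊤, isAffineOpen_top Y⟩).map f.appTop.hom := by
  rw [Groth.Agent.LD.QC.ideal_comap_of_le A f ⟨⊤, isAffineOpen_top Y⟩ ⟨⊤, isAffineOpen_top X⟩
    le_top]
  congr 2
  simp [Scheme.Hom.appLE]

variable {I : Type u} [Category.{u} I] [IsCofiltered I] (D : I ⥤ Scheme.{u}) (c : Cone D)
  (hc : IsLimit c)

include hc in
lemma exists_comap_le_comap_of_isAffine [∀ i, IsAffine (D.obj i)] (i : I)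
    (A B : (D.obj i).IdealSheafData) (hA : (A.ideal ⟨⊤, isAffineOpen_top _⟩).FG)
    (h : A.comap (c.π.app i) ≤ B.comap (c.π.app i)) :
    ∃ (j : I) (f : j ⟶ i), A.comap (D.map f) ≤ B.comap (D.map f) := by
  have : IsAffine c.pt := Scheme.isAffine_of_isLimit _ hc
  haveI : IsAffine (((Functor.const I).obj c.pt).obj i) := inferInstanceAs (IsAffine c.pt)
  have : ∀ i, IsAffine (D.op.obj i).unop := by dsimp; infer_instance
  have hcol : IsColimit (Scheme.Γ.mapCocone c.op) := isColimitOfPreserves Scheme.Γ hc.op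
  have h' := h ⟨⊤, isAffineOpen_top _⟩
  rw [ideal_comap_top, ideal_comap_top] at h'
  obtain ⟨j, f, hf⟩ := exists_map_le_map (D.op ⋙ Scheme.Γ) (Scheme.Γ.mapCocone c.op) hcol (op i)
    (A.ideal ⟨⊤, isAffineOpen_top _⟩) (B.ideal ⟨⊤, isAffineOpen_top _⟩) hA h'
  refine ⟨j.unop, f.unop, Scheme.IdealSheafData.le_of_isAffine ?_⟩
  rw [ideal_comap_top, ideal_comap_top]
  exact hf

omit [IsCofiltered I] in
lemma comap_comp_le {X Y Z : Scheme.{u}} (r : Z ⟶ X) (q : X ⟶ Y) (A B : Y.IdealSheafData)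
    (h : A.comap q ≤ B.comap q) : A.comap (r ≫ q) ≤ B.comap (r ≫ q) := by
  rw [Scheme.IdealSheafData.comap_comp, Scheme.IdealSheafData.comap_comp]
  exact Scheme.IdealSheafData.comap_mono _ h

include hc in
/-- Local step: over an affine open `U` of `D.obj i` on which `A` is finitely generated. -/
lemma exists_comap_ι_comp_le [∀ {i j} (f : i ⟶ j), IsAffineHom (D.map f)] (i : I)
    (A B : (D.obj i).IdealSheafData) (U : (D.obj i).affineOpens) (hA : (A.ideal U).FG)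
    (h : A.comap (c.π.app i) ≤ B.comap (c.π.app i)) :
    ∃ (j : I) (f : j ⟶ i), A.comap ((D.map f ⁻¹ᵁ U.1).ι ≫ D.map f) ≤
      B.comap ((D.map f ⁻¹ᵁ U.1).ι ≫ D.map f) := by
  have hAff (j : Over i) : IsAffine ((opensDiagram D i U.1).obj j) := U.2.preimage (D.map _)
  let i' : Over i := Over.mk (𝟙 i)
  let p : (opensDiagram D i U.1).obj i' ⟶ D.obj i := (D.map i'.hom ⁻¹ᵁ U.1).ι ≫ D.map i'.hom
  have hp : ⊤ ≤ p ⁻¹ᵁ U.1 := by
    intro x _
    exact x.2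
  have hFG : ((A.comap p).ideal ⟨⊤, isAffineOpen_top _⟩).FG := by
    rw [Groth.Agent.LD.QC.ideal_comap_of_le A p U ⟨⊤, isAffineOpen_top _⟩ hp]
    exact hA.map _
  have hπ : (opensCone D c i U.1).π.app i' ≫ p = (c.π.app i ⁻¹ᵁ U.1).ι ≫ c.π.app i := by
    change (c.π.app i).resLE (D.map (𝟙 i) ⁻¹ᵁ U.1) (c.π.app i ⁻¹ᵁ U.1) _ ≫
      (D.map (𝟙 i) ⁻¹ᵁ U.1).ι ≫ D.map (𝟙 i) = _
    rw [Scheme.Hom.resLE_comp_ι_assoc, c.w]
  obtain ⟨j, f, hf⟩ := exists_comap_le_comap_of_isAffine (opensDiagram D i U.1)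
    (opensCone D c i U.1) (isLimitOpensCone D c hc i U.1) i' (A.comap p) (B.comap p) hFG (by
      rw [← Scheme.IdealSheafData.comap_comp, ← Scheme.IdealSheafData.comap_comp, hπ]
      exact comap_comp_le _ _ A B h)
  refine ⟨j.left, j.hom, ?_⟩
  have hfp : (opensDiagram D i U.1).map f ≫ p = (D.map j.hom ⁻¹ᵁ U.1).ι ≫ D.map j.hom := by
    change (D.map f.left).resLE (D.map (𝟙 i) ⁻¹ᵁ U.1) (D.map j.hom ⁻¹ᵁ U.1) _ ≫
      (D.map (𝟙 i) ⁻¹ᵁ U.1).ι ≫ D.map (𝟙 i) = _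
    rw [Scheme.Hom.resLE_comp_ι_assoc, ← D.map_comp]
    congr 2
    exact Over.w f
  rw [← Scheme.IdealSheafData.comap_comp, ← Scheme.IdealSheafData.comap_comp, hfp] at hf
  exact hf

omit [IsCofiltered I] in
lemma mono_step (i : I) (A B : (D.obj i).IdealSheafData) (U : (D.obj i).Opens) {j k : I}
    (g : k ⟶ j) (f : j ⟶ i)
    (h : A.comap ((D.map f ⁻¹ᵁ U).ι ≫ D.map f) ≤ B.comap ((D.map f ⁻¹ᵁ U).ι ≫ D.map f)) :
    A.comap ((D.map (g ≫ f) ⁻¹ᵁ U).ι ≫ D.map (g ≫ f)) ≤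
      B.comap ((D.map (g ≫ f) ⁻¹ᵁ U).ι ≫ D.map (g ≫ f)) := by
  have e : D.map (g ≫ f) ⁻¹ᵁ U ≤ D.map g ⁻¹ᵁ (D.map f ⁻¹ᵁ U) := by
    rw [D.map_comp, Scheme.Hom.comp_preimage]
  have : (D.map (g ≫ f) ⁻¹ᵁ U).ι ≫ D.map (g ≫ f) =
      (D.map g).resLE _ _ e ≫ ((D.map f ⁻¹ᵁ U).ι ≫ D.map f) := by
    rw [Scheme.Hom.resLE_comp_ι_assoc, D.map_comp]
  rw [this]
  exact comap_comp_le _ _ A B h

include hc in
/-- If `A` is locally finitely generated, `D.obj i` is quasi-compact and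
`A · O_{lim} ≤ B · O_{lim}`, then `A · O_{D_j} ≤ B · O_{D_j}` for some `j ⟶ i`. -/
lemma exists_comap_le_comap [∀ {i j} (f : i ⟶ j), IsAffineHom (D.map f)] (i : I)
    [CompactSpace (D.obj i)] (A B : (D.obj i).IdealSheafData)
    (hA : ∀ x : D.obj i, ∃ U : (D.obj i).affineOpens, x ∈ U.1 ∧ (A.ideal U).FG)
    (h : A.comap (c.π.app i) ≤ B.comap (c.π.app i)) :
    ∃ (j : I) (f : j ⟶ i), A.comap (D.map f) ≤ B.comap (D.map f) := by
  classical
  choose U hxU hU using hA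
  obtain ⟨t, ht⟩ := CompactSpace.elim_nhds_subcover (fun x ↦ ((U x).1 : Set (D.obj i)))
    (fun x ↦ (U x).1.2.mem_nhds (hxU x))
  have key : ∀ s : Finset (D.obj i), ∃ (j : I) (f : j ⟶ i), ∀ x ∈ s,
      A.comap ((D.map f ⁻¹ᵁ (U x).1).ι ≫ D.map f) ≤
        B.comap ((D.map f ⁻¹ᵁ (U x).1).ι ≫ D.map f) := by
    intro s
    induction s using Finset.induction_on with
    | empty => exact ⟨i, 𝟙 i, by simp⟩
    | insert x s hx ih =>
      obtain ⟨j₁, f₁, h₁⟩ := ih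
      obtain ⟨j₂, f₂, h₂⟩ := exists_comap_ι_comp_le D c hc i A B (U x) (hU x) h
      obtain ⟨k, g₁, g₂, e⟩ := IsCofiltered.cospan f₁ f₂
      refine ⟨k, g₁ ≫ f₁, fun y hy ↦ ?_⟩
      rw [Finset.mem_insert] at hy
      rcases hy with rfl | hy
      · rw [e]
        exact mono_step D i A B (U y).1 g₂ f₂ h₂
      · exact mono_step D i A B (U y).1 g₁ f₁ (h₁ y hy)
  obtain ⟨j, f, hf⟩ := key t
  refine ⟨j, f, ?_⟩
  refine Groth.Agent.H9.MDP.le_of_comap_le (fun x : t ↦ ((D.map f ⁻¹ᵁ (U x.1).1).toScheme))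
    (fun x ↦ (D.map f ⁻¹ᵁ (U x.1).1).ι) ?_ ?_
  · intro y
    have hy : (D.map f).base y ∈ (⊤ : Set (D.obj i)) := trivial
    rw [← ht] at hy
    simp only [Set.mem_iUnion] at hy
    obtain ⟨x, hx, hy⟩ := hy
    exact ⟨⟨x, hx⟩, ⟨y, hy⟩, rfl⟩
  · intro x
    rw [← Scheme.IdealSheafData.comap_comp, ← Scheme.IdealSheafData.comap_comp]
    exact hf x.1 x.2

end Groth.Agent.H9.HCM
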