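import Mathlib
import Groth.Agent.Lib.Helper9.Misc.HCM2
import Groth.Agent.Lib.Helper5.NApprox.FgIdA

/-!
# Descending local principality of an inverse image ideal sheaf along a cofiltered limit
-/

set_option autoImplicit false

namespace Groth.Agent.H9.LPD

open CategoryTheory Limits AlgebraicGeometry Opposite

universe vJ uJ u

section Ring

variable {J : Type uJ} [Category.{vJ} J] [IsFiltered J]
variable (F : J ⥤ CommRingCat.{u}) (c : Cocone F) (hc : IsColimit c)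
variable [PreservesColimit F (forget CommRingCat)]

include hc in
lemma exists_map_eq_span (i : J) (𝔞 : Ideal (F.obj i)) (h𝔞 : 𝔞.FG) (t : c.pt)
    (h : 𝔞.map (c.ι.app i).hom = Ideal.span {t}) :
    ∃ (j : J) (f : i ⟶ j) (y : F.obj j), 𝔞.map (F.map f).hom = Ideal.span {y} := by
  have ht : t ∈ 𝔞.map (c.ι.app i).hom := by rw [h]; exact Ideal.mem_span_singleton_self t
  obtain ⟨j, f, y, hy, hyt⟩ := HCM.exists_lift_of_mem_map F c hc i 𝔞 t ht
  have h1 : (𝔞.map (F.map f).hom).map (c.ι.app j).hom ≤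
      (Ideal.span {y}).map (c.ι.app j).hom := by
    rw [Ideal.map_map, ← CommRingCat.hom_comp, c.w, h, Ideal.map_span, Set.image_singleton, hyt]
    exact le_rfl
  obtain ⟨k, g, hg⟩ := HCM.exists_map_le_map F c hc j (𝔞.map (F.map f).hom) (Ideal.span {y})
    (h𝔞.map _) h1
  refine ⟨k, f ≫ g, (F.map g).hom y, le_antisymm ?_ ?_⟩
  · rw [F.map_comp, CommRingCat.hom_comp, ← Ideal.map_map]
    refine hg.trans ?_
    rw [Ideal.map_span, Set.image_singleton]
  · rw [Ideal.span_singleton_le_iff_mem, F.map_comp, CommRingCat.hom_comp, ← Ideal.map_map]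
    exact Ideal.mem_map_of_mem _ hy

end Ring

section Sch

/-- `I` is principal on the affine open `V`. -/
def PrincipalOn {X : Scheme.{u}} (I : X.IdealSheafData) (V : X.Opens) : Prop :=
  ∃ (hV : IsAffineOpen V) (a : Γ(X, V)), I.ideal ⟨V, hV⟩ = Ideal.span {a}

lemma PrincipalOn.congr {X : Scheme.{u}} {I : X.IdealSheafData} {V V' : X.Opens} (h : V = V')
    (hV : PrincipalOn I V) : PrincipalOn I V' := by
  subst h; exact hV

lemma PrincipalOn.comap_of_le {X Y : Scheme.{u}} (f : X ⟶ Y) {I : Y.IdealSheafData} {U : Y.Opens}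
    (hU : PrincipalOn I U) {V : X.Opens} (hV : IsAffineOpen V) (e : V ≤ f ⁻¹ᵁ U) :
    PrincipalOn (I.comap f) V := by
  obtain ⟨hU', a, ha⟩ := hU
  refine ⟨hV, f.appLE U V e a, ?_⟩
  rw [Groth.Agent.LD.QC.ideal_comap_of_le I f ⟨U, hU'⟩ ⟨V, hV⟩ e, ha, Ideal.map_span,
    Set.image_singleton]

lemma PrincipalOn.of_comap_isOpenImmersion {X Y : Scheme.{u}} (f : X ⟶ Y) [IsOpenImmersion f]
    {I : Y.IdealSheafData} {U : X.Opens} (h : PrincipalOn (I.comap f) U) :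
    PrincipalOn I (f ''ᵁ U) := by
  obtain ⟨hU, a, ha⟩ := h
  refine ⟨hU.image_of_isOpenImmersion f, (f.appIso U).inv.hom a, ?_⟩
  rw [Scheme.IdealSheafData.ideal_comap_of_isOpenImmersion I f ⟨U, hU⟩] at ha
  have hsurj : Function.Surjective (f.appIso U).inv.hom :=
    (ConcreteCategory.bijective_of_isIso (f.appIso U).inv).2
  have := congrArg (Ideal.map (f.appIso U).inv.hom) ha
  rwa [Ideal.map_comap_of_surjective _ hsurj, Ideal.map_span, Set.image_singleton] at this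

/-- inverse images of ideal sheaves of finite type are of finite type. -/
lemma fg_comap {X Y : Scheme.{u}} (A : Y.IdealSheafData)
    (hA : ∀ U : Y.affineOpens, (A.ideal U).FG) (f : X ⟶ Y) (V : X.affineOpens) :
    ((A.comap f).ideal V).FG := by
  haveI := Groth.Agent.H5.NApprox.lfp_subschemeι_of_fg A hA
  haveI : LocallyOfFinitePresentation (A.comap f).subschemeι := by
    rw [← Scheme.IdealSheafData.comapIso_hom_fst]
    infer_instance
  have := Groth.Agent.H5.NApprox.fg_ker_of_lfp (A.comap f).subschemeι V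
  rwa [Scheme.IdealSheafData.ker_subschemeι] at this

variable {I : Type u} [Category.{u} I] [IsCofiltered I] (D : I ⥤ Scheme.{u}) (c : Cone D)
  (hc : IsLimit c)

include hc in
lemma exists_principalOn_of_isAffine [∀ i, IsAffine (D.obj i)] (i : I)
    (A : (D.obj i).IdealSheafData) (hA : (A.ideal ⟨⊤, isAffineOpen_top _⟩).FG)
    (h : PrincipalOn (A.comap (c.π.app i)) ⊤) :
    ∃ (j : I) (f : j ⟶ i), PrincipalOn (A.comap (D.map f)) ⊤ := by
  have : IsAffine c.pt := Scheme.isAffine_of_isLimit _ hc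
  haveI : IsAffine (((Functor.const I).obj c.pt).obj i) := inferInstanceAs (IsAffine c.pt)
  have : ∀ i, IsAffine (D.op.obj i).unop := by dsimp; infer_instance
  have hcol : IsColimit (Scheme.Γ.mapCocone c.op) := isColimitOfPreserves Scheme.Γ hc.op
  obtain ⟨hV, t, ht⟩ := h
  have ht' : (A.comap (c.π.app i)).ideal ⟨⊤, isAffineOpen_top _⟩ = Ideal.span {t} := ht
  rw [HCM.ideal_comap_top] at ht'
  obtain ⟨j, f, y, hy⟩ := exists_map_eq_span (D.op ⋙ Scheme.Γ) (Scheme.Γ.mapCocone c.op) hcol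
    (op i) (A.ideal ⟨⊤, isAffineOpen_top _⟩) hA t ht'
  refine ⟨j.unop, f.unop, isAffineOpen_top _, y, ?_⟩
  rw [HCM.ideal_comap_top]
  exact hy

include hc in
lemma exists_principalOn_preimage [∀ {i j} (f : i ⟶ j), IsAffineHom (D.map f)] (i : I)
    (A : (D.obj i).IdealSheafData) (U : (D.obj i).affineOpens) (hA : (A.ideal U).FG)
    (h : PrincipalOn (A.comap (c.π.app i)) (c.π.app i ⁻¹ᵁ U.1)) :
    ∃ (j : I) (f : j ⟶ i), PrincipalOn (A.comap (D.map f)) (D.map f ⁻¹ᵁ U.1) := by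
  have hAff (j : Over i) : IsAffine ((opensDiagram D i U.1).obj j) := U.2.preimage (D.map _)
  let i' : Over i := Over.mk (𝟙 i)
  let p : (opensDiagram D i U.1).obj i' ⟶ D.obj i := (D.map i'.hom ⁻¹ᵁ U.1).ι ≫ D.map i'.hom
  have hp : ⊤ ≤ p ⁻¹ᵁ U.1 := by
    intro x _
    exact x.2
  have hFG : ((A.comap p).ideal ⟨⊤, isAffineOpen_top _⟩).FG := by
    rw [Groth.Agent.LD.QC.ideal_comap_of_le A p U ⟨⊤, isAffineOpen_top _⟩ hp]
    exact hA.map _
  have hπ : (opensCone D c i U.1).π.app i' ≫ p = (c.π.app i ⁻¹ᵁ U.1).ι ≫ c.π.app i := by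
    change (c.π.app i).resLE (D.map (𝟙 i) ⁻¹ᵁ U.1) (c.π.app i ⁻¹ᵁ U.1) _ ≫
      (D.map (𝟙 i) ⁻¹ᵁ U.1).ι ≫ D.map (𝟙 i) = _
    rw [Scheme.Hom.resLE_comp_ι_assoc, c.w]
  have e1 : (A.comap p).comap ((opensCone D c i U.1).π.app i') =
      (A.comap (c.π.app i)).comap (c.π.app i ⁻¹ᵁ U.1).ι := by
    rw [← Scheme.IdealSheafData.comap_comp, hπ]
    exact Scheme.IdealSheafData.comap_comp A (c.π.app i ⁻¹ᵁ U.1).ι (c.π.app i)
  haveI : IsAffine (c.π.app i ⁻¹ᵁ U.1 : Scheme.{u}) := h.fst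
  have h0 : PrincipalOn ((A.comap p).comap ((opensCone D c i U.1).π.app i')) ⊤ := by
    rw [e1]
    exact h.comap_of_le (c.π.app i ⁻¹ᵁ U.1).ι (isAffineOpen_top _) (fun x _ => x.2)
  obtain ⟨j, f, hf⟩ := exists_principalOn_of_isAffine (opensDiagram D i U.1)
    (opensCone D c i U.1) (isLimitOpensCone D c hc i U.1) i' (A.comap p) hFG h0
  refine ⟨j.left, j.hom, ?_⟩
  have hfp : (opensDiagram D i U.1).map f ≫ p = (D.map j.hom ⁻¹ᵁ U.1).ι ≫ D.map j.hom := by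
    change (D.map f.left).resLE (D.map (𝟙 i) ⁻¹ᵁ U.1) (D.map j.hom ⁻¹ᵁ U.1) _ ≫
      (D.map (𝟙 i) ⁻¹ᵁ U.1).ι ≫ D.map (𝟙 i) = _
    rw [Scheme.Hom.resLE_comp_ι_assoc, ← D.map_comp]
    congr 2
    exact Over.w f
  have e2 : (A.comap p).comap ((opensDiagram D i U.1).map f) =
      (A.comap (D.map j.hom)).comap (D.map j.hom ⁻¹ᵁ U.1).ι := by
    rw [← Scheme.IdealSheafData.comap_comp, hfp]
    exact Scheme.IdealSheafData.comap_comp A (D.map j.hom ⁻¹ᵁ U.1).ι (D.map j.hom)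
  rw [e2] at hf
  have := PrincipalOn.of_comap_isOpenImmersion (D.map j.hom ⁻¹ᵁ U.1).ι hf
  exact this.congr (Scheme.Opens.ι_image_top _)

omit [IsCofiltered I] in
lemma PrincipalOn.map_stage [∀ {i j} (f : i ⟶ j), IsAffineHom (D.map f)] {i₀ j k : I}
    (A : (D.obj i₀).IdealSheafData) (f : j ⟶ i₀) (g : k ⟶ j) (f' : k ⟶ i₀) (e : g ≫ f = f')
    {O : (D.obj j).Opens} (h : PrincipalOn (A.comap (D.map f)) O) :
    PrincipalOn (A.comap (D.map f')) (D.map g ⁻¹ᵁ O) := by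
  subst e
  rw [D.map_comp, Scheme.IdealSheafData.comap_comp]
  exact h.comap_of_le (D.map g) (h.fst.preimage (D.map g)) le_rfl

include hc in
/-- local step of `exists_locPrincipal_stage`. -/
lemma exists_principalOn_stage_at [∀ {i j} (f : i ⟶ j), IsAffineHom (D.map f)]
    [∀ i, QuasiSeparatedSpace (D.obj i)] (i₀ : I)
    (A : (D.obj i₀).IdealSheafData) (hA : ∀ U : (D.obj i₀).affineOpens, (A.ideal U).FG)
    (x : c.pt) (V : c.pt.Opens) (hxV : x ∈ V) (hV : PrincipalOn (A.comap (c.π.app i₀)) V) :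
    ∃ (j : I) (f : j ⟶ i₀) (O : (D.obj j).Opens), x ∈ c.π.app j ⁻¹ᵁ O ∧
      PrincipalOn (A.comap (D.map f)) O := by
  obtain ⟨i, W, hW, hWV⟩ := exists_isAffineOpen_preimage_eq D c hc V hV.fst
  obtain ⟨k, a, b, -⟩ := IsCofilteredOrEmpty.cone_objs i i₀
  have hW' : IsAffineOpen (D.map a ⁻¹ᵁ W) := hW.preimage (D.map a)
  have hW'V : c.π.app k ⁻¹ᵁ (D.map a ⁻¹ᵁ W) = V := by
    rw [← Scheme.Hom.comp_preimage, c.w, hWV]
  have hA' : ((A.comap (D.map b)).ideal ⟨D.map a ⁻¹ᵁ W, hW'⟩).FG :=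
    fg_comap A hA (D.map b) ⟨D.map a ⁻¹ᵁ W, hW'⟩
  have hP : PrincipalOn ((A.comap (D.map b)).comap (c.π.app k))
      (c.π.app k ⁻¹ᵁ (D.map a ⁻¹ᵁ W)) := by
    rw [← Scheme.IdealSheafData.comap_comp, c.w]
    exact hV.congr hW'V.symm
  obtain ⟨j, f, hf⟩ := exists_principalOn_preimage D c hc k (A.comap (D.map b))
    ⟨D.map a ⁻¹ᵁ W, hW'⟩ hA' hP
  refine ⟨j, f ≫ b, D.map f ⁻¹ᵁ (D.map a ⁻¹ᵁ W), ?_, ?_⟩
  · rw [← Scheme.Hom.comp_preimage, c.w, hW'V]
    exact hxV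
  · rw [D.map_comp, Scheme.IdealSheafData.comap_comp]
    exact hf

include hc in
/-- **local principality descends to a stage**: if the inverse image on the limit of an ideal
sheaf of finite type is locally principal, so is its inverse image on some stage. -/
theorem exists_locPrincipal_stage [∀ {i j} (f : i ⟶ j), IsAffineHom (D.map f)]
    [∀ i, CompactSpace (D.obj i)] [∀ i, QuasiSeparatedSpace (D.obj i)] (i₀ : I)
    (A : (D.obj i₀).IdealSheafData) (hA : ∀ U : (D.obj i₀).affineOpens, (A.ideal U).FG)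
    (h : ∀ x : c.pt, ∃ V : c.pt.Opens, x ∈ V ∧ PrincipalOn (A.comap (c.π.app i₀)) V) :
    ∃ (j : I) (f : j ⟶ i₀), ∀ x : D.obj j, ∃ V : (D.obj j).Opens, x ∈ V ∧
      PrincipalOn (A.comap (D.map f)) V := by
  classical
  haveI : CompactSpace c.pt := Scheme.compactSpace_of_isLimit D c hc
  have hloc : ∀ x : c.pt, ∃ (j : I) (f : j ⟶ i₀) (O : (D.obj j).Opens),
      x ∈ c.π.app j ⁻¹ᵁ O ∧ PrincipalOn (A.comap (D.map f)) O := by
    intro x
    obtain ⟨V, hxV, hV⟩ := h x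
    exact exists_principalOn_stage_at D c hc i₀ A hA x V hxV hV
  choose j f O hxO hO using hloc
  let P : c.pt → c.pt.Opens := fun x ↦ c.π.app (j x) ⁻¹ᵁ O x
  have hxP : ∀ x, x ∈ P x := hxO
  obtain ⟨t, ht⟩ := CompactSpace.elim_nhds_subcover (fun x ↦ ((P x : c.pt.Opens) : Set c.pt))
    (fun x ↦ (P x).2.mem_nhds (hxP x))
  have key : ∀ s : Finset c.pt, ∃ (k : I) (g : k ⟶ i₀) (O' : c.pt → (D.obj k).Opens),
      ∀ x ∈ s, c.π.app k ⁻¹ᵁ O' x = c.π.app (j x) ⁻¹ᵁ O x ∧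
        PrincipalOn (A.comap (D.map g)) (O' x) := by
    intro s
    induction s using Finset.induction_on with
    | empty => exact ⟨i₀, 𝟙 i₀, fun _ ↦ ⊥, by simp⟩
    | insert x s hx ih =>
      obtain ⟨k₁, g₁, O₁, h₁⟩ := ih
      obtain ⟨k, a, b, e⟩ := IsCofiltered.cospan g₁ (f x)
      refine ⟨k, a ≫ g₁, fun y ↦ if y = x then D.map b ⁻¹ᵁ O x else D.map a ⁻¹ᵁ O₁ y,
        fun y hy ↦ ?_⟩
      rw [Finset.mem_insert] at hy
      by_cases hyx : y = x
      · subst hyx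
        simp only [if_true]
        refine ⟨?_, ?_⟩
        · rw [← Scheme.Hom.comp_preimage, c.w]
        · exact PrincipalOn.map_stage D A (f y) b (a ≫ g₁) e.symm (hO y)
      · simp only [if_neg hyx]
        have hys : y ∈ s := hy.resolve_left hyx
        refine ⟨?_, ?_⟩
        · rw [← Scheme.Hom.comp_preimage, c.w]
          exact (h₁ y hys).1
        · exact PrincipalOn.map_stage D A g₁ a (a ≫ g₁) rfl (h₁ y hys).2
  obtain ⟨k, g, O', hk⟩ := key t
  have hcov : c.π.app k ⁻¹ᵁ (⨆ x : t, O' x.1) = ⊤ := by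
    rw [Scheme.Hom.preimage_iSup]
    refine top_le_iff.mp fun z _ ↦ ?_
    have hz : z ∈ (⊤ : Set c.pt) := trivial
    rw [← ht] at hz
    simp only [Set.mem_iUnion] at hz
    obtain ⟨x, hx, hz⟩ := hz
    refine TopologicalSpace.Opens.mem_iSup.mpr ⟨⟨x, hx⟩, ?_⟩
    rw [(hk x hx).1]
    exact hz
  obtain ⟨m, e, hm⟩ := exists_map_eq_top D c hc (⨆ x : t, O' x.1) hcov
  refine ⟨m, e ≫ g, fun z ↦ ?_⟩
  have hz : z ∈ D.map e ⁻¹ᵁ (⨆ x : t, O' x.1) := by rw [hm]; trivial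
  rw [Scheme.Hom.preimage_iSup] at hz
  obtain ⟨x, hzx⟩ := TopologicalSpace.Opens.mem_iSup.mp hz
  exact ⟨D.map e ⁻¹ᵁ O' x.1, hzx, PrincipalOn.map_stage D A g e (e ≫ g) rfl (hk x.1 x.2).2⟩

end Sch

end Groth.Agent.H9.LPD
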