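import Mathlib
import Groth.Agent.Lib.Helper9.Misc.LPD1
import Groth.Prelude.Def_BlowUp2

/-!
# Finite type ideal sheaves: locality; sections and restrictions of morphisms
-/

set_option autoImplicit false

namespace Groth.Agent.H9.LPD

open CategoryTheory Limits AlgebraicGeometry Opposite

universe u

section FG

variable {X : Scheme.{u}}

/-- being of finite type on affine opens can be checked on an affine open cover. -/
theorem fg_of_locally (I : X.IdealSheafData)
    (h : ∀ x : X, ∃ U : X.affineOpens, x ∈ U.1 ∧ (I.ideal U).FG) (V : X.affineOpens) :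
    (I.ideal V).FG := by
  choose U hxU hU using h
  refine of_affine_open_cover (P := fun V ↦ (I.ideal V).FG) U ?_ V ?_ ?_ hU
  · exact top_le_iff.mp fun x _ ↦ TopologicalSpace.Opens.mem_iSup.mpr ⟨x, hxU x⟩
  · intro W f hW
    rw [← I.map_ideal_basicOpen W f]
    exact hW.map _
  · intro W s hs hW
    refine Ideal.fg_of_localizationSpan (s : Set Γ(X, W.1)) hs fun g ↦ ?_
    letI : Algebra Γ(X, W.1) Γ(X, X.basicOpen g.1) :=
      (X.presheaf.map (homOfLE (X.basicOpen_le g.1)).op).hom.toAlgebra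
    haveI : IsLocalization.Away g.1 Γ(X, X.basicOpen g.1) := W.2.isLocalization_basicOpen g.1
    let e : Γ(X, X.basicOpen g.1) ≃ₐ[Γ(X, W.1)] Localization.Away g.1 :=
      IsLocalization.algEquiv (Submonoid.powers g.1) _ _
    have h1 : ((I.ideal W).map (algebraMap Γ(X, W.1) Γ(X, X.basicOpen g.1))).FG := by
      have := hW ⟨g.1, g.2⟩
      rw [← I.map_ideal_basicOpen W g.1] at this
      exact this
    have h2 : (I.ideal W).map (algebraMap Γ(X, W.1) (Localization.Away g.1)) =
        ((I.ideal W).map (algebraMap Γ(X, W.1) Γ(X, X.basicOpen g.1))).map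
          (e : Γ(X, X.basicOpen g.1) →+* Localization.Away g.1) := by
      rw [Ideal.map_map]
      congr 1
      ext x
      exact (e.commutes x).symm
    rw [h2]
    exact h1.map _

theorem fg_of_effCartier (I : X.IdealSheafData) (hI : BlowUp.IsEffCartierIdeal I)
    (V : X.affineOpens) : (I.ideal V).FG := by
  refine fg_of_locally I (fun x ↦ ?_) V
  obtain ⟨U, hxU, a, -, ha⟩ := hI x
  exact ⟨U, hxU, ha ▸ ⟨{a}, by simp⟩⟩

end FG

section Sec

variable {T Y : Scheme.{u}}

/-- a morphism is an isomorphism over an open `V` as soon as it has a section over `V` through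
which the inclusion of the preimage of `V` factors. -/
theorem isIso_morphismRestrict_of_section (q : T ⟶ Y) (V : Y.Opens) (s : (V : Scheme.{u}) ⟶ T)
    (h1 : s ≫ q = V.ι) (h2 : (q ∣_ V) ≫ s = (q ⁻¹ᵁ V).ι) : IsIso (q ∣_ V) := by
  have hr : Set.range s ⊆ Set.range (q ⁻¹ᵁ V).ι := by
    rintro _ ⟨v, rfl⟩
    rw [Scheme.Opens.range_ι]
    change q (s v) ∈ V
    have : q (s v) = V.ι v := by
      rw [← h1]; rfl
    rw [this]
    exact v.2
  let s' : (V : Scheme.{u}) ⟶ (q ⁻¹ᵁ V : Scheme.{u}) := IsOpenImmersion.lift (q ⁻¹ᵁ V).ι s hr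
  have hs' : s' ≫ (q ⁻¹ᵁ V).ι = s := IsOpenImmersion.lift_fac _ _ _
  refine ⟨s', ?_, ?_⟩
  · rw [← cancel_mono (q ⁻¹ᵁ V).ι, Category.assoc, hs', h2, Category.id_comp]
  · rw [← cancel_mono V.ι, Category.assoc, morphismRestrict_ι, ← Category.assoc, hs', h1,
      Category.id_comp]

end Sec

end Groth.Agent.H9.LPD
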