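import Mathlib
import Groth.Agent.Lib.Helper5.NApprox.PropB
import Groth.Agent.Lib.Helper9.Misc.LPD2

/-!
# Closed-immersion systems approximating a morphism of finite type (uniform data)
-/

set_option autoImplicit false

namespace Groth.Agent.H9.CLS

open CategoryTheory Limits AlgebraicGeometry Opposite Groth.Agent.H5.NApprox

universe u

/-- exhaustion is inherited by the indices below a given one. -/
theorem exhaust_over {P : Scheme.{u}} {J : Type u} [SmallCategory J] [IsCofiltered J]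
    (A : J → P.IdealSheafData) (hA : ∀ {μ μ' : J} (_ : μ' ⟶ μ), A μ ≤ A μ')
    (K : P.IdealSheafData)
    (hK : ∀ (U : P.affineOpens) (x : Γ(P, U.1)), x ∈ K.ideal U → ∃ μ, x ∈ (A μ).ideal U)
    (μ₁ : J) (U : P.affineOpens) (x : Γ(P, U.1)) (hx : x ∈ K.ideal U) :
    ∃ ν : Over μ₁, x ∈ (A ν.left).ideal U := by
  obtain ⟨μ, hμ⟩ := hK U x hx
  obtain ⟨ν, a, b, -⟩ := IsCofilteredOrEmpty.cone_objs μ μ₁
  exact ⟨Over.mk b, hA a U hμ⟩

/-- the uniform data: a closed immersion into a scheme over `Y` and an exhausting cofiltered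
family of ideal sheaves inside its kernel with finitely presented closed subschemes, all proper
over `Y` when `f` is. -/
theorem exists_clSys {X Y : Scheme.{u}} (f : X ⟶ Y) [LocallyOfFiniteType f] [CompactSpace X]
    [QuasiSeparatedSpace X] [CompactSpace Y] [QuasiSeparatedSpace Y] :
    ∃ (P : Scheme.{u}) (p : P ⟶ Y) (j' : X ⟶ P) (J : Type u) (_ : SmallCategory J)
      (_ : IsCofiltered J) (A : J → P.IdealSheafData)
      (_ : ∀ {μ μ' : J} (_ : μ' ⟶ μ), A μ ≤ A μ'),
      IsClosedImmersion j' ∧ j' ≫ p = f ∧ (∀ μ, A μ ≤ j'.ker) ∧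
      (∀ (U : P.affineOpens) (x : Γ(P, U.1)), x ∈ j'.ker.ideal U → ∃ μ, x ∈ (A μ).ideal U) ∧
      (∀ μ, LocallyOfFinitePresentation ((A μ).subschemeι ≫ p) ∧
        QuasiCompact ((A μ).subschemeι ≫ p) ∧ QuasiSeparated ((A μ).subschemeι ≫ p)) ∧
      (IsProper f → ∀ μ, IsProper ((A μ).subschemeι ≫ p)) := by
  by_cases hp : IsProper f
  · obtain ⟨P, p, j', J, iJ, cJ, A, hA, hcl, hfac, hAK, hK, hlfp, μ₁, hμ₁⟩ :=
      exists_proper_stage f
    refine ⟨P, p, j', Over μ₁, inferInstance, inferInstance, fun ν ↦ A ν.left,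
      fun t ↦ hA t.left, hcl, hfac, fun ν ↦ hAK ν.left,
      fun U x hx ↦ exhaust_over A hA j'.ker hK μ₁ U x hx, fun ν ↦ ?_, fun _ ν ↦ hμ₁ ν.left ν.hom⟩
    haveI := hμ₁ ν.left ν.hom
    exact ⟨hlfp ν.left, inferInstance, inferInstance⟩
  · obtain ⟨Y₀, hY, hY', W, g, hWc, hg, hgf⟩ := exists_fp_core f
    obtain ⟨h1, h2, h3⟩ := fst_props Y Y₀
    haveI : CompactSpace (W : Scheme.{u}) := isCompact_iff_compactSpace.mp hWc
    let f' : (W : Scheme.{u}) ⟶ Y := W.ι ≫ pullback.fst (toZ Y) (toZ Y₀)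
    haveI : LocallyOfFinitePresentation f' := inferInstance
    haveI : QuasiCompact f' := inferInstance
    haveI : QuasiSeparated f' := inferInstance
    haveI : QuasiSeparatedSpace (W : Scheme.{u}) := quasiSeparatedSpace_of_quasiSeparated f'
    obtain ⟨I, pI, dI, nI, D₀, c₀, hc₀, haff, hft, ⟨e⟩⟩ := absApprox (W : Scheme.{u})
    haveI : ∀ {i j : Iᵒᵖ} (f : i ⟶ j), IsAffineHom (D₀.map f) := fun f => haff _ _ f
    haveI : ∀ i, CompactSpace (D₀.obj i) := fun i => (hft i).1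
    haveI : ∀ i, LocallyOfFiniteType (toZ (D₀.obj i)) := fun i => (hft i).2
    haveI : ∀ i, QuasiSeparatedSpace (D₀.obj i) := fun i => quasiSeparatedSpace_of_lft (D₀.obj i)
    haveI : ∀ i, IsLocallyNoetherian (D₀.obj i) := fun i =>
      LocallyOfFiniteType.isLocallyNoetherian (toZ (D₀.obj i))
    haveI : CompactSpace c₀.pt := Scheme.compactSpace_of_isLimit D₀ c₀ hc₀
    let p : c₀.pt ⟶ Y := e.hom ≫ f'
    haveI : LocallyOfFinitePresentation p := inferInstance
    haveI : QuasiCompact p := inferInstance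
    haveI : QuasiSeparated p := inferInstance
    haveI : QuasiSeparatedSpace c₀.pt := quasiSeparatedSpace_of_quasiSeparated p
    let j' : X ⟶ c₀.pt := g ≫ e.inv
    haveI : IsClosedImmersion j' := inferInstance
    have hj'p : j' ≫ p = f := by
      simp only [j', p, f', Category.assoc, Iso.inv_hom_id_assoc]
      exact hgf
    let K : c₀.pt.IdealSheafData := j'.ker
    refine ⟨c₀.pt, p, j', Iᵒᵖ, inferInstance, inferInstance, apxIdeal D₀ c₀ K,
      fun a => apxIdeal_mono D₀ c₀ K a, inferInstance, hj'p, apxIdeal_le D₀ c₀ K,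
      exists_mem_apxIdeal D₀ c₀ hc₀ K, fun μ ↦ ?_, fun h ↦ absurd h hp⟩
    haveI := apxIdeal_lfp D₀ c₀ K μ
    exact ⟨inferInstance, inferInstance, inferInstance⟩

end Groth.Agent.H9.CLS
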