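import Mathlib
import Groth.Agent.Lib.Helper9.Misc.CLS1
import Groth.Agent.Lib.Helper5.NApprox.FgIdB

/-!
# Closed-immersion systems: descending the modulus and isomorphisms over an open
-/

set_option autoImplicit false

namespace Groth.Agent.H9.CLS

open CategoryTheory Limits AlgebraicGeometry Opposite Groth.Agent.H5.NApprox

universe u

section Gen

variable {X Y T : Scheme.{u}}

theorem eq_comp_section (f : X ⟶ Y) (V : Y.Opens) [IsIso (f ∣_ V)] (h : T ⟶ X)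
    (w : T ⟶ (V : Scheme.{u})) (hw : w ≫ V.ι = h ≫ f) :
    h = w ≫ inv (f ∣_ V) ≫ (f ⁻¹ᵁ V).ι := by
  have hr : Set.range h ⊆ Set.range (f ⁻¹ᵁ V).ι := by
    rintro _ ⟨z, rfl⟩
    rw [Scheme.Opens.range_ι]
    change f (h z) ∈ V
    have : f (h z) = V.ι (w z) := by
      change (h ≫ f) z = (w ≫ V.ι) z
      rw [hw]
    rw [this]
    exact (w z).2
  let r := IsOpenImmersion.lift (f ⁻¹ᵁ V).ι h hr
  have hrι : r ≫ (f ⁻¹ᵁ V).ι = h := IsOpenImmersion.lift_fac _ _ _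
  have : r ≫ (f ∣_ V) = w := by
    rw [← cancel_mono V.ι, Category.assoc, morphismRestrict_ι, ← Category.assoc, hrι, hw]
  rw [← this, Category.assoc, IsIso.hom_inv_id_assoc, hrι]

theorem isIso_morphismRestrict_of_section' (q : T ⟶ Y) (V : Y.Opens)
    (s : (V : Scheme.{u}) ⟶ T) (h1 : s ≫ q = V.ι) (O : T.Opens) (hO : O = q ⁻¹ᵁ V)
    (v : (O : Scheme.{u}) ⟶ (V : Scheme.{u})) (hv : v ≫ V.ι = O.ι ≫ q) (h2 : O.ι = v ≫ s) :
    IsIso (q ∣_ V) := by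
  subst hO
  have : v = q ∣_ V := by rw [← cancel_mono V.ι, hv, morphismRestrict_ι]
  subst this
  exact LPD.isIso_morphismRestrict_of_section q V s h1 h2.symm

end Gen

section Sys

variable {X Y P : Scheme.{u}} (p : P ⟶ Y) (j' : X ⟶ P) [IsClosedImmersion j']
  {J : Type u} [SmallCategory J] (A : J → P.IdealSheafData)
  (hA : ∀ {μ μ' : J} (_ : μ' ⟶ μ), A μ ≤ A μ') (hAK : ∀ μ, A μ ≤ j'.ker)

/-- the map from `X` to the `μ`-th closed subscheme. -/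
noncomputable def gm (μ : J) : X ⟶ (A μ).subscheme :=
  j'.toImage ≫ Scheme.IdealSheafData.inclusion (hAK μ)

lemma gm_ι (μ : J) : gm j' A hAK μ ≫ (A μ).subschemeι = j' := by
  rw [gm, Category.assoc, Scheme.IdealSheafData.inclusion_subschemeι]
  exact j'.toImage_imageι

include hA in
lemma gm_incl {μ μ' : J} (a : μ' ⟶ μ) :
    gm j' A hAK μ' ≫ Scheme.IdealSheafData.inclusion (hA a) = gm j' A hAK μ := by
  rw [gm, Category.assoc, Scheme.IdealSheafData.inclusion_comp]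
  rfl

lemma gm_q (μ : J) : gm j' A hAK μ ≫ (A μ).subschemeι ≫ p = j' ≫ p := by
  rw [← Category.assoc, gm_ι]

variable [IsCofiltered J]
  (hK : ∀ (U : P.affineOpens) (x : Γ(P, U.1)), x ∈ j'.ker.ideal U → ∃ μ, x ∈ (A μ).ideal U)

include hA hK in
/-- the modulus descends to a stage of the closed-immersion system, locally principally and
compatibly with the modulus condition. -/
theorem exists_descend_ideal [CompactSpace Y] [QuasiSeparatedSpace Y]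
    (hqc : ∀ μ, QuasiCompact ((A μ).subschemeι ≫ p))
    (hqs : ∀ μ, QuasiSeparated ((A μ).subschemeι ≫ p))
    (IX : X.IdealSheafData) (hX : BlowUp.IsEffCartierIdeal IX) (IY : Y.IdealSheafData)
    (hf : IX ≤ IY.comap (j' ≫ p)) :
    ∃ (μ₂ : J) (J₂ : (A μ₂).subscheme.IdealSheafData),
      (∀ x : (A μ₂).subscheme, ∃ V : (A μ₂).subscheme.Opens, x ∈ V ∧ LPD.PrincipalOn J₂ V) ∧
      J₂.comap (gm j' A hAK μ₂) = IX ∧ J₂ ≤ IY.comap ((A μ₂).subschemeι ≫ p) := by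
  haveI : IsConnected J := IsCofiltered.isConnected _
  let Dcl := clD p A hA
  let ccl := clCone p A hA j'.ker hAK
  have hcl : IsLimit ccl := clIsLimit p A hA j'.ker hAK hK
  have hc' : IsLimit ((Over.forget Y).mapCone ccl) := isLimitOfPreserves (Over.forget Y) hcl
  haveI hAff1 : ∀ (i j : J) (a : i ⟶ j), IsAffineHom ((Dcl ⋙ Over.forget Y).map a) := by
    intro i j a
    show IsAffineHom (Scheme.IdealSheafData.inclusion _)
    infer_instance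
  haveI hAff2 : ∀ {i j : J} (a : i ⟶ j), IsAffineHom ((Dcl ⋙ Over.forget Y).map a) :=
    fun a ↦ hAff1 _ _ a
  haveI : ∀ i, CompactSpace ((Dcl ⋙ Over.forget Y).obj i) := by
    intro i
    show CompactSpace (A i).subscheme
    exact @QuasiCompact.compactSpace_of_compactSpace _ _ ((A i).subschemeι ≫ p) (hqc i) _
  haveI : ∀ i, QuasiSeparatedSpace ((Dcl ⋙ Over.forget Y).obj i) := by
    intro i
    show QuasiSeparatedSpace (A i).subscheme
    exact @quasiSeparatedSpace_of_quasiSeparated _ _ ((A i).subschemeι ≫ p) _ (hqs i)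
  let eI : X ≅ j'.ker.subscheme := asIso j'.toImage
  have heI : eI.inv ≫ j' = j'.ker.subschemeι := by
    rw [Iso.inv_comp_eq]
    exact j'.toImage_imageι.symm
  have hIX'fg : ∀ U : j'.ker.subscheme.affineOpens, ((IX.comap eI.inv).ideal U).FG :=
    LPD.fg_comap IX (LPD.fg_of_effCartier IX hX) eI.inv
  obtain ⟨μ₀, J₀, hJ₀fg, hJ₀⟩ : ∃ (μ₀ : J) (J₀ : (A μ₀).subscheme.IdealSheafData),
      (∀ U : (A μ₀).subscheme.affineOpens, (J₀.ideal U).FG) ∧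
        J₀.comap (Scheme.IdealSheafData.inclusion (hAK μ₀)) = IX.comap eI.inv :=
    exists_idealSheaf_fg_descend (Dcl ⋙ Over.forget Y)
      ((Over.forget Y).mapCone ccl) hc' (IX.comap eI.inv) hIX'fg
  have hloc : ∀ x : j'.ker.subscheme, ∃ V : j'.ker.subscheme.Opens, x ∈ V ∧
        LPD.PrincipalOn (J₀.comap (Scheme.IdealSheafData.inclusion (hAK μ₀))) V := by
    intro x
    rw [hJ₀]
    obtain ⟨U, hxU, a, -, ha⟩ := hX (eI.inv x)
    exact ⟨eI.inv ⁻¹ᵁ U.1, hxU,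
      LPD.PrincipalOn.comap_of_le eI.inv ⟨U.2, a, ha⟩ (U.2.preimage eI.inv) le_rfl⟩
  obtain ⟨μ₁, f₁, h₁⟩ : ∃ (μ₁ : J) (f₁ : μ₁ ⟶ μ₀), ∀ x : (A μ₁).subscheme,
      ∃ V : (A μ₁).subscheme.Opens, x ∈ V ∧
        LPD.PrincipalOn (J₀.comap (Scheme.IdealSheafData.inclusion (hA f₁))) V :=
    LPD.exists_locPrincipal_stage (Dcl ⋙ Over.forget Y)
      ((Over.forget Y).mapCone ccl) hc' μ₀ J₀ hJ₀fg hloc
  have k1 : (J₀.comap (Scheme.IdealSheafData.inclusion (hA f₁))).comap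
      (Scheme.IdealSheafData.inclusion (hAK μ₁)) = IX.comap eI.inv := by
    rw [← Scheme.IdealSheafData.comap_comp J₀, Scheme.IdealSheafData.inclusion_comp]
    exact hJ₀
  have hAmb : (J₀.comap (Scheme.IdealSheafData.inclusion (hA f₁))).comap
      (Scheme.IdealSheafData.inclusion (hAK μ₁)) ≤
      (IY.comap ((A μ₁).subschemeι ≫ p)).comap (Scheme.IdealSheafData.inclusion (hAK μ₁)) := by
    rw [k1, ← Scheme.IdealSheafData.comap_comp IY,
      Scheme.IdealSheafData.inclusion_subschemeι_assoc, ← heI, Category.assoc,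
      Scheme.IdealSheafData.comap_comp IY]
    exact Scheme.IdealSheafData.comap_mono _ hf
  obtain ⟨μ₂, f₂, h₂⟩ : ∃ (μ₂ : J) (f₂ : μ₂ ⟶ μ₁),
      (J₀.comap (Scheme.IdealSheafData.inclusion (hA f₁))).comap
        (Scheme.IdealSheafData.inclusion (hA f₂)) ≤
      (IY.comap ((A μ₁).subschemeι ≫ p)).comap (Scheme.IdealSheafData.inclusion (hA f₂)) :=
    HCM.exists_comap_le_comap (Dcl ⋙ Over.forget Y)
      ((Over.forget Y).mapCone ccl) hc' μ₁ (J₀.comap (Scheme.IdealSheafData.inclusion (hA f₁)))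
      (IY.comap ((A μ₁).subschemeι ≫ p)) (fun x ↦ by
        obtain ⟨_, ⟨U, hU, rfl⟩, hxU, -⟩ :=
          ((A μ₁).subscheme).isBasis_affineOpens.exists_subset_of_mem_open
            (Set.mem_univ x) isOpen_univ
        exact ⟨⟨U, hU⟩, hxU, LPD.fg_comap J₀ hJ₀fg _ ⟨U, hU⟩⟩) hAmb
  refine ⟨μ₂, (J₀.comap (Scheme.IdealSheafData.inclusion (hA f₁))).comap
    (Scheme.IdealSheafData.inclusion (hA f₂)), ?_, ?_, ?_⟩
  · intro x
    obtain ⟨V, hxV, hV⟩ := h₁ ((Scheme.IdealSheafData.inclusion (hA f₂)) x)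
    exact ⟨(Scheme.IdealSheafData.inclusion (hA f₂)) ⁻¹ᵁ V, hxV,
      hV.comap_of_le (Scheme.IdealSheafData.inclusion (hA f₂)) (hV.fst.preimage _) le_rfl⟩
  · rw [gm, Scheme.IdealSheafData.comap_comp,
      ← Scheme.IdealSheafData.comap_comp (J₀.comap (Scheme.IdealSheafData.inclusion (hA f₁))),
      Scheme.IdealSheafData.inclusion_comp, k1]
    change (IX.comap eI.inv).comap eI.hom = IX
    rw [← Scheme.IdealSheafData.comap_comp IX, Iso.hom_inv_id, Scheme.IdealSheafData.comap_id]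
  · refine h₂.trans (le_of_eq ?_)
    rw [← Scheme.IdealSheafData.comap_comp IY, Scheme.IdealSheafData.inclusion_subschemeι_assoc]

include hA hAK hK in
/-- if `X → Y` is an isomorphism over a quasi-compact open `V`, so is a stage of the
closed-immersion system (and all later stages). -/
theorem exists_stage_isIso
    (hqc : ∀ μ, QuasiCompact ((A μ).subschemeι ≫ p))
    (hlft : ∀ μ, LocallyOfFiniteType ((A μ).subschemeι ≫ p))
    (V : Y.Opens) (hVc : IsCompact (V : Set Y)) [IsIso ((j' ≫ p) ∣_ V)] :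
    ∃ μ₄ : J, ∀ (μ : J) (_ : μ ⟶ μ₄), IsIso (((A μ).subschemeι ≫ p) ∣_ V) := by
  haveI : IsConnected J := IsCofiltered.isConnected _
  have hcl : IsLimit (clCone p A hA j'.ker hAK) := clIsLimit p A hA j'.ker hAK hK
  let D' : J ⥤ Scheme.{u} := clD p A hA ⋙ Over.forget Y
  let c' : Cone D' := (Over.forget Y).mapCone (clCone p A hA j'.ker hAK)
  have hc' : IsLimit c' := isLimitOfPreserves (Over.forget Y) hcl
  haveI hAff1 : ∀ (i j : J) (a : i ⟶ j), IsAffineHom (D'.map a) := by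
    intro i j a
    show IsAffineHom (Scheme.IdealSheafData.inclusion _)
    infer_instance
  haveI hAff2 : ∀ {i j : J} (a : i ⟶ j), IsAffineHom (D'.map a) := fun a ↦ hAff1 _ _ a
  obtain ⟨μ₀⟩ := IsCofiltered.nonempty (C := J)
  let qm : ∀ μ, (A μ).subscheme ⟶ Y := fun μ ↦ (A μ).subschemeι ≫ p
  have hqm : ∀ {μ μ' : J} (a : μ ⟶ μ'), D'.map a ≫ qm μ' = qm μ := by
    intro μ μ' a
    show Scheme.IdealSheafData.inclusion (hA a) ≫ (A μ').subschemeι ≫ p = _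
    rw [Scheme.IdealSheafData.inclusion_subschemeι_assoc]
  let U₀ : (A μ₀).subscheme.Opens := (qm μ₀) ⁻¹ᵁ V
  have hU₀ : IsCompact (U₀ : Set (A μ₀).subscheme) :=
    @QuasiCompact.isCompact_preimage _ _ (qm μ₀) (hqc μ₀) _ V.2 hVc
  let E := opensDiagram D' μ₀ U₀
  let cE := opensCone D' c' μ₀ U₀
  have hcE : IsLimit cE := isLimitOpensCone D' c' hc' μ₀ U₀
  have hEo : ∀ j : Over μ₀, (D'.map j.hom ⁻¹ᵁ U₀) = (qm j.left) ⁻¹ᵁ V := by
    intro j
    show (D'.map j.hom) ⁻¹ᵁ ((qm μ₀) ⁻¹ᵁ V) = _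
    rw [← Scheme.Hom.comp_preimage]
    exact congrArg (fun z ↦ z ⁻¹ᵁ V) (hqm j.hom)
  haveI : ∀ j, CompactSpace (E.obj j) := fun j ↦
    isCompact_iff_compactSpace.mp
      (QuasiCompact.isCompact_preimage (f := (D'.map j.hom)) _ U₀.2 hU₀)
  haveI : LocallyOfFiniteType (qm μ₀) := hlft μ₀
  let tq : D' ⟶ (Functor.const J).obj Y :=
    { app := fun μ ↦ qm μ
      naturality := by
        intro μ μ' a
        exact (hqm a).trans (Category.comp_id _).symm }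
  let t : E ⟶ (Functor.const (Over μ₀)).obj Y :=
    opensDiagramι D' μ₀ U₀ ≫ Functor.whiskerLeft (Over.forget μ₀) tq
  have ht : ∀ j : Over μ₀, t.app j = (D'.map j.hom ⁻¹ᵁ U₀).ι ≫ qm j.left := fun j ↦ rfl
  let v : ∀ j : Over μ₀, E.obj j ⟶ (V : Scheme.{u}) := fun j ↦
    (qm j.left).resLE V (D'.map j.hom ⁻¹ᵁ U₀) (hEo j).le
  have hv : ∀ j, v j ≫ V.ι = t.app j := fun j ↦ Scheme.Hom.resLE_comp_ι _ _
  let σ : (V : Scheme.{u}) ⟶ X := inv ((j' ≫ p) ∣_ V) ≫ ((j' ≫ p) ⁻¹ᵁ V).ι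
  have hσ : σ ≫ j' ≫ p = V.ι := by
    rw [Category.assoc, ← morphismRestrict_ι, IsIso.inv_hom_id_assoc]
  let eI : X ≅ j'.ker.subscheme := asIso j'.toImage
  have heI : eI.inv ≫ j' = j'.ker.subschemeι := by
    rw [Iso.inv_comp_eq]
    exact j'.toImage_imageι.symm
  let i : Over μ₀ := Over.mk (𝟙 μ₀)
  let a : E.obj i ⟶ (A μ₀).subscheme := (D'.map i.hom ⁻¹ᵁ U₀).ι ≫ D'.map i.hom
  let b : E.obj i ⟶ (A μ₀).subscheme := v i ≫ σ ≫ gm j' A hAK μ₀
  have ha : t.app i = a ≫ qm μ₀ :=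
    ((Category.assoc _ _ _).trans
      (congrArg (fun z ↦ (D'.map i.hom ⁻¹ᵁ U₀).ι ≫ z) (hqm i.hom))).symm
  have hb : t.app i = b ≫ qm μ₀ := by
    show _ = (v i ≫ σ ≫ gm j' A hAK μ₀) ≫ (A μ₀).subschemeι ≫ p
    rw [Category.assoc, Category.assoc, gm_q, hσ, hv]
  let W : j'.ker.subscheme.Opens := (Scheme.IdealSheafData.inclusion (hAK μ₀)) ⁻¹ᵁ U₀
  have h0 : cE.π.app i ≫ (D'.map i.hom ⁻¹ᵁ U₀).ι =
      W.ι ≫ Scheme.IdealSheafData.inclusion (hAK μ₀) :=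
    Scheme.Hom.resLE_comp_ι _ _
  have hw : (cE.π.app i ≫ v i) ≫ V.ι = (W.ι ≫ eI.inv) ≫ j' ≫ p :=
    calc (cE.π.app i ≫ v i) ≫ V.ι = cE.π.app i ≫ (v i ≫ V.ι) := Category.assoc _ _ _
      _ = cE.π.app i ≫ ((D'.map i.hom ⁻¹ᵁ U₀).ι ≫ qm i.left) :=
          congrArg (fun z ↦ cE.π.app i ≫ z) ((hv i).trans (ht i))
      _ = (cE.π.app i ≫ (D'.map i.hom ⁻¹ᵁ U₀).ι) ≫ qm i.left := (Category.assoc _ _ _).symm
      _ = (W.ι ≫ Scheme.IdealSheafData.inclusion (hAK μ₀)) ≫ (A μ₀).subschemeι ≫ p :=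
          congrArg (fun z ↦ z ≫ qm μ₀) h0
      _ = (W.ι ≫ eI.inv) ≫ j' ≫ p := by
          rw [Category.assoc, Category.assoc, ← Category.assoc eI.inv, heI,
            Scheme.IdealSheafData.inclusion_subschemeι_assoc]
  have hab : cE.π.app i ≫ a = cE.π.app i ≫ b := by
    have h1 : W.ι ≫ eI.inv = (cE.π.app i ≫ v i) ≫ σ :=
      eq_comp_section (j' ≫ p) V (W.ι ≫ eI.inv) (cE.π.app i ≫ v i) hw
    have s1 : cE.π.app i ≫ a = (cE.π.app i ≫ (D'.map i.hom ⁻¹ᵁ U₀).ι) ≫ D'.map i.hom :=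
      (Category.assoc _ _ _).symm
    have s2 : (cE.π.app i ≫ (D'.map i.hom ⁻¹ᵁ U₀).ι) ≫ D'.map i.hom =
        (W.ι ≫ Scheme.IdealSheafData.inclusion (hAK μ₀)) ≫ D'.map i.hom :=
      congrArg (fun z ↦ z ≫ D'.map i.hom) h0
    have s3 : (W.ι ≫ Scheme.IdealSheafData.inclusion (hAK μ₀)) ≫ D'.map i.hom =
        W.ι ≫ (Scheme.IdealSheafData.inclusion (hAK μ₀) ≫ D'.map i.hom) :=
      Category.assoc _ _ _
    have s4 : W.ι ≫ (Scheme.IdealSheafData.inclusion (hAK μ₀) ≫ D'.map i.hom) =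
        W.ι ≫ Scheme.IdealSheafData.inclusion (hAK μ₀) :=
      congrArg (fun z ↦ W.ι ≫ z) (c'.w i.hom)
    have s5 : W.ι ≫ Scheme.IdealSheafData.inclusion (hAK μ₀) =
        W.ι ≫ eI.inv ≫ eI.hom ≫ Scheme.IdealSheafData.inclusion (hAK μ₀) := by
      rw [Iso.inv_hom_id_assoc]
    have s6 : W.ι ≫ eI.inv ≫ eI.hom ≫ Scheme.IdealSheafData.inclusion (hAK μ₀) =
        (W.ι ≫ eI.inv) ≫ gm j' A hAK μ₀ := (Category.assoc _ _ _).symm
    have s7 : (W.ι ≫ eI.inv) ≫ gm j' A hAK μ₀ = ((cE.π.app i ≫ v i) ≫ σ) ≫ gm j' A hAK μ₀ :=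
      congrArg (fun z ↦ z ≫ gm j' A hAK μ₀) h1
    have s8 : ((cE.π.app i ≫ v i) ≫ σ) ≫ gm j' A hAK μ₀ = cE.π.app i ≫ b :=
      (Category.assoc _ _ _).trans (Category.assoc _ _ _)
    exact s1.trans (s2.trans (s3.trans (s4.trans (s5.trans (s6.trans (s7.trans s8))))))
  obtain ⟨k, hik, hk⟩ := Scheme.exists_hom_comp_eq_comp_of_locallyOfFiniteType E t (qm μ₀) cE hcE
    a b ha hb hab
  refine ⟨k.left, fun μ am ↦ ?_⟩
  let k' : Over μ₀ := Over.mk (am ≫ k.hom)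
  let ak : k' ⟶ k := Over.homMk am rfl
  have hk' : E.map (ak ≫ hik) ≫ a = E.map (ak ≫ hik) ≫ b := by
    rw [E.map_comp, Category.assoc, Category.assoc, hk]
  have e1 : E.map (ak ≫ hik) ≫ a = (D'.map k'.hom ⁻¹ᵁ U₀).ι ≫ D'.map k'.hom := by
    have s1 : E.map (ak ≫ hik) ≫ a
        = (E.map (ak ≫ hik) ≫ (D'.map i.hom ⁻¹ᵁ U₀).ι) ≫ D'.map i.hom :=
      (Category.assoc _ _ _).symm
    have s2 : (E.map (ak ≫ hik) ≫ (D'.map i.hom ⁻¹ᵁ U₀).ι) ≫ D'.map i.hom =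
        ((D'.map k'.hom ⁻¹ᵁ U₀).ι ≫ D'.map (ak ≫ hik).left) ≫ D'.map i.hom :=
      congrArg (fun z ↦ z ≫ D'.map i.hom) (Scheme.Hom.resLE_comp_ι _ _)
    have s3 : ((D'.map k'.hom ⁻¹ᵁ U₀).ι ≫ D'.map (ak ≫ hik).left) ≫ D'.map i.hom =
        (D'.map k'.hom ⁻¹ᵁ U₀).ι ≫ (D'.map (ak ≫ hik).left ≫ D'.map i.hom) :=
      Category.assoc _ _ _
    have s4 : (D'.map k'.hom ⁻¹ᵁ U₀).ι ≫ (D'.map (ak ≫ hik).left ≫ D'.map i.hom) =
        (D'.map k'.hom ⁻¹ᵁ U₀).ι ≫ D'.map k'.hom := by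
      rw [← D'.map_comp, Over.w (ak ≫ hik)]
    exact s1.trans (s2.trans (s3.trans s4))
  have e2 : E.map (ak ≫ hik) ≫ v i = v k' := by
    rw [← cancel_mono V.ι, Category.assoc, hv, hv]
    exact (t.naturality (ak ≫ hik)).trans (Category.comp_id _)
  have e3 : E.map (ak ≫ hik) ≫ b = v k' ≫ σ ≫ gm j' A hAK μ₀ :=
    (Category.assoc _ _ _).symm.trans (congrArg (fun z ↦ z ≫ σ ≫ gm j' A hAK μ₀) e2)
  have hkey : (D'.map k'.hom ⁻¹ᵁ U₀).ι ≫ D'.map k'.hom = v k' ≫ σ ≫ gm j' A hAK μ₀ := by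
    rw [← e1, hk', e3]
  refine isIso_morphismRestrict_of_section' (qm μ) V (σ ≫ gm j' A hAK μ) ?_
    (D'.map k'.hom ⁻¹ᵁ U₀) (hEo k') (v k') ((hv k').trans (ht k')) ?_
  · show (σ ≫ gm j' A hAK μ) ≫ (A μ).subschemeι ≫ p = _
    rw [Category.assoc, gm_q, hσ]
  · haveI : Mono (D'.map k'.hom) := by
      show Mono (Scheme.IdealSheafData.inclusion (hA k'.hom))
      infer_instance
    refine (cancel_mono (D'.map k'.hom)).mp ?_
    refine hkey.trans ?_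
    have s1 : v k' ≫ σ ≫ gm j' A hAK μ₀
        = v k' ≫ σ ≫ gm j' A hAK μ ≫ Scheme.IdealSheafData.inclusion (hA k'.hom) :=
      congrArg (fun z ↦ v k' ≫ σ ≫ z) (gm_incl j' A hA hAK k'.hom).symm
    have s2 : v k' ≫ σ ≫ gm j' A hAK μ ≫ Scheme.IdealSheafData.inclusion (hA k'.hom) =
        (v k' ≫ σ ≫ gm j' A hAK μ) ≫ Scheme.IdealSheafData.inclusion (hA k'.hom) := by
      simp only [Category.assoc]
    exact s1.trans s2

end Sys

end Groth.Agent.H9.CLS
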