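import Mathlib
import Groth.Agent.Lib.Helper9.Misc.CLS2
import Groth.Agent.Lib.Lead.QC.CartierDense
import Groth.Agent.Lib.Lead.QC.CartierCompl

/-!
# Approximating an ambient morphism of modulus pairs by closed subschemes of finite presentation
-/

set_option autoImplicit false

namespace Groth.Agent.H9.CLS

open CategoryTheory Limits AlgebraicGeometry Opposite Groth.Agent.H5.NApprox

universe u

section Asm

variable {X Y P : Scheme.{u}} (p : P ⟶ Y) (j' : X ⟶ P) [IsClosedImmersion j']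
  {J : Type u} [SmallCategory J] [IsCofiltered J] (A : J → P.IdealSheafData)
  (hA : ∀ {μ μ' : J} (_ : μ' ⟶ μ), A μ ≤ A μ') (hAK : ∀ μ, A μ ≤ j'.ker)
  (hK : ∀ (U : P.affineOpens) (x : Γ(P, U.1)), x ∈ j'.ker.ideal U → ∃ μ, x ∈ (A μ).ideal U)

include hK in
theorem assemble (IX : X.IdealSheafData) (IY : Y.IdealSheafData)
    (hfp : ∀ μ, LocallyOfFinitePresentation ((A μ).subschemeι ≫ p) ∧
      QuasiCompact ((A μ).subschemeι ≫ p) ∧ QuasiSeparated ((A μ).subschemeι ≫ p))
    (hprop : IsProper (j' ≫ p) → ∀ μ, IsProper ((A μ).subschemeι ≫ p))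
    (μs : J) (Jm : ∀ ν : Over μs, (A ν.left).subscheme.IdealSheafData)
    (h1 : ∀ ν, Curv2.IsLocPrincipal (Jm ν))
    (h2 : ∀ ν, IX = (Jm ν).comap (gm j' A hAK ν.left))
    (h3 : ∀ (ν ν' : Over μs) (t : ν ⟶ ν'),
      Jm ν = (Jm ν').comap (Scheme.IdealSheafData.inclusion (hA t.left)))
    (h4 : ∀ ν, Jm ν ≤ IY.comap ((A ν.left).subschemeι ≫ p))
    (h5 : IX = IY.comap (j' ≫ p) → ∀ ν, Jm ν = IY.comap ((A ν.left).subschemeι ≫ p))
    (h6 : IX = IY.comap (j' ≫ p) → IsIso ((j' ≫ p) ∣_ ModPair.interior IY) →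
      ∀ ν : Over μs, IsIso (((A ν.left).subschemeι ≫ p) ∣_ ModPair.interior IY)) :
    ∃ (I : Type u) (_ : SmallCategory I) (_ : IsCofiltered I) (D : I ⥤ Over Y) (c : Cone D)
      (_ : IsLimit c) (e : c.pt ≅ Over.mk (j' ≫ p)) (J : ∀ i, (D.obj i).left.IdealSheafData),
      (∀ i, LocallyOfFinitePresentation (D.obj i).hom ∧ QuasiCompact (D.obj i).hom ∧
          QuasiSeparated (D.obj i).hom) ∧
        (∀ (i j : I) (t : i ⟶ j), IsClosedImmersion (D.map t).left) ∧
        (∀ i, IsClosedImmersion (c.π.app i).left) ∧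
        (∀ i, Curv2.IsLocPrincipal (J i)) ∧
        (∀ i, IX = (J i).comap (e.inv.left ≫ (c.π.app i).left)) ∧
        (∀ (i j : I) (t : i ⟶ j), J i = (J j).comap (D.map t).left) ∧
        (∀ i, ModPair.IsAmbient (J i) IY (D.obj i).hom) ∧
        (ModPair.IsMinimal IX IY (j' ≫ p) → ∀ i, ModPair.IsMinimal (J i) IY (D.obj i).hom) ∧
        (IsProper (j' ≫ p) → ∀ i, IsProper (D.obj i).hom) ∧
        (ModPair.IsMinimal IX IY (j' ≫ p) → IsIso ((j' ≫ p) ∣_ ModPair.interior IY) →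
          ∀ i, IsIso ((D.obj i).hom ∣_ ModPair.interior IY)) := by
  let e : (clCone p A hA j'.ker hAK).pt ≅ Over.mk (j' ≫ p) := by
    refine Over.isoMk (asIso j'.toImage).symm ?_
    show inv j'.toImage ≫ j' ≫ p = j'.ker.subschemeι ≫ p
    rw [IsIso.inv_comp_eq, ← Category.assoc,
      show j'.toImage ≫ j'.ker.subschemeι = j' from j'.toImage_imageι]
  refine ⟨Over μs, inferInstance, inferInstance, Over.forget μs ⋙ clD p A hA,
    (clCone p A hA j'.ker hAK).whisker (Over.forget μs),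
    (Functor.Initial.isLimitWhiskerEquiv (Over.forget μs) _).symm
      (clIsLimit p A hA j'.ker hAK hK), e, Jm, ?_, ?_, ?_, h1, ?_, ?_, ?_, ?_, ?_, ?_⟩
  · intro ν
    exact hfp ν.left
  · intro ν ν' t
    show IsClosedImmersion (Scheme.IdealSheafData.inclusion _)
    infer_instance
  · intro ν
    show IsClosedImmersion (Scheme.IdealSheafData.inclusion _)
    infer_instance
  · intro ν
    exact h2 ν
  · intro ν ν' t
    exact h3 ν ν' t
  · intro ν
    exact h4 ν
  · intro hm ν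
    exact h5 hm ν
  · intro hp ν
    exact hprop hp ν.left
  · intro hm hi ν
    exact h6 hm hi ν

end Asm

section Main

theorem isLocPrincipal_of_principalOn {T : Scheme.{u}} (I : T.IdealSheafData)
    (h : ∀ x : T, ∃ V : T.Opens, x ∈ V ∧ LPD.PrincipalOn I V) : Curv2.IsLocPrincipal I := by
  intro x _
  obtain ⟨V, hxV, hV, a, ha⟩ := h x
  exact ⟨⟨V, hV⟩, hxV, a, ha⟩

theorem isLocPrincipal_comap {T Y : Scheme.{u}} (IY : Y.IdealSheafData)
    (hY : BlowUp.IsEffCartierIdeal IY) (q : T ⟶ Y) : Curv2.IsLocPrincipal (IY.comap q) := by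
  intro x _
  obtain ⟨U, V, e, d, hxV, -, -, hV⟩ := Groth.Agent.LD.QC.locPrincipal_comap IY hY q x
  exact ⟨V, hxV, _, hV⟩

theorem isCompact_interior {Y : Scheme.{u}} [CompactSpace Y] (IY : Y.IdealSheafData)
    (hY : BlowUp.IsEffCartierIdeal IY) : IsCompact ((ModPair.interior IY : Y.Opens) : Set Y) := by
  haveI : IsAffineHom (Scheme.Opens.ι (X := Y) IY.support.compl) :=
    Groth.Agent.LD.QC.isAffineHom_compl_of_locPrincipal IY (fun x _ ↦ by
      obtain ⟨U, hxU, a, -, ha⟩ := hY x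
      exact ⟨U, hxU, a, ha⟩)
  haveI : CompactSpace (IY.support.compl : Scheme.{u}) :=
    QuasiCompact.compactSpace_of_compactSpace (Scheme.Opens.ι (X := Y) IY.support.compl)
  exact isCompact_iff_compactSpace.mpr this

theorem main {X Y : Scheme.{u}}
    [CompactSpace X] [QuasiSeparatedSpace X] [CompactSpace Y] [QuasiSeparatedSpace Y]
    (IX : X.IdealSheafData) (IY : Y.IdealSheafData) (hX : BlowUp.IsEffCartierIdeal IX)
    (hY : BlowUp.IsEffCartierIdeal IY) (f : X ⟶ Y) (hf : ModPair.IsAmbient IX IY f)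
    [LocallyOfFiniteType f] :
    ∃ (I : Type u) (_ : SmallCategory I) (_ : IsCofiltered I) (D : I ⥤ Over Y) (c : Cone D)
      (_ : IsLimit c) (e : c.pt ≅ Over.mk f) (J : ∀ i, (D.obj i).left.IdealSheafData),
      (∀ i, LocallyOfFinitePresentation (D.obj i).hom ∧ QuasiCompact (D.obj i).hom ∧
          QuasiSeparated (D.obj i).hom) ∧
        (∀ (i j : I) (t : i ⟶ j), IsClosedImmersion (D.map t).left) ∧
        (∀ i, IsClosedImmersion (c.π.app i).left) ∧
        (∀ i, Curv2.IsLocPrincipal (J i)) ∧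
        (∀ i, IX = (J i).comap (e.inv.left ≫ (c.π.app i).left)) ∧
        (∀ (i j : I) (t : i ⟶ j), J i = (J j).comap (D.map t).left) ∧
        (∀ i, ModPair.IsAmbient (J i) IY (D.obj i).hom) ∧
        (ModPair.IsMinimal IX IY f → ∀ i, ModPair.IsMinimal (J i) IY (D.obj i).hom) ∧
        (IsProper f → ∀ i, IsProper (D.obj i).hom) ∧
        (ModPair.IsMinimal IX IY f → IsIso (f ∣_ ModPair.interior IY) →
          ∀ i, IsIso ((D.obj i).hom ∣_ ModPair.interior IY)) := by
  obtain ⟨P, p, j', J, iJ, cJ, A, hA, hcl, hfac, hAK, hK, hfp, hprop⟩ := exists_clSys f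
  subst hfac
  have hqc : ∀ μ, QuasiCompact ((A μ).subschemeι ≫ p) := fun μ ↦ (hfp μ).2.1
  have hqs : ∀ μ, QuasiSeparated ((A μ).subschemeι ≫ p) := fun μ ↦ (hfp μ).2.2
  have hlft : ∀ μ, LocallyOfFiniteType ((A μ).subschemeι ≫ p) := fun μ ↦ by
    haveI := (hfp μ).1
    infer_instance
  by_cases hmin : IX = IY.comap (j' ≫ p)
  · -- minimal case: pull back the modulus of `Y`
    have hmain : ∀ μs : J, (IsIso ((j' ≫ p) ∣_ ModPair.interior IY) →
        ∀ ν : Over μs, IsIso (((A ν.left).subschemeι ≫ p) ∣_ ModPair.interior IY)) → _ :=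
      fun μs h6 ↦ assemble p j' A hA hAK hK IX IY hfp hprop μs
        (fun ν ↦ IY.comap ((A ν.left).subschemeι ≫ p))
        (fun ν ↦ isLocPrincipal_comap IY hY _)
        (fun ν ↦ by
          rw [← Scheme.IdealSheafData.comap_comp IY, gm_q]
          exact hmin)
        (fun ν ν' t ↦ by
          rw [← Scheme.IdealSheafData.comap_comp IY,
            Scheme.IdealSheafData.inclusion_subschemeι_assoc])
        (fun ν ↦ le_rfl) (fun _ ν ↦ rfl) (fun _ hi ↦ h6 hi)
    by_cases hiso : IsIso ((j' ≫ p) ∣_ ModPair.interior IY)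
    · obtain ⟨μ₄, hμ₄⟩ := exists_stage_isIso p j' A hA hAK hK hqc hlft (ModPair.interior IY)
        (isCompact_interior IY hY)
      exact hmain μ₄ (fun _ ν ↦ hμ₄ ν.left ν.hom)
    · obtain ⟨μ₀⟩ := IsCofiltered.nonempty (C := J)
      exact hmain μ₀ (fun hi ↦ absurd hi hiso)
  · -- general case: descend the modulus of `X`
    obtain ⟨μ₂, J₂, hloc, hJX, hJY⟩ :=
      exists_descend_ideal p j' A hA hAK hK hqc hqs IX hX IY hf
    refine assemble p j' A hA hAK hK IX IY hfp hprop μ₂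
      (fun ν ↦ J₂.comap (Scheme.IdealSheafData.inclusion (hA ν.hom)))
      (fun ν ↦ isLocPrincipal_of_principalOn _ (fun x ↦ ?_))
      (fun ν ↦ ?_) (fun ν ν' t ↦ ?_) (fun ν ↦ ?_) (fun hm ↦ absurd hm hmin)
      (fun hm ↦ absurd hm hmin)
    · obtain ⟨V, hxV, hV⟩ := hloc ((Scheme.IdealSheafData.inclusion (hA ν.hom)) x)
      exact ⟨(Scheme.IdealSheafData.inclusion (hA ν.hom)) ⁻¹ᵁ V, hxV,
        hV.comap_of_le (Scheme.IdealSheafData.inclusion (hA ν.hom)) (hV.fst.preimage _) le_rfl⟩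
    · rw [← Scheme.IdealSheafData.comap_comp J₂, gm_incl j' A hA hAK ν.hom]
      exact hJX.symm
    · rw [← Scheme.IdealSheafData.comap_comp J₂, Scheme.IdealSheafData.inclusion_comp]
    · refine (Scheme.IdealSheafData.comap_mono _ hJY).trans (le_of_eq ?_)
      show (IY.comap ((A μ₂).subschemeι ≫ p)).comap
        (Scheme.IdealSheafData.inclusion (hA ν.hom)) = _
      rw [← Scheme.IdealSheafData.comap_comp IY,
        Scheme.IdealSheafData.inclusion_subschemeι_assoc]

end Main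

end Groth.Agent.H9.CLS
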