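import Mathlib
import Groth.Prelude.Def_CAlg
import Groth.Agent.Lib.Helper6.DepthInf
import Groth.Agent.Lib.Helper6.DepthKit
import Groth.Agent.Lib.Helper6.CMKit
import Groth.Agent.Lib.Helper6.SkKit
import Groth.Agent.Lib.Helper6.SkQuot
import Groth.Agent.Lib.Helper6.LCProps
import Groth.Agent.Lib.Helper9.Misc.GDH

/-!
# Serre's conditions descend to split subrings with module-finite extension and equal heights in
fibres (helper9)
-/

set_option autoImplicit false
set_option linter.style.haveILetI false
set_option linter.unusedSectionVars false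
set_option linter.unusedVariables false

universe u

open CategoryTheory
open scoped Pointwise

namespace Groth.Agent.H9.CMI

open Groth.Agent.H6

section Core

variable {A R : Type u} [CommRing A] [CommRing R] [IsNoetherianRing A] [IsNoetherianRing R]
  [Algebra A R] [Module.Finite A R]

/-- the two quotients of `N` by a regular element coming from `A` -/
noncomputable def quotEquiv (N : Type u) [AddCommGroup N] [Module R N] [Module A N]
    [IsScalarTower A R N] (t : A) :
    QuotSMulTop (algebraMap A R t) N ≃ₗ[A] QuotSMulTop t N :=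
  (Submodule.Quotient.restrictScalarsEquiv A
      (algebraMap A R t • (⊤ : Submodule R N))).symm ≪≫ₗ
    Submodule.quotEquivOfEq _ _ (by
      ext x
      rw [Submodule.restrictScalars_mem, Submodule.mem_smul_pointwise_iff_exists,
        Submodule.mem_smul_pointwise_iff_exists]
      constructor
      · rintro ⟨y, hy, rfl⟩
        exact ⟨y, trivial, (algebraMap_smul R t y).symm⟩
      · rintro ⟨y, hy, rfl⟩
        exact ⟨y, trivial, algebraMap_smul R t y⟩)

/-- **depth over a module-finite extension**: the `I`-depth over `A` of a finite `R`-module is at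
least its `IR`-depth over `R` -/
theorem le_idealDepth_of_le_idealDepth_map (I : Ideal A) (n : ℕ) :
    ∀ (N : Type u) [AddCommGroup N] [Module R N] [Module A N] [IsScalarTower A R N]
      [Module.Finite R N],
      (n : ℕ∞) ≤ LocCoh.idealDepth (I.map (algebraMap A R)) N →
        (n : ℕ∞) ≤ LocCoh.idealDepth I N := by
  classical
  induction n with
  | zero => intro N _ _ _ _ _ _; simp
  | succ n ih =>
    intro N _ _ _ _ _ h
    haveI : Module.Finite A N := Module.Finite.trans R N
    by_cases hIN : I • (⊤ : Submodule A N) = ⊤
    · unfold LocCoh.idealDepth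
      rw [if_pos hIN]
      exact le_top
    have hass : ∀ K ∈ associatedPrimes R N, ¬ I.map (algebraMap A R) ≤ K := by
      intro K hK hle
      haveI : K.IsPrime := hK.isPrime
      have h1 := Depth.idealDepth_eq_iInf (I.map (algebraMap A R)) N
      have h2 : LocCoh.idealDepth (I.map (algebraMap A R)) N ≤
          LocCoh.depth (Localization.AtPrime K) (LocalizedModule K.primeCompl N) := by
        rw [h1]
        exact iInf₂_le (⟨K, hK.isPrime⟩ : PrimeSpectrum R) hle
      have h3 : ((1 : ℕ) : ℕ∞) ≤
          LocCoh.depth (Localization.AtPrime K) (LocalizedModule K.primeCompl N) :=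
        le_trans (by exact_mod_cast Nat.succ_le_succ (Nat.zero_le n)) (h.trans h2)
      rw [← Depth.locDepthGE_iff] at h3
      exact Depth.not_mem_associatedPrimes_of_locDepthGE N K h3 hK
    have hfin := associatedPrimes.finite R N
    have hsub : ¬ ((I : Set A) ⊆ ⋃ K ∈ (↑hfin.toFinset : Set (Ideal R)),
        (K.comap (algebraMap A R) : Set A)) := by
      intro hs
      obtain ⟨K, hK, hle⟩ := (Ideal.subset_union_prime
        (f := fun K : Ideal R => K.comap (algebraMap A R)) ⊥ ⊥ (fun K hK _ _ => by
          rw [Set.Finite.mem_toFinset] at hK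
          haveI : K.IsPrime := hK.isPrime
          exact Ideal.comap_isPrime _ _)).mp hs
      rw [Set.Finite.mem_toFinset] at hK
      exact hass K hK (Ideal.map_le_iff_le_comap.mpr hle)
    obtain ⟨t, htI, htn⟩ := Set.not_subset.mp hsub
    have hregR : IsSMulRegular N (algebraMap A R t) := by
      have h1 := biUnion_associatedPrimes_eq_compl_regular (R := R) (M := N)
      by_contra hnr
      have h2 : algebraMap A R t ∈ ⋃ p ∈ associatedPrimes R N, (p : Set R) := by
        rw [h1]; exact hnr
      rw [Set.mem_iUnion₂] at h2
      obtain ⟨K, hK, htK⟩ := h2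
      apply htn
      rw [Set.mem_iUnion₂]
      exact ⟨K, by rw [Finset.mem_coe, Set.Finite.mem_toFinset]; exact hK, htK⟩
    have hregA : IsSMulRegular N t := by
      intro x y hxy
      apply hregR
      simpa only [algebraMap_smul] using hxy
    have h4 := Depth.idealDepth_quotSMulTop_add_one (I.map (algebraMap A R)) N
      (algebraMap A R t) (Ideal.mem_map_of_mem _ htI) hregR
    have h5 : (n : ℕ∞) ≤
        LocCoh.idealDepth (I.map (algebraMap A R)) (QuotSMulTop (algebraMap A R t) N) := by
      rw [← h4] at h
      have h' : ((n : ℕ∞) + 1) ≤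
          LocCoh.idealDepth (I.map (algebraMap A R)) (QuotSMulTop (algebraMap A R t) N) + 1 := by
        exact_mod_cast h
      exact (ENat.add_le_add_iff_right ENat.one_ne_top).mp h'
    have h6 := ih (QuotSMulTop (algebraMap A R t) N) h5
    have h7 := Depth.idealDepth_quotSMulTop_add_one I N t htI hregA
    haveI : Module.Finite A (QuotSMulTop (algebraMap A R t) N) :=
      Module.Finite.trans R _
    rw [CM.idealDepth_eq_of_linearEquiv I (quotEquiv N t)] at h6
    rw [← h7]
    have h8 : ((n : ℕ∞) + 1) ≤ LocCoh.idealDepth I (QuotSMulTop t N) + 1 :=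
      add_le_add h6 le_rfl
    exact_mod_cast h8

/-- local form: depth at a prime `p` of `A` is bounded below by the depths at the primes of `R`
containing `pR` -/
theorem locDepthGE_of_forall (p : Ideal A) [p.IsPrime] (n : ℕ)
    (N : Type u) [AddCommGroup N] [Module R N] [Module A N] [IsScalarTower A R N]
    [Module.Finite R N]
    (h : ∀ (q : Ideal R) [q.IsPrime], p.map (algebraMap A R) ≤ q → Depth.LocDepthGE N q n) :
    Depth.LocDepthGE N p n := by
  haveI : Module.Finite A N := Module.Finite.trans R N
  rw [Depth.locDepthGE_iff]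
  have h1 : (n : ℕ∞) ≤ LocCoh.idealDepth (p.map (algebraMap A R)) N := by
    rw [Depth.idealDepth_eq_iInf]
    refine le_iInf₂ fun q hq => ?_
    haveI := q.2
    rw [← Depth.locDepthGE_iff]
    exact h q.asIdeal hq
  have h2 := le_idealDepth_of_le_idealDepth_map p n N h1
  rw [Depth.idealDepth_eq_iInf] at h2
  exact h2.trans (iInf₂_le (⟨p, inferInstance⟩ : PrimeSpectrum A) le_rfl)

end Core

section Summand

variable {A : Type u} [CommRing A] [IsNoetherianRing A]

/-- local depth passes to direct summands -/
theorem locDepthGE_of_retraction {M N : Type u} [AddCommGroup M] [Module A M]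
    [AddCommGroup N] [Module A N] (ι : M →ₗ[A] N) (E : N →ₗ[A] M)
    (hE : E ∘ₗ ι = LinearMap.id) (p : Ideal A) [p.IsPrime] (k : ℕ)
    (h : Depth.LocDepthGE N p k) : Depth.LocDepthGE M p k := by
  intro i hi
  have hN := h i hi
  rw [LocalizedModule.subsingleton_iff] at hN ⊢
  intro z
  obtain ⟨r, hr, hrz⟩ := hN (((localCohomology p i).map (ModuleCat.ofHom ι)).hom z)
  refine ⟨r, hr, ?_⟩
  have hid : 𝟙 (ModuleCat.of A M) = ModuleCat.ofHom ι ≫ ModuleCat.ofHom E := by
    rw [← ModuleCat.ofHom_comp, hE]
    rfl
  have hz : z = ((localCohomology p i).map (𝟙 (ModuleCat.of A M))).hom z := by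
    rw [CategoryTheory.Functor.map_id]
    rfl
  rw [hz, hid, LC.map_comp_hom, ← map_smul, hrz, map_zero]

end Summand

section Height

variable {A R : Type u} [CommRing A] [CommRing R] [IsNoetherianRing A]
  [Algebra A R] [Algebra.IsIntegral A R]

/-- if primes of `R` in the same fibre over `A` have the same height, heights do not drop under
contraction -/
theorem height_comap_le (hinj : Function.Injective (algebraMap A R))
    (HT : ∀ (q q' : Ideal R) [q.IsPrime] [q'.IsPrime],
      q.comap (algebraMap A R) = q'.comap (algebraMap A R) → q.height = q'.height) :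
    ∀ (m : ℕ) (q : Ideal R) [q.IsPrime], (q.comap (algebraMap A R)).height = m →
      (m : ℕ∞) ≤ q.height := by
  intro m
  induction m using Nat.strong_induction_on with
  | _ m ih =>
    intro q _ hm
    set p := q.comap (algebraMap A R) with hp
    haveI : p.IsPrime := Ideal.comap_isPrime _ _
    have e2 := PrimeSpectrum.height_eq_orderHeight (⟨p, inferInstance⟩ : PrimeSpectrum A)
    simp only at e2
    rw [← hm, e2, Order.height_eq_iSup_lt_height]
    refine iSup₂_le fun p' hp' => ?_
    haveI := p'.2
    -- the height of p' is a smaller natural number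
    have hfin : p'.asIdeal.height ≠ ⊤ := Ideal.height_ne_top p'.2.ne_top
    obtain ⟨m', hm'⟩ := ENat.ne_top_iff_exists.mp hfin
    have e3 := PrimeSpectrum.height_eq_orderHeight p'
    have hlt : m' < m := by
      have h1 : Order.height p' < Order.height (⟨p, inferInstance⟩ : PrimeSpectrum A) :=
        Order.height_strictMono hp' (by rw [← e3]; exact lt_top_iff_ne_top.mpr hfin)
      rw [← e3, ← e2, ← hm', hm] at h1
      exact_mod_cast h1
    -- lying over and going up
    obtain ⟨q', -, hq'p, hq'⟩ := Ideal.exists_ideal_over_prime_of_isIntegral p'.asIdeal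
      (⊥ : Ideal R) (by
        intro x hx
        rw [Ideal.mem_comap, Ideal.mem_bot] at hx
        have : x = 0 := hinj (by rw [hx, map_zero])
        rw [this]
        exact zero_mem _)
    haveI := hq'p
    have h2 : (m' : ℕ∞) ≤ q'.height := ih m' hlt q' (by rw [hq', hm'])
    have hle : q'.comap (algebraMap A R) ≤ p := by
      rw [hq']
      exact hp'.le
    obtain ⟨q'', hq''le, hq''p, hq''⟩ := Ideal.exists_ideal_over_prime_of_isIntegral p q' hle
    haveI := hq''p
    have hne : q' ≠ q'' := by
      intro h
      rw [h, hq''] at hq'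
      exact absurd (PrimeSpectrum.ext hq') hp'.ne'
    have hlt' : (⟨q', hq'p⟩ : PrimeSpectrum R) < ⟨q'', hq''p⟩ := lt_of_le_of_ne hq''le (fun h => hne (congrArg PrimeSpectrum.asIdeal h))
    have h3 := Order.height_add_one_le hlt'
    have e4 := PrimeSpectrum.height_eq_orderHeight (⟨q', hq'p⟩ : PrimeSpectrum R)
    have e5 := PrimeSpectrum.height_eq_orderHeight (⟨q'', hq''p⟩ : PrimeSpectrum R)
    simp only at e4 e5
    rw [← e4, ← e5, HT q'' q hq''] at h3
    rw [← e3, ← hm']
    exact (add_le_add h2 le_rfl).trans h3

end Height

end Groth.Agent.H9.CMI
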