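import Mathlib
import Groth.Agent.Lib.Helper9.Misc.CMI1
import Groth.Agent.Lib.Helper6.Liai3

/-!
# Serre's conditions and the Cohen–Macaulay property descend to split subrings (helper9)
-/

set_option autoImplicit false
set_option linter.style.haveILetI false
set_option linter.unusedSectionVars false
set_option linter.unusedVariables false

universe u

open CategoryTheory
open scoped Pointwise

namespace Groth.Agent.H9.CMI

open Groth.Agent.H6

section Main

variable {A R : Type u} [CommRing A] [CommRing R] [IsNoetherianRing A] [IsNoetherianRing R]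
  [Algebra A R] [Module.Finite A R]

/-- the key depth estimate -/
theorem locDepthGE_of_hasSk (hinj : Function.Injective (algebraMap A R))
    (HT : ∀ (q q' : Ideal R) [q.IsPrime] [q'.IsPrime],
      q.comap (algebraMap A R) = q'.comap (algebraMap A R) → q.height = q'.height)
    (r : ℕ) (hR : LocCoh.HasSk r R R) (p : Ideal A) [p.IsPrime] (j : ℕ) (hj : j ≤ r)
    (hjp : (j : ℕ∞) ≤ p.height) : Depth.LocDepthGE R p j := by
  haveI : Algebra.IsIntegral A R := Algebra.IsIntegral.of_finite A R
  apply locDepthGE_of_forall (R := R) p j R
  intro q _ hpq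
  apply (Sk.hasSk_iff (R := R) r R).mp hR q j hj
  rw [Sk.supportDim_localizedModule_self]
  have h1 : p ≤ q.comap (algebraMap A R) := Ideal.map_le_iff_le_comap.mp hpq
  haveI : (q.comap (algebraMap A R)).IsPrime := Ideal.comap_isPrime _ _
  have hfin : (q.comap (algebraMap A R)).height ≠ ⊤ :=
    Ideal.height_ne_top (Ideal.IsPrime.ne_top inferInstance)
  obtain ⟨m, hm⟩ := ENat.ne_top_iff_exists.mp hfin
  have h2 := height_comap_le hinj HT m q hm.symm
  have h3 : (j : ℕ∞) ≤ q.height :=
    hjp.trans ((Ideal.height_mono h1).trans (by rw [← hm]; exact h2))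
  exact_mod_cast h3

/-- **Serre's conditions descend** to a split subring over which the ring is module-finite with
equal heights in the fibres -/
theorem hasSk_of_finite_split (hinj : Function.Injective (algebraMap A R))
    (E : R →ₗ[A] A) (hE : ∀ a, E (algebraMap A R a) = a)
    (HT : ∀ (q q' : Ideal R) [q.IsPrime] [q'.IsPrime],
      q.comap (algebraMap A R) = q'.comap (algebraMap A R) → q.height = q'.height)
    (r : ℕ) (hR : LocCoh.HasSk r R R) : LocCoh.HasSk r A R ∧ LocCoh.HasSk r A A := by
  constructor
  · rw [Sk.hasSk_iff (R := A) r R]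
    intro p _ j hj hsupp
    apply locDepthGE_of_hasSk hinj HT r hR p j hj
    have h1 := hsupp.trans (Module.supportDim_le_ringKrullDim (Localization.AtPrime p)
      (LocalizedModule p.primeCompl R))
    rw [IsLocalization.AtPrime.ringKrullDim_eq_height p (Localization.AtPrime p)] at h1
    exact_mod_cast h1
  · rw [Sk.hasSk_iff (R := A) r A]
    intro p _ j hj hsupp
    rw [Sk.supportDim_localizedModule_self] at hsupp
    have h1 : (j : ℕ∞) ≤ p.height := by exact_mod_cast hsupp
    refine locDepthGE_of_retraction (Algebra.linearMap A R) E ?_ p j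
      (locDepthGE_of_hasSk hinj HT r hR p j hj h1)
    ext
    have h2 := hE 1
    rw [map_one] at h2
    simpa using h2

/-- **the Cohen–Macaulay property descends**, and the big ring is maximal Cohen–Macaulay over the
small one -/
theorem cm_of_finite_split (hinj : Function.Injective (algebraMap A R))
    (E : R →ₗ[A] A) (hE : ∀ a, E (algebraMap A R a) = a)
    (HT : ∀ (q q' : Ideal R) [q.IsPrime] [q'.IsPrime],
      q.comap (algebraMap A R) = q'.comap (algebraMap A R) → q.height = q'.height)
    [hR : LocCoh.IsCohenMacaulayRing R] :
    LocCoh.IsCohenMacaulayRing A ∧ ∀ (p : Ideal A) [p.IsPrime],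
      LocCoh.IsCohenMacaulayModule (Localization.AtPrime p) (LocalizedModule p.primeCompl R) ∧
        Module.supportDim (Localization.AtPrime p) (LocalizedModule p.primeCompl R) =
          ringKrullDim (Localization.AtPrime p) := by
  have hSk : ∀ k : ℕ, LocCoh.HasSk k R R := fun k => Liai.hasSk_of_cm k
  refine ⟨Liai.cm_of_hasSk fun k => (hasSk_of_finite_split hinj E hE HT k (hSk k)).2, ?_⟩
  intro p _
  haveI : IsNoetherianRing (Localization.AtPrime p) :=
    IsLocalization.isNoetherianRing p.primeCompl _ inferInstance
  haveI : Module.Finite (Localization.AtPrime p) (LocalizedModule p.primeCompl R) :=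
    Module.Finite.of_isLocalizedModule p.primeCompl (LocalizedModule.mkLinearMap p.primeCompl R)
  -- the support dimension
  have hsd : Module.supportDim (Localization.AtPrime p) (LocalizedModule p.primeCompl R) =
      ringKrullDim (Localization.AtPrime p) := by
    apply le_antisymm (Module.supportDim_le_ringKrullDim _ _)
    rw [IsLocalization.AtPrime.ringKrullDim_eq_height p (Localization.AtPrime p),
      ← Sk.supportDim_localizedModule_self p]
    refine Module.supportDim_le_of_injective
      (LocalizedModule.map p.primeCompl (Algebra.linearMap A R)) ?_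
    exact IsLocalizedModule.map_injective p.primeCompl
      (LocalizedModule.mkLinearMap p.primeCompl A) (LocalizedModule.mkLinearMap p.primeCompl R)
      (Algebra.linearMap A R) hinj
  refine ⟨?_, hsd⟩
  unfold LocCoh.IsCohenMacaulayModule
  have hfin : p.height ≠ ⊤ := Ideal.height_ne_top (Ideal.IsPrime.ne_top inferInstance)
  obtain ⟨d, hd⟩ := ENat.ne_top_iff_exists.mp hfin
  have hsd' : Module.supportDim (Localization.AtPrime p) (LocalizedModule p.primeCompl R) =
      ((d : ℕ∞) : WithBot ℕ∞) := by
    rw [hsd, IsLocalization.AtPrime.ringKrullDim_eq_height p (Localization.AtPrime p), hd]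
  haveI : Nontrivial (LocalizedModule p.primeCompl R) := by
    rw [← Module.supportDim_ne_bot_iff_nontrivial (Localization.AtPrime p), hsd']
    exact WithBot.coe_ne_bot
  obtain ⟨d', hd'1, hd'2⟩ := Depth.exists_depth_eq (R := Localization.AtPrime p)
    (LocalizedModule p.primeCompl R)
  have h1 : Depth.LocDepthGE R p d :=
    locDepthGE_of_hasSk hinj HT d (hSk d) p d le_rfl (by rw [← hd])
  rw [Depth.locDepthGE_iff] at h1
  rw [hsd']
  apply le_antisymm
  · exact_mod_cast h1
  · rw [hd'1]
    rw [hsd'] at hd'2
    exact hd'2

end Main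

end Groth.Agent.H9.CMI
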