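import Mathlib
import Groth.Prelude.Def_GLin
import Groth.Agent.Lib.Helper9.ComodColon
import Groth.Agent.Lib.Helper9.HopfAntipode
import Groth.Agent.Lib.Helper2.EqNormal

/-!
# Invariants of a finite product of normal domains (helper9)
-/

set_option autoImplicit false
set_option linter.style.haveILetI false
set_option linter.unusedSectionVars false
set_option linter.unusedVariables false

universe u

open TensorProduct

namespace Groth.Agent.H9.InvNormal

open Groth.Agent.H9.Comod

section

variable {k : Type u} [Field k] {H : Type u} [CommRing H] [HopfAlgebra k H]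
  {S : Type u} [CommRing S] [Algebra k S] [HopfRep.Comod k H S] [GLin.IsCoactAlg k H S]

lemma twist_mul (x y : S ⊗[k] H) : twist k H S (x * y) = twist k H S x * twist k H S y := by
  induction x using TensorProduct.induction_on with
  | zero => simp
  | add x₁ x₂ h₁ h₂ => rw [add_mul, map_add, h₁, h₂, map_add, add_mul]
  | tmul s a =>
    induction y using TensorProduct.induction_on with
    | zero => simp
    | add y₁ y₂ h₁ h₂ => rw [mul_add, map_add, h₁, h₂, map_add, mul_add]
    | tmul s' a' =>
      rw [Algebra.TensorProduct.tmul_mul_tmul, twist_tmul, twist_tmul, twist_tmul,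
        GLin.IsCoactAlg.coact_mul, HopfAlgebra.antipode_mul_distrib]
      rw [show ((1 : S) ⊗ₜ[k] (HopfAlgebraStruct.antipode (R := k) a *
          HopfAlgebraStruct.antipode (R := k) a') : S ⊗[k] H) =
        ((1 : S) ⊗ₜ[k] HopfAlgebraStruct.antipode (R := k) a) *
          ((1 : S) ⊗ₜ[k] HopfAlgebraStruct.antipode (R := k) a') by
        rw [Algebra.TensorProduct.tmul_mul_tmul, one_mul]]
      ring

lemma twist_twist (x : S ⊗[k] H) : twist k H S (twist k H S x) = x := by
  induction x using TensorProduct.induction_on with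
  | zero => simp
  | add x₁ x₂ h₁ h₂ => rw [map_add, map_add, h₁, h₂]
  | tmul s a =>
    rw [twist_tmul, twist_mul, twist_coact, twist_tmul,
      GLin.IsCoactAlg.coact_one (k := k) (A := H) (R := S), one_mul,
      Groth.Agent.H9.Hopf.antipode_antipode, Algebra.TensorProduct.tmul_mul_tmul, mul_one, one_mul]

/-- the coaction preserves non-zero-divisors -/
theorem coact_mem_nonZeroDivisors {s : S} (hs : s ∈ nonZeroDivisors S) :
    HopfRep.Comod.coact (k := k) (A := H) s ∈ nonZeroDivisors (S ⊗[k] H) := by
  have hι : ∀ z : S ⊗[k] H, (s ⊗ₜ[k] (1 : H)) * z = 0 → z = 0 := by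
    intro z hz
    have hinj : Function.Injective ((LinearMap.mulLeft k s).rTensor H) :=
      Module.Flat.rTensor_preserves_injective_linearMap _ (fun a b hab => by
        have h0 : s * (a - b) = 0 := by
          rw [mul_sub]; exact sub_eq_zero.mpr hab
        exact sub_eq_zero.mp ((mem_nonZeroDivisors_iff_left.mp hs) _ h0))
    apply hinj
    rw [map_zero, ← hz]
    clear hz
    induction z using TensorProduct.induction_on with
    | zero => simp
    | tmul a b => simp
    | add x y hx hy => rw [map_add, hx, hy, mul_add]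
  rw [mem_nonZeroDivisors_iff_left]
  intro z hz
  have h1 := congrArg (twist k H S) hz
  rw [twist_mul, twist_coact, map_zero] at h1
  have h2 := hι _ h1
  rw [← twist_twist z, h2, map_zero]

theorem tmul_one_mem_nonZeroDivisors {s : S} (hs : s ∈ nonZeroDivisors S) :
    s ⊗ₜ[k] (1 : H) ∈ nonZeroDivisors (S ⊗[k] H) := by
  rw [mem_nonZeroDivisors_iff_left]
  intro z hz
  have hinj : Function.Injective ((LinearMap.mulLeft k s).rTensor H) :=
    Module.Flat.rTensor_preserves_injective_linearMap _ (fun a b hab => by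
      have h0 : s * (a - b) = 0 := by
        rw [mul_sub]; exact sub_eq_zero.mpr hab
      exact sub_eq_zero.mp ((mem_nonZeroDivisors_iff_left.mp hs) _ h0))
  apply hinj
  rw [map_zero, ← hz]
  clear hz
  induction z using TensorProduct.induction_on with
  | zero => simp
  | tmul a b => simp
  | add x y hx hy => rw [map_add, hx, hy, mul_add]

end

section Main

theorem main (k : Type u) [Field k]
    (H : Type u) [CommRing H] [HopfAlgebra k H]
    (S : Type u) [CommRing S] [Algebra k S] [HopfRep.Comod k H S]
    (hmul : ∀ x y : S, HopfRep.Comod.coact (k := k) (A := H) (x * y) =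
        HopfRep.Comod.coact (k := k) (A := H) x * HopfRep.Comod.coact (k := k) (A := H) y)
    (hone : HopfRep.Comod.coact (k := k) (A := H) (1 : S) = 1)
    {ι : Type u} [Fintype ι] (D : ι → Type u) [∀ i, CommRing (D i)] [∀ i, IsDomain (D i)]
    [∀ i, IsIntegrallyClosed (D i)] (e : S ≃+* Π i, D i)
    (A : Subalgebra k S)
    (hA : ∀ a : S, a ∈ A ↔ HopfRep.Comod.coact (k := k) (A := H) a = a ⊗ₜ[k] (1 : H)) :
    ∃ (κ : Type u) (_ : Fintype κ) (E : κ → Type u) (_ : ∀ j, CommRing (E j)) (_ : ∀ j, IsDomain (E j))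
      (_ : ∀ j, IsIntegrallyClosed (E j)), Nonempty (A ≃+* Π j, E j) := by
  haveI : GLin.IsCoactAlg k H S := ⟨hone, hmul⟩
  let ρr : S →+* S ⊗[k] H := (GLin.coactAlgHom k H S).toRingHom
  let ιr : S →+* S ⊗[k] H := Algebra.TensorProduct.includeLeftRingHom
  let f₁ : (Π i, D i) →+* S ⊗[k] H := ρr.comp e.symm.toRingHom
  let f₂ : (Π i, D i) →+* S ⊗[k] H := ιr.comp e.symm.toRingHom
  let F : Set ((Π i, D i) →+* S ⊗[k] H) := {f₁, f₂}
  have hnzd : ∀ s ∈ nonZeroDivisors (Π i, D i), e.symm s ∈ nonZeroDivisors S := by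
    intro s hs
    rw [mem_nonZeroDivisors_iff_left] at hs ⊢
    intro x hx
    have h1 : s * e x = 0 := by
      have := congrArg e hx
      rwa [map_mul, RingEquiv.apply_symm_apply, map_zero] at this
    have h2 := hs _ h1
    exact (map_eq_zero_iff e e.injective).mp h2
  have hF : ∀ f ∈ F, ∀ s ∈ nonZeroDivisors (Π i, D i), f s ∈ nonZeroDivisors (S ⊗[k] H) := by
    intro f hf s hs
    rcases hf with rfl | rfl
    · exact coact_mem_nonZeroDivisors (hnzd s hs)
    · exact tmul_one_mem_nonZeroDivisors (hnzd s hs)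
  let A' : Subring (Π i, D i) := A.toSubring.map e.toRingHom
  have hA' : ∀ a, a ∈ A' ↔ ∀ f ∈ F, ∀ f' ∈ F, f a = f' a := by
    intro a
    have key : a ∈ A' ↔ f₁ a = f₂ a := by
      constructor
      · rintro ⟨s, hs, rfl⟩
        show ρr (e.symm (e s)) = ιr (e.symm (e s))
        rw [RingEquiv.symm_apply_apply]
        exact (hA s).mp hs
      · intro h
        refine ⟨e.symm a, (hA _).mpr h, ?_⟩
        exact e.apply_symm_apply a
    rw [key]
    constructor
    · intro h f hf f' hf'
      rcases hf with rfl | rfl <;> rcases hf' with rfl | rfl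
      · rfl
      · exact h
      · exact h.symm
      · rfl
    · intro h
      exact h f₁ (Or.inl rfl) f₂ (Or.inr rfl)
  obtain ⟨κ, i1, E, i2, i3, i4, ⟨φ⟩⟩ := Groth.Agent.H2.EqNormal.main F hF A' hA'
  refine ⟨κ, i1, E, i2, i3, i4, ⟨?_⟩⟩
  let ψ : A ≃+* A.toSubring :=
    { toFun := fun a => ⟨a.1, a.2⟩
      invFun := fun a => ⟨a.1, a.2⟩
      left_inv := fun a => rfl
      right_inv := fun a => rfl
      map_mul' := fun a b => rfl
      map_add' := fun a b => rfl }
  exact (ψ.trans (RingEquiv.subringMap (s := A.toSubring) e)).trans φ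

end Main

end Groth.Agent.H9.InvNormal
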