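import Mathlib
import Groth.Agent.Lib.Helper9.FinHopf.InvInt
import Groth.Agent.Lib.Helper9.Misc.InvNormal
import Groth.Agent.Lib.Helper9.Misc.GDH

/-!
# Primes in a fibre of the quotient by a finite group scheme have the same height (helper9)
-/

set_option autoImplicit false
set_option linter.style.haveILetI false
set_option linter.unusedSectionVars false
set_option linter.unusedVariables false

universe u

open TensorProduct

namespace Groth.Agent.H9.HopfHT

open Groth.Agent.H9.FinHopf Groth.Agent.H9.Comod Groth.Agent.H9.InvNormal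

section

variable {k : Type u} [Field k] {H : Type u} [CommRing H] [HopfAlgebra k H]
  {R : Type u} [CommRing R] [Algebra k R] [HopfRep.Comod k H R] [GLin.IsCoactAlg k H R]

/-- the shear automorphism of `R ⊗ H` -/
noncomputable def twistEquiv : R ⊗[k] H ≃+* R ⊗[k] H where
  toFun := twist k H R
  invFun := twist k H R
  left_inv := twist_twist
  right_inv := twist_twist
  map_mul' := twist_mul
  map_add' := map_add _

lemma twistEquiv_tmul_one (r : R) :
    twistEquiv (k := k) (H := H) (r ⊗ₜ[k] (1 : H)) = HopfRep.Comod.coact (k := k) (A := H) r := by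
  show twist k H R (r ⊗ₜ[k] (1 : H)) = _
  rw [twist_tmul, HopfAlgebra.antipode_one, ← Algebra.TensorProduct.one_def, mul_one]

variable [Module.Finite k H]

/-- if the norm of the coaction of `f` lies in a prime `q'`, some prime over `q'` contains the
coaction of `f` -/
theorem exists_prime_of_coeff_mem (q' : Ideal R) [q'.IsPrime] (f : R)
    (hν : (coactCharpoly (k := k) (A := H) f).coeff 0 ∈ q') :
    ∃ P : Ideal (R ⊗[k] H), P.IsPrime ∧
      P.comap (algebraMap R (R ⊗[k] H)) = q' ∧ GLin.coactAlgHom k H R f ∈ P := by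
  classical
  let K := FractionRing (R ⧸ q')
  let φ : R →ₐ[k] K := (IsScalarTower.toAlgHom k (R ⧸ q') K).comp (Ideal.Quotient.mkₐ k q')
  have hφker : ∀ r, φ r = 0 ↔ r ∈ q' := by
    intro r
    show algebraMap (R ⧸ q') K (Ideal.Quotient.mk q' r) = 0 ↔ _
    rw [map_eq_zero_iff _ (IsFractionRing.injective (R ⧸ q') K), Ideal.Quotient.eq_zero_iff_mem]
  let ψ : R ⊗[k] H →ₐ[k] K ⊗[k] H := Algebra.TensorProduct.map φ (AlgHom.id k H)
  let c := Module.finBasis k H
  set b : K ⊗[k] H := ψ (GLin.coactAlgHom k H R f) with hb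
  have hdet : (Algebra.leftMulMatrix (Algebra.TensorProduct.basis K c) b).det = 0 := by
    rw [Matrix.det_eq_sign_charpoly_coeff, hb, charpoly_map_tensor c φ, Polynomial.coeff_map]
    have h0 : (φ : R →+* K) ((coactCharpoly (k := k) (A := H) f).coeff 0) = 0 := (hφker _).mpr hν
    unfold coactCharpoly at h0
    rw [h0, mul_zero]
  have hnu : ¬ IsUnit b := by
    intro hu
    have h1 : IsUnit (Algebra.leftMulMatrix (Algebra.TensorProduct.basis K c) b) :=
      hu.map (Algebra.leftMulMatrix (Algebra.TensorProduct.basis K c))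
    have h2 := (Matrix.isUnit_iff_isUnit_det _).mp h1
    rw [hdet] at h2
    exact not_isUnit_zero h2
  obtain ⟨𝔐, h𝔐max, hb𝔐⟩ := exists_max_ideal_of_mem_nonunits hnu
  haveI := h𝔐max.isPrime
  refine ⟨𝔐.comap ψ.toRingHom, Ideal.comap_isPrime _ _, ?_, hb𝔐⟩
  ext r
  rw [Ideal.mem_comap, Ideal.mem_comap]
  have h3 : ψ.toRingHom (algebraMap R (R ⊗[k] H) r) = φ r ⊗ₜ[k] (1 : H) := by
    rw [Algebra.TensorProduct.algebraMap_apply]
    simp [ψ]
  rw [h3]
  constructor
  · intro h
    by_contra hr
    have hne : φ r ≠ 0 := fun h0 => hr ((hφker r).mp h0)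
    have hu : IsUnit (φ r ⊗ₜ[k] (1 : H) : K ⊗[k] H) :=
      (isUnit_iff_ne_zero.mpr hne).map (Algebra.TensorProduct.includeLeft : K →ₐ[k] K ⊗[k] H)
    exact h𝔐max.ne_top (Ideal.eq_top_of_isUnit_mem _ h hu)
  · intro h
    rw [(hφker r).mpr h, TensorProduct.zero_tmul]
    exact zero_mem _

/-- the norm of the coaction of `f` is a multiple of `f` -/
lemma coeff_zero_mem_of_mem (q : Ideal R) {f : R} (hf : f ∈ q) :
    (coactCharpoly (k := k) (A := H) f).coeff 0 ∈ q := by
  have h1 := aeval_coactCharpoly (k := k) (A := H) f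
  rw [Polynomial.coe_aeval_eq_eval] at h1
  have h2 := Polynomial.divX_mul_X_add (coactCharpoly (k := k) (A := H) f)
  have h3 : (coactCharpoly (k := k) (A := H) f).coeff 0 =
      -((coactCharpoly (k := k) (A := H) f).divX.eval f * f) := by
    have h4 := congrArg (Polynomial.eval f) h2
    rw [Polynomial.eval_add, Polynomial.eval_mul, Polynomial.eval_X, Polynomial.eval_C, h1] at h4
    exact eq_neg_of_add_eq_zero_right h4
  rw [h3]
  exact q.neg_mem (q.mul_mem_left _ hf)

/-- **transitivity**: two primes with the same contraction to the invariants are related by a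
prime of `R ⊗ H` -/
theorem exists_prime_comap_eq (q q' : Ideal R) [q.IsPrime] [q'.IsPrime]
    (hqq' : q.comap (algebraMap (GLin.invariants k H R) R) =
      q'.comap (algebraMap (GLin.invariants k H R) R)) :
    ∃ P : Ideal (R ⊗[k] H), P.IsPrime ∧ P.comap (algebraMap R (R ⊗[k] H)) = q' ∧
      P.comap (GLin.coactAlgHom k H R).toRingHom = q := by
  classical
  by_contra hcon
  push Not at hcon
  haveI : Algebra.IsIntegral (GLin.invariants k H R) R := ⟨isIntegral_invariants⟩
  have hfin : (q'.primesOver (R ⊗[k] H)).Finite := Algebra.QuasiFinite.finite_primesOver q'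
  -- incomparability
  have hnot : ∀ P ∈ hfin.toFinset, ¬ q ≤ P.comap (GLin.coactAlgHom k H R).toRingHom := by
    intro P hP hle
    rw [Set.Finite.mem_toFinset] at hP
    obtain ⟨hPp, hPo⟩ := hP
    haveI := hPp
    have hover : P.comap (algebraMap R (R ⊗[k] H)) = q' := hPo.over.symm
    have hne := hcon P hPp hover
    haveI : (P.comap (GLin.coactAlgHom k H R).toRingHom).IsPrime := Ideal.comap_isPrime _ _
    have hlt : q < P.comap (GLin.coactAlgHom k H R).toRingHom := lt_of_le_of_ne hle (Ne.symm hne)
    have h1 := Ideal.IsIntegral.comap_lt_comap (R := GLin.invariants k H R) hlt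
    -- both contract to the same ideal
    have h2 : (P.comap (GLin.coactAlgHom k H R).toRingHom).comap
        (algebraMap (GLin.invariants k H R) R) =
        q'.comap (algebraMap (GLin.invariants k H R) R) := by
      rw [← hover]
      ext a
      rw [Ideal.mem_comap, Ideal.mem_comap, Ideal.mem_comap, Ideal.mem_comap]
      have ha : HopfRep.Comod.coact (k := k) (A := H) (a : R) = (a : R) ⊗ₜ[k] (1 : H) := a.2
      have h3 : (GLin.coactAlgHom k H R).toRingHom (algebraMap (GLin.invariants k H R) R a) =
          algebraMap R (R ⊗[k] H) (algebraMap (GLin.invariants k H R) R a) := by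
        rw [Algebra.TensorProduct.algebraMap_apply]
        exact ha
      rw [h3]
    rw [h2, ← hqq'] at h1
    exact lt_irrefl _ h1
  have hsub : ¬ ((q : Set R) ⊆ ⋃ P ∈ (↑hfin.toFinset : Set (Ideal (R ⊗[k] H))),
      P.comap (GLin.coactAlgHom k H R).toRingHom) := by
    intro hs
    obtain ⟨P, hP, hle⟩ := (Ideal.subset_union_prime (f := fun P : Ideal (R ⊗[k] H) =>
      P.comap (GLin.coactAlgHom k H R).toRingHom) ⊥ ⊥ (fun P hP _ _ => by
        rw [Set.Finite.mem_toFinset] at hP
        haveI := hP.1
        exact Ideal.comap_isPrime _ _)).mp hs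
    exact hnot P hP hle
  obtain ⟨f, hfq, hfn⟩ := Set.not_subset.mp hsub
  have hν : (coactCharpoly (k := k) (A := H) f).coeff 0 ∈ q' := by
    have h1 : (coactCharpoly (k := k) (A := H) f).coeff 0 ∈ q := coeff_zero_mem_of_mem q hfq
    have h2 := coeff_coactCharpoly_mem (k := k) (A := H) f 0
    have h3 : (⟨_, h2⟩ : GLin.invariants k H R) ∈
        q.comap (algebraMap (GLin.invariants k H R) R) := h1
    rw [hqq'] at h3
    exact h3
  obtain ⟨P, hPp, hPo, hPf⟩ := exists_prime_of_coeff_mem q' f hν
  apply hfn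
  rw [Set.mem_iUnion₂]
  refine ⟨P, ?_, hPf⟩
  rw [Finset.mem_coe, Set.Finite.mem_toFinset]
  exact ⟨hPp, ⟨hPo.symm⟩⟩

/-- **primes of `R` with the same contraction to the invariants have the same height** -/
theorem height_eq_of_comap_eq (q q' : Ideal R) [q.IsPrime] [q'.IsPrime]
    (hqq' : q.comap (algebraMap (GLin.invariants k H R) R) =
      q'.comap (algebraMap (GLin.invariants k H R) R)) : q.height = q'.height := by
  obtain ⟨P, hPp, hP1, hP2⟩ := exists_prime_comap_eq q q' hqq'
  haveI := hPp
  haveI : Algebra.IsIntegral R (R ⊗[k] H) := Algebra.IsIntegral.of_finite R (R ⊗[k] H)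
  have key : ∀ (Q : Ideal (R ⊗[k] H)) [Q.IsPrime],
      (Q.comap (algebraMap R (R ⊗[k] H))).height = Q.height := by
    intro Q _
    exact le_antisymm (Groth.Agent.H9.GDH.height_under_le_height Q)
      (Groth.Agent.H9.GDH.height_le_height_under Q)
  have h1 : q'.height = P.height := by rw [← hP1]; exact key P
  let P' : Ideal (R ⊗[k] H) := P.comap (twistEquiv (k := k) (H := H) (R := R) : _ →+* _)
  haveI : P'.IsPrime := Ideal.comap_isPrime _ _
  have h2 : P'.comap (algebraMap R (R ⊗[k] H)) = q := by
    rw [← hP2]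
    ext r
    rw [Ideal.mem_comap, Ideal.mem_comap, Ideal.mem_comap]
    have : (twistEquiv (k := k) (H := H) (R := R) : _ →+* _) (algebraMap R (R ⊗[k] H) r) =
        (GLin.coactAlgHom k H R).toRingHom r := by
      rw [Algebra.TensorProduct.algebraMap_apply]
      exact twistEquiv_tmul_one r
    rw [this]
  have h3 : P'.height = P.height := RingEquiv.height_comap _ P
  rw [h1, ← h3, ← h2]
  exact key P'

end

end Groth.Agent.H9.HopfHT
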