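import Mathlib
import Groth.Agent.Lib.Helper9.Misc.CMI2
import Groth.Agent.Lib.Helper9.Misc.HopfHT
import Groth.Agent.Lib.Helper9.Misc.FCO5

/-!
# Invariants of finite linearly reductive group schemes: Serre's conditions and the
Cohen–Macaulay property (helper9)
-/

set_option autoImplicit false
set_option linter.style.haveILetI false
set_option linter.unusedSectionVars false
set_option linter.unusedVariables false

universe u

open TensorProduct

namespace Groth.Agent.H9.CMI

open Groth.Agent.H9.FinHopf Groth.Agent.H9.Tame Groth.Agent.H9.FCO

section Hopf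

variable (k : Type u) [Field k] (H : Type u) [CommRing H] [HopfAlgebra k H] [Module.Finite k H]
  (hG : HopfRep.IsLinearlyReductive k H)
  (R : Type u) [CommRing R] [Algebra k R] [Algebra.FiniteType k R] [HopfRep.Comod k H R]
  [GLin.IsCoactAlg k H R]

include hG in
/-- the data needed for descent of depth conditions to the invariants -/
theorem exists_data :
    IsNoetherianRing R ∧ IsNoetherianRing (GLin.invariants k H R) ∧
      Module.Finite (GLin.invariants k H R) R ∧
      ∃ E : R →ₗ[GLin.invariants k H R] GLin.invariants k H R,
        ∀ a, E (algebraMap (GLin.invariants k H R) R a) = a := by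
  obtain ⟨hft, hfin⟩ := finiteType_and_finite_invariants (k := k) (A := H) (R := R)
  refine ⟨Algebra.FiniteType.isNoetherianRing k R,
    Algebra.FiniteType.isNoetherianRing k (GLin.invariants k H R), hfin, ?_⟩
  obtain ⟨α, hα, hα1⟩ := exists_totalIntegral_of_isLinearlyReductive (R := R) hG
  exact ⟨reynoldsInv hα, fun a => reynoldsInv_coe hα hα1 a⟩

include hG in
theorem hasSk_invariants (r : ℕ) (hR : LocCoh.HasSk r R R) :
    LocCoh.HasSk r (GLin.invariants k H R) R ∧
      LocCoh.HasSk r (GLin.invariants k H R) (GLin.invariants k H R) := by
  obtain ⟨h1, h2, h3, E, hE⟩ := exists_data k H hG R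
  haveI := h1
  haveI := h2
  haveI := h3
  exact hasSk_of_finite_split (A := GLin.invariants k H R) (R := R) Subtype.val_injective E hE
    (fun q q' _ _ h => Groth.Agent.H9.HopfHT.height_eq_of_comap_eq q q' h) r hR

include hG in
theorem cm_invariants (hR : LocCoh.IsCohenMacaulayRing R) :
    LocCoh.IsCohenMacaulayRing (GLin.invariants k H R) ∧
      ∀ (p : Ideal (GLin.invariants k H R)) [p.IsPrime],
        LocCoh.IsCohenMacaulayModule (Localization.AtPrime p)
            (LocalizedModule p.primeCompl R) ∧
          Module.supportDim (Localization.AtPrime p) (LocalizedModule p.primeCompl R) =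
            ringKrullDim (Localization.AtPrime p) := by
  obtain ⟨h1, h2, h3, E, hE⟩ := exists_data k H hG R
  haveI := h2
  haveI := h3
  haveI := hR
  exact cm_of_finite_split (A := GLin.invariants k H R) (R := R) Subtype.val_injective E hE
    (fun q q' _ _ h => Groth.Agent.H9.HopfHT.height_eq_of_comap_eq q q' h)

end Hopf

end Groth.Agent.H9.CMI
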