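import Mathlib

set_option autoImplicit false
set_option linter.style.haveILetI false
set_option linter.unusedSectionVars false
set_option linter.unusedVariables false

open MvPolynomial Matrix

namespace Groth.Agent.H9.CNC
universe u

variable {k : Type u} [Field k]

/-- the value of the quadratic form. -/
def qf (Q : Matrix (Fin 3) (Fin 3) k) (x : Fin 3 → k) : k := x ⬝ᵥ Q *ᵥ x

/-- the linear form with coefficient vector `a`. -/
noncomputable def lin (a : Fin 3 → k) : MvPolynomial (Fin 3) k := ∑ i : Fin 3, a i • X i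

/-- the quadratic polynomial. -/
noncomputable def qpoly (Q : Matrix (Fin 3) (Fin 3) k) : MvPolynomial (Fin 3) k :=
  ∑ i : Fin 3, ∑ j : Fin 3, Q i j • (X i * X j)

theorem eval_lin (a x : Fin 3 → k) : eval x (lin a) = a ⬝ᵥ x := by
  simp [lin, dotProduct, smul_eval]

theorem eval_qpoly (Q : Matrix (Fin 3) (Fin 3) k) (x : Fin 3 → k) : eval x (qpoly Q) = qf Q x := by
  simp only [qpoly, qf, dotProduct, mulVec, map_sum, smul_eval, map_mul, eval_X, Finset.mul_sum]
  refine Finset.sum_congr rfl fun i _ => Finset.sum_congr rfl fun j _ => ?_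
  ring

theorem lin_isHomogeneous (a : Fin 3 → k) : (lin a).IsHomogeneous 1 := by
  refine IsHomogeneous.sum _ _ _ fun i _ => ?_
  rw [smul_eq_C_mul]
  exact (isHomogeneous_X _ i).C_mul _

theorem qpoly_isHomogeneous (Q : Matrix (Fin 3) (Fin 3) k) : (qpoly Q).IsHomogeneous 2 := by
  refine IsHomogeneous.sum _ _ _ fun i _ => IsHomogeneous.sum _ _ _ fun j _ => ?_
  rw [smul_eq_C_mul]
  exact ((isHomogeneous_X _ i).mul (isHomogeneous_X _ j)).C_mul _

/-- `u ᵥ* Q = Q *ᵥ u` for symmetric `Q`. -/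
theorem vecMul_symm {Q : Matrix (Fin 3) (Fin 3) k} (hQ : Q.IsSymm) (u : Fin 3 → k) :
    u ᵥ* Q = Q *ᵥ u := by
  conv_lhs => rw [← hQ.eq]
  exact vecMul_transpose Q u

/-- polarization. -/
theorem qf_add {Q : Matrix (Fin 3) (Fin 3) k} (hQ : Q.IsSymm) (x y : Fin 3 → k) :
    qf Q (x + y) = qf Q x + qf Q y + 2 * (x ⬝ᵥ Q *ᵥ y) := by
  simp only [qf, mulVec_add, add_dotProduct, dotProduct_add]
  have : y ⬝ᵥ Q *ᵥ x = x ⬝ᵥ Q *ᵥ y := by
    rw [dotProduct_mulVec, vecMul_symm hQ, dotProduct_comm]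
  rw [this]
  ring

theorem qf_add_smul {Q : Matrix (Fin 3) (Fin 3) k} (hQ : Q.IsSymm) (x u : Fin 3 → k) (t : k)
    (hu : Q *ᵥ u = 0) : qf Q (x + t • u) = qf Q x := by
  have h0 : u ⬝ᵥ Q *ᵥ x = 0 := by
    rw [dotProduct_mulVec, vecMul_symm hQ, hu, zero_dotProduct]
  simp only [qf, mulVec_add, mulVec_smul, hu, smul_zero, add_zero, add_dotProduct, smul_dotProduct]
  rw [h0, smul_zero, add_zero]

theorem sum_three {j p r : Fin 3} (hjp : j ≠ p) (hjr : j ≠ r) (hpr : p ≠ r) (g : Fin 3 → k) :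
    ∑ i, g i = g j + g p + g r := by
  rw [Fin.sum_univ_three]
  fin_cases j <;> fin_cases p <;> fin_cases r <;> simp_all <;> ring

theorem exists_others (j : Fin 3) : ∃ p r : Fin 3, j ≠ p ∧ j ≠ r ∧ p ≠ r := by
  fin_cases j
  · exact ⟨1, 2, by decide, by decide, by decide⟩
  · exact ⟨0, 2, by decide, by decide, by decide⟩
  · exact ⟨0, 1, by decide, by decide, by decide⟩

/-- binary quadratic forms split over an algebraically closed field. -/
theorem binary_split [IsAlgClosed k] (hk : (2 : k) ≠ 0) (A B C : k) :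
    ∃ α β γ δ : k, ∀ s t : k, A * s ^ 2 + B * (s * t) + C * t ^ 2 = (α * s + β * t) * (γ * s + δ * t) := by
  by_cases hA : A = 0
  · refine ⟨0, 1, B, C, fun s t => ?_⟩
    rw [hA]; ring
  · obtain ⟨z, hz⟩ := IsAlgClosed.exists_eq_mul_self (B ^ 2 - 4 * A * C)
    refine ⟨A, (B - z) / 2, 1, (B + z) / (2 * A), fun s t => ?_⟩
    have h4 : (4 : k) ≠ 0 := by
      have : (4 : k) = 2 * 2 := by norm_num
      rw [this]; exact mul_ne_zero hk hk
    field_simp
    linear_combination (-(t ^ 2)) * hz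

/-- the quadratic form of a symmetric matrix on a vector with vanishing `j`-th coordinate. -/
theorem qf_of_zero {Q : Matrix (Fin 3) (Fin 3) k} (hQ : Q.IsSymm) {j p r : Fin 3} (hjp : j ≠ p)
    (hjr : j ≠ r) (hpr : p ≠ r) (z : Fin 3 → k) (hz : z j = 0) :
    qf Q z = Q p p * z p ^ 2 + (2 * Q p r) * (z p * z r) + Q r r * z r ^ 2 := by
  simp only [qf, dotProduct, mulVec]
  rw [sum_three hjp hjr hpr, sum_three hjp hjr hpr, sum_three hjp hjr hpr, sum_three hjp hjr hpr,
    hz, hQ.apply p r]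
  ring

/-- (F): a degenerate symmetric ternary form is a product of two linear forms (pointwise). -/
theorem exists_split_of_det_eq_zero [IsAlgClosed k] (hk : (2 : k) ≠ 0)
    {Q : Matrix (Fin 3) (Fin 3) k} (hQ : Q.IsSymm) (hdet : Q.det = 0) :
    ∃ a b : Fin 3 → k, ∀ x, qf Q x = (a ⬝ᵥ x) * (b ⬝ᵥ x) := by
  obtain ⟨u, hu0, hu⟩ := Matrix.exists_mulVec_eq_zero_iff.mpr hdet
  obtain ⟨j, hj⟩ : ∃ j, u j ≠ 0 := by
    by_contra hcon
    push Not at hcon
    exact hu0 (funext hcon)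
  obtain ⟨p, r, hjp, hjr, hpr⟩ := exists_others j
  obtain ⟨α, β, γ, δ, hsplit⟩ := binary_split hk (Q p p) (2 * Q p r) (Q r r)
  let a : Fin 3 → k := fun i =>
    if i = p then α else if i = r then β else -(α * (u p / u j) + β * (u r / u j))
  let b : Fin 3 → k := fun i =>
    if i = p then γ else if i = r then δ else -(γ * (u p / u j) + δ * (u r / u j))
  refine ⟨a, b, fun x => ?_⟩
  have hx : qf Q x = qf Q (x + (-(x j / u j)) • u) := (qf_add_smul hQ x u _ hu).symm
  have hzj : (x + (-(x j / u j)) • u) j = 0 := by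
    simp only [Pi.add_apply, Pi.smul_apply, smul_eq_mul]
    field_simp
    ring
  rw [hx, qf_of_zero hQ hjp hjr hpr _ hzj, hsplit]
  have ha : a ⬝ᵥ x = α * (x + (-(x j / u j)) • u) p + β * (x + (-(x j / u j)) • u) r := by
    simp only [dotProduct]
    rw [sum_three hjp hjr hpr]
    simp only [a, if_neg hjp, if_neg hjr, if_pos, if_neg hpr.symm, Pi.add_apply, Pi.smul_apply,
      smul_eq_mul]
    field_simp
    ring
  have hb : b ⬝ᵥ x = γ * (x + (-(x j / u j)) • u) p + δ * (x + (-(x j / u j)) • u) r := by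
    simp only [dotProduct]
    rw [sum_three hjp hjr hpr]
    simp only [b, if_neg hjp, if_neg hjr, if_pos, if_neg hpr.symm, Pi.add_apply, Pi.smul_apply,
      smul_eq_mul]
    field_simp
    ring
  rw [ha, hb]

end Groth.Agent.H9.CNC
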