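import Mathlib

set_option autoImplicit false
set_option linter.style.haveILetI false
set_option linter.unusedSectionVars false
set_option linter.unusedVariables false

open MvPolynomial

namespace Groth.Agent.H9.LFM
universe u

variable {k : Type u} [Field k] {ι : Type} [Fintype ι] [DecidableEq ι]

/-- the coefficient functional. -/
noncomputable def cf (j : ι) : MvPolynomial ι k →ₗ[k] k := lcoeff k (Finsupp.single j 1)

theorem cf_X (i j : ι) : cf (k := k) j (X i) = if i = j then 1 else 0 := by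
  show coeff (Finsupp.single j 1) (X i) = _
  rw [coeff_X]
  by_cases h : i = j
  · subst h; simp
  · rw [if_neg h, if_neg]
    intro h2
    apply h
    have := Finsupp.single_left_injective (one_ne_zero) h2
    exact this

/-- a linear form is the sum of its coefficients times the variables. -/
theorem eq_sum (p : MvPolynomial ι k) (hp : p.IsHomogeneous 1) :
    p = ∑ j, C (cf j p) * X j := by
  have hmem : p ∈ homogeneousSubmodule ι k 1 := hp
  rw [homogeneousSubmodule_one_eq_span_X] at hmem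
  clear hp
  induction hmem using Submodule.span_induction with
  | mem x hx =>
    obtain ⟨i, rfl⟩ := hx
    simp only [cf_X]
    rw [Finset.sum_eq_single i]
    · simp
    · intro j _ hj
      rw [if_neg (Ne.symm hj)]
      simp
    · intro h; exact absurd (Finset.mem_univ i) h
  | zero => simp
  | add x y _ _ hx hy =>
    conv_lhs => rw [hx, hy]
    rw [← Finset.sum_add_distrib]
    refine Finset.sum_congr rfl fun j _ => ?_
    rw [map_add, C_add, add_mul]
  | smul a x _ hx =>
    conv_lhs => rw [hx]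
    rw [Finset.smul_sum]
    refine Finset.sum_congr rfl fun j _ => ?_
    rw [map_smul, smul_eq_mul, C_mul, smul_eq_C_mul, mul_assoc]

/-- for a nonzero linear form `l` there is a substitution killing `l` and changing each linear
form by a multiple of `l`. -/
theorem exists_kill (l : MvPolynomial ι k) (hl : l.IsHomogeneous 1) (hl0 : l ≠ 0) :
    ∃ σ : MvPolynomial ι k →ₐ[k] MvPolynomial ι k, σ l = 0 ∧
      ∀ p : MvPolynomial ι k, p.IsHomogeneous 1 → ∃ c : k, σ p = p - C c * l := by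
  obtain ⟨j, hj⟩ : ∃ j, cf j l ≠ 0 := by
    by_contra hcon
    push Not at hcon
    apply hl0
    rw [eq_sum l hl]
    refine Finset.sum_eq_zero fun j _ => ?_
    rw [hcon j, C_0, zero_mul]
  set α := cf j l with hα
  let σ : MvPolynomial ι k →ₐ[k] MvPolynomial ι k :=
    aeval (fun i => if i = j then X j - C α⁻¹ * l else X i)
  have hσX : ∀ i, σ (X i) = X i - C (if i = j then α⁻¹ else 0) * l := by
    intro i
    show aeval _ (X i) = _
    rw [aeval_X]
    by_cases h : i = j
    · subst h; simp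
    · rw [if_neg h, if_neg h, C_0, zero_mul, sub_zero]
  have key : ∀ p : MvPolynomial ι k, p.IsHomogeneous 1 → σ p = p - C (cf j p * α⁻¹) * l := by
    intro p hp
    conv_lhs => rw [eq_sum p hp]
    rw [map_sum]
    have h1 : ∀ i, σ (C (cf i p) * X i) =
        C (cf i p) * X i - C (if i = j then cf i p * α⁻¹ else 0) * l := by
      intro i
      rw [map_mul, hσX, MvPolynomial.algHom_C, MvPolynomial.algebraMap_eq]
      by_cases h : i = j
      · subst h
        rw [if_pos rfl, if_pos rfl, C_mul]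
        ring
      · rw [if_neg h, if_neg h, C_0, zero_mul, sub_zero, sub_zero]
    rw [Finset.sum_congr rfl fun i _ => h1 i, Finset.sum_sub_distrib, ← eq_sum p hp,
      ← Finset.sum_mul, ← map_sum]
    congr 3
    rw [Finset.sum_ite_eq' Finset.univ j]
    simp
  refine ⟨σ, ?_, fun p hp => ⟨_, key p hp⟩⟩
  rw [key l hl, ← hα, mul_inv_cancel₀ hj, C_1, one_mul, sub_self]

/-- Lemma A: a `2 × 2` matrix of linear forms with zero determinant has a constant kernel vector on
one side. -/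
theorem lemmaA (a b c d : MvPolynomial ι k) (ha : a.IsHomogeneous 1) (hb : b.IsHomogeneous 1)
    (hc : c.IsHomogeneous 1) (hd : d.IsHomogeneous 1) (h : a * d = b * c) :
    (∃ v₀ v₁ : k, (v₀ ≠ 0 ∨ v₁ ≠ 0) ∧ C v₀ * a + C v₁ * b = 0 ∧ C v₀ * c + C v₁ * d = 0) ∨
    (∃ u₀ u₁ : k, (u₀ ≠ 0 ∨ u₁ ≠ 0) ∧ C u₀ * a + C u₁ * c = 0 ∧ C u₀ * b + C u₁ * d = 0) := by
  by_cases ha0 : a = 0
  · subst ha0
    rw [zero_mul] at h
    rcases mul_eq_zero.mp h.symm with hb0 | hc0
    · right
      refine ⟨1, 0, Or.inl one_ne_zero, ?_, ?_⟩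
      · simp
      · simp [hb0]
    · left
      refine ⟨1, 0, Or.inl one_ne_zero, ?_, ?_⟩
      · simp
      · simp [hc0]
  · obtain ⟨σ, hσa, hσ⟩ := exists_kill a ha ha0
    have h1 : σ b * σ c = 0 := by
      rw [← map_mul, ← h, map_mul, hσa, zero_mul]
    rcases mul_eq_zero.mp h1 with hb0 | hc0
    · obtain ⟨β, hβ⟩ := hσ b hb
      rw [hb0] at hβ
      have hb' : b = C β * a := (sub_eq_zero.mp hβ.symm)
      have hd' : d = C β * c := by
        have : a * (d - C β * c) = 0 := by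
          rw [mul_sub, h, hb']; ring
        rcases mul_eq_zero.mp this with h2 | h2
        · exact absurd h2 ha0
        · exact sub_eq_zero.mp h2
      left
      refine ⟨β, -1, Or.inr (neg_ne_zero.mpr one_ne_zero), ?_, ?_⟩
      · rw [hb']; simp
      · rw [hd']; simp
    · obtain ⟨γ, hγ⟩ := hσ c hc
      rw [hc0] at hγ
      have hc' : c = C γ * a := (sub_eq_zero.mp hγ.symm)
      have hd' : d = C γ * b := by
        have : a * (d - C γ * b) = 0 := by
          rw [mul_sub, h, hc']; ring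
        rcases mul_eq_zero.mp this with h2 | h2
        · exact absurd h2 ha0
        · exact sub_eq_zero.mp h2
      right
      refine ⟨γ, -1, Or.inr (neg_ne_zero.mpr one_ne_zero), ?_, ?_⟩
      · rw [hc']; simp
      · rw [hd']; simp

/-- the main claim: if the determinant is divisible by a linear form (or zero), there are nonzero
constant vectors `u`, `v` with `uᵀ M v = 0`. -/
theorem exists_uv (a b c d l₁ l₂ : MvPolynomial ι k) (ha : a.IsHomogeneous 1)
    (hb : b.IsHomogeneous 1) (hc : c.IsHomogeneous 1) (hd : d.IsHomogeneous 1)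
    (hl₁ : l₁.IsHomogeneous 1) (h : a * d - b * c = l₁ * l₂) :
    ∃ u₀ u₁ v₀ v₁ : k, (u₀ ≠ 0 ∨ u₁ ≠ 0) ∧ (v₀ ≠ 0 ∨ v₁ ≠ 0) ∧
      C u₀ * (C v₀ * a + C v₁ * b) + C u₁ * (C v₀ * c + C v₁ * d) = 0 := by
  by_cases hl0 : l₁ = 0
  · rw [hl0, zero_mul, sub_eq_zero] at h
    rcases lemmaA a b c d ha hb hc hd h with ⟨v₀, v₁, hv, h1, h2⟩ | ⟨u₀, u₁, hu, h1, h2⟩
    · refine ⟨1, 0, v₀, v₁, Or.inl one_ne_zero, hv, ?_⟩
      rw [h1, h2]; simp
    · refine ⟨u₀, u₁, 1, 0, hu, Or.inl one_ne_zero, ?_⟩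
      simp only [C_1, one_mul, C_0, zero_mul, add_zero]
      exact h1
  · obtain ⟨σ, hσl, hσ⟩ := exists_kill l₁ hl₁ hl0
    have hhom : ∀ p : MvPolynomial ι k, p.IsHomogeneous 1 → (σ p).IsHomogeneous 1 := by
      intro p hp
      obtain ⟨c, hc⟩ := hσ p hp
      rw [hc, sub_eq_add_neg, ← neg_mul, ← C_neg]
      exact hp.add (hl₁.C_mul _)
    have hdet : σ a * σ d = σ b * σ c := by
      rw [← sub_eq_zero, ← map_mul, ← map_mul, ← map_sub, h, map_mul, hσl, zero_mul]
    have hzero : ∀ p : MvPolynomial ι k, p.IsHomogeneous 1 → σ p = 0 → ∃ c : k, p = C c * l₁ := by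
      intro p hp hp0
      obtain ⟨c, hc⟩ := hσ p hp
      rw [hp0] at hc
      exact ⟨c, sub_eq_zero.mp hc.symm⟩
    have hσC : ∀ (r : k) (p : MvPolynomial ι k), σ (C r * p) = C r * σ p := by
      intro r p
      rw [map_mul, MvPolynomial.algHom_C, MvPolynomial.algebraMap_eq]
    rcases lemmaA (σ a) (σ b) (σ c) (σ d) (hhom a ha) (hhom b hb) (hhom c hc) (hhom d hd) hdet
      with ⟨v₀, v₁, hv, h1, h2⟩ | ⟨u₀, u₁, hu, h1, h2⟩
    · obtain ⟨m₀, hm₀⟩ := hzero (C v₀ * a + C v₁ * b) ((ha.C_mul _).add (hb.C_mul _))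
        (by rw [map_add, hσC, hσC, h1])
      obtain ⟨m₁, hm₁⟩ := hzero (C v₀ * c + C v₁ * d) ((hc.C_mul _).add (hd.C_mul _))
        (by rw [map_add, hσC, hσC, h2])
      by_cases hm : m₀ = 0 ∧ m₁ = 0
      · refine ⟨1, 0, v₀, v₁, Or.inl one_ne_zero, hv, ?_⟩
        rw [hm₀, hm.1]; simp
      · refine ⟨m₁, -m₀, v₀, v₁, ?_, hv, ?_⟩
        · by_contra hcon
          push Not at hcon
          exact hm ⟨neg_eq_zero.mp hcon.2, hcon.1⟩
        · rw [hm₀, hm₁, C_neg]; ring
    · obtain ⟨m₀, hm₀⟩ := hzero (C u₀ * a + C u₁ * c) ((ha.C_mul _).add (hc.C_mul _))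
        (by rw [map_add, hσC, hσC, h1])
      obtain ⟨m₁, hm₁⟩ := hzero (C u₀ * b + C u₁ * d) ((hb.C_mul _).add (hd.C_mul _))
        (by rw [map_add, hσC, hσC, h2])
      by_cases hm : m₀ = 0 ∧ m₁ = 0
      · refine ⟨u₀, u₁, 1, 0, hu, Or.inl one_ne_zero, ?_⟩
        simp only [C_1, one_mul, C_0, zero_mul, add_zero]
        rw [hm₀, hm.1]; simp
      · refine ⟨u₀, u₁, m₁, -m₀, hu, ?_, ?_⟩
        · by_contra hcon
          push Not at hcon
          exact hm ⟨neg_eq_zero.mp hcon.2, hcon.1⟩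
        · have e : C u₀ * (C m₁ * a + C (-m₀) * b) + C u₁ * (C m₁ * c + C (-m₀) * d) =
              C m₁ * (C u₀ * a + C u₁ * c) + C (-m₀) * (C u₀ * b + C u₁ * d) := by ring
          rw [e, hm₀, hm₁, C_neg]; ring

end Groth.Agent.H9.LFM
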