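import Mathlib
import Groth.Agent.Lib.Helper9.Misc.CNC1
import Groth.Agent.Lib.Helper9.Misc.LFM1

set_option autoImplicit false
set_option linter.style.haveILetI false
set_option linter.unusedSectionVars false
set_option linter.unusedVariables false

open MvPolynomial Matrix

namespace Groth.Agent.H9.CNC
universe u

variable {k : Type u} [Field k]

/-- polar identity of a split form. -/
theorem polar_of_split (hk : (2 : k) ≠ 0) {Q : Matrix (Fin 3) (Fin 3) k} (hQ : Q.IsSymm)
    (a b : Fin 3 → k) (h : ∀ x, qf Q x = (a ⬝ᵥ x) * (b ⬝ᵥ x)) (y : Fin 3 → k) :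
    (2 : k) • Q *ᵥ y = (b ⬝ᵥ y) • a + (a ⬝ᵥ y) • b := by
  funext i
  have h1 := qf_add hQ (Pi.single i 1) y
  rw [h, h, h, dotProduct_add, dotProduct_add, single_one_dotProduct] at h1
  simp only [dotProduct_single_one] at h1
  simp only [Pi.smul_apply, Pi.add_apply, smul_eq_mul]
  linear_combination (-1 : k) * h1

/-- the quadratic polynomial of a nonzero symmetric matrix is nonzero. -/
theorem qpoly_ne_zero (hk : (2 : k) ≠ 0) {Q : Matrix (Fin 3) (Fin 3) k} (hQ : Q.IsSymm)
    (hQ0 : Q ≠ 0) : qpoly Q ≠ 0 := by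
  intro h0
  apply hQ0
  have hq : ∀ x, qf Q x = 0 := fun x => by rw [← eval_qpoly, h0, map_zero]
  ext i j
  have h1 := qf_add hQ (Pi.single i 1) (Pi.single j 1)
  rw [hq, hq, hq, single_one_dotProduct, mulVec_single_one] at h1
  simp only [zero_add, col_apply, transpose_apply] at h1
  have := (mul_eq_zero.mp h1.symm).resolve_left hk
  simpa using this

/-- (K): partial derivatives of the quadratic polynomial. -/
theorem eval_pderiv_qpoly {Q : Matrix (Fin 3) (Fin 3) k} (hQ : Q.IsSymm) (u : Fin 3 → k)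
    (i : Fin 3) : eval u (pderiv i (qpoly Q)) = 2 * (Q *ᵥ u) i := by
  have h01 := hQ.apply 0 1
  have h02 := hQ.apply 0 2
  have h12 := hQ.apply 1 2
  simp only [qpoly, map_sum, Derivation.map_smul, pderiv_mul, pderiv_X, smul_eval, map_add,
    map_mul, eval_X, mulVec, dotProduct, Fin.sum_univ_three]
  fin_cases i <;> simp [Pi.single_apply, h01, h02, h12] <;> ring

/-- nonzero linear forms are not units. -/
theorem not_isUnit_lin (a : Fin 3 → k) (ha : lin a ≠ 0) : ¬ IsUnit (lin a) := by
  intro hu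
  obtain ⟨v, hv⟩ := hu.exists_right_inv
  have hv0 : v ≠ 0 := by
    rintro rfl
    rw [mul_zero] at hv
    exact zero_ne_one hv
  have h1 := totalDegree_mul_of_isDomain ha hv0
  rw [hv, totalDegree_one, (lin_isHomogeneous a).totalDegree ha] at h1
  omega

/-- (H): a nontrivial factorization of a ternary quadratic form is a factorization into linear
forms. -/
theorem exists_lin_of_factor (f g h : MvPolynomial (Fin 3) k) (hf : f.IsHomogeneous 2)
    (hf0 : f ≠ 0) (hfgh : f = g * h) (hg : ¬ IsUnit g) (hh : ¬ IsUnit h) :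
    ∃ a b : Fin 3 → k, f = lin a * lin b := by
  have hg0 : g ≠ 0 := by
    rintro rfl
    rw [zero_mul] at hfgh
    exact hf0 hfgh
  have hh0 : h ≠ 0 := by
    rintro rfl
    rw [mul_zero] at hfgh
    exact hf0 hfgh
  have hdeg : g.totalDegree + h.totalDegree = 2 := by
    rw [← totalDegree_mul_of_isDomain hg0 hh0, ← hfgh, hf.totalDegree hf0]
  have hunit : ∀ p : MvPolynomial (Fin 3) k, p ≠ 0 → p.totalDegree = 0 → IsUnit p := by
    intro p hp0 hp
    rw [totalDegree_eq_zero_iff_eq_C] at hp
    rw [hp]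
    refine IsUnit.map C (IsUnit.mk0 _ ?_)
    intro hc
    rw [hc, C_0] at hp
    exact hp0 hp
  have hgd : g.totalDegree = 1 := by
    have h1 : g.totalDegree ≠ 0 := fun h0 => hg (hunit g hg0 h0)
    have h2 : h.totalDegree ≠ 0 := fun h0 => hh (hunit h hh0 h0)
    omega
  have hhd : h.totalDegree = 1 := by omega
  -- decompose
  have hgsum : g = homogeneousComponent 0 g + homogeneousComponent 1 g := by
    conv_lhs => rw [← sum_homogeneousComponent g, hgd]
    simp [Finset.sum_range_succ]
  have hhsum : h = homogeneousComponent 0 h + homogeneousComponent 1 h := by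
    conv_lhs => rw [← sum_homogeneousComponent h, hhd]
    simp [Finset.sum_range_succ]
  set g₀ := homogeneousComponent 0 g with hg₀
  set g₁ := homogeneousComponent 1 g with hg₁
  set h₀ := homogeneousComponent 0 h with hh₀
  set h₁ := homogeneousComponent 1 h with hh₁
  have Hg₀ : g₀.IsHomogeneous 0 := homogeneousComponent_isHomogeneous 0 g
  have Hg₁ : g₁.IsHomogeneous 1 := homogeneousComponent_isHomogeneous 1 g
  have Hh₀ : h₀.IsHomogeneous 0 := homogeneousComponent_isHomogeneous 0 h
  have Hh₁ : h₁.IsHomogeneous 1 := homogeneousComponent_isHomogeneous 1 h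
  have hprod : f = g₀ * h₀ + (g₀ * h₁ + g₁ * h₀) + g₁ * h₁ := by
    rw [hfgh, hgsum, hhsum]; ring
  have key : f = g₁ * h₁ := by
    have e := congrArg (homogeneousComponent 2) hprod
    rw [map_add, map_add, map_add,
      homogeneousComponent_of_mem (show f ∈ homogeneousSubmodule _ _ 2 from hf),
      homogeneousComponent_of_mem (show g₀ * h₀ ∈ homogeneousSubmodule _ _ (0 + 0) from Hg₀.mul Hh₀),
      homogeneousComponent_of_mem (show g₀ * h₁ ∈ homogeneousSubmodule _ _ (0 + 1) from Hg₀.mul Hh₁),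
      homogeneousComponent_of_mem (show g₁ * h₀ ∈ homogeneousSubmodule _ _ (1 + 0) from Hg₁.mul Hh₀),
      homogeneousComponent_of_mem (show g₁ * h₁ ∈ homogeneousSubmodule _ _ (1 + 1) from Hg₁.mul Hh₁)]
      at e
    simpa using e
  refine ⟨fun i => Groth.Agent.H9.LFM.cf i g₁, fun i => Groth.Agent.H9.LFM.cf i h₁, ?_⟩
  have e1 : lin (fun i => Groth.Agent.H9.LFM.cf i g₁) = g₁ := by
    conv_rhs => rw [Groth.Agent.H9.LFM.eq_sum g₁ Hg₁]
    simp only [lin, smul_eq_C_mul]
  have e2 : lin (fun i => Groth.Agent.H9.LFM.cf i h₁) = h₁ := by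
    conv_rhs => rw [Groth.Agent.H9.LFM.eq_sum h₁ Hh₁]
    simp only [lin, smul_eq_C_mul]
  rw [e1, e2, key]

end Groth.Agent.H9.CNC
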