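import Mathlib
import Groth.Agent.Lib.Helper9.Misc.CNC2

set_option autoImplicit false
set_option linter.style.haveILetI false
set_option linter.unusedSectionVars false
set_option linter.unusedVariables false

open MvPolynomial Matrix Module

namespace Groth.Agent.H9.CNC
universe u

variable {k : Type u} [Field k]

section Rank

variable (hk : (2 : k) ≠ 0) {Q : Matrix (Fin 3) (Fin 3) k} (a b : Fin 3 → k)
  (hpol : ∀ y : Fin 3 → k, (2 : k) • Q *ᵥ y = (b ⬝ᵥ y) • a + (a ⬝ᵥ y) • b)

include hk hpol

theorem mulVec_eq (y : Fin 3 → k) :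
    Q *ᵥ y = ((2 : k)⁻¹ * (b ⬝ᵥ y)) • a + ((2 : k)⁻¹ * (a ⬝ᵥ y)) • b := by
  have := congrArg (fun v => (2 : k)⁻¹ • v) (hpol y)
  simp only [smul_smul, inv_mul_cancel₀ hk, one_smul, smul_add] at this
  exact this

theorem range_le : LinearMap.range Q.mulVecLin ≤ Submodule.span k (Set.range ![a, b]) := by
  rintro _ ⟨y, rfl⟩
  rw [Matrix.mulVecLin_apply, mulVec_eq hk a b hpol y]
  exact Submodule.add_mem _ (Submodule.smul_mem _ _ (Submodule.subset_span ⟨0, rfl⟩))
    (Submodule.smul_mem _ _ (Submodule.subset_span ⟨1, rfl⟩))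

theorem rank_eq_two (hind : LinearIndependent k ![a, b]) : Q.rank = 2 := by
  have hspan : finrank k (Submodule.span k (Set.range ![a, b])) = 2 := by
    rw [finrank_span_eq_card hind]; rfl
  apply le_antisymm
  · rw [← hspan]
    exact Submodule.finrank_mono (range_le hk a b hpol)
  · -- surjectivity of `y ↦ (a·y, b·y)`
    let N : Matrix (Fin 2) (Fin 3) k := Matrix.of ![a, b]
    have hN : N.rank = 2 := by
      rw [Matrix.rank_eq_finrank_span_row]
      have : N.row = ![a, b] := by
        funext i; rfl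
      rw [this, hspan]
    have htop : LinearMap.range N.mulVecLin = ⊤ := by
      apply Submodule.eq_top_of_finrank_eq
      rw [Module.finrank_fin_fun]
      exact hN
    have hsurj : ∀ w : Fin 2 → k, ∃ y, a ⬝ᵥ y = w 0 ∧ b ⬝ᵥ y = w 1 := by
      intro w
      have hw : w ∈ LinearMap.range N.mulVecLin := by rw [htop]; trivial
      obtain ⟨y, hy⟩ := hw
      refine ⟨y, ?_, ?_⟩
      · have := congrFun hy 0
        exact this
      · have := congrFun hy 1
        exact this
    obtain ⟨y₁, h1a, h1b⟩ := hsurj ![0, 2]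
    obtain ⟨y₂, h2a, h2b⟩ := hsurj ![2, 0]
    have ha : a ∈ LinearMap.range Q.mulVecLin := by
      refine ⟨y₁, ?_⟩
      rw [Matrix.mulVecLin_apply, mulVec_eq hk a b hpol, h1a, h1b]
      simp [inv_mul_cancel₀ hk]
    have hb : b ∈ LinearMap.range Q.mulVecLin := by
      refine ⟨y₂, ?_⟩
      rw [Matrix.mulVecLin_apply, mulVec_eq hk a b hpol, h2a, h2b]
      simp [inv_mul_cancel₀ hk]
    rw [← hspan]
    apply Submodule.finrank_mono
    rw [Submodule.span_le]
    rintro _ ⟨i, rfl⟩
    fin_cases i
    · exact ha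
    · exact hb

theorem rank_le_one (hdep : ¬ LinearIndependent k ![a, b]) : Q.rank ≤ 1 := by
  rw [LinearIndependent.pair_iff] at hdep
  push Not at hdep
  obtain ⟨s, t, hst, hne⟩ := hdep
  have key : ∃ c : Fin 3 → k, LinearMap.range Q.mulVecLin ≤ Submodule.span k {c} := by
    by_cases hs : s = 0
    · have ht : t ≠ 0 := hne hs
      rw [hs, zero_smul, zero_add] at hst
      have hb0 : b = 0 := (smul_eq_zero.mp hst).resolve_left ht
      refine ⟨a, ?_⟩
      rintro _ ⟨y, rfl⟩
      rw [Matrix.mulVecLin_apply, mulVec_eq hk a b hpol y, hb0, smul_zero, add_zero]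
      exact Submodule.smul_mem _ _ (Submodule.mem_span_singleton_self a)
    · have ha : a = (-(t / s)) • b := by
        have h1 : s • a = -(t • b) := eq_neg_of_add_eq_zero_left hst
        have h2 := congrArg (fun v => s⁻¹ • v) h1
        simp only [smul_smul, inv_mul_cancel₀ hs, one_smul, smul_neg] at h2
        rw [h2, neg_smul, div_eq_inv_mul]
      refine ⟨b, ?_⟩
      rintro _ ⟨y, rfl⟩
      rw [Matrix.mulVecLin_apply, mulVec_eq hk a b hpol y, ha, smul_smul]
      exact Submodule.add_mem _ (Submodule.smul_mem _ _ (Submodule.mem_span_singleton_self b))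
        (Submodule.smul_mem _ _ (Submodule.mem_span_singleton_self b))
  obtain ⟨c, hc⟩ := key
  calc Q.rank ≤ finrank k (Submodule.span k {c}) := Submodule.finrank_mono hc
    _ ≤ 1 := by
      have := finrank_span_le_card (R := k) ({c} : Set (Fin 3 → k))
      simpa using this

end Rank

theorem one_le_rank {Q : Matrix (Fin 3) (Fin 3) k} (hQ0 : Q ≠ 0) : 1 ≤ Q.rank := by
  by_contra hcon
  have h0 : Q.rank = 0 := by omega
  apply hQ0
  have hbot : LinearMap.range Q.mulVecLin = ⊥ := Submodule.finrank_eq_zero.mp h0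
  ext i j
  have : Q *ᵥ Pi.single j 1 ∈ LinearMap.range Q.mulVecLin := ⟨_, rfl⟩
  rw [hbot, Submodule.mem_bot] at this
  have := congrFun this i
  simpa using this

end Groth.Agent.H9.CNC
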