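import Mathlib
import Groth.Agent.Lib.Helper9.Misc.CNC3

set_option autoImplicit false
set_option linter.style.haveILetI false
set_option linter.unusedSectionVars false
set_option linter.unusedVariables false

open MvPolynomial Matrix Module

namespace Groth.Agent.H9.CNC
universe u

variable {k : Type u} [Field k]

theorem lin_smul (c : k) (b : Fin 3 → k) : lin (c • b) = c • lin b := by
  simp only [lin, Finset.smul_sum, Pi.smul_apply, smul_eq_mul, mul_smul]

theorem lin_zero : lin (0 : Fin 3 → k) = 0 := by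
  simp [lin]

theorem pointwise_of_split {Q : Matrix (Fin 3) (Fin 3) k} (a b : Fin 3 → k)
    (h : qpoly Q = lin a * lin b) (x : Fin 3 → k) : qf Q x = (a ⬝ᵥ x) * (b ⬝ᵥ x) := by
  rw [← eval_qpoly, h, map_mul, eval_lin, eval_lin]

theorem split_of_pointwise [Infinite k] {Q : Matrix (Fin 3) (Fin 3) k} (a b : Fin 3 → k)
    (h : ∀ x, qf Q x = (a ⬝ᵥ x) * (b ⬝ᵥ x)) : qpoly Q = lin a * lin b := by
  apply MvPolynomial.funext
  intro x
  rw [eval_qpoly, h, map_mul, eval_lin, eval_lin]

theorem det_eq_zero_of_split (hk : (2 : k) ≠ 0) {Q : Matrix (Fin 3) (Fin 3) k} (hQ : Q.IsSymm)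
    (a b : Fin 3 → k) (h : qpoly Q = lin a * lin b) : Q.det = 0 := by
  have hpol := polar_of_split hk hQ a b (pointwise_of_split a b h)
  let N : Matrix (Fin 3) (Fin 3) k := Matrix.of ![a, b, 0]
  have hN : N.det = 0 := Matrix.det_eq_zero_of_row_eq_zero (2 : Fin 3) (fun j => rfl)
  obtain ⟨y, hy0, hy⟩ := Matrix.exists_mulVec_eq_zero_iff.mpr hN
  have h1 : a ⬝ᵥ y = 0 := congrFun hy 0
  have h2 : b ⬝ᵥ y = 0 := congrFun hy 1
  apply Matrix.exists_mulVec_eq_zero_iff.mp
  refine ⟨y, hy0, ?_⟩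
  have := hpol y
  rw [h1, h2, zero_smul, zero_smul, add_zero] at this
  exact (smul_eq_zero.mp this).resolve_left hk

theorem not_isUnit_of_totalDegree_pos (p : MvPolynomial (Fin 3) k) (hp : 0 < p.totalDegree) :
    ¬ IsUnit p := by
  intro hu
  obtain ⟨v, hv⟩ := hu.exists_right_inv
  have hp0 : p ≠ 0 := by
    rintro rfl
    rw [zero_mul] at hv
    exact zero_ne_one hv
  have hv0 : v ≠ 0 := by
    rintro rfl
    rw [mul_zero] at hv
    exact zero_ne_one hv
  have h1 := totalDegree_mul_of_isDomain hp0 hv0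
  rw [hv, totalDegree_one] at h1
  omega

theorem main [IsAlgClosed k] [CharZero k]
    (Q : Matrix (Fin 3) (Fin 3) k) (hQ : Q.IsSymm) (hQ0 : Q ≠ 0) (f : MvPolynomial (Fin 3) k)
    (hf : f = ∑ i : Fin 3, ∑ j : Fin 3, Q i j • (MvPolynomial.X i * MvPolynomial.X j)) :
    (Irreducible f ↔ Q.det ≠ 0) ∧
    ((∃ u : Fin 3 → k, u ≠ 0 ∧ ∀ i : Fin 3, MvPolynomial.eval u (MvPolynomial.pderiv i f) = 0) ↔
      Q.det = 0) ∧
    ((∃ a b : Fin 3 → k, LinearIndependent k ![a, b] ∧
        f = (∑ i : Fin 3, a i • MvPolynomial.X i) * (∑ i : Fin 3, b i • MvPolynomial.X i)) ↔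
      Q.rank = 2) ∧
    ((∃ a : Fin 3 → k, f = (∑ i : Fin 3, a i • MvPolynomial.X i) ^ 2) ↔ Q.rank = 1) := by
  have hk : (2 : k) ≠ 0 := two_ne_zero
  haveI : Infinite k := IsAlgClosed.instInfinite
  have hfq : f = qpoly Q := hf
  have hf0 : f ≠ 0 := by rw [hfq]; exact qpoly_ne_zero hk hQ hQ0
  have hfhom : f.IsHomogeneous 2 := by rw [hfq]; exact qpoly_isHomogeneous Q
  have hC : Q.det = 0 → ∃ a b : Fin 3 → k, f = lin a * lin b := by
    intro hdet
    obtain ⟨a, b, hab⟩ := exists_split_of_det_eq_zero hk hQ hdet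
    exact ⟨a, b, hfq ▸ split_of_pointwise a b hab⟩
  have hD : ∀ a b : Fin 3 → k, f = lin a * lin b → Q.det = 0 := by
    intro a b hab
    exact det_eq_zero_of_split hk hQ a b (hfq ▸ hab)
  have hpolar : ∀ a b : Fin 3 → k, f = lin a * lin b →
      ∀ y : Fin 3 → k, (2 : k) • Q *ᵥ y = (b ⬝ᵥ y) • a + (a ⬝ᵥ y) • b := by
    intro a b hab
    exact polar_of_split hk hQ a b (pointwise_of_split a b (hfq ▸ hab))
  have hdet_of_rank : Q.rank < 3 → Q.det = 0 := by
    intro hr
    by_contra hdet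
    have := Matrix.rank_of_isUnit Q ((Matrix.isUnit_iff_isUnit_det Q).mpr (Ne.isUnit hdet))
    rw [Fintype.card_fin] at this
    omega
  refine ⟨⟨?_, ?_⟩, ?_, ⟨?_, ?_⟩, ⟨?_, ?_⟩⟩
  · -- irreducible ⇒ det ≠ 0
    intro hirr hdet
    obtain ⟨a, b, hab⟩ := hC hdet
    have ha0 : lin a ≠ 0 := by
      intro h0; rw [h0, zero_mul] at hab; exact hf0 hab
    have hb0 : lin b ≠ 0 := by
      intro h0; rw [h0, mul_zero] at hab; exact hf0 hab
    rcases hirr.isUnit_or_isUnit hab with h | h
    · exact not_isUnit_lin a ha0 h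
    · exact not_isUnit_lin b hb0 h
  · -- det ≠ 0 ⇒ irreducible
    intro hdet
    rw [irreducible_iff]
    refine ⟨not_isUnit_of_totalDegree_pos f (by rw [hfhom.totalDegree hf0]; norm_num), ?_⟩
    intro g h hgh
    by_contra hcon
    push Not at hcon
    obtain ⟨a, b, hab⟩ := exists_lin_of_factor f g h hfhom hf0 hgh hcon.1 hcon.2
    exact hdet (hD a b hab)
  · -- singular points
    rw [← Matrix.exists_mulVec_eq_zero_iff]
    constructor
    · rintro ⟨u, hu0, hu⟩
      refine ⟨u, hu0, ?_⟩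
      funext i
      have := hu i
      rw [hfq, eval_pderiv_qpoly hQ] at this
      exact (mul_eq_zero.mp this).resolve_left hk
    · rintro ⟨u, hu0, hu⟩
      refine ⟨u, hu0, fun i => ?_⟩
      rw [hfq, eval_pderiv_qpoly hQ, hu]
      simp
  · -- two lines ⇒ rank 2
    rintro ⟨a, b, hind, hab⟩
    exact rank_eq_two hk a b (hpolar a b hab) hind
  · -- rank 2 ⇒ two lines
    intro hr
    obtain ⟨a, b, hab⟩ := hC (hdet_of_rank (by omega))
    refine ⟨a, b, ?_, hab⟩
    by_contra hdep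
    have := rank_le_one hk a b (hpolar a b hab) hdep
    omega
  · -- double line ⇒ rank 1
    rintro ⟨a, ha⟩
    have hab : f = lin a * lin a := by rw [ha, sq]; rfl
    have hdep : ¬ LinearIndependent k ![a, a] := by
      rw [LinearIndependent.pair_iff]
      intro h
      have := (h 1 (-1) (by simp)).1
      exact one_ne_zero this
    have h1 := rank_le_one hk a a (hpolar a a hab) hdep
    have h2 := one_le_rank hQ0
    omega
  · -- rank 1 ⇒ double line
    intro hr
    obtain ⟨a, b, hab⟩ := hC (hdet_of_rank (by omega))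
    have hdep : ¬ LinearIndependent k ![a, b] := by
      intro hind
      have := rank_eq_two hk a b (hpolar a b hab) hind
      omega
    have hb0 : b ≠ 0 := by
      rintro rfl
      rw [lin_zero, mul_zero] at hab
      exact hf0 hab
    rw [LinearIndependent.pair_iff] at hdep
    push Not at hdep
    obtain ⟨s, t, hst, hne⟩ := hdep
    have hs : s ≠ 0 := by
      intro hs
      have ht : t ≠ 0 := hne hs
      rw [hs, zero_smul, zero_add] at hst
      exact hb0 ((smul_eq_zero.mp hst).resolve_left ht)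
    have ha : a = (-(t / s)) • b := by
      have h1 : s • a = -(t • b) := eq_neg_of_add_eq_zero_left hst
      have h2 := congrArg (fun v => s⁻¹ • v) h1
      simp only [smul_smul, inv_mul_cancel₀ hs, one_smul, smul_neg] at h2
      rw [h2, neg_smul, div_eq_inv_mul]
    obtain ⟨z, hz⟩ := IsAlgClosed.exists_eq_mul_self (-(t / s))
    refine ⟨z • b, ?_⟩
    show f = (lin (z • b)) ^ 2
    rw [hab, ha, lin_smul, lin_smul, hz]
    simp only [smul_eq_C_mul, C_mul]
    ring

end Groth.Agent.H9.CNC
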