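import Mathlib

/-! Helper9: coflasque lattices (S17849), part 1 — vanishing of H¹ via cocycles. -/

set_option linter.style.haveILetI false
set_option linter.unusedSectionVars false

namespace Groth.Agent.H9.COF

open CategoryTheory Limits groupCohomology

/-- vanishing of `H¹` in terms of cocycles and coboundaries -/
theorem isZero_H1_iff {k : Type} [CommRing k] {G : Type} [Group G] (A : Rep.{0} k G) :
    IsZero (groupCohomology A 1) ↔
      ∀ f : G → A.V, (∀ g h, f (g * h) = A.ρ g (f h) + f g) →
        ∃ x : A.V, ∀ g, f g = A.ρ g x - x := by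
  constructor
  · intro hz f hf
    have hsub : Subsingleton (H1 A) := ModuleCat.isZero_iff_subsingleton.1 hz
    have hmem : f ∈ cocycles₁ A := (mem_cocycles₁_iff f).2 hf
    have h0 : H1π A ⟨f, hmem⟩ = 0 := Subsingleton.elim _ _
    rw [H1π_eq_zero_iff] at h0
    obtain ⟨x, hx⟩ := h0
    refine ⟨x, fun g => ?_⟩
    have := congrFun hx g
    simp only [d₀₁_hom_apply] at this
    exact this.symm
  · intro h
    rw [ModuleCat.isZero_iff_subsingleton]
    refine ⟨fun a b => ?_⟩
    have key : ∀ c : H1 A, c = 0 := by
      intro c
      induction c using H1_induction_on with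
      | h x =>
        rw [H1π_eq_zero_iff]
        obtain ⟨y, hy⟩ := h x ((mem_cocycles₁_iff x).1 x.2)
        refine ⟨y, ?_⟩
        funext g
        simp only [d₀₁_hom_apply]
        exact (hy g).symm
    rw [key a, key b]

end Groth.Agent.H9.COF
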