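import Mathlib
import Groth.Agent.Lib.Helper9.Misc.COF1

/-! Helper9: coflasque lattices (S17849), part 2 — invariant lifts of basis elements. -/

set_option linter.style.haveILetI false
set_option linter.unusedSectionVars false

namespace Groth.Agent.H9.COF

open CategoryTheory Limits

variable {k : Type} [CommRing k] {Γ : Type} [Group Γ]

/-- an invariant lift of a basis element -/
theorem exists_invariant_lift (Λ : Rep.{0} k Γ)
    (hΛ : ∀ Γ' : Subgroup Γ, ∀ f : Γ' → Λ.V,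
      (∀ g h : Γ', f (g * h) = Λ.ρ g.1 (f h) + f g) → ∃ x : Λ.V, ∀ g : Γ', f g = Λ.ρ g.1 x - x)
    (X : Type) [MulAction Γ X] (E : ShortComplex (Rep.{0} k Γ)) (hE : E.ShortExact)
    (e₁ : E.X₁ ≅ Λ) (e₃ : E.X₃ ≅ Rep.ofMulAction k Γ X) (x : X) :
    ∃ b : E.X₂.V, E.g.hom b = e₃.inv.hom (MonoidAlgebra.single x (1 : k)) ∧
      ∀ γ ∈ MulAction.stabilizer Γ x, E.X₂.ρ γ b = b := by
  have hinj : Function.Injective E.f.hom := (Rep.mono_iff_injective E.f).1 hE.mono_f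
  have hsurj : Function.Surjective E.g.hom := (Rep.epi_iff_surjective E.g).1 hE.epi_g
  have hex : ∀ b : E.X₂.V, E.g.hom b = 0 → ∃ a : E.X₁.V, E.f.hom a = b := by
    intro b hb
    have h1 := (E.exact_map_iff_of_faithful (forget₂ (Rep.{0} k Γ) (ModuleCat.{0} k))).2 hE.exact
    have h2 := (ShortComplex.moduleCat_exact_iff _).1 h1
    exact h2 b hb
  have hgf : ∀ a : E.X₁.V, E.g.hom (E.f.hom a) = 0 := by
    intro a
    have h := E.zero
    have h2 : (E.f ≫ E.g).hom a = 0 := by rw [h]; rfl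
    exact h2
  obtain ⟨b0, hb0⟩ := hsurj (e₃.inv.hom (MonoidAlgebra.single x (1 : k)))
  set Γx := MulAction.stabilizer Γ x with hΓx
  have hker : ∀ γ : Γx, E.g.hom (E.X₂.ρ γ.1 b0 - b0) = 0 := by
    intro γ
    rw [map_sub, Rep.hom_comm_apply, hb0, ← Rep.hom_comm_apply]
    have h1 : (Rep.ofMulAction k Γ X).ρ γ.1 (MonoidAlgebra.single x (1 : k)) =
        MonoidAlgebra.single x (1 : k) := by
      rw [Representation.ofMulAction_single]
      congr 1
      exact γ.2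
    rw [h1, sub_self]
  choose a ha using fun γ : Γx => hex _ (hker γ)
  have hcoc : ∀ γ δ : Γx, a (γ * δ) = E.X₁.ρ γ.1 (a δ) + a γ := by
    intro γ δ
    apply hinj
    rw [ha, map_add, Rep.hom_comm_apply, ha, ha]
    have : ((γ * δ : Γx) : Γ) = γ.1 * δ.1 := rfl
    rw [this, map_mul, Module.End.mul_apply, (E.X₂.ρ γ.1).map_sub]
    abel
  obtain ⟨y, hy⟩ := hΛ Γx (fun γ => e₁.hom.hom (a γ)) (by
    intro γ δ
    show e₁.hom.hom (a (γ * δ)) = Λ.ρ γ.1 (e₁.hom.hom (a δ)) + e₁.hom.hom (a γ)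
    rw [hcoc, map_add, Rep.hom_comm_apply])
  set a₀ := e₁.inv.hom y with ha₀
  have haγ : ∀ γ : Γx, a γ = E.X₁.ρ γ.1 a₀ - a₀ := by
    intro γ
    have h1 := congrArg e₁.inv.hom (hy γ)
    rw [Rep.inv_hom_apply, map_sub, Rep.hom_comm_apply] at h1
    exact h1
  refine ⟨b0 - E.f.hom a₀, ?_, ?_⟩
  · rw [map_sub, hgf, sub_zero, hb0]
  · intro γ hγ
    have h1 := ha ⟨γ, hγ⟩
    have h2 := haγ ⟨γ, hγ⟩
    simp only at h1 h2
    rw [map_sub, ← Rep.hom_comm_apply]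
    have h3 : E.X₁.ρ γ a₀ = a ⟨γ, hγ⟩ + a₀ := by rw [h2]; abel
    rw [h3, map_add, h1]
    abel

end Groth.Agent.H9.COF
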