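import Mathlib
import Groth.Agent.Lib.Helper9.Misc.COF2

/-! Helper9: coflasque lattices (S17849), part 3 — extensions of permutation modules by a coflasque module split. -/

set_option linter.style.haveILetI false
set_option linter.unusedSectionVars false

namespace Groth.Agent.H9.COF

open CategoryTheory Limits

variable {k : Type} [CommRing k] {Γ : Type} [Group Γ]

/-- an equivariant family of lifts -/
theorem exists_equivariant_lifts (Λ : Rep.{0} k Γ)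
    (hΛ : ∀ Γ' : Subgroup Γ, ∀ f : Γ' → Λ.V,
      (∀ g h : Γ', f (g * h) = Λ.ρ g.1 (f h) + f g) → ∃ x : Λ.V, ∀ g : Γ', f g = Λ.ρ g.1 x - x)
    (X : Type) [MulAction Γ X] (E : ShortComplex (Rep.{0} k Γ)) (hE : E.ShortExact)
    (e₁ : E.X₁ ≅ Λ) (e₃ : E.X₃ ≅ Rep.ofMulAction k Γ X) :
    ∃ s : X → E.X₂.V, (∀ x, E.g.hom (s x) = e₃.inv.hom (MonoidAlgebra.single x (1 : k))) ∧
      ∀ (γ : Γ) (x : X), s (γ • x) = E.X₂.ρ γ (s x) := by
  choose b hb1 hb2 using exists_invariant_lift Λ hΛ X E hE e₁ e₃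
  -- orbit representatives
  let rep : X → X := fun x => (MulAction.nonempty_orbit (M := Γ) x).some
  have hrep_mem : ∀ x, rep x ∈ MulAction.orbit Γ x := fun x =>
    (MulAction.nonempty_orbit (M := Γ) x).some_mem
  have hrep_smul : ∀ (γ : Γ) (x : X), rep (γ • x) = rep x := by
    intro γ x
    simp only [rep, MulAction.orbit_smul]
  have hτ : ∀ x, ∃ τ : Γ, τ • rep x = x := by
    intro x
    obtain ⟨γ, hγ⟩ := MulAction.mem_orbit_iff.1 (hrep_mem x)
    refine ⟨γ⁻¹, ?_⟩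
    rw [← hγ, inv_smul_smul]
  choose τ hτ using hτ
  refine ⟨fun x => E.X₂.ρ (τ x) (b (rep x)), ?_, ?_⟩
  · intro x
    show E.g.hom (E.X₂.ρ (τ x) (b (rep x))) = _
    rw [Rep.hom_comm_apply E.g, hb1, ← Rep.hom_comm_apply e₃.inv]
    have h1 : (Rep.ofMulAction k Γ X).ρ (τ x) (MonoidAlgebra.single (rep x) (1 : k)) =
        MonoidAlgebra.single x (1 : k) := by
      rw [Representation.ofMulAction_single, hτ]
    rw [h1]
  · intro γ x
    simp only
    rw [hrep_smul]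
    have hstab : (τ (γ • x))⁻¹ * (γ * τ x) ∈ MulAction.stabilizer Γ (rep x) := by
      have h3 := hτ (γ • x)
      rw [hrep_smul] at h3
      rw [MulAction.mem_stabilizer_iff, mul_smul, mul_smul, hτ, inv_smul_eq_iff, h3]
    have h1 := hb2 (rep x) _ hstab
    have h2 : E.X₂.ρ (τ (γ • x)) (b (rep x)) =
        E.X₂.ρ (τ (γ • x)) (E.X₂.ρ ((τ (γ • x))⁻¹ * (γ * τ x)) (b (rep x))) := by rw [h1]
    rw [h2, ← Module.End.mul_apply, ← map_mul, mul_inv_cancel_left, map_mul, Module.End.mul_apply]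

/-- (i) ⇒ (ii) -/
theorem splits_of_coflasque (Λ : Rep.{0} k Γ)
    (hΛ : ∀ Γ' : Subgroup Γ, ∀ f : Γ' → Λ.V,
      (∀ g h : Γ', f (g * h) = Λ.ρ g.1 (f h) + f g) → ∃ x : Λ.V, ∀ g : Γ', f g = Λ.ρ g.1 x - x)
    (X : Type) [MulAction Γ X] (E : ShortComplex (Rep.{0} k Γ)) (hE : E.ShortExact)
    (e₁ : E.X₁ ≅ Λ) (e₃ : E.X₃ ≅ Rep.ofMulAction k Γ X) : Nonempty E.Splitting := by
  obtain ⟨s, hs1, hs2⟩ := exists_equivariant_lifts Λ hΛ X E hE e₁ e₃
  let S : MonoidAlgebra k X →ₗ[k] E.X₂.V :=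
    Finsupp.lift E.X₂.V k X s ∘ₗ (MonoidAlgebra.coeffLinearEquiv k).toLinearMap
  have hS : ∀ (x : X) (r : k), S (MonoidAlgebra.single x r) = r • s x := by
    intro x r
    simp [S]
  let S' : (Rep.ofMulAction k Γ X).ρ.IntertwiningMap E.X₂.ρ := ⟨S, by
    intro γ
    ext x
    simp [hS, hs2]⟩
  let σ : E.X₃ ⟶ E.X₂ := e₃.hom ≫ Rep.ofHom S'
  have hσ : σ ≫ E.g = 𝟙 E.X₃ := by
    have h1 : Rep.ofHom S' ≫ E.g = e₃.inv := by
      apply Rep.hom_ext
      apply Representation.IntertwiningMap.ext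
      ext x
      simp [S', hS, hs1]
    simp only [σ, Category.assoc, h1, Iso.hom_inv_id]
  exact ⟨ShortComplex.Splitting.ofExactOfSection E hE.exact σ hσ hE.mono_f⟩

end Groth.Agent.H9.COF
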