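import Mathlib
import Groth.Agent.Lib.Helper9.Misc.COF3

/-! Helper9: coflasque lattices (S17849), part 4 — the twisting cocycle attached to a 1-cocycle of a subgroup. -/

set_option linter.style.haveILetI false
set_option linter.unusedSectionVars false

namespace Groth.Agent.H9.COF

open CategoryTheory Limits

variable {k : Type} [CommRing k] {Γ : Type} [Group Γ] (Λ : Rep.{0} k Γ) (Γ' : Subgroup Γ)
  (c : Γ' → Λ.V)

open Classical in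
/-- the cocycle extended by zero -/
noncomputable def ct (g : Γ) : Λ.V := if h : g ∈ Γ' then c ⟨g, h⟩ else 0

theorem ct_of_mem {g : Γ} (hg : g ∈ Γ') : ct Λ Γ' c g = c ⟨g, hg⟩ := by
  simp [ct, hg]

variable (hc : ∀ g h : Γ', c (g * h) = Λ.ρ g.1 (c h) + c g)

include hc in
theorem ct_mul {g h : Γ} (hg : g ∈ Γ') (hh : h ∈ Γ') :
    ct Λ Γ' c (g * h) = Λ.ρ g (ct Λ Γ' c h) + ct Λ Γ' c g := by
  rw [ct_of_mem Λ Γ' c hg, ct_of_mem Λ Γ' c hh, ct_of_mem Λ Γ' c (Γ'.mul_mem hg hh)]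
  exact hc ⟨g, hg⟩ ⟨h, hh⟩

include hc in
theorem ct_one : ct Λ Γ' c 1 = 0 := by
  have h := ct_mul Λ Γ' c hc Γ'.one_mem Γ'.one_mem
  rw [mul_one, map_one, Module.End.one_apply] at h
  have h2 : ct Λ Γ' c 1 + 0 = ct Λ Γ' c 1 + ct Λ Γ' c 1 := by rw [add_zero]; exact h
  exact (add_left_cancel h2).symm

open Classical in
/-- a set-theoretic section of `Γ → Γ ⧸ Γ'`, normalized at the base point -/
noncomputable def sec (x : Γ ⧸ Γ') : Γ :=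
  if x = ((1 : Γ) : Γ ⧸ Γ') then 1 else Quotient.out x

theorem mk_sec (x : Γ ⧸ Γ') : ((sec Γ' x : Γ) : Γ ⧸ Γ') = x := by
  unfold sec
  split_ifs with h
  · exact h.symm
  · exact QuotientGroup.out_eq' x

theorem sec_base : sec Γ' ((1 : Γ) : Γ ⧸ Γ') = 1 := by
  simp [sec]

/-- the element of `Γ'` comparing sections -/
noncomputable def hh (γ : Γ) (x : Γ ⧸ Γ') : Γ := (sec Γ' (γ • x))⁻¹ * (γ * sec Γ' x)

theorem hh_mem (γ : Γ) (x : Γ ⧸ Γ') : hh Γ' γ x ∈ Γ' := by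
  unfold hh
  rw [← QuotientGroup.eq, mk_sec]
  have : ((γ * sec Γ' x : Γ) : Γ ⧸ Γ') = γ • ((sec Γ' x : Γ) : Γ ⧸ Γ') := rfl
  rw [this, mk_sec]

theorem sec_mul_hh (γ : Γ) (x : Γ ⧸ Γ') : sec Γ' (γ • x) * hh Γ' γ x = γ * sec Γ' x := by
  unfold hh
  rw [mul_inv_cancel_left]

theorem hh_mul (γ δ : Γ) (x : Γ ⧸ Γ') : hh Γ' (γ * δ) x = hh Γ' γ (δ • x) * hh Γ' δ x := by
  unfold hh
  rw [mul_smul]
  group

/-- the twisting cocycle on the permutation basis -/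
noncomputable def phi (γ : Γ) (x : Γ ⧸ Γ') : Λ.V :=
  Λ.ρ (sec Γ' (γ • x)) (ct Λ Γ' c (hh Γ' γ x))

include hc in
theorem phi_mul (γ δ : Γ) (x : Γ ⧸ Γ') :
    phi Λ Γ' c (γ * δ) x = phi Λ Γ' c γ (δ • x) + Λ.ρ γ (phi Λ Γ' c δ x) := by
  unfold phi
  rw [hh_mul, ct_mul Λ Γ' c hc (hh_mem Γ' γ (δ • x)) (hh_mem Γ' δ x), map_add, mul_smul]
  rw [add_comm]
  congr 1
  rw [← Module.End.mul_apply, ← map_mul, sec_mul_hh, map_mul, Module.End.mul_apply]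

include hc in
theorem phi_one (x : Γ ⧸ Γ') : phi Λ Γ' c 1 x = 0 := by
  unfold phi hh
  rw [one_smul, one_mul, inv_mul_cancel, ct_one Λ Γ' c hc, map_zero]

include hc in
theorem phi_base {γ : Γ} (hγ : γ ∈ Γ') :
    phi Λ Γ' c γ ((1 : Γ) : Γ ⧸ Γ') = c ⟨γ, hγ⟩ := by
  have h1 : γ • (((1 : Γ) : Γ ⧸ Γ')) = ((1 : Γ) : Γ ⧸ Γ') := by
    have : γ • (((1 : Γ) : Γ ⧸ Γ')) = ((γ * 1 : Γ) : Γ ⧸ Γ') := rfl
    rw [this, QuotientGroup.eq]
    simpa using Γ'.inv_mem hγ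
  unfold phi hh
  rw [h1, sec_base, inv_one, one_mul, mul_one, map_one, Module.End.one_apply,
    ct_of_mem Λ Γ' c hγ]

end Groth.Agent.H9.COF
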