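import Mathlib
import Groth.Agent.Lib.Helper9.Misc.COF4

/-! Helper9: coflasque lattices (S17849), part 5 — the extension attached to a 1-cocycle of a subgroup. -/

set_option linter.style.haveILetI false
set_option linter.unusedSectionVars false

namespace Groth.Agent.H9.COF

open CategoryTheory Limits

variable {k : Type} [CommRing k] {Γ : Type} [Group Γ] (Λ : Rep.{0} k Γ) (Γ' : Subgroup Γ)
  (c : Γ' → Λ.V) (hc : ∀ g h : Γ', c (g * h) = Λ.ρ g.1 (c h) + c g)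

/-- the linear extension of `phi γ` -/
noncomputable def Phi (γ : Γ) : MonoidAlgebra k (Γ ⧸ Γ') →ₗ[k] Λ.V :=
  Finsupp.lift Λ.V k (Γ ⧸ Γ') (phi Λ Γ' c γ) ∘ₗ (MonoidAlgebra.coeffLinearEquiv k).toLinearMap

theorem Phi_single (γ : Γ) (x : Γ ⧸ Γ') (r : k) :
    Phi Λ Γ' c γ (MonoidAlgebra.single x r) = r • phi Λ Γ' c γ x := by
  simp [Phi]

include hc in
theorem Phi_mul (γ δ : Γ) :
    Phi Λ Γ' c (γ * δ) = Phi Λ Γ' c γ ∘ₗ (Representation.ofMulAction k Γ (Γ ⧸ Γ') δ) +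
      Λ.ρ γ ∘ₗ Phi Λ Γ' c δ := by
  ext x
  simp [Phi_single, phi_mul Λ Γ' c hc]

include hc in
theorem Phi_one : Phi Λ Γ' c 1 = 0 := by
  ext x
  simp [Phi_single, phi_one Λ Γ' c hc]

/-- the twisted action on `Λ × k[Γ/Γ']` -/
noncomputable def rhoE : Representation k Γ (Λ.V × MonoidAlgebra k (Γ ⧸ Γ')) where
  toFun γ := LinearMap.prod
    (Λ.ρ γ ∘ₗ LinearMap.fst k Λ.V (MonoidAlgebra k (Γ ⧸ Γ')) +
      Phi Λ Γ' c γ ∘ₗ LinearMap.snd k Λ.V (MonoidAlgebra k (Γ ⧸ Γ')))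
    (Representation.ofMulAction k Γ (Γ ⧸ Γ') γ ∘ₗ LinearMap.snd k Λ.V (MonoidAlgebra k (Γ ⧸ Γ')))
  map_one' := by
    apply LinearMap.ext
    rintro ⟨l, m⟩
    simp [Phi_one Λ Γ' c hc]
  map_mul' γ δ := by
    apply LinearMap.ext
    rintro ⟨l, m⟩
    show (Λ.ρ (γ * δ) l + Phi Λ Γ' c (γ * δ) m,
        Representation.ofMulAction k Γ (Γ ⧸ Γ') (γ * δ) m) =
      (Λ.ρ γ (Λ.ρ δ l + Phi Λ Γ' c δ m) +
        Phi Λ Γ' c γ (Representation.ofMulAction k Γ (Γ ⧸ Γ') δ m),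
        Representation.ofMulAction k Γ (Γ ⧸ Γ') γ
          (Representation.ofMulAction k Γ (Γ ⧸ Γ') δ m))
    rw [Phi_mul Λ Γ' c hc γ δ, map_mul, map_mul]
    simp only [LinearMap.add_apply, LinearMap.comp_apply, Module.End.mul_apply, map_add]
    congr 1
    abel

theorem rhoE_apply (γ : Γ) (l : Λ.V) (m : MonoidAlgebra k (Γ ⧸ Γ')) :
    rhoE Λ Γ' c hc γ (l, m) =
      (Λ.ρ γ l + Phi Λ Γ' c γ m, Representation.ofMulAction k Γ (Γ ⧸ Γ') γ m) := rfl

/-- the inclusion of `Λ` -/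
noncomputable def fE : Λ.ρ.IntertwiningMap (rhoE Λ Γ' c hc) :=
  ⟨LinearMap.inl k Λ.V (MonoidAlgebra k (Γ ⧸ Γ')), by
    intro γ
    apply LinearMap.ext
    intro l
    simp [rhoE_apply]⟩

/-- the projection to the permutation module -/
noncomputable def gE : (rhoE Λ Γ' c hc).IntertwiningMap
    (Representation.ofMulAction k Γ (Γ ⧸ Γ')) :=
  ⟨LinearMap.snd k Λ.V (MonoidAlgebra k (Γ ⧸ Γ')), by
    intro γ
    apply LinearMap.ext
    rintro ⟨l, m⟩
    simp [rhoE_apply]⟩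

/-- the extension attached to the cocycle -/
noncomputable def extE : ShortComplex (Rep.{0} k Γ) :=
  ShortComplex.mk (X₁ := Rep.of Λ.ρ) (X₂ := Rep.of (rhoE Λ Γ' c hc))
    (X₃ := Rep.ofMulAction k Γ (Γ ⧸ Γ')) (Rep.ofHom (fE Λ Γ' c hc)) (Rep.ofHom (gE Λ Γ' c hc)) (by
      apply Rep.hom_ext
      apply Representation.IntertwiningMap.ext
      apply LinearMap.ext
      intro l
      rfl)

theorem extE_shortExact : (extE Λ Γ' c hc).ShortExact := by
  have hmono : Mono (extE Λ Γ' c hc).f := by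
    rw [Rep.mono_iff_injective]
    intro a b h
    exact LinearMap.inl_injective h
  have hepi : Epi (extE Λ Γ' c hc).g := by
    rw [Rep.epi_iff_surjective]
    intro m
    exact ⟨(0, m), rfl⟩
  refine ShortComplex.ShortExact.mk' ?_ hmono hepi
  rw [← (extE Λ Γ' c hc).exact_map_iff_of_faithful (forget₂ (Rep.{0} k Γ) (ModuleCat.{0} k))]
  rw [ShortComplex.moduleCat_exact_iff]
  rintro ⟨l, m⟩ hm
  have hm' : m = 0 := hm
  subst hm'
  exact ⟨l, rfl⟩

include hc in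
/-- a splitting of the extension exhibits the cocycle as a coboundary -/
theorem coboundary_of_splitting (spl : (extE Λ Γ' c hc).Splitting) :
    ∃ x : Λ.V, ∀ g : Γ', c g = Λ.ρ g.1 x - x := by
  set s := spl.s.hom with hs
  have hsg : ∀ m : MonoidAlgebra k (Γ ⧸ Γ'), (s m).2 = m := by
    intro m
    have h := spl.s_g
    have h2 : (spl.s ≫ (extE Λ Γ' c hc).g).hom m = m := by rw [h]; rfl
    exact h2
  have hsρ : ∀ (γ : Γ) (m : MonoidAlgebra k (Γ ⧸ Γ')),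
      s (Representation.ofMulAction k Γ (Γ ⧸ Γ') γ m) = rhoE Λ Γ' c hc γ (s m) := by
    intro γ m
    exact Rep.hom_comm_apply spl.s γ m
  set x₀ : Γ ⧸ Γ' := ((1 : Γ) : Γ ⧸ Γ') with hx₀
  set w : Λ.V := (s (MonoidAlgebra.single x₀ (1 : k))).1 with hw
  refine ⟨-w, fun g => ?_⟩
  have h1 : g.1 • x₀ = x₀ := by
    have : g.1 • x₀ = ((g.1 * 1 : Γ) : Γ ⧸ Γ') := rfl
    rw [this, hx₀, QuotientGroup.eq]
    simp
  have h2 := hsρ g.1 (MonoidAlgebra.single x₀ (1 : k))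
  rw [Representation.ofMulAction_single, h1] at h2
  have h3 : s (MonoidAlgebra.single x₀ (1 : k)) = (w, MonoidAlgebra.single x₀ (1 : k)) := by
    exact Prod.ext rfl (hsg _)
  have h4 := congrArg Prod.fst h2
  rw [h3, rhoE_apply, Phi_single, one_smul, phi_base Λ Γ' c hc g.2] at h4
  simp only at h4
  -- h4 : w = Λ.ρ g w + c g
  have h5 : c g = w - Λ.ρ g.1 w := by
    have : c ⟨g.1, g.2⟩ = c g := rfl
    rw [this] at h4
    rw [eq_sub_iff_add_eq, add_comm]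
    exact h4.symm
  rw [h5, map_neg]
  abel

end Groth.Agent.H9.COF
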