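import Mathlib
import Groth.Agent.Lib.Helper9.Misc.COF5

/-! Helper9: coflasque lattices (S17849) — main theorem. -/

set_option linter.style.haveILetI false
set_option linter.unusedSectionVars false

namespace Groth.Agent.H9.COF

open CategoryTheory Limits

theorem S17849_main {k : Type} [CommRing k] (Γ : Type) [Group Γ] [Finite Γ] (Λ : Rep.{0} k Γ) :
    (∀ Γ' : Subgroup Γ, Limits.IsZero (groupCohomology (Rep.res Γ'.subtype Λ) 1)) ↔
      ∀ (X : Type) [MulAction Γ X] [Finite X] (E : ShortComplex (Rep.{0} k Γ)),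
        E.ShortExact → Nonempty (E.X₁ ≅ Λ) → Nonempty (E.X₃ ≅ Rep.ofMulAction k Γ X) →
          Nonempty E.Splitting := by
  constructor
  · intro h X _ _ E hE ⟨e₁⟩ ⟨e₃⟩
    refine splits_of_coflasque Λ ?_ X E hE e₁ e₃
    intro Γ' f hf
    exact (isZero_H1_iff (Rep.res Γ'.subtype Λ)).1 (h Γ') f hf
  · intro h Γ'
    rw [isZero_H1_iff]
    intro f hf
    have hf' : ∀ g h : Γ', f (g * h) = Λ.ρ g.1 (f h) + f g := hf
    obtain ⟨spl⟩ := h (Γ ⧸ Γ') (extE Λ Γ' f hf') (extE_shortExact Λ Γ' f hf')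
      ⟨Iso.refl _⟩ ⟨Iso.refl _⟩
    exact coboundary_of_splitting Λ Γ' f hf' spl

end Groth.Agent.H9.COF
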