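import Mathlib
import Groth.Agent.Lib.Helper9.Misc.FLH1

/-! Helper9: a local homomorphism of noetherian local rings inducing isomorphisms on all truncations A/m^n → B/m^n is flat (via adic completions). -/

set_option linter.style.haveILetI false
set_option linter.unusedSectionVars false

namespace Groth.Agent.H9.CPL

open IsLocalRing

section

variable {A B : Type*} [CommRing A] [CommRing B] [Algebra A B] (I : Ideal A) (J : Ideal B)

/-- the induced map on quotients -/
noncomputable def qmap (n : ℕ) (hIJ : ∀ a : A, a ∈ I ^ n → algebraMap A B a ∈ J ^ n) :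
    A ⧸ I ^ n →ₐ[A] B ⧸ J ^ n :=
  Ideal.Quotient.liftₐ (I ^ n) ((Ideal.Quotient.mkₐ A (J ^ n)).comp (Algebra.ofId A B))
    (fun a ha => by
      simp only [AlgHom.coe_comp, Function.comp_apply, Ideal.Quotient.mkₐ_eq_mk]
      exact Ideal.Quotient.eq_zero_iff_mem.mpr (hIJ a ha))

@[simp]
theorem qmap_mk (n : ℕ) (hIJ : ∀ a : A, a ∈ I ^ n → algebraMap A B a ∈ J ^ n) (a : A) :
    qmap I J n hIJ (Ideal.Quotient.mk (I ^ n) a) = Ideal.Quotient.mk (J ^ n) (algebraMap A B a) := by
  rfl

theorem qmap_factor {m n : ℕ} (hmn : m ≤ n)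
    (hm : ∀ a : A, a ∈ I ^ m → algebraMap A B a ∈ J ^ m)
    (hn : ∀ a : A, a ∈ I ^ n → algebraMap A B a ∈ J ^ n) (x : A ⧸ I ^ n) :
    qmap I J m hm (Ideal.Quotient.factorPow I hmn x) =
      Ideal.Quotient.factorPow J hmn (qmap I J n hn x) := by
  obtain ⟨a, rfl⟩ := Ideal.Quotient.mk_surjective x
  rfl

theorem qmap_injective (n : ℕ) (hIJ : ∀ a : A, algebraMap A B a ∈ J ^ n ↔ a ∈ I ^ n) :
    Function.Injective (qmap I J n (fun a ha => (hIJ a).mpr ha)) := by
  rw [injective_iff_map_eq_zero]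
  intro x hx
  obtain ⟨a, rfl⟩ := Ideal.Quotient.mk_surjective x
  rw [qmap_mk, Ideal.Quotient.eq_zero_iff_mem] at hx
  exact Ideal.Quotient.eq_zero_iff_mem.mpr ((hIJ a).mp hx)

theorem qmap_surjective (n : ℕ) (hIJ : ∀ a : A, a ∈ I ^ n → algebraMap A B a ∈ J ^ n)
    (hs : Function.Surjective ((Ideal.Quotient.mk (J ^ n)).comp (algebraMap A B))) :
    Function.Surjective (qmap I J n hIJ) := by
  intro y
  obtain ⟨a, rfl⟩ := hs y
  exact ⟨Ideal.Quotient.mk _ a, rfl⟩

theorem factorPow_evalₐ {m n : ℕ} (hmn : m ≤ n) (x : AdicCompletion I A) :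
    Ideal.Quotient.factorPow I hmn (AdicCompletion.evalₐ I n x) = AdicCompletion.evalₐ I m x := by
  obtain ⟨r, rfl⟩ := AdicCompletion.mk_surjective I A x
  rw [AdicCompletion.evalₐ_mk, AdicCompletion.evalₐ_mk]
  exact AdicCompletion.Ideal.mk_eq_mk I hmn r

variable (hIJ : ∀ n : ℕ, ∀ a : A, algebraMap A B a ∈ J ^ n ↔ a ∈ I ^ n)

theorem cmap_compat {m n : ℕ} (hle : m ≤ n) :
    (Ideal.Quotient.factorₐ A (Ideal.pow_le_pow_right hle)).comp
      ((qmap I J n (fun a ha => (hIJ n a).mpr ha)).comp (AdicCompletion.evalₐ I n)) =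
    (qmap I J m (fun a ha => (hIJ m a).mpr ha)).comp (AdicCompletion.evalₐ I m) := by
  ext x
  simp only [AlgHom.coe_comp, Function.comp_apply]
  rw [← factorPow_evalₐ I hle x, qmap_factor I J hle _ (fun a ha => (hIJ n a).mpr ha)]
  rfl

/-- the induced map on completions -/
noncomputable def cmap : AdicCompletion I A →ₐ[A] AdicCompletion J B :=
  AdicCompletion.liftAlgHom J
    (fun n => (qmap I J n (fun a ha => (hIJ n a).mpr ha)).comp (AdicCompletion.evalₐ I n))
    (fun hle => cmap_compat I J hIJ hle)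

theorem evalₐ_cmap (n : ℕ) (x : AdicCompletion I A) :
    AdicCompletion.evalₐ J n (cmap I J hIJ x) =
      qmap I J n (fun a ha => (hIJ n a).mpr ha) (AdicCompletion.evalₐ I n x) :=
  AdicCompletion.evalₐ_liftAlgHom J _ (fun hle => cmap_compat I J hIJ hle) n x

theorem cmap_injective : Function.Injective (cmap I J hIJ) := by
  intro x y hxy
  apply AdicCompletion.ext_evalₐ
  intro n
  apply qmap_injective I J n (hIJ n)
  rw [← evalₐ_cmap I J hIJ, ← evalₐ_cmap I J hIJ, hxy]

theorem cmap_surjective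
    (hs : ∀ n : ℕ, Function.Surjective ((Ideal.Quotient.mk (J ^ n)).comp (algebraMap A B))) :
    Function.Surjective (cmap I J hIJ) := by
  have hb : ∀ n, Function.Bijective (qmap I J n (fun a ha => (hIJ n a).mpr ha)) := fun n =>
    ⟨qmap_injective I J n (hIJ n), qmap_surjective I J n _ (hs n)⟩
  let e : ∀ n, (A ⧸ I ^ n) ≃+* (B ⧸ J ^ n) := fun n =>
    RingEquiv.ofBijective (qmap I J n (fun a ha => (hIJ n a).mpr ha)).toRingHom (hb n)
  have he : ∀ n x, e n x = qmap I J n (fun a ha => (hIJ n a).mpr ha) x := fun n x => rfl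
  let g : AdicCompletion J B →+* AdicCompletion I A :=
    AdicCompletion.liftRingHom I
      (fun n => (e n).symm.toRingHom.comp (AdicCompletion.evalₐ J n).toRingHom)
      (by
        intro m n hmn
        ext y
        simp only [RingHom.coe_comp, Function.comp_apply]
        apply (e m).injective
        change e m (Ideal.Quotient.factorPow I hmn ((e n).symm (AdicCompletion.evalₐ J n y))) =
          e m ((e m).symm (AdicCompletion.evalₐ J m y))
        rw [RingEquiv.apply_symm_apply, he, qmap_factor I J hmn _ (fun a ha => (hIJ n a).mpr ha),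
          ← he, RingEquiv.apply_symm_apply, factorPow_evalₐ])
  intro y
  refine ⟨g y, ?_⟩
  apply AdicCompletion.ext_evalₐ
  intro n
  rw [evalₐ_cmap, AdicCompletion.evalₐ_liftRingHom]
  change e n ((e n).symm _) = _
  rw [RingEquiv.apply_symm_apply]
  rfl

end

theorem flat_of_completion {A B : Type*} [CommRing A] [CommRing B] [IsLocalRing A] [IsLocalRing B]
    [IsNoetherianRing A] [IsNoetherianRing B] (φ : A →+* B)
    (h : ∀ n : ℕ, Function.Surjective ((Ideal.Quotient.mk (maximalIdeal B ^ (n + 1))).comp φ) ∧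
      ∀ a : A, φ a ∈ maximalIdeal B ^ (n + 1) ↔ a ∈ maximalIdeal A ^ (n + 1)) : φ.Flat := by
  algebraize [φ]
  have hIJ : ∀ n a, algebraMap A B a ∈ maximalIdeal B ^ n ↔ a ∈ maximalIdeal A ^ n := by
    intro n a
    cases n with
    | zero => simp
    | succ n => exact (h n).2 a
  have hs : ∀ n, Function.Surjective
      ((Ideal.Quotient.mk (maximalIdeal B ^ n)).comp (algebraMap A B)) := by
    intro n
    cases n with
    | zero =>
      intro y
      have : Subsingleton (B ⧸ maximalIdeal B ^ 0) := by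
        rw [pow_zero]; exact Ideal.Quotient.subsingleton_iff.mpr Ideal.one_eq_top
      exact ⟨0, Subsingleton.elim _ _⟩
    | succ n => exact (h n).1
  have : IsScalarTower A B (AdicCompletion (maximalIdeal B) B) :=
    IsScalarTower.of_algebraMap_eq (fun a => rfl)
  have : Module.Flat A (AdicCompletion (maximalIdeal B) B) :=
    Module.Flat.of_linearEquiv (LinearEquiv.ofBijective
      (cmap (maximalIdeal A) (maximalIdeal B) hIJ).toLinearMap
      ⟨cmap_injective _ _ hIJ, cmap_surjective _ _ hIJ hs⟩).symm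
  have : Module.FaithfullyFlat B (AdicCompletion (maximalIdeal B) B) :=
    Module.FaithfullyFlat.of_flat_of_isLocalHom
  exact Groth.Agent.H9.FLH.flat_of_faithfullyFlat_tower A B (AdicCompletion (maximalIdeal B) B)

end Groth.Agent.H9.CPL
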