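import Mathlib

/-! Helper9: the characteristic polynomial of M ⊕ M⁻ᵀ is real when all eigenvalues have norm one (for S15525). -/

open Polynomial Matrix

namespace Groth.Agent.H9.CPReal

/-- reverse of a product of linear factors -/
theorem reverse_prod_X_sub_C (s : Multiset ℂ) :
    ((s.map fun a => (X - C a : ℂ[X])).prod).reverse = (s.map fun a => (1 - C a * X : ℂ[X])).prod := by
  induction s using Multiset.induction_on with
  | empty =>
    have : (1 : ℂ[X]) = C 1 := by simp
    simp only [Multiset.map_zero, Multiset.prod_zero]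
    rw [this, reverse_C]
  | cons a s ih =>
    rw [Multiset.map_cons, Multiset.prod_cons, Multiset.map_cons, Multiset.prod_cons,
      reverse_mul_of_domain, ih]
    congr 1
    have : (X - C a : ℂ[X]) = X + C (-a) := by rw [C_neg]; ring
    have hX : (X : ℂ[X]).reverse = 1 := by
      have h := reverse_mul_X (1 : ℂ[X])
      rw [one_mul] at h
      rw [h]
      have : (1 : ℂ[X]) = C 1 := by simp
      rw [this, reverse_C]
    rw [this, reverse_add_C, hX, natDegree_X, pow_one, C_neg]
    ring

theorem inv_prod_identity (s : Multiset ℂ) (hs : ∀ a ∈ s, a ≠ 0) :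
    (-1 : ℂ[X]) ^ (Multiset.card s) * C (s.prod)⁻¹ * (s.map fun a => (1 - C a * X : ℂ[X])).prod =
      (s.map fun a => (X - C a⁻¹ : ℂ[X])).prod := by
  induction s using Multiset.induction_on with
  | empty => simp
  | cons a s ih =>
    have ha : a ≠ 0 := hs a (Multiset.mem_cons_self a s)
    have ih' := ih (fun b hb => hs b (Multiset.mem_cons_of_mem hb))
    rw [Multiset.map_cons, Multiset.prod_cons, Multiset.map_cons, Multiset.prod_cons,
      Multiset.card_cons, Multiset.prod_cons, ← ih', mul_inv, C_mul, pow_succ]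
    have h1 : (C a⁻¹ : ℂ[X]) * (1 - C a * X) = C a⁻¹ - X := by
      rw [mul_sub, mul_one, ← mul_assoc, ← C_mul, inv_mul_cancel₀ ha, C_1, one_mul]
    calc (-1 : ℂ[X]) ^ Multiset.card s * -1 * (C a⁻¹ * C (s.prod)⁻¹) *
          ((1 - C a * X) * (s.map fun a => (1 - C a * X : ℂ[X])).prod)
        = (-(C a⁻¹ * (1 - C a * X))) * ((-1 : ℂ[X]) ^ Multiset.card s * C (s.prod)⁻¹ *
          (s.map fun a => (1 - C a * X : ℂ[X])).prod) := by ring
      _ = _ := by rw [h1]; ring

theorem charpoly_inv_eq (r : ℕ) (N : Matrix (Fin r) (Fin r) ℂ) (hN : IsUnit N) :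
    N⁻¹.charpoly = (N.charpoly.roots.map fun a => (X - C a⁻¹ : ℂ[X])).prod := by
  have hsplit := IsAlgClosed.splits N.charpoly
  have hf := hsplit.eq_prod_roots_of_monic N.charpoly_monic
  have hdet : N.det = N.charpoly.roots.prod := det_eq_prod_roots_charpoly N
  have hdet0 : N.det ≠ 0 := by
    have := (Matrix.isUnit_iff_isUnit_det N).1 hN
    exact this.ne_zero
  have hroots0 : ∀ a ∈ N.charpoly.roots, a ≠ 0 := by
    intro a ha h0
    rw [hdet] at hdet0
    exact hdet0 (Multiset.prod_eq_zero (h0 ▸ ha))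
  have hcard : Multiset.card N.charpoly.roots = r := by
    have := hsplit.natDegree_eq_card_roots
    rw [← this, Matrix.charpoly_natDegree_eq_dim, Fintype.card_fin]
  rw [Matrix.charpoly_inv N hN, ← Matrix.reverse_charpoly]
  conv_lhs => rw [hf, reverse_prod_X_sub_C]
  rw [Fintype.card_fin, Ring.inverse_eq_inv', hdet]
  have := inv_prod_identity _ hroots0
  rw [hcard] at this
  exact this

theorem main (L : Type*) [Field L] (ι : L →+* ℂ)
    {r : ℕ} (M : Matrix (Fin r) (Fin r) L)
    (hM : ∀ z ∈ ((Matrix.charpoly M).map ι).roots, ‖z‖ = 1) (n : ℕ) :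
    (ι ((Matrix.fromBlocks M 0 0 (M⁻¹).transpose).charpoly.coeff n)).im = 0 := by
  set N : Matrix (Fin r) (Fin r) ℂ := M.map ι with hNdef
  have hNchar : N.charpoly = M.charpoly.map ι := Matrix.charpoly_map M ι
  -- M is invertible
  have hdetM : M.det ≠ 0 := by
    intro h0
    have hc0 : M.charpoly.coeff 0 = 0 := by
      have := Matrix.det_eq_sign_charpoly_coeff M
      rw [h0] at this
      have hne : ((-1 : L) ^ Fintype.card (Fin r)) ≠ 0 := pow_ne_zero _ (by simp)
      exact (mul_eq_zero.1 this.symm).resolve_left hne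
    have hroot : (0 : ℂ) ∈ (M.charpoly.map ι).roots := by
      rw [mem_roots ((M.charpoly_monic.map ι).ne_zero), IsRoot, eval_map, eval₂_at_zero, hc0, map_zero]
    have := hM 0 hroot
    simp at this
  have hMunit : IsUnit M := (Matrix.isUnit_iff_isUnit_det M).2 (isUnit_iff_ne_zero.2 hdetM)
  have hNunit : IsUnit N := by
    rw [Matrix.isUnit_iff_isUnit_det, hNdef, ← RingHom.mapMatrix_apply, ← RingHom.map_det]
    exact (isUnit_iff_ne_zero.2 hdetM).map ι
  have hinv : (M⁻¹).map ι = N⁻¹ := by
    apply (Matrix.inv_eq_left_inv _).symm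
    rw [hNdef, ← Matrix.map_mul, Matrix.nonsing_inv_mul _ ((Matrix.isUnit_iff_isUnit_det M).1 hMunit)]
    simp
  -- the characteristic polynomial over ℂ
  have hP : ((Matrix.fromBlocks M 0 0 (M⁻¹).transpose).charpoly).map ι =
      (N.charpoly.roots.map fun a => ((X - C a) * (X - C a⁻¹) : ℂ[X])).prod := by
    rw [Matrix.charpoly_fromBlocks_zero₁₂, Matrix.charpoly_transpose, Polynomial.map_mul,
      ← Matrix.charpoly_map, ← Matrix.charpoly_map, hinv, charpoly_inv_eq r N hNunit,
      Multiset.prod_map_mul]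
    congr 1
    exact (IsAlgClosed.splits N.charpoly).eq_prod_roots_of_monic N.charpoly_monic
  have hmem : ((Matrix.fromBlocks M 0 0 (M⁻¹).transpose).charpoly).map ι ∈
      (Polynomial.mapRingHom Complex.ofRealHom).range := by
    rw [hP]
    refine Subring.multiset_prod_mem _ _ ?_
    intro p hp
    rw [Multiset.mem_map] at hp
    obtain ⟨a, ha, rfl⟩ := hp
    have hnorm : ‖a‖ = 1 := hM a (by rw [← hNchar]; exact ha)
    refine ⟨X ^ 2 - C (2 * a.re) * X + 1, ?_⟩
    have h1 : a⁻¹ = (starRingEnd ℂ) a := Complex.inv_eq_conj hnorm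
    have h2 : a + (starRingEnd ℂ) a = ((2 * a.re : ℝ) : ℂ) := Complex.add_conj a
    have h3 : a * (starRingEnd ℂ) a = 1 := by
      rw [← h1, mul_inv_cancel₀]
      intro h0
      rw [h0] at hnorm
      simp at hnorm
    simp only [coe_mapRingHom, Polynomial.map_add, Polynomial.map_sub, Polynomial.map_mul,
      Polynomial.map_pow, map_X, map_C, Polynomial.map_one, Complex.ofRealHom_eq_coe]
    rw [← h2, h1]
    have : ((X - C a) * (X - C ((starRingEnd ℂ) a)) : ℂ[X]) =
        X ^ 2 - C (a + (starRingEnd ℂ) a) * X + C (a * (starRingEnd ℂ) a) := by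
      rw [C_add, C_mul]; ring
    rw [this, h3, C_1]
  obtain ⟨q, hq⟩ := hmem
  have : ι ((Matrix.fromBlocks M 0 0 (M⁻¹).transpose).charpoly.coeff n) = ((q.coeff n : ℝ) : ℂ) := by
    rw [← Polynomial.coeff_map, ← hq, coe_mapRingHom, Polynomial.coeff_map]
    rfl
  rw [this]
  exact Complex.ofReal_im _

end Groth.Agent.H9.CPReal
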