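import Mathlib
import Groth.Prelude.Def_QuadGrp2

/-! Scheme-level plumbing for pinned group schemes `QuadGrp.LinRep` (helper9):
a scheme over `Spec R` whose points with values in affine `R`-schemes are represented by an
`R`-algebra `A₀` is `Spec A₀`. -/

set_option autoImplicit false

open CategoryTheory AlgebraicGeometry TensorProduct Limits MonObj

namespace Groth.Agent.H9.SG

universe u

/-- A morphism of schemes inducing bijections on points with values in affine schemes is an
isomorphism. -/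
theorem isIso_of_bijective_affine {X Y : Scheme.{u}} (f : Y ⟶ X)
    (h : ∀ (T : Scheme.{u}) [IsAffine T], Function.Bijective (fun s : T ⟶ Y => s ≫ f)) :
    IsIso f := by
  classical
  let 𝒰 := X.affineCover
  have hex : ∀ i, ∃ s : 𝒰.X i ⟶ Y, s ≫ f = 𝒰.f i := fun i => (h (𝒰.X i)).2 (𝒰.f i)
  choose s hs using hex
  have hcompat : ∀ i j, pullback.fst (𝒰.f i) (𝒰.f j) ≫ s i =
      pullback.snd (𝒰.f i) (𝒰.f j) ≫ s j := by
    intro i j
    refine Scheme.Cover.hom_ext (pullback (𝒰.f i) (𝒰.f j)).affineCover _ _ fun k => ?_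
    apply (h _).1
    show (_ ≫ _ ≫ s i) ≫ f = (_ ≫ _ ≫ s j) ≫ f
    simp only [Category.assoc, hs, pullback.condition]
  let t : X ⟶ Y := 𝒰.glueMorphisms s hcompat
  have ht : t ≫ f = 𝟙 X := by
    refine Scheme.Cover.hom_ext 𝒰 _ _ fun i => ?_
    rw [Scheme.Cover.ι_glueMorphisms_assoc, hs, Category.comp_id]
  have ht' : f ≫ t = 𝟙 Y := by
    refine Scheme.Cover.hom_ext Y.affineCover _ _ fun k => ?_
    apply (h _).1
    show (_ ≫ f ≫ t) ≫ f = (_ ≫ 𝟙 Y) ≫ f
    simp only [Category.assoc, ht, Category.comp_id]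
  exact ⟨t, ht', ht⟩

variable {R : Type u} [CommRing R]

/-- every morphism over `Spec R` between spectra of `R`-algebras comes from an algebra map -/
theorem exists_algHom_of_hom {A B : Type u} [CommRing A] [Algebra R A] [CommRing B] [Algebra R B]
    (s : QuadGrp.specOver R B ⟶ QuadGrp.specOver R A) :
    ∃ ψ : A →ₐ[R] B, s = QuadGrp.specOverMap R ψ := by
  let ψ₀ : CommRingCat.of A ⟶ CommRingCat.of B := Spec.preimage s.left
  have h1 : Spec.map ψ₀ = s.left := Spec.map_preimage _
  have hw : s.left ≫ Spec.map (CommRingCat.ofHom (algebraMap R A)) =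
      Spec.map (CommRingCat.ofHom (algebraMap R B)) := Over.w s
  have h2 : CommRingCat.ofHom (algebraMap R A) ≫ ψ₀ = CommRingCat.ofHom (algebraMap R B) := by
    apply Spec.map_injective
    rw [Spec.map_comp, h1]
    exact hw
  refine ⟨{ ψ₀.hom with commutes' := fun r => ?_ }, ?_⟩
  · exact congrArg (fun f => f.hom r) h2
  · apply Over.OverMorphism.ext
    show s.left = Spec.map (CommRingCat.ofHom _)
    rw [← h1]
    rfl

/-- points with values in spectra of `R`-algebras detect isomorphisms over `Spec R` -/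
theorem isIso_left_of_bijective_points {X Y : Over (Spec (CommRingCat.of R))} (f : Y ⟶ X)
    (h : ∀ (C : Type u) [CommRing C] [Algebra R C],
      Function.Bijective (fun s : QuadGrp.specOver R C ⟶ Y => s ≫ f)) :
    IsIso f.left := by
  have key : ∀ (C : Type u) [CommRing C],
      Function.Bijective (fun s : Spec (CommRingCat.of C) ⟶ Y.left => s ≫ f.left) := by
    intro C _
    constructor
    · intro b b' hbb
      dsimp only at hbb
      let φ : CommRingCat.of R ⟶ CommRingCat.of C :=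
        Spec.preimage ((b ≫ Y.hom : Spec (CommRingCat.of C) ⟶ Spec (CommRingCat.of R)))
      letI : Algebra R C := φ.hom.toAlgebra
      have hφ : Spec.map (CommRingCat.ofHom (algebraMap R C)) = b ≫ Y.hom :=
        Spec.map_preimage _
      have hφ' : Spec.map (CommRingCat.ofHom (algebraMap R C)) = b' ≫ Y.hom := by
        rw [hφ, ← Over.w f, ← Category.assoc, hbb, Category.assoc]
      let b₁ : QuadGrp.specOver R C ⟶ Y := Over.homMk b hφ.symm
      let b₁' : QuadGrp.specOver R C ⟶ Y := Over.homMk b' hφ'.symm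
      have : b₁ = b₁' := (h C).1 (Over.OverMorphism.ext hbb)
      exact congrArg (fun t => t.left) this
    · intro a
      let φ : CommRingCat.of R ⟶ CommRingCat.of C :=
        Spec.preimage ((a ≫ X.hom : Spec (CommRingCat.of C) ⟶ Spec (CommRingCat.of R)))
      letI : Algebra R C := φ.hom.toAlgebra
      have hφ : Spec.map (CommRingCat.ofHom (algebraMap R C)) = a ≫ X.hom :=
        Spec.map_preimage _
      let a₁ : QuadGrp.specOver R C ⟶ X := Over.homMk a hφ.symm
      obtain ⟨s, hs⟩ := (h C).2 a₁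
      exact ⟨s.left, congrArg (fun t => t.left) hs⟩
  apply isIso_of_bijective_affine
  intro T _
  let e := T.isoSpec
  have hk := key Γ(T, ⊤)
  constructor
  · intro s s' hss
    dsimp only at hss
    have : e.inv ≫ s = e.inv ≫ s' := hk.1 (by
      show (e.inv ≫ s) ≫ f.left = (e.inv ≫ s') ≫ f.left
      simp only [Category.assoc, hss])
    exact (cancel_epi e.inv).mp this
  · intro a
    obtain ⟨s₀, hs₀⟩ := hk.2 (e.inv ≫ a)
    refine ⟨e.hom ≫ s₀, ?_⟩
    show (e.hom ≫ s₀) ≫ f.left = a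
    have hs₀' : s₀ ≫ f.left = e.inv ≫ a := hs₀
    rw [Category.assoc, hs₀', Iso.hom_inv_id_assoc]

variable {M : Type u} [AddCommGroup M] [Module R M]

theorem linearEquiv_ext_one_tmul {A : Type u} [CommRing A] [Algebra R A]
    (g g' : (A ⊗[R] M) ≃ₗ[A] (A ⊗[R] M))
    (h : ∀ m : M, g (1 ⊗ₜ[R] m) = g' (1 ⊗ₜ[R] m)) : g = g' := by
  refine LinearEquiv.ext fun v => ?_
  induction v using TensorProduct.induction_on with
  | zero => rw [map_zero, map_zero]
  | tmul a m =>
    have e : a ⊗ₜ[R] m = a • ((1 : A) ⊗ₜ[R] m) := by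
      rw [TensorProduct.smul_tmul', smul_eq_mul, _root_.mul_one]
    rw [e, map_smul, map_smul, h]
  | add x y hx hy => rw [map_add, map_add, hx, hy]

section Rep

variable {S : ∀ (A : Type u) [CommRing A] [Algebra R A],
    Subgroup ((A ⊗[R] M) ≃ₗ[A] (A ⊗[R] M))}
  {G : Over (Spec (CommRingCat.of R))} [GrpObj G]

/-- The representability hypothesis: `g₀ ∈ S A₀` is a universal element. -/
def IsUniversal (S : ∀ (A : Type u) [CommRing A] [Algebra R A],
    Subgroup ((A ⊗[R] M) ≃ₗ[A] (A ⊗[R] M)))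
    (A₀ : Type u) [CommRing A₀] [Algebra R A₀] (g₀ : ↥(S A₀)) : Prop :=
  ∀ (C : Type u) [CommRing C] [Algebra R C] (g : ↥(S C)),
    ∃! ψ : A₀ →ₐ[R] C, ∀ m : M,
      ((g : ↥(S C)) : (C ⊗[R] M) ≃ₗ[C] (C ⊗[R] M)) (1 ⊗ₜ[R] m) =
        LinearMap.rTensor M ψ.toLinearMap
          (((g₀ : ↥(S A₀)) : (A₀ ⊗[R] M) ≃ₗ[A₀] (A₀ ⊗[R] M)) (1 ⊗ₜ[R] m))

theorem bijective_points (D : QuadGrp.LinRep R M S G)
    (A₀ : Type u) [CommRing A₀] [Algebra R A₀] (g₀ : ↥(S A₀)) (hrep : IsUniversal S A₀ g₀)
    (C : Type u) [CommRing C] [Algebra R C] :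
    Function.Bijective
      (fun s : QuadGrp.specOver R C ⟶ QuadGrp.specOver R A₀ => s ≫ (D.pts A₀).symm g₀) := by
  constructor
  · intro s s' hss
    obtain ⟨ψ, rfl⟩ := exists_algHom_of_hom s
    obtain ⟨ψ', rfl⟩ := exists_algHom_of_hom s'
    dsimp only at hss
    obtain ⟨ψ₁, -, huniq⟩ := hrep C (D.pts C (QuadGrp.specOverMap R ψ ≫ (D.pts A₀).symm g₀))
    have e1 : ψ = ψ₁ := huniq ψ fun m => by
      rw [D.natural, MulEquiv.apply_symm_apply]
    have e2 : ψ' = ψ₁ := huniq ψ' fun m => by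
      rw [hss, D.natural, MulEquiv.apply_symm_apply]
    rw [e1, e2]
  · intro y
    obtain ⟨ψ, hψ, -⟩ := hrep C (D.pts C y)
    refine ⟨QuadGrp.specOverMap R ψ, ?_⟩
    apply (D.pts C).injective
    apply Subtype.ext
    apply linearEquiv_ext_one_tmul
    intro m
    rw [D.natural, MulEquiv.apply_symm_apply, hψ]

/-- the universal point is an isomorphism `Spec A₀ ≅ G` -/
theorem isIso_universal_point (D : QuadGrp.LinRep R M S G)
    (A₀ : Type u) [CommRing A₀] [Algebra R A₀] (g₀ : ↥(S A₀)) (hrep : IsUniversal S A₀ g₀) :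
    IsIso ((D.pts A₀).symm g₀).left :=
  isIso_left_of_bijective_points _ (fun C _ _ => bijective_points D A₀ g₀ hrep C)

theorem universal_point_w (D : QuadGrp.LinRep R M S G)
    (A₀ : Type u) [CommRing A₀] [Algebra R A₀] (g₀ : ↥(S A₀)) :
    ((D.pts A₀).symm g₀).left ≫ G.hom = Spec.map (CommRingCat.ofHom (algebraMap R A₀)) :=
  Over.w ((D.pts A₀).symm g₀)

theorem smooth_iff_of_universal (D : QuadGrp.LinRep R M S G)
    (A₀ : Type u) [CommRing A₀] [Algebra R A₀] (g₀ : ↥(S A₀)) (hrep : IsUniversal S A₀ g₀) :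
    AlgebraicGeometry.Smooth G.hom ↔ Algebra.Smooth R A₀ := by
  haveI := isIso_universal_point D A₀ g₀ hrep
  have h1 : AlgebraicGeometry.Smooth G.hom ↔
      AlgebraicGeometry.Smooth (Spec.map (CommRingCat.ofHom (algebraMap R A₀))) := by
    rw [← universal_point_w D A₀ g₀]
    exact (MorphismProperty.cancel_left_of_respectsIso @AlgebraicGeometry.Smooth
      ((D.pts A₀).symm g₀).left G.hom).symm
  rw [h1, HasRingHomProperty.Spec_iff (P := @AlgebraicGeometry.Smooth)]
  exact RingHom.smooth_algebraMap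

end Rep

end Groth.Agent.H9.SG
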