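import Mathlib
import Groth.Prelude.Def_QuadGrp2
import Groth.Agent.Lib.Helper9.Misc.SG1
import Groth.Agent.Lib.Helper9.Misc.QG3

/-! Representability plumbing for pinned Clifford group schemes `QuadGrp.CliffRep` (helper9):
* a generic coordinate ring `A0 bC E` for a finite natural family `E` of elements of `A ⊗ C`
  (`C` a module with a finite basis) in finitely many variables;
* the canonical map `cmap : C(Q_A) → C(Q_B)` of an algebra map, and `IsUniversalC`;
* a scheme `G` over `Spec R` pinned by `CliffRep` with a universal point over `A₀` is `Spec A₀`. -/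

set_option autoImplicit false

open CategoryTheory AlgebraicGeometry TensorProduct Limits MonObj CliffordAlgebra

namespace Groth.Agent.H9.CR

universe u

section Coord

variable {R : Type u} [CommRing R] {C : Type u} [AddCommGroup C] [Module R C]
  {K : Type} [Fintype K] [DecidableEq K] (bC : Module.Basis K R C)

/-- coordinates of an element of `A ⊗ C` -/
noncomputable def coord (A : Type u) [CommRing A] [Algebra R A] (k : K) (z : A ⊗[R] C) : A :=
  (bC.baseChange A).repr z k

theorem coord_tmul (A : Type u) [CommRing A] [Algebra R A] (k : K) (a : A) (c : C) :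
    coord bC A k (a ⊗ₜ[R] c) = bC.repr c k • a := by
  simp [coord]

theorem coord_zero (A : Type u) [CommRing A] [Algebra R A] (k : K) :
    coord bC A k (0 : A ⊗[R] C) = 0 := by
  simp [coord]

theorem coord_add (A : Type u) [CommRing A] [Algebra R A] (k : K) (z z' : A ⊗[R] C) :
    coord bC A k (z + z') = coord bC A k z + coord bC A k z' := by
  simp [coord]

theorem coord_rTensor {A B : Type u} [CommRing A] [Algebra R A] [CommRing B] [Algebra R B]
    (ψ : A →ₐ[R] B) (z : A ⊗[R] C) (k : K) :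
    coord bC B k (LinearMap.rTensor C ψ.toLinearMap z) = ψ (coord bC A k z) := by
  induction z using TensorProduct.induction_on with
  | zero => rw [map_zero, coord_zero, coord_zero, map_zero]
  | tmul a c =>
    rw [LinearMap.rTensor_tmul, coord_tmul, coord_tmul, AlgHom.toLinearMap_apply, map_smul]
  | add x y hx hy => rw [map_add, coord_add, coord_add, hx, hy, map_add]

theorem eq_of_coord (A : Type u) [CommRing A] [Algebra R A] (z z' : A ⊗[R] C)
    (h : ∀ k, coord bC A k z = coord bC A k z') : z = z' := by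
  apply (bC.baseChange A).repr.injective
  ext k
  exact h k

theorem eq_zero_of_coord (A : Type u) [CommRing A] [Algebra R A] (z : A ⊗[R] C)
    (h : ∀ k, coord bC A k z = 0) : z = 0 :=
  eq_of_coord bC A z 0 fun k => by rw [h k, coord_zero]

/-- the element with given coordinates -/
noncomputable def vec (A : Type u) [CommRing A] [Algebra R A] (a : K → A) : A ⊗[R] C :=
  ∑ k, a k • (bC.baseChange A) k

theorem coord_vec (A : Type u) [CommRing A] [Algebra R A] (a : K → A) (k : K) :
    coord bC A k (vec bC A a) = a k :=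
  congrFun (Module.Basis.repr_sum_self (bC.baseChange A) a) k

theorem vec_coord (A : Type u) [CommRing A] [Algebra R A] (z : A ⊗[R] C) :
    vec bC A (fun k => coord bC A k z) = z :=
  (bC.baseChange A).sum_repr z

theorem vec_eq_sum_tmul (A : Type u) [CommRing A] [Algebra R A] (a : K → A) :
    vec bC A a = ∑ k, a k ⊗ₜ[R] bC k := by
  unfold vec
  refine Finset.sum_congr rfl fun k _ => ?_
  rw [Module.Basis.baseChange_apply, TensorProduct.smul_tmul', smul_eq_mul, _root_.mul_one]

theorem rTensor_vec {A B : Type u} [CommRing A] [Algebra R A] [CommRing B] [Algebra R B]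
    (ψ : A →ₐ[R] B) (a : K → A) :
    LinearMap.rTensor C ψ.toLinearMap (vec bC A a) = vec bC B (fun k => ψ (a k)) := by
  rw [vec_eq_sum_tmul, vec_eq_sum_tmul, map_sum]
  rfl

end Coord

section NatFam

variable {R : Type u} [CommRing R] {C : Type u} [AddCommGroup C] [Module R C]
  {K : Type} [Fintype K] [DecidableEq K] (bC : Module.Basis K R C)
  {V J : Type}
  (E : ∀ (A : Type u) [CommRing A] [Algebra R A], (V → A) → J → A ⊗[R] C)

/-- naturality of a family of elements -/
def IsNat : Prop :=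
  ∀ (A B : Type u) [CommRing A] [Algebra R A] [CommRing B] [Algebra R B] (ψ : A →ₐ[R] B)
    (a : V → A) (j : J),
    LinearMap.rTensor C ψ.toLinearMap (E A a j) = E B (fun v => ψ (a v)) j

/-- the relations: all coordinates of the universal elements -/
noncomputable def relSet : Set (MvPolynomial V R) :=
  Set.range fun jk : J × K =>
    coord bC (MvPolynomial V R) jk.2 (E (MvPolynomial V R) MvPolynomial.X jk.1)

/-- the coordinate ring of the functor `A ↦ {a : V → A | ∀ j, E A a j = 0}` -/
def A0 : Type u := MvPolynomial V R ⧸ Ideal.span (relSet bC E)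

noncomputable instance : CommRing (A0 bC E) :=
  inferInstanceAs (CommRing (MvPolynomial V R ⧸ Ideal.span (relSet bC E)))

noncomputable instance : Algebra R (A0 bC E) :=
  inferInstanceAs (Algebra R (MvPolynomial V R ⧸ Ideal.span (relSet bC E)))

/-- the projection -/
noncomputable def proj : MvPolynomial V R →ₐ[R] A0 bC E :=
  Ideal.Quotient.mkₐ R (Ideal.span (relSet bC E))

theorem proj_surjective : Function.Surjective (proj bC E) :=
  Ideal.Quotient.mkₐ_surjective R _

/-- the universal point -/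
noncomputable def pt (v : V) : A0 bC E := proj bC E (MvPolynomial.X v)

theorem pt_spec (hE : IsNat E) (j : J) : E (A0 bC E) (pt bC E) j = 0 := by
  apply eq_zero_of_coord bC
  intro k
  have h := hE _ _ (proj bC E) MvPolynomial.X j
  change coord bC _ k (E (A0 bC E) (fun v => proj bC E (MvPolynomial.X v)) j) = 0
  rw [← h, coord_rTensor]
  exact Ideal.Quotient.eq_zero_iff_mem.mpr (Ideal.subset_span ⟨(j, k), rfl⟩)

theorem exists_hom (hE : IsNat E) {A : Type u} [CommRing A] [Algebra R A] (a : V → A)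
    (h : ∀ j, E A a j = 0) : ∃ ψ : A0 bC E →ₐ[R] A, ∀ v, ψ (pt bC E v) = a v := by
  let ψ₀ : MvPolynomial V R →ₐ[R] A := MvPolynomial.aeval a
  have ha : (fun v => ψ₀ (MvPolynomial.X v)) = a := by
    funext v
    exact MvPolynomial.aeval_X a v
  have hker : ∀ p ∈ Ideal.span (relSet bC E), ψ₀ p = 0 := by
    intro p hp
    have hle : Ideal.span (relSet bC E) ≤ RingHom.ker (ψ₀ : MvPolynomial V R →+* A) := by
      rw [Ideal.span_le]
      rintro _ ⟨⟨j, k⟩, rfl⟩
      rw [SetLike.mem_coe, RingHom.mem_ker]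
      change ψ₀ (coord bC _ k (E _ MvPolynomial.X j)) = 0
      rw [← coord_rTensor, hE, ha, h j, coord_zero]
    exact hle hp
  refine ⟨Ideal.Quotient.liftₐ _ ψ₀ hker, fun v => ?_⟩
  change ψ₀ (MvPolynomial.X v) = a v
  exact MvPolynomial.aeval_X a v

theorem hom_ext {A : Type u} [CommRing A] [Algebra R A] (ψ ψ' : A0 bC E →ₐ[R] A)
    (h : ∀ v, ψ (pt bC E v) = ψ' (pt bC E v)) : ψ = ψ' := by
  have hcomp : ψ.comp (proj bC E) = ψ'.comp (proj bC E) := by
    apply MvPolynomial.algHom_ext
    intro v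
    exact h v
  apply AlgHom.ext
  intro x
  obtain ⟨p, rfl⟩ := proj_surjective bC E x
  exact AlgHom.congr_fun hcomp p

theorem spec_of_hom (hE : IsNat E) {A : Type u} [CommRing A] [Algebra R A]
    (ψ : A0 bC E →ₐ[R] A) (j : J) : E A (fun v => ψ (pt bC E v)) j = 0 := by
  rw [← hE _ _ ψ (pt bC E) j, pt_spec bC E hE j, map_zero]

theorem finitePresentation [Finite V] [Finite J] : Algebra.FinitePresentation R (A0 bC E) :=
  Algebra.FinitePresentation.quotient (Submodule.fg_span (Set.finite_range _))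

end NatFam

section Rep

variable {R : Type u} [CommRing R] {M : Type u} [AddCommGroup M] [Module R M] [Module.Free R M]
  (Q : QuadraticForm R M)

open Groth.Agent.H9.QG

/-- transport of `A ⊗ C(Q)` along an algebra map -/
noncomputable def Tm {A B : Type u} [CommRing A] [Algebra R A] [CommRing B] [Algebra R B]
    (ψ : A →ₐ[R] B) : A ⊗[R] CliffordAlgebra Q →ₐ[R] B ⊗[R] CliffordAlgebra Q :=
  Algebra.TensorProduct.map ψ (AlgHom.id R (CliffordAlgebra Q))

@[simp] theorem Tm_tmul {A B : Type u} [CommRing A] [Algebra R A] [CommRing B] [Algebra R B]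
    (ψ : A →ₐ[R] B) (a : A) (c : CliffordAlgebra Q) : Tm Q ψ (a ⊗ₜ[R] c) = ψ a ⊗ₜ[R] c := by
  simp [Tm]

theorem Tm_eq_rTensor {A B : Type u} [CommRing A] [Algebra R A] [CommRing B] [Algebra R B]
    (ψ : A →ₐ[R] B) (z : A ⊗[R] CliffordAlgebra Q) :
    Tm Q ψ z = LinearMap.rTensor (CliffordAlgebra Q) ψ.toLinearMap z := by
  induction z using TensorProduct.induction_on with
  | zero => rw [map_zero, map_zero]
  | tmul a c => rw [Tm_tmul, LinearMap.rTensor_tmul, AlgHom.toLinearMap_apply]
  | add x y hx hy => rw [map_add, map_add, hx, hy]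

/-- the canonical map `C(Q_A) → C(Q_B)` attached to an algebra map -/
noncomputable def cmap {A B : Type u} [CommRing A] [Algebra R A] [CommRing B] [Algebra R B]
    (ψ : A →ₐ[R] B) : CliffordAlgebra (QuadGrp.baseChangeForm A Q) →+*
      CliffordAlgebra (QuadGrp.baseChangeForm B Q) :=
  ((bcEquiv B Q).symm : B ⊗[R] CliffordAlgebra Q →+* CliffordAlgebra (QuadGrp.baseChangeForm B Q)).comp
    ((Tm Q ψ : A ⊗[R] CliffordAlgebra Q →+* B ⊗[R] CliffordAlgebra Q).comp
      (bcEquiv A Q : CliffordAlgebra (QuadGrp.baseChangeForm A Q) →+* A ⊗[R] CliffordAlgebra Q))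

theorem cmap_apply {A B : Type u} [CommRing A] [Algebra R A] [CommRing B] [Algebra R B]
    (ψ : A →ₐ[R] B) (z : CliffordAlgebra (QuadGrp.baseChangeForm A Q)) :
    cmap Q ψ z = (bcEquiv B Q).symm (Tm Q ψ (bcEquiv A Q z)) := rfl

theorem bcEquiv_cmap {A B : Type u} [CommRing A] [Algebra R A] [CommRing B] [Algebra R B]
    (ψ : A →ₐ[R] B) (z : CliffordAlgebra (QuadGrp.baseChangeForm A Q)) :
    bcEquiv B Q (cmap Q ψ z) = Tm Q ψ (bcEquiv A Q z) := by
  rw [cmap_apply, AlgEquiv.apply_symm_apply]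

theorem cmap_ι {A B : Type u} [CommRing A] [Algebra R A] [CommRing B] [Algebra R B]
    (ψ : A →ₐ[R] B) (v : A ⊗[R] M) :
    cmap Q ψ (CliffordAlgebra.ι (QuadGrp.baseChangeForm A Q) v) =
      CliffordAlgebra.ι (QuadGrp.baseChangeForm B Q) (LinearMap.rTensor M ψ.toLinearMap v) := by
  induction v using TensorProduct.induction_on with
  | zero => rw [map_zero, map_zero, map_zero, map_zero]
  | tmul a m =>
    rw [cmap_apply, bcEquiv_apply, toTensor_ι, Tm_tmul, bcEquiv_symm_apply, ofTensor_tmul_ι,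
      LinearMap.rTensor_tmul, AlgHom.toLinearMap_apply]
  | add x y hx hy => rw [map_add, map_add, hx, hy, map_add, map_add]

theorem cmap_algebraMap {A B : Type u} [CommRing A] [Algebra R A] [CommRing B] [Algebra R B]
    (ψ : A →ₐ[R] B) (a : A) :
    cmap Q ψ (algebraMap A (CliffordAlgebra (QuadGrp.baseChangeForm A Q)) a) =
      algebraMap B (CliffordAlgebra (QuadGrp.baseChangeForm B Q)) (ψ a) := by
  rw [cmap_apply, AlgEquiv.commutes, Algebra.TensorProduct.algebraMap_apply,
    Algebra.algebraMap_self_apply, Tm_tmul]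
  have : (ψ a ⊗ₜ[R] (1 : CliffordAlgebra Q)) = algebraMap B (B ⊗[R] CliffordAlgebra Q) (ψ a) := by
    rw [Algebra.TensorProduct.algebraMap_apply, Algebra.algebraMap_self_apply]
  rw [this, AlgEquiv.commutes]

variable {Q}
variable {T : ∀ (A : Type u) [CommRing A] [Algebra R A],
    Subgroup (CliffordAlgebra (QuadGrp.baseChangeForm A Q))ˣ}
  {G : Over (Spec (CommRingCat.of R))} [GrpObj G]

/-- The representability hypothesis: `u₀ ∈ T A₀` is a universal element. -/
def IsUniversalC (T : ∀ (A : Type u) [CommRing A] [Algebra R A],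
    Subgroup (CliffordAlgebra (QuadGrp.baseChangeForm A Q))ˣ)
    (A₀ : Type u) [CommRing A₀] [Algebra R A₀] (u₀ : ↥(T A₀)) : Prop :=
  ∀ (A : Type u) [CommRing A] [Algebra R A] (u : ↥(T A)),
    ∃! ψ : A₀ →ₐ[R] A,
      (((u : ↥(T A)) : (CliffordAlgebra (QuadGrp.baseChangeForm A Q))ˣ) :
        CliffordAlgebra (QuadGrp.baseChangeForm A Q)) =
      cmap Q ψ (((u₀ : ↥(T A₀)) : (CliffordAlgebra (QuadGrp.baseChangeForm A₀ Q))ˣ) :
        CliffordAlgebra (QuadGrp.baseChangeForm A₀ Q))

theorem natural' (D : QuadGrp.CliffRep Q T G) {A B : Type u} [CommRing A] [Algebra R A]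
    [CommRing B] [Algebra R B] (ψ : A →ₐ[R] B) (y : QuadGrp.specOver R A ⟶ G) :
    (((D.pts B (QuadGrp.specOverMap R ψ ≫ y) : ↥(T B)) :
      (CliffordAlgebra (QuadGrp.baseChangeForm B Q))ˣ) :
        CliffordAlgebra (QuadGrp.baseChangeForm B Q)) =
      cmap Q ψ (((D.pts A y : ↥(T A)) : (CliffordAlgebra (QuadGrp.baseChangeForm A Q))ˣ) :
        CliffordAlgebra (QuadGrp.baseChangeForm A Q)) :=
  D.natural A B ψ (cmap Q ψ) (cmap_ι Q ψ) (cmap_algebraMap Q ψ) y

theorem bijective_pointsC (D : QuadGrp.CliffRep Q T G)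
    (A₀ : Type u) [CommRing A₀] [Algebra R A₀] (u₀ : ↥(T A₀)) (hrep : IsUniversalC T A₀ u₀)
    (C : Type u) [CommRing C] [Algebra R C] :
    Function.Bijective
      (fun s : QuadGrp.specOver R C ⟶ QuadGrp.specOver R A₀ => s ≫ (D.pts A₀).symm u₀) := by
  constructor
  · intro s s' hss
    obtain ⟨ψ, rfl⟩ := SG.exists_algHom_of_hom s
    obtain ⟨ψ', rfl⟩ := SG.exists_algHom_of_hom s'
    dsimp only at hss
    obtain ⟨ψ₁, -, huniq⟩ := hrep C (D.pts C (QuadGrp.specOverMap R ψ ≫ (D.pts A₀).symm u₀))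
    have e1 : ψ = ψ₁ := huniq ψ (by rw [natural' D, MulEquiv.apply_symm_apply])
    have e2 : ψ' = ψ₁ := huniq ψ' (by rw [hss, natural' D, MulEquiv.apply_symm_apply])
    rw [e1, e2]
  · intro y
    obtain ⟨ψ, hψ, -⟩ := hrep C (D.pts C y)
    refine ⟨QuadGrp.specOverMap R ψ, ?_⟩
    apply (D.pts C).injective
    apply Subtype.ext
    apply Units.ext
    rw [natural' D, MulEquiv.apply_symm_apply, hψ]

/-- the universal point is an isomorphism `Spec A₀ ≅ G` -/
theorem isIso_universal_pointC (D : QuadGrp.CliffRep Q T G)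
    (A₀ : Type u) [CommRing A₀] [Algebra R A₀] (u₀ : ↥(T A₀)) (hrep : IsUniversalC T A₀ u₀) :
    IsIso ((D.pts A₀).symm u₀).left :=
  SG.isIso_left_of_bijective_points _ (fun C _ _ => bijective_pointsC D A₀ u₀ hrep C)

theorem universal_point_wC (D : QuadGrp.CliffRep Q T G)
    (A₀ : Type u) [CommRing A₀] [Algebra R A₀] (u₀ : ↥(T A₀)) :
    ((D.pts A₀).symm u₀).left ≫ G.hom = Spec.map (CommRingCat.ofHom (algebraMap R A₀)) :=
  Over.w ((D.pts A₀).symm u₀)

theorem smooth_iff_of_universalC (D : QuadGrp.CliffRep Q T G)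
    (A₀ : Type u) [CommRing A₀] [Algebra R A₀] (u₀ : ↥(T A₀)) (hrep : IsUniversalC T A₀ u₀) :
    AlgebraicGeometry.Smooth G.hom ↔ Algebra.Smooth R A₀ := by
  haveI := isIso_universal_pointC D A₀ u₀ hrep
  have h1 : AlgebraicGeometry.Smooth G.hom ↔
      AlgebraicGeometry.Smooth (Spec.map (CommRingCat.ofHom (algebraMap R A₀))) := by
    rw [← universal_point_wC D A₀ u₀]
    exact (MorphismProperty.cancel_left_of_respectsIso @AlgebraicGeometry.Smooth
      ((D.pts A₀).symm u₀).left G.hom).symm
  rw [h1, HasRingHomProperty.Spec_iff (P := @AlgebraicGeometry.Smooth)]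
  exact RingHom.smooth_algebraMap

theorem isAffineHom_of_universalC (D : QuadGrp.CliffRep Q T G)
    (A₀ : Type u) [CommRing A₀] [Algebra R A₀] (u₀ : ↥(T A₀)) (hrep : IsUniversalC T A₀ u₀) :
    IsAffineHom G.hom := by
  haveI := isIso_universal_pointC D A₀ u₀ hrep
  have h1 : IsAffineHom G.hom ↔
      IsAffineHom (Spec.map (CommRingCat.ofHom (algebraMap R A₀))) := by
    rw [← universal_point_wC D A₀ u₀]
    exact (MorphismProperty.cancel_left_of_respectsIso @IsAffineHom
      ((D.pts A₀).symm u₀).left G.hom).symm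
  rw [h1]
  infer_instance

end Rep

end Groth.Agent.H9.CR
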