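import Mathlib
import Groth.Prelude.Def_QuadGrp2
import Groth.Agent.Lib.Helper9.Misc.CR1
import Groth.Agent.Lib.Helper9.Misc.QG8

/-! The coordinate ring of the naive Clifford group `GPin′(q)` of a quadratic form on a finite free
module (helper9): inside `A ⊗ C(q)` the functor is `{(x, y) | x y = 1 = y x, x M y ⊆ M, y M x ⊆ M}`,
cut out by the vanishing of finitely many natural elements. -/

set_option autoImplicit false

open TensorProduct CliffordAlgebra Groth.Agent.H9.QG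

namespace Groth.Agent.H9.CR

universe u

section Retract

variable {R : Type u} [CommRing R] {M : Type u} [AddCommGroup M] [Module R M] [Module.Free R M]
  (Q : QuadraticForm R M)

/-- a retraction of `ι` -/
noncomputable def rho : CliffordAlgebra Q →ₗ[R] M :=
  ExteriorAlgebra.ιInv ∘ₗ (changeForm (neg_proof (QuadGrp.bilinLift_spec Q)))

theorem rho_ι (x : M) : rho Q (ι Q x) = x := by
  change ExteriorAlgebra.ιInv (changeForm _ (ι Q x)) = x
  rw [changeForm_ι]
  exact ExteriorAlgebra.ι_leftInverse x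

/-- a retraction of the structure map -/
noncomputable def eps : CliffordAlgebra Q →ₗ[R] R :=
  ExteriorAlgebra.algebraMapInv.toLinearMap ∘ₗ (changeForm (neg_proof (QuadGrp.bilinLift_spec Q)))

theorem eps_one : eps Q 1 = 1 := by
  change ExteriorAlgebra.algebraMapInv (changeForm _ (1 : CliffordAlgebra Q)) = 1
  rw [changeForm_one, map_one]

/-- the projection killing the vectors -/
noncomputable def pp : CliffordAlgebra Q →ₗ[R] CliffordAlgebra Q :=
  LinearMap.id - (ι Q) ∘ₗ (rho Q)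

theorem pp_apply (c : CliffordAlgebra Q) : pp Q c = c - ι Q (rho Q c) := rfl

theorem pp_ι (x : M) : pp Q (ι Q x) = 0 := by rw [pp_apply, rho_ι, sub_self]

variable (A : Type u) [CommRing A] [Algebra R A]

/-- base change of `ι` -/
noncomputable abbrev ιA : A ⊗[R] M →ₗ[A] A ⊗[R] CliffordAlgebra Q := (ι Q).baseChange A

/-- base change of the retraction -/
noncomputable abbrev rhoA : A ⊗[R] CliffordAlgebra Q →ₗ[A] A ⊗[R] M := (rho Q).baseChange A

/-- base change of the projection -/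
noncomputable abbrev ppA : A ⊗[R] CliffordAlgebra Q →ₗ[A] A ⊗[R] CliffordAlgebra Q :=
  (pp Q).baseChange A

theorem ppA_ιA (v : A ⊗[R] M) : ppA Q A (ιA Q A v) = 0 := by
  induction v using TensorProduct.induction_on with
  | zero => rw [map_zero, map_zero]
  | tmul a m => rw [LinearMap.baseChange_tmul, LinearMap.baseChange_tmul, pp_ι, tmul_zero]
  | add x y hx hy => rw [map_add, map_add, hx, hy, add_zero]

theorem eq_ppA_add (z : A ⊗[R] CliffordAlgebra Q) :
    z = ppA Q A z + ιA Q A (rhoA Q A z) := by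
  induction z using TensorProduct.induction_on with
  | zero => rw [map_zero, map_zero, map_zero, add_zero]
  | tmul a c =>
    rw [LinearMap.baseChange_tmul, LinearMap.baseChange_tmul, LinearMap.baseChange_tmul,
      ← tmul_add, pp_apply, sub_add_cancel]
  | add x y hx hy =>
    simp only [map_add]
    calc x + y = (ppA Q A x + ιA Q A (rhoA Q A x)) + (ppA Q A y + ιA Q A (rhoA Q A y)) := by
          rw [← hx, ← hy]
      _ = _ := by abel

theorem eq_ιA_of_ppA {z : A ⊗[R] CliffordAlgebra Q} (h : ppA Q A z = 0) :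
    z = ιA Q A (rhoA Q A z) := by
  have := eq_ppA_add Q A z
  rw [h, zero_add] at this
  exact this

theorem Tm_ppA {A B : Type u} [CommRing A] [Algebra R A] [CommRing B] [Algebra R B]
    (ψ : A →ₐ[R] B) (z : A ⊗[R] CliffordAlgebra Q) :
    Tm Q ψ (ppA Q A z) = ppA Q B (Tm Q ψ z) := by
  induction z using TensorProduct.induction_on with
  | zero => rw [map_zero, map_zero, map_zero]
  | tmul a c => rw [LinearMap.baseChange_tmul, Tm_tmul, Tm_tmul, LinearMap.baseChange_tmul]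
  | add x y hx hy => rw [map_add, map_add, hx, hy, map_add, map_add]

theorem bcEquiv_ι (v : A ⊗[R] M) :
    bcEquiv A Q (ι (QuadGrp.baseChangeForm A Q) v) = ιA Q A v := by
  rw [bcEquiv_apply]
  exact CliffordAlgebra.lift_ι_apply _ _ _

theorem bcEquiv_symm_ιA (v : A ⊗[R] M) :
    (bcEquiv A Q).symm (ιA Q A v) = ι (QuadGrp.baseChangeForm A Q) v := by
  rw [← bcEquiv_ι, AlgEquiv.symm_apply_apply]

variable {n : ℕ} (b : Module.Basis (Fin n) R M)

/-- the pair `(x, y)` of elements of `A ⊗ C(q)` is a point of the naive Clifford group and its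
inverse -/
def IsGP (x y : A ⊗[R] CliffordAlgebra Q) : Prop :=
  x * y = 1 ∧ y * x = 1 ∧ (∀ j, ppA Q A (x * ((1 : A) ⊗ₜ[R] ι Q (b j)) * y) = 0) ∧
    (∀ j, ppA Q A (y * ((1 : A) ⊗ₜ[R] ι Q (b j)) * x) = 0)

theorem ppA_conj_eq_zero {x y : A ⊗[R] CliffordAlgebra Q}
    (h : ∀ j, ppA Q A (x * ((1 : A) ⊗ₜ[R] ι Q (b j)) * y) = 0) (v : A ⊗[R] M) :
    ppA Q A (x * ιA Q A v * y) = 0 := by
  let L : A ⊗[R] M →ₗ[A] A ⊗[R] CliffordAlgebra Q :=
    (ppA Q A) ∘ₗ (LinearMap.mulRight A y) ∘ₗ (LinearMap.mulLeft A x) ∘ₗ (ιA Q A)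
  have hL : L = 0 := by
    apply (b.baseChange A).ext
    intro j
    rw [Module.Basis.baseChange_apply]
    change ppA Q A (x * ιA Q A ((1 : A) ⊗ₜ[R] b j) * y) = 0
    rw [LinearMap.baseChange_tmul]
    exact h j
  exact LinearMap.congr_fun hL v

theorem isGP_of_mem_GPin' {w : (CliffordAlgebra (QuadGrp.baseChangeForm A Q))ˣ}
    (hw : w ∈ QuadGrp.GPin' (QuadGrp.baseChangeForm A Q)) :
    IsGP Q A b (bcEquiv A Q (w : CliffordAlgebra (QuadGrp.baseChangeForm A Q)))
      (bcEquiv A Q (↑w⁻¹ : CliffordAlgebra (QuadGrp.baseChangeForm A Q))) := by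
  refine ⟨?_, ?_, fun j => ?_, fun j => ?_⟩
  · rw [← map_mul, Units.mul_inv, map_one]
  · rw [← map_mul, Units.inv_mul, map_one]
  · obtain ⟨m', hm'⟩ := conj_mem_range_of_mem_GPin' hw ((1 : A) ⊗ₜ[R] b j)
    have := congrArg (bcEquiv A Q) hm'
    rw [map_mul, map_mul, bcEquiv_ι, bcEquiv_ι, LinearMap.baseChange_tmul] at this
    rw [this, ppA_ιA]
  · have hw' := (QuadGrp.GPin' (QuadGrp.baseChangeForm A Q)).inv_mem hw
    obtain ⟨m', hm'⟩ := conj_mem_range_of_mem_GPin' hw' ((1 : A) ⊗ₜ[R] b j)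
    rw [inv_inv] at hm'
    have := congrArg (bcEquiv A Q) hm'
    rw [map_mul, map_mul, bcEquiv_ι, bcEquiv_ι, LinearMap.baseChange_tmul] at this
    rw [this, ppA_ιA]

theorem mem_GPin'_of_isGP (w : (CliffordAlgebra (QuadGrp.baseChangeForm A Q))ˣ)
    (h : IsGP Q A b (bcEquiv A Q (w : CliffordAlgebra (QuadGrp.baseChangeForm A Q)))
      (bcEquiv A Q (↑w⁻¹ : CliffordAlgebra (QuadGrp.baseChangeForm A Q)))) :
    w ∈ QuadGrp.GPin' (QuadGrp.baseChangeForm A Q) := by
  obtain ⟨-, -, h3, h4⟩ := h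
  refine mem_GPin'_of_conj w (fun v => ?_) (fun v => ?_)
  · have h1 := eq_ιA_of_ppA Q A (ppA_conj_eq_zero Q A b h3 v)
    refine ⟨rhoA Q A (bcEquiv A Q (w : CliffordAlgebra (QuadGrp.baseChangeForm A Q)) * ιA Q A v *
      bcEquiv A Q (↑w⁻¹ : CliffordAlgebra (QuadGrp.baseChangeForm A Q))), ?_⟩
    apply (bcEquiv A Q).injective
    rw [map_mul, map_mul, bcEquiv_ι, bcEquiv_ι]
    exact h1
  · have h1 := eq_ιA_of_ppA Q A (ppA_conj_eq_zero Q A b h4 v)
    refine ⟨rhoA Q A (bcEquiv A Q (↑w⁻¹ : CliffordAlgebra (QuadGrp.baseChangeForm A Q)) * ιA Q A v *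
      bcEquiv A Q (w : CliffordAlgebra (QuadGrp.baseChangeForm A Q))), ?_⟩
    apply (bcEquiv A Q).injective
    rw [map_mul, map_mul, bcEquiv_ι, bcEquiv_ι]
    exact h1

/-- the unit of `C(Q_A)` attached to a pair of mutually inverse elements of `A ⊗ C(Q)` -/
noncomputable def unitOf (x y : A ⊗[R] CliffordAlgebra Q) (h1 : x * y = 1) (h2 : y * x = 1) :
    (CliffordAlgebra (QuadGrp.baseChangeForm A Q))ˣ :=
  ⟨(bcEquiv A Q).symm x, (bcEquiv A Q).symm y, by rw [← map_mul, h1, map_one],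
    by rw [← map_mul, h2, map_one]⟩

theorem bcEquiv_unitOf (x y : A ⊗[R] CliffordAlgebra Q) (h1 : x * y = 1) (h2 : y * x = 1) :
    bcEquiv A Q (unitOf Q A x y h1 h2 : CliffordAlgebra (QuadGrp.baseChangeForm A Q)) = x :=
  AlgEquiv.apply_symm_apply _ _

theorem bcEquiv_unitOf_inv (x y : A ⊗[R] CliffordAlgebra Q) (h1 : x * y = 1) (h2 : y * x = 1) :
    bcEquiv A Q (↑(unitOf Q A x y h1 h2)⁻¹ : CliffordAlgebra (QuadGrp.baseChangeForm A Q)) = y :=
  AlgEquiv.apply_symm_apply _ _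

theorem unitOf_mem {x y : A ⊗[R] CliffordAlgebra Q} (h : IsGP Q A b x y) :
    unitOf Q A x y h.1 h.2.1 ∈ QuadGrp.GPin' (QuadGrp.baseChangeForm A Q) := by
  apply mem_GPin'_of_isGP Q A b
  rw [bcEquiv_unitOf, bcEquiv_unitOf_inv]
  exact h

end Retract

section Family

variable {R : Type u} [CommRing R] {M : Type u} [AddCommGroup M] [Module R M] [Module.Free R M]
  (Q : QuadraticForm R M) {n : ℕ} (b : Module.Basis (Fin n) R M)
  {K : Type} [Fintype K] [DecidableEq K] (bC : Module.Basis K R (CliffordAlgebra Q))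

theorem Tm_vec {A B : Type u} [CommRing A] [Algebra R A] [CommRing B] [Algebra R B]
    (ψ : A →ₐ[R] B) (a : K → A) : Tm Q ψ (vec bC A a) = vec bC B (fun k => ψ (a k)) := by
  rw [Tm_eq_rTensor, rTensor_vec]

/-- the natural family of elements cutting out `GPin′` -/
noncomputable def EGP (A : Type u) [CommRing A] [Algebra R A] (a : K ⊕ K → A) :
    Bool ⊕ (Bool × Fin n) → A ⊗[R] CliffordAlgebra Q
  | Sum.inl false => vec bC A (fun k => a (Sum.inl k)) * vec bC A (fun k => a (Sum.inr k)) - 1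
  | Sum.inl true => vec bC A (fun k => a (Sum.inr k)) * vec bC A (fun k => a (Sum.inl k)) - 1
  | Sum.inr (false, j) => ppA Q A (vec bC A (fun k => a (Sum.inl k)) *
      ((1 : A) ⊗ₜ[R] ι Q (b j)) * vec bC A (fun k => a (Sum.inr k)))
  | Sum.inr (true, j) => ppA Q A (vec bC A (fun k => a (Sum.inr k)) *
      ((1 : A) ⊗ₜ[R] ι Q (b j)) * vec bC A (fun k => a (Sum.inl k)))

theorem EGP_iff (A : Type u) [CommRing A] [Algebra R A] (a : K ⊕ K → A) :
    (∀ j, EGP Q b bC A a j = 0) ↔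
      IsGP Q A b (vec bC A (fun k => a (Sum.inl k))) (vec bC A (fun k => a (Sum.inr k))) := by
  constructor
  · intro h
    exact ⟨sub_eq_zero.mp (h (Sum.inl false)), sub_eq_zero.mp (h (Sum.inl true)),
      fun j => h (Sum.inr (false, j)), fun j => h (Sum.inr (true, j))⟩
  · rintro ⟨h1, h2, h3, h4⟩ ((_ | _) | ⟨(_ | _), j⟩)
    · exact sub_eq_zero.mpr h1
    · exact sub_eq_zero.mpr h2
    · exact h3 j
    · exact h4 j

theorem isNat_EGP : IsNat (EGP Q b bC) := by
  intro A B _ _ _ _ ψ a j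
  rw [← Tm_eq_rTensor]
  rcases j with (_ | _) | ⟨(_ | _), j⟩
  · change Tm Q ψ (vec bC A _ * vec bC A _ - 1) = vec bC B _ * vec bC B _ - 1
    rw [map_sub, map_mul, map_one, Tm_vec, Tm_vec]
  · change Tm Q ψ (vec bC A _ * vec bC A _ - 1) = vec bC B _ * vec bC B _ - 1
    rw [map_sub, map_mul, map_one, Tm_vec, Tm_vec]
  · change Tm Q ψ (ppA Q A (vec bC A _ * _ * vec bC A _)) = ppA Q B (vec bC B _ * _ * vec bC B _)
    rw [Tm_ppA, map_mul (Tm Q ψ), map_mul (Tm Q ψ), Tm_tmul, map_one, Tm_vec, Tm_vec]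
  · change Tm Q ψ (ppA Q A (vec bC A _ * _ * vec bC A _)) = ppA Q B (vec bC B _ * _ * vec bC B _)
    rw [Tm_ppA, map_mul (Tm Q ψ), map_mul (Tm Q ψ), Tm_tmul, map_one, Tm_vec, Tm_vec]

/-- the coordinate ring of `GPin′(q)` -/
abbrev AGP : Type u := A0 bC (EGP Q b bC)

/-- the universal element -/
noncomputable def x0 : AGP Q b bC ⊗[R] CliffordAlgebra Q :=
  vec bC (AGP Q b bC) (fun k => pt bC (EGP Q b bC) (Sum.inl k))

/-- the inverse of the universal element -/
noncomputable def y0 : AGP Q b bC ⊗[R] CliffordAlgebra Q :=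
  vec bC (AGP Q b bC) (fun k => pt bC (EGP Q b bC) (Sum.inr k))

theorem isGP_x0 : IsGP Q (AGP Q b bC) b (x0 Q b bC) (y0 Q b bC) :=
  (EGP_iff Q b bC _ _).mp (pt_spec bC _ (isNat_EGP Q b bC))

/-- the universal point of `GPin′` -/
noncomputable def u0 : (CliffordAlgebra (QuadGrp.baseChangeForm (AGP Q b bC) Q))ˣ :=
  unitOf Q _ (x0 Q b bC) (y0 Q b bC) (isGP_x0 Q b bC).1 (isGP_x0 Q b bC).2.1

theorem u0_mem : u0 Q b bC ∈ QuadGrp.GPin' (QuadGrp.baseChangeForm (AGP Q b bC) Q) :=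
  unitOf_mem Q _ b (isGP_x0 Q b bC)

theorem finitePresentation_AGP : Algebra.FinitePresentation R (AGP Q b bC) :=
  finitePresentation bC _

theorem isUniversal_GPin'
    (T : ∀ (A : Type u) [CommRing A] [Algebra R A],
      Subgroup (CliffordAlgebra (QuadGrp.baseChangeForm A Q))ˣ)
    (hT : ∀ (A : Type u) [CommRing A] [Algebra R A]
      (w : (CliffordAlgebra (QuadGrp.baseChangeForm A Q))ˣ),
      w ∈ T A ↔ w ∈ QuadGrp.GPin' (QuadGrp.baseChangeForm A Q)) :
    IsUniversalC T (AGP Q b bC) ⟨u0 Q b bC, (hT _ _).mpr (u0_mem Q b bC)⟩ := by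
  intro A _ _ u
  have hu : (u : (CliffordAlgebra (QuadGrp.baseChangeForm A Q))ˣ) ∈
      QuadGrp.GPin' (QuadGrp.baseChangeForm A Q) := (hT A _).mp u.2
  have hgp := isGP_of_mem_GPin' Q A b hu
  set x := bcEquiv A Q ((u : (CliffordAlgebra (QuadGrp.baseChangeForm A Q))ˣ) :
    CliffordAlgebra (QuadGrp.baseChangeForm A Q)) with hx
  set y := bcEquiv A Q (↑(u : (CliffordAlgebra (QuadGrp.baseChangeForm A Q))ˣ)⁻¹ :
    CliffordAlgebra (QuadGrp.baseChangeForm A Q)) with hy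
  let a : K ⊕ K → A := Sum.elim (fun k => coord bC A k x) (fun k => coord bC A k y)
  have hax : vec bC A (fun k => a (Sum.inl k)) = x := vec_coord bC A x
  have hay : vec bC A (fun k => a (Sum.inr k)) = y := vec_coord bC A y
  obtain ⟨ψ, hψ⟩ := exists_hom bC (EGP Q b bC) (isNat_EGP Q b bC) a
    ((EGP_iff Q b bC A a).mpr (by rw [hax, hay]; exact hgp))
  have key : ∀ ψ' : AGP Q b bC →ₐ[R] A,
      (((u : (CliffordAlgebra (QuadGrp.baseChangeForm A Q))ˣ) :
        CliffordAlgebra (QuadGrp.baseChangeForm A Q)) =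
        cmap Q ψ' ((u0 Q b bC : (CliffordAlgebra (QuadGrp.baseChangeForm (AGP Q b bC) Q))ˣ) :
          CliffordAlgebra (QuadGrp.baseChangeForm (AGP Q b bC) Q))) ↔
      ∀ v, ψ' (pt bC (EGP Q b bC) v) = a v := by
    intro ψ'
    have hTx : Tm Q ψ' (x0 Q b bC) = vec bC A (fun k => ψ' (pt bC (EGP Q b bC) (Sum.inl k))) :=
      Tm_vec Q bC ψ' _
    have hTy : Tm Q ψ' (y0 Q b bC) = vec bC A (fun k => ψ' (pt bC (EGP Q b bC) (Sum.inr k))) :=
      Tm_vec Q bC ψ' _
    have hb0 : bcEquiv A Q (cmap Q ψ' ((u0 Q b bC :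
        (CliffordAlgebra (QuadGrp.baseChangeForm (AGP Q b bC) Q))ˣ) :
          CliffordAlgebra (QuadGrp.baseChangeForm (AGP Q b bC) Q))) = Tm Q ψ' (x0 Q b bC) := by
      rw [bcEquiv_cmap]
      congr 1
      exact bcEquiv_unitOf Q _ _ _ _ _
    constructor
    · intro h
      have h1 : x = Tm Q ψ' (x0 Q b bC) := by rw [hx, h, hb0]
      have h2 : y = Tm Q ψ' (y0 Q b bC) := by
        refine left_inv_eq_right_inv hgp.2.1 ?_
        rw [h1, ← map_mul, (isGP_x0 Q b bC).1, map_one]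
      rintro (k | k)
      · change ψ' _ = coord bC A k x
        rw [h1, hTx, coord_vec]
      · change ψ' _ = coord bC A k y
        rw [h2, hTy, coord_vec]
    · intro h
      apply (bcEquiv A Q).injective
      rw [hb0, hTx, ← hx, ← hax]
      congr 1
      funext k
      exact (h (Sum.inl k)).symm
  refine ⟨ψ, (key ψ).mpr hψ, fun ψ' h' => hom_ext bC _ ψ' ψ fun v => ?_⟩
  rw [(key ψ').mp h' v, hψ v]

theorem formallySmooth_AGP
    (hlift : ∀ (B : Type u) [CommRing B] [Algebra R B] (I : Ideal B), I ^ 2 = ⊥ →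
      ∀ xb yb : (B ⧸ I) ⊗[R] CliffordAlgebra Q, IsGP Q (B ⧸ I) b xb yb →
        ∃ x y : B ⊗[R] CliffordAlgebra Q, IsGP Q B b x y ∧
          Tm Q (Ideal.Quotient.mkₐ R I) x = xb) :
    Algebra.FormallySmooth R (AGP Q b bC) := by
  refine Algebra.FormallySmooth.of_comp_surjective fun B _ _ I hI fb => ?_
  have hgp := (EGP_iff Q b bC _ _).mp (spec_of_hom bC _ (isNat_EGP Q b bC) fb)
  obtain ⟨x, y, hxy, hx⟩ := hlift B I hI _ _ hgp
  have hy : Tm Q (Ideal.Quotient.mkₐ R I) y =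
      vec bC (B ⧸ I) (fun k => fb (pt bC (EGP Q b bC) (Sum.inr k))) := by
    refine left_inv_eq_right_inv ?_ hgp.1
    rw [← hx, ← map_mul, hxy.2.1, map_one]
  let a : K ⊕ K → B := Sum.elim (fun k => coord bC B k x) (fun k => coord bC B k y)
  have hax : vec bC B (fun k => a (Sum.inl k)) = x := vec_coord bC B x
  have hay : vec bC B (fun k => a (Sum.inr k)) = y := vec_coord bC B y
  obtain ⟨ψ, hψ⟩ := exists_hom bC (EGP Q b bC) (isNat_EGP Q b bC) a
    ((EGP_iff Q b bC B a).mpr (by rw [hax, hay]; exact hxy))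
  refine ⟨ψ, ?_⟩
  apply hom_ext bC
  intro v
  change Ideal.Quotient.mkₐ R I (ψ (pt bC (EGP Q b bC) v)) = fb (pt bC (EGP Q b bC) v)
  rw [hψ]
  rcases v with k | k
  · change Ideal.Quotient.mkₐ R I (coord bC B k x) = _
    rw [← coord_rTensor, ← Tm_eq_rTensor, hx, coord_vec]
  · change Ideal.Quotient.mkₐ R I (coord bC B k y) = _
    rw [← coord_rTensor, ← Tm_eq_rTensor, hy, coord_vec]

end Family

end Groth.Agent.H9.CR
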