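import Mathlib
import Groth.Prelude.Def_QuadGrp2
import Groth.Agent.Lib.Helper9.Misc.SG1

/-! The coordinate ring of the orthogonal group of a quadratic form on `R^n`, by matrices
(helper9). -/

set_option autoImplicit false

open TensorProduct MvPolynomial Matrix

namespace Groth.Agent.H9.SG

universe u

section Mat

variable {n : ℕ}

/-- alternating matrix: zero diagonal and antisymmetric -/
def IsAltMat {A : Type*} [CommRing A] (E : Matrix (Fin n) (Fin n) A) : Prop :=
  (∀ j, E j j = 0) ∧ ∀ j k, E j k + E k j = 0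

/-- the defect of `U` from being an isometry of the bilinear form with Gram matrix `c` -/
def defect {A : Type*} [CommRing A] (c U : Matrix (Fin n) (Fin n) A) :
    Matrix (Fin n) (Fin n) A :=
  Uᵀ * c * U - c

theorem ringHom_transpose {A B : Type*} [CommRing A] [CommRing B] (φ : A →+* B)
    (U : Matrix (Fin n) (Fin n) A) : φ.mapMatrix Uᵀ = (φ.mapMatrix U)ᵀ := rfl

theorem ringHom_defect {A B : Type*} [CommRing A] [CommRing B] (φ : A →+* B)
    (c U : Matrix (Fin n) (Fin n) A) :
    φ.mapMatrix (defect c U) = defect (φ.mapMatrix c) (φ.mapMatrix U) := by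
  simp only [defect, map_sub, map_mul, ringHom_transpose]

theorem IsAltMat.ringHom {A B : Type*} [CommRing A] [CommRing B] (φ : A →+* B)
    {E : Matrix (Fin n) (Fin n) A} (h : IsAltMat E) : IsAltMat (φ.mapMatrix E) :=
  ⟨fun j => by
    show φ (E j j) = 0
    rw [h.1, map_zero], fun j k => by
    show φ (E j k) + φ (E k j) = 0
    rw [← map_add, h.2, map_zero]⟩

/-- the Gram matrix over an algebra -/
noncomputable def gr {R : Type*} [CommRing R] (A : Type*) [CommRing A] [Algebra R A]
    (c : Matrix (Fin n) (Fin n) R) : Matrix (Fin n) (Fin n) A :=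
  (algebraMap R A).mapMatrix c

theorem gr_apply {R : Type*} [CommRing R] (A : Type*) [CommRing A] [Algebra R A]
    (c : Matrix (Fin n) (Fin n) R) (i j : Fin n) : gr A c i j = algebraMap R A (c i j) := rfl

theorem ringHom_gr {R : Type*} [CommRing R] {A B : Type*} [CommRing A] [Algebra R A] [CommRing B]
    [Algebra R B] (ψ : A →ₐ[R] B) (c : Matrix (Fin n) (Fin n) R) :
    (ψ : A →+* B).mapMatrix (gr A c) = gr B c := by
  ext i j
  show ψ (algebraMap R A (c i j)) = algebraMap R B (c i j)
  exact ψ.commutes _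

theorem isAlt_of_algHom {R : Type*} [CommRing R] {A B : Type*} [CommRing A] [Algebra R A]
    [CommRing B] [Algebra R B] (ψ : A →ₐ[R] B) (c : Matrix (Fin n) (Fin n) R)
    {U : Matrix (Fin n) (Fin n) A} (h : IsAltMat (defect (gr A c) U)) :
    IsAltMat (defect (gr B c) ((ψ : A →+* B).mapMatrix U)) := by
  have := h.ringHom (ψ : A →+* B)
  rwa [ringHom_defect, ringHom_gr] at this

/-- the variables: the entries of the matrix and of its inverse -/
abbrev Var (n : ℕ) := (Fin n × Fin n) ⊕ (Fin n × Fin n)

variable (R : Type u) [CommRing R]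

/-- the generic matrix -/
noncomputable def Xm (n : ℕ) : Matrix (Fin n) (Fin n) (MvPolynomial (Var n) R) :=
  Matrix.of fun i j => X (Sum.inl (i, j))

/-- the generic inverse -/
noncomputable def Ym (n : ℕ) : Matrix (Fin n) (Fin n) (MvPolynomial (Var n) R) :=
  Matrix.of fun i j => X (Sum.inr (i, j))

variable {R}

/-- the relations -/
noncomputable def rels (c : Matrix (Fin n) (Fin n) R) (extra : Set (MvPolynomial (Var n) R)) :
    Set (MvPolynomial (Var n) R) :=
  (Set.range fun j : Fin n => defect (gr (MvPolynomial (Var n) R) c) (Xm R n) j j) ∪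
  (Set.range fun jk : Fin n × Fin n =>
    defect (gr (MvPolynomial (Var n) R) c) (Xm R n) jk.1 jk.2 +
      defect (gr (MvPolynomial (Var n) R) c) (Xm R n) jk.2 jk.1) ∪
  (Set.range fun jk : Fin n × Fin n => (Xm R n * Ym R n - 1) jk.1 jk.2) ∪
  (Set.range fun jk : Fin n × Fin n => (Ym R n * Xm R n - 1) jk.1 jk.2) ∪ extra

theorem rels_finite (c : Matrix (Fin n) (Fin n) R) (extra : Set (MvPolynomial (Var n) R))
    (h : extra.Finite) : (rels c extra).Finite := by
  unfold rels
  exact ((((Set.finite_range _).union (Set.finite_range _)).union (Set.finite_range _)).union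
    (Set.finite_range _)).union h

/-- the coordinate ring -/
def A0 (c : Matrix (Fin n) (Fin n) R) (extra : Set (MvPolynomial (Var n) R)) : Type u :=
  MvPolynomial (Var n) R ⧸ Ideal.span (rels c extra)

noncomputable instance (c : Matrix (Fin n) (Fin n) R) (extra : Set (MvPolynomial (Var n) R)) :
    CommRing (A0 c extra) :=
  inferInstanceAs (CommRing (MvPolynomial (Var n) R ⧸ Ideal.span (rels c extra)))

noncomputable instance (c : Matrix (Fin n) (Fin n) R) (extra : Set (MvPolynomial (Var n) R)) :
    Algebra R (A0 c extra) :=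
  inferInstanceAs (Algebra R (MvPolynomial (Var n) R ⧸ Ideal.span (rels c extra)))

variable (c : Matrix (Fin n) (Fin n) R) (extra : Set (MvPolynomial (Var n) R))

/-- the projection -/
noncomputable def proj : MvPolynomial (Var n) R →ₐ[R] A0 c extra :=
  Ideal.Quotient.mkₐ R (Ideal.span (rels c extra))

theorem proj_surjective : Function.Surjective (proj c extra) :=
  Ideal.Quotient.mkₐ_surjective R _

theorem proj_eq_zero {p : MvPolynomial (Var n) R} (hp : p ∈ rels c extra) : proj c extra p = 0 :=
  Ideal.Quotient.eq_zero_iff_mem.mpr (Ideal.subset_span hp)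

theorem finitePresentation_A0 (h : extra.Finite) : Algebra.FinitePresentation R (A0 c extra) :=
  Algebra.FinitePresentation.quotient (Submodule.fg_span (rels_finite c extra h))

/-- the universal matrix -/
noncomputable def Xb : Matrix (Fin n) (Fin n) (A0 c extra) :=
  (proj c extra : MvPolynomial (Var n) R →+* A0 c extra).mapMatrix (Xm R n)

/-- the universal inverse -/
noncomputable def Yb : Matrix (Fin n) (Fin n) (A0 c extra) :=
  (proj c extra : MvPolynomial (Var n) R →+* A0 c extra).mapMatrix (Ym R n)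

theorem Xb_apply (i j : Fin n) : Xb c extra i j = proj c extra (X (Sum.inl (i, j))) := rfl

theorem Yb_apply (i j : Fin n) : Yb c extra i j = proj c extra (X (Sum.inr (i, j))) := rfl

theorem Xb_mul_Yb : Xb c extra * Yb c extra = 1 := by
  have h : (proj c extra : MvPolynomial (Var n) R →+* A0 c extra).mapMatrix
      (Xm R n * Ym R n - 1) = 0 := by
    ext j k
    show proj c extra ((Xm R n * Ym R n - 1) j k) = 0
    exact proj_eq_zero c extra (Or.inl (Or.inl (Or.inr ⟨(j, k), rfl⟩)))
  rw [map_sub, map_mul, map_one, sub_eq_zero] at h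
  exact h

theorem Yb_mul_Xb : Yb c extra * Xb c extra = 1 := by
  have h : (proj c extra : MvPolynomial (Var n) R →+* A0 c extra).mapMatrix
      (Ym R n * Xm R n - 1) = 0 := by
    ext j k
    show proj c extra ((Ym R n * Xm R n - 1) j k) = 0
    exact proj_eq_zero c extra (Or.inl (Or.inr ⟨(j, k), rfl⟩))
  rw [map_sub, map_mul, map_one, sub_eq_zero] at h
  exact h

theorem isAlt_Xb : IsAltMat (defect (gr (A0 c extra) c) (Xb c extra)) := by
  have h : defect (gr (A0 c extra) c) (Xb c extra) =
      (proj c extra : MvPolynomial (Var n) R →+* A0 c extra).mapMatrix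
        (defect (gr (MvPolynomial (Var n) R) c) (Xm R n)) := by
    rw [ringHom_defect, ringHom_gr]
    rfl
  rw [h]
  constructor
  · intro j
    show proj c extra (defect (gr (MvPolynomial (Var n) R) c) (Xm R n) j j) = 0
    exact proj_eq_zero c extra (Or.inl (Or.inl (Or.inl (Or.inl ⟨j, rfl⟩))))
  · intro j k
    show proj c extra (defect (gr (MvPolynomial (Var n) R) c) (Xm R n) j k) +
      proj c extra (defect (gr (MvPolynomial (Var n) R) c) (Xm R n) k j) = 0
    rw [← map_add]
    exact proj_eq_zero c extra (Or.inl (Or.inl (Or.inl (Or.inr ⟨(j, k), rfl⟩))))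

theorem proj_extra {p : MvPolynomial (Var n) R} (hp : p ∈ extra) : proj c extra p = 0 :=
  proj_eq_zero c extra (Or.inr hp)

/-- the point of affine space given by a pair of matrices -/
def pt {C : Type*} (U V : Matrix (Fin n) (Fin n) C) : Var n → C :=
  Sum.elim (fun ij => U ij.1 ij.2) (fun ij => V ij.1 ij.2)

theorem aeval_Xm {C : Type*} [CommRing C] [Algebra R C] (U V : Matrix (Fin n) (Fin n) C) :
    ((aeval (pt U V) : MvPolynomial (Var n) R →ₐ[R] C) : MvPolynomial (Var n) R →+* C).mapMatrix
      (Xm R n) = U := by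
  ext i j
  show aeval (pt U V) (X (Sum.inl (i, j)) : MvPolynomial (Var n) R) = U i j
  rw [aeval_X]
  rfl

theorem aeval_Ym {C : Type*} [CommRing C] [Algebra R C] (U V : Matrix (Fin n) (Fin n) C) :
    ((aeval (pt U V) : MvPolynomial (Var n) R →ₐ[R] C) : MvPolynomial (Var n) R →+* C).mapMatrix
      (Ym R n) = V := by
  ext i j
  show aeval (pt U V) (X (Sum.inr (i, j)) : MvPolynomial (Var n) R) = V i j
  rw [aeval_X]
  rfl

/-- a homomorphism out of the coordinate ring is determined by the image of the universal matrix -/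
theorem hom_ext_Xb {C : Type*} [CommRing C] [Algebra R C] (ψ ψ' : A0 c extra →ₐ[R] C)
    (h : (ψ : A0 c extra →+* C).mapMatrix (Xb c extra) =
      (ψ' : A0 c extra →+* C).mapMatrix (Xb c extra)) : ψ = ψ' := by
  have hX : ∀ i j, ψ (Xb c extra i j) = ψ' (Xb c extra i j) := fun i j =>
    congrFun (congrFun h i) j
  have h1 : (ψ : A0 c extra →+* C).mapMatrix (Xb c extra) *
      (ψ : A0 c extra →+* C).mapMatrix (Yb c extra) = 1 := by
    rw [← map_mul, Xb_mul_Yb, map_one]
  have h2 : (ψ' : A0 c extra →+* C).mapMatrix (Yb c extra) *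
      (ψ' : A0 c extra →+* C).mapMatrix (Xb c extra) = 1 := by
    rw [← map_mul, Yb_mul_Xb, map_one]
  have hY : (ψ : A0 c extra →+* C).mapMatrix (Yb c extra) =
      (ψ' : A0 c extra →+* C).mapMatrix (Yb c extra) := by
    calc (ψ : A0 c extra →+* C).mapMatrix (Yb c extra)
        = ((ψ' : A0 c extra →+* C).mapMatrix (Yb c extra) *
            (ψ' : A0 c extra →+* C).mapMatrix (Xb c extra)) *
            (ψ : A0 c extra →+* C).mapMatrix (Yb c extra) := by rw [h2, Matrix.one_mul]
      _ = (ψ' : A0 c extra →+* C).mapMatrix (Yb c extra) *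
            ((ψ : A0 c extra →+* C).mapMatrix (Xb c extra) *
            (ψ : A0 c extra →+* C).mapMatrix (Yb c extra)) := by rw [Matrix.mul_assoc, h]
      _ = (ψ' : A0 c extra →+* C).mapMatrix (Yb c extra) := by rw [h1, Matrix.mul_one]
  have hY' : ∀ i j, ψ (Yb c extra i j) = ψ' (Yb c extra i j) := fun i j =>
    congrFun (congrFun hY i) j
  have hcomp : ψ.comp (proj c extra) = ψ'.comp (proj c extra) := by
    apply MvPolynomial.algHom_ext
    rintro (⟨i, j⟩ | ⟨i, j⟩)
    · exact hX i j
    · exact hY' i j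
  apply AlgHom.ext
  intro a
  obtain ⟨p, rfl⟩ := proj_surjective c extra a
  exact AlgHom.congr_fun hcomp p

/-- the universal property of the coordinate ring, in matrices -/
theorem exists_hom {C : Type*} [CommRing C] [Algebra R C] (U V : Matrix (Fin n) (Fin n) C)
    (hUV : U * V = 1) (hVU : V * U = 1) (halt : IsAltMat (defect (gr C c) U))
    (hextra : ∀ p ∈ extra, aeval (pt U V) p = 0) :
    ∃ ψ : A0 c extra →ₐ[R] C, (ψ : A0 c extra →+* C).mapMatrix (Xb c extra) = U ∧
      (ψ : A0 c extra →+* C).mapMatrix (Yb c extra) = V := by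
  let ψ₀ : MvPolynomial (Var n) R →ₐ[R] C := aeval (pt U V)
  have hX := aeval_Xm (R := R) U V
  have hY := aeval_Ym (R := R) U V
  have hdef : (ψ₀ : MvPolynomial (Var n) R →+* C).mapMatrix
      (defect (gr (MvPolynomial (Var n) R) c) (Xm R n)) = defect (gr C c) U := by
    rw [ringHom_defect, ringHom_gr, hX]
  have hker : ∀ a ∈ Ideal.span (rels c extra), ψ₀ a = 0 := by
    intro a ha
    have hle : Ideal.span (rels c extra) ≤ RingHom.ker (ψ₀ : MvPolynomial (Var n) R →+* C) := by
      rw [Ideal.span_le]
      intro p hp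
      rw [SetLike.mem_coe, RingHom.mem_ker]
      rcases hp with (((⟨j, rfl⟩ | ⟨jk, rfl⟩) | ⟨jk, rfl⟩) | ⟨jk, rfl⟩) | hp
      · have := congrFun (congrFun hdef j) j
        exact this.trans (halt.1 j)
      · have h1 := congrFun (congrFun hdef jk.1) jk.2
        have h2 := congrFun (congrFun hdef jk.2) jk.1
        rw [map_add]
        exact (congrArg₂ (· + ·) h1 h2).trans (halt.2 jk.1 jk.2)
      · have h3 : (ψ₀ : MvPolynomial (Var n) R →+* C).mapMatrix (Xm R n * Ym R n - 1) = 0 := by
          rw [map_sub, map_mul, map_one, hX, hY, hUV, sub_self]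
        exact congrFun (congrFun h3 jk.1) jk.2
      · have h3 : (ψ₀ : MvPolynomial (Var n) R →+* C).mapMatrix (Ym R n * Xm R n - 1) = 0 := by
          rw [map_sub, map_mul, map_one, hX, hY, hVU, sub_self]
        exact congrFun (congrFun h3 jk.1) jk.2
      · exact hextra p hp
    exact hle ha
  let ψ : A0 c extra →ₐ[R] C := Ideal.Quotient.liftₐ (Ideal.span (rels c extra)) ψ₀ hker
  have hψ : ∀ p, ψ (proj c extra p) = ψ₀ p := fun p => rfl
  refine ⟨ψ, ?_, ?_⟩
  · ext i j
    show ψ (proj c extra (X (Sum.inl (i, j)))) = U i j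
    rw [hψ]
    exact congrFun (congrFun hX i) j
  · ext i j
    show ψ (proj c extra (X (Sum.inr (i, j)))) = V i j
    rw [hψ]
    exact congrFun (congrFun hY i) j

end Mat

end Groth.Agent.H9.SG
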