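import Mathlib
import Groth.Prelude.Def_QuadGrp2
import Groth.Agent.Lib.Helper9.Misc.SG2

/-! The orthogonal group functor of a quadratic form on `R^n` is represented by the matrix
coordinate ring (helper9). -/

set_option autoImplicit false

open TensorProduct MvPolynomial Matrix

namespace Groth.Agent.H9.SG

universe u

section General

variable {n : ℕ} {A : Type*} [CommRing A] {N : Type*} [AddCommGroup N] [Module A N]

theorem quad_ext {N' : Type*} [AddCommGroup N'] [Module A N'] (b : Module.Basis (Fin n) A N)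
    (q q' : QuadraticMap A N N') (h1 : ∀ i, q (b i) = q' (b i))
    (h2 : ∀ i j, QuadraticMap.polar q (b i) (b j) = QuadraticMap.polar q' (b i) (b j)) :
    q = q' := by
  rw [← QuadraticMap.toQuadraticMap_toBilin q b, ← QuadraticMap.toQuadraticMap_toBilin q' b]
  congr 1
  apply b.ext
  intro i
  apply b.ext
  intro j
  rw [QuadraticMap.toBilin_apply, QuadraticMap.toBilin_apply, h1, h2]

theorem alt_iff (b : Module.Basis (Fin n) A N) (γ : N →ₗ[A] N →ₗ[A] A) :
    (∀ v, γ v v = 0) ↔ IsAltMat (LinearMap.toMatrix₂ b b γ) := by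
  constructor
  · intro h
    refine ⟨fun j => ?_, fun j k => ?_⟩
    · rw [LinearMap.toMatrix₂_apply]
      exact h _
    · rw [LinearMap.toMatrix₂_apply, LinearMap.toMatrix₂_apply]
      have h3 := h (b j + b k)
      simp only [map_add, LinearMap.add_apply] at h3
      have h4 := h (b j)
      have h5 := h (b k)
      linear_combination h3 - h4 - h5
  · intro h v
    have hq : LinearMap.BilinMap.toQuadraticMap γ = 0 := by
      apply quad_ext b
      · intro i
        rw [LinearMap.BilinMap.toQuadraticMap_apply, QuadraticMap.zero_apply]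
        have := h.1 i
        rwa [LinearMap.toMatrix₂_apply] at this
      · intro i j
        rw [LinearMap.BilinMap.polar_toQuadraticMap]
        have := h.2 i j
        rw [LinearMap.toMatrix₂_apply, LinearMap.toMatrix₂_apply] at this
        rw [this]
        simp [QuadraticMap.polar]
    have := congrArg (fun q => q v) hq
    simpa [LinearMap.BilinMap.toQuadraticMap_apply] using this

end General

section Bridge

variable {R : Type u} [CommRing R] {n : ℕ}

/-- the standard basis of `A ⊗ R^n` -/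
noncomputable abbrev bas (R : Type u) [CommRing R] (n : ℕ) (A : Type u) [CommRing A] [Algebra R A] :
    Module.Basis (Fin n) A (A ⊗[R] (Fin n → R)) :=
  (Pi.basisFun R (Fin n)).baseChange A

variable (Q : QuadraticForm R (Fin n → R))

/-- the Gram matrix of the chosen bilinear lift -/
noncomputable def cQ : Matrix (Fin n) (Fin n) R :=
  LinearMap.toMatrix₂ (Pi.basisFun R (Fin n)) (Pi.basisFun R (Fin n)) (QuadGrp.bilinLift Q)

/-- the base-changed bilinear lift, `A`-valued -/
noncomputable def betaA (A : Type u) [CommRing A] [Algebra R A] :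
    (A ⊗[R] (Fin n → R)) →ₗ[A] (A ⊗[R] (Fin n → R)) →ₗ[A] A :=
  ((QuadGrp.bilinLift Q).baseChange A).compr₂ (AlgebraTensorModule.rid R A A).toLinearMap

theorem betaA_apply (A : Type u) [CommRing A] [Algebra R A] (v w : A ⊗[R] (Fin n → R)) :
    betaA Q A v w = AlgebraTensorModule.rid R A A ((QuadGrp.bilinLift Q).baseChange A v w) := rfl

theorem toMatrix₂_betaA (A : Type u) [CommRing A] [Algebra R A] :
    LinearMap.toMatrix₂ (bas R n A) (bas R n A) (betaA Q A) = gr A (cQ Q) := by
  ext i j
  rw [LinearMap.toMatrix₂_apply, gr_apply, cQ, LinearMap.toMatrix₂_apply,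
    Module.Basis.baseChange_apply, Module.Basis.baseChange_apply, betaA_apply,
    LinearMap.BilinMap.baseChange_tmul, AlgebraTensorModule.rid_tmul, mul_one,
    Algebra.algebraMap_eq_smul_one]

theorem mem_orth_iff (A : Type u) [CommRing A] [Algebra R A]
    (g : (A ⊗[R] (Fin n → R)) ≃ₗ[A] (A ⊗[R] (Fin n → R))) :
    g ∈ QuadGrp.orth Q A ↔
      IsAltMat (defect (gr A (cQ Q))
        (LinearMap.toMatrix (bas R n A) (bas R n A) g.toLinearMap)) := by
  have h1 : g ∈ QuadGrp.orth Q A ↔
      ∀ v, ((betaA Q A).compl₁₂ g.toLinearMap g.toLinearMap - betaA Q A) v v = 0 := by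
    have h0 : g ∈ QuadGrp.orth Q A ↔
        ∀ v, QuadGrp.baseChange A Q (g v) = QuadGrp.baseChange A Q v := Iff.rfl
    rw [h0]
    refine forall_congr' fun v => ?_
    rw [LinearMap.sub_apply, LinearMap.sub_apply, LinearMap.compl₁₂_apply, sub_eq_zero,
      betaA_apply, betaA_apply, (AlgebraTensorModule.rid R A A).injective.eq_iff]
    rfl
  have e : LinearMap.toMatrix₂ (bas R n A) (bas R n A)
      ((betaA Q A).compl₁₂ g.toLinearMap g.toLinearMap - betaA Q A) =
      defect (gr A (cQ Q)) (LinearMap.toMatrix (bas R n A) (bas R n A) g.toLinearMap) := by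
    rw [defect, ← toMatrix₂_betaA, ← LinearMap.toMatrix₂_compl₁₂ (bas R n A) (bas R n A)]
    ext i j
    simp only [LinearMap.toMatrix₂_apply, LinearMap.sub_apply, Matrix.sub_apply]
  rw [h1, alt_iff (bas R n A), e]

theorem repr_rTensor {A C : Type u} [CommRing A] [Algebra R A] [CommRing C] [Algebra R C]
    (ψ : A →ₐ[R] C) (v : A ⊗[R] (Fin n → R)) (i : Fin n) :
    (bas R n C).repr (LinearMap.rTensor (Fin n → R) ψ.toLinearMap v) i =
      ψ ((bas R n A).repr v i) := by
  induction v using TensorProduct.induction_on with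
  | zero => simp
  | tmul a m =>
    rw [LinearMap.rTensor_tmul, Module.Basis.baseChange_repr_tmul,
      Module.Basis.baseChange_repr_tmul, AlgHom.toLinearMap_apply, map_smul]
  | add x y hx hy =>
    rw [map_add, map_add, map_add, Finsupp.add_apply, Finsupp.add_apply, hx, hy, map_add]

theorem link {A C : Type u} [CommRing A] [Algebra R A] [CommRing C] [Algebra R C]
    (ψ : A →ₐ[R] C) (g₀ : (A ⊗[R] (Fin n → R)) ≃ₗ[A] (A ⊗[R] (Fin n → R)))
    (g : (C ⊗[R] (Fin n → R)) ≃ₗ[C] (C ⊗[R] (Fin n → R))) :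
    (∀ m : Fin n → R, g (1 ⊗ₜ[R] m) =
      LinearMap.rTensor (Fin n → R) ψ.toLinearMap (g₀ (1 ⊗ₜ[R] m))) ↔
    (ψ : A →+* C).mapMatrix (LinearMap.toMatrix (bas R n A) (bas R n A) g₀.toLinearMap) =
      LinearMap.toMatrix (bas R n C) (bas R n C) g.toLinearMap := by
  constructor
  · intro h
    ext i j
    show ψ (LinearMap.toMatrix (bas R n A) (bas R n A) g₀.toLinearMap i j) = _
    rw [LinearMap.toMatrix_apply, LinearMap.toMatrix_apply, Module.Basis.baseChange_apply,
      Module.Basis.baseChange_apply, LinearEquiv.coe_coe, LinearEquiv.coe_coe, h, repr_rTensor]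
  · intro h m
    apply (bas R n C).ext_elem
    intro i
    rw [repr_rTensor]
    have e1 := LinearMap.toMatrix_mulVec_repr (bas R n A) (bas R n A) g₀.toLinearMap
      ((1 : A) ⊗ₜ[R] m)
    have e2 := LinearMap.toMatrix_mulVec_repr (bas R n C) (bas R n C) g.toLinearMap
      ((1 : C) ⊗ₜ[R] m)
    rw [LinearEquiv.coe_coe] at e1 e2
    rw [← e1, ← e2, ← h]
    simp only [Matrix.mulVec, dotProduct, RingHom.mapMatrix_apply, Matrix.map_apply,
      Module.Basis.baseChange_repr_tmul, map_sum, map_mul, map_smul, map_one, RingHom.coe_coe]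

/-- the automorphism with given matrix -/
noncomputable def equivOfMat (A : Type u) [CommRing A] [Algebra R A]
    (U V : Matrix (Fin n) (Fin n) A) (hUV : U * V = 1) (hVU : V * U = 1) :
    (A ⊗[R] (Fin n → R)) ≃ₗ[A] (A ⊗[R] (Fin n → R)) :=
  LinearEquiv.ofLinear (Matrix.toLin (bas R n A) (bas R n A) U)
    (Matrix.toLin (bas R n A) (bas R n A) V)
    (by rw [← Matrix.toLin_mul (bas R n A) (bas R n A) (bas R n A), hUV, Matrix.toLin_one])
    (by rw [← Matrix.toLin_mul (bas R n A) (bas R n A) (bas R n A), hVU, Matrix.toLin_one])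

theorem toMatrix_equivOfMat (A : Type u) [CommRing A] [Algebra R A]
    (U V : Matrix (Fin n) (Fin n) A) (hUV : U * V = 1) (hVU : V * U = 1) :
    LinearMap.toMatrix (bas R n A) (bas R n A)
      (equivOfMat (R := R) A U V hUV hVU).toLinearMap = U :=
  LinearMap.toMatrix_toLin _ _ U

theorem toMatrix_mul_symm (A : Type u) [CommRing A] [Algebra R A]
    (g : (A ⊗[R] (Fin n → R)) ≃ₗ[A] (A ⊗[R] (Fin n → R))) :
    LinearMap.toMatrix (bas R n A) (bas R n A) g.toLinearMap *
      LinearMap.toMatrix (bas R n A) (bas R n A) g.symm.toLinearMap = 1 := by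
  rw [← LinearMap.toMatrix_comp (bas R n A) (bas R n A) (bas R n A)]
  have : g.toLinearMap ∘ₗ g.symm.toLinearMap = LinearMap.id := by
    ext v
    simp
  rw [this, LinearMap.toMatrix_id]

theorem toMatrix_symm_mul (A : Type u) [CommRing A] [Algebra R A]
    (g : (A ⊗[R] (Fin n → R)) ≃ₗ[A] (A ⊗[R] (Fin n → R))) :
    LinearMap.toMatrix (bas R n A) (bas R n A) g.symm.toLinearMap *
      LinearMap.toMatrix (bas R n A) (bas R n A) g.toLinearMap = 1 := by
  have := toMatrix_mul_symm (R := R) A g.symm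
  rwa [LinearEquiv.symm_symm] at this

/-- the universal isometry -/
noncomputable def g0 : ↥(QuadGrp.orth Q (A0 (cQ Q) ∅)) :=
  ⟨equivOfMat (A0 (cQ Q) ∅) (Xb (cQ Q) ∅) (Yb (cQ Q) ∅) (Xb_mul_Yb _ _) (Yb_mul_Xb _ _), by
    rw [mem_orth_iff, toMatrix_equivOfMat]
    exact isAlt_Xb _ _⟩

theorem isUniversal_orth :
    IsUniversal (M := Fin n → R) (fun A _ _ => QuadGrp.orth Q A) (A0 (cQ Q) ∅) (g0 Q) := by
  intro C _ _ g
  have halt := (mem_orth_iff Q C g.1).mp g.2
  obtain ⟨ψ, hψX, -⟩ := exists_hom (cQ Q) ∅ _ _ (toMatrix_mul_symm C g.1)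
    (toMatrix_symm_mul C g.1) halt (by simp)
  refine ⟨ψ, ?_, ?_⟩
  · refine (link ψ (g0 Q).1 g.1).mpr ?_
    rw [g0, toMatrix_equivOfMat]
    exact hψX
  · intro ψ' h'
    have := (link ψ' (g0 Q).1 g.1).mp h'
    rw [g0, toMatrix_equivOfMat] at this
    exact hom_ext_Xb _ _ ψ' ψ (this.trans hψX.symm)

end Bridge

end Groth.Agent.H9.SG
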