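import Mathlib
import Groth.Prelude.Def_QuadGrp2
import Groth.Agent.Lib.Helper9.Misc.SG3

/-! Infinitesimal lifting of isometries of a regular form: formal smoothness of the coordinate
ring of the orthogonal group (helper9). -/

set_option autoImplicit false

open TensorProduct MvPolynomial Matrix

namespace Groth.Agent.H9.SG

universe u

section Lift

variable {n : ℕ} {B : Type*} [CommRing B] (I : Ideal B)

/-- reduction of matrices modulo `I` -/
noncomputable abbrev red : Matrix (Fin n) (Fin n) B →+* Matrix (Fin n) (Fin n) (B ⧸ I) :=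
  (Ideal.Quotient.mk I).mapMatrix

theorem red_surjective : Function.Surjective (red (n := n) I) := by
  intro M
  choose f hf using fun i j => Ideal.Quotient.mk_surjective (I := I) (M i j)
  exact ⟨Matrix.of f, by ext i j; exact hf i j⟩

theorem mem_of_red_eq_zero {N : Matrix (Fin n) (Fin n) B} (h : red I N = 0) (i j : Fin n) :
    N i j ∈ I :=
  Ideal.Quotient.eq_zero_iff_mem.mp (congrFun (congrFun h i) j)

theorem mul_eq_zero_of_red (hI : I ^ 2 = ⊥) {N₁ N₂ : Matrix (Fin n) (Fin n) B}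
    (h1 : red I N₁ = 0) (h2 : red I N₂ = 0) : N₁ * N₂ = 0 := by
  ext i k
  rw [Matrix.mul_apply, Matrix.zero_apply]
  apply Finset.sum_eq_zero
  intro j _
  have e1 : N₁ i j ∈ I := mem_of_red_eq_zero I h1 i j
  have e2 : N₂ j k ∈ I := mem_of_red_eq_zero I h2 j k
  have h3 : N₁ i j * N₂ j k ∈ I ^ 2 := by
    rw [pow_two]
    exact Ideal.mul_mem_mul e1 e2
  rw [hI] at h3
  exact h3

/-- lifting an isometry of a regular form along a square-zero extension -/
theorem exists_lift_mat (hI : I ^ 2 = ⊥) (c T : Matrix (Fin n) (Fin n) B)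
    (hT1 : (c + cᵀ) * T = 1)
    (Ub Vb : Matrix (Fin n) (Fin n) (B ⧸ I)) (hUV : Ub * Vb = 1)
    (halt : IsAltMat (defect (red I c) Ub)) :
    ∃ U V : Matrix (Fin n) (Fin n) B, U * V = 1 ∧ V * U = 1 ∧ red I U = Ub ∧
      IsAltMat (defect c U) := by
  obtain ⟨U₁, hU₁⟩ := red_surjective I Ub
  obtain ⟨V₁, hV₁⟩ := red_surjective I Vb
  have hNr : red I (U₁ * V₁ - 1) = 0 := by
    rw [map_sub, map_mul, map_one, hU₁, hV₁, hUV, sub_self]
  have hNN : (U₁ * V₁ - 1) * (U₁ * V₁ - 1) = 0 := mul_eq_zero_of_red I hI hNr hNr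
  obtain ⟨V₂, hUV₂⟩ : ∃ V₂, U₁ * V₂ = 1 := by
    refine ⟨V₁ * (1 - (U₁ * V₁ - 1)), ?_⟩
    have e : U₁ * (V₁ * (1 - (U₁ * V₁ - 1))) = 1 - (U₁ * V₁ - 1) * (U₁ * V₁ - 1) := by
      noncomm_ring
    rw [e, hNN, sub_zero]
  have hV₂U : V₂ * U₁ = 1 := mul_eq_one_comm.mp hUV₂
  have hTc : T * (c + cᵀ) = 1 := mul_eq_one_comm.mp hT1
  obtain ⟨W, hW⟩ : ∃ W, W = U₁ᵀ * c * U₁ := ⟨_, rfl⟩
  have hS' : W + Wᵀ = U₁ᵀ * (c + cᵀ) * U₁ := by
    rw [hW]
    simp only [Matrix.transpose_mul, Matrix.transpose_transpose, Matrix.mul_add, Matrix.add_mul,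
      Matrix.mul_assoc]
  have hSS : (W + Wᵀ) * (V₂ * T * V₂ᵀ) = 1 := by
    rw [hS']
    calc U₁ᵀ * (c + cᵀ) * U₁ * (V₂ * T * V₂ᵀ)
        = U₁ᵀ * ((c + cᵀ) * ((U₁ * V₂) * T)) * V₂ᵀ := by simp only [Matrix.mul_assoc]
      _ = 1 := by
        rw [hUV₂, Matrix.one_mul, hT1, Matrix.mul_one, ← Matrix.transpose_mul, hV₂U,
          Matrix.transpose_one]
  have hE₁r : IsAltMat (red I (defect c U₁)) := by
    rw [ringHom_defect (Ideal.Quotient.mk I), hU₁]
    exact halt
  have hd : ∀ j, defect c U₁ j j ∈ I := fun j =>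
    Ideal.Quotient.eq_zero_iff_mem.mp (hE₁r.1 j)
  have hod : ∀ j k, defect c U₁ j k + defect c U₁ k j ∈ I := fun j k =>
    Ideal.Quotient.eq_zero_iff_mem.mp (by
      rw [map_add]
      exact hE₁r.2 j k)
  obtain ⟨Z, hZ⟩ : ∃ Z : Matrix (Fin n) (Fin n) B, Z = Matrix.of fun j k =>
      if j = k then -(defect c U₁ j j) else
        if j < k then -(defect c U₁ j k + defect c U₁ k j) else 0 := ⟨_, rfl⟩
  have hZr : red I Z = 0 := by
    ext j k
    show Ideal.Quotient.mk I (Z j k) = 0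
    rw [Ideal.Quotient.eq_zero_iff_mem, hZ, Matrix.of_apply]
    split_ifs
    · exact I.neg_mem (hd j)
    · exact I.neg_mem (hod j k)
    · exact I.zero_mem
  have hZd : ∀ j, Z j j = -(defect c U₁ j j) := fun j => by
    rw [hZ, Matrix.of_apply, if_pos rfl]
  have hZod : ∀ j k, j ≠ k → Z j k + Z k j = -(defect c U₁ j k + defect c U₁ k j) := by
    intro j k hjk
    rw [hZ, Matrix.of_apply, Matrix.of_apply, if_neg hjk, if_neg (Ne.symm hjk)]
    rcases lt_or_gt_of_ne hjk with h | h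
    · rw [if_pos h, if_neg (not_lt.mpr h.le), add_zero]
    · rw [if_neg (not_lt.mpr h.le), if_pos h, zero_add, add_comm]
  obtain ⟨η, hη⟩ : ∃ η, η = (V₂ * T * V₂ᵀ) * Z := ⟨_, rfl⟩
  have hηr : red I η = 0 := by rw [hη, map_mul, hZr, mul_zero]
  have hSη : (W + Wᵀ) * η = Z := by rw [hη, ← Matrix.mul_assoc, hSS, Matrix.one_mul]
  have hηtr : red I ηᵀ = 0 := by rw [ringHom_transpose, hηr, Matrix.transpose_zero]
  have hηη : η * η = 0 := mul_eq_zero_of_red I hI hηr hηr
  have h1 : U₁ * (1 + η) * ((1 - η) * V₂) = 1 := by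
    have e : U₁ * (1 + η) * ((1 - η) * V₂) = U₁ * V₂ - U₁ * (η * η) * V₂ := by noncomm_ring
    rw [e, hηη, Matrix.mul_zero, Matrix.zero_mul, sub_zero, hUV₂]
  refine ⟨U₁ * (1 + η), (1 - η) * V₂, h1, mul_eq_one_comm.mp h1, ?_, ?_⟩
  · rw [map_mul, map_add, map_one, hηr, add_zero, mul_one, hU₁]
  · have hdef : defect c (U₁ * (1 + η)) =
        defect c U₁ + (ηᵀ * W + W * η) + ηᵀ * W * η := by
      rw [defect, defect, Matrix.transpose_mul, Matrix.transpose_add, Matrix.transpose_one, hW]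
      noncomm_ring
    have hq : ηᵀ * W * η = 0 :=
      mul_eq_zero_of_red I hI (by rw [map_mul, hηtr, zero_mul]) hηr
    have hF : ηᵀ * W + W * η = (Wᵀ * η)ᵀ + W * η := by
      rw [Matrix.transpose_mul, Matrix.transpose_transpose]
    have hZ' : Z = W * η + Wᵀ * η := by rw [← hSη, Matrix.add_mul]
    rw [hdef, hq, add_zero, hF]
    have hdiag : ∀ j, (defect c U₁ + ((Wᵀ * η)ᵀ + W * η)) j j = 0 := by
      intro j
      rw [Matrix.add_apply, Matrix.add_apply, Matrix.transpose_apply]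
      have h2 := congrFun (congrFun hZ' j) j
      rw [Matrix.add_apply, hZd] at h2
      linear_combination (-1 : B) * h2
    refine ⟨hdiag, fun j k => ?_⟩
    by_cases hjk : j = k
    · subst hjk
      rw [hdiag, add_zero]
    · rw [Matrix.add_apply, Matrix.add_apply, Matrix.add_apply, Matrix.add_apply,
        Matrix.transpose_apply, Matrix.transpose_apply]
      have h2 := congrFun (congrFun hZ' j) k
      have h3 := congrFun (congrFun hZ' k) j
      have h4 := hZod j k hjk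
      rw [Matrix.add_apply] at h2 h3
      linear_combination h4 - h2 - h3

end Lift

section Smooth

variable {R : Type u} [CommRing R] {n : ℕ}

/-- the coordinate ring of the orthogonal group of a form with invertible polar Gram matrix is
formally smooth -/
theorem formallySmooth_A0 (c : Matrix (Fin n) (Fin n) R) (hc : IsUnit (c + cᵀ).det) :
    Algebra.FormallySmooth R (A0 c ∅) := by
  refine Algebra.FormallySmooth.of_comp_surjective fun B _ _ I hI fb => ?_
  obtain ⟨T, hT⟩ : ∃ T : Matrix (Fin n) (Fin n) R, (c + cᵀ) * T = 1 :=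
    ⟨(c + cᵀ)⁻¹, Matrix.mul_nonsing_inv _ hc⟩
  have hT' : (gr B c + (gr B c)ᵀ) * gr B T = 1 := by
    have := congrArg (algebraMap R B).mapMatrix hT
    rw [map_mul, map_add, map_one, ringHom_transpose] at this
    exact this
  have hUV : (fb : A0 c ∅ →+* B ⧸ I).mapMatrix (Xb c ∅) *
      (fb : A0 c ∅ →+* B ⧸ I).mapMatrix (Yb c ∅) = 1 := by
    rw [← map_mul, Xb_mul_Yb, map_one]
  have halt := isAlt_of_algHom fb c (isAlt_Xb c ∅)
  have hgr : red I (gr B c) = gr (B ⧸ I) c := by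
    ext i j
    rfl
  obtain ⟨U, V, hUV', hVU', hU, haltU⟩ := exists_lift_mat I hI (gr B c) (gr B T) hT'
    _ _ hUV (by rw [hgr]; exact halt)
  obtain ⟨ψ, hψX, -⟩ := exists_hom c ∅ U V hUV' hVU' haltU (by simp)
  refine ⟨ψ, ?_⟩
  apply hom_ext_Xb
  rw [← hU, ← hψX]
  rfl

theorem smooth_A0 (c : Matrix (Fin n) (Fin n) R) (hc : IsUnit (c + cᵀ).det) :
    Algebra.Smooth R (A0 c ∅) :=
  { formallySmooth := formallySmooth_A0 c hc
    finitePresentation := finitePresentation_A0 c ∅ Set.finite_empty }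

end Smooth

end Groth.Agent.H9.SG
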