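import Mathlib
import Groth.Prelude.Def_QuadGrp2
import Groth.Agent.Lib.Helper9.Misc.SG4
import Groth.Agent.Lib.Helper9.Misc.QO4
import Groth.Agent.Lib.Helper7.QuadGrp.Center

/-! Smoothness of the orthogonal group scheme: even rank or `2` invertible (helper9). -/

set_option autoImplicit false

open TensorProduct MvPolynomial Matrix Polynomial

namespace Groth.Agent.H9.SG

universe u

section Char2

variable {B : Type*} [CommRing B]

theorem one_add_pow_of_sq_zero (y : B) (hy : y * y = 0) (n : ℕ) : (1 + y) ^ n = 1 + n * y := by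
  induction n with
  | zero => simp
  | succ k ih =>
    rw [pow_succ, ih]
    push_cast
    linear_combination (k : B) * hy

theorem odd_mul_of_two_eq_zero (h2 : (2 : B) = 0) {n : ℕ} (hn : Odd n) (y : B) :
    (n : B) * y = y := by
  obtain ⟨m, rfl⟩ := hn
  push_cast
  linear_combination (m : B) * y * h2

end Char2

section NotSmooth

variable {R : Type u} [CommRing R] {n : ℕ}

/-- if all isometries have determinant of square one and `2` is not invertible, the coordinate
ring of the orthogonal group in odd rank is not formally smooth -/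
theorem not_formallySmooth_A0 (c : Matrix (Fin n) (Fin n) R) (hn : Odd n)
    (h2 : ¬ IsUnit (2 : R))
    (hdet : ∀ (B : Type u) [CommRing B] [Algebra R B] (U V : Matrix (Fin n) (Fin n) B),
      U * V = 1 → V * U = 1 → IsAltMat (defect (gr B c) U) → U.det ^ 2 = 1) :
    ¬ Algebra.FormallySmooth R (A0 c ∅) := by
  intro hfs
  have hne : Ideal.span ({2} : Set R) ≠ ⊤ := by
    rw [Ne, Ideal.span_singleton_eq_top]
    exact h2
  haveI : Nontrivial (R ⧸ Ideal.span ({2} : Set R)) := Ideal.Quotient.nontrivial_iff.mpr hne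
  let k := R ⧸ Ideal.span ({2} : Set R)
  let B := AdjoinRoot ((Polynomial.X : k[X]) ^ 3)
  let x : B := AdjoinRoot.root _
  have hx3 : x ^ 3 = 0 := by
    show (AdjoinRoot.root ((Polynomial.X : k[X]) ^ 3)) ^ 3 = 0
    rw [← AdjoinRoot.mk_X, ← map_pow, AdjoinRoot.mk_self]
  have hx2 : x ^ 2 ≠ 0 := by
    show (AdjoinRoot.root ((Polynomial.X : k[X]) ^ 3)) ^ 2 ≠ 0
    rw [← AdjoinRoot.mk_X, ← map_pow, Ne, AdjoinRoot.mk_eq_zero]
    apply (Polynomial.monic_X_pow 3).not_dvd_of_natDegree_lt (Polynomial.monic_X_pow 2).ne_zero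
    rw [Polynomial.natDegree_X_pow, Polynomial.natDegree_X_pow]
    norm_num
  have h2B : (2 : B) = 0 := by
    have e1 : (2 : B) = algebraMap R B 2 := (map_ofNat _ 2).symm
    rw [e1, AdjoinRoot.algebraMap_eq', RingHom.comp_apply]
    have e2 : algebraMap R k 2 = 0 := by
      show Ideal.Quotient.mk _ (2 : R) = 0
      rw [Ideal.Quotient.eq_zero_iff_mem]
      exact Ideal.mem_span_singleton_self 2
    rw [e2, map_zero]
  let I : Ideal B := Ideal.span {x ^ 2}
  have hI : I ^ 2 = ⊥ := by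
    show (Ideal.span {x ^ 2}) ^ 2 = ⊥
    rw [Ideal.span_singleton_pow, Ideal.span_singleton_eq_bot]
    have : (x ^ 2) ^ 2 = x ^ 3 * x := by ring
    rw [this, hx3, zero_mul]
  let u : B ⧸ I := Ideal.Quotient.mk I (1 + x)
  have hu : u * u = 1 := by
    show Ideal.Quotient.mk I (1 + x) * Ideal.Quotient.mk I (1 + x) = 1
    rw [← map_mul, ← map_one (Ideal.Quotient.mk I), ← sub_eq_zero, ← map_sub,
      Ideal.Quotient.eq_zero_iff_mem]
    have : (1 + x) * (1 + x) - 1 = x ^ 2 + 2 * x := by ring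
    rw [this, h2B, zero_mul, add_zero]
    exact Ideal.mem_span_singleton_self _
  let Ub : Matrix (Fin n) (Fin n) (B ⧸ I) := u • (1 : Matrix (Fin n) (Fin n) (B ⧸ I))
  have hUb : Ub * Ub = 1 := by
    show (u • (1 : Matrix (Fin n) (Fin n) (B ⧸ I))) * (u • 1) = 1
    rw [Matrix.smul_mul, Matrix.mul_smul, Matrix.one_mul, smul_smul, hu, one_smul]
  have haltb : IsAltMat (defect (gr (B ⧸ I) c) Ub) := by
    have : defect (gr (B ⧸ I) c) Ub = 0 := by
      show (u • (1 : Matrix (Fin n) (Fin n) (B ⧸ I)))ᵀ * gr (B ⧸ I) c * (u • 1) -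
        gr (B ⧸ I) c = 0
      rw [Matrix.transpose_smul, Matrix.transpose_one, Matrix.smul_mul, Matrix.one_mul,
        Matrix.mul_smul, Matrix.mul_one, smul_smul, hu, one_smul, sub_self]
    rw [this]
    exact ⟨fun j => rfl, fun j k => by simp⟩
  obtain ⟨fb, hfbX, -⟩ := exists_hom c ∅ Ub Ub hUb hUb haltb (by simp)
  obtain ⟨f, hf⟩ := Algebra.FormallySmooth.comp_surjective R (A0 c ∅) I hI fb
  have hXY : (f : A0 c ∅ →+* B).mapMatrix (Xb c ∅) * (f : A0 c ∅ →+* B).mapMatrix (Yb c ∅) = 1 := by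
    rw [← map_mul, Xb_mul_Yb, map_one]
  have hYX : (f : A0 c ∅ →+* B).mapMatrix (Yb c ∅) * (f : A0 c ∅ →+* B).mapMatrix (Xb c ∅) = 1 := by
    rw [← map_mul, Yb_mul_Xb, map_one]
  have hdet1 := hdet B _ _ hXY hYX (isAlt_of_algHom f c (isAlt_Xb c ∅))
  have hred : red I ((f : A0 c ∅ →+* B).mapMatrix (Xb c ∅)) = Ub := by
    rw [← hfbX, ← hf]
    rfl
  have hdetred : Ideal.Quotient.mk I ((f : A0 c ∅ →+* B).mapMatrix (Xb c ∅)).det =
      Ideal.Quotient.mk I ((1 + x) ^ n) := by
    rw [RingHom.map_det, hred]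
    show (u • (1 : Matrix (Fin n) (Fin n) (B ⧸ I))).det = _
    rw [Matrix.det_smul, Matrix.det_one, mul_one, Fintype.card_fin, map_pow]
  rw [← sub_eq_zero, ← map_sub, Ideal.Quotient.eq_zero_iff_mem] at hdetred
  obtain ⟨t, ht⟩ := Ideal.mem_span_singleton.mp hdetred
  have hx4 : x ^ 2 * x ^ 2 = 0 := by
    have : x ^ 2 * x ^ 2 = x ^ 3 * x := by ring
    rw [this, hx3, zero_mul]
  have e1 : ((f : A0 c ∅ →+* B).mapMatrix (Xb c ∅)).det = (1 + x) ^ n + x ^ 2 * t := by
    rw [← ht]; ring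
  have e2 : ((1 + x) ^ n + x ^ 2 * t) ^ 2 = ((1 + x) ^ 2) ^ n := by
    have hpow : ((1 + x) ^ 2) ^ n = ((1 + x) ^ n) ^ 2 := by
      rw [← pow_mul, ← pow_mul, mul_comm]
    rw [hpow]
    generalize (1 + x) ^ n = y
    have : (y + x ^ 2 * t) ^ 2 =
        y ^ 2 + 2 * (y * (x ^ 2 * t)) + (x ^ 2 * x ^ 2) * t ^ 2 := by ring
    rw [this, h2B, hx4, zero_mul, zero_mul, add_zero, add_zero]
  have e3 : (1 + x) ^ 2 = 1 + x ^ 2 := by
    have : (1 + x) ^ 2 = 1 + x ^ 2 + 2 * x := by ring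
    rw [this, h2B, zero_mul, add_zero]
  rw [e1, e2, e3, one_add_pow_of_sq_zero _ hx4, odd_mul_of_two_eq_zero h2B hn] at hdet1
  exact hx2 (by linear_combination hdet1)

end NotSmooth

section Final

variable {R : Type u} [CommRing R] {n : ℕ} (Q : QuadraticForm R (Fin n → R))

theorem cQ_add_transpose :
    cQ Q + (cQ Q)ᵀ = Groth.Agent.H9.QG.gram (Pi.basisFun R (Fin n)) Q := by
  ext i j
  rw [Matrix.add_apply, Matrix.transpose_apply, cQ, LinearMap.toMatrix₂_apply,
    LinearMap.toMatrix₂_apply, Groth.Agent.H9.QG.gram, Matrix.of_apply]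
  exact Groth.Agent.H7.QG.bilinLift_polar Q _ _

theorem isUnit_det_of_isRegular (hQ : QuadGrp.IsRegular Q) : IsUnit (cQ Q + (cQ Q)ᵀ).det := by
  rw [cQ_add_transpose]
  exact (Groth.Agent.H9.QG.isRegular_iff_isUnit_det (Pi.basisFun R (Fin n)) Q).mp hQ

/-- isometries of a semiregular form of odd rank have determinant of square one -/
theorem det_sq_of_isAlt (hn : Odd n)
    (hQ : QuadGrp.IsSemiregular (Pi.basisFun R (Fin n)) (LinearEquiv.refl R R) Q)
    (B : Type u) [CommRing B] [Algebra R B] (U V : Matrix (Fin n) (Fin n) B)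
    (hUV : U * V = 1) (hVU : V * U = 1) (halt : IsAltMat (defect (gr B (cQ Q)) U)) :
    U.det ^ 2 = 1 := by
  have hmem : equivOfMat (R := R) B U V hUV hVU ∈ QuadGrp.orth Q B := by
    rw [mem_orth_iff, toMatrix_equivOfMat]
    exact halt
  have hsr := Groth.Agent.H9.QO.isSemiregular_baseChange B (Pi.basisFun R (Fin n)) Q hQ
  have hcomp : (QuadGrp.baseChangeForm B Q).comp (equivOfMat (R := R) B U V hUV hVU).toLinearMap =
      QuadGrp.baseChangeForm B Q := by
    refine QuadraticMap.ext fun v => ?_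
    have := hmem v
    show AlgebraTensorModule.rid R B B (QuadGrp.baseChange B Q (equivOfMat (R := R) B U V hUV hVU v)) =
      AlgebraTensorModule.rid R B B (QuadGrp.baseChange B Q v)
    rw [this]
  have h1 := Groth.Agent.H7.QG.halfDisc_comp hn (bas R n B) (QuadGrp.baseChangeForm B Q)
    (equivOfMat (R := R) B U V hUV hVU).toLinearMap
  rw [hcomp, ← LinearMap.det_toMatrix (bas R n B), toMatrix_equivOfMat] at h1
  have h2 : U.det ^ 2 * QuadGrp.halfDisc (bas R n B) (LinearEquiv.refl B B)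
      (QuadGrp.baseChangeForm B Q) = 1 * QuadGrp.halfDisc (bas R n B) (LinearEquiv.refl B B)
      (QuadGrp.baseChangeForm B Q) := by
    rw [one_mul]
    exact h1.symm
  exact hsr.mul_left_injective h2

end Final

end Groth.Agent.H9.SG
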