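import Mathlib
import Groth.Prelude.Def_QuadGrp2
import Groth.Agent.Lib.Helper9.Misc.SG5

/-! Square-zero lifting lemmas for quadratic forms, in matrices and on free modules (helper9). -/

set_option autoImplicit false

open Matrix

namespace Groth.Agent.H9.SO

open Groth.Agent.H9.SG

universe u

section MatIn

variable {n : ℕ} {B : Type*} [CommRing B] (I : Ideal B)

/-- all entries lie in `I` -/
def MatIn (N : Matrix (Fin n) (Fin n) B) : Prop := ∀ i j, N i j ∈ I

variable {I}

theorem MatIn.zero : MatIn I (0 : Matrix (Fin n) (Fin n) B) := fun _ _ => I.zero_mem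

theorem MatIn.add {N₁ N₂ : Matrix (Fin n) (Fin n) B} (h1 : MatIn I N₁) (h2 : MatIn I N₂) :
    MatIn I (N₁ + N₂) := fun i j => I.add_mem (h1 i j) (h2 i j)

theorem MatIn.neg {N : Matrix (Fin n) (Fin n) B} (h : MatIn I N) : MatIn I (-N) :=
  fun i j => I.neg_mem (h i j)

theorem MatIn.smul {N : Matrix (Fin n) (Fin n) B} (h : MatIn I N) (r : B) : MatIn I (r • N) :=
  fun i j => I.mul_mem_left r (h i j)

theorem MatIn.transpose {N : Matrix (Fin n) (Fin n) B} (h : MatIn I N) : MatIn I Nᵀ :=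
  fun i j => h j i

theorem MatIn.mul_left {N : Matrix (Fin n) (Fin n) B} (h : MatIn I N)
    (A : Matrix (Fin n) (Fin n) B) : MatIn I (A * N) := fun i k => by
  rw [Matrix.mul_apply]
  exact I.sum_mem fun j _ => I.mul_mem_left _ (h j k)

theorem MatIn.mul_right {N : Matrix (Fin n) (Fin n) B} (h : MatIn I N)
    (A : Matrix (Fin n) (Fin n) B) : MatIn I (N * A) := fun i k => by
  rw [Matrix.mul_apply]
  exact I.sum_mem fun j _ => I.mul_mem_right _ (h i j)

theorem MatIn.mul_eq_zero (hI : ∀ x ∈ I, ∀ y ∈ I, x * y = 0) {N₁ N₂ : Matrix (Fin n) (Fin n) B}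
    (h1 : MatIn I N₁) (h2 : MatIn I N₂) : N₁ * N₂ = 0 := by
  ext i k
  rw [Matrix.mul_apply, Matrix.zero_apply]
  exact Finset.sum_eq_zero fun j _ => hI _ (h1 i j) _ (h2 j k)

theorem one_add_mul_one_sub (hI : ∀ x ∈ I, ∀ y ∈ I, x * y = 0) {η : Matrix (Fin n) (Fin n) B}
    (h : MatIn I η) : (1 + η) * (1 - η) = 1 ∧ (1 - η) * (1 + η) = 1 := by
  have hηη := MatIn.mul_eq_zero hI h h
  constructor
  · have e : (1 + η) * (1 - η) = 1 - η * η := by noncomm_ring
    rw [e, hηη, sub_zero]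
  · have e : (1 - η) * (1 + η) = 1 - η * η := by noncomm_ring
    rw [e, hηη, sub_zero]

/-- a matrix congruent to one has determinant congruent to one -/
theorem det_eq_one_add {H : Matrix (Fin n) (Fin n) B} (h : MatIn I (H - 1)) :
    ∃ s ∈ I, H.det = 1 + s := by
  refine ⟨H.det - 1, ?_, by ring⟩
  rw [← Ideal.Quotient.eq_zero_iff_mem, map_sub, map_one, RingHom.map_det]
  have : (Ideal.Quotient.mk I).mapMatrix H = 1 := by
    ext i j
    show Ideal.Quotient.mk I (H i j) = (1 : Matrix (Fin n) (Fin n) (B ⧸ I)) i j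
    have h1 : H i j = (H - 1) i j + (1 : Matrix (Fin n) (Fin n) B) i j := by
      rw [Matrix.sub_apply]; ring
    rw [h1, map_add, Ideal.Quotient.eq_zero_iff_mem.mpr (h i j), zero_add, Matrix.one_apply,
      Matrix.one_apply]
    split_ifs
    · exact map_one _
    · exact map_zero _
  rw [this, Matrix.det_one, sub_self]

theorem IsAltMat.zero' : IsAltMat (0 : Matrix (Fin n) (Fin n) B) :=
  ⟨fun _ => rfl, fun _ _ => by simp⟩

theorem IsAltMat.add' {E F : Matrix (Fin n) (Fin n) B} (h1 : IsAltMat E) (h2 : IsAltMat F) :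
    IsAltMat (E + F) :=
  ⟨fun j => by rw [Matrix.add_apply, h1.1, h2.1, add_zero], fun j k => by
    rw [Matrix.add_apply, Matrix.add_apply]
    linear_combination h1.2 j k + h2.2 j k⟩

theorem IsAltMat.smul' {E : Matrix (Fin n) (Fin n) B} (h1 : IsAltMat E) (r : B) :
    IsAltMat (r • E) :=
  ⟨fun j => by rw [Matrix.smul_apply, h1.1, smul_zero], fun j k => by
    rw [Matrix.smul_apply, Matrix.smul_apply, ← smul_add, h1.2, smul_zero]⟩

/-- expansion of the defect to first order -/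
theorem expand_defect (hI : ∀ x ∈ I, ∀ y ∈ I, x * y = 0) (c c₁ η : Matrix (Fin n) (Fin n) B)
    (hη : MatIn I η) :
    (1 + η)ᵀ * c₁ * (1 + η) - c = (c₁ - c) + (ηᵀ * c₁ + c₁ * η) := by
  have hq : ηᵀ * c₁ * η = 0 := MatIn.mul_eq_zero hI (hη.transpose.mul_right c₁) hη
  have e : (1 + η)ᵀ * c₁ * (1 + η) - c = (c₁ - c) + (ηᵀ * c₁ + c₁ * η) + ηᵀ * c₁ * η := by
    rw [Matrix.transpose_add, Matrix.transpose_one]
    noncomm_ring
  rw [e, hq, add_zero]

/-- solving the linearised isometry equation for a regular form -/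
theorem exists_eta (hI : ∀ x ∈ I, ∀ y ∈ I, x * y = 0) (c c₁ T : Matrix (Fin n) (Fin n) B)
    (hT : (c + cᵀ) * T = 1)
    (hd : ∀ j, (c₁ - c) j j ∈ I) (hod : ∀ j k, (c₁ - c) j k + (c₁ - c) k j ∈ I) :
    ∃ η, MatIn I η ∧ IsAltMat ((1 + η)ᵀ * c₁ * (1 + η) - c) := by
  obtain ⟨Z, hZ⟩ : ∃ Z : Matrix (Fin n) (Fin n) B, Z = Matrix.of fun j k =>
      if j = k then -((c₁ - c) j j) else
        if j < k then -((c₁ - c) j k + (c₁ - c) k j) else 0 := ⟨_, rfl⟩
  have hZin : MatIn I Z := by
    intro j k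
    rw [hZ, Matrix.of_apply]
    split_ifs
    · exact I.neg_mem (hd j)
    · exact I.neg_mem (hod j k)
    · exact I.zero_mem
  have hZd : ∀ j, Z j j = -((c₁ - c) j j) := fun j => by
    rw [hZ, Matrix.of_apply, if_pos rfl]
  have hZod : ∀ j k, j ≠ k → Z j k + Z k j = -((c₁ - c) j k + (c₁ - c) k j) := by
    intro j k hjk
    rw [hZ, Matrix.of_apply, Matrix.of_apply, if_neg hjk, if_neg (Ne.symm hjk)]
    rcases lt_or_gt_of_ne hjk with h | h
    · rw [if_pos h, if_neg (not_lt.mpr h.le), add_zero]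
    · rw [if_neg (not_lt.mpr h.le), if_pos h, zero_add, add_comm]
  have hη : MatIn I (T * Z) := hZin.mul_left T
  refine ⟨T * Z, hη, ?_⟩
  have hS : (c + cᵀ) * (T * Z) = Z := by rw [← Matrix.mul_assoc, hT, Matrix.one_mul]
  have hEE : MatIn I ((c₁ - c) + (c₁ - c)ᵀ) := by
    intro j k
    rw [Matrix.add_apply, Matrix.transpose_apply]
    exact hod j k
  have hzero : ((c₁ - c) + (c₁ - c)ᵀ) * (T * Z) = 0 := MatIn.mul_eq_zero hI hEE hη
  have hZ' : Z = c₁ * (T * Z) + c₁ᵀ * (T * Z) := by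
    have e : c₁ * (T * Z) + c₁ᵀ * (T * Z) =
        (c + cᵀ) * (T * Z) + ((c₁ - c) + (c₁ - c)ᵀ) * (T * Z) := by
      rw [Matrix.transpose_sub]
      noncomm_ring
    rw [e, hS, hzero, add_zero]
  rw [expand_defect hI c c₁ _ hη]
  have hF : (T * Z)ᵀ * c₁ = (c₁ᵀ * (T * Z))ᵀ := by
    rw [Matrix.transpose_mul c₁ᵀ, Matrix.transpose_transpose]
  rw [hF]
  have hdiag : ∀ j, ((c₁ - c) + ((c₁ᵀ * (T * Z))ᵀ + c₁ * (T * Z))) j j = 0 := by
    intro j
    rw [Matrix.add_apply, Matrix.add_apply, Matrix.transpose_apply]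
    have h2 := congrFun (congrFun hZ' j) j
    rw [Matrix.add_apply, hZd] at h2
    linear_combination (-1 : B) * h2
  refine ⟨hdiag, fun j k => ?_⟩
  by_cases hjk : j = k
  · subst hjk
    rw [hdiag, add_zero]
  · rw [Matrix.add_apply, Matrix.add_apply, Matrix.add_apply, Matrix.add_apply,
      Matrix.transpose_apply, Matrix.transpose_apply]
    have h2 := congrFun (congrFun hZ' j) k
    have h3 := congrFun (congrFun hZ' k) j
    have h4 := hZod j k hjk
    rw [Matrix.add_apply] at h2 h3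
    linear_combination h4 - h2 - h3

end MatIn

section Module

variable {B : Type*} [CommRing B] (I : Ideal B) {N : Type*} [AddCommGroup N] [Module B N]

/-- vectors with all coordinates in `I` -/
theorem small_iff {p : ℕ} (b : Module.Basis (Fin p) B N) (w : N) :
    w ∈ I • (⊤ : Submodule B N) ↔ ∀ i, b.repr w i ∈ I := by
  constructor
  · intro h i
    refine Submodule.smul_induction_on h (fun r hr m _ => ?_) (fun x y hx hy => ?_)
    · rw [map_smul, Finsupp.smul_apply, smul_eq_mul]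
      exact I.mul_mem_right _ hr
    · rw [map_add, Finsupp.add_apply]
      exact I.add_mem hx hy
  · intro h
    rw [← b.sum_repr w]
    exact Submodule.sum_mem _ fun i _ => Submodule.smul_mem_smul (h i) Submodule.mem_top

/-- values of an alternating-mod-`I` bilinear form on the diagonal lie in `I` -/
theorem alt_mod {p : ℕ} (b : Module.Basis (Fin p) B N) (γ : N →ₗ[B] N →ₗ[B] B)
    (hd : ∀ j, LinearMap.toMatrix₂ b b γ j j ∈ I)
    (hod : ∀ j k, LinearMap.toMatrix₂ b b γ j k + LinearMap.toMatrix₂ b b γ k j ∈ I) (v : N) :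
    γ v v ∈ I := by
  let q' := LinearMap.BilinMap.toQuadraticMap γ
  have e : γ v v = (q'.toBilin b) v v := by
    have h1 := QuadraticMap.toQuadraticMap_toBilin q' b
    have h2 := congrArg (fun q => q v) h1
    simp only [LinearMap.BilinMap.toQuadraticMap_apply] at h2
    exact h2.symm
  rw [e, ← LinearMap.sum_repr_mul_repr_mul b b (B := q'.toBilin b) v v]
  refine Ideal.sum_mem _ fun i _ => Ideal.sum_mem _ fun j _ => ?_
  show (b.repr v) i • (b.repr v) j • ((q'.toBilin b) (b i)) (b j) ∈ I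
  rw [smul_eq_mul, smul_eq_mul]
  apply I.mul_mem_left
  apply I.mul_mem_left
  rw [QuadraticMap.toBilin_apply]
  split_ifs with h1 h2
  · have := hd i
    rw [LinearMap.toMatrix₂_apply] at this
    exact this
  · rw [LinearMap.BilinMap.polar_toQuadraticMap]
    have := hod i j
    rw [LinearMap.toMatrix₂_apply, LinearMap.toMatrix₂_apply] at this
    exact this
  · exact I.zero_mem

variable {I}

/-- lifting the identity to an isometry between congruent regular forms -/
theorem exists_isometry_regular {p : ℕ} (b : Module.Basis (Fin p) B N)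
    (hI : ∀ x ∈ I, ∀ y ∈ I, x * y = 0) (q q₁ : QuadraticForm B N)
    (hq : QuadGrp.IsRegular q) (hcong : ∀ v, q₁ v - q v ∈ I) :
    ∃ h : N →ₗ[B] N, (∀ v, q₁ (h v) = q v) ∧ MatIn I (LinearMap.toMatrix b b h - 1) := by
  let β := q.toBilin b
  let β₁ := q₁.toBilin b
  have hβ : ∀ v, β v v = q v := fun v => by
    have := congrArg (fun q => q v) (QuadraticMap.toQuadraticMap_toBilin q b)
    exact this
  have hβ₁ : ∀ v, β₁ v v = q₁ v := fun v => by
    have := congrArg (fun q => q v) (QuadraticMap.toQuadraticMap_toBilin q₁ b)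
    exact this
  have hpol : ∀ x y, β x y + β y x = QuadraticMap.polar q x y := fun x y => by
    rw [← LinearMap.BilinMap.polar_toQuadraticMap, QuadraticMap.toQuadraticMap_toBilin]
  have hpol₁ : ∀ x y, β₁ x y + β₁ y x = QuadraticMap.polar q₁ x y := fun x y => by
    rw [← LinearMap.BilinMap.polar_toQuadraticMap, QuadraticMap.toQuadraticMap_toBilin]
  let c := LinearMap.toMatrix₂ b b β
  let c₁ := LinearMap.toMatrix₂ b b β₁
  have hc : ∀ i j, c i j = β (b i) (b j) := fun i j => LinearMap.toMatrix₂_apply b b β i j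
  have hc₁ : ∀ i j, c₁ i j = β₁ (b i) (b j) := fun i j => LinearMap.toMatrix₂_apply b b β₁ i j
  have hgram : c + cᵀ = Groth.Agent.H9.QG.gram b q := by
    ext i j
    rw [Matrix.add_apply, Matrix.transpose_apply, hc, hc, Groth.Agent.H9.QG.gram, Matrix.of_apply]
    exact hpol _ _
  have hu : IsUnit (c + cᵀ).det := by
    rw [hgram]
    exact (Groth.Agent.H9.QG.isRegular_iff_isUnit_det b q).mp hq
  have hT : (c + cᵀ) * (c + cᵀ)⁻¹ = 1 := Matrix.mul_nonsing_inv _ hu
  have hd : ∀ j, (c₁ - c) j j ∈ I := fun j => by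
    rw [Matrix.sub_apply, hc, hc₁, hβ, hβ₁]
    exact hcong _
  have hod : ∀ j k, (c₁ - c) j k + (c₁ - c) k j ∈ I := fun j k => by
    rw [Matrix.sub_apply, Matrix.sub_apply, hc, hc, hc₁, hc₁]
    have e : β₁ (b j) (b k) - β (b j) (b k) + (β₁ (b k) (b j) - β (b k) (b j)) =
        (q₁ (b j + b k) - q (b j + b k)) - (q₁ (b j) - q (b j)) - (q₁ (b k) - q (b k)) := by
      have h1 := hpol (b j) (b k)
      have h2 := hpol₁ (b j) (b k)
      rw [QuadraticMap.polar] at h1 h2
      linear_combination h2 - h1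
    rw [e]
    exact I.sub_mem (I.sub_mem (hcong _) (hcong _)) (hcong _)
  obtain ⟨η, hη, halt⟩ := exists_eta hI c c₁ _ hT hd hod
  refine ⟨Matrix.toLin b b (1 + η), ?_, ?_⟩
  · intro v
    have hγ : LinearMap.toMatrix₂ b b
        (β₁.compl₁₂ (Matrix.toLin b b (1 + η)) (Matrix.toLin b b (1 + η)) - β) =
        (1 + η)ᵀ * c₁ * (1 + η) - c := by
      have h1 := LinearMap.toMatrix₂_compl₁₂ b b b b β₁ (Matrix.toLin b b (1 + η))
        (Matrix.toLin b b (1 + η))
      rw [LinearMap.toMatrix_toLin] at h1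
      rw [← h1]
      ext i j
      simp only [LinearMap.toMatrix₂_apply, LinearMap.sub_apply, Matrix.sub_apply, c]
    have h2 := (alt_iff b _).mpr (hγ ▸ halt) v
    rw [LinearMap.sub_apply, LinearMap.sub_apply, LinearMap.compl₁₂_apply, sub_eq_zero, hβ₁,
      hβ] at h2
    exact h2
  · rw [LinearMap.toMatrix_toLin, add_sub_cancel_left]
    exact hη

end Module

end Groth.Agent.H9.SO
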