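import Mathlib
import Groth.Prelude.Def_QuadGrp2
import Groth.Agent.Lib.Helper9.Misc.SO1

/-! The basis adapted to an odd splitting and the half-discriminant in it (helper9). -/

set_option autoImplicit false

open Matrix QuadraticMap Groth.Agent.H7.QG Groth.Agent.H9.QG Groth.Agent.H9.QO

namespace Groth.Agent.H9.SO

universe u v

variable {R : Type u} [CommRing R] {M : Type v} [AddCommGroup M] [Module R M]
variable {x₀ : M} {φ₀ : M →ₗ[R] R}

/-- the basis of `M` adapted to the splitting `M = ker φ₀ ⊕ R x₀` -/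
noncomputable def adBasis (h1 : φ₀ x₀ = 1) {p : ℕ}
    (bN : Module.Basis (Fin p) R (LinearMap.ker φ₀)) : Module.Basis (Fin (p + 1)) R M :=
  ((bN.prod (Module.Basis.singleton (Fin 1) R)).map (equivK h1).symm).reindex finSumFinEquiv

theorem equivK_symm_apply (h1 : φ₀ x₀ = 1) (pr : LinearMap.ker φ₀ × R) :
    (equivK h1).symm pr = (pr.1 : M) + pr.2 • x₀ := rfl

theorem adBasis_castAdd (h1 : φ₀ x₀ = 1) {p : ℕ}
    (bN : Module.Basis (Fin p) R (LinearMap.ker φ₀)) (i : Fin p) :
    adBasis h1 bN (Fin.castAdd 1 i) = (bN i : M) := by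
  rw [adBasis, Module.Basis.reindex_apply, ← finSumFinEquiv_apply_left,
    Equiv.symm_apply_apply, Module.Basis.map_apply, Module.Basis.prod_apply, Sum.elim_inl,
    Function.comp_apply, LinearMap.inl_apply, equivK_symm_apply]
  simp

theorem adBasis_natAdd (h1 : φ₀ x₀ = 1) {p : ℕ}
    (bN : Module.Basis (Fin p) R (LinearMap.ker φ₀)) (k : Fin 1) :
    adBasis h1 bN (Fin.natAdd p k) = x₀ := by
  rw [adBasis, Module.Basis.reindex_apply, ← finSumFinEquiv_apply_right,
    Equiv.symm_apply_apply, Module.Basis.map_apply, Module.Basis.prod_apply, Sum.elim_inr,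
    Function.comp_apply, LinearMap.inr_apply, equivK_symm_apply]
  simp

theorem adBasis_repr_castAdd (h1 : φ₀ x₀ = 1) {p : ℕ}
    (bN : Module.Basis (Fin p) R (LinearMap.ker φ₀)) (v : M) (i : Fin p) :
    (adBasis h1 bN).repr v (Fin.castAdd 1 i) = bN.repr (projK h1 v) i := by
  rw [adBasis, Module.Basis.repr_reindex_apply, ← finSumFinEquiv_apply_left,
    Equiv.symm_apply_apply, Module.Basis.map_repr, LinearEquiv.trans_apply,
    LinearEquiv.symm_symm, Module.Basis.prod_repr_inl]
  rfl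

theorem adBasis_repr_natAdd (h1 : φ₀ x₀ = 1) {p : ℕ}
    (bN : Module.Basis (Fin p) R (LinearMap.ker φ₀)) (v : M) (k : Fin 1) :
    (adBasis h1 bN).repr v (Fin.natAdd p k) = φ₀ v := by
  rw [adBasis, Module.Basis.repr_reindex_apply, ← finSumFinEquiv_apply_right,
    Equiv.symm_apply_apply, Module.Basis.map_repr, LinearEquiv.trans_apply,
    LinearEquiv.symm_symm, Module.Basis.prod_repr_inr, Module.Basis.singleton_repr]
  rfl

/-- the half-discriminant in the adapted basis, for a form for which `x₀ ⊥ ker φ₀` -/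
theorem halfDisc_adBasis (h1 : φ₀ x₀ = 1) {p : ℕ} (hp : Even p)
    (bN : Module.Basis (Fin p) R (LinearMap.ker φ₀)) (q' : QuadraticForm R M)
    (horth : ∀ i, polar q' (bN i : M) x₀ = 0) :
    QuadGrp.halfDisc (adBasis h1 bN) (LinearEquiv.refl R R) q' =
      dd (QuadGrp.coeffs bN (LinearEquiv.refl R R) (QK q' φ₀)) * q' x₀ := by
  rw [halfDisc_eq_hd]
  have hblock : IsBlock p 1 (QuadGrp.coeffs (adBasis h1 bN) (LinearEquiv.refl R R) q') := by
    intro i k
    rw [QuadGrp.coeffs_mk, if_neg (castAdd_ne_natAdd' p 1 i k), LinearEquiv.refl_apply,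
      adBasis_castAdd, adBasis_natAdd]
    exact horth i
  have hL : cL p 1 (QuadGrp.coeffs (adBasis h1 bN) (LinearEquiv.refl R R) q') =
      QuadGrp.coeffs bN (LinearEquiv.refl R R) (QK q' φ₀) := by
    funext s
    induction s using Sym2.ind with
    | _ k l =>
      show QuadGrp.coeffs (adBasis h1 bN) (LinearEquiv.refl R R) q'
        (Sym2.map (Fin.castAdd 1) s(k, l)) = _
      rw [Sym2.map_mk, QuadGrp.coeffs_mk, QuadGrp.coeffs_mk]
      simp only [Fin.castAdd_inj, adBasis_castAdd, LinearEquiv.refl_apply]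
      split_ifs
      · rfl
      · exact (polar_QK _ _).symm
  have hR : hd (cR p 1 (QuadGrp.coeffs (adBasis h1 bN) (LinearEquiv.refl R R) q')) = q' x₀ := by
    rw [hd_one]
    show QuadGrp.coeffs (adBasis h1 bN) (LinearEquiv.refl R R) q'
      (Sym2.map (Fin.natAdd p) s((0 : Fin 1), 0)) = _
    rw [Sym2.map_mk, QuadGrp.coeffs_mk, if_pos rfl, adBasis_natAdd, LinearEquiv.refl_apply]
  rw [hd_block (by decide) hp _ hblock, hL, hR]

/-- change of basis for the half-discriminant -/
theorem halfDisc_change {n : ℕ} (hn : Odd n) (b b'' : Module.Basis (Fin n) R M)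
    (q' : QuadraticForm R M) :
    QuadGrp.halfDisc b'' (LinearEquiv.refl R R) q' =
      LinearMap.det ((b.equiv b'' (Equiv.refl _) : M ≃ₗ[R] M) : M →ₗ[R] M) ^ 2 *
        QuadGrp.halfDisc b (LinearEquiv.refl R R) q' := by
  have h1 := halfDisc_comp hn b q' ((b.equiv b'' (Equiv.refl _) : M ≃ₗ[R] M) : M →ₗ[R] M)
  rw [halfDisc_eq_hd, coeffs_comp_equiv] at h1
  rw [halfDisc_eq_hd b'' q', h1]

end Groth.Agent.H9.SO
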