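import Mathlib
import Groth.Prelude.Def_QuadGrp2
import Groth.Agent.Lib.Helper9.Misc.SO2

/-! Lifting the identity to an isometry between congruent semiregular forms of odd rank with
congruent half-discriminants, over a local ring (helper9). -/

set_option autoImplicit false

open Matrix QuadraticMap Groth.Agent.H7.QG Groth.Agent.H9.QG Groth.Agent.H9.QO

namespace Groth.Agent.H9.SO

universe u v

section Small

variable {R : Type u} [CommRing R] (I : Ideal R) {T : Type v} [AddCommGroup T] [Module R T]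

theorem matIn_of_small {p : ℕ} (b' : Module.Basis (Fin p) R T) (f : T →ₗ[R] T)
    (h : ∀ v, f v - v ∈ I • (⊤ : Submodule R T)) : MatIn I (LinearMap.toMatrix b' b' f - 1) := by
  intro i j
  have e : (LinearMap.toMatrix b' b' f - 1) i j = b'.repr (f (b' j) - b' j) i := by
    rw [Matrix.sub_apply, LinearMap.toMatrix_apply, map_sub, Finsupp.sub_apply,
      Module.Basis.repr_self, Finsupp.single_apply, Matrix.one_apply]
    congr 1
    by_cases hij : j = i
    · rw [if_pos hij, if_pos hij.symm]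
    · rw [if_neg hij, if_neg (fun h => hij h.symm)]
  rw [e]
  exact (small_iff I b' _).mp (h _) i

theorem small_of_matIn {p : ℕ} (b' : Module.Basis (Fin p) R T) (f : T →ₗ[R] T)
    (h : MatIn I (LinearMap.toMatrix b' b' f - 1)) (v : T) :
    f v - v ∈ I • (⊤ : Submodule R T) := by
  rw [small_iff I b']
  intro i
  have e : b'.repr (f v - v) i = ((LinearMap.toMatrix b' b' f - 1).mulVec (b'.repr v)) i := by
    rw [Matrix.sub_mulVec, Matrix.one_mulVec, LinearMap.toMatrix_mulVec_repr, map_sub,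
      Finsupp.sub_apply, Pi.sub_apply]
  rw [e, Matrix.mulVec, dotProduct]
  exact I.sum_mem fun j _ => I.mul_mem_right _ (h i j)

end Small

variable {R : Type u} [CommRing R] [IsLocalRing R] {T : Type v} [AddCommGroup T] [Module R T]

theorem exists_isometry_odd (I : Ideal R) (hI : ∀ x ∈ I, ∀ y ∈ I, x * y = 0) (m : ℕ)
    (b : Module.Basis (Fin (2 * m + 1)) R T) (q q₁ : QuadraticForm R T)
    (hq : QuadGrp.IsSemiregular b (LinearEquiv.refl R R) q)
    (hcong : ∀ v, q₁ v - q v ∈ I)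
    (hhd : ∃ t ∈ I, QuadGrp.halfDisc b (LinearEquiv.refl R R) q₁ =
      (1 + 2 * t) * QuadGrp.halfDisc b (LinearEquiv.refl R R) q) :
    ∃ h : T →ₗ[R] T, (∀ v, q₁ (h v) = q v) ∧ MatIn I (LinearMap.toMatrix b b h - 1) := by
  classical
  haveI : Module.Free R T := Module.Free.of_basis b
  haveI : Module.Finite R T := Module.Finite.of_basis b
  have hn : Odd (2 * m + 1) := ⟨m, rfl⟩
  obtain ⟨x₀, φ₀, hs⟩ := exists_oddSplit m T q (2 * m + 1) rfl b hq
  haveI := finite_K hs.one
  haveI := free_K hs.one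
  have hfr : Module.finrank R (LinearMap.ker φ₀) = 2 * m := by
    have h1 := finrank_K hs.one
    rw [Module.finrank_eq_card_basis b, Fintype.card_fin] at h1
    omega
  obtain ⟨bN⟩ : Nonempty (Module.Basis (Fin (2 * m)) R (LinearMap.ker φ₀)) :=
    ⟨Module.finBasisOfFinrankEq R _ hfr⟩
  -- facts on the adapted basis
  obtain ⟨bA, hbA⟩ : ∃ bA : Module.Basis (Fin (2 * m + 1)) R T, bA = adBasis hs.one bN := ⟨_, rfl⟩
  have hA1 : ∀ (v : T) (j : Fin (2 * m)),
      bA.repr v (Fin.castAdd 1 j) = bN.repr (projK hs.one v) j := by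
    intro v j; rw [hbA]; exact adBasis_repr_castAdd hs.one bN v j
  have hA2 : ∀ (v : T) (k : Fin 1), bA.repr v (Fin.natAdd (2 * m) k) = φ₀ v := by
    intro v k; rw [hbA]; exact adBasis_repr_natAdd hs.one bN v k
  have hA3 : ∀ q' : QuadraticForm R T, (∀ i, polar q' (bN i : T) x₀ = 0) →
      QuadGrp.halfDisc bA (LinearEquiv.refl R R) q' =
        dd (QuadGrp.coeffs bN (LinearEquiv.refl R R) (QK q' φ₀)) * q' x₀ := by
    intro q' h; rw [hbA]; exact halfDisc_adBasis hs.one ⟨m, by ring⟩ bN q' h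
  have hcoe_small : ∀ w : LinearMap.ker φ₀, (∀ j, bN.repr w j ∈ I) →
      (w : T) ∈ I • (⊤ : Submodule R T) := by
    intro w hw
    rw [small_iff I bA]
    intro i
    refine Fin.addCases (fun j => ?_) (fun k => ?_) i
    · rw [hA1, projK_ker]; exact hw j
    · rw [hA2, LinearMap.mem_ker.mp w.2]; exact I.zero_mem
  -- step 1: the regular part
  have hregN := isRegular_QK hs
  have hcongN : ∀ n : LinearMap.ker φ₀, QK q₁ φ₀ n - QK q φ₀ n ∈ I := fun n => hcong _
  obtain ⟨hN, hNiso, hNsmall⟩ :=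
    exists_isometry_regular bN hI (QK q φ₀) (QK q₁ φ₀) hregN hcongN
  obtain ⟨s, hsI, hdetN⟩ := det_eq_one_add hNsmall
  have hcomp : QK q φ₀ = (QK q₁ φ₀).comp hN := QuadraticMap.ext fun n => (hNiso n).symm
  have hdd : dd (QuadGrp.coeffs bN (LinearEquiv.refl R R) (QK q φ₀)) =
      (1 + s) ^ 2 * dd (QuadGrp.coeffs bN (LinearEquiv.refl R R) (QK q₁ φ₀)) := by
    conv_lhs => rw [hcomp]
    rw [coeffs_comp, dd_transCoeffs, hdetN]
  have hddu : IsUnit (dd (QuadGrp.coeffs bN (LinearEquiv.refl R R) (QK q φ₀))) := by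
    rw [dd_eq_det, ← gram_eq_polMat]
    exact (isRegular_iff_isUnit_det bN _).mp hregN
  have hddu₁ : IsUnit (dd (QuadGrp.coeffs bN (LinearEquiv.refl R R) (QK q₁ φ₀))) := by
    rw [hdd] at hddu
    exact isUnit_of_mul_isUnit_right hddu
  have hG : IsUnit (gram bN (QK q₁ φ₀)).det := by
    rw [gram_eq_polMat, ← dd_eq_det]; exact hddu₁
  have hregN₁ : QuadGrp.IsRegular (QK q₁ φ₀) := (isRegular_iff_isUnit_det bN _).mpr hG
  -- step 2: the corrected vector
  obtain ⟨ν, hν⟩ := hregN₁.2 ((polarBilin q₁ x₀) ∘ₗ (LinearMap.ker φ₀).subtype)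
  have hν' : ∀ n : LinearMap.ker φ₀, polar q₁ (ν : T) (n : T) = polar q₁ x₀ (n : T) := by
    intro n
    have := LinearMap.congr_fun hν n
    rw [polarBilin_apply_apply, polar_QK] at this
    exact this
  have hpolcong : ∀ x y, polar q₁ x y - polar q x y ∈ I := fun x y => by
    have e : polar q₁ x y - polar q x y =
        (q₁ (x + y) - q (x + y)) - (q₁ x - q x) - (q₁ y - q y) := by
      simp only [polar]; ring
    rw [e]
    exact I.sub_mem (I.sub_mem (hcong _) (hcong _)) (hcong _)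
  have hfI : ∀ n : LinearMap.ker φ₀, polar q₁ x₀ (n : T) ∈ I := fun n => by
    have h0 : polar q x₀ (n : T) = 0 := hs.orth _ (LinearMap.mem_ker.mp n.2)
    have := hpolcong x₀ (n : T)
    rwa [h0, sub_zero] at this
  have hνI : ∀ i, bN.repr ν i ∈ I := by
    have hGy : (gram bN (QK q₁ φ₀)).mulVec (fun j => bN.repr ν j) =
        fun i => polar q₁ x₀ (bN i : T) := by
      funext i
      rw [Matrix.mulVec, dotProduct]
      have e1 : polar (QK q₁ φ₀) (bN i) ν =
          ∑ j, gram bN (QK q₁ φ₀) i j * bN.repr ν j := by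
        conv_lhs => rw [← bN.sum_repr ν]
        rw [← polarBilin_apply_apply, map_sum]
        refine Finset.sum_congr rfl fun j _ => ?_
        rw [map_smul, polarBilin_apply_apply, smul_eq_mul, mul_comm]
        rfl
      rw [← e1, polar_QK, polar_comm, hν']
    have hy : (fun j => bN.repr ν j) =
        (gram bN (QK q₁ φ₀))⁻¹.mulVec (fun i => polar q₁ x₀ (bN i : T)) := by
      rw [← hGy, Matrix.mulVec_mulVec, Matrix.nonsing_inv_mul _ hG, Matrix.one_mulVec]
    intro i
    have := congrFun hy i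
    rw [this, Matrix.mulVec, dotProduct]
    exact I.sum_mem fun j _ => I.mul_mem_left _ (hfI _)
  have hνsmall : (ν : T) ∈ I • (⊤ : Submodule R T) := hcoe_small ν hνI
  -- the transvection
  obtain ⟨τ, hτ⟩ : ∃ τ : T →ₗ[R] T, ∀ v, τ v = v - φ₀ v • (ν : T) :=
    ⟨LinearMap.id - φ₀.smulRight (ν : T), fun v => rfl⟩
  have hτN : ∀ n : LinearMap.ker φ₀, τ (n : T) = n := fun n => by
    rw [hτ, LinearMap.mem_ker.mp n.2, zero_smul, sub_zero]
  have hτx : τ x₀ = x₀ - ν := by rw [hτ, hs.one, one_smul]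
  have hτsmall : ∀ v, τ v - v ∈ I • (⊤ : Submodule R T) := fun v => by
    have : τ v - v = -(φ₀ v • (ν : T)) := by rw [hτ]; abel
    rw [this]
    exact Submodule.neg_mem _ (Submodule.smul_mem _ _ hνsmall)
  have hblock' : ∀ n : LinearMap.ker φ₀, polar (q₁.comp τ) (n : T) x₀ = 0 := by
    intro n
    have e : polar (q₁.comp τ) (n : T) x₀ = polar q₁ (τ n) (τ x₀) := by
      simp only [polar, QuadraticMap.comp_apply, map_add]
    rw [e, hτN, hτx, polar_sub_right, polar_comm q₁ (n : T) x₀, polar_comm q₁ (n : T) ν, hν',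
      sub_self]
  have hQK' : QK (q₁.comp τ) φ₀ = QK q₁ φ₀ := QuadraticMap.ext fun n => by
    rw [QK_apply, QK_apply, QuadraticMap.comp_apply, hτN]
  -- half-discriminants
  obtain ⟨s'', hs''I, hdetτ⟩ := det_eq_one_add (matIn_of_small I bA τ hτsmall)
  obtain ⟨t, htI, hhd'⟩ := hhd
  have hd1 := hA3 (q₁.comp τ) (fun i => hblock' (bN i))
  rw [hQK'] at hd1
  have hd0 := hA3 q (fun i => by
    rw [polar_comm]; exact hs.orth _ (LinearMap.mem_ker.mp (bN i).2))
  have hd2 := halfDisc_comp hn bA q₁ τ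
  rw [← LinearMap.det_toMatrix bA, hdetτ] at hd2
  have hc1 := halfDisc_change hn b bA q₁
  have hc0 := halfDisc_change hn b bA q
  have key : dd (QuadGrp.coeffs bN (LinearEquiv.refl R R) (QK q₁ φ₀)) * (q₁.comp τ) x₀ =
      dd (QuadGrp.coeffs bN (LinearEquiv.refl R R) (QK q₁ φ₀)) *
        ((1 + s'') ^ 2 * (1 + 2 * t) * (1 + s) ^ 2 * q x₀) := by
    have e8 : LinearMap.det ((b.equiv bA (Equiv.refl _) : T ≃ₗ[R] T) : T →ₗ[R] T) ^ 2 *
        QuadGrp.halfDisc b (LinearEquiv.refl R R) q =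
        (1 + s) ^ 2 * dd (QuadGrp.coeffs bN (LinearEquiv.refl R R) (QK q₁ φ₀)) * q x₀ := by
      rw [← hc0, hd0, hdd]
    rw [← hd1, hd2, hc1, hhd']
    linear_combination ((1 + s'') ^ 2 * (1 + 2 * t)) * e8
  have key' := hddu₁.mul_left_cancel key
  have hpp : s'' * s'' = 0 := hI _ hs''I _ hs''I
  have hss : s * s = 0 := hI _ hsI _ hsI
  have hpt : s'' * t = 0 := hI _ hs''I _ htI
  have hps : s'' * s = 0 := hI _ hs''I _ hsI
  have hts : t * s = 0 := hI _ htI _ hsI
  obtain ⟨r, hr, hrI⟩ : ∃ r, r = s'' + t + s ∧ r ∈ I :=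
    ⟨_, rfl, I.add_mem (I.add_mem hs''I htI) hsI⟩
  have hrr : r * r = 0 := hI _ hrI _ hrI
  have ha₁ : (q₁.comp τ) x₀ = (1 + 2 * r) * q x₀ := by
    have e_p : (1 + s'') ^ 2 = 1 + 2 * s'' := by linear_combination hpp
    have e_s : (1 + s) ^ 2 = 1 + 2 * s := by linear_combination hss
    rw [key', e_p, e_s, hr]
    linear_combination (q x₀) * (4 * hpt + 4 * hps + 4 * hts + 8 * s * hpt)
  -- the isometry
  obtain ⟨h', hh'⟩ : ∃ h' : T →ₗ[R] T, ∀ v,
      h' v = (hN (projK hs.one v) : T) + ((1 - r) * φ₀ v) • x₀ :=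
    ⟨(LinearMap.ker φ₀).subtype ∘ₗ hN ∘ₗ projK hs.one + ((1 - r) • φ₀).smulRight x₀,
      fun v => rfl⟩
  have hiso' : ∀ v, (q₁.comp τ) (h' v) = q v := by
    intro v
    have e1 : (q₁.comp τ) ((hN (projK hs.one v) : T)) = q ((projK hs.one v : T)) := by
      have := hNiso (projK hs.one v)
      rw [QK_apply, QK_apply] at this
      rw [QuadraticMap.comp_apply, hτN]
      exact this
    have e2 : q v = q ((projK hs.one v : T)) + φ₀ v * φ₀ v * q x₀ := by
      conv_lhs => rw [decompK hs.one v]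
      rw [QuadraticMap.map_add q, QuadraticMap.map_smul, polar_smul_right, polar_comm,
        hs.orth _ (LinearMap.mem_ker.mp (projK hs.one v).2)]
      simp
    rw [hh', QuadraticMap.map_add (q₁.comp τ), QuadraticMap.map_smul, polar_smul_right, hblock', e1, ha₁, e2]
    simp only [smul_eq_mul, mul_zero, add_zero]
    linear_combination (φ₀ v * φ₀ v * q x₀ * (-3 + 2 * r)) * hrr
  refine ⟨τ ∘ₗ h', fun v => ?_, ?_⟩
  · rw [LinearMap.comp_apply, ← hiso' v]
    rfl
  · apply matIn_of_small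
    intro v
    have e1 : (τ ∘ₗ h') v - v = (τ (h' v) - h' v) + (h' v - v) := by
      rw [LinearMap.comp_apply]; abel
    rw [e1]
    refine Submodule.add_mem _ (hτsmall _) ?_
    have hv := decompK hs.one v
    have e2 : h' v - v = ((hN (projK hs.one v) - projK hs.one v : LinearMap.ker φ₀) : T) +
        (-(r * φ₀ v)) • x₀ := by
      rw [hh', Submodule.coe_sub]
      have e3 : ((hN (projK hs.one v) : T) + ((1 - r) * φ₀ v) • x₀) - v =
          ((hN (projK hs.one v) : T) + ((1 - r) * φ₀ v) • x₀) -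
            ((projK hs.one v : T) + φ₀ v • x₀) := by rw [← hv]
      rw [e3]
      module
    rw [e2]
    refine Submodule.add_mem _ (hcoe_small _ ?_) ?_
    · have h3 := small_of_matIn I bN hN hNsmall (projK hs.one v)
      exact (small_iff I bN _).mp h3
    · have : (-(r * φ₀ v)) • x₀ = r • ((-φ₀ v) • x₀) := by rw [smul_smul]; ring_nf
      rw [this]
      exact Submodule.smul_mem_smul hrI Submodule.mem_top

end Groth.Agent.H9.SO
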