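import Mathlib
import Groth.Prelude.Def_QuadGrp2
import Groth.Agent.Lib.Helper9.Misc.SO3

/-! Infinitesimal lifting of determinant-one isometries of a semiregular form of odd rank:
the local case in matrices, and the local-to-global principle (helper9). -/

set_option autoImplicit false

open Matrix TensorProduct Groth.Agent.H9.SG

namespace Groth.Agent.H9.SO

universe u

section Kill

variable {B : Type*} [CommRing B] (M : Submonoid B) (B' : Type*) [CommRing B'] [Algebra B B']
  [IsLocalization M B']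

/-- finitely many elements dying in the localization are killed by one denominator -/
theorem exists_kill {ι : Type*} [Fintype ι] [DecidableEq ι] (x : ι → B)
    (h : ∀ i, algebraMap B B' (x i) = 0) : ∃ s ∈ M, ∀ i, s * x i = 0 := by
  have h' : ∀ i, ∃ m : M, (m : B) * x i = 0 := fun i =>
    (IsLocalization.map_eq_zero_iff M B' (x i)).mp (h i)
  choose m hm using h'
  refine ⟨∏ i, (m i : B), Submonoid.prod_mem _ fun i _ => (m i).2, fun i => ?_⟩
  rw [← Finset.mul_prod_erase Finset.univ (fun i => (m i : B)) (Finset.mem_univ i)]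
  rw [mul_comm ((m i : B)), mul_assoc, hm, mul_zero]

/-- common denominator for finitely many elements of an extended ideal -/
theorem exists_den {ι : Type*} [Fintype ι] [DecidableEq ι] (I : Ideal B) (z : ι → B')
    (h : ∀ i, z i ∈ I.map (algebraMap B B')) :
    ∃ s ∈ M, ∃ y : ι → B, (∀ i, y i ∈ I) ∧ ∀ i, algebraMap B B' s * z i = algebraMap B B' (y i) := by
  have h' : ∀ i, ∃ x : I × M, z i * algebraMap B B' x.2 = algebraMap B B' x.1 := fun i =>
    (IsLocalization.mem_map_algebraMap_iff M B').mp (h i)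
  choose x hx using h'
  refine ⟨∏ i, ((x i).2 : B), Submonoid.prod_mem _ fun i _ => (x i).2.2,
    fun i => ((x i).1 : B) * ∏ j ∈ Finset.univ.erase i, ((x j).2 : B),
    fun i => I.mul_mem_right _ (x i).1.2, fun i => ?_⟩
  rw [← Finset.mul_prod_erase Finset.univ (fun i => ((x i).2 : B)) (Finset.mem_univ i), map_mul,
    map_mul, ← hx i]
  ring

end Kill

section Bridge

variable {R : Type u} [CommRing R] {n : ℕ} (Q : QuadraticForm R (Fin n → R))

theorem gammaMat (A : Type u) [CommRing A] [Algebra R A]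
    (g : (A ⊗[R] (Fin n → R)) →ₗ[A] (A ⊗[R] (Fin n → R))) :
    LinearMap.toMatrix₂ (bas R n A) (bas R n A) ((betaA Q A).compl₁₂ g g - betaA Q A) =
      defect (gr A (cQ Q)) (LinearMap.toMatrix (bas R n A) (bas R n A) g) := by
  rw [defect, ← toMatrix₂_betaA, ← LinearMap.toMatrix₂_compl₁₂ (bas R n A) (bas R n A)]
  ext i j
  simp only [LinearMap.toMatrix₂_apply, LinearMap.sub_apply, Matrix.sub_apply]

theorem gamma_apply (A : Type u) [CommRing A] [Algebra R A]
    (g : (A ⊗[R] (Fin n → R)) →ₗ[A] (A ⊗[R] (Fin n → R))) (v : A ⊗[R] (Fin n → R)) :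
    ((betaA Q A).compl₁₂ g g - betaA Q A) v v =
      QuadGrp.baseChangeForm A Q (g v) - QuadGrp.baseChangeForm A Q v := by
  rw [LinearMap.sub_apply, LinearMap.sub_apply, LinearMap.compl₁₂_apply, betaA_apply, betaA_apply]
  rfl

theorem isometry_iff_isAlt (A : Type u) [CommRing A] [Algebra R A]
    (g : (A ⊗[R] (Fin n → R)) →ₗ[A] (A ⊗[R] (Fin n → R))) :
    (∀ v, QuadGrp.baseChangeForm A Q (g v) = QuadGrp.baseChangeForm A Q v) ↔
      IsAltMat (defect (gr A (cQ Q)) (LinearMap.toMatrix (bas R n A) (bas R n A) g)) := by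
  rw [← gammaMat, ← alt_iff (bas R n A)]
  refine forall_congr' fun v => ?_
  rw [gamma_apply, sub_eq_zero]

theorem gr_tower (B B' : Type u) [CommRing B] [Algebra R B] [CommRing B'] [Algebra R B']
    [Algebra B B'] [IsScalarTower R B B'] (c : Matrix (Fin n) (Fin n) R) :
    (algebraMap B B').mapMatrix (gr B c) = gr B' c := by
  ext i j
  show algebraMap B B' (algebraMap R B (c i j)) = algebraMap R B' (c i j)
  rw [← IsScalarTower.algebraMap_apply]

end Bridge

section Local

variable {R : Type u} [CommRing R] {m : ℕ} (Q : QuadraticForm R (Fin (2 * m + 1) → R))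

/-- the local case -/
theorem exists_eta_local
    (hQ : QuadGrp.IsSemiregular (Pi.basisFun R (Fin (2 * m + 1))) (LinearEquiv.refl R R) Q)
    (B' : Type u) [CommRing B'] [IsLocalRing B'] [Algebra R B'] (I' : Ideal B')
    (hI' : ∀ x ∈ I', ∀ y ∈ I', x * y = 0)
    (U₁ V₁ : Matrix (Fin (2 * m + 1)) (Fin (2 * m + 1)) B') (hUV : U₁ * V₁ = 1)
    (hVU : V₁ * U₁ = 1)
    (hd : ∀ j, defect (gr B' (cQ Q)) U₁ j j ∈ I')
    (hod : ∀ j k, defect (gr B' (cQ Q)) U₁ j k + defect (gr B' (cQ Q)) U₁ k j ∈ I')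
    (hdet : U₁.det - 1 ∈ I') :
    ∃ η, MatIn I' η ∧ IsAltMat (defect (gr B' (cQ Q)) (U₁ * (1 + η))) := by
  have hn : Odd (2 * m + 1) := ⟨m, rfl⟩
  let b := bas R (2 * m + 1) B'
  let q := QuadGrp.baseChangeForm B' Q
  let g₁ := (equivOfMat (R := R) B' U₁ V₁ hUV hVU).toLinearMap
  have hg₁ : LinearMap.toMatrix b b g₁ = U₁ := toMatrix_equivOfMat B' U₁ V₁ hUV hVU
  have hsr : QuadGrp.IsSemiregular b (LinearEquiv.refl B' B') q :=
    Groth.Agent.H9.QO.isSemiregular_baseChange B' (Pi.basisFun R (Fin (2 * m + 1))) Q hQ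
  have hcong : ∀ v, (q.comp g₁) v - q v ∈ I' := by
    intro v
    rw [QuadraticMap.comp_apply, ← gamma_apply Q B' g₁ v]
    apply alt_mod I' b
    · intro j
      rw [gammaMat, hg₁]
      exact hd j
    · intro j k
      rw [gammaMat, hg₁]
      exact hod j k
  have hhd : ∃ t ∈ I', QuadGrp.halfDisc b (LinearEquiv.refl B' B') (q.comp g₁) =
      (1 + 2 * t) * QuadGrp.halfDisc b (LinearEquiv.refl B' B') q := by
    refine ⟨U₁.det - 1, hdet, ?_⟩
    rw [Groth.Agent.H7.QG.halfDisc_comp hn b q g₁, ← LinearMap.det_toMatrix b, hg₁]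
    have htt := hI' _ hdet _ hdet
    linear_combination (QuadGrp.halfDisc b (LinearEquiv.refl B' B') q) * htt
  obtain ⟨h, hiso, hsmall⟩ := exists_isometry_odd I' hI' m b q (q.comp g₁) hsr hcong hhd
  refine ⟨LinearMap.toMatrix b b h - 1, hsmall, ?_⟩
  have e : U₁ * (1 + (LinearMap.toMatrix b b h - 1)) = LinearMap.toMatrix b b (g₁ ∘ₗ h) := by
    rw [add_sub_cancel, LinearMap.toMatrix_comp b b b, hg₁]
  rw [e]
  exact (isometry_iff_isAlt Q B' (g₁ ∘ₗ h)).mp fun v => hiso v

end Local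

section Global

variable {R : Type u} [CommRing R] {m : ℕ} (Q : QuadraticForm R (Fin (2 * m + 1) → R))

/-- the local-to-global principle for the linearised lifting problem -/
theorem exists_eta_global
    (hQ : QuadGrp.IsSemiregular (Pi.basisFun R (Fin (2 * m + 1))) (LinearEquiv.refl R R) Q)
    (B : Type u) [CommRing B] [Algebra R B] (I : Ideal B)
    (hI : ∀ x ∈ I, ∀ y ∈ I, x * y = 0)
    (U₁ V₁ : Matrix (Fin (2 * m + 1)) (Fin (2 * m + 1)) B) (hUV : U₁ * V₁ = 1)
    (hVU : V₁ * U₁ = 1)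
    (hd : ∀ j, defect (gr B (cQ Q)) U₁ j j ∈ I)
    (hod : ∀ j k, defect (gr B (cQ Q)) U₁ j k + defect (gr B (cQ Q)) U₁ k j ∈ I)
    (hdet : U₁.det - 1 ∈ I) :
    ∃ η, MatIn I η ∧ IsAltMat (defect (gr B (cQ Q)) (U₁ * (1 + η))) := by
  classical
  obtain ⟨W, hW⟩ : ∃ W, W = U₁ᵀ * gr B (cQ Q) * U₁ := ⟨_, rfl⟩
  obtain ⟨E, hE⟩ : ∃ E, E = defect (gr B (cQ Q)) U₁ := ⟨_, rfl⟩
  have hEW : E = W - gr B (cQ Q) := by rw [hE, hW, defect]
  -- reduction to the linearised problem
  have hexp : ∀ η, MatIn I η → defect (gr B (cQ Q)) (U₁ * (1 + η)) = E + (ηᵀ * W + W * η) := by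
    intro η hη
    have h1 := expand_defect hI (gr B (cQ Q)) W η hη
    rw [← hEW] at h1
    rw [← h1, defect, hW, Matrix.transpose_mul]
    simp only [Matrix.mul_assoc]
  suffices h : ∃ η, MatIn I η ∧ IsAltMat ((1 : B) • E + (ηᵀ * W + W * η)) by
    obtain ⟨η, hη, halt⟩ := h
    refine ⟨η, hη, ?_⟩
    rw [hexp η hη]
    rwa [one_smul] at halt
  -- the ideal of solvable multiples
  let J : Ideal B :=
    { carrier := {b | ∃ η, MatIn I η ∧ IsAltMat (b • E + (ηᵀ * W + W * η))}
      zero_mem' := ⟨0, MatIn.zero, by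
        simp only [zero_smul, Matrix.transpose_zero, Matrix.zero_mul, Matrix.mul_zero, add_zero]
        exact IsAltMat.zero'⟩
      add_mem' := by
        rintro a b ⟨η, hη, h1⟩ ⟨η', hη', h2⟩
        refine ⟨η + η', hη.add hη', ?_⟩
        have e : (a + b) • E + ((η + η')ᵀ * W + W * (η + η')) =
            (a • E + (ηᵀ * W + W * η)) + (b • E + (η'ᵀ * W + W * η')) := by
          rw [Matrix.transpose_add, add_smul, Matrix.add_mul, Matrix.mul_add]
          abel
        rw [e]
        exact IsAltMat.add' h1 h2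
      smul_mem' := by
        rintro c b ⟨η, hη, h1⟩
        refine ⟨c • η, hη.smul c, ?_⟩
        have e : (c • b) • E + ((c • η)ᵀ * W + W * (c • η)) =
            c • (b • E + (ηᵀ * W + W * η)) := by
          rw [Matrix.transpose_smul, Matrix.smul_mul, Matrix.mul_smul, smul_add, smul_add,
            smul_smul, smul_eq_mul]
        rw [e]
        exact IsAltMat.smul' h1 c }
  have hJmem : ∀ b, b ∈ J ↔ ∃ η, MatIn I η ∧ IsAltMat (b • E + (ηᵀ * W + W * η)) :=
    fun b => Iff.rfl
  by_contra hcon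
  have hJne : J ≠ ⊤ := by
    intro h
    apply hcon
    have : (1 : B) ∈ J := by rw [h]; exact Submodule.mem_top
    exact (hJmem 1).mp this
  obtain ⟨P, hPmax, hJP⟩ := Ideal.exists_le_maximal J hJne
  haveI : P.IsPrime := hPmax.isPrime
  let B' := Localization.AtPrime P
  let φ : B →+* B' := algebraMap B B'
  have hII : ∀ x ∈ I.map φ, ∀ y ∈ I.map φ, x * y = 0 := by
    intro x hx y hy
    have h1 : x * y ∈ I.map φ * I.map φ := Ideal.mul_mem_mul hx hy
    have h2 : I * I = ⊥ := by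
      rw [eq_bot_iff, Ideal.mul_le]
      intro a ha b hb
      rw [hI a ha b hb]
      exact Ideal.zero_mem _
    rw [← Ideal.map_mul, h2, Ideal.map_bot] at h1
    exact h1
  have hgr : φ.mapMatrix (gr B (cQ Q)) = gr B' (cQ Q) := gr_tower B B' (cQ Q)
  have hdef : defect (gr B' (cQ Q)) (φ.mapMatrix U₁) = φ.mapMatrix E := by
    rw [hE, ringHom_defect, hgr]
  have hd' : ∀ j, defect (gr B' (cQ Q)) (φ.mapMatrix U₁) j j ∈ I.map φ := fun j => by
    rw [hdef]
    exact Ideal.mem_map_of_mem φ (hE ▸ hd j)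
  have hod' : ∀ j k, defect (gr B' (cQ Q)) (φ.mapMatrix U₁) j k +
      defect (gr B' (cQ Q)) (φ.mapMatrix U₁) k j ∈ I.map φ := fun j k => by
    rw [hdef]
    show φ (E j k) + φ (E k j) ∈ I.map φ
    rw [← map_add]
    exact Ideal.mem_map_of_mem φ (hE ▸ hod j k)
  have hdet' : (φ.mapMatrix U₁).det - 1 ∈ I.map φ := by
    rw [← RingHom.map_det, ← map_one φ, ← map_sub]
    exact Ideal.mem_map_of_mem φ hdet
  obtain ⟨η', hη', halt'⟩ := exists_eta_local Q hQ B' (I.map φ) hII (φ.mapMatrix U₁)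
    (φ.mapMatrix V₁) (by rw [← map_mul, hUV, map_one]) (by rw [← map_mul, hVU, map_one])
    hd' hod' hdet'
  -- expand over the localization
  have hexp' : defect (gr B' (cQ Q)) (φ.mapMatrix U₁ * (1 + η')) =
      φ.mapMatrix E + (η'ᵀ * φ.mapMatrix W + φ.mapMatrix W * η') := by
    have h1 := expand_defect hII (gr B' (cQ Q)) (φ.mapMatrix W) η' hη'
    have hEW' : φ.mapMatrix E = φ.mapMatrix W - gr B' (cQ Q) := by rw [hEW, map_sub, hgr]
    rw [← hEW'] at h1
    rw [← h1, defect, hW, map_mul, map_mul, ringHom_transpose, hgr, Matrix.transpose_mul]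
    simp only [Matrix.mul_assoc]
  rw [hexp'] at halt'
  -- clear denominators
  obtain ⟨s, hsP, y, hyI, hy⟩ := exists_den P.primeCompl B' I
    (fun p : Fin (2 * m + 1) × Fin (2 * m + 1) => η' p.1 p.2) (fun p => hη' p.1 p.2)
  let Y : Matrix (Fin (2 * m + 1)) (Fin (2 * m + 1)) B := Matrix.of fun i j => y (i, j)
  have hYI : MatIn I Y := fun i j => hyI (i, j)
  have hYη : φ.mapMatrix Y = φ s • η' := by
    ext i j
    show φ (y (i, j)) = φ s * η' i j
    exact (hy (i, j)).symm
  obtain ⟨F, hF⟩ : ∃ F, F = s • E + (Yᵀ * W + W * Y) := ⟨_, rfl⟩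
  have hFalt : IsAltMat (φ.mapMatrix F) := by
    have e : φ.mapMatrix F = φ s • (φ.mapMatrix E + (η'ᵀ * φ.mapMatrix W + φ.mapMatrix W * η')) := by
      rw [hF, map_add, map_add, map_mul, map_mul, ringHom_transpose, hYη, Matrix.transpose_smul,
        Matrix.smul_mul, Matrix.mul_smul, smul_add, smul_add]
      congr 1
      ext i j
      show φ (s * E i j) = φ s * φ (E i j)
      exact map_mul φ _ _
    rw [e]
    exact IsAltMat.smul' halt' _
  obtain ⟨s', hs'P, hkill⟩ := exists_kill P.primeCompl B'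
    (Sum.elim (fun j : Fin (2 * m + 1) => F j j)
      (fun p : Fin (2 * m + 1) × Fin (2 * m + 1) => F p.1 p.2 + F p.2 p.1))
    (by
      rintro (j | p)
      · exact hFalt.1 j
      · show φ (F p.1 p.2 + F p.2 p.1) = 0
        rw [map_add]
        exact hFalt.2 p.1 p.2)
  have hmem : s' * s ∈ J := by
    rw [hJmem]
    refine ⟨s' • Y, hYI.smul s', ?_⟩
    have e : (s' * s) • E + ((s' • Y)ᵀ * W + W * (s' • Y)) = s' • F := by
      rw [hF, Matrix.transpose_smul, Matrix.smul_mul, Matrix.mul_smul, smul_add, smul_add,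
        smul_smul]
    rw [e]
    refine ⟨fun j => ?_, fun j k => ?_⟩
    · show s' * F j j = 0
      exact hkill (Sum.inl j)
    · show s' * F j k + s' * F k j = 0
      rw [← mul_add]
      exact hkill (Sum.inr (j, k))
  exact (P.primeCompl.mul_mem hs'P hsP) (hJP hmem)

end Global

end Groth.Agent.H9.SO
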