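import Mathlib
import Groth.Prelude.Def_QuadGrp2
import Groth.Agent.Lib.Helper9.Misc.SO4

/-! The naive special orthogonal group scheme: representability and smoothness (helper9). -/

set_option autoImplicit false

open Matrix TensorProduct MvPolynomial Groth.Agent.H9.SG

namespace Groth.Agent.H9.SO

universe u

section Rep

variable {R : Type u} [CommRing R] {n : ℕ}

/-- the determinant relation -/
noncomputable def detRel (R : Type u) [CommRing R] (n : ℕ) : Set (MvPolynomial (Var n) R) :=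
  {(Xm R n).det - 1}

theorem detRel_finite : (detRel R n).Finite := Set.finite_singleton _

variable (Q : QuadraticForm R (Fin n → R))

theorem mem_sorth'_iff (A : Type u) [CommRing A] [Algebra R A]
    (g : (A ⊗[R] (Fin n → R)) ≃ₗ[A] (A ⊗[R] (Fin n → R))) :
    g ∈ QuadGrp.sorth' Q A ↔ g ∈ QuadGrp.orth Q A ∧
      (LinearMap.toMatrix (bas R n A) (bas R n A) g.toLinearMap).det = 1 := by
  show g ∈ QuadGrp.O (QuadGrp.baseChange A Q) ⊓ (LinearEquiv.det).ker ↔ _
  rw [Subgroup.mem_inf, MonoidHom.mem_ker, ← Units.val_eq_one, LinearEquiv.coe_det,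
    LinearMap.det_toMatrix]
  rfl

theorem det_Xb (c : Matrix (Fin n) (Fin n) R) : (Xb c (detRel R n)).det = 1 := by
  have h1 : proj c (detRel R n) ((Xm R n).det - 1) = 0 := proj_extra c _ (Set.mem_singleton _)
  rw [map_sub, map_one, sub_eq_zero] at h1
  rw [Xb, ← RingHom.map_det]
  exact h1

/-- the universal isometry of determinant one -/
noncomputable def g0' : ↥(QuadGrp.sorth' Q (A0 (cQ Q) (detRel R n))) :=
  ⟨equivOfMat (A0 (cQ Q) (detRel R n)) (Xb (cQ Q) (detRel R n)) (Yb (cQ Q) (detRel R n))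
    (Xb_mul_Yb _ _) (Yb_mul_Xb _ _), by
    rw [mem_sorth'_iff, mem_orth_iff, toMatrix_equivOfMat]
    exact ⟨isAlt_Xb _ _, det_Xb _⟩⟩

theorem hextra_of_det {C : Type*} [CommRing C] [Algebra R C] (U V : Matrix (Fin n) (Fin n) C)
    (hdet : U.det = 1) : ∀ p ∈ detRel R n, aeval (pt U V) p = 0 := by
  intro p hp
  rw [detRel, Set.mem_singleton_iff] at hp
  subst hp
  show ((aeval (pt U V) : MvPolynomial (Var n) R →ₐ[R] C) : MvPolynomial (Var n) R →+* C)
    ((Xm R n).det - 1) = 0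
  rw [map_sub, map_one, RingHom.map_det, aeval_Xm, hdet, sub_self]

theorem isUniversal_sorth' :
    IsUniversal (M := Fin n → R) (fun A _ _ => QuadGrp.sorth' Q A) (A0 (cQ Q) (detRel R n))
      (g0' Q) := by
  intro C _ _ g
  obtain ⟨horth, hdet⟩ := (mem_sorth'_iff Q C g.1).mp g.2
  have halt := (mem_orth_iff Q C g.1).mp horth
  obtain ⟨ψ, hψX, -⟩ := exists_hom (cQ Q) (detRel R n) _ _ (toMatrix_mul_symm C g.1)
    (toMatrix_symm_mul C g.1) halt (hextra_of_det _ _ hdet)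
  refine ⟨ψ, ?_, ?_⟩
  · refine (link ψ (g0' Q).1 g.1).mpr ?_
    rw [g0', toMatrix_equivOfMat]
    exact hψX
  · intro ψ' h'
    have := (link ψ' (g0' Q).1 g.1).mp h'
    rw [g0', toMatrix_equivOfMat] at this
    exact hom_ext_Xb _ _ ψ' ψ (this.trans hψX.symm)

/-- formal smoothness from a lifting property in matrices -/
theorem formallySmooth_A0' (c : Matrix (Fin n) (Fin n) R)
    (hlift : ∀ (B : Type u) [CommRing B] [Algebra R B] (I : Ideal B), I ^ 2 = ⊥ →
      ∀ (Ub Vb : Matrix (Fin n) (Fin n) (B ⧸ I)), Ub * Vb = 1 → Vb * Ub = 1 →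
        IsAltMat (defect (gr (B ⧸ I) c) Ub) → Ub.det = 1 →
        ∃ U V : Matrix (Fin n) (Fin n) B, U * V = 1 ∧ V * U = 1 ∧ red I U = Ub ∧
          IsAltMat (defect (gr B c) U) ∧ U.det = 1) :
    Algebra.FormallySmooth R (A0 c (detRel R n)) := by
  refine Algebra.FormallySmooth.of_comp_surjective fun B _ _ I hI fb => ?_
  have hUV : (fb : A0 c (detRel R n) →+* B ⧸ I).mapMatrix (Xb c (detRel R n)) *
      (fb : A0 c (detRel R n) →+* B ⧸ I).mapMatrix (Yb c (detRel R n)) = 1 := by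
    rw [← map_mul, Xb_mul_Yb, map_one]
  have hVU : (fb : A0 c (detRel R n) →+* B ⧸ I).mapMatrix (Yb c (detRel R n)) *
      (fb : A0 c (detRel R n) →+* B ⧸ I).mapMatrix (Xb c (detRel R n)) = 1 := by
    rw [← map_mul, Yb_mul_Xb, map_one]
  have halt := isAlt_of_algHom fb c (isAlt_Xb c (detRel R n))
  have hdet : ((fb : A0 c (detRel R n) →+* B ⧸ I).mapMatrix (Xb c (detRel R n))).det = 1 := by
    rw [← RingHom.map_det, det_Xb, map_one]
  obtain ⟨U, V, hUV', hVU', hU, haltU, hdetU⟩ := hlift B I hI _ _ hUV hVU halt hdet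
  obtain ⟨ψ, hψX, -⟩ := exists_hom c (detRel R n) U V hUV' hVU' haltU (hextra_of_det U V hdetU)
  refine ⟨ψ, ?_⟩
  apply hom_ext_Xb
  rw [← hU, ← hψX]
  rfl

end Rep

section LiftA

variable {B : Type*} [CommRing B] {n : ℕ}

theorem sq_zero_of_pow (I : Ideal B) (hI : I ^ 2 = ⊥) : ∀ x ∈ I, ∀ y ∈ I, x * y = 0 := by
  intro x hx y hy
  have h3 : x * y ∈ I ^ 2 := by
    rw [pow_two]
    exact Ideal.mul_mem_mul hx hy
  rw [hI] at h3
  exact h3

theorem det_sub_one_mem (I : Ideal B) (U : Matrix (Fin n) (Fin n) B)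
    (h : (red I U).det = 1) : U.det - 1 ∈ I := by
  rw [← Ideal.Quotient.eq_zero_iff_mem, map_sub, map_one, RingHom.map_det]
  rw [sub_eq_zero]
  exact h

/-- isometries of a regular form have determinant of square one -/
theorem det_sq_of_regular (c U : Matrix (Fin n) (Fin n) B) (hc : IsUnit (c + cᵀ).det)
    (halt : IsAltMat (defect c U)) : U.det ^ 2 = 1 := by
  have h1 : Uᵀ * (c + cᵀ) * U = c + cᵀ := by
    have h2 : defect c U + (defect c U)ᵀ = 0 := by
      ext j k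
      rw [Matrix.add_apply, Matrix.transpose_apply, Matrix.zero_apply]
      exact halt.2 j k
    rw [defect, Matrix.transpose_sub, Matrix.transpose_mul, Matrix.transpose_mul,
      Matrix.transpose_transpose] at h2
    have e : Uᵀ * (c + cᵀ) * U - (c + cᵀ) = Uᵀ * c * U - c + (Uᵀ * (cᵀ * U) - cᵀ) := by
      rw [Matrix.mul_add, Matrix.add_mul]
      simp only [Matrix.mul_assoc]
      abel
    rw [← sub_eq_zero, e]
    simpa only [Matrix.mul_assoc] using h2
  have h3 := congrArg Matrix.det h1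
  rw [Matrix.det_mul, Matrix.det_mul, Matrix.det_transpose] at h3
  have h4 : U.det ^ 2 * (c + cᵀ).det = 1 * (c + cᵀ).det := by linear_combination h3
  exact hc.mul_left_injective h4

/-- lifting in the case where `2` is invertible -/
theorem lift_two_unit {R : Type*} [CommRing R] [Algebra R B] (h2 : IsUnit (2 : R))
    (c₀ : Matrix (Fin n) (Fin n) R) (hc : IsUnit (c₀ + c₀ᵀ).det)
    (I : Ideal B) (hI : I ^ 2 = ⊥)
    (Ub Vb : Matrix (Fin n) (Fin n) (B ⧸ I)) (hUV : Ub * Vb = 1)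
    (halt : IsAltMat (defect (gr (B ⧸ I) c₀) Ub)) (hdet : Ub.det = 1) :
    ∃ U V : Matrix (Fin n) (Fin n) B, U * V = 1 ∧ V * U = 1 ∧ red I U = Ub ∧
      IsAltMat (defect (gr B c₀) U) ∧ U.det = 1 := by
  obtain ⟨T, hT⟩ : ∃ T : Matrix (Fin n) (Fin n) R, (c₀ + c₀ᵀ) * T = 1 :=
    ⟨(c₀ + c₀ᵀ)⁻¹, Matrix.mul_nonsing_inv _ hc⟩
  have hT' : (gr B c₀ + (gr B c₀)ᵀ) * gr B T = 1 := by
    have := congrArg (algebraMap R B).mapMatrix hT
    rw [map_mul, map_add, map_one, ringHom_transpose] at this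
    exact this
  have hgr : red I (gr B c₀) = gr (B ⧸ I) c₀ := by
    ext i j
    rfl
  obtain ⟨U, V, hUV', hVU', hU, haltU⟩ := exists_lift_mat I hI (gr B c₀) (gr B T) hT'
    Ub Vb hUV (by rw [hgr]; exact halt)
  refine ⟨U, V, hUV', hVU', hU, haltU, ?_⟩
  have hcB : IsUnit (gr B c₀ + (gr B c₀)ᵀ).det := by
    have e : gr B c₀ + (gr B c₀)ᵀ = (algebraMap R B).mapMatrix (c₀ + c₀ᵀ) := by
      rw [map_add, ringHom_transpose]
      rfl
    rw [e, ← RingHom.map_det]
    exact hc.map _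
  have hsq := det_sq_of_regular (gr B c₀) U hcB haltU
  have hmem : U.det - 1 ∈ I := det_sub_one_mem I U (by rw [hU]; exact hdet)
  have htt := sq_zero_of_pow I hI _ hmem _ hmem
  have h2t : (2 : B) * (U.det - 1) = 0 := by linear_combination hsq - htt
  have h2B : IsUnit (2 : B) := by
    have := h2.map (algebraMap R B)
    rwa [map_ofNat] at this
  have := (h2B.mul_right_eq_zero).mp h2t
  exact sub_eq_zero.mp this

end LiftA

section LiftB

variable {R : Type u} [CommRing R] {m : ℕ} (Q : QuadraticForm R (Fin (2 * m + 1) → R))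

/-- lifting in odd rank -/
theorem lift_odd
    (hQ : QuadGrp.IsSemiregular (Pi.basisFun R (Fin (2 * m + 1))) (LinearEquiv.refl R R) Q)
    (B : Type u) [CommRing B] [Algebra R B] (I : Ideal B) (hI : I ^ 2 = ⊥)
    (Ub Vb : Matrix (Fin (2 * m + 1)) (Fin (2 * m + 1)) (B ⧸ I)) (hUV : Ub * Vb = 1)
    (halt : IsAltMat (defect (gr (B ⧸ I) (cQ Q)) Ub)) (hdet : Ub.det = 1) :
    ∃ U V : Matrix (Fin (2 * m + 1)) (Fin (2 * m + 1)) B, U * V = 1 ∧ V * U = 1 ∧
      red I U = Ub ∧ IsAltMat (defect (gr B (cQ Q)) U) ∧ U.det = 1 := by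
  have hI' := sq_zero_of_pow I hI
  have hodd : Odd (2 * m + 1) := ⟨m, rfl⟩
  obtain ⟨U₁, hU₁⟩ := red_surjective I Ub
  obtain ⟨V₁, hV₁⟩ := red_surjective I Vb
  have hNr : red I (U₁ * V₁ - 1) = 0 := by
    rw [map_sub, map_mul, map_one, hU₁, hV₁, hUV, sub_self]
  have hNN : (U₁ * V₁ - 1) * (U₁ * V₁ - 1) = 0 := mul_eq_zero_of_red I hI hNr hNr
  obtain ⟨V₂, hUV₂⟩ : ∃ V₂, U₁ * V₂ = 1 := by
    refine ⟨V₁ * (1 - (U₁ * V₁ - 1)), ?_⟩
    have e : U₁ * (V₁ * (1 - (U₁ * V₁ - 1))) = 1 - (U₁ * V₁ - 1) * (U₁ * V₁ - 1) := by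
      noncomm_ring
    rw [e, hNN, sub_zero]
  have hV₂U : V₂ * U₁ = 1 := mul_eq_one_comm.mp hUV₂
  have hgr : red I (gr B (cQ Q)) = gr (B ⧸ I) (cQ Q) := by
    ext i j
    rfl
  have hE₁r : IsAltMat (red I (defect (gr B (cQ Q)) U₁)) := by
    rw [ringHom_defect (Ideal.Quotient.mk I), hU₁, hgr]
    exact halt
  have hd : ∀ j, defect (gr B (cQ Q)) U₁ j j ∈ I := fun j =>
    Ideal.Quotient.eq_zero_iff_mem.mp (hE₁r.1 j)
  have hod : ∀ j k, defect (gr B (cQ Q)) U₁ j k + defect (gr B (cQ Q)) U₁ k j ∈ I := fun j k =>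
    Ideal.Quotient.eq_zero_iff_mem.mp (by
      rw [map_add]
      exact hE₁r.2 j k)
  have hdet₁ : U₁.det - 1 ∈ I := det_sub_one_mem I U₁ (by rw [hU₁]; exact hdet)
  obtain ⟨η, hη, haltη⟩ := exists_eta_global Q hQ B I hI' U₁ V₂ hUV₂ hV₂U hd hod hdet₁
  obtain ⟨hinv1, hinv2⟩ := one_add_mul_one_sub hI' hη
  have hU'V' : U₁ * (1 + η) * ((1 - η) * V₂) = 1 := by
    have e : U₁ * (1 + η) * ((1 - η) * V₂) = U₁ * ((1 + η) * (1 - η)) * V₂ := by
      simp only [Matrix.mul_assoc]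
    rw [e, hinv1, Matrix.mul_one, hUV₂]
  have hV'U' : (1 - η) * V₂ * (U₁ * (1 + η)) = 1 := mul_eq_one_comm.mp hU'V'
  have hηr : red I η = 0 := by
    ext i j
    exact Ideal.Quotient.eq_zero_iff_mem.mpr (hη i j)
  have hU'r : red I (U₁ * (1 + η)) = Ub := by
    rw [map_mul, map_add, map_one, hηr, add_zero, mul_one, hU₁]
  have hsq := det_sq_of_isAlt Q hodd hQ B _ _ hU'V' hV'U' haltη
  have hmem : (U₁ * (1 + η)).det - 1 ∈ I := det_sub_one_mem I _ (by rw [hU'r]; exact hdet)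
  obtain ⟨t, ht⟩ : ∃ t, t = (U₁ * (1 + η)).det - 1 := ⟨_, rfl⟩
  rw [← ht] at hmem
  have hdet' : (U₁ * (1 + η)).det = 1 + t := by rw [ht]; ring
  have htt : t * t = 0 := hI' _ hmem _ hmem
  have h2t : 2 * t = 0 := by
    rw [hdet'] at hsq
    linear_combination hsq - htt
  refine ⟨(1 - t) • (U₁ * (1 + η)), (1 + t) • ((1 - η) * V₂), ?_, ?_, ?_, ?_, ?_⟩
  · rw [Matrix.smul_mul, Matrix.mul_smul, hU'V', smul_smul]
    have : (1 - t) * (1 + t) = 1 := by linear_combination (-1 : B) * htt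
    rw [this, one_smul]
  · rw [Matrix.smul_mul, Matrix.mul_smul, hV'U', smul_smul]
    have : (1 + t) * (1 - t) = 1 := by linear_combination (-1 : B) * htt
    rw [this, one_smul]
  · have e : red I ((1 - t) • (U₁ * (1 + η))) =
        Ideal.Quotient.mk I (1 - t) • red I (U₁ * (1 + η)) := by
      ext i j
      show Ideal.Quotient.mk I ((1 - t) * (U₁ * (1 + η)) i j) = _
      rw [map_mul]
      rfl
    have e2 : Ideal.Quotient.mk I (1 - t) = 1 := by
      rw [map_sub, map_one, Ideal.Quotient.eq_zero_iff_mem.mpr hmem, sub_zero]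
    rw [e, e2, one_smul, hU'r]
  · have e : defect (gr B (cQ Q)) ((1 - t) • (U₁ * (1 + η))) =
        defect (gr B (cQ Q)) (U₁ * (1 + η)) := by
      rw [defect, defect, Matrix.transpose_smul, Matrix.smul_mul, Matrix.smul_mul,
        Matrix.mul_smul, smul_smul]
      have : (1 - t) * (1 - t) = 1 := by linear_combination htt - h2t
      rw [this, one_smul]
    rw [e]
    exact haltη
  · rw [Matrix.det_smul, Fintype.card_fin, hdet']
    have e1 : (1 - t) ^ (2 * m + 1) = 1 + ((2 * m + 1 : ℕ) : B) * (-t) := by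
      have := one_add_pow_of_sq_zero (-t) (by rw [neg_mul_neg]; exact htt) (2 * m + 1)
      rw [← this]
      ring
    rw [e1]
    push_cast
    linear_combination (-(2 * (m : B) + 1)) * htt - (m : B) * h2t

end LiftB

section Final

variable {R : Type u} [CommRing R] {n : ℕ} (Q : QuadraticForm R (Fin n → R))

theorem smooth_A0'_of_two_unit (h2 : IsUnit (2 : R)) (hQ : QuadGrp.IsRegular Q) :
    Algebra.Smooth R (A0 (cQ Q) (detRel R n)) :=
  { formallySmooth := formallySmooth_A0' (cQ Q) fun B _ _ I hI Ub Vb hUV _ halt hdet =>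
      lift_two_unit h2 (cQ Q) (isUnit_det_of_isRegular Q hQ) I hI Ub Vb hUV halt hdet
    finitePresentation := finitePresentation_A0 _ _ detRel_finite }

theorem smooth_A0'_of_odd (hodd : Odd n)
    (hQ : QuadGrp.IsSemiregular (Pi.basisFun R (Fin n)) (LinearEquiv.refl R R) Q) :
    Algebra.Smooth R (A0 (cQ Q) (detRel R n)) := by
  obtain ⟨m, rfl⟩ := hodd
  exact
    { formallySmooth := formallySmooth_A0' (cQ Q) fun B _ _ I hI Ub Vb hUV _ halt hdet =>
        lift_odd Q hQ B I hI Ub Vb hUV halt hdet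
      finitePresentation := finitePresentation_A0 _ _ detRel_finite }

end Final

end Groth.Agent.H9.SO
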