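import Mathlib
import Groth.Prelude.Def_QuadGrp2
import Groth.Agent.Lib.Helper9.Misc.CR2
import Groth.Agent.Lib.Helper9.Misc.SG5
import Groth.Agent.Lib.Helper9.Misc.SO4
import Groth.Agent.Lib.Helper9.Misc.SO5
import Groth.Agent.Lib.Helper9.Misc.QG12

/-! Formal smoothness of the Clifford group of a regular form of even rank (helper9):
derivations of an Azumaya algebra are inner; an element of `GPin′(B/I)` (`I² = 0`) lifts. -/

set_option autoImplicit false

open TensorProduct CliffordAlgebra Groth.Agent.H9.QG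

namespace Groth.Agent.H9.CR

universe u

section Inner

open MulOpposite

variable {B : Type*} [CommRing B] {C : Type*} [Ring C] [Algebra B C]

/-- a derivation of an Azumaya algebra with values in the algebra is inner (given a retraction of
the structure map) -/
theorem exists_inner_of_isAzumaya [hAz : IsAzumaya B C] (ε : C →ₗ[B] B) (hε : ε 1 = 1)
    (d : C →ₗ[B] C) (hd : ∀ c c', d (c * c') = c * d c' + d c * c')
    (S : Submodule B C) (hS : ∀ c c', d c * c' ∈ S) :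
    ∃ ξ ∈ S, ∀ c, d c = ξ * c - c * ξ := by
  let E : Module.End B C := (LinearMap.toSpanSingleton B C 1) ∘ₗ ε
  have hE : ∀ x, E x = ε x • (1 : C) := fun x => rfl
  obtain ⟨e, he⟩ := hAz.bij.2 E
  let Φ : C ⊗[B] Cᵐᵒᵖ →ₗ[B] C :=
    TensorProduct.lift (((LinearMap.mul B C).comp d).compl₂
      ((opLinearEquiv B).symm : Cᵐᵒᵖ ≃ₗ[B] C).toLinearMap)
  have hΦ : ∀ x y, Φ (x ⊗ₜ[B] y) = d x * y.unop := fun x y => rfl
  let Ψ : C ⊗[B] Cᵐᵒᵖ →ₗ[B] C :=
    TensorProduct.lift ((LinearMap.mul B C).compl₂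
      ((opLinearEquiv B).symm : Cᵐᵒᵖ ≃ₗ[B] C).toLinearMap)
  have hΨ : ∀ x y, Ψ (x ⊗ₜ[B] y) = x * y.unop := fun x y => rfl
  have hΨ' : ∀ t, Ψ t = AlgHom.mulLeftRight B C t 1 := by
    intro t
    induction t using TensorProduct.induction_on with
    | zero => rw [map_zero, map_zero, LinearMap.zero_apply]
    | tmul x y => rw [hΨ, AlgHom.mulLeftRight_apply, mul_one]
    | add x y hx hy => rw [map_add, map_add, LinearMap.add_apply, hx, hy]
  have hΨe : Ψ e = 1 := by
    rw [hΨ', he, hE, hε, one_smul]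
  have hcomm : ∀ c : C, (c ⊗ₜ[B] (1 : Cᵐᵒᵖ)) * e = ((1 : C) ⊗ₜ[B] op c) * e := by
    intro c
    apply hAz.bij.1
    rw [map_mul, map_mul, he]
    ext x
    simp only [Module.End.mul_apply, AlgHom.mulLeftRight_apply, MulOpposite.unop_one,
      MulOpposite.unop_op, mul_one, one_mul, hE]
    rw [mul_smul_comm, smul_mul_assoc, mul_one, one_mul]
  have hΦ1 : ∀ (c : C) (t : C ⊗[B] Cᵐᵒᵖ),
      Φ ((c ⊗ₜ[B] (1 : Cᵐᵒᵖ)) * t) = c * Φ t + d c * Ψ t := by
    intro c t
    induction t using TensorProduct.induction_on with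
    | zero => rw [mul_zero, map_zero, map_zero, mul_zero, mul_zero, add_zero]
    | tmul x y =>
      rw [Algebra.TensorProduct.tmul_mul_tmul, one_mul, hΦ, hΦ, hΨ, hd, add_mul, mul_assoc,
        mul_assoc]
    | add x y hx hy =>
      rw [mul_add, map_add, hx, hy, map_add, map_add, mul_add, mul_add]
      abel
  have hΦ2 : ∀ (c : C) (t : C ⊗[B] Cᵐᵒᵖ), Φ (((1 : C) ⊗ₜ[B] op c) * t) = Φ t * c := by
    intro c t
    induction t using TensorProduct.induction_on with
    | zero => rw [mul_zero, map_zero, zero_mul]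
    | tmul x y =>
      rw [Algebra.TensorProduct.tmul_mul_tmul, one_mul, hΦ, hΦ, MulOpposite.unop_mul,
        MulOpposite.unop_op, mul_assoc]
    | add x y hx hy => rw [mul_add, map_add, hx, hy, map_add, add_mul]
  have hΦS : ∀ t, Φ t ∈ S := by
    intro t
    induction t using TensorProduct.induction_on with
    | zero => rw [map_zero]; exact S.zero_mem
    | tmul x y => rw [hΦ]; exact hS x _
    | add x y hx hy => rw [map_add]; exact S.add_mem hx hy
  refine ⟨Φ e, hΦS e, fun c => ?_⟩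
  have h1 := hΦ1 c e
  rw [hcomm c, hΦ2 c e, hΨe, mul_one] at h1
  rw [h1]
  abel

end Inner

section LiftIso

variable {R : Type u} [CommRing R] {n : ℕ}

theorem rTensor_smul' {M : Type*} [AddCommGroup M] [Module R M] {A B : Type u} [CommRing A]
    [Algebra R A] [CommRing B] [Algebra R B] (ψ : A →ₐ[R] B) (a : A) (z : A ⊗[R] M) :
    LinearMap.rTensor M ψ.toLinearMap (a • z) = ψ a • LinearMap.rTensor M ψ.toLinearMap z := by
  induction z using TensorProduct.induction_on with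
  | zero => rw [smul_zero, map_zero, smul_zero]
  | tmul a' m =>
    rw [TensorProduct.smul_tmul', LinearMap.rTensor_tmul, LinearMap.rTensor_tmul,
      TensorProduct.smul_tmul', smul_eq_mul, smul_eq_mul, AlgHom.toLinearMap_apply,
      AlgHom.toLinearMap_apply, map_mul]
  | add x y hx hy => rw [smul_add, map_add, hx, hy, map_add, smul_add]

/-- isometries of a regular form lift along square-zero extensions -/
theorem exists_lift_isometry (Q : QuadraticForm R (Fin n → R)) (hQ : QuadGrp.IsRegular Q)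
    (B : Type u) [CommRing B] [Algebra R B] (I : Ideal B) (hI : I ^ 2 = ⊥)
    (gb : ((B ⧸ I) ⊗[R] (Fin n → R)) ≃ₗ[B ⧸ I] ((B ⧸ I) ⊗[R] (Fin n → R)))
    (hgb : gb ∈ QuadGrp.O (QuadGrp.baseChangeForm (B ⧸ I) Q)) :
    ∃ g : (B ⊗[R] (Fin n → R)) ≃ₗ[B] (B ⊗[R] (Fin n → R)),
      g ∈ QuadGrp.O (QuadGrp.baseChangeForm B Q) ∧
      ∀ v, LinearMap.rTensor (Fin n → R) (Ideal.Quotient.mkₐ R I).toLinearMap (g v) =
        gb (LinearMap.rTensor (Fin n → R) (Ideal.Quotient.mkₐ R I).toLinearMap v) := by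
  have hc := SG.isUnit_det_of_isRegular Q hQ
  obtain ⟨T, hT⟩ : ∃ T : Matrix (Fin n) (Fin n) R, (SG.cQ Q + (SG.cQ Q).transpose) * T = 1 :=
    ⟨_, Matrix.mul_nonsing_inv _ hc⟩
  have hT' : (SG.gr B (SG.cQ Q) + (SG.gr B (SG.cQ Q)).transpose) * SG.gr B T = 1 := by
    have := congrArg (algebraMap R B).mapMatrix hT
    rw [map_mul, map_add, map_one, SG.ringHom_transpose] at this
    exact this
  have halt := (SO.isometry_iff_isAlt Q (B ⧸ I) gb.toLinearMap).mp hgb
  have hgr : SG.red I (SG.gr B (SG.cQ Q)) = SG.gr (B ⧸ I) (SG.cQ Q) := by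
    ext i j
    rfl
  obtain ⟨U, V, hUV, hVU, hU, haltU⟩ := SG.exists_lift_mat I hI (SG.gr B (SG.cQ Q)) (SG.gr B T)
    hT' _ _ (SG.toMatrix_mul_symm (B ⧸ I) gb) (by rw [hgr]; exact halt)
  have hgU := SG.toMatrix_equivOfMat (R := R) B U V hUV hVU
  refine ⟨SG.equivOfMat (R := R) B U V hUV hVU, ?_, ?_⟩
  · exact (SO.isometry_iff_isAlt Q B (SG.equivOfMat (R := R) B U V hUV hVU).toLinearMap).mpr
      (by rw [hgU]; exact haltU)
  · have h1 : ∀ m : Fin n → R, gb ((1 : B ⧸ I) ⊗ₜ[R] m) =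
        LinearMap.rTensor (Fin n → R) (Ideal.Quotient.mkₐ R I).toLinearMap
          (SG.equivOfMat (R := R) B U V hUV hVU ((1 : B) ⊗ₜ[R] m)) := by
      rw [SG.link (Ideal.Quotient.mkₐ R I) (SG.equivOfMat (R := R) B U V hUV hVU) gb, hgU]
      exact hU
    intro v
    induction v using TensorProduct.induction_on with
    | zero => rw [map_zero, map_zero, map_zero]
    | tmul b m =>
      have e : b ⊗ₜ[R] m = b • ((1 : B) ⊗ₜ[R] m) := by
        rw [TensorProduct.smul_tmul', smul_eq_mul, mul_one]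
      rw [e, map_smul, rTensor_smul', rTensor_smul', ← h1, map_smul, LinearMap.rTensor_tmul,
        AlgHom.toLinearMap_apply, map_one]
    | add x y hx hy => rw [map_add, map_add, hx, hy, map_add, map_add]

end LiftIso

section LiftGP

variable {R : Type u} [CommRing R] {M : Type u} [AddCommGroup M] [Module R M] [Module.Free R M]
  (Q : QuadraticForm R M)

theorem cmap_surjective {A B : Type u} [CommRing A] [Algebra R A] [CommRing B] [Algebra R B]
    (ψ : A →ₐ[R] B) (hψ : Function.Surjective ψ) : Function.Surjective (cmap Q ψ) := by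
  intro c
  have hs : Function.Surjective (LinearMap.rTensor (CliffordAlgebra Q) ψ.toLinearMap) :=
    LinearMap.rTensor_surjective _ hψ
  obtain ⟨t, ht⟩ := hs (bcEquiv B Q c)
  refine ⟨(bcEquiv A Q).symm t, ?_⟩
  rw [cmap_apply, AlgEquiv.apply_symm_apply, Tm_eq_rTensor, ht, AlgEquiv.symm_apply_apply]

variable {K : Type} [Fintype K] [DecidableEq K] (bC : Module.Basis K R (CliffordAlgebra Q))

theorem vec_mul_vec_eq_zero (B : Type u) [CommRing B] [Algebra R B] (a a' : K → B)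
    (h : ∀ k l, a k * a' l = 0) : vec bC B a * vec bC B a' = 0 := by
  unfold vec
  rw [Finset.sum_mul_sum]
  refine Finset.sum_eq_zero fun k _ => Finset.sum_eq_zero fun l _ => ?_
  rw [smul_mul_smul_comm, h k l, zero_smul]

include bC in
theorem mul_eq_zero_of_cmap (B : Type u) [CommRing B] [Algebra R B] (I : Ideal B)
    (hI : ∀ x ∈ I, ∀ y ∈ I, x * y = 0)
    (z z' : CliffordAlgebra (QuadGrp.baseChangeForm B Q))
    (hz : cmap Q (Ideal.Quotient.mkₐ R I) z = 0) (hz' : cmap Q (Ideal.Quotient.mkₐ R I) z' = 0) :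
    z * z' = 0 := by
  have key : ∀ z : CliffordAlgebra (QuadGrp.baseChangeForm B Q),
      cmap Q (Ideal.Quotient.mkₐ R I) z = 0 → ∀ k, coord bC B k (bcEquiv B Q z) ∈ I := by
    intro z hz k
    have h1 : Tm Q (Ideal.Quotient.mkₐ R I) (bcEquiv B Q z) = 0 := by
      rw [← bcEquiv_cmap, hz, map_zero]
    have h2 := coord_rTensor bC (Ideal.Quotient.mkₐ R I) (bcEquiv B Q z) k
    rw [← Tm_eq_rTensor, h1, coord_zero] at h2
    exact Ideal.Quotient.eq_zero_iff_mem.mp h2.symm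
  apply (bcEquiv B Q).injective
  rw [map_mul, map_zero]
  calc bcEquiv B Q z * bcEquiv B Q z'
      = vec bC B (fun k => coord bC B k (bcEquiv B Q z)) *
          vec bC B (fun k => coord bC B k (bcEquiv B Q z')) := by rw [vec_coord, vec_coord]
    _ = 0 := vec_mul_vec_eq_zero Q bC B _ _ fun k l => hI _ (key z hz k) _ (key z' hz' l)

end LiftGP

section Main

variable {R : Type u} [CommRing R] {n : ℕ}

/-- lifting points of `GPin′` of a regular form of even rank along a square-zero extension -/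
theorem exists_lift_GPin' [Nontrivial R] {m : ℕ} (hn : n = 2 * m)
    (Q : QuadraticForm R (Fin n → R)) (hQ : QuadGrp.IsRegular Q)
    (B : Type u) [CommRing B] [Nontrivial B] [Algebra R B] (I : Ideal B) (hI : I ^ 2 = ⊥)
    (wb : (CliffordAlgebra (QuadGrp.baseChangeForm (B ⧸ I) Q))ˣ)
    (hwb : wb ∈ QuadGrp.GPin' (QuadGrp.baseChangeForm (B ⧸ I) Q)) :
    ∃ w : (CliffordAlgebra (QuadGrp.baseChangeForm B Q))ˣ,
      w ∈ QuadGrp.GPin' (QuadGrp.baseChangeForm B Q) ∧
      cmap Q (Ideal.Quotient.mkₐ R I) (w : CliffordAlgebra (QuadGrp.baseChangeForm B Q)) =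
        (wb : CliffordAlgebra (QuadGrp.baseChangeForm (B ⧸ I) Q)) := by
  haveI := free_clifford Q
  haveI := finite_clifford Q
  have hI' := SO.sq_zero_of_pow I hI
  have hz := mul_eq_zero_of_cmap Q (Module.finBasis R (CliffordAlgebra Q)) B I hI'
  have hreg := isRegular_baseChangeForm B Q hQ
  have hrank : Module.finrank B (B ⊗[R] (Fin n → R)) = 2 * m := by
    rw [Module.finrank_baseChange, Module.finrank_fin_fun, hn]
  haveI : IsAzumaya B (CliffordAlgebra (QuadGrp.baseChangeForm B Q)) :=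
    isAzumaya_clifford _ hreg m hrank
  obtain ⟨gb, hgb, hconj⟩ := exists_isometry_of_mem_GPin' hwb
  obtain ⟨g, hg, hgc⟩ := exists_lift_isometry Q hQ B I hI gb hgb
  have hsurj := cmap_surjective Q (Ideal.Quotient.mkₐ R I) (Ideal.Quotient.mkₐ_surjective R I)
  obtain ⟨u₁, hu₁⟩ := hsurj (wb : CliffordAlgebra (QuadGrp.baseChangeForm (B ⧸ I) Q))
  obtain ⟨v₁, hv₁⟩ := hsurj (↑wb⁻¹ : CliffordAlgebra (QuadGrp.baseChangeForm (B ⧸ I) Q))
  -- `u₁` is a unit
  have hk0 : cmap Q (Ideal.Quotient.mkₐ R I) (u₁ * v₁ - 1) = 0 := by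
    rw [map_sub, map_mul, hu₁, hv₁, Units.mul_inv, map_one, sub_self]
  have hk'0 : cmap Q (Ideal.Quotient.mkₐ R I) (v₁ * u₁ - 1) = 0 := by
    rw [map_sub, map_mul, hu₁, hv₁, Units.inv_mul, map_one, sub_self]
  have hr : u₁ * (v₁ * (1 - (u₁ * v₁ - 1))) = 1 := by
    have h0 := hz _ _ hk0 hk0
    calc u₁ * (v₁ * (1 - (u₁ * v₁ - 1)))
        = 1 - (u₁ * v₁ - 1) * (u₁ * v₁ - 1) := by noncomm_ring
      _ = 1 := by rw [h0, sub_zero]
  have hl : ((1 - (v₁ * u₁ - 1)) * v₁) * u₁ = 1 := by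
    have h0 := hz _ _ hk'0 hk'0
    calc ((1 - (v₁ * u₁ - 1)) * v₁) * u₁
        = 1 - (v₁ * u₁ - 1) * (v₁ * u₁ - 1) := by noncomm_ring
      _ = 1 := by rw [h0, sub_zero]
  obtain ⟨ui, hui, hr', hl'⟩ : ∃ ui : CliffordAlgebra (QuadGrp.baseChangeForm B Q),
      cmap Q (Ideal.Quotient.mkₐ R I) ui =
        (↑wb⁻¹ : CliffordAlgebra (QuadGrp.baseChangeForm (B ⧸ I) Q)) ∧
      u₁ * ui = 1 ∧ ui * u₁ = 1 := by
    refine ⟨v₁ * (1 - (u₁ * v₁ - 1)), ?_, hr, ?_⟩
    · rw [map_mul, map_sub, map_one, hk0, sub_zero, mul_one, hv₁]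
    · have : (1 - (v₁ * u₁ - 1)) * v₁ = v₁ * (1 - (u₁ * v₁ - 1)) := left_inv_eq_right_inv hl hr
      rw [← this]
      exact hl
  -- the twisted endomorphism
  have hf : ∀ v : B ⊗[R] (Fin n → R),
      (ui * (ι (QuadGrp.baseChangeForm B Q) (g v) * u₁)) *
        (ui * (ι (QuadGrp.baseChangeForm B Q) (g v) * u₁)) =
      algebraMap B _ (QuadGrp.baseChangeForm B Q v) := by
    intro v
    have e1 : (ui * (ι (QuadGrp.baseChangeForm B Q) (g v) * u₁)) *
        (ui * (ι (QuadGrp.baseChangeForm B Q) (g v) * u₁)) =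
        ui * (ι (QuadGrp.baseChangeForm B Q) (g v) * ((u₁ * ui) *
          (ι (QuadGrp.baseChangeForm B Q) (g v) * u₁))) := by
      simp only [mul_assoc]
    rw [e1, hr', one_mul, ← mul_assoc (ι (QuadGrp.baseChangeForm B Q) (g v)), ι_sq_scalar,
      hg v, Algebra.commutes, ← mul_assoc, hl', one_mul]
  let f : B ⊗[R] (Fin n → R) →ₗ[B] CliffordAlgebra (QuadGrp.baseChangeForm B Q) :=
    (LinearMap.mulLeft B ui) ∘ₗ (LinearMap.mulRight B u₁) ∘ₗ
      (ι (QuadGrp.baseChangeForm B Q)) ∘ₗ g.toLinearMap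
  let β : CliffordAlgebra (QuadGrp.baseChangeForm B Q) →ₐ[B]
      CliffordAlgebra (QuadGrp.baseChangeForm B Q) :=
    CliffordAlgebra.lift (QuadGrp.baseChangeForm B Q) ⟨f, hf⟩
  have hβι : ∀ v, β (ι (QuadGrp.baseChangeForm B Q) v) =
      ui * (ι (QuadGrp.baseChangeForm B Q) (g v) * u₁) :=
    fun v => CliffordAlgebra.lift_ι_apply _ _ _
  have hcmβ : ∀ c, cmap Q (Ideal.Quotient.mkₐ R I) (β c) = cmap Q (Ideal.Quotient.mkₐ R I) c := by
    intro c
    induction c using CliffordAlgebra.induction with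
    | algebraMap r => rw [AlgHom.commutes]
    | ι v =>
      rw [hβι, map_mul, map_mul, hui, hu₁, cmap_ι, cmap_ι, hgc, ← hconj]
      simp only [mul_assoc, Units.inv_mul, mul_one, Units.inv_mul_cancel_left]
    | mul a b ha hb => rw [map_mul, map_mul, ha, hb, map_mul]
    | add a b ha hb => rw [map_add, map_add, ha, hb, map_add]
  let d : CliffordAlgebra (QuadGrp.baseChangeForm B Q) →ₗ[B]
      CliffordAlgebra (QuadGrp.baseChangeForm B Q) := β.toLinearMap - LinearMap.id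
  have hd_apply : ∀ c, d c = β c - c := fun c => rfl
  have hcmd : ∀ c, cmap Q (Ideal.Quotient.mkₐ R I) (d c) = 0 := fun c => by
    rw [hd_apply, map_sub, hcmβ, sub_self]
  have hdL : ∀ c c', d (c * c') = c * d c' + d c * c' := by
    intro c c'
    have h0 := hz (d c) (d c') (hcmd c) (hcmd c')
    have hb : ∀ c, β c = c + d c := fun c => by rw [hd_apply]; abel
    rw [hd_apply (c * c'), map_mul, hb c, hb c']
    have : (c + d c) * (c' + d c') - c * c' = c * d c' + d c * c' + d c * d c' := by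
      noncomm_ring
    rw [this, h0, add_zero]
  let S : Submodule B (CliffordAlgebra (QuadGrp.baseChangeForm B Q)) :=
    { carrier := {z | cmap Q (Ideal.Quotient.mkₐ R I) z = 0}
      add_mem' := fun {a b} ha hb => by
        change cmap Q (Ideal.Quotient.mkₐ R I) (a + b) = 0
        rw [map_add, ha, hb, add_zero]
      zero_mem' := map_zero _
      smul_mem' := fun c z hz' => by
        change cmap Q (Ideal.Quotient.mkₐ R I) (c • z) = 0
        rw [Algebra.smul_def, map_mul, hz', mul_zero] }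
  obtain ⟨ξ, hξS, hξ⟩ := exists_inner_of_isAzumaya (eps (QuadGrp.baseChangeForm B Q))
    (eps_one (QuadGrp.baseChangeForm B Q)) d hdL S (fun c c' => by
      change cmap Q (Ideal.Quotient.mkₐ R I) (d c * c') = 0
      rw [map_mul, hcmd, zero_mul])
  have hξ0 : cmap Q (Ideal.Quotient.mkₐ R I) ξ = 0 := hξS
  have hξξ : ξ * ξ = 0 := hz ξ ξ hξ0 hξ0
  have hξcξ : ∀ c, ξ * c * ξ = 0 := fun c => by
    rw [mul_assoc]
    exact hz ξ (c * ξ) hξ0 (by rw [map_mul, hξ0, mul_zero])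
  have hw1 : u₁ * (1 + ξ) * ((1 - ξ) * ui) = 1 := by
    calc u₁ * (1 + ξ) * ((1 - ξ) * ui) = u₁ * ui - u₁ * (ξ * ξ) * ui := by noncomm_ring
      _ = 1 := by rw [hξξ, mul_zero, zero_mul, sub_zero, hr']
  have hw2 : (1 - ξ) * ui * (u₁ * (1 + ξ)) = 1 := by
    calc (1 - ξ) * ui * (u₁ * (1 + ξ)) = (1 - ξ) * ((ui * u₁) * (1 + ξ)) := by
          simp only [mul_assoc]
      _ = 1 - ξ * ξ := by rw [hl', one_mul]; noncomm_ring
      _ = 1 := by rw [hξξ, sub_zero]
  let w : (CliffordAlgebra (QuadGrp.baseChangeForm B Q))ˣ :=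
    ⟨u₁ * (1 + ξ), (1 - ξ) * ui, hw1, hw2⟩
  have hw : ∀ v, (w : CliffordAlgebra (QuadGrp.baseChangeForm B Q)) *
      ι (QuadGrp.baseChangeForm B Q) v * ↑w⁻¹ = ι (QuadGrp.baseChangeForm B Q) (g v) := by
    intro v
    change u₁ * (1 + ξ) * ι (QuadGrp.baseChangeForm B Q) v * ((1 - ξ) * ui) =
      ι (QuadGrp.baseChangeForm B Q) (g v)
    have e1 : (1 + ξ) * ι (QuadGrp.baseChangeForm B Q) v * (1 - ξ) =
        ι (QuadGrp.baseChangeForm B Q) v + (ξ * ι (QuadGrp.baseChangeForm B Q) v -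
          ι (QuadGrp.baseChangeForm B Q) v * ξ) -
          ξ * ι (QuadGrp.baseChangeForm B Q) v * ξ := by noncomm_ring
    have e2 : (1 + ξ) * ι (QuadGrp.baseChangeForm B Q) v * (1 - ξ) =
        ui * (ι (QuadGrp.baseChangeForm B Q) (g v) * u₁) := by
      rw [e1, hξcξ, sub_zero, ← hξ, hd_apply, hβι]
      abel
    calc u₁ * (1 + ξ) * ι (QuadGrp.baseChangeForm B Q) v * ((1 - ξ) * ui)
        = u₁ * ((1 + ξ) * ι (QuadGrp.baseChangeForm B Q) v * (1 - ξ)) * ui := by
          simp only [mul_assoc]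
      _ = u₁ * (ui * (ι (QuadGrp.baseChangeForm B Q) (g v) * u₁)) * ui := by rw [e2]
      _ = (u₁ * ui) * ι (QuadGrp.baseChangeForm B Q) (g v) * (u₁ * ui) := by
          simp only [mul_assoc]
      _ = ι (QuadGrp.baseChangeForm B Q) (g v) := by rw [hr', one_mul, mul_one]
  refine ⟨w, mem_GPin'_of_equiv w g hw, ?_⟩
  change cmap Q (Ideal.Quotient.mkₐ R I) (u₁ * (1 + ξ)) = _
  rw [map_mul, map_add, map_one, hξ0, add_zero, mul_one, hu₁]

/-- lifting in terms of pairs -/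
theorem exists_lift_isGP [Nontrivial R] {m : ℕ} (hn : n = 2 * m)
    (Q : QuadraticForm R (Fin n → R)) (hQ : QuadGrp.IsRegular Q)
    (B : Type u) [CommRing B] [Algebra R B] (I : Ideal B) (hI : I ^ 2 = ⊥)
    (xb yb : (B ⧸ I) ⊗[R] CliffordAlgebra Q)
    (h : IsGP Q (B ⧸ I) (Pi.basisFun R (Fin n)) xb yb) :
    ∃ x y : B ⊗[R] CliffordAlgebra Q, IsGP Q B (Pi.basisFun R (Fin n)) x y ∧
      Tm Q (Ideal.Quotient.mkₐ R I) x = xb := by
  rcases subsingleton_or_nontrivial B with hB | hB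
  · haveI : Subsingleton (B ⊗[R] CliffordAlgebra Q) := Module.subsingleton B _
    haveI : Subsingleton (B ⧸ I) := (Ideal.Quotient.mk_surjective (I := I)).subsingleton
    haveI : Subsingleton ((B ⧸ I) ⊗[R] CliffordAlgebra Q) := Module.subsingleton (B ⧸ I) _
    exact ⟨0, 0, ⟨Subsingleton.elim _ _, Subsingleton.elim _ _, fun _ => Subsingleton.elim _ _,
      fun _ => Subsingleton.elim _ _⟩, Subsingleton.elim _ _⟩
  · obtain ⟨w, hw, hcw⟩ := exists_lift_GPin' hn Q hQ B I hI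
      (unitOf Q (B ⧸ I) xb yb h.1 h.2.1) (unitOf_mem Q (B ⧸ I) _ h)
    refine ⟨_, _, isGP_of_mem_GPin' Q B (Pi.basisFun R (Fin n)) hw, ?_⟩
    rw [← bcEquiv_cmap, hcw, bcEquiv_unitOf]

end Main

end Groth.Agent.H9.CR
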