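import Mathlib
import Groth.Prelude.Def_QuadGrp2
import Groth.Agent.Lib.Helper9.Misc.CR2
import Groth.Agent.Lib.Helper9.Misc.CR3
import Groth.Agent.Lib.Helper9.Misc.QO9

/-! The coordinate ring of the Clifford group `GPin(q) = GPin′(q) ⊓ LH(q)` of a quadratic form on a
finite free module (helper9): one more variable `e` (the idempotent of local homogeneity, which is
uniquely determined by the unit). -/

set_option autoImplicit false

open TensorProduct CliffordAlgebra Groth.Agent.H9.QG Groth.Agent.H9.QO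

namespace Groth.Agent.H9.CR

universe u

section LHcoord

variable {R : Type u} [CommRing R] {M : Type u} [AddCommGroup M] [Module R M] [Module.Free R M]
  (Q : QuadraticForm R M)

theorem Tm_baseChange {A B : Type u} [CommRing A] [Algebra R A] [CommRing B] [Algebra R B]
    (f : CliffordAlgebra Q →ₗ[R] CliffordAlgebra Q)
    (ψ : A →ₐ[R] B) (z : A ⊗[R] CliffordAlgebra Q) :
    Tm Q ψ (f.baseChange A z) = f.baseChange B (Tm Q ψ z) := by
  induction z using TensorProduct.induction_on with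
  | zero => rw [map_zero, map_zero, map_zero]
  | tmul a c => rw [LinearMap.baseChange_tmul, Tm_tmul, Tm_tmul, LinearMap.baseChange_tmul]
  | add x y hx hy => rw [map_add, map_add, hx, hy, map_add, map_add]

theorem Tm_smul {A B : Type u} [CommRing A] [Algebra R A] [CommRing B] [Algebra R B]
    (ψ : A →ₐ[R] B) (a : A) (z : A ⊗[R] CliffordAlgebra Q) :
    Tm Q ψ (a • z) = ψ a • Tm Q ψ z := by
  rw [Tm_eq_rTensor, Tm_eq_rTensor, rTensor_smul']

variable (A : Type u) [CommRing A] [Algebra R A]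

/-- the "constant term" functional on `A ⊗ C(Q)` -/
noncomputable def tau : A ⊗[R] CliffordAlgebra Q →ₗ[A] A :=
  (AlgebraTensorModule.rid R A A).toLinearMap ∘ₗ (eps Q).baseChange A

theorem tau_tmul_one (a : A) : tau Q A (a ⊗ₜ[R] (1 : CliffordAlgebra Q)) = a := by
  change AlgebraTensorModule.rid R A A ((eps Q).baseChange A (a ⊗ₜ[R] (1 : CliffordAlgebra Q))) = a
  rw [LinearMap.baseChange_tmul, eps_one, AlgebraTensorModule.rid_tmul, one_smul]

theorem tmul_one_eq_zero_iff (a : A) : a ⊗ₜ[R] (1 : CliffordAlgebra Q) = 0 ↔ a = 0 := by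
  constructor
  · intro h
    have := congrArg (tau Q A) h
    rwa [tau_tmul_one, map_zero] at this
  · rintro rfl
    exact zero_tmul _ _

/-- base change of the even projection -/
noncomputable abbrev P0A : A ⊗[R] CliffordAlgebra Q →ₗ[A] A ⊗[R] CliffordAlgebra Q :=
  (e₀ Q).baseChange A

/-- base change of the odd projection -/
noncomputable abbrev P1A : A ⊗[R] CliffordAlgebra Q →ₗ[A] A ⊗[R] CliffordAlgebra Q :=
  (e₁ Q).baseChange A

theorem P0A_add_P1A (t : A ⊗[R] CliffordAlgebra Q) : P0A Q A t + P1A Q A t = t := by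
  induction t using TensorProduct.induction_on with
  | zero => rw [map_zero, map_zero, add_zero]
  | tmul a c => rw [LinearMap.baseChange_tmul, LinearMap.baseChange_tmul, ← tmul_add, e₀_add_e₁]
  | add x y hx hy =>
    rw [map_add, map_add]
    calc P0A Q A x + P0A Q A y + (P1A Q A x + P1A Q A y)
        = (P0A Q A x + P1A Q A x) + (P0A Q A y + P1A Q A y) := by abel
      _ = x + y := by rw [hx, hy]

theorem symm_P0A_mem (t : A ⊗[R] CliffordAlgebra Q) :
    (bcEquiv A Q).symm (P0A Q A t) ∈ evenOdd (QuadGrp.baseChangeForm A Q) 0 := by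
  induction t using TensorProduct.induction_on with
  | zero => rw [map_zero, map_zero]; exact Submodule.zero_mem _
  | tmul a c =>
    rw [LinearMap.baseChange_tmul, bcEquiv_symm_apply, ofTensor_tmul, ← Algebra.smul_def]
    exact Submodule.smul_mem _ _ (toBC_mem_even A Q (e₀_mem Q c))
  | add x y hx hy => rw [map_add, map_add]; exact Submodule.add_mem _ hx hy

theorem symm_P1A_mem (t : A ⊗[R] CliffordAlgebra Q) :
    (bcEquiv A Q).symm (P1A Q A t) ∈ evenOdd (QuadGrp.baseChangeForm A Q) 1 := by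
  induction t using TensorProduct.induction_on with
  | zero => rw [map_zero, map_zero]; exact Submodule.zero_mem _
  | tmul a c =>
    rw [LinearMap.baseChange_tmul, bcEquiv_symm_apply, ofTensor_tmul, ← Algebra.smul_def]
    exact Submodule.smul_mem _ _ (toBC_mem_odd A Q (e₁_mem Q c))
  | add x y hx hy => rw [map_add, map_add]; exact Submodule.add_mem _ hx hy

theorem mem_even_iff (t : A ⊗[R] CliffordAlgebra Q) :
    (bcEquiv A Q).symm t ∈ evenOdd (QuadGrp.baseChangeForm A Q) 0 ↔ P1A Q A t = 0 := by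
  have hsum : (bcEquiv A Q).symm t =
      (bcEquiv A Q).symm (P0A Q A t) + (bcEquiv A Q).symm (P1A Q A t) := by
    rw [← map_add, P0A_add_P1A]
  constructor
  · intro h
    have h1 : (bcEquiv A Q).symm (P1A Q A t) ∈ evenOdd (QuadGrp.baseChangeForm A Q) 0 := by
      have : (bcEquiv A Q).symm (P1A Q A t) =
          (bcEquiv A Q).symm t - (bcEquiv A Q).symm (P0A Q A t) := by rw [hsum]; abel
      rw [this]
      exact Submodule.sub_mem _ h (symm_P0A_mem Q A t)
    have h2 := eq_zero_of_mem_even_of_mem_odd h1 (symm_P1A_mem Q A t)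
    exact (bcEquiv A Q).symm.injective (by rw [h2, map_zero])
  · intro h
    rw [hsum, h, map_zero, add_zero]
    exact symm_P0A_mem Q A t

theorem mem_odd_iff (t : A ⊗[R] CliffordAlgebra Q) :
    (bcEquiv A Q).symm t ∈ evenOdd (QuadGrp.baseChangeForm A Q) 1 ↔ P0A Q A t = 0 := by
  have hsum : (bcEquiv A Q).symm t =
      (bcEquiv A Q).symm (P0A Q A t) + (bcEquiv A Q).symm (P1A Q A t) := by
    rw [← map_add, P0A_add_P1A]
  constructor
  · intro h
    have h1 : (bcEquiv A Q).symm (P0A Q A t) ∈ evenOdd (QuadGrp.baseChangeForm A Q) 1 := by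
      have : (bcEquiv A Q).symm (P0A Q A t) =
          (bcEquiv A Q).symm t - (bcEquiv A Q).symm (P1A Q A t) := by rw [hsum]; abel
      rw [this]
      exact Submodule.sub_mem _ h (symm_P1A_mem Q A t)
    have h2 := eq_zero_of_mem_even_of_mem_odd (symm_P0A_mem Q A t) h1
    exact (bcEquiv A Q).symm.injective (by rw [h2, map_zero])
  · intro h
    rw [hsum, h, map_zero, zero_add]
    exact symm_P1A_mem Q A t

/-- local homogeneity in coordinates -/
def IsLH (e : A) (x : A ⊗[R] CliffordAlgebra Q) : Prop :=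
  e * e = e ∧ e • P1A Q A x = 0 ∧ (1 - e) • P0A Q A x = 0

theorem isLocHomog_iff (w : CliffordAlgebra (QuadGrp.baseChangeForm A Q)) :
    QuadGrp.IsLocHomog (QuadGrp.baseChangeForm A Q) w ↔ ∃ e, IsLH Q A e (bcEquiv A Q w) := by
  refine exists_congr fun e => and_congr Iff.rfl (and_congr ?_ ?_)
  · have : e • w = (bcEquiv A Q).symm (e • bcEquiv A Q w) := by
      rw [map_smul, AlgEquiv.symm_apply_apply]
    rw [this, mem_even_iff, map_smul]
  · have : (1 - e) • w = (bcEquiv A Q).symm ((1 - e) • bcEquiv A Q w) := by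
      rw [map_smul, AlgEquiv.symm_apply_apply]
    rw [this, mem_odd_iff, map_smul]

theorem isLH_mul_eq_zero {e e' : A} {x y : A ⊗[R] CliffordAlgebra Q} (hxy : x * y = 1)
    (h : IsLH Q A e x) (h' : IsLH Q A e' x) : e * (1 - e') = 0 := by
  have hx0 : (e * (1 - e')) • x = 0 := by
    have h1 : (e * (1 - e')) • P0A Q A x = 0 := by rw [mul_smul, h'.2.2, smul_zero]
    have h2 : (e * (1 - e')) • P1A Q A x = 0 := by rw [mul_comm, mul_smul, h.2.1, smul_zero]
    calc (e * (1 - e')) • x = (e * (1 - e')) • (P0A Q A x + P1A Q A x) := by rw [P0A_add_P1A]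
      _ = 0 := by rw [smul_add, h1, h2, add_zero]
  have h1 : (e * (1 - e')) • (1 : A ⊗[R] CliffordAlgebra Q) = 0 := by
    rw [← hxy, ← smul_mul_assoc, hx0, zero_mul]
  have h2 := congrArg (tau Q A) h1
  rwa [map_smul, Algebra.TensorProduct.one_def, tau_tmul_one, map_zero, smul_eq_mul,
    mul_one] at h2

theorem isLH_unique {e e' : A} {x y : A ⊗[R] CliffordAlgebra Q} (hxy : x * y = 1)
    (h : IsLH Q A e x) (h' : IsLH Q A e' x) : e = e' := by
  have h1 := isLH_mul_eq_zero Q A hxy h h'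
  have h2 := isLH_mul_eq_zero Q A hxy h' h
  have e1 : e = e * e' := by linear_combination h1
  have e2 : e' = e' * e := by linear_combination h2
  calc e = e * e' := e1
    _ = e' * e := mul_comm _ _
    _ = e' := e2.symm

theorem IsLH.map {A B : Type u} [CommRing A] [Algebra R A] [CommRing B] [Algebra R B]
    (ψ : A →ₐ[R] B) {e : A} {x : A ⊗[R] CliffordAlgebra Q} (h : IsLH Q A e x) :
    IsLH Q B (ψ e) (Tm Q ψ x) := by
  refine ⟨by rw [← map_mul, h.1], ?_, ?_⟩
  · rw [← Tm_baseChange, ← Tm_smul, h.2.1, map_zero]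
  · have : (1 : B) - ψ e = ψ (1 - e) := by rw [map_sub, map_one]
    rw [this, ← Tm_baseChange, ← Tm_smul, h.2.2, map_zero]

end LHcoord

section FamilyLH

variable {R : Type u} [CommRing R] {M : Type u} [AddCommGroup M] [Module R M] [Module.Free R M]
  (Q : QuadraticForm R M) {n : ℕ} (b : Module.Basis (Fin n) R M)
  {K : Type} [Fintype K] [DecidableEq K] (bC : Module.Basis K R (CliffordAlgebra Q))

/-- the natural family of elements cutting out `GPin = GPin′ ⊓ LH` (variables: coordinates of the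
unit, of its inverse, and the idempotent) -/
noncomputable def ELH (A : Type u) [CommRing A] [Algebra R A] (a : (K ⊕ K) ⊕ Unit → A) :
    (Bool ⊕ (Bool × Fin n)) ⊕ Option Bool → A ⊗[R] CliffordAlgebra Q
  | Sum.inl j => EGP Q b bC A (fun v => a (Sum.inl v)) j
  | Sum.inr none =>
      (a (Sum.inr ()) * a (Sum.inr ()) - a (Sum.inr ())) ⊗ₜ[R] (1 : CliffordAlgebra Q)
  | Sum.inr (some false) =>
      a (Sum.inr ()) • P1A Q A (vec bC A (fun k => a (Sum.inl (Sum.inl k))))
  | Sum.inr (some true) =>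
      (1 - a (Sum.inr ())) • P0A Q A (vec bC A (fun k => a (Sum.inl (Sum.inl k))))

theorem ELH_iff (A : Type u) [CommRing A] [Algebra R A] (a : (K ⊕ K) ⊕ Unit → A) :
    (∀ j, ELH Q b bC A a j = 0) ↔
      IsGP Q A b (vec bC A (fun k => a (Sum.inl (Sum.inl k))))
        (vec bC A (fun k => a (Sum.inl (Sum.inr k)))) ∧
      IsLH Q A (a (Sum.inr ())) (vec bC A (fun k => a (Sum.inl (Sum.inl k)))) := by
  constructor
  · intro h
    refine ⟨(EGP_iff Q b bC A (fun v => a (Sum.inl v))).mp (fun j => h (Sum.inl j)), ?_,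
      h (Sum.inr (some false)), h (Sum.inr (some true))⟩
    have := h (Sum.inr none)
    exact sub_eq_zero.mp ((tmul_one_eq_zero_iff Q A _).mp this)
  · rintro ⟨h1, h2, h3, h4⟩ (j | (_ | (_ | _)))
    · exact (EGP_iff Q b bC A (fun v => a (Sum.inl v))).mpr h1 j
    · exact (tmul_one_eq_zero_iff Q A _).mpr (sub_eq_zero.mpr h2)
    · exact h3
    · exact h4

theorem isNat_ELH : IsNat (ELH Q b bC) := by
  intro A B _ _ _ _ ψ a j
  rcases j with j | (_ | (_ | _))
  · exact isNat_EGP Q b bC A B ψ (fun v => a (Sum.inl v)) j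
  · rw [← Tm_eq_rTensor]
    change Tm Q ψ ((a (Sum.inr ()) * a (Sum.inr ()) - a (Sum.inr ())) ⊗ₜ[R] 1) =
      (ψ (a (Sum.inr ())) * ψ (a (Sum.inr ())) - ψ (a (Sum.inr ()))) ⊗ₜ[R] 1
    rw [Tm_tmul, map_sub, map_mul]
  · rw [← Tm_eq_rTensor]
    change Tm Q ψ (a (Sum.inr ()) • P1A Q A (vec bC A _)) =
      ψ (a (Sum.inr ())) • P1A Q B (vec bC B _)
    rw [Tm_smul, Tm_baseChange, Tm_vec]
  · rw [← Tm_eq_rTensor]
    change Tm Q ψ ((1 - a (Sum.inr ())) • P0A Q A (vec bC A _)) =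
      (1 - ψ (a (Sum.inr ()))) • P0A Q B (vec bC B _)
    rw [Tm_smul, Tm_baseChange, Tm_vec, map_sub, map_one]

/-- the coordinate ring of `GPin(q)` -/
abbrev ALH : Type u := A0 bC (ELH Q b bC)

/-- the universal element -/
noncomputable def x0L : ALH Q b bC ⊗[R] CliffordAlgebra Q :=
  vec bC (ALH Q b bC) (fun k => pt bC (ELH Q b bC) (Sum.inl (Sum.inl k)))

/-- the inverse of the universal element -/
noncomputable def y0L : ALH Q b bC ⊗[R] CliffordAlgebra Q :=
  vec bC (ALH Q b bC) (fun k => pt bC (ELH Q b bC) (Sum.inl (Sum.inr k)))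

/-- the universal idempotent -/
noncomputable def e0L : ALH Q b bC := pt bC (ELH Q b bC) (Sum.inr ())

theorem isGP_x0L : IsGP Q (ALH Q b bC) b (x0L Q b bC) (y0L Q b bC) :=
  ((ELH_iff Q b bC _ _).mp (pt_spec bC _ (isNat_ELH Q b bC))).1

theorem isLH_x0L : IsLH Q (ALH Q b bC) (e0L Q b bC) (x0L Q b bC) :=
  ((ELH_iff Q b bC _ _).mp (pt_spec bC _ (isNat_ELH Q b bC))).2

/-- the universal point of `GPin` -/
noncomputable def u0L : (CliffordAlgebra (QuadGrp.baseChangeForm (ALH Q b bC) Q))ˣ :=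
  unitOf Q _ (x0L Q b bC) (y0L Q b bC) (isGP_x0L Q b bC).1 (isGP_x0L Q b bC).2.1

theorem u0L_mem : u0L Q b bC ∈ QuadGrp.GPin (QuadGrp.baseChangeForm (ALH Q b bC) Q) := by
  refine Subgroup.mem_inf.mpr ⟨unitOf_mem Q _ b (isGP_x0L Q b bC), ?_⟩
  change QuadGrp.IsLocHomog _ _
  rw [isLocHomog_iff]
  refine ⟨e0L Q b bC, ?_⟩
  have : bcEquiv (ALH Q b bC) Q (u0L Q b bC : CliffordAlgebra
      (QuadGrp.baseChangeForm (ALH Q b bC) Q)) = x0L Q b bC := bcEquiv_unitOf Q _ _ _ _ _
  rw [this]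
  exact isLH_x0L Q b bC

theorem finitePresentation_ALH : Algebra.FinitePresentation R (ALH Q b bC) :=
  finitePresentation bC _

theorem isUniversal_GPin :
    IsUniversalC (fun A _ _ => QuadGrp.gpin Q A) (ALH Q b bC) ⟨u0L Q b bC, u0L_mem Q b bC⟩ := by
  intro A _ _ u
  have hu : (u : (CliffordAlgebra (QuadGrp.baseChangeForm A Q))ˣ) ∈
      QuadGrp.GPin' (QuadGrp.baseChangeForm A Q) := (Subgroup.mem_inf.mp u.2).1
  have hu2 : QuadGrp.IsLocHomog (QuadGrp.baseChangeForm A Q)
      ((u : (CliffordAlgebra (QuadGrp.baseChangeForm A Q))ˣ) :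
        CliffordAlgebra (QuadGrp.baseChangeForm A Q)) := (Subgroup.mem_inf.mp u.2).2
  have hgp := isGP_of_mem_GPin' Q A b hu
  obtain ⟨e, he⟩ := (isLocHomog_iff Q A _).mp hu2
  set x := bcEquiv A Q ((u : (CliffordAlgebra (QuadGrp.baseChangeForm A Q))ˣ) :
    CliffordAlgebra (QuadGrp.baseChangeForm A Q)) with hx
  set y := bcEquiv A Q (↑(u : (CliffordAlgebra (QuadGrp.baseChangeForm A Q))ˣ)⁻¹ :
    CliffordAlgebra (QuadGrp.baseChangeForm A Q)) with hy
  let a : (K ⊕ K) ⊕ Unit → A :=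
    Sum.elim (Sum.elim (fun k => coord bC A k x) (fun k => coord bC A k y)) (fun _ => e)
  have hax : vec bC A (fun k => a (Sum.inl (Sum.inl k))) = x := vec_coord bC A x
  have hay : vec bC A (fun k => a (Sum.inl (Sum.inr k))) = y := vec_coord bC A y
  obtain ⟨ψ, hψ⟩ := exists_hom bC (ELH Q b bC) (isNat_ELH Q b bC) a
    ((ELH_iff Q b bC A a).mpr (by rw [hax, hay]; exact ⟨hgp, he⟩))
  have key : ∀ ψ' : ALH Q b bC →ₐ[R] A,
      (((u : (CliffordAlgebra (QuadGrp.baseChangeForm A Q))ˣ) :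
        CliffordAlgebra (QuadGrp.baseChangeForm A Q)) =
        cmap Q ψ' ((u0L Q b bC : (CliffordAlgebra (QuadGrp.baseChangeForm (ALH Q b bC) Q))ˣ) :
          CliffordAlgebra (QuadGrp.baseChangeForm (ALH Q b bC) Q))) ↔
      ∀ v, ψ' (pt bC (ELH Q b bC) v) = a v := by
    intro ψ'
    have hTx : Tm Q ψ' (x0L Q b bC) =
        vec bC A (fun k => ψ' (pt bC (ELH Q b bC) (Sum.inl (Sum.inl k)))) := Tm_vec Q bC ψ' _
    have hTy : Tm Q ψ' (y0L Q b bC) =
        vec bC A (fun k => ψ' (pt bC (ELH Q b bC) (Sum.inl (Sum.inr k)))) := Tm_vec Q bC ψ' _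
    have hb0 : bcEquiv A Q (cmap Q ψ' ((u0L Q b bC :
        (CliffordAlgebra (QuadGrp.baseChangeForm (ALH Q b bC) Q))ˣ) :
          CliffordAlgebra (QuadGrp.baseChangeForm (ALH Q b bC) Q))) = Tm Q ψ' (x0L Q b bC) := by
      rw [bcEquiv_cmap]
      congr 1
      exact bcEquiv_unitOf Q _ _ _ _ _
    constructor
    · intro h
      have h1 : x = Tm Q ψ' (x0L Q b bC) := by rw [hx, h, hb0]
      have h2 : y = Tm Q ψ' (y0L Q b bC) := by
        refine left_inv_eq_right_inv hgp.2.1 ?_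
        rw [h1, ← map_mul, (isGP_x0L Q b bC).1, map_one]
      have h3 : IsLH Q A (ψ' (e0L Q b bC)) x := by
        rw [h1]
        exact (isLH_x0L Q b bC).map Q ψ'
      rintro ((k | k) | _)
      · change ψ' _ = coord bC A k x
        rw [h1, hTx, coord_vec]
      · change ψ' _ = coord bC A k y
        rw [h2, hTy, coord_vec]
      · change ψ' (e0L Q b bC) = e
        exact isLH_unique Q A hgp.1 h3 he
    · intro h
      apply (bcEquiv A Q).injective
      rw [hb0, hTx, ← hx, ← hax]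
      congr 1
      funext k
      exact (h (Sum.inl (Sum.inl k))).symm
  refine ⟨ψ, (key ψ).mpr hψ, fun ψ' h' => hom_ext bC _ ψ' ψ fun v => ?_⟩
  rw [(key ψ').mp h' v, hψ v]

theorem formallySmooth_ALH
    (hlift : ∀ (B : Type u) [CommRing B] [Algebra R B] (I : Ideal B), I ^ 2 = ⊥ →
      ∀ (xb yb : (B ⧸ I) ⊗[R] CliffordAlgebra Q) (eb : B ⧸ I), IsGP Q (B ⧸ I) b xb yb →
        IsLH Q (B ⧸ I) eb xb →
        ∃ (x y : B ⊗[R] CliffordAlgebra Q) (e : B), IsGP Q B b x y ∧ IsLH Q B e x ∧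
          Tm Q (Ideal.Quotient.mkₐ R I) x = xb) :
    Algebra.FormallySmooth R (ALH Q b bC) := by
  refine Algebra.FormallySmooth.of_comp_surjective fun B _ _ I hI fb => ?_
  obtain ⟨hgp, hlh⟩ := (ELH_iff Q b bC _ _).mp (spec_of_hom bC _ (isNat_ELH Q b bC) fb)
  obtain ⟨x, y, e, hxy, hxe, hx⟩ := hlift B I hI _ _ _ hgp hlh
  have hy : Tm Q (Ideal.Quotient.mkₐ R I) y =
      vec bC (B ⧸ I) (fun k => fb (pt bC (ELH Q b bC) (Sum.inl (Sum.inr k)))) := by
    refine left_inv_eq_right_inv ?_ hgp.1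
    rw [← hx, ← map_mul, hxy.2.1, map_one]
  have he : Ideal.Quotient.mkₐ R I e = fb (pt bC (ELH Q b bC) (Sum.inr ())) := by
    have h1 := hxe.map Q (Ideal.Quotient.mkₐ R I)
    rw [hx] at h1
    exact isLH_unique Q (B ⧸ I) hgp.1 h1 hlh
  let a : (K ⊕ K) ⊕ Unit → B :=
    Sum.elim (Sum.elim (fun k => coord bC B k x) (fun k => coord bC B k y)) (fun _ => e)
  have hax : vec bC B (fun k => a (Sum.inl (Sum.inl k))) = x := vec_coord bC B x
  have hay : vec bC B (fun k => a (Sum.inl (Sum.inr k))) = y := vec_coord bC B y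
  obtain ⟨ψ, hψ⟩ := exists_hom bC (ELH Q b bC) (isNat_ELH Q b bC) a
    ((ELH_iff Q b bC B a).mpr (by rw [hax, hay]; exact ⟨hxy, hxe⟩))
  refine ⟨ψ, ?_⟩
  apply hom_ext bC
  intro v
  change Ideal.Quotient.mkₐ R I (ψ (pt bC (ELH Q b bC) v)) = fb (pt bC (ELH Q b bC) v)
  rw [hψ]
  rcases v with (k | k) | _
  · change Ideal.Quotient.mkₐ R I (coord bC B k x) = _
    rw [← coord_rTensor, ← Tm_eq_rTensor, hx, coord_vec]
  · change Ideal.Quotient.mkₐ R I (coord bC B k y) = _
    rw [← coord_rTensor, ← Tm_eq_rTensor, hy, coord_vec]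
  · exact he

end FamilyLH

end Groth.Agent.H9.CR
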