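import Mathlib
import Groth.Prelude.Def_QuadGrp2
import Groth.Agent.Lib.Helper9.Misc.CR4
import Groth.Agent.Lib.Helper9.Misc.QO6

/-! Formal smoothness of the Clifford group of a semiregular form of odd rank (helper9). -/

set_option autoImplicit false

open TensorProduct CliffordAlgebra Groth.Agent.H9.QG Groth.Agent.H9.QO

namespace Groth.Agent.H9.CR

universe u

section Central

variable {R : Type u} [CommRing R] {M : Type u} [AddCommGroup M] [Module R M]

/-- in odd rank, the automorphism of the Clifford algebra induced by an element of `SO′` fixes the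
centre -/
theorem map_central_of_SO' (m : ℕ) (b : Module.Basis (Fin (2 * m + 1)) R M)
    (Q : QuadraticForm R M) (hQ : QuadGrp.IsSemiregular b (LinearEquiv.refl R R) Q)
    (g : M ≃ₗ[R] M) (hgO : g ∈ QuadGrp.O Q) (hgdet : LinearEquiv.det g = 1)
    (z : CliffordAlgebra Q) (hz : ∀ x, z * ι Q x = ι Q x * z) :
    CliffordAlgebra.map (QuadGrp.isometryOfMem Q g hgO) z = z := by
  haveI : Module.Free R M := Module.Free.of_basis b
  haveI : Module.Finite R M := Module.Finite.of_basis b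
  rw [← sub_eq_zero]
  apply eq_zero_of_toBC_eq_zero Q
  intro p _
  rw [map_sub, sub_eq_zero, ← map_baseChange_toBC (Localization.AtPrime p) Q g hgO z]
  have hgA : g.baseChange R (Localization.AtPrime p) M M ∈
      QuadGrp.SO' (QuadGrp.baseChangeForm (Localization.AtPrime p) Q) := by
    refine Subgroup.mem_inf.mpr ⟨baseChange_mem_O (Localization.AtPrime p) Q g hgO,
      MonoidHom.mem_ker.mpr ?_⟩
    apply Units.ext
    rw [LinearEquiv.coe_det, LinearEquiv.coe_baseChange, LinearMap.det_baseChange,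
      ← LinearEquiv.coe_det, hgdet]
    simp
  obtain ⟨u, -, hu⟩ := exists_gspin_of_SO' m (b.baseChange (Localization.AtPrime p))
    (QuadGrp.baseChangeForm (Localization.AtPrime p) Q)
    (isSemiregular_baseChange (Localization.AtPrime p) b Q hQ)
    (g.baseChange R (Localization.AtPrime p) M M) hgA
  rw [← conj_eq_map u (g.baseChange R (Localization.AtPrime p) M M)
    (baseChange_mem_O (Localization.AtPrime p) Q g hgO) hu]
  rw [← central_of_comm_ι (toBC_comm_ι (Localization.AtPrime p) Q hz) (u : CliffordAlgebra _),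
    mul_assoc, Units.mul_inv, mul_one]

/-- conjugation by a locally homogeneous unit preserves the even part -/
theorem conj_mem_even {Q : QuadraticForm R M} (e : R) (he : IsIdempotentElem e)
    {u ui c : CliffordAlgebra Q} (hu0 : e • u ∈ evenOdd Q 0) (hu1 : (1 - e) • u ∈ evenOdd Q 1)
    (hi0 : e • ui ∈ evenOdd Q 0) (hi1 : (1 - e) • ui ∈ evenOdd Q 1) (hc : c ∈ evenOdd Q 0) :
    ui * c * u ∈ evenOdd Q 0 := by
  have he' : (1 - e) * (1 - e) = 1 - e := by
    have := he.eq
    linear_combination this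
  have key : ui * c * u = (e • ui) * c * (e • u) + ((1 - e) • ui) * c * ((1 - e) • u) := by
    simp only [smul_mul_assoc, mul_smul_comm, smul_smul]
    rw [he.eq, he', ← add_smul, add_sub_cancel, one_smul]
  rw [key]
  refine Submodule.add_mem _ ?_ ?_
  · have := SetLike.mul_mem_graded (SetLike.mul_mem_graded hi0 hc) hu0
    rwa [add_zero, add_zero] at this
  · have := SetLike.mul_mem_graded (SetLike.mul_mem_graded hi1 hc) hu1
    rwa [add_zero, show (1 : ZMod 2) + 1 = 0 from rfl] at this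

end Central

section CmapParity

variable {R : Type u} [CommRing R] {M : Type u} [AddCommGroup M] [Module R M] [Module.Free R M]
  (Q : QuadraticForm R M)
  {A B : Type u} [CommRing A] [Algebra R A] [CommRing B] [Algebra R B] (ψ : A →ₐ[R] B)

theorem cmap_smul (a : A) (c : CliffordAlgebra (QuadGrp.baseChangeForm A Q)) :
    cmap Q ψ (a • c) = ψ a • cmap Q ψ c := by
  rw [Algebra.smul_def, map_mul, cmap_algebraMap, ← Algebra.smul_def]

theorem cmap_mem_even {c : CliffordAlgebra (QuadGrp.baseChangeForm A Q)}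
    (hc : c ∈ evenOdd (QuadGrp.baseChangeForm A Q) 0) :
    cmap Q ψ c ∈ evenOdd (QuadGrp.baseChangeForm B Q) 0 := by
  induction c, hc using even_induction with
  | algebraMap r => rw [cmap_algebraMap]; exact SetLike.algebraMap_mem_graded _ _
  | add x y _ _ ihx ihy => rw [map_add]; exact Submodule.add_mem _ ihx ihy
  | ι_mul_ι_mul m₁ m₂ x hx ih =>
    rw [map_mul, map_mul, cmap_ι, cmap_ι]
    have := SetLike.mul_mem_graded (ι_mul_ι_mem_evenOdd_zero (QuadGrp.baseChangeForm B Q)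
      (LinearMap.rTensor M ψ.toLinearMap m₁) (LinearMap.rTensor M ψ.toLinearMap m₂)) ih
    rwa [add_zero] at this

theorem cmap_mem_odd {c : CliffordAlgebra (QuadGrp.baseChangeForm A Q)}
    (hc : c ∈ evenOdd (QuadGrp.baseChangeForm A Q) 1) :
    cmap Q ψ c ∈ evenOdd (QuadGrp.baseChangeForm B Q) 1 := by
  induction c, hc using odd_induction with
  | ι v => rw [cmap_ι]; exact ι_mem_evenOdd_one _ _
  | add x y _ _ ihx ihy => rw [map_add]; exact Submodule.add_mem _ ihx ihy
  | ι_mul_ι_mul m₁ m₂ x hx ih =>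
    rw [map_mul, map_mul, cmap_ι, cmap_ι]
    have := SetLike.mul_mem_graded (ι_mul_ι_mem_evenOdd_zero (QuadGrp.baseChangeForm B Q)
      (LinearMap.rTensor M ψ.toLinearMap m₁) (LinearMap.rTensor M ψ.toLinearMap m₂)) ih
    rwa [zero_add] at this

theorem cmap_e₀ (c : CliffordAlgebra (QuadGrp.baseChangeForm A Q)) :
    cmap Q ψ (e₀ (QuadGrp.baseChangeForm A Q) c) =
      e₀ (QuadGrp.baseChangeForm B Q) (cmap Q ψ c) := by
  have h := congrArg (cmap Q ψ) (e₀_add_e₁ (QuadGrp.baseChangeForm A Q) c)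
  rw [map_add] at h
  rw [← h, e₀_add _ (cmap_mem_even Q ψ (e₀_mem _ c)) (cmap_mem_odd Q ψ (e₁_mem _ c))]

theorem cmap_e₁ (c : CliffordAlgebra (QuadGrp.baseChangeForm A Q)) :
    cmap Q ψ (e₁ (QuadGrp.baseChangeForm A Q) c) =
      e₁ (QuadGrp.baseChangeForm B Q) (cmap Q ψ c) := by
  have h := congrArg (cmap Q ψ) (e₀_add_e₁ (QuadGrp.baseChangeForm A Q) c)
  rw [map_add] at h
  rw [← h, e₁_add _ (cmap_mem_even Q ψ (e₀_mem _ c)) (cmap_mem_odd Q ψ (e₁_mem _ c))]

end CmapParity

section LiftSO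

variable {R : Type u} [CommRing R] {n : ℕ}

theorem rTensor_comm_of_mapMatrix (B : Type u) [CommRing B] [Algebra R B] (I : Ideal B)
    (g : (B ⊗[R] (Fin n → R)) ≃ₗ[B] (B ⊗[R] (Fin n → R)))
    (gb : ((B ⧸ I) ⊗[R] (Fin n → R)) ≃ₗ[B ⧸ I] ((B ⧸ I) ⊗[R] (Fin n → R)))
    (h : ((Ideal.Quotient.mkₐ R I : B →ₐ[R] B ⧸ I) : B →+* B ⧸ I).mapMatrix
        (LinearMap.toMatrix (SG.bas R n B) (SG.bas R n B) g.toLinearMap) =
      LinearMap.toMatrix (SG.bas R n (B ⧸ I)) (SG.bas R n (B ⧸ I)) gb.toLinearMap) :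
    ∀ v, LinearMap.rTensor (Fin n → R) (Ideal.Quotient.mkₐ R I).toLinearMap (g v) =
      gb (LinearMap.rTensor (Fin n → R) (Ideal.Quotient.mkₐ R I).toLinearMap v) := by
  have h1 := (SG.link (Ideal.Quotient.mkₐ R I) g gb).mpr h
  intro v
  induction v using TensorProduct.induction_on with
  | zero => rw [map_zero, map_zero, map_zero]
  | tmul b m =>
    have e : b ⊗ₜ[R] m = b • ((1 : B) ⊗ₜ[R] m) := by
      rw [TensorProduct.smul_tmul', smul_eq_mul, mul_one]
    rw [e, map_smul, rTensor_smul', rTensor_smul', ← h1, map_smul, LinearMap.rTensor_tmul,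
      AlgHom.toLinearMap_apply, map_one]
  | add x y hx hy => rw [map_add, map_add, hx, hy, map_add, map_add]

/-- elements of `SO′` of a semiregular form of odd rank lift along square-zero extensions -/
theorem exists_lift_SO' {m : ℕ} (Q : QuadraticForm R (Fin (2 * m + 1) → R))
    (hQ : QuadGrp.IsSemiregular (Pi.basisFun R (Fin (2 * m + 1))) (LinearEquiv.refl R R) Q)
    (B : Type u) [CommRing B] [Algebra R B] (I : Ideal B) (hI : I ^ 2 = ⊥)
    (gb : ((B ⧸ I) ⊗[R] (Fin (2 * m + 1) → R)) ≃ₗ[B ⧸ I] ((B ⧸ I) ⊗[R] (Fin (2 * m + 1) → R)))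
    (hgb : gb ∈ QuadGrp.O (QuadGrp.baseChangeForm (B ⧸ I) Q))
    (hdet : LinearMap.det gb.toLinearMap = 1) :
    ∃ g : (B ⊗[R] (Fin (2 * m + 1) → R)) ≃ₗ[B] (B ⊗[R] (Fin (2 * m + 1) → R)),
      g ∈ QuadGrp.O (QuadGrp.baseChangeForm B Q) ∧ LinearEquiv.det g = 1 ∧
      ∀ v, LinearMap.rTensor (Fin (2 * m + 1) → R) (Ideal.Quotient.mkₐ R I).toLinearMap (g v) =
        gb (LinearMap.rTensor (Fin (2 * m + 1) → R) (Ideal.Quotient.mkₐ R I).toLinearMap v) := by
  have halt := (SO.isometry_iff_isAlt Q (B ⧸ I) gb.toLinearMap).mp hgb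
  have hdet' : (LinearMap.toMatrix (SG.bas R (2 * m + 1) (B ⧸ I)) (SG.bas R (2 * m + 1) (B ⧸ I))
      gb.toLinearMap).det = 1 := by
    rw [LinearMap.det_toMatrix, hdet]
  obtain ⟨U, V, hUV, hVU, hU, haltU, hdetU⟩ := SO.lift_odd Q hQ B I hI _ _
    (SG.toMatrix_mul_symm (B ⧸ I) gb) halt hdet'
  have hgU := SG.toMatrix_equivOfMat (R := R) B U V hUV hVU
  refine ⟨SG.equivOfMat (R := R) B U V hUV hVU, ?_, ?_, ?_⟩
  · exact (SO.isometry_iff_isAlt Q B (SG.equivOfMat (R := R) B U V hUV hVU).toLinearMap).mpr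
      (by rw [hgU]; exact haltU)
  · apply Units.ext
    rw [LinearEquiv.coe_det, Units.val_one,
      ← LinearMap.det_toMatrix (SG.bas R (2 * m + 1) B)]
    exact (congrArg Matrix.det hgU).trans hdetU
  · apply rTensor_comm_of_mapMatrix
    rw [hgU]
    exact hU

end LiftSO

end Groth.Agent.H9.CR
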