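import Mathlib
import Groth.Prelude.Def_QuadGrp2
import Groth.Agent.Lib.Helper9.Misc.CR5

/-! Lifting points of the Clifford group of a semiregular form of odd rank along square-zero
extensions (helper9). -/

set_option autoImplicit false

open TensorProduct CliffordAlgebra Groth.Agent.H9.QG Groth.Agent.H9.QO

namespace Groth.Agent.H9.CR

universe u

section Main

variable {R : Type u} [CommRing R] [Nontrivial R] {m : ℕ}

theorem exists_lift_GPin_odd (Q : QuadraticForm R (Fin (2 * m + 1) → R))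
    (hQ : QuadGrp.IsSemiregular (Pi.basisFun R (Fin (2 * m + 1))) (LinearEquiv.refl R R) Q)
    (B : Type u) [CommRing B] [Algebra R B] (I : Ideal B) (hI : I ^ 2 = ⊥)
    (wb : (CliffordAlgebra (QuadGrp.baseChangeForm (B ⧸ I) Q))ˣ)
    (hwb : wb ∈ QuadGrp.GPin (QuadGrp.baseChangeForm (B ⧸ I) Q)) :
    ∃ w : (CliffordAlgebra (QuadGrp.baseChangeForm B Q))ˣ,
      w ∈ QuadGrp.GPin (QuadGrp.baseChangeForm B Q) ∧
      cmap Q (Ideal.Quotient.mkₐ R I) (w : CliffordAlgebra (QuadGrp.baseChangeForm B Q)) =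
        (wb : CliffordAlgebra (QuadGrp.baseChangeForm (B ⧸ I) Q)) := by
  haveI := free_clifford' (Pi.basisFun R (Fin (2 * m + 1))) Q
  haveI := finite_clifford' (Pi.basisFun R (Fin (2 * m + 1))) Q
  have hI' := SO.sq_zero_of_pow I hI
  have hz := mul_eq_zero_of_cmap Q (Module.finBasis R (CliffordAlgebra Q)) B I hI'
  have hQB := isSemiregular_baseChange B (Pi.basisFun R (Fin (2 * m + 1))) Q hQ
  obtain ⟨hwb1, hwb2⟩ := Subgroup.mem_inf.mp hwb
  obtain ⟨eb, heb, heb0, heb1⟩ := hwb2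
  obtain ⟨gb, hgb, hconj⟩ := exists_isometry_of_mem_GPin' hwb1
  have hdetb : LinearMap.det gb.toLinearMap = 1 :=
    det_eq_one_of_conj_of_odd ((Pi.basisFun R (Fin (2 * m + 1))).baseChange (B ⧸ I)) ⟨m, rfl⟩ _
      wb gb.toLinearMap hconj
  obtain ⟨g, hg, hgdet, hgc⟩ := exists_lift_SO' Q hQ B I hI gb hgb hdetb
  -- the idempotent
  obtain ⟨e, he, hee⟩ : ∃ e : B, IsIdempotentElem e ∧ Ideal.Quotient.mk I e = eb := by
    refine exists_isIdempotentElem_eq_of_ker_isNilpotent (Ideal.Quotient.mk I) ?_ eb ?_ heb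
    · intro x hx
      rw [Ideal.mk_ker] at hx
      exact ⟨2, by rw [pow_two]; exact hI' x hx x hx⟩
    · obtain ⟨x, hx⟩ := Ideal.Quotient.mk_surjective eb
      exact RingHom.mem_range.mpr ⟨x, hx⟩
  have hee' : Ideal.Quotient.mkₐ R I e = eb := hee
  have he1 : e * (1 - e) = 0 := by
    have := he.eq
    linear_combination -this
  have he2 : (1 - e) * (1 - e) = 1 - e := by
    have := he.eq
    linear_combination this
  have hsurj := cmap_surjective Q (Ideal.Quotient.mkₐ R I) (Ideal.Quotient.mkₐ_surjective R I)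
  obtain ⟨u₂, hu₂⟩ := hsurj (wb : CliffordAlgebra (QuadGrp.baseChangeForm (B ⧸ I) Q))
  obtain ⟨v₁, hv₁⟩ := hsurj (↑wb⁻¹ : CliffordAlgebra (QuadGrp.baseChangeForm (B ⧸ I) Q))
  -- a locally homogeneous lift
  obtain ⟨u₁, hu₁, h0, h1⟩ : ∃ u₁ : CliffordAlgebra (QuadGrp.baseChangeForm B Q),
      cmap Q (Ideal.Quotient.mkₐ R I) u₁ =
        (wb : CliffordAlgebra (QuadGrp.baseChangeForm (B ⧸ I) Q)) ∧
      e • u₁ ∈ evenOdd (QuadGrp.baseChangeForm B Q) 0 ∧
      (1 - e) • u₁ ∈ evenOdd (QuadGrp.baseChangeForm B Q) 1 := by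
    refine ⟨e • e₀ (QuadGrp.baseChangeForm B Q) u₂ + (1 - e) • e₁ (QuadGrp.baseChangeForm B Q) u₂,
      ?_, ?_, ?_⟩
    · rw [map_add, cmap_smul, cmap_smul, cmap_e₀, cmap_e₁, hu₂, map_sub, map_one, hee',
        ← map_smul, ← map_smul, e₀_of_mem _ heb0, e₁_of_mem _ heb1, ← add_smul,
        add_sub_cancel, one_smul]
    · rw [smul_add, smul_smul, smul_smul, he.eq, he1, zero_smul, add_zero]
      exact Submodule.smul_mem _ _ (e₀_mem _ _)
    · rw [smul_add, smul_smul, smul_smul, mul_comm (1 - e) e, he1, he2, zero_smul, zero_add]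
      exact Submodule.smul_mem _ _ (e₁_mem _ _)
  -- `u₁` is a unit
  have hk0 : cmap Q (Ideal.Quotient.mkₐ R I) (u₁ * v₁ - 1) = 0 := by
    rw [map_sub, map_mul, hu₁, hv₁, Units.mul_inv, map_one, sub_self]
  have hk'0 : cmap Q (Ideal.Quotient.mkₐ R I) (v₁ * u₁ - 1) = 0 := by
    rw [map_sub, map_mul, hu₁, hv₁, Units.inv_mul, map_one, sub_self]
  have hr : u₁ * (v₁ * (1 - (u₁ * v₁ - 1))) = 1 := by
    have h0 := hz _ _ hk0 hk0
    calc u₁ * (v₁ * (1 - (u₁ * v₁ - 1)))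
        = 1 - (u₁ * v₁ - 1) * (u₁ * v₁ - 1) := by noncomm_ring
      _ = 1 := by rw [h0, sub_zero]
  have hl : ((1 - (v₁ * u₁ - 1)) * v₁) * u₁ = 1 := by
    have h0 := hz _ _ hk'0 hk'0
    calc ((1 - (v₁ * u₁ - 1)) * v₁) * u₁
        = 1 - (v₁ * u₁ - 1) * (v₁ * u₁ - 1) := by noncomm_ring
      _ = 1 := by rw [h0, sub_zero]
  obtain ⟨ui, hui, hr', hl'⟩ : ∃ ui : CliffordAlgebra (QuadGrp.baseChangeForm B Q),
      cmap Q (Ideal.Quotient.mkₐ R I) ui =
        (↑wb⁻¹ : CliffordAlgebra (QuadGrp.baseChangeForm (B ⧸ I) Q)) ∧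
      u₁ * ui = 1 ∧ ui * u₁ = 1 := by
    refine ⟨v₁ * (1 - (u₁ * v₁ - 1)), ?_, hr, ?_⟩
    · rw [map_mul, map_sub, map_one, hk0, sub_zero, mul_one, hv₁]
    · have : (1 - (v₁ * u₁ - 1)) * v₁ = v₁ * (1 - (u₁ * v₁ - 1)) := left_inv_eq_right_inv hl hr
      rw [← this]
      exact hl
  obtain ⟨hi0, hi1⟩ := QuadGrp.isLocHomog_inv_aux (QuadGrp.baseChangeForm B Q)
    (⟨u₁, ui, hr', hl'⟩ : (CliffordAlgebra (QuadGrp.baseChangeForm B Q))ˣ) e h0 h1
  change e • ui ∈ evenOdd (QuadGrp.baseChangeForm B Q) 0 at hi0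
  change (1 - e) • ui ∈ evenOdd (QuadGrp.baseChangeForm B Q) 1 at hi1
  have hcancel : ∀ X : CliffordAlgebra (QuadGrp.baseChangeForm B Q), u₁ * (ui * X) = X :=
    fun X => by rw [← mul_assoc, hr', one_mul]
  -- the twisted endomorphism
  have hf : ∀ v : B ⊗[R] (Fin (2 * m + 1) → R),
      (ui * (ι (QuadGrp.baseChangeForm B Q) (g v) * u₁)) *
        (ui * (ι (QuadGrp.baseChangeForm B Q) (g v) * u₁)) =
      algebraMap B _ (QuadGrp.baseChangeForm B Q v) := by
    intro v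
    have e1 : (ui * (ι (QuadGrp.baseChangeForm B Q) (g v) * u₁)) *
        (ui * (ι (QuadGrp.baseChangeForm B Q) (g v) * u₁)) =
        ui * (ι (QuadGrp.baseChangeForm B Q) (g v) * ((u₁ * ui) *
          (ι (QuadGrp.baseChangeForm B Q) (g v) * u₁))) := by
      simp only [mul_assoc]
    rw [e1, hr', one_mul, ← mul_assoc (ι (QuadGrp.baseChangeForm B Q) (g v)), ι_sq_scalar,
      hg v, Algebra.commutes, ← mul_assoc, hl', one_mul]
  let f : B ⊗[R] (Fin (2 * m + 1) → R) →ₗ[B] CliffordAlgebra (QuadGrp.baseChangeForm B Q) :=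
    (LinearMap.mulLeft B ui) ∘ₗ (LinearMap.mulRight B u₁) ∘ₗ
      (ι (QuadGrp.baseChangeForm B Q)) ∘ₗ g.toLinearMap
  let β : CliffordAlgebra (QuadGrp.baseChangeForm B Q) →ₐ[B]
      CliffordAlgebra (QuadGrp.baseChangeForm B Q) :=
    CliffordAlgebra.lift (QuadGrp.baseChangeForm B Q) ⟨f, hf⟩
  have hβι : ∀ v, β (ι (QuadGrp.baseChangeForm B Q) v) =
      ui * (ι (QuadGrp.baseChangeForm B Q) (g v) * u₁) :=
    fun v => CliffordAlgebra.lift_ι_apply _ _ _
  have hcmβ : ∀ c, cmap Q (Ideal.Quotient.mkₐ R I) (β c) = cmap Q (Ideal.Quotient.mkₐ R I) c := by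
    intro c
    induction c using CliffordAlgebra.induction with
    | algebraMap r => rw [AlgHom.commutes]
    | ι v =>
      rw [hβι, map_mul, map_mul, hui, hu₁, cmap_ι, cmap_ι, hgc, ← hconj]
      simp only [mul_assoc, Units.inv_mul, mul_one, Units.inv_mul_cancel_left]
    | mul a b ha hb => rw [map_mul, map_mul, ha, hb, map_mul]
    | add a b ha hb => rw [map_add, map_add, ha, hb, map_add]
  -- `β` is conjugation composed with the automorphism induced by `g`
  have hβF : ∀ c, β c = ui * (CliffordAlgebra.map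
      (QuadGrp.isometryOfMem (QuadGrp.baseChangeForm B Q) g hg) c * u₁) := by
    intro c
    induction c using CliffordAlgebra.induction with
    | algebraMap r =>
      rw [AlgHom.commutes, AlgHom.commutes, Algebra.commutes, ← mul_assoc, hl', one_mul]
    | ι v => rw [hβι, CliffordAlgebra.map_apply_ι, QuadGrp.isometryOfMem_apply]
    | mul a b ha hb =>
      rw [map_mul, ha, hb, map_mul]
      simp only [mul_assoc]
      rw [hcancel]
    | add a b ha hb => rw [map_add, ha, hb, map_add, add_mul, mul_add]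
  have hβz : ∀ z : CliffordAlgebra (QuadGrp.baseChangeForm B Q),
      (∀ x, z * ι (QuadGrp.baseChangeForm B Q) x = ι (QuadGrp.baseChangeForm B Q) x * z) →
      β z = z := by
    intro z hzc
    rw [hβF, map_central_of_SO' m ((Pi.basisFun R (Fin (2 * m + 1))).baseChange B)
      (QuadGrp.baseChangeForm B Q) hQB g hg hgdet z hzc, central_of_comm_ι hzc u₁,
      ← mul_assoc, hl', one_mul]
  -- `β` preserves the even part
  have hβeven : ∀ c ∈ evenOdd (QuadGrp.baseChangeForm B Q) 0,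
      β c ∈ evenOdd (QuadGrp.baseChangeForm B Q) 0 := by
    intro c hc
    induction c, hc using even_induction with
    | algebraMap r => rw [AlgHom.commutes]; exact SetLike.algebraMap_mem_graded _ _
    | add x y _ _ ihx ihy => rw [map_add]; exact Submodule.add_mem _ ihx ihy
    | ι_mul_ι_mul m₁ m₂ x hx ih =>
      rw [map_mul, map_mul, hβι, hβι]
      have e1 : ui * (ι (QuadGrp.baseChangeForm B Q) (g m₁) * u₁) *
          (ui * (ι (QuadGrp.baseChangeForm B Q) (g m₂) * u₁)) =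
          ui * (ι (QuadGrp.baseChangeForm B Q) (g m₁) * ι (QuadGrp.baseChangeForm B Q) (g m₂)) *
            u₁ := by
        simp only [mul_assoc]
        rw [hcancel]
      rw [e1]
      have h2 := conj_mem_even e he h0 h1 hi0 hi1
        (ι_mul_ι_mem_evenOdd_zero (QuadGrp.baseChangeForm B Q) (g m₁) (g m₂))
      have := SetLike.mul_mem_graded h2 ih
      rwa [add_zero] at this
  -- the derivation on the even part
  let d₀ : ↥(CliffordAlgebra.even (QuadGrp.baseChangeForm B Q)) →ₗ[B]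
      ↥(CliffordAlgebra.even (QuadGrp.baseChangeForm B Q)) :=
    LinearMap.codRestrict (Subalgebra.toSubmodule (CliffordAlgebra.even (QuadGrp.baseChangeForm B Q)))
      ((β.toLinearMap - LinearMap.id) ∘ₗ
        (CliffordAlgebra.even (QuadGrp.baseChangeForm B Q)).val.toLinearMap)
      (fun c => by
        change β (c : CliffordAlgebra (QuadGrp.baseChangeForm B Q)) - c ∈
          evenOdd (QuadGrp.baseChangeForm B Q) 0
        exact Submodule.sub_mem _ (hβeven _ c.2) c.2)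
  have hd₀ : ∀ c : ↥(CliffordAlgebra.even (QuadGrp.baseChangeForm B Q)),
      ((d₀ c : ↥(CliffordAlgebra.even (QuadGrp.baseChangeForm B Q))) :
        CliffordAlgebra (QuadGrp.baseChangeForm B Q)) =
        β (c : CliffordAlgebra (QuadGrp.baseChangeForm B Q)) - c := fun c => rfl
  have hcmd : ∀ c, cmap Q (Ideal.Quotient.mkₐ R I) (β c - c) = 0 := fun c => by
    rw [map_sub, hcmβ, sub_self]
  have hLeib : ∀ c c' : CliffordAlgebra (QuadGrp.baseChangeForm B Q),
      β (c * c') - c * c' = c * (β c' - c') + (β c - c) * c' := by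
    intro c c'
    have h0 := hz _ _ (hcmd c) (hcmd c')
    have : β (c * c') - c * c' =
        c * (β c' - c') + (β c - c) * c' + (β c - c) * (β c' - c') := by
      rw [map_mul]; noncomm_ring
    rw [this, h0, add_zero]
  have hd₀L : ∀ c c', d₀ (c * c') = c * d₀ c' + d₀ c * c' := by
    intro c c'
    apply Subtype.ext
    simp only [hd₀, Subalgebra.coe_mul, Subalgebra.coe_add]
    exact hLeib _ _
  let S₀ : Submodule B ↥(CliffordAlgebra.even (QuadGrp.baseChangeForm B Q)) :=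
    { carrier := {c | cmap Q (Ideal.Quotient.mkₐ R I)
        (c : CliffordAlgebra (QuadGrp.baseChangeForm B Q)) = 0}
      add_mem' := fun {a b} ha hb => by
        change cmap Q (Ideal.Quotient.mkₐ R I)
          ((a : CliffordAlgebra (QuadGrp.baseChangeForm B Q)) + b) = 0
        rw [map_add, ha, hb, add_zero]
      zero_mem' := map_zero _
      smul_mem' := fun c z hz' => by
        change cmap Q (Ideal.Quotient.mkₐ R I)
          (c • (z : CliffordAlgebra (QuadGrp.baseChangeForm B Q))) = 0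
        rw [cmap_smul, hz', smul_zero] }
  haveI : IsAzumaya B ↥(CliffordAlgebra.even (QuadGrp.baseChangeForm B Q)) :=
    isAzumaya_even m ((Pi.basisFun R (Fin (2 * m + 1))).baseChange B)
      (QuadGrp.baseChangeForm B Q) hQB
  obtain ⟨ξ₀, hξ₀S, hξ₀⟩ := exists_inner_of_isAzumaya
    ((eps (QuadGrp.baseChangeForm B Q)) ∘ₗ
      (CliffordAlgebra.even (QuadGrp.baseChangeForm B Q)).val.toLinearMap)
    (eps_one (QuadGrp.baseChangeForm B Q)) d₀ hd₀L S₀ (fun c c' => by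
      change cmap Q (Ideal.Quotient.mkₐ R I)
        (((d₀ c : ↥(CliffordAlgebra.even _)) : CliffordAlgebra (QuadGrp.baseChangeForm B Q)) * c') = 0
      rw [map_mul, hd₀, hcmd, zero_mul])
  obtain ⟨ξ, hξeven, hξ0, hξd⟩ : ∃ ξ : CliffordAlgebra (QuadGrp.baseChangeForm B Q),
      ξ ∈ evenOdd (QuadGrp.baseChangeForm B Q) 0 ∧ cmap Q (Ideal.Quotient.mkₐ R I) ξ = 0 ∧
      ∀ c ∈ evenOdd (QuadGrp.baseChangeForm B Q) 0, β c - c = ξ * c - c * ξ := by
    refine ⟨ξ₀, ξ₀.2, hξ₀S, fun c hc => ?_⟩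
    have := congrArg Subtype.val (hξ₀ ⟨c, hc⟩)
    rw [hd₀] at this
    exact this
  -- the derivation is inner on the whole algebra
  have hξall : ∀ c, β c - c = ξ * c - c * ξ := by
    intro c
    obtain ⟨t, rfl⟩ := (mu_bijective m ((Pi.basisFun R (Fin (2 * m + 1))).baseChange B)
      (QuadGrp.baseChangeForm B Q) hQB).2 c
    induction t using TensorProduct.induction_on with
    | zero => rw [map_zero, map_zero, mul_zero, zero_mul, sub_zero]
    | tmul ζ a =>
      rw [mu_tmul]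
      obtain ⟨ζ', hζmem⟩ := ζ
      obtain ⟨a', ha'⟩ := a
      change β (ζ' * a') - ζ' * a' = ξ * (ζ' * a') - ζ' * a' * ξ
      have hζ := Subalgebra.mem_center_iff.mp hζmem
      have hζβ : β ζ' = ζ' := hβz _ (fun x => (hζ _).symm)
      have e1 : ζ' * (ξ * a') = ξ * (ζ' * a') := by
        rw [← mul_assoc, ← hζ ξ, mul_assoc]
      have e2 : ζ' * (a' * ξ) = ζ' * a' * ξ := (mul_assoc _ _ _).symm
      rw [map_mul, hζβ, ← mul_sub, hξd _ ha', mul_sub, e1, e2]
    | add x y hx hy =>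
      rw [map_add, map_add, mul_add, add_mul]
      calc β (mu _ x) + β (mu _ y) - (mu _ x + mu _ y)
          = (β (mu _ x) - mu _ x) + (β (mu _ y) - mu _ y) := by abel
        _ = (ξ * mu _ x - mu _ x * ξ) + (ξ * mu _ y - mu _ y * ξ) := by rw [hx, hy]
        _ = _ := by abel
  have hξξ : ξ * ξ = 0 := hz ξ ξ hξ0 hξ0
  have hξcξ : ∀ c, ξ * c * ξ = 0 := fun c => by
    rw [mul_assoc]
    exact hz ξ (c * ξ) hξ0 (by rw [map_mul, hξ0, mul_zero])
  have hw1 : u₁ * (1 + ξ) * ((1 - ξ) * ui) = 1 := by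
    calc u₁ * (1 + ξ) * ((1 - ξ) * ui) = u₁ * ui - u₁ * (ξ * ξ) * ui := by noncomm_ring
      _ = 1 := by rw [hξξ, mul_zero, zero_mul, sub_zero, hr']
  have hw2 : (1 - ξ) * ui * (u₁ * (1 + ξ)) = 1 := by
    calc (1 - ξ) * ui * (u₁ * (1 + ξ)) = (1 - ξ) * ((ui * u₁) * (1 + ξ)) := by
          simp only [mul_assoc]
      _ = 1 - ξ * ξ := by rw [hl', one_mul]; noncomm_ring
      _ = 1 := by rw [hξξ, sub_zero]
  let w : (CliffordAlgebra (QuadGrp.baseChangeForm B Q))ˣ :=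
    ⟨u₁ * (1 + ξ), (1 - ξ) * ui, hw1, hw2⟩
  have hw : ∀ v, (w : CliffordAlgebra (QuadGrp.baseChangeForm B Q)) *
      ι (QuadGrp.baseChangeForm B Q) v * ↑w⁻¹ = ι (QuadGrp.baseChangeForm B Q) (g v) := by
    intro v
    change u₁ * (1 + ξ) * ι (QuadGrp.baseChangeForm B Q) v * ((1 - ξ) * ui) =
      ι (QuadGrp.baseChangeForm B Q) (g v)
    have e1 : (1 + ξ) * ι (QuadGrp.baseChangeForm B Q) v * (1 - ξ) =
        ι (QuadGrp.baseChangeForm B Q) v + (ξ * ι (QuadGrp.baseChangeForm B Q) v -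
          ι (QuadGrp.baseChangeForm B Q) v * ξ) -
          ξ * ι (QuadGrp.baseChangeForm B Q) v * ξ := by noncomm_ring
    have e2 : (1 + ξ) * ι (QuadGrp.baseChangeForm B Q) v * (1 - ξ) =
        ui * (ι (QuadGrp.baseChangeForm B Q) (g v) * u₁) := by
      rw [e1, hξcξ, sub_zero, ← hξall, hβι]
      abel
    calc u₁ * (1 + ξ) * ι (QuadGrp.baseChangeForm B Q) v * ((1 - ξ) * ui)
        = u₁ * ((1 + ξ) * ι (QuadGrp.baseChangeForm B Q) v * (1 - ξ)) * ui := by
          simp only [mul_assoc]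
      _ = u₁ * (ui * (ι (QuadGrp.baseChangeForm B Q) (g v) * u₁)) * ui := by rw [e2]
      _ = (u₁ * ui) * ι (QuadGrp.baseChangeForm B Q) (g v) * (u₁ * ui) := by
          simp only [mul_assoc]
      _ = ι (QuadGrp.baseChangeForm B Q) (g v) := by rw [hr', one_mul, mul_one]
  have h1ξ : (1 + ξ) ∈ evenOdd (QuadGrp.baseChangeForm B Q) 0 :=
    Submodule.add_mem _ (SetLike.one_mem_graded _) hξeven
  refine ⟨w, Subgroup.mem_inf.mpr ⟨mem_GPin'_of_equiv w g hw, ⟨e, he, ?_, ?_⟩⟩, ?_⟩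
  · change e • (u₁ * (1 + ξ)) ∈ evenOdd (QuadGrp.baseChangeForm B Q) 0
    rw [← smul_mul_assoc]
    have := SetLike.mul_mem_graded h0 h1ξ
    rwa [add_zero] at this
  · change (1 - e) • (u₁ * (1 + ξ)) ∈ evenOdd (QuadGrp.baseChangeForm B Q) 1
    rw [← smul_mul_assoc]
    have := SetLike.mul_mem_graded h1 h1ξ
    rwa [add_zero] at this
  · change cmap Q (Ideal.Quotient.mkₐ R I) (u₁ * (1 + ξ)) = _
    rw [map_mul, map_add, map_one, hξ0, add_zero, mul_one, hu₁]

/-- lifting in terms of pairs -/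
theorem exists_lift_isGP_LH (Q : QuadraticForm R (Fin (2 * m + 1) → R))
    (hQ : QuadGrp.IsSemiregular (Pi.basisFun R (Fin (2 * m + 1))) (LinearEquiv.refl R R) Q)
    (B : Type u) [CommRing B] [Algebra R B] (I : Ideal B) (hI : I ^ 2 = ⊥)
    (xb yb : (B ⧸ I) ⊗[R] CliffordAlgebra Q) (eb : B ⧸ I)
    (h : IsGP Q (B ⧸ I) (Pi.basisFun R (Fin (2 * m + 1))) xb yb) (hlh : IsLH Q (B ⧸ I) eb xb) :
    ∃ (x y : B ⊗[R] CliffordAlgebra Q) (e : B),
      IsGP Q B (Pi.basisFun R (Fin (2 * m + 1))) x y ∧ IsLH Q B e x ∧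
      Tm Q (Ideal.Quotient.mkₐ R I) x = xb := by
  have hwb : unitOf Q (B ⧸ I) xb yb h.1 h.2.1 ∈ QuadGrp.GPin (QuadGrp.baseChangeForm (B ⧸ I) Q) := by
    refine Subgroup.mem_inf.mpr ⟨unitOf_mem Q (B ⧸ I) _ h, ?_⟩
    change QuadGrp.IsLocHomog _ _
    rw [isLocHomog_iff, bcEquiv_unitOf]
    exact ⟨eb, hlh⟩
  obtain ⟨w, hw, hcw⟩ := exists_lift_GPin_odd Q hQ B I hI _ hwb
  obtain ⟨hw1, hw2⟩ := Subgroup.mem_inf.mp hw
  obtain ⟨e, he⟩ := (isLocHomog_iff Q B _).mp hw2
  refine ⟨_, _, e, isGP_of_mem_GPin' Q B (Pi.basisFun R (Fin (2 * m + 1))) hw1, he, ?_⟩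
  rw [← bcEquiv_cmap, hcw, bcEquiv_unitOf]

end Main

end Groth.Agent.H9.CR
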