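import Mathlib
import Groth.Prelude.Def_QuadGrp2
import Groth.Agent.Lib.Helper9.Misc.CR4
import Groth.Agent.Lib.Helper9.Misc.QO4

/-! The coordinate ring of the pin group `Pin(q) = GPin(q) ⊓ normOne` of a quadratic form on a finite
free module (helper9). -/

set_option autoImplicit false

open TensorProduct CliffordAlgebra Groth.Agent.H9.QG Groth.Agent.H9.QO

namespace Groth.Agent.H9.CR

universe u

section Star

variable {R : Type u} [CommRing R] {M : Type u} [AddCommGroup M] [Module R M] [Module.Free R M]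
  (Q : QuadraticForm R M)

/-- `star` as a linear map -/
noncomputable def st : CliffordAlgebra Q →ₗ[R] CliffordAlgebra Q :=
  (reverse (Q := Q)).comp (involute (Q := Q)).toLinearMap

theorem st_apply (c : CliffordAlgebra Q) : st Q c = star c := rfl

theorem star_mem_evenOdd {c : CliffordAlgebra Q} {i : ZMod 2} (h : c ∈ evenOdd Q i) :
    star c ∈ evenOdd Q i := by
  rw [star_def]
  exact (reverse_mem_evenOdd_iff Q).mpr ((involute_mem_evenOdd_iff Q).mpr h)

variable (A : Type u) [CommRing A] [Algebra R A]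

/-- base change of `star` -/
noncomputable abbrev stA : A ⊗[R] CliffordAlgebra Q →ₗ[A] A ⊗[R] CliffordAlgebra Q :=
  (st Q).baseChange A

theorem star_ofTensor (t : A ⊗[R] CliffordAlgebra Q) :
    star (ofTensor A Q t) = ofTensor A Q (stA Q A t) := by
  induction t using TensorProduct.induction_on with
  | zero => rw [map_zero, map_zero, map_zero, star_zero]
  | tmul a c =>
    rw [LinearMap.baseChange_tmul, ofTensor_tmul, ofTensor_tmul, star_mul, star_toBC,
      star_algebraMap, st_apply, Algebra.commutes]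
  | add x y hx hy => rw [map_add, map_add, map_add, star_add, hx, hy]

theorem bcEquiv_star (w : CliffordAlgebra (QuadGrp.baseChangeForm A Q)) :
    bcEquiv A Q (star w) = stA Q A (bcEquiv A Q w) := by
  have h := star_ofTensor Q A (bcEquiv A Q w)
  rw [← bcEquiv_symm_apply, ← bcEquiv_symm_apply, AlgEquiv.symm_apply_apply] at h
  rw [h, AlgEquiv.apply_symm_apply]

theorem cmap_star {A B : Type u} [CommRing A] [Algebra R A] [CommRing B] [Algebra R B]
    (ψ : A →ₐ[R] B) (c : CliffordAlgebra (QuadGrp.baseChangeForm A Q)) :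
    cmap Q ψ (star c) = star (cmap Q ψ c) := by
  apply (bcEquiv B Q).injective
  rw [bcEquiv_cmap, bcEquiv_star, Tm_baseChange, bcEquiv_star, bcEquiv_cmap]

/-- Clifford norm one, in coordinates -/
def IsN1 (x : A ⊗[R] CliffordAlgebra Q) : Prop := stA Q A x * x = 1

theorem mem_normOne_iff (w : (CliffordAlgebra (QuadGrp.baseChangeForm A Q))ˣ) :
    w ∈ QuadGrp.normOne (QuadGrp.baseChangeForm A Q) ↔
      IsN1 Q A (bcEquiv A Q (w : CliffordAlgebra (QuadGrp.baseChangeForm A Q))) := by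
  rw [QuadGrp.mem_normOne, IsN1, ← bcEquiv_star, ← map_mul]
  constructor
  · intro h
    rw [h, map_one]
  · intro h
    exact (bcEquiv A Q).injective (by rw [h, map_one])

theorem IsN1.map {A B : Type u} [CommRing A] [Algebra R A] [CommRing B] [Algebra R B]
    (ψ : A →ₐ[R] B) {x : A ⊗[R] CliffordAlgebra Q} (h : IsN1 Q A x) :
    IsN1 Q B (Tm Q ψ x) := by
  unfold IsN1 at h ⊢
  rw [← Tm_baseChange, ← map_mul, h, map_one]

end Star

section FamilyPin

variable {R : Type u} [CommRing R] {M : Type u} [AddCommGroup M] [Module R M] [Module.Free R M]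
  (Q : QuadraticForm R M) {n : ℕ} (b : Module.Basis (Fin n) R M)
  {K : Type} [Fintype K] [DecidableEq K] (bC : Module.Basis K R (CliffordAlgebra Q))

/-- the natural family of elements cutting out `Pin` -/
noncomputable def EPin (A : Type u) [CommRing A] [Algebra R A] (a : (K ⊕ K) ⊕ Unit → A) :
    ((Bool ⊕ (Bool × Fin n)) ⊕ Option Bool) ⊕ Unit → A ⊗[R] CliffordAlgebra Q
  | Sum.inl j => ELH Q b bC A a j
  | Sum.inr () =>
      stA Q A (vec bC A (fun k => a (Sum.inl (Sum.inl k)))) *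
        vec bC A (fun k => a (Sum.inl (Sum.inl k))) - 1

theorem EPin_iff (A : Type u) [CommRing A] [Algebra R A] (a : (K ⊕ K) ⊕ Unit → A) :
    (∀ j, EPin Q b bC A a j = 0) ↔
      (IsGP Q A b (vec bC A (fun k => a (Sum.inl (Sum.inl k))))
        (vec bC A (fun k => a (Sum.inl (Sum.inr k)))) ∧
      IsLH Q A (a (Sum.inr ())) (vec bC A (fun k => a (Sum.inl (Sum.inl k))))) ∧
      IsN1 Q A (vec bC A (fun k => a (Sum.inl (Sum.inl k)))) := by
  constructor
  · intro h
    exact ⟨(ELH_iff Q b bC A a).mp (fun j => h (Sum.inl j)), sub_eq_zero.mp (h (Sum.inr ()))⟩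
  · rintro ⟨h1, h2⟩ (j | _)
    · exact (ELH_iff Q b bC A a).mpr h1 j
    · exact sub_eq_zero.mpr h2

theorem isNat_EPin : IsNat (EPin Q b bC) := by
  intro A B _ _ _ _ ψ a j
  rcases j with j | _
  · exact isNat_ELH Q b bC A B ψ a j
  · rw [← Tm_eq_rTensor]
    change Tm Q ψ (stA Q A (vec bC A _) * vec bC A _ - 1) = stA Q B (vec bC B _) * vec bC B _ - 1
    rw [map_sub, map_mul (Tm Q ψ), map_one, Tm_baseChange, Tm_vec]

/-- the coordinate ring of `Pin(q)` -/
abbrev APin : Type u := A0 bC (EPin Q b bC)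

/-- the universal element -/
noncomputable def x0P : APin Q b bC ⊗[R] CliffordAlgebra Q :=
  vec bC (APin Q b bC) (fun k => pt bC (EPin Q b bC) (Sum.inl (Sum.inl k)))

/-- the inverse of the universal element -/
noncomputable def y0P : APin Q b bC ⊗[R] CliffordAlgebra Q :=
  vec bC (APin Q b bC) (fun k => pt bC (EPin Q b bC) (Sum.inl (Sum.inr k)))

/-- the universal idempotent -/
noncomputable def e0P : APin Q b bC := pt bC (EPin Q b bC) (Sum.inr ())

theorem isGP_x0P : IsGP Q (APin Q b bC) b (x0P Q b bC) (y0P Q b bC) :=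
  ((EPin_iff Q b bC _ _).mp (pt_spec bC _ (isNat_EPin Q b bC))).1.1

theorem isLH_x0P : IsLH Q (APin Q b bC) (e0P Q b bC) (x0P Q b bC) :=
  ((EPin_iff Q b bC _ _).mp (pt_spec bC _ (isNat_EPin Q b bC))).1.2

theorem isN1_x0P : IsN1 Q (APin Q b bC) (x0P Q b bC) :=
  ((EPin_iff Q b bC _ _).mp (pt_spec bC _ (isNat_EPin Q b bC))).2

/-- the universal point of `Pin` -/
noncomputable def u0P : (CliffordAlgebra (QuadGrp.baseChangeForm (APin Q b bC) Q))ˣ :=
  unitOf Q _ (x0P Q b bC) (y0P Q b bC) (isGP_x0P Q b bC).1 (isGP_x0P Q b bC).2.1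

theorem u0P_mem : u0P Q b bC ∈ QuadGrp.Pin (QuadGrp.baseChangeForm (APin Q b bC) Q) := by
  have hb : bcEquiv (APin Q b bC) Q (u0P Q b bC : CliffordAlgebra
      (QuadGrp.baseChangeForm (APin Q b bC) Q)) = x0P Q b bC := bcEquiv_unitOf Q _ _ _ _ _
  refine Subgroup.mem_inf.mpr ⟨Subgroup.mem_inf.mpr ⟨unitOf_mem Q _ b (isGP_x0P Q b bC), ?_⟩, ?_⟩
  · change QuadGrp.IsLocHomog _ _
    rw [isLocHomog_iff, hb]
    exact ⟨e0P Q b bC, isLH_x0P Q b bC⟩
  · rw [mem_normOne_iff, hb]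
    exact isN1_x0P Q b bC

theorem finitePresentation_APin : Algebra.FinitePresentation R (APin Q b bC) :=
  finitePresentation bC _

theorem isUniversal_Pin :
    IsUniversalC (fun A _ _ => QuadGrp.pin Q A) (APin Q b bC) ⟨u0P Q b bC, u0P_mem Q b bC⟩ := by
  intro A _ _ u
  have huG : (u : (CliffordAlgebra (QuadGrp.baseChangeForm A Q))ˣ) ∈
      QuadGrp.GPin (QuadGrp.baseChangeForm A Q) := (Subgroup.mem_inf.mp u.2).1
  have huN : (u : (CliffordAlgebra (QuadGrp.baseChangeForm A Q))ˣ) ∈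
      QuadGrp.normOne (QuadGrp.baseChangeForm A Q) := (Subgroup.mem_inf.mp u.2).2
  have hu : (u : (CliffordAlgebra (QuadGrp.baseChangeForm A Q))ˣ) ∈
      QuadGrp.GPin' (QuadGrp.baseChangeForm A Q) := (Subgroup.mem_inf.mp huG).1
  have hu2 : QuadGrp.IsLocHomog (QuadGrp.baseChangeForm A Q)
      ((u : (CliffordAlgebra (QuadGrp.baseChangeForm A Q))ˣ) :
        CliffordAlgebra (QuadGrp.baseChangeForm A Q)) := (Subgroup.mem_inf.mp huG).2
  have hgp := isGP_of_mem_GPin' Q A b hu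
  obtain ⟨e, he⟩ := (isLocHomog_iff Q A _).mp hu2
  have hn1 := (mem_normOne_iff Q A _).mp huN
  set x := bcEquiv A Q ((u : (CliffordAlgebra (QuadGrp.baseChangeForm A Q))ˣ) :
    CliffordAlgebra (QuadGrp.baseChangeForm A Q)) with hx
  set y := bcEquiv A Q (↑(u : (CliffordAlgebra (QuadGrp.baseChangeForm A Q))ˣ)⁻¹ :
    CliffordAlgebra (QuadGrp.baseChangeForm A Q)) with hy
  let a : (K ⊕ K) ⊕ Unit → A :=
    Sum.elim (Sum.elim (fun k => coord bC A k x) (fun k => coord bC A k y)) (fun _ => e)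
  have hax : vec bC A (fun k => a (Sum.inl (Sum.inl k))) = x := vec_coord bC A x
  have hay : vec bC A (fun k => a (Sum.inl (Sum.inr k))) = y := vec_coord bC A y
  obtain ⟨ψ, hψ⟩ := exists_hom bC (EPin Q b bC) (isNat_EPin Q b bC) a
    ((EPin_iff Q b bC A a).mpr (by rw [hax, hay]; exact ⟨⟨hgp, he⟩, hn1⟩))
  have key : ∀ ψ' : APin Q b bC →ₐ[R] A,
      (((u : (CliffordAlgebra (QuadGrp.baseChangeForm A Q))ˣ) :
        CliffordAlgebra (QuadGrp.baseChangeForm A Q)) =
        cmap Q ψ' ((u0P Q b bC : (CliffordAlgebra (QuadGrp.baseChangeForm (APin Q b bC) Q))ˣ) :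
          CliffordAlgebra (QuadGrp.baseChangeForm (APin Q b bC) Q))) ↔
      ∀ v, ψ' (pt bC (EPin Q b bC) v) = a v := by
    intro ψ'
    have hTx : Tm Q ψ' (x0P Q b bC) =
        vec bC A (fun k => ψ' (pt bC (EPin Q b bC) (Sum.inl (Sum.inl k)))) := Tm_vec Q bC ψ' _
    have hTy : Tm Q ψ' (y0P Q b bC) =
        vec bC A (fun k => ψ' (pt bC (EPin Q b bC) (Sum.inl (Sum.inr k)))) := Tm_vec Q bC ψ' _
    have hb0 : bcEquiv A Q (cmap Q ψ' ((u0P Q b bC :
        (CliffordAlgebra (QuadGrp.baseChangeForm (APin Q b bC) Q))ˣ) :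
          CliffordAlgebra (QuadGrp.baseChangeForm (APin Q b bC) Q))) = Tm Q ψ' (x0P Q b bC) := by
      rw [bcEquiv_cmap]
      congr 1
      exact bcEquiv_unitOf Q _ _ _ _ _
    constructor
    · intro h
      have h1 : x = Tm Q ψ' (x0P Q b bC) := by rw [hx, h, hb0]
      have h2 : y = Tm Q ψ' (y0P Q b bC) := by
        refine left_inv_eq_right_inv hgp.2.1 ?_
        rw [h1, ← map_mul, (isGP_x0P Q b bC).1, map_one]
      have h3 : IsLH Q A (ψ' (e0P Q b bC)) x := by
        rw [h1]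
        exact (isLH_x0P Q b bC).map Q ψ'
      rintro ((k | k) | _)
      · change ψ' _ = coord bC A k x
        rw [h1, hTx, coord_vec]
      · change ψ' _ = coord bC A k y
        rw [h2, hTy, coord_vec]
      · change ψ' (e0P Q b bC) = e
        exact isLH_unique Q A hgp.1 h3 he
    · intro h
      apply (bcEquiv A Q).injective
      rw [hb0, hTx, ← hx, ← hax]
      congr 1
      funext k
      exact (h (Sum.inl (Sum.inl k))).symm
  refine ⟨ψ, (key ψ).mpr hψ, fun ψ' h' => hom_ext bC _ ψ' ψ fun v => ?_⟩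
  rw [(key ψ').mp h' v, hψ v]

theorem formallySmooth_APin
    (hlift : ∀ (B : Type u) [CommRing B] [Algebra R B] (I : Ideal B), I ^ 2 = ⊥ →
      ∀ (xb yb : (B ⧸ I) ⊗[R] CliffordAlgebra Q) (eb : B ⧸ I), IsGP Q (B ⧸ I) b xb yb →
        IsLH Q (B ⧸ I) eb xb → IsN1 Q (B ⧸ I) xb →
        ∃ (x y : B ⊗[R] CliffordAlgebra Q) (e : B), IsGP Q B b x y ∧ IsLH Q B e x ∧
          IsN1 Q B x ∧ Tm Q (Ideal.Quotient.mkₐ R I) x = xb) :
    Algebra.FormallySmooth R (APin Q b bC) := by
  refine Algebra.FormallySmooth.of_comp_surjective fun B _ _ I hI fb => ?_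
  obtain ⟨⟨hgp, hlh⟩, hn1⟩ := (EPin_iff Q b bC _ _).mp (spec_of_hom bC _ (isNat_EPin Q b bC) fb)
  obtain ⟨x, y, e, hxy, hxe, hxn, hx⟩ := hlift B I hI _ _ _ hgp hlh hn1
  have hy : Tm Q (Ideal.Quotient.mkₐ R I) y =
      vec bC (B ⧸ I) (fun k => fb (pt bC (EPin Q b bC) (Sum.inl (Sum.inr k)))) := by
    refine left_inv_eq_right_inv ?_ hgp.1
    rw [← hx, ← map_mul, hxy.2.1, map_one]
  have he : Ideal.Quotient.mkₐ R I e = fb (pt bC (EPin Q b bC) (Sum.inr ())) := by
    have h1 := hxe.map Q (Ideal.Quotient.mkₐ R I)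
    rw [hx] at h1
    exact isLH_unique Q (B ⧸ I) hgp.1 h1 hlh
  let a : (K ⊕ K) ⊕ Unit → B :=
    Sum.elim (Sum.elim (fun k => coord bC B k x) (fun k => coord bC B k y)) (fun _ => e)
  have hax : vec bC B (fun k => a (Sum.inl (Sum.inl k))) = x := vec_coord bC B x
  have hay : vec bC B (fun k => a (Sum.inl (Sum.inr k))) = y := vec_coord bC B y
  obtain ⟨ψ, hψ⟩ := exists_hom bC (EPin Q b bC) (isNat_EPin Q b bC) a
    ((EPin_iff Q b bC B a).mpr (by rw [hax, hay]; exact ⟨⟨hxy, hxe⟩, hxn⟩))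
  refine ⟨ψ, ?_⟩
  apply hom_ext bC
  intro v
  change Ideal.Quotient.mkₐ R I (ψ (pt bC (EPin Q b bC) v)) = fb (pt bC (EPin Q b bC) v)
  rw [hψ]
  rcases v with (k | k) | _
  · change Ideal.Quotient.mkₐ R I (coord bC B k x) = _
    rw [← coord_rTensor, ← Tm_eq_rTensor, hx, coord_vec]
  · change Ideal.Quotient.mkₐ R I (coord bC B k y) = _
    rw [← coord_rTensor, ← Tm_eq_rTensor, hy, coord_vec]
  · exact he

end FamilyPin

end Groth.Agent.H9.CR
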