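import Mathlib
import Groth.Prelude.Def_QuadGrp2
import Groth.Agent.Lib.Helper9.Misc.CR6
import Groth.Agent.Lib.Helper9.Misc.CR7
import Groth.Agent.Lib.Helper9.Misc.QO8

/-! Lifting points of the pin group of a semiregular form of odd rank at least three along
square-zero extensions (helper9). -/

set_option autoImplicit false

open TensorProduct CliffordAlgebra QuadraticMap Groth.Agent.H9.QG Groth.Agent.H9.QO
  Groth.Agent.H7.QG

namespace Groth.Agent.H9.CR

universe u

section PolarSpan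

variable {R : Type u} [CommRing R] {M : Type u} [AddCommGroup M] [Module R M]

/-- the values of the polar form of a semiregular form of odd rank at least three on a basis
generate the unit ideal -/
theorem exists_polar_combination (m : ℕ) (hm : 1 ≤ m) (b : Module.Basis (Fin (2 * m + 1)) R M)
    (Q : QuadraticForm R M) (hQ : QuadGrp.IsSemiregular b (LinearEquiv.refl R R) Q) :
    ∃ c : Fin (2 * m + 1) × Fin (2 * m + 1) → R,
      ∑ p, c p * polar Q (b p.1) (b p.2) = 1 := by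
  classical
  have key : Ideal.span (Set.range fun p : Fin (2 * m + 1) × Fin (2 * m + 1) =>
      polar Q (b p.1) (b p.2)) = ⊤ := by
    by_contra hne
    obtain ⟨𝔪, hmax, hle⟩ := Ideal.exists_le_maximal _ hne
    have hmem : ∀ i j, polar Q (b i) (b j) ∈ 𝔪 := fun i j =>
      hle (Ideal.subset_span ⟨(i, j), rfl⟩)
    have hunit : IsUnit (hd (QuadGrp.coeffs b (LinearEquiv.refl R R) Q)) := hQ
    have hnot : hd (QuadGrp.coeffs b (LinearEquiv.refl R R) Q) ∉ 𝔪 := fun h =>
      hmax.ne_top (Ideal.eq_top_of_isUnit_mem _ h hunit)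
    by_cases h2 : (2 : R) ∈ 𝔪
    · apply hnot
      refine hd_mem_of_offdiag (by omega) _ 𝔪 h2 ?_
      intro s hs
      induction s using Sym2.ind with
      | _ i j =>
        have hij : i ≠ j := fun h => hs (Sym2.mk_isDiag_iff.mpr h)
        rw [QuadGrp.coeffs_mk, if_neg hij]
        exact hmem i j
    · apply hnot
      have hdd : dd (QuadGrp.coeffs b (LinearEquiv.refl R R) Q) ∈ 𝔪 := by
        rw [dd_eq_det, ← gram_eq_polMat]
        have h0 : Ideal.Quotient.mk 𝔪 (gram b Q).det = 0 := by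
          rw [RingHom.map_det]
          have hz : (Ideal.Quotient.mk 𝔪).mapMatrix (gram b Q) = 0 := by
            ext i j
            exact Ideal.Quotient.eq_zero_iff_mem.mpr (hmem i j)
          rw [hz, Matrix.det_zero]
        exact Ideal.Quotient.eq_zero_iff_mem.mp h0
      rw [← two_mul_hd ⟨m, rfl⟩] at hdd
      exact (hmax.isPrime.mem_or_mem hdd).resolve_left h2
  have h1 : (1 : R) ∈ Ideal.span (Set.range fun p : Fin (2 * m + 1) × Fin (2 * m + 1) =>
      polar Q (b p.1) (b p.2)) := by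
    rw [key]
    trivial
  exact Ideal.mem_span_range_iff_exists_fun.mp h1

/-- the commutator of a product of two vectors with a vector is a vector -/
theorem ι_mul_ι_comm_ι (Q : QuadraticForm R M) (a b v : M) :
    ι Q a * ι Q b * ι Q v - ι Q v * (ι Q a * ι Q b) =
      ι Q (polar Q b v • a - polar Q a v • b) := by
  calc ι Q a * ι Q b * ι Q v - ι Q v * (ι Q a * ι Q b)
      = ι Q a * (ι Q b * ι Q v + ι Q v * ι Q b) - (ι Q a * ι Q v + ι Q v * ι Q a) * ι Q b := by
        noncomm_ring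
    _ = ι Q a * algebraMap R _ (polar Q b v) - algebraMap R _ (polar Q a v) * ι Q b := by
        rw [ι_mul_ι_add_swap, ι_mul_ι_add_swap]
    _ = ι Q (polar Q b v • a - polar Q a v • b) := by
        rw [map_sub, map_smul, map_smul, Algebra.smul_def, Algebra.smul_def,
          Algebra.commutes (polar Q b v)]

/-- in odd rank the Clifford norm of a point of the Clifford group is a scalar -/
theorem exists_norm_scalar (m : ℕ) (b : Module.Basis (Fin (2 * m + 1)) R M)
    (Q : QuadraticForm R M) (hQ : QuadGrp.IsSemiregular b (LinearEquiv.refl R R) Q)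
    (u : (CliffordAlgebra Q)ˣ) (hu : u ∈ QuadGrp.GPin Q) :
    ∃ r : R, algebraMap R (CliffordAlgebra Q) r = star (u : CliffordAlgebra Q) * u := by
  haveI : Module.Free R M := Module.Free.of_basis b
  obtain ⟨hu1, e, he, h0, h1⟩ := Subgroup.mem_inf.mp hu
  obtain ⟨g, -, hg⟩ := exists_isometry_of_mem_GPin' hu1
  have he2 : (1 - e) * (1 - e) = 1 - e := by
    have := he.eq
    linear_combination this
  apply even_central_scalar m b Q hQ
  · intro x
    have e1 : (u : CliffordAlgebra Q) * ι Q x = ι Q (g x) * u := by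
      rw [← hg x, mul_assoc, Units.inv_mul, mul_one]
    have e2 : ι Q x * star (u : CliffordAlgebra Q) = star (u : CliffordAlgebra Q) * ι Q (g x) := by
      have := congrArg star e1
      rw [star_mul, star_mul, star_ι, star_ι, neg_mul, mul_neg, neg_inj] at this
      exact this
    rw [mul_assoc, e1, ← mul_assoc, ← e2, mul_assoc]
  · have hs : star (u : CliffordAlgebra Q) * u = star (e • (u : CliffordAlgebra Q)) * (e • u) +
        star ((1 - e) • (u : CliffordAlgebra Q)) * ((1 - e) • u) := by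
      rw [CliffordAlgebra.star_smul, CliffordAlgebra.star_smul, smul_mul_smul_comm, smul_mul_smul_comm, he.eq, he2, ← add_smul,
        add_sub_cancel, one_smul]
    rw [hs]
    refine Submodule.add_mem _ ?_ ?_
    · have := SetLike.mul_mem_graded (star_mem_evenOdd Q h0) h0
      rwa [add_zero] at this
    · have := SetLike.mul_mem_graded (star_mem_evenOdd Q h1) h1
      rwa [show (1 : ZMod 2) + 1 = 0 from rfl] at this

end PolarSpan

section Main

variable {R : Type u} [CommRing R] [Nontrivial R] {m : ℕ}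

theorem exists_lift_Pin_odd (hm : 1 ≤ m) (Q : QuadraticForm R (Fin (2 * m + 1) → R))
    (hQ : QuadGrp.IsSemiregular (Pi.basisFun R (Fin (2 * m + 1))) (LinearEquiv.refl R R) Q)
    (B : Type u) [CommRing B] [Algebra R B] (I : Ideal B) (hI : I ^ 2 = ⊥)
    (wb : (CliffordAlgebra (QuadGrp.baseChangeForm (B ⧸ I) Q))ˣ)
    (hwb : wb ∈ QuadGrp.Pin (QuadGrp.baseChangeForm (B ⧸ I) Q)) :
    ∃ w : (CliffordAlgebra (QuadGrp.baseChangeForm B Q))ˣ,
      w ∈ QuadGrp.Pin (QuadGrp.baseChangeForm B Q) ∧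
      cmap Q (Ideal.Quotient.mkₐ R I) (w : CliffordAlgebra (QuadGrp.baseChangeForm B Q)) =
        (wb : CliffordAlgebra (QuadGrp.baseChangeForm (B ⧸ I) Q)) := by
  haveI := free_clifford' (Pi.basisFun R (Fin (2 * m + 1))) Q
  haveI := finite_clifford' (Pi.basisFun R (Fin (2 * m + 1))) Q
  have hI' := SO.sq_zero_of_pow I hI
  have hz := mul_eq_zero_of_cmap Q (Module.finBasis R (CliffordAlgebra Q)) B I hI'
  have hQB := isSemiregular_baseChange B (Pi.basisFun R (Fin (2 * m + 1))) Q hQ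
  obtain ⟨hwbG, hwbN⟩ := Subgroup.mem_inf.mp hwb
  obtain ⟨w₁, hw₁, hcw₁⟩ := exists_lift_GPin_odd Q hQ B I hI wb hwbG
  obtain ⟨r, hr⟩ := exists_norm_scalar m ((Pi.basisFun R (Fin (2 * m + 1))).baseChange B)
    (QuadGrp.baseChangeForm B Q) hQB w₁ hw₁
  have hri : r - 1 ∈ I := by
    have h1 : cmap Q (Ideal.Quotient.mkₐ R I) (algebraMap B _ r) = 1 := by
      rw [hr, map_mul, cmap_star, hcw₁]
      exact (QuadGrp.mem_normOne _ wb).mp hwbN
    rw [cmap_algebraMap] at h1
    have h2 : Ideal.Quotient.mkₐ R I r = 1 :=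
      algebraMap_injective (QuadGrp.baseChangeForm (B ⧸ I) Q) (by rw [h1, map_one])
    rw [← Ideal.Quotient.eq_zero_iff_mem, map_sub, map_one]
    exact sub_eq_zero.mpr h2
  obtain ⟨i, hi⟩ : ∃ i : B, i = r - 1 := ⟨_, rfl⟩
  rw [← hi] at hri
  have hii : i * i = 0 := hI' i hri i hri
  have hmi : Ideal.Quotient.mkₐ R I (-i) = 0 := by
    rw [map_neg]
    exact neg_eq_zero.mpr (Ideal.Quotient.eq_zero_iff_mem.mpr hri)
  obtain ⟨c, hc⟩ := exists_polar_combination m hm (Pi.basisFun R (Fin (2 * m + 1))) Q hQ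
  -- the element `X` with `X + star X = 1`
  obtain ⟨X, hXeven, hXstar, hXcomm⟩ : ∃ X : CliffordAlgebra (QuadGrp.baseChangeForm B Q),
      X ∈ evenOdd (QuadGrp.baseChangeForm B Q) 0 ∧ X + star X = 1 ∧
      ∀ v, ∃ m', X * ι (QuadGrp.baseChangeForm B Q) v - ι (QuadGrp.baseChangeForm B Q) v * X =
        ι (QuadGrp.baseChangeForm B Q) m' := by
    refine ⟨∑ p : Fin (2 * m + 1) × Fin (2 * m + 1), (algebraMap R B (c p)) •
      (ι (QuadGrp.baseChangeForm B Q) ((1 : B) ⊗ₜ[R] (Pi.basisFun R (Fin (2 * m + 1)) p.1)) *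
        ι (QuadGrp.baseChangeForm B Q) ((1 : B) ⊗ₜ[R] (Pi.basisFun R (Fin (2 * m + 1)) p.2))),
      ?_, ?_, ?_⟩
    · exact Submodule.sum_mem _ (fun p _ => Submodule.smul_mem _ _
        (ι_mul_ι_mem_evenOdd_zero (QuadGrp.baseChangeForm B Q) _ _))
    · rw [star_sum, ← Finset.sum_add_distrib]
      calc ∑ p : Fin (2 * m + 1) × Fin (2 * m + 1), ((algebraMap R B (c p)) •
            (ι (QuadGrp.baseChangeForm B Q) ((1 : B) ⊗ₜ[R] (Pi.basisFun R (Fin (2 * m + 1)) p.1)) *
              ι (QuadGrp.baseChangeForm B Q) ((1 : B) ⊗ₜ[R] (Pi.basisFun R (Fin (2 * m + 1)) p.2))) +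
            star ((algebraMap R B (c p)) •
            (ι (QuadGrp.baseChangeForm B Q) ((1 : B) ⊗ₜ[R] (Pi.basisFun R (Fin (2 * m + 1)) p.1)) *
              ι (QuadGrp.baseChangeForm B Q) ((1 : B) ⊗ₜ[R] (Pi.basisFun R (Fin (2 * m + 1)) p.2)))))
          = ∑ p : Fin (2 * m + 1) × Fin (2 * m + 1),
              algebraMap B (CliffordAlgebra (QuadGrp.baseChangeForm B Q)) (algebraMap R B
                (c p * polar Q (Pi.basisFun R (Fin (2 * m + 1)) p.1)
                  (Pi.basisFun R (Fin (2 * m + 1)) p.2))) := by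
            refine Finset.sum_congr rfl fun p _ => ?_
            rw [CliffordAlgebra.star_smul, star_mul, star_ι, star_ι, neg_mul_neg, ← smul_add, ι_mul_ι_add_swap,
              polar_bcf_one_tmul, map_mul, map_mul, Algebra.smul_def]
        _ = 1 := by rw [← map_sum, ← map_sum, hc, map_one, map_one]
    · intro v
      refine ⟨∑ p : Fin (2 * m + 1) × Fin (2 * m + 1), (algebraMap R B (c p)) •
        (polar (QuadGrp.baseChangeForm B Q)
            ((1 : B) ⊗ₜ[R] (Pi.basisFun R (Fin (2 * m + 1)) p.2)) v •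
            ((1 : B) ⊗ₜ[R] (Pi.basisFun R (Fin (2 * m + 1)) p.1)) -
          polar (QuadGrp.baseChangeForm B Q)
            ((1 : B) ⊗ₜ[R] (Pi.basisFun R (Fin (2 * m + 1)) p.1)) v •
            ((1 : B) ⊗ₜ[R] (Pi.basisFun R (Fin (2 * m + 1)) p.2))), ?_⟩
      rw [map_sum, Finset.sum_mul, Finset.mul_sum, ← Finset.sum_sub_distrib]
      refine Finset.sum_congr rfl fun p _ => ?_
      rw [map_smul, smul_mul_assoc, mul_smul_comm, ← smul_sub, ι_mul_ι_comm_ι]
  -- the correction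
  obtain ⟨ξ, hξdef⟩ : ∃ ξ : CliffordAlgebra (QuadGrp.baseChangeForm B Q), ξ = (-i) • X := ⟨_, rfl⟩
  have hξ0 : cmap Q (Ideal.Quotient.mkₐ R I) ξ = 0 := by
    rw [hξdef, cmap_smul, hmi, zero_smul]
  have hξeven : ξ ∈ evenOdd (QuadGrp.baseChangeForm B Q) 0 := by
    rw [hξdef]
    exact Submodule.smul_mem _ _ hXeven
  have hξs0 : cmap Q (Ideal.Quotient.mkₐ R I) (star ξ) = 0 := by
    rw [cmap_star, hξ0, star_zero]
  have hξstar : ξ + star ξ = algebraMap B _ (-i) := by
    rw [hξdef, CliffordAlgebra.star_smul, ← smul_add, hXstar, Algebra.algebraMap_eq_smul_one]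
  have hξcomm : ∀ v, ∃ m', ξ * ι (QuadGrp.baseChangeForm B Q) v -
      ι (QuadGrp.baseChangeForm B Q) v * ξ = ι (QuadGrp.baseChangeForm B Q) m' := by
    intro v
    obtain ⟨m', hm'⟩ := hXcomm v
    exact ⟨(-i) • m', by rw [map_smul, ← hm', smul_sub, hξdef, smul_mul_assoc, mul_smul_comm]⟩
  have hξξ : ξ * ξ = 0 := hz ξ ξ hξ0 hξ0
  have hξcξ : ∀ c, ξ * c * ξ = 0 := fun c => by
    rw [mul_assoc]
    exact hz ξ (c * ξ) hξ0 (by rw [map_mul, hξ0, mul_zero])
  have hT1 : (1 + ξ) * (1 - ξ) = 1 := by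
    calc (1 + ξ) * (1 - ξ) = 1 - ξ * ξ := by noncomm_ring
      _ = 1 := by rw [hξξ, sub_zero]
  have hT2 : (1 - ξ) * (1 + ξ) = 1 := by
    calc (1 - ξ) * (1 + ξ) = 1 - ξ * ξ := by noncomm_ring
      _ = 1 := by rw [hξξ, sub_zero]
  have hT' : (⟨1 + ξ, 1 - ξ, hT1, hT2⟩ : (CliffordAlgebra (QuadGrp.baseChangeForm B Q))ˣ) ∈
      QuadGrp.GPin' (QuadGrp.baseChangeForm B Q) := by
    refine mem_GPin'_of_conj _ (fun v => ?_) (fun v => ?_)
    · obtain ⟨m', hm'⟩ := hξcomm v
      refine ⟨v + m', ?_⟩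
      change (1 + ξ) * ι (QuadGrp.baseChangeForm B Q) v * (1 - ξ) = _
      calc (1 + ξ) * ι (QuadGrp.baseChangeForm B Q) v * (1 - ξ)
          = ι (QuadGrp.baseChangeForm B Q) v + (ξ * ι (QuadGrp.baseChangeForm B Q) v -
              ι (QuadGrp.baseChangeForm B Q) v * ξ) -
              ξ * ι (QuadGrp.baseChangeForm B Q) v * ξ := by noncomm_ring
        _ = _ := by rw [hm', hξcξ, sub_zero, map_add]
    · obtain ⟨m', hm'⟩ := hξcomm v
      refine ⟨v - m', ?_⟩
      change (1 - ξ) * ι (QuadGrp.baseChangeForm B Q) v * (1 + ξ) = _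
      calc (1 - ξ) * ι (QuadGrp.baseChangeForm B Q) v * (1 + ξ)
          = ι (QuadGrp.baseChangeForm B Q) v - (ξ * ι (QuadGrp.baseChangeForm B Q) v -
              ι (QuadGrp.baseChangeForm B Q) v * ξ) -
              ξ * ι (QuadGrp.baseChangeForm B Q) v * ξ := by noncomm_ring
        _ = _ := by rw [hm', hξcξ, sub_zero, map_sub]
  have h1ξ : (1 + ξ) ∈ evenOdd (QuadGrp.baseChangeForm B Q) 0 :=
    Submodule.add_mem _ (SetLike.one_mem_graded _) hξeven
  have hTLH : (⟨1 + ξ, 1 - ξ, hT1, hT2⟩ : (CliffordAlgebra (QuadGrp.baseChangeForm B Q))ˣ) ∈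
      QuadGrp.LH (QuadGrp.baseChangeForm B Q) := by
    refine ⟨1, IsIdempotentElem.one, ?_, ?_⟩
    · rw [one_smul]
      exact h1ξ
    · rw [sub_self, zero_smul]
      exact Submodule.zero_mem _
  have hTnorm : star (1 + ξ) * (1 + ξ) = algebraMap B _ (1 - i) := by
    have h0 : star ξ * ξ = 0 := hz _ _ hξs0 hξ0
    calc star (1 + ξ) * (1 + ξ) = 1 + (ξ + star ξ) + star ξ * ξ := by
          rw [star_add, star_one]; noncomm_ring
      _ = algebraMap B _ (1 - i) := by
          rw [h0, hξstar, add_zero, map_sub, map_one, map_neg]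
          abel
  have hrr : r * (1 - i) = 1 := by
    have : r = 1 + i := by rw [hi]; ring
    rw [this]
    linear_combination -hii
  refine ⟨w₁ * ⟨1 + ξ, 1 - ξ, hT1, hT2⟩, Subgroup.mem_inf.mpr
    ⟨(QuadGrp.GPin (QuadGrp.baseChangeForm B Q)).mul_mem hw₁
      (Subgroup.mem_inf.mpr ⟨hT', hTLH⟩), ?_⟩, ?_⟩
  · rw [QuadGrp.mem_normOne]
    change star ((w₁ : CliffordAlgebra (QuadGrp.baseChangeForm B Q)) * (1 + ξ)) *
      ((w₁ : CliffordAlgebra (QuadGrp.baseChangeForm B Q)) * (1 + ξ)) = 1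
    rw [star_mul]
    calc star (1 + ξ) * star (w₁ : CliffordAlgebra (QuadGrp.baseChangeForm B Q)) *
          ((w₁ : CliffordAlgebra (QuadGrp.baseChangeForm B Q)) * (1 + ξ))
        = star (1 + ξ) * (star (w₁ : CliffordAlgebra (QuadGrp.baseChangeForm B Q)) * w₁) *
            (1 + ξ) := by simp only [mul_assoc]
      _ = algebraMap B _ r * (star (1 + ξ) * (1 + ξ)) := by
          rw [← hr, ← Algebra.commutes, mul_assoc]
      _ = 1 := by rw [hTnorm, ← map_mul, hrr, map_one]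
  · change cmap Q (Ideal.Quotient.mkₐ R I)
      ((w₁ : CliffordAlgebra (QuadGrp.baseChangeForm B Q)) * (1 + ξ)) = _
    rw [map_mul, hcw₁, map_add, map_one, hξ0, add_zero, mul_one]

/-- lifting in terms of pairs -/
theorem exists_lift_isGP_Pin (hm : 1 ≤ m) (Q : QuadraticForm R (Fin (2 * m + 1) → R))
    (hQ : QuadGrp.IsSemiregular (Pi.basisFun R (Fin (2 * m + 1))) (LinearEquiv.refl R R) Q)
    (B : Type u) [CommRing B] [Algebra R B] (I : Ideal B) (hI : I ^ 2 = ⊥)
    (xb yb : (B ⧸ I) ⊗[R] CliffordAlgebra Q) (eb : B ⧸ I)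
    (h : IsGP Q (B ⧸ I) (Pi.basisFun R (Fin (2 * m + 1))) xb yb) (hlh : IsLH Q (B ⧸ I) eb xb)
    (hn1 : IsN1 Q (B ⧸ I) xb) :
    ∃ (x y : B ⊗[R] CliffordAlgebra Q) (e : B),
      IsGP Q B (Pi.basisFun R (Fin (2 * m + 1))) x y ∧ IsLH Q B e x ∧ IsN1 Q B x ∧
      Tm Q (Ideal.Quotient.mkₐ R I) x = xb := by
  have hwb : unitOf Q (B ⧸ I) xb yb h.1 h.2.1 ∈ QuadGrp.Pin (QuadGrp.baseChangeForm (B ⧸ I) Q) := by
    refine Subgroup.mem_inf.mpr ⟨Subgroup.mem_inf.mpr ⟨unitOf_mem Q (B ⧸ I) _ h, ?_⟩, ?_⟩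
    · change QuadGrp.IsLocHomog _ _
      rw [isLocHomog_iff, bcEquiv_unitOf]
      exact ⟨eb, hlh⟩
    · rw [mem_normOne_iff, bcEquiv_unitOf]
      exact hn1
  obtain ⟨w, hw, hcw⟩ := exists_lift_Pin_odd hm Q hQ B I hI _ hwb
  obtain ⟨hwG, hwN⟩ := Subgroup.mem_inf.mp hw
  obtain ⟨hw1, hw2⟩ := Subgroup.mem_inf.mp hwG
  obtain ⟨e, he⟩ := (isLocHomog_iff Q B _).mp hw2
  refine ⟨_, _, e, isGP_of_mem_GPin' Q B (Pi.basisFun R (Fin (2 * m + 1))) hw1, he,
    (mem_normOne_iff Q B w).mp hwN, ?_⟩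
  rw [← bcEquiv_cmap, hcw, bcEquiv_unitOf]

end Main

end Groth.Agent.H9.CR
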