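import Mathlib

/-! Helper9: elements of finite order in Aˣ/Kˣ for a non-division central simple algebra (S15183). -/

open Polynomial

namespace Groth.Agent.H9.CSAOrd

theorem exists_primitiveRoot (K : Type*) [Field K] (d : ℕ) (hd : 0 < d) (hdK : (d : K) ≠ 0)
    (hs : (X ^ d - 1 : K[X]).Splits) : ∃ ζ : K, IsPrimitiveRoot ζ d := by
  have : NeZero d := ⟨hd.ne'⟩
  rw [← card_rootsOfUnity_eq_iff_exists_isPrimitiveRoot]
  classical
  have hsep : (X ^ d - 1 : K[X]).Separable := X_pow_sub_one_separable_iff.2 hdK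
  have hroots : Multiset.card (nthRoots d (1 : K)) = d := by
    have h1 : (X ^ d - 1 : K[X]) = X ^ d - C 1 := by rw [C_1]
    rw [nthRoots, ← h1, ← hs.natDegree_eq_card_roots, h1, natDegree_X_pow_sub_C]
  have hnodup : (nthRoots d (1 : K)).Nodup := by
    rw [nthRoots, C_1]; exact nodup_roots hsep
  calc Nat.card (rootsOfUnity d K) = Nat.card {x // x ∈ nthRoots d (1 : K)} :=
        Nat.card_congr (rootsOfUnityEquivNthRoots K d)
    _ = Fintype.card {x // x ∈ nthRoots d (1 : K)} := Nat.card_eq_fintype_card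
    _ = (nthRoots d (1 : K)).toFinset.card :=
        Fintype.card_of_subtype _ (fun x => Multiset.mem_toFinset)
    _ = Multiset.card (nthRoots d (1 : K)) := Multiset.toFinset_card_of_nodup hnodup
    _ = d := hroots

/-- a non-division Artinian simple ring has a nontrivial idempotent -/
theorem exists_idempotent (A : Type*) [Ring A] [IsSimpleRing A] [IsArtinianRing A]
    (hA : ∃ y : A, y ≠ 0 ∧ ¬ IsUnit y) : ∃ E : A, E * E = E ∧ E ≠ 0 ∧ E ≠ 1 := by
  classical
  obtain ⟨n, hn, D, _, ⟨e⟩⟩ := IsSimpleRing.exists_ringEquiv_matrix_divisionRing A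
  obtain ⟨y, hy0, hyu⟩ := hA
  by_cases hn1 : n = 1
  · subst hn1
    exfalso
    apply hyu
    have hey : e y ≠ 0 := fun h => hy0 (by simpa using h)
    have hentry : e y 0 0 ≠ 0 := by
      intro h
      apply hey
      ext i j
      rw [Subsingleton.elim i 0, Subsingleton.elim j 0, h]; rfl
    have hu : IsUnit (e y) := by
      refine ⟨⟨e y, Matrix.of fun _ _ => (e y 0 0)⁻¹, ?_, ?_⟩, rfl⟩
      · ext i j
        rw [Subsingleton.elim i 0, Subsingleton.elim j 0]
        simp [Matrix.mul_apply, hentry]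
      · ext i j
        rw [Subsingleton.elim i 0, Subsingleton.elim j 0]
        simp [Matrix.mul_apply, hentry]
    exact (MulEquiv.isUnit_map e.toMulEquiv).1 hu
  · have hn2 : 2 ≤ n := by
      have := hn.out
      omega
    let i₀ : Fin n := ⟨0, by omega⟩
    let i₁ : Fin n := ⟨1, by omega⟩
    have hne : i₀ ≠ i₁ := by
      intro h
      have := congrArg Fin.val h
      simp [i₀, i₁] at this
    refine ⟨e.symm (Matrix.single i₀ i₀ 1), ?_, ?_, ?_⟩
    · rw [← map_mul, Matrix.single_mul_single_same, one_mul]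
    · intro h
      have h' : (Matrix.single i₀ i₀ (1 : D)) = 0 := by simpa using h
      have := congrFun (congrFun h' i₀) i₀
      simp at this
    · intro h
      have h' : (Matrix.single i₀ i₀ (1 : D)) = 1 := by
        have := congrArg e h
        simpa using this
      have := congrFun (congrFun h' i₁) i₁
      simp [hne] at this

theorem main (K : Type*) [Field K] (hK : ∀ n : ℕ, 0 < n → (X ^ n - 1 : K[X]).Splits)
    (A : Type*) [Ring A] [Algebra K A] [IsSimpleRing A] [FiniteDimensional K A]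
    (hA : ∃ y : A, y ≠ 0 ∧ ¬ IsUnit y) (d : ℕ) (hd : 0 < d) (hdK : (d : K) ≠ 0) :
    ∃ x : A, IsUnit x ∧ x ^ d ∈ (algebraMap K A).range ∧
      ∀ k : ℕ, 0 < k → k < d → x ^ k ∉ (algebraMap K A).range := by
  have : IsArtinianRing A := IsArtinianRing.of_finite K A
  obtain ⟨E, hEE, hE0, hE1⟩ := exists_idempotent A hA
  obtain ⟨ζ, hζ⟩ := exists_primitiveRoot K d hd hdK (hK d hd)
  have hE1' : 1 - E ≠ 0 := fun h => hE1 (sub_eq_zero.1 h).symm
  have hEc : E * (1 - E) = 0 := by rw [mul_sub, mul_one, hEE, sub_self]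
  have hcE : (1 - E) * E = 0 := by rw [sub_mul, one_mul, hEE, sub_self]
  have hcc : (1 - E) * (1 - E) = 1 - E := by
    rw [mul_sub, mul_one, hcE, sub_zero]
  have hpow : ∀ k : ℕ, (ζ • E + (1 - E)) ^ k = ζ ^ k • E + (1 - E) := by
    intro k
    induction k with
    | zero => simp
    | succ k ih =>
      rw [pow_succ, ih, add_mul, mul_add, mul_add, smul_mul_smul_comm, hEE, smul_mul_assoc, hEc,
        mul_smul_comm, hcE, hcc, smul_zero, smul_zero, add_zero, zero_add, pow_succ]
  refine ⟨ζ • E + (1 - E), ?_, ?_, ?_⟩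
  · apply IsUnit.of_pow_eq_one (n := d) _ hd.ne'
    rw [hpow, hζ.pow_eq_one, one_smul]; abel
  · refine ⟨1, ?_⟩
    rw [hpow, hζ.pow_eq_one, one_smul, map_one]; abel
  · intro k hk0 hkd hmem
    obtain ⟨c, hc⟩ := hmem
    rw [hpow, Algebra.algebraMap_eq_smul_one] at hc
    -- multiply by E
    have h1 : c • E = ζ ^ k • E := by
      have := congrArg (· * E) hc
      simpa [add_mul, smul_mul_assoc, hEE, hcE] using this
    have h2 : c • (1 - E) = 1 - E := by
      have := congrArg (· * (1 - E)) hc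
      simpa [add_mul, smul_mul_assoc, hEc, hcc] using this
    have hc1 : c = 1 := by
      have : (c - 1) • (1 - E) = 0 := by rw [sub_smul, one_smul, h2, sub_self]
      rcases smul_eq_zero.1 this with h | h
      · exact sub_eq_zero.1 h
      · exact absurd h hE1'
    have hck : c = ζ ^ k := by
      have : (c - ζ ^ k) • E = 0 := by rw [sub_smul, h1, sub_self]
      rcases smul_eq_zero.1 this with h | h
      · exact sub_eq_zero.1 h
      · exact absurd h hE0
    have : ζ ^ k = 1 := by rw [← hck, hc1]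
    exact (hζ.pow_ne_one_of_pos_of_lt hk0.ne' hkd) this

end Groth.Agent.H9.CSAOrd
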