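import Mathlib
import Groth.Prelude.Def_SGA3b
import Groth.Agent.Lib.Helper9.MultT.LocalNoeth
import Groth.Agent.Lib.Helper9.MT.Quot

/-!
# A closed subgroup of a group of multiplicative type over a local base with trivial closed fibre
is trivial (helper9)
-/

set_option autoImplicit false
set_option linter.style.haveILetI false
set_option linter.unusedSectionVars false
set_option linter.unusedVariables false

namespace Groth.Agent.H9.CSG

open TensorProduct SGA3b Groth.Agent.H9.MultT Groth.Agent.H9 Groth.Agent.H9.CocommDiag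
  Groth.Agent.H9.CommGrp

universe u

section Nak

variable {R : Type u} [CommRing R] [IsLocalRing R] {B : Type u} [CommRing B] [Algebra R B]

/-- An idempotent of a finite algebra over a local ring which vanishes on the closed fibre is
zero. -/
theorem idem_eq_zero_of_finite [Module.Finite R B] {w : B} (hw : IsIdempotentElem w)
    (hm : w ∈ Ideal.map (algebraMap R B) (IsLocalRing.maximalIdeal R)) : w = 0 := by
  let N : Submodule R B := LinearMap.range (LinearMap.mulLeft R w)
  have hfg : N.FG := by
    show (LinearMap.range (LinearMap.mulLeft R w)).FG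
    rw [LinearMap.range_eq_map]
    exact Module.Finite.fg_top.map _
  have h1 : w ∈ IsLocalRing.maximalIdeal R • (⊤ : Submodule R B) := by
    rw [Ideal.smul_top_eq_map]
    exact hm
  have hle : N ≤ IsLocalRing.maximalIdeal R • N := by
    rintro _ ⟨b, rfl⟩
    have h2 : w * b = w * (w * b) := by rw [← mul_assoc, hw.eq]
    have h3 : ∀ x ∈ IsLocalRing.maximalIdeal R • (⊤ : Submodule R B),
        x * (w * b) ∈ IsLocalRing.maximalIdeal R • N := by
      intro x hx
      refine Submodule.smul_induction_on hx ?_ ?_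
      · intro r hr y _
        rw [smul_mul_assoc]
        refine Submodule.smul_mem_smul hr ⟨y * b, ?_⟩
        show w * (y * b) = y * (w * b)
        ring
      · intro x y hx hy
        rw [add_mul]
        exact add_mem hx hy
    show w * b ∈ _
    rw [h2]
    exact h3 w h1
  have h0 : N = ⊥ := Submodule.eq_bot_of_le_smul_of_le_jacobson_bot _ N hfg hle
    (IsLocalRing.maximalIdeal_le_jacobson _)
  have h4 : w ∈ N := ⟨w, hw.eq⟩
  rw [h0, Submodule.mem_bot] at h4
  exact h4

end Nak

section Surj

variable {k : Type u} [Field k] {A : Type u} [CommRing A] [HopfAlgebra k A]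
  {B : Type u} [CommRing B] [HopfAlgebra k B]

/-- Quotient groups... rather: the target of a surjective bialgebra map from a Hopf algebra of
multiplicative type over a field is of multiplicative type. -/
theorem isMultTypeConst_of_surjective (h : IsMultTypeConst k A) (ρ : A →ₐc[k] B)
    (hρ : Function.Surjective ρ) : IsMultTypeConst k B := by
  have hdiag := MT.isDiagonalizable_algebraicClosure h
  let π : AlgebraicClosure k ⊗[k] A →ₐc[AlgebraicClosure k] AlgebraicClosure k ⊗[k] B :=
    Bialgebra.TensorProduct.map (BialgHom.id (AlgebraicClosure k) (AlgebraicClosure k)) ρ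
  have hπ : Function.Surjective π := by
    intro y
    induction y using TensorProduct.induction_on with
    | zero => exact ⟨0, map_zero _⟩
    | tmul c b =>
      obtain ⟨a, rfl⟩ := hρ b
      exact ⟨c ⊗ₜ[k] a, Bialgebra.TensorProduct.map_tmul _ _ _ _⟩
    | add x y hx hy =>
      obtain ⟨x', rfl⟩ := hx
      obtain ⟨y', rfl⟩ := hy
      exact ⟨x' + y', map_add _ _ _⟩
  exact ⟨AlgebraicClosure k, inferInstance, inferInstance, inferInstance,
    isDiag_of_isDiagonalizable (MT.isDiagonalizable_of_surjective π hπ hdiag)⟩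

end Surj

section Fibre

variable {R : Type u} [CommRing R] {A : Type u} [CommRing A] [HopfAlgebra R A]

/-- On a field-valued fibre, an element lying in all the `n`-torsion ideals of a closed subgroup
of a group of multiplicative type vanishes. -/
theorem one_tmul_eq_zero_of_field (hA : IsMultTypeConst R A) (hft : Algebra.FiniteType R A)
    (J : Ideal A) [J.IsHopfIdeal R] (L : Type u) [Field L] [Algebra R L] (w : A ⧸ J)
    (hw : ∀ n : ℕ, 0 < n → w ∈ torsionIdeal R (A ⧸ J) n) : (1 : L) ⊗ₜ[R] w = 0 := by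
  have h1 : IsMultTypeConst L (L ⊗[R] A) := MT.isMultTypeConst_baseChange L hA
  let π : L ⊗[R] A →ₐc[L] L ⊗[R] (A ⧸ J) :=
    Bialgebra.TensorProduct.map (BialgHom.id L L) (Bialgebra.Quotient.mkBialgHom J)
  have hπ : Function.Surjective π := by
    intro y
    induction y using TensorProduct.induction_on with
    | zero => exact ⟨0, map_zero _⟩
    | tmul c b =>
      obtain ⟨a, rfl⟩ := Ideal.Quotient.mk_surjective b
      exact ⟨c ⊗ₜ[R] a, Bialgebra.TensorProduct.map_tmul _ _ _ _⟩
    | add x y hx hy =>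
      obtain ⟨x', rfl⟩ := hx
      obtain ⟨y', rfl⟩ := hy
      exact ⟨x' + y', map_add _ _ _⟩
  have h2 : IsMultTypeConst L (L ⊗[R] (A ⧸ J)) := isMultTypeConst_of_surjective h1 π hπ
  obtain ⟨T, _, _, ff, M, _, ⟨e⟩⟩ := h2
  have hTnt : Nontrivial T := by
    by_contra hT
    rw [not_nontrivial_iff_subsingleton] at hT
    have h1 : (1 : L) = 0 := by
      apply FaithfulSMul.algebraMap_injective L T
      exact Subsingleton.elim _ _
    exact one_ne_zero h1
  haveI hftC : Algebra.FiniteType R (A ⧸ J) :=
    hft.of_surjective (Ideal.Quotient.mkₐ R J) Ideal.Quotient.mk_surjective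
  haveI hftL : Algebra.FiniteType L (L ⊗[R] (A ⧸ J)) := inferInstance
  have hftM : Algebra.FiniteType T (MonoidAlgebra T M) :=
    Algebra.FiniteType.equiv inferInstance
      (e : T ⊗[L] (L ⊗[R] (A ⧸ J)) ≃ₐ[T] MonoidAlgebra T M)
  have hfg : Group.FG M := MonoidAlgebra.finiteType_iff_group_fg.1 hftM
  refine eq_zero_of_forall_mem_torsionIdeal_ff T e _ fun n hn => ?_
  exact one_tmul_mem_torsionIdeal L n (hw n hn)

end Fibre

section Nil

variable {R : Type u} [CommRing R] {C : Type u} [CommRing C] [Algebra R C]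

/-- An element vanishing on all field-valued fibres is nilpotent. -/
theorem isNilpotent_of_fibres (w : C)
    (h : ∀ (L : Type u) [Field L] [Algebra R L], (1 : L) ⊗ₜ[R] w = 0) : IsNilpotent w := by
  rw [nilpotent_iff_mem_prime]
  intro 𝔮 h𝔮
  haveI : 𝔮.IsPrime := h𝔮
  have h1 := h 𝔮.ResidueField
  have h2 := congrArg (Algebra.TensorProduct.productMap (AlgHom.id R 𝔮.ResidueField)
    (IsScalarTower.toAlgHom R C 𝔮.ResidueField)) h1
  rw [Algebra.TensorProduct.productMap_apply_tmul, map_zero, map_one, one_mul] at h2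
  exact Ideal.algebraMap_residueField_eq_zero.1 h2

end Nil

section Fin

variable {R : Type u} [CommRing R] [IsLocalRing R] {A : Type u} [CommRing A] [HopfAlgebra R A]

theorem finite_quot_torsion (hft : Algebra.FiniteType R A) (hH : IsMultType R A)
    (J : Ideal A) [J.IsHopfIdeal R] (n : ℕ) (hn : 0 < n) :
    Module.Finite R ((A ⧸ J) ⧸ torsionIdeal R (A ⧸ J) n) := by
  obtain ⟨T, _, _, ff, M, _, ⟨e⟩⟩ := isMultTypeConst_of_isLocalRing hH
  have hTnt : Nontrivial T := by
    by_contra hT
    rw [not_nontrivial_iff_subsingleton] at hT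
    have h1 : (1 : R) = 0 := by
      apply FaithfulSMul.algebraMap_injective R T
      exact Subsingleton.elim _ _
    exact one_ne_zero h1
  have hftM : Algebra.FiniteType T (MonoidAlgebra T M) :=
    Algebra.FiniteType.equiv inferInstance (e : T ⊗[R] A ≃ₐ[T] MonoidAlgebra T M)
  have hfg : Group.FG M := MonoidAlgebra.finiteType_iff_group_fg.1 hftM
  have hfin : Module.Finite R (A ⧸ torsionIdeal R A n) := finite_quotient_torsionIdeal T e n hn
  have hle : torsionIdeal R A n ≤
      Ideal.comap (Ideal.Quotient.mkₐ R J) (torsionIdeal R (A ⧸ J) n) := by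
    intro a ha
    exact map_mem_torsionIdeal (Bialgebra.Quotient.mkBialgHom (R := R) J) n ha
  let g : (A ⧸ torsionIdeal R A n) →ₐ[R] (A ⧸ J) ⧸ torsionIdeal R (A ⧸ J) n :=
    Ideal.quotientMapₐ _ (Ideal.Quotient.mkₐ R J) hle
  refine Module.Finite.of_surjective g.toLinearMap ?_
  intro y
  obtain ⟨c, rfl⟩ := Ideal.Quotient.mk_surjective y
  obtain ⟨a, rfl⟩ := Ideal.Quotient.mk_surjective c
  exact ⟨Ideal.Quotient.mk _ a, rfl⟩

end Fin

section Main

variable (R : Type u) [CommRing R] [IsLocalRing R] (A : Type u) [CommRing A] [HopfAlgebra R A]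

theorem closed_subgroup_trivial (hft : Algebra.FiniteType R A) (hH : IsMultType R A)
    (J : Ideal A) [J.IsHopfIdeal R] (hK : Algebra.FinitePresentation R (A ⧸ J))
    (hs : J ⊔ Ideal.map (algebraMap R A) (IsLocalRing.maximalIdeal R) =
      RingHom.ker (Bialgebra.counitAlgHom R A) ⊔
        Ideal.map (algebraMap R A) (IsLocalRing.maximalIdeal R)) :
    J = RingHom.ker (Bialgebra.counitAlgHom R A) := by
  set 𝔪 := IsLocalRing.maximalIdeal R with h𝔪
  -- the augmentation ideal of the quotient
  let εC : (A ⧸ J) →ₐ[R] R := Bialgebra.counitAlgHom R (A ⧸ J)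
  let IC : Ideal (A ⧸ J) := RingHom.ker εC.toRingHom
  let 𝔪C : Ideal (A ⧸ J) := Ideal.map (algebraMap R (A ⧸ J)) 𝔪
  have memIC : ∀ y : A ⧸ J, y ∈ IC ↔ Coalgebra.counit (R := R) y = 0 := fun y => by
    show εC.toRingHom y = 0 ↔ _
    rfl
  have hεalg : ∀ r : R, Coalgebra.counit (R := R) (algebraMap R (A ⧸ J) r) = r := fun r =>
    (Bialgebra.counitAlgHom R (A ⧸ J)).commutes r
  have hεmul : ∀ x y : A ⧸ J, Coalgebra.counit (R := R) (x * y) =
      Coalgebra.counit (R := R) x * Coalgebra.counit (R := R) y := fun x y =>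
    map_mul (Bialgebra.counitAlgHom R (A ⧸ J)) x y
  have hεsub : ∀ x y : A ⧸ J, Coalgebra.counit (R := R) (x - y) =
      Coalgebra.counit (R := R) x - Coalgebra.counit (R := R) y := fun x y =>
    map_sub (Bialgebra.counitAlgHom R (A ⧸ J)) x y
  have hεone : Coalgebra.counit (R := R) (1 : A ⧸ J) = 1 :=
    map_one (Bialgebra.counitAlgHom R (A ⧸ J))
  -- `I_C` is finitely generated
  have hsurj : Function.Surjective εC := fun r => ⟨algebraMap R (A ⧸ J) r, hεalg r⟩
  have hfgI : IC.FG := Algebra.FinitePresentation.ker_fG_of_surjective εC hsurj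
  -- `ε` maps `𝔪C` into `𝔪`
  have hεm : ∀ z ∈ 𝔪C, Coalgebra.counit (R := R) z ∈ 𝔪 := by
    have h1 : 𝔪C ≤ Ideal.comap εC.toRingHom 𝔪 := by
      rw [Ideal.map_le_iff_le_comap]
      intro m hm
      rw [Ideal.mem_comap, Ideal.mem_comap]
      show Coalgebra.counit (R := R) (algebraMap R (A ⧸ J) m) ∈ 𝔪
      rw [hεalg]
      exact hm
    intro z hz
    exact h1 hz
  -- `I_C ≤ 𝔪C I_C`
  have key : ∀ z ∈ 𝔪 • (⊤ : Submodule R (A ⧸ J)),
      z - algebraMap R (A ⧸ J) (Coalgebra.counit (R := R) z) ∈ 𝔪C * IC := by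
    intro z hz
    refine Submodule.smul_induction_on hz ?_ ?_
    · intro r hr y _
      have h1 : r • y - algebraMap R (A ⧸ J) (Coalgebra.counit (R := R) (r • y)) =
          algebraMap R (A ⧸ J) r * (y - algebraMap R (A ⧸ J) (Coalgebra.counit (R := R) y)) := by
        rw [map_smul, smul_eq_mul, map_mul, Algebra.smul_def]
        ring
      rw [h1]
      refine Ideal.mul_mem_mul (Ideal.mem_map_of_mem _ hr) ?_
      rw [memIC, hεsub, hεalg, sub_self]
    · intro x y hx hy
      have h1 : x + y - algebraMap R (A ⧸ J) (Coalgebra.counit (R := R) (x + y)) =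
          (x - algebraMap R (A ⧸ J) (Coalgebra.counit (R := R) x)) +
          (y - algebraMap R (A ⧸ J) (Coalgebra.counit (R := R) y)) := by
        rw [map_add, map_add]
        ring
      rw [h1]
      exact add_mem hx hy
  have hle : IC ≤ 𝔪C • IC := by
    intro y hy
    rw [memIC] at hy
    obtain ⟨a, rfl⟩ := Ideal.Quotient.mk_surjective y
    have ha : a ∈ RingHom.ker (Bialgebra.counitAlgHom R A) := by
      rw [RingHom.mem_ker, Bialgebra.counitAlgHom_apply]
      exact hy
    have ha' : a ∈ J ⊔ Ideal.map (algebraMap R A) 𝔪 := by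
      rw [hs]
      exact Ideal.mem_sup_left ha
    obtain ⟨j, hj, b, hb, hjb⟩ := Submodule.mem_sup.1 ha'
    have h1 : Ideal.Quotient.mk J a = Ideal.Quotient.mk J b := by
      rw [← hjb, map_add, Ideal.Quotient.eq_zero_iff_mem.2 hj, zero_add]
    have h2 : Ideal.Quotient.mk J b ∈ 𝔪C := by
      have := Ideal.mem_map_of_mem (Ideal.Quotient.mk J) hb
      rw [Ideal.map_map] at this
      exact this
    have h3 : Ideal.Quotient.mk J a ∈ 𝔪 • (⊤ : Submodule R (A ⧸ J)) := by
      rw [Ideal.smul_top_eq_map, h1]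
      exact h2
    have h4 := key _ h3
    rw [hy, map_zero, sub_zero] at h4
    exact h4
  obtain ⟨c, hc1, hc2⟩ :=
    Submodule.exists_sub_one_mem_and_smul_eq_zero_of_fg_of_le_smul 𝔪C IC hfgI hle
  -- the unit `u = ε(c)`
  set u : R := Coalgebra.counit (R := R) c with hu
  have hu1 : u - 1 ∈ 𝔪 := by
    have := hεm _ hc1
    rw [hεsub, hεone] at this
    exact this
  have huu : IsUnit u := by
    rcases IsLocalRing.isUnit_or_isUnit_one_sub_self u with h | h
    · exact h
    · exfalso
      have h1 : (1 - u) ∈ 𝔪 := by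
        have := neg_mem hu1
        rwa [neg_sub] at this
      exact (IsLocalRing.mem_maximalIdeal _).1 h1 h
  obtain ⟨v, hv⟩ := huu.exists_left_inv
  -- the element `w`
  set w : A ⧸ J := algebraMap R (A ⧸ J) (-v) * (c - algebraMap R (A ⧸ J) u) with hwdef
  have hwI : w ∈ IC := by
    rw [memIC, hwdef, hεmul, hεsub, hεalg, hεalg, ← hu, sub_self, mul_zero]
  have hwm : w ∈ 𝔪C := by
    rw [hwdef]
    refine Ideal.mul_mem_left _ _ ?_
    have h1 : c - algebraMap R (A ⧸ J) u = (c - 1) - algebraMap R (A ⧸ J) (u - 1) := by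
      rw [map_sub, map_one]
      ring
    rw [h1]
    exact sub_mem hc1 (Ideal.mem_map_of_mem _ hu1)
  have hwy : ∀ y ∈ IC, w * y = y := by
    intro y hy
    have h1 : c * y = 0 := hc2 y hy
    have h2 : w * y = algebraMap R (A ⧸ J) (-v) * (c * y) +
        algebraMap R (A ⧸ J) (v * u) * y := by
      rw [hwdef, map_mul, map_neg]
      ring
    rw [h2, h1, mul_zero, zero_add, hv, map_one, one_mul]
  have hidem : IsIdempotentElem w := hwy w hwI
  -- `w` lies in all torsion ideals
  have hwt : ∀ n : ℕ, 0 < n → w ∈ torsionIdeal R (A ⧸ J) n := by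
    intro n hn
    haveI := finite_quot_torsion hft hH J n hn
    have h1 : Ideal.Quotient.mk (torsionIdeal R (A ⧸ J) n) w = 0 := by
      refine idem_eq_zero_of_finite (R := R) (hidem.map _) ?_
      have := Ideal.mem_map_of_mem (Ideal.Quotient.mk (torsionIdeal R (A ⧸ J) n)) hwm
      rw [Ideal.map_map] at this
      exact this
    exact Ideal.Quotient.eq_zero_iff_mem.1 h1
  -- `w` is nilpotent, hence zero
  have hA := isMultTypeConst_of_isLocalRing hH
  have hnil : IsNilpotent w :=
    isNilpotent_of_fibres (R := R) w fun L _ _ => one_tmul_eq_zero_of_field hA hft J L w hwt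
  have hw0 : w = 0 := by
    obtain ⟨k, hk⟩ := hnil
    have h1 : w ^ (k + 1) = w := hidem.pow_succ_eq k
    rw [← h1, pow_succ, hk, zero_mul]
  -- conclusion
  apply le_antisymm
  · intro a ha
    rw [RingHom.mem_ker, Bialgebra.counitAlgHom_apply]
    exact Submodule.IsCoideal.counit_eq_zero (I := J.restrictScalars R) ha
  · intro a ha
    rw [RingHom.mem_ker, Bialgebra.counitAlgHom_apply] at ha
    have h1 : Ideal.Quotient.mk J a ∈ IC := by
      rw [memIC]
      exact ha
    have h2 := hwy _ h1
    rw [hw0, zero_mul] at h2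
    exact Ideal.Quotient.eq_zero_iff_mem.1 h2.symm

end Main

end Groth.Agent.H9.CSG
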