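import Mathlib
import Groth.Agent.Lib.Helper9.Misc.BinForms

/-!
# Destabilising one-parameter subgroups of `SL_N` acting on forms (helper9)
-/

set_option autoImplicit false
set_option linter.unusedSectionVars false
set_option linter.unusedVariables false
set_option linter.style.haveILetI false

open TensorProduct CoordGrp WithConv IsLocalRing

noncomputable section

namespace Groth.Agent.H9.BinF

universe u

open Groth.Agent.H9 Groth.Agent.H9.Comod Groth.Agent.H9.GIT Groth.Agent.H9.CLO

attribute [local instance] cS hS finiteType_SLn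

section Wt
variable {k : Type u} [Field k] {N d : ℕ}

/-- the weight of an exponent vector -/
def wt (r : Fin N → ℤ) (e : Fin N →₀ ℕ) : ℤ := ∑ j, r j * (e j : ℤ)

lemma wt_add (r : Fin N → ℤ) (e e' : Fin N →₀ ℕ) : wt r (e + e') = wt r e + wt r e' := by
  simp only [wt, Finsupp.add_apply, Nat.cast_add, mul_add, Finset.sum_add_distrib]

lemma wt_single (r : Fin N → ℤ) (j : Fin N) : wt r (Finsupp.single j 1) = r j := by
  classical
  rw [wt, Finset.sum_eq_single j]
  · simp
  · intro i _ hi; simp [Finsupp.single_apply, hi.symm]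
  · intro h; exact absurd (Finset.mem_univ j) h

/-- the diagonal one-parameter subgroup with weights `r` -/
def Dz (r : Fin N → ℤ) (t : k) : Matrix (Fin N) (Fin N) k := Matrix.diagonal fun j => t ^ (r j)

lemma prod_zpow_eq {ι : Type*} (s : Finset ι) (f : ι → ℤ) {t : k} (ht : t ≠ 0) :
    ∏ j ∈ s, t ^ (f j) = t ^ (∑ j ∈ s, f j) := by
  classical
  induction s using Finset.induction_on with
  | empty => simp
  | insert a s ha ih => rw [Finset.prod_insert ha, Finset.sum_insert ha, ih, zpow_add₀ ht]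

lemma det_Dz (r : Fin N → ℤ) (hr : ∑ j, r j = 0) {t : k} (ht : t ≠ 0) : (Dz r t).det = 1 := by
  rw [Dz, Matrix.det_diagonal, prod_zpow_eq _ _ ht, hr, zpow_zero]

lemma actV_Dz (r : Fin N → ℤ) (b : FormIdx N d → k) {t : k} (ht : t ≠ 0) (e : FormIdx N d) :
    actV k (Dz r t) b e = b e * t ^ (wt r e.1) := by
  rw [Dz, actV_diagonal]
  congr 1
  rw [wt, ← prod_zpow_eq _ _ ht]
  refine Finset.prod_congr rfl fun j _ => ?_
  rw [← zpow_natCast, ← zpow_mul]

/-- the natural-number exponents of the curve -/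
def eeN (r : Fin N → ℤ) (e : FormIdx N d) : ℕ := (wt r e.1).toNat

lemma actV_Dz_of_sup (r : Fin N → ℤ) (b : FormIdx N d → k)
    (hsup : ∀ e : FormIdx N d, b e ≠ 0 → 0 ≤ wt r e.1) {t : k} (ht : t ≠ 0) (e : FormIdx N d) :
    actV k (Dz r t) b e = b e * t ^ (eeN r e) := by
  rw [actV_Dz r b ht]
  by_cases hb : b e = 0
  · rw [hb, zero_mul, zero_mul]
  · congr 1
    rw [eeN, ← zpow_natCast, Int.toNat_of_nonneg (hsup e hb)]

theorem limit_evalN [Infinite k] (a : FormIdx N d → k) (M : Matrix (Fin N) (Fin N) k)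
    (hM : M.det = 1) (r : Fin N → ℤ) (hr : ∑ j, r j = 0)
    (hsup : ∀ e : FormIdx N d, actV k M a e ≠ 0 → 0 ≤ wt r e.1)
    (F : FormRing k N d) (c : k)
    (hconst : ∀ M' : Matrix (Fin N) (Fin N) k, M'.det = 1 →
      MvPolynomial.eval (actV k M' a) F = c) :
    MvPolynomial.eval (fun e => actV k M a e * (0 : k) ^ eeN r e) F = c := by
  apply eval_const_of_curve' (actV k M a) (eeN r) F c
  intro t ht
  have h1 : (fun e => actV k M a e * t ^ eeN r e) = actV k (M * Dz r t) a := by
    rw [actV_mul]; funext e; rw [actV_Dz_of_sup r _ hsup ht]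
  rw [h1]
  exact hconst _ (by rw [Matrix.det_mul, hM, det_Dz r hr ht, one_mul])

end Wt

section NotSt
variable {k : Type u} [Field k] [IsAlgClosed k] {N d : ℕ}

/-- a transform of `a` all of whose non-zero coordinates have non-negative weight for a non-trivial
one-parameter subgroup: `a` is not stable. -/
theorem not_st_of_weights (a : FormIdx N d → k) (M : Matrix (Fin N) (Fin N) k) (hM : M.det = 1)
    (r : Fin N → ℤ) (hr : ∑ j, r j = 0) (j0 : Fin N) (hj0 : 0 < r j0)
    (hsup : ∀ e : FormIdx N d, actV k M a e ≠ 0 → 0 ≤ wt r e.1) :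
    ¬ GLin.IsStableVec k (SLn N k) a := by
  intro hst
  have hst' : St (A := SLn N k) (GLin.vecPt k (FormIdx N d) a) := (isStablePt_iff_st _).mp hst
  obtain ⟨hclosed, hfin⟩ := hst'
  set b0 : FormIdx N d → k := fun e => actV k M a e * (0 : k) ^ eeN r e with hb0
  have hIk : Ik (A := SLn N k) (GLin.vecPt k (FormIdx N d) a) ≤
      RingHom.ker (GLin.vecPt k (FormIdx N d) b0 : FormRing k N d →+* k) := by
    intro f hf
    rw [mem_Ik] at hf
    rw [RingHom.mem_ker]
    have hlim := limit_evalN a M hM r hr hsup f 0 (fun M' hM' => by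
      have := hf (SLn.pt N k M' hM')
      rw [actPt_pt] at this
      simpa [GLin.vecPt, MvPolynomial.aeval_eq_eval] using this)
    simpa [GLin.vecPt, MvPolynomial.aeval_eq_eval] using hlim
  obtain ⟨g', hg'⟩ := hclosed _ hIk
  have hfin0 : (StabK (A := SLn N k) (GLin.vecPt k (FormIdx N d) b0)).Finite := by
    rw [hg']; exact stabK_finite_actPt g' _ hfin
  -- all the `Dz r t` stabilise `b0`
  have hstab : ∀ t : k, ∀ ht : t ≠ 0,
      SLn.pt N k (Dz r t) (det_Dz r hr ht) ∈
        StabK (A := SLn N k) (GLin.vecPt k (FormIdx N d) b0) := by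
    intro t ht
    show GLin.actPt k _ _ = _
    rw [actPt_pt]
    congr 1
    funext e
    rw [actV_Dz r b0 ht]
    by_cases he : eeN r e = 0
    · by_cases hae : actV k M a e = 0
      · rw [hb0]; simp only; rw [hae, zero_mul, zero_mul]
      · have h1 := hsup e hae
        have h2 : wt r e.1 = 0 := by
          unfold eeN at he
          omega
        rw [h2, zpow_zero, mul_one]
    · rw [hb0]; simp only
      rw [zero_pow he, mul_zero, zero_mul]
  -- hence infinitely many values of the coordinate `X j0 j0`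
  have himg := hfin0.image (fun g : SLn N k →ₐ[k] k => g (SLn.X j0 j0))
  have hsub : {y : k | y ≠ 0} ⊆ (fun g : SLn N k →ₐ[k] k => g (SLn.X j0 j0)) ''
      StabK (A := SLn N k) (GLin.vecPt k (FormIdx N d) b0) := by
    intro y hy
    have hpos : 0 < (r j0).toNat := by omega
    obtain ⟨t, ht⟩ := IsAlgClosed.exists_pow_nat_eq y hpos
    have ht0 : t ≠ 0 := by
      intro h0
      rw [h0, zero_pow hpos.ne'] at ht
      exact hy ht.symm
    refine ⟨SLn.pt N k (Dz r t) (det_Dz r hr ht0), hstab t ht0, ?_⟩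
    show SLn.pt N k (Dz r t) (det_Dz r hr ht0) (SLn.X j0 j0) = y
    rw [SLn.pt_X, Dz, Matrix.diagonal_apply_eq, ← ht, ← zpow_natCast, Int.toNat_of_nonneg hj0.le]
  have hinf : {y : k | y ≠ 0}.Infinite := by
    have : {y : k | y ≠ 0} = Set.univ \ {0} := by ext y; simp
    rw [this]
    exact Set.Infinite.sdiff Set.infinite_univ (Set.finite_singleton 0)
  exact hinf (himg.subset hsub)

end NotSt

end Groth.Agent.H9.BinF
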