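import Mathlib
import Groth.Agent.Lib.Helper9.Misc.FormCurve

/-!
# Configurations of points: the necessary condition for stability (helper9; S18262, S18263)
-/

set_option autoImplicit false
set_option linter.unusedSectionVars false
set_option linter.unusedVariables false
set_option linter.style.haveILetI false

open TensorProduct CoordGrp WithConv IsLocalRing

noncomputable section

namespace Groth.Agent.H9.BinF

universe u

open Groth.Agent.H9 Groth.Agent.H9.Comod Groth.Agent.H9.GIT Groth.Agent.H9.CLO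

attribute [local instance] cS hS finiteType_SLn

section Lin
variable {k : Type u} [Field k] {N : ℕ}

/-- the linear form with coefficient vector `p` -/
def Lf (p : Fin N → k) : MvPolynomial (Fin N) k := ∑ j, MvPolynomial.C (p j) * MvPolynomial.X j

lemma sigma_Lf (M : Matrix (Fin N) (Fin N) k) (p : Fin N → k) :
    sigma k M (Lf p) = Lf (M.transpose.mulVec p) := by
  rw [Lf, map_sum]
  simp_rw [map_mul, MvPolynomial.algHom_C, MvPolynomial.algebraMap_eq, sigma_X, Finset.mul_sum]
  rw [Finset.sum_comm, Lf]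
  refine Finset.sum_congr rfl fun j _ => ?_
  rw [Matrix.mulVec, dotProduct, map_sum, Finset.sum_mul]
  refine Finset.sum_congr rfl fun i _ => ?_
  rw [Matrix.transpose_apply, map_mul]; ring

/-- all monomials have weight at least `s` -/
def WtGE (r : Fin N → ℤ) (P : MvPolynomial (Fin N) k) (s : ℤ) : Prop :=
  ∀ e ∈ P.support, s ≤ wt r e

lemma wtGE_mul {r : Fin N → ℤ} {P Q : MvPolynomial (Fin N) k} {s s' : ℤ} (hP : WtGE r P s)
    (hQ : WtGE r Q s') : WtGE r (P * Q) (s + s') := by
  classical
  intro e he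
  have := MvPolynomial.support_mul P Q he
  obtain ⟨e1, h1, e2, h2, rfl⟩ := Finset.mem_add.mp this
  rw [wt_add]; exact add_le_add (hP e1 h1) (hQ e2 h2)

lemma wtGE_one (r : Fin N → ℤ) : WtGE r (1 : MvPolynomial (Fin N) k) 0 := by
  classical
  intro e he
  have h0 : e = 0 := by
    by_contra h
    rw [MvPolynomial.mem_support_iff, MvPolynomial.coeff_one, if_neg (Ne.symm h)] at he
    exact he rfl
  rw [h0]; simp [wt]

lemma wtGE_prod {ι : Type*} (r : Fin N → ℤ) (s : Finset ι) (P : ι → MvPolynomial (Fin N) k)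
    (w : ι → ℤ) (h : ∀ i ∈ s, WtGE r (P i) (w i)) : WtGE r (∏ i ∈ s, P i) (∑ i ∈ s, w i) := by
  classical
  induction s using Finset.induction_on with
  | empty => simpa using wtGE_one r
  | insert a s ha ih =>
    rw [Finset.prod_insert ha, Finset.sum_insert ha]
    exact wtGE_mul (h a (Finset.mem_insert_self a s))
      (ih fun i hi => h i (Finset.mem_insert_of_mem hi))

lemma wtGE_Lf (r : Fin N → ℤ) (p : Fin N → k) (s : ℤ) (h : ∀ j, p j ≠ 0 → s ≤ r j) :
    WtGE r (Lf p) s := by
  classical
  intro e he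
  rw [MvPolynomial.mem_support_iff, Lf, MvPolynomial.coeff_sum] at he
  obtain ⟨j, -, hj⟩ := Finset.exists_ne_zero_of_sum_ne_zero he
  rw [MvPolynomial.coeff_C_mul, MvPolynomial.coeff_X'] at hj
  by_cases hje : Finsupp.single j 1 = e
  · subst hje
    rw [wt_single]
    apply h
    intro hp
    apply hj
    rw [hp, zero_mul]
  · rw [if_neg hje, mul_zero] at hj
    exact absurd rfl hj

end Lin

section Adapted
variable {k : Type u} [Field k] {n : ℕ}

theorem exists_adapted (W : Submodule k (Fin (n + 1) → k)) :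
    ∃ U : Matrix (Fin (n + 1)) (Fin (n + 1)) k, U.det = 1 ∧
      ∀ p ∈ W, ∀ j : Fin (n + 1), 0 < (j : ℕ) → Module.finrank k W ≤ (j : ℕ) → U.mulVec p j = 0 := by
  classical
  obtain ⟨W', hc⟩ := Submodule.exists_isCompl W
  set w := Module.finrank k W with hw
  set w' := Module.finrank k W' with hw'
  have hsum : w + w' = n + 1 := by
    have := Submodule.finrank_add_eq_of_isCompl hc
    rw [Module.finrank_fin_fun] at this
    exact this
  let bW : Module.Basis (Fin w) k W := Module.finBasisOfFinrankEq k W rfl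
  let bW' : Module.Basis (Fin w') k W' := Module.finBasisOfFinrankEq k W' rfl
  let β₀ : Module.Basis (Fin w ⊕ Fin w') k (Fin (n + 1) → k) :=
    (bW.prod bW').map (Submodule.prodEquivOfIsCompl W W' hc)
  let e : Fin w ⊕ Fin w' ≃ Fin (n + 1) := finSumFinEquiv.trans (finCongr hsum)
  let β : Module.Basis (Fin (n + 1)) k (Fin (n + 1) → k) := β₀.reindex e
  let T : (Fin (n + 1) → k) ≃ₗ[k] (Fin (n + 1) → k) := β.equivFun
  have hβ : ∀ i : Fin w, β (e (Sum.inl i)) = (bW i : Fin (n + 1) → k) := by
    intro i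
    rw [Module.Basis.reindex_apply, Equiv.symm_apply_apply, Module.Basis.map_apply,
      Module.Basis.prod_apply, Sum.elim_inl, LinearMap.coe_inl, Function.comp_apply,
      Submodule.coe_prodEquivOfIsCompl']
    simp
  have hTW : ∀ p ∈ W, ∀ j : Fin (n + 1), w ≤ (j : ℕ) → T p j = 0 := by
    intro p hp j hj
    have hspan : (⟨p, hp⟩ : W) ∈ Submodule.span k (Set.range bW) := by
      rw [bW.span_eq]; trivial
    have hE : ∀ x : W, x ∈ Submodule.span k (Set.range bW) → T (x : Fin (n + 1) → k) j = 0 := by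
      intro x hx
      induction hx using Submodule.span_induction with
      | mem y hy =>
        obtain ⟨i, rfl⟩ := hy
        rw [← hβ i]
        show β.equivFun (β (e (Sum.inl i))) j = 0
        rw [Module.Basis.equivFun_self, if_neg]
        intro hje
        have h1 : ((e (Sum.inl i)) : ℕ) = (i : ℕ) := by
          simp [e]
        rw [← hje, h1] at hj
        exact absurd i.2 (not_lt.mpr hj)
      | zero => simp
      | add x y _ _ hx hy => rw [Submodule.coe_add, map_add, Pi.add_apply, hx, hy, add_zero]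
      | smul c x _ hx => rw [Submodule.coe_smul, map_smul, Pi.smul_apply, hx, smul_zero]
    exact hE ⟨p, hp⟩ hspan
  set U₀ : Matrix (Fin (n + 1)) (Fin (n + 1)) k := LinearMap.toMatrix' T.toLinearMap with hU₀
  have hU₀v : ∀ p, U₀.mulVec p = T p := fun p => LinearMap.toMatrix'_mulVec _ _
  have hdet : U₀.det ≠ 0 := by
    have h1 : U₀ * LinearMap.toMatrix' T.symm.toLinearMap = 1 := by
      rw [hU₀, ← LinearMap.toMatrix'_comp]
      have : T.toLinearMap ∘ₗ T.symm.toLinearMap = LinearMap.id := by
        ext x; simp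
      rw [this, LinearMap.toMatrix'_id]
    intro h0
    have := congrArg Matrix.det h1
    rw [Matrix.det_mul, h0, zero_mul, Matrix.det_one] at this
    exact zero_ne_one this
  refine ⟨Matrix.diagonal (Function.update (fun _ => (1 : k)) 0 (U₀.det)⁻¹) * U₀, ?_, ?_⟩
  · rw [Matrix.det_mul, Matrix.det_diagonal, Fin.prod_univ_succ]
    simp only [Function.update_self]
    have : ∀ i : Fin n, Function.update (fun _ => (1 : k)) 0 (U₀.det)⁻¹ i.succ = 1 := by
      intro i
      rw [Function.update_of_ne (Fin.succ_ne_zero i)]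
    simp only [this, Finset.prod_const_one, mul_one]
    exact inv_mul_cancel₀ hdet
  · intro p hp j hj0 hj
    rw [← Matrix.mulVec_mulVec, Matrix.mulVec_diagonal, hU₀v, hTW p hp j hj, mul_zero]

end Adapted

section Main
variable (k : Type u) [Field k] [IsAlgClosed k]

lemma sum_weights (N w : ℕ) (hw : w ≤ N) :
    ∑ j : Fin N, (if (j : ℕ) < w then ((N : ℤ) - w) else -(w : ℤ)) = 0 := by
  have h1 : ∀ j : Fin N, (if (j : ℕ) < w then ((N : ℤ) - w) else -(w : ℤ)) =
      (if (j : ℕ) < w then (N : ℤ) else 0) - w := by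
    intro j; split_ifs <;> ring
  simp_rw [h1]
  rw [Finset.sum_sub_distrib, Finset.sum_const, Finset.card_univ, Fintype.card_fin,
    Fin.sum_univ_eq_sum_range (fun i => if i < w then (N : ℤ) else 0) N, ← Finset.sum_filter]
  have h2 : (Finset.range N).filter (fun i => i < w) = Finset.range w := by
    ext i; simp only [Finset.mem_filter, Finset.mem_range]; omega
  rw [h2, Finset.sum_const, Finset.card_range]
  simp only [nsmul_eq_mul]; ring

lemma multinomial_ne_zero' {N m : ℕ} (hm : (Nat.factorial m : k) ≠ 0) (e : FormIdx N m) :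
    (e.1.multinomial : k) ≠ 0 := by
  intro h0
  apply hm
  have h1 := Nat.multinomial_spec (Finset.univ : Finset (Fin N)) e.1
  rw [Finsupp.multinomial_of_support_subset (d := e.1) (Finset.subset_univ _)] at h1
  have h2 : ∑ i, e.1 i = m := by
    have := e.2
    rw [Finsupp.degree_eq_sum] at this
    exact this
  rw [h2] at h1
  rw [← h1, Nat.cast_mul, h0, mul_zero]

theorem s18262_main (n m : ℕ)
    (hm : (Nat.factorial m : k) ≠ 0) (p : Fin m → Fin (n + 1) → k) (hp : ∀ i, p i ≠ 0)
    (a : FormIdx (n + 1) m → k)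
    (ha : formPoly a = ∏ i, ∑ j, MvPolynomial.C (p i j) * MvPolynomial.X j)
    (hst : GLin.IsStableVec k (SLn (n + 1) k) a)
    (W : Submodule k (Fin (n + 1) → k)) (hW : W ≠ ⊥) (hW' : W ≠ ⊤) :
    Nat.card {i : Fin m // p i ∈ W} * (n + 1) < m * Module.finrank k W := by
  classical
  by_contra hcon
  rw [not_lt] at hcon
  set w := Module.finrank k W with hw
  have hw0 : 0 < w := by
    rw [hw, Module.finrank_pos_iff]
    exact Submodule.nontrivial_iff_ne_bot.mpr hW
  have hwN : w < n + 1 := by
    have := Submodule.finrank_lt hW'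
    rw [Module.finrank_fin_fun] at this
    exact this
  obtain ⟨U, hU, hUW⟩ := exists_adapted W
  set M := U.transpose with hM
  have hMdet : M.det = 1 := by rw [hM, Matrix.det_transpose, hU]
  set r : Fin (n + 1) → ℤ := fun j => if (j : ℕ) < w then (((n + 1 : ℕ) : ℤ) - w) else -(w : ℤ)
    with hr
  have hrsum : ∑ j, r j = 0 := sum_weights (n + 1) w hwN.le
  have hr0 : 0 < r 0 := by
    simp only [hr, Fin.val_zero, hw0, if_true]
    have : (w : ℤ) < ((n + 1 : ℕ) : ℤ) := by exact_mod_cast hwN
    linarith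
  refine not_st_of_weights a M hMdet r hrsum 0 hr0 ?_ hst
  intro e he
  -- the form of the transform
  have hform : formPoly (actV k M a) = ∏ i, Lf (U.mulVec (p i)) := by
    rw [formPoly_actV, ha, map_prod]
    refine Finset.prod_congr rfl fun i _ => ?_
    have := sigma_Lf M (p i)
    rw [hM, Matrix.transpose_transpose] at this
    exact this
  set s : Fin m → ℤ := fun i => if p i ∈ W then (((n + 1 : ℕ) : ℤ) - w) else -(w : ℤ) with hs
  have hwt : WtGE r (∏ i, Lf (U.mulVec (p i))) (∑ i, s i) := by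
    apply wtGE_prod
    intro i _
    apply wtGE_Lf
    intro j hj
    by_cases hpi : p i ∈ W
    · simp only [hs, hpi, if_true]
      have hjw : (j : ℕ) < w := by
        by_contra hjw
        rw [not_lt] at hjw
        exact hj (hUW (p i) hpi j (by omega) hjw)
      simp only [hr, hjw, if_true, le_refl]
    · simp only [hs, hpi, if_false]
      simp only [hr]
      split_ifs
      · have : (w : ℤ) < ((n + 1 : ℕ) : ℤ) := by exact_mod_cast hwN
        linarith
      · exact le_refl _
  have hsum : ∑ i, s i =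
      (Nat.card {i : Fin m // p i ∈ W} : ℤ) * ((n + 1 : ℕ) : ℤ) - (m : ℤ) * (w : ℤ) := by
    have h1 : ∀ i, s i = (if p i ∈ W then (((n + 1 : ℕ) : ℤ)) else 0) - w := by
      intro i; simp only [hs]; split_ifs <;> ring
    simp_rw [h1]
    rw [Finset.sum_sub_distrib, Finset.sum_const, Finset.card_univ, Fintype.card_fin,
      ← Finset.sum_filter, Finset.sum_const, Nat.card_eq_fintype_card, Fintype.card_subtype]
    simp only [nsmul_eq_mul]
  have hcoef : MvPolynomial.coeff e.1 (formPoly (actV k M a)) ≠ 0 := by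
    rw [coeff_formPoly]
    exact mul_ne_zero (multinomial_ne_zero' k hm e) he
  rw [hform] at hcoef
  have h3 := hwt e.1 (MvPolynomial.mem_support_iff.mpr hcoef)
  rw [hsum] at h3
  have h4 : (0 : ℤ) ≤ (Nat.card {i : Fin m // p i ∈ W} : ℤ) * ((n + 1 : ℕ) : ℤ) - (m : ℤ) * (w : ℤ) := by
    have : ((m * w : ℕ) : ℤ) ≤ ((Nat.card {i : Fin m // p i ∈ W} * (n + 1) : ℕ) : ℤ) := by
      exact_mod_cast hcon
    push_cast at this ⊢
    linarith
  linarith

theorem s18263_main (n m : ℕ) (hn : 1 ≤ n) (hmn : m ≤ n)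
    (hm : (Nat.factorial m : k) ≠ 0) (p : Fin m → Fin (n + 1) → k) (hp : ∀ i, p i ≠ 0)
    (a : FormIdx (n + 1) m → k)
    (ha : formPoly a = ∏ i, ∑ j, MvPolynomial.C (p i j) * MvPolynomial.X j) :
    ¬ GLin.IsStableVec k (SLn (n + 1) k) a := by
  classical
  intro hst
  rcases Nat.eq_zero_or_pos m with hm0 | hmpos
  · subst hm0
    -- degree zero: every one-parameter subgroup has weight zero
    set r : Fin (n + 1) → ℤ := fun j => if (j : ℕ) < 1 then (((n + 1 : ℕ) : ℤ) - 1) else -(1 : ℤ)
      with hr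
    have hrsum : ∑ j, r j = 0 := by
      have := sum_weights (n + 1) 1 (by omega)
      simpa [hr] using this
    have hr0 : 0 < r 0 := by
      simp only [hr, Fin.val_zero, Nat.lt_one_iff, if_true]
      have : (1 : ℤ) ≤ (n : ℤ) := by exact_mod_cast hn
      push_cast; linarith
    refine not_st_of_weights a 1 Matrix.det_one r hrsum 0 hr0 ?_ hst
    intro e _
    have he0 : e.1 = 0 := by
      have := e.2
      rwa [Finsupp.degree_eq_zero_iff] at this
    rw [he0]; simp [wt]
  · set W := Submodule.span k (Set.range p) with hW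
    have hWbot : W ≠ ⊥ := by
      intro h
      have h1 : p ⟨0, hmpos⟩ ∈ W := Submodule.subset_span ⟨_, rfl⟩
      rw [h, Submodule.mem_bot] at h1
      exact hp _ h1
    have hfr : Module.finrank k W ≤ m := by
      have := finrank_range_le_card (R := k) p
      rw [Fintype.card_fin] at this
      exact this
    have hWtop : W ≠ ⊤ := by
      intro h
      rw [h, finrank_top, Module.finrank_fin_fun] at hfr
      omega
    have h1 := s18262_main k n m hm p hp a ha hst W hWbot hWtop
    have hcard : Nat.card {i : Fin m // p i ∈ W} = m := by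
      rw [Nat.card_eq_fintype_card, Fintype.card_subtype]
      have hall : ∀ i ∈ (Finset.univ : Finset (Fin m)), p i ∈ W :=
        fun i _ => Submodule.subset_span (Set.mem_range_self i)
      rw [Finset.filter_true_of_mem hall, Finset.card_univ, Fintype.card_fin]
    rw [hcard] at h1
    have h2 : m * Module.finrank k W ≤ m * m := Nat.mul_le_mul_left m hfr
    have h3 : m * m ≤ m * (n + 1) := Nat.mul_le_mul_left m (by omega)
    omega

end Main

section Final

theorem s18262 (k : Type u) [Field k] [IsAlgClosed k] (n m : ℕ)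
    (hm : (Nat.factorial m : k) ≠ 0) (p : Fin m → Fin (n + 1) → k) (hp : ∀ i, p i ≠ 0)
    (a : CoordGrp.FormIdx (n + 1) m → k)
    (ha : CoordGrp.formPoly a = ∏ i, ∑ j, MvPolynomial.C (p i j) * MvPolynomial.X j)
    (hst : @GLin.IsStableVec k _ (CoordGrp.SLn (n + 1) k) _ _ (CoordGrp.FormIdx (n + 1) m)
      (GLin.comodAlong ((CoordGrp.SLn.mkHom (n + 1) k).comp (CoordGrp.Mat.toGLn (n + 1) k)) (CoordGrp.formsCoact k (n + 1) m))
      (GLin.isCoactAlg_comodAlong ((CoordGrp.SLn.mkHom (n + 1) k).comp (CoordGrp.Mat.toGLn (n + 1) k)) (CoordGrp.formsCoact k (n + 1) m) (CoordGrp.formsCoact_isCoactAlg k (n + 1) m)) a)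
    (W : Submodule k (Fin (n + 1) → k)) (hW : W ≠ ⊥) (hW' : W ≠ ⊤) :
    Nat.card {i : Fin m // p i ∈ W} * (n + 1) < m * Module.finrank k W :=
  s18262_main k n m hm p hp a ha hst W hW hW'

theorem s18263 (k : Type u) [Field k] [IsAlgClosed k] (n m : ℕ) (hn : 1 ≤ n) (hmn : m ≤ n)
    (hm : (Nat.factorial m : k) ≠ 0) (p : Fin m → Fin (n + 1) → k) (hp : ∀ i, p i ≠ 0)
    (a : CoordGrp.FormIdx (n + 1) m → k)
    (ha : CoordGrp.formPoly a = ∏ i, ∑ j, MvPolynomial.C (p i j) * MvPolynomial.X j) :
    ¬ @GLin.IsStableVec k _ (CoordGrp.SLn (n + 1) k) _ _ (CoordGrp.FormIdx (n + 1) m)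
      (GLin.comodAlong ((CoordGrp.SLn.mkHom (n + 1) k).comp (CoordGrp.Mat.toGLn (n + 1) k)) (CoordGrp.formsCoact k (n + 1) m))
      (GLin.isCoactAlg_comodAlong ((CoordGrp.SLn.mkHom (n + 1) k).comp (CoordGrp.Mat.toGLn (n + 1) k)) (CoordGrp.formsCoact k (n + 1) m) (CoordGrp.formsCoact_isCoactAlg k (n + 1) m)) a :=
  s18263_main k n m hn hmn hm p hp a ha

end Final

end Groth.Agent.H9.BinF
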