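import Mathlib
import Groth.Prelude.Def_CartDual
import Groth.Agent.Lib.Helper9.FinHopf.EtaleOrder
import Groth.Agent.Lib.Helper9.FinHopf.EtaleDualLocal

/-!
# Étale–étale finite commutative group schemes have order prime to `p` (helper9)
-/

set_option autoImplicit false
set_option linter.unusedSectionVars false
set_option linter.unusedVariables false
set_option linter.style.haveILetI false

universe u

open TensorProduct WithConv

namespace Groth.Agent.H9.CartEt

variable (k : Type u) [Field k] (p : ℕ) [hp : Fact p.Prime] [CharP k p]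
    (A : Type u) [CommRing A] [HopfAlgebra k A] [Coalgebra.IsCocomm k A] [FiniteDimensional k A]

theorem etale_of_not_dvd (h : ¬ p ∣ Module.finrank k A) : Algebra.Etale k A := by
  apply Groth.Agent.H9.FinHopf.etale_of_finrank_ne_zero
  intro h0
  exact h ((CharP.cast_eq_zero_iff k p _).mp h0)

theorem etale_dual_of_not_dvd (h : ¬ p ∣ Module.finrank k A) :
    Algebra.Etale k (CartDual.D k A) := by
  have h1 : Module.finrank k (CartDual.D k A) = Module.finrank k A := by
    rw [LinearEquiv.finrank_eq (CartDual.toDual k A), Subspace.dual_finrank_eq]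
  apply Groth.Agent.H9.FinHopf.etale_of_finrank_ne_zero
  rw [h1]
  intro h0
  exact h ((CharP.cast_eq_zero_iff k p _).mp h0)

theorem not_dvd_of_etale [Algebra.Etale k A] [Algebra.Etale k (CartDual.D k A)] :
    ¬ p ∣ Module.finrank k A := by
  classical
  intro hdvd
  let K := AlgebraicClosure k
  let 𝒟 := WithConv (A →ₗ[k] K)
  let β : CartDual.D k A → 𝒟 := fun φ =>
    toConv ((Algebra.ofId k K).toLinearMap ∘ₗ φ.ofConv)
  have hβmul : ∀ φ ψ : CartDual.D k A, β (φ * ψ) = β φ * β ψ := by
    intro φ ψ
    apply WithConv.ofConv_injective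
    exact LinearMap.algHom_comp_convMul_distrib (Algebra.ofId k K) φ ψ
  have hβone : β 1 = 1 := by
    apply WithConv.ofConv_injective
    apply LinearMap.ext
    intro a
    show algebraMap k K (algebraMap k k (CoalgebraStruct.counit (R := k) a)) =
      algebraMap k K (CoalgebraStruct.counit (R := k) a)
    rfl
  let θ : CartDual.D k A →ₐ[k] 𝒟 :=
    { toFun := β
      map_one' := hβone
      map_mul' := hβmul
      map_zero' := by
        apply WithConv.ofConv_injective
        apply LinearMap.ext
        intro a
        show algebraMap k K ((0 : CartDual.D k A).ofConv a) = 0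
        exact map_zero _
      map_add' := fun φ ψ => by
        apply WithConv.ofConv_injective
        apply LinearMap.ext
        intro a
        show algebraMap k K (φ.ofConv a + ψ.ofConv a) =
          algebraMap k K (φ.ofConv a) + algebraMap k K (ψ.ofConv a)
        exact map_add _ _ _
      commutes' := fun r => by
        apply WithConv.ofConv_injective
        apply LinearMap.ext
        intro a
        have h1 : (algebraMap k (CartDual.D k A) r).ofConv a =
            r * CoalgebraStruct.counit (R := k) a := rfl
        have h2 : (algebraMap k 𝒟 r).ofConv a =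
            r • algebraMap k K (CoalgebraStruct.counit (R := k) a) := rfl
        show algebraMap k K ((algebraMap k (CartDual.D k A) r).ofConv a) =
          (algebraMap k 𝒟 r).ofConv a
        rw [h1, h2, map_mul, Algebra.smul_def] }
  have hθ : ∀ (φ : CartDual.D k A) (a : A), (θ φ).ofConv a = algebraMap k K (φ.ofConv a) :=
    fun _ _ => rfl
  haveI : IsScalarTower k K 𝒟 := IsScalarTower.of_algebraMap_eq (fun r => by
    apply WithConv.ofConv_injective
    apply LinearMap.ext
    intro a
    have h1 : (algebraMap K 𝒟 (algebraMap k K r)).ofConv a =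
        (algebraMap k K r) • algebraMap k K (CoalgebraStruct.counit (R := k) a) := rfl
    have h2 : (algebraMap k 𝒟 r).ofConv a =
        r • algebraMap k K (CoalgebraStruct.counit (R := k) a) := rfl
    rw [h1, h2, Algebra.smul_def, smul_eq_mul])
  let Θ : K ⊗[k] CartDual.D k A →ₐ[K] 𝒟 :=
    Algebra.TensorProduct.lift (Algebra.ofId K 𝒟) θ (fun _ _ => Commute.all _ _)
  have hΘ : Function.Surjective Θ := by
    intro f
    let b := Module.finBasis k A
    refine ⟨∑ i, (f.ofConv (b i)) ⊗ₜ[k] (toConv (b.coord i) : CartDual.D k A), ?_⟩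
    rw [map_sum]
    apply WithConv.ofConv_injective
    apply LinearMap.ext
    intro a
    let evA : 𝒟 →+ K :=
      { toFun := fun g => g.ofConv a, map_zero' := rfl, map_add' := fun _ _ => rfl }
    show evA (∑ i, Θ ((f.ofConv (b i)) ⊗ₜ[k] (toConv (b.coord i) : CartDual.D k A))) = f.ofConv a
    rw [map_sum]
    conv_rhs => rw [← b.sum_repr a, map_sum]
    apply Finset.sum_congr rfl
    intro i _
    rw [map_smul]
    have h3 : Θ ((f.ofConv (b i)) ⊗ₜ[k] (toConv (b.coord i) : CartDual.D k A)) =
        f.ofConv (b i) • θ (toConv (b.coord i)) := by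
      simp only [Θ, Algebra.TensorProduct.lift_tmul, Algebra.ofId_apply, Algebra.smul_def]
    rw [h3]
    show f.ofConv (b i) * algebraMap k K (b.coord i a) = b.repr a i • f.ofConv (b i)
    rw [Module.Basis.coord_apply, Algebra.smul_def, mul_comm]
  haveI hunr : Algebra.FormallyUnramified K 𝒟 := Algebra.FormallyUnramified.of_surjective (R := K) (A := K ⊗[k] CartDual.D k A) (B := 𝒟) Θ hΘ
  haveI hfinD : Module.Finite K 𝒟 := Module.Finite.of_surjective Θ.toLinearMap hΘ
  have hred : IsReduced 𝒟 := Algebra.FormallyUnramified.isReduced_of_field K 𝒟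
  -- the group of geometric points
  letI : Group (WithConv (A →ₐ[k] K)) := FinHopf.pointsGroup k A K
  have hcard : Nat.card (WithConv (A →ₐ[k] K)) = Module.finrank k A := by
    rw [← FinHopf.card_algHom_of_etale k A K]
    exact Nat.card_congr (WithConv.equiv _)
  have hntA : Nontrivial A := by
    refine ⟨⟨0, 1, fun h01 => ?_⟩⟩
    have := congrArg (CoalgebraStruct.counit (R := k) (A := A)) h01
    simp at this
  haveI hfin : Finite (WithConv (A →ₐ[k] K)) := Nat.finite_of_card_ne_zero (by
    rw [hcard]; exact (Module.finrank_pos (R := k) (M := A)).ne')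
  obtain ⟨g, hg⟩ := exists_prime_orderOf_dvd_card' (G := WithConv (A →ₐ[k] K)) p
    (by rw [hcard]; exact hdvd)
  have hgp : g ^ p = 1 := by rw [← hg]; exact pow_orderOf_eq_one g
  have hg1 : g ≠ 1 := by
    intro h1
    rw [h1, orderOf_one] at hg
    exact hp.out.one_lt.ne hg
  let x : 𝒟 := toConv g.ofConv.toLinearMap
  have hxp : x ^ p = 1 := by
    have h2 := congrArg (fun u : WithConv (A →ₐ[k] K) => toConv u.ofConv.toLinearMap) hgp
    simp only [AlgHom.toLinearMap_convPow, AlgHom.toLinearMap_convOne] at h2
    exact h2
  have hcharK : CharP K p := charP_of_injective_algebraMap (algebraMap k K).injective p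
  have hntD : Nontrivial 𝒟 := by
    refine ⟨⟨0, 1, fun h01 => ?_⟩⟩
    have := congrArg (fun g : 𝒟 => g.ofConv 1) h01
    simp at this
  have hcharD : CharP 𝒟 p :=
    charP_of_injective_algebraMap (algebraMap K 𝒟).injective p
  have hnil : (x - 1) ^ p = 0 := by rw [sub_pow_char x 1, hxp, one_pow, sub_self]
  have hx1 : x - 1 = 0 := IsReduced.eq_zero _ ⟨p, hnil⟩
  have hx : x = 1 := sub_eq_zero.mp hx1
  apply hg1
  apply WithConv.ofConv_injective
  apply AlgHom.toLinearMap_injective
  apply WithConv.toConv_injective
  rw [AlgHom.toLinearMap_convOne]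
  exact hx

theorem main :
    (Algebra.Etale k A ∧ Algebra.Etale k (CartDual.D k A)) ↔ ¬ p ∣ Module.finrank k A := by
  constructor
  · rintro ⟨h1, h2⟩
    exact not_dvd_of_etale k p A
  · intro h
    exact ⟨etale_of_not_dvd k p A h, etale_dual_of_not_dvd k p A h⟩

end Groth.Agent.H9.CartEt
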