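import Mathlib
import Groth.Agent.Lib.Helper9.Misc.CubicFormK

/-! Helper9: lines on cubic surfaces, helpers. -/

set_option autoImplicit false
set_option linter.unusedSectionVars false

namespace Groth.Agent.H9.CubicLines

open MvPolynomial Groth.Agent.H9.CubicFormK

universe u

variable {K : Type u} [Field K] [CharZero K]

/-- counting lemma -/
theorem encard_le_of_no_inj {α : Type*} (S : Set α) (n : ℕ)
    (h : ∀ g : Fin (n + 1) → α, (∀ i, g i ∈ S) → Function.Injective g → False) :
    S.encard ≤ n := by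
  by_contra hcon
  rw [not_le] at hcon
  have h1 : ((n + 1 : ℕ) : ℕ∞) ≤ S.encard := by
    have := Order.add_one_le_of_lt hcon
    simpa using this
  obtain ⟨t, hts, htc⟩ := Set.exists_subset_encard_eq h1
  have htf : t.Finite := Set.finite_of_encard_eq_coe htc
  have hcard : htf.toFinset.card = n + 1 := by
    have := htf.encard_eq_coe_toFinset_card
    rw [htc] at this
    exact_mod_cast this.symm
  let e := Finset.equivFinOfCardEq hcard
  refine h (fun i => (e.symm i).1) (fun i => hts ?_) ?_
  · exact htf.mem_toFinset.mp (e.symm i).2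
  · intro i j hij
    have : e.symm i = e.symm j := Subtype.ext hij
    exact e.symm.injective this

section helpers

variable {n : ℕ}

theorem sup_span_finrank (W : Submodule K (Fin n → K)) {u : Fin n → K} (hu : u ∉ W) :
    Module.finrank K ↥(W ⊔ Submodule.span K {u}) = Module.finrank K ↥W + 1 := by
  have hu0 : u ≠ 0 := by
    rintro rfl
    exact hu W.zero_mem
  have hdisj : W ⊓ Submodule.span K {u} = ⊥ := by
    rw [Submodule.eq_bot_iff]
    rintro x ⟨hx1, hx2⟩
    obtain ⟨t, rfl⟩ := Submodule.mem_span_singleton.1 hx2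
    by_cases ht : t = 0
    · simp [ht]
    · exfalso
      apply hu
      have := W.smul_mem t⁻¹ hx1
      rwa [smul_smul, inv_mul_cancel₀ ht, one_smul] at this
  have := Submodule.finrank_sup_add_finrank_inf_eq W (Submodule.span K {u})
  rw [hdisj, finrank_bot, finrank_span_singleton hu0] at this
  omega

theorem exists_not_mem_span {U : Submodule K (Fin n → K)} (hU : Module.finrank K ↥U = 2)
    (e : Fin n → K) : ∃ u ∈ U, u ∉ Submodule.span K {e} := by
  by_contra hcon
  push Not at hcon
  have hle : U ≤ Submodule.span K {e} := hcon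
  have h1 := Submodule.finrank_mono hle
  have h2 : Module.finrank K ↥(Submodule.span K {e}) ≤ 1 := by
    by_cases he : e = 0
    · subst he
      rw [Submodule.span_zero_singleton, finrank_bot]
      omega
    · rw [finrank_span_singleton he]
  omega

theorem mem_span_pair_of_finrank_two {U : Submodule K (Fin n → K)}
    (hU : Module.finrank K ↥U = 2)
    {e w : Fin n → K} (heU : e ∈ U) (hwU : w ∈ U) (he : e ≠ 0) (hw : w ∉ Submodule.span K {e})
    {x : Fin n → K} (hx : x ∈ U) : ∃ a b : K, x = a • e + b • w := by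
  have hle : Submodule.span K {e} ⊔ Submodule.span K {w} ≤ U := by
    apply sup_le
    · rw [Submodule.span_le]; simpa using heU
    · rw [Submodule.span_le]; simpa using hwU
  have hfr := sup_span_finrank (Submodule.span K {e}) hw
  rw [finrank_span_singleton he] at hfr
  have heq := Submodule.eq_of_le_of_finrank_eq hle (by rw [hfr, hU])
  rw [← heq] at hx
  obtain ⟨y, hy, z, hz, rfl⟩ := Submodule.mem_sup.1 hx
  obtain ⟨a, rfl⟩ := Submodule.mem_span_singleton.1 hy
  obtain ⟨b, rfl⟩ := Submodule.mem_span_singleton.1 hz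
  exact ⟨a, b, rfl⟩

theorem finrank_span_pair {e w : Fin n → K} (he : e ≠ 0) (hw : w ∉ Submodule.span K {e}) :
    Module.finrank K ↥(Submodule.span K {e, w}) = 2 := by
  have h : Submodule.span K {e, w} = Submodule.span K {e} ⊔ Submodule.span K {w} := by
    rw [← Submodule.span_union]
    rfl
  rw [h, sup_span_finrank _ hw, finrank_span_singleton he]

/-- the linear functional `T f u v ·` -/
noncomputable def Tlin (f : MvPolynomial (Fin n) K) (u v : Fin n → K) : (Fin n → K) →ₗ[K] K where
  toFun := T f u v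
  map_add' := T_add_right f u v
  map_smul' := fun a w => by simp [T_smul_right]

@[simp] theorem Tlin_apply (f : MvPolynomial (Fin n) K) (u v w : Fin n → K) :
    Tlin f u v w = T f u v w := rfl

theorem finrank_ker_of_ne_zero (φ : (Fin n → K) →ₗ[K] K) {z : Fin n → K} (hz : φ z ≠ 0) :
    Module.finrank K ↥(LinearMap.ker φ) + 1 = n := by
  have hsurj : Function.Surjective φ := by
    intro c
    refine ⟨(c / φ z) • z, ?_⟩
    rw [map_smul, smul_eq_mul, div_mul_cancel₀ _ hz]
  have h1 := LinearMap.finrank_range_add_finrank_ker φ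
  rw [LinearMap.range_eq_top.2 hsurj, finrank_top] at h1
  simp at h1
  omega

/-- along a line through `e` on the surface -/
theorem line_T {f : MvPolynomial (Fin n) K} (hf : f.IsHomogeneous 3) {e : Fin n → K}
    {U : Submodule K (Fin n → K)} (heU : e ∈ U) (hU : ∀ u ∈ U, eval u f = 0) {u : Fin n → K}
    (hu : u ∈ U) :
    T f e e u = 0 ∧ T f e u u = 0 ∧ T f u u u = 0 := by
  have h1 := hU (e + (1 : K) • u) (U.add_mem heU (U.smul_mem _ hu))
  have h2 := hU (e + (-1 : K) • u) (U.add_mem heU (U.smul_mem _ hu))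
  rw [eval_add_smul hf, hU e heU, hU u hu] at h1 h2
  refine ⟨?_, ?_, ?_⟩
  · linear_combination (1 / 6 : K) * h1 - (1 / 6 : K) * h2
  · linear_combination (1 / 6 : K) * h1 + (1 / 6 : K) * h2
  · rw [← eval_eq_T hf]; exact hU u hu

/-- expansion of the quadratic form `T v x x`. -/
theorem expandq (f : MvPolynomial (Fin n) K) (v a b c : Fin n → K) (x y z : K) :
    T f v (x • a + y • b + z • c) (x • a + y • b + z • c) =
      x ^ 2 * T f v a a + y ^ 2 * T f v b b + z ^ 2 * T f v c c +
      2 * x * y * T f v a b + 2 * x * z * T f v a c + 2 * y * z * T f v b c := by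
  simp only [T_add_mid, T_add_right, T_smul_mid, T_smul_right]
  rw [T_symm23 f v b a, T_symm23 f v c a, T_symm23 f v c b]
  ring

/-- polarization: the trilinear form vanishes on a subspace where the cubic vanishes. -/
theorem polar_zero {f : MvPolynomial (Fin n) K} (hf : f.IsHomogeneous 3)
    (H : Submodule K (Fin n → K)) (hH : ∀ x ∈ H, eval x f = 0) {x y z : Fin n → K}
    (hx : x ∈ H) (hy : y ∈ H) (hz : z ∈ H) : T f x y z = 0 := by
  have h1 := hH _ (H.add_mem (H.add_mem (H.smul_mem 1 hx) (H.smul_mem 1 hy)) (H.smul_mem 1 hz))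
  have h2 := hH _ (H.add_mem (H.add_mem (H.smul_mem 1 hx) (H.smul_mem 1 hy)) (H.smul_mem (-1) hz))
  have h3 := hH _ (H.add_mem (H.add_mem (H.smul_mem 1 hx) (H.smul_mem (-1) hy)) (H.smul_mem 1 hz))
  have h4 := hH _ (H.add_mem (H.add_mem (H.smul_mem 1 hx) (H.smul_mem (-1) hy))
    (H.smul_mem (-1) hz))
  rw [expand3 hf] at h1 h2 h3 h4
  linear_combination (1 / 24 : K) * h1 - (1 / 24 : K) * h2 - (1 / 24 : K) * h3 + (1 / 24 : K) * h4

theorem exists_not_mem_span' {U : Submodule K (Fin n → K)} (hU : 2 ≤ Module.finrank K ↥U)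
    (e : Fin n → K) : ∃ u ∈ U, u ∉ Submodule.span K {e} := by
  by_contra hcon
  push Not at hcon
  have hle : U ≤ Submodule.span K {e} := hcon
  have h1 := Submodule.finrank_mono hle
  have h2 : Module.finrank K ↥(Submodule.span K {e}) ≤ 1 := by
    by_cases he : e = 0
    · subst he
      rw [Submodule.span_zero_singleton, finrank_bot]
      omega
    · rw [finrank_span_singleton he]
  omega

end helpers

/-- a smooth cubic surface contains no plane -/
theorem no_plane [IsAlgClosed K] {f : MvPolynomial (Fin 4) K} (hf : f.IsHomogeneous 3)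
    (hsm : ∀ v : Fin 4 → K, v ≠ 0 → eval v f = 0 → ∃ i, eval v (pderiv i f) ≠ 0)
    (H : Submodule K (Fin 4 → K)) (hH3 : Module.finrank K ↥H = 3)
    (hH : ∀ x ∈ H, eval x f = 0) : False := by
  obtain ⟨z, hz⟩ : ∃ z, z ∉ H := by
    by_contra h
    push Not at h
    have : H = ⊤ := eq_top_iff.mpr (fun x _ => h x)
    rw [this, finrank_top, Module.finrank_fin_fun] at hH3
    omega
  have htop : H ⊔ Submodule.span K {z} = ⊤ := by
    apply Submodule.eq_top_of_finrank_eq
    rw [sup_span_finrank H hz, hH3, Module.finrank_fin_fun]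
  obtain ⟨h1, hh1, hh1ne⟩ : ∃ h1 ∈ H, h1 ≠ 0 := by
    obtain ⟨u, hu, hu'⟩ := exists_not_mem_span' (U := H) (by omega) 0
    refine ⟨u, hu, ?_⟩
    rintro rfl
    exact hu' (Submodule.zero_mem _)
  obtain ⟨h2, hh2, hh2ne⟩ := exists_not_mem_span' (U := H) (by omega) h1
  -- find p
  obtain ⟨p, hpH, hp0, hpz⟩ : ∃ p ∈ H, p ≠ 0 ∧ T f p p z = 0 := by
    by_cases ha : T f h2 h2 z = 0
    · refine ⟨h2, hh2, ?_, ha⟩
      rintro rfl
      exact hh2ne (Submodule.zero_mem _)
    · obtain ⟨s, hs⟩ := IsAlgClosed.exists_eq_mul_self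
        (discrim (T f h2 h2 z) (2 * T f h1 h2 z) (T f h1 h1 z))
      obtain ⟨t, ht⟩ := exists_quadratic_eq_zero ha ⟨s, hs⟩
      refine ⟨h1 + t • h2, H.add_mem hh1 (H.smul_mem _ hh2), ?_, ?_⟩
      · intro h0
        by_cases ht0 : t = 0
        · rw [ht0, zero_smul, add_zero] at h0
          exact hh1ne h0
        · apply hh2ne
          have : h2 = (-t⁻¹) • h1 := by
            have h3 : t • h2 = -h1 := by
              rw [← sub_eq_zero, sub_neg_eq_add, add_comm]; exact h0
            rw [neg_smul, ← smul_neg, ← h3, smul_smul, inv_mul_cancel₀ ht0, one_smul]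
          rw [this]
          exact Submodule.smul_mem _ _ (Submodule.mem_span_singleton_self h1)
      · simp only [T_add_left, T_add_mid, T_smul_left, T_smul_mid]
        rw [T_symm12 f h2 h1 z]
        linear_combination ht
  -- all partial derivatives vanish at p
  have hall : ∀ w : Fin 4 → K, T f p p w = 0 := by
    intro w
    have hw : w ∈ H ⊔ Submodule.span K {z} := by rw [htop]; trivial
    obtain ⟨h, hh, y, hy, rfl⟩ := Submodule.mem_sup.1 hw
    obtain ⟨μ, rfl⟩ := Submodule.mem_span_singleton.1 hy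
    rw [T_add_right, T_smul_right, hpz, mul_zero, add_zero]
    exact polar_zero hf H hH hpH hpH hh
  obtain ⟨i, hi⟩ := hsm p hp0 (hH p hpH)
  apply hi
  rw [eval_pderiv_eq_T hf, hall, mul_zero]

end Groth.Agent.H9.CubicLines
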