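import Mathlib
import Groth.Agent.Lib.Helper9.Misc.CubicTriC

/-! Helper9: finite point sets in `P³` with the Cayley–Bacharach property. -/

set_option autoImplicit false
set_option linter.unusedSectionVars false
set_option linter.unusedVariables false

namespace Groth.Agent.H9.CayBach

open MvPolynomial Groth.Agent.H9.CubicLines Groth.Agent.H9.CubicTri Module

universe u

variable {k : Type u} [Field k] [CharZero k]

open Classical in
/-- points off the hyperplane `φ = 0` -/
noncomputable def off (φ : (Fin 4 → k) →ₗ[k] k) (Z : Finset (Projectivization k (Fin 4 → k))) :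
    Finset (Projectivization k (Fin 4 → k)) := Z.filter (fun z => φ z.rep ≠ 0)

open Classical in
/-- points on the subspace `W` -/
noncomputable def onS (W : Submodule k (Fin 4 → k)) (Z : Finset (Projectivization k (Fin 4 → k))) :
    Finset (Projectivization k (Fin 4 → k)) := Z.filter (fun z => z.rep ∈ W)

theorem mem_off {φ : (Fin 4 → k) →ₗ[k] k} {Z : Finset (Projectivization k (Fin 4 → k))}
    {z : Projectivization k (Fin 4 → k)} : z ∈ off φ Z ↔ z ∈ Z ∧ φ z.rep ≠ 0 := by
  classical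
  rw [off, Finset.mem_filter]

theorem mem_onS {W : Submodule k (Fin 4 → k)} {Z : Finset (Projectivization k (Fin 4 → k))}
    {z : Projectivization k (Fin 4 → k)} : z ∈ onS W Z ↔ z ∈ Z ∧ z.rep ∈ W := by
  classical
  rw [onS, Finset.mem_filter]

/-- the Cayley–Bacharach property in degree `n` -/
def CB (n : ℕ) (Z : Finset (Projectivization k (Fin 4 → k))) : Prop :=
  ∀ z ∈ Z, ∀ p : MvPolynomial (Fin 4) k, p.IsHomogeneous n →
    (∀ z' ∈ Z, z' ≠ z → MvPolynomial.eval z'.rep p = 0) → MvPolynomial.eval z.rep p = 0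

/-- coplanar point sets -/
def Cop (Z : Finset (Projectivization k (Fin 4 → k))) : Prop :=
  ∃ φ : (Fin 4 → k) →ₗ[k] k, φ ≠ 0 ∧ ∀ z ∈ Z, φ z.rep = 0

/-- collinear point sets -/
def Col (Z : Finset (Projectivization k (Fin 4 → k))) : Prop :=
  ∃ W : Submodule k (Fin 4 → k), finrank k ↥W = 2 ∧ ∀ z ∈ Z, z.rep ∈ W

theorem eq_of_rep_mem {z z' : Projectivization k (Fin 4 → k)}
    (h : z'.rep ∈ Submodule.span k {z.rep}) : z' = z := by
  apply Projectivization.submodule_injective
  rw [Projectivization.submodule_eq, Projectivization.submodule_eq]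
  apply Submodule.eq_of_le_of_finrank_eq
  · rw [Submodule.span_le, Set.singleton_subset_iff]
    exact h
  · rw [finrank_span_singleton z'.rep_nonzero, finrank_span_singleton z.rep_nonzero]

theorem lt_top_of_finrank (S : Submodule k (Fin 4 → k)) (hS : finrank k ↥S ≤ 3) : S < ⊤ := by
  rw [lt_top_iff_ne_top]
  intro h
  rw [h, finrank_top, Module.finrank_fin_fun] at hS
  omega

theorem cop_of_le {Z : Finset (Projectivization k (Fin 4 → k))} (S : Submodule k (Fin 4 → k))
    (hS : finrank k ↥S ≤ 3) (hZ : ∀ z ∈ Z, z.rep ∈ S) : Cop Z := by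
  obtain ⟨φ, hφ, hle⟩ := S.exists_le_ker_of_lt_top (lt_top_of_finrank S hS)
  exact ⟨φ, hφ, fun z hz => LinearMap.mem_ker.mp (hle (hZ z hz))⟩

theorem cop_of_off_empty {Z : Finset (Projectivization k (Fin 4 → k))}
    {φ : (Fin 4 → k) →ₗ[k] k} (hφ : φ ≠ 0) (h : ¬ (off φ Z).Nonempty) : Cop Z := by
  refine ⟨φ, hφ, fun z hz => ?_⟩
  by_contra h0
  exact h ⟨z, mem_off.2 ⟨hz, h0⟩⟩

theorem cop_empty {Z : Finset (Projectivization k (Fin 4 → k))} (h : ¬ Z.Nonempty) : Cop Z :=
  cop_of_le ⊥ (by simp) (fun z hz => (h ⟨z, hz⟩).elim)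

theorem CB_off {n : ℕ} {Z : Finset (Projectivization k (Fin 4 → k))} (h : CB (n + 1) Z)
    (φ : (Fin 4 → k) →ₗ[k] k) : CB n (off φ Z) := by
  intro z hz p hp hvan
  obtain ⟨hzZ, hzφ⟩ := mem_off.1 hz
  have hp' : (p * linPoly φ).IsHomogeneous (n + 1) := hp.mul (linPoly_homog φ)
  have := h z hzZ (p * linPoly φ) hp' (fun z' hz' hne => by
    rw [map_mul, eval_linPoly]
    by_cases h0 : φ z'.rep = 0
    · rw [h0, mul_zero]
    · rw [hvan z' (mem_off.2 ⟨hz', h0⟩) hne, zero_mul])
  rw [map_mul, eval_linPoly] at this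
  exact (mul_eq_zero.mp this).resolve_right hzφ

theorem exists_ne_of_CB {n : ℕ} {Z : Finset (Projectivization k (Fin 4 → k))} (h : CB n Z)
    {z : Projectivization k (Fin 4 → k)} (hz : z ∈ Z) : ∃ z' ∈ Z, z' ≠ z := by
  by_contra hcon
  push Not at hcon
  obtain ⟨ψ, hψ, -⟩ := Submodule.exists_le_ker_of_notMem
    (p := (⊥ : Submodule k (Fin 4 → k))) (v := z.rep)
    (by rw [Submodule.mem_bot]; exact z.rep_nonzero)
  have hhom : (linPoly ψ ^ n).IsHomogeneous n := by
    have := (linPoly_homog ψ).pow n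
    rwa [one_mul] at this
  have := h z hz (linPoly ψ ^ n) hhom (fun z' hz' hne => absurd (hcon z' hz') hne)
  rw [map_pow, eval_linPoly] at this
  exact pow_ne_zero n hψ this

theorem card_ge_of_CB : ∀ (n : ℕ) (Z : Finset (Projectivization k (Fin 4 → k))),
    CB n Z → Z.Nonempty → n + 2 ≤ Z.card
  | 0, Z, h, hne => by
      classical
      obtain ⟨z, hz⟩ := hne
      obtain ⟨z', hz', hzz'⟩ := exists_ne_of_CB h hz
      have hss : ({z, z'} : Finset _) ⊆ Z := by
        intro w hw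
        rw [Finset.mem_insert, Finset.mem_singleton] at hw
        rcases hw with rfl | rfl
        · exact hz
        · exact hz'
      calc 0 + 2 = ({z, z'} : Finset _).card := (Finset.card_pair hzz'.symm).symm
        _ ≤ Z.card := Finset.card_le_card hss
  | n + 1, Z, h, hne => by
      classical
      obtain ⟨z, hz⟩ := hne
      obtain ⟨z', hz', hzz'⟩ := exists_ne_of_CB h hz
      have hnot : z'.rep ∉ Submodule.span k {z.rep} := fun hm => hzz' (eq_of_rep_mem hm)
      obtain ⟨φ, hφ, hle⟩ := Submodule.exists_le_ker_of_notMem hnot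
      have hφz : φ z.rep = 0 := LinearMap.mem_ker.mp (hle (Submodule.mem_span_singleton_self _))
      have hne' : (off φ Z).Nonempty := ⟨z', mem_off.2 ⟨hz', hφ⟩⟩
      have ih := card_ge_of_CB n (off φ Z) (CB_off h φ) hne'
      have hss : off φ Z ⊆ Z.erase z := by
        intro w hw
        obtain ⟨hwZ, hwφ⟩ := mem_off.1 hw
        rw [Finset.mem_erase]
        exact ⟨fun he => hwφ (by rw [he]; exact hφz), hwZ⟩
      have := Finset.card_le_card hss
      rw [Finset.card_erase_of_mem hz] at this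
      have hpos : 0 < Z.card := Finset.card_pos.mpr ⟨z, hz⟩
      omega

theorem col_of_CB : ∀ (n : ℕ) (Z : Finset (Projectivization k (Fin 4 → k))),
    CB n Z → Z.Nonempty → Z.card ≤ 2 * n + 1 → Col Z
  | 0, Z, h, hne, hc => by
      have := card_ge_of_CB 0 Z h hne
      omega
  | n + 1, Z, h, hne, hc => by
      classical
      have hge := card_ge_of_CB (n + 1) Z h hne
      obtain ⟨z₁, hz₁⟩ := hne
      obtain ⟨z₂, hz₂, h21⟩ := exists_ne_of_CB h hz₁
      have hnot : z₂.rep ∉ Submodule.span k {z₁.rep} := fun hm => h21 (eq_of_rep_mem hm)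
      have hW2 := finrank_span_pair z₁.rep_nonzero hnot
      by_cases hall : ∀ z ∈ Z, z.rep ∈ Submodule.span k {z₁.rep, z₂.rep}
      · exact ⟨_, hW2, hall⟩
      · push Not at hall
        obtain ⟨z₀, hz₀, hz₀W⟩ := hall
        obtain ⟨φ, hφ, hle⟩ := Submodule.exists_le_ker_of_notMem hz₀W
        have hφ1 : φ z₁.rep = 0 := LinearMap.mem_ker.mp (hle (Submodule.subset_span (by simp)))
        have hφ2 : φ z₂.rep = 0 := LinearMap.mem_ker.mp (hle (Submodule.subset_span (by simp)))
        have hCB' := CB_off h φ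
        have hne' : (off φ Z).Nonempty := ⟨z₀, mem_off.2 ⟨hz₀, hφ⟩⟩
        have hss : off φ Z ⊆ (Z.erase z₁).erase z₂ := by
          intro w hw
          obtain ⟨hwZ, hwφ⟩ := mem_off.1 hw
          rw [Finset.mem_erase, Finset.mem_erase]
          exact ⟨fun he => hwφ (by rw [he]; exact hφ2), fun he => hwφ (by rw [he]; exact hφ1), hwZ⟩
        have hcard' : (off φ Z).card + 2 ≤ Z.card := by
          have := Finset.card_le_card hss
          rw [Finset.card_erase_of_mem (Finset.mem_erase.2 ⟨h21, hz₂⟩),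
            Finset.card_erase_of_mem hz₁] at this
          omega
        obtain ⟨W', hW'2, hW'⟩ := col_of_CB n (off φ Z) hCB' hne' (by omega)
        have hge' := card_ge_of_CB n _ hCB' hne'
        by_cases hall' : ∀ z ∈ Z, z.rep ∈ W'
        · exact ⟨W', hW'2, hall'⟩
        · exfalso
          push Not at hall'
          obtain ⟨z₀', hz₀', hz₀'W⟩ := hall'
          obtain ⟨φ', hφ', hle'⟩ := Submodule.exists_le_ker_of_notMem hz₀'W
          have hCB'' := CB_off h φ'
          have hne'' : (off φ' Z).Nonempty := ⟨z₀', mem_off.2 ⟨hz₀', hφ'⟩⟩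
          have hge'' := card_ge_of_CB n _ hCB'' hne''
          have hdisj : Disjoint (off φ Z) (off φ' Z) := by
            rw [Finset.disjoint_left]
            intro w hw hw'
            exact (mem_off.1 hw').2 (LinearMap.mem_ker.mp (hle' (hW' w hw)))
          have hunion : off φ Z ∪ off φ' Z ⊆ Z := by
            intro w hw
            rcases Finset.mem_union.1 hw with hw | hw
            · exact (mem_off.1 hw).1
            · exact (mem_off.1 hw).1
          have := Finset.card_le_card hunion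
          rw [Finset.card_union_of_disjoint hdisj] at this
          omega

theorem eq_of_two_points {M₁ M₂ : Submodule k (Fin 4 → k)} (h1 : finrank k ↥M₁ = 2)
    (h2 : finrank k ↥M₂ = 2) {q₁ q₂ : Projectivization k (Fin 4 → k)} (hq : q₁ ≠ q₂)
    (h11 : q₁.rep ∈ M₁) (h12 : q₂.rep ∈ M₁) (h21 : q₁.rep ∈ M₂) (h22 : q₂.rep ∈ M₂) :
    M₁ = M₂ := by
  have hnot : q₂.rep ∉ Submodule.span k {q₁.rep} := fun hm => hq (eq_of_rep_mem hm).symm
  have hS := finrank_span_pair q₁.rep_nonzero hnot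
  have key : ∀ M : Submodule k (Fin 4 → k), finrank k ↥M = 2 → q₁.rep ∈ M → q₂.rep ∈ M →
      Submodule.span k {q₁.rep, q₂.rep} = M := by
    intro M hM ha hb
    apply Submodule.eq_of_le_of_finrank_eq
    · rw [Submodule.span_le]
      intro x hx
      rcases hx with rfl | hx
      · exact ha
      · rw [Set.mem_singleton_iff] at hx
        rw [hx]
        exact hb
    · rw [hS, hM]
  rw [← key M₁ h1 h11 h12, key M₂ h2 h21 h22]

theorem two_lines_of_line {n : ℕ} {Z : Finset (Projectivization k (Fin 4 → k))}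
    (h : CB (n + 1) Z) (hc : Z.card ≤ 3 * (n + 1) + 1) (hncop : ¬ Cop Z)
    (W : Submodule k (Fin 4 → k)) (hW2 : finrank k ↥W = 2) (hWn : n + 2 ≤ (onS W Z).card) :
    ∃ M : Submodule k (Fin 4 → k), finrank k ↥M = 2 ∧ W ⊓ M = ⊥ ∧
      ∀ z ∈ Z, z.rep ∈ W ∨ z.rep ∈ M := by
  classical
  have hsub : onS W Z ⊆ Z := fun z hz => (mem_onS.1 hz).1
  have hcard₁ : (Z \ onS W Z).card + (onS W Z).card = Z.card :=
    Finset.card_sdiff_add_card_eq_card hsub
  have hmem₁ : ∀ z, z ∈ Z \ onS W Z ↔ z ∈ Z ∧ z.rep ∉ W := by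
    intro z
    rw [Finset.mem_sdiff, mem_onS]
    constructor
    · rintro ⟨hz, hn⟩
      exact ⟨hz, fun hw => hn ⟨hz, hw⟩⟩
    · rintro ⟨hz, hn⟩
      exact ⟨hz, fun hw => hn hw.2⟩
  obtain ⟨p₁, hp₁Z, hp₁W⟩ : ∃ p₁ ∈ Z, p₁.rep ∉ W := by
    by_contra hcon
    push Not at hcon
    exact hncop (cop_of_le W (by omega) hcon)
  have hH₁3 : finrank k ↥(W ⊔ Submodule.span k {p₁.rep}) = 3 := by
    rw [sup_span_finrank W hp₁W, hW2]
  obtain ⟨φ₁, hφ₁, hle₁⟩ := (W ⊔ Submodule.span k {p₁.rep}).exists_le_ker_of_lt_top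
    (lt_top_of_finrank _ (by omega))
  have hφ₁W : ∀ w ∈ W, φ₁ w = 0 := fun w hw =>
    LinearMap.mem_ker.mp (hle₁ (Submodule.mem_sup_left hw))
  have hφ₁p₁ : φ₁ p₁.rep = 0 :=
    LinearMap.mem_ker.mp (hle₁ (Submodule.mem_sup_right (Submodule.mem_span_singleton_self _)))
  have hne' : (off φ₁ Z).Nonempty := by
    by_contra hcon
    exact hncop (cop_of_off_empty hφ₁ hcon)
  have hCB' := CB_off h φ₁
  have hge' := card_ge_of_CB n _ hCB' hne'
  have hp₁Z₁ : p₁ ∈ Z \ onS W Z := (hmem₁ p₁).2 ⟨hp₁Z, hp₁W⟩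
  have hsub' : off φ₁ Z ⊆ (Z \ onS W Z).erase p₁ := by
    intro z hz
    obtain ⟨hzZ, hzφ⟩ := mem_off.1 hz
    rw [Finset.mem_erase, hmem₁]
    exact ⟨fun he => hzφ (by rw [he]; exact hφ₁p₁), hzZ, fun hw => hzφ (hφ₁W _ hw)⟩
  have hcard' : (off φ₁ Z).card + 1 ≤ (Z \ onS W Z).card := by
    have := Finset.card_le_card hsub'
    rw [Finset.card_erase_of_mem hp₁Z₁] at this
    have hpos : 0 < (Z \ onS W Z).card := Finset.card_pos.mpr ⟨p₁, hp₁Z₁⟩
    omega
  obtain ⟨M₁, hM₁2, hM₁⟩ := col_of_CB n _ hCB' hne' (by omega)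
  obtain ⟨p₂, hp₂⟩ := hne'
  obtain ⟨hp₂Z, hp₂φ⟩ := mem_off.1 hp₂
  have hp₂H₁ : p₂.rep ∉ W ⊔ Submodule.span k {p₁.rep} := fun hm =>
    hp₂φ (LinearMap.mem_ker.mp (hle₁ hm))
  have hp₂W : p₂.rep ∉ W := fun hm => hp₂H₁ (Submodule.mem_sup_left hm)
  have hp₁H₂ : p₁.rep ∉ W ⊔ Submodule.span k {p₂.rep} := by
    intro hm
    obtain ⟨w, hw, y, hy, hwy⟩ := Submodule.mem_sup.1 hm
    obtain ⟨d, rfl⟩ := Submodule.mem_span_singleton.1 hy
    have hd : d ≠ 0 := by
      rintro rfl
      apply hp₁W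
      rw [← hwy, zero_smul, add_zero]
      exact hw
    apply hp₂H₁
    have : p₂.rep = d⁻¹ • (p₁.rep - w) := by
      rw [← hwy, add_sub_cancel_left, smul_smul, inv_mul_cancel₀ hd, one_smul]
    rw [this]
    exact Submodule.smul_mem _ _ (Submodule.sub_mem _
      (Submodule.mem_sup_right (Submodule.mem_span_singleton_self _))
      (Submodule.mem_sup_left hw))
  obtain ⟨φ₂, hφ₂p₁, hle₂⟩ := Submodule.exists_le_ker_of_notMem hp₁H₂
  have hφ₂ : φ₂ ≠ 0 := fun h0 => hφ₂p₁ (by rw [h0, LinearMap.zero_apply])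
  have hφ₂W : ∀ w ∈ W, φ₂ w = 0 := fun w hw =>
    LinearMap.mem_ker.mp (hle₂ (Submodule.mem_sup_left hw))
  have hφ₂p₂ : φ₂ p₂.rep = 0 :=
    LinearMap.mem_ker.mp (hle₂ (Submodule.mem_sup_right (Submodule.mem_span_singleton_self _)))
  have hne'' : (off φ₂ Z).Nonempty := by
    by_contra hcon
    exact hncop (cop_of_off_empty hφ₂ hcon)
  have hCB'' := CB_off h φ₂
  have hge'' := card_ge_of_CB n _ hCB'' hne''
  have hp₂Z₁ : p₂ ∈ Z \ onS W Z := (hmem₁ p₂).2 ⟨hp₂Z, hp₂W⟩
  have hsub'' : off φ₂ Z ⊆ (Z \ onS W Z).erase p₂ := by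
    intro z hz
    obtain ⟨hzZ, hzφ⟩ := mem_off.1 hz
    rw [Finset.mem_erase, hmem₁]
    exact ⟨fun he => hzφ (by rw [he]; exact hφ₂p₂), hzZ, fun hw => hzφ (hφ₂W _ hw)⟩
  have hcard'' : (off φ₂ Z).card + 1 ≤ (Z \ onS W Z).card := by
    have := Finset.card_le_card hsub''
    rw [Finset.card_erase_of_mem hp₂Z₁] at this
    have hpos : 0 < (Z \ onS W Z).card := Finset.card_pos.mpr ⟨p₂, hp₂Z₁⟩
    omega
  obtain ⟨M₂, hM₂2, hM₂⟩ := col_of_CB n _ hCB'' hne'' (by omega)
  have hcover : ∀ z ∈ Z \ onS W Z, z ∈ off φ₁ Z ∨ z ∈ off φ₂ Z := by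
    intro z hz
    obtain ⟨hzZ, hzW⟩ := (hmem₁ z).1 hz
    by_contra hcon
    push Not at hcon
    have h1 : φ₁ z.rep = 0 := by
      by_contra h0
      exact hcon.1 (mem_off.2 ⟨hzZ, h0⟩)
    have h2 : φ₂ z.rep = 0 := by
      by_contra h0
      exact hcon.2 (mem_off.2 ⟨hzZ, h0⟩)
    have htop : (W ⊔ Submodule.span k {p₁.rep}) ⊔ Submodule.span k {p₂.rep} = ⊤ := by
      apply Submodule.eq_top_of_finrank_eq
      rw [sup_span_finrank _ hp₂H₁, hH₁3, Module.finrank_fin_fun]
    have hz_top : z.rep ∈ (W ⊔ Submodule.span k {p₁.rep}) ⊔ Submodule.span k {p₂.rep} := by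
      rw [htop]
      trivial
    obtain ⟨x, hx, y, hy, hxy⟩ := Submodule.mem_sup.1 hz_top
    obtain ⟨c₂, rfl⟩ := Submodule.mem_span_singleton.1 hy
    obtain ⟨w, hw, y', hy', hwy'⟩ := Submodule.mem_sup.1 hx
    obtain ⟨c₁, rfl⟩ := Submodule.mem_span_singleton.1 hy'
    have e1 : φ₁ z.rep = c₂ * φ₁ p₂.rep := by
      rw [← hxy, ← hwy', map_add, map_add, map_smul, map_smul, hφ₁W w hw, hφ₁p₁, smul_eq_mul,
        smul_eq_mul]
      ring
    have e2 : φ₂ z.rep = c₁ * φ₂ p₁.rep := by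
      rw [← hxy, ← hwy', map_add, map_add, map_smul, map_smul, hφ₂W w hw, hφ₂p₂, smul_eq_mul,
        smul_eq_mul]
      ring
    have hc₂ : c₂ = 0 := by
      rw [h1] at e1
      exact (mul_eq_zero.mp e1.symm).resolve_right hp₂φ
    have hc₁ : c₁ = 0 := by
      rw [h2] at e2
      exact (mul_eq_zero.mp e2.symm).resolve_right hφ₂p₁
    apply hzW
    rw [← hxy, ← hwy', hc₁, hc₂, zero_smul, zero_smul, add_zero, add_zero]
    exact hw
  have hunion : off φ₁ Z ∪ off φ₂ Z ⊆ Z \ onS W Z := by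
    intro z hz
    rcases Finset.mem_union.1 hz with hz | hz
    · exact Finset.mem_of_mem_erase (hsub' hz)
    · exact Finset.mem_of_mem_erase (hsub'' hz)
  have hinter : 1 < (off φ₁ Z ∩ off φ₂ Z).card := by
    have h1 := Finset.card_union_add_card_inter (off φ₁ Z) (off φ₂ Z)
    have h2 := Finset.card_le_card hunion
    omega
  obtain ⟨q₁, hq₁, q₂, hq₂, hq12⟩ := Finset.one_lt_card.1 hinter
  rw [Finset.mem_inter] at hq₁ hq₂
  have hMeq : M₁ = M₂ := eq_of_two_points hM₁2 hM₂2 hq12 (hM₁ _ hq₁.1) (hM₁ _ hq₂.1)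
    (hM₂ _ hq₁.2) (hM₂ _ hq₂.2)
  have hall : ∀ z ∈ Z, z.rep ∈ W ∨ z.rep ∈ M₁ := by
    intro z hz
    by_cases hzW : z.rep ∈ W
    · exact Or.inl hzW
    · right
      rcases hcover z ((hmem₁ z).2 ⟨hz, hzW⟩) with h' | h'
      · exact hM₁ z h'
      · rw [hMeq]
        exact hM₂ z h'
  refine ⟨M₁, hM₁2, ?_, hall⟩
  by_contra hbot
  apply hncop
  apply cop_of_le (W ⊔ M₁)
  · have h1 := Submodule.finrank_sup_add_finrank_inf_eq W M₁
    have h2 : finrank k ↥(W ⊓ M₁) ≠ 0 := fun h0 => hbot (Submodule.finrank_eq_zero.mp h0)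
    omega
  · intro z hz
    rcases hall z hz with h' | h'
    · exact Submodule.mem_sup_left h'
    · exact Submodule.mem_sup_right h'

theorem card_line_ge {n : ℕ} {Z : Finset (Projectivization k (Fin 4 → k))}
    (h : CB (n + 1) Z) (hncop : ¬ Cop Z) (W M : Submodule k (Fin 4 → k))
    (hM2 : finrank k ↥M = 2) (hZ : ∀ z ∈ Z, z.rep ∈ W ∨ z.rep ∈ M) :
    n + 3 ≤ (onS W Z).card := by
  classical
  obtain ⟨z', hz'Z, hz'W⟩ : ∃ z' ∈ Z, z'.rep ∈ W := by
    by_contra hcon
    push Not at hcon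
    apply hncop
    apply cop_of_le M (by omega)
    intro z hz
    exact (hZ z hz).resolve_left (hcon z hz)
  have hS3 : finrank k ↥(M ⊔ Submodule.span k {z'.rep}) ≤ 3 := by
    have h1 := Submodule.finrank_add_le_finrank_add_finrank M (Submodule.span k {z'.rep})
    rw [finrank_span_singleton z'.rep_nonzero] at h1
    omega
  obtain ⟨φ, hφ, hle⟩ := (M ⊔ Submodule.span k {z'.rep}).exists_le_ker_of_lt_top
    (lt_top_of_finrank _ hS3)
  have hφM : ∀ w ∈ M, φ w = 0 := fun w hw =>
    LinearMap.mem_ker.mp (hle (Submodule.mem_sup_left hw))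
  have hφz' : φ z'.rep = 0 :=
    LinearMap.mem_ker.mp (hle (Submodule.mem_sup_right (Submodule.mem_span_singleton_self _)))
  have hne' : (off φ Z).Nonempty := by
    by_contra hcon
    exact hncop (cop_of_off_empty hφ hcon)
  have hge' := card_ge_of_CB n _ (CB_off h φ) hne'
  have hz'on : z' ∈ onS W Z := mem_onS.2 ⟨hz'Z, hz'W⟩
  have hsub : off φ Z ⊆ (onS W Z).erase z' := by
    intro z hz
    obtain ⟨hzZ, hzφ⟩ := mem_off.1 hz
    rw [Finset.mem_erase, mem_onS]
    exact ⟨fun he => hzφ (by rw [he]; exact hφz'), hzZ,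
      (hZ z hzZ).resolve_right (fun hm => hzφ (hφM _ hm))⟩
  have := Finset.card_le_card hsub
  rw [Finset.card_erase_of_mem hz'on] at this
  have hpos : 0 < (onS W Z).card := Finset.card_pos.mpr ⟨z', hz'on⟩
  omega

theorem sub_onS {Z Z' : Finset (Projectivization k (Fin 4 → k))} {W : Submodule k (Fin 4 → k)}
    (hsub : Z' ⊆ Z) (hW : ∀ z ∈ Z', z.rep ∈ W) : Z' ⊆ onS W Z :=
  fun z hz => mem_onS.2 ⟨hsub hz, hW z hz⟩

theorem main_Q : ∀ (n : ℕ) (Z : Finset (Projectivization k (Fin 4 → k))),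
    CB n Z → Z.card ≤ 3 * n + 1 →
    Cop Z ∨ ∃ W M : Submodule k (Fin 4 → k), finrank k ↥W = 2 ∧ finrank k ↥M = 2 ∧
      W ⊓ M = ⊥ ∧ (∀ z ∈ Z, z.rep ∈ W ∨ z.rep ∈ M) ∧
      n + 2 ≤ (onS W Z).card ∧ n + 2 ≤ (onS M Z).card
  | 0, Z, h, hc => by
      left
      apply cop_empty
      intro hne
      have := card_ge_of_CB 0 Z h hne
      omega
  | n + 1, Z, h, hc => by
      classical
      by_cases hcop : Cop Z
      · exact Or.inl hcop
      right
      have hne : Z.Nonempty := by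
        by_contra hcon
        exact hcop (cop_empty hcon)
      have hge := card_ge_of_CB (n + 1) Z h hne
      by_cases hline : ∃ W : Submodule k (Fin 4 → k), finrank k ↥W = 2 ∧ n + 2 ≤ (onS W Z).card
      · obtain ⟨W, hW2, hWn⟩ := hline
        obtain ⟨M, hM2, hWM, hZ⟩ := two_lines_of_line h hc hcop W hW2 hWn
        have c1 := card_line_ge h hcop W M hM2 hZ
        have c2 := card_line_ge h hcop M W hW2 (fun z hz => (hZ z hz).symm)
        exact ⟨W, M, hW2, hM2, hWM, hZ, by omega, by omega⟩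
      · exfalso
        push Not at hline
        obtain ⟨z₁, hz₁⟩ := hne
        obtain ⟨z₂, hz₂, h21⟩ := exists_ne_of_CB h hz₁
        have hnot : z₂.rep ∉ Submodule.span k {z₁.rep} := fun hm => h21 (eq_of_rep_mem hm)
        have hW₀ := finrank_span_pair z₁.rep_nonzero hnot
        have hpair : ({z₁, z₂} : Finset _).card = 2 := Finset.card_pair h21.symm
        have hn1 : 1 ≤ n := by
          have h1 := hline _ hW₀
          have hss : ({z₁, z₂} : Finset _) ⊆ onS (Submodule.span k {z₁.rep, z₂.rep}) Z := by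
            intro w hw
            rw [Finset.mem_insert, Finset.mem_singleton] at hw
            rcases hw with rfl | rfl
            · exact mem_onS.2 ⟨hz₁, Submodule.subset_span (by simp)⟩
            · exact mem_onS.2 ⟨hz₂, Submodule.subset_span (by simp)⟩
          have h2 := Finset.card_le_card hss
          omega
        obtain ⟨z₃, hz₃, hz₃n⟩ := Finset.exists_mem_notMem_of_card_lt_card
          (s := ({z₁, z₂} : Finset _)) (t := Z) (by omega)
        rw [Finset.mem_insert, Finset.mem_singleton, not_or] at hz₃n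
        have hS3 : finrank k ↥(Submodule.span k {z₁.rep, z₂.rep} ⊔ Submodule.span k {z₃.rep}) ≤ 3 := by
          have h1 := Submodule.finrank_add_le_finrank_add_finrank
            (Submodule.span k {z₁.rep, z₂.rep}) (Submodule.span k {z₃.rep})
          rw [finrank_span_singleton z₃.rep_nonzero, hW₀] at h1
          omega
        obtain ⟨φ₁, hφ₁, hle₁⟩ := (Submodule.span k {z₁.rep, z₂.rep} ⊔
          Submodule.span k {z₃.rep}).exists_le_ker_of_lt_top (lt_top_of_finrank _ hS3)
        have hφ1 : φ₁ z₁.rep = 0 := LinearMap.mem_ker.mp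
          (hle₁ (Submodule.mem_sup_left (Submodule.subset_span (by simp))))
        have hφ2 : φ₁ z₂.rep = 0 := LinearMap.mem_ker.mp
          (hle₁ (Submodule.mem_sup_left (Submodule.subset_span (by simp))))
        have hφ3 : φ₁ z₃.rep = 0 := LinearMap.mem_ker.mp
          (hle₁ (Submodule.mem_sup_right (Submodule.mem_span_singleton_self _)))
        have hne₁ : (off φ₁ Z).Nonempty := by
          by_contra hcon
          exact hcop (cop_of_off_empty hφ₁ hcon)
        have hCB₁ := CB_off h φ₁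
        have hge₁ := card_ge_of_CB n _ hCB₁ hne₁
        have hsub₁ : off φ₁ Z ⊆ Z := fun z hz => (mem_off.1 hz).1
        have hss : off φ₁ Z ⊆ ((Z.erase z₁).erase z₂).erase z₃ := by
          intro w hw
          obtain ⟨hwZ, hwφ⟩ := mem_off.1 hw
          rw [Finset.mem_erase, Finset.mem_erase, Finset.mem_erase]
          exact ⟨fun he => hwφ (by rw [he]; exact hφ3), fun he => hwφ (by rw [he]; exact hφ2),
            fun he => hwφ (by rw [he]; exact hφ1), hwZ⟩
        have hcard₁ : (off φ₁ Z).card + 3 ≤ Z.card := by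
          have := Finset.card_le_card hss
          rw [Finset.card_erase_of_mem (Finset.mem_erase.2 ⟨hz₃n.2,
            Finset.mem_erase.2 ⟨hz₃n.1, hz₃⟩⟩),
            Finset.card_erase_of_mem (Finset.mem_erase.2 ⟨h21, hz₂⟩),
            Finset.card_erase_of_mem hz₁] at this
          omega
        by_cases hsmall : (off φ₁ Z).card ≤ 2 * n + 1
        · obtain ⟨W', hW'2, hW'⟩ := col_of_CB n _ hCB₁ hne₁ hsmall
          have h1 := hline W' hW'2
          have h2 := Finset.card_le_card (sub_onS hsub₁ hW')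
          omega
        · rcases main_Q n (off φ₁ Z) hCB₁ (by omega) with ⟨φ₂, hφ₂, hvan₂⟩ |
            ⟨W, M, hW2, -, -, -, hc1, -⟩
          · have hne₂ : (off φ₂ Z).Nonempty := by
              by_contra hcon
              exact hcop (cop_of_off_empty hφ₂ hcon)
            have hCB₂ := CB_off h φ₂
            have hge₂ := card_ge_of_CB n _ hCB₂ hne₂
            have hsub₂ : off φ₂ Z ⊆ Z := fun z hz => (mem_off.1 hz).1
            have hdisj : Disjoint (off φ₁ Z) (off φ₂ Z) := by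
              rw [Finset.disjoint_left]
              intro w hw hw'
              exact (mem_off.1 hw').2 (hvan₂ w hw)
            have hunion : off φ₁ Z ∪ off φ₂ Z ⊆ Z := by
              intro w hw
              rcases Finset.mem_union.1 hw with hw | hw
              · exact hsub₁ hw
              · exact hsub₂ hw
            have hcu := Finset.card_le_card hunion
            rw [Finset.card_union_of_disjoint hdisj] at hcu
            obtain ⟨W'', hW''2, hW''⟩ := col_of_CB n _ hCB₂ hne₂ (by omega)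
            have h1 := hline W'' hW''2
            have h2 := Finset.card_le_card (sub_onS hsub₂ hW'')
            omega
          · have h1 := hline W hW2
            have hss' : onS W (off φ₁ Z) ⊆ onS W Z := fun z hz =>
              mem_onS.2 ⟨hsub₁ (mem_onS.1 hz).1, (mem_onS.1 hz).2⟩
            have h2 := Finset.card_le_card hss'
            omega

theorem S18041_main (Z : Finset (Projectivization k (Fin 4 → k))) (hZ : Z.Nonempty) (n : ℕ)
    (hCB : CB n Z) :
    n + 2 ≤ Z.card ∧ (Z.card ≤ 2 * n + 1 → ∃ W : Submodule k (Fin 4 → k),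
      finrank k ↥W = 2 ∧ ∀ z ∈ Z, z.submodule ≤ W) := by
  refine ⟨card_ge_of_CB n Z hCB hZ, fun hc => ?_⟩
  obtain ⟨W, hW2, hW⟩ := col_of_CB n Z hCB hZ hc
  refine ⟨W, hW2, fun z hz => ?_⟩
  rw [Projectivization.submodule_eq, Submodule.span_singleton_le_iff_mem]
  exact hW z hz

theorem S18042_main (Z : Finset (Projectivization k (Fin 4 → k))) (n : ℕ) (hCB : CB n Z)
    (hcard : Z.card ≤ 3 * n + 1) :
    (∃ W : Submodule k (Fin 4 → k), finrank k ↥W = 3 ∧ ∀ z ∈ Z, z.submodule ≤ W) ∨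
      (∃ W₁ W₂ : Submodule k (Fin 4 → k), finrank k ↥W₁ = 2 ∧ finrank k ↥W₂ = 2 ∧
        W₁ ⊓ W₂ = ⊥ ∧ (∀ z ∈ Z, z.submodule ≤ W₁ ∨ z.submodule ≤ W₂) ∧
        n + 1 ≤ Set.ncard {z : Projectivization k (Fin 4 → k) | z ∈ Z ∧ z.submodule ≤ W₁} ∧
        n + 1 ≤ Set.ncard {z : Projectivization k (Fin 4 → k) | z ∈ Z ∧ z.submodule ≤ W₂} ∧
        2 * n + 3 ≤ Z.card) := by
  classical
  have hle : ∀ (S : Submodule k (Fin 4 → k)) (z : Projectivization k (Fin 4 → k)),
      z.submodule ≤ S ↔ z.rep ∈ S := fun S z => by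
    rw [Projectivization.submodule_eq, Submodule.span_singleton_le_iff_mem]
  rcases main_Q n Z hCB hcard with ⟨φ, hφ, hvan⟩ | ⟨W, M, hW2, hM2, hWM, hZ, c1, c2⟩
  · left
    obtain ⟨v, hv⟩ : ∃ v, φ v ≠ 0 := by
      by_contra hcon
      push Not at hcon
      exact hφ (LinearMap.ext hcon)
    refine ⟨LinearMap.ker φ, ?_, fun z hz => ?_⟩
    · have := finrank_ker_of_ne_zero φ hv
      omega
    · rw [hle]
      exact LinearMap.mem_ker.mpr (hvan z hz)
  · right
    have hset : ∀ S : Submodule k (Fin 4 → k),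
        {z : Projectivization k (Fin 4 → k) | z ∈ Z ∧ z.submodule ≤ S} = ↑(onS S Z) := by
      intro S
      ext z
      constructor
      · rintro ⟨h1, h2⟩
        exact Finset.mem_coe.2 (mem_onS.2 ⟨h1, (hle S z).1 h2⟩)
      · intro h
        obtain ⟨h1, h2⟩ := mem_onS.1 (Finset.mem_coe.1 h)
        exact ⟨h1, (hle S z).2 h2⟩
    refine ⟨W, M, hW2, hM2, hWM, fun z hz => ?_, ?_, ?_, ?_⟩
    · rw [hle, hle]
      exact hZ z hz
    · rw [hset, Set.ncard_coe_finset]
      omega
    · rw [hset, Set.ncard_coe_finset]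
      omega
    · have hdisj : Disjoint (onS W Z) (onS M Z) := by
        rw [Finset.disjoint_left]
        intro z h1 h2
        have : z.rep ∈ W ⊓ M := ⟨(mem_onS.1 h1).2, (mem_onS.1 h2).2⟩
        rw [hWM, Submodule.mem_bot] at this
        exact z.rep_nonzero this
      have hun : onS W Z ∪ onS M Z ⊆ Z := by
        intro w hw
        rcases Finset.mem_union.1 hw with hw | hw
        · exact (mem_onS.1 hw).1
        · exact (mem_onS.1 hw).1
      have := Finset.card_le_card hun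
      rw [Finset.card_union_of_disjoint hdisj] at this
      omega

end Groth.Agent.H9.CayBach
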