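import Mathlib
import Groth.Agent.Lib.Helper9.Misc.CayBach

/-! Helper9: Cayley–Bacharach sets and ranks of evaluation maps. -/

set_option autoImplicit false
set_option linter.unusedSectionVars false
set_option linter.unusedVariables false

namespace Groth.Agent.H9.CayBach

open MvPolynomial Module

universe u

variable {k : Type u} [Field k] [CharZero k]

/-- evaluation of forms of degree `d` at the points of `Z` -/
noncomputable def evZ (Z : Finset (Projectivization k (Fin 4 → k))) (d : ℕ) :
    ↥(MvPolynomial.homogeneousSubmodule (Fin 4) k d) →ₗ[k] (↥Z → k) :=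
  (LinearMap.pi fun z : ↥Z => (MvPolynomial.aeval (R := k) z.1.rep).toLinearMap) ∘ₗ
    (MvPolynomial.homogeneousSubmodule (Fin 4) k d).subtype

theorem evZ_apply (Z : Finset (Projectivization k (Fin 4 → k))) (d : ℕ)
    (p : ↥(MvPolynomial.homogeneousSubmodule (Fin 4) k d)) (z : ↥Z) :
    evZ Z d p z = MvPolynomial.eval z.1.rep p.1 := by
  simp [evZ, MvPolynomial.coe_aeval_eq_eval]

theorem finrank_range_add_le (Z : Finset (Projectivization k (Fin 4 → k))) (n : ℕ)
    (hCB : CB n Z) (m : ℕ) (hm : m ≤ n) (hinj : Function.Injective (evZ Z (n - m))) :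
    finrank k ↥(LinearMap.range (evZ Z m)) +
      finrank k ↥(MvPolynomial.homogeneousSubmodule (Fin 4) k (n - m)) ≤ Z.card := by
  classical
  haveI : Infinite k := Infinite.of_injective Nat.cast Nat.cast_injective
  have step1 : ∀ z : ↥Z, ∃ x ∈ (LinearMap.range (evZ Z n)).dualAnnihilator,
      (Module.Dual.eval k (↥Z → k) (Pi.single z 1)) x ≠ 0 := by
    intro z
    have hnot : (Pi.single z 1 : ↥Z → k) ∉ LinearMap.range (evZ Z n) := by
      rintro ⟨p, hp⟩
      have h1 : MvPolynomial.eval z.1.rep p.1 = 1 := by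
        rw [← evZ_apply, hp, Pi.single_eq_same]
      have h0 := hCB z.1 z.2 p.1 ((MvPolynomial.mem_homogeneousSubmodule _ _).mp p.2)
        (fun z' hz' hne => by
          have := congrFun hp ⟨z', hz'⟩
          rw [evZ_apply] at this
          rw [this, Pi.single_eq_of_ne]
          intro h
          exact hne (congrArg Subtype.val h))
      rw [h1] at h0
      exact one_ne_zero h0
    obtain ⟨f, hf, hle⟩ := Submodule.exists_le_ker_of_notMem hnot
    refine ⟨f, ?_, hf⟩
    rw [Submodule.mem_dualAnnihilator]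
    intro w hw
    exact LinearMap.mem_ker.mp (hle hw)
  obtain ⟨lam, hlam, hne⟩ := Module.Dual.exists_forall_mem_ne_zero_of_forall_exists
    (LinearMap.range (evZ Z n)).dualAnnihilator
    (fun z : ↥Z => Module.Dual.eval k (↥Z → k) (Pi.single z 1)) step1
  have hne' : ∀ z : ↥Z, lam (Pi.single z 1) ≠ 0 := fun z => hne z
  let Ψ : (↥Z → k) →ₗ[k] Module.Dual k (↥Z → k) :=
    LinearMap.mk₂ k (fun w' u => lam (w' * u))
      (by intro a b c; simp [add_mul])
      (by intro c a b; simp [smul_mul_assoc])
      (by intro a b c; simp [mul_add])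
      (by intro c a b; simp [mul_smul_comm])
  have hΨ : ∀ w' u, Ψ w' u = lam (w' * u) := fun w' u => rfl
  have hΨinj : Function.Injective Ψ := by
    rw [injective_iff_map_eq_zero]
    intro w' hw'
    funext z
    have h1 : Ψ w' (Pi.single z 1) = 0 := by rw [hw']; rfl
    rw [hΨ] at h1
    have h2 : w' * Pi.single z 1 = w' z • (Pi.single z 1 : ↥Z → k) := by
      funext y
      by_cases hy : y = z
      · subst hy
        simp
      · simp [Pi.single_eq_of_ne hy]
    rw [h2, map_smul, smul_eq_mul] at h1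
    exact (mul_eq_zero.mp h1).resolve_right (hne' z)
  have hmapsto : (LinearMap.range (evZ Z (n - m))).map Ψ ≤
      (LinearMap.range (evZ Z m)).dualAnnihilator := by
    rintro _ ⟨_, ⟨B, rfl⟩, rfl⟩
    rw [Submodule.mem_dualAnnihilator]
    rintro _ ⟨A, rfl⟩
    rw [hΨ]
    have hAB : B.1 * A.1 ∈ MvPolynomial.homogeneousSubmodule (Fin 4) k n := by
      rw [MvPolynomial.mem_homogeneousSubmodule]
      have := ((MvPolynomial.mem_homogeneousSubmodule _ _).mp B.2).mul
        ((MvPolynomial.mem_homogeneousSubmodule _ _).mp A.2)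
      rwa [Nat.sub_add_cancel hm] at this
    have hprod : evZ Z (n - m) B * evZ Z m A = evZ Z n ⟨B.1 * A.1, hAB⟩ := by
      funext z
      rw [Pi.mul_apply, evZ_apply, evZ_apply, evZ_apply, map_mul]
    rw [hprod]
    exact (Submodule.mem_dualAnnihilator _).mp hlam _ ⟨_, rfl⟩
  have h1 : finrank k ↥((LinearMap.range (evZ Z (n - m))).map Ψ) =
      finrank k ↥(LinearMap.range (evZ Z (n - m))) :=
    (Submodule.equivMapOfInjective Ψ hΨinj _).finrank_eq.symm
  have h2 := Submodule.finrank_mono hmapsto
  have h3 := Subspace.finrank_add_finrank_dualAnnihilator_eq (LinearMap.range (evZ Z m))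
  have h4 : finrank k (↥Z → k) = Z.card := by
    rw [Module.finrank_fintype_fun_eq_card, Fintype.card_coe]
  have h5 : finrank k ↥(LinearMap.range (evZ Z (n - m))) =
      finrank k ↥(MvPolynomial.homogeneousSubmodule (Fin 4) k (n - m)) :=
    LinearMap.finrank_range_of_inj hinj
  omega

theorem S18040_main (Z : Finset (Projectivization k (Fin 4 → k))) (n : ℕ) (hCB : CB n Z)
    (m : ℕ) (hm : m ≤ n) :
    (∃ s : MvPolynomial (Fin 4) k, s.IsHomogeneous (n - m) ∧ s ≠ 0 ∧
      ∀ z ∈ Z, MvPolynomial.eval z.rep s = 0) ∨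
      Module.finrank k (LinearMap.range
          ((LinearMap.pi fun z : ↥Z => (MvPolynomial.aeval (R := k) z.1.rep).toLinearMap) ∘ₗ
            (MvPolynomial.homogeneousSubmodule (Fin 4) k m).subtype)) +
        Module.finrank k ↥(MvPolynomial.homogeneousSubmodule (Fin 4) k (n - m)) ≤ Z.card := by
  by_cases hs : ∃ s : MvPolynomial (Fin 4) k, s.IsHomogeneous (n - m) ∧ s ≠ 0 ∧
      ∀ z ∈ Z, MvPolynomial.eval z.rep s = 0
  · exact Or.inl hs
  right
  push Not at hs
  have hinj : Function.Injective (evZ Z (n - m)) := by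
    rw [injective_iff_map_eq_zero]
    intro B hB
    by_contra hB0
    have hB1 : B.1 ≠ 0 := fun h => hB0 (Subtype.ext h)
    obtain ⟨z, hz, hzB⟩ := hs B.1 ((MvPolynomial.mem_homogeneousSubmodule _ _).mp B.2) hB1
    apply hzB
    have := congrFun hB ⟨z, hz⟩
    rw [evZ_apply] at this
    exact this
  exact finrank_range_add_le Z n hCB m hm hinj

end Groth.Agent.H9.CayBach
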