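import Mathlib

/-! Helper9: the Čech nerve `cechNerveTerminalFrom X` is n-coskeletal for every n (S19631). -/

namespace Groth.Agent.H9.CechCosk

open CategoryTheory CategoryTheory.Limits Opposite Simplicial

universe v u

variable {C : Type u} [Category.{v} C] [HasFiniteProducts C] (X : C) (n : ℕ)

/-- the `i`-th vertex `⦋0⦌ ⟶ d` -/
abbrev vtx (d : SimplexCategory) (i : Fin (d.len + 1)) : SimplexCategory.mk 0 ⟶ d :=
  SimplexCategory.const (SimplexCategory.mk 0) d i

/-- projections of the Čech nerve -/
noncomputable def pr (d : SimplexCategoryᵒᵖ) (i : Fin (d.unop.len + 1)) :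
    (cechNerveTerminalFrom X).obj d ⟶ X :=
  Pi.π (fun _ : Fin (d.unop.len + 1) => X) i

/-- lifting into the Čech nerve -/
noncomputable def lft (d : SimplexCategoryᵒᵖ) {Z : C} (φ : Fin (d.unop.len + 1) → (Z ⟶ X)) :
    Z ⟶ (cechNerveTerminalFrom X).obj d :=
  Pi.lift φ

theorem lft_pr (d : SimplexCategoryᵒᵖ) {Z : C} (φ : Fin (d.unop.len + 1) → (Z ⟶ X))
    (i : Fin (d.unop.len + 1)) : lft X d φ ≫ pr X d i = φ i := by
  unfold lft pr
  exact Limits.Pi.lift_π φ i

theorem pr_hom_ext (d : SimplexCategoryᵒᵖ) {Z : C} (a b : Z ⟶ (cechNerveTerminalFrom X).obj d)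
    (h : ∀ i, a ≫ pr X d i = b ≫ pr X d i) : a = b :=
  Pi.hom_ext _ _ h

theorem N_map_pr {d d' : SimplexCategoryᵒᵖ} (θ : d ⟶ d') (i : Fin (d'.unop.len + 1)) :
    (cechNerveTerminalFrom X).map θ ≫ pr X d' i = pr X d (θ.unop.toOrderHom i) := by
  simp [cechNerveTerminalFrom, pr]

/-- zero object in the truncated simplex category -/
abbrev z0 : SimplexCategory.Truncated n := ⟨SimplexCategory.mk 0, Nat.zero_le n⟩

variable {X n}

/-- the extension of a truncated map into the Čech nerve -/
noncomputable def ext (G : SimplicialObject C)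
    (β : (SimplexCategory.Truncated.inclusion n).op ⋙ G ⟶
      (SimplexCategory.Truncated.inclusion n).op ⋙ cechNerveTerminalFrom X) :
    G ⟶ cechNerveTerminalFrom X where
  app d := lft X d fun i => G.map (vtx d.unop i).op ≫ β.app (op (z0 n)) ≫
    pr X (op (SimplexCategory.mk 0)) 0
  naturality d d' θ := by
    apply pr_hom_ext
    intro i
    rw [Category.assoc, Category.assoc, N_map_pr, lft_pr, lft_pr, ← Category.assoc, ← G.map_comp]
    have : θ ≫ (vtx d'.unop i).op = (vtx d.unop (θ.unop.toOrderHom i)).op := by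
      apply Quiver.Hom.unop_inj
      exact SimplexCategory.const_comp _ _ _
    rw [this]

theorem ext_fac (G : SimplicialObject C)
    (β : (SimplexCategory.Truncated.inclusion n).op ⋙ G ⟶
      (SimplexCategory.Truncated.inclusion n).op ⋙ cechNerveTerminalFrom X) :
    Functor.whiskerLeft (SimplexCategory.Truncated.inclusion n).op (ext G β) = β := by
  ext d
  apply pr_hom_ext X ((SimplexCategory.Truncated.inclusion n).op.obj d)
  intro i
  rw [Functor.whiskerLeft_app]
  show lft X _ _ ≫ _ = _
  rw [lft_pr]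
  let v : z0 n ⟶ d.unop := ObjectProperty.homMk (vtx d.unop.obj i)
  have h1 := β.naturality v.op
  have h2 := congrArg (fun φ => φ ≫ pr X (op (SimplexCategory.mk 0)) 0) h1
  simp only [Category.assoc] at h2
  have h3 : (cechNerveTerminalFrom X).map ((SimplexCategory.Truncated.inclusion n).op.map v.op) ≫
      pr X (op (SimplexCategory.mk 0)) 0 =
      pr X ((SimplexCategory.Truncated.inclusion n).op.obj d) i :=
    N_map_pr X ((SimplexCategory.Truncated.inclusion n).op.map v.op) (0 : Fin (0+1))
  rw [show ((SimplexCategory.Truncated.inclusion n).op ⋙ cechNerveTerminalFrom X).map v.op =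
    (cechNerveTerminalFrom X).map ((SimplexCategory.Truncated.inclusion n).op.map v.op) from rfl,
    h3] at h2
  exact h2

theorem ext_uniq (G : SimplicialObject C) (γ γ' : G ⟶ cechNerveTerminalFrom X)
    (h : Functor.whiskerLeft (SimplexCategory.Truncated.inclusion n).op γ =
      Functor.whiskerLeft (SimplexCategory.Truncated.inclusion n).op γ') : γ = γ' := by
  ext d
  apply pr_hom_ext
  intro i
  have h0 : γ.app (op (SimplexCategory.mk 0)) = γ'.app (op (SimplexCategory.mk 0)) :=
    congrArg (fun φ => φ.app (op (z0 n))) h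
  have e : ∀ δ : G ⟶ cechNerveTerminalFrom X, δ.app d ≫ pr X d i =
      G.map (vtx d.unop i).op ≫ δ.app (op (SimplexCategory.mk 0)) ≫
        pr X (op (SimplexCategory.mk 0)) 0 := by
    intro δ
    have h1 := δ.naturality (vtx d.unop i).op
    have h2 := congrArg (fun φ => φ ≫ pr X (op (SimplexCategory.mk 0)) 0) h1
    simp only [Category.assoc] at h2
    rw [N_map_pr X (vtx d.unop i).op (0 : Fin (0+1))] at h2
    exact h2.symm
  rw [e γ, e γ', h0]

theorem isCoskeletal : SimplicialObject.IsCoskeletal (cechNerveTerminalFrom X) n := by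
  constructor
  constructor
  constructor
  refine IsTerminal.ofUniqueHom (fun g => CostructuredArrow.homMk (ext g.left g.hom) ?_) ?_
  · show Functor.whiskerLeft _ (ext g.left g.hom) ≫ 𝟙 _ = g.hom
    rw [Category.comp_id, ext_fac]
  · intro g m
    apply CostructuredArrow.hom_ext
    have h1 := CostructuredArrow.w m
    have h2 : Functor.whiskerLeft (SimplexCategory.Truncated.inclusion n).op
        (m.left : g.left ⟶ cechNerveTerminalFrom X) ≫ 𝟙 _ = g.hom := h1
    rw [Category.comp_id] at h2
    exact ext_uniq g.left m.left (ext g.left g.hom) (h2.trans (ext_fac g.left g.hom).symm)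

end Groth.Agent.H9.CechCosk
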