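import Mathlib

/-! Helper9: simplicial homotopies on the Čech nerve of a split morphism. -/

set_option autoImplicit false
set_option linter.style.haveILetI false
set_option linter.unusedSectionVars false
set_option linter.unusedVariables false

universe v u
open CategoryTheory CategoryTheory.Limits Simplicial Opposite SimplexCategory

namespace Groth.Agent.H9.CechHtpy

variable {C : Type u} [Category.{v} C] (F : Arrow C) (s : F.right ⟶ F.left)
  (hs : s ≫ F.hom = 𝟙 _)
  [∀ n : ℕ, HasWidePullback F.right (fun _ : Fin (n + 1) => F.left) (fun _ => F.hom)]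

/-- component -/
noncomputable def cmp {n : ℕ} (o : Option (Fin (n + 1))) : F.cechNerve _⦋n⦌ ⟶ F.left :=
  o.elim (WidePullback.base _ ≫ s) (fun j => WidePullback.π _ j)

include hs in
lemma cmp_hom {n : ℕ} (o : Option (Fin (n + 1))) :
    cmp F s o ≫ F.hom = WidePullback.base _ := by
  cases o with
  | none => simp [cmp, hs]
  | some j => simp [cmp]

noncomputable def L {n m : ℕ} (c : Fin (m + 1) → Option (Fin (n + 1))) :
    F.cechNerve _⦋n⦌ ⟶ F.cechNerve _⦋m⦌ :=
  WidePullback.lift (WidePullback.base _) (fun i => cmp F s (c i))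
    (fun i => cmp_hom F s hs (c i))

@[reassoc (attr := simp)]
lemma L_π {n m : ℕ} (c : Fin (m + 1) → Option (Fin (n + 1))) (i : Fin (m + 1)) :
    L F s hs c ≫ WidePullback.π _ i = cmp F s (c i) := by
  unfold L
  exact WidePullback.lift_π _ _ _ _ _

@[reassoc (attr := simp)]
lemma L_base {n m : ℕ} (c : Fin (m + 1) → Option (Fin (n + 1))) :
    L F s hs c ≫ WidePullback.base _ = WidePullback.base _ := by
  unfold L
  exact WidePullback.lift_base _ _ _ _

lemma L_cmp {n m : ℕ} (c : Fin (m + 1) → Option (Fin (n + 1))) (o : Option (Fin (m + 1))) :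
    L F s hs c ≫ cmp F s o = cmp F s (o.bind c) := by
  cases o with
  | none => simp [cmp]
  | some j => simp [cmp]

lemma L_comp {n m l : ℕ} (c : Fin (m + 1) → Option (Fin (n + 1)))
    (d : Fin (l + 1) → Option (Fin (m + 1))) :
    L F s hs c ≫ L F s hs d = L F s hs (fun i => (d i).bind c) := by
  apply WidePullback.hom_ext
  · intro i
    simp [L_cmp]
  · simp

lemma map_eq {n m : ℕ} (θ : ⦋m⦌ ⟶ ⦋n⦌) :
    F.cechNerve.map θ.op = L F s hs (fun i => some (θ.toOrderHom i)) := by
  apply WidePullback.hom_ext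
  · intro i
    rw [L_π]
    exact WidePullback.lift_π _ _ _ _ _
  · rw [L_base]
    exact WidePullback.lift_base _ _ _ _

lemma δ_eq {n : ℕ} (i : Fin (n + 2)) :
    F.cechNerve.δ i = L F s hs (fun k => some (i.succAbove k)) := by
  rw [SimplicialObject.δ, map_eq F s hs]
  rfl

lemma σ_eq {n : ℕ} (i : Fin (n + 1)) :
    F.cechNerve.σ i = L F s hs (fun k => some (i.predAbove k)) := by
  rw [SimplicialObject.σ, map_eq F s hs]
  rfl

/-- encoding of options of Fin as naturals -/
def enc {N : ℕ} (o : Option (Fin N)) : ℕ := o.elim N (fun x => x.val)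

lemma enc_inj {N : ℕ} {o₁ o₂ : Option (Fin N)} (h : enc o₁ = enc o₂) : o₁ = o₂ := by
  cases o₁ with
  | none =>
    cases o₂ with
    | none => rfl
    | some y => simp [enc] at h; omega
  | some x =>
    cases o₂ with
    | none => simp [enc] at h; omega
    | some y => simp [enc] at h; rw [Fin.ext h]

def c1 {n : ℕ} (i : Fin (n + 1)) (k : Fin (n + 2)) : Option (Fin (n + 1)) :=
  if h : k.val ≤ i.val then some ⟨k.val, by omega⟩ else none

def c2 {n : ℕ} (i : Fin (n + 1)) (k : Fin (n + 2)) : Option (Fin (n + 1)) :=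
  if h : k.val ≤ i.val then none else some ⟨k.val - 1, by omega⟩

lemma enc_c1 {n : ℕ} (i : Fin (n + 1)) (k : Fin (n + 2)) :
    enc (c1 i k) = if k.val ≤ i.val then k.val else n + 1 := by
  unfold c1 enc
  split_ifs <;> simp

lemma enc_c2 {n : ℕ} (i : Fin (n + 1)) (k : Fin (n + 2)) :
    enc (c2 i k) = if k.val ≤ i.val then n + 1 else k.val - 1 := by
  unfold c2 enc
  split_ifs <;> simp

lemma enc_bind_some {N M : ℕ} (o : Option (Fin N)) (θ : Fin N → Fin M) :
    enc (o.bind (fun x => some (θ x))) = if h : enc o < N then (θ ⟨enc o, h⟩).val else M := by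
  cases o with
  | none => simp [enc]
  | some x => simp [enc]

lemma succAbove_val {n : ℕ} (i : Fin (n + 1)) (k : Fin n) :
    (i.succAbove k).val = if k.val < i.val then k.val else k.val + 1 := by
  unfold Fin.succAbove
  split_ifs with h1 h2 h2
  · rfl
  · exfalso; exact h2 h1
  · exfalso; exact h1 h2
  · rfl

lemma predAbove_val {n : ℕ} (i : Fin n) (k : Fin (n + 1)) :
    (i.predAbove k).val = if i.val < k.val then k.val - 1 else k.val := by
  unfold Fin.predAbove
  split_ifs with h1 h2 h2
  · rfl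
  · exfalso; exact h2 h1
  · exfalso; exact h1 h2
  · rfl

@[simp] lemma enc_none {N : ℕ} : enc (none : Option (Fin N)) = N := rfl
@[simp] lemma enc_some {N : ℕ} (x : Fin N) : enc (some x) = x.val := rfl

lemma enc_bind_succAbove {n : ℕ} (o : Option (Fin n)) (i : Fin (n + 1)) :
    enc (o.bind (fun x => some (i.succAbove x))) =
      if enc o < n then (if enc o < i.val then enc o else enc o + 1) else n + 1 := by
  cases o with
  | none => simp
  | some x => simp [succAbove_val]

lemma enc_bind_predAbove {n : ℕ} (o : Option (Fin (n + 1))) (i : Fin n) :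
    enc (o.bind (fun x => some (i.predAbove x))) =
      if enc o < n + 1 then (if i.val < enc o then enc o - 1 else enc o) else n := by
  cases o with
  | none => simp
  | some x =>
    have hx := x.isLt
    simp only [Option.bind_some, enc_some, predAbove_val]
    rw [if_pos hx]

lemma id_eq (n : ℕ) : 𝟙 (F.cechNerve _⦋n⦌) = L F s hs (fun k => some k) := by
  apply WidePullback.hom_ext
  · intro i
    rw [L_π, Category.id_comp]
    rfl
  · rw [L_base, Category.id_comp]

lemma mapCech_eq (φ : F ⟶ F) (hφl : φ.left = F.hom ≫ s) (hφr : φ.right = 𝟙 _) (n : ℕ) :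
    (Arrow.mapCechNerve φ).app (op ⦋n⦌) = L F s hs (fun _ => none) := by
  apply WidePullback.hom_ext
  · intro i
    rw [L_π]
    show WidePullback.lift _ _ _ ≫ _ = _
    rw [WidePullback.lift_π, hφl, ← Category.assoc]
    show (WidePullback.π (fun _ => F.hom) i ≫ F.hom) ≫ s = _
    rw [WidePullback.π_arrow]
    rfl
  · rw [L_base]
    show WidePullback.lift _ _ _ ≫ _ = _
    rw [WidePullback.lift_base, hφr, Category.comp_id]

macro "htpy_tac" : tactic => `(tactic| (
  congr 1
  funext k
  have hk := k.isLt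
  apply enc_inj
  simp only [Option.bind_some, Option.bind_none, enc_c1, enc_c2, enc_bind_succAbove,
    enc_bind_predAbove, succAbove_val,
    predAbove_val, Fin.val_succ, Fin.val_castSucc, Fin.val_last, Fin.val_zero, enc_none, enc_some]
  try (split_ifs <;> omega)))

noncomputable def htpy1 (φ : F ⟶ F) (hφl : φ.left = F.hom ≫ s) (hφr : φ.right = 𝟙 _) :
    SimplicialObject.Homotopy (𝟙 F.cechNerve) (Arrow.mapCechNerve φ) where
  h i := L F s hs (c1 i)
  h_zero_comp_δ_zero n := by
    rw [δ_eq F s hs, L_comp, mapCech_eq F s hs φ hφl hφr]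
    congr 1
  h_last_comp_δ_last n := by
    rw [δ_eq F s hs, L_comp, NatTrans.id_app, id_eq F s hs]
    htpy_tac
  h_succ_comp_δ_castSucc_of_lt i j hij := by
    rw [δ_eq F s hs, δ_eq F s hs, L_comp, L_comp]
    have h1 := Fin.le_def.mp hij
    simp only [Fin.val_castSucc] at h1
    have hi := i.isLt
    have hj := j.isLt
    htpy_tac
  h_succ_comp_δ_castSucc_succ j := by
    rw [δ_eq F s hs, L_comp, L_comp]
    have hj := j.isLt
    htpy_tac
  h_castSucc_comp_δ_succ_of_lt i j hji := by
    rw [δ_eq F s hs, δ_eq F s hs, L_comp, L_comp]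
    have h1 := Fin.lt_def.mp hji
    simp only [Fin.val_castSucc] at h1
    have hi := i.isLt
    have hj := j.isLt
    htpy_tac
  h_comp_σ_castSucc_of_le i j hij := by
    rw [σ_eq F s hs, σ_eq F s hs, L_comp, L_comp]
    have h1 := Fin.le_def.mp hij
    have hi := i.isLt
    have hj := j.isLt
    htpy_tac
  h_comp_σ_succ_of_lt i j hji := by
    rw [σ_eq F s hs, σ_eq F s hs, L_comp, L_comp]
    have h1 := Fin.le_def.mp hji
    have hi := i.isLt
    have hj := j.isLt
    htpy_tac

noncomputable def htpy2 (φ : F ⟶ F) (hφl : φ.left = F.hom ≫ s) (hφr : φ.right = 𝟙 _) :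
    SimplicialObject.Homotopy (Arrow.mapCechNerve φ) (𝟙 F.cechNerve) where
  h i := L F s hs (c2 i)
  h_zero_comp_δ_zero n := by
    rw [δ_eq F s hs, L_comp, NatTrans.id_app, id_eq F s hs]
    congr 1
  h_last_comp_δ_last n := by
    rw [δ_eq F s hs, L_comp, mapCech_eq F s hs φ hφl hφr]
    htpy_tac
  h_succ_comp_δ_castSucc_of_lt i j hij := by
    rw [δ_eq F s hs, δ_eq F s hs, L_comp, L_comp]
    have h1 := Fin.le_def.mp hij
    simp only [Fin.val_castSucc] at h1
    have hi := i.isLt
    have hj := j.isLt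
    htpy_tac
  h_succ_comp_δ_castSucc_succ j := by
    rw [δ_eq F s hs, L_comp, L_comp]
    have hj := j.isLt
    htpy_tac
  h_castSucc_comp_δ_succ_of_lt i j hji := by
    rw [δ_eq F s hs, δ_eq F s hs, L_comp, L_comp]
    have h1 := Fin.lt_def.mp hji
    simp only [Fin.val_castSucc] at h1
    have hi := i.isLt
    have hj := j.isLt
    htpy_tac
  h_comp_σ_castSucc_of_le i j hij := by
    rw [σ_eq F s hs, σ_eq F s hs, L_comp, L_comp]
    have h1 := Fin.le_def.mp hij
    have hi := i.isLt
    have hj := j.isLt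
    htpy_tac
  h_comp_σ_succ_of_lt i j hji := by
    rw [σ_eq F s hs, σ_eq F s hs, L_comp, L_comp]
    have h1 := Fin.le_def.mp hji
    have hi := i.isLt
    have hj := j.isLt
    htpy_tac

theorem main {Y X : C} (f : Y ⟶ X) (s : X ⟶ Y) (hs : s ≫ f = 𝟙 X)
    [∀ n : ℕ, HasWidePullback (Arrow.mk f).right (fun _ : Fin (n + 1) => (Arrow.mk f).left)
      (fun _ => (Arrow.mk f).hom)]
    (φ : Arrow.mk f ⟶ Arrow.mk f) (hφl : φ.left = f ≫ s) (hφr : φ.right = 𝟙 X) :
    Nonempty (SimplicialObject.Homotopy (𝟙 (Arrow.mk f).cechNerve) (Arrow.mapCechNerve φ)) ∧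
      Nonempty (SimplicialObject.Homotopy (Arrow.mapCechNerve φ) (𝟙 (Arrow.mk f).cechNerve)) :=
  ⟨⟨htpy1 (Arrow.mk f) s hs φ hφl hφr⟩, ⟨htpy2 (Arrow.mk f) s hs φ hφl hφr⟩⟩

end Groth.Agent.H9.CechHtpy
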