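import Mathlib

namespace Groth.Agent.H9.CechTriv

open CategoryTheory CategoryTheory.Limits Simplicial Opposite

universe u

theorem main {A B : Type u} (f : A ⟶ B) (hf : Function.Surjective f) :
    SSet.modelCategoryQuillen.I.rlp (Arrow.mk f).augmentedCechNerve.hom := by
  intro X Y i hi
  obtain ⟨n⟩ := hi
  constructor
  intro t b sq
  classical
  let F : Arrow (Type u) := Arrow.mk f
  have hbase : ∀ (s : (∂Δ[n] : (Δ[n] : SSet.{u}).Subcomplex).toSSet.obj (op ⦋0⦌)),
      f ((WidePullback.π (fun _ : Fin (⦋0⦌.len + 1) => F.hom) 0 : _ → A) (t.app (op ⦋0⦌) s)) =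
        b.app (op ⦋0⦌) s.1 := by
    intro s
    have h1 := ConcreteCategory.congr_hom
      (WidePullback.π_arrow (fun _ : Fin (⦋0⦌.len + 1) => F.hom) 0) (t.app (op ⦋0⦌) s)
    have h2 := ConcreteCategory.congr_hom (congr_app sq.w (op ⦋0⦌)) s
    simp only [types_comp_apply, NatTrans.comp_app] at h1 h2
    exact h1.trans h2
  let v : (Δ[n] : SSet.{u}).obj (op ⦋0⦌) → A := fun σ =>
    if h : σ ∈ (∂Δ[n] : (Δ[n] : SSet.{u}).Subcomplex).obj (op ⦋0⦌) then
      (WidePullback.π (fun _ : Fin (⦋0⦌.len + 1) => F.hom) 0 : _ → A) (t.app (op ⦋0⦌) ⟨σ, h⟩)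
    else Classical.choose (hf (b.app (op ⦋0⦌) σ))
  have hv : ∀ σ, f (v σ) = b.app (op ⦋0⦌) σ := by
    intro σ
    by_cases h : σ ∈ (∂Δ[n] : (Δ[n] : SSet.{u}).Subcomplex).obj (op ⦋0⦌)
    · simp only [v, dif_pos h]
      exact hbase ⟨σ, h⟩
    · simp only [v, dif_neg h]
      exact Classical.choose_spec (hf (b.app (op ⦋0⦌) σ))
  let Xaug : SimplicialObject.Augmented (Type u) :=
    { left := (Δ[n] : SSet.{u}), right := B, hom := b }
  let arr : SimplicialObject.Augmented.toArrow.obj Xaug ⟶ F :=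
    Arrow.homMk (u := TypeCat.ofHom v) (v := 𝟙 B) (by ext σ; exact hv σ)
  let L := SimplicialObject.cechNerveEquiv Xaug F arr
  let Yaug : SimplicialObject.Augmented (Type u) :=
    { left := (∂Δ[n] : (Δ[n] : SSet.{u}).Subcomplex).toSSet, right := B,
      hom := (∂Δ[n] : (Δ[n] : SSet.{u}).Subcomplex).ι ≫ b }
  have hid : ∀ (Z : SSet.{u}) (g : Z ⟶ (SimplicialObject.const (Type u)).obj B),
      g ≫ (SimplicialObject.const (Type u)).map (𝟙 B) = g := fun Z g => by
    rw [CategoryTheory.Functor.map_id]; exact Category.comp_id g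
  have hLw : L.left ≫ (Arrow.mk f).augmentedCechNerve.hom = b := by
    have h1 : L.left ≫ (Arrow.mk f).augmentedCechNerve.hom =
        b ≫ (SimplicialObject.const (Type u)).map (𝟙 B) := L.w
    exact h1.trans (hid _ b)
  let M₁ : Yaug ⟶ F.augmentedCechNerve :=
    { left := (∂Δ[n] : (Δ[n] : SSet.{u}).Subcomplex).ι ≫ L.left, right := 𝟙 B,
      w := by
        show ((∂Δ[n] : (Δ[n] : SSet.{u}).Subcomplex).ι ≫ L.left) ≫
            (Arrow.mk f).augmentedCechNerve.hom =
          ((∂Δ[n] : (Δ[n] : SSet.{u}).Subcomplex).ι ≫ b) ≫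
            (SimplicialObject.const (Type u)).map (𝟙 B)
        rw [Category.assoc, hLw]
        exact (hid _ _).symm }
  let M₂ : Yaug ⟶ F.augmentedCechNerve :=
    { left := t, right := 𝟙 B,
      w := by
        show t ≫ (Arrow.mk f).augmentedCechNerve.hom =
          ((∂Δ[n] : (Δ[n] : SSet.{u}).Subcomplex).ι ≫ b) ≫
            (SimplicialObject.const (Type u)).map (𝟙 B)
        rw [sq.w]
        exact (hid _ _).symm }
  have hM : M₁ = M₂ := by
    apply (SimplicialObject.cechNerveEquiv Yaug F).symm.injective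
    ext s
    · simp only [SimplicialObject.cechNerveEquiv_symm_apply,
        SimplicialObject.equivalenceRightToLeft_left]
      show (WidePullback.π (fun _ : Fin (⦋0⦌.len + 1) => F.hom) 0 : _ → A)
          (L.left.app (op ⦋0⦌) s.1) =
        (WidePullback.π (fun _ : Fin (⦋0⦌.len + 1) => F.hom) 0 : _ → A) (t.app (op ⦋0⦌) s)
      have h3 : L.left.app (op ⦋0⦌) ≫ WidePullback.π (fun _ : Fin (⦋0⦌.len + 1) => F.hom) 0 =
          Xaug.left.map (SimplexCategory.const ⦋0⦌ ⦋0⦌ 0).op ≫ arr.left := by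
        simp only [L, SimplicialObject.cechNerveEquiv_apply,
          SimplicialObject.equivalenceLeftToRight_left_app]
        apply WidePullback.lift_π
      have h4 : SimplexCategory.const ⦋0⦌ ⦋0⦌ 0 = 𝟙 _ := SimplexCategory.hom_zero_zero _
      rw [h4, op_id, CategoryTheory.Functor.map_id, Category.id_comp] at h3
      have h5 := ConcreteCategory.congr_hom h3 s.1
      refine h5.trans ?_
      exact dif_pos s.2
    · rfl
  exact ⟨⟨{ l := L.left
            fac_left := congrArg CommaMorphism.left hM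
            fac_right := hLw }⟩⟩

end Groth.Agent.H9.CechTriv
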