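import Mathlib

/-! Helper9: f.p. modules over chain rings are sums of cyclic modules. -/

namespace Groth.Agent.H9.Chain

universe u

variable {R : Type u} [CommRing R]

/-- In a chain ring, a nonempty finite set of elements has an element dividing all others. -/
lemma exists_dvd_all (h : ∀ a b : R, a ∣ b ∨ b ∣ a) (T : Finset R) (hT : T.Nonempty) :
    ∃ d ∈ T, ∀ t ∈ T, d ∣ t := by
  classical
  induction hT using Finset.Nonempty.cons_induction with
  | singleton a => exact ⟨a, Finset.mem_singleton_self a, fun t ht => by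
      rw [Finset.mem_singleton] at ht; rw [ht]⟩
  | cons a s ha hs ih =>
    obtain ⟨d, hd, hdt⟩ := ih
    rcases h a d with h1 | h1
    · refine ⟨a, Finset.mem_cons_self a s, fun t ht => ?_⟩
      rcases Finset.mem_cons.mp ht with rfl | ht
      · exact dvd_rfl
      · exact h1.trans (hdt t ht)
    · refine ⟨d, Finset.mem_cons.mpr (Or.inr hd), fun t ht => ?_⟩
      rcases Finset.mem_cons.mp ht with rfl | ht
      · exact h1
      · exact hdt t ht

/-- In a chain ring, a f.g. submodule of `R^(n+1)` contains a vector one of whose entries divides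
all entries of all vectors in the submodule. -/
lemma exists_min_entry (h : ∀ a b : R, a ∣ b ∨ b ∣ a) {n : ℕ}
    (K : Submodule R (Fin (n + 1) → R)) (hK : K.FG) :
    ∃ k ∈ K, ∃ b : Fin (n + 1), ∀ l ∈ K, ∀ j, k b ∣ l j := by
  classical
  obtain ⟨S, rfl⟩ := hK
  by_cases hS : S.Nonempty
  · set T : Finset R := S.biUnion (fun s => Finset.univ.image s) with hTdef
    have hT : T.Nonempty := by
      obtain ⟨s, hs⟩ := hS
      exact ⟨s 0, Finset.mem_biUnion.mpr ⟨s, hs, Finset.mem_image.mpr ⟨0, Finset.mem_univ _, rfl⟩⟩⟩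
    obtain ⟨d, hd, hdt⟩ := exists_dvd_all h T hT
    obtain ⟨s, hs, hd'⟩ := Finset.mem_biUnion.mp hd
    obtain ⟨b, -, rfl⟩ := Finset.mem_image.mp hd'
    refine ⟨s, Submodule.subset_span hs, b, fun l hl => ?_⟩
    refine Submodule.span_induction (p := fun l _ => ∀ j, s b ∣ l j) ?_ ?_ ?_ ?_ hl
    · intro t ht j
      exact hdt _ (Finset.mem_biUnion.mpr ⟨t, ht, Finset.mem_image.mpr ⟨j, Finset.mem_univ _, rfl⟩⟩)
    · intro j; exact dvd_zero _
    · intro x y _ _ hx hy j; exact dvd_add (hx j) (hy j)
    · intro r x _ hx j; exact Dvd.dvd.mul_left (hx j) r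
  · rw [Finset.not_nonempty_iff_eq_empty] at hS
    subst hS
    refine ⟨0, Submodule.zero_mem _, 0, fun l hl j => ?_⟩
    simp only [Finset.coe_empty, Submodule.span_empty, Submodule.mem_bot] at hl
    rw [hl]; exact dvd_rfl

/-- Inductive statement: an f.p. module over a chain ring generated by `n` elements is a product of
`n` cyclic modules. -/
theorem decomp_aux (h : ∀ a b : R, a ∣ b ∨ b ∣ a) : ∀ (n : ℕ) (M : Type u) [AddCommGroup M]
    [Module R M] [Module.FinitePresentation R M] (x : Fin n → M),
    Submodule.span R (Set.range x) = ⊤ →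
    ∃ f : Fin n → R, Nonempty (M ≃ₗ[R] ((i : Fin n) → R ⧸ Ideal.span {f i})) := by
  classical
  intro n
  induction n with
  | zero =>
    intro M _ _ _ x hx
    have : Subsingleton M := by
      rw [← Submodule.subsingleton_iff R, ← subsingleton_iff_bot_eq_top, ← hx]
      have : Set.range x = ∅ := Set.range_eq_empty x
      rw [this, Submodule.span_empty]
    exact ⟨fun _ => 0, ⟨LinearEquiv.ofSubsingleton _ _⟩⟩
  | succ n ih =>
    intro M _ _ _ x hx
    set π : (Fin (n + 1) → R) →ₗ[R] M := Fintype.linearCombination R x with hπ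
    have hπs : Function.Surjective π := by
      rw [← LinearMap.range_eq_top, hπ, Fintype.range_linearCombination, hx]
    have hKfg : (LinearMap.ker π).FG := Module.FinitePresentation.fg_ker π hπs
    obtain ⟨k, hk, b, hkb⟩ := exists_min_entry h (LinearMap.ker π) hKfg
    set d := k b with hd
    have hc0 : ∀ j, ∃ c, k j = d * c := fun j => hkb k hk j
    choose c₀ hc₀ using hc0
    set c : Fin (n + 1) → R := Function.update c₀ b 1 with hc
    have hcb : c b = 1 := by rw [hc, Function.update_self]
    have hkc : ∀ j, k j = d * c j := by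
      intro j
      by_cases hj : j = b
      · subst hj; rw [hcb, mul_one]
      · rw [hc, Function.update_of_ne hj]; exact hc₀ j
    set x' : M := π c with hx'
    have hdx' : d • x' = 0 := by
      rw [hx', ← map_smul]
      have : d • c = k := by funext j; rw [Pi.smul_apply, smul_eq_mul, hkc j]
      rw [this]; exact hk
    -- the retraction ψ
    have hle : LinearMap.ker π ≤ LinearMap.ker
        ((Submodule.mkQ (Ideal.span {d} : Ideal R)) ∘ₗ (LinearMap.proj b : (Fin (n+1) → R) →ₗ[R] R)) := by
      intro l hl
      rw [LinearMap.mem_ker, LinearMap.comp_apply, Submodule.mkQ_apply,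
        Submodule.Quotient.mk_eq_zero]
      exact Ideal.mem_span_singleton.mpr (hkb l hl b)
    set ψ : M →ₗ[R] (R ⧸ (Ideal.span {d} : Ideal R)) :=
      ((LinearMap.ker π).liftQ _ hle) ∘ₗ (π.quotKerEquivOfSurjective hπs).symm.toLinearMap with hψ
    have hψπ : ∀ a, ψ (π a) = Submodule.Quotient.mk (a b) := by
      intro a
      have : (π.quotKerEquivOfSurjective hπs).symm (π a) = Submodule.Quotient.mk a := by
        rw [LinearEquiv.symm_apply_eq]
        rfl
      rw [hψ, LinearMap.comp_apply, LinearEquiv.coe_coe, this, Submodule.liftQ_apply]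
      rfl
    have hψx' : ψ x' = Submodule.Quotient.mk 1 := by rw [hx', hψπ, hcb]
    -- M'
    set N : Submodule R M := Submodule.span R {x'} with hN
    have hfp : Module.FinitePresentation R (M ⧸ N) :=
      Module.finitePresentation_of_surjective N.mkQ N.mkQ_surjective
        (by rw [Submodule.ker_mkQ]; exact Submodule.fg_span_singleton x')
    set z : Fin n → M ⧸ N := fun i => N.mkQ (x (b.succAbove i)) with hz
    have hzspan : Submodule.span R (Set.range z) = ⊤ := by
      have h1 : ∀ j, N.mkQ (x j) ∈ Submodule.span R (Set.range z) := by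
        intro j
        rcases Fin.eq_self_or_eq_succAbove b j with hj | ⟨i, hj⟩
        · have hx'eq : x' = x b + ∑ i, c (b.succAbove i) • x (b.succAbove i) := by
            rw [hx', hπ, Fintype.linearCombination_apply, Fin.sum_univ_succAbove _ b, hcb, one_smul]
          have : N.mkQ (x b) = - ∑ i, c (b.succAbove i) • z i := by
            have h0 : N.mkQ x' = 0 := by
              rw [Submodule.mkQ_apply, Submodule.Quotient.mk_eq_zero]
              exact Submodule.mem_span_singleton_self x'
            rw [hx'eq, map_add, map_sum] at h0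
            simp only [map_smul] at h0
            exact eq_neg_of_add_eq_zero_left h0
          rw [hj, this]
          exact Submodule.neg_mem _ (Submodule.sum_mem _ fun i _ =>
            Submodule.smul_mem _ _ (Submodule.subset_span ⟨i, rfl⟩))
        · rw [hj]; exact Submodule.subset_span ⟨i, rfl⟩
      rw [eq_top_iff]
      rintro q -
      obtain ⟨m, rfl⟩ := N.mkQ_surjective q
      have hm : m ∈ Submodule.span R (Set.range x) := by rw [hx]; trivial
      refine Submodule.span_induction
        (p := fun m _ => N.mkQ m ∈ Submodule.span R (Set.range z)) ?_ ?_ ?_ ?_ hm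
      · rintro _ ⟨j, rfl⟩; exact h1 j
      · rw [map_zero]; exact Submodule.zero_mem _
      · intro a b _ _ ha hb; rw [map_add]; exact Submodule.add_mem _ ha hb
      · intro r a _ ha; rw [map_smul]; exact Submodule.smul_mem _ _ ha
    obtain ⟨f, ⟨e'⟩⟩ := ih (M ⧸ N) z hzspan
    set Φ : M →ₗ[R] (R ⧸ (Ideal.span {d} : Ideal R)) × (M ⧸ N) := ψ.prod N.mkQ with hΦdef
    have hΦ : Function.Bijective Φ := by
      constructor
      · rw [← LinearMap.ker_eq_bot, eq_bot_iff]
        intro m hm
        have hm' : (ψ m, N.mkQ m) = 0 := hm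
        rw [Prod.mk_eq_zero] at hm'
        clear hm
        rename' hm' => hm
        obtain ⟨hm1, hm2⟩ := hm
        rw [Submodule.mkQ_apply, Submodule.Quotient.mk_eq_zero, hN,
          Submodule.mem_span_singleton] at hm2
        obtain ⟨r, rfl⟩ := hm2
        rw [map_smul, hψx', ← Submodule.Quotient.mk_smul, smul_eq_mul, mul_one,
          Submodule.Quotient.mk_eq_zero, Ideal.mem_span_singleton] at hm1
        obtain ⟨r', rfl⟩ := hm1
        rw [Submodule.mem_bot, mul_comm, mul_smul, hdx', smul_zero]
      · rintro ⟨a, q⟩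
        obtain ⟨m₀, rfl⟩ := N.mkQ_surjective q
        obtain ⟨r, hr⟩ := Submodule.Quotient.mk_surjective _ (a - ψ m₀)
        refine ⟨m₀ + r • x', ?_⟩
        show (ψ (m₀ + r • x'), N.mkQ (m₀ + r • x')) = (a, N.mkQ m₀)
        refine Prod.ext ?_ ?_
        · show ψ (m₀ + r • x') = a
          rw [map_add, map_smul, hψx', ← Submodule.Quotient.mk_smul, smul_eq_mul, mul_one, hr]
          abel
        · show N.mkQ (m₀ + r • x') = N.mkQ m₀
          rw [map_add, map_smul]
          have h0 : N.mkQ x' = 0 := by
            rw [Submodule.mkQ_apply, Submodule.Quotient.mk_eq_zero]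
            exact Submodule.mem_span_singleton_self x'
          rw [h0, smul_zero, add_zero]
    refine ⟨Fin.cons d f, ⟨?_⟩⟩
    exact ((LinearEquiv.ofBijective Φ hΦ).trans
      (LinearEquiv.prodCongr (LinearEquiv.refl R _) e')).trans
      (Fin.consLinearEquiv R (fun i => R ⧸ Ideal.span {(Fin.cons d f : Fin (n+1) → R) i}))

theorem S2015 (R : Type u) [CommRing R] [Nontrivial R] (h : ∀ a b : R, a ∣ b ∨ b ∣ a)
    (M : Type u) [AddCommGroup M] [Module R M] [Module.FinitePresentation R M] :
    ∃ (n : ℕ) (f : Fin n → R), Nonempty (M ≃ₗ[R] ((i : Fin n) → R ⧸ Ideal.span {f i})) := by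
  obtain ⟨n, x, hx⟩ := Module.Finite.exists_fin (R := R) (M := M)
  obtain ⟨f, hf⟩ := decomp_aux h n M x hx
  exact ⟨n, f, hf⟩

end Groth.Agent.H9.Chain
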