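import Mathlib
import Groth.Agent.Lib.Helper9.Misc.Chain1

/-! Helper9: f.p. modules over locally-chain rings are summands of sums of cyclic modules. -/

namespace Groth.Agent.H9.Chain

universe u

lemma fp_quot_span {R : Type u} [CommRing R] (a : R) :
    Module.FinitePresentation R (R ⧸ (Ideal.span {a} : Ideal R)) :=
  Module.finitePresentation_of_surjective (Submodule.mkQ (Ideal.span {a} : Ideal R))
    (Submodule.mkQ_surjective _)
    (by rw [Submodule.ker_mkQ]; exact Submodule.fg_span_singleton a)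

theorem local_step (R : Type u) [CommRing R] (m : Ideal R) [m.IsMaximal]
    (h : ∀ a b : Localization.AtPrime m, a ∣ b ∨ b ∣ a)
    (M : Type u) [AddCommGroup M] [Module R M] [Module.FinitePresentation R M] :
    ∃ (n : ℕ) (f : Fin n → R) (φ : ((i : Fin n) → R ⧸ (Ideal.span {f i} : Ideal R)) →ₗ[R] M)
      (ψ : M →ₗ[R] ((i : Fin n) → R ⧸ (Ideal.span {f i} : Ideal R))) (u : R),
      u ∉ m ∧ φ ∘ₗ ψ = u • LinearMap.id := by
  classical
  set S := m.primeCompl with hS
  set Rm := Localization.AtPrime m with hRm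
  set Mm := LocalizedModule S M with hMm
  obtain ⟨n, g, ⟨α⟩⟩ := S2015 Rm h Mm
  have hsurj : ∀ i, ∃ (a : R) (s : S), g i * algebraMap R Rm s = algebraMap R Rm a := by
    intro i
    obtain ⟨⟨a, s⟩, hs⟩ := IsLocalization.surj S (g i)
    exact ⟨a, s, hs⟩
  choose f s hfs using hsurj
  have hJ : ∀ i, Submodule.localized' Rm S (Algebra.linearMap R Rm) (Ideal.span {f i} : Ideal R)
      = (Ideal.span {g i} : Ideal Rm) := by
    intro i
    rw [Ideal.localized'_eq_map, Ideal.map_span, Set.image_singleton, ← hfs i]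
    exact Ideal.span_singleton_mul_right_unit (IsLocalization.map_units Rm (s i)) (g i)
  have hfp : ∀ i, Module.FinitePresentation R (R ⧸ (Ideal.span {f i} : Ideal R)) :=
    fun i => fp_quot_span (f i)
  set lam : ((i : Fin n) → R ⧸ (Ideal.span {f i} : Ideal R)) →ₗ[R]
      ((i : Fin n) → Rm ⧸ Submodule.localized' Rm S (Algebra.linearMap R Rm)
        (Ideal.span {f i} : Ideal R)) :=
    LinearMap.pi fun i => ((Ideal.span {f i} : Ideal R).toLocalizedQuotient' Rm S
      (Algebra.linearMap R Rm)) ∘ₗ LinearMap.proj i with hlam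
  have hloc : IsLocalizedModule S lam := by
    rw [hlam]; infer_instance
  set β : ((i : Fin n) → Rm ⧸ Submodule.localized' Rm S (Algebra.linearMap R Rm)
        (Ideal.span {f i} : Ideal R)) ≃ₗ[Rm] ((i : Fin n) → Rm ⧸ (Ideal.span {g i} : Ideal Rm)) :=
    LinearEquiv.piCongrRight fun i => Submodule.quotEquivOfEq _ _ (hJ i) with hβ
  set γ := (α.trans β.symm).restrictScalars R with hγ
  set ιM : M →ₗ[R] Mm := LocalizedModule.mkLinearMap S M with hιM
  obtain ⟨ψ, s₁, hψ⟩ := Module.FinitePresentation.exists_lift_of_isLocalizedModule S lam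
    (γ.toLinearMap ∘ₗ ιM)
  obtain ⟨φ, s₂, hφ⟩ := Module.FinitePresentation.exists_lift_of_isLocalizedModule S ιM
    (γ.symm.toLinearMap ∘ₗ lam)
  have hcomp : ιM ∘ₗ (φ ∘ₗ ψ) = ιM ∘ₗ (((s₂ : R) * (s₁ : R)) • LinearMap.id) := by
    rw [← LinearMap.comp_assoc, hφ, LinearMap.smul_comp, LinearMap.comp_assoc, hψ,
      LinearMap.comp_smul, ← LinearMap.comp_assoc]
    ext x
    simp [mul_smul, Submonoid.smul_def]
  obtain ⟨w, hw⟩ := Module.Finite.exists_smul_of_comp_eq_of_isLocalizedModule S ιM _ _ hcomp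
  refine ⟨n, f, φ, (w : R) • ψ, (w : R) * ((s₂ : R) * (s₁ : R)), ?_, ?_⟩
  · exact (S.mul_mem w.2 (S.mul_mem s₂.2 s₁.2))
  · rw [LinearMap.comp_smul]
    have := hw
    simp only [Submonoid.smul_def] at this
    rw [this, smul_smul]

section glue

variable (R : Type u) [CommRing R] (M : Type u) [AddCommGroup M] [Module R M]

/-- `u • id_M` factors through a finite product of cyclic modules. -/
def Good (u : R) : Prop :=
  ∃ (ι : Type) (_ : Fintype ι) (f : ι → R)
    (φ : ((i : ι) → R ⧸ (Ideal.span {f i} : Ideal R)) →ₗ[R] M)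
    (ψ : M →ₗ[R] ((i : ι) → R ⧸ (Ideal.span {f i} : Ideal R))), φ ∘ₗ ψ = u • LinearMap.id

lemma good_zero : Good R M 0 :=
  ⟨Empty, inferInstance, fun _ => 0, 0, 0, by simp⟩

variable {R M}

lemma good_smul {u : R} (a : R) (hu : Good R M u) : Good R M (a * u) := by
  obtain ⟨ι, _, f, φ, ψ, h⟩ := hu
  exact ⟨ι, inferInstance, f, φ, a • ψ, by rw [LinearMap.comp_smul, h, smul_smul]⟩

lemma good_add {u v : R} (hu : Good R M u) (hv : Good R M v) : Good R M (u + v) := by
  obtain ⟨ι, _, f, φ, ψ, h⟩ := hu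
  obtain ⟨ι', _, f', φ', ψ', h'⟩ := hv
  let e := LinearEquiv.sumPiEquivProdPi R ι ι'
    (fun s => R ⧸ (Ideal.span {Sum.elim f f' s} : Ideal R))
  refine ⟨ι ⊕ ι', inferInstance, Sum.elim f f', (φ.coprod φ') ∘ₗ e.toLinearMap,
    e.symm.toLinearMap ∘ₗ (ψ.prod ψ'), ?_⟩
  ext x
  have h1 := LinearMap.congr_fun h x
  have h2 := LinearMap.congr_fun h' x
  simp only [LinearMap.comp_apply, LinearMap.smul_apply, LinearMap.id_apply] at h1 h2
  show φ.coprod φ' (e (e.symm (ψ x, ψ' x))) = (u + v) • x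
  rw [LinearEquiv.apply_symm_apply]
  show φ (ψ x) + φ' (ψ' x) = (u + v) • x
  rw [h1, h2, add_smul]

variable (R M) in
/-- the ideal of good elements -/
def goodIdeal : Ideal R where
  carrier := {u | Good R M u}
  add_mem' := fun ha hb => good_add ha hb
  zero_mem' := good_zero R M
  smul_mem' := fun a _ hu => good_smul a hu

lemma retract_equiv {P : Type u} [AddCommGroup P] [Module R P] (φ : P →ₗ[R] M) (ψ : M →ₗ[R] P)
    (h : φ ∘ₗ ψ = LinearMap.id) : Nonempty ((M × LinearMap.ker φ) ≃ₗ[R] P) := by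
  have h' : ∀ x, φ (ψ x) = x := fun x => LinearMap.congr_fun h x
  refine ⟨LinearEquiv.ofBijective (ψ.coprod (LinearMap.ker φ).subtype) ⟨?_, ?_⟩⟩
  · rw [← LinearMap.ker_eq_bot, eq_bot_iff]
    rintro ⟨a, k⟩ hak
    rw [LinearMap.mem_ker, LinearMap.coprod_apply, Submodule.subtype_apply] at hak
    have h1 := congrArg φ hak
    rw [map_add, h', map_zero, LinearMap.mem_ker.mp k.2, add_zero] at h1
    subst h1
    rw [map_zero, zero_add] at hak
    rw [Submodule.mem_bot, Prod.mk_eq_zero]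
    exact ⟨rfl, Subtype.ext hak⟩
  · intro p
    refine ⟨(φ p, ⟨p - ψ (φ p), ?_⟩), ?_⟩
    · rw [LinearMap.mem_ker, map_sub, h', sub_self]
    · rw [LinearMap.coprod_apply, Submodule.subtype_apply]
      exact add_sub_cancel _ _

end glue

theorem S2016 (R : Type u) [CommRing R]
    (h : ∀ (m : Ideal R) [m.IsMaximal], ∀ a b : Localization.AtPrime m, a ∣ b ∨ b ∣ a)
    (M : Type u) [AddCommGroup M] [Module R M] [Module.FinitePresentation R M] :
    ∃ (n : ℕ) (f : Fin n → R) (N : Type u) (_ : AddCommGroup N) (_ : Module R N),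
      Nonempty ((M × N) ≃ₗ[R] ((i : Fin n) → R ⧸ Ideal.span {f i})) := by
  classical
  have htop : goodIdeal R M = ⊤ := by
    by_contra hne
    obtain ⟨m, hm, hle⟩ := Ideal.exists_le_maximal _ hne
    obtain ⟨n, f, φ, ψ, u, hu, hφψ⟩ := local_step R m (h m) M
    exact hu (hle ⟨Fin n, inferInstance, f, φ, ψ, hφψ⟩)
  have h1 : Good R M 1 := by
    have : (1 : R) ∈ goodIdeal R M := by rw [htop]; trivial
    exact this
  obtain ⟨ι, _, f, φ, ψ, hφψ⟩ := h1
  rw [one_smul] at hφψ
  let e := Fintype.equivFin ι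
  let E := LinearEquiv.piCongrLeft' R (fun i => R ⧸ (Ideal.span {f i} : Ideal R)) e
  obtain ⟨F⟩ := retract_equiv φ ψ hφψ
  exact ⟨Fintype.card ι, fun k => f (e.symm k), LinearMap.ker φ, inferInstance, inferInstance,
    ⟨F.trans E⟩⟩

end Groth.Agent.H9.Chain
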