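import Mathlib
set_option autoImplicit false
set_option linter.unusedSectionVars false
set_option linter.unusedVariables false

namespace Groth.Agent.H9.ChartTr

open Polynomial

universe u

variable {k : Type u} [CommRing k] (d n : ℕ)

local notation "PP" => MvPolynomial (Fin d ⊕ Fin n) k

theorem term_eq (N : ℕ) (m : Fin d ⊕ Fin n →₀ ℕ) (a : k)
    (hm : ∑ i : Fin d, m (Sum.inl i) ≤ N) :
    (C (MvPolynomial.C a) : PP[X]) * X ^ (N - ∑ i : Fin d, m (Sum.inl i)) *
      (∏ i : Fin d, (X * C (MvPolynomial.X (Sum.inl i))) ^ m (Sum.inl i)) *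
      ∏ j : Fin n, C (MvPolynomial.X (Sum.inr j)) ^ m (Sum.inr j) =
    X ^ N * C (MvPolynomial.monomial m a) := by
  have h1 : (∏ i : Fin d, (X * C (MvPolynomial.X (Sum.inl i)) : PP[X]) ^ m (Sum.inl i)) =
      X ^ (∑ i : Fin d, m (Sum.inl i)) *
        C (∏ i : Fin d, MvPolynomial.X (Sum.inl i) ^ m (Sum.inl i)) := by
    simp only [mul_pow, Finset.prod_mul_distrib, Finset.prod_pow_eq_pow_sum, map_prod, map_pow]
  have h2 : (MvPolynomial.monomial m a : PP) = MvPolynomial.C a *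
      ((∏ i : Fin d, MvPolynomial.X (Sum.inl i) ^ m (Sum.inl i)) *
        ∏ j : Fin n, MvPolynomial.X (Sum.inr j) ^ m (Sum.inr j)) := by
    rw [MvPolynomial.monomial_eq, Finsupp.prod_fintype _ _ (fun i => pow_zero _),
      Fintype.prod_sum_type]
  rw [h1, h2]
  have h3 : (X : PP[X]) ^ N = X ^ (N - ∑ i : Fin d, m (Sum.inl i)) *
      X ^ (∑ i : Fin d, m (Sum.inl i)) := by
    rw [← pow_add, Nat.sub_add_cancel hm]
  rw [h3]
  simp only [map_mul, map_prod, map_pow]
  ring

theorem term_congr (N : ℕ) (W : PP) (v : Fin d → k) (m : Fin d ⊕ Fin n →₀ ℕ) (a : k) :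
    (C (MvPolynomial.C a) : PP[X]) * X ^ (N - ∑ i : Fin d, m (Sum.inl i)) *
      (∏ i : Fin d, (X * C (MvPolynomial.X (Sum.inl i)) + C (W * MvPolynomial.C (v i))) ^
        m (Sum.inl i)) *
      ∏ j : Fin n, C (MvPolynomial.X (Sum.inr j)) ^ m (Sum.inr j) -
    (C (MvPolynomial.C a) : PP[X]) * X ^ (N - ∑ i : Fin d, m (Sum.inl i)) *
      (∏ i : Fin d, (X * C (MvPolynomial.X (Sum.inl i))) ^ m (Sum.inl i)) *
      ∏ j : Fin n, C (MvPolynomial.X (Sum.inr j)) ^ m (Sum.inr j) ∈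
      Ideal.span {(C W : PP[X])} := by
  rw [← Ideal.Quotient.eq]
  have h0 : Ideal.Quotient.mk (Ideal.span {(C W : PP[X])}) (C W) = 0 :=
    Ideal.Quotient.eq_zero_iff_mem.2 (Ideal.subset_span rfl)
  have h1 : ∀ i : Fin d, Ideal.Quotient.mk (Ideal.span {(C W : PP[X])})
      (X * C (MvPolynomial.X (Sum.inl i)) + C (W * MvPolynomial.C (v i))) =
      Ideal.Quotient.mk (Ideal.span {(C W : PP[X])}) (X * C (MvPolynomial.X (Sum.inl i))) := by
    intro i
    rw [Ideal.Quotient.eq]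
    refine Ideal.mem_span_singleton'.2 ⟨C (MvPolynomial.C (v i)), ?_⟩
    rw [C_mul (a := W)]
    ring
  have hprod : Ideal.Quotient.mk (Ideal.span {(C W : PP[X])})
      (∏ i : Fin d, (X * C (MvPolynomial.X (Sum.inl i)) + C (W * MvPolynomial.C (v i))) ^
        m (Sum.inl i)) =
      Ideal.Quotient.mk (Ideal.span {(C W : PP[X])})
      (∏ i : Fin d, (X * C (MvPolynomial.X (Sum.inl i))) ^ m (Sum.inl i)) := by
    rw [map_prod, map_prod]
    exact Finset.prod_congr rfl (fun i _ => by rw [map_pow, map_pow, h1 i])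
  rw [map_mul, map_mul, hprod, ← map_mul, ← map_mul]

theorem phi_congr (N : ℕ) (W : PP) (v : Fin d → k) (F : PP)
    (hdeg : ∀ m ∈ F.support, ∑ i : Fin d, m (Sum.inl i) ≤ N) :
    (∑ m ∈ F.support,
          Polynomial.C (MvPolynomial.C (MvPolynomial.coeff m F)) *
            Polynomial.X ^ (N - ∑ i : Fin d, m (Sum.inl i)) *
            (∏ i : Fin d, (Polynomial.X * Polynomial.C (MvPolynomial.X (Sum.inl i)) +
                Polynomial.C (W * MvPolynomial.C (v i))) ^ m (Sum.inl i)) *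
            ∏ j : Fin n, Polynomial.C (MvPolynomial.X (Sum.inr j)) ^ m (Sum.inr j) : PP[X]) -
      X ^ N * C F ∈ Ideal.span {(C W : PP[X])} := by
  have hfl : (X : PP[X]) ^ N * C F = ∑ m ∈ F.support,
      X ^ N * C (MvPolynomial.monomial m (MvPolynomial.coeff m F)) := by
    conv_lhs => rw [MvPolynomial.as_sum F]
    rw [map_sum, Finset.mul_sum]
  rw [hfl, ← Finset.sum_sub_distrib]
  apply Ideal.sum_mem
  intro m hm
  rw [← term_eq d n N m _ (hdeg m hm)]
  exact term_congr d n N W v m _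

theorem fin_alg {S : Type*} [CommRing S] (Xv ζc Uc Ψ : S) (cc : ℕ → S) (N s : ℕ)
    (hN : 0 < N) (hs : N ≤ s) :
    (Xv * ζc) ^ N + ∑ i ∈ Finset.Icc 1 N,
        (fun i => Xv ^ i * cc i + (if i = N then Uc ^ (s - N) * Ψ else 0)) i *
          (Xv * ζc) ^ (N - i) * Uc ^ i =
      Xv ^ N * (ζc ^ N + ∑ i ∈ Finset.Icc 1 N, cc i * ζc ^ (N - i) * Uc ^ i) + Ψ * Uc ^ s := by
  have hsplit : ∀ i ∈ Finset.Icc 1 N,
      (fun i => Xv ^ i * cc i + (if i = N then Uc ^ (s - N) * Ψ else 0)) i *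
          (Xv * ζc) ^ (N - i) * Uc ^ i =
      Xv ^ N * (cc i * ζc ^ (N - i) * Uc ^ i) +
        (if i = N then Ψ * Uc ^ s else 0) := by
    intro i hi
    have hi' := (Finset.mem_Icc.1 hi).2
    have hX : Xv ^ N = Xv ^ i * Xv ^ (N - i) := by
      rw [← pow_add, Nat.add_sub_cancel' hi']
    by_cases h : i = N
    · subst h
      have hs' : Uc ^ s = Uc ^ (s - i) * Uc ^ i := by
        rw [← pow_add, Nat.sub_add_cancel hs]
      simp only [if_true, Nat.sub_self, pow_zero, mul_one, hs']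
      ring
    · simp only [if_neg h, add_zero, hX, mul_pow]
      ring
  rw [Finset.sum_congr rfl hsplit, Finset.sum_add_distrib, Finset.sum_ite_eq',
    if_pos (Finset.mem_Icc.2 ⟨hN, le_refl N⟩), mul_add, Finset.mul_sum, mul_pow]
  ring

theorem result'
    (u : MvPolynomial (Fin d) k) (v : Fin d → k)
    (J : Finset (Fin n)) (N s : ℕ) (hs : N ≤ s)
    {Λ : Type u} [Fintype Λ] (f : Λ → MvPolynomial (Fin d ⊕ Fin n) k)
    (hdeg : ∀ l, ∀ m ∈ (f l).support, ∑ i : Fin d, m (Sum.inl i) ≤ N)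
    (c : ℕ → MvPolynomial (Fin d ⊕ Fin n) k)
    (hE : (∏ j ∈ J, MvPolynomial.X (Sum.inr j)) ^ N +
        ∑ i ∈ Finset.Icc 1 N, c i * (∏ j ∈ J, MvPolynomial.X (Sum.inr j)) ^ (N - i) *
          MvPolynomial.rename Sum.inl u ^ i ∈ Ideal.span (Set.range f)) :
    ∃ c' : ℕ → Polynomial (MvPolynomial (Fin d ⊕ Fin n) k),
      (Polynomial.X * Polynomial.C (∏ j ∈ J, MvPolynomial.X (Sum.inr j))) ^ N +
        ∑ i ∈ Finset.Icc 1 N, c' i *
          (Polynomial.X * Polynomial.C (∏ j ∈ J, MvPolynomial.X (Sum.inr j))) ^ (N - i) *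
            Polynomial.C (MvPolynomial.rename Sum.inl u) ^ i ∈
      Ideal.span (Set.range fun l : Λ =>
        ∑ m ∈ (f l).support,
          Polynomial.C (MvPolynomial.C (MvPolynomial.coeff m (f l))) *
            Polynomial.X ^ (N - ∑ i : Fin d, m (Sum.inl i)) *
            (∏ i : Fin d, (Polynomial.X * Polynomial.C (MvPolynomial.X (Sum.inl i)) +
                Polynomial.C (MvPolynomial.rename Sum.inl u ^ s * MvPolynomial.C (v i))) ^ m (Sum.inl i)) *
            ∏ j : Fin n, Polynomial.C (MvPolynomial.X (Sum.inr j)) ^ m (Sum.inr j)) := by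
  classical
  rcases Nat.eq_zero_or_pos N with rfl | hN
  · -- N = 0
    refine ⟨fun _ => 0, ?_⟩
    have hE' : (1 : PP) ∈ Ideal.span (Set.range f) := by simpa using hE
    obtain ⟨g, hg⟩ := (Submodule.mem_span_range_iff_exists_fun _).1 hE'
    have hφ0 : ∀ l, (∑ m ∈ (f l).support,
          Polynomial.C (MvPolynomial.C (MvPolynomial.coeff m (f l))) *
            Polynomial.X ^ (0 - ∑ i : Fin d, m (Sum.inl i)) *
            (∏ i : Fin d, (Polynomial.X * Polynomial.C (MvPolynomial.X (Sum.inl i)) +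
                Polynomial.C (MvPolynomial.rename Sum.inl u ^ s * MvPolynomial.C (v i))) ^ m (Sum.inl i)) *
            ∏ j : Fin n, Polynomial.C (MvPolynomial.X (Sum.inr j)) ^ m (Sum.inr j) : PP[X]) =
        C (f l) := by
      intro l
      conv_rhs => rw [MvPolynomial.as_sum (f l)]
      rw [map_sum]
      apply Finset.sum_congr rfl
      intro m hm
      have hm0 : ∀ i : Fin d, m (Sum.inl i) = 0 := by
        intro i
        have := hdeg l m hm
        have h2 : m (Sum.inl i) ≤ ∑ i : Fin d, m (Sum.inl i) :=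
          Finset.single_le_sum (f := fun i : Fin d => m (Sum.inl i))
            (fun _ _ => Nat.zero_le _) (Finset.mem_univ i)
        omega
      have e1 : (∏ i : Fin d, (X * C (MvPolynomial.X (Sum.inl i)) +
          C (MvPolynomial.rename Sum.inl u ^ s * MvPolynomial.C (v i))) ^ m (Sum.inl i) : PP[X]) =
          ∏ i : Fin d, (X * C (MvPolynomial.X (Sum.inl i))) ^ m (Sum.inl i) := by
        apply Finset.prod_congr rfl; intro i _; rw [hm0 i, pow_zero, pow_zero]
      rw [e1, term_eq d n 0 m _ (hdeg l m hm), pow_zero, one_mul]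
    rw [funext hφ0]
    have h1 : (1 : PP[X]) = ∑ l, C (g l) * C (f l) := by
      rw [← map_one C, ← hg, map_sum]
      exact Finset.sum_congr rfl (fun l _ => by rw [smul_eq_mul, map_mul])
    have h2 : (Polynomial.X * Polynomial.C (∏ j ∈ J, MvPolynomial.X (Sum.inr j)) : PP[X]) ^ 0 +
        ∑ i ∈ Finset.Icc 1 0, (fun _ => (0 : PP[X])) i *
          (Polynomial.X * Polynomial.C (∏ j ∈ J, MvPolynomial.X (Sum.inr j))) ^ (0 - i) *
            Polynomial.C (MvPolynomial.rename Sum.inl u) ^ i = 1 := by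
      simp
    rw [h2, h1]
    exact Ideal.sum_mem _ (fun l _ => Ideal.mul_mem_left _ _ (Ideal.subset_span ⟨l, rfl⟩))
  · -- N ≥ 1
    have hcong : ∀ l, (∑ m ∈ (f l).support,
          Polynomial.C (MvPolynomial.C (MvPolynomial.coeff m (f l))) *
            Polynomial.X ^ (N - ∑ i : Fin d, m (Sum.inl i)) *
            (∏ i : Fin d, (Polynomial.X * Polynomial.C (MvPolynomial.X (Sum.inl i)) +
                Polynomial.C (MvPolynomial.rename Sum.inl u ^ s * MvPolynomial.C (v i))) ^ m (Sum.inl i)) *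
            ∏ j : Fin n, Polynomial.C (MvPolynomial.X (Sum.inr j)) ^ m (Sum.inr j) : PP[X]) -
        X ^ N * C (f l) ∈ Ideal.span {(C (MvPolynomial.rename Sum.inl u ^ s) : PP[X])} :=
      fun l => phi_congr d n N (MvPolynomial.rename Sum.inl u ^ s) v (f l) (hdeg l)
    obtain ⟨g, hg⟩ := (Submodule.mem_span_range_iff_exists_fun _).1 hE
    generalize hφ : (fun l : Λ => (∑ m ∈ (f l).support,
          Polynomial.C (MvPolynomial.C (MvPolynomial.coeff m (f l))) *
            Polynomial.X ^ (N - ∑ i : Fin d, m (Sum.inl i)) *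
            (∏ i : Fin d, (Polynomial.X * Polynomial.C (MvPolynomial.X (Sum.inl i)) +
                Polynomial.C (MvPolynomial.rename Sum.inl u ^ s * MvPolynomial.C (v i))) ^ m (Sum.inl i)) *
            ∏ j : Fin n, Polynomial.C (MvPolynomial.X (Sum.inr j)) ^ m (Sum.inr j) : PP[X])) = φ
    have hcong' : ∀ l, φ l - X ^ N * C (f l) ∈
        Ideal.span {(C (MvPolynomial.rename Sum.inl u ^ s) : PP[X])} := by
      intro l; rw [← hφ]; exact hcong l
    clear hcong hφ
    generalize hζ : (∏ j ∈ J, MvPolynomial.X (Sum.inr j) : PP) = ζ at *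
    generalize hU : (MvPolynomial.rename Sum.inl u : PP) = U at *
    have hY : ∑ l, C (g l) * φ l ∈ Ideal.span (Set.range φ) :=
      Ideal.sum_mem _ (fun l _ => Ideal.mul_mem_left _ _ (Ideal.subset_span ⟨l, rfl⟩))
    have hYcong : ∑ l, C (g l) * φ l -
        X ^ N * C (ζ ^ N + ∑ i ∈ Finset.Icc 1 N, c i * ζ ^ (N - i) * U ^ i) ∈
        Ideal.span {(C (U ^ s) : PP[X])} := by
      rw [← hg, map_sum, Finset.mul_sum, ← Finset.sum_sub_distrib]
      apply Ideal.sum_mem
      intro l _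
      have : C (g l) * φ l - X ^ N * C (g l • f l) = C (g l) * (φ l - X ^ N * C (f l)) := by
        rw [smul_eq_mul, map_mul]; ring
      rw [this]
      exact Ideal.mul_mem_left _ _ (hcong' l)
    obtain ⟨Ψ, hΨ⟩ := Ideal.mem_span_singleton'.1 hYcong
    refine ⟨fun i => X ^ i * C (c i) + (if i = N then C U ^ (s - N) * Ψ else 0), ?_⟩
    have hfin := fin_alg (X : PP[X]) (C ζ) (C U) Ψ (fun i => C (c i)) N s hN hs
    have hCE : (C (ζ ^ N + ∑ i ∈ Finset.Icc 1 N, c i * ζ ^ (N - i) * U ^ i) : PP[X]) =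
        C ζ ^ N + ∑ i ∈ Finset.Icc 1 N, C (c i) * C ζ ^ (N - i) * C U ^ i := by
      simp only [map_add, map_sum, map_mul, map_pow]
    rw [← hCE, ← map_pow C U s, hΨ] at hfin
    have : X ^ N * C (ζ ^ N + ∑ i ∈ Finset.Icc 1 N, c i * ζ ^ (N - i) * U ^ i) +
        (∑ l, C (g l) * φ l -
          X ^ N * C (ζ ^ N + ∑ i ∈ Finset.Icc 1 N, c i * ζ ^ (N - i) * U ^ i)) =
        ∑ l, C (g l) * φ l := by ring
    rw [this] at hfin
    rw [hfin]; exact hY

end Groth.Agent.H9.ChartTr
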