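import Mathlib

/-! Helper9: closed immersion locally of finite presentation iff ideal finitely generated on affines -/

namespace Groth.Agent.H9.ClImmFP

open CategoryTheory AlgebraicGeometry TopologicalSpace

universe u

set_option backward.isDefEq.respectTransparency.types false in
theorem main {X Y : Scheme.{u}} (j : X ⟶ Y) [IsClosedImmersion j] :
    LocallyOfFinitePresentation j ↔ ∀ U : Y.affineOpens, (RingHom.ker (j.app U).hom).FG := by
  have hsurj : ∀ U : Y.affineOpens, Function.Surjective (j.app U.1).hom :=
    fun U => j.app_surjective U.1 U.2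
  have key : ∀ U : Y.affineOpens,
      (RingHom.FinitePresentation (j.app U.1).hom ↔ (RingHom.ker (j.app U.1).hom).FG) := by
    intro U
    constructor
    · intro h
      let _ := (j.app U.1).hom.toAlgebra
      have h1 : Algebra.FinitePresentation Γ(Y, U.1) Γ(X, j ⁻¹ᵁ U.1) := h
      have h2 : Algebra.FinitePresentation Γ(Y, U.1) Γ(Y, U.1) := inferInstance
      exact Algebra.FinitePresentation.ker_fG_of_surjective (Algebra.ofId Γ(Y, U.1) Γ(X, j ⁻¹ᵁ U.1)) (hsurj U)
    · exact RingHom.FinitePresentation.of_surjective _ (hsurj U)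
  constructor
  · intro h U
    rw [← key]
    have := (HasRingHomProperty.iff_appLE (P := @LocallyOfFinitePresentation)).mp h U
      ⟨j ⁻¹ᵁ U.1, U.2.preimage j⟩ le_rfl
    rwa [Scheme.Hom.appLE_eq_app] at this
  · intro h
    rw [IsZariskiLocalAtTarget.iff_of_iSup_eq_top (P := @LocallyOfFinitePresentation) _
      (iSup_affineOpens_eq_top Y)]
    intro U
    have : IsAffine (j ⁻¹ᵁ U.1).toScheme := U.2.preimage j
    have : IsAffine U.1.toScheme := U.2
    rw [HasRingHomProperty.iff_of_isAffine (P := @LocallyOfFinitePresentation), morphismRestrict_appTop]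
    have hA : IsAffineOpen (U.1.ι ''ᵁ ⊤) := by
      rw [Scheme.Opens.ι_image_top]; exact U.2
    have h1 : RingHom.FinitePresentation (j.app (U.1.ι ''ᵁ ⊤)).hom :=
      (key ⟨_, hA⟩).mpr (h ⟨_, hA⟩)
    have h2 : RingHom.FinitePresentation
        (X.presheaf.map (eqToHom (image_morphismRestrict_preimage j U.1 ⊤)).op).hom :=
      RingHom.FinitePresentation.of_bijective ((ConcreteCategory.isIso_iff_bijective _).mp inferInstance)
    exact RingHom.FinitePresentation.comp h2 h1

end Groth.Agent.H9.ClImmFP
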