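import Mathlib

set_option autoImplicit false
universe u
open CategoryTheory Limits AlgebraicGeometry Topology

namespace Groth.Agent.H9.ClosedAct

/-- A section of a morphism to the spectrum of a field has closed range. -/
lemma isClosed_range_of_section {Z T : Scheme.{u}} (s : T ⟶ Z) (π : Z ⟶ T) (hs : s ≫ π = 𝟙 T)
    (Ω : Type u) [Field Ω] (e : T ≅ Spec (CommRingCat.of Ω)) : IsClosed (Set.range s.base) := by
  haveI : IsAffine T := IsAffine.of_isIso e.hom
  haveI : Subsingleton T := by
    have h1 : Function.Injective e.hom.base := (e.hom.homeomorph).injective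
    exact h1.subsingleton
  have hU : TopologicalSpace.IsOpenCover (fun i : Z.affineOpens => (i : Z.Opens)) :=
    iSup_affineOpens_eq_top Z
  rw [hU.isClosed_iff_coe_preimage]
  intro U
  by_cases hU' : ∃ t, s.base t ∈ U.1
  · obtain ⟨t₀, ht₀⟩ := hU'
    have hsub : Set.range s.base ⊆ Set.range U.1.ι.base := by
      rintro _ ⟨t, rfl⟩
      rw [Subsingleton.elim t t₀]
      simpa using ht₀
    set s' := IsOpenImmersion.lift U.1.ι s hsub with hs'def
    have hs' : s' ≫ U.1.ι = s := IsOpenImmersion.lift_fac _ _ _
    haveI : IsAffine U.1 := U.2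
    have hsurj : Function.Surjective s'.appTop := by
      have h1 : (U.1.ι ≫ π).appTop ≫ s'.appTop = 𝟙 _ := by
        rw [← Scheme.Hom.comp_appTop, ← Category.assoc, hs', hs]
        rfl
      intro a
      refine ⟨(U.1.ι ≫ π).appTop a, ?_⟩
      have := congrArg (fun m => m.hom a) h1
      simpa using this
    haveI : IsClosedImmersion s' := IsClosedImmersion.of_surjective_of_isAffine s' hsurj
    have hr : (Subtype.val ⁻¹' Set.range s.base : Set (U.1 : Z.Opens)) = Set.range s'.base := by
      ext z
      constructor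
      · rintro ⟨t, ht⟩
        refine ⟨t, ?_⟩
        apply U.1.ι.isOpenEmbedding.injective
        rw [← Scheme.Hom.comp_apply, hs', ht]
        rfl
      · rintro ⟨t, rfl⟩
        refine ⟨t, ?_⟩
        rw [← hs']
        rfl
    have h3 : IsClosed (Set.range s'.base) := s'.isClosedEmbedding.isClosed_range
    rw [← hr] at h3
    exact h3
  · have hr : (Subtype.val ⁻¹' Set.range s.base : Set (U.1 : Z.Opens)) = ∅ := by
      ext z
      simp only [Set.mem_preimage, Set.mem_range, Set.mem_empty_iff_false, iff_false]
      rintro ⟨t, ht⟩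
      exact hU' ⟨t, ht ▸ z.2⟩
    have h3 : IsClosed (∅ : Set (U.1 : Z.Opens)) := isClosed_empty
    rw [← hr] at h3
    exact h3

lemma isPullback_map {S G₀ X₀ T₀ : Scheme.{u}} (g : G₀ ⟶ S) (x : X₀ ⟶ S) (t : T₀ ⟶ S)
    (f : T₀ ⟶ X₀) (hf : f ≫ x = t) :
    IsPullback (pullback.map g t g x (𝟙 G₀) f (𝟙 S)
        (by rw [Category.comp_id, Category.id_comp]) (by rw [Category.comp_id, hf]))
      (pullback.snd g t) (pullback.snd g x) f := by
  have hright : IsPullback (pullback.fst g x) (pullback.snd g x) g x := IsPullback.of_hasPullback g x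
  have houter : IsPullback (pullback.map g t g x (𝟙 G₀) f (𝟙 S)
      (by rw [Category.comp_id, Category.id_comp]) (by rw [Category.comp_id, hf]) ≫
      pullback.fst g x) (pullback.snd g t) g (f ≫ x) := by
    have h0 : IsPullback (pullback.fst g t) (pullback.snd g t) g t := IsPullback.of_hasPullback g t
    subst hf
    have e1 : pullback.map g (f ≫ x) g x (𝟙 G₀) f (𝟙 S)
        (by rw [Category.comp_id, Category.id_comp]) (by rw [Category.comp_id]) ≫ pullback.fst g x =
        pullback.fst g (f ≫ x) := (pullback.lift_fst _ _ _).trans (Category.comp_id _)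
    rw [e1]
    exact h0
  exact IsPullback.of_right houter (pullback.lift_snd _ _ _) hright

theorem main {S X₀ Y₀ T₀ P Q : Scheme.{u}} (x : X₀ ⟶ S) (y : Y₀ ⟶ S) (t : T₀ ⟶ S)
    (φ : X₀ ⟶ Y₀) (hw : φ ≫ y = x) (f : T₀ ⟶ X₀) (hf : f ≫ x = t)
    (σ p : P ⟶ X₀) (hσp : σ ≫ φ = p ≫ φ)
    (horb : Function.Surjective (pullback.lift σ p hσp).base)
    (k : Q ⟶ P) (qT : Q ⟶ T₀) (hQ : IsPullback k qT p f)
    (ψ : Q ⟶ pullback x t) (hψ1 : ψ ≫ pullback.fst x t = k ≫ σ)
    (hψ2 : ψ ≫ pullback.snd x t = qT)
    (Ω : Type u) [Field Ω] (e : T₀ ≅ Spec (CommRingCat.of Ω)) :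
    IsClosed (Set.range ψ.base) := by
  set φT : pullback x t ⟶ pullback y t :=
    pullback.map x t y t φ (𝟙 T₀) (𝟙 S) (by rw [Category.comp_id, hw])
      (by rw [Category.comp_id, Category.id_comp]) with hφT
  have hφT1 : φT ≫ pullback.fst y t = pullback.fst x t ≫ φ := pullback.lift_fst _ _ _
  have hφT2 : φT ≫ pullback.snd y t = pullback.snd x t :=
    (pullback.lift_snd _ _ _).trans (Category.comp_id _)
  set s : T₀ ⟶ pullback y t :=
    pullback.lift (f ≫ φ) (𝟙 _) (by rw [Category.assoc, hw, hf, Category.id_comp]) with hsdef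
  have hs1 : s ≫ pullback.fst y t = f ≫ φ := pullback.lift_fst _ _ _
  have hs2 : s ≫ pullback.snd y t = 𝟙 T₀ := pullback.lift_snd _ _ _
  have hclosed : IsClosed (Set.range s.base) := isClosed_range_of_section s _ hs2 Ω e
  have hrange : Set.range ψ.base = φT.base ⁻¹' (Set.range s.base) := by
    ext z
    constructor
    · rintro ⟨w, rfl⟩
      refine ⟨qT.base w, ?_⟩
      have e1 : ψ ≫ φT = qT ≫ s := by
        apply pullback.hom_ext
        · rw [Category.assoc, hφT1, ← Category.assoc, hψ1, Category.assoc, hσp, ← Category.assoc,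
            hQ.w, Category.assoc, Category.assoc, hs1]
        · rw [Category.assoc, hφT2, hψ2, Category.assoc, hs2, Category.comp_id]
      have := congrArg (fun m => m.base w) e1
      simpa using this.symm
    · rintro ⟨t₁, ht₁⟩
      obtain ⟨c, hc1, hc2⟩ := Scheme.Pullback.exists_preimage_pullback
        (f := φT) (g := s) z t₁ ht₁.symm
      have hκ : (pullback.fst φT s ≫ pullback.fst x t) ≫ φ = (pullback.snd φT s ≫ f) ≫ φ := by
        rw [Category.assoc, ← hφT1, ← Category.assoc, pullback.condition, Category.assoc, hs1,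
          Category.assoc]
      set κ : pullback φT s ⟶ pullback φ φ :=
        pullback.lift (pullback.fst φT s ≫ pullback.fst x t) (pullback.snd φT s ≫ f) hκ with hκdef
      obtain ⟨u, hu⟩ := horb (κ.base c)
      obtain ⟨v, hv1, hv2⟩ := Scheme.Pullback.exists_preimage_pullback
        (f := pullback.lift σ p hσp) (g := κ) u c hu
      have hrel : pullback.fst (pullback.lift σ p hσp) κ ≫ p =
          (pullback.snd (pullback.lift σ p hσp) κ ≫ pullback.snd φT s) ≫ f := by
        have h1 : pullback.fst (pullback.lift σ p hσp) κ ≫ p =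
            pullback.fst (pullback.lift σ p hσp) κ ≫ pullback.lift σ p hσp ≫ pullback.snd φ φ := by
          rw [pullback.lift_snd]
        rw [h1, ← Category.assoc, pullback.condition, Category.assoc, hκdef, pullback.lift_snd,
          Category.assoc]
      set m := hQ.lift _ _ hrel with hmdef
      have hm1 : m ≫ k = pullback.fst (pullback.lift σ p hσp) κ := hQ.lift_fst _ _ _
      have hm2 : m ≫ qT = pullback.snd (pullback.lift σ p hσp) κ ≫ pullback.snd φT s :=
        hQ.lift_snd _ _ _
      have e2 : m ≫ ψ = pullback.snd (pullback.lift σ p hσp) κ ≫ pullback.fst φT s := by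
        apply pullback.hom_ext
        · have h1 : pullback.fst (pullback.lift σ p hσp) κ ≫ σ =
              pullback.fst (pullback.lift σ p hσp) κ ≫ pullback.lift σ p hσp ≫
                pullback.fst φ φ := by
            rw [pullback.lift_fst]
          rw [Category.assoc, hψ1, ← Category.assoc, hm1, h1, ← Category.assoc, pullback.condition,
            Category.assoc, hκdef, pullback.lift_fst]
          simp only [Category.assoc]
        · have h2 : pullback.fst φT s ≫ pullback.snd x t = pullback.snd φT s := by
            rw [← hφT2, ← Category.assoc, pullback.condition, Category.assoc, hs2,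
              Category.comp_id]
          rw [Category.assoc, hψ2, hm2, Category.assoc, h2]
      refine ⟨m.base v, ?_⟩
      have := congrArg (fun m => m.base v) e2
      simp only [Scheme.Hom.comp_base, TopCat.hom_comp, ContinuousMap.comp_apply] at this
      rw [this, hv2, hc1]
  rw [hrange]
  exact hclosed.preimage φT.base.hom.continuous

end Groth.Agent.H9.ClosedAct
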