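import Mathlib

/-! Helper9: structured arrows under a localization with right calculus of fractions are cofiltered -/

namespace Groth.Agent.H9.CofiltLoc

open CategoryTheory

universe v u v' u'

theorem main {C : Type u}
    [Category.{v} C] {D : Type u'} [Category.{v'} D] (S : MorphismProperty C)
    [S.HasRightCalculusOfFractions] (L : C ⥤ D) [L.IsLocalization S] (X : C) :
    IsCofiltered (StructuredArrow (L.obj X) L) := by
  have hinv := Localization.inverts L S
  have hne : Nonempty (StructuredArrow (L.obj X) L) := ⟨StructuredArrow.mk (𝟙 (L.obj X))⟩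
  refine { cone_objs := ?_, cone_maps := ?_, nonempty := hne }
  · intro A B
    obtain ⟨φ₁, h₁⟩ := Localization.exists_rightFraction L S A.hom
    obtain ⟨φ₂, h₂⟩ := Localization.exists_rightFraction L S B.hom
    -- Ore condition
    obtain ⟨ψ, hψ⟩ := (MorphismProperty.LeftFraction.mk φ₁.s φ₂.s φ₂.hs).exists_rightFraction
    dsimp at hψ
    -- ψ.s : Z ⟶ φ₁.X' in S, ψ.f : Z ⟶ φ₂.X', ψ.s ≫ φ₁.s = ψ.f ≫ φ₂.s
    have ht : S (ψ.s ≫ φ₁.s) := S.comp_mem _ _ ψ.hs φ₁.hs
    have : IsIso (L.map (ψ.s ≫ φ₁.s)) := hinv _ ht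
    have : IsIso (L.map φ₁.s) := hinv _ φ₁.hs
    have : IsIso (L.map φ₂.s) := hinv _ φ₂.hs
    refine ⟨StructuredArrow.mk (Y := ψ.X') (inv (L.map (ψ.s ≫ φ₁.s))),
      StructuredArrow.homMk (ψ.s ≫ φ₁.f) ?_, StructuredArrow.homMk (ψ.f ≫ φ₂.f) ?_, trivial⟩
    · dsimp
      rw [h₁, MorphismProperty.RightFraction.map, IsIso.inv_comp_eq, L.map_comp, L.map_comp,
        Category.assoc, IsIso.hom_inv_id_assoc]
    · dsimp
      rw [h₂, MorphismProperty.RightFraction.map, IsIso.inv_comp_eq, hψ, L.map_comp, L.map_comp,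
        Category.assoc, IsIso.hom_inv_id_assoc]
  · intro A B f g
    obtain ⟨φ, h⟩ := Localization.exists_rightFraction L S A.hom
    have : IsIso (L.map φ.s) := hinv _ φ.hs
    have hf := StructuredArrow.w f
    have hg := StructuredArrow.w g
    have heq : L.map (φ.f ≫ f.right) = L.map (φ.f ≫ g.right) := by
      have e : A.hom ≫ L.map f.right = A.hom ≫ L.map g.right := by rw [hf, hg]
      rw [h, MorphismProperty.RightFraction.map, Category.assoc, Category.assoc,
        IsIso.inv_comp_eq, IsIso.hom_inv_id_assoc, ← L.map_comp, ← L.map_comp] at e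
      exact e
    obtain ⟨Z, t, ht, hteq⟩ := (MorphismProperty.map_eq_iff_precomp L S _ _).mp heq
    have hts : S (t ≫ φ.s) := S.comp_mem _ _ ht φ.hs
    have : IsIso (L.map (t ≫ φ.s)) := hinv _ hts
    refine ⟨StructuredArrow.mk (Y := Z) (inv (L.map (t ≫ φ.s))),
      StructuredArrow.homMk (t ≫ φ.f) ?_, ?_⟩
    · dsimp
      rw [h, MorphismProperty.RightFraction.map, IsIso.inv_comp_eq, L.map_comp, L.map_comp,
        Category.assoc, IsIso.hom_inv_id_assoc]
    · ext
      dsimp
      simpa using hteq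

end Groth.Agent.H9.CofiltLoc
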