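import Mathlib

/-! Helper9: preimage of Y in a compactification of a proper map -/

namespace Groth.Agent.H9.CompPre

open AlgebraicGeometry CategoryTheory TopologicalSpace

universe u

theorem main {k : Type u} [Field k] {X Y Xb Yb : Scheme.{u}} (a : Xb ⟶ Spec (CommRingCat.of k))
    (b : Yb ⟶ Spec (CommRingCat.of k)) [IsProper a] [IsProper b] (j : X ⟶ Xb) [IsOpenImmersion j]
    (hj : Dense (Set.range j.base)) (v : Y ⟶ Yb) [IsOpenImmersion v] (f : X ⟶ Y) [IsProper f]
    (fb : Xb ⟶ Yb) (hfb : fb ≫ b = a) (hsq : j ≫ fb = f ≫ v) :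
    fb ⁻¹ᵁ v.opensRange = j.opensRange := by
  set U : Xb.Opens := fb ⁻¹ᵁ v.opensRange with hU
  have hjU : Set.range j.base ⊆ Set.range U.ι.base := by
    rintro _ ⟨x, rfl⟩
    rw [Scheme.Opens.range_ι]
    change fb.base (j.base x) ∈ Set.range v.base
    refine ⟨f.base x, ?_⟩
    rw [← Scheme.Hom.comp_apply, ← Scheme.Hom.comp_apply, hsq]
  -- lift j to U
  let j' : X ⟶ U := IsOpenImmersion.lift U.ι j hjU
  have hj' : j' ≫ U.ι = j := IsOpenImmersion.lift_fac _ _ _
  -- the map g : U ⟶ Y
  have hgU : Set.range (U.ι ≫ fb).base ⊆ Set.range v.base := by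
    rintro _ ⟨x, rfl⟩
    exact x.2
  let g : (U : Scheme) ⟶ Y := IsOpenImmersion.lift v (U.ι ≫ fb) hgU
  have hg : g ≫ v = U.ι ≫ fb := IsOpenImmersion.lift_fac _ _ _
  have hfac : j' ≫ g = f := by
    rw [← cancel_mono v, Category.assoc, hg, ← Category.assoc, hj', hsq]
  -- g separated
  have hsepfb : IsSeparated fb := by
    have : IsSeparated (fb ≫ b) := by rw [hfb]; infer_instance
    exact IsSeparated.of_comp fb b
  have hsepg : IsSeparated g := by
    have : IsSeparated (g ≫ v) := by rw [hg]; infer_instance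
    exact IsSeparated.of_comp g v
  have hprop : IsProper j' := by
    have : IsProper (j' ≫ g) := by rw [hfac]; infer_instance
    exact IsProper.of_comp j' g
  -- range of j' is closed and dense
  have hclosed : IsClosed (Set.range j'.base) := j'.isClosedMap.isClosed_range
  have hdense : Dense (Set.range j'.base) := by
    have h1 : Set.range j'.base = U.ι.base ⁻¹' (Set.range j.base) := by
      ext z
      constructor
      · rintro ⟨x, rfl⟩
        exact ⟨x, by rw [← hj']; rfl⟩
      · rintro ⟨x, hx⟩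
        refine ⟨x, U.ι.isOpenEmbedding.injective ?_⟩
        rw [← hx, ← hj']; rfl
    rw [h1]
    exact hj.preimage U.ι.isOpenEmbedding.isOpenMap
  have huniv : Set.range j'.base = Set.univ := by
    rw [← hclosed.closure_eq, hdense.closure_eq]
  apply le_antisymm
  · intro z hz
    have : (⟨z, hz⟩ : U) ∈ Set.range j'.base := by rw [huniv]; trivial
    obtain ⟨x, hx⟩ := this
    refine ⟨x, ?_⟩
    have h2 : U.ι.base (j'.base x) = z := by rw [hx]; rfl
    rw [← h2, ← hj']
    rfl
  · rintro _ ⟨x, rfl⟩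
    have := hjU ⟨x, rfl⟩
    rw [Scheme.Opens.range_ι] at this
    exact this

end Groth.Agent.H9.CompPre
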