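import Mathlib

/-! Helper9: exactness can be checked on m-adic completions. -/

namespace Groth.Agent.H9.ComplExact

universe u

variable {A : Type u} [CommRing A]

lemma subsingleton_of_completions (Q : Type u) [AddCommGroup Q] [Module A Q] [Module.Finite A Q]
    (h : ∀ (m : Ideal A) [m.IsMaximal], Subsingleton (AdicCompletion m Q)) : Subsingleton Q := by
  by_contra hQ
  rw [not_subsingleton_iff_nontrivial] at hQ
  have hann : Module.annihilator A Q ≠ ⊤ := by
    intro htop
    have h1 : (1 : A) ∈ Module.annihilator A Q := htop ▸ Submodule.mem_top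
    rw [Module.mem_annihilator] at h1
    obtain ⟨x, y, hxy⟩ := hQ
    exact hxy (by rw [← one_smul A x, ← one_smul A y, h1 x, h1 y])
  obtain ⟨m, hm, hle⟩ := Ideal.exists_le_maximal _ hann
  have := h m
  have htop : (m • ⊤ : Submodule A Q) = ⊤ := by
    have hs : Function.Surjective (AdicCompletion.eval m Q 1) :=
      AdicCompletion.eval_surjective m Q 1
    have h2 : Subsingleton (Q ⧸ (m ^ 1 • ⊤ : Submodule A Q)) := hs.subsingleton
    rw [Submodule.Quotient.subsingleton_iff, pow_one] at h2
    exact h2
  obtain ⟨r, hr, hr0⟩ := Submodule.exists_sub_one_mem_and_smul_eq_zero_of_fg_of_le_smul m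
    (⊤ : Submodule A Q) Module.Finite.fg_top (by rw [htop])
  have hrann : r ∈ Module.annihilator A Q :=
    Module.mem_annihilator.2 fun q => hr0 q Submodule.mem_top
  have h1 : (1 : A) ∈ m := by
    have := m.sub_mem (hle hrann) hr
    simpa using this
  exact hm.ne_top ((Ideal.eq_top_iff_one _).2 h1)

lemma surjective_of_completions {P Q : Type u} [AddCommGroup P] [Module A P] [AddCommGroup Q]
    [Module A Q] [Module.Finite A Q] (u : P →ₗ[A] Q)
    (h : ∀ (m : Ideal A) [m.IsMaximal], Function.Surjective (AdicCompletion.map m u)) :
    Function.Surjective u := by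
  have : Subsingleton (Q ⧸ LinearMap.range u) := by
    apply subsingleton_of_completions (A := A)
    intro m _
    refine ⟨fun x y => ?_⟩
    have hz : ∀ z : AdicCompletion m (Q ⧸ LinearMap.range u), z = 0 := by
      intro z
      obtain ⟨w, rfl⟩ := AdicCompletion.map_surjective m
        (Submodule.mkQ_surjective (LinearMap.range u)) z
      obtain ⟨v, rfl⟩ := h m w
      rw [AdicCompletion.map_comp_apply]
      have : (LinearMap.range u).mkQ ∘ₗ u = 0 := LinearMap.range_mkQ_comp u
      rw [this, AdicCompletion.map_zero, LinearMap.zero_apply]
    rw [hz x, hz y]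
  rw [Submodule.Quotient.subsingleton_iff] at this
  exact LinearMap.range_eq_top.1 this

theorem main [IsNoetherianRing A]
    (M' M M'' : Type u) [AddCommGroup M'] [Module A M'] [AddCommGroup M] [Module A M]
    [AddCommGroup M''] [Module A M'']
    [Module.Finite A M'] [Module.Finite A M] [Module.Finite A M'']
    (f : M' →ₗ[A] M) (g : M →ₗ[A] M'') :
    (Function.Injective f ∧ Function.Exact f g ∧ Function.Surjective g) ↔
      ∀ (m : Ideal A) [m.IsMaximal],
        Function.Injective (AdicCompletion.map m f) ∧
          Function.Exact (AdicCompletion.map m f) (AdicCompletion.map m g) ∧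
          Function.Surjective (AdicCompletion.map m g) := by
  constructor
  · rintro ⟨hf, hfg, hg⟩ m _
    exact ⟨AdicCompletion.map_injective m hf, AdicCompletion.map_exact hf hfg hg,
      AdicCompletion.map_surjective m hg⟩
  · intro h
    have hinj : Function.Injective f := by
      rw [← LinearMap.ker_eq_bot, ← Submodule.subsingleton_iff_eq_bot]
      apply subsingleton_of_completions (A := A)
      intro m _
      have hι := AdicCompletion.map_injective m (Submodule.subtype_injective (LinearMap.ker f))
      refine ⟨fun x y => hι ?_⟩
      have hz : ∀ z, AdicCompletion.map m (LinearMap.ker f).subtype z = 0 := by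
        intro z
        apply (h m).1
        rw [AdicCompletion.map_comp_apply, map_zero]
        have : f ∘ₗ (LinearMap.ker f).subtype = 0 := LinearMap.comp_ker_subtype f
        rw [this, AdicCompletion.map_zero, LinearMap.zero_apply]
      rw [hz x, hz y]
    have hsurj : Function.Surjective g := surjective_of_completions g fun m _ => (h m).2.2
    have hcomp : g ∘ₗ f = 0 := by
      rw [← LinearMap.range_eq_bot, ← Submodule.subsingleton_iff_eq_bot]
      apply subsingleton_of_completions (A := A)
      intro m _
      have hι := AdicCompletion.map_injective m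
        (Submodule.subtype_injective (LinearMap.range (g ∘ₗ f)))
      refine ⟨fun x y => hι ?_⟩
      have hz : ∀ z, AdicCompletion.map m (LinearMap.range (g ∘ₗ f)).subtype z = 0 := by
        intro z
        obtain ⟨w, rfl⟩ := AdicCompletion.map_surjective m
          (LinearMap.surjective_rangeRestrict (g ∘ₗ f)) z
        rw [AdicCompletion.map_comp_apply]
        have : (LinearMap.range (g ∘ₗ f)).subtype ∘ₗ (g ∘ₗ f).rangeRestrict = g ∘ₗ f :=
          by ext x; rfl
        rw [this, ← AdicCompletion.map_comp_apply]
        exact (h m).2.1.apply_apply_eq_zero w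
      rw [hz x, hz y]
    have hex : Function.Exact f g := by
      let f' : M' →ₗ[A] LinearMap.ker g := f.codRestrict _ (fun x => LinearMap.congr_fun hcomp x)
      have hf' : Function.Surjective f' := by
        apply surjective_of_completions
        intro m _ y
        have hιinj := AdicCompletion.map_injective m
          (Submodule.subtype_injective (LinearMap.ker g))
        have h1 : AdicCompletion.map m g (AdicCompletion.map m (LinearMap.ker g).subtype y) = 0 := by
          rw [AdicCompletion.map_comp_apply]
          have : g ∘ₗ (LinearMap.ker g).subtype = 0 := LinearMap.comp_ker_subtype g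
          rw [this, AdicCompletion.map_zero, LinearMap.zero_apply]
        obtain ⟨x, hx⟩ := ((h m).2.1 _).1 h1
        refine ⟨x, hιinj ?_⟩
        rw [AdicCompletion.map_comp_apply, ← hx]
        rfl
      apply LinearMap.exact_of_comp_eq_zero_of_ker_le_range hcomp
      intro x hx
      obtain ⟨y, hy⟩ := hf' ⟨x, hx⟩
      exact ⟨y, congrArg Subtype.val hy⟩
    exact ⟨hinj, hex, hsurj⟩

end Groth.Agent.H9.ComplExact
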