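import Mathlib
import Groth.Agent.Lib.Helper9.Misc.AdicLe

/-! Helper9: completion of JM is J times completion of M. -/

namespace Groth.Agent.H9.ComplJM

universe u

section
variable {A : Type u} [CommRing A] (I : Ideal A)
  {M : Type u} [AddCommGroup M] [Module A M] {N : Type u} [AddCommGroup N] [Module A N]

lemma map_add' (f g : M →ₗ[A] N) :
    AdicCompletion.map I (f + g) = AdicCompletion.map I f + AdicCompletion.map I g := by
  ext a n
  simp

lemma map_smul' (c : A) (f : M →ₗ[A] N) (x : AdicCompletion I M) :
    AdicCompletion.map I (c • f) x = c • AdicCompletion.map I f x := by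
  induction x using AdicCompletion.induction_on with
  | _ a =>
  ext n
  simp [AdicCompletion.val_smul_apply]

lemma map_sum' {ι : Type*} (s : Finset ι) (f : ι → (M →ₗ[A] N)) :
    AdicCompletion.map I (∑ j ∈ s, f j) = ∑ j ∈ s, AdicCompletion.map I (f j) := by
  classical
  induction s using Finset.induction_on with
  | empty => simp
  | insert a s ha ih => rw [Finset.sum_insert ha, Finset.sum_insert ha, map_add', ih]
end

theorem main (A : Type u) [CommRing A] [IsNoetherianRing A] (I J : Ideal A)
    (M : Type u) [AddCommGroup M] [Module A M] [Module.Finite A M] :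
    Function.Injective (AdicCompletion.map I (J • (⊤ : Submodule A M)).subtype) ∧
      LinearMap.range (AdicCompletion.map I (J • (⊤ : Submodule A M)).subtype) =
        (J.map (algebraMap A (AdicCompletion I A))) •
          (⊤ : Submodule (AdicCompletion I A) (AdicCompletion I M)) := by
  refine ⟨AdicCompletion.map_injective I (Submodule.subtype_injective _), le_antisymm ?_ ?_⟩
  · rintro _ ⟨y, rfl⟩
    obtain ⟨r, g, hg⟩ := Submodule.fg_iff_exists_fin_generating_family.1
      (IsNoetherian.noetherian J)
    let σ0 : (Fin r → M) →ₗ[A] M := ∑ j, g j • LinearMap.proj j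
    have hσ0 : ∀ w, σ0 w ∈ (J • ⊤ : Submodule A M) := by
      intro w
      simp only [σ0, LinearMap.sum_apply, LinearMap.smul_apply, LinearMap.proj_apply]
      refine Submodule.sum_mem _ fun j _ => Submodule.smul_mem_smul ?_ Submodule.mem_top
      rw [← hg]; exact Submodule.subset_span ⟨j, rfl⟩
    let σ : (Fin r → M) →ₗ[A] ↥(J • ⊤ : Submodule A M) := σ0.codRestrict _ hσ0
    have hσ : Function.Surjective σ := by
      rintro ⟨x, hx⟩
      have hx' : x ∈ (Ideal.span (Set.range g)) • (⊤ : Submodule A M) := by
        have : Ideal.span (Set.range g) = J := hg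
        rw [this]; exact hx
      obtain ⟨w, -, hw⟩ := Groth.Agent.H9.AdicLe.exists_repr g ⊤ x hx'
      refine ⟨w, Subtype.ext ?_⟩
      simpa [σ, σ0] using hw
    obtain ⟨z, rfl⟩ := AdicCompletion.map_surjective I hσ y
    rw [AdicCompletion.map_comp_apply]
    have hcomp : (J • (⊤ : Submodule A M)).subtype ∘ₗ σ = σ0 := by
      ext w; rfl
    rw [hcomp]
    simp only [σ0, map_sum', LinearMap.sum_apply, map_smul']
    refine Submodule.sum_mem _ fun j _ => ?_
    rw [← algebraMap_smul (AdicCompletion I A) (g j)]
    refine Submodule.smul_mem_smul (Ideal.mem_map_of_mem _ ?_) Submodule.mem_top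
    rw [← hg]; exact Submodule.subset_span ⟨j, rfl⟩
  · refine Submodule.smul_le.2 fun c hc x _ => ?_
    induction hc using Submodule.span_induction with
    | mem c hc =>
      obtain ⟨a, ha, rfl⟩ := hc
      let μ : M →ₗ[A] ↥(J • ⊤ : Submodule A M) :=
        (a • LinearMap.id).codRestrict _
          (fun m => Submodule.smul_mem_smul ha Submodule.mem_top)
      refine ⟨AdicCompletion.map I μ x, ?_⟩
      rw [AdicCompletion.map_comp_apply]
      have hcomp : (J • (⊤ : Submodule A M)).subtype ∘ₗ μ = a • LinearMap.id := by
        ext w; rfl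
      rw [hcomp, map_smul', AdicCompletion.map_id, LinearMap.id_apply, algebraMap_smul]
    | zero => rw [zero_smul]; exact Submodule.zero_mem _
    | add c d _ _ hc hd => rw [add_smul]; exact Submodule.add_mem _ hc hd
    | smul c d _ hd => rw [smul_eq_mul, mul_smul]; exact Submodule.smul_mem _ _ hd

end Groth.Agent.H9.ComplJM
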