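import Mathlib

/-! Helper9: conductor of a curve singularity ring inside a product of power series rings (S15146, S15147). -/

namespace Groth.Agent.H9.Cond

open PowerSeries

universe u

variable {k : Type u} [Field k]

lemma div_lemma (a b : PowerSeries k) (l c : ℕ) (ha : a.order = (l : ℕ∞))
    (hb : ((l + c : ℕ) : ℕ∞) ≤ b.order) :
    ∃ q : PowerSeries k, ((c : ℕ) : ℕ∞) ≤ q.order ∧ b = a * q := by
  have ha0 : a ≠ 0 := by
    rintro rfl
    simp at ha
  have hu : IsUnit (divXPowOrder a) := by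
    rw [isUnit_iff_constantCoeff, isUnit_iff_ne_zero, Ne, constantCoeff_divXPowOrder_eq_zero_iff]
    exact ha0
  obtain ⟨u, hu⟩ := hu
  have hl : a.order.toNat = l := by rw [ha]; rfl
  have hfac : X ^ l * (u : PowerSeries k) = a := by
    rw [hu, ← hl]; exact X_pow_order_mul_divXPowOrder
  have hdvd : (X : PowerSeries k) ^ (l + c) ∣ b := by
    rw [X_pow_dvd_iff]
    intro m hm
    apply coeff_of_lt_order
    exact lt_of_lt_of_le (by exact_mod_cast hm) hb
  obtain ⟨b', hb'⟩ := hdvd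
  refine ⟨X ^ c * b' * ((u⁻¹ : (PowerSeries k)ˣ) : PowerSeries k), ?_, ?_⟩
  · rw [mul_assoc]
    refine le_trans ?_ (le_order_mul _ _)
    rw [order_X_pow]
    exact le_self_add
  · rw [← hfac, hb', pow_add]
    have : (u : PowerSeries k) * ((u⁻¹ : (PowerSeries k)ˣ) : PowerSeries k) = 1 := by simp
    calc X ^ l * X ^ c * b' = X ^ l * X ^ c * b' * ((u : PowerSeries k) * ((u⁻¹ : (PowerSeries k)ˣ) : PowerSeries k)) := by
          rw [this, mul_one]
      _ = _ := by ring

theorem s15146 (s : ℕ)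
    (R : Subalgebra k (Fin s → PowerSeries k))
    (c : Fin s → ℕ)
    (hc : ∀ f : Fin s → PowerSeries k,
      (∀ g : Fin s → PowerSeries k, g * f ∈ R) ↔ ∀ i, ((c i : ℕ) : ℕ∞) ≤ (f i).order)
    (J : Ideal ↥R)
    (l : Fin s → ℕ) (hl : ∀ i : Fin s, ∃ f ∈ J, ((f : Fin s → PowerSeries k) i).order = ((l i : ℕ) : ℕ∞))
    (g : Fin s → PowerSeries k) (hg : ∀ i : Fin s, ((l i + c i : ℕ) : ℕ∞) ≤ (g i).order) :
    ∃ hgR : g ∈ R, (⟨g, hgR⟩ : ↥R) ∈ J := by
  classical
  have hcond : ∀ f : Fin s → PowerSeries k, (∀ i, ((c i : ℕ) : ℕ∞) ≤ (f i).order) → f ∈ R := by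
    intro f hf
    have := (hc f).2 hf 1
    simpa using this
  have hgR : g ∈ R := hcond g (fun i => le_trans (by exact_mod_cast Nat.le_add_left _ _) (hg i))
  refine ⟨hgR, ?_⟩
  choose f hfJ hford using hl
  have hq : ∀ i, ∃ q : PowerSeries k, ((c i : ℕ) : ℕ∞) ≤ q.order ∧ g i = ((f i : Fin s → PowerSeries k) i) * q :=
    fun i => div_lemma _ _ (l i) (c i) (hford i) (hg i)
  choose q hqord hqeq using hq
  -- w i = the tuple with q i at i and 0 elsewhere
  set w : Fin s → (Fin s → PowerSeries k) := fun i => Pi.single i (q i) with hw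
  have hwR : ∀ i, w i ∈ R := by
    intro i
    apply hcond
    intro j
    by_cases hij : j = i
    · subst hij; simp [hw, hqord]
    · simp [hw, hij]
  have hsum : (⟨g, hgR⟩ : ↥R) = ∑ i, f i * ⟨w i, hwR i⟩ := by
    apply Subtype.ext
    rw [AddSubmonoidClass.coe_finsetSum]
    funext j
    simp only [Finset.sum_apply, MulMemClass.coe_mul, Pi.mul_apply, hw]
    rw [Finset.sum_eq_single j]
    · simp [hqeq j]
    · intro i _ hij
      simp [hij.symm]
    · intro h; exact absurd (Finset.mem_univ j) h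
  rw [hsum]
  exact Ideal.sum_mem _ (fun i _ => Ideal.mul_mem_right _ _ (hfJ i))

lemma order_ge_of_mem (s : ℕ)
    (R : Subalgebra k (Fin s → PowerSeries k))
    (I : Ideal ↥R) (a : Fin s → ℕ)
    (ha : (∀ i : Fin s, Ideal.map ((Pi.evalAlgHom k (fun _ : Fin s => PowerSeries k) i).comp R.val) I = Ideal.span {PowerSeries.X ^ (a i)}))
    (f : ↥R) (hf : f ∈ I) (i : Fin s) : ((a i : ℕ) : ℕ∞) ≤ ((f : Fin s → PowerSeries k) i).order := by
  have h1 : ((Pi.evalAlgHom k (fun _ : Fin s => PowerSeries k) i).comp R.val) f ∈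
      Ideal.map ((Pi.evalAlgHom k (fun _ : Fin s => PowerSeries k) i).comp R.val) I :=
    Ideal.mem_map_of_mem _ hf
  rw [ha i, Ideal.mem_span_singleton] at h1
  obtain ⟨r, hr⟩ := h1
  have : ((f : Fin s → PowerSeries k) i) = X ^ (a i) * r := hr
  rw [this]
  refine le_trans ?_ (le_order_mul _ _)
  rw [order_X_pow]
  exact le_self_add

lemma exists_order_eq (s : ℕ)
    (R : Subalgebra k (Fin s → PowerSeries k))
    (I : Ideal ↥R) (a : Fin s → ℕ)
    (ha : (∀ i : Fin s, Ideal.map ((Pi.evalAlgHom k (fun _ : Fin s => PowerSeries k) i).comp R.val) I = Ideal.span {PowerSeries.X ^ (a i)}))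
    (i : Fin s) : ∃ f ∈ I, ((f : Fin s → PowerSeries k) i).order = ((a i : ℕ) : ℕ∞) := by
  by_contra hcon
  push Not at hcon
  have hle : Ideal.map ((Pi.evalAlgHom k (fun _ : Fin s => PowerSeries k) i).comp R.val) I ≤
      Ideal.span {PowerSeries.X ^ (a i + 1)} := by
    rw [Ideal.map_le_iff_le_comap]
    intro f hf
    rw [Ideal.mem_comap, Ideal.mem_span_singleton]
    change X ^ (a i + 1) ∣ ((f : Fin s → PowerSeries k) i)
    rw [X_pow_dvd_iff]
    intro m hm
    apply coeff_of_lt_order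
    have h1 := order_ge_of_mem s R I a ha f hf i
    have h2 := hcon f hf
    have h3 : ((a i : ℕ) : ℕ∞) < ((f : Fin s → PowerSeries k) i).order := lt_of_le_of_ne h1 (Ne.symm h2)
    have h4 : ((a i + 1 : ℕ) : ℕ∞) ≤ ((f : Fin s → PowerSeries k) i).order := by
      have := Order.add_one_le_of_lt h3
      exact_mod_cast this
    exact lt_of_lt_of_le (by exact_mod_cast hm) h4
  rw [ha i, Ideal.span_singleton_le_span_singleton] at hle
  obtain ⟨r, hr⟩ := hle
  have h1 := congrArg order hr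
  rw [order_X_pow] at h1
  have h2 : ((a i + 1 : ℕ) : ℕ∞) ≤ order (X ^ (a i + 1) * r) := by
    refine le_trans ?_ (le_order_mul _ _)
    rw [order_X_pow]
    exact le_self_add
  rw [← h1] at h2
  have : a i + 1 ≤ a i := by exact_mod_cast h2
  omega

theorem s15147 (s : ℕ)
    (R : Subalgebra k (Fin s → PowerSeries k))
    (c : Fin s → ℕ)
    (hc : ∀ f : Fin s → PowerSeries k,
      (∀ g : Fin s → PowerSeries k, g * f ∈ R) ↔ ∀ i, ((c i : ℕ) : ℕ∞) ≤ (f i).order)
    (I : Ideal ↥R) (a : Fin s → ℕ)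
    (ha : (∀ i : Fin s, Ideal.map ((Pi.evalAlgHom k (fun _ : Fin s => PowerSeries k) i).comp R.val) I = Ideal.span {PowerSeries.X ^ (a i)})) :
    (∀ g : Fin s → PowerSeries k, (∀ i : Fin s, ((a i + c i : ℕ) : ℕ∞) ≤ (g i).order) →
      ∃ hgR : g ∈ R, (⟨g, hgR⟩ : ↥R) ∈ I) ∧
    (∀ f ∈ I, ∀ i : Fin s, ((a i : ℕ) : ℕ∞) ≤ ((f : Fin s → PowerSeries k) i).order) :=
  ⟨fun g hg => s15146 s R c hc I a (exists_order_eq s R I a ha) g hg,
   fun f hf i => order_ge_of_mem s R I a ha f hf i⟩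

end Groth.Agent.H9.Cond
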