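import Mathlib
import Groth.Agent.Lib.Helper9.Misc.Cond1

/-! Helper9: colength bounds for ideals in a curve singularity ring (S15148). -/

namespace Groth.Agent.H9.Cond

open PowerSeries

universe u

variable {k : Type u} [Field k]

lemma finrank_of_exact {M N L : Type*} [AddCommGroup M] [AddCommGroup N] [AddCommGroup L]
    [Module k M] [Module k N] [Module k L] (f : M →ₗ[k] N) (g : N →ₗ[k] L)
    (hf : Function.Injective f) (hg : Function.Surjective g) (hex : Function.Exact f g)
    [Module.Finite k M] [Module.Finite k L] :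
    Module.Finite k N ∧ Module.finrank k N = Module.finrank k M + Module.finrank k L := by
  have hker : LinearMap.ker g = LinearMap.range f := (LinearMap.exact_iff.1 hex)
  have e1 : M ≃ₗ[k] LinearMap.ker g := (LinearEquiv.ofInjective f hf).trans (LinearEquiv.ofEq _ _ hker.symm)
  have e2 : (N ⧸ LinearMap.ker g) ≃ₗ[k] L := g.quotKerEquivOfSurjective hg
  have : Module.Finite k (LinearMap.ker g) := Module.Finite.equiv e1
  have : Module.Finite k (N ⧸ LinearMap.ker g) := Module.Finite.equiv e2.symm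
  have hN : Module.Finite k N := Module.Finite.of_submodule_quotient (LinearMap.ker g)
  refine ⟨hN, ?_⟩
  have h1 := LinearMap.finrank_range_add_finrank_ker g
  rw [LinearMap.range_eq_top.2 hg, finrank_top, ← e1.finrank_eq] at h1
  omega

variable {s : ℕ}

/-- the subspace of tuples of order at least `a` -/
def FF (a : Fin s → ℕ) : Submodule k (Fin s → PowerSeries k) where
  carrier := {g | ∀ i, ((a i : ℕ) : ℕ∞) ≤ (g i).order}
  add_mem' := by
    intro f g hf hg i
    exact le_trans (le_min (hf i) (hg i)) (min_order_le_order_add _ _)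
  zero_mem' := by intro i; simp
  smul_mem' := by
    intro c g hg i
    simp only [Pi.smul_apply]
    exact le_trans (hg i) (le_order_smul)

lemma mem_FF {a : Fin s → ℕ} {g : Fin s → PowerSeries k} :
    g ∈ FF (k := k) a ↔ ∀ i, ((a i : ℕ) : ℕ∞) ≤ (g i).order := Iff.rfl

/-- the coefficient map -/
noncomputable def TT (a : Fin s → ℕ) : (Fin s → PowerSeries k) →ₗ[k] ((Σ i : Fin s, Fin (a i)) → k) where
  toFun g := fun p => coeff p.2.val (g p.1)
  map_add' := by intro f g; funext p; simp
  map_smul' := by intro c g; funext p; simp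

lemma ker_TT (a : Fin s → ℕ) : LinearMap.ker (TT (k := k) a) = FF a := by
  ext g
  rw [LinearMap.mem_ker, mem_FF]
  constructor
  · intro h i
    apply nat_le_order
    intro n hn
    have := congrFun h ⟨i, ⟨n, hn⟩⟩
    simpa [TT] using this
  · intro h
    funext p
    simp only [TT, LinearMap.coe_mk, AddHom.coe_mk, Pi.zero_apply]
    apply coeff_of_lt_order
    exact lt_of_lt_of_le (by exact_mod_cast p.2.isLt) (h p.1)

lemma TT_surjective (a : Fin s → ℕ) : Function.Surjective (TT (k := k) a) := by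
  intro y
  refine ⟨fun i => PowerSeries.mk (fun n => if h : n < a i then y ⟨i, ⟨n, h⟩⟩ else 0), ?_⟩
  funext p
  simp [TT, p.2.isLt]

lemma finrank_quot_FF (a : Fin s → ℕ) :
    Module.Finite k ((Fin s → PowerSeries k) ⧸ FF (k := k) a) ∧
      Module.finrank k ((Fin s → PowerSeries k) ⧸ FF (k := k) a) = ∑ i, a i := by
  have e : ((Fin s → PowerSeries k) ⧸ LinearMap.ker (TT (k := k) a)) ≃ₗ[k] ((Σ i : Fin s, Fin (a i)) → k) :=
    LinearMap.quotKerEquivOfSurjective (TT (k := k) a) (TT_surjective a)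
  have e' : ((Fin s → PowerSeries k) ⧸ FF (k := k) a) ≃ₗ[k] ((Σ i : Fin s, Fin (a i)) → k) :=
    (Submodule.quotEquivOfEq _ _ (ker_TT a).symm).trans e
  refine ⟨Module.Finite.equiv e'.symm, ?_⟩
  have h1 : Module.finrank k ((Σ i : Fin s, Fin (a i)) → k) = Fintype.card (Σ i : Fin s, Fin (a i)) :=
    Module.finrank_fintype_fun_eq_card k
  rw [e'.finrank_eq, h1, Fintype.card_sigma]
  simp

/-- comparison of quotients -/
lemma finrank_quot_le {P : Type*} [AddCommGroup P] [Module k P] (A B : Submodule k P) (h : A ≤ B)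
    [Module.Finite k (P ⧸ A)] :
    Module.Finite k (P ⧸ B) ∧ Module.finrank k (P ⧸ B) ≤ Module.finrank k (P ⧸ A) ∧
      (A ≠ B → Module.finrank k (P ⧸ B) < Module.finrank k (P ⧸ A)) := by
  set π : (P ⧸ A) →ₗ[k] (P ⧸ B) := Submodule.mapQ A B LinearMap.id (by simpa using h) with hπ
  have hsurj : Function.Surjective π := by
    intro y
    obtain ⟨p, rfl⟩ := Submodule.Quotient.mk_surjective _ y
    exact ⟨Submodule.Quotient.mk p, by simp [hπ]⟩
  have hfin : Module.Finite k (P ⧸ B) := Module.Finite.of_surjective π hsurj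
  have h1 := LinearMap.finrank_range_add_finrank_ker π
  rw [LinearMap.range_eq_top.2 hsurj, finrank_top] at h1
  refine ⟨hfin, by omega, ?_⟩
  intro hne
  have hker : LinearMap.ker π ≠ ⊥ := by
    intro hbot
    apply hne
    apply le_antisymm h
    intro b hb
    have : (Submodule.Quotient.mk b : P ⧸ A) ∈ LinearMap.ker π := by
      rw [LinearMap.mem_ker]
      simp only [hπ, Submodule.mapQ_apply, LinearMap.id_coe, id_eq]
      exact (Submodule.Quotient.mk_eq_zero _).2 hb
    rw [hbot, Submodule.mem_bot, Submodule.Quotient.mk_eq_zero] at this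
    exact this
  have : 0 < Module.finrank k (LinearMap.ker π) := by
    rw [Module.finrank_pos_iff]
    exact Submodule.nontrivial_iff_ne_bot.2 hker
  omega

/-- an ideal of `R` as a `k`-subspace of the product -/
noncomputable def IP (R : Subalgebra k (Fin s → PowerSeries k)) (I : Ideal ↥R) : Submodule k (Fin s → PowerSeries k) :=
  (I.restrictScalars k).map R.val.toLinearMap

lemma mem_IP {R : Subalgebra k (Fin s → PowerSeries k)} {I : Ideal ↥R} {g : Fin s → PowerSeries k} :
    g ∈ IP R I ↔ ∃ hg : g ∈ R, (⟨g, hg⟩ : ↥R) ∈ I := by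
  unfold IP
  rw [Submodule.mem_map]
  constructor
  · rintro ⟨r, hr, rfl⟩
    exact ⟨r.2, hr⟩
  · rintro ⟨hg, hI⟩
    exact ⟨⟨g, hg⟩, hI, rfl⟩

lemma IP_le (R : Subalgebra k (Fin s → PowerSeries k)) (I : Ideal ↥R) :
    IP R I ≤ Subalgebra.toSubmodule R := by
  intro g hg
  obtain ⟨h, -⟩ := mem_IP.1 hg
  exact h

lemma finrank_IP (R : Subalgebra k (Fin s → PowerSeries k)) (I : Ideal ↥R)
    [Module.Finite k ((Fin s → PowerSeries k) ⧸ Subalgebra.toSubmodule R)]
    [Module.Finite k (↥R ⧸ I)] :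
    Module.Finite k ((Fin s → PowerSeries k) ⧸ IP R I) ∧
      Module.finrank k ((Fin s → PowerSeries k) ⧸ IP R I) =
        Module.finrank k (↥R ⧸ I) + Module.finrank k ((Fin s → PowerSeries k) ⧸ Subalgebra.toSubmodule R) := by
  set A := IP R I
  set B := Subalgebra.toSubmodule R
  set π : ((Fin s → PowerSeries k) ⧸ A) →ₗ[k] ((Fin s → PowerSeries k) ⧸ B) :=
    Submodule.mapQ A B LinearMap.id (by simpa using IP_le R I) with hπ
  have hsurj : Function.Surjective π := by
    intro y
    obtain ⟨p, rfl⟩ := Submodule.Quotient.mk_surjective _ y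
    exact ⟨Submodule.Quotient.mk p, by simp [hπ]⟩
  set ψ0 : (↥R ⧸ I.restrictScalars k) →ₗ[k] ((Fin s → PowerSeries k) ⧸ A) :=
    Submodule.liftQ (I.restrictScalars k) (A.mkQ ∘ₗ R.val.toLinearMap) (by
      intro r hr
      rw [LinearMap.mem_ker, LinearMap.comp_apply, Submodule.mkQ_apply, Submodule.Quotient.mk_eq_zero]
      exact mem_IP.2 ⟨r.2, hr⟩) with hψ0
  set ψ : (↥R ⧸ I) →ₗ[k] ((Fin s → PowerSeries k) ⧸ A) :=
    ψ0 ∘ₗ (Submodule.Quotient.restrictScalarsEquiv k I).symm.toLinearMap with hψ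
  have hψmk : ∀ r : ↥R, ψ (Ideal.Quotient.mk I r) = Submodule.Quotient.mk (r : Fin s → PowerSeries k) := by
    intro r
    rfl
  have hinj : Function.Injective ψ := by
    rw [← LinearMap.ker_eq_bot, LinearMap.ker_eq_bot']
    intro x hx
    obtain ⟨r, rfl⟩ := Ideal.Quotient.mk_surjective x
    rw [hψmk, Submodule.Quotient.mk_eq_zero] at hx
    obtain ⟨h1, h2⟩ := mem_IP.1 hx
    exact Ideal.Quotient.eq_zero_iff_mem.2 h2
  have hex : Function.Exact ψ π := by
    rw [LinearMap.exact_iff]
    ext y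
    obtain ⟨p, rfl⟩ := Submodule.Quotient.mk_surjective _ y
    rw [LinearMap.mem_ker, LinearMap.mem_range]
    simp only [hπ, Submodule.mapQ_apply, LinearMap.id_coe, id_eq, Submodule.Quotient.mk_eq_zero]
    constructor
    · intro hp
      exact ⟨Ideal.Quotient.mk I ⟨p, hp⟩, hψmk _⟩
    · rintro ⟨x, hx⟩
      obtain ⟨r, rfl⟩ := Ideal.Quotient.mk_surjective x
      rw [hψmk, Submodule.Quotient.eq] at hx
      have h1 : (r : Fin s → PowerSeries k) - p ∈ B := IP_le R I hx
      have h2 : (r : Fin s → PowerSeries k) ∈ B := r.2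
      have := B.sub_mem h2 h1
      simpa using this
  exact finrank_of_exact ψ π hinj hsurj hex

theorem s15148 (s : ℕ)
    (R : Subalgebra k (Fin s → PowerSeries k))
    (hfin : Module.Finite k ((Fin s → PowerSeries k) ⧸ Subalgebra.toSubmodule R))
    (c : Fin s → ℕ)
    (hc : ∀ f : Fin s → PowerSeries k,
      (∀ g : Fin s → PowerSeries k, g * f ∈ R) ↔ ∀ i, ((c i : ℕ) : ℕ∞) ≤ (f i).order)
    (I : Ideal ↥R) (hI : Module.Finite k (↥R ⧸ I)) (a : Fin s → ℕ)
    (ha : (∀ i : Fin s, Ideal.map ((Pi.evalAlgHom k (fun _ : Fin s => PowerSeries k) i).comp R.val) I = Ideal.span {PowerSeries.X ^ (a i)})) :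
    (∑ i, a i) ≤ Module.finrank k (↥R ⧸ I) + Module.finrank k ((Fin s → PowerSeries k) ⧸ Subalgebra.toSubmodule R) ∧
    Module.finrank k (↥R ⧸ I) + Module.finrank k ((Fin s → PowerSeries k) ⧸ Subalgebra.toSubmodule R) ≤ (∑ i, a i) + ∑ i, c i ∧
    (R ≠ ⊤ → Module.finrank k (↥R ⧸ I) + Module.finrank k ((Fin s → PowerSeries k) ⧸ Subalgebra.toSubmodule R) < (∑ i, a i) + ∑ i, c i) := by
  obtain ⟨h1, h2⟩ := s15147 s R c hc I a ha
  obtain ⟨hfinA, hrk⟩ := finrank_IP R I
  have hle1 : IP R I ≤ FF a := by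
    intro g hg
    obtain ⟨hgR, hgI⟩ := mem_IP.1 hg
    exact fun i => h2 ⟨g, hgR⟩ hgI i
  have hle2 : FF (fun i => a i + c i) ≤ IP R I := by
    intro g hg
    exact mem_IP.2 (h1 g hg)
  obtain ⟨-, hr1⟩ := finrank_quot_FF (k := k) a
  obtain ⟨hfin2, hr2⟩ := finrank_quot_FF (k := k) (fun i => a i + c i)
  obtain ⟨-, hq1, -⟩ := finrank_quot_le (IP R I) (FF a) hle1
  obtain ⟨-, hq2, hq3⟩ := finrank_quot_le (FF (fun i => a i + c i)) (IP R I) hle2
  rw [Finset.sum_add_distrib] at hr2
  refine ⟨by omega, by omega, ?_⟩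
  intro hR
  have hne : FF (fun i => a i + c i) ≠ IP R I := by
    intro heq
    have hci : ∃ i, 0 < c i := by
      by_contra hcon
      push Not at hcon
      apply hR
      rw [eq_top_iff]
      intro g _
      have := (hc 1).2 (fun i => by
        have : c i = 0 := Nat.le_zero.1 (hcon i)
        simp [this]) g
      simpa using this
    obtain ⟨i, hi⟩ := hci
    obtain ⟨f, hfI, hford⟩ := exists_order_eq s R I a ha i
    have hmem : (f : Fin s → PowerSeries k) ∈ IP R I := mem_IP.2 ⟨f.2, hfI⟩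
    rw [← heq] at hmem
    have := hmem i
    rw [hford] at this
    have : a i + c i ≤ a i := by exact_mod_cast this
    omega
  have := hq3 hne
  omega

end Groth.Agent.H9.Cond
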