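import Mathlib
import Groth.Agent.Lib.Helper9.Misc.Cond2

/-! Helper9: multiplication by xi on ideals of a curve singularity ring: colength (towards S15149). -/

namespace Groth.Agent.H9.Cond

open PowerSeries

universe u

variable {k : Type u} [Field k] {s : ℕ}

local notation "PP" => (Fin s → PowerSeries k)

/-- the multiplier `ξ` -/
noncomputable def xi (k : Type u) [Field k] {s : ℕ} (j : Fin s) : Fin s → PowerSeries k := Pi.mulSingle j PowerSeries.X

lemma xi_mul_same (j : Fin s) (f : Fin s → PowerSeries k) : (xi k j * f) j = X * f j := by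
  simp [xi]

lemma xi_mul_ne (j : Fin s) (f : Fin s → PowerSeries k) {i : Fin s} (h : i ≠ j) : (xi k j * f) i = f i := by
  simp [xi, Pi.mulSingle_eq_of_ne h]

lemma xi_cancel (j : Fin s) {f g : Fin s → PowerSeries k} (h : xi k j * f = xi k j * g) : f = g := by
  funext i
  by_cases hi : i = j
  · subst hi
    have := congrFun h i
    rw [xi_mul_same, xi_mul_same] at this
    exact mul_left_cancel₀ X_ne_zero this
  · have := congrFun h i
    rwa [xi_mul_ne j f hi, xi_mul_ne j g hi] at this

/-- the embedding `R/I → P/I` -/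
noncomputable def psi (R : Subalgebra k (Fin s → PowerSeries k)) (I : Ideal ↥R) :
    (↥R ⧸ I) →ₗ[k] ((Fin s → PowerSeries k) ⧸ IP R I) :=
  (Submodule.liftQ (I.restrictScalars k) ((IP R I).mkQ ∘ₗ R.val.toLinearMap) (by
      intro r hr
      rw [LinearMap.mem_ker, LinearMap.comp_apply, Submodule.mkQ_apply, Submodule.Quotient.mk_eq_zero]
      exact mem_IP.2 ⟨r.2, hr⟩)) ∘ₗ (Submodule.Quotient.restrictScalarsEquiv k I).symm.toLinearMap

lemma psi_mk (R : Subalgebra k (Fin s → PowerSeries k)) (I : Ideal ↥R) (r : ↥R) :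
    psi R I (Ideal.Quotient.mk I r) = Submodule.Quotient.mk (r : Fin s → PowerSeries k) := rfl

lemma psi_injective (R : Subalgebra k (Fin s → PowerSeries k)) (I : Ideal ↥R) :
    Function.Injective (psi R I) := by
  rw [← LinearMap.ker_eq_bot, LinearMap.ker_eq_bot']
  intro x hx
  obtain ⟨r, rfl⟩ := Ideal.Quotient.mk_surjective x
  rw [psi_mk, Submodule.Quotient.mk_eq_zero] at hx
  obtain ⟨h1, h2⟩ := mem_IP.1 hx
  exact Ideal.Quotient.eq_zero_iff_mem.2 h2

lemma finite_of_finite_IP (R : Subalgebra k (Fin s → PowerSeries k)) (I : Ideal ↥R)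
    [Module.Finite k ((Fin s → PowerSeries k) ⧸ IP R I)] : Module.Finite k (↥R ⧸ I) :=
  Module.Finite.of_injective (psi R I) (psi_injective R I)

/-- the relation `J = ξ I` -/
def Rel (j : Fin s) (R : Subalgebra k (Fin s → PowerSeries k)) (I J : Ideal ↥R) : Prop :=
  ∀ g : Fin s → PowerSeries k, g ∈ IP R J ↔ ∃ f ∈ IP R I, g = xi k j * f

lemma rel_finrank (j : Fin s) (R : Subalgebra k (Fin s → PowerSeries k)) (I J : Ideal ↥R)
    (h : Rel j R I J) [Module.Finite k ((Fin s → PowerSeries k) ⧸ IP R I)] :
    Module.Finite k ((Fin s → PowerSeries k) ⧸ IP R J) ∧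
      Module.finrank k ((Fin s → PowerSeries k) ⧸ IP R J) =
        Module.finrank k ((Fin s → PowerSeries k) ⧸ IP R I) + 1 := by
  set μ : (Fin s → PowerSeries k) →ₗ[k] (Fin s → PowerSeries k) := LinearMap.mulLeft k (xi k j) with hμ
  have hle : IP R I ≤ (IP R J).comap μ := by
    intro f hf
    rw [Submodule.mem_comap]
    exact (h _).2 ⟨f, hf, rfl⟩
  set μb := Submodule.mapQ (IP R I) (IP R J) μ hle with hμb
  set ε0 : (Fin s → PowerSeries k) →ₗ[k] k := (PowerSeries.coeff 0) ∘ₗ (LinearMap.proj j) with hε0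
  have hε0_apply : ∀ g : Fin s → PowerSeries k, ε0 g = coeff 0 (g j) := fun g => rfl
  have hker : IP R J ≤ LinearMap.ker ε0 := by
    intro g hg
    obtain ⟨f, -, rfl⟩ := (h g).1 hg
    rw [LinearMap.mem_ker, hε0_apply, xi_mul_same]
    simp
  set ε := Submodule.liftQ (IP R J) ε0 hker with hε
  have hinj : Function.Injective μb := by
    rw [← LinearMap.ker_eq_bot, LinearMap.ker_eq_bot']
    intro x hx
    obtain ⟨p, rfl⟩ := Submodule.Quotient.mk_surjective _ x
    rw [hμb, Submodule.mapQ_apply, Submodule.Quotient.mk_eq_zero] at hx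
    obtain ⟨f, hf, hpf⟩ := (h _).1 hx
    have : p = f := xi_cancel j hpf
    rw [Submodule.Quotient.mk_eq_zero, this]
    exact hf
  have hsurj : Function.Surjective ε := by
    intro c
    refine ⟨Submodule.Quotient.mk (fun _ => PowerSeries.C c), ?_⟩
    rw [hε, Submodule.liftQ_apply, hε0_apply]
    simp
  have hex : Function.Exact μb ε := by
    rw [LinearMap.exact_iff]
    ext y
    obtain ⟨g, rfl⟩ := Submodule.Quotient.mk_surjective _ y
    rw [LinearMap.mem_ker, LinearMap.mem_range, hε, Submodule.liftQ_apply, hε0_apply]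
    constructor
    · intro hg
      have hdvd : (X : PowerSeries k) ∣ g j := by
        rw [X_dvd_iff]
        simpa using hg
      obtain ⟨q, hq⟩ := hdvd
      refine ⟨Submodule.Quotient.mk (Function.update g j q), ?_⟩
      rw [hμb, Submodule.mapQ_apply]
      congr 1
      funext i
      by_cases hi : i = j
      · subst hi
        simp only [hμ, LinearMap.mulLeft_apply]
        rw [xi_mul_same]
        simp [hq]
      · simp only [hμ, LinearMap.mulLeft_apply]
        rw [xi_mul_ne j _ hi]
        simp [hi]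
    · rintro ⟨x, hx⟩
      obtain ⟨p, rfl⟩ := Submodule.Quotient.mk_surjective _ x
      rw [hμb, Submodule.mapQ_apply, Submodule.Quotient.eq] at hx
      have h1 := hker hx
      rw [LinearMap.mem_ker, map_sub, hε0_apply, hε0_apply] at h1
      simp only [hμ, LinearMap.mulLeft_apply] at h1
      rw [xi_mul_same] at h1
      simp at h1
      rw [← h1]
      simp
  have := finrank_of_exact μb ε hinj hsurj hex
  simpa using this

end Groth.Agent.H9.Cond
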