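import Mathlib
import Groth.Agent.Lib.Helper9.Misc.Cond3

/-! Helper9: multiplication by xi is a bijection on branch-length strata of ideals (S15149). -/

namespace Groth.Agent.H9.Cond

open PowerSeries

universe u

variable {k : Type u} [Field k] {s : ℕ}

/-- evaluation at a branch -/
noncomputable abbrev phi (R : Subalgebra k (Fin s → PowerSeries k)) (i : Fin s) : ↥R →ₐ[k] PowerSeries k :=
  (Pi.evalAlgHom k (fun _ : Fin s => PowerSeries k) i).comp R.val

lemma phi_apply (R : Subalgebra k (Fin s → PowerSeries k)) (i : Fin s) (r : ↥R) :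
    phi R i r = (r : Fin s → PowerSeries k) i := rfl

lemma rel_R1 {j : Fin s} {R : Subalgebra k (Fin s → PowerSeries k)} {I J : Ideal ↥R} (h : Rel j R I J)
    (r : ↥R) (hr : r ∈ I) : ∃ t ∈ J, (t : Fin s → PowerSeries k) = xi k j * (r : Fin s → PowerSeries k) := by
  have : xi k j * (r : Fin s → PowerSeries k) ∈ IP R J := (h _).2 ⟨r, mem_IP.2 ⟨r.2, hr⟩, rfl⟩
  obtain ⟨hR, hJ⟩ := mem_IP.1 this
  exact ⟨⟨_, hR⟩, hJ, rfl⟩

lemma rel_R2 {j : Fin s} {R : Subalgebra k (Fin s → PowerSeries k)} {I J : Ideal ↥R} (h : Rel j R I J)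
    (t : ↥R) (ht : t ∈ J) : ∃ r ∈ I, (t : Fin s → PowerSeries k) = xi k j * (r : Fin s → PowerSeries k) := by
  obtain ⟨f, hf, hfe⟩ := (h _).1 (mem_IP.2 ⟨t.2, ht⟩)
  obtain ⟨hR, hI⟩ := mem_IP.1 hf
  exact ⟨⟨f, hR⟩, hI, hfe⟩

lemma map_eq_of_ne {j : Fin s} {R : Subalgebra k (Fin s → PowerSeries k)} {I J : Ideal ↥R} (h : Rel j R I J)
    {i : Fin s} (hi : i ≠ j) : Ideal.map (phi R i) J = Ideal.map (phi R i) I := by
  apply le_antisymm
  · rw [Ideal.map_le_iff_le_comap]
    intro t ht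
    obtain ⟨r, hr, hrt⟩ := rel_R2 h t ht
    rw [Ideal.mem_comap]
    have : phi R i t = phi R i r := by
      rw [phi_apply, phi_apply, hrt, xi_mul_ne _ _ hi]
    rw [this]
    exact Ideal.mem_map_of_mem _ hr
  · rw [Ideal.map_le_iff_le_comap]
    intro r hr
    obtain ⟨t, ht, hrt⟩ := rel_R1 h r hr
    rw [Ideal.mem_comap]
    have : phi R i r = phi R i t := by
      rw [phi_apply, phi_apply, hrt, xi_mul_ne _ _ hi]
    rw [this]
    exact Ideal.mem_map_of_mem _ ht

lemma X_mul_mem {j : Fin s} {R : Subalgebra k (Fin s → PowerSeries k)} {I J : Ideal ↥R} (h : Rel j R I J)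
    (y : PowerSeries k) (hy : y ∈ Ideal.map (phi R j) I) : X * y ∈ Ideal.map (phi R j) J := by
  have hy' : y ∈ Submodule.span (PowerSeries k) ((phi R j) '' (I : Set ↥R)) := hy
  clear hy
  induction hy' using Submodule.span_induction with
  | mem x hx =>
    obtain ⟨r, hr, rfl⟩ := hx
    obtain ⟨t, ht, hrt⟩ := rel_R1 h r hr
    have : X * phi R j r = phi R j t := by
      rw [phi_apply, phi_apply, hrt, xi_mul_same]
    rw [this]
    exact Ideal.mem_map_of_mem _ ht
  | zero => simp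
  | add x y _ _ hx hy => rw [mul_add]; exact Ideal.add_mem _ hx hy
  | smul a x _ hx =>
    rw [smul_eq_mul, mul_left_comm]
    exact Ideal.mul_mem_left _ _ hx

lemma exists_X_mul {j : Fin s} {R : Subalgebra k (Fin s → PowerSeries k)} {I J : Ideal ↥R} (h : Rel j R I J)
    (y : PowerSeries k) (hy : y ∈ Ideal.map (phi R j) J) : ∃ z ∈ Ideal.map (phi R j) I, y = X * z := by
  have hy' : y ∈ Submodule.span (PowerSeries k) ((phi R j) '' (J : Set ↥R)) := hy
  clear hy
  induction hy' using Submodule.span_induction with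
  | mem x hx =>
    obtain ⟨t, ht, rfl⟩ := hx
    obtain ⟨r, hr, hrt⟩ := rel_R2 h t ht
    refine ⟨phi R j r, Ideal.mem_map_of_mem _ hr, ?_⟩
    rw [phi_apply, phi_apply, hrt, xi_mul_same]
  | zero => exact ⟨0, Ideal.zero_mem _, by simp⟩
  | add x y _ _ hx hy =>
    obtain ⟨z1, hz1, rfl⟩ := hx
    obtain ⟨z2, hz2, rfl⟩ := hy
    exact ⟨z1 + z2, Ideal.add_mem _ hz1 hz2, by ring⟩
  | smul a x _ hx =>
    obtain ⟨z, hz, rfl⟩ := hx
    exact ⟨a * z, Ideal.mul_mem_left _ _ hz, by rw [smul_eq_mul]; ring⟩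

lemma rel_type_fwd {j : Fin s} {R : Subalgebra k (Fin s → PowerSeries k)} {I J : Ideal ↥R} (h : Rel j R I J)
    (a : Fin s → ℕ) (ha : ∀ i : Fin s, Ideal.map (phi R i) I = Ideal.span {PowerSeries.X ^ (a i)}) :
    ∀ i : Fin s, Ideal.map (phi R i) J = Ideal.span {PowerSeries.X ^ ((Function.update a j (a j + 1)) i)} := by
  intro i
  by_cases hi : i = j
  · subst hi
    rw [Function.update_self]
    apply le_antisymm
    · rw [Ideal.map_le_iff_le_comap]
      intro t ht
      obtain ⟨r, hr, hrt⟩ := rel_R2 h t ht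
      rw [Ideal.mem_comap, Ideal.mem_span_singleton, phi_apply, hrt, xi_mul_same]
      have : phi R i r ∈ Ideal.map (phi R i) I := Ideal.mem_map_of_mem _ hr
      rw [ha i, Ideal.mem_span_singleton, phi_apply] at this
      rw [pow_succ']
      exact mul_dvd_mul_left _ this
    · rw [Ideal.span_singleton_le_iff_mem, pow_succ']
      apply X_mul_mem h
      rw [ha i]
      exact Ideal.mem_span_singleton_self _
  · rw [Function.update_of_ne hi, map_eq_of_ne h hi, ha i]

lemma rel_type_bwd {j : Fin s} {R : Subalgebra k (Fin s → PowerSeries k)} {I J : Ideal ↥R} (h : Rel j R I J)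
    (a : Fin s → ℕ)
    (ha : ∀ i : Fin s, Ideal.map (phi R i) J = Ideal.span {PowerSeries.X ^ ((Function.update a j (a j + 1)) i)}) :
    ∀ i : Fin s, Ideal.map (phi R i) I = Ideal.span {PowerSeries.X ^ (a i)} := by
  intro i
  by_cases hi : i = j
  · subst hi
    have hai := ha i
    rw [Function.update_self] at hai
    apply le_antisymm
    · rw [Ideal.map_le_iff_le_comap]
      intro r hr
      obtain ⟨t, ht, hrt⟩ := rel_R1 h r hr
      have : phi R i t ∈ Ideal.map (phi R i) J := Ideal.mem_map_of_mem _ ht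
      rw [hai, Ideal.mem_span_singleton, phi_apply, hrt, xi_mul_same, pow_succ'] at this
      rw [Ideal.mem_comap, Ideal.mem_span_singleton, phi_apply]
      exact (mul_dvd_mul_iff_left X_ne_zero).1 this
    · rw [Ideal.span_singleton_le_iff_mem]
      have hmem : (X : PowerSeries k) ^ (a i + 1) ∈ Ideal.map (phi R i) J := by
        rw [hai]; exact Ideal.mem_span_singleton_self _
      obtain ⟨z, hz, hze⟩ := exists_X_mul h _ hmem
      rw [pow_succ'] at hze
      have := mul_left_cancel₀ X_ne_zero hze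
      rw [this]
      exact hz
  · have := ha i
    rw [Function.update_of_ne hi, map_eq_of_ne h hi] at this
    exact this

/-- conductor membership gives closure under `ξ` -/
lemma xi_mul_mem (R : Subalgebra k (Fin s → PowerSeries k)) (c : Fin s → ℕ)
    (hc : ∀ f : Fin s → PowerSeries k,
      (∀ g : Fin s → PowerSeries k, g * f ∈ R) ↔ ∀ i, ((c i : ℕ) : ℕ∞) ≤ (f i).order)
    (j : Fin s) (r : Fin s → PowerSeries k) (hr : r ∈ R) (hord : ((c j : ℕ) : ℕ∞) ≤ (r j).order) :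
    xi k j * r ∈ R := by
  have hw : Pi.single j ((X - 1) * r j) ∈ R := by
    have := (hc (Pi.single j ((X - 1) * r j))).2 (fun i => by
      by_cases hi : i = j
      · subst hi
        rw [Pi.single_eq_same]
        exact le_trans hord (le_trans (le_add_self) (le_order_mul _ _))
      · rw [Pi.single_eq_of_ne hi]; simp) 1
    simpa using this
  have : xi k j * r = r + Pi.single j ((X - 1) * r j) := by
    funext i
    by_cases hi : i = j
    · subst hi
      rw [xi_mul_same, Pi.add_apply, Pi.single_eq_same]; ring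
    · rw [xi_mul_ne _ _ hi, Pi.add_apply, Pi.single_eq_of_ne hi, add_zero]
  rw [this]
  exact R.add_mem hr hw

lemma xi_inv_mem (R : Subalgebra k (Fin s → PowerSeries k)) (c : Fin s → ℕ)
    (hc : ∀ f : Fin s → PowerSeries k,
      (∀ g : Fin s → PowerSeries k, g * f ∈ R) ↔ ∀ i, ((c i : ℕ) : ℕ∞) ≤ (f i).order)
    (j : Fin s) (g : Fin s → PowerSeries k) (hg : g ∈ R) (q : PowerSeries k) (hgq : g j = X * q)
    (hord : ((c j : ℕ) : ℕ∞) ≤ q.order) :
    Function.update g j q ∈ R := by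
  have hw : Pi.single j ((1 - X) * q) ∈ R := by
    have := (hc (Pi.single j ((1 - X) * q))).2 (fun i => by
      by_cases hi : i = j
      · subst hi
        rw [Pi.single_eq_same]
        exact le_trans hord (le_trans (le_add_self) (le_order_mul _ _))
      · rw [Pi.single_eq_of_ne hi]; simp) 1
    simpa using this
  have : Function.update g j q = g + Pi.single j ((1 - X) * q) := by
    funext i
    by_cases hi : i = j
    · subst hi
      rw [Function.update_self, Pi.add_apply, Pi.single_eq_same, hgq]; ring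
    · rw [Function.update_of_ne hi, Pi.add_apply, Pi.single_eq_of_ne hi, add_zero]
  rw [this]
  exact R.add_mem hg hw

/-- `ξ I` as an ideal -/
def xiIdeal (j : Fin s) (R : Subalgebra k (Fin s → PowerSeries k)) (I : Ideal ↥R) : Ideal ↥R where
  carrier := {t | ∃ r ∈ I, (t : Fin s → PowerSeries k) = xi k j * (r : Fin s → PowerSeries k)}
  add_mem' := by
    rintro t1 t2 ⟨r1, hr1, h1⟩ ⟨r2, hr2, h2⟩
    exact ⟨r1 + r2, I.add_mem hr1 hr2, by
      rw [Subalgebra.coe_add, Subalgebra.coe_add, h1, h2, mul_add]⟩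
  zero_mem' := ⟨0, I.zero_mem, by simp⟩
  smul_mem' := by
    rintro u t ⟨r, hr, h⟩
    exact ⟨u * r, I.mul_mem_left _ hr, by
      rw [smul_eq_mul, Subalgebra.coe_mul, Subalgebra.coe_mul, h]; ring⟩

/-- `ξ⁻¹ J` as an ideal -/
def xiInvIdeal (j : Fin s) (R : Subalgebra k (Fin s → PowerSeries k)) (J : Ideal ↥R) : Ideal ↥R where
  carrier := {r | ∃ t ∈ J, (t : Fin s → PowerSeries k) = xi k j * (r : Fin s → PowerSeries k)}
  add_mem' := by
    rintro r1 r2 ⟨t1, ht1, h1⟩ ⟨t2, ht2, h2⟩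
    exact ⟨t1 + t2, J.add_mem ht1 ht2, by
      rw [Subalgebra.coe_add, Subalgebra.coe_add, h1, h2, mul_add]⟩
  zero_mem' := ⟨0, J.zero_mem, by simp⟩
  smul_mem' := by
    rintro u r ⟨t, ht, h⟩
    exact ⟨u * t, J.mul_mem_left _ ht, by
      rw [smul_eq_mul, Subalgebra.coe_mul, Subalgebra.coe_mul, h]; ring⟩

lemma rel_xiIdeal (R : Subalgebra k (Fin s → PowerSeries k)) (c : Fin s → ℕ)
    (hc : ∀ f : Fin s → PowerSeries k,
      (∀ g : Fin s → PowerSeries k, g * f ∈ R) ↔ ∀ i, ((c i : ℕ) : ℕ∞) ≤ (f i).order)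
    (j : Fin s) (a : Fin s → ℕ) (hj : c j ≤ a j) (I : Ideal ↥R)
    (ha : ∀ i : Fin s, Ideal.map (phi R i) I = Ideal.span {PowerSeries.X ^ (a i)}) :
    Rel j R I (xiIdeal j R I) := by
  intro g
  constructor
  · intro hg
    obtain ⟨hgR, r, hr, hgr⟩ := mem_IP.1 hg
    exact ⟨r, mem_IP.2 ⟨r.2, hr⟩, hgr⟩
  · rintro ⟨f, hf, rfl⟩
    obtain ⟨hfR, hfI⟩ := mem_IP.1 hf
    have hord := order_ge_of_mem s R I a ha ⟨f, hfR⟩ hfI j
    have hmem : xi k j * f ∈ R := xi_mul_mem R c hc j f hfR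
      (le_trans (by exact_mod_cast hj) hord)
    exact mem_IP.2 ⟨hmem, ⟨f, hfR⟩, hfI, rfl⟩

lemma rel_xiInvIdeal (R : Subalgebra k (Fin s → PowerSeries k)) (c : Fin s → ℕ)
    (hc : ∀ f : Fin s → PowerSeries k,
      (∀ g : Fin s → PowerSeries k, g * f ∈ R) ↔ ∀ i, ((c i : ℕ) : ℕ∞) ≤ (f i).order)
    (j : Fin s) (a : Fin s → ℕ) (hj : c j ≤ a j) (J : Ideal ↥R)
    (ha : ∀ i : Fin s, Ideal.map (phi R i) J = Ideal.span {PowerSeries.X ^ ((Function.update a j (a j + 1)) i)}) :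
    Rel j R (xiInvIdeal j R J) J := by
  intro g
  constructor
  · intro hg
    obtain ⟨hgR, hgJ⟩ := mem_IP.1 hg
    have hord := order_ge_of_mem s R J _ ha ⟨g, hgR⟩ hgJ j
    rw [Function.update_self] at hord
    have hdvd : (X : PowerSeries k) ∣ g j := by
      rw [X_dvd_iff, ← coeff_zero_eq_constantCoeff_apply]
      apply coeff_of_lt_order
      exact lt_of_lt_of_le (by exact_mod_cast Nat.succ_pos _) hord
    obtain ⟨q, hq⟩ := hdvd
    have hqord : ((c j : ℕ) : ℕ∞) ≤ q.order := by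
      have h1 : (g j).order = 1 + q.order := by rw [hq, order_mul, order_X]
      rw [h1] at hord
      have h2 : ((a j : ℕ) : ℕ∞) ≤ q.order := by
        push_cast at hord
        rw [add_comm] at hord
        exact (ENat.add_le_add_iff_left (by simp)).1 hord
      exact le_trans (by exact_mod_cast hj) h2
    have hfR : Function.update g j q ∈ R := xi_inv_mem R c hc j g hgR q hq hqord
    have hxi : g = xi k j * Function.update g j q := by
      funext i
      by_cases hi : i = j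
      · subst hi
        rw [xi_mul_same, Function.update_self, hq]
      · rw [xi_mul_ne _ _ hi, Function.update_of_ne hi]
    exact ⟨Function.update g j q, mem_IP.2 ⟨hfR, ⟨g, hgR⟩, hgJ, hxi⟩, hxi⟩
  · rintro ⟨f, hf, rfl⟩
    obtain ⟨hfR, t, ht, hte⟩ := mem_IP.1 hf
    exact mem_IP.2 ⟨hte ▸ t.2, by
      have : (⟨xi k j * f, hte ▸ t.2⟩ : ↥R) = t := Subtype.ext hte.symm
      rw [this]; exact ht⟩

lemma image_eq_of_rel {j : Fin s} {R : Subalgebra k (Fin s → PowerSeries k)} {I J : Ideal ↥R} (h : Rel j R I J) :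
    (Subtype.val '' (J : Set ↥R)) = (fun f => Pi.mulSingle j PowerSeries.X * f) '' (Subtype.val '' (I : Set ↥R)) := by
  ext g
  constructor
  · rintro ⟨t, ht, rfl⟩
    obtain ⟨r, hr, hrt⟩ := rel_R2 h t ht
    exact ⟨r, ⟨r, hr, rfl⟩, hrt.symm⟩
  · rintro ⟨f, ⟨r, hr, rfl⟩, rfl⟩
    obtain ⟨t, ht, hrt⟩ := rel_R1 h r hr
    exact ⟨t, ht, hrt⟩

theorem s15149 (s : ℕ)
    (R : Subalgebra k (Fin s → PowerSeries k))
    (hfin : Module.Finite k ((Fin s → PowerSeries k) ⧸ Subalgebra.toSubmodule R))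
    (c : Fin s → ℕ)
    (hc : ∀ f : Fin s → PowerSeries k,
      (∀ g : Fin s → PowerSeries k, g * f ∈ R) ↔ ∀ i, ((c i : ℕ) : ℕ∞) ≤ (f i).order)
    (j : Fin s) (d : ℕ) (a : Fin s → ℕ) (hj : c j ≤ a j) :
    (∀ I ∈ {I : Ideal ↥R | Module.Finite k (↥R ⧸ I) ∧ Module.finrank k (↥R ⧸ I) = d ∧ (∀ i : Fin s, Ideal.map ((Pi.evalAlgHom k (fun _ : Fin s => PowerSeries k) i).comp R.val) I = Ideal.span {PowerSeries.X ^ (a i)})},
      ∃ J ∈ {I : Ideal ↥R | Module.Finite k (↥R ⧸ I) ∧ Module.finrank k (↥R ⧸ I) = d + 1 ∧ (∀ i : Fin s, Ideal.map ((Pi.evalAlgHom k (fun _ : Fin s => PowerSeries k) i).comp R.val) I = Ideal.span {PowerSeries.X ^ ((Function.update a j (a j + 1)) i)})},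
        (Subtype.val '' (J : Set ↥R)) = (fun f => Pi.mulSingle j PowerSeries.X * f) '' (Subtype.val '' (I : Set ↥R))) ∧
    (∀ J ∈ {I : Ideal ↥R | Module.Finite k (↥R ⧸ I) ∧ Module.finrank k (↥R ⧸ I) = d + 1 ∧ (∀ i : Fin s, Ideal.map ((Pi.evalAlgHom k (fun _ : Fin s => PowerSeries k) i).comp R.val) I = Ideal.span {PowerSeries.X ^ ((Function.update a j (a j + 1)) i)})},
      ∃ I ∈ {I : Ideal ↥R | Module.Finite k (↥R ⧸ I) ∧ Module.finrank k (↥R ⧸ I) = d ∧ (∀ i : Fin s, Ideal.map ((Pi.evalAlgHom k (fun _ : Fin s => PowerSeries k) i).comp R.val) I = Ideal.span {PowerSeries.X ^ (a i)})},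
        (Subtype.val '' (J : Set ↥R)) = (fun f => Pi.mulSingle j PowerSeries.X * f) '' (Subtype.val '' (I : Set ↥R))) := by
  constructor
  · rintro I ⟨hIfin, hId, hIa⟩
    have hrel := rel_xiIdeal R c hc j a hj I hIa
    obtain ⟨hPI, hrkI⟩ := finrank_IP R I
    obtain ⟨hPJ, hrkJ⟩ := rel_finrank j R I _ hrel
    have hJfin := finite_of_finite_IP R (xiIdeal j R I)
    obtain ⟨-, hrkJ'⟩ := finrank_IP R (xiIdeal j R I)
    refine ⟨xiIdeal j R I, ⟨hJfin, by omega, rel_type_fwd hrel a hIa⟩, image_eq_of_rel hrel⟩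
  · rintro J ⟨hJfin, hJd, hJa⟩
    have hrel := rel_xiInvIdeal R c hc j a hj J hJa
    have hIa := rel_type_bwd hrel a hJa
    have hle : FF (fun i => a i + c i) ≤ IP R (xiInvIdeal j R J) := by
      intro g hg
      exact mem_IP.2 ((s15147 s R c hc _ a hIa).1 g hg)
    obtain ⟨hfin2, -⟩ := finrank_quot_FF (k := k) (fun i => a i + c i)
    obtain ⟨hPI, -, -⟩ := finrank_quot_le (FF (fun i => a i + c i)) (IP R (xiInvIdeal j R J)) hle
    have hIfin := finite_of_finite_IP R (xiInvIdeal j R J)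
    obtain ⟨-, hrkI⟩ := finrank_IP R (xiInvIdeal j R J)
    obtain ⟨hPJ, hrkJ⟩ := rel_finrank j R _ J hrel
    obtain ⟨-, hrkJ'⟩ := finrank_IP R J
    refine ⟨xiInvIdeal j R J, ⟨hIfin, by omega, hIa⟩, image_eq_of_rel hrel⟩

end Groth.Agent.H9.Cond
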