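import Mathlib

/-! Helper9: five points in general position on a cone over a plane cubic. -/

set_option autoImplicit false

namespace Groth.Agent.H9.ConePts

universe u

variable {K : Type u} [Field K]

theorem li3 {b0 u v : Fin 3 → K} (h0 : LinearIndependent K ![b0, u, v]) {x y z : K}
    (h : x • b0 + y • u + z • v = 0) : x = 0 ∧ y = 0 ∧ z = 0 := by
  have := Fintype.linearIndependent_iff.mp h0 ![x, y, z] (by
    rw [Fin.sum_univ_three]
    simpa using h)
  exact ⟨this 0, this 1, this 2⟩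

theorem key (b0 b1 u v : Fin 3 → K) (h0 : LinearIndependent K ![b0, u, v]) :
    ∃ α : K, ∀ l : K, l ≠ α → ∀ c0 c1 c2 c3 : K, c0 + l * c1 = 0 →
      c0 • b0 + c1 • b1 + c2 • u + c3 • v = 0 → c0 = 0 ∧ c1 = 0 ∧ c2 = 0 ∧ c3 = 0 := by
  have hspan : Submodule.span K (Set.range ![b0, u, v]) = ⊤ :=
    h0.span_eq_top_of_card_eq_finrank' (by simp)
  have hb1 : b1 ∈ Submodule.span K (Set.range ![b0, u, v]) := by rw [hspan]; trivial
  obtain ⟨g, hg⟩ := (Submodule.mem_span_range_iff_exists_fun K).mp hb1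
  replace hg : g 0 • b0 + g 1 • u + g 2 • v = b1 := by
    rw [Fin.sum_univ_three] at hg
    exact hg
  refine ⟨g 0, fun l hl c0 c1 c2 c3 hc h => ?_⟩
  have hc0 : c0 = -(l * c1) := eq_neg_of_add_eq_zero_left hc
  rw [← hg, hc0] at h
  have h' : (c1 * (g 0 - l)) • b0 + (c1 * g 1 + c2) • u + (c1 * g 2 + c3) • v = 0 := by
    rw [← h]
    funext i
    simp only [Pi.add_apply, Pi.smul_apply, smul_eq_mul]
    ring
  obtain ⟨e0, e1, e2⟩ := li3 h0 h'
  have hc1 : c1 = 0 := by
    rcases mul_eq_zero.mp e0 with h1 | h1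
    · exact h1
    · exact absurd (sub_eq_zero.mp h1).symm hl
  subst hc1
  refine ⟨by rw [hc0]; ring, rfl, ?_, ?_⟩
  · simpa using e1
  · simpa using e2

theorem li4 (t0 t1 t2 t3 : K) (v0 v1 v2 v3 : Fin 3 → K)
    (h : ∀ c0 c1 c2 c3 : K, c0 * t0 + c1 * t1 + c2 * t2 + c3 * t3 = 0 →
      c0 • v0 + c1 • v1 + c2 • v2 + c3 • v3 = 0 → c0 = 0 ∧ c1 = 0 ∧ c2 = 0 ∧ c3 = 0) :
    LinearIndependent K ![(Fin.cons t0 v0 : Fin 4 → K), Fin.cons t1 v1, Fin.cons t2 v2,
      Fin.cons t3 v3] := by
  rw [Fintype.linearIndependent_iff]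
  intro c hc
  rw [Fin.sum_univ_four] at hc
  simp only [Matrix.cons_val_zero, Matrix.cons_val_one] at hc
  replace hc : c 0 • (Fin.cons t0 v0 : Fin 4 → K) + c 1 • (Fin.cons t1 v1 : Fin 4 → K)
      + c 2 • (Fin.cons t2 v2 : Fin 4 → K) + c 3 • (Fin.cons t3 v3 : Fin 4 → K) = 0 := hc
  have h1 := congrFun hc 0
  simp only [Pi.add_apply, Pi.smul_apply, Fin.cons_zero, smul_eq_mul, Pi.zero_apply] at h1
  have h2 : c 0 • v0 + c 1 • v1 + c 2 • v2 + c 3 • v3 = 0 := by
    funext k
    have := congrFun hc k.succ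
    simpa only [Pi.add_apply, Pi.smul_apply, Fin.cons_succ, smul_eq_mul, Pi.zero_apply] using this
  obtain ⟨e0, e1, e2, e3⟩ := h (c 0) (c 1) (c 2) (c 3) h1 h2
  intro i
  fin_cases i
  · exact e0
  · exact e1
  · exact e2
  · exact e3

theorem S16351 [CharZero K]
    (G : MvPolynomial (Fin 3) K) (hG : G.IsHomogeneous 3) (F : MvPolynomial (Fin 4) K)
    (hF : F = MvPolynomial.rename Fin.succ G)
    (b : Fin 5 → (Fin 3 → K)) (hb : ∀ j : Fin 5, MvPolynomial.eval (b j) G = 0)
    (h3 : ∀ i j l : Fin 5, i ≠ j → j ≠ l → i ≠ l → LinearIndependent K ![b i, b j, b l]) :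
    ∃ p : Fin 5 → (Fin 4 → K), (∀ j : Fin 5, MvPolynomial.eval (p j) F = 0) ∧
      ∀ j : Fin 5, LinearIndependent K (fun i : Fin 4 => p (j.succAbove i)) := by
  classical
  obtain ⟨α2, hα2⟩ := key (b 0) (b 1) (b 3) (b 4) (h3 0 3 4 (by decide) (by decide) (by decide))
  obtain ⟨α3, hα3⟩ := key (b 0) (b 1) (b 2) (b 4) (h3 0 2 4 (by decide) (by decide) (by decide))
  obtain ⟨α4, hα4⟩ := key (b 0) (b 1) (b 2) (b 3) (h3 0 2 3 (by decide) (by decide) (by decide))
  obtain ⟨l, hl⟩ := Infinite.exists_notMem_finset ({0, α2, α3, α4} : Finset K)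
  simp only [Finset.mem_insert, Finset.mem_singleton, not_or] at hl
  obtain ⟨hl0, hl2, hl3, hl4⟩ := hl
  set t : Fin 5 → K := ![1, l, 0, 0, 0] with ht
  refine ⟨fun j => Fin.cons (t j) (b j), fun j => ?_, ?_⟩
  · rw [hF, MvPolynomial.eval_rename]
    have : ((Fin.cons (t j) (b j) : Fin 4 → K) ∘ Fin.succ) = b j := by
      funext k; simp
    rw [this]; exact hb j
  · have h234 := h3 2 3 4 (by decide) (by decide) (by decide)
    have c0 : LinearIndependent K (fun i : Fin 4 => (fun j => (Fin.cons (t j) (b j) : Fin 4 → K))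
        ((0 : Fin 5).succAbove i)) := by
      have : (fun i : Fin 4 => (fun j => (Fin.cons (t j) (b j) : Fin 4 → K))
          ((0 : Fin 5).succAbove i)) = ![(Fin.cons l (b 1) : Fin 4 → K), Fin.cons 0 (b 2),
            Fin.cons 0 (b 3), Fin.cons 0 (b 4)] := by
        funext i; fin_cases i <;> rfl
      rw [this]
      apply li4
      intro c0 c1 c2 c3 h1 h2
      have hc0 : c0 = 0 := by
        have : c0 * l = 0 := by linear_combination h1
        exact (mul_eq_zero.mp this).resolve_right hl0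
      subst hc0
      rw [zero_smul, zero_add] at h2
      obtain ⟨e1, e2, e3⟩ := li3 h234 h2
      exact ⟨rfl, e1, e2, e3⟩
    have c1 : LinearIndependent K (fun i : Fin 4 => (fun j => (Fin.cons (t j) (b j) : Fin 4 → K))
        ((1 : Fin 5).succAbove i)) := by
      have : (fun i : Fin 4 => (fun j => (Fin.cons (t j) (b j) : Fin 4 → K))
          ((1 : Fin 5).succAbove i)) = ![(Fin.cons 1 (b 0) : Fin 4 → K), Fin.cons 0 (b 2),
            Fin.cons 0 (b 3), Fin.cons 0 (b 4)] := by
        funext i; fin_cases i <;> rfl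
      rw [this]
      apply li4
      intro c0 c1 c2 c3 h1 h2
      have hc0 : c0 = 0 := by linear_combination h1
      subst hc0
      rw [zero_smul, zero_add] at h2
      obtain ⟨e1, e2, e3⟩ := li3 h234 h2
      exact ⟨rfl, e1, e2, e3⟩
    have c2 : LinearIndependent K (fun i : Fin 4 => (fun j => (Fin.cons (t j) (b j) : Fin 4 → K))
        ((2 : Fin 5).succAbove i)) := by
      have : (fun i : Fin 4 => (fun j => (Fin.cons (t j) (b j) : Fin 4 → K))
          ((2 : Fin 5).succAbove i)) = ![(Fin.cons 1 (b 0) : Fin 4 → K), Fin.cons l (b 1),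
            Fin.cons 0 (b 3), Fin.cons 0 (b 4)] := by
        funext i; fin_cases i <;> rfl
      rw [this]
      apply li4
      intro c0 c1 c2 c3 h1 h2
      exact hα2 l hl2 c0 c1 c2 c3 (by linear_combination h1) h2
    have c3 : LinearIndependent K (fun i : Fin 4 => (fun j => (Fin.cons (t j) (b j) : Fin 4 → K))
        ((3 : Fin 5).succAbove i)) := by
      have : (fun i : Fin 4 => (fun j => (Fin.cons (t j) (b j) : Fin 4 → K))
          ((3 : Fin 5).succAbove i)) = ![(Fin.cons 1 (b 0) : Fin 4 → K), Fin.cons l (b 1),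
            Fin.cons 0 (b 2), Fin.cons 0 (b 4)] := by
        funext i; fin_cases i <;> rfl
      rw [this]
      apply li4
      intro c0 c1 c2 c3 h1 h2
      exact hα3 l hl3 c0 c1 c2 c3 (by linear_combination h1) h2
    have c4 : LinearIndependent K (fun i : Fin 4 => (fun j => (Fin.cons (t j) (b j) : Fin 4 → K))
        ((4 : Fin 5).succAbove i)) := by
      have : (fun i : Fin 4 => (fun j => (Fin.cons (t j) (b j) : Fin 4 → K))
          ((4 : Fin 5).succAbove i)) = ![(Fin.cons 1 (b 0) : Fin 4 → K), Fin.cons l (b 1),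
            Fin.cons 0 (b 2), Fin.cons 0 (b 3)] := by
        funext i; fin_cases i <;> rfl
      rw [this]
      apply li4
      intro c0 c1 c2 c3 h1 h2
      exact hα4 l hl4 c0 c1 c2 c3 (by linear_combination h1) h2
    intro j
    fin_cases j
    · exact c0
    · exact c1
    · exact c2
    · exact c3
    · exact c4

end Groth.Agent.H9.ConePts
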