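import Mathlib

/-! Helper9: conormal exact sequence I/I² → J/J² → C ⊗ Ω_{B/A} for A → C surjective (S9178). -/

namespace Groth.Agent.H9.Conormal
open KaehlerDifferential TensorProduct

universe u

variable (A B C : Type u) [CommRing A] [CommRing B] [CommRing C] [Algebra A B] [Algebra B C]
  [Algebra A C] [IsScalarTower A B C]

lemma smul_eq (b : B) (a : A) (hab : algebraMap A C a = algebraMap B C b)
    (x : (RingHom.ker (algebraMap B C)).Cotangent) : b • x = a • x := by
  have : (b - algebraMap A B a) • x = 0 :=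
    Ideal.Cotangent.smul_eq_zero_of_mem (by
      rw [RingHom.mem_ker, map_sub, ← IsScalarTower.algebraMap_apply, hab, sub_self]) x
  rw [sub_smul, sub_eq_zero] at this
  rw [this, algebraMap_smul]

variable (hAC : Function.Surjective (algebraMap A C))
  (h : RingHom.ker (algebraMap A C) ≤ (RingHom.ker (algebraMap B C)).comap (Algebra.ofId A B))

/-- The image of `I/I²` as a `B`-submodule of `J/J²`. -/
def N : Submodule B (RingHom.ker (algebraMap B C)).Cotangent where
  carrier := Set.range (Ideal.mapCotangent (RingHom.ker (algebraMap A C))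
    (RingHom.ker (algebraMap B C)) (Algebra.ofId A B) h)
  add_mem' := by
    rintro _ _ ⟨x, rfl⟩ ⟨y, rfl⟩
    exact ⟨x + y, map_add _ _ _⟩
  zero_mem' := ⟨0, map_zero _⟩
  smul_mem' := by
    rintro b _ ⟨y, rfl⟩
    obtain ⟨a, ha⟩ := hAC (algebraMap B C b)
    refine ⟨a • y, ?_⟩
    rw [map_smul, smul_eq A B C b a ha]

/-- The quotient `(J/J²)/im(I/I²)`. -/
abbrev Q := (RingHom.ker (algebraMap B C)).Cotangent ⧸ N A B C hAC h

noncomputable def σ (b : B) : A := (hAC (algebraMap B C b)).choose

lemma σ_spec (b : B) : algebraMap A C (σ A B C hAC b) = algebraMap B C b :=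
  (hAC (algebraMap B C b)).choose_spec

lemma sub_σ_mem (b : B) : b - algebraMap A B (σ A B C hAC b) ∈ RingHom.ker (algebraMap B C) := by
  rw [RingHom.mem_ker, map_sub, ← IsScalarTower.algebraMap_apply, σ_spec, sub_self]

noncomputable def Dfun (b : B) : Q A B C hAC h :=
  (N A B C hAC h).mkQ ((RingHom.ker (algebraMap B C)).toCotangent
    ⟨b - algebraMap A B (σ A B C hAC b), sub_σ_mem A B C hAC b⟩)

lemma Dfun_eq (b : B) (a : A) (j : B) (hj : j ∈ RingHom.ker (algebraMap B C))
    (hb : b = algebraMap A B a + j) :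
    Dfun A B C hAC h b = (N A B C hAC h).mkQ ((RingHom.ker (algebraMap B C)).toCotangent ⟨j, hj⟩) := by
  unfold Dfun
  rw [← sub_eq_zero, ← map_sub, ← map_sub, Submodule.mkQ_apply, Submodule.Quotient.mk_eq_zero]
  refine ⟨(RingHom.ker (algebraMap A C)).toCotangent ⟨a - σ A B C hAC b, ?_⟩, ?_⟩
  · rw [RingHom.mem_ker, map_sub, σ_spec, hb, map_add, (RingHom.mem_ker.1 hj), add_zero,
      ← IsScalarTower.algebraMap_apply, sub_self]
  · rw [Ideal.mapCotangent_toCotangent]
    congr 1
    ext
    simp [hb]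
    ring

lemma Dfun_add (b b' : B) : Dfun A B C hAC h (b + b') = Dfun A B C hAC h b + Dfun A B C hAC h b' := by
  rw [Dfun_eq A B C hAC h (b + b') (σ A B C hAC b + σ A B C hAC b')
    ((b - algebraMap A B (σ A B C hAC b)) + (b' - algebraMap A B (σ A B C hAC b')))
    (add_mem (sub_σ_mem A B C hAC b) (sub_σ_mem A B C hAC b')) (by rw [map_add]; ring)]
  unfold Dfun
  rw [← map_add, ← map_add]
  rfl

lemma Dfun_smul (a : A) (b : B) : Dfun A B C hAC h (a • b) = a • Dfun A B C hAC h b := by
  rw [Dfun_eq A B C hAC h (a • b) (a * σ A B C hAC b)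
    (algebraMap A B a * (b - algebraMap A B (σ A B C hAC b)))
    (Ideal.mul_mem_left _ _ (sub_σ_mem A B C hAC b))
    (by rw [map_mul, Algebra.smul_def]; ring)]
  unfold Dfun
  rw [← algebraMap_smul B a, ← map_smul, ← map_smul]
  rfl

lemma Dfun_mul (b b' : B) : Dfun A B C hAC h (b * b') =
    b • Dfun A B C hAC h b' + b' • Dfun A B C hAC h b := by
  have hx := sub_σ_mem A B C hAC b
  have hx' := sub_σ_mem A B C hAC b'
  set x := b - algebraMap A B (σ A B C hAC b) with hxdef
  set x' := b' - algebraMap A B (σ A B C hAC b') with hx'def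
  have hxx' : x * x' ∈ RingHom.ker (algebraMap B C) := Ideal.mul_mem_left _ _ hx'
  rw [Dfun_eq A B C hAC h (b * b') (σ A B C hAC b * σ A B C hAC b')
    (b * x' + b' * x - x * x')
    (sub_mem (add_mem (Ideal.mul_mem_left _ _ hx') (Ideal.mul_mem_left _ _ hx)) hxx')
    (by rw [map_mul, hxdef, hx'def]; ring)]
  have h0 : (RingHom.ker (algebraMap B C)).toCotangent ⟨x * x', hxx'⟩ = 0 := by
    rw [Ideal.toCotangent_eq_zero, pow_two]
    exact Ideal.mul_mem_mul hx hx'
  have e : (⟨b * x' + b' * x - x * x', sub_mem (add_mem (Ideal.mul_mem_left _ _ hx')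
      (Ideal.mul_mem_left _ _ hx)) hxx'⟩ : RingHom.ker (algebraMap B C)) =
      b • ⟨x', hx'⟩ + b' • ⟨x, hx⟩ - ⟨x * x', hxx'⟩ := rfl
  rw [e, map_sub, map_add, map_smul, map_smul, h0, sub_zero, map_add, map_smul, map_smul]
  rfl

noncomputable def Dlin : B →ₗ[A] Q A B C hAC h where
  toFun := Dfun A B C hAC h
  map_add' := Dfun_add A B C hAC h
  map_smul' := Dfun_smul A B C hAC h

noncomputable def Dder : Derivation A B (Q A B C hAC h) :=
  Derivation.mk' (Dlin A B C hAC h) (Dfun_mul A B C hAC h)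

lemma smul_Q_eq_zero (j : B) (hj : j ∈ RingHom.ker (algebraMap B C)) (q : Q A B C hAC h) :
    j • q = 0 := by
  obtain ⟨m, rfl⟩ := Submodule.mkQ_surjective _ q
  rw [← map_smul, Ideal.Cotangent.smul_eq_zero_of_mem hj, map_zero]

include hAC in
lemma hBC : Function.Surjective (Algebra.linearMap B C) := by
  intro c
  obtain ⟨a, rfl⟩ := hAC c
  exact ⟨algebraMap A B a, (IsScalarTower.algebraMap_apply A B C a).symm⟩

noncomputable def φ : Ω[B⁄A] →ₗ[B] Q A B C hAC h := (Dder A B C hAC h).liftKaehlerDifferential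

noncomputable def μ : C →ₗ[B] (Ω[B⁄A] →ₗ[B] Q A B C hAC h) :=
  (Submodule.liftQ (LinearMap.ker (Algebra.linearMap B C))
    (LinearMap.toSpanSingleton B _ (φ A B C hAC h)) (by
      intro j hj
      rw [LinearMap.mem_ker, LinearMap.toSpanSingleton_apply]
      refine LinearMap.ext fun ω => ?_
      rw [LinearMap.smul_apply, LinearMap.zero_apply]
      exact smul_Q_eq_zero A B C hAC h j hj _)) ∘ₗ
    (LinearMap.quotKerEquivOfSurjective (Algebra.linearMap B C) (hBC A B C hAC)).symm.toLinearMap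

lemma μ_one : μ A B C hAC h 1 = φ A B C hAC h := by
  have : (LinearMap.quotKerEquivOfSurjective (Algebra.linearMap B C) (hBC A B C hAC)).symm 1 =
      Submodule.Quotient.mk (1 : B) := by
    rw [LinearEquiv.symm_apply_eq, LinearMap.quotKerEquivOfSurjective_apply_mk]
    simp
  unfold μ
  rw [LinearMap.comp_apply, LinearEquiv.coe_coe, this, Submodule.liftQ_apply,
    LinearMap.toSpanSingleton_apply, one_smul]

noncomputable def ψ : C ⊗[B] Ω[B⁄A] →ₗ[B] Q A B C hAC h := TensorProduct.lift (μ A B C hAC h)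

include hAC in
theorem main :
    Function.Exact
      (Ideal.mapCotangent (RingHom.ker (algebraMap A C)) (RingHom.ker (algebraMap B C))
        (Algebra.ofId A B) h)
      (KaehlerDifferential.kerCotangentToTensor A B C) := by
  intro y
  constructor
  · intro hy
    obtain ⟨⟨b, hb⟩, rfl⟩ := Ideal.toCotangent_surjective _ y
    rw [kerCotangentToTensor_toCotangent] at hy
    have h1 := congrArg (ψ A B C hAC h) hy
    rw [map_zero] at h1
    change TensorProduct.lift (μ A B C hAC h) ((1 : C) ⊗ₜ[B] (D A B) b) = 0 at h1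
    rw [TensorProduct.lift.tmul, μ_one] at h1
    change (Dder A B C hAC h).liftKaehlerDifferential ((D A B) b) = 0 at h1
    rw [Derivation.liftKaehlerDifferential_comp_D] at h1
    change Dfun A B C hAC h b = 0 at h1
    rw [Dfun_eq A B C hAC h b 0 b hb (by simp), Submodule.mkQ_apply,
      Submodule.Quotient.mk_eq_zero] at h1
    exact h1
  · rintro ⟨x, rfl⟩
    obtain ⟨⟨a, ha⟩, rfl⟩ := Ideal.toCotangent_surjective _ x
    rw [Ideal.mapCotangent_toCotangent, kerCotangentToTensor_toCotangent]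
    change (1 : C) ⊗ₜ[B] (D A B) (algebraMap A B a) = 0
    rw [Derivation.map_algebraMap, TensorProduct.tmul_zero]

end Groth.Agent.H9.Conormal
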