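import Mathlib

/-! Helper9: constructible subsets of an irreducible Noetherian scheme of dimension one (S10886). -/

open TopologicalSpace Topology AlgebraicGeometry

namespace Groth.Agent.H9.Cons1

variable {X : Type*} [TopologicalSpace X]

/-- a chain of three irreducible closed sets forces dimension at least two -/
theorem two_le_dim {a b c : IrreducibleCloseds X} (hab : a < b) (hbc : b < c) :
    (2 : WithBot ℕ∞) ≤ topologicalKrullDim X := by
  let p : LTSeries (IrreducibleCloseds X) :=
    { length := 2
      toFun := ![a, b, c]
      step := by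
        intro i
        fin_cases i
        · exact hab
        · exact hbc }
  have := Order.LTSeries.length_le_krullDim p
  exact this

/-- proper closed subsets of an irreducible Noetherian sober space of dimension ≤ 1 are finite sets
of closed points -/
theorem closed_ne_univ [NoetherianSpace X] [QuasiSober X] [T0Space X] [IrreducibleSpace X]
    (hX : topologicalKrullDim X ≤ 1) {Z : Set X} (hZ : IsClosed Z) (hne : Z ≠ Set.univ) :
    Z.Finite ∧ ∀ x ∈ Z, IsClosed ({x} : Set X) := by
  obtain ⟨S, hSf, hSc, hSi, rfl⟩ := NoetherianSpace.exists_finite_set_isClosed_irreducible hZ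
  have claim : ∀ T ∈ S, ∃ t, T = {t} := by
    intro T hT
    obtain ⟨t, ht⟩ := QuasiSober.sober (hSi T hT) (hSc T hT)
    refine ⟨t, ?_⟩
    apply Set.Subset.antisymm _ (Set.singleton_subset_iff.2 (ht.def ▸ subset_closure rfl))
    intro w hw
    have hwT : closure {w} ⊆ T := closure_minimal (Set.singleton_subset_iff.2 hw) (hSc T hT)
    by_cases heq : closure {w} = T
    · have : closure {w} = closure {t} := by rw [heq, ht.def]
      exact (inseparable_iff_closure_eq.2 this).eq
    · exfalso
      let a : IrreducibleCloseds X := ⟨closure {w}, isIrreducible_singleton.closure, isClosed_closure⟩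
      let b : IrreducibleCloseds X := ⟨T, hSi T hT, hSc T hT⟩
      let c : IrreducibleCloseds X := ⟨Set.univ, IrreducibleSpace.isIrreducible_univ X, isClosed_univ⟩
      have hab : a < b := by
        rw [← SetLike.coe_ssubset_coe]
        exact LE.le.ssubset_of_ne hwT heq
      have hbc : b < c := by
        rw [← SetLike.coe_ssubset_coe]
        refine LE.le.ssubset_of_ne (Set.subset_univ _) ?_
        intro hTu
        apply hne
        apply Set.eq_univ_of_univ_subset
        have hTu' : T = Set.univ := hTu
        rw [← hTu']
        exact Set.subset_sUnion_of_mem hT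
      have h2 := two_le_dim hab hbc
      have : (2 : WithBot ℕ∞) ≤ 1 := h2.trans hX
      exact absurd this (by decide)
  constructor
  · refine Set.Finite.sUnion hSf (fun T hT => ?_)
    obtain ⟨t, rfl⟩ := claim T hT
    exact Set.finite_singleton t
  · rintro x ⟨T, hT, hxT⟩
    obtain ⟨t, rfl⟩ := claim T hT
    rw [Set.mem_singleton_iff.1 hxT]
    exact hSc _ hT

/-- the property: finite set of closed points, or complement of such -/
def P (s : Set X) : Prop :=
  (s.Finite ∧ (∀ x ∈ s, IsClosed ({x} : Set X))) ∨ (sᶜ.Finite ∧ ∀ x ∈ sᶜ, IsClosed ({x} : Set X))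

theorem P_of_constructible [NoetherianSpace X] [QuasiSober X] [T0Space X] [IrreducibleSpace X]
    (hX : topologicalKrullDim X ≤ 1) {s : Set X} (hs : IsConstructible s) : P s := by
  induction hs using IsConstructible.empty_union_induction with
  | open_retrocompact U hU _ =>
    by_cases hUe : U = ∅
    · left; subst hUe; simp
    · right
      apply closed_ne_univ hX hU.isClosed_compl
      intro h
      apply hUe
      rw [← compl_compl U, h, Set.compl_univ]
  | union s _ t _ hs ht =>
    rcases hs with hs | hs
    · rcases ht with ht | ht
      · left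
        refine ⟨hs.1.union ht.1, ?_⟩
        rintro x (hx | hx)
        · exact hs.2 x hx
        · exact ht.2 x hx
      · right
        refine ⟨ht.1.subset (Set.compl_subset_compl.2 Set.subset_union_right), fun x hx => ht.2 x ?_⟩
        exact fun h => hx (Or.inr h)
    · right
      refine ⟨hs.1.subset (Set.compl_subset_compl.2 Set.subset_union_left), fun x hx => hs.2 x ?_⟩
      exact fun h => hx (Or.inl h)
  | compl s _ hs =>
    rcases hs with hs | hs
    · right; rwa [compl_compl]
    · left; exact hs

theorem main {X : Scheme} [IsNoetherian X] [IrreducibleSpace X] (hX : topologicalKrullDim X = 1)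
    (s : Set X) (hs : IsConstructible s) :
    (s.Finite ∧ (∀ x ∈ s, IsClosed ({x} : Set X))) ∨ (sᶜ.Finite ∧ ∀ x ∈ sᶜ, IsClosed ({x} : Set X)) :=
  P_of_constructible hX.le hs

end Groth.Agent.H9.Cons1
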