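import Mathlib

/-! Helper9: the constructible topology is Hausdorff, locally compact, totally disconnected (S12123). -/

namespace Groth.Agent.H9.ConsTop
open Topology Set

universe u

variable {X : Type u} [TopologicalSpace X]

lemma isOpen_cons_of_compactOpen {V : Set X} (hVo : IsOpen V) (hVc : IsCompact V) :
    IsOpen (WithTopology.ofTopology ⁻¹' V : Set (WithConstructibleTopology X)) :=
  hVc.isOpen_constructibleTopology_of_isOpen hVo

lemma isOpen_cons_compl_of_compactOpen {V : Set X} (hVo : IsOpen V) (hVc : IsCompact V) :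
    IsOpen (WithTopology.ofTopology ⁻¹' Vᶜ : Set (WithConstructibleTopology X)) := by
  have h : IsOpen[constructibleTopology X] Vᶜ :=
    IsCompact.isOpen_constructibleTopology_of_isClosed (by rwa [compl_compl]) hVo.isClosed_compl
  exact h

lemma isClopen_cons_of_compactOpen {V : Set X} (hVo : IsOpen V) (hVc : IsCompact V) :
    IsClopen (WithTopology.ofTopology ⁻¹' V : Set (WithConstructibleTopology X)) :=
  ⟨by
    rw [← isOpen_compl_iff]
    exact isOpen_cons_compl_of_compactOpen hVo hVc, isOpen_cons_of_compactOpen hVo hVc⟩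

/-- separation of distinct points by compact opens -/
lemma exists_compactOpen_sep [T0Space X] [PrespectralSpace X] {x y : X} (hxy : x ≠ y) :
    ∃ V : Set X, IsOpen V ∧ IsCompact V ∧ ((x ∈ V ∧ y ∉ V) ∨ (y ∈ V ∧ x ∉ V)) := by
  obtain ⟨U, hU, hxor⟩ := exists_isOpen_xor_mem hxy
  rcases hxor with ⟨hx, hy⟩ | ⟨hy, hx⟩
  · obtain ⟨V, ⟨hV₁, hV₂⟩, hxV, hVU⟩ :=
      PrespectralSpace.isTopologicalBasis.exists_subset_of_mem_open hx hU
    exact ⟨V, hV₁, hV₂, Or.inl ⟨hxV, fun h => hy (hVU h)⟩⟩
  · obtain ⟨V, ⟨hV₁, hV₂⟩, hyV, hVU⟩ :=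
      PrespectralSpace.isTopologicalBasis.exists_subset_of_mem_open hy hU
    exact ⟨V, hV₁, hV₂, Or.inr ⟨hyV, fun h => hx (hVU h)⟩⟩

lemma exists_isClopen_sep [T0Space X] [PrespectralSpace X] {x y : WithConstructibleTopology X}
    (hxy : x ≠ y) : ∃ U : Set (WithConstructibleTopology X), IsClopen U ∧ x ∈ U ∧ y ∈ Uᶜ := by
  have hne : WithTopology.ofTopology x ≠ WithTopology.ofTopology y := fun h =>
    hxy (WithTopology.ofTopology_injective _ h)
  obtain ⟨V, hVo, hVc, h⟩ := exists_compactOpen_sep hne
  rcases h with ⟨hx, hy⟩ | ⟨hy, hx⟩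
  · exact ⟨_, isClopen_cons_of_compactOpen hVo hVc, hx, hy⟩
  · exact ⟨_, (isClopen_cons_of_compactOpen hVo hVc).compl, hx, by simpa using hy⟩

instance totallySeparated [T0Space X] [PrespectralSpace X] :
    TotallySeparatedSpace (WithConstructibleTopology X) :=
  totallySeparatedSpace_iff_exists_isClopen.2 fun _ _ hxy => exists_isClopen_sep hxy

/-- the comparison map from the constructible topology of a subspace -/
def incl (V : Set X) : WithConstructibleTopology ↥V → WithConstructibleTopology X :=
  fun w => WithTopology.toTopology _ (WithTopology.ofTopology w).1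

lemma isCompact_preimage_val [QuasiSeparatedSpace X] {V W : Set X} (hVo : IsOpen V)
    (hVc : IsCompact V) (hWo : IsOpen W) (hWc : IsCompact W) :
    IsCompact (Subtype.val ⁻¹' W : Set ↥V) := by
  have h1 : IsCompact (W ∩ V) := QuasiSeparatedSpace.inter_isCompact W V hWo hWc hVo hVc
  have h2 : W ∩ V ⊆ range (Subtype.val : ↥V → X) := by
    rw [Subtype.range_coe]; exact inter_subset_right
  have h3 := (IsInducing.subtypeVal.isCompact_preimage_iff h2).2 h1
  have e : (Subtype.val ⁻¹' (W ∩ V) : Set ↥V) = Subtype.val ⁻¹' W := by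
    ext q; simp only [mem_preimage, mem_inter_iff, q.2, and_true]
  rwa [e] at h3

lemma continuous_val_cons [QuasiSeparatedSpace X] {V : Set X} (hVo : IsOpen V)
    (hVc : IsCompact V) :
    Continuous[constructibleTopology ↥V, constructibleTopology X] (Subtype.val : ↥V → X) := by
  apply continuous_generateFrom_iff.2
  intro s hs
  rcases hs with ⟨hso, hsc⟩ | ⟨hscl, hsc⟩
  · exact (isCompact_preimage_val hVo hVc hso hsc).isOpen_constructibleTopology_of_isOpen
      (hso.preimage continuous_subtype_val)
  · refine IsCompact.isOpen_constructibleTopology_of_isClosed ?_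
      (hscl.preimage continuous_subtype_val)
    have := isCompact_preimage_val hVo hVc hscl.isOpen_compl hsc
    rwa [preimage_compl] at this

lemma continuous_incl [QuasiSeparatedSpace X] {V : Set X} (hVo : IsOpen V) (hVc : IsCompact V) :
    Continuous (incl V) := by
  have h1 := WithTopology.continuous_ofTopology (constructibleTopology ↥V)
  have h2 := continuous_val_cons hVo hVc
  have h3 := WithTopology.continuous_toTopology (constructibleTopology X)
  exact @Continuous.comp _ _ _ _ (constructibleTopology X) _ _ _ h3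
    (@Continuous.comp _ _ _ _ (constructibleTopology ↥V) (constructibleTopology X) _ _ h2 h1)

lemma isCompact_cons_of_compactOpen [QuasiSober X] [PrespectralSpace X] [QuasiSeparatedSpace X]
    {V : Set X} (hVo : IsOpen V) (hVc : IsCompact V) :
    IsCompact (WithTopology.ofTopology ⁻¹' V : Set (WithConstructibleTopology X)) := by
  have : CompactSpace ↥V := isCompact_iff_compactSpace.1 hVc
  have : QuasiSober ↥V := hVo.isOpenEmbedding_subtypeVal.quasiSober
  have : PrespectralSpace ↥V := hVo.isOpenEmbedding_subtypeVal.prespectralSpace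
  have : QuasiSeparatedSpace ↥V := hVo.isOpenEmbedding_subtypeVal.quasiSeparatedSpace
  have hc : IsCompact (range (incl V)) := isCompact_range (continuous_incl hVo hVc)
  have e : range (incl V) = (WithTopology.ofTopology ⁻¹' V : Set (WithConstructibleTopology X)) := by
    ext x
    constructor
    · rintro ⟨w, rfl⟩
      exact (WithTopology.ofTopology w).2
    · intro hx
      exact ⟨WithTopology.toTopology _ ⟨WithTopology.ofTopology x, hx⟩, rfl⟩
  rwa [e] at hc

theorem main [T0Space X] [QuasiSober X] [PrespectralSpace X] [QuasiSeparatedSpace X] :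
    T2Space (WithConstructibleTopology X) ∧ LocallyCompactSpace (WithConstructibleTopology X) ∧
      TotallyDisconnectedSpace (WithConstructibleTopology X) := by
  have h2 : T2Space (WithConstructibleTopology X) := inferInstance
  have hw : WeaklyLocallyCompactSpace (WithConstructibleTopology X) := by
    refine ⟨fun x => ?_⟩
    obtain ⟨V, ⟨hV₁, hV₂⟩, hxV, -⟩ :=
      PrespectralSpace.isTopologicalBasis.exists_subset_of_mem_open
        (mem_univ (WithTopology.ofTopology x)) isOpen_univ
    exact ⟨_, isCompact_cons_of_compactOpen hV₁ hV₂,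
      (isOpen_cons_of_compactOpen hV₁ hV₂).mem_nhds hxV⟩
  exact ⟨h2, inferInstance, inferInstance⟩

end Groth.Agent.H9.ConsTop
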