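import Mathlib
import Groth.Agent.Lib.Helper9.Misc.ConsTop

/-! Helper9: locally constructible iff clopen in the constructible topology (S12122). -/

namespace Groth.Agent.H9.ConsTop
open Topology Set TopologicalSpace
open scoped Set.Notation

universe u

variable {X : Type u} [TopologicalSpace X]

lemma isConstructible_of_mem_subbasis [QuasiSeparatedSpace X] {s : Set X}
    (hs : s ∈ constructibleTopologySubbasis X) : IsConstructible s := by
  rcases hs with ⟨ho, hc⟩ | ⟨hcl, hc⟩
  · exact hc.isConstructible ho
  · exact (hc.isConstructible hcl.isOpen_compl).of_compl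

/-- A subset which is compact and open for the constructible topology is constructible. -/
lemma isConstructible_of_isCompact_isOpen_cons [QuasiSeparatedSpace X] {s : Set X}
    (ho : IsOpen[constructibleTopology X] s)
    (hc : @IsCompact X (constructibleTopology X) s) : IsConstructible s := by
  let B : Set (Set X) := (fun f => ⋂₀ f) ''
    {f : Set (Set X) | f.Finite ∧ f ⊆ constructibleTopologySubbasis X}
  have hB : @IsTopologicalBasis X (constructibleTopology X) B :=
    @isTopologicalBasis_of_subbasis X (constructibleTopology X) _ rfl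
  have hBc : ∀ b ∈ B, IsConstructible b := by
    rintro _ ⟨f, ⟨hf, hfs⟩, rfl⟩
    exact IsConstructible.sInter hf fun t ht => isConstructible_of_mem_subbasis (hfs ht)
  have hex : ∀ x : ↥s, ∃ b ∈ B, x.1 ∈ b ∧ b ⊆ s := fun x =>
    @IsTopologicalBasis.exists_subset_of_mem_open X (constructibleTopology X) B hB x.1 s x.2 ho
  choose b hbB hxb hbs using hex
  obtain ⟨t, ht⟩ := @IsCompact.elim_finite_subcover X (constructibleTopology X) _ s hc
    (fun x : ↥s => b x)
    (fun x => @IsTopologicalBasis.isOpen X (constructibleTopology X) _ _ hB (hbB x))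
    (fun x hx => mem_iUnion.2 ⟨⟨x, hx⟩, hxb ⟨x, hx⟩⟩)
  have e : s = ⋃ x ∈ t, b x := by
    apply subset_antisymm ht
    exact iUnion₂_subset fun x _ => hbs x
  rw [e]
  exact IsConstructible.biUnion t.finite_toSet fun x _ => hBc _ (hbB x)

lemma isOpen_cons_of_retrocompact [PrespectralSpace X] {W : Set X} (hWo : IsOpen W)
    (hWr : IsRetrocompact W) :
    IsOpen[constructibleTopology X] W ∧ IsOpen[constructibleTopology X] Wᶜ := by
  have hcov : ∀ x : X, ∃ V : Set X, IsOpen V ∧ IsCompact V ∧ x ∈ V := fun x => by
    obtain ⟨V, ⟨hV₁, hV₂⟩, hxV, -⟩ :=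
      PrespectralSpace.isTopologicalBasis.exists_subset_of_mem_open (mem_univ x) isOpen_univ
    exact ⟨V, hV₁, hV₂, hxV⟩
  choose V hVo hVc hxV using hcov
  constructor
  · have e : W = ⋃ x, W ∩ V x := by
      ext y
      simp only [mem_iUnion, mem_inter_iff]
      exact ⟨fun h => ⟨y, h, hxV y⟩, fun ⟨_, h, _⟩ => h⟩
    rw [e]
    exact @isOpen_iUnion X _ (constructibleTopology X) _ fun x =>
      (hWr (hVc x) (hVo x)).isOpen_constructibleTopology_of_isOpen (hWo.inter (hVo x))
  · have e : Wᶜ = ⋃ x, V x ∩ (W ∩ V x)ᶜ := by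
      ext y
      simp only [mem_iUnion, mem_inter_iff, mem_compl_iff, not_and]
      exact ⟨fun h => ⟨y, hxV y, fun h' => absurd h' h⟩, fun ⟨x, hx, h⟩ hy => h hy hx⟩
    rw [e]
    refine @isOpen_iUnion X _ (constructibleTopology X) _ fun x => ?_
    refine @IsOpen.inter X (constructibleTopology X) _ _ ?_ ?_
    · exact (hVc x).isOpen_constructibleTopology_of_isOpen (hVo x)
    · exact IsCompact.isOpen_constructibleTopology_of_isClosed
        (by rw [compl_compl]; exact hWr (hVc x) (hVo x)) (hWo.inter (hVo x)).isClosed_compl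

lemma isOpen_cons_of_isConstructible [PrespectralSpace X] {E : Set X} (hE : IsConstructible E) :
    IsOpen[constructibleTopology X] E ∧ IsOpen[constructibleTopology X] Eᶜ := by
  induction hE using IsConstructible.empty_union_induction with
  | open_retrocompact U hUopen hUcomp => exact isOpen_cons_of_retrocompact hUopen hUcomp
  | union s hs t ht hs' ht' =>
    refine ⟨@IsOpen.union X _ _ (constructibleTopology X) hs'.1 ht'.1, ?_⟩
    rw [compl_union]
    exact @IsOpen.inter X (constructibleTopology X) _ _ hs'.2 ht'.2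
  | compl s hs hs' => exact ⟨hs'.2, by rw [compl_compl]; exact hs'.1⟩

theorem locallyConstructible_iff [QuasiSober X] [PrespectralSpace X] [QuasiSeparatedSpace X]
    (E : Set X) :
    IsLocallyConstructible E ↔
      (IsOpen[constructibleTopology X] E ∧ IsClosed[constructibleTopology X] E) := by
  have hcov : ∀ x : X, ∃ V : Set X, IsOpen V ∧ IsCompact V ∧ x ∈ V := fun x => by
    obtain ⟨V, ⟨hV₁, hV₂⟩, hxV, -⟩ :=
      PrespectralSpace.isTopologicalBasis.exists_subset_of_mem_open (mem_univ x) isOpen_univ
    exact ⟨V, hV₁, hV₂, hxV⟩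
  constructor
  · intro hE
    choose V hVo hVc hxV using hcov
    have h1 : ∀ x, IsConstructible (E ∩ V x) := fun x =>
      hE.inter_of_isOpen_isCompact (hVo x) (hVc x)
    constructor
    · have e : E = ⋃ x, E ∩ V x := by
        ext y
        simp only [mem_iUnion, mem_inter_iff]
        exact ⟨fun h => ⟨y, h, hxV y⟩, fun ⟨_, h, _⟩ => h⟩
      rw [e]
      exact @isOpen_iUnion X _ (constructibleTopology X) _ fun x =>
        (isOpen_cons_of_isConstructible (h1 x)).1
    · rw [← @isOpen_compl_iff X _ (constructibleTopology X)]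
      have e : Eᶜ = ⋃ x, V x ∩ (E ∩ V x)ᶜ := by
        ext y
        simp only [mem_iUnion, mem_inter_iff, mem_compl_iff, not_and]
        exact ⟨fun h => ⟨y, hxV y, fun h' => absurd h' h⟩, fun ⟨x, hx, h⟩ hy => h hy hx⟩
      rw [e]
      refine @isOpen_iUnion X _ (constructibleTopology X) _ fun x => ?_
      refine @IsOpen.inter X (constructibleTopology X) _ _ ?_ ?_
      · exact (hVc x).isOpen_constructibleTopology_of_isOpen (hVo x)
      · exact (isOpen_cons_of_isConstructible (h1 x)).2
  · rintro ⟨hEo, hEc⟩ x
    obtain ⟨V, hVo, hVc, hxV⟩ := hcov x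
    refine ⟨V, hVo.mem_nhds hxV, hVo, ?_⟩
    have : CompactSpace ↥V := isCompact_iff_compactSpace.1 hVc
    have : QuasiSober ↥V := hVo.isOpenEmbedding_subtypeVal.quasiSober
    have : PrespectralSpace ↥V := hVo.isOpenEmbedding_subtypeVal.prespectralSpace
    have : QuasiSeparatedSpace ↥V := hVo.isOpenEmbedding_subtypeVal.quasiSeparatedSpace
    have hcont := continuous_val_cons hVo hVc
    have hcs : @CompactSpace ↥V (constructibleTopology ↥V) :=
      @Function.Surjective.compactSpace (WithConstructibleTopology ↥V) ↥V _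
        (constructibleTopology ↥V) _ (WithTopology.continuous_ofTopology _) _
        (WithTopology.ofTopology_surjective _)
    have ho : IsOpen[constructibleTopology ↥V] (V ↓∩ E) :=
      (@continuous_def _ _ (constructibleTopology ↥V) (constructibleTopology X) _).1 hcont E hEo
    have hcl : IsClosed[constructibleTopology ↥V] (V ↓∩ E) := by
      rw [← @isOpen_compl_iff _ _ (constructibleTopology ↥V)]
      have := (@continuous_def _ _ (constructibleTopology ↥V) (constructibleTopology X) _).1
        hcont Eᶜ ((@isOpen_compl_iff X _ (constructibleTopology X)).2 hEc)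
      exact this
    exact isConstructible_of_isCompact_isOpen_cons ho
      (@IsClosed.isCompact ↥V (constructibleTopology ↥V) _ hcs hcl)

end Groth.Agent.H9.ConsTop
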