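import Mathlib
import Groth.Prelude.Def_W4c3ghconstell
import Groth.Agent.Lib.Helper9.ComodCosemi
import Groth.Agent.Lib.Helper9.ComodDecomp

/-!
# Weight-stability of equivariant modules with prescribed isotypic dimensions (helper9)

Tools for the `W4c3ghconstell` rows: isotypic components are subcomodules, the `R`-span of a
subcomodule of a relative Hopf module is a subcomodule, a non-zero subcomodule meets some isotypic
component, and comparison lemmas for the weight `theta`.
-/

set_option autoImplicit false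
set_option linter.style.haveILetI false

universe u v w x

open TensorProduct W4c3ghconstell

namespace Groth.Agent.H9.Constell

open Groth.Agent.H9.Comod

section Coalg

variable {k : Type u} [Field k] {A : Type v} [AddCommGroup A] [Module k A] [Coalgebra k A]
  {M : Type x} [AddCommGroup M] [Module k M] [HopfRep.Comod k A M]

lemma isSubcoalg_of (D : SimpSub k A) : Comod.IsSubcoalg k D.1 := D.2.2.1

theorem isSubcomod_isoComp {D : Submodule k A} (hD : Comod.IsSubcoalg k D) :
    HopfRep.IsSubcomod (k := k) (A := A) (isoComp M D) := by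
  rw [isSubcomod_iff_slice A]
  intro m hm φ
  obtain ⟨y, hy⟩ := hm
  show HopfRep.Comod.coact (k := k) (A := A)
    (slice φ (HopfRep.Comod.coact (k := k) (A := A) m)) ∈
      LinearMap.range (LinearMap.lTensor M D.subtype)
  rw [coact_slice_coact, ← hy, ← LinearMap.comp_apply, ← LinearMap.lTensor_comp]
  have hmem : ∀ d : D, (((slice φ : A ⊗[k] A →ₗ[k] A) ∘ₗ
      CoalgebraStruct.comul (R := k) (A := A)) ∘ₗ D.subtype) d ∈ D := by
    intro d
    exact ((isSubcoalg_iff D).mp hD d d.2).1 φ
  let g : D →ₗ[k] D := LinearMap.codRestrict D (((slice φ : A ⊗[k] A →ₗ[k] A) ∘ₗ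
      CoalgebraStruct.comul (R := k) (A := A)) ∘ₗ D.subtype) hmem
  have hg : D.subtype ∘ₗ g = ((slice φ : A ⊗[k] A →ₗ[k] A) ∘ₗ
      CoalgebraStruct.comul (R := k) (A := A)) ∘ₗ D.subtype :=
    LinearMap.subtype_comp_codRestrict _ _ _
  rw [← hg, LinearMap.lTensor_comp, LinearMap.comp_apply]
  exact ⟨_, rfl⟩

lemma slice_coact_of_mem_isoComp (e : A →ₗ[k] k) (D : Submodule k A) {m : M}
    (hm : m ∈ isoComp M D) (he : ∀ a ∈ D, e a = Coalgebra.counit (R := k) (A := A) a) :
    slice e (HopfRep.Comod.coact (k := k) (A := A) m) = m := by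
  obtain ⟨y, hy⟩ := hm
  rw [← hy, slice_lTensor]
  have h3 : e ∘ₗ D.subtype = Coalgebra.counit (R := k) (A := A) ∘ₗ D.subtype := by
    ext d
    simp [he d d.2]
  rw [h3, ← slice_lTensor, hy, slice_counit_coact']

lemma slice_coact_of_mem_isoComp_zero (e : A →ₗ[k] k) (D : Submodule k A) {m : M}
    (hm : m ∈ isoComp M D) (he : ∀ a ∈ D, e a = 0) :
    slice e (HopfRep.Comod.coact (k := k) (A := A) m) = 0 := by
  obtain ⟨y, hy⟩ := hm
  rw [← hy, slice_lTensor]
  have h3 : e ∘ₗ D.subtype = 0 := by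
    ext d
    simp [he d d.2]
  rw [h3]
  simp [slice]

variable (k A) in
theorem iSupIndep_simpSub : iSupIndep (fun D : SimpSub k A => (D.1 : Submodule k A)) := by
  have h1 := iSupIndep_simpleSubcoalg (k := k) (A := A)
  have h2 := h1.comp (f := fun D : SimpSub k A =>
    (⟨D.1, D.2⟩ : {D : Submodule k A // Comod.IsSimpleSubcoalg k D}))
    (fun D D' hDD' => Subtype.ext (congrArg Subtype.val hDD'))
  exact h2

/-- a functional which is the counit on `D` and zero on every other simple subcoalgebra -/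
lemma exists_functional (D : SimpSub k A) :
    ∃ e : A →ₗ[k] k, (∀ a ∈ D.1, e a = Coalgebra.counit (R := k) (A := A) a) ∧
      ∀ D' : SimpSub k A, D' ≠ D → ∀ a ∈ D'.1, e a = 0 := by
  classical
  have hind := iSupIndep_simpSub k A
  set Q : Submodule k A := ⨆ (D' : SimpSub k A) (_ : D' ≠ D), D'.1 with hQ
  have hdisj : Disjoint D.1 Q := hind D
  let f : D.1 →ₗ[k] A ⧸ Q := Q.mkQ ∘ₗ D.1.subtype
  have hker : LinearMap.ker f = ⊥ := by
    rw [LinearMap.ker_eq_bot']
    intro d hd
    have hdQ : (d : A) ∈ Q := by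
      have h1 : Q.mkQ (d : A) = 0 := hd
      rwa [Submodule.mkQ_apply, Submodule.Quotient.mk_eq_zero] at h1
    have h2 : (d : A) ∈ D.1 ⊓ Q := ⟨d.2, hdQ⟩
    rw [hdisj.eq_bot, Submodule.mem_bot] at h2
    exact Subtype.ext h2
  obtain ⟨g, hg⟩ := f.exists_leftInverse_of_injective hker
  refine ⟨Coalgebra.counit (R := k) (A := A) ∘ₗ D.1.subtype ∘ₗ g ∘ₗ Q.mkQ, ?_, ?_⟩
  · intro a ha
    have h1 : g (Q.mkQ a) = ⟨a, ha⟩ := LinearMap.congr_fun hg ⟨a, ha⟩
    simp only [LinearMap.comp_apply]
    rw [h1]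
    rfl
  · intro D' hD' a ha
    have haQ : a ∈ Q := Submodule.mem_iSup_of_mem D' (Submodule.mem_iSup_of_mem hD' ha)
    have h1 : Q.mkQ a = 0 := by
      rw [Submodule.mkQ_apply, Submodule.Quotient.mk_eq_zero]
      exact haQ
    simp only [LinearMap.comp_apply, h1, map_zero]

/-- a non-zero subcomodule of a module which is the sum of its isotypic components meets one of
them -/
theorem exists_inf_isoComp_ne_bot (htop : (⨆ D : SimpSub k A, isoComp M D.1) = ⊤)
    {N : Submodule k M} (hN : HopfRep.IsSubcomod (k := k) (A := A) N) (hne : N ≠ ⊥) :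
    ∃ D : SimpSub k A, N ⊓ isoComp M D.1 ≠ ⊥ := by
  classical
  by_contra hall
  push_neg at hall
  apply hne
  rw [Submodule.eq_bot_iff]
  intro n hn
  have hntop : n ∈ ⨆ D : SimpSub k A, isoComp M D.1 := by
    rw [htop]
    trivial
  obtain ⟨f, hf, hfs⟩ := (Submodule.mem_iSup_iff_exists_finsupp _ _).mp hntop
  have hzero : ∀ D, f D = 0 := by
    intro D
    obtain ⟨e, he1, he2⟩ := exists_functional D
    have hp : slice e (HopfRep.Comod.coact (k := k) (A := A) n) = f D := by
      rw [← hfs, Finsupp.sum, map_sum, map_sum, Finset.sum_eq_single D]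
      · exact slice_coact_of_mem_isoComp e D.1 (hf D) he1
      · intro D' _ hD'
        exact slice_coact_of_mem_isoComp_zero e D'.1 (hf D') (he2 D' hD')
      · intro hD
        rw [Finsupp.notMem_support_iff.mp hD]
        simp
    have hmemN : f D ∈ N := by
      rw [← hp]
      exact (isSubcomod_iff_slice A N).mp hN n hn e
    have h2 : f D ∈ N ⊓ isoComp M D.1 := ⟨hmemN, hf D⟩
    rw [hall D, Submodule.mem_bot] at h2
    exact h2
  rw [← hfs, Finsupp.sum]
  exact Finset.sum_eq_zero (fun D _ => hzero D)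

lemma eq_top_of_isoComp_le (htop : (⨆ D : SimpSub k A, isoComp M D.1) = ⊤)
    (N : Submodule k M) (h : ∀ D : SimpSub k A, isoComp M D.1 ≤ N) : N = ⊤ := by
  rw [eq_top_iff, ← htop]
  exact iSup_le h

end Coalg

section Num

variable {k : Type u} [Field k] {A : Type v} [AddCommGroup A] [Module k A] [Coalgebra k A]
  {M : Type x} [AddCommGroup M] [Module k M] [HopfRep.Comod k A M]
  (h : SimpSub k A → ℕ) (θ : SimpSub k A → ℚ)
  (hfinM : ∀ D : SimpSub k A, Module.Finite k ↥(isoComp M D.1) ∧
    Module.finrank k ↥(isoComp M D.1) = h D)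

include hfinM

lemma hilbAt_top (D : SimpSub k A) : hilbAt M (⊤ : Submodule k M) D = h D := by
  unfold hilbAt
  rw [top_inf_eq]
  exact (hfinM D).2

lemma hilbAt_mono {N₁ N₂ : Submodule k M} (hle : N₁ ≤ N₂) (D : SimpSub k A) :
    hilbAt M N₁ D ≤ hilbAt M N₂ D := by
  unfold hilbAt
  haveI : Module.Finite k ↥(isoComp M D.1) := (hfinM D).1
  haveI : Module.Finite k ↥(N₂ ⊓ isoComp M D.1) :=
    Submodule.finiteDimensional_of_le inf_le_right
  exact Submodule.finrank_mono (inf_le_inf_right _ hle)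

lemma hilbAt_le (N : Submodule k M) (D : SimpSub k A) : hilbAt M N D ≤ h D := by
  rw [← hilbAt_top h hfinM D]
  exact hilbAt_mono h hfinM le_top D

lemma hilbAt_pos {N : Submodule k M} {D : SimpSub k A} (hne : N ⊓ isoComp M D.1 ≠ ⊥) :
    0 < hilbAt M N D := by
  unfold hilbAt
  haveI : Module.Finite k ↥(isoComp M D.1) := (hfinM D).1
  haveI : Module.Finite k ↥(N ⊓ isoComp M D.1) :=
    Submodule.finiteDimensional_of_le inf_le_right
  exact Submodule.one_le_finrank_iff.mpr hne

lemma hilbAt_lt {N : Submodule k M} {D : SimpSub k A} (hnot : ¬ isoComp M D.1 ≤ N) :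
    hilbAt M N D < h D := by
  unfold hilbAt
  haveI : Module.Finite k ↥(isoComp M D.1) := (hfinM D).1
  have hlt : N ⊓ isoComp M D.1 < isoComp M D.1 := by
    refine lt_of_le_of_ne inf_le_right (fun heq => hnot ?_)
    rw [← heq]
    exact inf_le_left
  have := Submodule.finrank_lt_finrank_of_lt hlt
  rwa [(hfinM D).2] at this

omit hfinM in
lemma hilbAt_bot (D : SimpSub k A) : hilbAt M (⊥ : Submodule k M) D = 0 := by
  unfold hilbAt
  rw [bot_inf_eq]
  exact finrank_bot k M

lemma summable_theta (hsum : Summable (fun D : SimpSub k A => (θ D : ℝ) * (h D : ℝ)))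
    (N : Submodule k M) :
    Summable (fun D : SimpSub k A => (θ D : ℝ) * (hilbAt M N D : ℝ)) := by
  refine Summable.of_norm_bounded (g := fun D => |(θ D : ℝ) * (h D : ℝ)|) hsum.abs ?_
  intro D
  rw [Real.norm_eq_abs, abs_mul, abs_mul]
  apply mul_le_mul_of_nonneg_left _ (abs_nonneg _)
  rw [Nat.abs_cast, Nat.abs_cast]
  exact_mod_cast hilbAt_le h hfinM N D

lemma theta_le (hsum : Summable (fun D : SimpSub k A => (θ D : ℝ) * (h D : ℝ)))
    {N₁ N₂ : Submodule k M} (hle : N₁ ≤ N₂)
    (hneg : ∀ D, θ D < 0 → hilbAt M N₁ D = hilbAt M N₂ D) :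
    theta M θ N₁ ≤ theta M θ N₂ := by
  unfold theta
  refine hasSum_le ?_ (summable_theta h θ hfinM hsum N₁).hasSum
    (summable_theta h θ hfinM hsum N₂).hasSum
  intro D
  rcases lt_or_ge (θ D) 0 with hD | hD
  · rw [hneg D hD]
  · apply mul_le_mul_of_nonneg_left _ (by exact_mod_cast hD)
    exact_mod_cast hilbAt_mono h hfinM hle D

lemma theta_lt (hsum : Summable (fun D : SimpSub k A => (θ D : ℝ) * (h D : ℝ)))
    {N₁ N₂ : Submodule k M} (hle : N₁ ≤ N₂)
    (hneg : ∀ D, θ D < 0 → hilbAt M N₁ D = hilbAt M N₂ D)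
    (D₁ : SimpSub k A) (hpos : 0 < θ D₁) (hlt : hilbAt M N₁ D₁ < hilbAt M N₂ D₁) :
    theta M θ N₁ < theta M θ N₂ := by
  unfold theta
  refine hasSum_lt (i := D₁) ?_ ?_ (summable_theta h θ hfinM hsum N₁).hasSum
    (summable_theta h θ hfinM hsum N₂).hasSum
  · intro D
    rcases lt_or_ge (θ D) 0 with hD | hD
    · show (θ D : ℝ) * (hilbAt M N₁ D : ℝ) ≤ (θ D : ℝ) * (hilbAt M N₂ D : ℝ)
      rw [hneg D hD]
    · show (θ D : ℝ) * (hilbAt M N₁ D : ℝ) ≤ (θ D : ℝ) * (hilbAt M N₂ D : ℝ)
      apply mul_le_mul_of_nonneg_left _ (by exact_mod_cast hD)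
      exact_mod_cast hilbAt_mono h hfinM hle D
  · exact mul_lt_mul_of_pos_left (by exact_mod_cast hlt) (by exact_mod_cast hpos)

lemma theta_top (hsum : HasSum (fun D : SimpSub k A => (θ D : ℝ) * (h D : ℝ)) 0) :
    theta M θ (⊤ : Submodule k M) = 0 := by
  unfold theta
  have h1 : (fun D : SimpSub k A => (θ D : ℝ) * (hilbAt M (⊤ : Submodule k M) D : ℝ)) =
      fun D => (θ D : ℝ) * (h D : ℝ) := by
    funext D
    rw [hilbAt_top h hfinM D]
  rw [h1]
  exact hsum.tsum_eq

omit hfinM in
lemma theta_bot : theta M θ (⊥ : Submodule k M) = 0 := by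
  unfold theta
  have h1 : (fun D : SimpSub k A => (θ D : ℝ) * (hilbAt M (⊥ : Submodule k M) D : ℝ)) =
      fun _ => 0 := by
    funext D
    rw [hilbAt_bot D]
    simp
  rw [h1]
  exact tsum_zero

/-- a non-zero subcomodule with no negative isotypic part has positive weight, provided `θ`
does not vanish where `h` is non-zero -/
theorem theta_pos (hsum : Summable (fun D : SimpSub k A => (θ D : ℝ) * (h D : ℝ)))
    (htop : (⨆ D : SimpSub k A, isoComp M D.1) = ⊤)
    (hθ : ∀ D, h D ≠ 0 → θ D ≠ 0)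
    {N : Submodule k M} (hN : HopfRep.IsSubcomod (k := k) (A := A) N) (hne : N ≠ ⊥)
    (hneg : ∀ D, θ D < 0 → N ⊓ isoComp M D.1 = ⊥) :
    0 < theta M θ N := by
  obtain ⟨D₁, hD₁⟩ := exists_inf_isoComp_ne_bot htop hN hne
  have hpos : 0 < hilbAt M N D₁ := hilbAt_pos h hfinM hD₁
  have hh : h D₁ ≠ 0 := by
    have := hilbAt_le h hfinM N D₁
    omega
  have hθ1 : 0 < θ D₁ := by
    rcases lt_trichotomy (θ D₁) 0 with h1 | h1 | h1
    · exact absurd (hneg D₁ h1) hD₁
    · exact absurd h1 (hθ D₁ hh)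
    · exact h1
  have := theta_lt h θ hfinM hsum (bot_le : (⊥ : Submodule k M) ≤ N) (fun D hD => by
    rw [hilbAt_bot D]
    unfold hilbAt
    rw [hneg D hD]
    exact (finrank_bot k M).symm) D₁ hθ1 (by rw [hilbAt_bot D₁]; exact hpos)
  rwa [theta_bot θ] at this

end Num

section Hopf

variable {k : Type u} [Field k] {A : Type v} [CommRing A] [Bialgebra k A]
  {R : Type w} [CommRing R] [Algebra k R] [HopfRep.Comod k A R]
  {M : Type x} [AddCommGroup M] [Module k M] [Module R M] [IsScalarTower k R M]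
  [HopfRep.Comod k A M] [TameAct.IsHopfMod k A R M]

omit [TameAct.IsHopfMod k A R M] [HopfRep.Comod k A R] [HopfRep.Comod k A M] in
lemma hmSMul_mem (U : Submodule R M) (x : R ⊗[k] A) (y : ↥(U.restrictScalars k) ⊗[k] A) :
    TameAct.hmSMul k A R M x ((U.restrictScalars k).subtype.rTensor A y) ∈
      LinearMap.range ((U.restrictScalars k).subtype.rTensor A) := by
  induction x using TensorProduct.induction_on with
  | zero => simp
  | tmul r b =>
    induction y using TensorProduct.induction_on with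
    | zero => simp
    | tmul u a =>
      have hu : r • (u : M) ∈ U.restrictScalars k := U.smul_mem r u.2
      refine ⟨(⟨r • (u : M), hu⟩ : ↥(U.restrictScalars k)) ⊗ₜ[k] (b * a), ?_⟩
      simp [TameAct.hmSMul_tmul]
    | add y y' hy hy' =>
      rw [map_add, map_add]
      exact Submodule.add_mem _ hy hy'
  | add x x' hx hx' =>
    rw [map_add, LinearMap.add_apply]
    exact Submodule.add_mem _ hx hx'

theorem isSubcomod_span (X : Set M)
    (hX : ∀ x ∈ X, ∀ φ : A →ₗ[k] k,
      slice φ (HopfRep.Comod.coact (k := k) (A := A) x) ∈ Submodule.span R X) :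
    HopfRep.IsSubcomod (k := k) (A := A) ((Submodule.span R X).restrictScalars k) := by
  have key : ∀ u ∈ Submodule.span R X, HopfRep.Comod.coact (k := k) (A := A) u ∈
      LinearMap.range (((Submodule.span R X).restrictScalars k).subtype.rTensor A) := by
    intro u hu
    induction hu using Submodule.span_induction with
    | mem x hx =>
      exact mem_range_rTensor_of_slice ((Submodule.span R X).restrictScalars k) _
        (fun φ => hX x hx φ)
    | zero =>
      rw [map_zero]
      exact Submodule.zero_mem _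
    | add x y _ _ hx hy =>
      rw [map_add]
      exact Submodule.add_mem _ hx hy
    | smul r x _ hx =>
      rw [TameAct.IsHopfMod.coact_smul (k := k) (A := A)]
      obtain ⟨y, hy⟩ := hx
      rw [← hy]
      exact hmSMul_mem _ _ y
  exact fun u hu => key u hu

variable (k A R M) in
theorem isSubcomod_genIn (S : Set (SimpSub k A)) (N : Submodule R M)
    (hN : HopfRep.IsSubcomod (k := k) (A := A) (N.restrictScalars k)) :
    HopfRep.IsSubcomod (k := k) (A := A) ((genIn k A R M S N).restrictScalars k) := by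
  unfold genIn
  apply isSubcomod_span
  intro x hx φ
  simp only [Set.mem_iUnion] at hx
  obtain ⟨D, hD, hxD⟩ := hx
  have hsub : HopfRep.IsSubcomod (k := k) (A := A) (N.restrictScalars k ⊓ isoComp M D.1) :=
    isSubcomod_inf _ _ hN (isSubcomod_isoComp D.2.2.1)
  have h1 := (isSubcomod_iff_slice A _).mp hsub x hxD φ
  exact Submodule.subset_span (Set.mem_iUnion₂.mpr ⟨D, hD, h1⟩)

omit [TameAct.IsHopfMod k A R M] [HopfRep.Comod k A R] in
lemma genIn_le (S : Set (SimpSub k A)) (N : Submodule R M) : genIn k A R M S N ≤ N := by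
  unfold genIn
  rw [Submodule.span_le]
  intro x hx
  simp only [Set.mem_iUnion] at hx
  obtain ⟨D, hD, hxD⟩ := hx
  exact hxD.1

omit [TameAct.IsHopfMod k A R M] [HopfRep.Comod k A R] in
lemma inf_isoComp_le_genIn (S : Set (SimpSub k A)) (N : Submodule R M) {D : SimpSub k A}
    (hD : D ∈ S) :
    N.restrictScalars k ⊓ isoComp M D.1 ≤ (genIn k A R M S N).restrictScalars k := by
  intro x hx
  exact Submodule.subset_span (Set.mem_iUnion₂.mpr ⟨D, hD, hx⟩)

omit [TameAct.IsHopfMod k A R M] [HopfRep.Comod k A R] in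
lemma isoComp_le_genIn_top (S : Set (SimpSub k A)) {D : SimpSub k A} (hD : D ∈ S) :
    isoComp M D.1 ≤ (genIn k A R M S (⊤ : Submodule R M)).restrictScalars k := by
  intro x hx
  exact Submodule.subset_span (Set.mem_iUnion₂.mpr ⟨D, hD, ⟨Submodule.mem_top, hx⟩⟩)

omit [TameAct.IsHopfMod k A R M] [HopfRep.Comod k A R] in
lemma genIn_inf_isoComp (S : Set (SimpSub k A)) (N : Submodule R M) {D : SimpSub k A}
    (hD : D ∈ S) :
    (genIn k A R M S N).restrictScalars k ⊓ isoComp M D.1 =
      N.restrictScalars k ⊓ isoComp M D.1 := by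
  apply le_antisymm
  · exact inf_le_inf_right _ (Submodule.restrictScalars_mono k (genIn_le S N))
  · exact le_inf (inf_isoComp_le_genIn S N hD) inf_le_right

omit [TameAct.IsHopfMod k A R M] [HopfRep.Comod k A R] in
lemma genIn_genIn (S : Set (SimpSub k A)) (N : Submodule R M) :
    genIn k A R M S (genIn k A R M S N) = genIn k A R M S N := by
  show Submodule.span R (⋃ D ∈ S, (((genIn k A R M S N).restrictScalars k ⊓ isoComp M D.1 :
      Submodule k M) : Set M)) =
    Submodule.span R (⋃ D ∈ S, ((N.restrictScalars k ⊓ isoComp M D.1 : Submodule k M) : Set M))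
  congr 1
  apply Set.iUnion₂_congr
  intro D hD
  rw [genIn_inf_isoComp S N hD]

end Hopf

end Groth.Agent.H9.Constell
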