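import Mathlib

/-!
# `Aut` of the forgetful functor on finite continuous `G`-sets
-/

set_option autoImplicit false
set_option linter.unusedSectionVars false
universe u

namespace Groth.Agent.H9.ContGSet

open CategoryTheory PreGaloisCategory
open scoped FintypeCatDiscrete

variable (G : Type u) [Group G] [TopologicalSpace G] [IsTopologicalGroup G]

/-- The fibre functor. -/
abbrev F : ContAction FintypeCat.{u} G ⥤ FintypeCat.{u} :=
  forget₂ (ContAction FintypeCat.{u} G) FintypeCat.{u}

section MkObj

variable {G}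

/-- A finite type with a continuous action gives an object. -/
noncomputable def mkObj (X : Type u) [Finite X] [MulAction G X]
    (hcont : ∀ x y : X, IsOpen {g : G | g • x = y}) : ContAction FintypeCat.{u} G :=
  ⟨Action.FintypeCat.ofMulAction G (FintypeCat.of X), by
    have : DiscreteTopology ((forget₂ (Action FintypeCat G) TopCat).obj
        (Action.FintypeCat.ofMulAction G (FintypeCat.of X))) := ⟨rfl⟩
    constructor
    rw [continuous_prod_of_discrete_right]
    intro x
    rw [continuous_discrete_rng]
    intro y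
    exact hcont x y⟩

theorem mkObj_rho (X : Type u) [Finite X] [MulAction G X]
    (hcont : ∀ x y : X, IsOpen {g : G | g • x = y}) (g : G) (x : X) :
    ((mkObj X hcont).obj.ρ g).hom x = g • x := rfl

end MkObj

/-- The canonical map `G → Aut F`. -/
noncomputable def iota : G →* Aut (F G) where
  toFun g := NatIso.ofComponents (fun X => X.obj.ρAut g) (by
    intro X Y f
    exact (f.hom.comm g).symm)
  map_one' := by
    ext X x
    change ((X.obj.ρAut 1).hom) x = x
    rw [map_one]
    rfl
  map_mul' g h := by
    ext X x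
    change (X.obj.ρAut (g * h)).hom x = (X.obj.ρAut g).hom ((X.obj.ρAut h).hom x)
    rw [map_mul]
    rfl

theorem iota_app (g : G) (X : ContAction FintypeCat.{u} G) (x : X.obj.V) :
    ((iota G g).hom.app X).hom x = (X.obj.ρ g).hom x := rfl

theorem isOpen_smul_eq (X : ContAction FintypeCat.{u} G) (x y : X.obj.V) :
    IsOpen {g : G | (X.obj.ρ g).hom x = y} := by
  have h1 : ContinuousSMul G ((forget₂ _ TopCat).obj X.obj) := X.property
  have h2 : DiscreteTopology ((forget₂ (Action FintypeCat G) TopCat).obj X.obj) := ⟨rfl⟩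
  have h3 : Continuous (fun g : G => g • (show (forget₂ _ TopCat).obj X.obj from x)) :=
    continuous_id.smul continuous_const
  exact (isOpen_discrete ({y} : Set ((forget₂ (Action FintypeCat G) TopCat).obj X.obj))).preimage h3

theorem continuous_iota : Continuous (iota G) := by
  rw [continuous_induced_rng, continuous_pi_iff]
  intro X
  rw [continuous_discrete_rng]
  intro σ
  have h : (fun g => (autEmbedding (F G) ∘ iota G) g X) ⁻¹' {σ}
      = ⋂ x : X.obj.V, {g : G | (X.obj.ρ g).hom x = σ.hom x} := by
    ext g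
    simp only [Set.mem_preimage, Set.mem_singleton_iff, Set.mem_iInter, Set.mem_ofPred_eq]
    constructor
    · intro hg x
      rw [← hg]
      rfl
    · intro hg
      apply Iso.ext
      ext x
      exact hg x
  rw [h]
  exact isOpen_iInter_of_finite fun x => isOpen_smul_eq G X x _

section Coset

variable {G}

/-- The finite continuous `G`-set `G/N` for an open normal subgroup of finite index. -/
noncomputable def cosetObj (N : Subgroup G) [N.Normal] [Finite (G ⧸ N)]
    (hN : IsOpen (N : Set G)) : ContAction FintypeCat.{u} G :=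
  mkObj (G ⧸ N) (by
    intro x y
    induction x using QuotientGroup.induction_on with
    | H a =>
      induction y using QuotientGroup.induction_on with
      | H b =>
        have h : {g : G | g • (a : G ⧸ N) = (b : G ⧸ N)}
            = (fun g : G => (g * a)⁻¹ * b) ⁻¹' (N : Set G) := by
          ext g
          simp only [Set.mem_ofPred_eq, Set.mem_preimage, SetLike.mem_coe]
          rw [← QuotientGroup.eq]
          rfl
        rw [h]
        exact hN.preimage (by fun_prop))

/-- Evaluation morphism `G/N → X`, `[g] ↦ g • x`, when `N` acts trivially on `X`. -/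
noncomputable def evalHom (N : Subgroup G) [N.Normal] [Finite (G ⧸ N)]
    (hN : IsOpen (N : Set G)) (X : ContAction FintypeCat.{u} G)
    (hNX : ∀ n ∈ N, ∀ x : X.obj.V, (X.obj.ρ n).hom x = x) (x : X.obj.V) :
    cosetObj N hN ⟶ X :=
  ObjectProperty.homMk
    { hom := FintypeCat.homMk (fun q : G ⧸ N => Quotient.liftOn' q (fun g => (X.obj.ρ g).hom x) (by
        intro a b hab
        rw [QuotientGroup.leftRel_apply] at hab
        have hb : b = a * (a⁻¹ * b) := by group
        change (X.obj.ρ a).hom x = (X.obj.ρ b).hom x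
        rw [hb, map_mul]
        change _ = (X.obj.ρ a).hom ((X.obj.ρ (a⁻¹ * b)).hom x)
        rw [hNX _ hab]))
      comm := by
        intro g
        ext q
        induction q using QuotientGroup.induction_on with
        | H a =>
          change (X.obj.ρ (g * a)).hom x = (X.obj.ρ g).hom ((X.obj.ρ a).hom x)
          rw [map_mul]
          rfl }

theorem evalHom_mk (N : Subgroup G) [N.Normal] [Finite (G ⧸ N)]
    (hN : IsOpen (N : Set G)) (X : ContAction FintypeCat.{u} G)
    (hNX : ∀ n ∈ N, ∀ x : X.obj.V, (X.obj.ρ n).hom x = x) (x : X.obj.V) (g : G) :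
    ((F G).map (evalHom N hN X hNX x)).hom (g : G ⧸ N) = (X.obj.ρ g).hom x := rfl

end Coset

section Dense

/-- The kernel of the action on a finite family of objects. -/
def kerFam (I : Finset (ContAction FintypeCat.{u} G)) : Subgroup G :=
  ⨅ X : {X // X ∈ I}, (MulAction.toPermHom G X.1.obj.V).ker

instance (I : Finset (ContAction FintypeCat.{u} G)) : (kerFam G I).Normal :=
  Subgroup.normal_iInf_normal fun _ => inferInstance

instance (I : Finset (ContAction FintypeCat.{u} G)) : (kerFam G I).FiniteIndex :=
  Subgroup.finiteIndex_iInf fun _ => inferInstance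

instance (I : Finset (ContAction FintypeCat.{u} G)) : Finite (G ⧸ kerFam G I) :=
  Subgroup.finite_quotient_of_finiteIndex

theorem mem_kerFam (I : Finset (ContAction FintypeCat.{u} G)) (g : G) :
    g ∈ kerFam G I ↔ ∀ X ∈ I, ∀ x : X.obj.V, (X.obj.ρ g).hom x = x := by
  simp only [kerFam, Subgroup.mem_iInf, MonoidHom.mem_ker, Subtype.forall]
  refine forall₂_congr fun X _ => ?_
  rw [Equiv.Perm.ext_iff]
  rfl

theorem isOpen_kerFam (I : Finset (ContAction FintypeCat.{u} G)) :
    IsOpen (kerFam G I : Set G) := by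
  have h : (kerFam G I : Set G)
      = ⋂ X : {X // X ∈ I}, ⋂ x : X.1.obj.V, {g : G | (X.1.obj.ρ g).hom x = x} := by
    ext g
    simp only [SetLike.mem_coe, mem_kerFam, Set.mem_iInter, Set.mem_ofPred_eq, Subtype.forall]
  rw [h]
  exact isOpen_iInter_of_finite fun X => isOpen_iInter_of_finite fun x => isOpen_smul_eq G X.1 x x

theorem exists_approx (σ : Aut (F G)) (I : Finset (ContAction FintypeCat.{u} G)) :
    ∃ g : G, ∀ X ∈ I, (iota G g).app X = σ.app X := by
  let N := kerFam G I
  have hN : IsOpen (N : Set G) := isOpen_kerFam G I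
  let Y := cosetObj N hN
  obtain ⟨g₀, hg₀⟩ : ∃ g₀ : G, (g₀ : G ⧸ N) = (σ.hom.app Y).hom ((1 : G) : G ⧸ N) :=
    QuotientGroup.mk_surjective _
  refine ⟨g₀, fun X hX => ?_⟩
  apply Iso.ext
  ext x
  have hNX : ∀ n ∈ N, ∀ x : X.obj.V, (X.obj.ρ n).hom x = x :=
    fun n hn x => (mem_kerFam G I n).mp hn X hX x
  have hnat : (σ.hom.app X).hom (((F G).map (evalHom N hN X hNX x)).hom ((1 : G) : G ⧸ N))
      = ((F G).map (evalHom N hN X hNX x)).hom ((σ.hom.app Y).hom ((1 : G) : G ⧸ N)) :=
    ConcreteCategory.congr_hom (σ.hom.naturality (evalHom N hN X hNX x))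
      (((1 : G) : G ⧸ N) : Y.obj.V)
  have h0 : (X.obj.ρ (1 : G)).hom x = x := by
    rw [map_one]
    rfl
  have h1 : ((F G).map (evalHom N hN X hNX x)).hom ((1 : G) : G ⧸ N) = x :=
    (evalHom_mk N hN X hNX x 1).trans h0
  have h2 : ((F G).map (evalHom N hN X hNX x)).hom ((σ.hom.app Y).hom ((1 : G) : G ⧸ N))
      = (X.obj.ρ g₀).hom x :=
    (congrArg (fun q => ((F G).map (evalHom N hN X hNX x)).hom q) hg₀.symm).trans
      (evalHom_mk N hN X hNX x g₀)
  exact h2.symm.trans (hnat.symm.trans (congrArg (fun z => (σ.hom.app X).hom z) h1))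

theorem denseRange_iota : DenseRange (iota G) := by
  rw [DenseRange, dense_iff_inter_open]
  rintro U hU ⟨σ, hσ⟩
  obtain ⟨U', hU', rfl⟩ := isOpen_induced_iff.mp hU
  obtain ⟨I, u, ho, ha⟩ := isOpen_pi_iff.mp hU' (autEmbedding (F G) σ) hσ
  obtain ⟨g, hg⟩ := exists_approx G σ I
  refine ⟨iota G g, ha ?_, ⟨g, rfl⟩⟩
  intro X hX
  change (iota G g).app X ∈ u X
  rw [hg X hX]
  exact (ho X hX).2

end Dense

section Univ

variable {G}
variable (Q : Type u) [Group Q] [Finite Q] [TopologicalSpace Q] [DiscreteTopology Q]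
  (π : G →* Q) (hπ : Continuous π)

/-- `Q` as a finite continuous `G`-set via `π`. -/
noncomputable def qObj : ContAction FintypeCat.{u} G :=
  letI : MulAction G Q := MulAction.compHom Q π
  mkObj Q (by
    intro x y
    have h : {g : G | (π g) * x = y} = π ⁻¹' {y * x⁻¹} := by
      ext g
      simp only [Set.mem_ofPred_eq, Set.mem_preimage, Set.mem_singleton_iff]
      exact eq_mul_inv_iff_mul_eq.symm
    change IsOpen {g : G | (π g) * x = y}
    rw [h]
    exact (isOpen_discrete _).preimage hπ)

theorem qObj_rho (g : G) (q : Q) : ((qObj Q π hπ).obj.ρ g).hom q = π g * q := rfl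

/-- Right multiplication as an automorphism-compatible endomorphism. -/
noncomputable def rmul (q : Q) : qObj Q π hπ ⟶ qObj Q π hπ :=
  ObjectProperty.homMk
    { hom := FintypeCat.homMk (fun q' : Q => q' * q)
      comm := by
        intro g
        ext q'
        exact mul_assoc (π g) (show Q from q') q }

theorem rmul_apply (q q' : Q) :
    (((F G).map (rmul Q π hπ q)).hom (show ((F G).obj (qObj Q π hπ)) from q') : Q) = q' * q := rfl

/-- The action of `σ` on the underlying set `Q`. -/
noncomputable def act (σ : Aut (F G)) (q : Q) : Q := (σ.hom.app (qObj Q π hπ)).hom q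

theorem act_eq (σ : Aut (F G)) (q : Q) : act Q π hπ σ q = act Q π hπ σ 1 * q := by
  have hnat : (σ.hom.app (qObj Q π hπ)).hom (((F G).map (rmul Q π hπ q)).hom (1 : Q))
      = ((F G).map (rmul Q π hπ q)).hom ((σ.hom.app (qObj Q π hπ)).hom (1 : Q)) :=
    ConcreteCategory.congr_hom (σ.hom.naturality (rmul Q π hπ q)) (1 : Q)
  have h1 : (((F G).map (rmul Q π hπ q)).hom (show ((F G).obj (qObj Q π hπ)) from (1 : Q)) : Q)
      = q := (rmul_apply Q π hπ q 1).trans (one_mul q)
  exact (congrArg (fun z => act Q π hπ σ z) h1).symm.trans hnat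

/-- The induced homomorphism `Aut F → Q`. -/
noncomputable def psi : Aut (F G) →* Q where
  toFun σ := act Q π hπ σ 1
  map_one' := rfl
  map_mul' σ τ := by
    change act Q π hπ σ (act Q π hπ τ 1) = _
    rw [act_eq]

theorem psi_iota (g : G) : psi Q π hπ (iota G g) = π g := by
  change π g * (1 : Q) = π g
  exact mul_one _

/-- Evaluation at `1`. -/
noncomputable def evQ (a : Aut ((F G).obj (qObj Q π hπ))) : Q := a.hom.hom (1 : Q)

theorem continuous_psi : Continuous (psi Q π hπ) := by
  have h1 : Continuous (fun σ : Aut (F G) => autEmbedding (F G) σ (qObj Q π hπ)) :=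
    (continuous_apply (qObj Q π hπ)).comp continuous_induced_dom
  have h2 : Continuous (evQ Q π hπ) := continuous_of_discreteTopology
  exact h2.comp h1

end Univ

theorem main : ∃ ι : G →* Aut (F G),
    Continuous ι ∧
    (∀ (g : G) (X : ContAction FintypeCat.{u} G) (x : X.obj.V),
      (ι g).hom.app X x = (X.obj.ρ g).hom x) ∧
    DenseRange ι ∧
    ∀ (Q : Type u) [Group Q] [Finite Q] [TopologicalSpace Q] [DiscreteTopology Q] (π : G →* Q),
      Continuous π → ∃! ψ : Aut (F G) →* Q, Continuous ψ ∧ ψ.comp ι = π := by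
  refine ⟨iota G, continuous_iota G, fun g X x => rfl, denseRange_iota G, ?_⟩
  intro Q _ _ _ _ π hπ
  refine ⟨psi Q π hπ, ⟨continuous_psi Q π hπ, ?_⟩, ?_⟩
  · ext g
    exact psi_iota Q π hπ g
  · rintro ψ' ⟨hc, hcomp⟩
    have h : (ψ' : Aut (F G) → Q) = psi Q π hπ := by
      refine (denseRange_iota G).equalizer hc (continuous_psi Q π hπ) ?_
      funext g
      change ψ' (iota G g) = psi Q π hπ (iota G g)
      rw [psi_iota]
      exact DFunLike.congr_fun hcomp g
    exact DFunLike.coe_injective h

end Groth.Agent.H9.ContGSet
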