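import Mathlib
import Groth.Prelude.Def_ChGrp

namespace Groth.Agent.H9.CoreSub

open CategoryTheory CategoryTheory.Limits MonoidalCategory CartesianMonoidalCategory MonObj GrpObj AlgebraicGeometry
open AlgGrp

universe u

variable {S : Scheme.{u}} {G H Q N : Over S} [GrpObj G] [GrpObj H] [GrpObj N]

/-- points of the stabiliser subgroup fix the base point -/
theorem fix_base (i : H ⟶ G) (aQ : AlgGrp.Action G Q) (q₀ : 𝟙_ (Over S) ⟶ Q)
    (hpb : IsPullback (fst G H) ((G ◁ i) ≫ μ[G]) (aQ.orbitMap q₀) (aQ.orbitMap q₀))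
    {W : Over S} (h : W ⟶ H) :
    lift (h ≫ i) (toUnit W ≫ q₀) ≫ aQ.act = toUnit W ≫ q₀ := by
  have h1 : lift (1 : W ⟶ G) h ≫ fst G H ≫ aQ.orbitMap q₀ =
      lift (1 : W ⟶ G) h ≫ ((G ◁ i) ≫ μ[G]) ≫ aQ.orbitMap q₀ := by rw [hpb.w]
  rw [lift_fst_assoc, Action.comp_orbitMap, Action.lift_one_act, Category.assoc,
    lift_whiskerLeft_assoc, ← Category.assoc, ← Hom.mul_def, _root_.one_mul, Action.comp_orbitMap] at h1
  exact h1.symm

theorem core (i : H ⟶ G) [IsMonHom i] (aQ : AlgGrp.Action G Q) (q₀ : 𝟙_ (Over S) ⟶ Q)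
    (hQ : ChGrp.IsHomog Scheme.fppfPrecoverage i aQ q₀)
    (n : N ⟶ G)
    (hN : ∀ (T : Over S) (g : T ⟶ G), (∃ g' : T ⟶ N, g' ≫ n = g) ↔
        ∀ (T' : Over S) (v : T' ⟶ T) (q : T' ⟶ Q), lift (v ≫ g) q ≫ aQ.act = q) :
    AlgGrp.IsNormalHom n ∧ (∃ m : N ⟶ H, m ≫ i = n) ∧
      ∀ (N' : Over S) [GrpObj N'] (n' : N' ⟶ G),
        AlgGrp.IsNormalHom n' → (∃ m' : N' ⟶ H, m' ≫ i = n') → ∃ r : N' ⟶ N, r ≫ n = n' := by
  obtain ⟨hmon, hpb, R, hR, hsec⟩ := hQ
  refine ⟨?_, ?_, ?_⟩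
  · intro T g m
    have key : ∃ g' : T ⟶ N, g' ≫ n = g * (m ≫ n) * g⁻¹ := by
      apply (hN T (g * (m ≫ n) * g⁻¹)).mpr
      intro T' v q
      have hm : ∀ (q' : T' ⟶ Q), lift (v ≫ (m ≫ n)) q' ≫ aQ.act = q' :=
        fun q' => (hN T (m ≫ n)).mp ⟨m, rfl⟩ T' v q'
      rw [comp_mul, comp_mul, comp_inv, Action.lift_mul_act, Action.lift_mul_act, hm,
        ← Action.lift_mul_act, mul_inv_cancel, Action.lift_one_act]
    obtain ⟨n', hn'⟩ := key
    exact ⟨n', hn'.symm⟩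
  · have h1 : ∀ (T' : Over S) (v : T' ⟶ N) (q : T' ⟶ Q), lift (v ≫ n) q ≫ aQ.act = q :=
      (hN N n).mp ⟨𝟙 N, Category.id_comp n⟩
    have h2 : (1 : N ⟶ G) ≫ aQ.orbitMap q₀ = n ≫ aQ.orbitMap q₀ := by
      rw [Action.comp_orbitMap, Action.comp_orbitMap, Action.lift_one_act]
      have h3 := h1 N (𝟙 N) (toUnit N ≫ q₀)
      rw [Category.id_comp] at h3
      exact h3.symm
    have hw1 := hpb.lift_fst (1 : N ⟶ G) n h2
    have hw2 := hpb.lift_snd (1 : N ⟶ G) n h2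
    set w := hpb.lift (1 : N ⟶ G) n h2 with hw
    refine ⟨w ≫ snd G H, ?_⟩
    have hw3 : lift (w ≫ fst G H) (w ≫ snd G H) = w := by
      rw [← comp_lift, lift_fst_snd, Category.comp_id]
    rw [← hw3, hw1, lift_whiskerLeft_assoc, ← Hom.mul_def, _root_.one_mul] at hw2
    exact hw2
  · intro N' _ n' hnorm hm'
    obtain ⟨m', hm'⟩ := hm'
    apply (hN N' n').mpr
    intro T' v q
    have hsheaf := GrothendieckTopology.Subcanonical.isSheaf_of_isRepresentable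
      (J := Scheme.fppfTopology.{u}) (yoneda.obj Q.left)
    have hcov : (Sieve.generate R).pullback q.left ∈ Scheme.fppfTopology T'.left :=
      Scheme.fppfTopology.pullback_stable q.left (Precoverage.generate_mem_toGrothendieck hR)
    have hsep := (hsheaf _ hcov).isSeparatedFor
    apply Over.OverMorphism.ext
    refine hsep.ext ?_
    intro W g hg
    show g ≫ (lift (v ≫ n') q ≫ aQ.act).left = g ≫ q.left
    obtain ⟨S', u, f, hf, huf⟩ := hg
    obtain ⟨s, hs⟩ := hsec f hf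
    have hs' : s ≫ (aQ.orbitMap q₀).left = f := hs
    have hgmw : (u ≫ s) ≫ G.hom = g ≫ T'.hom := by
      rw [← Over.w (aQ.orbitMap q₀), Category.assoc, reassoc_of% hs', reassoc_of% huf, Over.w q]
    let W' : Over S := Over.mk (g ≫ T'.hom)
    let g' : W' ⟶ T' := Over.homMk g rfl
    let gm : W' ⟶ G := Over.homMk (u ≫ s) hgmw
    have hgm : g' ≫ q = gm ≫ aQ.orbitMap q₀ := by
      apply Over.OverMorphism.ext
      show g ≫ q.left = (u ≫ s) ≫ (aQ.orbitMap q₀).left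
      rw [Category.assoc, hs', huf]
    suffices hmain : g' ≫ lift (v ≫ n') q ≫ aQ.act = g' ≫ q by
      have := congrArg (fun f => f.left) hmain
      exact this
    obtain ⟨n'', hn''⟩ := hnorm W' gm⁻¹ (g' ≫ v)
    have hν : (g' ≫ v ≫ n') * gm = gm * (n'' ≫ n') := by
      rw [← hn'', _root_.inv_inv, Category.assoc]
      group
    rw [comp_lift_assoc, hgm, Action.comp_orbitMap, ← Action.lift_mul_act, hν, Action.lift_mul_act,
      ← hm', ← Category.assoc, fix_base i aQ q₀ hpb]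

end Groth.Agent.H9.CoreSub
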