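import Mathlib

/-! Helper9: presentation of the coroot lattice, the case with a base -/

namespace Groth.Agent.H9.CorootPres

open Set Submodule Function

variable {ι : Type*} {R : Type*} {M : Type*} {N : Type*} [CommRing R]
  [AddCommGroup M] [Module R M] [AddCommGroup N] [Module R N]

/-- the reflection relation -/
noncomputable def rel (P : RootPairing ι R M N) [P.IsCrystallographic] (p : ι × ι) : ι →₀ ℤ :=
  Finsupp.single (P.reflectionPerm p.1 p.2) (1 : ℤ) - Finsupp.single p.2 1 +
    P.pairingIn ℤ p.1 p.2 • Finsupp.single p.1 1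

theorem rel_mem_ker [CharZero R] (P : RootPairing ι R M N) [P.IsCrystallographic] (p : ι × ι) :
    rel P p ∈ LinearMap.ker (Finsupp.linearCombination ℤ (fun i : ι => (P.coroot i : N))) := by
  rw [LinearMap.mem_ker, rel]
  simp only [map_add, map_sub, map_smul, Finsupp.linearCombination_single, one_smul]
  rw [P.coroot_reflectionPerm, P.coreflection_apply_coroot, ← P.algebraMap_pairingIn ℤ]
  simp only [algebraMap_int_eq, eq_intCast, Int.cast_smul_eq_zsmul]
  abel

theorem span_rel_le_ker [CharZero R] (P : RootPairing ι R M N) [P.IsCrystallographic] :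
    Submodule.span ℤ (Set.range (rel P)) ≤
      LinearMap.ker (Finsupp.linearCombination ℤ (fun i : ι => (P.coroot i : N))) := by
  rw [Submodule.span_le]
  rintro _ ⟨p, rfl⟩
  exact rel_mem_ker P p

theorem ker_le_of_base [IsDomain R] [CharZero R] (P : RootPairing ι R M N) [Finite ι]
    [P.IsCrystallographic] [P.IsReduced] (b : P.Base) :
    LinearMap.ker (Finsupp.linearCombination ℤ (fun i : ι => (P.coroot i : N))) ≤
      Submodule.span ℤ (Set.range (rel P)) := by
  classical
  set Rel := Submodule.span ℤ (Set.range (rel P)) with hRel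
  set B : Submodule ℤ (ι →₀ ℤ) :=
    Submodule.span ℤ ((fun i : ι => Finsupp.single i (1 : ℤ)) '' (b.support : Set ι)) with hB
  have hrel : ∀ i j, rel P (i, j) ∈ B ⊔ Rel := fun i j =>
    Submodule.mem_sup_right (Submodule.subset_span ⟨(i, j), rfl⟩)
  have hgen : ∀ j : ι, Finsupp.single j (1 : ℤ) ∈ B ⊔ Rel := by
    intro j
    refine b.induction_reflect j (p := fun j => Finsupp.single j (1 : ℤ) ∈ B ⊔ Rel) ?_ ?_ ?_
    · intro i hi
      have h1 := hrel i i
      have : Finsupp.single (P.reflectionPerm i i) (1 : ℤ) =
          rel P (i, i) + Finsupp.single i 1 - P.pairingIn ℤ i i • Finsupp.single i 1 := by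
        simp only [rel]; abel
      rw [this]
      exact Submodule.sub_mem _ (Submodule.add_mem _ h1 hi) (Submodule.smul_mem _ _ hi)
    · intro i hi
      exact Submodule.mem_sup_left (Submodule.subset_span ⟨i, hi, rfl⟩)
    · intro i j hi hj
      have h1 := hrel j i
      have hj' : Finsupp.single j (1 : ℤ) ∈ B ⊔ Rel :=
        Submodule.mem_sup_left (Submodule.subset_span ⟨j, hj, rfl⟩)
      have : Finsupp.single (P.reflectionPerm j i) (1 : ℤ) =
          rel P (j, i) + Finsupp.single i 1 - P.pairingIn ℤ j i • Finsupp.single j 1 := by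
        simp only [rel]; abel
      rw [this]
      exact Submodule.sub_mem _ (Submodule.add_mem _ h1 hi) (Submodule.smul_mem _ _ hj')
  have htop : B ⊔ Rel = ⊤ := by
    rw [eq_top_iff]
    intro x hx
    clear hx
    induction x using Finsupp.induction_linear with
    | zero => exact Submodule.zero_mem _
    | add f g hf hg => exact Submodule.add_mem _ hf hg
    | single i z =>
      have : Finsupp.single i z = z • Finsupp.single i (1 : ℤ) := by
        rw [Finsupp.smul_single, smul_eq_mul, mul_one]
      rw [this]
      exact Submodule.smul_mem _ _ (hgen i)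
  intro x hx
  have hx' : x ∈ B ⊔ Rel := htop ▸ Submodule.mem_top
  obtain ⟨y, hy, z, hz, rfl⟩ := Submodule.mem_sup.1 hx'
  have hzker := span_rel_le_ker P hz
  rw [LinearMap.mem_ker] at hx hzker
  rw [map_add, hzker, add_zero] at hx
  -- y is a combination of simple generators mapping to zero, hence zero
  have hy0 : y = 0 := by
    rw [hB, Finsupp.mem_span_image_iff_linearCombination] at hy
    obtain ⟨l, hl, rfl⟩ := hy
    have hlc : Finsupp.linearCombination ℤ (fun i : ι => Finsupp.single i (1 : ℤ)) l = l := by
      rw [Finsupp.linearCombination_apply]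
      conv_rhs => rw [← Finsupp.sum_single l]
      refine Finset.sum_congr rfl (fun i _ => ?_)
      show l i • Finsupp.single i (1 : ℤ) = Finsupp.single i (l i)
      rw [Finsupp.smul_single, smul_eq_mul, mul_one]
    rw [hlc] at hx ⊢
    have hli : LinearIndepOn ℤ P.coroot (b.support : Set ι) :=
      b.linearIndepOn_coroot.restrict_scalars' ℤ
    exact (linearIndepOn_iff.1 hli) l hl hx
  rw [hy0, zero_add]
  exact hz

end Groth.Agent.H9.CorootPres
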