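import Mathlib
import Groth.Agent.Lib.Helper9.Misc.CorootPres1

/-! Helper9: presentation of the coroot lattice: reduction to a rational root system -/

namespace Groth.Agent.H9.CorootPres

open Set Submodule Function Module

set_option linter.unusedSectionVars false

section lattice

variable {Q : Type*} [AddCommGroup Q] {κ : Type*} [Fintype κ] [DecidableEq κ] (β : Basis κ ℤ Q)

/-- coordinates, as rational numbers -/
noncomputable def psi : Q →ₗ[ℤ] (κ → ℚ) where
  toFun x k := (β.repr x k : ℚ)
  map_add' x y := by funext k; simp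
  map_smul' z x := by funext k; simp

theorem psi_apply (x : Q) (k : κ) : psi β x k = (β.repr x k : ℚ) := rfl

theorem psi_injective : Function.Injective (psi β) := by
  intro x y h
  apply β.repr.injective
  ext k
  have := congrFun h k
  rw [psi_apply, psi_apply] at this
  exact_mod_cast this

theorem psi_basis (k : κ) : psi β (β k) = Pi.single k (1 : ℚ) := by
  funext l
  rw [psi_apply, Basis.repr_self, Finsupp.single_apply, Pi.single_apply]
  split_ifs with h1 h2 h2
  · simp
  · exact absurd h1.symm h2
  · exact absurd h2.symm h1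
  · simp

theorem psi_zsmul (z : ℤ) (x : Q) : psi β (z • x) = (z : ℚ) • psi β x := by
  rw [map_smul]
  funext k
  simp

/-- rational extension of an integral functional -/
noncomputable def ext (φ : Q →ₗ[ℤ] ℤ) : Module.Dual ℚ (κ → ℚ) :=
  ∑ k, (φ (β k) : ℚ) • (LinearMap.proj k : (κ → ℚ) →ₗ[ℚ] ℚ)

theorem ext_apply (φ : Q →ₗ[ℤ] ℤ) (v : κ → ℚ) : ext β φ v = ∑ k, (φ (β k) : ℚ) * v k := by
  simp [ext, LinearMap.sum_apply]

theorem ext_psi (φ : Q →ₗ[ℤ] ℤ) (x : Q) : ext β φ (psi β x) = (φ x : ℚ) := by
  rw [ext_apply]
  conv_rhs => rw [← β.sum_repr x, map_sum]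
  push_cast
  refine Finset.sum_congr rfl (fun k _ => ?_)
  rw [psi_apply, map_smul, smul_eq_mul]
  push_cast
  ring

theorem ext_eq_of_psi {f g : Module.Dual ℚ (κ → ℚ)} (h : ∀ x : Q, f (psi β x) = g (psi β x)) :
    f = g := by
  apply LinearMap.pi_ext
  intro k c
  have := h (β k)
  rw [psi_basis] at this
  have e : Pi.single k c = c • Pi.single k (1 : ℚ) := by
    rw [← Pi.single_smul, smul_eq_mul, mul_one]
  rw [e, map_smul, map_smul, this]

end lattice


section construct

variable {ι : Type*} {R : Type*} {M : Type*} {N : Type*} [CommRing R] [IsDomain R] [CharZero R]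
  [AddCommGroup M] [Module R M] [AddCommGroup N] [Module R N]
  (P : RootPairing ι R M N) [Finite ι] [P.IsCrystallographic]
  {κ : Type*} [Fintype κ] [DecidableEq κ] (β : Basis κ ℤ (P.rootSpan ℤ))

noncomputable def root' (i : ι) : κ → ℚ := psi β (P.rootSpanMem ℤ i)

noncomputable def coroot' (i : ι) : Module.Dual ℚ (κ → ℚ) := ext β (P.coroot'In ℤ i)

theorem coroot'_root' (i j : ι) : coroot' P β i (root' P β j) = (P.pairingIn ℤ j i : ℚ) := by
  rw [coroot', root', ext_psi]
  rfl

theorem root'_injective : Function.Injective (root' P β) := by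
  intro i j h
  have := psi_injective β h
  exact P.root.injective (congrArg Subtype.val this)

theorem rootSpanMem_reflectionPerm (i j : ι) :
    P.rootSpanMem ℤ (P.reflectionPerm i j) =
      P.rootSpanMem ℤ j - P.pairingIn ℤ j i • P.rootSpanMem ℤ i := by
  apply Subtype.ext
  simp only [Submodule.coe_sub, Submodule.coe_smul]
  rw [P.root_reflectionPerm, P.reflection_apply_root' ℤ]

theorem root'_reflectionPerm (i j : ι) :
    root' P β (P.reflectionPerm i j) =
      root' P β j - (P.pairingIn ℤ j i : ℚ) • root' P β i := by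
  rw [root', rootSpanMem_reflectionPerm, map_sub, psi_zsmul]
  rfl

theorem psi_mem_span (S : Set (P.rootSpan ℤ)) (x : P.rootSpan ℤ) (hx : x ∈ Submodule.span ℤ S) :
    psi β x ∈ Submodule.span ℚ (psi β '' S) := by
  induction hx using Submodule.span_induction with
  | mem x hx => exact Submodule.subset_span ⟨x, hx, rfl⟩
  | zero => rw [map_zero]; exact Submodule.zero_mem _
  | add x y _ _ hx hy => rw [map_add]; exact Submodule.add_mem _ hx hy
  | smul z x _ hx => rw [psi_zsmul]; exact Submodule.smul_mem _ _ hx

theorem span_root' : Submodule.span ℚ (Set.range (root' P β)) = ⊤ := by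
  rw [eq_top_iff, ← (Pi.basisFun ℚ κ).span_eq, Submodule.span_le]
  rintro _ ⟨k, rfl⟩
  rw [Pi.basisFun_apply, ← psi_basis β k]
  have h1 : β k ∈ Submodule.span ℤ (Set.range (P.rootSpanMem ℤ)) := by
    have : Submodule.span ℤ (Set.range (P.rootSpanMem ℤ)) = ⊤ := by
      have h2 := Submodule.span_setOfPred_mem_eq_top (R := ℤ) (s := Set.range P.root)
      rw [eq_top_iff, ← h2]
      apply Submodule.span_mono
      rintro ⟨x, hx⟩ ⟨i, hi⟩
      exact ⟨i, Subtype.ext hi⟩
    rw [this]
    exact Submodule.mem_top
  have h3 := psi_mem_span P β _ _ h1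
  have h4 : psi β '' Set.range (P.rootSpanMem ℤ) = Set.range (root' P β) := by
    ext v
    constructor
    · rintro ⟨_, ⟨i, rfl⟩, rfl⟩
      exact ⟨i, rfl⟩
    · rintro ⟨i, rfl⟩
      exact ⟨_, ⟨i, rfl⟩, rfl⟩
  rw [h4] at h3
  exact h3


theorem coroot'_injective : Function.Injective (coroot' P β) := by
  intro i j h
  have : Module.IsReflexive R M := Module.IsReflexive.of_isPerfPair P.toLinearMap
  have : IsAddTorsionFree M := .of_isTorsionFree R M
  have hpair : ∀ k, P.pairing k i = P.pairing k j := by
    intro k
    have h1 := congrArg (fun f => f (root' P β k)) h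
    simp only [coroot'_root'] at h1
    have h2 : P.pairingIn ℤ k i = P.pairingIn ℤ k j := by exact_mod_cast h1
    rw [← P.algebraMap_pairingIn ℤ, ← P.algebraMap_pairingIn ℤ, h2]
  apply P.coroot.injective
  apply P.injOn_dualMap_subtype_span_root_coroot (Set.mem_range_self i) (Set.mem_range_self j)
  apply LinearMap.ext
  rintro ⟨x, hx⟩
  simp only [LinearMap.coe_comp, Function.comp_apply, LinearMap.dualMap_apply,
    Submodule.subtype_apply, LinearMap.flip_apply]
  induction hx using Submodule.span_induction with
  | mem x hx =>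
    obtain ⟨k, rfl⟩ := hx
    exact hpair k
  | zero => simp
  | add x y _ _ hx hy => rw [map_add, LinearMap.add_apply, LinearMap.add_apply, hx, hy]
  | smul r x _ hx => rw [map_smul, LinearMap.smul_apply, LinearMap.smul_apply, hx]

/-- the rational root system attached to `P` -/
noncomputable def Prat : RootPairing ι ℚ (κ → ℚ) (Module.Dual ℚ (κ → ℚ)) :=
  RootPairing.mk'' (Module.Dual.eval ℚ (κ → ℚ)) ⟨root' P β, root'_injective P β⟩
    ⟨coroot' P β, coroot'_injective P β⟩
    (by
      intro i
      change coroot' P β i (root' P β i) = 2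
      rw [coroot'_root', P.pairingIn_same]
      norm_num)
    (by
      intro i
      rintro _ ⟨j, rfl⟩
      refine ⟨P.reflectionPerm i j, ?_⟩
      change root' P β (P.reflectionPerm i j) = _
      rw [Module.preReflection_apply, root'_reflectionPerm]
      change _ = root' P β j - (coroot' P β i (root' P β j)) • root' P β i
      rw [coroot'_root'])
    (span_root' P β)

theorem Prat_root (i : ι) : (Prat P β).root i = root' P β i := rfl

theorem Prat_coroot (i : ι) : (Prat P β).coroot i = coroot' P β i := rfl

theorem Prat_pairing (i j : ι) : (Prat P β).pairing i j = (P.pairingIn ℤ i j : ℚ) := by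
  change coroot' P β j (root' P β i) = _
  rw [coroot'_root']

instance : (Prat P β).IsCrystallographic :=
  ⟨fun i j => ⟨P.pairingIn ℤ i j, by rw [Prat_pairing]; simp⟩⟩

instance : (Prat P β).IsRootSystem :=
  RootPairing.isRootSystem_mk'' (by
    intro i j
    refine ⟨P.pairingIn ℤ i j, ?_⟩
    change _ = coroot' P β j (root' P β i)
    rw [coroot'_root'])

theorem Prat_pairingIn (i j : ι) : (Prat P β).pairingIn ℤ i j = P.pairingIn ℤ i j := by
  have h := (Prat P β).algebraMap_pairingIn ℤ i j
  rw [Prat_pairing] at h
  have : ((Prat P β).pairingIn ℤ i j : ℚ) = (P.pairingIn ℤ i j : ℚ) := by simpa using h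
  exact_mod_cast this

theorem Prat_reflectionPerm (i j : ι) : (Prat P β).reflectionPerm i j = P.reflectionPerm i j := by
  apply (Prat P β).root.injective
  rw [(Prat P β).root_reflectionPerm, (Prat P β).reflection_apply_root, Prat_pairing]
  change _ = root' P β (P.reflectionPerm i j)
  rw [root'_reflectionPerm]
  rfl


instance [P.IsReduced] : (Prat P β).IsReduced := by
  have : Module.IsReflexive R M := Module.IsReflexive.of_isPerfPair P.toLinearMap
  rw [RootPairing.isReduced_iff]
  intro i j h
  rw [← (Prat P β).coxeterWeight_eq_four_iff_not_linearIndependent] at h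
  have h' : P.coxeterWeight i j = 4 := by
    unfold RootPairing.coxeterWeight at h ⊢
    rw [Prat_pairing, Prat_pairing] at h
    have h4 : P.pairingIn ℤ i j * P.pairingIn ℤ j i = 4 := by exact_mod_cast h
    rw [← P.algebraMap_pairingIn ℤ i j, ← P.algebraMap_pairingIn ℤ j i, ← map_mul, h4]
    simp
  rw [P.coxeterWeight_eq_four_iff_not_linearIndependent] at h'
  rcases RootPairing.IsReduced.eq_or_eq_neg i j h' with e | e
  · left
    rw [P.root.injective e]
  · right
    change root' P β i = - root' P β j
    have : P.rootSpanMem ℤ i = - P.rootSpanMem ℤ j := Subtype.ext (by simpa using e)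
    rw [root', this, map_neg]
    rfl

end construct

section final

variable {ι : Type*} {R : Type*} {M : Type*} {N : Type*} [CommRing R] [IsDomain R] [CharZero R]
  [AddCommGroup M] [Module R M] [AddCommGroup N] [Module R N]

theorem main (P : RootPairing ι R M N) [Finite ι] [P.IsCrystallographic] [P.IsReduced] :
    LinearMap.ker (Finsupp.linearCombination ℤ (fun i : ι => (P.coroot i : N))) =
      Submodule.span ℤ (Set.range fun p : ι × ι =>
        Finsupp.single (P.reflectionPerm p.1 p.2) (1 : ℤ) - Finsupp.single p.2 1 +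
          P.pairingIn ℤ p.1 p.2 • Finsupp.single p.1 1) := by
  classical
  change _ = Submodule.span ℤ (Set.range (rel P))
  apply le_antisymm _ (span_rel_le_ker P)
  have : Module.IsReflexive R M := Module.IsReflexive.of_isPerfPair P.toLinearMap
  have : IsAddTorsionFree M := .of_isTorsionFree R M
  have : Module.Free ℤ (P.rootSpan ℤ) := Module.free_of_finite_type_torsion_free'
  let β := Module.Free.chooseBasis ℤ (P.rootSpan ℤ)
  obtain ⟨b⟩ := (Prat P β).nonempty_base
  have hk := ker_le_of_base (Prat P β) b
  have hrel : rel (Prat P β) = rel P := by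
    funext p
    simp only [rel, Prat_reflectionPerm, Prat_pairingIn]
  rw [hrel] at hk
  refine le_trans ?_ hk
  intro x hx
  rw [LinearMap.mem_ker] at hx ⊢
  apply LinearMap.ext_on (span_root' P β)
  rintro _ ⟨k, rfl⟩
  rw [Finsupp.linearCombination_apply, Finsupp.sum, LinearMap.sum_apply, LinearMap.zero_apply]
  simp only [LinearMap.smul_apply, Prat_coroot, coroot'_root']
  have h1 := congrArg (P.toLinearMap (P.root k)) hx
  rw [Finsupp.linearCombination_apply, Finsupp.sum, map_sum, map_zero] at h1
  have h2 : ∑ i ∈ x.support, x i * P.pairingIn ℤ k i = 0 := by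
    have h3 : ((∑ i ∈ x.support, x i * P.pairingIn ℤ k i : ℤ) : R) = 0 := by
      rw [← h1]
      push_cast
      refine Finset.sum_congr rfl (fun i _ => ?_)
      rw [map_zsmul, zsmul_eq_mul]
      congr 1
      have := P.algebraMap_pairingIn ℤ k i
      simpa using this
    exact_mod_cast h3
  have h4 : ((∑ i ∈ x.support, x i * P.pairingIn ℤ k i : ℤ) : ℚ) = 0 := by rw [h2]; simp
  rw [← h4]
  push_cast
  refine Finset.sum_congr rfl (fun i _ => ?_)
  rw [zsmul_eq_mul]

end final

end Groth.Agent.H9.CorootPres
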