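import Mathlib

/-! Helper9: maps of n-coskeletal simplicial sets that are bijective below n and surjective in degree n are trivial Kan fibrations (S6782). -/

namespace Groth.Agent.H9.Cosk

open CategoryTheory Simplicial Opposite SSet

universe u

/-- For `n < k` the inclusion `∂Δ[k] ⟶ Δ[k]` is an isomorphism on `n`-truncations. -/
theorem isIso_whisker_boundary (n k : ℕ) (hk : n < k) :
    IsIso (Functor.whiskerLeft (SimplexCategory.Truncated.inclusion n).op (boundary.{u} k).ι) := by
  rw [NatTrans.isIso_iff_isIso_app]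
  intro ⟨⟨m, hm⟩⟩
  rw [isIso_iff_bijective]
  constructor
  · intro a b hab
    exact Subtype.ext hab
  · intro y
    induction m using SimplexCategory.rec with | _ m => 
    have hm' : m ≤ n := hm
    have := boundary_obj_eq_univ.{u} m k (by omega)
    have hy : (show (Δ[k] : SSet.{u}) _⦋m⦌ from y) ∈ (boundary.{u} k).obj (op ⦋m⦌) := by
      rw [this]; trivial
    exact ⟨⟨y, hy⟩, rfl⟩

end Groth.Agent.H9.Cosk

namespace Groth.Agent.H9.Cosk

open CategoryTheory Simplicial Opposite SSet

universe u

theorem main {U V : SSet.{u}} (f : V ⟶ U) (n : ℕ)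
    (h1 : ∀ i : ℕ, i < n → Function.Bijective (f.app (op (SimplexCategory.mk i))))
    (h2 : Function.Surjective (f.app (op (SimplexCategory.mk n))))
    [SimplicialObject.IsCoskeletal U n] [SimplicialObject.IsCoskeletal V n] :
    SSet.modelCategoryQuillen.I.rlp f := by
  intro A B ι hι
  obtain ⟨k⟩ := hι
  refine ⟨fun {t b} sq => ?_⟩
  by_cases hk : k ≤ n
  · have hsurj : Function.Surjective (f.app (op ⦋k⦌)) := by
      rcases hk.lt_or_eq with h | h
      · exact (h1 k h).2
      · subst h; exact h2
    obtain ⟨w, hw⟩ := hsurj (yonedaEquiv b)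
    refine ⟨⟨{ l := yonedaEquiv.symm w, fac_left := ?_, fac_right := ?_ }⟩⟩
    · obtain _ | m := k
      · exact boundary.hom_ext₀
      · apply boundary.hom_ext
        intro j
        rw [boundary.ι_ι_assoc, stdSimplex.δ_comp_yonedaEquiv_symm, Equiv.symm_apply_eq]
        apply (h1 m (by omega)).1
        rw [SSet.δ_naturality_apply, hw, ← SSet.yonedaEquiv_comp, Category.assoc, sq.w,
          boundary.ι_ι_assoc, stdSimplex.yonedaEquiv_δ_comp]
    · rw [yonedaEquiv_symm_comp, Equiv.symm_apply_eq]
      exact hw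
  · have hk' : n < k := by omega
    let L := (SimplexCategory.Truncated.inclusion n).op
    haveI := isIso_whisker_boundary.{u} n k hk'
    let β : L ⋙ (Δ[k] : SSet.{u}) ⟶ L ⋙ V :=
      inv (Functor.whiskerLeft L (boundary.{u} k).ι) ≫ Functor.whiskerLeft L t
    let l : (Δ[k] : SSet.{u}) ⟶ V := V.liftOfIsRightKanExtension (𝟙 (L ⋙ V)) Δ[k] β
    have hl : Functor.whiskerLeft L l = β := by
      have := V.liftOfIsRightKanExtension_fac (𝟙 (L ⋙ V)) Δ[k] β
      rwa [Category.comp_id] at this
    refine ⟨⟨{ l := l, fac_left := ?_, fac_right := ?_ }⟩⟩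
    · apply V.hom_ext_of_isRightKanExtension (𝟙 (L ⋙ V))
      rw [Category.comp_id, Category.comp_id, Functor.whiskerLeft_comp, hl]
      simp only [β, IsIso.hom_inv_id_assoc]
    · apply U.hom_ext_of_isRightKanExtension (𝟙 (L ⋙ U))
      rw [Category.comp_id, Category.comp_id, Functor.whiskerLeft_comp, hl]
      simp only [β, Category.assoc]
      rw [IsIso.inv_comp_eq, ← Functor.whiskerLeft_comp, ← Functor.whiskerLeft_comp, sq.w]

end Groth.Agent.H9.Cosk
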