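import Mathlib

/-! Helper9: maps between n-coskeletal simplicial sets agreeing below dimension n are homotopic (S6799). -/

namespace Groth.Agent.H9.Cosk

open CategoryTheory Simplicial Opposite SSet MonoidalCategory

universe u

/-- evaluation of a simplex of `Δ[1]` at the vertex `0` -/
def ev0 {d : SimplexCategory} (a : (Δ[1] : SSet.{u}).obj (op d)) : Fin 2 :=
  (stdSimplex.objEquiv a).toOrderHom 0

theorem ev0_map {d d' : SimplexCategory} (θ : d' ⟶ d) (a : (Δ[1] : SSet.{u}).obj (op d)) :
    ev0 ((Δ[1] : SSet.{u}).map θ.op a) = (stdSimplex.objEquiv a).toOrderHom (θ.toOrderHom 0) := rfl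

variable {U V : SSet.{u}} (f₀ f₁ : V ⟶ U) (n : ℕ)

theorem key_eq (h : ∀ i : ℕ, i < n → f₀.app (op (SimplexCategory.mk i)) = f₁.app (op (SimplexCategory.mk i)))
    {d d' : SimplexCategory} (hd' : d'.len ≤ n) (hd : d.len ≤ n) (θ : d' ⟶ d)
    (hθ : ¬ Function.Surjective θ.toOrderHom) (v : V.obj (op d)) :
    f₀.app (op d') (V.map θ.op v) = f₁.app (op d') (V.map θ.op v) := by
  induction d using SimplexCategory.rec with | _ m =>
  induction d' using SimplexCategory.rec with | _ m' =>
  have hm : m ≤ n := hd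
  have hm' : m' ≤ n := hd'
  rcases hm'.lt_or_eq with hlt | heq
  · rw [h m' hlt]
  · subst heq
    by_cases hinj : Function.Injective θ.toOrderHom
    · exfalso
      have h1 := Fintype.card_le_of_injective _ hinj
      simp only [SimplexCategory.len_mk, Fintype.card_fin] at h1
      have : m = m' := by omega
      subst this
      exact hθ (Finite.surjective_of_injective hinj)
    · obtain _ | n' := m'
      · exfalso
        apply hinj
        intro a b _
        have ha : a = (0 : Fin 1) := Fin.fin_one_eq_zero a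
        have hb : b = (0 : Fin 1) := Fin.fin_one_eq_zero b
        exact ha.trans hb.symm
      · obtain ⟨i, θ', rfl⟩ := SimplexCategory.eq_σ_comp_of_not_injective θ hinj
        rw [op_comp, Functor.map_comp]
        have e0 := NatTrans.naturality_apply f₀ (SimplexCategory.σ i).op (V.map θ'.op v)
        have e1 := NatTrans.naturality_apply f₁ (SimplexCategory.σ i).op (V.map θ'.op v)
        rw [CategoryTheory.comp_apply, e0, e1, h n' (by omega)]

end Groth.Agent.H9.Cosk

namespace Groth.Agent.H9.Cosk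

open CategoryTheory Simplicial Opposite SSet MonoidalCategory

universe u

variable {U V : SSet.{u}} (f₀ f₁ : V ⟶ U) (n : ℕ)

open Classical in
/-- The truncated homotopy. -/
noncomputable def β
    (h : ∀ i : ℕ, i < n → f₀.app (op (SimplexCategory.mk i)) = f₁.app (op (SimplexCategory.mk i))) :
    (SimplexCategory.Truncated.inclusion n).op ⋙ (V ⊗ (Δ[1] : SSet.{u})) ⟶
      (SimplexCategory.Truncated.inclusion n).op ⋙ U where
  app d := ↾fun p => if ev0 p.2 = 1 then f₁.app _ p.1 else f₀.app _ p.1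
  naturality d d' θ := by
    ext p
    obtain ⟨v, a⟩ := p
    show (if ev0 ((Δ[1] : SSet.{u}).map θ.unop.hom.op a) = 1 then f₁.app _ (V.map θ.unop.hom.op v)
      else f₀.app _ (V.map θ.unop.hom.op v)) =
      U.map θ.unop.hom.op (if ev0 a = 1 then f₁.app _ v else f₀.app _ v)
    rw [ev0_map]
    have n0 := NatTrans.naturality_apply f₀ θ.unop.hom.op v
    have n1 := NatTrans.naturality_apply f₁ θ.unop.hom.op v
    by_cases ha : ev0 a = 1
    · have h2 : (stdSimplex.objEquiv a).toOrderHom (θ.unop.hom.toOrderHom 0) = 1 := by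
        have hmono := (stdSimplex.objEquiv a).toOrderHom.monotone
          (Fin.zero_le (θ.unop.hom.toOrderHom 0))
        have ha' : (stdSimplex.objEquiv a).toOrderHom 0 = 1 := ha
        rw [ha'] at hmono
        exact le_antisymm (Fin.le_last _) hmono
      rw [if_pos ha, if_pos h2]
      exact n1
    · by_cases h2 : (stdSimplex.objEquiv a).toOrderHom (θ.unop.hom.toOrderHom 0) = 1
      · rw [if_neg ha, if_pos h2, ← n0]
        symm
        apply key_eq f₀ f₁ n h d'.unop.property d.unop.property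
        intro hsurj
        obtain ⟨x, hx⟩ := hsurj 0
        have h3 : θ.unop.hom.toOrderHom 0 = 0 := by
          have := θ.unop.hom.toOrderHom.monotone (Fin.zero_le x)
          rw [hx] at this
          exact le_antisymm this (Fin.zero_le _)
        rw [h3] at h2
        exact ha h2
      · rw [if_neg ha, if_neg h2]
        exact n0

end Groth.Agent.H9.Cosk

namespace Groth.Agent.H9.Cosk

open CategoryTheory Simplicial Opposite SSet MonoidalCategory

universe u

variable {U V : SSet.{u}} (f₀ f₁ : V ⟶ U) (n : ℕ)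

theorem main2
    (h : ∀ i : ℕ, i < n → f₀.app (op (SimplexCategory.mk i)) = f₁.app (op (SimplexCategory.mk i)))
    [SimplicialObject.IsCoskeletal U n] [SimplicialObject.IsCoskeletal V n] :
    Nonempty (SSet.Homotopy f₀ f₁) := by
  let L := (SimplexCategory.Truncated.inclusion n).op
  let H : V ⊗ (Δ[1] : SSet.{u}) ⟶ U :=
    U.liftOfIsRightKanExtension (𝟙 (L ⋙ U)) (V ⊗ (Δ[1] : SSet.{u})) (β f₀ f₁ n h)
  have hH : Functor.whiskerLeft L H = β f₀ f₁ n h := by
    have := U.liftOfIsRightKanExtension_fac (𝟙 (L ⋙ U)) (V ⊗ (Δ[1] : SSet.{u})) (β f₀ f₁ n h)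
    rwa [Category.comp_id] at this
  have h0 : ι₀ ≫ H = f₀ := by
    apply U.hom_ext_of_isRightKanExtension (𝟙 (L ⋙ U))
    rw [Category.comp_id, Category.comp_id, Functor.whiskerLeft_comp, hH]
    ext d v
    have e : ev0 ((ι₀ : V ⟶ V ⊗ (Δ[1] : SSet.{u})).app (L.obj d) v).2 = 0 := rfl
    show (if ev0 ((ι₀ : V ⟶ V ⊗ (Δ[1] : SSet.{u})).app (L.obj d) v).2 = 1 then f₁.app _ v
      else f₀.app _ v) = f₀.app _ v
    rw [e, if_neg (by decide)]
  have h1 : ι₁ ≫ H = f₁ := by
    apply U.hom_ext_of_isRightKanExtension (𝟙 (L ⋙ U))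
    rw [Category.comp_id, Category.comp_id, Functor.whiskerLeft_comp, hH]
    ext d v
    have e : ev0 ((ι₁ : V ⟶ V ⊗ (Δ[1] : SSet.{u})).app (L.obj d) v).2 = 1 := rfl
    show (if ev0 ((ι₁ : V ⟶ V ⊗ (Δ[1] : SSet.{u})).app (L.obj d) v).2 = 1 then f₁.app _ v
      else f₀.app _ v) = f₁.app _ v
    rw [e, if_pos rfl]
  have hrel : (⊥ : V.Subcomplex).ι ▷ (Δ[1] : SSet.{u}) ≫ H =
      CartesianMonoidalCategory.fst _ _ ≫ Subcomplex.isInitialBot.to (⊥ : U.Subcomplex).toSSet ≫
        (⊥ : U.Subcomplex).ι := by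
    ext d ⟨⟨x, hx⟩, a⟩
    exact hx.elim
  exact ⟨{ h := H, h₀ := h0, h₁ := h1, rel := hrel }⟩

end Groth.Agent.H9.Cosk
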