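import Mathlib

/-! Helper9: coskeleta exist in categories with finite limits -/

namespace Groth.Agent.H9.TruncKan

open CategoryTheory Limits Opposite

universe v u

instance finiteTruncated (m : ℕ) : Finite (SimplexCategory.Truncated m) := by
  apply Finite.of_injective
    (fun a : SimplexCategory.Truncated m => (⟨a.obj.len, Nat.lt_succ_of_le a.property⟩ : Fin (m + 1)))
  intro a b h
  have h' : a.obj.len = b.obj.len := by simpa using h
  cases a with | mk a ha =>
  cases b with | mk b hb =>
  have : a = b := SimplexCategory.ext h'
  subst this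
  rfl

instance finiteHomTruncated (m : ℕ) (a b : SimplexCategory.Truncated m) : Finite (a ⟶ b) := by
  apply Finite.of_injective (fun f : a ⟶ b => f.hom)
  intro f g h
  exact ObjectProperty.hom_ext _ h

instance finiteTruncatedOp (m : ℕ) : Finite (SimplexCategory.Truncated m)ᵒᵖ :=
  Finite.of_injective Opposite.unop Opposite.unop_injective

instance finiteHomOp (X Y : SimplexCategoryᵒᵖ) : Finite (X ⟶ Y) :=
  Finite.of_injective Quiver.Hom.unop Quiver.Hom.unop_inj

theorem finite_structuredArrow (m : ℕ) (X : SimplexCategoryᵒᵖ) :
    Finite (StructuredArrow X (SimplexCategory.Truncated.inclusion m).op) := by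
  apply Finite.of_injective
    (fun a : StructuredArrow X (SimplexCategory.Truncated.inclusion m).op =>
      (⟨a.right, a.hom⟩ : Σ k : (SimplexCategory.Truncated m)ᵒᵖ,
        (X ⟶ (SimplexCategory.Truncated.inclusion m).op.obj k)))
  intro a b h
  cases a with | mk al ar ah =>
  cases b with | mk bl br bh =>
  simp only [Sigma.mk.injEq] at h
  obtain ⟨h1, h2⟩ := h
  subst h1
  have h3 : ah = bh := eq_of_heq h2
  subst h3
  have h4 : al = bl := Subsingleton.elim _ _
  subst h4
  rfl

theorem finite_hom_structuredArrow (m : ℕ) (X : SimplexCategoryᵒᵖ)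
    (a b : StructuredArrow X (SimplexCategory.Truncated.inclusion m).op) : Finite (a ⟶ b) := by
  apply Finite.of_injective (fun f : a ⟶ b => f.right.unop)
  intro f g h
  apply StructuredArrow.hom_ext
  exact Quiver.Hom.unop_inj h

theorem main {C : Type u} [Category.{v} C] [HasFiniteLimits C] (m : ℕ)
    (U : (SimplexCategory.Truncated m)ᵒᵖ ⥤ C) :
    (SimplexCategory.Truncated.inclusion m).op.HasPointwiseRightKanExtension U := by
  intro X
  have h1 := finite_structuredArrow m X
  have h2 := finite_hom_structuredArrow m X
  let _ : FinCategory (StructuredArrow X (SimplexCategory.Truncated.inclusion m).op) :=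
    { fintypeObj := Fintype.ofFinite _
      fintypeHom := fun a b => Fintype.ofFinite _ }
  infer_instance

end Groth.Agent.H9.TruncKan
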