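import Mathlib
import Groth.Agent.Lib.Helper9.Misc.TruncKan

/-! Helper9: n-coskeletal implies m-coskeletal for m ≥ n, with finite limits (S6811). -/

namespace Groth.Agent.H9.CoskMono

open CategoryTheory CategoryTheory.Limits Opposite Simplicial CategoryTheory.Functor

universe v u

variable {C : Type u} [Category.{v} C] [HasFiniteLimits C] (U : SimplicialObject C) {n m : ℕ}

/-- the inclusion of truncated simplex categories, opposite version -/
abbrev ιop (h : n ≤ m) : (SimplexCategory.Truncated n)ᵒᵖ ⥤ (SimplexCategory.Truncated m)ᵒᵖ :=
  (SimplexCategory.Truncated.incl n m h).op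

/-- pushing a structured arrow for the `n`-truncation to the `m`-truncation -/
abbrev J (h : n ≤ m) (d : SimplexCategoryᵒᵖ)
    (g : StructuredArrow d (SimplexCategory.Truncated.inclusion n).op) :
    StructuredArrow d (SimplexCategory.Truncated.inclusion m).op :=
  StructuredArrow.mk (Y := (ιop h).obj g.right) g.hom

theorem main (h : n ≤ m) [U.IsCoskeletal n] : U.IsCoskeletal m := by
  have hpw := TruncKan.main n ((SimplexCategory.Truncated.inclusion n).op ⋙ U)
  have hn : (RightExtension.mk U (𝟙 ((SimplexCategory.Truncated.inclusion n).op ⋙ U))).IsPointwiseRightKanExtension :=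
    isPointwiseRightKanExtensionOfIsRightKanExtension U (𝟙 _)
  have hn' : ∀ d : SimplexCategoryᵒᵖ, IsLimit ((RightExtension.mk U
      (𝟙 ((SimplexCategory.Truncated.inclusion n).op ⋙ U))).coneAt d) := hn
  have hm : (RightExtension.mk U (𝟙 ((SimplexCategory.Truncated.inclusion m).op ⋙ U))).IsPointwiseRightKanExtension := by
    intro d
    show IsLimit ((RightExtension.mk U
      (𝟙 ((SimplexCategory.Truncated.inclusion m).op ⋙ U))).coneAt d)
    have legn : ∀ (X : SimplexCategoryᵒᵖ)
        (k : StructuredArrow X (SimplexCategory.Truncated.inclusion n).op),
        ((RightExtension.mk U (𝟙 ((SimplexCategory.Truncated.inclusion n).op ⋙ U))).coneAt X).π.app k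
          = U.map k.hom := by
      intro X k
      simp only [RightExtension.coneAt]
      exact Category.comp_id _
    have legm : ∀ (X : SimplexCategoryᵒᵖ)
        (k : StructuredArrow X (SimplexCategory.Truncated.inclusion m).op),
        ((RightExtension.mk U (𝟙 ((SimplexCategory.Truncated.inclusion m).op ⋙ U))).coneAt X).π.app k
          = U.map k.hom := by
      intro X k
      simp only [RightExtension.coneAt]
      exact Category.comp_id _
    refine IsLimit.ofExistsUnique (fun s => ?_)
    let s' : Cone (StructuredArrow.proj d (SimplexCategory.Truncated.inclusion n).op ⋙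
        (SimplexCategory.Truncated.inclusion n).op ⋙ U) :=
      { pt := s.pt
        π :=
          { app := fun g => s.π.app (J h d g)
            naturality := fun g₁ g₂ φ => by
              have := s.π.naturality (StructuredArrow.homMk ((ιop h).map φ.right)
                (StructuredArrow.w φ) : J h d g₁ ⟶ J h d g₂)
              exact this } }
    let t : s.pt ⟶ U.obj d := (hn' d).lift s'
    have t_fac : ∀ g : StructuredArrow d (SimplexCategory.Truncated.inclusion n).op,
        t ≫ U.map g.hom = s.π.app (J h d g) := by
      intro g
      have := (hn' d).fac s' g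
      rw [legn] at this
      exact this
    have key : ∀ g' : StructuredArrow d (SimplexCategory.Truncated.inclusion m).op,
        t ≫ U.map g'.hom = s.π.app g' := by
      intro g'
      have hext : ∀ (a b : s.pt ⟶ U.obj ((SimplexCategory.Truncated.inclusion m).op.obj g'.right)),
          (∀ k : StructuredArrow ((SimplexCategory.Truncated.inclusion m).op.obj g'.right)
            (SimplexCategory.Truncated.inclusion n).op, a ≫ U.map k.hom = b ≫ U.map k.hom) →
          a = b := by
        intro a b hab
        apply (hn' ((SimplexCategory.Truncated.inclusion m).op.obj g'.right)).hom_ext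
        intro k
        rw [legn]
        exact hab k
      apply hext
      intro k
      rw [Category.assoc, ← U.map_comp]
      have h2 : t ≫ U.map (g'.hom ≫ k.hom) =
          s.π.app (J h d (StructuredArrow.mk (Y := k.right) (g'.hom ≫ k.hom))) :=
        t_fac (StructuredArrow.mk (Y := k.right) (g'.hom ≫ k.hom))
      rw [h2]
      let κ : g'.right ⟶ (ιop h).obj k.right := (ObjectProperty.homMk k.hom.unop).op
      have h3 := s.π.naturality (StructuredArrow.homMk κ rfl :
        g' ⟶ J h d (StructuredArrow.mk (Y := k.right) (g'.hom ≫ k.hom)))
      simp only [Functor.const_obj_obj, Functor.const_obj_map, Category.id_comp] at h3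
      rw [h3]
      rfl
    refine ⟨t, ?_, ?_⟩
    · intro g'
      rw [legm]
      exact key g'
    · intro t' ht'
      apply (hn' d).uniq s'
      intro g
      have := ht' (J h d g)
      rw [legm] at this
      rw [legn]
      exact this
  constructor
  exact hm.isRightKanExtension

end Groth.Agent.H9.CoskMono
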