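import Mathlib

open CategoryTheory CategoryTheory.Limits AlgebraicGeometry TensorProduct IsLocalRing

universe u

namespace Groth.Agent.H9.CplStalk

/-- the map on `n`-th infinitesimal neighbourhoods is bijective (elementwise form) -/
def GoodL (n : ℕ) {B D : Type*} [CommRing B] [CommRing D] [IsLocalRing B] [IsLocalRing D]
    (φ : B →+* D) : Prop :=
  (∀ b, φ b ∈ maximalIdeal D ^ n → b ∈ maximalIdeal B ^ n) ∧
    (∀ d, ∃ b, d - φ b ∈ maximalIdeal D ^ n)

section Loc

variable {R C : Type*} [CommRing R] [CommRing C] (θ : R →+* C) (K : Ideal R)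
  (q₂ : Ideal C) [q₂.IsPrime]

theorem approx_pow (hS1 : ∀ c : C, ∃ r : R, c - θ r ∈ K.map θ) (hKq : K.map θ ≤ q₂) :
    ∀ (m : ℕ) (c : C), c ∈ q₂ ^ m → ∃ r ∈ (q₂.comap θ) ^ m, c - θ r ∈ K.map θ := by
  intro m
  induction m with
  | zero =>
    intro c _
    obtain ⟨r, hr⟩ := hS1 c
    exact ⟨r, by simp, hr⟩
  | succ m ih =>
    intro c hc
    rw [pow_succ] at hc
    refine Submodule.mul_induction_on hc ?_ ?_
    · intro x hx y hy
      obtain ⟨rx, hrx, hx'⟩ := ih x hx
      obtain ⟨ry, hy'⟩ := hS1 y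
      have hry : ry ∈ q₂.comap θ := by
        rw [Ideal.mem_comap]
        have : θ ry = y - (y - θ ry) := by ring
        rw [this]
        exact q₂.sub_mem hy (hKq hy')
      refine ⟨rx * ry, ?_, ?_⟩
      · rw [pow_succ]
        exact Ideal.mul_mem_mul hrx hry
      · have : x * y - θ (rx * ry) = (x - θ rx) * y + θ rx * (y - θ ry) := by
          rw [map_mul]; ring
        rw [this]
        exact (K.map θ).add_mem ((K.map θ).mul_mem_right _ hx') ((K.map θ).mul_mem_left _ hy')
    · rintro x y ⟨rx, hrx, hx'⟩ ⟨ry, hry, hy'⟩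
      refine ⟨rx + ry, Ideal.add_mem _ hrx hry, ?_⟩
      have : x + y - θ (rx + ry) = (x - θ rx) + (y - θ ry) := by
        rw [map_add]; ring
      rw [this]
      exact (K.map θ).add_mem hx' hy'

theorem loc_good (p₂ : Ideal R) [p₂.IsPrime] (hp₂ : p₂ = q₂.comap θ) (n : ℕ)
    (hS1 : ∀ c : C, ∃ r : R, c - θ r ∈ K.map θ)
    (hS2 : ∀ r : R, θ r ∈ K.map θ → r ∈ K) (hKq : K.map θ ≤ q₂) (hKqn : K.map θ ≤ q₂ ^ n)
    (hKp : K ≤ p₂ ^ n) :
    GoodL n (Localization.localRingHom p₂ q₂ θ hp₂) := by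
  have hMB : maximalIdeal (Localization.AtPrime p₂) ^ n =
      Ideal.map (algebraMap R (Localization.AtPrime p₂)) (p₂ ^ n) := by
    rw [Ideal.map_pow, Localization.AtPrime.map_eq_maximalIdeal]
  have hMC : maximalIdeal (Localization.AtPrime q₂) ^ n =
      Ideal.map (algebraMap C (Localization.AtPrime q₂)) (q₂ ^ n) := by
    rw [Ideal.map_pow, Localization.AtPrime.map_eq_maximalIdeal]
  have hout : ∀ s : C, s ∉ q₂ → ∃ t : R, t ∉ p₂ ∧ s - θ t ∈ K.map θ := by
    intro s hs
    obtain ⟨t, ht⟩ := hS1 s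
    refine ⟨t, fun htp => hs ?_, ht⟩
    have : s = (s - θ t) + θ t := by ring
    rw [this]
    rw [hp₂, Ideal.mem_comap] at htp
    exact q₂.add_mem (hKq ht) htp
  constructor
  · intro b hb
    obtain ⟨⟨r, t⟩, hrt⟩ := IsLocalization.surj p₂.primeCompl b
    simp only at hrt
    have h1 : algebraMap C (Localization.AtPrime q₂) (θ r) ∈
        maximalIdeal (Localization.AtPrime q₂) ^ n := by
      have h := congrArg (Localization.localRingHom p₂ q₂ θ hp₂) hrt
      rw [map_mul, Localization.localRingHom_to_map, Localization.localRingHom_to_map] at h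
      rw [← h]
      exact Ideal.mul_mem_right _ _ hb
    rw [hMC, IsLocalization.mem_map_algebraMap_iff q₂.primeCompl] at h1
    obtain ⟨⟨c₀, s⟩, hcs⟩ := h1
    simp only at hcs
    rw [← map_mul, IsLocalization.eq_iff_exists q₂.primeCompl] at hcs
    obtain ⟨s', hs'⟩ := hcs
    obtain ⟨t', ht'p, ht'⟩ := hout ((s' : C) * (s : C)) (s' * s).2
    have h2 : θ (t' * r) ∈ q₂ ^ n := by
      have : θ (t' * r) = (s' : C) * (c₀ : C) - ((s' : C) * (s : C) - θ t') * θ r := by
        rw [map_mul]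
        linear_combination hs'
      rw [this]
      exact Ideal.sub_mem _ (Ideal.mul_mem_left _ _ c₀.2) (Ideal.mul_mem_right _ _ (hKqn ht'))
    obtain ⟨r', hr', hr'2⟩ := approx_pow θ K q₂ hS1 hKq n _ h2
    have h3 : t' * r ∈ p₂ ^ n := by
      have h4 : t' * r - r' ∈ K := hS2 _ (by rw [map_sub]; exact hr'2)
      have h5 := hKp h4
      have e : t' * r = (t' * r - r') + r' := by ring
      rw [e]
      exact Ideal.add_mem _ h5 (hp₂ ▸ hr')
    rw [hMB]
    have hu : IsUnit (algebraMap R (Localization.AtPrime p₂) ((t : R) * t')) :=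
      IsLocalization.map_units _ (⟨(t : R) * t', p₂.primeCompl.mul_mem t.2 ht'p⟩ : p₂.primeCompl)
    rw [← Ideal.mul_unit_mem_iff_mem _ hu]
    have : b * algebraMap R (Localization.AtPrime p₂) ((t : R) * t') =
        algebraMap R (Localization.AtPrime p₂) (t' * r) := by
      simp only [map_mul]
      linear_combination (algebraMap R (Localization.AtPrime p₂) t') * hrt
    rw [this]
    exact Ideal.mem_map_of_mem _ h3
  · intro d
    obtain ⟨⟨c, s⟩, hcs⟩ := IsLocalization.surj q₂.primeCompl d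
    simp only at hcs
    obtain ⟨r, hr⟩ := hS1 c
    obtain ⟨t, htp, ht⟩ := hout s s.2
    refine ⟨IsLocalization.mk' _ r (⟨t, htp⟩ : p₂.primeCompl), ?_⟩
    rw [hMC]
    have hθt : θ t ∉ q₂ := by
      intro h
      exact htp (by rw [hp₂, Ideal.mem_comap]; exact h)
    have hu : IsUnit (algebraMap C (Localization.AtPrime q₂) ((s : C) * θ t)) :=
      IsLocalization.map_units _ (⟨(s : C) * θ t, q₂.primeCompl.mul_mem s.2 hθt⟩ : q₂.primeCompl)
    rw [← Ideal.mul_unit_mem_iff_mem _ hu]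
    have e1 : Localization.localRingHom p₂ q₂ θ hp₂
        (IsLocalization.mk' _ r (⟨t, htp⟩ : p₂.primeCompl)) *
          algebraMap C (Localization.AtPrime q₂) (θ t) =
        algebraMap C (Localization.AtPrime q₂) (θ r) := by
      rw [← Localization.localRingHom_to_map p₂ q₂ θ hp₂ t, ← map_mul]
      have := IsLocalization.mk'_spec (Localization.AtPrime p₂) r (⟨t, htp⟩ : p₂.primeCompl)
      simp only at this
      rw [this, Localization.localRingHom_to_map]
    have : (d - Localization.localRingHom p₂ q₂ θ hp₂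
        (IsLocalization.mk' _ r (⟨t, htp⟩ : p₂.primeCompl))) *
          algebraMap C (Localization.AtPrime q₂) ((s : C) * θ t) =
        algebraMap C (Localization.AtPrime q₂) ((c - θ r) * θ t - θ r * ((s : C) - θ t)) := by
      simp only [map_mul, map_sub]
      linear_combination (algebraMap C (Localization.AtPrime q₂) (θ t)) * hcs -
        (algebraMap C (Localization.AtPrime q₂) (s : C)) * e1
    rw [this]
    exact Ideal.mem_map_of_mem _ (Ideal.sub_mem _ (Ideal.mul_mem_right _ _ (hKqn hr))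
      (Ideal.mul_mem_left _ _ (hKqn ht)))

end Loc

section Tensor

variable {A : Type u} [CommRing A] (I : Ideal A) (n : ℕ) (A' : Type u) [CommRing A']
  [Algebra A A'] (R : Type u) [CommRing R] [Algebra A R]

theorem map_incl_eq :
    ((I ^ n).map (algebraMap A R)).map
      (Algebra.TensorProduct.includeLeftRingHom : R →+* R ⊗[A] A') =
      (I ^ n).map (algebraMap A (R ⊗[A] A')) := by
  rw [Ideal.map_map]
  congr 1

theorem tensor_S1
    (H1 : ∀ ĉ : A', ∃ a₀ : A, ĉ - algebraMap A A' a₀ ∈ (I ^ n).map (algebraMap A A'))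
    (c : R ⊗[A] A') :
    ∃ r : R, c - (Algebra.TensorProduct.includeLeftRingHom : R →+* R ⊗[A] A') r ∈
      (I ^ n).map (algebraMap A (R ⊗[A] A')) := by
  induction c using TensorProduct.induction_on with
  | zero => exact ⟨0, by simp⟩
  | tmul r ĉ =>
    obtain ⟨a₀, ha₀⟩ := H1 ĉ
    refine ⟨a₀ • r, ?_⟩
    have e1 : (Algebra.TensorProduct.includeLeftRingHom : R →+* R ⊗[A] A') (a₀ • r) =
        r ⊗ₜ[A] (algebraMap A A' a₀) := by
      rw [Algebra.TensorProduct.includeLeftRingHom_apply, TensorProduct.smul_tmul,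
        Algebra.algebraMap_eq_smul_one]
    rw [e1, ← TensorProduct.tmul_sub]
    have e2 : r ⊗ₜ[A] (ĉ - algebraMap A A' a₀) =
        (r ⊗ₜ[A] (1 : A')) * ((Algebra.TensorProduct.includeRight : A' →ₐ[A] R ⊗[A] A')
          (ĉ - algebraMap A A' a₀)) := by
      rw [Algebra.TensorProduct.includeRight_apply, Algebra.TensorProduct.tmul_mul_tmul, mul_one,
        one_mul]
    rw [e2]
    refine Ideal.mul_mem_left _ _ ?_
    have hle : ((I ^ n).map (algebraMap A A')).map
        ((Algebra.TensorProduct.includeRight : A' →ₐ[A] R ⊗[A] A') : A' →+* R ⊗[A] A') ≤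
        (I ^ n).map (algebraMap A (R ⊗[A] A')) := by
      rw [Ideal.map_map]
      apply le_of_eq
      congr 1
      exact (Algebra.TensorProduct.includeRight : A' →ₐ[A] R ⊗[A] A').comp_algebraMap
    exact hle (Ideal.mem_map_of_mem _ ha₀)
  | add x y hx hy =>
    obtain ⟨rx, hx⟩ := hx
    obtain ⟨ry, hy⟩ := hy
    refine ⟨rx + ry, ?_⟩
    have : x + y - (Algebra.TensorProduct.includeLeftRingHom : R →+* R ⊗[A] A') (rx + ry) =
        (x - (Algebra.TensorProduct.includeLeftRingHom : R →+* R ⊗[A] A') rx) +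
        (y - (Algebra.TensorProduct.includeLeftRingHom : R →+* R ⊗[A] A') ry) := by
      rw [map_add]; ring
    rw [this]
    exact Ideal.add_mem _ hx hy

theorem tensor_S2 (τ : A' →ₐ[A] A ⧸ I ^ n) (r : R)
    (hr : (Algebra.TensorProduct.includeLeftRingHom : R →+* R ⊗[A] A') r ∈
      (I ^ n).map (algebraMap A (R ⊗[A] A'))) :
    r ∈ (I ^ n).map (algebraMap A R) := by
  let β : A ⧸ I ^ n →ₐ[A] R ⧸ (I ^ n).map (algebraMap A R) :=
    Ideal.quotientMapₐ ((I ^ n).map (algebraMap A R)) (Algebra.ofId A R) Ideal.le_comap_map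
  let ρ : R ⊗[A] A' →ₐ[A] R ⧸ (I ^ n).map (algebraMap A R) :=
    Algebra.TensorProduct.lift (Ideal.Quotient.mkₐ A ((I ^ n).map (algebraMap A R)))
      (β.comp τ) (fun _ _ => Commute.all _ _)
  have hker : (I ^ n).map (algebraMap A (R ⊗[A] A')) ≤ RingHom.ker ρ.toRingHom := by
    rw [Ideal.map_le_iff_le_comap]
    intro x hx
    rw [Ideal.mem_comap, RingHom.mem_ker]
    show ρ (algebraMap A _ x) = 0
    rw [AlgHom.commutes, ← Ideal.Quotient.mk_algebraMap]
    exact Ideal.Quotient.eq_zero_iff_mem.mpr (Ideal.mem_map_of_mem _ hx)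
  have h0 := hker hr
  rw [RingHom.mem_ker] at h0
  have h1 : ρ (r ⊗ₜ[A] (1 : A')) = Ideal.Quotient.mk ((I ^ n).map (algebraMap A R)) r := by
    simp [ρ, Algebra.TensorProduct.lift_tmul]
  have h2 : ρ (r ⊗ₜ[A] (1 : A')) = 0 := h0
  rw [h1] at h2
  exact Ideal.Quotient.eq_zero_iff_mem.mp h2

end Tensor

theorem adic_H1 {A : Type u} [CommRing A] (I : Ideal A) (hI : I.FG) (n : ℕ)
    (ĉ : AdicCompletion I A) :
    ∃ a₀ : A, ĉ - algebraMap A (AdicCompletion I A) a₀ ∈
      (I ^ n).map (algebraMap A (AdicCompletion I A)) := by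
  obtain ⟨a₀, ha₀⟩ := Submodule.mkQ_surjective _ (AdicCompletion.eval I A n ĉ)
  refine ⟨a₀, ?_⟩
  have hk : ĉ - algebraMap A (AdicCompletion I A) a₀ ∈
      LinearMap.ker (AdicCompletion.eval I A n) := by
    rw [LinearMap.mem_ker, map_sub, AdicCompletion.algebraMap_apply, AdicCompletion.eval_of,
      Algebra.algebraMap_self, RingHom.id_apply, ha₀, sub_self]
  rw [← AdicCompletion.pow_smul_top_eq_ker_eval hI] at hk
  refine Submodule.smul_induction_on hk ?_ ?_
  · intro x hx y _
    rw [Algebra.smul_def]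
    exact Ideal.mul_mem_right _ _ (Ideal.mem_map_of_mem _ hx)
  · intro x y hx hy
    exact Ideal.add_mem _ hx hy

end Groth.Agent.H9.CplStalk
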