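import Mathlib
import Groth.Agent.Lib.Helper9.Misc.CplStalkA

open CategoryTheory CategoryTheory.Limits AlgebraicGeometry TensorProduct IsLocalRing

universe u

namespace Groth.Agent.H9.CplStalk

theorem arrow_congr {X Y : Scheme.{u}} (f g : X ⟶ Y) (h : f = g) (x : X) :
    Nonempty (Arrow.mk (f.stalkMap x) ≅ Arrow.mk (g.stalkMap x)) := by
  subst h
  exact ⟨Iso.refl _⟩

theorem arrow_comp_right {X Y Z : Scheme.{u}} (f : X ⟶ Y) (g : Y ⟶ Z) [IsIso g] (x : X) :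
    Nonempty (Arrow.mk ((f ≫ g).stalkMap x) ≅ Arrow.mk (f.stalkMap x)) := by
  haveI : IsIso (g.stalkMap (f x)) := inferInstance
  let e₁ : Z.presheaf.stalk (g (f x)) ≅ Y.presheaf.stalk (f x) := asIso (g.stalkMap (f x))
  refine ⟨Arrow.isoMk' ((f ≫ g).stalkMap x) (f.stalkMap x)
    (show Z.presheaf.stalk ((f ≫ g) x) ≅ _ from e₁) (Iso.refl _) ?_⟩
  show g.stalkMap (f x) ≫ f.stalkMap x = (f ≫ g).stalkMap x ≫ 𝟙 _
  rw [Category.comp_id, Scheme.Hom.stalkMap_comp]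

theorem arrow_comp_left {X Y Z : Scheme.{u}} (f : X ⟶ Y) [IsIso f] (g : Y ⟶ Z) (x : X) :
    Nonempty (Arrow.mk ((f ≫ g).stalkMap x) ≅ Arrow.mk (g.stalkMap (f x))) := by
  haveI : IsIso (f.stalkMap x) := inferInstance
  let e₂ : X.presheaf.stalk x ≅ Y.presheaf.stalk (f x) := (asIso (f.stalkMap x)).symm
  refine ⟨Arrow.isoMk' ((f ≫ g).stalkMap x) (g.stalkMap (f x))
    (show Z.presheaf.stalk ((f ≫ g) x) ≅ Z.presheaf.stalk (g (f x)) from Iso.refl _) e₂ ?_⟩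
  show 𝟙 _ ≫ g.stalkMap (f x) = (f ≫ g).stalkMap x ≫ inv (f.stalkMap x)
  refine (Category.id_comp _).trans ?_
  exact (IsIso.eq_comp_inv (f.stalkMap x)).mpr (Scheme.Hom.stalkMap_comp f g x).symm

variable {A A' : Type u} [CommRing A] [CommRing A'] [Algebra A A']

theorem chart {X : Scheme.{u}} (f : X ⟶ Spec (CommRingCat.of A))
    (q : ↥(pullback f (Spec.map (CommRingCat.ofHom (algebraMap A A')))))
    (U : X.Opens) (hU : IsAffineOpen U)
    (hq : (pullback.fst f (Spec.map (CommRingCat.ofHom (algebraMap A A')))).base q ∈ U) :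
    ∃ ψ : A →+* Γ(X, U),
      Spec.map (CommRingCat.ofHom ψ) = hU.isoSpec.inv ≫ U.ι ≫ f ∧
      letI := ψ.toAlgebra
      ∃ (q₂ : PrimeSpectrum (Γ(X, U) ⊗[A] A')),
        (q₂.asIdeal.comap (Algebra.TensorProduct.includeRight :
            A' →ₐ[A] Γ(X, U) ⊗[A] A').toRingHom =
          ((pullback.snd f (Spec.map (CommRingCat.ofHom (algebraMap A A')))).base q).asIdeal) ∧
        Nonempty (Arrow.mk ((pullback.fst f
            (Spec.map (CommRingCat.ofHom (algebraMap A A')))).stalkMap q) ≅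
          Arrow.mk (CommRingCat.ofHom (Localization.localRingHom
            (q₂.comap (Algebra.TensorProduct.includeLeftRingHom :
              Γ(X, U) →+* Γ(X, U) ⊗[A] A')).asIdeal q₂.asIdeal
            (Algebra.TensorProduct.includeLeftRingHom :
              Γ(X, U) →+* Γ(X, U) ⊗[A] A') rfl))) := by
  classical
  let g := Spec.map (CommRingCat.ofHom (algebraMap A A'))
  let fst := pullback.fst f g
  let snd := pullback.snd f g
  let h : Spec Γ(X, U) ⟶ Spec (CommRingCat.of A) := hU.isoSpec.inv ≫ U.ι ≫ f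
  let ψ' : CommRingCat.of A ⟶ Γ(X, U) := Spec.preimage h
  have hψ' : Spec.map ψ' = h := Spec.map_preimage h
  refine ⟨ψ'.hom, hψ', ?_⟩
  let _ := ψ'.hom.toAlgebra
  have sq0 : IsPullback (fst ∣_ U) ((fst ⁻¹ᵁ U).ι ≫ snd) (U.ι ≫ f) g :=
    (isPullback_morphismRestrict fst U).paste_vert (IsPullback.of_hasPullback f g)
  have sq1 : IsPullback ((fst ∣_ U) ≫ hU.isoSpec.hom) ((fst ⁻¹ᵁ U).ι ≫ snd) (Spec.map ψ') g := by
    refine IsPullback.of_iso sq0 (Iso.refl _) hU.isoSpec (Iso.refl _) (Iso.refl _) ?_ ?_ ?_ ?_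
    · simp
    · simp
    · simp [hψ', h]
    · simp
  let iL : Γ(X, U) →+* Γ(X, U) ⊗[A] A' := Algebra.TensorProduct.includeLeftRingHom
  let iR : A' →+* Γ(X, U) ⊗[A] A' :=
    (Algebra.TensorProduct.includeRight : A' →ₐ[A] Γ(X, U) ⊗[A] A').toRingHom
  have sq2 : IsPullback (Spec.map (CommRingCat.ofHom iL)) (Spec.map (CommRingCat.ofHom iR))
      (Spec.map ψ') g := by
    have w₁ : (pullbackSpecIso A Γ(X, U) A').inv ≫ pullback.fst (Spec.map ψ') g =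
        Spec.map (CommRingCat.ofHom iL) := pullbackSpecIso_inv_fst A Γ(X, U) A'
    have w₂ : (pullbackSpecIso A Γ(X, U) A').inv ≫ pullback.snd (Spec.map ψ') g =
        Spec.map (CommRingCat.ofHom iR) := pullbackSpecIso_inv_snd A Γ(X, U) A'
    refine IsPullback.of_iso_pullback ⟨?_⟩ (pullbackSpecIso A Γ(X, U) A').symm w₁ w₂
    rw [← w₁, ← w₂, Category.assoc, Category.assoc]
    congr 1
    exact pullback.condition
  let e := sq1.isoIsPullback _ _ sq2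
  have E1 : e.hom ≫ Spec.map (CommRingCat.ofHom iL) = (fst ∣_ U) ≫ hU.isoSpec.hom :=
    IsPullback.isoIsPullback_hom_fst _ _ sq1 sq2
  have E2 : e.hom ≫ Spec.map (CommRingCat.ofHom iR) = (fst ⁻¹ᵁ U).ι ≫ snd :=
    IsPullback.isoIsPullback_hom_snd _ _ sq1 sq2
  let q₁ : ↥(fst ⁻¹ᵁ U) := ⟨q, hq⟩
  let q₂ : PrimeSpectrum (Γ(X, U) ⊗[A] A') := e.hom.base q₁
  refine ⟨q₂, ?_, ?_⟩
  · have h2 := congrArg (fun m : (fst ⁻¹ᵁ U).toScheme ⟶ Spec (CommRingCat.of A') =>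
      (m : Scheme.Hom _ _).base q₁) E2
    have h3 : (Spec.map (CommRingCat.ofHom iR)).base q₂ = snd.base q := h2
    rw [← h3]
    rfl
  · obtain ⟨i1⟩ := arrow_comp_right (fst ∣_ U) hU.isoSpec.hom q₁
    obtain ⟨i2⟩ := arrow_congr _ _ E1 q₁
    obtain ⟨i3⟩ := arrow_comp_left e.hom (Spec.map (CommRingCat.ofHom iL)) q₁
    exact ⟨(morphismRestrictStalkMap fst U q₁).symm ≪≫ i1.symm ≪≫ i2.symm ≪≫ i3 ≪≫
      Scheme.arrowStalkMapSpecIso (CommRingCat.ofHom iL) q₂⟩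

theorem mem_maxpow_iff {B₁ B₂ : Type*} [CommRing B₁] [CommRing B₂] [IsLocalRing B₁]
    [IsLocalRing B₂] (e : B₁ ≃+* B₂) (n : ℕ) (x : B₁) :
    e x ∈ maximalIdeal B₂ ^ n ↔ x ∈ maximalIdeal B₁ ^ n := by
  have h : maximalIdeal B₂ ^ n = Ideal.map (e : B₁ →+* B₂) (maximalIdeal B₁ ^ n) := by
    rw [Ideal.map_pow]
    congr 1
    exact (IsLocalRing.map_ringEquiv_maximalIdeal e).symm
  rw [h]
  constructor
  · intro hx
    obtain ⟨y, hy, hxy⟩ := (Ideal.mem_map_iff_of_surjective (e : B₁ →+* B₂) e.surjective).1 hx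
    have : y = x := e.injective hxy
    exact this ▸ hy
  · exact fun hx => Ideal.mem_map_of_mem _ hx

theorem goodL_of_arrow_iso {B₁ C₁ B₂ C₂ : CommRingCat.{u}} [IsLocalRing B₁] [IsLocalRing C₁]
    [IsLocalRing B₂] [IsLocalRing C₂] (φ₁ : B₁ ⟶ C₁) (φ₂ : B₂ ⟶ C₂)
    (i : Arrow.mk φ₁ ≅ Arrow.mk φ₂) (n : ℕ) (h : GoodL n φ₂.hom) : GoodL n φ₁.hom := by
  let eB : B₁ ≃+* B₂ := (Arrow.leftFunc.mapIso i).commRingCatIsoToRingEquiv
  let eC : C₁ ≃+* C₂ := (Arrow.rightFunc.mapIso i).commRingCatIsoToRingEquiv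
  have hcomm : ∀ b, φ₂.hom (eB b) = eC (φ₁.hom b) := by
    intro b
    have := ConcreteCategory.congr_hom i.hom.w b
    exact this
  constructor
  · intro b hb
    rw [← mem_maxpow_iff eB]
    apply h.1
    rw [hcomm, mem_maxpow_iff eC]
    exact hb
  · intro d
    obtain ⟨b, hb⟩ := h.2 (eC d)
    refine ⟨eB.symm b, ?_⟩
    rw [← mem_maxpow_iff eC, map_sub, ← hcomm, RingEquiv.apply_symm_apply]
    exact hb

end Groth.Agent.H9.CplStalk
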