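import Mathlib
import Groth.Agent.Lib.Helper9.Misc.CplStalkB

open CategoryTheory CategoryTheory.Limits AlgebraicGeometry TensorProduct IsLocalRing

universe u

namespace Groth.Agent.H9.CplStalk

theorem bijective_of_goodL {B D : Type*} [CommRing B] [CommRing D] [IsLocalRing B] [IsLocalRing D]
    (φ : B →+* D) (n : ℕ) (hg : GoodL n φ)
    (h : maximalIdeal B ^ n ≤ (maximalIdeal D ^ n).comap φ) :
    Function.Bijective (Ideal.quotientMap (maximalIdeal D ^ n) φ h) := by
  constructor
  · apply Ideal.quotientMap_injective'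
    intro b hb
    exact hg.1 b hb
  · intro y
    obtain ⟨c, rfl⟩ := Ideal.Quotient.mk_surjective y
    obtain ⟨b, hb⟩ := hg.2 c
    refine ⟨Ideal.Quotient.mk _ b, ?_⟩
    rw [Ideal.quotientMap_mk]
    exact (Ideal.Quotient.eq.mpr hb).symm

/-- algebra core: the localised inclusion `R_p → (R ⊗ Â)_q` is bijective on infinitesimal
neighbourhoods -/
theorem tensor_goodL {A : Type u} [CommRing A] (I : Ideal A) (hI : I.FG) (R : Type u) [CommRing R]
    [Algebra A R] (q₂ : Ideal (R ⊗[A] AdicCompletion I A)) [q₂.IsPrime]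
    (p₂ : Ideal R) [p₂.IsPrime]
    (hp₂ : p₂ = q₂.comap (Algebra.TensorProduct.includeLeftRingHom :
      R →+* R ⊗[A] AdicCompletion I A))
    (hle : I.map (algebraMap A (R ⊗[A] AdicCompletion I A)) ≤ q₂) (n : ℕ) (hn : 1 ≤ n) :
    GoodL n (B := Localization.AtPrime p₂) (D := Localization.AtPrime q₂)
      (Localization.localRingHom p₂ q₂ (Algebra.TensorProduct.includeLeftRingHom :
      R →+* R ⊗[A] AdicCompletion I A) hp₂) := by
  have hmap := map_incl_eq I n (AdicCompletion I A) R
  have hpow : (I ^ n).map (algebraMap A (R ⊗[A] AdicCompletion I A)) ≤ q₂ ^ n := by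
    rw [Ideal.map_pow]
    exact Ideal.pow_right_mono hle n
  have hpow1 : (I ^ n).map (algebraMap A (R ⊗[A] AdicCompletion I A)) ≤ q₂ := by
    refine hpow.trans (Ideal.pow_le_self (by omega))
  have hIp : I.map (algebraMap A R) ≤ p₂ := by
    rw [Ideal.map_le_iff_le_comap]
    intro x hx
    rw [Ideal.mem_comap, hp₂, Ideal.mem_comap]
    have : (Algebra.TensorProduct.includeLeftRingHom : R →+* R ⊗[A] AdicCompletion I A)
        (algebraMap A R x) = algebraMap A (R ⊗[A] AdicCompletion I A) x := rfl
    rw [this]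
    exact hle (Ideal.mem_map_of_mem _ hx)
  refine loc_good _ ((I ^ n).map (algebraMap A R)) q₂ p₂ hp₂ n ?_ ?_ ?_ ?_ ?_
  · rw [hmap]
    exact tensor_S1 I n (AdicCompletion I A) R (adic_H1 I hI n)
  · rw [hmap]
    exact tensor_S2 I n (AdicCompletion I A) R (AdicCompletion.evalₐ I n)
  · rw [hmap]
    exact hpow1
  · rw [hmap]
    exact hpow
  · rw [Ideal.map_pow]
    exact Ideal.pow_right_mono hIp n

theorem main7305 (A : Type u) [CommRing A] [IsLocalRing A] (hm : (maximalIdeal A).FG)
    (X : Scheme.{u}) (f : X ⟶ Spec (CommRingCat.of A))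
    (q : ↥(pullback f (Spec.map (CommRingCat.ofHom
      (algebraMap A (AdicCompletion (maximalIdeal A) A))))))
    (hq : f.base ((pullback.fst f (Spec.map (CommRingCat.ofHom
      (algebraMap A (AdicCompletion (maximalIdeal A) A))))).base q) = closedPoint A)
    (n : ℕ) (hn : 1 ≤ n) :
    GoodL n ((pullback.fst f (Spec.map (CommRingCat.ofHom
      (algebraMap A (AdicCompletion (maximalIdeal A) A))))).stalkMap q).hom := by
  obtain ⟨U, hU, hpU, -⟩ := (TopologicalSpace.Opens.isBasis_iff_nbhd.mp X.isBasis_affineOpens)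
    (show (pullback.fst f (Spec.map (CommRingCat.ofHom
      (algebraMap A (AdicCompletion (maximalIdeal A) A))))).base q ∈ (⊤ : X.Opens) from trivial)
  obtain ⟨ψ, -, hrest⟩ := chart (A' := AdicCompletion (maximalIdeal A) A) f q U hU hpU
  let _ := ψ.toAlgebra
  obtain ⟨q₂, hq₂, ⟨iso⟩⟩ := hrest
  refine goodL_of_arrow_iso _ _ iso n ?_
  refine tensor_goodL (maximalIdeal A) hm Γ(X, U) q₂.asIdeal _ rfl ?_ n hn
  -- the prime contains the maximal ideal of `A`
  have hcond := congrArg (fun m : pullback f (Spec.map (CommRingCat.ofHom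
      (algebraMap A (AdicCompletion (maximalIdeal A) A)))) ⟶ Spec (CommRingCat.of A) =>
      (m : Scheme.Hom _ _).base q) (pullback.condition (f := f) (g := Spec.map (CommRingCat.ofHom
      (algebraMap A (AdicCompletion (maximalIdeal A) A)))))
  have hcond' : (Spec.map (CommRingCat.ofHom
      (algebraMap A (AdicCompletion (maximalIdeal A) A)))).base
      ((pullback.snd f (Spec.map (CommRingCat.ofHom
      (algebraMap A (AdicCompletion (maximalIdeal A) A))))).base q) = closedPoint A :=
    hcond.symm.trans hq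
  have hmax : maximalIdeal A = Ideal.comap (algebraMap A (AdicCompletion (maximalIdeal A) A))
      ((pullback.snd f (Spec.map (CommRingCat.ofHom
      (algebraMap A (AdicCompletion (maximalIdeal A) A))))).base q).asIdeal := by
    have := congrArg PrimeSpectrum.asIdeal hcond'
    exact this.symm
  rw [Ideal.map_le_iff_le_comap]
  intro x hx
  rw [Ideal.mem_comap]
  have e : algebraMap A (Γ(X, U) ⊗[A] AdicCompletion (maximalIdeal A) A) x =
      (Algebra.TensorProduct.includeRight :
        AdicCompletion (maximalIdeal A) A →ₐ[A] Γ(X, U) ⊗[A] AdicCompletion (maximalIdeal A) A)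
        (algebraMap A (AdicCompletion (maximalIdeal A) A) x) :=
    (AlgHom.commutes _ x).symm
  rw [e]
  have h1 : algebraMap A (AdicCompletion (maximalIdeal A) A) x ∈
      ((pullback.snd f (Spec.map (CommRingCat.ofHom
      (algebraMap A (AdicCompletion (maximalIdeal A) A))))).base q).asIdeal := by
    rw [hmax] at hx
    exact hx
  rw [← hq₂] at h1
  exact h1

end Groth.Agent.H9.CplStalk
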