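import Mathlib
import Groth.Agent.Lib.Helper9.Misc.CplStalkC
import Groth.Agent.S0543

open CategoryTheory CategoryTheory.Limits AlgebraicGeometry TensorProduct IsLocalRing

universe u

namespace Groth.Agent.H9.CplStalk

theorem regular_iff {B D : Type*} [CommRing B] [CommRing D] [IsLocalRing B] [IsLocalRing D]
    [IsNoetherianRing B] [IsNoetherianRing D] (φ : B →+* D) [IsLocalHom φ] (hflat : φ.Flat)
    (h1 : GoodL 1 φ) (h2 : GoodL 2 φ) : IsRegularLocalRing D ↔ IsRegularLocalRing B := by
  have hmap_le : (maximalIdeal B).map φ ≤ maximalIdeal D := by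
    rw [Ideal.map_le_iff_le_comap, IsLocalRing.maximalIdeal_comap φ]
  have hmD : maximalIdeal D = (maximalIdeal B).map φ := by
    refine le_antisymm ?_ hmap_le
    refine Submodule.le_of_le_smul_of_le_jacobson_bot (I := maximalIdeal D)
      (IsNoetherian.noetherian _) (IsLocalRing.jacobson_eq_maximalIdeal ⊥ bot_ne_top).ge ?_
    intro d hd
    obtain ⟨b, hb⟩ := h2.2 d
    have hφb : φ b ∈ maximalIdeal D := by
      have : φ b = d - (d - φ b) := by ring
      rw [this]
      exact Ideal.sub_mem _ hd (Ideal.pow_le_self two_ne_zero hb)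
    have hbm : b ∈ maximalIdeal B := by
      have := h1.1 b (by simpa using hφb)
      simpa using this
    have : d = φ b + (d - φ b) := by ring
    rw [this]
    refine Submodule.add_mem_sup (Ideal.mem_map_of_mem _ hbm) ?_
    rw [smul_eq_mul, ← pow_two]
    exact hb
  have hdim : ringKrullDim D = ringKrullDim B := by
    algebraize [φ]
    haveI : (maximalIdeal D).LiesOver (maximalIdeal B) :=
      ⟨(IsLocalRing.maximalIdeal_comap φ).symm⟩
    have h := Ideal.height_eq_height_add_of_liesOver_of_hasGoingDown (maximalIdeal B)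
      (maximalIdeal D)
    have hz : ((maximalIdeal D).map (Ideal.Quotient.mk
        ((maximalIdeal B).map (algebraMap B D)))).height = 0 := by
      have : (maximalIdeal B).map (algebraMap B D) = maximalIdeal D := hmD.symm
      rw [this, Ideal.map_quotient_self]
      exact Ideal.height_bot
    rw [hz, add_zero] at h
    rw [← IsLocalRing.maximalIdeal_height_eq_ringKrullDim,
      ← IsLocalRing.maximalIdeal_height_eq_ringKrullDim, h]
  have hle1 : (maximalIdeal D).spanFinrank ≤ (maximalIdeal B).spanFinrank := by
    rw [hmD]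
    exact Ideal.spanFinrank_map_le_of_fg φ (IsNoetherian.noetherian _)
  have hle2 : (maximalIdeal B).spanFinrank ≤ (maximalIdeal D).spanFinrank := by
    classical
    obtain ⟨S, hScard, hSspan⟩ := Submodule.FG.exists_span_finset_card_eq_spanFinrank
      (p := maximalIdeal D) (IsNoetherian.noetherian _)
    have hS : ∀ d ∈ S, ∃ b : B, d - φ b ∈ maximalIdeal D ^ 2 := fun d _ => h2.2 d
    choose! g hg using hS
    let J : Ideal B := Ideal.span (g '' (S : Set D))
    have hgm : ∀ d ∈ S, g d ∈ maximalIdeal B := by
      intro d hd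
      have hdm : d ∈ maximalIdeal D := by
        rw [← hSspan]
        exact Submodule.subset_span hd
      have hφ : φ (g d) ∈ maximalIdeal D := by
        have : φ (g d) = d - (d - φ (g d)) := by ring
        rw [this]
        exact Ideal.sub_mem _ hdm (Ideal.pow_le_self two_ne_zero (hg d hd))
      have := h1.1 (g d) (by simpa using hφ)
      simpa using this
    have hJm : J ≤ maximalIdeal B :=
      Ideal.span_le.mpr (by rintro _ ⟨d, hd, rfl⟩; exact hgm d hd)
    have happrox : ∀ d ∈ Submodule.span D (S : Set D),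
        ∃ b' ∈ J, d - φ b' ∈ maximalIdeal D ^ 2 := by
      intro d hd
      induction hd using Submodule.span_induction with
      | mem x hx => exact ⟨g x, Ideal.subset_span ⟨x, hx, rfl⟩, hg x hx⟩
      | zero => exact ⟨0, J.zero_mem, by simp⟩
      | add x y _ _ hx hy =>
        obtain ⟨bx, hbx, hx'⟩ := hx
        obtain ⟨by', hby, hy'⟩ := hy
        refine ⟨bx + by', J.add_mem hbx hby, ?_⟩
        have : x + y - φ (bx + by') = (x - φ bx) + (y - φ by') := by
          rw [map_add]; ring
        rw [this]
        exact Ideal.add_mem _ hx' hy'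
      | smul γ x _ hx =>
        obtain ⟨bx, hbx, hx'⟩ := hx
        obtain ⟨β, hβ⟩ := h1.2 γ
        refine ⟨β * bx, J.mul_mem_left _ hbx, ?_⟩
        have hφbx : φ bx ∈ maximalIdeal D := hmap_le (Ideal.mem_map_of_mem _ (hJm hbx))
        have hε : γ - φ β ∈ maximalIdeal D := by simpa using hβ
        have : γ • x - φ (β * bx) = γ * (x - φ bx) + (γ - φ β) * φ bx := by
          rw [map_mul, smul_eq_mul]; ring
        rw [this]
        refine Ideal.add_mem _ (Ideal.mul_mem_left _ _ hx') ?_
        rw [pow_two]
        exact Ideal.mul_mem_mul hε hφbx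
    have hmB : maximalIdeal B ≤ J := by
      refine Submodule.le_of_le_smul_of_le_jacobson_bot (I := maximalIdeal B)
        (IsNoetherian.noetherian _) (IsLocalRing.jacobson_eq_maximalIdeal ⊥ bot_ne_top).ge ?_
      intro b hb
      have hφb : φ b ∈ Submodule.span D (S : Set D) := by
        rw [hSspan]
        exact hmap_le (Ideal.mem_map_of_mem _ hb)
      obtain ⟨b', hb'J, hb'⟩ := happrox (φ b) hφb
      have h3 : b - b' ∈ maximalIdeal B ^ 2 := h2.1 _ (by rw [map_sub]; exact hb')
      have : b = b' + (b - b') := by ring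
      rw [this]
      refine Submodule.add_mem_sup hb'J ?_
      rw [smul_eq_mul, ← pow_two]
      exact h3
    have hJeq : J = maximalIdeal B := le_antisymm hJm hmB
    calc (maximalIdeal B).spanFinrank = J.spanFinrank := by rw [hJeq]
      _ ≤ (g '' (S : Set D)).ncard :=
        Submodule.spanFinrank_span_le_ncard_of_finite ((S.finite_toSet).image g)
      _ ≤ (S : Set D).ncard := Set.ncard_image_le S.finite_toSet
      _ = S.card := Set.ncard_coe_finset S
      _ = (maximalIdeal D).spanFinrank := hScard
  have hsf : (maximalIdeal D).spanFinrank = (maximalIdeal B).spanFinrank :=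
    le_antisymm hle1 hle2
  rw [isRegularLocalRing_iff, isRegularLocalRing_iff, hsf, hdim]

theorem main1598 (A : Type u) [CommRing A] [IsLocalRing A] [IsNoetherianRing A]
    (X : Scheme.{u}) (f : X ⟶ Spec (CommRingCat.of A)) [LocallyOfFiniteType f]
    (y : ↥(pullback f (Spec.map (CommRingCat.ofHom
      (algebraMap A (AdicCompletion (maximalIdeal A) A))))))
    (hy : (pullback.snd f (Spec.map (CommRingCat.ofHom
      (algebraMap A (AdicCompletion (maximalIdeal A) A))))).base y =
        closedPoint (AdicCompletion (maximalIdeal A) A)) :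
    IsRegularLocalRing ((pullback f (Spec.map (CommRingCat.ofHom
      (algebraMap A (AdicCompletion (maximalIdeal A) A))))).presheaf.stalk y) ↔
    IsRegularLocalRing (X.presheaf.stalk ((pullback.fst f (Spec.map (CommRingCat.ofHom
      (algebraMap A (AdicCompletion (maximalIdeal A) A))))).base y)) := by
  obtain ⟨U, hU, hpU, -⟩ := (TopologicalSpace.Opens.isBasis_iff_nbhd.mp X.isBasis_affineOpens)
    (show (pullback.fst f (Spec.map (CommRingCat.ofHom
      (algebraMap A (AdicCompletion (maximalIdeal A) A))))).base y ∈ (⊤ : X.Opens) from trivial)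
  obtain ⟨ψ, hψ, hrest⟩ := chart (A' := AdicCompletion (maximalIdeal A) A) f y U hU hpU
  let _ := ψ.toAlgebra
  obtain ⟨q₂, hq₂, ⟨iso⟩⟩ := hrest
  have hft : Algebra.FiniteType A Γ(X, U) := by
    have : LocallyOfFiniteType (Spec.map (CommRingCat.ofHom ψ)) := by
      rw [hψ]
      infer_instance
    exact (HasRingHomProperty.Spec_iff (P := @LocallyOfFiniteType)).mp this
  haveI : IsNoetherianRing Γ(X, U) := Algebra.FiniteType.isNoetherianRing A _
  haveI : IsNoetherianRing (AdicCompletion (maximalIdeal A) A) := Groth.Agent.S0543.result A _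
  haveI : IsNoetherianRing (Γ(X, U) ⊗[A] AdicCompletion (maximalIdeal A) A) := by
    haveI : IsNoetherianRing (AdicCompletion (maximalIdeal A) A ⊗[A] Γ(X, U)) :=
      Algebra.FiniteType.isNoetherianRing (AdicCompletion (maximalIdeal A) A) _
    exact isNoetherianRing_of_ringEquiv _
      (Algebra.TensorProduct.comm A (AdicCompletion (maximalIdeal A) A) Γ(X, U)).toRingEquiv
  -- the prime contains the maximal ideal
  have hle : (maximalIdeal A).map
      (algebraMap A (Γ(X, U) ⊗[A] AdicCompletion (maximalIdeal A) A)) ≤ q₂.asIdeal := by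
    rw [Ideal.map_le_iff_le_comap]
    intro x hx
    rw [Ideal.mem_comap]
    have e : algebraMap A (Γ(X, U) ⊗[A] AdicCompletion (maximalIdeal A) A) x =
        (Algebra.TensorProduct.includeRight :
          AdicCompletion (maximalIdeal A) A →ₐ[A]
            Γ(X, U) ⊗[A] AdicCompletion (maximalIdeal A) A)
          (algebraMap A (AdicCompletion (maximalIdeal A) A) x) :=
      (AlgHom.commutes _ x).symm
    rw [e]
    have h1 : algebraMap A (AdicCompletion (maximalIdeal A) A) x ∈
        ((pullback.snd f (Spec.map (CommRingCat.ofHom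
        (algebraMap A (AdicCompletion (maximalIdeal A) A))))).base y).asIdeal := by
      rw [hy]
      show _ ∈ maximalIdeal (AdicCompletion (maximalIdeal A) A)
      rw [AdicCompletion.maximalIdeal_eq_map]
      exact Ideal.mem_map_of_mem _ hx
    rw [← hq₂] at h1
    exact h1
  have hfg : (maximalIdeal A).FG := IsNoetherian.noetherian _
  -- the local homomorphism
  have hflat : (Localization.localRingHom
      (q₂.comap (Algebra.TensorProduct.includeLeftRingHom :
        Γ(X, U) →+* Γ(X, U) ⊗[A] AdicCompletion (maximalIdeal A) A)).asIdeal q₂.asIdeal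
      (Algebra.TensorProduct.includeLeftRingHom :
        Γ(X, U) →+* Γ(X, U) ⊗[A] AdicCompletion (maximalIdeal A) A) rfl).Flat := by
    refine RingHom.Flat.localRingHom ?_ _ _ rfl
    have : Module.Flat Γ(X, U) (Γ(X, U) ⊗[A] AdicCompletion (maximalIdeal A) A) :=
      inferInstance
    exact RingHom.flat_algebraMap_iff.mpr this
  haveI := Localization.isLocalHom_localRingHom
      (q₂.comap (Algebra.TensorProduct.includeLeftRingHom :
        Γ(X, U) →+* Γ(X, U) ⊗[A] AdicCompletion (maximalIdeal A) A)).asIdeal q₂.asIdeal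
      (Algebra.TensorProduct.includeLeftRingHom :
        Γ(X, U) →+* Γ(X, U) ⊗[A] AdicCompletion (maximalIdeal A) A) rfl
  have key := regular_iff _ hflat
    (tensor_goodL (maximalIdeal A) hfg Γ(X, U) q₂.asIdeal _ rfl hle 1 le_rfl)
    (tensor_goodL (maximalIdeal A) hfg Γ(X, U) q₂.asIdeal _ rfl hle 2 (by norm_num))
  let eB : X.presheaf.stalk ((pullback.fst f (Spec.map (CommRingCat.ofHom
      (algebraMap A (AdicCompletion (maximalIdeal A) A))))).base y) ≃+*
      Localization.AtPrime (q₂.comap (Algebra.TensorProduct.includeLeftRingHom :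
        Γ(X, U) →+* Γ(X, U) ⊗[A] AdicCompletion (maximalIdeal A) A)).asIdeal :=
    (Arrow.leftFunc.mapIso iso).commRingCatIsoToRingEquiv
  let eC : (pullback f (Spec.map (CommRingCat.ofHom
      (algebraMap A (AdicCompletion (maximalIdeal A) A))))).presheaf.stalk y ≃+*
      Localization.AtPrime q₂.asIdeal :=
    (Arrow.rightFunc.mapIso iso).commRingCatIsoToRingEquiv
  constructor
  · intro h
    have h2 : IsRegularLocalRing (Localization.AtPrime q₂.asIdeal) :=
      @IsRegularLocalRing.of_ringEquiv _ _ h _ _ eC
    have h3 := key.mp h2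
    exact @IsRegularLocalRing.of_ringEquiv _ _ h3 _ _ eB.symm
  · intro h
    have h2 := @IsRegularLocalRing.of_ringEquiv _ _ h _ _ eB
    have h3 := key.mpr h2
    exact @IsRegularLocalRing.of_ringEquiv _ _ h3 _ _ eC.symm

end Groth.Agent.H9.CplStalk
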