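import Mathlib

/-! Helper9: generic lemmas for rank-2 algebras: discriminant of a basis (1,y), AdjoinRoot (X²-c). -/

set_option autoImplicit false
set_option linter.unusedSectionVars false
set_option linter.unusedVariables false

namespace Groth.Agent.H9.Crimp2

open Module

section Discr

variable {R A : Type*} [CommRing R] [CommRing A] [Algebra R A]

theorem discr_two (b : Basis (Fin 2) R A) (p q : R) (h0 : b 0 = 1)
    (hy : b 1 * b 1 = p • b 1 + q • (1 : A)) :
    Algebra.discr R b = p ^ 2 + 4 * q := by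
  classical
  have hM : Algebra.leftMulMatrix b (b 1) = !![0, q; 1, p] := by
    ext i j
    rw [Algebra.leftMulMatrix_eq_repr_mul]
    fin_cases j
    · have h : b 1 * b 0 = b 1 := by rw [h0, mul_one]
      show b.repr (b 1 * b 0) i = _
      rw [h, Basis.repr_self]
      fin_cases i <;> simp
    · have h : b 1 * b 1 = p • b 1 + q • b 0 := by rw [h0]; exact hy
      show b.repr (b 1 * b 1) i = _
      rw [h, map_add, map_smul, map_smul, Basis.repr_self, Basis.repr_self]
      fin_cases i <;> simp
  have htr : ∀ x, Algebra.trace R A x = Matrix.trace (Algebra.leftMulMatrix b x) :=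
    fun x => Algebra.trace_eq_matrix_trace b x
  have t1 : Algebra.trace R A (1 : A) = 2 := by
    rw [htr, map_one, Matrix.trace_one]; simp
  have t2 : Algebra.trace R A (b 1) = p := by
    rw [htr, hM, Matrix.trace_fin_two]; simp
  have t3 : Algebra.trace R A (b 1 * b 1) = p ^ 2 + 2 * q := by
    rw [htr, map_mul, hM, Matrix.trace_fin_two]
    simp [Matrix.mul_apply, Fin.sum_univ_two]
    ring
  rw [Algebra.discr_def, Matrix.det_fin_two]
  simp only [Algebra.traceMatrix_apply, Algebra.traceForm_apply, h0, one_mul, mul_one, t1, t2, t3]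
  ring

theorem span_discr_eq {ι : Type*} [Fintype ι] [DecidableEq ι] (b₁ b₂ : Basis ι R A) :
    Ideal.span {Algebra.discr R b₁} = Ideal.span {Algebra.discr R b₂} := by
  have h := Algebra.discr_of_matrix_vecMul (A := R) (⇑b₂) (b₂.toMatrix b₁)
  rw [Basis.toMatrix_map_vecMul] at h
  rw [h]
  have hu : IsUnit ((b₂.toMatrix b₁).det) := by
    rw [← Basis.det_apply]; exact b₂.isUnit_det b₁
  exact Ideal.span_singleton_mul_left_unit (hu.pow 2) _

end Discr

section Adj

variable {R : Type*} [CommRing R] [Nontrivial R]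

theorem adj_monic (c : R) : (Polynomial.X ^ 2 - Polynomial.C c : Polynomial R).Monic :=
  Polynomial.monic_X_pow_sub_C c (by norm_num)

theorem adj_natDegree (c : R) :
    (Polynomial.X ^ 2 - Polynomial.C c : Polynomial R).natDegree = 2 :=
  Polynomial.natDegree_X_pow_sub_C

theorem adj_repr (c : R) (u : AdjoinRoot (Polynomial.X ^ 2 - Polynomial.C c : Polynomial R)) :
    ∃ a b : R, u = a • (1 : AdjoinRoot (Polynomial.X ^ 2 - Polynomial.C c : Polynomial R)) +
      b • AdjoinRoot.root (Polynomial.X ^ 2 - Polynomial.C c : Polynomial R) := by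
  obtain ⟨f, rfl⟩ := AdjoinRoot.mk_surjective u
  obtain ⟨g, hg⟩ : ∃ g : Polynomial R, g = Polynomial.X ^ 2 - Polynomial.C c := ⟨_, rfl⟩
  rw [← hg]
  have hm : g.Monic := hg ▸ adj_monic c
  have hnd : g.natDegree = 2 := hg ▸ adj_natDegree c
  have hne1 : g ≠ 1 := by
    intro h
    rw [h, Polynomial.natDegree_one] at hnd
    exact absurd hnd (by norm_num)
  have hdeg : (f %ₘ g).natDegree ≤ 1 := by
    have := Polynomial.natDegree_modByMonic_lt f hm hne1
    omega
  obtain ⟨r, hr⟩ : ∃ r : Polynomial R, r = f %ₘ g := ⟨_, rfl⟩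
  rw [← hr] at hdeg
  have hr' := Polynomial.eq_X_add_C_of_natDegree_le_one hdeg
  have hmk : AdjoinRoot.mk g f = AdjoinRoot.mk g r := by
    rw [AdjoinRoot.mk_eq_mk]
    refine ⟨f /ₘ g, ?_⟩
    have := Polynomial.modByMonic_add_div f g
    rw [hr]
    linear_combination (-1 : Polynomial R) * this
  refine ⟨r.coeff 0, r.coeff 1, ?_⟩
  rw [hmk]
  conv_lhs => rw [hr']
  simp only [map_add, map_mul, AdjoinRoot.mk_C, AdjoinRoot.mk_X, Algebra.smul_def,
    AdjoinRoot.algebraMap_eq, mul_one]
  ring

theorem adj_indep (c a b : R)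
    (h : a • (1 : AdjoinRoot (Polynomial.X ^ 2 - Polynomial.C c : Polynomial R)) +
      b • AdjoinRoot.root (Polynomial.X ^ 2 - Polynomial.C c : Polynomial R) = 0) :
    a = 0 ∧ b = 0 := by
  have h1 : AdjoinRoot.mk (Polynomial.X ^ 2 - Polynomial.C c : Polynomial R)
      (Polynomial.C b * Polynomial.X + Polynomial.C a) = 0 := by
    rw [← h]
    simp only [map_add, map_mul, AdjoinRoot.mk_C, AdjoinRoot.mk_X, Algebra.smul_def,
      AdjoinRoot.algebraMap_eq, mul_one]
    ring
  rw [AdjoinRoot.mk_eq_zero] at h1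
  have h2 : Polynomial.C b * Polynomial.X + Polynomial.C a = 0 := by
    by_contra hne
    refine (adj_monic c).not_dvd_of_natDegree_lt hne ?_ h1
    rw [adj_natDegree c]
    exact lt_of_le_of_lt (Polynomial.natDegree_linear_le) (by norm_num)
  have e0 := congrArg (fun p => Polynomial.coeff p 0) h2
  have e1 := congrArg (fun p => Polynomial.coeff p 1) h2
  simp at e0 e1
  exact ⟨e0, e1⟩

theorem root_sq (c : R) :
    AdjoinRoot.root (Polynomial.X ^ 2 - Polynomial.C c : Polynomial R) *
      AdjoinRoot.root (Polynomial.X ^ 2 - Polynomial.C c : Polynomial R) =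
      c • (1 : AdjoinRoot (Polynomial.X ^ 2 - Polynomial.C c : Polynomial R)) := by
  have := AdjoinRoot.mk_self (f := (Polynomial.X ^ 2 - Polynomial.C c : Polynomial R))
  simp only [map_sub, map_pow, AdjoinRoot.mk_X, AdjoinRoot.mk_C] at this
  rw [Algebra.smul_def, AdjoinRoot.algebraMap_eq, mul_one]
  linear_combination this

noncomputable def adjBasis (c : R) :
    Basis (Fin 2) R (AdjoinRoot (Polynomial.X ^ 2 - Polynomial.C c : Polynomial R)) :=
  Basis.mk (v := ![1, AdjoinRoot.root _])
    (LinearIndependent.pair_iff.2 (fun a b h => adj_indep c a b h))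
    (by
      intro u _
      obtain ⟨a, b, rfl⟩ := adj_repr c u
      rw [Submodule.mem_span_range_iff_exists_fun]
      exact ⟨![a, b], by simp [Fin.sum_univ_two]⟩)

theorem adjBasis_zero (c : R) : adjBasis c 0 = 1 := by
  rw [adjBasis, Basis.mk_apply]; rfl

theorem adjBasis_one (c : R) : adjBasis c 1 = AdjoinRoot.root _ := by
  rw [adjBasis, Basis.mk_apply]; rfl

theorem algEquiv_adjoinRoot {A : Type*} [CommRing A] [Algebra R A] (S : Subalgebra R A)
    (c : R) (w : A) (hw : w * w = c • (1 : A))
    (hspan : Subalgebra.toSubmodule S = Submodule.span R {1, w})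
    (hind : ∀ a b : R, a • (1 : A) + b • w = 0 → a = 0 ∧ b = 0) :
    Nonempty (S ≃ₐ[R] AdjoinRoot (Polynomial.X ^ 2 - Polynomial.C c : Polynomial R)) := by
  have hev : Polynomial.eval₂ (Algebra.ofId R A : R →+* A) w
      (Polynomial.X ^ 2 - Polynomial.C c : Polynomial R) = 0 := by
    rw [Polynomial.eval₂_sub, Polynomial.eval₂_pow, Polynomial.eval₂_X, Polynomial.eval₂_C,
      pow_two, hw, Algebra.smul_def, mul_one]
    simp
  let φ : AdjoinRoot (Polynomial.X ^ 2 - Polynomial.C c : Polynomial R) →ₐ[R] A :=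
    AdjoinRoot.liftAlgHom _ (Algebra.ofId R A) w hev
  have hφ : ∀ a b : R, φ (a • 1 + b • AdjoinRoot.root _) = a • 1 + b • w := by
    intro a b
    rw [map_add, map_smul, map_smul, map_one, AdjoinRoot.liftAlgHom_root]
  have hinj : Function.Injective φ := by
    rw [injective_iff_map_eq_zero]
    intro u hu
    obtain ⟨a, b, rfl⟩ := adj_repr c u
    rw [hφ] at hu
    obtain ⟨rfl, rfl⟩ := hind a b hu
    simp
  have hrange : φ.range = S := by
    apply Subalgebra.toSubmodule_injective
    rw [hspan]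
    apply le_antisymm
    · intro x hx
      rw [Subalgebra.mem_toSubmodule, AlgHom.mem_range] at hx
      obtain ⟨u, rfl⟩ := hx
      obtain ⟨a, b, rfl⟩ := adj_repr c u
      rw [hφ]
      exact Submodule.add_mem _ (Submodule.smul_mem _ _ (Submodule.subset_span (by simp)))
        (Submodule.smul_mem _ _ (Submodule.subset_span (by simp)))
    · rw [Submodule.span_le]
      rintro x (rfl | rfl)
      · exact (Subalgebra.mem_toSubmodule _).2 (Subalgebra.one_mem _)
      · rw [SetLike.mem_coe, Subalgebra.mem_toSubmodule, AlgHom.mem_range]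
        exact ⟨AdjoinRoot.root _, AdjoinRoot.liftAlgHom_root _ _ _ _⟩
  exact ⟨((AlgEquiv.ofInjective φ hinj).trans (Subalgebra.equivOfEq _ _ hrange)).symm⟩

end Adj

end Groth.Agent.H9.Crimp2
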