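import Mathlib
import Groth.Agent.Lib.Helper9.Misc.Crimp2A

/-! Helper9: crimps of rank-2 algebras over k⟦t⟧ with basis (1,z), z² = t^ε (S13880, S13881). -/

set_option autoImplicit false
set_option linter.unusedSectionVars false
set_option linter.unusedVariables false

namespace Groth.Agent.H9.Crimp2

open Module

variable {k : Type*} [Field k]
variable {A : Type*} [CommRing A] [Algebra (PowerSeries k) A]

theorem mem_T (a : PowerSeries k) (w : A) :
    w ∈ Ideal.span {a} • (⊤ : Submodule (PowerSeries k) A) ↔ ∃ u : A, w = a • u := by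
  rw [Submodule.ideal_span_singleton_smul, Submodule.mem_smul_pointwise_iff_exists]
  constructor
  · rintro ⟨u, -, rfl⟩; exact ⟨u, rfl⟩
  · rintro ⟨u, rfl⟩; exact ⟨u, Submodule.mem_top, rfl⟩

theorem decomp (bA : Basis (Fin 2) (PowerSeries k) A) (h0 : bA 0 = 1) (x : A) :
    x = bA.repr x 0 • (1 : A) + bA.repr x 1 • bA 1 := by
  conv_lhs => rw [← bA.sum_repr x, Fin.sum_univ_two, h0]

theorem coord_indep (bA : Basis (Fin 2) (PowerSeries k) A) (h0 : bA 0 = 1)
    (a d : PowerSeries k) (h : a • (1 : A) + d • bA 1 = 0) : a = 0 ∧ d = 0 := by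
  have hli := Fintype.linearIndependent_iff.1 bA.linearIndependent ![a, d]
    (by rw [Fin.sum_univ_two]; simpa [h0] using h)
  exact ⟨by simpa using hli 0, by simpa using hli 1⟩

theorem structure_lemma (bA : Basis (Fin 2) (PowerSeries k) A) (h0 : bA 0 = 1)
    (S : Submodule (PowerSeries k) A) (h1 : (1 : A) ∈ S)
    (hne : ∃ s ∈ S, bA.repr s 1 ≠ 0) :
    ∃ n : ℕ, S = Submodule.span (PowerSeries k) {(1 : A)} ⊔
      Ideal.span {(PowerSeries.X : PowerSeries k) ^ n} • (⊤ : Submodule (PowerSeries k) A) := by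
  obtain ⟨I, hI⟩ : ∃ I : Ideal (PowerSeries k), I = S.map (bA.coord 1) := ⟨_, rfl⟩
  have hIne : I ≠ ⊥ := by
    obtain ⟨s, hs, hs1⟩ := hne
    intro hbot
    have : bA.coord 1 s ∈ I := by rw [hI]; exact Submodule.mem_map_of_mem hs
    rw [hbot, Ideal.mem_bot, Basis.coord_apply] at this
    exact hs1 this
  obtain ⟨n, hn⟩ := IsDiscreteValuationRing.ideal_eq_span_pow_irreducible hIne
    (PowerSeries.X_irreducible (R := k))
  have hz : (PowerSeries.X : PowerSeries k) ^ n • bA 1 ∈ S := by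
    have : (PowerSeries.X : PowerSeries k) ^ n ∈ I := by
      rw [hn]; exact Ideal.mem_span_singleton_self _
    rw [hI, Submodule.mem_map] at this
    obtain ⟨s, hs, hs1⟩ := this
    rw [Basis.coord_apply] at hs1
    have hdec := decomp bA h0 s
    rw [hs1] at hdec
    have h2 : (PowerSeries.X : PowerSeries k) ^ n • bA 1 = s - bA.repr s 0 • (1 : A) := by
      rw [eq_sub_iff_add_eq, add_comm]; exact hdec.symm
    rw [h2]
    exact S.sub_mem hs (S.smul_mem _ h1)
  refine ⟨n, le_antisymm ?_ ?_⟩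
  · intro s hs
    have : bA.coord 1 s ∈ I := by rw [hI]; exact Submodule.mem_map_of_mem hs
    rw [hn, Ideal.mem_span_singleton, Basis.coord_apply] at this
    obtain ⟨d, hd⟩ := this
    have hdec := decomp bA h0 s
    rw [hd] at hdec
    rw [hdec]
    refine Submodule.add_mem_sup (Submodule.smul_mem _ _ (Submodule.subset_span rfl))
      ((mem_T _ _).2 ⟨d • bA 1, ?_⟩)
    rw [smul_smul]
  · refine sup_le ((Submodule.span_singleton_le_iff_mem _ _).2 h1) ?_
    intro w hw
    obtain ⟨u, rfl⟩ := (mem_T _ _).1 hw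
    obtain ⟨a, d, hu⟩ : ∃ a d : PowerSeries k, u = a • (1 : A) + d • bA 1 :=
      ⟨_, _, decomp bA h0 u⟩
    rw [hu]
    have : (PowerSeries.X : PowerSeries k) ^ n • (a • (1 : A) + d • bA 1) =
        ((PowerSeries.X : PowerSeries k) ^ n * a) • (1 : A) +
          d • ((PowerSeries.X : PowerSeries k) ^ n • bA 1) := by
      rw [smul_add, smul_smul, smul_comm]
    rw [this]
    exact S.add_mem (S.smul_mem _ h1) (S.smul_mem _ hz)

theorem hne_of_basis (bA : Basis (Fin 2) (PowerSeries k) A) (h0 : bA 0 = 1)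
    (S : Subalgebra (PowerSeries k) A) (bS : Basis (Fin 2) (PowerSeries k) S) :
    ∃ s ∈ Subalgebra.toSubmodule S, bA.repr s 1 ≠ 0 := by
  by_contra hcon
  push Not at hcon
  have hs : ∀ s : S, ∃ a : PowerSeries k, (s : A) = a • (1 : A) := by
    intro s
    have := decomp bA h0 (s : A)
    rw [hcon _ ((Subalgebra.mem_toSubmodule _).2 s.2), zero_smul, add_zero] at this
    exact ⟨_, this⟩
  obtain ⟨a0, ha0⟩ := hs (bS 0)
  obtain ⟨a1, ha1⟩ := hs (bS 1)
  have hrel : a1 • bS 0 + (-a0) • bS 1 = 0 := by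
    apply Subtype.ext
    rw [Subalgebra.coe_add, Subalgebra.coe_smul, Subalgebra.coe_smul, ha0, ha1,
      Subalgebra.coe_zero, smul_smul, smul_smul, ← add_smul]
    rw [show a1 * a0 + -a0 * a1 = 0 by ring, zero_smul]
  have hli := Fintype.linearIndependent_iff.1 bS.linearIndependent ![a1, -a0]
    (by rw [Fin.sum_univ_two]; simpa using hrel)
  have ha1z : a1 = 0 := by simpa using hli 0
  have : bS 1 = 0 := by
    apply Subtype.ext
    rw [ha1, ha1z, zero_smul, Subalgebra.coe_zero]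
  exact bS.ne_zero 1 this

theorem exists_basis (bA : Basis (Fin 2) (PowerSeries k) A) (h0 : bA 0 = 1)
    (Q : PowerSeries k) (hz : bA 1 * bA 1 = Q • (1 : A))
    (S : Subalgebra (PowerSeries k) A) (n : ℕ)
    (hS : Subalgebra.toSubmodule S = Submodule.span (PowerSeries k) {(1 : A)} ⊔
      Ideal.span {(PowerSeries.X : PowerSeries k) ^ n} • (⊤ : Submodule (PowerSeries k) A)) :
    ∃ b₀ : Basis (Fin 2) (PowerSeries k) S,
      Algebra.discr (PowerSeries k) b₀ = 4 * ((PowerSeries.X : PowerSeries k) ^ (2 * n) * Q) := by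
  have hyS : (PowerSeries.X : PowerSeries k) ^ n • bA 1 ∈ S := by
    rw [← Subalgebra.mem_toSubmodule, hS]
    exact Submodule.mem_sup_right ((mem_T _ _).2 ⟨_, rfl⟩)
  obtain ⟨y, hy⟩ : ∃ y : S, (y : A) = (PowerSeries.X : PowerSeries k) ^ n • bA 1 :=
    ⟨⟨_, hyS⟩, rfl⟩
  have hli : LinearIndependent (PowerSeries k) ![(1 : S), y] := by
    rw [LinearIndependent.pair_iff]
    intro a d h
    have h' : a • (1 : A) + d • ((PowerSeries.X : PowerSeries k) ^ n • bA 1) = 0 := by
      have := congrArg (fun s : S => (s : A)) h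
      simpa [hy] using this
    obtain ⟨ha, hd⟩ := coord_indep bA h0 a (d * (PowerSeries.X : PowerSeries k) ^ n)
      (by rw [mul_smul]; exact h')
    exact ⟨ha, (mul_eq_zero.1 hd).resolve_right (pow_ne_zero _ PowerSeries.X_ne_zero)⟩
  have hsp : ⊤ ≤ Submodule.span (PowerSeries k) (Set.range ![(1 : S), y]) := by
    intro s _
    have hs : (s : A) ∈ Subalgebra.toSubmodule S := s.2
    rw [hS, Submodule.mem_sup] at hs
    obtain ⟨x1, hx1, x2, hx2, hsum⟩ := hs
    obtain ⟨a, rfl⟩ := Submodule.mem_span_singleton.1 hx1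
    obtain ⟨u, rfl⟩ := (mem_T _ _).1 hx2
    obtain ⟨a', d', hu⟩ : ∃ a' d' : PowerSeries k, u = a' • (1 : A) + d' • bA 1 :=
      ⟨_, _, decomp bA h0 u⟩
    rw [Submodule.mem_span_range_iff_exists_fun]
    refine ⟨![a + (PowerSeries.X : PowerSeries k) ^ n * a', d'], ?_⟩
    apply Subtype.ext
    rw [Fin.sum_univ_two, ← hsum, hu]
    simp only [Matrix.cons_val_zero, Matrix.cons_val_one, Subalgebra.coe_add,
      Subalgebra.coe_smul, Subalgebra.coe_one, hy]
    rw [add_smul, mul_smul, smul_add, smul_comm ((PowerSeries.X : PowerSeries k) ^ n) d',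
      add_assoc]
  obtain ⟨b₀, hb₀⟩ : ∃ b₀ : Basis (Fin 2) (PowerSeries k) S, b₀ = Basis.mk hli hsp := ⟨_, rfl⟩
  have e0 : b₀ 0 = 1 := by rw [hb₀, Basis.mk_apply]; rfl
  have e1 : b₀ 1 = y := by rw [hb₀, Basis.mk_apply]; rfl
  have hyy : b₀ 1 * b₀ 1 = (0 : PowerSeries k) • b₀ 1 +
      ((PowerSeries.X : PowerSeries k) ^ (2 * n) * Q) • (1 : S) := by
    rw [e1, zero_smul, zero_add]
    apply Subtype.ext
    rw [Subalgebra.coe_mul, Subalgebra.coe_smul, Subalgebra.coe_one, hy, smul_mul_smul_comm, hz,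
      smul_smul, ← pow_add, two_mul]
  refine ⟨b₀, ?_⟩
  rw [discr_two b₀ 0 _ e0 hyy]
  ring

theorem four_unit [CharZero k] : IsUnit (4 : PowerSeries k) := by
  rw [PowerSeries.isUnit_iff_constantCoeff, map_ofNat]
  exact isUnit_iff_ne_zero.2 (by norm_num)

theorem pow_eq_of_span_eq (a b : ℕ)
    (h : Ideal.span {(PowerSeries.X : PowerSeries k) ^ a} =
      Ideal.span {(PowerSeries.X : PowerSeries k) ^ b}) : a = b := by
  rw [Ideal.span_singleton_eq_span_singleton] at h
  have hX0 : (PowerSeries.X : PowerSeries k) ≠ 0 := PowerSeries.X_ne_zero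
  have hXu : ¬ IsUnit (PowerSeries.X : PowerSeries k) := (PowerSeries.X_prime (R := k)).not_isUnit
  exact le_antisymm ((pow_dvd_pow_iff hX0 hXu).1 h.dvd) ((pow_dvd_pow_iff hX0 hXu).1 h.symm.dvd)

theorem main [CharZero k] (bA : Basis (Fin 2) (PowerSeries k) A) (h0 : bA 0 = 1) (ε : ℕ)
    (hz : bA 1 * bA 1 = ((PowerSeries.X : PowerSeries k) ^ ε) • (1 : A)) (b : ℕ)
    (S : Subalgebra (PowerSeries k) A) :
    ((∃ bS : Basis (Fin 2) (PowerSeries k) S,
      Ideal.span {Algebra.discr (PowerSeries k) ⇑bS} =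
        Ideal.span {(PowerSeries.X : PowerSeries k) ^ b}) ↔
    ∃ n : ℕ, b = 2 * n + ε ∧
      Subalgebra.toSubmodule S = Submodule.span (PowerSeries k) {(1 : A)} ⊔
        Ideal.span {(PowerSeries.X : PowerSeries k) ^ n} •
          (⊤ : Submodule (PowerSeries k) A)) ∧
    (∀ n : ℕ, Subalgebra.toSubmodule S = Submodule.span (PowerSeries k) {(1 : A)} ⊔
        Ideal.span {(PowerSeries.X : PowerSeries k) ^ n} •
          (⊤ : Submodule (PowerSeries k) A) →
      Nonempty (S ≃ₐ[PowerSeries k] AdjoinRoot (Polynomial.X ^ 2 -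
        Polynomial.C ((PowerSeries.X : PowerSeries k) ^ (2 * n + ε))))) := by
  have key : ∀ n : ℕ, Subalgebra.toSubmodule S = Submodule.span (PowerSeries k) {(1 : A)} ⊔
        Ideal.span {(PowerSeries.X : PowerSeries k) ^ n} •
          (⊤ : Submodule (PowerSeries k) A) →
      ∀ bS : Basis (Fin 2) (PowerSeries k) S,
        Ideal.span {Algebra.discr (PowerSeries k) ⇑bS} =
          Ideal.span {(PowerSeries.X : PowerSeries k) ^ (2 * n + ε)} := by
    intro n hS bS
    obtain ⟨b₀, hb₀⟩ := exists_basis bA h0 _ hz S n hS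
    rw [span_discr_eq bS b₀, hb₀, ← pow_add]
    exact Ideal.span_singleton_mul_left_unit four_unit _
  refine ⟨⟨?_, ?_⟩, ?_⟩
  · rintro ⟨bS, hbS⟩
    obtain ⟨n, hn⟩ := structure_lemma bA h0 (Subalgebra.toSubmodule S)
      ((Subalgebra.mem_toSubmodule _).2 S.one_mem) (hne_of_basis bA h0 S bS)
    refine ⟨n, ?_, hn⟩
    have := key n hn bS
    rw [hbS] at this
    exact pow_eq_of_span_eq _ _ this
  · rintro ⟨n, rfl, hS⟩
    obtain ⟨b₀, hb₀⟩ := exists_basis bA h0 _ hz S n hS
    exact ⟨b₀, key n hS b₀⟩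
  · intro n hS
    apply algEquiv_adjoinRoot S ((PowerSeries.X : PowerSeries k) ^ (2 * n + ε))
      ((PowerSeries.X : PowerSeries k) ^ n • bA 1)
    · rw [smul_mul_smul_comm, hz, smul_smul, ← pow_add, ← pow_add]
      congr 2
      ring
    · rw [hS]
      apply le_antisymm
      · refine sup_le (Submodule.span_mono (by simp)) ?_
        intro w hw
        obtain ⟨u, rfl⟩ := (mem_T _ _).1 hw
        obtain ⟨a', d', hu⟩ : ∃ a' d' : PowerSeries k, u = a' • (1 : A) + d' • bA 1 :=
          ⟨_, _, decomp bA h0 u⟩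
        rw [hu]
        have : (PowerSeries.X : PowerSeries k) ^ n • (a' • (1 : A) + d' • bA 1) =
            ((PowerSeries.X : PowerSeries k) ^ n * a') • (1 : A) +
              d' • ((PowerSeries.X : PowerSeries k) ^ n • bA 1) := by
          rw [smul_add, smul_smul, smul_comm]
        rw [this]
        exact Submodule.add_mem _ (Submodule.smul_mem _ _ (Submodule.subset_span (by simp)))
          (Submodule.smul_mem _ _ (Submodule.subset_span (by simp)))
      · rw [Submodule.span_le]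
        rintro x (rfl | rfl)
        · exact Submodule.mem_sup_left (Submodule.subset_span rfl)
        · exact Submodule.mem_sup_right ((mem_T _ _).2 ⟨_, rfl⟩)
    · intro a d h
      obtain ⟨ha, hd⟩ := coord_indep bA h0 a (d * (PowerSeries.X : PowerSeries k) ^ n)
        (by rw [mul_smul]; exact h)
      exact ⟨ha, (mul_eq_zero.1 hd).resolve_right (pow_ne_zero _ PowerSeries.X_ne_zero)⟩

end Groth.Agent.H9.Crimp2
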