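import Mathlib
import Groth.Agent.Lib.Helper9.Misc.Crimp2B

/-! Helper9: S13880 (étale double cover) and S13881 (ramified double cover) crimps. -/

set_option autoImplicit false
set_option linter.unusedSectionVars false
set_option linter.unusedVariables false

namespace Groth.Agent.H9.Crimp2

open Module

variable {k : Type*} [Field k] [CharZero k]

theorem etale_main (b : ℕ) (S : Subalgebra (PowerSeries k) (Fin 2 → PowerSeries k)) :
    ((∃ bS : Module.Basis (Fin 2) (PowerSeries k) S,
      Ideal.span {Algebra.discr (PowerSeries k) ⇑bS} = Ideal.span {(PowerSeries.X : PowerSeries k) ^ b}) ↔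
    ∃ n : ℕ, b = 2 * n ∧
      Subalgebra.toSubmodule S = Submodule.span (PowerSeries k) {(1 : (Fin 2 → PowerSeries k))} ⊔
        Ideal.span {(PowerSeries.X : PowerSeries k) ^ n} • (⊤ : Submodule (PowerSeries k) (Fin 2 → PowerSeries k))) ∧
    (∀ n : ℕ, Subalgebra.toSubmodule S = Submodule.span (PowerSeries k) {(1 : (Fin 2 → PowerSeries k))} ⊔
        Ideal.span {(PowerSeries.X : PowerSeries k) ^ n} • (⊤ : Submodule (PowerSeries k) (Fin 2 → PowerSeries k)) →
      Nonempty (S ≃ₐ[PowerSeries k] AdjoinRoot (Polynomial.X ^ 2 - Polynomial.C ((PowerSeries.X : PowerSeries k) ^ (2 * n))))) := by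
  obtain ⟨i2, hi2⟩ : ∃ i2 : PowerSeries k, i2 * 2 = 1 := ⟨PowerSeries.C (2⁻¹ : k), by
    rw [show (2 : PowerSeries k) = PowerSeries.C (2 : k) from (map_ofNat _ 2).symm, ← map_mul,
      inv_mul_cancel₀ two_ne_zero, map_one]⟩
  have hli : LinearIndependent (PowerSeries k)
      ![(1 : Fin 2 → PowerSeries k), ![1, -1]] := by
    rw [LinearIndependent.pair_iff]
    intro a d h
    have e0 := congrFun h 0
    have e1 := congrFun h 1
    simp only [Pi.add_apply, Pi.smul_apply, Pi.one_apply, smul_eq_mul, mul_one,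
      Matrix.cons_val_zero, Matrix.cons_val_one, Pi.zero_apply] at e0 e1
    exact ⟨by linear_combination i2 * e0 + i2 * e1 - a * hi2,
      by linear_combination i2 * e0 - i2 * e1 - d * hi2⟩
  have hsp : ⊤ ≤ Submodule.span (PowerSeries k)
      (Set.range ![(1 : Fin 2 → PowerSeries k), ![1, -1]]) := by
    intro x _
    rw [Submodule.mem_span_range_iff_exists_fun]
    refine ⟨![i2 * (x 0 + x 1), i2 * (x 0 - x 1)], ?_⟩
    rw [Fin.sum_univ_two]
    funext i
    fin_cases i
    · simp only [Pi.add_apply, Pi.smul_apply, Pi.one_apply, smul_eq_mul, mul_one,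
        Matrix.cons_val_zero, Matrix.cons_val_one, Fin.zero_eta]
      linear_combination (x 0) * hi2
    · simp only [Pi.add_apply, Pi.smul_apply, Pi.one_apply, smul_eq_mul, mul_one,
        Matrix.cons_val_zero, Matrix.cons_val_one, Fin.mk_one]
      linear_combination (x 1) * hi2
  obtain ⟨bA, hbA⟩ : ∃ bA : Basis (Fin 2) (PowerSeries k) (Fin 2 → PowerSeries k),
      bA = Basis.mk hli hsp := ⟨_, rfl⟩
  have h0 : bA 0 = 1 := by rw [hbA, Basis.mk_apply]; rfl
  have h1 : bA 1 = ![1, -1] := by rw [hbA, Basis.mk_apply]; rfl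
  have hz : bA 1 * bA 1 = ((PowerSeries.X : PowerSeries k) ^ 0) • (1 : Fin 2 → PowerSeries k) := by
    rw [h1, pow_zero, one_smul]
    funext i
    fin_cases i <;> simp
  exact main bA h0 0 hz b S

theorem ramified_main (b : ℕ)
    (S : Subalgebra (PowerSeries k) (AdjoinRoot (Polynomial.X ^ 2 - Polynomial.C (PowerSeries.X : PowerSeries k)))) :
    ((∃ bS : Module.Basis (Fin 2) (PowerSeries k) S,
      Ideal.span {Algebra.discr (PowerSeries k) ⇑bS} = Ideal.span {(PowerSeries.X : PowerSeries k) ^ b}) ↔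
    ∃ n : ℕ, b = 2 * n + 1 ∧
      Subalgebra.toSubmodule S = Submodule.span (PowerSeries k) {(1 : (AdjoinRoot (Polynomial.X ^ 2 - Polynomial.C (PowerSeries.X : PowerSeries k))))} ⊔
        Ideal.span {(PowerSeries.X : PowerSeries k) ^ n} • (⊤ : Submodule (PowerSeries k) (AdjoinRoot (Polynomial.X ^ 2 - Polynomial.C (PowerSeries.X : PowerSeries k))))) ∧
    (∀ n : ℕ, Subalgebra.toSubmodule S = Submodule.span (PowerSeries k) {(1 : (AdjoinRoot (Polynomial.X ^ 2 - Polynomial.C (PowerSeries.X : PowerSeries k))))} ⊔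
        Ideal.span {(PowerSeries.X : PowerSeries k) ^ n} • (⊤ : Submodule (PowerSeries k) (AdjoinRoot (Polynomial.X ^ 2 - Polynomial.C (PowerSeries.X : PowerSeries k)))) →
      Nonempty (S ≃ₐ[PowerSeries k] AdjoinRoot (Polynomial.X ^ 2 - Polynomial.C ((PowerSeries.X : PowerSeries k) ^ (2 * n + 1))))) := by
  have hz : adjBasis (PowerSeries.X : PowerSeries k) 1 * adjBasis (PowerSeries.X : PowerSeries k) 1 =
      ((PowerSeries.X : PowerSeries k) ^ 1) •
        (1 : AdjoinRoot (Polynomial.X ^ 2 - Polynomial.C (PowerSeries.X : PowerSeries k))) := by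
    rw [adjBasis_one, root_sq, pow_one]
  exact main (adjBasis (PowerSeries.X : PowerSeries k)) (adjBasis_zero _) 1 hz b S

end Groth.Agent.H9.Crimp2
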