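import Mathlib
import Groth.Prelude.Def_W4c2conddiscmodels

/-! Helper9: contraction of a multigraph with multiplicity function: general facts (towards S14800-S14802). -/

namespace Groth.Agent.H9.Ctr

open LabGraph DualGr Finset

universe u

set_option linter.unusedSectionVars false

variable {V E : Type u} [Fintype V] [Fintype E] [DecidableEq V] [DecidableEq E]

lemma edgeMult_comm (ends : E → V × V) (v w : V) : edgeMult ends v w = edgeMult ends w v := by
  unfold edgeMult
  congr 1
  ext e
  simp only [mem_filter, mem_univ, true_and]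
  exact or_comm

lemma edgeMult_eq_sum (ends : E → V × V) (v w : V) :
    (edgeMult ends v w : ℤ) = ∑ e : E, (if ends e = (v, w) ∨ ends e = (w, v) then 1 else 0) := by
  unfold edgeMult
  rw [card_filter]
  push_cast
  rfl

lemma mf_off (ends : E → V × V) (β : V → ℤ) {v w : V} (h : v ≠ w) :
    mfMatrix ends β v w = (edgeMult ends v w : ℤ) := by
  unfold mfMatrix; rw [if_neg h]

lemma mf_symm (ends : E → V × V) (β : V → ℤ) {v w : V} (h : v ≠ w) :
    mfMatrix ends β v w = mfMatrix ends β w v := by
  rw [mf_off ends β h, mf_off ends β h.symm, edgeMult_comm]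

/-- `α β = 0` -/
lemma mf_row (ends : E → V × V) (β : V → ℤ) (hβ : IsMultFn ends β) (v : V) :
    ∑ w, mfMatrix ends β v w * β w = 0 := by
  rw [← Finset.add_sum_erase _ _ (mem_univ v)]
  have h1 : mfMatrix ends β v v * β v = - ∑ u ∈ univ.erase v, β u * (edgeMult ends v u : ℤ) := by
    unfold mfMatrix
    rw [if_pos rfl]
    exact Int.ediv_mul_cancel ((dvd_neg).2 (hβ v).2)
  have h2 : ∑ w ∈ univ.erase v, mfMatrix ends β v w * β w
      = ∑ u ∈ univ.erase v, β u * (edgeMult ends v u : ℤ) := by
    refine Finset.sum_congr rfl fun w hw => ?_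
    rw [mf_off ends β (Finset.ne_of_mem_erase hw).symm, mul_comm]
  rw [h1, h2]; ring

lemma mf_diag (ends : E → V × V) (β : V → ℤ) (hβ : IsMultFn ends β) (v : V) :
    mfMatrix ends β v v * β v = - ∑ u ∈ univ.erase v, β u * (edgeMult ends v u : ℤ) := by
  unfold mfMatrix
  rw [if_pos rfl]
  exact Int.ediv_mul_cancel ((dvd_neg).2 (hβ v).2)

section contraction

variable (ends : E → V × V) (D : Finset E) (β : V → ℤ)

/-- sums over the contraction, fibrewise -/
lemma sum_fiber (g : CtrVert ends D → ℤ) (h : V → ℤ) :
    ∑ c, g c * ∑ v, (if ctrMk ends D v = c then h v else 0) = ∑ v, g (ctrMk ends D v) * h v := by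
  simp_rw [Finset.mul_sum]
  rw [Finset.sum_comm]
  refine Finset.sum_congr rfl fun v _ => ?_
  simp only [mul_ite, mul_zero]
  rw [Finset.sum_ite_eq]
  simp

lemma ctrFn_mk (hconst : ∀ u v, ctrMk ends D u = ctrMk ends D v → β u = β v) (v : V) :
    ctrFn ends D β (ctrMk ends D v) = β v := by
  unfold ctrFn
  apply hconst
  exact Quotient.out_eq _

/-- the block-sum matrix -/
noncomputable def MM (c c' : CtrVert ends D) : ℤ :=
  ∑ v, ∑ v', (if ctrMk ends D v = c ∧ ctrMk ends D v' = c' then mfMatrix ends β v v' else 0)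

lemma edgeMult_ctr {c c' : CtrVert ends D} (hcc : c ≠ c') :
    (edgeMult (ctrEnds ends D) c c' : ℤ) = MM ends D β c c' := by
  rw [edgeMult_eq_sum]
  have h1 : ∑ e : CtrEdge D, (if ctrEnds ends D e = (c, c') ∨ ctrEnds ends D e = (c', c) then (1:ℤ) else 0)
      = ∑ e : E, (if (ctrMk ends D (ends e).1, ctrMk ends D (ends e).2) = (c, c') ∨
          (ctrMk ends D (ends e).1, ctrMk ends D (ends e).2) = (c', c) then (1:ℤ) else 0) := by
    have : ∑ e : E, (if (ctrMk ends D (ends e).1, ctrMk ends D (ends e).2) = (c, c') ∨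
          (ctrMk ends D (ends e).1, ctrMk ends D (ends e).2) = (c', c) then (1:ℤ) else 0)
        = ∑ e : E, (if e ∉ D then (if (ctrMk ends D (ends e).1, ctrMk ends D (ends e).2) = (c, c') ∨
          (ctrMk ends D (ends e).1, ctrMk ends D (ends e).2) = (c', c) then (1:ℤ) else 0) else 0) := by
      refine Finset.sum_congr rfl fun e _ => ?_
      by_cases he : e ∈ D
      · have := ctrMk_fst_eq_ctrMk_snd ends D he
        rw [if_neg (not_not.2 he), if_neg]
        rintro (h | h)
        · rw [Prod.mk.injEq] at h
          exact hcc (h.1.symm.trans (this.trans h.2))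
        · rw [Prod.mk.injEq] at h
          exact hcc (h.2.symm.trans (this.symm.trans h.1))
      · rw [if_pos he]
    have hf : ∑ e : E, (if e ∉ D then (if (ctrMk ends D (ends e).1, ctrMk ends D (ends e).2) = (c, c') ∨
          (ctrMk ends D (ends e).1, ctrMk ends D (ends e).2) = (c', c) then (1:ℤ) else 0) else 0)
        = ∑ e ∈ Finset.univ.filter (fun e : E => e ∉ D), (if (ctrMk ends D (ends e).1, ctrMk ends D (ends e).2) = (c, c') ∨
          (ctrMk ends D (ends e).1, ctrMk ends D (ends e).2) = (c', c) then (1:ℤ) else 0) :=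
      (Finset.sum_filter _ _).symm
    rw [this, hf]
    exact (Finset.sum_subtype (Finset.univ.filter (fun e : E => e ∉ D)) (p := fun e => e ∉ D)
      (by intro e; simp) (fun e => if (ctrMk ends D (ends e).1, ctrMk ends D (ends e).2) = (c, c') ∨
          (ctrMk ends D (ends e).1, ctrMk ends D (ends e).2) = (c', c) then (1:ℤ) else 0)).symm
  rw [h1]
  unfold MM
  have h2 : ∀ v v' : V, (if ctrMk ends D v = c ∧ ctrMk ends D v' = c' then mfMatrix ends β v v' else 0)
      = ∑ e : E, (if ctrMk ends D v = c ∧ ctrMk ends D v' = c' then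
          (if ends e = (v, v') ∨ ends e = (v', v) then (1:ℤ) else 0) else 0) := by
    intro v v'
    by_cases h : ctrMk ends D v = c ∧ ctrMk ends D v' = c'
    · have hvv : v ≠ v' := by
        rintro rfl
        exact hcc (h.1.symm.trans h.2)
      simp only [if_pos h]
      rw [mf_off ends β hvv, edgeMult_eq_sum]
    · simp [if_neg h]
  simp_rw [h2]
  have h3 : ∑ v : V, ∑ v' : V, ∑ e : E, (if ctrMk ends D v = c ∧ ctrMk ends D v' = c' then
          (if ends e = (v, v') ∨ ends e = (v', v) then (1:ℤ) else 0) else 0)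
      = ∑ e : E, ∑ v : V, ∑ v' : V, (if ctrMk ends D v = c ∧ ctrMk ends D v' = c' then
          (if ends e = (v, v') ∨ ends e = (v', v) then (1:ℤ) else 0) else 0) := by
    calc ∑ v : V, ∑ v' : V, ∑ e : E, (if ctrMk ends D v = c ∧ ctrMk ends D v' = c' then
          (if ends e = (v, v') ∨ ends e = (v', v) then (1:ℤ) else 0) else 0)
        = ∑ v : V, ∑ e : E, ∑ v' : V, (if ctrMk ends D v = c ∧ ctrMk ends D v' = c' then
          (if ends e = (v, v') ∨ ends e = (v', v) then (1:ℤ) else 0) else 0) :=
          Finset.sum_congr rfl (fun v _ => Finset.sum_comm)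
      _ = _ := Finset.sum_comm
  rw [h3]
  refine Finset.sum_congr rfl fun e _ => ?_
  -- for a fixed edge
  by_cases hA : ctrMk ends D (ends e).1 = c ∧ ctrMk ends D (ends e).2 = c'
  · have hB : ¬ (ctrMk ends D (ends e).1 = c' ∧ ctrMk ends D (ends e).2 = c) := by
      rintro ⟨h1, h2⟩; exact hcc (hA.1.symm.trans h1)
    rw [if_pos (Or.inl (Prod.ext hA.1 hA.2))]
    rw [Finset.sum_eq_single (ends e).1, Finset.sum_eq_single (ends e).2]
    · rw [if_pos hA, if_pos (Or.inl rfl)]
    · intro v' _ hv'
      by_cases hc : ctrMk ends D (ends e).1 = c ∧ ctrMk ends D v' = c'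
      · rw [if_pos hc, if_neg]
        rintro (h | h)
        · exact hv' (congrArg Prod.snd h).symm
        · have h1 := congrArg Prod.fst h
          have h2 := congrArg Prod.snd h
          simp only at h1 h2
          exact hB ⟨h1 ▸ hc.2, h2 ▸ hc.1⟩
      · rw [if_neg hc]
    · intro h; exact absurd (mem_univ _) h
    · intro v _ hv
      refine Finset.sum_eq_zero fun v' _ => ?_
      by_cases hc : ctrMk ends D v = c ∧ ctrMk ends D v' = c'
      · rw [if_pos hc, if_neg]
        rintro (h | h)
        · exact hv (congrArg Prod.fst h).symm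
        · have h1 := congrArg Prod.fst h
          have h2 := congrArg Prod.snd h
          simp only at h1 h2
          exact hB ⟨h1 ▸ hc.2, h2 ▸ hc.1⟩
      · rw [if_neg hc]
    · intro h; exact absurd (mem_univ _) h
  · by_cases hB : ctrMk ends D (ends e).1 = c' ∧ ctrMk ends D (ends e).2 = c
    · rw [if_pos (Or.inr (Prod.ext hB.1 hB.2))]
      rw [Finset.sum_eq_single (ends e).2, Finset.sum_eq_single (ends e).1]
      · rw [if_pos ⟨hB.2, hB.1⟩, if_pos (Or.inr rfl)]
      · intro v' _ hv'
        by_cases hc : ctrMk ends D (ends e).2 = c ∧ ctrMk ends D v' = c'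
        · rw [if_pos hc, if_neg]
          rintro (h | h)
          · have h1 := congrArg Prod.fst h
            have h2 := congrArg Prod.snd h
            simp only at h1 h2
            exact hA ⟨h1 ▸ hc.1, h2 ▸ hc.2⟩
          · exact hv' (congrArg Prod.fst h).symm
        · rw [if_neg hc]
      · intro h; exact absurd (mem_univ _) h
      · intro v _ hv
        refine Finset.sum_eq_zero fun v' _ => ?_
        by_cases hc : ctrMk ends D v = c ∧ ctrMk ends D v' = c'
        · rw [if_pos hc, if_neg]
          rintro (h | h)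
          · have h1 := congrArg Prod.fst h
            have h2 := congrArg Prod.snd h
            simp only at h1 h2
            exact hA ⟨h1 ▸ hc.1, h2 ▸ hc.2⟩
          · exact hv (congrArg Prod.snd h).symm
        · rw [if_neg hc]
      · intro h; exact absurd (mem_univ _) h
    · rw [if_neg]
      · symm
        refine Finset.sum_eq_zero fun v _ => Finset.sum_eq_zero fun v' _ => ?_
        by_cases hc : ctrMk ends D v = c ∧ ctrMk ends D v' = c'
        · rw [if_pos hc, if_neg]
          rintro (h | h)
          · have h1 := congrArg Prod.fst h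
            have h2 := congrArg Prod.snd h
            simp only at h1 h2
            exact hA ⟨h1 ▸ hc.1, h2 ▸ hc.2⟩
          · have h1 := congrArg Prod.fst h
            have h2 := congrArg Prod.snd h
            simp only at h1 h2
            exact hB ⟨h1 ▸ hc.2, h2 ▸ hc.1⟩
        · rw [if_neg hc]
      · rintro (h | h)
        · rw [Prod.mk.injEq] at h; exact hA h
        · rw [Prod.mk.injEq] at h; exact hB h

variable (hβ : IsMultFn ends β) (hconst : ∀ u v, ctrMk ends D u = ctrMk ends D v → β u = β v)

include hβ hconst in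
lemma MM_row (c : CtrVert ends D) :
    ∑ c', MM ends D β c c' * ctrFn ends D β c' = 0 := by
  unfold MM
  have h1 : ∀ c' : CtrVert ends D,
      (∑ v, ∑ v', (if ctrMk ends D v = c ∧ ctrMk ends D v' = c' then mfMatrix ends β v v' else 0)) * ctrFn ends D β c'
      = ctrFn ends D β c' * ∑ v', (if ctrMk ends D v' = c' then
          (∑ v, (if ctrMk ends D v = c then mfMatrix ends β v v' else 0)) else 0) := by
    intro c'
    rw [mul_comm, Finset.sum_comm]
    congr 1
    refine Finset.sum_congr rfl fun v' _ => ?_
    by_cases h : ctrMk ends D v' = c'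
    · simp [h]
    · simp [h]
  rw [Finset.sum_congr rfl (fun c' _ => h1 c'), sum_fiber]
  simp_rw [ctrFn_mk ends D β hconst, Finset.mul_sum]
  rw [Finset.sum_comm]
  refine Finset.sum_eq_zero fun v _ => ?_
  by_cases h : ctrMk ends D v = c
  · simp only [if_pos h]
    have := mf_row ends β hβ v
    rw [← this]
    refine Finset.sum_congr rfl fun v' _ => ?_
    ring
  · simp [if_neg h]

include hβ hconst in
lemma ctr_sum_erase (c : CtrVert ends D) :
    ∑ c' ∈ univ.erase c, ctrFn ends D β c' * (edgeMult (ctrEnds ends D) c c' : ℤ)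
      = - (MM ends D β c c * ctrFn ends D β c) := by
  have h := MM_row ends D β hβ hconst c
  rw [← Finset.add_sum_erase _ _ (mem_univ c)] at h
  have h2 : ∑ c' ∈ univ.erase c, ctrFn ends D β c' * (edgeMult (ctrEnds ends D) c c' : ℤ)
      = ∑ c' ∈ univ.erase c, MM ends D β c c' * ctrFn ends D β c' := by
    refine Finset.sum_congr rfl fun c' hc' => ?_
    rw [edgeMult_ctr ends D β (Finset.ne_of_mem_erase hc').symm, mul_comm]
  rw [h2]; linarith

include hβ hconst in
lemma ctrFn_pos (c : CtrVert ends D) : 0 < ctrFn ends D β c := by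
  obtain ⟨v, rfl⟩ := ctrMk_surjective ends D c
  rw [ctrFn_mk ends D β hconst]
  exact (hβ v).1

include hβ hconst in
/-- the contraction of a multiplicity function constant on classes is a multiplicity function -/
lemma isMultFn_ctr : IsMultFn (ctrEnds ends D) (ctrFn ends D β) := by
  intro c
  refine ⟨ctrFn_pos ends D β hβ hconst c, ?_⟩
  rw [ctr_sum_erase ends D β hβ hconst c]
  exact (dvd_neg).2 (dvd_mul_left _ _)

include hβ hconst in
lemma mf_ctr (c c' : CtrVert ends D) :
    mfMatrix (ctrEnds ends D) (ctrFn ends D β) c c' = MM ends D β c c' := by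
  by_cases h : c = c'
  · subst h
    unfold mfMatrix
    rw [if_pos rfl, ctr_sum_erase ends D β hβ hconst c, neg_neg]
    exact Int.mul_ediv_cancel _ (ctrFn_pos ends D β hβ hconst c).ne'
  · rw [mf_off _ _ h, edgeMult_ctr ends D β h]

include hβ hconst in
/-- `push ∘ α ∘ pull = α'` -/
lemma K1 (z : CtrVert ends D → ℤ) (c : CtrVert ends D) :
    ∑ v, (if ctrMk ends D v = c then (Matrix.mulVec (mfMatrix ends β) (fun v' => z (ctrMk ends D v'))) v else 0)
      = (Matrix.mulVec (mfMatrix (ctrEnds ends D) (ctrFn ends D β)) z) c := by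
  simp only [Matrix.mulVec, dotProduct]
  simp_rw [mf_ctr ends D β hβ hconst]
  unfold MM
  have h1 : ∀ c' : CtrVert ends D,
      (∑ v, ∑ v', (if ctrMk ends D v = c ∧ ctrMk ends D v' = c' then mfMatrix ends β v v' else 0)) * z c'
      = z c' * ∑ v', (if ctrMk ends D v' = c' then
          (∑ v, (if ctrMk ends D v = c then mfMatrix ends β v v' else 0)) else 0) := by
    intro c'
    rw [mul_comm, Finset.sum_comm]
    congr 1
    refine Finset.sum_congr rfl fun v' _ => ?_
    by_cases h : ctrMk ends D v' = c'
    · simp [h]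
    · simp [h]
  rw [Finset.sum_congr rfl (fun c' _ => h1 c'), sum_fiber]
  simp_rw [Finset.mul_sum]
  rw [Finset.sum_comm]
  refine Finset.sum_congr rfl fun v _ => ?_
  by_cases h : ctrMk ends D v = c
  · simp only [if_pos h]
    refine Finset.sum_congr rfl fun v' _ => ?_
    ring
  · simp [if_neg h]

end contraction

end Groth.Agent.H9.Ctr
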