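import Mathlib
import Groth.Agent.Lib.Helper9.Misc.Ctr1

/-! Helper9: chains of connecting edges in a multigraph with multiplicity function: local structure (towards S14801/S14802). -/

namespace Groth.Agent.H9.Ctr

open LabGraph DualGr Finset

universe u

set_option linter.unusedSectionVars false

variable {V E : Type u} [Fintype V] [Fintype E] [DecidableEq V] [DecidableEq E]

/-- a chain indexed by naturals -/
structure NChain (ends : E → V × V) (m : ℕ) (g : ℕ → V) (ee : ℕ → E) : Prop where
  inj : ∀ i j, i ≤ m → j ≤ m → g i = g j → i = j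
  edge : ∀ i, i < m → ends (ee i) = (g i, g (i + 1)) ∨ ends (ee i) = (g (i + 1), g i)

section chain

variable {ends : E → V × V} {m : ℕ} {g : ℕ → V} {ee : ℕ → E} (hN : NChain ends m g ee)
  {D : Finset E} (hD : ∀ x, x ∈ D ↔ ∃ i, i < m ∧ ee i = x)

include hN hD in
lemma ctrMk_chain (i : ℕ) (hi : i ≤ m) : ctrMk ends D (g i) = ctrMk ends D (g 0) := by
  induction i with
  | zero => rfl
  | succ i ih =>
    rw [← ih (by omega)]
    have hmem : ee i ∈ D := (hD _).2 ⟨i, by omega, rfl⟩
    have := ctrMk_fst_eq_ctrMk_snd ends D hmem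
    rcases hN.edge i (by omega) with h | h
    · rw [h] at this; exact this.symm
    · rw [h] at this; exact this

include hN hD in
lemma ctrMk_eq_iff (u v : V) :
    ctrMk ends D u = ctrMk ends D v ↔ u = v ∨ ((∃ i, i ≤ m ∧ g i = u) ∧ (∃ i, i ≤ m ∧ g i = v)) := by
  constructor
  · intro h
    have h' : Relation.EqvGen (CtrRel ends D) u v := Quotient.exact h
    induction h' with
    | rel x y hxy =>
      obtain ⟨e, he, hends⟩ := hxy
      obtain ⟨i, hi, rfl⟩ := (hD e).1 he
      right
      rcases hN.edge i hi with h1 | h1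
      · rw [h1, Prod.mk.injEq] at hends
        exact ⟨⟨i, by omega, hends.1⟩, ⟨i + 1, by omega, hends.2⟩⟩
      · rw [h1, Prod.mk.injEq] at hends
        exact ⟨⟨i + 1, by omega, hends.1⟩, ⟨i, by omega, hends.2⟩⟩
    | refl x => exact Or.inl rfl
    | symm x y _ ih =>
      rcases ih (Quotient.sound (by assumption)) with h1 | h1
      · exact Or.inl h1.symm
      · exact Or.inr ⟨h1.2, h1.1⟩
    | trans x y z hxy hyz ih1 ih2 =>
      rcases ih1 (Quotient.sound hxy) with h1 | h1
      · rw [h1]; exact ih2 (Quotient.sound hyz)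
      · rcases ih2 (Quotient.sound hyz) with h2 | h2
        · rw [← h2]; exact Or.inr h1
        · exact Or.inr ⟨h1.1, h2.2⟩
  · rintro (rfl | ⟨⟨i, hi, rfl⟩, ⟨j, hj, rfl⟩⟩)
    · rfl
    · rw [ctrMk_chain hN hD i hi, ctrMk_chain hN hD j hj]

end chain

/-- at least one edge -/
lemma edgeMult_pos (ends : E → V × V) (e : E) (v w : V)
    (h : ends e = (v, w) ∨ ends e = (w, v)) : 1 ≤ edgeMult ends v w := by
  unfold edgeMult
  exact Finset.card_pos.2 ⟨e, by simp [h]⟩

/-- if every edge joining `v` and `w` equals `e`, there is at most one -/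
lemma edgeMult_le_one (ends : E → V × V) (e : E) (v w : V)
    (h : ∀ e', (ends e' = (v, w) ∨ ends e' = (w, v)) → e' = e) : edgeMult ends v w ≤ 1 := by
  unfold edgeMult
  rw [Finset.card_le_one]
  intro a ha b hb
  simp only [mem_filter, mem_univ, true_and] at ha hb
  rw [h a ha, h b hb]

lemma edgeMult_eq_zero (ends : E → V × V) (v w : V)
    (h : ∀ e', ¬ (ends e' = (v, w) ∨ ends e' = (w, v))) : edgeMult ends v w = 0 := by
  unfold edgeMult
  rw [Finset.card_eq_zero, Finset.filter_eq_empty_iff]
  intro e _
  exact h e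

/-- connecting set in normal form -/
lemma connecting_set {ends : E → V × V} {m : ℕ} {g : ℕ → V} {ee : ℕ → E} (hN : NChain ends m g ee)
    (heinj : ∀ i j, i < m → j < m → ee i = ee j → i = j)
    (i : ℕ) (hi : i < m) (hc : IsConnecting ends (ee i)) :
    ∃ S : Finset V, (∀ j, j ≤ i → g j ∉ S) ∧ (∀ j, i + 1 ≤ j → j ≤ m → g j ∈ S) ∧
      ∀ e', ((ends e').1 ∈ S ↔ (ends e').2 ∉ S) → e' = ee i := by
  obtain ⟨S0, hS0⟩ := hc
  -- normalise so that g (i+1) ∈ S
  obtain ⟨S, hS, hmem⟩ : ∃ S : Finset V, (∀ e', ((ends e').1 ∈ S ↔ (ends e').2 ∉ S) ↔ e' = ee i) ∧ g (i + 1) ∈ S := by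
    by_cases h : g (i + 1) ∈ S0
    · exact ⟨S0, hS0, h⟩
    · refine ⟨S0ᶜ, ?_, by simpa using h⟩
      intro e'
      rw [← hS0 e']
      simp only [mem_compl]
      tauto
  have hcross := (hS (ee i)).2 rfl
  have hgi : g i ∉ S := by
    rcases hN.edge i hi with h | h
    · rw [h] at hcross; simp only at hcross
      intro hin
      exact (hcross.1 hin) hmem
    · rw [h] at hcross; simp only at hcross
      intro hin
      exact (hcross.1 hmem) hin
  have hstep : ∀ j, j < m → j ≠ i → (g j ∈ S ↔ g (j + 1) ∈ S) := by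
    intro j hj hji
    have hne : ee j ≠ ee i := fun h => hji (heinj j i hj hi h)
    have hnc := (not_congr (hS (ee j))).2 hne
    rcases hN.edge j hj with h | h
    · rw [h] at hnc; simp only at hnc; tauto
    · rw [h] at hnc; simp only at hnc; tauto
  refine ⟨S, ?_, ?_, fun e' h => (hS e').1 h⟩
  · intro j hj
    induction' hk : i - j with d ih generalizing j
    · have : j = i := by omega
      rw [this]; exact hgi
    · have h1 := ih (j + 1) (by omega) (by omega)
      exact fun hin => h1 ((hstep j (by omega) (by omega)).1 hin)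
  · intro j hj1 hj2
    induction j with
    | zero => omega
    | succ j ih =>
      by_cases hji : j = i
      · rw [hji]; exact hmem
      · exact (hstep j (by omega) hji).1 (ih (by omega) (by omega))

section analysis

variable {ends : E → V × V} {β : V → ℤ} (hβ : IsMultFn ends β)
  {m : ℕ} {g : ℕ → V} {ee : ℕ → E} (hN : NChain ends m g ee)
  (heinj : ∀ i j, i < m → j < m → ee i = ee j → i = j)
  (hβm : ∀ i, i ≤ m → β (g i) = m)
  (hα : ∀ i, i ≤ m → mfMatrix ends β (g i) (g i) = -2)
  (hconn : ∀ i, i < m → IsConnecting ends (ee i))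

include hβ hβm hα in
lemma row_sum (i : ℕ) (hi : i ≤ m) :
    ∑ u ∈ univ.erase (g i), β u * (edgeMult ends (g i) u : ℤ) = 2 * m := by
  have := mf_diag ends β hβ (g i)
  rw [hα i hi, hβm i hi] at this
  linarith

include hN heinj hconn in
lemma em_succ (i : ℕ) (hi : i < m) : edgeMult ends (g i) (g (i + 1)) = 1 := by
  apply le_antisymm
  · obtain ⟨S, hS1, hS2, hS3⟩ := connecting_set hN heinj i hi (hconn i hi)
    apply edgeMult_le_one ends (ee i)
    intro e' he'
    apply hS3
    have h1 := hS1 i le_rfl
    have h2 := hS2 (i + 1) le_rfl (by omega)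
    rcases he' with h | h <;> rw [h] <;> simp [h1, h2]
  · exact edgeMult_pos ends (ee i) _ _ (hN.edge i hi)

include hβ hN heinj hβm hα hconn in
lemma em_interior (i : ℕ) (hi0 : 0 < i) (him : i < m) (u : V)
    (hu1 : u ≠ g i) (hu2 : u ≠ g (i - 1)) (hu3 : u ≠ g (i + 1)) : edgeMult ends (g i) u = 0 := by
  have hS := row_sum hβ hβm hα i him.le
  have ha : g (i - 1) ∈ univ.erase (g i) := by
    rw [mem_erase]; exact ⟨fun h => by have := hN.inj _ _ (by omega) (by omega) h; omega, mem_univ _⟩
  have hb : g (i + 1) ∈ (univ.erase (g i)).erase (g (i - 1)) := by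
    rw [mem_erase, mem_erase]
    exact ⟨fun h => by have := hN.inj _ _ (by omega) (by omega) h; omega,
      fun h => by have := hN.inj _ _ (by omega) (by omega) h; omega, mem_univ _⟩
  rw [← Finset.add_sum_erase _ _ ha, ← Finset.add_sum_erase _ _ hb] at hS
  have e1 : edgeMult ends (g i) (g (i - 1)) = 1 := by
    rw [edgeMult_comm]
    have := em_succ hN heinj hconn (i - 1) (by omega)
    rwa [show i - 1 + 1 = i by omega] at this
  have e2 := em_succ hN heinj hconn i him
  rw [e1, e2, hβm (i - 1) (by omega), hβm (i + 1) (by omega)] at hS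
  have hrest : ∑ x ∈ ((univ.erase (g i)).erase (g (i - 1))).erase (g (i + 1)), β x * (edgeMult ends (g i) x : ℤ) = 0 := by
    push_cast at hS; linarith
  have hnn : ∀ x ∈ ((univ.erase (g i)).erase (g (i - 1))).erase (g (i + 1)), 0 ≤ β x * (edgeMult ends (g i) x : ℤ) :=
    fun x _ => mul_nonneg (hβ x).1.le (by positivity)
  have hz := (Finset.sum_eq_zero_iff_of_nonneg hnn).1 hrest u (by
    simp only [mem_erase, mem_univ, and_true]; exact ⟨hu3, hu2, hu1⟩)
  rcases mul_eq_zero.1 hz with h | h
  · exact absurd h (hβ u).1.ne'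
  · exact_mod_cast h

include hβ hN heinj hβm hα hconn in
lemma em_far (i j : ℕ) (hj : j ≤ m) (hij : i + 2 ≤ j) : edgeMult ends (g i) (g j) = 0 := by
  have hne : ∀ a b, a ≤ m → b ≤ m → a ≠ b → g a ≠ g b := fun a b ha hb hab h => hab (hN.inj a b ha hb h)
  by_cases hjm : j < m
  · rw [edgeMult_comm]
    exact em_interior hβ hN heinj hβm hα hconn j (by omega) hjm (g i)
      (hne _ _ (by omega) (by omega) (by omega)) (hne _ _ (by omega) (by omega) (by omega))
      (hne _ _ (by omega) (by omega) (by omega))
  · have hjm' : j = m := by omega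
    subst hjm'
    by_cases hi0 : 0 < i
    · exact em_interior hβ hN heinj hβm hα hconn i hi0 (by omega) (g j)
        (hne _ _ (by omega) (by omega) (by omega)) (hne _ _ (by omega) (by omega) (by omega))
        (hne _ _ (by omega) (by omega) (by omega))
    · have hi : i = 0 := by omega
      subst hi
      obtain ⟨S, hS1, hS2, hS3⟩ := connecting_set hN heinj (j - 1) (by omega) (hconn (j - 1) (by omega))
      apply edgeMult_eq_zero
      intro e' he'
      have h1 := hS1 0 (by omega)
      have h2 := hS2 j (by omega) le_rfl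
      have hcross : ((ends e').1 ∈ S ↔ (ends e').2 ∉ S) := by
        rcases he' with h | h <;> rw [h] <;> simp [h1, h2]
      have he := hS3 e' hcross
      have hedge := hN.edge (j - 1) (by omega)
      rw [show j - 1 + 1 = j by omega, ← he] at hedge
      have : g 0 = g (j - 1) := by
        rcases he' with h | h <;> rcases hedge with h' | h' <;> rw [h, Prod.mk.injEq] at h'
        · exact h'.1
        · exact absurd h'.1 (hne _ _ (by omega) (by omega) (by omega))
        · exact absurd h'.1 (hne _ _ (by omega) (by omega) (by omega))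
        · exact h'.2
      have := hN.inj _ _ (by omega) (by omega) this
      omega

include hβ hN heinj hβm hα hconn in
/-- interior rows of `α` -/
lemma row_interior (i : ℕ) (hi0 : 0 < i) (him : i < m) (y : V → ℤ) :
    (Matrix.mulVec (mfMatrix ends β) y) (g i) = y (g (i - 1)) - 2 * y (g i) + y (g (i + 1)) := by
  have hne : ∀ a b, a ≤ m → b ≤ m → a ≠ b → g a ≠ g b := fun a b ha hb hab h => hab (hN.inj a b ha hb h)
  have hcoef : ∀ w, mfMatrix ends β (g i) w = (if w = g i then (-2:ℤ) else 0) + (if w = g (i - 1) then 1 else 0)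
      + (if w = g (i + 1) then 1 else 0) := by
    intro w
    by_cases h1 : w = g i
    · subst h1
      rw [hα i him.le, if_pos rfl, if_neg (hne _ _ (by omega) (by omega) (by omega)),
        if_neg (hne _ _ (by omega) (by omega) (by omega))]
      ring
    · rw [mf_off ends β (Ne.symm h1), if_neg h1]
      by_cases h2 : w = g (i - 1)
      · subst h2
        have e1 : edgeMult ends (g i) (g (i - 1)) = 1 := by
          rw [edgeMult_comm]
          have := em_succ hN heinj hconn (i - 1) (by omega)
          rwa [show i - 1 + 1 = i by omega] at this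
        rw [e1, if_pos rfl, if_neg (hne _ _ (by omega) (by omega) (by omega))]
        norm_num
      · by_cases h3 : w = g (i + 1)
        · subst h3
          rw [em_succ hN heinj hconn i him, if_neg h2, if_pos rfl]; norm_num
        · rw [em_interior hβ hN heinj hβm hα hconn i hi0 him w h1 h2 h3, if_neg h2, if_neg h3]; norm_num
  simp only [Matrix.mulVec, dotProduct]
  simp_rw [hcoef, add_mul, Finset.sum_add_distrib, ite_mul, zero_mul, Finset.sum_ite_eq', mem_univ, if_true]
  ring

include hβ in
lemma mf_symm' (v w : V) : mfMatrix ends β v w = mfMatrix ends β w v := by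
  by_cases h : v = w
  · rw [h]
  · exact mf_symm ends β h

include hβ in
lemma mulVec_single (v w : V) :
    (Matrix.mulVec (mfMatrix ends β) (Pi.single w (1:ℤ))) v = mfMatrix ends β v w := by
  simp [Matrix.mulVec, dotProduct, Pi.single_apply]

include hβ hN heinj hβm hα hconn in
/-- interior columns of `α` -/
lemma col_interior (i : ℕ) (hi0 : 0 < i) (him : i < m) :
    Matrix.mulVec (mfMatrix ends β) (Pi.single (g i) (1:ℤ))
      = Pi.single (g (i - 1)) (1:ℤ) - (2:ℤ) • Pi.single (g i) (1:ℤ) + Pi.single (g (i + 1)) (1:ℤ) := by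
  funext v
  rw [mulVec_single hβ, mf_symm' hβ, ← mulVec_single hβ (g i) v,
    row_interior hβ hN heinj hβm hα hconn i hi0 him]
  simp only [Pi.add_apply, Pi.sub_apply, Pi.smul_apply, Pi.single_apply, smul_eq_mul]
  simp only [eq_comm]

end analysis

end Groth.Agent.H9.Ctr
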