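import Mathlib
import Groth.Agent.Lib.Helper9.Misc.Ctr2

/-! Helper9: cut formula and e_{g m} - e_{g 0} in the image of the multiplicity matrix (towards S14801/S14802). -/

namespace Groth.Agent.H9.Ctr

open LabGraph DualGr Finset

universe u

set_option linter.unusedSectionVars false

variable {V E : Type u} [Fintype V] [Fintype E] [DecidableEq V] [DecidableEq E]

section analysis

variable {ends : E → V × V} {β : V → ℤ} (hβ : IsMultFn ends β)
  {m : ℕ} {g : ℕ → V} {ee : ℕ → E} (hN : NChain ends m g ee)
  (heinj : ∀ i j, i < m → j < m → ee i = ee j → i = j)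
  (hβm : ∀ i, i ≤ m → β (g i) = m)
  (hα : ∀ i, i ≤ m → mfMatrix ends β (g i) (g i) = -2)
  (hconn : ∀ i, i < m → IsConnecting ends (ee i))

include hβ hN heinj hβm hα hconn in
/-- column `g 0` restricted to the chain -/
lemma col_zero (j : ℕ) (hj1 : 1 ≤ j) (hjm : j ≤ m) :
    mfMatrix ends β (g j) (g 0) = if j = 1 then 1 else 0 := by
  have hne : g j ≠ g 0 := fun h => by have := hN.inj _ _ hjm (by omega) h; omega
  rw [mf_off ends β hne, edgeMult_comm]
  by_cases h : j = 1
  · subst h
    rw [if_pos rfl]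
    have := em_succ hN heinj hconn 0 (by omega)
    rw [this]; rfl
  · rw [if_neg h, em_far hβ hN heinj hβm hα hconn 0 j hjm (by omega)]; rfl

/-- the vector `β·1_S` -/
def yS (β : V → ℤ) (S : Finset V) : V → ℤ := fun v => if v ∈ S then β v else 0

include hβ hN heinj hβm hα hconn in
/-- the cut formula -/
lemma cut_formula (hm : 1 ≤ m) :
    ∃ S : Finset V, (∀ j, j ≤ m - 1 → g j ∉ S) ∧ g m ∈ S ∧
      Matrix.mulVec (mfMatrix ends β) (yS β S)
        = (m : ℤ) • (Pi.single (g (m - 1)) (1:ℤ) - Pi.single (g m) (1:ℤ)) := by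
  obtain ⟨S, hS1, hS2, hS3⟩ := connecting_set hN heinj (m - 1) (by omega) (hconn (m - 1) (by omega))
  have hgm : g m ∈ S := hS2 m (by omega) le_rfl
  have hgm1 : g (m - 1) ∉ S := hS1 (m - 1) le_rfl
  have hem : edgeMult ends (g m) (g (m - 1)) = 1 := by
    rw [edgeMult_comm]
    have := em_succ hN heinj hconn (m - 1) (by omega)
    rwa [show m - 1 + 1 = m by omega] at this
  -- crossing multiplicities
  have hcross : ∀ v w, v ∈ S → w ∉ S →
      (edgeMult ends v w : ℤ) = if v = g m ∧ w = g (m - 1) then 1 else 0 := by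
    intro v w hv hw
    by_cases h : v = g m ∧ w = g (m - 1)
    · rw [if_pos h, h.1, h.2, hem]; rfl
    · rw [if_neg h]
      have : edgeMult ends v w = 0 := by
        apply edgeMult_eq_zero
        intro e' he'
        have hc : ((ends e').1 ∈ S ↔ (ends e').2 ∉ S) := by
          rcases he' with h' | h' <;> rw [h'] <;> simp [hv, hw]
        have he := hS3 e' hc
        have hedge := hN.edge (m - 1) (by omega)
        rw [show m - 1 + 1 = m by omega, ← he] at hedge
        apply h
        rcases he' with h' | h' <;> rcases hedge with h'' | h'' <;> rw [h', Prod.mk.injEq] at h''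
        · exact absurd (h''.1 ▸ hv) hgm1
        · exact h''
        · exact ⟨h''.2, h''.1⟩
        · exact absurd (h''.2 ▸ hv) hgm1
      rw [this]; rfl
  refine ⟨S, hS1, hgm, ?_⟩
  funext v
  simp only [Matrix.mulVec, dotProduct, Pi.smul_apply, Pi.sub_apply, Pi.single_apply, smul_eq_mul]
  by_cases hv : v ∈ S
  · have hv1 : v ≠ g (m - 1) := fun h => hgm1 (h ▸ hv)
    have h1 : ∑ w, mfMatrix ends β v w * yS β S w
        = ∑ w, mfMatrix ends β v w * β w - ∑ w, (if w ∈ S then 0 else mfMatrix ends β v w * β w) := by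
      rw [← Finset.sum_sub_distrib]
      refine Finset.sum_congr rfl fun w _ => ?_
      unfold yS
      split_ifs <;> ring
    rw [h1, mf_row ends β hβ v, zero_sub]
    have h2 : ∑ w, (if w ∈ S then 0 else mfMatrix ends β v w * β w)
        = ∑ w, (if w = g (m - 1) then (if v = g m then (m:ℤ) else 0) else 0) := by
      refine Finset.sum_congr rfl fun w _ => ?_
      by_cases hw : w ∈ S
      · rw [if_pos hw, if_neg (show ¬ w = g (m - 1) from fun h => hgm1 (h ▸ hw))]
      · rw [if_neg hw, mf_off ends β (show v ≠ w from fun h => hw (h ▸ hv)), hcross v w hv hw]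
        by_cases hw' : w = g (m - 1)
        · subst hw'
          rw [if_pos rfl, hβm (m - 1) (by omega)]
          by_cases hv' : v = g m
          · rw [if_pos ⟨hv', rfl⟩, if_pos hv']; ring
          · rw [if_neg (fun h => hv' h.1), if_neg hv']; ring
        · rw [if_neg (fun h => hw' h.2), if_neg hw']; ring
    rw [h2, Finset.sum_ite_eq' univ (g (m - 1))]
    simp only [mem_univ, if_true]
    by_cases hv' : v = g m
    · simp [hv', hv' ▸ hv1]
    · simp [hv', hv1]
  · have hvm : v ≠ g m := fun h => hv (h ▸ hgm)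
    have h2 : ∑ w, mfMatrix ends β v w * yS β S w
        = ∑ w, (if w = g m then (if v = g (m - 1) then (m:ℤ) else 0) else 0) := by
      refine Finset.sum_congr rfl fun w _ => ?_
      unfold yS
      by_cases hw : w ∈ S
      · rw [if_pos hw, mf_off ends β (show v ≠ w from fun h => hv (h ▸ hw)), edgeMult_comm, hcross w v hw hv]
        by_cases hw' : w = g m
        · subst hw'
          rw [if_pos rfl, hβm m le_rfl]
          by_cases hv' : v = g (m - 1)
          · rw [if_pos ⟨rfl, hv'⟩, if_pos hv']; ring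
          · rw [if_neg (fun h => hv' h.2), if_neg hv']; ring
        · rw [if_neg (fun h => hw' h.1), if_neg hw']; ring
      · rw [if_neg hw, if_neg (show ¬ w = g m from fun h => hw (h ▸ hgm))]; ring
    rw [h2, Finset.sum_ite_eq' univ (g m)]
    simp only [mem_univ, if_true]
    by_cases hv' : v = g (m - 1)
    · simp [hv', hv' ▸ hvm]
    · simp [hv', hvm]

/-- consecutive differences of basis vectors along the chain -/
def dd (g : ℕ → V) (i : ℕ) : V → ℤ := Pi.single (g (i + 1)) (1:ℤ) - Pi.single (g i) (1:ℤ)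

include hβ hN heinj hβm hα hconn in
lemma dd_succ_sub (i : ℕ) (hi : i + 1 < m) :
    dd g (i + 1) - dd g i ∈ LinearMap.range (Matrix.mulVecLin (mfMatrix ends β)) := by
  refine ⟨Pi.single (g (i + 1)) (1:ℤ), ?_⟩
  rw [Matrix.mulVecLin_apply, col_interior hβ hN heinj hβm hα hconn (i + 1) (by omega) hi]
  unfold dd
  rw [show i + 1 - 1 = i by omega, show i + 1 + 1 = i + 2 by omega]
  module

include hβ hN heinj hβm hα hconn in
lemma dd_sub_zero (i : ℕ) (hi : i < m) :
    dd g i - dd g 0 ∈ LinearMap.range (Matrix.mulVecLin (mfMatrix ends β)) := by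
  induction i with
  | zero => rw [sub_self]; exact Submodule.zero_mem _
  | succ i ih =>
    have h1 := ih (by omega)
    have h2 := dd_succ_sub hβ hN heinj hβm hα hconn i hi
    have : dd g (i + 1) - dd g 0 = (dd g (i + 1) - dd g i) + (dd g i - dd g 0) := by abel
    rw [this]
    exact Submodule.add_mem _ h2 h1

include hβ hN heinj hβm hα hconn in
/-- `e_{g m} - e_{g 0}` lies in the image of `α` -/
lemma single_sub_mem (hm : 1 ≤ m) :
    Pi.single (g m) (1:ℤ) - Pi.single (g 0) (1:ℤ) ∈ LinearMap.range (Matrix.mulVecLin (mfMatrix ends β)) := by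
  set L := LinearMap.range (Matrix.mulVecLin (mfMatrix ends β)) with hL
  obtain ⟨S, -, -, hcut⟩ := cut_formula hβ hN heinj hβm hα hconn hm
  have hlast : (m : ℤ) • dd g (m - 1) ∈ L := by
    refine ⟨- yS β S, ?_⟩
    rw [map_neg, Matrix.mulVecLin_apply, hcut]
    unfold dd
    rw [show m - 1 + 1 = m by omega]
    module
  have hsum : Pi.single (g m) (1:ℤ) - Pi.single (g 0) (1:ℤ) = ∑ i ∈ range m, dd g i := by
    unfold dd
    rw [Finset.sum_range_sub (fun i => (Pi.single (g i) (1:ℤ) : V → ℤ))]
  have hsplit : ∑ i ∈ range m, dd g i = ∑ i ∈ range m, (dd g i - dd g (m - 1)) + (m : ℤ) • dd g (m - 1) := by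
    rw [Finset.sum_sub_distrib, Finset.sum_const, card_range]
    simp only [← natCast_zsmul]
    abel
  rw [hsum, hsplit]
  refine Submodule.add_mem _ (Submodule.sum_mem _ fun i hi => ?_) hlast
  have hi' : i < m := mem_range.1 hi
  have h1 := dd_sub_zero hβ hN heinj hβm hα hconn i hi'
  have h2 := dd_sub_zero hβ hN heinj hβm hα hconn (m - 1) (by omega)
  have : dd g i - dd g (m - 1) = (dd g i - dd g 0) - (dd g (m - 1) - dd g 0) := by abel
  rw [this]
  exact Submodule.sub_mem _ h1 h2

end analysis

end Groth.Agent.H9.Ctr
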