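import Mathlib
import Groth.Agent.Lib.Helper9.Misc.Ctr3

/-! Helper9: lift/push along the contraction of a chain (towards S14801/S14802). -/

namespace Groth.Agent.H9.Ctr

open LabGraph DualGr Finset

universe u

set_option linter.unusedSectionVars false

variable {V E : Type u} [Fintype V] [Fintype E] [DecidableEq V] [DecidableEq E]

section lift

variable {ends : E → V × V} {m : ℕ} {g : ℕ → V} {ee : ℕ → E} (hN : NChain ends m g ee)
  {D : Finset E} (hD : ∀ x, x ∈ D ↔ ∃ i, i < m ∧ ee i = x)

include hN hD in
lemma nonrep_iff (v : V) :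
    (ctrMk ends D v = ctrMk ends D (g 0) ∧ v ≠ g 0) ↔ ∃ i, 1 ≤ i ∧ i ≤ m ∧ g i = v := by
  constructor
  · rintro ⟨h1, h2⟩
    rcases (ctrMk_eq_iff hN hD v (g 0)).1 h1 with h | ⟨⟨i, hi, rfl⟩, -⟩
    · exact absurd h h2
    · refine ⟨i, ?_, hi, rfl⟩
      by_contra hcon
      have : i = 0 := by omega
      subst this
      exact h2 rfl
  · rintro ⟨i, hi1, him, rfl⟩
    refine ⟨ctrMk_chain hN hD i him, fun h => ?_⟩
    have := hN.inj _ _ him (by omega) h
    omega

lemma pushV_apply (y : V → ℤ) (c : CtrVert ends D) :
    pushV ends D y c = ∑ v, (if ctrMk ends D v = c then y v else 0) := by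
  simp only [pushV, LinearMap.coe_mk, AddHom.coe_mk]
  rw [Finset.sum_filter]

include hN hD in
lemma push_lift (x : CtrVert ends D → ℤ) : pushV ends D (liftAt ends D (g 0) x) = x := by
  funext c
  rw [pushV_apply]
  obtain ⟨v, rfl⟩ := ctrMk_surjective ends D c
  by_cases hv : ctrMk ends D v = ctrMk ends D (g 0)
  · rw [hv]
    have : ∀ w, (if ctrMk ends D w = ctrMk ends D (g 0) then liftAt ends D (g 0) x w else 0)
        = if w = g 0 then x (ctrMk ends D (g 0)) else 0 := by
      intro w
      unfold liftAt
      by_cases h1 : ctrMk ends D w = ctrMk ends D (g 0)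
      · by_cases h2 : w = g 0
        · subst h2; simp
        · simp [h1, h2]
      · have h2 : w ≠ g 0 := fun h => h1 (by rw [h])
        simp [h1, h2]
    rw [Finset.sum_congr rfl (fun w _ => this w), Finset.sum_ite_eq' univ (g 0)]
    simp
  · have : ∀ w, (if ctrMk ends D w = ctrMk ends D v then liftAt ends D (g 0) x w else 0)
        = if w = v then x (ctrMk ends D v) else 0 := by
      intro w
      unfold liftAt
      by_cases h1 : w = v
      · subst h1; simp [hv]
      · have h2 : ctrMk ends D w ≠ ctrMk ends D v := by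
          intro h
          rcases (ctrMk_eq_iff hN hD w v).1 h with h' | ⟨-, ⟨i, hi, rfl⟩⟩
          · exact h1 h'
          · exact hv (ctrMk_chain hN hD i hi)
        simp [h1, h2]
    rw [Finset.sum_congr rfl (fun w _ => this w), Finset.sum_ite_eq' univ v]
    simp

include hN hD in
lemma lift_push (y : V → ℤ) (hy : ∀ i, 1 ≤ i → i ≤ m → y (g i) = 0) :
    liftAt ends D (g 0) (pushV ends D y) = y := by
  funext v
  unfold liftAt
  by_cases hv : ctrMk ends D v = ctrMk ends D (g 0) ∧ v ≠ g 0
  · rw [if_pos hv]
    obtain ⟨i, hi1, him, rfl⟩ := (nonrep_iff hN hD v).1 hv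
    exact (hy i hi1 him).symm
  · rw [if_neg hv, pushV_apply]
    have : ∀ w, (if ctrMk ends D w = ctrMk ends D v then y w else 0) = if w = v then y v else 0 := by
      intro w
      by_cases h1 : w = v
      · subst h1; simp
      · rw [if_neg h1]
        by_cases h2 : ctrMk ends D w = ctrMk ends D v
        · rw [if_pos h2]
          rcases (ctrMk_eq_iff hN hD w v).1 h2 with h' | ⟨⟨i, hi, rfl⟩, ⟨j, hj, rfl⟩⟩
          · exact absurd h' h1
          · -- g j is a representative, hence j = 0; so i ≥ 1
            have hj0 : j = 0 := by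
              by_contra hj0
              exact hv ((nonrep_iff hN hD (g j)).2 ⟨j, by omega, hj, rfl⟩)
            subst hj0
            have hi0 : i ≠ 0 := fun h => h1 (by rw [h])
            exact hy i (by omega) hi
        · rw [if_neg h2]
    rw [Finset.sum_congr rfl (fun w _ => this w), Finset.sum_ite_eq' univ v]
    simp

lemma pushV_single (v : V) : pushV ends D (Pi.single v (1:ℤ)) = Pi.single (ctrMk ends D v) (1:ℤ) := by
  funext c
  rw [pushV_apply]
  have : ∀ w, (if ctrMk ends D w = c then (Pi.single v (1:ℤ) : V → ℤ) w else 0)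
      = if w = v then (if ctrMk ends D v = c then 1 else 0) else 0 := by
    intro w
    by_cases h : w = v
    · subst h; simp
    · simp [Pi.single_apply, h]
  rw [Finset.sum_congr rfl (fun w _ => this w), Finset.sum_ite_eq' univ v]
  simp [Pi.single_apply, eq_comm]

include hN hD in
lemma pull_push (y : V → ℤ) (hy : ∀ i, i ≤ m → y (g i) = 0) :
    (fun v => pushV ends D y (ctrMk ends D v)) = y := by
  funext v
  rw [pushV_apply]
  have : ∀ w, (if ctrMk ends D w = ctrMk ends D v then y w else 0) = if w = v then y v else 0 := by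
    intro w
    by_cases h1 : w = v
    · subst h1; simp
    · rw [if_neg h1]
      by_cases h2 : ctrMk ends D w = ctrMk ends D v
      · rw [if_pos h2]
        rcases (ctrMk_eq_iff hN hD w v).1 h2 with h' | ⟨⟨i, hi, rfl⟩, -⟩
        · exact absurd h' h1
        · exact hy i hi
      · rw [if_neg h2]
  rw [Finset.sum_congr rfl (fun w _ => this w), Finset.sum_ite_eq' univ v]
  simp

end lift

end Groth.Agent.H9.Ctr
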