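import Mathlib
import Groth.Agent.Lib.Helper9.Misc.Ctr4

/-! Helper9: chain contraction: well-definedness, injectivity, surjectivity on component groups (towards S14801/S14802). -/

namespace Groth.Agent.H9.Ctr

open LabGraph DualGr Finset

universe u

set_option linter.unusedSectionVars false

variable {V E : Type u} [Fintype V] [Fintype E] [DecidableEq V] [DecidableEq E]

section main

variable {ends : E → V × V} {β : V → ℤ} (hβ : IsMultFn ends β)
  {m : ℕ} {g : ℕ → V} {ee : ℕ → E} (hN : NChain ends m g ee)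
  (heinj : ∀ i j, i < m → j < m → ee i = ee j → i = j)
  (hβm : ∀ i, i ≤ m → β (g i) = m)
  (hα : ∀ i, i ≤ m → mfMatrix ends β (g i) (g i) = -2)
  (hconn : ∀ i, i < m → IsConnecting ends (ee i))
  {D : Finset E} (hD : ∀ x, x ∈ D ↔ ∃ i, i < m ∧ ee i = x)

include hN hβm hD in
lemma hconst_chain : ∀ u v, ctrMk ends D u = ctrMk ends D v → β u = β v := by
  intro u v h
  rcases (ctrMk_eq_iff hN hD u v).1 h with h' | ⟨⟨i, hi, rfl⟩, ⟨j, hj, rfl⟩⟩
  · rw [h']
  · rw [hβm i hi, hβm j hj]

/-- `liftAt` as a linear map -/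
noncomputable def liftL (ends : E → V × V) (D : Finset E) (v₀ : V) :
    (CtrVert ends D → ℤ) →ₗ[ℤ] (V → ℤ) where
  toFun x := liftAt ends D v₀ x
  map_add' x y := by
    funext v
    simp only [liftAt, Pi.add_apply]
    split_ifs <;> simp
  map_smul' c x := by
    funext v
    simp only [liftAt, Pi.smul_apply, RingHom.id_apply]
    split_ifs <;> simp

lemma liftL_apply (v₀ : V) (x : CtrVert ends D → ℤ) : liftL ends D v₀ x = liftAt ends D v₀ x := rfl

include hβ hN hβm hD in
/-- `K1` in terms of `pushV` -/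
lemma K1' (z : CtrVert ends D → ℤ) :
    pushV ends D (Matrix.mulVec (mfMatrix ends β) (fun v => z (ctrMk ends D v)))
      = Matrix.mulVec (mfMatrix (ctrEnds ends D) (ctrFn ends D β)) z := by
  funext c
  rw [pushV_apply]
  exact K1 ends D β hβ (hconst_chain hN hβm hD) z c

include hβ hN heinj hβm hα hconn hD in
/-- well-definedness: `f (im α') ⊆ im α` -/
lemma lift_mem_range (hm : 1 ≤ m) (z : CtrVert ends D → ℤ) :
    liftAt ends D (g 0) (Matrix.mulVec (mfMatrix (ctrEnds ends D) (ctrFn ends D β)) z)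
      ∈ LinearMap.range (Matrix.mulVecLin (mfMatrix ends β)) := by
  set L := LinearMap.range (Matrix.mulVecLin (mfMatrix ends β)) with hL
  set p : V → ℤ := fun v => z (ctrMk ends D v) with hp
  set w := Matrix.mulVec (mfMatrix ends β) p with hw
  have hwL : w ∈ L := ⟨p, rfl⟩
  set t := w (g m) with ht
  set κ : V → ℤ := w - t • (Pi.single (g m) (1:ℤ) - Pi.single (g 0) (1:ℤ)) with hκ
  have hκL : κ ∈ L := Submodule.sub_mem _ hwL (Submodule.smul_mem _ _ (single_sub_mem hβ hN heinj hβm hα hconn hm))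
  have hne : ∀ a b, a ≤ m → b ≤ m → a ≠ b → g a ≠ g b := fun a b ha hb hab h => hab (hN.inj a b ha hb h)
  have hκ0 : ∀ i, 1 ≤ i → i ≤ m → κ (g i) = 0 := by
    intro i hi1 him
    simp only [hκ, Pi.sub_apply, Pi.smul_apply, Pi.single_apply, smul_eq_mul]
    by_cases hi : i = m
    · subst hi
      rw [if_pos rfl, if_neg (hne _ _ (by omega) (by omega) (by omega))]
      ring
    · rw [if_neg (hne _ _ (by omega) (by omega) (by omega)), if_neg (hne _ _ (by omega) (by omega) (by omega))]
      have := row_interior hβ hN heinj hβm hα hconn i (by omega) (by omega) p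
      rw [← hw] at this
      rw [this]
      simp only [hp]
      rw [ctrMk_chain hN hD (i - 1) (by omega), ctrMk_chain hN hD i (by omega), ctrMk_chain hN hD (i + 1) (by omega)]
      ring
  have hpush : pushV ends D κ = Matrix.mulVec (mfMatrix (ctrEnds ends D) (ctrFn ends D β)) z := by
    rw [hκ, map_sub, map_smul, map_sub, pushV_single, pushV_single, ctrMk_chain hN hD m le_rfl, sub_self,
      smul_zero, sub_zero, hw, K1' hβ hN hβm hD]
  rw [← hpush, lift_push hN hD κ hκ0]
  exact hκL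

include hβ hN heinj hβm hα hconn hD in
lemma interior_push_zero (Y : V → ℤ) (hY : ∀ v, (¬ ∃ i, 0 < i ∧ i < m ∧ g i = v) → Y v = 0) :
    pushV ends D (Matrix.mulVec (mfMatrix ends β) Y) = 0 := by
  have hY' : Y = ∑ w, Y w • (Pi.single w (1:ℤ) : V → ℤ) := by
    funext v; simp [Finset.sum_apply, Pi.single_apply]
  rw [hY', ← Matrix.mulVecLin_apply, map_sum, map_sum]
  refine Finset.sum_eq_zero fun w _ => ?_
  rw [map_smul, map_smul]
  by_cases hw : ∃ i, 0 < i ∧ i < m ∧ g i = w
  · obtain ⟨i, hi0, him, rfl⟩ := hw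
    rw [Matrix.mulVecLin_apply, col_interior hβ hN heinj hβm hα hconn i hi0 him, map_add, map_sub, map_smul,
      pushV_single, pushV_single, pushV_single, ctrMk_chain hN hD (i - 1) (by omega),
      ctrMk_chain hN hD i (by omega), ctrMk_chain hN hD (i + 1) (by omega)]
    have : (Pi.single (ctrMk ends D (g 0)) (1:ℤ) - (2:ℤ) • Pi.single (ctrMk ends D (g 0)) (1:ℤ)
        + Pi.single (ctrMk ends D (g 0)) (1:ℤ) : CtrVert ends D → ℤ) = 0 := by module
    rw [this, smul_zero]
  · rw [hY w hw, zero_smul]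

include hβ hN heinj hβm hα hconn hD in
/-- injectivity: `f x ∈ im α → x ∈ im α'` -/
lemma range_of_lift (hm : 1 ≤ m) (x : CtrVert ends D → ℤ) (y : V → ℤ)
    (hxy : liftAt ends D (g 0) x = Matrix.mulVec (mfMatrix ends β) y) :
    ∃ z, Matrix.mulVec (mfMatrix (ctrEnds ends D) (ctrFn ends D β)) z = x := by
  have hne : ∀ a b, a ≤ m → b ≤ m → a ≠ b → g a ≠ g b := fun a b ha hb hab h => hab (hN.inj a b ha hb h)
  -- rows
  have hrow : ∀ i, 0 < i → i < m → y (g (i - 1)) - 2 * y (g i) + y (g (i + 1)) = 0 := by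
    intro i hi0 him
    rw [← row_interior hβ hN heinj hβm hα hconn i hi0 him y, ← hxy]
    unfold liftAt
    rw [if_pos ((nonrep_iff hN hD (g i)).2 ⟨i, hi0, him.le, rfl⟩)]
  set δ := y (g 1) - y (g 0) with hδ
  have hlin' : ∀ i, i + 1 ≤ m → (y (g i) = y (g 0) + i * δ ∧ y (g (i + 1)) = y (g 0) + (i + 1 : ℕ) * δ) := by
    intro i
    induction i with
    | zero => intro _; constructor <;> simp [hδ]
    | succ i ih =>
      intro hi
      obtain ⟨h1, h2⟩ := ih (by omega)
      refine ⟨h2, ?_⟩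
      have := hrow (i + 1) (by omega) (by omega)
      rw [show i + 1 - 1 = i by omega] at this
      push_cast at h2 ⊢
      linarith
  have hlin : y (g m) = y (g 0) + m * δ := by
    have := (hlin' (m - 1) (by omega)).2
    rwa [show m - 1 + 1 = m by omega] at this
  -- cut
  obtain ⟨S, hS1, hgm, hcut⟩ := cut_formula hβ hN heinj hβm hα hconn hm
  set uS : V → ℤ := yS β S - (m:ℤ) • Pi.single (g m) (1:ℤ) with huS
  have huS0 : ∀ i, i ≤ m → uS (g i) = 0 := by
    intro i hi
    simp only [huS, Pi.sub_apply, Pi.smul_apply, Pi.single_apply, smul_eq_mul, yS]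
    by_cases him : i = m
    · subst him
      rw [if_pos hgm, if_pos rfl, hβm i le_rfl]; ring
    · rw [if_neg (hS1 i (by omega)), if_neg (hne _ _ hi le_rfl him)]; ring
  set zS := pushV ends D uS with hzS
  have hpull : (fun v => zS (ctrMk ends D v)) = uS := pull_push hN hD uS huS0
  -- representatives part of y
  set yr : V → ℤ := fun v => if (ctrMk ends D v = ctrMk ends D (g 0) ∧ v ≠ g 0) then 0 else y v with hyr
  have hyr0 : ∀ i, 1 ≤ i → i ≤ m → yr (g i) = 0 := by
    intro i hi1 him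
    simp only [hyr]
    rw [if_pos ((nonrep_iff hN hD (g i)).2 ⟨i, hi1, him, rfl⟩)]
  set z := pushV ends D yr with hz
  have hlift : liftAt ends D (g 0) z = yr := lift_push hN hD yr hyr0
  set p : V → ℤ := fun v => z (ctrMk ends D v) with hp
  have hp_rep : ∀ v, ¬ (ctrMk ends D v = ctrMk ends D (g 0) ∧ v ≠ g 0) → p v = y v := by
    intro v hv
    have := congrFun hlift v
    simp only [liftAt, hyr] at this
    rw [if_neg hv, if_neg hv] at this
    exact this
  have hp0 : p (g 0) = y (g 0) := hp_rep (g 0) (fun h => h.2 rfl)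
  have hp_chain : ∀ i, i ≤ m → p (g i) = y (g 0) := by
    intro i hi
    rw [← hp0]
    simp only [hp]
    rw [ctrMk_chain hN hD i hi]
  set Y₀ : V → ℤ := y - p - ((m:ℤ) * δ) • Pi.single (g m) (1:ℤ) with hY₀
  have hY₀0 : ∀ v, (¬ ∃ i, 0 < i ∧ i < m ∧ g i = v) → Y₀ v = 0 := by
    intro v hv
    simp only [hY₀, Pi.sub_apply, Pi.smul_apply, Pi.single_apply, smul_eq_mul]
    by_cases hnr : ctrMk ends D v = ctrMk ends D (g 0) ∧ v ≠ g 0
    · obtain ⟨i, hi1, him, rfl⟩ := (nonrep_iff hN hD v).1 hnr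
      have him' : i = m := by
        by_contra hcon
        exact hv ⟨i, by omega, by omega, rfl⟩
      subst him'
      rw [if_pos rfl, hp_chain i le_rfl, hlin]; ring
    · have hvm : v ≠ g m := by
        rintro rfl
        exact hnr ((nonrep_iff hN hD (g m)).2 ⟨m, hm, le_rfl, rfl⟩)
      rw [hp_rep v hnr, if_neg hvm]; ring
  -- column m
  have hcolm : (m:ℤ) • pushV ends D (Matrix.mulVec (mfMatrix ends β) (Pi.single (g m) (1:ℤ)))
      = - Matrix.mulVec (mfMatrix (ctrEnds ends D) (ctrFn ends D β)) zS := by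
    have h1 : yS β S = (fun v => zS (ctrMk ends D v)) + (m:ℤ) • Pi.single (g m) (1:ℤ) := by
      rw [hpull, huS]; abel
    have h2 := congrArg (pushV ends D) hcut
    rw [h1, ← Matrix.mulVecLin_apply, map_add, map_smul, map_add, map_smul, Matrix.mulVecLin_apply,
      Matrix.mulVecLin_apply, K1' hβ hN hβm hD, map_smul, map_sub, pushV_single, pushV_single,
      ctrMk_chain hN hD (m - 1) (by omega), ctrMk_chain hN hD m le_rfl, sub_self, smul_zero] at h2
    rw [eq_neg_iff_add_eq_zero, add_comm]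
    exact h2
  -- assemble
  have hy : y = p + Y₀ + ((m:ℤ) * δ) • Pi.single (g m) (1:ℤ) := by
    rw [hY₀]; abel
  have hx : x = pushV ends D (Matrix.mulVec (mfMatrix ends β) y) := by
    rw [← hxy, push_lift hN hD]
  refine ⟨z - δ • zS, ?_⟩
  have hsplit : Matrix.mulVec (mfMatrix ends β) (p + Y₀ + ((m:ℤ) * δ) • Pi.single (g m) (1:ℤ))
      = Matrix.mulVec (mfMatrix ends β) p + Matrix.mulVec (mfMatrix ends β) Y₀
        + ((m:ℤ) * δ) • Matrix.mulVec (mfMatrix ends β) (Pi.single (g m) (1:ℤ)) := by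
    rw [Matrix.mulVec_add, Matrix.mulVec_add, Matrix.mulVec_smul]
  have hR : x = Matrix.mulVec (mfMatrix (ctrEnds ends D) (ctrFn ends D β)) z
      + δ • ((m:ℤ) • pushV ends D (Matrix.mulVec (mfMatrix ends β) (Pi.single (g m) (1:ℤ)))) := by
    rw [hx]
    conv_lhs => rw [hy]
    rw [hsplit, map_add, map_add, map_smul, interior_push_zero hβ hN heinj hβm hα hconn hD Y₀ hY₀0,
      K1' hβ hN hβm hD, add_zero, mul_comm, mul_smul]
  rw [hR, hcolm, Matrix.mulVec_sub, Matrix.mulVec_smul]
  simp only [smul_neg]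
  abel

include hN hD in
lemma mem_range_liftL_of_vanish (q : V → ℤ) (hq : ∀ i, 1 ≤ i → i ≤ m → q (g i) = 0) :
    q ∈ LinearMap.range (liftL ends D (g 0)) :=
  ⟨pushV ends D q, by rw [liftL_apply, lift_push hN hD q hq]⟩

include hβ hN heinj hβm hα hconn hD in
lemma single_mem_sup (hm : 1 ≤ m) (v : V) :
    (Pi.single v (1:ℤ) : V → ℤ) ∈ LinearMap.range (liftL ends D (g 0)) ⊔
      LinearMap.range (Matrix.mulVecLin (mfMatrix ends β)) := by
  set T := LinearMap.range (liftL ends D (g 0)) ⊔ LinearMap.range (Matrix.mulVecLin (mfMatrix ends β)) with hT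
  have hne : ∀ a b, a ≤ m → b ≤ m → a ≠ b → g a ≠ g b := fun a b ha hb hab h => hab (hN.inj a b ha hb h)
  have hL : LinearMap.range (Matrix.mulVecLin (mfMatrix ends β)) ≤ T := le_sup_right
  have hF : LinearMap.range (liftL ends D (g 0)) ≤ T := le_sup_left
  -- dd 0
  have hdd0 : dd g 0 ∈ T := by
    set q : V → ℤ := dd g 0 - Matrix.mulVec (mfMatrix ends β) (Pi.single (g 0) (1:ℤ)) with hq
    have hq0 : ∀ i, 1 ≤ i → i ≤ m → q (g i) = 0 := by
      intro i hi1 him
      have h0 : g i ≠ g 0 := hne _ _ him (by omega) (by omega)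
      by_cases h1 : i = 1
      · subst h1
        simp [hq, dd, mulVec_single hβ, col_zero hβ hN heinj hβm hα hconn 1 le_rfl him, h0]
      · have h1' : g i ≠ g 1 := hne _ _ him (by omega) h1
        simp [hq, dd, mulVec_single hβ, col_zero hβ hN heinj hβm hα hconn i hi1 him, h0, h1', h1]
    have h1 : q ∈ T := hF (mem_range_liftL_of_vanish hN hD q hq0)
    have h2 : Matrix.mulVec (mfMatrix ends β) (Pi.single (g 0) (1:ℤ)) ∈ T := hL ⟨_, rfl⟩
    have : dd g 0 = q + Matrix.mulVec (mfMatrix ends β) (Pi.single (g 0) (1:ℤ)) := by rw [hq]; abel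
    rw [this]
    exact Submodule.add_mem _ h1 h2
  have hddi : ∀ i, i < m → dd g i ∈ T := by
    intro i hi
    have h1 := hL (dd_sub_zero hβ hN heinj hβm hα hconn i hi)
    have : dd g i = (dd g i - dd g 0) + dd g 0 := by abel
    rw [this]
    exact Submodule.add_mem _ h1 hdd0
  have hg0 : (Pi.single (g 0) (1:ℤ) : V → ℤ) ∈ T := by
    apply hF
    apply mem_range_liftL_of_vanish hN hD
    intro i hi1 him
    rw [Pi.single_apply, if_neg (hne _ _ him (by omega) (by omega))]
  by_cases hnr : ctrMk ends D v = ctrMk ends D (g 0) ∧ v ≠ g 0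
  · obtain ⟨i, hi1, him, rfl⟩ := (nonrep_iff hN hD v).1 hnr
    have hsum : (Pi.single (g i) (1:ℤ) : V → ℤ) = Pi.single (g 0) (1:ℤ) + ∑ j ∈ range i, dd g j := by
      unfold dd
      rw [Finset.sum_range_sub (fun i => (Pi.single (g i) (1:ℤ) : V → ℤ))]
      abel
    rw [hsum]
    exact Submodule.add_mem _ hg0 (Submodule.sum_mem _ fun j hj => hddi j (by have := mem_range.1 hj; omega))
  · apply hF
    apply mem_range_liftL_of_vanish hN hD
    intro i hi1 him
    rw [Pi.single_apply, if_neg]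
    rintro rfl
    exact hnr ((nonrep_iff hN hD (g i)).2 ⟨i, hi1, him, rfl⟩)

include hβ hN heinj hβm hα hconn hD in
/-- surjectivity: every vector is `f x + α w` -/
lemma exists_decomp (hm : 1 ≤ m) (y : V → ℤ) :
    ∃ (x : CtrVert ends D → ℤ) (w : V → ℤ),
      y = liftAt ends D (g 0) x + Matrix.mulVec (mfMatrix ends β) w := by
  have hy' : y = ∑ v, y v • (Pi.single v (1:ℤ) : V → ℤ) := by
    funext v; simp [Finset.sum_apply, Pi.single_apply]
  have hmem : y ∈ LinearMap.range (liftL ends D (g 0)) ⊔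
      LinearMap.range (Matrix.mulVecLin (mfMatrix ends β)) := by
    rw [hy']
    exact Submodule.sum_mem _ fun v _ => Submodule.smul_mem _ _
      (single_mem_sup hβ hN heinj hβm hα hconn hD hm v)
  obtain ⟨a, ⟨x, rfl⟩, b, ⟨w, rfl⟩, hab⟩ := Submodule.mem_sup.1 hmem
  exact ⟨x, w, hab.symm⟩

include hβ in
/-- `β ∘ α = 0` -/
lemma beta_mulVec (w : V → ℤ) : betaHom β (Matrix.mulVec (mfMatrix ends β) w) = 0 := by
  unfold betaHom
  rw [Fintype.linearCombination_apply]
  simp only [Matrix.mulVec, dotProduct, smul_eq_mul, Finset.sum_mul]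
  rw [Finset.sum_comm]
  refine Finset.sum_eq_zero fun u _ => ?_
  have : ∀ v, mfMatrix ends β v u * w u * β v = w u * (mfMatrix ends β u v * β v) := by
    intro v; rw [mf_symm' hβ v u]; ring
  rw [Finset.sum_congr rfl (fun v _ => this v), ← Finset.mul_sum, mf_row ends β hβ u, mul_zero]

end main

end Groth.Agent.H9.Ctr
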