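import Mathlib
import Groth.Agent.Lib.Helper9.Misc.Ctr5

/-! Helper9: contraction of a chain of connecting edges induces an isomorphism of component groups (S14800, S14801, S14802). -/

namespace Groth.Agent.H9.Ctr

open LabGraph DualGr Finset

universe u

set_option linter.unusedSectionVars false

variable {V E : Type u} [Fintype V] [Fintype E] [DecidableEq V] [DecidableEq E]

section main

variable {ends : E → V × V} {β : V → ℤ} (hβ : IsMultFn ends β)
  {m : ℕ} {g : ℕ → V} {ee : ℕ → E} (hN : NChain ends m g ee)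
  (heinj : ∀ i j, i < m → j < m → ee i = ee j → i = j)
  (hβm : ∀ i, i ≤ m → β (g i) = m)
  (hα : ∀ i, i ≤ m → mfMatrix ends β (g i) (g i) = -2)
  (hconn : ∀ i, i < m → IsConnecting ends (ee i))
  {D : Finset E} (hD : ∀ x, x ∈ D ↔ ∃ i, i < m ∧ ee i = x)

include hN hβm hD in
lemma beta_lift (x : CtrVert ends D → ℤ) :
    betaHom β (liftAt ends D (g 0) x) = betaHom (ctrFn ends D β) x := by
  unfold betaHom
  rw [Fintype.linearCombination_apply, Fintype.linearCombination_apply]
  simp only [smul_eq_mul]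
  have h1 : ∀ c, ctrFn ends D β c = ∑ v, (if ctrMk ends D v = c then liftAt ends D (g 0) (ctrFn ends D β) v else 0) := by
    intro c
    rw [← pushV_apply, push_lift hN hD]
  have h2 : ∑ c, x c * ctrFn ends D β c
      = ∑ c, x c * ∑ v, (if ctrMk ends D v = c then liftAt ends D (g 0) (ctrFn ends D β) v else 0) :=
    Finset.sum_congr rfl (fun c _ => by rw [← h1 c])
  rw [h2, sum_fiber]
  refine Finset.sum_congr rfl fun v _ => ?_
  unfold liftAt
  by_cases h : ctrMk ends D v = ctrMk ends D (g 0) ∧ v ≠ g 0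
  · rw [if_pos h, if_pos h]; ring
  · rw [if_neg h, if_neg h, ctrFn_mk ends D β (hconst_chain hN hβm hD)]

include hβ hN heinj hβm hα hconn hD in
theorem compGrp_hom (hm : 1 ≤ m) :
    ∃ φ : CompGrp (ctrEnds ends D) (ctrFn ends D β) →+ CompGrp ends β,
      Function.Surjective φ ∧
      ∀ (x : LinearMap.ker (betaHom (ctrFn ends D β))) (y : LinearMap.ker (betaHom β)),
        (y : V → ℤ) = liftAt ends D (g 0) (x : CtrVert ends D → ℤ) →
        φ (Submodule.Quotient.mk x) = Submodule.Quotient.mk y := by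
  set F : LinearMap.ker (betaHom (ctrFn ends D β)) →ₗ[ℤ] LinearMap.ker (betaHom β) :=
    LinearMap.codRestrict _ ((liftL ends D (g 0)).comp (Submodule.subtype _)) (fun x => by
      rw [LinearMap.mem_ker, LinearMap.comp_apply, liftL_apply, beta_lift hN hβm hD]
      exact x.2) with hF
  have hFval : ∀ x, ((F x : LinearMap.ker (betaHom β)) : V → ℤ) = liftAt ends D (g 0) (x : CtrVert ends D → ℤ) :=
    fun x => rfl
  have hle : (LinearMap.range (Matrix.mulVecLin (mfMatrix (ctrEnds ends D) (ctrFn ends D β)))).comap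
        (LinearMap.ker (betaHom (ctrFn ends D β))).subtype ≤
      ((LinearMap.range (Matrix.mulVecLin (mfMatrix ends β))).comap
        (LinearMap.ker (betaHom β)).subtype).comap F := by
    intro x hx
    rw [Submodule.mem_comap] at hx ⊢
    rw [Submodule.mem_comap]
    obtain ⟨z, hz⟩ := hx
    change ((F x : LinearMap.ker (betaHom β)) : V → ℤ) ∈ _
    rw [hFval]
    have : ((x : CtrVert ends D → ℤ)) = Matrix.mulVec (mfMatrix (ctrEnds ends D) (ctrFn ends D β)) z := by
      rw [← Matrix.mulVecLin_apply, hz]; rfl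
    rw [this]
    exact lift_mem_range hβ hN heinj hβm hα hconn hD hm z
  set Φ := Submodule.mapQ _ _ F hle with hΦ
  refine ⟨Φ.toAddMonoidHom, ?_, ?_⟩
  · intro q
    obtain ⟨y, rfl⟩ := Submodule.Quotient.mk_surjective _ q
    obtain ⟨x, w, hxw⟩ := exists_decomp hβ hN heinj hβm hα hconn hD hm (y : V → ℤ)
    have hxker : x ∈ LinearMap.ker (betaHom (ctrFn ends D β)) := by
      rw [LinearMap.mem_ker, ← beta_lift hN hβm hD]
      have hy := y.2
      rw [LinearMap.mem_ker, hxw, map_add, beta_mulVec hβ, add_zero] at hy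
      exact hy
    refine ⟨Submodule.Quotient.mk ⟨x, hxker⟩, ?_⟩
    change Φ (Submodule.Quotient.mk ⟨x, hxker⟩) = _
    rw [hΦ, Submodule.mapQ_apply, Submodule.Quotient.eq, Submodule.mem_comap]
    change ((F ⟨x, hxker⟩ : LinearMap.ker (betaHom β)) : V → ℤ) - (y : V → ℤ) ∈ _
    rw [hFval, hxw]
    refine ⟨-w, ?_⟩
    rw [map_neg, Matrix.mulVecLin_apply]
    abel
  · intro x y hxy
    change Φ (Submodule.Quotient.mk x) = _
    rw [hΦ, Submodule.mapQ_apply]
    congr 1
    exact Subtype.ext (by rw [hFval, hxy])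

include hβ hN heinj hβm hα hconn hD in
theorem compGrp_inj (hm : 1 ≤ m) (x : CtrVert ends D → ℤ)
    (hfx : liftAt ends D (g 0) x ∈ LinearMap.range (Matrix.mulVecLin (mfMatrix ends β))) :
    x ∈ LinearMap.range (Matrix.mulVecLin (mfMatrix (ctrEnds ends D) (ctrFn ends D β))) := by
  obtain ⟨y, hy⟩ := hfx
  rw [Matrix.mulVecLin_apply] at hy
  obtain ⟨z, hz⟩ := range_of_lift hβ hN heinj hβm hα hconn hD hm x y hy.symm
  exact ⟨z, by rw [Matrix.mulVecLin_apply, hz]⟩

end main

/-- turning a `Fin`-indexed chain into a natural-number indexed one -/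
lemma nchain_of_isChain {ends : E → V × V} {m : ℕ} (hm : 1 ≤ m) (f : Fin (m + 1) → V) (e : Fin m → E)
    (hC : IsChain ends f e) :
    ∃ (g : ℕ → V) (ee : ℕ → E), NChain ends m g ee ∧
      (∀ i j, i < m → j < m → ee i = ee j → i = j) ∧ g 0 = f 0 ∧
      (∀ i (hi : i ≤ m), g i = f ⟨i, by omega⟩) ∧ (∀ i (hi : i < m), ee i = e ⟨i, hi⟩) ∧
      (∀ x, x ∈ univ.image e ↔ ∃ i, i < m ∧ ee i = x) := by
  refine ⟨fun i => if h : i ≤ m then f ⟨i, by omega⟩ else f 0,
    fun i => if h : i < m then e ⟨i, h⟩ else e ⟨0, by omega⟩, ⟨?_, ?_⟩, ?_, ?_, ?_, ?_, ?_⟩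
  · intro i j hi hj h
    simp only [dif_pos hi, dif_pos hj] at h
    have := hC.1 h
    simpa using this
  · intro i hi
    simp only [dif_pos hi, dif_pos hi.le, dif_pos (show i + 1 ≤ m by omega)]
    exact hC.2.2 ⟨i, hi⟩
  · intro i j hi hj h
    simp only [dif_pos hi, dif_pos hj] at h
    have := hC.2.1 h
    simpa using this
  · simp
  · intro i hi
    simp [hi]
  · intro i hi
    simp [hi]
  · intro x
    rw [mem_image]
    constructor
    · rintro ⟨i, -, rfl⟩
      exact ⟨i.1, i.2, by simp [i.2]⟩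
    · rintro ⟨i, hi, rfl⟩
      exact ⟨⟨i, hi⟩, mem_univ _, by simp [hi]⟩

lemma ctrMk_eq_of_empty {ends : E → V × V} {D : Finset E} (hD : D = ∅) (u v : V)
    (h : ctrMk ends D u = ctrMk ends D v) : u = v := by
  have h' : Relation.EqvGen (CtrRel ends D) u v := Quotient.exact h
  induction h' with
  | rel x y hxy =>
    obtain ⟨e, he, -⟩ := hxy
    rw [hD] at he
    exact absurd he (Finset.notMem_empty e)
  | refl x => rfl
  | symm x y _ ih => exact (ih (Quotient.sound (by assumption))).symm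
  | trans x y z hxy hyz ih1 ih2 => exact (ih1 (Quotient.sound hxy)).trans (ih2 (Quotient.sound hyz))

theorem s14800 (ends : E → V × V) (β : V → ℤ) (hβ : LabGraph.IsMultFn ends β)
    {k : ℕ} (f : Fin (k + 1) → V) (e : Fin k → E) (hC : LabGraph.IsChain ends f e)
    (hconst : ∀ i j, β (f i) = β (f j)) :
    LabGraph.IsMultFn (DualGr.ctrEnds ends (univ.image e))
      (LabGraph.ctrFn ends (univ.image e) β) := by
  apply isMultFn_ctr ends (univ.image e) β hβ
  intro u v huv
  by_cases hk : 1 ≤ k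
  · obtain ⟨g, ee, hN, heinj, hg0, hg, hee, hD⟩ := nchain_of_isChain hk f e hC
    rcases (ctrMk_eq_iff hN hD u v).1 huv with h | ⟨⟨i, hi, rfl⟩, ⟨j, hj, rfl⟩⟩
    · rw [h]
    · rw [hg i hi, hg j hj]; exact hconst _ _
  · have hk0 : k = 0 := by omega
    subst hk0
    have hD : (univ.image e) = ∅ := by
      rw [Finset.image_eq_empty]
      exact Finset.univ_eq_empty
    rw [ctrMk_eq_of_empty hD u v huv]

theorem s14801 (ends : E → V × V) (β : V → ℤ) (hβ : LabGraph.IsMultFn ends β)
    (m : ℕ) (f : Fin (m + 1) → V) (e : Fin m → E) (hC : LabGraph.IsChain ends f e)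
    (hconn : ∀ i, LabGraph.IsConnecting ends (e i)) (hβm : ∀ i, β (f i) = m)
    (hα : ∀ i, LabGraph.mfMatrix ends β (f i) (f i) = -2) :
    ∃ φ : LabGraph.CompGrp (DualGr.ctrEnds ends (univ.image e)) (LabGraph.ctrFn ends (univ.image e) β) →+
        LabGraph.CompGrp ends β,
      Function.Surjective φ ∧
      ∀ (x : LinearMap.ker (LabGraph.betaHom (LabGraph.ctrFn ends (univ.image e) β)))
        (y : LinearMap.ker (LabGraph.betaHom β)),
        (y : V → ℤ) = LabGraph.liftAt ends (univ.image e) (f 0) (x : DualGr.CtrVert ends (univ.image e) → ℤ) →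
        φ (Submodule.Quotient.mk x) = Submodule.Quotient.mk y := by
  have hm : 1 ≤ m := by
    have := (hβ (f 0)).1
    rw [hβm 0] at this
    exact_mod_cast this
  obtain ⟨g, ee, hN, heinj, hg0, hg, hee, hD⟩ := nchain_of_isChain hm f e hC
  have hβm' : ∀ i, i ≤ m → β (g i) = m := fun i hi => by rw [hg i hi]; exact hβm _
  have hα' : ∀ i, i ≤ m → mfMatrix ends β (g i) (g i) = -2 := fun i hi => by rw [hg i hi]; exact hα _
  have hconn' : ∀ i, i < m → IsConnecting ends (ee i) := fun i hi => by rw [hee i hi]; exact hconn _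
  have := compGrp_hom hβ hN heinj hβm' hα' hconn' hD hm
  rw [hg0] at this
  exact this

theorem s14802 (ends : E → V × V) (β : V → ℤ) (hβ : LabGraph.IsMultFn ends β)
    (m : ℕ) (f : Fin (m + 1) → V) (e : Fin m → E) (hC : LabGraph.IsChain ends f e)
    (hconn : ∀ i, LabGraph.IsConnecting ends (e i)) (hβm : ∀ i, β (f i) = m)
    (hα : ∀ i, LabGraph.mfMatrix ends β (f i) (f i) = -2)
    (x : DualGr.CtrVert ends (univ.image e) → ℤ)
    (hfx : LabGraph.liftAt ends (univ.image e) (f 0) x ∈
      LinearMap.range (Matrix.mulVecLin (LabGraph.mfMatrix ends β))) :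
    x ∈ LinearMap.range (Matrix.mulVecLin
      (LabGraph.mfMatrix (DualGr.ctrEnds ends (univ.image e)) (LabGraph.ctrFn ends (univ.image e) β))) := by
  have hm : 1 ≤ m := by
    have := (hβ (f 0)).1
    rw [hβm 0] at this
    exact_mod_cast this
  obtain ⟨g, ee, hN, heinj, hg0, hg, hee, hD⟩ := nchain_of_isChain hm f e hC
  have hβm' : ∀ i, i ≤ m → β (g i) = m := fun i hi => by rw [hg i hi]; exact hβm _
  have hα' : ∀ i, i ≤ m → mfMatrix ends β (g i) (g i) = -2 := fun i hi => by rw [hg i hi]; exact hα _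
  have hconn' : ∀ i, i < m → IsConnecting ends (ee i) := fun i hi => by rw [hee i hi]; exact hconn _
  rw [← hg0] at hfx
  exact compGrp_inj hβ hN heinj hβm' hα' hconn' hD hm x hfx

end Groth.Agent.H9.Ctr
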