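import Mathlib
import Groth.Agent.Lib.Helper9.Misc.CubicLines1

/-! Helper9: at most three coplanar lines through a point of a smooth cubic surface. -/

set_option autoImplicit false
set_option linter.unusedSectionVars false

namespace Groth.Agent.H9.CubicLines

open MvPolynomial Groth.Agent.H9.CubicFormK

universe u

variable {K : Type u} [Field K] [CharZero K] [IsAlgClosed K]

theorem four_lines_false {f : MvPolynomial (Fin 4) K} (hf : f.IsHomogeneous 3)
    (hsm : ∀ v : Fin 4 → K, v ≠ 0 → eval v f = 0 → ∃ i, eval v (pderiv i f) ≠ 0)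
    (v : Fin 4 → K) (hv : v ≠ 0) (hfv : eval v f = 0)
    (g : Fin 4 → Submodule K (Fin 4 → K))
    (hg : ∀ i, v ∈ g i ∧ (Module.finrank K ↥(g i) = 2 ∧ ∀ u ∈ g i, eval u f = 0))
    (hinj : Function.Injective g) : False := by
  have h0 : T f v v v = 0 := by rw [← eval_eq_T hf]; exact hfv
  obtain ⟨z, hz⟩ := smooth_T hf hsm v hv h0
  set H := LinearMap.ker (Tlin f v v) with hHdef
  have hH3 : Module.finrank K ↥H = 3 := by
    have : Module.finrank K ↥H + 1 = 4 := finrank_ker_of_ne_zero (Tlin f v v) (z := z) hz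
    omega
  have hUH : ∀ i, g i ≤ H := fun i u hu => (line_T hf (hg i).1 (hg i).2.2 hu).1
  -- choose w i
  have hw : ∀ i, ∃ w ∈ g i, w ∉ Submodule.span K {v} := fun i => exists_not_mem_span (hg i).2.1 v
  choose w hwg hwv using hw
  have hrep : ∀ i, ∀ x ∈ g i, ∃ a b : K, x = a • v + b • w i := fun i x hx =>
    mem_span_pair_of_finrank_two (hg i).2.1 (hg i).1 (hwg i) hv (hwv i) hx
  have hne : ∀ i j, i ≠ j → w j ∉ g i := by
    intro i j hij hmem
    apply hij
    apply hinj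
    symm
    apply Submodule.eq_of_le_of_finrank_eq
    · intro x hx
      obtain ⟨a, b, rfl⟩ := hrep j x hx
      exact (g i).add_mem ((g i).smul_mem _ (hg i).1) ((g i).smul_mem _ hmem)
    · rw [(hg i).2.1, (hg j).2.1]
  -- H = g 0 ⊔ span {w 1}
  have hHeq : g 0 ⊔ Submodule.span K {w 1} = H := by
    apply Submodule.eq_of_le_of_finrank_eq
    · apply sup_le (hUH 0)
      rw [Submodule.span_le]
      intro x hx
      rw [Set.mem_singleton_iff] at hx
      rw [hx]
      exact hUH 1 (hwg 1)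
    · rw [sup_span_finrank _ (hne 0 1 (by decide)), (hg 0).2.1, hH3]
  have hdec : ∀ x ∈ H, ∃ α a b : K, x = α • v + a • w 0 + b • w 1 := by
    intro x hx
    rw [← hHeq] at hx
    obtain ⟨y, hy, y', hy', rfl⟩ := Submodule.mem_sup.1 hx
    obtain ⟨b, rfl⟩ := Submodule.mem_span_singleton.1 hy'
    obtain ⟨α, a, rfl⟩ := hrep 0 y hy
    exact ⟨α, a, b, rfl⟩
  -- basic zeros
  have z1 : ∀ i, T f v v (w i) = 0 := fun i => (line_T hf (hg i).1 (hg i).2.2 (hwg i)).1
  have z2 : ∀ i, T f v (w i) (w i) = 0 := fun i => (line_T hf (hg i).1 (hg i).2.2 (hwg i)).2.1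
  have z3 : ∀ i, T f (w i) (w i) (w i) = 0 := fun i => (line_T hf (hg i).1 (hg i).2.2 (hwg i)).2.2
  obtain ⟨α, a, b, h2⟩ := hdec (w 2) (hUH 2 (hwg 2))
  obtain ⟨α', a', b', h3⟩ := hdec (w 3) (hUH 3 (hwg 3))
  have ha : a ≠ 0 := by
    rintro rfl
    apply hne 1 2 (by decide)
    rw [h2, zero_smul, add_zero]
    exact (g 1).add_mem ((g 1).smul_mem _ (hg 1).1) ((g 1).smul_mem _ (hwg 1))
  have hb : b ≠ 0 := by
    rintro rfl
    apply hne 0 2 (by decide)
    rw [h2, zero_smul, add_zero]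
    exact (g 0).add_mem ((g 0).smul_mem _ (hg 0).1) ((g 0).smul_mem _ (hwg 0))
  have hdet : a * b' - a' * b ≠ 0 := by
    intro hd
    apply hne 2 3 (by decide)
    have : w 3 = (α' - a' / a * α) • v + (a' / a) • w 2 := by
      rw [h3, h2]
      have hb' : b' = a' / a * b := by
        field_simp
        linear_combination hd
      rw [hb']
      simp only [smul_add, smul_smul, sub_smul]
      have : a' / a * a = a' := by field_simp
      rw [this]
      abel
    rw [this]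
    exact (g 2).add_mem ((g 2).smul_mem _ (hg 2).1) ((g 2).smul_mem _ (hwg 2))
  -- γ = 0
  have hγ : T f v (w 0) (w 1) = 0 := by
    have := z2 2
    rw [h2, expandq, h0, z2 0, z2 1, z1 0, z1 1] at this
    have h4 : 2 * a * b * T f v (w 0) (w 1) = 0 := by linear_combination this
    have : 2 * a * b ≠ 0 := by
      refine mul_ne_zero (mul_ne_zero two_ne_zero ha) hb
    exact (mul_eq_zero.mp h4).resolve_left this
  have e2 : a * T f (w 0) (w 0) (w 1) + b * T f (w 0) (w 1) (w 1) = 0 := by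
    have := z3 2
    rw [← eval_eq_T hf, h2, expand3 hf, h0, z3 0, z3 1, z1 0, z1 1, z2 0, z2 1, hγ] at this
    have h4 : (3 * a * b) * (a * T f (w 0) (w 0) (w 1) + b * T f (w 0) (w 1) (w 1)) = 0 := by
      linear_combination this
    have : 3 * a * b ≠ 0 := mul_ne_zero (mul_ne_zero three_ne_zero ha) hb
    exact (mul_eq_zero.mp h4).resolve_left this
  have ha' : a' ≠ 0 := by
    rintro rfl
    apply hne 1 3 (by decide)
    rw [h3, zero_smul, add_zero]
    exact (g 1).add_mem ((g 1).smul_mem _ (hg 1).1) ((g 1).smul_mem _ (hwg 1))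
  have hb' : b' ≠ 0 := by
    rintro rfl
    apply hne 0 3 (by decide)
    rw [h3, zero_smul, add_zero]
    exact (g 0).add_mem ((g 0).smul_mem _ (hg 0).1) ((g 0).smul_mem _ (hwg 0))
  have e3 : a' * T f (w 0) (w 0) (w 1) + b' * T f (w 0) (w 1) (w 1) = 0 := by
    have := z3 3
    rw [← eval_eq_T hf, h3, expand3 hf, h0, z3 0, z3 1, z1 0, z1 1, z2 0, z2 1, hγ] at this
    have h4 : (3 * a' * b') * (a' * T f (w 0) (w 0) (w 1) + b' * T f (w 0) (w 1) (w 1)) = 0 := by
      linear_combination this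
    have : 3 * a' * b' ≠ 0 := mul_ne_zero (mul_ne_zero three_ne_zero ha') hb'
    exact (mul_eq_zero.mp h4).resolve_left this
  have hA : T f (w 0) (w 0) (w 1) = 0 := by
    have h4 : (a * b' - a' * b) * T f (w 0) (w 0) (w 1) = 0 := by
      linear_combination b' * e2 - b * e3
    exact (mul_eq_zero.mp h4).resolve_left hdet
  have hB : T f (w 0) (w 1) (w 1) = 0 := by
    have h4 : (a * b' - a' * b) * T f (w 0) (w 1) (w 1) = 0 := by
      linear_combination a * e3 - a' * e2
    exact (mul_eq_zero.mp h4).resolve_left hdet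
  -- f vanishes on H
  refine no_plane hf hsm H hH3 ?_
  intro x hx
  obtain ⟨s, x0, x1, rfl⟩ := hdec x hx
  rw [expand3 hf, h0, z3 0, z3 1, z1 0, z1 1, z2 0, z2 1, hγ, hA, hB]
  ring

theorem S10897 (f : MvPolynomial (Fin 4) K) (hf : f.IsHomogeneous 3) (hf0 : f ≠ 0)
    (hsm : ∀ v : Fin 4 → K, v ≠ 0 → MvPolynomial.eval v f = 0 →
      ∃ i : Fin 4, MvPolynomial.eval v (MvPolynomial.pderiv i f) ≠ 0)
    (v : Fin 4 → K) (hv : v ≠ 0) (hfv : MvPolynomial.eval v f = 0) :
    {U : Submodule K (Fin 4 → K) | v ∈ U ∧ (Module.finrank K ↥U = 2 ∧ ∀ u ∈ U, MvPolynomial.eval u f = 0)}.Finite ∧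
      {U : Submodule K (Fin 4 → K) | v ∈ U ∧ (Module.finrank K ↥U = 2 ∧ ∀ u ∈ U, MvPolynomial.eval u f = 0)}.ncard ≤ 3 ∧
      ∃ H : Submodule K (Fin 4 → K), Module.finrank K ↥H = 3 ∧
        ∀ U : Submodule K (Fin 4 → K), v ∈ U → (Module.finrank K ↥U = 2 ∧ ∀ u ∈ U, MvPolynomial.eval u f = 0) → U ≤ H := by
  have hcard : {U : Submodule K (Fin 4 → K) | v ∈ U ∧ (Module.finrank K ↥U = 2 ∧
      ∀ u ∈ U, MvPolynomial.eval u f = 0)}.encard ≤ (3 : ℕ) := by
    apply encard_le_of_no_inj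
    intro g hg hinj
    exact four_lines_false hf hsm v hv hfv g hg hinj
  have h2 := Set.encard_le_coe_iff_finite_ncard_le.mp hcard
  refine ⟨h2.1, h2.2, ?_⟩
  have h0 : T f v v v = 0 := by rw [← eval_eq_T hf]; exact hfv
  obtain ⟨z, hz⟩ := smooth_T hf hsm v hv h0
  refine ⟨LinearMap.ker (Tlin f v v), ?_, ?_⟩
  · have : Module.finrank K ↥(LinearMap.ker (Tlin f v v)) + 1 = 4 :=
      finrank_ker_of_ne_zero (Tlin f v v) (z := z) hz
    omega
  · intro U hvU hU u hu
    exact (line_T hf hvU hU.2 hu).1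

end Groth.Agent.H9.CubicLines
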