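import Mathlib
import Groth.Agent.Lib.Helper9.Misc.CubicLines5

/-! Helper9: S16352. -/

set_option autoImplicit false
set_option linter.unusedSectionVars false
set_option linter.unusedVariables false

namespace Groth.Agent.H9.CubicLines

open MvPolynomial Groth.Agent.H9.CubicFormK

universe u

variable {K : Type u} [Field K] [CharZero K] [IsAlgClosed K]

theorem S16352
    (F : MvPolynomial (Fin 4) K) (hF : F.IsHomogeneous 3) (hirr : Irreducible F)
    (hcone : ¬ ∃ v : Fin 4 → K, v ≠ 0 ∧ ∑ i : Fin 4, v i • MvPolynomial.pderiv i F = 0)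
    (a : Fin 4 → K) (ha : a ≠ 0) (hFa : MvPolynomial.eval a F = 0)
    (hsm : ∃ i : Fin 4, MvPolynomial.eval a (MvPolynomial.pderiv i F) ≠ 0)
    (ℓ : MvPolynomial (Fin 4) K)
    (hℓ : ℓ = ∑ i : Fin 4, MvPolynomial.C (MvPolynomial.eval a (MvPolynomial.pderiv i F)) * MvPolynomial.X i)
    (hT : ¬ ∃ L₁ L₂ L₃ : MvPolynomial (Fin 4) K, L₁.IsHomogeneous 1 ∧ L₂.IsHomogeneous 1 ∧ L₃.IsHomogeneous 1 ∧
      F - L₁ * L₂ * L₃ ∈ Ideal.span {ℓ})
    (P : MvPolynomial (Fin 4) K) (hP : P = ∑ i : Fin 4, a i • MvPolynomial.pderiv i F)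
    (H : Submodule K (Fin 4 → K)) (hH : ∀ x : Fin 4 → K, x ∈ H ↔ MvPolynomial.eval x ℓ = 0) :
    (∃ U₁ U₂ : Submodule K (Fin 4 → K), Module.finrank K ↥U₁ = 2 ∧ Module.finrank K ↥U₂ = 2 ∧ a ∈ U₁ ∧ a ∈ U₂ ∧
        U₁ ≤ H ∧ U₂ ≤ H ∧ {x : Fin 4 → K | x ∈ H ∧ MvPolynomial.eval x P = 0} = (U₁ : Set (Fin 4 → K)) ∪ (U₂ : Set (Fin 4 → K))) ∧
      ∀ U : Submodule K (Fin 4 → K), a ∈ U → Module.finrank K ↥U = 2 → (∀ u ∈ U, MvPolynomial.eval u F = 0) →
        U ≤ H ∧ ∀ u ∈ U, MvPolynomial.eval u P = 0 := by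
  have t0 : T F a a a = 0 := by rw [← eval_eq_T hF]; exact hFa
  obtain ⟨i0, hi0⟩ := hsm
  have hz : T F a a (Pi.single i0 1) ≠ 0 := by
    intro h; apply hi0; rw [eval_pderiv_eq_T hF, h, mul_zero]
  have hHmem : ∀ x, x ∈ H ↔ T F a a x = 0 := by
    intro x
    rw [hH, hℓ, eval_tangent hF]
    constructor
    · intro h
      exact (mul_eq_zero.mp h).resolve_left three_ne_zero
    · intro h; rw [h, mul_zero]
  have hHeq : H = LinearMap.ker (Tlin F a a) := Submodule.ext (fun x => by rw [hHmem]; rfl)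
  have hH3 : Module.finrank K ↥H = 3 := by
    have : Module.finrank K ↥(LinearMap.ker (Tlin F a a)) + 1 = 4 :=
      finrank_ker_of_ne_zero (Tlin F a a) (z := Pi.single i0 1) hz
    rw [hHeq]; omega
  have haH : a ∈ H := (hHmem a).mpr t0
  have hPx : ∀ x, eval x P = 3 * T F a x x := by
    intro x; rw [hP, eval_polar hF, T_symm13 F x x a]
  constructor
  · by_cases hq : ∀ x, T F a a x = 0 → T F a x x = 0
    · exfalso
      apply hT
      obtain ⟨L1, L2, L3, h1, h2, h3, hmem⟩ := tpoint_of_q_zero hF a ha t0 _ hz hq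
      exact ⟨L1, L2, L3, h1, h2, h3, by rw [hℓ]; exact hmem⟩
    · push Not at hq
      obtain ⟨x0, hx0H, hx0⟩ := hq
      rw [← hHmem] at hx0H
      obtain ⟨e1, e2, he1H, he2H, he1, he2, hdec⟩ := H_decomp H hH3 haH ha
      have hqform : ∀ s x1 x2 : K, T F a (s • a + x1 • e1 + x2 • e2) (s • a + x1 • e1 + x2 • e2) =
          T F a e1 e1 * x1 ^ 2 + (2 * T F a e1 e2) * x1 * x2 + T F a e2 e2 * x2 ^ 2 := by
        intro s x1 x2
        rw [expandq, t0, (hHmem e1).mp he1H, (hHmem e2).mp he2H]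
        ring
      obtain ⟨l1, m1, l2, m2, hsplit⟩ := binquad_split (T F a e1 e1) (2 * T F a e1 e2) (T F a e2 e2)
      obtain ⟨s0, y1, y2, rfl⟩ := hdec x0 hx0H
      rw [hqform, hsplit] at hx0
      have hlm1 : ¬ (l1 = 0 ∧ m1 = 0) := by
        rintro ⟨rfl, rfl⟩
        apply hx0; ring
      have hlm2 : ¬ (l2 = 0 ∧ m2 = 0) := by
        rintro ⟨rfl, rfl⟩
        apply hx0; ring
      -- the two lines
      have hu : ∀ l m : K, ¬ (l = 0 ∧ m = 0) → m • e1 + (-l) • e2 ∉ Submodule.span K {a} := by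
        intro l m hlm hmem
        obtain ⟨s, hs⟩ := Submodule.mem_span_singleton.1 hmem
        have h0 : (-s) • a + m • e1 + (-l) • e2 = 0 := by
          rw [add_assoc, ← hs, neg_smul, neg_add_cancel]
        obtain ⟨-, hm0, hl0⟩ := indep3 ha he1 he2 h0
        exact hlm ⟨neg_eq_zero.mp hl0, hm0⟩
      have huH : ∀ l m : K, m • e1 + (-l) • e2 ∈ H := fun l m =>
        H.add_mem (H.smul_mem _ he1H) (H.smul_mem _ he2H)
      refine ⟨Submodule.span K {a, m1 • e1 + (-l1) • e2}, Submodule.span K {a, m2 • e1 + (-l2) • e2},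
        finrank_span_pair ha (hu l1 m1 hlm1), finrank_span_pair ha (hu l2 m2 hlm2),
        Submodule.subset_span (by simp), Submodule.subset_span (by simp), ?_, ?_, ?_⟩
      · rw [Submodule.span_le]
        rintro x (rfl | rfl)
        · exact haH
        · exact huH l1 m1
      · rw [Submodule.span_le]
        rintro x (rfl | rfl)
        · exact haH
        · exact huH l2 m2
      · ext x
        simp only [Set.mem_ofPred_eq, Set.mem_union, SetLike.mem_coe, Submodule.mem_span_pair]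
        constructor
        · rintro ⟨hxH, hPx0⟩
          obtain ⟨s, x1, x2, rfl⟩ := hdec x hxH
          rw [hPx, hqform, hsplit] at hPx0
          have h3 : (l1 * x1 + m1 * x2) * (l2 * x1 + m2 * x2) = 0 :=
            (mul_eq_zero.mp hPx0).resolve_left three_ne_zero
          rcases mul_eq_zero.mp h3 with h | h
          · left
            obtain ⟨μ, h1, h2⟩ := prop_of_lin hlm1 h
            refine ⟨s, μ, ?_⟩
            rw [h1, h2, smul_add, smul_smul, smul_smul, add_assoc]
            congr 3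
            ring
          · right
            obtain ⟨μ, h1, h2⟩ := prop_of_lin hlm2 h
            refine ⟨s, μ, ?_⟩
            rw [h1, h2, smul_add, smul_smul, smul_smul, add_assoc]
            congr 3
            ring
        · rintro (⟨s, μ, rfl⟩ | ⟨s, μ, rfl⟩)
          · refine ⟨H.add_mem (H.smul_mem _ haH) (H.smul_mem _ (huH l1 m1)), ?_⟩
            have : s • a + μ • (m1 • e1 + -l1 • e2) = s • a + (μ * m1) • e1 + (μ * -l1) • e2 := by
              rw [smul_add, smul_smul, smul_smul, add_assoc]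
            rw [hPx, this, hqform, hsplit]
            ring
          · refine ⟨H.add_mem (H.smul_mem _ haH) (H.smul_mem _ (huH l2 m2)), ?_⟩
            have : s • a + μ • (m2 • e1 + -l2 • e2) = s • a + (μ * m2) • e1 + (μ * -l2) • e2 := by
              rw [smul_add, smul_smul, smul_smul, add_assoc]
            rw [hPx, this, hqform, hsplit]
            ring
  · intro U haU hU2 hUF
    refine ⟨fun u hu => (hHmem u).mpr (line_T hF haU hUF hu).1, fun u hu => ?_⟩
    rw [hPx, (line_T hF haU hUF hu).2.1, mul_zero]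

end Groth.Agent.H9.CubicLines
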