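import Mathlib

/-! Helper9: singular scheme of the cusp (S19176) -/

namespace Groth.Agent.H9.CuspSing

open MvPolynomial

variable (k : Type*) [Field k]

/-- exponent vector (i,j) -/
noncomputable def ex (i j : ℕ) : Fin 2 →₀ ℕ := Finsupp.single 0 i + Finsupp.single 1 j

theorem ex_apply0 (i j : ℕ) : ex i j 0 = i := by simp [ex]
theorem ex_apply1 (i j : ℕ) : ex i j 1 = j := by simp [ex]

theorem monomial_ex (i j : ℕ) :
    (monomial (ex i j) (1 : k) : MvPolynomial (Fin 2) k) = X 0 ^ i * X 1 ^ j := by
  rw [ex, ← one_mul (1 : k), ← monomial_mul, X_pow_eq_monomial, X_pow_eq_monomial]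

theorem eq_ex (s : Fin 2 →₀ ℕ) : s = ex (s 0) (s 1) := by
  ext a
  fin_cases a
  · simp [ex]
  · simp [ex]

theorem coeff_mem_I (m n : ℕ) (P : MvPolynomial (Fin 2) k)
    (hP : P ∈ Ideal.span ({X 0 ^ m, X 1 ^ n} : Set (MvPolynomial (Fin 2) k)))
    (i j : ℕ) (hi : i < m) (hj : j < n) : coeff (ex i j) P = 0 := by
  rw [Ideal.mem_span_pair] at hP
  obtain ⟨a, c, rfl⟩ := hP
  rw [coeff_add, X_pow_eq_monomial, X_pow_eq_monomial, coeff_mul_monomial', coeff_mul_monomial']
  have h1 : ¬ (Finsupp.single (0 : Fin 2) m ≤ ex i j) := by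
    intro h
    have := h 0
    simp [ex] at this
    omega
  have h2 : ¬ (Finsupp.single (1 : Fin 2) n ≤ ex i j) := by
    intro h
    have := h 1
    simp [ex] at this
    omega
  rw [if_neg h1, if_neg h2, add_zero]

theorem finrank_quot (m n : ℕ) :
    Module.finrank k (MvPolynomial (Fin 2) k ⧸
      Ideal.span ({X 0 ^ m, X 1 ^ n} : Set (MvPolynomial (Fin 2) k))) = m * n := by
  set I := Ideal.span ({X 0 ^ m, X 1 ^ n} : Set (MvPolynomial (Fin 2) k)) with hI
  let v : Fin m × Fin n → (MvPolynomial (Fin 2) k ⧸ I) :=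
    fun b => Ideal.Quotient.mkₐ k I (monomial (ex b.1 b.2) 1)
  have hli : LinearIndependent k v := by
    rw [Fintype.linearIndependent_iff]
    intro g hg b
    have h1 : ∑ b, g b • v b = Ideal.Quotient.mkₐ k I (∑ b, g b • monomial (ex b.1 b.2) 1) := by
      rw [map_sum]
      apply Finset.sum_congr rfl
      intro b _
      rw [map_smul]
    rw [h1] at hg
    have h2 : (∑ b, g b • monomial (ex b.1 b.2) (1 : k) : MvPolynomial (Fin 2) k) ∈ I := by
      rw [← Ideal.Quotient.eq_zero_iff_mem]
      exact hg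
    have h3 := coeff_mem_I k m n _ h2 b.1 b.2 b.1.2 b.2.2
    rw [coeff_sum] at h3
    rw [Finset.sum_eq_single b] at h3
    · simpa using h3
    · intro b' _ hb'
      rw [coeff_smul, coeff_monomial, if_neg, smul_zero]
      intro h
      apply hb'
      have e0 := DFunLike.congr_fun h 0
      have e1 := DFunLike.congr_fun h 1
      rw [ex_apply0, ex_apply0] at e0
      rw [ex_apply1, ex_apply1] at e1
      exact Prod.ext (Fin.ext e0) (Fin.ext e1)
    · intro h; exact absurd (Finset.mem_univ b) h
  have hsp : ⊤ ≤ Submodule.span k (Set.range v) := by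
    intro q _
    obtain ⟨P, rfl⟩ := Ideal.Quotient.mk_surjective q
    have hmon : ∀ s : Fin 2 →₀ ℕ, Ideal.Quotient.mkₐ k I (monomial s 1)
        ∈ Submodule.span k (Set.range v) := by
      intro s
      by_cases h0 : s 0 < m
      · by_cases h1 : s 1 < n
        · apply Submodule.subset_span
          refine ⟨(⟨s 0, h0⟩, ⟨s 1, h1⟩), ?_⟩
          show Ideal.Quotient.mkₐ k I (monomial (ex (s 0) (s 1)) 1) = _
          rw [← eq_ex]
        · have : Ideal.Quotient.mkₐ k I (monomial s 1) = 0 := by
            show Ideal.Quotient.mk I (monomial s 1) = 0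
            rw [Ideal.Quotient.eq_zero_iff_mem, eq_ex s, monomial_ex]
            have e : (X 1 : MvPolynomial (Fin 2) k) ^ (s 1) = X 1 ^ (s 1 - n) * X 1 ^ n := by
              rw [← pow_add]; congr 1; omega
            rw [e, ← mul_assoc]
            exact Ideal.mul_mem_left _ _ (Ideal.subset_span (by simp))
          rw [this]; exact Submodule.zero_mem _
      · have : Ideal.Quotient.mkₐ k I (monomial s 1) = 0 := by
          show Ideal.Quotient.mk I (monomial s 1) = 0
          rw [Ideal.Quotient.eq_zero_iff_mem, eq_ex s, monomial_ex]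
          have e : (X 0 : MvPolynomial (Fin 2) k) ^ (s 0) = X 0 ^ (s 0 - m) * X 0 ^ m := by
            rw [← pow_add]; congr 1; omega
          rw [e, mul_comm, ← mul_assoc]
          exact Ideal.mul_mem_left _ _ (Ideal.subset_span (by simp))
        rw [this]; exact Submodule.zero_mem _
    have : Ideal.Quotient.mk I P = Ideal.Quotient.mkₐ k I P := rfl
    rw [this, P.as_sum, map_sum]
    apply Submodule.sum_mem
    intro s _
    have e : (monomial s (coeff s P) : MvPolynomial (Fin 2) k) = coeff s P • monomial s 1 := by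
      rw [smul_monomial, smul_eq_mul, mul_one]
    rw [e, map_smul]
    exact Submodule.smul_mem _ _ (hmon s)
  have b := Module.Basis.mk hli hsp
  rw [Module.finrank_eq_card_basis b]
  simp

end Groth.Agent.H9.CuspSing

namespace Groth.Agent.H9.CuspSing

open MvPolynomial

theorem pd0 (k : Type*) [Field k] :
    pderiv (0 : Fin 2) (X 1 ^ 2 - X 0 ^ 3 : MvPolynomial (Fin 2) k) = -(3 * X 0 ^ 2) := by
  simp [pderiv_X_of_ne]

theorem pd1 (k : Type*) [Field k] :
    pderiv (1 : Fin 2) (X 1 ^ 2 - X 0 ^ 3 : MvPolynomial (Fin 2) k) = 2 * X 1 := by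
  simp [pderiv_X_of_ne]

theorem main (k : Type*) [Field k] (p : ℕ) [CharP k p] :
    Module.finrank k (MvPolynomial (Fin 2) k ⧸ Ideal.span
      ({X 1 ^ 2 - X 0 ^ 3, pderiv 0 (X 1 ^ 2 - X 0 ^ 3), pderiv 1 (X 1 ^ 2 - X 0 ^ 3)} :
        Set (MvPolynomial (Fin 2) k))) = (if p = 2 then 4 else if p = 3 then 3 else 2) := by
  rw [pd0, pd1]
  have hC2 : (2 : MvPolynomial (Fin 2) k) = C 2 := (map_ofNat C 2).symm
  have hC3 : (3 : MvPolynomial (Fin 2) k) = C 3 := (map_ofNat C 3).symm
  by_cases h2 : p = 2
  · subst h2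
    rw [if_pos rfl]
    have e2 : (2 : k) = 0 := by
      have := CharP.cast_eq_zero k 2
      simpa using this
    have e3 : (3 : k) = 1 := by
      have : (3 : k) = 2 + 1 := by norm_num
      rw [this, e2, zero_add]
    have hI : Ideal.span ({X 1 ^ 2 - X 0 ^ 3, -(3 * X 0 ^ 2), 2 * X 1} :
        Set (MvPolynomial (Fin 2) k)) = Ideal.span ({X 0 ^ 2, X 1 ^ 2} : Set _) := by
      rw [hC2, hC3, e2, e3]
      simp only [map_zero, zero_mul, map_one, one_mul]
      apply le_antisymm
      · rw [Ideal.span_le]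
        rintro x (rfl | rfl | rfl)
        · have : (X 1 ^ 2 - X 0 ^ 3 : MvPolynomial (Fin 2) k) = X 1 ^ 2 - X 0 * X 0 ^ 2 := by ring
          rw [this]
          exact Ideal.sub_mem _ (Ideal.subset_span (by simp))
            (Ideal.mul_mem_left _ _ (Ideal.subset_span (by simp)))
        · exact Ideal.neg_mem_iff _ |>.mpr (Ideal.subset_span (by simp))
        · exact Ideal.zero_mem _
      · rw [Ideal.span_le]
        rintro x (rfl | rfl)
        · have h := Ideal.subset_span (s := ({X 1 ^ 2 - X 0 ^ 3, -(X 0 ^ 2), 0} :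
            Set (MvPolynomial (Fin 2) k))) (show -(X 0 ^ 2) ∈ _ by simp)
          exact Ideal.neg_mem_iff _ |>.mp h
        · have h1 := Ideal.subset_span (s := ({X 1 ^ 2 - X 0 ^ 3, -(X 0 ^ 2), 0} :
            Set (MvPolynomial (Fin 2) k))) (show -(X 0 ^ 2) ∈ _ by simp)
          have h0 := Ideal.subset_span (s := ({X 1 ^ 2 - X 0 ^ 3, -(X 0 ^ 2), 0} :
            Set (MvPolynomial (Fin 2) k))) (show X 1 ^ 2 - X 0 ^ 3 ∈ _ by simp)
          have : (X 1 ^ 2 : MvPolynomial (Fin 2) k) = (X 1 ^ 2 - X 0 ^ 3) - X 0 * (-(X 0 ^ 2)) := by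
            ring
          have hmem := Ideal.sub_mem _ h0 (Ideal.mul_mem_left _ (X 0) h1)
          rw [← this] at hmem
          exact hmem
    rw [hI, finrank_quot]
  · rw [if_neg h2]
    by_cases h3 : p = 3
    · subst h3
      rw [if_pos rfl]
      have e3 : (3 : k) = 0 := by
        have := CharP.cast_eq_zero k 3
        simpa using this
      have e2 : (2 : k) ≠ 0 := by
        intro h
        have : ((2 : ℕ) : k) = 0 := by simpa using h
        rw [CharP.cast_eq_zero_iff k 3] at this
        omega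
      have hI : Ideal.span ({X 1 ^ 2 - X 0 ^ 3, -(3 * X 0 ^ 2), 2 * X 1} :
          Set (MvPolynomial (Fin 2) k)) = Ideal.span ({X 0 ^ 3, X 1 ^ 1} : Set _) := by
        rw [hC2, hC3, e3]
        simp only [map_zero, zero_mul, neg_zero, pow_one]
        apply le_antisymm
        · rw [Ideal.span_le]
          rintro x (rfl | rfl | rfl)
          · have : (X 1 ^ 2 - X 0 ^ 3 : MvPolynomial (Fin 2) k) = X 1 * X 1 - X 0 ^ 3 := by ring
            rw [this]
            exact Ideal.sub_mem _ (Ideal.mul_mem_left _ _ (Ideal.subset_span (by simp)))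
              (Ideal.subset_span (by simp))
          · exact Ideal.zero_mem _
          · exact Ideal.mul_mem_left _ _ (Ideal.subset_span (by simp))
        · have hy : (X 1 : MvPolynomial (Fin 2) k) ∈ Ideal.span ({X 1 ^ 2 - X 0 ^ 3, 0, C 2 * X 1} :
              Set (MvPolynomial (Fin 2) k)) := by
            have h1 := Ideal.subset_span (s := ({X 1 ^ 2 - X 0 ^ 3, 0, C 2 * X 1} :
              Set (MvPolynomial (Fin 2) k))) (show C 2 * X 1 ∈ _ by simp)
            have : (X 1 : MvPolynomial (Fin 2) k) = C (2⁻¹) * (C 2 * X 1) := by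
              rw [← mul_assoc, ← C_mul, inv_mul_cancel₀ e2, C_1, one_mul]
            have hmem := Ideal.mul_mem_left _ (C (2⁻¹)) h1
            rw [← this] at hmem
            exact hmem
          rw [Ideal.span_le]
          rintro x (rfl | rfl)
          · have h0 := Ideal.subset_span (s := ({X 1 ^ 2 - X 0 ^ 3, 0, C 2 * X 1} :
              Set (MvPolynomial (Fin 2) k))) (show X 1 ^ 2 - X 0 ^ 3 ∈ _ by simp)
            have : (X 0 ^ 3 : MvPolynomial (Fin 2) k) = X 1 * X 1 - (X 1 ^ 2 - X 0 ^ 3) := by ring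
            have hmem := Ideal.sub_mem _ (Ideal.mul_mem_left _ (X 1) hy) h0
            rw [← this] at hmem
            exact hmem
          · exact hy
      rw [hI, finrank_quot]
    · rw [if_neg h3]
      have e2 : (2 : k) ≠ 0 := by
        intro h
        have : ((2 : ℕ) : k) = 0 := by simpa using h
        rw [CharP.cast_eq_zero_iff k p] at this
        have hp1 : p ≠ 1 := CharP.char_ne_one k p
        have := (Nat.dvd_prime Nat.prime_two).mp this
        omega
      have e3 : (3 : k) ≠ 0 := by
        intro h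
        have : ((3 : ℕ) : k) = 0 := by simpa using h
        rw [CharP.cast_eq_zero_iff k p] at this
        have hp1 : p ≠ 1 := CharP.char_ne_one k p
        have := (Nat.dvd_prime Nat.prime_three).mp this
        omega
      have hI : Ideal.span ({X 1 ^ 2 - X 0 ^ 3, -(3 * X 0 ^ 2), 2 * X 1} :
          Set (MvPolynomial (Fin 2) k)) = Ideal.span ({X 0 ^ 2, X 1 ^ 1} : Set _) := by
        rw [hC2, hC3]
        simp only [pow_one]
        apply le_antisymm
        · rw [Ideal.span_le]
          rintro x (rfl | rfl | rfl)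
          · have : (X 1 ^ 2 - X 0 ^ 3 : MvPolynomial (Fin 2) k) = X 1 * X 1 - X 0 * X 0 ^ 2 := by ring
            rw [this]
            exact Ideal.sub_mem _ (Ideal.mul_mem_left _ _ (Ideal.subset_span (by simp)))
              (Ideal.mul_mem_left _ _ (Ideal.subset_span (by simp)))
          · exact Ideal.neg_mem_iff _ |>.mpr (Ideal.mul_mem_left _ _ (Ideal.subset_span (by simp)))
          · exact Ideal.mul_mem_left _ _ (Ideal.subset_span (by simp))
        · rw [Ideal.span_le]
          rintro x (rfl | rfl)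
          · have h1 := Ideal.subset_span (s := ({X 1 ^ 2 - X 0 ^ 3, -(C 3 * X 0 ^ 2), C 2 * X 1} :
              Set (MvPolynomial (Fin 2) k))) (show -(C 3 * X 0 ^ 2) ∈ _ by simp)
            have : (X 0 ^ 2 : MvPolynomial (Fin 2) k) = C (-(3⁻¹)) * (-(C 3 * X 0 ^ 2)) := by
              rw [mul_neg, ← mul_assoc, ← C_mul, neg_mul, inv_mul_cancel₀ e3]
              simp
            have hmem := Ideal.mul_mem_left _ (C (-(3⁻¹))) h1
            rw [← this] at hmem
            exact hmem
          · have h1 := Ideal.subset_span (s := ({X 1 ^ 2 - X 0 ^ 3, -(C 3 * X 0 ^ 2), C 2 * X 1} :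
              Set (MvPolynomial (Fin 2) k))) (show C 2 * X 1 ∈ _ by simp)
            have : (X 1 : MvPolynomial (Fin 2) k) = C (2⁻¹) * (C 2 * X 1) := by
              rw [← mul_assoc, ← C_mul, inv_mul_cancel₀ e2, C_1, one_mul]
            have hmem := Ideal.mul_mem_left _ (C (2⁻¹)) h1
            rw [← this] at hmem
            exact hmem
      rw [hI, finrank_quot]

end Groth.Agent.H9.CuspSing
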