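import Mathlib

/-! Helper9: cyclic modules over K[X]: products of primary cyclic pieces -/

namespace Groth.Agent.H9.Cyc

open Polynomial Function

set_option linter.unusedSectionVars false

variable {K : Type*} [Field K] {ι : Type*} [Fintype ι] [DecidableEq ι]
  (p : ι → K[X]) (e : ι → ℕ)

/-- the pieces -/
abbrev Nq (i : ι) : Type _ := K[X] ⧸ Ideal.span {p i ^ e i}

/-- the product of the pieces -/
abbrev Dq : Type _ := ∀ i, Nq p e i

theorem coprime_of_not_assoc (hp : ∀ i, Irreducible (p i))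
    (h : ∀ i j, i ≠ j → 1 ≤ e i → 1 ≤ e j → ¬ Associated (p i) (p j)) :
    Pairwise (IsCoprime on fun i => Ideal.span {p i ^ e i}) := by
  intro i j hij
  change IsCoprime (Ideal.span {p i ^ e i}) (Ideal.span {p j ^ e j})
  rw [Ideal.isCoprime_span_singleton_iff]
  by_cases hi : e i = 0
  · rw [hi, pow_zero]; exact isCoprime_one_left
  by_cases hj : e j = 0
  · rw [hj, pow_zero]; exact isCoprime_one_right
  apply IsCoprime.pow
  rw [(hp i).coprime_iff_not_dvd]
  intro hd
  exact h i j hij (by omega) (by omega) ((hp i).associated_of_dvd (hp j) hd)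

theorem cyclic_of_not_assoc (hp : ∀ i, Irreducible (p i))
    (h : ∀ i j, i ≠ j → 1 ≤ e i → 1 ≤ e j → ¬ Associated (p i) (p j)) :
    ∀ d : Dq p e, ∃ r : K[X], r • (fun _ => 1 : Dq p e) = d := by
  intro d
  choose x hx using fun i => Ideal.Quotient.mk_surjective (d i)
  obtain ⟨r, hr⟩ := Ideal.exists_forall_sub_mem_ideal (coprime_of_not_assoc p e hp h) x
  refine ⟨r, ?_⟩
  funext i
  rw [Pi.smul_apply, ← hx i]
  have : r • (1 : Nq p e i) = Ideal.Quotient.mk _ r := by
    have h1 : (1 : Nq p e i) = Ideal.Quotient.mk _ 1 := rfl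
    rw [h1]
    show Submodule.Quotient.mk (r • (1 : K[X])) = _
    rw [smul_eq_mul, mul_one]
    rfl
  rw [this]
  exact Ideal.Quotient.eq.2 (hr i)


variable {p e}

theorem exists_hom (hp : ∀ i, Irreducible (p i)) {i j : ι} (hei : 1 ≤ e i) (hej : 1 ≤ e j)
    (ha : Associated (p i) (p j)) :
    ∃ h : Nq p e j →ₗ[K[X]] Nq p e i, h 1 ≠ 0 := by
  let b : Nq p e i := Ideal.Quotient.mk _ (p i ^ (e i - 1))
  have hle : (Ideal.span {p j ^ e j} : Ideal K[X]) ≤
      LinearMap.ker (LinearMap.toSpanSingleton K[X] (Nq p e i) b) := by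
    rw [Ideal.span_le, Set.singleton_subset_iff]
    change (LinearMap.toSpanSingleton K[X] (Nq p e i) b) (p j ^ e j) = 0
    rw [LinearMap.toSpanSingleton_apply]
    change Submodule.Quotient.mk (p j ^ e j • p i ^ (e i - 1)) = 0
    rw [Submodule.Quotient.mk_eq_zero, smul_eq_mul]
    change _ ∈ Ideal.span _
    rw [Ideal.mem_span_singleton]
    have h1 : p i ∣ p j ^ e j := dvd_pow ha.dvd (by omega)
    have h2 : p i ^ e i = p i * p i ^ (e i - 1) := by
      rw [← pow_succ']
      congr 1
      omega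
    rw [h2]
    exact mul_dvd_mul h1 dvd_rfl
  refine ⟨Submodule.liftQ _ (LinearMap.toSpanSingleton K[X] (Nq p e i) b) hle, ?_⟩
  have h1 : (1 : Nq p e j) = Submodule.Quotient.mk (1 : K[X]) := rfl
  rw [h1, Submodule.liftQ_apply, LinearMap.toSpanSingleton_apply, one_smul]
  intro hb
  have hb' : p i ^ (e i - 1) ∈ Ideal.span {p i ^ e i} := Ideal.Quotient.eq_zero_iff_mem.1 hb
  rw [Ideal.mem_span_singleton, pow_dvd_pow_iff (hp i).ne_zero (hp i).not_isUnit] at hb'
  omega

/-- the endomorphisms of the product: componentwise multiplications and one off-diagonal map -/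
noncomputable def theta {i j : ι} (h : Nq p e j →ₗ[K[X]] Nq p e i) (d : Dq p e) (c : K) :
    Dq p e →ₗ[K[X]] Dq p e :=
  LinearMap.mulLeft K[X] d +
    (C c) • ((LinearMap.single K[X] (Nq p e) i).comp (h.comp (LinearMap.proj j)))

theorem theta_apply {i j : ι} (h : Nq p e j →ₗ[K[X]] Nq p e i) (d : Dq p e) (c : K) (z : Dq p e) :
    theta h d c z = d * z + C c • Pi.single i (h (z j)) := rfl

theorem theta_add {i j : ι} (h : Nq p e j →ₗ[K[X]] Nq p e i) (d d' : Dq p e) (c c' : K) :
    theta h (d + d') (c + c') = theta h d c + theta h d' c' := by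
  apply LinearMap.ext
  intro z
  funext k
  simp only [theta_apply, LinearMap.add_apply, Pi.add_apply, Pi.mul_apply, Pi.smul_apply, C_add,
    add_smul, add_mul]
  abel

theorem theta_smul {i j : ι} (h : Nq p e j →ₗ[K[X]] Nq p e i) (a : K) (d : Dq p e) (c : K) :
    theta h (C a • d) (a * c) = C a • theta h d c := by
  apply LinearMap.ext
  intro z
  funext k
  simp only [theta_apply, LinearMap.smul_apply, Pi.add_apply, Pi.mul_apply, Pi.smul_apply, C_mul,
    mul_smul, smul_add, smul_mul_assoc]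

theorem theta_eq_zero {i j : ι} (hij : i ≠ j) (h : Nq p e j →ₗ[K[X]] Nq p e i) (h1 : h 1 ≠ 0)
    (d : Dq p e) (c : K) (hz : theta h d c = 0) : d = 0 ∧ c = 0 := by
  have key : ∀ k l, (theta h d c (Pi.single k 1)) l = 0 := by
    intro k l
    rw [hz]
    rfl
  have hd : d = 0 := by
    funext k
    have := key k k
    rw [theta_apply, Pi.add_apply, Pi.mul_apply, Pi.single_eq_same, mul_one, Pi.smul_apply] at this
    by_cases hkj : k = j
    · subst hkj
      rw [Pi.single_eq_of_ne (Ne.symm hij), smul_zero, add_zero] at this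
      exact this
    · rw [Pi.single_eq_of_ne (Ne.symm hkj), map_zero, Pi.single_zero, Pi.zero_apply, smul_zero,
        add_zero] at this
      exact this
  refine ⟨hd, ?_⟩
  have := key j i
  rw [theta_apply, Pi.add_apply, Pi.mul_apply, Pi.single_eq_of_ne hij, mul_zero, zero_add,
    Pi.smul_apply, Pi.single_eq_same, Pi.single_eq_same] at this
  by_contra hc
  apply h1
  have h2 : C c⁻¹ • C c • h 1 = 0 := by rw [this, smul_zero]
  rw [smul_smul, ← C_mul, inv_mul_cancel₀ hc, C_1, one_smul] at h2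
  exact h2

end Groth.Agent.H9.Cyc
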