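import Mathlib
import Groth.Agent.Lib.Helper9.Misc.Cyc1

/-! Helper9: a regular matrix over a field has a cyclic vector -/

namespace Groth.Agent.H9.Cyc

open Polynomial Function Module

set_option linter.unusedSectionVars false

universe u

variable {K : Type u} [Field K] {n : ℕ} (g : Matrix (Fin n) (Fin n) K)

/-- the decomposition of `K^n` as a `K[X]`-module -/
theorem exists_decomp :
    ∃ (ι : Type u) (_ : Fintype ι) (_ : DecidableEq ι) (p : ι → K[X]) (_ : ∀ i, Irreducible (p i))
      (e : ι → ℕ), Nonempty (Module.AEval' (Matrix.toLin' g) ≃ₗ[K[X]] Dq p e) := by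
  classical
  have hT : Module.IsTorsion K[X] (Module.AEval' (Matrix.toLin' g)) :=
    Module.AEval.isTorsion_of_finiteDimensional K (Fin n → K) (Matrix.toLin' g)
  obtain ⟨ι, hι, p, hp, e, ⟨E₀⟩⟩ := Module.equiv_directSum_of_isTorsion hT
  refine ⟨ι, hι, inferInstance, p, hp, e, ⟨?_⟩⟩
  exact E₀.trans (DirectSum.linearEquivFunOnFintype K[X] ι _)


section withDecomp

variable {ι : Type u} [Fintype ι] [DecidableEq ι] {p : ι → K[X]} {e : ι → ℕ}
  (E : Module.AEval' (Matrix.toLin' g) ≃ₗ[K[X]] Dq p e)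

/-- the `K`-linear identification of `K^n` with the product of the pieces -/
noncomputable def G : (Fin n → K) ≃ₗ[K] Dq p e :=
  (Module.AEval'.of (Matrix.toLin' g)).trans (E.restrictScalars K)

theorem G_apply (v : Fin n → K) : G g E v = E (Module.AEval'.of (Matrix.toLin' g) v) := rfl

theorem G_symm_apply (z : Dq p e) :
    (G g E).symm z = (Module.AEval'.of (Matrix.toLin' g)).symm (E.symm z) := rfl

theorem G_aeval (r : K[X]) (v : Fin n → K) :
    G g E (aeval (Matrix.toLin' g) r v) = r • G g E v := by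
  rw [G_apply, G_apply, ← map_smul]
  rfl

theorem G_toLin (v : Fin n → K) : G g E (Matrix.toLin' g v) = (X : K[X]) • G g E v := by
  have := G_aeval g E X v
  rwa [aeval_X] at this

theorem G_symm_X_smul (z : Dq p e) :
    (G g E).symm ((X : K[X]) • z) = Matrix.toLin' g ((G g E).symm z) := by
  apply (G g E).injective
  rw [G_toLin, LinearEquiv.apply_symm_apply, LinearEquiv.apply_symm_apply]

include E in
theorem cyclic_case (hp : ∀ i, Irreducible (p i))
    (h : ∀ i j, i ≠ j → 1 ≤ e i → 1 ≤ e j → ¬ Associated (p i) (p j)) :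
    ∃ v : Fin n → K, ∀ w : Fin n → K, ∃ r : K[X], aeval (Matrix.toLin' g) r v = w := by
  refine ⟨(G g E).symm (fun _ => 1), fun w => ?_⟩
  obtain ⟨r, hr⟩ := cyclic_of_not_assoc p e hp h (G g E w)
  refine ⟨r, ?_⟩
  apply (G g E).injective
  rw [G_aeval, LinearEquiv.apply_symm_apply, hr]

/-- conjugation of a `K[X]`-linear endomorphism of the product to an endomorphism of `K^n` -/
noncomputable def conj (ψ : Dq p e →ₗ[K[X]] Dq p e) : (Fin n → K) →ₗ[K] (Fin n → K) :=
  (G g E).symm.toLinearMap ∘ₗ (ψ.restrictScalars K) ∘ₗ (G g E).toLinearMap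

theorem conj_apply (ψ : Dq p e →ₗ[K[X]] Dq p e) (v : Fin n → K) :
    conj g E ψ v = (G g E).symm (ψ (G g E v)) := rfl

theorem conj_comm (ψ : Dq p e →ₗ[K[X]] Dq p e) (v : Fin n → K) :
    conj g E ψ (Matrix.toLin' g v) = Matrix.toLin' g (conj g E ψ v) := by
  rw [conj_apply, conj_apply, G_toLin, map_smul, G_symm_X_smul]

theorem conj_eq_zero (ψ : Dq p e →ₗ[K[X]] Dq p e) (h : conj g E ψ = 0) : ψ = 0 := by
  apply LinearMap.ext
  intro z
  have := congrArg (fun φ => φ ((G g E).symm z)) h
  simp only [conj_apply, LinearEquiv.apply_symm_apply, LinearMap.zero_apply] at this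
  rw [LinearMap.zero_apply]
  exact (G g E).symm.injective (by rw [this, map_zero])

theorem C_smul_Dq (a : K) (z : Dq p e) : (C a : K[X]) • z = a • z := by
  funext k
  obtain ⟨x, hx⟩ := Ideal.Quotient.mk_surjective (z k)
  rw [Pi.smul_apply, Pi.smul_apply, ← hx]
  show Submodule.Quotient.mk (C a • x) = Submodule.Quotient.mk (a • x)
  rw [smul_eq_mul, Polynomial.smul_eq_C_mul]

/-- the family of commuting matrices -/
noncomputable def Phi {i j : ι} (h : Nq p e j →ₗ[K[X]] Nq p e i) :
    ((Fin n → K) × K) →ₗ[K] Matrix (Fin n) (Fin n) K where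
  toFun wc := LinearMap.toMatrix' (conj g E (theta h (G g E wc.1) wc.2))
  map_add' := by
    rintro ⟨w, c⟩ ⟨w', c'⟩
    rw [← map_add]
    congr 1
    apply LinearMap.ext
    intro v
    simp only [Prod.fst_add, Prod.snd_add, map_add, theta_add, conj_apply, LinearMap.add_apply]
  map_smul' := by
    rintro a ⟨w, c⟩
    rw [RingHom.id_apply, ← map_smul]
    congr 1
    apply LinearMap.ext
    intro v
    simp only [Prod.smul_fst, Prod.smul_snd, smul_eq_mul, map_smul, conj_apply,
      LinearMap.smul_apply]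
    rw [← C_smul_Dq, theta_smul, LinearMap.smul_apply, C_smul_Dq, map_smul]

theorem Phi_apply {i j : ι} (h : Nq p e j →ₗ[K[X]] Nq p e i) (w : Fin n → K) (c : K) :
    Phi g E h (w, c) = LinearMap.toMatrix' (conj g E (theta h (G g E w) c)) := rfl

theorem Phi_comm {i j : ι} (h : Nq p e j →ₗ[K[X]] Nq p e i) (wc : (Fin n → K) × K) :
    g * Phi g E h wc = Phi g E h wc * g := by
  obtain ⟨w, c⟩ := wc
  rw [Phi_apply]
  apply Matrix.toLin'.injective
  rw [Matrix.toLin'_mul, Matrix.toLin'_mul, Matrix.toLin'_toMatrix']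
  apply LinearMap.ext
  intro v
  rw [LinearMap.comp_apply, LinearMap.comp_apply, conj_comm]

theorem Phi_injective {i j : ι} (hij : i ≠ j) (h : Nq p e j →ₗ[K[X]] Nq p e i) (h1 : h 1 ≠ 0) :
    Function.Injective (Phi g E h) := by
  rw [injective_iff_map_eq_zero]
  rintro ⟨w, c⟩ hz
  rw [Phi_apply] at hz
  have h2 : conj g E (theta h (G g E w) c) = 0 := by
    apply LinearMap.toMatrix'.injective
    rw [hz, map_zero]
  obtain ⟨hd, hc⟩ := theta_eq_zero hij h h1 _ _ (conj_eq_zero g E _ h2)
  have hw : w = 0 := (G g E).injective (by rw [hd, map_zero])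
  rw [hw, hc]
  rfl

include E in
theorem big_case (hp : ∀ i, Irreducible (p i)) {i j : ι} (hij : i ≠ j) (hei : 1 ≤ e i)
    (hej : 1 ≤ e j) (ha : Associated (p i) (p j)) :
    n + 1 ≤ Module.finrank K (Subalgebra.centralizer K ({g} : Set (Matrix (Fin n) (Fin n) K))) := by
  obtain ⟨h, h1⟩ := exists_hom hp hei hej ha
  let Φ' : ((Fin n → K) × K) →ₗ[K]
      (Subalgebra.centralizer K ({g} : Set (Matrix (Fin n) (Fin n) K))) :=
    LinearMap.codRestrict (Subalgebra.toSubmodule _) (Phi g E h) (by
      intro wc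
      rw [Subalgebra.mem_toSubmodule, Subalgebra.mem_centralizer_iff]
      intro b hb
      rw [Set.mem_singleton_iff.1 hb]
      exact Phi_comm g E h wc)
  have hinj : Function.Injective Φ' := by
    intro a b hab
    apply Phi_injective g E hij h h1
    exact congrArg Subtype.val hab
  have := LinearMap.finrank_le_finrank_of_injective hinj
  simpa using this

end withDecomp

theorem exists_cyclic
    (hreg : Module.finrank K (Subalgebra.centralizer K ({g} : Set (Matrix (Fin n) (Fin n) K))) = n) :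
    ∃ v : Fin n → K, ∀ w : Fin n → K, ∃ r : K[X], aeval (Matrix.toLin' g) r v = w := by
  obtain ⟨ι, _, _, p, hp, e, ⟨E⟩⟩ := exists_decomp g
  by_cases h : ∀ i j, i ≠ j → 1 ≤ e i → 1 ≤ e j → ¬ Associated (p i) (p j)
  · exact cyclic_case g E hp h
  · push Not at h
    obtain ⟨i, j, hij, hei, hej, ha⟩ := h
    have := big_case g E hp hij hei hej ha
    omega

end Groth.Agent.H9.Cyc
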