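import Mathlib
import Groth.Agent.Lib.Helper9.Misc.Cyc2

/-! Helper9: Krylov matrix of a cyclic vector; commutant of a cyclic matrix is commutative -/

namespace Groth.Agent.H9.Cyc

open Polynomial Function Module Matrix

set_option linter.unusedSectionVars false

universe u

section general

variable {L : Type*} [CommRing L] {n : ℕ} (g : Matrix (Fin n) (Fin n) L)

/-- the matrix with columns `v, g v, g² v, …` -/
def Cmat (v : Fin n → L) : Matrix (Fin n) (Fin n) L :=
  Matrix.of fun i (k : Fin n) => ((g ^ (k : ℕ)) *ᵥ v) i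

theorem mul_Cmat (Y : Matrix (Fin n) (Fin n) L) (v : Fin n → L) :
    Y * Cmat g v = Matrix.of fun i (k : Fin n) => ((Y * g ^ (k : ℕ)) *ᵥ v) i := by
  ext i k
  rw [Matrix.mul_apply, Matrix.of_apply, ← Matrix.mulVec_mulVec]
  rfl

theorem Cmat_mulVec (v c : Fin n → L) :
    Cmat g v *ᵥ c = (∑ k : Fin n, c k • g ^ (k : ℕ)) *ᵥ v := by
  funext i
  simp only [Cmat, Matrix.mulVec, dotProduct, Matrix.of_apply, Matrix.sum_apply,
    Matrix.smul_apply, smul_eq_mul, Finset.sum_mul]
  rw [Finset.sum_comm]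
  refine Finset.sum_congr rfl (fun k _ => ?_)
  refine Finset.sum_congr rfl (fun l _ => ?_)
  ring

theorem eq_aeval_of_commute (v : Fin n → L) (hv : IsUnit (Cmat g v).det)
    (x : Matrix (Fin n) (Fin n) L) (hx : x * g = g * x) :
    ∃ r : L[X], x = aeval g r := by
  let c : Fin n → L := (Cmat g v)⁻¹ *ᵥ (x *ᵥ v)
  have hc : Cmat g v *ᵥ c = x *ᵥ v := by
    simp only [c]
    rw [Matrix.mulVec_mulVec, Matrix.mul_nonsing_inv _ hv, Matrix.one_mulVec]
  let r : L[X] := ∑ k : Fin n, Polynomial.C (c k) * X ^ (k : ℕ)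
  have hr : aeval g r = ∑ k : Fin n, c k • g ^ (k : ℕ) := by
    simp only [r, map_sum, map_mul, aeval_C, map_pow, aeval_X]
    refine Finset.sum_congr rfl (fun k _ => ?_)
    rw [Algebra.algebraMap_eq_smul_one (A := Matrix (Fin n) (Fin n) L) (c k), smul_mul_assoc, one_mul]
  refine ⟨r, ?_⟩
  have hxk : ∀ k : ℕ, x * g ^ k = g ^ k * x := by
    intro k
    induction k with
    | zero => simp
    | succ k ih => rw [pow_succ, ← mul_assoc, ih, mul_assoc, hx, ← mul_assoc]
  have hPk : ∀ k : ℕ, aeval g r * g ^ k = g ^ k * aeval g r := by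
    intro k
    have h1 : g ^ k = aeval g (X ^ k : L[X]) := by simp
    rw [h1, ← map_mul, ← map_mul, mul_comm]
  have hxv : x *ᵥ v = aeval g r *ᵥ v := by rw [hr, ← Cmat_mulVec, hc]
  have hmul : x * Cmat g v = aeval g r * Cmat g v := by
    rw [mul_Cmat, mul_Cmat]
    ext i k
    simp only [Matrix.of_apply]
    rw [hxk, hPk, ← Matrix.mulVec_mulVec, ← Matrix.mulVec_mulVec, hxv]
  calc x = x * Cmat g v * (Cmat g v)⁻¹ := by rw [Matrix.mul_nonsing_inv_cancel_right _ _ hv]
    _ = aeval g r * Cmat g v * (Cmat g v)⁻¹ := by rw [hmul]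
    _ = aeval g r := by rw [Matrix.mul_nonsing_inv_cancel_right _ _ hv]

theorem commute_of_cyclic (v : Fin n → L) (hv : IsUnit (Cmat g v).det)
    (x y : Matrix (Fin n) (Fin n) L) (hx : x * g = g * x) (hy : y * g = g * y) : x * y = y * x := by
  obtain ⟨r, rfl⟩ := eq_aeval_of_commute g v hv x hx
  obtain ⟨s, rfl⟩ := eq_aeval_of_commute g v hv y hy
  rw [← map_mul, ← map_mul, mul_comm]

theorem Cmat_map {L' : Type*} [CommRing L'] (f : L →+* L') (v : Fin n → L) :
    (Cmat g v).map f = Cmat (g.map f) (f ∘ v) := by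
  ext i k
  simp only [Cmat, Matrix.map_apply, Matrix.of_apply]
  rw [RingHom.map_mulVec]
  congr 2
  have : (g ^ (k : ℕ)).map f = f.mapMatrix (g ^ (k : ℕ)) := rfl
  rw [this, map_pow]
  rfl

end general

end Groth.Agent.H9.Cyc
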