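import Mathlib
import Groth.Agent.Lib.Helper9.Misc.Cyc3

/-! Helper9: Krylov matrix of a cyclic vector over a field is invertible -/

namespace Groth.Agent.H9.Cyc

open Polynomial Function Module Matrix

set_option linter.unusedSectionVars false

universe u

section field

variable {K : Type u} [Field K] {n : ℕ} (g : Matrix (Fin n) (Fin n) K)

theorem toLin'_pow_apply (k : ℕ) (v : Fin n → K) :
    ((Matrix.toLin' g) ^ k) v = (g ^ k) *ᵥ v := by
  induction k generalizing v with
  | zero => simp
  | succ k ih =>
    rw [pow_succ, Module.End.mul_apply, ih, Matrix.toLin'_apply, Matrix.mulVec_mulVec, ← pow_succ]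

theorem isUnit_det_Cmat_of_cyclic (v : Fin n → K)
    (hv : ∀ w : Fin n → K, ∃ r : K[X], aeval (Matrix.toLin' g) r v = w) :
    IsUnit (Cmat g v).det := by
  rcases Nat.eq_zero_or_pos n with hn | hn
  · subst hn
    rw [Matrix.det_isEmpty]
    exact isUnit_one
  rw [← Matrix.isUnit_iff_isUnit_det, ← Matrix.linearIndependent_cols_iff_isUnit]
  apply linearIndependent_of_top_le_span_of_card_eq_finrank
  · intro w _
    obtain ⟨r, hr⟩ := hv w
    have hmon : g.charpoly.Monic := Matrix.charpoly_monic g
    have hdeg : (r %ₘ g.charpoly).natDegree < n := by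
      have h1 := Polynomial.degree_modByMonic_lt r hmon
      have h2 : g.charpoly.degree = (n : WithBot ℕ) := by
        rw [Polynomial.degree_eq_natDegree hmon.ne_zero, Matrix.charpoly_natDegree_eq_dim]
        simp
      rw [h2] at h1
      by_cases h0 : r %ₘ g.charpoly = 0
      · rw [h0]; simpa using hn
      · rw [Polynomial.degree_eq_natDegree h0] at h1
        exact_mod_cast h1
    have hzero : aeval (Matrix.toLin' g) g.charpoly = 0 := by
      have h1 := Matrix.aeval_self_charpoly g
      have h2 : aeval (Matrix.toLin' g) g.charpoly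
          = Matrix.toLinAlgEquiv' (aeval g g.charpoly) := by
        rw [← Polynomial.aeval_algHom_apply]
        rfl
      rw [h2, h1, map_zero]
    have hsplit : aeval (Matrix.toLin' g) r = aeval (Matrix.toLin' g) (r %ₘ g.charpoly) := by
      conv_lhs => rw [← Polynomial.modByMonic_add_div r g.charpoly]
      rw [map_add, map_mul, hzero, zero_mul, add_zero]
    rw [hsplit, Polynomial.aeval_eq_sum_range' hdeg] at hr
    rw [← hr, LinearMap.sum_apply]
    refine Submodule.sum_mem _ (fun k hk => ?_)
    rw [LinearMap.smul_apply]
    refine Submodule.smul_mem _ _ (Submodule.subset_span ?_)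
    refine ⟨⟨k, Finset.mem_range.1 hk⟩, ?_⟩
    rw [toLin'_pow_apply]
    funext i
    rfl
  · simp

end field

end Groth.Agent.H9.Cyc
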