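import Mathlib
import Groth.Agent.Lib.Helper9.Misc.Cyc4

/-! Helper9: fibrewise regular matrices have commutative commutant (local-global) -/

namespace Groth.Agent.H9.Cyc

open Polynomial Function Module Matrix

set_option linter.unusedSectionVars false

universe u

section loc

variable {L : Type u} [CommRing L] [IsLocalRing L] {n : ℕ} (g : Matrix (Fin n) (Fin n) L)

theorem exists_isUnit_det_Cmat
    (hreg : Module.finrank (IsLocalRing.ResidueField L)
      (Subalgebra.centralizer (IsLocalRing.ResidueField L)
        ({g.map (IsLocalRing.residue L)} :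
          Set (Matrix (Fin n) (Fin n) (IsLocalRing.ResidueField L)))) = n) :
    ∃ v : Fin n → L, IsUnit (Cmat g v).det := by
  obtain ⟨vb, hvb⟩ := exists_cyclic (g.map (IsLocalRing.residue L)) hreg
  have hsurj := IsLocalRing.residue_surjective (R := L)
  choose v hv using fun i => hsurj (vb i)
  refine ⟨v, ?_⟩
  have h1 := isUnit_det_Cmat_of_cyclic (g.map (IsLocalRing.residue L)) vb hvb
  have h2 : (IsLocalRing.residue L : L →+* _) ∘ v = vb := by
    funext i
    exact hv i
  have h3 : (Cmat g v).map (IsLocalRing.residue L) = Cmat (g.map (IsLocalRing.residue L)) vb := by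
    rw [Cmat_map, h2]
  have h4 : IsLocalRing.residue L (Cmat g v).det = (Cmat (g.map (IsLocalRing.residue L)) vb).det := by
    rw [RingHom.map_det, ← h3]
    rfl
  rw [← IsLocalRing.residue_ne_zero_iff_isUnit, h4]
  exact h1.ne_zero

theorem commute_of_local
    (hreg : Module.finrank (IsLocalRing.ResidueField L)
      (Subalgebra.centralizer (IsLocalRing.ResidueField L)
        ({g.map (IsLocalRing.residue L)} :
          Set (Matrix (Fin n) (Fin n) (IsLocalRing.ResidueField L)))) = n)
    (x y : Matrix (Fin n) (Fin n) L) (hx : x * g = g * x) (hy : y * g = g * y) :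
    x * y = y * x := by
  obtain ⟨v, hv⟩ := exists_isUnit_det_Cmat g hreg
  exact commute_of_cyclic g v hv x y hx hy

end loc

section glob

variable {B : Type u} [CommRing B] {n : ℕ} (g : Matrix (Fin n) (Fin n) B)

theorem commute_of_regular
    (hreg : ∀ (K : Type u) [Field K] (φ : B →+* K),
      Module.finrank K (Subalgebra.centralizer K ({g.map φ} : Set (Matrix (Fin n) (Fin n) K))) = n)
    (x y : Matrix (Fin n) (Fin n) B) (hx : x * g = g * x) (hy : y * g = g * y) :
    x * y = y * x := by
  rw [← sub_eq_zero]
  ext i j
  rw [Matrix.zero_apply]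
  apply eq_zero_of_localization
  intro J hJ
  have := hJ
  let f : B →+* Localization.AtPrime J := algebraMap B (Localization.AtPrime J)
  have hx' : x.map f * g.map f = g.map f * x.map f := by
    rw [← Matrix.map_mul, ← Matrix.map_mul, hx]
  have hy' : y.map f * g.map f = g.map f * y.map f := by
    rw [← Matrix.map_mul, ← Matrix.map_mul, hy]
  have hr := hreg (IsLocalRing.ResidueField (Localization.AtPrime J))
    ((IsLocalRing.residue (Localization.AtPrime J)).comp f)
  have hmm : g.map ((IsLocalRing.residue (Localization.AtPrime J)).comp f)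
      = (g.map f).map (IsLocalRing.residue (Localization.AtPrime J)) := by
    rw [Matrix.map_map]
    rfl
  rw [hmm] at hr
  have hc := commute_of_local (g.map f) hr (x.map f) (y.map f) hx' hy'
  rw [← Matrix.map_mul, ← Matrix.map_mul] at hc
  have := congrFun (congrFun hc i) j
  simp only [Matrix.map_apply] at this
  show f ((x * y - y * x) i j) = 0
  rw [Matrix.sub_apply, map_sub, this, sub_self]

end glob

end Groth.Agent.H9.Cyc
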