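import Mathlib
import Groth.Agent.Lib.Helper9.Misc.Cyc5

/-! Helper9: coordinate ring of the commutant of a matrix, map to the polynomial ring -/

namespace Groth.Agent.H9.Cyc

open Polynomial Function Module Matrix

set_option linter.unusedSectionVars false

universe u

section general

variable {L : Type*} [CommRing L] {n : ℕ} (g : Matrix (Fin n) (Fin n) L)

theorem eq_sum_of_commute (v : Fin n → L) (hv : IsUnit (Cmat g v).det)
    (x : Matrix (Fin n) (Fin n) L) (hx : x * g = g * x) :
    x = ∑ k : Fin n, ((Cmat g v)⁻¹ *ᵥ (x *ᵥ v)) k • g ^ (k : ℕ) := by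
  set c : Fin n → L := (Cmat g v)⁻¹ *ᵥ (x *ᵥ v) with hcdef
  have hc : Cmat g v *ᵥ c = x *ᵥ v := by
    rw [hcdef, Matrix.mulVec_mulVec, Matrix.mul_nonsing_inv _ hv, Matrix.one_mulVec]
  set P : Matrix (Fin n) (Fin n) L := ∑ k : Fin n, c k • g ^ (k : ℕ) with hP
  have hxk : ∀ k : ℕ, x * g ^ k = g ^ k * x := by
    intro k
    induction k with
    | zero => simp
    | succ k ih => rw [pow_succ, ← mul_assoc, ih, mul_assoc, hx, ← mul_assoc]
  have hPk : ∀ k : ℕ, P * g ^ k = g ^ k * P := by
    intro k
    rw [hP, Finset.sum_mul, Finset.mul_sum]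
    refine Finset.sum_congr rfl (fun j _ => ?_)
    rw [smul_mul_assoc, mul_smul_comm, ← pow_add, ← pow_add, add_comm]
  have hxv : x *ᵥ v = P *ᵥ v := by rw [hP, ← Cmat_mulVec, hc]
  have hmul : x * Cmat g v = P * Cmat g v := by
    rw [mul_Cmat, mul_Cmat]
    ext i k
    simp only [Matrix.of_apply]
    rw [hxk, hPk, ← Matrix.mulVec_mulVec, ← Matrix.mulVec_mulVec, hxv]
  calc x = x * Cmat g v * (Cmat g v)⁻¹ := by rw [Matrix.mul_nonsing_inv_cancel_right _ _ hv]
    _ = P * Cmat g v * (Cmat g v)⁻¹ := by rw [hmul]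
    _ = P := by rw [Matrix.mul_nonsing_inv_cancel_right _ _ hv]

theorem sum_commute (c : Fin n → L) :
    (∑ k : Fin n, c k • g ^ (k : ℕ)) * g = g * ∑ k : Fin n, c k • g ^ (k : ℕ) := by
  rw [Finset.sum_mul, Finset.mul_sum]
  refine Finset.sum_congr rfl (fun j _ => ?_)
  rw [smul_mul_assoc, mul_smul_comm, ← pow_succ, ← pow_succ']

end general

section iso

variable {A : Type u} [CommRing A] {n : ℕ} (g : Matrix (Fin n) (Fin n) A) (S : Submonoid A)

/-- the ideal of relations `X g = g X` -/
noncomputable def relI : Ideal (MvPolynomial (Fin n × Fin n) A) :=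
  Ideal.span (Set.range fun ij : Fin n × Fin n =>
        (Matrix.mvPolynomialX (Fin n) (Fin n) A * g.map MvPolynomial.C -
          g.map MvPolynomial.C * Matrix.mvPolynomialX (Fin n) (Fin n) A :
            Matrix (Fin n) (Fin n) (MvPolynomial (Fin n × Fin n) A)) ij.1 ij.2)

/-- the coordinate ring of the commutant -/
abbrev RR : Type u := MvPolynomial (Fin n × Fin n) A ⧸ relI g

/-- generic commuting matrix over L[c] -/
noncomputable def gLc : Matrix (Fin n) (Fin n) (MvPolynomial (Fin n) (Localization S)) :=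
  g.map ((MvPolynomial.C).comp (algebraMap A (Localization S)))

noncomputable def Mgen : Matrix (Fin n) (Fin n) (MvPolynomial (Fin n) (Localization S)) :=
  ∑ k : Fin n, (MvPolynomial.X k : MvPolynomial (Fin n) (Localization S)) • (gLc g S) ^ (k : ℕ)

noncomputable def psi0 :
    MvPolynomial (Fin n × Fin n) A →+* MvPolynomial (Fin n) (Localization S) :=
  MvPolynomial.eval₂Hom ((MvPolynomial.C).comp (algebraMap A (Localization S)))
    (fun ij => Mgen g S ij.1 ij.2)

theorem psi0_X : (Matrix.mvPolynomialX (Fin n) (Fin n) A).map (psi0 g S) = Mgen g S := by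
  ext i j
  simp [psi0, Matrix.mvPolynomialX]

theorem psi0_C : (g.map MvPolynomial.C).map (psi0 g S) = gLc g S := by
  ext i j
  simp [psi0, gLc]

theorem psi0_rel : ∀ a ∈ relI g, psi0 g S a = 0 := by
  have hle : relI g ≤ RingHom.ker (psi0 g S) := by
    rw [relI, Ideal.span_le]
    rintro _ ⟨ij, rfl⟩
    rw [SetLike.mem_coe, RingHom.mem_ker]
    have h3 : Mgen g S * gLc g S = gLc g S * Mgen g S := sum_commute (gLc g S) _
    have h4 : (psi0 g S).mapMatrix (Matrix.mvPolynomialX (Fin n) (Fin n) A * g.map MvPolynomial.C -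
          g.map MvPolynomial.C * Matrix.mvPolynomialX (Fin n) (Fin n) A) = 0 := by
      rw [map_sub, map_mul, map_mul]
      simp only [RingHom.mapMatrix_apply]
      rw [psi0_X, psi0_C, h3, sub_self]
    have := congrFun (congrFun h4 ij.1) ij.2
    simpa [RingHom.mapMatrix_apply] using this
  intro a ha
  exact hle ha

noncomputable def psi1 : RR g →+* MvPolynomial (Fin n) (Localization S) :=
  Ideal.Quotient.lift (relI g) (psi0 g S) (psi0_rel g S)

theorem psi1_algebraMap (a : A) :
    psi1 g S (algebraMap A (RR g) a) = MvPolynomial.C (algebraMap A (Localization S) a) := by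
  have : algebraMap A (RR g) a = Ideal.Quotient.mk (relI g) (MvPolynomial.C a) := rfl
  rw [this, psi1, Ideal.Quotient.lift_mk]
  simp [psi0]

/-- localisation of the coordinate ring -/
abbrev TT : Type u := Localization (Algebra.algebraMapSubmonoid (RR g) S)

noncomputable def psi : TT g S →+* MvPolynomial (Fin n) (Localization S) :=
  IsLocalization.lift (M := Algebra.algebraMapSubmonoid (RR g) S) (S := TT g S) (g := psi1 g S) (by
    rintro ⟨_, s, hs, rfl⟩
    rw [psi1_algebraMap]
    exact (IsLocalization.map_units (Localization S) ⟨s, hs⟩).map MvPolynomial.C)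

theorem psi_algebraMap (r : RR g) : psi g S (algebraMap (RR g) (TT g S) r) = psi1 g S r := by
  rw [psi, IsLocalization.lift_eq]

theorem psi_comp_algebraMap :
    (psi g S).comp (algebraMap (Localization S) (TT g S)) = MvPolynomial.C := by
  apply IsLocalization.ringHom_ext S
  ext a
  simp only [RingHom.comp_apply]
  rw [← IsScalarTower.algebraMap_apply A (Localization S) (TT g S),
    IsScalarTower.algebraMap_apply A (RR g) (TT g S), psi_algebraMap, psi1_algebraMap]

noncomputable def psiAlg : TT g S →ₐ[Localization S] MvPolynomial (Fin n) (Localization S) :=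
  { psi g S with
    commutes' := fun l => by
      have := congrArg (fun f => f l) (psi_comp_algebraMap g S)
      simpa using this }

end iso

end Groth.Agent.H9.Cyc
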