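import Mathlib
import Groth.Agent.Lib.Helper9.Misc.Cyc6

/-! Helper9: coordinate ring of the commutant: inverse map from the polynomial ring -/

namespace Groth.Agent.H9.Cyc

open Polynomial Function Module Matrix

set_option linter.unusedSectionVars false

universe u

section iso

variable {A : Type u} [CommRing A] {n : ℕ} (g : Matrix (Fin n) (Fin n) A) (S : Submonoid A)
variable (v : Fin n → Localization S)

noncomputable def gT : Matrix (Fin n) (Fin n) (TT g S) := g.map (algebraMap A (TT g S))

/-- the map `A[x] → R → T` -/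
noncomputable def qT : MvPolynomial (Fin n × Fin n) A →+* TT g S :=
  (algebraMap (RR g) (TT g S)).comp (Ideal.Quotient.mk (relI g))

noncomputable def XT : Matrix (Fin n) (Fin n) (TT g S) :=
  (Matrix.mvPolynomialX (Fin n) (Fin n) A).map (qT g S)

noncomputable def vT : Fin n → TT g S := algebraMap (Localization S) (TT g S) ∘ v

noncomputable def cT : Fin n → TT g S :=
  (Cmat (gT g S) (vT g S v))⁻¹ *ᵥ (XT g S *ᵥ vT g S v)

noncomputable def phi : MvPolynomial (Fin n) (Localization S) →ₐ[Localization S] TT g S :=
  MvPolynomial.aeval (cT g S v)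

theorem qT_C (a : A) : qT g S (MvPolynomial.C a) = algebraMap A (TT g S) a := by
  rw [IsScalarTower.algebraMap_apply A (RR g) (TT g S)]
  rfl

theorem qT_gC : (g.map MvPolynomial.C).map (qT g S) = gT g S := by
  ext i j
  simp only [Matrix.map_apply, gT]
  exact qT_C g S _

theorem XT_comm : XT g S * gT g S = gT g S * XT g S := by
  have h4 : (qT g S).mapMatrix (Matrix.mvPolynomialX (Fin n) (Fin n) A * g.map MvPolynomial.C -
        g.map MvPolynomial.C * Matrix.mvPolynomialX (Fin n) (Fin n) A) = 0 := by
    ext i j
    rw [RingHom.mapMatrix_apply, Matrix.map_apply, Matrix.zero_apply, qT, RingHom.comp_apply]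
    have hmem : (Matrix.mvPolynomialX (Fin n) (Fin n) A * g.map MvPolynomial.C -
        g.map MvPolynomial.C * Matrix.mvPolynomialX (Fin n) (Fin n) A :
          Matrix (Fin n) (Fin n) (MvPolynomial (Fin n × Fin n) A)) i j ∈ relI g :=
      Ideal.subset_span ⟨(i, j), rfl⟩
    rw [Ideal.Quotient.eq_zero_iff_mem.2 hmem, map_zero]
  rw [map_sub, map_mul, map_mul] at h4
  simp only [RingHom.mapMatrix_apply] at h4
  rw [qT_gC] at h4
  exact sub_eq_zero.1 h4

theorem isUnit_det_Cmat_map {L L' : Type*} [CommRing L] [CommRing L'] (h : Matrix (Fin n) (Fin n) L)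
    (f : L →+* L') (w : Fin n → L) (hw : IsUnit (Cmat h w).det) :
    IsUnit (Cmat (h.map f) (f ∘ w)).det := by
  rw [← Cmat_map, ← RingHom.mapMatrix_apply, ← RingHom.map_det]
  exact hw.map f

theorem isUnit_det_Cmat_T (hv : IsUnit (Cmat (g.map (algebraMap A (Localization S))) v).det) :
    IsUnit (Cmat (gT g S) (vT g S v)).det := by
  have h := isUnit_det_Cmat_map (L := Localization S) (L' := TT g S)
    (g.map (algebraMap A (Localization S))) (algebraMap (Localization S) (TT g S)) v hv
  have hg : (g.map (algebraMap A (Localization S))).map (algebraMap (Localization S) (TT g S))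
      = gT g S := by
    ext i j
    simp only [Matrix.map_apply, gT]
    exact (IsScalarTower.algebraMap_apply A (Localization S) (TT g S) _).symm
  rw [hg] at h
  exact h

theorem XT_eq (hv : IsUnit (Cmat (g.map (algebraMap A (Localization S))) v).det) :
    XT g S = ∑ k : Fin n, cT g S v k • gT g S ^ (k : ℕ) :=
  eq_sum_of_commute (gT g S) (vT g S v) (isUnit_det_Cmat_T g S v hv) (XT g S) (XT_comm g S)

theorem phi_gLc : (gLc g S).map (phi g S v) = gT g S := by
  ext i j
  simp only [gLc, gT, Matrix.map_apply, RingHom.comp_apply, phi, MvPolynomial.aeval_C]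
  exact (IsScalarTower.algebraMap_apply A (Localization S) (TT g S) _).symm

theorem phi_gLc_pow (k : ℕ) : (gLc g S ^ k).map (phi g S v) = gT g S ^ k := by
  have := map_pow ((phi g S v).toRingHom.mapMatrix) (gLc g S) k
  simp only [RingHom.mapMatrix_apply] at this
  rw [← phi_gLc g S v]
  exact this

theorem phi_Mgen (hv : IsUnit (Cmat (g.map (algebraMap A (Localization S))) v).det) :
    (Mgen g S).map (phi g S v) = XT g S := by
  rw [XT_eq g S v hv]
  ext i j
  simp only [Mgen, Matrix.map_apply, Matrix.sum_apply, Matrix.smul_apply, map_sum, smul_eq_mul,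
    map_mul]
  refine Finset.sum_congr rfl (fun k _ => ?_)
  have h1 : phi g S v (MvPolynomial.X k) = cT g S v k := by
    simp [phi]
  have h2 : phi g S v ((gLc g S ^ (k : ℕ)) i j) = (gT g S ^ (k : ℕ)) i j := by
    rw [← phi_gLc_pow g S v]
    rfl
  rw [h1, h2]

theorem phi_psi (hv : IsUnit (Cmat (g.map (algebraMap A (Localization S))) v).det) :
    (phi g S v).toRingHom.comp (psi g S) = RingHom.id _ := by
  refine IsLocalization.ringHom_ext (S := TT g S) (Algebra.algebraMapSubmonoid (RR g) S) ?_
  apply Ideal.Quotient.ringHom_ext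
  apply MvPolynomial.ringHom_ext
  · intro a
    simp only [RingHom.comp_apply, RingHom.id_apply]
    rw [psi_algebraMap]
    have h1 : psi1 g S (Ideal.Quotient.mk (relI g) (MvPolynomial.C a))
        = MvPolynomial.C (algebraMap A (Localization S) a) := psi1_algebraMap g S a
    rw [h1]
    have h2 : algebraMap (RR g) (TT g S) (Ideal.Quotient.mk (relI g) (MvPolynomial.C a))
        = algebraMap A (TT g S) a := qT_C g S a
    rw [h2]
    show (MvPolynomial.aeval (cT g S v)) (MvPolynomial.C (algebraMap A (Localization S) a)) = _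
    rw [MvPolynomial.aeval_C]
    exact (IsScalarTower.algebraMap_apply A (Localization S) (TT g S) _).symm
  · intro ij
    simp only [RingHom.comp_apply, RingHom.id_apply]
    rw [psi_algebraMap]
    have h1 : psi1 g S (Ideal.Quotient.mk (relI g) (MvPolynomial.X ij)) = Mgen g S ij.1 ij.2 := by
      rw [psi1, Ideal.Quotient.lift_mk]
      simp [psi0]
    rw [h1]
    have h2 := congrFun (congrFun (phi_Mgen g S v hv) ij.1) ij.2
    simp only [Matrix.map_apply] at h2
    show (phi g S v) (Mgen g S ij.1 ij.2) = _
    rw [h2]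
    simp [XT, qT, Matrix.mvPolynomialX]

end iso

end Groth.Agent.H9.Cyc
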