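import Mathlib
import Groth.Agent.Lib.Helper9.Misc.Cyc7

/-! Helper9: localized coordinate ring of the commutant of a cyclic matrix is a polynomial ring, hence flat -/

namespace Groth.Agent.H9.Cyc

open Polynomial Function Module Matrix

set_option linter.unusedSectionVars false

universe u

section iso

variable {A : Type u} [CommRing A] {n : ℕ} (g : Matrix (Fin n) (Fin n) A) (S : Submonoid A)
variable (v : Fin n → Localization S)

theorem psi_gT : (gT g S).map (psi g S) = gLc g S := by
  ext i j
  simp only [gT, gLc, Matrix.map_apply, RingHom.comp_apply]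
  rw [IsScalarTower.algebraMap_apply A (RR g) (TT g S), psi_algebraMap, psi1_algebraMap]

theorem psi_vT : (psi g S) ∘ (vT g S v) = (MvPolynomial.C) ∘ v := by
  funext i
  simp only [vT, Function.comp_apply]
  exact congrArg (fun f => f (v i)) (psi_comp_algebraMap g S)

theorem psi_XT : (XT g S).map (psi g S) = Mgen g S := by
  ext i j
  simp only [XT, qT, Matrix.map_apply, RingHom.comp_apply, Matrix.mvPolynomialX_apply]
  rw [psi_algebraMap, psi1, Ideal.Quotient.lift_mk]
  simp [psi0]

theorem psi_cT (hv : IsUnit (Cmat (g.map (algebraMap A (Localization S))) v).det) (k : Fin n) :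
    psi g S (cT g S v k) = MvPolynomial.X k := by
  have hdT := isUnit_det_Cmat_T g S v hv
  have hc : Cmat (gT g S) (vT g S v) *ᵥ cT g S v = XT g S *ᵥ vT g S v := by
    rw [cT, Matrix.mulVec_mulVec, Matrix.mul_nonsing_inv _ hdT, Matrix.one_mulVec]
  -- apply psi
  have h1 : ∀ i, psi g S ((Cmat (gT g S) (vT g S v) *ᵥ cT g S v) i)
      = psi g S ((XT g S *ᵥ vT g S v) i) := fun i => by rw [hc]
  simp only [RingHom.map_mulVec] at h1
  rw [Cmat_map, psi_gT, psi_vT, psi_XT] at h1
  -- Mgen *ᵥ (C ∘ v) = Cmat gLc (C∘v) *ᵥ X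
  have h2 : Mgen g S *ᵥ (MvPolynomial.C ∘ v)
      = Cmat (gLc g S) (MvPolynomial.C ∘ v) *ᵥ (fun k => (MvPolynomial.X k :
          MvPolynomial (Fin n) (Localization S))) := by
    rw [Cmat_mulVec]
    rfl
  have hd : IsUnit (Cmat (gLc g S) (MvPolynomial.C ∘ v)).det := by
    have h := isUnit_det_Cmat_map (L := Localization S)
      (L' := MvPolynomial (Fin n) (Localization S))
      (g.map (algebraMap A (Localization S))) MvPolynomial.C v hv
    have hg : (g.map (algebraMap A (Localization S))).map
        (MvPolynomial.C : Localization S →+* MvPolynomial (Fin n) (Localization S)) = gLc g S := by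
      ext i j
      simp [gLc]
    rw [hg] at h
    exact h
  have h3 : Cmat (gLc g S) (MvPolynomial.C ∘ v) *ᵥ ((psi g S) ∘ cT g S v)
      = Cmat (gLc g S) (MvPolynomial.C ∘ v) *ᵥ (fun k => (MvPolynomial.X k :
          MvPolynomial (Fin n) (Localization S))) := by
    rw [← h2]
    funext i
    exact h1 i
  have h4 := congrArg (fun w => (Cmat (gLc g S) (MvPolynomial.C ∘ v))⁻¹ *ᵥ w) h3
  simp only [Matrix.mulVec_mulVec, Matrix.nonsing_inv_mul _ hd, Matrix.one_mulVec] at h4
  exact congrFun h4 k

theorem psi_phi (hv : IsUnit (Cmat (g.map (algebraMap A (Localization S))) v).det) :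
    (psiAlg g S).comp (phi g S v) = AlgHom.id _ _ := by
  apply MvPolynomial.algHom_ext
  intro k
  simp only [AlgHom.comp_apply, phi, MvPolynomial.aeval_X, AlgHom.id_apply]
  exact psi_cT g S v hv k

theorem phi_psiAlg (hv : IsUnit (Cmat (g.map (algebraMap A (Localization S))) v).det) :
    (phi g S v).comp (psiAlg g S) = AlgHom.id _ _ := by
  apply AlgHom.ext
  intro t
  exact congrArg (fun f => f t) (phi_psi g S v hv)

noncomputable def isoT (hv : IsUnit (Cmat (g.map (algebraMap A (Localization S))) v).det) :
    TT g S ≃ₐ[Localization S] MvPolynomial (Fin n) (Localization S) :=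
  AlgEquiv.ofAlgHom (psiAlg g S) (phi g S v) (psi_phi g S v hv) (phi_psiAlg g S v hv)

theorem flat_TT_L (hv : IsUnit (Cmat (g.map (algebraMap A (Localization S))) v).det) :
    Module.Flat (Localization S) (TT g S) :=
  Module.Flat.of_linearEquiv (isoT g S v hv).toLinearEquiv

theorem flat_TT (hv : IsUnit (Cmat (g.map (algebraMap A (Localization S))) v).det) :
    Module.Flat A (TT g S) := by
  have h1 : Module.Flat (Localization S) (TT g S) := flat_TT_L g S v hv
  have h2 : Module.Flat A (Localization S) := IsLocalization.flat (Localization S) S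
  exact Module.Flat.trans A (Localization S) (TT g S)

end iso

end Groth.Agent.H9.Cyc
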