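import Mathlib
import Groth.Agent.Lib.Helper9.Misc.Cyc8

/-! Helper9: flatness of the commutant scheme of a fibrewise regular matrix -/

namespace Groth.Agent.H9.Cyc

open Polynomial Function Module Matrix

set_option linter.unusedSectionVars false

universe u

section glob

variable {A : Type u} [CommRing A] {n : ℕ} (g : Matrix (Fin n) (Fin n) A)

theorem flat_RR
    (hreg : ∀ (K : Type u) [Field K] (φ : A →+* K),
      Module.finrank K (Subalgebra.centralizer K ({g.map φ} : Set (Matrix (Fin n) (Fin n) K))) = n) :
    Module.Flat A (RR g) := by
  have inst : ∀ (P : Ideal A) [P.IsMaximal], IsLocalizedModule.AtPrime P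
      (IsScalarTower.toAlgHom A (RR g) (TT g P.primeCompl)).toLinearMap := fun P _ =>
    show IsLocalizedModule P.primeCompl
      (IsScalarTower.toAlgHom A (RR g) (TT g P.primeCompl)).toLinearMap from
    (isLocalizedModule_iff_isLocalization (S := P.primeCompl) (A := RR g)
      (Aₛ := TT g P.primeCompl)).mpr inferInstance
  refine @Module.flat_of_isLocalized_maximal A A _ _ _ (RR g) _ _ _ _
    (fun P _ => TT g P.primeCompl) _ _ _ _
    (fun P _ => (IsScalarTower.toAlgHom A (RR g) (TT g P.primeCompl)).toLinearMap) inst ?_
  intro P hP
  have hr := hreg (IsLocalRing.ResidueField (Localization.AtPrime P))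
    ((IsLocalRing.residue (Localization.AtPrime P)).comp (algebraMap A (Localization.AtPrime P)))
  have hmm : g.map ((IsLocalRing.residue (Localization.AtPrime P)).comp
        (algebraMap A (Localization.AtPrime P)))
      = (g.map (algebraMap A (Localization.AtPrime P))).map
          (IsLocalRing.residue (Localization.AtPrime P)) := by
    rw [Matrix.map_map]
    rfl
  rw [hmm] at hr
  obtain ⟨v, hv⟩ := exists_isUnit_det_Cmat (g.map (algebraMap A (Localization.AtPrime P))) hr
  exact flat_TT g P.primeCompl v hv

end glob

end Groth.Agent.H9.Cyc
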