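import Mathlib

set_option autoImplicit false
universe u
open IsLocalRing

namespace Groth.Agent.H9.CycMono

section Len

variable {R : Type*} [CommRing R] {N : Type*} [AddCommGroup N] [Module R N]

theorem length_quot_of_le {P₁ P₂ : Submodule R N} (h : P₁ ≤ P₂) :
    Module.length R (N ⧸ P₁) =
      Module.length R ↥(P₂.map P₁.mkQ) + Module.length R (N ⧸ P₂) := by
  have h1 := Module.length_eq_add_of_exact (P₂.map P₁.mkQ).subtype (P₂.map P₁.mkQ).mkQ
    (Submodule.subtype_injective _) (Submodule.mkQ_surjective _)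
    (LinearMap.exact_subtype_mkQ _)
  rw [h1, (Submodule.quotientQuotientEquivQuotient P₁ P₂ h).length_eq]

theorem length_map_range (φ : N →ₗ[R] N) (hφ : Function.Injective φ) (P : Submodule R N) :
    Module.length R ↥((LinearMap.range φ).map (P.map φ).mkQ) = Module.length R (N ⧸ P) := by
  have hker : LinearMap.ker ((P.map φ).mkQ ∘ₗ φ) = P := by
    ext n
    rw [LinearMap.mem_ker, LinearMap.comp_apply, Submodule.mkQ_apply,
      Submodule.Quotient.mk_eq_zero]
    constructor
    · rintro ⟨p, hp, hpn⟩
      rwa [← hφ hpn]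
    · intro hn
      exact ⟨n, hn, rfl⟩
  rw [← LinearMap.range_comp, ← (LinearMap.quotKerEquivRange _).length_eq,
    (Submodule.quotEquivOfEq _ _ hker).length_eq]

end Len

section Ext

variable {R R' : Type*} [CommRing R] [CommRing R'] [Algebra R R']

theorem length_map_P (hinj : Function.Injective (algebraMap R R')) (w : R) :
    Module.length R ↥((LinearMap.range (Algebra.linearMap R R')).map
      ((LinearMap.range (Algebra.linearMap R R')).map
        (LinearMap.mulLeft R (algebraMap R R' w))).mkQ) = Ring.ord R w := by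
  have hker : LinearMap.ker (((LinearMap.range (Algebra.linearMap R R')).map
        (LinearMap.mulLeft R (algebraMap R R' w))).mkQ ∘ₗ Algebra.linearMap R R') =
      Ideal.span {w} := by
    ext r
    rw [LinearMap.mem_ker, LinearMap.comp_apply, Submodule.mkQ_apply,
      Submodule.Quotient.mk_eq_zero]
    constructor
    · rintro ⟨_, ⟨r₀, rfl⟩, h⟩
      simp only [LinearMap.mulLeft_apply, Algebra.linearMap_apply] at h
      rw [← map_mul] at h
      have h' := hinj h
      rw [Ideal.mem_span_singleton']
      exact ⟨r₀, by rw [mul_comm]; exact h'⟩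
    · intro hr
      rw [Ideal.mem_span_singleton'] at hr
      obtain ⟨a, rfl⟩ := hr
      refine ⟨algebraMap R R' a, ⟨a, rfl⟩, ?_⟩
      simp only [LinearMap.mulLeft_apply, Algebra.linearMap_apply]
      rw [← map_mul, mul_comm]
  rw [← LinearMap.range_comp (Algebra.linearMap R R')
      ((LinearMap.range (Algebra.linearMap R R')).map
        (LinearMap.mulLeft R (algebraMap R R' w))).mkQ,
    ← (LinearMap.quotKerEquivRange _).length_eq,
    (Submodule.quotEquivOfEq _ _ hker).length_eq]
  rfl

theorem mulLeft_injective (w : R) (hw : algebraMap R R' w ∈ nonZeroDivisors R') :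
    Function.Injective (LinearMap.mulLeft R (algebraMap R R' w)) := by
  intro a b hab
  simp only [LinearMap.mulLeft_apply] at hab
  exact (mul_cancel_left_mem_nonZeroDivisors hw).mp hab

theorem length_ext (hinj : Function.Injective (algebraMap R R')) (z : R)
    (hz : algebraMap R R' z ∈ nonZeroDivisors R') (n : ℕ)
    (hn : ∀ b : R', ∃ r, algebraMap R R' r = algebraMap R R' z ^ n * b)
    (hfin : Ring.ord R (z ^ n) ≠ ⊤) :
    Module.length R (R' ⧸ Ideal.span {algebraMap R R' z}) = Ring.ord R z := by
  have hQ : Module.length R (R' ⧸ LinearMap.range (Algebra.linearMap R R')) ≠ ⊤ := by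
    have hzn : algebraMap R R' (z ^ n) ∈ nonZeroDivisors R' := by
      rw [map_pow]; exact pow_mem hz n
    rw [← length_map_range _ (mulLeft_injective _ hzn) (LinearMap.range (Algebra.linearMap R R'))]
    have hle : (LinearMap.range (LinearMap.mulLeft R (algebraMap R R' (z ^ n)))).map
        ((LinearMap.range (Algebra.linearMap R R')).map
          (LinearMap.mulLeft R (algebraMap R R' (z ^ n)))).mkQ ≤
        (LinearMap.range (Algebra.linearMap R R')).map
        ((LinearMap.range (Algebra.linearMap R R')).map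
          (LinearMap.mulLeft R (algebraMap R R' (z ^ n)))).mkQ := by
      apply Submodule.map_mono
      rintro _ ⟨b, rfl⟩
      obtain ⟨r, hr⟩ := hn b
      exact ⟨r, by simp [hr, map_pow]⟩
    have h3 := Module.length_le_of_injective (Submodule.inclusion hle)
      (Submodule.inclusion_injective hle)
    rw [length_map_P hinj] at h3
    exact ne_top_of_le_ne_top hfin h3
  have h1 : (LinearMap.range (Algebra.linearMap R R')).map
      (LinearMap.mulLeft R (algebraMap R R' z)) ≤ LinearMap.range (Algebra.linearMap R R') := by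
    rintro _ ⟨_, ⟨r, rfl⟩, rfl⟩
    exact ⟨z * r, by simp⟩
  have h2 : (LinearMap.range (Algebra.linearMap R R')).map
      (LinearMap.mulLeft R (algebraMap R R' z)) ≤
      LinearMap.range (LinearMap.mulLeft R (algebraMap R R' z)) := LinearMap.map_le_range
  have e1 := length_quot_of_le h1
  have e2 := length_quot_of_le h2
  rw [length_map_P hinj z] at e1
  rw [length_map_range _ (mulLeft_injective z hz)] at e2
  have hr : LinearMap.range (LinearMap.mulLeft R (algebraMap R R' z)) =
      (Ideal.span {algebraMap R R' z}).restrictScalars R := by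
    ext x
    simp only [LinearMap.mem_range, Submodule.restrictScalars_mem, Ideal.mem_span_singleton',
      LinearMap.mulLeft_apply]
    constructor <;> rintro ⟨a, rfl⟩ <;> exact ⟨a, mul_comm _ _⟩
  have e3 : Module.length R (R' ⧸ LinearMap.range (LinearMap.mulLeft R (algebraMap R R' z))) =
      Module.length R (R' ⧸ Ideal.span {algebraMap R R' z}) := by
    rw [(Submodule.quotEquivOfEq _ _ hr).length_eq,
      (Submodule.Quotient.restrictScalarsEquiv R _).length_eq]
  rw [e3] at e2
  rw [e1, add_comm (Ring.ord R z)] at e2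
  exact (WithTop.add_left_cancel hQ e2).symm

theorem ord_le_length_restrict (w : R') :
    Ring.ord R' w ≤ Module.length R (R' ⧸ Ideal.span {w}) := by
  have h := Submodule.length_le_length_restrictScalars (R := R') (M := R' ⧸ Ideal.span {w}) R ⊤
  rwa [Submodule.restrictScalars_top, Module.length_top, Module.length_top] at h

theorem ord_le_of_loc
    (hs : ∀ s : R', ∃ r t : R, IsUnit (algebraMap R R' t) ∧
      s * algebraMap R R' t = algebraMap R R' r)
    (z : R) : Ring.ord R' (algebraMap R R' z) ≤ Ring.ord R z := by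
  unfold Ring.ord
  rw [← WithBot.coe_le_coe, Module.coe_length, Module.coe_length]
  have hle : Ideal.span {z} ≤ LinearMap.ker
      (((Ideal.span {algebraMap R R' z}).mkQ.restrictScalars R) ∘ₗ Algebra.linearMap R R') := by
    intro r hr
    obtain ⟨a, rfl⟩ := Ideal.mem_span_singleton'.mp hr
    rw [LinearMap.mem_ker, LinearMap.comp_apply, LinearMap.restrictScalars_apply,
      Submodule.mkQ_apply, Submodule.Quotient.mk_eq_zero, Algebra.linearMap_apply, map_mul]
    exact Ideal.mul_mem_left _ _ (Ideal.mem_span_singleton_self _)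
  let g : (R ⧸ Ideal.span {z}) →ₗ[R] (R' ⧸ Ideal.span {algebraMap R R' z}) :=
    Submodule.liftQ (Ideal.span {z})
      (((Ideal.span {algebraMap R R' z}).mkQ.restrictScalars R) ∘ₗ Algebra.linearMap R R') hle
  have hg : ∀ r : R, g (Submodule.Quotient.mk r) = Submodule.Quotient.mk (algebraMap R R' r) :=
    fun r => rfl
  refine Order.krullDim_le_of_strictMono
    (fun N => Submodule.comap g (N.restrictScalars R)) ?_
  intro N₁ N₂ h
  refine lt_of_le_of_ne (Submodule.comap_mono (fun x hx => h.le hx)) ?_
  intro heq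
  obtain ⟨n, hn2, hn1⟩ := SetLike.exists_of_lt h
  obtain ⟨s, rfl⟩ := Submodule.Quotient.mk_surjective _ n
  obtain ⟨r, t, ht, hrt⟩ := hs s
  obtain ⟨u, hu⟩ := ht
  have hmk : (Submodule.Quotient.mk (algebraMap R R' r) : R' ⧸ Ideal.span {algebraMap R R' z}) =
      (u : R') • Submodule.Quotient.mk s := by
    rw [← Submodule.Quotient.mk_smul, smul_eq_mul, hu, mul_comm, hrt]
  have h2 : (Submodule.Quotient.mk r : R ⧸ Ideal.span {z}) ∈
      Submodule.comap g (N₂.restrictScalars R) := by
    show g (Submodule.Quotient.mk r) ∈ N₂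
    rw [hg, hmk]
    exact N₂.smul_mem _ hn2
  have h1 : (Submodule.Quotient.mk r : R ⧸ Ideal.span {z}) ∈
      Submodule.comap g (N₁.restrictScalars R) := by
    have h3 : Submodule.comap g (N₁.restrictScalars R) =
        Submodule.comap g (N₂.restrictScalars R) := heq
    rw [h3]; exact h2
  have h1' : (u : R') • (Submodule.Quotient.mk s : R' ⧸ Ideal.span {algebraMap R R' z}) ∈ N₁ := by
    have h4 : g (Submodule.Quotient.mk r) ∈ N₁ := h1
    rwa [hg, hmk] at h4
  apply hn1
  have h5 := N₁.smul_mem ((u⁻¹ : R'ˣ) : R') h1'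
  rwa [smul_smul, Units.inv_mul, one_smul] at h5

end Ext

section Dim

theorem ringKrullDim_le_of_isIntegral (R S : Type*) [CommRing R] [CommRing S] [Algebra R S]
    [Algebra.IsIntegral R S] : ringKrullDim S ≤ ringKrullDim R := by
  refine Order.krullDim_le_of_strictMono (fun p : PrimeSpectrum S =>
    (⟨p.asIdeal.comap (algebraMap R S), inferInstance⟩ : PrimeSpectrum R)) ?_
  intro p q hpq
  have hle : p.asIdeal ≤ q.asIdeal := hpq.le
  have hne : ¬ q.asIdeal ≤ p.asIdeal := fun h => absurd hpq (not_lt_of_ge h)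
  obtain ⟨x, hxq, hxp⟩ := SetLike.not_le_iff_exists.mp hne
  exact Ideal.comap_lt_comap_of_integral_mem_sdiff hle ⟨hxq, hxp⟩
    (Algebra.IsIntegral.isIntegral x)

theorem dim_loc (R : Type*) [CommRing R] (hR : ringKrullDim R = 1) (R' : Type*) [CommRing R']
    [Algebra R R'] [Algebra.IsIntegral R R'] (q : Ideal R') [hq : q.IsPrime] (z : R')
    (hzq : z ∈ q) (hz : z ∈ nonZeroDivisors R') :
    ringKrullDim (Localization.AtPrime q) = 1 := by
  rw [IsLocalization.AtPrime.ringKrullDim_eq_height q (Localization.AtPrime q)]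
  apply le_antisymm
  · calc (q.height : WithBot ℕ∞) ≤ ringKrullDim R' :=
          Ideal.height_le_ringKrullDim_of_ne_top hq.ne_top
      _ ≤ ringKrullDim R := ringKrullDim_le_of_isIntegral R R'
      _ = 1 := hR
  · have h0 : q.height ≠ 0 := by
      intro h0
      rw [Ideal.height_eq_zero_iff] at h0
      exact Set.disjoint_left.mp (Ideal.disjoint_nonZeroDivisors_of_mem_minimalPrimes h0) hzq hz
    have h1 : (1 : ℕ∞) ≤ q.height := ENat.one_le_iff_ne_zero.mpr h0
    exact_mod_cast h1

theorem exists_enum (R : Type*) [CommRing R] [IsLocalRing R] (B : Type*) [CommRing B]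
    [Algebra R B] [IsNoetherianRing B] [Algebra.IsIntegral R B] :
    ∃ (r : ℕ) (m : Fin r → Ideal B), (∀ i, (m i).IsMaximal) ∧ Function.Injective m ∧
      ∀ q : Ideal B, q.IsMaximal → ∃ i, q = m i := by
  have hsub : {q : Ideal B | q.IsMaximal} ⊆
      ((maximalIdeal R).map (algebraMap R B)).minimalPrimes := by
    intro q hq
    have hq' : q.IsMaximal := hq
    haveI := hq'
    have hqc : q.comap (algebraMap R B) = maximalIdeal R :=
      eq_maximalIdeal (Ideal.isMaximal_comap_of_isIntegral_of_isMaximal q)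
    refine ⟨⟨hq'.isPrime, Ideal.map_le_iff_le_comap.mpr hqc.ge⟩, ?_⟩
    rintro p ⟨hp, hmp⟩ hpq
    by_contra hqp
    haveI := hp
    obtain ⟨x, hxq, hxp⟩ := SetLike.not_le_iff_exists.mp hqp
    have hlt := Ideal.comap_lt_comap_of_integral_mem_sdiff hpq ⟨hxq, hxp⟩
      (Algebra.IsIntegral.isIntegral (R := R) x)
    have hpc : maximalIdeal R ≤ p.comap (algebraMap R B) := Ideal.map_le_iff_le_comap.mp hmp
    rw [hqc] at hlt
    exact absurd (lt_of_le_of_lt hpc hlt) (lt_irrefl _)
  have hfin : {q : Ideal B | q.IsMaximal}.Finite :=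
    (Ideal.finite_minimalPrimes_of_isNoetherianRing B _).subset hsub
  refine ⟨hfin.toFinset.card,
    fun i => ((hfin.toFinset.equivFin.symm i : ↥hfin.toFinset) : Ideal B), ?_, ?_, ?_⟩
  · intro i
    exact (hfin.mem_toFinset).mp (hfin.toFinset.equivFin.symm i).2
  · intro i j hij
    exact hfin.toFinset.equivFin.symm.injective (Subtype.ext hij)
  · intro q hq
    refine ⟨hfin.toFinset.equivFin ⟨q, hfin.mem_toFinset.mpr hq⟩, ?_⟩
    simp

theorem nzd_ext {R B : Type*} [CommRing R] [CommRing B] [Algebra R B]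
    (hinj : Function.Injective (algebraMap R B)) (I : Ideal R) (n : ℕ)
    (hn : ∀ r ∈ I ^ n, ∀ b : B, r • b ∈ (algebraMap R B).range) (z : R) (hzI : z ∈ I)
    (hz : algebraMap R B z ∈ nonZeroDivisors B) (s : R) (hs : s ∈ nonZeroDivisors R) :
    algebraMap R B s ∈ nonZeroDivisors B := by
  rw [mem_nonZeroDivisors_iff_right]
  intro b hb
  obtain ⟨r, hr⟩ := hn (z ^ n) (Ideal.pow_mem_pow hzI n) b
  have h1 : algebraMap R B (r * s) = 0 := by
    rw [map_mul, hr, Algebra.smul_def, mul_assoc, hb, mul_zero]
  have h2 : r * s = 0 := hinj (by rw [h1, map_zero])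
  have h3 : r = 0 := (mem_nonZeroDivisors_iff_right.mp hs) r h2
  rw [h3, map_zero, Algebra.smul_def, map_pow] at hr
  exact (mem_nonZeroDivisors_iff_right.mp (pow_mem hz n)) b (by rw [mul_comm]; exact hr.symm)

end Dim

end Groth.Agent.H9.CycMono
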