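import Mathlib

universe u

namespace Groth.Agent.H9.GlueMax

variable {A : Type u} [CommRing A] {I : Type} [Fintype I]
  (m : I → Ideal A) (B : I → Type u) [∀ i, CommRing (B i)] (ι : ∀ i, A →+* B i) (n : ℕ)

/-- the diagonal map -/
def ιP : A →+* (∀ i, B i) := Pi.ringHom ι

@[simp] theorem ιP_apply (a : A) (i : I) : ιP B ι a i = ι i a := rfl

/-- abstract gluing data at finitely many maximal ideals -/
structure Data : Prop where
  isMax : ∀ i, (m i).IsMaximal
  inj : Function.Injective m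
  unit : ∀ i t, t ∉ m i → IsUnit (ι i t)
  H2 : ∀ i a, ι i a = 0 → ∀ y ∈ m i ^ n, ∃ t, t ∉ m i ∧ t * (y * a) = 0
  H3 : ∀ i (b : B i), ∀ y ∈ m i ^ n, ∃ t a, t ∉ m i ∧ ι i (t * y) * b = ι i a

theorem mul_G_pow_mem {i : I} {G : A} (hG : ∀ k, k ≠ i → G ∈ m k) {u : A} {M : ℕ}
    (hu : u ∈ m i ^ M) : u * G ^ M ∈ (⨅ i, m i) ^ M := by
  have h1 : m i * Ideal.span {G} ≤ ⨅ i, m i := by
    rw [Ideal.mul_le]
    intro a ha b hb
    rw [Ideal.mem_iInf]
    intro k
    by_cases hk : k = i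
    · subst hk
      exact Ideal.mul_mem_right _ _ ha
    · obtain ⟨c, rfl⟩ := Ideal.mem_span_singleton'.1 hb
      exact Ideal.mul_mem_left _ _ (Ideal.mul_mem_left _ _ (hG k hk))
  have h2 : u * G ^ M ∈ (m i * Ideal.span {G}) ^ M := by
    rw [mul_pow]
    exact Ideal.mul_mem_mul hu (Ideal.pow_mem_pow (Ideal.mem_span_singleton_self G) M)
  exact Ideal.pow_right_mono h1 M h2

variable {m B ι n} (hd : Data m B ι n)
include hd

theorem Data.prime (i : I) : (m i).IsPrime := (hd.isMax i).isPrime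

theorem Data.exists_mem_not_mem {i j : I} (hij : i ≠ j) : ∃ g, g ∈ m i ∧ g ∉ m j := by
  by_contra h
  push_neg at h
  have hle : m i ≤ m j := fun g hg => h g hg
  have := (hd.isMax i).eq_of_le (hd.isMax j).ne_top hle
  exact hij (hd.inj this)

theorem Data.sup_pow_eq_top (J : Ideal A) (hJ : ∀ i, ¬ J ≤ m i) (k : ℕ) :
    J ⊔ (⨅ i, m i) ^ k = ⊤ := by
  by_contra h
  obtain ⟨M, hM, hle⟩ := Ideal.exists_le_maximal _ h
  have h1 : J ≤ M := le_sup_left.trans hle
  have h2 : (⨅ i, m i) ^ k ≤ M := le_sup_right.trans hle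
  haveI := hM.isPrime
  have h3 : (⨅ i, m i) ≤ M := Ideal.IsPrime.le_of_pow_le h2
  have h4 : (Finset.univ : Finset I).inf m ≤ M := by
    rw [Finset.inf_univ_eq_iInf]
    exact h3
  obtain ⟨i, -, hi⟩ := (Ideal.IsPrime.inf_le' hM.isPrime).1 h4
  have := (hd.isMax i).eq_of_le hM.ne_top hi
  exact hJ i (this ▸ h1)

theorem Data.span_sup_pow_eq_top (i : I) (c : A) (hc : c ∉ m i) (k : ℕ) :
    Ideal.span {c} ⊔ (m i) ^ k = ⊤ := by
  by_contra h
  obtain ⟨M, hM, hle⟩ := Ideal.exists_le_maximal _ h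
  have h1 : c ∈ M := (le_sup_left.trans hle) (Ideal.mem_span_singleton_self c)
  have h2 : (m i) ^ k ≤ M := le_sup_right.trans hle
  haveI := hM.isPrime
  have h3 : m i ≤ M := Ideal.IsPrime.le_of_pow_le h2
  have := (hd.isMax i).eq_of_le hM.ne_top h3
  exact hc (this ▸ h1)

theorem Data.prod_not_mem (i : I) {J : Type*} [Fintype J] (t : J → A) (ht : ∀ j, t j ∉ m i) :
    (∏ j, t j) ∉ m i := by
  haveI := hd.prime i
  rw [Ideal.IsPrime.prod_mem_iff]
  rintro ⟨j, -, hj⟩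
  exact ht j hj

theorem Data.mul_not_mem (i : I) {a b : A} (ha : a ∉ m i) (hb : b ∉ m i) : a * b ∉ m i := by
  haveI := hd.prime i
  exact fun hmem => (Ideal.IsPrime.mem_or_mem ‹_› hmem).elim ha hb

theorem Data.pow_not_mem (i : I) {a : A} (ha : a ∉ m i) (k : ℕ) : a ^ k ∉ m i := by
  haveI := hd.prime i
  exact fun hmem => ha (Ideal.IsPrime.mem_of_pow_mem ‹_› k hmem)

theorem Data.exists_G (i : I) : ∃ G, G ∉ m i ∧ ∀ k, k ≠ i → G ∈ m k := by
  classical
  have hex : ∀ k : I, ∃ g, g ∉ m i ∧ (k ≠ i → g ∈ m k) := by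
    intro k
    by_cases hk : k = i
    · exact ⟨1, (Ideal.ne_top_iff_one _).1 (hd.isMax i).ne_top, fun h => absurd hk h⟩
    · obtain ⟨g, hg1, hg2⟩ := hd.exists_mem_not_mem hk
      exact ⟨g, hg2, fun _ => hg1⟩
  choose g hg1 hg2 using hex
  refine ⟨∏ k, g k, hd.prod_not_mem i g hg1, ?_⟩
  intro k hk
  exact Ideal.mem_of_dvd _ (Finset.dvd_prod_of_mem g (Finset.mem_univ k)) (hg2 k hk)

theorem Data.H2' [IsNoetherianRing A] (i : I) (a : A) (ha : ι i a = 0) :
    ∃ t, t ∉ m i ∧ ∀ y ∈ m i ^ n, t * (y * a) = 0 := by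
  obtain ⟨k, ys, hys⟩ := Submodule.fg_iff_exists_fin_generating_family.1
    (IsNoetherian.noetherian (m i ^ n))
  have hmem : ∀ l, ys l ∈ m i ^ n := fun l => hys ▸ Submodule.subset_span (Set.mem_range_self l)
  choose t ht1 ht2 using fun l => hd.H2 i a ha (ys l) (hmem l)
  refine ⟨∏ l, t l, hd.prod_not_mem i t ht1, ?_⟩
  intro y hy
  rw [← hys] at hy
  induction hy using Submodule.span_induction with
  | mem x hx =>
    obtain ⟨l, rfl⟩ := hx
    obtain ⟨c, hc⟩ := Finset.dvd_prod_of_mem t (Finset.mem_univ l)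
    rw [hc, mul_comm (t l) c, mul_assoc, ht2 l, mul_zero]
  | zero => simp
  | add x y _ _ hx hy => rw [add_mul, mul_add, hx, hy, add_zero]
  | smul r x _ hx =>
    have : (∏ l, t l) * (r • x * a) = r * ((∏ l, t l) * (x * a)) := by
      rw [smul_eq_mul]; ring
    rw [this, hx, mul_zero]

theorem Data.kill [IsNoetherianRing A] (i : I) (h : ∀ j, B j) (hi : h i = 0)
    (hy : ∀ j, j ≠ i → ∃ y, y ∉ m j ∧ ιP B ι y * h ∈ (ιP B ι).range) :
    ∃ t, t ∉ m i ∧ ιP B ι t * h = 0 := by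
  classical
  have hex : ∀ j : I, ∃ T, T ∉ m i ∧ ι j T * h j = 0 := by
    intro j
    by_cases hj : j = i
    · subst hj
      exact ⟨1, (Ideal.ne_top_iff_one _).1 (hd.isMax j).ne_top, by simp [hi]⟩
    · obtain ⟨y, hyj, a, ha⟩ := hy j hj
      have hai : ι i a = 0 := by
        have := congrFun ha i
        simp only [ιP_apply, Pi.mul_apply] at this
        rw [this, hi, mul_zero]
      obtain ⟨t, ht, htk⟩ := hd.H2' i a hai
      obtain ⟨g, hg1, hg2⟩ := hd.exists_mem_not_mem (Ne.symm hj)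
      have h0 := htk (g ^ n) (Ideal.pow_mem_pow hg1 n)
      have haj : ι j a = ι j y * h j := by
        have := congrFun ha j
        simpa using this
      have h1 : ι j t * (ι j (g ^ n) * (ι j y * h j)) = 0 := by
        rw [← haj, ← map_mul, ← map_mul, h0, map_zero]
      have hu : IsUnit (ι j (g ^ n * y)) :=
        hd.unit j _ (hd.mul_not_mem j (hd.pow_not_mem j hg2 n) hyj)
      refine ⟨t, ht, ?_⟩
      have h2 : ι j (g ^ n * y) * (ι j t * h j) = 0 := by
        rw [map_mul]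
        linear_combination h1
      exact hu.mul_right_eq_zero.mp h2
  choose T hT1 hT2 using hex
  refine ⟨∏ j, T j, hd.prod_not_mem i T hT1, ?_⟩
  funext j
  obtain ⟨c, hc⟩ := Finset.dvd_prod_of_mem T (Finset.mem_univ j)
  simp only [ιP_apply, Pi.mul_apply, Pi.zero_apply]
  rw [hc, map_mul, mul_comm (ι j (T j)), mul_assoc, hT2 j, mul_zero]

theorem Data.bounded [IsNoetherianRing A] (x : ∀ j, B j)
    (hx : ∃ M, ∀ y ∈ (⨅ i, m i) ^ M, ιP B ι y * x ∈ (ιP B ι).range) :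
    ∀ y ∈ (⨅ i, m i) ^ n, ιP B ι y * x ∈ (ιP B ι).range := by
  classical
  obtain ⟨M, hM⟩ := hx
  intro y hy
  set z := ιP B ι y * x with hz_def
  have hz : ∀ y' ∈ (⨅ i, m i) ^ M, ιP B ι y' * z ∈ (ιP B ι).range := by
    intro y' hy'
    have : ιP B ι y' * z = ιP B ι y * (ιP B ι y' * x) := by rw [hz_def]; ring
    rw [this]
    exact Subring.mul_mem _ ⟨y, rfl⟩ (hM y' hy')
  have hloc : ∀ i, ∃ v, v ∉ m i ∧ ιP B ι v * z ∈ (ιP B ι).range := by
    intro i
    obtain ⟨G, hGi, hGk⟩ := hd.exists_G i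
    have hyi : y ∈ m i ^ n := Ideal.pow_right_mono (iInf_le m i) n hy
    obtain ⟨t₁, a₁, ht₁, h3⟩ := hd.H3 i (x i) y hyi
    set g := ιP B ι (G ^ M) * z with hg_def
    have hg : ∀ u ∈ m i ^ M, ιP B ι u * g ∈ (ιP B ι).range := by
      intro u hu
      have : ιP B ι u * g = ιP B ι (u * G ^ M) * z := by rw [hg_def, map_mul]; ring
      rw [this]
      exact hz _ (mul_G_pow_mem m hGk hu)
    set h := ιP B ι t₁ * g - ιP B ι (G ^ M * a₁) with hh_def
    have hhi : h i = 0 := by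
      have e : h i = ι i (G ^ M) * (ι i (t₁ * y) * x i - ι i a₁) := by
        simp only [hh_def, hg_def, hz_def, Pi.sub_apply, Pi.mul_apply, ιP_apply, map_mul]
        ring
      rw [e, h3, sub_self, mul_zero]
    obtain ⟨t, ht, hth⟩ := hd.kill i h hhi (by
      intro j hj
      obtain ⟨g', hg1, hg2⟩ := hd.exists_mem_not_mem (Ne.symm hj)
      refine ⟨g' ^ M, hd.pow_not_mem j hg2 M, ?_⟩
      have : ιP B ι (g' ^ M) * h =
          ιP B ι t₁ * (ιP B ι (g' ^ M) * g) - ιP B ι (g' ^ M * (G ^ M * a₁)) := by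
        rw [hh_def, map_mul (ιP B ι) (g' ^ M) (G ^ M * a₁)]; ring
      rw [this]
      exact Subring.sub_mem _ (Subring.mul_mem _ ⟨t₁, rfl⟩ (hg _ (Ideal.pow_mem_pow hg1 M)))
        ⟨_, rfl⟩)
    have hgr : ιP B ι (t * t₁) * g ∈ (ιP B ι).range := by
      refine ⟨t * (G ^ M * a₁), ?_⟩
      have : ιP B ι (t * t₁) * g = ιP B ι t * h + ιP B ι (t * (G ^ M * a₁)) := by
        rw [hh_def, map_mul (ιP B ι) t t₁, map_mul (ιP B ι) t (G ^ M * a₁)]; ring
      rw [this, hth, zero_add]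
    have htt : t * t₁ ∉ m i := hd.mul_not_mem i ht ht₁
    have htop := hd.span_sup_pow_eq_top i (t * t₁) htt M
    have h1 : (1 : A) ∈ Ideal.span {t * t₁} ⊔ m i ^ M := htop ▸ Submodule.mem_top
    obtain ⟨σ, hσ, μ, hμ, hsum⟩ := Submodule.mem_sup.1 h1
    obtain ⟨lam, rfl⟩ := Ideal.mem_span_singleton'.1 hσ
    refine ⟨G ^ M, hd.pow_not_mem i hGi M, ?_⟩
    have hgeq : g = ιP B ι lam * (ιP B ι (t * t₁) * g) + ιP B ι μ * g := by
      have h1' : ιP B ι (lam * (t * t₁) + μ) = 1 := by rw [hsum, map_one]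
      rw [map_add, map_mul (ιP B ι) lam (t * t₁)] at h1'
      linear_combination (-g) * h1'
    show g ∈ (ιP B ι).range
    rw [hgeq]
    exact Subring.add_mem _ (Subring.mul_mem _ ⟨lam, rfl⟩ hgr) (hg μ hμ)
  choose v hv hvz using hloc
  have hspan : Ideal.span (Set.range v) ⊔ (⨅ i, m i) ^ M = ⊤ := by
    apply hd.sup_pow_eq_top
    intro i hle
    exact hv i (hle (Ideal.subset_span (Set.mem_range_self i)))
  have h1 : (1 : A) ∈ Ideal.span (Set.range v) ⊔ (⨅ i, m i) ^ M := hspan ▸ Submodule.mem_top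
  obtain ⟨σ, hσ, μ, hμ, hsum⟩ := Submodule.mem_sup.1 h1
  obtain ⟨c, rfl⟩ := (Ideal.mem_span_range_iff_exists_fun).1 hσ
  have hzeq : z = ∑ i, ιP B ι (c i) * (ιP B ι (v i) * z) + ιP B ι μ * z := by
    have h1' : ιP B ι (∑ i, c i * v i + μ) = 1 := by rw [hsum, map_one]
    rw [map_add, map_sum] at h1'
    calc z = 1 * z := (one_mul z).symm
      _ = (∑ i, ιP B ι (c i * v i) + ιP B ι μ) * z := by rw [h1']
      _ = _ := by
        rw [add_mul, Finset.sum_mul]
        congr 1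
        apply Finset.sum_congr rfl
        intro i _
        rw [map_mul, mul_assoc]
  rw [hzeq]
  exact Subring.add_mem _ (Subring.sum_mem _ fun i _ => Subring.mul_mem _ ⟨c i, rfl⟩ (hvz i))
    (hz μ hμ)

theorem Data.lift [IsNoetherianRing A] (i : I) (b : B i) :
    ∃ (x : ∀ j, B j) (t : A), t ∉ m i ∧ x i = ι i t * b ∧
      ∀ y ∈ m i ^ n, ιP B ι y * x ∈ (ιP B ι).range := by
  classical
  obtain ⟨k, ys, hys⟩ := Submodule.fg_iff_exists_fin_generating_family.1
    (IsNoetherian.noetherian (m i ^ n))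
  have hmem : ∀ l, ys l ∈ m i ^ n := fun l => hys ▸ Submodule.subset_span (Set.mem_range_self l)
  choose t0 a0 ht0 h30 using fun l => hd.H3 i b (ys l) (hmem l)
  have ht₁ : (∏ l, t0 l) ∉ m i := hd.prod_not_mem i t0 ht0
  have hE1 : ∀ l, ∃ a', ι i ((∏ l, t0 l) * ys l) * b = ι i a' := by
    intro l
    obtain ⟨c, hc⟩ := Finset.dvd_prod_of_mem t0 (Finset.mem_univ l)
    refine ⟨c * a0 l, ?_⟩
    have : ι i ((∏ l, t0 l) * ys l) * b = ι i c * (ι i (t0 l * ys l) * b) := by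
      rw [hc]; simp only [map_mul]; ring
    rw [this, h30 l, map_mul]
  choose a' hE1' using hE1
  have hsyz : ∀ p : Fin k × Fin k, ι i (ys p.2 * a' p.1 - ys p.1 * a' p.2) = 0 := by
    intro p
    rw [map_sub, map_mul, map_mul, ← hE1' p.1, ← hE1' p.2]
    simp only [map_mul]
    ring
  choose t2 ht2 hk2 using fun p => hd.H2' i _ (hsyz p)
  have ht₂ : (∏ p, t2 p) ∉ m i := hd.prod_not_mem i t2 ht2
  have hk2' : ∀ (p : Fin k × Fin k), ∀ y ∈ m i ^ n,
      (∏ p, t2 p) * (y * (ys p.2 * a' p.1 - ys p.1 * a' p.2)) = 0 := by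
    intro p y hy
    obtain ⟨c, hc⟩ := Finset.dvd_prod_of_mem t2 (Finset.mem_univ p)
    rw [hc, mul_comm (t2 p) c, mul_assoc, hk2 p y hy, mul_zero]
  have hl0 : ∀ j, j ≠ i → ∃ l, ys l ∉ m j := by
    intro j hj
    by_contra hcon
    push_neg at hcon
    have hle : m i ^ n ≤ m j := by
      rw [← hys, Submodule.span_le]
      rintro _ ⟨l, rfl⟩
      exact hcon l
    haveI := hd.prime j
    have hle' : m i ≤ m j := Ideal.IsPrime.le_of_pow_le hle
    exact hj ((hd.inj ((hd.isMax i).eq_of_le (hd.isMax j).ne_top hle')).symm)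
  choose l0 hl0' using hl0
  let x₀ : ∀ j, B j := fun j => if hj : j = i then 0 else
      ((hd.unit j (ys (l0 j hj)) (hl0' j hj)).unit⁻¹ : (B j)ˣ) * ι j ((∏ p, t2 p) * a' (l0 j hj))
  let x : ∀ j, B j := Function.update x₀ i (ι i ((∏ p, t2 p) * (∏ l, t0 l)) * b)
  have hxi : x i = ι i ((∏ p, t2 p) * (∏ l, t0 l)) * b := Function.update_self ..
  have hxj : ∀ j (hj : j ≠ i), ι j (ys (l0 j hj)) * x j = ι j ((∏ p, t2 p) * a' (l0 j hj)) := by
    intro j hj
    have : x j = x₀ j := Function.update_of_ne hj _ _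
    rw [this]
    simp only [x₀, dif_neg hj]
    rw [← mul_assoc, IsUnit.mul_val_inv, one_mul]
  have hE2 : ∀ l, ιP B ι (ys l) * x = ιP B ι ((∏ p, t2 p) * a' l) := by
    intro l
    funext j
    simp only [Pi.mul_apply, ιP_apply]
    by_cases hj : j = i
    · subst hj
      rw [hxi]
      have := hE1' l
      calc ι j (ys l) * (ι j ((∏ p, t2 p) * (∏ l, t0 l)) * b)
          = ι j (∏ p, t2 p) * (ι j ((∏ l, t0 l) * ys l) * b) := by simp only [map_mul]; ring
        _ = ι j ((∏ p, t2 p) * a' l) := by rw [this, map_mul]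
    · have hu := hd.unit j (ys (l0 j hj)) (hl0' j hj)
      have h0 := hk2' (l0 j hj, l) (ys (l0 j hj)) (hmem _)
      have h1 := congrArg (ι j) h0
      simp only [map_mul, map_sub, map_zero] at h1
      have h1' : ι j (∏ p, t2 p) * (ι j (ys l) * ι j (a' (l0 j hj)) -
          ι j (ys (l0 j hj)) * ι j (a' l)) = 0 := by
        apply hu.mul_right_eq_zero.mp
        linear_combination h1
      have h2 := hxj j hj
      simp only [map_mul] at h2 ⊢
      apply hu.mul_left_cancel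
      linear_combination (ι j (ys l)) * h2 + h1'
  refine ⟨x, (∏ p, t2 p) * (∏ l, t0 l), hd.mul_not_mem i ht₂ ht₁, hxi, ?_⟩
  intro y hy
  rw [← hys] at hy
  induction hy using Submodule.span_induction with
  | mem y hy =>
    obtain ⟨l, rfl⟩ := hy
    exact ⟨_, (hE2 l).symm⟩
  | zero => exact ⟨0, by simp⟩
  | add y y' _ _ h1 h2 =>
    rw [map_add, add_mul]
    exact Subring.add_mem _ h1 h2
  | smul r y _ h1 =>
    rw [smul_eq_mul, map_mul, mul_assoc]
    exact Subring.mul_mem _ ⟨r, rfl⟩ h1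

end Groth.Agent.H9.GlueMax
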