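import Mathlib
import Groth.Agent.Lib.Helper9.Misc.GlueMaxA

universe u

namespace Groth.Agent.H9.GlueMax

variable {A : Type u} [CommRing A] {I : Type} [Fintype I]
  (m : I → Ideal A) (B : I → Type u) [∀ i, CommRing (B i)] (ι : ∀ i, A →+* B i) {n : ℕ}

/-- tuples which become global after multiplication by a power of the intersection -/
def E : Subring (∀ i, B i) where
  carrier := {x | ∃ M, ∀ y ∈ (⨅ i, m i) ^ M, ιP B ι y * x ∈ (ιP B ι).range}
  mul_mem' := by
    rintro x x' ⟨M₁, h₁⟩ ⟨M₂, h₂⟩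
    refine ⟨M₁ + M₂, ?_⟩
    intro y hy
    rw [pow_add] at hy
    refine Submodule.mul_induction_on hy ?_ ?_
    · intro y₁ hy₁ y₂ hy₂
      have : ιP B ι (y₁ * y₂) * (x * x') = (ιP B ι y₁ * x) * (ιP B ι y₂ * x') := by
        rw [map_mul]; ring
      rw [this]
      exact Subring.mul_mem _ (h₁ y₁ hy₁) (h₂ y₂ hy₂)
    · intro y₁ y₂ hy₁ hy₂
      rw [map_add, add_mul]
      exact Subring.add_mem _ hy₁ hy₂
  one_mem' := ⟨0, fun y _ => ⟨y, by simp⟩⟩
  add_mem' := by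
    rintro x x' ⟨M₁, h₁⟩ ⟨M₂, h₂⟩
    refine ⟨M₁ + M₂, ?_⟩
    intro y hy
    rw [mul_add]
    exact Subring.add_mem _ (h₁ y (Ideal.pow_le_pow_right (Nat.le_add_right _ _) hy))
      (h₂ y (Ideal.pow_le_pow_right (Nat.le_add_left _ _) hy))
  zero_mem' := ⟨0, fun y _ => ⟨0, by simp⟩⟩
  neg_mem' := by
    rintro x ⟨M, h⟩
    refine ⟨M, fun y hy => ?_⟩
    rw [mul_neg]
    exact Subring.neg_mem _ (h y hy)

theorem mem_E {x : ∀ i, B i} :
    x ∈ E m B ι ↔ ∃ M, ∀ y ∈ (⨅ i, m i) ^ M, ιP B ι y * x ∈ (ιP B ι).range := Iff.rfl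

theorem ιP_mem_E (a : A) : ιP B ι a ∈ E m B ι :=
  ⟨0, fun y _ => ⟨y * a, by rw [map_mul]⟩⟩

/-- the ambient ring -/
abbrev Q (s : A) := (A ⧸ Ideal.span {s}) × (∀ i, B i)

/-- the diagonal map into the ambient ring -/
def κ (s : A) : A →+* Q B s := (Ideal.Quotient.mk (Ideal.span {s})).prod (ιP B ι)

@[simp] theorem κ_fst (s a : A) : (κ B ι s a).1 = Ideal.Quotient.mk (Ideal.span {s}) a := rfl

@[simp] theorem κ_snd (s a : A) : (κ B ι s a).2 = ιP B ι a := rfl

/-- the glued ring -/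
def C (s : A) : Subring (Q B s) where
  carrier := {c | ∃ a e, e ∈ E m B ι ∧ c = κ B ι s a + (0, ιP B ι s * e)}
  mul_mem' := by
    rintro c c' ⟨a, e, he, rfl⟩ ⟨a', e', he', rfl⟩
    refine ⟨a * a', ιP B ι a * e' + ιP B ι a' * e + ιP B ι s * (e * e'),
      Subring.add_mem _ (Subring.add_mem _ (Subring.mul_mem _ (ιP_mem_E m B ι a) he')
        (Subring.mul_mem _ (ιP_mem_E m B ι a') he))
        (Subring.mul_mem _ (ιP_mem_E m B ι s) (Subring.mul_mem _ he he')), ?_⟩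
    refine Prod.ext ?_ ?_
    · simp
    · simp only [Prod.snd_mul, Prod.snd_add, κ_snd, map_mul]
      ring
  one_mem' := ⟨1, 0, Subring.zero_mem _, by simp⟩
  add_mem' := by
    rintro c c' ⟨a, e, he, rfl⟩ ⟨a', e', he', rfl⟩
    refine ⟨a + a', e + e', Subring.add_mem _ he he', ?_⟩
    refine Prod.ext ?_ ?_
    · simp
    · simp only [Prod.snd_add, κ_snd, map_add]
      ring
  zero_mem' := ⟨0, 0, Subring.zero_mem _, Prod.ext (by simp) (by simp)⟩
  neg_mem' := by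
    rintro c ⟨a, e, he, rfl⟩
    refine ⟨-a, -e, Subring.neg_mem _ he, ?_⟩
    refine Prod.ext ?_ ?_
    · simp
    · simp only [Prod.snd_add, Prod.snd_neg, κ_snd, map_neg]
      ring

theorem κ_mem_C (s a : A) : κ B ι s a ∈ C m B ι s :=
  ⟨a, 0, Subring.zero_mem _, by simp⟩

theorem snd_mem_E {s : A} {c : Q B s} (hc : c ∈ C m B ι s) : c.2 ∈ E m B ι := by
  obtain ⟨a, e, he, rfl⟩ := hc
  simp only [Prod.snd_add, κ_snd]
  exact Subring.add_mem _ (ιP_mem_E m B ι a) (Subring.mul_mem _ (ιP_mem_E m B ι s) he)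

variable {m B ι}

section
variable [IsNoetherianRing A] (hd : Data m B ι n)
include hd

theorem Data.exists_s : ∃ s : A, (1 - s) ∈ (⨅ i, m i) ^ (n + 1) ∧
    ∀ a, (∀ i, ∃ t, t ∉ m i ∧ t * a = 0) → s * a = 0 := by
  classical
  let N : Ideal A :=
    { carrier := {a | ∀ i, ∃ t, t ∉ m i ∧ t * a = 0}
      add_mem' := by
        intro a b ha hb i
        obtain ⟨t, ht, hta⟩ := ha i
        obtain ⟨t', ht', htb⟩ := hb i
        refine ⟨t * t', hd.mul_not_mem i ht ht', ?_⟩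
        have : t * t' * (a + b) = t' * (t * a) + t * (t' * b) := by ring
        rw [this, hta, htb, mul_zero, mul_zero, add_zero]
      zero_mem' := fun i => ⟨1, (Ideal.ne_top_iff_one _).1 (hd.isMax i).ne_top, by simp⟩
      smul_mem' := by
        intro c a ha i
        obtain ⟨t, ht, hta⟩ := ha i
        exact ⟨t, ht, by rw [smul_eq_mul, mul_left_comm, hta, mul_zero]⟩ }
  obtain ⟨k, bs, hbs⟩ := Submodule.fg_iff_exists_fin_generating_family.1
    (IsNoetherian.noetherian N)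
  have hbN : ∀ l, bs l ∈ N := fun l => hbs ▸ Submodule.subset_span (Set.mem_range_self l)
  have hann : ∀ i, ¬ N.annihilator ≤ m i := by
    intro i hle
    choose t ht1 ht2 using fun l => hbN l i
    have hT : (∏ l, t l) ∈ N.annihilator := by
      rw [Submodule.mem_annihilator]
      intro a ha
      rw [← hbs] at ha
      induction ha using Submodule.span_induction with
      | mem x hx =>
        obtain ⟨l, rfl⟩ := hx
        obtain ⟨c, hc⟩ := Finset.dvd_prod_of_mem t (Finset.mem_univ l)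
        rw [smul_eq_mul, hc, mul_comm (t l) c, mul_assoc, ht2 l, mul_zero]
      | zero => simp
      | add x y _ _ hx hy => rw [smul_add, hx, hy, add_zero]
      | smul r x _ hx => rw [smul_comm, hx, smul_zero]
    exact hd.prod_not_mem i t ht1 (hle hT)
  have htop := hd.sup_pow_eq_top N.annihilator hann (n + 1)
  have h1 : (1 : A) ∈ N.annihilator ⊔ (⨅ i, m i) ^ (n + 1) := htop ▸ Submodule.mem_top
  obtain ⟨s, hs, μ, hμ, hsum⟩ := Submodule.mem_sup.1 h1
  refine ⟨s, ?_, ?_⟩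
  · have : 1 - s = μ := by rw [← hsum]; ring
    rw [this]
    exact hμ
  · intro a ha
    have := (Submodule.mem_annihilator.1 hs) a ha
    simpa using this

end

/-- the properties of the auxiliary element `s` -/
structure SProp (m : I → Ideal A) (n : ℕ) (s : A) : Prop where
  one_sub : (1 - s) ∈ (⨅ i, m i) ^ (n + 1)
  kills : ∀ a, (∀ i, ∃ t, t ∉ m i ∧ t * a = 0) → s * a = 0

section
variable [IsNoetherianRing A] (hd : Data m B ι n) {s : A} (hs : SProp m n s)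
include hd hs

theorem SProp.not_mem (i : I) : s ∉ m i := by
  intro h
  have h1 : (1 - s) ∈ m i :=
    (Ideal.pow_le_self (Nat.succ_ne_zero n)).trans (iInf_le m i) hs.one_sub
  have : (1 : A) ∈ m i := by
    have e : (1 : A) = (1 - s) + s := by ring
    rw [e]
    exact Ideal.add_mem _ h1 h
  exact (Ideal.ne_top_iff_one _).1 (hd.isMax i).ne_top this

theorem SProp.one_sub_mem : (1 - s) ∈ (⨅ i, m i) ^ n :=
  Ideal.pow_le_pow_right (Nat.le_succ n) hs.one_sub

theorem ker_κ (a : A) (ha : κ B ι s a = 0) : ∃ a', a = a' * s ∧ ∀ i, ι i a' = 0 := by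
  have h1 : Ideal.Quotient.mk (Ideal.span {s}) a = 0 := congrArg Prod.fst ha
  have h2 : ιP B ι a = 0 := congrArg Prod.snd ha
  rw [Ideal.Quotient.eq_zero_iff_mem, Ideal.mem_span_singleton'] at h1
  obtain ⟨a', rfl⟩ := h1
  refine ⟨a', rfl, fun i => ?_⟩
  have h3 := congrFun h2 i
  simp only [ιP_apply, map_mul, Pi.zero_apply] at h3
  exact (hd.unit i s (hs.not_mem hd i)).mul_left_eq_zero.mp h3

theorem kernel_bound (a : A) (ha : κ B ι s a = 0) : ∀ y ∈ (⨅ i, m i) ^ n, y * a = 0 := by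
  obtain ⟨a', rfl, ha'⟩ := ker_κ hd hs a ha
  intro y hy
  have h1 : ∀ i, ∃ t, t ∉ m i ∧ t * (y * a') = 0 := fun i =>
    hd.H2 i a' (ha' i) y (Ideal.pow_right_mono (iInf_le m i) n hy)
  have := hs.kills _ h1
  rw [← mul_assoc, mul_comm y a', mul_assoc, mul_comm y s, ← mul_assoc a', mul_comm a' s, mul_assoc]
  rw [mul_comm a' y]
  exact this

theorem coker_bound (c : Q B s) (hc : c ∈ C m B ι s) : ∀ y ∈ (⨅ i, m i) ^ n,
    ∃ a₀, κ B ι s a₀ = κ B ι s y * c := by
  obtain ⟨a, e, he, rfl⟩ := hc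
  intro y hy
  obtain ⟨a₁, ha₁⟩ := hd.bounded e he y hy
  refine ⟨y * a + s * a₁, ?_⟩
  refine Prod.ext ?_ ?_
  · simp only [κ_fst, map_add, map_mul, Prod.fst_mul, Prod.fst_add, add_zero]
    have : Ideal.Quotient.mk (Ideal.span {s}) s = 0 :=
      Ideal.Quotient.eq_zero_iff_mem.mpr (Ideal.mem_span_singleton_self s)
    rw [this, zero_mul, add_zero]
  · simp only [κ_snd, map_add, map_mul, Prod.snd_mul, Prod.snd_add]
    rw [ha₁]
    ring

theorem local_zero (i : I) (c : Q B s) (hc : c ∈ C m B ι s) (hci : c.2 i = 0) :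
    ∃ t, t ∉ m i ∧ κ B ι s t * c = 0 := by
  obtain ⟨G, hGi, hGk⟩ := hd.exists_G i
  have hE := snd_mem_E m B ι hc
  have hb := hd.bounded c.2 hE
  obtain ⟨t, ht, hth⟩ := hd.kill i (ιP B ι (G ^ n) * c.2) (by simp [hci]) (by
    intro j hj
    obtain ⟨g', hg1, hg2⟩ := hd.exists_mem_not_mem (Ne.symm hj)
    refine ⟨g' ^ n, hd.pow_not_mem j hg2 n, ?_⟩
    have : ιP B ι (g' ^ n) * (ιP B ι (G ^ n) * c.2) = ιP B ι (g' ^ n * G ^ n) * c.2 := by
      rw [map_mul]; ring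
    rw [this]
    exact hb _ (mul_G_pow_mem m hGk (Ideal.pow_mem_pow hg1 n)))
  refine ⟨s * (t * G ^ n), hd.mul_not_mem i (hs.not_mem hd i)
    (hd.mul_not_mem i ht (hd.pow_not_mem i hGi n)), ?_⟩
  refine Prod.ext ?_ ?_
  · simp only [Prod.fst_mul, κ_fst, map_mul, Prod.fst_zero]
    have : Ideal.Quotient.mk (Ideal.span {s}) s = 0 :=
      Ideal.Quotient.eq_zero_iff_mem.mpr (Ideal.mem_span_singleton_self s)
    rw [this, zero_mul, zero_mul]
  · simp only [Prod.snd_mul, κ_snd, Prod.snd_zero]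
    rw [map_mul, map_mul, mul_assoc, mul_assoc, hth, mul_zero]

theorem local_surj (i : I) (b : B i) :
    ∃ c ∈ C m B ι s, ∃ t, t ∉ m i ∧ c.2 i = ι i t * b := by
  obtain ⟨x, t, ht, hxi, hx⟩ := hd.lift i b
  have hle : (⨅ i, m i) ^ n ≤ m i ^ n := Ideal.pow_right_mono (iInf_le m i) n
  have hxE : x ∈ E m B ι := ⟨n, fun y hy => hx y (hle hy)⟩
  obtain ⟨a, ha⟩ := hx (1 - s) (hle (hs.one_sub_mem hd))
  refine ⟨κ B ι s a + (0, ιP B ι s * x), ⟨a, x, hxE, rfl⟩, t, ht, ?_⟩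
  simp only [Prod.snd_add, κ_snd]
  rw [ha, map_sub, map_one]
  have : (1 - ιP B ι s) * x + ιP B ι s * x = x := by ring
  rw [this, hxi]

end

end Groth.Agent.H9.GlueMax
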