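import Mathlib
import Groth.Agent.Lib.Helper9.Misc.GlueMaxB

universe u

open scoped TensorProduct

namespace Groth.Agent.H9.GlueMax

variable {A : Type u} [CommRing A] {I : Type} [Fintype I]
  {m : I → Ideal A} {B : I → Type u} [∀ i, CommRing (B i)] {ι : ∀ i, A →+* B i} {n : ℕ}

/-- the structure map to the glued ring -/
def toC (m : I → Ideal A) (B : I → Type u) [∀ i, CommRing (B i)] (ι : ∀ i, A →+* B i) (s : A) :
    A →+* ↥(C m B ι s) :=
  (κ B ι s).codRestrict (C m B ι s) (κ_mem_C m B ι s)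

instance algC (s : A) : Algebra A ↥(C m B ι s) := (toC m B ι s).toAlgebra

theorem coe_algebraMap (s a : A) :
    ((algebraMap A ↥(C m B ι s) a : ↥(C m B ι s)) : Q B s) = κ B ι s a := rfl

theorem coe_smul (s a : A) (c : ↥(C m B ι s)) :
    ((a • c : ↥(C m B ι s)) : Q B s) = κ B ι s a * (c : Q B s) := by
  rw [Algebra.smul_def]
  rfl

theorem eq_top_of_local [IsNoetherianRing A] (hd : Data m B ι n) {s : A} (hs : SProp m n s)
    (W : Submodule A ↥(C m B ι s)) (h1 : ∀ a, algebraMap A ↥(C m B ι s) a ∈ W)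
    (hloc : ∀ i (c : ↥(C m B ι s)), ∃ T, T ∉ m i ∧ ∃ w ∈ W,
      (w : Q B s).2 i = ι i T * (c : Q B s).2 i) : W = ⊤ := by
  rw [eq_top_iff]
  intro c _
  let J : Ideal A := Submodule.comap (LinearMap.toSpanSingleton A ↥(C m B ι s) c) W
  have hJ : ∀ a, a ∈ J ↔ a • c ∈ W := fun a => by
    simp only [J, Submodule.mem_comap, LinearMap.toSpanSingleton_apply]
  have hpow : (⨅ i, m i) ^ n ≤ J := by
    intro y hy
    rw [hJ]
    obtain ⟨a₀, ha₀⟩ := coker_bound hd hs c.1 c.2 y hy
    have : y • c = algebraMap A _ a₀ := by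
      apply Subtype.ext
      rw [coe_smul, coe_algebraMap]
      exact ha₀.symm
    rw [this]
    exact h1 a₀
  have hnot : ∀ i, ¬ J ≤ m i := by
    intro i hle
    obtain ⟨T, hT, w, hw, hwi⟩ := hloc i c
    have hz : ((T • c - w : ↥(C m B ι s)) : Q B s).2 i = 0 := by
      have e : ((T • c - w : ↥(C m B ι s)) : Q B s) = κ B ι s T * (c : Q B s) - (w : Q B s) := by
        rw [← coe_smul]
        rfl
      rw [e]
      simp only [Prod.snd_sub, Prod.snd_mul, κ_snd, Pi.sub_apply, Pi.mul_apply, ιP_apply]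
      rw [hwi, sub_self]
    obtain ⟨t, ht, htz⟩ := local_zero hd hs i _ (T • c - w).2 hz
    have h0 : t • (T • c - w) = 0 := by
      apply Subtype.ext
      rw [coe_smul]
      exact htz
    rw [smul_sub, sub_eq_zero] at h0
    have hmem : t * T ∈ J := by
      rw [hJ, mul_smul, h0]
      exact W.smul_mem t hw
    exact hd.mul_not_mem i ht hT (hle hmem)
  have htop := hd.sup_pow_eq_top J hnot n
  have hJtop : J = ⊤ := by
    rw [← htop]
    exact (sup_eq_left.mpr hpow).symm
  have h1J : (1 : A) ∈ J := hJtop ▸ Submodule.mem_top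
  rw [hJ, one_smul] at h1J
  exact h1J

end Groth.Agent.H9.GlueMax
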