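import Mathlib
import Groth.Agent.Lib.Helper9.Misc.GlueMaxC

universe u

open scoped TensorProduct

namespace Groth.Agent.H9.GlueMax

variable {A : Type u} [CommRing A] {I : Type} [Fintype I]
  {m : I → Ideal A} {B : I → Type u} [∀ i, CommRing (B i)] {ι : ∀ i, A →+* B i} {n : ℕ}

section perIndex

variable (i : I) [(m i).IsPrime] (L : Type u) [CommRing L] [Algebra A L]
  [IsLocalization.AtPrime L (m i)] [Algebra L (B i)]
  (hι : ∀ a, ι i a = algebraMap L (B i) (algebraMap A L a))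

include hι

theorem loc_unit (t : A) (ht : t ∉ m i) : IsUnit (ι i t) := by
  rw [hι]
  exact (IsLocalization.map_units L (⟨t, ht⟩ : (m i).primeCompl)).map (algebraMap L (B i))

theorem loc_H2 (k : ℕ)
    (hker : ∀ x ∈ RingHom.ker (algebraMap L (B i)),
      ∀ y ∈ Ideal.map (algebraMap A L) (m i) ^ k, y * x = 0)
    (hk : k ≤ n) (a : A) (ha : ι i a = 0) (y : A) (hy : y ∈ m i ^ n) :
    ∃ t, t ∉ m i ∧ t * (y * a) = 0 := by
  have hy' : algebraMap A L y ∈ Ideal.map (algebraMap A L) (m i) ^ k := by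
    rw [← Ideal.map_pow]
    exact Ideal.mem_map_of_mem _ (Ideal.pow_le_pow_right hk hy)
  have h1 : algebraMap A L a ∈ RingHom.ker (algebraMap L (B i)) := by
    rw [RingHom.mem_ker, ← hι]
    exact ha
  have h2 := hker _ h1 _ hy'
  rw [← map_mul] at h2
  obtain ⟨⟨t, ht⟩, h3⟩ := (IsLocalization.map_eq_zero_iff (m i).primeCompl L (y * a)).1 h2
  exact ⟨t, ht, h3⟩

theorem loc_H3 (k : ℕ)
    (hcoker : ∀ y ∈ Ideal.map (algebraMap A L) (m i) ^ k, ∀ b : B i,
      y • b ∈ (algebraMap L (B i)).range)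
    (hk : k ≤ n) (b : B i) (y : A) (hy : y ∈ m i ^ n) :
    ∃ t a, t ∉ m i ∧ ι i (t * y) * b = ι i a := by
  have hy' : algebraMap A L y ∈ Ideal.map (algebraMap A L) (m i) ^ k := by
    rw [← Ideal.map_pow]
    exact Ideal.mem_map_of_mem _ (Ideal.pow_le_pow_right hk hy)
  obtain ⟨z, hz⟩ := hcoker _ hy' b
  obtain ⟨⟨a, t⟩, hat⟩ := IsLocalization.surj (m i).primeCompl z
  dsimp only at hat
  refine ⟨t, a, t.2, ?_⟩
  rw [hι, hι, map_mul, map_mul, mul_assoc, ← Algebra.smul_def (algebraMap A L y) b, ← hz,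
    ← map_mul, ← hat, mul_comm]

theorem loc_inj (hinj : Function.Injective (algebraMap L (B i))) (a : A) (ha : ι i a = 0) :
    ∃ t, t ∉ m i ∧ t * a = 0 := by
  have h1 : algebraMap A L a = 0 := hinj (by rw [map_zero, ← hι]; exact ha)
  obtain ⟨⟨t, ht⟩, h2⟩ := (IsLocalization.map_eq_zero_iff (m i).primeCompl L a).1 h1
  exact ⟨t, ht, h2⟩

theorem loc_surj (hsurj : Function.Surjective (algebraMap L (B i))) (b : B i) :
    ∃ t, t ∉ m i ∧ ∃ a, ι i a = ι i t * b := by
  obtain ⟨z, rfl⟩ := hsurj b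
  obtain ⟨⟨a, t⟩, hat⟩ := IsLocalization.surj (m i).primeCompl z
  dsimp only at hat
  refine ⟨t, t.2, a, ?_⟩
  rw [hι, hι, ← map_mul, ← hat, mul_comm]

theorem tensor_equiv [IsNoetherianRing A] (hd : Data m B ι n) {s : A} (hs : SProp m n s) :
    Nonempty (L ⊗[A] ↥(C m B ι s) ≃ₐ[L] B i) := by
  classical
  letI : Algebra A (B i) := (ι i).toAlgebra
  haveI : IsScalarTower A L (B i) := IsScalarTower.of_algebraMap_eq (fun a => hι a)
  let g : ↥(C m B ι s) →ₐ[A] B i :=
    { toFun := fun c => (c : Q B s).2 i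
      map_one' := rfl
      map_mul' := fun _ _ => rfl
      map_zero' := rfl
      map_add' := fun _ _ => rfl
      commutes' := fun _ => rfl }
  let Ψ : L ⊗[A] ↥(C m B ι s) →ₐ[L] B i :=
    Algebra.TensorProduct.lift (Algebra.ofId L (B i)) g (fun _ _ => Commute.all _ _)
  have hΨ : ∀ (z : L) (c : ↥(C m B ι s)),
      Ψ (z ⊗ₜ[A] c) = algebraMap L (B i) z * (c : Q B s).2 i :=
    fun z c => Algebra.TensorProduct.lift_tmul _ _ _ z c
  haveI hlm : IsLocalizedModule (m i).primeCompl (TensorProduct.mk A L ↥(C m B ι s) 1) :=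
    (isLocalizedModule_iff_isBaseChange (m i).primeCompl L _).2
      (TensorProduct.isBaseChange A ↥(C m B ι s) L)
  refine ⟨AlgEquiv.ofBijective Ψ ⟨?_, ?_⟩⟩
  · rw [injective_iff_map_eq_zero]
    intro w hw
    obtain ⟨⟨c, t⟩, hct⟩ := IsLocalizedModule.surj (m i).primeCompl
      (TensorProduct.mk A L ↥(C m B ι s) 1) w
    have hct' : algebraMap A L (t : A) • w = (1 : L) ⊗ₜ[A] c := by
      rw [algebraMap_smul]
      exact hct
    have h2 : Ψ ((1 : L) ⊗ₜ[A] c) = 0 := by
      rw [← hct', map_smul, hw, smul_zero]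
    have h1 : ((c : ↥(C m B ι s)) : Q B s).2 i = 0 := by
      have h3 := hΨ 1 c
      rw [map_one, one_mul] at h3
      rw [← h3, h2]
    obtain ⟨t', ht', h⟩ := local_zero hd hs i (c : Q B s) c.2 h1
    have h4 : t' • c = 0 := Subtype.ext ((coe_smul s t' c).trans h)
    have h5 : (algebraMap A L t' * algebraMap A L (t : A)) • w = 0 := by
      rw [mul_smul, hct', algebraMap_smul, ← TensorProduct.tmul_smul, h4, TensorProduct.tmul_zero]
    have hu : IsUnit (algebraMap A L t' * algebraMap A L (t : A)) :=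
      (IsLocalization.map_units L (⟨t', ht'⟩ : (m i).primeCompl)).mul
        (IsLocalization.map_units L t)
    exact hu.smul_eq_zero.1 h5
  · intro b
    obtain ⟨c, hc, t, ht, hct⟩ := local_surj hd hs i b
    have h6 : IsLocalization.mk' L (1 : A) (⟨t, ht⟩ : (m i).primeCompl) * algebraMap A L t = 1 := by
      have := IsLocalization.mk'_spec L (1 : A) (⟨t, ht⟩ : (m i).primeCompl)
      rwa [map_one] at this
    refine ⟨(IsLocalization.mk' L (1 : A) (⟨t, ht⟩ : (m i).primeCompl)) ⊗ₜ[A]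
      (⟨c, hc⟩ : ↥(C m B ι s)), ?_⟩
    have h7 : ((⟨c, hc⟩ : ↥(C m B ι s)) : Q B s).2 i = ι i t * b := hct
    rw [hΨ, h7, hι, ← mul_assoc, ← map_mul, h6, map_one, one_mul]

theorem loc_gen [IsNoetherianRing A] (hd : Data m B ι n) {s : A} (hs : SProp m n s)
    (hfin : (algebraMap L (B i)).Finite) :
    ∃ (F : Finset ↥(C m B ι s)), ∀ (W : Submodule A ↥(C m B ι s)),
      (↑F : Set ↥(C m B ι s)) ⊆ W → ∀ c : ↥(C m B ι s), ∃ T, T ∉ m i ∧ ∃ w ∈ W,
        (w : Q B s).2 i = ι i T * (c : Q B s).2 i := by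
  classical
  have hfin' : Module.Finite L (B i) := RingHom.finite_algebraMap.1 hfin
  obtain ⟨k, β, hβ⟩ := Submodule.fg_iff_exists_fin_generating_family.1 (Module.finite_def.1 hfin')
  have hc : ∀ l, ∃ c ∈ C m B ι s, ∃ t, t ∉ m i ∧ c.2 i = ι i t * β l :=
    fun l => local_surj hd hs i (β l)
  choose cc hcc tt htt hcct using hc
  refine ⟨Finset.univ.image (fun l => (⟨cc l, hcc l⟩ : ↥(C m B ι s))), ?_⟩
  intro W hW c
  have key : ∀ b : B i, b ∈ Submodule.span L (Set.range β) →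
      ∃ T, T ∉ m i ∧ ∃ w ∈ W, (w : Q B s).2 i = ι i T * b := by
    intro b hb
    induction hb using Submodule.span_induction with
    | mem x hx =>
      obtain ⟨l, rfl⟩ := hx
      refine ⟨tt l, htt l, ⟨cc l, hcc l⟩, hW ?_, hcct l⟩
      exact Finset.mem_coe.2 (Finset.mem_image.2 ⟨l, Finset.mem_univ l, rfl⟩)
    | zero =>
      refine ⟨1, (Ideal.ne_top_iff_one _).1 (hd.prime i).ne_top, 0, W.zero_mem, ?_⟩
      rw [mul_zero]
      rfl
    | add x y _ _ hx hy =>
      obtain ⟨T₁, hT₁, w₁, hw₁, e₁⟩ := hx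
      obtain ⟨T₂, hT₂, w₂, hw₂, e₂⟩ := hy
      refine ⟨T₁ * T₂, hd.mul_not_mem i hT₁ hT₂, T₂ • w₁ + T₁ • w₂,
        W.add_mem (W.smul_mem _ hw₁) (W.smul_mem _ hw₂), ?_⟩
      have h1 : ((T₂ • w₁ + T₁ • w₂ : ↥(C m B ι s)) : Q B s).2 i
          = ι i T₂ * (w₁ : Q B s).2 i + ι i T₁ * (w₂ : Q B s).2 i := rfl
      rw [h1, e₁, e₂, map_mul]
      ring
    | smul z x _ hx =>
      obtain ⟨T, hT, w, hw, e⟩ := hx
      obtain ⟨⟨a, t⟩, hat⟩ := IsLocalization.surj (m i).primeCompl z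
      dsimp only at hat
      refine ⟨T * t, hd.mul_not_mem i hT t.2, a • w, W.smul_mem _ hw, ?_⟩
      have h1 : ((a • w : ↥(C m B ι s)) : Q B s).2 i = ι i a * (w : Q B s).2 i := rfl
      rw [h1, e, hι, hι, hι, Algebra.smul_def, ← hat, map_mul, map_mul, map_mul]
      ring
  exact key _ (hβ ▸ Submodule.mem_top)

end perIndex

section global

variable [IsNoetherianRing A] (hd : Data m B ι n) {s : A} (hs : SProp m n s)
include hd hs

theorem inj_C (hinj : ∀ i a, ι i a = 0 → ∃ t, t ∉ m i ∧ t * a = 0) :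
    Function.Injective (algebraMap A ↥(C m B ι s)) := by
  rw [injective_iff_map_eq_zero]
  intro a ha
  have ha' : κ B ι s a = 0 := congrArg Subtype.val ha
  obtain ⟨a', rfl, h0⟩ := ker_κ hd hs a ha'
  have := hs.kills a' (fun i => hinj i a' (h0 i))
  rw [mul_comm]
  exact this

theorem surj_C (hsurj : ∀ i (b : B i), ∃ t, t ∉ m i ∧ ∃ a, ι i a = ι i t * b) :
    Function.Surjective (algebraMap A ↥(C m B ι s)) := by
  have hW : LinearMap.range (Algebra.linearMap A ↥(C m B ι s)) = ⊤ := by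
    refine eq_top_of_local hd hs _ (fun a => ⟨a, rfl⟩) (fun i c => ?_)
    obtain ⟨t, ht, a, ha⟩ := hsurj i ((c : Q B s).2 i)
    exact ⟨t, ht, algebraMap A ↥(C m B ι s) a, ⟨a, rfl⟩, ha⟩
  intro c
  have hc : c ∈ LinearMap.range (Algebra.linearMap A ↥(C m B ι s)) := hW ▸ Submodule.mem_top
  obtain ⟨a, ha⟩ := hc
  exact ⟨a, ha⟩

theorem finite_C (hgen : ∀ i, ∃ (F : Finset ↥(C m B ι s)), ∀ (W : Submodule A ↥(C m B ι s)),
      (↑F : Set ↥(C m B ι s)) ⊆ W → ∀ c : ↥(C m B ι s), ∃ T, T ∉ m i ∧ ∃ w ∈ W,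
        (w : Q B s).2 i = ι i T * (c : Q B s).2 i) :
    (algebraMap A ↥(C m B ι s)).Finite := by
  classical
  choose F hF using hgen
  have hW : Submodule.span A (↑(insert (1 : ↥(C m B ι s)) (Finset.univ.biUnion F)) :
      Set ↥(C m B ι s)) = ⊤ := by
    refine eq_top_of_local hd hs _ (fun a => ?_) (fun i c => hF i _ ?_ c)
    · rw [Algebra.algebraMap_eq_smul_one]
      exact Submodule.smul_mem _ _
        (Submodule.subset_span (Finset.mem_coe.2 (Finset.mem_insert_self _ _)))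
    · intro x hx
      exact Submodule.subset_span (Finset.mem_coe.2 (Finset.mem_insert_of_mem
        (Finset.mem_biUnion.2 ⟨i, Finset.mem_univ i, Finset.mem_coe.1 hx⟩)))
  rw [RingHom.finite_algebraMap, Module.finite_def, ← hW]
  exact Submodule.fg_span (Finset.finite_toSet _)

end global

/-- gluing at finitely many maximal ideals, concrete form -/
theorem main (A : Type u) [CommRing A] [IsNoetherianRing A] (r : ℕ) (m : Fin r → Ideal A)
    (hm : ∀ i, (m i).IsMaximal) (hinj : Function.Injective m) (B : Fin r → Type u)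
    [∀ i, CommRing (B i)] [∀ i, Algebra (Localization.AtPrime (m i)) (B i)]
    (hker : ∀ i, ∃ n : ℕ, ∀ x ∈ RingHom.ker (algebraMap (Localization.AtPrime (m i)) (B i)),
      ∀ y ∈ Ideal.map (algebraMap A (Localization.AtPrime (m i))) (m i) ^ n, y * x = 0)
    (hcoker : ∀ i, ∃ n : ℕ,
      ∀ y ∈ Ideal.map (algebraMap A (Localization.AtPrime (m i))) (m i) ^ n,
      ∀ b : B i, y • b ∈ (algebraMap (Localization.AtPrime (m i)) (B i)).range) :
    ∃ (C : Type u) (_ : CommRing C) (_ : Algebra A C),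
      (∀ i, Nonempty ((Localization.AtPrime (m i)) ⊗[A] C ≃ₐ[Localization.AtPrime (m i)] B i)) ∧
      (∃ n : ℕ, (∀ x ∈ RingHom.ker (algebraMap A C), ∀ y ∈ (⨅ i, m i) ^ n, y * x = 0) ∧
        (∀ y ∈ (⨅ i, m i) ^ n, ∀ c : C, y • c ∈ (algebraMap A C).range)) ∧
      ((∀ i, (algebraMap (Localization.AtPrime (m i)) (B i)).Finite) →
        (algebraMap A C).Finite) ∧
      ((∀ i, Function.Injective (algebraMap (Localization.AtPrime (m i)) (B i))) →
        Function.Injective (algebraMap A C)) ∧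
      ((∀ i, Function.Surjective (algebraMap (Localization.AtPrime (m i)) (B i))) →
        Function.Surjective (algebraMap A C)) := by
  classical
  choose nk hnk using hker
  choose nc hnc using hcoker
  let n : ℕ := (∑ i, nk i) + (∑ i, nc i)
  have hnk' : ∀ i, nk i ≤ n := fun i =>
    le_trans (Finset.single_le_sum (f := nk) (fun _ _ => Nat.zero_le _) (Finset.mem_univ i))
      (Nat.le_add_right _ _)
  have hnc' : ∀ i, nc i ≤ n := fun i =>
    le_trans (Finset.single_le_sum (f := nc) (fun _ _ => Nat.zero_le _) (Finset.mem_univ i))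
      (Nat.le_add_left _ _)
  let ι : ∀ i, A →+* B i := fun i =>
    (algebraMap (Localization.AtPrime (m i)) (B i)).comp
      (algebraMap A (Localization.AtPrime (m i)))
  have hιa : ∀ i a, ι i a = algebraMap (Localization.AtPrime (m i)) (B i)
      (algebraMap A (Localization.AtPrime (m i)) a) := fun _ _ => rfl
  have hd : Data m B ι n :=
    { isMax := hm
      inj := hinj
      unit := fun i t ht => loc_unit i (Localization.AtPrime (m i)) (hιa i) t ht
      H2 := fun i a ha y hy =>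
        loc_H2 i (Localization.AtPrime (m i)) (hιa i) (nk i) (hnk i) (hnk' i) a ha y hy
      H3 := fun i b y hy =>
        loc_H3 i (Localization.AtPrime (m i)) (hιa i) (nc i) (hnc i) (hnc' i) b y hy }
  obtain ⟨s, hs1, hs2⟩ := hd.exists_s
  have hs : SProp m n s := ⟨hs1, hs2⟩
  refine ⟨↥(C m B ι s), inferInstance, algC s, ?_, ⟨n, ?_, ?_⟩, ?_, ?_, ?_⟩
  · intro i
    exact tensor_equiv i (Localization.AtPrime (m i)) (hιa i) hd hs
  · intro x hx y hy
    have hx' : κ B ι s x = 0 := congrArg Subtype.val (RingHom.mem_ker.1 hx)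
    exact kernel_bound hd hs x hx' y hy
  · intro y hy c
    obtain ⟨a₀, ha₀⟩ := coker_bound hd hs (c : Q B s) c.2 y hy
    exact ⟨a₀, Subtype.ext (by rw [coe_smul]; exact ha₀)⟩
  · intro hfin
    exact finite_C hd hs (fun i => loc_gen i (Localization.AtPrime (m i)) (hιa i) hd hs (hfin i))
  · intro hinjφ
    exact inj_C hd hs (fun i a ha => loc_inj i (Localization.AtPrime (m i)) (hιa i) (hinjφ i) a ha)
  · intro hsurjφ
    exact surj_C hd hs (fun i b => loc_surj i (Localization.AtPrime (m i)) (hιa i) (hsurjφ i) b)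

end Groth.Agent.H9.GlueMax
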