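import Mathlib
import Groth.Prelude.Def_CycAlg
import Groth.Agent.Lib.Helper9.Misc.GlueMaxD
import Groth.Agent.Lib.Helper9.Misc.CycLen

set_option autoImplicit false
set_option linter.style.haveILetI false
universe u
open IsLocalRing
open scoped TensorProduct

namespace Groth.Agent.H9.CycMono

def Mono (T : Type u) [CommRing T] (S : Set T) : Prop :=
  ∃ π ∈ nonZeroDivisors T, ∀ s ∈ S, ∃ (v : Tˣ) (e : ℕ), s = (v : T) * π ^ e

theorem Mono.transfer {T₁ T₂ : Type u} [CommRing T₁] [CommRing T₂] (φ : T₁ →+* T₂) {S : Set T₁}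
    (h : Mono T₁ S) (hnz : ∀ s ∈ S, φ s ∈ nonZeroDivisors T₂) : Mono T₂ (φ '' S) := by
  obtain ⟨π, -, hf⟩ := h
  by_cases hall : ∀ s ∈ S, IsUnit s
  · refine ⟨1, one_mem _, ?_⟩
    rintro _ ⟨s, hs, rfl⟩
    obtain ⟨w, hw⟩ := (hall s hs).map φ
    exact ⟨w, 0, by rw [hw, pow_zero, mul_one]⟩
  · simp only [not_forall] at hall
    obtain ⟨s₀, hs₀, hnu⟩ := hall
    obtain ⟨v₀, e₀, he₀⟩ := hf s₀ hs₀
    have he0 : e₀ ≠ 0 := by
      rintro rfl
      apply hnu
      rw [he₀, pow_zero, mul_one]
      exact v₀.isUnit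
    obtain ⟨k, rfl⟩ := Nat.exists_eq_succ_of_ne_zero he0
    have hπ : φ π ∈ nonZeroDivisors T₂ := by
      have h1 := hnz s₀ hs₀
      rw [he₀, map_mul, map_pow, pow_succ] at h1
      exact (mul_mem_nonZeroDivisors.mp (mul_mem_nonZeroDivisors.mp h1).2).2
    refine ⟨φ π, hπ, ?_⟩
    rintro _ ⟨s, hs, rfl⟩
    obtain ⟨v, e, he⟩ := hf s hs
    obtain ⟨w, hw⟩ := v.isUnit.map φ
    exact ⟨w, e, by rw [he, map_mul, map_pow, hw]⟩

def LocMono (B : Type u) [CommRing B] (S : Set B) : Prop :=
  (∀ s ∈ S, s ∈ nonZeroDivisors B) ∧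
  ∀ (Q : Ideal B) [Q.IsMaximal],
    Mono (Localization.AtPrime Q) (algebraMap B (Localization.AtPrime Q) '' S)

def Good (R : Type u) [CommRing R] [IsLocalRing R] (S : Set R) : Prop :=
  ∃ (B : Type u) (_ : CommRing B) (_ : Algebra R B),
    CycAlg.IsFinExt R B (maximalIdeal R) ∧ LocMono B (algebraMap R B '' S)

theorem good_self (L : Type u) [CommRing L] [IsLocalRing L] (S : Set L)
    (hnz : ∀ s ∈ S, s ∈ nonZeroDivisors L) (h : Mono L S) : Good L S := by
  refine ⟨L, inferInstance, Algebra.id L,
    ⟨Function.injective_id, Module.Finite.self L, 0, fun r _ b => ⟨r • b, rfl⟩⟩, ?_, ?_⟩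
  · rintro _ ⟨s, hs, rfl⟩
    exact hnz s hs
  · intro Q _
    have hS : (algebraMap L L '' S) = S :=
      Set.ext fun x => ⟨fun ⟨s, hs, e⟩ => e ▸ hs, fun hx => ⟨x, hx, rfl⟩⟩
    rw [hS]
    exact h.transfer (algebraMap L (Localization.AtPrime Q)) (fun s hs =>
      IsLocalization.map_nonZeroDivisors_le Q.primeCompl (Localization.AtPrime Q)
        ⟨s, hnz s hs, rfl⟩)

theorem locmono_glue_point (B : Type u) [CommRing B] (p : Ideal B) [p.IsMaximal]
    (Ci : Type u) [CommRing Ci] [Algebra (Localization.AtPrime p) Ci]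
    [Module.Finite (Localization.AtPrime p) Ci]
    (D : Type u) [CommRing D] [Algebra B D]
    (e : (Localization.AtPrime p) ⊗[B] D ≃ₐ[Localization.AtPrime p] Ci)
    (Q : Ideal D) [Q.IsMaximal] (hQ : Q.comap (algebraMap B D) = p) (S : Set B)
    (hS : ∀ s ∈ S, algebraMap B D s ∈ nonZeroDivisors D)
    (hloc : ∀ (Q' : Ideal Ci) [Q'.IsMaximal], Mono (Localization.AtPrime Q')
      (algebraMap Ci (Localization.AtPrime Q') ''
        (algebraMap (Localization.AtPrime p) Ci '' (algebraMap B (Localization.AtPrime p) '' S)))) :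
    Mono (Localization.AtPrime Q) (algebraMap D (Localization.AtPrime Q) '' (algebraMap B D '' S)) := by
  have hunits : ∀ y : p.primeCompl, IsUnit ((algebraMap B (Localization.AtPrime Q)) y) := by
    intro y
    rw [IsScalarTower.algebraMap_apply B D (Localization.AtPrime Q)]
    refine IsLocalization.map_units (Localization.AtPrime Q)
      (⟨algebraMap B D y, ?_⟩ : Q.primeCompl)
    intro hy
    have hy' : (y : B) ∈ Q.comap (algebraMap B D) := hy
    rw [hQ] at hy'
    exact y.2 hy'
  let lam : Localization.AtPrime p →+* Localization.AtPrime Q :=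
    IsLocalization.lift (M := p.primeCompl) (g := algebraMap B (Localization.AtPrime Q)) hunits
  have hlam : ∀ b : B, lam (algebraMap B (Localization.AtPrime p) b) =
      algebraMap B (Localization.AtPrime Q) b := fun b => IsLocalization.lift_eq _ b
  let f : Localization.AtPrime p →ₐ[B] Localization.AtPrime Q := { lam with commutes' := hlam }
  let g : D →ₐ[B] Localization.AtPrime Q := IsScalarTower.toAlgHom B D (Localization.AtPrime Q)
  let ψ₀ : (Localization.AtPrime p) ⊗[B] D →ₐ[B] Localization.AtPrime Q :=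
    Algebra.TensorProduct.productMap f g
  let ψ : Ci →+* Localization.AtPrime Q :=
    (ψ₀ : (Localization.AtPrime p) ⊗[B] D →+* Localization.AtPrime Q).comp
      (e.symm : Ci →+* (Localization.AtPrime p) ⊗[B] D)
  have hψ : ∀ l : Localization.AtPrime p, ψ (algebraMap (Localization.AtPrime p) Ci l) = lam l := by
    intro l
    show ψ₀ (e.symm (algebraMap (Localization.AtPrime p) Ci l)) = lam l
    rw [AlgEquiv.commutes, Algebra.TensorProduct.algebraMap_apply,
      Algebra.TensorProduct.productMap_apply_tmul, map_one, mul_one]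
    rfl
  have hQ'c : ((maximalIdeal (Localization.AtPrime Q)).comap ψ).comap
      (algebraMap (Localization.AtPrime p) Ci) = maximalIdeal (Localization.AtPrime p) := by
    have h1 : ((maximalIdeal (Localization.AtPrime Q)).comap ψ).comap
        (algebraMap (Localization.AtPrime p) Ci) =
        (maximalIdeal (Localization.AtPrime Q)).comap lam := by
      ext l
      simp only [Ideal.mem_comap]
      rw [hψ]
    rw [h1]
    symm
    refine (maximalIdeal.isMaximal (Localization.AtPrime p)).eq_of_le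
      (Ideal.comap_ne_top lam (Ideal.IsPrime.ne_top inferInstance)) ?_
    rw [← Localization.AtPrime.map_eq_maximalIdeal, Ideal.map_le_iff_le_comap]
    intro b hb
    simp only [Ideal.mem_comap]
    rw [hlam, IsScalarTower.algebraMap_apply B D (Localization.AtPrime Q),
      IsLocalization.AtPrime.to_map_mem_maximal_iff (Localization.AtPrime Q) (I := Q)]
    rw [← hQ] at hb
    exact hb
  haveI : Algebra.IsIntegral (Localization.AtPrime p) Ci :=
    Algebra.IsIntegral.of_finite (Localization.AtPrime p) Ci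
  have hQ'max : ((maximalIdeal (Localization.AtPrime Q)).comap ψ).IsMaximal :=
    Ideal.isMaximal_of_isIntegral_of_isMaximal_comap _
      (by rw [hQ'c]; exact maximalIdeal.isMaximal _)
  haveI := hQ'max
  have hM := hloc ((maximalIdeal (Localization.AtPrime Q)).comap ψ)
  have hun : ∀ y : ((maximalIdeal (Localization.AtPrime Q)).comap ψ).primeCompl,
      IsUnit (ψ y) := by
    intro y
    rw [← IsLocalRing.notMem_maximalIdeal]
    exact y.2
  let Ψ : Localization.AtPrime ((maximalIdeal (Localization.AtPrime Q)).comap ψ) →+*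
      Localization.AtPrime Q :=
    IsLocalization.lift (M := ((maximalIdeal (Localization.AtPrime Q)).comap ψ).primeCompl)
      (g := ψ) hun
  have hΨ : ∀ c, Ψ (algebraMap Ci _ c) = ψ c := fun c => IsLocalization.lift_eq _ c
  have key : ∀ b : B, Ψ (algebraMap Ci _ (algebraMap (Localization.AtPrime p) Ci
      (algebraMap B (Localization.AtPrime p) b))) =
      algebraMap D (Localization.AtPrime Q) (algebraMap B D b) := by
    intro b
    rw [hΨ, hψ, hlam, IsScalarTower.algebraMap_apply B D (Localization.AtPrime Q)]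
  have hT := hM.transfer Ψ (by
    rintro _ ⟨_, ⟨_, ⟨b, hb, rfl⟩, rfl⟩, rfl⟩
    rw [key]
    exact IsLocalization.map_nonZeroDivisors_le Q.primeCompl (Localization.AtPrime Q)
      ⟨_, hS b hb, rfl⟩)
  have hset : Ψ '' (algebraMap Ci _ '' (algebraMap (Localization.AtPrime p) Ci ''
      (algebraMap B (Localization.AtPrime p) '' S))) =
      algebraMap D (Localization.AtPrime Q) '' (algebraMap B D '' S) := by
    simp only [Set.image_image]
    exact Set.image_congr' key
  rw [← hset]
  exact hT

theorem nzd_glue (B : Type u) [CommRing B] (r : ℕ) (m : Fin r → Ideal B)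
    (hm : ∀ i, (m i).IsMaximal) (hall : ∀ q : Ideal B, q.IsMaximal → ∃ i, q = m i)
    (D : Type u) [CommRing D] [Algebra B D] (C : Fin r → Type u) [∀ i, CommRing (C i)]
    [∀ i, Algebra (Localization.AtPrime (m i)) (C i)]
    (e : ∀ i, (Localization.AtPrime (m i)) ⊗[B] D ≃ₐ[Localization.AtPrime (m i)] C i)
    (b₀ : B)
    (hb₀ : ∀ i, algebraMap (Localization.AtPrime (m i)) (C i)
      (algebraMap B (Localization.AtPrime (m i)) b₀) ∈ nonZeroDivisors (C i)) :
    algebraMap B D b₀ ∈ nonZeroDivisors D := by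
  rw [mem_nonZeroDivisors_iff_right]
  intro d hd
  have key : ∀ i, ∃ s : (m i).primeCompl, s • d = 0 := by
    intro i
    have h0 : (algebraMap B (Localization.AtPrime (m i)) b₀) •
        ((1 : Localization.AtPrime (m i)) ⊗ₜ[B] d) = 0 := by
      rw [TensorProduct.smul_tmul', smul_eq_mul, mul_one, Algebra.algebraMap_eq_smul_one,
        TensorProduct.smul_tmul, Algebra.smul_def, mul_comm, hd, TensorProduct.tmul_zero]
    have h1 := map_smul (e i) (algebraMap B (Localization.AtPrime (m i)) b₀)
      ((1 : Localization.AtPrime (m i)) ⊗ₜ[B] d)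
    rw [h0, map_zero, Algebra.smul_def] at h1
    have h2 : e i ((1 : Localization.AtPrime (m i)) ⊗ₜ[B] d) = 0 :=
      (mem_nonZeroDivisors_iff_right.mp (hb₀ i)) _ (by rw [mul_comm]; exact h1.symm)
    have h3 : (1 : Localization.AtPrime (m i)) ⊗ₜ[B] d = 0 := by
      apply (e i).injective
      rw [h2, map_zero]
    exact (IsLocalizedModule.eq_zero_iff (m i).primeCompl
      (TensorProduct.mk B (Localization.AtPrime (m i)) D 1)).mp h3
  by_contra hd0
  have hI : LinearMap.ker (LinearMap.toSpanSingleton B D d) ≠ ⊤ := by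
    intro h
    apply hd0
    have h1 : (1 : B) ∈ LinearMap.ker (LinearMap.toSpanSingleton B D d) := by
      rw [h]; trivial
    simpa using h1
  obtain ⟨M, hM, hle⟩ := Ideal.exists_le_maximal _ hI
  obtain ⟨i, rfl⟩ := hall M hM
  obtain ⟨s, hs⟩ := key i
  refine s.2 (hle ?_)
  rw [LinearMap.mem_ker, LinearMap.toSpanSingleton_apply]
  exact hs

theorem good_of_local (R : Type u) [CommRing R] [IsNoetherianRing R] [IsLocalRing R]
    (B : Type u) [CommRing B] [Algebra R B] (hB : CycAlg.IsFinExt R B (maximalIdeal R))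
    (S : Set R)
    (h : ∀ (q : Ideal B) [q.IsMaximal], Good (Localization.AtPrime q)
        (algebraMap B (Localization.AtPrime q) '' (algebraMap R B '' S))) :
    Good R S := by
  obtain ⟨hBinj, hBfin, nB, hnB⟩ := hB
  haveI : Module.Finite R B := hBfin
  haveI : IsNoetherianRing B := IsNoetherianRing.of_finite R B
  haveI : Algebra.IsIntegral R B := Algebra.IsIntegral.of_finite R B
  obtain ⟨r, m, hm, hminj, hmall⟩ := exists_enum R B
  haveI : ∀ i, (m i).IsMaximal := hm
  have hloc : ∀ i, Good (Localization.AtPrime (m i))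
      (algebraMap B (Localization.AtPrime (m i)) '' (algebraMap R B '' S)) := fun i => h (m i)
  choose C instC instA hCext hCmono using hloc
  letI := instC
  letI := instA
  have hker : ∀ i, ∃ n : ℕ, ∀ x ∈ RingHom.ker (algebraMap (Localization.AtPrime (m i)) (C i)),
      ∀ y ∈ Ideal.map (algebraMap B (Localization.AtPrime (m i))) (m i) ^ n, y * x = 0 := by
    intro i
    refine ⟨0, fun x hx y _ => ?_⟩
    have hx0 : x = 0 := (hCext i).1 (by rw [map_zero]; exact hx)
    rw [hx0, mul_zero]
  have hcoker : ∀ i, ∃ n : ℕ,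
      ∀ y ∈ Ideal.map (algebraMap B (Localization.AtPrime (m i))) (m i) ^ n,
      ∀ b : C i, y • b ∈ (algebraMap (Localization.AtPrime (m i)) (C i)).range := by
    intro i
    obtain ⟨n, hn⟩ := (hCext i).2.2
    refine ⟨n, fun y hy b => hn y ?_ b⟩
    rwa [Localization.AtPrime.map_eq_maximalIdeal] at hy
  obtain ⟨D, instD, instDA, hiso, ⟨nD, -, hDcok⟩, hDfin, hDinj, -⟩ :=
    GlueMax.main B r m hm hminj C hker hcoker
  letI algRD : Algebra R D := ((algebraMap B D).comp (algebraMap R B)).toAlgebra
  haveI : IsScalarTower R B D := IsScalarTower.of_algebraMap_eq (fun _ => rfl)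
  have hDfin' : Module.Finite B D :=
    RingHom.finite_algebraMap.mp (hDfin (fun i => RingHom.finite_algebraMap.mpr (hCext i).2.1))
  have hDinj' : Function.Injective (algebraMap B D) := hDinj (fun i => (hCext i).1)
  haveI := hDfin'
  haveI : Algebra.IsIntegral B D := Algebra.IsIntegral.of_finite B D
  have hmle : ∀ i, (maximalIdeal R).map (algebraMap R B) ≤ m i := by
    intro i
    rw [Ideal.map_le_iff_le_comap]
    exact (eq_maximalIdeal (Ideal.isMaximal_comap_of_isIntegral_of_isMaximal (m i))).ge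
  have hnzD : ∀ s ∈ S, algebraMap B D (algebraMap R B s) ∈ nonZeroDivisors D := by
    intro s hs
    apply nzd_glue B r m hm hmall D C (fun i => (hiso i).some) (algebraMap R B s)
    intro i
    exact (hCmono i).1 _ ⟨_, ⟨_, ⟨s, hs, rfl⟩, rfl⟩, rfl⟩
  refine ⟨D, instD, algRD, ⟨hDinj'.comp hBinj, Module.Finite.trans B D, nB + nD, ?_⟩, ?_, ?_⟩
  · intro x hx d
    rw [pow_add] at hx
    refine Submodule.mul_induction_on hx ?_ ?_
    · intro x₁ hx₁ x₂ hx₂
      have h2 : algebraMap R B x₂ ∈ (⨅ i, m i) ^ nD := by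
        have h3 : (maximalIdeal R).map (algebraMap R B) ≤ ⨅ i, m i := le_iInf hmle
        exact Ideal.pow_right_mono h3 nD (by
          rw [← Ideal.map_pow]; exact Ideal.mem_map_of_mem _ hx₂)
      obtain ⟨b, hb⟩ := hDcok _ h2 d
      obtain ⟨r', hr'⟩ := hnB x₁ hx₁ b
      refine ⟨r', ?_⟩
      calc algebraMap B D (algebraMap R B r') = algebraMap B D (x₁ • b) := by rw [hr']
        _ = x₁ • algebraMap B D b := by
            rw [Algebra.smul_def, map_mul, Algebra.smul_def]; rfl
        _ = x₁ • (x₂ • d) := by rw [hb, algebraMap_smul]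
        _ = (x₁ * x₂) • d := (mul_smul _ _ _).symm
    · intro x y hx hy
      rw [add_smul]
      exact Subring.add_mem _ hx hy
  · rintro _ ⟨s, hs, rfl⟩
    exact hnzD s hs
  · intro Q hQ
    have hqmax : (Q.comap (algebraMap B D)).IsMaximal :=
      Ideal.isMaximal_comap_of_isIntegral_of_isMaximal Q
    obtain ⟨i, hi⟩ := hmall _ hqmax
    have hset : algebraMap R D '' S = algebraMap B D '' (algebraMap R B '' S) := by
      rw [Set.image_image]; rfl
    rw [hset]
    haveI : Module.Finite (Localization.AtPrime (m i)) (C i) := (hCext i).2.1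
    exact locmono_glue_point B (m i) (C i) D (hiso i).some Q hi (algebraMap R B '' S)
      (by rintro _ ⟨s, hs, rfl⟩; exact hnzD s hs) (fun Q' _ => (hCmono i).2 Q')

end Groth.Agent.H9.CycMono
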