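import Mathlib

/-! Helper9: invariants of the cyclic quotient singularity action on k[X,Y] (S10891). -/

open MvPolynomial

namespace Groth.Agent.H9.CycInv

variable {k : Type*} [Field k] (r a : ℕ) (ζ : k)

/-- the generator of the cyclic action -/
noncomputable def σ : MvPolynomial (Fin 2) k →ₐ[k] MvPolynomial (Fin 2) k :=
  aeval (fun i : Fin 2 => if i = 0 then C ζ⁻¹ * X 0
        else C (ζ⁻¹ ^ a) * (X 1 : MvPolynomial (Fin 2) k))

/-- the generating set -/
def G : Set (MvPolynomial (Fin 2) k) :=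
  {q | ∃ i j : ℕ, i ≤ r ∧ j ≤ r ∧ ¬ (i = r ∧ j = r) ∧ r ∣ i + a * j ∧ q = X 0 ^ i * X 1 ^ j}

theorem monomial_eq' (e : Fin 2 →₀ ℕ) (c : k) :
    monomial e c = C c * (X 0 ^ e 0 * X 1 ^ e 1 : MvPolynomial (Fin 2) k) := by
  rw [monomial_eq, Finsupp.prod_fintype _ _ (fun _ => pow_zero _), Fin.prod_univ_two]

theorem σ_XX (i j : ℕ) :
    σ a ζ (X 0 ^ i * X 1 ^ j : MvPolynomial (Fin 2) k) =
      C ((ζ⁻¹) ^ (i + a * j)) * (X 0 ^ i * X 1 ^ j) := by
  simp only [σ, map_mul, map_pow, aeval_X, if_true, one_ne_zero, if_false, mul_pow]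
  rw [pow_add, pow_mul]
  ring

theorem σ_monomial (e : Fin 2 →₀ ℕ) (c : k) :
    σ a ζ (monomial e c) = monomial e ((ζ⁻¹) ^ (e 0 + a * e 1) * c) := by
  rw [monomial_eq', monomial_eq', map_mul, σ_XX, map_mul]
  have : σ a ζ (C c) = C c := (σ a ζ).commutes c
  rw [this]
  ring

theorem coeff_σ (p : MvPolynomial (Fin 2) k) (e : Fin 2 →₀ ℕ) :
    coeff e (σ a ζ p) = (ζ⁻¹) ^ (e 0 + a * e 1) * coeff e p := by
  induction p using MvPolynomial.induction_on' with
  | monomial u c =>
    rw [σ_monomial, coeff_monomial, coeff_monomial]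
    split_ifs with h
    · rw [h]
    · rw [mul_zero]
  | add p q hp hq =>
    rw [map_add, coeff_add, coeff_add, hp, hq, mul_add]

theorem XX_mem (hr : 0 < r) : ∀ (N i j : ℕ), i + j ≤ N → r ∣ i + a * j →
    (X 0 ^ i * X 1 ^ j : MvPolynomial (Fin 2) k) ∈ Algebra.adjoin k (G (k := k) r a) := by
  intro N
  induction N with
  | zero =>
    intro i j hij _
    obtain rfl : i = 0 := by omega
    obtain rfl : j = 0 := by omega
    simp only [pow_zero, mul_one]
    exact Subalgebra.one_mem _
  | succ N ih =>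
    intro i j hij hdvd
    by_cases hi : r ≤ i
    · have h1 : (X 0 ^ i * X 1 ^ j : MvPolynomial (Fin 2) k) =
          (X 0 ^ r * X 1 ^ 0) * (X 0 ^ (i - r) * X 1 ^ j) := by
        rw [pow_zero, mul_one, ← mul_assoc, ← pow_add]
        congr 2
        omega
      rw [h1]
      refine Subalgebra.mul_mem _ (Algebra.subset_adjoin ⟨r, 0, le_rfl, Nat.zero_le _, ?_, ?_, rfl⟩)
        (ih (i - r) j (by omega) ?_)
      · omega
      · simp
      · have : i + a * j = r + ((i - r) + a * j) := by omega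
        rw [this] at hdvd
        exact (Nat.dvd_add_right (dvd_refl r)).1 hdvd
    · by_cases hj : r ≤ j
      · have h1 : (X 0 ^ i * X 1 ^ j : MvPolynomial (Fin 2) k) =
            (X 0 ^ 0 * X 1 ^ r) * (X 0 ^ i * X 1 ^ (j - r)) := by
          rw [pow_zero, one_mul, mul_left_comm, ← pow_add]
          congr 2
          omega
        rw [h1]
        refine Subalgebra.mul_mem _
          (Algebra.subset_adjoin ⟨0, r, Nat.zero_le _, le_rfl, ?_, ?_, rfl⟩)
          (ih i (j - r) (by omega) ?_)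
        · omega
        · simp
        · have : i + a * j = a * r + (i + a * (j - r)) := by
            have : j = r + (j - r) := by omega
            conv_lhs => rw [this]
            ring
          rw [this] at hdvd
          exact (Nat.dvd_add_right (Dvd.intro_left a rfl)).1 hdvd
      · exact Algebra.subset_adjoin ⟨i, j, by omega, by omega, by omega, hdvd, rfl⟩

theorem main (ha : 0 < a) (har : a < r) (hζ : IsPrimitiveRoot ζ r) (p : MvPolynomial (Fin 2) k) :
    σ a ζ p = p ↔ p ∈ Algebra.adjoin k (G (k := k) r a) := by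
  have hr : 0 < r := by omega
  have hζ' : IsPrimitiveRoot ζ⁻¹ r := hζ.inv
  constructor
  · intro h
    rw [p.as_sum]
    refine Subalgebra.sum_mem _ (fun e he => ?_)
    rw [monomial_eq']
    refine Subalgebra.mul_mem _ (Subalgebra.algebraMap_mem _ _) (XX_mem r a hr _ _ _ le_rfl ?_)
    have h1 := coeff_σ a ζ p e
    rw [h] at h1
    have hne : coeff e p ≠ 0 := mem_support_iff.1 he
    have h2 : (ζ⁻¹) ^ (e 0 + a * e 1) = 1 := by
      have : ((ζ⁻¹) ^ (e 0 + a * e 1) - 1) * coeff e p = 0 := by rw [sub_mul, one_mul, ← h1, sub_self]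
      rcases mul_eq_zero.1 this with h3 | h3
      · exact sub_eq_zero.1 h3
      · exact absurd h3 hne
    exact (hζ'.pow_eq_one_iff_dvd _).1 h2
  · intro h
    have hle : Algebra.adjoin k (G (k := k) r a) ≤ AlgHom.equalizer (σ a ζ) (AlgHom.id k _) := by
      apply Algebra.adjoin_le
      rintro q ⟨i, j, -, -, -, hdvd, rfl⟩
      rw [SetLike.mem_coe, AlgHom.mem_equalizer, σ_XX, (hζ'.pow_eq_one_iff_dvd _).2 hdvd]
      simp
    exact hle h

end Groth.Agent.H9.CycInv
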