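import Mathlib
import Groth.Prelude.Def_CycAlg
import Groth.Agent.H4.BlowOne
import Groth.Agent.Lib.Helper9.Misc.CycGlue

set_option autoImplicit false
set_option linter.style.haveILetI false
universe u
open IsLocalRing

namespace Groth.Agent.H9.CycMono

theorem good_pair_of (L : Type u) [CommRing L] [IsLocalRing L] (t a b : L) (hb : IsUnit b)
    (h : Good L {t, a * b}) : Good L {t * a, t * b} := by
  obtain ⟨B, instB, instAB, hext, hnz, hloc⟩ := h
  refine ⟨B, instB, instAB, hext, ?_, ?_⟩
  · have h1 : algebraMap L B t ∈ nonZeroDivisors B := hnz _ ⟨t, Or.inl rfl, rfl⟩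
    have h2 : algebraMap L B (a * b) ∈ nonZeroDivisors B := hnz _ ⟨a * b, Or.inr rfl, rfl⟩
    rw [map_mul] at h2
    have h3 := mul_mem_nonZeroDivisors.mp h2
    rintro _ ⟨s, hs, rfl⟩
    simp only [Set.mem_insert_iff, Set.mem_singleton_iff] at hs
    rcases hs with rfl | rfl
    · rw [map_mul]; exact mul_mem h1 h3.1
    · rw [map_mul]; exact mul_mem h1 h3.2
  · intro Q _
    obtain ⟨π, hπ, hf⟩ := hloc Q
    refine ⟨π, hπ, ?_⟩
    obtain ⟨u, e, hu⟩ := hf _ ⟨_, ⟨t, Or.inl rfl, rfl⟩, rfl⟩
    obtain ⟨v, f, hv⟩ := hf _ ⟨_, ⟨a * b, Or.inr rfl, rfl⟩, rfl⟩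
    obtain ⟨β, hβ⟩ := (hb.map (algebraMap L B)).map (algebraMap B (Localization.AtPrime Q))
    have ha : algebraMap B (Localization.AtPrime Q) (algebraMap L B a) =
        v * π ^ f * ((β⁻¹ : (Localization.AtPrime Q)ˣ) : Localization.AtPrime Q) := by
      rw [← hv, map_mul, map_mul, ← hβ, mul_assoc, Units.mul_inv, mul_one]
    rintro _ ⟨_, ⟨s, hs, rfl⟩, rfl⟩
    simp only [Set.mem_insert_iff, Set.mem_singleton_iff] at hs
    rcases hs with rfl | rfl
    · refine ⟨u * v * β⁻¹, e + f, ?_⟩
      rw [map_mul, map_mul, hu, ha]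
      simp only [Units.val_mul]
      ring
    · refine ⟨u * β, e, ?_⟩
      rw [map_mul, map_mul, hu, ← hβ]
      simp only [Units.val_mul]
      ring

theorem good_pair_unit (L : Type u) [CommRing L] [IsLocalRing L] (x y : L)
    (hx : x ∈ nonZeroDivisors L) (hy : y ∈ nonZeroDivisors L) (hyu : IsUnit y) :
    Good L {x, y} := by
  apply good_self
  · intro s hs
    simp only [Set.mem_insert_iff, Set.mem_singleton_iff] at hs
    rcases hs with rfl | rfl
    exacts [hx, hy]
  · refine ⟨x, hx, ?_⟩
    intro s hs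
    simp only [Set.mem_insert_iff, Set.mem_singleton_iff] at hs
    rcases hs with rfl | rfl
    · exact ⟨1, 1, by simp⟩
    · obtain ⟨w, hw⟩ := hyu
      exact ⟨w, 0, by simp [hw]⟩

def PairStmt (n : ℕ) : Prop :=
  ∀ (R : Type u) [CommRing R] [IsNoetherianRing R] [IsLocalRing R], ringKrullDim R = 1 →
    ∀ x y : R, x ∈ nonZeroDivisors R → y ∈ nonZeroDivisors R →
      Ring.ord R (x * y) < n → Good R {x, y}

theorem step_local (n : ℕ) (ih : PairStmt.{u} n) (R' : Type u) [CommRing R'] (q : Ideal R')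
    [hq : q.IsPrime] (L : Type u) [CommRing L] [IsLocalRing L] [IsNoetherianRing L]
    [Algebra R' L] [IsLocalization.AtPrime L q] (hdim : ringKrullDim L = 1) (t a' b' : R')
    (ht : t ∈ nonZeroDivisors R') (ha' : a' ∈ nonZeroDivisors R')
    (hb' : b' ∈ nonZeroDivisors R') (hsp : Ideal.span {a', b'} = ⊤) (bound : ℕ∞)
    (hord : Ring.ord L (algebraMap R' L (t * a' * (t * b'))) ≤ bound)
    (hlt : bound < ((n + 1 : ℕ) : ℕ∞)) :
    Good L {algebraMap R' L t * algebraMap R' L a', algebraMap R' L t * algebraMap R' L b'} := by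
  have hjnz : ∀ w ∈ nonZeroDivisors R', algebraMap R' L w ∈ nonZeroDivisors L := fun w hw =>
    IsLocalization.map_nonZeroDivisors_le q.primeCompl L ⟨w, hw, rfl⟩
  have hab : IsUnit (algebraMap R' L a') ∨ IsUnit (algebraMap R' L b') := by
    have h1 : (1 : R') ∈ Ideal.span {a', b'} := by rw [hsp]; trivial
    obtain ⟨α, β, hαβ⟩ := Ideal.mem_span_pair.mp h1
    by_contra hcon
    rw [not_or] at hcon
    have ha'q : a' ∈ q := by
      by_contra hn
      exact hcon.1 (IsLocalization.map_units L (⟨a', hn⟩ : q.primeCompl))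
    have hb'q : b' ∈ q := by
      by_contra hn
      exact hcon.2 (IsLocalization.map_units L (⟨b', hn⟩ : q.primeCompl))
    have h2 : (1 : R') ∈ q := by
      rw [← hαβ]
      exact q.add_mem (q.mul_mem_left _ ha'q) (q.mul_mem_left _ hb'q)
    exact hq.ne_top ((Ideal.eq_top_iff_one q).mpr h2)
  by_cases htq : t ∈ q
  · have main : ∀ a b : R', a ∈ nonZeroDivisors R' → b ∈ nonZeroDivisors R' →
        IsUnit (algebraMap R' L b) → t * a' * (t * b') = t * (t * (a * b)) →
        Good L {algebraMap R' L t * algebraMap R' L a,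
          algebraMap R' L t * algebraMap R' L b} := by
      intro a b ha hb hbu hxy
      apply good_pair_of L _ _ _ hbu
      apply ih L hdim _ _ (hjnz t ht) (mul_mem (hjnz a ha) (hjnz b hb))
      have h1 := Ring.ord_mul' L (a := algebraMap R' L t)
        (b := algebraMap R' L t * (algebraMap R' L a * algebraMap R' L b)) (hjnz t ht)
      have h3 : Ring.ord L (algebraMap R' L t) ≠ 0 := by
        intro h0
        rw [Ring.ord, Module.length_eq_zero_iff, Submodule.Quotient.subsingleton_iff,
          Ideal.span_singleton_eq_top] at h0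
        exact (IsLocalization.AtPrime.isUnit_to_map_iff L q t).mp h0 htq
      rw [hxy, map_mul, map_mul, map_mul, h1] at hord
      generalize Ring.ord L (algebraMap R' L t * (algebraMap R' L a * algebraMap R' L b)) = Bv
        at hord ⊢
      have hA : (1 : ℕ∞) ≤ Ring.ord L (algebraMap R' L t) := ENat.one_le_iff_ne_zero.mpr h3
      have hB : 1 + Bv < ((n + 1 : ℕ) : ℕ∞) :=
        lt_of_le_of_lt ((add_le_add hA le_rfl).trans hord) hlt
      have hBne : Bv ≠ ⊤ := by
        rintro rfl
        rw [add_top] at hB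
        exact not_top_lt hB
      obtain ⟨k, rfl⟩ := ENat.ne_top_iff_exists.mp hBne
      norm_cast at hB ⊢
      omega
    rcases hab with hau | hbu
    · rw [Set.pair_comm]
      exact main b' a' hb' ha' hau (by ring)
    · exact main a' b' ha' hb' hbu (by ring)
  · have htu : IsUnit (algebraMap R' L t) :=
      IsLocalization.map_units L (⟨t, htq⟩ : q.primeCompl)
    rcases hab with hau | hbu
    · rw [Set.pair_comm]
      exact good_pair_unit L _ _ (mul_mem (hjnz t ht) (hjnz b' hb'))
        (mul_mem (hjnz t ht) (hjnz a' ha')) (htu.mul hau)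
    · exact good_pair_unit L _ _ (mul_mem (hjnz t ht) (hjnz a' ha'))
        (mul_mem (hjnz t ht) (hjnz b' hb')) (htu.mul hbu)

theorem good_pair (n : ℕ) : PairStmt.{u} n := by
  induction n with
  | zero =>
    intro R _ _ _ _ x y _ _ h
    exact absurd h (by simp)
  | succ n ih =>
    intro R _ _ _ hR x y hx hy hlt
    by_cases hyu : IsUnit y
    · exact good_pair_unit R x y hx hy hyu
    by_cases hxu : IsUnit x
    · rw [Set.pair_comm]
      exact good_pair_unit R y x hy hx hxu
    obtain ⟨R', instR', instAR', hext, t, a', b', ht, ha', hb', hxa, hyb, hsp⟩ :=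
      Groth.Agent.H4.BlowOne.main hR x y hx hy
    apply good_of_local R R' (hext : CycAlg.IsFinExt R R' (maximalIdeal R))
    intro q hq
    obtain ⟨hinj, hfin, nE, hnE⟩ := hext
    haveI : Module.Finite R R' := hfin
    haveI : Algebra.IsIntegral R R' := Algebra.IsIntegral.of_finite R R'
    haveI : IsNoetherianRing R' := IsNoetherianRing.of_finite R R'
    have hqc : q.comap (algebraMap R R') = maximalIdeal R :=
      eq_maximalIdeal (Ideal.isMaximal_comap_of_isIntegral_of_isMaximal q)
    have hxm : x ∈ maximalIdeal R := (mem_maximalIdeal x).mpr hxu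
    have hx'q : algebraMap R R' x ∈ q := by
      have h1 : x ∈ q.comap (algebraMap R R') := by rw [hqc]; exact hxm
      exact h1
    have hx'nz : algebraMap R R' x ∈ nonZeroDivisors R' := by rw [hxa]; exact mul_mem ht ha'
    have hy'nz : algebraMap R R' y ∈ nonZeroDivisors R' := by rw [hyb]; exact mul_mem ht hb'
    have hdim : ringKrullDim (Localization.AtPrime q) = 1 := dim_loc R hR R' q _ hx'q hx'nz
    haveI : IsNoetherianRing (Localization.AtPrime q) :=
      IsLocalization.isNoetherianRing q.primeCompl _ inferInstance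
    haveI : Ring.KrullDimLE 1 R := Ring.krullDimLE_iff.mpr (by rw [hR, Nat.cast_one])
    have hset : (algebraMap R' (Localization.AtPrime q) '' (algebraMap R R' '' {x, y})) =
        {algebraMap R' (Localization.AtPrime q) t * algebraMap R' (Localization.AtPrime q) a',
         algebraMap R' (Localization.AtPrime q) t * algebraMap R' (Localization.AtPrime q) b'} := by
      rw [Set.image_pair, Set.image_pair, hxa, hyb, map_mul, map_mul]
    rw [hset]
    refine step_local n ih R' q (Localization.AtPrime q) hdim t a' b' ht ha' hb' hsp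
      (Ring.ord R (x * y)) ?_ hlt
    have hxy : algebraMap R R' (x * y) = t * a' * (t * b') := by rw [map_mul, hxa, hyb]
    rw [← hxy]
    calc Ring.ord (Localization.AtPrime q)
          (algebraMap R' (Localization.AtPrime q) (algebraMap R R' (x * y)))
        ≤ Ring.ord R' (algebraMap R R' (x * y)) := ord_le_of_loc (fun s => by
            obtain ⟨⟨r, t'⟩, h⟩ := IsLocalization.surj q.primeCompl s
            exact ⟨r, t', IsLocalization.map_units _ t', h⟩) _
      _ ≤ Module.length R (R' ⧸ Ideal.span {algebraMap R R' (x * y)}) :=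
          ord_le_length_restrict _
      _ = Ring.ord R (x * y) := length_ext hinj (x * y)
          (by rw [map_mul]; exact mul_mem hx'nz hy'nz) nE (fun b => by
            obtain ⟨r, hr⟩ := hnE ((x * y) ^ nE)
              (Ideal.pow_mem_pow (Ideal.mul_mem_right _ _ hxm) nE) b
            exact ⟨r, by rw [hr, Algebra.smul_def, map_pow]⟩)
          (Ring.ord_ne_top (pow_mem (mul_mem hx hy) nE))

theorem good_pair_all (R : Type u) [CommRing R] [IsNoetherianRing R] [IsLocalRing R]
    (hR : ringKrullDim R = 1) (x y : R) (hx : x ∈ nonZeroDivisors R)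
    (hy : y ∈ nonZeroDivisors R) : Good R {x, y} := by
  haveI : Ring.KrullDimLE 1 R := Ring.krullDimLE_iff.mpr (by rw [hR, Nat.cast_one])
  obtain ⟨k, hk⟩ := ENat.ne_top_iff_exists.mp (Ring.ord_ne_top (mul_mem hx hy))
  exact good_pair (k + 1) R hR x y hx hy (by rw [← hk]; exact_mod_cast Nat.lt_succ_self k)

theorem good_finset (R : Type u) [CommRing R] [IsNoetherianRing R] [IsLocalRing R]
    (hR : ringKrullDim R = 1) (z : R) (hz : z ∈ nonZeroDivisors R) (hzu : ¬ IsUnit z)
    (F : Finset R) (hF : ∀ s ∈ F, s ∈ nonZeroDivisors R) :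
    Good R (insert z (↑F : Set R)) := by
  classical
  induction F using Finset.induction_on with
  | empty =>
    rw [Finset.coe_empty, insert_empty_eq]
    apply good_self
    · intro s hs
      rw [Set.mem_singleton_iff] at hs
      rw [hs]; exact hz
    · refine ⟨z, hz, fun s hs => ⟨1, 1, ?_⟩⟩
      rw [Set.mem_singleton_iff] at hs
      simp [hs]
  | insert s F hsF ih =>
    have ihF := ih (fun s' hs' => hF s' (Finset.mem_insert_of_mem hs'))
    have hs : s ∈ nonZeroDivisors R := hF s (Finset.mem_insert_self s F)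
    obtain ⟨B, instB, instAB, hext, hnz, hloc⟩ := ihF
    rw [Finset.coe_insert, Set.insert_comm]
    apply good_of_local R B hext
    intro q hq
    obtain ⟨hinj, hfin, nE, hnE⟩ := hext
    haveI : Module.Finite R B := hfin
    haveI : Algebra.IsIntegral R B := Algebra.IsIntegral.of_finite R B
    haveI : IsNoetherianRing B := IsNoetherianRing.of_finite R B
    have hqc : q.comap (algebraMap R B) = maximalIdeal R :=
      eq_maximalIdeal (Ideal.isMaximal_comap_of_isIntegral_of_isMaximal q)
    have hzm : z ∈ maximalIdeal R := (mem_maximalIdeal z).mpr hzu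
    have hzq : algebraMap R B z ∈ q := by
      have h1 : z ∈ q.comap (algebraMap R B) := by rw [hqc]; exact hzm
      exact h1
    have hzB : algebraMap R B z ∈ nonZeroDivisors B := hnz _ ⟨z, Set.mem_insert z _, rfl⟩
    have hdim : ringKrullDim (Localization.AtPrime q) = 1 := dim_loc R hR B q _ hzq hzB
    haveI : IsNoetherianRing (Localization.AtPrime q) :=
      IsLocalization.isNoetherianRing q.primeCompl _ inferInstance
    have hsB : algebraMap R B s ∈ nonZeroDivisors B :=
      nzd_ext hinj (maximalIdeal R) nE hnE z hzm hzB s hs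
    have hjnz : ∀ w ∈ nonZeroDivisors B,
        algebraMap B (Localization.AtPrime q) w ∈ nonZeroDivisors (Localization.AtPrime q) :=
      fun w hw => IsLocalization.map_nonZeroDivisors_le q.primeCompl _ ⟨w, hw, rfl⟩
    obtain ⟨π, hπ, hf⟩ := hloc q
    obtain ⟨C, instC, instAC, hCext, hCnz, hCloc⟩ :=
      good_pair_all (Localization.AtPrime q) hdim π
        (algebraMap B (Localization.AtPrime q) (algebraMap R B s)) hπ (hjnz _ hsB)
    refine ⟨C, instC, instAC, hCext, ?_, ?_⟩
    · rintro _ ⟨_, ⟨_, ⟨s', hs', rfl⟩, rfl⟩, rfl⟩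
      rw [Set.mem_insert_iff] at hs'
      rcases hs' with rfl | hs'
      · exact hCnz _ ⟨_, Or.inr rfl, rfl⟩
      · obtain ⟨v, e, he⟩ := hf _ ⟨_, ⟨s', hs', rfl⟩, rfl⟩
        rw [he, map_mul, map_pow]
        have hθπ : algebraMap (Localization.AtPrime q) C π ∈ nonZeroDivisors C :=
          hCnz _ ⟨π, Or.inl rfl, rfl⟩
        exact mul_mem (IsUnit.mem_nonZeroDivisors (v.isUnit.map _)) (pow_mem hθπ e)
    · intro Q hQ
      obtain ⟨ϖ, hϖ, hg⟩ := hCloc Q
      refine ⟨ϖ, hϖ, ?_⟩
      obtain ⟨u, f, hu⟩ := hg _ ⟨_, ⟨π, Or.inl rfl, rfl⟩, rfl⟩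
      rintro _ ⟨_, ⟨_, ⟨_, ⟨s', hs', rfl⟩, rfl⟩, rfl⟩, rfl⟩
      rw [Set.mem_insert_iff] at hs'
      rcases hs' with rfl | hs'
      · exact hg _ ⟨_, ⟨_, Or.inr rfl, rfl⟩, rfl⟩
      · obtain ⟨v, e, he⟩ := hf _ ⟨_, ⟨s', hs', rfl⟩, rfl⟩
        obtain ⟨w, hw⟩ := ((v.isUnit.map (algebraMap (Localization.AtPrime q) C)).map
          (algebraMap C (Localization.AtPrime Q)))
        refine ⟨w * u ^ e, f * e, ?_⟩
        rw [he, map_mul, map_mul, map_pow, map_pow, hu, ← hw]
        simp only [Units.val_mul, Units.val_pow_eq_pow_val]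
        ring

theorem main (A : Type u) [CommRing A] [IsNoetherianRing A] [IsLocalRing A]
    (hA : ringKrullDim A = 1) (r : ℕ) (a : Fin r → A) (ha : ∀ i, a i ∈ nonZeroDivisors A)
    (hna : ∃ i, ¬ IsUnit (a i)) :
    ∃ (B : Type u) (_ : CommRing B) (_ : Algebra A B),
      CycAlg.IsFinExt A B (IsLocalRing.maximalIdeal A) ∧
      ∀ q : MaximalSpectrum B, ∃ π : Localization.AtPrime q.asIdeal,
        π ∈ nonZeroDivisors (Localization.AtPrime q.asIdeal) ∧
        ∀ i, ∃ (v : (Localization.AtPrime q.asIdeal)ˣ) (e : ℕ),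
          algebraMap A (Localization.AtPrime q.asIdeal) (a i) =
            (v : Localization.AtPrime q.asIdeal) * π ^ e := by
  classical
  obtain ⟨i₀, hi₀⟩ := hna
  have h := good_finset A hA (a i₀) (ha i₀) hi₀ (Finset.univ.image a) (by
    intro s hs
    obtain ⟨i, -, rfl⟩ := Finset.mem_image.mp hs
    exact ha i)
  obtain ⟨B, instB, instAB, hext, -, hloc⟩ := h
  refine ⟨B, instB, instAB, hext, fun q => ?_⟩
  haveI := q.isMaximal
  obtain ⟨π, hπ, hf⟩ := hloc q.asIdeal
  refine ⟨π, hπ, fun i => ?_⟩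
  obtain ⟨v, e, he⟩ := hf _ ⟨_, ⟨a i, Or.inr (by simp), rfl⟩, rfl⟩
  exact ⟨v, e, by
    rw [IsScalarTower.algebraMap_apply A B (Localization.AtPrime q.asIdeal)]; exact he⟩

end Groth.Agent.H9.CycMono
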