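import Mathlib
import Groth.Prelude.Def_Tame
import Groth.Agent.S1833
import Groth.Agent.Lib.Helper9.Misc.CycLen

set_option autoImplicit false
set_option linter.style.haveILetI false
universe u
open IsLocalRing Pointwise

namespace Groth.Agent.H9.CycQuot

section Dim1
variable {A : Type u} [CommRing A] [IsLocalRing A]

theorem height_max (hA : ringKrullDim A = 1) : (maximalIdeal A).height = 1 := by
  have h := IsLocalRing.maximalIdeal_height_eq_ringKrullDim (R := A)
  rw [hA] at h
  exact_mod_cast h

theorem minimal_of_ne_max [IsNoetherianRing A] (hA : ringKrullDim A = 1) (p : Ideal A)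
    [hp : p.IsPrime] (hne : p ≠ maximalIdeal A) : p ∈ minimalPrimes A := by
  have hlt : p < maximalIdeal A := lt_of_le_of_ne (le_maximalIdeal hp.ne_top) hne
  have h1 := Ideal.height_strict_mono_of_isPrime hlt
  rw [height_max hA] at h1
  rw [← Ideal.height_eq_zero_iff]
  exact ENat.lt_one_iff_eq_zero.mp h1

theorem max_not_minimal (hA : ringKrullDim A = 1) : maximalIdeal A ∉ minimalPrimes A := by
  intro h
  rw [← Ideal.height_eq_zero_iff, height_max hA] at h
  exact one_ne_zero h

theorem nzd_not_mem_minimal {p : Ideal A} (hp : p ∈ minimalPrimes A) {x : A}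
    (hx : x ∈ nonZeroDivisors A) : x ∉ p :=
  fun hxp => Set.disjoint_left.mp (Ideal.disjoint_nonZeroDivisors_of_mem_minimalPrimes hp) hxp hx

theorem eq_max_of_nzd_mem [IsNoetherianRing A] (hA : ringKrullDim A = 1) (p : Ideal A)
    [p.IsPrime] {x : A} (hx : x ∈ nonZeroDivisors A) (hxp : x ∈ p) : p = maximalIdeal A := by
  by_contra hne
  exact nzd_not_mem_minimal (minimal_of_ne_max hA p hne) hx hxp

theorem kdim_quot {A : Type u} [CommRing A] (hA : ringKrullDim A = 1) (q : Ideal A) :
    Ring.KrullDimLE 1 (A ⧸ q) :=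
  Ring.krullDimLE_iff.mpr ((ringKrullDim_quotient_le q).trans (by rw [hA, Nat.cast_one]))

end Dim1

section OF

theorem oF_div (R : Type u) [CommRing R] [IsDomain R] [IsNoetherianRing R] [Ring.KrullDimLE 1 R]
    (K : Type u) [Field K] [Algebra R K] [IsFractionRing R K] {x y : R} (hx : x ≠ 0)
    (hy : y ≠ 0) :
    CycAlg.ordFrac R K (algebraMap R K x / algebraMap R K y) =
      ((Ring.ord R x).toNat : ℤ) - ((Ring.ord R y).toNat : ℤ) := by
  unfold CycAlg.ordFrac
  rw [dif_pos ⟨inferInstance, inferInstance, inferInstance, inferInstance⟩]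
  rw [map_div₀, Ring.ordFrac_eq_ord R hx, Ring.ordFrac_eq_ord R hy]
  have hxn : x ∈ nonZeroDivisors R := mem_nonZeroDivisors_of_ne_zero hx
  have hyn : y ∈ nonZeroDivisors R := mem_nonZeroDivisors_of_ne_zero hy
  obtain ⟨m, hm⟩ := ENat.ne_top_iff_exists.mp (Ring.ord_ne_top hxn)
  obtain ⟨n, hn⟩ := ENat.ne_top_iff_exists.mp (Ring.ord_ne_top hyn)
  rw [Ring.ordMonoidWithZeroHom_eq_coe R hxn hm.symm, Ring.ordMonoidWithZeroHom_eq_coe R hyn hn.symm,
    ← hm, ← hn, ← WithZero.coe_div]
  simp only [WithZero.recZeroCoe_coe]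
  simp

end OF

section Len
variable {A : Type u} [CommRing A] {M : Type u} [AddCommGroup M] [Module A M]

theorem len_aux (φ : M →ₗ[A] M) (K : Submodule A M) (hK : K ≤ LinearMap.range φ) :
    Module.length A (M ⧸ K) =
      Module.length A (M ⧸ Submodule.comap φ K) + Module.length A (M ⧸ LinearMap.range φ) := by
  rw [CycMono.length_quot_of_le hK]
  have hker : LinearMap.ker (K.mkQ ∘ₗ φ) = Submodule.comap φ K := by
    ext m
    rw [LinearMap.mem_ker, LinearMap.comp_apply, Submodule.mkQ_apply,
      Submodule.Quotient.mk_eq_zero, Submodule.mem_comap]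
  rw [← LinearMap.range_comp φ K.mkQ, ← (LinearMap.quotKerEquivRange _).length_eq,
    (Submodule.quotEquivOfEq _ _ hker).length_eq]

theorem smul_top_eq_range (x : A) :
    x • (⊤ : Submodule A M) = LinearMap.range (LinearMap.lsmul A M x) := by
  ext m
  rw [Submodule.mem_smul_pointwise_iff_exists, LinearMap.mem_range]
  constructor
  · rintro ⟨n, -, rfl⟩; exact ⟨n, rfl⟩
  · rintro ⟨n, rfl⟩; exact ⟨n, trivial, rfl⟩

theorem JM_eq (a : A) (I : Ideal A) :
    (Ideal.span {a} * I) • (⊤ : Submodule A M) =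
      Submodule.map (LinearMap.lsmul A M a) (I • (⊤ : Submodule A M)) := by
  rw [Submodule.mul_smul, Submodule.ideal_span_singleton_smul]
  ext m
  rw [Submodule.mem_smul_pointwise_iff_exists, Submodule.mem_map]
  exact Iff.rfl

theorem key_len (a b : A) (I : Ideal A) (ha : Function.Injective (LinearMap.lsmul A M a))
    (hJb : (Ideal.span {a} * I) • (⊤ : Submodule A M) ≤
      LinearMap.range (LinearMap.lsmul A M b)) :
    Module.length A (M ⧸ Submodule.comap (LinearMap.lsmul A M b)
        ((Ideal.span {a} * I) • (⊤ : Submodule A M))) +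
      Module.length A (M ⧸ LinearMap.range (LinearMap.lsmul A M b)) =
    Module.length A (M ⧸ I • (⊤ : Submodule A M)) +
      Module.length A (M ⧸ LinearMap.range (LinearMap.lsmul A M a)) := by
  rw [← len_aux _ _ hJb]
  have hJa : (Ideal.span {a} * I) • (⊤ : Submodule A M) ≤
      LinearMap.range (LinearMap.lsmul A M a) := by
    rw [JM_eq]; exact LinearMap.map_le_range
  rw [len_aux _ _ hJa]
  have hc : Submodule.comap (LinearMap.lsmul A M a) ((Ideal.span {a} * I) • (⊤ : Submodule A M)) =
      I • (⊤ : Submodule A M) := by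
    rw [JM_eq, Submodule.comap_map_eq_of_injective ha]
  rw [hc]

end Len

section Main
variable {A : Type u} [CommRing A] [IsNoetherianRing A] [IsLocalRing A]
  {M : Type u} [AddCommGroup M] [Module A M] [Module.Finite A M]

theorem smul_injective_of (hMemb : ∀ p ∈ associatedPrimes A M, p ∈ minimalPrimes A) (x : A)
    (hx : x ∈ nonZeroDivisors A) : Function.Injective (LinearMap.lsmul A M x) := by
  have h := biUnion_associatedPrimes_eq_compl_regular A M
  have hx' : x ∉ ⋃ p ∈ associatedPrimes A M, (p : Set A) := by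
    simp only [Set.mem_iUnion, not_exists]
    intro p hp hxp
    exact nzd_not_mem_minimal (hMemb p hp) hx hxp
  rw [h] at hx'
  simp only [Set.mem_compl_iff, Set.mem_setOf_eq, not_not] at hx'
  intro m₁ m₂ h12
  exact hx' (by simpa using h12)

theorem main (hA : ringKrullDim A = 1) (a b : A) (ha : a ∈ nonZeroDivisors A)
    (hb : b ∈ nonZeroDivisors A)
    (hMemb : ∀ p ∈ associatedPrimes A M, p ∈ minimalPrimes A)
    (hsupp : Module.support A M = Set.univ) (I : Ideal A)
    (hI : I = (Ideal.span {b}).colon (Ideal.span {a})) (P : Submodule A M)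
    (hP : P = Submodule.comap (LinearMap.lsmul A M b)
      ((Ideal.span {a} * I) • (⊤ : Submodule A M))) :
    (Ideal.span {a} * I) • (⊤ : Submodule A M) ≤ LinearMap.range (LinearMap.lsmul A M b) ∧
    ((Module.length A (M ⧸ P)).toNat : ℤ) -
      ((Module.length A (M ⧸ I • (⊤ : Submodule A M))).toNat : ℤ) =
    ∑ᶠ (q : PrimeSpectrum A) (_ : q.asIdeal ∈ minimalPrimes A),
      ((Module.length (Localization.AtPrime q.asIdeal)
        (LocalizedModule q.asIdeal.primeCompl M)).toNat : ℤ) *
      CycAlg.ordFrac (A ⧸ q.asIdeal) q.asIdeal.ResidueField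
        (algebraMap A q.asIdeal.ResidueField a / algebraMap A q.asIdeal.ResidueField b) := by
  have hainj := smul_injective_of hMemb a ha
  have hbI : b ∈ I := by
    rw [hI, Submodule.mem_colon]
    intro s _
    rw [smul_eq_mul]
    exact Ideal.mul_mem_right _ _ (Ideal.mem_span_singleton_self b)
  have hIa : ∀ s ∈ I, s * a ∈ Ideal.span {b} := by
    intro s hs
    rw [hI, Submodule.mem_colon] at hs
    have h1 := hs a (Ideal.mem_span_singleton_self a)
    rwa [smul_eq_mul] at h1
  have hJle : Ideal.span {a} * I ≤ Ideal.span {b} := by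
    rw [Ideal.mul_le]
    intro r hr s hs
    obtain ⟨c, rfl⟩ := Ideal.mem_span_singleton'.mp hr
    have h2 : c * a * s = c * (s * a) := by ring
    rw [h2]
    exact Ideal.mul_mem_left _ _ (hIa s hs)
  have part1 : (Ideal.span {a} * I) • (⊤ : Submodule A M) ≤
      LinearMap.range (LinearMap.lsmul A M b) := by
    rw [Submodule.smul_le]
    intro r hr m _
    obtain ⟨c, rfl⟩ := Ideal.mem_span_singleton'.mp (hJle hr)
    exact ⟨c • m, by simp [mul_smul]⟩
  refine ⟨part1, ?_⟩
  have hS1 : Module.supportDim A M ≤ 1 := by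
    calc Module.supportDim A M ≤ ringKrullDim A := Module.supportDim_le_ringKrullDim A M
      _ = 1 := hA
  have hS0 : ∀ x ∈ nonZeroDivisors A,
      Module.supportDim A (M ⧸ x • (⊤ : Submodule A M)) ≤ 0 := by
    intro x hx
    have key : ∀ p ∈ Module.support A (M ⧸ x • (⊤ : Submodule A M)), p = closedPoint A := by
      intro p hp
      rw [Module.mem_support_iff_of_finite] at hp
      have hxann : x ∈ Module.annihilator A (M ⧸ x • (⊤ : Submodule A M)) := by
        rw [Module.mem_annihilator]
        intro m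
        obtain ⟨m, rfl⟩ := Submodule.Quotient.mk_surjective _ m
        rw [← Submodule.Quotient.mk_smul, Submodule.Quotient.mk_eq_zero]
        exact Submodule.smul_mem_pointwise_smul m x ⊤ trivial
      exact PrimeSpectrum.ext (eq_max_of_nzd_mem hA p.asIdeal hx (hp hxann))
    haveI : Subsingleton ↥(Module.support A (M ⧸ x • (⊤ : Submodule A M))) := by
      constructor
      rintro ⟨p, hp⟩ ⟨p', hp'⟩
      exact Subtype.ext ((key p hp).trans (key p' hp').symm)
    exact Order.krullDim_nonpos_of_subsingleton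
  have hset : {p : PrimeSpectrum A | p ∈ Module.support A M ∧ p.asIdeal ≠ maximalIdeal A} =
      {q : PrimeSpectrum A | q.asIdeal ∈ minimalPrimes A} := by
    ext p
    simp only [Set.mem_setOf_eq, hsupp, Set.mem_univ, true_and]
    constructor
    · intro hne; exact minimal_of_ne_max hA p.asIdeal hne
    · intro hmin heq; rw [heq] at hmin; exact max_not_minimal hA hmin
  have hform : ∀ x ∈ nonZeroDivisors A,
      Module.length A (M ⧸ LinearMap.range (LinearMap.lsmul A M x)) =
      ∑ᶠ (q : PrimeSpectrum A) (_ : q.asIdeal ∈ minimalPrimes A),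
        Ring.ord (A ⧸ q.asIdeal) (Ideal.Quotient.mk q.asIdeal x) *
        Module.length (Localization.AtPrime q.asIdeal)
          (LocalizedModule q.asIdeal.primeCompl M) := by
    intro x hx
    have h := Groth.Agent.S1833.result A M x hS1 (hS0 x hx)
    have hk : Module.length A (LinearMap.ker (LinearMap.lsmul A M x)) = 0 := by
      rw [LinearMap.ker_eq_bot.mpr (smul_injective_of hMemb x hx)]
      simp
    rw [hk, zero_add] at h
    rw [← (Submodule.quotEquivOfEq _ _ (smul_top_eq_range x)).length_eq, h]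
    exact finsum_mem_congr hset (fun _ _ => rfl)
  have hfinS : {q : PrimeSpectrum A | q.asIdeal ∈ minimalPrimes A}.Finite := by
    have h1 : (minimalPrimes A).Finite := Ideal.finite_minimalPrimes_of_isNoetherianRing A ⊥
    exact Set.Finite.preimage (fun x _ y _ h => PrimeSpectrum.ext h) h1
  have hfin_ord : ∀ (q : PrimeSpectrum A), ∀ x ∈ nonZeroDivisors A,
      q.asIdeal ∈ minimalPrimes A →
      Ring.ord (A ⧸ q.asIdeal) (Ideal.Quotient.mk q.asIdeal x) ≠ ⊤ := by
    intro q x hx hq
    haveI : Ring.KrullDimLE 1 (A ⧸ q.asIdeal) := kdim_quot hA q.asIdeal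
    apply Ring.ord_ne_top
    apply mem_nonZeroDivisors_of_ne_zero
    rw [Ne, Ideal.Quotient.eq_zero_iff_mem]
    exact nzd_not_mem_minimal hq hx
  have hfin_len : ∀ (q : PrimeSpectrum A), q.asIdeal ∈ minimalPrimes A →
      Module.length (Localization.AtPrime q.asIdeal)
        (LocalizedModule q.asIdeal.primeCompl M) ≠ ⊤ := by
    intro q hq
    haveI : IsNoetherianRing (Localization.AtPrime q.asIdeal) :=
      IsLocalization.isNoetherianRing q.asIdeal.primeCompl _ inferInstance
    haveI : IsArtinianRing (Localization.AtPrime q.asIdeal) := by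
      rw [isArtinianRing_iff_krullDimLE_zero, Ring.krullDimLE_iff,
        IsLocalization.AtPrime.ringKrullDim_eq_height q.asIdeal,
        Ideal.height_eq_zero_iff.mpr hq]
      simp
    exact Module.length_ne_top
  have hnat : ∀ x ∈ nonZeroDivisors A,
      Module.length A (M ⧸ LinearMap.range (LinearMap.lsmul A M x)) =
      ((∑ q ∈ hfinS.toFinset,
        (Ring.ord (A ⧸ q.asIdeal) (Ideal.Quotient.mk q.asIdeal x)).toNat *
        (Module.length (Localization.AtPrime q.asIdeal)
          (LocalizedModule q.asIdeal.primeCompl M)).toNat : ℕ) : ℕ∞) := by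
    intro x hx
    rw [hform x hx]
    refine (finsum_mem_eq_finite_toFinset_sum _ hfinS).trans ?_
    rw [Nat.cast_sum]
    apply Finset.sum_congr rfl
    intro q hq
    have hqm : q.asIdeal ∈ minimalPrimes A := (hfinS.mem_toFinset).mp hq
    rw [Nat.cast_mul, ENat.coe_toNat (hfin_ord q x hx hqm), ENat.coe_toNat (hfin_len q hqm)]
  have hIle : LinearMap.range (LinearMap.lsmul A M b) ≤ I • (⊤ : Submodule A M) := by
    rintro _ ⟨m, rfl⟩
    exact Submodule.smul_mem_smul hbI trivial
  have hfinI : Module.length A (M ⧸ I • (⊤ : Submodule A M)) ≠ ⊤ := by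
    have h1 := Module.length_le_of_surjective (Submodule.factor hIle)
      (Submodule.factor_surjective hIle)
    rw [hnat b hb] at h1
    exact ne_top_of_le_ne_top (ENat.coe_ne_top _) h1
  have hkey := key_len a b I hainj part1
  rw [hP]
  rw [hnat a ha, hnat b hb] at hkey
  obtain ⟨nI, hnI⟩ := ENat.ne_top_iff_exists.mp hfinI
  have hfinP : Module.length A (M ⧸ Submodule.comap (LinearMap.lsmul A M b)
      ((Ideal.span {a} * I) • (⊤ : Submodule A M))) ≠ ⊤ := by
    intro htop
    rw [htop, top_add, ← hnI] at hkey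
    refine absurd hkey.symm ?_
    rw [← Nat.cast_add]
    exact ENat.coe_ne_top _
  obtain ⟨nP, hnP⟩ := ENat.ne_top_iff_exists.mp hfinP
  rw [← hnP, ← hnI] at hkey
  rw [← hnP, ← hnI, ENat.toNat_coe, ENat.toNat_coe]
  norm_cast at hkey
  refine Eq.trans ?_ (finsum_mem_eq_finite_toFinset_sum _ hfinS).symm
  have hterm : ∀ q ∈ hfinS.toFinset,
      ((Module.length (Localization.AtPrime q.asIdeal)
        (LocalizedModule q.asIdeal.primeCompl M)).toNat : ℤ) *
      CycAlg.ordFrac (A ⧸ q.asIdeal) q.asIdeal.ResidueField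
        (algebraMap A q.asIdeal.ResidueField a / algebraMap A q.asIdeal.ResidueField b) =
      ((Module.length (Localization.AtPrime q.asIdeal)
        (LocalizedModule q.asIdeal.primeCompl M)).toNat : ℤ) *
      (((Ring.ord (A ⧸ q.asIdeal) (Ideal.Quotient.mk q.asIdeal a)).toNat : ℤ) -
        ((Ring.ord (A ⧸ q.asIdeal) (Ideal.Quotient.mk q.asIdeal b)).toNat : ℤ)) := by
    intro q hq
    have hqm : q.asIdeal ∈ minimalPrimes A := (hfinS.mem_toFinset).mp hq
    haveI : Ring.KrullDimLE 1 (A ⧸ q.asIdeal) := kdim_quot hA q.asIdeal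
    have hane : algebraMap A (A ⧸ q.asIdeal) a ≠ 0 := by
      rw [Ne, Ideal.Quotient.algebraMap_eq, Ideal.Quotient.eq_zero_iff_mem]
      exact nzd_not_mem_minimal hqm ha
    have hbne : algebraMap A (A ⧸ q.asIdeal) b ≠ 0 := by
      rw [Ne, Ideal.Quotient.algebraMap_eq, Ideal.Quotient.eq_zero_iff_mem]
      exact nzd_not_mem_minimal hqm hb
    rw [IsScalarTower.algebraMap_apply A (A ⧸ q.asIdeal) q.asIdeal.ResidueField a,
      IsScalarTower.algebraMap_apply A (A ⧸ q.asIdeal) q.asIdeal.ResidueField b,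
      oF_div (A ⧸ q.asIdeal) q.asIdeal.ResidueField hane hbne]
    rfl
  rw [Finset.sum_congr rfl hterm]
  have e1 : ∑ q ∈ hfinS.toFinset,
      ((Module.length (Localization.AtPrime q.asIdeal)
        (LocalizedModule q.asIdeal.primeCompl M)).toNat : ℤ) *
      (((Ring.ord (A ⧸ q.asIdeal) (Ideal.Quotient.mk q.asIdeal a)).toNat : ℤ) -
        ((Ring.ord (A ⧸ q.asIdeal) (Ideal.Quotient.mk q.asIdeal b)).toNat : ℤ)) =
      (∑ q ∈ hfinS.toFinset,
        ((Ring.ord (A ⧸ q.asIdeal) (Ideal.Quotient.mk q.asIdeal a)).toNat : ℤ) *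
        ((Module.length (Localization.AtPrime q.asIdeal)
          (LocalizedModule q.asIdeal.primeCompl M)).toNat : ℤ)) -
      ∑ q ∈ hfinS.toFinset,
        ((Ring.ord (A ⧸ q.asIdeal) (Ideal.Quotient.mk q.asIdeal b)).toNat : ℤ) *
        ((Module.length (Localization.AtPrime q.asIdeal)
          (LocalizedModule q.asIdeal.primeCompl M)).toNat : ℤ) := by
    rw [← Finset.sum_sub_distrib]
    exact Finset.sum_congr rfl (fun q _ => by ring)
  rw [e1]
  have hz : ((nP : ℤ) + ((∑ q ∈ hfinS.toFinset,
        (Ring.ord (A ⧸ q.asIdeal) (Ideal.Quotient.mk q.asIdeal b)).toNat *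
        (Module.length (Localization.AtPrime q.asIdeal)
          (LocalizedModule q.asIdeal.primeCompl M)).toNat : ℕ) : ℤ)) =
      (nI : ℤ) + ((∑ q ∈ hfinS.toFinset,
        (Ring.ord (A ⧸ q.asIdeal) (Ideal.Quotient.mk q.asIdeal a)).toNat *
        (Module.length (Localization.AtPrime q.asIdeal)
          (LocalizedModule q.asIdeal.primeCompl M)).toNat : ℕ) : ℤ) := by
    exact_mod_cast hkey
  push_cast at hz
  linarith

end Main

end Groth.Agent.H9.CycQuot
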