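import Mathlib
import Groth.Prelude.Def_DualGr

/-! Helper9: S14397 cycle lattice cokernel torsion-free -/

namespace Groth.Agent.H9.CycTF

universe u

theorem main {V E : Type u} [Fintype V] [Fintype E] [DecidableEq V] [DecidableEq E]
    (ends : E → V × V) {n : ℕ} (D : Fin n → Finset E) (hcover : ∀ e : E, ∃ i : Fin n, e ∉ D i) :
    IsAddTorsionFree (((i : Fin n) → ↥(DualGr.cycleLattice (DualGr.ctrEnds ends (D i)))) ⧸
      LinearMap.range (LinearMap.pi fun i : Fin n => DualGr.genMap ends (D i))) := by
  classical
  constructor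
  intro N hN a b hab
  simp only at hab
  induction a using Submodule.Quotient.induction_on with
  | _ ya =>
  induction b using Submodule.Quotient.induction_on with
  | _ yb =>
  rw [← Submodule.Quotient.mk_smul, ← Submodule.Quotient.mk_smul, Submodule.Quotient.eq] at hab
  rw [Submodule.Quotient.eq]
  obtain ⟨x, hx⟩ := hab
  -- y = ya - yb
  set y := ya - yb with hy
  have hxy : ∀ i, DualGr.genMap ends (D i) x = N • y i := by
    intro i
    have := congrFun hx i
    rw [LinearMap.pi_apply] at this
    rw [this, hy]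
    simp [smul_sub]
  -- pointwise
  have hpt : ∀ i (e : E) (he : e ∉ D i), x.1 e = (N : ℤ) * (y i).1 ⟨e, he⟩ := by
    intro i e he
    have := congrArg (fun z : ↥(DualGr.cycleLattice (DualGr.ctrEnds ends (D i))) => z.1 ⟨e, he⟩) (hxy i)
    simp only [DualGr.genMap, LinearMap.codRestrict_apply] at this
    simpa [DualGr.resE] using this
  choose ie hie using hcover
  let x' : E → ℤ := fun e => (y (ie e)).1 ⟨e, hie e⟩
  have hx' : x.1 = (N : ℤ) • x' := by
    funext e
    simp only [Pi.smul_apply, smul_eq_mul, x']
    exact hpt (ie e) e (hie e)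
  have hNZ : (N : ℤ) ≠ 0 := by exact_mod_cast hN
  have hcyc : x' ∈ DualGr.cycleLattice ends := by
    have h1 : DualGr.boundaryHom ends x.1 = 0 := x.2
    rw [hx', map_smul] at h1
    show DualGr.boundaryHom ends x' = 0
    funext v
    have := congrFun h1 v
    simp only [Pi.smul_apply, smul_eq_mul, Pi.zero_apply, mul_eq_zero] at this
    rcases this with h | h
    · exact absurd h hNZ
    · exact h
  refine ⟨⟨x', hcyc⟩, ?_⟩
  funext i
  rw [LinearMap.pi_apply]
  apply Subtype.ext
  funext e
  simp only [DualGr.genMap, LinearMap.codRestrict_apply]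
  show x' e.1 = (y i).1 e
  have h1 := hpt i e.1 e.2
  rw [hx'] at h1
  simp only [Pi.smul_apply, smul_eq_mul] at h1
  exact mul_left_cancel₀ hNZ h1

end Groth.Agent.H9.CycTF
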