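import Mathlib

set_option autoImplicit false
universe u

namespace Groth.Agent.H9.DC

open Module

section Mat

variable {A : Type*} [CommRing A]

theorem mat_id (M N : Matrix (Fin 2) (Fin 2) A) :
    M * N + N * M - M.trace • N - N.trace • M + (M.trace * N.trace - (M * N).trace) • (1 : Matrix (Fin 2) (Fin 2) A) = 0 := by
  ext i j
  fin_cases i <;> fin_cases j <;>
    simp [Matrix.mul_apply, Fin.sum_univ_two, Matrix.trace, Matrix.one_apply] <;> ring

end Mat

section Alg

variable {A B : Type*} [CommRing A] [CommRing B] [Algebra A B] (b : Basis (Fin 2) A B)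

include b in
theorem key_id (x y : B) :
    2 * (x * y) - Algebra.trace A B x • y - Algebra.trace A B y • x
      + (Algebra.trace A B x * Algebra.trace A B y - Algebra.trace A B (x * y)) • (1 : B) = 0 := by
  apply Algebra.leftMulMatrix_injective b
  have h := mat_id (Algebra.leftMulMatrix b x) (Algebra.leftMulMatrix b y)
  simp only [map_add, map_sub, map_mul, map_smul, map_one, map_zero, map_ofNat,
    Algebra.trace_eq_matrix_trace b]
  have hc : Algebra.leftMulMatrix b y * Algebra.leftMulMatrix b x
      = Algebra.leftMulMatrix b x * Algebra.leftMulMatrix b y := by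
    rw [← map_mul, ← map_mul, mul_comm]
  rw [hc] at h
  rw [← h, two_mul]

include b in
theorem trace_algebraMap2 (a : A) : Algebra.trace A B (algebraMap A B a) = 2 * a := by
  rw [Algebra.trace_algebraMap_of_basis b]
  simp

/-- the involution `x ↦ Tr x - x` as a function -/
noncomputable def sigFun (x : B) : B := algebraMap A B (Algebra.trace A B x) - x

include b in
theorem sigFun_mul (x y : B) : sigFun (A := A) (x * y) = sigFun (A := A) x * sigFun (A := A) y := by
  have h := key_id b x y
  simp only [sigFun, Algebra.smul_def, mul_one, map_sub, map_mul] at h ⊢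
  linear_combination (-1 : B) * h

include b in
theorem sigFun_one : sigFun (A := A) (1 : B) = 1 := by
  have h := trace_algebraMap2 b 1
  rw [map_one] at h
  simp only [sigFun, h, mul_one, map_ofNat]
  ring

theorem sigFun_add (x y : B) : sigFun (A := A) (x + y) = sigFun (A := A) x + sigFun (A := A) y := by
  simp only [sigFun, map_add]
  ring

include b in
theorem sigFun_algebraMap (a : A) : sigFun (A := A) (algebraMap A B a) = algebraMap A B a := by
  simp only [sigFun, trace_algebraMap2 b, map_mul, map_ofNat]
  ring

include b in
theorem sigFun_sigFun (x : B) : sigFun (A := A) (sigFun (A := A) x) = x := by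
  have h : Algebra.trace A B (sigFun (A := A) x) = Algebra.trace A B x := by
    simp only [sigFun, map_sub, trace_algebraMap2 b]
    ring
  rw [sigFun, h, sigFun]
  ring

include b in
theorem algebraMap_inj : Function.Injective (algebraMap A B) := by
  intro a a' h
  have h1 : a • b 0 = a' • b 0 := by
    rw [Algebra.smul_def, Algebra.smul_def, h]
  have h2 := congrArg (fun z => b.repr z 0) h1
  simpa using h2

theorem sigFun_fixed (h2 : IsUnit (2 : A)) (x : B) (hx : sigFun (A := A) x = x) :
    x ∈ Set.range (algebraMap A B) := by
  obtain ⟨u, hu⟩ := h2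
  refine ⟨↑u⁻¹ * Algebra.trace A B x, ?_⟩
  have h3 : algebraMap A B (Algebra.trace A B x) = 2 * x := by
    simp only [sigFun] at hx
    linear_combination hx
  rw [map_mul, h3, ← map_ofNat (algebraMap A B) 2, ← mul_assoc, ← map_mul, ← hu, Units.inv_mul,
    map_one, one_mul]

end Alg

end Groth.Agent.H9.DC
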