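import Mathlib
import Groth.Agent.Lib.Helper9.Misc.DC1

set_option autoImplicit false
universe u

namespace Groth.Agent.H9.DC

open Module

section BC

variable {A B A' B' : Type*} [CommRing A] [CommRing B] [CommRing A'] [CommRing B']
  [Algebra A B] [Algebra A' B'] (α : A →+* A') (β : B →+* B')
  (hsq : ∀ a, β (algebraMap A B a) = algebraMap A' B' (α a))
  (b : Basis (Fin 2) A B) (b' : Basis (Fin 2) A' B') (hb : ∀ i, b' i = β (b i))
  (hrepr : ∀ y i, b'.repr (β y) i = α (b.repr y i))

include b b' hb hrepr in
theorem trace_bc (x : B) : Algebra.trace A' B' (β x) = α (Algebra.trace A B x) := by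
  rw [Algebra.trace_eq_matrix_trace b', Algebra.trace_eq_matrix_trace b, Matrix.trace,
    Matrix.trace, map_sum]
  refine Finset.sum_congr rfl fun i _ => ?_
  simp only [Matrix.diag_apply, Algebra.leftMulMatrix_eq_repr_mul, hb, ← map_mul, hrepr]

include hsq b b' hb hrepr in
theorem sigFun_bc (x : B) : sigFun (A := A') (β x) = β (sigFun (A := A) x) := by
  simp only [sigFun, trace_bc α β b b' hb hrepr, hsq, map_sub]

end BC

section Transfer

theorem free_transfer {R : Type*} [CommRing R] (a : R) {R₁ : Type*} [CommRing R₁] [Algebra R R₁]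
    [IsLocalization.Away a R₁] {M M₁ : Type*} [AddCommGroup M] [Module R M] [AddCommGroup M₁]
    [Module R M₁] [Module R₁ M₁] [IsScalarTower R R₁ M₁] (g : M →ₗ[R] M₁)
    [IsLocalizedModule (Submonoid.powers a) g]
    [Module.Free (Localization.Away a) (LocalizedModule.Away a M)] : Module.Free R₁ M₁ := by
  let S := Submonoid.powers a
  let ρ : Localization S ≃ₐ[R] R₁ := IsLocalization.algEquiv S (Localization S) R₁
  let e : LocalizedModule S M ≃ₗ[R] M₁ := IsLocalizedModule.iso S g
  haveI : RingHomInvPair (ρ.toRingEquiv : Localization S →+* R₁) (ρ.toRingEquiv.symm : R₁ →+* Localization S) :=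
    RingHomInvPair.of_ringEquiv ρ.toRingEquiv
  haveI : RingHomInvPair (ρ.toRingEquiv.symm : R₁ →+* Localization S) (ρ.toRingEquiv : Localization S →+* R₁) :=
    RingHomInvPair.symm _ _
  let e₂ : LocalizedModule S M ≃ₛₗ[(ρ.toRingEquiv : Localization S →+* R₁)] M₁ :=
    { e.toAddEquiv with
      map_smul' := by
        intro c x
        obtain ⟨⟨r, s⟩, hrs⟩ := IsLocalization.surj S c
        have hu : IsUnit (algebraMap R R₁ s) := IsLocalization.map_units R₁ s
        apply (hu.smul_left_cancel).mp
        change algebraMap R R₁ s • e (c • x) = algebraMap R R₁ s • (ρ c • e x)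
        have h1 : algebraMap R R₁ s • e (c • x) = r • e x := by
          rw [algebraMap_smul, ← map_smul, ← smul_assoc, Algebra.smul_def, mul_comm]
          simp only at hrs
          rw [hrs, algebraMap_smul]
          exact map_smul e r x
        have h2 : algebraMap R R₁ s • (ρ c • e x) = r • e x := by
          rw [← mul_smul, ← ρ.commutes, ← map_mul, mul_comm]
          simp only at hrs
          rw [hrs, ρ.commutes, algebraMap_smul]
        rw [h1, h2] }
  exact Module.Free.of_equiv e₂

end Transfer

end Groth.Agent.H9.DC
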