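import Mathlib
import Groth.Agent.Lib.Helper9.Misc.DC1
import Groth.Agent.Lib.Helper9.Misc.DC1b

set_option autoImplicit false
set_option linter.style.haveILetI false
universe u

namespace Groth.Agent.H9.DC

open Module

section Hom

variable {A B : Type u} [CommRing A] [CommRing B]

/-- `B` is a free `A`-module of rank 2 via `φ` -/
def IsFree2 (φ : A →+* B) : Prop :=
  letI := φ.toAlgebra
  Module.Free A B ∧ Module.Finite A B ∧ ∀ p : PrimeSpectrum A, Module.rankAtStalk B p = 2

theorem IsFree2.nonempty_basis {φ : A →+* B} (h : IsFree2 φ) :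
    letI := φ.toAlgebra; Nonempty (Basis (Fin 2) A B) := by
  letI := φ.toAlgebra
  obtain ⟨hf, hfin, hr⟩ := h
  rcases subsingleton_or_nontrivial A with hA | hA
  · haveI : Subsingleton B := Module.subsingleton A B
    exact ⟨Basis.ofRepr (LinearEquiv.ofSubsingleton _ _)⟩
  · obtain ⟨p⟩ := (inferInstance : Nonempty (PrimeSpectrum A))
    have h2 : Module.finrank A B = 2 := by
      have h3 := hr p
      rw [Module.rankAtStalk_eq_finrank_of_free] at h3
      exact h3
    exact ⟨Module.finBasisOfFinrankEq A B h2⟩

open Classical in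
/-- the canonical involution of a free rank-2 algebra -/
noncomputable def sig (φ : A →+* B) : B →+* B :=
  if h : IsFree2 φ then
    letI := φ.toAlgebra
    { toFun := sigFun (A := A)
      map_one' := sigFun_one h.nonempty_basis.some
      map_mul' := sigFun_mul h.nonempty_basis.some
      map_zero' := by simp [sigFun]
      map_add' := sigFun_add }
  else RingHom.id B

theorem sig_apply {φ : A →+* B} (h : IsFree2 φ) (x : B) :
    sig φ x = (letI := φ.toAlgebra; sigFun (A := A) x) := by
  unfold sig
  rw [dif_pos h]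
  rfl

theorem sig_comp {φ : A →+* B} (h : IsFree2 φ) (a : A) : sig φ (φ a) = φ a := by
  rw [sig_apply h]
  letI := φ.toAlgebra
  exact sigFun_algebraMap h.nonempty_basis.some a

theorem sig_sig {φ : A →+* B} (h : IsFree2 φ) (x : B) : sig φ (sig φ x) = x := by
  rw [sig_apply h, sig_apply h]
  letI := φ.toAlgebra
  exact sigFun_sigFun h.nonempty_basis.some x

theorem sig_fixed {φ : A →+* B} (h : IsFree2 φ) (h2 : IsUnit (2 : A)) (x : B)
    (hx : sig φ x = x) : x ∈ Set.range φ := by
  rw [sig_apply h] at hx
  letI := φ.toAlgebra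
  exact sigFun_fixed h2 x hx

theorem IsFree2.injective {φ : A →+* B} (h : IsFree2 φ) : Function.Injective φ := by
  letI := φ.toAlgebra
  exact algebraMap_inj h.nonempty_basis.some

end Hom

section Sq

open CategoryTheory

variable {A B A' B' : Type u} [CommRing A] [CommRing B] [CommRing A'] [CommRing B']

theorem sig_bc (φ : A →+* B) (φ' : A' →+* B') (α : A →+* A') (β : B →+* B')
    (hpo : IsPushout (CommRingCat.ofHom α) (CommRingCat.ofHom φ) (CommRingCat.ofHom φ')
      (CommRingCat.ofHom β))
    (h : IsFree2 φ) (h' : IsFree2 φ') (x : B) : sig φ' (β x) = β (sig φ x) := by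
  rw [sig_apply h', sig_apply h]
  have hsq : φ'.comp α = β.comp φ := congr($(hpo.1.1).hom)
  algebraize [α, φ, φ', β, φ'.comp α]
  have : IsScalarTower A A' B' := .of_algebraMap_eq' rfl
  have : IsScalarTower A B B' := .of_algebraMap_eq' hsq
  have hP : Algebra.IsPushout A A' B B' := CommRingCat.isPushout_iff_isPushout.mp hpo
  obtain ⟨b⟩ := h.nonempty_basis
  exact sigFun_bc α β (fun a => (congrArg (fun ψ : A →+* B' => ψ a) hsq).symm) b (hP.out.basis b)
    (fun i => hP.out.basis_apply b i) (fun y i => hP.out.basis_repr_comp_apply b y i) x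

theorem isFree2_of_away (φ : A →+* B) (φ' : A' →+* B') (α : A →+* A') (β : B →+* B')
    (hpo : IsPushout (CommRingCat.ofHom α) (CommRingCat.ofHom φ) (CommRingCat.ofHom φ')
      (CommRingCat.ofHom β))
    (a : A) (hloc : letI := α.toAlgebra; IsLocalization.Away a A') (hfin : φ'.Finite)
    (hrk : ∀ p, φ'.finrank p = 2)
    (hfree : letI := φ.toAlgebra; Module.Free (Localization.Away a) (LocalizedModule.Away a B)) :
    IsFree2 φ' := by
  have hsq : φ'.comp α = β.comp φ := congr($(hpo.1.1).hom)
  algebraize [α, φ, φ', β, φ'.comp α]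
  have : IsScalarTower A A' B' := .of_algebraMap_eq' rfl
  have : IsScalarTower A B B' := .of_algebraMap_eq' hsq
  have hP : Algebra.IsPushout A A' B B' := CommRingCat.isPushout_iff_isPushout.mp hpo
  haveI : IsLocalization.Away a A' := hloc
  haveI : IsLocalizedModule (Submonoid.powers a) (IsScalarTower.toAlgHom A B B').toLinearMap :=
    (isLocalizedModule_iff_isBaseChange (Submonoid.powers a) A' _).mpr hP.out
  haveI : Module.Free (Localization.Away a) (LocalizedModule.Away a B) := hfree
  exact ⟨free_transfer a (IsScalarTower.toAlgHom A B B').toLinearMap, hfin, hrk⟩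

end Sq

end Groth.Agent.H9.DC
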