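import Mathlib
import Groth.Agent.Lib.Helper9.Misc.DC1c

set_option autoImplicit false
set_option linter.style.haveILetI false
universe u

namespace Groth.Agent.H9.DC

open CategoryTheory CategoryTheory.Limits AlgebraicGeometry TopologicalSpace Opposite

variable {X Y : Scheme.{u}} (f : X ⟶ Y)

theorem fromSpec_comp [IsAffineHom f] (V : Y.Opens) (hV : IsAffineOpen V) :
    (hV.preimage f).fromSpec ≫ f = Spec.map (f.app V) ≫ hV.fromSpec := by
  rw [Scheme.Hom.app_eq_appLE]
  exact (IsAffineOpen.SpecMap_appLE_fromSpec f hV (hV.preimage f) le_rfl).symm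

theorem isPullback_fromSpec [IsAffineHom f] (V : Y.Opens) (hV : IsAffineOpen V) :
    IsPullback (Spec.map (f.app V)) (hV.preimage f).fromSpec hV.fromSpec f :=
  IsOpenImmersion.isPullback _ _ _ _ (fromSpec_comp f V hV)
    (by rw [hV.opensRange_fromSpec, (hV.preimage f).opensRange_fromSpec])

theorem rank_app [IsFinite f] [Flat f] (V : Y.Opens) (hV : IsAffineOpen V)
    (p : PrimeSpectrum Γ(Y, V)) : (f.app V).hom.finrank p = f.finrank (hV.fromSpec p) := by
  have h1 := Scheme.Hom.finrank_of_isPullback _ _ _ _ (isPullback_fromSpec f V hV).flip p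
  have hfl : (f.app V).hom.Flat := by
    rw [Scheme.Hom.app_eq_appLE]
    exact f.flat_appLE hV (hV.preimage f) le_rfl
  rw [Scheme.Hom.finrank_SpecMap_eq_finrank (f.finite_app V hV) hfl] at h1
  exact h1

theorem isPushout_app [IsAffineHom f] {V V' : Y.Opens} (hV : IsAffineOpen V)
    (hV' : IsAffineOpen V') (h : V' ≤ V) :
    IsPushout (Y.presheaf.map (homOfLE h).op) (f.app V) (f.app V')
      (X.presheaf.map (homOfLE (f.preimage_mono h)).op) := by
  have hU := hV.preimage f
  have hU' := hV'.preimage f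
  have right := (isPullback_fromSpec f V hV).flip
  have big : IsPullback (Spec.map (X.presheaf.map (homOfLE (f.preimage_mono h)).op) ≫ hU.fromSpec)
      (Spec.map (f.app V')) f (Spec.map (Y.presheaf.map (homOfLE h).op) ≫ hV.fromSpec) := by
    rw [IsAffineOpen.map_fromSpec hU hU', IsAffineOpen.map_fromSpec hV hV']
    exact (isPullback_fromSpec f V' hV').flip
  have comm : Spec.map (X.presheaf.map (homOfLE (f.preimage_mono h)).op) ≫ Spec.map (f.app V) =
      Spec.map (f.app V') ≫ Spec.map (Y.presheaf.map (homOfLE h).op) := by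
    rw [← Spec.map_comp, ← Spec.map_comp]
    congr 1
    exact (f.naturality (homOfLE h).op).symm
  have left := IsPullback.of_right big comm right
  have po := (isPushout_appTop_of_isPullback left).flip
  exact po.of_iso (Scheme.ΓSpecIso _) (Scheme.ΓSpecIso _) (Scheme.ΓSpecIso _) (Scheme.ΓSpecIso _)
    (Scheme.ΓSpecIso_naturality _) (Scheme.ΓSpecIso_naturality _) (Scheme.ΓSpecIso_naturality _)
    (Scheme.ΓSpecIso_naturality _)

theorem exists_free_nhd [IsFinite f] [Flat f] (hrk : ∀ y : Y, f.finrank y = 2) (y : Y)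
    (W : Y.Opens) (hy : y ∈ W) :
    ∃ V : Y.Opens, IsAffineOpen V ∧ y ∈ V ∧ V ≤ W ∧ IsFree2 (f.app V).hom := by
  obtain ⟨V₀, hV₀, hyV₀, hV₀W⟩ := exists_isAffineOpen_mem_and_subset hy
  obtain ⟨p, rfl⟩ : ∃ p, hV₀.fromSpec p = y := by
    have : y ∈ Set.range hV₀.fromSpec := by rw [hV₀.range_fromSpec]; exact hyV₀
    exact this
  have hfl₀ : (f.app V₀).hom.Flat := by
    rw [Scheme.Hom.app_eq_appLE]
    exact f.flat_appLE hV₀ (hV₀.preimage f) le_rfl
  have hfin₀ : (f.app V₀).hom.Finite := f.finite_app V₀ hV₀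
  have hrk₀ : ∀ q, (f.app V₀).hom.finrank q = 2 := fun q => by rw [rank_app f V₀ hV₀, hrk]
  letI := (f.app V₀).hom.toAlgebra
  haveI : Module.Finite Γ(Y, V₀) Γ(X, f ⁻¹ᵁ V₀) := hfin₀
  haveI : Module.Flat Γ(Y, V₀) Γ(X, f ⁻¹ᵁ V₀) := hfl₀
  haveI : p.asIdeal.IsPrime := p.isPrime
  obtain ⟨a, hap, hfree⟩ := Module.Free.away_of_finite_of_flat_of_rankAtStalk_constant
    (R := Γ(Y, V₀)) Γ(X, f ⁻¹ᵁ V₀) p.asIdeal (fun m _ => (hrk₀ _).trans (hrk₀ _).symm)
  have hle : Y.basicOpen a ≤ V₀ := Y.basicOpen_le a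
  have hV : IsAffineOpen (Y.basicOpen a) := hV₀.basicOpen a
  refine ⟨Y.basicOpen a, hV, ?_, hle.trans hV₀W, ?_⟩
  · have : p ∈ hV₀.fromSpec ⁻¹ᵁ Y.basicOpen a := by
      rw [hV₀.fromSpec_preimage_basicOpen]
      exact hap
    exact this
  · have hpo := isPushout_app f hV₀ hV hle
    refine isFree2_of_away (f.app V₀).hom (f.app (Y.basicOpen a)).hom
      (Y.presheaf.map (homOfLE hle).op).hom (X.presheaf.map (homOfLE (f.preimage_mono hle)).op).hom
      hpo a ?_ (f.finite_app _ hV) (fun q => by rw [rank_app f _ hV, hrk]) hfree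
    exact hV₀.isLocalization_of_eq_basicOpen a (homOfLE hle) rfl

end Groth.Agent.H9.DC
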