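import Mathlib

set_option autoImplicit false
set_option linter.style.haveILetI false
universe u

namespace Groth.Agent.H9.DC

open CategoryTheory CategoryTheory.Limits AlgebraicGeometry TopologicalSpace Opposite

theorem glue_dir {X Z : Scheme.{u}} {I : Type u} (U : I → X.Opens) (hcov : IsOpenCover U)
    (hdir : ∀ i j (x : X), x ∈ U i → x ∈ U j → ∃ k, x ∈ U k ∧ U k ≤ U i ∧ U k ≤ U j)
    (g : ∀ i, (U i : Scheme.{u}) ⟶ Z) (hg : ∀ i j (h : U i ≤ U j), X.homOfLE h ≫ g j = g i) :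
    ∃ σ : X ⟶ Z, ∀ i, (U i).ι ≫ σ = g i := by
  have compat : ∀ i j : I, pullback.fst (U i).ι (U j).ι ≫ g i = pullback.snd (U i).ι (U j).ι ≫ g j := by
    intro i j
    apply Scheme.hom_ext_of_forall
    intro z
    have hc : pullback.fst (U i).ι (U j).ι ≫ (U i).ι = pullback.snd (U i).ι (U j).ι ≫ (U j).ι :=
      pullback.condition
    have hxi : (pullback.fst (U i).ι (U j).ι ≫ (U i).ι) z ∈ U i := by
      rw [Scheme.Hom.comp_apply]
      exact (pullback.fst (U i).ι (U j).ι z).2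
    have hxj : (pullback.fst (U i).ι (U j).ι ≫ (U i).ι) z ∈ U j := by
      rw [hc, Scheme.Hom.comp_apply]
      exact (pullback.snd (U i).ι (U j).ι z).2
    obtain ⟨k, hxk, hki, hkj⟩ := hdir i j _ hxi hxj
    refine ⟨(pullback.fst (U i).ι (U j).ι ≫ (U i).ι) ⁻¹ᵁ U k, hxk, ?_⟩
    set W := (pullback.fst (U i).ι (U j).ι ≫ (U i).ι) ⁻¹ᵁ U k with hW
    have hr : Set.range (W.ι ≫ pullback.fst (U i).ι (U j).ι ≫ (U i).ι) ⊆ Set.range (U k).ι := by
      rintro _ ⟨w, rfl⟩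
      rw [Scheme.Opens.range_ι]
      rw [Scheme.Hom.comp_apply]
      exact w.2
    let m : (W : Scheme.{u}) ⟶ (U k : Scheme.{u}) :=
      IsOpenImmersion.lift (U k).ι (W.ι ≫ pullback.fst (U i).ι (U j).ι ≫ (U i).ι) hr
    have hm : m ≫ (U k).ι = W.ι ≫ pullback.fst (U i).ι (U j).ι ≫ (U i).ι :=
      IsOpenImmersion.lift_fac _ _ _
    have h1 : W.ι ≫ pullback.fst (U i).ι (U j).ι = m ≫ X.homOfLE hki := by
      rw [← cancel_mono (U i).ι, Category.assoc, Category.assoc, X.homOfLE_ι, hm]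
    have h2 : W.ι ≫ pullback.snd (U i).ι (U j).ι = m ≫ X.homOfLE hkj := by
      rw [← cancel_mono (U j).ι, Category.assoc, Category.assoc, X.homOfLE_ι, hm, hc]
    rw [← Category.assoc, h1, ← Category.assoc, h2, Category.assoc, Category.assoc, hg, hg]
  exact ⟨(X.openCoverOfIsOpenCover U hcov).glueMorphisms g compat,
    fun i => (X.openCoverOfIsOpenCover U hcov).ι_glueMorphisms g compat i⟩

theorem glue_affine {X : Scheme.{u}} {I : Type u} (U : I → X.Opens) (hU : ∀ i, IsAffineOpen (U i))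
    (hcov : IsOpenCover U)
    (hdir : ∀ i j (x : X), x ∈ U i → x ∈ U j → ∃ k, x ∈ U k ∧ U k ≤ U i ∧ U k ≤ U j)
    (s : ∀ i, Γ(X, U i) ⟶ Γ(X, U i))
    (hs : ∀ i j (h : U i ≤ U j), s j ≫ X.presheaf.map (homOfLE h).op =
      X.presheaf.map (homOfLE h).op ≫ s i) :
    ∃ σ : X ⟶ X, ∀ i, (hU i).fromSpec ≫ σ = Spec.map (s i) ≫ (hU i).fromSpec := by
  obtain ⟨σ, hσ⟩ := glue_dir U hcov hdir
    (fun i => (hU i).isoSpec.hom ≫ Spec.map (s i) ≫ (hU i).fromSpec) (by
      intro i j h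
      have hnat : X.homOfLE h ≫ (hU j).isoSpec.hom =
          (hU i).isoSpec.hom ≫ Spec.map (X.presheaf.map (homOfLE h).op) := by
        rw [← cancel_mono (hU j).fromSpec, Category.assoc, Category.assoc,
          IsAffineOpen.isoSpec_hom_fromSpec, X.homOfLE_ι,
          IsAffineOpen.map_fromSpec (hU j) (hU i), IsAffineOpen.isoSpec_hom_fromSpec]
      rw [← Category.assoc, hnat, Category.assoc, ← Category.assoc (Spec.map _), ← Spec.map_comp,
        hs i j h, Spec.map_comp, Category.assoc, IsAffineOpen.map_fromSpec (hU j) (hU i)])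
  refine ⟨σ, fun i => ?_⟩
  rw [← cancel_epi (hU i).isoSpec.hom, IsAffineOpen.isoSpec_hom_fromSpec_assoc]
  exact hσ i

end Groth.Agent.H9.DC
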