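import Mathlib
import Groth.Prelude.Def_SGA1
import Groth.Agent.H4.QuotKit
import Groth.Agent.Lib.Helper9.Misc.DC2a
import Groth.Agent.Lib.Helper9.Misc.DC2b

set_option autoImplicit false
set_option linter.style.haveILetI false
universe u

namespace Groth.Agent.H9.DC

open CategoryTheory CategoryTheory.Limits AlgebraicGeometry TopologicalSpace Opposite

theorem fixes_of_mem_zpowers {X Y : Scheme.{u}} (f : X ⟶ Y) (σ : Aut X) (hσ : σ.hom ≫ f = f)
    (g : Aut X) (hg : g ∈ Subgroup.zpowers σ) : g.hom ≫ f = f := by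
  let H : Subgroup (Aut X) :=
    { carrier := {τ | τ.hom ≫ f = f}
      mul_mem' := by
        intro a b ha hb
        change (a * b).hom ≫ f = f
        rw [Aut.Aut_mul_def]
        change (b.hom ≫ a.hom) ≫ f = f
        rw [Category.assoc, ha, hb]
      one_mem' := by
        change (𝟙 X) ≫ f = f
        exact Category.id_comp f
      inv_mem' := by
        intro a ha
        change a.inv ≫ f = f
        rw [← cancel_epi a.hom, Iso.hom_inv_id_assoc]
        exact ha.symm }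
  have hle : Subgroup.zpowers σ ≤ H := (Subgroup.zpowers_le).mpr hσ
  exact hle hg

theorem main {X Y : Scheme.{u}} (f : X ⟶ Y) [IsFinite f] [Flat f]
    (hrk : ∀ y : Y, f.finrank y = 2) (h2 : IsUnit (2 : Γ(Y, ⊤))) :
    ∃ σ : Aut X, σ.hom ≫ f = f ∧ σ * σ = 1 ∧ SGA1.IsQuot (Subgroup.zpowers σ).subtype f := by
  have hsurj : Surjective f := (Scheme.Hom.one_le_finrank_iff_surjective f).mp
    (fun y => by rw [hrk]; norm_num)
  let I : Type u := {V : Y.Opens // IsAffineOpen V ∧ IsFree2 (f.app V).hom}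
  let U : I → X.Opens := fun i => f ⁻¹ᵁ i.1
  have hU : ∀ i, IsAffineOpen (U i) := fun i => i.2.1.preimage f
  have hcov : IsOpenCover U := by
    refine TopologicalSpace.Opens.ext ?_
    refine Set.eq_univ_of_forall fun x => ?_
    obtain ⟨V, hV, hxV, -, hfree⟩ := exists_free_nhd f hrk (f x) ⊤ trivial
    exact TopologicalSpace.Opens.mem_iSup.mpr ⟨⟨V, hV, hfree⟩, hxV⟩
  have hdir : ∀ i j (x : X), x ∈ U i → x ∈ U j → ∃ k, x ∈ U k ∧ U k ≤ U i ∧ U k ≤ U j := by
    intro i j x hxi hxj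
    obtain ⟨V, hV, hxV, hle, hfree⟩ := exists_free_nhd f hrk (f x) (i.1 ⊓ j.1) ⟨hxi, hxj⟩
    exact ⟨⟨V, hV, hfree⟩, hxV, f.preimage_mono (hle.trans inf_le_left),
      f.preimage_mono (hle.trans inf_le_right)⟩
  let s : ∀ i : I, Γ(X, U i) ⟶ Γ(X, U i) := fun i => CommRingCat.ofHom (sig (f.app i.1).hom)
  have hmono : ∀ i j : I, U i ≤ U j → i.1 ≤ j.1 := by
    intro i j h y hy
    obtain ⟨x, rfl⟩ := f.surjective y
    exact h hy
  have hs : ∀ i j (h : U i ≤ U j), s j ≫ X.presheaf.map (homOfLE h).op =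
      X.presheaf.map (homOfLE h).op ≫ s i := by
    intro i j h
    have h' := hmono i j h
    have hpo := isPushout_app f j.2.1 i.2.1 h'
    ext x
    exact (sig_bc (f.app j.1).hom (f.app i.1).hom (Y.presheaf.map (homOfLE h').op).hom
      (X.presheaf.map (homOfLE (f.preimage_mono h')).op).hom hpo j.2.2 i.2.2 x).symm
  obtain ⟨σ₀, hσ₀⟩ := glue_affine U hU hcov hdir s hs
  have hext : ∀ {Z : Scheme.{u}} (a b : X ⟶ Z),
      (∀ i, (hU i).fromSpec ≫ a = (hU i).fromSpec ≫ b) → a = b := by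
    intro Z a b h
    apply (X.openCoverOfIsOpenCover U hcov).hom_ext
    intro i
    change (U i).ι ≫ a = (U i).ι ≫ b
    rw [← IsAffineOpen.isoSpec_hom_fromSpec (hU i), Category.assoc, Category.assoc, h i]
  have hss : ∀ i, s i ≫ s i = 𝟙 _ := by
    intro i
    ext x
    exact sig_sig i.2.2 x
  have hsf : ∀ i : I, f.app i.1 ≫ s i = f.app i.1 := by
    intro i
    ext a
    exact sig_comp i.2.2 a
  have hσf : σ₀ ≫ f = f := by
    apply hext
    intro i
    rw [← Category.assoc, hσ₀ i, Category.assoc, fromSpec_comp f i.1 i.2.1, ← Category.assoc,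
      ← Spec.map_comp, hsf i]
  have hσσ : σ₀ ≫ σ₀ = 𝟙 X := by
    apply hext
    intro i
    rw [← Category.assoc, hσ₀ i, Category.assoc, hσ₀ i, ← Category.assoc, ← Spec.map_comp, hss i,
      Spec.map_id, Category.id_comp, Category.comp_id]
  let σ : Aut X := ⟨σ₀, σ₀, hσσ, hσσ⟩
  have hσ2 : σ * σ = 1 := by
    rw [Aut.Aut_mul_def]
    ext1
    exact hσσ
  refine ⟨σ, hσf, hσ2, ?_⟩
  have hinv : ∀ g : Subgroup.zpowers σ, ((Subgroup.zpowers σ).subtype g).hom ≫ f = f :=
    fun g => fixes_of_mem_zpowers f σ hσf g.1 g.2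
  haveI : Finite (Subgroup.zpowers σ) := by
    have hfo : IsOfFinOrder σ := isOfFinOrder_iff_pow_eq_one.mpr ⟨2, two_pos, by rw [pow_two]; exact hσ2⟩
    exact hfo.finite_zpowers.to_subtype
  refine Groth.Agent.H4.QuotKit.isQuot_of_affine_cover (Subgroup.zpowers σ).subtype f hinv
    (fun i : I => i.1) ?_ (fun i => i.2.1) ?_
  · refine TopologicalSpace.Opens.ext ?_
    refine Set.eq_univ_of_forall fun y => ?_
    obtain ⟨V, hV, hyV, -, hfree⟩ := exists_free_nhd f hrk y ⊤ trivial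
    exact TopologicalSpace.Opens.mem_iSup.mpr ⟨⟨V, hV, hfree⟩, hyV⟩
  · intro i
    refine ⟨i.2.2.injective, fun t ht => ?_⟩
    have h1 := ht ⟨σ, Subgroup.mem_zpowers σ⟩
    have hlink : Groth.Agent.H2.Quot.sig (Subgroup.zpowers σ).subtype f hinv i.1
        ⟨σ, Subgroup.mem_zpowers σ⟩ = s i := by
      unfold Groth.Agent.H2.Quot.sig
      apply Spec.map_injective
      rw [← cancel_mono (hU i).fromSpec]
      rw [IsAffineOpen.SpecMap_appLE_fromSpec]
      exact hσ₀ i
    rw [hlink] at h1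
    have h2' : IsUnit (2 : Γ(Y, i.1)) := by
      have := h2.map (Y.presheaf.map (homOfLE (le_top : i.1 ≤ ⊤)).op).hom
      rwa [map_ofNat] at this
    exact sig_fixed i.2.2 h2' t h1

end Groth.Agent.H9.DC
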