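import Mathlib

/-! `Spec` of the map `B[ε] → B[α,β]/(α²,β²)`, `ε ↦ αβ`, is an epimorphism of schemes. -/

universe u
set_option autoImplicit false
set_option linter.style.haveILetI false
set_option linter.unusedSectionVars false
set_option linter.unusedVariables false
open CategoryTheory CategoryTheory.Limits AlgebraicGeometry

namespace Groth.Agent.H9.DDN

variable (B : Type u) [CommRing B]
    (ψ : DualNumber B →+* DualNumber (DualNumber B))
    (hψB : ∀ b : B, ψ (algebraMap B (DualNumber B) b) = algebraMap B (DualNumber (DualNumber B)) b)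
    (hψ : ψ DualNumber.eps =
      algebraMap (DualNumber B) (DualNumber (DualNumber B)) DualNumber.eps * DualNumber.eps)

include hψB hψ in
theorem psi_apply (x : DualNumber B) :
    ψ x = TrivSqZeroExt.inl (TrivSqZeroExt.inl x.fst) + TrivSqZeroExt.inr (TrivSqZeroExt.inr x.snd) := by
  have hx : x = algebraMap B (DualNumber B) x.fst +
      algebraMap B (DualNumber B) x.snd * DualNumber.eps := by
    apply TrivSqZeroExt.ext
    · simp [TrivSqZeroExt.algebraMap_eq_inl']
    · simp [TrivSqZeroExt.algebraMap_eq_inl']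
  conv_lhs => rw [hx]
  rw [map_add, map_mul, hψB, hψB, hψ]
  apply TrivSqZeroExt.ext
  · apply TrivSqZeroExt.ext
    · simp [TrivSqZeroExt.algebraMap_eq_inl']
    · simp [TrivSqZeroExt.algebraMap_eq_inl']
  · apply TrivSqZeroExt.ext
    · simp [TrivSqZeroExt.algebraMap_eq_inl']
    · simp [TrivSqZeroExt.algebraMap_eq_inl']

include hψB hψ in
theorem psi_injective : Function.Injective ψ := by
  intro x y hxy
  rw [psi_apply B ψ hψB hψ x, psi_apply B ψ hψB hψ y] at hxy
  have h1 := congrArg (fun t => (TrivSqZeroExt.fst t).fst) hxy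
  have h2 := congrArg (fun t => (TrivSqZeroExt.snd t).snd) hxy
  simp only [TrivSqZeroExt.fst_add, TrivSqZeroExt.fst_inl, TrivSqZeroExt.fst_inr, add_zero,
    TrivSqZeroExt.snd_add, TrivSqZeroExt.snd_inl, TrivSqZeroExt.snd_inr, zero_add] at h1 h2
  exact TrivSqZeroExt.ext h1 h2

/-- the two augmentations -/
noncomputable def pi1 : DualNumber B →+* B := (TrivSqZeroExt.fstHom B B B).toRingHom

noncomputable def pi2 : DualNumber (DualNumber B) →+* B :=
  (pi1 B).comp (TrivSqZeroExt.fstHom (DualNumber B) (DualNumber B) (DualNumber B)).toRingHom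

include hψB hψ in
theorem pi2_comp_psi : (pi2 B).comp ψ = pi1 B := by
  apply RingHom.ext
  intro x
  rw [RingHom.comp_apply, psi_apply B ψ hψB hψ x]
  simp [pi2, pi1]

theorem pi1_surjective : Function.Surjective (pi1 B) := fun b => ⟨TrivSqZeroExt.inl b, by simp [pi1]⟩

theorem ker_pi1_le (q : Ideal (DualNumber B)) [hq : q.IsPrime] : RingHom.ker (pi1 B) ≤ q := by
  intro x hx
  have hx0 : x.fst = 0 := by simpa [pi1] using hx
  have hsq : x * x = 0 := by
    apply TrivSqZeroExt.ext
    · simp [hx0]
    · simp [hx0]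
  have : x * x ∈ q := by
    rw [hsq]
    exact q.zero_mem
  rcases hq.mem_or_mem this with h | h <;> exact h

include hψB hψ in
theorem comap_surjective (q : Ideal (DualNumber B)) [q.IsPrime] :
    ∃ Q : Ideal (DualNumber (DualNumber B)), Q.IsPrime ∧ Ideal.comap ψ Q = q := by
  have hker := ker_pi1_le B q
  haveI hp : (Ideal.map (pi1 B) q).IsPrime :=
    Ideal.map_isPrime_of_surjective (pi1_surjective B) hker
  refine ⟨Ideal.comap (pi2 B) (Ideal.map (pi1 B) q), Ideal.comap_isPrime _ _, ?_⟩
  rw [Ideal.comap_comap, pi2_comp_psi B ψ hψB hψ,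
    Ideal.comap_map_of_surjective (pi1 B) (pi1_surjective B), ← RingHom.ker_eq_comap_bot,
    sup_eq_left.mpr hker]

include hψB hψ in
theorem main (G : Scheme.{u}) :
    Function.Injective (fun u : Spec (CommRingCat.of (DualNumber B)) ⟶ G =>
      Spec.map (CommRingCat.ofHom (R := DualNumber B) (S := DualNumber (DualNumber B)) ψ) ≫ u) := by
  intro u₁ u₂ h
  have h' : Spec.map (CommRingCat.ofHom (R := DualNumber B) (S := DualNumber (DualNumber B)) ψ) ≫ u₁ =
      Spec.map (CommRingCat.ofHom (R := DualNumber B) (S := DualNumber (DualNumber B)) ψ) ≫ u₂ := h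
  set φ := Spec.map (CommRingCat.ofHom (R := DualNumber B) (S := DualNumber (DualNumber B)) ψ) with hφ
  set ι := equalizer.ι u₁ u₂ with hι
  set l := equalizer.lift φ h' with hl
  have hlι : l ≫ ι = φ := equalizer.lift_ι φ h'
  have hφsurj : Function.Surjective φ := by
    intro x
    haveI := x.2
    obtain ⟨Q, hQ, hQx⟩ := comap_surjective B ψ hψB hψ x.asIdeal
    refine ⟨⟨Q, hQ⟩, ?_⟩
    apply PrimeSpectrum.ext
    exact hQx
  have hsurj : Function.Surjective ι := by
    intro x
    obtain ⟨y, hy⟩ := hφsurj x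
    refine ⟨l y, ?_⟩
    rw [← hy, ← hlι]
    rfl
  haveI : IsClosedImmersion ι := by
    rw [IsClosedImmersion.iff_isPreimmersion]
    refine ⟨inferInstance, ?_⟩
    rw [Set.range_eq_univ.mpr hsurj]
    exact isClosed_univ
  have hφinj : Function.Injective φ.appTop := by
    have hnat := Scheme.ΓSpecIso_naturality
      (CommRingCat.ofHom (R := DualNumber B) (S := DualNumber (DualNumber B)) ψ)
    have e : φ.appTop = (Scheme.ΓSpecIso (CommRingCat.of (DualNumber B))).hom ≫
        CommRingCat.ofHom (R := DualNumber B) (S := DualNumber (DualNumber B)) ψ ≫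
        (Scheme.ΓSpecIso (CommRingCat.of (DualNumber (DualNumber B)))).inv := by
      rw [← Category.assoc, ← hnat, Category.assoc, Iso.hom_inv_id, Category.comp_id]
    rw [e]
    simp only [CommRingCat.hom_comp, RingHom.coe_comp]
    exact (ConcreteCategory.bijective_of_isIso
      (Scheme.ΓSpecIso (CommRingCat.of (DualNumber (DualNumber B)))).inv).1.comp
      ((psi_injective B ψ hψB hψ).comp (ConcreteCategory.bijective_of_isIso
      (Scheme.ΓSpecIso (CommRingCat.of (DualNumber B))).hom).1)
  have hinj : Function.Injective ι.appTop := by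
    intro a b hab
    apply hφinj
    have e2 : φ.appTop = ι.appTop ≫ l.appTop := by
      rw [← hlι, Scheme.Hom.comp_appTop]
    rw [e2]
    simp only [CommRingCat.comp_apply]
    rw [hab]
  haveI : IsIso ι := IsClosedImmersion.isIso_of_injective_of_isAffine hinj
  exact (cancel_epi ι).mp (equalizer.condition u₁ u₂)

end Groth.Agent.H9.DDN
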