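import Mathlib

/-! Helper9: preimage of N** in M lies in the saturation of N. -/

namespace Groth.Agent.H9.DDSat

universe u

theorem main (A : Type u) [CommRing A] [IsDomain A] [IsNoetherianRing A]
    (M : Type u) [AddCommGroup M] [Module A M] [Module.Finite A M] (N : Submodule A M) :
    (LinearMap.range N.subtype.dualMap.dualMap).comap (Module.Dual.eval A M) ≤
      (Submodule.torsion A (M ⧸ N)).comap N.mkQ := by
  intro m hm
  obtain ⟨φ, hφ⟩ := hm
  simp only [Submodule.mem_comap]
  by_contra hnt
  let K := FractionRing A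
  let P := M ⧸ N
  let loc := LocalizedModule.mkLinearMap (nonZeroDivisors A) P
  have hv : loc (N.mkQ m) ≠ 0 := by
    intro h0
    obtain ⟨s, hs⟩ := (IsLocalizedModule.eq_zero_iff (nonZeroDivisors A) loc).1 h0
    exact hnt ((Submodule.mem_torsion_iff _).2 ⟨s, hs⟩)
  obtain ⟨lam, hlam⟩ := Module.Projective.exists_dual_ne_zero K hv
  let g : P →ₗ[A] K := (lam.restrictScalars A) ∘ₗ loc
  have : Module.FinitePresentation A P := Module.finitePresentation_of_finite A P
  obtain ⟨h, s, hs⟩ := Module.FinitePresentation.exists_lift_of_isLocalizedModule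
    (nonZeroDivisors A) (Algebra.linearMap A K) g
  have h1 : algebraMap A K (h (N.mkQ m)) = s • lam (loc (N.mkQ m)) := by
    have := LinearMap.congr_fun hs (N.mkQ m)
    simpa [g] using this
  have h2 : h (N.mkQ m) ≠ 0 := by
    intro h0
    rw [h0, map_zero] at h1
    have hs0 : (s : A) ≠ 0 := nonZeroDivisors.ne_zero s.2
    have : (s • lam (loc (N.mkQ m)) : K) = algebraMap A K s * lam (loc (N.mkQ m)) := by
      rw [Submonoid.smul_def, Algebra.smul_def]
    rw [this] at h1
    rcases mul_eq_zero.1 h1.symm with h3 | h3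
    · exact hs0 ((map_eq_zero_iff _ (IsFractionRing.injective A K)).1 h3)
    · exact hlam h3
  have h3 : Module.Dual.eval A M m (h ∘ₗ N.mkQ) = 0 := by
    rw [← hφ]
    simp only [LinearMap.dualMap_apply]
    have : N.subtype.dualMap (h ∘ₗ N.mkQ) = 0 := by
      ext x
      have hx : N.mkQ (x : M) = 0 := (Submodule.Quotient.mk_eq_zero N).2 x.2
      simp [hx]
    rw [this, map_zero]
  exact h2 h3

end Groth.Agent.H9.DDSat
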