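import Mathlib
import Groth.Agent.Lib.Helper9.Misc.DES1

/-!
# Forms of a Hopf algebra along a faithfully flat ring map (helper9)

If `A ⊆ B` is an `R`-form of the `S`-Hopf algebra `B` (i.e. `S ⊗ A ≅ B`) which is stable under the
structure maps, then `A` is an `R`-Hopf algebra and `S ⊗ A ≅ B` as bialgebras.
-/

set_option autoImplicit false
set_option linter.unusedSectionVars false
set_option linter.unusedVariables false

namespace Groth.Agent.H9.DES

open TensorProduct

universe u

section CMap

variable (R : Type u) (S : Type u) [CommRing R] [CommRing S] [Algebra R S]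
  {X : Type u} {Y : Type u} [AddCommGroup X] [Module R X] [AddCommGroup Y] [Module R Y]
  {X' : Type u} {Y' : Type u} [AddCommGroup X'] [Module R X'] [Module S X'] [IsScalarTower R S X']
  [AddCommGroup Y'] [Module R Y'] [Module S Y'] [IsScalarTower R S Y']

/-- `X ⊗[R] Y → X' ⊗[S] Y'`, `x ⊗ y ↦ f x ⊗ g y`. -/
noncomputable def cmap (f : X →ₗ[R] X') (g : Y →ₗ[R] Y') : X ⊗[R] Y →ₗ[R] X' ⊗[S] Y' :=
  TensorProduct.lift (((TensorProduct.mk S X' Y').restrictScalars₁₂ R R).compl₁₂ f g)

theorem cmap_tmul (f : X →ₗ[R] X') (g : Y →ₗ[R] Y') (x : X) (y : Y) :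
    cmap R S f g (x ⊗ₜ[R] y) = f x ⊗ₜ[S] g y := rfl

theorem liftBaseChange_cmap_apply (f : X →ₗ[R] X') (g : Y →ₗ[R] Y')
    (hf : Function.Bijective (f.liftBaseChange S)) (hg : Function.Bijective (g.liftBaseChange S))
    (w : S ⊗[R] (X ⊗[R] Y)) :
    (cmap R S f g).liftBaseChange S w =
      TensorProduct.congr (LinearEquiv.ofBijective (f.liftBaseChange S) hf)
        (LinearEquiv.ofBijective (g.liftBaseChange S) hg)
        (TensorProduct.AlgebraTensorModule.distribBaseChange R S X Y w) := by
  induction w using TensorProduct.induction_on with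
  | zero => rw [map_zero, map_zero, map_zero]
  | add a b ha hb => rw [map_add, map_add, map_add, ha, hb]
  | tmul s z =>
    induction z using TensorProduct.induction_on with
    | zero => rw [TensorProduct.tmul_zero, map_zero, map_zero, map_zero]
    | add a b ha hb => rw [TensorProduct.tmul_add, map_add, map_add, map_add, ha, hb]
    | tmul x y =>
      rw [LinearMap.liftBaseChange_tmul, cmap_tmul,
        TensorProduct.AlgebraTensorModule.distribBaseChange_tmul, TensorProduct.congr_tmul]
      show _ = (f.liftBaseChange S (s ⊗ₜ[R] x)) ⊗ₜ[S] (g.liftBaseChange S ((1 : S) ⊗ₜ[R] y))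
      rw [LinearMap.liftBaseChange_tmul, LinearMap.liftBaseChange_tmul, one_smul,
        TensorProduct.smul_tmul']

theorem liftBaseChange_cmap_bijective (f : X →ₗ[R] X') (g : Y →ₗ[R] Y')
    (hf : Function.Bijective (f.liftBaseChange S)) (hg : Function.Bijective (g.liftBaseChange S)) :
    Function.Bijective ((cmap R S f g).liftBaseChange S) := by
  have h : ((cmap R S f g).liftBaseChange S : S ⊗[R] (X ⊗[R] Y) → X' ⊗[S] Y') =
      (TensorProduct.congr (LinearEquiv.ofBijective (f.liftBaseChange S) hf)
        (LinearEquiv.ofBijective (g.liftBaseChange S) hg)) ∘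
      (TensorProduct.AlgebraTensorModule.distribBaseChange R S X Y) := by
    funext w
    exact liftBaseChange_cmap_apply R S f g hf hg w
  rw [h]
  exact (LinearEquiv.bijective _).comp (LinearEquiv.bijective _)

theorem injective_of_liftBaseChange_bijective [Module.FaithfullyFlat R S] (f : X →ₗ[R] X')
    (hf : Function.Bijective (f.liftBaseChange S)) : Function.Injective f := by
  intro a b hab
  apply eta_injective R S X
  apply hf.1
  rw [eta_apply, eta_apply, LinearMap.liftBaseChange_tmul, LinearMap.liftBaseChange_tmul, one_smul,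
    one_smul]
  exact hab

theorem cmap_injective [Module.FaithfullyFlat R S] (f : X →ₗ[R] X') (g : Y →ₗ[R] Y')
    (hf : Function.Bijective (f.liftBaseChange S)) (hg : Function.Bijective (g.liftBaseChange S)) :
    Function.Injective (cmap R S f g) :=
  injective_of_liftBaseChange_bijective R S _ (liftBaseChange_cmap_bijective R S f g hf hg)

end CMap

section Factor

/-- factor an algebra map through an injective algebra map -/
theorem exists_algHom_factor {R : Type*} {X Y Z : Type*} [CommSemiring R] [Semiring X] [Semiring Y]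
    [Semiring Z] [Algebra R X] [Algebra R Y] [Algebra R Z] (j : X →ₐ[R] Y)
    (hj : Function.Injective j) (h : Z →ₐ[R] Y) (hr : ∀ z, ∃ x, j x = h z) :
    ∃ g : Z →ₐ[R] X, ∀ z, j (g z) = h z := by
  choose g hg using hr
  refine ⟨{ toFun := g
            map_one' := hj (by rw [hg, map_one, map_one])
            map_mul' := fun a b => hj (by rw [hg, map_mul, map_mul, hg, hg])
            map_zero' := hj (by rw [hg, map_zero, map_zero])
            map_add' := fun a b => hj (by rw [hg, map_add, map_add, hg, hg])
            commutes' := fun r => hj (by rw [hg, AlgHom.commutes, AlgHom.commutes]) }, hg⟩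

end Factor

section Form

variable (R : Type u) (S : Type u) [CommRing R] [CommRing S] [Algebra R S]
  (B : Type u) [CommRing B] [HopfAlgebra S B] [Algebra R B] [IsScalarTower R S B]
  (A : Type u) [CommRing A] [Algebra R A] (ι : A →ₐ[R] B)

/-- `A ⊗[R] A → B ⊗[S] B` as an algebra map -/
noncomputable def jj : A ⊗[R] A →ₐ[R] B ⊗[S] B :=
  Algebra.TensorProduct.lift
    (((Algebra.TensorProduct.includeLeft : B →ₐ[S] B ⊗[S] B).restrictScalars R).comp ι)
    (((Algebra.TensorProduct.includeRight : B →ₐ[S] B ⊗[S] B).restrictScalars R).comp ι)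
    (fun a a' => Commute.all _ _)

theorem jj_tmul (a a' : A) : jj R S B A ι (a ⊗ₜ[R] a') = ι a ⊗ₜ[S] ι a' := by
  rw [jj, Algebra.TensorProduct.lift_tmul]
  show (ι a ⊗ₜ[S] (1 : B)) * ((1 : B) ⊗ₜ[S] ι a') = _
  rw [Algebra.TensorProduct.tmul_mul_tmul, mul_one, one_mul]

theorem jj_eq_cmap (y : A ⊗[R] A) :
    jj R S B A ι y = cmap R S ι.toLinearMap ι.toLinearMap y := by
  induction y using TensorProduct.induction_on with
  | zero => rw [map_zero, map_zero]
  | add a b ha hb => rw [map_add, map_add, ha, hb]
  | tmul a a' => rw [jj_tmul, cmap_tmul]; rfl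

/-- `A ⊗ (A ⊗ A) → B ⊗ (B ⊗ B)` -/
noncomputable def jjj : A ⊗[R] (A ⊗[R] A) →ₗ[R] B ⊗[S] (B ⊗[S] B) :=
  cmap R S ι.toLinearMap (cmap R S ι.toLinearMap ι.toLinearMap)

theorem jjj_tmul (a : A) (y : A ⊗[R] A) :
    jjj R S B A ι (a ⊗ₜ[R] y) = ι a ⊗ₜ[S] jj R S B A ι y := by
  rw [jjj, cmap_tmul, jj_eq_cmap]
  rfl

/-- `A` (with `ι : A → B`) is an `R`-form of the `S`-Hopf algebra `B`, stable under the structure. -/
structure IsForm : Prop where
  bij : Function.Bijective (ι.toLinearMap.liftBaseChange S)
  comul : ∀ a, ∃ y : A ⊗[R] A, jj R S B A ι y = Coalgebra.comul (R := S) (ι a)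
  counit : ∀ a, ∃ r : R, algebraMap R S r = Coalgebra.counit (R := S) (ι a)
  antipode : ∀ a, ∃ a' : A, ι a' = HopfAlgebra.antipode S (ι a)

variable [Module.FaithfullyFlat R S]

variable {R S B A ι}

theorem IsForm.injective (h : IsForm R S B A ι) : Function.Injective ι :=
  injective_of_liftBaseChange_bijective R S ι.toLinearMap h.bij

theorem IsForm.jj_injective (h : IsForm R S B A ι) : Function.Injective (jj R S B A ι) := by
  have := cmap_injective R S ι.toLinearMap ι.toLinearMap h.bij h.bij
  intro a b hab
  apply this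
  rw [← jj_eq_cmap, ← jj_eq_cmap, hab]

theorem IsForm.jjj_injective (h : IsForm R S B A ι) : Function.Injective (jjj R S B A ι) :=
  cmap_injective R S ι.toLinearMap _ h.bij
    (liftBaseChange_cmap_bijective R S ι.toLinearMap ι.toLinearMap h.bij h.bij)

theorem IsForm.exists_comul (h : IsForm R S B A ι) :
    ∃ g : A →ₐ[R] A ⊗[R] A, ∀ a, jj R S B A ι (g a) = Coalgebra.comul (R := S) (ι a) :=
  exists_algHom_factor (jj R S B A ι) h.jj_injective
    (((Bialgebra.comulAlgHom S B).restrictScalars R).comp ι) h.comul

theorem IsForm.exists_counit (h : IsForm R S B A ι) :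
    ∃ g : A →ₐ[R] R, ∀ a, algebraMap R S (g a) = Coalgebra.counit (R := S) (ι a) :=
  exists_algHom_factor (Algebra.ofId R S) (FaithfulSMul.algebraMap_injective R S)
    (((Bialgebra.counitAlgHom S B).restrictScalars R).comp ι) h.counit

theorem IsForm.exists_antipode (h : IsForm R S B A ι) :
    ∃ g : A →ₐ[R] A, ∀ a, ι (g a) = HopfAlgebra.antipode S (ι a) :=
  exists_algHom_factor ι h.injective
    (((HopfAlgebra.antipodeAlgHom S B).restrictScalars R).comp ι) h.antipode

/-- comultiplication of the form -/
noncomputable def IsForm.comulA (h : IsForm R S B A ι) : A →ₐ[R] A ⊗[R] A :=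
  Classical.choose h.exists_comul

theorem IsForm.jj_comulA (h : IsForm R S B A ι) (a : A) :
    jj R S B A ι (h.comulA a) = Coalgebra.comul (R := S) (ι a) :=
  Classical.choose_spec h.exists_comul a

/-- counit of the form -/
noncomputable def IsForm.counitA (h : IsForm R S B A ι) : A →ₐ[R] R :=
  Classical.choose h.exists_counit

theorem IsForm.algebraMap_counitA (h : IsForm R S B A ι) (a : A) :
    algebraMap R S (h.counitA a) = Coalgebra.counit (R := S) (ι a) :=
  Classical.choose_spec h.exists_counit a

/-- antipode of the form -/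
noncomputable def IsForm.antipodeA (h : IsForm R S B A ι) : A →ₐ[R] A :=
  Classical.choose h.exists_antipode

theorem IsForm.ι_antipodeA (h : IsForm R S B A ι) (a : A) :
    ι (h.antipodeA a) = HopfAlgebra.antipode S (ι a) :=
  Classical.choose_spec h.exists_antipode a

theorem IsForm.jjj_lTensor (h : IsForm R S B A ι) (y : A ⊗[R] A) :
    jjj R S B A ι (Algebra.TensorProduct.map (AlgHom.id R A) h.comulA y) =
      (Coalgebra.comul (R := S) (A := B)).lTensor B (jj R S B A ι y) := by
  induction y using TensorProduct.induction_on with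
  | zero => rw [map_zero, map_zero, map_zero, map_zero]
  | add a b ha hb => rw [map_add, map_add, ha, hb, map_add, map_add]
  | tmul a a' =>
    rw [Algebra.TensorProduct.map_tmul, AlgHom.id_apply, jjj_tmul, h.jj_comulA, jj_tmul,
      LinearMap.lTensor_tmul]

theorem IsForm.jjj_assoc_tmul (h : IsForm R S B A ι) (z : A ⊗[R] A) (a' : A) :
    jjj R S B A ι (Algebra.TensorProduct.assoc R R R A A A (z ⊗ₜ[R] a')) =
      TensorProduct.assoc S B B B (jj R S B A ι z ⊗ₜ[S] ι a') := by
  induction z using TensorProduct.induction_on with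
  | zero => rw [TensorProduct.zero_tmul, map_zero, map_zero, map_zero, TensorProduct.zero_tmul,
      map_zero]
  | add a b ha hb => rw [TensorProduct.add_tmul, map_add, map_add, ha, hb, map_add,
      TensorProduct.add_tmul, map_add]
  | tmul b b' =>
    rw [Algebra.TensorProduct.assoc_tmul, jjj_tmul, jj_tmul, jj_tmul, TensorProduct.assoc_tmul]

theorem IsForm.jjj_rTensor (h : IsForm R S B A ι) (y : A ⊗[R] A) :
    jjj R S B A ι (Algebra.TensorProduct.assoc R R R A A A
        (Algebra.TensorProduct.map h.comulA (AlgHom.id R A) y)) =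
      TensorProduct.assoc S B B B
        ((Coalgebra.comul (R := S) (A := B)).rTensor B (jj R S B A ι y)) := by
  induction y using TensorProduct.induction_on with
  | zero => rw [map_zero, map_zero, map_zero, map_zero, map_zero, map_zero]
  | add a b ha hb => rw [map_add, map_add, map_add, ha, hb, map_add, map_add, map_add]
  | tmul a a' =>
    rw [Algebra.TensorProduct.map_tmul, AlgHom.id_apply, h.jjj_assoc_tmul, h.jj_comulA, jj_tmul,
      LinearMap.rTensor_tmul]

theorem IsForm.coassoc (h : IsForm R S B A ι) :
    (Algebra.TensorProduct.assoc R R R A A A).toAlgHom.comp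
        ((Algebra.TensorProduct.map h.comulA (AlgHom.id R A)).comp h.comulA) =
      (Algebra.TensorProduct.map (AlgHom.id R A) h.comulA).comp h.comulA := by
  apply AlgHom.ext
  intro a
  apply h.jjj_injective
  show jjj R S B A ι (Algebra.TensorProduct.assoc R R R A A A
      (Algebra.TensorProduct.map h.comulA (AlgHom.id R A) (h.comulA a))) =
    jjj R S B A ι (Algebra.TensorProduct.map (AlgHom.id R A) h.comulA (h.comulA a))
  rw [h.jjj_rTensor, h.jjj_lTensor, h.jj_comulA, Coalgebra.coassoc_apply]

theorem IsForm.ι_lid_rTensor (h : IsForm R S B A ι) (y : A ⊗[R] A) :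
    ι (Algebra.TensorProduct.lid R A (Algebra.TensorProduct.map h.counitA (AlgHom.id R A) y)) =
      TensorProduct.lid S B ((Coalgebra.counit (R := S) (A := B)).rTensor B (jj R S B A ι y)) := by
  induction y using TensorProduct.induction_on with
  | zero => rw [map_zero, map_zero, map_zero, map_zero, map_zero, map_zero]
  | add a b ha hb => rw [map_add, map_add, map_add, ha, hb, map_add, map_add, map_add]
  | tmul a a' =>
    rw [Algebra.TensorProduct.map_tmul, AlgHom.id_apply, Algebra.TensorProduct.lid_tmul, jj_tmul,
      LinearMap.rTensor_tmul, TensorProduct.lid_tmul, ← h.algebraMap_counitA, map_smul,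
      algebraMap_smul]

theorem IsForm.ι_rid_lTensor (h : IsForm R S B A ι) (y : A ⊗[R] A) :
    ι (Algebra.TensorProduct.rid R R A (Algebra.TensorProduct.map (AlgHom.id R A) h.counitA y)) =
      TensorProduct.rid S B ((Coalgebra.counit (R := S) (A := B)).lTensor B (jj R S B A ι y)) := by
  induction y using TensorProduct.induction_on with
  | zero => rw [map_zero, map_zero, map_zero, map_zero, map_zero, map_zero]
  | add a b ha hb => rw [map_add, map_add, map_add, ha, hb, map_add, map_add, map_add]
  | tmul a a' =>
    rw [Algebra.TensorProduct.map_tmul, AlgHom.id_apply, Algebra.TensorProduct.rid_tmul, jj_tmul,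
      LinearMap.lTensor_tmul, TensorProduct.rid_tmul, ← h.algebraMap_counitA, map_smul,
      algebraMap_smul]

theorem IsForm.rTensor_counit (h : IsForm R S B A ι) :
    (Algebra.TensorProduct.map h.counitA (AlgHom.id R A)).comp h.comulA =
      (Algebra.TensorProduct.lid R A).symm := by
  apply AlgHom.ext
  intro a
  show Algebra.TensorProduct.map h.counitA (AlgHom.id R A) (h.comulA a) =
    (Algebra.TensorProduct.lid R A).symm a
  rw [AlgEquiv.eq_symm_apply]
  apply h.injective
  rw [h.ι_lid_rTensor, h.jj_comulA, Coalgebra.rTensor_counit_comul, TensorProduct.lid_tmul,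
    one_smul]

theorem IsForm.lTensor_counit (h : IsForm R S B A ι) :
    (Algebra.TensorProduct.map (AlgHom.id R A) h.counitA).comp h.comulA =
      (Algebra.TensorProduct.rid R R A).symm := by
  apply AlgHom.ext
  intro a
  show Algebra.TensorProduct.map (AlgHom.id R A) h.counitA (h.comulA a) =
    (Algebra.TensorProduct.rid R R A).symm a
  rw [AlgEquiv.eq_symm_apply]
  apply h.injective
  rw [h.ι_rid_lTensor, h.jj_comulA, Coalgebra.lTensor_counit_comul, TensorProduct.rid_tmul,
    one_smul]

/-- the bialgebra structure on a form -/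
@[reducible] noncomputable def IsForm.bialgebra (h : IsForm R S B A ι) : Bialgebra R A :=
  Bialgebra.ofAlgHom h.comulA h.counitA h.coassoc h.rTensor_counit h.lTensor_counit

theorem IsForm.ι_mul_rTensor (h : IsForm R S B A ι) (y : A ⊗[R] A) :
    ι (LinearMap.mul' R A ((h.antipodeA.toLinearMap).rTensor A y)) =
      LinearMap.mul' S B ((HopfAlgebra.antipode S (A := B)).rTensor B (jj R S B A ι y)) := by
  induction y using TensorProduct.induction_on with
  | zero => rw [map_zero, map_zero, map_zero, map_zero, map_zero, map_zero]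
  | add a b ha hb => rw [map_add, map_add, map_add, ha, hb, map_add, map_add, map_add]
  | tmul a a' =>
    rw [LinearMap.rTensor_tmul, LinearMap.mul'_apply, jj_tmul, LinearMap.rTensor_tmul,
      LinearMap.mul'_apply, map_mul]
    show ι (h.antipodeA a) * ι a' = _
    rw [h.ι_antipodeA]

theorem IsForm.ι_mul_lTensor (h : IsForm R S B A ι) (y : A ⊗[R] A) :
    ι (LinearMap.mul' R A ((h.antipodeA.toLinearMap).lTensor A y)) =
      LinearMap.mul' S B ((HopfAlgebra.antipode S (A := B)).lTensor B (jj R S B A ι y)) := by
  induction y using TensorProduct.induction_on with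
  | zero => rw [map_zero, map_zero, map_zero, map_zero, map_zero, map_zero]
  | add a b ha hb => rw [map_add, map_add, map_add, ha, hb, map_add, map_add, map_add]
  | tmul a a' =>
    rw [LinearMap.lTensor_tmul, LinearMap.mul'_apply, jj_tmul, LinearMap.lTensor_tmul,
      LinearMap.mul'_apply, map_mul]
    show ι a * ι (h.antipodeA a') = _
    rw [h.ι_antipodeA]

theorem IsForm.ι_algebraMap_counitA (h : IsForm R S B A ι) (a : A) :
    ι (algebraMap R A (h.counitA a)) = algebraMap S B (Coalgebra.counit (R := S) (ι a)) := by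
  rw [AlgHom.commutes, ← h.algebraMap_counitA, ← IsScalarTower.algebraMap_apply]

/-- the Hopf algebra structure on a form -/
@[reducible] noncomputable def IsForm.hopfAlgebra (h : IsForm R S B A ι) : HopfAlgebra R A :=
  letI := h.bialgebra
  { antipode := h.antipodeA.toLinearMap
    mul_antipode_rTensor_comul := by
      apply LinearMap.ext
      intro a
      apply h.injective
      show ι (LinearMap.mul' R A ((h.antipodeA.toLinearMap).rTensor A (h.comulA a))) =
        ι (algebraMap R A (h.counitA a))
      rw [h.ι_mul_rTensor, h.jj_comulA, HopfAlgebra.mul_antipode_rTensor_comul_apply,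
        h.ι_algebraMap_counitA]
    mul_antipode_lTensor_comul := by
      apply LinearMap.ext
      intro a
      apply h.injective
      show ι (LinearMap.mul' R A ((h.antipodeA.toLinearMap).lTensor A (h.comulA a))) =
        ι (algebraMap R A (h.counitA a))
      rw [h.ι_mul_lTensor, h.jj_comulA, HopfAlgebra.mul_antipode_lTensor_comul_apply,
        h.ι_algebraMap_counitA] }

end Form

end Groth.Agent.H9.DES
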