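import Mathlib
import Groth.Agent.Lib.Helper9.Misc.DES2
import Groth.Agent.Lib.Helper9.CommGrp.MultType

/-!
# Descent of Hopf algebras: from a Hopf descent datum to a form (helper9)
-/

set_option autoImplicit false
set_option linter.unusedSectionVars false
set_option linter.unusedVariables false

namespace Groth.Agent.H9.DES

open TensorProduct

universe u

section Equiv

variable (R : Type u) (S : Type u) [CommRing R] [CommRing S] [Algebra R S]
  (B : Type u) [CommRing B] [HopfAlgebra S B] [Algebra R B] [IsScalarTower R S B]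
  (A : Type u) [CommRing A] [Bialgebra R A] (ι : A →ₐ[R] B)

/-- `S ⊗ A → B` as an algebra map -/
noncomputable def thetaAlg : S ⊗[R] A →ₐ[S] B :=
  Algebra.TensorProduct.lift (Algebra.ofId S B) ι (fun _ _ => Commute.all _ _)

theorem thetaAlg_tmul (s : S) (a : A) : thetaAlg R S B A ι (s ⊗ₜ[R] a) = s • ι a := by
  rw [thetaAlg, Algebra.TensorProduct.lift_tmul, Algebra.smul_def]
  rfl

theorem thetaAlg_apply (w : S ⊗[R] A) :
    thetaAlg R S B A ι w = ι.toLinearMap.liftBaseChange S w := by
  induction w using TensorProduct.induction_on with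
  | zero => rw [map_zero, map_zero]
  | add a b ha hb => rw [map_add, map_add, ha, hb]
  | tmul s a => rw [thetaAlg_tmul, LinearMap.liftBaseChange_tmul]; rfl

theorem map_thetaAlg_distrib (s : S) (y : A ⊗[R] A) :
    TensorProduct.map (thetaAlg R S B A ι).toLinearMap (thetaAlg R S B A ι).toLinearMap
        (TensorProduct.AlgebraTensorModule.distribBaseChange R S A A (s ⊗ₜ[R] y)) =
      s • jj R S B A ι y := by
  induction y using TensorProduct.induction_on with
  | zero => rw [TensorProduct.tmul_zero, map_zero, map_zero, map_zero, smul_zero]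
  | add a b ha hb => rw [TensorProduct.tmul_add, map_add, map_add, ha, hb, map_add, smul_add]
  | tmul a a' =>
    rw [TensorProduct.AlgebraTensorModule.distribBaseChange_tmul, TensorProduct.map_tmul, jj_tmul]
    show (thetaAlg R S B A ι (s ⊗ₜ[R] a)) ⊗ₜ[S] (thetaAlg R S B A ι ((1 : S) ⊗ₜ[R] a')) = _
    rw [thetaAlg_tmul, thetaAlg_tmul, one_smul, TensorProduct.smul_tmul']

variable {R S B A ι}

/-- a compatible form gives a bialgebra isomorphism `S ⊗ A ≅ B` -/
noncomputable def formEquiv
    (hbij : Function.Bijective (ι.toLinearMap.liftBaseChange S))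
    (hcomul : ∀ a, jj R S B A ι (Coalgebra.comul (R := R) a) = Coalgebra.comul (R := S) (ι a))
    (hcounit : ∀ a, algebraMap R S (Coalgebra.counit (R := R) a) =
      Coalgebra.counit (R := S) (ι a)) : S ⊗[R] A ≃ₐc[S] B :=
  BialgEquiv.ofAlgEquiv (R := S) (A := S ⊗[R] A) (B := B)
    (AlgEquiv.ofBijective (thetaAlg R S B A ι) (by
      have : (thetaAlg R S B A ι : S ⊗[R] A → B) = ι.toLinearMap.liftBaseChange S := by
        funext w
        exact thetaAlg_apply R S B A ι w
      rw [this]
      exact hbij))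
    (by
      apply AlgHom.ext
      intro w
      show Coalgebra.counit (R := S) (thetaAlg R S B A ι w) = Coalgebra.counit (R := S) w
      induction w using TensorProduct.induction_on with
      | zero => rw [map_zero, map_zero, map_zero]
      | add a b ha hb => rw [map_add, map_add, map_add, ha, hb]
      | tmul s a =>
        rw [thetaAlg_tmul, map_smul, ← hcounit, TensorProduct.counit_tmul,
          CommSemiring.counit_apply, smul_eq_mul, Algebra.smul_def, mul_comm])
    (by
      apply AlgHom.ext
      intro w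
      show TensorProduct.map (thetaAlg R S B A ι).toLinearMap (thetaAlg R S B A ι).toLinearMap
          (Coalgebra.comul (R := S) w) = Coalgebra.comul (R := S) (thetaAlg R S B A ι w)
      induction w using TensorProduct.induction_on with
      | zero => rw [map_zero, map_zero, map_zero, map_zero]
      | add a b ha hb => rw [map_add, map_add, map_add, map_add, ha, hb]
      | tmul s a =>
        rw [Groth.Agent.H9.CommGrp.comul_baseChange', LinearMap.lTensor_tmul,
          map_thetaAlg_distrib, hcomul, thetaAlg_tmul, map_smul])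

theorem formEquiv_tmul
    (hbij : Function.Bijective (ι.toLinearMap.liftBaseChange S))
    (hcomul : ∀ a, jj R S B A ι (Coalgebra.comul (R := R) a) = Coalgebra.comul (R := S) (ι a))
    (hcounit : ∀ a, algebraMap R S (Coalgebra.counit (R := R) a) =
      Coalgebra.counit (R := S) (ι a)) (s : S) (a : A) :
    formEquiv hbij hcomul hcounit (s ⊗ₜ[R] a) = s • ι a :=
  thetaAlg_tmul R S B A ι s a

end Equiv

section Unique

variable {R : Type u} {S : Type u} [CommRing R] [CommRing S] [Algebra R S]
  [Module.FaithfullyFlat R S]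
  {B : Type u} [CommRing B] [HopfAlgebra S B] [Algebra R B] [IsScalarTower R S B]
  {A₁ : Type u} [CommRing A₁] [Bialgebra R A₁] {ι₁ : A₁ →ₐ[R] B}
  {A₂ : Type u} [CommRing A₂] [Bialgebra R A₂] {ι₂ : A₂ →ₐ[R] B}

theorem jj_map (e : A₁ →ₐ[R] A₂) (he : ∀ a, ι₂ (e a) = ι₁ a) (y : A₁ ⊗[R] A₁) :
    jj R S B A₂ ι₂ (Algebra.TensorProduct.map e e y) = jj R S B A₁ ι₁ y := by
  induction y using TensorProduct.induction_on with
  | zero => rw [map_zero, map_zero, map_zero]
  | add a b ha hb => rw [map_add, map_add, ha, hb, map_add]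
  | tmul a a' => rw [Algebra.TensorProduct.map_tmul, jj_tmul, jj_tmul, he, he]

/-- two compatible forms with the same embedding are isomorphic as bialgebras -/
noncomputable def bialgEquivOfForms (e : A₁ ≃ₐ[R] A₂) (he : ∀ a, ι₂ (e a) = ι₁ a)
    (hbij₂ : Function.Bijective (ι₂.toLinearMap.liftBaseChange S))
    (hcomul₁ : ∀ a, jj R S B A₁ ι₁ (Coalgebra.comul (R := R) a) = Coalgebra.comul (R := S) (ι₁ a))
    (hcounit₁ : ∀ a, algebraMap R S (Coalgebra.counit (R := R) a) =
      Coalgebra.counit (R := S) (ι₁ a))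
    (hcomul₂ : ∀ a, jj R S B A₂ ι₂ (Coalgebra.comul (R := R) a) = Coalgebra.comul (R := S) (ι₂ a))
    (hcounit₂ : ∀ a, algebraMap R S (Coalgebra.counit (R := R) a) =
      Coalgebra.counit (R := S) (ι₂ a)) : A₁ ≃ₐc[R] A₂ :=
  BialgEquiv.ofAlgEquiv (R := R) (A := A₁) (B := A₂) e
    (by
      apply AlgHom.ext
      intro a
      show Coalgebra.counit (R := R) (e a) = Coalgebra.counit (R := R) a
      apply FaithfulSMul.algebraMap_injective R S
      rw [hcounit₂, hcounit₁, he])
    (by
      apply AlgHom.ext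
      intro a
      show Algebra.TensorProduct.map (e : A₁ →ₐ[R] A₂) (e : A₁ →ₐ[R] A₂)
        (Coalgebra.comul (R := R) a) = Coalgebra.comul (R := R) (e a)
      have hinj : Function.Injective (jj R S B A₂ ι₂) := by
        have := cmap_injective R S ι₂.toLinearMap ι₂.toLinearMap hbij₂ hbij₂
        intro x y hxy
        apply this
        rw [← jj_eq_cmap, ← jj_eq_cmap, hxy]
      apply hinj
      rw [jj_map (e : A₁ →ₐ[R] A₂) he, hcomul₁, hcomul₂]
      show _ = Coalgebra.comul (R := S) (ι₂ (e a))
      rw [he])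

end Unique

section Hopf

variable (R : Type u) (S : Type u) [CommRing R] [CommRing S] [Algebra R S]
  (B : Type u) [CommRing B] [HopfAlgebra S B] [Algebra R B] [IsScalarTower R S B]

/-- `B ⊗[R] B → B ⊗[S] B` -/
noncomputable def piB : B ⊗[R] B →ₗ[R] B ⊗[S] B :=
  cmap R S (LinearMap.id : B →ₗ[R] B) (LinearMap.id : B →ₗ[R] B)

theorem piB_tmul (b b' : B) : piB R S B (b ⊗ₜ[R] b') = b ⊗ₜ[S] b' := rfl

/-- `(S ⊗ B) ⊗_S (S ⊗ B) → S ⊗ (B ⊗_S B)` -/
noncomputable def boxt : (S ⊗[R] B) ⊗[S] (S ⊗[R] B) →ₗ[R] S ⊗[R] (B ⊗[S] B) :=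
  (LinearMap.lTensor S (piB R S B)) ∘ₗ
    ((TensorProduct.AlgebraTensorModule.distribBaseChange R S B B).symm.toLinearMap.restrictScalars R)

theorem boxt_tmul (s s' : S) (b b' : B) :
    boxt R S B ((s ⊗ₜ[R] b) ⊗ₜ[S] (s' ⊗ₜ[R] b')) = (s * s') ⊗ₜ[R] (b ⊗ₜ[S] b') := by
  show LinearMap.lTensor S (piB R S B)
    ((TensorProduct.AlgebraTensorModule.distribBaseChange R S B B).symm
      ((s ⊗ₜ[R] b) ⊗ₜ[S] (s' ⊗ₜ[R] b'))) = _
  rw [TensorProduct.AlgebraTensorModule.distribBaseChange_symm_tmul, LinearMap.lTensor_tmul,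
    piB_tmul]

/-- A Hopf descent datum on the `S`-Hopf algebra `B` relative to `R → S`. -/
structure HopfDescData extends DescData R S B where
  map_one : ρ 1 = 1
  map_mul : ∀ b b', ρ (b * b') = ρ b * ρ b'
  comul_compat : ∀ b, boxt R S B (TensorProduct.map ρ ρ (Coalgebra.comul (R := S) b)) =
    LinearMap.lTensor S ((Coalgebra.comul (R := S) (A := B)).restrictScalars R) (ρ b)
  counit_compat : ∀ b, LinearMap.lTensor S ((Coalgebra.counit (R := S) (A := B)).restrictScalars R) (ρ b) =
    (Coalgebra.counit (R := S) b) ⊗ₜ[R] (1 : S)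
  antipode_compat : ∀ b, LinearMap.lTensor S ((HopfAlgebra.antipode S (A := B)).restrictScalars R) (ρ b) =
    ρ (HopfAlgebra.antipode S b)

end Hopf

section Ring

variable (R : Type u) (S : Type u) [CommRing R] [CommRing S] [Algebra R S]
  [Module.FaithfullyFlat R S]

/-- Amitsur exactness in degree zero: `R = eq(S ⇉ S ⊗ S)`. -/
theorem amitsur_ring (s : S) (h : s ⊗ₜ[R] (1 : S) = (1 : S) ⊗ₜ[R] s) :
    ∃ r : R, algebraMap R S r = s := by
  have h1 : LinearMap.lTensor S (eta R S R) (s ⊗ₜ[R] (1 : R)) =
      (1 : S) ⊗ₜ[R] (s ⊗ₜ[R] (1 : R)) := by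
    apply (LinearEquiv.lTensor S (TensorProduct.rid R S)).injective
    rw [LinearMap.lTensor_tmul, eta_apply]
    show s ⊗ₜ[R] (TensorProduct.rid R S ((1 : S) ⊗ₜ[R] (1 : R))) =
      (1 : S) ⊗ₜ[R] (TensorProduct.rid R S (s ⊗ₜ[R] (1 : R)))
    rw [TensorProduct.rid_tmul, TensorProduct.rid_tmul, one_smul, one_smul]
    exact h
  obtain ⟨r, hr⟩ := amitsur R S R _ h1
  refine ⟨r, ?_⟩
  have h2 := congrArg (TensorProduct.rid R S) hr
  rw [TensorProduct.rid_tmul, TensorProduct.rid_tmul, one_smul] at h2
  rw [h2, Algebra.algebraMap_eq_smul_one]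

end Ring

namespace HopfDescData

variable {R : Type u} {S : Type u} [CommRing R] [CommRing S] [Algebra R S]
  {B : Type u} [CommRing B] [HopfAlgebra S B] [Algebra R B] [IsScalarTower R S B]
  (D : HopfDescData R S B)

/-- the invariants as a subalgebra -/
noncomputable def invAlg : Subalgebra R B where
  carrier := D.toDescData.inv
  mul_mem' := by
    intro a b ha hb
    have ha' := (D.toDescData.mem_inv a).1 ha
    have hb' := (D.toDescData.mem_inv b).1 hb
    apply (D.toDescData.mem_inv (a * b)).2
    rw [D.map_mul, ha', hb', Algebra.TensorProduct.tmul_mul_tmul, one_mul]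
  add_mem' := fun ha hb => D.toDescData.inv.add_mem ha hb
  algebraMap_mem' := by
    intro r
    apply (D.toDescData.mem_inv _).2
    rw [Algebra.algebraMap_eq_smul_one, ← LinearMap.restrictScalars_apply R, map_smul,
      LinearMap.restrictScalars_apply, D.map_one, Algebra.TensorProduct.one_def,
      TensorProduct.tmul_smul]

theorem mem_invAlg (b : B) : b ∈ D.invAlg ↔ D.ρ b = (1 : S) ⊗ₜ[R] b :=
  D.toDescData.mem_inv b

/-- `invAlg ≃ inv` -/
noncomputable def invEquiv : D.invAlg ≃ₗ[R] D.toDescData.inv where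
  toFun a := ⟨a.1, a.2⟩
  invFun p := ⟨p.1, p.2⟩
  map_add' _ _ := rfl
  map_smul' _ _ := rfl
  left_inv _ := rfl
  right_inv _ := rfl

theorem liftBaseChange_val_apply (w : S ⊗[R] D.invAlg) :
    D.invAlg.val.toLinearMap.liftBaseChange S w =
      D.toDescData.theta (LinearMap.lTensor S D.invEquiv.toLinearMap w) := by
  induction w using TensorProduct.induction_on with
  | zero => rw [map_zero, map_zero, map_zero]
  | add a b ha hb => rw [map_add, map_add, map_add, ha, hb]
  | tmul s a => rfl

theorem liftBaseChange_val_bijective [Module.Flat R S] :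
    Function.Bijective (D.invAlg.val.toLinearMap.liftBaseChange S) := by
  have h : (D.invAlg.val.toLinearMap.liftBaseChange S : S ⊗[R] D.invAlg → B) =
      D.toDescData.theta ∘ (LinearEquiv.lTensor S D.invEquiv) := by
    funext w
    exact D.liftBaseChange_val_apply w
  rw [h]
  exact D.toDescData.theta_bijective.comp (LinearEquiv.bijective _)

theorem rho_liftBaseChange (w : S ⊗[R] D.invAlg) :
    D.ρ (D.invAlg.val.toLinearMap.liftBaseChange S w) =
      LinearMap.lTensor S D.invAlg.val.toLinearMap w := by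
  induction w using TensorProduct.induction_on with
  | zero => rw [map_zero, map_zero, map_zero]
  | add a b ha hb => rw [map_add, map_add, ha, hb, map_add]
  | tmul s a =>
    rw [LinearMap.liftBaseChange_tmul, map_smul, LinearMap.lTensor_tmul]
    show s • D.ρ (a : B) = _
    rw [(D.mem_invAlg a).1 a.2, TensorProduct.smul_tmul', smul_eq_mul, mul_one]
    rfl

/-- the key computation: the tensor square of the descent datum on the image of `S ⊗ (A ⊗ A)` -/
theorem boxt_map_rho (w : S ⊗[R] (D.invAlg ⊗[R] D.invAlg)) :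
    boxt R S B (TensorProduct.map D.ρ D.ρ
      ((cmap R S D.invAlg.val.toLinearMap D.invAlg.val.toLinearMap).liftBaseChange S w)) =
    LinearMap.lTensor S (cmap R S D.invAlg.val.toLinearMap D.invAlg.val.toLinearMap) w := by
  induction w using TensorProduct.induction_on with
  | zero => rw [map_zero, map_zero, map_zero, map_zero]
  | add a b ha hb => rw [map_add, map_add, map_add, ha, hb, map_add]
  | tmul s y =>
    induction y using TensorProduct.induction_on with
    | zero => rw [TensorProduct.tmul_zero, map_zero, map_zero, map_zero, map_zero]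
    | add a b ha hb => rw [TensorProduct.tmul_add, map_add, map_add, map_add, ha, hb, map_add]
    | tmul a a' =>
      rw [LinearMap.liftBaseChange_tmul, cmap_tmul, LinearMap.lTensor_tmul, cmap_tmul,
        TensorProduct.smul_tmul', TensorProduct.map_tmul, map_smul]
      show boxt R S B ((s • D.ρ (a : B)) ⊗ₜ[S] D.ρ (a' : B)) = _
      rw [(D.mem_invAlg a).1 a.2, (D.mem_invAlg a').1 a'.2, TensorProduct.smul_tmul', smul_eq_mul,
        mul_one, boxt_tmul, mul_one]
      rfl

variable [Module.FaithfullyFlat R S]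

theorem isForm : IsForm R S B D.invAlg D.invAlg.val where
  bij := D.liftBaseChange_val_bijective
  comul := by
    intro a
    have hbij := liftBaseChange_cmap_bijective R S D.invAlg.val.toLinearMap
      D.invAlg.val.toLinearMap D.liftBaseChange_val_bijective D.liftBaseChange_val_bijective
    obtain ⟨x, hx⟩ := hbij.2 (Coalgebra.comul (R := S) (a : B))
    -- the descent condition for `x`
    have h1 := D.boxt_map_rho x
    rw [hx, D.comul_compat, (D.mem_invAlg a).1 a.2, LinearMap.lTensor_tmul] at h1
    have h2 : LinearMap.lTensor S (eta R S (D.invAlg ⊗[R] D.invAlg)) x = (1 : S) ⊗ₜ[R] x := by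
      let J : S ⊗[R] (D.invAlg ⊗[R] D.invAlg) ≃ₗ[R] B ⊗[S] B :=
        (LinearEquiv.ofBijective
          ((cmap R S D.invAlg.val.toLinearMap D.invAlg.val.toLinearMap).liftBaseChange S)
          hbij).restrictScalars R
      apply (LinearEquiv.lTensor S J).injective
      show LinearMap.lTensor S J.toLinearMap
          (LinearMap.lTensor S (eta R S (D.invAlg ⊗[R] D.invAlg)) x) =
        LinearMap.lTensor S J.toLinearMap ((1 : S) ⊗ₜ[R] x)
      rw [← LinearMap.comp_apply, ← LinearMap.lTensor_comp, LinearMap.lTensor_tmul]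
      have h3 : J.toLinearMap ∘ₗ eta R S (D.invAlg ⊗[R] D.invAlg) =
          cmap R S D.invAlg.val.toLinearMap D.invAlg.val.toLinearMap := by
        apply LinearMap.ext
        intro y
        show (cmap R S D.invAlg.val.toLinearMap D.invAlg.val.toLinearMap).liftBaseChange S
          ((1 : S) ⊗ₜ[R] y) = _
        rw [LinearMap.liftBaseChange_tmul, one_smul]
      rw [h3, ← h1]
      show _ = (1 : S) ⊗ₜ[R]
        ((cmap R S D.invAlg.val.toLinearMap D.invAlg.val.toLinearMap).liftBaseChange S x)
      rw [hx]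
      rfl
    obtain ⟨q, hq⟩ := amitsur R S _ x h2
    refine ⟨q, ?_⟩
    rw [jj_eq_cmap]
    show _ = Coalgebra.comul (R := S) (a : B)
    rw [← hx, hq, LinearMap.liftBaseChange_tmul, one_smul]
  counit := by
    intro a
    apply amitsur_ring R S
    have h1 := D.counit_compat (a : B)
    rw [(D.mem_invAlg a).1 a.2, LinearMap.lTensor_tmul] at h1
    exact h1.symm
  antipode := by
    intro a
    have h1 := D.antipode_compat (a : B)
    rw [(D.mem_invAlg a).1 a.2, LinearMap.lTensor_tmul] at h1
    exact ⟨⟨HopfAlgebra.antipode S (a : B), (D.mem_invAlg _).2 h1.symm⟩, rfl⟩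

end HopfDescData

end Groth.Agent.H9.DES
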