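import Mathlib
import Groth.Agent.Lib.Helper9.Misc.DES3

/-!
# Descent of Hopf algebras: the descended Hopf algebra (helper9)
-/

set_option autoImplicit false
set_option linter.unusedSectionVars false
set_option linter.unusedVariables false

namespace Groth.Agent.H9.DES

open TensorProduct

universe u

namespace HopfDescData

variable {R : Type u} {S : Type u} [CommRing R] [CommRing S] [Algebra R S]
  [Module.FaithfullyFlat R S]
  {B : Type u} [CommRing B] [HopfAlgebra S B] [Algebra R B] [IsScalarTower R S B]
  (D : HopfDescData R S B)

/-- the descended Hopf algebra structure -/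
@[reducible] noncomputable def hopf : HopfAlgebra R D.invAlg := D.isForm.hopfAlgebra

theorem jj_comul (a : D.invAlg) :
    letI := D.hopf
    jj R S B D.invAlg D.invAlg.val (Coalgebra.comul (R := R) a) =
      Coalgebra.comul (R := S) (a : B) :=
  D.isForm.jj_comulA a

theorem algebraMap_counit (a : D.invAlg) :
    letI := D.hopf
    algebraMap R S (Coalgebra.counit (R := R) a) = Coalgebra.counit (R := S) (a : B) :=
  D.isForm.algebraMap_counitA a

/-- `S ⊗ B^ρ ≅ B` as bialgebras -/
noncomputable def equiv :
    letI := D.hopf
    S ⊗[R] D.invAlg ≃ₐc[S] B :=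
  letI := D.hopf
  formEquiv (ι := D.invAlg.val) D.isForm.bij D.jj_comul D.algebraMap_counit

theorem equiv_tmul (s : S) (a : D.invAlg) :
    letI := D.hopf
    D.equiv (s ⊗ₜ[R] a) = s • (a : B) :=
  letI := D.hopf
  formEquiv_tmul (ι := D.invAlg.val) D.isForm.bij D.jj_comul D.algebraMap_counit s a

end HopfDescData

end Groth.Agent.H9.DES
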