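import Mathlib
import Groth.Agent.Lib.Helper9.Misc.DES4
import Groth.Agent.Lib.Helper9.FF.Conv

/-!
# The canonical Hopf descent datum of a form, and reconstruction of the form (helper9)
-/

set_option autoImplicit false
set_option linter.unusedSectionVars false
set_option linter.unusedVariables false

namespace Groth.Agent.H9.DES

open TensorProduct

universe u

section Canon

variable {R : Type u} {S : Type u} [CommRing R] [CommRing S] [Algebra R S]
  {A : Type u} [CommRing A] [HopfAlgebra R A]
  {B : Type u} [CommRing B] [HopfAlgebra S B] [Algebra R B] [IsScalarTower R S B]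
  (θ : S ⊗[R] A ≃ₐc[S] B)

/-- `ι a = θ (1 ⊗ a)` -/
noncomputable def formIncl : A →ₐ[R] B :=
  (θ.toAlgEquiv.toAlgHom.restrictScalars R).comp Algebra.TensorProduct.includeRight

theorem formIncl_apply (a : A) : formIncl θ a = θ ((1 : S) ⊗ₜ[R] a) := rfl

/-- `S ⊗ A → S ⊗ B`, `s ⊗ a ↦ s ⊗ ι a` -/
noncomputable def lincl : S ⊗[R] A →ₐ[S] S ⊗[R] B :=
  Algebra.TensorProduct.map (AlgHom.id S S) (formIncl θ)

theorem lincl_tmul (s : S) (a : A) : lincl θ (s ⊗ₜ[R] a) = s ⊗ₜ[R] θ ((1 : S) ⊗ₜ[R] a) := rfl

theorem lincl_apply (w : S ⊗[R] A) :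
    lincl θ w = LinearMap.lTensor S (formIncl θ).toLinearMap w := by
  induction w using TensorProduct.induction_on with
  | zero => rw [map_zero, map_zero]
  | add a b ha hb => rw [map_add, map_add, ha, hb]
  | tmul s a => rfl

/-- the canonical descent datum on `B` -/
noncomputable def canonRho : B →ₐ[S] S ⊗[R] B := (lincl θ).comp θ.symm.toAlgEquiv.toAlgHom

theorem canonRho_apply (b : B) : canonRho θ b = lincl θ (θ.symm b) := rfl

theorem canonRho_theta (w : S ⊗[R] A) : canonRho θ (θ w) = lincl θ w := by
  rw [canonRho_apply, θ.symm_apply_apply]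

theorem canonRho_incl (a : A) : canonRho θ (formIncl θ a) = (1 : S) ⊗ₜ[R] formIncl θ a := by
  rw [formIncl_apply, canonRho_theta, lincl_tmul]

theorem mu_lincl (w : S ⊗[R] A) : mu R S B (lincl θ w) = θ w := by
  induction w using TensorProduct.induction_on with
  | zero => rw [map_zero, map_zero, map_zero]
  | add a b ha hb => rw [map_add, map_add, ha, hb, map_add]
  | tmul s a =>
    rw [lincl_tmul, mu_tmul, ← map_smul, TensorProduct.smul_tmul', smul_eq_mul, mul_one]

theorem lTensor_rho_lincl (w : S ⊗[R] A) :
    LinearMap.lTensor S ((canonRho θ).toLinearMap.restrictScalars R) (lincl θ w) =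
      LinearMap.lTensor S (eta R S B) (lincl θ w) := by
  induction w using TensorProduct.induction_on with
  | zero => rw [map_zero, map_zero, map_zero]
  | add a b ha hb => rw [map_add, map_add, map_add, ha, hb]
  | tmul s a =>
    rw [lincl_tmul, LinearMap.lTensor_tmul, LinearMap.lTensor_tmul, eta_apply]
    show s ⊗ₜ[R] canonRho θ (formIncl θ a) = _
    rw [canonRho_incl]
    rfl

theorem map_theta_distrib_one (y : A ⊗[R] A) :
    TensorProduct.map (θ : S ⊗[R] A →ₗ[S] B) (θ : S ⊗[R] A →ₗ[S] B)
        (TensorProduct.AlgebraTensorModule.distribBaseChange R S A A ((1 : S) ⊗ₜ[R] y)) =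
      jj R S B A (formIncl θ) y := by
  induction y using TensorProduct.induction_on with
  | zero => rw [TensorProduct.tmul_zero, map_zero, map_zero, map_zero]
  | add a b ha hb => rw [TensorProduct.tmul_add, map_add, map_add, ha, hb, map_add]
  | tmul a a' =>
    rw [TensorProduct.AlgebraTensorModule.distribBaseChange_tmul, TensorProduct.map_tmul, jj_tmul]
    rfl

theorem comul_formIncl (a : A) :
    jj R S B A (formIncl θ) (Coalgebra.comul (R := R) a) =
      Coalgebra.comul (R := S) (formIncl θ a) := by
  rw [formIncl_apply, ← CoalgHomClass.map_comp_comul_apply θ,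
    Groth.Agent.H9.CommGrp.comul_baseChange', LinearMap.lTensor_tmul, ← map_theta_distrib_one]
  rfl

theorem counit_formIncl (a : A) :
    algebraMap R S (Coalgebra.counit (R := R) a) = Coalgebra.counit (R := S) (formIncl θ a) := by
  rw [formIncl_apply, CoalgHomClass.counit_comp_apply θ, TensorProduct.counit_tmul,
    CommSemiring.counit_apply, Algebra.algebraMap_eq_smul_one]

theorem boxt_map_rho_theta (s : S) (y : A ⊗[R] A) :
    boxt R S B (TensorProduct.map (canonRho θ).toLinearMap (canonRho θ).toLinearMap
      (TensorProduct.map (θ : S ⊗[R] A →ₗ[S] B) (θ : S ⊗[R] A →ₗ[S] B)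
        (TensorProduct.AlgebraTensorModule.distribBaseChange R S A A (s ⊗ₜ[R] y)))) =
      s ⊗ₜ[R] jj R S B A (formIncl θ) y := by
  induction y using TensorProduct.induction_on with
  | zero => rw [TensorProduct.tmul_zero, map_zero, map_zero, map_zero, map_zero, map_zero,
      TensorProduct.tmul_zero]
  | add a b ha hb => rw [TensorProduct.tmul_add, map_add, map_add, map_add, map_add, ha, hb,
      map_add, TensorProduct.tmul_add]
  | tmul a a' =>
    rw [TensorProduct.AlgebraTensorModule.distribBaseChange_tmul, TensorProduct.map_tmul,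
      TensorProduct.map_tmul, jj_tmul]
    show boxt R S B (canonRho θ (θ (s ⊗ₜ[R] a)) ⊗ₜ[S] canonRho θ (θ ((1 : S) ⊗ₜ[R] a'))) = _
    rw [canonRho_theta, canonRho_theta, lincl_tmul, lincl_tmul, boxt_tmul, mul_one]
    rfl

theorem antipode_tmul (s : S) (a : A) :
    HopfAlgebra.antipode S (s ⊗ₜ[R] a) = s ⊗ₜ[R] HopfAlgebra.antipode R a := by
  rw [TensorProduct.antipode_def, TensorProduct.AlgebraTensorModule.map_tmul]
  rfl

theorem theta_antipode (w : S ⊗[R] A) :
    θ (HopfAlgebra.antipode S w) = HopfAlgebra.antipode S (θ w) :=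
  Groth.Agent.H9.FF.Conv.bialgHom_antipode (θ : S ⊗[R] A →ₐc[S] B) w

theorem comul_compat_aux (w : S ⊗[R] A) :
    boxt R S B (TensorProduct.map (canonRho θ).toLinearMap (canonRho θ).toLinearMap
      (Coalgebra.comul (R := S) (θ w))) =
    LinearMap.lTensor S ((Coalgebra.comul (R := S) (A := B)).restrictScalars R)
      (canonRho θ (θ w)) := by
  induction w using TensorProduct.induction_on with
  | zero => simp only [map_zero]
  | add a b ha hb => simp only [map_add, ha, hb]
  | tmul s a =>
    rw [← CoalgHomClass.map_comp_comul_apply θ, Groth.Agent.H9.CommGrp.comul_baseChange',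
      LinearMap.lTensor_tmul]
    have h1 := boxt_map_rho_theta θ s (Coalgebra.comul (R := R) a)
    refine Eq.trans h1 ?_
    rw [canonRho_theta, lincl_tmul, LinearMap.lTensor_tmul, comul_formIncl]
    rfl

theorem counit_compat_aux (w : S ⊗[R] A) :
    LinearMap.lTensor S ((Coalgebra.counit (R := S) (A := B)).restrictScalars R)
      (canonRho θ (θ w)) = (Coalgebra.counit (R := S) (θ w)) ⊗ₜ[R] (1 : S) := by
  induction w using TensorProduct.induction_on with
  | zero => simp only [map_zero, TensorProduct.zero_tmul]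
  | add a b ha hb => simp only [map_add, ha, hb, TensorProduct.add_tmul]
  | tmul s a =>
    rw [canonRho_theta, lincl_tmul, LinearMap.lTensor_tmul]
    show s ⊗ₜ[R] Coalgebra.counit (R := S) (θ ((1 : S) ⊗ₜ[R] a)) = _
    rw [CoalgHomClass.counit_comp_apply θ, CoalgHomClass.counit_comp_apply θ,
      TensorProduct.counit_tmul, TensorProduct.counit_tmul, CommSemiring.counit_apply,
      CommSemiring.counit_apply, TensorProduct.tmul_smul, TensorProduct.smul_tmul']

theorem antipode_compat_aux (w : S ⊗[R] A) :
    LinearMap.lTensor S ((HopfAlgebra.antipode S (A := B)).restrictScalars R)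
      (canonRho θ (θ w)) = canonRho θ (HopfAlgebra.antipode S (θ w)) := by
  induction w using TensorProduct.induction_on with
  | zero => simp only [map_zero]
  | add a b ha hb => simp only [map_add, ha, hb]
  | tmul s a =>
    rw [canonRho_theta, lincl_tmul, LinearMap.lTensor_tmul]
    show s ⊗ₜ[R] HopfAlgebra.antipode S (θ ((1 : S) ⊗ₜ[R] a)) = _
    rw [← theta_antipode, ← theta_antipode, antipode_tmul, antipode_tmul, canonRho_theta,
      lincl_tmul]

/-- the canonical Hopf descent datum of a form -/
noncomputable def canonDesc : HopfDescData R S B where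
  ρ := (canonRho θ).toLinearMap
  counit := by
    intro b
    show mu R S B (canonRho θ b) = b
    rw [canonRho_apply, mu_lincl, θ.apply_symm_apply]
  coassoc := by
    intro b
    show LinearMap.lTensor S ((canonRho θ).toLinearMap.restrictScalars R) (canonRho θ b) =
      LinearMap.lTensor S (eta R S B) (canonRho θ b)
    rw [canonRho_apply, lTensor_rho_lincl]
  map_one := map_one (canonRho θ)
  map_mul := map_mul (canonRho θ)
  comul_compat := by
    intro b
    have h := comul_compat_aux θ (θ.symm b)
    rw [θ.apply_symm_apply] at h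
    exact h
  counit_compat := by
    intro b
    have h := counit_compat_aux θ (θ.symm b)
    rw [θ.apply_symm_apply] at h
    exact h
  antipode_compat := by
    intro b
    have h := antipode_compat_aux θ (θ.symm b)
    rw [θ.apply_symm_apply] at h
    exact h

theorem canonDesc_rho (b : B) : (canonDesc θ).ρ b = canonRho θ b := rfl

theorem formIncl_mem (a : A) : formIncl θ a ∈ (canonDesc θ).invAlg :=
  ((canonDesc θ).mem_invAlg _).2 (canonRho_incl θ a)

variable [Module.FaithfullyFlat R S]

theorem formIncl_injective : Function.Injective (formIncl θ) := by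
  intro a b hab
  apply eta_injective R S A
  apply θ.injective
  exact hab

theorem exists_of_mem_invAlg (b : B) (hb : b ∈ (canonDesc θ).invAlg) :
    ∃ a : A, formIncl θ a = b := by
  have h1 : canonRho θ b = (1 : S) ⊗ₜ[R] b := ((canonDesc θ).mem_invAlg b).1 hb
  have h2 : LinearMap.lTensor S (eta R S A) (θ.symm b) = (1 : S) ⊗ₜ[R] (θ.symm b) := by
    let θR : S ⊗[R] A ≃ₗ[R] B := (θ.toAlgEquiv.toLinearEquiv).restrictScalars R
    apply (LinearEquiv.lTensor S θR).injective
    show LinearMap.lTensor S θR.toLinearMap (LinearMap.lTensor S (eta R S A) (θ.symm b)) =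
      LinearMap.lTensor S θR.toLinearMap ((1 : S) ⊗ₜ[R] (θ.symm b))
    rw [← LinearMap.comp_apply, ← LinearMap.lTensor_comp, LinearMap.lTensor_tmul]
    have h3 : θR.toLinearMap ∘ₗ eta R S A = (formIncl θ).toLinearMap := rfl
    rw [h3, ← lincl_apply, ← canonRho_apply, h1]
    show _ = (1 : S) ⊗ₜ[R] θ (θ.symm b)
    rw [θ.apply_symm_apply]
  obtain ⟨a, ha⟩ := amitsur R S A _ h2
  refine ⟨a, ?_⟩
  rw [formIncl_apply, ← ha, θ.apply_symm_apply]

/-- the form is recovered as the invariants of its canonical descent datum -/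
noncomputable def formAlgEquiv : A ≃ₐ[R] (canonDesc θ).invAlg :=
  AlgEquiv.ofBijective ((formIncl θ).codRestrict (canonDesc θ).invAlg (formIncl_mem θ))
    ⟨fun a b hab => formIncl_injective θ (congrArg Subtype.val hab),
     fun p => by
      obtain ⟨a, ha⟩ := exists_of_mem_invAlg θ p.1 p.2
      exact ⟨a, Subtype.ext ha⟩⟩

theorem formAlgEquiv_val (a : A) : ((formAlgEquiv θ a : (canonDesc θ).invAlg) : B) = formIncl θ a :=
  rfl

/-- the form is recovered, as a bialgebra, as the invariants of its canonical descent datum -/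
noncomputable def formBialgEquiv :
    letI := (canonDesc θ).hopf
    A ≃ₐc[R] (canonDesc θ).invAlg :=
  letI := (canonDesc θ).hopf
  bialgEquivOfForms (S := S) (B := B) (ι₁ := formIncl θ) (ι₂ := (canonDesc θ).invAlg.val)
    (formAlgEquiv θ) (fun a => rfl) (canonDesc θ).isForm.bij (comul_formIncl θ) (counit_formIncl θ)
    (canonDesc θ).jj_comul (canonDesc θ).algebraMap_counit

end Canon

end Groth.Agent.H9.DES
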