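import Mathlib
import Groth.Agent.Lib.Helper9.Misc.DES5

/-!
# Hopf descent data on group algebras: coefficient calculus (helper9)
-/

set_option autoImplicit false
set_option linter.unusedSectionVars false
set_option linter.unusedVariables false

namespace Groth.Agent.H9.DES

open TensorProduct
open scoped Classical

universe u

section Gen

variable {R : Type*} [CommRing R] {X Q : Type*} [AddCommGroup X] [Module R X]
  [AddCommGroup Q] [Module R Q] {J : Type*} (P : Type*) [AddCommGroup P] [Module R P]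

/-- coefficientwise description of `P ⊗ X` for `X ≅ J →₀ Q` -/
noncomputable def tcoef (e : X ≃ₗ[R] (J →₀ Q)) : P ⊗[R] X ≃ₗ[R] (J →₀ P ⊗[R] Q) :=
  (LinearEquiv.lTensor P e) ≪≫ₗ TensorProduct.finsuppRight R R P Q J

theorem tcoef_tmul (e : X ≃ₗ[R] (J →₀ Q)) (p : P) (x : X) (j : J) :
    tcoef P e (p ⊗ₜ[R] x) j = p ⊗ₜ[R] e x j := by
  show TensorProduct.finsuppRight R R P Q J (LinearEquiv.lTensor P e (p ⊗ₜ[R] x)) j = _
  rw [LinearEquiv.lTensor_tmul, TensorProduct.finsuppRight_apply_tmul_apply]

end Gen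

section Coef

variable (R : Type u) (S : Type u) [CommRing R] [CommRing S] [Algebra R S]
  (M : Type u) [CommGroup M]

/-- level one coefficients -/
noncomputable def Psi1 : S ⊗[R] MonoidAlgebra S M ≃ₗ[R] (M →₀ S ⊗[R] S) :=
  tcoef S (MonoidAlgebra.coeffLinearEquiv R)

theorem Psi1_tmul (a : S) (p : MonoidAlgebra S M) (n : M) :
    Psi1 R S M (a ⊗ₜ[R] p) n = a ⊗ₜ[R] p.coeff n := tcoef_tmul S _ a p n

theorem Psi1_single (a : S) (k : M) (s : S) :
    Psi1 R S M (a ⊗ₜ[R] MonoidAlgebra.single k s) = Finsupp.single k (a ⊗ₜ[R] s) := by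
  ext n
  rw [Psi1_tmul, MonoidAlgebra.coeff_single, Finsupp.single_apply, Finsupp.single_apply]
  split_ifs <;> simp

variable {R S M}

theorem tb_induction {motive : S ⊗[R] MonoidAlgebra S M → Prop} (x : S ⊗[R] MonoidAlgebra S M)
    (zero : motive 0) (add : ∀ x y, motive x → motive y → motive (x + y))
    (single : ∀ (a : S) (k : M) (s : S), motive (a ⊗ₜ[R] MonoidAlgebra.single k s)) :
    motive x := by
  induction x using TensorProduct.induction_on with
  | zero => exact zero
  | add x y hx hy => exact add x y hx hy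
  | tmul a p =>
    induction p using MonoidAlgebra.induction_linear with
    | zero => rw [TensorProduct.tmul_zero]; exact zero
    | add p q hp hq => rw [TensorProduct.tmul_add]; exact add _ _ hp hq
    | single k s => exact single a k s

variable (R S M)

theorem Psi1_smul (s : S) (x : S ⊗[R] MonoidAlgebra S M) (n : M) :
    Psi1 R S M (s • x) n = (s ⊗ₜ[R] (1 : S)) * Psi1 R S M x n := by
  induction x using TensorProduct.induction_on with
  | zero => simp
  | add x y hx hy =>
    rw [smul_add, map_add, Finsupp.add_apply, hx, hy, map_add, Finsupp.add_apply, mul_add]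
  | tmul a p =>
    rw [TensorProduct.smul_tmul', Psi1_tmul, Psi1_tmul, Algebra.TensorProduct.tmul_mul_tmul,
      one_mul, smul_eq_mul]

/-- Mathlib's algebra isomorphism `S ⊗ S[M] ≅ (S ⊗ S)[M]` -/
noncomputable def Phi : S ⊗[R] MonoidAlgebra S M ≃ₐ[S] MonoidAlgebra (S ⊗[R] S) M :=
  MonoidAlgebra.rTensorEquivAlgEquiv R S S S

theorem Phi_coeff (x : S ⊗[R] MonoidAlgebra S M) (n : M) :
    (Phi R S M x).coeff n = Psi1 R S M x n := by
  induction x using TensorProduct.induction_on with
  | zero => simp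
  | add x y hx hy =>
    rw [map_add, MonoidAlgebra.coeff_add, Finsupp.add_apply, hx, hy, map_add, Finsupp.add_apply]
  | tmul a p =>
    rw [Phi, MonoidAlgebra.rTensorEquiv_tmulAlgEquiv, Psi1_tmul, MonoidAlgebra.coeff_smul,
      Finsupp.smul_apply, MonoidAlgebra.coeff_mapAlgHom, Algebra.TensorProduct.includeRight_apply,
      TensorProduct.smul_tmul', smul_eq_mul, mul_one]

theorem Phi_coeff' (x : S ⊗[R] MonoidAlgebra S M) : (Phi R S M x).coeff = Psi1 R S M x :=
  Finsupp.ext (Phi_coeff R S M x)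

/-- the projections -/
noncomputable def p12 : S ⊗[R] S →ₐ[R] S ⊗[R] (S ⊗[R] S) :=
  Algebra.TensorProduct.map (AlgHom.id R S) (Algebra.TensorProduct.includeLeft : S →ₐ[R] S ⊗[R] S)

noncomputable def p13 : S ⊗[R] S →ₐ[R] S ⊗[R] (S ⊗[R] S) :=
  Algebra.TensorProduct.map (AlgHom.id R S) (Algebra.TensorProduct.includeRight : S →ₐ[R] S ⊗[R] S)

noncomputable def p23 : S ⊗[R] S →ₐ[R] S ⊗[R] (S ⊗[R] S) := Algebra.TensorProduct.includeRight

noncomputable def mulS : S ⊗[R] S →ₐ[R] S := Algebra.TensorProduct.lmul' R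

theorem p12_tmul (a b : S) : p12 R S (a ⊗ₜ[R] b) = a ⊗ₜ[R] (b ⊗ₜ[R] (1 : S)) := rfl

theorem p13_tmul (a b : S) : p13 R S (a ⊗ₜ[R] b) = a ⊗ₜ[R] ((1 : S) ⊗ₜ[R] b) := rfl

theorem p23_apply (t : S ⊗[R] S) : p23 R S t = (1 : S) ⊗ₜ[R] t := rfl

theorem mulS_tmul (a b : S) : mulS R S (a ⊗ₜ[R] b) = a * b :=
  Algebra.TensorProduct.lmul'_apply_tmul a b

theorem coeff_mu (x : S ⊗[R] MonoidAlgebra S M) (n : M) :
    (mu R S (MonoidAlgebra S M) x).coeff n = mulS R S (Psi1 R S M x n) := by
  induction x using TensorProduct.induction_on with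
  | zero => simp
  | add x y hx hy =>
    rw [map_add, MonoidAlgebra.coeff_add, Finsupp.add_apply, hx, hy, map_add, Finsupp.add_apply,
      map_add]
  | tmul a p =>
    rw [mu_tmul, Psi1_tmul, mulS_tmul, MonoidAlgebra.coeff_smul, Finsupp.smul_apply, smul_eq_mul]

/-- level two coefficients -/
noncomputable def Psi2 :
    S ⊗[R] (S ⊗[R] MonoidAlgebra S M) ≃ₗ[R] (M →₀ S ⊗[R] (S ⊗[R] S)) :=
  tcoef S (Psi1 R S M)

theorem Psi2_tmul (a : S) (x : S ⊗[R] MonoidAlgebra S M) (n : M) :
    Psi2 R S M (a ⊗ₜ[R] x) n = a ⊗ₜ[R] Psi1 R S M x n := tcoef_tmul S _ a x n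

theorem Psi2_eta (x : S ⊗[R] MonoidAlgebra S M) (n : M) :
    Psi2 R S M (LinearMap.lTensor S (eta R S (MonoidAlgebra S M)) x) n =
      p13 R S (Psi1 R S M x n) := by
  induction x using TensorProduct.induction_on with
  | zero => simp
  | add x y hx hy => simp only [map_add, Finsupp.add_apply, hx, hy]
  | tmul a p =>
    rw [LinearMap.lTensor_tmul, eta_apply, Psi2_tmul, Psi1_tmul, Psi1_tmul, p13_tmul]

variable {R S M}

/-- the matrix of an `S`-linear map `ρ` -/
noncomputable def gm (ρ : MonoidAlgebra S M →ₗ[S] S ⊗[R] MonoidAlgebra S M) (m : M) :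
    M →₀ S ⊗[R] S :=
  Psi1 R S M (ρ (MonoidAlgebra.single m 1))

theorem Psi1_rho_single (ρ : MonoidAlgebra S M →ₗ[S] S ⊗[R] MonoidAlgebra S M)
    (k : M) (s : S) (n : M) :
    Psi1 R S M (ρ (MonoidAlgebra.single k s)) n = (s ⊗ₜ[R] (1 : S)) * gm ρ k n := by
  have h : MonoidAlgebra.single k s = s • (MonoidAlgebra.single k (1 : S) : MonoidAlgebra S M) := by
    rw [MonoidAlgebra.smul_single', mul_one]
  rw [h, map_smul, Psi1_smul]
  rfl

theorem Psi2_rho (ρ : MonoidAlgebra S M →ₗ[S] S ⊗[R] MonoidAlgebra S M)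
    (x : S ⊗[R] MonoidAlgebra S M) (n' : M) :
    Psi2 R S M (LinearMap.lTensor S (ρ.restrictScalars R) x) n' =
      (Psi1 R S M x).sum (fun n t => p12 R S t * p23 R S (gm ρ n n')) := by
  induction x using tb_induction with
  | zero => simp
  | add x y hx hy =>
    rw [map_add, map_add, Finsupp.add_apply, hx, hy, map_add, Finsupp.sum_add_index']
    · intro n; simp
    · intro n t t'; rw [map_add, add_mul]
  | single a k s =>
    rw [LinearMap.lTensor_tmul, Psi1_single, Finsupp.sum_single_index (by simp), Psi2_tmul]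
    show a ⊗ₜ[R] Psi1 R S M (ρ (MonoidAlgebra.single k s)) n' = _
    rw [Psi1_rho_single, p12_tmul, p23_apply, Algebra.TensorProduct.tmul_mul_tmul, mul_one]

variable (R S M)

/-- coefficients on `B ⊗[S] B` -/
noncomputable def coefBB : (MonoidAlgebra S M ⊗[S] MonoidAlgebra S M) ≃ₗ[R] (M × M →₀ S) :=
  ((MonoidAlgebra.tensorEquiv S).restrictScalars R) ≪≫ₗ MonoidAlgebra.coeffLinearEquiv R

theorem coefBB_tmul (p q : MonoidAlgebra S M) (n n' : M) :
    coefBB R S M (p ⊗ₜ[S] q) (n, n') = p.coeff n * q.coeff n' := by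
  show (MonoidAlgebra.tensorEquiv S (p ⊗ₜ[S] q)).coeff (n, n') = _
  induction p using MonoidAlgebra.induction_linear with
  | zero => simp
  | add p p' hp hp' =>
    rw [TensorProduct.add_tmul, map_add, MonoidAlgebra.coeff_add, Finsupp.add_apply, hp, hp',
      MonoidAlgebra.coeff_add, Finsupp.add_apply, add_mul]
  | single k s =>
    induction q using MonoidAlgebra.induction_linear with
    | zero => simp
    | add q q' hq hq' =>
      rw [TensorProduct.tmul_add, map_add, MonoidAlgebra.coeff_add, Finsupp.add_apply, hq, hq',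
        MonoidAlgebra.coeff_add, Finsupp.add_apply, mul_add]
    | single k' s' =>
      rw [MonoidAlgebra.tensorEquiv_single_tmul_single, MonoidAlgebra.coeff_single,
        MonoidAlgebra.coeff_single, MonoidAlgebra.coeff_single, Finsupp.single_apply,
        Finsupp.single_apply, Finsupp.single_apply]
      by_cases h1 : k = n
      · by_cases h2 : k' = n'
        · simp [h1, h2]
        · simp [h1, h2]
      · simp [h1]

noncomputable def Psi11 :
    S ⊗[R] (MonoidAlgebra S M ⊗[S] MonoidAlgebra S M) ≃ₗ[R] (M × M →₀ S ⊗[R] S) :=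
  tcoef S (coefBB R S M)

theorem Psi11_tmul' (a : S) (z : MonoidAlgebra S M ⊗[S] MonoidAlgebra S M) (n n' : M) :
    Psi11 R S M (a ⊗ₜ[R] z) (n, n') = a ⊗ₜ[R] coefBB R S M z (n, n') := tcoef_tmul S _ a z _

theorem Psi11_tmul (a : S) (p q : MonoidAlgebra S M) (n n' : M) :
    Psi11 R S M (a ⊗ₜ[R] (p ⊗ₜ[S] q)) (n, n') = a ⊗ₜ[R] (p.coeff n * q.coeff n') := by
  rw [Psi11_tmul', coefBB_tmul]

theorem Psi11_boxt (x y : S ⊗[R] MonoidAlgebra S M) (n n' : M) :
    Psi11 R S M (boxt R S (MonoidAlgebra S M) (x ⊗ₜ[S] y)) (n, n') =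
      Psi1 R S M x n * Psi1 R S M y n' := by
  induction x using TensorProduct.induction_on with
  | zero => simp
  | add x x' hx hx' =>
    rw [TensorProduct.add_tmul, map_add, map_add, Finsupp.add_apply, hx, hx', map_add,
      Finsupp.add_apply, add_mul]
  | tmul a p =>
    induction y using TensorProduct.induction_on with
    | zero => simp
    | add y y' hy hy' =>
      rw [TensorProduct.tmul_add, map_add, map_add, Finsupp.add_apply, hy, hy', map_add,
        Finsupp.add_apply, mul_add]
    | tmul a' q =>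
      rw [boxt_tmul, Psi11_tmul, Psi1_tmul, Psi1_tmul, Algebra.TensorProduct.tmul_mul_tmul]

theorem coefBB_comul (p : MonoidAlgebra S M) (n n' : M) :
    coefBB R S M (Coalgebra.comul (R := S) p) (n, n') = if n = n' then p.coeff n else 0 := by
  induction p using MonoidAlgebra.induction_linear with
  | zero => simp
  | add p q hp hq =>
    rw [map_add, map_add, Finsupp.add_apply, hp, hq, MonoidAlgebra.coeff_add, Finsupp.add_apply]
    split_ifs <;> simp
  | single k s =>
    rw [MonoidAlgebra.comul_single, CommSemiring.comul_apply, TensorProduct.map_tmul,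
      MonoidAlgebra.lsingle_apply, MonoidAlgebra.lsingle_apply, coefBB_tmul,
      MonoidAlgebra.coeff_single, MonoidAlgebra.coeff_single, Finsupp.single_apply,
      Finsupp.single_apply]
    by_cases h1 : k = n
    · by_cases h2 : k = n'
      · have : n = n' := h1.symm.trans h2
        simp [h1, this]
      · have : ¬ n = n' := fun h => h2 (h1.trans h)
        simp [h1, h2, this]
    · by_cases h3 : n = n'
      · subst h3
        simp [h1]
      · simp [h1, h3]

theorem Psi11_comul (x : S ⊗[R] MonoidAlgebra S M) (n n' : M) :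
    Psi11 R S M (LinearMap.lTensor S
        ((Coalgebra.comul (R := S) (A := MonoidAlgebra S M)).restrictScalars R) x) (n, n') =
      if n = n' then Psi1 R S M x n else 0 := by
  induction x using TensorProduct.induction_on with
  | zero => simp
  | add x y hx hy =>
    rw [map_add, map_add, Finsupp.add_apply, hx, hy, map_add, Finsupp.add_apply]
    split_ifs <;> simp
  | tmul a p =>
    rw [LinearMap.lTensor_tmul]
    show Psi11 R S M (a ⊗ₜ[R] Coalgebra.comul (R := S) p) (n, n') = _
    rw [Psi11_tmul', coefBB_comul, Psi1_tmul]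
    split_ifs <;> simp

theorem lTensor_counit_eq (x : S ⊗[R] MonoidAlgebra S M) :
    LinearMap.lTensor S
        ((Coalgebra.counit (R := S) (A := MonoidAlgebra S M)).restrictScalars R) x =
      (Psi1 R S M x).sum (fun _ t => t) := by
  induction x using tb_induction with
  | zero => simp
  | add x y hx hy =>
    rw [map_add, map_add, hx, hy, Finsupp.sum_add_index' (fun _ => rfl) (fun _ _ _ => rfl)]
  | single a k s =>
    rw [LinearMap.lTensor_tmul, Psi1_single, Finsupp.sum_single_index rfl]
    show a ⊗ₜ[R] Coalgebra.counit (R := S) (MonoidAlgebra.single k s) = _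
    rw [MonoidAlgebra.counit_single, CommSemiring.counit_apply]

theorem Psi1_antipode (x : S ⊗[R] MonoidAlgebra S M) (n : M) :
    Psi1 R S M (LinearMap.lTensor S
        ((HopfAlgebra.antipode S (A := MonoidAlgebra S M)).restrictScalars R) x) n =
      Psi1 R S M x n⁻¹ := by
  induction x using tb_induction with
  | zero => simp
  | add x y hx hy => simp only [map_add, Finsupp.add_apply, hx, hy]
  | single a k s =>
    rw [LinearMap.lTensor_tmul, Psi1_single]
    show Psi1 R S M (a ⊗ₜ[R] HopfAlgebra.antipode S (MonoidAlgebra.single k s)) n = _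
    rw [MonoidAlgebra.antipode_single, Psi1_single, Finsupp.single_apply, Finsupp.single_apply,
      CommSemiring.antipode_eq_id]
    by_cases h : k = n⁻¹
    · have : k⁻¹ = n := by rw [h, inv_inv]
      simp [h]
    · have : ¬ k⁻¹ = n := fun h' => h (by rw [← h', inv_inv])
      simp [h, this]

end Coef

end Groth.Agent.H9.DES
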