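import Mathlib
import Groth.Agent.Lib.Helper9.Misc.DES6

/-!
# Hopf descent data on group algebras as matrices of idempotents (helper9)
-/

set_option autoImplicit false
set_option linter.unusedSectionVars false
set_option linter.unusedVariables false

namespace Groth.Agent.H9.DES

open TensorProduct
open scoped Classical

universe u

section Aux

variable {R : Type u} {S : Type u} [CommRing R] [CommRing S] [Algebra R S]

theorem lTensor_smul_left {X Y : Type*} [AddCommGroup X] [Module R X] [AddCommGroup Y] [Module R Y]
    (f : X →ₗ[R] Y) (s : S) (x : S ⊗[R] X) :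
    LinearMap.lTensor S f (s • x) = s • LinearMap.lTensor S f x := by
  induction x using TensorProduct.induction_on with
  | zero => simp
  | add x y hx hy => rw [smul_add, map_add, hx, hy, map_add, smul_add]
  | tmul a y => rw [TensorProduct.smul_tmul', LinearMap.lTensor_tmul, LinearMap.lTensor_tmul,
      TensorProduct.smul_tmul']

theorem HopfDescData.ext_rho {B : Type u} [CommRing B] [HopfAlgebra S B] [Algebra R B]
    [IsScalarTower R S B] (D D' : HopfDescData R S B) (h : ∀ b, D.ρ b = D'.ρ b) : D = D' := by
  have h' : D.ρ = D'.ρ := LinearMap.ext h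
  rcases D with ⟨⟨ρ, c1, c2⟩, a1, a2, a3, a4, a5⟩
  rcases D' with ⟨⟨ρ', c1', c2'⟩, a1', a2', a3', a4', a5'⟩
  simp only at h'
  subst h'
  rfl

end Aux

section MDD

variable (R : Type u) (S : Type u) [CommRing R] [CommRing S] [Algebra R S]
  (M : Type u) [CommGroup M]

/-- A Hopf descent datum on `S[M]` relative to `R → S`, as a matrix of idempotents of `S ⊗ S`. -/
structure MDD where
  g : M → MonoidAlgebra (S ⊗[R] S) M
  map_one : g 1 = 1
  map_mul : ∀ m m', g (m * m') = g m * g m'
  orth : ∀ m n n', (g m).coeff n * (g m).coeff n' = if n = n' then (g m).coeff n else 0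
  sum_one : ∀ m, (g m).coeff.sum (fun _ t => t) = 1
  unit : ∀ m n, mulS R S ((g m).coeff n) = if m = n then 1 else 0
  cocycle : ∀ m n', (g m).coeff.sum (fun n t => p12 R S t * p23 R S ((g n).coeff n')) =
    p13 R S ((g m).coeff n')
  inv : ∀ m n, (g m).coeff n⁻¹ = (g m⁻¹).coeff n

namespace MDD

variable {R S M} (G : MDD R S M)

/-- the group-like elements `γ m` -/
noncomputable def gam : M →* S ⊗[R] MonoidAlgebra S M where
  toFun m := (Phi R S M).symm (G.g m)
  map_one' := by rw [G.map_one, _root_.map_one]
  map_mul' m m' := by rw [G.map_mul, _root_.map_mul]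

theorem Psi1_gam (m n : M) : Psi1 R S M (G.gam m) n = (G.g m).coeff n := by
  rw [← Phi_coeff]
  show (Phi R S M ((Phi R S M).symm (G.g m))).coeff n = _
  rw [AlgEquiv.apply_symm_apply]

theorem Psi1_gam' (m : M) : Psi1 R S M (G.gam m) = (G.g m).coeff := Finsupp.ext (G.Psi1_gam m)

/-- the coaction as an algebra map -/
noncomputable def rhoAlg : MonoidAlgebra S M →ₐ[S] S ⊗[R] MonoidAlgebra S M :=
  MonoidAlgebra.lift S (S ⊗[R] MonoidAlgebra S M) M G.gam

theorem rhoAlg_single (m : M) (s : S) : G.rhoAlg (MonoidAlgebra.single m s) = s • G.gam m :=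
  MonoidAlgebra.lift_single _ _ _

theorem gm_rhoAlg (m n : M) : gm G.rhoAlg.toLinearMap m n = (G.g m).coeff n := by
  show Psi1 R S M (G.rhoAlg (MonoidAlgebra.single m 1)) n = _
  rw [rhoAlg_single, one_smul, Psi1_gam]

theorem mu_gam (m : M) :
    mu R S (MonoidAlgebra S M) (G.gam m) = MonoidAlgebra.single m 1 := by
  apply MonoidAlgebra.coeff_injective
  ext n
  rw [coeff_mu, Psi1_gam, G.unit, MonoidAlgebra.coeff_single, Finsupp.single_apply]

theorem coassoc_gam (m : M) :
    LinearMap.lTensor S (G.rhoAlg.toLinearMap.restrictScalars R) (G.gam m) =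
      LinearMap.lTensor S (eta R S (MonoidAlgebra S M)) (G.gam m) := by
  apply (Psi2 R S M).injective
  ext n'
  rw [Psi2_rho, Psi2_eta, Psi1_gam, Psi1_gam']
  simp only [gm_rhoAlg]
  exact G.cocycle m n'

theorem comul_compat_single (m : M) (s : S) :
    boxt R S (MonoidAlgebra S M)
        (TensorProduct.map G.rhoAlg.toLinearMap G.rhoAlg.toLinearMap
          (Coalgebra.comul (R := S) (MonoidAlgebra.single m s))) =
      LinearMap.lTensor S
        ((Coalgebra.comul (R := S) (A := MonoidAlgebra S M)).restrictScalars R)
        (G.rhoAlg (MonoidAlgebra.single m s)) := by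
  apply (Psi11 R S M).injective
  ext ⟨n, n'⟩
  rw [MonoidAlgebra.comul_single, CommSemiring.comul_apply, TensorProduct.map_tmul,
    MonoidAlgebra.lsingle_apply, MonoidAlgebra.lsingle_apply, TensorProduct.map_tmul,
    Psi11_boxt, Psi11_comul]
  show Psi1 R S M (G.rhoAlg (MonoidAlgebra.single m 1)) n *
      Psi1 R S M (G.rhoAlg (MonoidAlgebra.single m s)) n' =
    if n = n' then Psi1 R S M (G.rhoAlg (MonoidAlgebra.single m s)) n else 0
  rw [rhoAlg_single, rhoAlg_single, one_smul, Psi1_smul, Psi1_smul, Psi1_gam, Psi1_gam,
    mul_left_comm, G.orth]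
  split_ifs <;> simp

theorem counit_gam (m : M) :
    LinearMap.lTensor S
        ((Coalgebra.counit (R := S) (A := MonoidAlgebra S M)).restrictScalars R) (G.gam m) = 1 := by
  rw [lTensor_counit_eq, Psi1_gam', G.sum_one]

theorem antipode_gam (m : M) :
    LinearMap.lTensor S
        ((HopfAlgebra.antipode S (A := MonoidAlgebra S M)).restrictScalars R) (G.gam m) =
      G.gam m⁻¹ := by
  apply (Psi1 R S M).injective
  ext n
  rw [Psi1_antipode, Psi1_gam, Psi1_gam, G.inv]

/-- the Hopf descent datum attached to a matrix descent datum -/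
noncomputable def toHDD : HopfDescData R S (MonoidAlgebra S M) where
  ρ := G.rhoAlg.toLinearMap
  counit := by
    intro b
    show mu R S _ (G.rhoAlg b) = b
    induction b using MonoidAlgebra.induction_linear with
    | zero => simp
    | add p q hp hq => rw [map_add, map_add, hp, hq]
    | single m s => rw [rhoAlg_single, map_smul, mu_gam, MonoidAlgebra.smul_single', mul_one]
  coassoc := by
    intro b
    show LinearMap.lTensor S (G.rhoAlg.toLinearMap.restrictScalars R) (G.rhoAlg b) =
      LinearMap.lTensor S (eta R S (MonoidAlgebra S M)) (G.rhoAlg b)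
    induction b using MonoidAlgebra.induction_linear with
    | zero => simp
    | add p q hp hq => rw [map_add, map_add, map_add, hp, hq]
    | single m s => rw [rhoAlg_single, lTensor_smul_left, lTensor_smul_left, coassoc_gam]
  map_one := _root_.map_one G.rhoAlg
  map_mul := _root_.map_mul G.rhoAlg
  comul_compat := by
    intro b
    show boxt R S (MonoidAlgebra S M)
        (TensorProduct.map G.rhoAlg.toLinearMap G.rhoAlg.toLinearMap
          (Coalgebra.comul (R := S) b)) =
      LinearMap.lTensor S
        ((Coalgebra.comul (R := S) (A := MonoidAlgebra S M)).restrictScalars R) (G.rhoAlg b)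
    induction b using MonoidAlgebra.induction_linear with
    | zero => simp
    | add p q hp hq => rw [map_add, map_add, map_add, map_add, map_add, hp, hq]
    | single m s => exact G.comul_compat_single m s
  counit_compat := by
    intro b
    show LinearMap.lTensor S
        ((Coalgebra.counit (R := S) (A := MonoidAlgebra S M)).restrictScalars R) (G.rhoAlg b) =
      (Coalgebra.counit (R := S) b) ⊗ₜ[R] (1 : S)
    induction b using MonoidAlgebra.induction_linear with
    | zero => simp
    | add p q hp hq => rw [map_add, map_add, map_add, hp, hq, TensorProduct.add_tmul]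
    | single m s =>
      rw [rhoAlg_single, lTensor_smul_left, counit_gam, MonoidAlgebra.counit_single,
        CommSemiring.counit_apply, Algebra.TensorProduct.one_def, TensorProduct.smul_tmul',
        smul_eq_mul, mul_one]
  antipode_compat := by
    intro b
    show LinearMap.lTensor S
        ((HopfAlgebra.antipode S (A := MonoidAlgebra S M)).restrictScalars R) (G.rhoAlg b) =
      G.rhoAlg (HopfAlgebra.antipode S b)
    induction b using MonoidAlgebra.induction_linear with
    | zero => simp
    | add p q hp hq => rw [map_add, map_add, map_add, map_add, hp, hq]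
    | single m s =>
      rw [rhoAlg_single, lTensor_smul_left, antipode_gam, MonoidAlgebra.antipode_single,
        CommSemiring.antipode_eq_id, LinearMap.id_apply, rhoAlg_single]

theorem toHDD_rho (b : MonoidAlgebra S M) : G.toHDD.ρ b = G.rhoAlg b := rfl

theorem toHDD_rho_single (m : M) : G.toHDD.ρ (MonoidAlgebra.single m 1) = G.gam m := by
  rw [toHDD_rho, rhoAlg_single, one_smul]

end MDD

variable {R S M}

/-- the matrix descent datum attached to a Hopf descent datum on `S[M]` -/
noncomputable def MDD.ofHDD (D : HopfDescData R S (MonoidAlgebra S M)) : MDD R S M where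
  g m := Phi R S M (D.ρ (MonoidAlgebra.single m 1))
  map_one := by
    show Phi R S M (D.ρ (MonoidAlgebra.single 1 1)) = 1
    rw [← MonoidAlgebra.one_def, D.map_one, _root_.map_one]
  map_mul m m' := by
    show Phi R S M (D.ρ (MonoidAlgebra.single (m * m') 1)) = _
    have h : (MonoidAlgebra.single (m * m') (1 : S) : MonoidAlgebra S M) =
        MonoidAlgebra.single m 1 * MonoidAlgebra.single m' 1 := by
      rw [MonoidAlgebra.single_mul_single, mul_one]
    rw [h, D.map_mul, _root_.map_mul]
  orth m n n' := by
    rw [Phi_coeff, Phi_coeff]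
    have h := congrArg (fun z => Psi11 R S M z (n, n')) (D.comul_compat (MonoidAlgebra.single m 1))
    beta_reduce at h
    rw [MonoidAlgebra.comul_single, CommSemiring.comul_apply, TensorProduct.map_tmul,
      MonoidAlgebra.lsingle_apply, TensorProduct.map_tmul,
      Psi11_boxt, Psi11_comul] at h
    exact h
  sum_one m := by
    rw [Phi_coeff']
    have h := D.counit_compat (MonoidAlgebra.single m 1)
    rw [lTensor_counit_eq, MonoidAlgebra.counit_single, CommSemiring.counit_apply] at h
    rw [h, Algebra.TensorProduct.one_def]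
  unit m n := by
    rw [Phi_coeff, ← coeff_mu, D.counit, MonoidAlgebra.coeff_single, Finsupp.single_apply]
  cocycle m n' := by
    rw [Phi_coeff, Phi_coeff']
    have h := congrArg (fun z => Psi2 R S M z n') (D.coassoc (MonoidAlgebra.single m 1))
    beta_reduce at h
    rw [Psi2_rho, Psi2_eta] at h
    rw [← h]
    refine Finsupp.sum_congr (fun n _ => ?_)
    rw [Phi_coeff]
    rfl
  inv m n := by
    rw [Phi_coeff, Phi_coeff]
    have h := congrArg (fun z => Psi1 R S M z n) (D.antipode_compat (MonoidAlgebra.single m 1))
    beta_reduce at h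
    rw [Psi1_antipode, MonoidAlgebra.antipode_single, CommSemiring.antipode_eq_id,
      LinearMap.id_apply] at h
    exact h

theorem MDD.ofHDD_coeff (D : HopfDescData R S (MonoidAlgebra S M)) (m n : M) :
    ((MDD.ofHDD D).g m).coeff n = Psi1 R S M (D.ρ (MonoidAlgebra.single m 1)) n :=
  Phi_coeff R S M _ n

theorem MDD.gam_ofHDD (D : HopfDescData R S (MonoidAlgebra S M)) (m : M) :
    (MDD.ofHDD D).gam m = D.ρ (MonoidAlgebra.single m 1) :=
  (Phi R S M).symm_apply_apply _

theorem MDD.toHDD_ofHDD (D : HopfDescData R S (MonoidAlgebra S M)) : (MDD.ofHDD D).toHDD = D := by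
  apply HopfDescData.ext_rho
  intro b
  induction b using MonoidAlgebra.induction_linear with
  | zero => simp
  | add p q hp hq => rw [map_add, map_add, hp, hq]
  | single m s =>
    have h : MonoidAlgebra.single m s = s • (MonoidAlgebra.single m (1 : S) : MonoidAlgebra S M) := by
      rw [MonoidAlgebra.smul_single', mul_one]
    rw [h, map_smul, map_smul, MDD.toHDD_rho_single, MDD.gam_ofHDD]

end MDD

end Groth.Agent.H9.DES
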