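import Mathlib
import Groth.Agent.Lib.Helper9.Misc.DES7

/-!
# Lifting matrix descent data along a reduction with unique idempotent lifting (helper9)
-/

set_option autoImplicit false
set_option linter.unusedSectionVars false
set_option linter.unusedVariables false

namespace Groth.Agent.H9.DES

open TensorProduct
open scoped Classical

universe u

section Red

variable {R S R₀ S₀ : Type u} [CommRing R] [CommRing S] [Algebra R S] [CommRing R₀] [CommRing S₀]
  [Algebra R₀ S₀] [Algebra R R₀] [Algebra R S₀] [IsScalarTower R R₀ S₀] (r : S →ₐ[R] S₀)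

variable (R₀)

/-- reduction on `S ⊗ S` -/
noncomputable def rr2 : S ⊗[R] S →ₐ[R] S₀ ⊗[R₀] S₀ :=
  Algebra.TensorProduct.lift
    (((Algebra.TensorProduct.includeLeft : S₀ →ₐ[R₀] S₀ ⊗[R₀] S₀).restrictScalars R).comp r)
    (((Algebra.TensorProduct.includeRight : S₀ →ₐ[R₀] S₀ ⊗[R₀] S₀).restrictScalars R).comp r)
    (fun _ _ => Commute.all _ _)

theorem rr2_tmul (a b : S) : rr2 R₀ r (a ⊗ₜ[R] b) = r a ⊗ₜ[R₀] r b := by
  rw [rr2, Algebra.TensorProduct.lift_tmul]
  show (r a ⊗ₜ[R₀] (1 : S₀)) * ((1 : S₀) ⊗ₜ[R₀] r b) = _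
  rw [Algebra.TensorProduct.tmul_mul_tmul, mul_one, one_mul]

/-- reduction on `S ⊗ (S ⊗ S)` -/
noncomputable def rr3 : S ⊗[R] (S ⊗[R] S) →ₐ[R] S₀ ⊗[R₀] (S₀ ⊗[R₀] S₀) :=
  Algebra.TensorProduct.lift
    (((Algebra.TensorProduct.includeLeft :
      S₀ →ₐ[R₀] S₀ ⊗[R₀] (S₀ ⊗[R₀] S₀)).restrictScalars R).comp r)
    (((Algebra.TensorProduct.includeRight :
      (S₀ ⊗[R₀] S₀) →ₐ[R₀] S₀ ⊗[R₀] (S₀ ⊗[R₀] S₀)).restrictScalars R).comp (rr2 R₀ r))
    (fun _ _ => Commute.all _ _)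

theorem rr3_tmul (a : S) (t : S ⊗[R] S) : rr3 R₀ r (a ⊗ₜ[R] t) = r a ⊗ₜ[R₀] rr2 R₀ r t := by
  rw [rr3, Algebra.TensorProduct.lift_tmul]
  show (r a ⊗ₜ[R₀] (1 : S₀ ⊗[R₀] S₀)) * ((1 : S₀) ⊗ₜ[R₀] rr2 R₀ r t) = _
  rw [Algebra.TensorProduct.tmul_mul_tmul, mul_one, one_mul]

theorem rr3_p12 (t : S ⊗[R] S) : rr3 R₀ r (p12 R S t) = p12 R₀ S₀ (rr2 R₀ r t) := by
  induction t using TensorProduct.induction_on with
  | zero => simp
  | add x y hx hy => rw [map_add, map_add, hx, hy, map_add, map_add]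
  | tmul a b => rw [p12_tmul, rr3_tmul, rr2_tmul, rr2_tmul, p12_tmul, map_one]

theorem rr3_p13 (t : S ⊗[R] S) : rr3 R₀ r (p13 R S t) = p13 R₀ S₀ (rr2 R₀ r t) := by
  induction t using TensorProduct.induction_on with
  | zero => simp
  | add x y hx hy => rw [map_add, map_add, hx, hy, map_add, map_add]
  | tmul a b => rw [p13_tmul, rr3_tmul, rr2_tmul, rr2_tmul, p13_tmul, map_one]

theorem rr3_p23 (t : S ⊗[R] S) : rr3 R₀ r (p23 R S t) = p23 R₀ S₀ (rr2 R₀ r t) := by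
  rw [p23_apply, rr3_tmul, p23_apply, map_one]

theorem r_mulS (t : S ⊗[R] S) : r (mulS R S t) = mulS R₀ S₀ (rr2 R₀ r t) := by
  induction t using TensorProduct.induction_on with
  | zero => simp
  | add x y hx hy => rw [map_add, map_add, hx, hy, map_add, map_add]
  | tmul a b => rw [mulS_tmul, rr2_tmul, mulS_tmul, map_mul]

/-- unique lifting of idempotents along the reduction maps -/
structure LiftHyp : Prop where
  inj1 : ∀ e e' : S, IsIdempotentElem e → IsIdempotentElem e' → r e = r e' → e = e'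
  inj2 : ∀ e e' : S ⊗[R] S, IsIdempotentElem e → IsIdempotentElem e' →
    rr2 R₀ r e = rr2 R₀ r e' → e = e'
  surj2 : ∀ e₀ : S₀ ⊗[R₀] S₀, IsIdempotentElem e₀ →
    ∃ e : S ⊗[R] S, IsIdempotentElem e ∧ rr2 R₀ r e = e₀
  inj3 : ∀ e e' : S ⊗[R] (S ⊗[R] S), IsIdempotentElem e → IsIdempotentElem e' →
    rr3 R₀ r e = rr3 R₀ r e' → e = e'

variable {R₀} {r} (h : LiftHyp R₀ r)

/-- the idempotent lifting function -/
noncomputable def liftFn (e₀ : S₀ ⊗[R₀] S₀) : S ⊗[R] S :=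
  if h' : IsIdempotentElem e₀ then (h.surj2 e₀ h').choose else 0

theorem liftFn_idem (e₀ : S₀ ⊗[R₀] S₀) : IsIdempotentElem (liftFn h e₀) := by
  unfold liftFn
  split_ifs with h'
  · exact (h.surj2 e₀ h').choose_spec.1
  · exact IsIdempotentElem.zero

theorem rr2_liftFn (e₀ : S₀ ⊗[R₀] S₀) (h' : IsIdempotentElem e₀) : rr2 R₀ r (liftFn h e₀) = e₀ := by
  unfold liftFn
  rw [dif_pos h']
  exact (h.surj2 e₀ h').choose_spec.2

theorem liftFn_eq (e : S ⊗[R] S) (he : IsIdempotentElem e) : liftFn h (rr2 R₀ r e) = e :=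
  h.inj2 _ _ (liftFn_idem h _) he (rr2_liftFn h _ (he.map (rr2 R₀ r)))

theorem liftFn_zero : liftFn h (0 : S₀ ⊗[R₀] S₀) = 0 := by
  have := liftFn_eq h 0 IsIdempotentElem.zero
  rwa [map_zero] at this

theorem liftFn_one : liftFn h (1 : S₀ ⊗[R₀] S₀) = 1 := by
  have := liftFn_eq h 1 IsIdempotentElem.one
  rwa [map_one] at this

variable {M : Type u} [CommGroup M] (G₀ : MDD R₀ S₀ M)

/-- the lifted matrix -/
noncomputable def gl (m : M) : MonoidAlgebra (S ⊗[R] S) M :=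
  MonoidAlgebra.ofCoeff ((G₀.g m).coeff.mapRange (liftFn h) (liftFn_zero h))

theorem gl_coeff (m n : M) : (gl h G₀ m).coeff n = liftFn h ((G₀.g m).coeff n) := rfl

theorem G₀_idem (m n : M) : IsIdempotentElem ((G₀.g m).coeff n) := by
  have := G₀.orth m n n
  rw [if_pos rfl] at this
  exact this

theorem gl_idem (m n : M) : IsIdempotentElem ((gl h G₀ m).coeff n) := liftFn_idem h _

theorem rr2_gl (m n : M) : rr2 R₀ r ((gl h G₀ m).coeff n) = (G₀.g m).coeff n :=
  rr2_liftFn h _ (G₀_idem G₀ m n)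

theorem gl_orth (m n n' : M) :
    (gl h G₀ m).coeff n * (gl h G₀ m).coeff n' = if n = n' then (gl h G₀ m).coeff n else 0 := by
  split_ifs with hn
  · subst hn
    exact (gl_idem h G₀ m n).eq
  · apply h.inj2 _ _ ((gl_idem h G₀ m n).mul (gl_idem h G₀ m n')) IsIdempotentElem.zero
    rw [map_mul, rr2_gl, rr2_gl, G₀.orth, if_neg hn, map_zero]

theorem gl_orthIdem (m : M) : OrthogonalIdempotents (fun n => (gl h G₀ m).coeff n) where
  idem := gl_idem h G₀ m
  ortho := fun n n' hn => by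
    show (gl h G₀ m).coeff n * (gl h G₀ m).coeff n' = 0
    rw [gl_orth, if_neg hn]

theorem gl_sum (m : M) {X : Type*} [AddCommMonoid X] (F : M → S ⊗[R] S → X) (hF : ∀ n, F n 0 = 0) :
    (gl h G₀ m).coeff.sum F = ∑ n ∈ (G₀.g m).coeff.support, F n ((gl h G₀ m).coeff n) := by
  show ((G₀.g m).coeff.mapRange (liftFn h) (liftFn_zero h)).sum F = _
  rw [Finsupp.sum_mapRange_index hF]
  rfl

theorem gl_sum_one (m : M) : (gl h G₀ m).coeff.sum (fun _ t => t) = 1 := by
  rw [gl_sum h G₀ m (fun _ t => t) (fun _ => rfl)]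
  apply h.inj2 _ _ (gl_orthIdem h G₀ m).isIdempotentElem_sum IsIdempotentElem.one
  rw [map_sum, map_one]
  simp only [rr2_gl]
  exact G₀.sum_one m

theorem gl_one : gl h G₀ 1 = 1 := by
  apply MonoidAlgebra.coeff_injective
  ext n
  rw [gl_coeff, G₀.map_one, MonoidAlgebra.one_def, MonoidAlgebra.one_def,
    MonoidAlgebra.coeff_single, MonoidAlgebra.coeff_single, Finsupp.single_apply,
    Finsupp.single_apply]
  split_ifs
  · exact liftFn_one h
  · exact liftFn_zero h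

theorem mapRingHom_gl (m : M) :
    MonoidAlgebra.mapRingHom M (rr2 R₀ r : S ⊗[R] S →+* S₀ ⊗[R₀] S₀) (gl h G₀ m) = G₀.g m := by
  apply MonoidAlgebra.coeff_injective
  ext n
  rw [MonoidAlgebra.coeff_mapRingHom]
  exact rr2_gl h G₀ m n

theorem gl_mul (m m' : M) : gl h G₀ (m * m') = gl h G₀ m * gl h G₀ m' := by
  apply MonoidAlgebra.coeff_injective
  ext n
  have hidem : IsIdempotentElem ((gl h G₀ m * gl h G₀ m').coeff n) := by
    rw [MonoidAlgebra.coeff_mul_apply_left,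
      gl_sum h G₀ m (fun k t => t * (gl h G₀ m').coeff (k⁻¹ * n)) (fun _ => zero_mul _)]
    have : OrthogonalIdempotents
        (fun k => (gl h G₀ m).coeff k * (gl h G₀ m').coeff (k⁻¹ * n)) :=
      { idem := fun k => (gl_idem h G₀ m k).mul (gl_idem h G₀ m' _)
        ortho := fun k k' hk => by
          show (gl h G₀ m).coeff k * (gl h G₀ m').coeff (k⁻¹ * n) *
            ((gl h G₀ m).coeff k' * (gl h G₀ m').coeff (k'⁻¹ * n)) = 0
          rw [mul_mul_mul_comm, gl_orth, if_neg hk, zero_mul] }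
    exact this.isIdempotentElem_sum
  apply h.inj2 _ _ (gl_idem h G₀ _ n) hidem
  rw [rr2_gl, G₀.map_mul]
  have h1 : rr2 R₀ r ((gl h G₀ m * gl h G₀ m').coeff n) =
      (MonoidAlgebra.mapRingHom M (rr2 R₀ r : S ⊗[R] S →+* S₀ ⊗[R₀] S₀)
        (gl h G₀ m * gl h G₀ m')).coeff n := by
    rw [MonoidAlgebra.coeff_mapRingHom]
    rfl
  rw [h1, map_mul, mapRingHom_gl, mapRingHom_gl]

theorem gl_unit (m n : M) : mulS R S ((gl h G₀ m).coeff n) = if m = n then 1 else 0 := by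
  have h1 : IsIdempotentElem (if m = n then (1 : S) else 0) := by
    split_ifs
    · exact IsIdempotentElem.one
    · exact IsIdempotentElem.zero
  apply h.inj1 _ _ ((gl_idem h G₀ m n).map (mulS R S)) h1
  rw [r_mulS R₀, rr2_gl, G₀.unit]
  split_ifs
  · rw [map_one]
  · rw [map_zero]

theorem gl_cocycle (m n' : M) :
    (gl h G₀ m).coeff.sum (fun n t => p12 R S t * p23 R S ((gl h G₀ n).coeff n')) =
      p13 R S ((gl h G₀ m).coeff n') := by
  rw [gl_sum h G₀ m (fun n t => p12 R S t * p23 R S ((gl h G₀ n).coeff n'))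
    (fun _ => by rw [map_zero, zero_mul])]
  have hO : OrthogonalIdempotents
      (fun n => p12 R S ((gl h G₀ m).coeff n) * p23 R S ((gl h G₀ n).coeff n')) :=
    { idem := fun n => ((gl_idem h G₀ m n).map (p12 R S)).mul ((gl_idem h G₀ n n').map (p23 R S))
      ortho := fun n k hn => by
        show p12 R S ((gl h G₀ m).coeff n) * p23 R S ((gl h G₀ n).coeff n') *
          (p12 R S ((gl h G₀ m).coeff k) * p23 R S ((gl h G₀ k).coeff n')) = 0
        rw [mul_mul_mul_comm, ← map_mul, gl_orth, if_neg hn, map_zero, zero_mul] }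
  apply h.inj3 _ _ hO.isIdempotentElem_sum ((gl_idem h G₀ m n').map (p13 R S))
  rw [map_sum, rr3_p13, rr2_gl, ← G₀.cocycle m n']
  simp only [map_mul, rr3_p12, rr3_p23, rr2_gl]
  rfl

theorem gl_inv (m n : M) : (gl h G₀ m).coeff n⁻¹ = (gl h G₀ m⁻¹).coeff n := by
  rw [gl_coeff, gl_coeff, G₀.inv]

/-- the lifted matrix descent datum -/
noncomputable def liftMDD : MDD R S M where
  g := gl h G₀
  map_one := gl_one h G₀
  map_mul := gl_mul h G₀
  orth := gl_orth h G₀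
  sum_one := gl_sum_one h G₀
  unit := gl_unit h G₀
  cocycle := gl_cocycle h G₀
  inv := gl_inv h G₀

theorem rr2_liftMDD (m n : M) : rr2 R₀ r (((liftMDD h G₀).g m).coeff n) = (G₀.g m).coeff n :=
  rr2_gl h G₀ m n

end Red

end Groth.Agent.H9.DES
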