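import Mathlib
import Groth.Agent.Lib.Helper9.Misc.DES8
import Groth.Agent.Lib.Helper9.MT.BaseChange

/-!
# Lifting forms of group algebras: compatibility with reduction (helper9)
-/

set_option autoImplicit false
set_option linter.unusedSectionVars false
set_option linter.unusedVariables false

namespace Groth.Agent.H9.DES

open TensorProduct
open scoped Classical

universe u

section Compat

variable {R S R₀ S₀ : Type u} [CommRing R] [CommRing S] [Algebra R S] [CommRing R₀] [CommRing S₀]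
  [Algebra R₀ S₀] [Algebra R R₀] [Algebra R S₀] [IsScalarTower R R₀ S₀] (r : S →ₐ[R] S₀)
  {M : Type u} [CommGroup M]

/-- reduction on group algebras -/
noncomputable def redB : MonoidAlgebra S M →ₐ[R] MonoidAlgebra S₀ M := MonoidAlgebra.mapAlgHom M r

theorem redB_single (m : M) (s : S) :
    redB r (MonoidAlgebra.single m s) = MonoidAlgebra.single m (r s) :=
  MonoidAlgebra.mapAlgHom_single r m s

theorem redB_coeff (p : MonoidAlgebra S M) (n : M) : (redB r p).coeff n = r (p.coeff n) :=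
  MonoidAlgebra.coeff_mapAlgHom r p n

variable (R₀)

/-- reduction on `S ⊗ S[M]` -/
noncomputable def red1 : S ⊗[R] MonoidAlgebra S M →ₗ[R] S₀ ⊗[R₀] MonoidAlgebra S₀ M :=
  cmap R R₀ r.toLinearMap (redB r (M := M)).toLinearMap

theorem red1_tmul (a : S) (p : MonoidAlgebra S M) :
    red1 R₀ r (a ⊗ₜ[R] p) = r a ⊗ₜ[R₀] redB r p := rfl

theorem Psi1_red1 (x : S ⊗[R] MonoidAlgebra S M) (n : M) :
    Psi1 R₀ S₀ M (red1 R₀ r x) n = rr2 R₀ r (Psi1 R S M x n) := by
  induction x using TensorProduct.induction_on with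
  | zero => simp
  | add x y hx hy => simp only [map_add, Finsupp.add_apply, hx, hy]
  | tmul a p => rw [red1_tmul, Psi1_tmul, Psi1_tmul, rr2_tmul, redB_coeff]

theorem red1_smul (s : S) (x : S ⊗[R] MonoidAlgebra S M) :
    red1 R₀ r (s • x) = r s • red1 R₀ r x := by
  induction x using TensorProduct.induction_on with
  | zero => simp
  | add x y hx hy => rw [smul_add, map_add, hx, hy, map_add, smul_add]
  | tmul a p =>
    rw [TensorProduct.smul_tmul', red1_tmul, red1_tmul, TensorProduct.smul_tmul', smul_eq_mul,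
      smul_eq_mul, map_mul]

theorem red1_rho (G : MDD R S M) (G₀ : MDD R₀ S₀ M)
    (hG : ∀ m n, rr2 R₀ r ((G.g m).coeff n) = (G₀.g m).coeff n) (b : MonoidAlgebra S M) :
    red1 R₀ r (G.toHDD.ρ b) = G₀.toHDD.ρ (redB r b) := by
  induction b using MonoidAlgebra.induction_linear with
  | zero => simp
  | add p q hp hq => rw [map_add, map_add, map_add, map_add, hp, hq]
  | single m s =>
    rw [MDD.toHDD_rho, MDD.rhoAlg_single, red1_smul, redB_single, MDD.toHDD_rho,
      MDD.rhoAlg_single]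
    congr 1
    apply (Psi1 R₀ S₀ M).injective
    ext n
    rw [Psi1_red1, MDD.Psi1_gam, MDD.Psi1_gam]
    exact hG m n

end Compat

section Compare

variable {R S R₀ S₀ : Type u} [CommRing R] [CommRing S] [Algebra R S] [CommRing R₀] [CommRing S₀]
  [Algebra R₀ S₀] [Algebra R R₀] [Algebra R S₀] [IsScalarTower R R₀ S₀] (r : S →ₐ[R] S₀)
  {M : Type u} [CommGroup M] [Module.FaithfullyFlat R₀ S₀]
  {A : Type u} [CommRing A] [HopfAlgebra R A] (θ : S ⊗[R] A ≃ₐc[S] MonoidAlgebra S M)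
  {A₀ : Type u} [CommRing A₀] [HopfAlgebra R₀ A₀] (θ₀ : S₀ ⊗[R₀] A₀ ≃ₐc[S₀] MonoidAlgebra S₀ M)

/-- If the reduction of the form `A` of `S[M]` lands in the invariants of the canonical descent
datum of the form `A₀` of `S₀[M]`, then `R₀ ⊗ A ≅ A₀`. -/
theorem nonempty_baseChange_equiv
    (hinv : ∀ a : A, (canonDesc θ₀).ρ (redB r (θ ((1 : S) ⊗ₜ[R] a))) =
      (1 : S₀) ⊗ₜ[R₀] redB r (θ ((1 : S) ⊗ₜ[R] a))) :
    Nonempty (R₀ ⊗[R] A ≃ₐc[R₀] A₀) := by
  letI : Algebra S S₀ := r.toRingHom.toAlgebra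
  haveI : IsScalarTower R S S₀ := IsScalarTower.of_algebraMap_eq (fun x => (r.commutes x).symm)
  let θ' : S₀ ⊗[R₀] (R₀ ⊗[R] A) ≃ₐc[S₀] MonoidAlgebra S₀ M :=
    (MT.cancelBC R R₀ S₀ A).trans
      ((MT.cancelBC R S S₀ A).symm.trans ((MT.bcEquiv S₀ θ).trans (MT.monAlgBC S S₀ M)))
  have hθ' : ∀ (s₀ : S₀) (x : R₀) (a : A),
      θ' (s₀ ⊗ₜ[R₀] (x ⊗ₜ[R] a)) = (x • s₀) • redB r (θ ((1 : S) ⊗ₜ[R] a)) := by
    intro s₀ x a
    show MT.monAlgBC S S₀ M (MT.bcEquiv S₀ θ ((MT.cancelBC R S S₀ A).symm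
      (MT.cancelBC R R₀ S₀ A (s₀ ⊗ₜ[R₀] (x ⊗ₜ[R] a))))) = _
    rw [MT.cancelBC_tmul, MT.cancelBC_symm_tmul, MT.bcEquiv_tmul, MT.monAlgBC_tmul]
    congr 1
  have hρ : ∀ w, canonRho θ' (θ' w) = (canonDesc θ₀).ρ (θ' w) := by
    intro w
    rw [canonRho_theta]
    induction w using TensorProduct.induction_on with
    | zero => simp
    | add x y hx hy => rw [map_add, map_add, map_add, hx, hy]
    | tmul s₀ z =>
      induction z using TensorProduct.induction_on with
      | zero => simp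
      | add x y hx hy => rw [TensorProduct.tmul_add, map_add, map_add, map_add, hx, hy]
      | tmul x a =>
        have h1 : lincl θ' (s₀ ⊗ₜ[R₀] (x ⊗ₜ[R] a)) =
            s₀ ⊗ₜ[R₀] θ' ((1 : S₀) ⊗ₜ[R₀] (x ⊗ₜ[R] a)) := lincl_tmul θ' s₀ (x ⊗ₜ[R] a)
        rw [h1, hθ', hθ', map_smul, hinv, TensorProduct.smul_tmul', smul_eq_mul, mul_one,
          smul_assoc, one_smul, TensorProduct.tmul_smul, TensorProduct.smul_tmul']
  have hEq : canonDesc θ' = canonDesc θ₀ := by
    apply HopfDescData.ext_rho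
    intro b₀
    have := hρ (θ'.symm b₀)
    rw [θ'.apply_symm_apply] at this
    exact this
  have e1 := formBialgEquiv θ'
  have e2 := formBialgEquiv θ₀
  rw [hEq] at e1
  letI := (canonDesc θ₀).hopf
  exact ⟨e1.trans e2.symm⟩

end Compare

section Lift

variable {R S R₀ S₀ : Type u} [CommRing R] [CommRing S] [Algebra R S] [CommRing R₀] [CommRing S₀]
  [Algebra R₀ S₀] [Algebra R R₀] [Algebra R S₀] [IsScalarTower R R₀ S₀] {r : S →ₐ[R] S₀}
  {M : Type u} [CommGroup M] [Module.FaithfullyFlat R S] [Module.FaithfullyFlat R₀ S₀]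
  {A₀ : Type u} [CommRing A₀] [HopfAlgebra R₀ A₀]

/-- Main lifting theorem (abstract form): a form of `S₀[M]` over `R₀` lifts to a form of `S[M]`
over `R`, provided idempotents lift uniquely along the reduction maps. -/
theorem exists_lift_form (h : LiftHyp R₀ r)
    (θ₀ : S₀ ⊗[R₀] A₀ ≃ₐc[S₀] MonoidAlgebra S₀ M) :
    ∃ (A : Type u) (_ : CommRing A) (_ : HopfAlgebra R A),
      Nonempty (S ⊗[R] A ≃ₐc[S] MonoidAlgebra S M) ∧ Nonempty (R₀ ⊗[R] A ≃ₐc[R₀] A₀) := by
  let D₀ := canonDesc θ₀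
  let G₀ := MDD.ofHDD D₀
  let G := liftMDD h G₀
  let D := G.toHDD
  letI := D.hopf
  refine ⟨D.invAlg, inferInstance, D.hopf, ⟨D.equiv⟩, ?_⟩
  apply nonempty_baseChange_equiv r D.equiv θ₀
  intro a
  rw [D.equiv_tmul, one_smul]
  have h1 := red1_rho R₀ r G G₀ (rr2_liftMDD h G₀) (a : MonoidAlgebra S M)
  rw [MDD.toHDD_ofHDD] at h1
  rw [← h1, (D.mem_invAlg a).1 a.2, red1_tmul, map_one]

end Lift

end Groth.Agent.H9.DES
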