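import Mathlib
import Groth.Agent.Lib.Helper9.Misc.DES9
import Groth.Agent.Lib.Helper8.HensPair.Integral

/-!
# Lifting forms of group algebras over a henselian pair (helper9)
-/

set_option autoImplicit false
set_option linter.unusedSectionVars false
set_option linter.unusedVariables false

namespace Groth.Agent.H9.DES

open TensorProduct
open scoped Classical

universe u

section Ker

variable {R : Type u} [CommRing R] (I : Ideal R)

theorem mem_map_of_one_tmul_eq_zero (X : Type*) [CommRing X] [Algebra R X] (x : X)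
    (h : (1 : R ⧸ I) ⊗ₜ[R] x = 0) : x ∈ I.map (algebraMap R X) := by
  have h1 : Algebra.TensorProduct.quotIdealMapEquivQuotTensor X I
      (Ideal.Quotient.mk (I.map (algebraMap R X)) x) = 0 := by
    rw [Algebra.TensorProduct.quotIdealMapEquivQuotTensor_mk]
    exact h
  have h2 : Ideal.Quotient.mk (I.map (algebraMap R X)) x = 0 :=
    (Algebra.TensorProduct.quotIdealMapEquivQuotTensor X I).injective (h1.trans (map_zero _).symm)
  exact Ideal.Quotient.eq_zero_iff_mem.mp h2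

theorem exists_one_tmul_eq (X : Type*) [CommRing X] [Algebra R X] (y : (R ⧸ I) ⊗[R] X) :
    ∃ x : X, (1 : R ⧸ I) ⊗ₜ[R] x = y := by
  obtain ⟨x, hx⟩ := Ideal.Quotient.mk_surjective
    ((Algebra.TensorProduct.quotIdealMapEquivQuotTensor X I).symm y)
  refine ⟨x, ?_⟩
  rw [← Algebra.TensorProduct.quotIdealMapEquivQuotTensor_mk, hx, AlgEquiv.apply_symm_apply]

theorem map_eq_zero_of_mem {X Y : Type*} [CommRing X] [Algebra R X] [CommRing Y] [Algebra R Y]
    [Algebra (R ⧸ I) Y] [IsScalarTower R (R ⧸ I) Y] (f : X →ₐ[R] Y) (x : X)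
    (hx : x ∈ I.map (algebraMap R X)) : f x = 0 := by
  have h : I.map (algebraMap R X) ≤ RingHom.ker (f : X →+* Y) := by
    rw [Ideal.map_le_iff_le_comap]
    intro i hi
    rw [Ideal.mem_comap, RingHom.mem_ker]
    show f (algebraMap R X i) = 0
    rw [f.commutes, IsScalarTower.algebraMap_apply R (R ⧸ I) Y, Ideal.Quotient.algebraMap_eq,
      Ideal.Quotient.eq_zero_iff_mem.mpr hi, map_zero]
  exact h hx

variable [HenselianRing R I]

theorem idem_inj_of_ker {X Y : Type*} [CommRing X] [Algebra R X] [Algebra.IsIntegral R X]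
    [CommRing Y] (f : X →+* Y) (hker : ∀ x, f x = 0 → x ∈ I.map (algebraMap R X)) (e e' : X)
    (he : IsIdempotentElem e) (he' : IsIdempotentElem e') (h : f e = f e') : e = e' := by
  apply Groth.Agent.H8.HensPair.idempotent_eq_of_sub_mem_jacobson he he'
  apply Groth.Agent.H8.HensPair.map_le_jacobson_of_isIntegral (HenselianRing.jac (I := I))
  apply hker
  rw [map_sub, h, sub_self]

theorem idem_surj_of_ker {X Y : Type*} [CommRing X] [Algebra R X] [Algebra.IsIntegral R X]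
    [CommRing Y] (f : X →+* Y) (hsurj : Function.Surjective f)
    (hker : ∀ x, f x = 0 → x ∈ I.map (algebraMap R X))
    (hI : ∀ x ∈ I.map (algebraMap R X), f x = 0) (e₀ : Y) (he₀ : IsIdempotentElem e₀) :
    ∃ e : X, IsIdempotentElem e ∧ f e = e₀ := by
  obtain ⟨y₀, rfl⟩ := hsurj e₀
  have h1 : y₀ * y₀ - y₀ ∈ I.map (algebraMap R X) := by
    apply hker
    rw [map_sub, map_mul, he₀.eq, sub_self]
  obtain ⟨e, he, hey⟩ := Groth.Agent.H8.HensPair.exists_idempotent_of_isIntegral I y₀ h1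
  refine ⟨e, he, ?_⟩
  have := hI _ hey
  rw [map_sub, sub_eq_zero] at this
  exact this

end Ker

section Abstract

variable {R : Type u} [CommRing R] (I : Ideal R)

theorem mem_map_of_liftBaseChange {X X' : Type*} [CommRing X] [Algebra R X] [AddCommGroup X']
    [Module R X'] [Module (R ⧸ I) X'] [IsScalarTower R (R ⧸ I) X'] (f : X →ₗ[R] X')
    (hf : Function.Injective (f.liftBaseChange (R ⧸ I))) (x : X) (hx : f x = 0) :
    x ∈ I.map (algebraMap R X) := by
  apply mem_map_of_one_tmul_eq_zero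
  apply hf
  rw [LinearMap.liftBaseChange_tmul, one_smul, hx, map_zero]

theorem exists_of_liftBaseChange {X X' : Type*} [CommRing X] [Algebra R X] [AddCommGroup X']
    [Module R X'] [Module (R ⧸ I) X'] [IsScalarTower R (R ⧸ I) X'] (f : X →ₗ[R] X')
    (hf : Function.Surjective (f.liftBaseChange (R ⧸ I))) (y : X') : ∃ x, f x = y := by
  obtain ⟨w, rfl⟩ := hf y
  obtain ⟨x, rfl⟩ := exists_one_tmul_eq I X w
  exact ⟨x, by rw [LinearMap.liftBaseChange_tmul, one_smul]⟩

variable {S : Type u} [CommRing S] [Algebra R S]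
  {S₀ : Type u} [CommRing S₀] [Algebra (R ⧸ I) S₀] [Algebra R S₀] [IsScalarTower R (R ⧸ I) S₀]
  (r : S →ₐ[R] S₀)

theorem rr2_eq_cmap (t : S ⊗[R] S) :
    rr2 (R ⧸ I) r t = cmap R (R ⧸ I) r.toLinearMap r.toLinearMap t := by
  induction t using TensorProduct.induction_on with
  | zero => simp
  | add x y hx hy => rw [map_add, hx, hy, map_add]
  | tmul a b => rw [rr2_tmul, cmap_tmul]; rfl

theorem rr3_eq_cmap (x : S ⊗[R] (S ⊗[R] S)) :
    rr3 (R ⧸ I) r x =
      cmap R (R ⧸ I) r.toLinearMap (cmap R (R ⧸ I) r.toLinearMap r.toLinearMap) x := by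
  induction x using TensorProduct.induction_on with
  | zero => simp
  | add x y hx hy => rw [map_add, hx, hy, map_add]
  | tmul a t => rw [rr3_tmul, cmap_tmul, rr2_eq_cmap]; rfl

variable [HenselianRing R I] [Module.Finite R S]

theorem ker_rr2 (hr : Function.Bijective (r.toLinearMap.liftBaseChange (R ⧸ I)))
    (t : S ⊗[R] S) (ht : rr2 (R ⧸ I) r t = 0) : t ∈ I.map (algebraMap R (S ⊗[R] S)) := by
  have h2 := liftBaseChange_cmap_bijective R (R ⧸ I) r.toLinearMap r.toLinearMap hr hr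
  have h : (1 : R ⧸ I) ⊗ₜ[R] t = 0 := by
    apply h2.1
    rw [LinearMap.liftBaseChange_tmul, one_smul, map_zero, ← rr2_eq_cmap]
    exact ht
  exact mem_map_of_one_tmul_eq_zero I _ t h

theorem surj_rr2 (hr : Function.Bijective (r.toLinearMap.liftBaseChange (R ⧸ I)))
    (y : S₀ ⊗[R ⧸ I] S₀) : ∃ t, rr2 (R ⧸ I) r t = y := by
  have h2 := liftBaseChange_cmap_bijective R (R ⧸ I) r.toLinearMap r.toLinearMap hr hr
  obtain ⟨w, hw⟩ := h2.2 y
  obtain ⟨t, rfl⟩ := exists_one_tmul_eq I (S ⊗[R] S) w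
  refine ⟨t, ?_⟩
  rw [LinearMap.liftBaseChange_tmul, one_smul, ← rr2_eq_cmap] at hw
  exact hw

theorem ker_rr3 (hr : Function.Bijective (r.toLinearMap.liftBaseChange (R ⧸ I)))
    (x : S ⊗[R] (S ⊗[R] S)) (hx : rr3 (R ⧸ I) r x = 0) :
    x ∈ I.map (algebraMap R (S ⊗[R] (S ⊗[R] S))) := by
  have h2 := liftBaseChange_cmap_bijective R (R ⧸ I) r.toLinearMap r.toLinearMap hr hr
  have h3 := liftBaseChange_cmap_bijective R (R ⧸ I) r.toLinearMap
    (cmap R (R ⧸ I) r.toLinearMap r.toLinearMap) hr h2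
  have h : (1 : R ⧸ I) ⊗ₜ[R] x = 0 := by
    apply h3.1
    rw [LinearMap.liftBaseChange_tmul, one_smul, map_zero, ← rr3_eq_cmap]
    exact hx
  exact mem_map_of_one_tmul_eq_zero I _ x h

theorem ker_r (hr : Function.Bijective (r.toLinearMap.liftBaseChange (R ⧸ I)))
    (x : S) (hx : r x = 0) : x ∈ I.map (algebraMap R S) := by
  have h : (1 : R ⧸ I) ⊗ₜ[R] x = 0 := by
    apply hr.1
    rw [LinearMap.liftBaseChange_tmul, one_smul, map_zero]
    exact hx
  exact mem_map_of_one_tmul_eq_zero I _ x h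

theorem liftHyp_of_bijective
    (hr : Function.Bijective (r.toLinearMap.liftBaseChange (R ⧸ I))) : LiftHyp (R ⧸ I) r := by
  haveI : Algebra.IsIntegral R S := Algebra.IsIntegral.of_finite R S
  haveI : Algebra.IsIntegral R (S ⊗[R] S) := Algebra.IsIntegral.of_finite R _
  haveI : Algebra.IsIntegral R (S ⊗[R] (S ⊗[R] S)) := Algebra.IsIntegral.of_finite R _
  refine ⟨?_, ?_, ?_, ?_⟩
  · exact idem_inj_of_ker I (r : S →+* S₀) (fun x hx => ker_r I r hr x hx)
  · exact idem_inj_of_ker I (rr2 (R ⧸ I) r : S ⊗[R] S →+* S₀ ⊗[R ⧸ I] S₀)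
      (fun t ht => ker_rr2 I r hr t ht)
  · exact idem_surj_of_ker I (rr2 (R ⧸ I) r : S ⊗[R] S →+* S₀ ⊗[R ⧸ I] S₀)
      (fun y => surj_rr2 I r hr y) (fun t ht => ker_rr2 I r hr t ht)
      (fun x hx => map_eq_zero_of_mem I (rr2 (R ⧸ I) r) x hx)
  · exact idem_inj_of_ker I
      (rr3 (R ⧸ I) r : S ⊗[R] (S ⊗[R] S) →+* S₀ ⊗[R ⧸ I] (S₀ ⊗[R ⧸ I] S₀))
      (fun x hx => ker_rr3 I r hr x hx)

/-- Main lifting theorem over a henselian pair: a form `A₀` of `S₀[M]` over `R/I`, where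
`S₀ = R/I ⊗ S` with `S` finite faithfully flat over `R`, lifts to a form of `S[M]` over `R`. -/
theorem exists_lift_of_henselian [Module.FaithfullyFlat R S]
    [Module.FaithfullyFlat (R ⧸ I) S₀]
    (hr : Function.Bijective (r.toLinearMap.liftBaseChange (R ⧸ I)))
    (M : Type u) [CommGroup M] {A₀ : Type u} [CommRing A₀] [HopfAlgebra (R ⧸ I) A₀]
    (θ₀ : S₀ ⊗[R ⧸ I] A₀ ≃ₐc[S₀] MonoidAlgebra S₀ M) :
    ∃ (A : Type u) (_ : CommRing A) (_ : HopfAlgebra R A),
      Nonempty (S ⊗[R] A ≃ₐc[S] MonoidAlgebra S M) ∧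
        Nonempty ((R ⧸ I) ⊗[R] A ≃ₐc[R ⧸ I] A₀) :=
  exists_lift_form (liftHyp_of_bijective I r hr) θ₀

end Abstract

section Concrete

variable {R : Type u} [CommRing R] (I : Ideal R) (S : Type u) [CommRing S] [Algebra R S]

/-- the reduction map `S → R/I ⊗ S` -/
noncomputable def rinc : S →ₐ[R] (R ⧸ I) ⊗[R] S := Algebra.TensorProduct.includeRight

theorem rinc_apply (s : S) : rinc I S s = (1 : R ⧸ I) ⊗ₜ[R] s := rfl

end Concrete

section FF

variable {R : Type u} [CommRing R] (I : Ideal R) (S : Type u) [CommRing S] [Algebra R S]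

/-- faithful flatness can be checked modulo an ideal contained in the Jacobson radical -/
theorem faithfullyFlat_of_quotient (hI : I ≤ Ideal.jacobson ⊥) [Module.Flat R S]
    [Module.FaithfullyFlat (R ⧸ I) ((R ⧸ I) ⊗[R] S)] : Module.FaithfullyFlat R S := by
  refine ⟨fun m hm h => ?_⟩
  have hIm : I ≤ m := hI.trans (sInf_le ⟨bot_le, hm⟩)
  have hne : m.map (Ideal.Quotient.mk I) ≠ ⊤ := by
    intro htop
    have h1 : (1 : R ⧸ I) ∈ m.map (Ideal.Quotient.mk I) := by rw [htop]; trivial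
    obtain ⟨x, hx, hx1⟩ := (Ideal.mem_map_iff_of_surjective _ Ideal.Quotient.mk_surjective).1 h1
    have h2 : x - 1 ∈ I := by
      rw [← Ideal.Quotient.eq_zero_iff_mem, map_sub, hx1, map_one, sub_self]
    have h3 : (1 : R) ∈ m := by
      have := m.sub_mem hx (hIm h2)
      rwa [sub_sub_cancel] at this
    exact hm.ne_top ((Ideal.eq_top_iff_one m).2 h3)
  have hff := (Module.FaithfullyFlat.iff_flat_and_proper_ideal (R ⧸ I) ((R ⧸ I) ⊗[R] S)).1
    inferInstance
  apply hff.2 _ hne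
  rw [Ideal.smul_top_eq_map, Submodule.restrictScalars_eq_top_iff]
  rw [Ideal.smul_top_eq_map, Submodule.restrictScalars_eq_top_iff] at h
  have h1 : (1 : S) ∈ m.map (algebraMap R S) := by rw [h]; trivial
  have h2 : (rinc I S : S →+* (R ⧸ I) ⊗[R] S) 1 ∈
      (m.map (algebraMap R S)).map (rinc I S : S →+* (R ⧸ I) ⊗[R] S) := Ideal.mem_map_of_mem _ h1
  rw [Ideal.map_map, map_one] at h2
  have h3 : ((rinc I S : S →+* (R ⧸ I) ⊗[R] S).comp (algebraMap R S)) =
      (algebraMap (R ⧸ I) ((R ⧸ I) ⊗[R] S)).comp (Ideal.Quotient.mk I) := by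
    ext x
    show rinc I S (algebraMap R S x) = algebraMap (R ⧸ I) ((R ⧸ I) ⊗[R] S) (Ideal.Quotient.mk I x)
    rw [(rinc I S).commutes, IsScalarTower.algebraMap_apply R (R ⧸ I) ((R ⧸ I) ⊗[R] S)]
    rfl
  rw [h3, ← Ideal.map_map] at h2
  exact (Ideal.eq_top_iff_one _).2 h2

end FF

end Groth.Agent.H9.DES
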