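import Mathlib
import Groth.Agent.Lib.Helper9.Misc.DES10
import Groth.Agent.Lib.Helper8.PairHens.EtLift

/-!
# Lifting isotrivial groups of multiplicative type over a henselian pair (helper9)
-/

set_option autoImplicit false
set_option linter.unusedSectionVars false
set_option linter.unusedVariables false

namespace Groth.Agent.H9.DES

open TensorProduct
open scoped Classical

universe u

/-- Over a henselian pair `(R, I)`, a Hopf algebra `A₀` over `R/I` which becomes a group algebra
`R'[M]` over a finite étale faithfully flat `R/I`-algebra `R'` lifts to a Hopf algebra `A` over `R`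
which becomes `S[M]` over a finite étale faithfully flat `R`-algebra `S`. -/
theorem lifts_of_henselian (R : Type u) [CommRing R] (I : Ideal R) [HenselianRing R I]
    (A₀ : Type u) [CommRing A₀] [HopfAlgebra (R ⧸ I) A₀]
    (R' : Type u) [CommRing R'] [Algebra (R ⧸ I) R'] [Algebra.Etale (R ⧸ I) R']
    [Module.Finite (R ⧸ I) R'] [Module.FaithfullyFlat (R ⧸ I) R']
    (M : Type u) [CommGroup M] (θ₀ : R' ⊗[R ⧸ I] A₀ ≃ₐc[R'] MonoidAlgebra R' M) :
    ∃ (A : Type u) (_ : CommRing A) (_ : HopfAlgebra R A) (S : Type u) (_ : CommRing S)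
      (_ : Algebra R S), Algebra.Etale R S ∧ Module.Finite R S ∧ Module.FaithfullyFlat R S ∧
        Nonempty (S ⊗[R] A ≃ₐc[S] MonoidAlgebra S M) ∧
        Nonempty (((R ⧸ I) ⊗[R] A) ≃ₐc[R ⧸ I] A₀) := by
  letI : Algebra R R' := Algebra.compHom R' (algebraMap R (R ⧸ I))
  haveI : IsScalarTower R (R ⧸ I) R' := IsScalarTower.of_algebraMap_eq (fun x => rfl)
  obtain ⟨S, _, _, hSfin, hSet, ⟨e⟩⟩ :=
    Groth.Agent.H8.PairHens.EtLift.exists_finite_etale_lift R I R'
  let r : S →ₐ[R] R' :=
    (e.toAlgHom.restrictScalars R).comp (Algebra.TensorProduct.includeRight)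
  have hr : Function.Bijective (r.toLinearMap.liftBaseChange (R ⧸ I)) := by
    have h : (r.toLinearMap.liftBaseChange (R ⧸ I) : (R ⧸ I) ⊗[R] S → R') = e := by
      funext w
      induction w using TensorProduct.induction_on with
      | zero => simp
      | add x y hx hy => rw [map_add, map_add, hx, hy]
      | tmul q s =>
        rw [LinearMap.liftBaseChange_tmul]
        show q • e ((1 : R ⧸ I) ⊗ₜ[R] s) = e (q ⊗ₜ[R] s)
        rw [← map_smul, TensorProduct.smul_tmul', smul_eq_mul, mul_one]
    rw [h]
    exact e.bijective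
  haveI : Module.Flat R S := inferInstance
  haveI : Module.FaithfullyFlat (R ⧸ I) ((R ⧸ I) ⊗[R] S) :=
    Module.FaithfullyFlat.of_linearEquiv (R ⧸ I) R' e.toLinearEquiv
  haveI : Module.FaithfullyFlat R S := faithfullyFlat_of_quotient I S (HenselianRing.jac (I := I))
  obtain ⟨A, _, _, hθ, hφ⟩ := exists_lift_of_henselian I r hr M θ₀
  exact ⟨A, _, _, S, _, _, hSet, hSfin, inferInstance, hθ, hφ⟩

section Fin

variable {R : Type u} {S : Type u} [CommRing R] [CommRing S] [Algebra R S]
  {A : Type u} [CommRing A] [HopfAlgebra R A] {M : Type u} [CommGroup M]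

/-- a form of `S[M]` with `M` finite is a finite module -/
theorem finite_of_form [Module.FaithfullyFlat R S] [Finite M]
    (θ : S ⊗[R] A ≃ₐc[S] MonoidAlgebra S M) : Module.Finite R A := by
  haveI : Fintype M := Fintype.ofFinite M
  haveI : Module.Finite S (MonoidAlgebra S M) := Module.Finite.of_basis (MonoidAlgebra.basis M S)
  haveI : Module.Finite S (S ⊗[R] A) :=
    Module.Finite.equiv θ.toAlgEquiv.toLinearEquiv.symm
  exact Module.Finite.of_finite_tensorProduct_of_faithfullyFlat S

/-- if a form of `S[M]` is a finite module then `M` is finite -/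
theorem finite_grp_of_form [Nontrivial S] [Module.Finite R A]
    (θ : S ⊗[R] A ≃ₐc[S] MonoidAlgebra S M) : Finite M := by
  haveI : Module.Finite S (MonoidAlgebra S M) :=
    Module.Finite.equiv θ.toAlgEquiv.toLinearEquiv
  exact Module.Finite.finite_basis (MonoidAlgebra.basis M S)

end Fin

end Groth.Agent.H9.DES
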