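import Mathlib
import Groth.Agent.Lib.Helper9.Misc.DES11

/-!
# Lifting finite groups of multiplicative type over a henselian local ring (helper9)
-/

set_option autoImplicit false
set_option linter.unusedSectionVars false
set_option linter.unusedVariables false

namespace Groth.Agent.H9.DES

open TensorProduct IsLocalRing
open scoped Classical

universe u

theorem lifts_finite_of_henselianLocal (R : Type u) [CommRing R] [HenselianLocalRing R]
    (C₀ : Type u) [CommRing C₀] [HopfAlgebra (ResidueField R) C₀]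
    [Module.Finite (ResidueField R) C₀]
    (R' : Type u) [CommRing R'] [Algebra (ResidueField R) R'] [Algebra.Etale (ResidueField R) R']
    [Module.Finite (ResidueField R) R'] [Module.FaithfullyFlat (ResidueField R) R']
    (M : Type u) [CommGroup M] (θ₀ : R' ⊗[ResidueField R] C₀ ≃ₐc[R'] MonoidAlgebra R' M) :
    ∃ (C : Type u) (_ : CommRing C) (_ : HopfAlgebra R C) (S : Type u) (_ : CommRing S)
      (_ : Algebra R S), Module.Finite R C ∧ Algebra.Etale R S ∧ Module.Finite R S ∧
        Module.FaithfullyFlat R S ∧ Nonempty (S ⊗[R] C ≃ₐc[S] MonoidAlgebra S M) ∧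
        Nonempty ((ResidueField R ⊗[R] C) ≃ₐc[ResidueField R] C₀) := by
  haveI : Nontrivial R' := (FaithfulSMul.algebraMap_injective (ResidueField R) R').nontrivial
  haveI : Finite M := finite_grp_of_form θ₀
  letI i1 : HopfAlgebra (R ⧸ maximalIdeal R) C₀ := ‹HopfAlgebra (ResidueField R) C₀›
  letI i2 : Algebra (R ⧸ maximalIdeal R) R' := ‹Algebra (ResidueField R) R'›
  haveI i3 : Algebra.Etale (R ⧸ maximalIdeal R) R' := ‹Algebra.Etale (ResidueField R) R'›
  haveI i4 : Module.Finite (R ⧸ maximalIdeal R) R' := ‹Module.Finite (ResidueField R) R'›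
  haveI i5 : Module.FaithfullyFlat (R ⧸ maximalIdeal R) R' :=
    ‹Module.FaithfullyFlat (ResidueField R) R'›
  obtain ⟨A, _, _, S, _, _, hSet, hSfin, hSff, ⟨θ⟩, hφ⟩ :=
    lifts_of_henselian R (maximalIdeal R) C₀ R' M θ₀
  haveI := hSff
  exact ⟨A, _, _, S, _, _, finite_of_form θ, hSet, hSfin, hSff, ⟨θ⟩, hφ⟩

end Groth.Agent.H9.DES
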