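import Mathlib

set_option autoImplicit false
set_option linter.style.haveILetI false
set_option linter.unusedSectionVars false
set_option linter.unusedVariables false

namespace Groth.Agent.H9.DFT

open Algebra Module nonZeroDivisors

attribute [local instance] FractionRing.liftAlgebra FractionRing.isScalarTower_liftAlgebra
set_option linter.overlappingInstances false

universe u

section aux

variable (A K : Type*) (L : Type u) {B : Type*} [CommRing A] [Field K] [CommRing B] [Field L]
variable [Algebra A K] [Algebra B L] [Algebra A B] [Algebra K L] [Algebra A L]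
variable [IsScalarTower A K L] [IsScalarTower A B L]
variable [IsDomain A] [IsFractionRing A K] [FiniteDimensional K L] [Algebra.IsSeparable K L]
  [IsIntegralClosure B A L] [IsIntegrallyClosed A]
variable [IsFractionRing B L] [IsDedekindDomain A] [IsDedekindDomain B]
  [IsTorsionFree A B] [Module.Finite A B]

include K L in
lemma map_dvd_differentIdeal_aux {p : Ideal A} [p.IsMaximal] (hp : p ≠ ⊥)
    (h : ∀ x : B, intTrace A B x ∈ p) : p.map (algebraMap A B) ∣ differentIdeal A B := by
  have hp' := (Ideal.map_eq_bot_iff_of_injective
    (FaithfulSMul.algebraMap_injective A B)).not.mpr hp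
  have hP : (((p.map (algebraMap A B) : Ideal B) : FractionalIdeal B⁰ L)⁻¹) =
      ((⊤ : Ideal B) : FractionalIdeal B⁰ L) / (p.map (algebraMap A B) : Ideal B) := by
    rw [FractionalIdeal.coeIdeal_top, one_div]
  rw [Ideal.dvd_iff_le, differentialIdeal_le_iff (K := K) (L := L) hp', hP,
    Submodule.map_le_iff_le_comap]
  intro x hx
  rw [Submodule.restrictScalars_mem, FractionalIdeal.mem_coe,
    FractionalIdeal.mem_div_iff_of_ne_zero (by simpa using hp')] at hx
  rw [Submodule.mem_comap, LinearMap.coe_restrictScalars, ← FractionalIdeal.coe_one,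
    ← div_self (G₀ := FractionalIdeal A⁰ K) (a := p) (by simpa using hp),
    FractionalIdeal.mem_coe, FractionalIdeal.mem_div_iff_of_ne_zero (by simpa using hp)]
  simp only [FractionalIdeal.mem_coeIdeal, forall_exists_index, and_imp,
    forall_apply_eq_imp_iff₂] at hx
  intro y hy'
  obtain ⟨y, hy, rfl : algebraMap A K _ = _⟩ := (FractionalIdeal.mem_coeIdeal _).mp hy'
  obtain ⟨z, hz, hz'⟩ := hx _ (Ideal.mem_map_of_mem _ hy)
  have : trace K L (algebraMap B L z) ∈ (p : FractionalIdeal A⁰ K) := by
    rw [← algebraMap_intTrace (A := A)]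
    exact ⟨intTrace A B z, h z, rfl⟩
  rwa [mul_comm, ← smul_eq_mul, ← map_smul, Algebra.smul_def, mul_comm,
    ← IsScalarTower.algebraMap_apply, IsScalarTower.algebraMap_apply A B L, ← hz']

end aux

section main

variable (A B : Type*) [CommRing A] [IsDomain A] [CommRing B] [IsDomain B] [Algebra A B]
  [IsDedekindDomain A] [IsDedekindDomain B] [Module.IsTorsionFree A B] [Module.Finite A B]
  [Algebra.IsSeparable (FractionRing A) (FractionRing B)]

theorem map_dvd_differentIdeal_iff {p : Ideal A} [p.IsMaximal] (hp : p ≠ ⊥) :
    p.map (algebraMap A B) ∣ differentIdeal A B ↔ ∀ x : B, intTrace A B x ∈ p := by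
  have : IsLocalization (algebraMapSubmonoid B A⁰) (FractionRing B) :=
    IsIntegralClosure.isLocalization _ (FractionRing A) _ _
  have : FiniteDimensional (FractionRing A) (FractionRing B) := .of_isLocalization A B A⁰
  constructor
  · intro h x
    by_contra hx
    exact not_dvd_differentIdeal_of_intTrace_not_mem A (p.map (algebraMap A B)) ⊤
      (Ideal.mul_top _) x trivial hx h
  · intro h
    exact map_dvd_differentIdeal_aux A (FractionRing A) (FractionRing B) hp h

end main

end Groth.Agent.H9.DFT
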