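import Mathlib

set_option autoImplicit false
set_option linter.style.haveILetI false
set_option linter.unusedSectionVars false
set_option linter.unusedVariables false

namespace Groth.Agent.H9.TRF

open LinearMap

universe u v

section Block

variable {κ : Type u} [CommRing κ] {M N : Type v} [AddCommGroup M] [Module κ M]
  [AddCommGroup N] [Module κ N] [Module.Free κ M] [Module.Finite κ M] [Module.Free κ N]
  [Module.Finite κ N]

lemma trace_prod_blocks (Φ : M × N →ₗ[κ] M × N) :
    trace κ (M × N) Φ = trace κ M ((fst κ M N) ∘ₗ Φ ∘ₗ (inl κ M N)) +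
      trace κ N ((snd κ M N) ∘ₗ Φ ∘ₗ (inr κ M N)) := by
  have h1 : Φ = (Φ ∘ₗ inl κ M N) ∘ₗ fst κ M N + (Φ ∘ₗ inr κ M N) ∘ₗ snd κ M N := by
    apply LinearMap.ext
    rintro ⟨a, b⟩
    simp only [LinearMap.add_apply, coe_comp, Function.comp_apply, fst_apply, snd_apply, inl_apply,
      inr_apply]
    rw [← map_add, Prod.mk_add_mk, add_zero, zero_add]
  conv_lhs => rw [h1]
  rw [map_add, trace_comp_comm', trace_comp_comm' (Φ ∘ₗ inr κ M N)]

end Block

section SES

variable {κ : Type u} [Field κ] {V' V V'' : Type v} [AddCommGroup V'] [Module κ V']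
  [AddCommGroup V] [Module κ V] [AddCommGroup V''] [Module κ V'']
  [FiniteDimensional κ V'] [FiniteDimensional κ V] [FiniteDimensional κ V'']

theorem trace_ses (ι : V' →ₗ[κ] V) (ρ : V →ₗ[κ] V'') (hι : Function.Injective ι)
    (hρ : Function.Surjective ρ) (hex : LinearMap.ker ρ = LinearMap.range ι)
    (T' : V' →ₗ[κ] V') (T : V →ₗ[κ] V) (T'' : V'' →ₗ[κ] V'')
    (h1 : ∀ x, ι (T' x) = T (ι x)) (h2 : ∀ x, ρ (T x) = T'' (ρ x)) :
    trace κ V T = trace κ V' T' + trace κ V'' T'' := by
  obtain ⟨σ, hσ⟩ := ρ.exists_rightInverse_of_surjective (LinearMap.range_eq_top.mpr hρ)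
  have hσ' : ∀ c, ρ (σ c) = c := fun c => LinearMap.congr_fun hσ c
  have hρι : ∀ a, ρ (ι a) = 0 := fun a => by
    have : ι a ∈ LinearMap.ker ρ := by rw [hex]; exact ⟨a, rfl⟩
    exact this
  have hinj : Function.Injective (ι.coprod σ) := by
    rw [← LinearMap.ker_eq_bot, LinearMap.ker_eq_bot']
    rintro ⟨a, c⟩ h
    rw [coprod_apply] at h
    have hc : c = 0 := by
      have := congrArg ρ h
      rwa [map_add, hρι, zero_add, hσ', map_zero] at this
    rw [hc, map_zero, add_zero] at h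
    have ha : a = 0 := hι (h.trans (map_zero ι).symm)
    rw [ha, hc]; rfl
  have hsurj : Function.Surjective (ι.coprod σ) := by
    intro v
    have : v - σ (ρ v) ∈ LinearMap.ker ρ := by
      rw [LinearMap.mem_ker, map_sub, hσ', sub_self]
    rw [hex] at this
    obtain ⟨a, ha⟩ := this
    exact ⟨(a, ρ v), by rw [coprod_apply, ha]; abel⟩
  let Ψ : (V' × V'') ≃ₗ[κ] V := LinearEquiv.ofBijective (ι.coprod σ) ⟨hinj, hsurj⟩
  have hΨ : ∀ a c, Ψ (a, c) = ι a + σ c := fun a c => rfl
  have hsnd : ∀ v, (Ψ.symm v).2 = ρ v := by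
    intro v
    obtain ⟨⟨a, c⟩, rfl⟩ := Ψ.surjective v
    rw [LinearEquiv.symm_apply_apply, hΨ, map_add, hρι, zero_add, hσ']
  have hfst : ∀ a, Ψ.symm (ι a) = (a, 0) := by
    intro a
    rw [LinearEquiv.symm_apply_eq, hΨ, map_zero, add_zero]
  have e1 : trace κ V T = trace κ (V' × V'') (Ψ.symm.conj T) := (trace_conj' T Ψ.symm).symm
  rw [e1, trace_prod_blocks]
  congr 1
  · congr 1
    ext a
    simp only [coe_comp, Function.comp_apply, inl_apply, fst_apply, LinearEquiv.conj_apply,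
      LinearEquiv.coe_coe, LinearEquiv.symm_symm]
    rw [hΨ, map_zero, add_zero, ← h1, hfst]
  · congr 1
    ext c
    simp only [coe_comp, Function.comp_apply, inr_apply, snd_apply, LinearEquiv.conj_apply,
      LinearEquiv.coe_coe, LinearEquiv.symm_symm]
    rw [hsnd, hΨ, map_zero, zero_add, h2, hσ']

end SES

end Groth.Agent.H9.TRF
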