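import Mathlib
import Groth.Agent.Lib.Helper9.Misc.TRF1

set_option autoImplicit false
set_option linter.style.haveILetI false
set_option linter.unusedSectionVars false
set_option linter.unusedVariables false

namespace Groth.Agent.H9.TRF

open LinearMap

universe u v

section Nilp

variable {κ : Type u} [Field κ] {V : Type v} [AddCommGroup V] [Module κ V]
  [FiniteDimensional κ V]

lemma range_pow_invariant (μ T : V →ₗ[κ] V) (hc : Commute μ T) (i : ℕ) :
    ∀ x ∈ LinearMap.range (μ ^ i), T x ∈ LinearMap.range (μ ^ i) := by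
  rintro _ ⟨y, rfl⟩
  refine ⟨T y, ?_⟩
  have := (hc.pow_left i).eq
  exact LinearMap.congr_fun this y

theorem trace_step (μ T : V →ₗ[κ] V) (hc : Commute μ T) (e : ℕ) (he : 1 ≤ e)
    (hker : LinearMap.ker μ = LinearMap.range (μ ^ (e - 1))) (i : ℕ) (hi : i + 1 ≤ e) :
    trace κ (LinearMap.range (μ ^ i)) (T.restrict (range_pow_invariant μ T hc i)) =
      trace κ (LinearMap.range (μ ^ (e - 1))) (T.restrict (range_pow_invariant μ T hc (e - 1))) +
      trace κ (LinearMap.range (μ ^ (i + 1)))
        (T.restrict (range_pow_invariant μ T hc (i + 1))) := by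
  have hle : LinearMap.range (μ ^ (e - 1)) ≤ LinearMap.range (μ ^ i) := by
    rintro _ ⟨y, rfl⟩
    refine ⟨(μ ^ (e - 1 - i)) y, ?_⟩
    rw [← Module.End.mul_apply, ← pow_add]
    congr 2
    omega
  have hρmem : ∀ x ∈ LinearMap.range (μ ^ i), μ x ∈ LinearMap.range (μ ^ (i + 1)) := by
    rintro _ ⟨y, rfl⟩
    exact ⟨y, by rw [pow_succ', Module.End.mul_apply]⟩
  refine trace_ses (Submodule.inclusion hle) (μ.restrict hρmem)
    (Submodule.inclusion_injective hle) ?_ ?_ _ _ _ ?_ ?_
  · rintro ⟨_, ⟨y, rfl⟩⟩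
    refine ⟨⟨(μ ^ i) y, ⟨y, rfl⟩⟩, ?_⟩
    apply Subtype.ext
    rw [LinearMap.coe_restrict_apply]
    show μ ((μ ^ i) y) = (μ ^ (i + 1)) y
    rw [pow_succ', Module.End.mul_apply]
  · ext ⟨x, hx⟩
    rw [LinearMap.mem_ker, LinearMap.mem_range]
    constructor
    · intro h
      have h1 : μ x = 0 := by
        have := congrArg Subtype.val h
        rwa [LinearMap.coe_restrict_apply] at this
      have h2 : x ∈ LinearMap.range (μ ^ (e - 1)) := by
        rw [← hker]; exact h1
      exact ⟨⟨x, h2⟩, rfl⟩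
    · rintro ⟨⟨z, hz⟩, h⟩
      have hzx : z = x := congrArg Subtype.val h
      apply Subtype.ext
      rw [LinearMap.coe_restrict_apply]
      show μ x = 0
      have : x ∈ LinearMap.ker μ := by rw [hker, ← hzx]; exact hz
      exact this
  · intro x
    rfl
  · intro x
    apply Subtype.ext
    rw [LinearMap.coe_restrict_apply, LinearMap.coe_restrict_apply, LinearMap.coe_restrict_apply,
      LinearMap.coe_restrict_apply]
    exact LinearMap.congr_fun hc.eq x.1

theorem trace_eq_smul_of_nilpotent (μ T : V →ₗ[κ] V) (hc : Commute μ T) (e : ℕ) (he : 1 ≤ e)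
    (hμ : μ ^ e = 0) (hker : LinearMap.ker μ = LinearMap.range (μ ^ (e - 1))) :
    trace κ V T = e • trace κ (LinearMap.range (μ ^ (e - 1)))
      (T.restrict (range_pow_invariant μ T hc (e - 1))) := by
  set t : ℕ → κ := fun i =>
    trace κ (LinearMap.range (μ ^ i)) (T.restrict (range_pow_invariant μ T hc i)) with ht
  have hte : t e = 0 := by
    have : T.restrict (range_pow_invariant μ T hc e) = 0 := by
      apply LinearMap.ext
      rintro ⟨x, hx⟩
      apply Subtype.ext
      rw [LinearMap.coe_restrict_apply]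
      have hx0 : x = 0 := by
        rw [hμ] at hx
        obtain ⟨y, rfl⟩ := hx
        rfl
      show T x = 0
      rw [hx0, map_zero]
    show trace κ _ (T.restrict (range_pow_invariant μ T hc e)) = 0
    rw [this, map_zero]
  have hstep : ∀ j, j ≤ e → t (e - j) = j • t (e - 1) := by
    intro j
    induction j with
    | zero => intro _; rw [Nat.sub_zero, hte, zero_smul]
    | succ j ih =>
      intro hj
      have h1 := trace_step μ T hc e he hker (e - (j + 1)) (by omega)
      have h2 : e - (j + 1) + 1 = e - j := by omega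
      show trace κ _ (T.restrict (range_pow_invariant μ T hc (e - (j + 1)))) = _
      rw [h1]
      have h3 : trace κ (LinearMap.range (μ ^ (e - (j + 1) + 1)))
          (T.restrict (range_pow_invariant μ T hc (e - (j + 1) + 1))) = t (e - j) := by
        have h4 : t (e - (j + 1) + 1) = t (e - j) := congrArg t h2
        exact h4
      rw [h3, ih (by omega), succ_nsmul, add_comm]
  have h0 := hstep e le_rfl
  rw [Nat.sub_self] at h0
  rw [← h0]
  show trace κ V T = trace κ _ (T.restrict (range_pow_invariant μ T hc 0))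
  have htop : LinearMap.range (μ ^ 0) = ⊤ := by
    rw [pow_zero]
    exact LinearMap.range_eq_top.mpr (fun x => ⟨x, rfl⟩)
  have hconj : (LinearEquiv.ofTop _ htop).conj (T.restrict (range_pow_invariant μ T hc 0)) = T := by
    apply LinearMap.ext
    intro x
    rw [LinearEquiv.conj_apply_apply]
    rfl
  rw [← LinearMap.trace_conj' (T.restrict (range_pow_invariant μ T hc 0))
    (LinearEquiv.ofTop _ htop), hconj]

theorem trace_eq_smul_of_nilpotent' {W : Type*} [AddCommGroup W] [Module κ W]
    (μ T : V →ₗ[κ] V) (hc : Commute μ T) (e : ℕ) (he : 1 ≤ e)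
    (hμ : μ ^ e = 0) (hker : LinearMap.ker μ = LinearMap.range (μ ^ (e - 1)))
    (ι : W →ₗ[κ] V) (hι : Function.Injective ι)
    (hrange : LinearMap.range ι = LinearMap.range (μ ^ (e - 1)))
    (T' : W →ₗ[κ] W) (hT : ∀ w, ι (T' w) = T (ι w)) :
    trace κ V T = e • trace κ W T' := by
  rw [trace_eq_smul_of_nilpotent μ T hc e he hμ hker]
  congr 1
  let E : W ≃ₗ[κ] LinearMap.range (μ ^ (e - 1)) :=
    (LinearEquiv.ofInjective ι hι).trans (LinearEquiv.ofEq _ _ hrange)
  have hE : ∀ w, ((E w : LinearMap.range (μ ^ (e - 1))) : V) = ι w := fun w => rfl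
  have hconj : E.conj T' = T.restrict (range_pow_invariant μ T hc (e - 1)) := by
    apply LinearMap.ext
    intro x
    obtain ⟨w, rfl⟩ := E.surjective x
    rw [LinearEquiv.conj_apply_apply, LinearEquiv.symm_apply_apply]
    apply Subtype.ext
    rw [hE, LinearMap.coe_restrict_apply, hE, hT]
  rw [← hconj, LinearMap.trace_conj']

theorem trace_eq_smul_of_nilpotent'' {W : Type*} [AddCommGroup W] [Module κ W]
    (μ T : V →ₗ[κ] V) (hc : Commute μ T) (e : ℕ) (he : 1 ≤ e)
    (hμ : μ ^ e = 0) (hker : LinearMap.ker μ = LinearMap.range (μ ^ (e - 1)))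
    (σ : V →ₗ[κ] W) (hσ : Function.Surjective σ)
    (hkσ : LinearMap.ker σ = LinearMap.ker (μ ^ (e - 1)))
    (T' : W →ₗ[κ] W) (hT : ∀ v, T' (σ v) = σ (T v)) :
    trace κ V T = e • trace κ W T' := by
  rw [trace_eq_smul_of_nilpotent μ T hc e he hμ hker]
  congr 1
  let E : W ≃ₗ[κ] LinearMap.range (μ ^ (e - 1)) :=
    ((σ.quotKerEquivOfSurjective hσ).symm.trans (Submodule.quotEquivOfEq _ _ hkσ)).trans
      (μ ^ (e - 1)).quotKerEquivRange
  have hE : ∀ v, ((E (σ v) : LinearMap.range (μ ^ (e - 1))) : V) = (μ ^ (e - 1)) v := by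
    intro v
    have h1 : (σ.quotKerEquivOfSurjective hσ).symm (σ v) = Submodule.Quotient.mk v := by
      rw [LinearEquiv.symm_apply_eq]
      rfl
    show ((μ ^ (e - 1)).quotKerEquivRange ((Submodule.quotEquivOfEq _ _ hkσ)
      ((σ.quotKerEquivOfSurjective hσ).symm (σ v))) : V) = _
    rw [h1]
    rfl
  have hconj : E.conj T' = T.restrict (range_pow_invariant μ T hc (e - 1)) := by
    apply LinearMap.ext
    intro x
    obtain ⟨w, rfl⟩ := E.surjective x
    obtain ⟨v, rfl⟩ := hσ w
    rw [LinearEquiv.conj_apply_apply, LinearEquiv.symm_apply_apply]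
    apply Subtype.ext
    rw [hT, hE, LinearMap.coe_restrict_apply, hE]
    exact LinearMap.congr_fun (hc.pow_left (e - 1)).eq v
  rw [← hconj, LinearMap.trace_conj']

end Nilp

end Groth.Agent.H9.TRF
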