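import Mathlib
import Groth.Agent.Lib.Helper9.Misc.TRF2

set_option autoImplicit false
set_option linter.style.haveILetI false
set_option linter.unusedSectionVars false
set_option linter.unusedVariables false

namespace Groth.Agent.H9.TRF

open LinearMap IsLocalRing

universe u v

section Quot

variable {A : Type u} {B : Type v} [CommRing A] [CommRing B] [Algebra A B] [IsLocalRing A]
  [IsLocalRing B] [IsLocalHom (algebraMap A B)] [IsDomain B] [Module.Finite A B]

attribute [local instance] Ideal.Quotient.field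

local notation "p" => maximalIdeal A
local notation "pB" => Ideal.map (algebraMap A B) (maximalIdeal A)
local notation "P" => maximalIdeal B

instance finite_quot : Module.Finite (A ⧸ p) (B ⧸ pB) := by
  have : Module.Finite A (B ⧸ pB) :=
    Module.Finite.of_surjective (Ideal.Quotient.mkₐ A pB).toLinearMap
      (Ideal.Quotient.mkₐ_surjective A pB)
  exact Module.Finite.of_restrictScalars_finite A (A ⧸ p) (B ⧸ pB)

theorem lmul_pow_mk (x : B) (n : ℕ) (y : B) :
    ((Algebra.lmul (A ⧸ p) (B ⧸ pB) (Ideal.Quotient.mk pB x)) ^ n) (Ideal.Quotient.mk pB y) =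
      Ideal.Quotient.mk pB (x ^ n * y) := by
  rw [← map_pow, ← map_pow, Algebra.coe_lmul_eq_mul, LinearMap.mul_apply', ← map_mul]

theorem trace_quotient_eq_smul (π : B) (hπ : P = Ideal.span {π}) (hπ0 : π ≠ 0) (e : ℕ)
    (he : 1 ≤ e) (hpB : pB = Ideal.span {π ^ e}) (b : B) :
    Algebra.trace (A ⧸ p) (B ⧸ pB) (Ideal.Quotient.mk pB b) =
      e • Algebra.trace (A ⧸ p) (B ⧸ P) (Ideal.Quotient.mk P b) := by
  have hle : pB ≤ P := by
    rw [hpB, hπ, Ideal.span_singleton_le_span_singleton]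
    exact dvd_pow_self π (by omega)
  let σA : (B ⧸ pB) →ₐ[A] (B ⧸ P) := Ideal.Quotient.factorₐ A hle
  let σ : (B ⧸ pB) →ₗ[A ⧸ p] (B ⧸ P) :=
    σA.toLinearMap.extendScalarsOfSurjective Ideal.Quotient.mk_surjective
  have hσ_apply : ∀ x : B, σ (Ideal.Quotient.mk pB x) = Ideal.Quotient.mk P x := fun x => rfl
  have hzero : Ideal.Quotient.mk pB (π ^ e) = 0 := by
    rw [Ideal.Quotient.eq_zero_iff_mem, hpB]
    exact Ideal.mem_span_singleton_self _
  have hmem : ∀ x : B, Ideal.Quotient.mk pB x = 0 ↔ π ^ e ∣ x := by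
    intro x
    rw [Ideal.Quotient.eq_zero_iff_mem, hpB, Ideal.mem_span_singleton]
  have hmemP : ∀ x : B, Ideal.Quotient.mk P x = 0 ↔ π ∣ x := by
    intro x
    rw [Ideal.Quotient.eq_zero_iff_mem, hπ, Ideal.mem_span_singleton]
  have hee : π ^ e = π ^ (e - 1) * π := by
    rw [← pow_succ]; congr 1; omega
  rw [Algebra.trace_apply, Algebra.trace_apply]
  refine trace_eq_smul_of_nilpotent'' (Algebra.lmul _ _ (Ideal.Quotient.mk pB π))
    (Algebra.lmul _ _ (Ideal.Quotient.mk pB b)) ?_ e he ?_ ?_ σ ?_ ?_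
    (Algebra.lmul _ _ (Ideal.Quotient.mk P b)) ?_
  · exact (Commute.all _ _).map (Algebra.lmul _ _)
  · rw [← map_pow, ← map_pow, hzero, map_zero]
  · ext x
    obtain ⟨x, rfl⟩ := Ideal.Quotient.mk_surjective x
    rw [LinearMap.mem_ker, LinearMap.mem_range]
    have h1 := lmul_pow_mk (A := A) π 1 x
    rw [pow_one, pow_one] at h1
    rw [h1, hmem]
    constructor
    · rintro ⟨c, hc⟩
      refine ⟨Ideal.Quotient.mk pB c, ?_⟩
      rw [lmul_pow_mk]
      congr 1
      have : π * x = π * (π ^ (e - 1) * c) := by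
        rw [hc, hee]; ring
      exact (mul_left_cancel₀ hπ0 this).symm
    · rintro ⟨y, hy⟩
      obtain ⟨y, rfl⟩ := Ideal.Quotient.mk_surjective y
      rw [lmul_pow_mk] at hy
      rw [← hmem, map_mul, ← hy, ← map_mul, hmem]
      exact ⟨y, by rw [hee]; ring⟩
  · intro y
    obtain ⟨y, rfl⟩ := Ideal.Quotient.mk_surjective y
    exact ⟨Ideal.Quotient.mk pB y, hσ_apply y⟩
  · ext x
    obtain ⟨x, rfl⟩ := Ideal.Quotient.mk_surjective x
    rw [LinearMap.mem_ker, LinearMap.mem_ker, hσ_apply, hmemP, lmul_pow_mk, hmem]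
    constructor
    · rintro ⟨c, rfl⟩
      exact ⟨c, by rw [hee]; ring⟩
    · rintro ⟨c, hc⟩
      refine ⟨c, ?_⟩
      have : π ^ (e - 1) * x = π ^ (e - 1) * (π * c) := by
        rw [hc, hee]; ring
      exact mul_left_cancel₀ (pow_ne_zero _ hπ0) this
  · intro v
    obtain ⟨v, rfl⟩ := Ideal.Quotient.mk_surjective v
    rw [hσ_apply, Algebra.coe_lmul_eq_mul, Algebra.coe_lmul_eq_mul, LinearMap.mul_apply',
      LinearMap.mul_apply', ← map_mul, ← map_mul, hσ_apply]

end Quot

end Groth.Agent.H9.TRF
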