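import Mathlib
import Groth.Agent.Lib.Helper9.Misc.TRF3
import Groth.Agent.Lib.Helper9.Misc.DFT1

set_option autoImplicit false
set_option linter.style.haveILetI false
set_option linter.unusedSectionVars false
set_option linter.unusedVariables false

namespace Groth.Agent.H9.DFT

open Algebra Module nonZeroDivisors IsLocalRing

attribute [local instance] FractionRing.liftAlgebra FractionRing.isScalarTower_liftAlgebra
set_option linter.overlappingInstances false

universe u

section main

variable (A B : Type u) [CommRing A] [IsDomain A] [IsDiscreteValuationRing A]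
    [CommRing B] [IsDomain B] [IsDiscreteValuationRing B] [Algebra A B] [Module.Finite A B]
    [Module.IsTorsionFree A B] [IsLocalHom (algebraMap A B)]

/-- uniformizer data -/
theorem exists_unif :
    ∃ π : B, Irreducible π ∧ maximalIdeal B = Ideal.span {π} ∧
      (maximalIdeal A).map (algebraMap A B) =
        Ideal.span {π ^ (Ideal.ramificationIdx (maximalIdeal B) A)} ∧
      1 ≤ Ideal.ramificationIdx (maximalIdeal B) A := by
  obtain ⟨π, hπ⟩ := IsDiscreteValuationRing.exists_irreducible B
  have hP : maximalIdeal B = Ideal.span {π} := hπ.maximalIdeal_eq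
  have hp : maximalIdeal A ≠ ⊥ := IsDiscreteValuationRing.not_a_field A
  have hpB : (maximalIdeal A).map (algebraMap A B) ≠ ⊥ :=
    (Ideal.map_eq_bot_iff_of_injective (FaithfulSMul.algebraMap_injective A B)).not.mpr hp
  obtain ⟨n, hn⟩ := IsDiscreteValuationRing.ideal_eq_span_pow_irreducible hpB hπ
  have hPbot : maximalIdeal B ≠ ⊥ := IsDiscreteValuationRing.not_a_field B
  have hprime : Prime (maximalIdeal B) := Ideal.prime_of_isPrime hPbot inferInstance
  have he : Ideal.ramificationIdx (maximalIdeal B) A = n := by
    rw [Ideal.IsDedekindDomain.ramificationIdx_eq_multiplicity (maximalIdeal A) (maximalIdeal B) hpB,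
      hn, ← Ideal.span_singleton_pow, ← hP, multiplicity_pow_self_of_prime hprime]
  refine ⟨π, hπ, hP, by rw [he]; exact hn, ?_⟩
  rw [he]
  by_contra h0
  have : n = 0 := by omega
  rw [this, pow_zero, Ideal.span_singleton_one] at hn
  have hle : (maximalIdeal A).map (algebraMap A B) ≤ maximalIdeal B :=
    Ideal.map_le_iff_le_comap.mpr (Ideal.LiesOver.over (p := maximalIdeal A)).le
  rw [hn] at hle
  exact (Ideal.IsPrime.ne_top inferInstance) (top_le_iff.mp hle)

variable [Algebra.IsSeparable (FractionRing A) (FractionRing B)]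

theorem different_eq_iff_not_dvd :
    differentIdeal A B = maximalIdeal B ^ (Ideal.ramificationIdx (maximalIdeal B) A - 1) ↔
      ¬ ((maximalIdeal A).map (algebraMap A B) ∣ differentIdeal A B) := by
  obtain ⟨π, hπ, hP, hpB, he⟩ := exists_unif A B
  set e := Ideal.ramificationIdx (maximalIdeal B) A with hedef
  have hp : maximalIdeal A ≠ ⊥ := IsDiscreteValuationRing.not_a_field A
  have hD : differentIdeal A B ≠ ⊥ := differentIdeal_ne_bot
  obtain ⟨m, hm⟩ := IsDiscreteValuationRing.ideal_eq_span_pow_irreducible hD hπ
  have hdvd : maximalIdeal B ^ (e - 1) ∣ differentIdeal A B := by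
    apply pow_sub_one_dvd_differentIdeal A (maximalIdeal B) e hp
    rw [hpB, hP, Ideal.span_singleton_pow]
  have hπ0 : π ≠ 0 := hπ.ne_zero
  have hπu : ¬ IsUnit π := hπ.not_isUnit
  rw [hm, hpB, hP, Ideal.span_singleton_pow] at *
  rw [Ideal.dvd_iff_le, Ideal.span_singleton_le_span_singleton, pow_dvd_pow_iff hπ0 hπu] at hdvd ⊢
  constructor
  · intro h
    have h1 : π ^ m ∣ π ^ (e - 1) := by
      rw [← Ideal.span_singleton_le_span_singleton, h]
    rw [pow_dvd_pow_iff hπ0 hπu] at h1
    omega
  · intro h
    have : m = e - 1 := by omega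
    rw [this]

theorem main :
    differentIdeal A B = maximalIdeal B ^ (Ideal.ramificationIdx (maximalIdeal B) A - 1) ↔
      (Algebra.IsSeparable (ResidueField A) (ResidueField B) ∧
        ((Ideal.ramificationIdx (maximalIdeal B) A : ℕ) : ResidueField A) ≠ 0) := by
  have hp : maximalIdeal A ≠ ⊥ := IsDiscreteValuationRing.not_a_field A
  rw [different_eq_iff_not_dvd, map_dvd_differentIdeal_iff A B hp]
  obtain ⟨π, hπ, hP, hpB, he⟩ := exists_unif A B
  set e := Ideal.ramificationIdx (maximalIdeal B) A with hedef
  have key : ∀ b : B, residue A (intTrace A B b) =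
      (e : ResidueField A) * Algebra.trace (ResidueField A) (ResidueField B) (residue B b) := by
    intro b
    rw [← nsmul_eq_mul]
    have h1 := Algebra.trace_quotient_eq_of_isDedekindDomain B (maximalIdeal A) b
    have h2 := TRF.trace_quotient_eq_smul (A := A) π hP hπ.ne_zero e he hpB b
    exact h1.symm.trans h2
  have hmem : ∀ b : B, intTrace A B b ∈ maximalIdeal A ↔ residue A (intTrace A B b) = 0 := by
    intro b
    exact (Ideal.Quotient.eq_zero_iff_mem).symm
  simp only [hmem, key]
  constructor
  · intro h
    push Not at h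
    obtain ⟨b, hb⟩ := h
    have h1 := left_ne_zero_of_mul hb
    have h2 := right_ne_zero_of_mul hb
    refine ⟨?_, h1⟩
    by_contra hsep
    rw [Algebra.trace_eq_zero_of_not_isSeparable hsep] at h2
    exact h2 rfl
  · rintro ⟨hsep, h1⟩ h
    have h2 := Algebra.trace_ne_zero (ResidueField A) (ResidueField B)
    apply h2
    apply LinearMap.ext
    intro y
    obtain ⟨b, rfl⟩ := residue_surjective y
    have := h b
    rcases mul_eq_zero.mp this with h3 | h3
    · exact absurd h3 h1
    · exact h3

end main

end Groth.Agent.H9.DFT
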