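import Mathlib

set_option autoImplicit false
set_option linter.style.haveILetI false
set_option linter.unusedSectionVars false
set_option linter.unusedVariables false

namespace Groth.Agent.H9.DIF

open scoped TensorProduct
open Polynomial

universe u u' v w

section Basis

variable (k : Type u) (k' : Type u') (F : Type v) (K : Type w) [Field k] [CommRing k'] [Algebra k k']
  [CommRing F] [Algebra k F] [CommRing K] [Algebra F K] [Algebra k K] [IsScalarTower k F K]

/-- the algebra structure of `k' ⊗ K` over `k' ⊗ F`. -/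
@[reducible] noncomputable def algTS : Algebra (k' ⊗[k] F) (k' ⊗[k] K) :=
  (Algebra.TensorProduct.map (AlgHom.id k k') (IsScalarTower.toAlgHom k F K)).toRingHom.toAlgebra

attribute [local instance] algTS

variable {k k' F K} {n : ℕ}

lemma algTS_smul_def (c : k' ⊗[k] F) (z : k' ⊗[k] K) :
    c • z = (Algebra.TensorProduct.map (AlgHom.id k k') (IsScalarTower.toAlgHom k F K)) c * z := by
  rw [Algebra.smul_def]
  rfl

lemma algTS_algebraMap (c : k' ⊗[k] F) :
    algebraMap (k' ⊗[k] F) (k' ⊗[k] K) c =
      (Algebra.TensorProduct.map (AlgHom.id k k') (IsScalarTower.toAlgHom k F K)) c := rfl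

lemma algTS_tmul_smul_tmul (r s : k') (a : F) (l : K) :
    (r ⊗ₜ[k] a : k' ⊗[k] F) • (s ⊗ₜ[k] l : k' ⊗[k] K) = (r * s) ⊗ₜ[k] (a • l) := by
  rw [algTS_smul_def, Algebra.TensorProduct.map_tmul, Algebra.TensorProduct.tmul_mul_tmul]
  simp [Algebra.smul_def]

/-- coordinate maps. -/
noncomputable def rho (e : Module.Basis (Fin n) F K) (i : Fin n) : k' ⊗[k] K →ₗ[k] k' ⊗[k] F :=
  TensorProduct.map LinearMap.id ((e.coord i).restrictScalars k)

@[simp] lemma rho_tmul (e : Module.Basis (Fin n) F K) (i : Fin n) (s : k') (l : K) :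
    rho (k := k) (k' := k') e i (s ⊗ₜ l) = s ⊗ₜ (e.repr l i) := by
  simp [rho]

lemma rho_smul (e : Module.Basis (Fin n) F K) (i : Fin n) (c : k' ⊗[k] F) (z : k' ⊗[k] K) :
    rho e i (c • z) = c * rho e i z := by
  induction c using TensorProduct.induction_on with
  | zero => simp
  | add c₁ c₂ h₁ h₂ => rw [add_smul, map_add, h₁, h₂, add_mul]
  | tmul r a =>
    induction z using TensorProduct.induction_on with
    | zero => simp
    | add z₁ z₂ h₁ h₂ => rw [smul_add, map_add, h₁, h₂, map_add, mul_add]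
    | tmul s l =>
      rw [algTS_tmul_smul_tmul, rho_tmul, rho_tmul, Algebra.TensorProduct.tmul_mul_tmul]
      simp

lemma rho_basis (e : Module.Basis (Fin n) F K) (i j : Fin n) :
    rho (k := k) (k' := k') e i (1 ⊗ₜ e j) = if j = i then 1 else 0 := by
  rw [rho_tmul, Module.Basis.repr_self, Finsupp.single_apply]
  split_ifs with h
  · rfl
  · exact TensorProduct.tmul_zero _ _

lemma sum_rho_smul (e : Module.Basis (Fin n) F K) (z : k' ⊗[k] K) :
    ∑ i, rho e i z • ((1 : k') ⊗ₜ[k] e i : k' ⊗[k] K) = z := by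
  induction z using TensorProduct.induction_on with
  | zero => simp
  | add z₁ z₂ h₁ h₂ =>
    simp_rw [map_add, add_smul, Finset.sum_add_distrib]
    rw [h₁, h₂]
  | tmul s l =>
    simp_rw [rho_tmul, algTS_tmul_smul_tmul, mul_one]
    rw [← TensorProduct.tmul_sum, e.sum_repr]

/-- the basis `1 ⊗ e i` of `k' ⊗ K` over `k' ⊗ F`. -/
noncomputable def tbasis (e : Module.Basis (Fin n) F K) :
    Module.Basis (Fin n) (k' ⊗[k] F) (k' ⊗[k] K) :=
  Module.Basis.mk (v := fun i => ((1 : k') ⊗ₜ[k] e i : k' ⊗[k] K))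
    (by
      rw [Fintype.linearIndependent_iff]
      intro g hg i
      have := congrArg (rho e i) hg
      rw [map_sum, map_zero] at this
      simp_rw [rho_smul, rho_basis] at this
      simpa using this)
    (by
      intro z _
      rw [← sum_rho_smul e z]
      exact Submodule.sum_mem _ fun i _ =>
        Submodule.smul_mem _ _ (Submodule.subset_span ⟨i, rfl⟩))

@[simp] lemma tbasis_apply (e : Module.Basis (Fin n) F K) (i : Fin n) :
    tbasis (k := k) (k' := k') e i = 1 ⊗ₜ e i := by
  simp [tbasis]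

end Basis

end Groth.Agent.H9.DIF
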