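import Mathlib
import Groth.Agent.Lib.Helper9.Misc.DIF1

set_option autoImplicit false
set_option linter.style.haveILetI false
set_option linter.unusedSectionVars false
set_option linter.unusedVariables false

namespace Groth.Agent.H9.DIF

open scoped TensorProduct
open Polynomial

universe u u' v w w'

section IntClosed

variable {k : Type u} {k' : Type u'} {R : Type w'} {F : Type v}
  [Field k] [Field k'] [Algebra k k']
  [CommRing R] [IsDomain R] [Algebra k R]
  [Field F] [Algebra k F] [Algebra R F] [IsScalarTower k R F] [IsFractionRing R F]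

attribute [local instance] algTS

lemma algebraMap_RT_injective :
    Function.Injective (algebraMap (k' ⊗[k] R) (k' ⊗[k] F)) := by
  have h1 : Function.Injective
      (LinearMap.lTensor k' ((IsScalarTower.toAlgHom k R F).toLinearMap)) :=
    Module.Flat.lTensor_preserves_injective_linearMap _ (IsFractionRing.injective R F)
  intro x y hxy
  apply h1
  have h2 : ∀ z, (LinearMap.lTensor k' ((IsScalarTower.toAlgHom k R F).toLinearMap)) z =
      algebraMap (k' ⊗[k] R) (k' ⊗[k] F) z := by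
    intro z
    induction z using TensorProduct.induction_on with
    | zero => simp
    | add z₁ z₂ h₁ h₂ => rw [map_add, map_add, h₁, h₂]
    | tmul b r => simp [algTS_algebraMap]
  rw [h2, h2, hxy]

lemma exists_clear_RT (z : k' ⊗[k] F) : ∃ r : R, r ≠ 0 ∧ ∃ u : k' ⊗[k] R,
    algebraMap (k' ⊗[k] R) (k' ⊗[k] F) u = ((1 : k') ⊗ₜ[k] algebraMap R F r) * z := by
  induction z using TensorProduct.induction_on with
  | zero => exact ⟨1, one_ne_zero, 0, by simp⟩
  | tmul c a =>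
    obtain ⟨x, r, hr, rfl⟩ := IsFractionRing.div_surjective (A := R) a
    have hr0 : r ≠ 0 := nonZeroDivisors.ne_zero hr
    refine ⟨r, hr0, c ⊗ₜ x, ?_⟩
    rw [algTS_algebraMap, Algebra.TensorProduct.map_tmul, Algebra.TensorProduct.tmul_mul_tmul,
      one_mul, mul_div_cancel₀]
    · rfl
    · exact (map_ne_zero_iff _ (IsFractionRing.injective R F)).mpr hr0
  | add y₁ y₂ h₁ h₂ =>
    obtain ⟨s₁, hs₁, y₁', hy₁⟩ := h₁
    obtain ⟨s₂, hs₂, y₂', hy₂⟩ := h₂
    refine ⟨s₁ * s₂, mul_ne_zero hs₁ hs₂,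
      ((1 : k') ⊗ₜ s₂) * y₁' + ((1 : k') ⊗ₜ s₁) * y₂', ?_⟩
    have hm : ∀ s : R, algebraMap (k' ⊗[k] R) (k' ⊗[k] F) ((1 : k') ⊗ₜ s) =
        (1 : k') ⊗ₜ algebraMap R F s := by
      intro s
      rw [algTS_algebraMap, Algebra.TensorProduct.map_tmul]
      rfl
    rw [map_add, map_mul, map_mul, hm, hm, hy₁, hy₂, map_mul, mul_add]
    have : (((1 : k') ⊗ₜ[k] (algebraMap R F s₁ * algebraMap R F s₂)) : k' ⊗[k] F) =
        ((1 : k') ⊗ₜ algebraMap R F s₁) * ((1 : k') ⊗ₜ algebraMap R F s₂) := by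
      rw [Algebra.TensorProduct.tmul_mul_tmul, mul_one]
    rw [this]
    ring

theorem mem_range_of_isIntegral (hdom : IsDomain (k' ⊗[k] R))
    (hic : IsIntegrallyClosed (k' ⊗[k] R)) (z : k' ⊗[k] F)
    (hz : IsIntegral (k' ⊗[k] R) z) :
    z ∈ Set.range (algebraMap (k' ⊗[k] R) (k' ⊗[k] F)) := by
  classical
  set ι := algebraMap (k' ⊗[k] R) (k' ⊗[k] F) with hι
  have hinj : Function.Injective ι := algebraMap_RT_injective
  obtain ⟨r, hr, u, hu⟩ := exists_clear_RT (k := k) (k' := k') (R := R) z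
  set ρ : k' ⊗[k] R := (1 : k') ⊗ₜ r with hρ
  have hιρ : ι ρ = (1 : k') ⊗ₜ algebraMap R F r := by
    rw [hι, algTS_algebraMap, Algebra.TensorProduct.map_tmul]
    rfl
  have hrF : algebraMap R F r ≠ 0 := (map_ne_zero_iff _ (IsFractionRing.injective R F)).mpr hr
  have hunit : ((1 : k') ⊗ₜ[k] (algebraMap R F r)⁻¹ : k' ⊗[k] F) * ι ρ = 1 := by
    rw [hιρ, Algebra.TensorProduct.tmul_mul_tmul, inv_mul_cancel₀ hrF, mul_one]
    rfl
  haveI : Nontrivial (k' ⊗[k] F) := hinj.nontrivial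
  have hρ0 : ρ ≠ 0 := by
    intro h0
    rw [h0, map_zero, mul_zero] at hunit
    exact zero_ne_one hunit
  obtain ⟨p, hp, hpz⟩ := hz
  let Q := FractionRing (k' ⊗[k] R)
  let f := algebraMap (k' ⊗[k] R) Q
  have hfinj : Function.Injective f := IsFractionRing.injective _ _
  -- u is a root of scaleRoots p ρ
  have h1 : (scaleRoots p ρ).eval u = 0 := by
    apply hinj
    rw [map_zero, ← Polynomial.eval₂_at_apply, hu, ← hιρ, scaleRoots_eval₂_mul, hpz, mul_zero]
  -- so u / ρ is a root of p in Q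
  have h2 : eval₂ f (f u / f ρ) p = 0 := by
    have hfρ : f ρ ≠ 0 := (map_ne_zero_iff _ hfinj).mpr hρ0
    have h3 := scaleRoots_eval₂_mul (p := p) f (f u / f ρ) ρ
    rw [mul_div_cancel₀ _ hfρ, Polynomial.eval₂_at_apply, h1, map_zero] at h3
    exact (mul_eq_zero.mp h3.symm).resolve_left (pow_ne_zero _ hfρ)
  have h4 : IsIntegral (k' ⊗[k] R) (f u / f ρ) := ⟨p, hp, h2⟩
  obtain ⟨u', hu'⟩ := IsIntegrallyClosed.isIntegral_iff.mp h4
  have hfρ : f ρ ≠ 0 := (map_ne_zero_iff _ hfinj).mpr hρ0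
  have h5 : u = ρ * u' := by
    apply hfinj
    rw [map_mul]
    show f u = f ρ * f u'
    rw [show f u' = f u / f ρ from hu', mul_div_cancel₀ _ hfρ]
  refine ⟨u', ?_⟩
  have h6 : ι ρ * ι u' = ι ρ * z := by
    rw [← map_mul, ← h5, hu, hιρ]
  calc ι u' = ((1 : k') ⊗ₜ[k] (algebraMap R F r)⁻¹ : k' ⊗[k] F) * ι ρ * ι u' := by
        rw [hunit, one_mul]
    _ = ((1 : k') ⊗ₜ[k] (algebraMap R F r)⁻¹ : k' ⊗[k] F) * ι ρ * z := by
        rw [mul_assoc, h6, ← mul_assoc]
    _ = z := by rw [hunit, one_mul]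

end IntClosed

end Groth.Agent.H9.DIF
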