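import Mathlib
import Groth.Agent.Lib.Helper9.Misc.DIF2

set_option autoImplicit false
set_option linter.style.haveILetI false
set_option linter.unusedSectionVars false
set_option linter.unusedVariables false

namespace Groth.Agent.H9.DIF

open scoped TensorProduct
open Polynomial

universe u u' v w w'

section Different

variable {k : Type u} {k' : Type u'} {R : Type w'} {F : Type v} {K : Type w}
  [Field k] [Field k'] [Algebra k k']
  [CommRing R] [IsDomain R] [Algebra k R] [IsIntegrallyClosed R]
  [Field F] [Algebra k F] [Algebra R F] [IsScalarTower k R F] [IsFractionRing R F]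
  [Field K] [Algebra F K] [Algebra k K] [IsScalarTower k F K] [Algebra R K] [IsScalarTower R F K]
  [IsScalarTower k R K]

attribute [local instance] algTS

instance towerRTS : IsScalarTower (k' ⊗[k] R) (k' ⊗[k] F) (k' ⊗[k] K) := by
  refine IsScalarTower.of_algebraMap_eq fun x => ?_
  induction x using TensorProduct.induction_on with
  | zero => simp
  | add x₁ x₂ h₁ h₂ => rw [map_add, map_add, map_add, h₁, h₂]
  | tmul c r =>
    simp only [algTS_algebraMap, Algebra.TensorProduct.map_tmul, AlgHom.id_apply,
      IsScalarTower.coe_toAlgHom']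
    rw [IsScalarTower.algebraMap_apply R F K]

variable (k k' R F) in
/-- the ring hom `R → k' ⊗ F`. -/
noncomputable def sig : R →+* k' ⊗[k] F :=
  (Algebra.TensorProduct.includeRight : F →ₐ[k] k' ⊗[k] F).toRingHom.comp (algebraMap R F)

lemma sig_apply (r : R) : sig k k' R F r = (1 : k') ⊗ₜ algebraMap R F r := rfl

lemma aeval_Y_map (y : K) (q : R[X]) :
    aeval ((1 : k') ⊗ₜ[k] y : k' ⊗[k] K) (q.map (sig k k' R F)) = (1 : k') ⊗ₜ aeval y q := by
  rw [aeval_def, eval₂_map]
  have h1 : (algebraMap (k' ⊗[k] F) (k' ⊗[k] K)).comp (sig k k' R F) =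
      ((Algebra.TensorProduct.includeRight : K →ₐ[k] k' ⊗[k] K).toRingHom).comp
        (algebraMap R K) := by
    ext r
    simp only [RingHom.comp_apply, sig_apply, algTS_algebraMap, Algebra.TensorProduct.map_tmul,
      AlgHom.id_apply, IsScalarTower.coe_toAlgHom']
    rw [← IsScalarTower.algebraMap_apply R F K]
    rfl
  rw [h1]
  have h2 := Polynomial.hom_eval₂ q (algebraMap R K)
    ((Algebra.TensorProduct.includeRight : K →ₐ[k] k' ⊗[k] K).toRingHom) y
  rw [aeval_def]
  exact h2.symm

/-- the image of `k' ⊗ C₀` in `k' ⊗ K`. -/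
noncomputable abbrev mu : k' ⊗[k] (integralClosure R K) →ₐ[k] k' ⊗[k] K :=
  Algebra.TensorProduct.map (AlgHom.id k k') ((integralClosure R K).val.restrictScalars k)

lemma algebraMap_RS_mem (u : k' ⊗[k] R) :
    algebraMap (k' ⊗[k] R) (k' ⊗[k] K) u ∈ (mu (k := k) (k' := k') (R := R) (K := K)).range := by
  induction u using TensorProduct.induction_on with
  | zero => rw [map_zero]; exact zero_mem _
  | add x₁ x₂ h₁ h₂ => rw [map_add]; exact add_mem h₁ h₂
  | tmul c r =>
    refine ⟨c ⊗ₜ ⟨algebraMap R K r, isIntegral_algebraMap⟩, ?_⟩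
    simp [algTS_algebraMap]

theorem deriv_ne_zero [Algebra.IsSeparable F K] {y : K} (hy : IsIntegral R y) :
    aeval y (minpoly R y).derivative ≠ 0 := by
  have hsep : (minpoly F y).Separable := Algebra.IsSeparable.isSeparable F y
  have h1 := hsep.aeval_derivative_ne_zero (minpoly.aeval F y)
  rw [minpoly.isIntegrallyClosed_eq_field_fractions' F hy, derivative_map,
    aeval_map_algebraMap] at h1
  exact h1

theorem deriv_isIntegral {y : K} (hy : IsIntegral R y) :
    IsIntegral R (aeval y (minpoly R y).derivative) := by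
  have h1 : Algebra.adjoin R {y} ≤ integralClosure R K :=
    Algebra.adjoin_le (Set.singleton_subset_iff.mpr hy)
  exact h1 (aeval_mem_adjoin_singleton R y)

theorem different_mul_mem [FiniteDimensional F K]
    (hdom : IsDomain (k' ⊗[k] R)) (hic : IsIntegrallyClosed (k' ⊗[k] R))
    {y : K} (hy : IsIntegral R y) (hy' : Algebra.adjoin F {y} = ⊤)
    (w : k' ⊗[k] K) (hw : IsIntegral (k' ⊗[k] R) w) :
    ((1 : k') ⊗ₜ[k] aeval y (minpoly R y).derivative) * w ∈
      (mu (k := k) (k' := k') (R := R) (K := K)).range := by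
  classical
  set f := minpoly R y with hf
  have hfm : f.Monic := minpoly.monic hy
  have hfF : minpoly F y = f.map (algebraMap R F) :=
    minpoly.isIntegrallyClosed_eq_field_fractions' F hy
  let pb := PowerBasis.ofAdjoinEqTop (hy.tower_top : IsIntegral F y) hy'
  have hdim : pb.dim = f.natDegree := by
    rw [PowerBasis.ofAdjoinEqTop_dim, hfF, hfm.natDegree_map]
  let e := pb.basis
  have he : ∀ i, e i = y ^ (i : ℕ) := fun i => by
    rw [pb.basis_eq_pow, PowerBasis.ofAdjoinEqTop_gen]
  let tb := tbasis (k := k) (k' := k') e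
  set Y : k' ⊗[k] K := (1 : k') ⊗ₜ y with hY
  have htb : ∀ i, tb i = Y ^ (i : ℕ) := fun i => by
    rw [tbasis_apply, he, hY, Algebra.TensorProduct.tmul_pow, one_pow]
  let φ : (k' ⊗[k] F)[X] →ₐ[k' ⊗[k] R] k' ⊗[k] K :=
    (aeval Y : (k' ⊗[k] F)[X] →ₐ[k' ⊗[k] F] k' ⊗[k] K).restrictScalars (k' ⊗[k] R)
  have hφ : ∀ q, φ q = aeval Y q := fun q => rfl
  set ft : (k' ⊗[k] F)[X] := f.map (sig k k' R F) with hft
  have hftm : ft.Monic := hfm.map _
  have hftd : ft.natDegree = pb.dim := by rw [hft, hfm.natDegree_map, hdim]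
  have hφft : φ ft = 0 := by
    rw [hφ, hft, aeval_Y_map, hf, minpoly.aeval, TensorProduct.tmul_zero]
  -- surjectivity
  have hsurj : Function.Surjective φ := by
    intro s
    refine ⟨∑ i, C (tb.repr s i) * X ^ (i : ℕ), ?_⟩
    rw [map_sum]
    conv_rhs => rw [← tb.sum_repr s]
    refine Finset.sum_congr rfl fun i _ => ?_
    rw [map_mul, map_pow, hφ, hφ, aeval_C, aeval_X, htb, Algebra.smul_def]
  -- kernel
  have hker : RingHom.ker φ.toRingHom = Ideal.span {ft} := by
    apply le_antisymm
    · intro p hp
      rw [RingHom.mem_ker] at hp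
      rw [Ideal.mem_span_singleton]
      rw [← Polynomial.modByMonic_eq_zero_iff_dvd hftm]
      set r := p %ₘ ft with hr
      have hdeg : r.natDegree < pb.dim ∨ r = 0 := by
        by_cases h0 : r = 0
        · exact Or.inr h0
        · left
          rw [← hftd]
          exact Polynomial.natDegree_modByMonic_lt p hftm (by
            intro h1
            have : ft.natDegree = 0 := by rw [h1, natDegree_one]
            have hd : pb.dim = 0 := by rw [← hftd, this]
            have := pb.dim_pos
            omega)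
      rcases hdeg with hdeg | h0
      · have hφr : φ r = 0 := by
          have h1 : p = r + ft * (p /ₘ ft) := (Polynomial.modByMonic_add_div p ft).symm
          have h2 : φ p = φ r + φ ft * φ (p /ₘ ft) := by
            conv_lhs => rw [h1]
            rw [map_add, map_mul]
          rw [hφft, zero_mul, add_zero] at h2
          rw [← h2]
          exact hp
        have h3 : r = ∑ i ∈ Finset.range pb.dim, monomial i (r.coeff i) :=
          Polynomial.as_sum_range' r pb.dim hdeg
        have h4 : ∑ i : Fin pb.dim, r.coeff i • tb i = 0 := by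
          rw [← hφr]
          conv_rhs => rw [h3]
          rw [map_sum]
          simp_rw [htb]
          rw [Fin.sum_univ_eq_sum_range (fun i => r.coeff i • Y ^ i)]
          refine Finset.sum_congr rfl fun i _ => ?_
          rw [hφ, aeval_monomial, Algebra.smul_def]
        have h5 := Fintype.linearIndependent_iff.mp tb.linearIndependent _ h4
        rw [h3]
        refine Finset.sum_eq_zero fun i hi => ?_
        rw [h5 ⟨i, Finset.mem_range.mp hi⟩, monomial_zero_right]
      · exact h0
    · rw [Ideal.span_le]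
      intro p hp
      rw [Set.mem_singleton_iff] at hp
      rw [hp]
      exact hφft
  -- apply the different lemma
  have hcoeff : ∀ i, IsIntegral (k' ⊗[k] R) (ft.coeff i) := by
    intro i
    have h1 : ft.coeff i = algebraMap (k' ⊗[k] R) (k' ⊗[k] F) ((1 : k') ⊗ₜ f.coeff i) := by
      rw [hft, coeff_map, sig_apply, algTS_algebraMap, Algebra.TensorProduct.map_tmul]
      rfl
    rw [h1]
    exact isIntegral_algebraMap
  obtain ⟨g, hg, hgi⟩ := exists_derivative_mul_eq_and_isIntegral_coeff hsurj hftm hcoeff hker hw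
  have hd : φ (derivative ft) = (1 : k') ⊗ₜ[k] aeval y (derivative f) := by
    rw [hφ, hft, derivative_map, aeval_Y_map]
  rw [← hd, hg, hφ, aeval_eq_sum_range, ]
  refine Subalgebra.sum_mem _ fun i _ => ?_
  obtain ⟨u, hu⟩ := mem_range_of_isIntegral hdom hic _ (hgi i)
  rw [Algebra.smul_def, ← hu, ← IsScalarTower.algebraMap_apply]
  refine Subalgebra.mul_mem _ (algebraMap_RS_mem u) (Subalgebra.pow_mem _ ?_ _)
  exact ⟨(1 : k') ⊗ₜ ⟨y, hy⟩, by simp [hY]⟩

end Different

end Groth.Agent.H9.DIF
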