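import Mathlib
import Groth.Prelude.Def_PolLaw2

/-! Helper9: the affine law x ↦ (x,1) and the determinant of the action extended by the identity on a complement -/
set_option linter.style.haveILetI false

namespace Groth.Agent.H9.DLP
open scoped TensorProduct

universe u
variable {A : Type u} [CommRing A] {B : Type u} [CommRing B] [Algebra A B]

section aff

/-- the affine law `x ↦ (x, 1) : B → B × A` -/
noncomputable def affLaw : B →ₚₗ[A] (B × A) where
  toFun' S _ _ x := (LinearMap.inl A B A).lTensor S x + (1 : S) ⊗ₜ[A] ((0, 1) : B × A)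
  isCompat' φ := by
    funext x
    simp only [Function.comp_apply, map_add, LinearMap.rTensor_tmul, AlgHom.toLinearMap_apply, map_one]
    congr 1
    rw [← LinearMap.comp_apply, ← LinearMap.comp_apply, LinearMap.rTensor_comp_lTensor,
      LinearMap.lTensor_comp_rTensor]

variable (S : Type u) [CommSemiring S] [Algebra A S]

lemma inl_mul (x y : S ⊗[A] B) :
    (LinearMap.inl A B A).lTensor S (x * y) =
      (LinearMap.inl A B A).lTensor S x * (LinearMap.inl A B A).lTensor S y := by
  induction x using TensorProduct.induction_on with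
  | zero => simp
  | tmul s b =>
    induction y using TensorProduct.induction_on with
    | zero => simp
    | tmul s' b' => simp [Algebra.TensorProduct.tmul_mul_tmul]
    | add y y' hy hy' => rw [mul_add, map_add, hy, hy', map_add, mul_add]
  | add x x' hx hx' => rw [add_mul, map_add, hx, hx', map_add, add_mul]

lemma inl_mul_e (x : S ⊗[A] B) :
    (LinearMap.inl A B A).lTensor S x * ((1 : S) ⊗ₜ[A] ((0, 1) : B × A)) = 0 := by
  induction x using TensorProduct.induction_on with
  | zero => simp
  | tmul s b =>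
    simp only [LinearMap.lTensor_tmul, LinearMap.inl_apply, Algebra.TensorProduct.tmul_mul_tmul,
      mul_one, Prod.mk_mul_mk, mul_zero]
    exact TensorProduct.tmul_zero _ _
  | add x x' hx hx' => rw [map_add, add_mul, hx, hx', add_zero]

lemma affLaw_one : (affLaw (A := A) (B := B)).toFun' S 1 = 1 := by
  show (LinearMap.inl A B A).lTensor S 1 + (1 : S) ⊗ₜ[A] ((0, 1) : B × A) = 1
  rw [Algebra.TensorProduct.one_def, LinearMap.lTensor_tmul, ← TensorProduct.tmul_add]
  simp only [LinearMap.inl_apply, Prod.mk_add_mk, add_zero, zero_add]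
  rfl

lemma affLaw_mul (x y : S ⊗[A] B) :
    (affLaw (A := A) (B := B)).toFun' S (x * y) =
      (affLaw (A := A) (B := B)).toFun' S x * (affLaw (A := A) (B := B)).toFun' S y := by
  show (LinearMap.inl A B A).lTensor S (x * y) + (1 : S) ⊗ₜ[A] ((0, 1) : B × A) =
    ((LinearMap.inl A B A).lTensor S x + (1 : S) ⊗ₜ[A] ((0, 1) : B × A)) *
      ((LinearMap.inl A B A).lTensor S y + (1 : S) ⊗ₜ[A] ((0, 1) : B × A))
  rw [add_mul, mul_add, mul_add, ← inl_mul, inl_mul_e, mul_comm _ ((LinearMap.inl A B A).lTensor S y),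
    inl_mul_e, Algebra.TensorProduct.tmul_mul_tmul]
  simp

end aff


section PM
variable (B) (M M' : Type u) [AddCommGroup M] [Module A M] [Module B M] [IsScalarTower A B M]
  [AddCommGroup M'] [Module A M']

/-- `M × M'` as a module over `B × A` -/
def PM (_ : Type u) (M M' : Type u) := M × M'

instance : AddCommGroup (PM B M M') := inferInstanceAs (AddCommGroup (M × M'))
instance : Module A (PM B M M') := inferInstanceAs (Module A (M × M'))

instance : Module (B × A) (PM B M M') where
  smul r x := ((r.1 • x.1, r.2 • x.2) : M × M')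
  one_smul x := by
    show ((1 : B) • x.1, (1 : A) • x.2) = x
    rw [one_smul, one_smul]
    rfl
  mul_smul r r' x := by
    show ((r.1 * r'.1) • x.1, (r.2 * r'.2) • x.2) = (r.1 • r'.1 • x.1, r.2 • r'.2 • x.2)
    rw [mul_smul, mul_smul]
  smul_zero r := by
    show (r.1 • (0 : M), r.2 • (0 : M')) = 0
    rw [smul_zero, smul_zero]; rfl
  smul_add r x y := by
    show (r.1 • (x.1 + y.1), r.2 • (x.2 + y.2)) = (r.1 • x.1 + r.1 • y.1, r.2 • x.2 + r.2 • y.2)
    rw [smul_add, smul_add]
  add_smul r r' x := by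
    show ((r.1 + r'.1) • x.1, (r.2 + r'.2) • x.2) = (r.1 • x.1 + r'.1 • x.1, r.2 • x.2 + r'.2 • x.2)
    rw [add_smul, add_smul]
  zero_smul x := by
    show ((0 : B) • x.1, (0 : A) • x.2) = 0
    rw [zero_smul, zero_smul]; rfl

omit [Algebra A B] [Module A M] [IsScalarTower A B M] in
lemma PM_smul_def (r : B × A) (x : PM B M M') :
    r • x = ((r.1 • x.1, r.2 • x.2) : M × M') := rfl

instance : IsScalarTower A (B × A) (PM B M M') where
  smul_assoc a r x := by
    show (((a • r).1 • x.1, (a • r).2 • x.2) : M × M') = a • ((r.1 • x.1, r.2 • x.2) : M × M')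
    rw [Prod.smul_fst, Prod.smul_snd, smul_assoc, smul_assoc]
    rfl

end PM


section law
variable (M M' : Type u) [AddCommGroup M] [Module A M] [Module B M] [IsScalarTower A B M]
  [AddCommGroup M'] [Module A M']

section loc
variable (S : Type u) [CommRing S] [Algebra A S]

/-- `S ⊗ (M × M') ≃ (S ⊗ M) × (S ⊗ M')` -/
noncomputable def eP : S ⊗[A] (PM B M M') ≃ₗ[S] (S ⊗[A] M) × (S ⊗[A] M') :=
  TensorProduct.prodRight A S S M M'

omit [CommRing B] [Algebra A B] [Module B M] [IsScalarTower A B M] in
lemma eP_tmul (s : S) (m : M) (m' : M') :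
    eP (A := A) (B := B) M M' S (s ⊗ₜ[A] ((m, m') : M × M')) = (s ⊗ₜ[A] m, s ⊗ₜ[A] m') :=
  TensorProduct.prodRight_tmul A S S M M' s (m, m')

lemma eP_act_inl (x : S ⊗[A] B) (z : S ⊗[A] (PM B M M')) :
    eP (A := A) (B := B) M M' S (PolLaw.actEnd (PM B M M') S ((LinearMap.inl A B A).lTensor S x) z) =
      (PolLaw.actEnd M S x (eP (A := A) (B := B) M M' S z).1, 0) := by
  induction x using TensorProduct.induction_on with
  | zero => simp only [map_zero, LinearMap.zero_apply]; rfl
  | tmul s b =>
    induction z using TensorProduct.induction_on with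
    | zero => simp only [map_zero]; rfl
    | tmul t mm =>
      obtain ⟨m, m'⟩ := mm
      have h1 := PolLaw.actEnd_tmul_tmul (A := A) (B := B × A) (PM B M M') S s t (LinearMap.inl A B A b)
        ((m, m') : PM B M M')
      rw [LinearMap.lTensor_tmul, h1]
      change eP (A := A) (B := B) M M' S ((s * t) ⊗ₜ[A] ((b • m, (0 : A) • m') : M × M')) = _
      rw [zero_smul, eP_tmul (A := A), eP_tmul (A := A), PolLaw.actEnd_tmul_tmul,
        TensorProduct.tmul_zero]
    | add z z' hz hz' => simp only [map_add, hz, hz', Prod.fst_add, Prod.mk_add_mk, add_zero]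
  | add x x' hx hx' =>
    simp only [map_add, LinearMap.add_apply, hx, hx', Prod.mk_add_mk, add_zero]

lemma eP_act_e (z : S ⊗[A] (PM B M M')) :
    eP (A := A) (B := B) M M' S (PolLaw.actEnd (PM B M M') S ((1 : S) ⊗ₜ[A] ((0, 1) : B × A)) z) =
      (0, (eP (A := A) (B := B) M M' S z).2) := by
  induction z using TensorProduct.induction_on with
  | zero => simp only [map_zero]; rfl
  | tmul t mm =>
    obtain ⟨m, m'⟩ := mm
    have h1 := PolLaw.actEnd_tmul_tmul (A := A) (B := B × A) (PM B M M') S (1 : S) t ((0, 1) : B × A)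
      ((m, m') : PM B M M')
    rw [h1]
    change eP (A := A) (B := B) M M' S ((1 * t) ⊗ₜ[A] (((0 : B) • m, (1 : A) • m') : M × M')) = _
    rw [zero_smul, one_smul, one_mul, eP_tmul (A := A), eP_tmul (A := A), TensorProduct.tmul_zero]
  | add z z' hz hz' => simp only [map_add, hz, hz', Prod.snd_add, Prod.mk_add_mk, add_zero]

lemma eP_act (x : S ⊗[A] B) (z : S ⊗[A] (PM B M M')) :
    eP (A := A) (B := B) M M' S (PolLaw.actEnd (PM B M M') S (affLaw.toFun' S x) z) =
      (PolLaw.actEnd M S x (eP (A := A) (B := B) M M' S z).1, (eP (A := A) (B := B) M M' S z).2) := by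
  show eP (A := A) (B := B) M M' S (PolLaw.actEnd (PM B M M') S
    ((LinearMap.inl A B A).lTensor S x + (1 : S) ⊗ₜ[A] ((0, 1) : B × A)) z) = _
  rw [map_add, LinearMap.add_apply, map_add, eP_act_inl, eP_act_e]
  simp

/-- the determinant of the extended action is the determinant of the action on `M` -/
lemma detAct_aff [Module.Free S (S ⊗[A] M)] [Module.Finite S (S ⊗[A] M)]
    [Module.Free S (S ⊗[A] M')] [Module.Finite S (S ⊗[A] M')] (x : S ⊗[A] B) :
    PolLaw.detAct (PM B M M') S (affLaw.toFun' S x) = PolLaw.detAct M S x := by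
  unfold PolLaw.detAct
  have h1 : PolLaw.actEnd (PM B M M') S (affLaw.toFun' S x) =
      ((eP (A := A) (B := B) M M' S).symm : _ →ₗ[S] _) ∘ₗ
        (LinearMap.prodMap (PolLaw.actEnd M S x) (LinearMap.id : (S ⊗[A] M') →ₗ[S] (S ⊗[A] M'))) ∘ₗ
        ((eP (A := A) (B := B) M M' S) : _ →ₗ[S] _) := by
    apply LinearMap.ext
    intro z
    apply (eP (A := A) (B := B) M M' S).injective
    rw [eP_act]
    simp
  rw [h1]
  have h2 := LinearMap.det_conj
    (LinearMap.prodMap (PolLaw.actEnd M S x) (LinearMap.id : (S ⊗[A] M') →ₗ[S] (S ⊗[A] M')))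
    (eP (A := A) (B := B) M M' S).symm
  rw [LinearEquiv.symm_symm] at h2
  rw [h2, LinearMap.det_prodMap, LinearMap.det_id, mul_one]

end loc

end law

end Groth.Agent.H9.DLP
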