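import Mathlib
import Groth.Prelude.Def_PolLaw

/-! Helper9: laws with target the base ring: values, compatibility, representations. -/

namespace Groth.Agent.H9.PLR
open scoped TensorProduct
open Polynomial

universe u
variable {A : Type u} [CommRing A] {B : Type u} [CommRing B] [Algebra A B]

/-- value in `S` of a law with target `A` -/
noncomputable def hat (F : B →ₚₗ[A] A) (S : Type u) [CommSemiring S] [Algebra A S]
    (x : S ⊗[A] B) : S := TensorProduct.rid A S (F.toFun' S x)

lemma rid_eq (S : Type u) [CommSemiring S] [Algebra A S] (x : S ⊗[A] A) :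
    TensorProduct.rid A S x = Algebra.TensorProduct.rid A S S x := by
  induction x using TensorProduct.induction_on with
  | zero => simp
  | tmul s a => simp
  | add x y hx hy => simp [hx, hy]

lemma hat_one {F : B →ₚₗ[A] A} (hF : PolLaw.IsMult F) (S : Type u) [CommSemiring S] [Algebra A S] :
    hat F S 1 = 1 := by
  unfold hat
  rw [(hF S).1, rid_eq, map_one]

lemma hat_mul {F : B →ₚₗ[A] A} (hF : PolLaw.IsMult F) (S : Type u) [CommSemiring S] [Algebra A S]
    (x y : S ⊗[A] B) : hat F S (x * y) = hat F S x * hat F S y := by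
  unfold hat
  rw [(hF S).2, rid_eq, rid_eq, rid_eq, map_mul]

lemma rTensor_eq_map {S S' : Type u} [CommSemiring S] [Algebra A S] [CommSemiring S'] [Algebra A S']
    (M : Type u) [CommRing M] [Algebra A M]
    (φ : S →ₐ[A] S') (z : S ⊗[A] M) :
    φ.toLinearMap.rTensor M z = Algebra.TensorProduct.map φ (AlgHom.id A M) z := by
  induction z using TensorProduct.induction_on with
  | zero => simp
  | tmul a b => rfl
  | add a b ha hb => simp [ha, hb]

lemma hat_map (F : B →ₚₗ[A] A) {S S' : Type u} [CommSemiring S] [Algebra A S] [CommSemiring S']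
    [Algebra A S'] (h : S →ₐ[A] S') (x : S ⊗[A] B) :
    hat F S' (Algebra.TensorProduct.map h (AlgHom.id A B) x) = h (hat F S x) := by
  unfold hat
  rw [← rTensor_eq_map, ← PolynomialLaw.isCompat_apply']
  generalize F.toFun' S x = y
  induction y using TensorProduct.induction_on with
  | zero => simp
  | tmul s a => simp
  | add x y hx hy => simp only [map_add, hx, hy]

/-- `S`-linear extension of a linear form `φ : Q → A` to `S ⊗ Q → S` -/
noncomputable def phiHat {Q : Type u} [AddCommGroup Q] [Module A Q] (φ : Q →ₗ[A] A)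
    (S : Type u) [CommSemiring S] [Algebra A S] : S ⊗[A] Q →ₗ[S] S :=
  (TensorProduct.AlgebraTensorModule.rid A S S).toLinearMap ∘ₗ φ.baseChange S

@[simp] lemma phiHat_tmul {Q : Type u} [AddCommGroup Q] [Module A Q] (φ : Q →ₗ[A] A)
    (S : Type u) [CommSemiring S] [Algebra A S] (s : S) (q : Q) :
    phiHat φ S (s ⊗ₜ[A] q) = φ q • s := by
  simp [phiHat]

/-- A representation of a law `F : B → A` as a linear form on a product of `d` algebra maps. -/
structure Rep (F : B →ₚₗ[A] A) (d : ℕ) where
  Q : Type u
  [ring : CommRing Q]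
  [alg : Algebra A Q]
  ι : Fin d → (B →ₐ[A] Q)
  φ : Q →ₗ[A] A
  spec : ∀ (S : Type u) [CommRing S] [Algebra A S] (x : S ⊗[A] B),
    hat F S x = phiHat φ S (∏ i, Algebra.TensorProduct.map (AlgHom.id S S) (ι i) x)

attribute [instance] Rep.ring Rep.alg

end Groth.Agent.H9.PLR
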