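import Mathlib
import Groth.Prelude.Def_PolLaw
import Groth.Agent.Lib.Helper9.Misc.PLR1

/-! Helper9: polynomial coefficient machinery for represented laws. -/

namespace Groth.Agent.H9.PLR
open scoped TensorProduct
open Polynomial

universe u
variable {A : Type u} [CommRing A]

section theta
variable (S : Type u) [CommRing S] [Algebra A S] (Q : Type u) [CommRing Q] [Algebra A Q]

/-- the inclusion `S ⊗ Q → S[y] ⊗ Q` -/
noncomputable def inc : S ⊗[A] Q →ₐ[A] S[X] ⊗[A] Q :=
  Algebra.TensorProduct.map (IsScalarTower.toAlgHom A S S[X]) (AlgHom.id A Q)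

@[simp] lemma inc_tmul (s : S) (q : Q) : inc S Q (s ⊗ₜ[A] q) = (C s) ⊗ₜ[A] q := by
  simp [inc]

/-- `S[y] ⊗ Q → (S ⊗ Q)[y]` -/
noncomputable def Θ : S[X] ⊗[A] Q →ₐ[A] (S ⊗[A] Q)[X] :=
  Algebra.TensorProduct.productMap
    (Polynomial.mapAlgHom (Algebra.TensorProduct.includeLeft : S →ₐ[A] S ⊗[A] Q))
    ((IsScalarTower.toAlgHom A (S ⊗[A] Q) (S ⊗[A] Q)[X]).comp
      (Algebra.TensorProduct.includeRight : Q →ₐ[A] S ⊗[A] Q))

@[simp] lemma Θ_tmul (p : S[X]) (q : Q) :
    Θ S Q (p ⊗ₜ[A] q) = Polynomial.map (Algebra.TensorProduct.includeLeft : S →ₐ[A] S ⊗[A] Q).toRingHom p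
      * C ((1 : S) ⊗ₜ[A] q) := by
  simp [Θ, Algebra.TensorProduct.productMap_apply_tmul]

lemma Θ_inc (v : S ⊗[A] Q) : Θ S Q (inc S Q v) = C v := by
  induction v using TensorProduct.induction_on with
  | zero => simp
  | tmul s q =>
    rw [inc_tmul, Θ_tmul, Polynomial.map_C, ← C_mul]
    simp
  | add x y hx hy => simp only [map_add, hx, hy]

lemma Θ_X : Θ S Q ((X : S[X]) ⊗ₜ[A] (1 : Q)) = X := by
  rw [Θ_tmul, Polynomial.map_X, ← Algebra.TensorProduct.one_def, C_1, mul_one]

lemma Θ_one_tmul (q : Q) : Θ S Q ((1 : S[X]) ⊗ₜ[A] q) = C ((1 : S) ⊗ₜ[A] q) := by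
  rw [Θ_tmul, Polynomial.map_one, one_mul]

lemma coeff_phiHat (φ : Q →ₗ[A] A) (V : S[X] ⊗[A] Q) (l : ℕ) :
    (phiHat φ S[X] V).coeff l = phiHat φ S ((Θ S Q V).coeff l) := by
  induction V using TensorProduct.induction_on with
  | zero => simp
  | tmul p q =>
    rw [phiHat_tmul, Θ_tmul, coeff_mul_C, coeff_map, coeff_smul]
    simp
  | add x y hx hy => simp only [map_add, coeff_add, hx, hy]

end theta

section CH
variable {B : Type u} [CommRing B] [Algebra A B] {d : ℕ} {F : B →ₚₗ[A] A} (R : Rep F d) (b : B)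

/-- the product of the `d` base-changed algebra maps -/
noncomputable def gam (S : Type u) [CommRing S] [Algebra A S] (z : S ⊗[A] B) : S ⊗[A] R.Q :=
  ∏ i, Algebra.TensorProduct.map (AlgHom.id S S) (R.ι i) z

/-- the characteristic polynomial (row convention) -/
noncomputable def chi (F : B →ₚₗ[A] A) (b : B) : A[X] :=
  hat F A[X] ((1 : A[X]) ⊗ₜ[A] b - X ⊗ₜ[A] (1 : B))

/-- the universal characteristic polynomial in `Q[X]` -/
noncomputable def Et : R.Q[X] := ∏ i, (C (R.ι i b) - X)

/-- the element `1 ⊗ b - X ⊗ 1` of `S[X] ⊗ B` -/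
noncomputable def bt (S : Type u) [CommRing S] [Algebra A S] : S[X] ⊗[A] B :=
  (1 : S[X]) ⊗ₜ[A] b - X ⊗ₜ[A] (1 : B)

lemma map_inc (S : Type u) [CommRing S] [Algebra A S] (i : Fin d) (z : S ⊗[A] B) :
    Algebra.TensorProduct.map (AlgHom.id S[X] S[X]) (R.ι i) (inc S B z) =
      inc S R.Q (Algebra.TensorProduct.map (AlgHom.id S S) (R.ι i) z) := by
  induction z using TensorProduct.induction_on with
  | zero => simp
  | tmul s q => simp
  | add x y hx hy => simp only [map_add, hx, hy]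

lemma hat_inc (S : Type u) [CommRing S] [Algebra A S] (z : S ⊗[A] B) :
    hat F S[X] (inc S B z) = C (hat F S z) := by
  unfold inc
  rw [hat_map]
  rfl

lemma hat_bt (S : Type u) [CommRing S] [Algebra A S] :
    hat F S[X] (bt b S) = Polynomial.map (algebraMap A S) (chi F b) := by
  have h := hat_map F (Polynomial.mapAlgHom (Algebra.ofId A S)) ((1 : A[X]) ⊗ₜ[A] b - X ⊗ₜ[A] (1 : B))
  rw [map_sub, Algebra.TensorProduct.map_tmul, Algebra.TensorProduct.map_tmul, map_one] at h
  simp only [Polynomial.coe_mapAlgHom, Polynomial.map_X, AlgHom.id_apply] at h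
  exact h

lemma Θ_gam_bt (S : Type u) [CommRing S] [Algebra A S] :
    Θ S R.Q (gam R S[X] (bt b S)) =
      Polynomial.map (Algebra.TensorProduct.includeRight : R.Q →ₐ[A] S ⊗[A] R.Q).toRingHom (Et R b) := by
  unfold gam Et bt
  rw [map_prod, Polynomial.map_prod]
  apply Finset.prod_congr rfl
  intro i _
  rw [map_sub, Algebra.TensorProduct.map_tmul, Algebra.TensorProduct.map_tmul, map_one, map_one,
    AlgHom.id_apply, map_sub,
    Θ_one_tmul, Θ_X, Polynomial.map_sub, Polynomial.map_C, Polynomial.map_X]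
  rfl

lemma Θ_gam_inc (S : Type u) [CommRing S] [Algebra A S] (z : S ⊗[A] B) :
    Θ S R.Q (gam R S[X] (inc S B z)) = C (gam R S z) := by
  unfold gam
  rw [map_prod, map_prod]
  apply Finset.prod_congr rfl
  intro i _
  rw [map_inc, Θ_inc]

lemma gam_mul (S : Type u) [CommRing S] [Algebra A S] (z z' : S ⊗[A] B) :
    gam R S (z * z') = gam R S z * gam R S z' := by
  unfold gam
  rw [← Finset.prod_mul_distrib]
  apply Finset.prod_congr rfl
  intro i _
  rw [map_mul]

/-- goodness of a pair -/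
def Good (S : Type u) [CommRing S] [Algebra A S] (v : S ⊗[A] R.Q) (c : S) : Prop :=
  ∀ K : List ℕ, phiHat R.φ S (((1 : S) ⊗ₜ[A] (K.map (fun l => (Et R b).coeff l)).prod) * v) =
    (K.map (fun l => (chi F b).coeff l)).prod • c

lemma good_coeff (S : Type u) [CommRing S] [Algebra A S] (V : S[X] ⊗[A] R.Q) (c : S[X])
    (h : Good R b S[X] V c) (l : ℕ) : Good R b S ((Θ S R.Q V).coeff l) (c.coeff l) := by
  intro K
  have h1 := congrArg (fun p => Polynomial.coeff p l) (h K)
  rw [coeff_phiHat, map_mul, Θ_one_tmul, coeff_C_mul, coeff_smul] at h1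
  exact h1

lemma good_eval (S : Type u) [CommRing S] [Algebra A S] (V : S[X] ⊗[A] R.Q) (c : S[X])
    (h : Good R b S[X] V c) (l : ℕ) :
    Good R b S (Polynomial.eval ((1 : S) ⊗ₜ[A] (Et R b).coeff l) (Θ S R.Q V))
      (Polynomial.eval (algebraMap A S ((chi F b).coeff l)) c) := by
  intro K
  set N := max (Θ S R.Q V).natDegree c.natDegree + 1 with hN
  rw [Polynomial.eval_eq_sum_range' (n := N) (by omega), Polynomial.eval_eq_sum_range' (n := N) (by omega),
    Finset.mul_sum, map_sum, Finset.smul_sum]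
  apply Finset.sum_congr rfl
  intro m _
  have h1 := good_coeff R b S V c h m (K ++ List.replicate m l)
  rw [List.map_append, List.prod_append, List.map_replicate, List.prod_replicate,
    List.map_append, List.prod_append, List.map_replicate, List.prod_replicate] at h1
  rw [Algebra.TensorProduct.tmul_pow, one_pow]
  calc phiHat R.φ S (((1 : S) ⊗ₜ[A] (K.map (fun l => (Et R b).coeff l)).prod) *
        ((Θ S R.Q V).coeff m * (1 : S) ⊗ₜ[A] ((Et R b).coeff l ^ m)))
      = phiHat R.φ S (((1 : S) ⊗ₜ[A] ((K.map (fun l => (Et R b).coeff l)).prod *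
          (Et R b).coeff l ^ m)) * (Θ S R.Q V).coeff m) := by
        congr 1
        rw [← mul_one (1 : S), ← Algebra.TensorProduct.tmul_mul_tmul, mul_one]
        ring
    _ = _ := h1
    _ = _ := by
        rw [mul_smul, ← map_pow, Algebra.smul_def (((chi F b).coeff l) ^ m), mul_comm]

end CH

end Groth.Agent.H9.PLR
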