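import Mathlib
import Groth.Prelude.Def_PolLaw
import Groth.Agent.Lib.Helper9.Misc.PLR1
import Groth.Agent.Lib.Helper9.Misc.PLR2

/-! Helper9: Cayley–Hamilton for represented multiplicative laws. -/

namespace Groth.Agent.H9.PLR
open scoped TensorProduct
open Polynomial

universe u
variable {A : Type u} [CommRing A]
variable {B : Type u} [CommRing B] [Algebra A B] {d : ℕ} {F : B →ₚₗ[A] A} (R : Rep F d) (b : B)

lemma good_gam (hF : PolLaw.IsMult F) : ∀ (K : List ℕ) (S : Type u) [CommRing S] [Algebra A S]
    (z : S ⊗[A] B),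
    phiHat R.φ S (((1 : S) ⊗ₜ[A] (K.map (fun l => (Et R b).coeff l)).prod) * gam R S z) =
      (K.map (fun l => (chi F b).coeff l)).prod • hat F S z := by
  intro K
  induction K with
  | nil =>
    intro S _ _ z
    rw [List.map_nil, List.prod_nil, List.map_nil, List.prod_nil, one_smul,
      ← Algebra.TensorProduct.one_def, one_mul]
    exact (R.spec S z).symm
  | cons l K ih =>
    intro S _ _ z
    have h1 := congrArg (fun p => Polynomial.coeff p l) (ih S[X] (bt b S * inc S B z))
    rw [coeff_phiHat, map_mul, Θ_one_tmul, gam_mul, map_mul, Θ_gam_bt, Θ_gam_inc, coeff_C_mul,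
      coeff_mul_C, coeff_map, coeff_smul, hat_mul hF, hat_bt, hat_inc, coeff_mul_C, coeff_map] at h1
    rw [List.map_cons, List.prod_cons, List.map_cons, List.prod_cons]
    calc phiHat R.φ S (((1 : S) ⊗ₜ[A] ((Et R b).coeff l * (K.map (fun l => (Et R b).coeff l)).prod)) *
          gam R S z)
        = phiHat R.φ S ((1 : S) ⊗ₜ[A] (K.map (fun l => (Et R b).coeff l)).prod *
          ((Algebra.TensorProduct.includeRight : R.Q →ₐ[A] S ⊗[A] R.Q).toRingHom ((Et R b).coeff l) *
            gam R S z)) := by
          congr 1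
          show _ = (1 : S) ⊗ₜ[A] (K.map (fun l => (Et R b).coeff l)).prod *
            (((1 : S) ⊗ₜ[A] ((Et R b).coeff l)) * gam R S z)
          rw [← mul_assoc, Algebra.TensorProduct.tmul_mul_tmul, mul_one, mul_comm ((Et R b).coeff l)]
      _ = _ := h1
      _ = _ := by
          rw [mul_smul, Algebra.smul_def ((chi F b).coeff l), mul_smul_comm]

/-- the elements `w * (1 ⊗ b ^ j)` -/
noncomputable def uu (S : Type u) [CommRing S] [Algebra A S] (w : S ⊗[A] B) (j : ℕ) : S ⊗[A] B :=
  w * ((1 : S) ⊗ₜ[A] (b ^ j))

lemma inc_uu (S : Type u) [CommRing S] [Algebra A S] (w : S ⊗[A] B) (j : ℕ) :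
    inc S B (uu b S w j) = uu b S[X] (inc S B w) j := by
  unfold uu
  rw [map_mul, inc_tmul, C_1]

/-- the `n`-th perturbed product -/
noncomputable def VV (S : Type u) [CommRing S] [Algebra A S] (z w : S ⊗[A] B) (n : ℕ) : S ⊗[A] R.Q :=
  ∏ i, (Algebra.TensorProduct.map (AlgHom.id S S) (R.ι i) z +
    ∑ j ∈ Finset.range n, ((1 : S) ⊗ₜ[A] (Et R b).coeff j) *
      Algebra.TensorProduct.map (AlgHom.id S S) (R.ι i) (uu b S w j))

/-- the `n`-th perturbed value -/
noncomputable def cc (F : B →ₚₗ[A] A) (S : Type u) [CommRing S] [Algebra A S] (z w : S ⊗[A] B) (n : ℕ) : S :=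
  hat F S (z + ∑ j ∈ Finset.range n, (chi F b).coeff j • uu b S w j)

/-- evaluation `S[X] → S` at the image of `a : A` -/
noncomputable def evA (S : Type u) [CommRing S] [Algebra A S] (a : A) : S[X] →ₐ[A] S :=
  (Polynomial.aeval (algebraMap A S a)).restrictScalars A

lemma evA_apply (S : Type u) [CommRing S] [Algebra A S] (a : A) (p : S[X]) :
    evA S a p = Polynomial.eval (algebraMap A S a) p := by
  simp [evA, Polynomial.coe_aeval_eq_eval]

lemma evA_inc (S : Type u) [CommRing S] [Algebra A S] (a : A) (v : S ⊗[A] B) :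
    Algebra.TensorProduct.map (evA S a) (AlgHom.id A B) (inc S B v) = v := by
  induction v using TensorProduct.induction_on with
  | zero => simp
  | tmul s q => simp [evA_apply]
  | add x y hx hy => simp only [map_add, hx, hy]

lemma good_VV (hF : PolLaw.IsMult F) : ∀ (n : ℕ) (S : Type u) [CommRing S] [Algebra A S]
    (z w : S ⊗[A] B), Good R b S (VV R b S z w n) (cc b F S z w n) := by
  intro n
  induction n with
  | zero =>
    intro S _ _ z w K
    unfold VV cc
    simp only [Finset.range_zero, Finset.sum_empty, add_zero]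
    exact good_gam R b hF K S z
  | succ n ih =>
    intro S _ _ z w
    have h1 := good_eval R b S _ _ (ih S[X]
      (inc S B z + ((X : S[X]) ⊗ₜ[A] (1 : B)) * inc S B (uu b S w n)) (inc S B w)) n
    have e1 : Polynomial.eval ((1 : S) ⊗ₜ[A] (Et R b).coeff n) (Θ S R.Q (VV R b S[X]
        (inc S B z + ((X : S[X]) ⊗ₜ[A] (1 : B)) * inc S B (uu b S w n)) (inc S B w) n)) =
        VV R b S z w (n + 1) := by
      unfold VV
      rw [map_prod, Polynomial.eval_prod]
      apply Finset.prod_congr rfl
      intro i _
      rw [map_add, map_add, map_mul, map_sum, Finset.sum_range_succ]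
      simp only [map_mul, map_add, Θ_one_tmul, ← inc_uu, map_inc, Θ_inc, Algebra.TensorProduct.map_tmul,
        AlgHom.id_apply, map_one, Θ_X, Polynomial.eval_add, Polynomial.eval_mul,
        Polynomial.eval_C, Polynomial.eval_X, Polynomial.eval_finsetSum]
      ring
    have e2 : Polynomial.eval (algebraMap A S ((chi F b).coeff n)) (cc b F S[X]
        (inc S B z + ((X : S[X]) ⊗ₜ[A] (1 : B)) * inc S B (uu b S w n)) (inc S B w) n) =
        cc b F S z w (n + 1) := by
      unfold cc
      rw [← evA_apply, ← hat_map]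
      congr 1
      rw [map_add, map_add, map_mul, map_sum, Finset.sum_range_succ, evA_inc, evA_inc,
        Algebra.TensorProduct.map_tmul, evA_apply, Polynomial.eval_X, AlgHom.id_apply]
      have : ∀ j, Algebra.TensorProduct.map (evA S ((chi F b).coeff n)) (AlgHom.id A B)
          ((chi F b).coeff j • uu b S[X] (inc S B w) j) = (chi F b).coeff j • uu b S w j := by
        intro j
        rw [map_smul, ← inc_uu, evA_inc]
      simp only [this]
      rw [Algebra.smul_def ((chi F b).coeff n) (uu b S w n), Algebra.TensorProduct.algebraMap_apply]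
      abel
    rw [e1, e2] at h1
    exact h1

/-- ring structure on a commutative semiring which is an algebra over a commutative ring -/
@[reducible] def commRingOfAlg (A S : Type u) [CommRing A] [CommSemiring S] [Algebra A S] : CommRing S :=
  { (Algebra.semiringToRing A : Ring S), (inferInstance : CommSemiring S) with }

include R in
lemma ker_aux (hF : PolLaw.IsMult F) (S : Type u) [CommRing S] [Algebra A S] (x w : S ⊗[A] B) :
    hat F S (x + w * ((1 : S) ⊗ₜ[A] (Polynomial.aeval b (chi F b)))) = hat F S x := by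
  set n := max (Et R b).natDegree (chi F b).natDegree + 1 with hn
  have h1 := good_VV R b hF n S x w []
  rw [List.map_nil, List.prod_nil, List.map_nil, List.prod_nil, one_smul,
    ← Algebra.TensorProduct.one_def, one_mul] at h1
  have e1 : VV R b S x w n = gam R S x := by
    unfold VV gam
    apply Finset.prod_congr rfl
    intro i _
    have : ∑ j ∈ Finset.range n, ((1 : S) ⊗ₜ[A] (Et R b).coeff j) *
      Algebra.TensorProduct.map (AlgHom.id S S) (R.ι i) (uu b S w j) =
      Algebra.TensorProduct.map (AlgHom.id S S) (R.ι i) w *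
        ((1 : S) ⊗ₜ[A] (Polynomial.eval (R.ι i b) (Et R b))) := by
      rw [Polynomial.eval_eq_sum_range' (n := n) (by omega), TensorProduct.tmul_sum, Finset.mul_sum]
      apply Finset.sum_congr rfl
      intro j _
      unfold uu
      rw [map_mul, Algebra.TensorProduct.map_tmul, map_one, map_pow, mul_comm,
        mul_assoc, Algebra.TensorProduct.tmul_mul_tmul, mul_one, mul_comm ((R.ι i b) ^ j)]
    rw [this]
    have h0 : Polynomial.eval (R.ι i b) (Et R b) = 0 := by
      unfold Et
      rw [Polynomial.eval_prod]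
      apply Finset.prod_eq_zero (Finset.mem_univ i)
      simp
    rw [h0, TensorProduct.tmul_zero, mul_zero, add_zero]
  have e2 : cc b F S x w n = hat F S (x + w * ((1 : S) ⊗ₜ[A] (Polynomial.aeval b (chi F b)))) := by
    unfold cc
    congr 2
    rw [Polynomial.aeval_eq_sum_range' (n := n) (by omega), TensorProduct.tmul_sum, Finset.mul_sum]
    apply Finset.sum_congr rfl
    intro j _
    unfold uu
    rw [TensorProduct.tmul_smul, mul_smul_comm]
  rw [e1, e2] at h1
  rw [← h1]
  exact (R.spec S x).symm

include R in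
theorem aeval_chi_mem_ker (hF : PolLaw.IsMult F) :
    Polynomial.aeval b (chi F b) ∈ PolLaw.ker F := by
  intro S _ _ x w
  let _ : CommRing S := commRingOfAlg A S
  have h := ker_aux R b hF S x w
  unfold hat at h
  exact (TensorProduct.rid A S).injective h

end Groth.Agent.H9.PLR
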