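import Mathlib
import Groth.Prelude.Def_PolLaw2
import Groth.Agent.Lib.Helper9.Misc.DLP1
import Groth.Agent.Lib.Helper9.Misc.PLR3

/-! Helper9: determinant law of a finite projective module (S19867, S13876) -/
set_option linter.style.haveILetI false

namespace Groth.Agent.H9.DLP
open scoped TensorProduct
open Groth.Agent.H9.PLR

universe u
variable {A : Type u} [CommRing A] {B : Type u} [CommRing B] [Algebra A B]

section locglob

lemma rid_rTensor {S S' : Type u} [CommRing S] [Algebra A S] [CommRing S'] [Algebra A S']
    (φ : S →ₐ[A] S') (z : S ⊗[A] A) :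
    TensorProduct.rid A S' (φ.toLinearMap.rTensor A z) = φ (TensorProduct.rid A S z) := by
  induction z using TensorProduct.induction_on with
  | zero => simp
  | tmul s a => simp
  | add x y hx hy => simp only [map_add, hx, hy]

/-- elements of `S ⊗ A` are detected in the localisations at maximal ideals -/
lemma eq_of_localization (S : Type u) [CommRing S] [Algebra A S] (z z' : S ⊗[A] A)
    (h : ∀ (J : Ideal S) [J.IsMaximal],
      (IsScalarTower.toAlgHom A S (Localization.AtPrime J)).toLinearMap.rTensor A z =
        (IsScalarTower.toAlgHom A S (Localization.AtPrime J)).toLinearMap.rTensor A z') : z = z' := by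
  apply (TensorProduct.rid A S).injective
  rw [← sub_eq_zero]
  apply eq_zero_of_localization
  intro J hJ
  have := congrArg (TensorProduct.rid A (Localization.AtPrime J)) (h J)
  rw [rid_rTensor, rid_rTensor] at this
  rw [map_sub, sub_eq_zero]
  exact this

/-- a polynomial law with values in `A` is determined by its members over local rings -/
lemma law_ext_of_local (N₁ N₂ : B →ₚₗ[A] A)
    (h : ∀ (S : Type u) [CommRing S] [IsLocalRing S] [Algebra A S] (x : S ⊗[A] B),
      N₁.toFun' S x = N₂.toFun' S x) : N₁ = N₂ := by
  apply PolynomialLaw.ext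
  funext S _ _ x
  let _ : CommRing S := commRingOfAlg A S
  apply eq_of_localization
  intro J hJ
  rw [PolynomialLaw.isCompat_apply', PolynomialLaw.isCompat_apply']
  exact h _ _

end locglob

section law
variable (M M' : Type u) [AddCommGroup M] [Module A M] [Module B M] [IsScalarTower A B M]
  [AddCommGroup M'] [Module A M'] [Module.Free A (PM B M M')] [Module.Finite A (PM B M M')]

/-- the determinant law of `M` through a free complement -/
noncomputable def NN : B →ₚₗ[A] A :=
  (PolLaw.detPLaw (A := A) (B := B × A) (M := PM B M M')).comp affLaw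

lemma NN_toFun' (S : Type u) [CommSemiring S] [Algebra A S] (x : S ⊗[A] B) :
    (NN M M').toFun' S x = PolLaw.detFun A (B × A) (PM B M M') S (affLaw.toFun' S x) := rfl

lemma NN_isMult : PolLaw.IsMult (NN (A := A) (B := B) M M') := by
  intro S _ _
  refine ⟨?_, fun x y => ?_⟩
  · rw [NN_toFun', affLaw_one, PolLaw.detFun_one]
  · rw [NN_toFun', NN_toFun', NN_toFun', affLaw_mul, PolLaw.detFun_mul]

lemma NN_local [Module.Finite A M] [Module.Projective A M] [Module.Finite A M'] [Module.Projective A M']
    (S : Type u) [CommRing S] [IsLocalRing S] [Algebra A S] (x : S ⊗[A] B) :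
    (NN M M').toFun' S x = PolLaw.detAct M S x ⊗ₜ[A] (1 : A) := by
  haveI : Module.Free S (S ⊗[A] M) := Module.free_of_flat_of_isLocalRing
  haveI : Module.Free S (S ⊗[A] M') := Module.free_of_flat_of_isLocalRing
  rw [NN_toFun', PolLaw.detFun_eq_detAct, detAct_aff]

end law


section final
variable (M : Type u) [AddCommGroup M] [Module A M] [Module B M] [IsScalarTower A B M]
  [Module.Finite A M] [Module.Projective A M]

/-- a finite projective module has a finite projective complement with free sum -/
lemma exists_complement : ∃ (M' : Type u) (_ : AddCommGroup M') (_ : Module A M'),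
    Module.Finite A M' ∧ Module.Projective A M' ∧ Module.Free A (M × M') ∧
      Module.Finite A (M × M') := by
  obtain ⟨n, f, hf⟩ := Module.Finite.exists_fin' A M
  obtain ⟨s, hs⟩ := Module.projective_lifting_property f LinearMap.id hf
  have hs' : ∀ m, f (s m) = m := fun m => LinearMap.congr_fun hs m
  let e : (M × LinearMap.ker f) ≃ₗ[A] (Fin n → A) :=
    { toFun := fun x => s x.1 + x.2.1
      map_add' := fun x y => by
        simp only [Prod.fst_add, Prod.snd_add, map_add, Submodule.coe_add]; abel
      map_smul' := fun a x => by
        simp only [Prod.smul_fst, Prod.smul_snd, map_smul, Submodule.coe_smul, RingHom.id_apply,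
          smul_add]
      invFun := fun v => (f v, ⟨v - s (f v), by
        rw [LinearMap.mem_ker, map_sub, hs', sub_self]⟩)
      left_inv := fun x => by
        obtain ⟨m, k, hk⟩ := x
        rw [LinearMap.mem_ker] at hk
        simp only [map_add, hs', hk, add_zero]
        ext <;> simp
      right_inv := fun v => by simp }
  haveI hfree : Module.Free A (M × LinearMap.ker f) := Module.Free.of_equiv e.symm
  haveI hfin : Module.Finite A (M × LinearMap.ker f) := Module.Finite.equiv e.symm
  refine ⟨LinearMap.ker f, inferInstance, inferInstance, ?_, ?_, hfree, hfin⟩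
  · exact Module.Finite.of_surjective (LinearMap.snd A M (LinearMap.ker f)) LinearMap.snd_surjective
  · exact Module.Projective.of_split (LinearMap.inr A M (LinearMap.ker f))
      (LinearMap.snd A M (LinearMap.ker f)) (by ext; simp)

theorem S19867_main :
    ∃! N : B →ₚₗ[A] A, PolLaw.IsMult N ∧ ∀ (S : Type u) [CommRing S] [IsLocalRing S] [Algebra A S]
      (x : S ⊗[A] B), N.toFun' S x = PolLaw.detAct M S x ⊗ₜ[A] (1 : A) := by
  obtain ⟨M', _, _, hfin', hproj', hfree, hfin⟩ := exists_complement (A := A) M
  haveI : Module.Free A (PM B M M') := hfree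
  haveI : Module.Finite A (PM B M M') := hfin
  refine ⟨NN (B := B) M M', ⟨NN_isMult M M', fun S _ _ _ x => NN_local M M' S x⟩, ?_⟩
  rintro N' ⟨-, hN'⟩
  apply law_ext_of_local
  intro S _ _ _ x
  rw [hN' S x, NN_local M M' S x]


/-- over a local ring the determinant of the action is homogeneous of degree the rank -/
lemma detAct_smul_local (d : ℕ) (hd : ∀ p : PrimeSpectrum A, Module.rankAtStalk M p = d)
    (S : Type u) [CommRing S] [IsLocalRing S] [Algebra A S] (r : S) (x : S ⊗[A] B) :
    PolLaw.detAct M S (r • x) = r ^ d * PolLaw.detAct M S x := by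
  haveI : Module.Free S (S ⊗[A] M) := Module.free_of_flat_of_isLocalRing
  have hrank : Module.finrank S (S ⊗[A] M) = d := by
    have h1 := Module.rankAtStalk_baseChange (R := A) (M := M) (S := S) (IsLocalRing.closedPoint S)
    rw [hd] at h1
    have h2 := congrFun (Module.rankAtStalk_eq_finrank_of_free (R := S) (M := S ⊗[A] M))
      (IsLocalRing.closedPoint S)
    rw [h1] at h2
    simpa using h2.symm
  unfold PolLaw.detAct
  rw [map_smul, LinearMap.det_smul, hrank]

theorem S13876_main (d : ℕ) (hd : ∀ p : PrimeSpectrum A, Module.rankAtStalk M p = d) :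
    ∃! N : PolLaw.MulLaw A B A d, ∀ (S : Type u) [CommRing S] [IsLocalRing S] [Algebra A S]
      (x : S ⊗[A] B), N.law.toFun' S x = PolLaw.detAct M S x ⊗ₜ[A] (1 : A) := by
  obtain ⟨M', _, _, hfin', hproj', hfree, hfin⟩ := exists_complement (A := A) M
  haveI : Module.Free A (PM B M M') := hfree
  haveI : Module.Finite A (PM B M M') := hfin
  have hhom : PolLaw.IsHomog (A := A) (NN (A := A) (B := B) M M') d := by
    intro S _ _ s x
    let _ : CommRing S := commRingOfAlg A S
    apply eq_of_localization
    intro J hJ
    set φ := IsScalarTower.toAlgHom A S (Localization.AtPrime J) with hφ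
    have h1 : φ.toLinearMap.rTensor B (s • x) = φ s • φ.toLinearMap.rTensor B x := by
      induction x using TensorProduct.induction_on with
      | zero => simp
      | tmul t b =>
        rw [TensorProduct.smul_tmul', LinearMap.rTensor_tmul, LinearMap.rTensor_tmul,
          TensorProduct.smul_tmul', smul_eq_mul, smul_eq_mul]
        simp
      | add x y hx hy => rw [smul_add, map_add, map_add, hx, hy, smul_add]
    have h2 : ∀ (w : S ⊗[A] A), φ.toLinearMap.rTensor A (s ^ d • w) =
        (φ s) ^ d • φ.toLinearMap.rTensor A w := by
      intro w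
      induction w using TensorProduct.induction_on with
      | zero => simp
      | tmul t b =>
        rw [TensorProduct.smul_tmul', LinearMap.rTensor_tmul, LinearMap.rTensor_tmul,
          TensorProduct.smul_tmul', smul_eq_mul, smul_eq_mul]
        simp
      | add x y hx hy => rw [smul_add, map_add, map_add, hx, hy, smul_add]
    rw [PolynomialLaw.isCompat_apply', h1, h2, PolynomialLaw.isCompat_apply',
      NN_local M M', NN_local M M', detAct_smul_local M d hd, TensorProduct.smul_tmul', smul_eq_mul]
  refine ⟨⟨NN (B := B) M M', hhom, NN_isMult M M'⟩, fun S _ _ _ x => NN_local M M' S x, ?_⟩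
  intro N' hN'
  apply PolLaw.MulLaw.ext
  apply law_ext_of_local
  intro S _ _ _ x
  rw [hN' S x]
  exact (NN_local M M' S x).symm

end final

end Groth.Agent.H9.DLP
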