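import Mathlib

set_option autoImplicit false
set_option linter.style.haveILetI false
set_option linter.unusedSectionVars false
set_option linter.unusedVariables false

namespace Groth.Agent.H9.DMF

open Module

universe u

section detBlock

theorem det_blockDiagonal'' {R : Type*} [CommRing R] {ι : Type*} [Fintype ι] [DecidableEq ι]
    {m' : ι → Type*} [∀ i, Fintype (m' i)] [∀ i, DecidableEq (m' i)]
    (d : ∀ i, Matrix (m' i) (m' i) R) :
    (Matrix.blockDiagonal' d).det = ∏ i, (d i).det := by
  classical
  letI : LinearOrder ι := LinearOrder.lift' (Fintype.equivFin ι) (Fintype.equivFin ι).injective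
  rw [(Matrix.blockTriangular_blockDiagonal' d).det_fintype]
  refine Finset.prod_congr rfl fun k _ => ?_
  let e : m' k ≃ {x : (Σ i, m' i) // x.1 = k} :=
    { toFun := fun j => ⟨⟨k, j⟩, rfl⟩
      invFun := fun x => x.2 ▸ x.1.2
      left_inv := fun j => rfl
      right_inv := by
        rintro ⟨⟨i, j⟩, h⟩
        dsimp only at h
        subst h
        rfl }
  rw [← Matrix.det_submatrix_equiv_self e]
  congr 1
  ext i j
  simp only [Matrix.submatrix_apply, Matrix.toSquareBlock_def, Matrix.of_apply]
  exact Matrix.blockDiagonal'_apply_eq d k i j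

end detBlock

section detPi

variable {R : Type*} [CommRing R] {ι : Type*} [Fintype ι] [DecidableEq ι]
  {M : ι → Type*} [∀ i, AddCommGroup (M i)] [∀ i, Module R (M i)]
  [∀ i, Module.Free R (M i)] [∀ i, Module.Finite R (M i)]

/-- determinant of a dependent product of endomorphisms -/
theorem det_pi' (f : ∀ i, M i →ₗ[R] M i) :
    (LinearMap.pi (fun i ↦ (f i).comp (LinearMap.proj i)) : (∀ i, M i) →ₗ[R] (∀ i, M i)).det
      = ∏ i, (f i).det := by
  classical
  let b := fun i => Module.Free.chooseBasis R (M i)
  let B := Pi.basis b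
  simp_rw [← fun i => LinearMap.det_toMatrix (b i) (f i)]
  rw [← LinearMap.det_toMatrix B]
  have : ((LinearMap.toMatrix B B) (LinearMap.pi fun i ↦ f i ∘ₗ LinearMap.proj i)) =
      Matrix.blockDiagonal' (fun i ↦ LinearMap.toMatrix (b i) (b i) (f i)) := by
    ext ⟨i₁, i₂⟩ ⟨j₁, j₂⟩
    rw [LinearMap.toMatrix_apply, Matrix.blockDiagonal'_apply']
    simp only [B, Pi.basis_apply, Pi.basis_repr, LinearMap.pi_apply, LinearMap.coe_comp,
      Function.comp_apply, LinearMap.coe_proj, Function.eval]
    split_ifs with h
    · subst h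
      simp [LinearMap.toMatrix_apply]
    · rw [Pi.single_eq_of_ne h, map_zero, map_zero]
      rfl
  rw [this, det_blockDiagonal'']

end detPi

section main

variable (k A : Type u) [Field k] [IsAlgClosed k] [CommRing A] [Algebra k A] [Module.Finite k A]

lemma finite_loc [IsArtinianRing A] (p : Ideal A) [p.IsPrime] :
    Module.Finite k (Localization.AtPrime p) :=
  Module.Finite.of_surjective (Algebra.algHom k A (Localization.AtPrime p)).toLinearMap
    (IsArtinianRing.localization_surjective p.primeCompl (Localization.AtPrime p))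

/-- Step 1: the norm is the product of the norms on the local factors. -/
lemma norm_eq_prod [IsArtinianRing A] [Fintype (PrimeSpectrum A)] (f : A) :
    Algebra.norm k f = ∏ p : PrimeSpectrum A,
      LinearMap.det (LinearMap.mul k (Localization.AtPrime p.asIdeal)
        (algebraMap A (Localization.AtPrime p.asIdeal) f)) := by
  classical
  haveI : ∀ p : PrimeSpectrum A, Module.Finite k (Localization.AtPrime p.asIdeal) :=
    fun p => finite_loc k A p.asIdeal
  let e : A ≃ₐ[k] PrimeSpectrum.PiLocalization A :=
    (PrimeSpectrum.toPiLocalizationEquiv A).restrictScalars k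
  rw [← Algebra.norm_eq_of_algEquiv e f, Algebra.norm_apply]
  have h1 : Algebra.lmul k (PrimeSpectrum.PiLocalization A) (e f) =
      LinearMap.pi (fun p : PrimeSpectrum A =>
        (LinearMap.mul k (Localization.AtPrime p.asIdeal)
          (algebraMap A (Localization.AtPrime p.asIdeal) f)).comp (LinearMap.proj p)) := by
    apply LinearMap.ext
    intro x
    funext p
    rfl
  rw [h1]
  exact det_pi' _

/-- Step 2: norm on a local factor. -/
lemma det_local [IsArtinianRing A] (p : Ideal A) [p.IsPrime] (f : A) (c : k)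
    (hc : f - algebraMap k A c ∈ p) :
    LinearMap.det (LinearMap.mul k (Localization.AtPrime p)
        (algebraMap A (Localization.AtPrime p) f)) =
      c ^ Module.finrank k (Localization.AtPrime p) := by
  haveI := finite_loc k A p
  haveI : IsArtinianRing (Localization.AtPrime p) := IsArtinianRing.of_finite k _
  set n : Localization.AtPrime p := algebraMap A (Localization.AtPrime p) (f - algebraMap k A c)
    with hn
  have hnil : IsNilpotent n := by
    have h1 : n ∈ IsLocalRing.maximalIdeal (Localization.AtPrime p) :=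
      (IsLocalization.AtPrime.to_map_mem_maximal_iff (Localization.AtPrime p) p _).mpr hc
    rw [← IsLocalRing.jacobson_eq_maximalIdeal (⊥ : Ideal (Localization.AtPrime p)) bot_ne_top] at h1
    obtain ⟨N, hN⟩ := IsArtinianRing.isNilpotent_jacobson_bot (R := Localization.AtPrime p)
    refine ⟨N, ?_⟩
    have : n ^ N ∈ (Ideal.jacobson (⊥ : Ideal (Localization.AtPrime p))) ^ N :=
      Ideal.pow_mem_pow h1 N
    rw [hN] at this
    exact this
  have hnil' : IsNilpotent (-(LinearMap.mul k (Localization.AtPrime p) n)) := by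
    rw [isNilpotent_neg_iff]
    obtain ⟨N, hN⟩ := hnil
    refine ⟨N, ?_⟩
    show (Algebra.lmul k (Localization.AtPrime p) n) ^ N = 0
    rw [← map_pow, hN, map_zero]
  have h2 : LinearMap.mul k (Localization.AtPrime p) (algebraMap A (Localization.AtPrime p) f) =
      algebraMap k (Module.End k (Localization.AtPrime p)) c -
        (-(LinearMap.mul k (Localization.AtPrime p) n)) := by
    apply LinearMap.ext
    intro x
    simp only [LinearMap.mul_apply', LinearMap.sub_apply, LinearMap.neg_apply,
      Module.algebraMap_end_apply, hn, map_sub]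
    rw [← IsScalarTower.algebraMap_apply, Algebra.smul_def]
    ring
  rw [h2, ← LinearMap.eval_charpoly, IsNilpotent.charpoly_eq_X_pow_finrank hnil',
    Polynomial.eval_pow, Polynomial.eval_X]

/-- the point of `Spec A` attached to a `k`-point -/
noncomputable def toPrime (φ : A →ₐ[k] k) : PrimeSpectrum A := ⟨Ideal.comap φ ⊥, inferInstance⟩

lemma toPrime_bijective [IsArtinianRing A] : Function.Bijective (toPrime k A) := by
  constructor
  · intro φ ψ h
    have h' : Ideal.comap φ (⊥ : Ideal k) = Ideal.comap ψ ⊥ := congrArg PrimeSpectrum.asIdeal h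
    apply AlgHom.ext
    intro a
    have h1 : a - algebraMap k A (φ a) ∈ Ideal.comap φ (⊥ : Ideal k) := by
      rw [Ideal.mem_comap, Ideal.mem_bot, map_sub, AlgHom.commutes, Algebra.algebraMap_self,
        RingHom.id_apply, sub_self]
    rw [h', Ideal.mem_comap, Ideal.mem_bot, map_sub, AlgHom.commutes, Algebra.algebraMap_self,
      RingHom.id_apply, sub_eq_zero] at h1
    exact h1.symm
  · intro p
    haveI := p.2
    haveI : p.asIdeal.IsMaximal := IsArtinianRing.isMaximal_of_isPrime p.asIdeal
    letI : Field (A ⧸ p.asIdeal) := Ideal.Quotient.field p.asIdeal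
    have hbij : Function.Bijective (algebraMap k (A ⧸ p.asIdeal)) :=
      IsAlgClosed.algebraMap_bijective_of_isIntegral
    let ε : k ≃ₐ[k] (A ⧸ p.asIdeal) := AlgEquiv.ofBijective (Algebra.ofId k _) hbij
    refine ⟨(ε.symm : (A ⧸ p.asIdeal) →ₐ[k] k).comp (Ideal.Quotient.mkₐ k p.asIdeal), ?_⟩
    apply PrimeSpectrum.ext
    show Ideal.comap _ ⊥ = p.asIdeal
    ext a
    rw [Ideal.mem_comap, Ideal.mem_bot]
    show ε.symm (Ideal.Quotient.mk p.asIdeal a) = 0 ↔ _
    rw [EmbeddingLike.map_eq_zero_iff, Ideal.Quotient.eq_zero_iff_mem]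

theorem main (f : A) :
    Algebra.norm k f =
      ∏ᶠ φ : A →ₐ[k] k, φ f ^ Module.finrank k (Localization.AtPrime (Ideal.comap φ ⊥)) := by
  haveI : IsArtinianRing A := IsArtinianRing.of_finite k A
  haveI : Fintype (PrimeSpectrum A) := Fintype.ofFinite _
  rw [norm_eq_prod k A f, ← finprod_eq_prod_of_fintype]
  symm
  refine finprod_eq_of_bijective (toPrime k A) (toPrime_bijective k A) fun φ => ?_
  symm
  apply det_local k A (Ideal.comap φ ⊥) f (φ f)
  rw [Ideal.mem_comap, Ideal.mem_bot, map_sub, AlgHom.commutes, Algebra.algebraMap_self,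
    RingHom.id_apply, sub_self]

end main

end Groth.Agent.H9.DMF
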