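import Mathlib
import Groth.Agent.Lib.Helper9.Misc.GSC1

set_option autoImplicit false
set_option linter.style.haveILetI false
set_option linter.unusedSectionVars false
set_option linter.unusedVariables false

open CategoryTheory CategoryTheory.Limits AlgebraicGeometry MonoidalCategory
  CartesianMonoidalCategory MonObj

namespace Groth.Agent.H9.DOP
universe u

open Groth.Agent.H9.GSC

theorem main (k : Type u) [Field k] [IsAlgClosed k]
    (H : Over (Spec (CommRingCat.of k))) [GrpObj H] [Smooth H.hom]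
    (U : H.left.Opens) (hU : Dense (U : Set ↥H.left)) (h : 𝟙_ (Over (Spec (CommRingCat.of k))) ⟶ H) :
    ∃ u₁ u₂ : 𝟙_ (Over (Spec (CommRingCat.of k))) ⟶ H,
      u₁.left.base (IsLocalRing.closedPoint k) ∈ U ∧ u₂.left.base (IsLocalRing.closedPoint k) ∈ U ∧
        h = u₂ * u₁⁻¹ := by
  haveI : LocallyOfFiniteType H.hom := inferInstance
  haveI : JacobsonSpace H.left := LocallyOfFiniteType.jacobsonSpace H.hom
  let φ := homeo (lmul h)
  have hV : Dense (φ ⁻¹' (U : Set H.left)) := hU.preimage φ.isOpenMap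
  have hVo : IsOpen (φ ⁻¹' (U : Set H.left)) := U.2.preimage φ.continuous
  have hW : Dense ((U : Set H.left) ∩ φ ⁻¹' (U : Set H.left)) := hU.inter_of_isOpen_left hV U.2
  have hne : ((U : Set H.left) ∩ φ ⁻¹' (U : Set H.left)).Nonempty := by
    haveI : Nonempty H.left := ⟨pt H 1⟩
    exact hW.nonempty
  obtain ⟨x, ⟨hxU, hxV⟩, hxc⟩ := nonempty_inter_closedPoints hne (U.2.inter hVo).isLocallyClosed
  have hxc' : IsClosed {x} := hxc
  refine ⟨kpt H x hxc', h * kpt H x hxc', ?_, ?_, ?_⟩
  · show pt H (kpt H x hxc') ∈ U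
    rw [pt_kpt]
    exact hxU
  · show pt H (h * kpt H x hxc') ∈ U
    rw [← lmul_pt, pt_kpt]
    exact hxV
  · rw [mul_inv_cancel_right]

end Groth.Agent.H9.DOP
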