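import Mathlib
import Groth.Prelude.Def_PolLaw

/-! Helper9: Gamma^d(M) is spanned by divided powers under local conditions (polarisation + Vandermonde) -/
set_option linter.style.haveILetI false

namespace Groth.Agent.H9.DPA
open DividedPowerAlgebra

universe u
variable {A M : Type u} [CommRing A] [AddCommGroup M] [Module A M]

/-- extraction of coefficients by the adjugate of the Vandermonde matrix -/
lemma extract {W : Type*} [AddCommGroup W] [Module A W] (V : Submodule A W) {e : ℕ}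
    (τ : Fin e → A) (c : Fin e → W)
    (h : ∀ i, ∑ j : Fin e, τ i ^ (j : ℕ) • c j ∈ V) (j : Fin e) :
    (Matrix.vandermonde τ).det • c j ∈ V := by
  classical
  set Vm := Matrix.vandermonde τ with hVm
  have h1 : Vm.adjugate * Vm = Vm.det • (1 : Matrix (Fin e) (Fin e) A) := Matrix.adjugate_mul Vm
  have h2 : ∀ k, ∑ i, Vm.adjugate j i * Vm i k = if j = k then Vm.det else 0 := by
    intro k
    have := congrFun (congrFun h1 j) k
    rw [Matrix.mul_apply, Matrix.smul_apply, Matrix.one_apply] at this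
    rw [this]
    split_ifs <;> simp
  have h3 : Vm.det • c j = ∑ i, Vm.adjugate j i • ∑ k : Fin e, τ i ^ (k : ℕ) • c k := by
    simp_rw [Finset.smul_sum, smul_smul]
    rw [Finset.sum_comm]
    have : ∀ k : Fin e, ∑ i, (Vm.adjugate j i * τ i ^ (k : ℕ)) • c k = (if j = k then Vm.det else 0) • c k := by
      intro k
      rw [← Finset.sum_smul, ← h2 k]
      rfl
    simp_rw [this]
    simp
  rw [h3]
  exact Submodule.sum_mem _ fun i _ => Submodule.smul_mem _ _ (h i)

/-- the span of the `d`-th divided powers -/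
noncomputable def Vd (A M : Type u) [CommRing A] [AddCommGroup M] [Module A M] (d : ℕ) :
    Submodule A (DividedPowerAlgebra A M) :=
  Submodule.span A (Set.range (dp A d : M → DividedPowerAlgebra A M))

lemma dp_mem_Vd (d : ℕ) (m : M) : dp A d m ∈ Vd A M d := Submodule.subset_span ⟨m, rfl⟩

/-- local membership -/
def Loc (p : Ideal A) (V : Submodule A (DividedPowerAlgebra A M)) (g : DividedPowerAlgebra A M) : Prop :=
  ∃ D : A, D ∉ p ∧ D • g ∈ V

lemma Loc.of_mem {p : Ideal A} [p.IsPrime] {V : Submodule A (DividedPowerAlgebra A M)}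
    {g : DividedPowerAlgebra A M} (h : g ∈ V) : Loc p V g :=
  ⟨1, fun h1 => (Ideal.ne_top_iff_one p).mp (Ideal.IsPrime.ne_top ‹_›) h1, by rwa [one_smul]⟩

lemma Loc.add {p : Ideal A} [p.IsPrime] {V : Submodule A (DividedPowerAlgebra A M)}
    {g g' : DividedPowerAlgebra A M} (h : Loc p V g) (h' : Loc p V g') : Loc p V (g + g') := by
  obtain ⟨D, hD, hg⟩ := h
  obtain ⟨D', hD', hg'⟩ := h'
  refine ⟨D * D', fun hh => ?_, ?_⟩
  · rcases Ideal.IsPrime.mem_or_mem ‹_› hh with h1 | h1
    · exact hD h1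
    · exact hD' h1
  · rw [smul_add]
    refine Submodule.add_mem _ ?_ ?_
    · rw [mul_comm, mul_smul]; exact Submodule.smul_mem _ _ hg
    · rw [mul_smul]; exact Submodule.smul_mem _ _ hg'

lemma Loc.smul {p : Ideal A} {V : Submodule A (DividedPowerAlgebra A M)}
    {g : DividedPowerAlgebra A M} (a : A) (h : Loc p V g) : Loc p V (a • g) := by
  obtain ⟨D, hD, hg⟩ := h
  exact ⟨D, hD, by rw [smul_comm]; exact Submodule.smul_mem _ _ hg⟩

lemma Loc.of_smul {p : Ideal A} [p.IsPrime] {V : Submodule A (DividedPowerAlgebra A M)}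
    {g : DividedPowerAlgebra A M} {a : A} (ha : a ∉ p) (h : Loc p V (a • g)) : Loc p V g := by
  obtain ⟨D, hD, hg⟩ := h
  refine ⟨D * a, fun hh => ?_, by rwa [mul_smul]⟩
  rcases Ideal.IsPrime.mem_or_mem ‹_› hh with h1 | h1
  · exact hD h1
  · exact ha h1

/-- first local condition: `d` elements of `A` pairwise distinct modulo `p` -/
def Good₁ (p : Ideal A) (d : ℕ) : Prop :=
  ∃ τ : Fin d → A, ∀ i j, i ≠ j → τ i - τ j ∉ p

/-- second local condition: `M` is cyclic locally at `p` -/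
def Good₂ (p : Ideal A) (M : Type u) [AddCommGroup M] [Module A M] : Prop :=
  ∃ m₀ : M, ∀ m : M, ∃ s : A, s ∉ p ∧ ∃ a : A, s • m = a • m₀

lemma Good₁.mono {p : Ideal A} {d e : ℕ} (h : Good₁ p d) (hed : e ≤ d) : Good₁ p e := by
  obtain ⟨τ, hτ⟩ := h
  refine ⟨fun i => τ (Fin.castLE hed i), fun i j hij => hτ _ _ ?_⟩
  intro h
  exact hij (Fin.castLE_injective hed h)


lemma det_vandermonde_not_mem {p : Ideal A} [p.IsPrime] {e : ℕ} (τ : Fin e → A)
    (hτ : ∀ i j, i ≠ j → τ i - τ j ∉ p) : (Matrix.vandermonde τ).det ∉ p := by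
  rw [Matrix.det_vandermonde]
  intro h
  obtain ⟨i, -, h⟩ := Ideal.IsPrime.prod_mem_iff.mp h
  obtain ⟨j, hj, h⟩ := Ideal.IsPrime.prod_mem_iff.mp h
  rw [Finset.mem_Ioi] at hj
  exact hτ j i (ne_of_gt hj) h

/-- the polarisation identity -/
lemma dp_smul_add (e : ℕ) (t : A) (x y : M) :
    dp A e (t • x + y) = ∑ k : Fin (e + 1), t ^ (k : ℕ) • (dp A k x * dp A (e - k) y) := by
  rw [dp_add, Finset.Nat.sum_antidiagonal_eq_sum_range_succ (fun k l => dp A k (t • x) * dp A l y),
    ← Fin.sum_univ_eq_sum_range (fun k => dp A k (t • x) * dp A (e - k) y)]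
  refine Finset.sum_congr rfl fun k _ => ?_
  rw [dp_smul, smul_mul_assoc]

/-- local polarisation -/
lemma loc_dp_mul_dp {p : Ideal A} [p.IsPrime] (a b e : ℕ) (he : a + b = e) (h : Good₁ p e) (x y : M) :
    Loc p (Vd A M e) (dp A a x * dp A b y) := by
  rcases Nat.eq_zero_or_pos b with rfl | hb
  · rw [dp_zero, mul_one]
    rw [add_zero] at he
    subst he
    exact Loc.of_mem (dp_mem_Vd a x)
  obtain ⟨τ, hτ⟩ := h
  let c : Fin (e + 1) → DividedPowerAlgebra A M := fun k => dp A k x * dp A (e - k) y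
  have h1 : ∀ i : Fin e, ∑ k : Fin e, τ i ^ (k : ℕ) • c k.castSucc ∈ Vd A M e := by
    intro i
    have h2 := dp_mem_Vd (A := A) e (τ i • x + y)
    rw [dp_smul_add, Fin.sum_univ_castSucc] at h2
    have h3 : τ i ^ ((Fin.last e : Fin (e + 1)) : ℕ) •
        (dp A ((Fin.last e : Fin (e + 1)) : ℕ) x * dp A (e - ((Fin.last e : Fin (e + 1)) : ℕ)) y) ∈ Vd A M e := by
      rw [Fin.val_last, Nat.sub_self, dp_zero, mul_one]
      exact Submodule.smul_mem _ _ (dp_mem_Vd e x)
    exact (Submodule.add_mem_iff_left _ h3).mp h2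
  have h4 := extract (Vd A M e) τ (fun k => c k.castSucc) h1 ⟨a, by omega⟩
  refine ⟨_, det_vandermonde_not_mem τ hτ, ?_⟩
  have h5 : c (Fin.castSucc ⟨a, by omega⟩) = dp A a x * dp A b y := by
    simp only [c, Fin.castSucc_mk]
    congr 2
    omega
  rw [← h5]
  exact h4


lemma loc_mul_dp {p : Ideal A} [p.IsPrime] (a b e : ℕ) (he : a + b = e) (h : Good₁ p e)
    (g : DividedPowerAlgebra A M) (hg : Loc p (Vd A M a) g) (y : M) :
    Loc p (Vd A M e) (g * dp A b y) := by
  obtain ⟨D, hD, hg⟩ := hg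
  apply Loc.of_smul hD
  rw [← smul_mul_assoc]
  generalize D • g = g' at hg
  unfold Vd at hg
  induction hg using Submodule.span_induction with
  | zero => rw [zero_mul]; exact Loc.of_mem (Submodule.zero_mem _)
  | add u v _ _ hu hv => rw [add_mul]; exact hu.add hv
  | smul r u _ hu => rw [smul_mul_assoc]; exact hu.smul r
  | mem u hu =>
    obtain ⟨x, rfl⟩ := hu
    exact loc_dp_mul_dp a b e he h x y

lemma loc_prod₁ {p : Ideal A} [p.IsPrime] (d : ℕ) (h : Good₁ p d) :
    ∀ (n : ℕ) (k : Fin n → ℕ) (m : Fin n → M) (e : ℕ), (∑ i, k i) = e → e ≤ d →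
      Loc p (Vd A M e) (∏ i, dp A (k i) (m i)) := by
  intro n
  induction n with
  | zero =>
    intro k m e he _
    rw [Finset.univ_eq_empty, Finset.sum_empty] at he
    subst he
    rw [Finset.univ_eq_empty, Finset.prod_empty, ← dp_zero (R := A) (m := (0 : M))]
    exact Loc.of_mem (dp_mem_Vd 0 0)
  | succ n ih =>
    intro k m e he hed
    rw [Fin.sum_univ_castSucc] at he
    rw [Fin.prod_univ_castSucc]
    exact loc_mul_dp _ _ e he (h.mono hed) _
      (ih (fun i => k i.castSucc) (fun i => m i.castSucc) _ rfl (by omega)) _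

lemma loc_prod₂ {p : Ideal A} [p.IsPrime] (h : Good₂ p M)
    (n : ℕ) (k : Fin n → ℕ) (m : Fin n → M) (e : ℕ) (he : (∑ i, k i) = e) :
    Loc p (Vd A M e) (∏ i, dp A (k i) (m i)) := by
  obtain ⟨m₀, hm₀⟩ := h
  choose s hs a ha using fun i => hm₀ (m i)
  refine ⟨∏ i, s i ^ k i, fun hh => ?_, ?_⟩
  · obtain ⟨i, -, hi⟩ := Ideal.IsPrime.prod_mem_iff.mp hh
    exact hs i (Ideal.IsPrime.mem_of_pow_mem ‹_› _ hi)
  · rw [← Finset.prod_smul]
    have h1 : ∀ i, s i ^ k i • dp A (k i) (m i) = a i ^ k i • dp A (k i) m₀ := by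
      intro i
      rw [← dp_smul, ha i, dp_smul]
    simp_rw [h1]
    rw [Finset.prod_smul, prod_dp, he, ← nsmul_eq_mul]
    exact Submodule.smul_mem _ _ (Submodule.smul_of_tower_mem _ _ (dp_mem_Vd e m₀))

/-- globalisation -/
theorem span_eq_gammaPiece (d : ℕ)
    (h : ∀ p : Ideal A, p.IsPrime → Good₁ p d ∨ Good₂ p M) :
    Submodule.span A (Set.range (dp A d : M → DividedPowerAlgebra A M)) =
      PolLaw.gammaPiece A M d := by
  apply le_antisymm
  · rw [Submodule.span_le]
    rintro _ ⟨m, rfl⟩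
    apply Submodule.subset_span
    refine ⟨1, fun _ => d, fun _ => m, by simp, by simp⟩
  · unfold PolLaw.gammaPiece
    rw [Submodule.span_le]
    rintro _ ⟨n, k, m, hk, rfl⟩
    set g := ∏ i, dp A (k i) (m i) with hg
    let I : Ideal A := (Vd A M d).comap (LinearMap.toSpanSingleton A _ g)
    have hI : ∀ D, D ∈ I ↔ D • g ∈ Vd A M d := by
      intro D
      rw [Submodule.mem_comap, LinearMap.toSpanSingleton_apply]
    suffices hone : (1 : A) ∈ I by
      have := (hI 1).mp hone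
      rwa [one_smul] at this
    by_contra hne
    have hItop : I ≠ ⊤ := fun h1 => hne (h1 ▸ Submodule.mem_top)
    obtain ⟨p, hp, hIp⟩ := Ideal.exists_le_maximal I hItop
    have hpp : p.IsPrime := hp.isPrime
    have hloc : Loc p (Vd A M d) g := by
      rcases h p hpp with h1 | h2
      · exact loc_prod₁ d h1 n k m d hk le_rfl
      · exact loc_prod₂ h2 n k m d hk
    obtain ⟨D, hD, hDg⟩ := hloc
    exact hD (hIp ((hI D).mpr hDg))

end Groth.Agent.H9.DPA
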