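import Mathlib
import Groth.Prelude.Def_PolLaw
import Groth.Agent.Lib.Helper9.Misc.DPA1

/-! Helper9: S13387 / S13389: spanning of Gamma^d by divided powers -/
set_option linter.style.haveILetI false

namespace Groth.Agent.H9.DPA
open DividedPowerAlgebra

universe u
variable {A M : Type u} [CommRing A] [AddCommGroup M] [Module A M]

lemma good₁_of_card {p : Ideal A} [p.IsPrime] (d : ℕ)
    (h : (d : Cardinal) ≤ Cardinal.mk p.ResidueField) : Good₁ p d := by
  have hf : Nonempty (Fin d ↪ A ⧸ p) := by
    by_cases hfin : Finite (A ⧸ p)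
    · have hfld : IsField (A ⧸ p) := Finite.isField_of_domain (A ⧸ p)
      have hmax : p.IsMaximal := Ideal.Quotient.maximal_of_isField p hfld
      have hbij := Ideal.bijective_algebraMap_quotient_residueField p
      have hc : Cardinal.mk (A ⧸ p) = Cardinal.mk p.ResidueField :=
        Cardinal.mk_congr (Equiv.ofBijective _ hbij)
      rw [← hc] at h
      apply Cardinal.lift_mk_le'.mp
      simpa using h
    · have : Infinite (A ⧸ p) := not_finite_iff_infinite.mp hfin
      exact ⟨(Fin.valEmbedding).trans (Infinite.natEmbedding (A ⧸ p))⟩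
  obtain ⟨f⟩ := hf
  choose τ hτ using fun i => Ideal.Quotient.mk_surjective (f i)
  refine ⟨τ, fun i j hij hmem => hij (f.injective ?_)⟩
  rw [← hτ i, ← hτ j]
  exact (Ideal.Quotient.eq).mpr hmem

lemma good₂_of_cyclic {p : Ideal A} [p.IsPrime]
    (h : ∃ x : LocalizedModule p.primeCompl M, Submodule.span (Localization.AtPrime p) {x} = ⊤) :
    Good₂ p M := by
  obtain ⟨x, hx⟩ := h
  induction x using LocalizedModule.induction_on with
  | h m₀ u =>
    refine ⟨m₀, fun m => ?_⟩
    have hm : LocalizedModule.mk m (1 : p.primeCompl) ∈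
        Submodule.span (Localization.AtPrime p) {LocalizedModule.mk m₀ u} := by
      rw [hx]; trivial
    rw [Submodule.mem_span_singleton] at hm
    obtain ⟨r, hr⟩ := hm
    induction r using Localization.induction_on with
    | H as =>
      obtain ⟨a, s⟩ := as
      rw [LocalizedModule.mk_smul_mk, LocalizedModule.mk_eq] at hr
      obtain ⟨w, hw⟩ := hr
      refine ⟨w * (s * u), ?_, w * a, ?_⟩
      · exact (w * (s * u)).2
      · simp only [one_smul, Submonoid.smul_def, Submonoid.coe_mul] at hw
        rw [mul_smul, mul_smul (w : A) a]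
        exact hw.symm

theorem S13387_main (d : ℕ)
    (h : ∀ p : PrimeSpectrum A, (d : Cardinal) ≤ Cardinal.mk p.asIdeal.ResidueField ∨
      ∃ x : LocalizedModule p.asIdeal.primeCompl M, Submodule.span (Localization.AtPrime p.asIdeal) {x} = ⊤) :
    Submodule.span A (Set.range (DividedPowerAlgebra.dp A d : M → DividedPowerAlgebra A M)) =
      PolLaw.gammaPiece A M d := by
  apply span_eq_gammaPiece
  intro p hp
  rcases h ⟨p, hp⟩ with h1 | h2
  · exact Or.inl (good₁_of_card d h1)
  · exact Or.inr (good₂_of_cyclic h2)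

end Groth.Agent.H9.DPA

namespace Groth.Agent.H9.DPA
open DividedPowerAlgebra Polynomial

universe u
variable {A M : Type u} [CommRing A] [AddCommGroup M] [Module A M]

theorem S13389_main (d : ℕ)
    (φ : (ℤ[X] ⧸ Ideal.span {(∏ j ∈ Finset.range (d + 1), ∏ i ∈ Finset.range j,
        ((X : ℤ[X]) ^ i - X ^ j)) - 1}) →+* A) :
    Submodule.span A (Set.range (DividedPowerAlgebra.dp A d : M → DividedPowerAlgebra A M)) =
      PolLaw.gammaPiece A M d := by
  set t : A := φ (Ideal.Quotient.mk _ X) with ht
  have hrel : (∏ j ∈ Finset.range (d + 1), ∏ i ∈ Finset.range j, (t ^ i - t ^ j)) = 1 := by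
    have h0 : (Ideal.Quotient.mk (Ideal.span {(∏ j ∈ Finset.range (d + 1), ∏ i ∈ Finset.range j,
        ((X : ℤ[X]) ^ i - X ^ j)) - 1}))
        ((∏ j ∈ Finset.range (d + 1), ∏ i ∈ Finset.range j, ((X : ℤ[X]) ^ i - X ^ j)) - 1) = 0 :=
      Ideal.Quotient.eq_zero_iff_mem.mpr (Ideal.subset_span rfl)
    have h1 := congrArg φ h0
    rw [map_zero, map_sub, map_sub, map_one, map_one, sub_eq_zero] at h1
    simp only [map_prod, map_sub, map_pow] at h1
    exact h1
  have hunit : ∀ i j : ℕ, i < j → j ≤ d → IsUnit (t ^ i - t ^ j) := by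
    intro i j hij hjd
    apply isUnit_of_dvd_one
    rw [← hrel]
    exact (Finset.dvd_prod_of_mem _ (Finset.mem_range.mpr hij)).trans
      (Finset.dvd_prod_of_mem (fun j => ∏ i ∈ Finset.range j, (t ^ i - t ^ j))
        (Finset.mem_range.mpr (by omega)))
  apply span_eq_gammaPiece
  intro p hp
  left
  refine ⟨fun i => t ^ (i : ℕ), fun i j hij hmem => ?_⟩
  have hu : IsUnit (t ^ (i : ℕ) - t ^ (j : ℕ)) := by
    rcases lt_or_gt_of_ne (fun h => hij (Fin.ext h) : (i : ℕ) ≠ j) with h | h
    · exact hunit _ _ h (by omega)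
    · have := hunit _ _ h (by omega)
      rw [← neg_sub]
      exact this.neg
  exact hp.ne_top (Ideal.eq_top_of_isUnit_mem _ hmem hu)

end Groth.Agent.H9.DPA
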