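import Mathlib
import Groth.Prelude.Def_PolLaw

/-! Helper9: a non-spanning criterion for divided powers via the square-zero algebra k[eps_i]/(eps_i^2) -/
set_option linter.style.haveILetI false

namespace Groth.Agent.H9.DPB
open Polynomial

section sqzero
variable {R : Type*} [CommRing R] {ι : Type*}

/-- the generating polynomial `∏ (1 + z_i X)` -/
noncomputable def EE (s : Finset ι) (z : ι → R) : R[X] := ∏ i ∈ s, (1 + C (z i) * X)

lemma EE_coeff_zero (s : Finset ι) (z : ι → R) : (EE s z).coeff 0 = 1 := by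
  rw [EE, Polynomial.coeff_zero_eq_eval_zero, Polynomial.eval_prod]
  simp

lemma EE_smul (s : Finset ι) (z : ι → R) (r : R) :
    EE s (fun i => r * z i) = (EE s z).comp (C r * X) := by
  rw [EE, EE, Polynomial.prod_comp]
  refine Finset.prod_congr rfl fun i _ => ?_
  simp only [add_comp, one_comp, mul_comp, C_comp, X_comp, map_mul]
  ring

lemma EE_coeff_smul (s : Finset ι) (z : ι → R) (r : R) (n : ℕ) :
    (EE s (fun i => r * z i)).coeff n = r ^ n * (EE s z).coeff n := by
  rw [EE_smul, Polynomial.comp_C_mul_X_coeff, mul_comm]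

lemma EE_add (s : Finset ι) (z z' : ι → R) (h : ∀ i ∈ s, z i * z' i = 0) :
    EE s (fun i => z i + z' i) = EE s z * EE s z' := by
  rw [EE, EE, EE, ← Finset.prod_mul_distrib]
  refine Finset.prod_congr rfl fun i hi => ?_
  have : (1 + C (z i) * X) * (1 + C (z' i) * X) =
      1 + C (z i + z' i) * X + C (z i * z' i) * X ^ 2 := by
    simp only [map_add, map_mul]; ring
  rw [this, h i hi, map_zero, zero_mul, add_zero]

lemma EE_coeff_card (s : Finset ι) (z : ι → R) : (EE s z).coeff s.card = ∏ i ∈ s, z i := by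
  have := Polynomial.coeff_prod_of_natDegree_le (s := s) (fun i => (1 + C (z i) * X : R[X])) 1
    (fun i _ => by
      refine (Polynomial.natDegree_add_le _ _).trans ?_
      simp only [natDegree_one, zero_le, sup_of_le_right]
      exact (Polynomial.natDegree_C_mul_le _ _).trans Polynomial.natDegree_X_le)
  rw [mul_one] at this
  rw [EE, this]
  refine Finset.prod_congr rfl fun i _ => ?_
  simp [Polynomial.coeff_one]

lemma EE_coeff_card' (s : Finset ι) (z : ι → R) (n : ℕ) (hn : s.card = n) :
    (EE s z).coeff n = ∏ i ∈ s, z i := by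
  subst hn; exact EE_coeff_card s z

lemma EE_coeff_succ_insert [DecidableEq ι] (s : Finset ι) (a : ι) (ha : a ∉ s) (z : ι → R) (n : ℕ) :
    (EE (insert a s) z).coeff (n + 1) = (EE s z).coeff (n + 1) + z a * (EE s z).coeff n := by
  rw [EE, Finset.prod_insert ha, ← EE, add_mul, one_mul, Polynomial.coeff_add, mul_assoc,
    Polynomial.coeff_C_mul, Polynomial.coeff_X_mul]

lemma EE_coeff_mul [DecidableEq ι] (s : Finset ι) (z : ι → R) (h : ∀ i ∈ s, z i * z i = 0) (n p : ℕ) :
    (EE s z).coeff n * (EE s z).coeff p = (n + p).choose n • (EE s z).coeff (n + p) := by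
  induction s using Finset.induction_on generalizing n p with
  | empty =>
    simp only [EE, Finset.prod_empty, Polynomial.coeff_one]
    by_cases hn : n = 0
    · subst hn; simp
    · have : n + p ≠ 0 := by omega
      simp [hn]
  | insert a s ha ih =>
    have hs : ∀ i ∈ s, z i * z i = 0 := fun i hi => h i (Finset.mem_insert_of_mem hi)
    have hza : z a * z a = 0 := h a (Finset.mem_insert_self a s)
    rcases Nat.eq_zero_or_pos n with rfl | hn
    · rw [EE_coeff_zero, one_mul, zero_add, Nat.choose_zero_right, one_smul]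
    rcases Nat.eq_zero_or_pos p with rfl | hp
    · rw [EE_coeff_zero, mul_one, add_zero, Nat.choose_self, one_smul]
    obtain ⟨n', rfl⟩ := Nat.exists_eq_succ_of_ne_zero hn.ne'
    obtain ⟨p', rfl⟩ := Nat.exists_eq_succ_of_ne_zero hp.ne'
    have e1 : n' + 1 + (p' + 1) = (n' + 1 + p') + 1 := by ring
    rw [e1, EE_coeff_succ_insert s a ha, EE_coeff_succ_insert s a ha, EE_coeff_succ_insert s a ha]
    have i1 := ih hs (n' + 1) (p' + 1)
    have i2 := ih hs n' (p' + 1)
    have i3 := ih hs (n' + 1) p'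
    rw [e1] at i1
    have e2 : n' + (p' + 1) = n' + 1 + p' := by ring
    rw [e2] at i2
    have key : ((EE s z).coeff (n' + 1) + z a * (EE s z).coeff n') *
        ((EE s z).coeff (p' + 1) + z a * (EE s z).coeff p') =
        (EE s z).coeff (n' + 1) * (EE s z).coeff (p' + 1) +
        z a * ((EE s z).coeff n' * (EE s z).coeff (p' + 1) +
          (EE s z).coeff (n' + 1) * (EE s z).coeff p') +
        (z a * z a) * ((EE s z).coeff n' * (EE s z).coeff p') := by ring
    rw [key, hza, zero_mul, add_zero, i1, i2, i3, Nat.choose_succ_succ' (n' + 1 + p') n']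
    simp only [nsmul_eq_mul, Nat.cast_add]
    ring

end sqzero


section ring
universe u
universe w
variable (k : Type u) [Field k] (ι : Type w) [Fintype ι]

/-- the ideal `(X_i ^ 2)` -/
noncomputable def JJ : Ideal (MvPolynomial ι k) :=
  Ideal.span ((fun s => MvPolynomial.monomial s (1 : k)) '' (Set.range fun i : ι => Finsupp.single i 2))

/-- `k[ε_i] / (ε_i ^ 2)` -/
abbrev RR := MvPolynomial ι k ⧸ JJ k ι

variable {k ι}

/-- the square-zero generators -/
noncomputable def eps (i : ι) : RR k ι := Ideal.Quotient.mk _ (MvPolynomial.X i)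

omit [Fintype ι] in
lemma eps_sq (i : ι) : eps (k := k) i * eps i = 0 := by
  rw [eps, ← map_mul, Ideal.Quotient.eq_zero_iff_mem, ← pow_two, MvPolynomial.X_pow_eq_monomial]
  exact Ideal.subset_span ⟨_, ⟨i, rfl⟩, rfl⟩

lemma prod_eps_ne_zero : (∏ i, eps (k := k) (ι := ι) i) ≠ 0 := by
  classical
  intro h
  simp only [eps] at h
  rw [← map_prod, Ideal.Quotient.eq_zero_iff_mem, JJ] at h
  have h1 : (∏ i : ι, (MvPolynomial.X i : MvPolynomial ι k)) =
      MvPolynomial.monomial (Finsupp.equivFunOnFinite.symm (fun _ => 1)) 1 := by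
    rw [MvPolynomial.monomial_eq]
    simp [Finsupp.prod_fintype]
  rw [h1, MvPolynomial.mem_ideal_span_monomial_image] at h
  obtain ⟨si, ⟨i, rfl⟩, hle⟩ := h (Finsupp.equivFunOnFinite.symm (fun _ => 1)) (by
    rw [MvPolynomial.support_monomial]; simp)
  have := hle i
  simp at this

end ring

section Phi
universe u
open DividedPowerAlgebra
universe w
variable {k : Type u} [Field k] {ι : Type w} [Fintype ι]
variable {A M : Type u} [CommRing A] [AddCommGroup M] [Module A M] [Algebra A k]

/-- the square-zero element attached to `m` and the `i`-th form -/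
noncomputable def zz (ℓ : ι → (M →ₗ[A] k)) (m : M) (i : ι) : RR k ι :=
  algebraMap k (RR k ι) (ℓ i m) * eps i

omit [Fintype ι] in
lemma zz_mul (ℓ : ι → (M →ₗ[A] k)) (m m' : M) (i : ι) : zz ℓ m i * zz ℓ m' i = 0 := by
  rw [zz, zz, mul_mul_mul_comm, eps_sq, mul_zero]

omit [Fintype ι] in
lemma zz_add (ℓ : ι → (M →ₗ[A] k)) (m m' : M) (i : ι) : zz ℓ (m + m') i = zz ℓ m i + zz ℓ m' i := by
  rw [zz, zz, zz, map_add, map_add, add_mul]

omit [Fintype ι] in
lemma zz_smul (ℓ : ι → (M →ₗ[A] k)) (r : A) (m : M) (i : ι) :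
    zz ℓ (r • m) i = algebraMap A (RR k ι) r * zz ℓ m i := by
  rw [zz, zz, map_smul, Algebra.smul_def, map_mul, ← mul_assoc,
    ← IsScalarTower.algebraMap_apply A k (RR k ι)]

/-- the divided power values -/
noncomputable def ff (ℓ : ι → (M →ₗ[A] k)) : ℕ × M → RR k ι :=
  fun nm => (EE Finset.univ (zz ℓ nm.2)).coeff nm.1

/-- the algebra map out of the divided power algebra -/
noncomputable def Φ (ℓ : ι → (M →ₗ[A] k)) : DividedPowerAlgebra A M →ₐ[A] RR k ι := by
  classical
  exact DividedPowerAlgebra.lift' (f := ff ℓ)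
    (fun m => EE_coeff_zero _ _)
    (fun n r m => by
      simp only [ff]
      have : zz ℓ (r • m) = fun i => algebraMap A (RR k ι) r * zz ℓ m i := funext fun i => zz_smul ℓ r m i
      rw [this, EE_coeff_smul, Algebra.smul_def, map_pow])
    (fun n p m => EE_coeff_mul _ _ (fun i _ => zz_mul ℓ m m i) n p)
    (fun n u v => by
      simp only [ff]
      have : zz ℓ (u + v) = fun i => zz ℓ u i + zz ℓ v i := funext fun i => zz_add ℓ u v i
      rw [this, EE_add _ _ _ (fun i _ => zz_mul ℓ u v i), Polynomial.coeff_mul])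

lemma Φ_dp (ℓ : ι → (M →ₗ[A] k)) (n : ℕ) (m : M) :
    Φ ℓ (dp A n m) = (EE Finset.univ (zz ℓ m)).coeff n := by
  rw [Φ]
  exact DividedPowerAlgebra.lift'_apply_dp _ _ _ _ n m


/-- multiplying by `∏ ε_c` kills the non-constant part of `∏ (1 + a_c ε_c X)` -/
lemma C_prod_mul_EE {R : Type*} [CommRing R] {κ : Type*} (s : Finset κ) (e : κ → R) (a : κ → R)
    (he : ∀ c ∈ s, e c * e c = 0) :
    Polynomial.C (∏ c ∈ s, e c) * EE s (fun c => a c * e c) = Polynomial.C (∏ c ∈ s, e c) := by
  rw [EE, map_prod, ← Finset.prod_mul_distrib]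
  refine Finset.prod_congr rfl fun c hc => ?_
  rw [mul_add, mul_one, ← mul_assoc, ← map_mul, mul_left_comm, he c hc, mul_zero, map_zero, zero_mul,
    add_zero]

theorem not_span' (a : ℕ) (ha : 0 < a) [Fintype k] (u v : M →ₗ[A] k) (x y : M)
    (hux : u x ≠ 0) (huy : u y = 0) (hvy : v y ≠ 0) :
    Submodule.span A (Set.range (dp A (a + Fintype.card k) : M → DividedPowerAlgebra A M)) ≠
      PolLaw.gammaPiece A M (a + Fintype.card k) := by
  classical
  let ℓ : (Fin a ⊕ k) → (M →ₗ[A] k) := Sum.elim (fun _ => u) (fun c => v - c • u)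
  have hcard : (Finset.univ : Finset (Fin a ⊕ k)).card = a + Fintype.card k := by
    rw [Finset.card_univ, Fintype.card_sum, Fintype.card_fin]
  -- Step 1
  have h1 : ∀ m, Φ ℓ (dp A (a + Fintype.card k) m) = 0 := by
    intro m
    rw [Φ_dp, EE_coeff_card' _ _ _ hcard]
    simp only [zz]
    rw [Finset.prod_mul_distrib, ← map_prod]
    have : ∏ i, (ℓ i) m = 0 := by
      rw [Fintype.prod_sum_type]
      by_cases hum : u m = 0
      · simp [ℓ, hum, ha.ne']
      · apply mul_eq_zero_of_right
        apply Finset.prod_eq_zero (Finset.mem_univ (v m / u m))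
        simp [ℓ, hum]
    rw [this, map_zero, zero_mul]
  -- Step 2
  set g := dp A a x * dp A (Fintype.card k) y with hg
  have h2 : Φ ℓ g = algebraMap k (RR k _) (u x ^ a * v y ^ (Fintype.card k)) * ∏ i, eps i := by
    rw [hg, map_mul, Φ_dp, Φ_dp]
    have hy : EE Finset.univ (zz ℓ y) =
        EE (Finset.univ : Finset k) (fun c => algebraMap k (RR k _) (v y) * eps (Sum.inr c)) := by
      rw [EE, Fintype.prod_sum_type, EE]
      have : ∀ i : Fin a, (1 + Polynomial.C (zz ℓ y (Sum.inl i)) * Polynomial.X :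
          Polynomial (RR k (Fin a ⊕ k))) = 1 := by
        intro i
        simp [zz, ℓ, huy]
      simp only [this, Finset.prod_const_one, one_mul]
      refine Finset.prod_congr rfl fun c _ => ?_
      simp [zz, ℓ, huy]
    have hyc : (EE Finset.univ (zz ℓ y)).coeff (Fintype.card k) =
        algebraMap k (RR k _) (v y ^ (Fintype.card k)) * ∏ c : k, eps (Sum.inr c) := by
      rw [hy, EE_coeff_card' _ _ _ Finset.card_univ, Finset.prod_mul_distrib, Finset.prod_const,
        Finset.card_univ, ← map_pow]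
    have hx : EE Finset.univ (zz ℓ x) =
        EE (Finset.univ : Finset (Fin a)) (fun i => algebraMap k (RR k _) (u x) * eps (Sum.inl i)) *
        EE (Finset.univ : Finset k) (fun c => algebraMap k (RR k _) (ℓ (Sum.inr c) x) * eps (Sum.inr c)) := by
      rw [EE, Fintype.prod_sum_type, EE, EE]
      rfl
    have hkey : (EE Finset.univ (zz ℓ x)).coeff a * ∏ c : k, eps (Sum.inr c) =
        (algebraMap k (RR k _) (u x ^ a) * ∏ i : Fin a, eps (Sum.inl i)) *
          ∏ c : k, eps (Sum.inr c) := by
      rw [← Polynomial.coeff_mul_C, hx, mul_assoc, mul_comm _ (Polynomial.C _),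
        C_prod_mul_EE _ _ _ (fun c _ => eps_sq _), Polynomial.coeff_mul_C]
      congr 1
      rw [EE_coeff_card' _ _ _ (by rw [Finset.card_univ, Fintype.card_fin]),
        Finset.prod_mul_distrib, Finset.prod_const, Finset.card_univ,
        Fintype.card_fin, ← map_pow]
    rw [hyc, mul_left_comm, hkey, Fintype.prod_sum_type, map_mul]
    ring
  have h3 : Φ ℓ g ≠ 0 := by
    rw [h2, ← Algebra.smul_def]
    exact smul_ne_zero (mul_ne_zero (pow_ne_zero _ hux) (pow_ne_zero _ hvy)) prod_eps_ne_zero
  -- Step 3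
  intro heq
  have hgmem : g ∈ PolLaw.gammaPiece A M (a + Fintype.card k) := by
    apply Submodule.subset_span
    refine ⟨2, ![a, Fintype.card k], ![x, y], ?_, ?_⟩
    · simp [Fin.sum_univ_two]
    · simp [Fin.prod_univ_two, hg]
  rw [← heq] at hgmem
  have hle : Submodule.span A (Set.range (dp A (a + Fintype.card k) : M → DividedPowerAlgebra A M)) ≤
      LinearMap.ker (Φ ℓ).toLinearMap := by
    rw [Submodule.span_le]
    rintro _ ⟨m, rfl⟩
    exact h1 m
  exact h3 (hle hgmem)

theorem not_span (d : ℕ) [Fintype k] (hq : Fintype.card k < d) (u v : M →ₗ[A] k) (x y : M)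
    (hux : u x ≠ 0) (huy : u y = 0) (hvy : v y ≠ 0) :
    Submodule.span A (Set.range (dp A d : M → DividedPowerAlgebra A M)) ≠
      PolLaw.gammaPiece A M d := by
  have := not_span' (d - Fintype.card k) (by omega) u v x y hux huy hvy
  rwa [Nat.sub_add_cancel hq.le] at this

end Phi

end Groth.Agent.H9.DPB
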