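import Mathlib
import Groth.Prelude.Def_PolLaw
import Groth.Agent.Lib.Helper9.Misc.DPB1

/-! Helper9: S13388: converse spanning criterion for Gamma^d -/
set_option linter.style.haveILetI false

namespace Groth.Agent.H9.DPB
open scoped TensorProduct
open DividedPowerAlgebra

universe u
variable {A M : Type u} [CommRing A] [AddCommGroup M] [Module A M]

section local_
variable (p : Ideal A) [p.IsPrime]

local notation "R'" => Localization.AtPrime p
local notation "M'" => LocalizedModule p.primeCompl M
local notation "k'" => IsLocalRing.ResidueField (Localization.AtPrime p)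

/-- the class of `m` in `k(p) ⊗ M_p` -/
noncomputable def cls (m : M) : k' ⊗[R'] M' := (1 : k') ⊗ₜ[R'] (LocalizedModule.mk m (1 : p.primeCompl))

lemma cls_add (m m' : M) : cls p (m + m') = cls p m + cls p m' := by
  rw [cls, cls, cls, ← TensorProduct.tmul_add, LocalizedModule.mk_add_mk]
  simp

lemma cls_smul (a : A) (m : M) : cls p (a • m) = algebraMap A k' a • cls p m := by
  rw [cls, cls, ← LocalizedModule.smul'_mk, ← algebraMap_smul R' a
    (LocalizedModule.mk m (1 : p.primeCompl)), ← TensorProduct.smul_tmul, TensorProduct.smul_tmul',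
    IsScalarTower.algebraMap_apply A R' k', Algebra.smul_def, mul_one, smul_eq_mul, mul_one]

/-- the `A`-linear form on `M` induced by a form on `k(p) ⊗ M_p` -/
noncomputable def formOf (φ : Module.Dual k' (k' ⊗[R'] M')) : M →ₗ[A] k' where
  toFun m := φ (cls p m)
  map_add' m m' := by rw [cls_add, map_add]
  map_smul' a m := by
    rw [cls_smul, map_smul, RingHom.id_apply, smul_eq_mul, Algebra.smul_def]


/-- if `M_p` is not cyclic, then for every `y'` some class of `M` is outside the line of `y'` -/
lemma exists_cls_notMem [Module.Finite A M]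
    (hnc : ¬ ∃ x : M', Submodule.span R' {x} = ⊤) (y' : M') :
    ∃ x : M, cls p x ∉ Submodule.span k' {(1 : k') ⊗ₜ[R'] y'} := by
  by_contra hcon
  push Not at hcon
  apply hnc
  refine ⟨y', ?_⟩
  rw [← IsLocalRing.map_tensorProduct_mk_eq_top, eq_top_iff]
  rintro z -
  set N' := (Submodule.span R' {y'}).map (TensorProduct.mk R' k' M' 1) with hN'
  have h1 : ∀ m : M, cls p m ∈ N' := by
    intro m
    obtain ⟨c, hc⟩ := Submodule.mem_span_singleton.mp (hcon m)
    obtain ⟨r, rfl⟩ := IsLocalRing.residue_surjective c
    rw [← hc]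
    refine ⟨r • y', Submodule.smul_mem _ _ (Submodule.mem_span_singleton_self y'), ?_⟩
    rw [TensorProduct.mk_apply, TensorProduct.tmul_smul, TensorProduct.smul_tmul']
    congr 1
  induction z using TensorProduct.induction_on with
  | zero => exact Submodule.zero_mem _
  | tmul c m' =>
    obtain ⟨r, rfl⟩ := IsLocalRing.residue_surjective c
    induction m' using LocalizedModule.induction_on with
    | h m s =>
      have h2 : (IsLocalRing.residue R' r) ⊗ₜ[R'] (LocalizedModule.mk m s : M') =
          (r * Localization.mk 1 s) • cls p m := by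
        rw [cls, ← TensorProduct.tmul_smul, mul_smul, LocalizedModule.mk_smul_mk, one_smul, mul_one,
          TensorProduct.tmul_smul, TensorProduct.smul_tmul']
        congr 1
        rw [Algebra.smul_def, mul_one]
        rfl
      rw [h2]
      exact Submodule.smul_mem _ _ (h1 m)
  | add z z' hz hz' => exact Submodule.add_mem _ hz hz'


theorem S13388_aux [Module.Finite A M] (d : ℕ)
    (h : Submodule.span A (Set.range (DividedPowerAlgebra.dp A d : M → DividedPowerAlgebra A M)) =
      PolLaw.gammaPiece A M d) :
    (d : Cardinal) ≤ Cardinal.mk p.ResidueField ∨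
      ∃ x : M', Submodule.span R' {x} = ⊤ := by
  by_contra hcon
  rw [not_or] at hcon
  obtain ⟨hcard, hnc⟩ := hcon
  rw [not_le] at hcard
  have hfin : Finite p.ResidueField :=
    Cardinal.lt_aleph0_iff_finite.mp (lt_trans hcard (Cardinal.natCast_lt_aleph0))
  let _ : Fintype p.ResidueField := Fintype.ofFinite _
  have hq : Fintype.card p.ResidueField < d := by
    rw [Cardinal.mk_fintype] at hcard
    exact_mod_cast hcard
  -- choose y, x
  obtain ⟨y, hy⟩ := exists_cls_notMem p hnc (0 : M')
  have hy0 : cls p y ≠ 0 := by
    intro h0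
    apply hy
    rw [h0]
    exact Submodule.zero_mem _
  obtain ⟨x, hx⟩ := exists_cls_notMem p hnc (LocalizedModule.mk y (1 : p.primeCompl))
  -- forms
  obtain ⟨u', hu'x, hu'y⟩ := Submodule.exists_dual_map_eq_bot_of_notMem hx inferInstance
  obtain ⟨v', hv'y, -⟩ := Submodule.exists_dual_map_eq_bot_of_notMem
    (p := (⊥ : Submodule k' (k' ⊗[R'] M'))) (x := cls p y) (by simpa using hy0) inferInstance
  have huy : formOf p u' y = 0 := by
    have : u' (cls p y) ∈ (Submodule.span k' {(1 : k') ⊗ₜ[R'] (LocalizedModule.mk y (1 : p.primeCompl) : M')}).map u' :=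
      ⟨_, Submodule.mem_span_singleton_self _, rfl⟩
    rw [hu'y] at this
    have h0 : u' (cls p y) = 0 := by simpa using this
    exact h0
  exact not_span (k := p.ResidueField) d hq (formOf p u') (formOf p v') x y hu'x huy hv'y h

end local_

end Groth.Agent.H9.DPB
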