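import Mathlib

/-! Helper9: list enumeration of lattice solutions (DP lattice conic classes). -/

namespace Groth.Agent.H9.DPL

/-- sum of squares of a list -/
def sqsum (l : List ℕ) : ℕ := (l.map (fun x => x * x)).sum

@[simp] theorem sqsum_nil : sqsum [] = 0 := rfl
@[simp] theorem sqsum_cons (x : ℕ) (l : List ℕ) : sqsum (x :: l) = x * x + sqsum l := by
  simp [sqsum]

theorem cs_list (l : List ℕ) : l.sum * l.sum ≤ l.length * sqsum l := by
  induction l with
  | nil => simp
  | cons x t ih =>
    simp only [List.sum_cons, List.length_cons, sqsum_cons]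
    set s := t.sum
    set n := t.length
    set q := sqsum t
    by_cases hn : n = 0
    · have hs : s = 0 := by
        rw [hn, zero_mul] at ih
        have : s * s = 0 := Nat.le_zero.1 ih
        rcases Nat.mul_eq_zero.1 this with h | h <;> exact h
      rw [hn, hs]
      nlinarith
    · have hnpos : 0 < n := Nat.pos_of_ne_zero hn
      have h1 : n * (2 * x * s) ≤ n * (n * (x * x) + q) := by
        zify at ih ⊢
        nlinarith [sq_nonneg ((n:ℤ) * x - s)]
      have h2 := Nat.le_of_mul_le_mul_left h1 hnpos
      nlinarith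

/-- sorted (descending) solutions: length `k`, entries `≤ m`, sum `S`, sum of squares `Q` -/
def goS : ℕ → ℕ → ℕ → ℕ → List (List ℕ)
  | 0, _, S, Q => if S = 0 ∧ Q = 0 then [[]] else []
  | k+1, m, S, Q => (List.range (m+1)).flatMap fun c =>
      if c ≤ S ∧ c * c ≤ Q then (goS k c (S - c) (Q - c * c)).map (c :: ·) else []

theorem completeS : ∀ (k m S Q : ℕ) (l : List ℕ), l.length = k → l.Pairwise (· ≥ ·) →
    (∀ x ∈ l, x ≤ m) → l.sum = S → sqsum l = Q → l ∈ goS k m S Q := by
  intro k
  induction k with
  | zero =>
    intro m S Q l hl _ _ hS hQ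
    have : l = [] := List.length_eq_zero_iff.1 hl
    subst this
    simp at hS hQ
    simp [goS, ← hS, ← hQ]
  | succ k ih =>
    intro m S Q l hl hp hm hS hQ
    match l, hl with
    | c :: t, hl =>
      simp only [List.length_cons, Nat.add_right_cancel_iff] at hl
      simp only [List.sum_cons] at hS
      rw [sqsum_cons] at hQ
      rw [List.pairwise_cons] at hp
      unfold goS
      rw [List.mem_flatMap]
      refine ⟨c, List.mem_range.2 (Nat.lt_succ_of_le (hm c (List.mem_cons_self))), ?_⟩
      rw [if_pos ⟨by omega, by omega⟩]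
      refine List.mem_map.2 ⟨t, ?_, rfl⟩
      exact ih c (S - c) (Q - c * c) t hl hp.2 (fun x hx => hp.1 x hx) (by omega) (by omega)

/-- all solutions: length `k`, entries `≤ a`, sum `S`, sum of squares `Q` -/
def goA : ℕ → ℕ → ℕ → ℕ → List (List ℕ)
  | 0, _, S, Q => if S = 0 ∧ Q = 0 then [[]] else []
  | k+1, a, S, Q => (List.range (a+1)).flatMap fun c =>
      if c ≤ S ∧ c * c ≤ Q ∧ (S - c) * (S - c) ≤ k * (Q - c * c)
        then (goA k a (S - c) (Q - c * c)).map (c :: ·) else []

theorem completeA : ∀ (k a S Q : ℕ) (l : List ℕ), l.length = k →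
    (∀ x ∈ l, x ≤ a) → l.sum = S → sqsum l = Q → l ∈ goA k a S Q := by
  intro k
  induction k with
  | zero =>
    intro m S Q l hl _ hS hQ
    have : l = [] := List.length_eq_zero_iff.1 hl
    subst this
    simp at hS hQ
    simp [goA, ← hS, ← hQ]
  | succ k ih =>
    intro a S Q l hl hm hS hQ
    match l, hl with
    | c :: t, hl =>
      simp only [List.length_cons, Nat.add_right_cancel_iff] at hl
      simp only [List.sum_cons] at hS
      rw [sqsum_cons] at hQ
      unfold goA
      rw [List.mem_flatMap]
      refine ⟨c, List.mem_range.2 (Nat.lt_succ_of_le (hm c (List.mem_cons_self))), ?_⟩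
      have hcs := cs_list t
      rw [hl] at hcs
      have e1 : S - c = t.sum := by omega
      have e2 : Q - c * c = sqsum t := by omega
      rw [if_pos ⟨by omega, by omega, by rw [e1, e2]; exact hcs⟩]
      refine List.mem_map.2 ⟨t, ?_, rfl⟩
      exact ih a (S - c) (Q - c * c) t hl (fun x hx => hm x (List.mem_cons_of_mem _ hx))
        (by omega) (by omega)

theorem soundA : ∀ (k a S Q : ℕ) (l : List ℕ), l ∈ goA k a S Q →
    l.length = k ∧ l.sum = S ∧ sqsum l = Q := by
  intro k
  induction k with
  | zero =>
    intro a S Q l hl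
    unfold goA at hl
    split_ifs at hl with h
    · simp at hl
      subst hl
      simp [h.1, h.2]
    · simp at hl
  | succ k ih =>
    intro a S Q l hl
    unfold goA at hl
    rw [List.mem_flatMap] at hl
    obtain ⟨c, _, hc⟩ := hl
    split_ifs at hc with h
    · obtain ⟨t, ht, rfl⟩ := List.mem_map.1 hc
      obtain ⟨h1, h2, h3⟩ := ih a _ _ t ht
      refine ⟨by simp [h1], ?_, ?_⟩
      · simp only [List.sum_cons]; omega
      · rw [sqsum_cons]; omega
    · simp at hc

theorem nodupA : ∀ (k a S Q : ℕ), (goA k a S Q).Nodup := by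
  intro k
  induction k with
  | zero =>
    intro a S Q
    unfold goA
    split_ifs <;> simp
  | succ k ih =>
    intro a S Q
    unfold goA
    rw [List.nodup_flatMap]
    constructor
    · intro c _
      split_ifs
      · exact (ih a _ _).map (fun x y h => (List.cons_injective h))
      · simp
    · refine List.Pairwise.imp ?_ (List.nodup_range (n := a + 1))
      intro c c' hcc
      simp only [Function.onFun]
      rw [List.disjoint_left]
      intro l h1 h2
      split_ifs at h1 h2
      all_goals try simp at h1
      all_goals try simp at h2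
      obtain ⟨t, _, rfl⟩ := h1
      obtain ⟨t', _, h⟩ := h2
      exact hcc (List.cons_eq_cons.1 h).1.symm

end Groth.Agent.H9.DPL
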