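import Mathlib
import Groth.Agent.Lib.Helper9.Misc.DPL1

/-! Helper9: kernel-evaluated enumerations of conic classes. -/

namespace Groth.Agent.H9.DPL

/-- all (unsorted) conic solutions `(A :: l)` with `δ` entries -/
def allSols (δ : ℕ) : List (List ℕ) :=
  (List.range 11).flatMap fun A' => (goA δ (A'+1) (3 * (A'+1) - 2) ((A'+1) * (A'+1))).map ((A'+1) :: ·)

set_option maxRecDepth 100000 in
theorem len8 : (allSols 8).length = 2160 := by decide +kernel

theorem len7 : (allSols 7).length = 126 := by decide +kernel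
theorem len6 : (allSols 6).length = 27 := by decide +kernel
theorem len5 : (allSols 5).length = 10 := by decide +kernel
theorem len4 : (allSols 4).length = 5 := by decide +kernel
theorem len3 : (allSols 3).length = 3 := by decide +kernel
theorem len2 : (allSols 2).length = 2 := by decide +kernel

def table : List (List ℕ) :=
  [[1, 1, 0, 0, 0, 0, 0, 0, 0],
        [2, 1, 1, 1, 1, 0, 0, 0, 0],
        [3, 2, 1, 1, 1, 1, 1, 0, 0],
        [4, 2, 2, 2, 1, 1, 1, 1, 0],
        [4, 3, 1, 1, 1, 1, 1, 1, 1],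
        [5, 2, 2, 2, 2, 2, 2, 1, 0],
        [5, 3, 2, 2, 2, 1, 1, 1, 1],
        [6, 3, 3, 2, 2, 2, 2, 1, 1],
        [7, 3, 3, 3, 3, 2, 2, 2, 1],
        [7, 4, 3, 2, 2, 2, 2, 2, 2],
        [8, 4, 3, 3, 3, 3, 2, 2, 2],
        [8, 3, 3, 3, 3, 3, 3, 3, 1],
        [9, 4, 4, 3, 3, 3, 3, 3, 2],
        [10, 4, 4, 4, 4, 3, 3, 3, 3],
        [11, 4, 4, 4, 4, 4, 4, 4, 3]]

theorem sortedSols : ∀ A' ∈ List.range 11, ∀ l ∈ goS 8 (A'+1) (3 * (A'+1) - 2) ((A'+1) * (A'+1)),
    ((A'+1) :: l) ∈ table := by decide +kernel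

end Groth.Agent.H9.DPL
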