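import Mathlib
import Groth.Prelude.Def_W4c3severiratdpLat
import Groth.Agent.Lib.Helper9.Misc.DPL1

/-! Helper9: bounds on conic classes in the DP lattice. -/

namespace Groth.Agent.H9.DPL

open W4c3severiratdp

theorem conic_eqs {δ : ℕ} (v : DP δ) (h : IsConic v) :
    v 0 * v 0 = ∑ i : Fin δ, v i.succ * v i.succ ∧ ∑ i : Fin δ, v i.succ = 3 * v 0 - 2 := by
  obtain ⟨h1, h2⟩ := h
  unfold form at h1 h2
  constructor
  · linarith
  · simp only [canon, Fin.cases_zero, Fin.cases_succ, neg_mul, one_mul, Finset.sum_neg_distrib] at h2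
    linarith

theorem conic_of_eqs {δ : ℕ} (v : DP δ)
    (h1 : v 0 * v 0 = ∑ i : Fin δ, v i.succ * v i.succ)
    (h2 : ∑ i : Fin δ, v i.succ = 3 * v 0 - 2) : IsConic v := by
  constructor
  · unfold form; linarith
  · unfold form
    simp only [canon, Fin.cases_zero, Fin.cases_succ, neg_mul, one_mul, Finset.sum_neg_distrib]
    linarith

theorem conic_bounds {δ : ℕ} (hδ : δ ≤ 8) (v : DP δ) (h : IsConic v) :
    1 ≤ v 0 ∧ v 0 ≤ 11 ∧ ∀ j : Fin δ, 0 ≤ v j.succ ∧ v j.succ ≤ v 0 := by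
  classical
  obtain ⟨h1, h2⟩ := conic_eqs v h
  set a := v 0 with ha
  have hcs : (∑ i : Fin δ, v i.succ) ^ 2 ≤ (δ : ℤ) * ∑ i : Fin δ, v i.succ ^ 2 := by
    have := sq_sum_le_card_mul_sum_sq (s := (Finset.univ : Finset (Fin δ)))
      (f := fun i => v i.succ)
    simpa using this
  have hsq : ∑ i : Fin δ, v i.succ ^ 2 = a * a := by
    rw [h1]; exact Finset.sum_congr rfl fun i _ => by ring
  rw [h2, hsq] at hcs
  have hδ' : (δ : ℤ) ≤ 8 := by exact_mod_cast hδ
  have hδ0 : (0 : ℤ) ≤ δ := by positivity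
  have hcs8 : (3 * a - 2) ^ 2 ≤ 8 * (a * a) := by nlinarith [mul_self_nonneg a]
  have ha1 : 1 ≤ a := by nlinarith
  have ha11 : a ≤ 11 := by nlinarith
  refine ⟨ha1, ha11, ?_⟩
  intro j
  set x := v j.succ with hx
  have hsplit1 : ∑ i : Fin δ, v i.succ = x + ∑ i ∈ Finset.univ.erase j, v i.succ :=
    (Finset.add_sum_erase _ _ (Finset.mem_univ j)).symm
  have hsplit2 : ∑ i : Fin δ, v i.succ ^ 2 = x ^ 2 + ∑ i ∈ Finset.univ.erase j, v i.succ ^ 2 :=
    (Finset.add_sum_erase _ (fun i => v i.succ ^ 2) (Finset.mem_univ j)).symm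
  have hcs' := sq_sum_le_card_mul_sum_sq (s := (Finset.univ.erase j : Finset (Fin δ)))
      (f := fun i => v i.succ)
  have hcard : ((Finset.univ.erase j : Finset (Fin δ)).card : ℤ) ≤ 7 := by
    rw [Finset.card_erase_of_mem (Finset.mem_univ j), Finset.card_univ, Fintype.card_fin]
    have : δ - 1 ≤ 7 := by omega
    exact_mod_cast this
  have hcard0 : (0 : ℤ) ≤ ((Finset.univ.erase j : Finset (Fin δ)).card : ℤ) := by positivity
  set T := ∑ i ∈ Finset.univ.erase j, v i.succ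
  set U := ∑ i ∈ Finset.univ.erase j, v i.succ ^ 2
  have hU : 0 ≤ U := Finset.sum_nonneg fun i _ => sq_nonneg _
  have hT : T = 3 * a - 2 - x := by linarith
  have hU' : U = a * a - x ^ 2 := by linarith
  have h7 : T ^ 2 ≤ 7 * U := by
    calc T ^ 2 ≤ _ := hcs'
      _ ≤ 7 * U := by nlinarith
  rw [hT, hU'] at h7
  rw [hU'] at hU
  constructor
  · by_contra hneg
    push Not at hneg
    have hx1 : x ≤ -1 := by omega
    nlinarith [mul_nonneg (by linarith : (0:ℤ) ≤ -x - 1) (by linarith : (0:ℤ) ≤ a - 1),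
      mul_nonneg (by linarith : (0:ℤ) ≤ -x - 1) (by linarith : (0:ℤ) ≤ -x - 1)]
  · nlinarith

end Groth.Agent.H9.DPL
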