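import Mathlib
import Groth.Prelude.Def_W4c3severiratdpLat
import Groth.Agent.Lib.Helper9.Misc.DPL2
import Groth.Agent.Lib.Helper9.Misc.DPL3

/-! Helper9: counting conic classes in the DP lattice (S15905). -/

namespace Groth.Agent.H9.DPL

open W4c3severiratdp

/-- vector of a list -/
def vecOf (δ : ℕ) (L : List ℕ) : DP δ := fun i => ((L.getD i.val 0 : ℕ) : ℤ)

theorem sum_getD {δ : ℕ} (l : List ℕ) (hl : l.length = δ) (f : ℕ → ℤ) :
    ∑ i : Fin δ, f (l.getD i.val 0) = (l.map f).sum := by
  subst hl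
  have : l.map f = List.ofFn (fun i : Fin l.length => f (l.getD i.val 0)) := by
    apply List.ext_getElem
    · simp
    · intro i h1 h2
      simp
  rw [this, List.sum_ofFn]

theorem cast_sqsum (l : List ℕ) : ((sqsum l : ℕ) : ℤ) = (l.map (fun x : ℕ => (x:ℤ) * (x:ℤ))).sum := by
  induction l with
  | nil => simp
  | cons x t ih => rw [sqsum_cons]; push_cast; rw [ih]; simp

theorem cast_sum (l : List ℕ) : ((l.sum : ℕ) : ℤ) = (l.map (fun x : ℕ => (x:ℤ))).sum := by
  induction l with
  | nil => simp
  | cons x t ih => simp [ih]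

theorem conic_vecOf {δ : ℕ} (A : ℕ) (hA : 1 ≤ A) (l : List ℕ) (hl : l.length = δ)
    (hs : l.sum = 3 * A - 2) (hq : sqsum l = A * A) : IsConic (vecOf δ (A :: l)) := by
  have h0 : vecOf δ (A :: l) 0 = (A : ℤ) := by simp [vecOf]
  apply conic_of_eqs
  · have : ∑ i : Fin δ, vecOf δ (A :: l) i.succ * vecOf δ (A :: l) i.succ
        = ((sqsum l : ℕ) : ℤ) := by
      rw [cast_sqsum, ← sum_getD l hl]
      exact Finset.sum_congr rfl fun i _ => by simp [vecOf]
    rw [h0, this, hq]
    push_cast; ring
  · have : ∑ i : Fin δ, vecOf δ (A :: l) i.succ = ((l.sum : ℕ) : ℤ) := by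
      rw [cast_sum, ← sum_getD l hl]
      exact Finset.sum_congr rfl fun i _ => by simp [vecOf]
    rw [h0, this, hs]
    have : 2 ≤ 3 * A := by omega
    push_cast [this]; ring

theorem allSols_mem {δ : ℕ} (L : List ℕ) :
    L ∈ allSols δ ↔ ∃ A, 1 ≤ A ∧ A ≤ 11 ∧ ∃ l ∈ goA δ A (3 * A - 2) (A * A), L = A :: l := by
  unfold allSols
  rw [List.mem_flatMap]
  constructor
  · rintro ⟨A', hA', hL⟩
    rw [List.mem_range] at hA'
    obtain ⟨l, hl, rfl⟩ := List.mem_map.1 hL
    exact ⟨A' + 1, by omega, by omega, l, hl, rfl⟩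
  · rintro ⟨A, h1, h2, l, hl, rfl⟩
    refine ⟨A - 1, List.mem_range.2 (by omega), ?_⟩
    have : A - 1 + 1 = A := by omega
    rw [this]
    exact List.mem_map.2 ⟨l, hl, rfl⟩

theorem allSols_nodup (δ : ℕ) : (allSols δ).Nodup := by
  unfold allSols
  rw [List.nodup_flatMap]
  constructor
  · intro A' _
    exact (nodupA _ _ _ _).map (fun x y h => List.cons_injective h)
  · refine List.Pairwise.imp ?_ (List.nodup_range (n := 11))
    intro c c' hcc
    simp only [Function.onFun]
    rw [List.disjoint_left]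
    intro l h1 h2
    obtain ⟨t, _, rfl⟩ := List.mem_map.1 h1
    obtain ⟨t', _, h⟩ := List.mem_map.1 h2
    have := (List.cons_eq_cons.1 h).1
    omega

theorem count (δ : ℕ) (hδ : δ ≤ 8) : {v : DP δ | IsConic v}.ncard = (allSols δ).length := by
  classical
  have hset : {v : DP δ | IsConic v} = ↑((allSols δ).toFinset.image (vecOf δ)) := by
    ext v
    simp only [Set.mem_ofPred_eq, Finset.coe_image, List.coe_toFinset, Set.mem_image]
    constructor
    · intro hv
      obtain ⟨ha1, ha11, hb⟩ := conic_bounds hδ v hv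
      obtain ⟨h1, h2⟩ := conic_eqs v hv
      set A := (v 0).toNat with hA
      have hAz : (A : ℤ) = v 0 := Int.toNat_of_nonneg (by linarith)
      set l := List.ofFn (fun i : Fin δ => (v i.succ).toNat) with hl
      have hcast : ∀ i : Fin δ, (((v i.succ).toNat : ℕ) : ℤ) = v i.succ :=
        fun i => Int.toNat_of_nonneg (hb i).1
      refine ⟨A :: l, ?_, ?_⟩
      · rw [allSols_mem]
        refine ⟨A, by omega, by omega, l, ?_, rfl⟩
        apply completeA
        · simp [hl]
        · intro x hx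
          rw [hl, List.mem_ofFn] at hx
          obtain ⟨i, rfl⟩ := hx
          have := (hb i).2
          omega
        · rw [hl, List.sum_ofFn]
          have : ((∑ i : Fin δ, (v i.succ).toNat : ℕ) : ℤ) = 3 * (A:ℤ) - 2 := by
            push_cast
            rw [Finset.sum_congr rfl fun i _ => hcast i, h2, hAz]
          omega
        · have : sqsum l = ∑ i : Fin δ, (v i.succ).toNat * (v i.succ).toNat := by
            rw [hl, sqsum, List.map_ofFn, List.sum_ofFn]
            rfl
          rw [this]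
          have : ((∑ i : Fin δ, (v i.succ).toNat * (v i.succ).toNat : ℕ) : ℤ) = (A:ℤ) * A := by
            push_cast
            rw [Finset.sum_congr rfl fun i _ => by rw [hcast i], ← h1, hAz]
          exact_mod_cast this
      · funext i
        induction i using Fin.cases with
        | zero => simp [vecOf, hAz]
        | succ j =>
          simp only [vecOf, Fin.val_succ, List.getD_cons_succ]
          rw [hl]
          simp [hcast]
    · rintro ⟨L, hL, rfl⟩
      rw [allSols_mem] at hL
      obtain ⟨A, h1, _, l, hl, rfl⟩ := hL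
      obtain ⟨e1, e2, e3⟩ := soundA _ _ _ _ l hl
      exact conic_vecOf A h1 l e1 e2 e3
  rw [hset, Set.ncard_coe_finset, Finset.card_image_of_injOn, List.toFinset_card_of_nodup
    (allSols_nodup δ)]
  intro L hL L' hL' heq
  simp only [List.coe_toFinset, Set.mem_ofPred_eq] at hL hL'
  rw [allSols_mem] at hL hL'
  obtain ⟨A, _, _, l, hl, rfl⟩ := hL
  obtain ⟨A', _, _, l', hl', rfl⟩ := hL'
  obtain ⟨e1, _, _⟩ := soundA _ _ _ _ l hl
  obtain ⟨e1', _, _⟩ := soundA _ _ _ _ l' hl'
  apply List.ext_getElem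
  · simp [e1, e1']
  · intro i h1 h2
    have hi : i < δ + 1 := by simpa [e1] using h1
    have := congrFun heq ⟨i, hi⟩
    simp only [vecOf] at this
    have := Int.ofNat_inj.1 this
    rw [List.getD_eq_getElem _ _ h1, List.getD_eq_getElem _ _ h2] at this
    exact this

theorem main5 :
    {v : DP 8 | IsConic v}.ncard = 2160 ∧ {v : DP 7 | IsConic v}.ncard = 126 ∧
      {v : DP 6 | IsConic v}.ncard = 27 ∧ {v : DP 5 | IsConic v}.ncard = 10 ∧
      {v : DP 4 | IsConic v}.ncard = 5 ∧ {v : DP 3 | IsConic v}.ncard = 3 ∧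
      {v : DP 2 | IsConic v}.ncard = 2 := by
  refine ⟨?_, ?_, ?_, ?_, ?_, ?_, ?_⟩
  · rw [count 8 (by norm_num), len8]
  · rw [count 7 (by norm_num), len7]
  · rw [count 6 (by norm_num), len6]
  · rw [count 5 (by norm_num), len5]
  · rw [count 4 (by norm_num), len4]
  · rw [count 3 (by norm_num), len3]
  · rw [count 2 (by norm_num), len2]

end Groth.Agent.H9.DPL
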