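import Mathlib
import Groth.Prelude.Def_W4c3severiratdpLat
import Groth.Agent.Lib.Helper9.Misc.DPL4

/-! Helper9: classification of conic classes for delta = 8 (S15906). -/

namespace Groth.Agent.H9.DPL

open W4c3severiratdp

/-- the fifteen sorted conic vectors -/
def theSet : Set (DP 8) :=
  {![1, 1, 0, 0, 0, 0, 0, 0, 0],
        ![2, 1, 1, 1, 1, 0, 0, 0, 0],
        ![3, 2, 1, 1, 1, 1, 1, 0, 0],
        ![4, 2, 2, 2, 1, 1, 1, 1, 0],
        ![4, 3, 1, 1, 1, 1, 1, 1, 1],
        ![5, 2, 2, 2, 2, 2, 2, 1, 0],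
        ![5, 3, 2, 2, 2, 1, 1, 1, 1],
        ![6, 3, 3, 2, 2, 2, 2, 1, 1],
        ![7, 3, 3, 3, 3, 2, 2, 2, 1],
        ![7, 4, 3, 2, 2, 2, 2, 2, 2],
        ![8, 4, 3, 3, 3, 3, 2, 2, 2],
        ![8, 3, 3, 3, 3, 3, 3, 3, 1],
        ![9, 4, 4, 3, 3, 3, 3, 3, 2],
        ![10, 4, 4, 4, 4, 3, 3, 3, 3],
        ![11, 4, 4, 4, 4, 4, 4, 4, 3]}

theorem mem_theSet : ∀ L ∈ table, vecOf 8 L ∈ theSet := by
  intro L hL
  simp only [table, List.mem_cons, List.not_mem_nil, or_false] at hL
  simp only [theSet, Set.mem_insert_iff, Set.mem_singleton_iff]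
  rcases hL with rfl | rfl | rfl | rfl | rfl | rfl | rfl | rfl | rfl | rfl | rfl | rfl | rfl | rfl | rfl
  all_goals (repeat (first | (left; decide +kernel) | right))
  all_goals decide +kernel

theorem theSet_conic : ∀ t ∈ theSet, t 0 * t 0 = ∑ i : Fin 8, t i.succ * t i.succ ∧
    ∑ i : Fin 8, t i.succ = 3 * t 0 - 2 := by
  intro t ht
  simp only [theSet, Set.mem_insert_iff, Set.mem_singleton_iff] at ht
  rcases ht with rfl | rfl | rfl | rfl | rfl | rfl | rfl | rfl | rfl | rfl | rfl | rfl | rfl | rfl | rfl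
  all_goals decide +kernel

theorem main6 (v : DP 8) :
    IsConic v ↔ ∃ t ∈ theSet, ∃ σ : Equiv.Perm (Fin 8), v 0 = t 0 ∧
      ∀ i : Fin 8, v (σ i).succ = t i.succ := by
  constructor
  · intro hv
    obtain ⟨ha1, ha11, hb⟩ := conic_bounds (le_refl 8) v hv
    obtain ⟨h1, h2⟩ := conic_eqs v hv
    set A := (v 0).toNat with hA
    have hAz : (A : ℤ) = v 0 := Int.toNat_of_nonneg (by linarith)
    let σ : Equiv.Perm (Fin 8) := Tuple.sort (fun i => - v i.succ)
    have hmono : Monotone ((fun i => - v i.succ) ∘ σ) := Tuple.monotone_sort _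
    set l := List.ofFn (fun i : Fin 8 => (v (σ i).succ).toNat) with hl
    have hcast : ∀ i : Fin 8, (((v i.succ).toNat : ℕ) : ℤ) = v i.succ :=
      fun i => Int.toNat_of_nonneg (hb i).1
    have hmem : l ∈ goS 8 A (3 * A - 2) (A * A) := by
      apply completeS
      · simp [hl]
      · rw [hl, List.pairwise_ofFn]
        intro i j hij
        have := hmono hij.le
        simp only [Function.comp] at this
        have h3 := hcast (σ i)
        have h4 := hcast (σ j)
        show (v (σ j).succ).toNat ≤ (v (σ i).succ).toNat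
        omega
      · intro x hx
        rw [hl, List.mem_ofFn] at hx
        obtain ⟨i, rfl⟩ := hx
        have := (hb (σ i)).2
        omega
      · rw [hl, List.sum_ofFn]
        have : ((∑ i : Fin 8, (v (σ i).succ).toNat : ℕ) : ℤ) = 3 * (A:ℤ) - 2 := by
          push_cast
          rw [Finset.sum_congr rfl fun i _ => hcast (σ i),
            Equiv.sum_comp σ (fun i => v i.succ), h2, hAz]
        omega
      · have : sqsum l = ∑ i : Fin 8, (v (σ i).succ).toNat * (v (σ i).succ).toNat := by
          rw [hl, sqsum, List.map_ofFn, List.sum_ofFn]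
          rfl
        rw [this]
        have : ((∑ i : Fin 8, (v (σ i).succ).toNat * (v (σ i).succ).toNat : ℕ) : ℤ)
            = (A:ℤ) * A := by
          push_cast
          rw [Finset.sum_congr rfl fun i _ => by rw [hcast (σ i)],
            Equiv.sum_comp σ (fun i => v i.succ * v i.succ), ← h1, hAz]
        exact_mod_cast this
    have hA' : A - 1 + 1 = A := by omega
    have htab := sortedSols (A - 1) (List.mem_range.2 (by omega)) l (by rw [hA']; exact hmem)
    rw [hA'] at htab
    refine ⟨vecOf 8 (A :: l), mem_theSet _ htab, σ, ?_, ?_⟩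
    · simp [vecOf, hAz]
    · intro i
      simp only [vecOf, Fin.val_succ, List.getD_cons_succ]
      have hlen : i.val < l.length := by simp [hl]
      rw [List.getD_eq_getElem l 0 hlen]
      have : l[i.val] = (v (σ i).succ).toNat := by
        simp only [hl, List.getElem_ofFn, Fin.eta]
      rw [this, hcast]
  · rintro ⟨t, ht, σ, h0, hi⟩
    obtain ⟨e1, e2⟩ := theSet_conic t ht
    apply conic_of_eqs
    · rw [h0, e1, ← Equiv.sum_comp σ (fun i => v i.succ * v i.succ)]
      exact Finset.sum_congr rfl fun i _ => by rw [hi i]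
    · rw [h0, ← e2, ← Equiv.sum_comp σ (fun i => v i.succ)]
      exact Finset.sum_congr rfl fun i _ => by rw [hi i]

end Groth.Agent.H9.DPL
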