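import Mathlib

/-! Helper9: divided powers on torsion-free rings -/

set_option linter.style.haveILetI false
set_option linter.unusedSectionVars false

namespace Groth.Agent.H9.DPTF
open Finset Nat

universe u

section general
variable {A : Type u} [CommRing A]

lemma add_pow_fact (u v : ℕ → A) (x y : A) (hu : ∀ k, (k ! : A) * u k = x ^ k)
    (hv : ∀ k, (k ! : A) * v k = y ^ k) (n : ℕ) :
    (x + y) ^ n = (n ! : A) * ∑ m ∈ antidiagonal n, u m.1 * v m.2 := by
  rw [(Commute.all x y).add_pow', Finset.mul_sum]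
  refine Finset.sum_congr rfl ?_
  rintro ⟨k, l⟩ hm
  have hkl : k + l = n := Finset.HasAntidiagonal.mem_antidiagonal.mp hm
  subst hkl
  simp only [nsmul_eq_mul]
  have hc : ((k + l).choose k * k ! * l ! : ℕ) = (k + l)! := by
    rw [Nat.choose_symm_add]; exact Nat.add_choose_mul_factorial_mul_factorial k l
  rw [← hu k, ← hv l, ← hc]
  push_cast
  ring

end general

section tf
variable {A : Type u} [CommRing A] [IsAddTorsionFree A]

lemma cancel (k : ℕ) (hk : k ≠ 0) {a b : A} (h : (k : A) * a = (k : A) * b) : a = b := by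
  have h' : k • a = k • b := by rwa [nsmul_eq_mul, nsmul_eq_mul]
  exact IsAddTorsionFree.nsmul_right_injective hk h'

theorem dp_subsingleton (I : Ideal A) : Subsingleton (DividedPowers I) := by
  constructor
  intro γ γ'
  apply DividedPowers.ext
  intro n x hx
  apply cancel (n !) (Nat.factorial_ne_zero n)
  rw [γ.factorial_mul_dpow_eq_pow hx, γ'.factorial_mul_dpow_eq_pow hx]

variable (I : Ideal A) (h : ∀ x ∈ I, ∀ n : ℕ, n ≠ 0 → ∃ y ∈ I, (n ! : A) * y = x ^ n)

open Classical in
/-- the divided power function -/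
noncomputable def dp (n : ℕ) (x : A) : A :=
  if hx : x ∈ I then (if hn : n = 0 then 1 else (h x hx n hn).choose) else 0

lemma dp_null {n : ℕ} {x : A} (hx : x ∉ I) : dp I h n x = 0 := by
  simp [dp, hx]

lemma dp_zero {x : A} (hx : x ∈ I) : dp I h 0 x = 1 := by
  simp [dp, hx]

lemma dp_mem {n : ℕ} {x : A} (hn : n ≠ 0) (hx : x ∈ I) : dp I h n x ∈ I := by
  simp only [dp, hx, hn, dite_true, dite_false]
  exact (h x hx n hn).choose_spec.1

lemma dp_spec {x : A} (hx : x ∈ I) (n : ℕ) : (n ! : A) * dp I h n x = x ^ n := by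
  by_cases hn : n = 0
  · subst hn
    simp [dp_zero I h hx]
  · simp only [dp, hx, hn, dite_true, dite_false]
    exact (h x hx n hn).choose_spec.2

/-- the divided power structure -/
noncomputable def dpStruct : DividedPowers I where
  dpow := dp I h
  dpow_null hx := dp_null I h hx
  dpow_zero hx := dp_zero I h hx
  dpow_one {x} hx := by
    have := dp_spec I h hx 1
    simpa using this
  dpow_mem hn hx := dp_mem I h hn hx
  dpow_add {n x y} hx hy := by
    apply cancel (n !) (Nat.factorial_ne_zero n)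
    rw [dp_spec I h (I.add_mem hx hy) n]
    exact add_pow_fact _ _ x y (dp_spec I h hx) (dp_spec I h hy) n
  dpow_mul {n a x} hx := by
    apply cancel (n !) (Nat.factorial_ne_zero n)
    rw [dp_spec I h (I.mul_mem_left a hx) n, mul_pow, ← dp_spec I h hx n]
    ring
  mul_dpow {m n x} hx := by
    apply cancel (m ! * n !) (Nat.mul_ne_zero (Nat.factorial_ne_zero m) (Nat.factorial_ne_zero n))
    have h1 := dp_spec I h hx m
    have h2 := dp_spec I h hx n
    have h3 := dp_spec I h hx (m + n)
    have h4 : ((m + n).choose m * m ! * n ! : ℕ) = (m + n)! := by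
      rw [Nat.choose_symm_add]; exact Nat.add_choose_mul_factorial_mul_factorial m n
    have h5 : (((m + n).choose m : ℕ) : A) * (m ! : A) * (n ! : A) = ((m + n)! : A) := by
      exact_mod_cast congrArg (Nat.cast (R := A)) h4
    calc ((m ! * n ! : ℕ) : A) * (dp I h m x * dp I h n x)
        = ((m ! : A) * dp I h m x) * ((n ! : A) * dp I h n x) := by push_cast; ring
      _ = x ^ (m + n) := by rw [h1, h2, pow_add]
      _ = ((m + n)! : A) * dp I h (m + n) x := h3.symm
      _ = ((m ! * n ! : ℕ) : A) * (((m + n).choose m : A) * dp I h (m + n) x) := by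
          rw [← h5]; push_cast; ring
  dpow_comp {m n x} hn hx := by
    apply cancel (n ! ^ m * m !)
      (Nat.mul_ne_zero (pow_ne_zero _ (Nat.factorial_ne_zero n)) (Nat.factorial_ne_zero m))
    have h1 := dp_spec I h (dp_mem I h hn hx) m
    have h2 := dp_spec I h hx n
    have h3 := dp_spec I h hx (m * n)
    have h4 : (Nat.uniformBell m n * n ! ^ m * m ! : ℕ) = (m * n)! := Nat.uniformBell_mul_eq m hn
    have h5 : ((Nat.uniformBell m n : ℕ) : A) * (n ! : A) ^ m * (m ! : A) = ((m * n)! : A) := by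
      exact_mod_cast congrArg (Nat.cast (R := A)) h4
    calc ((n ! ^ m * m ! : ℕ) : A) * dp I h m (dp I h n x)
        = (n ! : A) ^ m * ((m ! : A) * dp I h m (dp I h n x)) := by push_cast; ring
      _ = ((n ! : A) * dp I h n x) ^ m := by rw [h1, mul_pow]
      _ = x ^ (m * n) := by rw [h2, ← pow_mul, mul_comm]
      _ = ((m * n)! : A) * dp I h (m * n) x := h3.symm
      _ = ((n ! ^ m * m ! : ℕ) : A) * ((Nat.uniformBell m n : A) * dp I h (m * n) x) := by
          rw [← h5]; push_cast; ring

omit [IsAddTorsionFree A] in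
/-- from generators to all elements -/
lemma pow_mem_of_span (S : Set A) (hS : Ideal.span S = I)
    (hgen : ∀ x ∈ S, ∀ n : ℕ, 1 ≤ n → x ^ n ∈ Ideal.span {(Nat.factorial n : A)} * I) :
    ∀ x ∈ I, ∀ n : ℕ, n ≠ 0 → ∃ y ∈ I, (n ! : A) * y = x ^ n := by
  intro x hx
  rw [← hS] at hx
  induction hx using Submodule.span_induction with
  | mem x hx =>
    intro n hn
    exact Ideal.mem_span_singleton_mul.mp (hgen x hx n (Nat.one_le_iff_ne_zero.mpr hn))
  | zero =>
    intro n hn
    exact ⟨0, I.zero_mem, by rw [mul_zero, zero_pow hn]⟩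
  | add x y _ _ hx hy =>
    intro n hn
    classical
    let u : ℕ → A := fun k => if hk : k = 0 then 1 else (hx k hk).choose
    let v : ℕ → A := fun k => if hk : k = 0 then 1 else (hy k hk).choose
    have hu : ∀ k, (k ! : A) * u k = x ^ k := by
      intro k
      by_cases hk : k = 0
      · subst hk; simp [u]
      · simp only [u, hk, dite_false]
        exact (hx k hk).choose_spec.2
    have hv : ∀ k, (k ! : A) * v k = y ^ k := by
      intro k
      by_cases hk : k = 0
      · subst hk; simp [v]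
      · simp only [v, hk, dite_false]
        exact (hy k hk).choose_spec.2
    have huI : ∀ k, k ≠ 0 → u k ∈ I := by
      intro k hk
      simp only [u, hk, dite_false]
      exact (hx k hk).choose_spec.1
    have hvI : ∀ k, k ≠ 0 → v k ∈ I := by
      intro k hk
      simp only [v, hk, dite_false]
      exact (hy k hk).choose_spec.1
    refine ⟨∑ m ∈ antidiagonal n, u m.1 * v m.2, ?_, (add_pow_fact u v x y hu hv n).symm⟩
    apply I.sum_mem
    rintro ⟨k, l⟩ hm
    have hkl : k + l = n := Finset.HasAntidiagonal.mem_antidiagonal.mp hm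
    by_cases hk : k = 0
    · have hl : l ≠ 0 := by omega
      exact I.mul_mem_left _ (hvI l hl)
    · exact I.mul_mem_right _ (huI k hk)
  | smul a x _ hx =>
    intro n hn
    obtain ⟨y, hy, hyx⟩ := hx n hn
    refine ⟨a ^ n * y, I.mul_mem_left _ hy, ?_⟩
    rw [smul_eq_mul, mul_pow, ← hyx]
    ring

theorem main (I : Ideal A) :
    Subsingleton (DividedPowers I) ∧
    (Nonempty (DividedPowers I) ↔ ∃ S : Set A, Ideal.span S = I ∧
      ∀ x ∈ S, ∀ n : ℕ, 1 ≤ n → x ^ n ∈ Ideal.span {(Nat.factorial n : A)} * I) := by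
  refine ⟨dp_subsingleton I, ?_, ?_⟩
  · rintro ⟨γ⟩
    refine ⟨(I : Set A), Ideal.span_eq I, ?_⟩
    intro x hx n hn
    rw [Ideal.mem_span_singleton_mul]
    exact ⟨γ.dpow n x, γ.dpow_mem (Nat.one_le_iff_ne_zero.mp hn) hx,
      γ.factorial_mul_dpow_eq_pow hx⟩
  · rintro ⟨S, hS, hgen⟩
    exact ⟨dpStruct I (pow_mem_of_span I S hS hgen)⟩

end tf

end Groth.Agent.H9.DPTF
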