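import Mathlib

/-! Helper9: divided power structures over Z_(p)-algebras are determined by the p-th divided power (S2211). -/

namespace Groth.Agent.H9.DPUniq

universe u

theorem choose_mod (p : ℕ) [hp : Fact p.Prime] (i : ℕ) :
    Nat.choose (i * p + p - 1) (p - 1) ≡ 1 [MOD p] := by
  have hp0 : 0 < p := hp.out.pos
  have h := @Choose.choose_modEq_choose_mod_mul_choose_div_nat (i * p + p - 1) (p - 1) p _
  have h1 : (i * p + p - 1) % p = p - 1 := by
    have : i * p + p - 1 = (p - 1) + p * i := by
      rw [mul_comm]; omega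
    rw [this, Nat.add_mul_mod_self_left, Nat.mod_eq_of_lt (by omega)]
  have h2 : (i * p + p - 1) / p = i := by
    have : i * p + p - 1 = (p - 1) + p * i := by
      rw [mul_comm]; omega
    rw [this, Nat.add_mul_div_left _ _ hp0, Nat.div_eq_of_lt (by omega), zero_add]
  have h3 : (p - 1) % p = p - 1 := Nat.mod_eq_of_lt (by omega)
  have h4 : (p - 1) / p = 0 := Nat.div_eq_of_lt (by omega)
  rw [h1, h2, h3, h4, Nat.choose_self, Nat.choose_zero_right, mul_one] at h
  exact h

theorem uniformBell_mod (p : ℕ) [hp : Fact p.Prime] (m : ℕ) : Nat.uniformBell m p ≡ 1 [MOD p] := by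
  induction m with
  | zero => rw [Nat.uniformBell_zero_left]
  | succ m ih =>
    rw [Nat.uniformBell_succ_left]
    have := (choose_mod p m).mul ih
    simpa using this

theorem not_dvd_uniformBell (p : ℕ) (hp : p.Prime) (m : ℕ) : ¬ p ∣ Nat.uniformBell m p := by
  have : Fact p.Prime := ⟨hp⟩
  intro h
  have h1 := uniformBell_mod p m
  have h2 : Nat.uniformBell m p ≡ 0 [MOD p] := (Nat.modEq_zero_iff_dvd).mpr h
  have h3 : 1 ≡ 0 [MOD p] := h1.symm.trans h2
  rw [Nat.modEq_zero_iff_dvd] at h3
  exact hp.one_lt.ne' (Nat.dvd_one.mp h3)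

theorem main {A : Type u} [CommRing A] (p : ℕ) (hp : p.Prime)
    (hA : ∀ n : ℕ, ¬ p ∣ n → IsUnit (n : A)) {I : Ideal A} (γ γ' : DividedPowers I) :
    γ = γ' ↔ ∀ x ∈ I, γ.dpow p x = γ'.dpow p x := by
  constructor
  · rintro rfl x _; rfl
  · intro h
    apply DividedPowers.ext
    intro n
    induction n using Nat.strong_induction_on with
    | _ n ih =>
      intro x hx
      rcases Nat.eq_zero_or_pos n with rfl | hn
      · rw [γ.dpow_zero hx, γ'.dpow_zero hx]
      by_cases hpn : p ∣ n
      · obtain ⟨m, rfl⟩ := hpn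
        have hm : m < p * m := by
          have : 0 < m := Nat.pos_of_mul_pos_left hn
          have := hp.one_lt
          nlinarith
        have hu := hA _ (not_dvd_uniformBell p hp m)
        have e1 := γ.dpow_comp (m := m) hp.ne_zero hx
        have e2 := γ'.dpow_comp (m := m) hp.ne_zero hx
        rw [h x hx, ih m hm (γ'.dpow_mem hp.ne_zero hx), e2, mul_comm m p] at e1
        exact (hu.mul_right_injective e1).symm
      · have hu := hA n hpn
        obtain ⟨k, rfl⟩ : ∃ k, n = k + 1 := ⟨n - 1, by omega⟩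
        have e1 := γ.mul_dpow (m := 1) (n := k) hx
        have e2 := γ'.mul_dpow (m := 1) (n := k) hx
        rw [γ.dpow_one hx, ih k (by omega) hx] at e1
        rw [γ'.dpow_one hx, e1] at e2
        have hc : (1 + k).choose 1 = k + 1 := by simp [add_comm]
        rw [hc, add_comm 1 k] at e2
        exact hu.mul_right_injective e2

end Groth.Agent.H9.DPUniq
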