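import Mathlib
import Groth.Prelude.Def_Wider
import Groth.Agent.Lib.Helper6.DepthMax
import Groth.Agent.Lib.Helper6.CMKit

/-! depth with respect to an ideal generated by `n` elements equals `n` iff the generators
form a regular sequence (local case). -/

universe u
set_option autoImplicit false
set_option linter.style.haveILetI false
set_option linter.unusedSectionVars false
set_option linter.unusedVariables false
open scoped Pointwise
open RingTheory.Sequence

namespace Groth.Agent.H9.DRG

variable {R : Type u} [CommRing R] [IsNoetherianRing R] [IsLocalRing R]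

/-- Claim C: if `I' + (x)` contains a regular sequence of length two on `M`, then `I'` contains an
`M`-regular element. -/
theorem exists_regular_of_pair (M : Type u) [AddCommGroup M] [Module R M] [Module.Finite R M]
    (I' : Ideal R) (x : R) (hx : x ∈ IsLocalRing.maximalIdeal R) (z w : R)
    (hzI : z ∈ I' ⊔ Ideal.span {x}) (hwI : w ∈ I' ⊔ Ideal.span {x})
    (hz : IsSMulRegular M z) (hw : IsSMulRegular (QuotSMulTop z M) w) :
    ∃ y ∈ I', IsSMulRegular M y := by
  apply Groth.Agent.H6.CM.exists_isSMulRegular_of_forall_ass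
  intro P hP hIP
  -- P = Ann(u)
  obtain ⟨hPprime, u, hu⟩ := isAssociatedPrime_iff.mp hP
  -- the submodule killed by I'
  let S : Submodule R M :=
    { carrier := {v | ∀ i ∈ I', i • v = 0}
      add_mem' := by
        intro a b ha hb i hi
        rw [smul_add, ha i hi, hb i hi, add_zero]
      zero_mem' := by
        intro i hi
        exact smul_zero i
      smul_mem' := by
        intro c a ha i hi
        rw [smul_comm, ha i hi, smul_zero] }
  have hS : ∀ v, v ∈ S ↔ ∀ i ∈ I', i • v = 0 := fun v => Iff.rfl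
  have huS : u ∈ S := by
    intro i hi
    have : i ∈ P := hIP hi
    rw [hu, Submodule.mem_colon_singleton] at this
    simpa using this
  have hu0 : u ≠ 0 := by
    intro h0
    apply hPprime.ne_top
    rw [hu, h0, Ideal.eq_top_iff_one, Submodule.mem_colon_singleton]
    simp
  obtain ⟨i₁, hi₁, t₁, ht₁, hzeq⟩ := Submodule.mem_sup.mp hzI
  obtain ⟨a, rfl⟩ := Ideal.mem_span_singleton'.mp ht₁
  obtain ⟨i₂, hi₂, t₂, ht₂, hweq⟩ := Submodule.mem_sup.mp hwI
  obtain ⟨b, rfl⟩ := Ideal.mem_span_singleton'.mp ht₂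
  have hle : S ≤ Ideal.span {x} • S := by
    intro v hv
    have hzv : z • v = (a * x) • v := by
      rw [← hzeq, add_smul, hv i₁ hi₁, zero_add]
    have hwv : w • v = (b * x) • v := by
      rw [← hweq, add_smul, hv i₂ hi₂, zero_add]
    -- w • (a • v) = z • (b • v)
    have h1 : w • (a • v) = z • (b • v) := by
      rw [smul_comm w a v, hwv, smul_comm z b v, hzv, ← mul_smul, ← mul_smul]
      congr 1
      ring
    -- a • v ∈ z M
    have h2 : (Submodule.Quotient.mk (a • v) : QuotSMulTop z M) = 0 := by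
      apply hw
      show w • (Submodule.Quotient.mk (a • v) : QuotSMulTop z M) = w • (0 : QuotSMulTop z M)
      rw [smul_zero, ← Submodule.Quotient.mk_smul, h1]
      rw [Submodule.Quotient.mk_eq_zero]
      exact Submodule.smul_mem_pointwise_smul _ _ _ Submodule.mem_top
    rw [Submodule.Quotient.mk_eq_zero] at h2
    obtain ⟨v', -, hv'⟩ := h2
    have hv'' : z • v' = a • v := hv'
    -- v = x • v'
    have h3 : v = x • v' := by
      apply hz
      show z • v = z • x • v'
      rw [hzv, smul_comm z x v', hv'', mul_smul, smul_comm a x v]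
    have h4 : v' ∈ S := by
      intro i hi
      apply hz
      show z • i • v' = z • 0
      rw [smul_zero, smul_comm z i v', hv'', smul_comm i a v, hv i hi, smul_zero]
    rw [h3]
    exact Submodule.smul_mem_smul (Ideal.mem_span_singleton_self x) h4
  have hbot : S = ⊥ := by
    apply Submodule.eq_bot_of_le_smul_of_le_jacobson_bot (Ideal.span {x}) S
      (IsNoetherian.noetherian S) hle
    rw [IsLocalRing.jacobson_eq_maximalIdeal ⊥ bot_ne_top]
    rw [Ideal.span_le]
    intro t ht
    rw [Set.mem_singleton_iff] at ht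
    rw [ht]
    exact hx
  rw [hbot] at huS
  exact hu0 ((Submodule.mem_bot R).mp huS)

/-- Nakayama: the quotient by an element of the maximal ideal is nontrivial -/
theorem nontrivial_quotSMulTop (M : Type u) [AddCommGroup M] [Module R M] [Module.Finite R M]
    [Nontrivial M] (x : R) (hx : x ∈ IsLocalRing.maximalIdeal R) :
    Nontrivial (QuotSMulTop x M) := by
  apply Submodule.Quotient.nontrivial_iff.mpr
  intro htop
  have hle : (⊤ : Submodule R M) ≤ Ideal.span {x} • (⊤ : Submodule R M) := by
    rw [Submodule.ideal_span_singleton_smul, htop]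
  have hbot : (⊤ : Submodule R M) = ⊥ := by
    apply Submodule.eq_bot_of_le_smul_of_le_jacobson_bot (Ideal.span {x}) ⊤
      (Module.Finite.fg_top) hle
    rw [IsLocalRing.jacobson_eq_maximalIdeal ⊥ bot_ne_top, Ideal.span_le]
    intro t ht
    rw [Set.mem_singleton_iff] at ht
    rw [ht]
    exact hx
  exact top_ne_bot hbot

/-- Lemma F: removing one generator in the maximal ideal drops the depth by at most one -/
theorem le_idealDepth_of_sup_span (I' : Ideal R) (hI' : I' ≤ IsLocalRing.maximalIdeal R)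
    (x : R) (hx : x ∈ IsLocalRing.maximalIdeal R) :
    ∀ (k : ℕ) (M : Type u) [AddCommGroup M] [Module R M] [Module.Finite R M] [Nontrivial M],
      ((k + 1 : ℕ) : ℕ∞) ≤ LocCoh.idealDepth (I' ⊔ Ideal.span {x}) M →
      (k : ℕ∞) ≤ LocCoh.idealDepth I' M := by
  intro k
  induction k with
  | zero =>
    intro M _ _ _ _ _
    simp
  | succ k ih =>
    intro M _ _ _ _ h
    -- a regular sequence of length two in `I' + (x)`
    have h0 : ((([] : List R).length : ℕ) : ℕ∞) < LocCoh.idealDepth (I' ⊔ Ideal.span {x}) M := by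
      refine lt_of_lt_of_le ?_ h
      rw [List.length_nil]
      exact_mod_cast Nat.succ_pos _
    obtain ⟨z, hzI, hzreg⟩ := Groth.Agent.H6.Depth.exists_extend (I' ⊔ Ideal.span {x}) M []
      (IsWeaklyRegular.nil R M) (by simp) h0
    have h1 : ((([] ++ [z] : List R).length : ℕ) : ℕ∞) <
        LocCoh.idealDepth (I' ⊔ Ideal.span {x}) M := by
      refine lt_of_lt_of_le ?_ h
      rw [List.nil_append, List.length_singleton]
      exact_mod_cast (by omega : 1 < k + 1 + 1)
    obtain ⟨w, hwI, hwreg⟩ := Groth.Agent.H6.Depth.exists_extend (I' ⊔ Ideal.span {x}) M ([] ++ [z])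
      hzreg (by
        intro r hr
        rw [List.nil_append, List.mem_singleton] at hr
        rw [hr]
        exact hzI) h1
    rw [List.nil_append, List.singleton_append, isWeaklyRegular_cons_iff,
      isWeaklyRegular_singleton_iff] at hwreg
    obtain ⟨y, hyI, hyreg⟩ := exists_regular_of_pair M I' x hx z w hzI hwI hwreg.1 hwreg.2
    have hyI2 : y ∈ I' ⊔ Ideal.span {x} := (le_sup_left : I' ≤ I' ⊔ Ideal.span {x}) hyI
    have hym : y ∈ IsLocalRing.maximalIdeal R := hI' hyI
    haveI := nontrivial_quotSMulTop M y hym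
    have e1 := Groth.Agent.H6.Depth.idealDepth_quotSMulTop_add_one (I' ⊔ Ideal.span {x}) M y
      hyI2 hyreg
    have e2 := Groth.Agent.H6.Depth.idealDepth_quotSMulTop_add_one I' M y hyI hyreg
    have h2 : ((k + 1 : ℕ) : ℕ∞) ≤ LocCoh.idealDepth (I' ⊔ Ideal.span {x}) (QuotSMulTop y M) := by
      rw [← e1] at h
      have h' : ((k + 1 : ℕ) : ℕ∞) + 1 ≤
          LocCoh.idealDepth (I' ⊔ Ideal.span {x}) (QuotSMulTop y M) + 1 := by
        exact_mod_cast h
      exact (ENat.add_le_add_iff_right ENat.one_ne_top).mp h'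
    have h3 := ih (QuotSMulTop y M) h2
    rw [← e2]
    push_cast
    exact add_le_add_left h3 1

/-- iterating Lemma F over a list of generators -/
theorem le_idealDepth_of_sup_ofList (ys : List R) :
    ∀ (I' : Ideal R) (hI' : I' ≤ IsLocalRing.maximalIdeal R)
      (hys : ∀ y ∈ ys, y ∈ IsLocalRing.maximalIdeal R)
      (k : ℕ) (M : Type u) [AddCommGroup M] [Module R M] [Module.Finite R M] [Nontrivial M],
      ((k + ys.length : ℕ) : ℕ∞) ≤ LocCoh.idealDepth (I' ⊔ Ideal.ofList ys) M →
      (k : ℕ∞) ≤ LocCoh.idealDepth I' M := by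
  induction ys with
  | nil =>
    intro I' hI' hys k M _ _ _ _ h
    rw [Ideal.ofList_nil, sup_bot_eq, List.length_nil, add_zero] at h
    exact h
  | cons y ys ih =>
    intro I' hI' hys k M _ _ _ _ h
    have hy : y ∈ IsLocalRing.maximalIdeal R := hys y List.mem_cons_self
    have h1 : ((k + 1 + ys.length : ℕ) : ℕ∞) ≤
        LocCoh.idealDepth ((I' ⊔ Ideal.span {y}) ⊔ Ideal.ofList ys) M := by
      rw [Ideal.ofList_cons, ← sup_assoc, List.length_cons] at h
      rw [show k + 1 + ys.length = k + (ys.length + 1) by omega]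
      exact h
    have h2 := ih (I' ⊔ Ideal.span {y}) (by
      rw [sup_le_iff, Ideal.span_le]
      refine ⟨hI', ?_⟩
      intro t ht
      rw [Set.mem_singleton_iff] at ht
      rw [ht]
      exact hy) (fun t ht => hys t (List.mem_cons_of_mem y ht)) (k + 1) M h1
    exact le_idealDepth_of_sup_span I' hI' y hy k M h2

/-- main induction -/
theorem isWeaklyRegular_of_le_idealDepth (xs : List R) :
    ∀ (M : Type u) [AddCommGroup M] [Module R M] [Module.Finite R M] [Nontrivial M]
      (K : Ideal R) (hK : K ≤ IsLocalRing.maximalIdeal R) (hKM : ∀ κ ∈ K, ∀ m : M, κ • m = 0)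
      (hxs : ∀ x ∈ xs, x ∈ IsLocalRing.maximalIdeal R),
      ((xs.length : ℕ) : ℕ∞) ≤ LocCoh.idealDepth (K ⊔ Ideal.ofList xs) M →
      IsWeaklyRegular M xs := by
  induction xs with
  | nil =>
    intro M _ _ _ _ K hK hKM hxs h
    exact IsWeaklyRegular.nil R M
  | cons x xs ih =>
    intro M _ _ _ _ K hK hKM hxs h
    have hx : x ∈ IsLocalRing.maximalIdeal R := hxs x List.mem_cons_self
    have hxs' : ∀ t ∈ xs, t ∈ IsLocalRing.maximalIdeal R :=
      fun t ht => hxs t (List.mem_cons_of_mem x ht)
    have hK' : K ⊔ Ideal.span {x} ≤ IsLocalRing.maximalIdeal R := by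
      rw [sup_le_iff, Ideal.span_le]
      refine ⟨hK, ?_⟩
      intro t ht
      rw [Set.mem_singleton_iff] at ht
      rw [ht]
      exact hx
    have hIeq : K ⊔ Ideal.ofList (x :: xs) = (K ⊔ Ideal.span {x}) ⊔ Ideal.ofList xs := by
      rw [Ideal.ofList_cons, ← sup_assoc]
    rw [hIeq, List.length_cons] at h
    -- depth of `M` w.r.t. `K + (x)` is at least one
    have h1 : ((1 : ℕ) : ℕ∞) ≤ LocCoh.idealDepth (K ⊔ Ideal.span {x}) M := by
      apply le_idealDepth_of_sup_ofList xs (K ⊔ Ideal.span {x}) hK' hxs' 1 M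
      rw [show 1 + xs.length = xs.length + 1 by omega]
      exact h
    have h0 : ((([] : List R).length : ℕ) : ℕ∞) < LocCoh.idealDepth (K ⊔ Ideal.span {x}) M := by
      refine lt_of_lt_of_le ?_ h1
      rw [List.length_nil]
      exact_mod_cast Nat.zero_lt_one
    obtain ⟨r, hrI, hrreg⟩ := Groth.Agent.H6.Depth.exists_extend (K ⊔ Ideal.span {x}) M []
      (IsWeaklyRegular.nil R M) (by simp) h0
    rw [List.nil_append, isWeaklyRegular_singleton_iff] at hrreg
    obtain ⟨κ, hκ, t, ht, hreq⟩ := Submodule.mem_sup.mp hrI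
    obtain ⟨a, rfl⟩ := Ideal.mem_span_singleton'.mp ht
    have hxreg : IsSMulRegular M x := by
      intro m m' hmm
      have hmm' : x • m = x • m' := hmm
      apply hrreg
      show r • m = r • m'
      rw [← hreq, add_smul, add_smul, hKM κ hκ, hKM κ hκ, mul_smul, mul_smul, hmm']
    rw [isWeaklyRegular_cons_iff]
    refine ⟨hxreg, ?_⟩
    haveI := nontrivial_quotSMulTop M x hx
    apply ih (QuotSMulTop x M) (K ⊔ Ideal.span {x}) hK' ?_ hxs'
    · have hxI : x ∈ (K ⊔ Ideal.span {x}) ⊔ Ideal.ofList xs :=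
        (le_sup_left : K ⊔ Ideal.span {x} ≤ _)
          ((le_sup_right : Ideal.span {x} ≤ K ⊔ Ideal.span {x}) (Ideal.mem_span_singleton_self x))
      have e1 := Groth.Agent.H6.Depth.idealDepth_quotSMulTop_add_one
        ((K ⊔ Ideal.span {x}) ⊔ Ideal.ofList xs) M x hxI hxreg
      rw [← e1] at h
      have h' : ((xs.length : ℕ) : ℕ∞) + 1 ≤
          LocCoh.idealDepth ((K ⊔ Ideal.span {x}) ⊔ Ideal.ofList xs) (QuotSMulTop x M) + 1 := by
        exact_mod_cast h
      exact (ENat.add_le_add_iff_right ENat.one_ne_top).mp h'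
    · intro κ' hκ' q
      obtain ⟨m, rfl⟩ := Submodule.Quotient.mk_surjective _ q
      obtain ⟨κ, hκ, t, ht, rfl⟩ := Submodule.mem_sup.mp hκ'
      obtain ⟨a, rfl⟩ := Ideal.mem_span_singleton'.mp ht
      rw [← Submodule.Quotient.mk_smul, add_smul, hKM κ hκ, zero_add, Submodule.Quotient.mk_eq_zero,
        mul_comm, mul_smul]
      exact Submodule.smul_mem_pointwise_smul _ _ _ Submodule.mem_top

/-- the full statement -/
theorem idealDepth_eq_length_iff {M : Type u} [AddCommGroup M] [Module R M] [Module.Finite R M]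
    [Nontrivial M] (xs : List R) (hxs : ∀ x ∈ xs, x ∈ IsLocalRing.maximalIdeal R) :
    LocCoh.idealDepth (Ideal.span {x | x ∈ xs}) M = xs.length ↔ IsWeaklyRegular M xs := by
  have hspan : Ideal.span {x | x ∈ xs} = Ideal.ofList xs := rfl
  have hle : Ideal.ofList xs ≤ IsLocalRing.maximalIdeal R := by
    rw [← hspan, Ideal.span_le]
    intro t ht
    exact hxs t ht
  constructor
  · intro h
    apply isWeaklyRegular_of_le_idealDepth xs M ⊥ bot_le ?_ hxs
    · rw [bot_sup_eq, ← hspan, h]
    · intro κ hκ m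
      rw [(Submodule.mem_bot R).mp hκ, zero_smul]
  · intro hreg
    rw [hspan]
    have hIM : Ideal.ofList xs • (⊤ : Submodule R M) ≠ ⊤ := by
      intro htop
      have hbot : (⊤ : Submodule R M) = ⊥ := by
        apply Submodule.eq_bot_of_le_smul_of_le_jacobson_bot (Ideal.ofList xs) ⊤
          (Module.Finite.fg_top) htop.ge
        rw [IsLocalRing.jacobson_eq_maximalIdeal ⊥ bot_ne_top]
        exact hle
      exact top_ne_bot hbot
    symm
    apply Groth.Agent.H6.Depth.length_eq_idealDepth_of_maximal (Ideal.ofList xs) M hIM xs hreg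
      (fun r hr => Ideal.subset_span hr)
    intro r hr hcon
    rw [isWeaklyRegular_append_iff, isWeaklyRegular_singleton_iff] at hcon
    haveI : Nontrivial (M ⧸ Ideal.ofList xs • (⊤ : Submodule R M)) :=
      Submodule.Quotient.nontrivial_iff.mpr hIM
    obtain ⟨q, hq⟩ := exists_ne (0 : M ⧸ Ideal.ofList xs • (⊤ : Submodule R M))
    apply hq
    apply hcon.2
    show r • q = r • (0 : M ⧸ Ideal.ofList xs • (⊤ : Submodule R M))
    rw [smul_zero]
    obtain ⟨m, rfl⟩ := Submodule.Quotient.mk_surjective _ q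
    rw [← Submodule.Quotient.mk_smul, Submodule.Quotient.mk_eq_zero]
    exact Submodule.smul_mem_smul hr Submodule.mem_top

end Groth.Agent.H9.DRG
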