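import Mathlib
import Groth.Agent.S0591
import Groth.Agent.Lib.Helper9.Misc.BCI1
import Groth.Agent.Lib.Helper9.Misc.MDP1
import Groth.Agent.Lib.Helper5.NApprox.PropC
import Groth.Agent.Lib.Helper5.Lim.DescendIso
import Groth.Agent.Lib.Lead.QC.CartierCompl

/-!
# Descending a finitely presented proper morphism which is an isomorphism over the interior
-/

set_option autoImplicit false

namespace Groth.Agent.H9.DSC

open CategoryTheory Limits AlgebraicGeometry Opposite Groth.Agent.H5.NApprox Groth.Agent.H9.BCI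

universe u

theorem isAffineHom_interior_ι {T : Scheme.{u}} (K : T.IdealSheafData)
    (hK : BlowUp.IsEffCartierIdeal K) : IsAffineHom (ModPair.interior K).ι :=
  Groth.Agent.LD.QC.isAffineHom_compl_of_locPrincipal K (fun x _ ↦ by
    obtain ⟨U, hxU, a, -, ha⟩ := hK x
    exact ⟨U, hxU, a, ha⟩)

theorem exists_stage_model {I : Type u} [SmallCategory I] [IsCofiltered I]
    (D : I ⥤ Scheme.{u}) (c : Cone D) (hc : IsLimit c)
    [∀ (i j : I) (t : i ⟶ j), IsAffineHom (D.map t)]
    [∀ i, CompactSpace (D.obj i)] [∀ i, QuasiSeparatedSpace (D.obj i)]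
    (J : ∀ i, (D.obj i).IdealSheafData) (hJ : ∀ i, BlowUp.IsEffCartierIdeal (J i))
    (hmin : ∀ (i j : I) (t : i ⟶ j), ModPair.IsMinimal (J i) (J j) (D.map t))
    (IX : c.pt.IdealSheafData) (hIX : ∀ i, IX = (J i).comap (c.π.app i))
    {P : Scheme.{u}} (p : P ⟶ c.pt) [LocallyOfFinitePresentation p] [IsProper p]
    (hiso : IsIso (p ∣_ ModPair.interior IX)) :
    ∃ (k : I) (Pk : Scheme.{u}) (pk : Pk ⟶ D.obj k) (a : P ⟶ Pk),
      IsPullback a p pk (c.π.app k) ∧ LocallyOfFinitePresentation pk ∧ IsProper pk ∧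
        IsIso (pk ∣_ ModPair.interior (J k)) := by
  obtain ⟨i₀, P₀, p₀, g, hfp, hqc, hqs, hpb⟩ := Groth.Agent.S0591.result D c hc P p
  haveI := hfp
  haveI := hqc
  haveI := hqs
  -- properness at a stage
  have hprop : IsProper (pullback.snd p₀ (c.π.app i₀)) := by
    have h : pullback.snd p₀ (c.π.app i₀) = hpb.isoPullback.inv ≫ p := by
      rw [Iso.eq_inv_comp]
      exact hpb.isoPullback_hom_snd
    rw [h]
    infer_instance
  obtain ⟨j, φ, hj⟩ := exists_isProper_stage D c hc i₀ p₀ hprop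
  -- the isomorphism over the interior at a stage
  haveI : IsAffineHom (ModPair.interior (J i₀)).ι := isAffineHom_interior_ι (J i₀) (hJ i₀)
  haveI : CompactSpace ((ModPair.interior (J i₀) : (D.obj i₀).Opens) : Scheme.{u}) :=
    QuasiCompact.compactSpace_of_compactSpace (ModPair.interior (J i₀)).ι
  have hΦ : (@LocallyOfFinitePresentation ⊓ (@QuasiCompact ⊓ @QuasiSeparated) :
      MorphismProperty Scheme.{u}) (pullback.snd p₀ (ModPair.interior (J i₀)).ι) :=
    ⟨inferInstance, inferInstance, inferInstance⟩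
  have hX0 : ModPair.interior IX = c.π.app i₀ ⁻¹ᵁ ModPair.interior (J i₀) := by
    rw [hIX i₀]
    exact MDP.interior_comap _ _
  have h1 : IsIso (pullback.snd p₀ ((ModPair.interior IX).ι ≫ c.π.app i₀)) :=
    (isIso_morphismRestrict_iff_of_isPullback hpb _).mp hiso
  have hP₁ : MorphismProperty.isomorphisms Scheme.{u}
      (pullback.snd (pullback.snd p₀ (ModPair.interior (J i₀)).ι)
        (pullback.fst (ModPair.interior (J i₀)).ι (c.π.app i₀))) := by
    show IsIso _
    rw [isIso_snd_iff_of_isPullback (IsPullback.of_hasPullback p₀ (ModPair.interior (J i₀)).ι)]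
    have hr : Set.range (pullback.snd (ModPair.interior (J i₀)).ι (c.π.app i₀)) ⊆
        Set.range (ModPair.interior IX).ι := by
      rw [Scheme.Pullback.range_snd, Scheme.Opens.range_ι, Scheme.Opens.range_ι, hX0]
      rfl
    have e : pullback.fst (ModPair.interior (J i₀)).ι (c.π.app i₀) ≫ (ModPair.interior (J i₀)).ι =
        IsOpenImmersion.lift (ModPair.interior IX).ι
          (pullback.snd (ModPair.interior (J i₀)).ι (c.π.app i₀)) hr ≫
          (ModPair.interior IX).ι ≫ c.π.app i₀ := by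
      rw [pullback.condition, ← Category.assoc, IsOpenImmersion.lift_fac]
    rw [e]
    exact isIso_snd_comp_of_snd p₀ _ _ h1
  obtain ⟨k, hk⟩ := Groth.Agent.H5.Lim.exists_descend_core D c hc
    Groth.Agent.H5.Lim.affineSystemDescent_isomorphisms i₀
    (pullback.snd p₀ (ModPair.interior (J i₀)).ι) (ModPair.interior (J i₀)).ι hΦ hP₁
  have hk' : IsIso (pullback.snd p₀
      (pullback.snd (ModPair.interior (J i₀)).ι (D.map k.hom) ≫ D.map k.hom)) := by
    have h := (isIso_snd_iff_of_isPullback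
      (IsPullback.of_hasPullback p₀ (ModPair.interior (J i₀)).ι)
      (pullback.fst (ModPair.interior (J i₀)).ι (D.map k.hom))).mp hk
    rwa [pullback.condition] at h
  -- a common later stage
  obtain ⟨l, a', b, hab⟩ := IsCofiltered.cospan φ k.hom
  have hmap : D.map (a' ≫ φ) = D.map b ≫ D.map k.hom := by rw [hab, D.map_comp]
  have hcond : g ≫ p₀ = (p ≫ c.π.app l) ≫ D.map (a' ≫ φ) := by
    rw [Category.assoc, c.w (a' ≫ φ)]
    exact hpb.w
  refine ⟨l, pullback p₀ (D.map (a' ≫ φ)), pullback.snd p₀ (D.map (a' ≫ φ)),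
    pullback.lift g (p ≫ c.π.app l) hcond, ?_, inferInstance, ?_, ?_⟩
  · refine IsPullback.of_right ?_ (pullback.lift_snd _ _ _)
      (IsPullback.of_hasPullback p₀ (D.map (a' ≫ φ)))
    rw [pullback.lift_fst, c.w (a' ≫ φ)]
    exact hpb
  · rw [D.map_comp]
    exact isProper_snd_comp_of_snd p₀ (D.map φ) (D.map a') hj
  · rw [isIso_morphismRestrict_iff_of_isPullback (IsPullback.of_hasPullback p₀ (D.map (a' ≫ φ)))]
    have hint : ModPair.interior (J l) = D.map (a' ≫ φ) ⁻¹ᵁ ModPair.interior (J i₀) := by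
      rw [hmin l i₀ (a' ≫ φ)]
      exact MDP.interior_comap _ _
    have hr : Set.range ((ModPair.interior (J l)).ι ≫ D.map b) ⊆
        Set.range (pullback.snd (ModPair.interior (J i₀)).ι (D.map k.hom)) := by
      rw [Scheme.Pullback.range_snd, Scheme.Opens.range_ι]
      rintro _ ⟨x, rfl⟩
      have hx : (ModPair.interior (J l)).ι x ∈ D.map (a' ≫ φ) ⁻¹ᵁ ModPair.interior (J i₀) := by
        rw [← hint]
        exact x.2
      rw [Set.mem_preimage, ← Scheme.Hom.comp_apply, Category.assoc, ← hmap,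
        Scheme.Hom.comp_apply]
      exact hx
    have e : (ModPair.interior (J l)).ι ≫ D.map (a' ≫ φ) =
        IsOpenImmersion.lift (pullback.snd (ModPair.interior (J i₀)).ι (D.map k.hom))
          ((ModPair.interior (J l)).ι ≫ D.map b) hr ≫
          pullback.snd (ModPair.interior (J i₀)).ι (D.map k.hom) ≫ D.map k.hom := by
      rw [← Category.assoc, IsOpenImmersion.lift_fac, Category.assoc, hmap]
    rw [e]
    exact isIso_snd_comp_of_snd p₀ _ _ hk'

end Groth.Agent.H9.DSC
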