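import Mathlib
import Groth.Agent.Lib.Helper9.Misc.MDP1

/-! Helper9: S18736 — the ambient fibre product with a minimal leg. -/

set_option linter.style.haveILetI false
set_option linter.unusedSectionVars false
set_option linter.unusedVariables false

universe u
open CategoryTheory Limits AlgebraicGeometry TopologicalSpace Opposite

namespace Groth.Agent.H9.MDP

variable {X Y Z W P S T : Scheme.{u}}

theorem prodInterior_eq_fst (IS : S.IdealSheafData) (IT : T.IdealSheafData)
    (IX : X.IdealSheafData) (p : X ⟶ S) (hp : ModPair.IsAmbient IX IS p) (f : T ⟶ S)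
    (hf : ModPair.IsMinimal IT IS f) :
    ModPair.prodInterior p f IX IT = pullback.fst p f ⁻¹ᵁ ModPair.interior IX := by
  unfold ModPair.prodInterior
  refine inf_eq_left.mpr ?_
  have h1 : ModPair.interior IT = f ⁻¹ᵁ ModPair.interior IS := by
    rw [hf, interior_comap]
  rw [h1, ← Scheme.Hom.comp_preimage, ← pullback.condition, Scheme.Hom.comp_preimage]
  exact (Scheme.Hom.preimage_mono _ (interior_le_of_isAmbient hp))

theorem S18736_main (IS : S.IdealSheafData)
    (IT : T.IdealSheafData) (IX : X.IdealSheafData) (hS : BlowUp.IsEffCartierIdeal IS)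
    (hT : BlowUp.IsEffCartierIdeal IT) (hX : BlowUp.IsEffCartierIdeal IX)
    (p : X ⟶ S) (hp : ModPair.IsAmbient IX IS p) (f : T ⟶ S) (hf : ModPair.IsMinimal IT IS f) :
    BlowUp.IsEffCartierIdeal (IX.comap (ModPair.mprodι p f IX IT ≫ pullback.fst p f)) ∧
      ModPair.IsAmbient (IX.comap (ModPair.mprodι p f IX IT ≫ pullback.fst p f)) IT
        (ModPair.mprodι p f IX IT ≫ pullback.snd p f) ∧
      ∀ (W : Scheme.{u}) (IW : W.IdealSheafData), BlowUp.IsEffCartierIdeal IW →
        ∀ (a : W ⟶ T) (b : W ⟶ X), ModPair.IsAmbient IW IT a → ModPair.IsAmbient IW IX b →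
          a ≫ f = b ≫ p →
          ∃! c : W ⟶ ModPair.mprod p f IX IT,
            c ≫ ModPair.mprodι p f IX IT ≫ pullback.snd p f = a ∧
              c ≫ ModPair.mprodι p f IX IT ≫ pullback.fst p f = b ∧
              ModPair.IsAmbient IW (IX.comap (ModPair.mprodι p f IX IT ≫ pullback.fst p f)) c := by
  haveI haff := isAffineHom_prodInterior p f IX IT hX hT
  have hP := prodInterior_eq_fst IS IT IX p hp f hf
  have hpre : (ModPair.mprodι p f IX IT ≫ pullback.fst p f) ⁻¹ᵁ ModPair.interior IX =
      ModPair.mprodι p f IX IT ⁻¹ᵁ ModPair.prodInterior p f IX IT := by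
    rw [hP, Scheme.Hom.comp_preimage]
  refine ⟨?_, ?_, ?_⟩
  · haveI : IsSchemeTheoreticallyDominant
        ((ModPair.mprodι p f IX IT ≫ pullback.fst p f) ⁻¹ᵁ IX.support.compl).ι := by
      change IsSchemeTheoreticallyDominant
        ((ModPair.mprodι p f IX IT ≫ pullback.fst p f) ⁻¹ᵁ ModPair.interior IX).ι
      rw [hpre]
      exact dominant_preimage_image _
    exact Groth.Agent.LD.QC.isEffCartierIdeal_comap_of_dense IX hX _
  · have hf' : IT = IS.comap f := hf
    have e0 : ∀ (Y' : Scheme.{u}) (r : Y' ⟶ T), IT.comap r = (IS.comap f).comap r :=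
      fun _ r => by rw [← hf']
    have e : IT.comap (ModPair.mprodι p f IX IT ≫ pullback.snd p f) =
        (IS.comap p).comap (ModPair.mprodι p f IX IT ≫ pullback.fst p f) := by
      rw [e0, ← Scheme.IdealSheafData.comap_comp, ← Scheme.IdealSheafData.comap_comp,
        Category.assoc, Category.assoc, pullback.condition]
    have hp' : IX ≤ IS.comap p := hp
    change IX.comap _ ≤ IT.comap _
    rw [e]
    exact Scheme.IdealSheafData.comap_mono _ hp'
  · intro W IW hW a b ha hb hab
    let l : W ⟶ pullback p f := pullback.lift b a hab.symm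
    haveI : IsSchemeTheoreticallyDominant (ModPair.interior IW).ι :=
      Groth.Agent.LD.QC.isSchemeTheoreticallyDominant_compl_of_effCartier IW hW
    have hle : ModPair.interior IW ≤ l ⁻¹ᵁ ModPair.prodInterior p f IX IT := by
      rw [hP, ← Scheme.Hom.comp_preimage, pullback.lift_fst]
      exact interior_le_of_isAmbient hb
    have hker : (ModPair.mprodι p f IX IT).ker ≤ l.ker := by
      rw [Scheme.IdealSheafData.ker_subschemeι]
      exact ker_le_of_dense _ l (ModPair.interior IW) hle
    let c : W ⟶ ModPair.mprod p f IX IT := IsClosedImmersion.lift (ModPair.mprodι p f IX IT) l hker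
    have hc : c ≫ ModPair.mprodι p f IX IT = l := IsClosedImmersion.lift_fac _ _ _
    refine ⟨c, ⟨?_, ?_, ?_⟩, ?_⟩
    · rw [reassoc_of% hc, pullback.lift_snd]
    · rw [reassoc_of% hc, pullback.lift_fst]
    · change IW ≤ _
      rw [← Scheme.IdealSheafData.comap_comp, reassoc_of% hc, pullback.lift_fst]
      exact hb
    · rintro c' ⟨h1, h2, -⟩
      rw [← cancel_mono (ModPair.mprodι p f IX IT), hc]
      apply pullback.hom_ext
      · rw [Category.assoc, h2, pullback.lift_fst]
      · rw [Category.assoc, h1, pullback.lift_snd]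

end Groth.Agent.H9.MDP
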