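import Mathlib
import Groth.Agent.Lib.Helper9.Misc.MDP1
import Groth.Agent.Lib.Lead.QC.BlowUpMul

/-! Helper9: S18749 — the modulus of an ambient product. -/

set_option linter.style.haveILetI false
set_option linter.unusedSectionVars false
set_option linter.unusedVariables false

universe u
open CategoryTheory Limits AlgebraicGeometry TopologicalSpace Opposite

namespace Groth.Agent.H9.MDP

variable {X Y Z W P S T : Scheme.{u}}

/-- cancellation of an effective Cartier ideal. -/
theorem le_of_mul_le_mul_effCartier {I J E : X.IdealSheafData} (hE : BlowUp.IsEffCartierIdeal E)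
    (h : I * E ≤ J * E) : I ≤ J := by
  choose U hxU e he hEU using hE
  refine Scheme.IdealSheafData.le_of_iSup_eq_top U ?_ ?_
  · exact top_le_iff.mp (fun x _ => by simpa using ⟨x, hxU x⟩)
  · intro x s hs
    have h1 : s * e x ∈ (I * E).ideal (U x) := by
      change s * e x ∈ I.ideal (U x) * E.ideal (U x)
      exact Ideal.mul_mem_mul hs (hEU x ▸ Ideal.mem_span_singleton_self (e x))
    have h2 : s * e x ∈ J.ideal (U x) * E.ideal (U x) := h (U x) h1
    rw [hEU x] at h2
    obtain ⟨j, hj, hje⟩ := Ideal.mem_mul_span_singleton.mp h2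
    have : j = s := (mul_cancel_right_mem_nonZeroDivisors (he x)).mp hje
    exact this ▸ hj

/-- an open containing a schematically dense open is schematically dense. -/
theorem dominant_of_le {A B : X.Opens} (h : A ≤ B) [IsSchemeTheoreticallyDominant A.ι] :
    IsSchemeTheoreticallyDominant B.ι := by
  haveI : IsSchemeTheoreticallyDominant (X.homOfLE h ≫ B.ι) := by
    rw [X.homOfLE_ι]; infer_instance
  exact isSchemeTheoreticallyDominant_of_comp (X.homOfLE h) B.ι

theorem isEffCartier_comap_fst_mprod (f : X ⟶ S) (g : T ⟶ S) (I : X.IdealSheafData)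
    (J : T.IdealSheafData) (hI : BlowUp.IsEffCartierIdeal I) (hJ : BlowUp.IsEffCartierIdeal J) :
    BlowUp.IsEffCartierIdeal (I.comap (ModPair.mprodι f g I J ≫ pullback.fst f g)) := by
  haveI := isAffineHom_prodInterior f g I J hI hJ
  haveI := dominant_preimage_image (ModPair.prodInterior f g I J)
  have hle : ModPair.mprodι f g I J ⁻¹ᵁ ModPair.prodInterior f g I J ≤
      (ModPair.mprodι f g I J ≫ pullback.fst f g) ⁻¹ᵁ I.support.compl := by
    rw [Scheme.Hom.comp_preimage]
    exact Scheme.Hom.preimage_mono _ inf_le_left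
  haveI := dominant_of_le hle
  exact Groth.Agent.LD.QC.isEffCartierIdeal_comap_of_dense I hI _

theorem isEffCartier_comap_snd_mprod (f : X ⟶ S) (g : T ⟶ S) (I : X.IdealSheafData)
    (J : T.IdealSheafData) (hI : BlowUp.IsEffCartierIdeal I) (hJ : BlowUp.IsEffCartierIdeal J) :
    BlowUp.IsEffCartierIdeal (J.comap (ModPair.mprodι f g I J ≫ pullback.snd f g)) := by
  haveI := isAffineHom_prodInterior f g I J hI hJ
  haveI := dominant_preimage_image (ModPair.prodInterior f g I J)
  have hle : ModPair.mprodι f g I J ⁻¹ᵁ ModPair.prodInterior f g I J ≤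
      (ModPair.mprodι f g I J ≫ pullback.snd f g) ⁻¹ᵁ J.support.compl := by
    rw [Scheme.Hom.comp_preimage]
    exact Scheme.Hom.preimage_mono _ inf_le_right
  haveI := dominant_of_le hle
  exact Groth.Agent.LD.QC.isEffCartierIdeal_comap_of_dense J hJ _

theorem S18749_main (IS : S.IdealSheafData)
    (J : T.IdealSheafData) (I : X.IdealSheafData) (hS : BlowUp.IsEffCartierIdeal IS)
    (hT : BlowUp.IsEffCartierIdeal J) (hX : BlowUp.IsEffCartierIdeal I)
    (f : X ⟶ S) (hf : ModPair.IsAmbient I IS f) (g : T ⟶ S) (hg : ModPair.IsAmbient J IS g)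
    (π : Y ⟶ ModPair.mprod f g I J) (K : Y.IdealSheafData) (hY : ModPair.IsAmbProd f g I J π K) :
    BlowUp.IsEffCartierIdeal K ∧
      ModPair.IsAmbient K I (π ≫ ModPair.mprodι f g I J ≫ pullback.fst f g) ∧
      ModPair.IsAmbient K J (π ≫ ModPair.mprodι f g I J ≫ pullback.snd f g) ∧
      ModPair.interior K = (π ≫ ModPair.mprodι f g I J) ⁻¹ᵁ ModPair.prodInterior f g I J := by
  obtain ⟨hπ, hK⟩ := hY
  set A := (I.comap (ModPair.mprodι f g I J ≫ pullback.fst f g)).comap π with hA
  set B := (J.comap (ModPair.mprodι f g I J ≫ pullback.snd f g)).comap π with hB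
  have hE : (ModPair.prodCentre f g I J).comap π = A ⊔ B := by
    unfold ModPair.prodCentre
    rw [Scheme.IdealSheafData.comap_sup]
  rw [hE] at hK
  have hEc : BlowUp.IsEffCartierIdeal (A ⊔ B) := hE ▸ hπ.1
  have hAc : BlowUp.IsEffCartierIdeal A :=
    Groth.Agent.LD.QC.IsBlowUp.isEffCartierIdeal_comap hπ _
      (isEffCartier_comap_fst_mprod f g I J hX hT)
  have hBc : BlowUp.IsEffCartierIdeal B :=
    Groth.Agent.LD.QC.IsBlowUp.isEffCartierIdeal_comap hπ _
      (isEffCartier_comap_snd_mprod f g I J hX hT)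
  have hKA : K ≤ A := by
    refine le_of_mul_le_mul_effCartier hEc ?_
    rw [hK, Scheme.IdealSheafData.mul_inf]
    exact le_sup_right
  have hKB : K ≤ B := by
    refine le_of_mul_le_mul_effCartier hEc ?_
    rw [hK, mul_comm A B, Scheme.IdealSheafData.mul_inf]
    exact le_sup_left
  refine ⟨?_, ?_, ?_, ?_⟩
  · refine Groth.Agent.LD.QC.isEffCartierIdeal_of_mul_left K (A ⊔ B) ?_
    rw [hK]
    exact Groth.Agent.LD.QC.isEffCartierIdeal_mul A B hAc hBc
  · change K ≤ _
    rw [Scheme.IdealSheafData.comap_comp]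
    exact hKA
  · change K ≤ _
    rw [Scheme.IdealSheafData.comap_comp]
    exact hKB
  · have hsupp : K.support = A.support ⊔ B.support := by
      apply le_antisymm
      · have h1 : K.support ≤ (K * (A ⊔ B)).support := by
          rw [Scheme.IdealSheafData.support_mul]; exact le_sup_left
        rw [hK, Scheme.IdealSheafData.support_mul] at h1
        exact h1
      · exact sup_le (Scheme.IdealSheafData.support_antitone hKA)
          (Scheme.IdealSheafData.support_antitone hKB)
    have hAi : ModPair.interior A = (π ≫ ModPair.mprodι f g I J) ⁻¹ᵁ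
        (pullback.fst f g ⁻¹ᵁ ModPair.interior I) := by
      rw [hA, interior_comap, interior_comap, Scheme.Hom.comp_preimage, Scheme.Hom.comp_preimage]
    have hBi : ModPair.interior B = (π ≫ ModPair.mprodι f g I J) ⁻¹ᵁ
        (pullback.snd f g ⁻¹ᵁ ModPair.interior J) := by
      rw [hB, interior_comap, interior_comap, Scheme.Hom.comp_preimage, Scheme.Hom.comp_preimage]
    unfold ModPair.prodInterior
    rw [Scheme.Hom.preimage_inf, ← hAi, ← hBi]
    ext y
    change y ∉ K.support ↔ (y ∉ A.support ∧ y ∉ B.support)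
    rw [hsupp]
    change ¬ (y ∈ A.support ∨ y ∈ B.support) ↔ _
    tauto

end Groth.Agent.H9.MDP
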