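import Mathlib
import Groth.Agent.S18744
import Groth.Agent.Lib.Helper9.Misc.DSC1
import Groth.Agent.Lib.Helper9.Misc.CLS3
import Groth.Agent.Lib.Helper9.Misc.MDP3
import Groth.Agent.Lib.Helper9.Misc.MDP8

/-!
# Descending an abstract admissible blow-up of a limit of modulus pairs
-/

set_option autoImplicit false

namespace Groth.Agent.H9.DSC

open CategoryTheory Limits AlgebraicGeometry Opposite Groth.Agent.H9.MDP

universe u

/-- two maps to `P` which are isomorphisms over `V ⊆ X` have the same kernel over `V`. -/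
lemma ker_ι_comp_eq {A P X : Scheme.{u}} (a : A ⟶ P) (p : P ⟶ X) (V : X.Opens)
    (h1 : IsIso (p ∣_ V)) (h2 : IsIso ((a ≫ p) ∣_ V)) (O : A.Opens) (hO : O = (a ≫ p) ⁻¹ᵁ V) :
    (O.ι ≫ a).ker = (p ⁻¹ᵁ V).ι.ker := by
  subst hO
  have hcomp : (a ≫ p) ∣_ V = a ∣_ p ⁻¹ᵁ V ≫ p ∣_ V := morphismRestrict_comp a p V
  haveI : IsIso (a ∣_ p ⁻¹ᵁ V ≫ p ∣_ V) := hcomp ▸ h2
  haveI : IsIso (a ∣_ p ⁻¹ᵁ V) := IsIso.of_isIso_comp_right (a ∣_ p ⁻¹ᵁ V) (p ∣_ V)
  have e : (a ⁻¹ᵁ (p ⁻¹ᵁ V)).ι ≫ a = a ∣_ p ⁻¹ᵁ V ≫ (p ⁻¹ᵁ V).ι := (morphismRestrict_ι a _).symm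
  show ((a ⁻¹ᵁ (p ⁻¹ᵁ V)).ι ≫ a).ker = _
  rw [e, Scheme.Hom.ker_comp_of_isIso]

/-- two closed subschemes of `P` with mutually contained kernels are isomorphic over `P`. -/
lemma exists_iso_of_ker_le {Y M P : Scheme.{u}} (j : Y ⟶ P) [IsClosedImmersion j] (m : M ⟶ P)
    [IsClosedImmersion m] (h1 : m.ker ≤ j.ker) (h2 : j.ker ≤ m.ker) :
    ∃ e : Y ≅ M, e.hom ≫ m = j := by
  refine ⟨⟨IsClosedImmersion.lift m j h1, IsClosedImmersion.lift j m h2, ?_, ?_⟩, ?_⟩
  · rw [← cancel_mono j, Category.assoc, IsClosedImmersion.lift_fac, IsClosedImmersion.lift_fac,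
      Category.id_comp]
  · rw [← cancel_mono m, Category.assoc, IsClosedImmersion.lift_fac, IsClosedImmersion.lift_fac,
      Category.id_comp]
  · exact IsClosedImmersion.lift_fac _ _ _

theorem main {I : Type u}
    [SmallCategory I] [IsCofiltered I] (D : I ⥤ Scheme.{u}) (c : Cone D) (hc : IsLimit c)
    [∀ (i j : I) (t : i ⟶ j), IsAffineHom (D.map t)]
    [∀ i, CompactSpace (D.obj i)] [∀ i, QuasiSeparatedSpace (D.obj i)]
    (J : ∀ i, (D.obj i).IdealSheafData) (hJ : ∀ i, BlowUp.IsEffCartierIdeal (J i))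
    (hmin : ∀ (i j : I) (t : i ⟶ j), ModPair.IsMinimal (J i) (J j) (D.map t))
    (IX : c.pt.IdealSheafData) (hIX : ∀ i, IX = (J i).comap (c.π.app i))
    {Y : Scheme.{u}} (s : Y ⟶ c.pt) (hY : BlowUp.IsEffCartierIdeal (IX.comap s))
    (hs : ModPair.IsAdmBlowup (IX.comap s) IX s) :
    ∃ (i : I) (Yi : Scheme.{u}) (IYi : Yi.IdealSheafData) (si : Yi ⟶ D.obj i),
      BlowUp.IsEffCartierIdeal IYi ∧ ModPair.IsAdmBlowup IYi (J i) si ∧
        ∃ e : Y ≅ ModPair.mprod (c.π.app i) si IX IYi,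
          e.hom ≫ ModPair.mprodι (c.π.app i) si IX IYi ≫ pullback.fst (c.π.app i) si = s := by
  haveI hAff2 : ∀ {i j : I} (t : i ⟶ j), IsAffineHom (D.map t) := fun t ↦ inferInstance
  obtain ⟨i₁⟩ := IsCofiltered.nonempty (C := I)
  have hIXeff : BlowUp.IsEffCartierIdeal IX := by
    rw [hIX i₁]
    exact Groth.Agent.S18744.result D c hc J hJ hmin i₁
  haveI : CompactSpace c.pt := Scheme.compactSpace_of_isLimit D c hc
  haveI : IsAffineHom (c.π.app i₁) := isAffineHom_π_app D c hc i₁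
  haveI : QuasiSeparatedSpace c.pt := quasiSeparatedSpace_of_quasiSeparated (c.π.app i₁)
  haveI : IsProper s := hs.2.1
  haveI : CompactSpace Y := QuasiCompact.compactSpace_of_compactSpace s
  haveI : QuasiSeparatedSpace Y := quasiSeparatedSpace_of_quasiSeparated s
  -- step 1: a finitely presented proper model over the limit
  obtain ⟨Λ, iΛ, cΛ, DΛ, cnΛ, hcΛ, eΛ, JΛ, h1, h2, h3, h4, h5, h6, h7, h8, h9, h10⟩ :=
    Groth.Agent.H9.CLS.main (IX.comap s) IX hY hIXeff s (le_refl _)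
  obtain ⟨lam⟩ := IsCofiltered.nonempty (C := Λ)
  haveI : IsClosedImmersion (cnΛ.π.app lam).left := h3 lam
  haveI : IsIso eΛ.inv.left := (Over.forget c.pt).map_isIso eΛ.inv
  let p : (DΛ.obj lam).left ⟶ c.pt := (DΛ.obj lam).hom
  let j : Y ⟶ (DΛ.obj lam).left := eΛ.inv.left ≫ (cnΛ.π.app lam).left
  have hjp : j ≫ p = s := by
    show (eΛ.inv.left ≫ (cnΛ.π.app lam).left) ≫ (DΛ.obj lam).hom = s
    rw [Category.assoc, Over.w (cnΛ.π.app lam)]
    exact Over.w eΛ.inv
  haveI : LocallyOfFinitePresentation p := (h1 lam).1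
  haveI : IsProper p := h9 hs.2.1 lam
  have hpiso : IsIso (p ∣_ ModPair.interior IX) := h10 rfl hs.2.2 lam
  -- step 2: descend the model
  obtain ⟨k, Pk, pk, a, hpb, hpkfp, hpkprop, hpkiso⟩ :=
    exists_stage_model D c hc J hJ hmin IX hIX p hpiso
  -- step 3: the closure of the interior at the stage
  let Uk : Pk.Opens := pk ⁻¹ᵁ ModPair.interior (J k)
  haveI : IsAffineHom Uk.ι := Groth.Agent.LD.QC.isAffineHom_preimage_compl (J k) (hJ k) pk
  let ιk : Uk.ι.image ⟶ Pk := Uk.ι.imageι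
  let sk : Uk.ι.image ⟶ D.obj k := ιk ≫ pk
  have hIYk : BlowUp.IsEffCartierIdeal ((J k).comap sk) := by
    haveI : IsSchemeTheoreticallyDominant (sk ⁻¹ᵁ (J k).support.compl).ι :=
      dominant_preimage_image Uk
    exact Groth.Agent.LD.QC.isEffCartierIdeal_comap_of_dense (J k) (hJ k) sk
  have hskiso : IsIso (sk ∣_ ModPair.interior (J k)) := by
    have hcomp : sk ∣_ ModPair.interior (J k) =
        ιk ∣_ pk ⁻¹ᵁ ModPair.interior (J k) ≫ pk ∣_ ModPair.interior (J k) :=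
      morphismRestrict_comp ιk pk _
    rw [hcomp]
    exact @IsIso.comp_isIso _ _ _ _ _ _ _ (isIso_imageι_restrict Uk) hpkiso
  have hadm : ModPair.IsAdmBlowup ((J k).comap sk) (J k) sk :=
    ⟨rfl, inferInstanceAs (IsProper (ιk ≫ pk)), hskiso⟩
  refine ⟨k, Uk.ι.image, (J k).comap sk, sk, hIYk, hadm, ?_⟩
  -- step 4: identify `Y` with the ambient product
  have hX0 : ModPair.interior IX = c.π.app k ⁻¹ᵁ ModPair.interior (J k) := by
    rw [hIX k]
    exact interior_comap _ _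
  have hW : ModPair.prodInterior (c.π.app k) sk IX ((J k).comap sk) =
      pullback.fst (c.π.app k) sk ⁻¹ᵁ ModPair.interior IX :=
    prodInterior_eq_fst (J k) ((J k).comap sk) IX (c.π.app k) (le_of_eq (hIX k)) sk rfl
  haveI : IsAffineHom (ModPair.prodInterior (c.π.app k) sk IX ((J k).comap sk)).ι :=
    isAffineHom_prodInterior (c.π.app k) sk IX ((J k).comap sk) hIXeff hIYk
  have hcond : (pullback.snd (c.π.app k) sk ≫ ιk) ≫ pk = pullback.fst (c.π.app k) sk ≫ c.π.app k := by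
    rw [Category.assoc]
    exact pullback.condition.symm
  let qP : pullback (c.π.app k) sk ⟶ (DΛ.obj lam).left :=
    hpb.lift (pullback.snd (c.π.app k) sk ≫ ιk) (pullback.fst (c.π.app k) sk) hcond
  have hqa : qP ≫ a = pullback.snd (c.π.app k) sk ≫ ιk := hpb.lift_fst _ _ _
  have hqp : qP ≫ p = pullback.fst (c.π.app k) sk := hpb.lift_snd _ _ _
  haveI : IsClosedImmersion qP := by
    have big : IsPullback (pullback.snd (c.π.app k) sk) (qP ≫ p) (ιk ≫ pk) (c.π.app k) := by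
      rw [hqp]
      exact (IsPullback.of_hasPullback (c.π.app k) sk).flip
    have top : IsPullback (pullback.snd (c.π.app k) sk) qP ιk a :=
      IsPullback.of_bot big hqa.symm hpb
    exact MorphismProperty.of_isPullback (P := @IsClosedImmersion) top
      (inferInstanceAs (IsClosedImmersion Uk.ι.imageι))
  -- kernels
  haveI : IsSchemeTheoreticallyDominant (ModPair.interior (IX.comap s)).ι :=
    Groth.Agent.LD.QC.isSchemeTheoreticallyDominant_compl_of_effCartier (IX.comap s) hY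
  have hk1 : j.ker = (p ⁻¹ᵁ ModPair.interior IX).ι.ker := by
    rw [← ker_comp_of_dominant (ModPair.interior (IX.comap s)).ι j]
    refine ker_ι_comp_eq j p (ModPair.interior IX) hpiso (by rw [hjp]; exact hs.2.2) _ ?_
    rw [hjp]
    exact interior_comap _ _
  have hpr1 : IsIso (pullback.fst (c.π.app k) sk ∣_ ModPair.interior IX) := by
    haveI := hskiso
    exact isIso_restrict_of_isPullback (IsPullback.of_hasPullback (c.π.app k) sk).flip
      (ModPair.interior IX) (ModPair.interior (J k)) (le_of_eq hX0)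
  haveI := isSchemeTheoreticallyDominant_toImage
    (ModPair.prodInterior (c.π.app k) sk IX ((J k).comap sk)).ι
  have hk2 : (ModPair.mprodι (c.π.app k) sk IX ((J k).comap sk) ≫ qP).ker =
      (p ⁻¹ᵁ ModPair.interior IX).ι.ker := by
    rw [← ker_comp_of_dominant
      (ModPair.prodInterior (c.π.app k) sk IX ((J k).comap sk)).ι.toImage
      (ModPair.mprodι (c.π.app k) sk IX ((J k).comap sk) ≫ qP),
      Scheme.Hom.toImage_imageι_assoc]
    refine ker_ι_comp_eq qP p (ModPair.interior IX) hpiso (by rw [hqp]; exact hpr1) _ ?_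
    rw [hqp]
    exact hW
  obtain ⟨e, he⟩ := exists_iso_of_ker_le j
    (ModPair.mprodι (c.π.app k) sk IX ((J k).comap sk) ≫ qP) (by rw [hk1, hk2]) (by rw [hk1, hk2])
  refine ⟨e, ?_⟩
  rw [← hqp, ← Category.assoc, ← Category.assoc, Category.assoc e.hom, he, hjp]

end Groth.Agent.H9.DSC
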