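import Mathlib
import Groth.Agent.Lib.Helper9.MT.BaseChange

/-!
# Base change of the dual (convolution) algebra of a finite projective coalgebra (helper9)
-/

set_option autoImplicit false
set_option linter.unusedSectionVars false
set_option linter.unusedVariables false

namespace Groth.Agent.H9.DUA

open TensorProduct WithConv Coalgebra

universe u

section Lin

variable (R : Type u) [CommRing R] (T : Type u) [CommRing T] [Algebra R T]
  (A : Type u) [AddCommGroup A] [Module R A]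

/-- `T ⊗ Hom_R(A,R) → Hom_T(T ⊗ A, T)`, `t ⊗ φ ↦ t • φ_T`. -/
noncomputable def PhiL : T ⊗[R] (A →ₗ[R] R) →ₗ[T] (T ⊗[R] A →ₗ[T] T) :=
  LinearMap.liftBaseChange T (Module.Dual.baseChange T : (A →ₗ[R] R) →ₗ[R] (T ⊗[R] A →ₗ[T] T))

theorem PhiL_tmul_tmul (t : T) (φ : A →ₗ[R] R) (s : T) (a : A) :
    PhiL R T A (t ⊗ₜ[R] φ) (s ⊗ₜ[R] a) = t * (φ a • s) := by
  show (t • Module.Dual.baseChange T φ) (s ⊗ₜ[R] a) = _
  rw [LinearMap.smul_apply, Module.Dual.baseChange_apply_tmul, smul_eq_mul]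

theorem PhiL_bijective [Module.Finite R A] [Module.Projective R A] :
    Function.Bijective (PhiL R T A) := by
  let e1 : T ⊗[R] (A →ₗ[R] R) ≃ₗ[R] (A →ₗ[R] T ⊗[R] R) := lTensorHomEquivHomLTensor R A T R
  let e2 : (A →ₗ[R] T ⊗[R] R) ≃ₗ[R] (A →ₗ[R] T) := LinearEquiv.congrRight (TensorProduct.rid R T)
  let e3 : (A →ₗ[R] T) ≃ₗ[T] (T ⊗[R] A →ₗ[T] T) := LinearMap.liftBaseChangeEquiv T
  have h : ∀ x, PhiL R T A x = e3 (e2 (e1 x)) := by
    intro x
    induction x using TensorProduct.induction_on with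
    | zero => simp
    | tmul t φ =>
      apply TensorProduct.AlgebraTensorModule.ext
      intro s a
      rw [PhiL_tmul_tmul]
      show _ = s • (e2 (e1 (t ⊗ₜ[R] φ)) a)
      have h1 : e1 (t ⊗ₜ[R] φ) a = t ⊗ₜ[R] φ a := by
        show lTensorHomEquivHomLTensor R A T R (t ⊗ₜ[R] φ) a = _
        rw [lTensorHomEquivHomLTensor_apply, lTensorHomToHomLTensor_apply]
      have h2 : e2 (e1 (t ⊗ₜ[R] φ)) a = TensorProduct.rid R T (e1 (t ⊗ₜ[R] φ) a) := rfl
      rw [h2, h1, TensorProduct.rid_tmul, smul_eq_mul, Algebra.smul_def, Algebra.smul_def]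
      ring
    | add x y hx hy => rw [map_add, hx, hy, map_add, map_add, map_add]
  constructor
  · intro x y hxy
    rw [h, h] at hxy
    exact e1.injective (e2.injective (e3.injective hxy))
  · intro y
    refine ⟨e1.symm (e2.symm (e3.symm y)), ?_⟩
    rw [h, LinearEquiv.apply_symm_apply, LinearEquiv.apply_symm_apply,
      LinearEquiv.apply_symm_apply]

end Lin

section Alg

variable (R : Type u) [CommRing R] (T : Type u) [CommRing T] [Algebra R T]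
  (A : Type u) [CommRing A] [Bialgebra R A]

/-- The linear map `T ⊗ D(A) → D_T(T ⊗ A)`. -/
noncomputable def PhiW : T ⊗[R] WithConv (A →ₗ[R] R) →ₗ[T] WithConv (T ⊗[R] A →ₗ[T] T) :=
  (WithConv.linearEquiv T (T ⊗[R] A →ₗ[T] T)).symm.toLinearMap ∘ₗ PhiL R T A ∘ₗ
    (TensorProduct.AlgebraTensorModule.congr (LinearEquiv.refl T T)
      (WithConv.linearEquiv R (A →ₗ[R] R))).toLinearMap

theorem PhiW_tmul (t : T) (φ : WithConv (A →ₗ[R] R)) :
    (PhiW R T A (t ⊗ₜ[R] φ)).ofConv = PhiL R T A (t ⊗ₜ[R] φ.ofConv) := rfl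

theorem PhiW_tmul_tmul (t : T) (φ : WithConv (A →ₗ[R] R)) (s : T) (a : A) :
    (PhiW R T A (t ⊗ₜ[R] φ)).ofConv (s ⊗ₜ[R] a) = t * (φ.ofConv a • s) := by
  rw [PhiW_tmul, PhiL_tmul_tmul]

theorem PhiW_bijective [Module.Finite R A] [Module.Projective R A] :
    Function.Bijective (PhiW R T A) := by
  have h1 := PhiL_bijective R T A
  have h2 := (TensorProduct.AlgebraTensorModule.congr (LinearEquiv.refl T T)
      (WithConv.linearEquiv R (A →ₗ[R] R))).bijective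
  have h3 := (WithConv.linearEquiv T (T ⊗[R] A →ₗ[T] T)).symm.bijective
  exact h3.comp (h1.comp h2)

theorem PhiW_mul (t₁ t₂ : T) (φ₁ φ₂ : WithConv (A →ₗ[R] R)) :
    PhiW R T A ((t₁ * t₂) ⊗ₜ[R] (φ₁ * φ₂)) =
      PhiW R T A (t₁ ⊗ₜ[R] φ₁) * PhiW R T A (t₂ ⊗ₜ[R] φ₂) := by
  apply WithConv.ofConv_injective
  apply TensorProduct.AlgebraTensorModule.ext
  intro s a
  rw [PhiW_tmul_tmul]
  have hr := (MT.reprBC s (ℛ R a)).convMul_apply (PhiW R T A (t₁ ⊗ₜ[R] φ₁))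
    (PhiW R T A (t₂ ⊗ₜ[R] φ₂))
  have hr' : (PhiW R T A (t₁ ⊗ₜ[R] φ₁) * PhiW R T A (t₂ ⊗ₜ[R] φ₂)).ofConv (s ⊗ₜ[R] a) =
      ∑ i ∈ (ℛ R a).index, (PhiW R T A (t₁ ⊗ₜ[R] φ₁)).ofConv (s ⊗ₜ[R] (ℛ R a).left i) *
        (PhiW R T A (t₂ ⊗ₜ[R] φ₂)).ofConv ((1 : T) ⊗ₜ[R] (ℛ R a).right i) := hr
  rw [hr']
  have hl : (φ₁ * φ₂).ofConv a =
      ∑ i ∈ (ℛ R a).index, φ₁.ofConv ((ℛ R a).left i) * φ₂.ofConv ((ℛ R a).right i) :=
    (ℛ R a).convMul_apply φ₁ φ₂
  rw [hl, Finset.sum_smul, Finset.mul_sum]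
  refine Finset.sum_congr rfl fun i _ => ?_
  rw [PhiW_tmul_tmul, PhiW_tmul_tmul, Algebra.smul_def, Algebra.smul_def, Algebra.smul_def,
    map_mul]
  ring

theorem PhiW_one : PhiW R T A ((1 : T) ⊗ₜ[R] (1 : WithConv (A →ₗ[R] R))) = 1 := by
  apply WithConv.ofConv_injective
  apply TensorProduct.AlgebraTensorModule.ext
  intro s a
  rw [PhiW_tmul_tmul]
  show _ = algebraMap T T (Coalgebra.counit (R := T) (s ⊗ₜ[R] a))
  rw [TensorProduct.counit_tmul, CommSemiring.counit_apply, Algebra.algebraMap_self_apply, one_mul]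
  rfl

variable [Module.Finite R A] [Module.Projective R A]

/-- The base change of the dual algebra is the dual algebra of the base change. -/
noncomputable def dualBC : T ⊗[R] WithConv (A →ₗ[R] R) ≃ₐ[T] WithConv (T ⊗[R] A →ₗ[T] T) :=
  Algebra.TensorProduct.algEquivOfLinearEquivTensorProduct
    (LinearEquiv.ofBijective (PhiW R T A) (PhiW_bijective R T A))
    (fun t₁ t₂ φ₁ φ₂ => PhiW_mul R T A t₁ t₂ φ₁ φ₂) (PhiW_one R T A)

theorem dualBC_tmul_tmul (t : T) (φ : WithConv (A →ₗ[R] R)) (s : T) (a : A) :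
    (dualBC R T A (t ⊗ₜ[R] φ)).ofConv (s ⊗ₜ[R] a) = t * (φ.ofConv a • s) :=
  PhiW_tmul_tmul R T A t φ s a

end Alg

end Groth.Agent.H9.DUA
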