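import Mathlib
import Groth.Prelude.Def_SGA3b
import Groth.Agent.Lib.Helper9.DualAlg
import Groth.Agent.Lib.Helper9.MultT.DiagSub

/-!
# From a split dual algebra to a diagonalisable Hopf algebra (helper9)
-/

set_option autoImplicit false
set_option linter.unusedSectionVars false
set_option linter.unusedVariables false

namespace Groth.Agent.H9.DUA

open TensorProduct WithConv Coalgebra SGA3b Groth.Agent.H9.DualAlg Groth.Agent.H9.MultT

universe u

section Split

variable {K : Type u} [CommRing K] {B : Type u} [CommRing B] [Bialgebra K B]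
  [Module.Finite K B] [Module.Projective K B]

/-- If the dual algebra of `B` is split, `B` has a basis of group-like elements. -/
theorem exists_groupLike_basis {m : ℕ} (e : WithConv (B →ₗ[K] K) ≃ₐ[K] (Fin m → K)) :
    ∃ b : Module.Basis (Fin m) K B, ∀ i, IsGroupLikeElem K (b i) := by
  classical
  -- the characters
  let χ : Fin m → (WithConv (B →ₗ[K] K) →ₗ[K] K) := fun i =>
    (LinearMap.proj i : (Fin m → K) →ₗ[K] K) ∘ₗ e.toLinearMap
  have hχ : ∀ i φ, χ i φ = e φ i := fun i φ => rfl
  have hrep : ∀ i, ∃ x : B, ∀ φ : WithConv (B →ₗ[K] K), χ i φ = φ.ofConv x := fun i =>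
    exists_repr (B := K) (E := B) (χ i)
  choose g hg using hrep
  -- the dual idempotents
  let δ : Fin m → WithConv (B →ₗ[K] K) := fun j => e.symm (Pi.single j 1)
  have hδ : ∀ i j, (δ j).ofConv (g i) = if i = j then 1 else 0 := by
    intro i j
    rw [← hg i (δ j), hχ]
    show e (e.symm (Pi.single j 1)) i = _
    rw [AlgEquiv.apply_symm_apply, Pi.single_apply]
  have hexp : ∀ φ : WithConv (B →ₗ[K] K), φ = ∑ j, χ j φ • δ j := by
    intro φ
    apply e.injective
    rw [map_sum]
    funext i
    rw [Finset.sum_apply]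
    have : ∀ j, (e (χ j φ • δ j)) i = if i = j then e φ i else 0 := by
      intro j
      rw [map_smul, Pi.smul_apply]
      show χ j φ • (e (e.symm (Pi.single j 1))) i = _
      rw [AlgEquiv.apply_symm_apply, Pi.single_apply, hχ]
      split_ifs with h
      · rw [h, smul_eq_mul, mul_one]
      · rw [smul_zero]
    simp only [this]
    rw [Finset.sum_ite_eq Finset.univ i (fun _ => e φ i)]
    simp
  have hx : ∀ x : B, x = ∑ j, (δ j).ofConv x • g j := by
    intro x
    apply eq_of_forall_apply_eq (B := K)
    intro ψ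
    have h1 := hexp (toConv ψ)
    have h2 : ψ x = (∑ j, χ j (toConv ψ) • δ j).ofConv x := by
      rw [← h1]
    rw [h2, map_sum, WithConv.ofConv_sum, LinearMap.sum_apply]
    refine Finset.sum_congr rfl fun j _ => ?_
    rw [WithConv.ofConv_smul, LinearMap.smul_apply, map_smul, hg j (toConv ψ), smul_eq_mul,
      smul_eq_mul, mul_comm]
  -- the basis
  let f : B →ₗ[K] (Fin m → K) := LinearMap.pi fun j => (δ j).ofConv
  let f' : (Fin m → K) →ₗ[K] B := Fintype.linearCombination K g
  have h1 : f ∘ₗ f' = LinearMap.id := by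
    apply LinearMap.ext
    intro c
    funext j
    show (δ j).ofConv (Fintype.linearCombination K g c) = c j
    rw [Fintype.linearCombination_apply, map_sum]
    have : ∀ i, (δ j).ofConv (c i • g i) = if i = j then c i else 0 := by
      intro i
      rw [map_smul, hδ]
      split_ifs <;> simp
    simp only [this]
    rw [Finset.sum_ite_eq' Finset.univ j c]
    simp
  have h2 : f' ∘ₗ f = LinearMap.id := by
    apply LinearMap.ext
    intro x
    show Fintype.linearCombination K g (fun j => (δ j).ofConv x) = x
    rw [Fintype.linearCombination_apply]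
    exact (hx x).symm
  let E : B ≃ₗ[K] (Fin m → K) := LinearEquiv.ofLinearMap f f' h1 h2
  let b : Module.Basis (Fin m) K B := Module.Basis.ofEquivFun E
  have hb : ∀ i, b i = g i := by
    intro i
    have h0 : b i = E.symm (Pi.single i 1) := by
      show (Module.Basis.ofEquivFun E : Fin m → B) i = _
      rw [Module.Basis.coe_ofEquivFun]
    rw [h0]
    show Fintype.linearCombination K g (Pi.single i 1) = g i
    rw [Fintype.linearCombination_apply]
    have : ∀ j, (Pi.single i (1 : K) : Fin m → K) j • g j = if j = i then g i else 0 := by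
      intro j
      rw [Pi.single_apply]
      split_ifs with h
      · rw [h, one_smul]
      · rw [zero_smul]
    simp only [this]
    rw [Finset.sum_ite_eq' Finset.univ i (fun _ => g i)]
    simp
  refine ⟨b, fun i => ?_⟩
  rw [hb]
  have hmul : ∀ φ ψ : WithConv (B →ₗ[K] K), χ i (φ * ψ) = χ i φ * χ i ψ := by
    intro φ ψ
    rw [hχ, hχ, hχ, map_mul, Pi.mul_apply]
  have hone : χ i 1 = 1 := by
    rw [hχ, map_one, Pi.one_apply]
  refine ⟨?_, ?_⟩
  · have := hg i 1
    rw [hone, one_apply] at this
    exact this.symm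
  · rw [← sub_eq_zero]
    apply eq_zero_of_pairB
    intro φ ψ
    rw [map_sub, sub_eq_zero, pairB_tmul]
    have h3 := convMul_apply_pairB (toConv φ) (toConv ψ) (g i)
    rw [← hg i, hmul, hg i, hg i] at h3
    exact h3.symm

end Split

section Coord

variable {K : Type u} [CommRing K] {B : Type u} [CommRing B] [Bialgebra K B]
  {m : ℕ} (b : Module.Basis (Fin m) K B) (hb : ∀ i, IsGroupLikeElem K (b i))

include hb in
theorem sum_repr_groupLike {x : B} (hx : IsGroupLikeElem K x) : ∑ k, b.repr x k = 1 := by
  have h1 := hx.counit_eq_one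
  rw [← b.sum_repr x, map_sum] at h1
  rw [← h1]
  refine Finset.sum_congr rfl fun k _ => ?_
  rw [map_smul, (hb k).counit_eq_one, smul_eq_mul, mul_one]

include hb in
theorem repr_mul_repr_groupLike {x : B} (hx : IsGroupLikeElem K x) (k l : Fin m) :
    b.repr x k * b.repr x l = if k = l then b.repr x k else 0 := by
  classical
  have h1 := hx.comul_eq_tmul_self
  have h2 : (b.tensorProduct b).repr (CoalgebraStruct.comul (R := K) x) (k, l) =
      (b.tensorProduct b).repr (x ⊗ₜ[K] x) (k, l) := by rw [h1]
  rw [Module.Basis.tensorProduct_repr_tmul_apply, smul_eq_mul] at h2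
  rw [mul_comm, ← h2]
  conv_lhs => rw [← b.sum_repr x]
  rw [map_sum, map_sum, Finsupp.finsetSum_apply]
  have : ∀ j, (b.tensorProduct b).repr (CoalgebraStruct.comul (R := K) (b.repr x j • b j)) (k, l) =
      if j = k then (if k = l then b.repr x k else 0) else 0 := by
    intro j
    rw [map_smul, (hb j).comul_eq_tmul_self, map_smul, Finsupp.smul_apply,
      Module.Basis.tensorProduct_repr_tmul_apply, Module.Basis.repr_self_apply,
      Module.Basis.repr_self_apply]
    by_cases hjk : j = k
    · subst hjk
      by_cases hjl : j = l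
      · subst hjl
        simp
      · simp [hjl]
    · simp [hjk]
  simp only [this]
  rw [Finset.sum_ite_eq' Finset.univ k]
  simp

include hb in
theorem isIdempotentElem_repr_groupLike {x : B} (hx : IsGroupLikeElem K x) (k : Fin m) :
    IsIdempotentElem (b.repr x k) := by
  have := repr_mul_repr_groupLike b hb hx k k
  rwa [if_pos rfl] at this

end Coord

section Atom

variable {T : Type u} [CommRing T] [Nontrivial T]

/-- An atom of the Boolean algebra generated by finitely many idempotents. -/
theorem exists_atom (s : Finset T) (hs : ∀ c ∈ s, IsIdempotentElem c) :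
    ∃ ε : T, IsIdempotentElem ε ∧ ε ≠ 0 ∧ ∀ c ∈ s, ε * c = 0 ∨ ε * c = ε := by
  classical
  induction s using Finset.induction_on with
  | empty => exact ⟨1, IsIdempotentElem.one, one_ne_zero, fun c hc => absurd hc (Finset.notMem_empty c)⟩
  | insert c s hcs ih =>
    obtain ⟨ε, hε, hε0, hεs⟩ := ih fun d hd => hs d (Finset.mem_insert_of_mem hd)
    have hc : IsIdempotentElem c := hs c (Finset.mem_insert_self c s)
    by_cases h0 : ε * c = 0
    · refine ⟨ε, hε, hε0, fun d hd => ?_⟩
      rcases Finset.mem_insert.1 hd with rfl | hd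
      · exact Or.inl h0
      · exact hεs d hd
    · refine ⟨ε * c, hε.mul hc, h0, fun d hd => ?_⟩
      rcases Finset.mem_insert.1 hd with rfl | hd
      · right
        rw [mul_assoc, hc.eq]
      · rcases hεs d hd with h | h
        · left
          rw [mul_right_comm, h, zero_mul]
        · right
          rw [mul_right_comm, h]

end Atom

section Cut

variable {K : Type u} [CommRing K] {B : Type u} [CommRing B] [HopfAlgebra K B]
  {m : ℕ} (b : Module.Basis (Fin m) K B) (hb : ∀ i, IsGroupLikeElem K (b i))
  (K' : Type u) [CommRing K'] [Algebra K K'] [Nontrivial K']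

include hb in
/-- A group-like element whose coordinates become `0` or `1` becomes a basis element. -/
theorem exists_eq_basis {x : B} (hx : IsGroupLikeElem K x)
    (h01 : ∀ k, algebraMap K K' (b.repr x k) = 0 ∨ algebraMap K K' (b.repr x k) = 1) :
    ∃ k, (1 : K') ⊗ₜ[K] x = (1 : K') ⊗ₜ[K] b k := by
  classical
  have hsum : ∑ k, algebraMap K K' (b.repr x k) = 1 := by
    rw [← map_sum, sum_repr_groupLike b hb hx, map_one]
  have hex : ∃ k, algebraMap K K' (b.repr x k) = 1 := by
    by_contra hne
    push Not at hne
    have : ∑ k, algebraMap K K' (b.repr x k) = 0 :=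
      Finset.sum_eq_zero fun k _ => (h01 k).resolve_right (hne k)
    rw [hsum] at this
    exact one_ne_zero this
  obtain ⟨k, hk⟩ := hex
  refine ⟨k, ?_⟩
  have hl : ∀ l, l ≠ k → algebraMap K K' (b.repr x l) = 0 := by
    intro l hlk
    have h1 := repr_mul_repr_groupLike b hb hx k l
    rw [if_neg (Ne.symm hlk)] at h1
    have h2 := congrArg (algebraMap K K') h1
    rw [map_mul, hk, one_mul, map_zero] at h2
    exact h2
  conv_lhs => rw [← b.sum_repr x]
  rw [TensorProduct.tmul_sum]
  rw [Finset.sum_eq_single k]
  · rw [TensorProduct.tmul_smul, TensorProduct.smul_tmul', Algebra.smul_def, mul_one, hk]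
  · intro l _ hlk
    rw [TensorProduct.tmul_smul, TensorProduct.smul_tmul', Algebra.smul_def, mul_one, hl l hlk,
      TensorProduct.zero_tmul]
  · intro h
    exact absurd (Finset.mem_univ k) h

include hb in
/-- If the relevant structure constants become `0` or `1`, the base change is diagonalisable. -/
theorem isDiag_of_cut
    (hmul : ∀ i j k, algebraMap K K' (b.repr (b i * b j) k) = 0 ∨
      algebraMap K K' (b.repr (b i * b j) k) = 1)
    (hone : ∀ k, algebraMap K K' (b.repr 1 k) = 0 ∨ algebraMap K K' (b.repr 1 k) = 1)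
    (hinv : ∀ i k, algebraMap K K' (b.repr (HopfAlgebra.antipode K (b i)) k) = 0 ∨
      algebraMap K K' (b.repr (HopfAlgebra.antipode K (b i)) k) = 1) :
    IsDiag K' (K' ⊗[K] B) := by
  classical
  let b' : Module.Basis (Fin m) K' (K' ⊗[K] B) := b.baseChange K'
  have hb'a : ∀ i, b' i = (1 : K') ⊗ₜ[K] b i := fun i => Module.Basis.baseChange_apply K' b i
  have hb' : ∀ i, IsGroupLikeElem K' (b' i) := fun i => by
    rw [hb'a]
    exact isGroupLikeElem_one_tmul K' (hb i)
  have hinj : Function.Injective b' := b'.injective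
  -- the subgroup of basis elements
  let S : Subgroup (GroupLike K' (K' ⊗[K] B)) :=
    { carrier := {y | ∃ i, y.val = b' i}
      one_mem' := by
        obtain ⟨k, hk⟩ := exists_eq_basis b hb K' (IsGroupLikeElem.one (R := K)) hone
        refine ⟨k, ?_⟩
        rw [hb'a, ← hk]
        rfl
      mul_mem' := by
        rintro y y' ⟨i, hi⟩ ⟨j, hj⟩
        obtain ⟨k, hk⟩ := exists_eq_basis b hb K' ((hb i).mul (hb j)) (hmul i j)
        refine ⟨k, ?_⟩
        rw [hb'a, ← hk, GroupLike.val_mul, hi, hj, hb'a, hb'a, Algebra.TensorProduct.tmul_mul_tmul,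
          mul_one]
      inv_mem' := by
        rintro y ⟨i, hi⟩
        obtain ⟨k, hk⟩ := exists_eq_basis b hb K' (hb i).antipode (hinv i)
        refine ⟨k, ?_⟩
        have h1 : y * ⟨b' k, hb' k⟩ = 1 := by
          apply GroupLike.val_injective
          show y.val * b' k = 1
          rw [hi, hb'a, hb'a, ← hk,
            Algebra.TensorProduct.tmul_mul_tmul, mul_one, (hb i).mul_antipode_cancel]
          rfl
        rw [inv_eq_of_mul_eq_one_right h1] }
  let γ : S →* K' ⊗[K] B := (GroupLike.valMonoidHom (R := K') (A := K' ⊗[K] B)).comp S.subtype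
  have hγ : ∀ q, IsGroupLikeElem K' (γ q) := fun q => q.1.isGroupLikeElem_val
  have hγinj : Function.Injective γ := fun q q' h =>
    Subtype.ext (GroupLike.val_injective h)
  let qq : Fin m → S := fun i => ⟨⟨b' i, hb' i⟩, ⟨i, rfl⟩⟩
  have hqq : ∀ i, γ (qq i) = b' i := fun i => rfl
  have hmem : ∀ q : S, ∃ i, γ q = b' i := fun q => q.2
  let F : MonoidAlgebra K' S →ₐc[K'] K' ⊗[K] B := liftBialg γ hγ
  let G : K' ⊗[K] B →ₗ[K'] MonoidAlgebra K' S :=
    b'.constr K' fun i => MonoidAlgebra.single (qq i) (1 : K')
  have hGb : ∀ i, G (b' i) = MonoidAlgebra.single (qq i) (1 : K') := fun i =>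
    b'.constr_basis K' _ i
  have hGF : ∀ x, G (F x) = x := by
    intro x
    induction x using MonoidAlgebra.induction_linear with
    | zero => rw [map_zero, map_zero]
    | add x y hx hy => rw [map_add, map_add, hx, hy]
    | single q r =>
      obtain ⟨i, hi⟩ := hmem q
      have hq : qq i = q := hγinj ((hqq i).trans hi.symm)
      show G (liftBialg γ hγ (MonoidAlgebra.single q r)) = _
      rw [liftBialg_single, map_smul, hi, hGb, hq, MonoidAlgebra.smul_single, smul_eq_mul, mul_one]
  have hFG : ∀ y, F (G y) = y := by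
    intro y
    have : (F : MonoidAlgebra K' S →ₐ[K'] K' ⊗[K] B).toLinearMap ∘ₗ G = LinearMap.id := by
      apply b'.ext
      intro i
      show F (G (b' i)) = b' i
      rw [hGb]
      show liftBialg γ hγ (MonoidAlgebra.single (qq i) 1) = _
      rw [liftBialg_single, one_smul, hqq]
    exact LinearMap.congr_fun this y
  have hbij : Function.Bijective F :=
    ⟨Function.LeftInverse.injective hGF, Function.RightInverse.surjective hFG⟩
  exact ⟨S, inferInstance, ⟨(BialgEquiv.ofBijective F hbij).symm⟩⟩

end Cut

end Groth.Agent.H9.DUA
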