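import Mathlib
import Groth.Prelude.Def_SGA3b
import Groth.Prelude.Def_CartDual
import Groth.Agent.Lib.Helper9.Misc.DUA1
import Groth.Agent.Lib.Helper9.Misc.DUA2

/-!
# A finite commutative group scheme over a connected base is isotrivial iff its Cartier dual is
étale (helper9)
-/

set_option autoImplicit false
set_option linter.unusedSectionVars false
set_option linter.unusedVariables false

namespace Groth.Agent.H9.DUA

open TensorProduct WithConv Coalgebra SGA3b Groth.Agent.H9.DualAlg Groth.Agent.H9.MultT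

universe u

section DualDiag

variable {K : Type u} [CommRing K] {B : Type u} [CommRing B] [Bialgebra K B]
  {M : Type u} [CommGroup M]

/-- The dual algebra of a diagonalisable bialgebra is the algebra of functions on the group. -/
noncomputable def dualDiag (E : B ≃ₐc[K] MonoidAlgebra K M) :
    WithConv (B →ₗ[K] K) ≃ₐ[K] (M → K) := by
  let bB : Module.Basis M K B := (MonoidAlgebra.basis M K).map E.symm.toLinearEquiv
  have hbB : ∀ m, IsGroupLikeElem K (bB m) := by
    intro m
    have h1 : bB m = E.symm (MonoidAlgebra.single m 1) := by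
      show E.symm.toLinearEquiv (MonoidAlgebra.basis M K m) = _
      rw [MonoidAlgebra.basis_apply]
      rfl
    rw [h1]
    exact (MonoidAlgebra.isGroupLikeElem_single_one m).map E.symm
  let L : WithConv (B →ₗ[K] K) ≃ₗ[K] (M → K) :=
    (WithConv.linearEquiv K (B →ₗ[K] K)).trans (bB.constr K).symm
  have hL : ∀ (φ : WithConv (B →ₗ[K] K)) (m : M), L φ m = φ.ofConv (bB m) := fun φ m => rfl
  refine AlgEquiv.ofLinearEquiv L ?_ ?_
  · funext m
    rw [hL, one_apply, (hbB m).counit_eq_one, Pi.one_apply]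
  · intro φ ψ
    funext m
    rw [hL, Pi.mul_apply, hL, hL, convMul_apply_pairB, (hbB m).comul_eq_tmul_self, pairB_tmul]

end DualDiag

section Y

variable (R : Type u) [CommRing R] (A : Type u) [CommRing A] [HopfAlgebra R A]
  [Coalgebra.IsCocomm R A] [Module.Finite R A] [Module.Projective R A]

/-- If `A` becomes diagonalisable after a faithfully flat base change, its dual algebra is
étale. -/
theorem etale_dual_of_isDiag (T : Type u) [CommRing T] [Algebra R T] [Module.FaithfullyFlat R T]
    (hD : IsDiag T (T ⊗[R] A)) : Algebra.Etale R (WithConv (A →ₗ[R] R)) := by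
  obtain ⟨M, _, ⟨E⟩⟩ := hD
  have hsplit : Algebra.IsFiniteSplit T (WithConv (T ⊗[R] A →ₗ[T] T)) := by
    rcases subsingleton_or_nontrivial T with hT | hT
    · exact Algebra.IsFiniteSplit.of_subsingleton
    · haveI : Module.Finite T (MonoidAlgebra T M) :=
        Module.Finite.equiv (E : T ⊗[R] A ≃ₐc[T] MonoidAlgebra T M).toLinearEquiv
      haveI : Finite M := Module.Finite.finite_basis (MonoidAlgebra.basis M T)
      exact Algebra.IsFiniteSplit.of_algEquiv (dualDiag E).symm
  haveI : Algebra.Etale T (WithConv (T ⊗[R] A →ₗ[T] T)) := inferInstance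
  haveI : Algebra.Etale T (T ⊗[R] WithConv (A →ₗ[R] R)) :=
    Algebra.Etale.of_equiv (dualBC R T A).symm
  exact Algebra.Etale.of_etale_tensorProduct_of_faithfullyFlat T

theorem etale_dual_of_isIsotrivial (h : IsIsotrivial R A) :
    Algebra.Etale R (WithConv (A →ₗ[R] R)) := by
  obtain ⟨T, _, _, _, _, hff, hD⟩ := h
  exact etale_dual_of_isDiag R A T hD

end Y

section X

variable (R : Type u) [CommRing R] [ConnectedSpace (PrimeSpectrum R)]
  (A : Type u) [CommRing A] [HopfAlgebra R A]
  [Coalgebra.IsCocomm R A] [Module.Finite R A] [Module.Projective R A]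

theorem isIsotrivial_of_etale_dual [Algebra.Etale R (WithConv (A →ₗ[R] R))] :
    IsIsotrivial R A := by
  classical
  have hntR : Nontrivial R := PrimeSpectrum.nonempty_iff_nontrivial.1 inferInstance
  haveI : Module.Finite R (WithConv (A →ₗ[R] R)) := CartDual.instModuleFinite R A
  haveI : Module.Projective R (WithConv (A →ₗ[R] R)) := CartDual.instModuleProjective R A
  haveI : Module.FinitePresentation R (WithConv (A →ₗ[R] R)) :=
    Module.finitePresentation_of_projective R _
  -- constant rank
  have hlc := Module.isLocallyConstant_rankAtStalk (R := R) (M := WithConv (A →ₗ[R] R))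
  obtain ⟨n, hn⟩ : ∃ n : ℕ, Module.rankAtStalk (R := R) (WithConv (A →ₗ[R] R)) = n := by
    obtain ⟨n, hn⟩ := hlc.exists_eq_const
    refine ⟨n, ?_⟩
    funext p
    rw [hn]
    simp
  obtain ⟨T, _, _, hTff, hTfin, hTet, hsplit⟩ :=
    Algebra.IsFiniteSplit.exists_tensorProduct_of_etale hn
  obtain ⟨⟨m, ⟨e₁⟩⟩⟩ := hsplit
  have hntT : Nontrivial T := (FaithfulSMul.algebraMap_injective R T).nontrivial
  let e : WithConv (T ⊗[R] A →ₗ[T] T) ≃ₐ[T] (Fin m → T) := (dualBC R T A).symm.trans e₁
  obtain ⟨b, hb⟩ := exists_groupLike_basis e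
  -- the structure constants
  let s : Finset T :=
    ((Finset.univ.image fun p : Fin m × Fin m × Fin m => b.repr (b p.1 * b p.2.1) p.2.2) ∪
      (Finset.univ.image fun k : Fin m => b.repr 1 k)) ∪
      (Finset.univ.image fun p : Fin m × Fin m =>
        b.repr (HopfAlgebra.antipode T (b p.1)) p.2)
  have hs : ∀ c ∈ s, IsIdempotentElem c := by
    intro c hc
    simp only [s, Finset.mem_union, Finset.mem_image, Finset.mem_univ, true_and] at hc
    rcases hc with (⟨p, rfl⟩ | ⟨k, rfl⟩) | ⟨p, rfl⟩
    · exact isIdempotentElem_repr_groupLike b hb ((hb _).mul (hb _)) _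
    · exact isIdempotentElem_repr_groupLike b hb IsGroupLikeElem.one _
    · exact isIdempotentElem_repr_groupLike b hb (hb _).antipode _
  obtain ⟨ε, hε, hε0, hεs⟩ := exists_atom s hs
  -- the cut
  have hε1 : algebraMap T (T ⧸ Ideal.span {1 - ε}) ε = 1 := by
    rw [← sub_eq_zero, ← map_one (algebraMap T (T ⧸ Ideal.span {1 - ε})), ← map_sub]
    show Ideal.Quotient.mk _ (ε - 1) = 0
    rw [Ideal.Quotient.eq_zero_iff_mem]
    have h1 : (1 - ε) ∈ Ideal.span ({1 - ε} : Set T) := Ideal.subset_span (Set.mem_singleton _)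
    have h2 := (Ideal.span ({1 - ε} : Set T)).neg_mem h1
    rwa [neg_sub] at h2
  have hntT' : Nontrivial (T ⧸ Ideal.span {1 - ε}) := by
    apply Ideal.Quotient.nontrivial_iff.2
    intro htop
    have h1 : (1 : T) ∈ Ideal.span {1 - ε} := by rw [htop]; trivial
    obtain ⟨r, hr⟩ := Ideal.mem_span_singleton'.1 h1
    apply hε0
    have : ε = ε * (r * (1 - ε)) := by rw [hr, mul_one]
    rw [this, mul_sub, mul_one, mul_sub, ← mul_assoc ε r ε, mul_comm ε r, mul_assoc r ε ε, hε.eq,
      sub_self]
  have h01 : ∀ c ∈ s, algebraMap T (T ⧸ Ideal.span {1 - ε}) c = 0 ∨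
      algebraMap T (T ⧸ Ideal.span {1 - ε}) c = 1 := by
    intro c hc
    have h1 : algebraMap T (T ⧸ Ideal.span {1 - ε}) c =
        algebraMap T (T ⧸ Ideal.span {1 - ε}) (ε * c) := by rw [map_mul, hε1, one_mul]
    rcases hεs c hc with h | h
    · left
      rw [h1, h, map_zero]
    · right
      rw [h1, h, hε1]
  have hD : IsDiag (T ⧸ Ideal.span {1 - ε}) ((T ⧸ Ideal.span {1 - ε}) ⊗[T] (T ⊗[R] A)) := by
    refine isDiag_of_cut b hb (T ⧸ Ideal.span {1 - ε}) ?_ ?_ ?_
    · intro i j k
      refine h01 _ ?_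
      simp only [s, Finset.mem_union, Finset.mem_image, Finset.mem_univ, true_and]
      exact Or.inl (Or.inl ⟨(i, j, k), rfl⟩)
    · intro k
      refine h01 _ ?_
      simp only [s, Finset.mem_union, Finset.mem_image, Finset.mem_univ, true_and]
      exact Or.inl (Or.inr ⟨k, rfl⟩)
    · intro i k
      refine h01 _ ?_
      simp only [s, Finset.mem_union, Finset.mem_image, Finset.mem_univ, true_and]
      exact Or.inr ⟨(i, k), rfl⟩
  -- the cut is finite étale and faithfully flat over `R`
  haveI : IsLocalization.Away ε (T ⧸ Ideal.span {1 - ε}) :=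
    IsLocalization.Away.quotient_of_isIdempotentElem hε
  haveI : Algebra.Etale T (T ⧸ Ideal.span {1 - ε}) := Algebra.Etale.of_isLocalizationAway ε
  haveI : Algebra.Etale R (T ⧸ Ideal.span {1 - ε}) := Algebra.Etale.comp R T _
  haveI : Module.Finite T (T ⧸ Ideal.span {1 - ε}) :=
    Module.Finite.of_surjective (Algebra.linearMap T (T ⧸ Ideal.span {1 - ε}))
      Ideal.Quotient.mk_surjective
  haveI : Module.Finite R (T ⧸ Ideal.span {1 - ε}) := Module.Finite.trans T _
  haveI : Module.FinitePresentation R (T ⧸ Ideal.span {1 - ε}) :=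
    Module.FinitePresentation.of_finite_of_finitePresentation R _
  haveI : Module.Flat R (T ⧸ Ideal.span {1 - ε}) := inferInstance
  have hlc' := Module.isLocallyConstant_rankAtStalk (R := R) (M := T ⧸ Ideal.span {1 - ε})
  obtain ⟨r, hr⟩ := hlc'.exists_eq_const
  have hr0 : r ≠ 0 := by
    intro h0
    have h1 : Module.rankAtStalk (R := R) (T ⧸ Ideal.span {1 - ε}) = 0 := by
      rw [hr, h0]
      rfl
    rw [Module.rankAtStalk_eq_zero_iff_subsingleton] at h1
    exact not_subsingleton _ h1
  haveI : Module.FaithfullyFlat R (T ⧸ Ideal.span {1 - ε}) := by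
    apply Module.FaithfullyFlat.of_comap_surjective
    rw [← PrimeSpectrum.rankAtStalk_pos_iff_comap_surjective]
    intro p
    rw [hr]
    exact Nat.pos_of_ne_zero hr0
  obtain ⟨M, _, ⟨eM⟩⟩ := hD
  exact ⟨T ⧸ Ideal.span {1 - ε}, inferInstance, inferInstance, inferInstance, inferInstance,
    inferInstance, M, inferInstance,
    ⟨(MT.cancelBC R T (T ⧸ Ideal.span {1 - ε}) A).symm.trans eM⟩⟩

end X

end Groth.Agent.H9.DUA
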