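import Mathlib
import Groth.Agent.Lib.Helper9.MultT.Cover

/-!
# Gluing elements of a module along a covering by faithfully flat algebras over basic opens
-/

set_option autoImplicit false
set_option linter.unusedSectionVars false
set_option linter.unusedVariables false
set_option linter.style.haveILetI false

namespace Groth.Agent.H9.GLL

open TensorProduct Groth.Agent.H9.MultT

universe u

section Basic

variable {R : Type u} [CommRing R]

/-- `T` is a covering chart of `D(f)`: `f` is invertible in `T`, and `T ⊗ -` detects vanishing up to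
powers of `f`. -/
def IsCov (f : R) (T : Type u) [CommRing T] [Algebra R T] : Prop :=
  IsUnit (algebraMap R T f) ∧ ∀ (Q : Type u) [AddCommGroup Q] [Module R Q] (q : Q),
    (1 : T) ⊗ₜ[R] q = 0 → ∃ k : ℕ, f ^ k • q = 0

theorem IsCov.of_isFFOver {f : R} {T : Type u} [CommRing T] [Algebra R T] (hT : IsFFOver f T) :
    IsCov f T := by
  obtain ⟨algf, tower, ff⟩ := hT
  refine ⟨?_, ?_⟩
  · rw [IsScalarTower.algebraMap_apply R (Localization.Away f) T]
    exact (IsLocalization.Away.algebraMap_isUnit f).map _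
  · intro Q _ _ q h
    have h1 : (1 : T) ⊗ₜ[Localization.Away f] ((1 : Localization.Away f) ⊗ₜ[R] q) = 0 := by
      have := congrArg
        (TensorProduct.AlgebraTensorModule.cancelBaseChange R (Localization.Away f) T T Q).symm h
      rw [TensorProduct.AlgebraTensorModule.cancelBaseChange_symm_tmul, map_zero] at this
      exact this
    have h2 : (1 : Localization.Away f) ⊗ₜ[R] q = 0 :=
      (Module.FaithfullyFlat.one_tmul_eq_zero_iff (Localization.Away f) _ _).1 h1
    have h3 := (IsLocalizedModule.eq_zero_iff (Submonoid.powers f)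
      (TensorProduct.mk R (Localization.Away f) Q 1)).mp h2
    obtain ⟨⟨_, k, rfl⟩, hk⟩ := h3
    exact ⟨k, hk⟩

theorem IsCov.isUnit {f : R} {T : Type u} [CommRing T] [Algebra R T] (hT : IsCov f T) :
    IsUnit (algebraMap R T f) := hT.1

theorem smul_pow_cancel {f : R} {T : Type u} [CommRing T] [Algebra R T] (hT : IsCov f T)
    {N : Type u} [AddCommGroup N] [Module R N] (k : ℕ) {y y' : T ⊗[R] N}
    (h : f ^ k • y = f ^ k • y') : y = y' := by
  have hu : IsUnit (algebraMap R T (f ^ k)) := by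
    rw [map_pow]
    exact hT.1.pow k
  rw [← algebraMap_smul T (f ^ k) y, ← algebraMap_smul T (f ^ k) y'] at h
  exact hu.smul_left_cancel.mp h

theorem exists_pow_smul_eq_zero {f : R} {T : Type u} [CommRing T] [Algebra R T]
    (hT : IsCov f T) {Q : Type u} [AddCommGroup Q] [Module R Q] (q : Q)
    (h : (1 : T) ⊗ₜ[R] q = 0) : ∃ k : ℕ, f ^ k • q = 0 := hT.2 Q q h

theorem eq_zero_of_cov_module {s : Set R} (hs : Ideal.span s = ⊤) {N : Type u} [AddCommGroup N]
    [Module R N] (x : N)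
    (h : ∀ f ∈ s, ∃ (T : Type u) (_ : CommRing T) (_ : Algebra R T), IsCov f T ∧
      (1 : T) ⊗ₜ[R] x = 0) : x = 0 := by
  have : x ∈ (⊥ : Submodule R N) := by
    refine Submodule.mem_of_span_eq_top_of_smul_pow_mem ⊥ s hs x ?_
    rintro ⟨f, hf⟩
    obtain ⟨T, _, _, hT, h0⟩ := h f hf
    obtain ⟨k, hk⟩ := hT.2 N x h0
    exact ⟨k, by rw [hk]; exact Submodule.zero_mem _⟩
  simpa using this

theorem eq_zero_of_cov {s : Set R} (hs : Ideal.span s = ⊤) (x : R)
    (h : ∀ f ∈ s, ∃ (T : Type u) (_ : CommRing T) (_ : Algebra R T), IsCov f T ∧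
      algebraMap R T x = 0) : x = 0 := by
  refine eq_zero_of_cov_module hs x fun f hf => ?_
  obtain ⟨T, _, _, hT, h0⟩ := h f hf
  refine ⟨T, inferInstance, inferInstance, hT, ?_⟩
  have h1 : (1 : T) ⊗ₜ[R] x = (algebraMap R T x) ⊗ₜ[R] (1 : R) := by
    rw [Algebra.algebraMap_eq_smul_one, TensorProduct.smul_tmul, smul_eq_mul, mul_one]
  rw [h1, h0, TensorProduct.zero_tmul]

theorem exists_pow_smul_eq_zero₂ {f f' : R} {T T' : Type u} [CommRing T] [Algebra R T]
    [CommRing T'] [Algebra R T'] (hT : IsCov f T) (hT' : IsCov f' T')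
    {Q : Type u} [AddCommGroup Q] [Module R Q] (q : Q)
    (h : (1 : T ⊗[R] T') ⊗ₜ[R] q = 0) : ∃ k : ℕ, (f * f') ^ k • q = 0 := by
  have h1 : (1 : T) ⊗ₜ[R] ((1 : T') ⊗ₜ[R] q) = 0 := by
    have := congrArg (TensorProduct.assoc R T T' Q) h
    rw [Algebra.TensorProduct.one_def, TensorProduct.assoc_tmul, map_zero] at this
    exact this
  obtain ⟨k, hk⟩ := exists_pow_smul_eq_zero hT _ h1
  rw [← TensorProduct.tmul_smul] at hk
  obtain ⟨k', hk'⟩ := exists_pow_smul_eq_zero hT' _ hk
  refine ⟨k + k', ?_⟩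
  have e1 : (f * f') ^ (k + k') = (f ^ k' * f' ^ k) * (f' ^ k' * f ^ k) := by ring
  rw [e1, mul_smul, mul_smul (f' ^ k'), hk', smul_zero]

lemma assoc_right' (T : Type u) [CommRing T] [Algebra R T] (N : Type u) [AddCommGroup N]
    [Module R N] (x : T ⊗[R] N) :
    TensorProduct.assoc R T T N
      (LinearMap.rTensor N (Algebra.TensorProduct.includeRight : T →ₐ[R] T ⊗[R] T).toLinearMap x) =
      TensorProduct.mk R T (T ⊗[R] N) 1 x := by
  induction x using TensorProduct.induction_on with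
  | zero => simp
  | tmul a n => simp
  | add x y hx hy => rw [map_add, map_add, hx, hy, map_add]

lemma assoc_left' (T : Type u) [CommRing T] [Algebra R T] (N : Type u) [AddCommGroup N]
    [Module R N] (x : T ⊗[R] N) :
    TensorProduct.assoc R T T N
      (LinearMap.rTensor N (Algebra.TensorProduct.includeLeft : T →ₐ[R] T ⊗[R] T).toLinearMap x) =
      LinearMap.lTensor T (TensorProduct.mk R T N 1) x := by
  induction x using TensorProduct.induction_on with
  | zero => simp
  | tmul a n => simp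
  | add x y hx hy => rw [map_add, map_add, hx, hy, map_add]

theorem exists_pow_smul_mem_range {f : R} {T : Type u} [CommRing T] [Algebra R T]
    (hT : IsCov f T) {M : Type u} [AddCommGroup M] [Module R M] (x : T ⊗[R] M)
    (hx : LinearMap.rTensor M (Algebra.TensorProduct.includeLeft : T →ₐ[R] T ⊗[R] T).toLinearMap x =
      LinearMap.rTensor M (Algebra.TensorProduct.includeRight : T →ₐ[R] T ⊗[R] T).toLinearMap x) :
    ∃ (k : ℕ) (m : M), f ^ k • x = (1 : T) ⊗ₜ[R] m := by
  have hx' : TensorProduct.mk R T (T ⊗[R] M) 1 x =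
      LinearMap.lTensor T (TensorProduct.mk R T M 1) x := by
    rw [← assoc_right', ← assoc_left', hx]
  set g := TensorProduct.mk R T M 1 with hg
  let π := (LinearMap.range g).mkQ
  have hex : Function.Exact g π := LinearMap.exact_map_mkQ_range g
  have hex' : Function.Exact (LinearMap.lTensor T g) (LinearMap.lTensor T π) :=
    lTensor_exact T hex (Submodule.mkQ_surjective _)
  have h1 : LinearMap.lTensor T π (LinearMap.lTensor T g x) = 0 :=
    hex'.apply_apply_eq_zero x
  rw [← hx'] at h1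
  have h2 : LinearMap.lTensor T π (TensorProduct.mk R T (T ⊗[R] M) 1 x) =
      (1 : T) ⊗ₜ[R] (π x) := by
    simp
  rw [h2] at h1
  obtain ⟨k, hk⟩ := exists_pow_smul_eq_zero hT (π x) h1
  rw [← map_smul] at hk
  obtain ⟨m, hm⟩ := (Submodule.Quotient.mk_eq_zero _).1 hk
  exact ⟨k, m, hm.symm⟩

end Basic

section Glue

variable {R : Type u} [CommRing R] {N : Type u} [AddCommGroup N] [Module R N]
  {ι : Type*} [Fintype ι] (r : ι → R) (hr : Ideal.span (Set.range r) = ⊤)
  (T : ι → Type u) [∀ i, CommRing (T i)] [∀ i, Algebra R (T i)]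
  (hT : ∀ i, IsCov (r i) (T i))

include hr hT in
theorem exists_glue (x : ∀ i, T i ⊗[R] N)
    (hx : ∀ i j,
      LinearMap.rTensor N
          (Algebra.TensorProduct.includeLeft : T i →ₐ[R] T i ⊗[R] T j).toLinearMap (x i) =
        LinearMap.rTensor N
          (Algebra.TensorProduct.includeRight : T j →ₐ[R] T i ⊗[R] T j).toLinearMap (x j)) :
    ∃ n : N, ∀ i, (1 : T i) ⊗ₜ[R] n = x i := by
  classical
  choose k₀ n₀ hk₀ using fun i => exists_pow_smul_mem_range (hT i) (x i) (hx i i)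
  obtain ⟨K, hK⟩ : ∃ K : ℕ, K = ∑ i, k₀ i := ⟨_, rfl⟩
  have hkle : ∀ i, k₀ i ≤ K := fun i => by
    rw [hK]
    exact Finset.single_le_sum (fun _ _ => Nat.zero_le _) (Finset.mem_univ i)
  obtain ⟨a, ha'⟩ : ∃ a : ι → N, ∀ i, a i = r i ^ (K - k₀ i) • n₀ i := ⟨_, fun _ => rfl⟩
  have ha : ∀ i, r i ^ K • x i = (1 : T i) ⊗ₜ[R] a i := by
    intro i
    have e1 : r i ^ K = r i ^ (K - k₀ i) * r i ^ k₀ i := by
      rw [← pow_add, Nat.sub_add_cancel (hkle i)]
    rw [e1, mul_smul, hk₀ i, ← TensorProduct.tmul_smul, ha' i]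
  have hov : ∀ i j, ∃ m : ℕ, (r i * r j) ^ m • (r j ^ K • a i - r i ^ K • a j) = 0 := by
    intro i j
    apply exists_pow_smul_eq_zero₂ (hT i) (hT j)
    have e1 := congrArg (LinearMap.rTensor N
      (Algebra.TensorProduct.includeLeft : T i →ₐ[R] T i ⊗[R] T j).toLinearMap) (ha i)
    have e2 := congrArg (LinearMap.rTensor N
      (Algebra.TensorProduct.includeRight : T j →ₐ[R] T i ⊗[R] T j).toLinearMap) (ha j)
    rw [map_smul, LinearMap.rTensor_tmul, AlgHom.toLinearMap_apply, map_one] at e1 e2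
    rw [TensorProduct.tmul_sub, TensorProduct.tmul_smul, TensorProduct.tmul_smul, ← e1, ← e2,
      hx i j, smul_smul, smul_smul, mul_comm, sub_self]
  choose m₀ hm₀ using hov
  obtain ⟨M₀, hM₀⟩ : ∃ M₀ : ℕ, M₀ = ∑ i, ∑ j, m₀ i j := ⟨_, rfl⟩
  have hmle : ∀ i j, m₀ i j ≤ M₀ := fun i j => by
    rw [hM₀]
    exact (Finset.single_le_sum (f := fun j => m₀ i j) (fun _ _ => Nat.zero_le _)
      (Finset.mem_univ j)).trans
      (Finset.single_le_sum (f := fun i => ∑ j, m₀ i j) (fun _ _ => Nat.zero_le _)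
        (Finset.mem_univ i))
  have hov' : ∀ i j, (r i * r j) ^ M₀ • (r j ^ K • a i - r i ^ K • a j) = 0 := by
    intro i j
    have e1 : (r i * r j) ^ M₀ = (r i * r j) ^ (M₀ - m₀ i j) * (r i * r j) ^ m₀ i j := by
      rw [← pow_add, Nat.sub_add_cancel (hmle i j)]
    rw [e1, mul_smul, hm₀, smul_zero]
  have hcomp : ∀ i j, r j ^ (K + M₀) • (r i ^ M₀ • a i) = r i ^ (K + M₀) • (r j ^ M₀ • a j) := by
    intro i j
    have h := hov' i j
    rw [smul_sub, sub_eq_zero, smul_smul, smul_smul] at h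
    rw [smul_smul, smul_smul]
    have e1 : r j ^ (K + M₀) * r i ^ M₀ = (r i * r j) ^ M₀ * r j ^ K := by ring
    have e2 : r i ^ (K + M₀) * r j ^ M₀ = (r i * r j) ^ M₀ * r i ^ K := by ring
    rw [e1, e2, h]
  have hspan : Ideal.span (Set.range fun i => r i ^ (K + M₀)) = ⊤ := by
    have := Ideal.span_pow_eq_top (Set.range r) hr (K + M₀)
    rwa [← Set.range_comp] at this
  obtain ⟨c, hc⟩ := (Ideal.mem_span_range_iff_exists_fun).mp ((Ideal.eq_top_iff_one _).mp hspan)
  refine ⟨∑ i, c i • (r i ^ M₀ • a i), fun j => ?_⟩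
  have h1 : r j ^ (K + M₀) • ∑ i, c i • (r i ^ M₀ • a i) = r j ^ M₀ • a j := by
    rw [Finset.smul_sum]
    calc ∑ i, r j ^ (K + M₀) • c i • (r i ^ M₀ • a i)
        = ∑ i, (c i * r i ^ (K + M₀)) • (r j ^ M₀ • a j) := by
          refine Finset.sum_congr rfl fun i _ => ?_
          rw [smul_comm, hcomp i j, smul_smul]
      _ = r j ^ M₀ • a j := by rw [← Finset.sum_smul, hc, one_smul]
  apply smul_pow_cancel (hT j) (K + M₀)
  rw [← TensorProduct.tmul_smul, h1, TensorProduct.tmul_smul, ← ha j, smul_smul, ← pow_add,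
    add_comm]

end Glue

section Charts

variable (R : Type u) [CommRing R] (A : Type u) [CommRing A] [HopfAlgebra R A]

/-- `A` is diagonalisable over the members of a covering by charts. -/
def HasCharts : Prop :=
  ∃ s : Set R, Ideal.span s = ⊤ ∧ ∀ f ∈ s, ∃ (T : Type u) (_ : CommRing T) (_ : Algebra R T),
    IsCov f T ∧ SGA3b.IsDiag T (T ⊗[R] A)

variable {R A}

theorem hasCharts_of_isMultType (h : SGA3b.IsMultType R A) : HasCharts R A := by
  obtain ⟨s, hs, hloc⟩ := exists_cover_of_isMultType h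
  refine ⟨s, hs, fun f hf => ?_⟩
  obtain ⟨T, _, _, hT, hd⟩ := hloc f hf
  exact ⟨T, inferInstance, inferInstance, IsCov.of_isFFOver hT, hd⟩

end Charts

end Groth.Agent.H9.GLL
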