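import Mathlib
import Groth.Prelude.Def_SGA3b
import Groth.Agent.Lib.Helper9.Misc.DUA3
import Groth.Agent.Lib.Helper9.Misc.GLL2
import Groth.Agent.Lib.Helper9.MT.Quot

/-!
# A finite group of multiplicative type is locally free, commutative, with étale Cartier dual
(helper9)
-/

set_option autoImplicit false
set_option linter.unusedSectionVars false
set_option linter.unusedVariables false

namespace Groth.Agent.H9.DUA

open TensorProduct WithConv Coalgebra SGA3b Groth.Agent.H9.DualAlg Groth.Agent.H9.MultT

universe u

section FP

/-- Finite presentation of a finite module descends along faithfully flat ring maps. -/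
theorem finitePresentation_of_faithfullyFlat (S : Type u) [CommRing S] (T : Type u) [CommRing T]
    [Algebra S T] [Module.FaithfullyFlat S T] (N : Type u) [AddCommGroup N] [Module S N]
    [Module.Finite S N] (h : Module.FinitePresentation T (T ⊗[S] N)) :
    Module.FinitePresentation S N := by
  obtain ⟨n, f, hf⟩ := Module.Finite.exists_fin' S N
  rw [← Module.FinitePresentation.fg_ker_iff f hf]
  let fT : T ⊗[S] (Fin n → S) →ₗ[T] T ⊗[S] N := TensorProduct.AlgebraTensorModule.lTensor T T f
  have hfT : Function.Surjective fT := LinearMap.lTensor_surjective T hf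
  have h1 : (LinearMap.ker fT).FG := Module.FinitePresentation.fg_ker fT hfT
  have h2 : LinearMap.ker fT = LinearMap.range
      (TensorProduct.AlgebraTensorModule.lTensor T T (LinearMap.ker f).subtype) :=
    Module.Flat.ker_lTensor_eq T T f
  let j : T ⊗[S] (LinearMap.ker f) →ₗ[T] T ⊗[S] (Fin n → S) :=
    TensorProduct.AlgebraTensorModule.lTensor T T (LinearMap.ker f).subtype
  have hj : Function.Injective j :=
    Module.Flat.lTensor_preserves_injective_linearMap (M := T) (LinearMap.ker f).subtype
      (Submodule.injective_subtype _)
  haveI : Module.Finite T (T ⊗[S] LinearMap.ker f) := by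
    have e := LinearEquiv.ofInjective j hj
    haveI : Module.Finite T (LinearMap.range j) := by
      rw [Module.Finite.iff_fg]
      rw [← h2]
      exact h1
    exact Module.Finite.equiv e.symm
  haveI : Module.Finite S (LinearMap.ker f) :=
    Module.Finite.of_finite_tensorProduct_of_faithfullyFlat T
  exact Module.Finite.iff_fg.1 inferInstance

end FP

section EtGlue

variable (R : Type u) [CommRing R] (D : Type u) [CommRing D] [Algebra R D]

attribute [local instance] Algebra.TensorProduct.rightAlgebra in
/-- Étaleness is local on the base. -/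
theorem etale_of_span {s : Set R} (hs : Ideal.span s = ⊤)
    (h : ∀ f ∈ s, Algebra.Etale (Localization.Away f) (Localization.Away f ⊗[R] D)) :
    Algebra.Etale R D := by
  rw [← RingHom.etale_algebraMap]
  refine RingHom.Etale.ofLocalizationSpan.ofIsLocalization RingHom.Etale.respectsIso
    (algebraMap R D) s hs fun r => ?_
  refine ⟨Localization.Away r.1, Localization.Away r.1 ⊗[R] D, inferInstance, inferInstance,
    inferInstance, inferInstance, inferInstance, inferInstance,
    algebraMap (Localization.Away r.1) (Localization.Away r.1 ⊗[R] D), ?_, ?_⟩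
  · apply RingHom.ext
    intro x
    show algebraMap (Localization.Away r.1) (Localization.Away r.1 ⊗[R] D)
      (algebraMap R (Localization.Away r.1) x) = (1 : Localization.Away r.1) ⊗ₜ[R] algebraMap R D x
    rw [Algebra.TensorProduct.algebraMap_apply, Algebra.algebraMap_self_apply,
      Algebra.algebraMap_eq_smul_one, Algebra.algebraMap_eq_smul_one (A := D),
      TensorProduct.smul_tmul]
  · rw [RingHom.etale_algebraMap]
    exact h r.1 r.2

end EtGlue

section Charts

variable {R : Type u} [CommRing R] {A : Type u} [CommRing A] [HopfAlgebra R A]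

theorem isCocomm_of_isMultType (h : IsMultType R A) : Coalgebra.IsCocomm R A := by
  obtain ⟨s, hs, hloc⟩ := GLL.hasCharts_of_isMultType h
  constructor
  apply LinearMap.ext
  intro a
  rw [LinearMap.comp_apply, ← sub_eq_zero]
  refine GLL.eq_zero_of_cov_module hs _ fun f hf => ?_
  obtain ⟨T, _, _, hT, M, _, ⟨E⟩⟩ := hloc f hf
  refine ⟨T, inferInstance, inferInstance, hT, ?_⟩
  haveI : Coalgebra.IsCocomm T (T ⊗[R] A) := MT.isCocomm_of_bialgEquiv E
  rw [TensorProduct.tmul_sub, sub_eq_zero]
  apply (TensorProduct.AlgebraTensorModule.distribBaseChange R T A A).injective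
  have h1 := LinearMap.congr_fun
    (Coalgebra.IsCocomm.comm_comp_comul (R := T) (A := T ⊗[R] A)) ((1 : T) ⊗ₜ[R] a)
  rw [LinearMap.comp_apply, CommGrp.comul_baseChange', LinearMap.lTensor_tmul] at h1
  rw [← h1]
  show _ = (TensorProduct.comm T (T ⊗[R] A) (T ⊗[R] A)) _
  generalize CoalgebraStruct.comul (R := R) a = z
  induction z using TensorProduct.induction_on with
  | zero => simp
  | tmul a b =>
    rw [LinearEquiv.coe_coe, TensorProduct.comm_tmul,
      TensorProduct.AlgebraTensorModule.distribBaseChange_tmul,
      TensorProduct.AlgebraTensorModule.distribBaseChange_tmul, TensorProduct.comm_tmul]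
  | add x y hx hy =>
    simp only [map_add, TensorProduct.tmul_add] at hx hy ⊢
    rw [hx, hy]

theorem projective_of_isMultType [Module.Finite R A] (h : IsMultType R A) :
    Module.Projective R A := by
  obtain ⟨s, hs, hloc⟩ := exists_cover_of_isMultType h
  have key : ∀ f ∈ s, Module.Flat (Localization.Away f) (Localization.Away f ⊗[R] A) ∧
      Module.FinitePresentation (Localization.Away f) (Localization.Away f ⊗[R] A) := by
    intro f hf
    obtain ⟨T, _, _, ⟨algf, tower, ff⟩, M, _, ⟨E⟩⟩ := hloc f hf
    let e₀ : T ⊗[Localization.Away f] (Localization.Away f ⊗[R] A) ≃ₗ[T] T ⊗[R] A :=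
      TensorProduct.AlgebraTensorModule.cancelBaseChange R (Localization.Away f) T T A
    haveI : Module.Free T (MonoidAlgebra T M) := Module.Free.of_basis (MonoidAlgebra.basis M T)
    haveI : Module.Free T (T ⊗[Localization.Away f] (Localization.Away f ⊗[R] A)) :=
      Module.Free.of_equiv (e₀.trans (E : T ⊗[R] A ≃ₐc[T] MonoidAlgebra T M).toLinearEquiv).symm
    haveI : Module.Flat (Localization.Away f) (Localization.Away f ⊗[R] A) :=
      Module.Flat.of_flat_tensorProduct _ _ T
    refine ⟨inferInstance, ?_⟩
    haveI : Module.FinitePresentation T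
        (T ⊗[Localization.Away f] (Localization.Away f ⊗[R] A)) :=
      Module.finitePresentation_of_projective T _
    exact finitePresentation_of_faithfullyFlat (Localization.Away f) T _ inferInstance
  haveI : Module.Flat R A := by
    refine Module.flat_of_isLocalized_span R A s hs (fun r : s => Localization.Away r.1 ⊗[R] A)
      (fun r => TensorProduct.mk R (Localization.Away r.1) A 1) fun r => ?_
    haveI := (key r.1 r.2).1
    exact Module.Flat.trans R (Localization.Away r.1) _
  haveI : Module.FinitePresentation R A := by
    refine Module.FinitePresentation.of_localizationSpan' s hs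
      (Rₚ := fun g : s => Localization.Away g.1)
      (Mₚ := fun g : s => Localization.Away g.1 ⊗[R] A)
      (fun g => TensorProduct.mk R (Localization.Away g.1) A 1) fun g => (key g.1 g.2).2
  exact Module.Flat.projective_of_finitePresentation

theorem etale_dual_of_isMultType [Module.Finite R A] [Module.Projective R A]
    [Coalgebra.IsCocomm R A] (h : IsMultType R A) :
    Algebra.Etale R (WithConv (A →ₗ[R] R)) := by
  obtain ⟨s, hs, hloc⟩ := exists_cover_of_isMultType h
  refine etale_of_span R _ hs fun f hf => ?_
  obtain ⟨T, _, _, ⟨algf, tower, ff⟩, M, _, ⟨E⟩⟩ := hloc f hf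
  haveI : Algebra.Etale (Localization.Away f)
      (WithConv (Localization.Away f ⊗[R] A →ₗ[Localization.Away f] Localization.Away f)) :=
    etale_dual_of_isDiag (Localization.Away f) (Localization.Away f ⊗[R] A) T
      ⟨M, inferInstance, ⟨(MT.cancelBC R (Localization.Away f) T A).trans E⟩⟩
  exact Algebra.Etale.of_equiv (dualBC R (Localization.Away f) A).symm

end Charts

section Main

variable (R : Type u) [CommRing R] [ConnectedSpace (PrimeSpectrum R)]
  (A : Type u) [CommRing A] [HopfAlgebra R A] [Module.Finite R A]

theorem isIsotrivial_of_finite_isMultType (hA : IsMultType R A) : IsIsotrivial R A := by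
  haveI := isCocomm_of_isMultType hA
  haveI := projective_of_isMultType hA
  haveI := etale_dual_of_isMultType hA
  exact isIsotrivial_of_etale_dual R A

end Main

end Groth.Agent.H9.DUA
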