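import Mathlib
import Groth.Prelude.Def_CartDual
import Groth.Prelude.Def_CartDual2
import Groth.Agent.Lib.Helper9.Misc.DUA1

/-!
# Base change of the Cartier dual as a bialgebra isomorphism; naturality; duality is fully faithful
(helper9)
-/

set_option autoImplicit false
set_option linter.unusedSectionVars false
set_option linter.unusedVariables false

namespace Groth.Agent.H9.DUB

open TensorProduct WithConv Coalgebra CartDual Groth.Agent.H9.DUA

universe u v w

section BC

variable (R : Type u) [CommRing R] (T : Type u) [CommRing T] [Algebra R T]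
  (A : Type u) [CommRing A] [Bialgebra R A] [Module.Finite R A] [Module.Projective R A]

theorem dualBC_counit (z : T ⊗[R] D R A) :
    Coalgebra.counit (R := T) (dualBC R T A z) = Coalgebra.counit (R := T) z := by
  induction z using TensorProduct.induction_on with
  | zero => rw [map_zero, map_zero, map_zero]
  | add x y hx hy => rw [map_add, map_add, map_add, hx, hy]
  | tmul t x =>
    rw [CartDual.coalgebra_counit_apply, CartDual.coe_apply, Algebra.TensorProduct.one_def,
      dualBC_tmul_tmul, TensorProduct.counit_tmul, CartDual.coalgebra_counit_apply,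
      CommSemiring.counit_apply, CartDual.coe_apply, Algebra.smul_def, Algebra.smul_def, mul_one,
      mul_comm]

theorem dual_ext₂ {F G : Module.Dual T ((T ⊗[R] A) ⊗[T] (T ⊗[R] A))}
    (h : ∀ (s₁ : T) (a₁ : A) (s₂ : T) (a₂ : A),
      F ((s₁ ⊗ₜ[R] a₁) ⊗ₜ[T] (s₂ ⊗ₜ[R] a₂)) = G ((s₁ ⊗ₜ[R] a₁) ⊗ₜ[T] (s₂ ⊗ₜ[R] a₂))) :
    F = G := by
  apply TensorProduct.ext'
  intro p q
  induction p using TensorProduct.induction_on with
  | zero => rw [TensorProduct.zero_tmul, map_zero, map_zero]
  | add x y hx hy => rw [TensorProduct.add_tmul, map_add, map_add, hx, hy]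
  | tmul s₁ a₁ =>
    induction q using TensorProduct.induction_on with
    | zero => rw [TensorProduct.tmul_zero, map_zero, map_zero]
    | add x y hx hy => rw [TensorProduct.tmul_add, map_add, map_add, hx, hy]
    | tmul s₂ a₂ => exact h s₁ a₁ s₂ a₂

theorem dualBC_comul (z : T ⊗[R] D R A) :
    TensorProduct.map (dualBC R T A).toLinearMap (dualBC R T A).toLinearMap
        (Coalgebra.comul (R := T) z) =
      Coalgebra.comul (R := T) (dualBC R T A z) := by
  induction z using TensorProduct.induction_on with
  | zero => rw [map_zero, map_zero, map_zero, map_zero]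
  | add x y hx hy => rw [map_add, map_add, map_add, map_add, hx, hy]
  | tmul t x =>
    apply (CartDual.ev₂ T (T ⊗[R] A)).injective
    apply dual_ext₂
    intro s₁ a₁ s₂ a₂
    have hx : x.ofConv (a₁ * a₂) = ∑ i ∈ (ℛ R x).index,
        ((ℛ R x).left i).ofConv a₁ * ((ℛ R x).right i).ofConv a₂ := by
      have h1 := CartDual.ev₂_coalgebra_comul_tmul R A x a₁ a₂
      rw [← (ℛ R x).eq, map_sum, LinearMap.sum_apply] at h1
      rw [CartDual.coe_apply] at h1
      rw [← h1]
      refine Finset.sum_congr rfl fun i _ => ?_
      rw [CartDual.ev₂_tmul, CartDual.coe_apply, CartDual.coe_apply]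
    rw [CartDual.ev₂_coalgebra_comul_tmul, CartDual.coe_apply,
      Algebra.TensorProduct.tmul_mul_tmul, dualBC_tmul_tmul, hx,
      MT.comul_tmul_repr t x (ℛ R x), map_sum, map_sum, LinearMap.sum_apply, Finset.sum_smul,
      Finset.mul_sum]
    refine Finset.sum_congr rfl fun i _ => ?_
    rw [TensorProduct.map_tmul, CartDual.ev₂_tmul, CartDual.coe_apply, CartDual.coe_apply]
    show (dualBC R T A (t ⊗ₜ[R] (ℛ R x).left i)).ofConv (s₁ ⊗ₜ[R] a₁) *
      (dualBC R T A ((1 : T) ⊗ₜ[R] (ℛ R x).right i)).ofConv (s₂ ⊗ₜ[R] a₂) = _
    rw [dualBC_tmul_tmul, dualBC_tmul_tmul, Algebra.smul_def, Algebra.smul_def, Algebra.smul_def,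
      map_mul]
    ring

/-- The base change of the dual bialgebra is the dual bialgebra of the base change. -/
noncomputable def dualBCb : T ⊗[R] D R A ≃ₐc[T] D T (T ⊗[R] A) :=
  BialgEquiv.ofAlgEquiv (R := T) (A := T ⊗[R] D R A) (B := D T (T ⊗[R] A)) (dualBC R T A)
    (by
      apply AlgHom.ext
      intro z
      exact dualBC_counit R T A z)
    (by
      apply AlgHom.ext
      intro z
      exact dualBC_comul R T A z)

theorem dualBCb_apply (z : T ⊗[R] D R A) : dualBCb R T A z = dualBC R T A z := rfl

end BC

section Nat

variable (R : Type u) [CommRing R] (T : Type u) [CommRing T] [Algebra R T]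
  {B : Type u} [CommRing B] [Bialgebra R B] [Module.Finite R B] [Module.Projective R B]
  {C : Type u} [CommRing C] [Bialgebra R C] [Module.Finite R C] [Module.Projective R C]

theorem transpose_dualBC (φ : C →ₐc[R] B) (t : T) (x : D R B) :
    CartDual.transpose T (Bialgebra.TensorProduct.map (BialgHom.id T T) φ)
        (dualBC R T B (t ⊗ₜ[R] x)) =
      dualBC R T C (t ⊗ₜ[R] CartDual.transpose R φ x) := by
  apply WithConv.ofConv_injective
  apply TensorProduct.AlgebraTensorModule.ext
  intro s c
  rw [dualBC_tmul_tmul]
  show (dualBC R T B (t ⊗ₜ[R] x)).ofConv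
    (Bialgebra.TensorProduct.map (BialgHom.id T T) φ (s ⊗ₜ[R] c)) = _
  rw [Bialgebra.TensorProduct.map_tmul, dualBC_tmul_tmul]
  rfl

end Nat

section FF

variable (R : Type u) [CommRing R] (A : Type v) (B : Type w)
  [CommRing A] [Bialgebra R A] [Module.Finite R A] [Module.Projective R A]
  [CommRing B] [Bialgebra R B] [Module.Finite R B] [Module.Projective R B]

theorem eval_bijective : Function.Bijective (CartDual.eval R B) := by
  have h1 := Module.bijective_dual_eval R B
  have h2 := (LinearEquiv.dualMap (CartDual.toDual R B)).bijective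
  have h3 := (CartDual.toDual R (CartDual.D R B)).symm.bijective
  exact h3.comp (h2.comp h1)

/-- Cartier duality is fully faithful. -/
theorem transpose_bijective :
    Function.Bijective (fun f : A →ₐc[R] B => CartDual.transpose R f) := by
  have hev := eval_bijective R B
  constructor
  · intro f f' hff'
    apply BialgHom.ext
    intro a
    apply Module.eval_apply_injective R (V := B)
    ext φ
    have := congrArg (fun g : CartDual.D R B →ₐc[R] CartDual.D R A =>
      g ((CartDual.toDual R B).symm φ) a) hff'
    simpa using this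
  · intro g
    let E := BialgEquiv.ofBijective (R := R) (A := B) (B := D R (D R B)) (CartDual.eval R B) hev
    let f : A →ₐc[R] B := ((E.symm : _ →ₐc[R] B)).comp
      ((CartDual.transpose R g).comp (CartDual.eval R A))
    have hf : ∀ a, CartDual.eval R B (f a) = (CartDual.transpose R g) (CartDual.eval R A a) :=
      fun a => E.apply_symm_apply _
    refine ⟨f, ?_⟩
    apply BialgHom.ext
    intro x
    apply WithConv.ext
    apply LinearMap.ext
    intro a
    change x (f a) = g x a
    have h' := congrArg (fun z : CartDual.D R (CartDual.D R B) => z x) (hf a)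
    simp only [CartDual.eval_apply] at h'
    rw [h']
    rfl

end FF

end Groth.Agent.H9.DUB
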