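import Mathlib
import Groth.Agent.Lib.Helper8.Hens.EtaleLift
import Groth.Agent.Lib.Helper9.CommGrp.MultType

/-!
# Lifting bialgebra maps out of an étale bialgebra over a henselian local ring (helper9)
-/

set_option autoImplicit false
set_option linter.unusedSectionVars false
set_option linter.unusedVariables false

namespace Groth.Agent.H9.DUB

open TensorProduct IsLocalRing

universe u

section LiftK

variable (R : Type u) [CommRing R] [HenselianLocalRing R]
  (E : Type u) [CommRing E] [Algebra R E] [Algebra.Etale R E]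
  (X : Type u) [CommRing X] [Algebra R X] [Module.Finite R X]

theorem algHom_ext_of_one_tmul (f g : E →ₐ[R] X)
    (h : ∀ x : E, (1 : ResidueField R) ⊗ₜ[R] f x = (1 : ResidueField R) ⊗ₜ[R] g x) : f = g := by
  have hJ := Groth.Agent.H8.Hens.map_maximalIdeal_le_jacobson_bot (A := R) X
  have hb := Groth.Agent.H8.Hens.bijective_comp_mk_of_finite (A := R) E X _ hJ
  apply hb.1
  apply AlgHom.ext
  intro x
  show Ideal.Quotient.mk _ (f x) = Ideal.Quotient.mk _ (g x)
  apply (Algebra.TensorProduct.quotIdealMapEquivQuotTensor X (maximalIdeal R)).injective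
  exact h x

theorem exists_algHom_of_one_tmul (h : E →ₐ[R] ResidueField R ⊗[R] X) :
    ∃ f : E →ₐ[R] X, ∀ x : E, h x = (1 : ResidueField R) ⊗ₜ[R] f x := by
  have hJ := Groth.Agent.H8.Hens.map_maximalIdeal_le_jacobson_bot (A := R) X
  have hb := Groth.Agent.H8.Hens.bijective_comp_mk_of_finite (A := R) E X _ hJ
  let q := Algebra.TensorProduct.quotIdealMapEquivQuotTensor X (maximalIdeal R)
  let g : E →ₐ[R] X ⧸ (maximalIdeal R).map (algebraMap R X) :=
    (q.symm.restrictScalars R).toAlgHom.comp h
  obtain ⟨f, hf⟩ := hb.2 g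
  refine ⟨f, fun x => ?_⟩
  have h1 : Ideal.Quotient.mk _ (f x) = q.symm (h x) := AlgHom.congr_fun hf x
  have h2 : q (Ideal.Quotient.mk _ (f x)) = h x := by
    rw [h1]
    exact q.apply_symm_apply _
  exact h2.symm

end LiftK

section LiftB

variable (R : Type u) [CommRing R] [HenselianLocalRing R]
  (E : Type u) [CommRing E] [Bialgebra R E] [Algebra.Etale R E]
  (F : Type u) [CommRing F] [Bialgebra R F] [Module.Finite R F]

theorem exists_bialgHom_lift
    (ψ₀ : ResidueField R ⊗[R] E →ₐc[ResidueField R] ResidueField R ⊗[R] F) :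
    ∃ ψ : E →ₐc[R] F, ∀ x : E,
      ψ₀ ((1 : ResidueField R) ⊗ₜ[R] x) = (1 : ResidueField R) ⊗ₜ[R] ψ x := by
  let h : E →ₐ[R] ResidueField R ⊗[R] F :=
    ((ψ₀ : ResidueField R ⊗[R] E →ₐ[ResidueField R] ResidueField R ⊗[R] F).restrictScalars R).comp
      Algebra.TensorProduct.includeRight
  obtain ⟨f, hf⟩ := exists_algHom_of_one_tmul R E F h
  have hf' : ∀ x : E, ψ₀ ((1 : ResidueField R) ⊗ₜ[R] x) = (1 : ResidueField R) ⊗ₜ[R] f x :=
    fun x => hf x
  have hcounit : (Bialgebra.counitAlgHom R F).comp f = Bialgebra.counitAlgHom R E := by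
    apply algHom_ext_of_one_tmul R E R
    intro x
    have h1 : Coalgebra.counit (R := ResidueField R) (ψ₀ ((1 : ResidueField R) ⊗ₜ[R] x)) =
        Coalgebra.counit (R := ResidueField R) ((1 : ResidueField R) ⊗ₜ[R] x) :=
      CoalgHomClass.counit_comp_apply ψ₀ _
    rw [hf', TensorProduct.counit_tmul, TensorProduct.counit_tmul,
      CommSemiring.counit_apply] at h1
    show (1 : ResidueField R) ⊗ₜ[R] (Coalgebra.counit (R := R) (f x)) =
      (1 : ResidueField R) ⊗ₜ[R] (Coalgebra.counit (R := R) x)
    have h2 : ∀ r : R, (1 : ResidueField R) ⊗ₜ[R] r = (r • (1 : ResidueField R)) ⊗ₜ[R] (1 : R) :=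
      fun r => by rw [TensorProduct.smul_tmul, smul_eq_mul, mul_one]
    rw [h2, h2, h1]
  have hcomul : (Algebra.TensorProduct.map f f).comp (Bialgebra.comulAlgHom R E) =
      (Bialgebra.comulAlgHom R F).comp f := by
    apply algHom_ext_of_one_tmul R E (F ⊗[R] F)
    intro x
    apply (TensorProduct.AlgebraTensorModule.distribBaseChange R (ResidueField R) F F).injective
    have key : ∀ w : E ⊗[R] E,
        TensorProduct.AlgebraTensorModule.distribBaseChange R (ResidueField R) F F
          ((1 : ResidueField R) ⊗ₜ[R] (Algebra.TensorProduct.map f f w)) =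
        TensorProduct.map (ψ₀ : _ →ₗ[ResidueField R] _) (ψ₀ : _ →ₗ[ResidueField R] _)
          (TensorProduct.AlgebraTensorModule.distribBaseChange R (ResidueField R) E E
            ((1 : ResidueField R) ⊗ₜ[R] w)) := by
      intro w
      induction w using TensorProduct.induction_on with
      | zero => simp
      | add a b ha hb =>
        rw [map_add, TensorProduct.tmul_add, map_add, ha, hb, TensorProduct.tmul_add, map_add,
          map_add]
      | tmul a b =>
        rw [Algebra.TensorProduct.map_tmul,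
          TensorProduct.AlgebraTensorModule.distribBaseChange_tmul,
          TensorProduct.AlgebraTensorModule.distribBaseChange_tmul, TensorProduct.map_tmul]
        show _ = ψ₀ ((1 : ResidueField R) ⊗ₜ[R] a) ⊗ₜ[ResidueField R]
          ψ₀ ((1 : ResidueField R) ⊗ₜ[R] b)
        rw [hf', hf']
    have h1 := Groth.Agent.H9.CommGrp.comul_baseChange' (ResidueField R)
      ((1 : ResidueField R) ⊗ₜ[R] f x)
    have h2 := Groth.Agent.H9.CommGrp.comul_baseChange' (ResidueField R)
      ((1 : ResidueField R) ⊗ₜ[R] x)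
    rw [LinearMap.lTensor_tmul] at h1 h2
    show TensorProduct.AlgebraTensorModule.distribBaseChange R (ResidueField R) F F
        ((1 : ResidueField R) ⊗ₜ[R] (Algebra.TensorProduct.map f f (Coalgebra.comul (R := R) x))) =
      TensorProduct.AlgebraTensorModule.distribBaseChange R (ResidueField R) F F
        ((1 : ResidueField R) ⊗ₜ[R] (Coalgebra.comul (R := R) (f x)))
    rw [key, ← h2, ← h1, ← hf']
    exact CoalgHomClass.map_comp_comul_apply ψ₀ _
  exact ⟨BialgHom.ofAlgHom f hcounit hcomul, hf'⟩

end LiftB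

end Groth.Agent.H9.DUB
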