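import Mathlib
import Groth.Prelude.Def_SGA3b
import Groth.Agent.Lib.Helper9.Misc.DUB1
import Groth.Agent.Lib.Helper9.Misc.DUB2
import Groth.Agent.Lib.Helper9.Misc.DUA4
import Groth.Agent.Lib.Helper9.MultT.LocalRigid2
import Groth.Agent.Lib.Helper9.MT.Rigid

/-!
# Reduction to the closed fibre is fully faithful on finite groups of multiplicative type over a
henselian local ring (helper9)
-/

set_option autoImplicit false
set_option linter.unusedSectionVars false
set_option linter.unusedVariables false

namespace Groth.Agent.H9.DUB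

open TensorProduct IsLocalRing SGA3b CartDual Groth.Agent.H9.DUA

universe u

variable (A : Type u) [CommRing A] [HenselianLocalRing A]
  (B : Type u) [CommRing B] [HopfAlgebra A B] [Module.Finite A B]
  (C : Type u) [CommRing C] [HopfAlgebra A C] [Module.Finite A C]

theorem reduction_injective (hG : IsMultType A B) (hH : IsMultType A C)
    (φ ψ : C →ₐc[A] B)
    (h : ∀ c : C, (1 : ResidueField A) ⊗ₜ[A] (φ c) = (1 : ResidueField A) ⊗ₜ[A] (ψ c)) :
    φ = ψ := by
  haveI := isCocomm_of_isMultType hH
  refine Groth.Agent.H9.MultT.eq_of_isLocalRing_ft hG inferInstance φ ψ (fun c => ?_)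
  have h1 := Groth.Agent.H9.MT.mem_smul_top_of_tmul_eq A (maximalIdeal A) B _ _ (h c)
  rw [Ideal.smul_top_eq_map] at h1
  exact h1

theorem reduction_surjective (hG : IsMultType A B) (hH : IsMultType A C)
    (φ₀ : (ResidueField A ⊗[A] C) →ₐc[ResidueField A] (ResidueField A ⊗[A] B)) :
    ∃ φ : C →ₐc[A] B, ∀ c : C, φ₀ ((1 : ResidueField A) ⊗ₜ[A] c) =
      (1 : ResidueField A) ⊗ₜ[A] (φ c) := by
  haveI := isCocomm_of_isMultType hG
  haveI := isCocomm_of_isMultType hH
  haveI := projective_of_isMultType hG
  haveI := projective_of_isMultType hH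
  haveI : Algebra.Etale A (D A B) := etale_dual_of_isMultType hG
  let ψ₀ : ResidueField A ⊗[A] D A B →ₐc[ResidueField A] ResidueField A ⊗[A] D A C :=
    ((dualBCb A (ResidueField A) C).symm :
        D (ResidueField A) (ResidueField A ⊗[A] C) →ₐc[ResidueField A]
          ResidueField A ⊗[A] D A C).comp
      ((CartDual.transpose (ResidueField A) φ₀).comp
        (dualBCb A (ResidueField A) B :
          ResidueField A ⊗[A] D A B →ₐc[ResidueField A]
            D (ResidueField A) (ResidueField A ⊗[A] B)))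
  obtain ⟨ψ, hψ⟩ := exists_bialgHom_lift A (D A B) (D A C) ψ₀
  obtain ⟨φ, hφ⟩ := (transpose_bijective A C B).2 ψ
  refine ⟨φ, ?_⟩
  have hφ' : CartDual.transpose A φ = ψ := hφ
  have key : CartDual.transpose (ResidueField A)
      (Bialgebra.TensorProduct.map (BialgHom.id (ResidueField A) (ResidueField A)) φ) =
      CartDual.transpose (ResidueField A) φ₀ := by
    apply BialgHom.ext
    intro y
    obtain ⟨z, rfl⟩ := (dualBC A (ResidueField A) B).surjective y
    induction z using TensorProduct.induction_on with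
    | zero => rw [map_zero, map_zero, map_zero]
    | add a b ha hb => rw [map_add, map_add, map_add, ha, hb]
    | tmul t x =>
      rw [transpose_dualBC, hφ']
      have h2 := hψ x
      have h3 : dualBC A (ResidueField A) C ((1 : ResidueField A) ⊗ₜ[A] ψ x) =
          CartDual.transpose (ResidueField A) φ₀
            (dualBC A (ResidueField A) B ((1 : ResidueField A) ⊗ₜ[A] x)) := by
        rw [← h2]
        exact (dualBCb A (ResidueField A) C).apply_symm_apply _
      have h4 : ∀ (M : Type u) [AddCommGroup M] [Module A M] (m : M),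
          t ⊗ₜ[A] m = t • ((1 : ResidueField A) ⊗ₜ[A] m) := fun M _ _ m => by
        rw [TensorProduct.smul_tmul', smul_eq_mul, mul_one]
      rw [h4 _ (ψ x), h4 _ x, map_smul, map_smul, map_smul, h3]
  have h5 := (transpose_bijective (ResidueField A) (ResidueField A ⊗[A] C)
    (ResidueField A ⊗[A] B)).1 key
  intro c
  rw [← h5]
  exact (Bialgebra.TensorProduct.map_tmul _ _ _ _).symm

theorem reduction_bijective (hG : IsMultType A B) (hH : IsMultType A C) :
    (∀ φ ψ : C →ₐc[A] B, (∀ c : C, (1 : IsLocalRing.ResidueField A) ⊗ₜ[A] (φ c) =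
        (1 : IsLocalRing.ResidueField A) ⊗ₜ[A] (ψ c)) → φ = ψ) ∧
    (∀ φ₀ : (IsLocalRing.ResidueField A ⊗[A] C) →ₐc[IsLocalRing.ResidueField A]
        (IsLocalRing.ResidueField A ⊗[A] B),
      ∃ φ : C →ₐc[A] B, ∀ c : C, φ₀ ((1 : IsLocalRing.ResidueField A) ⊗ₜ[A] c) =
        (1 : IsLocalRing.ResidueField A) ⊗ₜ[A] (φ c)) :=
  ⟨reduction_injective A B C hG hH, reduction_surjective A B C hG hH⟩

end Groth.Agent.H9.DUB
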