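import Mathlib

/-! Helper9: algebra of flat algebras over a DVR with reduced special fibre (for S0421, S3417, S0436). -/

set_option linter.style.haveILetI false
set_option linter.unusedSectionVars false

namespace Groth.Agent.H9.DVF

universe u
variable {A : Type u} [CommRing A]

/-- a nilpotent element is divisible by every power of `π`, if `A/π` is reduced and `π` is regular -/
theorem nilp_dvd_pow (π : A) (hπ : ∀ a : A, π * a = 0 → a = 0)
    (hred : IsReduced (A ⧸ Ideal.span {π})) (n : ℕ) :
    ∀ a : A, IsNilpotent a → ∃ c : A, IsNilpotent c ∧ a = π ^ n * c := by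
  induction n with
  | zero => intro a ha; exact ⟨a, ha, by simp⟩
  | succ n ih =>
    intro a ha
    have h1 : IsNilpotent (Ideal.Quotient.mk (Ideal.span {π}) a) := ha.map _
    have h2 : Ideal.Quotient.mk (Ideal.span {π}) a = 0 := hred.eq_zero _ h1
    rw [Ideal.Quotient.eq_zero_iff_mem, Ideal.mem_span_singleton'] at h2
    obtain ⟨b, hb⟩ := h2
    have hbn : IsNilpotent b := by
      obtain ⟨m, hm⟩ := ha
      refine ⟨m, ?_⟩
      have : π ^ m * b ^ m = 0 := by rw [← mul_pow, mul_comm, hb, hm]
      clear hm hb
      induction m with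
      | zero => simpa using this
      | succ m ihm =>
        have h3 : π * (π ^ m * b ^ (m + 1)) = 0 := by rw [← this]; ring
        have h4 := hπ _ h3
        have : ∀ (j : ℕ) (x : A), π ^ j * x = 0 → x = 0 := by
          intro j
          induction j with
          | zero => intro x hx; simpa using hx
          | succ j ihj =>
            intro x hx
            apply ihj
            apply hπ
            rw [← hx]; ring
        exact this _ _ h4
    obtain ⟨c, hc, hbc⟩ := ih b hbn
    refine ⟨c, hc, ?_⟩
    rw [← hb, hbc]; ring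

theorem pow_regular (π : A) (hπ : ∀ a : A, π * a = 0 → a = 0) (j : ℕ) (x : A)
    (hx : π ^ j * x = 0) : x = 0 := by
  induction j generalizing x with
  | zero => simpa using hx
  | succ j ihj =>
    apply ihj
    apply hπ
    rw [← hx]; ring

/-- Krull intersection: a nilpotent is killed by `1 - π b` -/
theorem nilp_killed [IsNoetherianRing A] (π : A) (hπ : ∀ a : A, π * a = 0 → a = 0)
    (hred : IsReduced (A ⧸ Ideal.span {π})) (a : A) (ha : IsNilpotent a) :
    ∃ b : A, (1 - π * b) * a = 0 := by
  have hmem : a ∈ (⨅ i : ℕ, (Ideal.span {π}) ^ i • ⊤ : Submodule A A) := by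
    rw [Submodule.mem_iInf]
    intro i
    obtain ⟨c, -, hc⟩ := nilp_dvd_pow π hπ hred i a ha
    rw [hc]
    have : π ^ i * c = (π ^ i) • c := rfl
    rw [this]
    exact Submodule.smul_mem_smul (Ideal.pow_mem_pow (Ideal.mem_span_singleton_self π) i)
      Submodule.mem_top
  obtain ⟨⟨r, hr⟩, hra⟩ := (Ideal.mem_iInf_smul_pow_eq_bot_iff (Ideal.span {π}) a).1 hmem
  rw [Ideal.mem_span_singleton'] at hr
  obtain ⟨b, rfl⟩ := hr
  refine ⟨b, ?_⟩
  have : (b * π) * a = a := hra
  linear_combination -this

/-- the local rings at generizations of points of `V(π)` are reduced -/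
theorem loc_reduced [IsNoetherianRing A] (π : A) (hπ : ∀ a : A, π * a = 0 → a = 0)
    (hred : IsReduced (A ⧸ Ideal.span {π})) (q m : Ideal A) [q.IsPrime] [m.IsPrime]
    (hqm : q ≤ m) (hm : π ∈ m) : IsReduced (Localization.AtPrime q) := by
  constructor
  intro x hx
  obtain ⟨a, s, rfl⟩ := IsLocalization.exists_mk'_eq q.primeCompl x
  -- a/s nilpotent → a/1 nilpotent → t a^n = 0
  have ha1 : IsNilpotent (algebraMap A (Localization.AtPrime q) a) := by
    have : algebraMap A (Localization.AtPrime q) a =
        IsLocalization.mk' (Localization.AtPrime q) a s * algebraMap A _ (s : A) := by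
      rw [IsLocalization.mk'_spec]
    rw [this]
    exact Commute.isNilpotent_mul_right (Commute.all _ _) hx
  obtain ⟨n, hn⟩ := ha1
  rw [← map_pow, IsLocalization.map_eq_zero_iff q.primeCompl] at hn
  obtain ⟨t, ht⟩ := hn
  -- t * a is nilpotent in A
  have hta : IsNilpotent ((t : A) * a) := by
    refine ⟨n + 1, ?_⟩
    have : ((t : A) * a) ^ (n + 1) = (t : A) ^ n * a * ((t : A) * a ^ n) := by ring
    rw [this, ht, mul_zero]
  obtain ⟨b, hb⟩ := nilp_killed π hπ hred _ hta
  -- (1 - π b) t ∉ q
  have h1 : (1 - π * b) ∉ q := by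
    intro h
    have h2 : (1 - π * b) ∈ m := hqm h
    have h3 : π * b ∈ m := Ideal.mul_mem_right _ _ hm
    have : (1 : A) ∈ m := by
      have := Ideal.add_mem _ h2 h3
      simpa using this
    exact (Ideal.IsPrime.ne_top ‹m.IsPrime›) ((Ideal.eq_top_iff_one _).2 this)
  have h2 : (1 - π * b) * (t : A) ∉ q := by
    intro h
    rcases (Ideal.IsPrime.mem_or_mem ‹q.IsPrime› h) with h | h
    · exact h1 h
    · exact t.2 h
  rw [IsLocalization.mk'_eq_zero_iff]
  exact ⟨⟨(1 - π * b) * t, h2⟩, by simp only; rw [← hb]; ring⟩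

/-- an idempotent of `A[1/π]` comes from `A` -/
theorem idem_lift (π : A) (hπ : ∀ a : A, π * a = 0 → a = 0)
    (hred : IsReduced (A ⧸ Ideal.span {π})) (B : Type*) [CommRing B] [Algebra A B]
    [IsLocalization.Away π B] (e : B) (he : IsIdempotentElem e) :
    ∃ b : A, IsIdempotentElem b ∧ algebraMap A B b = e := by
  have hinj : Function.Injective (algebraMap A B) := by
    apply IsLocalization.injective B (M := Submonoid.powers π)
    intro x hx
    obtain ⟨j, rfl⟩ := hx
    rw [mem_nonZeroDivisors_iff]
    refine ⟨fun a ha => ?_, fun a ha => ?_⟩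
    · exact pow_regular π hπ j a ha
    · rw [mul_comm] at ha; exact pow_regular π hπ j a ha
  have key : ∀ (n : ℕ) (a : A), algebraMap A B a = algebraMap A B (π ^ n) * e →
      ∃ b : A, algebraMap A B b = e := by
    intro n
    induction n with
    | zero => intro a ha; exact ⟨a, by simpa using ha⟩
    | succ n ih =>
      intro a ha
      -- a^2 = π^(n+1) a
      have h1 : a * a = π ^ (n + 1) * a := by
        apply hinj
        rw [map_mul, map_mul, ha]
        have := he.eq
        calc algebraMap A B (π ^ (n + 1)) * e * (algebraMap A B (π ^ (n + 1)) * e)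
            = algebraMap A B (π ^ (n + 1)) * (algebraMap A B (π ^ (n + 1)) * (e * e)) := by ring
          _ = _ := by rw [this]
      have h2 : IsNilpotent (Ideal.Quotient.mk (Ideal.span {π}) a) := by
        refine ⟨2, ?_⟩
        rw [← map_pow, Ideal.Quotient.eq_zero_iff_mem, Ideal.mem_span_singleton']
        exact ⟨π ^ n * a, by rw [pow_two, h1]; ring⟩
      have h3 := hred.eq_zero _ h2
      rw [Ideal.Quotient.eq_zero_iff_mem, Ideal.mem_span_singleton'] at h3
      obtain ⟨a', ha'⟩ := h3
      apply ih a'
      have hu : IsUnit (algebraMap A B π) := IsLocalization.Away.algebraMap_isUnit π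
      apply hu.mul_left_cancel
      rw [← map_mul, mul_comm, ha', ha, map_pow, map_pow, pow_succ]
      ring
  obtain ⟨n, a, ha⟩ := IsLocalization.Away.surj π e (S := B)
  obtain ⟨b, hb⟩ := key n a (by rw [← ha, map_pow]; ring)
  refine ⟨b, ?_, hb⟩
  apply hinj
  rw [map_mul, hb]; exact he

end Groth.Agent.H9.DVF
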