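import Mathlib
import Groth.Agent.Lib.Helper9.Misc.DVF1

/-! Helper9: splitting of D(π) in Spec A has disjoint closures (for S0421, S3417). -/

set_option linter.style.haveILetI false
set_option linter.unusedSectionVars false

namespace Groth.Agent.H9.DVF

open PrimeSpectrum

universe u
variable {A : Type u} [CommRing A]

theorem dense_basicOpen (π : A) (hπ : ∀ a : A, π * a = 0 → a = 0) :
    Dense ((basicOpen π : TopologicalSpace.Opens (PrimeSpectrum A)) : Set (PrimeSpectrum A)) := by
  rw [dense_iff_inter_open]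
  intro U hU ⟨p, hp⟩
  obtain ⟨W, ⟨a, rfl⟩, hpa, haU⟩ :=
    isTopologicalBasis_basic_opens.exists_subset_of_mem_open hp hU
  have hne : (basicOpen (a * π) : TopologicalSpace.Opens (PrimeSpectrum A)) ≠ ⊥ := by
    intro h
    rw [basicOpen_eq_bot_iff] at h
    obtain ⟨n, hn⟩ := h
    have h1 : π ^ n * a ^ n = 0 := by rw [← mul_pow, mul_comm, hn]
    have h2 := pow_regular π hπ n _ h1
    have : p ∈ (basicOpen (a ^ n) : TopologicalSpace.Opens (PrimeSpectrum A)) :=
      le_basicOpen_pow a n hpa
    rw [h2] at this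
    simp at this
  obtain ⟨x, hx⟩ : ∃ x, x ∈ (basicOpen (a * π) : TopologicalSpace.Opens (PrimeSpectrum A)) := by
    by_contra hcon
    push Not at hcon
    apply hne
    ext x
    simp only [TopologicalSpace.Opens.coe_bot, Set.mem_empty_iff_false, iff_false]
    exact hcon x
  rw [basicOpen_mul] at hx
  exact ⟨x, haU hx.1, hx.2⟩

/-- the closures of the two halves of a splitting of `D(π)` are disjoint and cover `Spec A` -/
theorem closure_split (π : A) (hπ : ∀ a : A, π * a = 0 → a = 0)
    (hred : IsReduced (A ⧸ Ideal.span {π})) (V₁ V₂ : Set (PrimeSpectrum A))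
    (h1 : IsOpen V₁) (h2 : IsOpen V₂) (hdisj : Disjoint V₁ V₂)
    (hun : V₁ ∪ V₂ = (basicOpen π : TopologicalSpace.Opens (PrimeSpectrum A))) :
    closure V₁ ∩ closure V₂ = ∅ ∧ closure V₁ ∪ closure V₂ = Set.univ := by
  constructor
  swap
  · rw [← closure_union, hun]
    exact (dense_basicOpen π hπ).closure_eq
  let B := Localization.Away π
  let c : PrimeSpectrum B → PrimeSpectrum A := comap (algebraMap A B)
  have hc : Topology.IsOpenEmbedding c := localization_away_isOpenEmbedding B π
  have hrange : Set.range c = (basicOpen π : TopologicalSpace.Opens (PrimeSpectrum A)) :=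
    localization_away_comap_range B π
  have hT1 : IsClopen (c ⁻¹' V₁) := by
    refine ⟨?_, h1.preimage hc.continuous⟩
    have : c ⁻¹' V₁ = (c ⁻¹' V₂)ᶜ := by
      ext x
      simp only [Set.mem_preimage, Set.mem_compl_iff]
      constructor
      · intro hx hx2
        exact Set.disjoint_left.1 hdisj hx hx2
      · intro hx
        have : c x ∈ V₁ ∪ V₂ := by
          rw [hun, ← hrange]; exact ⟨x, rfl⟩
        rcases this with h | h
        · exact h
        · exact absurd h hx
    rw [this]
    exact (h2.preimage hc.continuous).isClosed_compl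
  obtain ⟨e, he, hTe⟩ := PrimeSpectrum.isClopen_iff.1 hT1
  obtain ⟨b, hb, hbe⟩ := idem_lift π hπ hred B e he
  have hV1 : V₁ ⊆ (basicOpen b : TopologicalSpace.Opens (PrimeSpectrum A)) := by
    intro x hx
    have hxr : x ∈ Set.range c := by
      rw [hrange, ← hun]; exact Or.inl hx
    obtain ⟨y, rfl⟩ := hxr
    have : y ∈ c ⁻¹' V₁ := hx
    rw [hTe, ← hbe] at this
    exact this
  have hV2 : V₂ ⊆ (basicOpen (1 - b) : TopologicalSpace.Opens (PrimeSpectrum A)) := by
    intro x hx
    have hxr : x ∈ Set.range c := by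
      rw [hrange, ← hun]; exact Or.inr hx
    obtain ⟨y, rfl⟩ := hxr
    have hy1 : y ∉ c ⁻¹' V₁ := fun h => Set.disjoint_left.1 hdisj h hx
    rw [hTe, ← hbe] at hy1
    -- b ∈ (c y).asIdeal
    have hb1 : b ∈ (c y).asIdeal := by
      by_contra hcon
      exact hy1 hcon
    show (1 - b) ∉ (c y).asIdeal
    intro hcon
    have : (1 : A) ∈ (c y).asIdeal := by
      have := Ideal.add_mem _ hcon hb1
      simpa using this
    exact (c y).2.ne_top ((Ideal.eq_top_iff_one _).2 this)
  have hcl1 : IsClosed ((basicOpen b : TopologicalSpace.Opens (PrimeSpectrum A)) :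
      Set (PrimeSpectrum A)) := (PrimeSpectrum.isClopen_iff.2 ⟨b, hb, rfl⟩).1
  have hcl2 : IsClosed ((basicOpen (1 - b) : TopologicalSpace.Opens (PrimeSpectrum A)) :
      Set (PrimeSpectrum A)) := (PrimeSpectrum.isClopen_iff.2 ⟨1 - b, hb.one_sub, rfl⟩).1
  have h3 := closure_minimal hV1 hcl1
  have h4 := closure_minimal hV2 hcl2
  rw [Set.eq_empty_iff_forall_notMem]
  rintro x ⟨hx1, hx2⟩
  have h5 := h3 hx1
  have h6 := h4 hx2
  have : x ∈ (basicOpen (b * (1 - b)) : TopologicalSpace.Opens (PrimeSpectrum A)) := by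
    rw [basicOpen_mul]; exact ⟨h5, h6⟩
  have hz : b * (1 - b) = 0 := by
    have := hb.eq
    rw [mul_sub, mul_one, this, sub_self]
  rw [hz] at this
  simp at this

end Groth.Agent.H9.DVF
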