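import Mathlib
import Groth.Agent.Lib.Helper9.Misc.DVF1
import Groth.Agent.Lib.Helper9.Misc.DVF2

/-! Helper9: affine charts of a scheme over Spec R and reducedness of fibres chart by chart (for S0421, S3417, S0436). -/

set_option linter.style.haveILetI false
set_option linter.unusedSectionVars false

namespace Groth.Agent.H9.DVF

open AlgebraicGeometry CategoryTheory CategoryTheory.Limits PrimeSpectrum

universe u
variable {R : Type u} [CommRing R] {X : Scheme.{u}} (f : X ⟶ Spec (CommRingCat.of R))

/-- the ring map of the `j`-th affine chart -/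
noncomputable def chartHom (j : X.affineOpenCover.I₀) :
    CommRingCat.of R ⟶ X.affineOpenCover.X j :=
  Spec.preimage (X.affineOpenCover.f j ≫ f)

theorem chartHom_spec (j : X.affineOpenCover.I₀) :
    Spec.map (chartHom f j) = X.affineOpenCover.f j ≫ f := Spec.map_preimage _

/-- the algebra structure of the `j`-th affine chart -/
@[instance_reducible]
noncomputable def chartAlg (j : X.affineOpenCover.I₀) : Algebra R (X.affineOpenCover.X j) :=
  (chartHom f j).hom.toAlgebra

theorem chart_flat [Flat f] (j : X.affineOpenCover.I₀) : (chartHom f j).hom.Flat := by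
  rw [← Flat.SpecMap_iff, chartHom_spec]
  infer_instance

/-- reducedness of the fibre gives reducedness of the fibre rings of the charts -/
theorem chart_fiber_reduced (y : PrimeSpectrum R) (hred : IsReduced (f.fiber y))
    (j : X.affineOpenCover.I₀) :
    letI := chartAlg f j
    _root_.IsReduced (y.asIdeal.Fiber (X.affineOpenCover.X j)) := by
  letI := chartAlg f j
  have h1 : IsReduced ((X.affineOpenCover.f j ≫ f).fiber y) := by
    haveI : IsReduced (pullback f ((Spec (CommRingCat.of R)).fromSpecResidueField y)) := hred
    exact @isReduced_of_isOpenImmersion _ _ ((Scheme.Pullback.openCoverOfLeft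
      X.affineOpenCover.openCover f ((Spec (CommRingCat.of R)).fromSpecResidueField y)).f j)
      ((Scheme.Pullback.openCoverOfLeft
      X.affineOpenCover.openCover f ((Spec (CommRingCat.of R)).fromSpecResidueField y)).map_prop j)
      this
  have h3 : X.affineOpenCover.f j ≫ f =
      Spec.map (CommRingCat.ofHom (algebraMap R (X.affineOpenCover.X j))) := by
    rw [← chartHom_spec]
    rfl
  rw [h3] at h1
  have h4 : IsReduced (Spec (CommRingCat.of (y.asIdeal.Fiber (X.affineOpenCover.X j)))) := by
    haveI : IsReduced ((Arrow.leftFunc).obj (Arrow.mk ((Spec.map (CommRingCat.ofHom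
      (algebraMap R (X.affineOpenCover.X j)))).fiberToSpecResidueField y))) := h1
    have hiso : IsIso (Arrow.leftFunc.mapIso
      (Spec.fiberToSpecResidueFieldIso R (X.affineOpenCover.X j) y)).inv := inferInstance
    exact @isReduced_of_isOpenImmersion _ _ (Arrow.leftFunc.mapIso
      (Spec.fiberToSpecResidueFieldIso R (X.affineOpenCover.X j) y)).inv
      (@IsOpenImmersion.of_isIso _ _ _ hiso) this
  exact (affine_isReduced_iff _).1 h4

/-- conversely, reducedness of the fibre rings of all charts gives reducedness of the fibre -/
theorem fiber_reduced_of_charts (y : PrimeSpectrum R)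
    (h : ∀ j : X.affineOpenCover.I₀, letI := chartAlg f j
      _root_.IsReduced (y.asIdeal.Fiber (X.affineOpenCover.X j))) :
    IsReduced (f.fiber y) := by
  have key : ∀ j : X.affineOpenCover.I₀, IsReduced ((X.affineOpenCover.f j ≫ f).fiber y) := by
    intro j
    letI := chartAlg f j
    have h3 : X.affineOpenCover.f j ≫ f =
        Spec.map (CommRingCat.ofHom (algebraMap R (X.affineOpenCover.X j))) := by
      rw [← chartHom_spec]
      rfl
    rw [h3]
    have h4 : IsReduced (Spec (CommRingCat.of (y.asIdeal.Fiber (X.affineOpenCover.X j)))) :=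
      (affine_isReduced_iff _).2 (h j)
    have hiso : IsIso (Arrow.leftFunc.mapIso
      (Spec.fiberToSpecResidueFieldIso R (X.affineOpenCover.X j) y)).hom := inferInstance
    exact @isReduced_of_isOpenImmersion _ _ (Arrow.leftFunc.mapIso
      (Spec.fiberToSpecResidueFieldIso R (X.affineOpenCover.X j) y)).hom
      (@IsOpenImmersion.of_isIso _ _ _ hiso) h4
  exact @IsReduced.of_openCover _ (Scheme.Pullback.openCoverOfLeft
      X.affineOpenCover.openCover f ((Spec (CommRingCat.of R)).fromSpecResidueField y)) key

end Groth.Agent.H9.DVF
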