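import Mathlib
import Groth.Agent.Lib.Helper9.Misc.DVF1
import Groth.Agent.Lib.Helper9.Misc.DVF2
import Groth.Agent.Lib.Helper9.Misc.DVF3
import Groth.Agent.Lib.Helper9.Misc.DVF4

/-! Helper9: the generic fibre of a scheme over a DVR is preconnected under chartwise hypotheses (for S0421, S3417). -/

set_option linter.style.haveILetI false
set_option linter.unusedSectionVars false

namespace Groth.Agent.H9.DVF

open AlgebraicGeometry CategoryTheory CategoryTheory.Limits PrimeSpectrum

universe u
variable {R : Type u} [CommRing R] [IsDomain R] [IsDiscreteValuationRing R]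

/-- the generic point of the spectrum of a domain -/
def genericPt (R : Type u) [CommRing R] [IsDomain R] : PrimeSpectrum R := ⟨⊥, Ideal.isPrime_bot⟩

theorem mem_iff_closed {π : R} (hπ : Irreducible π) (p : PrimeSpectrum R) :
    π ∈ p.asIdeal ↔ p = IsLocalRing.closedPoint R := by
  constructor
  · intro h
    have hne : p.asIdeal ≠ ⊥ := by
      intro h0
      rw [h0] at h
      exact hπ.ne_zero (by simpa using h)
    have hmax : p.asIdeal.IsMaximal := Ring.DimensionLEOne.maximalOfPrime hne p.2
    ext1
    exact (IsLocalRing.eq_maximalIdeal hmax)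
  · rintro rfl
    show π ∈ IsLocalRing.maximalIdeal R
    rw [hπ.maximalIdeal_eq]
    exact Ideal.mem_span_singleton_self π

theorem notMem_iff_generic {π : R} (hπ : Irreducible π) (p : PrimeSpectrum R) :
    π ∉ p.asIdeal ↔ p = genericPt R := by
  constructor
  · intro h
    by_contra hne
    have hne' : p.asIdeal ≠ ⊥ := by
      intro h0
      apply hne
      ext1
      exact h0
    have hmax : p.asIdeal.IsMaximal := Ring.DimensionLEOne.maximalOfPrime hne' p.2
    have : p.asIdeal = IsLocalRing.maximalIdeal R := IsLocalRing.eq_maximalIdeal hmax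
    apply h
    rw [this, hπ.maximalIdeal_eq]
    exact Ideal.mem_span_singleton_self π
  · rintro rfl
    show π ∉ (⊥ : Ideal R)
    simpa using hπ.ne_zero

theorem singleton_generic {π : R} (hπ : Irreducible π) :
    ({genericPt R} : Set (PrimeSpectrum R)) =
      (basicOpen π : TopologicalSpace.Opens (PrimeSpectrum R)) := by
  ext p
  simp only [Set.mem_singleton_iff, SetLike.mem_coe, mem_basicOpen]
  exact (notMem_iff_generic hπ p).symm

variable {X : Scheme.{u}} (f : X ⟶ Spec (CommRingCat.of R))

/-- the generic point as a point of the scheme -/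
def genericPt' (R : Type u) [CommRing R] [IsDomain R] : ↥(Spec (CommRingCat.of R)) := genericPt R

theorem isOpen_generic {π : R} (hπ : Irreducible π) :
    IsOpen ({genericPt' R} : Set ↥(Spec (CommRingCat.of R))) := by
  have h : IsOpen ({genericPt R} : Set (PrimeSpectrum R)) := by
    rw [singleton_generic hπ]; exact (basicOpen π).2
  exact h

theorem chart_preimage {π : R} (hπ : Irreducible π) (j : X.affineOpenCover.I₀)
    (x : ↥(Spec (X.affineOpenCover.X j))) :
    f (X.affineOpenCover.f j x) = genericPt' R ↔ (chartHom f j).hom π ∉ x.asIdeal := by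
  have h1 : f (X.affineOpenCover.f j x) = (Spec.map (chartHom f j)) x := by
    rw [chartHom_spec]; rfl
  rw [h1]
  have := notMem_iff_generic hπ ((Spec.map (chartHom f j)) x)
  exact this.symm

/-- the local hypotheses on the charts -/
def ChartHyp (π : R) : Prop :=
  ∀ j : X.affineOpenCover.I₀,
    (∀ a : X.affineOpenCover.X j, (chartHom f j).hom π * a = 0 → a = 0) ∧
    _root_.IsReduced ((X.affineOpenCover.X j) ⧸ Ideal.span {(chartHom f j).hom π})

theorem preconnected_generic {π : R} (hπ : Irreducible π) (H : ChartHyp f π)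
    [PreconnectedSpace X] : _root_.IsPreconnected (f ⁻¹' {genericPt' R}) := by
  set W : Set X := f ⁻¹' {genericPt' R} with hW
  have hWo : IsOpen W := (isOpen_generic hπ).preimage f.continuous
  rw [isPreconnected_iff_subset_of_disjoint]
  intro u v hu hv hsub hdisj
  set V₁ := W ∩ u with hV₁
  set V₂ := W ∩ v with hV₂
  have hV₁o : IsOpen V₁ := hWo.inter hu
  have hV₂o : IsOpen V₂ := hWo.inter hv
  have hVd : Disjoint V₁ V₂ := by
    rw [Set.disjoint_iff]
    rintro x ⟨⟨hxW, hxu⟩, ⟨_, hxv⟩⟩
    have : x ∈ W ∩ (u ∩ v) := ⟨hxW, hxu, hxv⟩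
    rw [hdisj] at this
    exact this
  have hVu : V₁ ∪ V₂ = W := by
    rw [hV₁, hV₂, ← Set.inter_union_distrib_left]
    exact Set.inter_eq_left.2 hsub
  -- local statement
  have hloc : ∀ j : X.affineOpenCover.I₀,
      (X.affineOpenCover.f j) ⁻¹' (closure V₁) ∩ (X.affineOpenCover.f j) ⁻¹' (closure V₂) = ∅ ∧
      (X.affineOpenCover.f j) ⁻¹' (closure V₁) ∪ (X.affineOpenCover.f j) ⁻¹' (closure V₂) =
        Set.univ := by
    intro j
    have hoe := (X.affineOpenCover.f j).isOpenEmbedding
    rw [hoe.isOpenMap.preimage_closure_eq_closure_preimage hoe.continuous,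
      hoe.isOpenMap.preimage_closure_eq_closure_preimage hoe.continuous]
    refine closure_split (A := X.affineOpenCover.X j) ((chartHom f j).hom π) (H j).1 (H j).2
      ((X.affineOpenCover.f j) ⁻¹' V₁) ((X.affineOpenCover.f j) ⁻¹' V₂)
      (hV₁o.preimage hoe.continuous) (hV₂o.preimage hoe.continuous) ?_ ?_
    · exact Disjoint.preimage _ hVd
    · refine Set.ext fun x => ⟨?_, ?_⟩
      · intro hx
        have hxW : X.affineOpenCover.f j x ∈ W := by
          rcases hx with h | h
          · exact h.1
          · exact h.1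
        exact (chart_preimage f hπ j x).1 hxW
      · intro hx
        have hxW : X.affineOpenCover.f j x ∈ W := (chart_preimage f hπ j x).2 hx
        rw [← hVu] at hxW
        exact hxW
  have hC : closure V₁ ∩ closure V₂ = ∅ := by
    rw [Set.eq_empty_iff_forall_notMem]
    rintro x ⟨hx1, hx2⟩
    obtain ⟨x', hx'⟩ := X.affineOpenCover.covers x
    rw [← hx'] at hx1 hx2
    have : x' ∈ (X.affineOpenCover.f _) ⁻¹' (closure V₁) ∩
        (X.affineOpenCover.f _) ⁻¹' (closure V₂) := ⟨hx1, hx2⟩
    rw [(hloc _).1] at this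
    exact this
  have hU : closure V₁ ∪ closure V₂ = Set.univ := by
    rw [Set.eq_univ_iff_forall]
    intro x
    obtain ⟨x', hx'⟩ := X.affineOpenCover.covers x
    have : x' ∈ (X.affineOpenCover.f _) ⁻¹' (closure V₁) ∪
        (X.affineOpenCover.f _) ⁻¹' (closure V₂) := by
      rw [(hloc _).2]; trivial
    rw [← hx']
    exact this
  have hpre : _root_.IsPreconnected (Set.univ : Set X) := isPreconnected_univ
  rw [isPreconnected_closed_iff] at hpre
  have h3 := hpre (closure V₁) (closure V₂) isClosed_closure isClosed_closure (by rw [hU])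
  by_cases h1 : V₁ = ∅
  · right
    intro x hx
    have : x ∈ V₁ ∪ V₂ := by rw [hVu]; exact hx
    rw [h1, Set.empty_union] at this
    exact this.2
  by_cases h2 : V₂ = ∅
  · left
    intro x hx
    have : x ∈ V₁ ∪ V₂ := by rw [hVu]; exact hx
    rw [h2, Set.union_empty] at this
    exact this.2
  exfalso
  obtain ⟨x1, hx1⟩ := Set.nonempty_iff_ne_empty.2 h1
  obtain ⟨x2, hx2⟩ := Set.nonempty_iff_ne_empty.2 h2
  obtain ⟨z, -, hz⟩ := h3 ⟨x1, trivial, subset_closure hx1⟩ ⟨x2, trivial, subset_closure hx2⟩
  rw [hC] at hz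
  exact hz

end Groth.Agent.H9.DVF
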