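import Mathlib
import Groth.Agent.Lib.Helper9.Misc.DVF1
import Groth.Agent.Lib.Helper9.Misc.DVF2
import Groth.Agent.Lib.Helper9.Misc.DVF3
import Groth.Agent.Lib.Helper9.Misc.DVF4
import Groth.Agent.Lib.Helper9.Misc.DVF5

/-! Helper9: flat schemes over a DVR with reduced closed fibre: connectedness of the generic fibre (S0421). -/

set_option linter.style.haveILetI false
set_option linter.unusedSectionVars false

namespace Groth.Agent.H9.DVF

open AlgebraicGeometry CategoryTheory CategoryTheory.Limits PrimeSpectrum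

universe u
variable {R : Type u} [CommRing R] [IsDomain R] [IsDiscreteValuationRing R]
variable {X : Scheme.{u}} (f : X ⟶ Spec (CommRingCat.of R))

theorem chart_quot_reduced {π : R} (hπ : Irreducible π)
    (hred : IsReduced (f.fiber (IsLocalRing.closedPoint R))) (j : X.affineOpenCover.I₀) :
    _root_.IsReduced ((X.affineOpenCover.X j) ⧸ Ideal.span {(chartHom f j).hom π}) := by
  letI := chartAlg f j
  have h1 := chart_fiber_reduced f (IsLocalRing.closedPoint R) hred j
  have h2 := quot_reduced_of_fiber R (X.affineOpenCover.X j) h1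
  have h3 : (IsLocalRing.maximalIdeal R).map (algebraMap R (X.affineOpenCover.X j)) =
      Ideal.span {(chartHom f j).hom π} := by
    rw [hπ.maximalIdeal_eq, Ideal.map_span, Set.image_singleton]
    rfl
  rw [h3] at h2
  exact h2

theorem chartHyp_of_flat [Flat f] {π : R} (hπ : Irreducible π)
    (hred : IsReduced (f.fiber (IsLocalRing.closedPoint R))) : ChartHyp f π := by
  intro j
  refine ⟨?_, chart_quot_reduced f hπ hred j⟩
  letI := chartAlg f j
  haveI : Module.Flat R (X.affineOpenCover.X j) := chart_flat f j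
  intro a ha
  have hreg : IsSMulRegular (X.affineOpenCover.X j) π :=
    Module.Flat.isSMulRegular_of_nonZeroDivisors (mem_nonZeroDivisors_of_ne_zero hπ.ne_zero)
  have : π • a = π • (0 : X.affineOpenCover.X j) := by
    rw [smul_zero, Algebra.smul_def]
    exact ha
  exact hreg this

theorem nonempty_generic [Nonempty X] {π : R} (hπ : Irreducible π) (H : ChartHyp f π) :
    (f ⁻¹' {genericPt' R}).Nonempty := by
  obtain ⟨x⟩ := ‹Nonempty X›
  obtain ⟨x', -⟩ := X.affineOpenCover.covers x
  set j := X.affineOpenCover.idx x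
  -- φπ is not nilpotent
  have hnn : ¬ IsNilpotent ((chartHom f j).hom π) := by
    rintro ⟨n, hn⟩
    have h1 : (chartHom f j).hom π ^ n * 1 = 0 := by rw [mul_one, hn]
    have h2 := pow_regular _ (H j).1 n 1 h1
    have : (1 : X.affineOpenCover.X j) ∈ x'.asIdeal := by rw [h2]; exact zero_mem _
    exact x'.2.ne_top ((Ideal.eq_top_iff_one _).2 this)
  rw [← mem_nilradical, nilradical_eq_sInf, Ideal.mem_sInf] at hnn
  push Not at hnn
  obtain ⟨q, hq, hqn⟩ := hnn
  let y : ↥(Spec (X.affineOpenCover.X j)) := (⟨q, hq⟩ : PrimeSpectrum (X.affineOpenCover.X j))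
  exact ⟨X.affineOpenCover.f j y, (chart_preimage f hπ j y).2 hqn⟩

theorem connected_fiber_of_chartHyp [ConnectedSpace X] {π : R} (hπ : Irreducible π)
    (H : ChartHyp f π) : ConnectedSpace ↑(f.fiber (genericPt' R)) := by
  have h1 : _root_.IsConnected (f ⁻¹' {genericPt' R}) :=
    ⟨nonempty_generic f hπ H, preconnected_generic f hπ H⟩
  haveI : ConnectedSpace ↑(f ⁻¹' {genericPt' R}) := isConnected_iff_connectedSpace.1 h1
  exact (f.fiberHomeo (genericPt' R)).connectedSpace_iff.2 inferInstance

theorem preconnected_fiber_of_chartHyp [PreconnectedSpace X] {π : R} (hπ : Irreducible π)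
    (H : ChartHyp f π) : PreconnectedSpace ↑(f.fiber (genericPt' R)) := by
  have h1 : _root_.IsPreconnected (f ⁻¹' {genericPt' R}) := preconnected_generic f hπ H
  haveI : PreconnectedSpace ↑(f ⁻¹' {genericPt' R}) :=
    isPreconnected_iff_preconnectedSpace.1 h1
  have := (f.fiberHomeo (genericPt' R)).symm.surjective
  rw [preconnectedSpace_iff_univ, ← this.range_eq]
  exact isPreconnected_range (f.fiberHomeo (genericPt' R)).symm.continuous

theorem S0421_main [Flat f] [ConnectedSpace X]
    (hred : IsReduced (f.fiber (IsLocalRing.closedPoint R))) :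
    ConnectedSpace ↑(f.fiber (⟨⊥, Ideal.isPrime_bot⟩ : PrimeSpectrum R)) := by
  obtain ⟨π, hπ⟩ := IsDiscreteValuationRing.exists_irreducible R
  exact connected_fiber_of_chartHyp f hπ (chartHyp_of_flat f hπ hred)

end Groth.Agent.H9.DVF
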