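import Mathlib
import Groth.Agent.Lib.Helper9.Misc.DVF1
import Groth.Agent.Lib.Helper9.Misc.DVF2
import Groth.Agent.Lib.Helper9.Misc.DVF3
import Groth.Agent.Lib.Helper9.Misc.DVF4
import Groth.Agent.Lib.Helper9.Misc.DVF5
import Groth.Agent.Lib.Helper9.Misc.DVF6

/-! Helper9: open morphisms of finite type to a DVR with reduced closed fibre (S3417). -/

set_option linter.style.haveILetI false
set_option linter.unusedSectionVars false

namespace Groth.Agent.H9.DVF

open AlgebraicGeometry CategoryTheory CategoryTheory.Limits PrimeSpectrum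

universe u

section Alg

variable {B : Type u} [CommRing B]

/-- torsion elements are divisible by all powers of `π` -/
theorem torsion_dvd_pow (π : B) (hred : IsReduced (B ⧸ Ideal.span {π}))
    (hnil : ∀ (k : ℕ) (a : B), π ^ k * a = 0 → IsNilpotent a) (n : ℕ) :
    ∀ a : B, (∃ k, π ^ k * a = 0) → ∃ c : B, a = π ^ n * c ∧ ∃ k, π ^ k * c = 0 := by
  induction n with
  | zero => intro a ha; exact ⟨a, by simp, ha⟩
  | succ n ih =>
    intro a ha
    obtain ⟨c, hc, k, hk⟩ := ih a ha
    have h1 : IsNilpotent c := hnil k c hk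
    have h2 : Ideal.Quotient.mk (Ideal.span {π}) c = 0 := hred.eq_zero _ (h1.map _)
    rw [Ideal.Quotient.eq_zero_iff_mem, Ideal.mem_span_singleton'] at h2
    obtain ⟨c', hc'⟩ := h2
    refine ⟨c', ?_, k + 1, ?_⟩
    · rw [hc, ← hc']; ring
    · rw [← hk, ← hc']; ring

theorem regular_of_open [IsNoetherianRing B] (π : B) (hred : IsReduced (B ⧸ Ideal.span {π}))
    (hnil : ∀ (k : ℕ) (a : B), π ^ k * a = 0 → IsNilpotent a) (a : B) (ha : π * a = 0) :
    a = 0 := by
  have hmem : a ∈ (⨅ i : ℕ, (Ideal.span {π}) ^ i • ⊤ : Submodule B B) := by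
    rw [Submodule.mem_iInf]
    intro i
    obtain ⟨c, hc, -⟩ := torsion_dvd_pow π hred hnil i a ⟨1, by simpa using ha⟩
    rw [hc]
    have : π ^ i * c = (π ^ i) • c := rfl
    rw [this]
    exact Submodule.smul_mem_smul (Ideal.pow_mem_pow (Ideal.mem_span_singleton_self π) i)
      Submodule.mem_top
  obtain ⟨⟨r, hr⟩, hra⟩ := (Ideal.mem_iInf_smul_pow_eq_bot_iff (Ideal.span {π}) a).1 hmem
  rw [Ideal.mem_span_singleton'] at hr
  obtain ⟨b, rfl⟩ := hr
  have : (b * π) * a = a := hra
  rw [← this, mul_assoc, ha, mul_zero]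

end Alg

variable {R : Type u} [CommRing R] [IsDomain R] [IsDiscreteValuationRing R]
variable {X : Scheme.{u}} (f : X ⟶ Spec (CommRingCat.of R))

theorem eq_closedPoint_of_isClosed (a : ↥(Spec (CommRingCat.of R)))
    (ha : IsClosed ({a} : Set ↥(Spec (CommRingCat.of R)))) : a = IsLocalRing.closedPoint R := by
  have h1 : IsClosed ({(a : PrimeSpectrum R)} : Set (PrimeSpectrum R)) := ha
  have h1' := (PrimeSpectrum.isClosed_singleton_iff_isMaximal (a : PrimeSpectrum R)).1 h1
  have h2 : PrimeSpectrum.asIdeal a = IsLocalRing.maximalIdeal R := IsLocalRing.eq_maximalIdeal h1'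
  exact PrimeSpectrum.ext h2

theorem eq_generic_of_specializes (b : ↥(Spec (CommRingCat.of R)))
    (hb : ∀ z : ↥(Spec (CommRingCat.of R)), b ⤳ z) : b = genericPt' R := by
  have h1 : (b : PrimeSpectrum R) ⤳ genericPt R := hb (genericPt' R)
  have h2 : PrimeSpectrum.asIdeal b ≤ ⊥ :=
    (PrimeSpectrum.le_iff_specializes (b : PrimeSpectrum R) (genericPt R)).2 h1
  exact PrimeSpectrum.ext (le_bot_iff.1 h2)

theorem chartHyp_of_open [LocallyOfFiniteType f] (hopen : IsOpenMap f.base) {π : R}
    (hπ : Irreducible π) (hred : IsReduced (f.fiber (IsLocalRing.closedPoint R))) :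
    ChartHyp f π := by
  intro j
  have hr := chart_quot_reduced f hπ hred j
  refine ⟨?_, hr⟩
  -- Noetherian
  have hft : (chartHom f j).hom.FiniteType := by
    have : LocallyOfFiniteType (Spec.map (chartHom f j)) := by
      rw [chartHom_spec]; infer_instance
    exact (HasRingHomProperty.Spec_iff (P := @LocallyOfFiniteType)).1 this
  haveI : IsNoetherianRing (X.affineOpenCover.X j) := by
    letI := chartAlg f j
    haveI : Algebra.FiniteType R (X.affineOpenCover.X j) := hft
    exact Algebra.FiniteType.isNoetherianRing R _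
  apply regular_of_open _ hr
  intro k a hka
  -- D(a) ⊆ V(φπ), image open in {closed point}, hence empty
  rw [← mem_nilradical, nilradical_eq_sInf, Ideal.mem_sInf]
  intro q hq
  by_contra haq
  let y : ↥(Spec (X.affineOpenCover.X j)) := (⟨q, hq⟩ : PrimeSpectrum (X.affineOpenCover.X j))
  let U : Set ↥(Spec (X.affineOpenCover.X j)) :=
    ((basicOpen a : TopologicalSpace.Opens (PrimeSpectrum (X.affineOpenCover.X j))) :
      Set (PrimeSpectrum (X.affineOpenCover.X j)))
  have hUo : IsOpen U := (basicOpen a).2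
  have hyU : y ∈ U := haq
  have hoe := (X.affineOpenCover.f j).isOpenEmbedding
  have himg : IsOpen (f '' ((X.affineOpenCover.f j) '' U)) :=
    hopen _ (hoe.isOpenMap _ hUo)
  -- the generic point lies in the image
  have hgen : genericPt' R ∈ f '' ((X.affineOpenCover.f j) '' U) := by
    have hy : f (X.affineOpenCover.f j y) ∈ f '' ((X.affineOpenCover.f j) '' U) :=
      ⟨_, ⟨y, hyU, rfl⟩, rfl⟩
    have hsp : genericPt' R ⤳ f (X.affineOpenCover.f j y) := by
      have : (genericPt R) ⤳ (f (X.affineOpenCover.f j y) : PrimeSpectrum R) :=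
        (PrimeSpectrum.le_iff_specializes (genericPt R)
          (f (X.affineOpenCover.f j y) : PrimeSpectrum R)).1 (bot_le (α := Ideal R))
      exact this
    exact hsp.mem_open himg hy
  obtain ⟨_, ⟨z, hzU, rfl⟩, hz⟩ := hgen
  have h1 := (chart_preimage f hπ j z).1 hz
  -- but φπ^k * a = 0 ∈ z and a ∉ z
  have h2 : (chartHom f j).hom π ^ k * a ∈ z.asIdeal := by rw [hka]; exact zero_mem _
  rcases z.2.mem_or_mem h2 with h | h
  · exact h1 (z.2.mem_of_pow_mem _ h)
  · exact hzU h

theorem S3417_main [LocallyOfFiniteType f] (hopen : IsOpenMap f.base) [PreconnectedSpace X]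
    (a b : ↥(Spec (CommRingCat.of R))) (ha : IsClosed ({a} : Set ↥(Spec (CommRingCat.of R))))
    (hb : ∀ z : ↥(Spec (CommRingCat.of R)), b ⤳ z)
    (hred : AlgebraicGeometry.IsReduced (f.fiber a)) :
    PreconnectedSpace ↥(f.fiber b) := by
  obtain ⟨π, hπ⟩ := IsDiscreteValuationRing.exists_irreducible R
  rw [eq_closedPoint_of_isClosed a ha] at hred
  rw [eq_generic_of_specializes b hb]
  exact preconnected_fiber_of_chartHyp f hπ (chartHyp_of_open f hopen hπ hred)

end Groth.Agent.H9.DVF
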