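import Mathlib
import Groth.Agent.Lib.Helper9.Misc.DVF1
import Groth.Agent.Lib.Helper9.Misc.DVF2
import Groth.Agent.Lib.Helper9.Misc.DVF3
import Groth.Agent.Lib.Helper9.Misc.DVF4
import Groth.Agent.Lib.Helper9.Misc.DVF5
import Groth.Agent.Lib.Helper9.Misc.DVF6

/-! Helper9: proper flat schemes over a DVR with reduced special fibre are reduced (S0436). -/

set_option linter.style.haveILetI false
set_option linter.unusedSectionVars false

namespace Groth.Agent.H9.DVF

open AlgebraicGeometry CategoryTheory CategoryTheory.Limits PrimeSpectrum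

universe u

variable {R : Type u} [CommRing R] [IsDomain R] [IsDiscreteValuationRing R]
variable {X : Scheme.{u}} (f : X ⟶ Spec (CommRingCat.of R))

theorem chart_noetherian [LocallyOfFiniteType f] (j : X.affineOpenCover.I₀) :
    IsNoetherianRing (X.affineOpenCover.X j) := by
  have hft : (chartHom f j).hom.FiniteType := by
    have : LocallyOfFiniteType (Spec.map (chartHom f j)) := by
      rw [chartHom_spec]; infer_instance
    exact (HasRingHomProperty.Spec_iff (P := @LocallyOfFiniteType)).1 this
  letI := chartAlg f j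
  haveI : Algebra.FiniteType R (X.affineOpenCover.X j) := hft
  exact Algebra.FiniteType.isNoetherianRing R _

theorem stalk_reduced [IsProper f] {π : R} (hπ : Irreducible π) (H : ChartHyp f π) (x : X) :
    _root_.IsReduced (X.presheaf.stalk x) := by
  haveI : CompactSpace X := QuasiCompact.compactSpace_of_compactSpace f
  -- closed point in the closure of x
  obtain ⟨z, hzx, hz⟩ := IsClosed.exists_closed_singleton (S := closure {x}) isClosed_closure
    ⟨x, subset_closure rfl⟩
  have hspec : x ⤳ z := specializes_iff_mem_closure.2 hzx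
  -- f z is the closed point
  have hfz : IsClosed ({f z} : Set ↥(Spec (CommRingCat.of R))) := by
    have := f.isClosedMap _ hz
    rwa [Set.image_singleton] at this
  have hfz' : π ∈ (f z : PrimeSpectrum R).asIdeal := by
    have h1 : IsClosed ({(f z : PrimeSpectrum R)} : Set (PrimeSpectrum R)) := hfz
    have h1' := (PrimeSpectrum.isClosed_singleton_iff_isMaximal (f z : PrimeSpectrum R)).1 h1
    have h2 : PrimeSpectrum.asIdeal (f z) = IsLocalRing.maximalIdeal R :=
      IsLocalRing.eq_maximalIdeal h1'
    rw [h2, hπ.maximalIdeal_eq]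
    exact Ideal.mem_span_singleton_self π
  obtain ⟨j, z', hz'⟩ : ∃ (j : X.affineOpenCover.I₀) (z' : ↥(Spec (X.affineOpenCover.X j))),
      X.affineOpenCover.f j z' = z := ⟨_, X.affineOpenCover.covers z⟩
  have hoe := (X.affineOpenCover.f j).isOpenEmbedding
  have hxr : x ∈ Set.range (X.affineOpenCover.f j) :=
    hspec.mem_open hoe.isOpen_range ⟨z', hz'⟩
  obtain ⟨x', hx'⟩ := hxr
  have hsp' : x' ⤳ z' := by
    rw [← hoe.isInducing.specializes_iff, hx', hz']
    exact hspec
  have hle : (x' : PrimeSpectrum (X.affineOpenCover.X j)).asIdeal ≤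
      (z' : PrimeSpectrum (X.affineOpenCover.X j)).asIdeal :=
    (PrimeSpectrum.le_iff_specializes (x' : PrimeSpectrum (X.affineOpenCover.X j)) z').2 hsp'
  have hπz : (chartHom f j).hom π ∈ (z' : PrimeSpectrum (X.affineOpenCover.X j)).asIdeal := by
    by_contra hcon
    have h1 := (chart_preimage f hπ j z').2 hcon
    rw [hz'] at h1
    have h2 := (notMem_iff_generic hπ (f z : PrimeSpectrum R)).2 h1
    exact h2 hfz'
  haveI := chart_noetherian f j
  haveI hxp : (x' : PrimeSpectrum (X.affineOpenCover.X j)).asIdeal.IsPrime :=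
    (x' : PrimeSpectrum (X.affineOpenCover.X j)).2
  haveI hzp : (z' : PrimeSpectrum (X.affineOpenCover.X j)).asIdeal.IsPrime :=
    (z' : PrimeSpectrum (X.affineOpenCover.X j)).2
  have hred : _root_.IsReduced (Localization.AtPrime
      (x' : PrimeSpectrum (X.affineOpenCover.X j)).asIdeal) :=
    loc_reduced _ (H j).1 (H j).2 _ _ hle hπz
  -- transport to the stalk
  have e1 : X.presheaf.stalk (X.affineOpenCover.f j x') ≅
      (Spec (X.affineOpenCover.X j)).presheaf.stalk x' :=
    asIso ((X.affineOpenCover.f j).stalkMap x')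
  have e2 := Spec.stalkIso (X.affineOpenCover.X j) x'
  have e3 : X.presheaf.stalk x ≅ X.presheaf.stalk (X.affineOpenCover.f j x') :=
    eqToIso (by rw [hx'])
  let e := e3 ≪≫ e1 ≪≫ e2
  haveI : _root_.IsReduced ↑(CommRingCat.of (Localization.AtPrime
      (x' : PrimeSpectrum (X.affineOpenCover.X j)).asIdeal)) := hred
  exact isReduced_of_injective e.hom.hom e.commRingCatIsoToRingEquiv.injective

theorem S0436_main [IsProper f] [Flat f]
    (hred : IsReduced (f.fiber (IsLocalRing.closedPoint R))) :
    IsReduced X ∧ IsReduced (f.fiber (⟨⊥, Ideal.isPrime_bot⟩ : PrimeSpectrum R)) := by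
  obtain ⟨π, hπ⟩ := IsDiscreteValuationRing.exists_irreducible R
  have H := chartHyp_of_flat f hπ hred
  haveI : ∀ x : X, _root_.IsReduced (X.presheaf.stalk x) := stalk_reduced f hπ H
  have hX : IsReduced X := isReduced_of_isReduced_stalk X
  refine ⟨hX, ?_⟩
  apply fiber_reduced_of_charts
  intro j
  letI := chartAlg f j
  haveI : IsReduced (Spec (X.affineOpenCover.X j)) :=
    isReduced_of_isOpenImmersion (X.affineOpenCover.f j)
  haveI : _root_.IsReduced (X.affineOpenCover.X j) := (affine_isReduced_iff _).1 inferInstance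
  exact fiber_bot_reduced R (X.affineOpenCover.X j)

end Groth.Agent.H9.DVF
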