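import Mathlib

/-! Helper9: tame inertia on a DVR is cyclic (S19856) -/

namespace Groth.Agent.H9.DVRCyc

open IsLocalRing

variable {O : Type*} [CommRing O] [IsDomain O] [IsDiscreteValuationRing O]
  {G : Type*} [Group G] [MulSemiringAction G O]

theorem smul_mem_pow (htriv : ∀ (g : G) (a : O), g • a - a ∈ maximalIdeal O) (g : G) (j : ℕ) {y : O}
    (hy : y ∈ maximalIdeal O ^ j) : g • y ∈ maximalIdeal O ^ j := by
  have h1 : maximalIdeal O ≤ (maximalIdeal O).comap (MulSemiringAction.toRingHom G O g) := by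
    intro x hx
    have e : g • x = (g • x - x) + x := by ring
    show g • x ∈ maximalIdeal O
    rw [e]; exact Ideal.add_mem _ (htriv g x) hx
  have h2 : (maximalIdeal O ^ j).map (MulSemiringAction.toRingHom G O g) ≤ maximalIdeal O ^ j := by
    rw [Ideal.map_pow]
    exact Ideal.pow_right_mono (Ideal.map_le_iff_le_comap.mpr h1) j
  exact h2 (Ideal.mem_map_of_mem _ hy)

theorem step (htriv : ∀ (g : G) (a : O), g • a - a ∈ maximalIdeal O)
    (π : O) (hπ : maximalIdeal O = Ideal.span {π}) (g : G) (u : O) (hu : g • π = u * π)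
    (hu1 : u - 1 ∈ maximalIdeal O) (n : ℕ) (hn : g ^ n = 1) (hnu : IsUnit (n : O)) (i : ℕ)
    (P : ∀ a : O, g • a - a ∈ maximalIdeal O ^ i) :
    ∀ a : O, g • a - a ∈ maximalIdeal O ^ (i+1) := by
  -- Step 1
  have s1 : ∀ y ∈ maximalIdeal O ^ i, g • y - y ∈ maximalIdeal O ^ (i+1) := by
    intro y hy
    rw [hπ, Ideal.span_singleton_pow, Ideal.mem_span_singleton'] at hy
    obtain ⟨c, rfl⟩ := hy
    have e : g • (c * π ^ i) - c * π ^ i = (g • c * u ^ i - c) * π ^ i := by
      rw [smul_mul', smul_pow', hu]; ring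
    rw [e, pow_succ']
    apply Ideal.mul_mem_mul
    · have e2 : g • c * u ^ i - c = (g • c - c) * u ^ i + c * (u ^ i - 1) := by ring
      rw [e2]
      apply Ideal.add_mem
      · exact Ideal.mul_mem_right _ _ (htriv g c)
      · apply Ideal.mul_mem_left
        have hd : u - 1 ∣ u ^ i - 1 := by
          have := sub_dvd_pow_sub_pow u 1 i
          simpa using this
        exact Ideal.mem_of_dvd _ hd hu1
    · rw [hπ, Ideal.span_singleton_pow]
      exact Ideal.mem_span_singleton_self _
  -- Step 2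
  have s2 : ∀ (a : O) (k : ℕ), g ^ k • a - a ∈ maximalIdeal O ^ i ∧
      g ^ k • a - a - (k : O) * (g • a - a) ∈ maximalIdeal O ^ (i+1) := by
    intro a k
    induction k with
    | zero => simp
    | succ k ih =>
      obtain ⟨ih1, ih2⟩ := ih
      have e0 : g ^ (k+1) • a = g • (g ^ k • a) := by rw [pow_succ', mul_smul]
      have hb : g • (g ^ k • a - a) ∈ maximalIdeal O ^ i := smul_mem_pow htriv g i ih1
      refine ⟨?_, ?_⟩
      · have e : g ^ (k+1) • a - a = g • (g ^ k • a - a) + (g • a - a) := by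
          rw [e0, smul_sub]; ring
        rw [e]; exact Ideal.add_mem _ hb (P a)
      · have e : g ^ (k+1) • a - a - ((k+1 : ℕ) : O) * (g • a - a)
            = (g • (g ^ k • a - a) - (g ^ k • a - a)) + (g ^ k • a - a - (k : O) * (g • a - a)) := by
          rw [e0, smul_sub]; push_cast; ring
        rw [e]; exact Ideal.add_mem _ (s1 _ ih1) ih2
  intro a
  have h3 := (s2 a n).2
  rw [hn, one_smul, sub_self, zero_sub] at h3
  have h4 : (n : O) * (g • a - a) ∈ maximalIdeal O ^ (i+1) := by
    have := Ideal.neg_mem_iff _ |>.mp h3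
    exact this
  have h5 : g • a - a = (↑(hnu.unit⁻¹) : O) * ((n : O) * (g • a - a)) := by
    rw [← mul_assoc, IsUnit.val_inv_mul, one_mul]
  rw [h5]; exact Ideal.mul_mem_left _ _ h4

theorem ker_trivial [FaithfulSMul G O] (htriv : ∀ (g : G) (a : O), g • a - a ∈ maximalIdeal O)
    (π : O) (hπ : maximalIdeal O = Ideal.span {π}) (g : G) (u : O) (hu : g • π = u * π)
    (hu1 : u - 1 ∈ maximalIdeal O) (n : ℕ) (hn : g ^ n = 1) (hnu : IsUnit (n : O)) : g = 1 := by
  have hall : ∀ i : ℕ, ∀ a : O, g • a - a ∈ maximalIdeal O ^ i := by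
    intro i
    induction i with
    | zero => intro a; simp
    | succ i ih => exact step htriv π hπ g u hu hu1 n hn hnu i ih
  apply FaithfulSMul.eq_of_smul_eq_smul (α := O)
  intro a
  rw [one_smul]
  have h0 : g • a - a ∈ (⨅ i : ℕ, maximalIdeal O ^ i) := by
    rw [Ideal.mem_iInf]; intro i; exact hall i a
  rw [Ideal.iInf_pow_eq_bot_of_isLocalRing (maximalIdeal O) Ideal.IsPrime.ne_top'] at h0
  exact sub_eq_zero.mp h0

theorem main [Finite G] [FaithfulSMul G O]
    (htriv : ∀ (g : G) (a : O), g • a - a ∈ IsLocalRing.maximalIdeal O)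
    (hcard : ((Nat.card G : ℕ) : IsLocalRing.ResidueField O) ≠ 0) :
    IsCyclic G := by
  obtain ⟨π, hπirr⟩ := IsDiscreteValuationRing.exists_irreducible O
  have hπ : maximalIdeal O = Ideal.span {π} := hπirr.maximalIdeal_eq
  have hπ0 : π ≠ 0 := hπirr.ne_zero
  -- the cocycle u
  have hex : ∀ g : G, ∃ u : O, g • π = u * π := by
    intro g
    have h1 : g • π ∈ maximalIdeal O := by
      have := smul_mem_pow htriv g 1 (y := π) (by rw [pow_one, hπ]; exact Ideal.mem_span_singleton_self _)
      simpa using this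
    rw [hπ, Ideal.mem_span_singleton'] at h1
    obtain ⟨u, hu⟩ := h1
    exact ⟨u, hu.symm⟩
  choose u hu using hex
  have huniq : ∀ (g : G) (w : O), g • π = w * π → w = u g := by
    intro g w hw
    have := hw.symm.trans (hu g)
    exact mul_right_cancel₀ hπ0 this
  let χ : G →* ResidueField O :=
    { toFun := fun g => residue O (u g)
      map_one' := by
        have : (1 : O) = u 1 := huniq 1 1 (by simp)
        rw [← this]; simp
      map_mul' := by
        intro g h
        have e : (g * h) • π = (g • u h * u g) * π := by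
          rw [mul_smul, hu h, smul_mul', hu g]; ring
        have := huniq (g * h) _ e
        show residue O (u (g * h)) = residue O (u g) * residue O (u h)
        rw [← this, map_mul]
        have hres : residue O (g • u h) = residue O (u h) := by
          rw [← sub_eq_zero, ← map_sub, residue_eq_zero_iff]
          exact htriv g (u h)
        rw [hres, mul_comm] }
  have hχ : ∀ g, χ g = residue O (u g) := fun g => rfl
  apply isCyclic_of_injective_ringHom χ
  intro g h hgh
  -- χ (g * h⁻¹) = 1
  have h1 : χ (g * h⁻¹) = 1 := by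
    rw [map_mul, hgh, ← map_mul, mul_inv_cancel, map_one]
  have h2 : u (g * h⁻¹) - 1 ∈ maximalIdeal O := by
    rw [← residue_eq_zero_iff, map_sub, ← hχ, h1, map_one, sub_self]
  have hfin : IsOfFinOrder (g * h⁻¹) := isOfFinOrder_of_finite _
  have hn : (g * h⁻¹) ^ orderOf (g * h⁻¹) = 1 := pow_orderOf_eq_one _
  have hdvd : orderOf (g * h⁻¹) ∣ Nat.card G := orderOf_dvd_natCard _
  have hnu : IsUnit ((orderOf (g * h⁻¹) : ℕ) : O) := by
    rw [← IsLocalRing.notMem_maximalIdeal, ← residue_eq_zero_iff, map_natCast]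
    intro h0
    obtain ⟨k, hk⟩ := hdvd
    apply hcard
    rw [hk]; push_cast; rw [h0, zero_mul]
  have := ker_trivial htriv π hπ (g * h⁻¹) (u (g * h⁻¹)) (hu _) h2 _ hn hnu
  exact mul_inv_eq_one.mp this

end Groth.Agent.H9.DVRCyc
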