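import Mathlib

/-! Helper9: DVR valuation bookkeeping for Tate curve torsion -/

namespace Groth.Agent.H9.DVRTate

universe u

variable (O : Type u) [CommRing O] [IsDomain O] [IsDiscreteValuationRing O]
  (L : Type u) [Field L] [Algebra O L] [IsFractionRing O L]

theorem nat_case (ϖ' : O) (hϖ' : Irreducible ϖ') (k : ℕ) (x : Oˣ)
    (h : (algebraMap O L ϖ') ^ k = algebraMap O L x) : k = 0 := by
  by_contra hk
  have h1 : ϖ' ^ k = (x : O) := by
    apply IsFractionRing.injective O L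
    rw [map_pow, h]
  have h2 : ϖ' ∣ (x : O) := by
    rw [← h1]
    exact dvd_pow_self _ hk
  exact hϖ'.not_isUnit (isUnit_of_dvd_unit h2 x.isUnit)

theorem zpow_unit (ϖ' : O) (hϖ' : Irreducible ϖ') (e : ℤ) (x : Oˣ)
    (h : (algebraMap O L ϖ') ^ e = algebraMap O L x) : e = 0 := by
  obtain ⟨k, rfl | rfl⟩ := Int.eq_nat_or_neg e
  · rw [zpow_natCast] at h
    exact_mod_cast nat_case O L ϖ' hϖ' k x h
  · rw [zpow_neg, zpow_natCast] at h
    have h' : (algebraMap O L ϖ') ^ k = algebraMap O L (x⁻¹ : Oˣ) := by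
      have hx : algebraMap O L x * algebraMap O L (x⁻¹ : Oˣ) = 1 := by
        rw [← map_mul, Units.mul_inv, map_one]
      have hx0 : algebraMap O L x ≠ 0 := left_ne_zero_of_mul_eq_one hx
      rw [← h] at hx
      have hp0 : (algebraMap O L ϖ') ^ k ≠ 0 := by
        intro h0; rw [h0, inv_zero, zero_mul] at hx; exact zero_ne_one hx
      field_simp at hx
      exact hx.symm
    have := nat_case O L ϖ' hϖ' k _ h'
    simp [this]

theorem main
    (ϖ' : O) (hϖ' : Irreducible ϖ') (ϖ : O) (hϖ : ϖ ∈ IsLocalRing.maximalIdeal O)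
    (n : ℕ) (hn : 1 ≤ n) (u : Oˣ) (q : O) (hq : q = u * ϖ' ^ n)
    (m : ℕ) (hm : 1 ≤ m) (hmn : m ∣ n) :
    (∃ (w : Oˣ) (a j t : ℤ) (r : O), a = (n / m : ℕ) + t * n ∧
        (algebraMap O L w * algebraMap O L ϖ' ^ a) ^ m * algebraMap O L q ^ j = algebraMap O L (1 + ϖ * r)) ↔
      ∃ y r : O, (u : O) * (y ^ m + ϖ * r) = 1 := by
  have hinj : Function.Injective (algebraMap O L) := IsFractionRing.injective O L
  have hP0 : algebraMap O L ϖ' ≠ 0 := by
    intro h
    exact hϖ'.ne_zero (hinj (h.trans (map_zero _).symm))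
  have hunit1 : ∀ r : O, IsUnit (1 + ϖ * r) := by
    intro r
    have hsum : (1 + ϖ * r) + (-(ϖ * r)) = 1 := by ring
    rcases IsLocalRing.isUnit_or_isUnit_of_add_one hsum with h | h
    · exact h
    · exfalso
      have : ϖ * r ∈ IsLocalRing.maximalIdeal O := Ideal.mul_mem_right _ _ hϖ
      rw [IsLocalRing.mem_maximalIdeal] at this
      exact this (by simpa using h)
  have hnm : ((n / m : ℕ) : ℤ) * m = n := by exact_mod_cast Nat.div_mul_cancel hmn
  constructor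
  · rintro ⟨w, a, j, t, r, ha, hE⟩
    obtain ⟨v, hv⟩ := hunit1 r
    let ψ : Oˣ →* Lˣ := Units.map (algebraMap O L : O →* L)
    let P : Lˣ := Units.mk0 _ hP0
    have hE' : (ψ w * P ^ a) ^ m * (ψ u * P ^ (n : ℤ)) ^ j = ψ v := by
      apply Units.ext
      push_cast
      rw [hq, map_mul, map_pow, ← hv] at hE
      simpa [ψ, P] using hE
    have h1 : (ψ w * P ^ a) ^ m * (ψ u * P ^ (n : ℤ)) ^ j = P ^ (a * m + n * j) * (ψ w ^ m * ψ u ^ j) := by
      rw [mul_pow, mul_zpow, ← zpow_natCast (P ^ a) m, ← zpow_mul, ← zpow_mul, zpow_add]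
      ac_rfl
    rw [h1] at hE'
    have h2 : P ^ (a * m + n * j) = ψ (v * ((w ^ m)⁻¹ * (u ^ j)⁻¹)) := by
      rw [map_mul, ← hE', map_mul, map_inv, map_inv, map_pow, map_zpow]
      have : ψ w ^ m * ψ u ^ j * ((ψ w ^ m)⁻¹ * (ψ u ^ j)⁻¹) = 1 := by
        rw [mul_mul_mul_comm, mul_inv_cancel, mul_inv_cancel, one_mul]
      rw [mul_assoc, this, mul_one]
    have h0 : a * m + n * j = 0 := by
      apply zpow_unit O L ϖ' hϖ' _ (v * ((w ^ m)⁻¹ * (u ^ j)⁻¹))
      have := congrArg Units.val h2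
      rw [Units.val_zpow_eq_zpow_val] at this
      exact this
    rw [h0, zpow_zero, one_mul] at hE'
    have hw : w ^ m * u ^ j = v := by
      apply Units.map_injective (f := (algebraMap O L : O →* L)) hinj
      rw [map_mul, map_pow, map_zpow]
      exact hE'
    have hj : j = -1 - t * m := by
      subst ha
      have h3 : (n : ℤ) * (1 + t * m + j) = 0 := by linear_combination h0 - hnm
      have hn0 : (n : ℤ) ≠ 0 := by exact_mod_cast (by omega : n ≠ 0)
      have := (mul_eq_zero.mp h3).resolve_left hn0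
      omega
    have huj : u ^ j = u⁻¹ * ((u ^ t) ^ m)⁻¹ := by
      rw [hj, zpow_sub, zpow_neg_one, zpow_mul, zpow_natCast]
    have hfin : u * v * (w⁻¹ * u ^ t) ^ m = 1 := by
      rw [← hw, huj, mul_pow, inv_pow]
      calc u * (w ^ m * (u⁻¹ * ((u ^ t) ^ m)⁻¹)) * ((w ^ m)⁻¹ * (u ^ t) ^ m)
          = (u * u⁻¹) * (w ^ m * (w ^ m)⁻¹) * (((u ^ t) ^ m)⁻¹ * (u ^ t) ^ m) := by ac_rfl
        _ = 1 := by simp
    refine ⟨((w⁻¹ * u ^ t : Oˣ) : O), r * ((w⁻¹ * u ^ t : Oˣ) : O) ^ m, ?_⟩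
    have hfin' : (u : O) * (v : O) * ((w⁻¹ * u ^ t : Oˣ) : O) ^ m = 1 := by
      have := congrArg (fun z : Oˣ => (z : O)) hfin
      simpa using this
    rw [hv] at hfin'
    linear_combination hfin'
  · rintro ⟨y, r, hu⟩
    have hyu : IsUnit y := by
      by_contra hy
      have hymem : y ∈ IsLocalRing.maximalIdeal O := (IsLocalRing.mem_maximalIdeal _).mpr hy
      have h1 : y ^ m + ϖ * r ∈ IsLocalRing.maximalIdeal O :=
        Ideal.add_mem _ (Ideal.pow_mem_of_mem _ hymem m (by omega)) (Ideal.mul_mem_right _ _ hϖ)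
      rw [IsLocalRing.mem_maximalIdeal] at h1
      exact h1 (IsUnit.of_mul_eq_one _ (by rw [mul_comm]; exact hu))
    obtain ⟨yu, rfl⟩ := hyu
    refine ⟨yu⁻¹, ((n / m : ℕ) : ℤ) + 0 * n, -1, 0, r * ((yu⁻¹ : Oˣ) : O) ^ m, rfl, ?_⟩
    have hWY : ((yu⁻¹ : Oˣ) : O) ^ m * (yu : O) ^ m = 1 := by
      rw [← mul_pow, Units.inv_mul, one_pow]
    have hO : ((yu⁻¹ : Oˣ) : O) ^ m = u * (1 + ϖ * (r * ((yu⁻¹ : Oˣ) : O) ^ m)) := by
      linear_combination (-((yu⁻¹ : Oˣ) : O) ^ m) * hu + (u : O) * hWY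
    have hU0 : algebraMap O L u ≠ 0 := by
      intro h
      exact u.ne_zero (hinj (h.trans (map_zero _).symm))
    have hO' := congrArg (algebraMap O L) hO
    rw [map_pow, map_mul] at hO'
    rw [zero_mul, add_zero, zpow_natCast, mul_pow, ← pow_mul, Nat.div_mul_cancel hmn, zpow_neg_one, hq,
      map_mul, map_pow, hO']
    field_simp

end Groth.Agent.H9.DVRTate
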