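import Mathlib
import Groth.Agent.Lib.Helper9.UnipFil.Basic
import Groth.Agent.Lib.Helper9.TrigFil.Converse
import Groth.Agent.Lib.Helper9.ComodFlag
import Groth.Agent.Lib.Helper9.ComodChevalley

/-!
# Character filtrations of a bialgebra (helper9)

For a list `L = [χ₁, …, χₙ]` of elements of a bialgebra `B` we define a submodule `tfil L`
recursively: `tfil [] = 0`, `tfil (χ :: L) = {x | Δ x - x ⊗ χ ∈ tfil L ⊗ B}`.
Over a field: `B` is unipotent iff every element lies in some `tfil (replicate n 1)`, and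
trigonalizable iff every element lies in some `tfil L` with `L` a list of group-likes.
The filtration is compatible with base change.
-/

set_option autoImplicit false

universe u v w w'

open TensorProduct WithConv

namespace Groth.Agent.H9.DVU

open Groth.Agent.H9 Groth.Agent.H9.UnipLie Groth.Agent.H9.UnipFil Groth.Agent.H9.TrigFil

section Aux

lemma rTensor_mem_range_of_map_le {R : Type*} [CommRing R] {V V' N : Type*} [AddCommGroup V]
    [Module R V] [AddCommGroup V'] [Module R V'] [AddCommGroup N] [Module R N]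
    (g : V →ₗ[R] V') (U : Submodule R V) (U' : Submodule R V') (h : ∀ u ∈ U, g u ∈ U')
    (t : V ⊗[R] N) (ht : t ∈ LinearMap.range (U.subtype.rTensor N)) :
    g.rTensor N t ∈ LinearMap.range (U'.subtype.rTensor N) := by
  obtain ⟨y, rfl⟩ := ht
  refine ⟨(g.restrict h).rTensor N y, ?_⟩
  have e : U'.subtype ∘ₗ g.restrict h = g ∘ₗ U.subtype := by
    ext u; rfl
  rw [← LinearMap.comp_apply, ← LinearMap.rTensor_comp, e, LinearMap.rTensor_comp,
    LinearMap.comp_apply]

lemma exists_list_lift {α β : Type*} (P : α → Prop) (f : α → β) (L : List β)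
    (h : ∀ y ∈ L, ∃ x, P x ∧ f x = y) : ∃ L₀ : List α, (∀ x ∈ L₀, P x) ∧ L₀.map f = L := by
  induction L with
  | nil => exact ⟨[], by simp, rfl⟩
  | cons y L ih =>
    obtain ⟨x, hx, hxy⟩ := h y (by simp)
    obtain ⟨L₀, hL₀, hL⟩ := ih (fun y hy => h y (by simp [hy]))
    refine ⟨x :: L₀, ?_, by rw [List.map_cons, hxy, hL]⟩
    intro x' hx'
    rcases List.mem_cons.mp hx' with rfl | h'
    · exact hx
    · exact hL₀ _ h'

end Aux

section Def

variable (R : Type u) [CommRing R] (B : Type v) [CommRing B] [Bialgebra R B]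

/-- `x ↦ Δ x - x ⊗ χ` -/
noncomputable def dmap (χ : B) : B →ₗ[R] B ⊗[R] B :=
  (CoalgebraStruct.comul (R := R) (A := B)) - (TensorProduct.mk R B B).flip χ

lemma dmap_apply (χ x : B) :
    dmap R B χ x = CoalgebraStruct.comul (R := R) x - x ⊗ₜ[R] χ := rfl

/-- the filtration attached to a list of characters -/
noncomputable def tfil : List B → Submodule R B
  | [] => ⊥
  | χ :: L => (LinearMap.range ((tfil L).subtype.rTensor B)).comap (dmap R B χ)

lemma tfil_nil : tfil R B [] = ⊥ := rfl

lemma mem_tfil_cons {χ : B} {L : List B} {x : B} :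
    x ∈ tfil R B (χ :: L) ↔
      CoalgebraStruct.comul (R := R) x - x ⊗ₜ[R] χ ∈
        LinearMap.range ((tfil R B L).subtype.rTensor B) := Iff.rfl

end Def

section General

variable (R : Type u) [CommRing R] (S : Type w) [CommRing S] [Algebra R S]
  (M : Type v) [AddCommGroup M] [Module R M] (N : Type w') [AddCommGroup N] [Module R N]

/-- `m ↦ 1 ⊗ m` -/
noncomputable def iota : M →ₗ[R] S ⊗[R] M := TensorProduct.mk R S M 1

lemma iota_apply (m : M) : iota R S M m = (1 : S) ⊗ₜ[R] m := rfl

/-- the natural map `M ⊗ N → (S ⊗ M) ⊗_S (S ⊗ N)` -/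
noncomputable def jmap : M ⊗[R] N →ₗ[R] (S ⊗[R] M) ⊗[S] (S ⊗[R] N) :=
  ((TensorProduct.AlgebraTensorModule.distribBaseChange R S M N).toLinearMap.restrictScalars R) ∘ₗ
    TensorProduct.mk R S (M ⊗[R] N) 1

lemma jmap_tmul (m : M) (n : N) :
    jmap R S M N (m ⊗ₜ[R] n) = ((1 : S) ⊗ₜ[R] m) ⊗ₜ[S] ((1 : S) ⊗ₜ[R] n) := rfl

lemma jmap_apply (t : M ⊗[R] N) :
    jmap R S M N t =
      TensorProduct.AlgebraTensorModule.distribBaseChange R S M N (iota R S (M ⊗[R] N) t) := rfl

lemma exists_iota_eq_of_surjective (hs : Function.Surjective (algebraMap R S)) (z : S ⊗[R] M) :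
    ∃ m : M, iota R S M m = z := by
  induction z using TensorProduct.induction_on with
  | zero => exact ⟨0, map_zero _⟩
  | tmul c b =>
    obtain ⟨a, rfl⟩ := hs c
    refine ⟨a • b, ?_⟩
    rw [iota_apply, TensorProduct.tmul_smul, TensorProduct.smul_tmul', Algebra.smul_def, mul_one]
  | add x y hx hy =>
    obtain ⟨b1, rfl⟩ := hx
    obtain ⟨b2, rfl⟩ := hy
    exact ⟨b1 + b2, map_add _ _ _⟩

end General

section BaseChange

variable (R : Type u) [CommRing R] (S : Type w) [CommRing S] [Algebra R S]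
  (B : Type v) [CommRing B] [Bialgebra R B]

lemma comul_iota (b : B) :
    CoalgebraStruct.comul (R := S) (iota R S B b) =
      jmap R S B B (CoalgebraStruct.comul (R := R) b) := by
  rw [iota_apply, TensorProduct.comul_tmul, CommSemiring.comul_apply]
  generalize CoalgebraStruct.comul (R := R) b = t
  induction t using TensorProduct.induction_on with
  | zero => simp
  | tmul x y =>
    rw [TensorProduct.AlgebraTensorModule.tensorTensorTensorComm_tmul, jmap_tmul]
  | add x y hx hy => rw [TensorProduct.tmul_add, map_add, map_add, hx, hy]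

lemma jmap_mem_range (C : Submodule R B) (F : Submodule S (S ⊗[R] B))
    (h : ∀ c ∈ C, iota R S B c ∈ F) (t : B ⊗[R] B)
    (ht : t ∈ LinearMap.range (C.subtype.rTensor B)) :
    jmap R S B B t ∈ LinearMap.range (F.subtype.rTensor (S ⊗[R] B)) := by
  obtain ⟨y, rfl⟩ := ht
  induction y using TensorProduct.induction_on with
  | zero => rw [map_zero, map_zero]; exact zero_mem _
  | tmul c b =>
    rw [LinearMap.rTensor_tmul, Submodule.subtype_apply, jmap_tmul]
    exact ⟨(⟨(1 : S) ⊗ₜ[R] (c : B), h c c.2⟩ : F) ⊗ₜ[S] ((1 : S) ⊗ₜ[R] b), rfl⟩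
  | add x y hx hy => rw [map_add, map_add]; exact add_mem hx hy

theorem iota_mem_tfil (L : List B) :
    ∀ x ∈ tfil R B L, iota R S B x ∈ tfil S (S ⊗[R] B) (L.map (iota R S B)) := by
  induction L with
  | nil =>
    intro x hx
    rw [tfil_nil, Submodule.mem_bot] at hx
    rw [hx, map_zero]; exact zero_mem _
  | cons χ L ih =>
    intro x hx
    rw [List.map_cons, mem_tfil_cons]
    rw [mem_tfil_cons] at hx
    have h1 := jmap_mem_range R S B _ _ ih _ hx
    rw [map_sub, jmap_tmul, ← comul_iota] at h1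
    exact h1

lemma isGroupLikeElem_iota {χ : B} (hχ : IsGroupLikeElem R χ) :
    IsGroupLikeElem S (iota R S B χ) := by
  constructor
  · rw [iota_apply, TensorProduct.counit_tmul, hχ.counit_eq_one, CommSemiring.counit_apply,
      one_smul]
  · rw [comul_iota, hχ.comul_eq_tmul_self, jmap_tmul]; rfl

end BaseChange

section Field

variable {k : Type u} [Field k] {A : Type v} [CommRing A] [Bialgebra k A]

theorem prod_apply_eq_zero (L : List A) : ∀ a ∈ tfil k A L, ∀ l : List (WithConv (A →ₗ[k] k)),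
    L.length ≤ l.length → (∀ θ ∈ l, ∀ χ ∈ L, θ.ofConv χ = 0) → l.prod.ofConv a = 0 := by
  induction L with
  | nil =>
    intro a ha l _ _
    rw [tfil_nil, Submodule.mem_bot] at ha
    rw [ha, map_zero]
  | cons χ L ih =>
    intro a ha l hlen hl
    rw [mem_tfil_cons] at ha
    have hne : l ≠ [] := by
      intro h; rw [h] at hlen; simp at hlen
    obtain ⟨l', θ, rfl⟩ : ∃ l' θ, l = l' ++ [θ] :=
      ⟨l.dropLast, l.getLast hne, (List.dropLast_append_getLast hne).symm⟩
    rw [List.length_append, List.length_singleton, List.length_cons] at hlen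
    have hθ : θ.ofConv χ = 0 := hl θ (by simp) χ (by simp)
    have hl' : ∀ θ' ∈ l', ∀ χ' ∈ L, θ'.ofConv χ' = 0 :=
      fun θ' h χ' hχ' => hl θ' (by simp [h]) χ' (by simp [hχ'])
    rw [List.prod_append, List.prod_singleton, LinearMap.convMul_apply]
    have h1 : CoalgebraStruct.comul (R := k) a =
        (CoalgebraStruct.comul (R := k) a - a ⊗ₜ[k] χ) + a ⊗ₜ[k] χ := (sub_add_cancel _ _).symm
    rw [h1, map_add, map_add, TensorProduct.map_tmul, LinearMap.mul'_apply, hθ, mul_zero, add_zero]
    obtain ⟨y, hy⟩ := ha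
    rw [← hy]
    have h2 : (LinearMap.mul' k k) ∘ₗ (TensorProduct.map l'.prod.ofConv θ.ofConv) ∘ₗ
        ((tfil k A L).subtype.rTensor A) = 0 := by
      apply TensorProduct.ext'
      intro f b
      simp only [LinearMap.comp_apply, LinearMap.rTensor_tmul, Submodule.subtype_apply,
        TensorProduct.map_tmul, LinearMap.mul'_apply, LinearMap.zero_apply]
      rw [ih f f.2 l' (by omega) hl', zero_mul]
    exact LinearMap.congr_fun h2 y

theorem isUnipotent_of_tfil (h : ∀ a : A, ∃ n : ℕ, a ∈ tfil k A (List.replicate n 1)) :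
    HopfRep.IsUnipotent k A := by
  apply isUnipotent_of_kills
  intro a
  obtain ⟨n, hn⟩ := h a
  refine ⟨n, fun m hm l hl hl1 => ?_⟩
  apply prod_apply_eq_zero _ a hn l
  · rw [List.length_replicate, hl]; exact hm
  · intro θ hθ χ hχ
    rw [List.eq_of_mem_replicate hχ]
    exact hl1 θ hθ

theorem isTrigonalizable_of_tfil
    (h : ∀ a : A, ∃ L : List A, (∀ χ ∈ L, IsGroupLikeElem k χ) ∧ a ∈ tfil k A L) :
    HopfRep.IsTrigonalizable k A := by
  apply isTrigonalizable_of_killsG
  intro a
  obtain ⟨L, hL, ha⟩ := h a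
  refine ⟨L.length, fun m hm l hl hl1 => ?_⟩
  apply prod_apply_eq_zero _ a ha l
  · rw [hl]; exact hm
  · intro θ hθ χ hχ
    exact hl1 θ hθ χ (hL χ hχ)

theorem exists_mem_tfil_of_isUnipotent (hU : HopfRep.IsUnipotent k A) (a : A) :
    ∃ n : ℕ, a ∈ tfil k A (List.replicate n 1) := by
  obtain ⟨W, hfin, hv, hW⟩ := Comod.exists_finite_subcomod_mem (k := k) (A := A) (V := A) a
  obtain ⟨F, hmono, -, hrank, htop, hstep⟩ := Comod.exists_flag_of_isUnipotent
    (c := ComodSub.Comod.restr (HopfRep.Comod.regular k A) W hW) hU W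
  have h0 : F 0 = ⊥ := Submodule.finrank_eq_zero.mp (hrank 0 (Nat.zero_le _))
  have key : ∀ i, ∀ w ∈ F i, (w : A) ∈ tfil k A (List.replicate i 1) := by
    intro i
    induction i with
    | zero =>
      intro w hw
      rw [h0, Submodule.mem_bot] at hw
      rw [hw]; exact zero_mem _
    | succ i ih =>
      intro w hw
      rw [List.replicate_succ, mem_tfil_cons]
      have h1 := hstep i w hw
      have h2 := rTensor_mem_range_of_map_le (N := A) W.subtype (F i)
        (tfil k A (List.replicate i 1)) ih _ h1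
      rw [map_sub, LinearMap.rTensor_tmul] at h2
      have h3 := ComodSub.restr_coact_coe (HopfRep.Comod.regular k A) W hW w
      rw [h3] at h2
      exact h2
  exact ⟨Module.finrank k W, key (Module.finrank k W) ⟨a, hv⟩ (by rw [htop _ le_rfl]; trivial)⟩

/-- step with a character -/
def CharStep (X : Type w) [AddCommGroup X] [Module k X] (c : HopfRep.Comod k A X)
    (U U' : Submodule k X) : Prop :=
  ∃ χ : A, IsGroupLikeElem k χ ∧
    ∀ v ∈ U', c.coact v - v ⊗ₜ[k] χ ∈ LinearMap.range (U.subtype.rTensor A)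

lemma charStep_top (X : Type w) [AddCommGroup X] [Module k X] (c : HopfRep.Comod k A X) :
    CharStep X c ⊤ ⊤ := by
  refine ⟨1, IsGroupLikeElem.one, fun v _ => ?_⟩
  rw [Comod.mem_range_rTensor_iff_slice]
  intro φ
  trivial

lemma charStep_pull (X : Type w) [AddCommGroup X] [Module k X] (c : HopfRep.Comod k A X)
    (L : Submodule k X) (hL : @HopfRep.IsSubcomod k A _ _ _ _ X _ _ c L)
    (U U' : Submodule k (X ⧸ L)) (h : CharStep (X ⧸ L) (ComodSub.Comod.quot c L hL) U U') :
    CharStep X c (U.comap L.mkQ) (U'.comap L.mkQ) := by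
  obtain ⟨χ, hχ, h⟩ := h
  refine ⟨χ, hχ, fun v hv => ?_⟩
  rw [Comod.mem_range_rTensor_iff_slice]
  intro φ
  rw [Submodule.mem_comap, ← Comod.slice_rTensor]
  have h1 := h (L.mkQ v) hv
  rw [Comod.mem_range_rTensor_iff_slice] at h1
  have h2 := h1 φ
  rw [map_sub, LinearMap.rTensor_tmul]
  exact h2

lemma exists_line_of_trig' (hT : HopfRep.IsTrigonalizable k A) (X : Type v) [AddCommGroup X]
    [Module k X] (c : HopfRep.Comod k A X) (hfin : Module.Finite k X) (hnt : Nontrivial X) :
    ∃ L : Submodule k X, @HopfRep.IsSubcomod k A _ _ _ _ X _ _ c L ∧ Module.finrank k L = 1 ∧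
      CharStep X c ⊥ L := by
  let _ := c
  obtain ⟨S, -, hS⟩ := Comod.exists_simpleSub_le (A := A) (⊤ : Submodule k X)
    Comod.isSubcomod_top top_ne_bot
  have h1 : Module.finrank k S = 1 :=
    @hT S _ _ (ComodSub.Comod.restr c S hS.1) inferInstance hS.isSimpleComod_restr
  obtain ⟨v₀, hv₀⟩ := finrank_eq_one_iff'.mp h1
  have hv₀0 : (v₀ : X) ≠ 0 := fun h => hv₀.1 (Subtype.ext h)
  have hspan : S = Submodule.span k {(v₀ : X)} := by
    apply le_antisymm
    · intro w hw
      obtain ⟨a, ha⟩ := hv₀.2 ⟨w, hw⟩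
      rw [Submodule.mem_span_singleton]
      exact ⟨a, congrArg Subtype.val ha⟩
    · rw [Submodule.span_le, Set.singleton_subset_iff]
      exact v₀.2
  have h2 : c.coact (v₀ : X) ∈ LinearMap.range ((Submodule.span k {(v₀ : X)}).subtype.rTensor A) := by
    rw [← hspan]
    exact hS.1 v₀ v₀.2
  obtain ⟨χ, hχ⟩ := Chevalley.exists_eq_tmul_of_mem_range_span_singleton (v₀ : X) _ h2
  have hχg : IsGroupLikeElem k χ := by
    apply Chevalley.isGroupLikeElem_of_eigen (BialgHom.id k A) c hv₀0 (χ := χ)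
    rw [← hχ]
    show (LinearMap.id : A →ₗ[k] A).lTensor X (c.coact (v₀ : X)) = _
    rw [LinearMap.lTensor_id, LinearMap.id_apply]
  refine ⟨S, hS.1, h1, χ, hχg, ?_⟩
  intro v hv
  rw [hspan, Submodule.mem_span_singleton] at hv
  obtain ⟨a, rfl⟩ := hv
  rw [map_smul, hχ, TensorProduct.smul_tmul', sub_self]
  exact zero_mem _

theorem exists_cflag (hT : HopfRep.IsTrigonalizable k A) (V : Type v) [AddCommGroup V]
    [Module k V] [c : HopfRep.Comod k A V] [Module.Finite k V] :
    ∃ F : ℕ → Submodule k V, Monotone F ∧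
      (∀ i, HopfRep.IsSubcomod (k := k) (A := A) (F i)) ∧
      (∀ i, i ≤ Module.finrank k V → Module.finrank k (F i) = i) ∧
      (∀ i, Module.finrank k V ≤ i → F i = ⊤) ∧
      ∀ i, CharStep V c (F i) (F (i + 1)) := by
  exact Comod.exists_flag (k := k) (A := A) (fun X _ _ c => CharStep X c) charStep_top charStep_pull
    (fun X _ _ c hfin hnt => exists_line_of_trig' hT X c hfin hnt)
    (Module.finrank k V) V c rfl

theorem exists_mem_tfil_of_isTrigonalizable (hT : HopfRep.IsTrigonalizable k A) (a : A) :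
    ∃ L : List A, (∀ χ ∈ L, IsGroupLikeElem k χ) ∧ a ∈ tfil k A L := by
  obtain ⟨W, hfin, hv, hW⟩ := Comod.exists_finite_subcomod_mem (k := k) (A := A) (V := A) a
  obtain ⟨F, hmono, -, hrank, htop, hstep⟩ := exists_cflag
    (c := ComodSub.Comod.restr (HopfRep.Comod.regular k A) W hW) hT W
  have h0 : F 0 = ⊥ := Submodule.finrank_eq_zero.mp (hrank 0 (Nat.zero_le _))
  have key : ∀ i, ∃ L : List A, (∀ χ ∈ L, IsGroupLikeElem k χ) ∧
      ∀ w ∈ F i, (w : A) ∈ tfil k A L := by
    intro i
    induction i with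
    | zero =>
      refine ⟨[], by simp, fun w hw => ?_⟩
      rw [h0, Submodule.mem_bot] at hw
      rw [hw]; exact zero_mem _
    | succ i ih =>
      obtain ⟨L, hL, ih⟩ := ih
      obtain ⟨χ, hχ, hs⟩ := hstep i
      refine ⟨χ :: L, ?_, ?_⟩
      · intro χ' hχ'
        rcases List.mem_cons.mp hχ' with rfl | h
        · exact hχ
        · exact hL _ h
      · intro w hw
        rw [mem_tfil_cons]
        have h1 := hs w hw
        have h2 := rTensor_mem_range_of_map_le (N := A) W.subtype (F i) (tfil k A L) ih _ h1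
        rw [map_sub, LinearMap.rTensor_tmul] at h2
        have h3 := ComodSub.restr_coact_coe (HopfRep.Comod.regular k A) W hW w
        rw [h3] at h2
        exact h2
  obtain ⟨L, hL, h⟩ := key (Module.finrank k W)
  exact ⟨L, hL, h ⟨a, hv⟩ (by rw [htop _ le_rfl]; trivial)⟩

end Field

end Groth.Agent.H9.DVU
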