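import Mathlib
import Groth.Agent.Lib.Helper9.Misc.DVU1
import Groth.Agent.Lib.Helper9.ComodExtSimple

/-!
# Unipotent / trigonalizable generic fibre implies the same for the special fibre (helper9)

`A` a local domain (a DVR for the trigonalizable case) with fraction field `K`, `H` a flat
`A`-bialgebra.  The character filtrations `tfil` of `H` are saturated, and membership can be
tested after base change to `K`.
-/

set_option autoImplicit false

universe u v w w'

open TensorProduct

namespace Groth.Agent.H9.DVU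

section ModI

lemma mem_smul_top_of_tmul_self (R : Type u) [CommRing R] (M : Type v) [AddCommGroup M]
    [Module R M] (I : Ideal R) [I.IsMaximal] (h : M) (a : R) (ha : a ∈ I) (t : M ⊗[R] M)
    (e : h ⊗ₜ[R] h = a • t) : h ∈ I • (⊤ : Submodule R M) := by
  letI : Field (R ⧸ I) := Ideal.Quotient.field I
  have h1 : jmap R (R ⧸ I) M M (h ⊗ₜ[R] h) = 0 := by
    rw [e, map_smul, ← algebraMap_smul (R ⧸ I) a, Ideal.Quotient.algebraMap_eq,
      Ideal.Quotient.eq_zero_iff_mem.mpr ha, zero_smul]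
  rw [jmap_tmul] at h1
  have h2 : (1 : R ⧸ I) ⊗ₜ[R] h = 0 := by
    by_contra hne
    exact ExtSimple.tmul_ne_zero_of_ne_zero hne hne h1
  have h3 := TensorProduct.quotTensorEquivQuotSMul_mk_one_tmul (M := M) I h
  rw [h2, map_zero] at h3
  exact (Submodule.Quotient.mk_eq_zero _).mp h3.symm

end ModI

section Domain

variable (A : Type u) [CommRing A] [IsDomain A] (K : Type w) [Field K] [Algebra A K]
  [IsFractionRing A K]

lemma iota_injective (M : Type v) [AddCommGroup M] [Module A M] [Module.Flat A M] :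
    Function.Injective (iota A K M) := by
  have h1 : Function.Injective ((Algebra.linearMap A K).rTensor M) :=
    Module.Flat.rTensor_preserves_injective_linearMap _ (IsFractionRing.injective A K)
  have h2 : iota A K M =
      (Algebra.linearMap A K).rTensor M ∘ₗ (TensorProduct.lid A M).symm.toLinearMap := by
    ext m; simp [iota]
  rw [h2, LinearMap.coe_comp]
  exact h1.comp (TensorProduct.lid A M).symm.injective

lemma add_step {X Y : Type*} [AddCommGroup X] [Module A X] [AddCommGroup Y] [Module A Y]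
    (g : Y →ₗ[A] X) {x1 x2 : X}
    (h1 : ∃ s : A, s ≠ 0 ∧ ∃ w : Y, s • x1 = g w) (h2 : ∃ s : A, s ≠ 0 ∧ ∃ w : Y, s • x2 = g w) :
    ∃ s : A, s ≠ 0 ∧ ∃ w : Y, s • (x1 + x2) = g w := by
  obtain ⟨s1, hs1, w1, e1⟩ := h1
  obtain ⟨s2, hs2, w2, e2⟩ := h2
  refine ⟨s1 * s2, mul_ne_zero hs1 hs2, s2 • w1 + s1 • w2, ?_⟩
  rw [smul_add, map_add, map_smul, map_smul, ← e1, ← e2, mul_smul, mul_smul, smul_comm s1 s2 x1]

lemma exists_smul_eq_iota (M : Type v) [AddCommGroup M] [Module A M] (y : K ⊗[A] M) :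
    ∃ s : A, s ≠ 0 ∧ ∃ m : M, s • y = iota A K M m := by
  induction y using TensorProduct.induction_on with
  | zero => exact ⟨1, one_ne_zero, 0, by simp⟩
  | tmul c m =>
    obtain ⟨⟨a, s⟩, h⟩ := IsLocalization.surj (nonZeroDivisors A) c
    refine ⟨(s : A), nonZeroDivisors.ne_zero s.2, a • m, ?_⟩
    have e : (s : A) • c = a • (1 : K) := by
      rw [Algebra.smul_def, Algebra.smul_def, mul_one, mul_comm]; exact h
    rw [TensorProduct.smul_tmul', iota_apply, TensorProduct.tmul_smul, TensorProduct.smul_tmul', e]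
  | add x y hx hy => exact add_step A (iota A K M) hx hy

/-- saturated submodules -/
def IsSat {M : Type*} [AddCommGroup M] [Module A M] (C : Submodule A M) : Prop :=
  ∀ s : A, s ≠ 0 → ∀ m : M, s • m ∈ C → m ∈ C

lemma isSat_range_rTensor {M : Type*} [AddCommGroup M] [Module A M] {N : Type*} [AddCommGroup N]
    [Module A N] [Module.Flat A N] (C : Submodule A M) (hC : IsSat A C) :
    IsSat A (LinearMap.range (C.subtype.rTensor N)) := by
  intro s hs t ht
  rw [← rTensor_mkQ, LinearMap.mem_ker] at ht ⊢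
  rw [map_smul] at ht
  let f : (M ⧸ C) →ₗ[A] (M ⧸ C) := s • LinearMap.id
  have hf : Function.Injective f := by
    rw [← LinearMap.ker_eq_bot, LinearMap.ker_eq_bot']
    intro q hq
    obtain ⟨m, rfl⟩ := C.mkQ_surjective q
    have h1 : s • m ∈ C := by
      rw [← Submodule.Quotient.mk_eq_zero]; exact hq
    exact (Submodule.Quotient.mk_eq_zero C).mpr (hC s hs m h1)
  have hf' := Module.Flat.rTensor_preserves_injective_linearMap (M := N) f hf
  apply hf'
  rw [map_zero]
  have e : f.rTensor N = s • LinearMap.id := by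
    rw [LinearMap.rTensor_smul, LinearMap.rTensor_id]
  rw [e]; exact ht

variable (H : Type v) [CommRing H] [Bialgebra A H] [Module.Flat A H]

lemma jmap_injective : Function.Injective (jmap A K H H) := by
  have h1 : Function.Injective (iota A K (H ⊗[A] H)) := iota_injective A K (H ⊗[A] H)
  intro x y hxy
  apply h1
  exact (TensorProduct.AlgebraTensorModule.distribBaseChange A K H H).injective hxy

lemma exists_smul_mem_range (F : Submodule K (K ⊗[A] H)) (C : Submodule A H)
    (hFC : ∀ h : H, iota A K H h ∈ F → h ∈ C) (z : H ⊗[A] H)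
    (hz : jmap A K H H z ∈ LinearMap.range (F.subtype.rTensor (K ⊗[A] H))) :
    ∃ s : A, s ≠ 0 ∧ s • z ∈ LinearMap.range (C.subtype.rTensor H) := by
  obtain ⟨y, hy⟩ := hz
  let g : C ⊗[A] H →ₗ[A] (K ⊗[A] H) ⊗[K] (K ⊗[A] H) := jmap A K H H ∘ₗ C.subtype.rTensor H
  have addStep : ∀ x1 x2 : (K ⊗[A] H) ⊗[K] (K ⊗[A] H),
      (∃ s : A, s ≠ 0 ∧ ∃ w : C ⊗[A] H, s • x1 = g w) →
      (∃ s : A, s ≠ 0 ∧ ∃ w : C ⊗[A] H, s • x2 = g w) →
      ∃ s : A, s ≠ 0 ∧ ∃ w : C ⊗[A] H, s • (x1 + x2) = g w := by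
    rintro x1 x2 ⟨s1, hs1, w1, e1⟩ ⟨s2, hs2, w2, e2⟩
    refine ⟨s1 * s2, mul_ne_zero hs1 hs2, s2 • w1 + s1 • w2, ?_⟩
    rw [smul_add, map_add, map_smul, map_smul, ← e1, ← e2, mul_smul, mul_smul,
      smul_comm s1 s2 x1]
  have key : ∀ y : F ⊗[K] (K ⊗[A] H), ∃ s : A, s ≠ 0 ∧ ∃ w : C ⊗[A] H,
      s • (F.subtype.rTensor (K ⊗[A] H) y) = g w := by
    intro y
    induction y using TensorProduct.induction_on with
    | zero => exact ⟨1, one_ne_zero, 0, by simp⟩
    | tmul f u =>
      induction u using TensorProduct.induction_on with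
      | zero => exact ⟨1, one_ne_zero, 0, by simp⟩
      | tmul c h =>
        obtain ⟨s, hs, m, hm⟩ := exists_smul_eq_iota A K H (c • (f : K ⊗[A] H))
        have hmF : iota A K H m ∈ F := by
          rw [← hm, ← algebraMap_smul K s]
          exact F.smul_mem _ (F.smul_mem _ f.2)
        refine ⟨s, hs, (⟨m, hFC m hmF⟩ : C) ⊗ₜ[A] h, ?_⟩
        have e1 : (c ⊗ₜ[A] h : K ⊗[A] H) = c • ((1 : K) ⊗ₜ[A] h) := by
          rw [TensorProduct.smul_tmul', smul_eq_mul, mul_one]
        show s • (F.subtype.rTensor (K ⊗[A] H) (f ⊗ₜ[K] (c ⊗ₜ[A] h))) =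
          jmap A K H H (C.subtype.rTensor H ((⟨m, hFC m hmF⟩ : C) ⊗ₜ[A] h))
        rw [LinearMap.rTensor_tmul, LinearMap.rTensor_tmul, Submodule.subtype_apply,
          Submodule.subtype_apply, jmap_tmul, e1, TensorProduct.tmul_smul,
          TensorProduct.smul_tmul', TensorProduct.smul_tmul', hm]
        rfl
      | add u1 u2 h1 h2 =>
        rw [TensorProduct.tmul_add, map_add]
        exact addStep _ _ h1 h2
    | add y1 y2 h1 h2 =>
      rw [map_add]
      exact addStep _ _ h1 h2
  obtain ⟨s, hs, w, e⟩ := key y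
  refine ⟨s, hs, w, ?_⟩
  apply jmap_injective A K H
  rw [map_smul, ← hy]
  exact e.symm

lemma isSat_tfil (L : List H) : IsSat A (tfil A H L) := by
  induction L with
  | nil =>
    intro s hs m hm
    rw [tfil_nil, Submodule.mem_bot] at hm ⊢
    apply iota_injective A (FractionRing A) H
    rw [map_zero]
    have h1 : s • iota A (FractionRing A) H m = 0 := by rw [← map_smul, hm, map_zero]
    rw [← algebraMap_smul (FractionRing A) s] at h1
    refine (smul_eq_zero.mp h1).resolve_left ?_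
    intro h0
    exact hs ((map_eq_zero_iff _ (IsFractionRing.injective A (FractionRing A))).mp h0)
  | cons χ L ih =>
    intro s hs m hm
    rw [mem_tfil_cons] at hm ⊢
    have h1 : s • (CoalgebraStruct.comul (R := A) m - m ⊗ₜ[A] χ) ∈
        LinearMap.range ((tfil A H L).subtype.rTensor H) := by
      rw [smul_sub, ← map_smul, TensorProduct.smul_tmul']; exact hm
    exact isSat_range_rTensor A _ ih s hs _ h1

theorem mem_tfil_of_iota_mem (L : List H) : ∀ a : H,
    iota A K H a ∈ tfil K (K ⊗[A] H) (L.map (iota A K H)) → a ∈ tfil A H L := by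
  induction L with
  | nil =>
    intro a ha
    rw [List.map_nil, tfil_nil, Submodule.mem_bot] at ha
    rw [tfil_nil, Submodule.mem_bot]
    exact iota_injective A K H (by rw [ha, map_zero])
  | cons χ L ih =>
    intro a ha
    rw [List.map_cons, mem_tfil_cons] at ha
    have e : jmap A K H H (CoalgebraStruct.comul (R := A) a - a ⊗ₜ[A] χ) =
        CoalgebraStruct.comul (R := K) (iota A K H a) -
          iota A K H a ⊗ₜ[K] iota A K H χ := by
      rw [map_sub, jmap_tmul, comul_iota]; rfl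
    rw [← e] at ha
    obtain ⟨s, hs, h1⟩ := exists_smul_mem_range A K H _ (tfil A H L) ih _ ha
    rw [mem_tfil_cons]
    exact isSat_range_rTensor A _ (isSat_tfil A H L) s hs _ h1

theorem isUnipotent_residue [IsLocalRing A] (hK : HopfRep.IsUnipotent K (K ⊗[A] H)) :
    HopfRep.IsUnipotent (IsLocalRing.ResidueField A) (IsLocalRing.ResidueField A ⊗[A] H) := by
  apply isUnipotent_of_tfil
  intro z
  obtain ⟨a, rfl⟩ := exists_iota_eq_of_surjective A (IsLocalRing.ResidueField A) H
    IsLocalRing.residue_surjective z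
  obtain ⟨n, hn⟩ := exists_mem_tfil_of_isUnipotent hK (iota A K H a)
  have h1 : (List.replicate n (1 : K ⊗[A] H)) = (List.replicate n (1 : H)).map (iota A K H) := by
    rw [List.map_replicate]; rfl
  rw [h1] at hn
  have h2 := mem_tfil_of_iota_mem A K H _ a hn
  have h3 := iota_mem_tfil A (IsLocalRing.ResidueField A) H _ a h2
  rw [List.map_replicate] at h3
  exact ⟨n, h3⟩

theorem exists_groupLike_iota [IsDiscreteValuationRing A] (χ : K ⊗[A] H)
    (hχ : IsGroupLikeElem K χ) : ∃ χ₀ : H, IsGroupLikeElem A χ₀ ∧ iota A K H χ₀ = χ := by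
  classical
  obtain ⟨ϖ, hϖ⟩ := IsDiscreteValuationRing.exists_irreducible A
  have hϖ0 : (algebraMap A K ϖ) ≠ 0 := by
    rw [map_ne_zero_iff _ (IsFractionRing.injective A K)]; exact hϖ.ne_zero
  have hex : ∃ m : ℕ, ∃ h : H, iota A K H h = (ϖ ^ m) • χ := by
    obtain ⟨s, hs, h, hh⟩ := exists_smul_eq_iota A K H χ
    obtain ⟨n, u, hu⟩ := IsDiscreteValuationRing.eq_unit_mul_pow_irreducible hs hϖ
    refine ⟨n, (↑u⁻¹ : A) • h, ?_⟩
    rw [map_smul, ← hh, hu, mul_smul, smul_smul, Units.inv_mul, one_smul]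
  cases hm : Nat.find hex with
  | zero =>
    obtain ⟨h, hh⟩ := Nat.find_spec hex
    rw [hm, pow_zero, one_smul] at hh
    refine ⟨h, ?_, hh⟩
    constructor
    · have h1 := hχ.counit_eq_one
      rw [← hh, iota_apply, TensorProduct.counit_tmul, CommSemiring.counit_apply,
        Algebra.smul_def, mul_one] at h1
      exact IsFractionRing.injective A K (by rw [h1, map_one])
    · apply jmap_injective A K H
      rw [← comul_iota, jmap_tmul, ← iota_apply A K H h, hh]
      exact hχ.comul_eq_tmul_self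
  | succ m' =>
    exfalso
    obtain ⟨h, hh⟩ := Nat.find_spec hex
    rw [hm] at hh
    have e1 : h ⊗ₜ[A] h = (ϖ ^ (m' + 1)) • CoalgebraStruct.comul (R := A) h := by
      apply jmap_injective A K H
      rw [map_smul, jmap_tmul, ← comul_iota, ← iota_apply A K H h, hh]
      have hc : ∀ z : (K ⊗[A] H) ⊗[K] (K ⊗[A] H),
          (ϖ ^ (m' + 1)) • z = (algebraMap A K (ϖ ^ (m' + 1))) • z :=
        fun z => (algebraMap_smul K _ z).symm
      have hc' : (ϖ ^ (m' + 1)) • χ = (algebraMap A K (ϖ ^ (m' + 1))) • χ :=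
        (algebraMap_smul K _ χ).symm
      rw [hc, hc', map_smul, hχ.comul_eq_tmul_self, TensorProduct.tmul_smul,
        ← TensorProduct.smul_tmul']
    have h2 : h ∈ (IsLocalRing.maximalIdeal A) • (⊤ : Submodule A H) :=
      mem_smul_top_of_tmul_self A H (IsLocalRing.maximalIdeal A) h (ϖ ^ (m' + 1))
        (by
          rw [hϖ.maximalIdeal_eq]
          exact Ideal.mem_span_singleton.mpr (dvd_pow_self ϖ (Nat.succ_ne_zero m'))) _ e1
    rw [hϖ.maximalIdeal_eq, Submodule.ideal_span_singleton_smul,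
      Submodule.mem_smul_pointwise_iff_exists] at h2
    obtain ⟨h', -, rfl⟩ := h2
    have h3 : iota A K H h' = (ϖ ^ m') • χ := by
      have h4 : (algebraMap A K ϖ) • iota A K H h' = (algebraMap A K ϖ) • ((ϖ ^ m') • χ) := by
        rw [algebraMap_smul, algebraMap_smul, ← map_smul, hh, smul_smul, ← pow_succ']
      exact smul_right_injective (K ⊗[A] H) hϖ0 h4
    exact Nat.find_min hex (by rw [hm]; exact Nat.lt_succ_self m') ⟨h', h3⟩

theorem isTrigonalizable_residue [IsDiscreteValuationRing A]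
    (hK : HopfRep.IsTrigonalizable K (K ⊗[A] H)) :
    HopfRep.IsTrigonalizable (IsLocalRing.ResidueField A)
      (IsLocalRing.ResidueField A ⊗[A] H) := by
  apply isTrigonalizable_of_tfil
  intro z
  obtain ⟨a, rfl⟩ := exists_iota_eq_of_surjective A (IsLocalRing.ResidueField A) H
    IsLocalRing.residue_surjective z
  obtain ⟨L, hL, ha⟩ := exists_mem_tfil_of_isTrigonalizable hK (iota A K H a)
  obtain ⟨L₀, hL₀, rfl⟩ := exists_list_lift (fun χ₀ : H => IsGroupLikeElem A χ₀) (iota A K H) L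
    (fun χ hχ => exists_groupLike_iota A K H χ (hL χ hχ))
  have h2 := mem_tfil_of_iota_mem A K H L₀ a ha
  have h3 := iota_mem_tfil A (IsLocalRing.ResidueField A) H L₀ a h2
  refine ⟨L₀.map (iota A _ H), ?_, h3⟩
  intro χ hχ
  obtain ⟨χ₀, hχ₀, rfl⟩ := List.mem_map.mp hχ
  exact isGroupLikeElem_iota A _ H (hL₀ χ₀ hχ₀)

end Domain

end Groth.Agent.H9.DVU
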