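import Mathlib

set_option autoImplicit false
set_option linter.style.haveILetI false
set_option linter.unusedSectionVars false
set_option linter.unusedVariables false

universe u

open CategoryTheory AlgebraicGeometry TopologicalSpace Topology Opposite

namespace Groth.Agent.H9.DZT

/-- On a scheme with discrete topology the ring of global sections is the product of the stalks. -/
theorem germ_bijective (X : Scheme.{u}) [DiscreteTopology ↥X] :
    Function.Bijective (fun s : Γ(X, ⊤) => fun x : X => X.presheaf.germ ⊤ x trivial s) := by
  constructor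
  · intro s t hst
    apply TopCat.Presheaf.section_ext X.sheaf ⊤ s t
    intro x hx
    exact congrFun hst x
  · intro t
    let V : X → X.Opens := fun x => ⟨{x}, isOpen_discrete _⟩
    have hxV : ∀ x : X, x ∈ V x := fun x => Set.mem_singleton x
    choose U hxU s hs using fun x : X => TopCat.Presheaf.exists_germ_eq X.presheaf (x := x) (t x)
    have hVU : ∀ x, V x ≤ U x := fun x y hy => by
      have : y = x := hy
      rw [this]; exact hxU x
    let sf : ∀ x : X, Γ(X, V x) := fun x => X.presheaf.map (homOfLE (hVU x)).op (s x)
    have hcompat : TopCat.Presheaf.IsCompatible X.presheaf V sf := by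
      intro x y
      rcases eq_or_ne x y with rfl | hne
      · rfl
      · have hbot : V x ⊓ V y = ⊥ := by
          ext z
          simp only [Opens.coe_inf, Set.mem_inter_iff, SetLike.mem_coe, Opens.coe_bot,
            Set.mem_empty_iff_false, iff_false, not_and]
          intro h1 h2
          have e1 : z = x := h1
          have e2 : z = y := h2
          exact hne (e1.symm.trans e2)
        have hsub : Subsingleton Γ(X, V x ⊓ V y) := by
          rw [hbot]
          infer_instance
        exact Subsingleton.elim _ _
    obtain ⟨g, hg, -⟩ := X.sheaf.existsUnique_gluing' V ⊤ (fun x => homOfLE le_top)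
      (fun x _ => Opens.mem_iSup.mpr ⟨x, hxV x⟩) sf hcompat
    refine ⟨g, ?_⟩
    funext x
    change X.presheaf.germ ⊤ x trivial g = t x
    rw [← hs x]
    have h1 : X.presheaf.germ ⊤ x trivial g = X.presheaf.germ (V x) x (hxV x) (sf x) := by
      rw [← hg x]
      exact (TopCat.Presheaf.germ_res_apply X.presheaf (homOfLE le_top) x (hxV x) g).symm
    rw [h1]
    exact TopCat.Presheaf.germ_res_apply X.presheaf (homOfLE (hVU x)) x (hxV x) (s x)

end Groth.Agent.H9.DZT

namespace Groth.Agent.H9.DZT

theorem main (k : Type u) [Field k] {X : Scheme.{u}} [Nonempty X]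
    (f : X ⟶ Spec (CommRingCat.of k)) [LocallyOfFiniteType f] [QuasiCompact f] :
    [topologicalKrullDim ↥X = 0,
      IsAffine X ∧ f.appTop.hom.Finite ∧
        Function.Bijective (fun s : Γ(X, ⊤) => fun x : X => X.presheaf.germ ⊤ x trivial s),
      DiscreteTopology ↥X,
      Finite ↥X].TFAE := by
  haveI : IsLocallyNoetherian X := LocallyOfFiniteType.isLocallyNoetherian f
  haveI : CompactSpace X := QuasiCompact.compactSpace_of_compactSpace f
  haveI : JacobsonSpace X := LocallyOfFiniteType.jacobsonSpace f
  haveI hRA : IsArtinianRing Γ(Spec (CommRingCat.of k), ⊤) :=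
    (Scheme.ΓSpecIso (CommRingCat.of k)).commRingCatIsoToRingEquiv.symm.surjective.isArtinianRing
  tfae_have 1 → 3 := fun h => by
    haveI := IsLocallyArtinian.of_topologicalKrullDim_le_zero (X := X) h.le
    infer_instance
  tfae_have 3 → 4 := fun h => finite_of_compact_of_discrete
  tfae_have 4 → 3 := fun h => inferInstance
  tfae_have 3 → 1 := fun h => by
    refine le_antisymm (topologicalKrullDim_zero_of_discreteTopology X) ?_
    obtain ⟨x⟩ := ‹Nonempty X›
    haveI : Nonempty (IrreducibleCloseds X) :=
      ⟨⟨closure {x}, isIrreducible_singleton.closure, isClosed_closure⟩⟩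
    exact Order.krullDim_nonneg
  tfae_have 3 → 2 := fun h => by
    haveI : Finite X := finite_of_compact_of_discrete
    haveI : IsAffine X := inferInstance
    refine ⟨inferInstance, ?_, germ_bijective X⟩
    haveI : IsLocallyArtinian X := .of_isLocallyNoetherian_of_discreteTopology
    have hft : f.appTop.hom.FiniteType :=
      (HasRingHomProperty.iff_of_isAffine (P := @LocallyOfFiniteType)).mp inferInstance
    algebraize [f.appTop.hom]
    haveI : IsArtinianRing Γ(X, ⊤) := inferInstance
    exact (Module.finite_iff_isArtinianRing Γ(Spec (CommRingCat.of k), ⊤) Γ(X, ⊤)).mpr inferInstance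
  tfae_have 2 → 4 := fun ⟨h1, h2, _⟩ => by
    algebraize [f.appTop.hom]
    haveI : IsArtinianRing Γ(X, ⊤) := IsArtinianRing.of_finite Γ(Spec (CommRingCat.of k), ⊤) Γ(X, ⊤)
    haveI : Finite (Spec Γ(X, ⊤)) := inferInstanceAs (Finite (PrimeSpectrum Γ(X, ⊤)))
    exact Finite.of_equiv _ X.isoSpec.hom.homeomorph.symm.toEquiv
  tfae_finish

end Groth.Agent.H9.DZT
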