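import Mathlib

/-! Helper9: open subschemes of the spectrum of a Dedekind domain are affine (S10871). -/

open AlgebraicGeometry TopologicalSpace CategoryTheory PrimeSpectrum

namespace Groth.Agent.H9.DedAff

variable {A : Type*} [CommRing A] [IsDedekindDomain A]

/-- primes containing a nonzero element of a Dedekind domain are maximal -/
theorem isMaximal_of_mem {g : A} (hg : g ≠ 0) (q : PrimeSpectrum A) (hq : g ∈ q.asIdeal) :
    q.asIdeal.IsMaximal := by
  apply Ideal.IsPrime.isMaximal q.isPrime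
  intro h
  rw [h] at hq
  exact hg hq

/-- finitely many primes contain a given nonzero element -/
theorem finite_zeroLocus {g : A} (hg : g ≠ 0) : (zeroLocus {g} : Set (PrimeSpectrum A)).Finite := by
  have hfin := (Ideal.span {g}).finite_minimalPrimes_of_isNoetherianRing
  have : (zeroLocus {g} : Set (PrimeSpectrum A)) ⊆ PrimeSpectrum.asIdeal ⁻¹' (Ideal.span {g}).minimalPrimes := by
    intro q hq
    have hgq : g ∈ q.asIdeal := by simpa [mem_zeroLocus] using hq
    have hle : Ideal.span {g} ≤ q.asIdeal := (Ideal.span_singleton_le_iff_mem _).2 hgq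
    refine ⟨⟨q.isPrime, hle⟩, ?_⟩
    rintro q' ⟨hq'prime, hq'le⟩ hq'q
    have hgq' : g ∈ q' := (Ideal.span_singleton_le_iff_mem _).1 hq'le
    have hmax : q'.IsMaximal := isMaximal_of_mem hg ⟨q', hq'prime⟩ hgq'
    exact (hmax.eq_of_le q.isPrime.ne_top hq'q).ge
  exact (hfin.preimage (fun a _ b _ h => PrimeSpectrum.ext h)).subset this

theorem key (U : Opens (PrimeSpectrum A)) (x : PrimeSpectrum A) :
    ∃ f g : A, x ∈ basicOpen f ∧ U ⊓ basicOpen f = basicOpen g := by
  classical
  obtain ⟨I, hI⟩ := (isClosed_iff_zeroLocus_ideal _).1 U.isOpen.isClosed_compl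
  by_cases hI0 : I = ⊥
  · -- U is empty
    refine ⟨1, 0, by simp, ?_⟩
    have : (U : Set (PrimeSpectrum A)) = ∅ := by
      have h1 : ((U : Set (PrimeSpectrum A)))ᶜ = Set.univ := by
        rw [hI, hI0]; simp
      simpa using h1
    ext y
    simp [this]
  obtain ⟨g₀, hg₀I, hg₀⟩ := Submodule.exists_mem_ne_zero_of_ne_bot hI0
  have hDU : ∀ y : PrimeSpectrum A, g₀ ∉ y.asIdeal → y ∈ U := by
    intro y hy
    by_contra hyU
    have : y ∈ zeroLocus (I : Set A) := by rw [← hI]; exact hyU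
    exact hy (this hg₀I)
  by_cases hx : g₀ ∈ x.asIdeal
  swap
  · refine ⟨g₀, g₀, hx, ?_⟩
    ext y
    simp only [Opens.coe_inf, Set.mem_inter_iff, SetLike.mem_coe, mem_basicOpen]
    exact ⟨fun h => h.2, fun h => ⟨hDU y h, h⟩⟩
  -- x contains g₀
  have hfin := finite_zeroLocus hg₀
  set T : Finset (PrimeSpectrum A) := hfin.toFinset.erase x with hT
  have hmaxx : x.asIdeal.IsMaximal := isMaximal_of_mem hg₀ x hx
  have hnot : ¬ (T.inf PrimeSpectrum.asIdeal ≤ x.asIdeal) := by
    intro hle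
    obtain ⟨q, hqT, hqx⟩ := (Ideal.IsPrime.inf_le' x.isPrime).1 hle
    rw [hT, Finset.mem_erase, Set.Finite.mem_toFinset] at hqT
    have hgq : g₀ ∈ q.asIdeal := by simpa [mem_zeroLocus] using hqT.2
    have hmaxq := isMaximal_of_mem hg₀ q hgq
    exact hqT.1 (PrimeSpectrum.ext (hmaxq.eq_of_le x.isPrime.ne_top hqx))
  obtain ⟨f, hfT, hfx⟩ := SetLike.not_le_iff_exists.1 hnot
  have hfq : ∀ q : PrimeSpectrum A, g₀ ∈ q.asIdeal → q ≠ x → f ∈ q.asIdeal := by
    intro q hq hqx
    have hqT : q ∈ T := by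
      rw [hT, Finset.mem_erase, Set.Finite.mem_toFinset]
      exact ⟨hqx, by simpa [mem_zeroLocus] using hq⟩
    exact (Finset.inf_le hqT : T.inf PrimeSpectrum.asIdeal ≤ q.asIdeal) hfT
  by_cases hxU : x ∈ U
  · refine ⟨f, f, hfx, ?_⟩
    ext y
    simp only [Opens.coe_inf, Set.mem_inter_iff, SetLike.mem_coe, mem_basicOpen]
    refine ⟨fun h => h.2, fun h => ⟨?_, h⟩⟩
    by_cases hy : g₀ ∈ y.asIdeal
    · by_cases hyx : y = x
      · rw [hyx]; exact hxU
      · exact absurd (hfq y hy hyx) h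
    · exact hDU y hy
  · refine ⟨f, f * g₀, hfx, ?_⟩
    ext y
    simp only [Opens.coe_inf, Set.mem_inter_iff, SetLike.mem_coe, mem_basicOpen]
    constructor
    · rintro ⟨hyU, hyf⟩
      intro hmem
      rcases y.isPrime.mem_or_mem hmem with h | h
      · exact hyf h
      · by_cases hyx : y = x
        · rw [hyx] at hyU; exact hxU hyU
        · exact hyf (hfq y h hyx)
    · intro h
      have h1 : f ∉ y.asIdeal := fun hf => h (Ideal.mul_mem_right _ _ hf)
      have h2 : g₀ ∉ y.asIdeal := fun hg => h (Ideal.mul_mem_left _ _ hg)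
      exact ⟨hDU y h2, h1⟩

theorem preimage_affine {X : Scheme} (U D : X.Opens) (h : IsAffineOpen (U ⊓ D)) :
    IsAffineOpen (U.ι ⁻¹ᵁ D) := by
  apply U.ι.isAffineOpen_iff_of_isOpenImmersion.mp
  rw [Scheme.Hom.image_preimage_eq_opensRange_inf, Scheme.Opens.opensRange_ι]
  exact h

theorem main (A : Type*) [CommRing A] [IsDedekindDomain A]
    (U : (Spec (CommRingCat.of A)).Opens) : IsAffineOpen U := by
  have : IsAffineHom U.ι := by
    apply isAffineHom_of_forall_exists_isAffineOpen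
    intro x
    obtain ⟨f, g, hxf, hfg⟩ := key (A := A) U x
    refine ⟨PrimeSpectrum.basicOpen f, hxf, IsAffineOpen.Spec_basicOpen (R := CommRingCat.of A) f, ?_⟩
    apply preimage_affine
    have : U ⊓ (PrimeSpectrum.basicOpen f : (Spec (CommRingCat.of A)).Opens) =
        PrimeSpectrum.basicOpen g := hfg
    exact this ▸ IsAffineOpen.Spec_basicOpen (R := CommRingCat.of A) g
  exact isAffine_of_isAffineHom U.ι

end Groth.Agent.H9.DedAff
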