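import Mathlib

/-! Helper9: degree bound for polynomials spanning a finite-dimensional quotient of a polynomial ring (for S19439). -/

open MvPolynomial

namespace Groth.Agent.H9.DegBound

variable {k : Type*} [Field k] {N : ℕ} (I : Ideal (MvPolynomial (Fin N) k))

/-- image of the polynomials of total degree at most `d` -/
noncomputable def V (d : ℕ) : Submodule k (MvPolynomial (Fin N) k ⧸ I) :=
  Submodule.map (Ideal.Quotient.mkₐ k I).toLinearMap (restrictTotalDegree (Fin N) k d)

theorem V_mono {d e : ℕ} (h : d ≤ e) : V I d ≤ V I e := by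
  apply Submodule.map_mono
  intro f hf
  rw [mem_restrictTotalDegree] at hf ⊢
  exact hf.trans h

theorem mk_mem_V (f : MvPolynomial (Fin N) k) {d : ℕ} (hf : f.totalDegree ≤ d) :
    Ideal.Quotient.mk I f ∈ V I d :=
  ⟨f, (mem_restrictTotalDegree _ _ _).2 hf, rfl⟩

theorem X_mul_mem {d : ℕ} (i : Fin N) {a : MvPolynomial (Fin N) k ⧸ I} (ha : a ∈ V I d) :
    Ideal.Quotient.mk I (X i) * a ∈ V I (d + 1) := by
  obtain ⟨g, hg, rfl⟩ := ha
  rw [SetLike.mem_coe, mem_restrictTotalDegree] at hg
  have : Ideal.Quotient.mk I (X i) * (Ideal.Quotient.mkₐ k I).toLinearMap g =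
      Ideal.Quotient.mk I (X i * g) := by
    rw [map_mul]; rfl
  rw [this]
  apply mk_mem_V
  refine (totalDegree_mul _ _).trans ?_
  rw [totalDegree_X]
  omega

theorem stable {d : ℕ} (h : V I (d + 1) = V I d) : V I (d + 2) = V I (d + 1) := by
  apply le_antisymm _ (V_mono I (by omega))
  rintro _ ⟨f, hf, rfl⟩
  rw [SetLike.mem_coe, mem_restrictTotalDegree] at hf
  rw [f.as_sum, map_sum]
  refine Submodule.sum_mem _ (fun m hm => ?_)
  have hmdeg : (m.sum fun _ e => e) ≤ d + 2 := (le_totalDegree hm).trans hf
  by_cases hle : (m.sum fun _ e => e) ≤ d + 1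
  · apply mk_mem_V
    exact (totalDegree_monomial_le _ _).trans hle
  · -- m has degree exactly d + 2 > 0: pick a variable
    have hm0 : m ≠ 0 := by
      intro h0
      rw [h0] at hle
      simp at hle
    obtain ⟨i, hi⟩ : ∃ i, m i ≠ 0 := by
      by_contra hcon
      push Not at hcon
      exact hm0 (Finsupp.ext hcon)
    have hm_eq : m = Finsupp.single i 1 + (m - Finsupp.single i 1) := by
      ext j
      by_cases hj : j = i
      · subst hj
        simp
        omega
      · simp [Ne.symm hj]
    have hsum : (m.sum fun _ e => e) = 1 + ((m - Finsupp.single i 1).sum fun _ e => e) := by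
      conv_lhs => rw [hm_eq]
      rw [Finsupp.sum_add_index' (fun _ => rfl) (fun _ _ _ => rfl), Finsupp.sum_single_index rfl]
    have hmon : ∀ c : k, monomial m c = X i * monomial (m - Finsupp.single i 1) c := by
      intro c
      rw [X, monomial_mul, one_mul, ← hm_eq]
    have hsub : Ideal.Quotient.mk I (monomial (m - Finsupp.single i 1) (coeff m f)) ∈ V I d := by
      rw [← h]
      apply mk_mem_V
      refine (totalDegree_monomial_le _ _).trans ?_
      show ((m - Finsupp.single i 1).sum fun _ e => e) ≤ d + 1
      omega
    have := X_mul_mem I i hsub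
    show Ideal.Quotient.mk I (monomial m (coeff m f)) ∈ _
    rw [hmon (coeff m f), map_mul]
    exact this

theorem stable_all {d : ℕ} (h : V I (d + 1) = V I d) (e : ℕ) : V I (d + e) = V I d := by
  induction e with
  | zero => rfl
  | succ e ih =>
    have key : ∀ j, V I (d + j + 1) = V I (d + j) := by
      intro j
      induction j with
      | zero => exact h
      | succ j ihj => exact stable I ihj
    rw [← add_assoc, key e, ih]

theorem V_eq_top (n : ℕ) [Module.Finite k (MvPolynomial (Fin N) k ⧸ I)]
    (hn : Module.finrank k (MvPolynomial (Fin N) k ⧸ I) = n) : V I n = ⊤ := by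
  rcases Nat.eq_zero_or_pos n with rfl | hpos
  · have : Subsingleton (MvPolynomial (Fin N) k ⧸ I) := Module.finrank_zero_iff.1 hn
    exact Subsingleton.elim _ _
  · -- some step stabilises
    have hex : ∃ d < n, V I (d + 1) = V I d := by
      by_contra hcon
      push Not at hcon
      have hlt : ∀ d ≤ n, d + 1 ≤ Module.finrank k (V I d) := by
        intro d
        induction d with
        | zero =>
          intro _
          have h1 : (1 : MvPolynomial (Fin N) k ⧸ I) ∈ V I 0 := by
            have := mk_mem_V I (1 : MvPolynomial (Fin N) k) (d := 0) (by simp)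
            simpa using this
          have hne : (1 : MvPolynomial (Fin N) k ⧸ I) ≠ 0 := by
            intro h0
            have : Subsingleton (MvPolynomial (Fin N) k ⧸ I) := subsingleton_of_zero_eq_one h0.symm
            have := (Module.finrank_zero_iff (R := k)).2 this
            omega
          have : 0 < Module.finrank k (V I 0) := by
            rw [Module.finrank_pos_iff_exists_ne_zero]
            exact ⟨⟨1, h1⟩, fun h => hne (congrArg Subtype.val h)⟩
          omega
        | succ d ih =>
          intro hd
          have h1 := ih (by omega)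
          have hlt : V I d < V I (d + 1) :=
            lt_of_le_of_ne (V_mono I (by omega)) (fun h => hcon d (by omega) h.symm)
          have := Submodule.finrank_lt_finrank_of_lt hlt
          omega
      have h1 := hlt n le_rfl
      have h2 := Submodule.finrank_le (V I n)
      omega
    obtain ⟨d, hd, hstab⟩ := hex
    rw [eq_top_iff]
    intro a _
    obtain ⟨f, rfl⟩ := Ideal.Quotient.mk_surjective a
    have h1 := mk_mem_V I f (d := d + f.totalDegree) (by omega)
    rw [stable_all I hstab] at h1
    exact V_mono I hd.le h1

end Groth.Agent.H9.DegBound
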