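import Mathlib

/-! Helper9: quasi-compact scheme has dense open separated subscheme (S7387) -/

namespace Groth.Agent.H9.DenseSep

open AlgebraicGeometry CategoryTheory TopologicalSpace Limits

universe u

/-- A finite union of pairwise disjoint opens, each contained in an affine open, is separated. -/
theorem isSeparated_iSup {X : Scheme.{u}} {n : ℕ} (U V : Fin n → X.Opens)
    (hU : ∀ k, IsAffineOpen (U k)) (hVU : ∀ k, V k ≤ U k)
    (hdisj : ∀ k l, k ≠ l → Disjoint (V k) (V l)) :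
    ((⨆ k, V k : X.Opens) : Scheme.{u}).IsSeparated := by
  let V' : X.Opens := ⨆ k, V k
  let f : ∀ k, ((V k : X.Opens) : Scheme.{u}) ⟶ (V' : Scheme.{u}) := fun k => X.homOfLE (le_iSup V k)
  have hfapp : ∀ k (x : X) (hx : x ∈ V k), f k ⟨x, hx⟩ = ⟨x, le_iSup V k hx⟩ :=
    fun k x hx => Scheme.homOfLE_apply' _ x hx
  have hcov : ⨆ k, (f k).opensRange = ⊤ := by
    rw [eq_top_iff]
    intro y _
    have hy' : y.1 ∈ (⨆ k, V k : X.Opens) := y.2
    rw [Opens.mem_iSup] at hy'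
    obtain ⟨k, hk⟩ := hy'
    exact Opens.mem_iSup.mpr ⟨k, ⟨⟨y.1, hk⟩, hfapp k y.1 hk⟩⟩
  have hdisj' : Pairwise (Function.onFun Disjoint (fun k => (f k).opensRange)) := by
    intro k l hkl
    rw [Function.onFun, disjoint_iff, eq_bot_iff]
    rintro y ⟨⟨⟨a, ha⟩, rfl⟩, ⟨⟨b, hb⟩, hab⟩⟩
    rw [hfapp, hfapp] at hab
    have : b = a := congrArg Subtype.val hab
    subst this
    exact (disjoint_iff.mp (hdisj k l hkl)).le ⟨ha, hb⟩
  obtain ⟨hc⟩ := nonempty_isColimit_cofanMk_of f hcov hdisj'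
  have : ∀ k, IsAffine ((U k : X.Opens) : Scheme.{u}) := fun k => hU k
  let W : Scheme.{u} := ∐ fun k => ((U k : X.Opens) : Scheme.{u})
  let g : ∀ k, ((V k : X.Opens) : Scheme.{u}) ⟶ W := fun k =>
    X.homOfLE (hVU k) ≫ Sigma.ι (fun k => ((U k : X.Opens) : Scheme.{u})) k
  let φ : (V' : Scheme.{u}) ⟶ W := Cofan.IsColimit.desc hc g
  have hφ : ∀ k, f k ≫ φ = g k := fun k => Cofan.IsColimit.fac hc g k
  have hinj : Function.Injective φ := by
    rintro ⟨x, hx⟩ ⟨y, hy⟩ hxy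
    have hx' : x ∈ (⨆ k, V k : X.Opens) := hx
    have hy' : y ∈ (⨆ k, V k : X.Opens) := hy
    rw [Opens.mem_iSup] at hx' hy'
    obtain ⟨k, hk⟩ := hx'
    obtain ⟨l, hl⟩ := hy'
    have ex : (⟨x, hx⟩ : V') = f k ⟨x, hk⟩ := (hfapp k x hk).symm
    have ey : (⟨y, hy⟩ : V') = f l ⟨y, hl⟩ := (hfapp l y hl).symm
    rw [ex, ey] at hxy
    have e1 : φ (f k ⟨x, hk⟩) = g k ⟨x, hk⟩ := by rw [← hφ k]; rfl
    have e2 : φ (f l ⟨y, hl⟩) = g l ⟨y, hl⟩ := by rw [← hφ l]; rfl
    rw [e1, e2] at hxy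
    by_cases hkl : k = l
    · subst hkl
      have h3 : X.homOfLE (hVU k) ⟨x, hk⟩ = X.homOfLE (hVU k) ⟨y, hl⟩ :=
        (Sigma.ι (fun k => ((U k : X.Opens) : Scheme.{u})) k).isOpenEmbedding.injective hxy
      rw [Scheme.homOfLE_apply', Scheme.homOfLE_apply'] at h3
      have : x = y := congrArg Subtype.val h3
      subst this; rfl
    · exfalso
      have hd := disjoint_opensRange_sigmaι (fun k => ((U k : X.Opens) : Scheme.{u})) k l hkl
      have : g k ⟨x, hk⟩ ∈ (Sigma.ι (fun k => ((U k : X.Opens) : Scheme.{u})) k).opensRange ⊓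
          (Sigma.ι (fun k => ((U k : X.Opens) : Scheme.{u})) l).opensRange := by
        refine ⟨⟨_, rfl⟩, ?_⟩
        rw [hxy]; exact ⟨_, rfl⟩
      rw [disjoint_iff.mp hd] at this
      exact this
  have hsep : IsSeparated φ := isSeparated_of_injective φ hinj
  constructor
  have : terminal.from (V' : Scheme.{u}) = φ ≫ terminal.from W := Subsingleton.elim _ _
  rw [this]
  infer_instance

theorem main (X : Scheme.{u}) [CompactSpace X] :
    ∃ V : X.Opens, Dense (V : Set X) ∧ (V : Scheme.{u}).IsSeparated := by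
  classical
  obtain ⟨t, ht⟩ := isCompact_univ.elim_finite_subcover (fun U : X.affineOpens => (U.1 : Set X))
    (fun U => U.1.2) (by
      intro x _
      obtain ⟨U, hU, hx, -⟩ := exists_isAffineOpen_mem_and_subset (x := x) (U := ⊤) trivial
      exact Set.mem_iUnion.mpr ⟨⟨U, hU⟩, hx⟩)
  let n := t.card
  let e : Fin n ≃ t := t.equivFin.symm
  let U : Fin n → X.Opens := fun k => (e k).1.1
  have hU : ∀ k, IsAffineOpen (U k) := fun k => (e k).1.2
  have hcover : ∀ x : X, ∃ k, x ∈ U k := by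
    intro x
    have := ht (Set.mem_univ x)
    simp only [Set.mem_iUnion] at this
    obtain ⟨W, hW, hx⟩ := this
    refine ⟨e.symm ⟨W, hW⟩, ?_⟩
    show x ∈ (e (e.symm ⟨W, hW⟩)).1.1
    rw [e.apply_symm_apply]; exact hx
  let cl : Fin n → Set X := fun k => closure (⋃ j : Fin n, ⋃ _ : j < k, (U j : Set X))
  let V : Fin n → X.Opens := fun k =>
    ⟨(U k : Set X) ∩ (cl k)ᶜ, (U k).2.inter isClosed_closure.isOpen_compl⟩
  have hVU : ∀ k, V k ≤ U k := fun k x hx => hx.1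
  have hdisj : ∀ k l, k ≠ l → Disjoint (V k) (V l) := by
    have key : ∀ k l, k < l → Disjoint (V k) (V l) := by
      intro k l hkl
      rw [disjoint_iff, eq_bot_iff]
      rintro x ⟨hxk, hxl⟩
      exfalso
      apply hxl.2
      apply subset_closure
      exact Set.mem_iUnion.mpr ⟨k, Set.mem_iUnion.mpr ⟨hkl, hxk.1⟩⟩
    intro k l hkl
    rcases lt_or_gt_of_ne hkl with h | h
    · exact key k l h
    · exact (key l k h).symm
  refine ⟨⨆ k, V k, ?_, isSeparated_iSup U V hU hVU hdisj⟩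
  rw [dense_iff_inter_open]
  intro O hO hOne
  -- least k with O ∩ U k nonempty
  have hex : ∃ k : Fin n, (O ∩ (U k : Set X)).Nonempty := by
    obtain ⟨x, hx⟩ := hOne
    obtain ⟨k, hk⟩ := hcover x
    exact ⟨k, x, hx, hk⟩
  let S : Finset (Fin n) := Finset.univ.filter (fun k => (O ∩ (U k : Set X)).Nonempty)
  have hS : S.Nonempty := by
    obtain ⟨k, hk⟩ := hex
    exact ⟨k, Finset.mem_filter.mpr ⟨Finset.mem_univ _, hk⟩⟩
  let k := S.min' hS
  have hk : (O ∩ (U k : Set X)).Nonempty := (Finset.mem_filter.mp (S.min'_mem hS)).2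
  have hmin : ∀ j, j < k → O ∩ (U j : Set X) = ∅ := by
    intro j hj
    by_contra hne
    have : j ∈ S := Finset.mem_filter.mpr ⟨Finset.mem_univ _, Set.nonempty_iff_ne_empty.mpr hne⟩
    exact absurd (S.min'_le j this) (not_le.mpr hj)
  obtain ⟨x, hxO, hxU⟩ := hk
  refine ⟨x, hxO, ?_⟩
  show x ∈ ((⨆ k, V k : X.Opens) : Set X)
  rw [SetLike.mem_coe, Opens.mem_iSup]
  refine ⟨k, hxU, ?_⟩
  intro hxcl
  -- O is an open nbhd of x meeting ⋃_{j<k} U j
  have := mem_closure_iff.mp hxcl O hO hxO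
  obtain ⟨y, hyO, hy⟩ := this
  simp only [Set.mem_iUnion] at hy
  obtain ⟨j, hj, hyj⟩ := hy
  have := hmin j hj
  exact (Set.eq_empty_iff_forall_notMem.mp this) y ⟨hyO, hyj⟩

end Groth.Agent.H9.DenseSep
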