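import Mathlib
import Groth.Prelude.Def_CAlg

set_option autoImplicit false
set_option linter.unusedSectionVars false
set_option linter.unusedVariables false

namespace Groth.Agent.H9.Dep1

universe u v

open IsLocalRing

variable {R : Type u} [CommRing R] [IsLocalRing R] [IsNoetherianRing R]

/-- if the maximal ideal consists of zero divisors on a finite module, then it annihilates a
nonzero element -/
theorem exists_ne_zero_smul_eq_zero (M : Type v) [AddCommGroup M] [Module R M] [Module.Finite R M]
    (hreg : ∀ a ∈ maximalIdeal R, ¬ IsSMulRegular M a) :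
    ∃ x : M, x ≠ 0 ∧ ∀ a ∈ maximalIdeal R, a • x = 0 := by
  have fin := associatedPrimes.finite R M
  have hsub : ((maximalIdeal R : Ideal R) : Set R) ⊆ ⋃ p ∈ associatedPrimes R M, (p : Set R) := by
    rw [biUnion_associatedPrimes_eq_compl_regular R M]
    intro a ha
    exact hreg a ha
  obtain ⟨P, hP, hle⟩ := (Ideal.subset_union_prime_finite fin (f := id) 0 0
    (fun _ h _ _ => h.isPrime)).1 hsub
  obtain ⟨hprime, x, hx⟩ := (isAssociatedPrime_iff.mp hP)
  have hPeq : P = maximalIdeal R := le_antisymm (le_maximalIdeal hprime.ne_top) hle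
  refine ⟨x, ?_, ?_⟩
  · rintro rfl
    apply hprime.ne_top
    rw [hx, eq_top_iff]
    intro a _
    rw [Submodule.mem_colon_singleton, smul_zero]
    exact Submodule.zero_mem _
  · intro a ha
    have : a ∈ (⊥ : Submodule R M).colon {x} := by
      rw [← hx, hPeq]; exact ha
    rw [Submodule.mem_colon_singleton] at this
    simpa using this

theorem two_le_depth_of (f g : R) (hf : f ∈ maximalIdeal R) (hg : g ∈ maximalIdeal R)
    (hfr : IsSMulRegular R f) (hgr : IsSMulRegular (QuotSMulTop f R) g) :
    (2 : ℕ∞) ≤ LocCoh.depth R R := by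
  unfold LocCoh.depth LocCoh.idealDepth
  split_ifs with h
  · exact le_top
  · refine le_iSup₂_of_le [f, g] ⟨?_, ?_⟩ (by simp)
    · rw [RingTheory.Sequence.isWeaklyRegular_cons_iff,
        RingTheory.Sequence.isWeaklyRegular_cons_iff]
      exact ⟨hfr, hgr, RingTheory.Sequence.IsWeaklyRegular.nil _ _⟩
    · intro r hr
      simp only [List.mem_cons, List.not_mem_nil, or_false] at hr
      rcases hr with rfl | rfl <;> assumption

/-- the annihilator of `m^n` -/
def annPow (n : ℕ) : Ideal R where
  carrier := {x | ∀ a ∈ maximalIdeal R ^ n, a * x = 0}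
  add_mem' := fun {x y} hx hy a ha => by rw [mul_add, hx a ha, hy a ha, add_zero]
  zero_mem' := fun a _ => mul_zero a
  smul_mem' := fun c x hx a ha => by rw [smul_eq_mul, mul_left_comm, hx a ha, mul_zero]

theorem mem_annPow (n : ℕ) (x : R) :
    x ∈ annPow (R := R) n ↔ ∀ a ∈ maximalIdeal R ^ n, a * x = 0 := Iff.rfl

theorem annPow_mono : Monotone (annPow (R := R)) := by
  intro n k hnk x hx a ha
  exact hx a (Ideal.pow_le_pow_right hnk ha)

theorem colon_zero_eq_top (M : Type v) [AddCommGroup M] [Module R M] :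
    (⊥ : Submodule R M).colon {(0 : M)} = ⊤ := by
  rw [eq_top_iff]
  intro a _
  rw [Submodule.mem_colon_singleton, smul_zero]
  exact Submodule.zero_mem _

theorem case0 (h1 : ¬ IsArtinianRing R) (x : R) (hx0 : x ≠ 0)
    (hx : ∀ a ∈ maximalIdeal R, a * x = 0) :
    ∃ (R' : Type u) (_ : CommRing R') (_ : Algebra R R'), Nontrivial R' ∧ Module.Finite R R' ∧
      ¬ Function.Bijective (algebraMap R R') ∧
      (∃ n : ℕ, (∀ x : R, algebraMap R R' x = 0 → ∀ a ∈ maximalIdeal R ^ n, a * x = 0) ∧
        (∀ y : R', ∀ a ∈ maximalIdeal R ^ n, a • y ∈ Set.range (algebraMap R R'))) ∧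
      maximalIdeal R ∉ associatedPrimes R R' := by
  obtain ⟨n, hn⟩ := monotone_stabilizes_iff_noetherian.mpr (inferInstance : IsNoetherian R R)
    ⟨annPow, annPow_mono⟩
  have hn' : ∀ k, n ≤ k → annPow (R := R) n = annPow k := hn
  refine ⟨R ⧸ annPow (R := R) n, inferInstance, inferInstance, ?_, ?_, ?_, ⟨n, ?_, ?_⟩, ?_⟩
  · rw [Ideal.Quotient.nontrivial_iff]
    intro hI
    apply h1
    rw [isArtinianRing_iff_isNilpotent_maximalIdeal]
    refine ⟨n, ?_⟩
    rw [Ideal.zero_eq_bot, eq_bot_iff]
    intro a ha
    have h1I : (1 : R) ∈ annPow (R := R) n := hI ▸ Submodule.mem_top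
    have := h1I a ha
    rw [mul_one] at this
    exact this
  · exact Module.Finite.of_surjective (Ideal.Quotient.mkₐ R (annPow (R := R) n)).toLinearMap
      Ideal.Quotient.mk_surjective
  · intro hb
    apply hx0
    apply hb.injective
    rw [map_zero]
    show Ideal.Quotient.mk (annPow (R := R) n) x = 0
    rw [Ideal.Quotient.eq_zero_iff_mem]
    have h1' : x ∈ annPow (R := R) 1 := fun a ha => hx a (by simpa using ha)
    have hle : annPow (R := R) 1 ≤ annPow n := by
      calc annPow (R := R) 1 ≤ annPow (max n 1) := annPow_mono (le_max_right _ _)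
        _ = annPow n := (hn' _ (le_max_left _ _)).symm
    exact hle h1'
  · intro y hy a ha
    have : y ∈ annPow (R := R) n := Ideal.Quotient.eq_zero_iff_mem.mp hy
    exact this a ha
  · intro y a ha
    obtain ⟨z, rfl⟩ := Ideal.Quotient.mk_surjective y
    exact ⟨a * z, by rw [Algebra.smul_def]; rfl⟩
  · intro hass
    obtain ⟨hprime, y, hy⟩ := isAssociatedPrime_iff.mp hass
    obtain ⟨z, rfl⟩ := Ideal.Quotient.mk_surjective y
    have hz : z ∈ annPow (R := R) (n + 1) := by
      intro a ha
      rw [pow_succ] at ha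
      refine Submodule.mul_induction_on ha ?_ ?_
      · intro b hb c hc
        have hcz : c * z ∈ annPow (R := R) n := by
          have : c ∈ (⊥ : Submodule R (R ⧸ annPow (R := R) n)).colon
              {Ideal.Quotient.mk (annPow (R := R) n) z} := hy ▸ hc
          rw [Submodule.mem_colon_singleton, Submodule.mem_bot] at this
          rw [← Ideal.Quotient.eq_zero_iff_mem, map_mul]
          exact this
        rw [mul_assoc]
        exact hcz b hb
      · intro b c hb hc
        rw [add_mul, hb, hc, add_zero]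
    have hzI : z ∈ annPow (R := R) n := (hn' (n + 1) (Nat.le_succ n)) ▸ hz
    apply hprime.ne_top
    rw [hy, (Ideal.Quotient.eq_zero_iff_mem.mpr hzI)]
    exact colon_zero_eq_top _

theorem regular_dim_one (t : R) (ht : maximalIdeal R = Ideal.span {t}) (htr : IsSMulRegular R t) :
    IsRegularLocalRing R ∧ ringKrullDim R = 1 := by
  have htm : t ∈ maximalIdeal R := ht ▸ Ideal.mem_span_singleton_self t
  have hdim : ringKrullDim R = 1 := by
    have h := ringKrullDim_quotient_span_singleton_succ_eq_ringKrullDim htr htm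
    rw [← h, ← ht]
    have : ringKrullDim (R ⧸ maximalIdeal R) = 0 :=
      ringKrullDim_eq_zero_of_isField ((Ideal.Quotient.maximal_ideal_iff_isField_quotient _).mp
        inferInstance)
    rw [this, zero_add]
  refine ⟨IsRegularLocalRing.of_spanFinrank_maximalIdeal_le R ?_, hdim⟩
  rw [hdim, ht]
  have := Submodule.spanFinrank_span_le_ncard_of_finite (R := R) (s := {t}) (Set.finite_singleton t)
  rw [Set.ncard_singleton] at this
  exact_mod_cast this

end Groth.Agent.H9.Dep1
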