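import Mathlib
import Groth.Agent.Lib.Helper9.Misc.Dep1A

set_option autoImplicit false
set_option linter.unusedSectionVars false
set_option linter.unusedVariables false

namespace Groth.Agent.H9.Dep1

universe u v

open IsLocalRing Polynomial

variable {R : Type u} [CommRing R] [IsLocalRing R] [IsNoetherianRing R]

section SubA

variable (f g : R) (hfreg : ∀ z : R, f * z = 0 → z = 0)
  (hg : ∀ a ∈ maximalIdeal R, ∃ b ∈ maximalIdeal R, f * b = a * g)

include hfreg in
theorem cancel {x y : R} (h : f * x = f * y) : x = y := by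
  have := hfreg (x - y) (by rw [mul_sub, h, sub_self])
  exact sub_eq_zero.mp this

noncomputable def phiFun (a : maximalIdeal R) : maximalIdeal R :=
  ⟨(hg a.1 a.2).choose, (hg a.1 a.2).choose_spec.1⟩

theorem phiFun_spec (a : maximalIdeal R) : f * (phiFun f g hg a : R) = (a : R) * g :=
  (hg a.1 a.2).choose_spec.2

noncomputable def phi : maximalIdeal R →ₗ[R] maximalIdeal R where
  toFun := phiFun f g hg
  map_add' := fun a b => by
    apply Subtype.ext
    apply cancel f hfreg
    rw [Submodule.coe_add, mul_add, phiFun_spec, phiFun_spec, phiFun_spec, Submodule.coe_add,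
      add_mul]
  map_smul' := fun c a => by
    apply Subtype.ext
    apply cancel f hfreg
    rw [RingHom.id_apply, Submodule.coe_smul, smul_eq_mul, phiFun_spec, Submodule.coe_smul,
      smul_eq_mul, mul_left_comm, phiFun_spec, mul_assoc]

theorem phi_spec (a : maximalIdeal R) : f * (phi f g hfreg hg a : R) = (a : R) * g :=
  phiFun_spec f g hg a

theorem phi_swap (t a : maximalIdeal R) :
    (t : R) * (phi f g hfreg hg a : R) = (phi f g hfreg hg t : R) * (a : R) := by
  apply cancel f hfreg
  have h1 := phi_spec f g hfreg hg a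
  have h2 := phi_spec f g hfreg hg t
  calc f * ((t : R) * (phi f g hfreg hg a : R)) = (t : R) * (f * (phi f g hfreg hg a : R)) := by ring
    _ = (t : R) * ((a : R) * g) := by rw [h1]
    _ = (f * (phi f g hfreg hg t : R)) * (a : R) := by rw [h2]; ring
    _ = f * ((phi f g hfreg hg t : R) * (a : R)) := by ring

abbrev EE (R : Type u) [CommRing R] [IsLocalRing R] : Type u := Module.End R (maximalIdeal R)

noncomputable def AA : R[X] →ₐ[R] EE R := Polynomial.aeval (phi f g hfreg hg)

abbrev RR : Type u := R[X] ⧸ RingHom.ker (AA f g hfreg hg)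

noncomputable def iota : RR f g hfreg hg →ₐ[R] EE R := Ideal.kerLiftAlg (AA f g hfreg hg)

theorem iota_inj : Function.Injective (iota f g hfreg hg) := Ideal.kerLiftAlg_injective _

theorem iota_mk_X : iota f g hfreg hg (Ideal.Quotient.mk _ X) = phi f g hfreg hg := by
  rw [iota, Ideal.kerLiftAlg_mk, AA, Polynomial.aeval_X]

/-- the class of `X` -/
noncomputable def xi : RR f g hfreg hg := Ideal.Quotient.mk _ X

theorem iota_xi : iota f g hfreg hg (xi f g hfreg hg) = phi f g hfreg hg := iota_mk_X f g hfreg hg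

theorem algebraMap_phi_eq (t : maximalIdeal R) :
    algebraMap R (RR f g hfreg hg) (phi f g hfreg hg t : R) = (t : R) • xi f g hfreg hg := by
  apply iota_inj
  rw [AlgHom.commutes, map_smul, iota_xi]
  apply LinearMap.ext
  intro a
  apply Subtype.ext
  rw [Module.algebraMap_end_apply, LinearMap.smul_apply, Submodule.coe_smul, Submodule.coe_smul,
    smul_eq_mul, smul_eq_mul]
  exact (phi_swap f g hfreg hg t a).symm

/-- elements whose `m^n`-multiples come from `R` -/
def CC (n : ℕ) : Submodule R (RR f g hfreg hg) where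
  carrier := {y | ∀ a ∈ maximalIdeal R ^ n, a • y ∈ Set.range (algebraMap R (RR f g hfreg hg))}
  add_mem' := fun {y1 y2} h1 h2 a ha => by
    obtain ⟨r1, hr1⟩ := h1 a ha
    obtain ⟨r2, hr2⟩ := h2 a ha
    exact ⟨r1 + r2, by rw [map_add, hr1, hr2, smul_add]⟩
  zero_mem' := fun a _ => ⟨0, by rw [map_zero, smul_zero]⟩
  smul_mem' := fun c y hy a ha => by
    obtain ⟨r, hr⟩ := hy a ha
    exact ⟨c * r, by rw [map_mul, hr, smul_comm, Algebra.smul_def c]⟩

theorem mem_CC (n : ℕ) (y : RR f g hfreg hg) : y ∈ CC f g hfreg hg n ↔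
    ∀ a ∈ maximalIdeal R ^ n, a • y ∈ Set.range (algebraMap R (RR f g hfreg hg)) := Iff.rfl

theorem CC_mono : Monotone (CC f g hfreg hg) := by
  intro n k hnk y hy a ha
  exact hy a (Ideal.pow_le_pow_right hnk ha)

theorem xi_mul_mem (n : ℕ) (y : RR f g hfreg hg) (hy : y ∈ CC f g hfreg hg n) :
    xi f g hfreg hg * y ∈ CC f g hfreg hg (n + 1) := by
  intro a ha
  rw [pow_succ'] at ha
  refine Submodule.mul_induction_on ha ?_ ?_
  · intro t ht b hb
    obtain ⟨r, hr⟩ := hy b hb
    refine ⟨(phi f g hfreg hg ⟨t, ht⟩ : R) * r, ?_⟩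
    rw [map_mul, hr, algebraMap_phi_eq, smul_mul_smul_comm]
  · intro a b ha hb
    obtain ⟨r1, h1⟩ := ha
    obtain ⟨r2, h2⟩ := hb
    exact ⟨r1 + r2, by rw [map_add, h1, h2, add_smul]⟩

theorem exists_mem_CC (y : RR f g hfreg hg) : ∃ n, y ∈ CC f g hfreg hg n := by
  obtain ⟨P, rfl⟩ := Ideal.Quotient.mk_surjective y
  induction P using Polynomial.induction_on with
  | C a =>
    refine ⟨0, fun b _ => ⟨b * a, ?_⟩⟩
    rw [Algebra.smul_def, map_mul]
    rfl
  | add p q hp hq =>
    obtain ⟨n1, h1⟩ := hp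
    obtain ⟨n2, h2⟩ := hq
    refine ⟨max n1 n2, ?_⟩
    rw [map_add]
    exact (CC f g hfreg hg (max n1 n2)).add_mem (CC_mono f g hfreg hg (le_max_left _ _) h1)
      (CC_mono f g hfreg hg (le_max_right _ _) h2)
  | monomial n a h =>
    obtain ⟨k, hk⟩ := h
    refine ⟨k + 1, ?_⟩
    have : Ideal.Quotient.mk (RingHom.ker (AA f g hfreg hg)) (C a * X ^ (n + 1)) =
        xi f g hfreg hg * Ideal.Quotient.mk (RingHom.ker (AA f g hfreg hg)) (C a * X ^ n) := by
      rw [xi, ← map_mul]
      congr 1
      ring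
    rw [this]
    exact xi_mul_mem f g hfreg hg k _ hk

include hfreg hg in
theorem caseA (hfm : f ∈ maximalIdeal R) (hgn : ∀ b : R, f * b ≠ g) :
    ∃ (R' : Type u) (_ : CommRing R') (_ : Algebra R R'), Nontrivial R' ∧ Module.Finite R R' ∧
      ¬ Function.Bijective (algebraMap R R') ∧
      (∃ n : ℕ, (∀ x : R, algebraMap R R' x = 0 → ∀ a ∈ maximalIdeal R ^ n, a * x = 0) ∧
        (∀ y : R', ∀ a ∈ maximalIdeal R ^ n, a • y ∈ Set.range (algebraMap R R'))) ∧
      maximalIdeal R ∉ associatedPrimes R R' := by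
  have hfin : Module.Finite R (RR f g hfreg hg) :=
    Module.Finite.of_injective (iota f g hfreg hg).toLinearMap (iota_inj f g hfreg hg)
  have hinj : ∀ x : R, algebraMap R (RR f g hfreg hg) x = 0 → x = 0 := by
    intro x hx
    have h := congrArg (iota f g hfreg hg) hx
    rw [AlgHom.commutes, map_zero] at h
    have h2 := LinearMap.congr_fun h ⟨f, hfm⟩
    rw [Module.algebraMap_end_apply, LinearMap.zero_apply] at h2
    have h3 : x * f = 0 := by
      have := congrArg Subtype.val h2
      simpa using this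
    exact hfreg x (by rw [mul_comm]; exact h3)
  obtain ⟨n, hn⟩ := monotone_stabilizes_iff_noetherian.mpr
    (isNoetherian_of_isNoetherianRing_of_finite R (RR f g hfreg hg))
    ⟨CC f g hfreg hg, CC_mono f g hfreg hg⟩
  have hn' : ∀ k, n ≤ k → CC f g hfreg hg n = CC f g hfreg hg k := hn
  refine ⟨RR f g hfreg hg, inferInstance, inferInstance, ?_, hfin, ?_, ⟨n, ?_, ?_⟩, ?_⟩
  · refine ⟨⟨0, 1, fun h => ?_⟩⟩
    have h1 : (1 : R) = 0 := hinj 1 (by rw [map_one]; exact h.symm)
    exact one_ne_zero h1
  · intro hb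
    obtain ⟨a, ha⟩ := hb.surjective (xi f g hfreg hg)
    have h := congrArg (iota f g hfreg hg) ha
    rw [AlgHom.commutes, iota_xi] at h
    have h2 := LinearMap.congr_fun h ⟨f, hfm⟩
    rw [Module.algebraMap_end_apply] at h2
    have h3 : a * f = (phi f g hfreg hg ⟨f, hfm⟩ : R) := by
      have := congrArg Subtype.val h2
      simpa using this
    have h4 : (phi f g hfreg hg ⟨f, hfm⟩ : R) = g := cancel f hfreg (phi_spec f g hfreg hg ⟨f, hfm⟩)
    exact hgn a (by rw [mul_comm, h3, h4])
  · intro x hx a _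
    rw [hinj x hx, mul_zero]
  · intro y a ha
    obtain ⟨k, hk⟩ := exists_mem_CC f g hfreg hg y
    have hk' : y ∈ CC f g hfreg hg n := by
      rw [hn' (max k n) (le_max_right _ _)]
      exact CC_mono f g hfreg hg (le_max_left _ _) hk
    exact hk' a ha
  · intro hass
    obtain ⟨hprime, y, hy⟩ := isAssociatedPrime_iff.mp hass
    have hfy : f • y = 0 := by
      have : f ∈ (⊥ : Submodule R (RR f g hfreg hg)).colon {y} := hy ▸ hfm
      rwa [Submodule.mem_colon_singleton, Submodule.mem_bot] at this
    have hy0 : y = 0 := by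
      apply iota_inj f g hfreg hg
      rw [map_zero]
      have h := congrArg (iota f g hfreg hg) hfy
      rw [map_smul, map_zero] at h
      apply LinearMap.ext
      intro x
      have hx := LinearMap.congr_fun h x
      rw [LinearMap.smul_apply, LinearMap.zero_apply] at hx
      have h0 : f * ((iota f g hfreg hg y x : maximalIdeal R) : R) = 0 := by
        have := congrArg Subtype.val hx
        simpa using this
      rw [LinearMap.zero_apply]
      exact Subtype.ext (hfreg _ h0)
    apply hprime.ne_top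
    rw [hy, hy0]
    exact colon_zero_eq_top _

end SubA

theorem main (h1 : ¬ IsArtinianRing R) (h2 : ¬ (IsRegularLocalRing R ∧ ringKrullDim R = 1))
    (h3 : LocCoh.depth R R ≤ 1) :
    ∃ (R' : Type u) (_ : CommRing R') (_ : Algebra R R'), Nontrivial R' ∧ Module.Finite R R' ∧
      ¬ Function.Bijective (algebraMap R R') ∧
      (∃ n : ℕ, (∀ x : R, algebraMap R R' x = 0 → ∀ a ∈ maximalIdeal R ^ n, a * x = 0) ∧
        (∀ y : R', ∀ a ∈ maximalIdeal R ^ n, a • y ∈ Set.range (algebraMap R R'))) ∧
      maximalIdeal R ∉ associatedPrimes R R' := by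
  by_cases hz : ∀ a ∈ maximalIdeal R, ¬ IsSMulRegular R a
  · obtain ⟨x, hx0, hx⟩ := exists_ne_zero_smul_eq_zero R hz
    exact case0 h1 x hx0 (fun a ha => by simpa using hx a ha)
  · push Not at hz
    obtain ⟨f, hfm, hfr⟩ := hz
    have hfreg : ∀ z : R, f * z = 0 → z = 0 := fun z hz =>
      (isSMulRegular_iff_right_eq_zero_of_smul.mp hfr) z (by simpa using hz)
    have hq : ∀ a ∈ maximalIdeal R, ¬ IsSMulRegular (QuotSMulTop f R) a := by
      intro a ha hreg
      have := two_le_depth_of f a hfm ha hfr hreg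
      have h21 : (2 : ℕ∞) ≤ 1 := this.trans h3
      exact absurd h21 (by norm_num)
    obtain ⟨xbar, hx0, hx⟩ := exists_ne_zero_smul_eq_zero (QuotSMulTop f R) hq
    obtain ⟨g, rfl⟩ := Submodule.Quotient.mk_surjective _ xbar
    have hgn : ∀ b, f * b ≠ g := by
      intro b hb
      apply hx0
      rw [Submodule.Quotient.mk_eq_zero, ← hb]
      exact (Submodule.mem_smul_pointwise_iff_exists _ _ _).mpr ⟨b, Submodule.mem_top, rfl⟩
    have hmg : ∀ a ∈ maximalIdeal R, ∃ b, f * b = a * g := by
      intro a ha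
      have := hx a ha
      rw [← Submodule.Quotient.mk_smul, Submodule.Quotient.mk_eq_zero] at this
      obtain ⟨b, -, hb⟩ := (Submodule.mem_smul_pointwise_iff_exists _ _ _).mp this
      exact ⟨b, by simpa using hb⟩
    by_cases hA : ∀ a ∈ maximalIdeal R, ∃ b ∈ maximalIdeal R, f * b = a * g
    · exact caseA f g hfreg hA hfm hgn
    · exfalso
      push Not at hA
      obtain ⟨t, htm, ht⟩ := hA
      obtain ⟨w, hw⟩ := hmg t htm
      have hw_unit : IsUnit w := by
        by_contra hnu
        exact ht w ((mem_maximalIdeal w).mpr hnu) hw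
      apply h2
      have hgreg : ∀ z, g * z = 0 → z = 0 := by
        intro z hz
        have h0 : f * (w * z) = 0 := by rw [← mul_assoc, hw, mul_assoc, hz, mul_zero]
        exact (hw_unit.mul_right_eq_zero).mp (hfreg _ h0)
      have htreg : ∀ z, t * z = 0 → z = 0 := by
        intro z hz
        have h0 : f * (w * z) = 0 := by rw [← mul_assoc, hw, mul_right_comm, hz, zero_mul]
        exact (hw_unit.mul_right_eq_zero).mp (hfreg _ h0)
      apply regular_dim_one t ?_ (isSMulRegular_iff_right_eq_zero_of_smul.mpr (by simpa using htreg))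
      apply le_antisymm
      · intro a ha
        obtain ⟨b, hb⟩ := hmg a ha
        obtain ⟨v, hv⟩ := hw_unit.exists_right_inv
        have hf' : f = t * g * v := by rw [← hw, mul_assoc, hv, mul_one]
        have h0 : g * (a - t * (v * b)) = 0 := by
          rw [mul_sub, mul_comm g a, ← hb, hf']
          ring
        have h5 := sub_eq_zero.mp (hgreg _ h0)
        rw [Ideal.mem_span_singleton']
        exact ⟨v * b, by rw [h5]; ring⟩
      · rw [Ideal.span_le, Set.singleton_subset_iff]
        exact htm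

end Groth.Agent.H9.Dep1
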