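import Mathlib

/-! Helper9: extending derivations to the adic completion (S18156). -/

namespace Groth.Agent.H9.DerCompl

universe u v
variable (k : Type u) [Field k] {A : Type v} [CommRing A] [Algebra k A] (I : Ideal A)
  (D : Derivation k A A)

lemma D_pow_mem (n : ℕ) : ∀ a ∈ I ^ (n + 1), D a ∈ I ^ n := by
  induction n with
  | zero => intro a _; simp
  | succ n ih =>
    intro a ha
    rw [pow_succ] at ha
    induction ha using Submodule.mul_induction_on' with
    | mem_mul_mem x hx y hy =>
      rw [Derivation.leibniz]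
      refine Ideal.add_mem _ ?_ ?_
      · rw [smul_eq_mul]; exact Ideal.mul_mem_right _ _ hx
      · have h1 : y • D x = D x * y := by rw [smul_eq_mul, mul_comm]
        rw [h1, pow_succ]
        exact Ideal.mul_mem_mul (ih x hx) hy
    | add x _ y _ hx hy => rw [map_add]; exact Ideal.add_mem _ hx hy

/-- the submodule `I^n • ⊤` -/
abbrev pn (n : ℕ) : Submodule A A := (I ^ n • ⊤ : Submodule A A)

lemma mem_pn (n : ℕ) (a : A) : a ∈ pn I n ↔ a ∈ I ^ n := by
  change a ∈ (I ^ n • ⊤ : Ideal A) ↔ _
  rw [smul_eq_mul, Ideal.mul_top]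

/-- the induced maps on quotients -/
noncomputable def Dn (n : ℕ) : (A ⧸ pn I (n + 1)) →ₗ[k] (A ⧸ pn I n) :=
  (Submodule.Quotient.restrictScalarsEquiv k (pn I n)).toLinearMap ∘ₗ
    (Submodule.mapQ ((pn I (n + 1)).restrictScalars k) ((pn I n).restrictScalars k)
      D.toLinearMap (by
        intro a ha
        rw [Submodule.mem_comap, Submodule.restrictScalars_mem, mem_pn]
        rw [Submodule.restrictScalars_mem, mem_pn] at ha
        exact D_pow_mem k I D n a ha)) ∘ₗ
    (Submodule.Quotient.restrictScalarsEquiv k (pn I (n + 1))).symm.toLinearMap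

lemma Dn_mk (n : ℕ) (a : A) :
    Dn k I D n (Submodule.Quotient.mk a) = Submodule.Quotient.mk (D a) := rfl

lemma val_ksmul (c : k) (x : AdicCompletion I A) (n : ℕ) : (c • x).val n = c • x.val n := by
  have h0 : (c • x).val n = (algebraMap k (AdicCompletion I A) c * x).val n :=
    congrArg (fun z : AdicCompletion I A => z.val n) (Algebra.smul_def c x)
  rw [h0, AdicCompletion.val_mul]
  obtain ⟨a, ha⟩ := Submodule.Quotient.mk_surjective _ (x.val n)
  rw [← ha]
  change (Submodule.Quotient.mk (algebraMap k A c) : A ⧸ pn I n) * Submodule.Quotient.mk a =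
    Submodule.Quotient.mk (c • a)
  have h1 : c • a = algebraMap k A c * a := Algebra.smul_def c a
  rw [h1]
  rfl

lemma val_succ (x : AdicCompletion I A) (n : ℕ) (a : A)
    (ha : x.val (n + 1) = Submodule.Quotient.mk a) : x.val n = Submodule.Quotient.mk a := by
  rw [← AdicCompletion.transitionMap_comp_eval_apply I A (Nat.le_succ n) x, ha]
  rfl

/-- the extended derivation, as a function -/
noncomputable def DhatFun (x : AdicCompletion I A) : AdicCompletion I A :=
  ⟨fun n => Dn k I D n (x.val (n + 1)), by
    intro m n hmn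
    change AdicCompletion.transitionMap I A hmn (Dn k I D n (x.val (n + 1))) =
      Dn k I D m (x.val (m + 1))
    obtain ⟨a, ha⟩ := Submodule.Quotient.mk_surjective _ (x.val (n + 1))
    have h1 : x.val (m + 1) = Submodule.Quotient.mk a := by
      rw [← AdicCompletion.transitionMap_comp_eval_apply I A (Nat.succ_le_succ hmn) x, ← ha]
      rfl
    rw [h1, ← ha, Dn_mk, Dn_mk]
    rfl⟩

lemma DhatFun_val (x : AdicCompletion I A) (n : ℕ) :
    (DhatFun k I D x).val n = Dn k I D n (x.val (n + 1)) := rfl

/-- the extended derivation, as a linear map -/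
noncomputable def DhatLin : AdicCompletion I A →ₗ[k] AdicCompletion I A where
  toFun := DhatFun k I D
  map_add' x y := by
    apply AdicCompletion.ext
    intro n
    have h0 : (x + y).val (n + 1) = x.val (n + 1) + y.val (n + 1) := rfl
    have h1 : (DhatFun k I D x + DhatFun k I D y).val n =
      (DhatFun k I D x).val n + (DhatFun k I D y).val n := rfl
    rw [h1, DhatFun_val, DhatFun_val, DhatFun_val, h0, map_add]
  map_smul' c x := by
    apply AdicCompletion.ext
    intro n
    refine Eq.trans ?_ (val_ksmul k I c (DhatFun k I D x) n).symm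
    rw [DhatFun_val, DhatFun_val, val_ksmul, map_smul]

lemma DhatLin_val (x : AdicCompletion I A) (n : ℕ) :
    (DhatLin k I D x).val n = Dn k I D n (x.val (n + 1)) := rfl

/-- the extended derivation -/
noncomputable def Dhat : Derivation k (AdicCompletion I A) (AdicCompletion I A) :=
  Derivation.mk' (DhatLin k I D) (by
    intro x y
    apply AdicCompletion.ext
    intro n
    obtain ⟨a, ha⟩ := Submodule.Quotient.mk_surjective _ (x.val (n + 1))
    obtain ⟨b, hb⟩ := Submodule.Quotient.mk_surjective _ (y.val (n + 1))
    have hxn := val_succ I x n a ha.symm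
    have hyn := val_succ I y n b hb.symm
    have h1 : (DhatLin k I D (x * y)).val n = Submodule.Quotient.mk (D (a * b)) := by
      rw [DhatLin_val, AdicCompletion.val_mul, ← ha, ← hb]; rfl
    have h2 : (DhatLin k I D y).val n = Submodule.Quotient.mk (D b) := by
      rw [DhatLin_val, ← hb]; rfl
    have h3 : (DhatLin k I D x).val n = Submodule.Quotient.mk (D a) := by
      rw [DhatLin_val, ← ha]; rfl
    have h4 : (x • DhatLin k I D y + y • DhatLin k I D x).val n =
      x.val n • (DhatLin k I D y).val n + y.val n • (DhatLin k I D x).val n := rfl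
    rw [h1, h4, h2, h3, hxn, hyn, Derivation.leibniz]
    rfl)

theorem main (k : Type u) [Field k] (A : Type v) [CommRing A] [Algebra k A] [IsLocalRing A]
    (D : Derivation k A A) :
    ∃ Dhat : Derivation k (AdicCompletion (IsLocalRing.maximalIdeal A) A)
        (AdicCompletion (IsLocalRing.maximalIdeal A) A),
      ∀ a : A, Dhat (algebraMap A (AdicCompletion (IsLocalRing.maximalIdeal A) A) a) =
        algebraMap A (AdicCompletion (IsLocalRing.maximalIdeal A) A) (D a) := by
  refine ⟨Dhat k _ D, fun a => ?_⟩
  apply AdicCompletion.ext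
  intro n
  rfl

end Groth.Agent.H9.DerCompl
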