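import Mathlib

/-! Helper9: extension of g^N D to a birational finite-type overring (S2133). -/

namespace Groth.Agent.H9.DerExt
open KaehlerDifferential

universe u

section Loc
variable {R T : Type u} [CommRing R] [CommRing T] [Algebra R T] (g : R)

/-- extension of a derivation to a localization -/
noncomputable def extLoc [IsLocalization.Away g T] (D : Derivation ℤ R R) : Derivation ℤ T T :=
  have := Algebra.FormallyEtale.of_isLocalization (Rₘ := T) (Submonoid.powers g)
  ((KaehlerDifferential.isBaseChange_of_formallyEtale ℤ R T).lift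
    ((Algebra.linearMap R T) ∘ₗ D.liftKaehlerDifferential)).compDer (KaehlerDifferential.D ℤ T)

lemma extLoc_algebraMap [IsLocalization.Away g T] (D : Derivation ℤ R R) (r : R) :
    extLoc (T := T) g D (algebraMap R T r) = algebraMap R T (D r) := by
  unfold extLoc
  rw [Derivation.coe_comp]
  simp only [LinearMap.coe_comp, Function.comp_apply, LinearMap.coe_restrictScalars,
    Derivation.coeFn_coe]
  rw [← KaehlerDifferential.map_D ℤ ℤ R T, IsBaseChange.lift_eq]
  simp [Derivation.liftKaehlerDifferential_comp_D]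
end Loc

theorem main_aux {R R' : Type u} [CommRing R] [CommRing R'] [Algebra R R']
    [Algebra.FiniteType R R'] (g : R) (T : Type u) [CommRing T] [Algebra R' T] [Algebra R T]
    [IsScalarTower R R' T] [IsLocalization.Away (algebraMap R R' g) T]
    (hinj : Function.Injective (algebraMap R R'))
    (hg : IsSMulRegular R' (algebraMap R R' g))
    (hloc : ∀ x : R', ∃ n : ℕ, (algebraMap R R' g) ^ n * x ∈ Set.range (algebraMap R R'))
    (D : Derivation ℤ R R) :
    ∃ (N : ℕ) (D' : Derivation ℤ R' R'), ∀ r : R,
      D' (algebraMap R R' r) = algebraMap R R' (g ^ N * D r) := by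
  classical
  set g' := algebraMap R R' g with hg'
  have hgT : IsUnit (algebraMap R' T g') := IsLocalization.Away.algebraMap_isUnit g'
  have hreg : ∀ n : ℕ, ∀ a b : R', g' ^ n * a = g' ^ n * b → a = b :=
    fun n a b h => (hg.pow n) h
  have hinjT : Function.Injective (algebraMap R' T) := by
    rw [injective_iff_map_eq_zero]
    intro a ha
    obtain ⟨⟨_, n, rfl⟩, hc⟩ := (IsLocalization.map_eq_zero_iff (Submonoid.powers g') T a).1 ha
    exact hreg n a 0 (by simpa using hc)
  have hAway : IsLocalization.Away g T := by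
    rw [IsLocalization.Away, isLocalization_iff]
    refine ⟨?_, ?_, ?_⟩
    · rintro ⟨_, n, rfl⟩
      rw [map_pow, IsScalarTower.algebraMap_apply R R' T]
      exact hgT.pow n
    · intro z
      obtain ⟨⟨x, ⟨_, n, rfl⟩⟩, hx⟩ := IsLocalization.surj (Submonoid.powers g') z
      obtain ⟨m, r, hr⟩ := hloc x
      refine ⟨(r, ⟨g ^ (n + m), n + m, rfl⟩), ?_⟩
      simp only at hx ⊢
      rw [IsScalarTower.algebraMap_apply R R' T, IsScalarTower.algebraMap_apply R R' T, hr,
        map_pow, ← hg', pow_add, map_mul, map_mul, ← mul_assoc, hx]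
      ring
    · intro x y hxy
      rw [IsScalarTower.algebraMap_apply R R' T, IsScalarTower.algebraMap_apply R R' T] at hxy
      have := hinjT hxy
      exact ⟨1, by rw [hinj this]⟩
  let DT : Derivation ℤ T T := extLoc (T := T) g D
  have hDT : ∀ r, DT (algebraMap R T r) = algebraMap R T (D r) := extLoc_algebraMap g D
  let D₁ : Derivation ℤ R' T := DT.compAlgebraMap R'
  have hD₁ : ∀ x, D₁ x = DT (algebraMap R' T x) := fun x => rfl
  obtain ⟨s, hs⟩ := (Algebra.FiniteType.out : (⊤ : Subalgebra R R').FG)
  have hex : ∀ t : T, ∃ n : ℕ, ∃ y : R', algebraMap R' T (g' ^ n) * t = algebraMap R' T y := by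
    intro t
    obtain ⟨⟨y, ⟨_, n, rfl⟩⟩, hy⟩ := IsLocalization.surj (Submonoid.powers g') t
    exact ⟨n, y, by rw [mul_comm]; exact hy⟩
  choose nn yy hny using hex
  let N := s.sup (fun x => nn (D₁ x))
  have key : ∀ x : R', ∃ y : R', algebraMap R' T (g' ^ N) * D₁ x = algebraMap R' T y := by
    intro x
    have hx : x ∈ Algebra.adjoin R (s : Set R') := hs ▸ Algebra.mem_top
    induction hx using Algebra.adjoin_induction with
    | mem x hx =>
      have hle : nn (D₁ x) ≤ N := Finset.le_sup (f := fun x => nn (D₁ x)) hx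
      refine ⟨g' ^ (N - nn (D₁ x)) * yy (D₁ x), ?_⟩
      rw [map_mul, ← hny, ← mul_assoc, ← map_mul, ← pow_add, Nat.sub_add_cancel hle]
    | algebraMap r =>
      refine ⟨g' ^ N * algebraMap R R' (D r), ?_⟩
      rw [hD₁, ← IsScalarTower.algebraMap_apply R R' T, hDT, map_mul,
        ← IsScalarTower.algebraMap_apply R R' T]
    | add x y hx hy ihx ihy =>
      obtain ⟨a, ha⟩ := ihx
      obtain ⟨b, hb⟩ := ihy
      exact ⟨a + b, by rw [map_add, mul_add, ha, hb, map_add]⟩
    | mul x y hx hy ihx ihy =>
      obtain ⟨a, ha⟩ := ihx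
      obtain ⟨b, hb⟩ := ihy
      refine ⟨x * b + y * a, ?_⟩
      rw [Derivation.leibniz, mul_add, map_add, map_mul, map_mul, ← ha, ← hb]
      simp only [Algebra.smul_def]
      ring
  choose E hE using key
  have hE_add : ∀ x y, E (x + y) = E x + E y := by
    intro x y
    apply hinjT
    rw [map_add, ← hE, ← hE, ← hE, map_add, mul_add]
  have hE_mul : ∀ x y, E (x * y) = x • E y + y • E x := by
    intro x y
    apply hinjT
    rw [map_add, smul_eq_mul, smul_eq_mul, map_mul, map_mul, ← hE, ← hE, ← hE,
      Derivation.leibniz]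
    simp only [Algebra.smul_def]
    ring
  let Elin : R' →ₗ[ℤ] R' := (AddMonoidHom.mk' E hE_add).toIntLinearMap
  refine ⟨N, Derivation.mk' Elin hE_mul, fun r => ?_⟩
  apply hinjT
  change algebraMap R' T (E (algebraMap R R' r)) = _
  rw [← hE, hD₁, ← IsScalarTower.algebraMap_apply R R' T, hDT, map_mul (algebraMap R R'),
    map_pow, map_mul, ← IsScalarTower.algebraMap_apply R R' T]
  rw [← IsScalarTower.algebraMap_apply R R' T, ← IsScalarTower.algebraMap_apply R R' T, map_pow]

theorem main {R R' : Type u} [CommRing R] [CommRing R'] [Algebra R R'] [Algebra.FiniteType R R']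
    (hinj : Function.Injective (algebraMap R R')) (g : R)
    (hg : IsSMulRegular R' (algebraMap R R' g))
    (hloc : ∀ x : R', ∃ n : ℕ, (algebraMap R R' g) ^ n * x ∈ Set.range (algebraMap R R'))
    (D : Derivation ℤ R R) :
    ∃ (N : ℕ) (D' : Derivation ℤ R' R'), ∀ r : R,
      D' (algebraMap R R' r) = algebraMap R R' (g ^ N * D r) :=
  main_aux g (Localization.Away (algebraMap R R' g)) hinj hg hloc D

end Groth.Agent.H9.DerExt
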