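import Mathlib

set_option autoImplicit false
set_option linter.unusedSectionVars false
set_option linter.unusedVariables false

namespace Groth.Agent.H9.DerReg

open IsLocalRing

universe u

variable {R : Type u} [CommRing R] [IsLocalRing R] [IsNoetherianRing R]
variable {S : Type*} [CommRing S] [Algebra S R]

theorem mem_sup_pow (hu : ∀ j : ℕ, IsUnit ((j + 1 : ℕ) : R)) (J : Ideal R) (x : R)
    (D : Derivation S R R) (hDJ : ∀ a ∈ J, D a ∈ J) (hDx : D x - 1 ∈ J) (f : R)
    (hf : x * f ∈ J) (j : ℕ) : ∃ a ∈ J, ∃ g, f = a + x ^ j * g := by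
  induction j with
  | zero => exact ⟨0, J.zero_mem, f, by simp⟩
  | succ j ih =>
    obtain ⟨a, ha, g, hg⟩ := ih
    have h1 : x ^ (j + 1) * g ∈ J := by
      have : x ^ (j + 1) * g = x * f - x * a := by rw [hg]; ring
      rw [this]; exact J.sub_mem hf (J.mul_mem_left _ ha)
    have h2 := hDJ _ h1
    rw [Derivation.leibniz, Derivation.leibniz_pow] at h2
    simp only [smul_eq_mul, nsmul_eq_mul, Nat.add_sub_cancel] at h2
    obtain ⟨u, hu'⟩ := hu j
    set c := D x - 1 with hc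
    have hb : x ^ (j + 1) * D g + g * (((j + 1 : ℕ) : R) * (x ^ j * D x))
        - ((j + 1 : ℕ) : R) * x ^ j * g * c ∈ J :=
      J.sub_mem h2 (J.mul_mem_left _ hDx)
    set b := x ^ (j + 1) * D g + g * (((j + 1 : ℕ) : R) * (x ^ j * D x))
        - ((j + 1 : ℕ) : R) * x ^ j * g * c with hbdef
    have h4 : (u : R) * (x ^ j * g) = b - x ^ (j + 1) * D g := by
      rw [hu', hbdef, hc]; ring
    have hkey : x ^ j * g = ↑u⁻¹ * b - x ^ (j + 1) * (↑u⁻¹ * D g) := by
      calc x ^ j * g = ↑u⁻¹ * (↑u * (x ^ j * g)) := by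
            rw [← mul_assoc, Units.inv_mul, one_mul]
        _ = _ := by rw [h4]; ring
    refine ⟨a + ↑u⁻¹ * b, J.add_mem ha (J.mul_mem_left _ hb), -(↑u⁻¹ * D g), ?_⟩
    rw [hg, hkey]; ring

theorem not_isUnit_mk (J : Ideal R) (hJ : J ≤ maximalIdeal R) (x : R) (hx : x ∈ maximalIdeal R) :
    ¬ IsUnit (Ideal.Quotient.mk J x) := by
  intro h
  obtain ⟨y', hy'⟩ := h.exists_right_inv
  obtain ⟨y, rfl⟩ := Ideal.Quotient.mk_surjective y'
  rw [← map_mul, ← map_one (Ideal.Quotient.mk J), Ideal.Quotient.eq] at hy'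
  have h1 : x * y - 1 ∈ maximalIdeal R := hJ hy'
  have h2 : x * y ∈ maximalIdeal R := Ideal.mul_mem_right _ _ hx
  have h3 : (1 : R) ∈ maximalIdeal R := by
    have := (maximalIdeal R).sub_mem h2 h1
    simpa using this
  exact (Ideal.ne_top_iff_one _).mp (IsLocalRing.maximalIdeal.isMaximal R).ne_top h3

theorem isSMulRegular_quot (hu : ∀ j : ℕ, IsUnit ((j + 1 : ℕ) : R)) (J : Ideal R)
    (hJ : J ≤ maximalIdeal R) (x : R) (hx : x ∈ maximalIdeal R)
    (D : Derivation S R R) (hDJ : ∀ a ∈ J, D a ∈ J) (hDx : D x - 1 ∈ J) :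
    IsSMulRegular (R ⧸ J) (Ideal.Quotient.mk J x) := by
  have hJtop : J ≠ ⊤ := fun h => (IsLocalRing.maximalIdeal.isMaximal R).ne_top
    (top_le_iff.mp (h ▸ hJ))
  haveI : Nontrivial (R ⧸ J) := Ideal.Quotient.nontrivial_iff.mpr hJtop
  haveI : IsLocalRing (R ⧸ J) :=
    IsLocalRing.of_surjective' (Ideal.Quotient.mk J) Ideal.Quotient.mk_surjective
  intro p q hpq
  obtain ⟨f, rfl⟩ := Ideal.Quotient.mk_surjective p
  obtain ⟨g, rfl⟩ := Ideal.Quotient.mk_surjective q
  have h1 : x * (f - g) ∈ J := by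
    rw [← Ideal.Quotient.eq_zero_iff_mem, map_mul, map_sub, mul_sub, sub_eq_zero]
    exact hpq
  have h2 : ∀ j, Ideal.Quotient.mk J (f - g) ∈ (Ideal.span {Ideal.Quotient.mk J x}) ^ j := by
    intro j
    obtain ⟨a, ha, h, hh⟩ := mem_sup_pow hu J x D hDJ hDx (f - g) h1 j
    rw [hh, map_add, Ideal.Quotient.eq_zero_iff_mem.mpr ha, zero_add, map_mul, map_pow,
      Ideal.span_singleton_pow]
    exact Ideal.mul_mem_right _ _ (Ideal.subset_span rfl)
  have h3 : Ideal.span {Ideal.Quotient.mk J x} ≠ ⊤ := by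
    rw [Ne, Ideal.span_singleton_eq_top]
    exact not_isUnit_mk J hJ x hx
  have h4 := Ideal.iInf_pow_eq_bot_of_isLocalRing _ h3
  have h5 : Ideal.Quotient.mk J (f - g) ∈ (⊥ : Ideal (R ⧸ J)) := by
    rw [← h4]; exact Ideal.mem_iInf.mpr h2
  rw [Ideal.mem_bot, map_sub, sub_eq_zero] at h5
  exact h5

theorem le_dim_quot (hu : ∀ j : ℕ, IsUnit ((j + 1 : ℕ) : R)) :
    ∀ (n : ℕ) (J : Ideal R) (hJ : J ≤ maximalIdeal R) (x : Fin n → R)
      (hx : ∀ i, x i ∈ maximalIdeal R) (D : Fin n → Derivation S R R)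
      (hDJ : ∀ i, ∀ a ∈ J, D i a ∈ J)
      (hD : ∀ i j, D i (x j) - (if i = j then 1 else 0) ∈ J),
      (n : WithBot ℕ∞) ≤ ringKrullDim (R ⧸ J)
  | 0, J, hJ, _, _, _, _, _ => by
    have hJtop : J ≠ ⊤ := fun h => (IsLocalRing.maximalIdeal.isMaximal R).ne_top
      (top_le_iff.mp (h ▸ hJ))
    haveI : Nontrivial (R ⧸ J) := Ideal.Quotient.nontrivial_iff.mpr hJtop
    simpa using ringKrullDim_nonneg_of_nontrivial (R := R ⧸ J)
  | n + 1, J, hJ, x, hx, D, hDJ, hD => by
    have hJtop : J ≠ ⊤ := fun h => (IsLocalRing.maximalIdeal.isMaximal R).ne_top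
      (top_le_iff.mp (h ▸ hJ))
    haveI : Nontrivial (R ⧸ J) := Ideal.Quotient.nontrivial_iff.mpr hJtop
    haveI : IsLocalRing (R ⧸ J) :=
      IsLocalRing.of_surjective' (Ideal.Quotient.mk J) Ideal.Quotient.mk_surjective
    have hJ' : J ⊔ Ideal.span {x 0} ≤ maximalIdeal R :=
      sup_le hJ ((Ideal.span_singleton_le_iff_mem _).mpr (hx 0))
    have hD0 : D 0 (x 0) - 1 ∈ J := by simpa using hD 0 0
    have ih := le_dim_quot hu n (J ⊔ Ideal.span {x 0}) hJ' (fun i => x i.succ)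
      (fun i => hx _) (fun i => D i.succ) (by
        intro i a ha
        obtain ⟨b, hb, c, hc, rfl⟩ := Submodule.mem_sup.mp ha
        obtain ⟨r, rfl⟩ := Ideal.mem_span_singleton'.mp hc
        rw [map_add, Derivation.leibniz]
        have h0 : D i.succ (x 0) ∈ J := by
          have := hD i.succ 0
          rwa [if_neg (Fin.succ_ne_zero i), sub_zero] at this
        refine Ideal.add_mem _ (Ideal.mem_sup_left (hDJ _ _ hb)) (Ideal.add_mem _ ?_ ?_)
        · exact Ideal.mem_sup_left (J.mul_mem_left _ h0)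
        · rw [smul_eq_mul, mul_comm]
          exact Ideal.mem_sup_right (Ideal.mul_mem_left _ _ (Ideal.subset_span rfl)))
      (by
        intro i j
        have := hD i.succ j.succ
        simp only [Fin.succ_inj] at this
        exact Ideal.mem_sup_left this)
    have reg := isSMulRegular_quot hu J hJ (x 0) (hx 0) (D 0) (hDJ 0) hD0
    have hmem : Ideal.Quotient.mk J (x 0) ∈ maximalIdeal (R ⧸ J) := by
      rw [mem_maximalIdeal, mem_nonunits_iff]
      exact not_isUnit_mk J hJ _ (hx 0)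
    have hreg := ringKrullDim_quotient_span_singleton_succ_eq_ringKrullDim reg hmem
    have hmap : (Ideal.span {x 0}).map (Ideal.Quotient.mk J) =
        Ideal.span {Ideal.Quotient.mk J (x 0)} := by
      rw [Ideal.map_span, Set.image_singleton]
    have e := DoubleQuot.quotQuotEquivQuotSup J (Ideal.span {x 0})
    have hdim := ringKrullDim_eq_of_ringEquiv e
    rw [hmap] at hdim
    rw [← hreg, hdim]
    push_cast
    exact add_le_add_left ih 1

end Groth.Agent.H9.DerReg
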