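import Mathlib
import Groth.Agent.Lib.Helper9.Misc.DerRegA

set_option autoImplicit false
set_option linter.unusedSectionVars false
set_option linter.unusedVariables false

namespace Groth.Agent.H9.DerReg

open IsLocalRing Matrix

universe u

section

variable (k R : Type u) [Field k] [CommRing R] [Algebra k R] [IsLocalRing R]
  (hres : Function.Surjective (algebraMap k (ResidueField R)))

include hres in
theorem exists_decomp (r : R) : ∃ a : k, r - algebraMap k R a ∈ maximalIdeal R := by
  obtain ⟨a, ha⟩ := hres (residue R r)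
  refine ⟨a, ?_⟩
  rw [← residue_eq_zero_iff, map_sub, sub_eq_zero, ← ha,
    IsScalarTower.algebraMap_apply k R (ResidueField R) a]
  rfl

theorem algebraMap_mem_iff (a : k) : algebraMap k R a ∈ maximalIdeal R ↔ a = 0 := by
  constructor
  · intro h
    by_contra ha
    have : IsUnit (algebraMap k R a) := (isUnit_iff_ne_zero.mpr ha).map _
    exact (mem_nonunits_iff.mp ((mem_maximalIdeal _).mp h)) this
  · rintro rfl; simp

noncomputable def cOf (r : R) : k := Classical.choose (exists_decomp k R hres r)

theorem cOf_spec (r : R) : r - algebraMap k R (cOf k R hres r) ∈ maximalIdeal R :=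
  Classical.choose_spec (exists_decomp k R hres r)

theorem cOf_unique (r : R) (a : k) (h : r - algebraMap k R a ∈ maximalIdeal R) :
    cOf k R hres r = a := by
  have h1 := (maximalIdeal R).sub_mem h (cOf_spec k R hres r)
  have h2 : r - algebraMap k R a - (r - algebraMap k R (cOf k R hres r)) =
      algebraMap k R (cOf k R hres r - a) := by rw [map_sub]; ring
  rw [h2, algebraMap_mem_iff, sub_eq_zero] at h1
  exact h1

theorem cOf_add (r s : R) : cOf k R hres (r + s) = cOf k R hres r + cOf k R hres s := by
  apply cOf_unique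
  have := (maximalIdeal R).add_mem (cOf_spec k R hres r) (cOf_spec k R hres s)
  rw [map_add]
  convert this using 1; ring

theorem cOf_mul (r s : R) : cOf k R hres (r * s) = cOf k R hres r * cOf k R hres s := by
  apply cOf_unique
  have h1 := (maximalIdeal R).mul_mem_left s (cOf_spec k R hres r)
  have h2 := (maximalIdeal R).mul_mem_left (algebraMap k R (cOf k R hres r)) (cOf_spec k R hres s)
  have := (maximalIdeal R).add_mem h1 h2
  rw [map_mul]
  convert this using 1; ring

theorem cOf_smul (a : k) (r : R) : cOf k R hres (a • r) = a * cOf k R hres r := by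
  apply cOf_unique
  have h1 := (maximalIdeal R).mul_mem_left (algebraMap k R a) (cOf_spec k R hres r)
  rw [map_mul, Algebra.smul_def]
  convert h1 using 1; ring

theorem cOf_of_mem (z : R) (hz : z ∈ maximalIdeal R) : cOf k R hres z = 0 := by
  apply cOf_unique
  simpa using hz

theorem smul_cotangent_eq_zero (r : R) (hr : r ∈ maximalIdeal R)
    (t : (maximalIdeal R).Cotangent) : r • t = 0 := by
  obtain ⟨w, rfl⟩ := (maximalIdeal R).toCotangent_surjective t
  rw [← map_smul, Ideal.toCotangent_eq_zero, sq]
  exact Ideal.mul_mem_mul hr w.2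

noncomputable def deltaLin : R →ₗ[k] (maximalIdeal R).Cotangent where
  toFun r := (maximalIdeal R).toCotangent ⟨r - algebraMap k R (cOf k R hres r), cOf_spec k R hres r⟩
  map_add' r s := by
    rw [← map_add]
    congr 1
    apply Subtype.ext
    simp only [Submodule.coe_add, cOf_add, map_add]
    ring
  map_smul' a r := by
    simp only [RingHom.id_apply]
    rw [← algebraMap_smul R a ((maximalIdeal R).toCotangent
      ⟨r - algebraMap k R (cOf k R hres r), cOf_spec k R hres r⟩), ← LinearMap.map_smul]
    congr 1
    apply Subtype.ext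
    show a • r - algebraMap k R (cOf k R hres (a • r)) =
      algebraMap k R a • (r - algebraMap k R (cOf k R hres r))
    rw [cOf_smul, map_mul, Algebra.smul_def, smul_eq_mul]
    ring

noncomputable def delta : Derivation k R (maximalIdeal R).Cotangent :=
  Derivation.mk' (deltaLin k R hres) (by
    intro r s
    show (maximalIdeal R).toCotangent _ =
      r • (maximalIdeal R).toCotangent _ + s • (maximalIdeal R).toCotangent _
    rw [← map_smul, ← map_smul, ← map_add, Ideal.toCotangent_eq, sq]
    have h := Ideal.mul_mem_mul (cOf_spec k R hres r) (cOf_spec k R hres s)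
    have h' := (maximalIdeal R * maximalIdeal R).neg_mem h
    convert h' using 1
    simp only [Submodule.coe_add, SetLike.val_smul, smul_eq_mul, cOf_mul, map_mul]
    ring)

theorem delta_apply_of_mem (z : R) (hz : z ∈ maximalIdeal R) :
    delta k R hres z = (maximalIdeal R).toCotangent ⟨z, hz⟩ := by
  show (maximalIdeal R).toCotangent _ = _
  congr 1
  apply Subtype.ext
  simp [cOf_of_mem k R hres z hz]

include hres in
theorem mem_sq_of_coord_mem (n : ℕ) (e : Ω[R⁄k] ≃ₗ[R] (Fin n → R)) (z : R)
    (hz : z ∈ maximalIdeal R)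
    (h : ∀ i, e (KaehlerDifferential.D k R z) i ∈ maximalIdeal R) :
    z ∈ maximalIdeal R ^ 2 := by
  have h1 : (delta k R hres).liftKaehlerDifferential (KaehlerDifferential.D k R z) =
      (maximalIdeal R).toCotangent ⟨z, hz⟩ := by
    rw [Derivation.liftKaehlerDifferential_comp_D, delta_apply_of_mem]
  have h2 : KaehlerDifferential.D k R z =
      ∑ i, e (KaehlerDifferential.D k R z) i • e.symm (Pi.single i 1) := by
    apply e.injective
    rw [map_sum]
    simp only [map_smul, LinearEquiv.apply_symm_apply]
    funext j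
    simp [Finset.sum_apply, Pi.single_apply]
  have h3 : (delta k R hres).liftKaehlerDifferential (KaehlerDifferential.D k R z) = 0 := by
    rw [h2, map_sum]
    apply Finset.sum_eq_zero
    intro i _
    rw [map_smul]
    exact smul_cotangent_eq_zero R _ (h i) _
  rw [h1, Ideal.toCotangent_eq_zero] at h3
  exact h3

include hres in
theorem exists_dual (n : ℕ) (e : Ω[R⁄k] ≃ₗ[R] (Fin n → R)) (ω : Ω[R⁄k]) :
    ∃ y ∈ maximalIdeal R, ∀ i,
      residue R (e ω i) = residue R (e (KaehlerDifferential.D k R y) i) := by
  have hω : ω ∈ Submodule.span R (Set.range (KaehlerDifferential.D k R)) := by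
    rw [KaehlerDifferential.span_range_derivation]; trivial
  induction hω using Submodule.span_induction with
  | mem ω h =>
    obtain ⟨r, rfl⟩ := h
    obtain ⟨a, ha⟩ := exists_decomp k R hres r
    refine ⟨r - algebraMap k R a, ha, fun i => ?_⟩
    rw [map_sub, Derivation.map_algebraMap, sub_zero]
  | zero => exact ⟨0, zero_mem _, fun i => by simp⟩
  | add ω ω' _ _ h h' =>
    obtain ⟨y, hy, hyi⟩ := h
    obtain ⟨y', hy', hyi'⟩ := h'
    refine ⟨y + y', add_mem hy hy', fun i => ?_⟩
    simp only [map_add, Pi.add_apply, hyi, hyi']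
  | smul r ω _ h =>
    obtain ⟨y, hy, hyi⟩ := h
    refine ⟨r * y, Ideal.mul_mem_left _ _ hy, fun i => ?_⟩
    have hy0 : residue R y = 0 := (residue_eq_zero_iff y).mpr hy
    rw [Derivation.leibniz]
    simp only [map_add, map_smul, Pi.add_apply, Pi.smul_apply, smul_eq_mul, map_mul, hyi, hy0,
      zero_mul, add_zero]

end

theorem main (k R : Type u) [Field k] [CharZero k] [CommRing R] [Algebra k R] [IsLocalRing R]
    [IsNoetherianRing R]
    (hres : Function.Surjective (algebraMap k (IsLocalRing.ResidueField R)))
    (n : ℕ) (e : Ω[R⁄k] ≃ₗ[R] (Fin n → R)) :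
    IsRegularLocalRing R ∧ ringKrullDim R = n := by
  classical
  have hu : ∀ j : ℕ, IsUnit ((j + 1 : ℕ) : R) := by
    intro j
    have h1 : ((j + 1 : ℕ) : R) = algebraMap k R ((j + 1 : ℕ) : k) := (map_natCast _ _).symm
    rw [h1]
    exact (isUnit_iff_ne_zero.mpr (Nat.cast_ne_zero.mpr (Nat.succ_ne_zero j))).map _
  -- coordinates
  let D : Fin n → Derivation k R R := fun i =>
    ((LinearMap.proj i).comp e.toLinearMap).compDer (KaehlerDifferential.D k R)
  have hDapp : ∀ i r, D i r = e (KaehlerDifferential.D k R r) i := fun i r => rfl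
  -- choose y
  have hy : ∀ j : Fin n, ∃ y ∈ maximalIdeal R, ∀ i,
      residue R (D i y) = if i = j then 1 else 0 := by
    intro j
    obtain ⟨y, hy, hyi⟩ := exists_dual k R hres n e (e.symm (Pi.single j 1))
    refine ⟨y, hy, fun i => ?_⟩
    rw [hDapp, ← hyi, LinearEquiv.apply_symm_apply, Pi.single_apply]
    split_ifs <;> simp
  choose y hym hyD using hy
  let M : Matrix (Fin n) (Fin n) R := fun i j => D i (y j)
  have hMres : M.map (residue R) = 1 := by
    ext i j
    simp only [Matrix.map_apply, M, hyD, Matrix.one_apply]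
  have hdet : IsUnit M.det := by
    have h1 : residue R M.det = 1 := by
      rw [RingHom.map_det, RingHom.mapMatrix_apply, hMres, Matrix.det_one]
    by_contra hnu
    have : M.det ∈ maximalIdeal R := (mem_maximalIdeal _).mpr (mem_nonunits_iff.mpr hnu)
    rw [← residue_eq_zero_iff, h1] at this
    exact one_ne_zero this
  -- adjusted derivations
  let D' : Fin n → Derivation k R R := fun i =>
    ((LinearMap.proj i).comp ((Matrix.toLin' M⁻¹).comp e.toLinearMap)).compDer
      (KaehlerDifferential.D k R)
  have hD'app : ∀ i r, D' i r = ∑ l, M⁻¹ i l * D l r := by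
    intro i r
    show (Matrix.toLin' M⁻¹ (e (KaehlerDifferential.D k R r))) i = _
    rw [Matrix.toLin'_apply, Matrix.mulVec, dotProduct]
    rfl
  have hD'y : ∀ i j, D' i (y j) = if i = j then 1 else 0 := by
    intro i j
    rw [hD'app]
    have : (M⁻¹ * M) i j = (1 : Matrix (Fin n) (Fin n) R) i j := by
      rw [Matrix.nonsing_inv_mul M hdet]
    rw [Matrix.mul_apply, Matrix.one_apply] at this
    exact this
  have hDD' : ∀ i r, D i r = ∑ l, M i l * D' l r := by
    intro i r
    have h1 : ∀ l, D' l r = (M⁻¹ *ᵥ (fun l' => D l' r)) l := by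
      intro l; rw [hD'app]; rfl
    simp only [h1]
    have : (M *ᵥ (M⁻¹ *ᵥ (fun l' => D l' r))) i = D i r := by
      rw [Matrix.mulVec_mulVec, Matrix.mul_nonsing_inv M hdet, Matrix.one_mulVec]
    rw [← this]; rfl
  -- lower bound
  have hlow : (n : WithBot ℕ∞) ≤ ringKrullDim R := by
    have h := le_dim_quot (R := R) (S := k) hu n ⊥ bot_le y hym D'
      (by intro i a ha; rw [Ideal.mem_bot] at ha; rw [ha, map_zero]; exact Ideal.zero_mem _)
      (by intro i j; rw [hD'y, sub_self]; exact Ideal.zero_mem _)
    rwa [ringKrullDim_eq_of_ringEquiv (RingEquiv.quotientBot R)] at h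
  -- generation
  have hgen : maximalIdeal R ≤ Ideal.span (Set.range y) := by
    apply Submodule.le_of_le_smul_of_le_jacobson_bot (I := maximalIdeal R)
      (IsNoetherian.noetherian _)
      (by rw [IsLocalRing.jacobson_eq_maximalIdeal ⊥ bot_ne_top])
    intro y' hy'
    set z := y' - ∑ j, D' j y' * y j with hzdef
    have hsum : ∑ j, D' j y' * y j ∈ Ideal.span (Set.range y) :=
      Ideal.sum_mem _ (fun j _ => Ideal.mul_mem_left _ _ (Ideal.subset_span ⟨j, rfl⟩))
    have hzm : z ∈ maximalIdeal R :=
      (maximalIdeal R).sub_mem hy' ((maximalIdeal R).sum_mem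
        (fun j _ => Ideal.mul_mem_left _ _ (hym j)))
    have hD'z : ∀ i, D' i z ∈ maximalIdeal R := by
      intro i
      have : D' i z = - ∑ j, y j * D' i (D' j y') := by
        rw [hzdef, map_sub, map_sum]
        simp only [Derivation.leibniz, hD'y, smul_eq_mul]
        rw [Finset.sum_add_distrib]
        simp [Finset.sum_ite_eq]
      rw [this]
      exact (maximalIdeal R).neg_mem ((maximalIdeal R).sum_mem
        (fun j _ => Ideal.mul_mem_right _ _ (hym j)))
    have hDz : ∀ i, e (KaehlerDifferential.D k R z) i ∈ maximalIdeal R := by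
      intro i
      rw [← hDapp, hDD']
      exact (maximalIdeal R).sum_mem (fun l _ => Ideal.mul_mem_left _ _ (hD'z l))
    have hz2 := mem_sq_of_coord_mem k R hres n e z hzm hDz
    have : y' = ∑ j, D' j y' * y j + z := by rw [hzdef]; ring
    rw [this]
    refine Submodule.add_mem_sup hsum ?_
    rw [sq] at hz2
    exact hz2
  have heq : maximalIdeal R = Ideal.span (Set.range y) :=
    le_antisymm hgen (Ideal.span_le.mpr (by rintro _ ⟨j, rfl⟩; exact hym j))
  have hspan : (maximalIdeal R).spanFinrank ≤ n := by
    rw [heq]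
    refine (Submodule.spanFinrank_span_le_ncard_of_finite (Set.finite_range y)).trans ?_
    have := Set.ncard_image_le (f := y) (s := Set.univ) Set.finite_univ
    rw [Set.image_univ, Set.ncard_univ, Nat.card_fin] at this
    exact this
  have hup : ringKrullDim R ≤ n :=
    (ringKrullDim_le_spanFinrank_maximalIdeal R).trans (by exact_mod_cast hspan)
  refine ⟨IsRegularLocalRing.of_spanFinrank_maximalIdeal_le R ?_, le_antisymm hup hlow⟩
  exact le_trans (by exact_mod_cast hspan) hlow

end Groth.Agent.H9.DerReg
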