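import Mathlib

/-! Helper9: determinant of coefficients of partial quotients = resultant-type product -/

set_option linter.style.haveILetI false

namespace Groth.Agent.H9.DetPQ
open PowerSeries

universe u
variable {R : Type u} [CommRing R]

/-- `∏ (1 + β_j t)` -/
noncomputable def bpoly {e : ℕ} (β : Fin e → R) : PowerSeries R :=
  ∏ j : Fin e, (1 + C (β j) * X)

/-- `1/(1 + a t)` -/
noncomputable def geom (a : R) : PowerSeries R := PowerSeries.mk fun m => (-a) ^ m

lemma coeff_succ_lin_mul (c : R) (h : PowerSeries R) (n : ℕ) :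
    coeff (n + 1) ((1 + C c * X) * h) = coeff (n + 1) h + c * coeff n h := by
  rw [add_mul, one_mul, mul_assoc, map_add, coeff_C_mul, coeff_succ_X_mul]

lemma coeff_zero_lin_mul (c : R) (h : PowerSeries R) :
    coeff 0 ((1 + C c * X) * h) = coeff 0 h := by
  rw [add_mul, one_mul, mul_assoc, map_add, coeff_C_mul, coeff_zero_X_mul, mul_zero, add_zero]

lemma lin_mul_geom (a : R) : (1 + C a * X) * geom a = 1 := by
  ext n
  cases n with
  | zero => rw [coeff_zero_lin_mul]; simp [geom]
  | succ k =>
    rw [coeff_succ_lin_mul]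
    simp only [geom, coeff_mk, coeff_one]
    rw [if_neg (Nat.succ_ne_zero k), pow_succ]
    ring

lemma bpoly_succ {e : ℕ} (β : Fin (e + 1) → R) :
    bpoly β = (1 + C (β 0) * X) * bpoly (Fin.tail β) := by
  unfold bpoly
  rw [Fin.prod_univ_succ]
  rfl

lemma coeff_bpoly_of_lt {e : ℕ} (β : Fin e → R) : ∀ m : ℕ, e < m → coeff m (bpoly β) = 0 := by
  induction e with
  | zero =>
    intro m hm
    simp only [bpoly, Finset.univ_eq_empty, Finset.prod_empty, coeff_one]
    rw [if_neg (by omega)]
  | succ e ih =>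
    intro m hm
    obtain ⟨k, rfl⟩ : ∃ k, m = k + 1 := ⟨m - 1, by omega⟩
    rw [bpoly_succ, coeff_succ_lin_mul, ih (Fin.tail β) (k + 1) (by omega),
      ih (Fin.tail β) k (by omega)]
    simp

lemma coeff_bpoly_mul_geom {e : ℕ} (β : Fin e → R) (a : R) :
    coeff e (bpoly β * geom a) = ∏ j : Fin e, (β j - a) := by
  induction e with
  | zero => simp [bpoly, geom]
  | succ e ih =>
    rw [bpoly_succ, mul_assoc, coeff_succ_lin_mul, Fin.prod_univ_succ]
    set h := bpoly (Fin.tail β) * geom a with hh
    have h1 : (1 + C a * X) * h = bpoly (Fin.tail β) := by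
      rw [hh]
      calc (1 + C a * X) * (bpoly (Fin.tail β) * geom a)
          = bpoly (Fin.tail β) * ((1 + C a * X) * geom a) := by ring
        _ = bpoly (Fin.tail β) := by rw [lin_mul_geom, mul_one]
    have h2 : coeff (e + 1) h + a * coeff e h = 0 := by
      rw [← coeff_succ_lin_mul, h1]
      exact coeff_bpoly_of_lt (Fin.tail β) (e + 1) (Nat.lt_succ_self e)
    have h3 : coeff e h = ∏ j : Fin e, (Fin.tail β j - a) := ih (Fin.tail β)
    have h4 : coeff (e + 1) h = -a * coeff e h := by linear_combination h2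
    rw [h4, h3]
    simp only [Fin.tail]
    ring

/-- the partial quotient `P_i` -/
noncomputable def PQ {d e : ℕ} (α : Fin d → R) (β : Fin e → R) (i : Fin d) : PowerSeries R :=
  bpoly β * ∏ l : Fin d, if l ≤ i then geom (α l) else 1

/-- the matrix -/
noncomputable def Mat {d e : ℕ} (α : Fin d → R) (β : Fin e → R) : Matrix (Fin d) (Fin d) R :=
  Matrix.of fun i j : Fin d =>
    if (i : ℕ) ≤ e + (j : ℕ) then coeff (e + (j : ℕ) - (i : ℕ)) (PQ α β i) else 0

lemma PQ_zero {d e : ℕ} (α : Fin (d + 1) → R) (β : Fin e → R) :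
    PQ α β 0 = bpoly β * geom (α 0) := by
  unfold PQ
  rw [Fin.prod_univ_succ]
  have : ∀ l : Fin d, (if l.succ ≤ (0 : Fin (d + 1)) then geom (α l.succ) else 1) = 1 := by
    intro l
    rw [if_neg]
    exact not_le.mpr (Fin.succ_pos l)
  simp [this]

lemma lin_mul_PQ_succ {d e : ℕ} (α : Fin (d + 1) → R) (β : Fin e → R) (i : Fin d) :
    (1 + C (α 0) * X) * PQ α β i.succ = PQ (Fin.tail α) β i := by
  unfold PQ
  rw [Fin.prod_univ_succ]
  have h0 : (if (0 : Fin (d + 1)) ≤ i.succ then geom (α 0) else 1) = geom (α 0) := by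
    rw [if_pos (Fin.zero_le _)]
  have h1 : ∀ l : Fin d, (if l.succ ≤ i.succ then geom (α l.succ) else 1) =
      (if l ≤ i then geom (Fin.tail α l) else 1) := by
    intro l
    simp only [Fin.succ_le_succ_iff, Fin.tail]
  rw [h0]
  simp only [h1]
  calc (1 + C (α 0) * X) * (bpoly β * (geom (α 0) * ∏ l : Fin d,
        if l ≤ i then geom (Fin.tail α l) else 1))
      = ((1 + C (α 0) * X) * geom (α 0)) * (bpoly β * ∏ l : Fin d,
        if l ≤ i then geom (Fin.tail α l) else 1) := by ring
    _ = _ := by rw [lin_mul_geom, one_mul]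

theorem det_Mat {e : ℕ} (β : Fin e → R) : ∀ (d : ℕ) (α : Fin d → R),
    ∏ i : Fin d, ∏ j : Fin e, (β j - α i) = (Mat α β).det := by
  intro d
  induction d with
  | zero => intro α; simp
  | succ d ih =>
    intro α
    set M := Mat α β with hM
    let B : Matrix (Fin (d + 1)) (Fin (d + 1)) R := Matrix.of fun i j =>
      Fin.cases (M i 0) (fun j' => M i j'.succ + α 0 * M i j'.castSucc) j
    have hdet : M.det = B.det := by
      refine Matrix.det_eq_of_forall_col_eq_smul_add_pred (fun _ => -α 0) ?_ ?_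
      · intro i; rfl
      · intro i j
        show M i j.succ = (M i j.succ + α 0 * M i j.castSucc) + -α 0 * M i j.castSucc
        ring
    -- first row of B
    have hB00 : B 0 0 = ∏ j : Fin e, (β j - α 0) := by
      show M 0 0 = _
      rw [hM]
      simp only [Mat, Matrix.of_apply, Fin.val_zero, add_zero, Nat.sub_zero, zero_le, if_true]
      rw [PQ_zero, coeff_bpoly_mul_geom]
    have hB0s : ∀ j : Fin d, B 0 j.succ = 0 := by
      intro j
      show M 0 j.succ + α 0 * M 0 j.castSucc = 0
      rw [hM]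
      simp only [Mat, Matrix.of_apply, Fin.val_zero, Nat.sub_zero, zero_le, if_true,
        Fin.val_succ, Fin.val_castSucc]
      rw [← add_assoc, ← coeff_succ_lin_mul, PQ_zero]
      have : (1 + C (α 0) * X) * (bpoly β * geom (α 0)) = bpoly β := by
        calc (1 + C (α 0) * X) * (bpoly β * geom (α 0))
            = bpoly β * ((1 + C (α 0) * X) * geom (α 0)) := by ring
          _ = bpoly β := by rw [lin_mul_geom, mul_one]
      rw [this]
      exact coeff_bpoly_of_lt β _ (by omega)
    have hBss : B.submatrix Fin.succ Fin.succ = Mat (Fin.tail α) β := by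
      ext i j
      show M i.succ j.succ + α 0 * M i.succ j.castSucc = _
      rw [hM]
      simp only [Mat, Matrix.of_apply, Fin.val_succ, Fin.val_castSucc]
      rw [← lin_mul_PQ_succ α β i]
      by_cases h1 : (i : ℕ) ≤ e + (j : ℕ)
      · rw [if_pos (by omega), if_pos h1]
        have e1 : e + ((j : ℕ) + 1) - ((i : ℕ) + 1) = e + (j : ℕ) - (i : ℕ) := by omega
        rw [e1]
        by_cases h2 : (i : ℕ) + 1 ≤ e + (j : ℕ)
        · rw [if_pos h2]
          obtain ⟨m, hm⟩ : ∃ m, e + (j : ℕ) - (i : ℕ) = m + 1 := ⟨e + (j : ℕ) - (i : ℕ) - 1, by omega⟩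
          have e2 : e + (j : ℕ) - ((i : ℕ) + 1) = m := by omega
          rw [hm, e2, coeff_succ_lin_mul]
        · rw [if_neg h2]
          have e2 : e + (j : ℕ) - (i : ℕ) = 0 := by omega
          rw [e2, coeff_zero_lin_mul]
          ring
      · rw [if_neg (by omega), if_neg (by omega), if_neg h1]
        ring
    rw [hdet, Matrix.det_succ_row_zero, Fin.sum_univ_succ]
    have hrest : ∑ j : Fin d, (-1) ^ ((j.succ : Fin (d + 1)) : ℕ) * B 0 j.succ *
        (B.submatrix Fin.succ j.succ.succAbove).det = 0 := by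
      apply Finset.sum_eq_zero
      intro j _
      rw [hB0s j]
      ring
    rw [hrest, add_zero, Fin.val_zero, pow_zero, one_mul, Fin.succAbove_zero, hBss, hB00,
      ← ih (Fin.tail α), Fin.prod_univ_succ]
    rfl

end Groth.Agent.H9.DetPQ
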