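import Mathlib

/-! Helper9: deviations of a map of abelian groups (S14305) -/

set_option linter.style.haveILetI false

namespace Groth.Agent.H9.Devn

universe u v
variable {A : Type u} {G : Type v} [AddCommGroup A] [AddCommGroup G] (f : A → G)

/-- the full deviation sum over all subsets of `s` -/
def Dv {ι : Type*} [DecidableEq ι] (s : Finset ι) (y : ι → A) : G :=
  ∑ I ∈ s.powerset, ((-1 : ℤ) ^ (s.card + I.card)) • f (∑ i ∈ I, y i)

section general
variable {ι : Type*} [DecidableEq ι]

lemma Dv_insert (s : Finset ι) (k : ι) (hk : k ∉ s) (y : ι → A) :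
    Dv f (insert k s) y = - Dv f s y +
      ∑ I ∈ s.powerset, ((-1 : ℤ) ^ (s.card + I.card)) • f (∑ i ∈ I, y i + y k) := by
  unfold Dv
  rw [Finset.sum_powerset_insert hk, Finset.card_insert_of_notMem hk, ← Finset.sum_neg_distrib]
  congr 1
  · refine Finset.sum_congr rfl fun I _ => ?_
    rw [← neg_smul]
    congr 1
    rw [show s.card + 1 + I.card = (s.card + I.card) + 1 by ring, pow_succ]
    ring
  · refine Finset.sum_congr rfl fun I hI => ?_
    have hkI : k ∉ I := fun h => hk (Finset.mem_powerset.mp hI h)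
    rw [Finset.card_insert_of_notMem hkI, Finset.sum_insert hkI, add_comm (y k)]
    congr 1
    rw [show s.card + 1 + (I.card + 1) = (s.card + I.card) + 2 by ring, pow_add]
    norm_num

lemma sum_powerset_split (s : Finset ι) (j : ι) (hj : j ∈ s) (g : Finset ι → G) :
    ∑ I ∈ s.powerset, g I = ∑ I ∈ (s.erase j).powerset, (g I + g (insert j I)) := by
  conv_lhs => rw [← Finset.insert_erase hj]
  rw [Finset.sum_powerset_insert (Finset.notMem_erase j s), Finset.sum_add_distrib]

/-- the key identity -/
lemma Dv_key (s : Finset ι) (k j : ι) (hk : k ∉ s) (hj : j ∈ s) (y : ι → A) :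
    Dv f (insert k s) y = Dv f s (Function.update y j (y j + y k)) - Dv f s y -
      Dv f s (Function.update y j (y k)) := by
  rw [Dv_insert f s k hk y]
  have e1 : Dv f s (Function.update y j (y j + y k)) - Dv f s (Function.update y j (y k)) =
      ∑ I ∈ s.powerset, ((-1 : ℤ) ^ (s.card + I.card)) • f (∑ i ∈ I, y i + y k) := by
    unfold Dv
    rw [sum_powerset_split s j hj, sum_powerset_split s j hj, sum_powerset_split s j hj,
      ← Finset.sum_sub_distrib]
    refine Finset.sum_congr rfl fun I hI => ?_
    have hjI : j ∉ I := fun h => Finset.notMem_erase j s (Finset.mem_powerset.mp hI h)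
    have h1 : ∀ c : A, ∑ i ∈ I, Function.update y j c i = ∑ i ∈ I, y i := by
      intro c
      refine Finset.sum_congr rfl fun i hi => ?_
      rw [Function.update_of_ne (by rintro rfl; exact hjI hi)]
    have h2 : ∀ c : A, ∑ i ∈ insert j I, Function.update y j c i = c + ∑ i ∈ I, y i := by
      intro c
      rw [Finset.sum_insert hjI, Function.update_self, h1]
    rw [h1, h1, h2, h2, Finset.sum_insert hjI]
    have h3 : y j + y k + ∑ i ∈ I, y i = y j + ∑ i ∈ I, y i + y k := by abel
    have h4 : y k + ∑ i ∈ I, y i = ∑ i ∈ I, y i + y k := by abel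
    rw [h3, h4, Finset.card_insert_of_notMem hjI,
      show s.card + (I.card + 1) = (s.card + I.card) + 1 by ring, pow_succ, mul_neg_one, neg_smul,
      neg_smul]
    abel
  rw [← e1]
  abel

lemma Dv_map {κ : Type*} [DecidableEq κ] (e : κ ↪ ι) (s : Finset κ) (y : ι → A) :
    Dv f (s.map e) y = Dv f s (y ∘ e) := by
  unfold Dv
  have h1 : (s.map e).powerset = s.powerset.map ⟨fun I => I.map e, Finset.map_injective e⟩ := by
    ext I
    simp only [Finset.mem_powerset, Finset.mem_map, Function.Embedding.coeFn_mk]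
    constructor
    · intro hI
      refine ⟨s.filter (fun x => e x ∈ I), Finset.filter_subset _ _, ?_⟩
      ext i
      simp only [Finset.mem_map, Finset.mem_filter]
      constructor
      · rintro ⟨x, ⟨_, hx⟩, rfl⟩
        exact hx
      · intro hi
        obtain ⟨x, hx, rfl⟩ := Finset.mem_map.mp (hI hi)
        exact ⟨x, ⟨hx, hi⟩, rfl⟩
    · rintro ⟨J, hJ, rfl⟩
      exact Finset.map_subset_map.mpr hJ
  rw [h1, Finset.sum_map]
  refine Finset.sum_congr rfl fun I _ => ?_
  simp only [Function.Embedding.coeFn_mk, Finset.card_map, Finset.sum_map, Function.comp_apply]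

end general

lemma erase_sum (n : ℕ) (y : Fin n → A) :
    ∑ I ∈ ((Finset.univ : Finset (Fin n)).powerset.erase ∅),
      ((-1 : ℤ) ^ (n + I.card)) • f (∑ i ∈ I, y i) =
    Dv f Finset.univ y - ((-1 : ℤ) ^ n) • f 0 := by
  unfold Dv
  rw [← Finset.add_sum_erase _ _ (Finset.empty_mem_powerset _)]
  simp only [Finset.card_univ, Fintype.card_fin, Finset.card_empty, Finset.sum_empty, add_zero]
  abel

lemma Dv_succ (n : ℕ) (j : Fin n) (x : Fin (n + 1) → A) :
    Dv f Finset.univ x =
      Dv f Finset.univ (Function.update (x ∘ Fin.castSucc) j (x j.castSucc + x (Fin.last n))) -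
      Dv f Finset.univ (x ∘ Fin.castSucc) -
      Dv f Finset.univ (Function.update (x ∘ Fin.castSucc) j (x (Fin.last n))) := by
  have hu : (Finset.univ : Finset (Fin (n + 1))) =
      insert (Fin.last n) ((Finset.univ : Finset (Fin n)).map Fin.castSuccEmb) := by
    rw [Fin.univ_castSuccEmb, Finset.cons_eq_insert]
  have hk : Fin.last n ∉ (Finset.univ : Finset (Fin n)).map Fin.castSuccEmb := by
    simp
  have hj : j.castSucc ∈ (Finset.univ : Finset (Fin n)).map Fin.castSuccEmb := by
    simp
  rw [hu, Dv_key f _ (Fin.last n) j.castSucc hk hj x, Dv_map, Dv_map, Dv_map]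
  have h1 : ∀ c : A, (Function.update x j.castSucc c) ∘ (Fin.castSuccEmb : Fin n ↪ Fin (n + 1)) =
      Function.update (x ∘ Fin.castSucc) j c := by
    intro c
    funext i
    simp only [Function.comp_apply, Fin.coe_castSuccEmb]
    by_cases hi : i = j
    · subst hi; simp
    · rw [Function.update_of_ne hi, Function.update_of_ne]
      · rfl
      · intro h; exact hi (Fin.castSucc_injective _ h)
  rw [h1, h1]
  rfl

theorem S14305_main (n : ℕ) (hn : 1 ≤ n) :
    (∀ x : Fin (n + 1) → A, ∑ I ∈ ((Finset.univ : Finset (Fin (n + 1))).powerset.erase ∅), ((-1 : ℤ) ^ (n + 1 + I.card)) • f (∑ i ∈ I, x i) = 0) ↔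
      (∀ (j : Fin n) (y : Fin n → A) (a b : A),
        ∑ I ∈ ((Finset.univ : Finset (Fin n)).powerset.erase ∅), ((-1 : ℤ) ^ (n + I.card)) • f (∑ i ∈ I, (Function.update y j (a + b)) i) =
          ∑ I ∈ ((Finset.univ : Finset (Fin n)).powerset.erase ∅), ((-1 : ℤ) ^ (n + I.card)) • f (∑ i ∈ I, (Function.update y j a) i) + ∑ I ∈ ((Finset.univ : Finset (Fin n)).powerset.erase ∅), ((-1 : ℤ) ^ (n + I.card)) • f (∑ i ∈ I, (Function.update y j b) i)) := by
  simp only [erase_sum]
  have hpow : ((-1 : ℤ) ^ (n + 1)) • f 0 = - (((-1 : ℤ) ^ n) • f 0) := by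
    rw [pow_succ, mul_neg_one, neg_smul]
  constructor
  · intro h j y a b
    have h1 := h (Fin.snoc (Function.update y j a) b)
    rw [Dv_succ f n j] at h1
    have e1 : (Fin.snoc (Function.update y j a) b : Fin (n + 1) → A) ∘ Fin.castSucc =
        Function.update y j a := by
      funext i
      simp only [Function.comp_apply, Fin.snoc_castSucc]
    have e2 : (Fin.snoc (Function.update y j a) b : Fin (n + 1) → A) (Fin.last n) = b := by simp
    have e3 : (Fin.snoc (Function.update y j a) b : Fin (n + 1) → A) j.castSucc = a := by simp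
    rw [e1, e2, e3, Function.update_idem, Function.update_idem, hpow] at h1
    have h2 : Dv f Finset.univ (Function.update y j (a + b)) =
        Dv f Finset.univ (Function.update y j a) + Dv f Finset.univ (Function.update y j b) -
          ((-1 : ℤ) ^ n) • f 0 := by
      rw [← sub_eq_zero]
      rw [← h1]
      abel
    rw [h2]
    abel
  · intro h x
    have j : Fin n := ⟨0, hn⟩
    rw [Dv_succ f n j, hpow]
    have h1 := h j (x ∘ Fin.castSucc) (x j.castSucc) (x (Fin.last n))
    have e1 : Function.update (x ∘ Fin.castSucc) j (x j.castSucc) = x ∘ Fin.castSucc := by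
      rw [Function.update_eq_self_iff]
      rfl
    rw [e1] at h1
    have h2 : Dv f Finset.univ (Function.update (x ∘ Fin.castSucc) j (x j.castSucc + x (Fin.last n))) =
        Dv f Finset.univ (x ∘ Fin.castSucc) +
          Dv f Finset.univ (Function.update (x ∘ Fin.castSucc) j (x (Fin.last n))) -
          ((-1 : ℤ) ^ n) • f 0 := by
      rw [← sub_eq_zero]
      have := sub_eq_zero.mpr h1
      rw [← this]
      abel
    rw [h2]
    abel

end Groth.Agent.H9.Devn
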