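import Mathlib

/-! Helper9: F^h e_1 for a display matrix in normal form (S15494). -/

namespace Groth.Agent.H9.DisplayNF

variable (W : Type*) [CommRing W] (σ : W →+* W) (p : ℕ)
  (M : Type*) [AddCommGroup M] [Module W M]
  (F : M →+ M) (hF : ∀ (w : W) (m : M), F (w • m) = σ w • F m)
  (d c : ℕ) (hd : 0 < d) (hc : 0 < c)
  (a : ℕ → ℕ → W) (e : ℕ → M)
  (h1 : ∀ i : ℕ, 1 ≤ i → i < d → F (e i) = e (i + 1))
  (h2 : F (e d) = (∑ i ∈ Finset.Icc 1 d, a i d • e i) + e (d + 1))
  (h3 : ∀ j : ℕ, d < j → j < d + c →
    F (e j) = (∑ i ∈ Finset.Icc 1 d, ((p : W) * a i j) • e i) + (p : W) • e (j + 1))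
  (h4 : F (e (d + c)) = ∑ i ∈ Finset.Icc 1 d, ((p : W) * a i (d + c)) • e i)

include h1 in
theorem iter_small : ∀ i : ℕ, 1 ≤ i → i ≤ d → (⇑F)^[i - 1] (e 1) = e i := by
  intro i
  induction i with
  | zero => intro h; omega
  | succ i ih =>
    intro _ hid
    rcases Nat.eq_zero_or_pos i with rfl | hi
    · simp
    · have : i + 1 - 1 = (i - 1) + 1 := by omega
      rw [this, Function.iterate_succ_apply', ih hi (by omega), h1 i hi (by omega)]

include hF in
theorem F_iter_smul (n : ℕ) (w : W) (m : M) :
    (⇑F)^[n] (w • m) = (⇑σ)^[n] w • (⇑F)^[n] m := by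
  induction n generalizing w m with
  | zero => simp
  | succ n ih =>
    rw [Function.iterate_succ_apply', Function.iterate_succ_apply', Function.iterate_succ_apply', ih, hF]

include hF h1 h2 h3 hd in
/-- the intermediate identity -/
theorem key : ∀ m : ℕ, d ≤ m → m < d + c →
    (⇑F)^[m] (e 1) = (∑ i ∈ Finset.Icc 1 d, ∑ j ∈ Finset.Icc d m,
      ((p : W) ^ (j - d) * (⇑σ)^[m - j] (a i j)) • (⇑F)^[m + i - j - 1] (e 1)) +
        (p : W) ^ (m - d) • e (m + 1) := by
  intro m hdm
  induction m, hdm using Nat.le_induction with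
  | base =>
    intro _
    have h0 : (⇑F)^[d] (e 1) = F (e d) := by
      have : d = (d - 1) + 1 := by omega
      conv_lhs => rw [this]
      rw [Function.iterate_succ_apply', iter_small M F d e h1 d hd le_rfl]
    rw [h0, h2]
    congr 1
    · apply Finset.sum_congr rfl
      intro i hi
      rw [Finset.mem_Icc] at hi
      rw [Finset.Icc_self, Finset.sum_singleton]
      simp only [Nat.sub_self, pow_zero, Function.iterate_zero, id_eq, one_mul]
      have : d + i - d - 1 = i - 1 := by omega
      rw [this, iter_small M F d e h1 i hi.1 hi.2]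
    · simp
  | succ m hdm ih =>
    intro hm
    have ihm := ih (by omega)
    rw [Function.iterate_succ_apply', ihm, map_add, map_sum]
    have hσp : ∀ k : ℕ, σ ((p : W) ^ k) = (p : W) ^ k := fun k => by rw [map_pow, map_natCast]
    rw [hF, hσp, h3 (m + 1) (by omega) hm, smul_add, Finset.smul_sum, ← add_assoc]
    congr 1
    · rw [← Finset.sum_add_distrib]
      apply Finset.sum_congr rfl
      intro i hi
      rw [Finset.mem_Icc] at hi
      rw [map_sum]
      have hIcc : Finset.Icc d (m + 1) = insert (m + 1) (Finset.Icc d m) := by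
        ext x; simp only [Finset.mem_Icc, Finset.mem_insert]; omega
      rw [hIcc, Finset.sum_insert (by simp)]
      rw [add_comm]
      congr 1
      · simp only [Nat.sub_self, Function.iterate_zero, id_eq]
        have : m + 1 + i - (m + 1) - 1 = i - 1 := by omega
        rw [this, iter_small M F d e h1 i hi.1 hi.2, smul_smul]
        congr 1
        have : m + 1 - d = (m - d) + 1 := by omega
        rw [this, pow_succ]
        ring
      · apply Finset.sum_congr rfl
        intro j hj
        rw [Finset.mem_Icc] at hj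
        rw [hF, map_mul, hσp]
        have e1 : m + 1 - j = (m - j) + 1 := by omega
        have e2 : m + 1 + i - j - 1 = (m + i - j - 1) + 1 := by omega
        rw [e1, e2, Function.iterate_succ_apply', Function.iterate_succ_apply']
    · rw [smul_smul]
      have : m + 1 - d = (m - d) + 1 := by omega
      rw [this, pow_succ]

include hF h1 h2 h3 h4 hd hc in
theorem main :
    (⇑F)^[d + c] (e 1) = ∑ i ∈ Finset.Icc 1 d, ∑ j ∈ Finset.Icc d (d + c),
      ((p : W) ^ (j - d) * (⇑σ)^[d + c - j] (a i j)) • (⇑F)^[d + c + i - j - 1] (e 1) := by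
  have hm := key W σ p M F hF d c hd a e h1 h2 h3 (d + c - 1) (by omega) (by omega)
  have hdc : d + c = (d + c - 1) + 1 := by omega
  have hσp : ∀ k : ℕ, σ ((p : W) ^ k) = (p : W) ^ k := fun k => by rw [map_pow, map_natCast]
  conv_lhs => rw [hdc]
  rw [Function.iterate_succ_apply', hm, map_add, map_sum, hF, hσp, ← hdc, h4, Finset.smul_sum,
    ← Finset.sum_add_distrib]
  apply Finset.sum_congr rfl
  intro i hi
  rw [Finset.mem_Icc] at hi
  rw [map_sum]
  have hIcc : Finset.Icc d (d + c) = insert (d + c) (Finset.Icc d (d + c - 1)) := by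
    ext x; simp only [Finset.mem_Icc, Finset.mem_insert]; omega
  rw [hIcc, Finset.sum_insert (by simp; omega)]
  rw [add_comm]
  congr 1
  · simp only [Nat.sub_self, Function.iterate_zero, id_eq]
    have : d + c + i - (d + c) - 1 = i - 1 := by omega
    rw [this, iter_small M F d e h1 i hi.1 hi.2, smul_smul]
    congr 1
    have : d + c - d = (d + c - 1 - d) + 1 := by omega
    rw [this, pow_succ]
    ring
  · apply Finset.sum_congr rfl
    intro j hj
    rw [Finset.mem_Icc] at hj
    rw [hF, map_mul, hσp]
    have e1 : d + c - j = (d + c - 1 - j) + 1 := by omega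
    have e2 : d + c + i - j - 1 = (d + c - 1 + i - j - 1) + 1 := by omega
    rw [e1, e2, Function.iterate_succ_apply', Function.iterate_succ_apply']

end Groth.Agent.H9.DisplayNF
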