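import Mathlib
import Groth.Prelude.Def_W4c5pointsetsdelpezzoInv

set_option autoImplicit false
set_option linter.style.haveILetI false
set_option linter.unusedSectionVars false
set_option linter.unusedVariables false

namespace Groth.Agent.H9.DivClosedNormal

/-- A subalgebra of an integrally closed domain which is closed under exact division
is integrally closed. -/
theorem main {k S : Type*} [CommRing k] [CommRing S] [IsDomain S] [IsIntegrallyClosed S] [Algebra k S]
    (R : Subalgebra k S)
    (h : ∀ a b c : S, a ∈ R → b ∈ R → b ≠ 0 → c * b = a → c ∈ R) :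
    IsIntegrallyClosed R := by
  classical
  let K := FractionRing S
  let KR := FractionRing R
  have hinj : Function.Injective ((algebraMap S K).comp R.val.toRingHom) := by
    intro x y hxy
    have := IsFractionRing.injective S K hxy
    exact Subtype.ext this
  let j : KR →+* K := IsFractionRing.lift hinj
  have hj : ∀ r : R, j (algebraMap R KR r) = algebraMap S K (r : S) := by
    intro r
    exact IsFractionRing.lift_algebraMap hinj r
  refine (isIntegrallyClosed_iff KR).mpr ?_
  intro x hx
  obtain ⟨p, hpm, hp⟩ := hx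
  have hjx : IsIntegral S (j x) := by
    refine ⟨p.map R.val.toRingHom, hpm.map _, ?_⟩
    rw [Polynomial.eval₂_map]
    have h2 : (algebraMap S K).comp R.val.toRingHom = j.comp (algebraMap R KR) := by
      ext r
      exact (hj r).symm
    rw [h2, ← Polynomial.hom_eval₂, hp, map_zero]
  obtain ⟨c, hc⟩ := (isIntegrallyClosed_iff K).mp inferInstance hjx
  obtain ⟨a, b, hb, hab⟩ := IsFractionRing.div_surjective (A := R) x
  have hb0 : b ≠ 0 := nonZeroDivisors.ne_zero hb
  have hb0' : (b : S) ≠ 0 := fun h0 => hb0 (Subtype.ext h0)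
  have hbK : algebraMap R KR b ≠ 0 := by
    intro h0
    exact hb0 ((IsFractionRing.injective R KR) (by rw [h0, map_zero]))
  have hxb : x * algebraMap R KR b = algebraMap R KR a := by
    rw [← hab, div_mul_cancel₀ _ hbK]
  have hcb : c * (b : S) = (a : S) := by
    apply IsFractionRing.injective S K
    rw [map_mul, hc, ← hj, ← hj, ← map_mul, hxb]
  have hcR : c ∈ R := h a b c a.2 b.2 hb0' hcb
  refine ⟨⟨c, hcR⟩, ?_⟩
  apply j.injective
  rw [hj, hc]

open W4c5pointsetsdelpezzo in
theorem invRing_closed (k : Type*) [Field k] (n m : ℕ) :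
    IsIntegrallyClosed (invRing k n m) := by
  apply main
  intro a b c ha hb hb0 hcb
  have key : ∀ φ : TupleRing k n m →ₐ[k] TupleRing k n m, φ a = a → φ b = b → φ c = c := by
    intro φ h1 h2
    have : φ c * b = c * b := by
      rw [hcb, ← h1, ← hcb, map_mul, h2]
    exact mul_right_cancel₀ hb0 this
  unfold invRing at ha hb ⊢
  rw [Algebra.mem_inf, Algebra.mem_iInf, Algebra.mem_iInf] at ha hb ⊢
  refine ⟨fun g => ?_, fun s => ?_⟩
  · have h1 := ha.1 g
    have h2 := hb.1 g
    rw [AlgHom.mem_equalizer] at h1 h2 ⊢
    exact key _ h1 h2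
  · have h1 := ha.2 s
    have h2 := hb.2 s
    rw [AlgHom.mem_equalizer] at h1 h2 ⊢
    exact key _ h1 h2

end Groth.Agent.H9.DivClosedNormal
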