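import Groth.Agent.Lib.Helper9.Misc.DpSlimA
import Mathlib.RingTheory.Flat.Basic
import Mathlib.RingTheory.PowerSeries.Basic
import Mathlib.RingTheory.TensorProduct.Basic

set_option autoImplicit false
set_option linter.unusedSectionVars false
set_option linter.unusedVariables false

namespace Groth.Agent.H9.DpS

open TensorProduct

universe u v

/-- power series with constant coefficient `1` which are "of exponential type" with respect to
rescaling by elements of `B`; a `B`-module under multiplication and rescaling -/
structure EM (B : Type*) [CommRing B] where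
  g : PowerSeries B
  h0 : PowerSeries.constantCoeff g = 1
  hE : ∀ b b' : B,
    PowerSeries.rescale (b + b') g = PowerSeries.rescale b g * PowerSeries.rescale b' g

namespace EM
variable {B : Type*} [CommRing B]

lemma ext' {m m' : EM B} (h : m.g = m'.g) : m = m' := by
  cases m; cases m'; simp_all

noncomputable instance : Zero (EM B) := ⟨⟨1, map_one _, fun b b' => by rw [map_one, map_one, map_one, one_mul]⟩⟩

noncomputable instance : Add (EM B) := ⟨fun m m' => ⟨m.g * m'.g, by rw [map_mul, m.h0, m'.h0, one_mul],
  fun b b' => by rw [map_mul, map_mul, map_mul, m.hE, m'.hE]; ring⟩⟩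

lemma constantCoeff_rescale (c : B) (g : PowerSeries B) :
    PowerSeries.constantCoeff (PowerSeries.rescale c g) = PowerSeries.constantCoeff g := by
  rw [← PowerSeries.coeff_zero_eq_constantCoeff_apply, PowerSeries.coeff_rescale, pow_zero, one_mul,
    PowerSeries.coeff_zero_eq_constantCoeff_apply]

noncomputable instance : SMul B (EM B) := ⟨fun c m => ⟨PowerSeries.rescale c m.g,
  by rw [constantCoeff_rescale, m.h0],
  fun b b' => by
    rw [PowerSeries.rescale_rescale, PowerSeries.rescale_rescale, PowerSeries.rescale_rescale,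
      mul_add, m.hE]⟩⟩

lemma zero_g : (0 : EM B).g = 1 := rfl
lemma add_g (m m' : EM B) : (m + m').g = m.g * m'.g := rfl
lemma smul_g (c : B) (m : EM B) : (c • m).g = PowerSeries.rescale c m.g := rfl

noncomputable instance : AddCommMonoid (EM B) where
  add_assoc a b c := ext' (mul_assoc _ _ _)
  zero_add a := ext' (one_mul _)
  add_zero a := ext' (mul_one _)
  add_comm a b := ext' (mul_comm _ _)
  nsmul := nsmulRec

noncomputable instance : Module B (EM B) where
  one_smul m := ext' (by rw [smul_g, PowerSeries.rescale_one]; rfl)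
  mul_smul b b' m := ext' (by
    rw [smul_g, smul_g, smul_g, PowerSeries.rescale_rescale, mul_comm])
  smul_zero b := ext' (by rw [smul_g, zero_g, map_one])
  smul_add b m m' := ext' (by rw [smul_g, add_g, add_g, smul_g, smul_g, map_mul])
  add_smul b b' m := ext' (by rw [smul_g, add_g, smul_g, smul_g, m.hE])
  zero_smul m := ext' (by
    rw [smul_g, zero_g, PowerSeries.rescale_zero_apply, m.h0, map_one])

end EM

section Flat
variable {A : Type u} {B : Type v} [CommRing A] [CommRing B] [Algebra A B]
  {I : Ideal A} (γ : DividedPowers I)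

/-- the exponential of an element of `I`, pushed to `B` -/
noncomputable def expB (a : I) : EM B where
  g := PowerSeries.map (algebraMap A B) (γ.exp a)
  h0 := by
    rw [← PowerSeries.coeff_zero_eq_constantCoeff_apply, PowerSeries.coeff_map,
      DividedPowers.exp, PowerSeries.coeff_mk, γ.dpow_zero a.2, map_one]
  hE := by
    intro b b'
    ext n
    rw [PowerSeries.coeff_rescale, PowerSeries.coeff_mul, PowerSeries.coeff_map,
      DividedPowers.exp, PowerSeries.coeff_mk, (Commute.all b b').add_pow', Finset.sum_mul]
    refine Finset.sum_congr rfl (fun k hk => ?_)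
    rw [Finset.HasAntidiagonal.mem_antidiagonal] at hk
    rw [PowerSeries.coeff_rescale, PowerSeries.coeff_rescale, PowerSeries.coeff_map,
      PowerSeries.coeff_map, PowerSeries.coeff_mk, PowerSeries.coeff_mk, nsmul_eq_mul]
    have h1 : algebraMap A B (γ.dpow k.1 a) * algebraMap A B (γ.dpow k.2 a) =
        (n.choose k.1 : B) * algebraMap A B (γ.dpow n a) := by
      rw [← map_mul, γ.mul_dpow a.2, map_mul, map_natCast, hk]
    calc (n.choose k.1 : B) * (b ^ k.1 * b' ^ k.2) * algebraMap A B (γ.dpow n a)
        = (b ^ k.1 * b' ^ k.2) * ((n.choose k.1 : B) * algebraMap A B (γ.dpow n a)) := by ring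
      _ = _ := by rw [← h1]; ring

lemma coeff_expB (a : I) (n : ℕ) :
    PowerSeries.coeff n (expB (B := B) γ a).g = algebraMap A B (γ.dpow n a) := by
  show PowerSeries.coeff n (PowerSeries.map (algebraMap A B) (γ.exp a)) = _
  rw [PowerSeries.coeff_map, DividedPowers.exp, PowerSeries.coeff_mk]

noncomputable instance instModuleA : Module A (EM B) := Module.compHom (EM B) (algebraMap A B)

instance : IsScalarTower A B (EM B) where
  smul_assoc a b m := by
    show (a • b) • m = (algebraMap A B a) • (b • m)
    rw [Algebra.smul_def, mul_smul]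

lemma smulA_def (a : A) (m : EM B) : a • m = (algebraMap A B a) • m := rfl

/-- the `A`-linear exponential map -/
noncomputable def expL : I →ₗ[A] EM B where
  toFun := expB γ
  map_add' a a' := by
    apply EM.ext'
    show PowerSeries.map (algebraMap A B) (γ.exp ((a + a' : I) : A)) = _
    rw [Submodule.coe_add, γ.exp_add a.2 a'.2, map_mul]
    rfl
  map_smul' c a := by
    apply EM.ext'
    rw [RingHom.id_apply, smulA_def, EM.smul_g]
    ext n
    rw [coeff_expB, PowerSeries.coeff_rescale, coeff_expB]
    show algebraMap A B (γ.dpow n (c * (a : A))) = _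
    rw [γ.dpow_mul a.2, map_mul, map_pow]

/-- the extension to `B ⊗ I` -/
noncomputable def expLB : B ⊗[A] I →ₗ[B] EM B := (expL (B := B) γ).liftBaseChange B

/-- the multiplication map `B ⊗ I → B` -/
noncomputable def rho : B ⊗[A] I →ₗ[B] B :=
  ((Algebra.linearMap A B).comp I.subtype).liftBaseChange B

lemma rho_tmul (b : B) (a : I) : rho (A := A) (B := B) (I := I) (b ⊗ₜ a) = b * algebraMap A B a := by
  show b • (algebraMap A B (a : A)) = _
  rw [smul_eq_mul]

lemma rho_injective [Module.Flat A B] : Function.Injective (rho (A := A) (B := B) (I := I)) := by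
  have h1 : Function.Injective (LinearMap.lTensor B (I.subtype : I →ₗ[A] A)) :=
    Module.Flat.lTensor_preserves_injective_linearMap _ Subtype.val_injective
  have h2 : ∀ t : B ⊗[A] I, rho (A := A) (B := B) (I := I) t =
      TensorProduct.rid A B (LinearMap.lTensor B (I.subtype : I →ₗ[A] A) t) := by
    intro t
    induction t using TensorProduct.induction_on with
    | zero => simp
    | tmul b a =>
      rw [rho_tmul, LinearMap.lTensor_tmul, TensorProduct.rid_tmul, Algebra.smul_def, mul_comm]
      rfl
    | add t t' h h' => rw [map_add, map_add, map_add, h, h']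
  intro t t' htt
  rw [h2, h2] at htt
  exact h1 ((TensorProduct.rid A B).injective htt)

lemma rho_mem (t : B ⊗[A] I) : rho (A := A) (B := B) (I := I) t ∈ I.map (algebraMap A B) := by
  induction t using TensorProduct.induction_on with
  | zero => simp
  | tmul b a =>
    rw [rho_tmul]
    exact Ideal.mul_mem_left _ _ (Ideal.mem_map_of_mem _ a.2)
  | add t t' h h' => rw [map_add]; exact add_mem h h'

lemma exists_rho (z : B) (hz : z ∈ I.map (algebraMap A B)) :
    ∃ t : B ⊗[A] I, rho (A := A) (B := B) (I := I) t = z := by
  unfold Ideal.map at hz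
  induction hz using Submodule.span_induction with
  | mem y hy =>
    obtain ⟨a, ha, rfl⟩ := hy
    exact ⟨1 ⊗ₜ ⟨a, ha⟩, by rw [rho_tmul, one_mul]⟩
  | zero => exact ⟨0, map_zero _⟩
  | add y y' _ _ h h' =>
    obtain ⟨t, rfl⟩ := h
    obtain ⟨t', rfl⟩ := h'
    exact ⟨t + t', map_add _ _ _⟩
  | smul c y _ h =>
    obtain ⟨t, rfl⟩ := h
    exact ⟨c • t, map_smul _ _ _⟩

/-- the divided power maps on `I B` -/
noncomputable def dB (n : ℕ) (z : B) : B := by
  classical
  exact if hz : z ∈ I.map (algebraMap A B) then
    PowerSeries.coeff n (expLB γ (Classical.choose (exists_rho z hz))).g else 0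

lemma dB_rho [Module.Flat A B] (n : ℕ) (t : B ⊗[A] I) :
    dB γ n (rho (A := A) (B := B) (I := I) t) = PowerSeries.coeff n (expLB γ t).g := by
  classical
  unfold dB
  rw [dif_pos (rho_mem t)]
  have := Classical.choose_spec (exists_rho _ (rho_mem (A := A) (B := B) (I := I) t))
  rw [rho_injective this]

lemma expLB_tmul (b : B) (a : I) : expLB (B := B) γ (b ⊗ₜ a) = b • expB γ a := rfl

lemma coeff_expLB_tmul (b : B) (a : I) (n : ℕ) :
    PowerSeries.coeff n (expLB (B := B) γ (b ⊗ₜ a)).g = b ^ n * algebraMap A B (γ.dpow n a) := by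
  rw [expLB_tmul, EM.smul_g, PowerSeries.coeff_rescale, coeff_expB]

lemma dB_algebraMap [Module.Flat A B] (n : ℕ) (a : A) (ha : a ∈ I) :
    dB (B := B) γ n (algebraMap A B a) = algebraMap A B (γ.dpow n a) := by
  have h1 : algebraMap A B a = rho (A := A) (B := B) (I := I) (1 ⊗ₜ ⟨a, ha⟩) := by
    rw [rho_tmul, one_mul]
  rw [h1, dB_rho, coeff_expLB_tmul, one_pow, one_mul]

theorem exists_extension [Module.Flat A B] :
    ∃ δ : DividedPowers (I.map (algebraMap A B)), γ.IsDPMorphism δ (algebraMap A B) := by
  classical
  have hS : Ideal.span ((algebraMap A B) '' (I : Set A)) = I.map (algebraMap A B) := rfl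
  have hex : ∃ δ : DividedPowers (I.map (algebraMap A B)), δ.dpow = dB γ := by
    apply of_generators (I.map (algebraMap A B)) ((algebraMap A B) '' (I : Set A)) hS (dB γ)
    · intro n z hz
      unfold dB
      rw [dif_neg hz]
    · intro z hz
      obtain ⟨t, rfl⟩ := exists_rho z hz
      rw [dB_rho, PowerSeries.coeff_zero_eq_constantCoeff_apply, (expLB γ t).h0]
    · intro z hz
      obtain ⟨t, rfl⟩ := exists_rho z hz
      clear hz
      rw [dB_rho]
      induction t using TensorProduct.induction_on with
      | zero =>
        rw [map_zero, map_zero, EM.zero_g, PowerSeries.coeff_one, if_neg one_ne_zero]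
      | tmul b a =>
        rw [coeff_expLB_tmul, γ.dpow_one a.2, pow_one, rho_tmul]
      | add t t' h h' =>
        rw [map_add, map_add, EM.add_g, PowerSeries.coeff_mul,
          Finset.Nat.sum_antidiagonal_eq_sum_range_succ_mk, Finset.sum_range_succ,
          Finset.sum_range_one]
        simp only [Nat.sub_zero, Nat.sub_self]
        rw [PowerSeries.coeff_zero_eq_constantCoeff_apply,
          PowerSeries.coeff_zero_eq_constantCoeff_apply, (expLB γ t).h0, (expLB γ t').h0, h, h']
        ring
    · intro n z hn hz
      obtain ⟨t, rfl⟩ := exists_rho z hz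
      rw [dB_rho]
      have key : ∀ t : B ⊗[A] I, ∀ n, n ≠ 0 →
          PowerSeries.coeff n (expLB γ t).g ∈ I.map (algebraMap A B) := by
        intro t
        induction t using TensorProduct.induction_on with
        | zero =>
          intro n hn
          rw [map_zero, EM.zero_g, PowerSeries.coeff_one, if_neg hn]
          exact zero_mem _
        | tmul b a =>
          intro n hn
          rw [coeff_expLB_tmul]
          exact Ideal.mul_mem_left _ _ (Ideal.mem_map_of_mem _ (γ.dpow_mem hn a.2))
        | add t t' h h' =>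
          intro n hn
          rw [map_add, EM.add_g, PowerSeries.coeff_mul]
          apply Ideal.sum_mem
          intro k hk
          rw [Finset.HasAntidiagonal.mem_antidiagonal] at hk
          by_cases hk1 : k.1 = 0
          · exact Ideal.mul_mem_left _ _ (h' k.2 (by omega))
          · exact Ideal.mul_mem_right _ _ (h k.1 hk1)
      exact key t n hn
    · intro n z z' hz hz'
      obtain ⟨t, rfl⟩ := exists_rho z hz
      obtain ⟨t', rfl⟩ := exists_rho z' hz'
      rw [← map_add, dB_rho, map_add, EM.add_g, PowerSeries.coeff_mul]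
      refine Finset.sum_congr rfl (fun k _ => ?_)
      rw [dB_rho, dB_rho]
    · intro n b z hz
      obtain ⟨t, rfl⟩ := exists_rho z hz
      rw [← smul_eq_mul, ← map_smul, dB_rho, map_smul, EM.smul_g, PowerSeries.coeff_rescale, dB_rho]
    · intro m n z hz
      obtain ⟨a, ha, rfl⟩ := hz
      rw [dB_algebraMap γ m a ha, dB_algebraMap γ n a ha, dB_algebraMap γ (m + n) a ha, ← map_mul,
        γ.mul_dpow ha, map_mul, map_natCast]
    · intro m n z hn hz
      obtain ⟨a, ha, rfl⟩ := hz
      rw [dB_algebraMap γ n a ha, dB_algebraMap γ m _ (γ.dpow_mem hn ha),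
        dB_algebraMap γ (m * n) a ha, γ.dpow_comp hn ha, map_mul, map_natCast]
  obtain ⟨δ, hδ⟩ := hex
  refine ⟨δ, ⟨le_refl _, ?_⟩⟩
  intro n a ha
  rw [hδ, dB_algebraMap γ n a ha]

theorem extension_unique (δ δ' : DividedPowers (I.map (algebraMap A B)))
    (h : γ.IsDPMorphism δ (algebraMap A B)) (h' : γ.IsDPMorphism δ' (algebraMap A B)) :
    δ = δ' := by
  have hS : I.map (algebraMap A B) = Ideal.span ((algebraMap A B) '' (I : Set A)) := rfl
  refine DividedPowers.dpow_eq_from_gens δ' δ hS ?_
  intro n y hy
  obtain ⟨a, ha, rfl⟩ := hy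
  rw [h.2 a ha, h'.2 a ha]

end Flat

end Groth.Agent.H9.DpS
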