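import Groth.Agent.Lib.Helper9.Misc.DpSlimA

set_option autoImplicit false
set_option linter.unusedSectionVars false
set_option linter.unusedVariables false

namespace Groth.Agent.H9.DpS

universe u

section Sum
variable {A : Type u} [CommRing A] {I J : Ideal A} (γ : DividedPowers I) (δ : DividedPowers J)
  (h : ∀ (n : ℕ) (x : A), x ∈ I ⊓ J → γ.dpow n x = δ.dpow n x)

lemma exp_zero' {K : Ideal A} (ε : DividedPowers K) : ε.exp 0 = 1 := by
  ext n
  rw [DividedPowers.exp, PowerSeries.coeff_mk, PowerSeries.coeff_one]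
  by_cases hn : n = 0
  · subst hn; rw [if_pos rfl, ε.dpow_zero (zero_mem _)]
  · rw [if_neg hn, ε.dpow_eval_zero hn]

lemma coeff_exp {K : Ideal A} (ε : DividedPowers K) (a : A) (n : ℕ) :
    PowerSeries.coeff n (ε.exp a) = ε.dpow n a := by
  rw [DividedPowers.exp, PowerSeries.coeff_mk]

/-- the generating series of the sum structure -/
noncomputable def EE (x y : A) : PowerSeries A := γ.exp x * δ.exp y

include h in
lemma EE_wd (x x' y y' : A) (hx : x ∈ I) (hx' : x' ∈ I) (hy : y ∈ J) (hy' : y' ∈ J)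
    (he : x + y = x' + y') : EE γ δ x y = EE γ δ x' y' := by
  have hw : x - x' = y' - y := by
    rw [sub_eq_sub_iff_add_eq_add]; rw [he, add_comm]
  have hwI : x - x' ∈ I := sub_mem hx hx'
  have hwJ : x - x' ∈ J := by rw [hw]; exact sub_mem hy' hy
  have hexp : γ.exp (x - x') = δ.exp (x - x') := by
    ext n
    rw [coeff_exp, coeff_exp]
    exact h n _ ⟨hwI, hwJ⟩
  have h1 : γ.exp x = γ.exp x' * γ.exp (x - x') := by
    rw [← γ.exp_add hx' hwI]; congr 1; ring
  have h2 : δ.exp y' = δ.exp y * δ.exp (x - x') := by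
    rw [← δ.exp_add hy hwJ]; congr 1; rw [hw]; ring
  unfold EE
  rw [h1, h2, hexp]
  ring

/-- the divided power maps on `I ⊔ J` -/
noncomputable def dd (n : ℕ) (z : A) : A := by
  classical
  exact if hz : z ∈ I ⊔ J then
    PowerSeries.coeff n (EE γ δ (Classical.choose (Submodule.mem_sup.mp hz))
      (Classical.choose (Classical.choose_spec (Submodule.mem_sup.mp hz)).2)) else 0

include h in
lemma dd_add (n : ℕ) (x y : A) (hx : x ∈ I) (hy : y ∈ J) :
    dd γ δ n (x + y) = PowerSeries.coeff n (EE γ δ x y) := by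
  classical
  have hz : x + y ∈ I ⊔ J := Submodule.mem_sup.mpr ⟨x, hx, y, hy, rfl⟩
  unfold dd
  rw [dif_pos hz]
  have hs := Classical.choose_spec (Submodule.mem_sup.mp hz)
  have hs2 := Classical.choose_spec hs.2
  rw [EE_wd γ δ h _ x _ y hs.1 hx hs2.1 hy hs2.2]

lemma dd_null (n : ℕ) (z : A) (hz : z ∉ I ⊔ J) : dd γ δ n z = 0 := by
  classical
  unfold dd
  rw [dif_neg hz]

include h in
lemma dd_I (n : ℕ) (x : A) (hx : x ∈ I) : dd γ δ n x = γ.dpow n x := by
  have := dd_add γ δ h n x 0 hx (zero_mem _)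
  rw [add_zero] at this
  rw [this, EE, exp_zero', mul_one, coeff_exp]

include h in
lemma dd_J (n : ℕ) (y : A) (hy : y ∈ J) : dd γ δ n y = δ.dpow n y := by
  have := dd_add γ δ h n 0 y (zero_mem _) hy
  rw [zero_add] at this
  rw [this, EE, exp_zero', one_mul, coeff_exp]

include h in
theorem sum_ideals :
    ∃! ε : DividedPowers (I ⊔ J),
      (∀ (n : ℕ) (x : A), x ∈ I → ε.dpow n x = γ.dpow n x) ∧
        (∀ (n : ℕ) (x : A), x ∈ J → ε.dpow n x = δ.dpow n x) := by
  classical
  have hS : Ideal.span ((I : Set A) ∪ (J : Set A)) = I ⊔ J := by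
    rw [Ideal.span_union, Ideal.span_eq, Ideal.span_eq]
  have hcoeff : ∀ (n : ℕ) (x y : A), PowerSeries.coeff n (EE γ δ x y) =
      ∑ k ∈ Finset.HasAntidiagonal.antidiagonal n, γ.dpow k.1 x * δ.dpow k.2 y := by
    intro n x y
    rw [EE, PowerSeries.coeff_mul]
    refine Finset.sum_congr rfl (fun k _ => ?_)
    rw [coeff_exp, coeff_exp]
  have hex : ∃ ε : DividedPowers (I ⊔ J), ε.dpow = dd γ δ := by
    apply of_generators (I ⊔ J) ((I : Set A) ∪ (J : Set A)) hS (dd γ δ)
    · exact fun n x hx => dd_null γ δ n x hx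
    · intro z hz
      obtain ⟨x, hx, y, hy, rfl⟩ := Submodule.mem_sup.mp hz
      rw [dd_add γ δ h 0 x y hx hy, hcoeff]
      simp [γ.dpow_zero hx, δ.dpow_zero hy]
    · intro z hz
      obtain ⟨x, hx, y, hy, rfl⟩ := Submodule.mem_sup.mp hz
      rw [dd_add γ δ h 1 x y hx hy, hcoeff, Finset.Nat.sum_antidiagonal_eq_sum_range_succ_mk,
        Finset.sum_range_succ, Finset.sum_range_one]
      simp only [Nat.sub_zero, Nat.sub_self]
      rw [γ.dpow_zero hx, δ.dpow_zero hy, γ.dpow_one hx, δ.dpow_one hy]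
      ring
    · intro n z hn hz
      obtain ⟨x, hx, y, hy, rfl⟩ := Submodule.mem_sup.mp hz
      rw [dd_add γ δ h n x y hx hy, hcoeff]
      apply Ideal.sum_mem
      intro k hk
      rw [Finset.HasAntidiagonal.mem_antidiagonal] at hk
      by_cases hk1 : k.1 = 0
      · exact Ideal.mul_mem_left _ _ (Ideal.mem_sup_right (δ.dpow_mem (by omega) hy))
      · exact Ideal.mul_mem_right _ _ (Ideal.mem_sup_left (γ.dpow_mem hk1 hx))
    · intro n z z' hz hz'
      obtain ⟨x, hx, y, hy, rfl⟩ := Submodule.mem_sup.mp hz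
      obtain ⟨x', hx', y', hy', rfl⟩ := Submodule.mem_sup.mp hz'
      have e1 : x + y + (x' + y') = (x + x') + (y + y') := by ring
      rw [e1, dd_add γ δ h n (x + x') (y + y') (add_mem hx hx') (add_mem hy hy')]
      have e2 : EE γ δ (x + x') (y + y') = EE γ δ x y * EE γ δ x' y' := by
        unfold EE
        rw [γ.exp_add hx hx', δ.exp_add hy hy']
        ring
      rw [e2, PowerSeries.coeff_mul]
      refine Finset.sum_congr rfl (fun k _ => ?_)
      rw [dd_add γ δ h k.1 x y hx hy, dd_add γ δ h k.2 x' y' hx' hy']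
    · intro n a z hz
      obtain ⟨x, hx, y, hy, rfl⟩ := Submodule.mem_sup.mp hz
      rw [mul_add, dd_add γ δ h n (a * x) (a * y) (Ideal.mul_mem_left _ _ hx)
        (Ideal.mul_mem_left _ _ hy), dd_add γ δ h n x y hx hy, hcoeff, hcoeff, Finset.mul_sum]
      refine Finset.sum_congr rfl (fun k hk => ?_)
      rw [Finset.HasAntidiagonal.mem_antidiagonal] at hk
      rw [γ.dpow_mul hx, δ.dpow_mul hy, ← hk, pow_add]
      ring
    · intro m n x hx
      rcases hx with hx | hx
      · rw [dd_I γ δ h m x hx, dd_I γ δ h n x hx, dd_I γ δ h (m + n) x hx, γ.mul_dpow hx]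
      · rw [dd_J γ δ h m x hx, dd_J γ δ h n x hx, dd_J γ δ h (m + n) x hx, δ.mul_dpow hx]
    · intro m n x hn hx
      rcases hx with hx | hx
      · rw [dd_I γ δ h n x hx, dd_I γ δ h m _ (γ.dpow_mem hn hx), dd_I γ δ h (m * n) x hx,
          γ.dpow_comp hn hx]
      · rw [dd_J γ δ h n x hx, dd_J γ δ h m _ (δ.dpow_mem hn hx), dd_J γ δ h (m * n) x hx,
          δ.dpow_comp hn hx]
  obtain ⟨ε, hε⟩ := hex
  refine ⟨ε, ⟨fun n x hx => by rw [hε]; exact dd_I γ δ h n x hx,
    fun n x hx => by rw [hε]; exact dd_J γ δ h n x hx⟩, ?_⟩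
  rintro ε' ⟨h1, h2⟩
  refine DividedPowers.dpow_eq_from_gens ε ε' hS.symm ?_
  intro n a ha
  rcases ha with ha | ha
  · rw [hε, dd_I γ δ h n a ha, h1 n a ha]
  · rw [hε, dd_J γ δ h n a ha, h2 n a ha]

end Sum

end Groth.Agent.H9.DpS
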