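import Groth.Agent.Lib.Helper9.Misc.DpSlimA
import Groth.Agent.Lib.Helper9.Misc.DpSumA
import Groth.Agent.Lib.Helper9.Misc.DpFlatA

set_option autoImplicit false
set_option linter.unusedSectionVars false
set_option linter.unusedVariables false

namespace Groth.Agent.H9.DpS

universe u v w

section Gen
variable {R : Type u} [CommRing R] {Λ : Type w} {P : Type v} [CommRing P] [Algebra R P]
  (x : Λ → ℕ → P) (hx0 : ∀ l, x l 0 = 1)
  (hxmul : ∀ l n m, x l n * x l m = ((n + m).choose n : P) * x l (n + m))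
  (b : Module.Basis (Λ →₀ ℕ) R P) (hb : ∀ e : Λ →₀ ℕ, b e = e.prod (fun l k => x l k))

/-- the augmentation ideal (general index type) -/
def Pplus : Ideal P := Ideal.span {y : P | ∃ (l : Λ) (n : ℕ), 1 ≤ n ∧ y = x l n}

lemma xg_mem (l : Λ) (n : ℕ) (hn : 1 ≤ n) : x l n ∈ Pplus x :=
  Ideal.subset_span ⟨l, n, hn, rfl⟩

include hb in
lemma bg_mem (e : Λ →₀ ℕ) (he : e ≠ 0) : b e ∈ Pplus x := by
  obtain ⟨l, hl⟩ : ∃ l, e l ≠ 0 := by
    by_contra h
    push Not at h
    exact he (Finsupp.ext h)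
  rw [hb, Finsupp.prod]
  exact Ideal.mem_of_dvd _ (Finset.dvd_prod_of_mem (fun j => x j (e j))
    (Finsupp.mem_support_iff.mpr hl)) (xg_mem x l (e l) (Nat.one_le_iff_ne_zero.mpr hl))

include hx0 hxmul hb in
lemma bg_mul (e s : Λ →₀ ℕ) : ∃ c : ℕ, b e * b s = (c : P) * b (e + s) := by
  classical
  set T := e.support ∪ s.support with hT
  have h1 : b e = ∏ l ∈ T, x l (e l) := by
    rw [hb]
    exact Finsupp.prod_of_support_subset e Finset.subset_union_left _ (fun l _ => hx0 l)
  have h2 : b s = ∏ l ∈ T, x l (s l) := by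
    rw [hb]
    exact Finsupp.prod_of_support_subset s Finset.subset_union_right _ (fun l _ => hx0 l)
  have h3 : b (e + s) = ∏ l ∈ T, x l ((e + s) l) := by
    rw [hb]
    exact Finsupp.prod_of_support_subset (e + s) Finsupp.support_add _ (fun l _ => hx0 l)
  refine ⟨∏ l ∈ T, (e l + s l).choose (e l), ?_⟩
  rw [h1, h2, h3, ← Finset.prod_mul_distrib, Nat.cast_prod, ← Finset.prod_mul_distrib]
  refine Finset.prod_congr rfl (fun l _ => ?_)
  rw [hxmul, Finsupp.add_apply]

include hx0 hxmul hb in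
lemma reprg_mul_b_zero (a : P) (s : Λ →₀ ℕ) (hs : s ≠ 0) : b.repr (a * b s) 0 = 0 := by
  classical
  have key : ((Finsupp.lapply (0 : Λ →₀ ℕ)).comp
      (b.repr.toLinearMap.comp (LinearMap.mulRight R (b s)))) = 0 := by
    apply b.ext
    intro e
    simp only [LinearMap.comp_apply, LinearMap.mulRight_apply, LinearEquiv.coe_coe,
      Finsupp.lapply_apply, LinearMap.zero_apply]
    obtain ⟨c, hc⟩ := bg_mul x hx0 hxmul b hb e s
    rw [hc, ← nsmul_eq_mul, map_nsmul, Finsupp.smul_apply, b.repr_self,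
      Finsupp.single_apply, if_neg, smul_zero]
    intro h
    apply hs
    ext i
    have h1 := DFunLike.congr_fun h i
    simp only [Finsupp.add_apply, Finsupp.zero_apply] at h1 ⊢
    omega
  have := congrArg (fun f => f a) key
  simpa using this

include hx0 hxmul hb in
lemma reprg_zero_of_mem (y : P) (hy : y ∈ Pplus x) : b.repr y 0 = 0 := by
  have h : ∀ a : P, b.repr (a * y) 0 = 0 := by
    unfold Pplus at hy
    induction hy using Submodule.span_induction with
    | mem z hz =>
      obtain ⟨i, n, hn, rfl⟩ := hz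
      intro a
      have hbs : b (Finsupp.single i n) = x i n := by
        rw [hb, Finsupp.prod_single_index (hx0 i)]
      rw [← hbs]
      apply reprg_mul_b_zero x hx0 hxmul b hb
      intro h0
      have := DFunLike.congr_fun h0 i
      simp at this
      omega
    | zero => intro a; simp
    | add z w _ _ hz hw => intro a; rw [mul_add, map_add, Finsupp.add_apply, hz, hw, add_zero]
    | smul c z _ hz => intro a; rw [smul_eq_mul, ← mul_assoc]; exact hz (a * c)
  simpa using h 1

/-- coordinates of elements of `I P` lie in `I` -/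
lemma repr_mem_of_mem_map (I : Ideal R) (z : P) (hz : z ∈ I.map (algebraMap R P)) :
    ∀ e, b.repr z e ∈ I := by
  unfold Ideal.map at hz
  induction hz using Submodule.span_induction with
  | mem y hy =>
    obtain ⟨a, ha, rfl⟩ := hy
    intro e
    rw [Algebra.algebraMap_eq_smul_one, map_smul, Finsupp.smul_apply, smul_eq_mul]
    exact Ideal.mul_mem_right _ _ ha
  | zero => intro e; simp
  | add y y' _ _ h h' => intro e; rw [map_add, Finsupp.add_apply]; exact add_mem (h e) (h' e)
  | smul q y _ h =>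
    intro e'
    have hy := b.linearCombination_repr y
    rw [Finsupp.linearCombination_apply, Finsupp.sum] at hy
    rw [smul_eq_mul, ← hy, Finset.mul_sum, map_sum, Finsupp.coe_finsetSum, Finset.sum_apply]
    apply Ideal.sum_mem
    intro e _
    rw [mul_smul_comm, map_smul, Finsupp.smul_apply, smul_eq_mul]
    exact Ideal.mul_mem_right _ _ (h e)

end Gen

section Main
variable (R : Type u) [CommRing R] {I : Ideal R} (γ : DividedPowers I) (Λ : Type w)
  (P : Type v) [CommRing P] [Algebra R P] (x : Λ → ℕ → P)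
  (hx0 : ∀ l, x l 0 = 1)
  (hxmul : ∀ l n m, x l n * x l m = ((n + m).choose n : P) * x l (n + m))
  (b : Module.Basis (Λ →₀ ℕ) R P) (hb : ∀ e : Λ →₀ ℕ, b e = e.prod (fun l k => x l k))
  (δplus : DividedPowers (Ideal.span {y : P | ∃ (l : Λ) (n : ℕ), 1 ≤ n ∧ y = x l n}))

include hx0 hxmul hb in
theorem dp_base_sum :
    ∃! δ : DividedPowers (I.map (algebraMap R P) ⊔
        Ideal.span {y : P | ∃ (l : Λ) (n : ℕ), 1 ≤ n ∧ y = x l n}),
      γ.IsDPMorphism δ (algebraMap R P) ∧
        ∀ (n : ℕ) (y : P), y ∈ Ideal.span {y : P | ∃ (l : Λ) (n : ℕ), 1 ≤ n ∧ y = x l n} →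
          δ.dpow n y = δplus.dpow n y := by
  classical
  haveI : Module.Free R P := Module.Free.of_basis b
  obtain ⟨γb, hγb⟩ := exists_extension (B := P) γ
  have hagree : ∀ (n : ℕ) (z : P), z ∈ I.map (algebraMap R P) ⊓ Pplus x →
      γb.dpow n z = δplus.dpow n z := by
    intro n z hz
    let T : AddSubmonoid P :=
      { carrier := {z | z ∈ I.map (algebraMap R P) ⊓ Pplus x ∧
          ∀ n, γb.dpow n z = δplus.dpow n z}
        zero_mem' := by
          refine ⟨zero_mem _, fun n => ?_⟩
          by_cases hn : n = 0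
          · subst hn; rw [γb.dpow_zero (zero_mem _), δplus.dpow_zero (zero_mem _)]
          · rw [γb.dpow_eval_zero hn, δplus.dpow_eval_zero hn]
        add_mem' := by
          rintro z w ⟨hz, hz'⟩ ⟨hw, hw'⟩
          refine ⟨add_mem hz hw, fun n => ?_⟩
          rw [γb.dpow_add hz.1 hw.1, δplus.dpow_add hz.2 hw.2]
          refine Finset.sum_congr rfl (fun k _ => ?_)
          rw [hz', hw'] }
    have hT : ∀ (a : R) (e : Λ →₀ ℕ), a ∈ I → e ≠ 0 → a • b e ∈ T := by
      intro a e ha he
      have hbe : b e ∈ Pplus x := bg_mem x b hb e he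
      have hfa : algebraMap R P a ∈ I.map (algebraMap R P) := Ideal.mem_map_of_mem _ ha
      refine ⟨⟨?_, ?_⟩, fun n => ?_⟩
      · rw [Algebra.smul_def]; exact Ideal.mul_mem_right _ _ hfa
      · rw [Algebra.smul_def]; exact Ideal.mul_mem_left _ _ hbe
      · rw [Algebra.smul_def, δplus.dpow_mul hbe, mul_comm (algebraMap R P a) (b e),
          γb.dpow_mul hfa, hγb.2 a ha, ← δplus.factorial_mul_dpow_eq_pow hbe, ← map_pow,
          ← γ.factorial_mul_dpow_eq_pow ha, map_mul, map_natCast]
        ring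
    have hzT : z ∈ T := by
      have hrep := b.linearCombination_repr z
      rw [Finsupp.linearCombination_apply, Finsupp.sum] at hrep
      rw [← hrep]
      apply AddSubmonoid.sum_mem
      intro e _
      by_cases he0 : e = 0
      · subst he0
        rw [reprg_zero_of_mem x hx0 hxmul b hb z hz.2, zero_smul]
        exact T.zero_mem
      · exact hT _ e (repr_mem_of_mem_map b I z hz.1 e) he0
    exact hzT.2 n
  obtain ⟨ε, ⟨h1, h2⟩, -⟩ := sum_ideals γb δplus hagree
  have hmor : γ.IsDPMorphism ε (algebraMap R P) :=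
    ⟨le_sup_left, fun a ha => by
      rw [h1 _ _ (Ideal.mem_map_of_mem _ ha), hγb.2 a ha]⟩
  refine ⟨ε, ⟨hmor, fun n y hy => h2 n y hy⟩, ?_⟩
  rintro δ' ⟨hm', hr'⟩
  have hS : I.map (algebraMap R P) ⊔
      Ideal.span {y : P | ∃ (l : Λ) (n : ℕ), 1 ≤ n ∧ y = x l n} =
      Ideal.span ((algebraMap R P) '' (I : Set R) ∪
        {y : P | ∃ (l : Λ) (n : ℕ), 1 ≤ n ∧ y = x l n}) := by
    rw [Ideal.span_union]; rfl
  refine DividedPowers.dpow_eq_from_gens ε δ' hS ?_
  intro n y hy
  rcases hy with hy | hy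
  · obtain ⟨a, ha, rfl⟩ := hy
    rw [hmor.2 a ha, hm'.2 a ha]
  · rw [h2 n y (Ideal.subset_span hy), hr' n y (Ideal.subset_span hy)]

end Main

end Groth.Agent.H9.DpS
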