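import Mathlib

set_option autoImplicit false
set_option linter.unusedSectionVars false
set_option linter.unusedVariables false

namespace Groth.Agent.H9.DpPoly

/-- multinomial-type coefficient -/
def mc {N : ℕ} (e e' : Fin N →₀ ℕ) : ℕ := ∏ i : Fin N, (e i + e' i).choose (e i)

section Abstract
variable {R : Type*} [CommRing R] {N : ℕ} {P : Type*} [CommRing P] [Algebra R P]
  (x : Fin N → ℕ → P) (hx0 : ∀ i, x i 0 = 1)
  (hxmul : ∀ i n m, x i n * x i m = ((n + m).choose n : P) * x i (n + m))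
  (b : Module.Basis (Fin N →₀ ℕ) R P) (hb : ∀ e : Fin N →₀ ℕ, b e = e.prod (fun i k => x i k))

include hx0 hb in
lemma b_eq_prod (e : Fin N →₀ ℕ) : b e = ∏ i : Fin N, x i (e i) := by
  rw [hb, Finsupp.prod_fintype]
  intro i; exact hx0 i

include hx0 hb in
lemma b_zero : b 0 = 1 := by
  rw [b_eq_prod x hx0 b hb]; simp [hx0]

include hx0 hb in
lemma b_single (i : Fin N) (n : ℕ) : b (Finsupp.single i n) = x i n := by
  rw [hb, Finsupp.prod_single_index (hx0 i)]

include hx0 hxmul hb in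
lemma b_mul (e e' : Fin N →₀ ℕ) : b e * b e' = (mc e e' : P) * b (e + e') := by
  rw [b_eq_prod x hx0 b hb, b_eq_prod x hx0 b hb, b_eq_prod x hx0 b hb, ← Finset.prod_mul_distrib]
  unfold mc
  rw [Nat.cast_prod, ← Finset.prod_mul_distrib]
  refine Finset.prod_congr rfl (fun i _ => ?_)
  rw [hxmul, Finsupp.add_apply]

/-- the augmentation ideal -/
def Iaug : Ideal P := Ideal.span {y : P | ∃ (i : Fin N) (n : ℕ), 1 ≤ n ∧ y = x i n}

lemma x_mem (i : Fin N) (n : ℕ) (hn : 1 ≤ n) : x i n ∈ Iaug x :=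
  Ideal.subset_span ⟨i, n, hn, rfl⟩

include hx0 hb in
lemma b_mem (e : Fin N →₀ ℕ) (he : e ≠ 0) : b e ∈ Iaug x := by
  obtain ⟨i, hi⟩ : ∃ i, e i ≠ 0 := by
    by_contra h
    push Not at h
    exact he (Finsupp.ext h)
  rw [b_eq_prod x hx0 b hb]
  exact Ideal.mem_of_dvd _ (Finset.dvd_prod_of_mem (fun j => x j (e j)) (Finset.mem_univ i))
    (x_mem x i (e i) (Nat.one_le_iff_ne_zero.mpr hi))

include hx0 hxmul hb in
lemma repr_mul_b_zero (a : P) (s : Fin N →₀ ℕ) (hs : s ≠ 0) : b.repr (a * b s) 0 = 0 := by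
  have key : ((Finsupp.lapply (0 : Fin N →₀ ℕ)).comp
      (b.repr.toLinearMap.comp (LinearMap.mulRight R (b s)))) = 0 := by
    apply b.ext
    intro e
    simp only [LinearMap.comp_apply, LinearMap.mulRight_apply, LinearEquiv.coe_coe,
      Finsupp.lapply_apply, LinearMap.zero_apply]
    rw [b_mul x hx0 hxmul b hb, ← nsmul_eq_mul, map_nsmul, Finsupp.smul_apply, b.repr_self,
      Finsupp.single_apply, if_neg, smul_zero]
    intro h
    apply hs
    ext i
    have h1 := DFunLike.congr_fun h i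
    simp only [Finsupp.add_apply, Finsupp.zero_apply] at h1 ⊢
    omega
  have := congrArg (fun f => f a) key
  simpa using this

include hx0 hxmul hb in
lemma repr_zero_of_mem (y : P) (hy : y ∈ Iaug x) : b.repr y 0 = 0 := by
  have h : ∀ a : P, b.repr (a * y) 0 = 0 := by
    unfold Iaug at hy
    induction hy using Submodule.span_induction with
    | mem z hz =>
      obtain ⟨i, n, hn, rfl⟩ := hz
      intro a
      rw [← b_single x hx0 b hb i n]
      apply repr_mul_b_zero x hx0 hxmul b hb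
      intro h0
      have := DFunLike.congr_fun h0 i
      simp at this
      omega
    | zero => intro a; simp
    | add z w _ _ hz hw => intro a; rw [mul_add, map_add, Finsupp.add_apply, hz, hw, add_zero]
    | smul c z _ hz => intro a; rw [smul_eq_mul, ← mul_assoc]; exact hz (a * c)
  simpa using h 1

include hx0 hxmul in
lemma x_one_pow (i : Fin N) (n : ℕ) : x i 1 ^ n = (n.factorial : P) * x i n := by
  induction n with
  | zero => simp [hx0]
  | succ n ih =>
    rw [pow_succ, ih, mul_assoc, hxmul, Nat.choose_succ_self_right, Nat.factorial_succ]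
    push_cast
    ring

end Abstract

section Transfer
variable {U : Type*} [CommRing U] {R : Type*} [CommRing R] {N : ℕ}
  {PU : Type*} [CommRing PU] [Algebra U PU] {P : Type*} [CommRing P] [Algebra R P]
  (xU : Fin N → ℕ → PU) (hxU0 : ∀ i, xU i 0 = 1)
  (hxUmul : ∀ i n m, xU i n * xU i m = ((n + m).choose n : PU) * xU i (n + m))
  (bU : Module.Basis (Fin N →₀ ℕ) U PU)
  (hbU : ∀ e : Fin N →₀ ℕ, bU e = e.prod (fun i k => xU i k))
  (x : Fin N → ℕ → P) (hx0 : ∀ i, x i 0 = 1)
  (hxmul : ∀ i n m, x i n * x i m = ((n + m).choose n : P) * x i (n + m))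
  (b : Module.Basis (Fin N →₀ ℕ) R P) (hb : ∀ e : Fin N →₀ ℕ, b e = e.prod (fun i k => x i k))
  (φ : U →+* R)

/-- the additive transfer map -/
noncomputable def Φ₀ : PU →+ P where
  toFun f := b.repr.symm (Finsupp.mapRange φ (map_zero φ) (bU.repr f))
  map_zero' := by simp
  map_add' f g := by
    rw [map_add, Finsupp.mapRange_add (fun a b => map_add φ a b), map_add]

lemma Φ₀_apply (f : PU) :
    Φ₀ bU b φ f = b.repr.symm (Finsupp.mapRange φ (map_zero φ) (bU.repr f)) := rfl

lemma Φ₀_smul_b (u : U) (e : Fin N →₀ ℕ) : Φ₀ bU b φ (u • bU e) = φ u • b e := by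
  rw [Φ₀_apply, map_smul, bU.repr_self, Finsupp.smul_single, smul_eq_mul, mul_one,
    Finsupp.mapRange_single, b.repr_symm_single]

lemma Φ₀_b (e : Fin N →₀ ℕ) : Φ₀ bU b φ (bU e) = b e := by
  have := Φ₀_smul_b bU b φ 1 e
  rwa [one_smul, map_one, one_smul] at this

lemma Φ₀_smul (u : U) (f : PU) : Φ₀ bU b φ (u • f) = φ u • Φ₀ bU b φ f := by
  rw [Φ₀_apply, Φ₀_apply, map_smul]
  have : Finsupp.mapRange φ (map_zero φ) (u • bU.repr f) =
      φ u • Finsupp.mapRange φ (map_zero φ) (bU.repr f) := by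
    ext e; simp
  rw [this, map_smul]

include hxU0 hxUmul hbU hx0 hxmul hb in
lemma Φ₀_mul (f g : PU) : Φ₀ bU b φ (f * g) = Φ₀ bU b φ f * Φ₀ bU b φ g := by
  have hbb : ∀ e e', Φ₀ bU b φ (bU e * bU e') = Φ₀ bU b φ (bU e) * Φ₀ bU b φ (bU e') := by
    intro e e'
    rw [Φ₀_b, Φ₀_b, b_mul xU hxU0 hxUmul bU hbU, b_mul x hx0 hxmul b hb]
    have h2 : ((mc e e' : ℕ) : PU) * bU (e + e') = ((mc e e' : ℕ) : U) • bU (e + e') := by
      rw [Algebra.smul_def, map_natCast]
    rw [h2, Φ₀_smul_b, map_natCast, Algebra.smul_def, map_natCast]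
  have hfe : ∀ (f : PU) e', Φ₀ bU b φ (f * bU e') = Φ₀ bU b φ f * Φ₀ bU b φ (bU e') := by
    intro f e'
    have hf : f ∈ Submodule.span U (Set.range bU) := by rw [bU.span_eq]; exact Submodule.mem_top
    induction hf using Submodule.span_induction with
    | mem z hz => obtain ⟨e, rfl⟩ := hz; exact hbb e e'
    | zero => simp
    | add z w _ _ hz hw => rw [add_mul, map_add, map_add, add_mul, hz, hw]
    | smul c z _ hz => rw [smul_mul_assoc, Φ₀_smul, Φ₀_smul, hz, smul_mul_assoc]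
  have hg : g ∈ Submodule.span U (Set.range bU) := by rw [bU.span_eq]; exact Submodule.mem_top
  induction hg using Submodule.span_induction with
  | mem z hz => obtain ⟨e, rfl⟩ := hz; exact hfe f e
  | zero => simp
  | add z w _ _ hz hw => rw [mul_add, map_add, map_add, mul_add, hz, hw]
  | smul c z _ hz => rw [mul_smul_comm, Φ₀_smul, Φ₀_smul, hz, mul_smul_comm]

include hxU0 hxUmul hbU hx0 hxmul hb in
theorem exists_transfer : ∃ Φ : PU →+* P, (∀ e, Φ (bU e) = b e) ∧
    (∀ u f, Φ (u • f) = φ u • Φ f) ∧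
    (Function.Surjective φ → Function.Surjective Φ) ∧
    (∀ f, Φ f = 0 ↔ ∀ e, φ (bU.repr f e) = 0) := by
  refine ⟨{ toFun := Φ₀ bU b φ
            map_one' := ?_
            map_mul' := Φ₀_mul xU hxU0 hxUmul bU hbU x hx0 hxmul b hb φ
            map_zero' := map_zero _
            map_add' := map_add _ }, ?_, ?_, ?_, ?_⟩
  · show Φ₀ bU b φ 1 = 1
    rw [← b_zero xU hxU0 bU hbU, Φ₀_b, b_zero x hx0 b hb]
  · intro e
    exact Φ₀_b bU b φ e
  · intro u f
    exact Φ₀_smul bU b φ u f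
  · intro hφ p
    obtain ⟨v, hv⟩ := Finsupp.mapRange_surjective φ (map_zero φ) hφ (b.repr p)
    refine ⟨bU.repr.symm v, ?_⟩
    show Φ₀ bU b φ (bU.repr.symm v) = p
    rw [Φ₀_apply, LinearEquiv.apply_symm_apply, hv, LinearEquiv.symm_apply_apply]
  · intro f
    show Φ₀ bU b φ f = 0 ↔ _
    rw [Φ₀_apply, LinearEquiv.map_eq_zero_iff, DFunLike.ext_iff]
    simp

end Transfer

end Groth.Agent.H9.DpPoly
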