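import Mathlib
import Groth.Agent.Lib.Helper9.Misc.DpPolyA

set_option autoImplicit false
set_option linter.unusedSectionVars false
set_option linter.unusedVariables false

namespace Groth.Agent.H9.DpPoly

open MvPolynomial

lemma choose_fac (a b : ℕ) : (a + b).choose a * a.factorial * b.factorial = (a + b).factorial := by
  rw [Nat.add_comm a b, ← Nat.add_choose_mul_factorial_mul_factorial b a]; ring

/-- `∏ (e i)!` -/
def dfac {N : ℕ} (e : Fin N →₀ ℕ) : ℕ := ∏ i : Fin N, (e i).factorial

lemma dfac_pos {N : ℕ} (e : Fin N →₀ ℕ) : 0 < dfac e :=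
  Finset.prod_pos (fun i _ => Nat.factorial_pos _)

lemma dfac_add {N : ℕ} (e e' : Fin N →₀ ℕ) : dfac (e + e') = mc e e' * dfac e * dfac e' := by
  unfold dfac mc
  rw [← Finset.prod_mul_distrib, ← Finset.prod_mul_distrib]
  refine Finset.prod_congr rfl (fun i _ => ?_)
  rw [Finsupp.add_apply, choose_fac]

lemma dfac_zero {N : ℕ} : dfac (0 : Fin N →₀ ℕ) = 1 := by simp [dfac]

lemma dfac_single {N : ℕ} (i : Fin N) (n : ℕ) : dfac (Finsupp.single i n) = n.factorial := by
  unfold dfac
  rw [Finset.prod_eq_single i]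
  · rw [Finsupp.single_eq_same]
  · intro j _ hj
    rw [Finsupp.single_apply, if_neg (fun h => hj h.symm), Nat.factorial_zero]
  · intro h; exact absurd (Finset.mem_univ i) h

lemma mc_single_single {N : ℕ} (i : Fin N) (n m : ℕ) :
    mc (Finsupp.single i n) (Finsupp.single i m) = (n + m).choose n := by
  unfold mc
  rw [Finset.prod_eq_single i]
  · rw [Finsupp.single_eq_same, Finsupp.single_eq_same]
  · intro j _ hj
    rw [Finsupp.single_apply, if_neg (fun h => hj h.symm), Finsupp.single_apply,
      if_neg (fun h => hj h.symm)]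
    rfl
  · intro h; exact absurd (Finset.mem_univ i) h

lemma mc_single_of_zero {N : ℕ} (i : Fin N) (n : ℕ) (e' : Fin N →₀ ℕ) (h : e' i = 0) :
    mc (Finsupp.single i n) e' = 1 := by
  unfold mc
  apply Finset.prod_eq_one
  intro j _
  by_cases hj : i = j
  · subst hj; rw [Finsupp.single_eq_same, h, add_zero, Nat.choose_self]
  · rw [Finsupp.single_apply, if_neg hj, zero_add, Nat.choose_zero_right]

section Model
variable {U : Type*} [CommRing U] (K : Type*) [CommRing K] [Algebra ℚ K]

/-- `1 / ∏ (e i)!` in `K` -/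
noncomputable def cK {N : ℕ} (e : Fin N →₀ ℕ) : K := algebraMap ℚ K ((dfac e : ℚ)⁻¹)

lemma cK_mul {N : ℕ} (e e' : Fin N →₀ ℕ) : cK K e * cK K e' = (mc e e' : K) * cK K (e + e') := by
  unfold cK
  rw [← map_mul, ← map_natCast (algebraMap ℚ K) (mc e e'), ← map_mul]
  congr 1
  have h1 : (dfac e : ℚ) ≠ 0 := by exact_mod_cast (dfac_pos e).ne'
  have h2 : (dfac e' : ℚ) ≠ 0 := by exact_mod_cast (dfac_pos e').ne'
  have h3 : (mc e e' : ℚ) ≠ 0 := by
    intro h
    have h4 : mc e e' = 0 := by exact_mod_cast h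
    have := dfac_pos (e + e')
    rw [dfac_add, h4] at this
    simp at this
  rw [dfac_add]
  push_cast
  field_simp

lemma dfac_mul_cK {N : ℕ} (e : Fin N →₀ ℕ) : (dfac e : K) * cK K e = 1 := by
  unfold cK
  rw [← map_natCast (algebraMap ℚ K), ← map_mul, mul_inv_cancel₀, map_one]
  exact_mod_cast (dfac_pos e).ne'

lemma cK_zero {N : ℕ} : cK K (0 : Fin N →₀ ℕ) = 1 := by simp [cK, dfac_zero]

/-- the divided monomials -/
noncomputable def t {N : ℕ} (e : Fin N →₀ ℕ) : MvPolynomial (Fin N) K := monomial e (cK K e)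

lemma natCast_mul_monomial {N : ℕ} (k : ℕ) (e : Fin N →₀ ℕ) (a : K) :
    (k : MvPolynomial (Fin N) K) * monomial e a = monomial e ((k : K) * a) := by
  rw [← map_natCast (C : K →+* MvPolynomial (Fin N) K), C_mul_monomial]

lemma t_mul {N : ℕ} (e e' : Fin N →₀ ℕ) :
    t K e * t K e' = (mc e e' : MvPolynomial (Fin N) K) * t K (e + e') := by
  unfold t
  rw [monomial_mul, cK_mul, natCast_mul_monomial]

lemma t_zero {N : ℕ} : t K (0 : Fin N →₀ ℕ) = 1 := by
  unfold t
  rw [cK_zero]
  rfl

variable {K} (ι : U →+* K) (N : ℕ)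

/-- the divided power polynomial algebra over `U` as a subring of `K[X]` -/
def PUsub : Subring (MvPolynomial (Fin N) K) where
  carrier := {f | ∀ e, ∃ u : U, coeff e f = cK K e * ι u}
  mul_mem' := by
    intro f g hf hg e
    classical
    rw [coeff_mul]
    refine Finset.sum_induction _ (fun z => ∃ u : U, z = cK K e * ι u) ?_ ?_ ?_
    · rintro a b ⟨u, rfl⟩ ⟨v, rfl⟩
      exact ⟨u + v, by rw [map_add, mul_add]⟩
    · exact ⟨0, by simp⟩
    · intro x hx
      rw [Finset.HasAntidiagonal.mem_antidiagonal] at hx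
      obtain ⟨u, hu⟩ := hf x.1
      obtain ⟨v, hv⟩ := hg x.2
      refine ⟨(mc x.1 x.2 : U) * u * v, ?_⟩
      rw [hu, hv, ← hx, map_mul, map_mul, map_natCast]
      calc cK K x.1 * ι u * (cK K x.2 * ι v) = (cK K x.1 * cK K x.2) * (ι u * ι v) := by ring
        _ = _ := by rw [cK_mul]; ring
  one_mem' := by
    intro e
    classical
    rw [coeff_one]
    by_cases he : 0 = e
    · subst he; exact ⟨1, by rw [if_pos rfl, cK_zero, map_one, mul_one]⟩
    · exact ⟨0, by rw [if_neg he, map_zero, mul_zero]⟩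
  add_mem' := by
    intro f g hf hg e
    obtain ⟨u, hu⟩ := hf e
    obtain ⟨v, hv⟩ := hg e
    exact ⟨u + v, by rw [coeff_add, hu, hv, map_add, mul_add]⟩
  zero_mem' := by
    intro e; exact ⟨0, by simp⟩
  neg_mem' := by
    intro f hf e
    obtain ⟨u, hu⟩ := hf e
    exact ⟨-u, by rw [coeff_neg, hu, map_neg, mul_neg]⟩

lemma mem_PUsub_iff (f : MvPolynomial (Fin N) K) :
    f ∈ PUsub ι N ↔ ∀ e, ∃ u : U, coeff e f = cK K e * ι u := Iff.rfl

/-- the structure map -/
noncomputable def ιP : U →+* PUsub ι N :=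
  RingHom.codRestrict (C.comp ι) (PUsub ι N) (by
    intro u
    rw [mem_PUsub_iff]
    intro e
    classical
    rw [RingHom.comp_apply, coeff_C]
    by_cases he : 0 = e
    · subst he; exact ⟨u, by rw [if_pos rfl, cK_zero, one_mul]⟩
    · exact ⟨0, by rw [if_neg he, map_zero, mul_zero]⟩)

noncomputable instance : Algebra U (PUsub ι N) := (ιP ι N).toAlgebra

lemma coe_smul (u : U) (f : PUsub ι N) :
    ((u • f : PUsub ι N) : MvPolynomial (Fin N) K) = C (ι u) * f.1 := by
  rw [Algebra.smul_def]; rfl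

/-- divided monomials in the subring -/
noncomputable def tP (e : Fin N →₀ ℕ) : PUsub ι N := ⟨t K e, by
  rw [mem_PUsub_iff]
  intro e'
  classical
  unfold t
  rw [coeff_monomial]
  by_cases he : e = e'
  · subst he; exact ⟨1, by rw [if_pos rfl, map_one, mul_one]⟩
  · exact ⟨0, by rw [if_neg he, map_zero, mul_zero]⟩⟩

lemma coe_tP (e : Fin N →₀ ℕ) : ((tP ι N e : PUsub ι N) : MvPolynomial (Fin N) K) = t K e := rfl

lemma coe_smul_tP (u : U) (e : Fin N →₀ ℕ) :
    ((u • tP ι N e : PUsub ι N) : MvPolynomial (Fin N) K) = monomial e (ι u * cK K e) := by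
  rw [coe_smul, coe_tP]; unfold t; rw [C_mul_monomial]

variable (hι : Function.Injective ι)

include hι in
lemma tP_li : LinearIndependent U (tP ι N) := by
  classical
  rw [linearIndependent_iff']
  intro s g hsum e he
  have h := congrArg (PUsub ι N).subtype hsum
  rw [map_sum, map_zero] at h
  have h2 : ∀ e', (PUsub ι N).subtype (g e' • tP ι N e') = monomial e' (ι (g e') * cK K e') :=
    fun e' => coe_smul_tP ι N (g e') e'
  rw [Finset.sum_congr rfl (fun e' _ => h2 e')] at h
  have h3 := congrArg (coeff e) h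
  rw [coeff_sum, coeff_zero] at h3
  simp only [coeff_monomial] at h3
  rw [Finset.sum_ite_eq' s e, if_pos he] at h3
  have h4 := congrArg (fun z => z * (dfac e : K)) h3
  simp only [zero_mul] at h4
  rw [mul_assoc, mul_comm (cK K e), dfac_mul_cK, mul_one] at h4
  exact hι (by rw [h4, map_zero])

lemma tP_span : ⊤ ≤ Submodule.span U (Set.range (tP ι N)) := by
  intro f _
  have hf2 := (mem_PUsub_iff ι N f.1).mp f.2
  have hf : f = ∑ e ∈ f.1.support, (Classical.choose (hf2 e)) • tP ι N e := by
    apply Subtype.ext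
    have h1 : (PUsub ι N).subtype (∑ e ∈ f.1.support, (Classical.choose (hf2 e)) • tP ι N e) =
        ∑ e ∈ f.1.support, monomial e (coeff e f.1) := by
      rw [map_sum]
      refine Finset.sum_congr rfl (fun e _ => ?_)
      have := coe_smul_tP ι N (Classical.choose (hf2 e)) e
      rw [mul_comm, ← Classical.choose_spec (hf2 e)] at this
      exact this
    rw [support_sum_monomial_coeff] at h1
    exact h1.symm
  rw [hf]
  exact Submodule.sum_mem _ (fun e _ => Submodule.smul_mem _ _ (Submodule.subset_span ⟨e, rfl⟩))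

/-- the basis of divided monomials -/
noncomputable def bU : Module.Basis (Fin N →₀ ℕ) U (PUsub ι N) :=
  Module.Basis.mk (tP_li ι N hι) (tP_span ι N)

lemma bU_apply (e : Fin N →₀ ℕ) : bU ι N hι e = tP ι N e := by
  rw [bU, Module.Basis.mk_apply]

lemma tP_mul (e e' : Fin N →₀ ℕ) :
    tP ι N e * tP ι N e' = ((mc e e' : ℕ) : PUsub ι N) * tP ι N (e + e') := by
  apply Subtype.ext
  rw [Subring.coe_mul, Subring.coe_mul, Subring.coe_natCast, coe_tP, coe_tP, coe_tP, t_mul]

lemma tP_zero : tP ι N 0 = 1 := by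
  apply Subtype.ext
  rw [coe_tP, t_zero]
  rfl

lemma tP_prod (e : Fin N →₀ ℕ) :
    tP ι N e = e.prod (fun i k => tP ι N (Finsupp.single i k)) := by
  induction e using Finsupp.induction with
  | zero => rw [Finsupp.prod_zero_index, tP_zero]
  | single_add i n e' hi hn ih =>
    have hd : Disjoint (Finsupp.single i n).support e'.support := by
      rw [Finsupp.support_single _ hn]
      exact Finset.disjoint_singleton_left.mpr hi
    rw [Finsupp.prod_add_index_of_disjoint hd,
      Finsupp.prod_single_index (by rw [Finsupp.single_zero, tP_zero]), ← ih, tP_mul,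
      mc_single_of_zero i n e' (Finsupp.notMem_support_iff.mp hi), Nat.cast_one, one_mul]

lemma xU_zero (i : Fin N) : tP ι N (Finsupp.single i 0) = 1 := by
  rw [Finsupp.single_zero, tP_zero]

lemma xU_mul (i : Fin N) (n m : ℕ) :
    tP ι N (Finsupp.single i n) * tP ι N (Finsupp.single i m) =
      ((n + m).choose n : PUsub ι N) * tP ι N (Finsupp.single i (n + m)) := by
  rw [tP_mul, mc_single_single, Finsupp.single_add]

/-- cancellation of factorials in the model -/
lemma fac_cancel (n : ℕ) (y y' : PUsub ι N)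
    (h : (n.factorial : PUsub ι N) * y = (n.factorial : PUsub ι N) * y') : y = y' := by
  apply Subtype.ext
  have h1 := congrArg Subtype.val h
  rw [Subring.coe_mul, Subring.coe_mul, Subring.coe_natCast] at h1
  exact (IsUnit.natCast_factorial_of_algebra ℚ n).mul_left_cancel h1

lemma dp_aux (x : PUsub ι N) (hx : x ∈ Iaug (fun i n => tP ι N (Finsupp.single i n))) :
    ∀ n : ℕ, ∃ y : PUsub ι N,
      (n ≠ 0 → y ∈ Iaug (fun i n => tP ι N (Finsupp.single i n))) ∧
      (n.factorial : PUsub ι N) * y = x ^ n := by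
  unfold Iaug at hx
  induction hx using Submodule.span_induction with
  | mem z hz =>
    obtain ⟨i, m, hm, rfl⟩ := hz
    intro n
    refine ⟨(Nat.uniformBell n m : PUsub ι N) * tP ι N (Finsupp.single i (n * m)), ?_, ?_⟩
    · intro hn
      exact Ideal.mul_mem_left _ _ (x_mem _ i (n * m)
        (Nat.one_le_iff_ne_zero.mpr (Nat.mul_ne_zero hn (by omega))))
    · apply Subtype.ext
      rw [Subring.coe_mul, Subring.coe_mul, Subring.coe_natCast, Subring.coe_natCast,
        Subring.coe_pow, coe_tP, coe_tP]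
      unfold t
      rw [monomial_pow, Finsupp.smul_single, smul_eq_mul, natCast_mul_monomial,
        natCast_mul_monomial]
      congr 1
      unfold cK
      rw [dfac_single, dfac_single, ← map_natCast (algebraMap ℚ K),
        ← map_natCast (algebraMap ℚ K) (Nat.uniformBell n m), ← map_mul, ← map_mul, ← map_pow]
      congr 1
      have hub := Nat.uniformBell_mul_eq n (show m ≠ 0 by omega)
      have hub' : ((Nat.uniformBell n m : ℕ) : ℚ) * (m.factorial : ℚ) ^ n * (n.factorial : ℚ) =
          ((n * m).factorial : ℚ) := by exact_mod_cast hub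
      have h1 : (m.factorial : ℚ) ≠ 0 := by exact_mod_cast (Nat.factorial_pos m).ne'
      have h2 : (n.factorial : ℚ) ≠ 0 := by exact_mod_cast (Nat.factorial_pos n).ne'
      have h3 : ((n * m).factorial : ℚ) ≠ 0 := by exact_mod_cast (Nat.factorial_pos (n * m)).ne'
      have h4 : ((Nat.uniformBell n m : ℕ) : ℚ) ≠ 0 := by
        intro h; apply h3; rw [← hub', h]; simp
      rw [← hub']
      field_simp
      rw [one_div, ← mul_pow, mul_inv_cancel₀ h1, one_pow]
  | zero =>
    intro n
    by_cases hn : n = 0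
    · subst hn; exact ⟨1, fun h => absurd rfl h, by simp⟩
    · exact ⟨0, fun _ => zero_mem _, by rw [mul_zero, zero_pow hn]⟩
  | add z w _ _ hz hw =>
    intro n
    choose y hy1 hy2 using hz
    choose y' hy1' hy2' using hw
    refine ⟨∑ k ∈ Finset.HasAntidiagonal.antidiagonal n, y k.1 * y' k.2, ?_, ?_⟩
    · intro hn
      apply Ideal.sum_mem
      intro k hk
      rw [Finset.HasAntidiagonal.mem_antidiagonal] at hk
      by_cases hk1 : k.1 = 0
      · exact Ideal.mul_mem_left _ _ (hy1' k.2 (by omega))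
      · exact Ideal.mul_mem_right _ _ (hy1 k.1 hk1)
    · rw [(Commute.all z w).add_pow', Finset.mul_sum]
      refine Finset.sum_congr rfl (fun k hk => ?_)
      rw [Finset.HasAntidiagonal.mem_antidiagonal] at hk
      rw [← hy2 k.1, ← hy2' k.2, nsmul_eq_mul, ← hk,
        ← choose_fac k.1 k.2]
      push_cast
      ring
  | smul a z _ hz =>
    intro n
    obtain ⟨y, hy1, hy2⟩ := hz n
    refine ⟨a ^ n * y, fun hn => Ideal.mul_mem_left _ _ (hy1 hn), ?_⟩
    rw [smul_eq_mul, mul_pow, ← hy2]
    ring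

theorem exists_dp :
    ∃ hU : DividedPowers (Iaug (fun i n => tP ι N (Finsupp.single i n))), True := by
  classical
  refine ⟨DividedPowers.ofInjective _
    ((Iaug (fun i n => tP ι N (Finsupp.single i n))).map (PUsub ι N).subtype)
    (PUsub ι N).subtype Subtype.val_injective (DividedPowers.RatAlgebra.dividedPowers _) rfl ?_,
    trivial⟩
  intro n x hx
  obtain ⟨y, hy1, hy2⟩ := dp_aux ι N x hx n
  refine ⟨y, hy1, ?_⟩
  rw [DividedPowers.RatAlgebra.dpow_apply, if_pos (Ideal.mem_map_of_mem _ hx)]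
  symm
  rw [Ring.inverse_mul_eq_iff_eq_mul _ _ _ (IsUnit.natCast_factorial_of_algebra ℚ n)]
  have := congrArg (PUsub ι N).subtype hy2
  rw [map_mul, map_pow, map_natCast] at this
  exact this.symm

end Model

end Groth.Agent.H9.DpPoly
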