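import Mathlib
import Groth.Agent.Lib.Helper9.Misc.DpPolyA
import Groth.Agent.Lib.Helper9.Misc.DpPolyB

set_option autoImplicit false
set_option linter.unusedSectionVars false
set_option linter.unusedVariables false

namespace Groth.Agent.H9.DpPoly

universe u v

section Quot
variable {U : Type*} [CommRing U] {K : Type*} [CommRing K] [Algebra ℚ K] (ι : U →+* K)
  (hι : Function.Injective ι)
  {R : Type*} [CommRing R] (φ : U →+* R) (hφ : Function.Surjective φ)
  {N : ℕ} {P : Type*} [CommRing P] [Algebra R P]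
  (x : Fin N → ℕ → P) (hx0 : ∀ i, x i 0 = 1)
  (hxmul : ∀ i n m, x i n * x i m = ((n + m).choose n : P) * x i (n + m))
  (b : Module.Basis (Fin N →₀ ℕ) R P) (hb : ∀ e : Fin N →₀ ℕ, b e = e.prod (fun i k => x i k))

include hι hφ hx0 hxmul hb in
theorem exists_dp_of_model :
    ∃ γ : DividedPowers (Iaug x), ∀ i n, γ.dpow n (x i 1) = x i n := by
  classical
  set xU : Fin N → ℕ → PUsub ι N := fun i n => tP ι N (Finsupp.single i n) with hxU
  have hxU0 : ∀ i, xU i 0 = 1 := fun i => xU_zero ι N i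
  have hxUmul : ∀ i n m, xU i n * xU i m = ((n + m).choose n : PUsub ι N) * xU i (n + m) :=
    fun i n m => xU_mul ι N i n m
  set bU' := bU ι N hι with hbU'
  have hbU : ∀ e : Fin N →₀ ℕ, bU' e = e.prod (fun i k => xU i k) := fun e => by
    rw [hbU', bU_apply]; exact tP_prod ι N e
  obtain ⟨hU, -⟩ := exists_dp ι N
  obtain ⟨Φ, hΦb, hΦsmul, hΦsurj, hΦker⟩ :=
    exists_transfer xU hxU0 hxUmul bU' hbU x hx0 hxmul b hb φ
  have hΦx : ∀ i n, Φ (xU i n) = x i n := by
    intro i n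
    rw [← b_single xU hxU0 bU' hbU, hΦb, b_single x hx0 b hb]
  have hIJ : Iaug x = (Iaug xU).map Φ := by
    unfold Iaug
    rw [Ideal.map_span]
    congr 1
    ext y
    constructor
    · rintro ⟨i, n, hn, rfl⟩; exact ⟨xU i n, ⟨i, n, hn, rfl⟩, hΦx i n⟩
    · rintro ⟨z, ⟨i, n, hn, rfl⟩, rfl⟩; exact ⟨i, n, hn, hΦx i n⟩
  have hdpx : ∀ i n, hU.dpow n (xU i 1) = xU i n := by
    intro i n
    apply fac_cancel ι N n
    rw [hU.factorial_mul_dpow_eq_pow (x_mem xU i 1 le_rfl), x_one_pow xU hxU0 hxUmul]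
  have hIf : hU.IsSubDPIdeal (RingHom.ker Φ ⊓ Iaug xU) := by
    refine ⟨inf_le_right, ?_⟩
    intro n hn j hj
    refine ⟨?_, hU.dpow_mem hn hj.2⟩
    refine SetLike.mem_coe.mpr (RingHom.mem_ker.mpr ?_)
    let T : AddSubmonoid (PUsub ι N) :=
      { carrier := {z | z ∈ Iaug xU ∧ ∀ n, n ≠ 0 → Φ (hU.dpow n z) = 0}
        zero_mem' := ⟨zero_mem _, fun n hn => by rw [hU.dpow_eval_zero hn, map_zero]⟩
        add_mem' := by
          rintro z w ⟨hz, hz'⟩ ⟨hw, hw'⟩
          refine ⟨add_mem hz hw, fun n hn => ?_⟩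
          rw [hU.dpow_add hz hw, map_sum]
          apply Finset.sum_eq_zero
          intro k hk
          rw [Finset.HasAntidiagonal.mem_antidiagonal] at hk
          rw [map_mul]
          by_cases hk1 : k.1 = 0
          · rw [hw' k.2 (by omega), mul_zero]
          · rw [hz' k.1 hk1, zero_mul] }
    have hT : ∀ (u : U) (y : PUsub ι N), φ u = 0 → y ∈ Iaug xU → u • y ∈ T := by
      intro u y hu hy
      refine ⟨?_, fun n hn => ?_⟩
      · rw [Algebra.smul_def]; exact Ideal.mul_mem_left _ _ hy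
      · rw [Algebra.smul_def, hU.dpow_mul hy, ← map_pow, ← Algebra.smul_def, hΦsmul, map_pow, hu,
          zero_pow hn, zero_smul]
    have hj' : j ∈ T := by
      have h := bU'.linearCombination_repr j
      rw [Finsupp.linearCombination_apply, Finsupp.sum] at h
      rw [← h]
      apply AddSubmonoid.sum_mem
      intro e he
      by_cases he0 : e = 0
      · subst he0
        rw [repr_zero_of_mem xU hxU0 hxUmul bU' hbU j hj.2, zero_smul]
        exact T.zero_mem
      · exact hT _ _ ((hΦker j).mp (RingHom.mem_ker.mp hj.1) e) (b_mem xU hxU0 bU' hbU e he0)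
    exact hj'.2 n hn
  refine ⟨DividedPowers.Quotient.OfSurjective.dividedPowers hU (hΦsurj hφ) hIJ hIf, ?_⟩
  intro i n
  rw [← hΦx i 1, DividedPowers.Quotient.OfSurjective.dpow_apply hU (hΦsurj hφ) hIJ hIf
    (x_mem xU i 1 le_rfl), hdpx, hΦx]

end Quot

theorem main (R : Type u) [CommRing R] (N : ℕ)
    (P : Type v) [CommRing P] [Algebra R P] (x : Fin N → ℕ → P)
    (hx0 : ∀ i, x i 0 = 1)
    (hxmul : ∀ i n m, x i n * x i m = ((n + m).choose n : P) * x i (n + m))
    (b : Module.Basis (Fin N →₀ ℕ) R P) (hb : ∀ e : Fin N →₀ ℕ, b e = e.prod (fun i k => x i k)) :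
    ∃! γ : DividedPowers (Ideal.span {y : P | ∃ (i : Fin N) (n : ℕ), 1 ≤ n ∧ y = x i n}),
      ∀ (i : Fin N) (n : ℕ), γ.dpow n (x i 1) = x i n := by
  have hφ : Function.Surjective (MvPolynomial.eval₂Hom (Int.castRingHom R) (id : R → R)) := by
    intro r
    exact ⟨MvPolynomial.X r, by simp⟩
  obtain ⟨γ, hγ⟩ := exists_dp_of_model
    (ι := MvPolynomial.map (σ := R) (Int.castRingHom ℚ))
    (MvPolynomial.map_injective _ Int.cast_injective)
    (MvPolynomial.eval₂Hom (Int.castRingHom R) (id : R → R)) hφ x hx0 hxmul b hb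
  refine ⟨γ, hγ, ?_⟩
  intro γ' hγ'
  have key : ∀ (δ : DividedPowers (Iaug x)), (∀ i n, δ.dpow n (x i 1) = x i n) →
      ∀ i m n, 1 ≤ m → δ.dpow n (x i m) = (Nat.uniformBell n m : P) * x i (n * m) := by
    intro δ hδ i m n hm
    rw [← hδ i m, δ.dpow_comp (by omega) (x_mem x i 1 le_rfl), hδ]
  exact DividedPowers.dpow_eq_from_gens γ γ' rfl (by
    intro n a ha
    obtain ⟨i, m, hm, rfl⟩ := ha
    rw [key γ hγ i m n hm, key γ' hγ' i m n hm])

end Groth.Agent.H9.DpPoly
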