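import Mathlib
import Groth.Agent.Lib.Helper9.Misc.DpPolyA
import Groth.Agent.Lib.Helper9.Misc.DpPolyB
import Groth.Agent.Lib.Helper9.Misc.DpPolyC

set_option autoImplicit false
set_option linter.unusedSectionVars false
set_option linter.unusedVariables false

namespace Groth.Agent.H9.DpPoly

open TensorProduct

universe u

/-- a model of the divided power polynomial algebra exists over any commutative ring -/
theorem exists_model (A : Type u) [CommRing A] (N : ℕ) :
    ∃ (P : Type u) (_ : CommRing P) (_ : Algebra A P) (x : Fin N → ℕ → P)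
      (b : Module.Basis (Fin N →₀ ℕ) A P),
      (∀ i, x i 0 = 1) ∧ (∀ i n m, x i n * x i m = ((n + m).choose n : P) * x i (n + m)) ∧
      (∀ e : Fin N →₀ ℕ, b e = e.prod (fun i k => x i k)) := by
  classical
  let U := MvPolynomial A ℤ
  let K := MvPolynomial A ℚ
  let ι : U →+* K := MvPolynomial.map (Int.castRingHom ℚ)
  have hι : Function.Injective ι := MvPolynomial.map_injective _ Int.cast_injective
  let φ : U →+* A := MvPolynomial.eval₂Hom (Int.castRingHom A) id
  letI : Algebra U A := φ.toAlgebra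
  let inc : PUsub ι N →ₐ[U] A ⊗[U] PUsub ι N := Algebra.TensorProduct.includeRight
  refine ⟨A ⊗[U] PUsub ι N, inferInstance, inferInstance,
    fun i n => inc (tP ι N (Finsupp.single i n)),
    Algebra.TensorProduct.basis A (bU ι N hι), ?_, ?_, ?_⟩
  · intro i; beta_reduce; rw [xU_zero, map_one]
  · intro i n m
    beta_reduce
    rw [← map_mul, xU_mul, map_mul, map_natCast]
  · intro e
    rw [Algebra.TensorProduct.basis_apply, bU_apply, tP_prod]
    show inc (e.prod _) = _
    rw [map_finsuppProd]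

section Gen
variable {A : Type u} [CommRing A] (I : Ideal A) (S : Set A) (hS : Ideal.span S = I)
    (d : ℕ → A → A)
    (h_null : ∀ (n : ℕ) (x : A), x ∉ I → d n x = 0)
    (h_zero : ∀ x ∈ I, d 0 x = 1) (h_one : ∀ x ∈ I, d 1 x = x)
    (h_mem : ∀ (n : ℕ) (x : A), n ≠ 0 → x ∈ I → d n x ∈ I)
    (h_add : ∀ (n : ℕ) (x y : A), x ∈ I → y ∈ I →
      d n (x + y) = (Finset.HasAntidiagonal.antidiagonal n).sum fun k => d k.1 x * d k.2 y)
    (h_mul : ∀ (n : ℕ) (a x : A), x ∈ I → d n (a * x) = a ^ n * d n x)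
    (h_mul_dpow : ∀ (m n : ℕ) (x : A), x ∈ S → d m x * d n x = (m + n).choose m * d (m + n) x)
    (h_comp : ∀ (m n : ℕ) (x : A), n ≠ 0 → x ∈ S →
      d m (d n x) = Nat.uniformBell m n * d (m * n) x)

include hS h_null h_zero h_one h_mem h_add h_mul h_mul_dpow h_comp in
theorem gen_key (x0 : A) (hx0 : x0 ∈ I) :
    (∀ m n, d m x0 * d n x0 = (m + n).choose m * d (m + n) x0) ∧
    (∀ m n, n ≠ 0 → d m (d n x0) = Nat.uniformBell m n * d (m * n) x0) := by
  classical
  rw [← hS] at hx0
  obtain ⟨N, a, g, rfl⟩ := Submodule.mem_span_set'.mp hx0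
  have hsS : ∀ i, (g i : A) ∈ S := fun i => (g i).2
  have hsI : ∀ i, (g i : A) ∈ I := fun i => hS ▸ Ideal.subset_span (g i).2
  obtain ⟨P, _, _, x, b, hx0', hxmul, hb⟩ := exists_model A N
  obtain ⟨δ, hδ, -⟩ := main A N P x hx0' hxmul b hb
  let Ψ₀ : P →ₗ[A] A := b.constr A (fun e => ∏ i, d (e i) (g i))
  have hΨb : ∀ e, Ψ₀ (b e) = ∏ i, d (e i) (g i) := fun e => b.constr_basis A _ e
  have hΨbb : ∀ e e', Ψ₀ (b e * b e') = Ψ₀ (b e) * Ψ₀ (b e') := by
    intro e e'
    rw [b_mul x hx0' hxmul b hb, ← nsmul_eq_mul, map_nsmul, hΨb, hΨb, hΨb, nsmul_eq_mul,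
      ← Finset.prod_mul_distrib]
    unfold mc
    rw [Nat.cast_prod, ← Finset.prod_mul_distrib]
    refine Finset.prod_congr rfl (fun i _ => ?_)
    rw [Finsupp.add_apply, h_mul_dpow _ _ _ (hsS i)]
  have hΨfe : ∀ (f : P) e', Ψ₀ (f * b e') = Ψ₀ f * Ψ₀ (b e') := by
    intro f e'
    have hf : f ∈ Submodule.span A (Set.range b) := by rw [b.span_eq]; exact Submodule.mem_top
    induction hf using Submodule.span_induction with
    | mem z hz => obtain ⟨e, rfl⟩ := hz; exact hΨbb e e'
    | zero => simp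
    | add z w _ _ hz hw => rw [add_mul, map_add, map_add, add_mul, hz, hw]
    | smul c z _ hz => rw [smul_mul_assoc, map_smul, map_smul, hz, smul_mul_assoc]
  have hΨmul : ∀ f g', Ψ₀ (f * g') = Ψ₀ f * Ψ₀ g' := by
    intro f g'
    have hg : g' ∈ Submodule.span A (Set.range b) := by rw [b.span_eq]; exact Submodule.mem_top
    induction hg using Submodule.span_induction with
    | mem z hz => obtain ⟨e, rfl⟩ := hz; exact hΨfe f e
    | zero => simp
    | add z w _ _ hz hw => rw [mul_add, map_add, map_add, mul_add, hz, hw]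
    | smul c z _ hz => rw [mul_smul_comm, map_smul, map_smul, hz, mul_smul_comm]
  have hΨone : Ψ₀ 1 = 1 := by
    rw [← b_zero x hx0' b hb, hΨb]
    apply Finset.prod_eq_one
    intro i _
    rw [Finsupp.zero_apply, h_zero _ (hsI i)]
  let Ψ : P →+* A :=
    { toFun := Ψ₀
      map_one' := hΨone
      map_mul' := hΨmul
      map_zero' := map_zero _
      map_add' := map_add _ }
  have hΨx : ∀ i n, Ψ (x i n) = d n (g i) := by
    intro i n
    show Ψ₀ (x i n) = _
    rw [← b_single x hx0' b hb, hΨb, Finset.prod_eq_single i]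
    · rw [Finsupp.single_eq_same]
    · intro j _ hj
      rw [Finsupp.single_apply, if_neg (fun h => hj h.symm), h_zero _ (hsI j)]
    · intro h; exact absurd (Finset.mem_univ i) h
  have hΨsmul : ∀ (c : A) f, Ψ (c • f) = c * Ψ f := fun c f => by
    show Ψ₀ (c • f) = _
    rw [map_smul, smul_eq_mul]; rfl
  have hΨI : ∀ y ∈ Iaug x, Ψ y ∈ I := by
    intro y hy
    have : Iaug x ≤ I.comap Ψ := by
      unfold Iaug
      rw [Ideal.span_le]
      rintro _ ⟨i, n, hn, rfl⟩
      show Ψ (x i n) ∈ I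
      rw [hΨx]; exact h_mem n _ (by omega) (hsI i)
    exact this hy
  have hd0 : ∀ n, n ≠ 0 → d n 0 = 0 := by
    intro n hn
    have := h_mul n 0 0 I.zero_mem
    rw [mul_zero, zero_pow hn, zero_mul] at this
    exact this
  have hδx : ∀ i m n, 1 ≤ m → δ.dpow n (x i m) = (Nat.uniformBell n m : P) * x i (n * m) := by
    intro i m n hm
    rw [← hδ i m, δ.dpow_comp (by omega) (x_mem x i 1 le_rfl), hδ]
  have hcompat : ∀ y ∈ Iaug x, ∀ n, Ψ (δ.dpow n y) = d n (Ψ y) := by
    intro y hy
    unfold Iaug at hy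
    induction hy using Submodule.span_induction with
    | mem z hz =>
      obtain ⟨i, m, hm, rfl⟩ := hz
      intro n
      rw [hδx i m n hm, map_mul, map_natCast, hΨx, hΨx, h_comp n m _ (by omega) (hsS i)]
    | zero =>
      intro n
      by_cases hn : n = 0
      · subst hn; rw [δ.dpow_zero (zero_mem _), map_one, map_zero, h_zero 0 I.zero_mem]
      · rw [δ.dpow_eval_zero hn, map_zero, hd0 n hn]
    | add z w hz hw ihz ihw =>
      intro n
      have hzI : z ∈ Iaug x := hz
      have hwI : w ∈ Iaug x := hw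
      rw [δ.dpow_add hzI hwI, map_sum, map_add, h_add n _ _ (hΨI z hzI) (hΨI w hwI)]
      refine Finset.sum_congr rfl (fun k _ => ?_)
      rw [map_mul, ihz, ihw]
    | smul c z hz ihz =>
      intro n
      have hzI : z ∈ Iaug x := hz
      rw [smul_eq_mul, δ.dpow_mul hzI, map_mul, map_pow, ihz, map_mul, h_mul n _ _ (hΨI z hzI)]
  let y0 : P := ∑ i, a i • x i 1
  have hy0 : y0 ∈ Iaug x :=
    Ideal.sum_mem _ (fun i _ => Submodule.smul_of_tower_mem _ (a i) (x_mem x i 1 le_rfl))
  have hΨy0 : Ψ y0 = ∑ i, a i • (g i : A) := by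
    show Ψ (∑ i, a i • x i 1) = _
    rw [map_sum]
    refine Finset.sum_congr rfl (fun i _ => ?_)
    rw [hΨsmul, hΨx, h_one _ (hsI i), smul_eq_mul]
  rw [← hΨy0]
  constructor
  · intro m n
    rw [← hcompat y0 hy0 m, ← hcompat y0 hy0 n, ← hcompat y0 hy0 (m + n), ← map_mul,
      δ.mul_dpow hy0, map_mul, map_natCast]
  · intro m n hn
    rw [← hcompat y0 hy0 n, ← hcompat _ (δ.dpow_mem hn hy0) m, δ.dpow_comp hn hy0, map_mul,
      map_natCast, hcompat y0 hy0]

include hS h_null h_zero h_one h_mem h_add h_mul h_mul_dpow h_comp in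
theorem of_generators : ∃ γ : DividedPowers I, γ.dpow = d := by
  have key := gen_key I S hS d h_null h_zero h_one h_mem h_add h_mul h_mul_dpow h_comp
  exact ⟨{ dpow := d
           dpow_null := fun {n x} hx => h_null n x hx
           dpow_zero := fun {x} hx => h_zero x hx
           dpow_one := fun {x} hx => h_one x hx
           dpow_mem := fun {n x} hn hx => h_mem n x hn hx
           dpow_add := fun {n x y} hx hy => h_add n x y hx hy
           dpow_mul := fun {n a x} hx => h_mul n a x hx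
           mul_dpow := fun {m n x} hx => (key x hx).1 m n
           dpow_comp := fun {m n x} hn hx => (key x hx).2 m n hn }, rfl⟩

end Gen

end Groth.Agent.H9.DpPoly
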