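import Mathlib.RingTheory.DividedPowers.Padic
import Mathlib.RingTheory.DividedPowers.SubDPIdeal
import Mathlib.RingTheory.DividedPowers.DPMorphism
import Mathlib.RingTheory.DividedPowers.RatAlgebra
import Mathlib.RingTheory.TensorProduct.Free
import Mathlib.Algebra.MvPolynomial.Eval
import Mathlib.LinearAlgebra.Finsupp.LinearCombination
import Mathlib.Tactic

/-! Slim-import copy of `DpPolyA/B/C` and `DpGenA` (namespace `Groth.Agent.H9.DpS`), so that
statements mentioning `Finset.antidiagonal` still elaborate (no `MulAntidiagonal` in the closure). -/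

set_option autoImplicit false
set_option linter.unusedSectionVars false
set_option linter.unusedVariables false


-- ===== from DpPolyA =====
namespace Groth.Agent.H9.DpS

/-- multinomial-type coefficient -/
def mc {N : ℕ} (e e' : Fin N →₀ ℕ) : ℕ := ∏ i : Fin N, (e i + e' i).choose (e i)

section Abstract
variable {R : Type*} [CommRing R] {N : ℕ} {P : Type*} [CommRing P] [Algebra R P]
  (x : Fin N → ℕ → P) (hx0 : ∀ i, x i 0 = 1)
  (hxmul : ∀ i n m, x i n * x i m = ((n + m).choose n : P) * x i (n + m))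
  (b : Module.Basis (Fin N →₀ ℕ) R P) (hb : ∀ e : Fin N →₀ ℕ, b e = e.prod (fun i k => x i k))

include hx0 hb in
lemma b_eq_prod (e : Fin N →₀ ℕ) : b e = ∏ i : Fin N, x i (e i) := by
  rw [hb, Finsupp.prod_fintype]
  intro i; exact hx0 i

include hx0 hb in
lemma b_zero : b 0 = 1 := by
  rw [b_eq_prod x hx0 b hb]; simp [hx0]

include hx0 hb in
lemma b_single (i : Fin N) (n : ℕ) : b (Finsupp.single i n) = x i n := by
  rw [hb, Finsupp.prod_single_index (hx0 i)]

include hx0 hxmul hb in
lemma b_mul (e e' : Fin N →₀ ℕ) : b e * b e' = (mc e e' : P) * b (e + e') := by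
  rw [b_eq_prod x hx0 b hb, b_eq_prod x hx0 b hb, b_eq_prod x hx0 b hb, ← Finset.prod_mul_distrib]
  unfold mc
  rw [Nat.cast_prod, ← Finset.prod_mul_distrib]
  refine Finset.prod_congr rfl (fun i _ => ?_)
  rw [hxmul, Finsupp.add_apply]

/-- the augmentation ideal -/
def Iaug : Ideal P := Ideal.span {y : P | ∃ (i : Fin N) (n : ℕ), 1 ≤ n ∧ y = x i n}

lemma x_mem (i : Fin N) (n : ℕ) (hn : 1 ≤ n) : x i n ∈ Iaug x :=
  Ideal.subset_span ⟨i, n, hn, rfl⟩

include hx0 hb in
lemma b_mem (e : Fin N →₀ ℕ) (he : e ≠ 0) : b e ∈ Iaug x := by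
  obtain ⟨i, hi⟩ : ∃ i, e i ≠ 0 := by
    by_contra h
    push Not at h
    exact he (Finsupp.ext h)
  rw [b_eq_prod x hx0 b hb]
  exact Ideal.mem_of_dvd _ (Finset.dvd_prod_of_mem (fun j => x j (e j)) (Finset.mem_univ i))
    (x_mem x i (e i) (Nat.one_le_iff_ne_zero.mpr hi))

include hx0 hxmul hb in
lemma repr_mul_b_zero (a : P) (s : Fin N →₀ ℕ) (hs : s ≠ 0) : b.repr (a * b s) 0 = 0 := by
  have key : ((Finsupp.lapply (0 : Fin N →₀ ℕ)).comp
      (b.repr.toLinearMap.comp (LinearMap.mulRight R (b s)))) = 0 := by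
    apply b.ext
    intro e
    simp only [LinearMap.comp_apply, LinearMap.mulRight_apply, LinearEquiv.coe_coe,
      Finsupp.lapply_apply, LinearMap.zero_apply]
    rw [b_mul x hx0 hxmul b hb, ← nsmul_eq_mul, map_nsmul, Finsupp.smul_apply, b.repr_self,
      Finsupp.single_apply, if_neg, smul_zero]
    intro h
    apply hs
    ext i
    have h1 := DFunLike.congr_fun h i
    simp only [Finsupp.add_apply, Finsupp.zero_apply] at h1 ⊢
    omega
  have := congrArg (fun f => f a) key
  simpa using this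

include hx0 hxmul hb in
lemma repr_zero_of_mem (y : P) (hy : y ∈ Iaug x) : b.repr y 0 = 0 := by
  have h : ∀ a : P, b.repr (a * y) 0 = 0 := by
    unfold Iaug at hy
    induction hy using Submodule.span_induction with
    | mem z hz =>
      obtain ⟨i, n, hn, rfl⟩ := hz
      intro a
      rw [← b_single x hx0 b hb i n]
      apply repr_mul_b_zero x hx0 hxmul b hb
      intro h0
      have := DFunLike.congr_fun h0 i
      simp at this
      omega
    | zero => intro a; simp
    | add z w _ _ hz hw => intro a; rw [mul_add, map_add, Finsupp.add_apply, hz, hw, add_zero]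
    | smul c z _ hz => intro a; rw [smul_eq_mul, ← mul_assoc]; exact hz (a * c)
  simpa using h 1

include hx0 hxmul in
lemma x_one_pow (i : Fin N) (n : ℕ) : x i 1 ^ n = (n.factorial : P) * x i n := by
  induction n with
  | zero => simp [hx0]
  | succ n ih =>
    rw [pow_succ, ih, mul_assoc, hxmul, Nat.choose_succ_self_right, Nat.factorial_succ]
    push_cast
    ring

end Abstract

section Transfer
variable {U : Type*} [CommRing U] {R : Type*} [CommRing R] {N : ℕ}
  {PU : Type*} [CommRing PU] [Algebra U PU] {P : Type*} [CommRing P] [Algebra R P]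
  (xU : Fin N → ℕ → PU) (hxU0 : ∀ i, xU i 0 = 1)
  (hxUmul : ∀ i n m, xU i n * xU i m = ((n + m).choose n : PU) * xU i (n + m))
  (bU : Module.Basis (Fin N →₀ ℕ) U PU)
  (hbU : ∀ e : Fin N →₀ ℕ, bU e = e.prod (fun i k => xU i k))
  (x : Fin N → ℕ → P) (hx0 : ∀ i, x i 0 = 1)
  (hxmul : ∀ i n m, x i n * x i m = ((n + m).choose n : P) * x i (n + m))
  (b : Module.Basis (Fin N →₀ ℕ) R P) (hb : ∀ e : Fin N →₀ ℕ, b e = e.prod (fun i k => x i k))
  (φ : U →+* R)

/-- the additive transfer map -/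
noncomputable def Φ₀ : PU →+ P where
  toFun f := b.repr.symm (Finsupp.mapRange φ (map_zero φ) (bU.repr f))
  map_zero' := by simp
  map_add' f g := by
    rw [map_add, Finsupp.mapRange_add (fun a b => map_add φ a b), map_add]

lemma Φ₀_apply (f : PU) :
    Φ₀ bU b φ f = b.repr.symm (Finsupp.mapRange φ (map_zero φ) (bU.repr f)) := rfl

lemma Φ₀_smul_b (u : U) (e : Fin N →₀ ℕ) : Φ₀ bU b φ (u • bU e) = φ u • b e := by
  rw [Φ₀_apply, map_smul, bU.repr_self, Finsupp.smul_single, smul_eq_mul, mul_one,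
    Finsupp.mapRange_single, b.repr_symm_single]

lemma Φ₀_b (e : Fin N →₀ ℕ) : Φ₀ bU b φ (bU e) = b e := by
  have := Φ₀_smul_b bU b φ 1 e
  rwa [one_smul, map_one, one_smul] at this

lemma Φ₀_smul (u : U) (f : PU) : Φ₀ bU b φ (u • f) = φ u • Φ₀ bU b φ f := by
  rw [Φ₀_apply, Φ₀_apply, map_smul]
  have : Finsupp.mapRange φ (map_zero φ) (u • bU.repr f) =
      φ u • Finsupp.mapRange φ (map_zero φ) (bU.repr f) := by
    ext e; simp
  rw [this, map_smul]

include hxU0 hxUmul hbU hx0 hxmul hb in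
lemma Φ₀_mul (f g : PU) : Φ₀ bU b φ (f * g) = Φ₀ bU b φ f * Φ₀ bU b φ g := by
  have hbb : ∀ e e', Φ₀ bU b φ (bU e * bU e') = Φ₀ bU b φ (bU e) * Φ₀ bU b φ (bU e') := by
    intro e e'
    rw [Φ₀_b, Φ₀_b, b_mul xU hxU0 hxUmul bU hbU, b_mul x hx0 hxmul b hb]
    have h2 : ((mc e e' : ℕ) : PU) * bU (e + e') = ((mc e e' : ℕ) : U) • bU (e + e') := by
      rw [Algebra.smul_def, map_natCast]
    rw [h2, Φ₀_smul_b, map_natCast, Algebra.smul_def, map_natCast]
  have hfe : ∀ (f : PU) e', Φ₀ bU b φ (f * bU e') = Φ₀ bU b φ f * Φ₀ bU b φ (bU e') := by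
    intro f e'
    have hf : f ∈ Submodule.span U (Set.range bU) := by rw [bU.span_eq]; exact Submodule.mem_top
    induction hf using Submodule.span_induction with
    | mem z hz => obtain ⟨e, rfl⟩ := hz; exact hbb e e'
    | zero => simp
    | add z w _ _ hz hw => rw [add_mul, map_add, map_add, add_mul, hz, hw]
    | smul c z _ hz => rw [smul_mul_assoc, Φ₀_smul, Φ₀_smul, hz, smul_mul_assoc]
  have hg : g ∈ Submodule.span U (Set.range bU) := by rw [bU.span_eq]; exact Submodule.mem_top
  induction hg using Submodule.span_induction with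
  | mem z hz => obtain ⟨e, rfl⟩ := hz; exact hfe f e
  | zero => simp
  | add z w _ _ hz hw => rw [mul_add, map_add, map_add, mul_add, hz, hw]
  | smul c z _ hz => rw [mul_smul_comm, Φ₀_smul, Φ₀_smul, hz, mul_smul_comm]

include hxU0 hxUmul hbU hx0 hxmul hb in
theorem exists_transfer : ∃ Φ : PU →+* P, (∀ e, Φ (bU e) = b e) ∧
    (∀ u f, Φ (u • f) = φ u • Φ f) ∧
    (Function.Surjective φ → Function.Surjective Φ) ∧
    (∀ f, Φ f = 0 ↔ ∀ e, φ (bU.repr f e) = 0) := by
  refine ⟨{ toFun := Φ₀ bU b φ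
            map_one' := ?_
            map_mul' := Φ₀_mul xU hxU0 hxUmul bU hbU x hx0 hxmul b hb φ
            map_zero' := map_zero _
            map_add' := map_add _ }, ?_, ?_, ?_, ?_⟩
  · show Φ₀ bU b φ 1 = 1
    rw [← b_zero xU hxU0 bU hbU, Φ₀_b, b_zero x hx0 b hb]
  · intro e
    exact Φ₀_b bU b φ e
  · intro u f
    exact Φ₀_smul bU b φ u f
  · intro hφ p
    obtain ⟨v, hv⟩ := Finsupp.mapRange_surjective φ (map_zero φ) hφ (b.repr p)
    refine ⟨bU.repr.symm v, ?_⟩
    show Φ₀ bU b φ (bU.repr.symm v) = p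
    rw [Φ₀_apply, LinearEquiv.apply_symm_apply, hv, LinearEquiv.symm_apply_apply]
  · intro f
    show Φ₀ bU b φ f = 0 ↔ _
    rw [Φ₀_apply, LinearEquiv.map_eq_zero_iff, DFunLike.ext_iff]
    simp

end Transfer

end Groth.Agent.H9.DpS


-- ===== from DpPolyB =====
namespace Groth.Agent.H9.DpS

open MvPolynomial

lemma choose_fac (a b : ℕ) : (a + b).choose a * a.factorial * b.factorial = (a + b).factorial := by
  rw [Nat.add_comm a b, ← Nat.add_choose_mul_factorial_mul_factorial b a]; ring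

/-- `∏ (e i)!` -/
def dfac {N : ℕ} (e : Fin N →₀ ℕ) : ℕ := ∏ i : Fin N, (e i).factorial

lemma dfac_pos {N : ℕ} (e : Fin N →₀ ℕ) : 0 < dfac e :=
  Finset.prod_pos (fun i _ => Nat.factorial_pos _)

lemma dfac_add {N : ℕ} (e e' : Fin N →₀ ℕ) : dfac (e + e') = mc e e' * dfac e * dfac e' := by
  unfold dfac mc
  rw [← Finset.prod_mul_distrib, ← Finset.prod_mul_distrib]
  refine Finset.prod_congr rfl (fun i _ => ?_)
  rw [Finsupp.add_apply, choose_fac]

lemma dfac_zero {N : ℕ} : dfac (0 : Fin N →₀ ℕ) = 1 := by simp [dfac]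

lemma dfac_single {N : ℕ} (i : Fin N) (n : ℕ) : dfac (Finsupp.single i n) = n.factorial := by
  unfold dfac
  rw [Finset.prod_eq_single i]
  · rw [Finsupp.single_eq_same]
  · intro j _ hj
    rw [Finsupp.single_apply, if_neg (fun h => hj h.symm), Nat.factorial_zero]
  · intro h; exact absurd (Finset.mem_univ i) h

lemma mc_single_single {N : ℕ} (i : Fin N) (n m : ℕ) :
    mc (Finsupp.single i n) (Finsupp.single i m) = (n + m).choose n := by
  unfold mc
  rw [Finset.prod_eq_single i]
  · rw [Finsupp.single_eq_same, Finsupp.single_eq_same]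
  · intro j _ hj
    rw [Finsupp.single_apply, if_neg (fun h => hj h.symm), Finsupp.single_apply,
      if_neg (fun h => hj h.symm)]
    rfl
  · intro h; exact absurd (Finset.mem_univ i) h

lemma mc_single_of_zero {N : ℕ} (i : Fin N) (n : ℕ) (e' : Fin N →₀ ℕ) (h : e' i = 0) :
    mc (Finsupp.single i n) e' = 1 := by
  unfold mc
  apply Finset.prod_eq_one
  intro j _
  by_cases hj : i = j
  · subst hj; rw [Finsupp.single_eq_same, h, add_zero, Nat.choose_self]
  · rw [Finsupp.single_apply, if_neg hj, zero_add, Nat.choose_zero_right]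

section Model
variable {U : Type*} [CommRing U] (K : Type*) [CommRing K] [Algebra ℚ K]

/-- `1 / ∏ (e i)!` in `K` -/
noncomputable def cK {N : ℕ} (e : Fin N →₀ ℕ) : K := algebraMap ℚ K ((dfac e : ℚ)⁻¹)

lemma cK_mul {N : ℕ} (e e' : Fin N →₀ ℕ) : cK K e * cK K e' = (mc e e' : K) * cK K (e + e') := by
  unfold cK
  rw [← map_mul, ← map_natCast (algebraMap ℚ K) (mc e e'), ← map_mul]
  congr 1
  have h1 : (dfac e : ℚ) ≠ 0 := by exact_mod_cast (dfac_pos e).ne'
  have h2 : (dfac e' : ℚ) ≠ 0 := by exact_mod_cast (dfac_pos e').ne'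
  have h3 : (mc e e' : ℚ) ≠ 0 := by
    intro h
    have h4 : mc e e' = 0 := by exact_mod_cast h
    have := dfac_pos (e + e')
    rw [dfac_add, h4] at this
    simp at this
  rw [dfac_add]
  push_cast
  field_simp

lemma dfac_mul_cK {N : ℕ} (e : Fin N →₀ ℕ) : (dfac e : K) * cK K e = 1 := by
  unfold cK
  rw [← map_natCast (algebraMap ℚ K), ← map_mul, mul_inv_cancel₀, map_one]
  exact_mod_cast (dfac_pos e).ne'

lemma cK_zero {N : ℕ} : cK K (0 : Fin N →₀ ℕ) = 1 := by simp [cK, dfac_zero]

/-- the divided monomials -/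
noncomputable def t {N : ℕ} (e : Fin N →₀ ℕ) : MvPolynomial (Fin N) K := monomial e (cK K e)

lemma natCast_mul_monomial {N : ℕ} (k : ℕ) (e : Fin N →₀ ℕ) (a : K) :
    (k : MvPolynomial (Fin N) K) * monomial e a = monomial e ((k : K) * a) := by
  rw [← map_natCast (C : K →+* MvPolynomial (Fin N) K), C_mul_monomial]

lemma t_mul {N : ℕ} (e e' : Fin N →₀ ℕ) :
    t K e * t K e' = (mc e e' : MvPolynomial (Fin N) K) * t K (e + e') := by
  unfold t
  rw [monomial_mul, cK_mul, natCast_mul_monomial]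

lemma t_zero {N : ℕ} : t K (0 : Fin N →₀ ℕ) = 1 := by
  unfold t
  rw [cK_zero]
  rfl

variable {K} (ι : U →+* K) (N : ℕ)

/-- the divided power polynomial algebra over `U` as a subring of `K[X]` -/
def PUsub : Subring (MvPolynomial (Fin N) K) where
  carrier := {f | ∀ e, ∃ u : U, coeff e f = cK K e * ι u}
  mul_mem' := by
    intro f g hf hg e
    classical
    rw [coeff_mul]
    refine Finset.sum_induction _ (fun z => ∃ u : U, z = cK K e * ι u) ?_ ?_ ?_
    · rintro a b ⟨u, rfl⟩ ⟨v, rfl⟩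
      exact ⟨u + v, by rw [map_add, mul_add]⟩
    · exact ⟨0, by simp⟩
    · intro x hx
      rw [Finset.HasAntidiagonal.mem_antidiagonal] at hx
      obtain ⟨u, hu⟩ := hf x.1
      obtain ⟨v, hv⟩ := hg x.2
      refine ⟨(mc x.1 x.2 : U) * u * v, ?_⟩
      rw [hu, hv, ← hx, map_mul, map_mul, map_natCast]
      calc cK K x.1 * ι u * (cK K x.2 * ι v) = (cK K x.1 * cK K x.2) * (ι u * ι v) := by ring
        _ = _ := by rw [cK_mul]; ring
  one_mem' := by
    intro e
    classical
    rw [coeff_one]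
    by_cases he : 0 = e
    · subst he; exact ⟨1, by rw [if_pos rfl, cK_zero, map_one, mul_one]⟩
    · exact ⟨0, by rw [if_neg he, map_zero, mul_zero]⟩
  add_mem' := by
    intro f g hf hg e
    obtain ⟨u, hu⟩ := hf e
    obtain ⟨v, hv⟩ := hg e
    exact ⟨u + v, by rw [coeff_add, hu, hv, map_add, mul_add]⟩
  zero_mem' := by
    intro e; exact ⟨0, by simp⟩
  neg_mem' := by
    intro f hf e
    obtain ⟨u, hu⟩ := hf e
    exact ⟨-u, by rw [coeff_neg, hu, map_neg, mul_neg]⟩

lemma mem_PUsub_iff (f : MvPolynomial (Fin N) K) :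
    f ∈ PUsub ι N ↔ ∀ e, ∃ u : U, coeff e f = cK K e * ι u := Iff.rfl

/-- the structure map -/
noncomputable def ιP : U →+* PUsub ι N :=
  RingHom.codRestrict (C.comp ι) (PUsub ι N) (by
    intro u
    rw [mem_PUsub_iff]
    intro e
    classical
    rw [RingHom.comp_apply, coeff_C]
    by_cases he : 0 = e
    · subst he; exact ⟨u, by rw [if_pos rfl, cK_zero, one_mul]⟩
    · exact ⟨0, by rw [if_neg he, map_zero, mul_zero]⟩)

noncomputable instance : Algebra U (PUsub ι N) := (ιP ι N).toAlgebra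

lemma coe_smul (u : U) (f : PUsub ι N) :
    ((u • f : PUsub ι N) : MvPolynomial (Fin N) K) = C (ι u) * f.1 := by
  rw [Algebra.smul_def]; rfl

/-- divided monomials in the subring -/
noncomputable def tP (e : Fin N →₀ ℕ) : PUsub ι N := ⟨t K e, by
  rw [mem_PUsub_iff]
  intro e'
  classical
  unfold t
  rw [coeff_monomial]
  by_cases he : e = e'
  · subst he; exact ⟨1, by rw [if_pos rfl, map_one, mul_one]⟩
  · exact ⟨0, by rw [if_neg he, map_zero, mul_zero]⟩⟩

lemma coe_tP (e : Fin N →₀ ℕ) : ((tP ι N e : PUsub ι N) : MvPolynomial (Fin N) K) = t K e := rfl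

lemma coe_smul_tP (u : U) (e : Fin N →₀ ℕ) :
    ((u • tP ι N e : PUsub ι N) : MvPolynomial (Fin N) K) = monomial e (ι u * cK K e) := by
  rw [coe_smul, coe_tP]; unfold t; rw [C_mul_monomial]

variable (hι : Function.Injective ι)

include hι in
lemma tP_li : LinearIndependent U (tP ι N) := by
  classical
  rw [linearIndependent_iff']
  intro s g hsum e he
  have h := congrArg (PUsub ι N).subtype hsum
  rw [map_sum, map_zero] at h
  have h2 : ∀ e', (PUsub ι N).subtype (g e' • tP ι N e') = monomial e' (ι (g e') * cK K e') :=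
    fun e' => coe_smul_tP ι N (g e') e'
  rw [Finset.sum_congr rfl (fun e' _ => h2 e')] at h
  have h3 := congrArg (coeff e) h
  rw [coeff_sum, coeff_zero] at h3
  simp only [coeff_monomial] at h3
  rw [Finset.sum_ite_eq' s e, if_pos he] at h3
  have h4 := congrArg (fun z => z * (dfac e : K)) h3
  simp only [zero_mul] at h4
  rw [mul_assoc, mul_comm (cK K e), dfac_mul_cK, mul_one] at h4
  exact hι (by rw [h4, map_zero])

lemma tP_span : ⊤ ≤ Submodule.span U (Set.range (tP ι N)) := by
  intro f _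
  have hf2 := (mem_PUsub_iff ι N f.1).mp f.2
  have hf : f = ∑ e ∈ f.1.support, (Classical.choose (hf2 e)) • tP ι N e := by
    apply Subtype.ext
    have h1 : (PUsub ι N).subtype (∑ e ∈ f.1.support, (Classical.choose (hf2 e)) • tP ι N e) =
        ∑ e ∈ f.1.support, monomial e (coeff e f.1) := by
      rw [map_sum]
      refine Finset.sum_congr rfl (fun e _ => ?_)
      have := coe_smul_tP ι N (Classical.choose (hf2 e)) e
      rw [mul_comm, ← Classical.choose_spec (hf2 e)] at this
      exact this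
    rw [support_sum_monomial_coeff] at h1
    exact h1.symm
  rw [hf]
  exact Submodule.sum_mem _ (fun e _ => Submodule.smul_mem _ _ (Submodule.subset_span ⟨e, rfl⟩))

/-- the basis of divided monomials -/
noncomputable def bU : Module.Basis (Fin N →₀ ℕ) U (PUsub ι N) :=
  Module.Basis.mk (tP_li ι N hι) (tP_span ι N)

lemma bU_apply (e : Fin N →₀ ℕ) : bU ι N hι e = tP ι N e := by
  rw [bU, Module.Basis.mk_apply]

lemma tP_mul (e e' : Fin N →₀ ℕ) :
    tP ι N e * tP ι N e' = ((mc e e' : ℕ) : PUsub ι N) * tP ι N (e + e') := by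
  apply Subtype.ext
  rw [Subring.coe_mul, Subring.coe_mul, Subring.coe_natCast, coe_tP, coe_tP, coe_tP, t_mul]

lemma tP_zero : tP ι N 0 = 1 := by
  apply Subtype.ext
  rw [coe_tP, t_zero]
  rfl

lemma tP_prod (e : Fin N →₀ ℕ) :
    tP ι N e = e.prod (fun i k => tP ι N (Finsupp.single i k)) := by
  induction e using Finsupp.induction with
  | zero => rw [Finsupp.prod_zero_index, tP_zero]
  | single_add i n e' hi hn ih =>
    have hd : Disjoint (Finsupp.single i n).support e'.support := by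
      rw [Finsupp.support_single _ hn]
      exact Finset.disjoint_singleton_left.mpr hi
    rw [Finsupp.prod_add_index_of_disjoint hd,
      Finsupp.prod_single_index (by rw [Finsupp.single_zero, tP_zero]), ← ih, tP_mul,
      mc_single_of_zero i n e' (Finsupp.notMem_support_iff.mp hi), Nat.cast_one, one_mul]

lemma xU_zero (i : Fin N) : tP ι N (Finsupp.single i 0) = 1 := by
  rw [Finsupp.single_zero, tP_zero]

lemma xU_mul (i : Fin N) (n m : ℕ) :
    tP ι N (Finsupp.single i n) * tP ι N (Finsupp.single i m) =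
      ((n + m).choose n : PUsub ι N) * tP ι N (Finsupp.single i (n + m)) := by
  rw [tP_mul, mc_single_single, Finsupp.single_add]

/-- cancellation of factorials in the model -/
lemma fac_cancel (n : ℕ) (y y' : PUsub ι N)
    (h : (n.factorial : PUsub ι N) * y = (n.factorial : PUsub ι N) * y') : y = y' := by
  apply Subtype.ext
  have h1 := congrArg Subtype.val h
  rw [Subring.coe_mul, Subring.coe_mul, Subring.coe_natCast] at h1
  exact (IsUnit.natCast_factorial_of_algebra ℚ n).mul_left_cancel h1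

lemma dp_aux (x : PUsub ι N) (hx : x ∈ Iaug (fun i n => tP ι N (Finsupp.single i n))) :
    ∀ n : ℕ, ∃ y : PUsub ι N,
      (n ≠ 0 → y ∈ Iaug (fun i n => tP ι N (Finsupp.single i n))) ∧
      (n.factorial : PUsub ι N) * y = x ^ n := by
  unfold Iaug at hx
  induction hx using Submodule.span_induction with
  | mem z hz =>
    obtain ⟨i, m, hm, rfl⟩ := hz
    intro n
    refine ⟨(Nat.uniformBell n m : PUsub ι N) * tP ι N (Finsupp.single i (n * m)), ?_, ?_⟩
    · intro hn
      exact Ideal.mul_mem_left _ _ (x_mem _ i (n * m)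
        (Nat.one_le_iff_ne_zero.mpr (Nat.mul_ne_zero hn (by omega))))
    · apply Subtype.ext
      rw [Subring.coe_mul, Subring.coe_mul, Subring.coe_natCast, Subring.coe_natCast,
        Subring.coe_pow, coe_tP, coe_tP]
      unfold t
      rw [monomial_pow, Finsupp.smul_single, smul_eq_mul, natCast_mul_monomial,
        natCast_mul_monomial]
      congr 1
      unfold cK
      rw [dfac_single, dfac_single, ← map_natCast (algebraMap ℚ K),
        ← map_natCast (algebraMap ℚ K) (Nat.uniformBell n m), ← map_mul, ← map_mul, ← map_pow]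
      congr 1
      have hub := Nat.uniformBell_mul_eq n (show m ≠ 0 by omega)
      have hub' : ((Nat.uniformBell n m : ℕ) : ℚ) * (m.factorial : ℚ) ^ n * (n.factorial : ℚ) =
          ((n * m).factorial : ℚ) := by exact_mod_cast hub
      have h1 : (m.factorial : ℚ) ≠ 0 := by exact_mod_cast (Nat.factorial_pos m).ne'
      have h2 : (n.factorial : ℚ) ≠ 0 := by exact_mod_cast (Nat.factorial_pos n).ne'
      have h3 : ((n * m).factorial : ℚ) ≠ 0 := by exact_mod_cast (Nat.factorial_pos (n * m)).ne'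
      have h4 : ((Nat.uniformBell n m : ℕ) : ℚ) ≠ 0 := by
        intro h; apply h3; rw [← hub', h]; simp
      rw [← hub']
      field_simp
      rw [one_div, ← mul_pow, mul_inv_cancel₀ h1, one_pow]
  | zero =>
    intro n
    by_cases hn : n = 0
    · subst hn; exact ⟨1, fun h => absurd rfl h, by simp⟩
    · exact ⟨0, fun _ => zero_mem _, by rw [mul_zero, zero_pow hn]⟩
  | add z w _ _ hz hw =>
    intro n
    choose y hy1 hy2 using hz
    choose y' hy1' hy2' using hw
    refine ⟨∑ k ∈ Finset.HasAntidiagonal.antidiagonal n, y k.1 * y' k.2, ?_, ?_⟩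
    · intro hn
      apply Ideal.sum_mem
      intro k hk
      rw [Finset.HasAntidiagonal.mem_antidiagonal] at hk
      by_cases hk1 : k.1 = 0
      · exact Ideal.mul_mem_left _ _ (hy1' k.2 (by omega))
      · exact Ideal.mul_mem_right _ _ (hy1 k.1 hk1)
    · rw [(Commute.all z w).add_pow', Finset.mul_sum]
      refine Finset.sum_congr rfl (fun k hk => ?_)
      rw [Finset.HasAntidiagonal.mem_antidiagonal] at hk
      rw [← hy2 k.1, ← hy2' k.2, nsmul_eq_mul, ← hk,
        ← choose_fac k.1 k.2]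
      push_cast
      ring
  | smul a z _ hz =>
    intro n
    obtain ⟨y, hy1, hy2⟩ := hz n
    refine ⟨a ^ n * y, fun hn => Ideal.mul_mem_left _ _ (hy1 hn), ?_⟩
    rw [smul_eq_mul, mul_pow, ← hy2]
    ring

theorem exists_dp :
    ∃ hU : DividedPowers (Iaug (fun i n => tP ι N (Finsupp.single i n))), True := by
  classical
  refine ⟨DividedPowers.ofInjective _
    ((Iaug (fun i n => tP ι N (Finsupp.single i n))).map (PUsub ι N).subtype)
    (PUsub ι N).subtype Subtype.val_injective (DividedPowers.RatAlgebra.dividedPowers _) rfl ?_,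
    trivial⟩
  intro n x hx
  obtain ⟨y, hy1, hy2⟩ := dp_aux ι N x hx n
  refine ⟨y, hy1, ?_⟩
  rw [DividedPowers.RatAlgebra.dpow_apply, if_pos (Ideal.mem_map_of_mem _ hx)]
  symm
  rw [Ring.inverse_mul_eq_iff_eq_mul _ _ _ (IsUnit.natCast_factorial_of_algebra ℚ n)]
  have := congrArg (PUsub ι N).subtype hy2
  rw [map_mul, map_pow, map_natCast] at this
  exact this.symm

end Model

end Groth.Agent.H9.DpS


-- ===== from DpPolyC =====
namespace Groth.Agent.H9.DpS

universe u v

section Quot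
variable {U : Type*} [CommRing U] {K : Type*} [CommRing K] [Algebra ℚ K] (ι : U →+* K)
  (hι : Function.Injective ι)
  {R : Type*} [CommRing R] (φ : U →+* R) (hφ : Function.Surjective φ)
  {N : ℕ} {P : Type*} [CommRing P] [Algebra R P]
  (x : Fin N → ℕ → P) (hx0 : ∀ i, x i 0 = 1)
  (hxmul : ∀ i n m, x i n * x i m = ((n + m).choose n : P) * x i (n + m))
  (b : Module.Basis (Fin N →₀ ℕ) R P) (hb : ∀ e : Fin N →₀ ℕ, b e = e.prod (fun i k => x i k))

include hι hφ hx0 hxmul hb in
theorem exists_dp_of_model :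
    ∃ γ : DividedPowers (Iaug x), ∀ i n, γ.dpow n (x i 1) = x i n := by
  classical
  set xU : Fin N → ℕ → PUsub ι N := fun i n => tP ι N (Finsupp.single i n) with hxU
  have hxU0 : ∀ i, xU i 0 = 1 := fun i => xU_zero ι N i
  have hxUmul : ∀ i n m, xU i n * xU i m = ((n + m).choose n : PUsub ι N) * xU i (n + m) :=
    fun i n m => xU_mul ι N i n m
  set bU' := bU ι N hι with hbU'
  have hbU : ∀ e : Fin N →₀ ℕ, bU' e = e.prod (fun i k => xU i k) := fun e => by
    rw [hbU', bU_apply]; exact tP_prod ι N e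
  obtain ⟨hU, -⟩ := exists_dp ι N
  obtain ⟨Φ, hΦb, hΦsmul, hΦsurj, hΦker⟩ :=
    exists_transfer xU hxU0 hxUmul bU' hbU x hx0 hxmul b hb φ
  have hΦx : ∀ i n, Φ (xU i n) = x i n := by
    intro i n
    rw [← b_single xU hxU0 bU' hbU, hΦb, b_single x hx0 b hb]
  have hIJ : Iaug x = (Iaug xU).map Φ := by
    unfold Iaug
    rw [Ideal.map_span]
    congr 1
    ext y
    constructor
    · rintro ⟨i, n, hn, rfl⟩; exact ⟨xU i n, ⟨i, n, hn, rfl⟩, hΦx i n⟩
    · rintro ⟨z, ⟨i, n, hn, rfl⟩, rfl⟩; exact ⟨i, n, hn, hΦx i n⟩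
  have hdpx : ∀ i n, hU.dpow n (xU i 1) = xU i n := by
    intro i n
    apply fac_cancel ι N n
    rw [hU.factorial_mul_dpow_eq_pow (x_mem xU i 1 le_rfl), x_one_pow xU hxU0 hxUmul]
  have hIf : hU.IsSubDPIdeal (RingHom.ker Φ ⊓ Iaug xU) := by
    refine ⟨inf_le_right, ?_⟩
    intro n hn j hj
    refine ⟨?_, hU.dpow_mem hn hj.2⟩
    refine SetLike.mem_coe.mpr (RingHom.mem_ker.mpr ?_)
    let T : AddSubmonoid (PUsub ι N) :=
      { carrier := {z | z ∈ Iaug xU ∧ ∀ n, n ≠ 0 → Φ (hU.dpow n z) = 0}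
        zero_mem' := ⟨zero_mem _, fun n hn => by rw [hU.dpow_eval_zero hn, map_zero]⟩
        add_mem' := by
          rintro z w ⟨hz, hz'⟩ ⟨hw, hw'⟩
          refine ⟨add_mem hz hw, fun n hn => ?_⟩
          rw [hU.dpow_add hz hw, map_sum]
          apply Finset.sum_eq_zero
          intro k hk
          rw [Finset.HasAntidiagonal.mem_antidiagonal] at hk
          rw [map_mul]
          by_cases hk1 : k.1 = 0
          · rw [hw' k.2 (by omega), mul_zero]
          · rw [hz' k.1 hk1, zero_mul] }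
    have hT : ∀ (u : U) (y : PUsub ι N), φ u = 0 → y ∈ Iaug xU → u • y ∈ T := by
      intro u y hu hy
      refine ⟨?_, fun n hn => ?_⟩
      · rw [Algebra.smul_def]; exact Ideal.mul_mem_left _ _ hy
      · rw [Algebra.smul_def, hU.dpow_mul hy, ← map_pow, ← Algebra.smul_def, hΦsmul, map_pow, hu,
          zero_pow hn, zero_smul]
    have hj' : j ∈ T := by
      have h := bU'.linearCombination_repr j
      rw [Finsupp.linearCombination_apply, Finsupp.sum] at h
      rw [← h]
      apply AddSubmonoid.sum_mem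
      intro e he
      by_cases he0 : e = 0
      · subst he0
        rw [repr_zero_of_mem xU hxU0 hxUmul bU' hbU j hj.2, zero_smul]
        exact T.zero_mem
      · exact hT _ _ ((hΦker j).mp (RingHom.mem_ker.mp hj.1) e) (b_mem xU hxU0 bU' hbU e he0)
    exact hj'.2 n hn
  refine ⟨DividedPowers.Quotient.OfSurjective.dividedPowers hU (hΦsurj hφ) hIJ hIf, ?_⟩
  intro i n
  rw [← hΦx i 1, DividedPowers.Quotient.OfSurjective.dpow_apply hU (hΦsurj hφ) hIJ hIf
    (x_mem xU i 1 le_rfl), hdpx, hΦx]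

end Quot

theorem main (R : Type u) [CommRing R] (N : ℕ)
    (P : Type v) [CommRing P] [Algebra R P] (x : Fin N → ℕ → P)
    (hx0 : ∀ i, x i 0 = 1)
    (hxmul : ∀ i n m, x i n * x i m = ((n + m).choose n : P) * x i (n + m))
    (b : Module.Basis (Fin N →₀ ℕ) R P) (hb : ∀ e : Fin N →₀ ℕ, b e = e.prod (fun i k => x i k)) :
    ∃! γ : DividedPowers (Ideal.span {y : P | ∃ (i : Fin N) (n : ℕ), 1 ≤ n ∧ y = x i n}),
      ∀ (i : Fin N) (n : ℕ), γ.dpow n (x i 1) = x i n := by
  have hφ : Function.Surjective (MvPolynomial.eval₂Hom (Int.castRingHom R) (id : R → R)) := by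
    intro r
    exact ⟨MvPolynomial.X r, by simp⟩
  obtain ⟨γ, hγ⟩ := exists_dp_of_model
    (ι := MvPolynomial.map (σ := R) (Int.castRingHom ℚ))
    (MvPolynomial.map_injective _ Int.cast_injective)
    (MvPolynomial.eval₂Hom (Int.castRingHom R) (id : R → R)) hφ x hx0 hxmul b hb
  refine ⟨γ, hγ, ?_⟩
  intro γ' hγ'
  have key : ∀ (δ : DividedPowers (Iaug x)), (∀ i n, δ.dpow n (x i 1) = x i n) →
      ∀ i m n, 1 ≤ m → δ.dpow n (x i m) = (Nat.uniformBell n m : P) * x i (n * m) := by
    intro δ hδ i m n hm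
    rw [← hδ i m, δ.dpow_comp (by omega) (x_mem x i 1 le_rfl), hδ]
  exact DividedPowers.dpow_eq_from_gens γ γ' rfl (by
    intro n a ha
    obtain ⟨i, m, hm, rfl⟩ := ha
    rw [key γ hγ i m n hm, key γ' hγ' i m n hm])

end Groth.Agent.H9.DpS


-- ===== from DpGenA =====
namespace Groth.Agent.H9.DpS

open TensorProduct

universe u

/-- a model of the divided power polynomial algebra exists over any commutative ring -/
theorem exists_model (A : Type u) [CommRing A] (N : ℕ) :
    ∃ (P : Type u) (_ : CommRing P) (_ : Algebra A P) (x : Fin N → ℕ → P)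
      (b : Module.Basis (Fin N →₀ ℕ) A P),
      (∀ i, x i 0 = 1) ∧ (∀ i n m, x i n * x i m = ((n + m).choose n : P) * x i (n + m)) ∧
      (∀ e : Fin N →₀ ℕ, b e = e.prod (fun i k => x i k)) := by
  classical
  let U := MvPolynomial A ℤ
  let K := MvPolynomial A ℚ
  let ι : U →+* K := MvPolynomial.map (Int.castRingHom ℚ)
  have hι : Function.Injective ι := MvPolynomial.map_injective _ Int.cast_injective
  let φ : U →+* A := MvPolynomial.eval₂Hom (Int.castRingHom A) id
  letI : Algebra U A := φ.toAlgebra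
  let inc : PUsub ι N →ₐ[U] A ⊗[U] PUsub ι N := Algebra.TensorProduct.includeRight
  refine ⟨A ⊗[U] PUsub ι N, inferInstance, inferInstance,
    fun i n => inc (tP ι N (Finsupp.single i n)),
    Algebra.TensorProduct.basis A (bU ι N hι), ?_, ?_, ?_⟩
  · intro i; beta_reduce; rw [xU_zero, map_one]
  · intro i n m
    beta_reduce
    rw [← map_mul, xU_mul, map_mul, map_natCast]
  · intro e
    rw [Algebra.TensorProduct.basis_apply, bU_apply, tP_prod]
    show inc (e.prod _) = _
    rw [map_finsuppProd]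

section Gen
variable {A : Type u} [CommRing A] (I : Ideal A) (S : Set A) (hS : Ideal.span S = I)
    (d : ℕ → A → A)
    (h_null : ∀ (n : ℕ) (x : A), x ∉ I → d n x = 0)
    (h_zero : ∀ x ∈ I, d 0 x = 1) (h_one : ∀ x ∈ I, d 1 x = x)
    (h_mem : ∀ (n : ℕ) (x : A), n ≠ 0 → x ∈ I → d n x ∈ I)
    (h_add : ∀ (n : ℕ) (x y : A), x ∈ I → y ∈ I →
      d n (x + y) = (Finset.HasAntidiagonal.antidiagonal n).sum fun k => d k.1 x * d k.2 y)
    (h_mul : ∀ (n : ℕ) (a x : A), x ∈ I → d n (a * x) = a ^ n * d n x)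
    (h_mul_dpow : ∀ (m n : ℕ) (x : A), x ∈ S → d m x * d n x = (m + n).choose m * d (m + n) x)
    (h_comp : ∀ (m n : ℕ) (x : A), n ≠ 0 → x ∈ S →
      d m (d n x) = Nat.uniformBell m n * d (m * n) x)

include hS h_null h_zero h_one h_mem h_add h_mul h_mul_dpow h_comp in
theorem gen_key (x0 : A) (hx0 : x0 ∈ I) :
    (∀ m n, d m x0 * d n x0 = (m + n).choose m * d (m + n) x0) ∧
    (∀ m n, n ≠ 0 → d m (d n x0) = Nat.uniformBell m n * d (m * n) x0) := by
  classical
  rw [← hS] at hx0
  obtain ⟨N, a, g, rfl⟩ := Submodule.mem_span_set'.mp hx0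
  have hsS : ∀ i, (g i : A) ∈ S := fun i => (g i).2
  have hsI : ∀ i, (g i : A) ∈ I := fun i => hS ▸ Ideal.subset_span (g i).2
  obtain ⟨P, _, _, x, b, hx0', hxmul, hb⟩ := exists_model A N
  obtain ⟨δ, hδ, -⟩ := main A N P x hx0' hxmul b hb
  let Ψ₀ : P →ₗ[A] A := b.constr A (fun e => ∏ i, d (e i) (g i))
  have hΨb : ∀ e, Ψ₀ (b e) = ∏ i, d (e i) (g i) := fun e => b.constr_basis A _ e
  have hΨbb : ∀ e e', Ψ₀ (b e * b e') = Ψ₀ (b e) * Ψ₀ (b e') := by
    intro e e'
    rw [b_mul x hx0' hxmul b hb, ← nsmul_eq_mul, map_nsmul, hΨb, hΨb, hΨb, nsmul_eq_mul,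
      ← Finset.prod_mul_distrib]
    unfold mc
    rw [Nat.cast_prod, ← Finset.prod_mul_distrib]
    refine Finset.prod_congr rfl (fun i _ => ?_)
    rw [Finsupp.add_apply, h_mul_dpow _ _ _ (hsS i)]
  have hΨfe : ∀ (f : P) e', Ψ₀ (f * b e') = Ψ₀ f * Ψ₀ (b e') := by
    intro f e'
    have hf : f ∈ Submodule.span A (Set.range b) := by rw [b.span_eq]; exact Submodule.mem_top
    induction hf using Submodule.span_induction with
    | mem z hz => obtain ⟨e, rfl⟩ := hz; exact hΨbb e e'
    | zero => simp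
    | add z w _ _ hz hw => rw [add_mul, map_add, map_add, add_mul, hz, hw]
    | smul c z _ hz => rw [smul_mul_assoc, map_smul, map_smul, hz, smul_mul_assoc]
  have hΨmul : ∀ f g', Ψ₀ (f * g') = Ψ₀ f * Ψ₀ g' := by
    intro f g'
    have hg : g' ∈ Submodule.span A (Set.range b) := by rw [b.span_eq]; exact Submodule.mem_top
    induction hg using Submodule.span_induction with
    | mem z hz => obtain ⟨e, rfl⟩ := hz; exact hΨfe f e
    | zero => simp
    | add z w _ _ hz hw => rw [mul_add, map_add, map_add, mul_add, hz, hw]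
    | smul c z _ hz => rw [mul_smul_comm, map_smul, map_smul, hz, mul_smul_comm]
  have hΨone : Ψ₀ 1 = 1 := by
    rw [← b_zero x hx0' b hb, hΨb]
    apply Finset.prod_eq_one
    intro i _
    rw [Finsupp.zero_apply, h_zero _ (hsI i)]
  let Ψ : P →+* A :=
    { toFun := Ψ₀
      map_one' := hΨone
      map_mul' := hΨmul
      map_zero' := map_zero _
      map_add' := map_add _ }
  have hΨx : ∀ i n, Ψ (x i n) = d n (g i) := by
    intro i n
    show Ψ₀ (x i n) = _
    rw [← b_single x hx0' b hb, hΨb, Finset.prod_eq_single i]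
    · rw [Finsupp.single_eq_same]
    · intro j _ hj
      rw [Finsupp.single_apply, if_neg (fun h => hj h.symm), h_zero _ (hsI j)]
    · intro h; exact absurd (Finset.mem_univ i) h
  have hΨsmul : ∀ (c : A) f, Ψ (c • f) = c * Ψ f := fun c f => by
    show Ψ₀ (c • f) = _
    rw [map_smul, smul_eq_mul]; rfl
  have hΨI : ∀ y ∈ Iaug x, Ψ y ∈ I := by
    intro y hy
    have : Iaug x ≤ I.comap Ψ := by
      unfold Iaug
      rw [Ideal.span_le]
      rintro _ ⟨i, n, hn, rfl⟩
      show Ψ (x i n) ∈ I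
      rw [hΨx]; exact h_mem n _ (by omega) (hsI i)
    exact this hy
  have hd0 : ∀ n, n ≠ 0 → d n 0 = 0 := by
    intro n hn
    have := h_mul n 0 0 I.zero_mem
    rw [mul_zero, zero_pow hn, zero_mul] at this
    exact this
  have hδx : ∀ i m n, 1 ≤ m → δ.dpow n (x i m) = (Nat.uniformBell n m : P) * x i (n * m) := by
    intro i m n hm
    rw [← hδ i m, δ.dpow_comp (by omega) (x_mem x i 1 le_rfl), hδ]
  have hcompat : ∀ y ∈ Iaug x, ∀ n, Ψ (δ.dpow n y) = d n (Ψ y) := by
    intro y hy
    unfold Iaug at hy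
    induction hy using Submodule.span_induction with
    | mem z hz =>
      obtain ⟨i, m, hm, rfl⟩ := hz
      intro n
      rw [hδx i m n hm, map_mul, map_natCast, hΨx, hΨx, h_comp n m _ (by omega) (hsS i)]
    | zero =>
      intro n
      by_cases hn : n = 0
      · subst hn; rw [δ.dpow_zero (zero_mem _), map_one, map_zero, h_zero 0 I.zero_mem]
      · rw [δ.dpow_eval_zero hn, map_zero, hd0 n hn]
    | add z w hz hw ihz ihw =>
      intro n
      have hzI : z ∈ Iaug x := hz
      have hwI : w ∈ Iaug x := hw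
      rw [δ.dpow_add hzI hwI, map_sum, map_add, h_add n _ _ (hΨI z hzI) (hΨI w hwI)]
      refine Finset.sum_congr rfl (fun k _ => ?_)
      rw [map_mul, ihz, ihw]
    | smul c z hz ihz =>
      intro n
      have hzI : z ∈ Iaug x := hz
      rw [smul_eq_mul, δ.dpow_mul hzI, map_mul, map_pow, ihz, map_mul, h_mul n _ _ (hΨI z hzI)]
  let y0 : P := ∑ i, a i • x i 1
  have hy0 : y0 ∈ Iaug x :=
    Ideal.sum_mem _ (fun i _ => Submodule.smul_of_tower_mem _ (a i) (x_mem x i 1 le_rfl))
  have hΨy0 : Ψ y0 = ∑ i, a i • (g i : A) := by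
    show Ψ (∑ i, a i • x i 1) = _
    rw [map_sum]
    refine Finset.sum_congr rfl (fun i _ => ?_)
    rw [hΨsmul, hΨx, h_one _ (hsI i), smul_eq_mul]
  rw [← hΨy0]
  constructor
  · intro m n
    rw [← hcompat y0 hy0 m, ← hcompat y0 hy0 n, ← hcompat y0 hy0 (m + n), ← map_mul,
      δ.mul_dpow hy0, map_mul, map_natCast]
  · intro m n hn
    rw [← hcompat y0 hy0 n, ← hcompat _ (δ.dpow_mem hn hy0) m, δ.dpow_comp hn hy0, map_mul,
      map_natCast, hcompat y0 hy0]

include hS h_null h_zero h_one h_mem h_add h_mul h_mul_dpow h_comp in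
theorem of_generators : ∃ γ : DividedPowers I, γ.dpow = d := by
  have key := gen_key I S hS d h_null h_zero h_one h_mem h_add h_mul h_mul_dpow h_comp
  exact ⟨{ dpow := d
           dpow_null := fun {n x} hx => h_null n x hx
           dpow_zero := fun {x} hx => h_zero x hx
           dpow_one := fun {x} hx => h_one x hx
           dpow_mem := fun {n x} hn hx => h_mem n x hn hx
           dpow_add := fun {n x y} hx hy => h_add n x y hx hy
           dpow_mul := fun {n a x} hx => h_mul n a x hx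
           mul_dpow := fun {m n x} hx => (key x hx).1 m n
           dpow_comp := fun {m n x} hn hx => (key x hx).2 m n hn }, rfl⟩

end Gen

end Groth.Agent.H9.DpS

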