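import Groth.Agent.Lib.Helper9.Misc.DpSlimA
import Groth.Agent.Lib.Helper9.Misc.DpBaseA

set_option autoImplicit false
set_option linter.unusedSectionVars false
set_option linter.unusedVariables false

namespace Groth.Agent.H9.DpS

universe u

theorem dp_poly_univ {A : Type u} [CommRing A] {I : Ideal A} (γ : DividedPowers I) (t : ℕ) :
    ∃ (D : Type u) (_ : CommRing D) (_ : Algebra A D) (J : Ideal D) (δ : DividedPowers J)
      (x : Fin t → D), (∀ i, x i ∈ J) ∧ γ.IsDPMorphism δ (algebraMap A D) ∧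
      ∀ (C : Type u) [CommRing C] [Algebra A C] (K : Ideal C) (ε : DividedPowers K),
        γ.IsDPMorphism ε (algebraMap A C) → ∀ k : Fin t → C, (∀ i, k i ∈ K) →
          ∃! φ : D →ₐ[A] C, (∀ i, φ (x i) = k i) ∧ δ.IsDPMorphism ε φ.toRingHom := by
  classical
  obtain ⟨P, _, _, X, b, hX0, hXmul, hb⟩ := exists_model A t
  obtain ⟨δp, hδp, -⟩ := main A t P X hX0 hXmul b hb
  obtain ⟨δ, ⟨hmor, hres⟩, -⟩ := dp_base_sum A γ (Fin t) P X hX0 hXmul b hb δp
  have hXmem : ∀ i n, 1 ≤ n → X i n ∈ Ideal.span {y : P | ∃ (l : Fin t) (n : ℕ), 1 ≤ n ∧ y = X l n} :=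
    fun i n hn => Ideal.subset_span ⟨i, n, hn, rfl⟩
  have hδX : ∀ i m n, 1 ≤ m → δ.dpow n (X i m) = (Nat.uniformBell n m : P) * X i (n * m) := by
    intro i m n hm
    rw [hres n _ (hXmem i m hm), ← hδp i m, δp.dpow_comp (by omega) (hXmem i 1 le_rfl), hδp]
  have hδX1 : ∀ i n, δ.dpow n (X i 1) = X i n := by
    intro i n
    rw [hres n _ (hXmem i 1 le_rfl), hδp]
  refine ⟨P, inferInstance, inferInstance, _, δ, fun i => X i 1,
    fun i => Ideal.mem_sup_right (hXmem i 1 le_rfl), hmor, ?_⟩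
  intro C _ _ K ε hε k hk
  -- the map
  let Ψ₀ : P →ₗ[A] C := b.constr A (fun e => ∏ i, ε.dpow (e i) (k i))
  have hΨb : ∀ e, Ψ₀ (b e) = ∏ i, ε.dpow (e i) (k i) := fun e => b.constr_basis A _ e
  have hΨbb : ∀ e e', Ψ₀ (b e * b e') = Ψ₀ (b e) * Ψ₀ (b e') := by
    intro e e'
    rw [b_mul X hX0 hXmul b hb, ← nsmul_eq_mul, map_nsmul, hΨb, hΨb, hΨb, nsmul_eq_mul,
      ← Finset.prod_mul_distrib]
    unfold mc
    rw [Nat.cast_prod, ← Finset.prod_mul_distrib]
    refine Finset.prod_congr rfl (fun i _ => ?_)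
    rw [Finsupp.add_apply, ε.mul_dpow (hk i)]
  have hΨfe : ∀ (f : P) e', Ψ₀ (f * b e') = Ψ₀ f * Ψ₀ (b e') := by
    intro f e'
    have hf : f ∈ Submodule.span A (Set.range b) := by rw [b.span_eq]; exact Submodule.mem_top
    induction hf using Submodule.span_induction with
    | mem z hz => obtain ⟨e, rfl⟩ := hz; exact hΨbb e e'
    | zero => simp
    | add z w _ _ hz hw => rw [add_mul, map_add, map_add, add_mul, hz, hw]
    | smul c z _ hz => rw [smul_mul_assoc, map_smul, map_smul, hz, smul_mul_assoc]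
  have hΨmul : ∀ f g', Ψ₀ (f * g') = Ψ₀ f * Ψ₀ g' := by
    intro f g'
    have hg : g' ∈ Submodule.span A (Set.range b) := by rw [b.span_eq]; exact Submodule.mem_top
    induction hg using Submodule.span_induction with
    | mem z hz => obtain ⟨e, rfl⟩ := hz; exact hΨfe f e
    | zero => simp
    | add z w _ _ hz hw => rw [mul_add, map_add, map_add, mul_add, hz, hw]
    | smul c z _ hz => rw [mul_smul_comm, map_smul, map_smul, hz, mul_smul_comm]
  have hΨone : Ψ₀ 1 = 1 := by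
    rw [← b_zero X hX0 b hb, hΨb]
    apply Finset.prod_eq_one
    intro i _
    rw [Finsupp.zero_apply, ε.dpow_zero (hk i)]
  let Ψ : P →ₐ[A] C := AlgHom.ofLinearMap Ψ₀ hΨone hΨmul
  have hΨX : ∀ i n, Ψ (X i n) = ε.dpow n (k i) := by
    intro i n
    show Ψ₀ (X i n) = _
    rw [← b_single X hX0 b hb, hΨb, Finset.prod_eq_single i]
    · rw [Finsupp.single_eq_same]
    · intro j _ hj
      rw [Finsupp.single_apply, if_neg (fun h => hj h.symm), ε.dpow_zero (hk j)]
    · intro h; exact absurd (Finset.mem_univ i) h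
  have hS : I.map (algebraMap A P) ⊔
      Ideal.span {y : P | ∃ (l : Fin t) (n : ℕ), 1 ≤ n ∧ y = X l n} =
      Ideal.span ((algebraMap A P) '' (I : Set A) ∪
        {y : P | ∃ (l : Fin t) (n : ℕ), 1 ≤ n ∧ y = X l n}) := by
    rw [Ideal.span_union]; rfl
  have hΨmor : δ.IsDPMorphism ε Ψ.toRingHom := by
    apply DividedPowers.IsDPMorphism.on_span δ ε hS
    · intro s hs
      rcases hs with hs | hs
      · obtain ⟨a, ha, rfl⟩ := hs
        show Ψ (algebraMap A P a) ∈ K
        rw [AlgHom.commutes]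
        exact hε.1 (Ideal.mem_map_of_mem _ ha)
      · obtain ⟨i, n, hn, rfl⟩ := hs
        show Ψ (X i n) ∈ K
        rw [hΨX]
        exact ε.dpow_mem (by omega) (hk i)
    · intro n s hs
      rcases hs with hs | hs
      · obtain ⟨a, ha, rfl⟩ := hs
        show Ψ (δ.dpow n (algebraMap A P a)) = ε.dpow n (Ψ (algebraMap A P a))
        rw [hmor.2 a ha, AlgHom.commutes, AlgHom.commutes, hε.2 a ha]
      · obtain ⟨i, m, hm, rfl⟩ := hs
        show Ψ (δ.dpow n (X i m)) = ε.dpow n (Ψ (X i m))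
        rw [hδX i m n hm, map_mul, map_natCast, hΨX, hΨX, ε.dpow_comp (by omega) (hk i)]
  refine ⟨Ψ, ⟨fun i => ?_, hΨmor⟩, ?_⟩
  · show Ψ (X i 1) = k i
    rw [hΨX, ε.dpow_one (hk i)]
  · rintro φ' ⟨hφ'x, hφ'mor⟩
    have hφ'X : ∀ i n, φ' (X i n) = ε.dpow n (k i) := by
      intro i n
      rw [← hδX1 i n]
      have := hφ'mor.2 (X i 1) (Ideal.mem_sup_right (hXmem i 1 le_rfl)) (n := n)
      rw [← hφ'x i]
      exact this.symm
    have hlin : φ'.toLinearMap = Ψ.toLinearMap := by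
      apply b.ext
      intro e
      show φ' (b e) = Ψ₀ (b e)
      rw [hΨb, b_eq_prod X hX0 b hb, map_prod]
      refine Finset.prod_congr rfl (fun i _ => ?_)
      rw [hφ'X]
    ext y
    exact congrArg (fun f => f y) hlin

end Groth.Agent.H9.DpS
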