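import Mathlib

/-! Helper9: freeness over dual numbers (S14033). -/

namespace Groth.Agent.H9.DualFree
open DualNumber TrivSqZeroExt Pointwise

universe u v

variable (R : Type u) [CommRing R]

lemma decomp (x : R[ε]) : x = algebraMap R R[ε] x.fst + ε * algebraMap R R[ε] x.snd := by
  ext <;> simp [TrivSqZeroExt.algebraMap_eq_inl]

lemma eps_mul_eps' : (ε : R[ε]) * ε = 0 := DualNumber.eps_mul_eps

variable (M : Type v) [AddCommGroup M] [Module R[ε] M] [Module R M] [IsScalarTower R R[ε] M]

/-- the submodule `εM` -/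
abbrev E : Submodule R[ε] M := (ε : R[ε]) • (⊤ : Submodule R[ε] M)

lemma mem_E {m : M} : m ∈ E R M ↔ ∃ m' : M, (ε : R[ε]) • m' = m := by
  rw [Submodule.mem_smul_pointwise_iff_exists]
  simp

lemma eps_smul_mem (m : M) : (ε : R[ε]) • m ∈ E R M := (mem_E R M).2 ⟨m, rfl⟩

lemma eps_smul_of_mem {m : M} (hm : m ∈ E R M) : (ε : R[ε]) • m = 0 := by
  obtain ⟨m', rfl⟩ := (mem_E R M).1 hm
  rw [← mul_smul, eps_mul_eps', zero_smul]

lemma smul_def (a : R) (m : M) : a • m = algebraMap R R[ε] a • m := (algebraMap_smul R[ε] a m).symm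

section fwd
variable {R M}
variable {r : ℕ} (b : Module.Basis (Fin r) R[ε] M)

lemma sum_eq_iff (c c' : Fin r → R[ε]) : ∑ i, c i • b i = ∑ i, c' i • b i ↔ c = c' := by
  rw [← b.equivFun_symm_apply, ← b.equivFun_symm_apply]
  exact b.equivFun.symm.injective.eq_iff

lemma exists_coeff (m : M) : ∃ a c : Fin r → R,
    m = ∑ i, (algebraMap R R[ε] (a i) + ε * algebraMap R R[ε] (c i)) • b i := by
  refine ⟨fun i => (b.equivFun m i).fst, fun i => (b.equivFun m i).snd, ?_⟩
  conv_lhs => rw [← b.sum_equivFun m]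
  exact Finset.sum_congr rfl fun i _ => by rw [← decomp]

include b in
theorem basisQuot : Nonempty (Module.Basis (Fin r) R (M ⧸ E R M)) := by
  refine ⟨Module.Basis.mk (v := fun i => (E R M).mkQ (b i)) ?_ ?_⟩
  · rw [Fintype.linearIndependent_iff]
    intro g hg i
    have h1 : (E R M).mkQ (∑ j, algebraMap R R[ε] (g j) • b j) = 0 := by
      rw [map_sum, ← hg]
      exact Finset.sum_congr rfl fun j _ => by rw [map_smul, ← smul_def]
    rw [Submodule.mkQ_apply, Submodule.Quotient.mk_eq_zero, mem_E] at h1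
    obtain ⟨m', hm'⟩ := h1
    have h2 : ∑ j, ((ε : R[ε]) * b.equivFun m' j) • b j = ∑ j, algebraMap R R[ε] (g j) • b j := by
      rw [← hm']
      conv_rhs => rw [← b.sum_equivFun m', Finset.smul_sum]
      exact Finset.sum_congr rfl fun j _ => by rw [mul_smul]
    have h3 := congrFun ((sum_eq_iff b _ _).1 h2) i
    have h4 := congrArg TrivSqZeroExt.fst h3
    simpa [TrivSqZeroExt.algebraMap_eq_inl] using h4.symm
  · rintro y -
    obtain ⟨m, rfl⟩ := Submodule.mkQ_surjective _ y
    obtain ⟨a, c, rfl⟩ := exists_coeff b m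
    rw [map_sum]
    refine Submodule.sum_mem _ fun i _ => ?_
    rw [add_smul, map_add, mul_smul]
    have h0 : (E R M).mkQ ((ε : R[ε]) • (algebraMap R R[ε] (c i) • b i)) = 0 := by
      rw [Submodule.mkQ_apply, Submodule.Quotient.mk_eq_zero]
      exact eps_smul_mem R M _
    rw [h0, add_zero, map_smul, ← smul_def]
    exact Submodule.smul_mem _ _ (Submodule.subset_span ⟨i, rfl⟩)

include b in
theorem basisE : Nonempty (Module.Basis (Fin r) R ((E R M).restrictScalars R)) := by
  refine ⟨Module.Basis.mk (v := fun i => (⟨(ε : R[ε]) • b i, eps_smul_mem R M _⟩ :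
    (E R M).restrictScalars R)) ?_ ?_⟩
  · rw [Fintype.linearIndependent_iff]
    intro g hg i
    have h1 := congrArg Subtype.val hg
    simp only [Submodule.coe_sum, Submodule.coe_smul, Submodule.coe_zero] at h1
    have h2 : ∑ j, (algebraMap R R[ε] (g j) * ε) • b j = ∑ j, (0 : R[ε]) • b j := by
      simp only [zero_smul, Finset.sum_const_zero]
      rw [← h1]
      exact Finset.sum_congr rfl fun j _ => by rw [mul_smul, ← smul_def]
    have h3 := congrFun ((sum_eq_iff b _ _).1 h2) i
    have h4 := congrArg TrivSqZeroExt.snd h3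
    simpa [TrivSqZeroExt.algebraMap_eq_inl] using h4
  · rintro ⟨y, hy⟩ -
    obtain ⟨m, rfl⟩ := (mem_E R M).1 hy
    obtain ⟨a, c, rfl⟩ := exists_coeff b m
    have e : (⟨(ε : R[ε]) • ∑ i, (algebraMap R R[ε] (a i) + ε * algebraMap R R[ε] (c i)) • b i, hy⟩ :
        (E R M).restrictScalars R) = ∑ i, a i • (⟨(ε : R[ε]) • b i, eps_smul_mem R M _⟩ :
          (E R M).restrictScalars R) := by
      apply Subtype.ext
      simp only [Submodule.coe_sum, Submodule.coe_smul, Finset.smul_sum]
      refine Finset.sum_congr rfl fun i _ => ?_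
      rw [smul_def R M (a i), ← mul_smul, ← mul_smul, mul_add, ← mul_assoc, eps_mul_eps',
        zero_mul, add_zero, mul_comm]
    rw [e]
    exact Submodule.sum_mem _ fun i _ => Submodule.smul_mem _ _ (Submodule.subset_span ⟨i, rfl⟩)

end fwd

section bwd
variable {R M}
variable {r : ℕ} (v : Module.Basis (Fin r) R (M ⧸ E R M))
  (w : Module.Basis (Fin r) R ((E R M).restrictScalars R))

/-- multiplication by `ε`, as an `R`-linear map `M/εM → εM`. -/
noncomputable def φ : (M ⧸ E R M) →ₗ[R] ((E R M).restrictScalars R) :=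
  LinearMap.codRestrict ((E R M).restrictScalars R)
    (((E R M).liftQ (LinearMap.lsmul R[ε] M ε) (fun m hm => by
      rw [LinearMap.mem_ker, LinearMap.lsmul_apply]
      exact eps_smul_of_mem R M hm)).restrictScalars R)
    (fun c => by
      obtain ⟨m, rfl⟩ := Submodule.mkQ_surjective _ c
      exact eps_smul_mem R M m)

lemma φ_mk (m : M) : ((φ (R := R) (M := M) ((E R M).mkQ m) : (E R M).restrictScalars R) : M)
    = (ε : R[ε]) • m := rfl

lemma φ_surjective : Function.Surjective (φ (R := R) (M := M)) := by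
  rintro ⟨y, hy⟩
  obtain ⟨m, rfl⟩ := (mem_E R M).1 hy
  exact ⟨(E R M).mkQ m, Subtype.ext (φ_mk m)⟩

include v w in
lemma φ_injective : Function.Injective (φ (R := R) (M := M)) := by
  have : Module.Finite R ((E R M).restrictScalars R) := Module.Finite.of_basis w
  exact OrzechProperty.injective_of_surjective_of_injective
    ((w.equivFun.symm.toLinearMap).comp v.equivFun.toLinearMap) φ
    ((w.equivFun.symm.injective).comp v.equivFun.injective) φ_surjective

include v w in
theorem basis_of : Nonempty (Module.Basis (Fin r) R[ε] M) := by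
  choose m hm using fun i => Submodule.mkQ_surjective (E R M) (v i)
  have hφi := φ_injective v w
  -- representation of an arbitrary element modulo E
  have hrep : ∀ x : M, ∃ a : Fin r → R, x - ∑ i, algebraMap R R[ε] (a i) • m i ∈ E R M := by
    intro x
    refine ⟨fun i => v.equivFun ((E R M).mkQ x) i, ?_⟩
    rw [← Submodule.Quotient.mk_eq_zero, ← Submodule.mkQ_apply, map_sub, map_sum, sub_eq_zero]
    conv_lhs => rw [← v.sum_equivFun ((E R M).mkQ x)]
    exact Finset.sum_congr rfl fun i _ => by rw [map_smul, hm, ← smul_def]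
  refine ⟨Module.Basis.mk (v := m) ?_ ?_⟩
  · rw [Fintype.linearIndependent_iff]
    intro g hg
    -- decompose coefficients
    have hdec : ∀ i, g i = algebraMap R R[ε] (g i).fst + ε * algebraMap R R[ε] (g i).snd :=
      fun i => decomp R (g i)
    -- first components vanish
    have h1 : ∀ i, (g i).fst = 0 := by
      have h := congrArg (E R M).mkQ hg
      rw [map_sum, map_zero] at h
      have h' : ∑ i, (g i).fst • v i = 0 := by
        rw [← h]
        refine Finset.sum_congr rfl fun i _ => ?_
        rw [map_smul, hm]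
        conv_rhs => rw [hdec i, add_smul, mul_smul]
        have h0 : (ε : R[ε]) • (algebraMap R R[ε] (g i).snd • v i) = 0 := by
          rw [← hm i, ← map_smul, ← map_smul, Submodule.mkQ_apply, Submodule.Quotient.mk_eq_zero]
          exact eps_smul_mem R M _
        rw [h0, add_zero, ← smul_def]
      exact Fintype.linearIndependent_iff.1 v.linearIndependent _ h'
    have h2 : ∀ i, (g i).snd = 0 := by
      have h' : φ (R := R) (M := M) (∑ i, (g i).snd • v i) = 0 := by
        apply Subtype.ext
        rw [map_sum, Submodule.coe_sum, Submodule.coe_zero, ← hg]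
        refine Finset.sum_congr rfl fun i _ => ?_
        rw [map_smul, Submodule.coe_smul, ← hm i, φ_mk]
        conv_rhs => rw [hdec i, h1 i, map_zero, zero_add, mul_smul]
        rw [smul_def R M, smul_comm]
      have h'' := hφi (h'.trans (map_zero _).symm)
      exact Fintype.linearIndependent_iff.1 v.linearIndependent _ h''
    intro i
    rw [hdec i, h1 i, h2 i]
    simp
  · rintro x -
    obtain ⟨a, ha⟩ := hrep x
    obtain ⟨x', hx'⟩ := (mem_E R M).1 ha
    obtain ⟨c, hc⟩ := hrep x'
    have h3 : (ε : R[ε]) • x' = ∑ i, (ε * algebraMap R R[ε] (c i)) • m i := by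
      have := eps_smul_of_mem R M hc
      rw [smul_sub, sub_eq_zero] at this
      rw [this, Finset.smul_sum]
      exact Finset.sum_congr rfl fun i _ => by rw [mul_smul]
    have h4 : x = ∑ i, (algebraMap R R[ε] (a i) + ε * algebraMap R R[ε] (c i)) • m i := by
      simp only [add_smul, Finset.sum_add_distrib]
      rw [← h3, hx']
      abel
    rw [h4]
    exact Submodule.sum_mem _ fun i _ => Submodule.smul_mem _ _ (Submodule.subset_span ⟨i, rfl⟩)

end bwd

theorem main (r : ℕ) :
    Nonempty (Module.Basis (Fin r) R[ε] M) ↔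
      (Nonempty (Module.Basis (Fin r) R (M ⧸ ((ε : R[ε]) • (⊤ : Submodule R[ε] M)))) ∧
        Nonempty (Module.Basis (Fin r) R
          (((ε : R[ε]) • (⊤ : Submodule R[ε] M)).restrictScalars R))) :=
  ⟨fun ⟨b⟩ => ⟨basisQuot b, basisE b⟩, fun ⟨⟨v⟩, ⟨w⟩⟩ => basis_of v w⟩

end Groth.Agent.H9.DualFree
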