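import Mathlib

open CategoryTheory CategoryTheory.Limits Opposite TopologicalSpace AlgebraicGeometry

universe u

namespace Groth.Agent.H9.DvrFib

/-- an injection with torsion-free cokernel over a Dedekind domain stays injective after tensoring
with anything -/
theorem lTensor_injective_of_torsionFree_coker {A : Type*} [CommRing A]
    [IsDedekindDomain A]
    {M N : Type*} [AddCommGroup M] [AddCommGroup N] [Module A M] [Module A N]
    (φ : M →ₗ[A] N) (hφ : Function.Injective φ)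
    (htf : ∀ a : A, a ≠ 0 → ∀ n : N, a • n ∈ LinearMap.range φ → n ∈ LinearMap.range φ)
    (P : Type*) [AddCommGroup P] [Module A P] :
    Function.Injective (φ.lTensor P) := by
  haveI : Module.IsTorsionFree A (N ⧸ LinearMap.range φ) := ⟨fun r hr x y hxy => by
    obtain ⟨x, rfl⟩ := Submodule.mkQ_surjective _ x
    obtain ⟨y, rfl⟩ := Submodule.mkQ_surjective _ y
    have h1 : r • (x - y) ∈ LinearMap.range φ := by
      rw [← Submodule.Quotient.mk_eq_zero, Submodule.Quotient.mk_smul, Submodule.Quotient.mk_sub,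
        smul_sub]
      exact sub_eq_zero.mpr hxy
    have h3 := htf r hr.ne_zero (x - y) h1
    exact (Submodule.Quotient.eq _).mpr h3⟩
  exact LinearMap.lTensor_injective_of_exact_of_flat (LinearMap.range φ).mkQ
    (Submodule.mkQ_surjective _) φ hφ (LinearMap.exact_map_mkQ_range φ) P

section

variable {X Y S T : Scheme.{u}} {f : T ⟶ S} {g : Y ⟶ X} {iX : X ⟶ S} {iY : Y ⟶ T}
  (H : IsPullback g iY iX f)
  {US : S.Opens} {UT : T.Opens}
  {UX : X.Opens} (hUST : UT ≤ f ⁻¹ᵁ US) (hUSX : UX ≤ iX ⁻¹ᵁ US)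
  {UY : Y.Opens} (hUY : UY = g ⁻¹ᵁ UX ⊓ iY ⁻¹ᵁ UT)

set_option backward.isDefEq.respectTransparency false in
open TensorProduct in
/-- variant of Mathlib `mono_pushoutSection_of_iSup_eq`: instead of flatness of `T` over `S`,
the base ring is Dedekind and `X` has torsion-free sections. -/
lemma mono_pushoutSection_of_iSup_eq' {ι : Type*} [Finite ι] (VX : ι → X.Opens)
    (hVU : iSup VX = UX)
    (hV : ∀ i, Mono (pushoutSection H hUST (show VX i ≤ _ by aesop) rfl))
    [IsDedekindDomain Γ(S, US)]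
    (htf : ∀ a : Γ(S, US), a ≠ 0 → ∀ (W : X.Opens) (hW : W ≤ iX ⁻¹ᵁ US) (t : Γ(X, W)),
      (iX.appLE US W hW).hom a * t = 0 → t = 0) :
    Mono (pushoutSection H hUST hUSX hUY) := by
  have hle (i : _) : VX i ≤ iX ⁻¹ᵁ US := by clear hV htf; aesop
  classical
  algebraize [(iX.appLE US UX hUSX).hom, (f.appLE US UT hUST).hom]
  let (i : _) := (iX.appLE US (VX i) (by aesop)).hom.toAlgebra
  -- This is the map `Γ(X ×ₛ T, U ∩ Uₜ) ⟶ ∏ᵢ Γ(X ×ₛ T, Vᵢ ∩ Uₜ)` on the bottom.
  let ψY : Γ(Y, UY) →+* Π i, Γ(Y, g ⁻¹ᵁ VX i ⊓ iY ⁻¹ᵁ UT) := RingHom.pi fun i ↦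
      (Y.presheaf.map (homOfLE (by subst hUY hVU; gcongr; exact le_iSup _ _)).op).hom
  -- The map `Γ(X, U) ⟶ ∏ᵢ Γ(X, Vᵢ)`
  let ψ : Γ(X, UX) →ₐ[Γ(S, US)] Π i, Γ(X, VX i) := AlgHom.pi fun i ↦
    ⟨(X.presheaf.map (homOfLE (hVU ▸ le_iSup VX i)).op).hom, fun r ↦ by
      dsimp [RingHom.algebraMap_toAlgebra]
      simp only [← CommRingCat.comp_apply, Scheme.Hom.appLE_map]⟩
  -- ... is injective by the sheaf axiom,
  have hψ : Function.Injective ψ := by
    intro s t est
    apply X.IsSheaf.section_ext fun x hx ↦ ?_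
    simp only [← hVU, Opens.mem_iSup] at hx
    obtain ⟨i, hxi⟩ := hx
    exact ⟨_, _, hxi, congr($est i)⟩
  -- the cokernel of `ψ` is torsion-free
  have hcok : ∀ a : Γ(S, US), a ≠ 0 → ∀ n : (Π i, Γ(X, VX i)),
      a • n ∈ LinearMap.range ψ.toLinearMap → n ∈ LinearMap.range ψ.toLinearMap := by
    rintro a ha n ⟨b, hb⟩
    have hb' : ∀ i, (X.presheaf.map (homOfLE (hVU ▸ le_iSup VX i)).op).hom b =
        (iX.appLE US (VX i) (hle i)).hom a * n i := by
      intro i
      have h0 := congrFun hb i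
      rw [Pi.smul_apply, Algebra.smul_def, RingHom.algebraMap_toAlgebra] at h0
      exact h0
    have star : ∀ (i : ι) (W : X.Opens) (m : W ⟶ VX i),
        (iX.appLE US W (m.le.trans (hle i))).hom a * (X.presheaf.map m.op).hom (n i) =
          (X.presheaf.map (homOfLE (m.le.trans (hVU ▸ le_iSup VX i))).op).hom b := by
      intro i W m
      have h1 : (iX.appLE US W (m.le.trans (hle i))).hom a =
          (X.presheaf.map m.op).hom ((iX.appLE US (VX i) (hle i)).hom a) := by
        rw [← CommRingCat.comp_apply, Scheme.Hom.appLE_map]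
      rw [h1, ← map_mul, ← hb' i, ← CommRingCat.comp_apply, ← Functor.map_comp]
      rfl
    have hcomp : TopCat.Presheaf.IsCompatible X.presheaf VX n := by
      intro i j
      have hij : VX i ⊓ VX j ≤ iX ⁻¹ᵁ US := inf_le_left.trans (hle i)
      apply sub_eq_zero.mp
      apply htf a ha (VX i ⊓ VX j) hij
      rw [mul_sub]
      have e1 := star i _ (Opens.infLELeft (VX i) (VX j))
      have e2 := star j _ (Opens.infLERight (VX i) (VX j))
      exact sub_eq_zero.mpr (e1.trans e2.symm)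
    obtain ⟨c, hc, -⟩ := X.sheaf.existsUnique_gluing' VX UX
      (fun i => homOfLE (hVU ▸ le_iSup VX i)) (hVU ▸ le_rfl) n hcomp
    exact ⟨c, funext fun i => hc i⟩
  -- ... and remains injective after tensoring with `Γ(T, Uₜ)`.
  have hψ' : Function.Injective (Algebra.TensorProduct.map (AlgHom.id Γ(T, UT) Γ(T, UT)) ψ) :=
    lTensor_injective_of_torsionFree_coker ψ.toLinearMap hψ hcok Γ(T, UT)
  simp_rw [@ConcreteCategory.mono_iff_injective_of_preservesPullback] at hV ⊢
  cases nonempty_fintype ι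
  -- And the map at the right
  let φ : (Γ(T, UT) ⊗[Γ(S, US)] Π i, Γ(X, VX i)) →+* Π i, Γ(Y, g ⁻¹ᵁ VX i ⊓ iY ⁻¹ᵁ UT) :=
    (RingHom.pi fun i ↦ (pushoutSection H hUST (show VX i ≤ _ by aesop) rfl).hom.comp
      ((CommRingCat.isPushout_tensorProduct _ _ _).flip.isoPushout.hom.hom.comp
      (by exact Pi.evalRingHom _ _))).comp (Algebra.TensorProduct.piRight _ Γ(S, US) _ _).toRingHom
  -- ... is also injective by our hypotheses on `Vᵢ`.
  have hφ : Function.Injective φ := by
    dsimp [φ]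
    refine .comp ?_ (Algebra.TensorProduct.piRight _ Γ(S, US) _ _).injective
    exact .piMap fun i ↦ (hV _).comp <| CommRingCat.isPushout_tensorProduct _ _ _
      |>.flip.isoPushout.commRingCatIsoToRingEquiv.injective
  let e : pushout (iX.appLE US UX hUSX) (f.appLE US UT hUST) ≅
      .of (Γ(T, UT) ⊗[Γ(S, US)] Γ(X, UX)) :=
    (CommRingCat.isPushout_tensorProduct _ _ _).flip.isoPushout.symm
  suffices (ψY.comp (pushoutSection H hUST hUSX hUY).hom).comp e.inv.hom = φ.comp
      (Algebra.TensorProduct.map (AlgHom.id Γ(T, UT) Γ(T, UT)) ψ).toRingHom by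
    refine .of_comp (f := ψY) ?_
    convert (hφ.comp hψ').comp e.commRingCatIsoToRingEquiv.injective
    ext1 x; simpa using! congr($this (e.hom x))
  ext1
  · have H₁ : e.inv.hom.comp Algebra.TensorProduct.includeLeftRingHom =
        (pushout.inr (C := CommRingCat) _ _).hom :=
      congr($((CommRingCat.isPushout_tensorProduct _ _ _).flip.inr_isoPushout_hom).hom)
    have H₂ (x j) : φ (x ⊗ₜ[↑Γ(S, US)] 1) j = pushoutSection H hUST (UX := VX j) (by simp_all) rfl
        (pushout.inr (C := CommRingCat) _ _ x) := congr(pushoutSection H hUST (UX := VX j) _ rfl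
        ($((CommRingCat.isPushout_tensorProduct ↑Γ(S, US)
          ↑Γ(T, UT) ↑Γ(X, VX j)).flip.inr_isoPushout_hom) x))
    simp only [RingHom.comp_assoc, H₁]
    ext x j
    simp [ψY, H₂, ← CategoryTheory.comp_apply, pushoutSection]
  · have H₁ : e.inv.hom.comp Algebra.TensorProduct.includeRight.toRingHom =
        (pushout.inl (C := CommRingCat) _ _).hom :=
      congr($((CommRingCat.isPushout_tensorProduct _ _ _).flip.inl_isoPushout_hom).hom)
    have H₂ (x j) : φ (1 ⊗ₜ[↑Γ(S, US)] x) j = pushoutSection H hUST (UX := VX j) (by simp_all) rfl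
        (pushout.inl (C := CommRingCat) _ _ (x j)) := congr(pushoutSection H hUST (UX := VX j) _ rfl
        ($((CommRingCat.isPushout_tensorProduct ↑Γ(S, US)
          ↑Γ(T, UT) ↑Γ(X, VX j)).flip.inl_isoPushout_hom) (x j)))
    simp only [RingHom.comp_assoc, H₁]
    ext x j
    simp [ψY, H₂, -CommRingCat.hom_comp, ← CategoryTheory.comp_apply, pushoutSection, ψ]

lemma mono_pushoutSection_of_dedekind [IsDedekindDomain Γ(S, US)]
    (hUS : IsAffineOpen US) (hUT : IsAffineOpen UT) (hUX : IsCompact (X := X) UX)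
    (htf : ∀ a : Γ(S, US), a ≠ 0 → ∀ (W : X.Opens) (hW : W ≤ iX ⁻¹ᵁ US) (t : Γ(X, W)),
      (iX.appLE US W hW).hom a * t = 0 → t = 0) :
    Mono (pushoutSection H hUST hUSX hUY) := by
  obtain ⟨I, hI, e⟩ := isCompact_iff_finite_and_eq_biUnion_affineOpens.mp hUX
  have := hI.to_subtype
  exact mono_pushoutSection_of_iSup_eq' (ι := I) H hUST hUSX hUY (·)
    (by rwa [iSup_subtype, eq_comm])
    (fun i ↦ have := isIso_pushoutSection_of_isAffineOpen H hUST _ rfl hUS hUT i.1.2; inferInstance)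
    htf

end

set_option backward.isDefEq.respectTransparency false in
theorem main (A : Type u) [CommRing A] [IsDomain A] [IsDiscreteValuationRing A]
    (X : Scheme.{u}) (f : X ⟶ Spec (CommRingCat.of A)) [Flat f] [QuasiCompact f]
    (g : Spec Γ(X, ⊤) ⟶ Spec (CommRingCat.of A)) (hg : X.toSpecΓ ≫ g = f)
    {T : Scheme.{u}} [IsAffine T] (q : T ⟶ Spec (CommRingCat.of A)) :
    (pullback.map f q g q X.toSpecΓ (𝟙 _) (𝟙 _) ((Category.comp_id f).trans hg.symm)
        ((Category.comp_id _).trans (Category.id_comp _).symm)).ker = ⊥ := by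
  let e : Γ(Spec (CommRingCat.of A), ⊤) ≃+* A :=
    (Scheme.ΓSpecIso (.of A)).commRingCatIsoToRingEquiv
  haveI : IsDomain Γ(Spec (CommRingCat.of A), ⊤) := e.toMulEquiv.isDomain A
  haveI : IsPrincipalIdealRing Γ(Spec (CommRingCat.of A), ⊤) :=
    IsPrincipalIdealRing.of_surjective e.symm.toRingHom e.symm.surjective
  haveI : IsDedekindDomain Γ(Spec (CommRingCat.of A), ⊤) := inferInstance
  haveI : CompactSpace X := QuasiCompact.compactSpace_of_compactSpace f
  have HX : IsPullback (pullback.fst f q) (pullback.snd f q) f q := .of_hasPullback f q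
  have HY : IsPullback (pullback.fst g q) (pullback.snd g q) g q := .of_hasPullback g q
  set cs := pullback.map f q g q X.toSpecΓ (𝟙 _) (𝟙 _) ((Category.comp_id f).trans hg.symm)
        ((Category.comp_id _).trans (Category.id_comp _).symm) with hcs
  have hfst : cs ≫ pullback.fst g q = pullback.fst f q ≫ X.toSpecΓ := pullback.lift_fst _ _ _
  haveI : CompactSpace ↥(pullback f q) :=
    QuasiCompact.compactSpace_of_compactSpace (pullback.snd f q)
  haveI : QuasiCompact cs := inferInstance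
  -- torsion-freeness of sections of `X`
  have htf : ∀ a : Γ(Spec (CommRingCat.of A), ⊤), a ≠ 0 → ∀ (W : X.Opens) (hW : W ≤ f ⁻¹ᵁ ⊤)
      (t : Γ(X, W)), (f.appLE ⊤ W hW).hom a * t = 0 → t = 0 := by
    intro a ha W hW t ht
    refine X.IsSheaf.section_ext fun x hx ↦ ?_
    obtain ⟨_, ⟨V, hV, rfl⟩, hxV, hVW : V ≤ W⟩ :=
      X.isBasis_affineOpens.exists_subset_of_mem_open hx W.isOpen
    refine ⟨V, hVW, hxV, ?_⟩
    have hfl : (f.appLE ⊤ V (hVW.trans hW)).hom.Flat := f.flat_appLE (isAffineOpen_top _) hV _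
    have h1 : (f.appLE ⊤ V (hVW.trans hW)).hom a * (X.presheaf.map (homOfLE hVW).op).hom t = 0 := by
      have h0 : (f.appLE ⊤ V (hVW.trans hW)).hom a =
          (X.presheaf.map (homOfLE hVW).op).hom ((f.appLE ⊤ W hW).hom a) := by
        rw [← CommRingCat.comp_apply, Scheme.Hom.appLE_map]
      rw [h0, ← map_mul, ht, map_zero]
    change (X.presheaf.map (homOfLE hVW).op).hom t = (X.presheaf.map (homOfLE hVW).op).hom 0
    rw [map_zero]
    algebraize [(f.appLE ⊤ V (hVW.trans hW)).hom]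
    have hreg := Module.Flat.isSMulRegular_of_nonZeroDivisors (M := Γ(X, V))
      (mem_nonZeroDivisors_of_ne_zero ha)
    apply hreg
    change a • _ = a • (0 : Γ(X, V))
    rw [smul_zero, Algebra.smul_def]
    exact h1
  have hUYX : (⊤ : (pullback f q).Opens) = pullback.fst f q ⁻¹ᵁ ⊤ ⊓ pullback.snd f q ⁻¹ᵁ ⊤ := by
    simp
  have hUYY : (⊤ : (pullback g q).Opens) = pullback.fst g q ⁻¹ᵁ ⊤ ⊓ pullback.snd g q ⁻¹ᵁ ⊤ := by
    simp
  have hPX : Mono (pushoutSection HX (US := ⊤) (UT := ⊤) (UX := ⊤) (UY := ⊤) le_top le_top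
      hUYX) :=
    mono_pushoutSection_of_dedekind HX _ _ _ (isAffineOpen_top _) (isAffineOpen_top _)
      (by simpa using isCompact_univ) htf
  have hPY : IsIso (pushoutSection HY (US := ⊤) (UT := ⊤) (UX := ⊤) (UY := ⊤) le_top le_top
      hUYY) :=
    isIso_pushoutSection_of_isAffineOpen HY _ _ _ (isAffineOpen_top _) (isAffineOpen_top _)
      (isAffineOpen_top _)
  have hiso : IsIso (X.toSpecΓ.appLE ⊤ ⊤ le_top) := by
    have h3 : X.toSpecΓ.appLE ⊤ ⊤ le_top = X.toSpecΓ.appTop := by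
      have : X.toSpecΓ.appLE ⊤ ⊤ le_top = X.toSpecΓ.app ⊤ ≫ X.presheaf.map (𝟙 _) := rfl
      rw [this, CategoryTheory.Functor.map_id, Category.comp_id]
    rw [h3, Scheme.toSpecΓ_appTop]; infer_instance
  have eq1 : g.appLE ⊤ ⊤ le_top ≫ X.toSpecΓ.appLE ⊤ ⊤ le_top = 𝟙 _ ≫ f.appLE ⊤ ⊤ le_top := by
    rw [Scheme.Hom.appLE_comp_appLE, Category.id_comp]
    simp only [hg]
  have eq2 : q.appLE ⊤ ⊤ le_top ≫ 𝟙 _ = 𝟙 _ ≫ q.appLE ⊤ ⊤ le_top := by simp
  let m := pushout.map (g.appLE ⊤ ⊤ le_top) (q.appLE ⊤ ⊤ le_top) (f.appLE ⊤ ⊤ le_top)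
    (q.appLE ⊤ ⊤ le_top) (X.toSpecΓ.appLE ⊤ ⊤ le_top) (𝟙 _) (𝟙 _) eq1 eq2
  have hcomm : pushoutSection HY (US := ⊤) (UT := ⊤) (UX := ⊤) (UY := ⊤) le_top le_top
      hUYY ≫ cs.appLE ⊤ ⊤ le_top = m ≫ pushoutSection HX (US := ⊤) (UT := ⊤) (UX := ⊤)
      (UY := ⊤) le_top le_top hUYX := by
    apply pushout.hom_ext
    · simp only [m, pushout.map, pushout.inl_desc_assoc, pushout.inl_desc, Category.assoc]
      rw [Scheme.Hom.appLE_comp_appLE, Scheme.Hom.appLE_comp_appLE]
      simp only [hfst]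
    · simp only [m, pushout.map, pushout.inr_desc_assoc, pushout.inr_desc, Category.id_comp]
      rw [Scheme.Hom.appLE_comp_appLE]
      have hsnd : cs ≫ pullback.snd g q = pullback.snd f q :=
        (pullback.lift_snd _ _ _).trans (Category.comp_id _)
      simp only [hsnd]
  have hmono : Mono (cs.appLE ⊤ ⊤ le_top) := by
    have h4 : cs.appLE ⊤ ⊤ le_top = inv (pushoutSection HY (US := ⊤) (UT := ⊤) (UX := ⊤)
        (UY := ⊤) le_top le_top hUYY) ≫ m ≫ pushoutSection HX (US := ⊤) (UT := ⊤)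
        (UX := ⊤) (UY := ⊤) le_top le_top hUYX := by
      rw [IsIso.eq_inv_comp]; exact hcomm
    rw [h4]; infer_instance
  have h2 : cs.appLE ⊤ ⊤ le_top = cs.app ⊤ := by
    have : cs.appLE ⊤ ⊤ le_top = cs.app ⊤ ≫ (pullback f q).presheaf.map (𝟙 _) := rfl
    rw [this, CategoryTheory.Functor.map_id, Category.comp_id]
  have hinj : Function.Injective (cs.app ⊤).hom := by
    rw [← h2]
    exact (ConcreteCategory.mono_iff_injective_of_preservesPullback _).mp hmono
  apply Scheme.IdealSheafData.ext_of_isAffine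
  rw [cs.ker_apply ⟨⊤, isAffineOpen_top _⟩]
  exact (RingHom.injective_iff_ker_eq_bot _).mp hinj

end Groth.Agent.H9.DvrFib
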