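import Mathlib
import Groth.Agent.Lib.Helper8.DVRDominate

set_option autoImplicit false
set_option linter.unusedSectionVars false
set_option linter.unusedVariables false

namespace Groth.Agent.H9.DvrRel

universe u

open Polynomial IsLocalRing

theorem main (R : Type u) [CommRing R] [IsDomain R] [IsNoetherianRing R]
    [UniqueFactorizationMonoid R] [IsLocalRing R]
    (Δ₁ Δ₂ : R) (h₁ : ¬ IsUnit Δ₁) (h₂ : ¬ IsUnit Δ₂) (hcop : IsRelPrime Δ₁ Δ₂) :
    ∃ (A : Type u) (_ : CommRing A) (_ : IsDomain A) (_ : IsDiscreteValuationRing A) (f : R →+* A),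
      IsLocalHom f ∧ Function.Injective f ∧ ¬ IsUnit (f Δ₁) ∧
        ∃ u : Aˣ, (u : A) - 1 ∈ IsLocalRing.maximalIdeal A ∧ f Δ₁ = (u : A) * f Δ₂ := by
  classical
  have hΔ₂ : Δ₂ ≠ 0 := by
    rintro rfl
    exact h₁ (hcop (dvd_refl Δ₁) (dvd_zero Δ₁))
  set g : R[X] := C Δ₂ * X + C (Δ₂ - Δ₁) with hg
  have hdeg : g.degree = 1 := degree_linear hΔ₂
  have hg0 : g ≠ 0 := by
    intro h
    rw [h, degree_zero] at hdeg
    exact absurd hdeg (by decide)
  have hc0 : g.coeff 0 = Δ₂ - Δ₁ := by simp [hg]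
  have hc1 : g.coeff 1 = Δ₂ := by simp [hg]
  have hrel : IsRelPrime (g.coeff 0) (g.coeff 1) := by
    rw [hc0, hc1]
    intro d hd1 hd2
    apply hcop _ hd2
    have : Δ₁ = Δ₂ - (Δ₂ - Δ₁) := by ring
    rw [this]
    exact dvd_sub hd2 hd1
  have hirr : Irreducible g := irreducible_of_degree_eq_one_of_isRelPrime_coeff hdeg hrel
  have hprime : Prime g := UniqueFactorizationMonoid.irreducible_iff_prime.mp hirr
  haveI hIprime : (Ideal.span {g}).IsPrime := (Ideal.span_singleton_prime hg0).2 hprime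
  let D := R[X] ⧸ Ideal.span {g}
  let ι : R →+* D := (Ideal.Quotient.mk (Ideal.span {g})).comp C
  have hιinj : Function.Injective ι := by
    rw [injective_iff_map_eq_zero]
    intro r hr
    have h1 : (C r : R[X]) ∈ Ideal.span {g} := Ideal.Quotient.eq_zero_iff_mem.mp hr
    rw [Ideal.mem_span_singleton] at h1
    by_contra hr0
    have hC : (C r : R[X]) ≠ 0 := by
      rwa [Ne, C_eq_zero]
    have := degree_le_of_dvd h1 hC
    rw [hdeg, degree_C hr0] at this
    exact absurd this (by decide)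
  have hm1 : Δ₁ ∈ maximalIdeal R := (mem_maximalIdeal _).mpr h₁
  have hm2 : Δ₂ ∈ maximalIdeal R := (mem_maximalIdeal _).mpr h₂
  have hres1 : residue R Δ₁ = 0 := (residue_eq_zero_iff _).mpr hm1
  have hres2 : residue R Δ₂ = 0 := (residue_eq_zero_iff _).mpr hm2
  let ev : R[X] →+* ResidueField R := eval₂RingHom (residue R) 0
  have hevg : ev g = 0 := by
    show eval₂ (residue R) 0 g = 0
    simp [hg, hres1, hres2]
  let π : D →+* ResidueField R := Ideal.Quotient.lift (Ideal.span {g}) ev (by
    intro a ha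
    rw [Ideal.mem_span_singleton] at ha
    obtain ⟨b, rfl⟩ := ha
    rw [map_mul, hevg, zero_mul])
  have hπι : ∀ r, π (ι r) = residue R r := by
    intro r
    show ev (C r) = residue R r
    show eval₂ (residue R) 0 (C r) = residue R r
    simp
  have hπX : π (Ideal.Quotient.mk (Ideal.span {g}) X) = 0 := by
    show eval₂ (residue R) 0 X = 0
    simp
  have hπsurj : Function.Surjective π := by
    intro y
    obtain ⟨r, rfl⟩ := residue_surjective y
    exact ⟨ι r, hπι r⟩
  let Q : Ideal D := RingHom.ker π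
  haveI hQmax : Q.IsMaximal := RingHom.ker_isMaximal_of_surjective π hπsurj
  haveI hQprime : Q.IsPrime := hQmax.isPrime
  let B := Localization.AtPrime Q
  haveI : IsDomain B := IsLocalization.isDomain_localization
    (Ideal.primeCompl_le_nonZeroDivisors Q)
  have hDBinj : Function.Injective (algebraMap D B) :=
    IsLocalization.injective B (Ideal.primeCompl_le_nonZeroDivisors Q)
  have hunitB : ∀ x : D, IsUnit (algebraMap D B x) ↔ π x ≠ 0 := by
    intro x
    rw [IsLocalization.AtPrime.isUnit_to_map_iff B Q]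
    show x ∉ Q ↔ _
    rw [RingHom.mem_ker]
  have hnf : ¬ IsField B := by
    intro hF
    have hne : algebraMap D B (ι Δ₂) ≠ 0 := by
      intro h0
      rw [← map_zero (algebraMap D B)] at h0
      exact hΔ₂ (hιinj (by rw [hDBinj h0, map_zero]))
    obtain ⟨b, hb⟩ := hF.mul_inv_cancel hne
    have hu : IsUnit (algebraMap D B (ι Δ₂)) := IsUnit.of_mul_eq_one b hb
    rw [hunitB, hπι] at hu
    exact hu hres2
  obtain ⟨A, iA1, iA2, iA3, iA4, hinj, hloc⟩ := Groth.Agent.H8.KA.exists_dvr_dominating' B hnf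
  let f : R →+* A := (algebraMap B A).comp ((algebraMap D B).comp ι)
  have hfloc : ∀ r : R, IsUnit (f r) → IsUnit r := by
    intro r hr
    have h1 : IsUnit (algebraMap D B (ι r)) := hloc.map_nonunit _ hr
    rw [hunitB, hπι] at h1
    by_contra hru
    exact h1 ((residue_eq_zero_iff _).mpr ((mem_maximalIdeal _).mpr hru))
  refine ⟨A, iA1, iA2, iA3, f, ⟨hfloc⟩, ?_, fun h => h₁ (hfloc _ h), ?_⟩
  · exact hinj.comp (hDBinj.comp hιinj)
  · let xb : D := Ideal.Quotient.mk (Ideal.span {g}) X
    have hu1 : IsUnit (algebraMap D B (1 + xb)) := by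
      rw [hunitB, map_add, map_one, hπX, add_zero]
      exact one_ne_zero
    have hu2 : IsUnit (algebraMap B A (algebraMap D B (1 + xb))) := hu1.map _
    refine ⟨hu2.unit, ?_, ?_⟩
    · rw [IsUnit.unit_spec, map_add, map_add, map_one, map_one, add_sub_cancel_left,
        mem_maximalIdeal, mem_nonunits_iff]
      intro hx
      have h1 : IsUnit (algebraMap D B xb) := hloc.map_nonunit _ hx
      rw [hunitB] at h1
      exact h1 hπX
    · rw [IsUnit.unit_spec]
      show algebraMap B A (algebraMap D B (ι Δ₁)) =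
        algebraMap B A (algebraMap D B (1 + xb)) * algebraMap B A (algebraMap D B (ι Δ₂))
      rw [← map_mul, ← map_mul]
      congr 2
      show Ideal.Quotient.mk (Ideal.span {g}) (C Δ₁) =
        Ideal.Quotient.mk (Ideal.span {g}) ((1 + X) * C Δ₂)
      rw [eq_comm, Ideal.Quotient.eq, Ideal.mem_span_singleton]
      refine ⟨1, ?_⟩
      rw [hg, mul_one, C_sub]
      ring

end Groth.Agent.H9.DvrRel
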