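import Mathlib

/-!
# Helper9: EBA — graded algebra of `R[N]` along a height function (for S18302)
-/

set_option autoImplicit false

namespace Groth.Agent.H9.EB

open MonoidAlgebra

section Alg

variable (R : Type*) [CommRing R] {M : Type} [AddCommGroup M] (N : AddSubmonoid M) (ℓ : M →+ ℤ)

/-- the degree of a monomial -/
def deg (n : Multiplicative ↥N) : ℤ := ℓ ((Multiplicative.toAdd n : ↥N) : M)

theorem deg_mul (n n' : Multiplicative ↥N) : deg N ℓ (n * n') = deg N ℓ n + deg N ℓ n' := by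
  simp [deg, toAdd_mul]

theorem deg_one : deg N ℓ 1 = 0 := by
  simp [deg]

variable (hℓ : ∀ n ∈ N, 0 ≤ ℓ n)

include hℓ in
theorem deg_nonneg (n : Multiplicative ↥N) : 0 ≤ deg N ℓ n := hℓ _ (Multiplicative.toAdd n).2

/-- elements supported in degrees `≥ k` -/
def Ik (k : ℕ) : Ideal (MonoidAlgebra R (Multiplicative ↥N)) where
  carrier := {c | ∀ n ∈ c.coeff.support, (k : ℤ) ≤ deg N ℓ n}
  add_mem' := by
    intro a b ha hb n hn
    classical
    rcases Finset.mem_union.1 (Finsupp.support_add hn) with h | h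
    · exact ha n h
    · exact hb n h
  zero_mem' := by
    intro n hn
    simp at hn
  smul_mem' := by
    intro c x hx n hn
    classical
    rw [smul_eq_mul] at hn
    obtain ⟨n₁, -, n₂, h₂, rfl⟩ := Finset.mem_mul.1 (support_coeff_mul_subset c x hn)
    rw [deg_mul]
    have := deg_nonneg N ℓ hℓ n₁
    have := hx n₂ h₂
    omega

theorem mem_Ik {k : ℕ} {c : MonoidAlgebra R (Multiplicative ↥N)} :
    c ∈ Ik R N ℓ hℓ k ↔ ∀ n ∈ c.coeff.support, (k : ℤ) ≤ deg N ℓ n := Iff.rfl

theorem single_mem_Ik {k : ℕ} (n : Multiplicative ↥N) (r : R) (h : (k : ℤ) ≤ deg N ℓ n) :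
    single n r ∈ Ik R N ℓ hℓ k := by
  intro n' hn'
  classical
  rw [coeff_single] at hn'
  have := Finsupp.support_single_subset hn'
  rw [Finset.mem_singleton] at this
  rw [this]
  exact h

theorem Ik_antitone {k k' : ℕ} (h : k ≤ k') : Ik R N ℓ hℓ k' ≤ Ik R N ℓ hℓ k := by
  intro c hc n hn
  have := hc n hn
  omega

theorem eq_zero_of_mem_Ik {K : ℕ} {c : MonoidAlgebra R (Multiplicative ↥N)}
    (hc : c ∈ Ik R N ℓ hℓ K) (h : ∀ n ∈ c.coeff.support, deg N ℓ n < K) : c = 0 := by
  rw [← coeff_eq_zero, ← Finsupp.support_eq_empty, Finset.eq_empty_iff_forall_notMem]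
  intro n hn
  have h1 := hc n hn
  have h2 := h n hn
  omega

theorem eq_zero_of_forall_mem_Ik {c : MonoidAlgebra R (Multiplicative ↥N)}
    (hc : ∀ k, c ∈ Ik R N ℓ hℓ k) : c = 0 := by
  rw [← coeff_eq_zero, ← Finsupp.support_eq_empty, Finset.eq_empty_iff_forall_notMem]
  intro n hn
  have h1 := hc ((deg N ℓ n).toNat + 1) n hn
  have := Int.self_le_toNat (deg N ℓ n)
  push_cast at h1
  omega

theorem mul_mem_Ik {a b : ℕ} {c c' : MonoidAlgebra R (Multiplicative ↥N)}
    (hc : c ∈ Ik R N ℓ hℓ a) (hc' : c' ∈ Ik R N ℓ hℓ b) : c * c' ∈ Ik R N ℓ hℓ (a + b) := by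
  intro n hn
  classical
  obtain ⟨n₁, h₁, n₂, h₂, rfl⟩ := Finset.mem_mul.1 (support_coeff_mul_subset c c' hn)
  rw [deg_mul]
  have := hc n₁ h₁
  have := hc' n₂ h₂
  push_cast
  omega

theorem pow_mem_Ik {c : MonoidAlgebra R (Multiplicative ↥N)} (hc : c ∈ Ik R N ℓ hℓ 1) (k : ℕ) :
    c ^ k ∈ Ik R N ℓ hℓ k := by
  induction k with
  | zero =>
    intro n _
    simpa using deg_nonneg N ℓ hℓ n
  | succ k ih =>
    rw [pow_succ]
    exact mul_mem_Ik R N ℓ hℓ ih hc

theorem single_eq_mul (n : Multiplicative ↥N) (r : R) :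
    (single n r : MonoidAlgebra R (Multiplicative ↥N)) = single 1 r * single n 1 := by
  rw [single_mul_single, one_mul, mul_one]

theorem map_eq_zero_of_mem_Ik {A : Type*} [Semiring A] (g : MonoidAlgebra R (Multiplicative ↥N) →+* A)
    {k : ℕ} (hg : ∀ n : Multiplicative ↥N, (k : ℤ) ≤ deg N ℓ n → g (single n 1) = 0)
    {c : MonoidAlgebra R (Multiplicative ↥N)} (hc : c ∈ Ik R N ℓ hℓ k) : g c = 0 := by
  rw [← sum_coeff_single c, Finsupp.sum, map_sum]
  refine Finset.sum_eq_zero fun n hn => ?_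
  rw [single_eq_mul, map_mul, hg n (hc n hn), mul_zero]

end Alg

section AAL

variable (R : Type*) [CommRing R] {M : Type} [AddCommGroup M] (N : AddSubmonoid M) (ℓ : M →+ ℤ)
  (hℓ : ∀ n ∈ N, 0 ≤ ℓ n)

theorem mk_injective {c c' : MonoidAlgebra R (Multiplicative ↥N)}
    (h : ∀ k : ℕ, Ideal.Quotient.mk (Ik R N ℓ hℓ k) c = Ideal.Quotient.mk (Ik R N ℓ hℓ k) c') :
    c = c' := by
  rw [← sub_eq_zero]
  apply eq_zero_of_forall_mem_Ik R N ℓ hℓ
  intro k
  exact Ideal.Quotient.eq.1 (h k)

/-- algebraization: a compatible system of ring maps to the truncations with uniformly bounded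
supports comes from a ring map to `R[N]` -/
theorem exists_algebraization {B : Type*} [CommRing B]
    (β : ∀ k : ℕ, B →+* (MonoidAlgebra R (Multiplicative ↥N)) ⧸ Ik R N ℓ hℓ k)
    (hcompat : ∀ (k : ℕ) (b : B) (c : MonoidAlgebra R (Multiplicative ↥N)),
      Ideal.Quotient.mk (Ik R N ℓ hℓ (k + 1)) c = β (k + 1) b →
        Ideal.Quotient.mk (Ik R N ℓ hℓ k) c = β k b)
    (hsupp : ∀ b : B, ∃ F : Finset M, ∀ k : ℕ, ∃ c : MonoidAlgebra R (Multiplicative ↥N),
      (∀ n ∈ c.coeff.support, ((Multiplicative.toAdd n : ↥N) : M) ∈ F) ∧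
        Ideal.Quotient.mk (Ik R N ℓ hℓ k) c = β k b) :
    ∃ β' : B →+* MonoidAlgebra R (Multiplicative ↥N),
      ∀ (k : ℕ) (b : B), Ideal.Quotient.mk (Ik R N ℓ hℓ k) (β' b) = β k b := by
  have hcompat' : ∀ (k k' : ℕ), k ≤ k' → ∀ (b : B) (c : MonoidAlgebra R (Multiplicative ↥N)),
      Ideal.Quotient.mk (Ik R N ℓ hℓ k') c = β k' b →
        Ideal.Quotient.mk (Ik R N ℓ hℓ k) c = β k b := by
    intro k k' hkk'
    induction k', hkk' using Nat.le_induction with
    | base => intro b c h; exact h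
    | succ k' hk' ih => intro b c h; exact ih b c (hcompat k' b c h)
  have key : ∀ b : B, ∃ c : MonoidAlgebra R (Multiplicative ↥N),
      ∀ k : ℕ, Ideal.Quotient.mk (Ik R N ℓ hℓ k) c = β k b := by
    intro b
    obtain ⟨F, hF⟩ := hsupp b
    obtain ⟨K, hK⟩ : ∃ K : ℕ, ∀ m ∈ F, ℓ m < K := by
      refine ⟨F.sup (fun m => (ℓ m).toNat) + 1, fun m hm => ?_⟩
      have h1 := Finset.le_sup (f := fun m => (ℓ m).toNat) hm
      have h2 := Int.self_le_toNat (ℓ m)
      push_cast
      have h3 : ((ℓ m).toNat : ℤ) ≤ (F.sup (fun m => (ℓ m).toNat) : ℕ) := by exact_mod_cast h1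
      omega
    obtain ⟨cK, hcK, hcK'⟩ := hF K
    refine ⟨cK, fun k => ?_⟩
    rcases le_total k K with hk | hk
    · exact hcompat' k K hk b cK hcK'
    · obtain ⟨ck, hck, hck'⟩ := hF k
      have h1 : Ideal.Quotient.mk (Ik R N ℓ hℓ K) ck = β K b := hcompat' K k hk b ck hck'
      have h2 : ck - cK ∈ Ik R N ℓ hℓ K := Ideal.Quotient.eq.1 (h1.trans hcK'.symm)
      have h3 : ck - cK = 0 := by
        apply eq_zero_of_mem_Ik R N ℓ hℓ h2
        intro n hn
        classical
        have hn' : n ∈ ck.coeff.support ∪ cK.coeff.support := by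
          rw [coeff_sub] at hn
          exact Finsupp.support_sub hn
        rcases Finset.mem_union.1 hn' with h | h
        · exact hK _ (hck n h)
        · exact hK _ (hcK n h)
      rw [← sub_eq_zero.1 h3]
      exact hck'
  choose β' hβ' using key
  refine ⟨
    { toFun := β'
      map_one' := ?_
      map_mul' := ?_
      map_zero' := ?_
      map_add' := ?_ }, fun k b => hβ' b k⟩
  · apply mk_injective R N ℓ hℓ
    intro k
    rw [hβ', map_one, map_one]
  · intro x y
    apply mk_injective R N ℓ hℓ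
    intro k
    rw [hβ', map_mul, map_mul, hβ', hβ']
  · apply mk_injective R N ℓ hℓ
    intro k
    rw [hβ', map_zero, map_zero]
  · intro x y
    apply mk_injective R N ℓ hℓ
    intro k
    rw [hβ', map_add, map_add, hβ', hβ']

end AAL

section Flow

open Polynomial

variable (R : Type*) [CommRing R] {M : Type} [AddCommGroup M] (N : AddSubmonoid M) (ℓ : M →+ ℤ)
  (hℓ : ∀ n ∈ N, 0 ≤ ℓ n)

/-- the monomial part of the flow -/
noncomputable def tauMon : Multiplicative ↥N →* (MonoidAlgebra R (Multiplicative ↥N))[X] where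
  toFun n := C (single n 1) * X ^ (deg N ℓ n).toNat
  map_one' := by
    rw [deg_one, Int.toNat_zero, pow_zero, mul_one, ← one_def, C_1]
  map_mul' := by
    intro n n'
    rw [deg_mul, Int.toNat_add (deg_nonneg N ℓ hℓ n) (deg_nonneg N ℓ hℓ n'), pow_add,
      show (single (n * n') (1 : R) : MonoidAlgebra R (Multiplicative ↥N)) =
        single n 1 * single n' 1 by rw [single_mul_single, one_mul], C_mul]
    ring

/-- the flow `x^n ↦ x^n t^{ℓ n}` -/
noncomputable def tau : MonoidAlgebra R (Multiplicative ↥N) →+* (MonoidAlgebra R (Multiplicative ↥N))[X] :=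
  liftNCRingHom (C.comp singleOneRingHom) (tauMon R N ℓ hℓ) (fun _ _ => Commute.all _ _)

theorem tau_single (n : Multiplicative ↥N) (r : R) :
    tau R N ℓ hℓ (single n r) = C (single n r) * X ^ (deg N ℓ n).toNat := by
  rw [tau, liftNCRingHom_single]
  change C (single 1 r) * (C (single n 1) * X ^ (deg N ℓ n).toNat) = _
  rw [← mul_assoc, ← C_mul, ← single_eq_mul]

theorem eval_one_tau (c : MonoidAlgebra R (Multiplicative ↥N)) : (tau R N ℓ hℓ c).eval 1 = c := by
  have h : (evalRingHom (1 : MonoidAlgebra R (Multiplicative ↥N))).comp (tau R N ℓ hℓ) =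
      RingHom.id _ := by
    apply MonoidAlgebra.ringHom_ext
    · intro b
      simp [tau_single]
    · intro a
      simp [tau_single]
  exact congrArg (fun g => g c) h

theorem X_pow_dvd_tau {k : ℕ} {c : MonoidAlgebra R (Multiplicative ↥N)} (hc : c ∈ Ik R N ℓ hℓ k) :
    (X : (MonoidAlgebra R (Multiplicative ↥N))[X]) ^ k ∣ tau R N ℓ hℓ c := by
  rw [← sum_coeff_single c, Finsupp.sum, map_sum]
  refine Finset.dvd_sum fun n hn => ?_
  rw [tau_single]
  refine Dvd.dvd.mul_left (pow_dvd_pow X ?_) _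
  have h1 := hc n hn
  have h2 := Int.toNat_of_nonneg (deg_nonneg N ℓ hℓ n)
  omega

/-- the degree zero part, as a ring endomorphism -/
noncomputable def eps : MonoidAlgebra R (Multiplicative ↥N) →+* MonoidAlgebra R (Multiplicative ↥N) :=
  constantCoeff.comp (tau R N ℓ hℓ)

theorem eps_single (n : Multiplicative ↥N) (r : R) :
    eps R N ℓ hℓ (single n r) = if (deg N ℓ n).toNat = 0 then single n r else 0 := by
  change ((tau R N ℓ hℓ) (single n r)).coeff 0 = _
  rw [tau_single, coeff_C_mul_X_pow]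
  by_cases h : (deg N ℓ n).toNat = 0
  · rw [if_pos h, if_pos h.symm]
  · rw [if_neg h, if_neg (Ne.symm h)]

theorem eps_eps (c : MonoidAlgebra R (Multiplicative ↥N)) :
    eps R N ℓ hℓ (eps R N ℓ hℓ c) = eps R N ℓ hℓ c := by
  have h : (eps R N ℓ hℓ).comp (eps R N ℓ hℓ) = eps R N ℓ hℓ := by
    apply MonoidAlgebra.ringHom_ext
    · intro b
      rw [RingHom.comp_apply, eps_single]
      split_ifs with h
      · rw [eps_single, if_pos h]
      · rw [map_zero]
    · intro a
      rw [RingHom.comp_apply, eps_single]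
      split_ifs with h
      · rw [eps_single, if_pos h]
      · rw [map_zero]
  exact congrArg (fun g => g c) h

theorem sub_eps_mem (c : MonoidAlgebra R (Multiplicative ↥N)) :
    c - eps R N ℓ hℓ c ∈ Ik R N ℓ hℓ 1 := by
  induction c using MonoidAlgebra.induction_linear with
  | zero => simp
  | add x y hx hy =>
    rw [map_add, add_sub_add_comm]
    exact Ideal.add_mem _ hx hy
  | single n r =>
    rw [eps_single]
    split_ifs with h
    · rw [sub_self]
      exact Ideal.zero_mem _
    · rw [sub_zero]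
      apply single_mem_Ik
      have := Int.toNat_of_nonneg (deg_nonneg N ℓ hℓ n)
      push_cast
      omega

/-- the flow trick: after inverting `c * eps c`, the localization embeds into power series over itself
in such a way that `I_k` lands in `(t^k)` -/
theorem exists_flow (c : MonoidAlgebra R (Multiplicative ↥N)) (L : Type*) [CommRing L]
    [Algebra (MonoidAlgebra R (Multiplicative ↥N)) L]
    [IsLocalization.Away (c * eps R N ℓ hℓ c) L] :
    ∃ θ : L →+* PowerSeries L, Function.Injective θ ∧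
      ∀ (k : ℕ) (x : MonoidAlgebra R (Multiplicative ↥N)), x ∈ Ik R N ℓ hℓ k →
        (PowerSeries.X : PowerSeries L) ^ k ∣ θ (algebraMap _ L x) := by
  let g : MonoidAlgebra R (Multiplicative ↥N) →+* PowerSeries L :=
    (Polynomial.coeToPowerSeries.ringHom).comp
      ((Polynomial.mapRingHom (algebraMap (MonoidAlgebra R (Multiplicative ↥N)) L)).comp
        (tau R N ℓ hℓ))
  have hg : ∀ x, g x = ((tau R N ℓ hℓ x).map (algebraMap _ L) : L[X]) := fun x => rfl
  have hconst : ∀ x, PowerSeries.constantCoeff (g x) = algebraMap _ L (eps R N ℓ hℓ x) := by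
    intro x
    rw [hg, Polynomial.constantCoeff_coe, Polynomial.coeff_map]
    rfl
  have hunit : IsUnit (g (c * eps R N ℓ hℓ c)) := by
    rw [PowerSeries.isUnit_iff_constantCoeff, hconst, map_mul, eps_eps, ← map_mul]
    have h1 : IsUnit (algebraMap (MonoidAlgebra R (Multiplicative ↥N)) L (c * eps R N ℓ hℓ c)) :=
      IsLocalization.Away.algebraMap_isUnit _
    rw [map_mul] at h1
    rw [map_mul, map_mul]
    have h2 := isUnit_of_mul_isUnit_right h1
    exact h2.mul h2
  refine ⟨IsLocalization.Away.lift (c * eps R N ℓ hℓ c) hunit, ?_, ?_⟩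
  · rw [injective_iff_map_eq_zero]
    intro y hy
    obtain ⟨⟨a, s⟩, hs⟩ := IsLocalization.surj (Submonoid.powers (c * eps R N ℓ hℓ c)) y
    dsimp only at hs
    have h1 := congrArg (IsLocalization.Away.lift (c * eps R N ℓ hℓ c) hunit) hs
    rw [map_mul, hy, zero_mul, IsLocalization.Away.lift_eq] at h1
    have h2 : ((tau R N ℓ hℓ a).map (algebraMap _ L) : L[X]) = 0 := by
      have := h1.symm
      rw [hg] at this
      exact_mod_cast this
    have h3 : algebraMap _ L a = 0 := by
      have := congrArg (Polynomial.eval 1) h2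
      rwa [Polynomial.eval_map, Polynomial.eval₂_at_one, eval_one_tau, Polynomial.eval_zero] at this
    rw [h3] at hs
    exact (IsLocalization.map_units L s).mul_left_eq_zero.1 hs
  · intro k x hx
    rw [IsLocalization.Away.lift_eq]
    obtain ⟨q, hq⟩ := X_pow_dvd_tau R N ℓ hℓ hx
    refine ⟨((q.map (algebraMap _ L) : L[X]) : PowerSeries L), ?_⟩
    rw [hg, hq, Polynomial.map_mul, Polynomial.map_pow, Polynomial.map_X, Polynomial.coe_mul,
      Polynomial.coe_pow, Polynomial.coe_X]

end Flow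

end Groth.Agent.H9.EB
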