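import Mathlib
import Groth.Agent.Lib.Helper9.Misc.EBA

/-!
# Helper9: EBA2 — algebraization with general truncation rings (for S18302)
-/

set_option autoImplicit false

namespace Groth.Agent.H9.EB

open MonoidAlgebra

section AAL2

variable (R : Type*) [CommRing R] {M : Type} [AddCommGroup M] (N : AddSubmonoid M) (ℓ : M →+ ℤ)
  (hℓ : ∀ n ∈ N, 0 ≤ ℓ n)

/-- algebraization: a compatible system of ring maps `β k : B → D k` to rings `D k` which are
quotients of `R[N]` by `I_{k+s}`, with uniformly bounded supports, comes from a ring map to `R[N]` -/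
theorem exists_algebraization' {B : Type*} [CommRing B] (s : ℕ) (D : ℕ → Type*)
    [∀ k, CommRing (D k)]
    (π : ∀ k : ℕ, MonoidAlgebra R (Multiplicative ↥N) →+* D k)
    (hπ : ∀ (k : ℕ) (c : MonoidAlgebra R (Multiplicative ↥N)),
      π k c = 0 ↔ c ∈ Ik R N ℓ hℓ (k + s))
    (β : ∀ k : ℕ, B →+* D k)
    (hcompat : ∀ (k : ℕ) (b : B) (c : MonoidAlgebra R (Multiplicative ↥N)),
      π (k + 1) c = β (k + 1) b → π k c = β k b)
    (hsupp : ∀ b : B, ∃ F : Finset M, ∀ k : ℕ, ∃ c : MonoidAlgebra R (Multiplicative ↥N),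
      (∀ n ∈ c.coeff.support, ((Multiplicative.toAdd n : ↥N) : M) ∈ F) ∧ π k c = β k b) :
    ∃ β' : B →+* MonoidAlgebra R (Multiplicative ↥N), ∀ (k : ℕ) (b : B), π k (β' b) = β k b := by
  have hπ' : ∀ (k : ℕ) (c c' : MonoidAlgebra R (Multiplicative ↥N)),
      π k c = π k c' ↔ c - c' ∈ Ik R N ℓ hℓ (k + s) := by
    intro k c c'
    rw [← hπ, map_sub, sub_eq_zero]
  have inj : ∀ c c' : MonoidAlgebra R (Multiplicative ↥N), (∀ k, π k c = π k c') → c = c' := by
    intro c c' h
    rw [← sub_eq_zero]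
    apply eq_zero_of_forall_mem_Ik R N ℓ hℓ
    intro k
    exact Ik_antitone R N ℓ hℓ (Nat.le_add_right k s) ((hπ' k c c').1 (h k))
  have hcompat' : ∀ (k k' : ℕ), k ≤ k' → ∀ (b : B) (c : MonoidAlgebra R (Multiplicative ↥N)),
      π k' c = β k' b → π k c = β k b := by
    intro k k' hkk'
    induction k', hkk' using Nat.le_induction with
    | base => intro b c h; exact h
    | succ k' hk' ih => intro b c h; exact ih b c (hcompat k' b c h)
  have key : ∀ b : B, ∃ c : MonoidAlgebra R (Multiplicative ↥N), ∀ k : ℕ, π k c = β k b := by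
    intro b
    obtain ⟨F, hF⟩ := hsupp b
    obtain ⟨K, hK⟩ : ∃ K : ℕ, ∀ m ∈ F, ℓ m < K := by
      refine ⟨F.sup (fun m => (ℓ m).toNat) + 1, fun m hm => ?_⟩
      have h1 := Finset.le_sup (f := fun m => (ℓ m).toNat) hm
      have h2 := Int.self_le_toNat (ℓ m)
      push_cast
      have h3 : ((ℓ m).toNat : ℤ) ≤ (F.sup (fun m => (ℓ m).toNat) : ℕ) := by exact_mod_cast h1
      omega
    obtain ⟨cK, hcK, hcK'⟩ := hF K
    refine ⟨cK, fun k => ?_⟩
    rcases le_total k K with hk | hk
    · exact hcompat' k K hk b cK hcK'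
    · obtain ⟨ck, hck, hck'⟩ := hF k
      have h1 : π K ck = β K b := hcompat' K k hk b ck hck'
      have h2 : ck - cK ∈ Ik R N ℓ hℓ (K + s) := (hπ' K ck cK).1 (h1.trans hcK'.symm)
      have h3 : ck - cK = 0 := by
        apply eq_zero_of_mem_Ik R N ℓ hℓ h2
        intro n hn
        classical
        have hn' : n ∈ ck.coeff.support ∪ cK.coeff.support := by
          rw [coeff_sub] at hn
          exact Finsupp.support_sub hn
        have : ((K : ℕ) : ℤ) ≤ ((K + s : ℕ) : ℤ) := by push_cast; omega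
        rcases Finset.mem_union.1 hn' with h | h
        · exact lt_of_lt_of_le (hK _ (hck n h)) this
        · exact lt_of_lt_of_le (hK _ (hcK n h)) this
      rw [← sub_eq_zero.1 h3]
      exact hck'
  choose β' hβ' using key
  refine ⟨
    { toFun := β'
      map_one' := ?_
      map_mul' := ?_
      map_zero' := ?_
      map_add' := ?_ }, fun k b => hβ' b k⟩
  · apply inj
    intro k
    rw [hβ', map_one, map_one]
  · intro x y
    apply inj
    intro k
    rw [hβ', map_mul, map_mul, hβ', hβ']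
  · apply inj
    intro k
    rw [hβ', map_zero, map_zero]
  · intro x y
    apply inj
    intro k
    rw [hβ', map_add, map_add, hβ', hβ']

end AAL2

end Groth.Agent.H9.EB
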