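import Mathlib

set_option autoImplicit false
set_option linter.style.haveILetI false
set_option linter.unusedSectionVars false
set_option linter.unusedVariables false

open CategoryTheory CategoryTheory.Limits AlgebraicGeometry

namespace Groth.Agent.H9.NKB
universe u

/-- the kernel of the base change of `Spec A/I → Spec A` (`I` nilpotent) to an affine scheme
`Spec C` is nilpotent. -/
theorem isNilpotent_ker_of_isPullback {A C : CommRingCat.{u}} (I : Ideal A) (n : ℕ)
    (hI : I ^ n = ⊥) {Z' : Scheme.{u}} (j : Z' ⟶ Spec C)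
    (q : Z' ⟶ Spec (CommRingCat.of (A ⧸ I))) (g : Spec C ⟶ Spec A)
    (hpb : IsPullback j q g (Spec.map (CommRingCat.ofHom (Ideal.Quotient.mk I)))) :
    IsNilpotent j.ker := by
  obtain ⟨γ, rfl⟩ := Spec.map_surjective g
  set J : Ideal C := Ideal.map γ.hom I with hJ
  let m : Spec (CommRingCat.of (C ⧸ J)) ⟶ Spec C := Spec.map (CommRingCat.ofHom (Ideal.Quotient.mk J))
  let q' : Spec (CommRingCat.of (C ⧸ J)) ⟶ Spec (CommRingCat.of (A ⧸ I)) :=
    Spec.map (CommRingCat.ofHom (Ideal.quotientMap J γ.hom Ideal.le_comap_map))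
  have hcomm : m ≫ Spec.map γ = q' ≫ Spec.map (CommRingCat.ofHom (Ideal.Quotient.mk I)) := by
    rw [← Spec.map_comp, ← Spec.map_comp]
    congr 1
  obtain ⟨s, hs, -⟩ : ∃ s, s ≫ j = m ∧ s ≫ q = q' := ⟨hpb.lift m q' hcomm, hpb.lift_fst _ _ _,
    hpb.lift_snd _ _ _⟩
  have hJn : J ^ n = ⊥ := by
    rw [hJ, ← Ideal.map_pow, hI, Ideal.map_bot]
  refine ⟨n, ?_⟩
  rw [Scheme.ker_of_isAffine, ← Scheme.IdealSheafData.equivOfIsAffine_symm_apply, ← map_pow]
  suffices hsuff : RingHom.ker j.appTop.hom ^ n = ⊥ by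
    rw [hsuff, ← Ideal.zero_eq_bot, map_zero]
  rw [eq_bot_iff]
  have hK : RingHom.ker j.appTop.hom ≤ J.comap (Scheme.ΓSpecIso C).hom.hom := by
    intro c hc
    rw [RingHom.mem_ker] at hc
    rw [Ideal.mem_comap, ← Ideal.Quotient.eq_zero_iff_mem]
    have h1 : m.appTop.hom c = 0 := by
      rw [← hs, Scheme.Hom.comp_appTop, CommRingCat.hom_comp, RingHom.comp_apply, hc, map_zero]
    have h2 := congrArg (fun t => t.hom c)
      (Scheme.ΓSpecIso_naturality (CommRingCat.ofHom (Ideal.Quotient.mk J)))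
    simp only [CommRingCat.hom_comp, RingHom.comp_apply] at h2
    have h3 : (Spec.map (CommRingCat.ofHom (Ideal.Quotient.mk J))).appTop.hom c = 0 := h1
    rw [h3, map_zero] at h2
    exact h2.symm
  refine (Ideal.pow_right_mono hK n).trans ((Ideal.le_comap_pow _ n).trans ?_)
  rw [hJn]
  intro x hx
  rw [Ideal.mem_comap, Ideal.mem_bot] at hx
  rw [Ideal.mem_bot]
  exact (Scheme.ΓSpecIso C).commRingCatIsoToRingEquiv.injective (by rw [map_zero]; exact hx)

end Groth.Agent.H9.NKB
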