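import Mathlib
import Groth.Prelude.Def_Magnet3
import Groth.Agent.Lib.Helper9.Misc.NKB1

set_option autoImplicit false
set_option linter.style.haveILetI false
set_option linter.unusedSectionVars false
set_option linter.unusedVariables false

open CategoryTheory CategoryTheory.Limits AlgebraicGeometry MonoidalCategory
  CartesianMonoidalCategory MonObj Opposite

namespace Groth.Agent.H9.MGU
universe u

/-- the whiskering square is cartesian. -/
theorem isPullback_whiskerLeft {S : Scheme.{u}} (B : Over S) {T T' : Over S} (i : T ⟶ T') :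
    IsPullback (B ◁ i).left (snd B T).left (snd B T').left i.left := by
  have hright : IsPullback (fst B T').left (snd B T').left B.hom T'.hom :=
    IsPullback.of_hasPullback B.hom T'.hom
  have houter : IsPullback ((B ◁ i).left ≫ (fst B T').left) (snd B T).left B.hom
      (i.left ≫ T'.hom) := by
    have h1 : (B ◁ i).left ≫ (fst B T').left = (fst B T).left := by
      rw [← Over.comp_left, whiskerLeft_fst]
    rw [h1, Over.w i]
    exact IsPullback.of_hasPullback B.hom T.hom
  refine IsPullback.of_right houter ?_ hright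
  rw [← Over.comp_left, whiskerLeft_snd, Over.comp_left]

theorem affine_tensor {S : Scheme.{u}} (B : Over S) [IsAffineHom B.hom] (T' : Over S)
    [IsAffine T'.left] : IsAffine (B ⊗ T').left := by
  have : (B ⊗ T').left = pullback B.hom T'.hom := rfl
  rw [this]
  exact isAffine_of_isAffineHom (pullback.snd B.hom T'.hom)

/-- general form: uniqueness of lifts along a nilpotent closed immersion base changed. -/
theorem hom_ext_thickening_aux {S : Scheme.{u}} (B : Over S) [IsAffineHom B.hom] {X Y : Over S}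
    (f : X ⟶ Y) [FormallyUnramified f.left] (A : CommRingCat.{u}) (I : Ideal A)
    (hI : I ^ 2 = ⊥) {T T' : Over S} (i : T ⟶ T') (eT : T.left ≅ Spec (CommRingCat.of (A ⧸ I)))
    (eT' : T'.left ≅ Spec A)
    (hi : i.left ≫ eT'.hom = eT.hom ≫ Spec.map (CommRingCat.ofHom (Ideal.Quotient.mk I)))
    (l₁ l₂ : B ⊗ T' ⟶ X)
    (htop : (B ◁ i) ≫ l₁ = (B ◁ i) ≫ l₂)
    (hbot : l₁ ≫ f = l₂ ≫ f) : l₁ = l₂ := by
  haveI : IsAffine T'.left := .of_isIso eT'.hom
  haveI : IsAffine (B ⊗ T').left := affine_tensor B T'
  let e := (B ⊗ T').left.isoSpec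
  have hpb₀ := isPullback_whiskerLeft B i
  have hpb : IsPullback ((B ◁ i).left ≫ e.hom) ((snd B T).left ≫ eT.hom)
      (e.inv ≫ (snd B T').left ≫ eT'.hom)
      (Spec.map (CommRingCat.ofHom (Ideal.Quotient.mk I))) := by
    have hr : IsPullback e.hom ((snd B T').left) (e.inv ≫ (snd B T').left ≫ eT'.hom) eT'.hom :=
      IsPullback.of_horiz_isIso ⟨by rw [Iso.hom_inv_id_assoc]⟩
    have h2 := hpb₀.paste_horiz hr
    have hl : IsPullback (𝟙 (B ⊗ T).left) ((snd B T).left) ((snd B T).left ≫ eT.hom) eT.hom :=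
      IsPullback.of_horiz_isIso ⟨by rw [Category.id_comp]⟩
    -- need different pasting: vertical
    have h3 : IsPullback ((B ◁ i).left ≫ e.hom) ((snd B T).left) (e.inv ≫ (snd B T').left ≫ eT'.hom)
        (i.left ≫ eT'.hom) := h2
    rw [hi] at h3
    exact IsPullback.of_iso h3 (Iso.refl _) (Iso.refl _) eT (Iso.refl _) (by simp) (by simp)
      (by simp) (by simp)
  have hnil : IsNilpotent ((B ◁ i).left ≫ e.hom).ker :=
    Groth.Agent.H9.NKB.isNilpotent_ker_of_isPullback (A := A) (C := Γ((B ⊗ T').left, ⊤)) I 2 hI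
      ((B ◁ i).left ≫ e.hom) ((snd B T).left ≫ eT.hom) (e.inv ≫ (snd B T').left ≫ eT'.hom) hpb
  haveI hci₀ : IsClosedImmersion (B ◁ i).left := by
    have hci1 : IsClosedImmersion ((B ◁ i).left ≫ e.hom) :=
      MorphismProperty.of_isPullback (P := @IsClosedImmersion) hpb.flip
        (IsClosedImmersion.spec_of_surjective _ Ideal.Quotient.mk_surjective)
    have : (B ◁ i).left = ((B ◁ i).left ≫ e.hom) ≫ e.inv := by
      rw [Category.assoc, Iso.hom_inv_id, Category.comp_id]
    rw [this]
    infer_instance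
  haveI : IsClosedImmersion ((B ◁ i).left ≫ e.hom) := inferInstance
  have key := FormallyUnramified.hom_ext ((B ◁ i).left ≫ e.hom) hnil f.left
    (g₁ := e.inv ≫ l₁.left) (g₂ := e.inv ≫ l₂.left)
    (by
      rw [Category.assoc, Category.assoc, Iso.hom_inv_id_assoc, Iso.hom_inv_id_assoc,
        ← Over.comp_left, ← Over.comp_left, htop])
    (by
      rw [Category.assoc, Category.assoc, ← Over.comp_left, ← Over.comp_left, hbot])
  ext : 1
  exact (cancel_epi e.inv).mp key

end Groth.Agent.H9.MGU
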