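import Mathlib
import Groth.Prelude.Def_Magnet3
import Groth.Agent.Lib.Helper9.Misc.NKB1
import Groth.Agent.Lib.Helper9.Misc.MGU1

set_option autoImplicit false
set_option linter.style.haveILetI false
set_option linter.unusedSectionVars false
set_option linter.unusedVariables false

open CategoryTheory CategoryTheory.Limits AlgebraicGeometry MonoidalCategory
  CartesianMonoidalCategory MonObj Opposite

namespace Groth.Agent.H9.MGU
universe u

instance isAffineHom_AMonS (S : Scheme.{u}) (N : Type) [AddCommMonoid N] :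
    IsAffineHom (Magnet.AMonS S N).hom := by
  change IsAffineHom (pullback.snd _ _)
  have : IsAffineHom (Magnet.AMon (ULift.{u} ℤ) N).hom := by
    change IsAffineHom (Spec.map _)
    infer_instance
  exact MorphismProperty.pullback_snd (P := @IsAffineHom) _ _ this

theorem S18232_main (S : Scheme.{u}) (M : Type) [AddCommGroup M]
    [AddGroup.FG M] (N : AddSubmonoid M) {X Y : Over S} (aX : Magnet.MonAct (Magnet.AMonS S M) X)
    (aY : Magnet.MonAct (Magnet.AMonS S M) Y) (f : X ⟶ Y) (hf : Magnet.MonAct.IsEquivariant aX aY f)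
    [FormallyUnramified f.left] (A : Type u) [CommRing A] (I : Ideal A) (hI : I ^ 2 = ⊥)
    (str : Spec (CommRingCat.of A) ⟶ S) (l₁ l₂ : (Magnet.attr aX N).obj (op (Over.mk str)))
    (htop : (Magnet.attr aX N).map (Over.homMk (Spec.map (CommRingCat.ofHom (Ideal.Quotient.mk I))) rfl :
        Over.mk (Spec.map (CommRingCat.ofHom (Ideal.Quotient.mk I)) ≫ str) ⟶ Over.mk str).op l₁ =
      (Magnet.attr aX N).map (Over.homMk (Spec.map (CommRingCat.ofHom (Ideal.Quotient.mk I))) rfl :
        Over.mk (Spec.map (CommRingCat.ofHom (Ideal.Quotient.mk I)) ≫ str) ⟶ Over.mk str).op l₂)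
    (hbot : (Magnet.MonAct.eqvHom.postcomp (Magnet.subAct S M N) f hf).app _ l₁ =
      (Magnet.MonAct.eqvHom.postcomp (Magnet.subAct S M N) f hf).app _ l₂) :
    l₁ = l₂ := by
  apply Subtype.ext
  refine hom_ext_thickening_aux (Magnet.AMonS S N) f (CommRingCat.of A) I hI
    (Over.homMk (Spec.map (CommRingCat.ofHom (Ideal.Quotient.mk I))) rfl :
        Over.mk (Spec.map (CommRingCat.ofHom (Ideal.Quotient.mk I)) ≫ str) ⟶ Over.mk str)
    (Iso.refl _) (Iso.refl _) ?_ l₁.1 l₂.1 ?_ ?_
  · simp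
  · exact congrArg Subtype.val htop
  · exact congrArg Subtype.val hbot

theorem S18234_main (S : Scheme.{u}) (M : Type) [AddCommGroup M]
    [AddGroup.FG M] (N : AddSubmonoid M) {X Y : Over S} (aX : Magnet.MonAct (Magnet.AMonS S M) X)
    (aY : Magnet.MonAct (Magnet.AMonS S M) Y) (f : X ⟶ Y) (hf : Magnet.MonAct.IsEquivariant aX aY f)
    [FormallyUnramified f.left] {ZX ZY : Over S} (eX : (Magnet.attr aX N).RepresentableBy ZX)
    (eY : (Magnet.attr aY N).RepresentableBy ZY)
    (j : ZX ⟶ ZY) (hj : ∀ (T : Over S) (z : T ⟶ ZX),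
      eY.homEquiv (z ≫ j) = (Magnet.MonAct.eqvHom.postcomp (Magnet.subAct S M N) f hf).app (op T)
        (eX.homEquiv z)) :
    FormallyUnramified j.left := by
  refine FormallyUnramified.of_hom_ext j.left ?_
  intro R S' φ hφ hker g₁ g₂ h1 h2
  -- factor φ
  let I : Ideal R := RingHom.ker φ.hom
  let ψ : R ⧸ I ≃+* S' := RingHom.quotientKerEquivOfSurjective hφ
  have hfac : φ = CommRingCat.ofHom (Ideal.Quotient.mk I) ≫ CommRingCat.ofHom ψ.toRingHom := by
    ext x
    simp [ψ, I]
  have h1' : Spec.map (CommRingCat.ofHom (Ideal.Quotient.mk I)) ≫ g₁ =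
      Spec.map (CommRingCat.ofHom (Ideal.Quotient.mk I)) ≫ g₂ := by
    haveI : IsIso (CommRingCat.ofHom ψ.toRingHom) :=
      ⟨⟨CommRingCat.ofHom ψ.symm.toRingHom, by ext x; simp, by ext x; simp⟩⟩
    rw [hfac, Spec.map_comp, Category.assoc, Category.assoc] at h1
    exact (cancel_epi _).mp h1
  have hstr : g₂ ≫ ZX.hom = g₁ ≫ ZX.hom := by
    rw [← Over.w j, ← Category.assoc, ← Category.assoc, h2]
  let str : Spec (CommRingCat.of R) ⟶ S := g₁ ≫ ZX.hom
  let z₁ : Over.mk str ⟶ ZX := Over.homMk g₁ rfl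
  let z₂ : Over.mk str ⟶ ZX := Over.homMk g₂ hstr
  have key := S18232_main S M N aX aY f hf R I hker str (eX.homEquiv z₁) (eX.homEquiv z₂) ?_ ?_
  · have hz : z₁ = z₂ := eX.homEquiv.injective key
    exact congrArg CommaMorphism.left hz
  · rw [← eX.homEquiv_comp, ← eX.homEquiv_comp]
    congr 1
    ext : 1
    exact h1'
  · rw [← hj, ← hj]
    congr 1
    ext : 1
    exact h2

end Groth.Agent.H9.MGU
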