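import Mathlib
import Groth.Prelude.Def_Magnet4
import Groth.Agent.Lib.Helper9.Misc.MagDef

/-! Helper9: the face projection `X^N ⟶ X^{N*}` has connected fibres and induces a bijection on
connected components, by the `𝔸¹`-homotopy contracting `X^N` onto `X^{N*}` (S18242). -/

set_option linter.style.haveILetI false
set_option linter.unusedSectionVars false
set_option autoImplicit false

namespace Groth.Agent.H9.MagConn

universe u

open CategoryTheory CategoryTheory.Limits AlgebraicGeometry MonoidalCategory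
  CartesianMonoidalCategory MonObj Opposite
open Magnet
open Groth.Agent.H9.MagKun Groth.Agent.H9.MagChr Groth.Agent.H9.MagPts Groth.Agent.H9.MagPush
  Groth.Agent.H9.MagDef

section Top

theorem range_isPreconnected (L : Type u) [Field L] {Y : Scheme.{u}}
    (h : Spec (CommRingCat.of (Polynomial L)) ⟶ Y) : _root_.IsPreconnected (Set.range h) := by
  haveI : PreconnectedSpace ↥(Spec (CommRingCat.of (Polynomial L))) :=
    inferInstanceAs (PreconnectedSpace (PrimeSpectrum (Polynomial L)))
  exact isPreconnected_range h.continuous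

theorem eval_comp_C (L : Type u) [Field L] (r : L) :
    Spec.map (CommRingCat.ofHom (Polynomial.evalRingHom r)) ≫
      Spec.map (CommRingCat.ofHom (Polynomial.C : L →+* Polynomial L)) = 𝟙 _ := by
  rw [← Spec.map_comp, ← CommRingCat.ofHom_comp]
  have : (Polynomial.evalRingHom r).comp (Polynomial.C : L →+* Polynomial L) = RingHom.id L := by
    ext x
    simp
  rw [this]
  exact Spec.map_id _

theorem mem_range_eval (L : Type u) [Field L] {Y : Scheme.{u}}
    (h : Spec (CommRingCat.of (Polynomial L)) ⟶ Y) (r : L) (z : Spec (CommRingCat.of L) ⟶ Y)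
    (hz : Spec.map (CommRingCat.ofHom (Polynomial.evalRingHom r)) ≫ h = z)
    (pt : Spec (CommRingCat.of L)) : z pt ∈ Set.range h :=
  ⟨Spec.map (CommRingCat.ofHom (Polynomial.evalRingHom r)) pt, by
    rw [← Scheme.Hom.comp_apply, hz]⟩

theorem lemmaA {ZN Z0 : Scheme.{u}} (j : ZN ⟶ Z0) (s : Z0 ⟶ ZN) (hs : s ≫ j = 𝟙 Z0)
    (H : ∀ (L : Type u) [Field L] (z : Spec (CommRingCat.of L) ⟶ ZN),
      ∃ h : Spec (CommRingCat.of (Polynomial L)) ⟶ ZN,
        Spec.map (CommRingCat.ofHom (Polynomial.evalRingHom (1 : L))) ≫ h = z ∧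
        Spec.map (CommRingCat.ofHom (Polynomial.evalRingHom (0 : L))) ≫ h = z ≫ j ≫ s ∧
        h ≫ j = Spec.map (CommRingCat.ofHom (Polynomial.C : L →+* Polynomial L)) ≫ z ≫ j) :
    (∀ (K : Type u) [Field K] (k : Spec (CommRingCat.of K) ⟶ Z0),
        ConnectedSpace ↥(pullback j k)) ∧
      Function.Bijective (Continuous.connectedComponentsMap j.continuous) := by
  have star : ∀ y : ZN, connectedComponent y = connectedComponent (s (j y)) := by
    intro y
    obtain ⟨h, h1, h0, -⟩ := H (ZN.residueField y) (ZN.fromSpecResidueField y)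
    have hpre := range_isPreconnected _ h
    let pt : Spec (CommRingCat.of (ZN.residueField y)) :=
      (default : PrimeSpectrum (ZN.residueField y))
    have m1 : y ∈ Set.range h := by
      have := mem_range_eval _ h 1 _ h1 pt
      rwa [Scheme.fromSpecResidueField_apply] at this
    have m0 : s (j y) ∈ Set.range h := by
      have := mem_range_eval _ h 0 _ h0 pt
      rwa [Scheme.Hom.comp_apply, Scheme.Hom.comp_apply, Scheme.fromSpecResidueField_apply]
        at this
    exact connectedComponent_eq (hpre.subset_connectedComponent m1 m0)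
  refine ⟨?_, ?_, ?_⟩
  · intro K _ k
    have hσ : (k ≫ s) ≫ j = 𝟙 _ ≫ k := by
      rw [Category.assoc, hs, Category.comp_id, Category.id_comp]
    obtain ⟨σ, hσ1, hσ2⟩ : ∃ σ : Spec (CommRingCat.of K) ⟶ pullback j k,
        σ ≫ pullback.fst j k = k ≫ s ∧ σ ≫ pullback.snd j k = 𝟙 _ :=
      ⟨pullback.lift (k ≫ s) (𝟙 _) hσ, pullback.lift_fst _ _ _, pullback.lift_snd _ _ _⟩
    let pt0 : Spec (CommRingCat.of K) := (default : PrimeSpectrum K)
    have key : ∀ φ : ↥(pullback j k), ∃ t : Set ↥(pullback j k),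
        σ pt0 ∈ t ∧ φ ∈ t ∧ _root_.IsPreconnected t := by
      intro φ
      obtain ⟨h, h1, h0, hj⟩ := H ((pullback j k).residueField φ)
        ((pullback j k).fromSpecResidueField φ ≫ pullback.fst j k)
      have hc : h ≫ j = (Spec.map (CommRingCat.ofHom (Polynomial.C :
          ((pullback j k).residueField φ) →+* Polynomial ((pullback j k).residueField φ))) ≫
          (pullback j k).fromSpecResidueField φ ≫ pullback.snd j k) ≫ k := by
        rw [hj, Category.assoc, Category.assoc, Category.assoc, pullback.condition]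
      obtain ⟨h', hh1, hh2⟩ : ∃ h' : Spec (CommRingCat.of
          (Polynomial ((pullback j k).residueField φ))) ⟶ pullback j k,
          h' ≫ pullback.fst j k = h ∧ h' ≫ pullback.snd j k =
            Spec.map (CommRingCat.ofHom (Polynomial.C :
              ((pullback j k).residueField φ) →+* Polynomial ((pullback j k).residueField φ))) ≫
            (pullback j k).fromSpecResidueField φ ≫ pullback.snd j k :=
        ⟨pullback.lift h _ hc, pullback.lift_fst _ _ _, pullback.lift_snd _ _ _⟩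
      have e1 : Spec.map (CommRingCat.ofHom (Polynomial.evalRingHom
          (1 : (pullback j k).residueField φ))) ≫ h' = (pullback j k).fromSpecResidueField φ := by
        apply pullback.hom_ext
        · rw [Category.assoc, hh1, h1]
        · rw [Category.assoc, hh2, ← Category.assoc, eval_comp_C, Category.id_comp]
      have e0 : Spec.map (CommRingCat.ofHom (Polynomial.evalRingHom
          (0 : (pullback j k).residueField φ))) ≫ h' =
          (pullback j k).fromSpecResidueField φ ≫ pullback.snd j k ≫ σ := by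
        apply pullback.hom_ext
        · rw [Category.assoc, hh1, h0, Category.assoc, Category.assoc, Category.assoc, hσ1,
            pullback.condition_assoc]
        · rw [Category.assoc, hh2, ← Category.assoc, eval_comp_C, Category.id_comp,
            Category.assoc, Category.assoc, hσ2, Category.comp_id]
      let ptL : Spec (CommRingCat.of ((pullback j k).residueField φ)) :=
        (default : PrimeSpectrum ((pullback j k).residueField φ))
      refine ⟨Set.range h', ?_, ?_, range_isPreconnected _ h'⟩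
      · refine ⟨Spec.map (CommRingCat.ofHom (Polynomial.evalRingHom
          (0 : (pullback j k).residueField φ))) ptL, ?_⟩
        rw [← Scheme.Hom.comp_apply, e0, Scheme.Hom.comp_apply, Scheme.Hom.comp_apply]
        congr 1
        exact Subsingleton.elim (α := PrimeSpectrum K) _ _
      · have := mem_range_eval _ h' 1 _ e1 ptL
        rwa [Scheme.fromSpecResidueField_apply] at this
    exact
      { toPreconnectedSpace := ⟨isPreconnected_of_forall (σ pt0) (fun φ _ => by
          obtain ⟨t, h1, h2, h3⟩ := key φ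
          exact ⟨t, Set.subset_univ _, h1, h2, h3⟩)⟩
        toNonempty := ⟨σ pt0⟩ }
  · intro c c' hcc
    obtain ⟨y, rfl⟩ := ConnectedComponents.surjective_coe c
    obtain ⟨y', rfl⟩ := ConnectedComponents.surjective_coe c'
    have h1 : connectedComponent (j y) = connectedComponent (j y') :=
      ConnectedComponents.coe_eq_coe.mp hcc
    have h2 : connectedComponent (s (j y)) = connectedComponent (s (j y')) := by
      have hpre : _root_.IsPreconnected (s '' connectedComponent (j y)) :=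
        isPreconnected_connectedComponent.image _ s.continuous.continuousOn
      have ma : s (j y) ∈ s '' connectedComponent (j y) := ⟨_, mem_connectedComponent, rfl⟩
      have mb : s (j y') ∈ s '' connectedComponent (j y) :=
        ⟨j y', by rw [h1]; exact mem_connectedComponent, rfl⟩
      exact connectedComponent_eq (hpre.subset_connectedComponent ma mb)
    exact ConnectedComponents.coe_eq_coe.mpr ((star y).trans (h2.trans (star y').symm))
  · intro c
    obtain ⟨w, rfl⟩ := ConnectedComponents.surjective_coe c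
    refine ⟨ConnectedComponents.mk (s w), ?_⟩
    rw [Continuous.connectedComponentsMap_mk]
    congr 1
    rw [← Scheme.Hom.comp_apply, hs]
    rfl

end Top

section Homotopy

variable {S : Scheme.{u}} {M : Type} [AddCommMonoid M] {N F : AddSubmonoid M}
variable (ℓ : ↥N →+ ℕ) {X : Over S} (a : MonAct (AMonS S M) X)

theorem face_mc (hF : IsFace N F) (hℓ : ∀ n : ↥N, (n : M) ∈ F → ℓ n = 0) {T : Over S}
    (c : Γ(T.left, ⊤)) :
    (AMonS.faceMap S hF ▷ T) ≫ mc ℓ c = AMonS.faceMap S hF ▷ T := by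
  apply CartesianMonoidalCategory.hom_ext
  · rw [Category.assoc, mc_fst, MonObj.comp_mul, whiskerRight_snd_assoc, whiskerRight_fst]
    apply chr_injective
    apply MonoidHom.ext
    intro n
    rw [chr_mul, chr_precomp, chr_pc]
    by_cases h : ((Multiplicative.toAdd n : ↥N) : M) ∈ F
    · rw [hℓ _ h, pow_zero, map_one, _root_.one_mul]
    · rw [chr_faceMap_of_not_mem hF _ n h, mul_zero]
  · rw [Category.assoc, mc_snd]

theorem delta_nat {T T' : Over S} (t : T' ⟶ T) (x : (attr a N).obj (op T)) (c : Γ(T.left, ⊤)) :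
    delta ℓ a T' ((attr a N).map t.op x) (t.left.appTop.hom c) =
      (attr a N).map t.op (delta ℓ a T x c) := by
  apply Subtype.ext
  change mc ℓ (t.left.appTop.hom c) ≫ (AMonS S ↥N ◁ t) ≫ x.1 =
    (AMonS S ↥N ◁ t) ≫ mc ℓ c ≫ x.1
  rw [← Category.assoc, mc_whiskerLeft, Category.assoc]

theorem delta_zero (hF : IsFace N F) (hℓ : ∀ n : ↥N, ℓ n = 0 ↔ (n : M) ∈ F) {T : Over S}
    (x : (attr a N).obj (op T)) :
    delta ℓ a T x 0 = (attrMap a hF.le).app (op T) ((attrFace a hF).app (op T) x) := by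
  apply Subtype.ext
  change mc ℓ 0 ≫ x.1 = (AMonS.map S (AddSubmonoid.inclusion hF.le) ▷ T) ≫
    (AMonS.faceMap S hF ▷ T) ≫ x.1
  rw [mc_zero ℓ hF hℓ, Category.assoc]

theorem delta_one {T : Over S} (x : (attr a N).obj (op T)) : delta ℓ a T x 1 = x := by
  apply Subtype.ext
  change mc ℓ 1 ≫ x.1 = x.1
  rw [mc_one, Category.id_comp]

theorem delta_face (hF : IsFace N F) (hℓ : ∀ n : ↥N, (n : M) ∈ F → ℓ n = 0) {T : Over S}
    (x : (attr a N).obj (op T)) (c : Γ(T.left, ⊤)) :
    (attrFace a hF).app (op T) (delta ℓ a T x c) = (attrFace a hF).app (op T) x := by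
  apply Subtype.ext
  change (AMonS.faceMap S hF ▷ T) ≫ mc ℓ c ≫ x.1 = (AMonS.faceMap S hF ▷ T) ≫ x.1
  rw [← Category.assoc, face_mc ℓ hF hℓ]

end Homotopy

theorem exists_height {M : Type} [AddCommGroup M] [AddGroup.FG M] {N F : AddSubmonoid M}
    (hN : N.FG) (hF : IsFace N F) : ∃ ℓ : ↥N →+ ℕ, ∀ n : ↥N, ℓ n = 0 ↔ (n : M) ∈ F := by
  obtain ⟨ℓ₀, h1, h2⟩ := MagGor.exists_face_height hN hF.le hF.mem_of_add_mem
  let ℓ : ↥N →+ ℕ :=
    { toFun := fun n => (ℓ₀ (n : M)).toNat
      map_zero' := by simp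
      map_add' := fun x y => by
        rw [AddSubmonoid.coe_add, map_add, Int.toNat_add (h1 x x.2) (h1 y y.2)] }
  refine ⟨ℓ, fun n => ?_⟩
  change (ℓ₀ (n : M)).toNat = 0 ↔ _
  rw [Int.toNat_eq_zero, ← h2 n n.2]
  constructor
  · intro h
    exact le_antisymm h (h1 n n.2)
  · intro h
    exact h.le

section Main

variable {S : Scheme.{u}} {M : Type} [AddCommGroup M] {N F : AddSubmonoid M}
variable {X : Over S} (a : MonAct (AMonS S M) X)

theorem path_aux (hF : IsFace N F) (ℓ : ↥N →+ ℕ) (hℓ : ∀ n : ↥N, ℓ n = 0 ↔ (n : M) ∈ F)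
    {ZN Z0 : Over S} (eN : (attr a N).RepresentableBy ZN) (e0 : (attr a F).RepresentableBy Z0)
    (j : ZN ⟶ Z0)
    (hj : ∀ (T : Over S) (z : T ⟶ ZN),
      e0.homEquiv (z ≫ j) = (attrFace a hF).app (op T) (eN.homEquiv z))
    (s : Z0 ⟶ ZN)
    (hs : ∀ (T : Over S) (w : T ⟶ Z0),
      eN.homEquiv (w ≫ s) = (attrMap a hF.le).app (op T) (e0.homEquiv w))
    {TL T : Over S} (zO : TL ⟶ ZN) (πO : T ⟶ TL) (e₁ e₀ : TL ⟶ T) (h₁ : e₁ ≫ πO = 𝟙 TL)
    (h₀ : e₀ ≫ πO = 𝟙 TL) (c : Γ(T.left, ⊤)) (hc₁ : e₁.left.appTop.hom c = 1)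
    (hc₀ : e₀.left.appTop.hom c = 0) :
    ∃ hO : T ⟶ ZN, e₁ ≫ hO = zO ∧ e₀ ≫ hO = zO ≫ j ≫ s ∧ hO ≫ j = πO ≫ zO ≫ j := by
  refine ⟨eN.homEquiv.symm (delta ℓ a T (eN.homEquiv (πO ≫ zO)) c), ?_, ?_, ?_⟩
  · apply eN.homEquiv.injective
    rw [eN.homEquiv_comp, Equiv.apply_symm_apply, ← delta_nat, hc₁, delta_one, ← eN.homEquiv_comp,
      ← Category.assoc, h₁, Category.id_comp]
  · apply eN.homEquiv.injective
    rw [eN.homEquiv_comp, Equiv.apply_symm_apply, ← delta_nat, hc₀, delta_zero ℓ a hF hℓ,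
      ← eN.homEquiv_comp, ← Category.assoc e₀, h₀, Category.id_comp, ← Category.assoc zO, hs, hj]
  · apply e0.homEquiv.injective
    rw [hj, Equiv.apply_symm_apply, delta_face ℓ a hF (fun n hn => (hℓ n).mpr hn), ← hj,
      Category.assoc]

theorem appTop_ΓSpecIso_inv {R R' : CommRingCat.{u}} (φ : R ⟶ R') (p : R) :
    (Spec.map φ).appTop.hom ((Scheme.ΓSpecIso R).inv.hom p) =
      (Scheme.ΓSpecIso R').inv.hom (φ.hom p) := by
  have h := Scheme.ΓSpecIso_inv_naturality φ
  exact (DFunLike.congr_fun (congrArg CommRingCat.Hom.hom h) p).symm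

theorem exists_path (hF : IsFace N F) (ℓ : ↥N →+ ℕ) (hℓ : ∀ n : ↥N, ℓ n = 0 ↔ (n : M) ∈ F)
    {ZN Z0 : Over S} (eN : (attr a N).RepresentableBy ZN) (e0 : (attr a F).RepresentableBy Z0)
    (j : ZN ⟶ Z0)
    (hj : ∀ (T : Over S) (z : T ⟶ ZN),
      e0.homEquiv (z ≫ j) = (attrFace a hF).app (op T) (eN.homEquiv z))
    (s : Z0 ⟶ ZN)
    (hs : ∀ (T : Over S) (w : T ⟶ Z0),
      eN.homEquiv (w ≫ s) = (attrMap a hF.le).app (op T) (e0.homEquiv w))
    (L : Type u) [Field L] (z : Spec (CommRingCat.of L) ⟶ ZN.left) :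
    ∃ h : Spec (CommRingCat.of (Polynomial L)) ⟶ ZN.left,
      Spec.map (CommRingCat.ofHom (Polynomial.evalRingHom (1 : L))) ≫ h = z ∧
      Spec.map (CommRingCat.ofHom (Polynomial.evalRingHom (0 : L))) ≫ h = z ≫ j.left ≫ s.left ∧
      h ≫ j.left = Spec.map (CommRingCat.ofHom (Polynomial.C : L →+* Polynomial L)) ≫ z ≫
        j.left := by
  have hw : ∀ r : L, Spec.map (CommRingCat.ofHom (Polynomial.evalRingHom r)) ≫
      (Spec.map (CommRingCat.ofHom (Polynomial.C : L →+* Polynomial L)) ≫ z ≫ ZN.hom) =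
      z ≫ ZN.hom := by
    intro r
    rw [← Category.assoc, eval_comp_C, Category.id_comp]
  have hX : ∀ r : L, (Spec.map (CommRingCat.ofHom (Polynomial.evalRingHom r))).appTop.hom
      ((Scheme.ΓSpecIso (CommRingCat.of (Polynomial L))).inv.hom Polynomial.X) =
      (Scheme.ΓSpecIso (CommRingCat.of L)).inv.hom r := by
    intro r
    rw [appTop_ΓSpecIso_inv]
    congr 1
    simp
  obtain ⟨hO, p1, p0, pj⟩ := path_aux a hF ℓ hℓ eN e0 j hj s hs
    (TL := Over.mk (z ≫ ZN.hom))
    (T := Over.mk (Spec.map (CommRingCat.ofHom (Polynomial.C : L →+* Polynomial L)) ≫ z ≫ ZN.hom))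
    (Over.homMk z rfl) (Over.homMk (Spec.map (CommRingCat.ofHom (Polynomial.C : L →+* Polynomial L))) rfl)
    (Over.homMk (Spec.map (CommRingCat.ofHom (Polynomial.evalRingHom (1 : L)))) (hw 1))
    (Over.homMk (Spec.map (CommRingCat.ofHom (Polynomial.evalRingHom (0 : L)))) (hw 0))
    (Over.OverMorphism.ext (eval_comp_C L 1)) (Over.OverMorphism.ext (eval_comp_C L 0))
    ((Scheme.ΓSpecIso (CommRingCat.of (Polynomial L))).inv.hom Polynomial.X)
    ((hX 1).trans (map_one _)) ((hX 0).trans (map_zero _))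
  exact ⟨hO.left, congrArg Over.Hom.left p1, congrArg Over.Hom.left p0, congrArg Over.Hom.left pj⟩

theorem S18242_main (S : Scheme.{u}) (M : Type) [AddCommGroup M] [AddGroup.FG M]
    (N : AddSubmonoid M) (hN : N.FG) {X : Over S} (a : MonAct (AMonS S M) X) {ZN Z0 : Over S}
    (eN : (attr a N).RepresentableBy ZN)
    (e0 : (attr a (unitFace N)).RepresentableBy Z0) (j : ZN ⟶ Z0)
    (hj : ∀ (T : Over S) (z : T ⟶ ZN), e0.homEquiv (z ≫ j) =
      (attrFace a (isFace_unitFace N)).app (op T) (eN.homEquiv z)) :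
    (∀ (K : Type u) [Field K] (k : Spec (CommRingCat.of K) ⟶ Z0.left),
        ConnectedSpace ↥(Limits.pullback j.left k)) ∧
      Function.Bijective (Continuous.connectedComponentsMap (Scheme.Hom.continuous j.left)) := by
  obtain ⟨ℓ, hℓ⟩ := exists_height hN (isFace_unitFace N)
  obtain ⟨s, hs⟩ : ∃ s : Z0 ⟶ ZN, eN.homEquiv s =
      (attrMap a (isFace_unitFace N).le).app (op Z0) (e0.homEquiv (𝟙 Z0)) :=
    ⟨eN.homEquiv.symm _, Equiv.apply_symm_apply _ _⟩
  have hs' : ∀ (T : Over S) (w : T ⟶ Z0), eN.homEquiv (w ≫ s) =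
      (attrMap a (isFace_unitFace N).le).app (op T) (e0.homEquiv w) := by
    intro T w
    have h1 : (eN.homEquiv (w ≫ s)).1 = (AMonS S ↥N ◁ w) ≫ (eN.homEquiv s).1 :=
      congrArg Subtype.val (eN.homEquiv_comp w s)
    have h2 : (eN.homEquiv s).1 =
        (AMonS.map S (AddSubmonoid.inclusion (isFace_unitFace N).le) ▷ Z0) ≫
          (e0.homEquiv (𝟙 Z0)).1 := congrArg Subtype.val hs
    have h3 : (e0.homEquiv w).1 = (AMonS S ↥(unitFace N) ◁ w) ≫ (e0.homEquiv (𝟙 Z0)).1 := by
      have := congrArg Subtype.val (e0.homEquiv_comp w (𝟙 Z0))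
      rwa [Category.comp_id] at this
    apply Subtype.ext
    change (eN.homEquiv (w ≫ s)).1 =
      (AMonS.map S (AddSubmonoid.inclusion (isFace_unitFace N).le) ▷ T) ≫ (e0.homEquiv w).1
    rw [h1, h2, h3, ← Category.assoc, whisker_exchange, Category.assoc]
  have hsj : s ≫ j = 𝟙 Z0 := by
    apply e0.homEquiv.injective
    rw [hj, hs]
    apply Subtype.ext
    change (AMonS.faceMap S (isFace_unitFace N) ▷ Z0) ≫
      (AMonS.map S (AddSubmonoid.inclusion (isFace_unitFace N).le) ▷ Z0) ≫
        (e0.homEquiv (𝟙 Z0)).1 = (e0.homEquiv (𝟙 Z0)).1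
    rw [← Category.assoc, ← comp_whiskerRight, AMonS.faceMap_comp_map, id_whiskerRight,
      Category.id_comp]
  exact lemmaA j.left s.left (by rw [← Over.comp_left, hsj]; rfl)
    (fun L _ z => exists_path a (isFace_unitFace N) ℓ hℓ eN e0 j hj s hs' L z)

end Main

end Groth.Agent.H9.MagConn
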