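import Mathlib
import Groth.Prelude.Def_Magnet

/-!
# Representability of the functor of equivariant maps, categorical part (helper9)

`C` cartesian monoidal, `i : G ⟶ M` a morphism of monoid objects, `a` an action of `G` on `X`.
Assume `i ▷ T` is "dense" for maps to `X` (`hD`).  Then a morphism `φ : M ⊗ T ⟶ X` is equivariant
iff it restricts to the orbit map of `ev φ` on `G ⊗ T`, and the functor of equivariant maps is
represented by any mono `j : Z ⟶ X` through which exactly the points with extendable orbit map factor.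
-/

set_option autoImplicit false
set_option linter.unusedSectionVars false
universe v₁ u₁
open CategoryTheory MonoidalCategory CartesianMonoidalCategory MonObj Opposite Magnet

namespace Groth.Agent.H9.MagRepB

variable {C : Type u₁} [Category.{v₁} C] [CartesianMonoidalCategory C]
variable {M G X : C} [MonObj M] [MonObj G]

/-- evaluation at the unit section -/
def ev {T : C} (φ : M ⊗ T ⟶ X) : T ⟶ X := lift (toUnit T ≫ η[M]) (𝟙 T) ≫ φ

theorem lift_one_comp {S T : C} (t : S ⟶ T) (φ : M ⊗ T ⟶ X) :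
    lift (1 : S ⟶ M) t ≫ φ = t ≫ ev φ := by
  unfold ev
  rw [← Category.assoc, comp_lift, Category.comp_id, ← Category.assoc, comp_toUnit,
    ← Hom.one_def]

variable (i : G ⟶ M) [IsMonHom i] (a : MonAct G X)

theorem restrict_eq {T : C} (φ : M ⊗ T ⟶ X)
    (hφ : MonAct.IsEquivariant (((MonAct.regular M).restrict i).prod (MonAct.trivial G T)) a φ) :
    (i ▷ T) ≫ φ = (G ◁ ev φ) ≫ a.act := by
  rw [MonAct.mem_eqvHom_iff] at hφ
  apply hom_ext_lift₂
  intro S g t
  have h := hφ S g 1 t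
  rw [MonAct.lift_restrict_act, MonAct.lift_regular_act, _root_.mul_one, lift_one_comp] at h
  rw [lift_whiskerRight_assoc, h, lift_whiskerLeft_assoc]

theorem ev_of_restrict {T : C} (x : T ⟶ X) (φ : M ⊗ T ⟶ X)
    (h : (i ▷ T) ≫ φ = (G ◁ x) ≫ a.act) : ev φ = x := by
  unfold ev
  have h1 : lift (toUnit T ≫ η[M]) (𝟙 T) = lift (1 : T ⟶ G) (𝟙 T) ≫ (i ▷ T) := by
    rw [lift_whiskerRight, MonObj.one_comp, Hom.one_def]
  rw [h1, Category.assoc, h, lift_whiskerLeft_assoc, Category.id_comp, a.lift_one_act]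

/-- `(m, (g, t)) ↦ φ (i g * m, t)` -/
def phi1 {T : C} (φ : M ⊗ T ⟶ X) : M ⊗ (G ⊗ T) ⟶ X :=
  lift ((snd M (G ⊗ T) ≫ fst G T ≫ i) * fst M (G ⊗ T)) (snd M (G ⊗ T) ≫ snd G T) ≫ φ

/-- `(m, (g, t)) ↦ g • φ (m, t)` -/
def phi2 {T : C} (φ : M ⊗ T ⟶ X) : M ⊗ (G ⊗ T) ⟶ X :=
  lift (snd M (G ⊗ T) ≫ fst G T) (lift (fst M (G ⊗ T)) (snd M (G ⊗ T) ≫ snd G T) ≫ φ) ≫ a.act

theorem lift_phi1 {S T : C} (φ : M ⊗ T ⟶ X) (m : S ⟶ M) (g : S ⟶ G) (t : S ⟶ T) :
    lift m (lift g t) ≫ phi1 i φ = lift ((g ≫ i) * m) t ≫ φ := by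
  unfold phi1
  rw [← Category.assoc, comp_lift, MonObj.comp_mul]
  simp only [lift_fst, lift_snd, lift_snd_assoc, lift_fst_assoc]

theorem lift_phi2 {S T : C} (φ : M ⊗ T ⟶ X) (m : S ⟶ M) (g : S ⟶ G) (t : S ⟶ T) :
    lift m (lift g t) ≫ phi2 a φ = lift g (lift m t ≫ φ) ≫ a.act := by
  unfold phi2
  simp only [comp_lift_assoc, lift_fst, lift_snd, lift_snd_assoc]

variable (hD : ∀ (T' : C) (φ₁ φ₂ : M ⊗ T' ⟶ X), (i ▷ T') ≫ φ₁ = (i ▷ T') ≫ φ₂ → φ₁ = φ₂)

include hD in
theorem equivariant_of_restrict {T : C} (x : T ⟶ X) (φ : M ⊗ T ⟶ X)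
    (h : (i ▷ T) ≫ φ = (G ◁ x) ≫ a.act) :
    MonAct.IsEquivariant (((MonAct.regular M).restrict i).prod (MonAct.trivial G T)) a φ := by
  have hpt : ∀ (S : C) (g : S ⟶ G) (t : S ⟶ T),
      lift (g ≫ i) t ≫ φ = lift g (t ≫ x) ≫ a.act := by
    intro S g t
    have := congrArg (fun ψ => lift g t ≫ ψ) h
    simpa only [lift_whiskerRight_assoc, lift_whiskerLeft_assoc] using this
  have key : phi1 i φ = phi2 a φ := by
    apply hD
    apply hom_ext_lift₂
    intro S h' q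
    rw [← lift_comp_fst_snd q, lift_whiskerRight_assoc, lift_whiskerRight_assoc, lift_phi1,
      lift_phi2, ← MonObj.mul_comp, hpt, hpt, a.lift_mul_act]
  rw [MonAct.mem_eqvHom_iff]
  intro S g m t
  rw [MonAct.lift_restrict_act, MonAct.lift_regular_act, ← lift_phi1, key, lift_phi2]

include hD in
theorem representable {Z : C} (j : Z ⟶ X) [Mono j] (Φ : M ⊗ Z ⟶ X)
    (hΦ : (i ▷ Z) ≫ Φ = (G ◁ j) ≫ a.act)
    (hsurj : ∀ (T : C) (φ : M ⊗ T ⟶ X),
      MonAct.IsEquivariant (((MonAct.regular M).restrict i).prod (MonAct.trivial G T)) a φ →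
        ∃ z : T ⟶ Z, z ≫ j = ev φ) :
    ∃ e : (MonAct.eqvHom ((MonAct.regular M).restrict i) a).RepresentableBy Z,
      ∀ (T : C) (z : T ⟶ Z),
        (MonAct.eqvHom.evalAt ((MonAct.regular M).restrict i) a η[M]).app (op T)
          (e.homEquiv z) = z ≫ j := by
  have hΦeq := equivariant_of_restrict i a hD j Φ hΦ
  have hev : ∀ (T : C) (z : T ⟶ Z), ev ((M ◁ z) ≫ Φ) = z ≫ j := by
    intro T z
    unfold ev
    rw [lift_whiskerLeft_assoc, Category.id_comp, ← Hom.one_def, lift_one_comp,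
      ev_of_restrict i a j Φ hΦ]
  have hbij : ∀ T : C, Function.Bijective (fun z : T ⟶ Z =>
      (MonAct.eqvHom ((MonAct.regular M).restrict i) a).map z.op ⟨Φ, hΦeq⟩) := by
    intro T
    constructor
    · intro z z' h
      have h1 := congrArg (fun φ => ev φ.1) h
      simp only [MonAct.eqvHom_map_coe, Quiver.Hom.unop_op, hev] at h1
      exact (cancel_mono j).mp h1
    · intro φ
      obtain ⟨z, hz⟩ := hsurj T φ.1 φ.2
      refine ⟨z, Subtype.ext ?_⟩
      show (M ◁ z) ≫ Φ = φ.1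
      apply hD
      rw [restrict_eq i a φ.1 φ.2, ← hz, ← whisker_exchange_assoc, hΦ,
        MonoidalCategory.whiskerLeft_comp, Category.assoc]
  refine ⟨{ homEquiv := fun {T} => Equiv.ofBijective _ (hbij T), homEquiv_comp := ?_ }, ?_⟩
  · intro T T' f g
    apply Subtype.ext
    simp only [Equiv.ofBijective_apply, MonAct.eqvHom_map_coe, Quiver.Hom.unop_op,
      MonoidalCategory.whiskerLeft_comp, Category.assoc]
  · intro T z
    exact hev T z

end Groth.Agent.H9.MagRepB
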