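import Mathlib
import Groth.Agent.Lib.Helper9.Misc.KLF1

/-! Helper9: fixed-point functors over a field are closed subschemes (S18816); fixed under a schematically dense open = fixed (S18823). -/

set_option linter.style.haveILetI false
set_option linter.unusedSectionVars false

namespace Groth.Agent.H9.FIX

universe u

open CategoryTheory CategoryTheory.Limits AlgebraicGeometry MonoidalCategory
  CartesianMonoidalCategory Groth.Agent.H9.KL

variable {k : Type u} [Field k]

/-- Representability of the "fixed point" functor by a closed subscheme. -/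
theorem exists_fixed (X Y : Over (Spec (CommRingCat.of k))) [IsSeparated X.hom] (a : Y ⊗ X ⟶ X) :
    ∃ (Z : Over (Spec (CommRingCat.of k))) (j : Z ⟶ X), IsClosedImmersion j.left ∧
      ∀ (T : Over (Spec (CommRingCat.of k))) (x : T ⟶ X),
        (∃ z : T ⟶ Z, z ≫ j = x) ↔ (Y ◁ x) ≫ a = snd Y T ≫ x := by
  obtain ⟨Z, ζ, hζ, H⟩ := exists_closed_equalizer X Y X ((β_ X Y).hom ≫ a) (fst X Y)
  refine ⟨Z, ζ, hζ, fun T x ↦ (H T x).trans ?_⟩
  have e1 : (x ▷ Y) ≫ (β_ X Y).hom ≫ a = (β_ T Y).hom ≫ (Y ◁ x) ≫ a := by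
    rw [← Category.assoc, ← Category.assoc, BraidedCategory.braiding_naturality_left]
  have e2 : (x ▷ Y) ≫ fst X Y = (β_ T Y).hom ≫ snd Y T ≫ x := by
    rw [whiskerRight_fst, ← Category.assoc, braiding_hom_snd]
  rw [e1, e2]
  exact cancel_epi _

theorem S18816_main (X Y : Over (Spec (CommRingCat.of k))) [IsSeparated X.hom] (a : Y ⊗ X ⟶ X) :
    ∃ (Z : Over (Spec (CommRingCat.of k))) (j : Z ⟶ X), IsClosedImmersion j.left ∧
      (Y ◁ j) ≫ a = CartesianMonoidalCategory.snd Y Z ≫ j ∧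
      ∀ (T : Over (Spec (CommRingCat.of k))) (x : T ⟶ X),
        (Y ◁ x) ≫ a = CartesianMonoidalCategory.snd Y T ≫ x → ∃ z : T ⟶ Z, z ≫ j = x := by
  obtain ⟨Z, j, hj, H⟩ := exists_fixed X Y a
  exact ⟨Z, j, hj, (H Z j).mp ⟨𝟙 Z, Category.id_comp _⟩, fun T x hx ↦ (H T x).mpr hx⟩

/-- A closed immersion through which a scheme-theoretically dominant morphism factors is an
isomorphism. -/
theorem isIso_of_factors {P E D : Scheme.{u}} (j : E ⟶ P) [IsClosedImmersion j] (d : D ⟶ P)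
    [IsSchemeTheoreticallyDominant d] (l : D ⟶ E) (hl : l ≫ j = d) : IsIso j := by
  have h1 : j.ker ≤ (𝟙 P : P ⟶ P).ker := by
    have h2 : j.ker ≤ d.ker := by rw [← hl]; exact Scheme.Hom.le_ker_comp _ _
    rw [d.ker_eq_bot] at h2
    exact h2.trans bot_le
  let s := IsClosedImmersion.lift j (𝟙 P) h1
  have hs : s ≫ j = 𝟙 P := IsClosedImmersion.lift_fac j (𝟙 P) h1
  refine ⟨s, ?_, hs⟩
  rw [← cancel_mono j, Category.assoc, hs, Category.comp_id, Category.id_comp]

theorem S18823_main (M G X : Over (Spec (CommRingCat.of k))) [IsSeparated X.hom] (a : M ⊗ X ⟶ X)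
    (i : G ⟶ M) [IsOpenImmersion i.left] [IsSchemeTheoreticallyDominant i.left]
    (T : Over (Spec (CommRingCat.of k))) (x : T ⟶ X) :
    (M ◁ x) ≫ a = CartesianMonoidalCategory.snd M T ≫ x ↔
      (G ◁ x) ≫ (i ▷ X) ≫ a = CartesianMonoidalCategory.snd G T ≫ x := by
  have key : (G ◁ x) ≫ (i ▷ X) ≫ a = (i ▷ T) ≫ (M ◁ x) ≫ a := by
    rw [← Category.assoc, ← Category.assoc, whisker_exchange]
  have key2 : snd G T ≫ x = (i ▷ T) ≫ snd M T ≫ x := by
    rw [← Category.assoc, whiskerRight_snd]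
  constructor
  · intro h
    rw [key, key2, h]
  · intro h
    obtain ⟨Z, ζ, hζ, H⟩ := exists_closed_equalizer M T X ((M ◁ x) ≫ a) (snd M T ≫ x)
    have h1 : ∃ l : G ⟶ Z, l ≫ ζ = i := by
      rw [H G i, ← key, ← key2]
      exact h
    obtain ⟨l, hl⟩ := h1
    have hl' : l.left ≫ ζ.left = i.left := by rw [← Over.comp_left, hl]
    have hiso : IsIso ζ.left := isIso_of_factors ζ.left i.left l.left hl'
    have hiso' : IsIso ζ := by
      have : IsIso ((Over.forget _).map ζ) := hiso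
      exact isIso_of_reflects_iso ζ (Over.forget _)
    have h2 := (H M (𝟙 M)).mp ⟨inv ζ, IsIso.inv_hom_id ζ⟩
    simpa using h2

end Groth.Agent.H9.FIX
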