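import Mathlib
import Groth.Prelude.Def_Magnet2
import Groth.Agent.Lib.Helper9.Misc.SIM1

/-! Helper9: extending actions / equivariant families along a schematically dominant monoid hom G → M over a field (S18957, S18956). -/

set_option linter.style.haveILetI false
set_option linter.unusedSectionVars false

namespace Groth.Agent.H9.MEX

universe u

open CategoryTheory CategoryTheory.Limits AlgebraicGeometry MonoidalCategory
  CartesianMonoidalCategory MonObj Opposite
open Magnet

section Gen

variable {S : Scheme.{u}}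

/-- Over-version of `exists_lift_of_dominant`. -/
theorem exists_lift_over {D P E Y : Over S} (d : D ⟶ P) [IsSchemeTheoreticallyDominant d.left]
    (ψ : P ⟶ Y) (j : E ⟶ Y) [IsClosedImmersion j.left] (w : D ⟶ E) (hw : w ≫ j = d ≫ ψ) :
    ∃ l : P ⟶ E, l ≫ j = ψ := by
  obtain ⟨l, hl⟩ := SIM.exists_lift_of_dominant d.left ψ.left j.left w.left (by
    rw [← Over.comp_left, hw, Over.comp_left])
  refine ⟨Over.homMk l ?_, ?_⟩
  · rw [← Over.w j, ← Category.assoc, hl, Over.w ψ]
  · ext : 1
    rw [Over.comp_left]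
    exact hl

theorem mono_of_closedImmersion {E Y : Over S} (j : E ⟶ Y) [IsClosedImmersion j.left] : Mono j := by
  have : Mono ((Over.forget S).map j) := by
    change Mono j.left
    infer_instance
  exact (Over.forget S).mono_of_mono_map this

end Gen

variable {k : Type u} [Field k]

theorem S18957_main
    (M G X Z : Over (Spec (CommRingCat.of k))) [MonObj M] [GrpObj G]
    (i : G ⟶ M) [IsMonHom i] [QuasiCompact i.left]
    [IsSchemeTheoreticallyDominant i.left]
    (a : Magnet.MonAct M X) (b : AlgGrp.Action G Z) (j : Z ⟶ X) [IsClosedImmersion j.left]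
    (hj : Magnet.MonAct.IsEquivariant (Magnet.MonAct.ofAction b) (a.restrict i) j) :
    ∃ c : Magnet.MonAct M Z, Magnet.MonAct.IsEquivariant c a j ∧
      c.restrict i = Magnet.MonAct.ofAction b := by
  have hmono : Mono j := mono_of_closedImmersion j
  obtain ⟨hd, -⟩ := SIM.dominant_whiskerRight i Z
  have hj' : b.act ≫ j = (G ◁ j) ≫ (i ▷ X) ≫ a.act := hj
  obtain ⟨l, hl⟩ := exists_lift_over (i ▷ Z) ((M ◁ j) ≫ a.act) j b.act (by
    rw [hj', ← whisker_exchange_assoc])
  have hlp : ∀ {T : Over (Spec (CommRingCat.of k))} (g : T ⟶ M) (x : T ⟶ Z),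
      lift g x ≫ l ≫ j = lift g (x ≫ j) ≫ a.act := by
    intro T g x
    rw [hl, lift_whiskerLeft_assoc]
  let c : Magnet.MonAct M Z := Magnet.MonAct.mk' l
    (fun T x => by
      rw [← cancel_mono j, Category.assoc, hlp, a.lift_one_act])
    (fun T g h x => by
      rw [← cancel_mono j, Category.assoc, hlp, Category.assoc, hlp, Category.assoc, hlp,
        a.lift_mul_act])
  refine ⟨c, ?_, ?_⟩
  · exact hl
  · apply Magnet.MonAct.ext'
    change (i ▷ Z) ≫ l = b.act
    rw [← cancel_mono j, Category.assoc, hl, hj', ← whisker_exchange_assoc]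

theorem S18956_main
    (M G X Z : Over (Spec (CommRingCat.of k))) [MonObj M] [GrpObj G]
    (i : G ⟶ M) [IsMonHom i] [QuasiCompact i.left]
    [IsSchemeTheoreticallyDominant i.left]
    (aX : AlgGrp.Action G X) (aZ : AlgGrp.Action G Z) (j : Z ⟶ X) [IsClosedImmersion j.left]
    (hj : Magnet.MonAct.IsEquivariant (Magnet.MonAct.ofAction aZ) (Magnet.MonAct.ofAction aX) j) :
    IsPullback
      (Magnet.MonAct.eqvHom.postcomp ((Magnet.MonAct.regular M).restrict i) j hj)
      (Magnet.MonAct.eqvHom.evalAt ((Magnet.MonAct.regular M).restrict i)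
        (Magnet.MonAct.ofAction aZ) η[M])
      (Magnet.MonAct.eqvHom.evalAt ((Magnet.MonAct.regular M).restrict i)
        (Magnet.MonAct.ofAction aX) η[M])
      (yoneda.map j) := by
  have hmono : Mono j := mono_of_closedImmersion j
  have hj' : aZ.act ≫ j = (G ◁ j) ≫ aX.act := hj
  apply IsPullback.of_forall_isPullback_app
  intro T
  rw [Types.isPullback_iff]
  refine ⟨?_, ?_, ?_⟩
  · ext φ
    change lift (toUnit (unop T) ≫ η[M]) (𝟙 (unop T)) ≫ φ.1 ≫ j =
      (lift (toUnit (unop T) ≫ η[M]) (𝟙 (unop T)) ≫ φ.1) ≫ j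
    rw [Category.assoc]
  · rintro φ φ' ⟨h1, -⟩
    apply Subtype.ext
    have h2 : φ.1 ≫ j = φ'.1 ≫ j := congrArg Subtype.val h1
    exact (cancel_mono j).mp h2
  · intro φ z hz
    have hz' : lift (toUnit (unop T) ≫ η[M]) (𝟙 (unop T)) ≫ φ.1 = z ≫ j := hz
    have hφ := (Magnet.MonAct.mem_eqvHom_iff φ.1).mp φ.2
    obtain ⟨hd, -⟩ := SIM.dominant_whiskerRight i (unop T)
    obtain ⟨l, hl⟩ := exists_lift_over (i ▷ (unop T)) φ.1 j ((G ◁ z) ≫ aZ.act) (by
      apply Magnet.hom_ext_lift₂
      intro T' g t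
      have h3 := hφ T' g (toUnit T' ≫ η[M]) t
      have h4 : lift g (toUnit T' ≫ η[M]) ≫ ((Magnet.MonAct.regular M).restrict i).act = g ≫ i := by
        rw [Magnet.MonAct.lift_restrict_act, Magnet.MonAct.lift_regular_act, ← Hom.one_def,
          _root_.mul_one]
      have h5 : lift (toUnit T' ≫ η[M]) t ≫ φ.1 = t ≫ z ≫ j := by
        rw [← hz', ← Category.assoc, comp_lift, ← Category.assoc, toUnit_unique (t ≫ toUnit _) (toUnit T'),
          Category.comp_id]
      rw [h4, h5] at h3
      rw [lift_whiskerRight_assoc, h3, Category.assoc, lift_whiskerLeft_assoc, hj',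
        lift_whiskerLeft_assoc, Category.assoc]
      rfl)
    have hleq : Magnet.MonAct.IsEquivariant
        (((Magnet.MonAct.regular M).restrict i).prod (Magnet.MonAct.trivial G (unop T)))
        (Magnet.MonAct.ofAction aZ) l := by
      have h6 := φ.2
      unfold Magnet.MonAct.IsEquivariant at h6 ⊢
      rw [← cancel_mono j, Category.assoc, hl, h6, ← hl, Category.assoc]
      change _ = (G ◁ l) ≫ aZ.act ≫ j
      rw [hj', MonoidalCategory.whiskerLeft_comp, Category.assoc]
      rfl
    refine ⟨⟨l, hleq⟩, ?_, ?_⟩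
    · apply Subtype.ext
      exact hl
    · change lift (toUnit (unop T) ≫ η[M]) (𝟙 (unop T)) ≫ l = z
      rw [← cancel_mono j, Category.assoc, hl, hz']

end Groth.Agent.H9.MEX
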