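import Mathlib
import Groth.Prelude.Def_Magnet2
import Groth.Agent.Lib.Helper9.Misc.UDM3
import Groth.Agent.Lib.Helper9.Misc.FIX1
import Groth.Agent.Lib.Helper9.Misc.MEX1

/-! Helper9: attractor maps are monomorphisms for separated X; closed equivariant immersions give cartesian squares of attractors (S18284, S18285, S18286). -/

set_option linter.style.haveILetI false
set_option linter.unusedSectionVars false

namespace Groth.Agent.H9.UDM

universe u

open CategoryTheory CategoryTheory.Limits AlgebraicGeometry MonoidalCategory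
  CartesianMonoidalCategory MonObj Opposite
open Magnet

variable {S : Scheme.{u}}

/-- morphisms to a separated target agreeing after a scheme-theoretically dominant morphism agree -/
theorem ext_of_dominant {D P Y : Over S} [IsSeparated Y.hom] (d : D ⟶ P)
    [IsSchemeTheoreticallyDominant d.left] (φ φ' : P ⟶ Y) (h : d ≫ φ = d ≫ φ') : φ = φ' := by
  let l : D ⟶ equalizer φ φ' := equalizer.lift d h
  have hl : l.left ≫ (equalizer.ι φ φ').left = d.left := by
    rw [← Over.comp_left, equalizer.lift_ι]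
  have : IsIso (equalizer.ι φ φ').left := FIX.isIso_of_factors _ d.left l.left hl
  ext : 1
  rw [← cancel_epi (equalizer.ι φ φ').left, ← Over.comp_left, ← Over.comp_left, equalizer.condition]

variable {M : Type} [AddCommMonoid M]

theorem S18284_main (X : Over S) [IsSeparated X.hom] (a : Magnet.MonAct (Magnet.AMonS S M) X)
    {N N' : AddSubmonoid M} (h : N ≤ N') (T : Over S) :
    Function.Injective (fun φ => (Magnet.attrMap a h).app (op T) φ) := by
  intro φ φ' hφ
  have h1 : (AMonS.map S (AddSubmonoid.inclusion h) ▷ T) ≫ φ.1 =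
      (AMonS.map S (AddSubmonoid.inclusion h) ▷ T) ≫ φ'.1 := congrArg Subtype.val hφ
  have := dominant_AMonS_map_whiskerRight S (AddSubmonoid.inclusion h)
    (AddSubmonoid.inclusion_injective h) T
  exact Subtype.ext (ext_of_dominant _ _ _ h1)

theorem S18285_main (X : Over S) [IsSeparated X.hom] (a : Magnet.MonAct (Magnet.AMonS S M) X)
    (N : AddSubmonoid M) (T : Over S) :
    Function.Injective (fun φ => (Magnet.attrToX a N).app (op T) φ) := by
  intro φ φ' hφ
  have h0 : lift (toUnit T ≫ η[AMonS S N]) (𝟙 T) ≫ φ.1 = lift (toUnit T ≫ η[AMonS S N]) (𝟙 T) ≫ φ'.1 :=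
    hφ
  have := dominant_AMonS_map_whiskerRight S N.subtype Subtype.val_injective T
  apply Subtype.ext
  apply ext_of_dominant (AMonS.map S N.subtype ▷ T)
  apply Magnet.hom_ext_lift₂
  intro T' g t
  have key : ∀ ψ : (Magnet.attr a N).obj (op T),
      lift g t ≫ (AMonS.map S N.subtype ▷ T) ≫ ψ.1 =
        lift g (t ≫ lift (toUnit T ≫ η[AMonS S N]) (𝟙 T) ≫ ψ.1) ≫ a.act := by
    intro ψ
    have h2 := (Magnet.MonAct.mem_eqvHom_iff ψ.1).mp ψ.2 T' g (toUnit T' ≫ η[AMonS S N]) t
    have h3 : lift g (toUnit T' ≫ η[AMonS S N]) ≫ (subAct S M N).act = g ≫ AMonS.map S N.subtype := by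
      unfold subAct
      rw [Magnet.MonAct.lift_restrict_act, Magnet.MonAct.lift_regular_act, ← Hom.one_def,
        _root_.mul_one]
    rw [h3] at h2
    rw [lift_whiskerRight_assoc, h2, ← Category.assoc t, comp_lift, ← Category.assoc t,
      toUnit_unique (t ≫ toUnit T) (toUnit T'), Category.comp_id]
  rw [key φ, key φ', h0]

theorem S18286_main (N : AddSubmonoid M) (Y Z : Over S)
    (aY : Magnet.MonAct (Magnet.AMonS S M) Y)
    (aZ : Magnet.MonAct (Magnet.AMonS S M) Z) (f : Z ⟶ Y) [IsClosedImmersion f.left]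
    (hf : Magnet.MonAct.IsEquivariant aZ aY f) :
    IsPullback (Magnet.MonAct.eqvHom.postcomp (Magnet.subAct S M N) f hf) (Magnet.attrToX aZ N)
      (Magnet.attrToX aY N) (yoneda.map f) := by
  have hmono : Mono f := MEX.mono_of_closedImmersion f
  have hf' : aZ.act ≫ f = (AMonS S M ◁ f) ≫ aY.act := hf
  apply IsPullback.of_forall_isPullback_app
  intro T
  rw [Types.isPullback_iff]
  refine ⟨?_, ?_, ?_⟩
  · ext φ
    change lift (toUnit (unop T) ≫ η[AMonS S N]) (𝟙 (unop T)) ≫ φ.1 ≫ f =
      (lift (toUnit (unop T) ≫ η[AMonS S N]) (𝟙 (unop T)) ≫ φ.1) ≫ f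
    rw [Category.assoc]
  · rintro φ φ' ⟨h1, -⟩
    apply Subtype.ext
    have h2 : φ.1 ≫ f = φ'.1 ≫ f := congrArg Subtype.val h1
    exact (cancel_mono f).mp h2
  · intro φ z hz
    have hz' : lift (toUnit (unop T) ≫ η[AMonS S N]) (𝟙 (unop T)) ≫ φ.1 = z ≫ f := hz
    have hφ := (Magnet.MonAct.mem_eqvHom_iff φ.1).mp φ.2
    have hd := dominant_AMonS_map_whiskerRight S N.subtype Subtype.val_injective (unop T)
    obtain ⟨l, hl⟩ := MEX.exists_lift_over (AMonS.map S N.subtype ▷ (unop T)) φ.1 f
      ((AMonS S M ◁ z) ≫ aZ.act) (by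
      apply Magnet.hom_ext_lift₂
      intro T' g t
      have h3 := hφ T' g (toUnit T' ≫ η[AMonS S N]) t
      have h4 : lift g (toUnit T' ≫ η[AMonS S N]) ≫ (subAct S M N).act =
          g ≫ AMonS.map S N.subtype := by
        unfold subAct
        rw [Magnet.MonAct.lift_restrict_act, Magnet.MonAct.lift_regular_act, ← Hom.one_def,
          _root_.mul_one]
      have h5 : lift (toUnit T' ≫ η[AMonS S N]) t ≫ φ.1 = t ≫ z ≫ f := by
        rw [← hz', ← Category.assoc, comp_lift, ← Category.assoc,
          toUnit_unique (t ≫ toUnit _) (toUnit T'), Category.comp_id]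
      rw [h4, h5] at h3
      rw [lift_whiskerRight_assoc, h3, Category.assoc, lift_whiskerLeft_assoc, hf',
        lift_whiskerLeft_assoc, Category.assoc])
    have hleq : Magnet.MonAct.IsEquivariant
        ((subAct S M N).prod (Magnet.MonAct.trivial (AMonS S M) (unop T))) aZ l := by
      have h6 := φ.2
      unfold Magnet.MonAct.IsEquivariant at h6 ⊢
      rw [← cancel_mono f, Category.assoc, hl, h6, ← hl, Category.assoc, hf',
        MonoidalCategory.whiskerLeft_comp, Category.assoc]
    refine ⟨⟨l, hleq⟩, ?_, ?_⟩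
    · apply Subtype.ext
      exact hl
    · change lift (toUnit (unop T) ≫ η[AMonS S N]) (𝟙 (unop T)) ≫ l = z
      rw [← cancel_mono f, Category.assoc, hl, hz']

end Groth.Agent.H9.UDM
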