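import Mathlib
import Groth.Prelude.Def_Magnet3
import Groth.Agent.Lib.Helper9.Misc.UDM4

/-! Helper9: S18288 — change of monoid for attractors along an injective map into a group is an isomorphism (separated X). -/

set_option linter.style.haveILetI false
set_option linter.unusedSectionVars false

namespace Groth.Agent.H9.UDM

universe u

open CategoryTheory CategoryTheory.Limits AlgebraicGeometry MonoidalCategory
  CartesianMonoidalCategory MonObj Opposite
open Magnet

section MapId

variable (R : Type u) [CommRing R] (M : Type) [AddCommMonoid M]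

theorem AMon_map_id : AMon.map R (AddMonoidHom.id M) = 𝟙 (AMon R M) := by
  ext : 1
  rw [AMon.map_left]
  change Spec.map _ = 𝟙 _
  have : (CommRingCat.ofHom (MonoidAlgebra.mapDomainBialgHom R
      (AddMonoidHom.toMultiplicative (AddMonoidHom.id M))).toAlgHom.toRingHom) =
      𝟙 (CommRingCat.of (MonoidAlgebra R (Multiplicative M))) := by
    apply CommRingCat.hom_ext
    apply RingHom.ext
    intro x
    change MonoidAlgebra.mapDomain _ x = x
    apply MonoidAlgebra.coeff_injective
    change Finsupp.mapDomain _ x.coeff = x.coeff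
    exact Finsupp.mapDomain_id
  rw [this, Spec.map_id]

theorem AMonS_map_id (S : Scheme.{u}) : AMonS.map S (AddMonoidHom.id M) = 𝟙 (AMonS S M) := by
  rw [AMonS.map, AMon_map_id, CategoryTheory.Functor.map_id]

end MapId

section Main

variable (S : Scheme.{u}) (M Z : Type) [AddCommMonoid M] [AddCommGroup Z]

theorem S18288_main (f : M →+ Z)
    (hf : Function.Injective f) (Y : AddSubmonoid Z) (hY : Y ≤ AddMonoidHom.mrange f) (X : Over S)
    [IsSeparated X.hom] (a : Magnet.MonAct (Magnet.AMonS S M) X) :
    IsIso (Magnet.attrComap a f Y) := by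
  let N := Y.comap f
  let h : N →+ Y := (f.comp N.subtype).codRestrict Y (fun x => x.2)
  have hbij : Function.Bijective h := by
    constructor
    · intro x y hxy
      have : f x.1 = f y.1 := congrArg Subtype.val hxy
      exact Subtype.ext (hf this)
    · intro y
      obtain ⟨m, hm⟩ := hY y.2
      exact ⟨⟨m, by change f m ∈ Y; rw [hm]; exact y.2⟩, Subtype.ext hm⟩
  let e : N ≃+ Y := AddEquiv.ofBijective h hbij
  let k : AMonS S Y ⟶ AMonS S N := AMonS.map S h
  let kinv : AMonS S N ⟶ AMonS S Y := AMonS.map S e.symm.toAddMonoidHom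
  have hk1 : k ≫ kinv = 𝟙 _ := by
    rw [← AMonS.map_comp, ← AMonS_map_id]
    congr 1
    ext y
    exact congrArg Subtype.val (e.apply_symm_apply y)
  have hk2 : kinv ≫ k = 𝟙 _ := by
    rw [← AMonS.map_comp, ← AMonS_map_id]
    congr 1
    ext x
    exact congrArg Subtype.val (e.symm_apply_apply x)
  have hkk : AMonS.map S f ≫ AMonS.map S N.subtype = AMonS.map S Y.subtype ≫ k := by
    rw [← AMonS.map_comp, ← AMonS.map_comp]
    rfl
  have hkk' : AMonS.map S f ≫ AMonS.map S N.subtype ≫ kinv = AMonS.map S Y.subtype := by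
    rw [← Category.assoc, hkk, Category.assoc, hk1, Category.comp_id]
  apply (config := { allowSynthFailures := true }) NatIso.isIso_of_isIso_app
  intro T
  rw [isIso_iff_bijective]
  constructor
  · intro φ φ' hφ
    have h1 : (k ▷ unop T) ≫ φ.1 = (k ▷ unop T) ≫ φ'.1 := congrArg Subtype.val hφ
    apply Subtype.ext
    have h2 := congrArg (fun x => (kinv ▷ unop T) ≫ x) h1
    simp only [← Category.assoc, ← comp_whiskerRight, hk2, id_whiskerRight, Category.id_comp] at h2
    exact h2
  · intro ψ
    have hψ := (Magnet.MonAct.mem_eqvHom_iff ψ.1).mp ψ.2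
    have hd := dominant_AMonS_map_whiskerRight S f hf (AMonS S N ⊗ unop T)
    have hφ : Magnet.MonAct.IsEquivariant
        ((subAct S M N).prod (Magnet.MonAct.trivial (AMonS S M) (unop T))) a
        ((kinv ▷ unop T) ≫ ψ.1) := by
      unfold Magnet.MonAct.IsEquivariant
      apply ext_of_dominant (AMonS.map S f ▷ (AMonS S N ⊗ unop T))
      apply Magnet.hom_ext_lift₂
      intro T' z w
      rw [← lift_comp_fst_snd w]
      generalize w ≫ fst _ _ = b
      generalize w ≫ snd _ _ = t
      have e1 : (lift (z ≫ AMonS.map S f) b ≫ (subAct S M N).act) ≫ kinv =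
          lift z (b ≫ kinv) ≫ (subAct S Z Y).act := by
        unfold subAct
        rw [Magnet.MonAct.lift_restrict_act, Magnet.MonAct.lift_regular_act,
          Magnet.MonAct.lift_restrict_act, Magnet.MonAct.lift_regular_act, MonObj.mul_comp,
          Category.assoc, Category.assoc, hkk']
      have e2 := hψ T' z (b ≫ kinv) t
      rw [Magnet.MonAct.lift_restrict_act] at e2
      rw [lift_whiskerRight_assoc, lift_whiskerRight_assoc, Magnet.MonAct.lift_prod_act_assoc,
        Magnet.MonAct.lift_trivial_act, lift_whiskerRight_assoc, e1, e2, lift_whiskerLeft_assoc,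
        lift_whiskerRight_assoc]
    refine ⟨⟨(kinv ▷ unop T) ≫ ψ.1, hφ⟩, ?_⟩
    apply Subtype.ext
    change (k ▷ unop T) ≫ (kinv ▷ unop T) ≫ ψ.1 = ψ.1
    rw [← Category.assoc, ← comp_whiskerRight, hk1, id_whiskerRight, Category.id_comp]

end Main

end Groth.Agent.H9.UDM
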