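import Mathlib
import Groth.Prelude.Def_Magnet3
import Groth.Agent.Lib.Helper9.Misc.MagRepB
import Groth.Agent.Lib.Helper9.Misc.SIM1
import Groth.Agent.Lib.Helper9.Misc.MGU2
import Groth.Agent.Lib.Helper9.Misc.UDM5
import Groth.Agent.Lib.Helper3.HomDiag.PQ
import Groth.Agent.Lib.Helper3.DSKit
import Groth.Agent.Lib.Helper3.OverUEE

/-!
# Attractor of a subgroup = fixed points of the quotient-dual diagonalizable group (helper9)

Abstract part: `i : G ⟶ Mo`, `q : K ⟶ G` monoid morphisms with `q ≫ i` trivial, `q` "the kernel of `i`"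
(on points) and `i ▷ T` a descent morphism for maps into `X`.  Then the functor of equivariant maps
`Mo ⊗ T ⟶ X` is the fixed-point functor of `K`.
-/

set_option autoImplicit false
set_option linter.unusedSectionVars false
universe v₁ u₁ u
open CategoryTheory MonoidalCategory CartesianMonoidalCategory MonObj Opposite Magnet

namespace Groth.Agent.H9.MagFix

section Abstract

variable {C : Type u₁} [Category.{v₁} C] [CartesianMonoidalCategory C]
variable {Mo G K X : C} [MonObj Mo] [MonObj G] [MonObj K]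
variable (i : G ⟶ Mo) [IsMonHom i] (q : K ⟶ G) [IsMonHom q] (a : MonAct G X)

theorem ev_fixed (h3 : ∀ (W : C) (k : W ⟶ K), (k ≫ q) ≫ i = 1) {T : C} (φ : Mo ⊗ T ⟶ X)
    (hφ : MonAct.IsEquivariant (((MonAct.regular Mo).restrict i).prod (MonAct.trivial G T)) a φ)
    (T' : C) (t : T' ⟶ T) (k : T' ⟶ K) :
    lift k (t ≫ MagRepB.ev φ) ≫ (a.restrict q).act = t ≫ MagRepB.ev φ := by
  have h := MagRepB.restrict_eq i a φ hφ
  rw [MonAct.lift_restrict_act]
  calc lift (k ≫ q) (t ≫ MagRepB.ev φ) ≫ a.act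
      = lift (k ≫ q) t ≫ (G ◁ MagRepB.ev φ) ≫ a.act := by rw [lift_whiskerLeft_assoc]
    _ = lift (k ≫ q) t ≫ (i ▷ T) ≫ φ := by rw [h]
    _ = lift ((k ≫ q) ≫ i) t ≫ φ := by rw [lift_whiskerRight_assoc]
    _ = t ≫ MagRepB.ev φ := by rw [h3, MagRepB.lift_one_comp]

/-- the comparison map `φ ↦ ev φ`. -/
def theta (h3 : ∀ (W : C) (k : W ⟶ K), (k ≫ q) ≫ i = 1) :
    MonAct.eqvHom ((MonAct.regular Mo).restrict i) a ⟶ MonAct.fixedPsh (a.restrict q) where
  app T := TypeCat.ofHom fun φ => ⟨MagRepB.ev φ.1, fun T' t k => ev_fixed i q a h3 φ.1 φ.2 T' t k⟩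
  naturality T T' t := ConcreteCategory.hom_ext _ _ fun φ => Subtype.ext (by
    change MagRepB.ev ((Mo ◁ t.unop) ≫ φ.1) = t.unop ≫ MagRepB.ev φ.1
    simp [MagRepB.ev, comp_lift_assoc])

theorem main (h3 : ∀ (W : C) (k : W ⟶ K), (k ≫ q) ≫ i = 1)
    (h2 : ∀ (W : C) (g₁ g₂ : W ⟶ G), g₁ ≫ i = g₂ ≫ i → ∃ k : W ⟶ K, g₁ = g₂ * (k ≫ q))
    (h1 : ∀ (T : C) (f : G ⊗ T ⟶ X),
      (∀ (W : C) (g₁ g₂ : W ⟶ G ⊗ T), g₁ ≫ (i ▷ T) = g₂ ≫ (i ▷ T) → g₁ ≫ f = g₂ ≫ f) →
        ∃ φ : Mo ⊗ T ⟶ X, (i ▷ T) ≫ φ = f)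
    (hD : ∀ (T' : C) (φ₁ φ₂ : Mo ⊗ T' ⟶ X), (i ▷ T') ≫ φ₁ = (i ▷ T') ≫ φ₂ → φ₁ = φ₂) :
    ∃ e : MonAct.eqvHom ((MonAct.regular Mo).restrict i) a ≅ MonAct.fixedPsh (a.restrict q),
      e.hom ≫ MonAct.fixedPshι _ =
        MonAct.eqvHom.evalAt ((MonAct.regular Mo).restrict i) a η[Mo] := by
  have hiso : IsIso (theta i q a h3) := by
    apply (config := { allowSynthFailures := true }) NatIso.isIso_of_isIso_app
    intro T
    rw [isIso_iff_bijective]
    constructor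
    · intro φ φ' hφ
      have hx : MagRepB.ev φ.1 = MagRepB.ev φ'.1 := congrArg Subtype.val hφ
      apply Subtype.ext
      apply hD
      rw [MagRepB.restrict_eq i a φ.1 φ.2, MagRepB.restrict_eq i a φ'.1 φ'.2, hx]
    · intro x
      obtain ⟨φ, hφ⟩ := h1 (unop T) ((G ◁ x.1) ≫ a.act) (by
        intro W g₁ g₂ hg
        have e1 : (g₁ ≫ fst _ _) ≫ i = (g₂ ≫ fst _ _) ≫ i := by
          have := congrArg (fun z => z ≫ fst _ _) hg
          simpa [whiskerRight_fst] using this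
        have e2 : g₁ ≫ snd _ _ = g₂ ≫ snd _ _ := by
          have := congrArg (fun z => z ≫ snd _ _) hg
          simpa [whiskerRight_snd] using this
        obtain ⟨k, hk⟩ := h2 W _ _ e1
        have hfix := x.2 W (g₁ ≫ snd _ _) k
        rw [MonAct.lift_restrict_act] at hfix
        rw [← lift_comp_fst_snd g₁, ← lift_comp_fst_snd g₂, lift_whiskerLeft_assoc,
          lift_whiskerLeft_assoc, hk, MonAct.lift_mul_act, hfix, e2])
      refine ⟨⟨φ, MagRepB.equivariant_of_restrict i a hD x.1 φ hφ⟩, Subtype.ext ?_⟩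
      exact MagRepB.ev_of_restrict i a x.1 φ hφ
  refine ⟨asIso (theta i q a h3), ?_⟩
  ext T φ
  rfl

end Abstract

section Concrete

open AlgebraicGeometry

variable (S : Scheme.{u})

theorem AMon_map_eq {M N : Type} [AddCommGroup M] [AddCommGroup N] (R : Type u) [CommRing R]
    (φ : M →+ N) : Magnet.AMon.map R φ = Red.diagMap R φ := by
  apply Over.OverMorphism.ext
  rfl

theorem AMonS_map_eq {M N : Type} [AddCommGroup M] [AddCommGroup N] (φ : M →+ N) :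
    Magnet.AMonS.map S φ = Red.DSmap S φ := by
  unfold Magnet.AMonS.map Red.DSmap
  rw [AMon_map_eq]

variable {M : Type} [AddCommGroup M] (Z : AddSubgroup M)

/-- the identification of the two incarnations of the carrier of `Z`. -/
def jm : ↥Z.toAddSubmonoid →+ ↥Z where
  toFun x := ⟨x.1, x.2⟩
  map_zero' := rfl
  map_add' _ _ := rfl

def jm' : ↥Z →+ ↥Z.toAddSubmonoid where
  toFun x := ⟨x.1, x.2⟩
  map_zero' := rfl
  map_add' _ _ := rfl

theorem c_hom_inv : Magnet.AMonS.map S (jm Z) ≫ Magnet.AMonS.map S (jm' Z) = 𝟙 _ := by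
  rw [← Magnet.AMonS.map_comp, ← UDM.AMonS_map_id]
  rfl

theorem c_inv_hom : Magnet.AMonS.map S (jm' Z) ≫ Magnet.AMonS.map S (jm Z) = 𝟙 _ := by
  rw [← Magnet.AMonS.map_comp, ← UDM.AMonS_map_id]
  rfl

instance isIso_c : IsIso (Magnet.AMonS.map S (jm Z)) :=
  ⟨⟨Magnet.AMonS.map S (jm' Z), c_hom_inv S Z, c_inv_hom S Z⟩⟩

theorem i_eq : Magnet.AMonS.map S Z.toAddSubmonoid.subtype =
    Red.DSmap S Z.subtype ≫ Magnet.AMonS.map S (jm Z) := by
  rw [← AMonS_map_eq, ← Magnet.AMonS.map_comp]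
  rfl

theorem ff_i : Flat (Magnet.AMonS.map S Z.toAddSubmonoid.subtype).left ∧
    Surjective (Magnet.AMonS.map S Z.toAddSubmonoid.subtype).left ∧
    QuasiCompact (Magnet.AMonS.map S Z.toAddSubmonoid.subtype).left := by
  refine ⟨?_, ?_, ?_⟩
  · rw [i_eq, Over.comp_left]
    haveI := (Groth.Agent.H3.HomDiag.ff_DSmap_of_injective S Z.subtype Z.subtype_injective).1
    haveI : IsIso (Magnet.AMonS.map S (jm Z)).left :=
      (Over.forget S).map_isIso (Magnet.AMonS.map S (jm Z))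
    infer_instance
  · rw [i_eq, Over.comp_left]
    haveI := (Groth.Agent.H3.HomDiag.ff_DSmap_of_injective S Z.subtype Z.subtype_injective).2
    haveI : IsIso (Magnet.AMonS.map S (jm Z)).left :=
      (Over.forget S).map_isIso (Magnet.AMonS.map S (jm Z))
    infer_instance
  · haveI : IsAffineHom ((Magnet.AMonS.map S Z.toAddSubmonoid.subtype).left ≫
        (Magnet.AMonS S ↥Z.toAddSubmonoid).hom) := by
      rw [Over.w]
      infer_instance
    haveI : IsAffineHom (Magnet.AMonS.map S Z.toAddSubmonoid.subtype).left :=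
      IsAffineHom.of_comp _ (Magnet.AMonS S ↥Z.toAddSubmonoid).hom
    infer_instance

theorem effectiveEpi_whisker (T : Over S) :
    EffectiveEpi (Magnet.AMonS.map S Z.toAddSubmonoid.subtype ▷ T) := by
  obtain ⟨h1, h2, h3⟩ := ff_i S Z
  have sq := SIM.isPullback_whiskerRight_left (Magnet.AMonS.map S Z.toAddSubmonoid.subtype) T
  haveI : Flat (Magnet.AMonS.map S Z.toAddSubmonoid.subtype ▷ T).left :=
    MorphismProperty.of_isPullback sq h1
  haveI : Surjective (Magnet.AMonS.map S Z.toAddSubmonoid.subtype ▷ T).left :=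
    MorphismProperty.of_isPullback sq h2
  haveI : QuasiCompact (Magnet.AMonS.map S Z.toAddSubmonoid.subtype ▷ T).left :=
    MorphismProperty.of_isPullback sq h3
  exact Groth.Agent.H3.OverUEE.effectiveEpi_of_left _

theorem e0 : (QuotientAddGroup.mk' Z).comp Z.subtype = 0 := by
  ext x
  simp

open Groth.Agent.H3.DSKit in
theorem h3 (W : Over S) (k : W ⟶ Magnet.AMonS S (M ⧸ Z)) :
    (k ≫ Magnet.AMonS.map S (QuotientAddGroup.mk' Z)) ≫
      Magnet.AMonS.map S Z.toAddSubmonoid.subtype = 1 := by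
  have e1 : Red.DSmap S (QuotientAddGroup.mk' Z) ≫ Red.DSmap S Z.subtype = 1 := by
    rw [← DSmap_comp, e0, DSmap_zero]
  rw [i_eq, AMonS_map_eq, Category.assoc, reassoc_of% e1]
  exact (congrArg (fun z => k ≫ z) (MonObj.one_comp (Magnet.AMonS.map S (jm Z)))).trans
    (MonObj.comp_one k)

open Groth.Agent.H3.DSKit in
theorem h2 (W : Over S) (g₁ g₂ : W ⟶ Red.DS S M)
    (h : g₁ ≫ Magnet.AMonS.map S Z.toAddSubmonoid.subtype =
      g₂ ≫ Magnet.AMonS.map S Z.toAddSubmonoid.subtype) :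
    ∃ k : W ⟶ Magnet.AMonS S (M ⧸ Z),
      g₁ = g₂ * (k ≫ Magnet.AMonS.map S (QuotientAddGroup.mk' Z)) := by
  rw [i_eq, ← Category.assoc, ← Category.assoc, cancel_mono] at h
  have hk := isKernel_DSmap S Z.subtype (QuotientAddGroup.mk' Z)
    (QuotientAddGroup.mk'_surjective Z)
    (fun n hn => ⟨⟨n, (QuotientAddGroup.eq_zero_iff n).mp hn⟩, rfl⟩) (e0 Z)
  have hγ' : (g₂⁻¹ * g₁) ≫ Red.DSmap S Z.subtype = 1 := by
    have e1 := MonObj.mul_comp (g₂⁻¹) g₁ (Red.DSmap S Z.subtype)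
    have e2 := GrpObj.inv_comp g₂ (Red.DSmap S Z.subtype)
    rw [e1, e2, h, inv_mul_cancel]
  have hγ : (g₂⁻¹ * g₁) ≫ Red.DSmap S Z.subtype = toUnit W ≫ η[Red.DS S ↥Z] :=
    hγ'.trans (Hom.one_def)
  refine ⟨hk.lift (g₂⁻¹ * g₁) (toUnit W) hγ, ?_⟩
  rw [AMonS_map_eq, hk.lift_fst]
  exact (mul_inv_cancel_left g₂ g₁).symm

theorem h1 (X T : Over S) (f : Magnet.AMonS S M ⊗ T ⟶ X)
    (hf : ∀ (W : Over S) (g₁ g₂ : W ⟶ Magnet.AMonS S M ⊗ T),
      g₁ ≫ (Magnet.AMonS.map S Z.toAddSubmonoid.subtype ▷ T) =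
        g₂ ≫ (Magnet.AMonS.map S Z.toAddSubmonoid.subtype ▷ T) → g₁ ≫ f = g₂ ≫ f) :
    ∃ φ : Magnet.AMonS S ↥Z.toAddSubmonoid ⊗ T ⟶ X,
      (Magnet.AMonS.map S Z.toAddSubmonoid.subtype ▷ T) ≫ φ = f := by
  haveI := effectiveEpi_whisker S Z T
  exact ⟨EffectiveEpi.desc (Magnet.AMonS.map S Z.toAddSubmonoid.subtype ▷ T) f
    (fun g₁ g₂ h => hf _ g₁ g₂ h), EffectiveEpi.fac _ _ _⟩

theorem hD (X T : Over S) (φ₁ φ₂ : Magnet.AMonS S ↥Z.toAddSubmonoid ⊗ T ⟶ X)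
    (h : (Magnet.AMonS.map S Z.toAddSubmonoid.subtype ▷ T) ≫ φ₁ =
      (Magnet.AMonS.map S Z.toAddSubmonoid.subtype ▷ T) ≫ φ₂) : φ₁ = φ₂ := by
  haveI := effectiveEpi_whisker S Z T
  exact (cancel_epi _).mp h

theorem S18289_main (X : Over S) (a : AlgGrp.Action (Red.DS S M) X) :
    ∃ e : Magnet.attr (Magnet.MonAct.ofAction a) Z.toAddSubmonoid ≅
        Magnet.MonAct.fixedPsh ((Magnet.MonAct.ofAction a).restrict
          (Magnet.AMonS.map S (QuotientAddGroup.mk' Z))),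
      e.hom ≫ Magnet.MonAct.fixedPshι _ =
        Magnet.attrToX (Magnet.MonAct.ofAction a) Z.toAddSubmonoid :=
  main (Magnet.AMonS.map S Z.toAddSubmonoid.subtype) (Magnet.AMonS.map S (QuotientAddGroup.mk' Z))
    (Magnet.MonAct.ofAction a) (h3 S Z) (h2 S Z) (fun T f hf => h1 S Z X T f hf)
    (fun T φ₁ φ₂ h => hD S Z X T φ₁ φ₂ h)

end Concrete

end Groth.Agent.H9.MagFix
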