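import Mathlib
import Groth.Prelude.Def_Magnet4
import Groth.Agent.Lib.Helper9.Misc.MagConn
import Groth.Agent.Lib.Helper9.Misc.MagFix
import Groth.Agent.Lib.Helper9.Misc.MagGor
import Groth.Agent.Lib.Helper9.Misc.MGU2

/-! Helper9: attractors of equivariant open immersions: `X^N = Y^N ×_Y X` along the evaluation at the
distinguished point `e_{N*}` (S18235). -/

set_option linter.style.haveILetI false
set_option linter.unusedSectionVars false
set_option autoImplicit false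

namespace Groth.Agent.H9.MagOpen

universe u

open CategoryTheory CategoryTheory.Limits AlgebraicGeometry MonoidalCategory
  CartesianMonoidalCategory MonObj Opposite
open Magnet
open Groth.Agent.H9.MagKun Groth.Agent.H9.MagChr Groth.Agent.H9.MagPts Groth.Agent.H9.MagPush
  Groth.Agent.H9.MagDef

section Chr

variable {S : Scheme.{u}} {M : Type} [AddCommMonoid M] {T : Over S}

theorem chr_one' (m : Multiplicative M) : chr (1 : T ⟶ AMonS S M) m = 1 := by
  obtain ⟨g, hg⟩ := chr_surjective (S := S) (T := T) (1 : Multiplicative M →* Γ(T.left, ⊤))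
  have h1 : g * 1 = (1 : T ⟶ AMonS S M) := by
    apply chr_injective
    apply MonoidHom.ext
    intro n
    rw [chr_mul, hg, MonoidHom.one_apply, _root_.one_mul]
  rw [_root_.mul_one] at h1
  rw [← h1, hg, MonoidHom.one_apply]

end Chr

section Gen

variable {S : Scheme.{u}} {M : Type} [AddCommGroup M]
variable {X Y : Over S} {aX : MonAct (AMonS S M) X} {aY : MonAct (AMonS S M) Y} {f : X ⟶ Y}
  (hf : MonAct.IsEquivariant aX aY f)

include hf in
theorem equivariant_of_comp [Mono f] {B : Over S} (ρ : MonAct (AMonS S M) B) (ψ : B ⟶ X)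
    (h : MonAct.IsEquivariant ρ aY (ψ ≫ f)) : MonAct.IsEquivariant ρ aX ψ := by
  unfold MonAct.IsEquivariant at h hf ⊢
  rw [← cancel_mono f, Category.assoc, Category.assoc, hf, h, MonoidalCategory.whiskerLeft_comp,
    Category.assoc]

theorem exists_factor_of_range [IsOpenImmersion f.left] {P : Over S} (v : P ⟶ Y)
    (h : Set.range v.left ⊆ Set.range f.left) : ∃ ψ : P ⟶ X, ψ ≫ f = v := by
  refine ⟨Over.homMk (IsOpenImmersion.lift f.left v.left h) ?_, ?_⟩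
  · rw [← Over.w f, IsOpenImmersion.lift_fac_assoc, Over.w]
  · apply Over.OverMorphism.ext
    exact IsOpenImmersion.lift_fac f.left v.left h

include hf in
theorem stab {T' : Over S} (h h' : T' ⟶ AMonS S M) (hh : h' * h = 1) (w : T' ⟶ Y) (x₁ : T' ⟶ X)
    (hx₁ : x₁ ≫ f = lift h w ≫ aY.act) : (lift h' x₁ ≫ aX.act) ≫ f = w := by
  rw [Category.assoc, (MonAct.isEquivariant_iff aX aY f).mp hf, hx₁, ← MonAct.lift_mul_act, hh,
    MonAct.lift_one_act]

theorem map_neg_mul (ℓ : M →+ ℤ) {T' : Over S} (g : T' ⟶ AMonS S ℤ) :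
    (g ≫ AMonS.map S (-ℓ)) * (g ≫ AMonS.map S ℓ) = 1 := by
  apply chr_injective
  apply MonoidHom.ext
  intro m
  rw [chr_mul, chr_comp_map, chr_comp_map, ← map_mul, chr_one']
  have : (AddMonoidHom.toMultiplicative (-ℓ)) m * (AddMonoidHom.toMultiplicative ℓ) m = 1 := by
    change Multiplicative.ofAdd (-(ℓ (Multiplicative.toAdd m)) + ℓ (Multiplicative.toAdd m)) = 1
    rw [neg_add_cancel]
    rfl
  rw [this, map_one]

end Gen

section Main

variable {S : Scheme.{u}} {M : Type} [AddCommGroup M] (N : AddSubmonoid M)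

/-- the distinguished point `e_{N*}` of `A(N)` -/
noncomputable def ept (T : Over S) : T ⟶ AMonS S ↥N :=
  (1 : T ⟶ AMonS S ↥(unitFace N)) ≫ AMonS.faceMap S (isFace_unitFace N)

theorem ept_precomp {T T' : Over S} (t : T' ⟶ T) : t ≫ ept N T = ept N T' := by
  unfold ept
  rw [← Category.assoc, MonObj.comp_one]

theorem chr_ept_of_mem (T : Over S) (n : Multiplicative ↥N)
    (h : ((Multiplicative.toAdd n : ↥N) : M) ∈ unitFace N) : chr (ept (S := S) N T) n = 1 := by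
  unfold ept
  rw [chr_faceMap_of_mem (isFace_unitFace N) _ n h, chr_one']

theorem chr_ept_of_not_mem (T : Over S) (n : Multiplicative ↥N)
    (h : ((Multiplicative.toAdd n : ↥N) : M) ∉ unitFace N) : chr (ept (S := S) N T) n = 0 := by
  unfold ept
  rw [chr_faceMap_of_not_mem (isFace_unitFace N) _ n h]

theorem face_pt_eq {T' : Over S} (g : T' ⟶ AMonS S M) :
    g ≫ AMonS.map S (unitFace N).subtype ≫ AMonS.faceMap S (isFace_unitFace N) =
      (g ≫ AMonS.map S N.subtype) * ept N T' := by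
  apply chr_injective
  apply MonoidHom.ext
  intro n
  rw [chr_mul, chr_comp_map, ← Category.assoc]
  by_cases h : ((Multiplicative.toAdd n : ↥N) : M) ∈ unitFace N
  · rw [chr_faceMap_of_mem (isFace_unitFace N) _ n h, chr_comp_map, chr_ept_of_mem N _ n h,
      _root_.mul_one]
    rfl
  · rw [chr_faceMap_of_not_mem (isFace_unitFace N) _ n h, chr_ept_of_not_mem N _ n h, mul_zero]

theorem surj_face (T : Over S) : Surjective (AMonS.map S (unitFace N).subtype ▷ T).left := by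
  let Z : AddSubgroup M :=
    { unitFace N with
      neg_mem' := by
        rintro x ⟨hx, y, hy, hxy⟩
        have hyx : y = -x := eq_neg_of_add_eq_zero_right hxy
        refine ⟨hyx ▸ hy, x, hx, ?_⟩
        rw [neg_add_cancel] }
  have h := MagFix.ff_i S Z
  exact (ff_whiskerRight (AMonS.map S (unitFace N).subtype) h.1 h.2.1 h.2.2 T).2.1

variable {N}
variable {X Y : Over S} {aX : MonAct (AMonS S M) X} {aY : MonAct (AMonS S M) Y} {f : X ⟶ Y}
  (hf : MonAct.IsEquivariant aX aY f)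

include hf in
theorem face_orbit {T : Over S} (φ : (attr aY N).obj (op T)) (x : T ⟶ X)
    (hx : lift (ept N T) (𝟙 T) ≫ φ.1 = x ≫ f) :
    (AMonS.map S (unitFace N).subtype ▷ T) ≫ (AMonS.faceMap S (isFace_unitFace N) ▷ T) ≫ φ.1 =
      (AMonS S M ◁ x) ≫ aX.act ≫ f := by
  apply hom_ext_lift₂
  intro T' g t
  have hφ := (MonAct.mem_eqvHom_iff φ.1).mp φ.2 T' g (ept N T') t
  have e1 : lift (ept N T') t ≫ φ.1 = (t ≫ x) ≫ f := by
    rw [Category.assoc, ← hx, ← Category.assoc, comp_lift, Category.comp_id, ept_precomp]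
  rw [lift_whiskerRight_assoc, lift_whiskerRight_assoc, Category.assoc, face_pt_eq, ← lift_subAct,
    hφ, e1, lift_whiskerLeft_assoc]
  exact ((MonAct.isEquivariant_iff aX aY f).mp hf T' g (t ≫ x)).symm

include hf in
theorem exists_face_factor [IsOpenImmersion f.left] {T : Over S} (φ : (attr aY N).obj (op T))
    (x : T ⟶ X) (hx : lift (ept N T) (𝟙 T) ≫ φ.1 = x ≫ f) :
    ∃ ψ : AMonS S ↥(unitFace N) ⊗ T ⟶ X,
      ψ ≫ f = (AMonS.faceMap S (isFace_unitFace N) ▷ T) ≫ φ.1 := by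
  apply exists_factor_of_range
  rintro _ ⟨p, rfl⟩
  obtain ⟨p', rfl⟩ := (surj_face N T).surj p
  refine ⟨((AMonS S M ◁ x) ≫ aX.act).left p', ?_⟩
  have key := congrArg (fun k => k.left p') (face_orbit hf φ x hx)
  simp only [Over.comp_left, Scheme.Hom.comp_apply] at key ⊢
  exact key.symm


include hf in
theorem pointB [IsOpenImmersion f.left] [AddGroup.FG M] {TL : Over S} [IsAffine TL.left]
    [IsIntegral TL.left] [Subsingleton TL.left]
    (φ : (attr aY N).obj (op TL)) (x : TL ⟶ X) (hx : lift (ept N TL) (𝟙 TL) ≫ φ.1 = x ≫ f)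
    (b : TL ⟶ AMonS S ↥N) : ∃ x' : TL ⟶ X, x' ≫ f = lift b (𝟙 TL) ≫ φ.1 := by
  classical
  have hF := isFace_unitFace N
  obtain ⟨ψF, hψF⟩ := exists_face_factor hf φ x hx
  haveI : IsAffine (AMonS S ↥N ⊗ TL).left := MGU.affine_tensor (AMonS S ↥N) TL
  haveI : IsAffine (AMonS S ℤ ⊗ TL).left := MGU.affine_tensor (AMonS S ℤ) TL
  obtain ⟨pt⟩ : Nonempty TL.left := inferInstance
  haveI : Nonempty (⊤ : TL.left.Opens) := ⟨⟨pt, trivial⟩⟩
  haveI : IsDomain Γ(TL.left, ⊤) := inferInstance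
  obtain ⟨W, hW⟩ : ∃ W : (AMonS S ↥N ⊗ TL).left.Opens,
      W = φ.1.left ⁻¹ᵁ f.left.opensRange := ⟨_, rfl⟩
  obtain ⟨b₀, hb₀⟩ : ∃ b₀ : TL ⟶ AMonS S ↥N,
      b₀ = (b ≫ AMonS.map S (AddSubmonoid.inclusion hF.le)) ≫ AMonS.faceMap S hF := ⟨_, rfl⟩
  have hq₀ : (lift b₀ (𝟙 TL)).left pt ∈ W := by
    rw [hW]
    have e : (lift (b ≫ AMonS.map S (AddSubmonoid.inclusion hF.le)) (𝟙 TL) ≫ ψF) ≫ f =
        lift b₀ (𝟙 TL) ≫ φ.1 := by
      rw [Category.assoc, hψF, hb₀, lift_whiskerRight_assoc]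
    have e' := congrArg (fun k => k.left pt) e
    simp only [Over.comp_left, Scheme.Hom.comp_apply] at e'
    exact ⟨_, e'⟩
  obtain ⟨g, hgW, hg0⟩ := (isAffineOpen_top (AMonS S ↥N ⊗ TL).left).exists_basicOpen_le
    (V := W) ⟨_, hq₀⟩ trivial
  obtain ⟨y, rfl⟩ := (kappa_bijective S ↥N TL).2 g
  -- membership criterion
  have hmem : ∀ {T' : Over S} (u : T' ⟶ AMonS S ↥N) (s : T' ⟶ TL) (τ : T'.left),
      τ ∈ T'.left.basicOpen (MonoidAlgebra.liftNCRingHom s.left.appTop.hom (chr u)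
        (fun _ _ => Commute.all _ _) y) → (lift u s).left τ ∈ W := by
    intro T' u s τ hτ
    apply hgW
    rw [← eval_kappa] at hτ
    have h2 : τ ∈ (lift u s).left ⁻¹ᵁ (AMonS S ↥N ⊗ TL).left.basicOpen (kappa S ↥N TL y) := by
      rw [Scheme.preimage_basicOpen_top]
      exact hτ
    exact h2
  -- expansion of liftNC
  have hexp : ∀ {R' : Type u} [CommRing R'] (σ : Γ(TL.left, ⊤) →+* R')
      (χ : Multiplicative ↥N →* R'),
      MonoidAlgebra.liftNCRingHom σ χ (fun _ _ => Commute.all _ _) y =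
        ∑ n ∈ y.coeff.support, σ (y.coeff n) * χ n := by
    intro R' _ σ χ
    conv_lhs => rw [← MonoidAlgebra.sum_coeff_single y]
    rw [Finsupp.sum, map_sum]
    refine Finset.sum_congr rfl fun n _ => ?_
    rw [MonoidAlgebra.liftNCRingHom_single]
  -- a₀ ≠ 0
  have ha₀ : MonoidAlgebra.liftNCRingHom (𝟙 TL : TL ⟶ TL).left.appTop.hom (chr b₀)
      (fun _ _ => Commute.all _ _) y ≠ 0 := by
    intro h0
    have h2 : pt ∈ (lift b₀ (𝟙 TL)).left ⁻¹ᵁ
        (AMonS S ↥N ⊗ TL).left.basicOpen (kappa S ↥N TL y) := hg0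
    rw [Scheme.preimage_basicOpen_top] at h2
    have h3 : (lift b₀ (𝟙 TL)).left.appTop.hom (kappa S ↥N TL y) = 0 := by
      rw [eval_kappa, h0]
    rw [show ((lift b₀ (𝟙 TL)).left.appTop) (kappa S ↥N TL y) = 0 from h3,
      Scheme.basicOpen_zero] at h2
    simp at h2
  -- the height function
  obtain ⟨sM, hsM⟩ : ∃ sM : Finset M, sM = y.coeff.support.image
      (fun n => ((Multiplicative.toAdd n : ↥N) : M)) := ⟨_, rfl⟩
  obtain ⟨N', hN'⟩ : ∃ N' : AddSubmonoid M, N' = AddSubmonoid.closure (sM : Set M) := ⟨_, rfl⟩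
  have hN'fg : N'.FG := ⟨sM, hN'.symm⟩
  have hN'N : N' ≤ N := by
    rw [hN']
    refine AddSubmonoid.closure_le.mpr ?_
    intro m hm
    rw [hsM] at hm
    obtain ⟨n, -, rfl⟩ := Finset.mem_image.mp (Finset.mem_coe.mp hm)
    exact (Multiplicative.toAdd n).2
  obtain ⟨ℓ, -, hℓ⟩ := MagGor.exists_face_height (M := M) (N := N') (F := unitFace N ⊓ N')
    hN'fg inf_le_right (by
      intro a ha c hc hac
      have := (hF.add_mem_iff (hN'N ha) (hN'N hc)).mp hac.1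
      exact ⟨⟨this.1, ha⟩, ⟨this.2, hc⟩⟩)
  have hterm : ∀ n ∈ y.coeff.support, (ℓ ((Multiplicative.toAdd n : ↥N) : M) = 0 ↔
      ((Multiplicative.toAdd n : ↥N) : M) ∈ unitFace N) := by
    intro n hn
    have hnN' : ((Multiplicative.toAdd n : ↥N) : M) ∈ N' := by
      rw [hN']
      apply AddSubmonoid.subset_closure
      rw [hsM]
      exact Finset.mem_coe.mpr (Finset.mem_image.mpr ⟨n, hn, rfl⟩)
    rw [hℓ _ hnN']
    exact ⟨fun h => h.1, fun h => ⟨h, hnN'⟩⟩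
  have hchr0 : ∀ n : Multiplicative ↥N, chr b₀ n =
      if ((Multiplicative.toAdd n : ↥N) : M) ∈ unitFace N then chr b n else 0 := by
    intro n
    rw [hb₀]
    split_ifs with h
    · rw [chr_faceMap_of_mem hF _ n h, chr_comp_map]
      rfl
    · rw [chr_faceMap_of_not_mem hF _ n h]
  -- the path over 𝔾_m × TL
  obtain ⟨s, hs⟩ : ∃ s : AMonS S ℤ ⊗ TL ⟶ TL, s = snd (AMonS S ℤ) TL := ⟨_, rfl⟩
  obtain ⟨h₁, hh₁⟩ : ∃ h₁ : AMonS S ℤ ⊗ TL ⟶ AMonS S M,
      h₁ = fst (AMonS S ℤ) TL ≫ AMonS.map S ℓ := ⟨_, rfl⟩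
  obtain ⟨h₁', hh₁'⟩ : ∃ h₁' : AMonS S ℤ ⊗ TL ⟶ AMonS S M,
      h₁' = fst (AMonS S ℤ) TL ≫ AMonS.map S (-ℓ) := ⟨_, rfl⟩
  obtain ⟨u, hu⟩ : ∃ u : AMonS S ℤ ⊗ TL ⟶ AMonS S ↥N,
      u = (h₁ ≫ AMonS.map S N.subtype) * (s ≫ b) := ⟨_, rfl⟩
  have hchr : ∀ n : Multiplicative ↥N, chr u n = kappa S ℤ TL (MonoidAlgebra.single
      (Multiplicative.ofAdd (ℓ ((Multiplicative.toAdd n : ↥N) : M))) (chr b n)) := by
    intro n
    rw [hu, hh₁, hs, chr_mul, chr_comp_map, chr_comp_map, chr_fst, chr_precomp, kappa_single_of,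
      kappa_single, _root_.mul_comm]
    rfl
  obtain ⟨G₀, hG₀def⟩ : ∃ G₀ : MonoidAlgebra Γ(TL.left, ⊤) (Multiplicative ℤ),
      G₀ = ∑ n ∈ y.coeff.support, MonoidAlgebra.single
        (Multiplicative.ofAdd (ℓ ((Multiplicative.toAdd n : ↥N) : M)))
        (y.coeff n * chr b n) := ⟨_, rfl⟩
  have hG : MonoidAlgebra.liftNCRingHom s.left.appTop.hom (chr u)
      (fun _ _ => Commute.all _ _) y = kappa S ℤ TL G₀ := by
    rw [hexp, hG₀def, map_sum]
    refine Finset.sum_congr rfl fun n _ => ?_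
    rw [hchr, show s.left.appTop.hom (y.coeff n) =
      kappa S ℤ TL (MonoidAlgebra.single 1 (y.coeff n)) from by
        rw [kappa_single_one, hs]; rfl,
      ← map_mul, MonoidAlgebra.single_mul_single, _root_.one_mul]
  have hcoef : G₀.coeff 1 = ∑ n ∈ y.coeff.support,
      (𝟙 TL : TL ⟶ TL).left.appTop.hom (y.coeff n) * chr b₀ n := by
    rw [hG₀def, MonoidAlgebra.coeff_sum, Finsupp.finset_sum_apply]
    refine Finset.sum_congr rfl fun n hn => ?_
    rw [MonoidAlgebra.coeff_single, Finsupp.single_apply, hchr0]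
    have hσ : (𝟙 TL : TL ⟶ TL).left.appTop.hom (y.coeff n) = y.coeff n := by simp
    rw [hσ]
    by_cases h : ((Multiplicative.toAdd n : ↥N) : M) ∈ unitFace N
    · rw [if_pos h, if_pos]
      rw [(hterm n hn).mpr h]
      rfl
    · rw [if_neg h, mul_zero, if_neg]
      intro h1
      exact h ((hterm n hn).mp (ofAdd_eq_one.mp h1))
  have hG₀ : G₀ ≠ 0 := by
    intro h0
    apply ha₀
    rw [hexp, ← hcoef, h0]
    rfl
  have hGnil : ¬ IsNilpotent (kappa S ℤ TL G₀) := by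
    rintro ⟨k, hk⟩
    rw [← map_pow] at hk
    have h1 := (kappa_bijective S ℤ TL).1 (hk.trans (map_zero _).symm)
    exact hG₀ (IsNilpotent.eq_zero ⟨k, h1⟩)
  have hne : (AMonS S ℤ ⊗ TL).left.basicOpen (kappa S ℤ TL G₀) ≠ ⊥ := fun h =>
    hGnil ((Scheme.isNilpotent_iff_basicOpen_eq_bot _).mpr h)
  obtain ⟨τ, hτ⟩ := (TopologicalSpace.Opens.ne_bot_iff_nonempty _).mp hne
  have hτW : (lift u s).left τ ∈ W := hmem u s τ (by rw [hG]; exact hτ)
  -- the residue field point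
  obtain ⟨iO, hiO⟩ : ∃ iO : Over.mk ((AMonS S ℤ ⊗ TL).left.fromSpecResidueField τ ≫
      (AMonS S ℤ ⊗ TL).hom) ⟶ AMonS S ℤ ⊗ TL,
      iO.left = (AMonS S ℤ ⊗ TL).left.fromSpecResidueField τ := ⟨Over.homMk _ rfl, rfl⟩
  obtain ⟨x₁, hx₁⟩ : ∃ x₁ : Over.mk ((AMonS S ℤ ⊗ TL).left.fromSpecResidueField τ ≫
      (AMonS S ℤ ⊗ TL).hom) ⟶ X, x₁ ≫ f = iO ≫ lift u s ≫ φ.1 := by
    apply exists_factor_of_range
    rintro _ ⟨pt', rfl⟩
    have hpt' : iO.left pt' = τ := by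
      rw [hiO]
      exact Scheme.fromSpecResidueField_apply _ _
    rw [hW] at hτW
    obtain ⟨x0, hx0⟩ := hτW
    refine ⟨x0, ?_⟩
    simp only [Over.comp_left, Scheme.Hom.comp_apply, hpt']
    exact hx0
  have hφ := (MonAct.mem_eqvHom_iff φ.1).mp φ.2 _ (iO ≫ h₁) ((iO ≫ s) ≫ b) (iO ≫ s)
  have e1 : iO ≫ u = ((iO ≫ h₁) ≫ AMonS.map S N.subtype) * ((iO ≫ s) ≫ b) := by
    rw [hu, MonObj.comp_mul, Category.assoc, Category.assoc]
  have e2 : iO ≫ lift u s =
      lift (lift (iO ≫ h₁) ((iO ≫ s) ≫ b) ≫ (subAct S M N).act) (iO ≫ s) := by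
    rw [comp_lift, e1, lift_subAct]
  have e3 : lift ((iO ≫ s) ≫ b) (iO ≫ s) ≫ φ.1 = (iO ≫ s) ≫ lift b (𝟙 TL) ≫ φ.1 := by
    rw [← Category.assoc, comp_lift, Category.comp_id]
  have hv : x₁ ≫ f = lift (iO ≫ h₁) ((iO ≫ s) ≫ lift b (𝟙 TL) ≫ φ.1) ≫ aY.act := by
    rw [hx₁, ← Category.assoc, e2, hφ, e3]
  have hh : (iO ≫ h₁') * (iO ≫ h₁) = 1 := by
    rw [hh₁, hh₁', ← Category.assoc, ← Category.assoc]
    exact map_neg_mul ℓ (iO ≫ fst (AMonS S ℤ) TL)
  have hx₂ := stab hf (iO ≫ h₁) (iO ≫ h₁') hh _ x₁ hv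
  apply exists_factor_of_range
  rintro _ ⟨p0, rfl⟩
  refine ⟨(lift (iO ≫ h₁') x₁ ≫ aX.act).left
    (default : PrimeSpectrum ((AMonS S ℤ ⊗ TL).left.residueField τ)), ?_⟩
  have e := congrArg (fun k => k.left
    (default : PrimeSpectrum ((AMonS S ℤ ⊗ TL).left.residueField τ))) hx₂
  simp only [Over.comp_left, Scheme.Hom.comp_apply] at e ⊢
  rw [e]
  congr 2
  exact Subsingleton.elim _ _


include hf in
theorem exists_factor [IsOpenImmersion f.left] [AddGroup.FG M] {T : Over S}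
    (φ : (attr aY N).obj (op T)) (x : T ⟶ X) (hx : lift (ept N T) (𝟙 T) ≫ φ.1 = x ≫ f) :
    ∃ ψ : AMonS S ↥N ⊗ T ⟶ X, ψ ≫ f = φ.1 := by
  apply exists_factor_of_range
  rintro _ ⟨p, rfl⟩
  obtain ⟨zO, hzO⟩ : ∃ zO : Over.mk ((AMonS S ↥N ⊗ T).left.fromSpecResidueField p ≫
      (AMonS S ↥N ⊗ T).hom) ⟶ AMonS S ↥N ⊗ T,
      zO.left = (AMonS S ↥N ⊗ T).left.fromSpecResidueField p := ⟨Over.homMk _ rfl, rfl⟩
  haveI : IsAffine (Over.mk ((AMonS S ↥N ⊗ T).left.fromSpecResidueField p ≫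
      (AMonS S ↥N ⊗ T).hom)).left :=
    inferInstanceAs (IsAffine (Spec ((AMonS S ↥N ⊗ T).left.residueField p)))
  haveI : IsIntegral (Over.mk ((AMonS S ↥N ⊗ T).left.fromSpecResidueField p ≫
      (AMonS S ↥N ⊗ T).hom)).left :=
    inferInstanceAs (IsIntegral (Spec ((AMonS S ↥N ⊗ T).left.residueField p)))
  haveI : Subsingleton ↥(Over.mk ((AMonS S ↥N ⊗ T).left.fromSpecResidueField p ≫
      (AMonS S ↥N ⊗ T).hom)).left :=
    inferInstanceAs (Subsingleton (PrimeSpectrum ((AMonS S ↥N ⊗ T).left.residueField p)))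
  have hxL : lift (ept N _) (𝟙 _) ≫
      ((attr aY N).map (zO ≫ snd (AMonS S ↥N) T).op φ).1 = ((zO ≫ snd (AMonS S ↥N) T) ≫ x) ≫ f := by
    change lift (ept N _) (𝟙 _) ≫ (AMonS S ↥N ◁ (zO ≫ snd (AMonS S ↥N) T)) ≫ φ.1 = _
    rw [lift_whiskerLeft_assoc, Category.id_comp, Category.assoc, ← hx,
      ← Category.assoc (zO ≫ snd (AMonS S ↥N) T), comp_lift, Category.comp_id, ept_precomp]
  obtain ⟨x', hx'⟩ := pointB hf ((attr aY N).map (zO ≫ snd (AMonS S ↥N) T).op φ)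
    ((zO ≫ snd (AMonS S ↥N) T) ≫ x) hxL (zO ≫ fst (AMonS S ↥N) T)
  have e : x' ≫ f = zO ≫ φ.1 := by
    rw [hx']
    change lift (zO ≫ fst (AMonS S ↥N) T) (𝟙 _) ≫
      (AMonS S ↥N ◁ (zO ≫ snd (AMonS S ↥N) T)) ≫ φ.1 = _
    rw [lift_whiskerLeft_assoc, Category.id_comp, lift_comp_fst_snd]
  refine ⟨x'.left (default : PrimeSpectrum ((AMonS S ↥N ⊗ T).left.residueField p)), ?_⟩
  have e' := congrArg (fun k => k.left
    (default : PrimeSpectrum ((AMonS S ↥N ⊗ T).left.residueField p))) e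
  simp only [Over.comp_left, Scheme.Hom.comp_apply] at e'
  rw [e', hzO, Scheme.fromSpecResidueField_apply]

end Main

theorem S18235_main (S : Scheme.{u}) (M : Type) [AddCommGroup M] [AddGroup.FG M]
    (N : AddSubmonoid M) {X Y : Over S} (aX : MonAct (AMonS S M) X) (aY : MonAct (AMonS S M) Y)
    (f : X ⟶ Y) (hf : MonAct.IsEquivariant aX aY f) [IsOpenImmersion f.left] {ZX ZY : Over S}
    (eX : (attr aX N).RepresentableBy ZX) (eY : (attr aY N).RepresentableBy ZY) (j : ZX ⟶ ZY)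
    (hj : ∀ (T : Over S) (z : T ⟶ ZX), eY.homEquiv (z ≫ j) =
      (MonAct.eqvHom.postcomp (subAct S M N) f hf).app (op T) (eX.homEquiv z)) :
    IsOpenImmersion j.left := by
  haveI : Mono f.left := inferInstance
  haveI : Mono f := Over.mono_of_mono_left f
  obtain ⟨evX, hevX⟩ : ∃ evX : ZX ⟶ X,
      evX = lift (ept N ZX) (𝟙 ZX) ≫ (eX.homEquiv (𝟙 ZX)).1 := ⟨_, rfl⟩
  obtain ⟨evY, hevY⟩ : ∃ evY : ZY ⟶ Y,
      evY = lift (ept N ZY) (𝟙 ZY) ≫ (eY.homEquiv (𝟙 ZY)).1 := ⟨_, rfl⟩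
  have E1 : ∀ {T : Over S} (z : T ⟶ ZY),
      lift (ept N T) (𝟙 T) ≫ (eY.homEquiv z).1 = z ≫ evY := by
    intro T z
    have h1 : (eY.homEquiv z).1 = (AMonS S ↥N ◁ z) ≫ (eY.homEquiv (𝟙 ZY)).1 := by
      have := congrArg Subtype.val (eY.homEquiv_comp z (𝟙 ZY))
      rwa [Category.comp_id] at this
    rw [h1, hevY, lift_whiskerLeft_assoc, Category.id_comp, ← Category.assoc, comp_lift,
      Category.comp_id, ept_precomp]
  have E3 : ∀ {T : Over S} (z : T ⟶ ZX), (eY.homEquiv (z ≫ j)).1 = (eX.homEquiv z).1 ≫ f :=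
    fun z => congrArg Subtype.val (hj _ z)
  have hw : evX ≫ f = j ≫ evY := by
    have h0 := E3 (𝟙 ZX)
    rw [Category.id_comp] at h0
    rw [← E1 j, h0, hevX, Category.assoc]
  have hjmono : ∀ {T : Over S} (l l' : T ⟶ ZX), l ≫ j = l' ≫ j → l = l' := by
    intro T l l' h
    apply eX.homEquiv.injective
    apply Subtype.ext
    rw [← cancel_mono f, ← E3, ← E3, h]
  have hex : ∀ s : PullbackCone f evY, ∃ l : s.pt ⟶ ZX, l ≫ evX = s.fst ∧ l ≫ j = s.snd := by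
    intro s
    have hcond : lift (ept N s.pt) (𝟙 s.pt) ≫ (eY.homEquiv s.snd).1 = s.fst ≫ f := by
      rw [E1, s.condition]
    obtain ⟨ψ, hψ⟩ := exists_factor hf (eY.homEquiv s.snd) s.fst hcond
    have hψe : MonAct.IsEquivariant ((subAct S M N).prod (MonAct.trivial (AMonS S M) s.pt)) aX ψ :=
      equivariant_of_comp hf _ ψ (by rw [hψ]; exact (eY.homEquiv s.snd).2)
    have hlj : eX.homEquiv.symm ⟨ψ, hψe⟩ ≫ j = s.snd := by
      apply eY.homEquiv.injective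
      apply Subtype.ext
      rw [E3, Equiv.apply_symm_apply]
      exact hψ
    refine ⟨eX.homEquiv.symm ⟨ψ, hψe⟩, ?_, hlj⟩
    rw [← cancel_mono f, Category.assoc, hw, ← Category.assoc, hlj, s.condition]
  have hpb : IsPullback evX j f evY := by
    refine ⟨⟨hw⟩, ⟨PullbackCone.IsLimit.mk _ (fun s => Classical.choose (hex s))
      (fun s => (Classical.choose_spec (hex s)).1) (fun s => (Classical.choose_spec (hex s)).2)
      (fun s m _ h2 => ?_)⟩⟩
    exact hjmono _ _ (h2.trans (Classical.choose_spec (hex s)).2.symm)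
  exact MorphismProperty.of_isPullback (P := @IsOpenImmersion) (hpb.map (Over.forget S))
    (show IsOpenImmersion f.left from inferInstance)

end Groth.Agent.H9.MagOpen
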