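import Mathlib
import Groth.Prelude.Def_Magnet4
import Groth.Agent.Lib.Helper9.Misc.MagOpen
import Groth.Agent.Lib.Helper9.Misc.ACT1
import Groth.Agent.Lib.Helper9.Misc.SIM1

/-!
# Helper9: EBS — restricted actions and the stable-open principle (for S18302)
-/

set_option linter.style.haveILetI false
set_option linter.unusedSectionVars false
set_option autoImplicit false

namespace Groth.Agent.H9.EB

universe u v₁ u₁

open CategoryTheory CategoryTheory.Limits AlgebraicGeometry MonoidalCategory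
  CartesianMonoidalCategory MonObj Opposite
open Magnet

section Abstract

variable {C : Type u₁} [Category.{v₁} C] [CartesianMonoidalCategory C] {A W Y : C} [MonObj A]

/-- restriction of an action to a stable subobject -/
def restrictAct (a : MonAct A Y) (j : W ⟶ Y) [Mono j] (α : A ⊗ W ⟶ W)
    (hα : α ≫ j = (A ◁ j) ≫ a.act) : MonAct A W :=
  MonAct.mk' α
    (fun T x => by
      rw [← cancel_mono j, Category.assoc, hα, lift_whiskerLeft_assoc, a.lift_one_act])
    (fun T g h x => by
      rw [← cancel_mono j, Category.assoc, Category.assoc, hα, lift_whiskerLeft_assoc,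
        lift_whiskerLeft_assoc, a.lift_mul_act, Category.assoc, hα, lift_whiskerLeft_assoc])

theorem restrictAct_act (a : MonAct A Y) (j : W ⟶ Y) [Mono j] (α : A ⊗ W ⟶ W)
    (hα : α ≫ j = (A ◁ j) ≫ a.act) : (restrictAct a j α hα).act = α := rfl

theorem isEquivariant_restrictAct (a : MonAct A Y) (j : W ⟶ Y) [Mono j] (α : A ⊗ W ⟶ W)
    (hα : α ≫ j = (A ◁ j) ≫ a.act) : MonAct.IsEquivariant (restrictAct a j α hα) a j := hα

end Abstract

section Props

variable (S : Scheme.{u}) (M : Type)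

instance flat_AMonS_hom [AddCommMonoid M] : Flat (AMonS S M).hom := by
  have h0 : Flat (AMon (ULift.{u} ℤ) M).hom := by
    change Flat (Spec.map (CommRingCat.ofHom (algebraMap (ULift.{u} ℤ)
      (MonoidAlgebra (ULift.{u} ℤ) (Multiplicative M)))))
    rw [HasRingHomProperty.Spec_iff (P := @Flat)]
    rw [CommRingCat.hom_ofHom, RingHom.flat_algebraMap_iff]
    infer_instance
  change Flat (pullback.snd (AMon (ULift.{u} ℤ) M).hom _)
  infer_instance

instance lfp_AMonS_hom [AddCommGroup M] [hM : AddGroup.FG M] :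
    LocallyOfFinitePresentation (AMonS S M).hom := by
  have hfgM : Monoid.FG (Multiplicative M) :=
    AddMonoid.fg_iff_mul_fg.1 (AddGroup.fg_iff_addMonoid_fg.1 hM)
  have hnoe : IsNoetherianRing (ULift.{u} ℤ) :=
    isNoetherianRing_of_ringEquiv ℤ ULift.ringEquiv.symm
  have hftM : Algebra.FiniteType (ULift.{u} ℤ) (MonoidAlgebra (ULift.{u} ℤ) (Multiplicative M)) :=
    inferInstance
  have h0 : LocallyOfFinitePresentation (AMon (ULift.{u} ℤ) M).hom := by
    change LocallyOfFinitePresentation (Spec.map (CommRingCat.ofHom (algebraMap (ULift.{u} ℤ)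
      (MonoidAlgebra (ULift.{u} ℤ) (Multiplicative M)))))
    rw [LocallyOfFinitePresentation.SpecMap_iff, CommRingCat.hom_ofHom,
      ← RingHom.FinitePresentation.of_finiteType]
    exact RingHom.finiteType_algebraMap.2 hftM
  change LocallyOfFinitePresentation (pullback.snd (AMon (ULift.{u} ℤ) M).hom _)
  infer_instance

end Props

section SO

variable {S : Scheme.{u}} {M : Type} [AddCommGroup M] [AddGroup.FG M] (N : AddSubmonoid M)
  {X : Over S} (aX : MonAct (AMonS S M) X) {T : Over S}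

/-- The stable-open principle: two equivariant morphisms `A(N) ⊗ T ⟶ X` which agree on a neighbourhood
of the distinguished section `e_{N*}(T)` are equal. -/
theorem eq_of_agree_near (a b : AMonS S ↥N ⊗ T ⟶ X)
    (ha : MonAct.IsEquivariant ((subAct S M N).prod (MonAct.trivial (AMonS S M) T)) aX a)
    (hb : MonAct.IsEquivariant ((subAct S M N).prod (MonAct.trivial (AMonS S M) T)) aX b)
    (h : ∀ t : T.left, ∃ W : (AMonS S ↥N ⊗ T).left.Opens,
        (lift (MagOpen.ept N T) (𝟙 T)).left t ∈ W ∧ W.ι ≫ a.left = W.ι ≫ b.left) : a = b := by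
  -- the largest open on which `a` and `b` agree
  let I := {W : (AMonS S ↥N ⊗ T).left.Opens // W.ι ≫ a.left = W.ι ≫ b.left}
  obtain ⟨W₀, hW₀def⟩ : ∃ W₀ : (AMonS S ↥N ⊗ T).left.Opens, W₀ = ⨆ W : I, W.1 := ⟨_, rfl⟩
  have hW₀ : W₀.ι ≫ a.left = W₀.ι ≫ b.left := by
    subst hW₀def
    apply Scheme.Cover.hom_ext (Scheme.Opens.iSupOpenCover (fun W : I => W.1))
    have key : ∀ W : I, (AMonS S ↥N ⊗ T).left.homOfLE (le_iSup (fun W : I => W.1) W) ≫
        (⨆ W : I, W.1).ι ≫ a.left = (AMonS S ↥N ⊗ T).left.homOfLE (le_iSup (fun W : I => W.1) W) ≫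
        (⨆ W : I, W.1).ι ≫ b.left := by
      intro W
      rw [Scheme.homOfLE_ι_assoc, Scheme.homOfLE_ι_assoc]
      exact W.2
    exact fun W => key W
  have hle : ∀ W : (AMonS S ↥N ⊗ T).left.Opens, W.ι ≫ a.left = W.ι ≫ b.left → W ≤ W₀ := by
    intro W hW
    rw [hW₀def]
    exact le_iSup (fun W : I => W.1) ⟨W, hW⟩
  obtain ⟨Wo, j, hjo, hrj, hjab⟩ : ∃ (Wo : Over S) (j : Wo ⟶ AMonS S ↥N ⊗ T),
      IsOpenImmersion j.left ∧ Set.range j.left = (W₀ : Set (AMonS S ↥N ⊗ T).left) ∧
        j.left ≫ a.left = j.left ≫ b.left :=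
    ⟨Over.mk (W₀.ι ≫ (AMonS S ↥N ⊗ T).hom), Over.homMk W₀.ι rfl,
      inferInstanceAs (IsOpenImmersion W₀.ι), Scheme.Opens.range_ι W₀, hW₀⟩
  haveI := hjo
  haveI : Mono j := Over.mono_of_mono_left _
  have hj : j ≫ a = j ≫ b := by
    apply Over.OverMorphism.ext
    rw [Over.comp_left, Over.comp_left]
    exact hjab
  -- the orbit map
  have hg : ((AMonS S M ◁ j) ≫ ((subAct S M N).prod (MonAct.trivial (AMonS S M) T)).act) ≫ a =
      ((AMonS S M ◁ j) ≫ ((subAct S M N).prod (MonAct.trivial (AMonS S M) T)).act) ≫ b := by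
    unfold MonAct.IsEquivariant at ha hb
    rw [Category.assoc, Category.assoc, ha, hb, ← MonoidalCategory.whiskerLeft_comp_assoc,
      ← MonoidalCategory.whiskerLeft_comp_assoc, hj]
  obtain ⟨g, hgdef⟩ : ∃ g : AMonS S M ⊗ Wo ⟶ AMonS S ↥N ⊗ T,
      g = (AMonS S M ◁ j) ≫ ((subAct S M N).prod (MonAct.trivial (AMonS S M) T)).act := ⟨_, rfl⟩
  rw [← hgdef] at hg
  haveI : IsOpenImmersion (AMonS S M ◁ j).left :=
    MorphismProperty.of_isPullback (P := @IsOpenImmersion) (SIM.isPullback_whiskerLeft_left _ j)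
      inferInstance
  haveI : Flat ((subAct S M N).prod (MonAct.trivial (AMonS S M) T)).act.left :=
    FLH.flat_act (G := AMonS S M)
      (MonAct.toAction (G := AMonS S M) ((subAct S M N).prod (MonAct.trivial (AMonS S M) T)))
  haveI : LocallyOfFinitePresentation
      ((subAct S M N).prod (MonAct.trivial (AMonS S M) T)).act.left :=
    ACT.act_of_stable (G := AMonS S M)
      (MonAct.toAction (G := AMonS S M) ((subAct S M N).prod (MonAct.trivial (AMonS S M) T)))
      @LocallyOfFinitePresentation (lfp_AMonS_hom S M)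
  have hgl : g.left = (AMonS S M ◁ j).left ≫
      ((subAct S M N).prod (MonAct.trivial (AMonS S M) T)).act.left := by
    rw [hgdef]; rfl
  haveI : Flat g.left := by rw [hgl]; infer_instance
  haveI : LocallyOfFinitePresentation g.left := by rw [hgl]; infer_instance
  obtain ⟨O, hO⟩ : ∃ O : (AMonS S ↥N ⊗ T).left.Opens,
      (O : Set (AMonS S ↥N ⊗ T).left) = Set.range g.left :=
    ⟨⟨Set.range g.left, g.left.isOpenMap.isOpen_range⟩, rfl⟩
  have hOle : O ≤ W₀ := by
    apply hle
    have hr : Set.range g.left ⊆ Set.range O.ι := by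
      rw [Scheme.Opens.range_ι, hO]
    have hfac : IsOpenImmersion.lift O.ι g.left hr ≫ O.ι = g.left := IsOpenImmersion.lift_fac _ _ _
    haveI : Flat (IsOpenImmersion.lift O.ι g.left hr ≫ O.ι) := by rw [hfac]; infer_instance
    haveI : Flat (IsOpenImmersion.lift O.ι g.left hr) :=
      MorphismProperty.of_postcomp (W := @Flat) (W' := @IsOpenImmersion) _ O.ι inferInstance
        inferInstance
    haveI : Surjective (IsOpenImmersion.lift O.ι g.left hr) := by
      refine ⟨fun y => ?_⟩
      have hy : O.ι y ∈ Set.range O.ι := ⟨y, rfl⟩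
      rw [Scheme.Opens.range_ι, hO] at hy
      obtain ⟨x, hx⟩ := hy
      refine ⟨x, ?_⟩
      apply O.ι.injective
      rw [← Scheme.Hom.comp_apply, hfac, hx]
    haveI : Epi (IsOpenImmersion.lift O.ι g.left hr) := Flat.epi_of_flat_of_surjective _
    rw [← cancel_epi (IsOpenImmersion.lift O.ι g.left hr), reassoc_of% hfac, reassoc_of% hfac,
      ← Over.comp_left, ← Over.comp_left, hg]
  -- the restricted action
  obtain ⟨α, hα⟩ : ∃ α : AMonS S M ⊗ Wo ⟶ Wo, α ≫ j = g := by
    apply MagOpen.exists_factor_of_range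
    rw [hrj, ← hO]
    exact hOle
  rw [hgdef] at hα
  -- the distinguished section lies in `W₀`
  obtain ⟨x, hx⟩ : ∃ x : T ⟶ Wo, x ≫ j = lift (MagOpen.ept N T) (𝟙 T) := by
    apply MagOpen.exists_factor_of_range
    rw [hrj]
    rintro _ ⟨t, rfl⟩
    obtain ⟨W, htW, hW⟩ := h t
    exact hle W hW htW
  obtain ⟨ψ, hψ⟩ := MagOpen.exists_factor (N := N)
    (isEquivariant_restrictAct ((subAct S M N).prod (MonAct.trivial (AMonS S M) T)) j α hα)
    (⟨𝟙 _, MonAct.IsEquivariant.id _⟩ :
      (attr ((subAct S M N).prod (MonAct.trivial (AMonS S M) T)) N).obj (op T)) x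
    (by rw [hx]; exact Category.comp_id _)
  have hψ' : ψ ≫ j = 𝟙 _ := hψ
  rw [← Category.id_comp a, ← Category.id_comp b, ← hψ', Category.assoc, Category.assoc, hj]

end SO

end Groth.Agent.H9.EB
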