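import Mathlib
import Groth.Prelude.Def_Magnet4
import Groth.Agent.Lib.Helper9.Misc.EBS
import Groth.Agent.Lib.Helper7.ThkA

/-!
# Helper9: EBU — uniqueness of equivariant étale lifts along a face (for S18302)
-/

set_option linter.style.haveILetI false
set_option linter.unusedSectionVars false
set_option autoImplicit false

namespace Groth.Agent.H9.EB

universe u

open CategoryTheory CategoryTheory.Limits AlgebraicGeometry MonoidalCategory
  CartesianMonoidalCategory MonObj Opposite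
open Magnet
open Groth.Agent.H9.MagKun Groth.Agent.H9.MagChr Groth.Agent.H9.MagPts Groth.Agent.H9.MagDef
  Groth.Agent.H9.MagOpen

section Face

variable {S : Scheme.{u}} {M : Type} [AddCommGroup M] {N Q : AddSubmonoid M}

theorem unitFace_face (hQ : IsFace N Q) : unitFace Q = unitFace N := by
  ext x
  constructor
  · rintro ⟨hx, y, hy, hxy⟩
    exact ⟨hQ.le hx, y, hQ.le hy, hxy⟩
  · rintro ⟨hx, y, hy, hxy⟩
    have h0 : x + y ∈ Q := by rw [hxy]; exact Q.zero_mem
    obtain ⟨hxQ, hyQ⟩ := hQ.mem_of_add_mem x hx y hy h0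
    exact ⟨hxQ, y, hyQ, hxy⟩

theorem ept_face (hQ : IsFace N Q) (T : Over S) :
    ept Q T ≫ AMonS.faceMap S hQ = ept N T := by
  apply chr_injective
  apply MonoidHom.ext
  intro n
  by_cases hn : ((Multiplicative.toAdd n : ↥N) : M) ∈ unitFace N
  · have hnQ : ((Multiplicative.toAdd n : ↥N) : M) ∈ Q :=
      unitFace_le Q (by rw [unitFace_face hQ]; exact hn)
    rw [chr_ept_of_mem N T n hn, chr_faceMap_of_mem hQ _ n hnQ, chr_ept_of_mem Q T]
    rw [unitFace_face hQ]
    exact hn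
  · rw [chr_ept_of_not_mem N T n hn]
    by_cases hnQ : ((Multiplicative.toAdd n : ↥N) : M) ∈ Q
    · rw [chr_faceMap_of_mem hQ _ n hnQ, chr_ept_of_not_mem Q T]
      rw [unitFace_face hQ]
      exact hn
    · rw [chr_faceMap_of_not_mem hQ _ n hnQ]

theorem ept_section_face (hQ : IsFace N Q) (T : Over S) :
    lift (ept N T) (𝟙 T) = lift (ept Q T) (𝟙 T) ≫ (AMonS.faceMap S hQ ▷ T) := by
  rw [lift_whiskerRight, ept_face]

end Face

section Uniq

variable {S : Scheme.{u}} {M : Type} [AddCommGroup M] [AddGroup.FG M] {N Q : AddSubmonoid M}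

/-- uniqueness of equivariant lifts through an unramified morphism, given the restriction to a face -/
theorem unique_of_etale (hQ : IsFace N Q) {X U : Over S} (aU : MonAct (AMonS S M) U) (f : U ⟶ X)
    [Etale f.left] {T : Over S} (ψ₁ ψ₂ : AMonS S ↥N ⊗ T ⟶ U)
    (h₁ : MonAct.IsEquivariant ((subAct S M N).prod (MonAct.trivial (AMonS S M) T)) aU ψ₁)
    (h₂ : MonAct.IsEquivariant ((subAct S M N).prod (MonAct.trivial (AMonS S M) T)) aU ψ₂)
    (hf : ψ₁ ≫ f = ψ₂ ≫ f)
    (hq : (AMonS.faceMap S hQ ▷ T) ≫ ψ₁ = (AMonS.faceMap S hQ ▷ T) ≫ ψ₂) : ψ₁ = ψ₂ := by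
  apply eq_of_agree_near N aU ψ₁ ψ₂ h₁ h₂
  suffices h : ∃ W : (AMonS S ↥N ⊗ T).left.Opens,
      Set.range (AMonS.faceMap S hQ ▷ T).left ⊆ W ∧ W.ι ≫ ψ₁.left = W.ι ≫ ψ₂.left by
    obtain ⟨W, hW1, hW2⟩ := h
    intro t
    refine ⟨W, hW1 ?_, hW2⟩
    rw [ept_section_face hQ T, Over.comp_left, Scheme.Hom.comp_apply]
    exact ⟨_, rfl⟩
  let X' : Over X.left := Over.mk (ψ₁.left ≫ f.left)
  let Y' : Over X.left := Over.mk f.left
  let f' : X' ⟶ Y' := Over.homMk ψ₁.left rfl
  let g' : X' ⟶ Y' := Over.homMk ψ₂.left (by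
    change ψ₂.left ≫ f.left = ψ₁.left ≫ f.left
    rw [← Over.comp_left, ← Over.comp_left, hf])
  let Z' : Over X.left := Over.mk ((AMonS.faceMap S hQ ▷ T).left ≫ ψ₁.left ≫ f.left)
  let z' : Z' ⟶ X' := Over.homMk (AMonS.faceMap S hQ ▷ T).left rfl
  haveI : FormallyUnramified Y'.hom := inferInstanceAs (FormallyUnramified f.left)
  haveI : LocallyOfFiniteType Y'.hom := inferInstanceAs (LocallyOfFiniteType f.left)
  haveI := Groth.Agent.H7.Thk.isOpenImmersion_equalizer_ι_left f' g'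
  have hz : z' ≫ f' = z' ≫ g' := by
    ext1
    change (AMonS.faceMap S hQ ▷ T).left ≫ ψ₁.left = (AMonS.faceMap S hQ ▷ T).left ≫ ψ₂.left
    rw [← Over.comp_left, ← Over.comp_left, hq]
  have hl : (equalizer.lift z' hz).left ≫ (equalizer.ι f' g').left =
      (AMonS.faceMap S hQ ▷ T).left := by
    rw [← Over.comp_left, equalizer.lift_ι]
    rfl
  refine ⟨(equalizer.ι f' g').left.opensRange, ?_, ?_⟩
  · rintro _ ⟨y, rfl⟩
    rw [← hl, Scheme.Hom.comp_apply]
    exact ⟨_, rfl⟩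
  · have hc : (equalizer.ι f' g').left ≫ ψ₁.left = (equalizer.ι f' g').left ≫ ψ₂.left :=
      congrArg (fun k => k.left) (equalizer.condition f' g')
    rw [← Scheme.Hom.isoOpensRange_inv_comp, Category.assoc, Category.assoc, hc]

end Uniq

end Groth.Agent.H9.EB
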