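import Mathlib
import Groth.Prelude.Def_Magnet4
import Groth.Agent.Lib.Helper9.Misc.EBA
import Groth.Agent.Lib.Helper9.Misc.EBU
import Groth.Agent.Lib.Helper9.Misc.MagLoc
import Groth.Agent.Lib.Helper9.Misc.MGU1
import Groth.Agent.Lib.Helper9.Misc.MGU2

/-!
# Helper9: EBT — infinitesimal neighbourhoods of a face in `A(N) ⊗ T`, `T` affine (for S18302)
-/

set_option linter.style.haveILetI false
set_option linter.unusedSectionVars false
set_option autoImplicit false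

namespace Groth.Agent.H9.EB

universe u

open CategoryTheory CategoryTheory.Limits AlgebraicGeometry MonoidalCategory
  CartesianMonoidalCategory MonObj Opposite
open Magnet
open Groth.Agent.H9.MagKun Groth.Agent.H9.MagChr Groth.Agent.H9.MagPts Groth.Agent.H9.MagDef
  Groth.Agent.H9.MagOpen

section Sch

/-- closed subscheme of an affine scheme cut out by an ideal, with exact kernel -/
theorem exists_closed_affine' (Y : Scheme.{u}) [IsAffine Y] (I : Ideal Γ(Y, ⊤)) :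
    ∃ (Z : Scheme.{u}) (z : Z ⟶ Y), IsClosedImmersion z ∧ IsAffine Z ∧
      (∀ y, z.appTop.hom y = 0 ↔ y ∈ I) ∧ Function.Surjective z.appTop.hom ∧
      ∀ {T : Scheme.{u}} (x : T ⟶ Y), (∀ y ∈ I, x.appTop.hom y = 0) → ∃ w : T ⟶ Z, w ≫ z = x := by
  obtain ⟨q, hq⟩ : ∃ q : Γ(Y, ⊤) ⟶ CommRingCat.of (Γ(Y, ⊤) ⧸ I),
      q = CommRingCat.ofHom (Ideal.Quotient.mk I) := ⟨_, rfl⟩
  have e' : Y.isoSpec.inv.appTop ≫ (Scheme.ΓSpecIso Γ(Y, ⊤)).hom = 𝟙 _ := by
    have h1 : Y.toSpecΓ ≫ Y.isoSpec.inv = 𝟙 _ := Y.isoSpec.hom_inv_id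
    rw [← Scheme.toSpecΓ_appTop, ← Scheme.Hom.comp_appTop, h1]
    rfl
  have e : Y.isoSpec.inv.appTop = (Scheme.ΓSpecIso Γ(Y, ⊤)).inv :=
    (Iso.comp_hom_eq_id _).mp e'
  have happ : (Spec.map q ≫ Y.isoSpec.inv).appTop = q ≫ (Scheme.ΓSpecIso _).inv := by
    rw [Scheme.Hom.comp_appTop, e, ← Scheme.ΓSpecIso_inv_naturality]
  have hcl : IsClosedImmersion (Spec.map q ≫ Y.isoSpec.inv) := by
    rw [hq]
    haveI : IsClosedImmersion (Spec.map (CommRingCat.ofHom (Ideal.Quotient.mk I))) :=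
      IsClosedImmersion.spec_of_surjective _ Ideal.Quotient.mk_surjective
    infer_instance
  have hinj : Function.Injective (Scheme.ΓSpecIso (CommRingCat.of (Γ(Y, ⊤) ⧸ I))).inv.hom :=
    ((ConcreteCategory.bijective_of_isIso (Scheme.ΓSpecIso (CommRingCat.of (Γ(Y, ⊤) ⧸ I))).inv)).1
  have hsur : Function.Surjective (Scheme.ΓSpecIso (CommRingCat.of (Γ(Y, ⊤) ⧸ I))).inv.hom :=
    ((ConcreteCategory.bijective_of_isIso (Scheme.ΓSpecIso (CommRingCat.of (Γ(Y, ⊤) ⧸ I))).inv)).2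
  refine ⟨Spec (CommRingCat.of (Γ(Y, ⊤) ⧸ I)), Spec.map q ≫ Y.isoSpec.inv, hcl, inferInstance,
    ?_, ?_, ?_⟩
  · intro y
    rw [happ, hq]
    change (Scheme.ΓSpecIso (CommRingCat.of (Γ(Y, ⊤) ⧸ I))).inv.hom (Ideal.Quotient.mk I y) = 0 ↔ _
    rw [← Ideal.Quotient.eq_zero_iff_mem]
    constructor
    · intro h
      apply hinj
      rw [h, map_zero]
    · intro h
      rw [h, map_zero]
  · intro d
    obtain ⟨d', rfl⟩ := hsur d
    obtain ⟨y, rfl⟩ := Ideal.Quotient.mk_surjective d'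
    refine ⟨y, ?_⟩
    rw [happ, hq]
    rfl
  · intro T x hx
    have hker : ∀ y ∈ I, x.appTop.hom y = 0 := hx
    refine ⟨T.toSpecΓ ≫ Spec.map (CommRingCat.ofHom (Ideal.Quotient.lift I x.appTop.hom hker)), ?_⟩
    have h2 : q ≫ CommRingCat.ofHom (Ideal.Quotient.lift I x.appTop.hom hker) = x.appTop := by
      rw [hq]
      apply CommRingCat.hom_ext
      ext y
      exact Ideal.Quotient.lift_mk I x.appTop.hom hker
    rw [Category.assoc, ← Spec.map_comp_assoc, h2, ← Scheme.toSpecΓ_naturality_assoc]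
    have h1 : Y.toSpecΓ ≫ Y.isoSpec.inv = 𝟙 _ := Y.isoSpec.hom_inv_id
    rw [h1, Category.comp_id]

/-- a morphism of affine schemes which is surjective on functions with nil kernel is surjective -/
theorem surjective_of_nil {Z' Z : Scheme.{u}} [IsAffine Z'] [IsAffine Z] (w : Z' ⟶ Z)
    (hs : Function.Surjective w.appTop.hom) (hn : ∀ y, w.appTop.hom y = 0 → IsNilpotent y) :
    Surjective w := by
  have h1 : Function.Surjective (Spec.map w.appTop) := by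
    change Function.Surjective (PrimeSpectrum.comap w.appTop.hom)
    rw [← Set.range_eq_univ, range_comap_of_surjective _ _ hs,
      PrimeSpectrum.zeroLocus_eq_univ_iff]
    intro y hy
    exact (mem_nilradical).2 (hn y hy)
  have h2 : w ≫ Z.toSpecΓ = Z'.toSpecΓ ≫ Spec.map w.appTop := Scheme.toSpecΓ_naturality w
  refine ⟨fun z => ?_⟩
  obtain ⟨p, hp⟩ := h1 (Z.toSpecΓ z)
  obtain ⟨z', hz'⟩ := Z'.toSpecΓ.homeomorph.surjective p
  rw [Scheme.Hom.homeomorph_apply] at hz'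
  refine ⟨z', ?_⟩
  apply Z.toSpecΓ.homeomorph.injective
  rw [Scheme.Hom.homeomorph_apply, Scheme.Hom.homeomorph_apply]
  have := congrArg (fun k => (k : Z' ⟶ _) z') h2
  simp only [Scheme.Hom.comp_apply] at this
  rw [this, hz', hp]

end Sch

section Thick

variable {S : Scheme.{u}} {M : Type} [AddCommGroup M] (N : AddSubmonoid M) (ℓ : M →+ ℤ)
  (hℓ : ∀ n ∈ N, 0 ≤ ℓ n) (T : Over S) [IsAffine T.left]

/-- the `k`-th infinitesimal neighbourhood of the face `{ℓ = 0}` in `A(N) ⊗ T` -/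
structure Thickening (k : ℕ) where
  /-- the scheme -/
  V : Over S
  /-- the closed immersion -/
  inc : V ⟶ AMonS S ↥N ⊗ T
  affine : IsAffine V.left
  closed : IsClosedImmersion inc.left
  ker_iff : ∀ c : MonoidAlgebra Γ(T.left, ⊤) (Multiplicative ↥N),
    inc.left.appTop.hom (kappa S ↥N T c) = 0 ↔ c ∈ Ik Γ(T.left, ⊤) N ℓ hℓ k
  surj : ∀ d : Γ(V.left, ⊤), ∃ c : MonoidAlgebra Γ(T.left, ⊤) (Multiplicative ↥N),
    inc.left.appTop.hom (kappa S ↥N T c) = d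
  lift : ∀ {T' : Over S} (x : T' ⟶ AMonS S ↥N ⊗ T),
    (∀ c ∈ Ik Γ(T.left, ⊤) N ℓ hℓ k, x.left.appTop.hom (kappa S ↥N T c) = 0) →
      ∃ w : T' ⟶ V, w ≫ inc = x

theorem nonempty_thickening (k : ℕ) : Nonempty (Thickening N ℓ hℓ T k) := by
  haveI : IsAffine (AMonS S ↥N ⊗ T).left := MGU.affine_tensor _ _
  obtain ⟨e, he⟩ : ∃ e : MonoidAlgebra Γ(T.left, ⊤) (Multiplicative ↥N) ≃+*
      Γ((AMonS S ↥N ⊗ T).left, ⊤), ∀ c, e c = kappa S ↥N T c :=
    ⟨RingEquiv.ofBijective (kappa S ↥N T) (kappa_bijective S ↥N T), fun c => rfl⟩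
  obtain ⟨Z, z, hcl, haff, hker, hsur, hlift⟩ := exists_closed_affine' (AMonS S ↥N ⊗ T).left
    (Ideal.comap e.symm.toRingHom (Ik Γ(T.left, ⊤) N ℓ hℓ k))
  refine ⟨{ V := Over.mk (z ≫ (AMonS S ↥N ⊗ T).hom)
            inc := Over.homMk z rfl
            affine := haff
            closed := hcl
            ker_iff := ?_
            surj := ?_
            lift := ?_ }⟩
  · intro c
    change z.appTop.hom (kappa S ↥N T c) = 0 ↔ _
    rw [hker, Ideal.mem_comap, ← he]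
    change e.symm (e c) ∈ _ ↔ _
    rw [RingEquiv.symm_apply_apply]
  · intro d
    obtain ⟨y, hy⟩ := hsur d
    refine ⟨e.symm y, ?_⟩
    change z.appTop.hom (kappa S ↥N T (e.symm y)) = d
    rw [← he, RingEquiv.apply_symm_apply, hy]
  · intro T' x hx
    obtain ⟨w₀, hw₀⟩ := hlift x.left (by
      intro y hy
      rw [Ideal.mem_comap] at hy
      have := hx _ hy
      change x.left.appTop.hom (kappa S ↥N T (e.symm y)) = 0 at this
      rwa [← he, RingEquiv.apply_symm_apply] at this)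
    refine ⟨Over.homMk w₀ ?_, ?_⟩
    · change w₀ ≫ z ≫ (AMonS S ↥N ⊗ T).hom = T'.hom
      rw [← Category.assoc, hw₀, Over.w x]
    · apply Over.OverMorphism.ext
      exact hw₀

/-- a choice of thickenings -/
noncomputable def thk (k : ℕ) : Thickening N ℓ hℓ T k :=
  Classical.choice (nonempty_thickening N ℓ hℓ T k)

instance (k : ℕ) : IsAffine (thk N ℓ hℓ T k).V.left := (thk N ℓ hℓ T k).affine

instance (k : ℕ) : IsClosedImmersion (thk N ℓ hℓ T k).inc.left := (thk N ℓ hℓ T k).closed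

instance (k : ℕ) : Mono (thk N ℓ hℓ T k).inc := Over.mono_of_mono_left _

end Thick

section Kit

variable {S : Scheme.{u}} {M : Type} [AddCommGroup M] (N : AddSubmonoid M) (T : Over S)

theorem kappa_single_eq (n : Multiplicative ↥N) (r : Γ(T.left, ⊤)) :
    kappa S ↥N T (MonoidAlgebra.single n r) =
      cHom S ↥N T r * chr (fst (AMonS S ↥N) T) n := by
  rw [kappa_single, chr_fst, kappa_single_of]

theorem kappa_single_one_eq (n : Multiplicative ↥N) :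
    kappa S ↥N T (MonoidAlgebra.single n 1) = chr (fst (AMonS S ↥N) T) n := by
  rw [chr_fst]

theorem prod_act_eq :
    ((subAct S M N).prod (MonAct.trivial (AMonS S M) T)).act =
      lift (lift (fst (AMonS S M) (AMonS S ↥N ⊗ T))
          (snd (AMonS S M) (AMonS S ↥N ⊗ T) ≫ fst (AMonS S ↥N) T) ≫ (subAct S M N).act)
        (lift (fst (AMonS S M) (AMonS S ↥N ⊗ T))
          (snd (AMonS S M) (AMonS S ↥N ⊗ T) ≫ snd (AMonS S ↥N) T) ≫
            (MonAct.trivial (AMonS S M) T).act) := rfl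

theorem prod_act_fst :
    ((subAct S M N).prod (MonAct.trivial (AMonS S M) T)).act ≫ fst (AMonS S ↥N) T =
      (fst (AMonS S M) (AMonS S ↥N ⊗ T) ≫ AMonS.map S N.subtype) *
        (snd (AMonS S M) (AMonS S ↥N ⊗ T) ≫ fst (AMonS S ↥N) T) := by
  rw [prod_act_eq, lift_fst, lift_subAct]

theorem prod_act_snd :
    ((subAct S M N).prod (MonAct.trivial (AMonS S M) T)).act ≫ snd (AMonS S ↥N) T =
      snd (AMonS S M) (AMonS S ↥N ⊗ T) ≫ snd (AMonS S ↥N) T := by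
  rw [prod_act_eq, lift_snd, MonAct.lift_trivial_act]

end Kit

section Thick2

variable {S : Scheme.{u}} {M : Type} [AddCommGroup M] (N : AddSubmonoid M) (ℓ : M →+ ℤ)
  (hℓ : ∀ n ∈ N, 0 ≤ ℓ n) (T : Over S) [IsAffine T.left]

theorem chr_inc (k : ℕ) (n : Multiplicative ↥N) (h : (k : ℤ) ≤ deg N ℓ n) :
    chr ((thk N ℓ hℓ T k).inc ≫ fst (AMonS S ↥N) T) n = 0 := by
  rw [chr_precomp, ← kappa_single_one_eq]
  exact ((thk N ℓ hℓ T k).ker_iff _).2 (single_mem_Ik _ N ℓ hℓ n 1 h)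

theorem lift_of_chr (k : ℕ) {T' : Over S} (x : T' ⟶ AMonS S ↥N ⊗ T)
    (h : ∀ n : Multiplicative ↥N, (k : ℤ) ≤ deg N ℓ n → chr (x ≫ fst (AMonS S ↥N) T) n = 0) :
    ∃ w : T' ⟶ (thk N ℓ hℓ T k).V, w ≫ (thk N ℓ hℓ T k).inc = x := by
  apply (thk N ℓ hℓ T k).lift
  intro c hc
  change ((x.left.appTop.hom).comp (kappa S ↥N T)) c = 0
  apply map_eq_zero_of_mem_Ik _ N ℓ hℓ _ _ hc
  intro n hn
  rw [RingHom.comp_apply, kappa_single_one_eq, ← chr_precomp]
  exact h n hn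

theorem tr_aux {k k' : ℕ} (h : k ≤ k') (n : Multiplicative ↥N) (hn : (k' : ℤ) ≤ deg N ℓ n) :
    chr ((thk N ℓ hℓ T k).inc ≫ fst (AMonS S ↥N) T) n = 0 :=
  chr_inc N ℓ hℓ T k n (by
    have : (k : ℤ) ≤ k' := by exact_mod_cast h
    omega)

/-- the transition maps -/
noncomputable def tr {k k' : ℕ} (h : k ≤ k') : (thk N ℓ hℓ T k).V ⟶ (thk N ℓ hℓ T k').V :=
  (lift_of_chr N ℓ hℓ T k' (thk N ℓ hℓ T k).inc (tr_aux N ℓ hℓ T h)).choose

theorem tr_inc {k k' : ℕ} (h : k ≤ k') :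
    tr N ℓ hℓ T h ≫ (thk N ℓ hℓ T k').inc = (thk N ℓ hℓ T k).inc :=
  (lift_of_chr N ℓ hℓ T k' (thk N ℓ hℓ T k).inc (tr_aux N ℓ hℓ T h)).choose_spec

instance {k k' : ℕ} (h : k ≤ k') : IsClosedImmersion (tr N ℓ hℓ T h).left := by
  have e : (tr N ℓ hℓ T h).left ≫ (thk N ℓ hℓ T k').inc.left = (thk N ℓ hℓ T k).inc.left := by
    rw [← Over.comp_left, tr_inc]
  haveI : IsClosedImmersion ((tr N ℓ hℓ T h).left ≫ (thk N ℓ hℓ T k').inc.left) := by
    rw [e]; infer_instance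
  exact IsClosedImmersion.of_comp (tr N ℓ hℓ T h).left (thk N ℓ hℓ T k').inc.left

theorem tr_appTop {k k' : ℕ} (h : k ≤ k') (c : MonoidAlgebra Γ(T.left, ⊤) (Multiplicative ↥N)) :
    (tr N ℓ hℓ T h).left.appTop.hom ((thk N ℓ hℓ T k').inc.left.appTop.hom (kappa S ↥N T c)) =
      (thk N ℓ hℓ T k).inc.left.appTop.hom (kappa S ↥N T c) := by
  rw [← tr_inc N ℓ hℓ T h, Over.comp_left, Scheme.Hom.comp_appTop]
  rfl

theorem surjective_tr {k k' : ℕ} (h : k ≤ k') (hk : 1 ≤ k) :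
    Surjective (tr N ℓ hℓ T h).left := by
  apply surjective_of_nil
  · intro d
    obtain ⟨c, rfl⟩ := (thk N ℓ hℓ T k).surj d
    exact ⟨_, tr_appTop N ℓ hℓ T h c⟩
  · intro y hy
    obtain ⟨c, rfl⟩ := (thk N ℓ hℓ T k').surj y
    rw [tr_appTop, (thk N ℓ hℓ T k).ker_iff] at hy
    refine ⟨k', ?_⟩
    rw [← map_pow, ← map_pow, (thk N ℓ hℓ T k').ker_iff]
    exact pow_mem_Ik _ N ℓ hℓ (Ik_antitone _ N ℓ hℓ hk hy) k'

/-- the action on the thickening -/
theorem exists_alpha (k : ℕ) : ∃ α : AMonS S M ⊗ (thk N ℓ hℓ T k).V ⟶ (thk N ℓ hℓ T k).V,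
    α ≫ (thk N ℓ hℓ T k).inc = (AMonS S M ◁ (thk N ℓ hℓ T k).inc) ≫
      ((subAct S M N).prod (MonAct.trivial (AMonS S M) T)).act := by
  apply lift_of_chr
  intro n hn
  rw [Category.assoc, prod_act_fst, MonObj.comp_mul, chr_mul, ← Category.assoc _ (snd _ _),
    whiskerLeft_snd, Category.assoc, chr_precomp _ ((thk N ℓ hℓ T k).inc ≫ fst _ _),
    chr_inc N ℓ hℓ T k n hn, map_zero, mul_zero]

end Thick2

section FaceQ

variable {S : Scheme.{u}} {M : Type} [AddCommGroup M] (N : AddSubmonoid M) (ℓ : M →+ ℤ)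
  (hℓ : ∀ n ∈ N, 0 ≤ ℓ n) (T : Over S) [IsAffine T.left]
  {Q : AddSubmonoid M} (hQ : IsFace N Q) (hℓQ : ∀ n ∈ N, ℓ n = 0 ↔ n ∈ Q)

include hℓQ in
theorem not_mem_of_deg (n : Multiplicative ↥N) (h : (1 : ℤ) ≤ deg N ℓ n) :
    ((Multiplicative.toAdd n : ↥N) : M) ∉ Q := by
  intro hn
  have := (hℓQ _ (Multiplicative.toAdd n).2).2 hn
  unfold deg at h
  omega

include hℓ hℓQ in
theorem deg_of_not_mem (n : Multiplicative ↥N) (h : ((Multiplicative.toAdd n : ↥N) : M) ∉ Q) :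
    ((1 : ℕ) : ℤ) ≤ deg N ℓ n := by
  have h1 := hℓ _ (Multiplicative.toAdd n).2
  have h2 : ℓ ((Multiplicative.toAdd n : ↥N) : M) ≠ 0 := fun h0 =>
    h ((hℓQ _ (Multiplicative.toAdd n).2).1 h0)
  unfold deg
  push_cast
  omega

include hℓQ in
theorem exists_face_lift : ∃ i : AMonS S ↥Q ⊗ T ⟶ (thk N ℓ hℓ T 1).V,
    i ≫ (thk N ℓ hℓ T 1).inc = AMonS.faceMap S hQ ▷ T := by
  apply lift_of_chr
  intro n hn
  rw [whiskerRight_fst]
  exact chr_faceMap_fst_of_not_mem hQ n (not_mem_of_deg N ℓ hℓQ n (by exact_mod_cast hn))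

include hℓQ in
theorem inc_retract :
    (thk N ℓ hℓ T 1).inc ≫ (AMonS.map S (AddSubmonoid.inclusion hQ.le) ▷ T) ≫
      (AMonS.faceMap S hQ ▷ T) = (thk N ℓ hℓ T 1).inc := by
  apply CartesianMonoidalCategory.hom_ext
  · rw [Category.assoc, Category.assoc, whiskerRight_fst, whiskerRight_fst_assoc]
    apply chr_injective
    apply MonoidHom.ext
    intro n
    by_cases hn : ((Multiplicative.toAdd n : ↥N) : M) ∈ Q
    · rw [← Category.assoc, ← Category.assoc, chr_faceMap_of_mem hQ _ n hn, chr_comp_map]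
      rfl
    · rw [← Category.assoc, ← Category.assoc, chr_faceMap_of_not_mem hQ _ n hn,
        chr_inc N ℓ hℓ T 1 n (deg_of_not_mem N ℓ hℓ hℓQ n hn)]
  · rw [Category.assoc, Category.assoc, whiskerRight_snd, whiskerRight_snd]

end FaceQ

end Groth.Agent.H9.EB
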