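import Mathlib
import Groth.Prelude.Def_Magnet4
import Groth.Agent.Lib.Helper9.Misc.EBT

/-!
# Helper9: EBT2 — joint injectivity of the thickenings, and the coaction on `A(N) ⊗ T` (for S18302)
-/

set_option linter.style.haveILetI false
set_option linter.unusedSectionVars false
set_option autoImplicit false

namespace Groth.Agent.H9.EB

universe u

open CategoryTheory CategoryTheory.Limits AlgebraicGeometry MonoidalCategory
  CartesianMonoidalCategory MonObj Opposite
open Magnet
open Groth.Agent.H9.MagKun Groth.Agent.H9.MagChr Groth.Agent.H9.MagPts Groth.Agent.H9.MagDef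
  Groth.Agent.H9.MagOpen

section JI

variable {S : Scheme.{u}} {M : Type} [AddCommGroup M] (N : AddSubmonoid M) (ℓ : M →+ ℤ)
  (hℓ : ∀ n ∈ N, 0 ≤ ℓ n) (T : Over S) [IsAffine T.left]

theorem thk_ext (s : ℕ) (d : Γ((AMonS S ↥N ⊗ T).left, ⊤))
    (h : ∀ k : ℕ, (thk N ℓ hℓ T (k + s)).inc.left.appTop.hom d = 0) : d = 0 := by
  obtain ⟨c, rfl⟩ := (kappa_bijective S ↥N T).2 d
  have hc : c = 0 := by
    apply eq_zero_of_forall_mem_Ik _ N ℓ hℓ
    intro k
    exact Ik_antitone _ N ℓ hℓ (Nat.le_add_right k s) (((thk N ℓ hℓ T (k + s)).ker_iff c).1 (h k))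
  rw [hc, map_zero]

theorem hom_ext_thk {Y₀ : Scheme.{u}} [IsAffine Y₀] (s : ℕ)
    (g₁ g₂ : (AMonS S ↥N ⊗ T).left ⟶ Y₀)
    (h : ∀ k : ℕ, (thk N ℓ hℓ T (k + s)).inc.left ≫ g₁ = (thk N ℓ hℓ T (k + s)).inc.left ≫ g₂) :
    g₁ = g₂ := by
  apply ext_of_isAffine
  apply CommRingCat.hom_ext
  apply RingHom.ext
  intro y
  rw [← sub_eq_zero]
  apply thk_ext N ℓ hℓ T s
  intro k
  have := congrArg (fun q => q.appTop.hom y) (h k)
  simp only [Scheme.Hom.comp_appTop, CommRingCat.hom_comp, RingHom.comp_apply] at this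
  rw [map_sub, this, sub_self]

theorem thkM_ext (s : ℕ) (d : Γ((AMonS S M ⊗ (AMonS S ↥N ⊗ T)).left, ⊤))
    (h : ∀ k : ℕ, (AMonS S M ◁ (thk N ℓ hℓ T (k + s)).inc).left.appTop.hom d = 0) : d = 0 := by
  haveI : IsAffine (AMonS S ↥N ⊗ T).left := MGU.affine_tensor _ _
  obtain ⟨z, rfl⟩ := (kappa_bijective S M (AMonS S ↥N ⊗ T)).2 d
  have hz : z = 0 := by
    rw [← MonoidAlgebra.coeff_eq_zero]
    apply Finsupp.ext
    intro m
    apply thk_ext N ℓ hℓ T s
    intro k
    have h1 := h k
    rw [kappa_natT] at h1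
    have h2 := (kappa_bijective S M (thk N ℓ hℓ T (k + s)).V).1
      (h1.trans (map_zero (kappa S M (thk N ℓ hℓ T (k + s)).V)).symm)
    have h3 := congrArg (fun q => q.coeff m) h2
    simpa using h3
  rw [hz, map_zero]

theorem hom_ext_thk_whisker {Y₀ : Scheme.{u}} [IsAffine Y₀] (s : ℕ)
    (g₁ g₂ : (AMonS S M ⊗ (AMonS S ↥N ⊗ T)).left ⟶ Y₀)
    (h : ∀ k : ℕ, (AMonS S M ◁ (thk N ℓ hℓ T (k + s)).inc).left ≫ g₁ =
      (AMonS S M ◁ (thk N ℓ hℓ T (k + s)).inc).left ≫ g₂) : g₁ = g₂ := by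
  apply ext_of_isAffine
  apply CommRingCat.hom_ext
  apply RingHom.ext
  intro y
  rw [← sub_eq_zero]
  apply thkM_ext N ℓ hℓ T s
  intro k
  have := congrArg (fun q => q.appTop.hom y) (h k)
  simp only [Scheme.Hom.comp_appTop, CommRingCat.hom_comp, RingHom.comp_apply] at this
  rw [map_sub, this, sub_self]

end JI

section Coact

variable {S : Scheme.{u}} {M : Type} [AddCommGroup M] (N : AddSubmonoid M) (T : Over S)

/-- the coaction on monomials -/
theorem act_kappa_single (n : Multiplicative ↥N) (r : Γ(T.left, ⊤)) :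
    ((subAct S M N).prod (MonAct.trivial (AMonS S M) T)).act.left.appTop.hom
        (kappa S ↥N T (MonoidAlgebra.single n r)) =
      kappa S M (AMonS S ↥N ⊗ T)
        (MonoidAlgebra.single (AddMonoidHom.toMultiplicative N.subtype n)
          (kappa S ↥N T (MonoidAlgebra.single n r))) := by
  have h1 : ((subAct S M N).prod (MonAct.trivial (AMonS S M) T)).act.left.appTop.hom
      (cHom S ↥N T r) = cHom S M (AMonS S ↥N ⊗ T) (cHom S ↥N T r) := by
    unfold cHom
    rw [← RingHom.comp_apply, ← CommRingCat.hom_comp, ← Scheme.Hom.comp_appTop, ← Over.comp_left,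
      prod_act_snd, Over.comp_left, Scheme.Hom.comp_appTop, CommRingCat.hom_comp,
      RingHom.comp_apply]
  have h2 : ((subAct S M N).prod (MonAct.trivial (AMonS S M) T)).act.left.appTop.hom
      (chr (fst (AMonS S ↥N) T) n) =
      kappa S M (AMonS S ↥N ⊗ T)
        (MonoidAlgebra.single (AddMonoidHom.toMultiplicative N.subtype n) 1) *
      cHom S M (AMonS S ↥N ⊗ T) (chr (fst (AMonS S ↥N) T) n) := by
    rw [← chr_precomp, prod_act_fst, chr_mul, chr_comp_map, chr_fst, chr_precomp]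
    rfl
  have h3 : ∀ x : Γ((AMonS S ↥N ⊗ T).left, ⊤), kappa S M (AMonS S ↥N ⊗ T)
      (MonoidAlgebra.single (AddMonoidHom.toMultiplicative N.subtype n) x) =
      cHom S M (AMonS S ↥N ⊗ T) x * kappa S M (AMonS S ↥N ⊗ T)
        (MonoidAlgebra.single (AddMonoidHom.toMultiplicative N.subtype n) 1) := by
    intro x
    rw [kappa_single, kappa_single_of]
  rw [kappa_single_eq, map_mul, h1, h2, h3 (cHom S ↥N T r * chr (fst (AMonS S ↥N) T) n), map_mul]
  ring

/-- the coaction of `A(M)` on functions on `A(N) ⊗ T`, in coordinates -/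
noncomputable def coact (c : MonoidAlgebra Γ(T.left, ⊤) (Multiplicative ↥N)) :
    MonoidAlgebra Γ((AMonS S ↥N ⊗ T).left, ⊤) (Multiplicative M) :=
  c.coeff.sum fun n r => MonoidAlgebra.single (AddMonoidHom.toMultiplicative N.subtype n)
    (kappa S ↥N T (MonoidAlgebra.single n r))

theorem act_kappa (c : MonoidAlgebra Γ(T.left, ⊤) (Multiplicative ↥N)) :
    ((subAct S M N).prod (MonAct.trivial (AMonS S M) T)).act.left.appTop.hom (kappa S ↥N T c) =
      kappa S M (AMonS S ↥N ⊗ T) (coact N T c) := by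
  conv_lhs => rw [← MonoidAlgebra.sum_coeff_single c]
  unfold coact
  rw [Finsupp.sum, Finsupp.sum, map_sum, map_sum, map_sum]
  exact Finset.sum_congr rfl fun n _ => act_kappa_single N T n _

theorem coeff_coact (c : MonoidAlgebra Γ(T.left, ⊤) (Multiplicative ↥N)) (n : Multiplicative ↥N) :
    (coact N T c).coeff (AddMonoidHom.toMultiplicative N.subtype n) =
      kappa S ↥N T (MonoidAlgebra.single n (c.coeff n)) := by
  classical
  unfold coact
  rw [Finsupp.sum, MonoidAlgebra.coeff_sum, Finsupp.finsetSum_apply]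
  have hinj : ∀ n' : Multiplicative ↥N, AddMonoidHom.toMultiplicative N.subtype n' =
      AddMonoidHom.toMultiplicative N.subtype n → n' = n := by
    intro n' h
    apply Multiplicative.toAdd.injective
    apply Subtype.ext
    exact congrArg Multiplicative.toAdd h
  rw [Finset.sum_eq_single n]
  · rw [MonoidAlgebra.coeff_single, Finsupp.single_eq_same]
  · intro n' _ hn'
    rw [MonoidAlgebra.coeff_single, Finsupp.single_apply, if_neg]
    intro h
    exact hn' (hinj n' h)
  · intro hn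
    rw [Finsupp.notMem_support_iff.1 hn, MonoidAlgebra.single_zero, map_zero,
      MonoidAlgebra.single_zero]
    rfl

end Coact

section Supp

variable {S : Scheme.{u}} {M : Type} [AddCommGroup M] (N : AddSubmonoid M) (ℓ : M →+ ℤ)
  (hℓ : ∀ n ∈ N, 0 ≤ ℓ n) (T : Over S) [IsAffine T.left]

/-- equivariance bounds the supports -/
theorem exists_support_bound (k : ℕ) {Y : Over S} (aY : MonAct (AMonS S M) Y)
    (α : AMonS S M ⊗ (thk N ℓ hℓ T k).V ⟶ (thk N ℓ hℓ T k).V)
    (hα : α ≫ (thk N ℓ hℓ T k).inc = (AMonS S M ◁ (thk N ℓ hℓ T k).inc) ≫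
      ((subAct S M N).prod (MonAct.trivial (AMonS S M) T)).act)
    (ψ : (thk N ℓ hℓ T k).V ⟶ Y) (hψ : α ≫ ψ = (AMonS S M ◁ ψ) ≫ aY.act)
    (b : Γ(Y.left, ⊤)) (zb : MonoidAlgebra Γ(Y.left, ⊤) (Multiplicative M))
    (hzb : kappa S M Y zb = aY.act.left.appTop.hom b) :
    ∃ c : MonoidAlgebra Γ(T.left, ⊤) (Multiplicative ↥N),
      (∀ n ∈ c.coeff.support, AddMonoidHom.toMultiplicative N.subtype n ∈ zb.coeff.support) ∧
      (thk N ℓ hℓ T k).inc.left.appTop.hom (kappa S ↥N T c) = ψ.left.appTop.hom b := by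
  classical
  obtain ⟨c', hc'⟩ := (thk N ℓ hℓ T k).surj (ψ.left.appTop.hom b)
  -- the two expressions of `α^* ψ^* b`
  have e1 : kappa S M (thk N ℓ hℓ T k).V (MonoidAlgebra.mapRingHom _ ψ.left.appTop.hom zb) =
      α.left.appTop.hom (ψ.left.appTop.hom b) := by
    rw [← kappa_natT, hzb, ← RingHom.comp_apply, ← CommRingCat.hom_comp, ← Scheme.Hom.comp_appTop,
      ← Over.comp_left, ← hψ, Over.comp_left, Scheme.Hom.comp_appTop, CommRingCat.hom_comp,
      RingHom.comp_apply]
  have e2 : kappa S M (thk N ℓ hℓ T k).V (MonoidAlgebra.mapRingHom _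
      (thk N ℓ hℓ T k).inc.left.appTop.hom (coact N T c')) =
      α.left.appTop.hom (ψ.left.appTop.hom b) := by
    rw [← kappa_natT, ← act_kappa, ← RingHom.comp_apply, ← CommRingCat.hom_comp,
      ← Scheme.Hom.comp_appTop, ← Over.comp_left, ← hα, Over.comp_left, Scheme.Hom.comp_appTop,
      CommRingCat.hom_comp, RingHom.comp_apply, hc']
  have e3 : MonoidAlgebra.mapRingHom _ ψ.left.appTop.hom zb = MonoidAlgebra.mapRingHom _
      (thk N ℓ hℓ T k).inc.left.appTop.hom (coact N T c') :=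
    (kappa_bijective S M (thk N ℓ hℓ T k).V).1 (e1.trans e2.symm)
  have key : ∀ n : Multiplicative ↥N, AddMonoidHom.toMultiplicative N.subtype n ∉ zb.coeff.support →
      (thk N ℓ hℓ T k).inc.left.appTop.hom
        (kappa S ↥N T (MonoidAlgebra.single n (c'.coeff n))) = 0 := by
    intro n hn
    have h := congrArg (fun q => q.coeff (AddMonoidHom.toMultiplicative N.subtype n)) e3
    simp only [MonoidAlgebra.coeff_mapRingHom] at h
    rw [Finsupp.notMem_support_iff.1 hn, map_zero, coeff_coact] at h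
    exact h.symm
  refine ⟨MonoidAlgebra.ofCoeff (c'.coeff.filter
    (fun n => AddMonoidHom.toMultiplicative N.subtype n ∈ zb.coeff.support)), ?_, ?_⟩
  · intro n hn
    rw [MonoidAlgebra.coeff_ofCoeff, Finsupp.support_filter, Finset.mem_filter] at hn
    exact hn.2
  · rw [← hc']
    have hsplit : c' = MonoidAlgebra.ofCoeff (c'.coeff.filter
        (fun n => AddMonoidHom.toMultiplicative N.subtype n ∈ zb.coeff.support)) +
        MonoidAlgebra.ofCoeff (c'.coeff.filter
        (fun n => ¬ AddMonoidHom.toMultiplicative N.subtype n ∈ zb.coeff.support)) := by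
      rw [← MonoidAlgebra.ofCoeff_add, Finsupp.filter_pos_add_filter_neg, MonoidAlgebra.ofCoeff_coeff]
    conv_rhs => rw [hsplit]
    rw [map_add, map_add, left_eq_add]
    -- the complementary part dies
    have h0 : ∀ x : MonoidAlgebra Γ(T.left, ⊤) (Multiplicative ↥N),
        (∀ n ∈ x.coeff.support, (thk N ℓ hℓ T k).inc.left.appTop.hom
          (kappa S ↥N T (MonoidAlgebra.single n (x.coeff n))) = 0) →
        (thk N ℓ hℓ T k).inc.left.appTop.hom (kappa S ↥N T x) = 0 := by
      intro x hx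
      conv_lhs => rw [← MonoidAlgebra.sum_coeff_single x]
      rw [Finsupp.sum, map_sum, map_sum]
      exact Finset.sum_eq_zero hx
    apply h0
    intro n hn
    rw [MonoidAlgebra.coeff_ofCoeff, Finsupp.support_filter, Finset.mem_filter] at hn
    rw [MonoidAlgebra.coeff_ofCoeff,
      Finsupp.filter_apply_pos (fun n => ¬ AddMonoidHom.toMultiplicative N.subtype n ∈ zb.coeff.support)
        _ hn.2]
    exact key n hn.2

end Supp

end Groth.Agent.H9.EB
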