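import Mathlib
import Groth.Prelude.Def_Magnet4
import Groth.Agent.Lib.Helper9.Misc.EBT2

/-!
# Helper9: EBD — local agreement of two morphisms near a face via the power series flow (for S18302)
-/

set_option linter.style.haveILetI false
set_option linter.unusedSectionVars false
set_option autoImplicit false

namespace Groth.Agent.H9.EB

universe u

open CategoryTheory CategoryTheory.Limits AlgebraicGeometry MonoidalCategory
  CartesianMonoidalCategory MonObj Opposite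
open Magnet
open Groth.Agent.H9.MagKun Groth.Agent.H9.MagChr Groth.Agent.H9.MagPts Groth.Agent.H9.MagDef
  Groth.Agent.H9.MagOpen

section Flat

theorem flat_comp {A A' : CommRingCat.{u}} (f : A ⟶ A') {Z : Scheme.{u}} (g : Spec A ⟶ Z)
    (y : Γ(Z, ⊤)) :
    (Scheme.ΓSpecIso A').hom.hom ((Spec.map f ≫ g).appTop.hom y) =
      f.hom ((Scheme.ΓSpecIso A).hom.hom (g.appTop.hom y)) := by
  rw [Scheme.Hom.comp_appTop, CommRingCat.hom_comp, RingHom.comp_apply]
  exact congrArg (fun h => h.hom (g.appTop.hom y)) (Scheme.ΓSpecIso_naturality f)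

theorem flat_comp₂ {A A' A'' : CommRingCat.{u}} (f : A ⟶ A') (f' : A' ⟶ A'') {Z : Scheme.{u}}
    (g : Spec A ⟶ Z) (y : Γ(Z, ⊤)) :
    (Scheme.ΓSpecIso A'').hom.hom ((Spec.map f' ≫ Spec.map f ≫ g).appTop.hom y) =
      f'.hom (f.hom ((Scheme.ΓSpecIso A).hom.hom (g.appTop.hom y))) := by
  rw [flat_comp, flat_comp]

theorem ΓSpecIso_hom_injective (A : CommRingCat.{u}) :
    Function.Injective (Scheme.ΓSpecIso A).hom.hom :=
  (ConcreteCategory.bijective_of_isIso (Scheme.ΓSpecIso A).hom).1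

/-- the power series argument -/
theorem agree_of_flow {P₁ X₁ : Scheme.{u}} (a b : P₁ ⟶ X₁) (X' : X₁.Opens) (hX' : IsAffineOpen X')
    {L : Type u} [CommRing L] (sL : Spec (CommRingCat.of L) ⟶ P₁)
    (hrange : ∀ 𝔩, a (sL 𝔩) ∈ X' ∧ b (sL 𝔩) ∈ X')
    (θ : L →+* PowerSeries L) (hθ : Function.Injective θ)
    (hk : ∀ k : ℕ, Spec.map (CommRingCat.ofHom (Ideal.Quotient.mk
        (Ideal.span {(PowerSeries.X : PowerSeries L) ^ k}))) ≫ Spec.map (CommRingCat.ofHom θ) ≫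
          sL ≫ a =
      Spec.map (CommRingCat.ofHom (Ideal.Quotient.mk
        (Ideal.span {(PowerSeries.X : PowerSeries L) ^ k}))) ≫ Spec.map (CommRingCat.ofHom θ) ≫
          sL ≫ b) :
    sL ≫ a = sL ≫ b := by
  haveI : IsAffine X'.toScheme := hX'
  have ha : Set.range (sL ≫ a) ⊆ Set.range X'.ι := by
    rw [Scheme.Opens.range_ι]
    rintro _ ⟨𝔩, rfl⟩
    rw [Scheme.Hom.comp_apply]
    exact (hrange 𝔩).1
  have hb : Set.range (sL ≫ b) ⊆ Set.range X'.ι := by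
    rw [Scheme.Opens.range_ι]
    rintro _ ⟨𝔩, rfl⟩
    rw [Scheme.Hom.comp_apply]
    exact (hrange 𝔩).2
  obtain ⟨aL, haL⟩ : ∃ aL : Spec (CommRingCat.of L) ⟶ X'.toScheme, aL ≫ X'.ι = sL ≫ a :=
    ⟨IsOpenImmersion.lift X'.ι (sL ≫ a) ha, IsOpenImmersion.lift_fac _ _ _⟩
  obtain ⟨bL, hbL⟩ : ∃ bL : Spec (CommRingCat.of L) ⟶ X'.toScheme, bL ≫ X'.ι = sL ≫ b :=
    ⟨IsOpenImmersion.lift X'.ι (sL ≫ b) hb, IsOpenImmersion.lift_fac _ _ _⟩
  suffices h : aL = bL by rw [← haL, ← hbL, h]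
  have key : Spec.map (CommRingCat.ofHom θ) ≫ aL = Spec.map (CommRingCat.ofHom θ) ≫ bL := by
    apply ext_of_isAffine
    apply CommRingCat.hom_ext
    apply RingHom.ext
    intro y
    apply ΓSpecIso_hom_injective
    have hdiv : ∀ k : ℕ, (PowerSeries.X : PowerSeries L) ^ k ∣
        (Scheme.ΓSpecIso _).hom.hom ((Spec.map (CommRingCat.ofHom θ) ≫ aL).appTop.hom y) -
        (Scheme.ΓSpecIso _).hom.hom ((Spec.map (CommRingCat.ofHom θ) ≫ bL).appTop.hom y) := by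
      intro k
      have h1 : Spec.map (CommRingCat.ofHom (Ideal.Quotient.mk
          (Ideal.span {(PowerSeries.X : PowerSeries L) ^ k}))) ≫ Spec.map (CommRingCat.ofHom θ) ≫ aL =
          Spec.map (CommRingCat.ofHom (Ideal.Quotient.mk
          (Ideal.span {(PowerSeries.X : PowerSeries L) ^ k}))) ≫ Spec.map (CommRingCat.ofHom θ) ≫ bL := by
        rw [← cancel_mono X'.ι, Category.assoc, Category.assoc, Category.assoc, Category.assoc, haL,
          hbL]
        exact hk k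
      have h2 := congrArg (fun g => (Scheme.ΓSpecIso _).hom.hom (g.appTop.hom y)) h1
      simp only [flat_comp (CommRingCat.ofHom (Ideal.Quotient.mk
          (Ideal.span {(PowerSeries.X : PowerSeries L) ^ k})))] at h2
      rw [← Ideal.mem_span_singleton, ← Ideal.Quotient.eq]
      exact h2
    rw [← sub_eq_zero]
    ext n
    rw [map_zero]
    exact PowerSeries.X_pow_dvd_iff.1 (hdiv (n + 1)) n (Nat.lt_succ_self n)
  apply ext_of_isAffine
  apply CommRingCat.hom_ext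
  apply RingHom.ext
  intro y
  apply ΓSpecIso_hom_injective
  apply hθ
  have h3 := congrArg (fun g => (Scheme.ΓSpecIso _).hom.hom (g.appTop.hom y)) key
  simp only [flat_comp (CommRingCat.ofHom θ)] at h3
  exact h3

end Flat

section Near

variable {S : Scheme.{u}} {M : Type} [AddCommGroup M] (N : AddSubmonoid M) (ℓ : M →+ ℤ)
  (hℓ : ∀ n ∈ N, 0 ≤ ℓ n) (T : Over S) [IsAffine T.left]

theorem isoSpec_inv_flat (Y : Scheme.{u}) [IsAffine Y] (y : Γ(Y, ⊤)) :
    (Scheme.ΓSpecIso Γ(Y, ⊤)).hom.hom (Y.isoSpec.inv.appTop.hom y) = y := by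
  have e' : Y.isoSpec.inv.appTop ≫ (Scheme.ΓSpecIso Γ(Y, ⊤)).hom = 𝟙 _ := by
    have h1 : Y.toSpecΓ ≫ Y.isoSpec.inv = 𝟙 _ := Y.isoSpec.hom_inv_id
    rw [← Scheme.toSpecΓ_appTop, ← Scheme.Hom.comp_appTop, h1]
    rfl
  exact congrArg (fun h => h.hom y) e'

theorem toSpecΓ_isoSpec_inv (Y : Scheme.{u}) [IsAffine Y] (q : Spec Γ(Y, ⊤)) :
    Y.toSpecΓ (Y.isoSpec.inv q) = q := by
  have h1 : Y.isoSpec.inv ≫ Y.toSpecΓ = 𝟙 _ := Y.isoSpec.inv_hom_id
  calc Y.toSpecΓ (Y.isoSpec.inv q) = (Y.isoSpec.inv ≫ Y.toSpecΓ) q :=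
        (Scheme.Hom.comp_apply _ _ _).symm
    _ = q := by rw [h1]; rfl

theorem isoSpec_inv_toSpecΓ (Y : Scheme.{u}) [IsAffine Y] (p : Y) :
    Y.isoSpec.inv (Y.toSpecΓ p) = p := by
  have h1 : Y.toSpecΓ ≫ Y.isoSpec.inv = 𝟙 _ := Y.isoSpec.hom_inv_id
  calc Y.isoSpec.inv (Y.toSpecΓ p) = (Y.toSpecΓ ≫ Y.isoSpec.inv) p :=
        (Scheme.Hom.comp_apply _ _ _).symm
    _ = p := by rw [h1]; rfl

/-- the localization chart of a basic open of an affine scheme -/
theorem exists_chart (Y : Scheme.{u}) [IsAffine Y] (x' : Γ(Y, ⊤)) :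
    ∃ sL : Spec (CommRingCat.of (Localization.Away x')) ⟶ Y, IsOpenImmersion sL ∧
      (∀ 𝔩, sL 𝔩 ∈ Y.basicOpen x') ∧ (∀ p ∈ Y.basicOpen x', p ∈ Set.range sL) ∧
      ∀ y : Γ(Y, ⊤), (Scheme.ΓSpecIso (CommRingCat.of (Localization.Away x'))).hom.hom
        (sL.appTop.hom y) = algebraMap Γ(Y, ⊤) (Localization.Away x') y := by
  have hr := Scheme.Hom.opensRange_localizationAway x'
  refine ⟨Spec.map (CommRingCat.ofHom (algebraMap Γ(Y, ⊤) (Localization.Away x'))) ≫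
    Y.isoSpec.inv, inferInstance, ?_, ?_, ?_⟩
  · intro 𝔩
    rw [← Scheme.toSpecΓ_preimage_basicOpen, Scheme.Hom.comp_apply]
    change Y.toSpecΓ _ ∈ PrimeSpectrum.basicOpen x'
    rw [toSpecΓ_isoSpec_inv, ← hr]
    exact ⟨𝔩, rfl⟩
  · intro p hp
    rw [← Scheme.toSpecΓ_preimage_basicOpen] at hp
    have hp' : Y.toSpecΓ p ∈ PrimeSpectrum.basicOpen x' := hp
    rw [← hr] at hp'
    obtain ⟨𝔩, h𝔩⟩ := hp'
    refine ⟨𝔩, ?_⟩
    rw [Scheme.Hom.comp_apply, h𝔩, isoSpec_inv_toSpecΓ]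
  · intro y
    rw [flat_comp]
    exact congrArg (algebraMap Γ(Y, ⊤) (Localization.Away x')) (isoSpec_inv_flat Y y)

end Near

section Near2

variable {S : Scheme.{u}} {M : Type} [AddCommGroup M] (N : AddSubmonoid M) (ℓ : M →+ ℤ)
  (hℓ : ∀ n ∈ N, 0 ≤ ℓ n) (T : Over S) [IsAffine T.left]

/-- two morphisms out of `A(N) ⊗ T` which agree on all infinitesimal neighbourhoods of the face agree
near every point of the face -/
theorem agree_near_face (s : ℕ) {X₁ : Scheme.{u}} (a b : (AMonS S ↥N ⊗ T).left ⟶ X₁)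
    (hab : ∀ k : ℕ, (thk N ℓ hℓ T (k + s)).inc.left ≫ a = (thk N ℓ hℓ T (k + s)).inc.left ≫ b)
    (p : (AMonS S ↥N ⊗ T).left) (hp1 : a p = b p)
    (hp : ∀ c ∈ Ik Γ(T.left, ⊤) N ℓ hℓ 1,
      p ∉ (AMonS S ↥N ⊗ T).left.basicOpen (kappa S ↥N T c)) :
    ∃ W : (AMonS S ↥N ⊗ T).left.Opens, p ∈ W ∧ W.ι ≫ a = W.ι ≫ b := by
  haveI : IsAffine (AMonS S ↥N ⊗ T).left := MGU.affine_tensor _ _
  obtain ⟨X', hX', hpX', -⟩ := exists_isAffineOpen_mem_and_subset (X := X₁) (x := a p) (U := ⊤)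
    trivial
  have hpO : p ∈ a ⁻¹ᵁ X' ⊓ b ⁻¹ᵁ X' := ⟨hpX', by change b p ∈ X'; rw [← hp1]; exact hpX'⟩
  obtain ⟨c, hcO, hpc⟩ := (isAffineOpen_top (AMonS S ↥N ⊗ T).left).exists_basicOpen_le
    (V := a ⁻¹ᵁ X' ⊓ b ⁻¹ᵁ X') ⟨p, hpO⟩ trivial
  obtain ⟨c₀, rfl⟩ := (kappa_bijective S ↥N T).2 c
  have hpε : p ∈ (AMonS S ↥N ⊗ T).left.basicOpen (kappa S ↥N T (eps _ N ℓ hℓ c₀)) := by
    have h1 : kappa S ↥N T c₀ = kappa S ↥N T (eps _ N ℓ hℓ c₀) +
        kappa S ↥N T (c₀ - eps _ N ℓ hℓ c₀) := by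
      rw [← map_add]
      congr 1
      abel
    have hpc' : p ∈ (AMonS S ↥N ⊗ T).left.basicOpen (kappa S ↥N T c₀) := hpc
    rw [h1] at hpc'
    have h2 := Scheme.basicOpen_add_le _ _ _ hpc'
    rw [← SetLike.mem_coe, TopologicalSpace.Opens.coe_sup, Set.mem_union] at h2
    rcases h2 with h | h
    · exact h
    · exact absurd h (hp _ (sub_eps_mem _ N ℓ hℓ c₀))
  obtain ⟨e, he⟩ : ∃ e : MonoidAlgebra Γ(T.left, ⊤) (Multiplicative ↥N) ≃+*
      Γ((AMonS S ↥N ⊗ T).left, ⊤), ∀ c, e c = kappa S ↥N T c :=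
    ⟨RingEquiv.ofBijective (kappa S ↥N T) (kappa_bijective S ↥N T), fun c => rfl⟩
  obtain ⟨x', hx'⟩ : ∃ x' : Γ((AMonS S ↥N ⊗ T).left, ⊤), x' = e (c₀ * eps _ N ℓ hℓ c₀) := ⟨_, rfl⟩
  have hpx' : p ∈ (AMonS S ↥N ⊗ T).left.basicOpen x' := by
    rw [hx', map_mul, Scheme.basicOpen_mul, he, he]
    exact ⟨hpc, hpε⟩
  have hx'le : (AMonS S ↥N ⊗ T).left.basicOpen x' ≤ a ⁻¹ᵁ X' ⊓ b ⁻¹ᵁ X' := by
    rw [hx', map_mul, Scheme.basicOpen_mul, he]
    exact inf_le_left.trans hcO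
  obtain ⟨sL, hsLo, hsL1, hsL2, hsL3⟩ := exists_chart (AMonS S ↥N ⊗ T).left x'
  haveI := hsLo
  letI : Algebra (MonoidAlgebra Γ(T.left, ⊤) (Multiplicative ↥N)) (Localization.Away x') :=
    ((algebraMap Γ((AMonS S ↥N ⊗ T).left, ⊤) (Localization.Away x')).comp
      e.symm.symm.toRingHom).toAlgebra
  haveI hloc : IsLocalization.Away (c₀ * eps _ N ℓ hℓ c₀) (Localization.Away x') := by
    have h1 := IsLocalization.isLocalization_of_base_ringEquiv (Submonoid.powers x')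
      (Localization.Away x') e.symm
    have h2 : Submonoid.map e.symm (Submonoid.powers x') =
        Submonoid.powers (c₀ * eps _ N ℓ hℓ c₀) := by
      rw [Submonoid.map_powers, hx']
      congr 1
      exact e.symm_apply_apply _
    rw [h2] at h1
    exact h1
  have halg : ∀ c : MonoidAlgebra Γ(T.left, ⊤) (Multiplicative ↥N),
      algebraMap (MonoidAlgebra Γ(T.left, ⊤) (Multiplicative ↥N)) (Localization.Away x') c =
        algebraMap Γ((AMonS S ↥N ⊗ T).left, ⊤) (Localization.Away x') (kappa S ↥N T c) := by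
    intro c
    rw [← he]
    rfl
  obtain ⟨θ, hθinj, hθ⟩ := exists_flow _ N ℓ hℓ c₀ (Localization.Away x')
  have main : sL ≫ a = sL ≫ b := by
    refine agree_of_flow a b X' hX' sL (fun 𝔩 => ?_) θ hθinj (fun k => ?_)
    · exact hx'le (hsL1 𝔩)
    · obtain ⟨q, hq⟩ : ∃ q : Spec (CommRingCat.of (PowerSeries (Localization.Away x') ⧸
          Ideal.span {(PowerSeries.X : PowerSeries (Localization.Away x')) ^ k})) ⟶
          (AMonS S ↥N ⊗ T).left,
          q = Spec.map (CommRingCat.ofHom (Ideal.Quotient.mk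
            (Ideal.span {(PowerSeries.X : PowerSeries (Localization.Away x')) ^ k}))) ≫
            Spec.map (CommRingCat.ofHom θ) ≫ sL := ⟨_, rfl⟩
      have hvan : ∀ c ∈ Ik Γ(T.left, ⊤) N ℓ hℓ (k + s), q.appTop.hom (kappa S ↥N T c) = 0 := by
        intro c hc
        apply ΓSpecIso_hom_injective
        have h0 := flat_comp₂ (CommRingCat.ofHom θ) (CommRingCat.ofHom (Ideal.Quotient.mk
            (Ideal.span {(PowerSeries.X : PowerSeries (Localization.Away x')) ^ k}))) sL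
            (kappa S ↥N T c)
        have h1 : (PowerSeries.X : PowerSeries (Localization.Away x')) ^ k ∣
            θ (algebraMap Γ((AMonS S ↥N ⊗ T).left, ⊤) (Localization.Away x') (kappa S ↥N T c)) := by
          have := hθ k c (Ik_antitone _ N ℓ hℓ (Nat.le_add_right k s) hc)
          rwa [halg c] at this
        have h2 : Ideal.Quotient.mk
            (Ideal.span {(PowerSeries.X : PowerSeries (Localization.Away x')) ^ k})
            (θ (algebraMap Γ((AMonS S ↥N ⊗ T).left, ⊤) (Localization.Away x')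
              (kappa S ↥N T c))) = 0 :=
          Ideal.Quotient.eq_zero_iff_mem.2 (Ideal.mem_span_singleton.2 h1)
        subst hq
        refine (h0.trans ?_).trans (map_zero _).symm
        refine Eq.trans ?_ h2
        exact congrArg (fun z => Ideal.Quotient.mk
            (Ideal.span {(PowerSeries.X : PowerSeries (Localization.Away x')) ^ k}) (θ z))
          (hsL3 (kappa S ↥N T c))
      obtain ⟨w, hw⟩ := (thk N ℓ hℓ T (k + s)).lift
        (Over.homMk q rfl : Over.mk (q ≫ (AMonS S ↥N ⊗ T).hom) ⟶ AMonS S ↥N ⊗ T) hvan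
      have hw' : w.left ≫ (thk N ℓ hℓ T (k + s)).inc.left = q := by
        rw [← Over.comp_left, hw]
        rfl
      have hfin : q ≫ a = q ≫ b := by
        rw [← hw', Category.assoc, Category.assoc, hab k]
      rw [hq] at hfin
      simpa only [Category.assoc] using hfin
  refine ⟨sL.opensRange, hsL2 p hpx', ?_⟩
  rw [← Scheme.Hom.isoOpensRange_inv_comp, Category.assoc, Category.assoc, main]

end Near2

end Groth.Agent.H9.EB
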