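import Mathlib
import Groth.Agent.Lib.Helper7.ThkA

/-!
# Helper9: EBL — unique lifting of morphisms to étale schemes along thickenings
-/

set_option autoImplicit false

open CategoryTheory Limits AlgebraicGeometry Opposite MorphismProperty

namespace Groth.Agent.H9.EB

universe u

/-- Étale lifting along a surjective closed immersion. -/
theorem exists_lift_of_etale {U X V V₀ : Scheme.{u}} (f : U ⟶ X) [Etale f] (i : V₀ ⟶ V)
    [IsClosedImmersion i] [Surjective i] (v : V ⟶ X) (u₀ : V₀ ⟶ U) (h : u₀ ≫ f = i ≫ v) :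
    ∃ u : V ⟶ U, i ≫ u = u₀ ∧ u ≫ f = v := by
  let W : V.Etale := Scheme.Etale.mk (pullback.snd f v)
  let top : V.Etale := Scheme.Etale.mk (𝟙 V)
  let h₀l : ((EtCoh.bc i).obj top).left ⟶ ((EtCoh.bc i).obj W).left :=
    pullback.lift (pullback.snd (𝟙 V) i ≫ pullback.lift u₀ i h) (pullback.snd (𝟙 V) i)
      (by
        change (pullback.snd (𝟙 V) i ≫ pullback.lift u₀ i h) ≫ pullback.snd f v =
          pullback.snd (𝟙 V) i ≫ i
        rw [Category.assoc, pullback.lift_snd])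
  let h₀ : (EtCoh.bc i).obj top ⟶ (EtCoh.bc i).obj W :=
    MorphismProperty.Over.homMk h₀l (pullback.lift_snd _ _ _)
  haveI := Groth.Agent.H7.Thk.full_bc i
  obtain ⟨a, ha⟩ := (EtCoh.bc i).map_surjective h₀
  have haw : a.left ≫ pullback.snd f v = 𝟙 V := MorphismProperty.Over.w a
  have e1 := Groth.Agent.H7.CI.bc_map_left_fst i a
  rw [ha] at e1
  have e2 : h₀l ≫ pullback.fst (pullback.snd f v) i =
      pullback.snd (𝟙 V) i ≫ pullback.lift u₀ i h := pullback.lift_fst _ _ _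
  have e3 : pullback.snd (𝟙 V) i ≫ pullback.lift u₀ i h = pullback.fst (𝟙 V) i ≫ a.left :=
    e2.symm.trans e1
  obtain ⟨al, hal⟩ : ∃ al : V ⟶ pullback f v, al = a.left := ⟨_, rfl⟩
  rw [← hal] at haw e3
  have haw' : al ≫ pullback.snd f v = 𝟙 V := haw
  have e3' : pullback.snd (𝟙 V) i ≫ pullback.lift u₀ i h = pullback.fst (𝟙 V) i ≫ al := e3
  refine ⟨al ≫ pullback.fst f v, ?_, ?_⟩
  · let s : V₀ ⟶ pullback (𝟙 V) i := pullback.lift i (𝟙 V₀) (by simp)
    have e5 : s ≫ pullback.fst (𝟙 V) i = i := pullback.lift_fst _ _ _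
    have e6 : s ≫ pullback.snd (𝟙 V) i = 𝟙 V₀ := pullback.lift_snd _ _ _
    have e7 : i ≫ al = pullback.lift u₀ i h :=
      calc i ≫ al = (s ≫ pullback.fst (𝟙 V) i) ≫ al := by rw [e5]
        _ = s ≫ (pullback.snd (𝟙 V) i ≫ pullback.lift u₀ i h) := by rw [Category.assoc, e3']
        _ = pullback.lift u₀ i h := by rw [← Category.assoc, e6, Category.id_comp]
    rw [← Category.assoc, e7, pullback.lift_fst]
  · rw [Category.assoc, pullback.condition, ← Category.assoc, haw', Category.id_comp]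

theorem lift_unique_of_etale {U X V V₀ : Scheme.{u}} (f : U ⟶ X) [Etale f] (i : V₀ ⟶ V)
    [Surjective i] (u u' : V ⟶ U) (h₁ : i ≫ u = i ≫ u') (h₂ : u ≫ f = u' ≫ f) : u = u' :=
  Groth.Agent.H7.Thk.ext_of_surjective_of_unramified f h₂ i h₁

end Groth.Agent.H9.EB
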