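import Mathlib
import Groth.Prelude.Def_Magnet4
import Groth.Agent.Lib.Helper9.Misc.EBD
import Groth.Agent.Lib.Helper9.Misc.EBL

/-!
# Helper9: EBX1 — the tower of étale lifts on the infinitesimal neighbourhoods (for S18302)
-/

set_option linter.style.haveILetI false
set_option linter.unusedSectionVars false
set_option autoImplicit false

namespace Groth.Agent.H9.EB

universe u

open CategoryTheory CategoryTheory.Limits AlgebraicGeometry MonoidalCategory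
  CartesianMonoidalCategory MonObj Opposite
open Magnet
open Groth.Agent.H9.MagKun Groth.Agent.H9.MagChr Groth.Agent.H9.MagPts Groth.Agent.H9.MagDef
  Groth.Agent.H9.MagOpen

section Gen

variable {S : Scheme.{u}} {M : Type} [AddCommGroup M]

theorem isEquivariant_map_whiskerRight {N Q : AddSubmonoid M} (h : Q ≤ N) (T : Over S) :
    MonAct.IsEquivariant ((subAct S M N).prod (MonAct.trivial (AMonS S M) T))
      ((subAct S M Q).prod (MonAct.trivial (AMonS S M) T))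
      (AMonS.map S (AddSubmonoid.inclusion h) ▷ T) := by
  have := ((attrMap ((subAct S M Q).prod (MonAct.trivial (AMonS S M) T)) h).app (op T)
    ⟨𝟙 _, MonAct.IsEquivariant.id _⟩).2
  change MonAct.IsEquivariant _ _ ((AMonS.map S (AddSubmonoid.inclusion h) ▷ T) ≫ 𝟙 _) at this
  rwa [Category.comp_id] at this

theorem isEquivariant_fst {U : Over S} (aU : MonAct (AMonS S M) U) (T : Over S) :
    MonAct.IsEquivariant (aU.prod (MonAct.trivial (AMonS S M) T)) aU (fst U T) := by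
  rw [MonAct.isEquivariant_iff]
  intro T' g z
  rw [← lift_comp_fst_snd z, MonAct.lift_prod_act_assoc, lift_fst, lift_fst]

end Gen

section Tower

variable {S : Scheme.{u}} {M : Type} [AddCommGroup M] (N : AddSubmonoid M) (ℓ : M →+ ℤ)
  (hℓ : ∀ n ∈ N, 0 ≤ ℓ n) (T : Over S) [IsAffine T.left]

theorem tr_refl (k : ℕ) : tr N ℓ hℓ T (le_refl k) = 𝟙 _ := by
  rw [← cancel_mono (thk N ℓ hℓ T k).inc, tr_inc, Category.id_comp]

theorem tr_trans {k k' k'' : ℕ} (h : k ≤ k') (h' : k' ≤ k'') :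
    tr N ℓ hℓ T h ≫ tr N ℓ hℓ T h' = tr N ℓ hℓ T (h.trans h') := by
  rw [← cancel_mono (thk N ℓ hℓ T k'').inc, Category.assoc, tr_inc, tr_inc, tr_inc]

theorem whisker_tr_alpha {k k' : ℕ} (h : k ≤ k')
    (α : AMonS S M ⊗ (thk N ℓ hℓ T k).V ⟶ (thk N ℓ hℓ T k).V)
    (hα : α ≫ (thk N ℓ hℓ T k).inc = (AMonS S M ◁ (thk N ℓ hℓ T k).inc) ≫
      ((subAct S M N).prod (MonAct.trivial (AMonS S M) T)).act)
    (α' : AMonS S M ⊗ (thk N ℓ hℓ T k').V ⟶ (thk N ℓ hℓ T k').V)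
    (hα' : α' ≫ (thk N ℓ hℓ T k').inc = (AMonS S M ◁ (thk N ℓ hℓ T k').inc) ≫
      ((subAct S M N).prod (MonAct.trivial (AMonS S M) T)).act) :
    (AMonS S M ◁ tr N ℓ hℓ T h) ≫ α' = α ≫ tr N ℓ hℓ T h := by
  rw [← cancel_mono (thk N ℓ hℓ T k').inc, Category.assoc, Category.assoc, hα', tr_inc, hα,
    ← MonoidalCategory.whiskerLeft_comp_assoc, tr_inc]

theorem surjective_whiskerLeft_tr {k k' : ℕ} (h : k ≤ k') (hk : 1 ≤ k) :
    Surjective (AMonS S M ◁ tr N ℓ hℓ T h).left :=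
  MorphismProperty.of_isPullback (P := @Surjective) (SIM.isPullback_whiskerLeft_left _ _)
    (surjective_tr N ℓ hℓ T h hk)

end Tower

section Tower2

variable {S : Scheme.{u}} {M : Type} [AddCommGroup M] (N : AddSubmonoid M) (ℓ : M →+ ℤ)
  (hℓ : ∀ n ∈ N, 0 ≤ ℓ n) (T : Over S) [IsAffine T.left]
  {Q : AddSubmonoid M} (hQ : IsFace N Q) (hℓQ : ∀ n ∈ N, ℓ n = 0 ↔ n ∈ Q)
  {X U : Over S} (aX : MonAct (AMonS S M) X) (aU : MonAct (AMonS S M) U)
  (f : U ⟶ X) [Etale f.left] (hf : MonAct.IsEquivariant aU aX f)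

include hf in
/-- uniqueness of lifts on a thickening -/
theorem tower_unique {k k' : ℕ} (h : k ≤ k') (hk : 1 ≤ k) (u u' : (thk N ℓ hℓ T k').V ⟶ U)
    (h₁ : tr N ℓ hℓ T h ≫ u = tr N ℓ hℓ T h ≫ u') (h₂ : u ≫ f = u' ≫ f) : u = u' := by
  haveI := surjective_tr N ℓ hℓ T h hk
  apply Over.OverMorphism.ext
  apply lift_unique_of_etale f.left (tr N ℓ hℓ T h).left
  · rw [← Over.comp_left, ← Over.comp_left, h₁]
  · rw [← Over.comp_left, ← Over.comp_left, h₂]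

include hℓQ hf in
theorem exists_tower
    (φ : AMonS S ↥N ⊗ T ⟶ X)
    (hφ : MonAct.IsEquivariant ((subAct S M N).prod (MonAct.trivial (AMonS S M) T)) aX φ)
    (ψQ : AMonS S ↥Q ⊗ T ⟶ U)
    (hψQ : MonAct.IsEquivariant ((subAct S M Q).prod (MonAct.trivial (AMonS S M) T)) aU ψQ)
    (hcomp : (AMonS.faceMap S hQ ▷ T) ≫ φ = ψQ ≫ f) :
    ∃ ψ : ∀ k : ℕ, (thk N ℓ hℓ T (k + 1)).V ⟶ U,
      (∀ k, ψ k ≫ f = (thk N ℓ hℓ T (k + 1)).inc ≫ φ) ∧
      (∀ k, tr N ℓ hℓ T (Nat.le_succ (k + 1)) ≫ ψ (k + 1) = ψ k) ∧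
      (∀ k (α : AMonS S M ⊗ (thk N ℓ hℓ T (k + 1)).V ⟶ (thk N ℓ hℓ T (k + 1)).V),
        α ≫ (thk N ℓ hℓ T (k + 1)).inc = (AMonS S M ◁ (thk N ℓ hℓ T (k + 1)).inc) ≫
          ((subAct S M N).prod (MonAct.trivial (AMonS S M) T)).act →
        α ≫ ψ k = (AMonS S M ◁ ψ k) ≫ aU.act) ∧
      (tr N ℓ hℓ T (Nat.le_add_left 1 0) ≫ ψ 0 = (thk N ℓ hℓ T 1).inc ≫
        (AMonS.map S (AddSubmonoid.inclusion hQ.le) ▷ T) ≫ ψQ) := by
  obtain ⟨ψ₁, hψ₁⟩ : ∃ ψ₁ : (thk N ℓ hℓ T 1).V ⟶ U, ψ₁ = (thk N ℓ hℓ T 1).inc ≫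
      (AMonS.map S (AddSubmonoid.inclusion hQ.le) ▷ T) ≫ ψQ := ⟨_, rfl⟩
  have hψ₁f : ψ₁ ≫ f = (thk N ℓ hℓ T 1).inc ≫ φ := by
    have e := inc_retract N ℓ hℓ T hQ hℓQ
    rw [hψ₁, Category.assoc, Category.assoc, ← hcomp]
    conv_rhs => rw [← e]
    simp only [Category.assoc]
  -- equivariance of `ψ₁`
  have hψ₁eq : ∀ (α₁ : AMonS S M ⊗ (thk N ℓ hℓ T 1).V ⟶ (thk N ℓ hℓ T 1).V),
      α₁ ≫ (thk N ℓ hℓ T 1).inc = (AMonS S M ◁ (thk N ℓ hℓ T 1).inc) ≫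
        ((subAct S M N).prod (MonAct.trivial (AMonS S M) T)).act →
      α₁ ≫ ψ₁ = (AMonS S M ◁ ψ₁) ≫ aU.act := by
    intro α₁ hα₁
    have hr := isEquivariant_map_whiskerRight (S := S) hQ.le T
    unfold MonAct.IsEquivariant at hr hψQ
    rw [hψ₁, ← Category.assoc, hα₁, Category.assoc, ← Category.assoc _ _ ψQ, hr, Category.assoc,
      hψQ, MonoidalCategory.whiskerLeft_comp, MonoidalCategory.whiskerLeft_comp, Category.assoc,
      Category.assoc]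
  -- the lifts
  have key : ∀ k : ℕ, ∃ ψk : (thk N ℓ hℓ T (k + 1)).V ⟶ U,
      tr N ℓ hℓ T (Nat.le_add_left 1 k) ≫ ψk = ψ₁ ∧
        ψk ≫ f = (thk N ℓ hℓ T (k + 1)).inc ≫ φ := by
    intro k
    haveI := surjective_tr N ℓ hℓ T (Nat.le_add_left 1 k) (le_refl 1)
    obtain ⟨u, hu1, hu2⟩ := exists_lift_of_etale f.left (tr N ℓ hℓ T (Nat.le_add_left 1 k)).left
      ((thk N ℓ hℓ T (k + 1)).inc.left ≫ φ.left) ψ₁.left (by
        rw [← Over.comp_left, hψ₁f, ← Over.comp_left, ← Over.comp_left, ← Category.assoc, tr_inc])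
    have hw : u ≫ U.hom = (thk N ℓ hℓ T (k + 1)).V.hom := by
      rw [← Over.w f, ← Category.assoc, hu2, Category.assoc, Over.w φ, Over.w]
    refine ⟨Over.homMk u hw, ?_, ?_⟩
    · apply Over.OverMorphism.ext
      exact hu1
    · apply Over.OverMorphism.ext
      exact hu2
  choose ψ h1 h2 using key
  refine ⟨ψ, h2, ?_, ?_, ?_⟩
  · intro k
    apply tower_unique N ℓ hℓ T aX aU f hf (Nat.le_add_left 1 k) (le_refl 1)
    · rw [← Category.assoc, tr_trans, h1]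
      exact (h1 k).symm
    · rw [Category.assoc, h2, h2, ← Category.assoc, tr_inc]
  · intro k α hα
    haveI := surjective_whiskerLeft_tr (M := M) N ℓ hℓ T (Nat.le_add_left 1 k) (le_refl 1)
    obtain ⟨α₁, hα₁⟩ := exists_alpha N ℓ hℓ T 1
    apply Over.OverMorphism.ext
    apply lift_unique_of_etale f.left (AMonS S M ◁ tr N ℓ hℓ T (Nat.le_add_left 1 k)).left
    · rw [← Over.comp_left, ← Over.comp_left]
      congr 1
      rw [← Category.assoc, whisker_tr_alpha N ℓ hℓ T (Nat.le_add_left 1 k) α₁ hα₁ α hα,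
        Category.assoc, h1, hψ₁eq α₁ hα₁, ← MonoidalCategory.whiskerLeft_comp_assoc, h1]
    · rw [← Over.comp_left, ← Over.comp_left]
      congr 1
      unfold MonAct.IsEquivariant at hf hφ
      rw [Category.assoc, h2, ← Category.assoc, hα, Category.assoc, hφ, Category.assoc, hf,
        ← MonoidalCategory.whiskerLeft_comp_assoc, ← MonoidalCategory.whiskerLeft_comp_assoc, h2]
  · rw [h1 0, hψ₁]

end Tower2

end Groth.Agent.H9.EB
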