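import Mathlib
import Groth.Prelude.Def_Magnet4
import Groth.Agent.Lib.Helper9.Misc.EBX1
import Groth.Agent.Lib.Helper9.Misc.EBA2

/-!
# Helper9: EBX2 — algebraization of a compatible tower of equivariant maps to an `S`-affine scheme
(for S18302)
-/

set_option linter.style.haveILetI false
set_option linter.unusedSectionVars false
set_option autoImplicit false

namespace Groth.Agent.H9.EB

universe u

open CategoryTheory CategoryTheory.Limits AlgebraicGeometry MonoidalCategory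
  CartesianMonoidalCategory MonObj Opposite
open Magnet
open Groth.Agent.H9.MagKun Groth.Agent.H9.MagChr Groth.Agent.H9.MagPts Groth.Agent.H9.MagDef
  Groth.Agent.H9.MagOpen

section Alg

variable {S : Scheme.{u}} {M : Type} [AddCommGroup M] (N : AddSubmonoid M) (ℓ : M →+ ℤ)
  (hℓ : ∀ n ∈ N, 0 ≤ ℓ n) (T : Over S) [IsAffine T.left]
  {U : Over S} (aU : MonAct (AMonS S M) U) [IsAffineHom U.hom]

theorem exists_algebraic_lift
    (ψ : ∀ k : ℕ, (thk N ℓ hℓ T (k + 1)).V ⟶ U)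
    (hcompat : ∀ k, tr N ℓ hℓ T (Nat.le_succ (k + 1)) ≫ ψ (k + 1) = ψ k)
    (heq : ∀ k (α : AMonS S M ⊗ (thk N ℓ hℓ T (k + 1)).V ⟶ (thk N ℓ hℓ T (k + 1)).V),
        α ≫ (thk N ℓ hℓ T (k + 1)).inc = (AMonS S M ◁ (thk N ℓ hℓ T (k + 1)).inc) ≫
          ((subAct S M N).prod (MonAct.trivial (AMonS S M) T)).act →
        α ≫ ψ k = (AMonS S M ◁ ψ k) ≫ aU.act) :
    ∃ ψ' : AMonS S ↥N ⊗ T ⟶ U,
      MonAct.IsEquivariant ((subAct S M N).prod (MonAct.trivial (AMonS S M) T)) aU ψ' ∧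
      ∀ k, (thk N ℓ hℓ T (k + 1)).inc ≫ ψ' = ψ k := by
  haveI : IsAffine (U ⊗ T).left := MGU.affine_tensor U T
  haveI : IsAffine (AMonS S ↥N ⊗ T).left := MGU.affine_tensor _ _
  choose α hα using fun k => exists_alpha (M := M) N ℓ hℓ T (k + 1)
  -- the maps to `U ⊗ T`
  obtain ⟨ψt, hψt⟩ : ∃ ψt : ∀ k : ℕ, (thk N ℓ hℓ T (k + 1)).V ⟶ U ⊗ T,
      ∀ k, ψt k = lift (ψ k) ((thk N ℓ hℓ T (k + 1)).inc ≫ snd (AMonS S ↥N) T) := ⟨_, fun _ => rfl⟩
  have hψtfst : ∀ k, ψt k ≫ fst U T = ψ k := fun k => by rw [hψt, lift_fst]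
  have hψtsnd : ∀ k, ψt k ≫ snd U T = (thk N ℓ hℓ T (k + 1)).inc ≫ snd (AMonS S ↥N) T :=
    fun k => by rw [hψt, lift_snd]
  have hψteq : ∀ k, α k ≫ ψt k =
      (AMonS S M ◁ ψt k) ≫ (aU.prod (MonAct.trivial (AMonS S M) T)).act := by
    intro k
    apply hom_ext_lift₂
    intro T' g z
    have e1 : lift g z ≫ (AMonS S M ◁ ψt k) ≫ (aU.prod (MonAct.trivial (AMonS S M) T)).act =
        lift (lift g (z ≫ ψ k) ≫ aU.act)
          (z ≫ (thk N ℓ hℓ T (k + 1)).inc ≫ snd (AMonS S ↥N) T) := by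
      rw [lift_whiskerLeft_assoc, hψt, comp_lift, MonAct.lift_prod_act, MonAct.lift_trivial_act]
    have e2 : lift g z ≫ α k ≫ ψt k =
        lift (lift g (z ≫ ψ k) ≫ aU.act)
          (z ≫ (thk N ℓ hℓ T (k + 1)).inc ≫ snd (AMonS S ↥N) T) := by
      rw [hψt, comp_lift, comp_lift]
      congr 1
      · rw [heq k (α k) (hα k), lift_whiskerLeft_assoc]
      · rw [← Category.assoc (α k), hα k, Category.assoc, prod_act_snd,
          lift_whiskerLeft_assoc, lift_snd_assoc, Category.assoc]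
    rw [e1, e2]
  have hψtcompat : ∀ k, tr N ℓ hℓ T (Nat.le_succ (k + 1)) ≫ ψt (k + 1) = ψt k := by
    intro k
    rw [hψt, hψt, comp_lift, hcompat, ← Category.assoc, tr_inc]
  -- algebraization
  obtain ⟨β', hβ'⟩ := exists_algebraization' (R := Γ(T.left, ⊤)) N ℓ hℓ (B := Γ((U ⊗ T).left, ⊤)) 1
    (fun k => Γ((thk N ℓ hℓ T (k + 1)).V.left, ⊤))
    (fun k => ((thk N ℓ hℓ T (k + 1)).inc.left.appTop.hom).comp (kappa S ↥N T))
    (fun k c => (thk N ℓ hℓ T (k + 1)).ker_iff c)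
    (fun k => (ψt k).left.appTop.hom)
    (by
      intro k b c h
      have h' := congrArg (tr N ℓ hℓ T (Nat.le_succ (k + 1))).left.appTop.hom h
      rw [RingHom.comp_apply, tr_appTop] at h'
      rw [RingHom.comp_apply, h', ← hψtcompat k, Over.comp_left, Scheme.Hom.comp_appTop]
      rfl)
    (by
      classical
      intro b
      obtain ⟨zb, hzb⟩ := (kappa_bijective S M (U ⊗ T)).2
        ((aU.prod (MonAct.trivial (AMonS S M) T)).act.left.appTop.hom b)
      refine ⟨zb.coeff.support.image Multiplicative.toAdd, fun k => ?_⟩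
      obtain ⟨c, hc1, hc2⟩ := exists_support_bound N ℓ hℓ T (k + 1)
        (aU.prod (MonAct.trivial (AMonS S M) T)) (α k) (hα k) (ψt k) (hψteq k) b zb hzb
      exact ⟨c, fun n hn => Finset.mem_image.2 ⟨_, hc1 n hn, rfl⟩, hc2⟩)
  obtain ⟨ψl, hψl⟩ := MagLoc.exists_hom_appTop (AMonS S ↥N ⊗ T).left (U ⊗ T).left
    (CommRingCat.ofHom ((kappa S ↥N T).comp β'))
  have h7a : ∀ k, (thk N ℓ hℓ T (k + 1)).inc.left ≫ ψl = (ψt k).left := by
    intro k
    apply ext_of_isAffine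
    rw [Scheme.Hom.comp_appTop, hψl]
    apply CommRingCat.hom_ext
    apply RingHom.ext
    intro b
    exact hβ' k b
  have h7b : ψl ≫ (snd U T).left = (snd (AMonS S ↥N) T).left := by
    apply hom_ext_thk N ℓ hℓ T 1
    intro k
    rw [← Category.assoc, h7a, ← Over.comp_left, hψtsnd, Over.comp_left]
  obtain ⟨ψ', hψ'⟩ : ∃ ψ' : AMonS S ↥N ⊗ T ⟶ U ⊗ T, ψ'.left = ψl := by
    refine ⟨Over.homMk ψl ?_, rfl⟩
    rw [← Over.w (snd U T), ← Category.assoc, h7b, Over.w]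
  have h7c : ∀ k, (thk N ℓ hℓ T (k + 1)).inc ≫ ψ' = ψt k := by
    intro k
    apply Over.OverMorphism.ext
    rw [Over.comp_left, hψ']
    exact h7a k
  have h7d : MonAct.IsEquivariant ((subAct S M N).prod (MonAct.trivial (AMonS S M) T))
      (aU.prod (MonAct.trivial (AMonS S M) T)) ψ' := by
    unfold MonAct.IsEquivariant
    apply Over.OverMorphism.ext
    apply hom_ext_thk_whisker N ℓ hℓ T 1
    intro k
    have : (AMonS S M ◁ (thk N ℓ hℓ T (k + 1)).inc) ≫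
        ((subAct S M N).prod (MonAct.trivial (AMonS S M) T)).act ≫ ψ' =
        (AMonS S M ◁ (thk N ℓ hℓ T (k + 1)).inc) ≫ (AMonS S M ◁ ψ') ≫
          (aU.prod (MonAct.trivial (AMonS S M) T)).act := by
      rw [← Category.assoc, ← hα k, Category.assoc, h7c, hψteq,
        ← MonoidalCategory.whiskerLeft_comp_assoc, h7c]
    exact congrArg Over.Hom.left this
  refine ⟨ψ' ≫ fst U T, h7d.comp (isEquivariant_fst aU T), fun k => ?_⟩
  rw [← Category.assoc, h7c, hψtfst]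

end Alg

end Groth.Agent.H9.EB
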