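import Mathlib
import Groth.Prelude.Def_Magnet4
import Groth.Agent.Lib.Helper9.Misc.EBX2
import Groth.Agent.Lib.Helper9.Misc.EBD
import Groth.Agent.Lib.Helper9.Misc.EBU
import Groth.Agent.Lib.Helper9.Misc.EBS

/-!
# Helper9: EBX3 — existence of the equivariant étale lift over an affine base, given a height
function of the face (for S18302)
-/

set_option linter.style.haveILetI false
set_option linter.unusedSectionVars false
set_option autoImplicit false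

namespace Groth.Agent.H9.EB

universe u

open CategoryTheory CategoryTheory.Limits AlgebraicGeometry MonoidalCategory
  CartesianMonoidalCategory MonObj Opposite
open Magnet
open Groth.Agent.H9.MagKun Groth.Agent.H9.MagChr Groth.Agent.H9.MagPts Groth.Agent.H9.MagDef
  Groth.Agent.H9.MagOpen

section Pt

theorem apply_eq_of_comp_eq {Y P X₁ : Scheme.{u}} (j : Y ⟶ P) (a b : P ⟶ X₁) (h : j ≫ a = j ≫ b)
    (y : Y) : a (j y) = b (j y) := by
  rw [← Scheme.Hom.comp_apply, h, Scheme.Hom.comp_apply]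

end Pt

section Ex

variable {S : Scheme.{u}} {M : Type} [AddCommGroup M] [AddGroup.FG M] (N : AddSubmonoid M)
  (ℓ : M →+ ℤ)
  (hℓ : ∀ n ∈ N, 0 ≤ ℓ n) (T : Over S) [IsAffine T.left]
  {Q : AddSubmonoid M} (hQ : IsFace N Q) (hℓQ : ∀ n ∈ N, ℓ n = 0 ↔ n ∈ Q)
  {X U : Over S} (aX : MonAct (AMonS S M) X) (aU : MonAct (AMonS S M) U)
  (f : U ⟶ X) [Etale f.left] (hf : MonAct.IsEquivariant aU aX f) [IsAffineHom U.hom]

include hℓ hℓQ hf in
theorem exists_lift_affine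
    (φ : AMonS S ↥N ⊗ T ⟶ X)
    (hφ : MonAct.IsEquivariant ((subAct S M N).prod (MonAct.trivial (AMonS S M) T)) aX φ)
    (ψQ : AMonS S ↥Q ⊗ T ⟶ U)
    (hψQ : MonAct.IsEquivariant ((subAct S M Q).prod (MonAct.trivial (AMonS S M) T)) aU ψQ)
    (hcomp : (AMonS.faceMap S hQ ▷ T) ≫ φ = ψQ ≫ f) :
    ∃ ψ : AMonS S ↥N ⊗ T ⟶ U,
      MonAct.IsEquivariant ((subAct S M N).prod (MonAct.trivial (AMonS S M) T)) aU ψ ∧
      ψ ≫ f = φ ∧ (AMonS.faceMap S hQ ▷ T) ≫ ψ = ψQ := by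
  obtain ⟨ψ, h1, h2, h3, h4⟩ := exists_tower N ℓ hℓ T hQ hℓQ aX aU f hf φ hφ ψQ hψQ hcomp
  obtain ⟨ψ', hψ'eq, hψ'⟩ := exists_algebraic_lift N ℓ hℓ T aU ψ h2 h3
  obtain ⟨i, hi⟩ := exists_face_lift (S := S) N ℓ hℓ T hQ hℓQ
  have hψ'0 : (thk N ℓ hℓ T 1).inc ≫ ψ' = ψ 0 := hψ' 0
  have h4' : ψ 0 = (thk N ℓ hℓ T 1).inc ≫
      (AMonS.map S (AddSubmonoid.inclusion hQ.le) ▷ T) ≫ ψQ := by
    have h := h4
    rw [show tr N ℓ hℓ T (Nat.le_add_left 1 0) = 𝟙 _ from tr_refl N ℓ hℓ T 1,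
      Category.id_comp] at h
    exact h
  have hface : (AMonS.faceMap S hQ ▷ T) ≫ ψ' = ψQ := by
    rw [← hi, Category.assoc, hψ'0, h4', ← Category.assoc, hi, ← comp_whiskerRight_assoc,
      AMonS.faceMap_comp_map, id_whiskerRight, Category.id_comp]
  have hab : ∀ k : ℕ, (thk N ℓ hℓ T (k + 1)).inc.left ≫ (ψ' ≫ f).left =
      (thk N ℓ hℓ T (k + 1)).inc.left ≫ φ.left := by
    intro k
    have : (thk N ℓ hℓ T (k + 1)).inc ≫ ψ' ≫ f = (thk N ℓ hℓ T (k + 1)).inc ≫ φ := by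
      rw [← Category.assoc, hψ' k, h1 k]
    exact congrArg Over.Hom.left this
  refine ⟨ψ', hψ'eq, ?_, hface⟩
  apply eq_of_agree_near N aX (ψ' ≫ f) φ (hψ'eq.comp hf) hφ
  intro t
  -- the point is in the image of the first thickening
  have hpt : (lift (MagOpen.ept N T) (𝟙 T)).left t =
      (thk N ℓ hℓ T 1).inc.left (i.left ((lift (MagOpen.ept Q T) (𝟙 T)).left t)) := by
    rw [ept_section_face hQ T, ← hi, Over.comp_left, Over.comp_left, Scheme.Hom.comp_apply,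
      Scheme.Hom.comp_apply]
  rw [hpt]
  apply agree_near_face N ℓ hℓ T 1 (ψ' ≫ f).left φ.left hab
  · exact apply_eq_of_comp_eq _ _ _ (hab 0) _
  · intro c hc hmem
    have h0 : (thk N ℓ hℓ T 1).inc.left.appTop.hom (kappa S ↥N T c) = 0 :=
      ((thk N ℓ hℓ T 1).ker_iff c).2 hc
    have h1 : i.left ((lift (MagOpen.ept Q T) (𝟙 T)).left t) ∈
        (thk N ℓ hℓ T 1).inc.left ⁻¹ᵁ (AMonS S ↥N ⊗ T).left.basicOpen (kappa S ↥N T c) := hmem
    rw [Scheme.preimage_basicOpen_top] at h1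
    have h0' : ((thk N ℓ hℓ T 1).inc.left.appTop).hom (kappa S ↥N T c) = 0 := h0
    rw [h0', Scheme.basicOpen_zero] at h1
    exact h1

end Ex

end Groth.Agent.H9.EB
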