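import Mathlib

/-! Helper9: ring homomorphisms out of a directed union of subrings. -/

set_option autoImplicit false
set_option linter.unusedSectionVars false

namespace Groth.Agent.H9.MagDU

variable {J : Type*} [Preorder J] [IsDirected J (· ≤ ·)] [Nonempty J]
  {A : J → Type*} [∀ i, CommRing (A i)] {A' B : Type*} [CommRing A'] [CommRing B]
  (p : ∀ i, A i →+* A') (hp : ∀ i, Function.Injective (p i))
  (q : ∀ {i j : J}, i ≤ j → (A i →+* A j))
  (hq : ∀ {i j : J} (h : i ≤ j) (y : A i), p j (q h y) = p i y)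
  (hsurj : ∀ y : A', ∃ (i : J) (yi : A i), p i yi = y)

include hp hq in
theorem key (σ : ∀ i, A i →+* B) (hσ : ∀ {i j : J} (h : i ≤ j) (y : A i), σ j (q h y) = σ i y)
    (i j : J) (yi : A i) (yj : A j) (h : p i yi = p j yj) : σ i yi = σ j yj := by
  obtain ⟨k, hik, hjk⟩ := exists_ge_ge i j
  have e : q hik yi = q hjk yj := hp k (by rw [hq, hq, h])
  rw [← hσ hik yi, ← hσ hjk yj, e]

include hq hsurj in
theorem exists_common (y y' : A') : ∃ (k : J) (yk yk' : A k), p k yk = y ∧ p k yk' = y' := by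
  obtain ⟨i, yi, hi⟩ := hsurj y
  obtain ⟨j, yj, hj⟩ := hsurj y'
  obtain ⟨k, hik, hjk⟩ := exists_ge_ge i j
  exact ⟨k, q hik yi, q hjk yj, by rw [hq, hi], by rw [hq, hj]⟩

include hp hq hsurj in
theorem exists_ringHom (σ : ∀ i, A i →+* B)
    (hσ : ∀ {i j : J} (h : i ≤ j) (y : A i), σ j (q h y) = σ i y) :
    ∃ β : A' →+* B, ∀ i (y : A i), β (p i y) = σ i y := by
  choose idx el hel using hsurj
  have hβ : ∀ i (yi : A i), σ (idx (p i yi)) (el (p i yi)) = σ i yi := fun i yi =>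
    key p hp q hq σ hσ _ _ _ _ (hel _)
  have hsurj' : ∀ y : A', ∃ (i : J) (yi : A i), p i yi = y := fun y => ⟨idx y, el y, hel y⟩
  obtain ⟨i₀⟩ := ‹Nonempty J›
  refine ⟨{ toFun := fun y => σ (idx y) (el y), map_one' := ?_, map_mul' := ?_, map_zero' := ?_,
            map_add' := ?_ }, fun i y => hβ i y⟩
  · have h1 := hβ i₀ 1
    rw [map_one, map_one] at h1
    exact h1
  · intro y y'
    obtain ⟨k, yk, yk', rfl, rfl⟩ := exists_common p q hq hsurj' y y'
    have h1 := hβ k (yk * yk')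
    rw [map_mul] at h1
    rw [h1, hβ, hβ, map_mul]
  · have h1 := hβ i₀ 0
    rw [map_zero, map_zero] at h1
    exact h1
  · intro y y'
    obtain ⟨k, yk, yk', rfl, rfl⟩ := exists_common p q hq hsurj' y y'
    have h1 := hβ k (yk + yk')
    rw [map_add] at h1
    rw [h1, hβ, hβ, map_add]

include hsurj in
theorem ringHom_ext (β β' : A' →+* B) (h : ∀ i (y : A i), β (p i y) = β' (p i y)) : β = β' := by
  ext y
  obtain ⟨i, yi, rfl⟩ := hsurj y
  exact h i yi

end Groth.Agent.H9.MagDU
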