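import Mathlib
import Groth.Prelude.Def_Magnet2
import Groth.Agent.Lib.Helper9.Misc.MagKun
import Groth.Agent.Lib.Helper9.Misc.MagLoc
import Groth.Agent.Lib.Helper9.Misc.MagDU
import Groth.Agent.Lib.Helper9.Misc.MGU2
import Groth.Agent.Lib.Helper9.Misc.UDM5

/-! Helper9: `A(⋃ N_i)_S × T = lim A(N_i)_S × T` for a directed family of submonoids and `T` affine. -/

set_option linter.style.haveILetI false
set_option linter.unusedSectionVars false
set_option autoImplicit false

namespace Groth.Agent.H9.MagLim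

universe u

open CategoryTheory CategoryTheory.Limits AlgebraicGeometry MonoidalCategory
  CartesianMonoidalCategory MonObj Opposite
open Magnet
open Groth.Agent.H9.MagKun

variable {S : Scheme.{u}} {M : Type} [AddCommMonoid M] (T : Over S)

/-- transition map for `N₁ ≤ N₂` -/
noncomputable def trn {N₁ N₂ : AddSubmonoid M} (h : N₁ ≤ N₂) :
    AMonS S N₂ ⊗ T ⟶ AMonS S N₁ ⊗ T :=
  AMonS.map S (AddSubmonoid.inclusion h) ▷ T

theorem trn_refl (N₁ : AddSubmonoid M) : trn T (le_refl N₁) = 𝟙 _ := by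
  unfold trn
  have : AddSubmonoid.inclusion (le_refl N₁) = AddMonoidHom.id N₁ := by ext; rfl
  rw [this, UDM.AMonS_map_id, id_whiskerRight]

theorem trn_trans {N₁ N₂ N₃ : AddSubmonoid M} (h₁₂ : N₁ ≤ N₂) (h₂₃ : N₂ ≤ N₃) :
    trn T h₂₃ ≫ trn T h₁₂ = trn T (h₁₂.trans h₂₃) := by
  unfold trn
  rw [← comp_whiskerRight, ← AMonS.map_comp]
  rfl

theorem inclusion_injective {N₁ N₂ : AddSubmonoid M} (h : N₁ ≤ N₂) :
    Function.Injective (AddMonoidHom.toMultiplicative (AddSubmonoid.inclusion h)) := by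
  intro a b hab
  have h' : ((a.toAdd : N₁) : M) = ((b.toAdd : N₁) : M) := congrArg (fun x => ((x.toAdd : N₂) : M)) hab
  exact congrArg Multiplicative.ofAdd (Subtype.ext h')

/-- pullback of functions along a transition map, in Künneth coordinates -/
theorem trn_kappa {N₁ N₂ : AddSubmonoid M} (h : N₁ ≤ N₂)
    (y : MonoidAlgebra Γ(T.left, ⊤) (Multiplicative N₁)) :
    (trn T h).left.appTop.hom (kappa S N₁ T y) =
      kappa S N₂ T (MonoidAlgebra.mapDomainRingHom _
        (AddMonoidHom.toMultiplicative (AddSubmonoid.inclusion h)) y) :=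
  kappa_natM S N₂ T (AddSubmonoid.inclusion h) y

theorem trn_appTop_injective [IsAffine T.left] {N₁ N₂ : AddSubmonoid M} (h : N₁ ≤ N₂) :
    Function.Injective (trn T h).left.appTop.hom := by
  intro w w' hww
  obtain ⟨y, rfl⟩ := (kappa_bijective S N₁ T).2 w
  obtain ⟨y', rfl⟩ := (kappa_bijective S N₁ T).2 w'
  have h1 := ((trn_kappa T h y).symm.trans hww).trans (trn_kappa T h y')
  have h2 := (kappa_bijective S N₂ T).1 h1
  have h3 : y = y' := MonoidAlgebra.mapDomain_injective (inclusion_injective h) h2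
  rw [h3]

theorem trn_trans_appTop {N₁ N₂ N₃ : AddSubmonoid M} (h₁₂ : N₁ ≤ N₂) (h₂₃ : N₂ ≤ N₃)
    (y : Γ((AMonS S N₁ ⊗ T).left, ⊤)) :
    (trn T h₂₃).left.appTop.hom ((trn T h₁₂).left.appTop.hom y) =
      (trn T (h₁₂.trans h₂₃)).left.appTop.hom y := by
  have h1 := congrArg (fun f => f.left.appTop) (trn_trans T h₁₂ h₂₃)
  simp only [Over.comp_left, Scheme.Hom.comp_appTop] at h1
  exact DFunLike.congr_fun (congrArg CommRingCat.Hom.hom h1) y

variable {J : Type} [Preorder J] (N : J → AddSubmonoid M) (hN : Monotone N)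

include hN in
/-- every function on `A(⋃ N_i) × T` comes from some `A(N_k) × T` -/
theorem exists_appTop_eq [IsAffine T.left] [IsDirected J (· ≤ ·)] [Nonempty J]
    (y : Γ((AMonS S (⨆ i, N i : AddSubmonoid M) ⊗ T).left, ⊤)) :
    ∃ (k : J) (yk : Γ((AMonS S (N k) ⊗ T).left, ⊤)),
      (trn T (le_iSup N k)).left.appTop.hom yk = y := by
  classical
  obtain ⟨z, rfl⟩ := (kappa_bijective S (⨆ i, N i : AddSubmonoid M) T).2 y
  have hdir : Directed (· ≤ ·) N := hN.directed_le
  have hmem : ∀ n : Multiplicative (⨆ i, N i : AddSubmonoid M), ∃ i, (n.toAdd : M) ∈ N i := fun n =>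
    (AddSubmonoid.mem_iSup_of_directed hdir).mp n.toAdd.2
  choose idx hidx using hmem
  obtain ⟨k, hk⟩ := Finset.exists_le (z.coeff.support.image idx)
  have hsupp : ↑z.coeff.support ⊆
      Set.range (AddMonoidHom.toMultiplicative (AddSubmonoid.inclusion (le_iSup N k))) := by
    intro n hn
    have h1 : idx n ≤ k := hk _ (Finset.mem_image_of_mem idx hn)
    have h2 : (n.toAdd : M) ∈ N k := hN h1 (hidx n)
    exact ⟨Multiplicative.ofAdd ⟨(n.toAdd : M), h2⟩, rfl⟩
  have h3 := MonoidAlgebra.mapDomain_comapDomain (R := Γ(T.left, ⊤)) hsupp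
    (inclusion_injective (le_iSup N k))
  refine ⟨k, kappa S (N k) T (MonoidAlgebra.comapDomain _ (inclusion_injective (le_iSup N k)) z), ?_⟩
  rw [trn_kappa]
  congr 1

theorem down_le {a b : ULift.{u} J} (h : a ⟶ b) : a.down ≤ b.down := by
  have h' : a ≤ b := leOfHom h
  exact h'

/-- the diagram -/
noncomputable def D : (ULift.{u} J)ᵒᵖ ⥤ Scheme.{u} where
  obj i := (AMonS S (N i.unop.down) ⊗ T).left
  map {i j} f := (trn T (hN (down_le f.unop))).left
  map_id i := by
    change (trn T (le_refl (N i.unop.down))).left = _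
    rw [trn_refl]
    rfl
  map_comp {i j k} f g := by
    change _ = (trn T _).left ≫ (trn T _).left
    rw [← Over.comp_left, trn_trans]

/-- the cone -/
noncomputable def cone : Cone (D T N hN) where
  pt := (AMonS S (⨆ i, N i : AddSubmonoid M) ⊗ T).left
  π :=
    { app := fun i => (trn T (le_iSup N i.unop.down)).left
      naturality := fun i j f => by
        simp only [Functor.const_obj_obj, Functor.const_obj_map, Category.id_comp]
        change _ = (trn T _).left ≫ (trn T _).left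
        rw [← Over.comp_left, trn_trans] }

theorem exists_unique_lift [IsAffine T.left] [IsDirected J (· ≤ ·)] [Nonempty J]
    (s : Cone (D T N hN)) :
    ∃! l : s.pt ⟶ (cone T N hN).pt, ∀ j, l ≫ (cone T N hN).π.app j = s.π.app j := by
  haveI : ∀ i : J, IsAffine (AMonS S (N i) ⊗ T).left := fun i => MGU.affine_tensor _ _
  haveI : IsAffine (AMonS S (⨆ i, N i : AddSubmonoid M) ⊗ T).left := MGU.affine_tensor _ _
  haveI : IsAffine (cone T N hN).pt :=
    inferInstanceAs (IsAffine (AMonS S (⨆ i, N i : AddSubmonoid M) ⊗ T).left)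
  -- the algebra data
  let p : ∀ i : J, Γ((AMonS S (N i) ⊗ T).left, ⊤) →+*
      Γ((AMonS S (⨆ i, N i : AddSubmonoid M) ⊗ T).left, ⊤) :=
    fun i => (trn T (le_iSup N i)).left.appTop.hom
  have hp : ∀ i, Function.Injective (p i) := fun i => trn_appTop_injective T _
  let q : ∀ {i j : J}, i ≤ j → (Γ((AMonS S (N i) ⊗ T).left, ⊤) →+* Γ((AMonS S (N j) ⊗ T).left, ⊤)) :=
    fun {i j} h => (trn T (hN h)).left.appTop.hom
  have hq : ∀ {i j : J} (h : i ≤ j) (y : Γ((AMonS S (N i) ⊗ T).left, ⊤)), p j (q h y) = p i y :=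
    fun {i j} h y => trn_trans_appTop T (hN h) (le_iSup N j) y
  have hsurj : ∀ y, ∃ (i : J) (yi : Γ((AMonS S (N i) ⊗ T).left, ⊤)), p i yi = y :=
    fun y => exists_appTop_eq T N hN y
  let σ : ∀ i : J, Γ((AMonS S (N i) ⊗ T).left, ⊤) →+* Γ(s.pt, ⊤) :=
    fun i => (s.π.app (op ⟨i⟩)).appTop.hom
  have hσ : ∀ {i j : J} (h : i ≤ j) (y : Γ((AMonS S (N i) ⊗ T).left, ⊤)), σ j (q h y) = σ i y := by
    intro i j h y
    have hle : (ULift.up i : ULift.{u} J) ≤ ULift.up j := h
    have h1 := s.w (homOfLE hle).op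
    have h2 := congrArg (fun f => f.appTop) h1
    simp only [Scheme.Hom.comp_appTop] at h2
    exact DFunLike.congr_fun (congrArg CommRingCat.Hom.hom h2) y
  obtain ⟨β, hβ⟩ := MagDU.exists_ringHom p hp q hq hsurj σ hσ
  obtain ⟨ψ, hψ⟩ := MagLoc.exists_hom_appTop s.pt (cone T N hN).pt (CommRingCat.ofHom β)
  have hfac : ∀ j, ψ ≫ (cone T N hN).π.app j = s.π.app j := by
    intro j
    haveI : IsAffine ((D T N hN).obj j) :=
      inferInstanceAs (IsAffine (AMonS S (N j.unop.down) ⊗ T).left)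
    apply ext_of_isAffine
    rw [Scheme.Hom.comp_appTop, hψ]
    apply CommRingCat.hom_ext
    apply RingHom.ext
    intro y
    exact hβ j.unop.down y
  refine ⟨ψ, hfac, ?_⟩
  intro m hm
  apply ext_of_isAffine
  rw [hψ]
  apply CommRingCat.hom_ext
  apply MagDU.ringHom_ext p hsurj
  intro i y
  rw [CommRingCat.hom_ofHom, hβ]
  have h1 := congrArg (fun f => f.appTop) (hm (op ⟨i⟩))
  simp only [Scheme.Hom.comp_appTop] at h1
  exact DFunLike.congr_fun (congrArg CommRingCat.Hom.hom h1) y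

/-- the cone is a limit cone -/
noncomputable def isLimitCone [IsAffine T.left] [IsDirected J (· ≤ ·)] [Nonempty J] :
    IsLimit (cone T N hN) :=
  IsLimit.ofExistsUnique (exists_unique_lift T N hN)

end Groth.Agent.H9.MagLim
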