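import Mathlib
import Groth.Prelude.Def_Magnet

/-! Helper9: the functor of equivariant maps `eqvHom` is a sheaf for any topology for which the target is a sheaf. -/

set_option linter.style.haveILetI false
set_option linter.unusedSectionVars false

namespace Groth.Agent.H9.FXS

universe v₁ u₁

open CategoryTheory CategoryTheory.Limits MonoidalCategory CartesianMonoidalCategory MonObj Opposite
open Magnet

variable {C : Type u₁} [Category.{v₁} C] [CartesianMonoidalCategory C] {A B X : C} [MonObj A]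

theorem eqvHom_isSheaf (J : GrothendieckTopology C) (ρ : MonAct A B) (a : MonAct A X)
    (hX : Presieve.IsSheaf J (yoneda.obj X)) : Presieve.IsSheaf J (MonAct.eqvHom ρ a) := by
  intro T R hR x hx
  have hxs := (Presieve.compatible_iff_sieveCompatible x).mp hx
  have hx1 : ∀ {V V' : C} (f : V ⟶ T) (g : V' ⟶ V) (hf : R f),
      (x (g ≫ f) (R.downward_closed hf g)).1 = (B ◁ g) ≫ (x f hf).1 := by
    intro V V' f g hf
    rw [hxs f g hf]
    rfl
  let R' : Sieve (B ⊗ T) := R.pullback (snd B T)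
  have hR' : R' ∈ J (B ⊗ T) := J.pullback_stable _ hR
  let y : Presieve.FamilyOfElements (yoneda.obj X) R'.arrows :=
    fun V' h hh => lift (h ≫ fst B T) (𝟙 V') ≫ (x (h ≫ snd B T) hh).1
  have hy : y.Compatible := by
    rw [Presieve.compatible_iff_sieveCompatible]
    intro V' V'' h k hh
    change lift ((k ≫ h) ≫ fst B T) (𝟙 V'') ≫ (x ((k ≫ h) ≫ snd B T) _).1 =
      k ≫ lift (h ≫ fst B T) (𝟙 V') ≫ (x (h ≫ snd B T) hh).1
    have e1 : (x ((k ≫ h) ≫ snd B T) (R'.downward_closed hh k)).1 =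
        (B ◁ k) ≫ (x (h ≫ snd B T) hh).1 := by
      rw [← hx1 (h ≫ snd B T) k hh]
      congr 2
      rw [Category.assoc]
    rw [e1, lift_whiskerLeft_assoc, ← Category.assoc k, comp_lift, Category.assoc, Category.id_comp,
      Category.comp_id]
  obtain ⟨ψ, hψ, huniq⟩ := hX R' hR' y hy
  -- key property
  have hP : ∀ {V : C} (f : V ⟶ T) (hf : R f) (b : V ⟶ B),
      lift b f ≫ ψ = lift b (𝟙 V) ≫ (x f hf).1 := by
    intro V f hf b
    have hh : R' (lift b f) := by
      change R (lift b f ≫ snd B T)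
      rw [lift_snd]; exact hf
    have h1 := hψ (lift b f) hh
    change lift b f ≫ ψ = lift (lift b f ≫ fst B T) (𝟙 V) ≫ (x (lift b f ≫ snd B T) hh).1 at h1
    rw [h1]
    have e2 : ∀ (f' : V ⟶ T) (hf' : R f') (e : f' = f), (x f' hf').1 = (x f hf).1 := by
      intro f' hf' e; subst e; rfl
    rw [e2 _ hh (lift_snd _ _), lift_fst]
  have hψeq : MonAct.IsEquivariant (ρ.prod (MonAct.trivial A T)) a ψ := by
    rw [MonAct.mem_eqvHom_iff]
    intro T' g b t
    refine (hX.isSeparated _ (J.pullback_stable t hR)).ext ?_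
    intro V k hk
    change k ≫ lift (lift g b ≫ ρ.act) t ≫ ψ = k ≫ lift g (lift b t ≫ ψ) ≫ a.act
    have hk' : R (k ≫ t) := hk
    have h2 := (MonAct.mem_eqvHom_iff (x (k ≫ t) hk').1).mp (x (k ≫ t) hk').2 V (k ≫ g) (k ≫ b) (𝟙 V)
    rw [← Category.assoc, comp_lift, ← Category.assoc k, comp_lift, hP (k ≫ t) hk', h2,
      ← hP (k ≫ t) hk', ← Category.assoc k, comp_lift, ← Category.assoc k, comp_lift]
  refine ⟨⟨ψ, hψeq⟩, ?_, ?_⟩
  · intro V f hf
    apply Subtype.ext
    change (B ◁ f) ≫ ψ = (x f hf).1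
    have := hP (snd B V ≫ f) (R.downward_closed hf _) (fst B V)
    rw [hx1 f (snd B V) hf] at this
    rw [lift_whiskerLeft_assoc, Category.id_comp, lift_fst_snd, Category.id_comp,
      ← lift_whiskerLeft, lift_fst_snd, Category.id_comp] at this
    exact this
  · intro ψ' hψ'
    apply Subtype.ext
    apply huniq
    intro V' h hh
    change h ≫ ψ'.1 = lift (h ≫ fst B T) (𝟙 V') ≫ (x (h ≫ snd B T) hh).1
    have h3 := hψ' (h ≫ snd B T) hh
    have h4 : (B ◁ (h ≫ snd B T)) ≫ ψ'.1 = (x (h ≫ snd B T) hh).1 := congrArg Subtype.val h3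
    rw [← h4, lift_whiskerLeft_assoc, Category.id_comp, lift_comp_fst_snd]

theorem eqvHom_isSheaf' (J : GrothendieckTopology C) [J.Subcanonical] (ρ : MonAct A B)
    (a : MonAct A X) : Presheaf.IsSheaf J (MonAct.eqvHom ρ a) := by
  rw [isSheaf_iff_isSheaf_of_type]
  exact eqvHom_isSheaf J ρ a
    (GrothendieckTopology.Subcanonical.isSheaf_of_isRepresentable (yoneda.obj X))

end Groth.Agent.H9.FXS
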