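import Mathlib
import Groth.Prelude.Def_Magnet2
import Groth.Agent.Lib.Helper9.Misc.MagLoc
import Groth.Agent.Lib.Helper9.Misc.MagRepB
import Groth.Agent.Lib.Helper9.Misc.FXS2
import Groth.Agent.Lib.Helper9.Misc.UDM4

/-! Helper9: extendability of the orbit map to `A(N)_S × T` is Zariski local on `T` (for `X` separated over `S`). -/

set_option linter.style.haveILetI false
set_option linter.unusedSectionVars false
set_option autoImplicit false

namespace Groth.Agent.H9.MagShf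

universe u

open CategoryTheory CategoryTheory.Limits AlgebraicGeometry MonoidalCategory
  CartesianMonoidalCategory MonObj Opposite
open Magnet
open Groth.Agent.H9.MagLoc

variable {S : Scheme.{u}} {M : Type} [AddCommMonoid M] (N : AddSubmonoid M) {X : Over S}
  (a : MonAct (AMonS S M) X)

theorem hD [IsSeparated X.hom] (T' : Over S) (φ₁ φ₂ : AMonS S N ⊗ T' ⟶ X)
    (h : (AMonS.map S N.subtype ▷ T') ≫ φ₁ = (AMonS.map S N.subtype ▷ T') ≫ φ₂) : φ₁ = φ₂ := by
  haveI := UDM.dominant_AMonS_map_whiskerRight S N.subtype Subtype.val_injective T'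
  exact UDM.ext_of_dominant (AMonS.map S N.subtype ▷ T') φ₁ φ₂ h

theorem ext_local [IsSeparated X.hom] {T : Over S} (x : T ⟶ X) (𝒰 : T.left.OpenCover)
    (h : ∀ c, Ext N a ((Over.homMk (𝒰.f c) rfl : Over.mk (𝒰.f c ≫ T.hom) ⟶ T) ≫ x)) :
    Ext N a x := by
  let J : GrothendieckTopology (Over S) := Scheme.zariskiTopology.over S
  have hX : Presieve.IsSheaf J (yoneda.obj X) :=
    GrothendieckTopology.Subcanonical.isSheaf_of_isRepresentable (yoneda.obj X)
  let R : Sieve T :=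
    { arrows := fun Y f => Ext N a (f ≫ x)
      downward_closed := fun {Y Z f} hf g => by
        change Ext N a ((g ≫ f) ≫ x)
        rw [Category.assoc]
        exact Ext.comp N a g hf }
  have hR : R ∈ J T := by
    rw [GrothendieckTopology.mem_over_iff]
    refine Scheme.zariskiTopology.superset_covering ?_ (Scheme.Cover.mem_grothendieckTopology 𝒰)
    rintro Y f ⟨Y', g, _, ⟨c⟩, rfl⟩
    rw [Sieve.overEquiv_iff]
    change Ext N a ((Over.homMk (g ≫ 𝒰.f c) : Over.mk ((g ≫ 𝒰.f c) ≫ T.hom) ⟶ T) ≫ x)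
    have e : (Over.homMk (g ≫ 𝒰.f c) : Over.mk ((g ≫ 𝒰.f c) ≫ T.hom) ⟶ T) =
        (Over.homMk g (by simp) : Over.mk ((g ≫ 𝒰.f c) ≫ T.hom) ⟶ Over.mk (𝒰.f c ≫ T.hom)) ≫
          (Over.homMk (𝒰.f c) rfl : Over.mk (𝒰.f c ≫ T.hom) ⟶ T) := by
      apply Over.OverMorphism.ext
      rfl
    rw [e]
    exact (congrArg (fun y => Ext N a y) (Category.assoc _ _ x)).mpr (Ext.comp N a _ (h c))
  -- the family
  have hsh := FXS.eqvHom_isSheaf J (subAct S M N) a hX
  have hchoose : ∀ {Y : Over S} (f : Y ⟶ T) (hf : R f),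
      ∃ ψ : (MonAct.eqvHom (subAct S M N) a).obj (op Y),
        (AMonS.map S N.subtype ▷ Y) ≫ ψ.1 = (AMonS S M ◁ (f ≫ x)) ≫ a.act := by
    intro Y f hf
    obtain ⟨φ, hφ⟩ := hf
    exact ⟨⟨φ, MagRepB.equivariant_of_restrict (AMonS.map S N.subtype) a (hD N) (f ≫ x) φ hφ⟩, hφ⟩
  choose fam hfam using @hchoose
  have hcompat : Presieve.FamilyOfElements.Compatible
      (fun Y f hf => fam f hf : Presieve.FamilyOfElements (MonAct.eqvHom (subAct S M N) a) R.arrows) := by
    rw [Presieve.compatible_iff_sieveCompatible]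
    intro Y Z f g hf
    apply Subtype.ext
    apply hD N
    change (AMonS.map S N.subtype ▷ Z) ≫ (fam (g ≫ f) _).1 =
      (AMonS.map S N.subtype ▷ Z) ≫ (AMonS S N ◁ g) ≫ (fam f hf).1
    rw [hfam, ← whisker_exchange_assoc, hfam, ← MonoidalCategory.whiskerLeft_comp_assoc, Category.assoc]
  obtain ⟨ψ, hψ, -⟩ := hsh R hR _ hcompat
  -- evaluate
  have hev : MagRepB.ev ψ.1 = x := by
    refine (hX.isSeparated _ hR).ext ?_
    intro Y f hf
    change f ≫ MagRepB.ev ψ.1 = f ≫ x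
    have h1 : (AMonS S N ◁ f) ≫ ψ.1 = (fam f hf).1 := congrArg Subtype.val (hψ f hf)
    have h2 : MagRepB.ev ((AMonS S N ◁ f) ≫ ψ.1) = f ≫ MagRepB.ev ψ.1 := by
      unfold MagRepB.ev
      rw [lift_whiskerLeft_assoc, ← Category.assoc f, comp_lift, Category.id_comp, Category.comp_id,
        ← Category.assoc f, toUnit_unique (f ≫ toUnit T) (toUnit Y)]
    rw [← h2, h1]
    exact MagRepB.ev_of_restrict (AMonS.map S N.subtype) a (f ≫ x) (fam f hf).1 (hfam f hf)
  refine ⟨ψ.1, ?_⟩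
  have := MagRepB.restrict_eq (AMonS.map S N.subtype) a ψ.1 ψ.2
  rw [this, hev]

end Groth.Agent.H9.MagShf
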