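import Mathlib
import Groth.Prelude.Def_Magnet2
import Groth.Agent.Lib.Helper9.Misc.MagLim
import Groth.Agent.Lib.Helper9.Misc.MagShf
import Groth.Agent.Lib.Helper9.Misc.MagRepB

/-! Helper9: attractors of a directed union of magnets, on affine test schemes (S18290). -/

set_option linter.style.haveILetI false
set_option linter.unusedSectionVars false
set_option autoImplicit false

namespace Groth.Agent.H9.MagUnion

universe u

open CategoryTheory CategoryTheory.Limits AlgebraicGeometry MonoidalCategory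
  CartesianMonoidalCategory MonObj Opposite
open Magnet
open Groth.Agent.H9.MagLim

theorem main (S : Scheme.{u}) (M : Type) [AddCommMonoid M]
    (X : Over S) [IsSeparated X.hom] [LocallyOfFinitePresentation X.hom]
    (a : MonAct (AMonS S M) X) {J : Type} [Preorder J] [IsDirected J (· ≤ ·)] [Nonempty J]
    (N : J → AddSubmonoid M) (hN : Monotone N) (T : Over S) [IsAffine T.left]
    (φ : (attr a (⨆ i, N i)).obj (op T)) :
    ∃ (i : J) (ψ : (attr a (N i)).obj (op T)), (attrMap a (le_iSup N i)).app (op T) ψ = φ := by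
  haveI : IsDirected (ULift.{u} J) (· ≤ ·) :=
    ⟨fun x y => by
      obtain ⟨k, h1, h2⟩ := exists_ge_ge x.down y.down
      exact ⟨⟨k⟩, h1, h2⟩⟩
  haveI : IsCofiltered (ULift.{u} J)ᵒᵖ := inferInstance
  haveI hAff : ∀ i, IsAffine ((D T N hN).obj i) := fun i =>
    (MGU.affine_tensor (AMonS S (N i.unop.down)) T : IsAffine (AMonS S (N i.unop.down) ⊗ T).left)
  haveI : ∀ {i j : (ULift.{u} J)ᵒᵖ} (f : i ⟶ j), IsAffineHom ((D T N hN).map f) := fun f =>
    inferInstance
  let t : D T N hN ⟶ (Functor.const _).obj S :=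
    { app := fun i => (AMonS S (N i.unop.down) ⊗ T).hom
      naturality := fun i j f => by
        simp only [Functor.const_obj_obj, Functor.const_obj_map, Category.comp_id]
        exact Over.w (trn T (hN (down_le f.unop))) }
  have ha : (cone T N hN).π ≫ t = (Functor.const _).map (φ.1.left ≫ X.hom) := by
    ext i : 2
    simp only [NatTrans.comp_app, Functor.const_map_app]
    change (trn T (le_iSup N i.unop.down)).left ≫ (AMonS S (N i.unop.down) ⊗ T).hom = _
    rw [Over.w, Over.w]
  obtain ⟨i, g, hg1, hg2⟩ := Scheme.exists_π_app_comp_eq_of_locallyOfFinitePresentation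
    (D T N hN) t X.hom (cone T N hN) (isLimitCone T N hN) φ.1.left ha
  obtain ⟨ψ₀, hψ₀⟩ : ∃ ψ₀ : AMonS S (N i.unop.down) ⊗ T ⟶ X, ψ₀.left = g :=
    ⟨Over.homMk g hg2, rfl⟩
  have h1 : trn T (le_iSup N i.unop.down) ≫ ψ₀ = φ.1 := by
    apply Over.OverMorphism.ext
    rw [Over.comp_left, hψ₀]
    exact hg1
  have h2 : AMonS.map S (N i.unop.down).subtype =
      AMonS.map S (⨆ i, N i : AddSubmonoid M).subtype ≫
        AMonS.map S (AddSubmonoid.inclusion (le_iSup N i.unop.down)) := by
    rw [← AMonS.map_comp]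
    rfl
  have h3 : (AMonS.map S (N i.unop.down).subtype ▷ T) ≫ ψ₀ =
      (AMonS S M ◁ MagRepB.ev φ.1) ≫ a.act := by
    rw [h2, comp_whiskerRight, Category.assoc]
    change _ ≫ trn T (le_iSup N i.unop.down) ≫ ψ₀ = _
    rw [h1]
    exact MagRepB.restrict_eq (AMonS.map S (⨆ i, N i : AddSubmonoid M).subtype) a φ.1 φ.2
  have heq := MagRepB.equivariant_of_restrict (AMonS.map S (N i.unop.down).subtype) a
    (MagShf.hD (N i.unop.down)) (MagRepB.ev φ.1) ψ₀ h3
  refine ⟨i.unop.down, ⟨ψ₀, heq⟩, ?_⟩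
  apply Subtype.ext
  exact h1

end Groth.Agent.H9.MagUnion
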