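import Mathlib
import Groth.Prelude.Def_Magnet4
import Groth.Agent.Lib.Helper9.Misc.EBX3
import Groth.Agent.Lib.Helper9.Misc.MagGor
import Groth.Agent.Lib.Helper9.Misc.MagUnion
import Groth.Agent.Lib.Helper9.Misc.UDM4

/-!
# Helper9: EBG1 — existence of the equivariant étale lift over an affine base: `N` finitely generated,
or `X` separated and locally of finite presentation (for S18302)
-/

set_option linter.style.haveILetI false
set_option linter.unusedSectionVars false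
set_option autoImplicit false

namespace Groth.Agent.H9.EB

universe u

open CategoryTheory CategoryTheory.Limits AlgebraicGeometry MonoidalCategory
  CartesianMonoidalCategory MonObj Opposite
open Magnet
open Groth.Agent.H9.MagKun Groth.Agent.H9.MagChr Groth.Agent.H9.MagPts Groth.Agent.H9.MagDef
  Groth.Agent.H9.MagOpen

section FaceSq

variable {S : Scheme.{u}} {M : Type} [AddCommGroup M] {N Q N₂ : AddSubmonoid M}

theorem isFace_inf (hQ : IsFace N Q) (h₂ : N₂ ≤ N) : IsFace N₂ (Q ⊓ N₂) :=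
  ⟨inf_le_right, fun x hx y hy hxy =>
    have := hQ.mem_of_add_mem x (h₂ hx) y (h₂ hy) hxy.1
    ⟨⟨this.1, hx⟩, ⟨this.2, hy⟩⟩⟩

theorem map_inclusion_comp {A B C : AddSubmonoid M} (h : A ≤ B) (h' : B ≤ C) :
    AMonS.map S (AddSubmonoid.inclusion h') ≫ AMonS.map S (AddSubmonoid.inclusion h) =
      AMonS.map S (AddSubmonoid.inclusion (h.trans h')) := by
  rw [← AMonS.map_comp]
  rfl

theorem chr_map_self {A B : AddSubmonoid M} (h : A ≤ B) (m : Multiplicative ↥A) :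
    chr (AMonS.map S (AddSubmonoid.inclusion h)) m =
      chr (𝟙 (AMonS S ↥B)) (AddMonoidHom.toMultiplicative (AddSubmonoid.inclusion h) m) := by
  have := chr_comp_map (AddSubmonoid.inclusion h) (𝟙 (AMonS S ↥B)) m
  rwa [Category.id_comp] at this

theorem face_square (hQ : IsFace N Q) (h₂ : N₂ ≤ N) :
    AMonS.map S (AddSubmonoid.inclusion (inf_le_left : Q ⊓ N₂ ≤ Q)) ≫
        AMonS.faceMap S (isFace_inf hQ h₂) =
      AMonS.faceMap S hQ ≫ AMonS.map S (AddSubmonoid.inclusion h₂) := by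
  apply chr_injective
  apply MonoidHom.ext
  intro n
  by_cases hn : ((Multiplicative.toAdd n : ↥N₂) : M) ∈ Q
  · have hn' : ((Multiplicative.toAdd n : ↥N₂) : M) ∈ Q ⊓ N₂ := ⟨hn, (Multiplicative.toAdd n).2⟩
    rw [chr_faceMap_of_mem (isFace_inf hQ h₂) _ n hn', chr_map_self, chr_comp_map]
    have e := chr_faceMap_of_mem hQ (𝟙 (AMonS S ↥Q))
      (AddMonoidHom.toMultiplicative (AddSubmonoid.inclusion h₂) n) hn
    rw [Category.id_comp] at e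
    rw [e]
    rfl
  · have hn' : ((Multiplicative.toAdd n : ↥N₂) : M) ∉ Q ⊓ N₂ := fun h => hn h.1
    rw [chr_faceMap_of_not_mem (isFace_inf hQ h₂) _ n hn', chr_comp_map]
    have e := chr_faceMap_of_not_mem hQ (𝟙 (AMonS S ↥Q))
      (AddMonoidHom.toMultiplicative (AddSubmonoid.inclusion h₂) n) hn
    rw [Category.id_comp] at e
    rw [e]

end FaceSq

section Approx

variable {S : Scheme.{u}} {M : Type} [AddCommGroup M]

theorem approx_aux (X : Over S) [IsSeparated X.hom] [LocallyOfFinitePresentation X.hom]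
    (a : MonAct (AMonS S M) X) {J : Type} [Preorder J] [IsDirected J (· ≤ ·)] [Nonempty J]
    (Nf : J → AddSubmonoid M) (hmono : Monotone Nf) (N : AddSubmonoid M) (hN : N = ⨆ i, Nf i)
    (T : Over S) [IsAffine T.left] (φ : (attr a N).obj (op T)) :
    ∃ (i : J) (ψ : (attr a (Nf i)).obj (op T)),
      (attrMap a ((le_iSup Nf i).trans (le_of_eq hN.symm))).app (op T) ψ = φ := by
  subst hN
  exact MagUnion.main S M X a Nf hmono T φ

theorem exists_fg_approx (X : Over S) [IsSeparated X.hom] [LocallyOfFinitePresentation X.hom]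
    (a : MonAct (AMonS S M) X) (N : AddSubmonoid M) (T : Over S) [IsAffine T.left]
    (φ : AMonS S ↥N ⊗ T ⟶ X)
    (hφ : MonAct.IsEquivariant ((subAct S M N).prod (MonAct.trivial (AMonS S M) T)) a φ) :
    ∃ (N₁ : AddSubmonoid M) (h₁ : N₁ ≤ N) (_ : N₁.FG) (φ₁ : AMonS S ↥N₁ ⊗ T ⟶ X),
      MonAct.IsEquivariant ((subAct S M N₁).prod (MonAct.trivial (AMonS S M) T)) a φ₁ ∧
      (AMonS.map S (AddSubmonoid.inclusion h₁) ▷ T) ≫ φ₁ = φ := by
  let J := {N' : AddSubmonoid M // N'.FG ∧ N' ≤ N}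
  haveI : IsDirected J (· ≤ ·) :=
    ⟨fun a b => ⟨⟨a.1 ⊔ b.1, a.2.1.sup b.2.1, sup_le a.2.2 b.2.2⟩,
      (le_sup_left : a.1 ≤ a.1 ⊔ b.1), (le_sup_right : b.1 ≤ a.1 ⊔ b.1)⟩⟩
  haveI : Nonempty J := ⟨⟨⊥, AddSubmonoid.FG.bot, bot_le⟩⟩
  have hsup : N = ⨆ i : J, i.1 := by
    apply le_antisymm
    · intro n hn
      have hfg : (AddSubmonoid.closure ({n} : Set M)).FG := ⟨{n}, by rw [Finset.coe_singleton]⟩
      have hle : AddSubmonoid.closure ({n} : Set M) ≤ N := by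
        rw [AddSubmonoid.closure_le]
        intro x hx
        rw [Set.mem_singleton_iff] at hx
        rw [hx]
        exact hn
      exact AddSubmonoid.mem_iSup_of_mem (⟨_, hfg, hle⟩ : J)
        (AddSubmonoid.subset_closure (Set.mem_singleton n))
    · exact iSup_le fun i => i.2.2
  obtain ⟨i, ψ, hψ⟩ := approx_aux X a (fun i : J => i.1) (fun _ _ h => h) N hsup T ⟨φ, hφ⟩
  exact ⟨i.1, i.2.2, i.2.1, ψ.1, ψ.2, congrArg Subtype.val hψ⟩

end Approx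

section Ex

variable {S : Scheme.{u}} {M : Type} [AddCommGroup M] [AddGroup.FG M] {N Q : AddSubmonoid M}
  (hQ : IsFace N Q)
  {X U : Over S} (aX : MonAct (AMonS S M) X) (aU : MonAct (AMonS S M) U)
  (f : U ⟶ X) [Etale f.left] (hf : MonAct.IsEquivariant aU aX f) [IsAffineHom U.hom]

include hf in
theorem exists_lift_affine_fg (hN : N.FG) (T : Over S) [IsAffine T.left]
    (φ : AMonS S ↥N ⊗ T ⟶ X)
    (hφ : MonAct.IsEquivariant ((subAct S M N).prod (MonAct.trivial (AMonS S M) T)) aX φ)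
    (ψQ : AMonS S ↥Q ⊗ T ⟶ U)
    (hψQ : MonAct.IsEquivariant ((subAct S M Q).prod (MonAct.trivial (AMonS S M) T)) aU ψQ)
    (hcomp : (AMonS.faceMap S hQ ▷ T) ≫ φ = ψQ ≫ f) :
    ∃ ψ : AMonS S ↥N ⊗ T ⟶ U,
      MonAct.IsEquivariant ((subAct S M N).prod (MonAct.trivial (AMonS S M) T)) aU ψ ∧
      ψ ≫ f = φ ∧ (AMonS.faceMap S hQ ▷ T) ≫ ψ = ψQ := by
  obtain ⟨ℓ, hℓ, hℓQ⟩ := MagGor.exists_face_height hN hQ.le hQ.mem_of_add_mem
  exact exists_lift_affine N ℓ hℓ T hQ hℓQ aX aU f hf φ hφ ψQ hψQ hcomp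

include hf in
theorem exists_lift_affine_sep [IsSeparated X.hom] [LocallyOfFinitePresentation X.hom]
    (T : Over S) [IsAffine T.left]
    (φ : AMonS S ↥N ⊗ T ⟶ X)
    (hφ : MonAct.IsEquivariant ((subAct S M N).prod (MonAct.trivial (AMonS S M) T)) aX φ)
    (ψQ : AMonS S ↥Q ⊗ T ⟶ U)
    (hψQ : MonAct.IsEquivariant ((subAct S M Q).prod (MonAct.trivial (AMonS S M) T)) aU ψQ)
    (hcomp : (AMonS.faceMap S hQ ▷ T) ≫ φ = ψQ ≫ f) :
    ∃ ψ : AMonS S ↥N ⊗ T ⟶ U,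
      MonAct.IsEquivariant ((subAct S M N).prod (MonAct.trivial (AMonS S M) T)) aU ψ ∧
      ψ ≫ f = φ ∧ (AMonS.faceMap S hQ ▷ T) ≫ ψ = ψQ := by
  haveI : IsSeparated U.hom := inferInstance
  haveI : LocallyOfFinitePresentation U.hom := by
    rw [← Over.w f]
    infer_instance
  obtain ⟨N₁, h₁, hfg₁, φ₁, hφ₁, e₁⟩ := exists_fg_approx X aX N T φ hφ
  obtain ⟨Q₁, g₁, gfg₁, ψ₁, hψ₁, d₁⟩ := exists_fg_approx U aU Q T ψQ hψQ
  have h₂ : N₁ ⊔ Q₁ ≤ N := sup_le h₁ (g₁.trans hQ.le)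
  have hfg₂ : (N₁ ⊔ Q₁).FG := hfg₁.sup gfg₁
  have hQ₂ : IsFace (N₁ ⊔ Q₁) (Q ⊓ (N₁ ⊔ Q₁)) := isFace_inf hQ h₂
  have hQ₁₂ : Q₁ ≤ Q ⊓ (N₁ ⊔ Q₁) := le_inf g₁ le_sup_right
  obtain ⟨φ₂, hφ₂def⟩ : ∃ φ₂ : AMonS S ↥(N₁ ⊔ Q₁) ⊗ T ⟶ X, φ₂ =
    (AMonS.map S (AddSubmonoid.inclusion (le_sup_left : N₁ ≤ N₁ ⊔ Q₁)) ▷ T) ≫ φ₁ := ⟨_, rfl⟩
  obtain ⟨ψQ₂, hψQ₂def⟩ : ∃ ψQ₂ : AMonS S ↥(Q ⊓ (N₁ ⊔ Q₁)) ⊗ T ⟶ U, ψQ₂ =
    (AMonS.map S (AddSubmonoid.inclusion hQ₁₂) ▷ T) ≫ ψ₁ := ⟨_, rfl⟩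
  have hφ₂ : MonAct.IsEquivariant
      ((subAct S M (N₁ ⊔ Q₁)).prod (MonAct.trivial (AMonS S M) T)) aX φ₂ := by
    rw [hφ₂def]
    exact (isEquivariant_map_whiskerRight le_sup_left T).comp hφ₁
  have hψQ₂ : MonAct.IsEquivariant
      ((subAct S M (Q ⊓ (N₁ ⊔ Q₁))).prod (MonAct.trivial (AMonS S M) T)) aU ψQ₂ := by
    rw [hψQ₂def]
    exact (isEquivariant_map_whiskerRight hQ₁₂ T).comp hψ₁
  have eφ₂ : (AMonS.map S (AddSubmonoid.inclusion h₂) ▷ T) ≫ φ₂ = φ := by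
    rw [hφ₂def, ← comp_whiskerRight_assoc, map_inclusion_comp]
    exact e₁
  have eψQ₂ : (AMonS.map S (AddSubmonoid.inclusion (inf_le_left : Q ⊓ (N₁ ⊔ Q₁) ≤ Q)) ▷ T) ≫ ψQ₂ =
      ψQ := by
    rw [hψQ₂def, ← comp_whiskerRight_assoc, map_inclusion_comp]
    exact d₁
  have hcomp₂ : (AMonS.faceMap S hQ₂ ▷ T) ≫ φ₂ = ψQ₂ ≫ f := by
    haveI := UDM.dominant_AMonS_map_whiskerRight S
      (AddSubmonoid.inclusion (inf_le_left : Q ⊓ (N₁ ⊔ Q₁) ≤ Q))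
      (AddSubmonoid.inclusion_injective _) T
    apply UDM.ext_of_dominant
      (AMonS.map S (AddSubmonoid.inclusion (inf_le_left : Q ⊓ (N₁ ⊔ Q₁) ≤ Q)) ▷ T)
    rw [← comp_whiskerRight_assoc, face_square hQ h₂, comp_whiskerRight_assoc, eφ₂,
      ← Category.assoc, eψQ₂]
    exact hcomp
  obtain ⟨ψ₂, hψ₂eq, hψ₂f, hψ₂face⟩ :=
    exists_lift_affine_fg hQ₂ aX aU f hf hfg₂ T φ₂ hφ₂ ψQ₂ hψQ₂ hcomp₂
  refine ⟨(AMonS.map S (AddSubmonoid.inclusion h₂) ▷ T) ≫ ψ₂,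
    (isEquivariant_map_whiskerRight h₂ T).comp hψ₂eq, ?_, ?_⟩
  · rw [Category.assoc, hψ₂f, eφ₂]
  · rw [← comp_whiskerRight_assoc, ← face_square hQ h₂, comp_whiskerRight_assoc, hψ₂face, eψQ₂]

end Ex

end Groth.Agent.H9.EB
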