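import Mathlib
import Groth.Prelude.Def_Magnet4
import Groth.Agent.Lib.Helper9.Misc.EBG1
import Groth.Agent.Lib.Helper9.Misc.FXS2

/-!
# Helper9: EBG2 — Zariski gluing of the equivariant étale lift and the cartesian square of attractors
for an étale equivariant morphism with `S`-affine source (S18302)
-/

set_option linter.style.haveILetI false
set_option linter.unusedSectionVars false
set_option autoImplicit false

namespace Groth.Agent.H9.EB

universe u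

open CategoryTheory CategoryTheory.Limits AlgebraicGeometry MonoidalCategory
  CartesianMonoidalCategory MonObj Opposite
open Magnet

section Glue

variable {S : Scheme.{u}} {M : Type} [AddCommGroup M] [AddGroup.FG M] {N Q : AddSubmonoid M}
  (hQ : IsFace N Q)
  {X U : Over S} (aX : MonAct (AMonS S M) X) (aU : MonAct (AMonS S M) U)
  (f : U ⟶ X) [Etale f.left] (hf : MonAct.IsEquivariant aU aX f)

include hf in
theorem exists_lift_of_affine
    (haff : ∀ (T : Over S) [IsAffine T.left] (φ : AMonS S ↥N ⊗ T ⟶ X)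
      (_ : MonAct.IsEquivariant ((subAct S M N).prod (MonAct.trivial (AMonS S M) T)) aX φ)
      (ψQ : AMonS S ↥Q ⊗ T ⟶ U)
      (_ : MonAct.IsEquivariant ((subAct S M Q).prod (MonAct.trivial (AMonS S M) T)) aU ψQ)
      (_ : (AMonS.faceMap S hQ ▷ T) ≫ φ = ψQ ≫ f),
      ∃ ψ : AMonS S ↥N ⊗ T ⟶ U,
        MonAct.IsEquivariant ((subAct S M N).prod (MonAct.trivial (AMonS S M) T)) aU ψ ∧
        ψ ≫ f = φ ∧ (AMonS.faceMap S hQ ▷ T) ≫ ψ = ψQ)
    (T : Over S) (φ : AMonS S ↥N ⊗ T ⟶ X)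
    (hφ : MonAct.IsEquivariant ((subAct S M N).prod (MonAct.trivial (AMonS S M) T)) aX φ)
    (ψQ : AMonS S ↥Q ⊗ T ⟶ U)
    (hψQ : MonAct.IsEquivariant ((subAct S M Q).prod (MonAct.trivial (AMonS S M) T)) aU ψQ)
    (hcomp : (AMonS.faceMap S hQ ▷ T) ≫ φ = ψQ ≫ f) :
    ∃ ψ : AMonS S ↥N ⊗ T ⟶ U,
      MonAct.IsEquivariant ((subAct S M N).prod (MonAct.trivial (AMonS S M) T)) aU ψ ∧
      ψ ≫ f = φ ∧ (AMonS.faceMap S hQ ▷ T) ≫ ψ = ψQ := by
  let J : GrothendieckTopology (Over S) := Scheme.zariskiTopology.over S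
  have hXs : Presieve.IsSheaf J (yoneda.obj X) :=
    GrothendieckTopology.Subcanonical.isSheaf_of_isRepresentable (yoneda.obj X)
  have hUs : Presieve.IsSheaf J (yoneda.obj U) :=
    GrothendieckTopology.Subcanonical.isSheaf_of_isRepresentable (yoneda.obj U)
  let R : Sieve T :=
    { arrows := fun Y g => ∃ ψ : (attr aU N).obj (op Y),
        ψ.1 ≫ f = (AMonS S ↥N ◁ g) ≫ φ ∧
        (AMonS.faceMap S hQ ▷ Y) ≫ ψ.1 = (AMonS S ↥Q ◁ g) ≫ ψQ
      downward_closed := fun {Y Z g} hg k => by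
        obtain ⟨ψ, h1, h2⟩ := hg
        refine ⟨(attr aU N).map k.op ψ, ?_, ?_⟩
        · change ((AMonS S ↥N ◁ k) ≫ ψ.1) ≫ f = (AMonS S ↥N ◁ (k ≫ g)) ≫ φ
          rw [Category.assoc, h1, ← MonoidalCategory.whiskerLeft_comp_assoc]
        · change (AMonS.faceMap S hQ ▷ Z) ≫ (AMonS S ↥N ◁ k) ≫ ψ.1 =
            (AMonS S ↥Q ◁ (k ≫ g)) ≫ ψQ
          rw [← whisker_exchange_assoc, h2, ← MonoidalCategory.whiskerLeft_comp_assoc] }
  have hc : ∀ c : T.left.affineCover.I₀,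
      R.arrows (Over.homMk (T.left.affineCover.f c) rfl :
        Over.mk (T.left.affineCover.f c ≫ T.hom) ⟶ T) := by
    intro c
    haveI : IsAffine (Over.mk (T.left.affineCover.f c ≫ T.hom)).left :=
      inferInstanceAs (IsAffine (T.left.affineCover.X c))
    obtain ⟨g, hg⟩ : ∃ g : Over.mk (T.left.affineCover.f c ≫ T.hom) ⟶ T,
        g = Over.homMk (T.left.affineCover.f c) rfl := ⟨_, rfl⟩
    rw [← hg]
    have e1 := ((attr aX N).map g.op ⟨φ, hφ⟩).2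
    have e2 := ((attr aU Q).map g.op ⟨ψQ, hψQ⟩).2
    obtain ⟨ψ, hψ, h1, h2⟩ := haff (Over.mk (T.left.affineCover.f c ≫ T.hom))
      ((AMonS S ↥N ◁ g) ≫ φ) e1 ((AMonS S ↥Q ◁ g) ≫ ψQ) e2
      (by rw [← whisker_exchange_assoc, hcomp, Category.assoc])
    exact ⟨⟨ψ, hψ⟩, h1, h2⟩
  have hR : R ∈ J T := by
    rw [GrothendieckTopology.mem_over_iff]
    refine Scheme.zariskiTopology.superset_covering ?_
      (Scheme.Cover.mem_grothendieckTopology T.left.affineCover)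
    rintro Y g ⟨Y', k, _, ⟨c⟩, rfl⟩
    rw [Sieve.overEquiv_iff]
    change R.arrows (Over.homMk (k ≫ T.left.affineCover.f c) :
      Over.mk ((k ≫ T.left.affineCover.f c) ≫ T.hom) ⟶ T)
    have e : (Over.homMk (k ≫ T.left.affineCover.f c) :
        Over.mk ((k ≫ T.left.affineCover.f c) ≫ T.hom) ⟶ T) =
        (Over.homMk k (by simp) : Over.mk ((k ≫ T.left.affineCover.f c) ≫ T.hom) ⟶
          Over.mk (T.left.affineCover.f c ≫ T.hom)) ≫
          (Over.homMk (T.left.affineCover.f c) rfl :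
            Over.mk (T.left.affineCover.f c ≫ T.hom) ⟶ T) := by
      apply Over.OverMorphism.ext
      rfl
    rw [e]
    exact R.downward_closed (hc c) _
  have hshU := FXS.eqvHom_isSheaf J (subAct S M N) aU hUs
  have hshX := FXS.eqvHom_isSheaf J (subAct S M N) aX hXs
  have hshUQ := FXS.eqvHom_isSheaf J (subAct S M Q) aU hUs
  have hchoose : ∀ {Y : Over S} (g : Y ⟶ T) (_ : R g),
      ∃ ψ : (attr aU N).obj (op Y),
        ψ.1 ≫ f = (AMonS S ↥N ◁ g) ≫ φ ∧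
        (AMonS.faceMap S hQ ▷ Y) ≫ ψ.1 = (AMonS S ↥Q ◁ g) ≫ ψQ := fun g hg => hg
  choose fam hfam1 hfam2 using @hchoose
  have hcompat : Presieve.FamilyOfElements.Compatible
      (fun Y g hg => fam g hg : Presieve.FamilyOfElements (attr aU N) R.arrows) := by
    rw [Presieve.compatible_iff_sieveCompatible]
    intro Y Z g k hg
    apply Subtype.ext
    apply unique_of_etale hQ aU f _ _ (fam (k ≫ g) _).2 ((attr aU N).map k.op (fam g hg)).2
    · change (fam (k ≫ g) _).1 ≫ f = ((AMonS S ↥N ◁ k) ≫ (fam g hg).1) ≫ f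
      rw [hfam1, Category.assoc, hfam1, ← MonoidalCategory.whiskerLeft_comp_assoc]
    · change (AMonS.faceMap S hQ ▷ Z) ≫ (fam (k ≫ g) _).1 =
        (AMonS.faceMap S hQ ▷ Z) ≫ (AMonS S ↥N ◁ k) ≫ (fam g hg).1
      rw [hfam2, ← whisker_exchange_assoc, hfam2, ← MonoidalCategory.whiskerLeft_comp_assoc]
  obtain ⟨ψ, hψ, -⟩ := hshU R hR _ hcompat
  have hres : ∀ {Y : Over S} (g : Y ⟶ T) (hg : R g), (AMonS S ↥N ◁ g) ≫ ψ.1 = (fam g hg).1 :=
    fun g hg => congrArg Subtype.val (hψ g hg)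
  have e1 : (⟨ψ.1 ≫ f, ψ.2.comp hf⟩ : (attr aX N).obj (op T)) = ⟨φ, hφ⟩ := by
    refine (hshX.isSeparated _ hR).ext ?_
    intro Y g hg
    apply Subtype.ext
    change (AMonS S ↥N ◁ g) ≫ ψ.1 ≫ f = (AMonS S ↥N ◁ g) ≫ φ
    rw [← Category.assoc, hres g hg, hfam1]
  have e2 : (attrFace aU hQ).app (op T) ψ = ⟨ψQ, hψQ⟩ := by
    refine (hshUQ.isSeparated _ hR).ext ?_
    intro Y g hg
    apply Subtype.ext
    change (AMonS S ↥Q ◁ g) ≫ (AMonS.faceMap S hQ ▷ T) ≫ ψ.1 = (AMonS S ↥Q ◁ g) ≫ ψQ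
    rw [whisker_exchange_assoc, hres g hg, hfam2]
  exact ⟨ψ.1, ψ.2, congrArg Subtype.val e1, congrArg Subtype.val e2⟩

end Glue

section Main

theorem S18302_main (S : Scheme.{u}) (M : Type) [AddCommGroup M] [AddGroup.FG M] (X U : Over S)
    (aX : MonAct (AMonS S M) X) (aU : MonAct (AMonS S M) U) [IsAffineHom U.hom] (f : U ⟶ X)
    [Etale f.left] (hf : MonAct.IsEquivariant aU aX f) (N Q : AddSubmonoid M) (hQ : IsFace N Q)
    (h : N.FG ∨ (IsSeparated X.hom ∧ LocallyOfFinitePresentation X.hom)) :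
    IsPullback (MonAct.eqvHom.postcomp (subAct S M N) f hf) (attrFace aU hQ) (attrFace aX hQ)
      (MonAct.eqvHom.postcomp (subAct S M Q) f hf) := by
  have haff : ∀ (T : Over S) [IsAffine T.left] (φ : AMonS S ↥N ⊗ T ⟶ X)
      (_ : MonAct.IsEquivariant ((subAct S M N).prod (MonAct.trivial (AMonS S M) T)) aX φ)
      (ψQ : AMonS S ↥Q ⊗ T ⟶ U)
      (_ : MonAct.IsEquivariant ((subAct S M Q).prod (MonAct.trivial (AMonS S M) T)) aU ψQ)
      (_ : (AMonS.faceMap S hQ ▷ T) ≫ φ = ψQ ≫ f),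
      ∃ ψ : AMonS S ↥N ⊗ T ⟶ U,
        MonAct.IsEquivariant ((subAct S M N).prod (MonAct.trivial (AMonS S M) T)) aU ψ ∧
        ψ ≫ f = φ ∧ (AMonS.faceMap S hQ ▷ T) ≫ ψ = ψQ := by
    rcases h with hN | ⟨hs, hl⟩
    · intro T _ φ hφ ψQ hψQ hc
      exact exists_lift_affine_fg hQ aX aU f hf hN T φ hφ ψQ hψQ hc
    · intro T _ φ hφ ψQ hψQ hc
      exact exists_lift_affine_sep hQ aX aU f hf T φ hφ ψQ hψQ hc
  apply IsPullback.of_forall_isPullback_app
  intro T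
  rw [Types.isPullback_iff]
  refine ⟨?_, ?_, ?_⟩
  · ext ψ
    apply Subtype.ext
    change (AMonS.faceMap S hQ ▷ unop T) ≫ ψ.1 ≫ f = ((AMonS.faceMap S hQ ▷ unop T) ≫ ψ.1) ≫ f
    rw [Category.assoc]
  · rintro ψ₁ ψ₂ ⟨h1, h2⟩
    apply Subtype.ext
    exact unique_of_etale hQ aU f ψ₁.1 ψ₂.1 ψ₁.2 ψ₂.2 (congrArg Subtype.val h1)
      (congrArg Subtype.val h2)
  · intro φ ψQ hc
    have hc' : (AMonS.faceMap S hQ ▷ unop T) ≫ φ.1 = ψQ.1 ≫ f := congrArg Subtype.val hc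
    obtain ⟨ψ, hψ, e1, e2⟩ := exists_lift_of_affine hQ aX aU f hf haff (unop T) φ.1 φ.2 ψQ.1 ψQ.2 hc'
    exact ⟨⟨ψ, hψ⟩, Subtype.ext e1, Subtype.ext e2⟩

end Main

end Groth.Agent.H9.EB
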