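import Mathlib
import Groth.Prelude.Def_Magnet4

/-!
# Helper9: EBH1 — descent of image membership along covering sieves; fppf covers of `Over S` by one
étale surjective morphism; étale-local lifting of a point through an étale surjection
-/

set_option linter.style.haveILetI false
set_option linter.unusedSectionVars false
set_option autoImplicit false

namespace Groth.Agent.H9.EB

universe u v₁ u₁ w

open CategoryTheory CategoryTheory.Limits AlgebraicGeometry Opposite

section Desc

variable {C : Type u₁} [Category.{v₁} C]

/-- If `ι : P ⟶ Q` is injective on sections, `P` is a sheaf and `Q` is separated, then a section of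
`Q` which lies in the image of `ι` locally on a covering sieve lies in the image of `ι`. -/
theorem mem_range_of_local (J : GrothendieckTopology C) {P Q : Cᵒᵖ ⥤ Type w} (ι : P ⟶ Q)
    (hι : ∀ T : Cᵒᵖ, Function.Injective (fun p => ι.app T p)) (hP : Presieve.IsSheaf J P)
    (hQ : Presieve.IsSeparated J Q)
    {T : C} (x : Q.obj (op T)) (R : Sieve T) (hR : R ∈ J T)
    (h : ∀ ⦃Y : C⦄ (f : Y ⟶ T), R f → ∃ p : P.obj (op Y), ι.app (op Y) p = Q.map f.op x) :
    ∃ p : P.obj (op T), ι.app (op T) p = x := by
  choose fam hfam using h
  have hcompat : Presieve.FamilyOfElements.Compatible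
      (fun Y f hf => fam f hf : Presieve.FamilyOfElements P R.arrows) := by
    rw [Presieve.compatible_iff_sieveCompatible]
    intro Y Z f k hf
    apply hι
    change ι.app (op Z) (fam (k ≫ f) _) = ι.app (op Z) (P.map k.op (fam f hf))
    rw [hfam, NatTrans.naturality_apply, hfam, op_comp, Functor.map_comp]
    rfl
  obtain ⟨p, hp, -⟩ := hP R hR _ hcompat
  refine ⟨p, (hQ R hR).ext fun Y f hf => ?_⟩
  rw [← NatTrans.naturality_apply, hp f hf, hfam]

end Desc

section Cover

variable {S : Scheme.{u}}

theorem mem_fppf_of_mem {T' T : Over S} (t : T' ⟶ T) [Flat t.left] [Surjective t.left]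
    [LocallyOfFinitePresentation t.left] (R : Sieve T) (hR : R t) :
    R ∈ (Scheme.fppfTopology.over S) T := by
  rw [GrothendieckTopology.mem_over_iff]
  refine Scheme.fppfTopology.superset_covering ?_
    (Precoverage.generate_mem_toGrothendieck t.left.singleton_mem_fppfPrecoverage)
  rintro Y f ⟨Y', k, _, ⟨⟩, rfl⟩
  rw [Sieve.overEquiv_iff]
  have e : (Over.homMk (k ≫ t.left) : Over.mk ((k ≫ t.left) ≫ T.hom) ⟶ T) =
      (Over.homMk k (by simp) : Over.mk ((k ≫ t.left) ≫ T.hom) ⟶ T') ≫ t := by
    apply Over.OverMorphism.ext
    rfl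
  rw [e]
  exact R.downward_closed hR _

/-- étale-local lifting of a point of `X` to an étale surjective cover `U` of `X` -/
theorem exists_etale_lift {X U T : Over S} (g : U ⟶ X) [Etale g.left] [Surjective g.left]
    (x : T ⟶ X) :
    ∃ (T' : Over S) (t : T' ⟶ T) (u : T' ⟶ U), Etale t.left ∧ Surjective t.left ∧
      t ≫ x = u ≫ g := by
  have hw : pullback.snd x.left g.left ≫ U.hom = pullback.fst x.left g.left ≫ T.hom := by
    rw [← Over.w g, ← Over.w x, ← Category.assoc, ← Category.assoc, pullback.condition]
  refine ⟨Over.mk (pullback.fst x.left g.left ≫ T.hom), Over.homMk (pullback.fst x.left g.left) rfl,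
    Over.homMk (pullback.snd x.left g.left) hw, ?_, ?_, ?_⟩
  · change Etale (pullback.fst x.left g.left)
    infer_instance
  · change Surjective (pullback.fst x.left g.left)
    infer_instance
  · apply Over.OverMorphism.ext
    exact pullback.condition

end Cover

end Groth.Agent.H9.EB
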