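import Mathlib
import Groth.Prelude.Def_Magnet4
import Groth.Agent.Lib.Helper9.Misc.EBG2
import Groth.Agent.Lib.Helper9.Misc.EBH1
import Groth.Agent.Lib.Helper9.Misc.MagFix

/-!
# Helper9: EBH2 — FPR atlases: lifting attractor points étale-locally to the atlas
-/

set_option linter.style.haveILetI false
set_option linter.unusedSectionVars false
set_option autoImplicit false

namespace Groth.Agent.H9.EB

universe u

open CategoryTheory CategoryTheory.Limits AlgebraicGeometry MonoidalCategory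
  CartesianMonoidalCategory MonObj Opposite
open Magnet

section FP

variable {S : Scheme.{u}} {M : Type} [AddCommGroup M] [AddGroup.FG M] (Z : AddSubgroup M)
  {X U : Over S}
  (a : MonAct (AMonS S M) X) (aU : MonAct (AMonS S M) U) (g : U ⟶ X)
  (hg : MonAct.IsEquivariant aU a g)

theorem attr_iso_fixed :
    ∃ e : attr a Z.toAddSubmonoid ≅
        MonAct.fixedPsh (a.restrict (AMonS.map S (QuotientAddGroup.mk' Z))),
      e.hom ≫ MonAct.fixedPshι _ = attrToX a Z.toAddSubmonoid :=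
  MagFix.S18289_main S Z X (MonAct.toAction a)

include hg in
theorem exists_fixed_lift
    (hgZ : MonAct.IsEquivariant (aU.restrict (AMonS.map S (QuotientAddGroup.mk' Z)))
      (a.restrict (AMonS.map S (QuotientAddGroup.mk' Z))) g)
    (hfpr : IsPullback (MonAct.fixedPsh.map g hgZ)
      (MonAct.fixedPshι (aU.restrict (AMonS.map S (QuotientAddGroup.mk' Z))))
      (MonAct.fixedPshι (a.restrict (AMonS.map S (QuotientAddGroup.mk' Z)))) (yoneda.map g))
    (T : Over S) (φ₀ : (attr a Z.toAddSubmonoid).obj (op T)) (u₀ : T ⟶ U)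
    (h : u₀ ≫ g = (attrToX a Z.toAddSubmonoid).app (op T) φ₀) :
    ∃ ψ₀ : (attr aU Z.toAddSubmonoid).obj (op T), ψ₀.1 ≫ g = φ₀.1 ∧
      (attrToX aU Z.toAddSubmonoid).app (op T) ψ₀ = u₀ := by
  obtain ⟨eX, heX⟩ := attr_iso_fixed Z a
  obtain ⟨eU, heU⟩ := attr_iso_fixed Z aU
  have heX' : ∀ (φ : (attr a Z.toAddSubmonoid).obj (op T)),
      (eX.hom.app (op T) φ).1 = (attrToX a Z.toAddSubmonoid).app (op T) φ := by
    intro φ
    exact congrArg (fun n => n.app (op T) φ) heX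
  have heU' : ∀ (ψ : (attr aU Z.toAddSubmonoid).obj (op T)),
      (eU.hom.app (op T) ψ).1 = (attrToX aU Z.toAddSubmonoid).app (op T) ψ := by
    intro ψ
    exact congrArg (fun n => n.app (op T) ψ) heU
  have hpb := hfpr.app (op T)
  obtain ⟨w, hw1, hw2⟩ := Types.exists_of_isPullback hpb (eX.hom.app (op T) φ₀) u₀ (by
    change (eX.hom.app (op T) φ₀).1 = u₀ ≫ g
    rw [heX', h])
  have hw2' : w.1 = u₀ := hw2
  have hw1' : w.1 ≫ g = (eX.hom.app (op T) φ₀).1 := congrArg Subtype.val hw1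
  have hev : (attrToX aU Z.toAddSubmonoid).app (op T) (eU.inv.app (op T) w) = u₀ := by
    rw [← heU', Iso.inv_hom_id_app_apply]
    exact hw2'
  refine ⟨eU.inv.app (op T) w, ?_, hev⟩
  have hinj : Function.Injective (fun φ => eX.hom.app (op T) φ) := by
    intro φ₁ φ₂ h12
    have := congrArg (fun y => eX.inv.app (op T) y) h12
    simpa [Iso.hom_inv_id_app_apply] using this
  have key : (MonAct.eqvHom.postcomp (subAct S M Z.toAddSubmonoid) g hg).app (op T)
      (eU.inv.app (op T) w) = φ₀ := by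
    apply hinj
    apply Subtype.ext
    change (eX.hom.app (op T) _).1 = (eX.hom.app (op T) φ₀).1
    rw [heX', ← hw1']
    have e3 : w.1 = (attrToX aU Z.toAddSubmonoid).app (op T) (eU.inv.app (op T) w) :=
      hw2'.trans hev.symm
    rw [e3]
    change lift _ _ ≫ (eU.inv.app (op T) w).1 ≫ g = (lift _ _ ≫ (eU.inv.app (op T) w).1) ≫ g
    rw [Category.assoc]
  exact congrArg Subtype.val key

end FP

section Lift

variable {S : Scheme.{u}} {M : Type} [AddCommGroup M] [AddGroup.FG M]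
  {X U : Over S}
  (a : MonAct (AMonS S M) X) (aU : MonAct (AMonS S M) U) [IsAffineHom U.hom] (g : U ⟶ X)
  [Etale g.left] [Surjective g.left]
  (hg : MonAct.IsEquivariant aU a g)

include hg in
theorem exists_local_lift_aux (N Q : AddSubmonoid M) (hQ : IsFace N Q) (Z : AddSubgroup M)
    (hQZ : Q = Z.toAddSubmonoid)
    (hgZ : MonAct.IsEquivariant (aU.restrict (AMonS.map S (QuotientAddGroup.mk' Z)))
      (a.restrict (AMonS.map S (QuotientAddGroup.mk' Z))) g)
    (hfpr : IsPullback (MonAct.fixedPsh.map g hgZ)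
      (MonAct.fixedPshι (aU.restrict (AMonS.map S (QuotientAddGroup.mk' Z))))
      (MonAct.fixedPshι (a.restrict (AMonS.map S (QuotientAddGroup.mk' Z)))) (yoneda.map g))
    (h : N.FG ∨ (IsSeparated X.hom ∧ LocallyOfFinitePresentation X.hom))
    (T : Over S) (φ : (attr a N).obj (op T)) :
    ∃ (T' : Over S) (t : T' ⟶ T) (ψ : (attr aU N).obj (op T')), Etale t.left ∧
      Surjective t.left ∧ ψ.1 ≫ g = (AMonS S ↥N ◁ t) ≫ φ.1 := by
  subst hQZ
  obtain ⟨φ₀, hφ₀⟩ : ∃ φ₀ : (attr a Z.toAddSubmonoid).obj (op T),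
      φ₀ = (attrFace a hQ).app (op T) φ := ⟨_, rfl⟩
  obtain ⟨T', t, u₀, ht1, ht2, htu⟩ :=
    exists_etale_lift g ((attrToX a Z.toAddSubmonoid).app (op T) φ₀)
  have hx : u₀ ≫ g = (attrToX a Z.toAddSubmonoid).app (op T')
      ((attr a Z.toAddSubmonoid).map t.op φ₀) := by
    rw [NatTrans.naturality_apply]
    exact htu.symm
  obtain ⟨ψ₀, hψ₀1, hψ₀2⟩ := exists_fixed_lift Z a aU g hg hgZ hfpr T'
    ((attr a Z.toAddSubmonoid).map t.op φ₀) u₀ hx
  have hpb := (S18302_main S M X U a aU g hg N _ hQ h).app (op T')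
  obtain ⟨ψ, hψ1, hψ2⟩ := Types.exists_of_isPullback hpb ((attr a N).map t.op φ) ψ₀ (by
    apply Subtype.ext
    change (AMonS.faceMap S hQ ▷ T') ≫ (AMonS S ↥N ◁ t) ≫ φ.1 = ψ₀.1 ≫ g
    rw [hψ₀1, hφ₀]
    change _ = (AMonS S ↥Z.toAddSubmonoid ◁ t) ≫ (AMonS.faceMap S hQ ▷ T) ≫ φ.1
    rw [whisker_exchange_assoc])
  exact ⟨T', t, ψ, ht1, ht2, congrArg Subtype.val hψ1⟩

end Lift

end Groth.Agent.H9.EB
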