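import Mathlib
import Groth.Prelude.Def_Magnet2
import Groth.Agent.Lib.Helper9.Misc.MagLoc
import Groth.Agent.Lib.Helper9.Misc.MagShf
import Groth.Agent.Lib.Helper9.Misc.MagRepB

/-! Helper9: finiteness of the set of pure magnets of an affine finitely presented `A(M)_S`-scheme
over a quasi-compact base. -/

set_option linter.style.haveILetI false
set_option linter.unusedSectionVars false
set_option autoImplicit false

namespace Groth.Agent.H9.MagPure

universe u

open CategoryTheory CategoryTheory.Limits AlgebraicGeometry MonoidalCategory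
  CartesianMonoidalCategory MonObj Opposite
open Magnet
open Groth.Agent.H9.MagKun Groth.Agent.H9.MagLoc

section Alg

open Classical in
theorem exists_D {A B : Type*} [CommRing A] [CommRing B] (f : A →+* B) (hf : f.FiniteType)
    {M : Type} [AddCommMonoid M] (ρ : B →+* MonoidAlgebra B (Multiplicative M))
    (hρ : ∀ s, ρ (f s) = MonoidAlgebra.single 1 (f s)) :
    ∃ D : Finset M, ∀ N : AddSubmonoid M, ∀ b (m : M),
      m ∉ AddSubmonoid.closure ((N : Set M) ∩ ↑D) →
      (ρ b).coeff (Multiplicative.ofAdd m) ∈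
        Ideal.span {y | ∃ b, ∃ m : M, m ∉ N ∧ y = (ρ b).coeff (Multiplicative.ofAdd m)} := by
  letI := f.toAlgebra
  obtain ⟨t, ht⟩ := (show Algebra.FiniteType A B from hf).out
  refine ⟨t.biUnion (fun b => ((ρ b).coeff.support).image Multiplicative.toAdd), ?_⟩
  intro N
  set D : Finset M := t.biUnion (fun b => ((ρ b).coeff.support).image Multiplicative.toAdd)
  set I : Ideal B :=
    Ideal.span {y | ∃ b, ∃ m : M, m ∉ N ∧ y = (ρ b).coeff (Multiplicative.ofAdd m)} with hI
  set L : AddSubmonoid M := AddSubmonoid.closure ((N : Set M) ∩ ↑D) with hL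
  let q : B →+* B ⧸ I := Ideal.Quotient.mk I
  let Φ : B →+* MonoidAlgebra (B ⧸ I) (Multiplicative M) :=
    (MonoidAlgebra.mapRingHom (Multiplicative M) q).comp ρ
  let R' : Subring (MonoidAlgebra (B ⧸ I) (Multiplicative M)) :=
    (MonoidAlgebra.mapDomainRingHom (B ⧸ I) (AddMonoidHom.toMultiplicative L.subtype)).range
  let Bs : Subalgebra A B :=
    { (R'.comap Φ).toSubsemiring with
      algebraMap_mem' := by
        intro s
        change Φ (f s) ∈ R'
        refine ⟨MonoidAlgebra.single 1 (q (f s)), ?_⟩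
        change _ = MonoidAlgebra.mapRingHom (Multiplicative M) q (ρ (f s))
        rw [hρ, MonoidAlgebra.mapRingHom_single]
        change MonoidAlgebra.mapDomain _ _ = _
        rw [MonoidAlgebra.mapDomain_single]
        rfl }
  have hmem : ∀ b, b ∈ Bs ↔ Φ b ∈ R' := fun b => Iff.rfl
  have hΦc : ∀ b (m : M), (Φ b).coeff (Multiplicative.ofAdd m) =
      q ((ρ b).coeff (Multiplicative.ofAdd m)) := by
    intro b m
    change (MonoidAlgebra.mapRingHom (Multiplicative M) q (ρ b)).coeff _ = _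
    rw [MonoidAlgebra.coeff_mapRingHom]
  have ht' : (t : Set B) ⊆ Bs := by
    intro b hb
    rw [SetLike.mem_coe, hmem]
    obtain ⟨y, hy⟩ := exists_mapDomain_eq L (Φ b) (by
      intro m hm
      rw [hΦc]
      by_cases h0 : (ρ b).coeff (Multiplicative.ofAdd m) = 0
      · rw [h0, map_zero]
      · have hmD : m ∈ D := by
          rw [Finset.mem_biUnion]
          refine ⟨b, hb, ?_⟩
          rw [Finset.mem_image]
          exact ⟨Multiplicative.ofAdd m, Finsupp.mem_support_iff.mpr h0, rfl⟩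
        have hmN : m ∉ N := fun hmN => hm (AddSubmonoid.subset_closure ⟨hmN, hmD⟩)
        exact Ideal.Quotient.eq_zero_iff_mem.mpr (Ideal.subset_span ⟨b, m, hmN, rfl⟩))
    exact ⟨y, hy⟩
  have htop : Bs = ⊤ := by
    apply top_le_iff.mp
    rw [← ht]
    exact Algebra.adjoin_le ht'
  intro b m hm
  have hb : b ∈ Bs := by rw [htop]; exact Algebra.mem_top
  obtain ⟨y, hy⟩ := (hmem b).mp hb
  have h1 := coeff_mapDomain_eq_zero L y m hm
  rw [hy, hΦc] at h1
  exact Ideal.Quotient.eq_zero_iff_mem.mp h1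

end Alg

variable {S : Scheme.{u}} {M : Type} [AddCommMonoid M] {X : Over S} (a : MonAct (AMonS S M) X)

section Chart

variable (U : S.Opens) [IsAffine (XU X U).left] (ω : AMonS S M ⊗ XU X U ⟶ XU X U)

theorem rho_lin (s : Γ(U.toScheme, ⊤)) :
    rho U ω ((X.hom ∣_ U).appTop.hom s) =
      MonoidAlgebra.single 1 ((X.hom ∣_ U).appTop.hom s) := by
  apply (kappa_bijective S M (XU X U)).1
  rw [kappa_rho, kappa_single_one]
  have e : ω.left ≫ (X.hom ∣_ U) = (snd (AMonS S M) (XU X U)).left ≫ (X.hom ∣_ U) := by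
    rw [← cancel_mono U.ι, Category.assoc, Category.assoc, morphismRestrict_ι]
    exact (Over.w ω).trans (Over.w (snd (AMonS S M) (XU X U))).symm
  have e' : (ω.left ≫ (X.hom ∣_ U)).appTop.hom s =
      ((snd (AMonS S M) (XU X U)).left ≫ (X.hom ∣_ U)).appTop.hom s := by rw [e]
  exact (congrArg (fun g => g.hom s) (Scheme.Hom.comp_appTop ω.left (X.hom ∣_ U))).symm.trans
    (e'.trans (congrArg (fun g => g.hom s)
      (Scheme.Hom.comp_appTop (snd (AMonS S M) (XU X U)).left (X.hom ∣_ U))))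

theorem Iω_anti {L L' : AddSubmonoid M} (h : L ≤ L') : Iω L' U ω ≤ Iω L U ω := by
  apply Ideal.span_mono
  rintro _ ⟨b, m, hm, rfl⟩
  exact ⟨b, m, fun hm' => hm (h hm'), rfl⟩

theorem exists_D_chart (hU : IsAffineOpen U) [LocallyOfFiniteType X.hom] :
    ∃ D : Finset M, ∀ N : AddSubmonoid M,
      Iω (AddSubmonoid.closure ((N : Set M) ∩ ↑D)) U ω ≤ Iω N U ω := by
  haveI : IsAffine U.toScheme := hU
  haveI : IsAffine (X.hom ⁻¹ᵁ U).toScheme := ‹IsAffine (XU X U).left›
  have hft : LocallyOfFiniteType (X.hom ∣_ U) := IsZariskiLocalAtTarget.restrict ‹_› U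
  have hft' : (X.hom ∣_ U).appTop.hom.FiniteType :=
    (HasRingHomProperty.iff_of_isAffine (P := @LocallyOfFiniteType)).mp hft
  obtain ⟨D, hD⟩ := exists_D (X.hom ∣_ U).appTop.hom hft' (rho U ω) (rho_lin U ω)
  refine ⟨D, fun N => ?_⟩
  apply Ideal.span_le.mpr
  rintro _ ⟨b, m, hm, rfl⟩
  exact hD N b m hm

include a in
theorem local_imp (hU : IsAffineOpen U) [LocallyOfFiniteType X.hom] :
    ∃ D : Finset M, ∀ (N : AddSubmonoid M) (D' : Finset M), D ⊆ D' →
      ∀ (T : Over S) [IsAffine T.left] (u : T ⟶ XU X U), Ext N a (u ≫ x₀ X U) →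
        Ext (AddSubmonoid.closure ((N : Set M) ∩ ↑D')) a (u ≫ x₀ X U) := by
  obtain ⟨ω, hω⟩ := exists_omega a U
  obtain ⟨D, hD⟩ := exists_D_chart U ω hU
  refine ⟨D, fun N D' hDD' T _ u h => ?_⟩
  have hk := kills_of_ext N a U ω hω u h
  apply ext_closed _ a U ω hU hω u
  intro y hy
  apply hk
  apply hD N
  exact Iω_anti U ω (AddSubmonoid.closure_mono
    (Set.inter_subset_inter_right _ (Finset.coe_subset.mpr hDD'))) hy

end Chart

theorem ext_mono {L N : AddSubmonoid M} (h : L ≤ N) {T : Over S} (x : T ⟶ X)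
    (hx : Ext L a x) : Ext N a x := by
  obtain ⟨φ, hφ⟩ := hx
  refine ⟨(AMonS.map S (AddSubmonoid.inclusion h) ▷ T) ≫ φ, ?_⟩
  rw [← comp_whiskerRight_assoc, ← AMonS.map_comp]
  exact hφ

theorem range_eq [IsSeparated X.hom] (N : AddSubmonoid M) (T : Over S) :
    Set.range (fun φ => (Magnet.attrToX a N).app (op T) φ) = {x : T ⟶ X | Ext N a x} := by
  ext x
  constructor
  · rintro ⟨φ, rfl⟩
    exact ⟨φ.1, MagRepB.restrict_eq (AMonS.map S N.subtype) a φ.1 φ.2⟩
  · rintro ⟨φ, hφ⟩
    have hφeq := MagRepB.equivariant_of_restrict (AMonS.map S N.subtype) a (MagShf.hD N) x φ hφ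
    exact ⟨⟨φ, hφeq⟩, MagRepB.ev_of_restrict (AMonS.map S N.subtype) a x φ hφ⟩

theorem ext_of_ext [IsAffineHom X.hom] (s : Set S.affineOpens)
    (hs : TopologicalSpace.IsOpenCover (fun j : s => (j.1 : S.Opens)))
    (D : Finset M)
    (hD : ∀ (j : s) (N : AddSubmonoid M) (T : Over S) [IsAffine T.left] (u : T ⟶ XU X j.1.1),
      Ext N a (u ≫ x₀ X j.1.1) →
        Ext (AddSubmonoid.closure ((N : Set M) ∩ ↑D)) a (u ≫ x₀ X j.1.1))
    (N : AddSubmonoid M) {T : Over S} (x : T ⟶ X) (h : Ext N a x) :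
    Ext (AddSubmonoid.closure ((N : Set M) ∩ ↑D)) a x := by
  haveI : IsSeparated X.hom := inferInstance
  let 𝒰 := T.left.openCoverOfIsOpenCover _ (T.left.isBasis_affineOpens.isOpenCover_mem_and_le
    (hs.comap T.hom.base.hom))
  apply MagShf.ext_local _ a x 𝒰
  intro c
  obtain ⟨tc, htc⟩ : ∃ tc : Over.mk (𝒰.f c ≫ T.hom) ⟶ T, tc = Over.homMk (𝒰.f c) rfl := ⟨_, rfl⟩
  rw [← htc]
  haveI : IsAffine (Over.mk (𝒰.f c ≫ T.hom)).left := c.2.1
  have hTc : ∀ t : (Over.mk (𝒰.f c ≫ T.hom)).left,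
      (Over.mk (𝒰.f c ≫ T.hom)).hom t ∈ c.1.2.1.1 := by
    intro t
    change (𝒰.f c ≫ T.hom) t ∈ c.1.2.1.1
    rw [Scheme.Hom.comp_apply]
    exact c.2.2 t.2
  obtain ⟨u, hu⟩ := exists_factor (X := X) (U := c.1.2.1.1) hTc (tc ≫ x)
  rw [← hu]
  apply hD c.1.2 N _ u
  rw [hu]
  exact Ext.comp N a tc h

open Classical in
theorem main [CompactSpace S] [IsAffineHom X.hom] [LocallyOfFinitePresentation X.hom] :
    Set.Finite {N : AddSubmonoid M | ∀ L : AddSubmonoid M,
      (∀ T : Over S, Set.range (fun φ => (Magnet.attrToX a N).app (op T) φ) =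
        Set.range (fun φ => (Magnet.attrToX a L).app (op T) φ)) → N ≤ L} := by
  haveI : IsSeparated X.hom := inferInstance
  haveI : LocallyOfFiniteType X.hom := inferInstance
  obtain ⟨s, hsfin, hs⟩ := (isCompact_iff_finite_and_eq_biUnion_affineOpens (U := (⊤ : S.Opens))).mp
    (by simpa using isCompact_univ)
  have hs' : TopologicalSpace.IsOpenCover (fun j : s => (j.1 : S.Opens)) := by
    change (⨆ j : s, (j.1 : S.Opens)) = ⊤
    rw [hs, iSup_subtype']
  haveI : Fintype s := hsfin.fintype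
  have hloc : ∀ j : s, ∃ D : Finset M, ∀ (N : AddSubmonoid M) (D' : Finset M), D ⊆ D' →
      ∀ (T : Over S) [IsAffine T.left] (u : T ⟶ XU X j.1.1), Ext N a (u ≫ x₀ X j.1.1) →
        Ext (AddSubmonoid.closure ((N : Set M) ∩ ↑D')) a (u ≫ x₀ X j.1.1) := by
    intro j
    haveI : IsAffine (XU X j.1.1).left := j.1.2.preimage X.hom
    exact local_imp a j.1.1 j.1.2
  choose Dj hDj using hloc
  set D : Finset M := Finset.univ.biUnion Dj with hDdef
  have key : ∀ (N : AddSubmonoid M) (T : Over S) (x : T ⟶ X),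
      Ext N a x ↔ Ext (AddSubmonoid.closure ((N : Set M) ∩ ↑D)) a x := by
    intro N T x
    constructor
    · intro h
      exact ext_of_ext a s hs' D (fun j N' T' _ u hu => hDj j N' D
        (Finset.subset_biUnion_of_mem Dj (Finset.mem_univ j)) T' u hu) N x h
    · intro h
      exact ext_mono a (AddSubmonoid.closure_le.mpr Set.inter_subset_left) x h
  apply Set.Finite.subset (Set.Finite.image
    (fun t : Finset M => AddSubmonoid.closure (↑t : Set M)) (Finset.finite_toSet D.powerset))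
  intro N hN
  have hNL := hN (AddSubmonoid.closure ((N : Set M) ∩ ↑D)) (by
    intro T
    rw [range_eq a N T, range_eq a _ T]
    ext x
    exact key N T x)
  refine ⟨D.filter (· ∈ N), ?_, ?_⟩
  · rw [Finset.mem_coe, Finset.mem_powerset]
    exact Finset.filter_subset _ _
  · have hset : ((D.filter (· ∈ N) : Finset M) : Set M) = (N : Set M) ∩ ↑D := by
      ext m
      simp [and_comm]
    change AddSubmonoid.closure _ = N
    rw [hset]
    exact le_antisymm (AddSubmonoid.closure_le.mpr Set.inter_subset_left) hNL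

end Groth.Agent.H9.MagPure
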