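import Mathlib
import Groth.Prelude.Def_Magnet4
import Groth.Agent.Lib.Helper9.Misc.EBH2
import Groth.Agent.Lib.Helper9.Misc.MagPure

/-!
# Helper9: EBH3 — images of attractors along strongly-FPR atlases (S19645) and finiteness of pure
magnets (S19646)
-/

set_option linter.style.haveILetI false
set_option linter.unusedSectionVars false
set_option autoImplicit false

namespace Groth.Agent.H9.EB

universe u

open CategoryTheory CategoryTheory.Limits AlgebraicGeometry MonoidalCategory
  CartesianMonoidalCategory MonObj Opposite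
open Magnet

section Units

variable {M : Type} [AddCommGroup M]

/-- the subgroup of invertible elements of a submonoid -/
def unitSubgroup (N : AddSubmonoid M) : AddSubgroup M where
  carrier := {m | m ∈ N ∧ -m ∈ N}
  zero_mem' := ⟨N.zero_mem, by rw [neg_zero]; exact N.zero_mem⟩
  add_mem' := fun {x y} hx hy => ⟨N.add_mem hx.1 hy.1, by
    rw [neg_add]
    exact N.add_mem hx.2 hy.2⟩
  neg_mem' := fun {x} hx => ⟨hx.2, by rw [neg_neg]; exact hx.1⟩

theorem mem_unitSubgroup {N : AddSubmonoid M} {m : M} :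
    m ∈ unitSubgroup N ↔ m ∈ N ∧ -m ∈ N := Iff.rfl

theorem toAddSubmonoid_eq_unitFace {N : AddSubmonoid M} (Z : AddSubgroup M)
    (hZ : ∀ m : M, m ∈ Z ↔ (m ∈ N ∧ -m ∈ N)) : Z.toAddSubmonoid = unitFace N := by
  ext m
  constructor
  · intro hm
    have h := (hZ m).1 hm
    exact ⟨h.1, -m, h.2, add_neg_cancel m⟩
  · rintro ⟨h1, y, hy, hmy⟩
    have e : -m = y := neg_eq_of_add_eq_zero_right hmy
    exact (hZ m).2 ⟨h1, e ▸ hy⟩

end Units

section Img

variable (S : Scheme.{u}) (M : Type) [AddCommGroup M] [AddGroup.FG M]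
  {X : Over S} [IsSeparated X.hom] [LocallyOfFinitePresentation X.hom]
  (a : MonAct (AMonS S M) X) (U : Over S) [IsAffineHom U.hom]
  (aU : MonAct (AMonS S M) U) (g : U ⟶ X) (hg : MonAct.IsEquivariant aU a g)
  [Etale g.left] [Surjective g.left]

include hg in
theorem range_le (N L : AddSubmonoid M) (Z : AddSubgroup M)
    (hZ : ∀ m : M, m ∈ Z ↔ (m ∈ N ∧ -m ∈ N))
    (hgZ : MonAct.IsEquivariant (aU.restrict (AMonS.map S (QuotientAddGroup.mk' Z)))
      (a.restrict (AMonS.map S (QuotientAddGroup.mk' Z))) g)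
    (hfpr : IsPullback (MonAct.fixedPsh.map g hgZ)
      (MonAct.fixedPshι (aU.restrict (AMonS.map S (QuotientAddGroup.mk' Z))))
      (MonAct.fixedPshι (a.restrict (AMonS.map S (QuotientAddGroup.mk' Z)))) (yoneda.map g))
    (hU : ∀ T : Over S, Set.range (fun φ => (attrToX aU N).app (op T) φ) ⊆
      Set.range (fun φ => (attrToX aU L).app (op T) φ)) (T : Over S) :
    Set.range (fun φ => (attrToX a N).app (op T) φ) ⊆
      Set.range (fun φ => (attrToX a L).app (op T) φ) := by
  rintro x ⟨φ, rfl⟩
  obtain ⟨T', t, ψ, ht1, ht2, hψ⟩ := exists_local_lift_aux a aU g hg N (unitFace N)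
    (isFace_unitFace N) Z (toAddSubmonoid_eq_unitFace Z hZ).symm hgZ hfpr
    (Or.inr ⟨inferInstance, inferInstance⟩) T φ
  obtain ⟨ψ', hψ'⟩ := hU T' ⟨ψ, rfl⟩
  have hψ'' : (attrToX aU L).app (op T') ψ' = (attrToX aU N).app (op T') ψ := hψ'
  -- the sieve
  let J : GrothendieckTopology (Over S) := Scheme.fppfTopology.over S
  have hXs : Presieve.IsSheaf J (yoneda.obj X) :=
    GrothendieckTopology.Subcanonical.isSheaf_of_isRepresentable (yoneda.obj X)
  let R : Sieve T :=
    { arrows := fun Y f => ∃ p : (attr a L).obj (op Y),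
        (attrToX a L).app (op Y) p = f ≫ (attrToX a N).app (op T) φ
      downward_closed := fun {Y Z f} hf k => by
        obtain ⟨p, hp⟩ := hf
        refine ⟨(attr a L).map k.op p, ?_⟩
        rw [NatTrans.naturality_apply, hp, Category.assoc]
        rfl }
  have hRt : R t := by
    refine ⟨(MonAct.eqvHom.postcomp (subAct S M L) g hg).app (op T') ψ', ?_⟩
    have e1 : (attrToX a L).app (op T') ((MonAct.eqvHom.postcomp (subAct S M L) g hg).app (op T') ψ') =
        (attrToX aU L).app (op T') ψ' ≫ g := by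
      change lift _ _ ≫ ψ'.1 ≫ g = (lift _ _ ≫ ψ'.1) ≫ g
      rw [Category.assoc]
    have e2 : (attrToX aU N).app (op T') ψ ≫ g =
        t ≫ (attrToX a N).app (op T) φ := by
      change (lift _ _ ≫ ψ.1) ≫ g = t ≫ lift _ _ ≫ φ.1
      rw [Category.assoc, hψ, lift_whiskerLeft_assoc, ← Category.assoc t, comp_lift,
        Category.comp_id, Category.id_comp, ← Category.assoc t, toUnit_unique (t ≫ toUnit T) (toUnit T')]
    rw [e1, hψ'', e2]
  haveI : Flat t.left := inferInstance
  haveI : LocallyOfFinitePresentation t.left := inferInstance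
  have hR : R ∈ J T := mem_fppf_of_mem t R hRt
  obtain ⟨p, hp⟩ := mem_range_of_local J (attrToX a L)
    (fun T => UDM.S18285_main X a L (unop T))
    (FXS.eqvHom_isSheaf J (subAct S M L) a hXs) hXs.isSeparated
    ((attrToX a N).app (op T) φ) R hR (fun Y f hf => hf)
  exact ⟨p, hp⟩

include hg in
theorem S19645_main
    (hgZ : ∀ Z : AddSubgroup M, MonAct.IsEquivariant
      (aU.restrict (AMonS.map S (QuotientAddGroup.mk' Z)))
      (a.restrict (AMonS.map S (QuotientAddGroup.mk' Z))) g)
    (hfpr : ∀ Z : AddSubgroup M, IsPullback (MonAct.fixedPsh.map g (hgZ Z))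
      (MonAct.fixedPshι (aU.restrict (AMonS.map S (QuotientAddGroup.mk' Z))))
      (MonAct.fixedPshι (a.restrict (AMonS.map S (QuotientAddGroup.mk' Z)))) (yoneda.map g))
    (N L : AddSubmonoid M)
    (hU : ∀ T : Over S, Set.range (fun φ => (attrToX aU N).app (op T) φ) =
      Set.range (fun φ => (attrToX aU L).app (op T) φ)) (T : Over S) :
    Set.range (fun φ => (attrToX a N).app (op T) φ) =
      Set.range (fun φ => (attrToX a L).app (op T) φ) := by
  apply Set.Subset.antisymm
  · exact range_le S M a U aU g hg N L (unitSubgroup N) (fun _ => mem_unitSubgroup)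
      (hgZ _) (hfpr _) (fun T' => (hU T').le) T
  · exact range_le S M a U aU g hg L N (unitSubgroup L) (fun _ => mem_unitSubgroup)
      (hgZ _) (hfpr _) (fun T' => (hU T').ge) T

include hg in
theorem S19646_main [CompactSpace S]
    (hgZ : ∀ Z : AddSubgroup M, MonAct.IsEquivariant
      (aU.restrict (AMonS.map S (QuotientAddGroup.mk' Z)))
      (a.restrict (AMonS.map S (QuotientAddGroup.mk' Z))) g)
    (hfpr : ∀ Z : AddSubgroup M, IsPullback (MonAct.fixedPsh.map g (hgZ Z))
      (MonAct.fixedPshι (aU.restrict (AMonS.map S (QuotientAddGroup.mk' Z))))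
      (MonAct.fixedPshι (a.restrict (AMonS.map S (QuotientAddGroup.mk' Z)))) (yoneda.map g)) :
    Set.Finite {N : AddSubmonoid M | ∀ L : AddSubmonoid M,
      (∀ T : Over S, Set.range (fun φ => (attrToX a N).app (op T) φ) =
        Set.range (fun φ => (attrToX a L).app (op T) φ)) → N ≤ L} := by
  haveI : LocallyOfFinitePresentation U.hom := by
    rw [← Over.w g]
    infer_instance
  apply Set.Finite.subset (MagPure.main aU)
  intro N hN L hL
  exact hN L (fun T => S19645_main S M a U aU g hg hgZ hfpr N L hL T)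

end Img

end Groth.Agent.H9.EB
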