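import Mathlib
import Groth.Prelude.Def_Magnet4
import Groth.Agent.Lib.Helper9.Misc.EBH3

/-!
# Helper9: EBH4 — finitely generated approximation `N_c ≤ N` of a magnet with `X^{N_c} ≅ X^N` in the
presence of an `S`-affine `N*`-FPR atlas (S18237)
-/

set_option linter.style.haveILetI false
set_option linter.unusedSectionVars false
set_option autoImplicit false

namespace Groth.Agent.H9.EB

universe u

open CategoryTheory CategoryTheory.Limits AlgebraicGeometry MonoidalCategory
  CartesianMonoidalCategory MonObj Opposite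
open Magnet
open Groth.Agent.H9.MagLoc

section FG

variable {M : Type} [AddCommGroup M] [AddGroup.FG M]

theorem fg_toAddSubmonoid (Z : AddSubgroup M) : Z.toAddSubmonoid.FG := by
  rw [← AddSubgroup.fg_iff_addSubmonoid_fg]
  haveI : Module.Finite ℤ M := Module.Finite.iff_addGroup_fg.mpr ‹_›
  haveI : IsNoetherian ℤ M := inferInstance
  have := IsNoetherian.noetherian (AddSubgroup.toIntSubmodule Z)
  rwa [Submodule.fg_iff_addSubgroup_fg, AddSubgroup.toIntSubmodule_toAddSubgroup] at this

end FG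

section D

variable {S : Scheme.{u}} {M : Type} [AddCommMonoid M] {X : Over S} (a : MonAct (AMonS S M) X)

theorem exists_D_global [CompactSpace S] [IsAffineHom X.hom] [LocallyOfFiniteType X.hom] :
    ∃ D : Finset M, ∀ (N : AddSubmonoid M) (T : Over S) (x : T ⟶ X), Ext N a x →
      Ext (AddSubmonoid.closure ((N : Set M) ∩ ↑D)) a x := by
  classical
  obtain ⟨s, hsfin, hs⟩ := (isCompact_iff_finite_and_eq_biUnion_affineOpens (U := (⊤ : S.Opens))).mp
    (by simpa using isCompact_univ)
  have hs' : TopologicalSpace.IsOpenCover (fun j : s => (j.1 : S.Opens)) := by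
    change (⨆ j : s, (j.1 : S.Opens)) = ⊤
    rw [hs, iSup_subtype']
  haveI : Fintype s := hsfin.fintype
  have hloc : ∀ j : s, ∃ D : Finset M, ∀ (N : AddSubmonoid M) (D' : Finset M), D ⊆ D' →
      ∀ (T : Over S) [IsAffine T.left] (u : T ⟶ XU X j.1.1), Ext N a (u ≫ x₀ X j.1.1) →
        Ext (AddSubmonoid.closure ((N : Set M) ∩ ↑D')) a (u ≫ x₀ X j.1.1) := by
    intro j
    haveI : IsAffine (XU X j.1.1).left := j.1.2.preimage X.hom
    exact MagPure.local_imp a j.1.1 j.1.2
  choose Dj hDj using hloc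
  refine ⟨Finset.univ.biUnion Dj, fun N T x h => ?_⟩
  exact MagPure.ext_of_ext a s hs' _ (fun j N' T' _ u hu => hDj j N' _
    (Finset.subset_biUnion_of_mem Dj (Finset.mem_univ j)) T' u hu) N x h

end D

section Main

variable (S : Scheme.{u}) [CompactSpace S] (M : Type) [AddCommGroup M] [AddGroup.FG M]
  {X : Over S} [IsSeparated X.hom] [LocallyOfFinitePresentation X.hom]
  (a : MonAct (AMonS S M) X) (N : AddSubmonoid M) (Z : AddSubgroup M)
  (hZ : ∀ m : M, m ∈ Z ↔ (m ∈ N ∧ -m ∈ N)) (U : Over S) [IsAffineHom U.hom]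
  (aU : MonAct (AMonS S M) U) (g : U ⟶ X) (hg : MonAct.IsEquivariant aU a g)
  [Etale g.left] [Surjective g.left]

include hZ hg in
theorem S18237_main
    (hgZ : MonAct.IsEquivariant (aU.restrict (AMonS.map S (QuotientAddGroup.mk' Z)))
      (a.restrict (AMonS.map S (QuotientAddGroup.mk' Z))) g)
    (hfpr : IsPullback (MonAct.fixedPsh.map g hgZ)
      (MonAct.fixedPshι (aU.restrict (AMonS.map S (QuotientAddGroup.mk' Z))))
      (MonAct.fixedPshι (a.restrict (AMonS.map S (QuotientAddGroup.mk' Z)))) (yoneda.map g)) :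
    ∃ (Nc : AddSubmonoid M) (h : Nc ≤ N), Nc.FG ∧
      (∀ m : M, (m ∈ Nc ∧ -m ∈ Nc) ↔ (m ∈ N ∧ -m ∈ N)) ∧ IsIso (attrMap a h) := by
  haveI : LocallyOfFinitePresentation U.hom := by
    rw [← Over.w g]
    infer_instance
  haveI : LocallyOfFiniteType U.hom := inferInstance
  haveI : IsSeparated U.hom := inferInstance
  obtain ⟨D, hD⟩ := exists_D_global aU
  have hZN : Z.toAddSubmonoid ≤ N := fun m hm => ((hZ m).1 hm).1
  have h1 : AddSubmonoid.closure ((N : Set M) ∩ ↑D) ≤ N :=
    AddSubmonoid.closure_le.mpr Set.inter_subset_left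
  have hle : AddSubmonoid.closure ((N : Set M) ∩ ↑D) ⊔ Z.toAddSubmonoid ≤ N := sup_le h1 hZN
  have hfg : (AddSubmonoid.closure ((N : Set M) ∩ ↑D) ⊔ Z.toAddSubmonoid).FG := by
    refine AddSubmonoid.FG.sup ?_ (fg_toAddSubmonoid Z)
    rw [AddSubmonoid.fg_iff]
    exact ⟨(N : Set M) ∩ ↑D, rfl, Set.Finite.subset D.finite_toSet Set.inter_subset_right⟩
  obtain ⟨Nc, hNc⟩ : ∃ Nc : AddSubmonoid M,
      Nc = AddSubmonoid.closure ((N : Set M) ∩ ↑D) ⊔ Z.toAddSubmonoid := ⟨_, rfl⟩
  have hle' : Nc ≤ N := hNc ▸ hle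
  have hcl : AddSubmonoid.closure ((N : Set M) ∩ ↑D) ≤ Nc := hNc ▸ le_sup_left
  have hZc : Z.toAddSubmonoid ≤ Nc := hNc ▸ le_sup_right
  refine ⟨Nc, hle', hNc ▸ hfg, ?_, ?_⟩
  · intro m
    constructor
    · rintro ⟨hm1, hm2⟩
      exact ⟨hle' hm1, hle' hm2⟩
    · intro hm
      have hmZ : m ∈ Z := (hZ m).2 hm
      exact ⟨hZc hmZ, hZc (Z.neg_mem hmZ)⟩
  · -- the isomorphism
    let J : GrothendieckTopology (Over S) := Scheme.fppfTopology.over S
    have hXs : Presieve.IsSheaf J (yoneda.obj X) :=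
      GrothendieckTopology.Subcanonical.isSheaf_of_isRepresentable (yoneda.obj X)
    have hsurj : ∀ (T : Over S) (φ : (attr a N).obj (op T)),
        ∃ p : (attr a Nc).obj (op T), (attrMap a hle').app (op T) p = φ := by
      intro T φ
      obtain ⟨T', t, ψ, ht1, ht2, hψ⟩ := exists_local_lift_aux a aU g hg N (unitFace N)
        (isFace_unitFace N) Z (toAddSubmonoid_eq_unitFace Z hZ).symm hgZ hfpr
        (Or.inr ⟨inferInstance, inferInstance⟩) T φ
      let R : Sieve T :=
        { arrows := fun Y f => ∃ p : (attr a Nc).obj (op Y),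
            (attrMap a hle').app (op Y) p = (attr a N).map f.op φ
          downward_closed := fun {Y Z' f} hf k => by
            obtain ⟨p, hp⟩ := hf
            refine ⟨(attr a Nc).map k.op p, ?_⟩
            rw [NatTrans.naturality_apply, hp, op_comp, Functor.map_comp]
            rfl }
      have hRt : R t := by
        have hE : Ext N aU (MagRepB.ev ψ.1) :=
          ⟨ψ.1, MagRepB.restrict_eq (AMonS.map S N.subtype) aU ψ.1 ψ.2⟩
        have hE' : Ext Nc aU (MagRepB.ev ψ.1) := MagPure.ext_mono aU hcl _ (hD N T' _ hE)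
        obtain ⟨φc, hφc⟩ := hE'
        have hφceq := MagRepB.equivariant_of_restrict (AMonS.map S Nc.subtype) aU (MagShf.hD Nc)
          _ φc hφc
        have hφcψ : (AMonS.map S (AddSubmonoid.inclusion hle') ▷ T') ≫ φc = ψ.1 := by
          apply MagShf.hD N
          rw [← comp_whiskerRight_assoc, ← AMonS.map_comp]
          exact hφc.trans (MagRepB.restrict_eq (AMonS.map S N.subtype) aU ψ.1 ψ.2).symm
        refine ⟨⟨φc ≫ g, hφceq.comp hg⟩, ?_⟩
        apply Subtype.ext
        change (AMonS.map S (AddSubmonoid.inclusion hle') ▷ T') ≫ φc ≫ g = (AMonS S ↥N ◁ t) ≫ φ.1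
        rw [← Category.assoc, hφcψ, hψ]
      haveI : Flat t.left := inferInstance
      haveI : LocallyOfFinitePresentation t.left := inferInstance
      have hR : R ∈ J T := mem_fppf_of_mem t R hRt
      exact mem_range_of_local J (attrMap a hle')
        (fun T => UDM.S18284_main X a hle' (unop T))
        (FXS.eqvHom_isSheaf J (subAct S M Nc) a hXs)
        (FXS.eqvHom_isSheaf J (subAct S M N) a hXs).isSeparated
        φ R hR (fun Y f hf => hf)
    haveI : ∀ T : (Over S)ᵒᵖ, IsIso ((attrMap a hle').app T) := by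
      intro T
      rw [isIso_iff_bijective]
      exact ⟨UDM.S18284_main X a hle' (unop T), fun φ => hsurj (unop T) φ⟩
    exact NatIso.isIso_of_isIso_app _

end Main

end Groth.Agent.H9.EB
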