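import Mathlib
import Groth.Prelude.Def_Desc
import Groth.Prelude.Def_DescFam
import Groth.Agent.Lib.Helper3.DescSh.Affine
import Groth.Agent.Lib.Helper9.Misc.EBH1

/-!
# Helper9: EBI1 — the descent datum attached to a presheaf which becomes representable after base
change along a cover, and its effectiveness for affine morphisms along an fppf cover
-/

set_option linter.style.haveILetI false
set_option linter.unusedSectionVars false
set_option autoImplicit false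

namespace Groth.Agent.H9.EB

universe u

open CategoryTheory CategoryTheory.Limits AlgebraicGeometry Opposite

section AT

variable {S : Scheme.{u}} (F : (Over S)ᵒᵖ ⥤ Type u) {Zs V W : Over S} (q : V ⟶ W) (p : W ⟶ Zs)
  (π : F ⟶ yoneda.obj Zs) (υ : yoneda.obj V ⟶ F)
  (sq : IsPullback υ (yoneda.map q) π (yoneda.map p))

include sq in
theorem sq_w {T : Over S} (v : T ⟶ V) : π.app (op T) (υ.app (op T) v) = v ≫ q ≫ p := by
  have h := congrArg (fun n => n.app (op T) v) sq.w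
  simpa using h

include sq in
theorem sq_exists {T : Over S} (φ : F.obj (op T)) (w : T ⟶ W) (h : π.app (op T) φ = w ≫ p) :
    ∃ v : T ⟶ V, υ.app (op T) v = φ ∧ v ≫ q = w :=
  Types.exists_of_isPullback (sq.app (op T)) φ w h

include sq in
theorem sq_ext {T : Over S} (v v' : T ⟶ V) (h1 : υ.app (op T) v = υ.app (op T) v')
    (h2 : v ≫ q = v' ≫ q) : v = v' :=
  Types.ext_of_isPullback (sq.app (op T)) h1 h2

theorem υ_comp {T T' : Over S} (g : T' ⟶ T) (v : T ⟶ V) :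
    υ.app (op T') (g ≫ v) = F.map g.op (υ.app (op T) v) :=
  NatTrans.naturality_apply υ g.op v

/-- two points of `V` (over the same point of `S`) have the same image in `F` -/
def Rel {T₀ : Scheme.{u}} (v₀ v₁ : T₀ ⟶ V.left) : Prop :=
  ∃ h : v₀ ≫ V.hom = v₁ ≫ V.hom,
    υ.app (op (Over.mk (v₀ ≫ V.hom))) (Over.homMk v₀ rfl) =
      υ.app (op (Over.mk (v₀ ≫ V.hom))) (Over.homMk v₁ h.symm)

variable {F υ}

theorem rel_of {T₀ : Scheme.{u}} (v₀ v₁ : T₀ ⟶ V.left) (s : T₀ ⟶ S) (h₀ : v₀ ≫ V.hom = s)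
    (h₁ : v₁ ≫ V.hom = s)
    (h : υ.app (op (Over.mk s)) (Over.homMk v₀ h₀) = υ.app (op (Over.mk s)) (Over.homMk v₁ h₁)) :
    Rel F υ v₀ v₁ := by
  subst h₀
  exact ⟨h₁.symm, h⟩

theorem Rel.eq {T₀ : Scheme.{u}} {v₀ v₁ : T₀ ⟶ V.left} (hr : Rel F υ v₀ v₁) (s : T₀ ⟶ S)
    (h₀ : v₀ ≫ V.hom = s) (h₁ : v₁ ≫ V.hom = s) :
    υ.app (op (Over.mk s)) (Over.homMk v₀ h₀) = υ.app (op (Over.mk s)) (Over.homMk v₁ h₁) := by
  subst h₀
  obtain ⟨h, e⟩ := hr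
  exact e

theorem rel_refl {T₀ : Scheme.{u}} (v : T₀ ⟶ V.left) : Rel F υ v v := ⟨rfl, rfl⟩

theorem Rel.symm {T₀ : Scheme.{u}} {v₀ v₁ : T₀ ⟶ V.left} (hr : Rel F υ v₀ v₁) : Rel F υ v₁ v₀ :=
  rel_of v₁ v₀ (v₁ ≫ V.hom) rfl hr.1 (hr.eq _ hr.1 rfl).symm

theorem Rel.trans {T₀ : Scheme.{u}} {v₀ v₁ v₂ : T₀ ⟶ V.left} (h01 : Rel F υ v₀ v₁)
    (h12 : Rel F υ v₁ v₂) : Rel F υ v₀ v₂ :=
  rel_of v₀ v₂ (v₀ ≫ V.hom) rfl (h12.1.symm.trans h01.1.symm)
    ((h01.eq _ rfl h01.1.symm).trans (h12.eq _ h01.1.symm (h12.1.symm.trans h01.1.symm)))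

theorem Rel.comp {T₀ T₁ : Scheme.{u}} (g : T₁ ⟶ T₀) {v₀ v₁ : T₀ ⟶ V.left}
    (hr : Rel F υ v₀ v₁) : Rel F υ (g ≫ v₀) (g ≫ v₁) := by
  have h₁ : v₁ ≫ V.hom = v₀ ≫ V.hom := hr.1.symm
  apply rel_of (g ≫ v₀) (g ≫ v₁) (g ≫ v₀ ≫ V.hom) (Category.assoc _ _ _)
    (by rw [Category.assoc, h₁])
  have e0 : (Over.homMk (g ≫ v₀) (Category.assoc _ _ _) : Over.mk (g ≫ v₀ ≫ V.hom) ⟶ V) =
      (Over.homMk g rfl : Over.mk (g ≫ v₀ ≫ V.hom) ⟶ Over.mk (v₀ ≫ V.hom)) ≫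
        Over.homMk v₀ rfl := by
    apply Over.OverMorphism.ext
    rfl
  have e1 : (Over.homMk (g ≫ v₁) (by rw [Category.assoc, h₁]; rfl) :
      Over.mk (g ≫ v₀ ≫ V.hom) ⟶ V) =
      (Over.homMk g rfl : Over.mk (g ≫ v₀ ≫ V.hom) ⟶ Over.mk (v₀ ≫ V.hom)) ≫
        Over.homMk v₁ h₁ := by
    apply Over.OverMorphism.ext
    rfl
  rw [e0, e1, υ_comp, υ_comp, hr.eq _ rfl h₁]

include sq in
theorem Rel.base {T₀ : Scheme.{u}} {v₀ v₁ : T₀ ⟶ V.left} (hr : Rel F υ v₀ v₁) :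
    (v₀ ≫ q.left) ≫ p.left = (v₁ ≫ q.left) ≫ p.left := by
  have h := congrArg (fun x => π.app (op (Over.mk (v₀ ≫ V.hom))) x) (hr.eq _ rfl hr.1.symm)
  simp only [sq_w F q p π υ sq] at h
  have h' := congrArg (fun m => m.left) h
  simpa using h'

include sq in
theorem exists_rel {T₀ : Scheme.{u}} (v₀ : T₀ ⟶ V.left) (x₁ : T₀ ⟶ W.left)
    (h : (v₀ ≫ q.left) ≫ p.left = x₁ ≫ p.left) :
    ∃ v₁ : T₀ ⟶ V.left, v₁ ≫ q.left = x₁ ∧ Rel F υ v₀ v₁ := by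
  have hx : x₁ ≫ W.hom = v₀ ≫ V.hom := by
    rw [← Over.w p, ← Category.assoc, ← h, Category.assoc, Category.assoc, Over.w p, Over.w q]
  obtain ⟨v, hv1, hv2⟩ := sq_exists F q p π υ sq
    (υ.app (op (Over.mk (v₀ ≫ V.hom))) (Over.homMk v₀ rfl))
    (Over.homMk x₁ hx : Over.mk (v₀ ≫ V.hom) ⟶ W) (by
      rw [sq_w F q p π υ sq]
      apply Over.OverMorphism.ext
      simpa using h)
  refine ⟨v.left, ?_, ?_⟩
  · have := congrArg (fun m => m.left) hv2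
    simpa using this
  · refine rel_of v₀ v.left (v₀ ≫ V.hom) rfl (Over.w v) ?_
    rw [← hv1]
    rfl

include sq in
theorem rel_unique {T₀ : Scheme.{u}} {v₀ v₁ v₁' : T₀ ⟶ V.left} (h1 : Rel F υ v₀ v₁)
    (h1' : Rel F υ v₀ v₁') (hq : v₁ ≫ q.left = v₁' ≫ q.left) : v₁ = v₁' := by
  have hr : Rel F υ v₁ v₁' := h1.symm.trans h1'
  have := sq_ext F q p π υ sq (Over.homMk v₁ rfl : Over.mk (v₁ ≫ V.hom) ⟶ V)
    (Over.homMk v₁' hr.1.symm) (hr.eq _ rfl hr.1.symm) (by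
      apply Over.OverMorphism.ext
      simpa using hq)
  have h' := congrArg (fun m => m.left) this
  simpa using h'

end AT

section DD

variable {S : Scheme.{u}} (F : (Over S)ᵒᵖ ⥤ Type u) {Zs V W : Over S} (q : V ⟶ W) (p : W ⟶ Zs)
  (π : F ⟶ yoneda.obj Zs) (υ : yoneda.obj V ⟶ F)
  (sq : IsPullback υ (yoneda.map q) π (yoneda.map p))

include sq in
theorem exists_tr {T₀ : Scheme.{u}} (x₀ x₁ : T₀ ⟶ W.left) (h : x₀ ≫ p.left = x₁ ≫ p.left)
    (v : Desc.Lifts (Over.mk q.left) x₀) :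
    ∃ v₁ : Desc.Lifts (Over.mk q.left) x₁, Rel F υ v.1 v₁.1 := by
  have hv : v.1 ≫ q.left = x₀ := v.2
  obtain ⟨v₁, h1, h2⟩ := exists_rel q p π sq v.1 x₁ (by rw [hv]; exact h)
  exact ⟨⟨v₁, h1⟩, h2⟩

/-- transport of a point of `V` over `x₀` to the point over `x₁` with the same image in `F` -/
noncomputable def tr {T₀ : Scheme.{u}} (x₀ x₁ : T₀ ⟶ W.left) (h : x₀ ≫ p.left = x₁ ≫ p.left)
    (v : Desc.Lifts (Over.mk q.left) x₀) : Desc.Lifts (Over.mk q.left) x₁ :=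
  Classical.choose (exists_tr F q p π υ sq x₀ x₁ h v)

theorem tr_spec {T₀ : Scheme.{u}} (x₀ x₁ : T₀ ⟶ W.left) (h : x₀ ≫ p.left = x₁ ≫ p.left)
    (v : Desc.Lifts (Over.mk q.left) x₀) : Rel F υ v.1 (tr F q p π υ sq x₀ x₁ h v).1 :=
  Classical.choose_spec (exists_tr F q p π υ sq x₀ x₁ h v)

theorem tr_unique {T₀ : Scheme.{u}} (x₀ x₁ : T₀ ⟶ W.left) (h : x₀ ≫ p.left = x₁ ≫ p.left)
    (v : Desc.Lifts (Over.mk q.left) x₀) (v₁ : Desc.Lifts (Over.mk q.left) x₁)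
    (hr : Rel F υ v.1 v₁.1) : tr F q p π υ sq x₀ x₁ h v = v₁ := by
  apply Subtype.ext
  exact rel_unique q p π sq (tr_spec F q p π υ sq x₀ x₁ h v) hr
    ((tr F q p π υ sq x₀ x₁ h v).2.trans v₁.2.symm)

/-- the descent datum on `V` over `W` relative to `p : W ⟶ Zs` -/
noncomputable def dd : Desc.SchDD p.left where
  obj := Over.mk q.left
  φ T x₀ x₁ h :=
    { toFun := tr F q p π υ sq x₀ x₁ h
      invFun := tr F q p π υ sq x₁ x₀ h.symm
      left_inv := fun v => tr_unique F q p π υ sq x₁ x₀ h.symm _ v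
        (tr_spec F q p π υ sq x₀ x₁ h v).symm
      right_inv := fun v => tr_unique F q p π υ sq x₀ x₁ h _ v
        (tr_spec F q p π υ sq x₁ x₀ h.symm v).symm }
  φ_natural T T' g x₀ x₁ h h' v v' hv' := by
    have hl : (g ≫ (tr F q p π υ sq x₀ x₁ h v).1) ≫ (Over.mk q.left).hom = g ≫ x₁ := by
      rw [Category.assoc, (tr F q p π υ sq x₀ x₁ h v).2]
    have := tr_unique F q p π υ sq (g ≫ x₀) (g ≫ x₁) h' v'
      ⟨g ≫ (tr F q p π υ sq x₀ x₁ h v).1, hl⟩ (by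
        change Rel F υ v'.1 (g ≫ (tr F q p π υ sq x₀ x₁ h v).1)
        rw [hv']
        exact (tr_spec F q p π υ sq x₀ x₁ h v).comp g)
    exact congrArg Subtype.val this
  φ_self T x v := tr_unique F q p π υ sq x x rfl v v (rel_refl _)
  φ_comp T x₀ x₁ x₂ h₀₁ h₁₂ v :=
    (tr_unique F q p π υ sq x₀ x₂ (h₀₁.trans h₁₂) v _
      ((tr_spec F q p π υ sq x₀ x₁ h₀₁ v).trans (tr_spec F q p π υ sq x₁ x₂ h₁₂ _))).symm

@[simp] theorem dd_obj : (dd F q p π υ sq).obj = Over.mk q.left := rfl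

theorem dd_φ_rel {T₀ : Scheme.{u}} (x₀ x₁ : T₀ ⟶ W.left) (h : x₀ ≫ p.left = x₁ ≫ p.left)
    (v : Desc.Lifts (Over.mk q.left) x₀) :
    Rel F υ v.1 ((dd F q p π υ sq).φ x₀ x₁ h v).1 := tr_spec F q p π υ sq x₀ x₁ h v

theorem exists_effective [Flat p.left] [Surjective p.left] [LocallyOfFinitePresentation p.left]
    [IsAffineHom q.left] :
    ∃ Y : Over Zs.left, Nonempty ((Desc.toDD p.left).obj Y ≅ dd F q p π υ sq) := by
  have hmem : Presieve.ofArrows (fun _ : PUnit.{u + 1} => W.left) (fun _ => p.left) ∈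
      Scheme.fpqcPrecoverage Zs.left := by
    rw [Presieve.ofArrows_pUnit]
    exact Scheme.fppfPrecoverage_le_fpqcPrecoverage _
      (Scheme.Hom.singleton_mem_fppfPrecoverage p.left)
  have heff := Groth.Agent.H3.DescSh.isEffective_of_fpqc_of_affine @IsAffineHom
    (Groth.Agent.H3.DescSh.prop_sigmaMap_fin_of_isZariskiLocalAtTarget @IsAffineHom)
    (fun X' S' p' hX' hS' hfl hsurj D' hD' => by
      have : IsAffine X' := hX'
      have : IsAffine S' := hS'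
      have : Flat p' := hfl
      have : Surjective p' := hsurj
      exact Groth.Agent.H3.DescSh.effective_of_isAffineHom p' D' hD')
    (fun _ : PUnit.{u + 1} => p.left) hmem
    ((Desc.SchDDFam.ofSchDD.{u} p.left).obj (dd F q p π υ sq))
    (fun _ => inferInstanceAs (IsAffineHom q.left))
  obtain ⟨Y, ⟨E⟩⟩ := heff
  exact ⟨Y, ⟨(Desc.SchDDFam.toSchDD.{u} p.left).mapIso E⟩⟩

end DD

end Groth.Agent.H9.EB
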