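import Mathlib
import Groth.Agent.Lib.Helper9.Misc.EBI1
import Groth.Agent.Lib.Helper5.Descent.AffineHomDescent

/-!
# Helper9: EBI2 — a sheaf over a scheme which becomes representable and affine after base change
along an fppf cover is representable by a scheme affine over the base
-/

set_option linter.style.haveILetI false
set_option linter.unusedSectionVars false
set_option autoImplicit false

namespace Groth.Agent.H9.EB

universe u w v₁ u₁

open CategoryTheory CategoryTheory.Limits AlgebraicGeometry Opposite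

section DescOne

variable {C : Type u₁} [Category.{v₁} C]

theorem exists_descend_of_cover (J : GrothendieckTopology C) {F : Cᵒᵖ ⥤ Type w}
    (hF : Presieve.IsSheaf J F) {P Z : C} (c : P ⟶ Z) (hc : ∀ R : Sieve Z, R c → R ∈ J Z)
    (φ' : F.obj (op P))
    (h : ∀ ⦃T : C⦄ (k k' : T ⟶ P), k ≫ c = k' ≫ c → F.map k.op φ' = F.map k'.op φ') :
    ∃ ξ : F.obj (op Z), F.map c.op ξ = φ' := by
  let R : Sieve Z :=
    { arrows := fun T g => ∃ k : T ⟶ P, k ≫ c = g
      downward_closed := fun {T T'} g hg m => by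
        obtain ⟨k, hk⟩ := hg
        exact ⟨m ≫ k, by rw [Category.assoc, hk]⟩ }
  have hRc : R c := ⟨𝟙 P, Category.id_comp c⟩
  have hR : R ∈ J Z := hc R hRc
  have hchoose : ∀ ⦃T : C⦄ (g : T ⟶ Z), R g → ∃ k : T ⟶ P, k ≫ c = g := fun T g hg => hg
  choose kk hkk using hchoose
  have hcompat : Presieve.FamilyOfElements.Compatible
      (fun T g hg => F.map (kk g hg).op φ' : Presieve.FamilyOfElements F R.arrows) := by
    rw [Presieve.compatible_iff_sieveCompatible]
    intro T T' g m hg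
    change F.map (kk (m ≫ g) _).op φ' = F.map m.op (F.map (kk g hg).op φ')
    rw [← Functor.map_comp_apply, ← op_comp]
    apply h
    rw [hkk, Category.assoc, hkk]
  obtain ⟨ξ, hξ, -⟩ := hF R hR _ hcompat
  refine ⟨ξ, ?_⟩
  rw [hξ c hRc]
  change F.map (kk c hRc).op φ' = φ'
  have := h (kk c hRc) (𝟙 P) (by rw [hkk, Category.id_comp])
  rw [this]
  simp

end DescOne

section Rep

variable {S : Scheme.{u}} (F : (Over S)ᵒᵖ ⥤ Type u) {Zs V W : Over S} (q : V ⟶ W) (p : W ⟶ Zs)
  (π : F ⟶ yoneda.obj Zs) (υ : yoneda.obj V ⟶ F)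
  (sq : IsPullback υ (yoneda.map q) π (yoneda.map p))

variable {F υ} in
theorem Rel.eq' {T : Over S} {k₀ k₁ : T ⟶ V} (hr : Rel F υ k₀.left k₁.left) :
    υ.app (op T) k₀ = υ.app (op T) k₁ :=
  hr.eq T.hom (Over.w k₀) (Over.w k₁)

variable {F υ} in
theorem rel_of' {T : Over S} (k₀ k₁ : T ⟶ V) (h : υ.app (op T) k₀ = υ.app (op T) k₁) :
    Rel F υ k₀.left k₁.left :=
  rel_of k₀.left k₁.left T.hom (Over.w k₀) (Over.w k₁) h

end Rep

section Main

variable {S : Scheme.{u}} (F : (Over S)ᵒᵖ ⥤ Type u) {Zs V W : Over S} (q : V ⟶ W) (p : W ⟶ Zs)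
  (π : F ⟶ yoneda.obj Zs) (υ : yoneda.obj V ⟶ F)
  (sq : IsPullback υ (yoneda.map q) π (yoneda.map p))
  (Y : Over Zs.left) (E : (Desc.toDD p.left).obj Y ≅ dd F q p π υ sq)

/-- the comparison isomorphism `W ×_{Zs} Y ≅ V` -/
noncomputable def eps : pullback p.left Y.hom ⟶ V.left := E.hom.hom.left

/-- its inverse -/
noncomputable def epsInv : V.left ⟶ pullback p.left Y.hom := E.inv.hom.left

theorem eps_epsInv : eps F q p π υ sq Y E ≫ epsInv F q p π υ sq Y E = 𝟙 _ := by
  have h := congrArg (fun m => m.hom.left) E.hom_inv_id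
  exact h

theorem epsInv_eps : epsInv F q p π υ sq Y E ≫ eps F q p π υ sq Y E = 𝟙 _ := by
  have h := congrArg (fun m => m.hom.left) E.inv_hom_id
  exact h

theorem eps_q : eps F q p π υ sq Y E ≫ q.left = pullback.fst p.left Y.hom :=
  Over.w E.hom.hom

theorem eps_hom : eps F q p π υ sq Y E ≫ V.hom =
    pullback.snd p.left Y.hom ≫ Y.hom ≫ Zs.hom := by
  rw [← Over.w q, ← Category.assoc, eps_q, ← Over.w p, ← Category.assoc, pullback.condition,
    Category.assoc]

/-- (K): two points of `W ×_{Zs} Y` with the same `Y`-component have related images in `V` -/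
theorem rel_eps {T₀ : Scheme.{u}} (c c' : T₀ ⟶ pullback p.left Y.hom)
    (h : c ≫ pullback.snd p.left Y.hom = c' ≫ pullback.snd p.left Y.hom) :
    Rel F υ (c ≫ eps F q p π υ sq Y E) (c' ≫ eps F q p π υ sq Y E) := by
  have hb : (c ≫ pullback.fst p.left Y.hom) ≫ p.left = (c' ≫ pullback.fst p.left Y.hom) ≫ p.left := by
    rw [Category.assoc, Category.assoc, pullback.condition, ← Category.assoc, h, Category.assoc]
  let v : Desc.Lifts ((Desc.toDD p.left).obj Y).obj (c ≫ pullback.fst p.left Y.hom) := ⟨c, rfl⟩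
  let w : Desc.Lifts (dd F q p π υ sq).obj (c ≫ pullback.fst p.left Y.hom) :=
    ⟨c ≫ eps F q p π υ sq Y E, by
      rw [Category.assoc]
      exact congrArg (fun m => c ≫ m) (eps_q F q p π υ sq Y E)⟩
  have hcomm := E.hom.comm (c ≫ pullback.fst p.left Y.hom) (c' ≫ pullback.fst p.left Y.hom) hb v w rfl
  have hcan : (((Desc.toDD p.left).obj Y).φ (c ≫ pullback.fst p.left Y.hom)
      (c' ≫ pullback.fst p.left Y.hom) hb v).1 = c' := by
    apply pullback.hom_ext
    · exact (((Desc.toDD p.left).obj Y).φ (c ≫ pullback.fst p.left Y.hom)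
        (c' ≫ pullback.fst p.left Y.hom) hb v).2
    · change (Desc.canMap p.left Y _ _ hb v).1 ≫ pullback.snd p.left Y.hom = _
      rw [Desc.canMap_val, pullback.lift_snd]
      exact h
  have hr := dd_φ_rel F q p π υ sq (c ≫ pullback.fst p.left Y.hom)
    (c' ≫ pullback.fst p.left Y.hom) hb w
  rw [hcomm, hcan] at hr
  exact hr

end Main

section Chart

variable {S : Scheme.{u}}

/-- fppf-local lifting of a point of `Zs` to a cover `W` of `Zs` -/
theorem exists_fppf_lift {Zs W T : Over S} (p : W ⟶ Zs) [Flat p.left] [Surjective p.left]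
    [LocallyOfFinitePresentation p.left] (z : T ⟶ Zs) :
    ∃ (T' : Over S) (t : T' ⟶ T) (w : T' ⟶ W), Flat t.left ∧ Surjective t.left ∧
      LocallyOfFinitePresentation t.left ∧ t ≫ z = w ≫ p := by
  have hw : pullback.snd z.left p.left ≫ W.hom = pullback.fst z.left p.left ≫ T.hom := by
    rw [← Over.w p, ← Over.w z, ← Category.assoc, ← Category.assoc, pullback.condition]
  refine ⟨Over.mk (pullback.fst z.left p.left ≫ T.hom), Over.homMk (pullback.fst z.left p.left) rfl,
    Over.homMk (pullback.snd z.left p.left) hw, ?_, ?_, ?_, ?_⟩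
  · change Flat (pullback.fst z.left p.left)
    infer_instance
  · change Surjective (pullback.fst z.left p.left)
    infer_instance
  · change LocallyOfFinitePresentation (pullback.fst z.left p.left)
    infer_instance
  · apply Over.OverMorphism.ext
    exact pullback.condition

theorem epi_of_cover {T' T : Over S} (t : T' ⟶ T) [Flat t.left] [Surjective t.left] : Epi t := by
  haveI : Epi t.left := Flat.epi_of_flat_of_surjective t.left
  exact Over.epi_of_epi_left t

end Chart

section Main2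

variable {S : Scheme.{u}} (F : (Over S)ᵒᵖ ⥤ Type u) {Zs V W : Over S} (q : V ⟶ W) (p : W ⟶ Zs)
  (π : F ⟶ yoneda.obj Zs) (υ : yoneda.obj V ⟶ F)
  (sq : IsPullback υ (yoneda.map q) π (yoneda.map p))
  (Y : Over Zs.left) (E : (Desc.toDD p.left).obj Y ≅ dd F q p π υ sq)

variable (Zs) in
/-- the descended scheme as a scheme over `S` -/
abbrev ZNo (Y : Over Zs.left) : Over S := Over.mk (Y.hom ≫ Zs.hom)

/-- its structure map to `Zs` -/
abbrev jNo (Y : Over Zs.left) : ZNo Zs Y ⟶ Zs := Over.homMk Y.hom rfl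

/-- `W ×_{Zs} Y` as a scheme over `S` -/
noncomputable abbrev PPo : Over S := Over.mk (pullback.snd p.left Y.hom ≫ Y.hom ≫ Zs.hom)

/-- the projection to `Y` -/
noncomputable abbrev prO : PPo p Y ⟶ ZNo Zs Y := Over.homMk (pullback.snd p.left Y.hom) rfl

/-- the comparison map to `V` over `S` -/
noncomputable def epsO : PPo p Y ⟶ V :=
  Over.homMk (eps F q p π υ sq Y E) (eps_hom F q p π υ sq Y E)

theorem epsO_left : (epsO F q p π υ sq Y E).left = eps F q p π υ sq Y E := rfl

theorem exists_lift_PP {T' : Over S} (w : T' ⟶ W) (y : T' ⟶ ZNo Zs Y) (h : w ≫ p = y ≫ jNo Y) :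
    ∃ c : T' ⟶ PPo p Y, c ≫ prO p Y = y ∧ c.left ≫ pullback.fst p.left Y.hom = w.left := by
  have hl : w.left ≫ p.left = y.left ≫ Y.hom := congrArg (fun m => m.left) h
  refine ⟨Over.homMk (pullback.lift w.left y.left hl) ?_, ?_, ?_⟩
  · change pullback.lift w.left y.left hl ≫ pullback.snd p.left Y.hom ≫ Y.hom ≫ Zs.hom = T'.hom
    rw [pullback.lift_snd_assoc]
    exact Over.w y
  · apply Over.OverMorphism.ext
    exact pullback.lift_snd _ _ _
  · exact pullback.lift_fst _ _ _

include sq E in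
theorem exists_rep_of_effective [Flat p.left] [Surjective p.left]
    [LocallyOfFinitePresentation p.left] [IsAffineHom q.left]
    (hF : Presieve.IsSheaf (Scheme.fppfTopology.over S) F) :
    ∃ e : F.RepresentableBy (ZNo Zs Y), IsAffineHom Y.hom ∧
      ∀ (T : Over S) (z : T ⟶ ZNo Zs Y), π.app (op T) (e.homEquiv z) = z ≫ jNo Y := by
  have h1 : eps F q p π υ sq Y E ≫ epsInv F q p π υ sq Y E = 𝟙 _ := eps_epsInv F q p π υ sq Y E
  have h2 : epsInv F q p π υ sq Y E ≫ eps F q p π υ sq Y E = 𝟙 _ := epsInv_eps F q p π υ sq Y E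
  have hεq : eps F q p π υ sq Y E ≫ q.left = pullback.fst p.left Y.hom := eps_q F q p π υ sq Y E
  haveI : Flat (prO p Y).left := inferInstanceAs (Flat (pullback.snd p.left Y.hom))
  haveI : Surjective (prO p Y).left := inferInstanceAs (Surjective (pullback.snd p.left Y.hom))
  haveI : LocallyOfFinitePresentation (prO p Y).left :=
    inferInstanceAs (LocallyOfFinitePresentation (pullback.snd p.left Y.hom))
  -- the universal element
  obtain ⟨ξ, hξ⟩ := exists_descend_of_cover (Scheme.fppfTopology.over S) hF (prO p Y)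
    (fun R hR => mem_fppf_of_mem (prO p Y) R hR)
    (υ.app (op (PPo p Y)) (epsO F q p π υ sq Y E))
    (by
      intro T k k' hkk
      rw [← υ_comp, ← υ_comp]
      apply Rel.eq'
      exact rel_eps F q p π υ sq Y E k.left k'.left (congrArg (fun m => m.left) hkk))
  have hπξ : π.app (op (ZNo Zs Y)) ξ = jNo Y := by
    haveI : Epi (prO p Y) := epi_of_cover (prO p Y)
    rw [← cancel_epi (prO p Y)]
    have e1 : prO p Y ≫ π.app (op (ZNo Zs Y)) ξ =
        π.app (op (PPo p Y)) (F.map (prO p Y).op ξ) :=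
      (NatTrans.naturality_apply π (prO p Y).op ξ).symm
    rw [e1, hξ, sq_w F q p π υ sq]
    apply Over.OverMorphism.ext
    change eps F q p π υ sq Y E ≫ q.left ≫ p.left = pullback.snd p.left Y.hom ≫ Y.hom
    rw [← Category.assoc, hεq, pullback.condition]
  have hπz : ∀ (T : Over S) (z : T ⟶ ZNo Zs Y), π.app (op T) (F.map z.op ξ) = z ≫ jNo Y := by
    intro T z
    rw [NatTrans.naturality_apply, hπξ]
    rfl
  have hυc : ∀ (T : Over S) (c : T ⟶ PPo p Y),
      υ.app (op T) (c ≫ epsO F q p π υ sq Y E) = F.map (c ≫ prO p Y).op ξ := by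
    intro T c
    rw [υ_comp, ← hξ, ← Functor.map_comp_apply, ← op_comp]
  -- injectivity
  have hinj : ∀ (T : Over S) (z₁ z₂ : T ⟶ ZNo Zs Y), F.map z₁.op ξ = F.map z₂.op ξ → z₁ = z₂ := by
    intro T z₁ z₂ hz
    have hj : z₁ ≫ jNo Y = z₂ ≫ jNo Y := by rw [← hπz, ← hπz, hz]
    obtain ⟨T', t, w, ht1, ht2, ht3, htw⟩ := exists_fppf_lift p (z₁ ≫ jNo Y)
    obtain ⟨c₁, hc₁a, hc₁b⟩ := exists_lift_PP p Y w (t ≫ z₁) (by rw [Category.assoc, htw])
    obtain ⟨c₂, hc₂a, hc₂b⟩ := exists_lift_PP p Y w (t ≫ z₂) (by rw [Category.assoc, ← hj, htw])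
    have hυ : υ.app (op T') (c₁ ≫ epsO F q p π υ sq Y E) =
        υ.app (op T') (c₂ ≫ epsO F q p π υ sq Y E) := by
      rw [hυc, hυc, hc₁a, hc₂a, op_comp, op_comp, Functor.map_comp_apply, Functor.map_comp_apply, hz]
    have hq : (c₁ ≫ epsO F q p π υ sq Y E) ≫ q = (c₂ ≫ epsO F q p π υ sq Y E) ≫ q := by
      apply Over.OverMorphism.ext
      change (c₁.left ≫ eps F q p π υ sq Y E) ≫ q.left = (c₂.left ≫ eps F q p π υ sq Y E) ≫ q.left
      rw [Category.assoc, Category.assoc, hεq, hc₁b, hc₂b]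
    have hce := sq_ext F q p π υ sq _ _ hυ hq
    have hcl : c₁.left ≫ eps F q p π υ sq Y E = c₂.left ≫ eps F q p π υ sq Y E :=
      congrArg (fun m => m.left) hce
    have hcl' : c₁.left = c₂.left := by
      have := congrArg (fun m => m ≫ epsInv F q p π υ sq Y E) hcl
      simpa [Category.assoc, h1] using this
    have hcc : c₁ = c₂ := Over.OverMorphism.ext hcl'
    haveI : Epi t := epi_of_cover t
    rw [← cancel_epi t, ← hc₁a, ← hc₂a, hcc]
  -- surjectivity
  have hsurj : ∀ (T : Over S) (φ : F.obj (op T)), ∃ z : T ⟶ ZNo Zs Y, F.map z.op ξ = φ := by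
    intro T φ
    obtain ⟨T', t, w, ht1, ht2, ht3, htw⟩ := exists_fppf_lift p (π.app (op T) φ)
    have hπt : π.app (op T') (F.map t.op φ) = w ≫ p := by
      rw [NatTrans.naturality_apply, ← htw]
      rfl
    obtain ⟨v, hv1, hv2⟩ := sq_exists F q p π υ sq (F.map t.op φ) w hπt
    have hvq : v.left ≫ q.left = w.left := congrArg (fun m => m.left) hv2
    have hc0 : (v.left ≫ epsInv F q p π υ sq Y E) ≫ pullback.snd p.left Y.hom ≫ Y.hom ≫ Zs.hom =
        T'.hom := by
      rw [← pullback.condition_assoc, ← hεq]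
      simp only [Category.assoc]
      rw [reassoc_of% h2, Over.w p, Over.w q, Over.w v]
    obtain ⟨c, hc⟩ : ∃ c : T' ⟶ PPo p Y, c.left = v.left ≫ epsInv F q p π υ sq Y E :=
      ⟨Over.homMk (v.left ≫ epsInv F q p π υ sq Y E) hc0, rfl⟩
    have hcε : c ≫ epsO F q p π υ sq Y E = v := by
      apply Over.OverMorphism.ext
      change c.left ≫ eps F q p π υ sq Y E = v.left
      rw [hc, Category.assoc, h2, Category.comp_id]
    have hloc : F.map (c ≫ prO p Y).op ξ = F.map t.op φ := by
      rw [← hυc, hcε, hv1]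
    -- glue
    let R : Sieve T :=
      { arrows := fun T₁ g => ∃ z : T₁ ⟶ ZNo Zs Y, F.map z.op ξ = F.map g.op φ
        downward_closed := fun {T₁ T₂} g hg m => by
          obtain ⟨z, hz⟩ := hg
          refine ⟨m ≫ z, ?_⟩
          rw [op_comp, Functor.map_comp_apply, hz, op_comp, Functor.map_comp_apply] }
    have hRt : R t := ⟨c ≫ prO p Y, hloc⟩
    have hR : R ∈ (Scheme.fppfTopology.over S) T := mem_fppf_of_mem t R hRt
    have hZs : Presieve.IsSheaf (Scheme.fppfTopology.over S) (yoneda.obj (ZNo Zs Y)) :=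
      GrothendieckTopology.Subcanonical.isSheaf_of_isRepresentable _
    obtain ⟨z, hz⟩ := mem_range_of_local (Scheme.fppfTopology.over S)
      (yonedaEquiv.symm ξ : yoneda.obj (ZNo Zs Y) ⟶ F)
      (fun T₁ z₁ z₂ h12 => hinj (unop T₁) z₁ z₂ h12) hZs hF.isSeparated φ R hR
      (fun T₁ g hg => hg)
    exact ⟨z, hz⟩
  -- conclusion
  refine ⟨{ homEquiv := fun {T} => Equiv.ofBijective (fun z => F.map z.op ξ)
              ⟨fun z₁ z₂ h12 => hinj T z₁ z₂ h12, fun φ => hsurj T φ⟩
            homEquiv_comp := fun {T T'} f g => by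
              change F.map (f ≫ g).op ξ = F.map f.op (F.map g.op ξ)
              rw [op_comp, Functor.map_comp_apply] }, ?_, ?_⟩
  · haveI : IsIso (eps F q p π υ sq Y E) := ⟨⟨epsInv F q p π υ sq Y E, h1, h2⟩⟩
    have hfst : IsAffineHom (pullback.fst p.left Y.hom) := by
      rw [← hεq]
      infer_instance
    exact MorphismProperty.of_isPullback_of_descendsAlong (P := @IsAffineHom)
      (Q := @Surjective ⊓ @Flat ⊓ @LocallyOfFinitePresentation)
      (IsPullback.of_hasPullback p.left Y.hom) ⟨⟨inferInstance, inferInstance⟩, inferInstance⟩ hfst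
  · intro T z
    exact hπz T z

end Main2

end Groth.Agent.H9.EB
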