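import Mathlib
import Groth.Prelude.Def_DescFam
import Groth.Agent.Lib.Helper3.DescSh.ClosedImm

/-! Helper9: gluing closed subschemes along an open cover from a local functorial criterion. -/

set_option linter.style.haveILetI false
set_option linter.unusedSectionVars false
set_option autoImplicit false

namespace Groth.Agent.H9.MagGlue

universe u

open CategoryTheory CategoryTheory.Limits AlgebraicGeometry Opposite

instance lifts_subsingleton {Y : Scheme.{u}} (V : Over Y) [Mono V.hom] {T : Scheme.{u}} (x : T ⟶ Y) :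
    Subsingleton (Desc.Lifts V x) :=
  ⟨fun a b => Subtype.ext (by rw [← cancel_mono V.hom, a.2, b.2])⟩

/-- gluing factorizations through a monomorphism -/
theorem factor_of_cover {T Z Y : Scheme.{u}} (z : Z ⟶ Y) [Mono z] (x : T ⟶ Y) (𝒰 : T.OpenCover)
    (h : ∀ c, ∃ w : 𝒰.X c ⟶ Z, w ≫ z = 𝒰.f c ≫ x) : ∃ w : T ⟶ Z, w ≫ z = x := by
  choose w hw using h
  refine ⟨𝒰.glueMorphisms w ?_, ?_⟩
  · intro c c'
    rw [← cancel_mono z, Category.assoc, Category.assoc, hw, hw, ← Category.assoc, ← Category.assoc,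
      pullback.condition]
  · apply 𝒰.hom_ext
    intro c
    rw [← Category.assoc, 𝒰.ι_glueMorphisms, hw]

section

variable {X₀ : Scheme.{u}} (P : ∀ {T : Scheme.{u}}, (T ⟶ X₀) → Prop)
  (𝒱 : Scheme.OpenCover.{u} X₀) (Z : 𝒱.I₀ → Scheme.{u}) (z : ∀ i, Z i ⟶ 𝒱.X i)
  [∀ i, IsClosedImmersion (z i)]
  (hloc : ∀ i {T : Scheme.{u}} (u : T ⟶ 𝒱.X i), P (u ≫ 𝒱.f i) ↔ ∃ w : T ⟶ Z i, w ≫ z i = u)

include hloc in
theorem lifts_iff (i : 𝒱.I₀) {T : Scheme.{u}} (u : T ⟶ 𝒱.X i) :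
    Nonempty (Desc.Lifts (Over.mk (z i)) u) ↔ P (u ≫ 𝒱.f i) := by
  rw [hloc i u]
  constructor
  · rintro ⟨v, hv⟩
    exact ⟨v, hv⟩
  · rintro ⟨w, hw⟩
    exact ⟨⟨w, hw⟩⟩

include hloc in
theorem lifts_transfer {T : Scheme.{u}} {i j : 𝒱.I₀} (x₀ : T ⟶ 𝒱.X i) (x₁ : T ⟶ 𝒱.X j)
    (h : x₀ ≫ 𝒱.f i = x₁ ≫ 𝒱.f j) (v : Nonempty (Desc.Lifts (Over.mk (z i)) x₀)) :
    Nonempty (Desc.Lifts (Over.mk (z j)) x₁) := by
  rw [lifts_iff P 𝒱 Z z hloc] at v ⊢
  rw [← h]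
  exact v

/-- the descent datum -/
noncomputable def dd : Desc.SchDDFam 𝒱.f where
  obj i := Over.mk (z i)
  φ T i j x₀ x₁ h :=
    haveI : Mono (Over.mk (z i)).hom := inferInstanceAs (Mono (z i))
    haveI : Mono (Over.mk (z j)).hom := inferInstanceAs (Mono (z j))
    { toFun := fun v => (lifts_transfer P 𝒱 Z z hloc x₀ x₁ h ⟨v⟩).some
      invFun := fun v => (lifts_transfer P 𝒱 Z z hloc x₁ x₀ h.symm ⟨v⟩).some
      left_inv := fun v => Subsingleton.elim _ _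
      right_inv := fun v => Subsingleton.elim _ _ }
  φ_natural T T' g i j x₀ x₁ h y₀ y₁ hy₀ hy₁ h' v v' hv' := by
    rw [← cancel_mono (z j)]
    have e1 := ((lifts_transfer P 𝒱 Z z hloc y₀ y₁ h' ⟨v'⟩).some).2
    have e2 := ((lifts_transfer P 𝒱 Z z hloc x₀ x₁ h ⟨v⟩).some).2
    change _ ≫ z j = _ at e1
    change _ ≫ z j = _ at e2
    change ((lifts_transfer P 𝒱 Z z hloc y₀ y₁ h' ⟨v'⟩).some).1 ≫ z j =
      (g ≫ ((lifts_transfer P 𝒱 Z z hloc x₀ x₁ h ⟨v⟩).some).1) ≫ z j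
    rw [e1, Category.assoc, e2, hy₁]
  φ_self T i x v :=
    haveI : Mono (Over.mk (z i)).hom := inferInstanceAs (Mono (z i))
    Subsingleton.elim _ _
  φ_comp T i j k x₀ x₁ x₂ h₀₁ h₁₂ v :=
    haveI : Mono (Over.mk (z k)).hom := inferInstanceAs (Mono (z k))
    Subsingleton.elim _ _

include hloc in
theorem glue_closed
    (hP2 : ∀ {T : Scheme.{u}} (x : T ⟶ X₀) (𝒰 : Scheme.OpenCover.{u} T), (∀ c, P (𝒰.f c ≫ x)) → P x)
    (hP1 : ∀ {T T' : Scheme.{u}} (t : T' ⟶ T) (x : T ⟶ X₀), P x → P (t ≫ x)) :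
    ∃ (W : Scheme.{u}) (j : W ⟶ X₀), IsClosedImmersion j ∧
      ∀ {T : Scheme.{u}} (x : T ⟶ X₀), P x ↔ ∃ d : T ⟶ W, d ≫ j = x := by
  have hcov : Presieve.ofArrows 𝒱.X 𝒱.f ∈ Scheme.fpqcPrecoverage X₀ :=
    Scheme.zariskiPrecoverage_le_fpqcPrecoverage _ 𝒱.mem₀
  have hEff := Groth.Agent.H3.DescSh.isEffective_of_isClosedImmersion 𝒱.f hcov
    (dd P 𝒱 Z z hloc) (fun i => inferInstanceAs (IsClosedImmersion (z i)))
  obtain ⟨W, ⟨E⟩⟩ := hEff
  -- comparison isos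
  have hiso : ∀ i, ∃ (a : pullback (𝒱.f i) W.hom ⟶ Z i) (b : Z i ⟶ pullback (𝒱.f i) W.hom),
      a ≫ z i = pullback.fst (𝒱.f i) W.hom ∧ b ≫ pullback.fst (𝒱.f i) W.hom = z i ∧
      a ≫ b = 𝟙 _ ∧ b ≫ a = 𝟙 _ := by
    intro i
    refine ⟨(E.hom.hom i).left, (E.inv.hom i).left, Over.w (E.hom.hom i), Over.w (E.inv.hom i), ?_, ?_⟩
    · exact congrArg (fun (t : (Desc.toDDFam 𝒱.f).obj W ⟶ _) => (t.hom i).left) E.hom_inv_id
    · exact congrArg (fun (t : dd P 𝒱 Z z hloc ⟶ _) => (t.hom i).left) E.inv_hom_id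
  choose a b ha hb hab hba using hiso
  have hWcl : IsClosedImmersion W.hom := by
    apply IsZariskiLocalAtTarget.of_openCover (P := @IsClosedImmersion) 𝒱
    intro i
    haveI : IsIso (a i) := ⟨b i, hab i, hba i⟩
    have h1 : IsClosedImmersion (pullback.fst (𝒱.f i) W.hom) := by
      rw [← ha i]; infer_instance
    have e : 𝒱.pullbackHom W.hom i =
        (pullbackSymmetry W.hom (𝒱.f i)).hom ≫ pullback.fst (𝒱.f i) W.hom :=
      (pullbackSymmetry_hom_comp_fst W.hom (𝒱.f i)).symm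
    rw [e]
    exact (MorphismProperty.cancel_left_of_respectsIso (P := @IsClosedImmersion) _ _).mpr h1
  haveI : Mono W.hom := inferInstance
  refine ⟨W.left, W.hom, hWcl, fun {T} x => ⟨fun hx => ?_, ?_⟩⟩
  · have key : ∀ c : 𝒱.I₀, ∃ w : pullback x (𝒱.f c) ⟶ W.left,
        w ≫ W.hom = pullback.fst x (𝒱.f c) ≫ x := by
      intro c
      have h1 : P ((pullback.snd x (𝒱.f c)) ≫ 𝒱.f c) := by
        rw [← pullback.condition]
        exact hP1 _ x hx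
      obtain ⟨w, hw⟩ := (hloc c (pullback.snd x (𝒱.f c))).mp h1
      refine ⟨w ≫ b c ≫ pullback.snd (𝒱.f c) W.hom, ?_⟩
      rw [Category.assoc, Category.assoc, ← pullback.condition, ← Category.assoc (b c), hb,
        ← Category.assoc, hw, pullback.condition]
    exact factor_of_cover W.hom x (𝒱.pullback₁ x) (fun c => key c)
  · rintro ⟨d, rfl⟩
    have key : ∀ c : 𝒱.I₀, P (pullback.fst (d ≫ W.hom) (𝒱.f c) ≫ d ≫ W.hom) := by
      intro c
      rw [pullback.condition, hloc c]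
      refine ⟨pullback.lift (pullback.snd (d ≫ W.hom) (𝒱.f c))
        (pullback.fst (d ≫ W.hom) (𝒱.f c) ≫ d)
        (by rw [Category.assoc, pullback.condition]) ≫ a c, ?_⟩
      rw [Category.assoc, ha, pullback.lift_fst]
    exact hP2 (d ≫ W.hom) (𝒱.pullback₁ (d ≫ W.hom)) (fun c => key c)

end

end Groth.Agent.H9.MagGlue
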