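import Mathlib
import Groth.Prelude.Def_Magnet2
import Groth.Agent.Lib.Helper9.Misc.MagLoc
import Groth.Agent.Lib.Helper9.Misc.MagShf
import Groth.Agent.Lib.Helper9.Misc.MagGlue
import Groth.Agent.Lib.Helper9.Misc.MagRepB

/-! Helper9: the attractor `X^N` of an `A(M)_S`-action on `X` affine over `S` is a closed subscheme of `X`. -/

set_option linter.style.haveILetI false
set_option linter.unusedSectionVars false
set_option autoImplicit false

namespace Groth.Agent.H9.MagAttr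

universe u

open CategoryTheory CategoryTheory.Limits AlgebraicGeometry MonoidalCategory
  CartesianMonoidalCategory MonObj Opposite
open Magnet
open Groth.Agent.H9.MagLoc

variable {S : Scheme.{u}} {M : Type} [AddCommMonoid M] (N : AddSubmonoid M) {X : Over S}
  (a : MonAct (AMonS S M) X)

/-- extendability only depends on the underlying morphism of schemes -/
theorem ext_iff_left {T : Over S} (y : T ⟶ X) :
    Ext N a y ↔ Ext N a (Over.homMk y.left rfl : Over.mk (y.left ≫ X.hom) ⟶ X) := by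
  let ε : Over.mk (y.left ≫ X.hom) ≅ T := Over.isoMk (Iso.refl _) (by simp)
  have h1 : (Over.homMk y.left rfl : Over.mk (y.left ≫ X.hom) ⟶ X) = ε.hom ≫ y := by
    apply Over.OverMorphism.ext
    simp [ε]
  rw [h1]
  constructor
  · intro h
    exact Ext.comp N a ε.hom h
  · intro h
    have := Ext.comp N a ε.inv h
    rwa [Iso.inv_hom_id_assoc] at this

/-- the scheme-level predicate -/
def P {T : Scheme.{u}} (x : T ⟶ X.left) : Prop :=
  Ext N a (Over.homMk x rfl : Over.mk (x ≫ X.hom) ⟶ X)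

theorem P_iff {T : Over S} (y : T ⟶ X) : Ext N a y ↔ P N a y.left := ext_iff_left N a y

theorem P_comp {T T' : Scheme.{u}} (t : T' ⟶ T) (x : T ⟶ X.left) (h : P N a x) :
    P N a (t ≫ x) := by
  obtain ⟨t', ht'⟩ : ∃ t' : Over.mk ((t ≫ x) ≫ X.hom) ⟶ Over.mk (x ≫ X.hom), t'.left = t :=
    ⟨Over.homMk t (by simp), rfl⟩
  have h1 := Ext.comp N a t' h
  rw [P_iff] at h1
  have e : (t' ≫ (Over.homMk x rfl : Over.mk (x ≫ X.hom) ⟶ X)).left = t ≫ x := by
    rw [Over.comp_left, ht']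
    rfl
  rw [e] at h1
  exact h1

theorem P_local [IsSeparated X.hom] {T : Scheme.{u}} (x : T ⟶ X.left)
    (𝒰 : Scheme.OpenCover.{u} T) (h : ∀ c, P N a (𝒰.f c ≫ x)) : P N a x := by
  apply MagShf.ext_local N a (Over.homMk x rfl : Over.mk (x ≫ X.hom) ⟶ X) 𝒰
  intro c
  rw [P_iff]
  exact h c

theorem main [IsAffineHom X.hom] :
    ∃ (Z : Over S) (i : Z ⟶ X) (e : (Magnet.attr a N).RepresentableBy Z),
      IsClosedImmersion i.left ∧
      ∀ (T : Over S) (z : T ⟶ Z), (Magnet.attrToX a N).app (op T) (e.homEquiv z) = z ≫ i := by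
  haveI : IsSeparated X.hom := inferInstance
  -- the cover
  have hcov : TopologicalSpace.IsOpenCover (fun U : S.affineOpens => X.hom ⁻¹ᵁ U.1) := by
    have h0 : TopologicalSpace.IsOpenCover (fun U : S.affineOpens => (U : S.Opens)) :=
      iSup_affineOpens_eq_top S
    exact h0.comap X.hom.base.hom
  let 𝒱 : Scheme.OpenCover.{u} X.left :=
    X.left.openCoverOfIsOpenCover (fun U : S.affineOpens => X.hom ⁻¹ᵁ U.1) hcov
  have hlocal : ∀ U : S.affineOpens, ∃ (Z : Scheme.{u}) (z : Z ⟶ 𝒱.X U), IsClosedImmersion z ∧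
      ∀ {T : Scheme.{u}} (u : T ⟶ 𝒱.X U), P N a (u ≫ 𝒱.f U) ↔ ∃ w : T ⟶ Z, w ≫ z = u := by
    intro U
    haveI : IsAffine (XU X U.1).left := U.2.preimage X.hom
    obtain ⟨Z, z, hcl, hz⟩ := local_main N a U.1 U.2
    refine ⟨Z, z, hcl, fun {T} u => ?_⟩
    have h1 := hz (Over.mk (u ≫ (XU X U.1).hom)) (Over.homMk u rfl)
    have h2 : P N a (u ≫ 𝒱.f U) ↔ Ext N a ((Over.homMk u rfl :
        Over.mk (u ≫ (XU X U.1).hom) ⟶ XU X U.1) ≫ x₀ X U.1) := by
      rw [P_iff]; rfl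
    exact h2.trans h1
  choose Zl zl hzcl hzl using hlocal
  haveI : ∀ U, IsClosedImmersion (zl U) := hzcl
  obtain ⟨W₀, j₀, hj₀, hW⟩ := MagGlue.glue_closed (fun {T} x => P N a x) 𝒱 Zl zl
    (fun U {T} u => hzl U u) (fun x 𝒰 h => P_local N a x 𝒰 h) (fun t x h => P_comp N a t x h)
  -- the representing object
  obtain ⟨j, hj⟩ : ∃ j : Over.mk (j₀ ≫ X.hom) ⟶ X, j.left = j₀ := ⟨Over.homMk j₀ rfl, rfl⟩
  haveI : IsClosedImmersion j.left := by rw [hj]; exact hj₀
  haveI : Mono j := MEX.mono_of_closedImmersion j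
  have hPj : Ext N a j := by
    rw [P_iff, hj]
    exact (hW j₀).mpr ⟨𝟙 _, Category.id_comp _⟩
  obtain ⟨Φ, hΦ⟩ := hPj
  have hsurj : ∀ (T : Over S) (φ : AMonS S N ⊗ T ⟶ X),
      MonAct.IsEquivariant (((MonAct.regular (AMonS S N)).restrict (AMonS.map S N.subtype)).prod
        (MonAct.trivial (AMonS S M) T)) a φ →
        ∃ z : T ⟶ Over.mk (j₀ ≫ X.hom), z ≫ j = MagRepB.ev φ := by
    intro T φ hφ
    have h1 : Ext N a (MagRepB.ev φ) := ⟨φ, MagRepB.restrict_eq (AMonS.map S N.subtype) a φ hφ⟩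
    obtain ⟨d, hd⟩ := (hW (MagRepB.ev φ).left).mp ((P_iff N a _).mp h1)
    refine ⟨Over.homMk d ?_, ?_⟩
    · change d ≫ j₀ ≫ X.hom = T.hom
      rw [← Category.assoc, hd, Over.w]
    · apply Over.OverMorphism.ext
      rw [Over.comp_left, hj]
      exact hd
  obtain ⟨e, he⟩ := MagRepB.representable (AMonS.map S N.subtype) a (MagShf.hD N) j Φ hΦ hsurj
  exact ⟨Over.mk (j₀ ≫ X.hom), j, e, inferInstance, he⟩

end Groth.Agent.H9.MagAttr
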