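import Mathlib
import Groth.Prelude.Def_Magnet4
import Groth.Agent.Lib.Helper9.Misc.EBJ2
import Groth.Agent.Lib.Helper9.Misc.EBH2
import Groth.Agent.Lib.Helper9.Misc.MagAttr
import Groth.Agent.H4.FprA

/-!
# Helper9: EBJ3 — representability of attractors along an `S`-affine `N*`-FPR atlas, with affine face
projection (S18304)
-/

set_option linter.style.haveILetI false
set_option linter.unusedSectionVars false
set_option autoImplicit false

namespace Groth.Agent.H9.EBJ

universe u v₁ u₁

open CategoryTheory CategoryTheory.Limits AlgebraicGeometry MonoidalCategory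
  CartesianMonoidalCategory MonObj Opposite
open Magnet

section AT

variable {S : Scheme.{u}} (F : (Over S)ᵒᵖ ⥤ Type u) {Zs V W : Over S} (q : V ⟶ W) (p : W ⟶ Zs)
  (π : F ⟶ yoneda.obj Zs) (υ : yoneda.obj V ⟶ F)
  (sq : IsPullback υ (yoneda.map q) π (yoneda.map p))

include sq in
/-- A sheaf `F` over a scheme `Zs` whose base change along an fppf cover `W ⟶ Zs` is representable by a
scheme affine over `W` is representable by a scheme affine over `Zs`. -/
theorem exists_rep_affine_of_cover [Flat p.left] [Surjective p.left]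
    [LocallyOfFinitePresentation p.left] [IsAffineHom q.left]
    (hF : Presieve.IsSheaf (Scheme.fppfTopology.over S) F) :
    ∃ (ZN : Over S) (j : ZN ⟶ Zs) (e : F.RepresentableBy ZN), IsAffineHom j.left ∧
      ∀ (T : Over S) (z : T ⟶ ZN), π.app (op T) (e.homEquiv z) = z ≫ j := by
  obtain ⟨Y, ⟨E⟩⟩ := exists_effective F q p π υ sq
  obtain ⟨e, h1, h2⟩ := exists_rep_of_effective F q p π υ sq Y E hF
  exact ⟨ZNo Zs Y, jNo Y, e, h1, h2⟩

end AT

section RepKit

variable {C : Type u₁} [Category.{v₁} C]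

/-- a natural transformation between representable functors is induced by a morphism -/
theorem exists_hom_of_rep {F₁ F₂ : Cᵒᵖ ⥤ Type v₁} {Y₁ Y₂ : C} (e₁ : F₁.RepresentableBy Y₁)
    (e₂ : F₂.RepresentableBy Y₂) (α : F₁ ⟶ F₂) :
    ∃ m : Y₁ ⟶ Y₂, ∀ (T : C) (z : T ⟶ Y₁),
      e₂.homEquiv (z ≫ m) = α.app (op T) (e₁.homEquiv z) := by
  refine ⟨e₂.homEquiv.symm (α.app (op Y₁) (e₁.homEquiv (𝟙 Y₁))), fun T z => ?_⟩
  rw [e₂.homEquiv_comp, Equiv.apply_symm_apply, ← NatTrans.naturality_apply, ← e₁.homEquiv_comp,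
    Category.comp_id]

theorem toIso_hom_app {F : Cᵒᵖ ⥤ Type v₁} {Y : C} (e : F.RepresentableBy Y) (T : C) (z : T ⟶ Y) :
    e.toIso.hom.app (op T) z = e.homEquiv z := rfl

theorem toIso_inv_app {F : Cᵒᵖ ⥤ Type v₁} {Y : C} (e : F.RepresentableBy Y) (T : C)
    (φ : F.obj (op T)) : e.toIso.inv.app (op T) φ = e.homEquiv.symm φ := rfl

end RepKit

section PB

variable {S : Scheme.{u}}

/-- a commutative square in `Over S` which is cartesian on points gives a cartesian square of
schemes -/
theorem isPullback_left_of_forall {A B C D : Over S} (fst : A ⟶ B) (snd : A ⟶ C) (f : B ⟶ D)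
    (g : C ⟶ D) [Mono snd.left] (comm : fst ≫ f = snd ≫ g)
    (hex : ∀ (T : Over S) (b : T ⟶ B) (c : T ⟶ C), b ≫ f = c ≫ g →
      ∃ a : T ⟶ A, a ≫ fst = b ∧ a ≫ snd = c) :
    IsPullback fst.left snd.left f.left g.left := by
  have comm' : fst.left ≫ f.left = snd.left ≫ g.left := congrArg (fun m => m.left) comm
  have key : ∀ s : PullbackCone f.left g.left, ∃ l : s.pt ⟶ A.left,
      l ≫ fst.left = s.fst ∧ l ≫ snd.left = s.snd := by
    intro s
    have hc : s.snd ≫ C.hom = s.fst ≫ B.hom := by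
      rw [← Over.w g, ← Over.w f, ← Category.assoc, ← Category.assoc, s.condition]
    obtain ⟨a, ha1, ha2⟩ := hex (Over.mk (s.fst ≫ B.hom)) (Over.homMk s.fst rfl)
      (Over.homMk s.snd hc) (by
        apply Over.OverMorphism.ext
        exact s.condition)
    exact ⟨a.left, congrArg (fun m => m.left) ha1, congrArg (fun m => m.left) ha2⟩
  choose l hl1 hl2 using key
  refine IsPullback.of_isLimit (PullbackCone.IsLimit.mk comm' l hl1 hl2 ?_)
  intro s m hm1 hm2
  rw [← cancel_mono snd.left, hm2, hl2]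

end PB

section Main

variable {S : Scheme.{u}} {M : Type} [AddCommGroup M] [AddGroup.FG M] {X U : Over S}
  (aX : MonAct (AMonS S M) X) (aU : MonAct (AMonS S M) U) [IsAffineHom U.hom] (f : U ⟶ X)
  [Etale f.left] [Surjective f.left] (hf : MonAct.IsEquivariant aU aX f)

include hf in
theorem S18304_aux (N Q : AddSubmonoid M) (hQ : IsFace N Q) (Z : AddSubgroup M)
    (hQZ : Q = Z.toAddSubmonoid)
    (hfZ : MonAct.IsEquivariant (aU.restrict (AMonS.map S (QuotientAddGroup.mk' Z)))
      (aX.restrict (AMonS.map S (QuotientAddGroup.mk' Z))) f)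
    (hfpr : IsPullback (MonAct.fixedPsh.map f hfZ)
      (MonAct.fixedPshι (aU.restrict (AMonS.map S (QuotientAddGroup.mk' Z))))
      (MonAct.fixedPshι (aX.restrict (AMonS.map S (QuotientAddGroup.mk' Z)))) (yoneda.map f))
    (h : N.FG ∨ (IsSeparated X.hom ∧ LocallyOfFinitePresentation X.hom)) :
    ∃ (ZN Zs : Over S) (eN : (attr aX N).RepresentableBy ZN)
      (es : (attr aX Q).RepresentableBy Zs) (j : ZN ⟶ Zs),
      IsAffineHom j.left ∧ ∀ (T : Over S) (z : T ⟶ ZN),
        es.homEquiv (z ≫ j) = (attrFace aX hQ).app (op T) (eN.homEquiv z) := by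
  subst hQZ
  -- representing objects for `U`
  obtain ⟨V, iV, eV, hiVc, hiV⟩ := MagAttr.main N aU
  obtain ⟨W, iW, eW, hiWc, hiW⟩ := MagAttr.main Z.toAddSubmonoid aU
  -- fixed points
  obtain ⟨isoU, hisoU⟩ := EB.attr_iso_fixed Z aU
  obtain ⟨isoX, hisoX⟩ := EB.attr_iso_fixed Z aX
  have hU : ∃ (W' : Over S) (i' : W' ⟶ U)
      (e' : (MonAct.fixedPsh (aU.restrict (AMonS.map S (QuotientAddGroup.mk' Z)))).RepresentableBy W'),
      IsClosedImmersion i'.left ∧ ∀ (T : Over S) (w : T ⟶ W'),
        (MonAct.fixedPshι (aU.restrict (AMonS.map S (QuotientAddGroup.mk' Z)))).app (op T)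
          (e'.homEquiv w) = w ≫ i' := by
    refine ⟨W, iW, eW.ofIso isoU, hiWc, fun T w => ?_⟩
    have h0 : (MonAct.fixedPshι (aU.restrict (AMonS.map S (QuotientAddGroup.mk' Z)))).app (op T)
        (isoU.hom.app (op T) (eW.homEquiv w)) =
        (attrToX aU Z.toAddSubmonoid).app (op T) (eW.homEquiv w) :=
      congrArg (fun n => n.app (op T) (eW.homEquiv w)) hisoU
    exact h0.trans (hiW T w)
  obtain ⟨Zs, iZ, eFix, hiZc, hiZ⟩ := Groth.Agent.H4.FprA.main
    (aU.restrict (AMonS.map S (QuotientAddGroup.mk' Z)))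
    (aX.restrict (AMonS.map S (QuotientAddGroup.mk' Z))) f hfZ hfpr hU
  obtain ⟨es, hes⟩ : ∃ es : (attr aX Z.toAddSubmonoid).RepresentableBy Zs,
      ∀ (T : Over S) (z : T ⟶ Zs),
        (attrToX aX Z.toAddSubmonoid).app (op T) (es.homEquiv z) = z ≫ iZ := by
    refine ⟨eFix.ofIso isoX.symm, fun T z => ?_⟩
    have h1 : (attrToX aX Z.toAddSubmonoid).app (op T)
        (isoX.inv.app (op T) (eFix.homEquiv z)) =
        (MonAct.fixedPshι (aX.restrict (AMonS.map S (QuotientAddGroup.mk' Z)))).app (op T)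
          (isoX.hom.app (op T) (isoX.inv.app (op T) (eFix.homEquiv z))) :=
      (congrArg (fun n => n.app (op T) (isoX.inv.app (op T) (eFix.homEquiv z))) hisoX).symm
    rw [Iso.inv_hom_id_app_apply] at h1
    exact h1.trans (hiZ T z)
  -- the maps `q` and `p`
  obtain ⟨q, hq⟩ := exists_hom_of_rep eV eW (attrFace aU hQ)
  obtain ⟨p, hp⟩ := exists_hom_of_rep eW es
    (MonAct.eqvHom.postcomp (subAct S M Z.toAddSubmonoid) f hf)
  have hsq := EB.S18302_main S M X U aX aU f hf N Z.toAddSubmonoid hQ h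
  have hpi : p ≫ iZ = iW ≫ f := by
    rw [← hes W p]
    have e1 := hp W (𝟙 W)
    rw [Category.id_comp] at e1
    rw [e1]
    have e2 := hiW W (𝟙 W)
    rw [Category.id_comp] at e2
    rw [← e2]
    change lift _ _ ≫ (eW.homEquiv (𝟙 W)).1 ≫ f = (lift _ _ ≫ (eW.homEquiv (𝟙 W)).1) ≫ f
    rw [Category.assoc]
  haveI : IsClosedImmersion iW.left := hiWc
  haveI : Mono iW.left := inferInstance
  have hpb : IsPullback p.left iW.left iZ.left f.left := by
    apply isPullback_left_of_forall p iW iZ f hpi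
    intro T z u hzu
    obtain ⟨ψ₀, hψ₀1, hψ₀2⟩ := EB.exists_fixed_lift Z aX aU f hf hfZ hfpr T (es.homEquiv z) u
      (by rw [hes]; exact hzu.symm)
    refine ⟨eW.homEquiv.symm ψ₀, ?_, ?_⟩
    · apply es.homEquiv.injective
      rw [hp, Equiv.apply_symm_apply]
      exact Subtype.ext hψ₀1
    · rw [← hiW, Equiv.apply_symm_apply]
      exact hψ₀2
  haveI : Etale p.left := MorphismProperty.of_isPullback (P := @Etale) hpb.flip inferInstance
  haveI : Surjective p.left := MorphismProperty.of_isPullback (P := @Surjective) hpb.flip inferInstance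
  haveI : Flat p.left := inferInstance
  haveI : LocallyOfFinitePresentation p.left := inferInstance
  haveI : IsAffineHom q.left := by
    haveI : IsClosedImmersion iV.left := hiVc
    haveI : IsAffineHom V.hom := by
      rw [← Over.w iV]
      infer_instance
    haveI : IsAffineHom W.hom := by
      rw [← Over.w iW]
      infer_instance
    haveI : IsAffineHom (q.left ≫ W.hom) := by
      rw [Over.w q]
      infer_instance
    exact IsAffineHom.of_comp (f := q.left) (g := W.hom)
  -- the maps of functors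
  obtain ⟨π, hπ⟩ : ∃ π : attr aX N ⟶ yoneda.obj Zs,
      ∀ (T : Over S) (φ : (attr aX N).obj (op T)),
        π.app (op T) φ = es.homEquiv.symm ((attrFace aX hQ).app (op T) φ) :=
    ⟨attrFace aX hQ ≫ es.toIso.inv, fun T φ => rfl⟩
  obtain ⟨υ, hυ⟩ : ∃ υ : yoneda.obj V ⟶ attr aX N,
      ∀ (T : Over S) (v : T ⟶ V), υ.app (op T) v =
        (MonAct.eqvHom.postcomp (subAct S M N) f hf).app (op T) (eV.homEquiv v) :=
    ⟨eV.toIso.hom ≫ MonAct.eqvHom.postcomp (subAct S M N) f hf, fun T v => rfl⟩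
  have hcommT : ∀ (T : Over S) (ψ : (attr aU N).obj (op T)),
      (attrFace aX hQ).app (op T)
        ((MonAct.eqvHom.postcomp (subAct S M N) f hf).app (op T) ψ) =
      (MonAct.eqvHom.postcomp (subAct S M Z.toAddSubmonoid) f hf).app (op T)
        ((attrFace aU hQ).app (op T) ψ) := by
    intro T ψ
    exact congrArg (fun n => n.app (op T) ψ) hsq.w
  have sq : IsPullback υ (yoneda.map q) π (yoneda.map p) := by
    apply IsPullback.of_forall_isPullback_app
    intro T
    rw [Types.isPullback_iff]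
    refine ⟨?_, ?_, ?_⟩
    · ext v
      change π.app (op (unop T)) (υ.app (op (unop T)) v) = (v ≫ q) ≫ p
      rw [hυ, hπ, hcommT, ← hq, ← hp, Equiv.symm_apply_apply]
    · rintro v v' ⟨h1, h2⟩
      have h1' : υ.app (op (unop T)) v = υ.app (op (unop T)) v' := h1
      have h2' : v ≫ q = v' ≫ q := h2
      rw [hυ, hυ] at h1'
      apply eV.homEquiv.injective
      apply Types.ext_of_isPullback (hsq.app (op (unop T))) h1'
      rw [← hq, ← hq, h2']
    · intro φ w hφw
      have hφw' : π.app (op (unop T)) φ = w ≫ p := hφw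
      rw [hπ] at hφw'
      have h3 : (attrFace aX hQ).app (op (unop T)) φ =
          (MonAct.eqvHom.postcomp (subAct S M Z.toAddSubmonoid) f hf).app (op (unop T))
            (eW.homEquiv w) := by
        rw [← hp, ← hφw', Equiv.apply_symm_apply]
      obtain ⟨ψ, hψ1, hψ2⟩ := Types.exists_of_isPullback (hsq.app (op (unop T))) φ
        (eW.homEquiv w) h3
      refine ⟨eV.homEquiv.symm ψ, ?_, ?_⟩
      · change υ.app (op (unop T)) (eV.homEquiv.symm ψ) = φ
        rw [hυ, Equiv.apply_symm_apply]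
        exact hψ1
      · change eV.homEquiv.symm ψ ≫ q = w
        apply eW.homEquiv.injective
        rw [hq, Equiv.apply_symm_apply]
        exact hψ2
  have hXs : Presieve.IsSheaf (Scheme.fppfTopology.over S) (yoneda.obj X) :=
    GrothendieckTopology.Subcanonical.isSheaf_of_isRepresentable (yoneda.obj X)
  have hF : Presieve.IsSheaf (Scheme.fppfTopology.over S) (attr aX N) :=
    FXS.eqvHom_isSheaf (Scheme.fppfTopology.over S) (subAct S M N) aX hXs
  obtain ⟨ZN, j, eN, hj, hcomp⟩ := exists_rep_affine_of_cover (attr aX N) q p π υ sq hF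
  refine ⟨ZN, Zs, eN, es, j, hj, fun T z => ?_⟩
  rw [← hcomp, hπ, Equiv.apply_symm_apply]

end Main

end Groth.Agent.H9.EBJ
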