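import Mathlib
import Groth.Agent.Lib.Helper9.Misc.GOP1

set_option autoImplicit false
set_option linter.style.haveILetI false
set_option linter.unusedSectionVars false
set_option linter.unusedVariables false

universe u

open CategoryTheory AlgebraicGeometry TopologicalSpace Topology

namespace Groth.Agent.H9.EKP

open Groth.Agent.H1.DimFormula

/-- (as in helper1's `GenFin`) every element of the residue field at a point of an affine open is a
fraction of sections. -/
lemma exists_frac_evaluation {S : Scheme.{u}} {W : S.Opens} (hW : IsAffineOpen W) (s : S)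
    (hs : s ∈ W) (c : S.residueField s) :
    ∃ a b : Γ(S, W), S.evaluation W s hs b ≠ 0 ∧
      c * S.evaluation W s hs b = S.evaluation W s hs a := by
  obtain ⟨t, rfl⟩ := S.residue_surjective s c
  letI := S.presheaf.algebra_section_stalk ⟨s, hs⟩
  haveI := hW.isLocalization_stalk ⟨s, hs⟩
  obtain ⟨⟨a, b⟩, hab⟩ := IsLocalization.surj (hW.primeIdealOf ⟨s, hs⟩).asIdeal.primeCompl t
  have hu : IsUnit (algebraMap Γ(S, W) (S.presheaf.stalk s) b) :=
    IsLocalization.map_units (S.presheaf.stalk s) b
  have halg : ∀ x : Γ(S, W), algebraMap Γ(S, W) (S.presheaf.stalk s) x =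
      S.presheaf.germ W s hs x := fun x => rfl
  refine ⟨a, b, ?_, ?_⟩
  · have : IsUnit (S.residue s (S.presheaf.germ W s hs b)) := by
      rw [← halg]; exact hu.map (S.residue s).hom
    exact this.ne_zero
  · show S.residue s t * S.residue s (S.presheaf.germ W s hs b) =
      S.residue s (S.presheaf.germ W s hs a)
    rw [← map_mul, ← halg, ← halg]
    exact congrArg _ hab

/-- residue fields of a scheme étale over a field are algebraic over it. -/
theorem isAlgebraic_residueField (k : Type u) [Field k] {Z : Scheme.{u}}
    (f : Z ⟶ Spec (CommRingCat.of k)) [Etale f] (z : Z) :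
    @Algebra.IsAlgebraic k (Z.residueField z) _ _ (toResidueField f z).hom.toAlgebra := by
  obtain ⟨U, hU, hz, -⟩ := exists_isAffineOpen_mem_and_subset (x := z) (U := ⊤) trivial
  let ψ : CommRingCat.of k ⟶ Γ(Z, U) := Spec.preimage (hU.fromSpec ≫ f)
  have hψ : Spec.map ψ = hU.fromSpec ≫ f := Spec.map_preimage _
  let ev := Z.evaluation U z hz
  have hρ : toResidueField f z = ψ ≫ ev := by
    apply Spec.map_injective
    rw [SpecMap_toResidueField, Spec.map_comp, hψ, ← Category.assoc,
      SpecMap_evaluation_fromSpec hU z hz]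
  letI algA : Algebra k Γ(Z, U) := ψ.hom.toAlgebra
  letI algK : Algebra k (Z.residueField z) := (toResidueField f z).hom.toAlgebra
  have het : Algebra.Etale k Γ(Z, U) := by
    have h1 : Etale (Spec.map ψ) := by
      rw [hψ]; infer_instance
    have h2 : ψ.hom.Etale := (HasRingHomProperty.Spec_iff (P := @Etale)).mp h1
    exact h2
  haveI : Module.Free k Γ(Z, U) := Module.Free.of_divisionRing k _
  haveI : Module.Finite k Γ(Z, U) := Algebra.FormallyUnramified.finite_of_free k _
  haveI : Algebra.IsIntegral k Γ(Z, U) := Algebra.IsIntegral.of_finite k _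
  let evA : Γ(Z, U) →ₐ[k] Z.residueField z :=
    { ev.hom with
      commutes' := fun c => by
        change ev.hom (ψ.hom c) = (toResidueField f z).hom c
        rw [hρ]; rfl }
  have hev : ∀ a : Γ(Z, U), evA a ∈ algebraicClosure k (Z.residueField z) := fun a => by
    rw [mem_algebraicClosure_iff']
    exact (Algebra.IsIntegral.isIntegral (R := k) a).map evA
  constructor
  intro c
  obtain ⟨a, b, hb, hab⟩ := exists_frac_evaluation hU z hz c
  have hc : c = evA a * (evA b)⁻¹ := by
    have hb' : evA b ≠ 0 := hb
    field_simp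
    exact hab
  have : c ∈ algebraicClosure k (Z.residueField z) := by
    rw [hc]
    exact mul_mem (hev a) (inv_mem (hev b))
  exact mem_algebraicClosure_iff.mp this

theorem mem_range_of_isAlgebraic (k K Ω : Type u) [Field k] [Field K] [Field Ω] [Algebra k K]
    [IsAlgClosed K] [Algebra K Ω] [Algebra k Ω] [IsScalarTower k K Ω] (x : Ω)
    (hx : IsAlgebraic k x) : x ∈ (algebraMap K Ω).range := by
  have hx' : IsIntegral K x := (hx.tower_top K).isIntegral
  apply minpoly.mem_range_of_degree_eq_one K x
  exact IsAlgClosed.degree_eq_one_of_irreducible K (minpoly.irreducible hx')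

theorem main
    (k K Ω : Type u) [Field k] [Field K] [Field Ω] [Algebra k K] [IsAlgClosed K]
    [Algebra K Ω] [Algebra k Ω] [IsScalarTower k K Ω]
    (Z : Scheme.{u}) (f : Z ⟶ Spec (CommRingCat.of k)) [AlgebraicGeometry.Etale f] :
    (∀ g₁ g₂ : Spec (CommRingCat.of K) ⟶ Z,
        Spec.map (CommRingCat.ofHom (algebraMap K Ω)) ≫ g₁ =
          Spec.map (CommRingCat.ofHom (algebraMap K Ω)) ≫ g₂ →
        g₁ = g₂) ∧
    (∀ h : Spec (CommRingCat.of Ω) ⟶ Z, h ≫ f = Spec.map (CommRingCat.ofHom (algebraMap k Ω)) →
        ∃ g : Spec (CommRingCat.of K) ⟶ Z, g ≫ f = Spec.map (CommRingCat.ofHom (algebraMap k K)) ∧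
          Spec.map (CommRingCat.ofHom (algebraMap K Ω)) ≫ g = h) := by
  constructor
  · intro g₁ g₂ h12
    haveI : Flat (Spec.map (CommRingCat.ofHom (algebraMap K Ω))) := by
      rw [HasRingHomProperty.Spec_iff (P := @Flat)]
      change (algebraMap K Ω).Flat
      rw [RingHom.flat_algebraMap_iff]
      infer_instance
    haveI : Surjective (Spec.map (CommRingCat.ofHom (algebraMap K Ω))) := by
      constructor
      intro y
      exact ⟨IsLocalRing.closedPoint Ω, Subsingleton.elim _ _⟩
    haveI : Epi (Spec.map (CommRingCat.ofHom (algebraMap K Ω))) :=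
      Flat.epi_of_flat_of_surjective _
    exact (cancel_epi _).mp h12
  · intro h hh
    obtain ⟨ψ, hψ1, hψ2⟩ := Groth.Agent.H9.GOP.exists_factor k Ω f h hh
    have halg := isAlgebraic_residueField k f (h (IsLocalRing.closedPoint Ω))
    have hrange : ∀ a, ψ.hom a ∈ (algebraMap K Ω).range := by
      intro a
      apply mem_range_of_isAlgebraic k K Ω
      letI : Algebra k (Z.residueField (h (IsLocalRing.closedPoint Ω))) :=
        (toResidueField f _).hom.toAlgebra
      let ψa : Z.residueField (h (IsLocalRing.closedPoint Ω)) →ₐ[k] Ω :=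
        { ψ.hom with
          commutes' := fun c => by
            change ψ.hom ((toResidueField f _).hom c) = algebraMap k Ω c
            rw [← CommRingCat.comp_apply, hψ2]; rfl }
      exact (halg.isAlgebraic a).algHom ψa
    have hinj : Function.Injective (algebraMap K Ω) := (algebraMap K Ω).injective
    let e : K ≃+* (algebraMap K Ω).range := RingEquiv.ofBijective (algebraMap K Ω).rangeRestrict
      ⟨by
        intro a b hab
        apply hinj
        exact congrArg Subtype.val hab, (algebraMap K Ω).rangeRestrict_surjective⟩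
    let φ : Z.residueField (h (IsLocalRing.closedPoint Ω)) →+* K :=
      e.symm.toRingHom.comp (ψ.hom.codRestrict (algebraMap K Ω).range hrange)
    have hφ : ∀ a, algebraMap K Ω (φ a) = ψ.hom a := by
      intro a
      have h1 : e (φ a) = ψ.hom.codRestrict (algebraMap K Ω).range hrange a :=
        e.apply_symm_apply _
      exact congrArg Subtype.val h1
    have hφψ : CommRingCat.ofHom φ ≫ CommRingCat.ofHom (algebraMap K Ω) = ψ := by
      ext a
      exact hφ a
    refine ⟨Spec.map (CommRingCat.ofHom φ) ≫ Z.fromSpecResidueField _, ?_, ?_⟩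
    · rw [Category.assoc, ← SpecMap_toResidueField, ← Spec.map_comp]
      congr 1
      ext c
      apply hinj
      change algebraMap K Ω (φ ((toResidueField f _).hom c)) = algebraMap K Ω (algebraMap k K c)
      rw [hφ, ← IsScalarTower.algebraMap_apply]
      have := congrArg (fun g => g.hom c) hψ2
      exact this
    · rw [← Category.assoc, ← Spec.map_comp, hφψ, hψ1]

end Groth.Agent.H9.EKP
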