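import Groth.Agent.Lib.Helper9.Misc.PIN3
import Groth.Agent.Lib.Helper9.Misc.PIN4

set_option linter.style.haveILetI false
set_option linter.unusedSectionVars false
set_option linter.unusedVariables false

namespace Groth.Agent.H9.PIN

open AlgebraicGeometry CategoryTheory Limits TopologicalSpace Opposite

universe u

variable {X Y Z P : Scheme.{u}}

section AffCover

variable {i : Z ⟶ X} {j : Z ⟶ Y} {a : X ⟶ P} {b : Y ⟶ P}

/-- the sheaf part of a pinching can be checked on an affine open cover with affine preimages. -/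
theorem pinchAt_of_affine_cover (sq : i ≫ a = j ≫ b) (𝒲 : Set P.Opens)
    (hcov : ∀ p : P, ∃ W ∈ 𝒲, p ∈ W)
    (h𝒲 : ∀ W ∈ 𝒲, IsAffineOpen W ∧ IsAffineOpen (a ⁻¹ᵁ W) ∧ IsAffineOpen (b ⁻¹ᵁ W) ∧
      IsAffineOpen (i ⁻¹ᵁ a ⁻¹ᵁ W) ∧ PinchAt i j a b W) (W : P.Opens) : PinchAt i j a b W := by
  refine pinchAt_of_basis sq
    (𝔅 := {D | ∃ (W : P.Opens) (_ : W ∈ 𝒲) (r : Γ(P, W)), D = P.basicOpen r}) ?_ ?_ W
  · rw [Opens.isBasis_iff_nbhd]
    intro O p hp
    obtain ⟨W, hW, hpW⟩ := hcov p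
    obtain ⟨r, hr1, hr2⟩ := (h𝒲 W hW).1.exists_basicOpen_le ⟨p, hp⟩ hpW
    exact ⟨P.basicOpen r, ⟨W, hW, r, rfl⟩, hr2, hr1⟩
  · rintro D ⟨W, hW, r, rfl⟩
    obtain ⟨h1, h2, h3, h4, h5⟩ := h𝒲 W hW
    exact pinchAt_basicOpen sq h1 h2 h3 h4 h5 r

end AffCover

section SpecCase

variable {R A' B A : CommRingCat.{u}} {α : R ⟶ A'} {β : R ⟶ B} {p : A' ⟶ A} {q : B ⟶ A}

theorem pinchAt_top_Spec (h : RingPinch α.hom β.hom p.hom q.hom) :
    PinchAt (Spec.map p) (Spec.map q) (Spec.map α) (Spec.map β) ⊤ := by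
  have sq : Spec.map p ≫ Spec.map α = Spec.map q ≫ Spec.map β := by
    rw [← Spec.map_comp, ← Spec.map_comp]
    congr 1
    ext r
    exact h.comm r
  have e : Spec.map p ⁻¹ᵁ Spec.map α ⁻¹ᵁ ⊤ ≤ Spec.map q ⁻¹ᵁ Spec.map β ⁻¹ᵁ ⊤ := le_rfl
  rw [pinchAt_iff_sqCart _ e]
  have hR : SqCart α.hom β.hom p.hom q.hom := ⟨h.inj, fun x y hxy => h.glue x y hxy⟩
  refine (sqCart_iff (fun s => (Scheme.ΓSpecIso R).hom s) (fun s => (Scheme.ΓSpecIso A').hom s)
    (fun s => (Scheme.ΓSpecIso B).hom s) (fun s => (Scheme.ΓSpecIso A).hom s)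
    (ConcreteCategory.bijective_of_isIso _) (ConcreteCategory.bijective_of_isIso _)
    (ConcreteCategory.bijective_of_isIso _) (ConcreteCategory.bijective_of_isIso _).1
    (map_zero _) (map_zero _) (map_zero _) ?_ ?_ ?_ ?_).mpr hR
  · intro s
    exact congr($(Scheme.ΓSpecIso_naturality α) s)
  · intro s
    exact congr($(Scheme.ΓSpecIso_naturality β) s)
  · intro s
    exact congr($(Scheme.ΓSpecIso_naturality p) s)
  · intro s
    exact congr($(Scheme.ΓSpecIso_naturality q) s)

/-- **Affine pinching**: the spectrum of a fibre product ring `B ×_A A'` (with `A' → A`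
surjective) is a pinching. -/
theorem isPinch_Spec (h : RingPinch α.hom β.hom p.hom q.hom) :
    IsPinch (Spec.map p) (Spec.map q) (Spec.map α) (Spec.map β) := by
  have sq : Spec.map p ≫ Spec.map α = Spec.map q ≫ Spec.map β := by
    rw [← Spec.map_comp, ← Spec.map_comp]
    congr 1
    ext r
    exact h.comm r
  refine ⟨sq, ?_, ?_, ?_⟩
  · intro 𝔓
    rcases h.mem_range_comap 𝔓 with ⟨x, hx⟩ | ⟨y, hy⟩
    · exact Or.inl ⟨x, hx⟩
    · exact Or.inr ⟨y, hy⟩
  · intro U V hUV
    let U' : Opens (PrimeSpectrum A') := U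
    let V' : Opens (PrimeSpectrum B) := V
    have hUV' : PrimeSpectrum.comap p.hom ⁻¹' (U' : Set (PrimeSpectrum A')) =
        PrimeSpectrum.comap q.hom ⁻¹' (V' : Set (PrimeSpectrum B)) :=
      congrArg (fun O : (Spec A).Opens => (O : Set (Spec A))) hUV
    obtain ⟨W, hW1, hW2⟩ := h.exists_open U' V' hUV'
    exact ⟨W, Opens.ext hW1, Opens.ext hW2⟩
  · refine pinchAt_of_affine_cover sq {⊤} (fun p => ⟨⊤, rfl, trivial⟩) ?_
    rintro W rfl
    refine ⟨isAffineOpen_top _, isAffineOpen_top _, isAffineOpen_top _, isAffineOpen_top _,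
      pinchAt_top_Spec h⟩

end SpecCase

section S0433

/-- a pullback square of commutative rings is a `RingPinch` (when the relevant leg is
surjective). -/
theorem ringPinch_of_isLimit {A A' B : CommRingCat.{u}} (q : B ⟶ A) (p : A' ⟶ A)
    (hp : Function.Surjective p) (c : PullbackCone q p) (hc : IsLimit c) :
    RingPinch c.snd.hom c.fst.hom p.hom q.hom := by
  let c₀ := CommRingCat.pullbackCone q p
  let e : c.pt ≅ c₀.pt := hc.conePointUniqueUpToIso (CommRingCat.pullbackConeIsLimit q p)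
  have he1 : ∀ r : c.pt, ((e.hom r : c₀.pt).1 : B × A').1 = c.fst r := by
    intro r
    have := hc.conePointUniqueUpToIso_hom_comp (CommRingCat.pullbackConeIsLimit q p)
      WalkingCospan.left
    exact congr($this r)
  have he2 : ∀ r : c.pt, ((e.hom r : c₀.pt).1 : B × A').2 = c.snd r := by
    intro r
    have := hc.conePointUniqueUpToIso_hom_comp (CommRingCat.pullbackConeIsLimit q p)
      WalkingCospan.right
    exact congr($this r)
  refine ⟨fun r => ?_, fun r h1 h2 => ?_, fun a' b hab => ?_, hp⟩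
  · exact (congr($(c.condition) r)).symm
  · have : e.hom r = 0 := by
      apply Subtype.ext
      apply Prod.ext
      · rw [he1]; exact h2
      · rw [he2]; exact h1
    have h3 : e.inv (e.hom r) = r := by
      rw [← ConcreteCategory.comp_apply, e.hom_inv_id]; rfl
    rw [← h3, this, map_zero]
  · let x : c₀.pt := ⟨(b, a'), hab.symm⟩
    refine ⟨e.inv x, ?_, ?_⟩
    · change c.snd (e.inv x) = a'
      rw [← he2]
      have : e.hom (e.inv x) = x := by
        rw [← ConcreteCategory.comp_apply, e.inv_hom_id]; rfl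
      rw [this]
    · change c.fst (e.inv x) = b
      rw [← he1]
      have : e.hom (e.inv x) = x := by
        rw [← ConcreteCategory.comp_apply, e.inv_hom_id]; rfl
      rw [this]

theorem S0433_main {A A' B : Type u} [CommRing A] [CommRing A'] [CommRing B] (p : A' →+* A)
    (hp : Function.Surjective p) (q : B →+* A) :
    IsPushout (Spec.map (CommRingCat.ofHom p)) (Spec.map (CommRingCat.ofHom q))
      (Spec.map (pullback.snd (CommRingCat.ofHom q) (CommRingCat.ofHom p)))
      (Spec.map (pullback.fst (CommRingCat.ofHom q) (CommRingCat.ofHom p))) := by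
  have h := ringPinch_of_isLimit (CommRingCat.ofHom q) (CommRingCat.ofHom p) hp
    (pullback.cone _ _) (pullback.isLimit _ _)
  exact (isPinch_Spec h).isPushout

end S0433

end Groth.Agent.H9.PIN
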