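import Mathlib
import Groth.Prelude.Def_Magnet4
import Groth.Agent.Lib.Helper9.Misc.MagKun
import Groth.Agent.Lib.Helper9.Misc.MagChr
import Groth.Agent.Lib.Helper9.Misc.MGU1
import Groth.Agent.Lib.Helper9.Misc.MGU2
import Groth.Agent.Lib.Helper9.Misc.PIN5

/-!
# Helper9: EL1 — the "degree zero projection" of a family of infinitesimal deformations

For an affine square-zero pair `Z ⊂ Z'` over `S` and the diagonalizable group `G = D(M)_S`, a morphism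
`ψ : G × Z' ⟶ X` which is constant along `G` over `Z` has a "degree zero part" `Z' ⟶ X`.  It is built from
the Ferrand pushout `Z ⊔_{G × Z} (G × Z')` (library `PIN`).
-/

set_option linter.style.haveILetI false
set_option linter.unusedSectionVars false
set_option autoImplicit false

namespace Groth.Agent.H9.EL

universe u

open CategoryTheory CategoryTheory.Limits AlgebraicGeometry MonoidalCategory
  CartesianMonoidalCategory MonObj Opposite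
open Magnet
open Groth.Agent.H9.MagKun Groth.Agent.H9.MagChr Groth.Agent.H9.PIN

section Alg

/-- coefficient at `1` is multiplicative on elements whose other coefficients multiply to zero -/
theorem coeff_one_mul_of {R' : Type*} [CommRing R'] {G : Type*} [Group G]
    (P : R' → Prop) (hP : ∀ a b, P a → P b → a * b = 0)
    (x y : MonoidAlgebra R' G) (hx : ∀ g, g ≠ 1 → P (x.coeff g)) (hy : ∀ g, g ≠ 1 → P (y.coeff g)) :
    (x * y).coeff 1 = x.coeff 1 * y.coeff 1 := by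
  rw [MonoidAlgebra.coeff_mul_apply_left, Finsupp.sum]
  by_cases h1 : (1 : G) ∈ x.coeff.support
  · rw [Finset.sum_eq_single_of_mem (1 : G) h1]
    · simp
    · intro g _ hg
      have : g⁻¹ * 1 ≠ 1 := by simpa using hg
      exact hP _ _ (hx g hg) (hy _ this)
  · have h0 : x.coeff 1 = 0 := by simpa using h1
    rw [h0, zero_mul]
    apply Finset.sum_eq_zero
    intro g hg
    have hg1 : g ≠ 1 := by
      rintro rfl
      exact h1 hg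
    have : g⁻¹ * 1 ≠ 1 := by simpa using hg1
    exact hP _ _ (hx g hg1) (hy _ this)

end Alg

/-- an affine square-zero pair over `S` -/
structure Pair (S : Scheme.{u}) where
  Z : Over S
  Z' : Over S
  i : Z ⟶ Z'
  affZ : IsAffine Z.left
  affZ' : IsAffine Z'.left
  surj : Function.Surjective i.left.appTop.hom
  sq : ∀ a b : Γ(Z'.left, ⊤), i.left.appTop.hom a = 0 → i.left.appTop.hom b = 0 → a * b = 0

attribute [instance] Pair.affZ Pair.affZ'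

variable {S : Scheme.{u}} (M : Type) [AddCommGroup M] (𝔭 : Pair S)

instance : IsAffine (AMonS S M ⊗ 𝔭.Z).left := MGU.affine_tensor _ _
instance : IsAffine (AMonS S M ⊗ 𝔭.Z').left := MGU.affine_tensor _ _

namespace Pair

/-- functions on `G × Z'` -/
noncomputable abbrev A' : CommRingCat.{u} := Γ((AMonS S M ⊗ 𝔭.Z').left, ⊤)
/-- functions on `G × Z` -/
noncomputable abbrev A : CommRingCat.{u} := Γ((AMonS S M ⊗ 𝔭.Z).left, ⊤)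
/-- functions on `Z` -/
noncomputable abbrev B : CommRingCat.{u} := Γ(𝔭.Z.left, ⊤)
/-- functions on `Z'` -/
noncomputable abbrev R' : CommRingCat.{u} := Γ(𝔭.Z'.left, ⊤)

/-- restriction `Γ(G × Z') → Γ(G × Z)` -/
noncomputable def p : 𝔭.A' M ⟶ 𝔭.A M := (AMonS S M ◁ 𝔭.i).left.appTop
/-- pull-back `Γ(Z) → Γ(G × Z)` -/
noncomputable def q : 𝔭.B ⟶ 𝔭.A M := (snd (AMonS S M) 𝔭.Z).left.appTop
/-- restriction `Γ(Z') → Γ(Z)` -/
noncomputable def r : 𝔭.R' ⟶ 𝔭.B := 𝔭.i.left.appTop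
/-- pull-back `Γ(Z') → Γ(G × Z')` -/
noncomputable def q' : 𝔭.R' ⟶ 𝔭.A' M := (snd (AMonS S M) 𝔭.Z').left.appTop

theorem q'_p : 𝔭.q' M ≫ 𝔭.p M = 𝔭.r ≫ 𝔭.q M := by
  have h1 : (AMonS S M ◁ 𝔭.i).left ≫ (snd (AMonS S M) 𝔭.Z').left =
      (snd (AMonS S M) 𝔭.Z).left ≫ 𝔭.i.left := by
    rw [← Over.comp_left, ← Over.comp_left, whiskerLeft_snd]
  have h2 := congrArg (fun f => f.appTop) h1
  simp only [Scheme.Hom.comp_appTop] at h2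
  exact h2

/-- the Künneth isomorphism for `Z'` -/
noncomputable def κe : MonoidAlgebra Γ(𝔭.Z'.left, ⊤) (Multiplicative M) ≃+* Γ((AMonS S M ⊗ 𝔭.Z').left, ⊤) :=
  RingEquiv.ofBijective (kappa S M 𝔭.Z') (kappa_bijective S M 𝔭.Z')

theorem κe_apply (y : MonoidAlgebra Γ(𝔭.Z'.left, ⊤) (Multiplicative M)) :
    𝔭.κe M y = kappa S M 𝔭.Z' y := rfl

theorem kappa_κe_symm (a : Γ((AMonS S M ⊗ 𝔭.Z').left, ⊤)) :
    kappa S M 𝔭.Z' ((𝔭.κe M).symm a) = a := (𝔭.κe M).apply_symm_apply a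

theorem κe_symm_kappa (y : MonoidAlgebra Γ(𝔭.Z'.left, ⊤) (Multiplicative M)) :
    (𝔭.κe M).symm (kappa S M 𝔭.Z' y) = y := (𝔭.κe M).symm_apply_apply y

theorem p_surjective : Function.Surjective (𝔭.p M).hom := by
  intro a
  obtain ⟨y, rfl⟩ := (kappa_bijective S M 𝔭.Z).2 a
  have hs : Function.Surjective (MonoidAlgebra.mapRingHom (Multiplicative M) 𝔭.i.left.appTop.hom) := by
    intro y
    induction y using MonoidAlgebra.induction_linear with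
    | zero => exact ⟨0, map_zero _⟩
    | add y₁ y₂ h₁ h₂ =>
      obtain ⟨x₁, rfl⟩ := h₁
      obtain ⟨x₂, rfl⟩ := h₂
      exact ⟨x₁ + x₂, map_add _ _ _⟩
    | single m b =>
      obtain ⟨a, rfl⟩ := 𝔭.surj b
      exact ⟨MonoidAlgebra.single m a, MonoidAlgebra.mapRingHom_single _ _ _⟩
  obtain ⟨y', rfl⟩ := hs y
  exact ⟨kappa S M 𝔭.Z' y', kappa_natT S M 𝔭.i y'⟩

/-- the pull-back cone of rings -/
noncomputable def cone : PullbackCone (𝔭.q M) (𝔭.p M) := CommRingCat.pullbackCone (𝔭.q M) (𝔭.p M)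

/-- it is a limit -/
noncomputable def coneIsLimit : IsLimit (𝔭.cone M) := CommRingCat.pullbackConeIsLimit (𝔭.q M) (𝔭.p M)

/-- functions on the pushout `Z ⊔_{G × Z} (G × Z')` -/
noncomputable abbrev R : CommRingCat.{u} := (𝔭.cone M).pt
/-- restriction to `G × Z'` -/
noncomputable abbrev α : 𝔭.R M ⟶ 𝔭.A' M := (𝔭.cone M).snd
/-- restriction to `Z` -/
noncomputable abbrev β : 𝔭.R M ⟶ 𝔭.B := (𝔭.cone M).fst

theorem β_q : 𝔭.β M ≫ 𝔭.q M = 𝔭.α M ≫ 𝔭.p M := (𝔭.cone M).condition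

theorem ringPinch : RingPinch (𝔭.α M).hom (𝔭.β M).hom (𝔭.p M).hom (𝔭.q M).hom :=
  ringPinch_of_isLimit (𝔭.q M) (𝔭.p M) (𝔭.p_surjective M) (𝔭.cone M) (𝔭.coneIsLimit M)

theorem isPushout : IsPushout (Spec.map (𝔭.p M)) (Spec.map (𝔭.q M)) (Spec.map (𝔭.α M))
    (Spec.map (𝔭.β M)) :=
  (isPinch_Spec (𝔭.ringPinch M)).isPushout

/-- the key computation: modulo the ideal of `Z`, an element of `R` is constant -/
theorem map_κe_symm_α (c : 𝔭.R M) :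
    MonoidAlgebra.mapRingHom (Multiplicative M) 𝔭.i.left.appTop.hom ((𝔭.κe M).symm ((𝔭.α M).hom c)) =
      MonoidAlgebra.single 1 ((𝔭.β M).hom c) := by
  apply (kappa_bijective S M 𝔭.Z).1
  rw [← kappa_natT, kappa_κe_symm, kappa_single_one]
  have h := congrArg (fun f => f.hom c) (𝔭.β_q M)
  exact h.symm

theorem r_coeff_one (c : 𝔭.R M) :
    𝔭.i.left.appTop.hom (((𝔭.κe M).symm ((𝔭.α M).hom c)).coeff 1) = (𝔭.β M).hom c := by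
  have h := congrArg (fun y => y.coeff 1) (𝔭.map_κe_symm_α M c)
  simpa [MonoidAlgebra.coeff_mapRingHom] using h

theorem r_coeff_ne (c : 𝔭.R M) (g : Multiplicative M) (hg : g ≠ 1) :
    𝔭.i.left.appTop.hom (((𝔭.κe M).symm ((𝔭.α M).hom c)).coeff g) = 0 := by
  have h := congrArg (fun y => y.coeff g) (𝔭.map_κe_symm_α M c)
  simp only [MonoidAlgebra.coeff_mapRingHom, MonoidAlgebra.coeff_single] at h
  rw [h]
  classical
  rw [Finsupp.single_apply, if_neg (Ne.symm hg)]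

/-- the degree-zero projection `R → Γ(Z')` -/
noncomputable def ε₀ : 𝔭.R M →+* Γ(𝔭.Z'.left, ⊤) where
  toFun c := ((𝔭.κe M).symm ((𝔭.α M).hom c)).coeff 1
  map_one' := by
    rw [(𝔭.α M).hom.map_one, (𝔭.κe M).symm.map_one]
    exact MonoidAlgebra.coeff_one_one
  map_mul' c c' := by
    rw [(𝔭.α M).hom.map_mul, (𝔭.κe M).symm.map_mul]
    exact coeff_one_mul_of (fun a => 𝔭.i.left.appTop.hom a = 0) 𝔭.sq _ _
      (fun g hg => 𝔭.r_coeff_ne M c g hg) (fun g hg => 𝔭.r_coeff_ne M c' g hg)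
  map_zero' := by
    rw [(𝔭.α M).hom.map_zero, (𝔭.κe M).symm.map_zero]
    rfl
  map_add' c c' := by
    rw [(𝔭.α M).hom.map_add, (𝔭.κe M).symm.map_add]
    rfl

theorem ε₀_apply (c : 𝔭.R M) : 𝔭.ε₀ M c = ((𝔭.κe M).symm ((𝔭.α M).hom c)).coeff 1 := rfl

/-- `ε₀` as a morphism of `CommRingCat` -/
noncomputable def ε : 𝔭.R M ⟶ 𝔭.R' := CommRingCat.ofHom (𝔭.ε₀ M)

theorem ε_apply (c : 𝔭.R M) : (𝔭.ε M).hom c = ((𝔭.κe M).symm ((𝔭.α M).hom c)).coeff 1 := rfl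

theorem ε_r : 𝔭.ε M ≫ 𝔭.r = 𝔭.β M := by
  ext c
  exact 𝔭.r_coeff_one M c

/-- constants -/
noncomputable def ρ : 𝔭.R' ⟶ 𝔭.R M :=
  PullbackCone.IsLimit.lift (𝔭.coneIsLimit M) 𝔭.r (𝔭.q' M) (𝔭.q'_p M).symm

theorem ρ_β : 𝔭.ρ M ≫ 𝔭.β M = 𝔭.r := PullbackCone.IsLimit.lift_fst _ _ _ _

theorem ρ_α : 𝔭.ρ M ≫ 𝔭.α M = 𝔭.q' M := PullbackCone.IsLimit.lift_snd _ _ _ _

theorem ρ_ε : 𝔭.ρ M ≫ 𝔭.ε M = 𝟙 _ := by
  ext c
  change (𝔭.ε M).hom ((𝔭.ρ M).hom c) = c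
  rw [ε_apply]
  have h1 : (𝔭.α M).hom ((𝔭.ρ M).hom c) = (𝔭.q' M).hom c := congrArg (fun f => f.hom c) (𝔭.ρ_α M)
  rw [h1]
  have h2 : (𝔭.q' M).hom c = kappa S M 𝔭.Z' (MonoidAlgebra.single 1 c) :=
    (kappa_single_one S M 𝔭.Z' c).symm
  rw [h2, κe_symm_kappa]
  simp

/-- the section `Z' ⟶ Spec R` -/
noncomputable def s₀ : 𝔭.Z'.left ⟶ Spec (𝔭.R M) :=
  𝔭.Z'.left.isoSpec.hom ≫ Spec.map (𝔭.ε M)

end Pair

/-- `l` is the degree-zero part of `ψ` (which restricts to `z ∘ pr₂` over `Z`) -/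
def IsEps {X : Scheme.{u}} (ψ : (AMonS S M ⊗ 𝔭.Z').left ⟶ X) (z : 𝔭.Z.left ⟶ X)
    (l : 𝔭.Z'.left ⟶ X) : Prop :=
  ∃ ψ'' : Spec (𝔭.R M) ⟶ X,
    Spec.map (𝔭.α M) ≫ ψ'' = (AMonS S M ⊗ 𝔭.Z').left.isoSpec.inv ≫ ψ ∧
    Spec.map (𝔭.β M) ≫ ψ'' = 𝔭.Z.left.isoSpec.inv ≫ z ∧ l = 𝔭.s₀ M ≫ ψ''

variable {M 𝔭}

theorem IsEps.exists {X : Scheme.{u}} (ψ : (AMonS S M ⊗ 𝔭.Z').left ⟶ X) (z : 𝔭.Z.left ⟶ X)
    (h : (AMonS S M ◁ 𝔭.i).left ≫ ψ = (snd (AMonS S M) 𝔭.Z).left ≫ z) :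
    ∃ l, IsEps M 𝔭 ψ z l := by
  have hw : Spec.map (𝔭.p M) ≫ (AMonS S M ⊗ 𝔭.Z').left.isoSpec.inv ≫ ψ =
      Spec.map (𝔭.q M) ≫ 𝔭.Z.left.isoSpec.inv ≫ z := by
    have e1 : Spec.map (𝔭.p M) ≫ (AMonS S M ⊗ 𝔭.Z').left.isoSpec.inv =
        (AMonS S M ⊗ 𝔭.Z).left.isoSpec.inv ≫ (AMonS S M ◁ 𝔭.i).left :=
      Scheme.isoSpec_inv_naturality _
    have e2 : Spec.map (𝔭.q M) ≫ 𝔭.Z.left.isoSpec.inv =
        (AMonS S M ⊗ 𝔭.Z).left.isoSpec.inv ≫ (snd (AMonS S M) 𝔭.Z).left :=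
      Scheme.isoSpec_inv_naturality _
    rw [reassoc_of% e1, reassoc_of% e2, h]
  exact ⟨_, (𝔭.isPushout M).desc _ _ hw, (𝔭.isPushout M).inl_desc _ _ hw,
    (𝔭.isPushout M).inr_desc _ _ hw, rfl⟩

theorem IsEps.unique {X : Scheme.{u}} {ψ : (AMonS S M ⊗ 𝔭.Z').left ⟶ X} {z : 𝔭.Z.left ⟶ X}
    {l l' : 𝔭.Z'.left ⟶ X} (h : IsEps M 𝔭 ψ z l) (h' : IsEps M 𝔭 ψ z l') : l = l' := by
  obtain ⟨ψ₁, a1, b1, rfl⟩ := h
  obtain ⟨ψ₂, a2, b2, rfl⟩ := h'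
  have : ψ₁ = ψ₂ := (𝔭.isPushout M).hom_ext (a1.trans a2.symm) (b1.trans b2.symm)
  rw [this]

theorem IsEps.restrict {X : Scheme.{u}} {ψ : (AMonS S M ⊗ 𝔭.Z').left ⟶ X} {z : 𝔭.Z.left ⟶ X}
    {l : 𝔭.Z'.left ⟶ X} (h : IsEps M 𝔭 ψ z l) : 𝔭.i.left ≫ l = z := by
  obtain ⟨ψ'', -, b1, rfl⟩ := h
  unfold Pair.s₀
  rw [← Category.assoc, ← Category.assoc, ← Scheme.isoSpec_hom_naturality, Category.assoc,
    Category.assoc, ← Spec.map_comp_assoc]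
  have e : 𝔭.ε M ≫ 𝔭.i.left.appTop = 𝔭.β M := 𝔭.ε_r M
  rw [e, b1, Iso.hom_inv_id_assoc]

theorem IsEps.comp {X Y : Scheme.{u}} {ψ : (AMonS S M ⊗ 𝔭.Z').left ⟶ X} {z : 𝔭.Z.left ⟶ X}
    {l : 𝔭.Z'.left ⟶ X} (h : IsEps M 𝔭 ψ z l) (f : X ⟶ Y) :
    IsEps M 𝔭 (ψ ≫ f) (z ≫ f) (l ≫ f) := by
  obtain ⟨ψ'', a1, b1, rfl⟩ := h
  refine ⟨ψ'' ≫ f, ?_, ?_, ?_⟩
  · rw [reassoc_of% a1]
  · rw [reassoc_of% b1]
  · rw [Category.assoc]

theorem IsEps.const {X : Scheme.{u}} (l' : 𝔭.Z'.left ⟶ X) :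
    IsEps M 𝔭 ((snd (AMonS S M) 𝔭.Z').left ≫ l') (𝔭.i.left ≫ l') l' := by
  refine ⟨Spec.map (𝔭.ρ M) ≫ 𝔭.Z'.left.isoSpec.inv ≫ l', ?_, ?_, ?_⟩
  · rw [← Spec.map_comp_assoc, 𝔭.ρ_α M]
    have e : Spec.map (𝔭.q' M) ≫ 𝔭.Z'.left.isoSpec.inv =
        (AMonS S M ⊗ 𝔭.Z').left.isoSpec.inv ≫ (snd (AMonS S M) 𝔭.Z').left :=
      Scheme.isoSpec_inv_naturality _
    rw [reassoc_of% e]
  · rw [← Spec.map_comp_assoc, 𝔭.ρ_β M]
    have e : Spec.map 𝔭.r ≫ 𝔭.Z'.left.isoSpec.inv = 𝔭.Z.left.isoSpec.inv ≫ 𝔭.i.left :=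
      Scheme.isoSpec_inv_naturality _
    rw [reassoc_of% e]
  · unfold Pair.s₀
    rw [Category.assoc, ← Spec.map_comp_assoc, 𝔭.ρ_ε M, Spec.map_id, Category.id_comp,
      Iso.hom_inv_id_assoc]

end Groth.Agent.H9.EL
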