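import Mathlib
import Groth.Prelude.Def_Magnet4
import Groth.Agent.Lib.Helper9.Misc.EL1

/-!
# Helper9: EL2 — naturality of the degree-zero projection in the pair, and invariance under translation
-/

set_option linter.style.haveILetI false
set_option linter.unusedSectionVars false
set_option autoImplicit false

namespace Groth.Agent.H9.EL

universe u

open CategoryTheory CategoryTheory.Limits AlgebraicGeometry MonoidalCategory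
  CartesianMonoidalCategory MonObj Opposite
open Magnet
open Groth.Agent.H9.MagKun Groth.Agent.H9.MagChr Groth.Agent.H9.PIN

variable {S : Scheme.{u}} (M : Type) [AddCommGroup M]

/-- a morphism of pairs -/
structure PairHom (𝔭₁ 𝔭 : Pair S) where
  t : 𝔭₁.Z ⟶ 𝔭.Z
  t' : 𝔭₁.Z' ⟶ 𝔭.Z'
  w : 𝔭₁.i ≫ t' = t ≫ 𝔭.i

section Nat

variable {𝔭₁ 𝔭 : Pair S} (φ : PairHom 𝔭₁ 𝔭)

theorem PairHom.q_comm : 𝔭.q M ≫ (AMonS S M ◁ φ.t).left.appTop = φ.t.left.appTop ≫ 𝔭₁.q M := by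
  have h1 : (AMonS S M ◁ φ.t).left ≫ (snd (AMonS S M) 𝔭.Z).left =
      (snd (AMonS S M) 𝔭₁.Z).left ≫ φ.t.left := by
    rw [← Over.comp_left, ← Over.comp_left, whiskerLeft_snd]
  have h2 := congrArg (fun f => f.appTop) h1
  simp only [Scheme.Hom.comp_appTop] at h2
  exact h2

theorem PairHom.p_comm :
    (AMonS S M ◁ φ.t').left.appTop ≫ 𝔭₁.p M = 𝔭.p M ≫ (AMonS S M ◁ φ.t).left.appTop := by
  have h1 : (AMonS S M ◁ 𝔭₁.i).left ≫ (AMonS S M ◁ φ.t').left =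
      (AMonS S M ◁ φ.t).left ≫ (AMonS S M ◁ 𝔭.i).left := by
    rw [← Over.comp_left, ← Over.comp_left, ← MonoidalCategory.whiskerLeft_comp,
      ← MonoidalCategory.whiskerLeft_comp, φ.w]
  have h2 := congrArg (fun f => f.appTop) h1
  simp only [Scheme.Hom.comp_appTop] at h2
  exact h2

theorem PairHom.cond : (𝔭.β M ≫ φ.t.left.appTop) ≫ 𝔭₁.q M =
    (𝔭.α M ≫ (AMonS S M ◁ φ.t').left.appTop) ≫ 𝔭₁.p M := by
  rw [Category.assoc, ← φ.q_comm M, ← Category.assoc, 𝔭.β_q M, Category.assoc, Category.assoc,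
    φ.p_comm M]

/-- the induced map on the rings of the pushouts -/
noncomputable def PairHom.θ : 𝔭.R M ⟶ 𝔭₁.R M :=
  PullbackCone.IsLimit.lift (𝔭₁.coneIsLimit M) (𝔭.β M ≫ φ.t.left.appTop)
    (𝔭.α M ≫ (AMonS S M ◁ φ.t').left.appTop) (φ.cond M)

theorem PairHom.θ_β : φ.θ M ≫ 𝔭₁.β M = 𝔭.β M ≫ φ.t.left.appTop :=
  PullbackCone.IsLimit.lift_fst _ _ _ _

theorem PairHom.θ_α : φ.θ M ≫ 𝔭₁.α M = 𝔭.α M ≫ (AMonS S M ◁ φ.t').left.appTop :=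
  PullbackCone.IsLimit.lift_snd _ _ _ _

theorem PairHom.θ_ε : φ.θ M ≫ 𝔭₁.ε M = 𝔭.ε M ≫ φ.t'.left.appTop := by
  ext c
  change (𝔭₁.ε M).hom ((φ.θ M).hom c) = φ.t'.left.appTop.hom ((𝔭.ε M).hom c)
  rw [Pair.ε_apply, Pair.ε_apply]
  have h1 : (𝔭₁.α M).hom ((φ.θ M).hom c) =
      (AMonS S M ◁ φ.t').left.appTop.hom ((𝔭.α M).hom c) :=
    congrArg (fun f => f.hom c) (φ.θ_α M)
  rw [h1]
  have h2 : (𝔭.α M).hom c = kappa S M 𝔭.Z' ((𝔭.κe M).symm ((𝔭.α M).hom c)) :=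
    (𝔭.kappa_κe_symm M _).symm
  rw [h2, kappa_natT, Pair.κe_symm_kappa, MonoidAlgebra.coeff_mapRingHom, ← h2]

variable {M}

theorem IsEps.precomp {X : Scheme.{u}} {ψ : (AMonS S M ⊗ 𝔭.Z').left ⟶ X} {z : 𝔭.Z.left ⟶ X}
    {l : 𝔭.Z'.left ⟶ X} (h : IsEps M 𝔭 ψ z l) (φ : PairHom 𝔭₁ 𝔭) :
    IsEps M 𝔭₁ ((AMonS S M ◁ φ.t').left ≫ ψ) (φ.t.left ≫ z) (φ.t'.left ≫ l) := by
  obtain ⟨ψ'', a1, b1, rfl⟩ := h
  refine ⟨Spec.map (φ.θ M) ≫ ψ'', ?_, ?_, ?_⟩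
  · rw [← Spec.map_comp_assoc, φ.θ_α M, Spec.map_comp_assoc, a1]
    have e : Spec.map (AMonS S M ◁ φ.t').left.appTop ≫ (AMonS S M ⊗ 𝔭.Z').left.isoSpec.inv =
        (AMonS S M ⊗ 𝔭₁.Z').left.isoSpec.inv ≫ (AMonS S M ◁ φ.t').left :=
      Scheme.isoSpec_inv_naturality _
    rw [reassoc_of% e]
  · rw [← Spec.map_comp_assoc, φ.θ_β M, Spec.map_comp_assoc, b1]
    have e : Spec.map φ.t.left.appTop ≫ 𝔭.Z.left.isoSpec.inv =
        𝔭₁.Z.left.isoSpec.inv ≫ φ.t.left :=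
      Scheme.isoSpec_inv_naturality _
    rw [reassoc_of% e]
  · unfold Pair.s₀
    have e : 𝔭₁.Z'.left.isoSpec.hom ≫ Spec.map φ.t'.left.appTop =
        φ.t'.left ≫ 𝔭.Z'.left.isoSpec.hom := Scheme.isoSpec_hom_naturality _
    simp only [Category.assoc]
    rw [← Spec.map_comp_assoc, φ.θ_ε M, Spec.map_comp_assoc, reassoc_of% e]

end Nat

section Trans

variable (𝔭 : Pair S) (u : 𝔭.Z' ⟶ AMonS S M)

/-- translation by `u` on `G × Z'` -/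
noncomputable def τ : AMonS S M ⊗ 𝔭.Z' ⟶ AMonS S M ⊗ 𝔭.Z' :=
  lift (fst (AMonS S M) 𝔭.Z' * (snd (AMonS S M) 𝔭.Z' ≫ u)) (snd (AMonS S M) 𝔭.Z')

/-- translation by `u` on `G × Z` -/
noncomputable def τ₀ : AMonS S M ⊗ 𝔭.Z ⟶ AMonS S M ⊗ 𝔭.Z :=
  lift (fst (AMonS S M) 𝔭.Z * (snd (AMonS S M) 𝔭.Z ≫ 𝔭.i ≫ u)) (snd (AMonS S M) 𝔭.Z)

theorem whisker_τ : (AMonS S M ◁ 𝔭.i) ≫ τ M 𝔭 u = τ₀ M 𝔭 u ≫ (AMonS S M ◁ 𝔭.i) := by
  unfold τ τ₀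
  apply CartesianMonoidalCategory.hom_ext
  · rw [Category.assoc, lift_fst, Category.assoc, whiskerLeft_fst, lift_fst, MonObj.comp_mul,
      whiskerLeft_fst, whiskerLeft_snd_assoc]
  · rw [Category.assoc, lift_snd, Category.assoc, whiskerLeft_snd, lift_snd_assoc]

theorem τ₀_snd : τ₀ M 𝔭 u ≫ snd (AMonS S M) 𝔭.Z = snd (AMonS S M) 𝔭.Z := lift_snd _ _

theorem τ_appTop_comm : (τ M 𝔭 u).left.appTop ≫ 𝔭.p M = 𝔭.p M ≫ (τ₀ M 𝔭 u).left.appTop := by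
  have h1 := congrArg (fun f => f.left.appTop) (whisker_τ M 𝔭 u)
  simp only [Over.comp_left, Scheme.Hom.comp_appTop] at h1
  exact h1

theorem q_τ₀ : 𝔭.q M ≫ (τ₀ M 𝔭 u).left.appTop = 𝔭.q M := by
  have h1 := congrArg (fun f => f.left.appTop) (τ₀_snd M 𝔭 u)
  simp only [Over.comp_left, Scheme.Hom.comp_appTop] at h1
  exact h1

theorem τ_cond : 𝔭.β M ≫ 𝔭.q M = (𝔭.α M ≫ (τ M 𝔭 u).left.appTop) ≫ 𝔭.p M := by
  rw [Category.assoc, τ_appTop_comm, ← Category.assoc, ← 𝔭.β_q M, Category.assoc, q_τ₀]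

/-- the automorphism of the pushout ring induced by translation -/
noncomputable def θu : 𝔭.R M ⟶ 𝔭.R M :=
  PullbackCone.IsLimit.lift (𝔭.coneIsLimit M) (𝔭.β M) (𝔭.α M ≫ (τ M 𝔭 u).left.appTop) (τ_cond M 𝔭 u)

theorem θu_β : θu M 𝔭 u ≫ 𝔭.β M = 𝔭.β M := PullbackCone.IsLimit.lift_fst _ _ _ _

theorem θu_α : θu M 𝔭 u ≫ 𝔭.α M = 𝔭.α M ≫ (τ M 𝔭 u).left.appTop :=
  PullbackCone.IsLimit.lift_snd _ _ _ _

theorem τ_kappa_single (m : Multiplicative M) (r : Γ(𝔭.Z'.left, ⊤)) :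
    (τ M 𝔭 u).left.appTop.hom (kappa S M 𝔭.Z' (MonoidAlgebra.single m r)) =
      kappa S M 𝔭.Z' (MonoidAlgebra.single m (r * chr u m)) := by
  unfold τ
  rw [eval_kappa, MonoidAlgebra.liftNCRingHom_single, chr_mul, chr_fst, chr_precomp]
  have h1 : (snd (AMonS S M) 𝔭.Z').left.appTop.hom r =
      kappa S M 𝔭.Z' (MonoidAlgebra.single 1 r) := (kappa_single_one S M 𝔭.Z' r).symm
  have h2 : (snd (AMonS S M) 𝔭.Z').left.appTop.hom (chr u m) =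
      kappa S M 𝔭.Z' (MonoidAlgebra.single 1 (chr u m)) :=
    (kappa_single_one S M 𝔭.Z' (chr u m)).symm
  rw [h1, h2, ← map_mul, ← map_mul, MonoidAlgebra.single_mul_single,
    MonoidAlgebra.single_mul_single]
  simp

theorem coeff_one_τ (y : MonoidAlgebra Γ(𝔭.Z'.left, ⊤) (Multiplicative M)) :
    ((𝔭.κe M).symm ((τ M 𝔭 u).left.appTop.hom (kappa S M 𝔭.Z' y))).coeff 1 = y.coeff 1 := by
  classical
  induction y using MonoidAlgebra.induction_linear with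
  | zero => simp
  | add y₁ y₂ h₁ h₂ =>
    rw [map_add, map_add, map_add, MonoidAlgebra.coeff_add, MonoidAlgebra.coeff_add,
      Finsupp.add_apply, Finsupp.add_apply, h₁, h₂]
  | single m r =>
    rw [τ_kappa_single, Pair.κe_symm_kappa, MonoidAlgebra.coeff_single, MonoidAlgebra.coeff_single,
      Finsupp.single_apply, Finsupp.single_apply]
    split_ifs with hm
    · subst hm
      rw [map_one, _root_.mul_one]
    · rfl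

theorem θu_ε : θu M 𝔭 u ≫ 𝔭.ε M = 𝔭.ε M := by
  ext c
  change (𝔭.ε M).hom ((θu M 𝔭 u).hom c) = (𝔭.ε M).hom c
  rw [Pair.ε_apply, Pair.ε_apply]
  have h1 : (𝔭.α M).hom ((θu M 𝔭 u).hom c) = (τ M 𝔭 u).left.appTop.hom ((𝔭.α M).hom c) :=
    congrArg (fun f => f.hom c) (θu_α M 𝔭 u)
  rw [h1]
  have h2 : (𝔭.α M).hom c = kappa S M 𝔭.Z' ((𝔭.κe M).symm ((𝔭.α M).hom c)) :=
    (𝔭.kappa_κe_symm M _).symm
  rw [h2, coeff_one_τ, ← h2]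

variable {M 𝔭}

theorem IsEps.translate {X : Scheme.{u}} {ψ : (AMonS S M ⊗ 𝔭.Z').left ⟶ X} {z : 𝔭.Z.left ⟶ X}
    {l : 𝔭.Z'.left ⟶ X} (h : IsEps M 𝔭 ψ z l) (u : 𝔭.Z' ⟶ AMonS S M) :
    IsEps M 𝔭 ((τ M 𝔭 u).left ≫ ψ) z l := by
  obtain ⟨ψ'', a1, b1, rfl⟩ := h
  refine ⟨Spec.map (θu M 𝔭 u) ≫ ψ'', ?_, ?_, ?_⟩
  · rw [← Spec.map_comp_assoc, θu_α M 𝔭 u, Spec.map_comp_assoc, a1]
    have e : Spec.map (τ M 𝔭 u).left.appTop ≫ (AMonS S M ⊗ 𝔭.Z').left.isoSpec.inv =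
        (AMonS S M ⊗ 𝔭.Z').left.isoSpec.inv ≫ (τ M 𝔭 u).left :=
      Scheme.isoSpec_inv_naturality _
    rw [reassoc_of% e]
  · rw [← Spec.map_comp_assoc, θu_β M 𝔭 u, b1]
  · unfold Pair.s₀
    simp only [Category.assoc]
    rw [← Spec.map_comp_assoc, θu_ε M 𝔭 u]

end Trans

end Groth.Agent.H9.EL
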