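import Mathlib
import Groth.Prelude.Def_Magnet4
import Groth.Agent.Lib.Helper9.Misc.EL2
import Groth.Agent.Lib.Helper9.Misc.MagPts
import Groth.Agent.Lib.Helper9.Misc.MagOpen

/-!
# Helper9: EL3 — equivariant infinitesimal lifting from a non-equivariant lifting (formal argument)
-/

set_option linter.style.haveILetI false
set_option linter.unusedSectionVars false
set_option autoImplicit false

namespace Groth.Agent.H9.EL

universe u

open CategoryTheory CategoryTheory.Limits AlgebraicGeometry MonoidalCategory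
  CartesianMonoidalCategory MonObj Opposite
open Magnet
open Groth.Agent.H9.MagKun Groth.Agent.H9.MagChr Groth.Agent.H9.MagPts Groth.Agent.H9.PIN

section Tens

theorem mul_eq_zero_of_coeff {R' : Type*} [CommRing R'] {G : Type*} [Monoid G]
    (P : R' → Prop) (hP : ∀ a b, P a → P b → a * b = 0) (x y : MonoidAlgebra R' G)
    (hx : ∀ g, P (x.coeff g)) (hy : ∀ g, P (y.coeff g)) : x * y = 0 := by
  rw [MonoidAlgebra.mul_def, Finsupp.sum]
  apply Finset.sum_eq_zero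
  intro m₁ _
  rw [Finsupp.sum]
  apply Finset.sum_eq_zero
  intro m₂ _
  rw [hP _ _ (hx m₁) (hy m₂)]
  simp

variable {S : Scheme.{u}} (N : Type) [AddCommMonoid N] (𝔭 : Pair S)

theorem whisker_surjective :
    Function.Surjective (AMonS S N ◁ 𝔭.i).left.appTop.hom := by
  intro a
  obtain ⟨y, rfl⟩ := (kappa_bijective S N 𝔭.Z).2 a
  have hs : Function.Surjective (MonoidAlgebra.mapRingHom (Multiplicative N) 𝔭.i.left.appTop.hom) := by
    intro y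
    induction y using MonoidAlgebra.induction_linear with
    | zero => exact ⟨0, map_zero _⟩
    | add y₁ y₂ h₁ h₂ =>
      obtain ⟨x₁, rfl⟩ := h₁
      obtain ⟨x₂, rfl⟩ := h₂
      exact ⟨x₁ + x₂, map_add _ _ _⟩
    | single m b =>
      obtain ⟨a, rfl⟩ := 𝔭.surj b
      exact ⟨MonoidAlgebra.single m a, MonoidAlgebra.mapRingHom_single _ _ _⟩
  obtain ⟨y', rfl⟩ := hs y
  exact ⟨kappa S N 𝔭.Z' y', kappa_natT S N 𝔭.i y'⟩

theorem whisker_sq (a b : Γ((AMonS S N ⊗ 𝔭.Z').left, ⊤))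
    (ha : (AMonS S N ◁ 𝔭.i).left.appTop.hom a = 0) (hb : (AMonS S N ◁ 𝔭.i).left.appTop.hom b = 0) :
    a * b = 0 := by
  obtain ⟨ya, rfl⟩ := (kappa_bijective S N 𝔭.Z').2 a
  obtain ⟨yb, rfl⟩ := (kappa_bijective S N 𝔭.Z').2 b
  have key : ∀ y : MonoidAlgebra Γ(𝔭.Z'.left, ⊤) (Multiplicative N),
      (AMonS S N ◁ 𝔭.i).left.appTop.hom (kappa S N 𝔭.Z' y) = 0 →
        ∀ g, 𝔭.i.left.appTop.hom (y.coeff g) = 0 := by
    intro y hy g
    rw [kappa_natT] at hy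
    have h0 : MonoidAlgebra.mapRingHom (Multiplicative N) 𝔭.i.left.appTop.hom y = 0 := by
      apply (kappa_bijective S N 𝔭.Z).1
      rw [hy, map_zero]
    have h1 := congrArg (fun w => w.coeff g) h0
    simpa [MonoidAlgebra.coeff_mapRingHom] using h1
  rw [← map_mul, mul_eq_zero_of_coeff (fun a => 𝔭.i.left.appTop.hom a = 0) 𝔭.sq ya yb
    (key ya ha) (key yb hb), map_zero]

/-- the pair `A(N) × Z ⊂ A(N) × Z'` -/
noncomputable abbrev Pair.tens : Pair S where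
  Z := AMonS S N ⊗ 𝔭.Z
  Z' := AMonS S N ⊗ 𝔭.Z'
  i := AMonS S N ◁ 𝔭.i
  affZ := MGU.affine_tensor _ _
  affZ' := MGU.affine_tensor _ _
  surj := whisker_surjective N 𝔭
  sq := whisker_sq N 𝔭

end Tens

section Pts

variable {S : Scheme.{u}} {M : Type} [AddCommGroup M]

theorem pt_comm {T : Over S} (g h : T ⟶ AMonS S M) : g * h = h * g := by
  apply chr_injective
  apply MonoidHom.ext
  intro m
  rw [chr_mul, chr_mul, _root_.mul_comm]

variable (S M) in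
/-- inversion on `D(M)_S` -/
noncomputable abbrev inv : AMonS S M ⟶ AMonS S M := AMonS.map S (-(AddMonoidHom.id M))

theorem inv_mul {T : Over S} (g : T ⟶ AMonS S M) : (g ≫ inv S M) * g = 1 := by
  apply chr_injective
  apply MonoidHom.ext
  intro m
  rw [chr_mul, chr_comp_map, ← map_mul, MagOpen.chr_one']
  have : (AddMonoidHom.toMultiplicative (-(AddMonoidHom.id M))) m * m = 1 := by
    change Multiplicative.ofAdd (-(Multiplicative.toAdd m) + Multiplicative.toAdd m) = 1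
    rw [neg_add_cancel]
    rfl
  rw [this, map_one]

theorem mul_inv {T : Over S} (g : T ⟶ AMonS S M) : g * (g ≫ inv S M) = 1 := by
  rw [pt_comm, inv_mul]

theorem mul_comp_inv {T : Over S} (g h : T ⟶ AMonS S M) :
    (g * h) ≫ inv S M = (g ≫ inv S M) * (h ≫ inv S M) := MonObj.mul_comp _ _ _

theorem hom_ext_lift₂' {P Q R Z : Over S} {f g : P ⊗ (Q ⊗ R) ⟶ Z}
    (h : ∀ (T : Over S) (p : T ⟶ P) (q : T ⟶ Q) (r : T ⟶ R),
      lift p (lift q r) ≫ f = lift p (lift q r) ≫ g) : f = g := by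
  apply hom_ext_lift₂
  intro T p z
  rw [← lift_comp_fst_snd z]
  exact h T p _ _

end Pts

section OverLevel

variable {S : Scheme.{u}} {M : Type} [AddCommGroup M] {𝔭 : Pair S}

theorem exists_eps {X : Over S} (ψ : AMonS S M ⊗ 𝔭.Z' ⟶ X) (z : 𝔭.Z ⟶ X)
    (h : (AMonS S M ◁ 𝔭.i) ≫ ψ = snd (AMonS S M) 𝔭.Z ≫ z) :
    ∃ l : 𝔭.Z' ⟶ X, IsEps M 𝔭 ψ.left z.left l.left := by
  have h' : (AMonS S M ◁ 𝔭.i).left ≫ ψ.left = (snd (AMonS S M) 𝔭.Z).left ≫ z.left := by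
    rw [← Over.comp_left, ← Over.comp_left, h]
  obtain ⟨l₀, hl₀⟩ := IsEps.exists ψ.left z.left h'
  have hc : IsEps M 𝔭 (ψ.left ≫ X.hom) (z.left ≫ X.hom) 𝔭.Z'.hom := by
    have e1 : ψ.left ≫ X.hom = (snd (AMonS S M) 𝔭.Z').left ≫ 𝔭.Z'.hom := by
      rw [Over.w ψ, Over.w (snd (AMonS S M) 𝔭.Z')]
    have e2 : z.left ≫ X.hom = 𝔭.i.left ≫ 𝔭.Z'.hom := by
      rw [Over.w z, Over.w 𝔭.i]
    rw [e1, e2]
    exact IsEps.const 𝔭.Z'.hom
  have hw : l₀ ≫ X.hom = 𝔭.Z'.hom := (hl₀.comp X.hom).unique hc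
  exact ⟨Over.homMk l₀ hw, hl₀⟩

end OverLevel

section Main

variable {S : Scheme.{u}} {M : Type} [AddCommGroup M] (𝔭 : Pair S)
  (aQ : MonAct (AMonS S M) 𝔭.Z) (aQ' : MonAct (AMonS S M) 𝔭.Z')
  (hi : MonAct.IsEquivariant aQ aQ' 𝔭.i)
  {X Y : Over S} (aX : MonAct (AMonS S M) X) (aY : MonAct (AMonS S M) Y)
  (f : X ⟶ Y) (hf : MonAct.IsEquivariant aX aY f)
  (x : 𝔭.Z ⟶ X) (hx : MonAct.IsEquivariant aQ aX x)
  (y : 𝔭.Z' ⟶ Y) (hy : MonAct.IsEquivariant aQ' aY y)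
  (l₀ : 𝔭.Z' ⟶ X) (h1 : 𝔭.i ≫ l₀ = x) (h2 : l₀ ≫ f = y)

/-- `(g, p) ↦ g⁻¹ • l₀ (g • p)` -/
noncomputable def psi : AMonS S M ⊗ 𝔭.Z' ⟶ X :=
  lift (fst (AMonS S M) 𝔭.Z' ≫ inv S M) (aQ'.act ≫ l₀) ≫ aX.act

theorem lift_psi {T : Over S} (g : T ⟶ AMonS S M) (p : T ⟶ 𝔭.Z') :
    lift g p ≫ psi 𝔭 aQ' aX l₀ =
      lift (g ≫ inv S M) (lift g p ≫ aQ'.act ≫ l₀) ≫ aX.act := by
  unfold psi
  rw [comp_lift_assoc, lift_fst_assoc]

include hi hx h1 in
theorem psi_restrict :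
    (AMonS S M ◁ 𝔭.i) ≫ psi 𝔭 aQ' aX l₀ = snd (AMonS S M) 𝔭.Z ≫ x := by
  apply hom_ext_lift₂
  intro T g p
  rw [lift_whiskerLeft_assoc, lift_psi, lift_snd_assoc]
  have e1 : lift g (p ≫ 𝔭.i) ≫ aQ'.act = lift g p ≫ aQ.act ≫ 𝔭.i :=
    (((MonAct.isEquivariant_iff _ _ _).mp hi) T g p).symm
  rw [reassoc_of% e1, h1]
  have e2 : lift g p ≫ aQ.act ≫ x = lift g (p ≫ x) ≫ aX.act :=
    ((MonAct.isEquivariant_iff _ _ _).mp hx) T g p
  rw [e2, ← MonAct.lift_mul_act, inv_mul, MonAct.lift_one_act]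

include hf hy h2 in
theorem psi_comp :
    psi 𝔭 aQ' aX l₀ ≫ f = snd (AMonS S M) 𝔭.Z' ≫ y := by
  apply hom_ext_lift₂
  intro T g p
  rw [reassoc_of% (lift_psi 𝔭 aQ' aX l₀ g p), lift_snd_assoc]
  have e1 := ((MonAct.isEquivariant_iff _ _ _).mp hf) T (g ≫ inv S M) (lift g p ≫ aQ'.act ≫ l₀)
  rw [e1]
  simp only [Category.assoc]
  rw [h2]
  have e2 : lift g p ≫ aQ'.act ≫ y = lift g (p ≫ y) ≫ aY.act :=
    ((MonAct.isEquivariant_iff _ _ _).mp hy) T g p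
  rw [e2, ← MonAct.lift_mul_act, inv_mul, MonAct.lift_one_act]

/-- `(g, (h, p)) ↦ (h, ψ (g, p))` -/
noncomputable def psi₂ : AMonS S M ⊗ (AMonS S M ⊗ 𝔭.Z') ⟶ AMonS S M ⊗ X :=
  lift (snd (AMonS S M) (AMonS S M ⊗ 𝔭.Z') ≫ fst (AMonS S M) 𝔭.Z')
    ((AMonS S M ◁ snd (AMonS S M) 𝔭.Z') ≫ psi 𝔭 aQ' aX l₀)

theorem psiL_eq :
    (AMonS S M ◁ aQ'.act) ≫ psi 𝔭 aQ' aX l₀ =
      τ M (𝔭.tens M) (fst (AMonS S M) 𝔭.Z') ≫ psi₂ 𝔭 aQ' aX l₀ ≫ aX.act := by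
  apply hom_ext_lift₂'
  intro T g h p
  rw [lift_whiskerLeft_assoc, lift_psi, ← MonAct.lift_mul_act_assoc]
  have e1 : lift g (lift h p) ≫ τ M (𝔭.tens M) (fst (AMonS S M) 𝔭.Z') =
      lift (g * h) (lift h p) := by
    unfold τ
    rw [comp_lift, MonObj.comp_mul, lift_fst, lift_snd_assoc, lift_snd, lift_fst]
  rw [reassoc_of% e1]
  unfold psi₂
  rw [comp_lift_assoc, lift_snd_assoc, lift_fst, lift_whiskerLeft_assoc, lift_snd, lift_psi,
    ← MonAct.lift_mul_act, mul_comp_inv]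
  have e2 : h * ((g ≫ inv S M) * (h ≫ inv S M)) = g ≫ inv S M := by
    rw [pt_comm (g ≫ inv S M), ← _root_.mul_assoc, mul_inv, _root_.one_mul]
  rw [e2]

include hi hx h1 in
theorem main_aux :
    ∃ l : 𝔭.Z' ⟶ X, IsEps M 𝔭 (psi 𝔭 aQ' aX l₀).left x.left l.left ∧
      MonAct.IsEquivariant aQ' aX l := by
  obtain ⟨l, hl⟩ := exists_eps (psi 𝔭 aQ' aX l₀) x (psi_restrict 𝔭 aQ aQ' hi aX x hx l₀ h1)
  refine ⟨l, hl, ?_⟩
  -- the pair `G × Q ⊂ G × Q'`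
  let φact : PairHom (𝔭.tens M) 𝔭 := ⟨aQ.act, aQ'.act, hi.symm⟩
  let φsnd : PairHom (𝔭.tens M) 𝔭 :=
    ⟨snd (AMonS S M) 𝔭.Z, snd (AMonS S M) 𝔭.Z', whiskerLeft_snd _ _⟩
  have EL : IsEps M (𝔭.tens M) ((AMonS S M ◁ aQ'.act).left ≫ (psi 𝔭 aQ' aX l₀).left)
      (aQ.act.left ≫ x.left) (aQ'.act.left ≫ l.left) := hl.precomp φact
  have Esnd : IsEps M (𝔭.tens M)
      ((AMonS S M ◁ snd (AMonS S M) 𝔭.Z').left ≫ (psi 𝔭 aQ' aX l₀).left)
      ((snd (AMonS S M) 𝔭.Z).left ≫ x.left) ((snd (AMonS S M) 𝔭.Z').left ≫ l.left) :=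
    hl.precomp φsnd
  have Efst : IsEps M (𝔭.tens M)
      ((snd (AMonS S M) (AMonS S M ⊗ 𝔭.Z')).left ≫ (fst (AMonS S M) 𝔭.Z').left)
      ((AMonS S M ◁ 𝔭.i).left ≫ (fst (AMonS S M) 𝔭.Z').left) (fst (AMonS S M) 𝔭.Z').left :=
    IsEps.const (𝔭 := 𝔭.tens M) (fst (AMonS S M) 𝔭.Z').left
  -- `G ◁ l` is the degree-zero part of `ψ₂`
  have hψ₂ : (AMonS S M ◁ (𝔭.tens M).i) ≫ psi₂ 𝔭 aQ' aX l₀ =
      snd (AMonS S M) (𝔭.tens M).Z ≫ (AMonS S M ◁ x) := by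
    unfold psi₂
    apply CartesianMonoidalCategory.hom_ext
    · rw [Category.assoc, lift_fst, Category.assoc, whiskerLeft_fst, whiskerLeft_snd_assoc,
        whiskerLeft_fst]
    · rw [Category.assoc, lift_snd, Category.assoc, whiskerLeft_snd,
        ← MonoidalCategory.whiskerLeft_comp_assoc, whiskerLeft_snd,
        MonoidalCategory.whiskerLeft_comp_assoc,
        psi_restrict 𝔭 aQ aQ' hi aX x hx l₀ h1, whiskerLeft_snd_assoc]
  obtain ⟨l₂, hl₂⟩ := exists_eps (𝔭 := 𝔭.tens M) (psi₂ 𝔭 aQ' aX l₀) (AMonS S M ◁ x) hψ₂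
  have hl₂' : l₂ = AMonS S M ◁ l := by
    apply CartesianMonoidalCategory.hom_ext
    · rw [whiskerLeft_fst]
      apply Over.OverMorphism.ext
      have e := hl₂.comp (fst (AMonS S M) X).left
      have e1 : (psi₂ 𝔭 aQ' aX l₀).left ≫ (fst (AMonS S M) X).left =
          (snd (AMonS S M) (AMonS S M ⊗ 𝔭.Z')).left ≫ (fst (AMonS S M) 𝔭.Z').left := by
        rw [← Over.comp_left, ← Over.comp_left]
        unfold psi₂
        rw [lift_fst]
      have e2 : (AMonS S M ◁ x).left ≫ (fst (AMonS S M) X).left =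
          (AMonS S M ◁ 𝔭.i).left ≫ (fst (AMonS S M) 𝔭.Z').left := by
        rw [← Over.comp_left, ← Over.comp_left, whiskerLeft_fst, whiskerLeft_fst]
      rw [e1, e2] at e
      exact e.unique Efst
    · rw [whiskerLeft_snd]
      apply Over.OverMorphism.ext
      have e := hl₂.comp (snd (AMonS S M) X).left
      have e1 : (psi₂ 𝔭 aQ' aX l₀).left ≫ (snd (AMonS S M) X).left =
          (AMonS S M ◁ snd (AMonS S M) 𝔭.Z').left ≫ (psi 𝔭 aQ' aX l₀).left := by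
        rw [← Over.comp_left, ← Over.comp_left]
        unfold psi₂
        rw [lift_snd]
      have e2 : (AMonS S M ◁ x).left ≫ (snd (AMonS S M) X).left =
          (snd (AMonS S M) 𝔭.Z).left ≫ x.left := by
        rw [← Over.comp_left, ← Over.comp_left, whiskerLeft_snd]
      rw [e1, e2] at e
      exact e.unique Esnd
  rw [hl₂'] at hl₂
  have ER := (hl₂.comp aX.act.left).translate (fst (AMonS S M) 𝔭.Z')
  have e3 : (τ M (𝔭.tens M) (fst (AMonS S M) 𝔭.Z')).left ≫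
      (psi₂ 𝔭 aQ' aX l₀).left ≫ aX.act.left =
      (AMonS S M ◁ aQ'.act).left ≫ (psi 𝔭 aQ' aX l₀).left := by
    rw [← Over.comp_left, ← Over.comp_left, ← Over.comp_left, ← psiL_eq]
  have e4 : (AMonS S M ◁ x).left ≫ aX.act.left = aQ.act.left ≫ x.left := by
    rw [← Over.comp_left, ← Over.comp_left]
    exact congrArg (fun m => m.left) hx.symm
  rw [e3, e4] at ER
  have := EL.unique ER
  apply Over.OverMorphism.ext
  exact this

include hi hf hx hy h1 h2 in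
/-- **Equivariant infinitesimal lifting** from a non-equivariant one. -/
theorem exists_equivariant_lift :
    ∃ l : 𝔭.Z' ⟶ X, MonAct.IsEquivariant aQ' aX l ∧ 𝔭.i ≫ l = x ∧ l ≫ f = y := by
  obtain ⟨l, hl, heq⟩ := main_aux 𝔭 aQ aQ' hi aX x hx l₀ h1
  refine ⟨l, heq, ?_, ?_⟩
  · apply Over.OverMorphism.ext
    exact hl.restrict
  · apply Over.OverMorphism.ext
    have e := hl.comp f.left
    have e1 : (psi 𝔭 aQ' aX l₀).left ≫ f.left = (snd (AMonS S M) 𝔭.Z').left ≫ y.left := by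
      rw [← Over.comp_left, ← Over.comp_left, psi_comp 𝔭 aQ' aX aY f hf y hy l₀ h2]
    have e2 : x.left ≫ f.left = 𝔭.i.left ≫ y.left := by
      rw [← Over.comp_left, ← Over.comp_left, ← h1, Category.assoc, h2]
    rw [e1, e2] at e
    exact e.unique (IsEps.const y.left)

end Main

end Groth.Agent.H9.EL
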