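import Mathlib
import Groth.Prelude.Def_Magnet4
import Groth.Agent.Lib.Helper9.Misc.EL3
import Groth.Agent.Lib.Helper1.SmLift

/-!
# Helper9: EL4 — formal smoothness of `f^N : X^N → Y^N` for a smooth equivariant `f` (S18231)
-/

set_option linter.style.haveILetI false
set_option linter.unusedSectionVars false
set_option autoImplicit false

namespace Groth.Agent.H9.EL

universe u

open CategoryTheory CategoryTheory.Limits AlgebraicGeometry MonoidalCategory
  CartesianMonoidalCategory MonObj Opposite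
open Magnet
open Groth.Agent.H9.MagKun Groth.Agent.H9.MagChr Groth.Agent.H9.MagPts Groth.Agent.H9.PIN

section Lift

variable {S : Scheme.{u}} (𝔭 : Pair S)

/-- non-equivariant infinitesimal lifting along an affine pair for a smooth morphism -/
theorem exists_lift_of_smooth {X Y : Over S} (f : X ⟶ Y) [Smooth f.left] (x : 𝔭.Z ⟶ X)
    (y : 𝔭.Z' ⟶ Y) (h : 𝔭.i ≫ y = x ≫ f) :
    ∃ l₀ : 𝔭.Z' ⟶ X, 𝔭.i ≫ l₀ = x ∧ l₀ ≫ f = y := by
  have hfs := Groth.Agent.H1.SmLift.isFormallySmoothHom_of_smooth f.left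
  obtain ⟨I, hIdef⟩ : ∃ I : Ideal Γ(𝔭.Z'.left, ⊤), I = RingHom.ker 𝔭.i.left.appTop.hom := ⟨_, rfl⟩
  have hI : I ^ 2 = ⊥ := by
    rw [pow_two, eq_bot_iff, Ideal.mul_le]
    intro a ha b hb
    rw [hIdef, RingHom.mem_ker] at ha hb
    rw [Ideal.mem_bot]
    exact 𝔭.sq a b ha hb
  -- the quotient identifies with functions on `Z`
  obtain ⟨e, he⟩ : ∃ e : Γ(𝔭.Z.left, ⊤) ⟶ CommRingCat.of (Γ(𝔭.Z'.left, ⊤) ⧸ I),
      𝔭.i.left.appTop ≫ e = CommRingCat.ofHom (Ideal.Quotient.mk I) := by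
    subst hIdef
    refine ⟨CommRingCat.ofHom
      (RingHom.quotientKerEquivOfSurjective 𝔭.surj).symm.toRingHom, ?_⟩
    ext a
    change (RingHom.quotientKerEquivOfSurjective 𝔭.surj).symm (𝔭.i.left.appTop.hom a) = _
    rw [RingEquiv.symm_apply_eq]
    rfl
  obtain ⟨e', he'⟩ : ∃ e' : CommRingCat.of (Γ(𝔭.Z'.left, ⊤) ⧸ I) ⟶ Γ(𝔭.Z.left, ⊤),
      e ≫ e' = 𝟙 _ := by
    subst hIdef
    refine ⟨CommRingCat.ofHom (RingHom.quotientKerEquivOfSurjective 𝔭.surj).toRingHom, ?_⟩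
    ext b
    obtain ⟨a, rfl⟩ := 𝔭.surj b
    have h1 : e.hom (𝔭.i.left.appTop.hom a) = Ideal.Quotient.mk _ a :=
      congrArg (fun m => m.hom a) he
    change (RingHom.quotientKerEquivOfSurjective 𝔭.surj) (e.hom (𝔭.i.left.appTop.hom a)) = _
    rw [h1]
    rfl
  have hnat : 𝔭.Z.left.isoSpec.inv ≫ 𝔭.i.left = Spec.map 𝔭.i.left.appTop ≫ 𝔭.Z'.left.isoSpec.inv :=
    (Scheme.isoSpec_inv_naturality _).symm
  obtain ⟨l, hl1, hl2⟩ := hfs Γ(𝔭.Z'.left, ⊤) I hI
    (Spec.map e ≫ 𝔭.Z.left.isoSpec.inv ≫ x.left) (𝔭.Z'.left.isoSpec.inv ≫ y.left) (by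
      have h' : 𝔭.i.left ≫ y.left = x.left ≫ f.left := by
        rw [← Over.comp_left, ← Over.comp_left, h]
      simp only [Category.assoc]
      rw [← h', reassoc_of% hnat, ← Spec.map_comp_assoc, he])
  have hw : (𝔭.Z'.left.isoSpec.hom ≫ l) ≫ X.hom = 𝔭.Z'.hom := by
    rw [← Over.w f, Category.assoc, reassoc_of% hl2, Iso.hom_inv_id_assoc, Over.w y]
  refine ⟨Over.homMk (𝔭.Z'.left.isoSpec.hom ≫ l) hw, ?_, ?_⟩
  · apply Over.OverMorphism.ext
    change 𝔭.i.left ≫ 𝔭.Z'.left.isoSpec.hom ≫ l = x.left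
    have e1 : 𝔭.i.left ≫ 𝔭.Z'.left.isoSpec.hom = 𝔭.Z.left.isoSpec.hom ≫ Spec.map 𝔭.i.left.appTop :=
      (Scheme.isoSpec_hom_naturality _).symm
    rw [reassoc_of% e1]
    have e2 : Spec.map 𝔭.i.left.appTop =
        Spec.map e' ≫ Spec.map (CommRingCat.ofHom (Ideal.Quotient.mk I)) := by
      rw [← Spec.map_comp, ← he, Category.assoc, he', Category.comp_id]
    rw [e2, Category.assoc, hl1, ← Spec.map_comp_assoc, he', Spec.map_id, Category.id_comp,
      Iso.hom_inv_id_assoc]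
  · apply Over.OverMorphism.ext
    change (𝔭.Z'.left.isoSpec.hom ≫ l) ≫ f.left = y.left
    rw [Category.assoc, hl2, Iso.hom_inv_id_assoc]

end Lift

section Base

variable {S : Scheme.{u}} (A : Type u) [CommRing A] (I : Ideal A) (hI : I ^ 2 = ⊥)
  (str : Spec (CommRingCat.of A) ⟶ S)

/-- the thickening `Spec (A ⧸ I) ⟶ Spec A` over `S` -/
noncomputable abbrev ιI : Over.mk (Spec.map (CommRingCat.ofHom (Ideal.Quotient.mk I)) ≫ str) ⟶
    Over.mk str :=
  Over.homMk (Spec.map (CommRingCat.ofHom (Ideal.Quotient.mk I))) rfl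

theorem ιI_appTop (a : Γ(Spec (CommRingCat.of A), ⊤)) :
    (Spec.map (CommRingCat.ofHom (Ideal.Quotient.mk I))).appTop.hom a =
      (Scheme.ΓSpecIso (CommRingCat.of (A ⧸ I))).inv.hom
        (Ideal.Quotient.mk I ((Scheme.ΓSpecIso (CommRingCat.of A)).hom.hom a)) := by
  have h := Scheme.ΓSpecIso_naturality (CommRingCat.ofHom (Ideal.Quotient.mk I))
  have h2 : (Spec.map (CommRingCat.ofHom (Ideal.Quotient.mk I))).appTop =
      (Scheme.ΓSpecIso (CommRingCat.of A)).hom ≫ CommRingCat.ofHom (Ideal.Quotient.mk I) ≫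
        (Scheme.ΓSpecIso (CommRingCat.of (A ⧸ I))).inv := by
    rw [← Category.assoc, ← h, Category.assoc, Iso.hom_inv_id, Category.comp_id]
  rw [h2]
  rfl

include hI in
/-- the base pair -/
noncomputable abbrev Pair.base : Pair S where
  Z := Over.mk (Spec.map (CommRingCat.ofHom (Ideal.Quotient.mk I)) ≫ str)
  Z' := Over.mk str
  i := ιI A I str
  affZ := inferInstanceAs (IsAffine (Spec _))
  affZ' := inferInstanceAs (IsAffine (Spec _))
  surj := by
    intro b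
    obtain ⟨a, ha⟩ := Ideal.Quotient.mk_surjective
      ((Scheme.ΓSpecIso (CommRingCat.of (A ⧸ I))).hom.hom b)
    refine ⟨(Scheme.ΓSpecIso (CommRingCat.of A)).inv.hom a, ?_⟩
    change (Spec.map (CommRingCat.ofHom (Ideal.Quotient.mk I))).appTop.hom _ = b
    rw [ιI_appTop]
    have h1 : (Scheme.ΓSpecIso (CommRingCat.of A)).hom.hom
        ((Scheme.ΓSpecIso (CommRingCat.of A)).inv.hom a) = a := by
      rw [← CommRingCat.comp_apply, Iso.inv_hom_id]
      rfl
    rw [h1, ha, ← CommRingCat.comp_apply, Iso.hom_inv_id]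
    rfl
  sq := by
    intro a b ha hb
    change (Spec.map (CommRingCat.ofHom (Ideal.Quotient.mk I))).appTop.hom _ = 0 at ha hb
    rw [ιI_appTop] at ha hb
    have key : ∀ c : Γ(Spec (CommRingCat.of A), ⊤),
        (Scheme.ΓSpecIso (CommRingCat.of (A ⧸ I))).inv.hom
          (Ideal.Quotient.mk I ((Scheme.ΓSpecIso (CommRingCat.of A)).hom.hom c)) = 0 →
        (Scheme.ΓSpecIso (CommRingCat.of A)).hom.hom c ∈ I := by
      intro c hc
      have h1 := congrArg (Scheme.ΓSpecIso (CommRingCat.of (A ⧸ I))).hom.hom hc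
      rw [← CommRingCat.comp_apply, Iso.inv_hom_id, map_zero] at h1
      exact Ideal.Quotient.eq_zero_iff_mem.mp h1
    have h2 : (Scheme.ΓSpecIso (CommRingCat.of A)).hom.hom a *
        (Scheme.ΓSpecIso (CommRingCat.of A)).hom.hom b ∈ I ^ 2 := by
      rw [pow_two]
      exact Ideal.mul_mem_mul (key a ha) (key b hb)
    rw [hI, Ideal.mem_bot, ← map_mul] at h2
    have h3 := congrArg (Scheme.ΓSpecIso (CommRingCat.of A)).inv.hom h2
    rw [← CommRingCat.comp_apply, Iso.hom_inv_id, map_zero] at h3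
    exact h3

end Base

section Main

theorem S18231_main (S : Scheme.{u}) (M : Type) [AddCommGroup M] [AddGroup.FG M]
    (N : AddSubmonoid M) {X Y : Over S} (aX : Magnet.MonAct (Magnet.AMonS S M) X)
    (aY : Magnet.MonAct (Magnet.AMonS S M) Y) (f : X ⟶ Y) (hf : Magnet.MonAct.IsEquivariant aX aY f)
    [Smooth f.left] (A : Type u) [CommRing A] (I : Ideal A) (hI : I ^ 2 = ⊥)
    (str : Spec (CommRingCat.of A) ⟶ S)
    (x : (Magnet.attr aX N).obj (op (Over.mk (Spec.map (CommRingCat.ofHom (Ideal.Quotient.mk I)) ≫ str))))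
    (y : (Magnet.attr aY N).obj (op (Over.mk str)))
    (h : (Magnet.MonAct.eqvHom.postcomp (Magnet.subAct S M N) f hf).app _ x =
      (Magnet.attr aY N).map (Over.homMk (Spec.map (CommRingCat.ofHom (Ideal.Quotient.mk I))) rfl :
        Over.mk (Spec.map (CommRingCat.ofHom (Ideal.Quotient.mk I)) ≫ str) ⟶ Over.mk str).op y) :
    ∃ l : (Magnet.attr aX N).obj (op (Over.mk str)),
      (Magnet.attr aX N).map (Over.homMk (Spec.map (CommRingCat.ofHom (Ideal.Quotient.mk I))) rfl :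
        Over.mk (Spec.map (CommRingCat.ofHom (Ideal.Quotient.mk I)) ≫ str) ⟶ Over.mk str).op l = x ∧
      (Magnet.MonAct.eqvHom.postcomp (Magnet.subAct S M N) f hf).app _ l = y := by
  obtain ⟨𝔭, h𝔭⟩ : ∃ 𝔭 : Pair S, 𝔭 = (Pair.base A I hI str).tens ↥N := ⟨_, rfl⟩
  have hxy : (AMonS S ↥N ◁ ιI A I str) ≫ y.1 = x.1 ≫ f := (congrArg Subtype.val h).symm
  have hi : MonAct.IsEquivariant
      ((subAct S M N).prod (MonAct.trivial (AMonS S M)
        (Over.mk (Spec.map (CommRingCat.ofHom (Ideal.Quotient.mk I)) ≫ str))))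
      ((subAct S M N).prod (MonAct.trivial (AMonS S M) (Over.mk str)))
      (AMonS S ↥N ◁ ιI A I str) :=
    MonAct.prod_trivial_act_whiskerLeft (subAct S M N) (ιI A I str)
  obtain ⟨l₀, hl1, hl2⟩ := exists_lift_of_smooth ((Pair.base A I hI str).tens ↥N) f x.1 y.1 hxy
  obtain ⟨l, hleq, hlx, hly⟩ := exists_equivariant_lift ((Pair.base A I hI str).tens ↥N)
    _ _ hi aX aY f hf x.1 x.2 y.1 y.2 l₀ hl1 hl2
  exact ⟨⟨l, hleq⟩, Subtype.ext hlx, Subtype.ext hly⟩

end Main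

end Groth.Agent.H9.EL
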