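import Mathlib
import Groth.Prelude.Def_Magnet4
import Groth.Agent.Lib.Helper9.Misc.EL3
import Groth.Agent.Lib.Helper9.Misc.EBT
import Groth.Agent.Lib.Helper9.Misc.PIN19

/-!
# Helper9: EL5 — gluing two closed subschemes of an affine scheme along a retraction (Ferrand pushout),
and its stability under `D(M) × -`
-/

set_option linter.style.haveILetI false
set_option linter.unusedSectionVars false
set_option autoImplicit false

namespace Groth.Agent.H9.EL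

universe u

open CategoryTheory CategoryTheory.Limits AlgebraicGeometry MonoidalCategory
  CartesianMonoidalCategory MonObj Opposite
open Magnet
open Groth.Agent.H9.MagKun Groth.Agent.H9.MagChr Groth.Agent.H9.MagPts Groth.Agent.H9.PIN

section PB

variable {S : Scheme.{u}}

/-- pull-back of global functions -/
noncomputable def pb {A B : Over S} (m : A ⟶ B) : Γ(B.left, ⊤) →+* Γ(A.left, ⊤) :=
  m.left.appTop.hom

theorem pb_comp {A B C : Over S} (m : A ⟶ B) (n : B ⟶ C) (x : Γ(C.left, ⊤)) :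
    pb (m ≫ n) x = pb m (pb n x) := by
  unfold pb
  rw [Over.comp_left, Scheme.Hom.comp_appTop]
  rfl

theorem pb_id {A : Over S} (x : Γ(A.left, ⊤)) : pb (𝟙 A) x = x := by
  unfold pb
  rw [Over.id_left, Scheme.Hom.id_appTop]
  rfl

end PB

section RPmap

variable {R A' B A : Type*} [CommRing R] [CommRing A'] [CommRing B] [CommRing A]
  {α : R →+* A'} {β : R →+* B} {p : A' →+* A} {q : B →+* A}

/-- pinchings of rings are stable under passing to monoid algebras -/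
theorem ringPinch_map (G : Type*) [CommMonoid G] (h : RingPinch α β p q) :
    RingPinch (MonoidAlgebra.mapRingHom G α) (MonoidAlgebra.mapRingHom G β)
      (MonoidAlgebra.mapRingHom G p) (MonoidAlgebra.mapRingHom G q) := by
  classical
  refine ⟨?_, ?_, ?_, ?_⟩
  · intro r
    apply MonoidAlgebra.ext
    apply Finsupp.ext
    intro g
    rw [MonoidAlgebra.coeff_mapRingHom, MonoidAlgebra.coeff_mapRingHom,
      MonoidAlgebra.coeff_mapRingHom, MonoidAlgebra.coeff_mapRingHom, h.comm]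
  · intro r h1 h2
    apply MonoidAlgebra.ext
    apply Finsupp.ext
    intro g
    have e1 := congrArg (fun w => w.coeff g) h1
    have e2 := congrArg (fun w => w.coeff g) h2
    simp only [MonoidAlgebra.coeff_mapRingHom, MonoidAlgebra.coeff_zero, Finsupp.coe_zero,
      Pi.zero_apply] at e1 e2
    exact h.inj _ e1 e2
  · intro a' b hab
    have hc : ∀ g, p (a'.coeff g) = q (b.coeff g) := by
      intro g
      have e := congrArg (fun w => w.coeff g) hab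
      simpa only [MonoidAlgebra.coeff_mapRingHom] using e
    choose c hc1 hc2 using fun g => h.glue (a'.coeff g) (b.coeff g) (hc g)
    have hsupp : ∀ g, c g ≠ 0 → g ∈ a'.coeff.support ∪ b.coeff.support := by
      intro g hg
      by_contra hn
      rw [Finset.mem_union, not_or, Finsupp.mem_support_iff, Finsupp.mem_support_iff, not_not,
        not_not] at hn
      apply hg
      apply h.inj
      · rw [hc1, hn.1]
      · rw [hc2, hn.2]
    refine ⟨MonoidAlgebra.ofCoeff (Finsupp.onFinset _ c hsupp), ?_, ?_⟩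
    · apply MonoidAlgebra.ext
      apply Finsupp.ext
      intro g
      rw [MonoidAlgebra.coeff_mapRingHom, MonoidAlgebra.coeff_ofCoeff, Finsupp.onFinset_apply, hc1]
    · apply MonoidAlgebra.ext
      apply Finsupp.ext
      intro g
      rw [MonoidAlgebra.coeff_mapRingHom, MonoidAlgebra.coeff_ofCoeff, Finsupp.onFinset_apply, hc2]
  · intro y
    induction y using MonoidAlgebra.induction_linear with
    | zero => exact ⟨0, map_zero _⟩
    | add y₁ y₂ h₁ h₂ =>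
      obtain ⟨x₁, rfl⟩ := h₁
      obtain ⟨x₂, rfl⟩ := h₂
      exact ⟨x₁ + x₂, map_add _ _ _⟩
    | single m b =>
      obtain ⟨a, rfl⟩ := h.surj b
      exact ⟨MonoidAlgebra.single m a, MonoidAlgebra.mapRingHom_single _ _ _⟩

end RPmap

section Glue

variable {S : Scheme.{u}} {Z₁₂ Z₁ Z₂ Z' : Over S}
  (u₁ : Z₁₂ ⟶ Z₁) (u₂ : Z₁₂ ⟶ Z₂) (v₁ : Z₁ ⟶ Z') (v₂ : Z₂ ⟶ Z') (sq : u₁ ≫ v₁ = u₂ ≫ v₂)
  (ρ' : Z' ⟶ Z₂) (ρ : Z₁ ⟶ Z₁₂) (h1 : v₂ ≫ ρ' = 𝟙 _) (h2 : u₁ ≫ ρ = 𝟙 _) (h3 : v₁ ≫ ρ' = ρ ≫ u₂)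
  (hsurj : Function.Surjective (pb v₁))

include sq h1 h2 h3 hsurj in
theorem exists_glue (b₁ : Γ(Z₁.left, ⊤)) (b₂ : Γ(Z₂.left, ⊤)) (h : pb u₁ b₁ = pb u₂ b₂) :
    ∃ a : Γ(Z'.left, ⊤), pb v₁ a = b₁ ∧ pb v₂ a = b₂ := by
  obtain ⟨a₀, ha₀⟩ := hsurj b₁
  refine ⟨a₀ - pb ρ' (pb v₂ a₀) + pb ρ' b₂, ?_, ?_⟩
  · have e1 : ∀ z, pb v₁ (pb ρ' z) = pb ρ (pb u₂ z) := by
      intro z
      rw [← pb_comp, h3, pb_comp]
    have e2 : pb u₂ (pb v₂ a₀) = pb u₁ b₁ := by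
      rw [← pb_comp, ← sq, pb_comp, ha₀]
    rw [map_add, map_sub, e1, e1, e2, ha₀, h]
    ring
  · have e1 : ∀ z, pb v₂ (pb ρ' z) = z := by
      intro z
      rw [← pb_comp, h1, pb_id]
    rw [map_add, map_sub, e1, e1]
    ring

variable [IsAffine Z₁₂.left] [IsAffine Z₁.left] [IsAffine Z₂.left] [IsAffine Z'.left]

include sq h1 h2 h3 hsurj in
/-- the union of the closed subschemes `Z₁` and `Z₂` of `Z'` is their push-out along `Z₁₂` -/
theorem exists_union :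
    ∃ (Z : Over S) (i : Z ⟶ Z') (j₁ : Z₁ ⟶ Z) (j₂ : Z₂ ⟶ Z), IsAffine Z.left ∧
      IsClosedImmersion i.left ∧ Function.Surjective (pb i) ∧
      (∀ a, pb i a = 0 ↔ pb v₁ a = 0 ∧ pb v₂ a = 0) ∧ j₁ ≫ i = v₁ ∧ j₂ ≫ i = v₂ ∧
      (∀ {W : Over S} (m : W ⟶ Z'), (∀ a, pb v₁ a = 0 → pb v₂ a = 0 → pb m a = 0) →
        ∃ w : W ⟶ Z, w ≫ i = m) ∧
      RingPinch (pb j₁) (pb j₂) (pb u₁) (pb u₂) := by
  obtain ⟨Z0, z, hcl, haff, hker, hsurjz, huniv⟩ := EB.exists_closed_affine' Z'.left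
    (RingHom.ker (pb v₁) ⊓ RingHom.ker (pb v₂))
  obtain ⟨i, hi⟩ : ∃ i : Over.mk (z ≫ Z'.hom) ⟶ Z', i.left = z := ⟨Over.homMk z rfl, rfl⟩
  have hker' : ∀ a, pb i a = 0 ↔ pb v₁ a = 0 ∧ pb v₂ a = 0 := by
    intro a
    unfold pb
    rw [hi, hker, Ideal.mem_inf, RingHom.mem_ker, RingHom.mem_ker]
    rfl
  have huniv' : ∀ {W : Over S} (m : W ⟶ Z'), (∀ a, pb v₁ a = 0 → pb v₂ a = 0 → pb m a = 0) →
      ∃ w : W ⟶ Over.mk (z ≫ Z'.hom), w ≫ i = m := by
    intro W m hm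
    obtain ⟨w, hw⟩ := huniv m.left (by
      intro y hy
      rw [Ideal.mem_inf, RingHom.mem_ker, RingHom.mem_ker] at hy
      exact hm y hy.1 hy.2)
    refine ⟨Over.homMk w ?_, ?_⟩
    · change w ≫ z ≫ Z'.hom = W.hom
      rw [← Category.assoc, hw, Over.w]
    · apply Over.OverMorphism.ext
      rw [Over.comp_left, hi]
      exact hw
  obtain ⟨j₁, hj₁⟩ := huniv' v₁ (fun a ha _ => ha)
  obtain ⟨j₂, hj₂⟩ := huniv' v₂ (fun a _ ha => ha)
  haveI : IsClosedImmersion i.left := by rw [hi]; exact hcl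
  have hsi : Function.Surjective (pb i) := by
    unfold pb
    rw [hi]
    exact hsurjz
  refine ⟨Over.mk (z ≫ Z'.hom), i, j₁, j₂, haff, inferInstance, hsi, hker', hj₁, hj₂, huniv', ?_⟩
  refine ⟨?_, ?_, ?_, ?_⟩
  · intro r
    obtain ⟨a, rfl⟩ := hsi r
    rw [← pb_comp, ← pb_comp, ← pb_comp, ← pb_comp, Category.assoc, Category.assoc, hj₁, hj₂, sq]
  · intro r hr1 hr2
    obtain ⟨a, rfl⟩ := hsi r
    rw [← pb_comp, hj₁] at hr1
    rw [← pb_comp, hj₂] at hr2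
    exact (hker' a).mpr ⟨hr1, hr2⟩
  · intro b₁ b₂ hb
    obtain ⟨a, ha1, ha2⟩ := exists_glue u₁ u₂ v₁ v₂ sq ρ' ρ h1 h2 h3 hsurj b₁ b₂ hb
    refine ⟨pb i a, ?_, ?_⟩
    · rw [← pb_comp, hj₁, ha1]
    · rw [← pb_comp, hj₂, ha2]
  · intro z
    refine ⟨pb ρ z, ?_⟩
    rw [← pb_comp, h2, pb_id]

end Glue

section GSquare

variable {S : Scheme.{u}} (M : Type) [AddCommGroup M] {Z₁₂ Z₁ Z₂ Z : Over S}
  [IsAffine Z₁₂.left] [IsAffine Z₁.left] [IsAffine Z₂.left] [IsAffine Z.left]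
  (u₁ : Z₁₂ ⟶ Z₁) (u₂ : Z₁₂ ⟶ Z₂) (j₁ : Z₁ ⟶ Z) (j₂ : Z₂ ⟶ Z)

theorem isPushout_of_ringPinch (sq : u₁ ≫ j₁ = u₂ ≫ j₂)
    (h : RingPinch (pb j₁) (pb j₂) (pb u₁) (pb u₂)) :
    IsPushout u₁.left u₂.left j₁.left j₂.left := by
  have sq' : u₁.left ≫ j₁.left = u₂.left ≫ j₂.left := by
    rw [← Over.comp_left, ← Over.comp_left, sq]
  exact (isPinch_of_isAffine sq' h).isPushout

theorem ringPinch_whisker (h : RingPinch (pb j₁) (pb j₂) (pb u₁) (pb u₂)) :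
    RingPinch (pb (AMonS S M ◁ j₁)) (pb (AMonS S M ◁ j₂)) (pb (AMonS S M ◁ u₁))
      (pb (AMonS S M ◁ u₂)) := by
  refine (ringPinch_map (Multiplicative M) h).of_bijective (kappa S M Z) (kappa S M Z₁)
    (kappa S M Z₂) (kappa S M Z₁₂) (kappa_bijective S M Z) (kappa_bijective S M Z₁)
    (kappa_bijective S M Z₂) (kappa_bijective S M Z₁₂) ?_ ?_ ?_ ?_
  · intro r
    exact kappa_natT S M j₁ r
  · intro r
    exact kappa_natT S M j₂ r
  · intro r
    exact kappa_natT S M u₁ r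
  · intro r
    exact kappa_natT S M u₂ r

theorem isPushout_whisker (sq : u₁ ≫ j₁ = u₂ ≫ j₂)
    (h : RingPinch (pb j₁) (pb j₂) (pb u₁) (pb u₂)) :
    IsPushout (AMonS S M ◁ u₁).left (AMonS S M ◁ u₂).left (AMonS S M ◁ j₁).left
      (AMonS S M ◁ j₂).left := by
  haveI : IsAffine (AMonS S M ⊗ Z₁₂).left := MGU.affine_tensor _ _
  haveI : IsAffine (AMonS S M ⊗ Z₁).left := MGU.affine_tensor _ _
  haveI : IsAffine (AMonS S M ⊗ Z₂).left := MGU.affine_tensor _ _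
  haveI : IsAffine (AMonS S M ⊗ Z).left := MGU.affine_tensor _ _
  apply isPushout_of_ringPinch _ _ _ _ _ (ringPinch_whisker M u₁ u₂ j₁ j₂ h)
  rw [← MonoidalCategory.whiskerLeft_comp, ← MonoidalCategory.whiskerLeft_comp, sq]

end GSquare

end Groth.Agent.H9.EL
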