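import Mathlib
import Groth.Prelude.Def_Magnet4
import Groth.Agent.Lib.Helper9.Misc.MagPushA
import Groth.Agent.Lib.Helper9.Misc.MGU2
import Groth.Agent.Lib.Helper9.Misc.SIM1

/-! Helper9: `A(N')_S` is the push-out of `A(L')_S ← A(L)_S → A(N)_S` for `N' = L' ∖ (L ∖ N)`,
also after `- ×_S T`. -/

set_option linter.style.haveILetI false
set_option linter.unusedSectionVars false
set_option autoImplicit false

namespace Groth.Agent.H9.MagPush

universe u

open CategoryTheory CategoryTheory.Limits AlgebraicGeometry MonoidalCategory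
  CartesianMonoidalCategory MonObj Opposite
open Magnet
open Groth.Agent.H9.MagKun Groth.Agent.H9.MagLoc Groth.Agent.H9.PIN

variable {S : Scheme.{u}} {M : Type} [AddCommMonoid M] {N N' L L' : AddSubmonoid M}
  (hNL : N ≤ L) (hN'L' : N' ≤ L') (hL : IsFace L' L) (hN : IsFace N' N)
  (hdiff : (N' : Set M) = (L' : Set M) \ ((L : Set M) \ (N : Set M)))

include hdiff in
theorem comm_AMon (R : Type u) [CommRing R] :
    AMon.faceMap R hL ≫ AMon.map R (AddSubmonoid.inclusion hN'L') =
      AMon.map R (AddSubmonoid.inclusion hNL) ≫ AMon.faceMap R hN := by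
  rw [AMon.map_eq_pt, AMon.map_eq_pt, AMon.faceMap, AMon.faceMap, ← CoactBr.pt_comp,
    ← CoactBr.pt_comp]
  congr 1
  apply AlgHom.ext
  intro r
  exact (ringPinch R N N' L L' hNL hN'L' hL hN hdiff).comm r

include hdiff in
theorem comm_AMonS :
    AMonS.faceMap S hL ≫ AMonS.map S (AddSubmonoid.inclusion hN'L') =
      AMonS.map S (AddSubmonoid.inclusion hNL) ≫ AMonS.faceMap S hN := by
  rw [AMonS.faceMap, AMonS.map, AMonS.map, AMonS.faceMap, ← Functor.map_comp, ← Functor.map_comp,
    comm_AMon hNL hN'L' hL hN hdiff]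

include hdiff in
theorem isPinch_affine (T : Over S) [IsAffine T.left] :
    IsPinch (AMonS.faceMap S hL ▷ T).left (AMonS.map S (AddSubmonoid.inclusion hNL) ▷ T).left
      (AMonS.map S (AddSubmonoid.inclusion hN'L') ▷ T).left (AMonS.faceMap S hN ▷ T).left := by
  haveI : IsAffine (AMonS S ↥N ⊗ T).left := MGU.affine_tensor _ T
  haveI : IsAffine (AMonS S ↥N' ⊗ T).left := MGU.affine_tensor _ T
  haveI : IsAffine (AMonS S ↥L ⊗ T).left := MGU.affine_tensor _ T
  haveI : IsAffine (AMonS S ↥L' ⊗ T).left := MGU.affine_tensor _ T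
  apply isPinch_of_isAffine
  · rw [← Over.comp_left, ← Over.comp_left, ← comp_whiskerRight, ← comp_whiskerRight,
      comm_AMonS hNL hN'L' hL hN hdiff]
  · exact (ringPinch Γ(T.left, ⊤) N N' L L' hNL hN'L' hL hN hdiff).of_bijective
      (kappa S ↥N' T) (kappa S ↥L' T) (kappa S ↥N T) (kappa S ↥L T)
      (kappa_bijective S ↥N' T) (kappa_bijective S ↥L' T) (kappa_bijective S ↥N T)
      (kappa_bijective S ↥L T)
      (fun r => kappa_natM S ↥L' T (AddSubmonoid.inclusion hN'L') r)
      (fun r => kappa_face S hN T r)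
      (fun x => kappa_face S hL T x)
      (fun y => kappa_natM S ↥L T (AddSubmonoid.inclusion hNL) y)

section Charts

theorem exists_chart (T : Over S) (t : T.left) :
    ∃ (TV : Over S) (jV : TV ⟶ T), IsAffine TV.left ∧ IsOpenImmersion jV.left ∧
      t ∈ Set.range jV.left := by
  obtain ⟨V, hV, htV, -⟩ := exists_isAffineOpen_mem_and_subset (x := t) (U := ⊤) trivial
  refine ⟨Over.mk (V.ι ≫ T.hom), Over.homMk V.ι rfl, hV, ?_, ?_⟩
  · exact inferInstanceAs (IsOpenImmersion V.ι)
  · change t ∈ Set.range V.ι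
    rw [Scheme.Opens.range_ι]
    exact htV

theorem isOpenImmersion_whiskerLeft (C : Over S) {T' T : Over S} (g : T' ⟶ T)
    [IsOpenImmersion g.left] : IsOpenImmersion (C ◁ g).left :=
  MorphismProperty.of_isPullback (P := @IsOpenImmersion) (SIM.isPullback_whiskerLeft_left C g)
    inferInstance

theorem mem_range_whiskerLeft (C : Over S) {T' T : Over S} (g : T' ⟶ T) (x : (C ⊗ T).left)
    (y : T'.left) (h : g.left y = (snd C T).left x) : x ∈ Set.range (C ◁ g).left := by
  obtain ⟨p, -, hp⟩ := Scheme.exists_preimage_of_isPullback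
    (SIM.isPullback_whiskerLeft_left C g) y x h
  exact ⟨p, hp⟩

theorem snd_of_mem_range {C C' : Over S} (f : C ⟶ C') {T' T : Over S} (g : T' ⟶ T)
    (x : (C ⊗ T).left) (hx : (f ▷ T).left x ∈ Set.range (C' ◁ g).left) :
    x ∈ Set.range (C ◁ g).left := by
  obtain ⟨p₁, hp₁⟩ := hx
  apply mem_range_whiskerLeft C g x ((snd C' T').left p₁)
  have e1 : (snd C' T).left ((f ▷ T).left x) = (snd C T).left x := by
    rw [← Scheme.Hom.comp_apply, ← Over.comp_left, whiskerRight_snd]
  have e2 : (snd C' T).left ((C' ◁ g).left p₁) = g.left ((snd C' T').left p₁) := by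
    rw [← Scheme.Hom.comp_apply, ← Over.comp_left, whiskerLeft_snd, Over.comp_left,
      Scheme.Hom.comp_apply]
  rw [← e2, hp₁, e1]

end Charts

include hdiff in
theorem isPinch_whisker (T : Over S) :
    IsPinch (AMonS.faceMap S hL ▷ T).left (AMonS.map S (AddSubmonoid.inclusion hNL) ▷ T).left
      (AMonS.map S (AddSubmonoid.inclusion hN'L') ▷ T).left (AMonS.faceMap S hN ▷ T).left := by
  have sq : ∀ T' : Over S, (AMonS.faceMap S hL ▷ T').left ≫
      (AMonS.map S (AddSubmonoid.inclusion hN'L') ▷ T').left =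
      (AMonS.map S (AddSubmonoid.inclusion hNL) ▷ T').left ≫ (AMonS.faceMap S hN ▷ T').left := by
    intro T'
    rw [← Over.comp_left, ← Over.comp_left, ← comp_whiskerRight, ← comp_whiskerRight,
      comm_AMonS hNL hN'L' hL hN hdiff]
  refine IsPinch.of_local (sq T) (fun p => ?_)
  obtain ⟨TV, jV, hTV, hjV, y, hy⟩ := exists_chart T ((snd (AMonS S ↥N') T).left p)
  haveI := hTV
  haveI := hjV
  refine ⟨_, _, _, _, (AMonS.faceMap S hL ▷ TV).left,
    (AMonS.map S (AddSubmonoid.inclusion hNL) ▷ TV).left,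
    (AMonS.map S (AddSubmonoid.inclusion hN'L') ▷ TV).left, (AMonS.faceMap S hN ▷ TV).left,
    (AMonS S ↥L ◁ jV).left, (AMonS S ↥L' ◁ jV).left, (AMonS S ↥N ◁ jV).left,
    (AMonS S ↥N' ◁ jV).left, ?_, isPinch_affine hNL hN'L' hL hN hdiff TV, ?_⟩
  · exact
      { hn := isOpenImmersion_whiskerLeft _ jV
        hu := isOpenImmersion_whiskerLeft _ jV
        hv := isOpenImmersion_whiskerLeft _ jV
        hw := isOpenImmersion_whiskerLeft _ jV
        sq := sq T
        sq₁ := sq TV
        hi := by rw [← Over.comp_left, ← Over.comp_left, whisker_exchange]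
        hj := by rw [← Over.comp_left, ← Over.comp_left, whisker_exchange]
        ha := by rw [← Over.comp_left, ← Over.comp_left, whisker_exchange]
        hb := by rw [← Over.comp_left, ← Over.comp_left, whisker_exchange]
        cu := fun x hx => snd_of_mem_range _ jV x hx
        cv := fun x hx => snd_of_mem_range _ jV x hx
        cn := fun x hx => snd_of_mem_range _ jV x hx }
  · exact mem_range_whiskerLeft _ jV p y hy

include hdiff in
theorem isPushout_whisker (T : Over S) :
    IsPushout (AMonS.faceMap S hL ▷ T) (AMonS.map S (AddSubmonoid.inclusion hNL) ▷ T)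
      (AMonS.map S (AddSubmonoid.inclusion hN'L') ▷ T) (AMonS.faceMap S hN ▷ T) := by
  have h := (isPinch_whisker hNL hN'L' hL hN hdiff T).isPushout
  exact IsPushout.of_map (Over.forget S)
    (by rw [← comp_whiskerRight, ← comp_whiskerRight, comm_AMonS hNL hN'L' hL hN hdiff]) h

include hdiff in
theorem isPushout :
    IsPushout (AMonS.faceMap S hL) (AMonS.map S (AddSubmonoid.inclusion hNL))
      (AMonS.map S (AddSubmonoid.inclusion hN'L')) (AMonS.faceMap S hN) :=
  (isPushout_whisker hNL hN'L' hL hN hdiff (𝟙_ (Over S))).of_iso (ρ_ _) (ρ_ _) (ρ_ _) (ρ_ _)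
    (rightUnitor_naturality _) (rightUnitor_naturality _) (rightUnitor_naturality _)
    (rightUnitor_naturality _)

end Groth.Agent.H9.MagPush
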