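import Mathlib
import Groth.Prelude.Def_Magnet4
import Groth.Agent.Lib.Helper9.Misc.MagPushB

/-! Helper9: the square of attractors `X^{N'} = X^{L'} ×_{X^L} X^N` for `N' = L' ∖ (L ∖ N)`. -/

set_option linter.style.haveILetI false
set_option linter.unusedSectionVars false
set_option autoImplicit false

namespace Groth.Agent.H9.MagPush

universe u v₁ u₁

open CategoryTheory CategoryTheory.Limits AlgebraicGeometry MonoidalCategory
  CartesianMonoidalCategory MonObj Opposite
open Magnet

section Abstract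

variable {C : Type u₁} [Category.{v₁} C] [CartesianMonoidalCategory C]

/-- the swap `A ⊗ (G ⊗ T) ⟶ G ⊗ (A ⊗ T)` -/
def sw (G A T : C) : A ⊗ (G ⊗ T) ⟶ G ⊗ (A ⊗ T) :=
  lift (snd _ _ ≫ fst _ _) (lift (fst _ _) (snd _ _ ≫ snd _ _))

theorem sw_sw (G A T : C) : sw A G T ≫ sw G A T = 𝟙 _ := by
  unfold sw
  apply CartesianMonoidalCategory.hom_ext
  · simp
  · apply CartesianMonoidalCategory.hom_ext
    · simp
    · simp

theorem sw_nat (G T : C) {A A' : C} (f : A ⟶ A') :
    (f ▷ (G ⊗ T)) ≫ sw G A' T = sw G A T ≫ (G ◁ (f ▷ T)) := by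
  unfold sw
  apply CartesianMonoidalCategory.hom_ext
  · simp
  · apply CartesianMonoidalCategory.hom_ext
    · simp
    · simp

variable {G A A' : C} [MonObj G]

theorem isEquivariant_whiskerRight {ρ : MonAct G A} {ρ' : MonAct G A'} (f : A ⟶ A')
    (hf : MonAct.IsEquivariant ρ ρ' f) (T : C) :
    MonAct.IsEquivariant (ρ.prod (MonAct.trivial G T)) (ρ'.prod (MonAct.trivial G T)) (f ▷ T) := by
  rw [MonAct.isEquivariant_iff] at hf ⊢
  intro W g z
  rw [← lift_comp_fst_snd z, MonAct.lift_prod_act_assoc, MonAct.lift_trivial_act,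
    lift_whiskerRight, lift_whiskerRight, MonAct.lift_prod_act, MonAct.lift_trivial_act,
    Category.assoc, hf]

end Abstract

variable {S : Scheme.{u}} {M : Type} [AddCommMonoid M] {N N' L L' : AddSubmonoid M}
  (hNL : N ≤ L) (hN'L' : N' ≤ L') (hL : IsFace L' L) (hN : IsFace N' N)
  (hdiff : (N' : Set M) = (L' : Set M) \ ((L : Set M) \ (N : Set M))) {X : Over S}

include hNL hL hdiff in
theorem joint_epi (T : Over S) (u v : AMonS S M ⊗ (AMonS S ↥N' ⊗ T) ⟶ X)
    (h1 : (AMonS S M ◁ (AMonS.map S (AddSubmonoid.inclusion hN'L') ▷ T)) ≫ u =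
      (AMonS S M ◁ (AMonS.map S (AddSubmonoid.inclusion hN'L') ▷ T)) ≫ v)
    (h2 : (AMonS S M ◁ (AMonS.faceMap S hN ▷ T)) ≫ u =
      (AMonS S M ◁ (AMonS.faceMap S hN ▷ T)) ≫ v) : u = v := by
  have hp := isPushout_whisker hNL hN'L' hL hN hdiff (AMonS S M ⊗ T)
  have key : sw (AMonS S M) (AMonS S ↥N') T ≫ u = sw (AMonS S M) (AMonS S ↥N') T ≫ v := by
    apply hp.hom_ext
    · rw [← Category.assoc, ← Category.assoc, sw_nat, Category.assoc, Category.assoc, h1]
    · rw [← Category.assoc, ← Category.assoc, sw_nat, Category.assoc, Category.assoc, h2]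
  have h3 := congrArg (fun e => sw (AMonS S ↥N') (AMonS S M) T ≫ e) key
  simp only [← Category.assoc, sw_sw, Category.id_comp] at h3
  exact h3

include hdiff in
theorem S18303_main (a : MonAct (AMonS S M) X) :
    IsPullback (attrMap a hN'L') (attrFace a hN) (attrFace a hL) (attrMap a hNL) := by
  apply IsPullback.of_forall_isPullback_app
  intro T
  rw [Types.isPullback_iff]
  refine ⟨?_, ?_, ?_⟩
  · ext φ
    apply Subtype.ext
    change (AMonS.faceMap S hL ▷ unop T) ≫
        (AMonS.map S (AddSubmonoid.inclusion hN'L') ▷ unop T) ≫ φ.1 =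
      (AMonS.map S (AddSubmonoid.inclusion hNL) ▷ unop T) ≫
        (AMonS.faceMap S hN ▷ unop T) ≫ φ.1
    rw [← comp_whiskerRight_assoc, ← comp_whiskerRight_assoc,
      comm_AMonS hNL hN'L' hL hN hdiff]
  · rintro φ φ' ⟨h1, h2⟩
    apply Subtype.ext
    exact (isPushout_whisker hNL hN'L' hL hN hdiff (unop T)).hom_ext
      (congrArg Subtype.val h1) (congrArg Subtype.val h2)
  · intro φ' φ hφ
    have hφ' : (AMonS.faceMap S hL ▷ unop T) ≫ φ'.1 =
        (AMonS.map S (AddSubmonoid.inclusion hNL) ▷ unop T) ≫ φ.1 := congrArg Subtype.val hφ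
    have hp := isPushout_whisker hNL hN'L' hL hN hdiff (unop T)
    obtain ⟨ψ, h1, h2⟩ : ∃ ψ : AMonS S ↥N' ⊗ unop T ⟶ X,
        (AMonS.map S (AddSubmonoid.inclusion hN'L') ▷ unop T) ≫ ψ = φ'.1 ∧
        (AMonS.faceMap S hN ▷ unop T) ≫ ψ = φ.1 :=
      ⟨hp.desc φ'.1 φ.1 hφ', hp.inl_desc _ _ _, hp.inr_desc _ _ _⟩
    have heq : MonAct.IsEquivariant
        ((subAct S M N').prod (MonAct.trivial (AMonS S M) (unop T))) a ψ := by
      unfold MonAct.IsEquivariant
      apply joint_epi hNL hN'L' hL hN hdiff (unop T)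
      · have e1 := isEquivariant_whiskerRight (AMonS.map S (AddSubmonoid.inclusion hN'L'))
          (show MonAct.IsEquivariant (subAct S M L') (subAct S M N')
            (AMonS.map S (AddSubmonoid.inclusion hN'L')) from
            MonAct.isEquivariant_restrict_regular _ _ _ (by rw [← AMonS.map_comp]; rfl))
          (unop T)
        unfold MonAct.IsEquivariant at e1
        rw [← Category.assoc, ← e1, Category.assoc, h1,
          ← MonoidalCategory.whiskerLeft_comp_assoc, h1]
        exact φ'.2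
      · have e1 := isEquivariant_whiskerRight (AMonS.faceMap S hN)
          (isEquivariant_faceMapS S hN) (unop T)
        unfold MonAct.IsEquivariant at e1
        rw [← Category.assoc, ← e1, Category.assoc, h2,
          ← MonoidalCategory.whiskerLeft_comp_assoc, h2]
        exact φ.2
    exact ⟨⟨ψ, heq⟩, Subtype.ext h1, Subtype.ext h2⟩

end Groth.Agent.H9.MagPush
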