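import Mathlib
import Groth.Prelude.Def_Magnet4
import Groth.Agent.Lib.Helper9.Misc.EL4
import Groth.Agent.Lib.Helper9.Misc.EL5
import Groth.Agent.Lib.Helper9.Misc.EBS
import Groth.Agent.Lib.Helper9.Misc.MEX1
import Groth.Agent.Lib.Helper9.Misc.MagPushC

/-!
# Helper9: EL6 — formal smoothness of the face projection `X^N → X^F` for `X` smooth over `S` (S18240)
-/

set_option linter.style.haveILetI false
set_option linter.unusedSectionVars false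
set_option autoImplicit false

namespace Groth.Agent.H9.EL

universe u

open CategoryTheory CategoryTheory.Limits AlgebraicGeometry MonoidalCategory
  CartesianMonoidalCategory MonObj Opposite
open Magnet
open Groth.Agent.H9.MagKun Groth.Agent.H9.MagChr Groth.Agent.H9.MagPts Groth.Agent.H9.PIN

section Gen

variable {S : Scheme.{u}} {M : Type} [AddCommGroup M] {N F : AddSubmonoid M} (hF : IsFace N F)
  (𝔭₀ : Pair S) {X : Over S} [Smooth X.hom] (a : MonAct (AMonS S M) X)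

/-- the general form: lifting along `A(N) × T ∪ A(F) × T' ⊂ A(N) × T'` for a pair `T ⊂ T'`. -/
theorem face_lift (x : (attr a N).obj (op 𝔭₀.Z)) (y : (attr a F).obj (op 𝔭₀.Z'))
    (h : (attrFace a hF).app _ x = (attr a F).map 𝔭₀.i.op y) :
    ∃ l : (attr a N).obj (op 𝔭₀.Z'),
      (attr a N).map 𝔭₀.i.op l = x ∧ (attrFace a hF).app _ l = y := by
  -- notation
  obtain ⟨φ, hφ⟩ : ∃ φ : AMonS S ↥F ⟶ AMonS S ↥N, φ = AMonS.faceMap S hF := ⟨_, rfl⟩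
  obtain ⟨r, hr⟩ : ∃ r : AMonS S ↥N ⟶ AMonS S ↥F,
      r = AMonS.map S (AddSubmonoid.inclusion hF.le) := ⟨_, rfl⟩
  have hφr : φ ≫ r = 𝟙 _ := by rw [hφ, hr, AMonS.faceMap_comp_map]
  have hφeq : MonAct.IsEquivariant (subAct S M F) (subAct S M N) φ := by
    rw [hφ]; exact isEquivariant_faceMapS S hF
  have hxy : (φ ▷ 𝔭₀.Z) ≫ x.1 = (AMonS S ↥F ◁ 𝔭₀.i) ≫ y.1 := by
    rw [hφ]
    exact congrArg Subtype.val h
  haveI : IsAffine (AMonS S ↥F ⊗ 𝔭₀.Z).left := MGU.affine_tensor _ _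
  haveI : IsAffine (AMonS S ↥N ⊗ 𝔭₀.Z).left := MGU.affine_tensor _ _
  haveI : IsAffine (AMonS S ↥F ⊗ 𝔭₀.Z').left := MGU.affine_tensor _ _
  haveI : IsAffine (AMonS S ↥N ⊗ 𝔭₀.Z').left := MGU.affine_tensor _ _
  have sq : (φ ▷ 𝔭₀.Z) ≫ (AMonS S ↥N ◁ 𝔭₀.i) = (AMonS S ↥F ◁ 𝔭₀.i) ≫ (φ ▷ 𝔭₀.Z') :=
    (whisker_exchange φ 𝔭₀.i).symm
  have h1 : (φ ▷ 𝔭₀.Z') ≫ (r ▷ 𝔭₀.Z') = 𝟙 _ := by
    rw [← comp_whiskerRight, hφr, id_whiskerRight]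
  have h2 : (φ ▷ 𝔭₀.Z) ≫ (r ▷ 𝔭₀.Z) = 𝟙 _ := by
    rw [← comp_whiskerRight, hφr, id_whiskerRight]
  have h3 : (AMonS S ↥N ◁ 𝔭₀.i) ≫ (r ▷ 𝔭₀.Z') = (r ▷ 𝔭₀.Z) ≫ (AMonS S ↥F ◁ 𝔭₀.i) :=
    whisker_exchange r 𝔭₀.i
  obtain ⟨Z, i, j₁, j₂, haff, hcl, hsi, hker, hj₁, hj₂, huniv, hRP⟩ :=
    exists_union (φ ▷ 𝔭₀.Z) (AMonS S ↥F ◁ 𝔭₀.i) (AMonS S ↥N ◁ 𝔭₀.i) (φ ▷ 𝔭₀.Z') sq
      (r ▷ 𝔭₀.Z') (r ▷ 𝔭₀.Z) h1 h2 h3 (whisker_surjective ↥N 𝔭₀)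
  haveI : IsAffine Z.left := haff
  haveI : IsClosedImmersion i.left := hcl
  haveI : Mono i := MEX.mono_of_closedImmersion i
  have hjsq : (φ ▷ 𝔭₀.Z) ≫ j₁ = (AMonS S ↥F ◁ 𝔭₀.i) ≫ j₂ := by
    rw [← cancel_mono i, Category.assoc, Category.assoc, hj₁, hj₂, sq]
  -- the pair
  obtain ⟨𝔮, h𝔮⟩ : ∃ 𝔮 : Pair S, 𝔮 = ⟨Z, AMonS S ↥N ⊗ 𝔭₀.Z', i, haff, MGU.affine_tensor _ _, hsi,
      fun c d hc hd => whisker_sq ↥N 𝔭₀ c d ((hker c).mp hc).1 ((hker d).mp hd).1⟩ := ⟨_, rfl⟩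
  -- the actions
  obtain ⟨a₁, ha₁⟩ : ∃ a₁ : MonAct (AMonS S M) (AMonS S ↥N ⊗ 𝔭₀.Z),
      a₁ = (subAct S M N).prod (MonAct.trivial (AMonS S M) 𝔭₀.Z) := ⟨_, rfl⟩
  obtain ⟨a₂, ha₂⟩ : ∃ a₂ : MonAct (AMonS S M) (AMonS S ↥F ⊗ 𝔭₀.Z'),
      a₂ = (subAct S M F).prod (MonAct.trivial (AMonS S M) 𝔭₀.Z') := ⟨_, rfl⟩
  obtain ⟨a', ha'⟩ : ∃ a' : MonAct (AMonS S M) (AMonS S ↥N ⊗ 𝔭₀.Z'),
      a' = (subAct S M N).prod (MonAct.trivial (AMonS S M) 𝔭₀.Z') := ⟨_, rfl⟩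
  have hv₁ : MonAct.IsEquivariant a₁ a' (AMonS S ↥N ◁ 𝔭₀.i) := by
    rw [ha₁, ha']
    exact MonAct.prod_trivial_act_whiskerLeft (subAct S M N) 𝔭₀.i
  have hv₂ : MonAct.IsEquivariant a₂ a' (φ ▷ 𝔭₀.Z') := by
    rw [ha₂, ha']
    exact MagPush.isEquivariant_whiskerRight φ hφeq 𝔭₀.Z'
  have hx : MonAct.IsEquivariant a₁ a x.1 := by rw [ha₁]; exact x.2
  have hy : MonAct.IsEquivariant a₂ a y.1 := by rw [ha₂]; exact y.2
  -- the pinching stays one after `G × -`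
  have hRPG := ringPinch_whisker M (φ ▷ 𝔭₀.Z) (AMonS S ↥F ◁ 𝔭₀.i) j₁ j₂ hRP
  have hPOG := isPushout_whisker M (φ ▷ 𝔭₀.Z) (AMonS S ↥F ◁ 𝔭₀.i) j₁ j₂ hjsq hRP
  have hPO := isPushout_of_ringPinch (φ ▷ 𝔭₀.Z) (AMonS S ↥F ◁ 𝔭₀.i) j₁ j₂ hjsq hRP
  -- the action on `Z`
  obtain ⟨aZ, haZ⟩ : ∃ aZ : AMonS S M ⊗ Z ⟶ Z, aZ ≫ i = (AMonS S M ◁ i) ≫ a'.act := by
    apply huniv
    intro c hc1 hc2
    apply hRPG.inj
    · rw [← pb_comp, ← Category.assoc, ← MonoidalCategory.whiskerLeft_comp, hj₁, ← hv₁, pb_comp, hc1,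
        map_zero]
    · rw [← pb_comp, ← Category.assoc, ← MonoidalCategory.whiskerLeft_comp, hj₂, ← hv₂, pb_comp, hc2,
        map_zero]
  have haZ₁ : (AMonS S M ◁ j₁) ≫ aZ = a₁.act ≫ j₁ := by
    rw [← cancel_mono i, Category.assoc, haZ, ← MonoidalCategory.whiskerLeft_comp_assoc, hj₁,
      Category.assoc, hj₁]
    exact hv₁.symm
  have haZ₂ : (AMonS S M ◁ j₂) ≫ aZ = a₂.act ≫ j₂ := by
    rw [← cancel_mono i, Category.assoc, haZ, ← MonoidalCategory.whiskerLeft_comp_assoc, hj₂,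
      Category.assoc, hj₂]
    exact hv₂.symm
  -- the glued map
  obtain ⟨xZ, hxZ₁, hxZ₂⟩ : ∃ xZ : Z ⟶ X, j₁ ≫ xZ = x.1 ∧ j₂ ≫ xZ = y.1 := by
    have hw : (φ ▷ 𝔭₀.Z).left ≫ x.1.left = (AMonS S ↥F ◁ 𝔭₀.i).left ≫ y.1.left := by
      rw [← Over.comp_left, ← Over.comp_left, hxy]
    have hd1 : j₁.left ≫ hPO.desc x.1.left y.1.left hw = x.1.left := hPO.inl_desc _ _ _
    have hd2 : j₂.left ≫ hPO.desc x.1.left y.1.left hw = y.1.left := hPO.inr_desc _ _ _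
    have hov : hPO.desc x.1.left y.1.left hw ≫ X.hom = Z.hom := by
      apply hPO.hom_ext
      · rw [reassoc_of% hd1, Over.w, Over.w]
      · rw [reassoc_of% hd2, Over.w, Over.w]
    refine ⟨Over.homMk (hPO.desc x.1.left y.1.left hw) hov, ?_, ?_⟩
    · apply Over.OverMorphism.ext
      exact hd1
    · apply Over.OverMorphism.ext
      exact hd2
  have hxZ : aZ ≫ xZ = (AMonS S M ◁ xZ) ≫ a.act := by
    apply Over.OverMorphism.ext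
    apply hPOG.hom_ext
    · rw [← Over.comp_left, ← Over.comp_left, reassoc_of% haZ₁, hxZ₁,
        ← MonoidalCategory.whiskerLeft_comp_assoc, hxZ₁]
      exact congrArg (fun m => m.left) hx
    · rw [← Over.comp_left, ← Over.comp_left, reassoc_of% haZ₂, hxZ₂,
        ← MonoidalCategory.whiskerLeft_comp_assoc, hxZ₂]
      exact congrArg (fun m => m.left) hy
  -- apply the lifting theorem
  subst h𝔮
  have hsm : Smooth (toUnit X).left := by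
    change Smooth X.hom
    infer_instance
  obtain ⟨l₀, hl1, hl2⟩ := exists_lift_of_smooth
    (⟨Z, AMonS S ↥N ⊗ 𝔭₀.Z', i, haff, MGU.affine_tensor _ _, hsi,
      fun c d hc hd => whisker_sq ↥N 𝔭₀ c d ((hker c).mp hc).1 ((hker d).mp hd).1⟩ : Pair S)
    (toUnit X) xZ (toUnit _) (toUnit_unique _ _)
  obtain ⟨l, hleq, hlx, -⟩ := exists_equivariant_lift
    (⟨Z, AMonS S ↥N ⊗ 𝔭₀.Z', i, haff, MGU.affine_tensor _ _, hsi,
      fun c d hc hd => whisker_sq ↥N 𝔭₀ c d ((hker c).mp hc).1 ((hker d).mp hd).1⟩ : Pair S)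
    (EB.restrictAct a' i aZ haZ) a' (EB.isEquivariant_restrictAct a' i aZ haZ) a
    (MonAct.trivial (AMonS S M) (𝟙_ (Over S))) (toUnit X) (toUnit_unique _ _) xZ hxZ (toUnit _)
    (toUnit_unique _ _) l₀ hl1 (toUnit_unique _ _)
  have hleq' : MonAct.IsEquivariant
      ((subAct S M N).prod (MonAct.trivial (AMonS S M) 𝔭₀.Z')) a l := by rw [← ha']; exact hleq
  refine ⟨⟨l, hleq'⟩, Subtype.ext ?_, Subtype.ext ?_⟩
  · change (AMonS S ↥N ◁ 𝔭₀.i) ≫ l = x.1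
    rw [← hj₁, Category.assoc]
    have : i ≫ l = xZ := hlx
    rw [this, hxZ₁]
  · change (AMonS.faceMap S hF ▷ 𝔭₀.Z') ≫ l = y.1
    rw [← hφ, ← hj₂, Category.assoc]
    have : i ≫ l = xZ := hlx
    rw [this, hxZ₂]

end Gen

theorem S18240_main (S : Scheme.{u}) (M : Type) [AddCommGroup M] [AddGroup.FG M]
    {N F : AddSubmonoid M} (hF : Magnet.IsFace N F) {X : Over S} [Smooth X.hom]
    (a : Magnet.MonAct (Magnet.AMonS S M) X) (A : Type u) [CommRing A] (I : Ideal A) (hI : I ^ 2 = ⊥)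
    (str : Spec (CommRingCat.of A) ⟶ S)
    (x : (Magnet.attr a N).obj (op (Over.mk (Spec.map (CommRingCat.ofHom (Ideal.Quotient.mk I)) ≫ str))))
    (y : (Magnet.attr a F).obj (op (Over.mk str)))
    (h : (Magnet.attrFace a hF).app _ x = (Magnet.attr a F).map (Over.homMk (Spec.map (CommRingCat.ofHom (Ideal.Quotient.mk I))) rfl :
        Over.mk (Spec.map (CommRingCat.ofHom (Ideal.Quotient.mk I)) ≫ str) ⟶ Over.mk str).op y) :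
    ∃ l : (Magnet.attr a N).obj (op (Over.mk str)),
      (Magnet.attr a N).map (Over.homMk (Spec.map (CommRingCat.ofHom (Ideal.Quotient.mk I))) rfl :
        Over.mk (Spec.map (CommRingCat.ofHom (Ideal.Quotient.mk I)) ≫ str) ⟶ Over.mk str).op l = x ∧ (Magnet.attrFace a hF).app _ l = y :=
  face_lift hF (Pair.base A I hI str) a x y h

end Groth.Agent.H9.EL
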