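import Mathlib
import Groth.Agent.Lib.Helper9.Misc.MDP3
import Groth.Agent.Lib.Helper9.Misc.MDP8

/-!
# Ambient products with a fixed admissible blow-up: functoriality in the first factor
-/

set_option autoImplicit false

namespace Groth.Agent.H9.MSY

open CategoryTheory Limits AlgebraicGeometry Groth.Agent.H9.MDP

universe u

lemma isIso_restrict_congr {X Y : Scheme.{u}} (f : X ⟶ Y) {U V : Y.Opens} (h : U = V)
    (hU : IsIso (f ∣_ U)) : IsIso (f ∣_ V) := by
  subst h
  exact hU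

variable {B Yk : Scheme.{u}} (JB : B.IdealSheafData) (sk : Yk ⟶ B) (IYk : Yk.IdealSheafData)

section Obj

variable {T : Scheme.{u}} (t : T ⟶ B) (IT : T.IdealSheafData)

/-- the projection of the ambient product to the first factor -/
noncomputable abbrev rM : ModPair.mprod t sk IT IYk ⟶ T :=
  ModPair.mprodι t sk IT IYk ≫ pullback.fst t sk

/-- the projection of the ambient product to the blow-up -/
noncomputable abbrev qM : ModPair.mprod t sk IT IYk ⟶ Yk :=
  ModPair.mprodι t sk IT IYk ≫ pullback.snd t sk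

lemma rM_t : rM sk IYk t IT ≫ t = qM sk IYk t IT ≫ sk := by
  simp only [rM, qM, Category.assoc, pullback.condition]

include JB in
theorem isAdmBlowup_rM (hIT : ModPair.IsMinimal IT JB t)
    (hsk : ModPair.IsAdmBlowup IYk JB sk) :
    ModPair.IsAdmBlowup (IT.comap (rM sk IYk t IT)) IT (rM sk IYk t IT) := by
  haveI : IsProper sk := hsk.2.1
  haveI : IsIso (sk ∣_ ModPair.interior JB) := hsk.2.2
  refine ⟨rfl, inferInstance, ?_⟩
  have hW : ModPair.prodInterior t sk IT IYk = pullback.fst t sk ⁻¹ᵁ ModPair.interior IT :=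
    prodInterior_eq_fst JB IYk IT t (le_of_eq hIT) sk hsk.1
  have hle : ModPair.interior IT ≤ t ⁻¹ᵁ ModPair.interior JB := by
    rw [hIT]
    exact le_of_eq (interior_comap _ _)
  have h1 : IsIso (pullback.fst t sk ∣_ ModPair.interior IT) :=
    isIso_restrict_of_isPullback (IsPullback.of_hasPullback t sk).flip
      (ModPair.interior IT) (ModPair.interior JB) hle
  have h2 : IsIso (ModPair.mprodι t sk IT IYk ∣_ (pullback.fst t sk ⁻¹ᵁ ModPair.interior IT)) :=
    isIso_restrict_congr _ hW (isIso_imageι_restrict (ModPair.prodInterior t sk IT IYk))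
  have hcomp : rM sk IYk t IT ∣_ ModPair.interior IT =
      ModPair.mprodι t sk IT IYk ∣_ (pullback.fst t sk ⁻¹ᵁ ModPair.interior IT) ≫
        pullback.fst t sk ∣_ ModPair.interior IT := morphismRestrict_comp _ _ _
  rw [hcomp]
  exact @IsIso.comp_isIso _ _ _ _ _ _ _ h2 h1

end Obj

section Mor

variable {T T' : Scheme.{u}} (t : T ⟶ B) (IT : T.IdealSheafData) (t' : T' ⟶ B)
  (IT' : T'.IdealSheafData) (g : T ⟶ T') (hg : g ≫ t' = t)

/-- the map of fibre products -/
noncomputable def pmap : pullback t sk ⟶ pullback t' sk :=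
  pullback.map t sk t' sk g (𝟙 Yk) (𝟙 B) (by rw [Category.comp_id, hg]) (by simp)

@[reassoc (attr := simp)]
lemma pmap_fst : pmap sk t t' g hg ≫ pullback.fst t' sk = pullback.fst t sk ≫ g :=
  pullback.lift_fst _ _ _

@[reassoc (attr := simp)]
lemma pmap_snd : pmap sk t t' g hg ≫ pullback.snd t' sk = pullback.snd t sk :=
  (pullback.lift_snd _ _ _).trans (Category.comp_id _)

lemma isPullback_pmap :
    IsPullback (pmap sk t t' g hg) (pullback.fst t sk) (pullback.fst t' sk) g := by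
  have big : IsPullback (pmap sk t t' g hg ≫ pullback.snd t' sk) (pullback.fst t sk) sk
      (g ≫ t') := by
    rw [pmap_snd, hg]
    exact (IsPullback.of_hasPullback t sk).flip
  exact IsPullback.of_right big (pmap_fst sk t t' g hg) (IsPullback.of_hasPullback t' sk).flip

instance [IsAffineHom g] : IsAffineHom (pmap sk t t' g hg) :=
  MorphismProperty.of_isPullback (P := @IsAffineHom) (isPullback_pmap sk t t' g hg).flip
    inferInstance

include hg in
lemma prodInterior_le (hITg : IT = IT'.comap g) :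
    ModPair.prodInterior t sk IT IYk ≤
      pmap sk t t' g hg ⁻¹ᵁ ModPair.prodInterior t' sk IT' IYk := by
  intro x hx
  obtain ⟨h1, h2⟩ := hx
  refine ⟨?_, ?_⟩
  · show pullback.fst t' sk (pmap sk t t' g hg x) ∈ ModPair.interior IT'
    rw [← Scheme.Hom.comp_apply, pmap_fst, Scheme.Hom.comp_apply]
    have h3 : pullback.fst t sk x ∈ ModPair.interior IT := h1
    rw [hITg, interior_comap] at h3
    exact h3
  · show pullback.snd t' sk (pmap sk t t' g hg x) ∈ ModPair.interior IYk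
    rw [← Scheme.Hom.comp_apply, pmap_snd]
    exact h2

variable (hITeff : BlowUp.IsEffCartierIdeal IT) (hIYk : BlowUp.IsEffCartierIdeal IYk)
  (hITg : IT = IT'.comap g)

include hITeff hIYk hITg in
lemma ker_le :
    (ModPair.mprodι t' sk IT' IYk).ker ≤ (ModPair.mprodι t sk IT IYk ≫ pmap sk t t' g hg).ker := by
  haveI := isAffineHom_prodInterior t sk IT IYk hITeff hIYk
  haveI := dominant_preimage_image (ModPair.prodInterior t sk IT IYk)
  rw [Scheme.IdealSheafData.ker_subschemeι]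
  refine ker_le_of_dense (ModPair.prodInterior t' sk IT' IYk)
    (ModPair.mprodι t sk IT IYk ≫ pmap sk t t' g hg)
    (ModPair.mprodι t sk IT IYk ⁻¹ᵁ ModPair.prodInterior t sk IT IYk) ?_
  rw [Scheme.Hom.comp_preimage]
  exact Scheme.Hom.preimage_mono _ (prodInterior_le sk IYk t IT t' IT' g hg hITg)

/-- functoriality of the ambient product in the first factor -/
noncomputable def mmap : ModPair.mprod t sk IT IYk ⟶ ModPair.mprod t' sk IT' IYk :=
  IsClosedImmersion.lift (ModPair.mprodι t' sk IT' IYk)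
    (ModPair.mprodι t sk IT IYk ≫ pmap sk t t' g hg)
    (ker_le sk IYk t IT t' IT' g hg hITeff hIYk hITg)

@[reassoc]
lemma mmap_ι : mmap sk IYk t IT t' IT' g hg hITeff hIYk hITg ≫ ModPair.mprodι t' sk IT' IYk =
    ModPair.mprodι t sk IT IYk ≫ pmap sk t t' g hg :=
  IsClosedImmersion.lift_fac _ _ _

@[reassoc]
lemma mmap_r : mmap sk IYk t IT t' IT' g hg hITeff hIYk hITg ≫ rM sk IYk t' IT' =
    rM sk IYk t IT ≫ g := by
  simp only [rM, mmap_ι_assoc, pmap_fst, Category.assoc]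

@[reassoc]
lemma mmap_q : mmap sk IYk t IT t' IT' g hg hITeff hIYk hITg ≫ qM sk IYk t' IT' =
    qM sk IYk t IT := by
  simp only [qM, mmap_ι_assoc, pmap_snd]

lemma mmap_affine [IsAffineHom g] :
    IsAffineHom (mmap sk IYk t IT t' IT' g hg hITeff hIYk hITg) := by
  haveI : IsAffineHom (mmap sk IYk t IT t' IT' g hg hITeff hIYk hITg ≫
      ModPair.mprodι t' sk IT' IYk) := by
    rw [mmap_ι]
    infer_instance
  exact IsAffineHom.of_comp _ (ModPair.mprodι t' sk IT' IYk)

lemma mod_eq : IT.comap (rM sk IYk t IT) =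
    (IT'.comap (rM sk IYk t' IT')).comap (mmap sk IYk t IT t' IT' g hg hITeff hIYk hITg) := by
  rw [← Scheme.IdealSheafData.comap_comp IT', mmap_r,
    Scheme.IdealSheafData.comap_comp IT' (rM sk IYk t IT) g, ← hITg]

end Mor

section Fun

variable {T T' T'' : Scheme.{u}} (t : T ⟶ B) (IT : T.IdealSheafData) (t' : T' ⟶ B)
  (IT' : T'.IdealSheafData) (t'' : T'' ⟶ B) (IT'' : T''.IdealSheafData)

lemma mmap_congr (g g₁ : T ⟶ T') (h : g = g₁) (hg : g ≫ t' = t) (hg₁ : g₁ ≫ t' = t)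
    (hITeff : BlowUp.IsEffCartierIdeal IT) (hIYk : BlowUp.IsEffCartierIdeal IYk)
    (hITg : IT = IT'.comap g) (hITg₁ : IT = IT'.comap g₁) :
    mmap sk IYk t IT t' IT' g hg hITeff hIYk hITg =
      mmap sk IYk t IT t' IT' g₁ hg₁ hITeff hIYk hITg₁ := by
  subst h
  rfl

lemma pmap_comp (g : T ⟶ T') (g' : T' ⟶ T'') (hg : g ≫ t' = t) (hg' : g' ≫ t'' = t')
    (hgg' : (g ≫ g') ≫ t'' = t) :
    pmap sk t t'' (g ≫ g') hgg' = pmap sk t t' g hg ≫ pmap sk t' t'' g' hg' := by
  apply pullback.hom_ext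
  · rw [pmap_fst, Category.assoc, pmap_fst, pmap_fst_assoc]
  · rw [pmap_snd, Category.assoc, pmap_snd, pmap_snd]

lemma pmap_id (h : 𝟙 T ≫ t = t) : pmap sk t t (𝟙 T) h = 𝟙 _ := by
  apply pullback.hom_ext
  · rw [pmap_fst, Category.comp_id, Category.id_comp]
  · rw [pmap_snd, Category.id_comp]

lemma mmap_comp (g : T ⟶ T') (g' : T' ⟶ T'') (hg : g ≫ t' = t) (hg' : g' ≫ t'' = t')
    (hgg' : (g ≫ g') ≫ t'' = t)
    (hITeff : BlowUp.IsEffCartierIdeal IT) (hIT'eff : BlowUp.IsEffCartierIdeal IT')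
    (hIYk : BlowUp.IsEffCartierIdeal IYk)
    (hITg : IT = IT'.comap g) (hITg' : IT' = IT''.comap g') (hITgg' : IT = IT''.comap (g ≫ g')) :
    mmap sk IYk t IT t'' IT'' (g ≫ g') hgg' hITeff hIYk hITgg' =
      mmap sk IYk t IT t' IT' g hg hITeff hIYk hITg ≫
        mmap sk IYk t' IT' t'' IT'' g' hg' hIT'eff hIYk hITg' := by
  rw [← cancel_mono (ModPair.mprodι t'' sk IT'' IYk), mmap_ι, Category.assoc, mmap_ι,
    mmap_ι_assoc, pmap_comp sk t t' t'' g g' hg hg' hgg']

lemma mmap_id (h : 𝟙 T ≫ t = t) (hITeff : BlowUp.IsEffCartierIdeal IT)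
    (hIYk : BlowUp.IsEffCartierIdeal IYk) (hITg : IT = IT.comap (𝟙 T)) :
    mmap sk IYk t IT t IT (𝟙 T) h hITeff hIYk hITg = 𝟙 _ := by
  rw [← cancel_mono (ModPair.mprodι t sk IT IYk), mmap_ι, pmap_id, Category.comp_id,
    Category.id_comp]

end Fun

section Dom

variable {T T' : Scheme.{u}} (t : T ⟶ B) (IT : T.IdealSheafData) (t' : T' ⟶ B)
  (IT' : T'.IdealSheafData) (g : T ⟶ T') (hg : g ≫ t' = t)
  (hITeff : BlowUp.IsEffCartierIdeal IT) (hIYk : BlowUp.IsEffCartierIdeal IYk)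
  (hITg : IT = IT'.comap g)

lemma dominant_restrict_congr {X Y : Scheme.{u}} (f f' : X ⟶ Y) (h : f = f') (V : Y.Opens)
    (hf : IsSchemeTheoreticallyDominant (f ∣_ V)) : IsSchemeTheoreticallyDominant (f' ∣_ V) := by
  subst h
  exact hf

lemma dominant_of_eq {X Y : Scheme.{u}} (f f' : X ⟶ Y) (h : f = f')
    (hf : IsSchemeTheoreticallyDominant f) : IsSchemeTheoreticallyDominant f' := by
  subst h
  exact hf

lemma dominant_comp {X Y Z : Scheme.{u}} (f : X ⟶ Y) (g : Y ⟶ Z)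
    (hf : IsSchemeTheoreticallyDominant f) (hg : IsSchemeTheoreticallyDominant g) :
    IsSchemeTheoreticallyDominant (f ≫ g) := inferInstance

lemma dominant_of_isIso {X Y : Scheme.{u}} (f : X ⟶ Y) (hf : IsIso f) :
    IsSchemeTheoreticallyDominant f := inferInstance

lemma dominant_restrict {X Y : Scheme.{u}} (f : X ⟶ Y) [QuasiCompact f]
    [IsSchemeTheoreticallyDominant f] (V : Y.Opens) : IsSchemeTheoreticallyDominant (f ∣_ V) :=
  IsSchemeTheoreticallyDominant.of_isPullback (isPullback_morphismRestrict f V).flip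

lemma ker_eq_bot_of_restrict {X Y : Scheme.{u}} (m : X ⟶ Y) (O : Y.Opens) (O' : X.Opens)
    (hO' : O' = m ⁻¹ᵁ O) [IsSchemeTheoreticallyDominant O'.ι] [IsSchemeTheoreticallyDominant O.ι]
    (hm : IsSchemeTheoreticallyDominant (m ∣_ O)) : IsSchemeTheoreticallyDominant m := by
  subst hO'
  haveI := hm
  haveI : IsSchemeTheoreticallyDominant ((m ⁻¹ᵁ O).ι ≫ m) := by
    have e : (m ⁻¹ᵁ O).ι ≫ m = (m ∣_ O) ≫ O.ι := (morphismRestrict_ι m O).symm
    rw [e]
    exact dominant_comp _ _ hm inferInstance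
  exact isSchemeTheoreticallyDominant_of_comp (m ⁻¹ᵁ O).ι m

lemma dominant_comp_restrict {M T T' : Scheme.{u}} (r : M ⟶ T) (g : T ⟶ T') [QuasiCompact g]
    [IsSchemeTheoreticallyDominant g] (V' : T'.Opens) (hr : IsIso (r ∣_ (g ⁻¹ᵁ V'))) :
    IsSchemeTheoreticallyDominant ((r ≫ g) ∣_ V') := by
  rw [morphismRestrict_comp]
  exact dominant_comp _ _ (dominant_of_isIso _ hr) (dominant_restrict g V')

lemma restrict_dominant_of_comp {M M' T' : Scheme.{u}} (m : M ⟶ M') (r' : M' ⟶ T')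
    (V' : T'.Opens) (hr' : IsIso (r' ∣_ V'))
    (h2 : IsSchemeTheoreticallyDominant ((m ≫ r') ∣_ V')) :
    IsSchemeTheoreticallyDominant (m ∣_ (r' ⁻¹ᵁ V')) := by
  have h2' : IsSchemeTheoreticallyDominant (m ∣_ (r' ⁻¹ᵁ V') ≫ r' ∣_ V') :=
    dominant_of_eq _ _ (morphismRestrict_comp m r' V') h2
  have e : m ∣_ (r' ⁻¹ᵁ V') = (m ∣_ (r' ⁻¹ᵁ V') ≫ r' ∣_ V') ≫ inv (r' ∣_ V') := by
    rw [Category.assoc, IsIso.hom_inv_id, Category.comp_id]
  exact dominant_of_eq _ _ e.symm (dominant_comp _ _ h2' (dominant_of_isIso _ inferInstance))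

/-- abstract form of the dominance criterion -/
lemma dominant_of_square {M M' T T' : Scheme.{u}} (m : M ⟶ M') (r : M ⟶ T) (r' : M' ⟶ T')
    (g : T ⟶ T') (hsq : m ≫ r' = r ≫ g) [QuasiCompact g] [IsSchemeTheoreticallyDominant g]
    (V : T.Opens) (V' : T'.Opens) (hV : V = g ⁻¹ᵁ V') (hr : IsIso (r ∣_ V))
    (hr' : IsIso (r' ∣_ V')) (d : IsSchemeTheoreticallyDominant (r ⁻¹ᵁ V).ι)
    (d' : IsSchemeTheoreticallyDominant (r' ⁻¹ᵁ V').ι) : IsSchemeTheoreticallyDominant m := by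
  subst hV
  have h1 : IsSchemeTheoreticallyDominant ((r ≫ g) ∣_ V') := dominant_comp_restrict r g V' hr
  have h2 : IsSchemeTheoreticallyDominant ((m ≫ r') ∣_ V') :=
    dominant_restrict_congr _ _ hsq.symm _ h1
  have h3 := restrict_dominant_of_comp m r' V' hr' h2
  refine ker_eq_bot_of_restrict m (r' ⁻¹ᵁ V') (r ⁻¹ᵁ (g ⁻¹ᵁ V')) ?_ h3
  rw [← Scheme.Hom.comp_preimage m r' V', hsq]
  rfl

include JB in
theorem mmap_dominant [QuasiCompact g] [IsSchemeTheoreticallyDominant g]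
    (hIT : ModPair.IsMinimal IT JB t) (hIT' : ModPair.IsMinimal IT' JB t')
    (hIT'eff : BlowUp.IsEffCartierIdeal IT')
    (hsk : ModPair.IsAdmBlowup IYk JB sk) :
    IsSchemeTheoreticallyDominant (mmap sk IYk t IT t' IT' g hg hITeff hIYk hITg) := by
  have hr := (isAdmBlowup_rM JB sk IYk t IT hIT hsk).2.2
  have hr' := (isAdmBlowup_rM JB sk IYk t' IT' hIT' hsk).2.2
  have hV : ModPair.interior IT = g ⁻¹ᵁ ModPair.interior IT' := by
    rw [hITg]
    exact interior_comap _ _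
  have hM' : BlowUp.IsEffCartierIdeal (IT'.comap (rM sk IYk t' IT')) :=
    isEffCartier_comap_fst_mprod t' sk IT' IYk hIT'eff hIYk
  have hM : BlowUp.IsEffCartierIdeal (IT.comap (rM sk IYk t IT)) :=
    isEffCartier_comap_fst_mprod t sk IT IYk hITeff hIYk
  have d' : IsSchemeTheoreticallyDominant (rM sk IYk t' IT' ⁻¹ᵁ ModPair.interior IT').ι := by
    rw [← interior_comap]
    exact Groth.Agent.LD.QC.isSchemeTheoreticallyDominant_compl_of_effCartier _ hM'
  have d : IsSchemeTheoreticallyDominant (rM sk IYk t IT ⁻¹ᵁ ModPair.interior IT).ι := by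
    rw [← interior_comap]
    exact Groth.Agent.LD.QC.isSchemeTheoreticallyDominant_compl_of_effCartier _ hM
  exact dominant_of_square _ (rM sk IYk t IT) (rM sk IYk t' IT') g
    (mmap_r sk IYk t IT t' IT' g hg hITeff hIYk hITg) _ _ hV hr hr' d d'

end Dom

attribute [irreducible] mmap

end Groth.Agent.H9.MSY
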