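import Mathlib
import Groth.Agent.Lib.Helper9.Misc.MSY1

/-!
# Abstract admissible blow-ups are epimorphisms
-/

set_option autoImplicit false

namespace Groth.Agent.H9.EPI

open CategoryTheory Limits AlgebraicGeometry Groth.Agent.H9.MDP

universe u

theorem surjective_of_admBlowup {Z M : Scheme.{u}} (IM : M.IdealSheafData)
    (hIM : BlowUp.IsEffCartierIdeal IM) (t : Z ⟶ M) [IsProper t]
    (hiso : IsIso (t ∣_ ModPair.interior IM)) : Function.Surjective t := by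
  obtain ⟨U, hUdef⟩ : ∃ U : M.Opens, U = ModPair.interior IM := ⟨_, rfl⟩
  haveI hUaff : IsAffineHom U.ι := by
    rw [hUdef]
    exact Groth.Agent.LD.QC.isAffineHom_compl_of_locPrincipal IM (fun x _ => by
      obtain ⟨V, hx, a, _, h⟩ := hIM x
      exact ⟨V, hx, a, h⟩)
  haveI hUd : IsSchemeTheoreticallyDominant U.ι := by
    rw [hUdef]
    exact Groth.Agent.LD.QC.isSchemeTheoreticallyDominant_compl_of_effCartier IM hIM
  haveI hiso' : IsIso (t ∣_ U) := by rw [hUdef]; exact hiso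
  have hcl : IsClosed (Set.range t) := t.isClosedMap.isClosed_range
  have hUr : (U : Set M) ⊆ Set.range t := by
    intro x hx
    obtain ⟨z, hz⟩ := (t ∣_ U).surjective ⟨x, hx⟩
    refine ⟨z.1, ?_⟩
    have h1 := morphismRestrict_base_coe t U z
    rw [hz] at h1
    exact h1.symm
  have hd : Dense (U : Set M) := by
    have h1 := U.ι.denseRange
    rw [DenseRange, Scheme.Opens.range_ι] at h1
    exact h1
  intro x
  exact (hcl.closure_subset_iff.mpr hUr) (hd x)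

theorem eq_of_admBlowup_comp {Z M Y : Scheme.{u}} (IM : M.IdealSheafData)
    (hIM : BlowUp.IsEffCartierIdeal IM) (t : Z ⟶ M) [IsProper t]
    (hiso : IsIso (t ∣_ ModPair.interior IM)) (a b : M ⟶ Y) (h : t ≫ a = t ≫ b) : a = b := by
  have hsurj := surjective_of_admBlowup IM hIM t hiso
  obtain ⟨U, hUdef⟩ : ∃ U : M.Opens, U = ModPair.interior IM := ⟨_, rfl⟩
  haveI hUaff : IsAffineHom U.ι := by
    rw [hUdef]
    exact Groth.Agent.LD.QC.isAffineHom_compl_of_locPrincipal IM (fun x _ => by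
      obtain ⟨V, hx, a, _, h⟩ := hIM x
      exact ⟨V, hx, a, h⟩)
  haveI hUd : IsSchemeTheoreticallyDominant U.ι := by
    rw [hUdef]
    exact Groth.Agent.LD.QC.isSchemeTheoreticallyDominant_compl_of_effCartier IM hIM
  haveI hiso' : IsIso (t ∣_ U) := by rw [hUdef]; exact hiso
  -- agreement on `U`
  have hU : U.ι ≫ a = U.ι ≫ b := by
    rw [← cancel_epi (t ∣_ U), ← Category.assoc, ← Category.assoc, morphismRestrict_ι,
      Category.assoc, Category.assoc, h]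
  -- pointwise agreement
  have hpt : ∀ x : M, a x = b x := fun x ↦ by
    obtain ⟨z, rfl⟩ := hsurj x
    rw [← Scheme.Hom.comp_apply, ← Scheme.Hom.comp_apply, h]
  refine Scheme.hom_ext_of_forall a b (fun x ↦ ?_)
  obtain ⟨V, hV, hxV⟩ : ∃ V : Y.Opens, IsAffineOpen V ∧ a x ∈ V := by
    obtain ⟨V, hV, hxV, -⟩ := (TopologicalSpace.Opens.isBasis_iff_nbhd.mp Y.isBasis_affineOpens)
      (show a x ∈ (⊤ : Y.Opens) from trivial)
    exact ⟨V, hV, hxV⟩
  haveI : IsAffine V.toScheme := hV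
  obtain ⟨O, hOdef⟩ : ∃ O : M.Opens, O = a ⁻¹ᵁ V ⊓ b ⁻¹ᵁ V := ⟨_, rfl⟩
  have hxO : x ∈ O := by
    rw [hOdef]
    refine ⟨hxV, ?_⟩
    show b x ∈ V
    rw [← hpt x]
    exact hxV
  have hOa : O ≤ a ⁻¹ᵁ V := by rw [hOdef]; exact inf_le_left
  have hOb : O ≤ b ⁻¹ᵁ V := by rw [hOdef]; exact inf_le_right
  refine ⟨O, hxO, ?_⟩
  have hra : Set.range (O.ι ≫ a) ⊆ Set.range V.ι := by
    rintro _ ⟨y, rfl⟩
    rw [Scheme.Opens.range_ι]
    exact hOa y.2
  have hrb : Set.range (O.ι ≫ b) ⊆ Set.range V.ι := by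
    rintro _ ⟨y, rfl⟩
    rw [Scheme.Opens.range_ι]
    exact hOb y.2
  obtain ⟨a', ha'⟩ : ∃ a' : O.toScheme ⟶ V.toScheme, a' ≫ V.ι = O.ι ≫ a :=
    ⟨IsOpenImmersion.lift V.ι (O.ι ≫ a) hra, IsOpenImmersion.lift_fac _ _ _⟩
  obtain ⟨b', hb'⟩ : ∃ b' : O.toScheme ⟶ V.toScheme, b' ≫ V.ι = O.ι ≫ b :=
    ⟨IsOpenImmersion.lift V.ι (O.ι ≫ b) hrb, IsOpenImmersion.lift_fac _ _ _⟩
  haveI : IsSchemeTheoreticallyDominant (U.ι ∣_ O) := MSY.dominant_restrict U.ι O
  have hab : a' = b' := by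
    refine ext_of_schDominant_of_isSeparated (terminal.from V.toScheme) (terminal.hom_ext _ _)
      (U.ι ∣_ O) ?_
    rw [← cancel_mono V.ι, Category.assoc, Category.assoc, ha', hb', ← Category.assoc,
      ← Category.assoc, morphismRestrict_ι, Category.assoc, Category.assoc, hU]
  rw [← ha', ← hb', hab]

end Groth.Agent.H9.EPI
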