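import Mathlib
import Groth.Agent.Lib.Helper9.Misc.DVU1

/-!
# Descent of bialgebra isomorphisms along a finite equaliser system of algebras over a field (helper9)
-/

set_option autoImplicit false

universe u

open TensorProduct

namespace Groth.Agent.H9.EQD

open Groth.Agent.H9.DVU

section

variable {K : Type u} [Field K]

lemma repr_rTensor {S T : Type*} [CommRing S] [CommRing T] [Algebra K S] [Algebra K T]
    (ρ : S →ₐ[K] T) {W : Type*} [AddCommGroup W] [Module K W] {J : Type*}
    (β : Module.Basis J K W) (y : S ⊗[K] W) (j : J) :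
    (Algebra.TensorProduct.basis T β).repr (ρ.toLinearMap.rTensor W y) j =
      ρ ((Algebra.TensorProduct.basis S β).repr y j) := by
  induction y using TensorProduct.induction_on with
  | zero => simp
  | tmul s w =>
    rw [LinearMap.rTensor_tmul, Algebra.TensorProduct.basis_repr_tmul,
      Algebra.TensorProduct.basis_repr_tmul]
    simp only [Finsupp.smul_apply, Finsupp.mapRange_apply, smul_eq_mul, AlgHom.toLinearMap_apply,
      map_mul, AlgHom.commutes]
  | add y y' h h' => simp only [map_add, Finsupp.add_apply, h, h']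

lemma map_id_eq_rTensor {S T : Type*} [CommRing S] [CommRing T] [Algebra K S] [Algebra K T]
    (ρ : S →ₐ[K] T) (A : Type*) [CommRing A] [Algebra K A] (z : S ⊗[K] A) :
    Algebra.TensorProduct.map ρ (AlgHom.id K A) z = ρ.toLinearMap.rTensor A z := by
  induction z using TensorProduct.induction_on with
  | zero => simp
  | tmul s a => rfl
  | add x y hx hy => simp only [map_add, hx, hy]

variable {ιv ιe : Type u} [Finite ιv]
  {Kv : ιv → Type u} [∀ i, CommRing (Kv i)] [∀ i, Algebra K (Kv i)]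
  {Ke : ιe → Type u} [∀ k, CommRing (Ke k)] [∀ k, Algebra K (Ke k)]
  {l r : ιe → ιv} {ρl : ∀ k, Kv (l k) →ₐ[K] Ke k} {ρr : ∀ k, Kv (r k) →ₐ[K] Ke k}

omit [Finite ιv] in
lemma eq_of_forall_algebraMap
    (hlim : ∀ x : (∀ i, Kv i), (∀ k, ρl k (x (l k)) = ρr k (x (r k))) →
      ∃! a : K, ∀ i, algebraMap K (Kv i) a = x i)
    {a a' : K} (h : ∀ i, algebraMap K (Kv i) a = algebraMap K (Kv i) a') : a = a' := by
  have h1 := hlim (fun i => algebraMap K (Kv i) a')
    (fun k => by rw [AlgHom.commutes, AlgHom.commutes])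
  exact h1.unique h (fun _ => rfl)

omit [Finite ιv] in
lemma exists_nontrivial
    (hlim : ∀ x : (∀ i, Kv i), (∀ k, ρl k (x (l k)) = ρr k (x (r k))) →
      ∃! a : K, ∀ i, algebraMap K (Kv i) a = x i) : ∃ i, Nontrivial (Kv i) := by
  by_contra hne
  push Not at hne
  have h1 : (0 : K) = 1 := by
    apply eq_of_forall_algebraMap hlim
    intro i
    have := hne i
    exact Subsingleton.elim _ _
  exact zero_ne_one h1

omit [Finite ιv] in
lemma eq_of_forall_tmul
    (hlim : ∀ x : (∀ i, Kv i), (∀ k, ρl k (x (l k)) = ρr k (x (r k))) →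
      ∃! a : K, ∀ i, algebraMap K (Kv i) a = x i)
    {W : Type*} [AddCommGroup W] [Module K W] {w w' : W}
    (h : ∀ i, (1 : Kv i) ⊗ₜ[K] w = (1 : Kv i) ⊗ₜ[K] w') : w = w' := by
  let β := Module.Free.chooseBasis K W
  apply β.repr.injective
  ext j
  apply eq_of_forall_algebraMap hlim
  intro i
  have h1 := congrArg (fun z => (Algebra.TensorProduct.basis (Kv i) β).repr z j) (h i)
  simp only [Algebra.TensorProduct.basis_repr_tmul, one_smul, Finsupp.mapRange_apply] at h1
  exact h1

theorem exists_descent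
    (hlim : ∀ x : (∀ i, Kv i), (∀ k, ρl k (x (l k)) = ρr k (x (r k))) →
      ∃! a : K, ∀ i, algebraMap K (Kv i) a = x i)
    (W : Type*) [AddCommGroup W] [Module K W] (x : ∀ i, Kv i ⊗[K] W)
    (hx : ∀ k, (ρl k).toLinearMap.rTensor W (x (l k)) = (ρr k).toLinearMap.rTensor W (x (r k))) :
    ∃ w : W, ∀ i, (1 : Kv i) ⊗ₜ[K] w = x i := by
  classical
  cases nonempty_fintype ιv
  let β := Module.Free.chooseBasis K W
  let c : Module.Free.ChooseBasisIndex K W → ∀ i, Kv i :=
    fun j i => (Algebra.TensorProduct.basis (Kv i) β).repr (x i) j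
  have hc : ∀ j k, ρl k (c j (l k)) = ρr k (c j (r k)) := by
    intro j k
    have h1 := congrArg (fun z => (Algebra.TensorProduct.basis (Ke k) β).repr z j) (hx k)
    simp only [repr_rTensor] at h1
    exact h1
  choose a ha using fun j => (hlim (c j) (hc j)).exists
  let s : Finset (Module.Free.ChooseBasisIndex K W) :=
    Finset.univ.biUnion fun i => ((Algebra.TensorProduct.basis (Kv i) β).repr (x i)).support
  have hs : ∀ j, a j ≠ 0 → j ∈ s := by
    intro j hj
    by_contra hjs
    apply hj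
    apply eq_of_forall_algebraMap hlim
    intro i
    rw [ha j i, map_zero]
    have h2 : j ∉ ((Algebra.TensorProduct.basis (Kv i) β).repr (x i)).support :=
      fun h => hjs (Finset.mem_biUnion.mpr ⟨i, Finset.mem_univ _, h⟩)
    exact Finsupp.notMem_support_iff.mp h2
  let f : Module.Free.ChooseBasisIndex K W →₀ K := Finsupp.onFinset s a hs
  refine ⟨β.repr.symm f, fun i => ?_⟩
  apply (Algebra.TensorProduct.basis (Kv i) β).repr.injective
  ext j
  rw [Algebra.TensorProduct.basis_repr_tmul, one_smul, Finsupp.mapRange_apply,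
    β.repr.apply_symm_apply]
  exact ha j i

variable (A B : Type u) [CommRing A] [CommRing B] [Bialgebra K A] [Bialgebra K B]

theorem existsUnique_bialgEquiv
    (hlim : ∀ x : (∀ i, Kv i), (∀ k, ρl k (x (l k)) = ρr k (x (r k))) →
      ∃! a : K, ∀ i, algebraMap K (Kv i) a = x i)
    (u : ∀ i, (Kv i ⊗[K] B) ≃ₐc[Kv i] (Kv i ⊗[K] A))
    (hu : ∀ (k : ιe) (b : B),
      Algebra.TensorProduct.map (ρl k) (AlgHom.id K A) (u (l k) (1 ⊗ₜ[K] b)) =
        Algebra.TensorProduct.map (ρr k) (AlgHom.id K A) (u (r k) (1 ⊗ₜ[K] b))) :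
    ∃! v : B ≃ₐc[K] A, ∀ (i : ιv) (b : B), u i (1 ⊗ₜ[K] b) = 1 ⊗ₜ[K] v b := by
  have hex : ∀ b : B, ∃ a : A, ∀ i, (1 : Kv i) ⊗ₜ[K] a = u i (1 ⊗ₜ[K] b) := by
    intro b
    apply exists_descent hlim A (fun i => u i (1 ⊗ₜ[K] b))
    intro k
    rw [← map_id_eq_rTensor, ← map_id_eq_rTensor]
    exact hu k b
  choose v hv using hex
  have JI : ∀ {a a' : A}, (∀ i, (1 : Kv i) ⊗ₜ[K] a = (1 : Kv i) ⊗ₜ[K] a') → a = a' :=
    fun h => eq_of_forall_tmul hlim h
  -- ring hom structure
  have v_one : v 1 = 1 := by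
    apply JI; intro i
    rw [hv, ← Algebra.TensorProduct.one_def, map_one, Algebra.TensorProduct.one_def]
  have v_mul : ∀ b b', v (b * b') = v b * v b' := by
    intro b b'
    apply JI; intro i
    have e : ((1 : Kv i) ⊗ₜ[K] (b * b') : Kv i ⊗[K] B) = (1 ⊗ₜ[K] b) * (1 ⊗ₜ[K] b') := by
      rw [Algebra.TensorProduct.tmul_mul_tmul, one_mul]
    rw [hv, e, map_mul, ← hv, ← hv, Algebra.TensorProduct.tmul_mul_tmul, one_mul]
  have v_add : ∀ b b', v (b + b') = v b + v b' := by
    intro b b'
    apply JI; intro i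
    rw [hv, TensorProduct.tmul_add, map_add, ← hv, ← hv, TensorProduct.tmul_add]
  have v_zero : v 0 = 0 := by
    apply JI; intro i
    rw [hv, TensorProduct.tmul_zero, map_zero, TensorProduct.tmul_zero]
  have v_smul : ∀ (c : K) b, v (c • b) = c • v b := by
    intro c b
    apply JI; intro i
    have e : ((1 : Kv i) ⊗ₜ[K] (c • b) : Kv i ⊗[K] B) =
        (algebraMap K (Kv i) c) • ((1 : Kv i) ⊗ₜ[K] b) := by
      rw [TensorProduct.tmul_smul, algebraMap_smul]
    have e' : ((1 : Kv i) ⊗ₜ[K] (c • v b) : Kv i ⊗[K] A) =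
        (algebraMap K (Kv i) c) • ((1 : Kv i) ⊗ₜ[K] v b) := by
      rw [TensorProduct.tmul_smul, algebraMap_smul]
    rw [hv, e, map_smul, ← hv, e']
  let vR : B →+* A :=
    { toFun := v, map_one' := v_one, map_mul' := v_mul, map_zero' := v_zero, map_add' := v_add }
  let vA : B →ₐ[K] A := AlgHom.mk' vR v_smul
  have vA_apply : ∀ b, vA b = v b := fun _ => rfl
  have h_counit : (Bialgebra.counitAlgHom K A).comp vA = Bialgebra.counitAlgHom K B := by
    apply AlgHom.ext
    intro b
    apply eq_of_forall_algebraMap hlim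
    intro i
    have h1 := CoalgHomClass.counit_comp_apply (u i) ((1 : Kv i) ⊗ₜ[K] b)
    rw [← hv, TensorProduct.counit_tmul, TensorProduct.counit_tmul, CommSemiring.counit_apply,
      Algebra.smul_def, Algebra.smul_def, mul_one, mul_one] at h1
    exact h1
  have h_jm : ∀ (i : ιv) (t : B ⊗[K] B),
      TensorProduct.map ((u i : (Kv i ⊗[K] B) →ₗ[Kv i] (Kv i ⊗[K] A)))
          ((u i : (Kv i ⊗[K] B) →ₗ[Kv i] (Kv i ⊗[K] A))) (jmap K (Kv i) B B t) =
        jmap K (Kv i) A A (TensorProduct.map vA.toLinearMap vA.toLinearMap t) := by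
    intro i t
    induction t using TensorProduct.induction_on with
    | zero => simp
    | tmul b b' =>
      rw [jmap_tmul, TensorProduct.map_tmul, TensorProduct.map_tmul, jmap_tmul]
      show (u i (1 ⊗ₜ[K] b)) ⊗ₜ[Kv i] (u i (1 ⊗ₜ[K] b')) = _
      rw [← hv, ← hv]
      rfl
    | add x y hx hy => simp only [map_add, hx, hy]
  have h_comul : (Algebra.TensorProduct.map vA vA).comp (Bialgebra.comulAlgHom K B) =
      (Bialgebra.comulAlgHom K A).comp vA := by
    apply AlgHom.ext
    intro b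
    apply eq_of_forall_tmul hlim
    intro i
    apply (TensorProduct.AlgebraTensorModule.distribBaseChange K (Kv i) A A).injective
    show jmap K (Kv i) A A (TensorProduct.map vA.toLinearMap vA.toLinearMap
        (CoalgebraStruct.comul (R := K) b)) =
      jmap K (Kv i) A A (CoalgebraStruct.comul (R := K) (v b))
    rw [← h_jm, ← comul_iota, ← comul_iota, iota_apply, iota_apply, hv]
    exact CoalgHomClass.map_comp_comul_apply (u i) ((1 : Kv i) ⊗ₜ[K] b)
  let vB : B →ₐc[K] A := BialgHom.ofAlgHom vA h_counit h_comul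
  have vB_apply : ∀ b, vB b = v b := fun _ => rfl
  obtain ⟨i₀, hi₀⟩ := exists_nontrivial hlim
  have h_lt : ∀ z : Kv i₀ ⊗[K] B, (vA.toLinearMap.lTensor (Kv i₀)) z = u i₀ z := by
    intro z
    induction z using TensorProduct.induction_on with
    | zero => simp
    | tmul c b =>
      have e : (c ⊗ₜ[K] b : Kv i₀ ⊗[K] B) = c • ((1 : Kv i₀) ⊗ₜ[K] b) := by
        rw [TensorProduct.smul_tmul', smul_eq_mul, mul_one]
      rw [LinearMap.lTensor_tmul, e, map_smul, ← hv, TensorProduct.smul_tmul', smul_eq_mul, mul_one]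
      rfl
    | add x y hx hy => simp only [map_add, hx, hy]
  have h_bij : Function.Bijective vB := by
    have h1 : Function.Bijective (vA.toLinearMap.lTensor (Kv i₀)) := by
      have : (vA.toLinearMap.lTensor (Kv i₀) : Kv i₀ ⊗[K] B → Kv i₀ ⊗[K] A) = u i₀ :=
        funext h_lt
      rw [this]
      exact (u i₀).bijective
    exact (Module.FaithfullyFlat.lTensor_bijective_iff_bijective K (Kv i₀) vA.toLinearMap).mp h1
  refine ⟨BialgEquiv.ofBijective vB h_bij, ?_, ?_⟩
  · intro i b
    exact (hv b i).symm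
  · intro v' hv'
    apply BialgEquiv.ext
    intro b
    apply JI
    intro i
    rw [← hv' i b]
    exact (hv b i).symm

end

end Groth.Agent.H9.EQD
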