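import Mathlib
import Groth.Prelude.Def_W4c1nerontoraddGraph

/-! Helper9: Cartier functions on a labelled multigraph lie in the span of elementary-Cartier ones. -/

set_option linter.unusedSectionVars false
set_option linter.unusedVariables false

universe u

namespace Groth.Agent.H9.ElemCart

open LabGraph

variable {V E : Type u} [Fintype V] [Fintype E] [DecidableEq V] [DecidableEq E]

/-- the set of elementary-Cartier functions -/
def Elem (ends : E → V × V) (l : E → ℕ) : Set (V → ℤ) :=
  {g : V → ℤ | ∃ n : ℕ, 0 < n ∧ (∀ v, (n : ℤ) ∣ g v) ∧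
      ∀ e, ¬ (l e ∣ n) → g (ends e).1 = g (ends e).2}

/-- the reduced labelling -/
def red (p : ℕ) (l : E → ℕ) (e : E) : ℕ := if p ∣ l e then l e / p else l e

theorem red_pos (p : ℕ) (hp : p.Prime) (l : E → ℕ) (hl : ∀ e, 0 < l e) (e : E) :
    0 < red p l e := by
  unfold red
  split_ifs with h
  · exact Nat.div_pos (Nat.le_of_dvd (hl e) h) hp.pos
  · exact hl e

theorem red_le (p : ℕ) (l : E → ℕ) (e : E) : red p l e ≤ l e := by
  unfold red
  split_ifs with h
  · exact Nat.div_le_self _ _
  · exact le_rfl

theorem red_lt (p : ℕ) (hp : p.Prime) (l : E → ℕ) (hl : ∀ e, 0 < l e) (e : E) (h : p ∣ l e) :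
    red p l e < l e := by
  unfold red
  rw [if_pos h]
  exact Nat.div_lt_self (hl e) hp.one_lt

theorem elem_smul (ends : E → V × V) (p : ℕ) (hp : p.Prime) (l : E → ℕ) (g : V → ℤ)
    (hg : g ∈ Elem ends (red p l)) : ((p : ℤ) • g) ∈ Elem ends l := by
  obtain ⟨n, hn, hdiv, hag⟩ := hg
  refine ⟨p * n, Nat.mul_pos hp.pos hn, ?_, ?_⟩
  · intro v
    simp only [Pi.smul_apply, smul_eq_mul]
    push_cast
    exact mul_dvd_mul_left _ (hdiv v)
  · intro e he
    simp only [Pi.smul_apply, smul_eq_mul]
    rw [hag e]
    intro h
    apply he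
    unfold red at h
    split_ifs at h with hpe
    · obtain ⟨c, hc⟩ := hpe
      rw [hc] at h ⊢
      rw [Nat.mul_div_cancel_left _ hp.pos] at h
      exact Nat.mul_dvd_mul_left _ h
    · exact Dvd.dvd.mul_left h _

theorem span_smul (ends : E → V × V) (p : ℕ) (hp : p.Prime) (l : E → ℕ) (g : V → ℤ)
    (hg : g ∈ Submodule.span ℤ (Elem ends (red p l))) :
    ((p : ℤ) • g) ∈ Submodule.span ℤ (Elem ends l) := by
  induction hg using Submodule.span_induction with
  | mem x hx => exact Submodule.subset_span (elem_smul ends p hp l x hx)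
  | zero => simp
  | add x y _ _ hx hy => rw [smul_add]; exact Submodule.add_mem _ hx hy
  | smul a x _ hx => rw [smul_comm]; exact Submodule.smul_mem _ _ hx

theorem main_aux (ends : E → V × V) : ∀ (s : ℕ) (l : E → ℕ), (∀ e, 0 < l e) → ∑ e, l e = s →
    ∀ f : V → ℤ, IsCartier ends l f → f ∈ Submodule.span ℤ (Elem ends l) := by
  intro s
  induction s using Nat.strong_induction_on with
  | _ s ih =>
    intro l hl hs f hf
    by_cases hall : ∀ e, l e = 1
    · apply Submodule.subset_span
      refine ⟨1, Nat.one_pos, fun v => by simp, ?_⟩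
      intro e he
      exact absurd (by rw [hall e]) he
    · push Not at hall
      obtain ⟨e0, he0⟩ := hall
      set p := Nat.minFac (l e0) with hpdef
      have hp : p.Prime := Nat.minFac_prime he0
      have hpe0 : p ∣ l e0 := Nat.minFac_dvd _
      have hlt : ∑ e, red p l e < s := by
        rw [← hs]
        exact Finset.sum_lt_sum (fun e _ => red_le p l e) ⟨e0, Finset.mem_univ _, red_lt p hp l hl e0 hpe0⟩
      -- M
      set M : ℕ := ∏ e, (if p ∣ l e then 1 else l e) with hM
      have hcop : Nat.Coprime p M := by
        apply Nat.Coprime.prod_right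
        intro e _
        split_ifs with h
        · exact Nat.coprime_one_right _
        · exact (Nat.Prime.coprime_iff_not_dvd hp).2 h
      have hMdvd : ∀ e, ¬ p ∣ l e → l e ∣ M := by
        intro e he
        have : (if p ∣ l e then 1 else l e) ∣ M := Finset.dvd_prod_of_mem _ (Finset.mem_univ e)
        rwa [if_neg he] at this
      have hMpos : 0 < M := by
        apply Finset.prod_pos
        intro e _
        split_ifs
        · exact Nat.one_pos
        · exact hl e
      have hbez : (1 : ℤ) = (p : ℤ) * Int.gcdA p M + (M : ℤ) * Int.gcdB p M := by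
        have := Int.gcd_eq_gcd_ab (p : ℤ) (M : ℤ)
        rw [Int.gcd_natCast_natCast, hcop] at this
        simpa using this
      set a := Int.gcdA p M
      set b := Int.gcdB p M
      -- the pieces
      set h0 : V → ℤ := fun v => f v % (p : ℤ) with hh0
      set f1 : V → ℤ := fun v => f v / (p : ℤ) with hf1
      have hdecomp : ∀ v, f v = (p : ℤ) * f1 v + h0 v := fun v => (Int.mul_ediv_add_emod (f v) p).symm
      have hppos : (0 : ℤ) < p := by exact_mod_cast hp.pos
      -- h0 agrees on edges with p ∣ l e
      have hh0e : ∀ e, p ∣ l e → h0 (ends e).1 = h0 (ends e).2 := by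
        intro e hpe
        have h1 : ((p : ℤ)) ∣ f (ends e).1 - f (ends e).2 :=
          dvd_trans (Int.natCast_dvd_natCast.2 hpe) (hf e)
        exact (Int.modEq_iff_dvd.2 ((dvd_sub_comm).1 h1))
      -- M • h0 is elementary for l
      have hMh0 : ((M : ℤ) • h0) ∈ Elem ends l := by
        refine ⟨M, hMpos, fun v => by simp [Pi.smul_apply], ?_⟩
        intro e he
        have hpe : p ∣ l e := by
          by_contra hne
          exact he (hMdvd e hne)
        simp only [Pi.smul_apply, smul_eq_mul]
        rw [hh0e e hpe]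
      -- f is Cartier for red
      have hredc : ∀ g : V → ℤ, IsCartier ends l g → IsCartier ends (red p l) g := by
        intro g hg e
        refine dvd_trans (Int.natCast_dvd_natCast.2 ?_) (hg e)
        unfold red
        split_ifs with h
        · exact Nat.div_dvd_of_dvd h
        · exact dvd_rfl
      -- M • f1 is Cartier for red
      have hMf1 : IsCartier ends (red p l) ((M : ℤ) • f1) := by
        intro e
        simp only [Pi.smul_apply, smul_eq_mul]
        rw [← mul_sub]
        by_cases hpe : p ∣ l e
        · apply Dvd.dvd.mul_left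
          have h1 := hf e
          rw [hdecomp (ends e).1, hdecomp (ends e).2, hh0e e hpe] at h1
          have h2 : ((l e : ℕ) : ℤ) ∣ (p : ℤ) * (f1 (ends e).1 - f1 (ends e).2) := by
            convert h1 using 1; ring
          obtain ⟨c, hc⟩ := hpe
          have hred : red p l e = c := by
            unfold red
            rw [if_pos ⟨c, hc⟩, hc, Nat.mul_div_cancel_left _ hp.pos]
          rw [hred]
          rw [hc] at h2
          push_cast at h2
          exact (mul_dvd_mul_iff_left (ne_of_gt hppos)).1 h2
        · apply Dvd.dvd.mul_right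
          have hred : red p l e = l e := by
            unfold red
            rw [if_neg hpe]
          rw [hred]
          exact Int.natCast_dvd_natCast.2 (hMdvd e hpe)
      have ih1 := ih _ hlt (red p l) (red_pos p hp l hl) rfl f (hredc f hf)
      have ih2 := ih _ hlt (red p l) (red_pos p hp l hl) rfl _ hMf1
      have e1 := span_smul ends p hp l _ ih1
      have e2 := span_smul ends p hp l _ ih2
      have e3 : ((M : ℤ) • h0) ∈ Submodule.span ℤ (Elem ends l) := Submodule.subset_span hMh0
      have hfin : f = a • ((p : ℤ) • f) + b • ((M : ℤ) • h0) + b • ((p : ℤ) • ((M : ℤ) • f1)) := by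
        funext v
        simp only [Pi.add_apply, Pi.smul_apply, smul_eq_mul]
        have := hdecomp v
        calc f v = ((p : ℤ) * a + (M : ℤ) * b) * f v := by rw [← hbez, one_mul]
          _ = a * (↑p * f v) + b * (↑M * h0 v) + b * (↑p * (↑M * f1 v)) := by
            rw [this]; ring
      rw [hfin]
      exact Submodule.add_mem _ (Submodule.add_mem _ (Submodule.smul_mem _ _ e1) (Submodule.smul_mem _ _ e3))
        (Submodule.smul_mem _ _ e2)

theorem main (ends : E → V × V) (l : E → ℕ) (hl : ∀ e, 0 < l e)
    (f : V → ℤ) (hf : LabGraph.IsCartier ends l f) :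
    f ∈ Submodule.span ℤ {g : V → ℤ | ∃ n : ℕ, 0 < n ∧ (∀ v, (n : ℤ) ∣ g v) ∧
      ∀ e, ¬ (l e ∣ n) → g (ends e).1 = g (ends e).2} :=
  main_aux ends _ l hl rfl f hf

end Groth.Agent.H9.ElemCart
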