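import Mathlib
import Groth.Agent.Lib.Helper9.AdicComplete
import Groth.Agent.Lib.Helper9.CompleteDVRExt

/-!
# Finite domains over complete Noetherian local rings are local, and related lemmas (helper9)
-/

set_option autoImplicit false
set_option linter.style.haveILetI false
set_option linter.unusedSectionVars false
set_option linter.unusedVariables false

namespace Groth.Agent.H9.EllIso

open IsLocalRing

universe u

section Complete

theorem isAdicComplete_of_finite {R : Type*} [CommRing R] [IsNoetherianRing R] (I : Ideal R)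
    [IsAdicComplete I R] (M : Type*) [AddCommGroup M] [Module R M] [Module.Finite R M] :
    IsAdicComplete I M := by
  obtain ⟨n, f, hf⟩ := Module.Finite.exists_fin' R M
  haveI : IsAdicComplete I (Fin n → R) :=
    Groth.Agent.H9.isAdicComplete_pi I (fun _ : Fin n => R)
  have hH : IsHausdorff I M := by
    rw [isHausdorff_iff]
    intro x hx
    have h0 : x ∈ (⨅ i : ℕ, I ^ i • ⊤ : Submodule R M) := by
      rw [Submodule.mem_iInf]
      intro i
      exact SModEq.zero.mp (hx i)
    rw [Ideal.iInf_pow_smul_eq_bot_of_le_jacobson I (IsAdicComplete.le_jacobson_bot (I := I))]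
      at h0
    exact (Submodule.mem_bot R).mp h0
  have hP : IsPrecomplete I M := by
    rw [← AdicCompletion.of_surjective_iff]
    intro y
    obtain ⟨x, hx⟩ := AdicCompletion.map_surjective I hf y
    obtain ⟨z, hz⟩ := AdicCompletion.of_surjective (I := I) (M := Fin n → R) x
    exact ⟨f z, by rw [← AdicCompletion.map_of, hz, hx]⟩
  exact { toIsHausdorff := hH, toIsPrecomplete := hP }

end Complete

section Local

theorem idem_aux {Q : Type*} [CommRing Q] (X A : Q) (n : ℕ) (h : X ^ (n + 1) = X ^ (n + 2) * A) :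
    (X * A) ^ (n + 1) * (X * A) ^ (n + 1) = (X * A) ^ (n + 1) ∧
      X ^ (n + 1) = X ^ (n + 1) * (X * A) ^ (n + 1) := by
  have hiter : ∀ j : ℕ, X ^ (n + 1) = X ^ (n + 1 + j) * A ^ j := by
    intro j
    induction j with
    | zero => simp
    | succ j ih =>
      calc X ^ (n + 1) = X ^ (n + 1 + j) * A ^ j := ih
        _ = X ^ j * X ^ (n + 1) * A ^ j := by ring
        _ = X ^ j * (X ^ (n + 2) * A) * A ^ j := by rw [← h]
        _ = X ^ (n + 1 + (j + 1)) * A ^ (j + 1) := by ring
  have h2 := hiter (n + 1)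
  constructor
  · calc (X * A) ^ (n + 1) * (X * A) ^ (n + 1)
        = (X ^ (n + 1 + (n + 1)) * A ^ (n + 1)) * A ^ (n + 1) := by ring
      _ = X ^ (n + 1) * A ^ (n + 1) := by rw [← h2]
      _ = (X * A) ^ (n + 1) := by ring
  · calc X ^ (n + 1) = X ^ (n + 1 + (n + 1)) * A ^ (n + 1) := h2
      _ = X ^ (n + 1) * (X * A) ^ (n + 1) := by ring

theorem isLocalRing_of_henselian_artinian {B : Type*} [CommRing B] [IsDomain B] (J : Ideal B)
    [HenselianRing B J] (hJ : J ≤ Ideal.jacobson ⊥) [IsArtinianRing (B ⧸ J)] : IsLocalRing B := by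
  apply IsLocalRing.of_isUnit_or_isUnit_one_sub_self
  intro x
  obtain ⟨n, abar, hn0⟩ :=
    IsArtinian.exists_pow_succ_smul_dvd (Ideal.Quotient.mk J x) (1 : B ⧸ J)
  obtain ⟨a, rfl⟩ := Ideal.Quotient.mk_surjective abar
  have hn : (Ideal.Quotient.mk J x) ^ (n + 1)
      = (Ideal.Quotient.mk J x) ^ (n + 2) * Ideal.Quotient.mk J a := by
    have h := hn0
    simp only [smul_eq_mul, mul_one, Nat.succ_eq_add_one] at h
    calc (Ideal.Quotient.mk J x) ^ (n + 1)
        = (Ideal.Quotient.mk J x) ^ n * Ideal.Quotient.mk J x := pow_succ _ _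
      _ = ((Ideal.Quotient.mk J x) ^ (n + 1) * Ideal.Quotient.mk J a)
            * Ideal.Quotient.mk J x := by rw [h]
      _ = _ := by ring
  obtain ⟨hid, hx1⟩ := idem_aux _ _ n hn
  have he0 : ((x * a) ^ (n + 1)) ^ 2 - (x * a) ^ (n + 1) ∈ J := by
    rw [← Ideal.Quotient.eq_zero_iff_mem]
    simp only [map_sub, map_pow, map_mul]
    rw [sq, hid, sub_self]
  obtain ⟨e, he2, hee⟩ := Groth.Agent.H9.CDVR.exists_idempotent_lift J ((x * a) ^ (n + 1)) he0
  have he : e * (e - 1) = 0 := by linear_combination he2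
  rcases mul_eq_zero.mp he with h0 | h1
  · right
    have h3 : (x * a) ^ (n + 1) ∈ J := by
      have := J.neg_mem hee
      rw [h0] at this
      simpa using this
    have hx : x ^ (n + 1) ∈ J := by
      rw [← Ideal.Quotient.eq_zero_iff_mem, map_pow, hx1]
      have : (Ideal.Quotient.mk J x * Ideal.Quotient.mk J a) ^ (n + 1) = 0 := by
        rw [← map_mul, ← map_pow]
        exact Ideal.Quotient.eq_zero_iff_mem.mpr h3
      rw [this, mul_zero]
    have hu : IsUnit (1 - x ^ (n + 1)) := by
      apply Ideal.isUnit_of_sub_one_mem_jacobson_bot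
      have : (1 - x ^ (n + 1)) - 1 = -(x ^ (n + 1)) := by ring
      rw [this]
      exact hJ (J.neg_mem hx)
    rw [← mul_neg_geom_sum x (n + 1)] at hu
    exact isUnit_of_mul_isUnit_left hu
  · left
    have h1' : e = 1 := by linear_combination h1
    have h3 : (x * a) ^ (n + 1) - 1 ∈ J := by
      have := J.neg_mem hee
      rw [h1'] at this
      simpa using this
    have hu : IsUnit ((x * a) ^ (n + 1)) :=
      Ideal.isUnit_of_sub_one_mem_jacobson_bot _ (hJ h3)
    have hu2 : IsUnit (x * a) := (isUnit_pow_iff (Nat.succ_ne_zero n)).mp hu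
    exact isUnit_of_mul_isUnit_left hu2

theorem isLocalRing_of_finite_domain (R : Type*) [CommRing R] [IsNoetherianRing R]
    [IsLocalRing R] [IsAdicComplete (maximalIdeal R) R] (B : Type*) [CommRing B] [IsDomain B]
    [Algebra R B] [Module.Finite R B] : IsLocalRing B := by
  haveI : IsAdicComplete (maximalIdeal R) B := isAdicComplete_of_finite (maximalIdeal R) B
  haveI hJc : IsAdicComplete ((maximalIdeal R).map (algebraMap R B)) B :=
    Groth.Agent.H9.CDVR.isAdicComplete_map (maximalIdeal R)
  have hJ : (maximalIdeal R).map (algebraMap R B) ≤ Ideal.jacobson ⊥ :=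
    IsAdicComplete.le_jacobson_bot (I := (maximalIdeal R).map (algebraMap R B))
  letI : Field (R ⧸ maximalIdeal R) := Ideal.Quotient.field _
  haveI : Module.Finite R (B ⧸ (maximalIdeal R).map (algebraMap R B)) :=
    Module.Finite.of_surjective (Ideal.Quotient.mkₐ R _).toLinearMap
      (Ideal.Quotient.mkₐ_surjective R _)
  haveI : Module.Finite (R ⧸ maximalIdeal R) (B ⧸ (maximalIdeal R).map (algebraMap R B)) :=
    Module.Finite.of_restrictScalars_finite R _ _
  haveI : IsArtinianRing (B ⧸ (maximalIdeal R).map (algebraMap R B)) :=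
    IsArtinianRing.of_finite (R ⧸ maximalIdeal R) _
  exact isLocalRing_of_henselian_artinian _ hJ

end Local

section Residue

theorem exists_sub_mem (R : Type u) [CommRing R] [IsLocalRing R] [IsAlgClosed (ResidueField R)]
    (B : Type u) [CommRing B] [IsLocalRing B] [Algebra R B] [Module.Finite R B]
    [IsLocalHom (algebraMap R B)] (b : B) :
    ∃ a : R, b - algebraMap R B a ∈ maximalIdeal B := by
  haveI : Algebra.IsIntegral (ResidueField R) (ResidueField B) := inferInstance
  obtain ⟨abar, ha⟩ := (IsAlgClosed.algebraMap_bijective_of_isIntegral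
    (k := ResidueField R) (K := ResidueField B)).2 (residue B b)
  obtain ⟨a, rfl⟩ := residue_surjective abar
  refine ⟨a, ?_⟩
  rw [← Ideal.Quotient.eq]
  exact ha.symm

theorem mem_of_map_mem {R B : Type*} [CommRing R] [IsLocalRing R] [CommRing B] [IsLocalRing B]
    [Algebra R B] {x : R} (h : algebraMap R B x ∈ maximalIdeal B) : x ∈ maximalIdeal R := by
  rw [mem_maximalIdeal, mem_nonunits_iff] at h ⊢
  intro hx
  exact h (hx.map (algebraMap R B))

end Residue

section Integral

theorem isIntegral_quartic {R L : Type*} [CommRing R] [CommRing L] [Algebra R L]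
    {x c3 c2 c1 c0 : L}
    (h3 : IsIntegral R c3) (h2 : IsIntegral R c2) (h1 : IsIntegral R c1) (h0 : IsIntegral R c0)
    (h : x ^ 4 + c3 * x ^ 3 + c2 * x ^ 2 + c1 * x + c0 = 0) : IsIntegral R x := by
  have hm : (Polynomial.X ^ 4 + (Polynomial.C (⟨c3, h3⟩ : integralClosure R L) * Polynomial.X ^ 3
      + Polynomial.C (⟨c2, h2⟩ : integralClosure R L) * Polynomial.X ^ 2
      + Polynomial.C (⟨c1, h1⟩ : integralClosure R L) * Polynomial.X
      + Polynomial.C (⟨c0, h0⟩ : integralClosure R L)) :
        Polynomial (integralClosure R L)).Monic :=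
    Polynomial.monic_X_pow_add (lt_of_le_of_lt Polynomial.degree_cubic_le
      (by exact_mod_cast Nat.lt_succ_self 3))
  refine isIntegral_trans (A := integralClosure R L) x ⟨_, hm, ?_⟩
  rw [← Polynomial.aeval_def]
  simp only [map_add, map_mul, map_pow, Polynomial.aeval_X, Polynomial.aeval_C]
  show x ^ 4 + (c3 * x ^ 3 + c2 * x ^ 2 + c1 * x + c0) = 0
  linear_combination h

theorem isIntegral_of_pow_mul {R L : Type*} [CommRing R] [CommRing L] [Algebra R L] {x : L}
    {c d : R} (hd : IsUnit d) (h : x ^ 12 * algebraMap R L d = algebraMap R L c) :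
    IsIntegral R x := by
  obtain ⟨d', hd'⟩ := hd.exists_right_inv
  apply IsIntegral.of_pow (n := 12) (by norm_num)
  have : x ^ 12 = algebraMap R L (c * d') := by
    rw [map_mul, ← h, mul_assoc, ← map_mul, hd', map_one, mul_one]
  rw [this]
  exact isIntegral_algebraMap

end Integral

section Adjoin

theorem exists_sub_mem_of_adjoin {R B : Type*} [CommRing R] [CommRing B] [Algebra R B]
    (G : Set B) (hG : Algebra.adjoin R G = ⊤) (N : Ideal B)
    (h : ∀ g ∈ G, ∃ a : R, g - algebraMap R B a ∈ N) (b : B) :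
    ∃ a : R, b - algebraMap R B a ∈ N := by
  have hb : b ∈ Algebra.adjoin R G := by rw [hG]; exact Algebra.mem_top
  induction hb using Algebra.adjoin_induction with
  | mem x hx => exact h x hx
  | algebraMap r => exact ⟨r, by simp⟩
  | add x y _ _ hx hy =>
    obtain ⟨a, ha⟩ := hx
    obtain ⟨a', ha'⟩ := hy
    refine ⟨a + a', ?_⟩
    have : x + y - algebraMap R B (a + a')
        = (x - algebraMap R B a) + (y - algebraMap R B a') := by
      rw [map_add]; ring
    rw [this]; exact N.add_mem ha ha'
  | mul x y _ _ hx hy =>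
    obtain ⟨a, ha⟩ := hx
    obtain ⟨a', ha'⟩ := hy
    refine ⟨a * a', ?_⟩
    have : x * y - algebraMap R B (a * a')
        = x * (y - algebraMap R B a') + algebraMap R B a' * (x - algebraMap R B a) := by
      rw [map_mul]; ring
    rw [this]; exact N.add_mem (N.mul_mem_left _ ha') (N.mul_mem_left _ ha)

theorem surjective_of_sub_mem {R B : Type*} [CommRing R] [IsLocalRing R] [CommRing B]
    [Algebra R B] [Module.Finite R B]
    (h : ∀ b : B, ∃ a : R, b - algebraMap R B a ∈ (maximalIdeal R).map (algebraMap R B)) :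
    Function.Surjective (algebraMap R B) := by
  have key : (⊤ : Submodule R B) ≤ LinearMap.range (Algebra.linearMap R B) := by
    apply Submodule.le_of_le_smul_of_le_jacobson_bot Module.Finite.fg_top
      (maximalIdeal_le_jacobson ⊥)
    intro b _
    obtain ⟨a, ha⟩ := h b
    refine Submodule.mem_sup.mpr ⟨algebraMap R B a, ⟨a, rfl⟩, b - algebraMap R B a, ?_, by ring⟩
    rw [Ideal.smul_top_eq_map]
    exact ha
  intro b
  obtain ⟨a, ha⟩ := key (Submodule.mem_top : b ∈ ⊤)
  exact ⟨a, ha⟩

end Adjoin

end Groth.Agent.H9.EllIso
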