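import Mathlib

/-!
# Rigidity of changes of variables of Weierstrass cubics with unit discriminant (helper9)

Explicit polynomial identities showing that the infinitesimal stabiliser of a Weierstrass
equation with unit discriminant is trivial (in every characteristic).
-/

set_option autoImplicit false

namespace Groth.Agent.H9.EllIso

open WeierstrassCurve

variable {B : Type*} [CommRing B]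

/-- The discriminant as an explicit polynomial in the coefficients. -/
def Dl (a1 a2 a3 a4 a6 : B) : B :=
  -(a1^2+4*a2)^2*(a1^2*a6+4*a2*a6-a1*a3*a4+a2*a3^2-a4^2) - 8*(2*a4+a1*a3)^3
    - 27*(a3^2+4*a6)^2 + 9*(a1^2+4*a2)*(2*a4+a1*a3)*(a3^2+4*a6)

theorem Δ_eq_Dl (W : WeierstrassCurve B) : W.Δ = Dl W.a₁ W.a₂ W.a₃ W.a₄ W.a₆ := by
  simp only [WeierstrassCurve.Δ, WeierstrassCurve.b₂, WeierstrassCurve.b₄, WeierstrassCurve.b₆,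
    WeierstrassCurve.b₈, Dl]
  try ring

theorem key_e (a1 a2 a3 a4 a6 e r s t : B) :
    Dl a1 a2 a3 a4 a6 * e =
      ((-8)*a3*a4^2 + 24*a2*a3*a6 + 6*a2*a3^3 + 12*a1*a4*a6 + (-5)*a1*a3^2*a4 + 4*a1*a2*a4^2 + (-16)*a1*a2^2*a6 + (-4)*a1*a2^2*a3^2 + 12*a1^2*a3*a6 + 1*a1^2*a3^3 + 4*a1^2*a2*a3*a4 + 1*a1^3*a4^2 + (-8)*a1^3*a2*a6 + (-1)*a1^3*a2*a3^2 + 1*a1^4*a3*a4 + (-1)*a1^5*a6) * (a1*e - 2*s) +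
      (24*a4*a6 + 6*a3^2*a4 + 8*a2*a4^2 + (-32)*a2^2*a6 + (-8)*a2^2*a3^2 + 12*a1*a3*a6 + 3*a1*a3^3 + 8*a1*a2*a3*a4 + 2*a1^2*a4^2 + (-16)*a1^2*a2*a6 + (-2)*a1^2*a2*a3^2 + 2*a1^3*a3*a4 + (-2)*a1^4*a6) * (2*a2*e + a1*s - 3*r) +
      ((-36)*a3*a6 + (-9)*a3^3 + 4*a2*a3*a4 + (-8)*a1*a4^2 + 24*a1*a2*a6 + 8*a1*a2*a3^2 + (-7)*a1^2*a3*a4 + 6*a1^3*a6) * (3*a3*e - a1*r - 2*t) +
      ((-16)*a4^2 + 48*a2*a6 + 12*a2*a3^2 + (-16)*a1*a3*a4 + 12*a1^2*a6 + (-1)*a1^2*a3^2) * (4*a4*e + a3*s - 2*a2*r + a1*t) +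
      ((-72)*a6 + (-18)*a3^2 + 8*a2*a4 + 4*a1*a2*a3 + 2*a1^2*a4 + 1*a1^3*a3) * (6*a6*e - a4*r + a3*t) := by
  unfold Dl
  ring

theorem key_r (a1 a2 a3 a4 a6 e r s t : B) :
    Dl a1 a2 a3 a4 a6 * r =
      ((-12)*a3*a4*a6 + (-3)*a3^3*a4 + (-4)*a2*a3*a4^2 + 16*a2^2*a3*a6 + 4*a2^2*a3^3 + 72*a1*a6^2 + 8*a1*a4^3 + 30*a1*a3^2*a6 + 3*a1*a3^4 + (-32)*a1*a2*a4*a6 + (-12)*a1*a2*a3^2*a4 + 11*a1^2*a3*a4^2 + (-8)*a1^2*a2*a3*a6 + (-3)*a1^2*a2*a3^3 + (-8)*a1^3*a4*a6 + 3*a1^3*a3^2*a4 + (-3)*a1^4*a3*a6) * (a1*e - 2*s) +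
      (144*a6^2 + 16*a4^3 + 72*a3^2*a6 + 9*a3^4 + (-64)*a2*a4*a6 + (-16)*a2*a3^2*a4 + 24*a1*a3*a4^2 + (-32)*a1*a2*a3*a6 + (-8)*a1*a2*a3^3 + (-16)*a1^2*a4*a6 + 8*a1^2*a3^2*a4 + (-8)*a1^3*a3*a6) * (2*a2*e + a1*s - 3*r) +
      (8*a3*a4^2 + (-24)*a2*a3*a6 + (-6)*a2*a3^3 + (-12)*a1*a4*a6 + 5*a1*a3^2*a4 + (-4)*a1*a2*a4^2 + 16*a1*a2^2*a6 + 4*a1*a2^2*a3^2 + (-12)*a1^2*a3*a6 + (-1)*a1^2*a3^3 + (-4)*a1^2*a2*a3*a4 + (-1)*a1^3*a4^2 + 8*a1^3*a2*a6 + 1*a1^3*a2*a3^2 + (-1)*a1^4*a3*a4 + 1*a1^5*a6) * (3*a3*e - a1*r - 2*t) +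
      ((-24)*a4*a6 + (-6)*a3^2*a4 + (-8)*a2*a4^2 + 32*a2^2*a6 + 8*a2^2*a3^2 + (-12)*a1*a3*a6 + (-3)*a1*a3^3 + (-8)*a1*a2*a3*a4 + (-2)*a1^2*a4^2 + 16*a1^2*a2*a6 + 2*a1^2*a2*a3^2 + (-2)*a1^3*a3*a4 + 2*a1^4*a6) * (4*a4*e + a3*s - 2*a2*r + a1*t) +
      (16*a4^2 + (-48)*a2*a6 + (-12)*a2*a3^2 + 16*a1*a3*a4 + (-12)*a1^2*a6 + 1*a1^2*a3^2) * (6*a6*e - a4*r + a3*t) := by
  unfold Dl
  ring

theorem key_s (a1 a2 a3 a4 a6 e r s t : B) :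
    Dl a1 a2 a3 a4 a6 * s =
      (216*a6^2 + 32*a4^3 + 90*a3^2*a6 + 9*a3^4 + (-144)*a2*a4*a6 + (-34)*a2*a3^2*a4 + (-8)*a2^2*a4^2 + 32*a2^3*a6 + 8*a2^3*a3^2 + 40*a1*a3*a4^2 + (-48)*a1*a2*a3*a6 + (-11)*a1*a2*a3^3 + (-8)*a1*a2^2*a3*a4 + (-30)*a1^2*a4*a6 + 9*a1^2*a3^2*a4 + (-2)*a1^2*a2*a4^2 + 16*a1^2*a2^2*a6 + 2*a1^2*a2^2*a3^2 + (-9)*a1^3*a3*a6 + (-2)*a1^3*a2*a3*a4 + 2*a1^4*a2*a6) * (a1*e - 2*s) +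
      ((-8)*a3*a4^2 + 24*a2*a3*a6 + 6*a2*a3^3 + 12*a1*a4*a6 + (-5)*a1*a3^2*a4 + 4*a1*a2*a4^2 + (-16)*a1*a2^2*a6 + (-4)*a1*a2^2*a3^2 + 12*a1^2*a3*a6 + 1*a1^2*a3^3 + 4*a1^2*a2*a3*a4 + 1*a1^3*a4^2 + (-8)*a1^3*a2*a6 + (-1)*a1^3*a2*a3^2 + 1*a1^4*a3*a4 + (-1)*a1^5*a6) * (2*a2*e + a1*s - 3*r) +
      (12*a3^2*a4 + (-4)*a2^2*a3^2 + (-36)*a1*a3*a6 + (-3)*a1*a3^3 + 4*a1*a2*a3*a4 + (-4)*a1^2*a4^2 + 12*a1^2*a2*a6 + 3*a1^2*a2*a3^2 + (-3)*a1^3*a3*a4 + 3*a1^4*a6) * (3*a3*e - a1*r - 2*t) +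
      ((-36)*a3*a6 + (-9)*a3^3 + 4*a2*a3*a4 + (-8)*a1*a4^2 + 24*a1*a2*a6 + 8*a1*a2*a3^2 + (-7)*a1^2*a3*a4 + 6*a1^3*a6) * (4*a4*e + a3*s - 2*a2*r + a1*t) +
      (24*a3*a4 + (-8)*a2^2*a3 + (-36)*a1*a6 + 3*a1*a3^2 + 4*a1*a2*a4 + (-2)*a1^2*a2*a3 + 1*a1^3*a4) * (6*a6*e - a4*r + a3*t) := by
  unfold Dl
  ring

theorem key_t (a1 a2 a3 a4 a6 e r s t : B) :
    Dl a1 a2 a3 a4 a6 * t =
      ((-12)*a3^2*a4^2 + 4*a2^2*a3^2*a4 + 24*a1*a3*a4*a6 + (-6)*a1*a3^3*a4 + (-8)*a1*a2^2*a3*a6 + (-36)*a1^2*a6^2 + (-4)*a1^2*a4^3 + 3*a1^2*a3^2*a6 + 16*a1^2*a2*a4*a6 + 5*a1^2*a2*a3^2*a4 + (-4)*a1^3*a3*a4^2 + (-2)*a1^3*a2*a3*a6 + 4*a1^4*a4*a6) * (a1*e - 2*s) +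
      (36*a3*a4*a6 + 9*a3^3*a4 + (-4)*a2*a3*a4^2 + (-72)*a1*a6^2 + (-8)*a1*a4^3 + (-18)*a1*a3^2*a6 + 32*a1*a2*a4*a6 + 4*a1*a2*a3^2*a4 + (-9)*a1^2*a3*a4^2 + 4*a1^2*a2*a3*a6 + 8*a1^3*a4*a6 + (-1)*a1^3*a3^2*a4 + 1*a1^4*a3*a6) * (2*a2*e + a1*s - 3*r) +
      (216*a6^2 + 32*a4^3 + 54*a3^2*a6 + (-144)*a2*a4*a6 + (-6)*a2*a3^2*a4 + (-8)*a2^2*a4^2 + 32*a2^3*a6 + 32*a1*a3*a4^2 + (-60)*a1*a2*a3*a6 + (-4)*a1*a2^2*a3*a4 + (-30)*a1^2*a4*a6 + 2*a1^2*a3^2*a4 + (-2)*a1^2*a2*a4^2 + 16*a1^2*a2^2*a6 + (-3)*a1^3*a3*a6 + (-1)*a1^3*a2*a3*a4 + 2*a1^4*a2*a6) * (3*a3*e - a1*r - 2*t) +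
      ((-24)*a3*a4^2 + 8*a2^2*a3*a4 + 12*a1*a4*a6 + (-21)*a1*a3^2*a4 + 4*a1*a2*a4^2 + (-16)*a1*a2^2*a6 + 24*a1^2*a3*a6 + 6*a1^2*a2*a3*a4 + 1*a1^3*a4^2 + (-8)*a1^3*a2*a6 + 1*a1^4*a3*a4 + (-1)*a1^5*a6) * (4*a4*e + a3*s - 2*a2*r + a1*t) +
      ((-108)*a3*a6 + (-27)*a3^3 + 60*a2*a3*a4 + (-16)*a2^3*a3 + (-8)*a1*a4^2 + 24*a1*a2*a6 + 36*a1*a2*a3^2 + (-5)*a1^2*a3*a4 + (-8)*a1^2*a2^2*a3 + 6*a1^3*a6 + 1*a1^3*a3^2 + (-1)*a1^4*a2*a3) * (6*a6*e - a4*r + a3*t) := by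
  unfold Dl
  ring

theorem rigid_raw (I : Ideal B) (a1 a2 a3 a4 a6 b1 b2 b3 b4 b6 u r s t : B)
    (h1 : u * b1 = a1 + 2 * s)
    (h2 : u ^ 2 * b2 = a2 - s * a1 + 3 * r - s ^ 2)
    (h3 : u ^ 3 * b3 = a3 + r * a1 + 2 * t)
    (h4 : u ^ 4 * b4 = a4 - s * a3 + 2 * r * a2 - (t + r * s) * a1 + 3 * r ^ 2 - 2 * s * t)
    (h6 : u ^ 6 * b6 = a6 + r * a4 + r ^ 2 * a2 + r ^ 3 - t * a3 - t ^ 2 - r * t * a1)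
    (d1 : a1 - b1 ∈ I) (d2 : a2 - b2 ∈ I) (d3 : a3 - b3 ∈ I) (d4 : a4 - b4 ∈ I)
    (d6 : a6 - b6 ∈ I)
    (hee : (u - 1) * (u - 1) ∈ I) (hrr : r * r ∈ I) (hrs : r * s ∈ I) (hrt : r * t ∈ I)
    (hss : s * s ∈ I) (hst : s * t ∈ I) (htt : t * t ∈ I)
    (hΔ : IsUnit (Dl a1 a2 a3 a4 a6)) :
    u - 1 ∈ I ∧ r ∈ I ∧ s ∈ I ∧ t ∈ I := by
  have l1 : a1 * (u - 1) - 2 * s ∈ I := by
    have e : a1 * (u - 1) - 2 * s = u * (a1 - b1) := by linear_combination h1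
    rw [e]; exact I.mul_mem_left _ d1
  have l2 : 2 * a2 * (u - 1) + a1 * s - 3 * r ∈ I := by
    have e : 2 * a2 * (u - 1) + a1 * s - 3 * r
        = u ^ 2 * (a2 - b2) - a2 * ((u - 1) * (u - 1)) - s * s := by linear_combination h2
    rw [e]
    exact I.sub_mem (I.sub_mem (I.mul_mem_left _ d2) (I.mul_mem_left _ hee)) hss
  have l3 : 3 * a3 * (u - 1) - a1 * r - 2 * t ∈ I := by
    have e : 3 * a3 * (u - 1) - a1 * r - 2 * t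
        = u ^ 3 * (a3 - b3) - a3 * (u + 2) * ((u - 1) * (u - 1)) := by linear_combination h3
    rw [e]
    exact I.sub_mem (I.mul_mem_left _ d3) (I.mul_mem_left _ hee)
  have l4 : 4 * a4 * (u - 1) + a3 * s - 2 * a2 * r + a1 * t ∈ I := by
    have e : 4 * a4 * (u - 1) + a3 * s - 2 * a2 * r + a1 * t
        = u ^ 4 * (a4 - b4) - a4 * (u ^ 2 + 2 * u + 3) * ((u - 1) * (u - 1)) - a1 * (r * s)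
          + 3 * (r * r) - 2 * (s * t) := by linear_combination h4
    rw [e]
    exact I.sub_mem (I.add_mem (I.sub_mem (I.sub_mem (I.mul_mem_left _ d4)
      (I.mul_mem_left _ hee)) (I.mul_mem_left _ hrs)) (I.mul_mem_left _ hrr))
      (I.mul_mem_left _ hst)
  have l6 : 6 * a6 * (u - 1) - a4 * r + a3 * t ∈ I := by
    have e : 6 * a6 * (u - 1) - a4 * r + a3 * t
        = u ^ 6 * (a6 - b6)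
          - a6 * (u ^ 4 + 2 * u ^ 3 + 3 * u ^ 2 + 4 * u + 5) * ((u - 1) * (u - 1))
          + a2 * (r * r) + r * (r * r) - t * t - a1 * (r * t) := by linear_combination h6
    rw [e]
    exact I.sub_mem (I.sub_mem (I.add_mem (I.add_mem (I.sub_mem (I.mul_mem_left _ d6)
      (I.mul_mem_left _ hee)) (I.mul_mem_left _ hrr)) (I.mul_mem_left _ hrr)) htt)
      (I.mul_mem_left _ hrt)
  have comb : ∀ c1 c2 c3 c4 c6 : B,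
      c1 * (a1 * (u - 1) - 2 * s) + c2 * (2 * a2 * (u - 1) + a1 * s - 3 * r)
        + c3 * (3 * a3 * (u - 1) - a1 * r - 2 * t)
        + c4 * (4 * a4 * (u - 1) + a3 * s - 2 * a2 * r + a1 * t)
        + c6 * (6 * a6 * (u - 1) - a4 * r + a3 * t) ∈ I := fun c1 c2 c3 c4 c6 =>
    I.add_mem (I.add_mem (I.add_mem (I.add_mem (I.mul_mem_left _ l1) (I.mul_mem_left _ l2))
      (I.mul_mem_left _ l3)) (I.mul_mem_left _ l4)) (I.mul_mem_left _ l6)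
  refine ⟨?_, ?_, ?_, ?_⟩
  · rw [← Ideal.unit_mul_mem_iff_mem I hΔ, key_e a1 a2 a3 a4 a6 (u - 1) r s t]
    exact comb _ _ _ _ _
  · rw [← Ideal.unit_mul_mem_iff_mem I hΔ, key_r a1 a2 a3 a4 a6 (u - 1) r s t]
    exact comb _ _ _ _ _
  · rw [← Ideal.unit_mul_mem_iff_mem I hΔ, key_s a1 a2 a3 a4 a6 (u - 1) r s t]
    exact comb _ _ _ _ _
  · rw [← Ideal.unit_mul_mem_iff_mem I hΔ, key_t a1 a2 a3 a4 a6 (u - 1) r s t]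
    exact comb _ _ _ _ _

theorem diff_raw (n : Ideal B) (a1 a2 a3 a4 a6 b1 b2 b3 b4 b6 u r s t : B)
    (h1 : u * b1 = a1 + 2 * s)
    (h2 : u ^ 2 * b2 = a2 - s * a1 + 3 * r - s ^ 2)
    (h3 : u ^ 3 * b3 = a3 + r * a1 + 2 * t)
    (h4 : u ^ 4 * b4 = a4 - s * a3 + 2 * r * a2 - (t + r * s) * a1 + 3 * r ^ 2 - 2 * s * t)
    (h6 : u ^ 6 * b6 = a6 + r * a4 + r ^ 2 * a2 + r ^ 3 - t * a3 - t ^ 2 - r * t * a1)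
    (he : u - 1 ∈ n) (hr : r ∈ n) (hs : s ∈ n) (ht : t ∈ n) :
    a1 - b1 ∈ n ∧ a2 - b2 ∈ n ∧ a3 - b3 ∈ n ∧ a4 - b4 ∈ n ∧ a6 - b6 ∈ n := by
  refine ⟨?_, ?_, ?_, ?_, ?_⟩
  · have e : a1 - b1 = (u - 1) * b1 - s * 2 := by linear_combination (-1 : B) * h1
    rw [e]; exact n.sub_mem (n.mul_mem_right _ he) (n.mul_mem_right _ hs)
  · have e : a2 - b2 = (u - 1) * ((u + 1) * b2) + s * (a1 + s) - r * 3 := by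
      linear_combination (-1 : B) * h2
    rw [e]
    exact n.sub_mem (n.add_mem (n.mul_mem_right _ he) (n.mul_mem_right _ hs))
      (n.mul_mem_right _ hr)
  · have e : a3 - b3 = (u - 1) * ((u ^ 2 + u + 1) * b3) - r * a1 - t * 2 := by
      linear_combination (-1 : B) * h3
    rw [e]
    exact n.sub_mem (n.sub_mem (n.mul_mem_right _ he) (n.mul_mem_right _ hr))
      (n.mul_mem_right _ ht)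
  · have e : a4 - b4 = (u - 1) * ((u ^ 3 + u ^ 2 + u + 1) * b4) + s * (a3 + 2 * t)
        + r * (-2 * a2 + s * a1 - 3 * r) + t * a1 := by
      linear_combination (-1 : B) * h4
    rw [e]
    exact n.add_mem (n.add_mem (n.add_mem (n.mul_mem_right _ he) (n.mul_mem_right _ hs))
      (n.mul_mem_right _ hr)) (n.mul_mem_right _ ht)
  · have e : a6 - b6 = (u - 1) * ((u ^ 5 + u ^ 4 + u ^ 3 + u ^ 2 + u + 1) * b6)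
        + r * (-a4 - r * a2 - r ^ 2 + t * a1) + t * (a3 + t) := by
      linear_combination (-1 : B) * h6
    rw [e]
    exact n.add_mem (n.add_mem (n.mul_mem_right _ he) (n.mul_mem_right _ hr))
      (n.mul_mem_right _ ht)

theorem eqs_of_smul (D : VariableChange B) (W W' : WeierstrassCurve B) (h : D • W = W') :
    (D.u : B) * W'.a₁ = W.a₁ + 2 * D.s ∧
    (D.u : B) ^ 2 * W'.a₂ = W.a₂ - D.s * W.a₁ + 3 * D.r - D.s ^ 2 ∧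
    (D.u : B) ^ 3 * W'.a₃ = W.a₃ + D.r * W.a₁ + 2 * D.t ∧
    (D.u : B) ^ 4 * W'.a₄ = W.a₄ - D.s * W.a₃ + 2 * D.r * W.a₂ - (D.t + D.r * D.s) * W.a₁
      + 3 * D.r ^ 2 - 2 * D.s * D.t ∧
    (D.u : B) ^ 6 * W'.a₆ = W.a₆ + D.r * W.a₄ + D.r ^ 2 * W.a₂ + D.r ^ 3 - D.t * W.a₃ - D.t ^ 2
      - D.r * D.t * W.a₁ := by
  subst h
  have hu : ∀ (n : ℕ) (x : B), (D.u : B) ^ n * ((↑D.u⁻¹ : B) ^ n * x) = x := by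
    intro n x
    rw [← mul_assoc, ← mul_pow, Units.mul_inv, one_pow, one_mul]
  refine ⟨?_, ?_, ?_, ?_, ?_⟩
  · rw [variableChange_a₁]
    have := hu 1 (W.a₁ + 2 * D.s)
    simpa only [pow_one] using this
  · rw [variableChange_a₂]; exact hu 2 _
  · rw [variableChange_a₃]; exact hu 3 _
  · rw [variableChange_a₄]; exact hu 4 _
  · rw [variableChange_a₆]; exact hu 6 _

theorem beqs_of_smul (D : VariableChange B) (W W' : WeierstrassCurve B) (h : D • W = W') :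
    (D.u : B) ^ 6 * W'.b₆ = W.b₆ + 2 * D.r * W.b₄ + D.r ^ 2 * W.b₂ + 4 * D.r ^ 3 ∧
    (D.u : B) ^ 8 * W'.b₈ = W.b₈ + 3 * D.r * W.b₆ + 3 * D.r ^ 2 * W.b₄ + D.r ^ 3 * W.b₂
      + 3 * D.r ^ 4 ∧
    (D.u : B) ^ 12 * W'.Δ = W.Δ ∧ ((D.u⁻¹ : Bˣ) : B) ^ 12 * W.Δ = W'.Δ := by
  subst h
  have hu : ∀ (n : ℕ) (x : B), (D.u : B) ^ n * ((↑D.u⁻¹ : B) ^ n * x) = x := by
    intro n x
    rw [← mul_assoc, ← mul_pow, Units.mul_inv, one_pow, one_mul]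
  refine ⟨?_, ?_, ?_, ?_⟩
  · rw [variableChange_b₆]; exact hu 6 _
  · rw [variableChange_b₈]; exact hu 8 _
  · rw [variableChange_Δ]; exact hu 12 _
  · rw [variableChange_Δ]

theorem rigid (I : Ideal B) (W W' : WeierstrassCurve B) (D : VariableChange B)
    (h : D • W = W')
    (d1 : W.a₁ - W'.a₁ ∈ I) (d2 : W.a₂ - W'.a₂ ∈ I) (d3 : W.a₃ - W'.a₃ ∈ I)
    (d4 : W.a₄ - W'.a₄ ∈ I) (d6 : W.a₆ - W'.a₆ ∈ I)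
    (hee : ((D.u : B) - 1) * ((D.u : B) - 1) ∈ I) (hrr : D.r * D.r ∈ I) (hrs : D.r * D.s ∈ I)
    (hrt : D.r * D.t ∈ I) (hss : D.s * D.s ∈ I) (hst : D.s * D.t ∈ I) (htt : D.t * D.t ∈ I)
    (hΔ : IsUnit W.Δ) :
    (D.u : B) - 1 ∈ I ∧ D.r ∈ I ∧ D.s ∈ I ∧ D.t ∈ I := by
  obtain ⟨h1, h2, h3, h4, h6⟩ := eqs_of_smul D W W' h
  rw [Δ_eq_Dl] at hΔ
  exact rigid_raw I _ _ _ _ _ _ _ _ _ _ _ _ _ _ h1 h2 h3 h4 h6 d1 d2 d3 d4 d6 hee hrr hrs hrt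
    hss hst htt hΔ

theorem diff_mem (n : Ideal B) (W W' : WeierstrassCurve B) (D : VariableChange B)
    (h : D • W = W') (he : (D.u : B) - 1 ∈ n) (hr : D.r ∈ n) (hs : D.s ∈ n) (ht : D.t ∈ n) :
    W.a₁ - W'.a₁ ∈ n ∧ W.a₂ - W'.a₂ ∈ n ∧ W.a₃ - W'.a₃ ∈ n ∧ W.a₄ - W'.a₄ ∈ n ∧
      W.a₆ - W'.a₆ ∈ n := by
  obtain ⟨h1, h2, h3, h4, h6⟩ := eqs_of_smul D W W' h
  exact diff_raw n _ _ _ _ _ _ _ _ _ _ _ _ _ _ h1 h2 h3 h4 h6 he hr hs ht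

section Entries

variable {R : Type*} [CommRing R] (φ : R →+* B)

theorem mul_map_entries (D : VariableChange B) (Ct : VariableChange R) :
    ((D * Ct.map φ).u : B) = D.u * φ Ct.u ∧
    (D * Ct.map φ).r = D.r * (φ Ct.u) ^ 2 + φ Ct.r ∧
    (D * Ct.map φ).s = φ Ct.u * D.s + φ Ct.s ∧
    (D * Ct.map φ).t = D.t * (φ Ct.u) ^ 3 + D.r * φ Ct.s * (φ Ct.u) ^ 2 + φ Ct.t :=
  ⟨rfl, rfl, rfl, rfl⟩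

theorem mul_inv_map_entries (X : VariableChange B) (Ct : VariableChange R) :
    ((X * (Ct.map φ)⁻¹).u : B) = X.u * φ ↑Ct.u⁻¹ ∧
    (X * (Ct.map φ)⁻¹).r = (X.r - φ Ct.r) * (φ ↑Ct.u⁻¹) ^ 2 ∧
    (X * (Ct.map φ)⁻¹).s = (X.s - φ Ct.s) * φ ↑Ct.u⁻¹ ∧
    (X * (Ct.map φ)⁻¹).t = ((X.t - φ Ct.t) - φ Ct.s * (X.r - φ Ct.r)) * (φ ↑Ct.u⁻¹) ^ 3 := by
  refine ⟨rfl, ?_, ?_, ?_⟩
  · show X.r * (φ ↑Ct.u⁻¹) ^ 2 + -(φ Ct.r) * (φ ↑Ct.u⁻¹) ^ 2 = _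
    ring
  · show φ ↑Ct.u⁻¹ * X.s + -(φ Ct.s) * φ ↑Ct.u⁻¹ = _
    ring
  · show X.t * (φ ↑Ct.u⁻¹) ^ 3 + X.r * (-(φ Ct.s) * φ ↑Ct.u⁻¹) * (φ ↑Ct.u⁻¹) ^ 2
      + (φ Ct.r * φ Ct.s - φ Ct.t) * (φ ↑Ct.u⁻¹) ^ 3 = _
    ring

end Entries

end Groth.Agent.H9.EllIso
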