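import Mathlib
import Groth.Agent.Lib.Helper9.Misc.EllIsoA
import Groth.Agent.Lib.Helper9.Misc.EllIsoB

/-!
# Elliptic curves over a complete local domain with algebraically closed residue field and
equal `j`-invariants are isomorphic (helper9)
-/

set_option autoImplicit false
set_option linter.style.haveILetI false
set_option linter.unusedSectionVars false
set_option linter.unusedVariables false

namespace Groth.Agent.H9.EllIso

open IsLocalRing WeierstrassCurve

universe u

theorem integral_entries {R L : Type*} [CommRing R] [CommRing L] [Algebra R L]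
    (W₁ W₂ : WeierstrassCurve R) [W₁.IsElliptic] [W₂.IsElliptic] (C : VariableChange L)
    (hC : C • W₁.map (algebraMap R L) = W₂.map (algebraMap R L)) :
    IsIntegral R (C.u : L) ∧ IsIntegral R ((C.u⁻¹ : Lˣ) : L) ∧ IsIntegral R C.r ∧
      IsIntegral R C.s ∧ IsIntegral R C.t := by
  obtain ⟨h1, h2, h3, h4, h6⟩ := eqs_of_smul C _ _ hC
  obtain ⟨hb6, hb8, hΔu, hΔv⟩ := beqs_of_smul C _ _ hC
  have ia : ∀ x : R, IsIntegral R (algebraMap R L x) := fun x => isIntegral_algebraMap
  have iu : IsIntegral R (C.u : L) := by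
    refine isIntegral_of_pow_mul (c := W₁.Δ) (d := W₂.Δ) W₂.isUnit_Δ ?_
    rw [← map_Δ, ← map_Δ]; exact hΔu
  have iv : IsIntegral R ((C.u⁻¹ : Lˣ) : L) := by
    refine isIntegral_of_pow_mul (c := W₂.Δ) (d := W₁.Δ) W₁.isUnit_Δ ?_
    rw [← map_Δ, ← map_Δ]; exact hΔv
  have ir : IsIntegral R C.r := by
    refine isIntegral_quartic (c3 := 0) (c2 := -(W₁.map (algebraMap R L)).b₄)
      (c1 := -(((W₁.map (algebraMap R L)).b₆ + (W₁.map (algebraMap R L)).b₆)
        + (C.u : L) ^ 6 * (W₂.map (algebraMap R L)).b₆))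
      (c0 := (C.u : L) ^ 8 * (W₂.map (algebraMap R L)).b₈ - (W₁.map (algebraMap R L)).b₈)
      isIntegral_zero ?_ ?_ ?_ ?_
    · rw [map_b₄]; exact (ia _).neg
    · rw [map_b₆, map_b₆]
      exact (((ia _).add (ia _)).add ((iu.pow 6).mul (ia _))).neg
    · rw [map_b₈, map_b₈]
      exact ((iu.pow 8).mul (ia _)).sub (ia _)
    · linear_combination (-C.r) * hb6 + hb8
  have isx : IsIntegral R C.s := by
    refine isIntegral_quartic (c3 := (W₁.map (algebraMap R L)).a₁)
      (c2 := -((W₁.map (algebraMap R L)).a₂ + (C.r + C.r + C.r)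
        - (C.u : L) ^ 2 * (W₂.map (algebraMap R L)).a₂))
      (c1 := 0) (c0 := 0) (ia _) ?_ isIntegral_zero isIntegral_zero ?_
    · exact (((ia _).add ((ir.add ir).add ir)).sub ((iu.pow 2).mul (ia _))).neg
    · linear_combination C.s ^ 2 * h2
  have it : IsIntegral R C.t := by
    refine isIntegral_quartic
      (c3 := (W₁.map (algebraMap R L)).a₃ + C.r * (W₁.map (algebraMap R L)).a₁)
      (c2 := -((W₁.map (algebraMap R L)).a₆ + C.r * (W₁.map (algebraMap R L)).a₄
        + C.r ^ 2 * (W₁.map (algebraMap R L)).a₂ + C.r ^ 3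
        - (C.u : L) ^ 6 * (W₂.map (algebraMap R L)).a₆))
      (c1 := 0) (c0 := 0) ((ia _).add (ir.mul (ia _))) ?_ isIntegral_zero isIntegral_zero ?_
    · exact (((((ia _).add (ir.mul (ia _))).add ((ir.pow 2).mul (ia _))).add (ir.pow 3)).sub
        ((iu.pow 6).mul (ia _))).neg
    · linear_combination C.t ^ 2 * h6
  exact ⟨iu, iv, ir, isx, it⟩

theorem core (R : Type u) [CommRing R] [IsNoetherianRing R] [IsLocalRing R]
    [IsAdicComplete (maximalIdeal R) R] [IsAlgClosed (ResidueField R)]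
    (B : Type u) [CommRing B] [IsDomain B] [Algebra R B] [Module.Finite R B]
    (hinj : Function.Injective (algebraMap R B))
    (W₁ W₂ : WeierstrassCurve R) [W₁.IsElliptic] [W₂.IsElliptic]
    (CB : VariableChange B) (hCB : CB • W₁.map (algebraMap R B) = W₂.map (algebraMap R B))
    (hgen : Algebra.adjoin R ({(CB.u : B), ((CB.u⁻¹ : Bˣ) : B), CB.r, CB.s, CB.t} : Set B) = ⊤) :
    Function.Surjective (algebraMap R B) := by
  haveI : IsLocalRing B := isLocalRing_of_finite_domain R B
  haveI : IsLocalHom (algebraMap R B) :=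
    (algebraMap_isIntegral_iff.mpr inferInstance).isLocalHom hinj
  obtain ⟨u0, hu0⟩ := exists_sub_mem R B (CB.u : B)
  obtain ⟨r0, hr0⟩ := exists_sub_mem R B CB.r
  obtain ⟨s0, hs0⟩ := exists_sub_mem R B CB.s
  obtain ⟨t0, ht0⟩ := exists_sub_mem R B CB.t
  have hu0u : IsUnit u0 := by
    by_contra hnu
    have h1 : algebraMap R B u0 ∈ maximalIdeal B :=
      map_nonunit (algebraMap R B) u0 ((mem_maximalIdeal _).mpr hnu)
    have h2 : (CB.u : B) ∈ maximalIdeal B := by
      have := (maximalIdeal B).add_mem hu0 h1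
      rwa [sub_add_cancel] at this
    exact (mem_maximalIdeal _).mp h2 CB.u.isUnit
  obtain ⟨Ct, hCtu, hCtr, hCts, hCtt⟩ : ∃ Ct : VariableChange R,
      (Ct.u : R) = u0 ∧ Ct.r = r0 ∧ Ct.s = s0 ∧ Ct.t = t0 :=
    ⟨⟨hu0u.unit, r0, s0, t0⟩, rfl, rfl, rfl, rfl⟩
  subst hCtu hCtr hCts hCtt
  obtain ⟨D, hDdef⟩ : ∃ D : VariableChange B, D = CB * (Ct.map (algebraMap R B))⁻¹ := ⟨_, rfl⟩
  have hD : D • ((Ct • W₁).map (algebraMap R B)) = W₂.map (algebraMap R B) := by
    rw [← map_variableChange, smul_smul, hDdef, inv_mul_cancel_right, hCB]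
  have hCB' : CB = D * Ct.map (algebraMap R B) := by rw [hDdef, inv_mul_cancel_right]
  obtain ⟨e_u, e_r, e_s, e_t⟩ := mul_inv_map_entries (algebraMap R B) CB Ct
  rw [← hDdef] at e_u e_r e_s e_t
  obtain ⟨k_u, k_r, k_s, k_t⟩ := mul_map_entries (algebraMap R B) D Ct
  rw [← hCB'] at k_u k_r k_s k_t
  have hw : algebraMap R B (Ct.u : R) * algebraMap R B ((Ct.u⁻¹ : Rˣ) : R) = 1 := by
    rw [← map_mul, Units.mul_inv, map_one]
  -- the entries of `D` lie in the maximal ideal
  have mu : (D.u : B) - 1 ∈ maximalIdeal B := by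
    have : (D.u : B) - 1
        = ((CB.u : B) - algebraMap R B (Ct.u : R)) * algebraMap R B ((Ct.u⁻¹ : Rˣ) : R) := by
      rw [e_u]; linear_combination hw
    rw [this]; exact Ideal.mul_mem_right _ _ hu0
  have mr : D.r ∈ maximalIdeal B := by rw [e_r]; exact Ideal.mul_mem_right _ _ hr0
  have ms : D.s ∈ maximalIdeal B := by rw [e_s]; exact Ideal.mul_mem_right _ _ hs0
  have mt : D.t ∈ maximalIdeal B := by
    rw [e_t]
    exact Ideal.mul_mem_right _ _ ((maximalIdeal B).sub_mem ht0 (Ideal.mul_mem_left _ _ hr0))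
  obtain ⟨f1, f2, f3, f4, f6⟩ := diff_mem (maximalIdeal B) _ _ D hD mu mr ms mt
  have toJ : ∀ x y : R, algebraMap R B x - algebraMap R B y ∈ maximalIdeal B →
      algebraMap R B x - algebraMap R B y ∈ (maximalIdeal R).map (algebraMap R B) := by
    intro x y h
    rw [← map_sub] at h ⊢
    exact Ideal.mem_map_of_mem _ (mem_of_map_mem h)
  obtain ⟨S, hS⟩ : ∃ S : Set B, S = {(D.u : B) - 1, D.r, D.s, D.t} := ⟨_, rfl⟩
  have hSfin : S.Finite := by
    rw [hS]
    exact Set.Finite.insert _ (Set.Finite.insert _ (Set.Finite.insert _ (Set.finite_singleton _)))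
  have S1 : (D.u : B) - 1 ∈ S := by rw [hS]; simp
  have S2 : D.r ∈ S := by rw [hS]; simp
  have S3 : D.s ∈ S := by rw [hS]; simp
  have S4 : D.t ∈ S := by rw [hS]; simp
  have hprod : ∀ x y : B, x ∈ maximalIdeal B → y ∈ S →
      x * y ∈ (maximalIdeal R).map (algebraMap R B) ⊔ maximalIdeal B * Ideal.span S :=
    fun x y hx hy => Ideal.mem_sup_right (Ideal.mul_mem_mul hx (Ideal.subset_span hy))
  obtain ⟨q1, q2, q3, q4⟩ := rigid
    ((maximalIdeal R).map (algebraMap R B) ⊔ maximalIdeal B * Ideal.span S) _ _ D hD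
    (Ideal.mem_sup_left (toJ _ _ f1)) (Ideal.mem_sup_left (toJ _ _ f2))
    (Ideal.mem_sup_left (toJ _ _ f3)) (Ideal.mem_sup_left (toJ _ _ f4))
    (Ideal.mem_sup_left (toJ _ _ f6))
    (hprod _ _ mu S1) (hprod _ _ mr S2) (hprod _ _ mr S3) (hprod _ _ mr S4)
    (hprod _ _ ms S3) (hprod _ _ ms S4) (hprod _ _ mt S4)
    ((Ct • W₁).map (algebraMap R B)).isUnit_Δ
  have hNI : Ideal.span S ≤
      (maximalIdeal R).map (algebraMap R B) ⊔ maximalIdeal B * Ideal.span S := by
    rw [Ideal.span_le]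
    intro x hx
    rw [hS] at hx
    simp only [Set.mem_insert_iff, Set.mem_singleton_iff] at hx
    rcases hx with rfl | rfl | rfl | rfl
    · exact q1
    · exact q2
    · exact q3
    · exact q4
  have hNJ : Ideal.span S ≤ (maximalIdeal R).map (algebraMap R B) :=
    Submodule.le_of_le_smul_of_le_jacobson_bot (Submodule.fg_span hSfin)
      (maximalIdeal_le_jacobson ⊥) (by rw [Ideal.smul_eq_mul]; exact hNI)
  -- generators are congruent to elements of `R` modulo `span S`
  have hcv : (CB.u : B) * ((CB.u⁻¹ : Bˣ) : B) = 1 := Units.mul_inv _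
  have hgens : ∀ g ∈ ({(CB.u : B), ((CB.u⁻¹ : Bˣ) : B), CB.r, CB.s, CB.t} : Set B),
      ∃ a : R, g - algebraMap R B a ∈ Ideal.span S := by
    intro g hg
    simp only [Set.mem_insert_iff, Set.mem_singleton_iff] at hg
    rcases hg with rfl | rfl | rfl | rfl | rfl
    · refine ⟨(Ct.u : R), ?_⟩
      have : (CB.u : B) - algebraMap R B (Ct.u : R)
          = algebraMap R B (Ct.u : R) * ((D.u : B) - 1) := by rw [k_u]; ring
      rw [this]; exact Ideal.mul_mem_left _ _ (Ideal.subset_span S1)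
    · refine ⟨((Ct.u⁻¹ : Rˣ) : R), ?_⟩
      have : ((CB.u⁻¹ : Bˣ) : B) - algebraMap R B ((Ct.u⁻¹ : Rˣ) : R)
          = -((CB.u⁻¹ : Bˣ) : B) * ((D.u : B) - 1) := by
        rw [e_u]; linear_combination (algebraMap R B ((Ct.u⁻¹ : Rˣ) : R)) * hcv
      rw [this]; exact Ideal.mul_mem_left _ _ (Ideal.subset_span S1)
    · refine ⟨Ct.r, ?_⟩
      have : CB.r - algebraMap R B Ct.r = (algebraMap R B (Ct.u : R)) ^ 2 * D.r := by
        rw [k_r]; ring
      rw [this]; exact Ideal.mul_mem_left _ _ (Ideal.subset_span S2)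
    · refine ⟨Ct.s, ?_⟩
      have : CB.s - algebraMap R B Ct.s = algebraMap R B (Ct.u : R) * D.s := by
        rw [k_s]; ring
      rw [this]; exact Ideal.mul_mem_left _ _ (Ideal.subset_span S3)
    · refine ⟨Ct.t, ?_⟩
      have : CB.t - algebraMap R B Ct.t = (algebraMap R B (Ct.u : R)) ^ 3 * D.t
          + (algebraMap R B Ct.s * (algebraMap R B (Ct.u : R)) ^ 2) * D.r := by
        rw [k_t]; ring
      rw [this]
      exact Ideal.add_mem _ (Ideal.mul_mem_left _ _ (Ideal.subset_span S4))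
        (Ideal.mul_mem_left _ _ (Ideal.subset_span S2))
  apply surjective_of_sub_mem
  intro b
  obtain ⟨a, ha⟩ := exists_sub_mem_of_adjoin _ hgen (Ideal.span S) hgens b
  exact ⟨a, hNJ ha⟩

theorem main_aux (R : Type u) [CommRing R] [IsNoetherianRing R] [IsLocalRing R]
    [IsAdicComplete (maximalIdeal R) R] [IsAlgClosed (ResidueField R)]
    (L : Type u) [Field L] [Algebra R L] (hφ : Function.Injective (algebraMap R L))
    (W₁ W₂ : WeierstrassCurve R) [W₁.IsElliptic] [W₂.IsElliptic] (C : VariableChange L)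
    (hC : C • W₁.map (algebraMap R L) = W₂.map (algebraMap R L)) :
    ∃ C' : VariableChange R, C' • W₁ = W₂ := by
  obtain ⟨iu, iv, ir, isx, it⟩ := integral_entries W₁ W₂ C hC
  obtain ⟨S, hS⟩ : ∃ S : Set L, S = {(C.u : L), ((C.u⁻¹ : Lˣ) : L), C.r, C.s, C.t} := ⟨_, rfl⟩
  have hSfin : S.Finite := by
    rw [hS]
    exact Set.Finite.insert _ (Set.Finite.insert _ (Set.Finite.insert _
      (Set.Finite.insert _ (Set.finite_singleton _))))
  have hSint : ∀ x ∈ S, IsIntegral R x := by
    rw [hS]; intro x hx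
    simp only [Set.mem_insert_iff, Set.mem_singleton_iff] at hx
    rcases hx with rfl | rfl | rfl | rfl | rfl <;> assumption
  haveI : Module.Finite R (Algebra.adjoin R S) :=
    Module.Finite.iff_fg.mpr (fg_adjoin_of_finite hSfin hSint)
  have m1 : (C.u : L) ∈ Algebra.adjoin R S := Algebra.subset_adjoin (by rw [hS]; simp)
  have m2 : ((C.u⁻¹ : Lˣ) : L) ∈ Algebra.adjoin R S := Algebra.subset_adjoin (by rw [hS]; simp)
  have m3 : C.r ∈ Algebra.adjoin R S := Algebra.subset_adjoin (by rw [hS]; simp)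
  have m4 : C.s ∈ Algebra.adjoin R S := Algebra.subset_adjoin (by rw [hS]; simp)
  have m5 : C.t ∈ Algebra.adjoin R S := Algebra.subset_adjoin (by rw [hS]; simp)
  obtain ⟨CB, hCBu, hCBv, hCBr, hCBs, hCBt⟩ : ∃ CB : VariableChange (Algebra.adjoin R S),
      (((CB.u : Algebra.adjoin R S)) : L) = C.u ∧
      ((((CB.u⁻¹ : (Algebra.adjoin R S)ˣ) : Algebra.adjoin R S)) : L) = ((C.u⁻¹ : Lˣ) : L) ∧
      ((CB.r : Algebra.adjoin R S) : L) = C.r ∧ ((CB.s : Algebra.adjoin R S) : L) = C.s ∧
      ((CB.t : Algebra.adjoin R S) : L) = C.t :=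
    ⟨⟨⟨⟨C.u, m1⟩, ⟨((C.u⁻¹ : Lˣ) : L), m2⟩, Subtype.ext (Units.mul_inv _),
      Subtype.ext (Units.inv_mul _)⟩, ⟨C.r, m3⟩, ⟨C.s, m4⟩, ⟨C.t, m5⟩⟩, rfl, rfl, rfl, rfl, rfl⟩
  have hι : Function.Injective (algebraMap (Algebra.adjoin R S) L) := Subtype.val_injective
  have hCBC : CB.map (algebraMap (Algebra.adjoin R S) L) = C := by
    ext
    · exact hCBu
    · exact hCBr
    · exact hCBs
    · exact hCBt
  have hCB : CB • W₁.map (algebraMap R (Algebra.adjoin R S))
      = W₂.map (algebraMap R (Algebra.adjoin R S)) := by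
    apply WeierstrassCurve.map_injective hι
    beta_reduce
    rw [← map_variableChange, map_map, map_map,
      ← IsScalarTower.algebraMap_eq R (Algebra.adjoin R S) L, hCBC]
    exact hC
  have hinj : Function.Injective (algebraMap R (Algebra.adjoin R S)) := by
    intro x y hxy
    apply hφ
    have := congrArg (algebraMap (Algebra.adjoin R S) L) hxy
    rwa [← IsScalarTower.algebraMap_apply, ← IsScalarTower.algebraMap_apply] at this
  have hgen : Algebra.adjoin R ({(CB.u : Algebra.adjoin R S),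
      ((CB.u⁻¹ : (Algebra.adjoin R S)ˣ) : Algebra.adjoin R S), CB.r, CB.s, CB.t} :
        Set (Algebra.adjoin R S)) = ⊤ := by
    have h0 := Algebra.adjoin_adjoin_coe_preimage (R := R) (s := S)
    have hset : (((↑) : Algebra.adjoin R S → L) ⁻¹' S) = {(CB.u : Algebra.adjoin R S),
        ((CB.u⁻¹ : (Algebra.adjoin R S)ˣ) : Algebra.adjoin R S), CB.r, CB.s, CB.t} := by
      ext x
      simp only [Set.mem_preimage, Set.mem_insert_iff, Set.mem_singleton_iff, Subtype.ext_iff,
        hS, hCBu, hCBv, hCBr, hCBs, hCBt]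
    rw [hset] at h0
    exact h0
  have hsurj := core R (Algebra.adjoin R S) hinj W₁ W₂ CB hCB hgen
  obtain ⟨au, hau⟩ := hsurj (CB.u : Algebra.adjoin R S)
  obtain ⟨av, hav⟩ := hsurj ((CB.u⁻¹ : (Algebra.adjoin R S)ˣ) : Algebra.adjoin R S)
  obtain ⟨ar, har⟩ := hsurj CB.r
  obtain ⟨as, has⟩ := hsurj CB.s
  obtain ⟨at', hat⟩ := hsurj CB.t
  have hau' : algebraMap R L au = C.u := by
    rw [IsScalarTower.algebraMap_apply R (Algebra.adjoin R S) L, hau]; exact hCBu
  have hav' : algebraMap R L av = ((C.u⁻¹ : Lˣ) : L) := by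
    rw [IsScalarTower.algebraMap_apply R (Algebra.adjoin R S) L, hav]; exact hCBv
  have har' : algebraMap R L ar = C.r := by
    rw [IsScalarTower.algebraMap_apply R (Algebra.adjoin R S) L, har]; exact hCBr
  have has' : algebraMap R L as = C.s := by
    rw [IsScalarTower.algebraMap_apply R (Algebra.adjoin R S) L, has]; exact hCBs
  have hat' : algebraMap R L at' = C.t := by
    rw [IsScalarTower.algebraMap_apply R (Algebra.adjoin R S) L, hat]; exact hCBt
  have huv : au * av = 1 := by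
    apply hφ
    rw [map_mul, hau', hav', Units.mul_inv, map_one]
  have hvu : av * au = 1 := by rw [mul_comm]; exact huv
  have hC' : (VariableChange.mk ⟨au, av, huv, hvu⟩ ar as at').map (algebraMap R L) = C := by
    ext
    · exact hau'
    · exact har'
    · exact has'
    · exact hat'
  refine ⟨VariableChange.mk ⟨au, av, huv, hvu⟩ ar as at', ?_⟩
  apply WeierstrassCurve.map_injective hφ
  beta_reduce
  rw [← map_variableChange, hC']
  exact hC

theorem main (R : Type u) [CommRing R] [IsDomain R] [IsNoetherianRing R] [IsLocalRing R]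
    [IsAdicComplete (maximalIdeal R) R] [IsAlgClosed (ResidueField R)]
    (W₁ W₂ : WeierstrassCurve R) [W₁.IsElliptic] [W₂.IsElliptic] (hj : W₁.j = W₂.j) :
    ∃ C : WeierstrassCurve.VariableChange R, C • W₁ = W₂ := by
  have hφ : Function.Injective (algebraMap R (AlgebraicClosure (FractionRing R))) := by
    rw [IsScalarTower.algebraMap_eq R (FractionRing R) (AlgebraicClosure (FractionRing R))]
    exact (algebraMap (FractionRing R) (AlgebraicClosure (FractionRing R))).injective.comp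
      (IsFractionRing.injective R (FractionRing R))
  obtain ⟨C, hC⟩ := WeierstrassCurve.exists_variableChange_of_j_eq
    (W₁.map (algebraMap R (AlgebraicClosure (FractionRing R))))
    (W₂.map (algebraMap R (AlgebraicClosure (FractionRing R))))
    (by rw [map_j, map_j, hj])
  exact main_aux R (AlgebraicClosure (FractionRing R)) hφ W₁ W₂ C hC

end Groth.Agent.H9.EllIso
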