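import Mathlib

/-!
# Descent of finitely presented algebras along a localization

If `R'` is a localization of `R` and `C₂` is a finitely presented `R'`-algebra then `C₂` is a
localization of a finitely presented `R`-algebra.  Helper library for S17973.
-/

open MvPolynomial

namespace Groth.Agent.Lib.Helper9.FPDescent

universe u

attribute [local instance] MvPolynomial.algebraMvPolynomial

theorem exists_fp_descent {R : Type u} [CommRing R] (M : Submonoid R) (R' : Type u) [CommRing R']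
    [Algebra R R'] [IsLocalization M R']
    (C₂ : Type u) [CommRing C₂] [Algebra R' C₂] [Algebra R C₂] [IsScalarTower R R' C₂]
    [Algebra.FinitePresentation R' C₂] :
    ∃ (C₀ : Type u) (_ : CommRing C₀) (_ : Algebra R C₀) (_ : Algebra C₀ C₂)
      (_ : IsScalarTower R C₀ C₂),
      Algebra.FinitePresentation R C₀ ∧ IsLocalization (Algebra.algebraMapSubmonoid C₀ M) C₂ := by
  classical
  obtain ⟨n, f, hf, hker⟩ := Algebra.FinitePresentation.out (R := R') (A := C₂)
  obtain ⟨T, hT⟩ := hker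
  let P := MvPolynomial (Fin n) R
  let P' := MvPolynomial (Fin n) R'
  let φ : P →+* P' := MvPolynomial.map (algebraMap R R')
  have hφ : algebraMap P P' = φ := MvPolynomial.algebraMap_def
  have hloc : IsLocalization (M.map (C (σ := Fin n))) P' := MvPolynomial.isLocalization M R'
  obtain ⟨b, hb⟩ := IsLocalization.exist_integer_multiples_of_finset (M.map (C (σ := Fin n))) T
  choose! lift hlift using hb
  -- `lift a` maps to `b • a`
  have hlift' : ∀ a ∈ T, φ (lift a) = φ (b : P) * a := by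
    intro a ha
    have := hlift a ha
    rw [hφ] at this
    rw [this, Algebra.smul_def, hφ]
  let I₀ : Ideal P := Ideal.span (lift '' (T : Set P'))
  have hbu : IsUnit (φ (b : P)) := by
    rw [← hφ]
    exact IsLocalization.map_units P' b
  have hI₀ : Ideal.map φ I₀ = RingHom.ker f.toRingHom := by
    apply le_antisymm
    · rw [Ideal.map_le_iff_le_comap]
      apply Ideal.span_le.2
      rintro _ ⟨a, ha, rfl⟩
      change f (φ (lift a)) = 0
      rw [hlift' a ha, map_mul]
      have : a ∈ RingHom.ker f.toRingHom := by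
        rw [← hT]; exact Ideal.subset_span ha
      rw [show f a = 0 from this, mul_zero]
    · rw [← hT]
      apply Ideal.span_le.2
      intro a ha
      have h1 : φ (lift a) ∈ Ideal.map φ I₀ :=
        Ideal.mem_map_of_mem _ (Ideal.subset_span ⟨a, ha, rfl⟩)
      rw [hlift' a ha] at h1
      obtain ⟨u, hu⟩ := hbu
      have h2 := Ideal.mul_mem_left (Ideal.map φ I₀) (↑u⁻¹ : P') h1
      rw [← hu, ← mul_assoc, Units.inv_mul, one_mul] at h2
      exact h2
  have hI₀fg : I₀.FG := ⟨T.image lift, by rw [Finset.coe_image]⟩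
  let g : P ⧸ I₀ →+* C₂ := Ideal.Quotient.lift I₀ (f.toRingHom.comp φ) (by
    intro x hx
    have : φ x ∈ RingHom.ker f.toRingHom := by
      rw [← hI₀]; exact Ideal.mem_map_of_mem _ hx
    exact this)
  have hg : ∀ x : P, g (Ideal.Quotient.mk I₀ x) = f (φ x) := fun x => rfl
  let algC : Algebra (P ⧸ I₀) C₂ := g.toAlgebra
  have hgalg : ∀ x : P ⧸ I₀, algebraMap (P ⧸ I₀) C₂ x = g x := fun x => rfl
  have htower : IsScalarTower R (P ⧸ I₀) C₂ := by
    refine @IsScalarTower.of_algebraMap_eq R (P ⧸ I₀) C₂ _ _ _ _ algC _ fun r => ?_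
    rw [hgalg]
    change _ = g (Ideal.Quotient.mk I₀ (C r))
    rw [hg]
    change _ = f (MvPolynomial.map (algebraMap R R') (C r))
    rw [MvPolynomial.map_C, ← MvPolynomial.algebraMap_eq, AlgHom.commutes,
      ← IsScalarTower.algebraMap_apply]
  have hfC : ∀ m : R, f (φ (C m)) = algebraMap R C₂ m := by
    intro m
    change f (MvPolynomial.map (algebraMap R R') (C m)) = _
    rw [MvPolynomial.map_C, ← MvPolynomial.algebraMap_eq, AlgHom.commutes,
      ← IsScalarTower.algebraMap_apply]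
  refine ⟨P ⧸ I₀, inferInstance, inferInstance, algC, htower,
    Algebra.FinitePresentation.quotient hI₀fg, ?_, ?_, ?_⟩
  · -- map_units
    rintro ⟨y, m, hm, rfl⟩
    change IsUnit (algebraMap (P ⧸ I₀) C₂ (algebraMap R (P ⧸ I₀) m))
    rw [← IsScalarTower.algebraMap_apply, IsScalarTower.algebraMap_apply R R' C₂]
    exact (IsLocalization.map_units R' ⟨m, hm⟩).map _
  · -- surj
    intro z
    obtain ⟨p', rfl⟩ := hf z
    obtain ⟨⟨x, ⟨y, m, hm, rfl⟩⟩, hxy⟩ := IsLocalization.surj (M.map (C (σ := Fin n))) p'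
    rw [hφ] at hxy
    refine ⟨(Ideal.Quotient.mk I₀ x, ⟨algebraMap R (P ⧸ I₀) m, m, hm, rfl⟩), ?_⟩
    change f p' * algebraMap (P ⧸ I₀) C₂ (algebraMap R (P ⧸ I₀) m) = g (Ideal.Quotient.mk I₀ x)
    rw [← IsScalarTower.algebraMap_apply, hg, ← hxy, map_mul, hfC]
  · -- exists_of_eq
    intro x₁ x₂ h
    obtain ⟨p₁, rfl⟩ := Ideal.Quotient.mk_surjective x₁
    obtain ⟨p₂, rfl⟩ := Ideal.Quotient.mk_surjective x₂
    have h1 : f (φ p₁) = f (φ p₂) := h
    have h2 : φ (p₁ - p₂) ∈ Ideal.map (algebraMap P P') I₀ := by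
      rw [hφ, hI₀]
      change f (φ (p₁ - p₂)) = 0
      rw [map_sub, map_sub, h1, sub_self]
    obtain ⟨⟨⟨w, hw⟩, s⟩, hws⟩ :=
      (IsLocalization.mem_map_algebraMap_iff (M.map (C (σ := Fin n))) P').1 h2
    rw [hφ] at hws
    have h3 : algebraMap P P' ((p₁ - p₂) * (s : P)) = algebraMap P P' w := by
      rw [hφ, map_mul]; exact hws
    obtain ⟨t, ht⟩ := (IsLocalization.eq_iff_exists (M.map (C (σ := Fin n))) P').1 h3
    obtain ⟨ms, hms, hs⟩ := s.2
    obtain ⟨mt, hmt, htt⟩ := t.2
    refine ⟨⟨algebraMap R (P ⧸ I₀) (mt * ms), mt * ms, M.mul_mem hmt hms, rfl⟩, ?_⟩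
    change algebraMap R (P ⧸ I₀) (mt * ms) * _ = algebraMap R (P ⧸ I₀) (mt * ms) * _
    have h4 : (t : P) * ((p₁ - p₂) * (s : P)) ∈ I₀ := by
      rw [ht]; exact Ideal.mul_mem_left _ _ hw
    have h5 : algebraMap R (P ⧸ I₀) (mt * ms) = Ideal.Quotient.mk I₀ ((t : P) * (s : P)) := by
      rw [← hs, ← htt, ← map_mul]
      rfl
    rw [h5, ← map_mul, ← map_mul, ← sub_eq_zero, ← map_sub, Ideal.Quotient.eq_zero_iff_mem]
    have : (t : P) * (s : P) * p₁ - (t : P) * (s : P) * p₂ = (t : P) * ((p₁ - p₂) * (s : P)) := by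
      ring
    rw [this]
    exact h4

end Groth.Agent.Lib.Helper9.FPDescent
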