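import Mathlib
import Groth.Agent.Lib.Helper9.Misc.FPDescent
import Groth.Prelude.Def_EssEt

/-!
# Spreading out étale algebras over a localization at a prime

Helper library for S17973.
-/

namespace Groth.Agent.Lib.Helper9.EssEtComp

open Groth.Agent.Lib.Helper9

universe u

theorem spread {R : Type u} [CommRing R] (p : Ideal R) [p.IsPrime] (B : Type u) [CommRing B]
    [IsLocalRing B] [Algebra R B] [IsLocalization.AtPrime B p]
    (C₂ : Type u) [CommRing C₂] [Algebra B C₂] [Algebra.Etale B C₂] (q₂ : Ideal C₂) [q₂.IsPrime]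
    (hq₂ : q₂.comap (algebraMap B C₂) = IsLocalRing.maximalIdeal B) :
    ∃ (C₃ : Type u) (_ : CommRing C₃) (_ : Algebra R C₃) (q₃ : Ideal C₃) (_ : q₃.IsPrime),
      Algebra.Etale R C₃ ∧ q₃.comap (algebraMap R C₃) = p ∧
      ∃ e : Localization.AtPrime q₂ ≃+* Localization.AtPrime q₃,
        ∀ r : R, e (algebraMap C₂ _ (algebraMap B C₂ (algebraMap R B r))) =
          algebraMap C₃ _ (algebraMap R C₃ r) := by
  let algRC₂ : Algebra R C₂ := ((algebraMap B C₂).comp (algebraMap R B)).toAlgebra
  have : IsScalarTower R B C₂ := IsScalarTower.of_algebraMap_eq' rfl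
  have : Algebra.FinitePresentation B C₂ := inferInstance
  obtain ⟨C₀, _, _, _, _, hfp, hloc⟩ := FPDescent.exists_fp_descent p.primeCompl B C₂
  let q₀ : Ideal C₀ := q₂.comap (algebraMap C₀ C₂)
  have : q₀.IsPrime := Ideal.comap_isPrime _ _
  have hat : IsLocalization.AtPrime (Localization.AtPrime q₂) q₀ :=
    IsLocalization.isLocalization_isLocalization_atPrime_isLocalization
      (Algebra.algebraMapSubmonoid C₀ p.primeCompl) (Localization.AtPrime q₂) q₂
  -- formal étaleness
  have : Algebra.FormallyEtale R B := Algebra.FormallyEtale.of_isLocalization p.primeCompl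
  have : Algebra.FormallyEtale C₂ (Localization.AtPrime q₂) :=
    Algebra.FormallyEtale.of_isLocalization q₂.primeCompl
  have : Algebra.FormallyEtale B (Localization.AtPrime q₂) :=
    Algebra.FormallyEtale.comp B C₂ _
  have : Algebra.FormallyEtale R (Localization.AtPrime q₂) :=
    Algebra.FormallyEtale.comp R B _
  let e₀ : Localization.AtPrime q₀ ≃ₐ[C₀] Localization.AtPrime q₂ :=
    IsLocalization.algEquiv q₀.primeCompl _ _
  have : Algebra.IsEtaleAt R q₀ :=
    Algebra.FormallyEtale.of_equiv (e₀.restrictScalars R).symm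
  obtain ⟨f₀, hf₀, hEt⟩ := Algebra.exists_etale_of_isEtaleAt (R := R) q₀
  have hdisj : Disjoint (Submonoid.powers f₀ : Set C₀) (q₀ : Set C₀) :=
    (Ideal.disjoint_powers_iff_notMem_of_isPrime f₀).2 hf₀
  let q₃ : Ideal (Localization.Away f₀) := q₀.map (algebraMap C₀ (Localization.Away f₀))
  have hq₃ : q₃.IsPrime :=
    IsLocalization.isPrime_of_isPrime_disjoint (Submonoid.powers f₀) _ q₀ inferInstance hdisj
  have hq₃c : q₃.comap (algebraMap C₀ (Localization.Away f₀)) = q₀ :=
    IsLocalization.under_map_of_isPrime_disjoint (Submonoid.powers f₀) _ inferInstance hdisj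
  have hat3 : IsLocalization.AtPrime (Localization.AtPrime q₃) q₀ := by
    have := IsLocalization.isLocalization_isLocalization_atPrime_isLocalization
      (Submonoid.powers f₀) (Localization.AtPrime q₃) q₃
    convert this
    exact hq₃c.symm
  let e₃ : Localization.AtPrime q₂ ≃ₐ[C₀] Localization.AtPrime q₃ :=
    IsLocalization.algEquiv q₀.primeCompl _ _
  refine ⟨Localization.Away f₀, inferInstance, inferInstance, q₃, hq₃, hEt, ?_, e₃.toRingEquiv, ?_⟩
  · -- lying over
    have h1 : q₃.comap (algebraMap R (Localization.Away f₀)) =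
        (q₃.comap (algebraMap C₀ (Localization.Away f₀))).comap (algebraMap R C₀) := by
      rw [Ideal.comap_comap, ← IsScalarTower.algebraMap_eq]
    rw [h1, hq₃c]
    change (q₂.comap (algebraMap C₀ C₂)).comap (algebraMap R C₀) = p
    rw [Ideal.comap_comap, ← IsScalarTower.algebraMap_eq,
      IsScalarTower.algebraMap_eq R B C₂, ← Ideal.comap_comap, hq₂]
    exact IsLocalization.AtPrime.under_maximalIdeal B p
  · intro r
    have h1 : algebraMap C₂ (Localization.AtPrime q₂) (algebraMap B C₂ (algebraMap R B r)) =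
        algebraMap C₀ (Localization.AtPrime q₂) (algebraMap R C₀ r) := by
      rw [← IsScalarTower.algebraMap_apply R B C₂, IsScalarTower.algebraMap_apply R C₀ C₂,
        ← IsScalarTower.algebraMap_apply C₀ C₂ (Localization.AtPrime q₂)]
    rw [h1]
    change e₃ _ = _
    rw [e₃.commutes,
      IsScalarTower.algebraMap_apply C₀ (Localization.Away f₀) (Localization.AtPrime q₃),
      ← IsScalarTower.algebraMap_apply R C₀ (Localization.Away f₀)]

theorem main (A : Type u) [CommRing A] [IsLocalRing A]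
    (B : Type u) [CommRing B] [IsLocalRing B] [Algebra A B]
    (C : Type u) [CommRing C] [Algebra B C] [Algebra A C] [IsScalarTower A B C]
    (hB : EGA4loc.IsEssentiallyEtale A B) (hC : EGA4loc.IsEssentiallyEtale B C) :
    EGA4loc.IsEssentiallyEtale A C := by
  obtain ⟨C₁, _, _, q₁, _, hEt₁, hq₁, ⟨e₁⟩⟩ := hB
  obtain ⟨C₂, _, _, q₂, _, hEt₂, hq₂, ⟨e₂⟩⟩ := hC
  let algC₁B : Algebra C₁ B :=
    (e₁.symm.toRingEquiv.toRingHom.comp (algebraMap C₁ (Localization.AtPrime q₁))).toAlgebra
  have hC₁B : ∀ x : C₁, algebraMap C₁ B x = e₁.symm (algebraMap C₁ (Localization.AtPrime q₁) x) :=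
    fun x => rfl
  have htow : IsScalarTower A C₁ B := by
    refine IsScalarTower.of_algebraMap_eq fun a => ?_
    rw [hC₁B, ← IsScalarTower.algebraMap_apply A C₁ (Localization.AtPrime q₁), e₁.symm.commutes]
  let e₁' : Localization.AtPrime q₁ ≃ₐ[C₁] B :=
    AlgEquiv.ofRingEquiv (f := e₁.symm.toRingEquiv) (fun x => rfl)
  have hatB : IsLocalization.AtPrime B q₁ :=
    IsLocalization.isLocalization_of_algEquiv q₁.primeCompl e₁'
  obtain ⟨C₃, _, _, q₃, _, hEt₃, hq₃, e, he⟩ := spread q₁ B C₂ q₂ hq₂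
  let algAC₃ : Algebra A C₃ := ((algebraMap C₁ C₃).comp (algebraMap A C₁)).toAlgebra
  have htow3 : IsScalarTower A C₁ C₃ := IsScalarTower.of_algebraMap_eq' rfl
  have hEtA : Algebra.Etale A C₃ := Algebra.Etale.comp A C₁ C₃
  refine ⟨C₃, inferInstance, algAC₃, q₃, inferInstance, hEtA, ?_, ⟨?_⟩⟩
  · rw [IsScalarTower.algebraMap_eq A C₁ C₃, ← Ideal.comap_comap, hq₃, hq₁]
  · refine AlgEquiv.ofRingEquiv (f := e₂.toRingEquiv.trans e) fun a => ?_
    change e (e₂ (algebraMap A C a)) = _
    rw [IsScalarTower.algebraMap_apply A B C, e₂.commutes,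
      IsScalarTower.algebraMap_apply B C₂ (Localization.AtPrime q₂),
      IsScalarTower.algebraMap_apply A C₁ B, he,
      IsScalarTower.algebraMap_apply A C₃ (Localization.AtPrime q₃),
      IsScalarTower.algebraMap_apply A C₁ C₃]

end Groth.Agent.Lib.Helper9.EssEtComp
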