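import Mathlib

/-! Helper9: ess. f.t. local algebra is a quotient of a localized polynomial ring -/

namespace Groth.Agent.H9.EssLoc

universe u

theorem main {A B : Type u} [CommRing A]
    [CommRing B] [IsLocalRing B] [Algebra A B] [hE : Algebra.EssFiniteType A B] :
    ∃ (n : ℕ) (q : Ideal (MvPolynomial (Fin n) A)) (_ : q.IsPrime)
      (φ : Localization.AtPrime q →ₐ[A] B), Function.Surjective φ := by
  obtain ⟨σ, hσ⟩ := (Algebra.essFiniteType_iff (R := A) (S := B)).mp hE
  let e : Fin σ.card ≃ σ := σ.equivFin.symm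
  let ψ : MvPolynomial (Fin σ.card) A →ₐ[A] B := MvPolynomial.aeval (fun i => (e i : B))
  have hrange : ψ.range = Algebra.adjoin A (σ : Set B) := by
    rw [← Algebra.adjoin_range_eq_range_aeval]
    congr 1
    ext x
    constructor
    · rintro ⟨i, rfl⟩
      exact (e i).2
    · intro hx
      exact ⟨e.symm ⟨x, hx⟩, by simp⟩
  let q : Ideal (MvPolynomial (Fin σ.card) A) := (IsLocalRing.maximalIdeal B).comap ψ
  have hq : q.IsPrime := Ideal.comap_isPrime _ _
  have hunit : ∀ y : q.primeCompl, IsUnit (ψ y) := by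
    intro y
    have := y.2
    by_contra h
    exact this ((IsLocalRing.mem_maximalIdeal _).mpr h)
  refine ⟨σ.card, q, hq, IsLocalization.liftAlgHom (M := q.primeCompl) (f := ψ) hunit, ?_⟩
  intro b
  obtain ⟨t, ht, htu, hbt⟩ := hσ b
  rw [← hrange] at ht hbt
  obtain ⟨P, rfl⟩ := ht
  obtain ⟨Q, hQ⟩ := hbt
  have hP : P ∈ q.primeCompl := by
    intro h
    exact (IsLocalRing.mem_maximalIdeal _).mp h htu
  refine ⟨IsLocalization.mk' _ Q ⟨P, hP⟩, ?_⟩
  rw [IsLocalization.liftAlgHom_apply, IsLocalization.lift_mk'_spec]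
  simp only [RingHom.coe_coe]
  rw [hQ, mul_comm]

end Groth.Agent.H9.EssLoc
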