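import Mathlib

/-! Helper9: esymm identity with h_i^2 = -τ h_i (S14097) -/

namespace Groth.Agent.H9.EsymmId

open Finset

theorem esymm_cons {A : Type*} [CommSemiring A] (a : A) (s : Multiset A) (n : ℕ) :
    (a ::ₘ s).esymm (n+1) = s.esymm (n+1) + a * s.esymm n := by
  simp only [Multiset.esymm, Multiset.powersetCard_cons, Multiset.map_add, Multiset.sum_add,
    Multiset.map_map]
  congr 1
  rw [← Multiset.sum_map_mul_left]
  simp

theorem esymm_zero' {A : Type*} [CommSemiring A] (s : Multiset A) : s.esymm 0 = 1 := by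
  simp [Multiset.esymm]

theorem esymm_card {A : Type*} [CommSemiring A] (s : Multiset A) : s.esymm s.card = s.prod := by
  simp [Multiset.esymm, Multiset.powersetCard_self]

theorem esymm_gt {A : Type*} [CommSemiring A] (s : Multiset A) (n : ℕ) (h : s.card < n) :
    s.esymm n = 0 := by
  simp [Multiset.esymm, Multiset.powersetCard_eq_empty n h]

variable {A : Type*} [CommRing A]

/-- the sum on the right-hand side -/
noncomputable def S (τ : A) (h : ℕ → A) (k : ℕ) : A :=
  ∑ j ∈ Finset.range k, τ ^ (k - 1 - j) * (((Finset.range k).val.map h).esymm j)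

theorem range_succ_map (h : ℕ → A) (k : ℕ) :
    (Finset.range (k+1)).val.map h = h k ::ₘ (Finset.range k).val.map h := by
  rw [Finset.range_val, Multiset.range_succ, Multiset.map_cons, Finset.range_val]

theorem S_succ (τ : A) (h : ℕ → A) (k : ℕ) (hk : 1 ≤ k) :
    S τ h (k+1) = (τ + h k) * S τ h k + ∏ i ∈ Finset.range k, h i := by
  unfold S
  rw [Finset.sum_range_succ', range_succ_map]
  simp only [esymm_cons, esymm_zero', Nat.add_sub_cancel, Nat.sub_zero, mul_one]
  have e1 : ∏ i ∈ Finset.range k, h i = ((Finset.range k).val.map h).esymm k := by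
    have hc : ((Finset.range k).val.map h).card = k := by simp
    have := esymm_card ((Finset.range k).val.map h)
    rw [hc] at this
    rw [this]; rfl
  -- Σ_{i<k} τ^{k-(i+1)} (e_{i+1} + h_k e_i) + τ^k
  have e2 : ∀ i ∈ Finset.range k, τ ^ (k - (i + 1)) *
      (((Finset.range k).val.map h).esymm (i+1) + h k * ((Finset.range k).val.map h).esymm i)
      = τ ^ (k - (i+1)) * ((Finset.range k).val.map h).esymm (i+1)
        + h k * (τ ^ (k - 1 - i) * ((Finset.range k).val.map h).esymm i) := by
    intro i _
    have : k - (i+1) = k - 1 - i := by omega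
    rw [this]; ring
  rw [Finset.sum_congr rfl e2, Finset.sum_add_distrib, ← Finset.mul_sum]
  -- first sum + τ^k = Σ_{j<k+1} τ^{k-j} e_j = e_k + τ S_k
  have e3 : ∑ i ∈ Finset.range k, τ ^ (k - (i + 1)) * ((Finset.range k).val.map h).esymm (i+1) + τ ^ k
      = ∑ j ∈ Finset.range (k+1), τ ^ (k - j) * ((Finset.range k).val.map h).esymm j := by
    rw [Finset.sum_range_succ' (fun j => τ ^ (k - j) * ((Finset.range k).val.map h).esymm j)]
    simp [esymm_zero']
  have e4 : ∑ j ∈ Finset.range (k+1), τ ^ (k - j) * ((Finset.range k).val.map h).esymm j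
      = τ * ∑ j ∈ Finset.range k, τ ^ (k - 1 - j) * ((Finset.range k).val.map h).esymm j
        + ((Finset.range k).val.map h).esymm k := by
    rw [Finset.sum_range_succ, Finset.mul_sum]
    simp only [Nat.sub_self, pow_zero, one_mul]
    congr 1
    apply Finset.sum_congr rfl
    intro j hj
    have hj' := Finset.mem_range.mp hj
    have : k - j = (k - 1 - j) + 1 := by omega
    rw [this, pow_succ]; ring
  calc _ = (∑ i ∈ Finset.range k, τ ^ (k - (i + 1)) * ((Finset.range k).val.map h).esymm (i+1) + τ ^ k)
        + h k * ∑ i ∈ Finset.range k, τ ^ (k - 1 - i) * ((Finset.range k).val.map h).esymm i := by ring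
    _ = _ := by rw [e3, e4, e1]; ring

theorem S_mul (τ : A) (h : ℕ → A) (k : ℕ) (hrel : h k ^ 2 + τ * h k = 0) :
    S τ h (k+1) * h k = ∏ i ∈ Finset.range (k+1), h i := by
  rcases Nat.eq_zero_or_pos k with rfl | hk
  · simp [S, esymm_zero']
  · rw [S_succ τ h k hk, Finset.prod_range_succ]
    have : (τ + h k) * h k = 0 := by linear_combination hrel
    calc _ = ((τ + h k) * h k) * S τ h k + (∏ i ∈ Finset.range k, h i) * h k := by ring
      _ = _ := by rw [this]; ring

theorem main (k : ℕ) (τ : A) (h : ℕ → A) (hrel : ∀ i, i < k + 1 → h i ^ 2 + τ * h i = 0) :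
    ∏ i ∈ Finset.range k, (h i + h (i + 1) + τ) = S τ h (k+1) := by
  induction k with
  | zero => simp [S, esymm_zero']
  | succ k ih =>
    rw [Finset.prod_range_succ, ih (fun i hi => hrel i (by omega)), S_succ τ h (k+1) (by omega),
      ← S_mul τ h k (hrel k (by omega))]
    ring

end Groth.Agent.H9.EsymmId
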