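import Mathlib

/-! Helper9: noetherianity of local rings along flat finite type maps -/

namespace Groth.Agent.H9.EtNoeth

universe u

theorem main (A B : Type u) [CommRing A] [CommRing B]
    [Algebra A B] [Algebra.FiniteType A B] [Module.Flat A B] (q : Ideal B) [q.IsPrime] :
    IsNoetherianRing (Localization.AtPrime (Ideal.comap (algebraMap A B) q)) ↔
      IsNoetherianRing (Localization.AtPrime q) := by
  set p := Ideal.comap (algebraMap A B) q with hp
  let φ : Localization.AtPrime p →+* Localization.AtPrime q :=
    Localization.localRingHom p q (algebraMap A B) rfl
  let _ : Algebra (Localization.AtPrime p) (Localization.AtPrime q) := φ.toAlgebra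
  have hST : IsScalarTower A (Localization.AtPrime p) (Localization.AtPrime q) :=
    IsScalarTower.of_algebraMap_eq (fun x => by
      show _ = φ (algebraMap A _ x)
      rw [Localization.localRingHom_to_map]
      exact IsScalarTower.algebraMap_apply A B (Localization.AtPrime q) x)
  constructor
  · intro hN
    have h1 : Algebra.EssFiniteType A (Localization.AtPrime q) := inferInstance
    have h2 : Algebra.EssFiniteType (Localization.AtPrime p) (Localization.AtPrime q) :=
      Algebra.EssFiniteType.of_comp A _ _
    exact Algebra.EssFiniteType.isNoetherianRing (Localization.AtPrime p) (Localization.AtPrime q)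
  · intro hN
    have hflat : φ.Flat := RingHom.Flat.localRingHom
      (show (algebraMap A B).Flat from (RingHom.flat_algebraMap_iff).mpr inferInstance) q p rfl
    have hflat' : Module.Flat (Localization.AtPrime p) (Localization.AtPrime q) := hflat
    have hloc : IsLocalHom (algebraMap (Localization.AtPrime p) (Localization.AtPrime q)) :=
      Localization.isLocalHom_localRingHom p q (algebraMap A B) rfl
    have hff : Module.FaithfullyFlat (Localization.AtPrime p) (Localization.AtPrime q) :=
      Module.FaithfullyFlat.of_flat_of_isLocalHom
    have hinj := Ideal.map_injective_of_faithfullyFlat (A := Localization.AtPrime p)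
      (B := Localization.AtPrime q)
    have hmono : StrictMono (Ideal.map (algebraMap (Localization.AtPrime p) (Localization.AtPrime q))) := by
      intro I J hIJ
      exact lt_of_le_of_ne (Ideal.map_mono hIJ.le) (fun h => hIJ.ne (hinj h))
    rw [isNoetherianRing_iff, isNoetherian_iff'] at hN ⊢
    exact hmono.wellFoundedGT

end Groth.Agent.H9.EtNoeth
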