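import Mathlib

set_option autoImplicit false
set_option linter.style.haveILetI false
set_option linter.unusedSectionVars false
set_option linter.unusedVariables false

universe u

open TensorProduct KaehlerDifferential

namespace Groth.Agent.H9.SmEtA

section Rank

variable {K B : Type u} [CommRing K] [CommRing B] [Algebra K B]

theorem smooth_of_locally (d : ℕ)
    (h : RingHom.Locally (RingHom.IsStandardSmoothOfRelativeDimension d) (algebraMap K B)) :
    Algebra.Smooth K B := by
  have h1 : RingHom.Locally RingHom.IsStandardSmooth (algebraMap K B) :=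
    RingHom.locally_of_locally (fun hf => hf.isStandardSmooth) h
  have h2 : (algebraMap K B).Smooth := RingHom.smooth_iff_locally_isStandardSmooth.mpr h1
  exact RingHom.smooth_algebraMap.mp h2

theorem rank_aux (d : ℕ) (t : B) (Bt : Type u) [CommRing Bt] [Algebra B Bt]
    [IsLocalization.Away t Bt] [Algebra K Bt] [IsScalarTower K B Bt]
    [Algebra.IsStandardSmoothOfRelativeDimension d K Bt]
    [Module.Finite B Ω[B⁄K]] [Module.Flat B Ω[B⁄K]]
    (q : PrimeSpectrum B) (htq : t ∉ q.asIdeal) : Module.rankAtStalk (Ω[B⁄K]) q = d := by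
  haveI : Algebra.FormallyEtale B Bt :=
    Algebra.FormallyEtale.of_isLocalization (Submonoid.powers t)
  have hbc : IsBaseChange Bt (KaehlerDifferential.map K K B Bt) :=
    KaehlerDifferential.isBaseChange_of_formallyEtale K B Bt
  have hq' : q ∈ Set.range (PrimeSpectrum.comap (algebraMap B Bt)) := by
    rw [PrimeSpectrum.localization_away_comap_range Bt t]
    exact htq
  obtain ⟨q', rfl⟩ := hq'
  rw [← Module.rankAtStalk_isBaseChange hbc q']
  haveI : Nontrivial Bt := q'.nontrivial
  haveI : Algebra.IsStandardSmooth K Bt :=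
    Algebra.IsStandardSmoothOfRelativeDimension.isStandardSmooth d
  have h1 := congrFun (Module.rankAtStalk_eq_finrank_of_free (R := Bt) (M := Ω[Bt⁄K])) q'
  simp only [Pi.natCast_apply, Nat.cast_id] at h1
  rw [h1]
  have h2 := Algebra.IsStandardSmoothOfRelativeDimension.rank_kaehlerDifferential
    (R := K) (S := Bt) d
  exact Module.finrank_eq_of_rank_eq h2

theorem rank_of_locally (d : ℕ)
    (h : RingHom.Locally (RingHom.IsStandardSmoothOfRelativeDimension d) (algebraMap K B))
    [Module.Finite B Ω[B⁄K]] [Module.Flat B Ω[B⁄K]]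
    (q : PrimeSpectrum B) : Module.rankAtStalk (Ω[B⁄K]) q = d := by
  obtain ⟨s, hs, hP⟩ := h
  have hex : ∃ t ∈ s, t ∉ q.asIdeal := by
    by_contra hcon
    push Not at hcon
    have h1 : Ideal.span s ≤ q.asIdeal := Ideal.span_le.mpr hcon
    rw [hs] at h1
    exact q.isPrime.ne_top (top_le_iff.mp h1)
  obtain ⟨t, hts, htq⟩ := hex
  obtain ⟨Bt, instR, instA, instL, algK, htower, hsm⟩ : ∃ (Bt : Type u) (_ : CommRing Bt)
      (_ : Algebra B Bt) (_ : IsLocalization.Away t Bt) (_ : Algebra K Bt),
      IsScalarTower K B Bt ∧ Algebra.IsStandardSmoothOfRelativeDimension d K Bt :=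
    ⟨Localization.Away t, inferInstance, inferInstance, inferInstance,
      ((algebraMap B (Localization.Away t)).comp (algebraMap K B)).toAlgebra,
      @IsScalarTower.of_algebraMap_eq K B (Localization.Away t) _ _ _ _ _
        ((algebraMap B (Localization.Away t)).comp (algebraMap K B)).toAlgebra (fun _ => rfl),
      hP t hts⟩
  exact rank_aux d t Bt q htq

end Rank

section Inj

theorem injective_of_surjective_of_rank {S : Type u} [CommRing S] {M N : Type u}
    [AddCommGroup M] [Module S M] [AddCommGroup N] [Module S N]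
    [Module.Finite S M] [Module.Projective S M] [Module.Finite S N] [Module.Projective S N]
    (f : M →ₗ[S] N) (hf : Function.Surjective f)
    (hr : ∀ q : PrimeSpectrum S, Module.rankAtStalk M q = Module.rankAtStalk N q) : Function.Injective f := by
  obtain ⟨g, hg⟩ := Module.projective_lifting_property f LinearMap.id hf
  have hg' : ∀ n, f (g n) = n := fun n => LinearMap.congr_fun hg n
  let s : M →ₗ[S] LinearMap.ker f :=
    (LinearMap.id - g ∘ₗ f).codRestrict (LinearMap.ker f) (fun m => by
      simp [LinearMap.mem_ker, hg'])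
  have hs : s ∘ₗ (LinearMap.ker f).subtype = LinearMap.id := by
    ext ⟨k, hk⟩
    simp [s, LinearMap.mem_ker.mp hk]
  haveI : Module.Projective S (LinearMap.ker f) :=
    Module.Projective.of_split (LinearMap.ker f).subtype s hs
  haveI : Module.Finite S (LinearMap.ker f) :=
    Module.Finite.of_surjective s (fun k => ⟨k.1, LinearMap.congr_fun hs k⟩)
  let e : M ≃ₗ[S] N × LinearMap.ker f :=
    LinearEquiv.ofLinear (f.prod s) (g.coprod (LinearMap.ker f).subtype)
      (by
        ext x
        · simp [hg']
        · simp [s, hg']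
        · simp [LinearMap.mem_ker.mp x.2]
        · simp [s, LinearMap.mem_ker.mp x.2])
      (by
        ext x
        simp [s])
  have hrank := Module.rankAtStalk_eq_of_equiv e
  rw [Module.rankAtStalk_prod] at hrank
  have hK0 : Module.rankAtStalk (R := S) (LinearMap.ker f) = 0 := by
    ext q
    have h1 := congrFun hrank q
    simp only [Pi.add_apply] at h1
    have h2 := hr q
    simp only [Pi.zero_apply]
    omega
  haveI : Subsingleton (LinearMap.ker f) := Module.rankAtStalk_eq_zero_iff_subsingleton.mp hK0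
  rw [← LinearMap.ker_eq_bot]
  exact Submodule.eq_bot_of_subsingleton

end Inj

section FS

theorem formallySmooth_of_rank {K A' T : Type u} [CommRing K] [CommRing A'] [CommRing T]
    [Algebra K A'] [Algebra K T] [Algebra A' T] [IsScalarTower K A' T]
    [Algebra.FormallySmooth K T] [Module.Finite T Ω[T⁄K]]
    [Module.Finite A' Ω[A'⁄K]] [Module.Projective A' Ω[A'⁄K]]
    (d : ℕ) (h1 : ∀ q : PrimeSpectrum T, Module.rankAtStalk (Ω[T⁄K]) q = d)
    (h2 : ∀ q : PrimeSpectrum A', Module.rankAtStalk (Ω[A'⁄K]) q = d)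
    [Subsingleton Ω[T⁄A']] : Algebra.FormallySmooth A' T := by
  have hsurj : Function.Surjective (KaehlerDifferential.mapBaseChange K A' T) := fun x =>
    (KaehlerDifferential.exact_mapBaseChange_map K A' T x).mp (Subsingleton.elim _ _)
  have hinj : Function.Injective (KaehlerDifferential.mapBaseChange K A' T) := by
    apply injective_of_surjective_of_rank _ hsurj
    intro q
    rw [Module.rankAtStalk_baseChange, h1, h2]
  have key : ∀ x : Algebra.H1Cotangent A' T, x = 0 := by
    intro x
    have h3 : KaehlerDifferential.mapBaseChange K A' T (Algebra.H1Cotangent.δ K A' T x) = 0 :=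
      (Algebra.H1Cotangent.exact_δ_mapBaseChange K A' T _).mpr ⟨x, rfl⟩
    have h4 : Algebra.H1Cotangent.δ K A' T x = 0 := hinj (by rw [h3, map_zero])
    obtain ⟨y, rfl⟩ := (Algebra.H1Cotangent.exact_map_δ K A' T x).mp h4
    rw [Subsingleton.elim y 0, map_zero]
  exact ⟨inferInstance, ⟨fun x y => by rw [key x, key y]⟩⟩

end FS

section Generic

theorem fe_right (V K B : Type u) [CommRing V] [CommRing K] [CommRing B] [Algebra V K]
    [Algebra V B] [Algebra.FormallyEtale V K] :
    @Algebra.FormallyEtale B (K ⊗[V] B) _ _ Algebra.TensorProduct.rightAlgebra := by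
  letI : Algebra B (K ⊗[V] B) := Algebra.TensorProduct.rightAlgebra
  let e : B ⊗[V] K ≃ₐ[B] K ⊗[V] B :=
    AlgEquiv.ofRingEquiv (f := (Algebra.TensorProduct.comm V B K).toRingEquiv) (fun b => by
      show (Algebra.TensorProduct.comm V B K) (algebraMap B (B ⊗[V] K) b) = (1 : K) ⊗ₜ[V] b
      rw [Algebra.TensorProduct.algebraMap_apply]
      simp)
  exact Algebra.FormallyEtale.of_equiv e

theorem formallySmooth_of_generic {V K A R T : Type u} [CommRing V] [CommRing K] [CommRing A]
    [CommRing R] [CommRing T]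
    [Algebra V K] [Algebra V A] [Algebra V R]
    [Algebra V T] [Algebra K T] [Algebra A T] [Algebra R T]
    [IsScalarTower V K T] [IsScalarTower V A T] [IsScalarTower V R T]
    [Algebra.FormallyEtale V K] [Algebra.FormallyEtale R T]
    (d : ℕ)
    (hA : RingHom.Locally (RingHom.IsStandardSmoothOfRelativeDimension d)
      (algebraMap K (K ⊗[V] A)))
    (hR : RingHom.Locally (RingHom.IsStandardSmoothOfRelativeDimension d)
      (algebraMap K (K ⊗[V] R)))
    [Subsingleton Ω[T⁄A]] : Algebra.FormallySmooth A T := by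
  letI algA : Algebra A (K ⊗[V] A) := Algebra.TensorProduct.rightAlgebra
  letI algR : Algebra R (K ⊗[V] R) := Algebra.TensorProduct.rightAlgebra
  let φA : (K ⊗[V] A) →ₐ[K] T :=
    Algebra.TensorProduct.lift (Algebra.ofId K T) (IsScalarTower.toAlgHom V A T)
      (fun _ _ => Commute.all _ _)
  let φR : (K ⊗[V] R) →ₐ[K] T :=
    Algebra.TensorProduct.lift (Algebra.ofId K T) (IsScalarTower.toAlgHom V R T)
      (fun _ _ => Commute.all _ _)
  letI algAT : Algebra (K ⊗[V] A) T := φA.toRingHom.toAlgebra
  letI algRT : Algebra (K ⊗[V] R) T := φR.toRingHom.toAlgebra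
  haveI : IsScalarTower K (K ⊗[V] A) T :=
    IsScalarTower.of_algebraMap_eq (fun k => (φA.commutes k).symm)
  haveI : IsScalarTower K (K ⊗[V] R) T :=
    IsScalarTower.of_algebraMap_eq (fun k => (φR.commutes k).symm)
  haveI : IsScalarTower A (K ⊗[V] A) T := IsScalarTower.of_algebraMap_eq (fun a => by
    show algebraMap A T a = φA ((1 : K) ⊗ₜ[V] a)
    simp [φA])
  haveI : IsScalarTower R (K ⊗[V] R) T := IsScalarTower.of_algebraMap_eq (fun a => by
    show algebraMap R T a = φR ((1 : K) ⊗ₜ[V] a)
    simp [φR])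
  haveI : Algebra.FormallyEtale A (K ⊗[V] A) := fe_right V K A
  haveI : Algebra.FormallyEtale R (K ⊗[V] R) := fe_right V K R
  haveI : Algebra.FormallyEtale (K ⊗[V] R) T :=
    (Algebra.FormallyEtale.iff_restrictScalars (R := R) (A := K ⊗[V] R) (B := T)).mp inferInstance
  haveI smR : Algebra.Smooth K (K ⊗[V] R) := smooth_of_locally d hR
  haveI smA : Algebra.Smooth K (K ⊗[V] A) := smooth_of_locally d hA
  haveI : Algebra.FormallySmooth K T := Algebra.FormallySmooth.comp K (K ⊗[V] R) T
  let e := KaehlerDifferential.tensorKaehlerEquivOfFormallyEtale K (K ⊗[V] R) T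
  haveI : Module.Finite T Ω[T⁄K] := Module.Finite.equiv e
  have h1 : ∀ q : PrimeSpectrum T, Module.rankAtStalk (Ω[T⁄K]) q = d := fun q => by
    rw [← congrFun (Module.rankAtStalk_eq_of_equiv e) q, Module.rankAtStalk_baseChange,
      rank_of_locally d hR]
  have h2 : ∀ q : PrimeSpectrum (K ⊗[V] A), Module.rankAtStalk (Ω[(K ⊗[V] A)⁄K]) q = d :=
    rank_of_locally d hA
  haveI : Subsingleton Ω[T⁄(K ⊗[V] A)] := by
    haveI : Algebra.FormallyUnramified A T := ⟨inferInstance⟩
    haveI := Algebra.FormallyUnramified.of_restrictScalars A (K ⊗[V] A) T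
    infer_instance
  haveI : Algebra.FormallySmooth (K ⊗[V] A) T := formallySmooth_of_rank d h1 h2
  exact Algebra.FormallySmooth.comp A (K ⊗[V] A) T

end Generic

end Groth.Agent.H9.SmEtA
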