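import Mathlib
import Groth.Agent.Lib.Helper1.DimIneqD
import Groth.Agent.Lib.Helper5.EtPoly.A
import Groth.Agent.Lib.Helper2.DimFG
import Groth.Agent.Lib.Helper9.Misc.SmEtA

set_option autoImplicit false
set_option linter.style.haveILetI false
set_option linter.unusedSectionVars false
set_option linter.unusedVariables false

universe u

open TensorProduct KaehlerDifferential

namespace Groth.Agent.H9.FibDimA

section Field

variable (K : Type u) [Field K] (B : Type u) [CommRing B] [Algebra K B] [Algebra.FiniteType K B]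

theorem dim_add_trdeg (d : ℕ) [Algebra.Smooth K B]
    (hrank : ∀ q : PrimeSpectrum B, Module.rankAtStalk (Ω[B⁄K]) q = d)
    (q : Ideal B) [hq : q.IsPrime] :
    ∃ nd s : ℕ, q.height = nd ∧ Algebra.trdeg K (B ⧸ q) = s ∧ nd + s = d := by
  haveI : IsNoetherianRing B := Algebra.FiniteType.isNoetherianRing K B
  haveI : IsNoetherianRing (Localization.AtPrime q) :=
    IsLocalization.isNoetherianRing q.primeCompl _ inferInstance
  have hfin : q.height ≠ ⊤ := Ideal.height_ne_top hq.ne_top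
  obtain ⟨nd, hnd⟩ := ENat.ne_top_iff_exists.mp hfin
  have hdim : ringKrullDim (Localization.AtPrime q) = nd := by
    rw [IsLocalization.AtPrime.ringKrullDim_eq_height q, ← hnd]
    rfl
  haveI : Algebra.FormallySmooth B (Localization.AtPrime q) :=
    Algebra.FormallySmooth.of_isLocalization q.primeCompl
  haveI hfsKB : Algebra.FormallySmooth K B := Algebra.Smooth.formallySmooth
  haveI : Algebra.FormallySmooth K (Localization.AtPrime q) :=
    Algebra.FormallySmooth.comp K B _
  have h1 := Groth.Agent.H5.EtPoly.finrank_fibre_of_formallySmooth K B q nd hdim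
  have h2 := Module.rankAtStalk_eq (M := Ω[B⁄K]) (⟨q, inferInstance⟩ : PrimeSpectrum B)
  rw [hrank] at h2
  haveI : IsDomain (B ⧸ q) := Ideal.Quotient.isDomain q
  obtain ⟨s, -, hs⟩ := Groth.Agent.H2.DimFG.exists_dim_eq_trdeg K (B ⧸ q)
  have h3 := Groth.Agent.H5.OmegaDim.trdeg_residueField K B q
  refine ⟨nd, s, hnd.symm, hs, ?_⟩
  rw [h3, hs, Cardinal.toNat_natCast] at h1
  exact (h2.trans h1).symm

theorem dim_le (d : ℕ) [Algebra.Smooth K B]
    (hrank : ∀ q : PrimeSpectrum B, Module.rankAtStalk (Ω[B⁄K]) q = d) :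
    ringKrullDim B ≤ d := by
  rw [ringKrullDim_le_iff_height_le]
  intro q hq
  obtain ⟨nd, s, h1, -, h3⟩ := dim_add_trdeg K B d hrank q
  rw [h1]
  have : nd ≤ d := by omega
  exact_mod_cast this

end Field

theorem trdeg_frac (A B K L : Type u) [CommRing A] [IsDomain A] [CommRing B]
    [IsDomain B] [Field K] [Field L] [Algebra A B] [Algebra A K] [Algebra B L] [Algebra K L]
    [Algebra A L] [IsScalarTower A B L] [IsScalarTower A K L] [IsFractionRing A K]
    [IsFractionRing B L] [FaithfulSMul A B] :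
    Algebra.trdeg K L = Algebra.trdeg A B := by
  haveI : Algebra.IsAlgebraic A K := IsLocalization.isAlgebraic K (nonZeroDivisors A)
  haveI : Algebra.IsAlgebraic B L := IsLocalization.isAlgebraic L (nonZeroDivisors B)
  haveI : FaithfulSMul A K :=
    (faithfulSMul_iff_algebraMap_injective A K).2 (IsFractionRing.injective A K)
  haveI : FaithfulSMul B L :=
    (faithfulSMul_iff_algebraMap_injective B L).2 (IsFractionRing.injective B L)
  have e1 : Algebra.trdeg A B + Algebra.trdeg B L = Algebra.trdeg A L :=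
    trdeg_add_eq A B (A := L)
  have e2 : Algebra.trdeg A K + Algebra.trdeg K L = Algebra.trdeg A L :=
    trdeg_add_eq A K (A := L)
  rw [trdeg_eq_zero (R := B) (A := L), add_zero] at e1
  rw [trdeg_eq_zero (R := A) (A := K), zero_add] at e2
  rw [e1, e2]

theorem trdeg_quot_le (V : Type u) [CommRing V] [IsDomain V] (R : Type u) [CommRing R]
    [Algebra V R] (d : ℕ)
    (hB : ∀ (q : Ideal (FractionRing V ⊗[V] R)) [q.IsPrime], ∃ s : ℕ,
      Algebra.trdeg (FractionRing V) ((FractionRing V ⊗[V] R) ⧸ q) = s ∧ s ≤ d)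
    (Q₀ : Ideal R) [Q₀.IsPrime] (hQ : Q₀.comap (algebraMap V R) = ⊥) :
    Algebra.trdeg V (R ⧸ Q₀) ≤ d := by
  haveI : IsDomain (R ⧸ Q₀) := Ideal.Quotient.isDomain Q₀
  have hinj : Function.Injective (algebraMap V (R ⧸ Q₀)) := by
    rw [injective_iff_map_eq_zero]
    intro v hv
    rw [IsScalarTower.algebraMap_apply V R (R ⧸ Q₀), Ideal.Quotient.algebraMap_eq,
      Ideal.Quotient.eq_zero_iff_mem] at hv
    have h1 : v ∈ Q₀.comap (algebraMap V R) := hv
    rw [hQ] at h1
    exact (Ideal.mem_bot).mp h1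
  haveI : FaithfulSMul V (R ⧸ Q₀) := (faithfulSMul_iff_algebraMap_injective V (R ⧸ Q₀)).2 hinj
  haveI : FaithfulSMul V (FractionRing (R ⧸ Q₀)) := by
    rw [faithfulSMul_iff_algebraMap_injective,
      IsScalarTower.algebraMap_eq V (R ⧸ Q₀) (FractionRing (R ⧸ Q₀))]
    exact (IsFractionRing.injective (R ⧸ Q₀) (FractionRing (R ⧸ Q₀))).comp hinj
  letI algKL : Algebra (FractionRing V) (FractionRing (R ⧸ Q₀)) :=
    FractionRing.liftAlgebra V (FractionRing (R ⧸ Q₀))
  haveI : IsScalarTower V (FractionRing V) (FractionRing (R ⧸ Q₀)) :=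
    FractionRing.isScalarTower_liftAlgebra V (FractionRing (R ⧸ Q₀))
  have hF : Algebra.trdeg (FractionRing V) (FractionRing (R ⧸ Q₀)) = Algebra.trdeg V (R ⧸ Q₀) :=
    trdeg_frac V (R ⧸ Q₀) (FractionRing V) (FractionRing (R ⧸ Q₀))
  let ψ : (FractionRing V ⊗[V] R) →ₐ[FractionRing V] (FractionRing (R ⧸ Q₀)) :=
    Algebra.TensorProduct.lift (Algebra.ofId (FractionRing V) (FractionRing (R ⧸ Q₀)))
      (IsScalarTower.toAlgHom V R (FractionRing (R ⧸ Q₀))) (fun _ _ => Commute.all _ _)
  haveI hqp : (RingHom.ker ψ.toRingHom).IsPrime := RingHom.ker_isPrime ψ.toRingHom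
  obtain ⟨s, hs, hsd⟩ := hB (RingHom.ker ψ.toRingHom)
  let ι : ((FractionRing V ⊗[V] R) ⧸ RingHom.ker ψ.toRingHom) →+* FractionRing (R ⧸ Q₀) :=
    Ideal.Quotient.lift (RingHom.ker ψ.toRingHom) ψ.toRingHom (fun a ha => ha)
  have hι : Function.Injective ι := by
    rw [injective_iff_map_eq_zero]
    intro z hz
    obtain ⟨b, rfl⟩ := Ideal.Quotient.mk_surjective z
    rw [Ideal.Quotient.lift_mk] at hz
    exact Ideal.Quotient.eq_zero_iff_mem.mpr hz
  letI algBL : Algebra ((FractionRing V ⊗[V] R) ⧸ RingHom.ker ψ.toRingHom)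
      (FractionRing (R ⧸ Q₀)) := ι.toAlgebra
  haveI : IsScalarTower (FractionRing V) ((FractionRing V ⊗[V] R) ⧸ RingHom.ker ψ.toRingHom)
      (FractionRing (R ⧸ Q₀)) := IsScalarTower.of_algebraMap_eq (R := FractionRing V)
      (S := (FractionRing V ⊗[V] R) ⧸ RingHom.ker ψ.toRingHom) (A := FractionRing (R ⧸ Q₀))
      (fun k => by
    show algebraMap (FractionRing V) (FractionRing (R ⧸ Q₀)) k = ι (algebraMap _ _ k)
    rw [IsScalarTower.algebraMap_apply (FractionRing V) (FractionRing V ⊗[V] R)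
      ((FractionRing V ⊗[V] R) ⧸ RingHom.ker ψ.toRingHom), Ideal.Quotient.algebraMap_eq,
      Ideal.Quotient.lift_mk]
    exact (ψ.commutes k).symm)
  haveI : FaithfulSMul ((FractionRing V ⊗[V] R) ⧸ RingHom.ker ψ.toRingHom)
      (FractionRing (R ⧸ Q₀)) := (faithfulSMul_iff_algebraMap_injective _ _).2 hι
  haveI : IsDomain ((FractionRing V ⊗[V] R) ⧸ RingHom.ker ψ.toRingHom) :=
    Ideal.Quotient.isDomain _
  haveI : FaithfulSMul (FractionRing V) ((FractionRing V ⊗[V] R) ⧸ RingHom.ker ψ.toRingHom) :=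
    (faithfulSMul_iff_algebraMap_injective _ _).2 (RingHom.injective _)
  have hb : ∀ a : R, ι (Ideal.Quotient.mk _ ((1 : FractionRing V) ⊗ₜ[V] a)) =
      algebraMap (R ⧸ Q₀) (FractionRing (R ⧸ Q₀)) (Ideal.Quotient.mk Q₀ a) := by
    intro a
    rw [Ideal.Quotient.lift_mk]
    show ψ ((1 : FractionRing V) ⊗ₜ[V] a) = _
    rw [Algebra.TensorProduct.lift_tmul, map_one, one_mul, IsScalarTower.coe_toAlgHom',
      IsScalarTower.algebraMap_apply R (R ⧸ Q₀) (FractionRing (R ⧸ Q₀)),
      Ideal.Quotient.algebraMap_eq]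
  haveI : Algebra.IsAlgebraic ((FractionRing V ⊗[V] R) ⧸ RingHom.ker ψ.toRingHom)
      (FractionRing (R ⧸ Q₀)) := by
    constructor
    intro z
    obtain ⟨r₁, r₂, hr₂, rfl⟩ := IsFractionRing.div_surjective (A := R ⧸ Q₀) z
    obtain ⟨a₁, rfl⟩ := Ideal.Quotient.mk_surjective r₁
    obtain ⟨a₂, rfl⟩ := Ideal.Quotient.mk_surjective r₂
    have hne : algebraMap (R ⧸ Q₀) (FractionRing (R ⧸ Q₀)) (Ideal.Quotient.mk Q₀ a₂) ≠ 0 :=
      IsFractionRing.to_map_ne_zero_of_mem_nonZeroDivisors hr₂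
    refine ⟨Polynomial.C (Ideal.Quotient.mk _ ((1 : FractionRing V) ⊗ₜ[V] a₂)) * Polynomial.X -
      Polynomial.C (Ideal.Quotient.mk _ ((1 : FractionRing V) ⊗ₜ[V] a₁)), ?_, ?_⟩
    · intro h0
      have h1 := congrArg (fun f => Polynomial.coeff f 1) h0
      simp only [Polynomial.coeff_sub, Polynomial.coeff_C_mul, Polynomial.coeff_X_one, mul_one,
        Polynomial.coeff_C_succ, sub_zero, Polynomial.coeff_zero] at h1
      apply hne
      rw [← hb, h1, map_zero]
    · rw [map_sub, map_mul, Polynomial.aeval_C, Polynomial.aeval_C, Polynomial.aeval_X]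
      show ι _ * _ - ι _ = 0
      rw [hb, hb, mul_div_cancel₀ _ hne, sub_self]
  have hadd := trdeg_add_eq (FractionRing V)
    ((FractionRing V ⊗[V] R) ⧸ RingHom.ker ψ.toRingHom) (A := FractionRing (R ⧸ Q₀))
  rw [trdeg_eq_zero (R := (FractionRing V ⊗[V] R) ⧸ RingHom.ker ψ.toRingHom)
    (A := FractionRing (R ⧸ Q₀)), add_zero, hs] at hadd
  rw [← hF, ← hadd]
  exact_mod_cast hsd

section DVR

variable (V : Type u) [CommRing V] [IsDomain V] [IsDiscreteValuationRing V]
  (R : Type u) [CommRing R] [Algebra V R] [Algebra.FiniteType V R] [Module.Flat V R]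

theorem algebraMap_mem_nonZeroDivisors (v : V) (hv : v ≠ 0) :
    algebraMap V R v ∈ nonZeroDivisors R := by
  rw [mem_nonZeroDivisors_iff_right]
  intro x hx
  have h1 : v • x = v • (0 : R) := by
    rw [smul_zero, Algebra.smul_def, mul_comm]
    exact hx
  exact (Module.IsTorsionFree.isSMulRegular (M := R) (IsRegular.of_ne_zero hv)) h1

theorem height_le (d : ℕ)
    (hmin : ∀ (Q₀ : Ideal R) [Q₀.IsPrime], Q₀.comap (algebraMap V R) = ⊥ →
      Algebra.trdeg V (R ⧸ Q₀) ≤ d)
    (P : Ideal R) [P.IsPrime] : P.height ≤ d + 1 := by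
  haveI : P.LiesOver (P.under V) := ⟨rfl⟩
  have key := Groth.Agent.H1.DimIneq.dimIneq_of_forall_minimalPrimes V R (P.under V) P
    (d : Cardinal.{u}) (by
      intro Q₀ _ hQmin hle
      have hbot : Q₀.under V = ⊥ := by
        rw [eq_bot_iff]
        intro v hv
        by_contra hv0
        have h1 : algebraMap V R v ∈ nonZeroDivisors R :=
          algebraMap_mem_nonZeroDivisors V R v hv0
        have h2 := Ideal.disjoint_nonZeroDivisors_of_mem_minimalPrimes hQmin
        exact Set.disjoint_left.mp h2 hv h1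
      have h3 := Groth.Agent.H1.DimIneq.trdeg_eq_of_ringEquiv_base
        (A := V ⧸ Q₀.under V) (A' := V) (B := R ⧸ Q₀)
        ((Ideal.quotEquivOfEq hbot).trans (RingEquiv.quotientBot V)) (by
          intro a
          obtain ⟨v, rfl⟩ := Ideal.Quotient.mk_surjective a
          rw [Ideal.Quotient.algebraMap_mk_of_liesOver, RingEquiv.trans_apply,
            Ideal.quotEquivOfEq_mk, RingEquiv.quotientBot_mk,
            IsScalarTower.algebraMap_apply V R (R ⧸ Q₀), Ideal.Quotient.algebraMap_eq])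
      rw [h3]
      exact hmin Q₀ hbot)
  have h4 : (P.under V).height ≤ 1 := by
    have h5 := Ideal.height_le_ringKrullDim_of_ne_top (I := P.under V) (Ideal.IsPrime.ne_top')
    rw [IsDiscreteValuationRing.ringKrullDim_eq_one] at h5
    exact_mod_cast h5
  have h6 : (P.height : Cardinal.{u}) ≤ ((P.under V).height : Cardinal.{u}) + (d : Cardinal.{u}) :=
    le_trans le_self_add key
  have h7 : P.height ≤ (P.under V).height + d := by exact_mod_cast h6
  calc P.height ≤ (P.under V).height + d := h7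
    _ ≤ 1 + d := by gcongr
    _ = d + 1 := add_comm _ _

theorem dim_special (d : ℕ) (hR : ringKrullDim R ≤ d + 1) :
    ringKrullDim (IsLocalRing.ResidueField V ⊗[V] R) ≤ d := by
  obtain ⟨ϖ, hϖ⟩ := IsDiscreteValuationRing.exists_irreducible V
  have e := Algebra.TensorProduct.quotIdealMapEquivQuotTensor R (IsLocalRing.maximalIdeal V)
  have h1 : ringKrullDim (IsLocalRing.ResidueField V ⊗[V] R) =
      ringKrullDim (R ⧸ (IsLocalRing.maximalIdeal V).map (algebraMap V R)) :=
    (ringKrullDim_eq_of_ringEquiv e.toRingEquiv).symm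
  have h2 : (IsLocalRing.maximalIdeal V).map (algebraMap V R) =
      Ideal.span {algebraMap V R ϖ} := by
    rw [hϖ.maximalIdeal_eq, Ideal.map_span, Set.image_singleton]
  rw [h1, h2]
  have h3 := ringKrullDim_quotient_succ_le_of_nonZeroDivisor
    (algebraMap_mem_nonZeroDivisors V R ϖ hϖ.ne_zero)
  have h4 : ringKrullDim (R ⧸ Ideal.span {algebraMap V R ϖ}) + 1 ≤ (d : WithBot ℕ∞) + 1 :=
    h3.trans hR
  generalize ringKrullDim (R ⧸ Ideal.span {algebraMap V R ϖ}) = a at h4
  induction a using WithBot.recBotCoe with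
  | bot => exact bot_le
  | coe a =>
    have h5 : a + 1 ≤ (d : ℕ∞) + 1 := by exact_mod_cast h4
    have h6 : a ≤ d := (ENat.add_le_add_iff_right ENat.one_ne_top).mp h5
    exact_mod_cast h6

theorem fibre_dims (d : ℕ)
    (hR : RingHom.Locally (RingHom.IsStandardSmoothOfRelativeDimension d)
      (algebraMap (FractionRing V) (FractionRing V ⊗[V] R))) :
    ringKrullDim (IsLocalRing.ResidueField V ⊗[V] R) ≤ d ∧
      ringKrullDim (FractionRing V ⊗[V] R) ≤ d := by
  haveI hsm : Algebra.Smooth (FractionRing V) (FractionRing V ⊗[V] R) :=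
    SmEtA.smooth_of_locally d hR
  haveI hfs : Algebra.FormallySmooth (FractionRing V) (FractionRing V ⊗[V] R) :=
    Algebra.Smooth.formallySmooth
  haveI hproj : Module.Projective (FractionRing V ⊗[V] R)
      (Ω[(FractionRing V ⊗[V] R)⁄(FractionRing V)]) :=
    Algebra.FormallySmooth.projective_kaehlerDifferential
  haveI hflat : Module.Flat (FractionRing V ⊗[V] R)
      (Ω[(FractionRing V ⊗[V] R)⁄(FractionRing V)]) := Module.Flat.of_projective
  haveI hft : Algebra.FiniteType (FractionRing V) (FractionRing V ⊗[V] R) :=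
    Algebra.FiniteType.baseChange (FractionRing V)
  haveI hfin : Module.Finite (FractionRing V ⊗[V] R)
      (Ω[(FractionRing V ⊗[V] R)⁄(FractionRing V)]) := KaehlerDifferential.finite _ _
  have hrank : ∀ q : PrimeSpectrum (FractionRing V ⊗[V] R),
      Module.rankAtStalk (Ω[(FractionRing V ⊗[V] R)⁄(FractionRing V)]) q = d :=
    SmEtA.rank_of_locally d hR
  have hdim := dim_add_trdeg (FractionRing V) (FractionRing V ⊗[V] R) d hrank
  refine ⟨?_, dim_le (FractionRing V) (FractionRing V ⊗[V] R) d hrank⟩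
  apply dim_special V R d
  rw [ringKrullDim_le_iff_height_le]
  intro P hP
  have h0 : ∀ (Q₀ : Ideal R) [Q₀.IsPrime], Q₀.comap (algebraMap V R) = ⊥ →
      Algebra.trdeg V (R ⧸ Q₀) ≤ d := by
    intro Q₀ _ hQ
    refine trdeg_quot_le V R d ?_ Q₀ hQ
    intro q _
    obtain ⟨nd, s, -, h2, h3⟩ := hdim q
    exact ⟨s, h2, by omega⟩
  have h1 := height_le V R d h0 P
  exact_mod_cast h1

end DVR

end Groth.Agent.H9.FibDimA
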