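import Mathlib
import Groth.Agent.Lib.Helper9.Misc.SmEtA

set_option autoImplicit false
set_option linter.style.haveILetI false
set_option linter.unusedSectionVars false
set_option linter.unusedVariables false

universe u

open TensorProduct KaehlerDifferential

namespace Groth.Agent.H9.SmEtB

theorem p_factor (V : Type u) [CommRing V] [IsDomain V] [IsDiscreteValuationRing V] [CharZero V]
    (ϖ : V) (hϖ : Irreducible ϖ) (p : ℕ) [Fact p.Prime]
    [CharP (IsLocalRing.ResidueField V) p] :
    ∃ w : V, (p : V) = ϖ * w := by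
  have hp0 : (p : V) ≠ 0 := Nat.cast_ne_zero.mpr (Fact.out : p.Prime).ne_zero
  obtain ⟨e, u, hu⟩ := IsDiscreteValuationRing.eq_unit_mul_pow_irreducible hp0 hϖ
  rcases Nat.eq_zero_or_pos e with he | he
  · exfalso
    rw [he, pow_zero, mul_one] at hu
    have h1 : IsLocalRing.residue V (p : V) = 0 := by
      rw [map_natCast]
      exact CharP.cast_eq_zero _ p
    rw [IsLocalRing.residue_eq_zero_iff] at h1
    have h2 : IsUnit (p : V) := hu ▸ u.isUnit
    exact (IsLocalRing.mem_maximalIdeal _).mp h1 h2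
  · obtain ⟨e', rfl⟩ := Nat.exists_eq_succ_of_ne_zero he.ne'
    exact ⟨u * ϖ ^ e', by rw [hu, pow_succ]; ring⟩

theorem exists_pow_smul_eq_zero {A R T : Type u} [CommRing A] [CommRing R] [CommRing T]
    [Algebra A R] [Algebra R T] [Algebra A T] [IsScalarTower A R T] (x : R)
    [IsLocalization.Away x T] [Module.Finite R Ω[R⁄A]] [Subsingleton Ω[T⁄A]] :
    ∃ N : ℕ, ∀ ω : Ω[R⁄A], x ^ N • ω = 0 := by
  haveI : IsLocalizedModule (Submonoid.powers x) (KaehlerDifferential.map A A R T) :=
    KaehlerDifferential.isLocalizedModule_map A R T (Submonoid.powers x)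
  have h1 : ∀ ω : Ω[R⁄A], ∃ n : ℕ, x ^ n • ω = 0 := by
    intro ω
    obtain ⟨c, hc⟩ := IsLocalizedModule.exists_of_eq (S := Submonoid.powers x)
      (f := KaehlerDifferential.map A A R T) (x₁ := ω) (x₂ := 0) (Subsingleton.elim _ _)
    obtain ⟨c, n, rfl⟩ := c
    refine ⟨n, ?_⟩
    have h2 : (x ^ n) • ω = (x ^ n) • (0 : Ω[R⁄A]) := hc
    rw [smul_zero] at h2
    exact h2
  obtain ⟨s, hs⟩ := (Module.Finite.fg_top : (⊤ : Submodule R Ω[R⁄A]).FG)
  choose n hn using h1
  refine ⟨s.sup n, fun ω => ?_⟩
  have hmem : ω ∈ Submodule.span R (s : Set Ω[R⁄A]) := by rw [hs]; trivial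
  induction hmem using Submodule.span_induction with
  | mem g hg =>
    have h2 : n g ≤ s.sup n := Finset.le_sup hg
    obtain ⟨k, hk⟩ := Nat.exists_eq_add_of_le h2
    rw [hk, pow_add, mul_comm, mul_smul, hn g, smul_zero]
  | zero => simp
  | add a b _ _ ha hb => rw [smul_add, ha, hb, add_zero]
  | smul r a _ ha => rw [smul_comm, ha, smul_zero]

theorem part1 {V A R T : Type u} [CommRing V] [IsDomain V] [IsDiscreteValuationRing V]
    [CharZero V] (ϖ : V) (hϖ : Irreducible ϖ) (p : ℕ) [Fact p.Prime]
    [CharP (IsLocalRing.ResidueField V) p]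
    [CommRing A] [Algebra V A] [CommRing R] [Algebra V R] [Algebra.FiniteType V R] [Algebra A R]
    [IsScalarTower V A R]
    [CommRing T] [Algebra R T] [Algebra A T] [IsScalarTower A R T]
    (a : R) (hcop : Ideal.span {a} ⊔ Ideal.span {algebraMap V R ϖ} = ⊤)
    [IsLocalization.Away (a * algebraMap V R ϖ) T] [Subsingleton Ω[T⁄A]] :
    ∃ n : ℕ, Ideal.span {((p : R)) ^ n} • (⊤ : Submodule R (Ω[R⁄A])) ≤
        Ideal.span {algebraMap V R ϖ * (p : R) ^ n} • (⊤ : Submodule R (Ω[R⁄A])) := by
  haveI : Algebra.FiniteType A R := Algebra.FiniteType.of_restrictScalars_finiteType V A R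
  obtain ⟨N, hN⟩ := exists_pow_smul_eq_zero (A := A) (R := R) (T := T) (a * algebraMap V R ϖ)
  obtain ⟨w, hw⟩ := p_factor V ϖ hϖ p
  have hpR : (p : R) = algebraMap V R ϖ * algebraMap V R w := by
    rw [← map_mul, ← hw, map_natCast]
  have hc : IsCoprime a (algebraMap V R ϖ) := by
    rw [← Ideal.isCoprime_span_singleton_iff, Ideal.isCoprime_iff_sup_eq]
    exact hcop
  obtain ⟨r, s, hrs⟩ := (hc.pow_left (m := N))
  refine ⟨N, ?_⟩
  rw [Submodule.smul_le]
  intro z hz ω _
  obtain ⟨c, rfl⟩ := Ideal.mem_span_singleton'.mp hz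
  have hkill : ((p : R) ^ N * a ^ N) • ω = 0 := by
    have h3 : (p : R) ^ N * a ^ N = algebraMap V R w ^ N * (a * algebraMap V R ϖ) ^ N := by
      rw [hpR]; ring
    rw [h3, mul_smul, hN, smul_zero]
  have h4 : (c * (p : R) ^ N) • ω =
      (algebraMap V R ϖ * (p : R) ^ N) • ((c * s) • ω) := by
    have h5 : c * (p : R) ^ N = (algebraMap V R ϖ * (p : R) ^ N) * (c * s) +
        c * r * ((p : R) ^ N * a ^ N) := by
      linear_combination (c * (p : R) ^ N) * hrs.symm
    rw [h5, add_smul, mul_smul (c * r), hkill, smul_zero, add_zero, mul_smul]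
  rw [h4]
  exact Submodule.smul_mem_smul (Ideal.mem_span_singleton_self _) trivial

theorem subsingleton_kaehler {A R T : Type u} [CommRing A] [CommRing R] [CommRing T]
    [Algebra A R] [Algebra R T] [Algebra A T] [IsScalarTower A R T] (x : R)
    [IsLocalization.Away x T] (y : R) (hy : IsUnit (algebraMap R T y))
    (hkill : ∀ ω : Ω[R⁄A], y • ω = 0) :
    Subsingleton Ω[T⁄A] := by
  have h0 : ∀ ω : Ω[R⁄A], KaehlerDifferential.map A A R T ω = 0 := by
    intro ω
    have h1 : algebraMap R T y • KaehlerDifferential.map A A R T ω = 0 := by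
      rw [algebraMap_smul, ← LinearMap.map_smul, hkill, map_zero]
    exact (hy.smul_left_cancel).mp (by rw [h1, smul_zero])
  have hspan := KaehlerDifferential.span_range_map_derivation_of_isLocalization A R T
    (Submonoid.powers x)
  have h2 : (⊤ : Submodule T Ω[T⁄A]) = ⊥ := by
    rw [← hspan, Submodule.span_eq_bot]
    rintro _ ⟨r, rfl⟩
    exact h0 _
  exact (Submodule.subsingleton_iff T).mp (subsingleton_of_bot_eq_top h2.symm)

theorem part2 {V A R T : Type u} [CommRing V] [IsDomain V] [IsDiscreteValuationRing V]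
    [CharZero V] (ϖ : V) (hϖ : Irreducible ϖ) (p : ℕ) [Fact p.Prime]
    [CommRing A] [Algebra V A] [Algebra.FiniteType V A]
    [CommRing R] [Algebra V R] [Algebra.FiniteType V R] [Algebra A R] [IsScalarTower V A R]
    [CommRing T] [Algebra V T] [Algebra A T] [Algebra R T] [IsScalarTower V R T]
    [IsScalarTower A R T]
    (a : R) [IsLocalization.Away (a * algebraMap V R ϖ) T]
    (n : ℕ) (hkill : ∀ ω : Ω[R⁄A], (a * (p : R) ^ n) • ω = 0)
    (d : ℕ)
    (hA : RingHom.Locally (RingHom.IsStandardSmoothOfRelativeDimension d)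
      (algebraMap (FractionRing V) (FractionRing V ⊗[V] A)))
    (hR : RingHom.Locally (RingHom.IsStandardSmoothOfRelativeDimension d)
      (algebraMap (FractionRing V) (FractionRing V ⊗[V] R))) :
    Algebra.Etale A T := by
  have hxu : IsUnit (algebraMap R T (a * algebraMap V R ϖ)) :=
    IsLocalization.map_units T
      (⟨_, Submonoid.mem_powers _⟩ : Submonoid.powers (a * algebraMap V R ϖ))
  rw [map_mul] at hxu
  have hau : IsUnit (algebraMap R T a) := (IsUnit.mul_iff.mp hxu).1
  have hϖu : IsUnit (algebraMap V T ϖ) := by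
    rw [IsScalarTower.algebraMap_apply V R T]
    exact (IsUnit.mul_iff.mp hxu).2
  have hvu : ∀ v : V, v ≠ 0 → IsUnit (algebraMap V T v) := by
    intro v hv
    obtain ⟨k, u, rfl⟩ := IsDiscreteValuationRing.eq_unit_mul_pow_irreducible hv hϖ
    rw [map_mul, map_pow]
    exact ((u.isUnit.map _)).mul (hϖu.pow k)
  have hpu : IsUnit (algebraMap R T ((p : R))) := by
    have h1 : algebraMap R T (p : R) = algebraMap V T ((p : V)) := by simp
    rw [h1]
    exact hvu _ (Nat.cast_ne_zero.mpr (Fact.out : p.Prime).ne_zero)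
  have hyu : IsUnit (algebraMap R T (a * (p : R) ^ n)) := by
    rw [map_mul, map_pow]
    exact hau.mul (hpu.pow n)
  haveI : Subsingleton Ω[T⁄A] := subsingleton_kaehler (a * algebraMap V R ϖ) _ hyu hkill
  letI algKT : Algebra (FractionRing V) T :=
    (IsLocalization.lift (M := nonZeroDivisors V) (S := FractionRing V) (g := algebraMap V T)
      (fun v => hvu v.1 (nonZeroDivisors.ne_zero v.2))).toAlgebra
  haveI : IsScalarTower V (FractionRing V) T :=
    IsScalarTower.of_algebraMap_eq (fun v => (IsLocalization.lift_eq _ v).symm)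
  haveI : IsScalarTower V A T := IsScalarTower.of_algebraMap_eq (fun v => by
    rw [IsScalarTower.algebraMap_apply V R T, IsScalarTower.algebraMap_apply V A R,
      ← IsScalarTower.algebraMap_apply A R T])
  haveI : Algebra.FormallyEtale V (FractionRing V) :=
    Algebra.FormallyEtale.of_isLocalization (nonZeroDivisors V)
  haveI : Algebra.FormallyEtale R T :=
    Algebra.FormallyEtale.of_isLocalization (Submonoid.powers (a * algebraMap V R ϖ))
  haveI : Algebra.FormallySmooth A T :=
    SmEtA.formallySmooth_of_generic (V := V) (K := FractionRing V) (A := A) (R := R) (T := T)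
      d hA hR
  haveI : Algebra.FormallyUnramified A T := ⟨inferInstance⟩
  haveI : Algebra.FormallyEtale A T :=
    Algebra.FormallyEtale.of_formallyUnramified_and_formallySmooth
  haveI : IsNoetherianRing A := Algebra.FiniteType.isNoetherianRing V A
  haveI : Algebra.FiniteType A R := Algebra.FiniteType.of_restrictScalars_finiteType V A R
  haveI : Algebra.FinitePresentation A R :=
    Algebra.FinitePresentation.of_finiteType.mp inferInstance
  haveI : Algebra.FinitePresentation R T :=
    IsLocalization.Away.finitePresentation (a * algebraMap V R ϖ)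
  haveI : Algebra.FinitePresentation A T := Algebra.FinitePresentation.trans A R T
  exact {}

open AlgebraicGeometry in
theorem main (V : Type u) [CommRing V] [IsDomain V] [IsDiscreteValuationRing V] [CharZero V]
    (ϖ : V) (hϖ : Irreducible ϖ) (p : ℕ) [Fact p.Prime] [CharP (IsLocalRing.ResidueField V) p]
    (A : Type u) [CommRing A] [Algebra V A] [Algebra.FiniteType V A]
    (R : Type u) [CommRing R] [Algebra V R] [Algebra.FiniteType V R] [Algebra A R]
    [IsScalarTower V A R] :
    ((∃ a : R, Ideal.span {a} ⊔ Ideal.span {algebraMap V R ϖ} = ⊤ ∧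
        ((algebraMap R (Localization.Away (a * algebraMap V R ϖ))).comp (algebraMap A R)).Etale) →
      ∃ n : ℕ, Ideal.span {((p : R)) ^ n} • (⊤ : Submodule R (Ω[R⁄A])) ≤
        Ideal.span {algebraMap V R ϖ * (p : R) ^ n} • (⊤ : Submodule R (Ω[R⁄A]))) ∧
    (∀ d : ℕ, SmoothOfRelativeDimension d
        (Spec.map (CommRingCat.ofHom (algebraMap (FractionRing V) (FractionRing V ⊗[V] A)))) →
      SmoothOfRelativeDimension d
        (Spec.map (CommRingCat.ofHom (algebraMap (FractionRing V) (FractionRing V ⊗[V] R)))) →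
      (∃ n : ℕ, Ideal.span {((p : R)) ^ n} • (⊤ : Submodule R (Ω[R⁄A])) ≤
        Ideal.span {algebraMap V R ϖ * (p : R) ^ n} • (⊤ : Submodule R (Ω[R⁄A]))) →
      ∃ a : R, Ideal.span {a} ⊔ Ideal.span {algebraMap V R ϖ} = ⊤ ∧
        ((algebraMap R (Localization.Away (a * algebraMap V R ϖ))).comp
          (algebraMap A R)).Etale) := by
  constructor
  · rintro ⟨a, hcop, het⟩
    rw [← IsScalarTower.algebraMap_eq A R (Localization.Away (a * algebraMap V R ϖ)),
      RingHom.etale_algebraMap] at het
    haveI : Subsingleton Ω[(Localization.Away (a * algebraMap V R ϖ))⁄A] := inferInstance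
    exact part1 (T := Localization.Away (a * algebraMap V R ϖ)) ϖ hϖ p a hcop
  · intro d hA hR ⟨n, hn⟩
    have hA' := (HasRingHomProperty.Spec_iff (P := @SmoothOfRelativeDimension d)).mp hA
    have hR' := (HasRingHomProperty.Spec_iff (P := @SmoothOfRelativeDimension d)).mp hR
    rw [CommRingCat.hom_ofHom] at hA' hR'
    haveI : IsNoetherianRing R := Algebra.FiniteType.isNoetherianRing V R
    haveI : Algebra.FiniteType A R := Algebra.FiniteType.of_restrictScalars_finiteType V A R
    have hle : Ideal.span {((p : R)) ^ n} • (⊤ : Submodule R (Ω[R⁄A])) ≤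
        Ideal.span {algebraMap V R ϖ} •
          (Ideal.span {((p : R)) ^ n} • (⊤ : Submodule R (Ω[R⁄A]))) := by
      rw [← Submodule.mul_smul, Ideal.span_singleton_mul_span_singleton]
      exact hn
    obtain ⟨a, ha1, ha2⟩ := Submodule.exists_sub_one_mem_and_smul_eq_zero_of_fg_of_le_smul
      (Ideal.span {algebraMap V R ϖ})
      (Ideal.span {((p : R)) ^ n} • (⊤ : Submodule R (Ω[R⁄A]))) (IsNoetherian.noetherian _) hle
    have hcop : Ideal.span {a} ⊔ Ideal.span {algebraMap V R ϖ} = ⊤ := by
      rw [Ideal.eq_top_iff_one]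
      have h1 : (1 : R) = a + -(a - 1) := by ring
      rw [h1]
      exact Submodule.add_mem_sup (Ideal.mem_span_singleton_self a) (neg_mem ha1)
    refine ⟨a, hcop, ?_⟩
    rw [← IsScalarTower.algebraMap_eq A R (Localization.Away (a * algebraMap V R ϖ)),
      RingHom.etale_algebraMap]
    refine part2 (T := Localization.Away (a * algebraMap V R ϖ)) ϖ hϖ p a n ?_ d hA' hR'
    intro ω
    rw [mul_smul]
    exact ha2 _ (Submodule.smul_mem_smul (Ideal.mem_span_singleton_self _) trivial)

end Groth.Agent.H9.SmEtB
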