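import Mathlib
import Groth.Agent.Lib.Helper9.Misc.SmEtA
import Groth.Agent.Lib.Helper9.Misc.SmEtB
import Groth.Agent.Lib.Helper9.Misc.FibDimA

set_option autoImplicit false
set_option linter.style.haveILetI false
set_option linter.unusedSectionVars false
set_option linter.unusedVariables false

universe u

open TensorProduct KaehlerDifferential

namespace Groth.Agent.H9.EtaFinA

theorem mem_span_singleton_smul_top {R M : Type*} [CommRing R] [AddCommGroup M] [Module R M]
    (c : R) (z : M) :
    z ∈ Ideal.span {c} • (⊤ : Submodule R M) ↔ ∃ η : M, z = c • η := by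
  constructor
  · intro hz
    refine Submodule.smul_induction_on hz ?_ ?_
    · intro r hr n hn
      obtain ⟨t, rfl⟩ := Ideal.mem_span_singleton'.mp hr
      exact ⟨t • n, by rw [smul_smul, mul_comm]⟩
    · rintro x y ⟨a, rfl⟩ ⟨b, rfl⟩
      exact ⟨a + b, (smul_add _ _ _).symm⟩
  · rintro ⟨η, rfl⟩
    exact Submodule.smul_mem_smul (Ideal.mem_span_singleton_self c) trivial

section Transfer

variable {V A R : Type u} [CommRing V] [CommRing A] [CommRing R] [Algebra V A] [Algebra V R]
  [Algebra A R] [IsScalarTower V A R]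

theorem transfer (W : Submodule R Ω[R⁄V])
    (hW : LinearMap.ker (KaehlerDifferential.map V A R R) = W) (c c' : R) :
    (Ideal.span {c} • (⊤ : Submodule R Ω[R⁄A]) ≤ Ideal.span {c'} • ⊤) ↔
    (Ideal.span {c} • (⊤ : Submodule R Ω[R⁄V]) ≤ Ideal.span {c'} • ⊤ ⊔ W) := by
  have hsurj : Function.Surjective (KaehlerDifferential.map V A R R) :=
    KaehlerDifferential.map_surjective V A R
  constructor
  · intro h
    rw [Submodule.smul_le]
    intro r hr ω _
    have h1 : r • (KaehlerDifferential.map V A R R ω) ∈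
        Ideal.span {c'} • (⊤ : Submodule R Ω[R⁄A]) :=
      h (Submodule.smul_mem_smul hr trivial)
    obtain ⟨η, hη⟩ := (mem_span_singleton_smul_top c' _).mp h1
    obtain ⟨ω', rfl⟩ := hsurj η
    have h2 : r • ω - c' • ω' ∈ W := by
      rw [← hW, LinearMap.mem_ker, map_sub, map_smul, map_smul, hη, sub_self]
    have h3 : r • ω = c' • ω' + (r • ω - c' • ω') := by abel
    rw [h3]
    exact Submodule.add_mem_sup ((mem_span_singleton_smul_top c' _).mpr ⟨ω', rfl⟩) h2
  · intro h
    rw [Submodule.smul_le]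
    intro r hr η _
    obtain ⟨ω, rfl⟩ := hsurj η
    have h1 : r • ω ∈ Ideal.span {c'} • (⊤ : Submodule R Ω[R⁄V]) ⊔ W :=
      h (Submodule.smul_mem_smul hr trivial)
    obtain ⟨z, hz, w, hw, hzw⟩ := Submodule.mem_sup.mp h1
    obtain ⟨ω'', rfl⟩ := (mem_span_singleton_smul_top c' _).mp hz
    rw [← hW, LinearMap.mem_ker] at hw
    rw [← map_smul, ← hzw, map_add, hw, add_zero, map_smul]
    exact (mem_span_singleton_smul_top c' _).mpr ⟨_, rfl⟩

end Transfer

section Ker

variable {V R : Type u} [CommRing V] [CommRing R] [Algebra V R] (d : ℕ) (x : Fin d → R)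
  [Algebra (MvPolynomial (Fin d) V) R] [IsScalarTower V (MvPolynomial (Fin d) V) R]

theorem D_algebraMap_mem
    (hx : ∀ i, algebraMap (MvPolynomial (Fin d) V) R (MvPolynomial.X i) = x i)
    (a : MvPolynomial (Fin d) V) :
    D V R (algebraMap (MvPolynomial (Fin d) V) R a) ∈
      Submodule.span R (Set.range fun i => D V R (x i)) := by
  induction a using MvPolynomial.induction_on with
  | C v =>
    rw [← MvPolynomial.algebraMap_eq, ← IsScalarTower.algebraMap_apply V (MvPolynomial (Fin d) V) R,
      Derivation.map_algebraMap]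
    exact zero_mem _
  | add f g hf hg =>
    rw [map_add, map_add]
    exact add_mem hf hg
  | mul_X f i hf =>
    rw [map_mul, Derivation.leibniz, hx]
    exact add_mem (Submodule.smul_mem _ _ (Submodule.subset_span ⟨i, rfl⟩))
      (Submodule.smul_mem _ _ hf)

theorem ker_map_mvPolynomial
    (hx : ∀ i, algebraMap (MvPolynomial (Fin d) V) R (MvPolynomial.X i) = x i) :
    LinearMap.ker (KaehlerDifferential.map V (MvPolynomial (Fin d) V) R R) =
      Submodule.span R (Set.range fun i => D V R (x i)) := by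
  apply le_antisymm
  · rw [← KaehlerDifferential.range_mapBaseChange V (MvPolynomial (Fin d) V) R]
    rintro _ ⟨t, rfl⟩
    induction t using TensorProduct.induction_on with
    | zero => rw [map_zero]; exact zero_mem _
    | add a b ha hb => rw [map_add]; exact add_mem ha hb
    | tmul r ω =>
      rw [KaehlerDifferential.mapBaseChange_tmul]
      apply Submodule.smul_mem
      have hω : ω ∈ Submodule.span (MvPolynomial (Fin d) V)
          (Set.range (D V (MvPolynomial (Fin d) V))) := by
        rw [KaehlerDifferential.span_range_derivation]; trivial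
      induction hω using Submodule.span_induction with
      | mem z hz =>
        obtain ⟨a, rfl⟩ := hz
        rw [KaehlerDifferential.map_D]
        exact D_algebraMap_mem d x hx a
      | zero => rw [map_zero]; exact zero_mem _
      | add a b _ _ ha hb => rw [map_add]; exact add_mem ha hb
      | smul a' z _ hz =>
        rw [map_smul, ← algebraMap_smul R a']
        exact Submodule.smul_mem _ _ hz
  · rw [Submodule.span_le]
    rintro _ ⟨i, rfl⟩
    rw [SetLike.mem_coe, LinearMap.mem_ker, KaehlerDifferential.map_D, Algebra.algebraMap_self_apply,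
      ← hx i, Derivation.map_algebraMap]

end Ker

section Smooth

theorem stdSmooth_mvPolynomial (V : Type u) [CommRing V] [Nontrivial V] (d : ℕ) :
    Algebra.IsStandardSmoothOfRelativeDimension d V (MvPolynomial (Fin d) V) := by
  haveI : Algebra.IsStandardSmooth V (MvPolynomial (Fin d) V) :=
    Algebra.IsStandardSmooth.of_basis_kaehlerDifferential
      (KaehlerDifferential.mvPolynomialBasis V (Fin d)) (by
      rintro _ ⟨i, rfl⟩
      exact ⟨MvPolynomial.X i, (KaehlerDifferential.mvPolynomialBasis_apply V (Fin d) i).symm⟩)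
  rw [Algebra.IsStandardSmoothOfRelativeDimension.iff_of_isStandardSmooth]
  rw [rank_eq_card_basis (KaehlerDifferential.mvPolynomialBasis V (Fin d))]
  simp

theorem locally_mvPolynomial (V K : Type u) [CommRing V] [Nontrivial V] [CommRing K]
    [Algebra V K] (d : ℕ) :
    RingHom.Locally (RingHom.IsStandardSmoothOfRelativeDimension d)
      (algebraMap K (K ⊗[V] MvPolynomial (Fin d) V)) := by
  haveI := stdSmooth_mvPolynomial V d
  apply RingHom.locally_of RingHom.isStandardSmoothOfRelativeDimension_respectsIso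
  rw [RingHom.isStandardSmoothOfRelativeDimension_algebraMap]
  infer_instance

end Smooth

section Main

open AlgebraicGeometry

variable (V : Type u) [CommRing V] [IsDomain V] [IsDiscreteValuationRing V] [CharZero V]
  (ϖ : V) (hϖ : Irreducible ϖ) (p : ℕ) [Fact p.Prime] [CharP (IsLocalRing.ResidueField V) p]
  (R : Type u) [CommRing R] [Algebra V R] [Algebra.FiniteType V R] (d : ℕ)

include hϖ in
theorem eta_iff
    (hsm : SmoothOfRelativeDimension d
      (Spec.map (CommRingCat.ofHom (algebraMap (FractionRing V) (FractionRing V ⊗[V] R)))))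
    (x : Fin d → R) :
    ((∃ a : R, Ideal.span {a} ⊔ Ideal.span {algebraMap V R ϖ} = ⊤ ∧
        ((algebraMap R (Localization.Away (a * algebraMap V R ϖ))).comp
          (MvPolynomial.aeval x : MvPolynomial (Fin d) V →ₐ[V] R).toRingHom).Etale) →
      ∃ n : ℕ, Ideal.span {((p : R)) ^ n} • (⊤ : Submodule R (Ω[R⁄V])) ≤
        Ideal.span {algebraMap V R ϖ * (p : R) ^ n} • (⊤ : Submodule R (Ω[R⁄V])) ⊔
          Submodule.span R (Set.range fun i => KaehlerDifferential.D V R (x i))) ∧
    ((∃ n : ℕ, Ideal.span {((p : R)) ^ n} • (⊤ : Submodule R (Ω[R⁄V])) ≤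
        Ideal.span {algebraMap V R ϖ * (p : R) ^ n} • (⊤ : Submodule R (Ω[R⁄V])) ⊔
          Submodule.span R (Set.range fun i => KaehlerDifferential.D V R (x i))) →
      ∃ a : R, Ideal.span {a} ⊔ Ideal.span {algebraMap V R ϖ} = ⊤ ∧
        ((algebraMap R (Localization.Away (a * algebraMap V R ϖ))).comp
          (MvPolynomial.aeval x : MvPolynomial (Fin d) V →ₐ[V] R).toRingHom).Etale) := by
  letI algA : Algebra (MvPolynomial (Fin d) V) R :=
    (MvPolynomial.aeval x : MvPolynomial (Fin d) V →ₐ[V] R).toRingHom.toAlgebra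
  haveI tower : IsScalarTower V (MvPolynomial (Fin d) V) R :=
    IsScalarTower.of_algebraMap_eq (fun v =>
      ((MvPolynomial.aeval x : MvPolynomial (Fin d) V →ₐ[V] R).commutes v).symm)
  have hker := ker_map_mvPolynomial (V := V) (R := R) d x (fun i => MvPolynomial.aeval_X x i)
  have hmain := SmEtB.main V ϖ hϖ p (MvPolynomial (Fin d) V) R
  have htr := fun n : ℕ => transfer (V := V) (A := MvPolynomial (Fin d) V) (R := R) _ hker
    ((p : R) ^ n) (algebraMap V R ϖ * (p : R) ^ n)
  have hA : SmoothOfRelativeDimension d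
      (Spec.map (CommRingCat.ofHom (algebraMap (FractionRing V)
        (FractionRing V ⊗[V] MvPolynomial (Fin d) V)))) := by
    rw [HasRingHomProperty.Spec_iff (P := @SmoothOfRelativeDimension d), CommRingCat.hom_ofHom]
    exact locally_mvPolynomial V (FractionRing V) d
  constructor
  · rintro ⟨a, hcop, het⟩
    obtain ⟨n, hn⟩ := hmain.1 ⟨a, hcop, het⟩
    exact ⟨n, (htr n).mp hn⟩
  · rintro ⟨n, hn⟩
    exact hmain.2 d hA hsm ⟨n, (htr n).mpr hn⟩

include hϖ in
theorem main [Module.Flat V R]
    (hsm : SmoothOfRelativeDimension d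
      (Spec.map (CommRingCat.ofHom (algebraMap (FractionRing V) (FractionRing V ⊗[V] R)))))
    (h79 : ringKrullDim (IsLocalRing.ResidueField V ⊗[V] R) ≤ d →
      ringKrullDim (FractionRing V ⊗[V] R) ≤ d → ∀ (x : Fin d → R) (N : ℕ), 1 ≤ N →
      ∃ y : Fin d → R, (∀ i, y i ∈ Subring.closure (Set.range fun r : R => r ^ N)) ∧
      (MvPolynomial.aeval (fun i => (1 : IsLocalRing.ResidueField V) ⊗ₜ[V] (x i + y i)) :
          MvPolynomial (Fin d) (IsLocalRing.ResidueField V) →ₐ[IsLocalRing.ResidueField V]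
            IsLocalRing.ResidueField V ⊗[V] R).toRingHom.Finite ∧
      (MvPolynomial.aeval (fun i => (1 : FractionRing V) ⊗ₜ[V] (x i + y i)) :
          MvPolynomial (Fin d) (FractionRing V) →ₐ[FractionRing V]
            FractionRing V ⊗[V] R).toRingHom.Finite)
    (h84 : ∀ (n : ℕ) (x' : Fin d → R),
      Ideal.span {((p : R)) ^ n} • (⊤ : Submodule R (Ω[R⁄V])) ≤
        Ideal.span {algebraMap V R ϖ * (p : R) ^ n} • (⊤ : Submodule R (Ω[R⁄V])) ⊔
          Submodule.span R (Set.range fun i => KaehlerDifferential.D V R (x' i)) →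
      ∀ (y : Fin d → R), (∀ i, y i ∈ Subring.closure (Set.range fun r : R => r ^ (p ^ (n + 1)))) →
      Ideal.span {((p : R)) ^ n} • (⊤ : Submodule R (Ω[R⁄V])) ≤
        Ideal.span {algebraMap V R ϖ * (p : R) ^ n} • (⊤ : Submodule R (Ω[R⁄V])) ⊔
          Submodule.span R (Set.range fun i => KaehlerDifferential.D V R (x' i + y i)))
    (x' : Fin d → R) (hx' : (∃ a : R, Ideal.span {a} ⊔ Ideal.span {algebraMap V R ϖ} = ⊤ ∧
        ((algebraMap R (Localization.Away (a * algebraMap V R ϖ))).comp
          (MvPolynomial.aeval x' : MvPolynomial (Fin d) V →ₐ[V] R).toRingHom).Etale)) :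
    ∃ x : Fin d → R, (∃ a : R, Ideal.span {a} ⊔ Ideal.span {algebraMap V R ϖ} = ⊤ ∧
        ((algebraMap R (Localization.Away (a * algebraMap V R ϖ))).comp
          (MvPolynomial.aeval x : MvPolynomial (Fin d) V →ₐ[V] R).toRingHom).Etale) ∧
      (MvPolynomial.aeval (fun i => (1 : IsLocalRing.ResidueField V) ⊗ₜ[V] x i) :
          MvPolynomial (Fin d) (IsLocalRing.ResidueField V) →ₐ[IsLocalRing.ResidueField V]
            IsLocalRing.ResidueField V ⊗[V] R).toRingHom.Finite ∧
      (MvPolynomial.aeval (fun i => (1 : FractionRing V) ⊗ₜ[V] x i) :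
          MvPolynomial (Fin d) (FractionRing V) →ₐ[FractionRing V]
            FractionRing V ⊗[V] R).toRingHom.Finite := by
  have hR := (HasRingHomProperty.Spec_iff (P := @SmoothOfRelativeDimension d)).mp hsm
  rw [CommRingCat.hom_ofHom] at hR
  obtain ⟨hd1, hd2⟩ := FibDimA.fibre_dims V R d hR
  obtain ⟨n, hn⟩ := (eta_iff V ϖ hϖ p R d hsm x').1 hx'
  obtain ⟨y, hy, hf1, hf2⟩ := h79 hd1 hd2 x' (p ^ (n + 1))
    (Nat.one_le_pow _ _ (Fact.out : p.Prime).pos)
  have hn' := h84 n x' hn y hy
  exact ⟨fun i => x' i + y i, (eta_iff V ϖ hϖ p R d hsm (fun i => x' i + y i)).2 ⟨n, hn'⟩,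
    hf1, hf2⟩

end Main

end Groth.Agent.H9.EtaFinA
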