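import Mathlib

/-! Helper9: Jacobi formula for the derivative of a determinant of a polynomial matrix -/

namespace Groth.Agent.H9.Jac

open Polynomial Matrix

universe u v

variable {R : Type u} [CommRing R] {m : Type v} [Fintype m] [DecidableEq m]

/-- Jacobi's formula, column form -/
theorem derivative_det (N : Matrix m m R[X]) :
    derivative N.det = ∑ j, (N.updateCol j (fun i => derivative (N i j))).det := by
  simp only [Matrix.det_apply', map_sum]
  rw [Finset.sum_comm]
  refine Finset.sum_congr rfl (fun σ _ => ?_)
  rw [derivative_intCast_mul, derivative_prod_finset, Finset.mul_sum]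
  refine Finset.sum_congr rfl (fun j _ => ?_)
  have h1 : ∏ i, (N.updateCol j (fun i => derivative (N i j))) (σ i) i
      = (∏ b ∈ Finset.univ.erase j, N (σ b) b) * derivative (N (σ j) j) := by
    rw [← Finset.mul_prod_erase Finset.univ
      (fun i => (N.updateCol j (fun i => derivative (N i j))) (σ i) i) (Finset.mem_univ j), mul_comm]
    congr 1
    · refine Finset.prod_congr rfl (fun i hi => ?_)
      have hij : i ≠ j := Finset.ne_of_mem_erase hi
      exact Matrix.updateCol_ne hij
    · exact Matrix.updateCol_self
  rw [h1]

/-- Jacobi's formula, trace form -/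
theorem derivative_det_eq_trace (N : Matrix m m R[X]) :
    derivative N.det = (N.adjugate * N.map (derivative : R[X] → R[X])).trace := by
  rw [derivative_det, Matrix.trace]
  refine Finset.sum_congr rfl (fun j _ => ?_)
  rw [← Matrix.cramer_apply, Matrix.cramer_eq_adjugate_mulVec, Matrix.diag_apply, Matrix.mul_apply]
  rfl

end Groth.Agent.H9.Jac
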