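import Mathlib
import Groth.Agent.Lib.Helper9.Misc.Jac1

/-! Helper9: logarithmic derivative of det(1 - XM) -/

namespace Groth.Agent.H9.Jac

open Polynomial Matrix

universe u v

variable {R : Type u} [CommRing R] {m : Type v} [Fintype m] [DecidableEq m]
variable (M : Matrix m m R)

theorem derivative_charpolyRev :
    derivative M.charpolyRev = -((1 - (X : R[X]) • M.map C).adjugate * M.map C).trace := by
  rw [Matrix.charpolyRev, derivative_det_eq_trace]
  have : (1 - (X : R[X]) • M.map C).map (derivative : R[X] → R[X]) = - M.map C := by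
    ext i j
    by_cases hij : i = j
    · subst hij
      simp
    · simp [hij]
  rw [this, Matrix.mul_neg, Matrix.trace_neg]

/-- geometric series matrix `∑ Mⁿ Xⁿ` -/
noncomputable def G : Matrix m m (PowerSeries R) :=
  Matrix.of fun i j => PowerSeries.mk fun n => (M ^ n) i j

/-- `1 - X M` over power series -/
noncomputable def Nh : Matrix m m (PowerSeries R) :=
  1 - (PowerSeries.X : PowerSeries R) • M.map (PowerSeries.C)

theorem Nh_mul_G : Nh M * G M = 1 := by
  ext i j : 1
  ext n
  rw [Nh, Matrix.sub_mul, Matrix.one_mul, Matrix.sub_apply, map_sub, Matrix.smul_mul,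
    Matrix.smul_apply, smul_eq_mul]
  cases n with
  | zero =>
    rw [PowerSeries.coeff_zero_X_mul, sub_zero]
    simp [G, Matrix.one_apply]
  | succ n =>
    rw [PowerSeries.coeff_succ_X_mul, Matrix.mul_apply, map_sum]
    have h1 : ∀ k, PowerSeries.coeff n ((M.map (PowerSeries.C (R := R))) i k * G M k j)
        = M i k * (M ^ n) k j := by
      intro k
      simp [G, PowerSeries.coeff_C_mul]
    simp only [h1]
    rw [← Matrix.mul_apply, ← pow_succ']
    have h2 : PowerSeries.coeff (n + 1) ((1 : Matrix m m (PowerSeries R)) i j) = 0 := by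
      by_cases hij : i = j
      · subst hij
        simp [PowerSeries.coeff_one]
      · simp [hij]
    rw [h2]
    simp [G]

theorem adjugate_Nh : (Nh M).adjugate = (Nh M).det • G M := by
  calc (Nh M).adjugate = (Nh M).adjugate * (Nh M * G M) := by rw [Nh_mul_G, Matrix.mul_one]
    _ = ((Nh M).adjugate * Nh M) * G M := by rw [Matrix.mul_assoc]
    _ = (Nh M).det • G M := by rw [Matrix.adjugate_mul, Matrix.smul_mul, Matrix.one_mul]

theorem X_mul_trace_G :
    (PowerSeries.X : PowerSeries R) * (G M * M.map (PowerSeries.C)).trace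
      = PowerSeries.mk (fun n => if n = 0 then 0 else (M ^ n).trace) := by
  ext n
  cases n with
  | zero => simp
  | succ n =>
    rw [PowerSeries.coeff_succ_X_mul, PowerSeries.coeff_mk, if_neg (Nat.succ_ne_zero n),
      Matrix.trace, map_sum, pow_succ, Matrix.trace]
    refine Finset.sum_congr rfl (fun i _ => ?_)
    rw [Matrix.diag_apply, Matrix.diag_apply, Matrix.mul_apply, Matrix.mul_apply, map_sum]
    refine Finset.sum_congr rfl (fun k _ => ?_)
    simp [G, mul_comm, PowerSeries.coeff_C_mul]

theorem Nh_eq :
    Nh M = (Polynomial.coeToPowerSeries.ringHom (R := R)).mapMatrix (1 - (X : R[X]) • M.map C) := by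
  ext i j : 1
  by_cases hij : i = j
  · subst hij
    simp [Nh]
    exact mul_comm _ _
  · simp [Nh, hij]
    exact mul_comm _ _

theorem main :
    ((-(X * derivative M.charpolyRev) : R[X]) : PowerSeries R) =
      (M.charpolyRev : PowerSeries R) *
        PowerSeries.mk (fun n => if n = 0 then 0 else (M ^ n).trace) := by
  set ι := (Polynomial.coeToPowerSeries.ringHom (R := R)) with hι
  have hdet : (M.charpolyRev : PowerSeries R) = (Nh M).det := by
    rw [Nh_eq, ← RingHom.map_det]
    rfl
  have hMC : ι.mapMatrix (M.map C) = M.map (PowerSeries.C) := by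
    ext i j : 1
    simp [hι]
  have h1 : ((derivative M.charpolyRev : R[X]) : PowerSeries R)
      = -((Nh M).adjugate * M.map (PowerSeries.C)).trace := by
    rw [derivative_charpolyRev]
    show ι (-((1 - (X : R[X]) • M.map C).adjugate * M.map C).trace) = _
    have htr : ∀ A : Matrix m m R[X], ι A.trace = (ι.mapMatrix A).trace := by
      intro A
      simp [Matrix.trace, map_sum]
    rw [map_neg, htr, map_mul, RingHom.map_adjugate, ← Nh_eq, hMC]
  rw [Polynomial.coe_neg, Polynomial.coe_mul, Polynomial.coe_X, h1, adjugate_Nh, ← hdet,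
    ← X_mul_trace_G, Matrix.smul_mul, Matrix.trace_smul, smul_eq_mul]
  ring

end Groth.Agent.H9.Jac
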