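import Mathlib
import Groth.Agent.Lib.Helper9.Misc.Jac2

/-! Helper9: det(1 - tM) = exp(-sum tr(M^m) t^m / m) -/

namespace Groth.Agent.H9.ExpDet

open PowerSeries

universe u v

variable {K : Type u} [Field K] [CharZero K]

/-- uniqueness for the ODE `f' = f T`, `f(0) = 0` -/
theorem ode_zero (f T : PowerSeries K) (h : derivative K f = f * T) (h0 : constantCoeff f = 0) :
    f = 0 := by
  ext n
  rw [map_zero]
  induction n using Nat.strong_induction_on with
  | _ n ih =>
    cases n with
    | zero => simpa using h0
    | succ n =>
      have h1 := congrArg (coeff n) h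
      rw [coeff_derivative, coeff_mul] at h1
      have h2 : ∑ p ∈ (Finset.HasAntidiagonal.antidiagonal n : Finset (ℕ × ℕ)), coeff p.1 f * coeff p.2 T = 0 := by
        refine Finset.sum_eq_zero (fun p hp => ?_)
        have : p.1 < n + 1 := by
          have := Finset.HasAntidiagonal.mem_antidiagonal.1 hp
          omega
        rw [ih p.1 this, zero_mul]
      rw [h2] at h1
      have h3 : ((n : K) + 1) ≠ 0 := by exact_mod_cast Nat.succ_ne_zero n
      exact (mul_eq_zero.1 h1).resolve_right h3

variable {n : Type v} [Fintype n] [DecidableEq n] (M : Matrix n n K)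

/-- the logarithm series -/
noncomputable def L : PowerSeries K := PowerSeries.mk fun m : ℕ => -(Matrix.trace (M ^ m)) / (m : K)

theorem constantCoeff_L : constantCoeff (L M) = 0 := by
  rw [← coeff_zero_eq_constantCoeff_apply, L, coeff_mk]
  simp

theorem hasSubst_L : HasSubst (L M) := HasSubst.of_constantCoeff_zero' (constantCoeff_L M)

theorem X_mul_derivative_L :
    (X : PowerSeries K) * derivative K (L M)
      = -PowerSeries.mk (fun m => if m = 0 then 0 else (M ^ m).trace) := by
  ext m
  cases m with
  | zero => simp
  | succ m =>
    rw [coeff_succ_X_mul, coeff_derivative, map_neg, coeff_mk, if_neg (Nat.succ_ne_zero m), L,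
      coeff_mk]
    have h3 : ((m : K) + 1) ≠ 0 := by exact_mod_cast Nat.succ_ne_zero m
    push_cast
    field_simp

theorem constantCoeff_E : constantCoeff ((exp K).subst (L M)) = 1 := by
  have h := constantCoeff_subst (hasSubst_L M) (exp K)
  rw [finsum_eq_single _ 0] at h
  · rw [show constantCoeff ((exp K).subst (L M)) = MvPowerSeries.constantCoeff ((exp K).subst (L M))
      from rfl, h]
    simp
  · intro d hd
    rw [map_pow]
    have : MvPowerSeries.constantCoeff (L M) = 0 := constantCoeff_L M
    rw [this, zero_pow hd, smul_zero]

theorem main :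
    ((M.charpolyRev : Polynomial K) : PowerSeries K) = (exp K).subst (L M) := by
  rw [← sub_eq_zero]
  apply ode_zero _ (derivative K (L M))
  · -- ODE
    have hE : derivative K ((exp K).subst (L M)) = (exp K).subst (L M) * derivative K (L M) := by
      rw [derivative_subst (hasSubst_L M), derivative_exp]
    have hP0 := Groth.Agent.H9.Jac.main M
    rw [Polynomial.coe_neg, Polynomial.coe_mul, Polynomial.coe_X, ← derivative_coe] at hP0
    have hP1 : (X : PowerSeries K) * derivative K ((M.charpolyRev : Polynomial K) : PowerSeries K)
        = X * (((M.charpolyRev : Polynomial K) : PowerSeries K) * derivative K (L M)) := by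
      rw [mul_left_comm, X_mul_derivative_L, mul_neg, ← hP0, neg_neg]
    have hP : derivative K ((M.charpolyRev : Polynomial K) : PowerSeries K)
        = ((M.charpolyRev : Polynomial K) : PowerSeries K) * derivative K (L M) := by
      ext m
      have := congrArg (coeff (m + 1)) hP1
      rwa [coeff_succ_X_mul, coeff_succ_X_mul] at this
    rw [map_sub, hE, hP, sub_mul]
  · rw [map_sub, constantCoeff_E, sub_eq_zero]
    rw [← coeff_zero_eq_constantCoeff_apply, Polynomial.coeff_coe, Polynomial.coeff_zero_eq_eval_zero,
      Matrix.eval_charpolyRev]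

end Groth.Agent.H9.ExpDet
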