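import Mathlib

/-! Helper9: Ext(Ga,Gm): coefficient ideals and approximate splittings -/

namespace Groth.Agent.H9.Ext

universe u

open MvPolynomial

set_option linter.unusedSectionVars false

variable {R : Type u} [CommRing R]

/-- the ideal of polynomials with coefficients in `K` -/
noncomputable def KI (K : Ideal R) (σ : Type*) : Ideal (MvPolynomial σ R) :=
  Ideal.map (C : R →+* MvPolynomial σ R) K

theorem mem_KI {K : Ideal R} {σ : Type*} {f : MvPolynomial σ R} :
    f ∈ KI K σ ↔ ∀ m, coeff m f ∈ K := MvPolynomial.mem_map_C_iff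

theorem KI_mono {K K' : Ideal R} (h : K ≤ K') (σ : Type*) : KI K σ ≤ KI K' σ :=
  Ideal.map_mono h

theorem C_mem_KI {K : Ideal R} {σ : Type*} {a : R} (ha : a ∈ K) : (C a : MvPolynomial σ R) ∈ KI K σ :=
  Ideal.mem_map_of_mem _ ha

theorem aeval_mem_KI {K : Ideal R} {σ τ : Type*} (g : σ → MvPolynomial τ R) {F : MvPolynomial σ R}
    (hF : F ∈ KI K σ) : aeval g F ∈ KI K τ := by
  have h1 : (KI K σ).map (aeval g : MvPolynomial σ R →ₐ[R] MvPolynomial τ R).toRingHom ≤ KI K τ := by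
    rw [KI, Ideal.map_map]
    apply Ideal.map_le_iff_le_comap.2
    intro a ha
    rw [Ideal.mem_comap]
    show (aeval g) (C a) ∈ KI K τ
    rw [aeval_C]
    exact C_mem_KI ha
  exact h1 (Ideal.mem_map_of_mem _ hF)

theorem paeval_mem_KI {K : Ideal R} {τ : Type*} (y : MvPolynomial τ R) {G : Polynomial R}
    (hG : ∀ n, G.coeff n ∈ K) : Polynomial.aeval y G ∈ KI K τ := by
  rw [Polynomial.aeval_eq_sum_range]
  refine Ideal.sum_mem _ (fun n _ => ?_)
  rw [Algebra.smul_def]
  exact Ideal.mul_mem_right _ _ (C_mem_KI (hG n))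

theorem KI_mul_zero {K : Ideal R} (hK : ∀ x ∈ K, ∀ y ∈ K, x * y = 0) {σ : Type*}
    {A B : MvPolynomial σ R} (hA : A ∈ KI K σ) (hB : B ∈ KI K σ) : A * B = 0 := by
  have hKK : K * K = ⊥ := by
    rw [eq_bot_iff, Ideal.mul_le]
    intro x hx y hy
    rw [hK x hx y hy]
    exact Ideal.zero_mem _
  have h1 : A * B ∈ KI K σ * KI K σ := Ideal.mul_mem_mul hA hB
  rw [KI, ← Ideal.map_mul, hKK, Ideal.map_bot] at h1
  exact h1

/-- evaluation maps -/
noncomputable def Af (f : Polynomial R) : MvPolynomial (Fin 2) R :=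
  Polynomial.aeval ((X 0 : MvPolynomial (Fin 2) R) + X 1) f

noncomputable def Df (f : Polynomial R) : MvPolynomial (Fin 2) R :=
  Polynomial.aeval (X 0 : MvPolynomial (Fin 2) R) f * Polynomial.aeval (X 1 : MvPolynomial (Fin 2) R) f

theorem Af_mul (f g : Polynomial R) : Af (f * g) = Af f * Af g := by simp [Af]
theorem Df_mul (f g : Polynomial R) : Df (f * g) = Df f * Df g := by simp [Df]; ring
theorem Af_one : Af (1 : Polynomial R) = 1 := by simp [Af]
theorem Df_one : Df (1 : Polynomial R) = 1 := by simp [Df]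

theorem isUnit_Af {f : Polynomial R} (hf : IsUnit f) : IsUnit (Af f) := hf.map (Polynomial.aeval _)
theorem isUnit_Df {f : Polynomial R} (hf : IsUnit f) : IsUnit (Df f) :=
  (hf.map (Polynomial.aeval _)).mul (hf.map (Polynomial.aeval _))

/-- approximate splitting modulo an ideal of the polynomial ring -/
def ASpl (J : Ideal (MvPolynomial (Fin 2) R)) (f : Polynomial R) (h : MvPolynomial (Fin 2) R) : Prop :=
  Af f - Df f * h ∈ J

theorem ASpl_mul {J : Ideal (MvPolynomial (Fin 2) R)} {f₁ f₂ : Polynomial R}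
    {h₁ h₂ : MvPolynomial (Fin 2) R} (H₁ : ASpl J f₁ h₁) (H₂ : ASpl J f₂ h₂) :
    ASpl J (f₁ * f₂) (h₁ * h₂) := by
  unfold ASpl at *
  rw [Af_mul, Df_mul]
  have : Af f₁ * Af f₂ - Df f₁ * Df f₂ * (h₁ * h₂)
      = Af f₁ * (Af f₂ - Df f₂ * h₂) + Df f₂ * h₂ * (Af f₁ - Df f₁ * h₁) := by ring
  rw [this]
  exact J.add_mem (J.mul_mem_left _ H₂) (J.mul_mem_left _ H₁)

theorem ASpl_one {J : Ideal (MvPolynomial (Fin 2) R)} : ASpl J (1 : Polynomial R) 1 := by
  unfold ASpl
  rw [Af_one, Df_one, mul_one, sub_self]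
  exact J.zero_mem

theorem ASpl_mono {J J' : Ideal (MvPolynomial (Fin 2) R)} (hJ : J ≤ J') {f : Polynomial R}
    {h : MvPolynomial (Fin 2) R} (H : ASpl J f h) : ASpl J' f h := hJ H

theorem ASpl_bot {f : Polynomial R} {h : MvPolynomial (Fin 2) R} :
    ASpl ⊥ f h ↔ Af f = Df f * h := by
  unfold ASpl
  rw [Ideal.mem_bot, sub_eq_zero]

theorem ASpl_prod {J : Ideal (MvPolynomial (Fin 2) R)} {ι : Type*} (s : Finset ι)
    (f : ι → Polynomial R) (h : ι → MvPolynomial (Fin 2) R) (H : ∀ i ∈ s, ASpl J (f i) (h i)) :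
    ASpl J (∏ i ∈ s, f i) (∏ i ∈ s, h i) := by
  classical
  induction s using Finset.induction_on with
  | empty => simpa using ASpl_one
  | insert a s ha ih =>
    rw [Finset.prod_insert ha, Finset.prod_insert ha]
    exact ASpl_mul (H a (Finset.mem_insert_self a s))
      (ih (fun i hi => H i (Finset.mem_insert_of_mem hi)))

end Groth.Agent.H9.Ext
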