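import Mathlib
import Groth.Agent.Lib.Helper9.Misc.Ext1

/-! Helper9: Ext(Ga,Gm): symmetric multiplicative cocycles, coboundaries, reduction step -/

namespace Groth.Agent.H9.Ext

universe u

open MvPolynomial

set_option linter.unusedSectionVars false

variable {R : Type u} [CommRing R]

/-- the four substitutions -/
noncomputable def T1 : MvPolynomial (Fin 2) R →ₐ[R] MvPolynomial (Fin 3) R :=
  aeval ![(X 0 : MvPolynomial (Fin 3) R), X 1 + X 2]
noncomputable def T2 : MvPolynomial (Fin 2) R →ₐ[R] MvPolynomial (Fin 3) R :=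
  aeval ![(X 1 : MvPolynomial (Fin 3) R), X 2]
noncomputable def T3 : MvPolynomial (Fin 2) R →ₐ[R] MvPolynomial (Fin 3) R :=
  aeval ![(X 0 : MvPolynomial (Fin 3) R) + X 1, X 2]
noncomputable def T4 : MvPolynomial (Fin 2) R →ₐ[R] MvPolynomial (Fin 3) R :=
  aeval ![(X 0 : MvPolynomial (Fin 3) R), X 1]
noncomputable def Sw : MvPolynomial (Fin 2) R →ₐ[R] MvPolynomial (Fin 2) R :=
  aeval ![(X 1 : MvPolynomial (Fin 2) R), X 0]

/-- symmetric multiplicative 2-cocycles -/
structure IsCoc (h : MvPolynomial (Fin 2) R) : Prop where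
  sym : Sw h = h
  coc : T2 h * T1 h = T3 h * T4 h

theorem IsCoc.one : IsCoc (1 : MvPolynomial (Fin 2) R) := ⟨map_one _, by simp⟩

theorem IsCoc.mul {h h' : MvPolynomial (Fin 2) R} (H : IsCoc h) (H' : IsCoc h') : IsCoc (h * h') := by
  constructor
  · rw [map_mul, H.sym, H'.sym]
  · rw [map_mul, map_mul, map_mul, map_mul]
    calc T2 h * T2 h' * (T1 h * T1 h') = (T2 h * T1 h) * (T2 h' * T1 h') := by ring
      _ = (T3 h * T4 h) * (T3 h' * T4 h') := by rw [H.coc, H'.coc]
      _ = T3 h * T3 h' * (T4 h * T4 h') := by ring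

theorem IsCoc.of_mul_eq_one {h h' : MvPolynomial (Fin 2) R} (H : IsCoc h) (hh : h * h' = 1) :
    IsCoc h' := by
  constructor
  · have h1 : h * Sw h' = 1 := by
      have := congrArg Sw hh
      rw [map_mul, map_one, H.sym] at this
      exact this
    calc Sw h' = (h' * h) * Sw h' := by rw [mul_comm h' h, hh, one_mul]
      _ = h' * (h * Sw h') := by ring
      _ = h' := by rw [h1, mul_one]
  · have e1 : (T2 h * T1 h) * (T2 h' * T1 h') = 1 := by
      calc (T2 h * T1 h) * (T2 h' * T1 h') = T2 (h * h') * T1 (h * h') := by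
            rw [map_mul, map_mul]; ring
        _ = 1 := by rw [hh, map_one, map_one, one_mul]
    have e2 : (T3 h * T4 h) * (T3 h' * T4 h') = 1 := by
      calc (T3 h * T4 h) * (T3 h' * T4 h') = T3 (h * h') * T4 (h * h') := by
            rw [map_mul, map_mul]; ring
        _ = 1 := by rw [hh, map_one, map_one, one_mul]
    calc T2 h' * T1 h' = (T2 h' * T1 h') * ((T3 h * T4 h) * (T3 h' * T4 h')) := by
          rw [e2, mul_one]
      _ = ((T2 h * T1 h) * (T2 h' * T1 h')) * (T3 h' * T4 h') := by rw [H.coc]; ring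
      _ = T3 h' * T4 h' := by rw [e1, one_mul]

section cob

variable (f : Polynomial R)

theorem Sw_Af : Sw (Af f) = Af f := by
  rw [Af, Sw, ← Polynomial.aeval_algHom_apply, map_add, aeval_X, aeval_X]
  simp only [Matrix.cons_val_zero, Matrix.cons_val_one]
  rw [add_comm]

theorem Sw_Df : Sw (Df f) = Df f := by
  rw [Df, Sw, map_mul, ← Polynomial.aeval_algHom_apply, ← Polynomial.aeval_algHom_apply, aeval_X,
    aeval_X]
  simp only [Matrix.cons_val_zero, Matrix.cons_val_one]
  rw [mul_comm]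

/-- evaluation of `f` at a three-variable polynomial -/
noncomputable def P3 (y : MvPolynomial (Fin 3) R) : MvPolynomial (Fin 3) R := Polynomial.aeval y f

theorem T_Af (g : Fin 2 → MvPolynomial (Fin 3) R) :
    aeval g (Af f) = P3 f (g 0 + g 1) := by
  rw [Af, P3, ← Polynomial.aeval_algHom_apply, map_add, aeval_X, aeval_X]

theorem T_Df (g : Fin 2 → MvPolynomial (Fin 3) R) :
    aeval g (Df f) = P3 f (g 0) * P3 f (g 1) := by
  rw [Df, P3, P3, map_mul, ← Polynomial.aeval_algHom_apply, ← Polynomial.aeval_algHom_apply,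
    aeval_X, aeval_X]

theorem cob_isCoc {w : MvPolynomial (Fin 2) R} (hw : Df f * w = 1) : IsCoc (Af f * w) := by
  constructor
  · have h1 : Df f * Sw w = 1 := by
      have := congrArg Sw hw
      rw [map_mul, map_one, Sw_Df] at this
      exact this
    have h2 : Sw w = w := by
      calc Sw w = (w * Df f) * Sw w := by rw [mul_comm w, hw, one_mul]
        _ = w * (Df f * Sw w) := by ring
        _ = w := by rw [h1, mul_one]
    rw [map_mul, Sw_Af, h2]
  · have k1 : T1 (Df f) * T1 w = 1 := by rw [← map_mul, hw, map_one]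
    have k2 : T2 (Df f) * T2 w = 1 := by rw [← map_mul, hw, map_one]
    have k3 : T3 (Df f) * T3 w = 1 := by rw [← map_mul, hw, map_one]
    have k4 : T4 (Df f) * T4 w = 1 := by rw [← map_mul, hw, map_one]
    have key : T2 (Af f) * T1 (Af f) * (T3 (Df f) * T4 (Df f))
        = T3 (Af f) * T4 (Af f) * (T1 (Df f) * T2 (Df f)) := by
      simp only [T1, T2, T3, T4, T_Af, T_Df, Matrix.cons_val_zero, Matrix.cons_val_one]
      rw [← add_assoc (X 0 : MvPolynomial (Fin 3) R) (X 1) (X 2)]
      ring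
    rw [map_mul, map_mul, map_mul, map_mul]
    calc T2 (Af f) * T2 w * (T1 (Af f) * T1 w)
        = T2 (Af f) * T1 (Af f) * T1 w * T2 w * ((T3 (Df f) * T3 w) * (T4 (Df f) * T4 w)) := by
          rw [k3, k4]; ring
      _ = (T2 (Af f) * T1 (Af f) * (T3 (Df f) * T4 (Df f))) * (T1 w * T2 w * T3 w * T4 w) := by ring
      _ = (T3 (Af f) * T4 (Af f) * (T1 (Df f) * T2 (Df f))) * (T1 w * T2 w * T3 w * T4 w) := by
          rw [key]
      _ = T3 (Af f) * T4 (Af f) * T3 w * T4 w * ((T1 (Df f) * T1 w) * (T2 (Df f) * T2 w)) := by ring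
      _ = T3 (Af f) * T3 w * (T4 (Af f) * T4 w) := by rw [k1, k2]; ring

/-- the reduction step -/
theorem reduce (hf : IsUnit f) {h : MvPolynomial (Fin 2) R} (H : IsCoc h) :
    ∃ h'' w' : MvPolynomial (Fin 2) R, IsCoc h'' ∧ Af f * w' = 1 ∧
      h'' - 1 = -((Af f - Df f * h) * w') ∧
      ∀ (J : Ideal (MvPolynomial (Fin 2) R)) (φ : Polynomial R), ASpl J φ h'' → ASpl J (f * φ) h := by
  obtain ⟨w, hw⟩ := (isUnit_Df hf).exists_right_inv
  obtain ⟨w', hw'⟩ := (isUnit_Af hf).exists_right_inv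
  have hcob := cob_isCoc f hw
  have hinv : (Af f * w) * (Df f * w') = 1 := by
    calc (Af f * w) * (Df f * w') = (Af f * w') * (Df f * w) := by ring
      _ = 1 := by rw [hw, hw', one_mul]
  have hcob' : IsCoc (Df f * w') := hcob.of_mul_eq_one hinv
  refine ⟨h * (Df f * w'), w', H.mul hcob', hw', ?_, ?_⟩
  · have : h * (Df f * w') - 1 = h * (Df f * w') - Af f * w' := by rw [hw']
    rw [this]
    ring
  · intro J φ hφ
    unfold ASpl at *
    rw [Af_mul, Df_mul]
    have : Af f * Af φ - Df f * Df φ * h = Af f * (Af φ - Df φ * (h * (Df f * w'))) := by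
      have e : Af f * (Df φ * (h * (Df f * w'))) = Df f * Df φ * h * (Af f * w') := by ring
      rw [mul_sub, e, hw', mul_one]
    rw [this]
    exact J.mul_mem_left _ hφ

end cob

end Groth.Agent.H9.Ext
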