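import Mathlib

/-! Helper9: arithmetic lemmas for the Lazard symmetric cocycle lemma in characteristic p -/

namespace Groth.Agent.H9.Laz

universe u

set_option linter.unusedSectionVars false

variable {R : Type u} [CommRing R] (p : ℕ) [hp : Fact p.Prime]

theorem cast_eq_of_modEq (hp0 : (p : R) = 0) {a b : ℕ} (h : a ≡ b [MOD p]) : (a : R) = (b : R) := by
  have ha : (a : R) = ((a % p : ℕ) : R) := by
    conv_lhs => rw [← Nat.div_add_mod a p]
    rw [Nat.cast_add, Nat.cast_mul, hp0, zero_mul, zero_add]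
  have hb : (b : R) = ((b % p : ℕ) : R) := by
    conv_lhs => rw [← Nat.div_add_mod b p]
    rw [Nat.cast_add, Nat.cast_mul, hp0, zero_mul, zero_add]
  rw [ha, hb, h]

theorem isUnit_cast (hp0 : (p : R) = 0) {m : ℕ} (h : ¬ p ∣ m) : IsUnit (m : R) := by
  have hcop : Nat.Coprime m p := ((Nat.Prime.coprime_iff_not_dvd hp.out).2 h).symm
  have hc : IsCoprime (m : ℤ) (p : ℤ) := Nat.isCoprime_iff_coprime.2 hcop
  obtain ⟨u, v, huv⟩ := hc
  have h1 : ((u * m + v * p : ℤ) : R) = 1 := by rw [huv]; simp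
  push_cast at h1
  rw [hp0, mul_zero, add_zero] at h1
  exact IsUnit.of_mul_eq_one _ (by rw [mul_comm]; exact h1)

theorem mul_choose_eq {n i : ℕ} (hi : 0 < i) : i * n.choose i = n * (n - 1).choose (i - 1) := by
  rcases Nat.eq_zero_or_pos n with hn | hn
  · subst hn
    rw [Nat.choose_eq_zero_of_lt hi]
    simp
  obtain ⟨i, rfl⟩ := Nat.exists_eq_succ_of_ne_zero hi.ne'
  obtain ⟨n, rfl⟩ := Nat.exists_eq_succ_of_ne_zero hn.ne'
  have := Nat.add_one_mul_choose_eq n i
  simp only [Nat.succ_eq_add_one, Nat.add_sub_cancel]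
  linarith

theorem mul_choose_div {i : ℕ} (hi : 0 < i) (hip : i < p) :
    i * (p.choose i / p) = (p - 1).choose (i - 1) := by
  have h1 : p ∣ p.choose i := hp.out.dvd_choose_self hi.ne' hip
  have h2 := mul_choose_eq (n := p) hi
  obtain ⟨c, hc⟩ := h1
  have hpp : 0 < p := hp.out.pos
  rw [hc, Nat.mul_div_cancel_left _ hpp]
  rw [hc] at h2
  have : p * (i * c) = p * (p - 1).choose (i - 1) := by rw [← h2]; ring
  exact Nat.eq_of_mul_eq_mul_left hpp this

theorem cast_choose_mul_mul (hp0 : (p : R) = 0) (a b : ℕ) :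
    ((p * a).choose (p * b) : R) = (a.choose b : R) :=
  cast_eq_of_modEq p hp0 Choose.choose_mul_mul_modEq_choose_nat

theorem cast_choose_mul_of_not_dvd (hp0 : (p : R) = 0) (a : ℕ) {i : ℕ} (hi : ¬ p ∣ i) :
    ((p * a).choose i : R) = 0 := by
  have h := Choose.choose_modEq_choose_mod_mul_choose_div_nat (p := p) (n := p * a) (k := i)
  rw [cast_eq_of_modEq p hp0 h, Nat.mul_mod_right]
  have : 0 < i % p := Nat.pos_of_ne_zero (fun h0 => hi (Nat.dvd_of_mod_eq_zero h0))
  rw [Nat.choose_eq_zero_of_lt this]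
  simp

theorem cast_choose_pred (hp0 : (p : R) = 0) {a : ℕ} (ha : 0 < a) :
    ((p * a - 1).choose (p - 1) : R) = 1 := by
  have h := Choose.choose_modEq_choose_mod_mul_choose_div_nat (p := p) (n := p * a - 1) (k := p - 1)
  rw [cast_eq_of_modEq p hp0 h]
  have hpp : 0 < p := hp.out.pos
  have h1 : p * a - 1 = (p - 1) + p * (a - 1) := by
    obtain ⟨a, rfl⟩ := Nat.exists_eq_succ_of_ne_zero ha.ne'
    have : p * (a + 1) = p * a + p := by ring
    simp only [Nat.succ_eq_add_one, Nat.add_sub_cancel]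
    omega
  have h2 : (p * a - 1) % p = p - 1 := by
    rw [h1, Nat.add_mul_mod_self_left, Nat.mod_eq_of_lt (by omega)]
  have h3 : (p - 1) % p = p - 1 := Nat.mod_eq_of_lt (by omega)
  have h4 : (p - 1) / p = 0 := Nat.div_eq_of_lt (by omega)
  rw [h2, h3, h4, Nat.choose_self, Nat.choose_zero_right]
  simp

end Groth.Agent.H9.Laz
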