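import Mathlib
import Groth.Agent.Lib.Helper9.Misc.Laz1

/-! Helper9: Lazard symmetric cocycle lemma in char p, one homogeneous degree at a time -/

namespace Groth.Agent.H9.Laz

universe u

set_option linter.unusedSectionVars false

variable {R : Type u} [CommRing R] (p : ℕ) [hp : Fact p.Prime]

/-- `n` is a positive power of `p` -/
def IsPP (n : ℕ) : Prop := ∃ s : ℕ, n = p ^ (s + 1)

open Classical in
/-- coefficient pattern of `S(X^{p^s}, Y^{p^s})` in degree `n` -/
noncomputable def T (n i : ℕ) : ℕ :=
  if IsPP p n ∧ (n / p) ∣ i then p.choose (i / (n / p)) / p else 0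

/-- the slice data: a symmetric solution of the cocycle relations in degree `n` -/
structure Slice (n : ℕ) (α : ℕ → R) : Prop where
  sym : ∀ i, 0 < i → i < n → α i = α (n - i)
  rel : ∀ i j k, 0 < i → 0 < k → i + j + k = n →
    ((j + k).choose j : R) * α i = ((i + j).choose i : R) * α (i + j)

variable {p}

theorem Slice.first (hp0 : (p : R) = 0) {n : ℕ} {α : ℕ → R} (h : Slice n α) {i : ℕ}
    (hi : 0 < i) (hin : i < n) : (i : R) * α i = ((n - 1).choose (i - 1) : R) * α 1 := by
  have := h.rel 1 (i - 1) (n - i) Nat.one_pos (by omega) (by omega)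
  have e1 : i - 1 + (n - i) = n - 1 := by omega
  have e2 : 1 + (i - 1) = i := by omega
  rw [e1, e2, Nat.choose_one_right] at this
  exact this.symm

theorem IsPP.dvd {n : ℕ} (h : IsPP p n) : p ∣ n := by
  obtain ⟨s, rfl⟩ := h
  exact ⟨p ^ s, by rw [pow_succ, mul_comm]⟩

theorem T_of_not_dvd {n : ℕ} (hn : ¬ p ∣ n) (i : ℕ) : T p n i = 0 := by
  unfold T
  rw [if_neg]
  rintro ⟨h, _⟩
  exact hn h.dvd

theorem T_self (i : ℕ) : T p p i = p.choose i / p := by
  unfold T
  have hpp : 0 < p := hp.out.pos
  have h1 : p / p = 1 := Nat.div_self hpp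
  rw [if_pos, h1, Nat.div_one]
  exact ⟨⟨0, by simp⟩, by rw [h1]; exact one_dvd _⟩

theorem isPP_mul_iff {n' : ℕ} (hn' : 2 ≤ n') : IsPP p (p * n') ↔ IsPP p n' := by
  have hpp : 0 < p := hp.out.pos
  constructor
  · rintro ⟨s, hs⟩
    rw [pow_succ, mul_comm (p ^ s) p] at hs
    have h1 : n' = p ^ s := Nat.eq_of_mul_eq_mul_left hpp hs
    cases s with
    | zero => rw [pow_zero] at h1; omega
    | succ s => exact ⟨s, h1⟩
  · rintro ⟨s, hs⟩
    exact ⟨s + 1, by rw [hs, pow_succ _ (s + 1), mul_comm]⟩

theorem T_mul {n' : ℕ} (hn' : 2 ≤ n') (i' : ℕ) : T p (p * n') (p * i') = T p n' i' := by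
  have hpp : 0 < p := hp.out.pos
  unfold T
  rw [Nat.mul_div_cancel_left _ hpp]
  by_cases h : IsPP p n'
  · obtain ⟨s, hs⟩ := h
    have h2 : n' / p = p ^ s := by rw [hs, pow_succ, Nat.mul_div_cancel _ hpp]
    have h3 : n' = p * p ^ s := by rw [hs, pow_succ, mul_comm]
    have hiff : n' ∣ p * i' ↔ (n' / p) ∣ i' := by
      rw [h2, h3]
      exact Nat.mul_dvd_mul_iff_left hpp
    have hdiv : p * i' / n' = i' / (n' / p) := by
      rw [h2, h3, Nat.mul_div_mul_left _ _ hpp]
    by_cases hd : (n' / p) ∣ i'
    · rw [if_pos ⟨(isPP_mul_iff hn').2 ⟨s, hs⟩, hiff.2 hd⟩, if_pos ⟨⟨s, hs⟩, hd⟩, hdiv]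
    · rw [if_neg (fun hh => hd (hiff.1 hh.2)), if_neg (fun hh => hd hh.2)]
  · rw [if_neg (fun hh => h ((isPP_mul_iff hn').1 hh.1)), if_neg (fun hh => h hh.1)]

theorem T_mul_of_not_dvd {n' : ℕ} (hn' : 2 ≤ n') {i : ℕ} (hi : ¬ p ∣ i) : T p (p * n') i = 0 := by
  have hpp : 0 < p := hp.out.pos
  unfold T
  rw [if_neg]
  rintro ⟨h1, h2⟩
  rw [Nat.mul_div_cancel_left _ hpp] at h2
  have h3 := ((isPP_mul_iff hn').1 h1).dvd
  exact hi (h3.trans h2)

theorem slice_main (hp0 : (p : R) = 0) (I : Ideal R) :
    ∀ n : ℕ, ∀ α : ℕ → R, Slice n α → (∀ i, 0 < i → i < n → α i ∈ I) →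
      ∃ g ∈ I, ∃ r ∈ I, ∀ i, 0 < i → i < n →
        α i = (n.choose i : R) * g + (T p n i : R) * r := by
  intro n
  induction n using Nat.strong_induction_on with
  | _ n ih =>
  intro α h hI
  have hpp : 0 < p := hp.out.pos
  have hp2 : 2 ≤ p := hp.out.two_le
  rcases Nat.lt_or_ge n 2 with hn2 | hn2
  · exact ⟨0, I.zero_mem, 0, I.zero_mem, fun i h1 h2 => by omega⟩
  by_cases hpn : p ∣ n
  · by_cases hnp : n = p
    · -- case B
      have hnp' : p = n := hnp.symm
      subst hnp'
      refine ⟨0, I.zero_mem, α 1, hI 1 Nat.one_pos (by omega), ?_⟩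
      intro i hi hin
      have hpi : ¬ p ∣ i := Nat.not_dvd_of_pos_of_lt hi hin
      have hu := isUnit_cast p hp0 hpi
      have h1 := h.first hp0 hi hin
      have hc : ((i * (p.choose i / p) : ℕ) : R) = (((p - 1).choose (i - 1) : ℕ) : R) := by
        rw [mul_choose_div p hi hin]
      push_cast at hc
      rw [← hc, mul_assoc] at h1
      rw [T_self, mul_zero, zero_add]
      exact hu.mul_left_cancel h1
    · -- case C
      obtain ⟨n', rfl⟩ := hpn
      have hn' : 2 ≤ n' := by
        rcases Nat.lt_or_ge n' 2 with h2 | h2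
        · interval_cases n'
          · omega
          · exact absurd (mul_one p) hnp
        · exact h2
      have hlt : n' < p * n' := by nlinarith
      have hpltn : p < p * n' := by nlinarith
      -- α 1 = 0
      have hα1 : α 1 = 0 := by
        have := h.rel 1 (p - 1) (p * n' - p) Nat.one_pos (by omega) (by omega)
        have e1 : p - 1 + (p * n' - p) = p * n' - 1 := by omega
        have e2 : 1 + (p - 1) = p := by omega
        rw [e1, e2, Nat.choose_one_right, cast_choose_pred p hp0 (by omega), hp0, zero_mul,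
          one_mul] at this
        exact this
      have hzero : ∀ i, 0 < i → i < p * n' → ¬ p ∣ i → α i = 0 := by
        intro i hi hin hpi
        have h1 := h.first hp0 hi hin
        rw [hα1, mul_zero] at h1
        exact (isUnit_cast p hp0 hpi).mul_right_eq_zero.1 h1
      set β : ℕ → R := fun i' => α (p * i') with hβ
      have hβs : Slice n' β := by
        constructor
        · intro i' hi' hin'
          simp only [hβ]
          rw [h.sym (p * i') (by positivity) (by nlinarith), Nat.mul_sub]
        · intro i' j' k' hi' hk' hsum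
          simp only [hβ]
          have := h.rel (p * i') (p * j') (p * k') (by positivity) (by positivity)
            (by rw [← hsum]; ring)
          rw [← Nat.mul_add, ← Nat.mul_add, cast_choose_mul_mul p hp0,
            cast_choose_mul_mul p hp0] at this
          exact this
      have hβI : ∀ i', 0 < i' → i' < n' → β i' ∈ I := by
        intro i' hi' hin'
        exact hI (p * i') (by positivity) (by nlinarith)
      obtain ⟨g, hg, r, hr, hgr⟩ := ih n' hlt β hβs hβI
      refine ⟨g, hg, r, hr, ?_⟩
      intro i hi hin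
      by_cases hpi : p ∣ i
      · obtain ⟨i', rfl⟩ := hpi
        have hi' : 0 < i' := Nat.pos_of_mul_pos_left hi |> fun _ => by
          rcases Nat.eq_zero_or_pos i' with h0 | h0
          · subst h0; simp at hi
          · exact h0
        have hin' : i' < n' := Nat.lt_of_mul_lt_mul_left hin
        rw [cast_choose_mul_mul p hp0, T_mul hn']
        exact hgr i' hi' hin'
      · rw [hzero i hi hin hpi, cast_choose_mul_of_not_dvd p hp0 n' hpi, T_mul_of_not_dvd hn' hpi]
        simp
  · -- case A
    have hu := isUnit_cast p hp0 hpn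
    have hα1 : α 1 ∈ I := hI 1 Nat.one_pos (by omega)
    refine ⟨α 1 * Ring.inverse (n : R), I.mul_mem_right _ hα1, 0, I.zero_mem, ?_⟩
    have key : ∀ i, 0 < i → i < n → ¬ p ∣ i →
        α i = (n.choose i : R) * (α 1 * Ring.inverse (n : R)) := by
      intro i hi hin hpi
      have hiu := isUnit_cast p hp0 hpi
      have hc : ((i * n.choose i : ℕ) : R) = ((n * (n - 1).choose (i - 1) : ℕ) : R) := by
        rw [mul_choose_eq hi]
      push_cast at hc
      have e : (i : R) * ((n : R) * α i) = (i : R) * ((n.choose i : R) * α 1) := by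
        calc (i : R) * ((n : R) * α i) = (n : R) * ((i : R) * α i) := by ring
          _ = (n : R) * (((n - 1).choose (i - 1) : R) * α 1) := by rw [h.first hp0 hi hin]
          _ = ((n : R) * ((n - 1).choose (i - 1) : R)) * α 1 := by ring
          _ = ((i : R) * (n.choose i : R)) * α 1 := by rw [← hc]
          _ = (i : R) * ((n.choose i : R) * α 1) := by ring
      have e2 := hiu.mul_left_cancel e
      calc α i = (Ring.inverse (n : R) * (n : R)) * α i := by
            rw [Ring.inverse_mul_cancel _ hu, one_mul]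
        _ = Ring.inverse (n : R) * ((n : R) * α i) := by ring
        _ = Ring.inverse (n : R) * ((n.choose i : R) * α 1) := by rw [e2]
        _ = (n.choose i : R) * (α 1 * Ring.inverse (n : R)) := by ring
    intro i hi hin
    rw [T_of_not_dvd hpn, Nat.cast_zero, zero_mul, add_zero]
    by_cases hpi : p ∣ i
    · have hpi' : ¬ p ∣ (n - i) := by
        intro hd
        apply hpn
        have : n = (n - i) + i := by omega
        rw [this]
        exact dvd_add hd hpi
      rw [h.sym i hi hin, key (n - i) (by omega) (by omega) hpi', Nat.choose_symm hin.le]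
    · exact key i hi hin hpi

end Groth.Agent.H9.Laz
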