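import Mathlib

/-! Helper9: coefficient extraction for two-variable polynomials under the cocycle substitutions -/

namespace Groth.Agent.H9.Laz

universe u

open MvPolynomial

variable {R : Type u} [CommRing R]

/-- exponent vector in two variables -/
noncomputable def e2 (i j : ℕ) : Fin 2 →₀ ℕ := Finsupp.single 0 i + Finsupp.single 1 j

/-- exponent vector in three variables -/
noncomputable def e3 (i j k : ℕ) : Fin 3 →₀ ℕ :=
  Finsupp.single 0 i + Finsupp.single 1 j + Finsupp.single 2 k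

@[simp] theorem e2_zero (i j : ℕ) : e2 i j 0 = i := by simp [e2]
@[simp] theorem e2_one (i j : ℕ) : e2 i j 1 = j := by simp [e2]
@[simp] theorem e3_zero (i j k : ℕ) : e3 i j k 0 = i := by simp [e3]
@[simp] theorem e3_one (i j k : ℕ) : e3 i j k 1 = j := by simp [e3]
@[simp] theorem e3_two (i j k : ℕ) : e3 i j k 2 = k := by simp [e3]

theorem eq_e2 (m : Fin 2 →₀ ℕ) : m = e2 (m 0) (m 1) := by
  ext x
  fin_cases x <;> simp

theorem eq_e3 (m : Fin 3 →₀ ℕ) : m = e3 (m 0) (m 1) (m 2) := by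
  ext x
  fin_cases x <;> simp

theorem e2_inj {a b i j : ℕ} : e2 a b = e2 i j ↔ a = i ∧ b = j := by
  constructor
  · intro h
    have h0 := congrArg (fun m => m 0) h
    have h1 := congrArg (fun m => m 1) h
    simp at h0 h1
    exact ⟨h0, h1⟩
  · rintro ⟨rfl, rfl⟩; rfl

theorem e3_inj {a b c i j k : ℕ} : e3 a b c = e3 i j k ↔ a = i ∧ b = j ∧ c = k := by
  constructor
  · intro h
    have h0 := congrArg (fun m => m 0) h
    have h1 := congrArg (fun m => m 1) h
    have h2 := congrArg (fun m => m 2) h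
    simp at h0 h1 h2
    exact ⟨h0, h1, h2⟩
  · rintro ⟨rfl, rfl, rfl⟩; rfl

theorem mon2 (a b : ℕ) :
    (X 0 : MvPolynomial (Fin 2) R) ^ a * X 1 ^ b = monomial (e2 a b) 1 := by
  rw [X_pow_eq_monomial, X_pow_eq_monomial, monomial_mul, one_mul]
  rfl

theorem mon3 (a b c : ℕ) :
    (X 0 : MvPolynomial (Fin 3) R) ^ a * X 1 ^ b * X 2 ^ c = monomial (e3 a b c) 1 := by
  rw [X_pow_eq_monomial, X_pow_eq_monomial, X_pow_eq_monomial, monomial_mul, monomial_mul, one_mul,
    one_mul]
  rfl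

theorem aeval_mon2 {A : Type*} [CommRing A] [Algebra R A] (g : Fin 2 → A) (a b : ℕ) :
    aeval g (monomial (e2 a b) (1 : R)) = g 0 ^ a * g 1 ^ b := by
  rw [← mon2, map_mul, map_pow, map_pow, aeval_X, aeval_X]

theorem lin_ext2 {f g : MvPolynomial (Fin 2) R →ₗ[R] R}
    (h : ∀ a b, f (monomial (e2 a b) 1) = g (monomial (e2 a b) 1)) : f = g := by
  apply MvPolynomial.linearMap_ext
  intro s
  apply LinearMap.ext_ring
  rw [eq_e2 s]
  exact h _ _

theorem natCast_eq_C (n : ℕ) {σ : Type*} : ((n : ℕ) : MvPolynomial σ R) = C (n : R) := by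
  simp

theorem coeff_sym (F : MvPolynomial (Fin 2) R) (i j : ℕ) :
    coeff (e2 i j) (aeval ![(X 1 : MvPolynomial (Fin 2) R), X 0] F) = coeff (e2 j i) F := by
  have := lin_ext2 (R := R)
    (f := (lcoeff R (e2 i j)) ∘ₗ (aeval ![(X 1 : MvPolynomial (Fin 2) R), X 0]).toLinearMap)
    (g := lcoeff R (e2 j i)) (fun a b => ?_)
  · exact LinearMap.congr_fun this F
  · simp only [LinearMap.comp_apply, AlgHom.toLinearMap_apply, lcoeff_apply, aeval_mon2,
      Matrix.cons_val_zero, Matrix.cons_val_one]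
    rw [mul_comm, mon2, coeff_monomial, coeff_monomial]
    by_cases h : a = j ∧ b = i
    · rw [if_pos (e2_inj.2 ⟨h.2, h.1⟩), if_pos (e2_inj.2 h)]
    · rw [if_neg (fun hh => h ⟨(e2_inj.1 hh).2, (e2_inj.1 hh).1⟩), if_neg (fun hh => h (e2_inj.1 hh))]

theorem coeff_T2 (F : MvPolynomial (Fin 2) R) (i j k : ℕ) :
    coeff (e3 i j k) (aeval ![(X 1 : MvPolynomial (Fin 3) R), X 2] F)
      = if i = 0 then coeff (e2 j k) F else 0 := by
  have := lin_ext2 (R := R)
    (f := (lcoeff R (e3 i j k)) ∘ₗ (aeval ![(X 1 : MvPolynomial (Fin 3) R), X 2]).toLinearMap)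
    (g := if i = 0 then lcoeff R (e2 j k) else 0) (fun a b => ?_)
  · have h2 := LinearMap.congr_fun this F
    by_cases hi : i = 0
    · simpa [hi] using h2
    · simpa [hi] using h2
  · simp only [LinearMap.comp_apply, AlgHom.toLinearMap_apply, lcoeff_apply, aeval_mon2,
      Matrix.cons_val_zero, Matrix.cons_val_one]
    have h1 : (X 1 : MvPolynomial (Fin 3) R) ^ a * X 2 ^ b = monomial (e3 0 a b) 1 := by
      rw [← mon3, pow_zero, one_mul]
    rw [h1, coeff_monomial]
    by_cases hi : i = 0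
    · rw [if_pos hi, lcoeff_apply, coeff_monomial]
      by_cases h : a = j ∧ b = k
      · rw [if_pos (e3_inj.2 ⟨hi.symm, h.1, h.2⟩), if_pos (e2_inj.2 h)]
      · rw [if_neg (fun hh => h ⟨(e3_inj.1 hh).2.1, (e3_inj.1 hh).2.2⟩),
          if_neg (fun hh => h (e2_inj.1 hh))]
    · rw [if_neg hi, if_neg (fun hh => hi (e3_inj.1 hh).1.symm)]
      rfl

theorem coeff_T4 (F : MvPolynomial (Fin 2) R) (i j k : ℕ) :
    coeff (e3 i j k) (aeval ![(X 0 : MvPolynomial (Fin 3) R), X 1] F)
      = if k = 0 then coeff (e2 i j) F else 0 := by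
  have := lin_ext2 (R := R)
    (f := (lcoeff R (e3 i j k)) ∘ₗ (aeval ![(X 0 : MvPolynomial (Fin 3) R), X 1]).toLinearMap)
    (g := if k = 0 then lcoeff R (e2 i j) else 0) (fun a b => ?_)
  · have h2 := LinearMap.congr_fun this F
    by_cases hk : k = 0
    · simpa [hk] using h2
    · simpa [hk] using h2
  · simp only [LinearMap.comp_apply, AlgHom.toLinearMap_apply, lcoeff_apply, aeval_mon2,
      Matrix.cons_val_zero, Matrix.cons_val_one]
    have h1 : (X 0 : MvPolynomial (Fin 3) R) ^ a * X 1 ^ b = monomial (e3 a b 0) 1 := by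
      rw [← mon3, pow_zero, mul_one]
    rw [h1, coeff_monomial]
    by_cases hk : k = 0
    · rw [if_pos hk, lcoeff_apply, coeff_monomial]
      by_cases h : a = i ∧ b = j
      · rw [if_pos (e3_inj.2 ⟨h.1, h.2, hk.symm⟩), if_pos (e2_inj.2 h)]
      · rw [if_neg (fun hh => h ⟨(e3_inj.1 hh).1, (e3_inj.1 hh).2.1⟩),
          if_neg (fun hh => h (e2_inj.1 hh))]
    · rw [if_neg hk, if_neg (fun hh => hk (e3_inj.1 hh).2.2.symm)]
      rfl

theorem coeff_T1 (F : MvPolynomial (Fin 2) R) (i j k : ℕ) :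
    coeff (e3 i j k) (aeval ![(X 0 : MvPolynomial (Fin 3) R), X 1 + X 2] F)
      = ((j + k).choose j : R) * coeff (e2 i (j + k)) F := by
  have := lin_ext2 (R := R)
    (f := (lcoeff R (e3 i j k)) ∘ₗ
      (aeval ![(X 0 : MvPolynomial (Fin 3) R), X 1 + X 2]).toLinearMap)
    (g := ((j + k).choose j : R) • lcoeff R (e2 i (j + k))) (fun a b => ?_)
  · exact LinearMap.congr_fun this F
  · simp only [LinearMap.comp_apply, AlgHom.toLinearMap_apply, lcoeff_apply, aeval_mon2,
      Matrix.cons_val_zero, Matrix.cons_val_one, LinearMap.smul_apply, smul_eq_mul]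
    rw [add_pow, Finset.mul_sum, coeff_sum, coeff_monomial]
    have hterm : ∀ l ∈ Finset.range (b + 1),
        coeff (e3 i j k) ((X 0 : MvPolynomial (Fin 3) R) ^ a *
          (X 1 ^ l * X 2 ^ (b - l) * ((b.choose l : ℕ) : MvPolynomial (Fin 3) R)))
        = if a = i ∧ l = j ∧ b - l = k then (b.choose l : R) else 0 := by
      intro l _
      rw [natCast_eq_C, ← mul_assoc, ← mul_assoc, mon3, mul_comm, C_mul_monomial, mul_one,
        coeff_monomial]
      by_cases h : a = i ∧ l = j ∧ b - l = k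
      · rw [if_pos (e3_inj.2 h), if_pos h]
      · rw [if_neg (fun hh => h (e3_inj.1 hh)), if_neg h]
    rw [Finset.sum_congr rfl hterm]
    by_cases h : a = i ∧ b = j + k
    · obtain ⟨rfl, rfl⟩ := h
      rw [if_pos rfl, mul_one, Finset.sum_eq_single j]
      · rw [if_pos ⟨rfl, rfl, by omega⟩]
      · intro l _ hl
        rw [if_neg (fun hh => hl hh.2.1)]
      · intro hj
        exact absurd (Finset.mem_range.2 (by omega)) hj
    · rw [if_neg (fun hh => h (e2_inj.1 hh)), mul_zero]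
      refine Finset.sum_eq_zero (fun l hl => ?_)
      rw [if_neg]
      rintro ⟨h1, h2, h3⟩
      have := Finset.mem_range.1 hl
      exact h ⟨h1, by omega⟩

theorem coeff_T3 (F : MvPolynomial (Fin 2) R) (i j k : ℕ) :
    coeff (e3 i j k) (aeval ![(X 0 : MvPolynomial (Fin 3) R) + X 1, X 2] F)
      = ((i + j).choose i : R) * coeff (e2 (i + j) k) F := by
  have := lin_ext2 (R := R)
    (f := (lcoeff R (e3 i j k)) ∘ₗ
      (aeval ![(X 0 : MvPolynomial (Fin 3) R) + X 1, X 2]).toLinearMap)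
    (g := ((i + j).choose i : R) • lcoeff R (e2 (i + j) k)) (fun a b => ?_)
  · exact LinearMap.congr_fun this F
  · simp only [LinearMap.comp_apply, AlgHom.toLinearMap_apply, lcoeff_apply, aeval_mon2,
      Matrix.cons_val_zero, Matrix.cons_val_one, LinearMap.smul_apply, smul_eq_mul]
    rw [add_pow, Finset.sum_mul, coeff_sum, coeff_monomial]
    have hterm : ∀ l ∈ Finset.range (a + 1),
        coeff (e3 i j k) ((X 0 : MvPolynomial (Fin 3) R) ^ l * X 1 ^ (a - l) *
          ((a.choose l : ℕ) : MvPolynomial (Fin 3) R) * X 2 ^ b)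
        = if l = i ∧ a - l = j ∧ b = k then (a.choose l : R) else 0 := by
      intro l _
      rw [natCast_eq_C, mul_right_comm, mon3, mul_comm, C_mul_monomial, mul_one, coeff_monomial]
      by_cases h : l = i ∧ a - l = j ∧ b = k
      · rw [if_pos (e3_inj.2 h), if_pos h]
      · rw [if_neg (fun hh => h (e3_inj.1 hh)), if_neg h]
    rw [Finset.sum_congr rfl hterm]
    by_cases h : a = i + j ∧ b = k
    · obtain ⟨rfl, rfl⟩ := h
      rw [if_pos rfl, mul_one, Finset.sum_eq_single i]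
      · rw [if_pos ⟨rfl, by omega, rfl⟩]
      · intro l _ hl
        rw [if_neg (fun hh => hl hh.1)]
      · intro hj
        exact absurd (Finset.mem_range.2 (by omega)) hj
    · rw [if_neg (fun hh => h (e2_inj.1 hh)), mul_zero]
      refine Finset.sum_eq_zero (fun l hl => ?_)
      rw [if_neg]
      rintro ⟨h1, h2, h3⟩
      have := Finset.mem_range.1 hl
      exact h ⟨by omega, h3⟩

end Groth.Agent.H9.Laz
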