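import Mathlib
import Groth.Agent.Lib.Helper9.Misc.Laz2
import Groth.Agent.Lib.Helper9.Misc.Laz3

/-! Helper9: coefficients of coboundaries and of S(X^q,Y^q) -/

namespace Groth.Agent.H9.Laz

universe u

open MvPolynomial

set_option linter.unusedSectionVars false

variable {R : Type u} [CommRing R]

theorem plin_ext {f g : Polynomial R →ₗ[R] R}
    (h : ∀ n, f (Polynomial.X ^ n) = g (Polynomial.X ^ n)) : f = g := by
  apply Polynomial.lhom_ext'
  intro n
  apply LinearMap.ext_ring
  simp only [LinearMap.comp_apply, Polynomial.monomial_one_right_eq_X_pow]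
  exact h n

theorem coeff_add_pow (n i j : ℕ) :
    coeff (e2 i j) (((X 0 : MvPolynomial (Fin 2) R) + X 1) ^ n)
      = if n = i + j then (n.choose i : R) else 0 := by
  rw [add_pow, coeff_sum]
  have hterm : ∀ l ∈ Finset.range (n + 1),
      coeff (e2 i j) ((X 0 : MvPolynomial (Fin 2) R) ^ l * X 1 ^ (n - l) *
        ((n.choose l : ℕ) : MvPolynomial (Fin 2) R))
      = if l = i ∧ n - l = j then (n.choose l : R) else 0 := by
    intro l _
    rw [natCast_eq_C, mon2, mul_comm, C_mul_monomial, mul_one, coeff_monomial]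
    by_cases h : l = i ∧ n - l = j
    · rw [if_pos (e2_inj.2 h), if_pos h]
    · rw [if_neg (fun hh => h (e2_inj.1 hh)), if_neg h]
  rw [Finset.sum_congr rfl hterm]
  by_cases h : n = i + j
  · subst h
    rw [if_pos rfl, Finset.sum_eq_single i]
    · rw [if_pos ⟨rfl, by omega⟩]
    · intro l _ hl
      rw [if_neg (fun hh => hl hh.1)]
    · intro hj
      exact absurd (Finset.mem_range.2 (by omega)) hj
  · rw [if_neg h]
    refine Finset.sum_eq_zero (fun l hl => ?_)
    rw [if_neg]
    rintro ⟨h1, h2⟩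
    have := Finset.mem_range.1 hl
    exact h (by omega)

theorem coeff_aeval_add (G : Polynomial R) (i j : ℕ) :
    coeff (e2 i j) (Polynomial.aeval ((X 0 : MvPolynomial (Fin 2) R) + X 1) G)
      = ((i + j).choose i : R) * G.coeff (i + j) := by
  have := plin_ext (R := R)
    (f := (lcoeff R (e2 i j)) ∘ₗ
      (Polynomial.aeval ((X 0 : MvPolynomial (Fin 2) R) + X 1)).toLinearMap)
    (g := ((i + j).choose i : R) • Polynomial.lcoeff R (i + j)) (fun n => ?_)
  · exact LinearMap.congr_fun this G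
  · simp only [LinearMap.comp_apply, AlgHom.toLinearMap_apply, lcoeff_apply, map_pow,
      Polynomial.aeval_X, LinearMap.smul_apply, Polynomial.lcoeff_apply, smul_eq_mul,
      Polynomial.coeff_X_pow]
    rw [coeff_add_pow]
    by_cases h : n = i + j
    · rw [if_pos h, if_pos h.symm, mul_one, h]
    · rw [if_neg h, if_neg (fun hh => h hh.symm), mul_zero]

theorem coeff_aeval_X0 (G : Polynomial R) (i j : ℕ) :
    coeff (e2 i j) (Polynomial.aeval (X 0 : MvPolynomial (Fin 2) R) G)
      = if j = 0 then G.coeff i else 0 := by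
  have := plin_ext (R := R)
    (f := (lcoeff R (e2 i j)) ∘ₗ
      (Polynomial.aeval (X 0 : MvPolynomial (Fin 2) R)).toLinearMap)
    (g := if j = 0 then Polynomial.lcoeff R i else 0) (fun n => ?_)
  · have h2 := LinearMap.congr_fun this G
    by_cases hj : j = 0
    · simpa [hj] using h2
    · simpa [hj] using h2
  · simp only [LinearMap.comp_apply, AlgHom.toLinearMap_apply, lcoeff_apply, map_pow,
      Polynomial.aeval_X]
    have h1 : (X 0 : MvPolynomial (Fin 2) R) ^ n = monomial (e2 n 0) 1 := by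
      rw [← mon2, pow_zero, mul_one]
    rw [h1, coeff_monomial]
    by_cases hj : j = 0
    · rw [if_pos hj, Polynomial.lcoeff_apply, Polynomial.coeff_X_pow]
      by_cases h : n = i
      · rw [if_pos (e2_inj.2 ⟨h, hj.symm⟩), if_pos h.symm]
      · rw [if_neg (fun hh => h (e2_inj.1 hh).1), if_neg (fun hh => h hh.symm)]
    · rw [if_neg hj, if_neg (fun hh => hj (e2_inj.1 hh).2.symm)]
      rfl

theorem coeff_aeval_X1 (G : Polynomial R) (i j : ℕ) :
    coeff (e2 i j) (Polynomial.aeval (X 1 : MvPolynomial (Fin 2) R) G)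
      = if i = 0 then G.coeff j else 0 := by
  have := plin_ext (R := R)
    (f := (lcoeff R (e2 i j)) ∘ₗ
      (Polynomial.aeval (X 1 : MvPolynomial (Fin 2) R)).toLinearMap)
    (g := if i = 0 then Polynomial.lcoeff R j else 0) (fun n => ?_)
  · have h2 := LinearMap.congr_fun this G
    by_cases hi : i = 0
    · simpa [hi] using h2
    · simpa [hi] using h2
  · simp only [LinearMap.comp_apply, AlgHom.toLinearMap_apply, lcoeff_apply, map_pow,
      Polynomial.aeval_X]
    have h1 : (X 1 : MvPolynomial (Fin 2) R) ^ n = monomial (e2 0 n) 1 := by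
      rw [← mon2, pow_zero, one_mul]
    rw [h1, coeff_monomial]
    by_cases hi : i = 0
    · rw [if_pos hi, Polynomial.lcoeff_apply, Polynomial.coeff_X_pow]
      by_cases h : n = j
      · rw [if_pos (e2_inj.2 ⟨hi.symm, h⟩), if_pos h.symm]
      · rw [if_neg (fun hh => h (e2_inj.1 hh).2), if_neg (fun hh => h hh.symm)]
    · rw [if_neg hi, if_neg (fun hh => hi (e2_inj.1 hh).1.symm)]
      rfl

variable (p : ℕ) [hp : Fact p.Prime]

variable (R) in
/-- the polynomial `S = ((X+Y)^p - X^p - Y^p)/p` reduced to `R` -/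
noncomputable def Sp : MvPolynomial (Fin 2) R :=
  ∑ j ∈ Finset.Ioo 0 p, C ((p.choose j / p : ℕ) : R) * X 0 ^ j * X 1 ^ (p - j)

theorem coeff_Sp (q i j : ℕ) :
    coeff (e2 i j) (aeval ![(X 0 : MvPolynomial (Fin 2) R) ^ q, X 1 ^ q] (Sp R p))
      = ∑ l ∈ Finset.Ioo 0 p,
          if q * l = i ∧ q * (p - l) = j then ((p.choose l / p : ℕ) : R) else 0 := by
  rw [Sp, map_sum, coeff_sum]
  refine Finset.sum_congr rfl (fun l _ => ?_)
  rw [map_mul, map_mul, map_pow, map_pow, aeval_X, aeval_X, aeval_C]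
  have e0 : (![(X 0 : MvPolynomial (Fin 2) R) ^ q, X 1 ^ q] : Fin 2 → MvPolynomial (Fin 2) R) 0
      = X 0 ^ q := rfl
  have e1 : (![(X 0 : MvPolynomial (Fin 2) R) ^ q, X 1 ^ q] : Fin 2 → MvPolynomial (Fin 2) R) 1
      = X 1 ^ q := rfl
  rw [e0, e1, ← pow_mul, ← pow_mul, mul_assoc, mon2]
  have : (algebraMap R (MvPolynomial (Fin 2) R)) ((p.choose l / p : ℕ) : R)
      = C ((p.choose l / p : ℕ) : R) := rfl
  rw [this, C_mul_monomial, mul_one, coeff_monomial]
  by_cases h : q * l = i ∧ q * (p - l) = j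
  · rw [if_pos (e2_inj.2 h), if_pos h]
  · rw [if_neg (fun hh => h (e2_inj.1 hh)), if_neg h]

theorem Ssum_zero_left (q j : ℕ) (hq : 0 < q) :
    (∑ l ∈ Finset.Ioo 0 p,
      if q * l = 0 ∧ q * (p - l) = j then ((p.choose l / p : ℕ) : R) else 0) = 0 := by
  refine Finset.sum_eq_zero (fun l hl => ?_)
  rw [if_neg]
  rintro ⟨h1, _⟩
  have := (Finset.mem_Ioo.1 hl).1
  rcases Nat.mul_eq_zero.1 h1 with h | h <;> omega

theorem Ssum_zero_right (q i : ℕ) (hq : 0 < q) :
    (∑ l ∈ Finset.Ioo 0 p,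
      if q * l = i ∧ q * (p - l) = 0 then ((p.choose l / p : ℕ) : R) else 0) = 0 := by
  refine Finset.sum_eq_zero (fun l hl => ?_)
  rw [if_neg]
  rintro ⟨_, h1⟩
  have := (Finset.mem_Ioo.1 hl).2
  rcases Nat.mul_eq_zero.1 h1 with h | h <;> omega

theorem Ssum_eq (s i j : ℕ) (hi : 0 < i) (hj : 0 < j) :
    (∑ l ∈ Finset.Ioo 0 p,
      if p ^ s * l = i ∧ p ^ s * (p - l) = j then ((p.choose l / p : ℕ) : R) else 0)
      = if i + j = p ^ (s + 1) then ((T p (i + j) i : ℕ) : R) else 0 := by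
  have hpp : 0 < p := hp.out.pos
  have hq : 0 < p ^ s := pow_pos hpp s
  by_cases h : i + j = p ^ (s + 1)
  · rw [if_pos h]
    have hnp : (i + j) / p = p ^ s := by rw [h, pow_succ, Nat.mul_div_cancel _ hpp]
    have hpp' : IsPP p (i + j) := ⟨s, h⟩
    unfold T
    rw [hnp]
    by_cases hd : p ^ s ∣ i
    · obtain ⟨l₀, rfl⟩ := hd
      have hl₀ : 0 < l₀ := by
        rcases Nat.eq_zero_or_pos l₀ with h0 | h0
        · subst h0; simp at hi
        · exact h0
      have hl₀p : l₀ < p := by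
        have : p ^ s * l₀ < p ^ s * p := by rw [← pow_succ]; omega
        exact Nat.lt_of_mul_lt_mul_left this
      have hj' : p ^ s * (p - l₀) = j := by
        rw [Nat.mul_sub, ← pow_succ]; omega
      rw [if_pos ⟨hpp', dvd_mul_right _ _⟩, Nat.mul_div_cancel_left _ hq,
        Finset.sum_eq_single l₀]
      · rw [if_pos ⟨rfl, hj'⟩]
      · intro l _ hl
        rw [if_neg]
        rintro ⟨h1, _⟩
        exact hl (Nat.eq_of_mul_eq_mul_left hq h1)
      · intro hl
        exact absurd (Finset.mem_Ioo.2 ⟨hl₀, hl₀p⟩) hl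
    · rw [if_neg (fun hh => hd hh.2)]
      rw [Nat.cast_zero]
      refine Finset.sum_eq_zero (fun l _ => ?_)
      rw [if_neg]
      rintro ⟨h1, _⟩
      exact hd ⟨l, h1.symm⟩
  · rw [if_neg h]
    refine Finset.sum_eq_zero (fun l hl => ?_)
    rw [if_neg]
    rintro ⟨h1, h2⟩
    apply h
    have := (Finset.mem_Ioo.1 hl).2
    rw [← h1, ← h2, ← Nat.mul_add, pow_succ]
    congr 1
    omega

end Groth.Agent.H9.Laz
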