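import Mathlib
import Groth.Agent.Lib.Helper9.Misc.Laz4

/-! Helper9: Lazard symmetric cocycle lemma in char p, forward direction -/

namespace Groth.Agent.H9.Laz

universe u

open MvPolynomial

set_option linter.unusedSectionVars false

variable {R : Type u} [CommRing R] (p : ℕ) [hp : Fact p.Prime]

section fwd

variable (F : MvPolynomial (Fin 2) R)
  (hsym : aeval ![(X 1 : MvPolynomial (Fin 2) R), X 0] F = F)
  (hcoc : aeval ![(X 0 : MvPolynomial (Fin 3) R), X 1 + X 2] F
          + aeval ![(X 1 : MvPolynomial (Fin 3) R), X 2] F
          - aeval ![(X 0 : MvPolynomial (Fin 3) R) + X 1, X 2] F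
          - aeval ![(X 0 : MvPolynomial (Fin 3) R), X 1] F = 0)

include hsym in
theorem a_symm (i j : ℕ) : coeff (e2 i j) F = coeff (e2 j i) F := by
  have := congrArg (coeff (e2 j i)) hsym
  rw [coeff_sym] at this
  exact this

include hcoc in
theorem a_rel (i j k : ℕ) :
    ((j + k).choose j : R) * coeff (e2 i (j + k)) F + (if i = 0 then coeff (e2 j k) F else 0)
      - ((i + j).choose i : R) * coeff (e2 (i + j) k) F
      - (if k = 0 then coeff (e2 i j) F else 0) = 0 := by
  have := congrArg (coeff (e3 i j k)) hcoc
  rw [coeff_sub, coeff_sub, coeff_add, coeff_T1, coeff_T2, coeff_T3, coeff_T4, coeff_zero] at this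
  exact this

include hcoc in
theorem a_zero_left {k : ℕ} (hk : 0 < k) : coeff (e2 0 k) F = 0 := by
  have := a_rel F hcoc 0 0 k
  simp only [zero_add, Nat.choose_zero_right, Nat.cast_one, one_mul, if_true,
    Nat.choose_self, if_neg hk.ne'] at this
  linear_combination this

include hsym hcoc in
theorem a_zero_right {k : ℕ} (hk : 0 < k) : coeff (e2 k 0) F = 0 := by
  rw [a_symm F hsym]
  exact a_zero_left F hcoc hk

include hsym hcoc in
theorem slice_of (n : ℕ) : Slice n (fun i => coeff (e2 i (n - i)) F) := by
  constructor
  · intro i hi hin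
    show coeff (e2 i (n - i)) F = coeff (e2 (n - i) (n - (n - i))) F
    rw [a_symm F hsym]
    congr 2
    omega
  · intro i j k hi hk hsum
    show ((j + k).choose j : R) * coeff (e2 i (n - i)) F
      = ((i + j).choose i : R) * coeff (e2 (i + j) (n - (i + j))) F
    have := a_rel F hcoc i j k
    rw [if_neg hi.ne', if_neg hk.ne'] at this
    have e1 : n - i = j + k := by omega
    have e2' : n - (i + j) = k := by omega
    rw [e1, e2']
    linear_combination this

theorem exists_bound : ∃ D : ℕ, ∀ i j, D ≤ i + j → coeff (e2 i j) F = 0 := by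
  refine ⟨F.support.sup (fun m => m 0 + m 1) + 1, ?_⟩
  intro i j hD
  by_contra hne
  have hmem : e2 i j ∈ F.support := mem_support_iff.2 hne
  have := Finset.le_sup (f := fun m : Fin 2 →₀ ℕ => m 0 + m 1) hmem
  simp only [e2_zero, e2_one] at this
  omega

include hsym hcoc in
theorem forward (hp0 : (p : R) = 0) :
    ∃ (G : Polynomial R) (N : ℕ) (r : ℕ → R),
      (∀ n, G.coeff n ∈ Ideal.span (Set.range (fun m => coeff m F))) ∧
      (∀ s, r s ∈ Ideal.span (Set.range (fun m => coeff m F))) ∧
      F = Polynomial.aeval ((X 0 : MvPolynomial (Fin 2) R) + X 1) G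
            - Polynomial.aeval (X 0 : MvPolynomial (Fin 2) R) G
            - Polynomial.aeval (X 1 : MvPolynomial (Fin 2) R) G
          + ∑ s ∈ Finset.range N, C (r s) *
              aeval ![(X 0 : MvPolynomial (Fin 2) R) ^ p ^ s, X 1 ^ p ^ s] (Sp R p) := by
  classical
  have hpp : 0 < p := hp.out.pos
  have hp2 : 2 ≤ p := hp.out.two_le
  set J : Ideal R := Ideal.span (Set.range (fun m => coeff m F)) with hJ
  obtain ⟨D, hD⟩ := exists_bound F
  set a : ℕ → ℕ → R := fun i j => coeff (e2 i j) F with ha
  -- slices
  let I : ℕ → Ideal R := fun n => Ideal.span (Set.range (fun i => a i (n - i)))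
  have hIJ : ∀ n, I n ≤ J := by
    intro n
    apply Ideal.span_mono
    rintro _ ⟨i, rfl⟩
    exact ⟨e2 i (n - i), rfl⟩
  have hIbot : ∀ n, D ≤ n → I n = ⊥ := by
    intro n hn
    rw [Ideal.span_eq_bot]
    rintro _ ⟨i, rfl⟩
    exact hD i (n - i) (by omega)
  have hsl : ∀ n, ∃ g ∈ I n, ∃ r ∈ I n, ∀ i, 0 < i → i < n →
      a i (n - i) = (n.choose i : R) * g + (T p n i : R) * r := fun n =>
    slice_main hp0 (I n) n (fun i => a i (n - i)) (slice_of F hsym hcoc n)
      (fun i _ _ => Ideal.subset_span ⟨i, rfl⟩)
  choose g hg r hr hgr using hsl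
  have hg0 : ∀ n, D ≤ n → g n = 0 := by
    intro n hn
    have := hg n
    rw [hIbot n hn] at this
    exact this
  have hr0 : ∀ n, D ≤ n → r n = 0 := by
    intro n hn
    have := hr n
    rw [hIbot n hn] at this
    exact this
  set G : Polynomial R := Polynomial.C (-(a 0 0))
    + ∑ n ∈ Finset.range D, Polynomial.C (g (n + 2)) * Polynomial.X ^ (n + 2) with hGdef
  have hGc : ∀ m, G.coeff m = if m = 0 then -(a 0 0) else if 2 ≤ m then g m else 0 := by
    intro m
    rw [hGdef, Polynomial.coeff_add, Polynomial.coeff_C, Polynomial.finsetSum_coeff]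
    simp only [Polynomial.coeff_C_mul, Polynomial.coeff_X_pow]
    by_cases hm0 : m = 0
    · subst hm0
      rw [if_pos rfl, if_pos rfl, Finset.sum_eq_zero, add_zero]
      intro n _
      rw [if_neg (by omega), mul_zero]
    · rw [if_neg hm0, if_neg hm0, zero_add]
      by_cases hm2 : 2 ≤ m
      · rw [if_pos hm2]
        by_cases hmD : m - 2 < D
        · rw [Finset.sum_eq_single (m - 2)]
          · rw [if_pos (by omega), mul_one]
            congr 1
            omega
          · intro n _ hn
            rw [if_neg (by omega), mul_zero]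
          · intro hn
            exact absurd (Finset.mem_range.2 hmD) hn
        · rw [hg0 m (by omega)]
          refine Finset.sum_eq_zero (fun n hn => ?_)
          have := Finset.mem_range.1 hn
          rw [if_neg (by omega), mul_zero]
      · rw [if_neg hm2]
        refine Finset.sum_eq_zero (fun n _ => ?_)
        rw [if_neg (by omega), mul_zero]
  refine ⟨G, D, fun s => r (p ^ (s + 1)), ?_, ?_, ?_⟩
  · intro m
    rw [hGc]
    by_cases hm0 : m = 0
    · rw [if_pos hm0]
      exact J.neg_mem (Ideal.subset_span ⟨e2 0 0, rfl⟩)
    · rw [if_neg hm0]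
      by_cases hm2 : 2 ≤ m
      · rw [if_pos hm2]
        exact hIJ m (hg m)
      · rw [if_neg hm2]
        exact J.zero_mem
  · intro s
    exact hIJ _ (hr _)
  · apply MvPolynomial.ext
    intro m
    rw [eq_e2 m]
    set i := m 0
    set j := m 1
    rw [coeff_add, coeff_sub, coeff_sub, coeff_aeval_add, coeff_aeval_X0, coeff_aeval_X1, coeff_sum]
    simp only [coeff_C_mul, coeff_Sp]
    rcases Nat.eq_zero_or_pos i with hi | hi
    · rcases Nat.eq_zero_or_pos j with hj | hj
      · -- (0,0)
        rw [hi, hj]
        simp only [Nat.choose_self, Nat.cast_one, one_mul, if_true, add_zero]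
        rw [hGc 0, if_pos rfl]
        have : ∀ s ∈ Finset.range D, r (p ^ (s + 1)) *
            (∑ l ∈ Finset.Ioo 0 p, if p ^ s * l = 0 ∧ p ^ s * (p - l) = 0
              then ((p.choose l / p : ℕ) : R) else 0) = 0 := by
          intro s _
          rw [Ssum_zero_left p _ _ (pow_pos hpp s), mul_zero]
        rw [Finset.sum_eq_zero this]
        ring
      · -- (0,j)
        rw [hi]
        simp only [zero_add, Nat.choose_zero_right, Nat.cast_one, one_mul, if_true,
          if_neg hj.ne']
        have : ∀ s ∈ Finset.range D, r (p ^ (s + 1)) *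
            (∑ l ∈ Finset.Ioo 0 p, if p ^ s * l = 0 ∧ p ^ s * (p - l) = j
              then ((p.choose l / p : ℕ) : R) else 0) = 0 := by
          intro s _
          rw [Ssum_zero_left p _ _ (pow_pos hpp s), mul_zero]
        rw [Finset.sum_eq_zero this, a_zero_left F hcoc hj]
        ring
    · rcases Nat.eq_zero_or_pos j with hj | hj
      · -- (i,0)
        rw [hj]
        simp only [add_zero, Nat.choose_self, Nat.cast_one, one_mul, if_true, if_neg hi.ne']
        have : ∀ s ∈ Finset.range D, r (p ^ (s + 1)) *
            (∑ l ∈ Finset.Ioo 0 p, if p ^ s * l = i ∧ p ^ s * (p - l) = 0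
              then ((p.choose l / p : ℕ) : R) else 0) = 0 := by
          intro s _
          rw [Ssum_zero_right p _ _ (pow_pos hpp s), mul_zero]
        rw [Finset.sum_eq_zero this, a_zero_right F hsym hcoc hi]
        ring
      · -- (i,j) both positive
        rw [if_neg hj.ne', if_neg hi.ne', sub_zero, sub_zero]
        have hS : ∀ s ∈ Finset.range D, r (p ^ (s + 1)) *
            (∑ l ∈ Finset.Ioo 0 p, if p ^ s * l = i ∧ p ^ s * (p - l) = j
              then ((p.choose l / p : ℕ) : R) else 0)
            = if i + j = p ^ (s + 1) then (T p (i + j) i : R) * r (i + j) else 0 := by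
          intro s _
          rw [Ssum_eq p s i j hi hj]
          by_cases h : i + j = p ^ (s + 1)
          · rw [if_pos h, if_pos h, ← h, mul_comm]
          · rw [if_neg h, if_neg h, mul_zero]
        rw [Finset.sum_congr rfl hS]
        have hsum : (∑ s ∈ Finset.range D,
            if i + j = p ^ (s + 1) then (T p (i + j) i : R) * r (i + j) else 0)
            = (T p (i + j) i : R) * r (i + j) := by
          by_cases hPP : IsPP p (i + j)
          · obtain ⟨s₀, hs₀⟩ := hPP
            by_cases hs₀D : s₀ < D
            · rw [Finset.sum_eq_single s₀]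
              · rw [if_pos hs₀]
              · intro s _ hs
                rw [if_neg]
                intro h
                rw [hs₀] at h
                have := Nat.pow_right_injective hp2 h
                omega
              · intro h
                exact absurd (Finset.mem_range.2 hs₀D) h
            · have hlt : s₀ + 1 < p ^ (s₀ + 1) := Nat.lt_pow_self hp2
              rw [hr0 (i + j) (by omega), mul_zero]
              refine Finset.sum_eq_zero (fun s hs => ?_)
              rw [if_neg]
              intro h
              rw [hs₀] at h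
              have := Nat.pow_right_injective hp2 h
              have := Finset.mem_range.1 hs
              omega
          · have hT : T p (i + j) i = 0 := by
              unfold T
              rw [if_neg (fun hh => hPP hh.1)]
            rw [hT, Nat.cast_zero, zero_mul]
            refine Finset.sum_eq_zero (fun s _ => ?_)
            rw [if_neg]
            intro h
            exact hPP ⟨s, h⟩
        rw [hsum, hGc (i + j), if_neg (by omega), if_pos (by omega)]
        have := hgr (i + j) i hi (by omega)
        have e : i + j - i = j := by omega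
        rw [e] at this
        exact this
end fwd

end Groth.Agent.H9.Laz
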