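import Mathlib
import Groth.Agent.Lib.Helper9.Misc.Ext2
import Groth.Agent.Lib.Helper9.Misc.Laz5

/-! Helper9: Ext(Ga,Gm): additive decomposition of cocycles congruent to 1 mod a square-zero ideal -/

namespace Groth.Agent.H9.Ext

universe u

open MvPolynomial Groth.Agent.H9.Laz

set_option linter.unusedSectionVars false

variable {R : Type u} [CommRing R] (p : ℕ) [hp : Fact p.Prime]

/-- `S(X^{p^s}, Y^{p^s})` -/
noncomputable def SQ (s : ℕ) : MvPolynomial (Fin 2) R :=
  aeval ![(X 0 : MvPolynomial (Fin 2) R) ^ p ^ s, X 1 ^ p ^ s] (Sp R p)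

/-- additive coboundary -/
noncomputable def dl (G : Polynomial R) : MvPolynomial (Fin 2) R :=
  Polynomial.aeval ((X 0 : MvPolynomial (Fin 2) R) + X 1) G
    - Polynomial.aeval (X 0 : MvPolynomial (Fin 2) R) G
    - Polynomial.aeval (X 1 : MvPolynomial (Fin 2) R) G

theorem prod_one_add {A : Type*} [CommRing A] (𝔎 : Ideal A) (h𝔎 : ∀ x ∈ 𝔎, ∀ y ∈ 𝔎, x * y = 0)
    {ι : Type*} (s : Finset ι) (x : ι → A) (hx : ∀ i ∈ s, x i ∈ 𝔎) :
    ∏ i ∈ s, (1 + x i) = 1 + ∑ i ∈ s, x i := by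
  classical
  induction s using Finset.induction_on with
  | empty => simp
  | insert a s ha ih =>
    rw [Finset.prod_insert ha, Finset.sum_insert ha, ih (fun i hi => hx i (Finset.mem_insert_of_mem hi))]
    have h1 : x a * ∑ i ∈ s, x i = 0 :=
      h𝔎 _ (hx a (Finset.mem_insert_self a s)) _
        (𝔎.sum_mem (fun i hi => hx i (Finset.mem_insert_of_mem hi)))
    linear_combination h1

theorem KI_sq {K : Ideal R} (hK : ∀ x ∈ K, ∀ y ∈ K, x * y = 0) (σ : Type*) :
    ∀ x ∈ KI K σ, ∀ y ∈ KI K σ, x * y = 0 := fun _ hx _ hy => KI_mul_zero hK hx hy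

theorem one_add_G {K : Ideal R} (hK : ∀ x ∈ K, ∀ y ∈ K, x * y = 0) (G : Polynomial R)
    (hG : ∀ n, G.coeff n ∈ K) :
    IsUnit (1 + G) ∧ ASpl ⊥ (1 + G) (1 + dl G) := by
  constructor
  · have hGG : G * G = 0 := by
      ext n
      rw [Polynomial.coeff_mul, Polynomial.coeff_zero]
      exact Finset.sum_eq_zero (fun x _ => hK _ (hG _) _ (hG _))
    have hnil : IsNilpotent G := ⟨2, by rw [pow_two, hGG]⟩
    exact hnil.isUnit_one_add
  · rw [ASpl_bot]
    have ha := paeval_mem_KI ((X 0 : MvPolynomial (Fin 2) R) + X 1) hG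
    have hb := paeval_mem_KI (X 0 : MvPolynomial (Fin 2) R) hG
    have hc := paeval_mem_KI (X 1 : MvPolynomial (Fin 2) R) hG
    set a := Polynomial.aeval ((X 0 : MvPolynomial (Fin 2) R) + X 1) G with hadef
    set b := Polynomial.aeval (X 0 : MvPolynomial (Fin 2) R) G with hbdef
    set c := Polynomial.aeval (X 1 : MvPolynomial (Fin 2) R) G with hcdef
    have hab : a * b = 0 := KI_mul_zero hK ha hb
    have hac : a * c = 0 := KI_mul_zero hK ha hc
    have hbb : b * b = 0 := KI_mul_zero hK hb hb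
    have hbc : b * c = 0 := KI_mul_zero hK hb hc
    have hcc : c * c = 0 := KI_mul_zero hK hc hc
    have e1 : Af (1 + G) = 1 + a := by simp [Af, hadef]
    have e2 : Df (1 + G) = (1 + b) * (1 + c) := by simp [Df, hbdef, hcdef]
    have e3 : dl G = a - b - c := rfl
    rw [e1, e2, e3]
    linear_combination -hab - hac + hbb + hcc + hbc - c * hab + c * hbb + c * hbc

/-- the additive decomposition of a cocycle congruent to `1` modulo a square-zero ideal -/
theorem decompose (hp0 : (p : R) = 0) {K : Ideal R} (hK : ∀ x ∈ K, ∀ y ∈ K, x * y = 0)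
    {h : MvPolynomial (Fin 2) R} (H : IsCoc h) (hh : h - 1 ∈ KI K (Fin 2)) :
    ∃ (G : Polynomial R) (N : ℕ) (r : ℕ → R), (∀ n, G.coeff n ∈ K) ∧ (∀ s, r s ∈ K) ∧
      h = (1 + dl G) * ∏ s ∈ Finset.range N, (1 + C (r s) * SQ (R := R) p s) := by
  set F := h - 1 with hF
  have hh1 : h = 1 + F := by rw [hF]; ring
  have hT : ∀ g : Fin 2 → MvPolynomial (Fin 3) R, aeval g F ∈ KI K (Fin 3) :=
    fun g => aeval_mem_KI g hh
  have hsym : aeval ![(X 1 : MvPolynomial (Fin 2) R), X 0] F = F := by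
    have := H.sym
    rw [hh1, Sw, map_add, map_one] at this
    exact add_left_cancel this
  have hcoc : aeval ![(X 0 : MvPolynomial (Fin 3) R), X 1 + X 2] F
          + aeval ![(X 1 : MvPolynomial (Fin 3) R), X 2] F
          - aeval ![(X 0 : MvPolynomial (Fin 3) R) + X 1, X 2] F
          - aeval ![(X 0 : MvPolynomial (Fin 3) R), X 1] F = 0 := by
    have := H.coc
    rw [hh1] at this
    simp only [T1, T2, T3, T4, map_add, map_one] at this
    have z1 := KI_mul_zero hK (hT ![(X 1 : MvPolynomial (Fin 3) R), X 2])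
      (hT ![(X 0 : MvPolynomial (Fin 3) R), X 1 + X 2])
    have z2 := KI_mul_zero hK (hT ![(X 0 : MvPolynomial (Fin 3) R) + X 1, X 2])
      (hT ![(X 0 : MvPolynomial (Fin 3) R), X 1])
    linear_combination this - z1 + z2
  obtain ⟨G, N, r, hG, hr, hFeq⟩ := forward p F hsym hcoc hp0
  have hspan : Ideal.span (Set.range (fun m => coeff m F)) ≤ K := by
    rw [Ideal.span_le]
    rintro _ ⟨m, rfl⟩
    exact mem_KI.1 hh m
  have hG' : ∀ n, G.coeff n ∈ K := fun n => hspan (hG n)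
  have hr' : ∀ s, r s ∈ K := fun s => hspan (hr s)
  refine ⟨G, N, r, hG', hr', ?_⟩
  have hx : ∀ s ∈ Finset.range N, C (r s) * SQ (R := R) p s ∈ KI K (Fin 2) :=
    fun s _ => Ideal.mul_mem_right _ _ (C_mem_KI (hr' s))
  rw [prod_one_add (KI K (Fin 2)) (KI_sq hK _) _ _ hx]
  have hdl : dl G ∈ KI K (Fin 2) := by
    unfold dl
    exact Ideal.sub_mem _ (Ideal.sub_mem _ (paeval_mem_KI _ hG') (paeval_mem_KI _ hG'))
      (paeval_mem_KI _ hG')
  have hz : dl G * ∑ s ∈ Finset.range N, C (r s) * SQ (R := R) p s = 0 :=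
    KI_mul_zero hK hdl (Ideal.sum_mem _ hx)
  have hFeq' : F = dl G + ∑ s ∈ Finset.range N, C (r s) * SQ (R := R) p s := hFeq
  rw [hh1, hFeq']
  linear_combination -hz

end Groth.Agent.H9.Ext
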