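import Mathlib
import Groth.Agent.Lib.Helper9.Misc.Ext3

/-! Helper9: inverse factorials in char p, Wilson, truncated exponential -/

namespace Groth.Agent.H9.Ext

universe u

open MvPolynomial Groth.Agent.H9.Laz

set_option linter.unusedSectionVars false

variable {R : Type u} [CommRing R] (p : ℕ) [hp : Fact p.Prime]

/-- inverse factorials -/
noncomputable def uf (j : ℕ) : R := Ring.inverse ((j.factorial : ℕ) : R)

theorem fact_mul_uf (hp0 : (p : R) = 0) {j : ℕ} (hj : j < p) :
    ((j.factorial : ℕ) : R) * uf (R := R) j = 1 := by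
  have h1 : ¬ p ∣ j.factorial := by
    rw [hp.out.dvd_factorial]
    omega
  exact Ring.mul_inverse_cancel _ (isUnit_cast p hp0 h1)

theorem uf_mul (hp0 : (p : R) = 0) {j l : ℕ} (hjl : j + l < p) :
    uf (R := R) j * uf l = ((j + l).choose j : R) * uf (j + l) := by
  have h1 := fact_mul_uf p hp0 (show j < p by omega)
  have h2 := fact_mul_uf p hp0 (show l < p by omega)
  have h3 := fact_mul_uf p hp0 hjl
  have h4 : (((j + l).choose j * j.factorial * l.factorial : ℕ) : R) = (((j + l).factorial : ℕ) : R) := by
    have := Nat.choose_mul_factorial_mul_factorial (Nat.le_add_right j l)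
    rw [Nat.add_sub_cancel_left] at this
    rw [this]
  push_cast at h4
  calc uf (R := R) j * uf l
      = uf j * uf l * (((j + l).factorial : ℕ) : R) * uf (j + l) := by
        rw [mul_assoc _ _ (uf (j + l)), h3, mul_one]
    _ = ((j + l).choose j : R) * ((j.factorial : R) * uf j) * ((l.factorial : R) * uf l)
          * uf (j + l) := by rw [← h4]; ring
    _ = ((j + l).choose j : R) * uf (j + l) := by
        rw [h1, h2, mul_one, mul_one]

theorem wilson_cast (hp0 : (p : R) = 0) : (((p - 1).factorial : ℕ) : R) = -1 := by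
  have h := ZMod.wilsons_lemma (p := p)
  have h1 : (((p - 1).factorial + 1 : ℕ) : ZMod p) = 0 := by
    push_cast
    rw [h]
    ring
  rw [ZMod.natCast_eq_zero_iff] at h1
  obtain ⟨k, hk⟩ := h1
  have h2 : (((p - 1).factorial + 1 : ℕ) : R) = 0 := by
    rw [hk, Nat.cast_mul, hp0, zero_mul]
  push_cast at h2
  linear_combination h2

theorem uf_wilson (hp0 : (p : R) = 0) {j : ℕ} (hj : 0 < j) (hjp : j < p) :
    uf (R := R) j * uf (p - j) = -((p.choose j / p : ℕ) : R) := by
  have hpp : 0 < p := hp.out.pos
  have h1 := fact_mul_uf p hp0 hjp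
  have h2 := fact_mul_uf p hp0 (show p - j < p by omega)
  have hdvd : p ∣ p.choose j := hp.out.dvd_choose_self hj.ne' hjp
  have h3 : (p.choose j / p) * j.factorial * (p - j).factorial = (p - 1).factorial := by
    have e1 := Nat.choose_mul_factorial_mul_factorial hjp.le
    have e2 : p.factorial = p * (p - 1).factorial := by
      obtain ⟨q, rfl⟩ := Nat.exists_eq_succ_of_ne_zero hpp.ne'
      simp [Nat.factorial_succ]
    obtain ⟨c, hc⟩ := hdvd
    rw [hc, Nat.mul_div_cancel_left _ hpp]
    rw [hc, e2] at e1
    have : p * (c * j.factorial * (p - j).factorial) = p * (p - 1).factorial := by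
      rw [← e1]; ring
    exact Nat.eq_of_mul_eq_mul_left hpp this
  have h4 : (((p.choose j / p) * j.factorial * (p - j).factorial : ℕ) : R) = -1 := by
    rw [h3, wilson_cast p hp0]
  push_cast at h4
  calc uf (R := R) j * uf (p - j)
      = -(((p.choose j / p : ℕ) : R) * (j.factorial : R) * ((p - j).factorial : R))
          * (uf j * uf (p - j)) := by rw [h4]; ring
    _ = -((p.choose j / p : ℕ) : R) * ((j.factorial : R) * uf j)
          * (((p - j).factorial : R) * uf (p - j)) := by ring
    _ = -((p.choose j / p : ℕ) : R) := by rw [h1, h2, mul_one, mul_one]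

/-- truncated exponential -/
noncomputable def ex : Polynomial R :=
  ∑ j ∈ Finset.range p, Polynomial.C (uf (R := R) j) * Polynomial.X ^ j

theorem coeff_ex (n : ℕ) : (ex (R := R) p).coeff n = if n < p then uf n else 0 := by
  rw [ex, Polynomial.finsetSum_coeff]
  simp only [Polynomial.coeff_C_mul, Polynomial.coeff_X_pow]
  by_cases h : n < p
  · rw [if_pos h, Finset.sum_eq_single n]
    · rw [if_pos rfl, mul_one]
    · intro j _ hj
      rw [if_neg (fun hh => hj hh.symm), mul_zero]
    · intro hn
      exact absurd (Finset.mem_range.2 h) hn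
  · rw [if_neg h]
    refine Finset.sum_eq_zero (fun j hj => ?_)
    have := Finset.mem_range.1 hj
    rw [if_neg (by omega), mul_zero]

end Groth.Agent.H9.Ext
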