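import Mathlib
import Groth.Agent.Lib.Helper9.Misc.Ext4

/-! Helper9: defect polynomial of the truncated exponential vanishes in degrees <= p -/

namespace Groth.Agent.H9.Ext

universe u

open MvPolynomial Groth.Agent.H9.Laz

set_option linter.unusedSectionVars false

variable {R : Type u} [CommRing R] (p : ℕ) [hp : Fact p.Prime]

theorem coeff_Sp0 (i j : ℕ) :
    coeff (e2 i j) (Sp R p)
      = ∑ l ∈ Finset.Ioo 0 p, if l = i ∧ p - l = j then ((p.choose l / p : ℕ) : R) else 0 := by
  rw [Sp, coeff_sum]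
  refine Finset.sum_congr rfl (fun l _ => ?_)
  rw [mul_assoc, mon2, C_mul_monomial, mul_one, coeff_monomial]
  by_cases h : l = i ∧ p - l = j
  · rw [if_pos (e2_inj.2 h), if_pos h]
  · rw [if_neg (fun hh => h (e2_inj.1 hh)), if_neg h]

theorem coeff_prod_ex (i j : ℕ) :
    coeff (e2 i j) (Polynomial.aeval (X 0 : MvPolynomial (Fin 2) R) (ex (R := R) p)
        * Polynomial.aeval (X 1 : MvPolynomial (Fin 2) R) (ex (R := R) p))
      = if i < p ∧ j < p then uf (R := R) i * uf j else 0 := by
  have h0 : Polynomial.aeval (X 0 : MvPolynomial (Fin 2) R) (ex (R := R) p)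
      = ∑ a ∈ Finset.range p, C (uf (R := R) a) * X 0 ^ a := by
    rw [ex, map_sum]
    refine Finset.sum_congr rfl (fun a _ => ?_)
    rw [map_mul, map_pow, Polynomial.aeval_X, Polynomial.aeval_C]
    rfl
  have h1 : Polynomial.aeval (X 1 : MvPolynomial (Fin 2) R) (ex (R := R) p)
      = ∑ b ∈ Finset.range p, C (uf (R := R) b) * X 1 ^ b := by
    rw [ex, map_sum]
    refine Finset.sum_congr rfl (fun a _ => ?_)
    rw [map_mul, map_pow, Polynomial.aeval_X, Polynomial.aeval_C]
    rfl
  rw [h0, h1, Finset.sum_mul_sum, coeff_sum]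
  simp only [coeff_sum]
  have hterm : ∀ a b : ℕ, coeff (e2 i j) (C (uf (R := R) a) * X 0 ^ a * (C (uf (R := R) b) * X 1 ^ b))
      = if a = i ∧ b = j then uf (R := R) a * uf b else 0 := by
    intro a b
    have : C (uf (R := R) a) * X 0 ^ a * (C (uf (R := R) b) * X 1 ^ b)
        = C (uf (R := R) a * uf b) * ((X 0 : MvPolynomial (Fin 2) R) ^ a * X 1 ^ b) := by
      rw [C_mul]; ring
    rw [this, mon2, C_mul_monomial, mul_one, coeff_monomial]
    by_cases h : a = i ∧ b = j
    · rw [if_pos (e2_inj.2 h), if_pos h]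
    · rw [if_neg (fun hh => h (e2_inj.1 hh)), if_neg h]
  simp only [hterm]
  by_cases h : i < p ∧ j < p
  · rw [if_pos h, Finset.sum_eq_single i]
    · rw [Finset.sum_eq_single j]
      · rw [if_pos ⟨rfl, rfl⟩]
      · intro b _ hb
        rw [if_neg (fun hh => hb hh.2)]
      · intro hj
        exact absurd (Finset.mem_range.2 h.2) hj
    · intro a _ ha
      refine Finset.sum_eq_zero (fun b _ => ?_)
      rw [if_neg (fun hh => ha hh.1)]
    · intro hi
      exact absurd (Finset.mem_range.2 h.1) hi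
  · rw [if_neg h]
    refine Finset.sum_eq_zero (fun a ha => Finset.sum_eq_zero (fun b hb => ?_))
    rw [if_neg]
    rintro ⟨rfl, rfl⟩
    exact h ⟨Finset.mem_range.1 ha, Finset.mem_range.1 hb⟩

/-- the defect polynomial of the truncated exponential -/
noncomputable def E2 : MvPolynomial (Fin 2) R :=
  Polynomial.aeval (X 0 : MvPolynomial (Fin 2) R) (ex (R := R) p)
      * Polynomial.aeval (X 1 : MvPolynomial (Fin 2) R) (ex (R := R) p)
    - Polynomial.aeval ((X 0 : MvPolynomial (Fin 2) R) + X 1) (ex (R := R) p) + Sp R p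

theorem coeff_E2 (hp0 : (p : R) = 0) {i j : ℕ} (hij : i + j ≤ p) :
    coeff (e2 i j) (E2 (R := R) p) = 0 := by
  have hpp : 0 < p := hp.out.pos
  rw [E2, coeff_add, coeff_sub, coeff_prod_ex, coeff_aeval_add, coeff_ex, coeff_Sp0]
  rcases Nat.lt_or_ge (i + j) p with hlt | hge
  · rw [if_pos ⟨by omega, by omega⟩, if_pos hlt, uf_mul p hp0 hlt, Finset.sum_eq_zero, add_zero]
    · have : (i + j).choose i = (i + j).choose j := by
        rw [← Nat.choose_symm_add]
      rw [this, sub_self]
    · intro l hl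
      rw [if_neg]
      rintro ⟨rfl, h2⟩
      have := (Finset.mem_Ioo.1 hl).2
      omega
  · have hij' : i + j = p := by omega
    rw [if_neg (by omega : ¬ (i + j < p)), mul_zero, sub_zero]
    by_cases hi : 0 < i ∧ 0 < j
    · have hjp : j = p - i := by omega
      rw [if_pos ⟨by omega, by omega⟩, Finset.sum_eq_single i]
      · rw [if_pos ⟨rfl, by omega⟩, hjp, uf_wilson p hp0 hi.1 (by omega)]
        ring
      · intro l _ hl
        rw [if_neg (fun hh => hl hh.1)]
      · intro h
        exact absurd (Finset.mem_Ioo.2 ⟨hi.1, by omega⟩) h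
    · rw [if_neg (by omega), zero_add]
      refine Finset.sum_eq_zero (fun l hl => ?_)
      rw [if_neg]
      rintro ⟨rfl, h2⟩
      have := Finset.mem_Ioo.1 hl
      omega

end Groth.Agent.H9.Ext
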