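import Mathlib
import Groth.Agent.Lib.Helper9.Misc.Ext5

/-! Helper9: truncated exponential at s X^{p^i}: splits C(s^p) SQ modulo s^(p+1) -/

namespace Groth.Agent.H9.Ext

universe u

open MvPolynomial Groth.Agent.H9.Laz

set_option linter.unusedSectionVars false

variable {R : Type u} [CommRing R] (p : ℕ) [hp : Fact p.Prime]

theorem subst_mem (s : R) (Q : ℕ) (E : MvPolynomial (Fin 2) R)
    (hE : ∀ i j, i + j ≤ p → coeff (e2 i j) E = 0) :
    aeval ![C s * (X 0 : MvPolynomial (Fin 2) R) ^ Q, C s * X 1 ^ Q] E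
      ∈ KI (Ideal.span {s ^ (p + 1)}) (Fin 2) := by
  rw [E.as_sum, map_sum]
  refine Ideal.sum_mem _ (fun m _ => ?_)
  obtain ⟨a, b, rfl⟩ : ∃ a b, m = e2 a b := ⟨m 0, m 1, eq_e2 m⟩
  rcases Nat.lt_or_ge p (a + b) with hlt | hge
  · have h1 : monomial (e2 a b) (coeff (e2 a b) E)
        = C (coeff (e2 a b) E) * monomial (e2 a b) (1 : R) := by
      rw [C_mul_monomial, mul_one]
    rw [h1, map_mul, aeval_mon2]
    simp only [Matrix.cons_val_zero, Matrix.cons_val_one]
    have h2 : (C s * (X 0 : MvPolynomial (Fin 2) R) ^ Q) ^ a * (C s * X 1 ^ Q) ^ b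
        = C (s ^ (p + 1)) * (C (s ^ (a + b - (p + 1))) * ((X 0 ^ Q) ^ a * (X 1 ^ Q) ^ b)) := by
      rw [mul_pow, mul_pow, ← mul_assoc (C (s ^ (p + 1))), ← C_mul, ← pow_add, ← C_pow, ← C_pow]
      have : p + 1 + (a + b - (p + 1)) = a + b := by omega
      rw [this, pow_add, C_mul, C_pow, C_pow]
      ring
    rw [h2]
    refine Ideal.mul_mem_left _ _ (Ideal.mul_mem_right _ _ (C_mem_KI ?_))
    exact Ideal.subset_span rfl
  · rw [hE a b hge, monomial_zero, map_zero]
    exact Ideal.zero_mem _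

theorem add_pow_p_pow {A : Type*} [CommRing A] (hp0 : (p : A) = 0) (x y : A) (n : ℕ) :
    (x + y) ^ p ^ n = x ^ p ^ n + y ^ p ^ n := by
  rcases subsingleton_or_nontrivial A with h | h
  · exact Subsingleton.elim _ _
  · have : CharP A p := (CharP.charP_iff_prime_eq_zero hp.out).2 hp0
    exact add_pow_char_pow x y p n

theorem aeval_Sp_smul {A : Type*} [CommRing A] [Algebra R A] (s : R) (a b : A) :
    aeval ![algebraMap R A s * a, algebraMap R A s * b] (Sp R p)
      = algebraMap R A (s ^ p) * aeval ![a, b] (Sp R p) := by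
  rw [Sp, map_sum, map_sum, Finset.mul_sum]
  refine Finset.sum_congr rfl (fun j hj => ?_)
  have hj' := Finset.mem_Ioo.1 hj
  simp only [map_mul, map_pow, aeval_X, aeval_C, Matrix.cons_val_zero, Matrix.cons_val_one]
  have h1 : algebraMap R A s ^ p = algebraMap R A s ^ j * algebraMap R A s ^ (p - j) := by
    rw [← pow_add]
    congr 1
    omega
  rw [mul_pow, mul_pow, h1]
  ring

/-- the truncated exponential evaluated at `s X^{p^i}` -/
noncomputable def eps (s : R) (i : ℕ) : Polynomial R :=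
  (ex (R := R) p).comp (Polynomial.C s * Polynomial.X ^ p ^ i)

theorem eps_spec (hp0 : (p : R) = 0) (s : R) (i : ℕ) :
    Df (eps p s i) - Af (eps p s i) + C (s ^ p) * SQ (R := R) p i
      ∈ KI (Ideal.span {s ^ (p + 1)}) (Fin 2) := by
  have h := subst_mem p s (p ^ i) (E2 (R := R) p) (fun a b hab => coeff_E2 p hp0 hab)
  have hp0' : ((p : ℕ) : MvPolynomial (Fin 2) R) = 0 := by
    rw [← map_natCast (C : R →+* MvPolynomial (Fin 2) R), hp0, map_zero]
  have e0 : Polynomial.aeval (X 0 : MvPolynomial (Fin 2) R) (eps p s i)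
      = Polynomial.aeval (C s * (X 0 : MvPolynomial (Fin 2) R) ^ p ^ i) (ex (R := R) p) := by
    rw [eps, Polynomial.aeval_comp]
    simp
  have e1 : Polynomial.aeval (X 1 : MvPolynomial (Fin 2) R) (eps p s i)
      = Polynomial.aeval (C s * (X 1 : MvPolynomial (Fin 2) R) ^ p ^ i) (ex (R := R) p) := by
    rw [eps, Polynomial.aeval_comp]
    simp
  have e2' : Af (eps p s i)
      = Polynomial.aeval (C s * (X 0 : MvPolynomial (Fin 2) R) ^ p ^ i + C s * X 1 ^ p ^ i)
          (ex (R := R) p) := by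
    rw [Af, eps, Polynomial.aeval_comp]
    congr 1
    simp only [map_mul, map_pow, Polynomial.aeval_X, Polynomial.aeval_C]
    rw [add_pow_p_pow p hp0', mul_add]
    rfl
  have e3 : aeval ![C s * (X 0 : MvPolynomial (Fin 2) R) ^ p ^ i, C s * X 1 ^ p ^ i] (Sp R p)
      = C (s ^ p) * SQ (R := R) p i := aeval_Sp_smul p s _ _
  rw [E2, map_add, map_sub, map_mul, ← Polynomial.aeval_algHom_apply,
    ← Polynomial.aeval_algHom_apply, ← Polynomial.aeval_algHom_apply, map_add, aeval_X, aeval_X,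
    e3] at h
  simp only [Matrix.cons_val_zero, Matrix.cons_val_one] at h
  rw [Df, e0, e1, e2']
  exact h

theorem eps_sub_one_coeff (s : R) (i : ℕ) (n : ℕ) :
    (eps p s i - 1).coeff n ∈ Ideal.span {s} := by
  have h1 : eps p s i - 1 = ∑ j ∈ Finset.range p,
      (if j = 0 then 0 else Polynomial.C (uf (R := R) j * s ^ j) * Polynomial.X ^ (p ^ i * j)) := by
    have hpp : 0 < p := hp.out.pos
    rw [eps, ex, Polynomial.sum_comp]
    have hterm : ∀ j ∈ Finset.range p, (Polynomial.C (uf (R := R) j) * Polynomial.X ^ j).comp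
        (Polynomial.C s * Polynomial.X ^ p ^ i)
        = Polynomial.C (uf (R := R) j * s ^ j) * Polynomial.X ^ (p ^ i * j) := by
      intro j _
      rw [Polynomial.mul_comp, Polynomial.C_comp, Polynomial.X_pow_comp, mul_pow, ← pow_mul,
        Polynomial.C_mul, Polynomial.C_pow]
      ring
    rw [Finset.sum_congr rfl hterm]
    obtain ⟨q, hq⟩ := Nat.exists_eq_succ_of_ne_zero hpp.ne'
    rw [hq, Finset.sum_range_succ', Finset.sum_range_succ']
    simp only [Nat.succ_ne_zero, if_false, if_true, add_zero, mul_zero, pow_zero, mul_one]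
    have : uf (R := R) 0 = 1 := by simp [uf]
    rw [this]
    simp
  rw [h1, Polynomial.finsetSum_coeff]
  refine Ideal.sum_mem _ (fun j _ => ?_)
  by_cases hj : j = 0
  · rw [if_pos hj, Polynomial.coeff_zero]
    exact Ideal.zero_mem _
  · rw [if_neg hj, Polynomial.coeff_C_mul]
    apply Ideal.mul_mem_right
    obtain ⟨j', rfl⟩ := Nat.exists_eq_succ_of_ne_zero hj
    rw [Nat.succ_eq_add_one, pow_succ, ← mul_assoc]
    exact Ideal.mul_mem_left _ _ (Ideal.subset_span rfl)

end Groth.Agent.H9.Ext
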