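import Mathlib
import Groth.Agent.Lib.Helper9.Misc.Laz4

/-! Helper9: Lazard symmetric cocycle lemma in char p, converse direction -/

namespace Groth.Agent.H9.Laz

universe u

open MvPolynomial

set_option linter.unusedSectionVars false

variable (p : ℕ) [hp : Fact p.Prime]

/-- integral lift of `S` -/
noncomputable def SZ : MvPolynomial (Fin 2) ℤ :=
  ∑ j ∈ Finset.Ioo 0 p, C ((p.choose j / p : ℕ) : ℤ) * X 0 ^ j * X 1 ^ (p - j)

theorem range_succ_eq : Finset.range (p + 1) = insert 0 (insert p (Finset.Ioo 0 p)) := by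
  have hpp : 0 < p := hp.out.pos
  ext x
  simp only [Finset.mem_range, Finset.mem_insert, Finset.mem_Ioo]
  omega

theorem p_mul_SZ :
    (p : MvPolynomial (Fin 2) ℤ) * SZ p
      = ((X 0 : MvPolynomial (Fin 2) ℤ) + X 1) ^ p - X 0 ^ p - X 1 ^ p := by
  have hpp : 0 < p := hp.out.pos
  rw [add_pow, range_succ_eq, Finset.sum_insert, Finset.sum_insert]
  · simp only [pow_zero, one_mul, Nat.sub_zero, Nat.choose_zero_right, Nat.cast_one, mul_one,
      Nat.sub_self, Nat.choose_self]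
    rw [SZ, Finset.mul_sum]
    have : ∀ j ∈ Finset.Ioo 0 p, (p : MvPolynomial (Fin 2) ℤ) *
        (C ((p.choose j / p : ℕ) : ℤ) * X 0 ^ j * X 1 ^ (p - j))
        = X 0 ^ j * X 1 ^ (p - j) * ((p.choose j : ℕ) : MvPolynomial (Fin 2) ℤ) := by
      intro j hj
      have hj' := Finset.mem_Ioo.1 hj
      have hdvd : p ∣ p.choose j := hp.out.dvd_choose_self hj'.1.ne' hj'.2
      have h1 : ((p.choose j : ℕ) : MvPolynomial (Fin 2) ℤ)
          = (p : MvPolynomial (Fin 2) ℤ) * C ((p.choose j / p : ℕ) : ℤ) := by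
        conv_lhs => rw [← Nat.mul_div_cancel' hdvd]
        rw [Nat.cast_mul, ← map_natCast (C : ℤ →+* MvPolynomial (Fin 2) ℤ) (p.choose j / p)]
      rw [h1]
      ring
    rw [Finset.sum_congr rfl this]
    ring
  · simp
  · simp only [Finset.mem_insert, Finset.mem_Ioo, not_or]
    omega

theorem aeval_p_mul_SZ {A : Type*} [CommRing A] [Algebra ℤ A] (g : Fin 2 → A) :
    (p : A) * aeval g (SZ p) = (g 0 + g 1) ^ p - g 0 ^ p - g 1 ^ p := by
  have := congrArg (aeval g) (p_mul_SZ p)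
  simpa using this

theorem SZ_sym : aeval ![(X 1 : MvPolynomial (Fin 2) ℤ), X 0] (SZ p) = SZ p := by
  have hp0 : (p : MvPolynomial (Fin 2) ℤ) ≠ 0 := by
    exact_mod_cast hp.out.ne_zero
  apply mul_left_cancel₀ hp0
  rw [aeval_p_mul_SZ, p_mul_SZ]
  simp only [Matrix.cons_val_zero, Matrix.cons_val_one]
  ring

theorem SZ_coc :
    aeval ![(X 0 : MvPolynomial (Fin 3) ℤ), X 1 + X 2] (SZ p)
      + aeval ![(X 1 : MvPolynomial (Fin 3) ℤ), X 2] (SZ p)
      - aeval ![(X 0 : MvPolynomial (Fin 3) ℤ) + X 1, X 2] (SZ p)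
      - aeval ![(X 0 : MvPolynomial (Fin 3) ℤ), X 1] (SZ p) = 0 := by
  have hp0 : (p : MvPolynomial (Fin 3) ℤ) ≠ 0 := by
    exact_mod_cast hp.out.ne_zero
  apply mul_left_cancel₀ hp0
  rw [mul_zero, mul_sub, mul_sub, mul_add, aeval_p_mul_SZ, aeval_p_mul_SZ, aeval_p_mul_SZ,
    aeval_p_mul_SZ]
  simp only [Matrix.cons_val_zero, Matrix.cons_val_one]
  ring

variable {R : Type u} [CommRing R]

theorem Sp_eq_map : Sp R p = map (Int.castRingHom R) (SZ p) := by
  rw [Sp, SZ, map_sum]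
  refine Finset.sum_congr rfl (fun j _ => ?_)
  rw [map_mul, map_mul, map_pow, map_pow, map_X, map_X, map_C]
  congr 3
  rw [eq_intCast, Int.cast_natCast]

theorem map_aeval_Z {σ : Type*} (g : Fin 2 → MvPolynomial σ ℤ) (Q : MvPolynomial (Fin 2) ℤ) :
    map (Int.castRingHom R) (aeval g Q)
      = aeval (fun i => map (Int.castRingHom R) (g i)) (map (Int.castRingHom R) Q) := by
  induction Q using MvPolynomial.induction_on with
  | C a => simp
  | add p q hp hq => rw [map_add, map_add, map_add, map_add, hp, hq]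
  | mul_X p i h => rw [map_mul, map_mul, map_mul, map_mul, h, aeval_X, map_X, aeval_X]

theorem Sp_sym : aeval ![(X 1 : MvPolynomial (Fin 2) R), X 0] (Sp R p) = Sp R p := by
  have h := congrArg (map (Int.castRingHom R)) (SZ_sym p)
  rw [map_aeval_Z, ← Sp_eq_map] at h
  have hg : (fun i => map (Int.castRingHom R) (![(X 1 : MvPolynomial (Fin 2) ℤ), X 0] i))
      = ![(X 1 : MvPolynomial (Fin 2) R), X 0] := by
    funext i
    fin_cases i <;> simp
  rw [hg] at h
  exact h

theorem Sp_coc :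
    aeval ![(X 0 : MvPolynomial (Fin 3) R), X 1 + X 2] (Sp R p)
      + aeval ![(X 1 : MvPolynomial (Fin 3) R), X 2] (Sp R p)
      - aeval ![(X 0 : MvPolynomial (Fin 3) R) + X 1, X 2] (Sp R p)
      - aeval ![(X 0 : MvPolynomial (Fin 3) R), X 1] (Sp R p) = 0 := by
  have h := congrArg (map (Int.castRingHom R)) (SZ_coc p)
  rw [map_sub, map_sub, map_add, map_aeval_Z, map_aeval_Z, map_aeval_Z, map_aeval_Z,
    ← Sp_eq_map, map_zero] at h
  have hg1 : (fun i => map (Int.castRingHom R) (![(X 0 : MvPolynomial (Fin 3) ℤ), X 1 + X 2] i))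
      = ![(X 0 : MvPolynomial (Fin 3) R), X 1 + X 2] := by
    funext i
    fin_cases i <;> simp
  have hg2 : (fun i => map (Int.castRingHom R) (![(X 1 : MvPolynomial (Fin 3) ℤ), X 2] i))
      = ![(X 1 : MvPolynomial (Fin 3) R), X 2] := by
    funext i
    fin_cases i <;> simp
  have hg3 : (fun i => map (Int.castRingHom R) (![(X 0 : MvPolynomial (Fin 3) ℤ) + X 1, X 2] i))
      = ![(X 0 : MvPolynomial (Fin 3) R) + X 1, X 2] := by
    funext i
    fin_cases i <;> simp
  have hg4 : (fun i => map (Int.castRingHom R) (![(X 0 : MvPolynomial (Fin 3) ℤ), X 1] i))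
      = ![(X 0 : MvPolynomial (Fin 3) R), X 1] := by
    funext i
    fin_cases i <;> simp
  rw [hg1, hg2, hg3, hg4] at h
  exact h

section frob

variable [CharP R p] (q : ℕ)

/-- `S(X^q, Y^q)` -/
noncomputable def SpQ : MvPolynomial (Fin 2) R :=
  aeval ![(X 0 : MvPolynomial (Fin 2) R) ^ q, X 1 ^ q] (Sp R p)

theorem aeval_SpQ {A : Type*} [CommRing A] [Algebra R A] (g : Fin 2 → A) :
    aeval g (SpQ (R := R) p q) = aeval (fun i => g i ^ q) (Sp R p) := by
  rw [SpQ, comp_aeval_apply]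
  have : (fun i => aeval g (![(X 0 : MvPolynomial (Fin 2) R) ^ q, X 1 ^ q] i))
      = fun i => g i ^ q := by
    funext i
    fin_cases i <;> simp
  rw [this]

theorem SpQ_sym : aeval ![(X 1 : MvPolynomial (Fin 2) R), X 0] (SpQ (R := R) p q) = SpQ p q := by
  rw [aeval_SpQ]
  have h := congrArg (aeval ![(X 0 : MvPolynomial (Fin 2) R) ^ q, X 1 ^ q]) (Sp_sym (R := R) p)
  rw [comp_aeval_apply] at h
  rw [SpQ, ← h]
  have : (fun i => ![(X 1 : MvPolynomial (Fin 2) R), X 0] i ^ q)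
      = fun i => aeval ![(X 0 : MvPolynomial (Fin 2) R) ^ q, X 1 ^ q]
          (![(X 1 : MvPolynomial (Fin 2) R), X 0] i) := by
    funext i
    fin_cases i <;> simp
  rw [this]

/-- Frobenius-type substitution -/
noncomputable def Psi (s : ℕ) : MvPolynomial (Fin 3) R →ₐ[R] MvPolynomial (Fin 3) R :=
  aeval (fun i => (X i : MvPolynomial (Fin 3) R) ^ p ^ s)

theorem Psi_aeval (s : ℕ) (g : Fin 2 → MvPolynomial (Fin 3) R)
    (hg : ∀ i, Psi p s (g i) = g i ^ p ^ s) :
    aeval g (SpQ (R := R) p (p ^ s)) = Psi p s (aeval g (Sp R p)) := by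
  rw [aeval_SpQ, comp_aeval_apply]
  have : (fun i => Psi p s (g i)) = fun i => g i ^ p ^ s := by
    funext i
    rw [hg]
  rw [this]

theorem Psi_X (s : ℕ) (i : Fin 3) : Psi (R := R) p s (X i) = X i ^ p ^ s := by
  simp [Psi]

theorem Psi_add (s : ℕ) (i j : Fin 3) :
    Psi (R := R) p s (X i + X j) = (X i + X j) ^ p ^ s := by
  rw [map_add, Psi_X, Psi_X, add_pow_char_pow]

theorem SpQ_coc (s : ℕ) :
    aeval ![(X 0 : MvPolynomial (Fin 3) R), X 1 + X 2] (SpQ (R := R) p (p ^ s))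
      + aeval ![(X 1 : MvPolynomial (Fin 3) R), X 2] (SpQ (R := R) p (p ^ s))
      - aeval ![(X 0 : MvPolynomial (Fin 3) R) + X 1, X 2] (SpQ (R := R) p (p ^ s))
      - aeval ![(X 0 : MvPolynomial (Fin 3) R), X 1] (SpQ (R := R) p (p ^ s)) = 0 := by
  rw [Psi_aeval, Psi_aeval, Psi_aeval, Psi_aeval, ← map_add, ← map_sub, ← map_sub, Sp_coc,
    map_zero]
  · intro i; fin_cases i
    · exact Psi_X p s 0
    · exact Psi_X p s 1
  · intro i; fin_cases i
    · exact Psi_add p s 0 1
    · exact Psi_X p s 2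
  · intro i; fin_cases i
    · exact Psi_X p s 1
    · exact Psi_X p s 2
  · intro i; fin_cases i
    · exact Psi_X p s 0
    · exact Psi_add p s 1 2

end frob

section delta

variable (G : Polynomial R)

/-- the coboundary of `G` -/
noncomputable def delta : MvPolynomial (Fin 2) R :=
  Polynomial.aeval ((X 0 : MvPolynomial (Fin 2) R) + X 1) G
    - Polynomial.aeval (X 0 : MvPolynomial (Fin 2) R) G
    - Polynomial.aeval (X 1 : MvPolynomial (Fin 2) R) G

theorem aeval_delta {A : Type*} [CommRing A] [Algebra R A] (g : Fin 2 → A) :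
    aeval g (delta G) = Polynomial.aeval (g 0 + g 1) G - Polynomial.aeval (g 0) G
      - Polynomial.aeval (g 1) G := by
  rw [delta, map_sub, map_sub, ← Polynomial.aeval_algHom_apply, ← Polynomial.aeval_algHom_apply,
    ← Polynomial.aeval_algHom_apply, map_add, aeval_X, aeval_X]

theorem delta_sym : aeval ![(X 1 : MvPolynomial (Fin 2) R), X 0] (delta G) = delta G := by
  rw [aeval_delta, delta]
  simp only [Matrix.cons_val_zero, Matrix.cons_val_one]
  rw [add_comm (X 1) (X 0)]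
  abel

theorem delta_coc :
    aeval ![(X 0 : MvPolynomial (Fin 3) R), X 1 + X 2] (delta G)
      + aeval ![(X 1 : MvPolynomial (Fin 3) R), X 2] (delta G)
      - aeval ![(X 0 : MvPolynomial (Fin 3) R) + X 1, X 2] (delta G)
      - aeval ![(X 0 : MvPolynomial (Fin 3) R), X 1] (delta G) = 0 := by
  rw [aeval_delta, aeval_delta, aeval_delta, aeval_delta]
  simp only [Matrix.cons_val_zero, Matrix.cons_val_one]
  rw [← add_assoc (X 0 : MvPolynomial (Fin 3) R) (X 1) (X 2)]
  abel

end delta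

end Groth.Agent.H9.Laz
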