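import Mathlib
import Groth.Agent.Lib.Helper9.Misc.Ext6
import Groth.Agent.Lib.Helper9.Misc.Laz6

/-! Helper9: key lemma: square-zero multiplicative cocycles split when p-th powers are surjective -/

namespace Groth.Agent.H9.Ext

universe u

open MvPolynomial Groth.Agent.H9.Laz

set_option linter.unusedSectionVars false

variable {R : Type u} [CommRing R] (p : ℕ) [hp : Fact p.Prime]

theorem isNilpotent_of_mem_span {s x : R} (hs : IsNilpotent s) (hx : x ∈ Ideal.span {s}) :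
    IsNilpotent x := by
  obtain ⟨a, rfl⟩ := Ideal.mem_span_singleton'.1 hx
  obtain ⟨n, hn⟩ := hs
  exact ⟨n, by rw [mul_pow, hn, mul_zero]⟩

theorem isUnit_eps (s : R) (hs : IsNilpotent s) (i : ℕ) : IsUnit (eps p s i) := by
  have h1 : IsNilpotent (eps p s i - 1) := by
    rw [Polynomial.isNilpotent_iff]
    intro n
    exact isNilpotent_of_mem_span hs (eps_sub_one_coeff p s i n)
  have := h1.isUnit_one_add
  rwa [add_sub_cancel] at this

theorem C_mul_mem_KI {a b : R} {σ : Type*} {A : MvPolynomial σ R}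
    (hA : A ∈ KI (Ideal.span {a}) σ) : C b * A ∈ KI (Ideal.span {b * a}) σ := by
  rw [mem_KI] at hA ⊢
  intro m
  rw [coeff_C_mul]
  obtain ⟨x, hx⟩ := Ideal.mem_span_singleton'.1 (hA m)
  rw [← hx]
  exact Ideal.mem_span_singleton'.2 ⟨x, by ring⟩

theorem Df_eps_sub_one (s : R) (i : ℕ) :
    Df (eps p s i) - 1 ∈ KI (Ideal.span {s}) (Fin 2) := by
  have h0 : Polynomial.aeval (X 0 : MvPolynomial (Fin 2) R) (eps p s i) - 1
      ∈ KI (Ideal.span {s}) (Fin 2) := by
    have := paeval_mem_KI (K := Ideal.span {s}) (X 0 : MvPolynomial (Fin 2) R)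
      (G := eps p s i - 1) (eps_sub_one_coeff p s i)
    rwa [map_sub, map_one] at this
  have h1 : Polynomial.aeval (X 1 : MvPolynomial (Fin 2) R) (eps p s i) - 1
      ∈ KI (Ideal.span {s}) (Fin 2) := by
    have := paeval_mem_KI (K := Ideal.span {s}) (X 1 : MvPolynomial (Fin 2) R)
      (G := eps p s i - 1) (eps_sub_one_coeff p s i)
    rwa [map_sub, map_one] at this
  have : Df (eps p s i) - 1
      = (Polynomial.aeval (X 0 : MvPolynomial (Fin 2) R) (eps p s i) - 1)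
          * Polynomial.aeval (X 1 : MvPolynomial (Fin 2) R) (eps p s i)
        + (Polynomial.aeval (X 1 : MvPolynomial (Fin 2) R) (eps p s i) - 1) := by
    rw [Df]; ring
  rw [this]
  exact Ideal.add_mem _ (Ideal.mul_mem_right _ _ h0) h1

theorem eps_ASpl (hp0 : (p : R) = 0) (s : R) (i : ℕ) (J : Ideal R) (hJ : s ^ (p + 1) ∈ J) :
    ASpl (KI J (Fin 2)) (eps p s i) (1 + C (s ^ p) * SQ (R := R) p i) := by
  unfold ASpl
  have hle : KI (Ideal.span {s ^ (p + 1)}) (Fin 2) ≤ KI J (Fin 2) :=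
    KI_mono ((Ideal.span_singleton_le_iff_mem _).2 hJ) _
  have h1 := hle (eps_spec p hp0 s i)
  have h2 : C (s ^ p) * (Df (eps p s i) - 1) ∈ KI (Ideal.span {s ^ (p + 1)}) (Fin 2) := by
    have := C_mul_mem_KI (b := s ^ p) (Df_eps_sub_one p s i)
    rwa [← pow_succ] at this
  have h3 := hle h2
  have : Af (eps p s i) - Df (eps p s i) * (1 + C (s ^ p) * SQ (R := R) p i)
      = -(Df (eps p s i) - Af (eps p s i) + C (s ^ p) * SQ (R := R) p i)
        - (C (s ^ p) * (Df (eps p s i) - 1)) * SQ (R := R) p i := by ring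
  rw [this]
  exact Ideal.sub_mem _ (neg_mem h1) (Ideal.mul_mem_right _ _ h3)

theorem KI_bot (σ : Type*) : KI (⊥ : Ideal R) σ = ⊥ := by
  rw [KI, Ideal.map_bot]

theorem key_aux (hp0 : (p : R) = 0) (hF : ∀ x : R, ∃ y, y ^ p = x) :
    ∀ (t : ℕ) (ρ : R) (m e : ℕ), ρ ^ (2 * p ^ m) = 0 → p ^ m ≤ e →
      2 * p ^ (m + t) ≤ e * (p + 1) ^ t →
      ∀ h : MvPolynomial (Fin 2) R, IsCoc h → h - 1 ∈ KI (Ideal.span {ρ ^ e}) (Fin 2) →
        ∃ f : Polynomial R, IsUnit f ∧ ASpl ⊥ f h := by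
  intro t
  induction t with
  | zero =>
    intro ρ m e hρ _ hte h _ hh
    have h0 : ρ ^ e = 0 := by
      have : e = 2 * p ^ m + (e - 2 * p ^ m) := by
        simp only [add_zero, pow_zero, mul_one] at hte
        omega
      rw [this, pow_add, hρ, zero_mul]
    rw [h0, Ideal.span_singleton_zero, KI_bot, Ideal.mem_bot, sub_eq_zero] at hh
    rw [hh]
    exact ⟨1, isUnit_one, ASpl_one⟩
  | succ t ih =>
    intro ρ m e hρ hme hte h H hh
    have hcc : ρ ^ e * ρ ^ e = 0 := by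
      rw [← pow_add]
      have : e + e = 2 * p ^ m + (e + e - 2 * p ^ m) := by omega
      rw [this, pow_add, hρ, zero_mul]
    have hK : ∀ x ∈ Ideal.span {ρ ^ e}, ∀ y ∈ Ideal.span {ρ ^ e}, x * y = 0 := by
      intro x hx y hy
      obtain ⟨a, rfl⟩ := Ideal.mem_span_singleton'.1 hx
      obtain ⟨b, rfl⟩ := Ideal.mem_span_singleton'.1 hy
      calc a * ρ ^ e * (b * ρ ^ e) = a * b * (ρ ^ e * ρ ^ e) := by ring
        _ = 0 := by rw [hcc, mul_zero]
    obtain ⟨G, N, r, hG, hr, hdec⟩ := decompose p hp0 hK H hh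
    obtain ⟨ρ', hρ'⟩ := hF ρ
    have hσ : (ρ' ^ e) ^ p = ρ ^ e := by
      rw [← pow_mul, mul_comm, pow_mul, hρ']
    have hts : ∀ s, ∃ τ : R, (ρ' ^ e * τ) ^ p = r s := by
      intro s
      obtain ⟨a, ha⟩ := Ideal.mem_span_singleton'.1 (hr s)
      obtain ⟨τ, hτ⟩ := hF a
      exact ⟨τ, by rw [mul_pow, hσ, hτ, mul_comm, ha]⟩
    choose τ hτ using hts
    have hnil : ∀ s, IsNilpotent (ρ' ^ e * τ s) := by
      intro s
      refine ⟨p * 2, ?_⟩
      rw [pow_mul, hτ, pow_two]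
      exact hK _ (hr s) _ (hr s)
    have hsp : ∀ s, ASpl (KI (Ideal.span {ρ ^ e * ρ' ^ e}) (Fin 2)) (eps p (ρ' ^ e * τ s) s)
        (1 + C (r s) * SQ (R := R) p s) := by
      intro s
      have h1 := eps_ASpl p hp0 (ρ' ^ e * τ s) s (Ideal.span {ρ ^ e * ρ' ^ e}) (by
        rw [pow_succ, hτ]
        obtain ⟨a, ha⟩ := Ideal.mem_span_singleton'.1 (hr s)
        rw [← ha]
        exact Ideal.mem_span_singleton'.2 ⟨a * τ s, by ring⟩)
      rwa [hτ] at h1
    have hfu : IsUnit ((1 + G) * ∏ s ∈ Finset.range N, eps p (ρ' ^ e * τ s) s) := by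
      refine (one_add_G hK G hG).1.mul ?_
      exact Finset.prod_induction _ IsUnit (fun _ _ ha hb => ha.mul hb) isUnit_one
        (fun s _ => isUnit_eps p _ (hnil s) s)
    have hfs : ASpl (KI (Ideal.span {ρ ^ e * ρ' ^ e}) (Fin 2))
        ((1 + G) * ∏ s ∈ Finset.range N, eps p (ρ' ^ e * τ s) s) h := by
      rw [hdec]
      exact ASpl_mul (ASpl_mono bot_le (one_add_G hK G hG).2)
        (ASpl_prod _ _ _ (fun s _ => hsp s))
    obtain ⟨h'', w', H'', _, hh'', hback⟩ := reduce _ hfu H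
    have hce : ρ ^ e * ρ' ^ e = ρ' ^ ((p + 1) * e) := by
      rw [← hρ', ← pow_mul, ← pow_add]
      congr 1
      ring
    have hh''J : h'' - 1 ∈ KI (Ideal.span {ρ' ^ ((p + 1) * e)}) (Fin 2) := by
      rw [← hce, hh'']
      exact neg_mem (Ideal.mul_mem_right _ _ hfs)
    have c1 : ρ' ^ (2 * p ^ (m + 1)) = 0 := by
      have : 2 * p ^ (m + 1) = p * (2 * p ^ m) := by rw [pow_succ]; ring
      rw [this, pow_mul, hρ', hρ]
    have c2 : p ^ (m + 1) ≤ (p + 1) * e := by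
      calc p ^ (m + 1) = p * p ^ m := by rw [pow_succ]; ring
        _ ≤ (p + 1) * e := Nat.mul_le_mul (Nat.le_succ p) hme
    have c3 : 2 * p ^ (m + 1 + t) ≤ (p + 1) * e * (p + 1) ^ t := by
      have : m + 1 + t = m + (t + 1) := by ring
      rw [this]
      calc 2 * p ^ (m + (t + 1)) ≤ e * (p + 1) ^ (t + 1) := hte
        _ = (p + 1) * e * (p + 1) ^ t := by rw [pow_succ]; ring
    obtain ⟨φ, hφu, hφ⟩ := ih ρ' (m + 1) ((p + 1) * e) c1 c2 c3 h'' H'' hh''J
    exact ⟨_, hfu.mul hφu, hback ⊥ φ hφ⟩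

theorem SQ_sym (hp0 : (p : R) = 0) (s : ℕ) : Sw (SQ (R := R) p s) = SQ p s := by
  rcases subsingleton_or_nontrivial R with h | h
  · exact Subsingleton.elim _ _
  · have : CharP R p := (CharP.charP_iff_prime_eq_zero hp.out).2 hp0
    exact SpQ_sym (R := R) p (p ^ s)

theorem SQ_coc (hp0 : (p : R) = 0) (s : ℕ) :
    T1 (SQ (R := R) p s) + T2 (SQ (R := R) p s) - T3 (SQ (R := R) p s) - T4 (SQ (R := R) p s)
      = 0 := by
  rcases subsingleton_or_nontrivial R with h | h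
  · exact Subsingleton.elim _ _
  · have : CharP R p := (CharP.charP_iff_prime_eq_zero hp.out).2 hp0
    exact SpQ_coc (R := R) p s

theorem one_add_isCoc (hp0 : (p : R) = 0) (r : R) (hr : r * r = 0) (s : ℕ) :
    IsCoc (1 + C r * SQ (R := R) p s) := by
  constructor
  · rw [map_add, map_one, map_mul, SQ_sym p hp0]
    congr 2
    simp [Sw]
  · have hC : ∀ T : MvPolynomial (Fin 2) R →ₐ[R] MvPolynomial (Fin 3) R,
        T (1 + C r * SQ (R := R) p s) = 1 + C r * T (SQ (R := R) p s) := by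
      intro T
      rw [map_add, map_one, map_mul]
      congr 2
      exact T.commutes r
    rw [hC, hC, hC, hC]
    have hrr : (C r : MvPolynomial (Fin 3) R) * C r = 0 := by rw [← C_mul, hr, C_0]
    have h := SQ_coc (R := R) p hp0 s
    linear_combination (C r) * h + (T2 (SQ (R := R) p s) * T1 (SQ (R := R) p s)
      - T3 (SQ (R := R) p s) * T4 (SQ (R := R) p s)) * hrr

theorem bern (T : ℕ) : (p + T) * p ^ T ≤ p * (p + 1) ^ T := by
  induction T with
  | zero => simp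
  | succ T ih =>
    calc (p + (T + 1)) * p ^ (T + 1) = (p * p + p * T + p) * p ^ T := by rw [pow_succ]; ring
      _ ≤ (p + 1) * ((p + T) * p ^ T) := by
          have : (p + 1) * ((p + T) * p ^ T) = (p * p + p * T + p + T) * p ^ T := by ring
          rw [this]
          exact Nat.mul_le_mul_right _ (Nat.le_add_right _ _)
      _ ≤ (p + 1) * (p * (p + 1) ^ T) := Nat.mul_le_mul_left _ ih
      _ = p * (p + 1) ^ (T + 1) := by rw [pow_succ]; ring

theorem key (hp0 : (p : R) = 0) (hF : ∀ x : R, ∃ y, y ^ p = x) {K : Ideal R}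
    (hK : ∀ x ∈ K, ∀ y ∈ K, x * y = 0) {h : MvPolynomial (Fin 2) R} (H : IsCoc h)
    (hh : h - 1 ∈ KI K (Fin 2)) : ∃ f : Polynomial R, IsUnit f ∧ ASpl ⊥ f h := by
  have hpp : 0 < p := hp.out.pos
  obtain ⟨G, N, r, hG, hr, hdec⟩ := decompose p hp0 hK H hh
  have hone : ∀ s, ∃ f : Polynomial R, IsUnit f ∧ ASpl ⊥ f (1 + C (r s) * SQ (R := R) p s) := by
    intro s
    have hrr : r s * r s = 0 := hK _ (hr s) _ (hr s)
    refine key_aux p hp0 hF p (r s) 0 1 ?_ ?_ ?_ _ (one_add_isCoc p hp0 (r s) hrr s) ?_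
    · rw [pow_zero, mul_one, pow_two, hrr]
    · simp
    · rw [zero_add, one_mul]
      have h1 := bern p p
      have h2 : p * (2 * p ^ p) ≤ p * (p + 1) ^ p := by
        calc p * (2 * p ^ p) = (p + p) * p ^ p := by ring
          _ ≤ p * (p + 1) ^ p := h1
      exact Nat.le_of_mul_le_mul_left h2 hpp
    · rw [add_sub_cancel_left, pow_one]
      exact Ideal.mul_mem_right _ _ (C_mem_KI (Ideal.subset_span rfl))
  choose φ hφu hφ using hone
  refine ⟨(1 + G) * ∏ s ∈ Finset.range N, φ s, ?_, ?_⟩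
  · refine (one_add_G hK G hG).1.mul ?_
    exact Finset.prod_induction _ IsUnit (fun _ _ ha hb => ha.mul hb) isUnit_one
      (fun s _ => hφu s)
  · rw [hdec]
    exact ASpl_mul (one_add_G hK G hG).2 (ASpl_prod _ _ _ (fun s _ => hφ s))

end Groth.Agent.H9.Ext
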