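import Mathlib
import Groth.Agent.Lib.Helper9.Misc.Ext7

/-! Helper9: Ext(G_a,G_m) with section splits over rings with surjective Frobenius: main induction -/

namespace Groth.Agent.H9.Ext

universe u

open MvPolynomial Groth.Agent.H9.Laz

set_option linter.unusedSectionVars false

section nat

variable {R : Type u} [CommRing R] {R' : Type u} [CommRing R'] (π : R →+* R')

theorem map_aeval' {σ τ : Type*} (g : σ → MvPolynomial τ R) (Q : MvPolynomial σ R) :
    map π (aeval g Q) = aeval (fun i => map π (g i)) (map π Q) := by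
  induction Q using MvPolynomial.induction_on with
  | C a => simp
  | add p q hp hq => rw [map_add, map_add, map_add, map_add, hp, hq]
  | mul_X p i h => rw [map_mul, map_mul, map_mul, map_mul, h, aeval_X, map_X, aeval_X]

theorem map_paeval {τ : Type*} (y : MvPolynomial τ R) (f : Polynomial R) :
    map π (Polynomial.aeval y f) = Polynomial.aeval (map π y) (f.map π) := by
  induction f using Polynomial.induction_on with
  | C a => simp
  | add p q hp hq => rw [map_add, map_add, Polynomial.map_add, map_add, hp, hq]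
  | monomial n a h =>
    simp only [map_mul, map_pow, Polynomial.aeval_C, Polynomial.aeval_X, Polynomial.map_mul,
      Polynomial.map_pow, Polynomial.map_C, Polynomial.map_X, algebraMap_eq, map_C]

theorem map_Af (f : Polynomial R) : map π (Af f) = Af (f.map π) := by
  rw [Af, Af, map_paeval, map_add, map_X, map_X]

theorem map_Df (f : Polynomial R) : map π (Df f) = Df (f.map π) := by
  rw [Df, Df, map_mul, map_paeval, map_paeval, map_X, map_X]

theorem map_isCoc {h : MvPolynomial (Fin 2) R} (H : IsCoc h) : IsCoc (map π h) := by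
  have e1 : (fun i => map π (![(X 0 : MvPolynomial (Fin 3) R), X 1 + X 2] i))
      = ![(X 0 : MvPolynomial (Fin 3) R'), X 1 + X 2] := by
    funext i
    fin_cases i <;> simp
  have e2 : (fun i => map π (![(X 1 : MvPolynomial (Fin 3) R), X 2] i))
      = ![(X 1 : MvPolynomial (Fin 3) R'), X 2] := by
    funext i
    fin_cases i <;> simp
  have e3 : (fun i => map π (![(X 0 : MvPolynomial (Fin 3) R) + X 1, X 2] i))
      = ![(X 0 : MvPolynomial (Fin 3) R') + X 1, X 2] := by
    funext i
    fin_cases i <;> simp
  have e4 : (fun i => map π (![(X 0 : MvPolynomial (Fin 3) R), X 1] i))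
      = ![(X 0 : MvPolynomial (Fin 3) R'), X 1] := by
    funext i
    fin_cases i <;> simp
  have e5 : (fun i => map π (![(X 1 : MvPolynomial (Fin 2) R), X 0] i))
      = ![(X 1 : MvPolynomial (Fin 2) R'), X 0] := by
    funext i
    fin_cases i <;> simp
  constructor
  · have := congrArg (map π) H.sym
    rw [Sw, map_aeval', e5] at this
    exact this
  · have := congrArg (map π) H.coc
    rw [map_mul, map_mul, T1, T2, T3, T4, map_aeval', map_aeval', map_aeval', map_aeval',
      e1, e2, e3, e4] at this
    exact this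

end nat

theorem main_aux (p : ℕ) [hp : Fact p.Prime] :
    ∀ (M : ℕ) (R : Type u) [CommRing R], (p : R) = 0 → (∀ x : R, ∃ y, y ^ p = x) →
      ∀ I : Ideal R, I ^ M = ⊥ → ∀ h : MvPolynomial (Fin 2) R, IsCoc h → h - 1 ∈ KI I (Fin 2) →
        ∃ f : Polynomial R, IsUnit f ∧ ASpl ⊥ f h := by
  intro M
  induction M with
  | zero =>
    intro R _ _ _ I hI h _ _
    rw [pow_zero, Ideal.one_eq_top] at hI
    have h10 : (1 : R) = 0 := by
      have : (1 : R) ∈ (⊤ : Ideal R) := Submodule.mem_top
      rw [hI, Ideal.mem_bot] at this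
      exact this
    have hs : Subsingleton R := subsingleton_of_zero_eq_one h10.symm
    refine ⟨1, isUnit_one, ?_⟩
    rw [ASpl_bot]
    exact Subsingleton.elim _ _
  | succ M ih =>
    intro R _ hp0 hF I hI h H hh
    by_cases hM : M = 0
    · subst hM
      rw [zero_add, pow_one] at hI
      rw [hI, KI_bot, Ideal.mem_bot, sub_eq_zero] at hh
      rw [hh]
      exact ⟨1, isUnit_one, ASpl_one⟩
    · have hK : ∀ x ∈ I ^ M, ∀ y ∈ I ^ M, x * y = 0 := by
        intro x hx y hy
        have h1 : x * y ∈ I ^ M * I ^ M := Ideal.mul_mem_mul hx hy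
        rw [← pow_add] at h1
        have h2 : I ^ (M + M) ≤ I ^ (M + 1) := Ideal.pow_le_pow_right (by omega)
        have h3 := h2 h1
        rw [hI] at h3
        exact h3
      set K := I ^ M with hKdef
      let π : R →+* R ⧸ K := Ideal.Quotient.mk K
      have hπ : Function.Surjective π := Ideal.Quotient.mk_surjective
      have hp0' : ((p : ℕ) : R ⧸ K) = 0 := by
        rw [← map_natCast π, hp0, map_zero]
      have hF' : ∀ x : R ⧸ K, ∃ y, y ^ p = x := by
        intro x'
        obtain ⟨x, rfl⟩ := hπ x'
        obtain ⟨y, hy⟩ := hF x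
        exact ⟨π y, by rw [← map_pow, hy]⟩
      have hI' : (I.map π) ^ M = ⊥ := by
        rw [← Ideal.map_pow, ← hKdef]
        exact Ideal.map_quotient_self K
      have hh' : map π h - 1 ∈ KI (I.map π) (Fin 2) := by
        rw [mem_KI]
        intro m
        have : map π h - 1 = map π (h - 1) := by rw [map_sub, map_one]
        rw [this, coeff_map]
        exact Ideal.mem_map_of_mem _ (mem_KI.1 hh m)
      obtain ⟨f', hf'u, hf'⟩ := ih (R ⧸ K) hp0' hF' (I.map π) hI' (map π h) (map_isCoc π H) hh'
      obtain ⟨g', hg'⟩ := hf'u.exists_right_inv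
      obtain ⟨f, rfl⟩ := Polynomial.map_surjective π hπ f'
      obtain ⟨g, rfl⟩ := Polynomial.map_surjective π hπ g'
      have hfu : IsUnit f := by
        have h1 : IsNilpotent (f * g - 1) := by
          rw [Polynomial.isNilpotent_iff]
          intro n
          have h2 : π ((f * g - 1).coeff n) = 0 := by
            rw [← Polynomial.coeff_map, Polynomial.map_sub, Polynomial.map_mul, hg',
              Polynomial.map_one, sub_self, Polynomial.coeff_zero]
          have h3 : (f * g - 1).coeff n ∈ K := Ideal.Quotient.eq_zero_iff_mem.1 h2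
          exact ⟨2, by rw [pow_two]; exact hK _ h3 _ h3⟩
        have h2 := h1.isUnit_one_add
        rw [add_sub_cancel] at h2
        exact isUnit_of_mul_isUnit_left h2
      have hfs : ASpl (KI K (Fin 2)) f h := by
        unfold ASpl
        rw [mem_KI]
        intro m
        apply Ideal.Quotient.eq_zero_iff_mem.1
        have h1 : map π (Af f - Df f * h) = 0 := by
          rw [map_sub, map_mul, map_Af, map_Df, sub_eq_zero]
          exact ASpl_bot.1 hf'
        have h2 := congrArg (coeff m) h1
        rw [coeff_map, coeff_zero] at h2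
        exact h2
      obtain ⟨h'', w', H'', _, hh'', hback⟩ := reduce f hfu H
      have hh''K : h'' - 1 ∈ KI K (Fin 2) := by
        rw [hh'']
        exact neg_mem (Ideal.mul_mem_right _ _ hfs)
      obtain ⟨φ, hφu, hφ⟩ := key p hp0 hF hK H'' hh''K
      exact ⟨f * φ, hfu.mul hφu, hback ⊥ φ hφ⟩

theorem main (p : ℕ) [Fact p.Prime] (R : Type u)
    [CommRing R] [CharP R p] (hF : Function.Surjective (frobenius R p))
    (h : MvPolynomial (Fin 2) R) (hu : IsUnit h)
    (h0 : MvPolynomial.aeval ![(MvPolynomial.X 0 : MvPolynomial (Fin 2) R), 0] h = 1)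
    (hsymm : MvPolynomial.aeval ![(MvPolynomial.X 1 : MvPolynomial (Fin 2) R), MvPolynomial.X 0] h = h)
    (hcoc : MvPolynomial.aeval ![(MvPolynomial.X 1 : MvPolynomial (Fin 3) R), MvPolynomial.X 2] h *
        MvPolynomial.aeval ![MvPolynomial.X 0, MvPolynomial.X 1 + MvPolynomial.X 2] h =
      MvPolynomial.aeval ![MvPolynomial.X 0 + MvPolynomial.X 1, MvPolynomial.X 2] h *
        MvPolynomial.aeval ![MvPolynomial.X 0, MvPolynomial.X 1] h) :
    ∃ f : Polynomial R, IsUnit f ∧
      Polynomial.aeval (MvPolynomial.X 0 + MvPolynomial.X 1 : MvPolynomial (Fin 2) R) f =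
        Polynomial.aeval (MvPolynomial.X 0 : MvPolynomial (Fin 2) R) f *
          Polynomial.aeval (MvPolynomial.X 1 : MvPolynomial (Fin 2) R) f * h := by
  have hp0 : ((p : ℕ) : R) = 0 := CharP.cast_eq_zero R p
  have hF' : ∀ x : R, ∃ y, y ^ p = x := by
    intro x
    obtain ⟨y, hy⟩ := hF x
    exact ⟨y, by rw [← hy, frobenius_def]⟩
  have H : IsCoc h := ⟨hsymm, hcoc⟩
  have hc0 : coeff 0 h = 1 := by
    have h1 := congrArg (aeval (fun _ : Fin 2 => (0 : R))) h0
    rw [comp_aeval_apply, map_one] at h1
    have h2 : (fun i => aeval (fun _ : Fin 2 => (0 : R)) (![(X 0 : MvPolynomial (Fin 2) R), 0] i))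
        = fun _ => (0 : R) := by
      funext i
      fin_cases i <;> simp
    rw [h2, aeval_zero'] at h1
    simpa [constantCoeff_eq] using h1
  have hnil : ∀ m, IsNilpotent (coeff m (h - 1)) := by
    intro m
    rw [coeff_sub]
    by_cases hm : m = 0
    · rw [hm, hc0, coeff_zero_one, sub_self]
      exact IsNilpotent.zero
    · rw [coeff_one, if_neg (fun hh => hm hh.symm), sub_zero]
      exact (MvPolynomial.isUnit_iff.1 hu).2 m hm
  classical
  set I : Ideal R := Ideal.span (((h - 1).support.image (fun m => coeff m (h - 1)) : Finset R) : Set R)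
    with hIdef
  have hmem : ∀ m, coeff m (h - 1) ∈ I := by
    intro m
    by_cases hm : m ∈ (h - 1).support
    · exact Ideal.subset_span (Finset.mem_coe.2 (Finset.mem_image_of_mem _ hm))
    · rw [notMem_support_iff.1 hm]
      exact I.zero_mem
  have hIfg : I.FG := ⟨_, rfl⟩
  have hIle : I ≤ nilradical R := by
    rw [hIdef, Ideal.span_le]
    intro x hx
    obtain ⟨m, _, rfl⟩ := Finset.mem_image.1 (Finset.mem_coe.1 hx)
    exact (mem_nilradical).2 (hnil m)
  obtain ⟨M, hM⟩ := hIfg.isNilpotent_iff_le_nilradical.2 hIle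
  obtain ⟨f, hfu, hf⟩ := main_aux p M R hp0 hF' I hM h H (mem_KI.2 hmem)
  refine ⟨f, hfu, ?_⟩
  have := ASpl_bot.1 hf
  rw [Af, Df] at this
  exact this

end Groth.Agent.H9.Ext
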