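import Mathlib

/-!
# Finite birational morphisms as blow-ups: algebra
-/

set_option autoImplicit false

namespace Groth.Agent.H9.FBL

universe u

variable {A B : Type u} [CommRing A] [CommRing B] (φ : A →+* B) (t : A)

theorem injective_of_loc (ht : t ∈ nonZeroDivisors A)
    (hinj : ∀ a, φ a = 0 → ∃ k : ℕ, t ^ k * a = 0) : Function.Injective φ := by
  rw [injective_iff_map_eq_zero]
  intro a ha
  obtain ⟨k, hk⟩ := hinj a ha
  have := pow_mem ht k
  exact (mem_nonZeroDivisors_iff.mp this).1 a hk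

theorem exists_pow_mul_mem_range (hfin : φ.Finite)
    (hsurj : ∀ b : B, ∃ (m : ℕ) (a : A), φ t ^ m * b = φ a) :
    ∃ n : ℕ, 1 ≤ n ∧ ∀ b : B, ∃ a : A, φ a = φ t ^ n * b := by
  classical
  letI := φ.toAlgebra
  have hfin' : Module.Finite A B := hfin
  obtain ⟨s, hs⟩ := hfin'.fg_top
  choose m a hma using hsurj
  refine ⟨1 + ∑ b ∈ s, m b, by omega, fun b ↦ ?_⟩
  have hb : b ∈ Submodule.span A (s : Set B) := hs ▸ Submodule.mem_top
  induction hb using Submodule.span_induction with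
  | mem x hx =>
    refine ⟨t ^ (1 + ∑ b ∈ s, m b - m x) * a x, ?_⟩
    have hle : m x ≤ 1 + ∑ b ∈ s, m b :=
      (Finset.single_le_sum (f := m) (fun _ _ => Nat.zero_le _) hx).trans (Nat.le_add_left _ _)
    rw [map_mul, map_pow, ← hma x, ← mul_assoc, ← pow_add, Nat.sub_add_cancel hle]
  | zero => exact ⟨0, by simp⟩
  | add x y _ _ hx hy =>
    obtain ⟨a1, h1⟩ := hx
    obtain ⟨a2, h2⟩ := hy
    exact ⟨a1 + a2, by rw [map_add, h1, h2, mul_add]⟩
  | smul c x _ hx =>
    obtain ⟨a1, h1⟩ := hx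
    refine ⟨c * a1, ?_⟩
    rw [map_mul, h1, Algebra.smul_def]
    change _ = _ * (φ c * x)
    ring

theorem map_comap_span (n : ℕ) :
    Ideal.map φ ((Ideal.span {φ t ^ n}).comap φ) = Ideal.span {φ t ^ n} := by
  apply le_antisymm Ideal.map_comap_le
  rw [Ideal.span_le, Set.singleton_subset_iff]
  have h1 : t ^ n ∈ (Ideal.span {φ t ^ n}).comap φ := by
    rw [Ideal.mem_comap, map_pow]
    exact Ideal.subset_span rfl
  have h2 := Ideal.mem_map_of_mem φ h1
  rwa [map_pow] at h2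

theorem map_subset_image (n : ℕ) (h : ∀ b : B, ∃ a : A, φ a = φ t ^ n * b) :
    (Ideal.map φ ((Ideal.span {φ t ^ n}).comap φ) : Set B) ⊆
      φ '' ((Ideal.span {φ t ^ n}).comap φ : Set A) := by
  intro x hx
  have hx' : x ∈ Ideal.span {φ t ^ n} := Ideal.map_comap_le hx
  obtain ⟨b, rfl⟩ := Ideal.mem_span_singleton'.mp hx'
  obtain ⟨a, ha⟩ := h b
  refine ⟨a, ?_, by rw [ha, mul_comm]⟩
  rw [SetLike.mem_coe, Ideal.mem_comap, ha, mul_comm]
  exact hx'

section Loc

variable (A' B' : Type u) [CommRing A'] [CommRing B'] [Algebra A A'] [Algebra B B']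
  [IsLocalization.Away t A'] [IsLocalization.Away (φ t) B']

theorem exists_pow_mul_eq_of_bijective (hφt : φ t ∈ nonZeroDivisors B)
    (hbij : Function.Bijective (IsLocalization.Away.map A' B' φ t)) (b : B) :
    ∃ (m : ℕ) (a : A), φ t ^ m * b = φ a := by
  obtain ⟨s, hs⟩ := hbij.2 (algebraMap B B' b)
  obtain ⟨⟨a, ⟨_, m, rfl⟩⟩, ha⟩ := IsLocalization.surj (Submonoid.powers t) s
  have h1 := congrArg (IsLocalization.Away.map A' B' φ t) ha
  rw [map_mul, hs, IsLocalization.Away.map, IsLocalization.map_eq, IsLocalization.map_eq,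
    ← map_mul] at h1
  obtain ⟨⟨_, k, rfl⟩, hc⟩ := (IsLocalization.eq_iff_exists (Submonoid.powers (φ t)) B').mp h1
  refine ⟨m, a, ?_⟩
  have hk : φ t ^ k ∈ nonZeroDivisors B := pow_mem hφt k
  have h2 : φ t ^ k * (b * φ (t ^ m) - φ a) = 0 := by
    rw [mul_sub, sub_eq_zero]; exact hc
  have h3 := (mem_nonZeroDivisors_iff.mp hk).1 _ h2
  rw [sub_eq_zero] at h3
  rw [← h3, map_pow, mul_comm]

theorem exists_pow_mul_eq_zero_of_bijective
    (hbij : Function.Bijective (IsLocalization.Away.map A' B' φ t)) (a : A) (ha : φ a = 0) :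
    ∃ k : ℕ, t ^ k * a = 0 := by
  have h1 : IsLocalization.Away.map A' B' φ t (algebraMap A A' a) = 0 := by
    rw [IsLocalization.Away.map, IsLocalization.map_eq, ha, map_zero]
  have h2 : algebraMap A A' a = 0 := hbij.1 (by rw [h1, map_zero])
  obtain ⟨⟨_, k, rfl⟩, hc⟩ := (IsLocalization.map_eq_zero_iff (Submonoid.powers t) A' a).mp h2
  exact ⟨k, hc⟩

end Loc

end Groth.Agent.H9.FBL
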