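import Mathlib
import Groth.Agent.Lib.Helper9.Misc.MDP8
import Groth.Agent.Lib.Helper9.Misc.BLA13

/-! Helper9: S18751 — the projection of an ambient product inherits finite type / universally closed / proper. -/

set_option linter.style.haveILetI false
set_option linter.unusedSectionVars false
set_option linter.unusedVariables false

universe u
open CategoryTheory Limits AlgebraicGeometry TopologicalSpace Opposite

namespace Groth.Agent.H9.MDP

/-- the sum of two effective Cartier ideal sheaves is locally finitely generated. -/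
theorem locally_fg_sup {Y : Scheme.{u}} (D₁ D₂ : Y.IdealSheafData)
    (h₁ : BlowUp.IsEffCartierIdeal D₁) (h₂ : BlowUp.IsEffCartierIdeal D₂) (x : Y) :
    ∃ U : Y.affineOpens, x ∈ U.1 ∧ ((D₁ ⊔ D₂).ideal U).FG := by
  obtain ⟨U₁, hx₁, a₁, ha₁, hI₁⟩ := h₁ x
  obtain ⟨U, hxU, hUle, a₂, ha₂, hI₂⟩ :=
    Groth.Agent.LD.QC.exists_affine_principal_le D₂ h₂ x U₁.1 hx₁
  obtain ⟨-, hI₁'⟩ := Groth.Agent.LD.QC.principal_res D₁ (U₀ := U₁) (U := U) hUle a₁ ha₁ hI₁
  refine ⟨U, hxU, ?_⟩
  change (D₁.ideal U ⊔ D₂.ideal U).FG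
  rw [hI₁', hI₂]
  exact Submodule.FG.sup (Submodule.fg_span_singleton _) (Submodule.fg_span_singleton _)

theorem S18751_main {S T X Y : Scheme.{u}}
    (J : T.IdealSheafData) (I : X.IdealSheafData)
    (hT : BlowUp.IsEffCartierIdeal J) (hX : BlowUp.IsEffCartierIdeal I)
    (f : X ⟶ S) (g : T ⟶ S)
    (π : Y ⟶ ModPair.mprod f g I J) (K : Y.IdealSheafData) (hY : ModPair.IsAmbProd f g I J π K) :
    ((LocallyOfFiniteType f ∧ QuasiCompact f) →
        LocallyOfFiniteType (π ≫ ModPair.mprodι f g I J ≫ pullback.snd f g) ∧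
          QuasiCompact (π ≫ ModPair.mprodι f g I J ≫ pullback.snd f g)) ∧
      (UniversallyClosed f → UniversallyClosed (π ≫ ModPair.mprodι f g I J ≫ pullback.snd f g)) ∧
      (IsProper f → IsProper (π ≫ ModPair.mprodι f g I J ≫ pullback.snd f g)) := by
  haveI hπ : IsProper π := by
    refine Groth.Agent.H9.BLA.IsBlowUp.isProper_of_locally_fg hY.1 ?_
    intro x
    exact locally_fg_sup _ _ (isEffCartier_comap_fst_mprod f g I J hX hT)
      (isEffCartier_comap_snd_mprod f g I J hX hT) x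
  refine ⟨?_, ?_, ?_⟩
  · rintro ⟨h1, h2⟩
    exact ⟨inferInstance, inferInstance⟩
  · intro h
    infer_instance
  · intro h
    infer_instance

end Groth.Agent.H9.MDP
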