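import Mathlib
import Groth.Agent.Lib.Helper9.Misc.MDP1

/-! Helper9: S18735 — base change of an abstract admissible blow-up along an ambient morphism. -/

set_option linter.style.haveILetI false
set_option linter.unusedSectionVars false
set_option linter.unusedVariables false

universe u
open CategoryTheory Limits AlgebraicGeometry TopologicalSpace Opposite

namespace Groth.Agent.H9.MDP

variable {X Y Z W P S T : Scheme.{u}}

theorem prodInterior_eq_snd (IS : S.IdealSheafData) (IT : T.IdealSheafData)
    (IX : X.IdealSheafData) (g : T ⟶ S) (hg : ModPair.IsAmbient IT IS g) (s : X ⟶ S)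
    (hs : ModPair.IsMinimal IX IS s) :
    ModPair.prodInterior s g IX IT = pullback.snd s g ⁻¹ᵁ ModPair.interior IT := by
  unfold ModPair.prodInterior
  refine inf_eq_right.mpr ?_
  have h1 : ModPair.interior IX = s ⁻¹ᵁ ModPair.interior IS := by
    rw [hs, interior_comap]
  rw [h1, ← Scheme.Hom.comp_preimage, pullback.condition, Scheme.Hom.comp_preimage]
  exact (Scheme.Hom.preimage_mono _ (interior_le_of_isAmbient hg))

theorem S18735_main (IS : S.IdealSheafData) (IT : T.IdealSheafData)
    (IX : X.IdealSheafData) (hS : BlowUp.IsEffCartierIdeal IS)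
    (hT : BlowUp.IsEffCartierIdeal IT) (hX : BlowUp.IsEffCartierIdeal IX)
    (g : T ⟶ S) (hg : ModPair.IsAmbient IT IS g)
    (s : X ⟶ S) (hs : ModPair.IsAdmBlowup IX IS s) :
    BlowUp.IsEffCartierIdeal (IT.comap (ModPair.mprodι s g IX IT ≫ pullback.snd s g)) ∧
      ModPair.IsAdmBlowup (IT.comap (ModPair.mprodι s g IX IT ≫ pullback.snd s g)) IT
        (ModPair.mprodι s g IX IT ≫ pullback.snd s g) ∧
      ModPair.IsAmbient (IT.comap (ModPair.mprodι s g IX IT ≫ pullback.snd s g)) IX
        (ModPair.mprodι s g IX IT ≫ pullback.fst s g) := by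
  obtain ⟨hmin, hprop, hiso⟩ := hs
  haveI := hprop
  haveI := hiso
  haveI haff := isAffineHom_prodInterior s g IX IT hX hT
  have hP := prodInterior_eq_snd IS IT IX g hg s hmin
  have hpre : (ModPair.mprodι s g IX IT ≫ pullback.snd s g) ⁻¹ᵁ ModPair.interior IT =
      ModPair.mprodι s g IX IT ⁻¹ᵁ ModPair.prodInterior s g IX IT := by
    rw [hP, Scheme.Hom.comp_preimage]
  refine ⟨?_, ⟨rfl, inferInstance, ?_⟩, ?_⟩
  · haveI : IsSchemeTheoreticallyDominant
        ((ModPair.mprodι s g IX IT ≫ pullback.snd s g) ⁻¹ᵁ IT.support.compl).ι := by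
      change IsSchemeTheoreticallyDominant
        ((ModPair.mprodι s g IX IT ≫ pullback.snd s g) ⁻¹ᵁ ModPair.interior IT).ι
      rw [hpre]
      exact dominant_preimage_image _
    exact Groth.Agent.LD.QC.isEffCartierIdeal_comap_of_dense IT hT _
  · rw [morphismRestrict_comp]
    have i1 : IsIso (pullback.snd s g ∣_ ModPair.interior IT) :=
      isIso_restrict_of_isPullback (IsPullback.of_hasPullback s g) _ (ModPair.interior IS)
        (interior_le_of_isAmbient hg)
    have i2 : IsIso (ModPair.mprodι s g IX IT ∣_ pullback.snd s g ⁻¹ᵁ ModPair.interior IT) := by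
      rw [← hP]
      exact isIso_imageι_restrict _
    exact IsIso.comp_isIso' i2 i1
  · have hmin' : IX = IS.comap s := hmin
    have e : IX.comap (ModPair.mprodι s g IX IT ≫ pullback.fst s g) =
        (IS.comap g).comap (ModPair.mprodι s g IX IT ≫ pullback.snd s g) := by
      have e0 : ∀ (Y' : Scheme.{u}) (r : Y' ⟶ X), IX.comap r = (IS.comap s).comap r :=
        fun _ r => by rw [← hmin']
      rw [e0, ← Scheme.IdealSheafData.comap_comp, ← Scheme.IdealSheafData.comap_comp,
        Category.assoc, Category.assoc, pullback.condition]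
    have hg' : IT ≤ IS.comap g := hg
    change IT.comap _ ≤ IX.comap _
    rw [e]
    exact Scheme.IdealSheafData.comap_mono _ hg'

end Groth.Agent.H9.MDP
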