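import Mathlib
import Groth.Agent.Lib.Helper9.Misc.MDP2

/-! Helper9: S18738 — abstract admissible blow-ups admit a calculus of right fractions. -/

set_option linter.style.haveILetI false
set_option linter.unusedSectionVars false
set_option linter.unusedVariables false

universe u
open CategoryTheory Limits AlgebraicGeometry TopologicalSpace Opposite

namespace Groth.Agent.H9.MDP

variable {X Y Z W P S T : Scheme.{u}}

theorem isAdmBlowup_id (I : X.IdealSheafData) : ModPair.IsAdmBlowup I I (𝟙 X) := by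
  exact ⟨(Scheme.IdealSheafData.comap_id I).symm, inferInstance, inferInstance⟩

theorem isAdmBlowup_comp {I : X.IdealSheafData} {J : Y.IdealSheafData} {K : Z.IdealSheafData}
    {f : X ⟶ Y} {g : Y ⟶ Z} (hf : ModPair.IsAdmBlowup I J f) (hg : ModPair.IsAdmBlowup J K g) :
    ModPair.IsAdmBlowup I K (f ≫ g) := by
  obtain ⟨hf1, hf2, hf3⟩ := hf
  obtain ⟨hg1, hg2, hg3⟩ := hg
  have hf1' : I = J.comap f := hf1
  have hg1' : J = K.comap g := hg1
  refine ⟨?_, inferInstance, ?_⟩
  · change I = K.comap (f ≫ g)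
    rw [Scheme.IdealSheafData.comap_comp, ← hg1', ← hf1']
  · rw [morphismRestrict_comp]
    have e : ModPair.interior J = g ⁻¹ᵁ ModPair.interior K := by
      rw [hg1', interior_comap]
    have i1 : IsIso (f ∣_ g ⁻¹ᵁ ModPair.interior K) := by
      rw [← e]; exact hf3
    exact IsIso.comp_isIso' i1 hg3

/-- ambient morphisms into the source of an admissible blow-up with the same composite agree. -/
theorem ambient_ext {I : X.IdealSheafData} {J : Y.IdealSheafData} {K : Z.IdealSheafData}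
    (hI : BlowUp.IsEffCartierIdeal I)
    {f₁ f₂ : X ⟶ Y} (h₁ : ModPair.IsAmbient I J f₁) (h₂ : ModPair.IsAmbient I J f₂)
    {s : Y ⟶ Z} (hs : ModPair.IsAdmBlowup J K s) (h : f₁ ≫ s = f₂ ≫ s) : f₁ = f₂ := by
  obtain ⟨hs1, hs2, hs3⟩ := hs
  have hs1' : J = K.comap s := hs1
  haveI : IsSchemeTheoreticallyDominant (ModPair.interior I).ι :=
    Groth.Agent.LD.QC.isSchemeTheoreticallyDominant_compl_of_effCartier I hI
  have e : ModPair.interior J = s ⁻¹ᵁ ModPair.interior K := by
    rw [hs1', interior_comap]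
  have hle₁ : ModPair.interior I ≤ f₁ ⁻¹ᵁ (s ⁻¹ᵁ ModPair.interior K) := by
    rw [← e]; exact interior_le_of_isAmbient h₁
  have hle₂ : ModPair.interior I ≤ f₂ ⁻¹ᵁ (s ⁻¹ᵁ ModPair.interior K) := by
    rw [← e]; exact interior_le_of_isAmbient h₂
  refine ext_of_schDominant_of_isSeparated s h (ModPair.interior I).ι ?_
  have hu : f₁.resLE _ _ hle₁ = f₂.resLE _ _ hle₂ := by
    rw [← cancel_mono (s ∣_ ModPair.interior K), ← cancel_mono (ModPair.interior K).ι]
    simp only [Category.assoc, morphismRestrict_ι, Scheme.Hom.resLE_comp_ι_assoc]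
    rw [h]
  rw [← Scheme.Hom.resLE_comp_ι f₁ hle₁, ← Scheme.Hom.resLE_comp_ι f₂ hle₂, hu]

theorem S18738_main : (ModPair.Pair.admBlowup.{u}).HasRightCalculusOfFractions where
  id_mem P := isAdmBlowup_id P.mod
  comp_mem f g hf hg := isAdmBlowup_comp hf hg
  exists_rightFraction A B φ := by
    have key := S18735_main φ.Y'.mod A.mod B.mod φ.Y'.isEffCartier A.isEffCartier B.isEffCartier
      φ.f.hom φ.f.cond φ.s.hom φ.hs
    obtain ⟨k1, k2, k3⟩ := key
    let A' : ModPair.Pair.{u} :=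
      ⟨ModPair.mprod φ.s.hom φ.f.hom B.mod A.mod, _, k1⟩
    let s' : A' ⟶ A := ⟨ModPair.mprodι φ.s.hom φ.f.hom B.mod A.mod ≫ pullback.snd _ _, le_rfl⟩
    let f' : A' ⟶ B := ⟨ModPair.mprodι φ.s.hom φ.f.hom B.mod A.mod ≫ pullback.fst _ _, k3⟩
    refine ⟨⟨s', k2, f'⟩, ?_⟩
    apply ModPair.Pair.Hom.ext
    change (ModPair.mprodι φ.s.hom φ.f.hom B.mod A.mod ≫ pullback.snd _ _) ≫ φ.f.hom =
      (ModPair.mprodι φ.s.hom φ.f.hom B.mod A.mod ≫ pullback.fst _ _) ≫ φ.s.hom
    rw [Category.assoc, Category.assoc, pullback.condition]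
  ext A B B' f₁ f₂ s hs h := by
    refine ⟨A, 𝟙 A, isAdmBlowup_id A.mod, ?_⟩
    rw [Category.id_comp, Category.id_comp]
    apply ModPair.Pair.Hom.ext
    exact ambient_ext A.isEffCartier f₁.cond f₂.cond hs (congrArg ModPair.Pair.Hom.hom h)

end Groth.Agent.H9.MDP
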