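import Mathlib

/-! Helper9: localizations with a calculus of right fractions — common denominators, a criterion
for the image of a commutative square to be a pullback square, pullbacks and terminal objects. -/

set_option linter.style.haveILetI false
set_option linter.unusedSectionVars false
set_option linter.unusedVariables false

universe v₁ v₂ u₁ u₂
open CategoryTheory Limits

namespace Groth.Agent.H9.MDQ

variable {C : Type u₁} [Category.{v₁} C] {D : Type u₂} [Category.{v₂} D]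
variable (W : MorphismProperty C) [W.HasRightCalculusOfFractions] (L : C ⥤ D) [L.IsLocalization W]

include W in
/-- two morphisms out of `L.obj X` admit a common denominator. -/
theorem exists_common_rightFraction {X Y₁ Y₂ : C} (φ₁ : L.obj X ⟶ L.obj Y₁)
    (φ₂ : L.obj X ⟶ L.obj Y₂) :
    ∃ (X' : C) (s : X' ⟶ X) (_ : W s) (f₁ : X' ⟶ Y₁) (f₂ : X' ⟶ Y₂),
      L.map s ≫ φ₁ = L.map f₁ ∧ L.map s ≫ φ₂ = L.map f₂ := by
  obtain ⟨z₁, h₁⟩ := Localization.exists_rightFraction L W φ₁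
  obtain ⟨z₂, h₂⟩ := Localization.exists_rightFraction L W φ₂
  obtain ⟨ψ, hψ⟩ := (MorphismProperty.LeftFraction.mk z₂.s z₁.s z₁.hs).exists_rightFraction
  -- ψ.s : ψ.X' ⟶ z₂.X' in W, ψ.f : ψ.X' ⟶ z₁.X', ψ.s ≫ z₂.s = ψ.f ≫ z₁.s
  dsimp at hψ
  refine ⟨ψ.X', ψ.s ≫ z₂.s, W.comp_mem _ _ ψ.hs z₂.hs, ψ.f ≫ z₁.f, ψ.s ≫ z₂.f, ?_, ?_⟩
  · rw [h₁, hψ, L.map_comp, L.map_comp, Category.assoc,
      MorphismProperty.RightFraction.map_s_comp_map]
  · rw [h₂, L.map_comp, L.map_comp, Category.assoc,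
      MorphismProperty.RightFraction.map_s_comp_map]

include W in
/-- criterion for the image of a commutative square to be a pullback square. -/
theorem isPullback_map_of_fractions {Y T X P : C} (pT : Y ⟶ T) (pX : Y ⟶ X) (g : T ⟶ P)
    (f : X ⟶ P) (comm : pT ≫ g = pX ≫ f)
    (GE : ∀ (Z : C) (a : Z ⟶ T) (b : Z ⟶ X), a ≫ g = b ≫ f →
      ∃ (Z' : C) (t : Z' ⟶ Z) (_ : W t) (c : Z' ⟶ Y), c ≫ pT = t ≫ a ∧ c ≫ pX = t ≫ b)
    (GU : ∀ (Z : C) (d₁ d₂ : Z ⟶ Y), d₁ ≫ pT = d₂ ≫ pT → d₁ ≫ pX = d₂ ≫ pX → d₁ = d₂) :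
    IsPullback (L.map pT) (L.map pX) (L.map g) (L.map f) := by
  have hinv := Localization.inverts L W
  have hE : ∀ (Z : C) (a : L.obj Z ⟶ L.obj T) (b : L.obj Z ⟶ L.obj X),
      a ≫ L.map g = b ≫ L.map f →
      ∃ l : L.obj Z ⟶ L.obj Y, l ≫ L.map pT = a ∧ l ≫ L.map pX = b := by
    intro Z a b hab
    obtain ⟨Z₁, s, hs, a₁, b₁, ha, hb⟩ := exists_common_rightFraction W L a b
    have h1 : L.map (a₁ ≫ g) = L.map (b₁ ≫ f) := by
      rw [L.map_comp, L.map_comp, ← ha, ← hb, Category.assoc, Category.assoc, hab]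
    obtain ⟨Z₂, t, ht, e⟩ := (MorphismProperty.map_eq_iff_precomp L W _ _).mp h1
    obtain ⟨Z₃, u, hu, c, hc1, hc2⟩ := GE Z₂ (t ≫ a₁) (t ≫ b₁) (by simpa using e)
    have hw : W (u ≫ t ≫ s) := W.comp_mem _ _ hu (W.comp_mem _ _ ht hs)
    haveI : IsIso (L.map (u ≫ t ≫ s)) := hinv _ hw
    refine ⟨inv (L.map (u ≫ t ≫ s)) ≫ L.map c, ?_, ?_⟩
    · rw [Category.assoc, ← L.map_comp, hc1, IsIso.inv_comp_eq, L.map_comp, L.map_comp,
        ← ha, L.map_comp, L.map_comp, Category.assoc, Category.assoc]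
    · rw [Category.assoc, ← L.map_comp, hc2, IsIso.inv_comp_eq, L.map_comp, L.map_comp,
        ← hb, L.map_comp, L.map_comp, Category.assoc, Category.assoc]
  have hU : ∀ (Z : C) (l₁ l₂ : L.obj Z ⟶ L.obj Y), l₁ ≫ L.map pT = l₂ ≫ L.map pT →
      l₁ ≫ L.map pX = l₂ ≫ L.map pX → l₁ = l₂ := by
    intro Z l₁ l₂ h1 h2
    obtain ⟨Z₁, s, hs, c₁, c₂, hc₁, hc₂⟩ := exists_common_rightFraction W L l₁ l₂
    have e1 : L.map (c₁ ≫ pT) = L.map (c₂ ≫ pT) := by
      rw [L.map_comp, L.map_comp, ← hc₁, ← hc₂, Category.assoc, Category.assoc, h1]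
    obtain ⟨Z₂, t, ht, e1'⟩ := (MorphismProperty.map_eq_iff_precomp L W _ _).mp e1
    have e2 : L.map ((t ≫ c₁) ≫ pX) = L.map ((t ≫ c₂) ≫ pX) := by
      rw [L.map_comp, L.map_comp, L.map_comp, L.map_comp, ← hc₁, ← hc₂, Category.assoc,
        Category.assoc, Category.assoc, Category.assoc, h2]
    obtain ⟨Z₃, u, hu, e2'⟩ := (MorphismProperty.map_eq_iff_precomp L W _ _).mp e2
    have key : u ≫ t ≫ c₁ = u ≫ t ≫ c₂ := by
      refine GU Z₃ _ _ ?_ ?_
      · simp only [Category.assoc]; rw [e1']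
      · simpa using e2'
    have hw : W (u ≫ t) := W.comp_mem _ _ hu ht
    haveI : IsIso (L.map (u ≫ t)) := hinv _ hw
    haveI : IsIso (L.map s) := hinv _ hs
    have e3 : L.map c₁ = L.map c₂ := by
      rw [← cancel_epi (L.map (u ≫ t)), ← L.map_comp, ← L.map_comp, Category.assoc,
        Category.assoc, key]
    rw [← cancel_epi (L.map s), hc₁, hc₂, e3]
  haveI := Localization.essSurj L W
  -- transport to arbitrary objects of `D`
  have hE' : ∀ (A : D) (a : A ⟶ L.obj T) (b : A ⟶ L.obj X), a ≫ L.map g = b ≫ L.map f →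
      ∃ l : A ⟶ L.obj Y, l ≫ L.map pT = a ∧ l ≫ L.map pX = b := by
    intro A a b hab
    let e := L.objObjPreimageIso A
    obtain ⟨l, hl1, hl2⟩ := hE (L.objPreimage A) (e.hom ≫ a) (e.hom ≫ b)
      (by rw [Category.assoc, Category.assoc, hab])
    refine ⟨e.inv ≫ l, ?_, ?_⟩
    · rw [Category.assoc, hl1, Iso.inv_hom_id_assoc]
    · rw [Category.assoc, hl2, Iso.inv_hom_id_assoc]
  have hU' : ∀ (A : D) (l₁ l₂ : A ⟶ L.obj Y), l₁ ≫ L.map pT = l₂ ≫ L.map pT →
      l₁ ≫ L.map pX = l₂ ≫ L.map pX → l₁ = l₂ := by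
    intro A l₁ l₂ h1 h2
    let e := L.objObjPreimageIso A
    have := hU (L.objPreimage A) (e.hom ≫ l₁) (e.hom ≫ l₂)
      (by rw [Category.assoc, Category.assoc, h1]) (by rw [Category.assoc, Category.assoc, h2])
    exact (cancel_epi e.hom).mp this
  have hcomm : L.map pT ≫ L.map g = L.map pX ≫ L.map f := by
    rw [← L.map_comp, ← L.map_comp, comm]
  refine ⟨⟨hcomm⟩, ⟨?_⟩⟩
  refine PullbackCone.IsLimit.mk _
    (fun s => Classical.choose (hE' s.pt s.fst s.snd s.condition))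
    (fun s => (Classical.choose_spec (hE' s.pt s.fst s.snd s.condition)).1)
    (fun s => (Classical.choose_spec (hE' s.pt s.fst s.snd s.condition)).2) ?_
  intro s m hm1 hm2
  refine hU' s.pt _ _ ?_ ?_
  · rw [hm1, (Classical.choose_spec (hE' s.pt s.fst s.snd s.condition)).1]
  · rw [hm2, (Classical.choose_spec (hE' s.pt s.fst s.snd s.condition)).2]

include W in
/-- if the images of all cospans of `C` have pullbacks, the localized category has pullbacks. -/
theorem hasPullbacks_of_map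
    (H : ∀ {X T P : C} (f : X ⟶ P) (g : T ⟶ P), HasPullback (L.map f) (L.map g)) :
    HasPullbacks D := by
  have hinv := Localization.inverts L W
  haveI := Localization.essSurj L W
  -- cospans between objects in the image
  have h1 : ∀ (X T P : C) (φ : L.obj X ⟶ L.obj P) (γ : L.obj T ⟶ L.obj P), HasPullback φ γ := by
    intro X T P φ γ
    obtain ⟨z₁, hz₁⟩ := Localization.exists_rightFraction L W φ
    obtain ⟨z₂, hz₂⟩ := Localization.exists_rightFraction L W γ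
    haveI := H z₁.f z₂.f
    haveI : IsIso (L.map z₁.s) := hinv _ z₁.hs
    haveI : IsIso (L.map z₂.s) := hinv _ z₂.hs
    have hp := IsPullback.of_hasPullback (L.map z₁.f) (L.map z₂.f)
    have hp' : IsPullback (pullback.fst (L.map z₁.f) (L.map z₂.f) ≫ L.map z₁.s)
        (pullback.snd (L.map z₁.f) (L.map z₂.f) ≫ L.map z₂.s) φ γ := by
      refine IsPullback.of_iso hp (Iso.refl _) (asIso (L.map z₁.s)) (asIso (L.map z₂.s))
        (Iso.refl _) ?_ ?_ ?_ ?_
      · simp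
      · simp
      · rw [hz₁]; simp
      · rw [hz₂]; simp
    exact ⟨⟨⟨_, hp'.isLimit⟩⟩⟩
  refine @hasPullbacks_of_hasLimit_cospan D _ ?_
  intro A B E φ γ
  let eA := L.objObjPreimageIso A
  let eB := L.objObjPreimageIso B
  let eE := L.objObjPreimageIso E
  haveI := h1 _ _ _ (eA.hom ≫ φ ≫ eE.inv) (eB.hom ≫ γ ≫ eE.inv)
  refine hasLimit_of_iso (F := cospan (eA.hom ≫ φ ≫ eE.inv) (eB.hom ≫ γ ≫ eE.inv))
    (cospanExt eA eB eE ?_ ?_)
  · simp
  · simp

include W in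
/-- the image of a terminal object is terminal. -/
theorem isTerminal_map {pt : C} (hpt : IsTerminal pt) : Nonempty (IsTerminal (L.obj pt)) := by
  have hinv := Localization.inverts L W
  haveI := Localization.essSurj L W
  have hU : ∀ (Z : C) (l₁ l₂ : L.obj Z ⟶ L.obj pt), l₁ = l₂ := by
    intro Z l₁ l₂
    obtain ⟨Z₁, s, hs, c₁, c₂, hc₁, hc₂⟩ := exists_common_rightFraction W L l₁ l₂
    haveI : IsIso (L.map s) := hinv _ hs
    rw [← cancel_epi (L.map s), hc₁, hc₂, hpt.hom_ext c₁ c₂]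
  refine ⟨IsTerminal.ofUniqueHom
    (fun A => (L.objObjPreimageIso A).inv ≫ L.map (hpt.from (L.objPreimage A))) ?_⟩
  intro A m
  have := hU (L.objPreimage A) ((L.objObjPreimageIso A).hom ≫ m)
    (L.map (hpt.from (L.objPreimage A)))
  rw [← this, Iso.inv_hom_id_assoc]

end Groth.Agent.H9.MDQ
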