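import Mathlib
import Groth.Agent.Lib.Helper9.Misc.MDP4
import Groth.Agent.Lib.Helper9.Misc.MDP15
import Groth.Agent.Lib.Helper9.Misc.BLA10
import Groth.Agent.Lib.Helper9.Misc.MDQ1
import Groth.Agent.Lib.Lead.QC.BlowUpBasic
import Groth.Agent.Lib.Lead.QC.CartierLe
import Groth.Agent.Lib.Lead.QC.CartierFactor

/-! Helper9: S18752 — the ambient product of modulus pairs is a fibre product in the localization
at the abstract admissible blow-ups. -/

set_option linter.style.haveILetI false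
set_option linter.unusedSectionVars false
set_option linter.unusedVariables false

universe u
open CategoryTheory Limits AlgebraicGeometry TopologicalSpace Opposite

namespace Groth.Agent.H9.MDQ

open Groth.Agent.H9.MDP

theorem isIso_restrict_of_le {X Y : Scheme.{u}} (f : X ⟶ Y) (U V : Y.Opens) (h : V ≤ U)
    (hU : IsIso (f ∣_ U)) : IsIso (f ∣_ V) := by
  have e1 : U.ι ''ᵁ (U.ι ⁻¹ᵁ V) = V := by
    rw [Scheme.Hom.image_preimage_eq_opensRange_inf, Scheme.Opens.opensRange_ι]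
    exact inf_eq_right.mpr h
  have i : Arrow.mk (f ∣_ U ∣_ (U.ι ⁻¹ᵁ V)) ≅ Arrow.mk (f ∣_ V) :=
    morphismRestrictRestrict f U (U.ι ⁻¹ᵁ V) ≪≫ morphismRestrictEq f e1
  have h2 : IsIso (f ∣_ U ∣_ (U.ι ⁻¹ᵁ V)) := inferInstance
  exact ((MorphismProperty.isomorphisms Scheme.{u}).arrow_mk_iso_iff i).mp h2

section AP
variable {S T X Y : Scheme.{u}} (J : T.IdealSheafData) (I : X.IdealSheafData)
  (hT : BlowUp.IsEffCartierIdeal J) (hX : BlowUp.IsEffCartierIdeal I)
  (f : X ⟶ S) (g : T ⟶ S)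
  (π : Y ⟶ ModPair.mprod f g I J) (K : Y.IdealSheafData) (hY : ModPair.IsAmbProd f g I J π K)
  (hKX : ModPair.IsAmbient K I (π ≫ ModPair.mprodι f g I J ≫ pullback.fst f g))
  (hKT : ModPair.IsAmbient K J (π ≫ ModPair.mprodι f g I J ≫ pullback.snd f g))

include hT hX hY hKX hKT in
/-- uniqueness of ambient lifts to an ambient product. -/
theorem amb_lift_unique {Z : Scheme.{u}} (IZ : Z.IdealSheafData) (hZ : BlowUp.IsEffCartierIdeal IZ)
    (d₁ d₂ : Z ⟶ Y) (hd₁ : ModPair.IsAmbient IZ K d₁)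
    (e1 : d₁ ≫ π ≫ ModPair.mprodι f g I J ≫ pullback.snd f g =
      d₂ ≫ π ≫ ModPair.mprodι f g I J ≫ pullback.snd f g)
    (e2 : d₁ ≫ π ≫ ModPair.mprodι f g I J ≫ pullback.fst f g =
      d₂ ≫ π ≫ ModPair.mprodι f g I J ≫ pullback.fst f g) : d₁ = d₂ := by
  have e : d₁ ≫ π = d₂ ≫ π := by
    rw [← cancel_mono (ModPair.mprodι f g I J)]
    apply pullback.hom_ext
    · simpa using e2
    · simpa using e1
  have hd₁' : IZ ≤ K.comap d₁ := hd₁
  have hKX' : K ≤ I.comap (π ≫ ModPair.mprodι f g I J ≫ pullback.fst f g) := hKX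
  have hKT' : K ≤ J.comap (π ≫ ModPair.mprodι f g I J ≫ pullback.snd f g) := hKT
  have hA : BlowUp.IsEffCartierIdeal
      (I.comap (d₁ ≫ π ≫ ModPair.mprodι f g I J ≫ pullback.fst f g)) := by
    refine Groth.Agent.LD.QC.isEffCartierIdeal_comap_of_le IZ I hZ hX _ ?_
    rw [Scheme.IdealSheafData.comap_comp]
    exact le_trans hd₁' (Scheme.IdealSheafData.comap_mono _ hKX')
  have hB : BlowUp.IsEffCartierIdeal
      (J.comap (d₁ ≫ π ≫ ModPair.mprodι f g I J ≫ pullback.snd f g)) := by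
    refine Groth.Agent.LD.QC.isEffCartierIdeal_comap_of_le IZ J hZ hT _ ?_
    rw [Scheme.IdealSheafData.comap_comp]
    exact le_trans hd₁' (Scheme.IdealSheafData.comap_mono _ hKT')
  have hmul : K.comap d₁ * (ModPair.prodCentre f g I J).comap (d₁ ≫ π) =
      I.comap (d₁ ≫ π ≫ ModPair.mprodι f g I J ≫ pullback.fst f g) *
        J.comap (d₁ ≫ π ≫ ModPair.mprodι f g I J ≫ pullback.snd f g) := by
    rw [Scheme.IdealSheafData.comap_comp (ModPair.prodCentre f g I J),
      ← Groth.Agent.LD.QC.comap_mul, hY.2, Groth.Agent.LD.QC.comap_mul]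
    simp only [← Scheme.IdealSheafData.comap_comp, Category.assoc]
  have hC : BlowUp.IsEffCartierIdeal ((ModPair.prodCentre f g I J).comap (d₁ ≫ π)) := by
    refine Groth.Agent.LD.QC.isEffCartierIdeal_of_mul_right (K.comap d₁) _ ?_
    rw [hmul]
    exact Groth.Agent.LD.QC.isEffCartierIdeal_mul _ _ hA hB
  exact Groth.Agent.LD.QC.IsBlowUp.hom_ext hY.1 d₁ d₂ hC e

include hT hX hY in
/-- existence of ambient lifts to an ambient product after an admissible blow-up. -/
theorem amb_lift_exists {Z : Scheme.{u}} (IZ : Z.IdealSheafData) (hZ : BlowUp.IsEffCartierIdeal IZ)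
    (a : Z ⟶ T) (b : Z ⟶ X) (ha : ModPair.IsAmbient IZ J a) (hb : ModPair.IsAmbient IZ I b)
    (hab : a ≫ g = b ≫ f) :
    ∃ (Z' : Scheme.{u}) (β : Z' ⟶ Z) (c : Z' ⟶ Y),
      BlowUp.IsEffCartierIdeal (IZ.comap β) ∧ ModPair.IsAdmBlowup (IZ.comap β) IZ β ∧
        ModPair.IsAmbient (IZ.comap β) K c ∧
        c ≫ π ≫ ModPair.mprodι f g I J ≫ pullback.snd f g = β ≫ a ∧
        c ≫ π ≫ ModPair.mprodι f g I J ≫ pullback.fst f g = β ≫ b := by
  haveI haff := isAffineHom_prodInterior f g I J hX hT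
  have ha' : IZ ≤ J.comap a := ha
  have hb' : IZ ≤ I.comap b := hb
  let l : Z ⟶ pullback f g := pullback.lift b a hab.symm
  haveI : IsSchemeTheoreticallyDominant (ModPair.interior IZ).ι :=
    Groth.Agent.LD.QC.isSchemeTheoreticallyDominant_compl_of_effCartier IZ hZ
  have hle : ModPair.interior IZ ≤ l ⁻¹ᵁ ModPair.prodInterior f g I J := by
    unfold ModPair.prodInterior
    rw [Scheme.Hom.preimage_inf, ← Scheme.Hom.comp_preimage, ← Scheme.Hom.comp_preimage,
      pullback.lift_fst, pullback.lift_snd]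
    exact le_inf (interior_le_of_isAmbient hb) (interior_le_of_isAmbient ha)
  have hker : (ModPair.mprodι f g I J).ker ≤ l.ker := by
    rw [Scheme.IdealSheafData.ker_subschemeι]
    exact ker_le_of_dense _ l (ModPair.interior IZ) hle
  let c₀ : Z ⟶ ModPair.mprod f g I J := IsClosedImmersion.lift (ModPair.mprodι f g I J) l hker
  have hc₀ : c₀ ≫ ModPair.mprodι f g I J = l := IsClosedImmersion.lift_fac _ _ _
  have hc₀X : c₀ ≫ ModPair.mprodι f g I J ≫ pullback.fst f g = b := by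
    rw [reassoc_of% hc₀, pullback.lift_fst]
  have hc₀T : c₀ ≫ ModPair.mprodι f g I J ≫ pullback.snd f g = a := by
    rw [reassoc_of% hc₀, pullback.lift_snd]
  obtain ⟨C, hCdef⟩ : ∃ C : Z.IdealSheafData, C = (ModPair.prodCentre f g I J).comap c₀ :=
    ⟨_, rfl⟩
  have hCeq : C = I.comap b ⊔ J.comap a := by
    rw [hCdef]
    unfold ModPair.prodCentre
    rw [Scheme.IdealSheafData.comap_sup, ← Scheme.IdealSheafData.comap_comp,
      ← Scheme.IdealSheafData.comap_comp, hc₀X, hc₀T]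
  obtain ⟨Z', β, hβ⟩ := Groth.Agent.H9.BLA.exists_isBlowUp Z C
  have hZ' : BlowUp.IsEffCartierIdeal (IZ.comap β) :=
    Groth.Agent.LD.QC.IsBlowUp.isEffCartierIdeal_comap hβ IZ hZ
  have hAZ : BlowUp.IsEffCartierIdeal (I.comap b) :=
    Groth.Agent.LD.QC.isEffCartierIdeal_comap_of_le IZ I hZ hX b hb'
  have hBZ : BlowUp.IsEffCartierIdeal (J.comap a) :=
    Groth.Agent.LD.QC.isEffCartierIdeal_comap_of_le IZ J hZ hT a ha'
  have hprop : IsProper β := by
    refine Groth.Agent.H9.BLA.IsBlowUp.isProper_of_locally_fg hβ ?_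
    intro x
    rw [hCeq]
    exact locally_fg_sup _ _ hAZ hBZ x
  have hIC : IZ ≤ C := by
    rw [hCeq]; exact le_trans hb' le_sup_left
  have hsub : ModPair.interior IZ ≤ C.support.compl := by
    intro x hx
    change x ∉ C.support
    intro h
    exact hx (Scheme.IdealSheafData.support_antitone hIC h)
  have hiso : IsIso (β ∣_ ModPair.interior IZ) :=
    isIso_restrict_of_le β _ _ hsub (Groth.Agent.LD.QC.IsBlowUp.isIso_restrict_compl hβ)
  have hcart : BlowUp.IsEffCartierIdeal ((ModPair.prodCentre f g I J).comap (β ≫ c₀)) := by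
    rw [Scheme.IdealSheafData.comap_comp, ← hCdef]
    exact hβ.1
  obtain ⟨c, hc, -⟩ := hY.1.2 Z' (β ≫ c₀) hcart
  have hcX : c ≫ π ≫ ModPair.mprodι f g I J ≫ pullback.fst f g = β ≫ b := by
    rw [reassoc_of% hc, hc₀X]
  have hcT : c ≫ π ≫ ModPair.mprodι f g I J ≫ pullback.snd f g = β ≫ a := by
    rw [reassoc_of% hc, hc₀T]
  have hA' : IZ.comap β ≤ I.comap (β ≫ b) := by
    rw [Scheme.IdealSheafData.comap_comp]
    exact Scheme.IdealSheafData.comap_mono _ hb'
  have hB' : IZ.comap β ≤ J.comap (β ≫ a) := by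
    rw [Scheme.IdealSheafData.comap_comp]
    exact Scheme.IdealSheafData.comap_mono _ ha'
  have hCβ : C.comap β = I.comap (β ≫ b) ⊔ J.comap (β ≫ a) := by
    rw [hCeq, Scheme.IdealSheafData.comap_sup, ← Scheme.IdealSheafData.comap_comp,
      ← Scheme.IdealSheafData.comap_comp]
  have hamb : IZ.comap β ≤ K.comap c := by
    refine le_of_mul_le_mul_effCartier (E := C.comap β) hβ.1 ?_
    have e0 : C.comap β = ((ModPair.prodCentre f g I J).comap π).comap c := by
      rw [hCdef, ← Scheme.IdealSheafData.comap_comp, ← Scheme.IdealSheafData.comap_comp, hc]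
    have e1 : K.comap c * C.comap β = I.comap (β ≫ b) * J.comap (β ≫ a) := by
      rw [e0, ← Groth.Agent.LD.QC.comap_mul, hY.2, Groth.Agent.LD.QC.comap_mul]
      simp only [← Scheme.IdealSheafData.comap_comp, Category.assoc]
      rw [hcX, hcT]
    rw [e1, hCβ, Scheme.IdealSheafData.mul_inf]
    refine sup_le ?_ ?_
    · rw [mul_comm]
      exact mul_le_mul le_rfl hB' bot_le bot_le
    · exact mul_le_mul hA' le_rfl bot_le bot_le
  exact ⟨Z', β, c, hZ', ⟨rfl, hprop, hiso⟩, hamb, hcT, hcX⟩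

end AP

theorem S18752_main (P T X : ModPair.Pair.{u}) (f : X ⟶ P) (g : T ⟶ P)
    {Y : Scheme.{u}} (π : Y ⟶ ModPair.mprod f.hom g.hom X.mod T.mod) (K : Y.IdealSheafData)
    (hY : ModPair.IsAmbProd f.hom g.hom X.mod T.mod π K) (hK : BlowUp.IsEffCartierIdeal K)
    (hX : ModPair.IsAmbient K X.mod (π ≫ ModPair.mprodι f.hom g.hom X.mod T.mod ≫ pullback.fst f.hom g.hom))
    (hT : ModPair.IsAmbient K T.mod (π ≫ ModPair.mprodι f.hom g.hom X.mod T.mod ≫ pullback.snd f.hom g.hom)) :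
    IsPullback
      ((ModPair.Pair.admBlowup.{u}).Q.map
        (ModPair.Pair.Hom.mk (P := ModPair.Pair.mk Y K hK) (Q := T)
          (π ≫ ModPair.mprodι f.hom g.hom X.mod T.mod ≫ pullback.snd f.hom g.hom) hT))
      ((ModPair.Pair.admBlowup.{u}).Q.map
        (ModPair.Pair.Hom.mk (P := ModPair.Pair.mk Y K hK) (Q := X)
          (π ≫ ModPair.mprodι f.hom g.hom X.mod T.mod ≫ pullback.fst f.hom g.hom) hX))
      ((ModPair.Pair.admBlowup.{u}).Q.map g) ((ModPair.Pair.admBlowup.{u}).Q.map f) := by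
  haveI := S18738_main.{u}
  refine isPullback_map_of_fractions (ModPair.Pair.admBlowup.{u}) (ModPair.Pair.admBlowup.{u}).Q
    _ _ g f ?_ ?_ ?_
  · apply ModPair.Pair.Hom.ext
    change (π ≫ ModPair.mprodι f.hom g.hom X.mod T.mod ≫ pullback.snd f.hom g.hom) ≫ g.hom =
      (π ≫ ModPair.mprodι f.hom g.hom X.mod T.mod ≫ pullback.fst f.hom g.hom) ≫ f.hom
    simp only [Category.assoc]
    rw [pullback.condition]
  · intro Z a b hab
    obtain ⟨Z', β, c, hZ', hadm, hamb, h1, h2⟩ :=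
      amb_lift_exists T.mod X.mod T.isEffCartier X.isEffCartier f.hom g.hom π K hY
        Z.mod Z.isEffCartier a.hom b.hom a.cond b.cond (congrArg ModPair.Pair.Hom.hom hab)
    refine ⟨⟨Z', Z.mod.comap β, hZ'⟩, ⟨β, le_rfl⟩, hadm, ⟨c, hamb⟩, ?_, ?_⟩
    · exact ModPair.Pair.Hom.ext h1
    · exact ModPair.Pair.Hom.ext h2
  · intro Z d₁ d₂ h1 h2
    apply ModPair.Pair.Hom.ext
    exact amb_lift_unique T.mod X.mod T.isEffCartier X.isEffCartier f.hom g.hom π K hY hX hT
      Z.mod Z.isEffCartier d₁.hom d₂.hom d₁.cond (congrArg ModPair.Pair.Hom.hom h1)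
      (congrArg ModPair.Pair.Hom.hom h2)

end Groth.Agent.H9.MDQ
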