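import Mathlib
import Groth.Agent.Lib.Helper9.Misc.FBL1
import Groth.Agent.Lib.Helper9.Misc.BLA23
import Groth.Agent.Lib.Helper9.Misc.MDQ2

/-!
# Finite birational morphisms as blow-ups: local scheme-theoretic input
-/

set_option autoImplicit false

namespace Groth.Agent.H9.FBL

open CategoryTheory Limits AlgebraicGeometry

universe u

variable {X Y : Scheme.{u}} (f : X ⟶ Y)

theorem isIso_app_of_isIso_restrict (U : Y.Opens) [IsIso (f ∣_ U)] : IsIso (f.app U) := by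
  have hj : (f ⁻¹ᵁ U).ι ≫ f = (f ∣_ U) ≫ U.ι := (morphismRestrict_ι f U).symm
  haveI : IsOpenImmersion ((f ⁻¹ᵁ U).ι ≫ f) := by rw [hj]; infer_instance
  have hr : U ≤ ((f ⁻¹ᵁ U).ι ≫ f).opensRange := by
    intro y hy
    refine ⟨(inv (f ∣_ U)) ⟨y, hy⟩, ?_⟩
    have : ((f ∣_ U) ≫ U.ι) ((inv (f ∣_ U)) ⟨y, hy⟩) = y := by
      rw [← Scheme.Hom.comp_apply, IsIso.inv_hom_id_assoc]
      rfl
    rw [hj]
    exact this
  have h1 : IsIso (((f ⁻¹ᵁ U).ι ≫ f).app U) := Scheme.Hom.isIso_app _ U hr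
  have h2 : IsIso ((f ⁻¹ᵁ U).ι.app (f ⁻¹ᵁ U)) :=
    Scheme.Hom.isIso_app _ _ (by rw [Scheme.Opens.opensRange_ι])
  rw [Scheme.Hom.comp_app] at h1
  exact @IsIso.of_isIso_comp_right _ _ _ _ _ (f.app U) ((f ⁻¹ᵁ U).ι.app (f ⁻¹ᵁ U)) h2 h1

variable (L : Y.IdealSheafData) (V : Y.affineOpens) (t : Γ(Y, V.1))
  (hL : L.ideal V = Ideal.span {t})

include hL in
theorem basicOpen_le_compl : Y.basicOpen t ≤ L.support.compl := by
  intro y hy hys
  exact Groth.Agent.H9.BLA.notMem_basicOpen_of_mem_support L V y (Y.basicOpen_le t hy) hys t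
    (hL ▸ Ideal.subset_span rfl) hy

include hL in
theorem mem_basicOpen_app (x : X) (hxV : f x ∈ V.1) (hx : f x ∉ L.support) :
    x ∈ X.basicOpen (f.app V.1 t) := by
  rw [← Scheme.preimage_basicOpen]
  exact Groth.Agent.H9.BLA.mem_basicOpen_of_notMem_support L V (f x) hxV hx t hL

include hL in
theorem app_mem_nonZeroDivisors [IsReduced X]
    (hdense : Dense (f.base ⁻¹' ((L.support : Set Y)ᶜ))) :
    f.app V.1 t ∈ nonZeroDivisors Γ(X, f ⁻¹ᵁ V.1) := by
  have key : ∀ b : Γ(X, f ⁻¹ᵁ V.1), b * f.app V.1 t = 0 → b = 0 := by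
    intro b hb
    rw [← basicOpen_eq_bot_iff]
    by_contra hne
    have hne' : (X.basicOpen b : Set X).Nonempty := by
      rw [Set.nonempty_iff_ne_empty]
      intro h
      exact hne (TopologicalSpace.Opens.ext h)
    obtain ⟨x, hxb, hx⟩ := hdense.inter_open_nonempty _ (X.basicOpen b).2 hne'
    have hxV : f x ∈ V.1 := X.basicOpen_le b hxb
    have hxt := mem_basicOpen_app f L V t hL x hxV hx
    have : x ∈ X.basicOpen (b * f.app V.1 t) := by
      rw [Scheme.basicOpen_mul]; exact ⟨hxb, hxt⟩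
    rw [hb, Scheme.basicOpen_zero] at this
    exact this
  rw [mem_nonZeroDivisors_iff]
  exact ⟨fun x hx => key x (by rwa [mul_comm]), key⟩

include hL in
theorem local_main [IsFinite f] [IsReduced X] (hiso : IsIso (f ∣_ L.support.compl))
    (hdense : Dense (f.base ⁻¹' ((L.support : Set Y)ᶜ)))
    (ht : t ∈ nonZeroDivisors Γ(Y, V.1)) :
    Function.Injective (f.app V.1).hom ∧
      (f.app V.1).hom t ∈ nonZeroDivisors Γ(X, f ⁻¹ᵁ V.1) ∧
      ∃ n : ℕ, 1 ≤ n ∧ ∀ b : Γ(X, f ⁻¹ᵁ V.1), ∃ a : Γ(Y, V.1),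
        (f.app V.1).hom a = (f.app V.1).hom t ^ n * b := by
  have hφt : (f.app V.1).hom t ∈ nonZeroDivisors Γ(X, f ⁻¹ᵁ V.1) :=
    app_mem_nonZeroDivisors f L V t hL hdense
  haveI : IsIso (f ∣_ Y.basicOpen t) :=
    Groth.Agent.H9.MDQ.isIso_restrict_of_le f _ _ (basicOpen_le_compl L V t hL) hiso
  have hisoapp : IsIso (f.app (Y.basicOpen t)) := isIso_app_of_isIso_restrict f _
  have hV' : IsAffineOpen (f ⁻¹ᵁ V.1) := V.2.preimage f
  letI := V.2.isLocalization_basicOpen t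
  letI := hV'.isLocalization_basicOpen (f.app V.1 t)
  have hbij : Function.Bijective (IsLocalization.Away.map Γ(Y, Y.basicOpen t)
      Γ(X, X.basicOpen (f.app V.1 t)) (f.app V.1).hom t) := by
    have e := V.2.appBasicOpenIsoAwayMap f hV' t
    have : IsIso (CommRingCat.ofHom (IsLocalization.Away.map Γ(Y, Y.basicOpen t)
        Γ(X, X.basicOpen (f.app V.1 t)) (f.app V.1).hom t)) :=
      ((MorphismProperty.isomorphisms CommRingCat).arrow_mk_iso_iff e).mp hisoapp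
    exact ConcreteCategory.bijective_of_isIso (CommRingCat.ofHom (IsLocalization.Away.map
      Γ(Y, Y.basicOpen t) Γ(X, X.basicOpen (f.app V.1 t)) (f.app V.1).hom t))
  refine ⟨injective_of_loc _ t ht (fun a ha =>
    exists_pow_mul_eq_zero_of_bijective (f.app V.1).hom t Γ(Y, Y.basicOpen t)
      Γ(X, X.basicOpen (f.app V.1 t)) hbij a ha), hφt, ?_⟩
  exact exists_pow_mul_mem_range _ t (f.finite_app V.1 V.2) (fun b =>
    exists_pow_mul_eq_of_bijective (f.app V.1).hom t Γ(Y, Y.basicOpen t)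
      Γ(X, X.basicOpen (f.app V.1 t)) hφt hbij b)

end Groth.Agent.H9.FBL
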