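import Mathlib
import Groth.Agent.Lib.Helper9.Misc.FBL2
import Groth.Agent.Lib.Helper9.Misc.BLA16
import Groth.Agent.Lib.Helper9.Misc.BLA12
import Groth.Agent.Lib.Helper9.Misc.MDP6

/-!
# Finite birational morphisms as blow-ups: blow-ups are local on the target
-/

set_option autoImplicit false

namespace Groth.Agent.H9.FBL

open CategoryTheory Limits AlgebraicGeometry

universe u

/-- being a blow-up is local on the target. -/
theorem isBlowUp_of_openCover {X X' : Scheme.{u}} (b : X' ⟶ X) (𝓘 : X.IdealSheafData)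
    {ι : Type*} (V : ι → X.Opens) (hV : ∀ x : X, ∃ i, x ∈ V i)
    (h : ∀ i, BlowUp.IsBlowUp (b ∣_ V i) (𝓘.comap (V i).ι)) : BlowUp.IsBlowUp b 𝓘 := by
  refine Groth.Agent.H9.BLA.isBlowUp_of_local b 𝓘 ?_ ?_ ?_
  · refine Groth.Agent.H9.MDP.isEffCartierIdeal_of_comap
      (fun i => ((b ⁻¹ᵁ V i).toScheme)) (fun i => (b ⁻¹ᵁ V i).ι) ?_ _ ?_
    · intro x
      obtain ⟨i, hi⟩ := hV (b x)
      exact ⟨i, ⟨x, hi⟩, rfl⟩
    · intro i
      rw [← Scheme.IdealSheafData.comap_comp, ← morphismRestrict_ι,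
        Scheme.IdealSheafData.comap_comp]
      exact (h i).1
  · intro Y h₁ h₂ hw hE
    refine Groth.Agent.H9.BLA.hom_ext_of_local h₁ h₂ (fun y => ?_)
    obtain ⟨i, hi⟩ := hV ((h₁ ≫ b) y)
    refine ⟨(h₁ ≫ b) ⁻¹ᵁ V i, hi, ?_⟩
    have r1 : Set.range (((h₁ ≫ b) ⁻¹ᵁ V i).ι ≫ h₁) ⊆ Set.range (b ⁻¹ᵁ V i).ι := by
      rintro _ ⟨x, rfl⟩
      rw [Scheme.Opens.range_ι]
      exact x.2
    have r2 : Set.range (((h₁ ≫ b) ⁻¹ᵁ V i).ι ≫ h₂) ⊆ Set.range (b ⁻¹ᵁ V i).ι := by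
      rintro _ ⟨x, rfl⟩
      rw [Scheme.Opens.range_ι]
      have hx : (h₁ ≫ b) x.1 ∈ V i := x.2
      have hq : (h₁ ≫ b) x.1 = (h₂ ≫ b) x.1 := congrArg (fun q : Y ⟶ X => q x.1) hw
      have hx' : (h₂ ≫ b) x.1 ∈ V i := hq ▸ hx
      exact hx'
    have e1 := IsOpenImmersion.lift_fac (b ⁻¹ᵁ V i).ι (((h₁ ≫ b) ⁻¹ᵁ V i).ι ≫ h₁) r1
    have e2 := IsOpenImmersion.lift_fac (b ⁻¹ᵁ V i).ι (((h₁ ≫ b) ⁻¹ᵁ V i).ι ≫ h₂) r2
    have e : IsOpenImmersion.lift (b ⁻¹ᵁ V i).ι (((h₁ ≫ b) ⁻¹ᵁ V i).ι ≫ h₁) r1 ≫ (b ∣_ V i) =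
        IsOpenImmersion.lift (b ⁻¹ᵁ V i).ι (((h₁ ≫ b) ⁻¹ᵁ V i).ι ≫ h₂) r2 ≫ (b ∣_ V i) := by
      rw [← cancel_mono (V i).ι, Category.assoc, Category.assoc, morphismRestrict_ι,
        reassoc_of% e1, reassoc_of% e2, hw]
    have hC : BlowUp.IsEffCartierIdeal ((𝓘.comap (V i).ι).comap
        (IsOpenImmersion.lift (b ⁻¹ᵁ V i).ι (((h₁ ≫ b) ⁻¹ᵁ V i).ι ≫ h₁) r1 ≫ (b ∣_ V i))) := by
      rw [← Scheme.IdealSheafData.comap_comp, Category.assoc, morphismRestrict_ι,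
        reassoc_of% e1, Scheme.IdealSheafData.comap_comp]
      exact Groth.Agent.LD.QC.isEffCartierIdeal_comap_of_flat _ _ hE
    have := Groth.Agent.LD.QC.IsBlowUp.hom_ext (h i) _ _ hC e
    rw [← e1, ← e2, this]
  · intro Y g hE y
    obtain ⟨i, hi⟩ := hV (g y)
    have hC : BlowUp.IsEffCartierIdeal ((𝓘.comap (V i).ι).comap (g ∣_ V i)) := by
      rw [← Scheme.IdealSheafData.comap_comp, morphismRestrict_ι,
        Scheme.IdealSheafData.comap_comp]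
      exact Groth.Agent.LD.QC.isEffCartierIdeal_comap_of_flat _ _ hE
    obtain ⟨k, hk, -⟩ := (h i).2 _ (g ∣_ V i) hC
    refine ⟨g ⁻¹ᵁ V i, k ≫ (b ⁻¹ᵁ V i).ι, hi, ?_⟩
    rw [Category.assoc, ← morphismRestrict_ι, reassoc_of% hk, morphismRestrict_ι]

theorem comap_fromSpec_eq {Y : Scheme.{u}} (I : Y.IdealSheafData) (V : Y.affineOpens) :
    I.comap V.2.fromSpec = Groth.Agent.H9.BLA.idealSheaf (A := Γ(Y, V.1)) (I.ideal V) := by
  apply Scheme.IdealSheafData.ext_of_isAffine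
  rw [Groth.Agent.LD.QC.ideal_comap_of_le I V.2.fromSpec V ⟨⊤, isAffineOpen_top _⟩
    (by rw [IsAffineOpen.fromSpec_preimage_self])]
  unfold Groth.Agent.H9.BLA.idealSheaf
  rw [Scheme.IdealSheafData.ofIdealTop_ideal, Ideal.map_map]
  congr 1
  rw [← CommRingCat.hom_comp]
  congr 1
  rw [Scheme.Hom.appLE, V.2.fromSpec_app_self, Category.assoc, ← Functor.map_comp]
  rfl

theorem isBlowUp_restrict_of_SpecMap {X Y : Scheme.{u}} (f : X ⟶ Y) [IsAffineHom f]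
    (I : Y.IdealSheafData) (V : Y.affineOpens)
    (h : BlowUp.IsBlowUp (Spec.map (f.app V.1))
      (Groth.Agent.H9.BLA.idealSheaf (A := Γ(Y, V.1)) (I.ideal V))) :
    BlowUp.IsBlowUp (f ∣_ V.1) (I.comap V.1.ι) := by
  have hV' : IsAffineOpen (f ⁻¹ᵁ V.1) := V.2.preimage f
  have key : f ∣_ V.1 = hV'.isoSpec.hom ≫ Spec.map (f.app V.1) ≫ V.2.isoSpec.inv := by
    rw [← cancel_mono V.1.ι, morphismRestrict_ι, Category.assoc, Category.assoc]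
    have h1 : V.2.isoSpec.inv ≫ V.1.ι = V.2.fromSpec := rfl
    have h2 := IsAffineOpen.SpecMap_appLE_fromSpec f V.2 hV' le_rfl
    rw [Scheme.Hom.appLE_eq_app] at h2
    rw [h1, h2]
    have h3 : hV'.isoSpec.inv ≫ (f ⁻¹ᵁ V.1).ι = hV'.fromSpec := rfl
    rw [← h3, Category.assoc, Iso.hom_inv_id_assoc]
  rw [key]
  refine Groth.Agent.H9.BLA.isBlowUp_of_iso_source hV'.isoSpec ?_
  refine Groth.Agent.H9.BLA.isBlowUp_comp_iso V.2.isoSpec.symm _ _ ?_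
  rw [← Scheme.IdealSheafData.comap_comp]
  change BlowUp.IsBlowUp _ (I.comap V.2.fromSpec)
  rw [comap_fromSpec_eq]
  exact h

end Groth.Agent.H9.FBL
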