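import Mathlib
import Groth.Agent.Lib.Helper9.Misc.FBL3
import Groth.Agent.Lib.Lead.QC.CartierCompl

/-!
# Finite birational morphisms as blow-ups: main statement
-/

set_option autoImplicit false

namespace Groth.Agent.H9.FBL

open CategoryTheory Limits AlgebraicGeometry

universe u

variable {X Y : Scheme.{u}} (f : X ⟶ Y) (L : Y.IdealSheafData)

theorem dense_compl_support (hL : BlowUp.IsEffCartierIdeal L) :
    Dense ((L.support : Set Y)ᶜ) := by
  haveI := Groth.Agent.LD.QC.isSchemeTheoreticallyDominant_compl_of_effCartier L hL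
  haveI : IsAffineHom (Scheme.Opens.ι (X := Y) L.support.compl) :=
    Groth.Agent.LD.QC.isAffineHom_compl_of_locPrincipal L (fun x _ => by
      obtain ⟨U, hx, a, _, h⟩ := hL x
      exact ⟨U, hx, a, h⟩)
  have hd : DenseRange (Scheme.Opens.ι (X := Y) L.support.compl) :=
    (Scheme.Opens.ι (X := Y) L.support.compl).denseRange
  rw [DenseRange, Scheme.Opens.range_ι] at hd
  exact hd

theorem surjective_of_iso_compl [IsFinite f] (hL : BlowUp.IsEffCartierIdeal L)
    (hiso : IsIso (f ∣_ L.support.compl)) : Function.Surjective f := by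
  have hclosed : IsClosed (Set.range f) := f.isClosedMap.isClosed_range
  have hsub : ((L.support : Set Y)ᶜ) ⊆ Set.range f := by
    intro y hy
    have hs : Function.Surjective (f ∣_ L.support.compl) := (f ∣_ L.support.compl).surjective
    obtain ⟨x, hx⟩ := hs ⟨y, hy⟩
    refine ⟨x.1, ?_⟩
    have := congrArg Subtype.val hx
    rwa [morphismRestrict_base_coe] at this
  have hd := dense_compl_support L hL
  have : Set.range f = Set.univ := by
    apply Set.eq_univ_of_univ_subset
    rw [← hd.closure_eq]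
    exact closure_minimal hsub hclosed
  exact Set.range_eq_univ.mp this

theorem support_eq [IsFinite f] (hL : BlowUp.IsEffCartierIdeal L)
    (hiso : IsIso (f ∣_ L.support.compl)) (N : ℕ) (hN : N ≠ 0) :
    (((L ^ N).comap f).map f).support = L.support := by
  have hsurj := surjective_of_iso_compl f L hL hiso
  ext1
  rw [Scheme.IdealSheafData.support_map, TopologicalSpace.Closeds.coe_closure,
    Scheme.IdealSheafData.support_comap, Scheme.IdealSheafData.support_pow L N hN,
    TopologicalSpace.Closeds.coe_preimage, Set.image_preimage_eq _ hsurj,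
    L.support.isClosed.closure_eq]

theorem ideal_eq [IsAffineHom f] (N : ℕ) (V : Y.affineOpens) (t : Γ(Y, V.1))
    (hLt : L.ideal V = Ideal.span {t}) :
    (((L ^ N).comap f).map f).ideal V =
      (Ideal.span {(f.app V.1).hom t ^ N}).comap (f.app V.1).hom := by
  rw [Scheme.IdealSheafData.ideal_map_of_isAffineHom]
  congr 1
  rw [Groth.Agent.LD.QC.ideal_comap_of_le (L ^ N) f V ⟨f ⁻¹ᵁ V.1, V.2.preimage f⟩ le_rfl,
    Scheme.Hom.appLE_eq_app, Scheme.IdealSheafData.ideal_pow, Pi.pow_apply, hLt,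
    Ideal.span_singleton_pow, Ideal.map_span, Set.image_singleton, map_pow]

theorem S7894_main [IsNoetherian Y] [IsReduced X] [IsFinite f]
    (hL : BlowUp.IsEffCartierIdeal L)
    (hiso : IsIso (f ∣_ L.support.compl))
    (hdense : Dense (f.base ⁻¹' ((L.support : Set Y)ᶜ))) :
    ∃ I : Y.IdealSheafData, I.support = L.support ∧ BlowUp.IsBlowUp f I := by
  classical
  have hL' := hL
  choose V hyV t ht hLt using hL
  have loc := fun y => local_main f L (V y) (t y) (hLt y) hiso hdense (ht y)
  choose hinj hnzd n hn1 hn using loc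
  obtain ⟨F, hF⟩ := CompactSpace.elim_nhds_subcover (fun y => ((V y).1 : Set Y))
    (fun y => (V y).1.2.mem_nhds (hyV y))
  have hN : 1 + ∑ y ∈ F, n y ≠ 0 := by omega
  refine ⟨((L ^ (1 + ∑ y ∈ F, n y)).comap f).map f, support_eq f L hL' hiso _ hN, ?_⟩
  refine isBlowUp_of_openCover f _ (fun y : F => (V y.1).1) ?_ (fun y => ?_)
  · intro x
    have hx : x ∈ (⊤ : Set Y) := trivial
    rw [← hF] at hx
    simp only [Set.mem_iUnion] at hx
    obtain ⟨y, hy, hxy⟩ := hx
    exact ⟨⟨y, hy⟩, hxy⟩
  · refine isBlowUp_restrict_of_SpecMap f _ (V y.1) ?_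
    have hle : n y.1 ≤ 1 + ∑ y ∈ F, n y :=
      (Finset.single_le_sum (f := n) (fun _ _ => Nat.zero_le _) y.2).trans (Nat.le_add_left _ _)
    have hN' : ∀ b, ∃ a, (f.app (V y.1).1).hom a =
        (f.app (V y.1).1).hom (t y.1) ^ (1 + ∑ y ∈ F, n y) * b := by
      intro b
      obtain ⟨a, ha⟩ := hn y.1 ((f.app (V y.1).1).hom (t y.1) ^ (1 + ∑ y ∈ F, n y - n y.1) * b)
      exact ⟨a, by rw [ha, ← mul_assoc, ← pow_add, Nat.add_sub_cancel' hle]⟩
    rw [ideal_eq f L _ (V y.1) (t y.1) (hLt y.1)]
    exact Groth.Agent.H9.BLA.isBlowUp_SpecMap_of_principal _ (f.app (V y.1).1).hom (hinj y.1)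
      (map_subset_image _ (t y.1) _ hN') ((f.app (V y.1).1).hom (t y.1) ^ (1 + ∑ y ∈ F, n y))
      (pow_mem (hnzd y.1) _) (map_comap_span _ (t y.1) _)

end Groth.Agent.H9.FBL
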