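import Mathlib

/-! Helper9: module lemmas for S11493. -/

namespace Groth.Agent.H9.FE

universe u
variable {A : Type u} [CommRing A]

/-- If the kernel `K` of a surjection `Φ : F → M` from a projective module is finite free and every
functional on `K` extends to `F`, then `M` is projective. -/
theorem projective_of_extend {F M : Type*} [AddCommGroup F] [Module A F] [AddCommGroup M] [Module A M]
    [Module.Projective A F] (Φ : F →ₗ[A] M) (hΦ : Function.Surjective Φ)
    [Module.Free A (LinearMap.ker Φ)] [Module.Finite A (LinearMap.ker Φ)]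
    (hext : ∀ g : LinearMap.ker Φ →ₗ[A] A, ∃ g' : F →ₗ[A] A, g' ∘ₗ (LinearMap.ker Φ).subtype = g) :
    Module.Projective A M := by
  classical
  let b := Module.Free.chooseBasis A (LinearMap.ker Φ)
  choose g' hg' using fun i => hext (b.coord i)
  let r : F →ₗ[A] LinearMap.ker Φ := ∑ i, (g' i).smulRight (b i)
  have hr : ∀ k : LinearMap.ker Φ, r k.1 = k := by
    intro k
    simp only [r, LinearMap.sum_apply, LinearMap.smulRight_apply]
    conv_rhs => rw [← b.sum_repr k]
    apply Finset.sum_congr rfl
    intro i _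
    have := LinearMap.congr_fun (hg' i) k
    simp only [LinearMap.comp_apply, Submodule.subtype_apply, Module.Basis.coord_apply] at this
    rw [this]
  let σ : F →ₗ[A] F := LinearMap.id - (LinearMap.ker Φ).subtype ∘ₗ r
  have hσ : LinearMap.ker Φ ≤ LinearMap.ker σ := by
    intro x hx
    rw [LinearMap.mem_ker]
    have := hr ⟨x, hx⟩
    simp only [σ, LinearMap.sub_apply, LinearMap.id_apply, LinearMap.comp_apply,
      Submodule.subtype_apply]
    rw [this]
    simp
  let i : M →ₗ[A] F :=
    ((LinearMap.ker Φ).liftQ σ hσ) ∘ₗ (Φ.quotKerEquivOfSurjective hΦ).symm.toLinearMap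
  have hi : ∀ x, i (Φ x) = σ x := by
    intro x
    simp only [i, LinearMap.comp_apply, LinearEquiv.coe_coe]
    have : (Φ.quotKerEquivOfSurjective hΦ).symm (Φ x) = Submodule.Quotient.mk x := by
      rw [LinearEquiv.symm_apply_eq]
      rfl
    rw [this, Submodule.liftQ_apply]
  apply Module.Projective.of_split i Φ
  ext m
  obtain ⟨x, rfl⟩ := hΦ m
  simp only [LinearMap.comp_apply, LinearMap.id_apply]
  rw [hi]
  simp only [σ, LinearMap.sub_apply, LinearMap.id_apply, LinearMap.comp_apply,
      Submodule.subtype_apply, map_sub]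
  have : Φ (r x).1 = 0 := (r x).2
  rw [this, sub_zero]

/-- horseshoe-type presentation of the middle term of a short exact sequence -/
theorem exists_presentation {X₁ M X₃ Q : Type*} [AddCommGroup X₁] [Module A X₁]
    [AddCommGroup M] [Module A M] [AddCommGroup X₃] [Module A X₃] [AddCommGroup Q] [Module A Q]
    [Module.Projective A Q]
    (j : X₁ →ₗ[A] M) (π : M →ₗ[A] X₃) (hj : Function.Injective j) (hπ : Function.Surjective π)
    (hex : LinearMap.range j = LinearMap.ker π)
    (φ : Q →ₗ[A] X₃) :
    ∃ Φ : (X₁ × Q) →ₗ[A] M, (Function.Surjective φ → Function.Surjective Φ) ∧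
      Nonempty (LinearMap.ker Φ ≃ₗ[A] LinearMap.ker φ) := by
  obtain ⟨ψ, hψ⟩ := Module.projective_lifting_property π φ hπ
  have hψ' : ∀ v, π (ψ v) = φ v := fun v => LinearMap.congr_fun hψ v
  have hπj : ∀ x, π (j x) = 0 := by
    intro x
    have : j x ∈ LinearMap.ker π := by rw [← hex]; exact ⟨x, rfl⟩
    exact this
  refine ⟨j.coprod ψ, ?_, ?_⟩
  · intro hφ m
    obtain ⟨v, hv⟩ := hφ (π m)
    have h1 : m - ψ v ∈ LinearMap.ker π := by
      rw [LinearMap.mem_ker, map_sub, hψ', hv, sub_self]
    rw [← hex] at h1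
    obtain ⟨x, hx⟩ := h1
    refine ⟨(x, v), ?_⟩
    rw [LinearMap.coprod_apply, hx]
    abel
  · let T : LinearMap.ker (j.coprod ψ) →ₗ[A] LinearMap.ker φ :=
      LinearMap.codRestrict (LinearMap.ker φ)
        ((LinearMap.snd A X₁ Q) ∘ₗ (LinearMap.ker (j.coprod ψ)).subtype) (by
        rintro ⟨⟨x, v⟩, h⟩
        rw [LinearMap.mem_ker, LinearMap.coprod_apply] at h
        simp only [LinearMap.comp_apply, Submodule.subtype_apply, LinearMap.snd_apply,
          LinearMap.mem_ker]
        rw [← hψ']
        have h2 : ψ v = - j x := by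
          rw [eq_neg_iff_add_eq_zero, add_comm]; exact h
        rw [h2, map_neg, hπj, neg_zero])
    refine ⟨LinearEquiv.ofBijective T ⟨?_, ?_⟩⟩
    · rw [← LinearMap.ker_eq_bot, LinearMap.ker_eq_bot']
      rintro ⟨⟨x, v⟩, h⟩ hT
      have hv : v = 0 := by
        have := congrArg Subtype.val hT
        simpa [T] using this
      subst hv
      rw [LinearMap.mem_ker, LinearMap.coprod_apply, map_zero, add_zero] at h
      have hx : x = 0 := hj (by rw [h, map_zero])
      subst hx
      rfl
    · rintro ⟨v, hv⟩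
      rw [LinearMap.mem_ker, ← hψ'] at hv
      have h1 : ψ v ∈ LinearMap.range j := by rw [hex]; exact hv
      obtain ⟨x, hx⟩ := h1
      refine ⟨⟨(-x, v), ?_⟩, ?_⟩
      · rw [LinearMap.mem_ker, LinearMap.coprod_apply, map_neg, hx]
        simp
      · apply Subtype.ext
        simp [T]

end Groth.Agent.H9.FE
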