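import Mathlib

/-! Helper9: Ext lemmas for S11493. -/

namespace Groth.Agent.H9.FE
open CategoryTheory Abelian

universe w v u
variable {C : Type u} [Category.{v} C] [Abelian C] [HasExt.{w} C]

/-- The class of the extension generates `Ext¹(X₃, X₁)` over `End X₁` iff `Ext¹(X₂, X₁) = 0`,
when `X₁` is projective. -/
theorem gen_iff (S : ShortComplex C) (hS : S.ShortExact) [Projective S.X₁] :
    (∀ x : Ext S.X₃ S.X₁ 1, ∃ f : S.X₁ ⟶ S.X₁, hS.extClass.comp (Ext.mk₀ f) (add_zero 1) = x) ↔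
      (∀ y : Ext S.X₂ S.X₁ 1, y = 0) := by
  constructor
  · intro h y
    have h1 : (Ext.mk₀ S.f).comp y (zero_add 1) = 0 := Ext.eq_zero_of_projective _
    obtain ⟨x₁, hx₁⟩ := Ext.contravariant_sequence_exact₂ hS S.X₁ y h1
    obtain ⟨f, hf⟩ := h x₁
    rw [← hx₁, ← hf, ← Ext.comp_assoc (Ext.mk₀ S.g) hS.extClass (Ext.mk₀ f) (zero_add 1)
      (add_zero 1) (by omega), hS.comp_extClass, Ext.zero_comp]
  · intro h x
    have h1 : (Ext.mk₀ S.g).comp x (zero_add 1) = 0 := h _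
    obtain ⟨x₁, hx₁⟩ := Ext.contravariant_sequence_exact₃ hS S.X₁ x h1 (add_zero 1)
    refine ⟨Ext.homEquiv₀ x₁, ?_⟩
    rw [Ext.mk₀_homEquiv₀_apply, hx₁]

/-- If `Ext¹(X₃, Y) = 0` then morphisms `X₁ ⟶ Y` extend to `X₂`. -/
theorem extend_of_vanish (T : ShortComplex C) (hT : T.ShortExact) (Y : C)
    (h : ∀ y : Ext T.X₃ Y 1, y = 0) (g : T.X₁ ⟶ Y) : ∃ g' : T.X₂ ⟶ Y, T.f ≫ g' = g := by
  obtain ⟨x₂, hx₂⟩ := Ext.contravariant_sequence_exact₁ hT Y (Ext.mk₀ g) (add_zero 1) (h _)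
  refine ⟨Ext.homEquiv₀ x₂, ?_⟩
  apply (Ext.mk₀_bijective _ _).1
  rw [← Ext.mk₀_comp_mk₀, Ext.mk₀_homEquiv₀_apply, hx₂]

end Groth.Agent.H9.FE
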