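import Mathlib
import Groth.Agent.Lib.Helper9.Misc.FE1
import Groth.Agent.Lib.Helper9.Misc.FE2

/-! Helper9: S11493 main. -/

namespace Groth.Agent.H9.FE
open CategoryTheory Abelian

universe u

theorem main (A : Type u) [CommRing A] [IsNoetherianRing A] [IsLocalRing A]
    (I : Ideal A)
    (hres : ∃ (q : ℕ) (φ : (Fin q → A) →ₗ[A] ↥I), Function.Surjective φ ∧ Module.Free A ↥(LinearMap.ker φ))
    (S : ShortComplex (ModuleCat.{u} A)) (hS : S.ShortExact)
    (h₁ : Nonempty (S.X₁ ≅ ModuleCat.of A A)) (h₃ : Nonempty (S.X₃ ≅ ModuleCat.of A ↥I)) :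
    Module.Free A S.X₂ ↔
      ∀ x : Abelian.Ext S.X₃ S.X₁ 1, ∃ f : S.X₁ ⟶ S.X₁, hS.extClass.comp (Abelian.Ext.mk₀ f) (add_zero 1) = x := by
  obtain ⟨e₁⟩ := h₁
  obtain ⟨e₃⟩ := h₃
  have hproj1 : Projective S.X₁ := Projective.of_iso e₁.symm inferInstance
  rw [gen_iff S hS]
  constructor
  · intro hfree y
    have : Projective S.X₂ := ModuleCat.projective_of_categoryTheory_projective S.X₂
    exact Ext.eq_zero_of_projective y
  · intro hvan
    obtain ⟨q, φ, hφ, hfreeK⟩ := hres
    let l₁ : S.X₁ ≃ₗ[A] A := e₁.toLinearEquiv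
    let l₃ : S.X₃ ≃ₗ[A] I := e₃.toLinearEquiv
    let φ' : (Fin q → A) →ₗ[A] S.X₃ := l₃.symm.toLinearMap ∘ₗ φ
    have hφ' : Function.Surjective φ' := l₃.symm.surjective.comp hφ
    have hker : LinearMap.ker φ' = LinearMap.ker φ := LinearEquiv.ker_comp _ _
    obtain ⟨Φ, hΦ, ⟨eK⟩⟩ := exists_presentation S.f.hom S.g.hom hS.moduleCat_injective_f
      hS.moduleCat_surjective_g hS.exact.moduleCat_range_eq_ker φ'
    have hΦs := hΦ hφ'
    have hfin1 : Module.Finite A S.X₁ := Module.Finite.equiv l₁.symm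
    have hfree1 : Module.Free A S.X₁ := Module.Free.of_equiv l₁.symm
    have hfreeK' : Module.Free A (LinearMap.ker Φ) :=
      Module.Free.of_equiv (eK.trans (LinearEquiv.ofEq _ _ hker)).symm
    have hprojM : Module.Projective A S.X₂ := by
      apply projective_of_extend Φ hΦs
      intro g
      let T := Φ.shortComplexKer
      have hT : T.ShortExact := LinearMap.shortExact_shortComplexKer hΦs
      obtain ⟨g', hg'⟩ := extend_of_vanish T hT S.X₁ hvan
        (ModuleCat.ofHom (l₁.symm.toLinearMap ∘ₗ g))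
      refine ⟨l₁.toLinearMap ∘ₗ g'.hom, ?_⟩
      ext k
      have h2 := congrArg (fun f => f.hom k) hg'
      simp only [ModuleCat.hom_comp, LinearMap.comp_apply, ModuleCat.hom_ofHom] at h2
      simp only [LinearMap.comp_apply, LinearEquiv.coe_coe]
      have h3 : g'.hom ((LinearMap.ker Φ).subtype k) = l₁.symm (g k) := h2
      rw [h3, LinearEquiv.apply_symm_apply]
    have hfinM : Module.Finite A S.X₂ := Module.Finite.of_surjective Φ hΦs
    exact Module.free_of_flat_of_isLocalRing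

end Groth.Agent.H9.FE
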