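import Mathlib
import Groth.Agent.Lib.Helper5.NApprox.GlueA
import Groth.Agent.Lib.Helper9.Misc.MDP1

open CategoryTheory CategoryTheory.Limits AlgebraicGeometry TopologicalSpace

universe u

namespace Groth.Agent.H9.QDG

/-- a morphism whose composite with some morphism is a preimmersion is a preimmersion. -/
theorem isPreimmersion_of_comp' {X Y Z : Scheme.{u}} (f : X ⟶ Y) (g : Y ⟶ Z)
    [IsPreimmersion (f ≫ g)] : IsPreimmersion f where
  isEmbedding := by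
    have h := (f ≫ g).isEmbedding
    exact Topology.IsEmbedding.of_comp f.continuous g.continuous (by simpa using h)
  stalkMap_surjective x := by
    have h := (f ≫ g).stalkMap_surjective x
    rw [Scheme.Hom.stalkMap_comp] at h
    exact Function.Surjective.of_comp h

/-- the graph of a morphism defined on an open, if closed, is a closed immersion. -/
theorem isClosedImmersion_graph {S X₁ X₂ : Scheme.{u}} (p₁ : X₁ ⟶ S) (p₂ : X₂ ⟶ S) (W : X₁.Opens)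
    (φ : (↑W : Scheme.{u}) ⟶ X₂) (hφ : W.ι ≫ p₁ = φ ≫ p₂)
    (hc : IsClosed (Set.range (fun w => (pullback.lift W.ι φ hφ) w))) :
    IsClosedImmersion (pullback.lift W.ι φ hφ) := by
  haveI : IsPreimmersion (pullback.lift W.ι φ hφ ≫ pullback.fst p₁ p₂) := by
    rw [pullback.lift_fst]; infer_instance
  haveI := isPreimmersion_of_comp' (pullback.lift W.ι φ hφ) (pullback.fst p₁ p₂)
  exact IsClosedImmersion.of_isPreimmersion _ hc

/-- restriction of a schematically dominant quasi-compact morphism to an open through which it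
factors. -/
theorem dominant_of_comp_ι {U X : Scheme.{u}} (W : X.Opens) (k : U ⟶ ↑W) (j : U ⟶ X)
    (hk : k ≫ W.ι = j) [IsSchemeTheoreticallyDominant j] [QuasiCompact j] :
    IsSchemeTheoreticallyDominant k := by
  have h1 : IsPullback (𝟙 U) k k (𝟙 (↑W : Scheme.{u})) := IsPullback.of_horiz_isIso ⟨by simp⟩
  have h2 : IsPullback (𝟙 (↑W : Scheme.{u})) (𝟙 _) W.ι W.ι := IsKernelPair.id_of_mono W.ι
  have h3 := h1.paste_vert h2
  rw [Category.comp_id, hk] at h3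
  exact IsSchemeTheoreticallyDominant.of_isPullback h3

set_option backward.isDefEq.respectTransparency false in
theorem exists_iso {S X₁ X₂ U : Scheme.{u}}
    (p₁ : X₁ ⟶ S) (p₂ : X₂ ⟶ S)
    (j₁ : U ⟶ X₁) (j₂ : U ⟶ X₂)
    [IsSchemeTheoreticallyDominant j₁] [IsSchemeTheoreticallyDominant j₂]
    [QuasiCompact j₁] [QuasiCompact j₂] (hj : j₁ ≫ p₁ = j₂ ≫ p₂)
    (W₁ : X₁.Opens) (φ : (↑W₁ : Scheme.{u}) ⟶ X₂)
    (hφ : W₁.ι ≫ p₁ = φ ≫ p₂)
    (hφc : IsClosed (Set.range (fun w => (Limits.pullback.lift W₁.ι φ hφ) w)))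
    (k₁ : U ⟶ ↑W₁) (hk₁ : k₁ ≫ W₁.ι = j₁) (hk₁' : k₁ ≫ φ = j₂)
    (W₂ : X₂.Opens) (ψ : (↑W₂ : Scheme.{u}) ⟶ X₁)
    (hψ : W₂.ι ≫ p₂ = ψ ≫ p₁)
    (hψc : IsClosed (Set.range (fun w => (Limits.pullback.lift W₂.ι ψ hψ) w)))
    (k₂ : U ⟶ ↑W₂) (hk₂ : k₂ ≫ W₂.ι = j₂) (hk₂' : k₂ ≫ ψ = j₁) :
    ∃ θ : (↑W₁ : Scheme.{u}) ≅ ↑W₂, θ.hom ≫ W₂.ι = φ ∧ θ.hom ≫ ψ = W₁.ι ∧ k₁ ≫ θ.hom = k₂ ∧
      IsClosedImmersion (pullback.lift W₁.ι φ hφ) := by
  haveI c1 : IsClosedImmersion (pullback.lift W₁.ι φ hφ) :=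
    isClosedImmersion_graph p₁ p₂ W₁ φ hφ hφc
  haveI c2' : IsClosedImmersion (pullback.lift W₂.ι ψ hψ) :=
    isClosedImmersion_graph p₂ p₁ W₂ ψ hψ hψc
  have e2 : pullback.lift ψ W₂.ι hψ.symm =
      pullback.lift W₂.ι ψ hψ ≫ (pullbackSymmetry p₂ p₁).hom := by
    ext <;> simp
  haveI c2 : IsClosedImmersion (pullback.lift ψ W₂.ι hψ.symm) := by
    rw [e2]; infer_instance
  haveI d1 : IsSchemeTheoreticallyDominant k₁ := dominant_of_comp_ι W₁ k₁ j₁ hk₁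
  haveI d2 : IsSchemeTheoreticallyDominant k₂ := dominant_of_comp_ι W₂ k₂ j₂ hk₂
  have u1 : k₁ ≫ pullback.lift W₁.ι φ hφ = pullback.lift j₁ j₂ hj := by
    ext <;> simp [hk₁, hk₁']
  have u2 : k₂ ≫ pullback.lift ψ W₂.ι hψ.symm = pullback.lift j₁ j₂ hj := by
    ext <;> simp [hk₂, hk₂']
  have hker : (pullback.lift W₁.ι φ hφ).ker = (pullback.lift ψ W₂.ι hψ.symm).ker := by
    rw [← Groth.Agent.H9.MDP.ker_comp_of_dominant k₁, u1, ← u2,
      Groth.Agent.H9.MDP.ker_comp_of_dominant k₂]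
  let θh : (↑W₁ : Scheme.{u}) ⟶ ↑W₂ :=
    IsClosedImmersion.lift (pullback.lift ψ W₂.ι hψ.symm) (pullback.lift W₁.ι φ hφ) hker.ge
  have fac : θh ≫ pullback.lift ψ W₂.ι hψ.symm = pullback.lift W₁.ι φ hφ :=
    IsClosedImmersion.lift_fac _ _ _
  haveI : IsIso θh := IsClosedImmersion.isIso_of_ker_eq _ _ θh fac hker
  refine ⟨asIso θh, ?_, ?_, ?_, c1⟩
  · have := congrArg (· ≫ pullback.snd p₁ p₂) fac
    simpa using this
  · have := congrArg (· ≫ pullback.fst p₁ p₂) fac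
    simpa using this
  · rw [← cancel_mono (pullback.lift ψ W₂.ι hψ.symm)]
    simp only [asIso_hom, Category.assoc, fac, u1, u2]

end Groth.Agent.H9.QDG
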