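import Mathlib
import Groth.Agent.Lib.Helper9.Misc.QDG1

open CategoryTheory CategoryTheory.Limits AlgebraicGeometry TopologicalSpace

universe u

namespace Groth.Agent.H9.FEX

section StepA

variable {S T₀ : Scheme.{u}} (U : S.Opens) (t₀ : T₀ ⟶ (↑U : Scheme.{u}))

set_option backward.isDefEq.respectTransparency false in
theorem isIso_fst : IsIso (pullback.fst (t₀ ≫ U.ι) U.ι) := by
  haveI : IsSplitEpi (pullback.fst (t₀ ≫ U.ι) U.ι) :=
    ⟨⟨⟨pullback.lift (𝟙 _) t₀ (by simp), by simp⟩⟩⟩
  exact isIso_of_mono_of_isSplitEpi _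

theorem snd_eq : pullback.snd (t₀ ≫ U.ι) U.ι = pullback.fst (t₀ ≫ U.ι) U.ι ≫ t₀ := by
  rw [← cancel_mono U.ι, Category.assoc, pullback.condition]

variable [IsFinite t₀] [QuasiCompact U.ι]

set_option backward.isDefEq.respectTransparency false in
theorem toNormalization_eq :
    haveI := isIso_fst U t₀
    (t₀ ≫ U.ι).toNormalization = inv (pullback.fst (t₀ ≫ U.ι) U.ι) ≫
      (pullback.snd (t₀ ≫ U.ι) U.ι).toNormalization ≫
        (t₀ ≫ U.ι).normalizationPullback U.ι ≫ pullback.fst (t₀ ≫ U.ι).fromNormalization U.ι := by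
  haveI := isIso_fst U t₀
  rw [IsIso.eq_inv_comp]
  exact ((t₀ ≫ U.ι).toNormalization_normalizationPullback_fst U.ι).symm

set_option backward.isDefEq.respectTransparency false in
theorem isOpenImmersion_toNormalization :
    IsOpenImmersion (t₀ ≫ U.ι).toNormalization := by
  haveI := isIso_fst U t₀
  haveI : IsFinite (pullback.snd (t₀ ≫ U.ι) U.ι) := by
    rw [snd_eq]; infer_instance
  rw [toNormalization_eq U t₀]
  infer_instance

set_option backward.isDefEq.respectTransparency false in
theorem opensRange_toNormalization :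
    haveI := isOpenImmersion_toNormalization U t₀
    (t₀ ≫ U.ι).toNormalization.opensRange = (t₀ ≫ U.ι).fromNormalization ⁻¹ᵁ U := by
  haveI := isIso_fst U t₀
  haveI : IsFinite (pullback.snd (t₀ ≫ U.ι) U.ι) := by
    rw [snd_eq]; infer_instance
  apply Opens.ext
  have h : (t₀ ≫ U.ι).toNormalization = (inv (pullback.fst (t₀ ≫ U.ι) U.ι) ≫
      (pullback.snd (t₀ ≫ U.ι) U.ι).toNormalization ≫
        (t₀ ≫ U.ι).normalizationPullback U.ι) ≫
          pullback.fst (t₀ ≫ U.ι).fromNormalization U.ι := by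
    rw [toNormalization_eq U t₀]; simp only [Category.assoc]
  have h2 := Scheme.Hom.opensRange_comp_of_isIso (inv (pullback.fst (t₀ ≫ U.ι) U.ι) ≫
      (pullback.snd (t₀ ≫ U.ι) U.ι).toNormalization ≫
        (t₀ ≫ U.ι).normalizationPullback U.ι)
          (pullback.fst (t₀ ≫ U.ι).fromNormalization U.ι)
  have h3 : Set.range ((t₀ ≫ U.ι).toNormalization) =
      Set.range (pullback.fst (t₀ ≫ U.ι).fromNormalization U.ι) := by
    rw [h]
    exact congrArg (fun O => O.1) h2
  change Set.range ((t₀ ≫ U.ι).toNormalization) = _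
  rw [h3, IsOpenImmersion.range_pullbackFst]
  simp

end StepA

end Groth.Agent.H9.FEX
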