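import Mathlib
import Groth.Agent.Lib.Helper5.NApprox.IntB
import Groth.Agent.Lib.Helper5.NApprox.LimCI
import Groth.Agent.Lib.Helper9.Misc.FEX1
import Groth.Agent.Lib.Helper9.Misc.MDP1
import Groth.Agent.Lib.Lead.QC.CartierCompl
import Groth.Agent.Lib.Lead.QC.CartierDense

open CategoryTheory CategoryTheory.Limits AlgebraicGeometry TopologicalSpace Opposite

universe u

namespace Groth.Agent.H9.FEX

set_option backward.isDefEq.respectTransparency false in
/-- an integral `N → S` (qcqs base) whose restriction over a quasi-compact open `U` is of finite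
type admits a finite approximation `N → N' → S` which is a closed immersion over `U`. -/
theorem exists_stage {S N : Scheme.{u}} [CompactSpace S] [QuasiSeparatedSpace S] (ν : N ⟶ S)
    [IsIntegralHom ν] (U : S.Opens) [CompactSpace (↑U : Scheme.{u})]
    (hft : LocallyOfFiniteType (pullback.snd ν U.ι)) :
    ∃ (N' : Scheme.{u}) (ν' : N' ⟶ S) (π : N ⟶ N'), IsFinite ν' ∧ π ≫ ν' = ν ∧
      ∃ q : pullback ν U.ι ⟶ pullback ν' U.ι, IsClosedImmersion q ∧
        q ≫ pullback.fst ν' U.ι = pullback.fst ν U.ι ≫ π ∧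
        q ≫ pullback.snd ν' U.ι = pullback.snd ν U.ι := by
  obtain ⟨I, pI, dI, nI, D, c, hc, hprops, ⟨e⟩⟩ :=
    Groth.Agent.H5.NApprox.exists_limit_finite_fp_of_integral ν
  let c' : Cone D := c.extend e.inv
  have hc' : IsLimit c' := IsLimit.ofIsoLimit hc (Cones.ext e (fun j => by simp [c']))
  let G := Over.pullback U.ι
  let DU : Iᵒᵖ ⥤ Over (↑U : Scheme.{u}) := D ⋙ G
  let cU : Cone DU := G.mapCone c'
  have hcU : IsLimit cU := isLimitOfPreserves G hc'
  have hfinU : ∀ i : Iᵒᵖ, IsFinite (DU.obj i).hom := by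
    intro i
    haveI := (hprops i).1
    exact inferInstanceAs (IsFinite (pullback.snd (D.obj i).hom U.ι))
  have haff : ∀ (i j : Iᵒᵖ) (a : i ⟶ j), IsAffineHom (DU.map a).left := by
    intro i j a
    haveI := hfinU i
    haveI := hfinU j
    haveI : IsAffineHom ((DU.map a).left ≫ (DU.obj j).hom) := by
      rw [Over.w (DU.map a)]
      infer_instance
    exact IsAffineHom.of_comp (DU.map a).left (DU.obj j).hom
  have hcpt : ∀ i : Iᵒᵖ, CompactSpace (DU.obj i).left := by
    intro i
    haveI := hfinU i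
    exact QuasiCompact.compactSpace_of_compactSpace (DU.obj i).hom
  haveI : LocallyOfFiniteType cU.pt.hom := hft
  obtain ⟨i₀, hi₀⟩ :=
    Groth.Agent.H5.NApprox.exists_isClosedImmersion_stage DU cU hcU haff hcpt
  refine ⟨(D.obj (op i₀)).left, (D.obj (op i₀)).hom, (c'.π.app (op i₀)).left,
    (hprops (op i₀)).1, Over.w (c'.π.app (op i₀)), (cU.π.app (op i₀)).left, hi₀ i₀ le_rfl, ?_, ?_⟩
  · simp [cU, G, Over.pullback]
    rfl
  · simp [cU, G, Over.pullback]
    rfl

end Groth.Agent.H9.FEX
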