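import Mathlib
import Groth.Agent.Lib.Helper9.Misc.FEX2
import Groth.Prelude

open CategoryTheory CategoryTheory.Limits AlgebraicGeometry TopologicalSpace Opposite

universe u

namespace Groth.Agent.H9.FEX

set_option backward.isDefEq.respectTransparency false in
theorem main_aux {S : Scheme.{u}} [CompactSpace S] [QuasiSeparatedSpace S] (U : S.Opens)
    [IsAffineHom U.ι] [IsSchemeTheoreticallyDominant U.ι] {T₀ : Scheme.{u}}
    (t₀ : T₀ ⟶ (↑U : Scheme.{u})) [IsFinite t₀] [Surjective t₀] :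
    ∃ (T : Scheme.{u}) (t : T ⟶ S) (j : T₀ ⟶ T), IsFinite t ∧ Surjective t ∧
      IsSchemeTheoreticallyDominant (t ⁻¹ᵁ U).ι ∧ IsOpenImmersion j ∧
      Set.range j = t ⁻¹' (U : Set S) ∧ j ≫ t = t₀ ≫ U.ι := by
  haveI : CompactSpace (↑U : Scheme.{u}) := QuasiCompact.compactSpace_of_compactSpace U.ι
  obtain ⟨ν, hν⟩ : ∃ ν : (t₀ ≫ U.ι).normalization ⟶ S, ν = (t₀ ≫ U.ι).fromNormalization := ⟨_, rfl⟩
  obtain ⟨τ, hτdef⟩ : ∃ τ : T₀ ⟶ (t₀ ≫ U.ι).normalization, τ = (t₀ ≫ U.ι).toNormalization :=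
    ⟨_, rfl⟩
  haveI : IsIntegralHom ν := by rw [hν]; infer_instance
  haveI hτ : IsOpenImmersion τ := by rw [hτdef]; exact isOpenImmersion_toNormalization U t₀
  have hτr : τ.opensRange = ν ⁻¹ᵁ U := by
    subst hτdef hν; exact opensRange_toNormalization U t₀
  have hτν : τ ≫ ν = t₀ ≫ U.ι := by
    subst hτdef hν; exact (t₀ ≫ U.ι).toNormalization_fromNormalization
  -- `T₀ ≅ ν⁻¹(U)`
  obtain ⟨θ, hθ1, hθ2⟩ : ∃ θ : T₀ ⟶ pullback ν U.ι, θ ≫ pullback.fst ν U.ι = τ ∧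
      θ ≫ pullback.snd ν U.ι = t₀ :=
    ⟨pullback.lift τ t₀ hτν, pullback.lift_fst _ _ _, pullback.lift_snd _ _ _⟩
  haveI : IsIso θ := by
    haveI : IsOpenImmersion (θ ≫ pullback.fst ν U.ι) := by rw [hθ1]; exact hτ
    haveI : IsOpenImmersion θ := IsOpenImmersion.of_comp θ (pullback.fst ν U.ι)
    apply isIso_of_isOpenImmersion_of_opensRange_eq_top
    rw [eq_top_iff]
    rintro z -
    have hz : pullback.fst ν U.ι z ∈ τ.opensRange := by
      rw [hτr]
      change ν (pullback.fst ν U.ι z) ∈ U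
      rw [← Scheme.Hom.comp_apply, pullback.condition, Scheme.Hom.comp_apply]
      exact (pullback.snd ν U.ι z).2
    obtain ⟨x, hx⟩ := hz
    refine ⟨x, ?_⟩
    apply (pullback.fst ν U.ι).isOpenEmbedding.injective
    rw [← Scheme.Hom.comp_apply, hθ1]
    exact hx
  have hft : LocallyOfFiniteType (pullback.snd ν U.ι) := by
    have : pullback.snd ν U.ι = inv θ ≫ t₀ := by rw [IsIso.eq_inv_comp, hθ2]
    rw [this]; infer_instance
  obtain ⟨N', ν', π, hfin, hπ, q, hq, hq1, hq2⟩ := exists_stage ν U hft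
  haveI := hfin
  haveI := hq
  obtain ⟨σ, hσ⟩ : ∃ σ : T₀ ⟶ N', σ = τ ≫ π := ⟨_, rfl⟩
  have hσν : σ ≫ ν' = t₀ ≫ U.ι := by rw [hσ, Category.assoc, hπ, hτν]
  haveI : QuasiCompact (σ ≫ ν') := by rw [hσν]; infer_instance
  haveI : QuasiCompact σ := QuasiCompact.of_comp σ ν'
  obtain ⟨t, ht⟩ : ∃ t : σ.image ⟶ S, t = σ.imageι ≫ ν' := ⟨_, rfl⟩
  have hj : σ.toImage ≫ σ.imageι = σ := σ.toImage_imageι
  have hjt : σ.toImage ≫ t = t₀ ≫ U.ι := by rw [ht, ← Category.assoc, hj, hσν]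
  have hjW : Set.range σ.toImage ⊆ Set.range (t ⁻¹ᵁ U).ι := by
    rw [Scheme.Opens.range_ι]
    rintro _ ⟨x, rfl⟩
    change t (σ.toImage x) ∈ U
    rw [← Scheme.Hom.comp_apply, hjt, Scheme.Hom.comp_apply]
    exact (t₀ x).2
  obtain ⟨jW, hjW'⟩ : ∃ jW : T₀ ⟶ ↑(t ⁻¹ᵁ U), jW ≫ (t ⁻¹ᵁ U).ι = σ.toImage :=
    ⟨IsOpenImmersion.lift (t ⁻¹ᵁ U).ι σ.toImage hjW, IsOpenImmersion.lift_fac _ _ _⟩
  haveI : IsSchemeTheoreticallyDominant σ.toImage :=
    Groth.Agent.H9.MDP.isSchemeTheoreticallyDominant_toImage σ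
  haveI : QuasiCompact (σ.toImage ≫ σ.imageι) := by rw [hj]; infer_instance
  haveI : QuasiCompact σ.toImage := QuasiCompact.of_comp σ.toImage σ.imageι
  haveI : IsSchemeTheoreticallyDominant jW :=
    Groth.Agent.H9.QDG.dominant_of_comp_ι (t ⁻¹ᵁ U) jW σ.toImage hjW'
  obtain ⟨m, hm1, hm2⟩ : ∃ m : (↑(t ⁻¹ᵁ U) : Scheme.{u}) ⟶ pullback ν' U.ι,
      m ≫ pullback.fst ν' U.ι = (t ⁻¹ᵁ U).ι ≫ σ.imageι ∧ m ≫ pullback.snd ν' U.ι = t ∣_ U := by
    refine ⟨pullback.lift ((t ⁻¹ᵁ U).ι ≫ σ.imageι) (t ∣_ U) ?_, pullback.lift_fst _ _ _,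
      pullback.lift_snd _ _ _⟩
    rw [morphismRestrict_ι, Category.assoc, ht]
  have hm : jW ≫ m = θ ≫ q := by
    apply pullback.hom_ext
    · rw [Category.assoc, hm1, ← Category.assoc, hjW', hj, Category.assoc, hq1, ← Category.assoc,
        hθ1, hσ]
    · rw [Category.assoc, hm2, Category.assoc, hq2, hθ2, ← cancel_mono U.ι, Category.assoc,
        morphismRestrict_ι, ← Category.assoc, hjW', hjt]
  haveI : Mono m := by
    haveI : Mono (m ≫ pullback.fst ν' U.ι) := by rw [hm1]; infer_instance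
    exact mono_of_mono m (pullback.fst ν' U.ι)
  haveI : IsClosedImmersion (jW ≫ m) := by rw [hm]; infer_instance
  haveI : IsClosedImmersion jW := IsClosedImmersion.of_comp jW m
  haveI : IsIso jW := IsClosedImmersion.isIso_iff_ker_eq_bot.mpr (Scheme.Hom.ker_eq_bot jW)
  haveI : IsOpenImmersion σ.toImage := by rw [← hjW']; infer_instance
  haveI : IsFinite t := by rw [ht]; infer_instance
  haveI : IsSchemeTheoreticallyDominant (t ⁻¹ᵁ U).ι := by
    haveI : IsSchemeTheoreticallyDominant (jW ≫ (t ⁻¹ᵁ U).ι) := by rw [hjW']; infer_instance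
    exact Groth.Agent.H9.MDP.isSchemeTheoreticallyDominant_of_comp jW (t ⁻¹ᵁ U).ι
  refine ⟨σ.image, t, σ.toImage, inferInstance, ?_, inferInstance, inferInstance, ?_, hjt⟩
  · -- surjectivity
    constructor
    have hcl : IsClosed (Set.range t) := t.isClosedMap.isClosed_range
    have hsub : Set.range U.ι ⊆ Set.range t := by
      rintro _ ⟨u, rfl⟩
      obtain ⟨x, rfl⟩ := t₀.surjective u
      exact ⟨σ.toImage x, by rw [← Scheme.Hom.comp_apply, hjt, Scheme.Hom.comp_apply]⟩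
    have hd : Dense (Set.range t) := U.ι.denseRange.mono hsub
    have := hd.closure_eq
    rw [hcl.closure_eq] at this
    intro s
    have hs : s ∈ Set.range t := by rw [this]; trivial
    exact hs
  · -- range
    have hs : Function.Surjective ⇑jW := fun y =>
      ⟨(inv jW) y, by rw [← Scheme.Hom.comp_apply, IsIso.inv_hom_id]; rfl⟩
    rw [← hjW', Scheme.Hom.comp_base, TopCat.coe_comp, Set.range_comp,
      Set.range_eq_univ.mpr hs, Set.image_univ, Scheme.Opens.range_ι]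
    rfl

theorem S19331_main {S : Scheme.{u}}
    [CompactSpace S] [QuasiSeparatedSpace S] (I : S.IdealSheafData)
    (hI : BlowUp.IsEffCartierIdeal I) {T₀ : Scheme.{u}}
    (t₀ : T₀ ⟶ (ModPair.interior I : Scheme.{u})) [IsFinite t₀] [Surjective t₀] :
    ∃ (T : Scheme.{u}) (t : T ⟶ S) (j : T₀ ⟶ T), IsFinite t ∧ Surjective t ∧
      BlowUp.IsEffCartierIdeal (I.comap t) ∧ IsOpenImmersion j ∧
      Set.range j.base = t.base ⁻¹' (ModPair.interior I : Set S) ∧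
      j ≫ t = t₀ ≫ (ModPair.interior I).ι := by
  haveI : IsAffineHom (ModPair.interior I).ι :=
    Groth.Agent.LD.QC.isAffineHom_compl_of_locPrincipal I (fun x _ => by
      obtain ⟨V, hx, a, _, h⟩ := hI x
      exact ⟨V, hx, a, h⟩)
  haveI : IsSchemeTheoreticallyDominant (ModPair.interior I).ι :=
    Groth.Agent.LD.QC.isSchemeTheoreticallyDominant_compl_of_effCartier I hI
  obtain ⟨T, t, j, h1, h2, h3, h4, h5, h6⟩ := main_aux (ModPair.interior I) t₀
  haveI : IsSchemeTheoreticallyDominant (t ⁻¹ᵁ I.support.compl).ι := h3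
  exact ⟨T, t, j, h1, h2, Groth.Agent.LD.QC.isEffCartierIdeal_comap_of_dense I hI t, h4, h5, h6⟩

end Groth.Agent.H9.FEX
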