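import Mathlib

set_option autoImplicit false
set_option linter.style.haveILetI false
set_option linter.unusedSectionVars false
set_option linter.unusedVariables false

universe u

open CategoryTheory CategoryTheory.Limits AlgebraicGeometry TopologicalSpace Topology Opposite

namespace Groth.Agent.H9.FFA

variable {X Y Z W : Scheme.{u}}

theorem isSchemeTheoreticallyDominant_of_comp (f : X ⟶ Y) (g : Y ⟶ Z)
    [IsSchemeTheoreticallyDominant (f ≫ g)] : IsSchemeTheoreticallyDominant g := by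
  rw [isSchemeTheoreticallyDominant_iff, ← le_bot_iff]
  have h1 : (f ≫ g).ker = ⊥ := Scheme.Hom.ker_eq_bot (f ≫ g)
  rw [← h1, Scheme.Hom.ker_comp, ← Scheme.IdealSheafData.map_bot]
  exact Scheme.IdealSheafData.map_mono g bot_le

/-- two morphisms to a separated `Z`-scheme agreeing on a schematically dense part are equal. -/
theorem ext_of_schDominant_of_isSeparated {f g : X ⟶ Y} (s : Y ⟶ Z) [IsSeparated s]
    (h : f ≫ s = g ≫ s) (ι : W ⟶ X) [IsSchemeTheoreticallyDominant ι] (hU : ι ≫ f = ι ≫ g) :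
    f = g := by
  let X' : Over Z := Over.mk (f ≫ s)
  let Y' : Over Z := Over.mk s
  let U' : Over Z := Over.mk (ι ≫ f ≫ s)
  let f' : X' ⟶ Y' := Over.homMk f
  let g' : X' ⟶ Y' := Over.homMk g (by simpa [X', Y'] using h.symm)
  let ι' : U' ⟶ X' := Over.homMk ι
  have : IsSeparated Y'.hom := ‹_›
  have hfac : (equalizer.lift ι' (show ι' ≫ f' = ι' ≫ g' by ext1; exact hU)).left ≫
      (equalizer.ι f' g').left = ι := by
    rw [← Over.comp_left, equalizer.lift_ι]; rfl
  have : IsSchemeTheoreticallyDominant (equalizer.ι f' g').left := by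
    haveI : IsSchemeTheoreticallyDominant
        ((equalizer.lift ι' (show ι' ≫ f' = ι' ≫ g' by ext1; exact hU)).left ≫
          (equalizer.ι f' g').left) := by rw [hfac]; infer_instance
    exact isSchemeTheoreticallyDominant_of_comp
      (equalizer.lift ι' (show ι' ≫ f' = ι' ≫ g' by ext1; exact hU)).left _
  have hiso : IsIso (equalizer.ι f' g').left :=
    (IsClosedImmersion.isIso_iff_ker_eq_bot (f := (equalizer.ι f' g').left)).mpr
      (Scheme.Hom.ker_eq_bot _)
  rw [← cancel_epi (equalizer.ι f' g').left]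
  exact congr($(equalizer.condition f' g').left)

/-- an open of a noetherian scheme containing all associated points is scheme-theoretically
dense. -/
theorem dominant_of_associated (S : Scheme.{u}) [AlgebraicGeometry.IsNoetherian S] (U : S.Opens)
    (hU : ∀ s : S, IsLocalRing.maximalIdeal (S.presheaf.stalk s) ∈
        associatedPrimes (S.presheaf.stalk s) (S.presheaf.stalk s) → s ∈ U) :
    IsSchemeTheoreticallyDominant U.ι := by
  rw [isSchemeTheoreticallyDominant_iff, ← le_bot_iff, Scheme.IdealSheafData.le_def]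
  intro V
  rw [Scheme.Hom.ker_apply]
  simp only [Scheme.IdealSheafData.ideal_bot, Pi.bot_apply]
  intro a ha
  rw [RingHom.mem_ker] at ha
  rw [Ideal.mem_bot]
  by_contra hne
  haveI : IsNoetherianRing Γ(S, V.1) := IsLocallyNoetherian.component_noetherian V
  obtain ⟨P, hP, hle⟩ := exists_le_isAssociatedPrime_of_isNoetherianRing Γ(S, V.1) a hne
  haveI : P.IsPrime := hP.isPrime
  -- the point of `P`
  let s : S := V.2.fromSpec ⟨P, hP.isPrime⟩
  have hsV : s ∈ V.1 := by
    have : s ∈ Set.range V.2.fromSpec := ⟨_, rfl⟩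
    rw [V.2.range_fromSpec] at this
    exact this
  letI : Algebra Γ(S, V.1) (S.presheaf.stalk s) :=
    TopCat.Presheaf.algebra_section_stalk S.presheaf ⟨s, hsV⟩
  haveI hloc : IsLocalization.AtPrime (S.presheaf.stalk s) P :=
    V.2.isLocalization_stalk' ⟨P, hP.isPrime⟩ hsV
  have hsU : s ∈ U := by
    apply hU
    haveI : IsLocalizedModule P.primeCompl
        (Algebra.linearMap Γ(S, V.1) (S.presheaf.stalk s)) :=
      (isLocalizedModule_iff_isLocalization' P.primeCompl _).mpr hloc
    apply Module.associatedPrimes.mem_associatedPrimes_of_comap_mem_associatedPrimes_of_isLocalizedModule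
      P.primeCompl (Algebra.linearMap Γ(S, V.1) (S.presheaf.stalk s))
    have hc : Ideal.comap (algebraMap Γ(S, V.1) (S.presheaf.stalk s))
        (IsLocalRing.maximalIdeal (S.presheaf.stalk s)) = P :=
      IsLocalization.AtPrime.under_maximalIdeal (S.presheaf.stalk s) P
    rw [hc]
    exact hP
  -- the germ of `a` at `s` vanishes
  have hgerm : algebraMap Γ(S, V.1) (S.presheaf.stalk s) a = 0 := by
    have hsW : s ∈ U.ι ''ᵁ U.ι ⁻¹ᵁ V.1 := by
      refine ⟨⟨s, hsU⟩, ?_, rfl⟩
      exact hsV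
    have h0 : S.presheaf.map (homOfLE (x := U.ι ''ᵁ U.ι ⁻¹ᵁ V.1)
        (Set.image_preimage_subset _ _)).op a = 0 := ha
    change S.presheaf.germ V.1 s hsV a = 0
    rw [← TopCat.Presheaf.germ_res_apply S.presheaf (homOfLE (x := U.ι ''ᵁ U.ι ⁻¹ᵁ V.1)
        (Set.image_preimage_subset _ _)) s hsW a, h0, map_zero]
  obtain ⟨⟨t, ht⟩, hta⟩ := (IsLocalization.map_eq_zero_iff P.primeCompl
    (S.presheaf.stalk s) a).mp hgerm
  apply ht
  apply hle
  rw [Submodule.mem_colon_singleton]
  exact hta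

theorem main
    (S G₁ G₂ : Scheme.{u}) [AlgebraicGeometry.IsNoetherian S] (f₁ : G₁ ⟶ S) (f₂ : G₂ ⟶ S)
    [AlgebraicGeometry.Flat f₁] [IsSeparated f₂]
    (U : S.Opens)
    (hU : ∀ s : S, IsLocalRing.maximalIdeal (S.presheaf.stalk s) ∈
        associatedPrimes (S.presheaf.stalk s) (S.presheaf.stalk s) → s ∈ U)
    (φ ψ : G₁ ⟶ G₂) (hφ : φ ≫ f₂ = f₁) (hψ : ψ ≫ f₂ = f₁)
    (h : (f₁ ⁻¹ᵁ U).ι ≫ φ = (f₁ ⁻¹ᵁ U).ι ≫ ψ) : φ = ψ := by
  haveI := dominant_of_associated S U hU
  haveI : QuasiCompact U.ι := inferInstance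
  haveI : IsSchemeTheoreticallyDominant (f₁ ⁻¹ᵁ U).ι :=
    IsSchemeTheoreticallyDominant.of_isPullback (isPullback_morphismRestrict f₁ U)
  exact ext_of_schDominant_of_isSeparated f₂ (hφ.trans hψ.symm) (f₁ ⁻¹ᵁ U).ι h

end Groth.Agent.H9.FFA
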