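import Mathlib
import Groth.Agent.S1156

/-! Helper9: faithfully flat descent of module maps (S15047), using S1156 (Amitsur exactness). -/

namespace Groth.Agent.H9.FFDescMap
open scoped TensorProduct

universe u

variable (A A' : Type u) [CommRing A] [CommRing A'] [Algebra A A']
    [Module.FaithfullyFlat A A'] (M N : Type u) [AddCommGroup M] [Module A M] [AddCommGroup N]
    [Module A N]

lemma assoc_right (x : A' ⊗[A] N) :
    TensorProduct.assoc A A' A' N
      (LinearMap.rTensor N (Algebra.TensorProduct.includeRight : A' →ₐ[A] A' ⊗[A] A').toLinearMap x) =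
      TensorProduct.mk A A' (A' ⊗[A] N) 1 x := by
  induction x using TensorProduct.induction_on with
  | zero => simp
  | tmul a n => simp
  | add x y hx hy => rw [map_add, map_add, hx, hy, map_add]

lemma assoc_left (x : A' ⊗[A] N) :
    TensorProduct.assoc A A' A' N
      (LinearMap.rTensor N (Algebra.TensorProduct.includeLeft : A' →ₐ[A] A' ⊗[A] A').toLinearMap x) =
      LinearMap.lTensor A' (TensorProduct.mk A A' N 1) x := by
  induction x using TensorProduct.induction_on with
  | zero => simp
  | tmul a n => simp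
  | add x y hx hy => rw [map_add, map_add, hx, hy, map_add]

theorem main (f : A' ⊗[A] M →ₗ[A'] A' ⊗[A] N)
    (hf : ∀ m : M,
      LinearMap.rTensor N (Algebra.TensorProduct.includeLeft : A' →ₐ[A] A' ⊗[A] A').toLinearMap (f (1 ⊗ₜ[A] m)) =
        LinearMap.rTensor N (Algebra.TensorProduct.includeRight : A' →ₐ[A] A' ⊗[A] A').toLinearMap (f (1 ⊗ₜ[A] m))) :
    ∃! h : M →ₗ[A] N, h.baseChange A' = f := by
  have hinj : Function.Injective (TensorProduct.mk A A' N 1) :=
    Module.FaithfullyFlat.tensorProduct_mk_injective (A := A) (B := A') N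
  have hex : ∀ m : M, ∃ n : N, (1 : A') ⊗ₜ[A] n = f (1 ⊗ₜ[A] m) := by
    intro m
    have := Groth.Agent.S1156.result A A' N (f (1 ⊗ₜ[A] m)) (by
      rw [← assoc_right, ← assoc_left, hf m])
    obtain ⟨n, hn⟩ := this
    exact ⟨n, hn⟩
  choose h0 hh0 using hex
  let h : M →ₗ[A] N :=
    { toFun := h0
      map_add' := fun x y => by
        apply hinj
        change (1 : A') ⊗ₜ[A] h0 (x + y) = (1 : A') ⊗ₜ[A] (h0 x + h0 y)
        rw [TensorProduct.tmul_add, hh0, hh0, hh0, TensorProduct.tmul_add, map_add]
      map_smul' := fun a x => by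
        apply hinj
        change (1 : A') ⊗ₜ[A] h0 (a • x) = (1 : A') ⊗ₜ[A] (a • h0 x)
        rw [TensorProduct.tmul_smul, hh0, hh0, TensorProduct.tmul_smul, ← algebraMap_smul A' a,
          map_smul, algebraMap_smul] }
  refine ⟨h, ?_, ?_⟩
  · apply LinearMap.ext
    intro x
    induction x using TensorProduct.induction_on with
    | zero => simp
    | tmul a m =>
      have h1 : a ⊗ₜ[A] m = a • ((1 : A') ⊗ₜ[A] m) := by
        rw [TensorProduct.smul_tmul', smul_eq_mul, mul_one]
      rw [h1, map_smul, map_smul, LinearMap.baseChange_tmul]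
      congr 1
      exact hh0 m
    | add x y hx hy => rw [map_add, map_add, hx, hy]
  · intro h' hh'
    apply LinearMap.ext
    intro m
    apply hinj
    change (1 : A') ⊗ₜ[A] h' m = (1 : A') ⊗ₜ[A] h0 m
    rw [hh0, ← hh', LinearMap.baseChange_tmul]

end Groth.Agent.H9.FFDescMap
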