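import Mathlib

set_option autoImplicit false
set_option linter.style.haveILetI false
set_option linter.unusedSectionVars false
set_option linter.unusedVariables false

namespace Groth.Agent.H9.FFG1

open TensorProduct MvPolynomial

universe u v w

variable {k : Type u} {K : Type v} [Field k] [Field K] [Algebra k K]

/-- The ring hom `k'[X,Y] → K ⊗ k'` sending `X ↦ x ⊗ 1`, `Y ↦ y ⊗ 1`. -/
noncomputable def psi (k : Type u) {K : Type v} [Field k] [Field K] [Algebra k K]
    (k' : Type w) [Field k'] [Algebra k k'] (x y : K) :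
    MvPolynomial (Fin 2) k' →+* K ⊗[k] k' :=
  MvPolynomial.eval₂Hom
    ((Algebra.TensorProduct.includeRight : k' →ₐ[k] K ⊗[k] k') : k' →+* K ⊗[k] k')
    ![x ⊗ₜ[k] (1 : k'), y ⊗ₜ[k] (1 : k')]

variable (k' : Type w) [Field k'] [Algebra k k'] (x y : K)

lemma psi_C (c : k') : psi k k' x y (C c) = (1 : K) ⊗ₜ[k] c := by
  simp [psi]

lemma psi_X (i : Fin 2) : psi k k' x y (X i) = (![x, y] i) ⊗ₜ[k] (1 : k') := by
  fin_cases i <;> simp [psi]

lemma psi_map (g : MvPolynomial (Fin 2) k) :
    psi k k' x y (MvPolynomial.map (algebraMap k k') g) = (aeval ![x, y] g) ⊗ₜ[k] (1 : k') := by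
  have h : (psi k k' x y).comp (MvPolynomial.map (algebraMap k k')) =
      ((Algebra.TensorProduct.includeLeft : K →ₐ[k] K ⊗[k] k') : K →+* K ⊗[k] k').comp
        ((aeval ![x, y] : MvPolynomial (Fin 2) k →ₐ[k] K) : MvPolynomial (Fin 2) k →+* K) := by
    apply MvPolynomial.ringHom_ext
    · intro a
      simp only [RingHom.comp_apply, MvPolynomial.map_C, psi_C, RingHom.coe_coe, algHom_C,
        Algebra.TensorProduct.includeLeft_apply]
      rw [Algebra.algebraMap_eq_smul_one, Algebra.algebraMap_eq_smul_one (A := K),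
        TensorProduct.smul_tmul]
    · intro i
      simp only [RingHom.comp_apply, MvPolynomial.map_X, psi_X, RingHom.coe_coe, aeval_X,
        Algebra.TensorProduct.includeLeft_apply]
  exact congrArg (fun φ => φ g) h

section coord

variable {ι : Type*} [Fintype ι] (b : Module.Basis ι k k')

/-- coordinate polynomial -/
noncomputable def coordPoly (G : MvPolynomial (Fin 2) k') (j : ι) : MvPolynomial (Fin 2) k :=
  ∑ m ∈ G.support, monomial m (b.repr (coeff m G) j)

lemma coeff_coordPoly (G : MvPolynomial (Fin 2) k') (j : ι) (m : Fin 2 →₀ ℕ) :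
    coeff m (coordPoly (k := k) k' b G j) = b.repr (coeff m G) j := by
  classical
  unfold coordPoly
  rw [coeff_sum]
  simp only [coeff_monomial]
  rw [Finset.sum_ite_eq']
  split_ifs with h
  · rfl
  · rw [MvPolynomial.notMem_support_iff.mp h]; simp

lemma eq_sum_coordPoly (G : MvPolynomial (Fin 2) k') :
    G = ∑ j, C (b j) * MvPolynomial.map (algebraMap k k') (coordPoly (k := k) k' b G j) := by
  ext m
  rw [coeff_sum]
  simp only [coeff_C_mul, coeff_map, coeff_coordPoly]
  conv_lhs => rw [← b.sum_repr (coeff m G)]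
  refine Finset.sum_congr rfl fun j _ => ?_
  rw [Algebra.smul_def, mul_comm]

lemma psi_eq_sum (G : MvPolynomial (Fin 2) k') :
    psi k k' x y G = ∑ j, (aeval ![x, y] (coordPoly (k := k) k' b G j)) ⊗ₜ[k] (b j) := by
  conv_lhs => rw [eq_sum_coordPoly k' b G]
  rw [map_sum]
  refine Finset.sum_congr rfl fun j _ => ?_
  rw [map_mul, psi_C, psi_map, Algebra.TensorProduct.tmul_mul_tmul, one_mul, mul_one]

lemma coordPoly_mem_ker {G : MvPolynomial (Fin 2) k'} (hG : psi k k' x y G = 0) (j : ι) :
    aeval ![x, y] (coordPoly (k := k) k' b G j) = 0 := by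
  classical
  have h := psi_eq_sum k' x y b G
  rw [hG] at h
  have hli := (Algebra.TensorProduct.basis K b).linearIndependent
  rw [Fintype.linearIndependent_iff] at hli
  refine hli (fun j => aeval ![x, y] (coordPoly (k := k) k' b G j)) ?_ j
  rw [h]
  refine Finset.sum_congr rfl fun j _ => ?_
  rw [Algebra.TensorProduct.basis_apply, TensorProduct.smul_tmul', smul_eq_mul, mul_one]

end coord

theorem ker_psi [FiniteDimensional k k'] {f : MvPolynomial (Fin 2) k}
    (hker : RingHom.ker (aeval ![x, y] : MvPolynomial (Fin 2) k →ₐ[k] K) = Ideal.span {f}) :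
    RingHom.ker (psi k k' x y) = Ideal.span {MvPolynomial.map (algebraMap k k') f} := by
  classical
  apply le_antisymm
  · intro G hG
    rw [RingHom.mem_ker] at hG
    let b := Module.finBasis k k'
    have hj : ∀ j, f ∣ coordPoly (k := k) k' b G j := by
      intro j
      have := coordPoly_mem_ker k' x y b hG j
      rw [← RingHom.mem_ker, hker, Ideal.mem_span_singleton] at this
      exact this
    rw [Ideal.mem_span_singleton, eq_sum_coordPoly k' b G]
    refine Finset.dvd_sum fun j _ => ?_
    refine Dvd.dvd.mul_left ?_ _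
    exact map_dvd (MvPolynomial.map (algebraMap k k')) (hj j)
  · rw [Ideal.span_le]
    intro G hG
    rw [Set.mem_singleton_iff] at hG
    subst hG
    rw [SetLike.mem_coe, RingHom.mem_ker, psi_map]
    have : f ∈ RingHom.ker (aeval ![x, y] : MvPolynomial (Fin 2) k →ₐ[k] K) := by
      rw [hker]; exact Ideal.subset_span rfl
    rw [RingHom.mem_ker] at this
    rw [this, zero_tmul]

end Groth.Agent.H9.FFG1
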