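import Mathlib
import Groth.Agent.Lib.Helper9.Misc.FFG1

set_option autoImplicit false
set_option linter.style.haveILetI false
set_option linter.unusedSectionVars false
set_option linter.unusedVariables false

namespace Groth.Agent.H9.FFG2

open TensorProduct MvPolynomial Groth.Agent.H9.FFG1

universe u v w

variable {k : Type u} {K : Type v} [Field k] [Field K] [Algebra k K]

section domain

variable (k' : Type w) [Field k'] [Algebra k k'] {x y : K}

/-- every element of `K = k(x,y)` is a quotient of polynomial expressions -/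
lemma exists_div (hxy : IntermediateField.adjoin k ({x, y} : Set K) = ⊤) (κ : K) :
    ∃ R S : MvPolynomial (Fin 2) k, aeval ![x, y] S ≠ 0 ∧
      aeval ![x, y] S * κ = aeval ![x, y] R := by
  classical
  have hκ : κ ∈ IntermediateField.adjoin k ({x, y} : Set K) := by rw [hxy]; trivial
  obtain ⟨r, s, hrs⟩ := (IntermediateField.mem_adjoin_iff k κ).mp hκ
  let g : ({x, y} : Set K) → Fin 2 := fun i => if i.1 = x then 0 else 1
  have hg : (![x, y] ∘ g) = (Subtype.val : ({x, y} : Set K) → K) := by
    funext i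
    obtain ⟨i, hi⟩ := i
    simp only [Function.comp_apply, g]
    split_ifs with h
    · simp [h]
    · rcases hi with hi | hi
      · exact absurd hi h
      · rw [Set.mem_singleton_iff] at hi
        simp [hi]
  have hev : ∀ q : MvPolynomial ({x, y} : Set K) k,
      aeval ![x, y] (rename g q) = aeval Subtype.val q := by
    intro q
    rw [aeval_rename, hg]
  by_cases hs : aeval (Subtype.val : ({x, y} : Set K) → K) s = 0
  · refine ⟨0, 1, by simp, ?_⟩
    rw [hrs, hs, div_zero]; simp
  · refine ⟨rename g r, rename g s, by rwa [hev], ?_⟩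
    rw [hev, hev, hrs, mul_div_cancel₀ _ hs]

lemma exists_clear (hxy : IntermediateField.adjoin k ({x, y} : Set K) = ⊤) (z : K ⊗[k] k') :
    ∃ S : MvPolynomial (Fin 2) k, aeval ![x, y] S ≠ 0 ∧
      ∃ a : MvPolynomial (Fin 2) k', ((aeval ![x, y] S) ⊗ₜ[k] (1 : k')) * z = psi k k' x y a := by
  induction z using TensorProduct.induction_on with
  | zero => exact ⟨1, by simp, 0, by simp⟩
  | tmul κ c =>
    obtain ⟨R, S, hS, hRS⟩ := exists_div hxy κ
    refine ⟨S, hS, C c * MvPolynomial.map (algebraMap k k') R, ?_⟩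
    rw [map_mul, psi_C, psi_map, Algebra.TensorProduct.tmul_mul_tmul,
      Algebra.TensorProduct.tmul_mul_tmul, hRS]
    simp only [one_mul, mul_one]
  | add z₁ z₂ h₁ h₂ =>
    obtain ⟨S₁, hS₁, a₁, ha₁⟩ := h₁
    obtain ⟨S₂, hS₂, a₂, ha₂⟩ := h₂
    refine ⟨S₁ * S₂, by rw [map_mul]; exact mul_ne_zero hS₁ hS₂,
      MvPolynomial.map (algebraMap k k') S₂ * a₁ + MvPolynomial.map (algebraMap k k') S₁ * a₂, ?_⟩
    have e₁ : psi k k' x y (MvPolynomial.map (algebraMap k k') S₂ * a₁) =
        ((aeval ![x, y] S₂) ⊗ₜ[k] (1 : k')) * psi k k' x y a₁ := by rw [map_mul, psi_map]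
    have e₂ : psi k k' x y (MvPolynomial.map (algebraMap k k') S₁ * a₂) =
        ((aeval ![x, y] S₁) ⊗ₜ[k] (1 : k')) * psi k k' x y a₂ := by rw [map_mul, psi_map]
    have : ((aeval ![x, y] S₁ * aeval ![x, y] S₂) ⊗ₜ[k] (1 : k')) =
        ((aeval ![x, y] S₁) ⊗ₜ[k] (1 : k')) * ((aeval ![x, y] S₂) ⊗ₜ[k] (1 : k')) := by
      rw [Algebra.TensorProduct.tmul_mul_tmul, mul_one]
    rw [map_add, e₁, e₂, ← ha₁, ← ha₂, map_mul, this]
    ring

lemma isUnit_tmul_one {s : K} (hs : s ≠ 0) : IsUnit (s ⊗ₜ[k] (1 : k')) := by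
  refine IsUnit.of_mul_eq_one (s⁻¹ ⊗ₜ[k] (1 : k')) ?_
  rw [Algebra.TensorProduct.tmul_mul_tmul, mul_inv_cancel₀ hs, mul_one]
  rfl

variable [FiniteDimensional k k'] {f : MvPolynomial (Fin 2) k}

lemma noZeroDivisors_tensor (hxy : IntermediateField.adjoin k ({x, y} : Set K) = ⊤)
    (hker : RingHom.ker (aeval ![x, y] : MvPolynomial (Fin 2) k →ₐ[k] K) = Ideal.span {f})
    (hirr : Irreducible (MvPolynomial.map (algebraMap k k') f)) :
    NoZeroDivisors (K ⊗[k] k') := by
  have hprime : (RingHom.ker (psi k k' x y)).IsPrime := by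
    rw [ker_psi k' x y hker, Ideal.span_singleton_prime hirr.ne_zero]
    exact UniqueFactorizationMonoid.irreducible_iff_prime.mp hirr
  refine ⟨fun {z w} hzw => ?_⟩
  obtain ⟨S₁, hS₁, a₁, ha₁⟩ := exists_clear k' hxy z
  obtain ⟨S₂, hS₂, a₂, ha₂⟩ := exists_clear k' hxy w
  have h0 : psi k k' x y (a₁ * a₂) = 0 := by
    rw [map_mul, ← ha₁, ← ha₂]
    calc _ = ((aeval ![x, y] S₁) ⊗ₜ[k] (1 : k')) * ((aeval ![x, y] S₂) ⊗ₜ[k] (1 : k')) * (z * w) := by
          ring
      _ = 0 := by rw [hzw, mul_zero]
  rw [← RingHom.mem_ker] at h0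
  rcases hprime.mem_or_mem h0 with h | h
  · left
    rw [RingHom.mem_ker, ← ha₁] at h
    exact (isUnit_tmul_one k' hS₁).mul_right_eq_zero.mp h
  · right
    rw [RingHom.mem_ker, ← ha₂] at h
    exact (isUnit_tmul_one k' hS₂).mul_right_eq_zero.mp h

theorem isField_tensor (hxy : IntermediateField.adjoin k ({x, y} : Set K) = ⊤)
    (hker : RingHom.ker (aeval ![x, y] : MvPolynomial (Fin 2) k →ₐ[k] K) = Ideal.span {f})
    (hirr : Irreducible (MvPolynomial.map (algebraMap k k') f)) :
    IsField (k' ⊗[k] K) := by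
  haveI := noZeroDivisors_tensor k' hxy hker hirr
  haveI : Nontrivial (K ⊗[k] k') := inferInstance
  haveI : IsDomain (K ⊗[k] k') := NoZeroDivisors.to_isDomain _
  haveI : Module.Finite K (K ⊗[k] k') := inferInstance
  have hT : IsField (K ⊗[k] k') := isField_of_isIntegral_of_isField' (R := K) (Field.toIsField K)
  exact MulEquiv.isField hT (Algebra.TensorProduct.comm k k' K).toMulEquiv

end domain

section transc

variable {f : MvPolynomial (Fin 2) k}

lemma degreeOf_aeval_X (i j : Fin 2) (hij : j ≠ i) (p : Polynomial k) :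
    degreeOf j (Polynomial.aeval (X i : MvPolynomial (Fin 2) k) p) = 0 := by
  classical
  induction p using Polynomial.induction_on' with
  | add p q hp hq =>
    rw [map_add]
    exact Nat.le_zero.mp ((degreeOf_add_le _ _ _).trans (by simp [hp, hq]))
  | monomial n a =>
    rw [Polynomial.aeval_monomial, MvPolynomial.algebraMap_eq]
    refine Nat.le_zero.mp ((degreeOf_C_mul_le _ _ _).trans ((degreeOf_pow_le _ _ _).trans ?_))
    rw [degreeOf_X, if_neg hij, mul_zero]

lemma degreeOf_eq_zero_of_isAlgebraic (v : Fin 2 → K)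
    (hker : RingHom.ker (aeval v : MvPolynomial (Fin 2) k →ₐ[k] K) = Ideal.span {f}) (hf : f ≠ 0)
    (i j : Fin 2) (hij : j ≠ i) (halg : IsAlgebraic k (v i)) : degreeOf j f = 0 := by
  obtain ⟨p, hp0, hp⟩ := halg
  have hP0 : Polynomial.aeval (X i : MvPolynomial (Fin 2) k) p ≠ 0 := by
    intro h
    apply hp0
    have h2 := congrArg (aeval (fun _ : Fin 2 => (Polynomial.X : Polynomial k))) h
    rw [← Polynomial.aeval_algHom_apply, aeval_X, map_zero] at h2
    simpa using h2
  have hPker : aeval v (Polynomial.aeval (X i : MvPolynomial (Fin 2) k) p) = 0 := by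
    rw [← Polynomial.aeval_algHom_apply, aeval_X]; exact hp
  have hdvd : f ∣ Polynomial.aeval (X i : MvPolynomial (Fin 2) k) p := by
    rw [← Ideal.mem_span_singleton, ← hker]; exact hPker
  obtain ⟨q, hq⟩ := hdvd
  have hq0 : q ≠ 0 := by rintro rfl; exact hP0 (by rw [hq, mul_zero])
  have h3 := degreeOf_mul_eq (n := j) hf hq0
  rw [← hq, degreeOf_aeval_X i j hij] at h3
  omega

lemma eq_C_of_degreeOf_eq_zero (h0 : degreeOf 0 f = 0) (h1 : degreeOf 1 f = 0) :
    f = C (coeff 0 f) := by
  classical
  ext m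
  rw [coeff_C]
  split_ifs with h
  · rw [← h]
  · by_contra hne
    have hm : m ∈ f.support := mem_support_iff.mpr hne
    have e0 := monomial_le_degreeOf 0 hm
    have e1 := monomial_le_degreeOf 1 hm
    apply h
    ext i
    fin_cases i
    · simp only [Fin.zero_eta, Finsupp.coe_zero, Pi.zero_apply]; omega
    · simp only [Fin.mk_one, Finsupp.coe_zero, Pi.zero_apply]; omega

lemma exists_transcendental {x y : K}
    (hker : RingHom.ker (aeval ![x, y] : MvPolynomial (Fin 2) k →ₐ[k] K) = Ideal.span {f})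
    (hirr : Irreducible f) : ∃ i : Fin 2, Transcendental k (![x, y] i) := by
  by_contra hcon
  push Not at hcon
  have ha : ∀ i, IsAlgebraic k (![x, y] i) := fun i => by
    have := hcon i
    rwa [Transcendental, not_not] at this
  have h0 : degreeOf 0 f = 0 :=
    degreeOf_eq_zero_of_isAlgebraic ![x, y] hker hirr.ne_zero 1 0 (by decide) (ha 1)
  have h1 : degreeOf 1 f = 0 :=
    degreeOf_eq_zero_of_isAlgebraic ![x, y] hker hirr.ne_zero 0 1 (by decide) (ha 0)
  have hC := eq_C_of_degreeOf_eq_zero h0 h1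
  by_cases hc : coeff 0 f = 0
  · rw [hc, map_zero] at hC
    exact hirr.ne_zero hC
  · apply hirr.not_isUnit
    rw [hC]
    exact (isUnit_iff_ne_zero.mpr hc).map C

open scoped IntermediateField in
lemma finiteDimensional_of_transcendental (x y : K)
    (hxy : IntermediateField.adjoin k ({x, y} : Set K) = ⊤) (hx : Transcendental k x)
    (g : MvPolynomial (Fin 2) k) (hg : g ≠ 0) (hg0 : aeval ![x, y] g = 0) :
    FiniteDimensional k⟮x⟯ K := by
  have halg : IsAlgebraic k⟮x⟯ y := by
    by_contra htr
    have hind : AlgebraicIndependent k ![x, y] := by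
      rw [AlgebraicIndependent.iff_transcendental_adjoin_image (1 : Fin 2)]
      constructor
      · letI : Unique {j : Fin 2 // j ≠ 1} :=
          ⟨⟨⟨0, by decide⟩⟩, fun ⟨j, hj⟩ => by
            fin_cases j
            · rfl
            · exact absurd rfl hj⟩
        rw [algebraicIndependent_unique_type_iff]
        show Transcendental k (![x, y] (0 : Fin 2))
        exact hx
      · have himg : ![x, y] '' {1}ᶜ = {x} := by
          ext z
          simp only [Set.mem_image, Set.mem_compl_iff, Set.mem_singleton_iff]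
          constructor
          · rintro ⟨j, hj, rfl⟩
            fin_cases j
            · rfl
            · exact absurd rfl hj
          · rintro rfl
            exact ⟨0, by decide, rfl⟩
        rw [himg]
        exact IntermediateField.transcendental_adjoin_iff.mp htr
    exact hg (hind (hg0.trans (map_zero _).symm))
  have htop : k⟮x⟯⟮y⟯ = ⊤ := by
    have h := IntermediateField.adjoin_adjoin_left k ({x} : Set K) ({y} : Set K)
    rw [Set.singleton_union, hxy] at h
    exact IntermediateField.restrictScalars_eq_top_iff.mp h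
  haveI hfin : FiniteDimensional k⟮x⟯ k⟮x⟯⟮y⟯ :=
    IntermediateField.adjoin.finiteDimensional halg.isIntegral
  rw [htop] at hfin
  exact Module.Finite.equiv
    (IntermediateField.topEquiv : (⊤ : IntermediateField k⟮x⟯ K) ≃ₐ[k⟮x⟯] K).toLinearEquiv

open scoped IntermediateField in
theorem exists_transcendental_finite {x y : K}
    (hxy : IntermediateField.adjoin k ({x, y} : Set K) = ⊤)
    (hker : RingHom.ker (aeval ![x, y] : MvPolynomial (Fin 2) k →ₐ[k] K) = Ideal.span {f})
    (hirr : Irreducible f) :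
    ∃ t : K, Transcendental k t ∧ FiniteDimensional (IntermediateField.adjoin k ({t} : Set K)) K := by
  have hf0 : aeval ![x, y] f = 0 := by
    have : f ∈ RingHom.ker (aeval ![x, y] : MvPolynomial (Fin 2) k →ₐ[k] K) := by
      rw [hker]; exact Ideal.subset_span rfl
    exact this
  obtain ⟨i, hi⟩ := exists_transcendental hker hirr
  fin_cases i
  · exact ⟨x, hi, finiteDimensional_of_transcendental x y hxy hi f hirr.ne_zero hf0⟩
  · refine ⟨y, hi, finiteDimensional_of_transcendental y x (by rw [Set.pair_comm]; exact hxy) hi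
      (rename (Equiv.swap (0 : Fin 2) 1) f) ?_ ?_⟩
    · intro h0
      apply hirr.ne_zero
      apply rename_injective _ (Equiv.swap (0 : Fin 2) 1).injective
      rw [h0, map_zero]
    · rw [aeval_rename]
      have : (![y, x] ∘ (Equiv.swap (0 : Fin 2) 1)) = ![x, y] := by
        funext j
        fin_cases j <;> simp
      rw [this, hf0]

end transc

section algclosed

theorem mem_range_of_isAlgebraic
    (hgeo : ∀ (k' : Type u) [Field k'] [Algebra k k'], FiniteDimensional k k' →
      IsField (k' ⊗[k] K))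
    (α : K) (hα : IsAlgebraic k α) : α ∈ Set.range (algebraMap k K) := by
  classical
  have hint : IsIntegral k α := hα.isIntegral
  have hp0 : minpoly k α ≠ 0 := minpoly.ne_zero hint
  haveI : Fact (Irreducible (minpoly k α)) := ⟨minpoly.irreducible hint⟩
  haveI : FiniteDimensional k (AdjoinRoot (minpoly k α)) := (AdjoinRoot.powerBasis hp0).finite
  have hT := hgeo (AdjoinRoot (minpoly k α)) inferInstance
  let ι : AdjoinRoot (minpoly k α) →ₐ[k] K :=
    AdjoinRoot.liftAlgHom (minpoly k α) (Algebra.ofId k K) α (by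
      rw [Algebra.toRingHom_ofId, ← Polynomial.aeval_def]; exact minpoly.aeval k α)
  let μ : AdjoinRoot (minpoly k α) ⊗[k] K →ₐ[k] K :=
    Algebra.TensorProduct.lift ι (AlgHom.id k K) (fun _ _ => Commute.all _ _)
  have hμinj : Function.Injective μ := by
    letI : Field (AdjoinRoot (minpoly k α) ⊗[k] K) := hT.toField
    exact (μ : AdjoinRoot (minpoly k α) ⊗[k] K →+* K).injective
  have he : (AdjoinRoot.root (minpoly k α)) ⊗ₜ[k] (1 : K) =
      (1 : AdjoinRoot (minpoly k α)) ⊗ₜ[k] α := by
    apply hμinj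
    simp [μ, ι]
  by_contra hnot
  have hdeg : 2 ≤ (minpoly k α).natDegree := by
    have h1 : (minpoly k α).natDegree ≠ 1 := fun h => hnot (minpoly.natDegree_eq_one_iff.mp h)
    have h2 := minpoly.natDegree_pos hint
    omega
  have hdim : (AdjoinRoot.powerBasis hp0).dim = (minpoly k α).natDegree :=
    AdjoinRoot.powerBasis_dim hp0
  let i0 : Fin (AdjoinRoot.powerBasis hp0).dim := ⟨0, by omega⟩
  let i1 : Fin (AdjoinRoot.powerBasis hp0).dim := ⟨1, by omega⟩
  let lam : AdjoinRoot (minpoly k α) →ₗ[k] k := (AdjoinRoot.powerBasis hp0).basis.coord i1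
  have hb0 : (AdjoinRoot.powerBasis hp0).basis i0 = 1 := by
    rw [PowerBasis.coe_basis]; simp [i0]
  have hb1 : (AdjoinRoot.powerBasis hp0).basis i1 = AdjoinRoot.root (minpoly k α) := by
    rw [PowerBasis.coe_basis]; simp [i1, AdjoinRoot.powerBasis_gen]
  have h1 : lam 1 = 0 := by
    rw [← hb0]
    simp only [lam, Module.Basis.coord_apply, Module.Basis.repr_self]
    rw [Finsupp.single_apply, if_neg]
    intro h; simp [i0, i1, Fin.ext_iff] at h
  have h2 : lam (AdjoinRoot.root (minpoly k α)) = 1 := by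
    rw [← hb1]
    simp only [lam, Module.Basis.coord_apply, Module.Basis.repr_self]
    rw [Finsupp.single_apply, if_pos rfl]
  have h3 := congrArg (fun z => TensorProduct.lid k K (LinearMap.rTensor K lam z)) he
  simp only [LinearMap.rTensor_tmul, h1, h2, TensorProduct.lid_tmul, one_smul, zero_smul] at h3
  exact one_ne_zero h3

end algclosed

end Groth.Agent.H9.FFG2
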