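import Mathlib
import Groth.Agent.Lib.Helper9.Misc.FFG1

set_option autoImplicit false
set_option linter.style.haveILetI false
set_option linter.unusedSectionVars false
set_option linter.unusedVariables false

namespace Groth.Agent.H9.FFG3

open TensorProduct MvPolynomial Groth.Agent.H9.FFG1

universe u v w

variable {k : Type u} {K : Type v} [Field k] [Field K] [Algebra k K]

section principal

open scoped IntermediateField

variable (x t : K)

/-- evaluation `k[T][Y] → K`, `T ↦ t`, `Y ↦ x` -/
noncomputable def Phi : Polynomial (MvPolynomial (Fin 1) k) →+* K :=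
  Polynomial.eval₂RingHom
    ((aeval (fun _ : Fin 1 => t) : MvPolynomial (Fin 1) k →ₐ[k] K) : MvPolynomial (Fin 1) k →+* K) x

lemma Phi_finSuccEquiv (G : MvPolynomial (Fin 2) k) :
    Phi x t (finSuccEquiv k 1 G) = aeval ![x, t] G := by
  have h : (Phi x t).comp ((finSuccEquiv k 1 : MvPolynomial (Fin 2) k ≃ₐ[k] _) :
        MvPolynomial (Fin 2) k →+* Polynomial (MvPolynomial (Fin 1) k)) =
      ((aeval ![x, t] : MvPolynomial (Fin 2) k →ₐ[k] K) : MvPolynomial (Fin 2) k →+* K) := by
    apply MvPolynomial.ringHom_ext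
    · intro a
      simp [Phi, finSuccEquiv_apply]
    · intro i
      fin_cases i
      · simp [Phi, finSuccEquiv_X_zero]
      · have : (⟨1, by decide⟩ : Fin 2) = (0 : Fin 1).succ := rfl
        simp only [RingHom.comp_apply, RingHom.coe_coe]
        rw [this, finSuccEquiv_X_succ]
        simp [Phi]
  exact congrArg (fun φ => φ G) h

lemma injective_aeval_one (ht : Transcendental k t) :
    Function.Injective (aeval (fun _ : Fin 1 => t) : MvPolynomial (Fin 1) k →ₐ[k] K) := by
  have : AlgebraicIndependent k (fun _ : Fin 1 => t) := by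
    rw [algebraicIndependent_unique_type_iff]; exact ht
  exact this

theorem exists_ker_eq_span (ht : Transcendental k t) (halg : IsAlgebraic k⟮t⟯ x) :
    ∃ f : MvPolynomial (Fin 2) k, f ≠ 0 ∧
      RingHom.ker (aeval ![x, t] : MvPolynomial (Fin 2) k →ₐ[k] K) = Ideal.span {f} := by
  classical
  -- nonzero relation
  have hne : ∃ g : MvPolynomial (Fin 2) k, g ≠ 0 ∧ aeval ![x, t] g = 0 := by
    by_contra hcon
    push Not at hcon
    have hind : AlgebraicIndependent k ![x, t] := by
      rw [algebraicIndependent_iff]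
      intro p hp
      by_contra hp0
      exact hcon p hp0 hp
    have h1 := hind.transcendental_adjoin (s := ({0}ᶜ : Set (Fin 2))) (i := 0) (by simp)
    have himg : ![x, t] '' {0}ᶜ = {t} := by
      ext z
      simp only [Set.mem_image, Set.mem_compl_iff, Set.mem_singleton_iff]
      constructor
      · rintro ⟨j, hj, rfl⟩
        fin_cases j
        · exact absurd rfl hj
        · rfl
      · rintro rfl
        exact ⟨1, by decide, rfl⟩
    rw [himg] at h1
    exact (IntermediateField.transcendental_adjoin_iff.mpr h1) halg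
  let S : Set (MvPolynomial (Fin 2) k) := {F | F ≠ 0 ∧ aeval ![x, t] F = 0}
  have hS : S.Nonempty := hne
  obtain ⟨f, ⟨hf0, hfa⟩, hfmin⟩ :
      ∃ F ∈ S, ∀ G : MvPolynomial (Fin 2) k, G ≠ 0 → aeval ![x, t] G = 0 →
        totalDegree F ≤ totalDegree G :=
    ⟨Function.argminOn totalDegree S hS, Function.argminOn_mem _ _ hS,
      fun _ h₁ h₂ => Function.argminOn_le totalDegree S ⟨h₁, h₂⟩⟩
  have hfirr : Irreducible f := irreducible_of_forall_totalDegree_le hfmin hf0 hfa
  refine ⟨f, hf0, ?_⟩
  -- transfer to k[T][Y]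
  set F := finSuccEquiv k 1 f with hF
  have hFirr : Irreducible F := (MulEquiv.irreducible_iff (finSuccEquiv k 1).toMulEquiv).mpr hfirr
  have hginj := injective_aeval_one t ht
  have hPhiF : Phi x t F = 0 := by rw [hF, Phi_finSuccEquiv]; exact hfa
  have hdeg : F.natDegree ≠ 0 := by
    intro h0
    rw [Polynomial.eq_C_of_natDegree_eq_zero h0] at hPhiF hFirr
    simp only [Phi, Polynomial.coe_eval₂RingHom, Polynomial.eval₂_C, RingHom.coe_coe] at hPhiF
    have : F.coeff 0 = 0 := hginj (hPhiF.trans (map_zero _).symm)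
    rw [this, map_zero] at hFirr
    exact not_irreducible_zero hFirr
  have hprim : F.IsPrimitive := hFirr.isPrimitive hdeg
  -- fraction field
  let Frac := FractionRing (MvPolynomial (Fin 1) k)
  let ι : Frac →+* K := IsFractionRing.lift
    (g := ((aeval (fun _ : Fin 1 => t) : MvPolynomial (Fin 1) k →ₐ[k] K) :
      MvPolynomial (Fin 1) k →+* K)) hginj
  let Ψ : Polynomial Frac →+* K := Polynomial.eval₂RingHom ι x
  have hΨ : ∀ H : Polynomial (MvPolynomial (Fin 1) k),
      Ψ (H.map (algebraMap _ Frac)) = Phi x t H := by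
    intro H
    simp only [Ψ, Phi, Polynomial.coe_eval₂RingHom, Polynomial.eval₂_map]
    congr 1
    refine RingHom.ext fun a => ?_
    rw [RingHom.comp_apply]
    exact IsFractionRing.lift_algebraMap hginj a
  have hmapirr : Irreducible (F.map (algebraMap _ Frac)) :=
    (hprim.irreducible_iff_irreducible_map_fraction_map).mp hFirr
  have hmax := PrincipalIdealRing.isMaximal_of_irreducible hmapirr
  have hker : Ideal.span {F.map (algebraMap _ Frac)} = RingHom.ker Ψ := by
    apply hmax.eq_of_le (RingHom.ker_ne_top Ψ)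
    rw [Ideal.span_le]
    intro z hz
    rw [Set.mem_singleton_iff] at hz
    rw [hz, SetLike.mem_coe, RingHom.mem_ker, hΨ, hPhiF]
  apply le_antisymm
  · intro G hG
    rw [RingHom.mem_ker] at hG
    rw [Ideal.mem_span_singleton]
    have h1 : Ψ ((finSuccEquiv k 1 G).map (algebraMap _ Frac)) = 0 := by
      rw [hΨ, Phi_finSuccEquiv]; exact hG
    rw [← RingHom.mem_ker, ← hker, Ideal.mem_span_singleton] at h1
    have h2 : F ∣ finSuccEquiv k 1 G := hprim.dvd_of_fraction_map_dvd_fraction_map h1
    have h3 := map_dvd (finSuccEquiv k 1).symm h2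
    rw [hF] at h3
    simpa using h3
  · rw [Ideal.span_le]
    intro z hz
    rw [Set.mem_singleton_iff] at hz
    rw [hz]
    exact hfa

end principal

section sep

theorem linearIndepOn_pow (p : ℕ) [hp : Fact p.Prime] [CharP k p]
    (hgeo : ∀ (k' : Type u) [Field k'] [Algebra k k'], FiniteDimensional k k' →
      IsField (k' ⊗[k] K))
    (s : Finset K) (hs : LinearIndepOn k id (s : Set K)) :
    LinearIndepOn k (fun a : K => a ^ p) (s : Set K) := by
  classical
  unfold LinearIndepOn
  rw [Fintype.linearIndependent_iff]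
  intro g hg i₀
  -- p-th roots in the algebraic closure
  let Ω := AlgebraicClosure k
  have hroot : ∀ i : (s : Set K), ∃ r : Ω, r ^ p = algebraMap k Ω (g i) := fun i =>
    IsAlgClosed.exists_pow_nat_eq _ hp.out.pos
  choose r hr using hroot
  let k' : IntermediateField k Ω := IntermediateField.adjoin k (Set.range r)
  haveI : FiniteDimensional k k' :=
    IntermediateField.finiteDimensional_adjoin (fun z _ => Algebra.IsIntegral.isIntegral z)
  let r' : ↥(s : Set K) → k' := fun i => ⟨r i, IntermediateField.subset_adjoin _ _ ⟨i, rfl⟩⟩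
  have hr' : ∀ i, r' i ^ p = algebraMap k k' (g i) := fun i => by
    apply Subtype.ext
    simp only [r', SubmonoidClass.mk_pow, hr]
    rfl
  have hT := hgeo k' inferInstance
  letI : Field (k' ⊗[k] K) := hT.toField
  haveI : CharP (k' ⊗[k] K) p :=
    charP_of_injective_algebraMap (algebraMap k (k' ⊗[k] K)).injective p
  have hz : (∑ i : (s : Set K), (r' i) ⊗ₜ[k] (i : K)) ^ p = 0 := by
    rw [sum_pow_char]
    have : ∀ i : (s : Set K), ((r' i) ⊗ₜ[k] (i : K)) ^ p =
        (1 : k') ⊗ₜ[k] (g i • (i : K) ^ p) := by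
      intro i
      rw [Algebra.TensorProduct.tmul_pow, hr', Algebra.algebraMap_eq_smul_one,
        TensorProduct.smul_tmul]
    rw [Finset.sum_congr rfl fun i _ => this i, ← TensorProduct.tmul_sum]
    have hg' : ∑ i : (s : Set K), g i • (i : K) ^ p = 0 := hg
    rw [hg', TensorProduct.tmul_zero]
  have hz0 : (∑ i : (s : Set K), (r' i) ⊗ₜ[k] (i : K)) = 0 := by
    have := pow_eq_zero_iff (M₀ := k' ⊗[k] K) (n := p) hp.out.ne_zero |>.mp hz
    exact this
  -- coordinate functional
  let b := Module.Basis.extend hs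
  let j₀ : (hs.extend (Set.subset_univ _)) := ⟨i₀.1, Module.Basis.subset_extend hs i₀.2⟩
  let φ : K →ₗ[k] k := b.coord j₀
  have hφ : ∀ i : (s : Set K), φ (i : K) = if i = i₀ then 1 else 0 := by
    intro i
    have hbi : b ⟨i.1, Module.Basis.subset_extend hs i.2⟩ = (i : K) :=
      Module.Basis.extend_apply_self hs _
    rw [← hbi]
    simp only [φ, Module.Basis.coord_apply, Module.Basis.repr_self, Finsupp.single_apply]
    by_cases h : i = i₀
    · subst h; simp [j₀]
    · rw [if_neg h, if_neg]
      intro h'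
      apply h
      apply Subtype.ext
      exact congrArg (fun z : (hs.extend (Set.subset_univ _)) => (z : K)) h'
  have h3 := congrArg (fun z => TensorProduct.rid k k' (LinearMap.lTensor k' φ z)) hz0
  simp only [map_sum, LinearMap.lTensor_tmul, TensorProduct.rid_tmul, map_zero, hφ] at h3
  rw [Finset.sum_eq_single i₀ (fun i _ hi => by rw [if_neg hi, zero_smul])
    (fun h => absurd (Finset.mem_univ _) h), if_pos rfl, one_smul] at h3
  have h4 := hr' i₀
  rw [h3, zero_pow hp.out.ne_zero] at h4
  exact (map_eq_zero (algebraMap k k')).mp h4.symm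

end sep

section fwd

open scoped IntermediateField

theorem forward
    (hF : ∃ x : K, Transcendental k x ∧
      FiniteDimensional (IntermediateField.adjoin k ({x} : Set K)) K)
    (hgeo : ∀ (k' : Type u) [Field k'] [Algebra k k'], FiniteDimensional k k' →
      IsField (k' ⊗[k] K)) :
    ∃ (x y : K) (f : MvPolynomial (Fin 2) k),
      IntermediateField.adjoin k ({x, y} : Set K) = ⊤ ∧
      (∀ (k' : Type u) [Field k'] [Algebra k k'], FiniteDimensional k k' →
          Irreducible (MvPolynomial.map (algebraMap k k') f)) ∧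
      RingHom.ker (aeval ![x, y] : MvPolynomial (Fin 2) k →ₐ[k] K) = Ideal.span {f} := by
  classical
  obtain ⟨x₀, hx₀, hfin₀⟩ := hF
  haveI : Algebra.EssFiniteType k k⟮x₀⟯ :=
    IntermediateField.essFiniteType_iff.mpr ⟨{x₀}, by simp⟩
  haveI : Algebra.EssFiniteType k⟮x₀⟯ K := inferInstance
  haveI : Algebra.EssFiniteType k K := Algebra.EssFiniteType.comp k k⟮x₀⟯ K
  obtain ⟨s, hs, hsep⟩ : ∃ s : Finset K, IsTranscendenceBasis k ((↑) : s → K) ∧
      Algebra.IsSeparable (IntermediateField.adjoin k (s : Set K)) K := by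
    rcases CharP.exists' k with h0 | ⟨p, hp, hpk⟩
    · haveI := h0
      exact exists_isTranscendenceBasis_and_isSeparable_of_perfectField k K
    · haveI : ExpChar k p := .prime hp.out
      exact exists_isTranscendenceBasis_and_isSeparable_of_linearIndepOn_pow_of_essFiniteType
        p hp.out (fun s hs => linearIndepOn_pow p hgeo s hs)
  -- cardinality one
  have hb₀ : IsTranscendenceBasis k (fun _ : Unit => x₀) := by
    have hai : AlgebraicIndependent k (fun _ : Unit => x₀) :=
      algebraicIndependent_unique_type_iff.mpr hx₀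
    rw [hai.isTranscendenceBasis_iff_isAlgebraic, Set.range_const]
    haveI : Algebra.IsAlgebraic k⟮x₀⟯ K := Algebra.IsAlgebraic.of_finite _ _
    exact IntermediateField.isAlgebraic_adjoin_iff_top.mp inferInstance
  have hcard : s.card = 1 := by
    have h := hs.lift_cardinalMk_eq hb₀
    simpa using h
  obtain ⟨t, rfl⟩ := Finset.card_eq_one.mp hcard
  have ht : Transcendental k t := hs.1.transcendental ⟨t, Finset.mem_singleton_self t⟩
  rw [Finset.coe_singleton] at hsep
  haveI : Algebra.EssFiniteType k⟮t⟯ K := Algebra.EssFiniteType.of_comp k k⟮t⟯ K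
  haveI : Algebra.IsAlgebraic k⟮t⟯ K := Algebra.IsSeparable.isAlgebraic _ _
  haveI : Module.Finite k⟮t⟯ K := Algebra.finite_of_essFiniteType_of_isAlgebraic
  obtain ⟨y, hy⟩ := Field.exists_primitive_element k⟮t⟯ K
  have hxy : IntermediateField.adjoin k ({y, t} : Set K) = ⊤ := by
    have h := IntermediateField.adjoin_adjoin_left k ({t} : Set K) ({y} : Set K)
    rw [hy, IntermediateField.restrictScalars_top, Set.singleton_union, Set.pair_comm] at h
    exact h.symm
  obtain ⟨f, hf0, hker⟩ := exists_ker_eq_span y t ht (Algebra.IsAlgebraic.isAlgebraic y)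
  refine ⟨y, t, f, hxy, ?_, hker⟩
  intro k' _ _ hfin
  haveI := hfin
  have hT := hgeo k' hfin
  have hT' : IsField (K ⊗[k] k') :=
    MulEquiv.isField hT (Algebra.TensorProduct.comm k K k').toMulEquiv
  letI : Field (K ⊗[k] k') := hT'.toField
  have hprime : (RingHom.ker (psi k k' y t)).IsPrime := RingHom.ker_isPrime _
  have hne : MvPolynomial.map (algebraMap k k') f ≠ 0 := by
    intro h
    apply hf0
    apply MvPolynomial.map_injective _ (algebraMap k k').injective
    rw [h, map_zero]
  rw [ker_psi k' y t hker, Ideal.span_singleton_prime hne] at hprime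
  exact hprime.irreducible

end fwd

end Groth.Agent.H9.FFG3
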