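import Mathlib
import Groth.Agent.Lib.Helper5.FunFld.Fibre
import Groth.Agent.Lib.Helper9.Misc.FFG2

set_option autoImplicit false
set_option linter.style.haveILetI false
set_option linter.unusedSectionVars false
set_option linter.unusedVariables false

namespace Groth.Agent.H9.FFP1

open FunFld MvPolynomial WithZero

universe u v

variable {k : Type u} {K : Type v} [Field k] [Field K] [Algebra k K]

/-- specialization `X₁ ↦ c` -/
noncomputable def sp (c : k) : MvPolynomial (Fin 2) k →ₐ[k] Polynomial k :=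
  aeval ![Polynomial.X, Polynomial.C c]

/-- embedding `k[Y] → k[X₀, X₁]` -/
noncomputable def emb : Polynomial k →ₐ[k] MvPolynomial (Fin 2) k :=
  Polynomial.aeval (X 0)

lemma sp_X0 (c : k) : sp c (X 0) = Polynomial.X := by simp [sp]
lemma sp_X1 (c : k) : sp c (X 1) = Polynomial.C c := by simp [sp]
lemma emb_X : emb (Polynomial.X : Polynomial k) = X 0 := by simp [emb]
lemma emb_C (a : k) : emb (Polynomial.C a : Polynomial k) = C a := by simp [emb]

lemma dvd_sub_emb_sp (c : k) (G : MvPolynomial (Fin 2) k) :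
    (X 1 - C c : MvPolynomial (Fin 2) k) ∣ G - emb (sp c G) := by
  induction G using MvPolynomial.induction_on with
  | C a =>
    have : sp c (C a) = Polynomial.C a := by simp [sp]
    rw [this, emb_C, sub_self]; exact dvd_zero _
  | add p q hp hq =>
    rw [map_add, map_add]
    have : p + q - (emb (sp c p) + emb (sp c q)) = (p - emb (sp c p)) + (q - emb (sp c q)) := by
      ring
    rw [this]; exact dvd_add hp hq
  | mul_X p i hp =>
    fin_cases i
    · rw [map_mul, map_mul]
      show _ ∣ p * X 0 - emb (sp c p) * emb (sp c (X 0))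
      rw [sp_X0, emb_X, ← sub_mul]
      exact hp.mul_right _
    · rw [map_mul, map_mul]
      show _ ∣ p * X 1 - emb (sp c p) * emb (sp c (X 1))
      rw [sp_X1, emb_C]
      have : p * X 1 - emb (sp c p) * C c = p * (X 1 - C c) + (p - emb (sp c p)) * C c := by ring
      rw [this]
      exact dvd_add (Dvd.intro_left _ rfl) (hp.mul_right _)

lemma sp_pderiv (c : k) (G : MvPolynomial (Fin 2) k) :
    sp c (pderiv 0 G) = Polynomial.derivative (sp c G) := by
  induction G using MvPolynomial.induction_on with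
  | C a =>
    have : sp c (C a) = Polynomial.C a := by simp [sp]
    rw [pderiv_C, map_zero, this, Polynomial.derivative_C]
  | add p q hp hq => rw [map_add, map_add, map_add, map_add, hp, hq]
  | mul_X p i hp =>
    fin_cases i
    · show sp c (pderiv 0 (p * X 0)) = Polynomial.derivative (sp c (p * X 0))
      rw [Derivation.leibniz, pderiv_X_self, map_add, smul_eq_mul, smul_eq_mul, map_mul, map_mul,
        map_mul, hp, sp_X0, map_one, Polynomial.derivative_mul, Polynomial.derivative_X]
      ring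
    · show sp c (pderiv 0 (p * X 1)) = Polynomial.derivative (sp c (p * X 1))
      rw [Derivation.leibniz, pderiv_X_of_ne (by decide), map_add, smul_eq_mul, smul_eq_mul,
        map_mul, map_mul, map_mul, hp, sp_X1, map_zero, Polynomial.derivative_mul,
        Polynomial.derivative_C]
      ring

lemma ev_emb (y t : K) (p : Polynomial k) :
    aeval ![y, t] (emb p) = Polynomial.aeval y p := by
  unfold emb
  rw [← Polynomial.aeval_algHom_apply]
  simp

section place

variable (P : Place k K) {y t : K} {c : k}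

lemma v_t_le (htc : P.1 (t - algebraMap k K c) < 1) : P.1 t ≤ 1 := by
  have h : t = (t - algebraMap k K c) + algebraMap k K c := by ring
  rw [h]
  exact (P.1.map_add _ _).trans (max_le htc.le (P.v_algebraMap_le c))

lemma v_ev_le (ht : P.1 t ≤ 1) (hy : P.1 y ≤ 1) (G : MvPolynomial (Fin 2) k) :
    P.1 (aeval ![y, t] G) ≤ 1 := by
  induction G using MvPolynomial.induction_on with
  | C a => rw [aeval_C]; exact P.v_algebraMap_le a
  | add p q hp hq => rw [map_add]; exact (P.1.map_add _ _).trans (max_le hp hq)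
  | mul_X p i hp =>
    rw [map_mul, aeval_X, map_mul]
    fin_cases i
    · exact mul_le_one' hp hy
    · exact mul_le_one' hp ht

lemma v_aeval_le (hy : P.1 y ≤ 1) (p : Polynomial k) : P.1 (Polynomial.aeval y p) ≤ 1 := by
  induction p using Polynomial.induction_on' with
  | add p q hp hq => rw [map_add]; exact (P.1.map_add _ _).trans (max_le hp hq)
  | monomial n a =>
    rw [Polynomial.aeval_monomial, map_mul, map_pow]
    exact mul_le_one' (P.v_algebraMap_le a) (pow_le_one' hy n)

lemma ev_sub_eq (G : MvPolynomial (Fin 2) k) :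
    ∃ r : MvPolynomial (Fin 2) k, aeval ![y, t] G - Polynomial.aeval y (sp c G) =
      (t - algebraMap k K c) * aeval ![y, t] r := by
  obtain ⟨r, hr⟩ := dvd_sub_emb_sp c G
  refine ⟨r, ?_⟩
  have h := congrArg (aeval ![y, t]) hr
  rw [map_sub, map_mul, map_sub, aeval_X, aeval_C, ev_emb] at h
  simpa using h

lemma v_ev_sub_lt (htc : P.1 (t - algebraMap k K c) < 1) (hy : P.1 y ≤ 1)
    (G : MvPolynomial (Fin 2) k) :
    P.1 (aeval ![y, t] G - Polynomial.aeval y (sp c G)) < 1 := by
  obtain ⟨r, hr⟩ := ev_sub_eq (y := y) (t := t) (c := c) G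
  rw [hr, map_mul]
  exact (mul_le_of_le_one_right' (v_ev_le P (v_t_le P htc) hy r)).trans_lt htc

/-- the ideal of polynomials vanishing at the residue of `y` -/
def vanIdeal (hy : P.1 y ≤ 1) : Ideal (Polynomial k) where
  carrier := {p | P.1 (Polynomial.aeval y p) < 1}
  add_mem' {a b} ha hb := by
    show P.1 (Polynomial.aeval y (a + b)) < 1
    rw [map_add]; exact (P.1.map_add _ _).trans_lt (max_lt ha hb)
  zero_mem' := by
    show P.1 (Polynomial.aeval y (0 : Polynomial k)) < 1
    rw [map_zero, map_zero]; exact zero_lt_one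
  smul_mem' q {p} hp := by
    show P.1 (Polynomial.aeval y (q • p)) < 1
    rw [smul_eq_mul, map_mul, map_mul]
    exact (mul_le_of_le_one_left' (v_aeval_le P hy q)).trans_lt hp

lemma mem_vanIdeal (hy : P.1 y ≤ 1) (p : Polynomial k) :
    p ∈ vanIdeal P hy ↔ P.1 (Polynomial.aeval y p) < 1 := Iff.rfl

lemma v_sp_lt (htc : P.1 (t - algebraMap k K c) < 1) (hy : P.1 y ≤ 1)
    {G : MvPolynomial (Fin 2) k} (hG : P.1 (aeval ![y, t] G) < 1) :
    P.1 (Polynomial.aeval y (sp c G)) < 1 := by
  have h : Polynomial.aeval y (sp c G) =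
      aeval ![y, t] G - (aeval ![y, t] G - Polynomial.aeval y (sp c G)) := by ring
  rw [h]
  exact (P.1.map_sub _ _).trans_lt (max_lt hG (v_ev_sub_lt P htc hy G))

lemma v_sp_eq_one (htc : P.1 (t - algebraMap k K c) < 1) (hy : P.1 y ≤ 1)
    {G : MvPolynomial (Fin 2) k} (hG : P.1 (aeval ![y, t] G) = 1) :
    P.1 (Polynomial.aeval y (sp c G)) = 1 := by
  refine (Valuation.map_eq_of_sub_lt P.1 ?_).trans hG
  rw [hG, Valuation.map_sub_swap]
  exact v_ev_sub_lt P htc hy G

theorem claimA (htc : P.1 (t - algebraMap k K c) < 1) (hy : P.1 y ≤ 1)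
    {F : MvPolynomial (Fin 2) k} (hF0 : aeval ![y, t] F = 0)
    (hFY : P.1 (aeval ![y, t] (pderiv 0 F)) = 1)
    (G : MvPolynomial (Fin 2) k) (hG : P.1 (aeval ![y, t] G) < 1) :
    ∃ W R : MvPolynomial (Fin 2) k, P.1 (aeval ![y, t] W) = 1 ∧
      aeval ![y, t] W * aeval ![y, t] G = (t - algebraMap k K c) * aeval ![y, t] R := by
  set I := vanIdeal P hy with hI
  set g := Submodule.IsPrincipal.generator I with hg
  have hpI : sp c G ∈ I := v_sp_lt P htc hy hG
  have hFI : sp c F ∈ I := v_sp_lt P htc hy (by rw [hF0, map_zero]; exact zero_lt_one)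
  obtain ⟨q, hq⟩ := (Submodule.IsPrincipal.mem_iff_generator_dvd I).mp hpI
  obtain ⟨h, hh⟩ := (Submodule.IsPrincipal.mem_iff_generator_dvd I).mp hFI
  have hgI : P.1 (Polynomial.aeval y g) < 1 := Submodule.IsPrincipal.generator_mem I
  -- derivative
  have hd1 : P.1 (Polynomial.aeval y (Polynomial.derivative (sp c F))) = 1 := by
    rw [← sp_pderiv]; exact v_sp_eq_one P htc hy hFY
  have hd2 : Polynomial.derivative (sp c F) =
      Polynomial.derivative g * h + g * Polynomial.derivative h := by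
    rw [hh, Polynomial.derivative_mul]
  have hh1 : P.1 (Polynomial.aeval y h) = 1 := by
    refine le_antisymm (v_aeval_le P hy h) ?_
    by_contra hlt
    rw [not_le] at hlt
    have : P.1 (Polynomial.aeval y (Polynomial.derivative (sp c F))) < 1 := by
      rw [hd2, map_add, map_mul, map_mul]
      refine (P.1.map_add _ _).trans_lt (max_lt ?_ ?_)
      · rw [map_mul]
        exact (mul_le_of_le_one_left' (v_aeval_le P hy _)).trans_lt hlt
      · rw [map_mul]
        exact (mul_le_of_le_one_right' (v_aeval_le P hy _)).trans_lt hgI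
    rw [hd1] at this
    exact lt_irrefl _ this
  obtain ⟨r₁, hr₁⟩ := ev_sub_eq (y := y) (t := t) (c := c) G
  obtain ⟨r₂, hr₂⟩ := ev_sub_eq (y := y) (t := t) (c := c) F
  refine ⟨emb h, emb h * r₁ - r₂ * emb q, by rw [ev_emb]; exact hh1, ?_⟩
  rw [ev_emb, map_sub, map_mul, map_mul, ev_emb, ev_emb]
  rw [hF0, zero_sub] at hr₂
  have e1 : aeval ![y, t] G = Polynomial.aeval y (sp c G) +
      (t - algebraMap k K c) * aeval ![y, t] r₁ := by rw [← hr₁]; ring
  rw [e1, hq, map_mul]
  have e2 : Polynomial.aeval y g * Polynomial.aeval y h =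
      -((t - algebraMap k K c) * aeval ![y, t] r₂) := by
    rw [← hr₂, hh, map_mul, neg_neg]
  have e3 : Polynomial.aeval y h * (Polynomial.aeval y g * Polynomial.aeval y q +
      (t - algebraMap k K c) * aeval ![y, t] r₁) =
      (Polynomial.aeval y g * Polynomial.aeval y h) * Polynomial.aeval y q +
      (t - algebraMap k K c) * (Polynomial.aeval y h * aeval ![y, t] r₁) := by ring
  rw [e3, e2]
  ring

theorem claimB (htc : P.1 (t - algebraMap k K c) < 1) (hy : P.1 y ≤ 1)
    (hτ : t - algebraMap k K c ≠ 0)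
    {F : MvPolynomial (Fin 2) k} (hF0 : aeval ![y, t] F = 0)
    (hFY : P.1 (aeval ![y, t] (pderiv 0 F)) = 1) :
    ∀ (n : ℕ) (G : MvPolynomial (Fin 2) k), aeval ![y, t] G ≠ 0 →
      (P.ord (aeval ![y, t] G)).toNat = n →
      ∃ (m : ℕ) (W Z : MvPolynomial (Fin 2) k), P.1 (aeval ![y, t] W) = 1 ∧
        P.1 (aeval ![y, t] Z) = 1 ∧
        aeval ![y, t] W * aeval ![y, t] G = (t - algebraMap k K c) ^ m * aeval ![y, t] Z := by
  intro n
  induction n using Nat.strong_induction_on with
  | _ n ih =>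
    intro G hG0 hn
    have hle : P.1 (aeval ![y, t] G) ≤ 1 := v_ev_le P (v_t_le P htc) hy G
    rcases hle.lt_or_eq with hlt | heq
    · obtain ⟨W₁, R, hW₁, hWR⟩ := claimA P htc hy hF0 hFY G hlt
      have hW₁0 : aeval ![y, t] W₁ ≠ 0 := by
        intro h; rw [h, map_zero] at hW₁; exact zero_ne_one hW₁
      have hR0 : aeval ![y, t] R ≠ 0 := by
        intro h
        rw [h, mul_zero] at hWR
        exact (mul_ne_zero hW₁0 hG0) hWR
      have hord := congrArg P.ord hWR
      rw [P.ord_mul hW₁0 hG0, P.ord_mul hτ hR0, (P.v_eq_one_iff hW₁0).mp hW₁, zero_add] at hord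
      have hτpos : 0 < P.ord (t - algebraMap k K c) := (P.v_lt_one_iff hτ).mp htc
      have hRnn : 0 ≤ P.ord (aeval ![y, t] R) :=
        (P.v_le_one_iff hR0).mp (v_ev_le P (v_t_le P htc) hy R)
      have hlt' : (P.ord (aeval ![y, t] R)).toNat < n := by
        rw [← hn]; omega
      obtain ⟨m, W₂, Z, hW₂, hZ, hWZ⟩ := ih _ hlt' R hR0 rfl
      refine ⟨m + 1, W₁ * W₂, Z, ?_, hZ, ?_⟩
      · rw [map_mul, map_mul, hW₁, hW₂, one_mul]
      · rw [map_mul, pow_succ]
        calc aeval ![y, t] W₁ * aeval ![y, t] W₂ * aeval ![y, t] G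
            = aeval ![y, t] W₂ * (aeval ![y, t] W₁ * aeval ![y, t] G) := by ring
          _ = (t - algebraMap k K c) * (aeval ![y, t] W₂ * aeval ![y, t] R) := by rw [hWR]; ring
          _ = _ := by rw [hWZ]; ring
    · exact ⟨0, 1, G, by rw [map_one, map_one], heq, by rw [map_one, one_mul, pow_zero, one_mul]⟩

theorem v_eq_pow (htc : P.1 (t - algebraMap k K c) < 1) (hy : P.1 y ≤ 1)
    {W G Z : MvPolynomial (Fin 2) k} {m : ℕ} (hW : P.1 (aeval ![y, t] W) = 1)
    (hZ : P.1 (aeval ![y, t] Z) = 1)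
    (h : aeval ![y, t] W * aeval ![y, t] G = (t - algebraMap k K c) ^ m * aeval ![y, t] Z) :
    P.1 (aeval ![y, t] G) = P.1 (t - algebraMap k K c) ^ m := by
  have := congrArg P.1 h
  rwa [map_mul, map_mul, map_pow, hW, hZ, one_mul, mul_one] at this

theorem claimC (hxy : IntermediateField.adjoin k ({y, t} : Set K) = ⊤)
    (htc : P.1 (t - algebraMap k K c) < 1) (hy : P.1 y ≤ 1)
    (hτ : t - algebraMap k K c ≠ 0)
    {F : MvPolynomial (Fin 2) k} (hF0 : aeval ![y, t] F = 0)
    (hFY : P.1 (aeval ![y, t] (pderiv 0 F)) = 1) (z : K) (hz : P.1 z ≤ 1) :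
    ∃ C₁ C₂ : MvPolynomial (Fin 2) k, P.1 (aeval ![y, t] C₂) = 1 ∧
      z * aeval ![y, t] C₂ = aeval ![y, t] C₁ := by
  by_cases hz0 : z = 0
  · exact ⟨0, 1, by rw [map_one, map_one], by rw [hz0, zero_mul, map_zero]⟩
  obtain ⟨R, S, hS0, hRS⟩ := Groth.Agent.H9.FFG2.exists_div hxy z
  have hR0 : aeval ![y, t] R ≠ 0 := by rw [← hRS]; exact mul_ne_zero hS0 hz0
  obtain ⟨b, WS, ZS, hWS, hZS, hS⟩ := claimB P htc hy hτ hF0 hFY _ S hS0 rfl
  obtain ⟨a, WR, ZR, hWR, hZR, hR⟩ := claimB P htc hy hτ hF0 hFY _ R hR0 rfl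
  have hvS := v_eq_pow P htc hy hWS hZS hS
  have hvR := v_eq_pow P htc hy hWR hZR hR
  have hτpos : 0 < P.1 (t - algebraMap k K c) := by
    rw [pos_iff_ne_zero]; exact P.v_ne_zero hτ
  have hba : b ≤ a := by
    have h1 := congrArg P.1 hRS
    rw [map_mul, hvS, hvR] at h1
    have h2 : P.1 (t - algebraMap k K c) ^ a ≤ P.1 (t - algebraMap k K c) ^ b := by
      rw [← h1]; exact mul_le_of_le_one_right' hz
    exact (pow_le_pow_iff_right_of_lt_one₀ hτpos htc).mp h2
  refine ⟨(X 1 - C c) ^ (a - b) * ZR * WS, ZS * WR, by rw [map_mul, map_mul, hZS, hWR, one_mul], ?_⟩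
  apply mul_left_cancel₀ (pow_ne_zero b hτ)
  rw [map_mul, map_mul, map_mul, map_pow, map_sub, aeval_X, aeval_C]
  show (t - algebraMap k K c) ^ b * (z * (aeval ![y, t] ZS * aeval ![y, t] WR)) =
    (t - algebraMap k K c) ^ b *
      ((t - algebraMap k K c) ^ (a - b) * aeval ![y, t] ZR * aeval ![y, t] WS)
  calc (t - algebraMap k K c) ^ b * (z * (aeval ![y, t] ZS * aeval ![y, t] WR))
      = ((t - algebraMap k K c) ^ b * aeval ![y, t] ZS) * z * aeval ![y, t] WR := by ring
    _ = aeval ![y, t] WS * (aeval ![y, t] S * z) * aeval ![y, t] WR := by rw [← hS]; ring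
    _ = aeval ![y, t] WS * (aeval ![y, t] WR * aeval ![y, t] R) := by rw [hRS]; ring
    _ = aeval ![y, t] WS * ((t - algebraMap k K c) ^ a * aeval ![y, t] ZR) := by rw [hR]
    _ = _ := by
      have : (t - algebraMap k K c) ^ a =
          (t - algebraMap k K c) ^ b * (t - algebraMap k K c) ^ (a - b) := by
        rw [← pow_add]; congr 1; omega
      rw [this]; ring

/-- the residue map as a `k`-algebra hom -/
noncomputable def resAlg : P.O →ₐ[k] IsLocalRing.ResidueField P.O :=
  { (IsLocalRing.residue P.O : P.O →+* IsLocalRing.ResidueField P.O) with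
    commutes' := fun _ => rfl }

/-- the inclusion as a `k`-algebra hom -/
def valAlg : P.O →ₐ[k] K :=
  { (P.O.subtype : P.O →+* K) with commutes' := fun _ => rfl }

lemma resAlg_apply (a : P.O) : resAlg P a = IsLocalRing.residue P.O a := rfl
lemma valAlg_apply (a : P.O) : valAlg P a = (a : K) := rfl

lemma coe_aeval (yO : P.O) (p : Polynomial k) :
    ((Polynomial.aeval yO p : P.O) : K) = Polynomial.aeval (yO : K) p := by
  rw [← valAlg_apply, ← Polynomial.aeval_algHom_apply, valAlg_apply]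

lemma residue_aeval (yO : P.O) (p : Polynomial k) :
    IsLocalRing.residue P.O (Polynomial.aeval yO p) =
      Polynomial.aeval (IsLocalRing.residue P.O yO) p := by
  rw [← resAlg_apply, ← Polynomial.aeval_algHom_apply, resAlg_apply]

lemma residue_ev (htc : P.1 (t - algebraMap k K c) < 1) (hy : P.1 y ≤ 1)
    (G : MvPolynomial (Fin 2) k) :
    IsLocalRing.residue P.O ⟨aeval ![y, t] G, P.mem_O_iff.2 (v_ev_le P (v_t_le P htc) hy G)⟩ =
      Polynomial.aeval (IsLocalRing.residue P.O ⟨y, P.mem_O_iff.2 hy⟩) (sp c G) := by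
  rw [← residue_aeval, ← sub_eq_zero, ← map_sub, P.residue_eq_zero_iff]
  have : ((⟨aeval ![y, t] G, P.mem_O_iff.2 (v_ev_le P (v_t_le P htc) hy G)⟩ -
      Polynomial.aeval (⟨y, P.mem_O_iff.2 hy⟩ : P.O) (sp c G) : P.O) : K) =
      aeval ![y, t] G - Polynomial.aeval y (sp c G) := by
    rw [AddSubgroupClass.coe_sub, coe_aeval]
  rw [this]
  exact v_ev_sub_lt P htc hy G

lemma aeval_mem_of_mem {E : Type*} [Field E] [Algebra k E] {L : IntermediateField k E} {x : E}
    (hx : x ∈ L) (p : Polynomial k) : Polynomial.aeval x p ∈ L := by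
  induction p using Polynomial.induction_on' with
  | add p q hp hq => rw [map_add]; exact add_mem hp hq
  | monomial n a =>
    rw [Polynomial.aeval_monomial]
    exact mul_mem (L.algebraMap_mem a) (pow_mem hx n)

theorem isSeparable_of_root {E : Type*} [Field E] [Algebra k E] {x : E} {p : Polynomial k}
    (hp : Polynomial.aeval x p = 0) (hp' : Polynomial.aeval x (Polynomial.derivative p) ≠ 0) :
    IsSeparable k x := by
  have hp0 : p ≠ 0 := by
    rintro rfl; rw [Polynomial.derivative_zero, map_zero] at hp'; exact hp' rfl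
  have hint : IsIntegral k x := (IsAlgebraic.isIntegral ⟨p, hp0, hp⟩)
  obtain ⟨s, hs⟩ := minpoly.dvd k x hp
  unfold IsSeparable
  rw [Polynomial.separable_iff_derivative_ne_zero (minpoly.irreducible hint)]
  intro hd
  apply hp'
  rw [hs, Polynomial.derivative_mul, hd, zero_mul, zero_add, map_mul, minpoly.aeval, zero_mul]

theorem isSeparable_residueField (hxy : IntermediateField.adjoin k ({y, t} : Set K) = ⊤)
    (htc : P.1 (t - algebraMap k K c) < 1) (hy : P.1 y ≤ 1)
    (hτ : t - algebraMap k K c ≠ 0)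
    {F : MvPolynomial (Fin 2) k} (hF0 : aeval ![y, t] F = 0)
    (hFY : P.1 (aeval ![y, t] (pderiv 0 F)) = 1) :
    Algebra.IsSeparable k (IsLocalRing.ResidueField P.O) := by
  set yb := IsLocalRing.residue P.O ⟨y, P.mem_O_iff.2 hy⟩ with hyb
  -- yb separable
  have hsep : IsSeparable k yb := by
    apply isSeparable_of_root (p := sp c F)
    · rw [← residue_ev P htc hy F, P.residue_eq_zero_iff]
      show P.1 (aeval ![y, t] F) < 1
      rw [hF0, map_zero]; exact zero_lt_one
    · rw [← sp_pderiv, ← residue_ev P htc hy (pderiv 0 F), Ne, P.residue_eq_zero_iff, not_lt]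
      exact hFY.ge
  have hmem : yb ∈ separableClosure k (IsLocalRing.ResidueField P.O) :=
    mem_separableClosure_iff.mpr hsep
  refine ⟨fun w => ?_⟩
  rw [← mem_separableClosure_iff]
  obtain ⟨zO, rfl⟩ := IsLocalRing.residue_surjective w
  obtain ⟨C₁, C₂, hC₂, hC⟩ := claimC P hxy htc hy hτ hF0 hFY (zO : K) (P.mem_O_iff.1 zO.2)
  have e1 : zO * ⟨aeval ![y, t] C₂, P.mem_O_iff.2 (v_ev_le P (v_t_le P htc) hy C₂)⟩ =
      (⟨aeval ![y, t] C₁, P.mem_O_iff.2 (v_ev_le P (v_t_le P htc) hy C₁)⟩ : P.O) :=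
    Subtype.ext hC
  have e2 := congrArg (IsLocalRing.residue P.O) e1
  rw [map_mul, residue_ev P htc hy, residue_ev P htc hy] at e2
  have hne : Polynomial.aeval yb (sp c C₂) ≠ 0 := by
    rw [hyb, ← residue_ev P htc hy C₂, Ne, P.residue_eq_zero_iff, not_lt]
    exact hC₂.ge
  have e3 : IsLocalRing.residue P.O zO =
      Polynomial.aeval yb (sp c C₁) / Polynomial.aeval yb (sp c C₂) := by
    rw [eq_div_iff hne]; exact e2
  rw [e3]
  exact div_mem (aeval_mem_of_mem hmem _) (aeval_mem_of_mem hmem _)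

end place

end Groth.Agent.H9.FFP1
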