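import Mathlib
import Groth.Agent.Lib.Helper9.Misc.FFP1
import Groth.Agent.Lib.Helper9.Misc.FFG3

set_option autoImplicit false
set_option linter.style.haveILetI false
set_option linter.unusedSectionVars false
set_option linter.unusedVariables false

namespace Groth.Agent.H9.FFP2

open FunFld MvPolynomial WithZero TensorProduct Groth.Agent.H9.FFP1

universe u v

variable {k : Type u} {K : Type v} [Field k] [Field K] [Algebra k K]

section model

open scoped IntermediateField

/-- embedding `k[T] → k[X₀, X₁]`, `T ↦ X₁` -/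
noncomputable def emb1 : Polynomial k →ₐ[k] MvPolynomial (Fin 2) k :=
  Polynomial.aeval (X 1)

lemma pderiv_emb1 (s : Polynomial k) : pderiv (0 : Fin 2) (emb1 s) = 0 := by
  induction s using Polynomial.induction_on' with
  | add p q hp hq => rw [map_add, map_add, hp, hq, add_zero]
  | monomial n a =>
    unfold emb1
    rw [Polynomial.aeval_monomial, Derivation.leibniz, MvPolynomial.algebraMap_eq, pderiv_C,
      Derivation.leibniz_pow, pderiv_X_of_ne (by decide)]
    simp

lemma pderiv_emb1_mul (s : Polynomial k) (F : MvPolynomial (Fin 2) k) :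
    pderiv (0 : Fin 2) (emb1 s * F) = emb1 s * pderiv 0 F := by
  rw [Derivation.leibniz, pderiv_emb1, smul_zero, add_zero, smul_eq_mul]

lemma ev_emb1 (y t : K) (s : Polynomial k) : aeval ![y, t] (emb1 s) = Polynomial.aeval t s := by
  unfold emb1
  rw [← Polynomial.aeval_algHom_apply]
  simp

/-- clearing denominators -/
theorem exists_clear_denominators (y t : K) (m : Polynomial k⟮t⟯) :
    ∃ s : Polynomial k, Polynomial.aeval t s ≠ 0 ∧ ∃ F : MvPolynomial (Fin 2) k,
      aeval ![y, t] F = Polynomial.aeval t s * Polynomial.aeval y m ∧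
      aeval ![y, t] (pderiv 0 F) =
        Polynomial.aeval t s * Polynomial.aeval y (Polynomial.derivative m) := by
  induction m using Polynomial.induction_on' with
  | add p q hp hq =>
    obtain ⟨s₁, hs₁, F₁, h1, h1'⟩ := hp
    obtain ⟨s₂, hs₂, F₂, h2, h2'⟩ := hq
    refine ⟨s₁ * s₂, by rw [map_mul]; exact mul_ne_zero hs₁ hs₂,
      emb1 s₂ * F₁ + emb1 s₁ * F₂, ?_, ?_⟩
    · rw [map_add, map_mul, map_mul, ev_emb1, ev_emb1, h1, h2, map_add, map_mul]; ring
    · rw [map_add, pderiv_emb1_mul, pderiv_emb1_mul, map_add, map_mul, map_mul, ev_emb1, ev_emb1,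
        h1', h2', map_add, map_add, map_mul]; ring
  | monomial n a =>
    obtain ⟨r, s, hrs⟩ := (IntermediateField.mem_adjoin_simple_iff k (a : K)).mp a.2
    by_cases hs : Polynomial.aeval t s = 0
    · have ha : a = 0 := by
        apply Subtype.ext
        rw [hrs, hs, _root_.div_zero]; rfl
      refine ⟨1, by simp, 0, ?_, ?_⟩
      · rw [ha]; simp
      · rw [ha]; simp
    · have hra : Polynomial.aeval t r = Polynomial.aeval t s * (a : K) := by
        rw [hrs, mul_div_cancel₀ _ hs]
      refine ⟨s, hs, emb1 r * X 0 ^ n, ?_, ?_⟩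
      · rw [map_mul, ev_emb1, map_pow, aeval_X, Polynomial.aeval_monomial, hra]
        simp only [Matrix.cons_val_zero]
        rw [IntermediateField.algebraMap_apply]
        ring
      · rw [pderiv_emb1_mul, Derivation.leibniz_pow, pderiv_X_self, map_mul, ev_emb1, hra,
          Polynomial.derivative_monomial, Polynomial.aeval_monomial]
        simp only [smul_eq_mul, mul_one, nsmul_eq_mul, map_mul, map_pow, aeval_X,
          Matrix.cons_val_zero, map_natCast]
        rw [IntermediateField.algebraMap_apply]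
        ring

theorem exists_sep_model
    (hF : ∃ x : K, Transcendental k x ∧
      FiniteDimensional (IntermediateField.adjoin k ({x} : Set K)) K)
    (hgeo : ∀ (k' : Type u) [Field k'] [Algebra k k'], FiniteDimensional k k' →
      IsField (k' ⊗[k] K)) :
    ∃ (y t : K) (F : MvPolynomial (Fin 2) k), Transcendental k t ∧
      IntermediateField.adjoin k ({y, t} : Set K) = ⊤ ∧
      aeval ![y, t] F = 0 ∧ aeval ![y, t] (pderiv 0 F) ≠ 0 := by
  classical
  obtain ⟨x₀, hx₀, hfin₀⟩ := hF
  haveI : Algebra.EssFiniteType k k⟮x₀⟯ :=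
    IntermediateField.essFiniteType_iff.mpr ⟨{x₀}, by simp⟩
  haveI : Algebra.EssFiniteType k⟮x₀⟯ K := inferInstance
  haveI : Algebra.EssFiniteType k K := Algebra.EssFiniteType.comp k k⟮x₀⟯ K
  obtain ⟨s, hs, hsep⟩ : ∃ s : Finset K, IsTranscendenceBasis k ((↑) : s → K) ∧
      Algebra.IsSeparable (IntermediateField.adjoin k (s : Set K)) K := by
    rcases CharP.exists' k with h0 | ⟨p, hp, hpk⟩
    · haveI := h0
      exact exists_isTranscendenceBasis_and_isSeparable_of_perfectField k K
    · haveI : ExpChar k p := .prime hp.out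
      exact exists_isTranscendenceBasis_and_isSeparable_of_linearIndepOn_pow_of_essFiniteType
        p hp.out (fun s hs => Groth.Agent.H9.FFG3.linearIndepOn_pow p hgeo s hs)
  have hb₀ : IsTranscendenceBasis k (fun _ : Unit => x₀) := by
    have hai : AlgebraicIndependent k (fun _ : Unit => x₀) :=
      algebraicIndependent_unique_type_iff.mpr hx₀
    rw [hai.isTranscendenceBasis_iff_isAlgebraic, Set.range_const]
    haveI : Algebra.IsAlgebraic k⟮x₀⟯ K := Algebra.IsAlgebraic.of_finite _ _
    exact IntermediateField.isAlgebraic_adjoin_iff_top.mp inferInstance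
  have hcard : s.card = 1 := by
    have h := hs.lift_cardinalMk_eq hb₀
    simpa using h
  obtain ⟨t, rfl⟩ := Finset.card_eq_one.mp hcard
  have ht : Transcendental k t := hs.1.transcendental ⟨t, Finset.mem_singleton_self t⟩
  rw [Finset.coe_singleton] at hsep
  haveI : Algebra.EssFiniteType k⟮t⟯ K := Algebra.EssFiniteType.of_comp k k⟮t⟯ K
  haveI : Algebra.IsAlgebraic k⟮t⟯ K := Algebra.IsSeparable.isAlgebraic _ _
  haveI : Module.Finite k⟮t⟯ K := Algebra.finite_of_essFiniteType_of_isAlgebraic
  obtain ⟨y, hy⟩ := Field.exists_primitive_element k⟮t⟯ K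
  have hxy : IntermediateField.adjoin k ({y, t} : Set K) = ⊤ := by
    have h := IntermediateField.adjoin_adjoin_left k ({t} : Set K) ({y} : Set K)
    rw [hy, IntermediateField.restrictScalars_top, Set.singleton_union, Set.pair_comm] at h
    exact h.symm
  have hm : (minpoly k⟮t⟯ y).Separable := Algebra.IsSeparable.isSeparable k⟮t⟯ y
  have hm0 : Polynomial.aeval y (minpoly k⟮t⟯ y) = 0 := minpoly.aeval _ _
  have hm' := hm.aeval_derivative_ne_zero hm0
  obtain ⟨s, hs, F, h1, h2⟩ := exists_clear_denominators y t (minpoly k⟮t⟯ y)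
  refine ⟨y, t, F, ht, hxy, ?_, ?_⟩
  · rw [h1, hm0, mul_zero]
  · rw [h2]; exact mul_ne_zero hs hm'

end model

section infinite

theorem infinite_sep_of_infinite [Infinite k] (hK : IsFunctionField k K)
    (hgeo : ∀ (k' : Type u) [Field k'] [Algebra k k'], FiniteDimensional k k' →
      IsField (k' ⊗[k] K)) :
    {P : Place k K | Algebra.IsSeparable k (IsLocalRing.ResidueField P.O)}.Infinite := by
  classical
  obtain ⟨y, t, F, ht, hxy, hF0, hFY⟩ := exists_sep_model hK.1 hgeo
  have hτ : ∀ c : k, t - algebraMap k K c ≠ 0 := fun c h =>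
    ht (by rw [sub_eq_zero.mp h]; exact isAlgebraic_algebraMap c)
  have hnr : ∀ c : k, t - algebraMap k K c ∉ Set.range (algebraMap k K) := by
    rintro c ⟨a, ha⟩
    apply ht
    have : t = algebraMap k K (a + c) := by rw [map_add, ha]; ring
    rw [this]; exact isAlgebraic_algebraMap _
  choose Pc hPc using fun c => exists_place_v_lt_one hK (hnr c)
  have hinj : Function.Injective Pc := by
    intro c c' h
    by_contra hne
    have h1 := hPc c
    have h2 := hPc c'
    rw [← h] at h2
    have h3 : (Pc c).1 (algebraMap k K (c' - c)) < 1 := by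
      have e : algebraMap k K (c' - c) =
          (t - algebraMap k K c) - (t - algebraMap k K c') := by rw [map_sub]; ring
      rw [e]; exact ((Pc c).1.map_sub _ _).trans_lt (max_lt h1 h2)
    rw [(Pc c).v_algebraMap (sub_ne_zero.mpr (Ne.symm hne))] at h3
    exact lt_irrefl _ h3
  have hB1 : {P : Place k K | 1 < P.1 y}.Finite := by
    by_cases hy0 : y = 0
    · convert Set.finite_empty
      ext P
      simp [hy0]
    · refine (finite_zeros' hK (inv_ne_zero hy0)).subset ?_
      intro P hP
      simp only [Set.mem_ofPred_eq] at hP ⊢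
      rw [map_inv₀]; exact inv_lt_one_of_one_lt₀ hP
  have hB2 : {P : Place k K | P.1 (aeval ![y, t] (pderiv 0 F)) < 1}.Finite :=
    finite_zeros' hK hFY
  have hS : (Set.range Pc \ ({P | 1 < P.1 y} ∪
      {P | P.1 (aeval ![y, t] (pderiv 0 F)) < 1})).Infinite :=
    (Set.infinite_range_of_injective hinj).sdiff (hB1.union hB2)
  refine hS.mono ?_
  rintro P ⟨⟨c, rfl⟩, hnb⟩
  simp only [Set.mem_union, Set.mem_ofPred_eq, not_or, not_lt] at hnb
  obtain ⟨hy, hd⟩ := hnb
  have hd1 : (Pc c).1 (aeval ![y, t] (pderiv 0 F)) = 1 :=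
    le_antisymm (v_ev_le _ (v_t_le _ (hPc c)) hy _) hd
  exact isSeparable_residueField (Pc c) hxy (hPc c) hy (hτ c) hF0 hd1

end infinite

section finite

/-- Euclid-type products -/
noncomputable def bb : ℕ → Polynomial k
  | 0 => 1
  | n + 1 => bb n * (Polynomial.X * bb n + 1)

noncomputable def aa (n : ℕ) : Polynomial k := Polynomial.X * bb n + 1

lemma bb_succ (n : ℕ) : (bb (n + 1) : Polynomial k) = bb n * aa n := rfl

lemma bb_ne_zero (n : ℕ) : (bb n : Polynomial k) ≠ 0 := by
  induction n with
  | zero => exact one_ne_zero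
  | succ n ih =>
    rw [bb_succ]
    refine mul_ne_zero ih ?_
    intro h
    have := congrArg (fun p => Polynomial.eval 0 p) h
    simp [aa] at this

lemma monic_X_mul_add_one {b : Polynomial k} (hb : b.Monic) :
    (Polynomial.X * b + 1 : Polynomial k).Monic := by
  refine (Polynomial.monic_X.mul hb).add_of_left ?_
  rw [Polynomial.degree_one, Polynomial.degree_mul, Polynomial.degree_X,
    Polynomial.degree_eq_natDegree hb.ne_zero]
  exact_mod_cast (by omega : 0 < 1 + b.natDegree)

lemma bb_monic (n : ℕ) : (bb n : Polynomial k).Monic := by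
  induction n with
  | zero => exact Polynomial.monic_one
  | succ n ih =>
    rw [bb_succ]
    exact ih.mul (monic_X_mul_add_one ih)

lemma aa_monic (n : ℕ) : (aa n : Polynomial k).Monic := monic_X_mul_add_one (bb_monic n)

lemma aa_natDegree_pos (n : ℕ) : 0 < (aa n : Polynomial k).natDegree := by
  unfold aa
  have hb := bb_monic (k := k) n
  have h1 : ((Polynomial.X * bb n + 1 : Polynomial k)).natDegree =
      (bb n : Polynomial k).natDegree + 1 := by
    rw [Polynomial.natDegree_add_eq_left_of_natDegree_lt]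
    · rw [Polynomial.natDegree_X_mul hb.ne_zero]
    · rw [Polynomial.natDegree_one, Polynomial.natDegree_X_mul hb.ne_zero]; omega
  rw [h1]; omega

lemma aa_dvd_bb {i j : ℕ} (hij : i < j) : (aa i : Polynomial k) ∣ bb j := by
  induction j with
  | zero => omega
  | succ j ih =>
    rw [bb_succ]
    rcases Nat.lt_succ_iff_lt_or_eq.mp hij with h | h
    · exact (ih h).mul_right _
    · subst h; exact dvd_mul_left _ _

lemma v_le_one_of_monic (P : Place k K) {t : K} {p : Polynomial k} (hp : p.Monic)
    (hd : 0 < p.natDegree) (hv : P.1 (Polynomial.aeval t p) ≤ 1) : P.1 t ≤ 1 := by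
  by_contra hlt
  rw [not_le] at hlt
  have h1 : Polynomial.aeval t p = t ^ p.natDegree +
      ∑ i ∈ Finset.range p.natDegree, algebraMap k K (p.coeff i) * t ^ i := by
    conv_lhs => rw [hp.as_sum]
    simp only [map_add, map_pow, Polynomial.aeval_X, map_sum, map_mul, Polynomial.aeval_C]
  have h2 : P.1 (∑ i ∈ Finset.range p.natDegree, algebraMap k K (p.coeff i) * t ^ i) ≤
      P.1 t ^ (p.natDegree - 1) := by
    apply Valuation.map_sum_le
    intro i hi
    rw [Finset.mem_range] at hi
    rw [map_mul, map_pow]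
    calc P.1 (algebraMap k K (p.coeff i)) * P.1 t ^ i ≤ P.1 t ^ i :=
          mul_le_of_le_one_left' (P.v_algebraMap_le _)
      _ ≤ P.1 t ^ (p.natDegree - 1) := pow_le_pow_right₀ hlt.le (by omega)
  have h3 : P.1 t ^ (p.natDegree - 1) < P.1 t ^ p.natDegree :=
    pow_lt_pow_right₀ hlt (by omega)
  have h4 : P.1 (Polynomial.aeval t p) = P.1 t ^ p.natDegree := by
    rw [h1, ← map_pow]
    apply Valuation.map_add_eq_of_lt_left
    rw [map_pow]
    exact h2.trans_lt h3
  rw [h4] at hv
  exact absurd hv (not_le.mpr (one_lt_pow₀ hlt (by omega)))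

theorem infinite_places (hK : IsFunctionField k K) : Infinite (Place k K) := by
  obtain ⟨t, ht, -⟩ := hK.1
  have hnr : ∀ n, Polynomial.aeval t (aa n : Polynomial k) ∉ Set.range (algebraMap k K) := by
    rintro n ⟨c, hc⟩
    apply ht
    refine ⟨aa n - Polynomial.C c, ?_, by rw [map_sub, Polynomial.aeval_C, hc, sub_self]⟩
    intro h
    have hpos := aa_natDegree_pos (k := k) n
    rw [sub_eq_zero.mp h, Polynomial.natDegree_C] at hpos
    exact lt_irrefl _ hpos
  choose Pn hPn using fun n => exists_place_v_lt_one hK (hnr n)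
  refine Infinite.of_injective Pn ?_
  intro i j h
  by_contra hne
  wlog hij : i < j generalizing i j
  · exact this h.symm (Ne.symm hne) (lt_of_le_of_ne (not_lt.mp hij) (Ne.symm hne))
  have h1 := hPn i
  have h2 := hPn j
  rw [← h] at h2
  have hvt : (Pn i).1 t ≤ 1 :=
    v_le_one_of_monic (Pn i) (aa_monic i) (aa_natDegree_pos i) h1.le
  obtain ⟨e, he⟩ := aa_dvd_bb (k := k) hij
  have hpoly : (aa j - Polynomial.X * e * aa i : Polynomial k) = 1 := by
    unfold aa at he ⊢
    rw [he]; ring
  have hone : (1 : K) = Polynomial.aeval t (aa j : Polynomial k) -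
      Polynomial.aeval t (Polynomial.X * e : Polynomial k) *
        Polynomial.aeval t (aa i : Polynomial k) := by
    rw [← map_mul, ← map_sub, hpoly, map_one]
  have hlt : (Pn i).1 (1 : K) < 1 := by
    rw [hone]
    refine ((Pn i).1.map_sub _ _).trans_lt (max_lt h2 ?_)
    rw [map_mul]
    exact (mul_le_of_le_one_left' (v_aeval_le (Pn i) hvt _)).trans_lt h1
  rw [map_one] at hlt
  exact lt_irrefl _ hlt

theorem infinite_sep_of_finite [Finite k] (hK : IsFunctionField k K) :
    {P : Place k K | Algebra.IsSeparable k (IsLocalRing.ResidueField P.O)}.Infinite := by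
  haveI := infinite_places hK
  have hall : {P : Place k K | Algebra.IsSeparable k (IsLocalRing.ResidueField P.O)} =
      Set.univ := by
    ext P
    simp only [Set.mem_ofPred_eq, Set.mem_univ, iff_true]
    have hfd : FiniteDimensional k (IsLocalRing.ResidueField P.O) :=
      P.finiteDimensional_residueField hK
    haveI : Fintype k := Fintype.ofFinite k
    haveI : Algebra.IsAlgebraic k (IsLocalRing.ResidueField P.O) :=
      @Algebra.IsAlgebraic.of_finite k (IsLocalRing.ResidueField P.O) _ _ _ _ hfd
    exact Algebra.IsAlgebraic.isSeparable_of_perfectField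
  rw [hall]
  exact Set.infinite_univ

end finite

end Groth.Agent.H9.FFP2
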