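import Mathlib

set_option autoImplicit false
set_option linter.style.haveILetI false
set_option linter.unusedSectionVars false
set_option linter.unusedVariables false

namespace Groth.Agent.H9.FFR

open Polynomial TensorProduct

section AssInj

variable {A : Type*} [CommRing A]

/-- `P` is a prime which is the annihilator of an element. -/
def IsAnnPrime (P : Ideal A) : Prop := P.IsPrime ∧ ∃ c : A, ∀ a, a ∈ P ↔ a * c = 0

/-- (a) an element vanishing in the localization at every annihilator prime is zero. -/
lemma eq_zero_of_forall_annPrime [IsNoetherianRing A] (b : A)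
    (h : ∀ (P : Ideal A) [P.IsPrime], IsAnnPrime P →
      algebraMap A (Localization.AtPrime P) b = 0) : b = 0 := by
  by_contra hb
  obtain ⟨P, hP, hle⟩ := exists_le_isAssociatedPrime_of_isNoetherianRing A b hb
  rw [isAssociatedPrime_iff] at hP
  obtain ⟨hPp, c, hc⟩ := hP
  have hann : IsAnnPrime P := ⟨hPp, c, fun a => by
    rw [hc, Submodule.mem_colon_singleton, Submodule.mem_bot, smul_eq_mul]⟩
  have h0 := h P hann
  rw [IsLocalization.map_eq_zero_iff P.primeCompl] at h0
  obtain ⟨⟨t, ht⟩, htb⟩ := h0
  apply ht
  apply hle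
  rw [Submodule.mem_colon_singleton, Submodule.mem_bot, smul_eq_mul]
  exact htb

/-- The socle element of the localization at an annihilator prime. -/
lemma exists_socle (P : Ideal A) [P.IsPrime] (hP : IsAnnPrime P) :
    ∃ s : Localization.AtPrime P, s ≠ 0 ∧
      ∀ y ∈ IsLocalRing.maximalIdeal (Localization.AtPrime P), s * y = 0 := by
  obtain ⟨_, c, hc⟩ := hP
  refine ⟨algebraMap A _ c, ?_, ?_⟩
  · intro h0
    rw [IsLocalization.map_eq_zero_iff P.primeCompl] at h0
    obtain ⟨⟨t, ht⟩, htc⟩ := h0
    exact ht ((hc t).mpr htc)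
  · intro y hy
    obtain ⟨a, t, rfl⟩ := IsLocalization.exists_mk'_eq P.primeCompl y
    rw [IsLocalization.AtPrime.mk'_mem_maximal_iff (Localization.AtPrime P) P] at hy
    have : a * c = 0 := (hc a).mp hy
    rw [mul_comm, ← IsLocalization.mk'_one (M := P.primeCompl) (Localization.AtPrime P) c,
      ← IsLocalization.mk'_mul, this, IsLocalization.mk'_zero]

end AssInj

section Socle

open IsLocalRing Function

variable {B : Type*} [CommRing B] [IsLocalRing B]

lemma smul_eq_zero_of_mem_smul_top (s : B) (hs : ∀ y ∈ maximalIdeal B, s * y = 0)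
    {N : Type*} [AddCommGroup N] [Module B N] (y : N)
    (hy : y ∈ (maximalIdeal B • ⊤ : Submodule B N)) : s • y = 0 := by
  refine Submodule.smul_induction_on hy (fun a ha n _ => ?_) (fun x y hx hy => ?_)
  · rw [smul_smul, hs a ha, zero_smul]
  · rw [smul_add, hx, hy, add_zero]

lemma one_tmul_eq_zero_iff {N : Type*} [AddCommGroup N] [Module B N] (y : N) :
    (1 : ResidueField B) ⊗ₜ[B] y = 0 ↔ y ∈ (maximalIdeal B • ⊤ : Submodule B N) := by
  have h1 : (TensorProduct.quotTensorEquivQuotSMul N (maximalIdeal B))
      ((1 : B ⧸ maximalIdeal B) ⊗ₜ[B] y) = Submodule.Quotient.mk y :=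
    TensorProduct.quotTensorEquivQuotSMul_mk_one_tmul _ _
  constructor
  · intro h
    have h2 : ((1 : B ⧸ maximalIdeal B) ⊗ₜ[B] y) = 0 := h
    rw [h2, map_zero] at h1
    exact (Submodule.Quotient.mk_eq_zero _).mp h1.symm
  · intro h
    have h2 : (Submodule.Quotient.mk y : N ⧸ (maximalIdeal B • ⊤ : Submodule B N)) = 0 :=
      (Submodule.Quotient.mk_eq_zero _).mpr h
    rw [h2] at h1
    exact (LinearEquiv.map_eq_zero_iff _).mp h1

lemma mem_smul_top_of_smul_eq_zero {K : Type*} [AddCommGroup K] [Module B K]
    [Module.Free B K] [Module.Finite B K] (s : B) (hs0 : s ≠ 0) (x : K) (hx : s • x = 0) :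
    x ∈ (maximalIdeal B • ⊤ : Submodule B K) := by
  let b := Module.Free.chooseBasis B K
  have hmem : ∀ i, b.repr x i ∈ maximalIdeal B := by
    intro i
    by_contra hu
    have hu' : IsUnit (b.repr x i) := by
      rwa [IsLocalRing.mem_maximalIdeal, mem_nonunits_iff, not_not] at hu
    have h0 : s * b.repr x i = 0 := by
      have := congrArg (fun z => b.repr z i) hx
      simpa using this
    exact hs0 (hu'.mul_left_eq_zero.mp h0)
  rw [← b.sum_repr x]
  exact Submodule.sum_mem _ fun i _ => Submodule.smul_mem_smul (hmem i) Submodule.mem_top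

/-- (b') over a local ring with a socle element, the cokernel of an injective map of
finite free modules is free. -/
theorem free_of_socle {K F M : Type*} [AddCommGroup K] [Module B K] [AddCommGroup F] [Module B F]
    [AddCommGroup M] [Module B M] [Module.Free B K] [Module.Finite B K] [Module.Free B F]
    [Module.Finite B F] (s : B) (hs0 : s ≠ 0) (hs : ∀ y ∈ maximalIdeal B, s * y = 0)
    (ι : K →ₗ[B] F) (π : F →ₗ[B] M) (hι : Injective ι) (hπ : Surjective π) (hex : Exact ι π) :
    Module.Free B M := by
  apply Module.free_of_lTensor_residueField_injective ι π hπ hex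
  rw [injective_iff_map_eq_zero]
  intro z hz
  obtain ⟨x, rfl⟩ := TensorProduct.mk_surjective B K (ResidueField B)
    Ideal.Quotient.mk_surjective z
  rw [TensorProduct.mk_apply, LinearMap.lTensor_tmul] at hz
  rw [TensorProduct.mk_apply]
  rw [one_tmul_eq_zero_iff] at hz ⊢
  have h1 : s • ι x = 0 := smul_eq_zero_of_mem_smul_top s hs _ hz
  rw [← map_smul] at h1
  have h2 : s • x = 0 := hι (by rw [h1, map_zero])
  exact mem_smul_top_of_smul_eq_zero s hs0 x h2

end Socle

section CharpolyExact

open Function

variable {B : Type*} [CommRing B]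
  {K F M : Type*} [AddCommGroup K] [Module B K] [AddCommGroup F] [Module B F]
  [AddCommGroup M] [Module B M]
  [Module.Free B K] [Module.Finite B K] [Module.Free B F] [Module.Finite B F]
  [Module.Free B M] [Module.Finite B M]

/-- charpoly of a block-triangular endomorphism of a product. -/
theorem charpoly_prod_triangular (α : K →ₗ[B] K) (γ : M →ₗ[B] M) (T : (K × M) →ₗ[B] (K × M))
    (hT1 : ∀ x, T (x, 0) = (α x, 0)) (hT2 : ∀ z, (T z).2 = γ z.2) :
    T.charpoly = α.charpoly * γ.charpoly := by
  classical
  let bK := Module.Free.chooseBasis B K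
  let bM := Module.Free.chooseBasis B M
  let b := bK.prod bM
  have hM : LinearMap.toMatrix b b T = Matrix.fromBlocks (LinearMap.toMatrix bK bK α)
      ((LinearMap.toMatrix b b T).toBlocks₁₂) 0 (LinearMap.toMatrix bM bM γ) := by
    ext i j
    rcases i with i | i <;> rcases j with j | j
    · simp only [Matrix.fromBlocks_apply₁₁, LinearMap.toMatrix_apply]
      have : b (Sum.inl j) = (bK j, 0) := by simp [b]
      rw [this, hT1]
      simp [b]
    · simp [Matrix.toBlocks₁₂]
    · simp only [Matrix.fromBlocks_apply₂₁, LinearMap.toMatrix_apply, Matrix.zero_apply]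
      have : b (Sum.inl j) = (bK j, 0) := by simp [b]
      rw [this, hT1]
      simp [b]
    · simp only [Matrix.fromBlocks_apply₂₂, LinearMap.toMatrix_apply]
      have : b (Sum.inr j) = (0, bM j) := by simp [b]
      have h2 := hT2 (b (Sum.inr j))
      rw [this] at h2 ⊢
      simp only [b, Module.Basis.prod_repr_inr]
      rw [h2]
  rw [← LinearMap.charpoly_toMatrix T b, hM, Matrix.charpoly_fromBlocks_zero₂₁,
    LinearMap.charpoly_toMatrix, LinearMap.charpoly_toMatrix]

/-- (d') multiplicativity of the characteristic polynomial in short exact sequences of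
finite free modules. -/
theorem charpoly_of_exact (ι : K →ₗ[B] F) (π : F →ₗ[B] M) (hι : Injective ι)
    (hπ : Surjective π) (hex : Exact ι π)
    (α : K →ₗ[B] K) (β : F →ₗ[B] F) (γ : M →ₗ[B] M) (h1 : β ∘ₗ ι = ι ∘ₗ α)
    (h2 : π ∘ₗ β = γ ∘ₗ π) :
    β.charpoly = α.charpoly * γ.charpoly := by
  obtain ⟨σ, hσ⟩ := Module.projective_lifting_property π LinearMap.id hπ
  obtain ⟨e, he1, he2⟩ := hex.splitSurjectiveEquiv hι ⟨σ, hσ⟩
  rw [← LinearEquiv.charpoly_conj e β]
  apply charpoly_prod_triangular α γ
  · intro x
    have hx : e.symm (x, 0) = ι x := by rw [he1]; simp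
    have hx' : e (ι (α x)) = (α x, 0) := by rw [he1]; simp
    rw [LinearEquiv.conj_apply_apply, hx]
    have := LinearMap.congr_fun h1 x
    simp only [LinearMap.comp_apply] at this
    rw [this, hx']
  · intro z
    rw [LinearEquiv.conj_apply_apply]
    have h3 : ∀ w, (e w).2 = π w := fun w => by rw [he2]; simp
    rw [h3]
    have := LinearMap.congr_fun h2 (e.symm z)
    simp only [LinearMap.comp_apply] at this
    rw [this, ← h3, LinearEquiv.apply_symm_apply]

end CharpolyExact

section Loc

variable {A : Type*} [CommRing A] (S : Submonoid A)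
  {M N L : Type*} [AddCommGroup M] [Module A M] [AddCommGroup N] [Module A N]
  [AddCommGroup L] [Module A L]

lemma locMap_comp (g : N →ₗ[A] L) (f : M →ₗ[A] N) :
    LocalizedModule.map S (g ∘ₗ f) = LocalizedModule.map S g ∘ₗ LocalizedModule.map S f := by
  ext x
  induction x using LocalizedModule.induction_on with
  | _ m s => simp [LocalizedModule.map_mk]

lemma locMap_eq (f : M →ₗ[A] N) (x : LocalizedModule S M) :
    LocalizedModule.map S f x = IsLocalizedModule.map S (LocalizedModule.mkLinearMap S M)
      (LocalizedModule.mkLinearMap S N) f x := by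
  induction x using LocalizedModule.induction_on with
  | _ m s => rw [LocalizedModule.map_mk, IsLocalizedModule.map_LocalizedModules]

lemma locMap_exact (f : M →ₗ[A] N) (g : N →ₗ[A] L) (h : Function.Exact f g) :
    Function.Exact (LocalizedModule.map S f) (LocalizedModule.map S g) := by
  intro y
  have := LocalizedModule.map_exact S f g h y
  rw [← locMap_eq] at this
  rw [this]
  constructor
  · rintro ⟨x, hx⟩; exact ⟨x, by rw [locMap_eq, hx]⟩
  · rintro ⟨x, hx⟩; exact ⟨x, by rw [← locMap_eq, hx]⟩

/-- (e) the characteristic polynomial commutes with localization. -/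
theorem charpoly_locMap [Module.Free A M] [Module.Finite A M]
    [Module.Free (Localization S) (LocalizedModule S M)]
    [Module.Finite (Localization S) (LocalizedModule S M)] (ψ : M →ₗ[A] M) :
    (LocalizedModule.map S ψ).charpoly = ψ.charpoly.map (algebraMap A (Localization S)) := by
  classical
  let b := Module.Free.chooseBasis A M
  let b' := b.ofIsLocalizedModule (Localization S) S (LocalizedModule.mkLinearMap S M)
  have hM : LinearMap.toMatrix b' b' (LocalizedModule.map S ψ) =
      (LinearMap.toMatrix b b ψ).map (algebraMap A (Localization S)) := by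
    ext i j
    rw [LinearMap.toMatrix_apply, Matrix.map_apply, LinearMap.toMatrix_apply,
      Module.Basis.ofIsLocalizedModule_apply, LocalizedModule.mkLinearMap_apply,
      LocalizedModule.map_mk, ← LocalizedModule.mkLinearMap_apply,
      Module.Basis.ofIsLocalizedModule_repr_apply]
  rw [← LinearMap.charpoly_toMatrix _ b', hM, Matrix.charpoly_map, LinearMap.charpoly_toMatrix]

end Loc

section FreeKer

open Function

/-- (c) in a short exact sequence over a local ring with finite free middle term and free
cokernel, the kernel is finite free. -/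
lemma free_finite_of_exact_of_free {B : Type*} [CommRing B] [IsLocalRing B]
    {K F M : Type*} [AddCommGroup K] [Module B K] [AddCommGroup F] [Module B F]
    [AddCommGroup M] [Module B M] [Module.Free B F] [Module.Finite B F] [Module.Free B M]
    (ι : K →ₗ[B] F) (π : F →ₗ[B] M) (hι : Injective ι) (hπ : Surjective π) (hex : Exact ι π) :
    Module.Free B K ∧ Module.Finite B K := by
  obtain ⟨σ, hσ⟩ := Module.projective_lifting_property π LinearMap.id hπ
  have htfae := (hex.split_tfae hι hπ).out 0 1
  obtain ⟨r, hr⟩ := htfae.mp ⟨σ, hσ⟩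
  have hfin : Module.Finite B K :=
    Module.Finite.of_surjective r (fun x => ⟨ι x, LinearMap.congr_fun hr x⟩)
  have hproj : Module.Projective B K := Module.Projective.of_split ι r hr
  exact ⟨Module.free_of_flat_of_isLocalRing, hfin⟩

end FreeKer

end Groth.Agent.H9.FFR
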