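import Mathlib
import Groth.Prelude.Def_W4c1famcyclesFFR
import Groth.Agent.Lib.Helper9.Misc.FFR1

set_option autoImplicit false
set_option linter.style.haveILetI false
set_option linter.unusedSectionVars false
set_option linter.unusedVariables false

namespace Groth.Agent.H9.FFR

open Polynomial FamCyc

universe u

variable {A : Type u} [CommRing A]

lemma ffr_zero_iff (M : Type u) [AddCommGroup M] [Module A M] :
    HasFiniteFreeResolutionLE A 0 M ↔ Module.Free A M ∧ Module.Finite A M := Iff.rfl

lemma ffr_succ_iff (n : ℕ) (M : Type u) [AddCommGroup M] [Module A M] :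
    HasFiniteFreeResolutionLE A (n + 1) M ↔
      ∃ (k : ℕ) (f : (Fin k → A) →ₗ[A] M), Function.Surjective f ∧
        HasFiniteFreeResolutionLE A n (LinearMap.ker f) := Iff.rfl

lemma finite_of_ffr (n : ℕ) (M : Type u) [AddCommGroup M] [Module A M]
    (h : HasFiniteFreeResolutionLE A n M) : Module.Finite A M := by
  cases n with
  | zero => exact h.2
  | succ n =>
    obtain ⟨k, f, hf, _⟩ := h
    exact Module.Finite.of_surjective f hf

/-- (b) a module with a finite free resolution is free at every annihilator prime. -/
theorem free_at_annPrime (P : Ideal A) [P.IsPrime] (hP : IsAnnPrime P) (n : ℕ) :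
    ∀ (M : Type u) [AddCommGroup M] [Module A M], HasFiniteFreeResolutionLE A n M →
      Module.Free (Localization.AtPrime P) (LocalizedModule P.primeCompl M) ∧
      Module.Finite (Localization.AtPrime P) (LocalizedModule P.primeCompl M) := by
  induction n with
  | zero =>
    intro M _ _ h
    obtain ⟨hfree, hfin⟩ := h
    exact ⟨Module.free_of_isLocalizedModule P.primeCompl
      (LocalizedModule.mkLinearMap P.primeCompl M), inferInstance⟩
  | succ n ih =>
    intro M _ _ h
    obtain ⟨k, f, hf, hK⟩ := h
    obtain ⟨hKfree, hKfin⟩ := ih _ hK
    obtain ⟨s, hs0, hs⟩ := exists_socle P hP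
    have hFfree : Module.Free (Localization.AtPrime P)
        (LocalizedModule P.primeCompl (Fin k → A)) :=
      Module.free_of_isLocalizedModule P.primeCompl
        (LocalizedModule.mkLinearMap P.primeCompl (Fin k → A))
    have hsurj := LocalizedModule.map_surjective P.primeCompl f hf
    have hinj := LocalizedModule.map_injective P.primeCompl (LinearMap.ker f).subtype
      Subtype.val_injective
    have hex := locMap_exact P.primeCompl _ _ (LinearMap.exact_subtype_ker_map f)
    have h1 : Module.Free (Localization.AtPrime P) (LocalizedModule P.primeCompl M) :=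
      free_of_socle (B := Localization.AtPrime P)
        (K := LocalizedModule P.primeCompl (LinearMap.ker f))
        (F := LocalizedModule P.primeCompl (Fin k → A))
        (M := LocalizedModule P.primeCompl M) s hs0 hs
        (LocalizedModule.map P.primeCompl (LinearMap.ker f).subtype)
        (LocalizedModule.map P.primeCompl f) hinj hsurj hex
    exact ⟨h1, Module.Finite.of_surjective _ hsurj⟩

/-- Existence of the characteristic polynomial. -/
theorem exists_charpoly [IsNoetherianRing A] (n : ℕ) :
    ∀ (M : Type u) [AddCommGroup M] [Module A M], HasFiniteFreeResolutionLE A n M →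
      ∀ φ : M →ₗ[A] M, ∃ χ : A[X], χ.Monic ∧
        ∀ (p : Ideal A) [p.IsPrime]
          [Module.Free (Localization.AtPrime p) (LocalizedModule p.primeCompl M)]
          [Module.Finite (Localization.AtPrime p) (LocalizedModule p.primeCompl M)],
          χ.map (algebraMap A (Localization.AtPrime p)) =
            (LocalizedModule.map p.primeCompl φ).charpoly := by
  induction n with
  | zero =>
    intro M _ _ h φ
    obtain ⟨hfree, hfin⟩ := h
    refine ⟨φ.charpoly, LinearMap.charpoly_monic φ, ?_⟩
    intro p _ _ _
    exact (charpoly_locMap p.primeCompl φ).symm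
  | succ n ih =>
    intro M _ _ h φ
    have hM := h
    obtain ⟨k, f, hf, hK⟩ := h
    -- lift φ
    obtain ⟨ψ, hψ⟩ := Module.projective_lifting_property f (φ ∘ₗ f) hf
    have hψK : ∀ x ∈ LinearMap.ker f, ψ x ∈ LinearMap.ker f := by
      intro x hx
      rw [LinearMap.mem_ker] at hx ⊢
      have := LinearMap.congr_fun hψ x
      simp only [LinearMap.comp_apply] at this
      rw [this, hx, map_zero]
    let ψK : ↥(LinearMap.ker f) →ₗ[A] ↥(LinearMap.ker f) := ψ.restrict hψK
    have hcomp1 : ψ ∘ₗ (LinearMap.ker f).subtype = (LinearMap.ker f).subtype ∘ₗ ψK := by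
      ext x; rfl
    obtain ⟨χK, hχKm, hχK⟩ := ih _ hK ψK
    -- key: at primes where M is free
    have key : ∀ (p : Ideal A) [p.IsPrime]
        [Module.Free (Localization.AtPrime p) (LocalizedModule p.primeCompl M)]
        [Module.Finite (Localization.AtPrime p) (LocalizedModule p.primeCompl M)],
        ψ.charpoly.map (algebraMap A (Localization.AtPrime p)) =
          χK.map (algebraMap A (Localization.AtPrime p)) *
            (LocalizedModule.map p.primeCompl φ).charpoly := by
      intro p _ _ _
      have hFfree : Module.Free (Localization.AtPrime p)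
          (LocalizedModule p.primeCompl (Fin k → A)) :=
        Module.free_of_isLocalizedModule p.primeCompl
          (LocalizedModule.mkLinearMap p.primeCompl (Fin k → A))
      have hsurj := LocalizedModule.map_surjective p.primeCompl f hf
      have hinj := LocalizedModule.map_injective p.primeCompl (LinearMap.ker f).subtype
        Subtype.val_injective
      have hex := locMap_exact p.primeCompl _ _ (LinearMap.exact_subtype_ker_map f)
      obtain ⟨hKfree, hKfin⟩ := free_finite_of_exact_of_free (B := Localization.AtPrime p)
        (K := LocalizedModule p.primeCompl (LinearMap.ker f))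
        (F := LocalizedModule p.primeCompl (Fin k → A))
        (M := LocalizedModule p.primeCompl M)
        (LocalizedModule.map p.primeCompl (LinearMap.ker f).subtype)
        (LocalizedModule.map p.primeCompl f) hinj hsurj hex
      rw [hχK p, ← charpoly_locMap p.primeCompl ψ]
      refine charpoly_of_exact (B := Localization.AtPrime p)
        (K := LocalizedModule p.primeCompl (LinearMap.ker f))
        (F := LocalizedModule p.primeCompl (Fin k → A))
        (M := LocalizedModule p.primeCompl M)
        (LocalizedModule.map p.primeCompl (LinearMap.ker f).subtype)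
        (LocalizedModule.map p.primeCompl f) hinj hsurj hex _ _ _ ?_ ?_
      · rw [← locMap_comp, ← locMap_comp, hcomp1]
      · rw [← locMap_comp, ← locMap_comp, hψ]
    -- the remainder vanishes
    have hr : ψ.charpoly %ₘ χK = 0 := by
      ext i
      rw [coeff_zero]
      apply eq_zero_of_forall_annPrime
      intro P _ hP
      obtain ⟨h1, h2⟩ := free_at_annPrime P hP (n + 1) M hM
      rw [← coeff_map, map_modByMonic _ hχKm, key P, mul_comm,
        (modByMonic_eq_zero_iff_dvd (hχKm.map _)).mpr (dvd_mul_left _ _), coeff_zero]
    have hdiv : χK * (ψ.charpoly /ₘ χK) = ψ.charpoly := by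
      have := modByMonic_add_div ψ.charpoly χK
      rw [hr, zero_add] at this
      exact this
    refine ⟨ψ.charpoly /ₘ χK, ?_, ?_⟩
    · have hm : (χK * (ψ.charpoly /ₘ χK)).Monic := by
        rw [hdiv]; exact LinearMap.charpoly_monic ψ
      exact hχKm.of_mul_monic_left hm
    · intro p _ _ _
      have h1 := key p
      rw [← hdiv, Polynomial.map_mul] at h1
      exact (hχKm.map (algebraMap A (Localization.AtPrime p))).isRegular.left h1

theorem S14073_main (A : Type u) [CommRing A] [IsNoetherianRing A]
    (M : Type u) [AddCommGroup M] [Module A M] (n : ℕ)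
    (hM : FamCyc.HasFiniteFreeResolutionLE A n M)
    (φ : M →ₗ[A] M) :
    ∃! a : A, ∀ (p : Ideal A) [p.IsPrime],
      Module.Free (Localization.AtPrime p) (LocalizedModule p.primeCompl M) →
        algebraMap A (Localization.AtPrime p) a =
          LinearMap.det (LocalizedModule.map p.primeCompl φ) := by
  obtain ⟨χ, hχm, hχ⟩ := exists_charpoly n M hM φ
  have hfinM := finite_of_ffr n M hM
  have hex : ∀ (p : Ideal A) [p.IsPrime],
      Module.Free (Localization.AtPrime p) (LocalizedModule p.primeCompl M) →
        algebraMap A (Localization.AtPrime p) ((-1) ^ χ.natDegree * χ.coeff 0) =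
          LinearMap.det (LocalizedModule.map p.primeCompl φ) := by
    intro p _ hfree
    haveI := hfree
    have hrk : Module.finrank (Localization.AtPrime p) (LocalizedModule p.primeCompl M) =
        χ.natDegree := by
      rw [← LinearMap.charpoly_natDegree (LocalizedModule.map p.primeCompl φ), ← hχ p,
        hχm.natDegree_map]
    rw [LinearMap.det_eq_sign_charpoly_coeff, ← hχ p, hrk, coeff_map]
    simp
  refine ⟨(-1) ^ χ.natDegree * χ.coeff 0, hex, ?_⟩
  intro a' ha'
  rw [← sub_eq_zero]
  apply eq_zero_of_forall_annPrime
  intro P _ hP
  obtain ⟨h1, h2⟩ := free_at_annPrime P hP n M hM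
  rw [map_sub, ha' P h1, hex P h1, sub_self]

end Groth.Agent.H9.FFR
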