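import Mathlib

/-!
# Finite group quotients: the Chase–Harrison–Rosenberg criterion, locally (helper9)

`B → R` with `R^G = B` for a finite group `G`.  If for every `g ≠ 1` the ideal `K g` (which contains
all `g • y - y`) contains the image of an element `f g` of `B`, then multiplication by
`∏ f g` on `R` factors through a finite free `B`-module.  Consequently the localization of `R`
away from that element is flat over `B`.
-/

set_option autoImplicit false
set_option linter.style.haveILetI false
set_option linter.unusedSectionVars false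
set_option linter.unusedVariables false

open TensorProduct

namespace Groth.Agent.H9.FGQ

section CHR

variable {B R G : Type*} [CommRing B] [CommRing R] [Algebra B R] [Group G]
  [MulSemiringAction G R] [SMulCommClass G B R]

/-- `μ_g : R ⊗[B] R → R`, `a ⊗ b ↦ a * g • b`. -/
noncomputable def mu (g : G) : R ⊗[B] R →ₐ[B] R :=
  Algebra.TensorProduct.lift (AlgHom.id B R) (MulSemiringAction.toAlgHom B R g)
    (fun _ _ => Commute.all _ _)

@[simp] lemma mu_tmul (g : G) (a b : R) : mu (B := B) g (a ⊗ₜ[B] b) = a * g • b := by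
  simp [mu]

lemma mu_one_surjective : Function.Surjective (mu (B := B) (R := R) (1 : G)) :=
  fun x => ⟨x ⊗ₜ 1, by simp⟩

variable (B) in
/-- the ideal `μ_1 (ker μ_g)` of `R`. -/
noncomputable def K (g : G) : Ideal R :=
  (RingHom.ker (mu (B := B) (R := R) g)).map (mu (B := B) (R := R) (1 : G))

lemma smul_sub_mem_K (g : G) (y : R) : g • y - y ∈ K B g := by
  have he : ((g • y) ⊗ₜ[B] (1 : R) - (1 : R) ⊗ₜ[B] y) ∈ RingHom.ker (mu (B := B) (R := R) g) := by
    rw [RingHom.mem_ker, map_sub, mu_tmul, mu_tmul]
    simp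
  have := Ideal.mem_map_of_mem (mu (B := B) (R := R) (1 : G)) he
  rw [map_sub, mu_tmul, mu_tmul] at this
  unfold K
  simpa using this

lemma exists_of_mem_K {g : G} {z : R} (hz : z ∈ K B g) :
    ∃ e : R ⊗[B] R, mu (B := B) g e = 0 ∧ mu (B := B) (1 : G) e = z := by
  obtain ⟨e, he, hez⟩ := (Ideal.mem_map_iff_of_surjective _ mu_one_surjective).1 hz
  exact ⟨e, (RingHom.mem_ker).1 he, hez⟩

lemma exists_prod [Fintype G] [DecidableEq G] (F : G → R) (hF : ∀ g, g ≠ 1 → F g ∈ K B g) :
    ∃ e : R ⊗[B] R, mu (B := B) (1 : G) e = ∏ g ∈ Finset.univ.erase (1 : G), F g ∧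
      ∀ h : G, h ≠ 1 → mu (B := B) h e = 0 := by
  classical
  have hch : ∀ g : G, ∃ e : R ⊗[B] R, g ≠ 1 → (mu (B := B) g e = 0 ∧ mu (B := B) (1 : G) e = F g) := by
    intro g
    by_cases hg : g = 1
    · exact ⟨0, fun h => absurd hg h⟩
    · obtain ⟨e, he1, he2⟩ := exists_of_mem_K (hF g hg)
      exact ⟨e, fun _ => ⟨he1, he2⟩⟩
  choose E hE using hch
  refine ⟨∏ g ∈ Finset.univ.erase (1 : G), E g, ?_, ?_⟩
  · rw [map_prod]
    refine Finset.prod_congr rfl ?_
    intro g hg
    exact (hE g (Finset.ne_of_mem_erase hg)).2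
  · intro h hh
    rw [map_prod]
    exact Finset.prod_eq_zero (Finset.mem_erase.2 ⟨hh, Finset.mem_univ h⟩) (hE h hh).1

lemma sum_smul_mul_mu [Fintype G] (e : R ⊗[B] R) :
    ∃ S : Finset (R × R), ∀ x : R,
      ∑ h : G, h • x * mu (B := B) h e = ∑ i ∈ S, i.1 * ∑ h : G, h • (i.2 * x) := by
  obtain ⟨S, hS⟩ := TensorProduct.exists_finset e
  refine ⟨S, fun x => ?_⟩
  subst hS
  simp only [map_sum, mu_tmul, Finset.mul_sum]
  rw [Finset.sum_comm]
  refine Finset.sum_congr rfl (fun i _ => Finset.sum_congr rfl (fun h _ => ?_))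
  rw [smul_mul']
  ring

variable [Finite G] [Algebra.IsInvariant B R G]

lemma exists_trace (x : R) : ∃ b : B, algebraMap B R b = ∑ᶠ h : G, h • x := by
  classical
  haveI := Fintype.ofFinite G
  refine Algebra.IsInvariant.isInvariant (A := B) (B := R) (G := G) _ ?_
  intro g
  rw [finsum_eq_sum_of_fintype, Finset.smul_sum]
  simp only [smul_smul]
  exact Fintype.sum_equiv (Equiv.mulLeft g) _ _ (fun h => rfl)

/-- the trace `R → B`. -/
noncomputable def trB (hinj : Function.Injective (algebraMap B R)) : R →ₗ[B] B where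
  toFun x := (exists_trace (B := B) (G := G) x).choose
  map_add' x y := by
    classical
    haveI := Fintype.ofFinite G
    apply hinj
    rw [map_add, (exists_trace (B := B) (G := G) x).choose_spec,
      (exists_trace (B := B) (G := G) y).choose_spec,
      (exists_trace (B := B) (G := G) (x + y)).choose_spec]
    simp only [finsum_eq_sum_of_fintype, smul_add, Finset.sum_add_distrib]
  map_smul' b x := by
    classical
    haveI := Fintype.ofFinite G
    apply hinj
    rw [RingHom.id_apply, smul_eq_mul, map_mul, (exists_trace (B := B) (G := G) x).choose_spec,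
      (exists_trace (B := B) (G := G) (b • x)).choose_spec]
    simp only [finsum_eq_sum_of_fintype, Finset.mul_sum]
    refine Finset.sum_congr rfl (fun h _ => ?_)
    rw [smul_comm, Algebra.smul_def]

lemma algebraMap_trB (hinj : Function.Injective (algebraMap B R)) [Fintype G] (x : R) :
    algebraMap B R (trB (G := G) hinj x) = ∑ h : G, h • x := by
  have := (exists_trace (B := B) (G := G) x).choose_spec
  exact this.trans (finsum_eq_sum_of_fintype _)

/-- **Chase–Harrison–Rosenberg**, local form. -/
theorem chr (hinj : Function.Injective (algebraMap B R)) [Fintype G] [DecidableEq G]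
    (f : G → B) (hf : ∀ g, g ≠ 1 → algebraMap B R (f g) ∈ K B g) :
    ∃ S : Finset (R × R), ∀ x : R,
      (∏ g ∈ Finset.univ.erase (1 : G), f g) • x =
        ∑ i ∈ S, trB (G := G) hinj (i.2 * x) • i.1 := by
  obtain ⟨e, he1, he2⟩ := exists_prod (B := B) (fun g => algebraMap B R (f g)) hf
  obtain ⟨S, hS⟩ := sum_smul_mul_mu (B := B) (G := G) e
  refine ⟨S, fun x => ?_⟩
  have h1 := hS x
  rw [Finset.sum_eq_single (1 : G)] at h1
  · rw [one_smul, he1, ← map_prod] at h1
    rw [Algebra.smul_def, mul_comm, h1]
    refine Finset.sum_congr rfl (fun i _ => ?_)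
    rw [Algebra.smul_def, algebraMap_trB, mul_comm]
  · intro h _ hh
    rw [he2 h hh, mul_zero]
  · intro h
    exact absurd (Finset.mem_univ _) h

end CHR

section Flat

variable {B : Type*} [CommRing B]

/-- If `F • id_M` factors through a flat module, the localization of `M` at `F` is flat. -/
theorem flat_of_factor {M N M' : Type*} [AddCommGroup M] [Module B M] [AddCommGroup N]
    [Module B N] [Module.Flat B N] [AddCommGroup M'] [Module B M']
    (F : B) (φ : M →ₗ[B] N) (ψ : N →ₗ[B] M) (h : ∀ x, ψ (φ x) = F • x)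
    (f : M →ₗ[B] M') [IsLocalizedModule (Submonoid.powers F) f] : Module.Flat B M' := by
  let S := Submonoid.powers F
  let l := LocalizedModule.mkLinearMap S N
  haveI : Module.Flat B (LocalizedModule S N) :=
    Module.Flat.trans B (Localization S) (LocalizedModule S N)
  let i' : M' →ₗ[B] LocalizedModule S N := IsLocalizedModule.map S f l φ
  let r0 : LocalizedModule S N →ₗ[B] M' := IsLocalizedModule.map S l f ψ
  have hu : IsUnit (algebraMap B (Module.End B M') F) :=
    IsLocalizedModule.map_units f ⟨F, Submonoid.mem_powers F⟩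
  let r' : LocalizedModule S N →ₗ[B] M' := (hu.unit⁻¹ : (Module.End B M')ˣ).1 ∘ₗ r0
  refine Module.Flat.of_retract i' r' ?_
  apply IsLocalizedModule.linearMap_ext S f f
  ext x
  simp only [LinearMap.coe_comp, Function.comp_apply, LinearMap.id_comp, r', i', r0]
  rw [IsLocalizedModule.map_apply, IsLocalizedModule.map_apply, h, map_smul]
  have : (hu.unit : Module.End B M') (f x) = F • f x := by
    simp [IsUnit.unit_spec]
  rw [← this]
  change ((hu.unit⁻¹ : (Module.End B M')ˣ).1 * (hu.unit : (Module.End B M')ˣ).1) (f x) = f x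
  rw [Units.inv_mul]
  rfl

theorem flat_away_of_factor {R N : Type*} [CommRing R] [Algebra B R] [AddCommGroup N]
    [Module B N] [Module.Flat B N]
    (F : B) (φ : R →ₗ[B] N) (ψ : N →ₗ[B] R) (h : ∀ x, ψ (φ x) = F • x)
    (S' : Type*) [CommRing S'] [Algebra R S'] [Algebra B S'] [IsScalarTower B R S']
    [IsLocalization.Away (algebraMap B R F) S'] : Module.Flat B S' := by
  haveI : IsLocalization (Algebra.algebraMapSubmonoid R (Submonoid.powers F)) S' := by
    rw [Algebra.algebraMapSubmonoid, Submonoid.map_powers]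
    infer_instance
  exact flat_of_factor F φ ψ h (IsScalarTower.toAlgHom B R S').toLinearMap

end Flat

end Groth.Agent.H9.FGQ
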