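import Mathlib
import Groth.Agent.Lib.Helper9.Misc.FGQ1

/-!
# Finite group quotients at a point with trivial stabilizer (helper9)
-/

set_option autoImplicit false
set_option linter.style.haveILetI false
set_option linter.unusedSectionVars false
set_option linter.unusedVariables false

open TensorProduct
open scoped Pointwise

namespace Groth.Agent.H9.FGQ

section

variable {B R G : Type*} [CommRing B] [CommRing R] [Algebra B R] [Group G] [Finite G]
  [MulSemiringAction G R] [SMulCommClass G B R] [Algebra.IsInvariant B R G]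

lemma exists_norm (z : R) : ∃ b : B, algebraMap B R b = ∏ᶠ h : G, h • z := by
  classical
  haveI := Fintype.ofFinite G
  refine Algebra.IsInvariant.isInvariant (A := B) (B := R) (G := G) _ ?_
  intro g
  rw [finprod_eq_prod_of_fintype, Finset.smul_prod']
  simp only [smul_smul]
  exact Fintype.prod_equiv (Equiv.mulLeft g) _ _ (fun h => rfl)

variable (m : Ideal R) [hm : m.IsMaximal]

lemma not_le_smul_of_ne {σ : G} (hσ : σ • m ≠ m) : ¬ (m ≤ σ • m) := by
  intro hle
  have hne : σ • m ≠ ⊤ := (Ideal.IsPrime.smul σ).ne_top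
  exact hσ (hm.eq_of_le hne hle).symm

lemma smul_ne_of_stab (hstab : ∀ g : G, g ≠ 1 → g • m ≠ m) {g h : G} (hgh : g ≠ h) :
    g • m ≠ h • m := by
  intro heq
  have : (h⁻¹ * g) • m = m := by
    rw [mul_smul, heq, inv_smul_smul]
  refine hstab (h⁻¹ * g) ?_ this
  intro h1
  apply hgh
  have := congrArg (fun t => h * t) h1
  simpa using this

include hm in
lemma isMaximal_smul (g : G) : (g • m).IsMaximal := by
  rw [Ideal.isMaximal_def]
  refine ⟨(Ideal.IsPrime.smul g).ne_top, ?_⟩
  intro J hJ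
  have h1 : m < g⁻¹ • J := by
    rw [lt_iff_le_and_ne] at hJ ⊢
    refine ⟨?_, ?_⟩
    · rw [← Ideal.pointwise_smul_subset_iff]; exact hJ.1
    · intro h
      apply hJ.2
      rw [h, smul_inv_smul]
  have := hm.1.2 _ h1
  rw [← smul_inv_smul g J, this]
  ext x
  simp [Ideal.mem_pointwise_smul_iff_inv_smul_mem]

/-- Step 1: for `g ≠ 1` the ideal `K B g` contains the image of an element of `B` outside `m`. -/
lemma exists_mem_K_not_mem (hstab : ∀ g : G, g ≠ 1 → g • m ≠ m) (g : G) (hg : g ≠ 1) :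
    ∃ f : B, algebraMap B R f ∈ K B g ∧ algebraMap B R f ∉ m := by
  classical
  haveI := Fintype.ofFinite G
  -- `K B g` is not contained in any translate of `m`
  have hnot : ∀ h : G, ¬ (K B g ≤ h • m) := by
    intro h hle
    set σ := h⁻¹ * g * h with hσ
    have hσ1 : σ ≠ 1 := by
      intro h1
      apply hg
      have := congrArg (fun t => h * t * h⁻¹) h1
      simpa [hσ, mul_assoc] using this
    have hσm : σ⁻¹ • m ≠ m := by
      intro h2
      apply hstab σ hσ1
      rw [← h2, smul_inv_smul]; exact h2.symm ▸ rfl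
    obtain ⟨v, hvm, hv⟩ := SetLike.not_le_iff_exists.1 (not_le_smul_of_ne m hσm)
    -- `v ∈ m`, `σ • v ∉ m`
    have hv' : σ • v ∉ m := by
      intro h3
      apply hv
      rw [Ideal.mem_inv_pointwise_smul_iff]; exact h3
    have hmem : g • (h • v) - h • v ∈ h • m := hle (smul_sub_mem_K (B := B) g (h • v))
    rw [Ideal.mem_pointwise_smul_iff_inv_smul_mem, smul_sub, inv_smul_smul, smul_smul,
      smul_smul] at hmem
    have : σ • v ∈ m := by
      have := m.add_mem hmem hvm
      rw [sub_add_cancel] at this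
      rw [hσ]; exact this
    exact hv' this
  -- prime avoidance
  have hunion : ¬ (((K B g : Ideal R) : Set R) ⊆ ⋃ h ∈ ((Finset.univ : Finset G) : Set G), ((h • m : Ideal R) : Set R)) := by
    intro hsub
    obtain ⟨h, _, hle⟩ := (Ideal.subset_union_prime (s := (Finset.univ : Finset G))
      (f := fun h => h • m) (1 : G) (1 : G) (fun h _ _ _ => Ideal.IsPrime.smul h)).1 hsub
    exact hnot h hle
  obtain ⟨z, hzK, hz⟩ := Set.not_subset.1 hunion
  have hz' : ∀ h : G, z ∉ h • m := by
    intro h hh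
    apply hz
    simp only [Finset.coe_univ, Set.mem_univ, Set.iUnion_true, Set.mem_iUnion, SetLike.mem_coe]
    exact ⟨h, hh⟩
  obtain ⟨f, hf⟩ := exists_norm (B := B) (G := G) z
  rw [finprod_eq_prod_of_fintype] at hf
  refine ⟨f, ?_, ?_⟩
  · rw [hf, ← Finset.mul_prod_erase Finset.univ _ (Finset.mem_univ (1 : G)), one_smul]
    exact Ideal.mul_mem_right _ _ hzK
  · rw [hf]
    intro hmem
    obtain ⟨h, _, hh⟩ := (Ideal.IsPrime.prod_mem_iff (hp := hm.isPrime)).1 hmem
    apply hz' h⁻¹
    rw [Ideal.mem_inv_pointwise_smul_iff]; exact hh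

/-- Step 2: flatness near `m`. -/
theorem exists_flat_away (hinj : Function.Injective (algebraMap B R))
    (hstab : ∀ g : G, g ≠ 1 → g • m ≠ m) :
    ∃ F : B, algebraMap B R F ∉ m ∧
      ∀ (S' : Type _) [CommRing S'] [Algebra R S'] [Algebra B S'] [IsScalarTower B R S']
        [IsLocalization.Away (algebraMap B R F) S'], Module.Flat B S' := by
  classical
  haveI := Fintype.ofFinite G
  have hch : ∀ g : G, ∃ f : B, g ≠ 1 → (algebraMap B R f ∈ K B g ∧ algebraMap B R f ∉ m) := by
    intro g
    by_cases hg : g = 1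
    · exact ⟨0, fun h => absurd hg h⟩
    · obtain ⟨f, h1, h2⟩ := exists_mem_K_not_mem (B := B) m hstab g hg
      exact ⟨f, fun _ => ⟨h1, h2⟩⟩
  choose f hf using hch
  obtain ⟨S, hS⟩ := chr (G := G) hinj f (fun g hg => (hf g hg).1)
  set F : B := ∏ g ∈ Finset.univ.erase (1 : G), f g with hF
  refine ⟨F, ?_, ?_⟩
  · rw [hF, map_prod]
    intro hmem
    obtain ⟨g, hg, hh⟩ := (Ideal.IsPrime.prod_mem_iff (hp := hm.isPrime)).1 hmem
    exact (hf g (Finset.ne_of_mem_erase hg)).2 hh
  · intro S' _ _ _ _ _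
    let φ : R →ₗ[B] (S → B) := LinearMap.pi (fun i => trB (G := G) hinj ∘ₗ LinearMap.mulLeft B i.1.2)
    let ψ : (S → B) →ₗ[B] R := ∑ i : S, (LinearMap.toSpanSingleton B R i.1.1) ∘ₗ LinearMap.proj i
    refine flat_away_of_factor F φ ψ ?_ S'
    intro x
    rw [hS x]
    simp only [ψ, φ, LinearMap.coe_sum, Finset.sum_apply, LinearMap.coe_comp, Function.comp_apply,
      LinearMap.proj_apply, LinearMap.pi_apply, LinearMap.mulLeft_apply,
      LinearMap.toSpanSingleton_apply]
    rw [← Finset.sum_coe_sort S (fun i => (trB (G := G) hinj (i.2 * x)) • i.1)]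

end

end Groth.Agent.H9.FGQ
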