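import Mathlib
import Groth.Agent.Lib.Helper9.Misc.FGQ2

/-!
# Finite group quotients: ramification at a point (helper9)
-/

set_option autoImplicit false
set_option linter.style.haveILetI false
set_option linter.unusedSectionVars false
set_option linter.unusedVariables false

open TensorProduct Function
open scoped Pointwise

namespace Groth.Agent.H9.FGQ

section

variable {B R G : Type*} [CommRing B] [CommRing R] [Algebra B R] [Group G] [Finite G]
  [MulSemiringAction G R] [SMulCommClass G B R] [Algebra.IsInvariant B R G]

variable (m : Ideal R) [hm : m.IsMaximal]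

/-- Step 3: if the stabilizer of `m` is trivial then `n R_m = m R_m`. -/
theorem map_under_eq_maximalIdeal [IsNoetherianRing R]
    (hstab : ∀ g : G, g ≠ 1 → g • m ≠ m) :
    (m.under B).map (algebraMap B (Localization.AtPrime m)) =
      IsLocalRing.maximalIdeal (Localization.AtPrime m) := by
  classical
  haveI := Fintype.ofFinite G
  set Rm := Localization.AtPrime m with hRm
  have hmax : m.map (algebraMap R Rm) = IsLocalRing.maximalIdeal Rm :=
    Localization.AtPrime.map_eq_maximalIdeal
  apply le_antisymm
  · rw [Ideal.map_le_iff_le_comap]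
    intro b hb
    rw [Ideal.mem_comap, IsScalarTower.algebraMap_apply B R Rm, ← hmax]
    exact Ideal.mem_map_of_mem _ hb
  · have hfg : (IsLocalRing.maximalIdeal Rm).FG := IsNoetherian.noetherian _
    have key : ∀ x ∈ m, algebraMap R Rm x ∈
        (m.under B).map (algebraMap B Rm) ⊔
          IsLocalRing.maximalIdeal Rm • IsLocalRing.maximalIdeal Rm := by
      intro x hx
      let I : G → Ideal R := fun g => if g = 1 then m ^ 2 else g • m
      have hcopm : ∀ g : G, g ≠ 1 → IsCoprime m (g • m) := by
        intro g hg
        haveI := isMaximal_smul m g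
        exact Ideal.isCoprime_iff_sup_eq.2
          (Ideal.IsMaximal.coprime_of_ne hm (isMaximal_smul m g) (hstab g hg).symm)
      have hcop : Pairwise (IsCoprime on I) := by
        intro g h hgh
        simp only [Function.onFun, I]
        by_cases hg : g = 1
        · have hh : h ≠ 1 := fun h1 => hgh (hg.trans h1.symm)
          rw [if_pos hg, if_neg hh]
          exact (hcopm h hh).pow_left
        · by_cases hh : h = 1
          · rw [if_neg hg, if_pos hh]
            exact (hcopm g hg).symm.pow_right
          · rw [if_neg hg, if_neg hh]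
            exact Ideal.isCoprime_iff_sup_eq.2
              (Ideal.IsMaximal.coprime_of_ne (isMaximal_smul m g) (isMaximal_smul m h)
                (smul_ne_of_stab m hstab hgh))
      obtain ⟨y, hy⟩ := Ideal.exists_forall_sub_mem_ideal hcop (fun g => if g = 1 then x else 1)
      have hy1 : y - x ∈ m ^ 2 := by
        have := hy 1
        simpa [I] using this
      have hyg : ∀ g : G, g ≠ 1 → y - 1 ∈ g • m := by
        intro g hg
        have := hy g
        simpa [I, hg] using this
      have ym : y ∈ m := by
        have h1 : y - x ∈ m := Ideal.pow_le_self two_ne_zero hy1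
        have := m.add_mem h1 hx
        rwa [sub_add_cancel] at this
      obtain ⟨b, hb⟩ := exists_norm (B := B) (G := G) y
      rw [finprod_eq_prod_of_fintype] at hb
      set u : R := ∏ g ∈ Finset.univ.erase (1 : G), g • y with hu
      have hb' : algebraMap B R b = y * u := by
        rw [hb, ← Finset.mul_prod_erase Finset.univ _ (Finset.mem_univ (1 : G)), one_smul]
      have hum : u ∉ m := by
        intro hmem
        obtain ⟨g, hg, hh⟩ := (Ideal.IsPrime.prod_mem_iff (hp := hm.isPrime)).1 hmem
        have hg1 : g ≠ 1 := Finset.ne_of_mem_erase hg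
        have hg1' : g⁻¹ ≠ 1 := by
          intro h; apply hg1; simpa using h
        have h1 : y ∈ g⁻¹ • m := by
          rw [Ideal.mem_inv_pointwise_smul_iff]; exact hh
        have h2 := (g⁻¹ • m).sub_mem h1 (hyg g⁻¹ hg1')
        rw [sub_sub_cancel] at h2
        exact (Ideal.IsPrime.smul (I := m) g⁻¹).ne_top ((Ideal.eq_top_iff_one _).2 h2)
      have hbn : b ∈ m.under B := by
        rw [Ideal.under_def, Ideal.mem_comap, hb']
        exact Ideal.mul_mem_right _ _ ym
      have hunit : IsUnit (algebraMap R Rm u) :=
        IsLocalization.map_units Rm (⟨u, hum⟩ : m.primeCompl)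
      have h1 : algebraMap R Rm y ∈ (m.under B).map (algebraMap B Rm) := by
        have e : algebraMap R Rm y * algebraMap R Rm u = algebraMap B Rm b := by
          rw [← map_mul, ← hb', ← IsScalarTower.algebraMap_apply]
        rw [← Ideal.mul_unit_mem_iff_mem _ hunit, e]
        exact Ideal.mem_map_of_mem _ hbn
      have h2 : algebraMap R Rm (x - y) ∈
          IsLocalRing.maximalIdeal Rm • IsLocalRing.maximalIdeal Rm := by
        rw [smul_eq_mul, ← pow_two, ← hmax, ← Ideal.map_pow]
        apply Ideal.mem_map_of_mem
        have := (m ^ 2).neg_mem hy1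
        rwa [neg_sub] at this
      have : algebraMap R Rm x = algebraMap R Rm y + algebraMap R Rm (x - y) := by
        rw [← map_add]; congr 1; ring
      rw [this]
      exact Submodule.add_mem_sup h1 h2
    refine Submodule.le_of_le_smul_of_le_jacobson_bot hfg
      (I := IsLocalRing.maximalIdeal Rm) ?_ ?_
    · rw [IsLocalRing.jacobson_eq_maximalIdeal ⊥ bot_ne_top]
    · calc IsLocalRing.maximalIdeal Rm = m.map (algebraMap R Rm) := hmax.symm
        _ ≤ (m.under B).map (algebraMap B Rm) ⊔
            IsLocalRing.maximalIdeal Rm • IsLocalRing.maximalIdeal Rm :=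
          Ideal.map_le_iff_le_comap.2 (fun x hx => Ideal.mem_comap.2 (key x hx))

/-- Step 4: if `n R_m = m R_m` and `B → R/m` is surjective, the stabilizer of `m` acts trivially. -/
theorem smul_eq_of_map_eq [IsDomain R] [IsNoetherianRing R]
    (hres : ∀ x : R, ∃ b : B, x - algebraMap B R b ∈ m)
    (hmap : (m.under B).map (algebraMap B (Localization.AtPrime m)) =
      IsLocalRing.maximalIdeal (Localization.AtPrime m))
    (g : G) (hg : g • m = m) (x : R) : g • x = x := by
  set Rm := Localization.AtPrime m with hRm
  set M := IsLocalRing.maximalIdeal Rm with hM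
  have hmax : m.map (algebraMap R Rm) = M := Localization.AtPrime.map_eq_maximalIdeal
  have hinj : Function.Injective (algebraMap R Rm) :=
    IsLocalization.injective Rm (Ideal.primeCompl_le_nonZeroDivisors m)
  have hgm : ∀ s : R, s ∉ m → g • s ∉ m := by
    intro s hs h
    rw [← hg] at h
    exact hs (Ideal.smul_mem_pointwise_smul_iff.1 h)
  have hgm' : ∀ y ∈ m, g • y ∈ m := by
    intro y hy
    have := Ideal.smul_mem_pointwise_smul g y m hy
    rwa [hg] at this
  have hιm : ∀ y ∈ m, algebraMap R Rm y ∈ M := by
    intro y hy
    rw [← hmax]; exact Ideal.mem_map_of_mem _ hy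
  set J : Ideal R := (m.under B).map (algebraMap B R) with hJ
  have hJm : J ≤ m := Ideal.map_comap_le
  have hJmap : J.map (algebraMap R Rm) = M := by
    rw [hJ, Ideal.map_map, ← IsScalarTower.algebraMap_eq, hmap]
  have key : ∀ j : ℕ, ∀ x : R, algebraMap R Rm (g • x - x) ∈ M ^ j := by
    intro j
    induction j with
    | zero => intro x; rw [pow_zero, Ideal.one_eq_top]; trivial
    | succ j ih =>
      -- elements of J
      have hJ1 : ∀ c ∈ J, algebraMap R Rm (g • c - c) ∈ M ^ (j + 1) := by
        intro c hc
        rw [hJ, Ideal.map] at hc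
        induction hc using Submodule.span_induction with
        | mem c hc =>
          obtain ⟨b, _, rfl⟩ := hc
          rw [smul_algebraMap, sub_self, map_zero]; exact zero_mem _
        | zero => rw [smul_zero, sub_self, map_zero]; exact zero_mem _
        | add a b ha hb iha ihb =>
          have : g • (a + b) - (a + b) = (g • a - a) + (g • b - b) := by
            rw [smul_add]; ring
          rw [this, map_add]; exact Ideal.add_mem _ iha ihb
        | smul r c hc ihc =>
          have hcm : c ∈ m := hJm (by rw [hJ, Ideal.map]; exact hc)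
          have : g • (r • c) - r • c = g • r * (g • c - c) + (g • r - r) * c := by
            rw [smul_eq_mul, smul_mul']; ring
          rw [this, map_add, map_mul, map_mul]
          refine Ideal.add_mem _ (Ideal.mul_mem_left _ _ ihc) ?_
          rw [pow_succ]
          exact Ideal.mul_mem_mul (ih r) (hιm c hcm)
      have hm1 : ∀ y ∈ m, algebraMap R Rm (g • y - y) ∈ M ^ (j + 1) := by
        intro y hy
        have hyM : algebraMap R Rm y ∈ J.map (algebraMap R Rm) := by
          rw [hJmap]; exact hιm y hy
        obtain ⟨⟨⟨c, hc⟩, ⟨s, hs⟩⟩, hcs⟩ :=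
          (IsLocalization.mem_map_algebraMap_iff m.primeCompl Rm).1 hyM
        simp only at hcs
        have hys : y * s = c := by
          apply hinj; rw [map_mul]; exact hcs
        have e1 : g • s * (g • y - y) = (g • (y * s) - y * s) - (g • s - s) * y := by
          rw [smul_mul']; ring
        have h1 : algebraMap R Rm (g • s * (g • y - y)) ∈ M ^ (j + 1) := by
          rw [e1, map_sub]
          refine Ideal.sub_mem _ ?_ ?_
          · rw [hys]; exact hJ1 c hc
          · rw [map_mul, pow_succ]
            exact Ideal.mul_mem_mul (ih s) (hιm y hy)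
        rw [map_mul] at h1
        have hunit : IsUnit (algebraMap R Rm (g • s)) :=
          IsLocalization.map_units Rm (⟨g • s, hgm s hs⟩ : m.primeCompl)
        exact (Ideal.unit_mul_mem_iff_mem _ hunit).1 h1
      intro x
      obtain ⟨b, hb⟩ := hres x
      have : g • x - x = g • (x - algebraMap B R b) - (x - algebraMap B R b) := by
        rw [smul_sub, smul_algebraMap]; ring
      rw [this]
      exact hm1 _ hb
  have hzero : algebraMap R Rm (g • x - x) = 0 := by
    have hbot : (⨅ j : ℕ, M ^ j) = ⊥ :=
      Ideal.iInf_pow_eq_bot_of_isLocalRing M (IsLocalRing.maximalIdeal.isMaximal Rm).ne_top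
    have : algebraMap R Rm (g • x - x) ∈ (⨅ j : ℕ, M ^ j) := by
      rw [Ideal.mem_iInf]; intro j; exact key j x
    rw [hbot] at this
    exact this
  have := hinj (hzero.trans (map_zero _).symm)
  exact sub_eq_zero.1 this

end

end Groth.Agent.H9.FGQ
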