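import Mathlib
import Groth.Agent.Lib.Helper9.Misc.FGQ3

/-!
# Quotient of a variety by a finite group is étale exactly at points with trivial stabilizer
(helper9)
-/

set_option autoImplicit false
set_option linter.style.haveILetI false
set_option linter.unusedSectionVars false
set_option linter.unusedVariables false

open TensorProduct Function
open scoped Pointwise

universe u v w

namespace Groth.Agent.H9.FGQ

/-- assembling flatness and unramifiedness near `m` into étaleness at `m`. -/
theorem isEtaleAt_of_flat_of_unramified {B R : Type*} [CommRing B] [CommRing R] [Algebra B R]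
    [Algebra.FinitePresentation B R] (m : Ideal R) [m.IsPrime]
    (hunr : Algebra.IsUnramifiedAt B m)
    (F : R) (hF : F ∉ m) (hflat : Module.Flat B (Localization.Away F)) :
    Algebra.IsEtaleAt B m := by
  obtain ⟨f1, hf1, hunr1⟩ := Algebra.exists_formallyUnramified_of_isUnramifiedAt (R := B) m
  -- unramified on `D(F * f1)`
  have hsub : (PrimeSpectrum.basicOpen (F * f1) : Set (PrimeSpectrum R)) ⊆
      Algebra.unramifiedLocus B R := by
    refine subset_trans ?_ (Algebra.basicOpen_subset_unramifiedLocus_iff.2 hunr1)
    rw [PrimeSpectrum.basicOpen_mul]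
    exact Set.inter_subset_right
  haveI hunr2 : Algebra.FormallyUnramified B (Localization.Away (F * f1)) :=
    Algebra.basicOpen_subset_unramifiedLocus_iff.1 hsub
  -- flat on `D(F * f1)`
  let R1 := Localization.Away F
  let R2 := Localization.Away (algebraMap R R1 f1)
  haveI : IsLocalization.Away (F * f1) R2 := inferInstance
  haveI : Module.Flat R1 R2 := IsLocalization.flat R2 (Submonoid.powers (algebraMap R R1 f1))
  haveI : Module.Flat B R2 := Module.Flat.trans B R1 R2
  let e : Localization.Away (F * f1) ≃ₐ[R] R2 :=
    IsLocalization.algEquiv (Submonoid.powers (F * f1)) _ _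
  haveI : Module.Flat B (Localization.Away (F * f1)) :=
    Module.Flat.of_linearEquiv (e.restrictScalars B).toLinearEquiv
  haveI : Algebra.Etale B (Localization.Away (F * f1)) :=
    Algebra.Etale.of_formallyUnramified_of_flat
  have hsub2 : (PrimeSpectrum.basicOpen (F * f1) : Set (PrimeSpectrum R)) ⊆
      Algebra.etaleLocus B R :=
    Algebra.basicOpen_subset_etaleLocus_iff.2 inferInstance
  have hmem : (⟨m, inferInstance⟩ : PrimeSpectrum R) ∈
      (PrimeSpectrum.basicOpen (F * f1) : Set (PrimeSpectrum R)) := by
    rw [SetLike.mem_coe, PrimeSpectrum.mem_basicOpen]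
    intro hmul
    rcases (Ideal.IsPrime.mul_mem_iff_mem_or_mem (I := m) inferInstance).1 hmul with h | h
    · exact hF h
    · exact hf1 h
  exact hsub2 hmem

theorem isEtaleAt_iff_stabilizer (k : Type u) [Field k] [IsAlgClosed k] [CharZero k]
    (R : Type v) [CommRing R] [IsDomain R] [Algebra k R] [Algebra.FiniteType k R]
    (G : Type w) [Group G] [Finite G] [MulSemiringAction G R] [FaithfulSMul G R]
    (B : Type v) [CommRing B] [Algebra k B] [Algebra B R] [IsScalarTower k B R] [FaithfulSMul B R]
    [SMulCommClass G B R] [Algebra.IsInvariant B R G]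
    (m : Ideal R) [hm : m.IsMaximal] :
    Algebra.IsEtaleAt B m ↔ MulAction.stabilizer G m = ⊥ := by
  have hinj : Function.Injective (algebraMap B R) := FaithfulSMul.algebraMap_injective B R
  haveI hint : Algebra.IsIntegral B R := Algebra.IsInvariant.isIntegral B R G
  haveI hftBR : Algebra.FiniteType B R := Algebra.FiniteType.of_restrictScalars_finiteType k B R
  haveI hfin : Module.Finite B R := Algebra.IsIntegral.finite
  haveI hNk : IsNoetherianRing k := inferInstance
  haveI hBft : Algebra.FiniteType k B :=
    ⟨fg_of_fg_of_fg k B R (Algebra.FiniteType.out) (Module.Finite.fg_top) hinj⟩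
  haveI hNB : IsNoetherianRing B := Algebra.FiniteType.isNoetherianRing k B
  haveI hNR : IsNoetherianRing R := Algebra.FiniteType.isNoetherianRing k R
  haveI hfp : Algebra.FinitePresentation B R := Algebra.FinitePresentation.of_finiteType.1 hftBR
  -- residue field
  have hres : ∀ x : R, ∃ b : B, x - algebraMap B R b ∈ m := by
    intro x
    letI := Ideal.Quotient.field m
    haveI : Algebra.FiniteType k (R ⧸ m) := inferInstance
    haveI : Module.Finite k (R ⧸ m) := finite_of_finite_type_of_isJacobsonRing k (R ⧸ m)
    have hs : Function.Surjective (algebraMap k (R ⧸ m)) :=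
      (IsAlgClosed.algebraMap_bijective_of_isIntegral (k := k) (K := R ⧸ m)).2
    obtain ⟨c, hc⟩ := hs (Ideal.Quotient.mk m x)
    refine ⟨algebraMap k B c, ?_⟩
    rw [← IsScalarTower.algebraMap_apply, ← Ideal.Quotient.eq, ← hc]
    rfl
  -- the local algebra structure
  letI := Localization.AtPrime.algebraOfLiesOver (m.under B) m
  haveI : Algebra.IsSeparable (m.under B).ResidueField m.ResidueField := by
    haveI : CharZero (m.under B).ResidueField :=
      charZero_of_injective_algebraMap (algebraMap k (m.under B).ResidueField).injective
    exact Algebra.IsAlgebraic.isSeparable_of_perfectField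
  constructor
  · intro h
    haveI : Algebra.IsUnramifiedAt B m := by
      have : Algebra.FormallyEtale B (Localization.AtPrime m) := h
      exact (inferInstance : Algebra.FormallyUnramified B (Localization.AtPrime m))
    have hmap := ((Algebra.isUnramifiedAt_iff_map_eq B (m.under B) m).1 inferInstance).2
    rw [eq_bot_iff]
    intro g hg
    rw [MulAction.mem_stabilizer_iff] at hg
    rw [Subgroup.mem_bot]
    apply FaithfulSMul.eq_of_smul_eq_smul (α := R)
    intro x
    rw [one_smul]
    exact smul_eq_of_map_eq (B := B) m hres hmap g hg x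
  · intro h
    have hstab : ∀ g : G, g ≠ 1 → g • m ≠ m := by
      intro g hg hgm
      apply hg
      have : g ∈ MulAction.stabilizer G m := MulAction.mem_stabilizer_iff.2 hgm
      rw [h, Subgroup.mem_bot] at this
      exact this
    have hmap := map_under_eq_maximalIdeal (B := B) m hstab
    have hunr : Algebra.IsUnramifiedAt B m :=
      (Algebra.isUnramifiedAt_iff_map_eq B (m.under B) m).2 ⟨inferInstance, hmap⟩
    obtain ⟨F, hF, hflat⟩ := exists_flat_away (B := B) m hinj hstab
    exact isEtaleAt_of_flat_of_unramified m hunr (algebraMap B R F) hF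
      (hflat (Localization.Away (algebraMap B R F)))

end Groth.Agent.H9.FGQ
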