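import Mathlib
import Groth.Agent.Lib.Helper9.Misc.MDQ1

/-!
# Colimits of Hom-sets in a localization with right calculus of fractions: formal part
-/

set_option autoImplicit false

universe v₁ v₂ u₁ u₂ w

open CategoryTheory Limits

namespace Groth.Agent.H9.FIN

variable {C : Type u₁} [Category.{v₁} C] {D : Type u₂} [Category.{v₂} D]
variable (W : MorphismProperty C) [W.HasRightCalculusOfFractions] (L : C ⥤ D) [L.IsLocalization W]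

include W in
/-- a fraction representing a morphism over `S` can be refined to a fraction over `S`. -/
theorem exists_refine {S X Y X' : C} (x : X ⟶ S) (y : Y ⟶ S) (φ : L.obj X ⟶ L.obj Y)
    (hφ : φ ≫ L.map y = L.map x) (s : X' ⟶ X) (f : X' ⟶ Y) (hf : L.map s ≫ φ = L.map f) :
    ∃ (Z : C) (t : Z ⟶ X') (_ : W t), (t ≫ f) ≫ y = (t ≫ s) ≫ x := by
  have h1 : L.map (f ≫ y) = L.map (s ≫ x) := by
    rw [L.map_comp, L.map_comp, ← hf, Category.assoc, hφ]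
  obtain ⟨Z, t, ht, h2⟩ := (MorphismProperty.map_eq_iff_precomp L W (f ≫ y) (s ≫ x)).mp h1
  exact ⟨Z, t, ht, by rw [Category.assoc, Category.assoc, h2]⟩

include W in
theorem surj_of_geom {S X Y : C} (x : X ⟶ S) (y : Y ⟶ S) {ι : Type w} (Xi : ι → C)
    (xi : ∀ i, Xi i ⟶ S) (π : ∀ i, X ⟶ Xi i)
    (geom : ∀ (X' : C) (s : X' ⟶ X) (_ : W s) (f : X' ⟶ Y), f ≫ y = s ≫ x →
      ∃ (i : ι) (Mi : C) (r : Mi ⟶ Xi i) (_ : W r) (fi : Mi ⟶ Y) (g : X' ⟶ Mi),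
        fi ≫ y = r ≫ xi i ∧ g ≫ r = s ≫ π i ∧ g ≫ fi = f)
    (φ : L.obj X ⟶ L.obj Y) (hφ : φ ≫ L.map y = L.map x) :
    ∃ (i : ι) (φi : L.obj (Xi i) ⟶ L.obj Y),
      φi ≫ L.map y = L.map (xi i) ∧ L.map (π i) ≫ φi = φ := by
  obtain ⟨X', s, hs, f, -, hf, -⟩ := Groth.Agent.H9.MDQ.exists_common_rightFraction W L φ φ
  obtain ⟨Z, t, ht, h1⟩ := exists_refine W L x y φ hφ s f hf
  have hs' : W (t ≫ s) := W.comp_mem _ _ ht hs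
  have hf' : L.map (t ≫ s) ≫ φ = L.map (t ≫ f) := by
    rw [L.map_comp, Category.assoc, hf, ← L.map_comp]
  obtain ⟨i, Mi, r, hr, fi, g, e1, e2, e3⟩ := geom Z (t ≫ s) hs' (t ≫ f) h1
  haveI : IsIso (L.map r) := Localization.inverts L W r hr
  haveI : IsIso (L.map (t ≫ s)) := Localization.inverts L W _ hs'
  refine ⟨i, inv (L.map r) ≫ L.map fi, ?_, ?_⟩
  · rw [Category.assoc, ← L.map_comp, e1, L.map_comp, IsIso.inv_hom_id_assoc]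
  · rw [← cancel_epi (L.map (t ≫ s)), hf', ← Category.assoc, ← L.map_comp, ← e2, L.map_comp,
      Category.assoc, IsIso.hom_inv_id_assoc, ← L.map_comp, e3]

include W in
theorem inj_of_geom {S Y Xi X : C} (y : Y ⟶ S) (xi : Xi ⟶ S) (π : X ⟶ Xi) {ι : Type w}
    (Xj : ι → C) (tj : ∀ j, Xj j ⟶ Xi)
    (hepi : ∀ {A B Z : C} (t : Z ⟶ A) (_ : W t) (a b : A ⟶ B), t ≫ a = t ≫ b → a = b)
    (geom : ∀ (X' : C) (s : X' ⟶ Xi) (_ : W s) (f₁ f₂ : X' ⟶ Y), f₁ ≫ y = s ≫ xi →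
      f₂ ≫ y = s ≫ xi →
      ∃ (ML : C) (rL : ML ⟶ X) (_ : W rL) (qL : ML ⟶ X'), rL ≫ π = qL ≫ s ∧
        (qL ≫ f₁ = qL ≫ f₂ → ∃ (j : ι) (Mj : C) (rj : Mj ⟶ Xj j) (_ : W rj) (qj : Mj ⟶ X'),
          rj ≫ tj j = qj ≫ s ∧ qj ≫ f₁ = qj ≫ f₂))
    (φ ψ : L.obj Xi ⟶ L.obj Y) (hφ : φ ≫ L.map y = L.map xi) (hψ : ψ ≫ L.map y = L.map xi)
    (h : L.map π ≫ φ = L.map π ≫ ψ) : ∃ j, L.map (tj j) ≫ φ = L.map (tj j) ≫ ψ := by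
  obtain ⟨X₀, s₀, hs₀, f₀, g₀, hf₀, hg₀⟩ :=
    Groth.Agent.H9.MDQ.exists_common_rightFraction W L φ ψ
  obtain ⟨Z₁, t₁, ht₁, h1⟩ := exists_refine W L xi y φ hφ s₀ f₀ hf₀
  have hs₁ : W (t₁ ≫ s₀) := W.comp_mem _ _ ht₁ hs₀
  have hf₁ : L.map (t₁ ≫ s₀) ≫ φ = L.map (t₁ ≫ f₀) := by
    rw [L.map_comp, Category.assoc, hf₀, ← L.map_comp]
  have hg₁ : L.map (t₁ ≫ s₀) ≫ ψ = L.map (t₁ ≫ g₀) := by
    rw [L.map_comp, Category.assoc, hg₀, ← L.map_comp]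
  obtain ⟨Z₂, t₂, ht₂, h2⟩ := exists_refine W L xi y ψ hψ (t₁ ≫ s₀) (t₁ ≫ g₀) hg₁
  obtain ⟨s, hsdef⟩ : ∃ s : Z₂ ⟶ Xi, s = t₂ ≫ t₁ ≫ s₀ := ⟨_, rfl⟩
  obtain ⟨f₁, hf₁def⟩ : ∃ f₁ : Z₂ ⟶ Y, f₁ = t₂ ≫ t₁ ≫ f₀ := ⟨_, rfl⟩
  obtain ⟨f₂, hf₂def⟩ : ∃ f₂ : Z₂ ⟶ Y, f₂ = t₂ ≫ t₁ ≫ g₀ := ⟨_, rfl⟩
  have hs : W s := by rw [hsdef]; exact W.comp_mem _ _ ht₂ hs₁
  have e1 : L.map s ≫ φ = L.map f₁ := by
    rw [hsdef, hf₁def, L.map_comp, Category.assoc, hf₁, ← L.map_comp]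
  have e2 : L.map s ≫ ψ = L.map f₂ := by
    rw [hsdef, hf₂def, L.map_comp, Category.assoc, hg₁, ← L.map_comp]
  have o1 : f₁ ≫ y = s ≫ xi := by
    rw [hsdef, hf₁def]
    simp only [Category.assoc] at h1 ⊢
    rw [h1]
  have o2 : f₂ ≫ y = s ≫ xi := by
    rw [hsdef, hf₂def]
    exact h2
  obtain ⟨ML, rL, hrL, qL, c1, c2⟩ := geom Z₂ s hs f₁ f₂ o1 o2
  have e3 : L.map (qL ≫ f₁) = L.map (qL ≫ f₂) := by
    rw [L.map_comp, L.map_comp, ← e1, ← e2, ← Category.assoc, ← Category.assoc, ← L.map_comp,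
      ← c1, L.map_comp, Category.assoc, Category.assoc, h]
  obtain ⟨Z₃, t₃, ht₃, e4⟩ := (MorphismProperty.map_eq_iff_precomp L W _ _).mp e3
  obtain ⟨j, Mj, rj, hrj, qj, c3, c4⟩ := c2 (hepi t₃ ht₃ _ _ e4)
  refine ⟨j, ?_⟩
  haveI : IsIso (L.map rj) := Localization.inverts L W rj hrj
  rw [← cancel_epi (L.map rj), ← Category.assoc, ← Category.assoc, ← L.map_comp, c3, L.map_comp,
    Category.assoc, Category.assoc, e1, e2, ← L.map_comp, ← L.map_comp, c4]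

end Groth.Agent.H9.FIN
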