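import Mathlib
import Groth.Agent.S18744
import Groth.Agent.Lib.Helper9.Misc.MSY1
import Groth.Agent.Lib.Helper9.Misc.GLM1

/-!
# The system of ambient products with a fixed blow-up and its limit
-/

set_option autoImplicit false

namespace Groth.Agent.H9.MSY

open CategoryTheory Limits AlgebraicGeometry Groth.Agent.H9.MDP

universe u

/-- a cofiltered system of schemes over a base `B` (all over `Sb`) with minimal moduli, its limit,
and a fixed admissible blow-up of `B`. -/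
structure Sys (K : Type u) [SmallCategory K] (Sb : Scheme.{u}) where
  E : K ⥤ Over Sb
  B : Scheme.{u}
  Yk : Scheme.{u}
  JB : B.IdealSheafData
  sk : Yk ⟶ B
  IYk : Yk.IdealSheafData
  τ : ∀ ν, (E.obj ν).left ⟶ B
  hτ : ∀ {ν ν' : K} (a : ν ⟶ ν'), (E.map a).left ≫ τ ν' = τ ν
  JE : ∀ ν, (E.obj ν).left.IdealSheafData
  hJE : ∀ ν, BlowUp.IsEffCartierIdeal (JE ν)
  hJEmin : ∀ ν, JE ν = JB.comap (τ ν)
  hIYk : BlowUp.IsEffCartierIdeal IYk
  hsk : ModPair.IsAdmBlowup IYk JB sk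
  cE : Cone E
  hcE : IsLimit cE
  tL : cE.pt.left ⟶ B
  htL : ∀ ν, (cE.π.app ν).left ≫ τ ν = tL
  IX : cE.pt.left.IdealSheafData
  hIX : IX = JB.comap tL
  hIXeff : BlowUp.IsEffCartierIdeal IX
  aff : ∀ {ν ν' : K} (a : ν ⟶ ν'), IsAffineHom (E.map a).left

namespace Sys

variable {K : Type u} [SmallCategory K] {Sb : Scheme.{u}} (d : Sys K Sb)

lemma JE_map {ν ν' : K} (a : ν ⟶ ν') : d.JE ν = (d.JE ν').comap (d.E.map a).left := by
  rw [d.hJEmin ν, d.hJEmin ν', ← Scheme.IdealSheafData.comap_comp, d.hτ a]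

lemma IX_map (ν : K) : d.IX = (d.JE ν).comap (d.cE.π.app ν).left := by
  rw [d.hJEmin ν, ← Scheme.IdealSheafData.comap_comp, d.htL ν, d.hIX]

/-- the ambient products -/
noncomputable abbrev M (ν : K) : Scheme.{u} := ModPair.mprod (d.τ ν) d.sk (d.JE ν) d.IYk

/-- first projection -/
noncomputable def r (ν : K) : d.M ν ⟶ (d.E.obj ν).left := rM d.sk d.IYk (d.τ ν) (d.JE ν)

/-- second projection -/
noncomputable def q (ν : K) : d.M ν ⟶ d.Yk := qM d.sk d.IYk (d.τ ν) (d.JE ν)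

/-- the closed immersion into the fibre product -/
noncomputable def ι (ν : K) : d.M ν ⟶ pullback (d.τ ν) d.sk :=
  ModPair.mprodι (d.τ ν) d.sk (d.JE ν) d.IYk

instance (ν : K) : IsClosedImmersion (d.ι ν) := by unfold ι; infer_instance

lemma ι_fst (ν : K) : d.ι ν ≫ pullback.fst (d.τ ν) d.sk = d.r ν := rfl

lemma ι_snd (ν : K) : d.ι ν ≫ pullback.snd (d.τ ν) d.sk = d.q ν := rfl

lemma r_τ (ν : K) : d.r ν ≫ d.τ ν = d.q ν ≫ d.sk := rM_t d.sk d.IYk (d.τ ν) (d.JE ν)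

/-- transition maps -/
noncomputable def m {ν ν' : K} (a : ν ⟶ ν') : d.M ν ⟶ d.M ν' :=
  mmap d.sk d.IYk (d.τ ν) (d.JE ν) (d.τ ν') (d.JE ν') (d.E.map a).left (d.hτ a) (d.hJE ν) d.hIYk
    (d.JE_map a)

@[reassoc]
lemma m_r {ν ν' : K} (a : ν ⟶ ν') : d.m a ≫ d.r ν' = d.r ν ≫ (d.E.map a).left :=
  mmap_r _ _ _ _ _ _ _ _ _ _ _

@[reassoc]
lemma m_q {ν ν' : K} (a : ν ⟶ ν') : d.m a ≫ d.q ν' = d.q ν :=
  mmap_q _ _ _ _ _ _ _ _ _ _ _

lemma m_id (ν : K) : d.m (𝟙 ν) = 𝟙 _ := by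
  have h0 : (d.E.map (𝟙 ν)).left = 𝟙 _ := by rw [d.E.map_id]; rfl
  unfold m
  rw [mmap_congr d.sk d.IYk (d.τ ν) (d.JE ν) (d.τ ν) (d.JE ν) _ (𝟙 _) h0 _ (Category.id_comp _)
    (d.hJE ν) d.hIYk _ (by rw [Scheme.IdealSheafData.comap_id])]
  exact mmap_id d.sk d.IYk (d.τ ν) (d.JE ν) _ _ _ _

lemma m_comp {ν ν' ν'' : K} (a : ν ⟶ ν') (b : ν' ⟶ ν'') : d.m (a ≫ b) = d.m a ≫ d.m b := by
  have h0 : (d.E.map (a ≫ b)).left = (d.E.map a).left ≫ (d.E.map b).left := by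
    rw [d.E.map_comp]; rfl
  unfold m
  rw [mmap_congr d.sk d.IYk (d.τ ν) (d.JE ν) (d.τ ν'') (d.JE ν'') _ _ h0 _
    (by rw [Category.assoc, d.hτ b, d.hτ a]) (d.hJE ν) d.hIYk _
    (by rw [Scheme.IdealSheafData.comap_comp, ← d.JE_map b, ← d.JE_map a])]
  exact mmap_comp d.sk d.IYk (d.τ ν) (d.JE ν) (d.τ ν') (d.JE ν') (d.τ ν'') (d.JE ν'') _ _ _ _ _ _
    (d.hJE ν') _ _ _ _

lemma m_affine {ν ν' : K} (a : ν ⟶ ν') : IsAffineHom (d.m a) := by
  have := d.aff a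
  exact mmap_affine _ _ _ _ _ _ _ _ _ _ _

/-- the system of ambient products -/
noncomputable def Mf : K ⥤ Over Sb where
  obj ν := Over.mk (d.r ν ≫ (d.E.obj ν).hom)
  map {ν ν'} a := Over.homMk (d.m a) (by
    show d.m a ≫ d.r ν' ≫ (d.E.obj ν').hom = d.r ν ≫ (d.E.obj ν).hom
    rw [m_r_assoc, Over.w])
  map_id ν := by
    ext
    exact d.m_id ν
  map_comp a b := by
    ext
    exact d.m_comp a b

/-- the moduli of the ambient products -/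
noncomputable def IM (ν : K) : (d.M ν).IdealSheafData := (d.JE ν).comap (d.r ν)

lemma IM_eff (ν : K) : BlowUp.IsEffCartierIdeal (d.IM ν) :=
  isEffCartier_comap_fst_mprod (d.τ ν) d.sk (d.JE ν) d.IYk (d.hJE ν) d.hIYk

lemma IM_min {ν ν' : K} (a : ν ⟶ ν') : d.IM ν = (d.IM ν').comap (d.m a) :=
  mod_eq _ _ _ _ _ _ _ _ _ _ _

lemma r_admBlowup (ν : K) : ModPair.IsAdmBlowup (d.IM ν) (d.JE ν) (d.r ν) :=
  isAdmBlowup_rM d.JB d.sk d.IYk (d.τ ν) (d.JE ν) (d.hJEmin ν) d.hsk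

/-! ### the limit -/

/-- the ambient product at the limit -/
noncomputable abbrev ML : Scheme.{u} := ModPair.mprod d.tL d.sk d.IX d.IYk

/-- first projection -/
noncomputable def rL : d.ML ⟶ d.cE.pt.left := rM d.sk d.IYk d.tL d.IX

/-- second projection -/
noncomputable def qL : d.ML ⟶ d.Yk := qM d.sk d.IYk d.tL d.IX

/-- the closed immersion into the fibre product -/
noncomputable def ιL : d.ML ⟶ pullback d.tL d.sk := ModPair.mprodι d.tL d.sk d.IX d.IYk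

instance : IsClosedImmersion d.ιL := by unfold ιL; infer_instance

lemma ιL_fst : d.ιL ≫ pullback.fst d.tL d.sk = d.rL := rfl

lemma ιL_snd : d.ιL ≫ pullback.snd d.tL d.sk = d.qL := rfl

/-- projections -/
noncomputable def mL (ν : K) : d.ML ⟶ d.M ν :=
  mmap d.sk d.IYk d.tL d.IX (d.τ ν) (d.JE ν) (d.cE.π.app ν).left (d.htL ν) d.hIXeff d.hIYk
    (d.IX_map ν)

@[reassoc]
lemma mL_r (ν : K) : d.mL ν ≫ d.r ν = d.rL ≫ (d.cE.π.app ν).left :=
  mmap_r _ _ _ _ _ _ _ _ _ _ _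

@[reassoc]
lemma mL_q (ν : K) : d.mL ν ≫ d.q ν = d.qL :=
  mmap_q _ _ _ _ _ _ _ _ _ _ _

@[reassoc]
lemma mL_ι (ν : K) : d.mL ν ≫ d.ι ν =
    d.ιL ≫ pmap d.sk d.tL (d.τ ν) (d.cE.π.app ν).left (d.htL ν) :=
  mmap_ι _ _ _ _ _ _ _ _ _ _ _

@[reassoc]
lemma mL_m {ν ν' : K} (a : ν ⟶ ν') : d.mL ν ≫ d.m a = d.mL ν' := by
  have h0 : (d.cE.π.app ν).left ≫ (d.E.map a).left = (d.cE.π.app ν').left :=
    congrArg CommaMorphism.left (d.cE.w a)
  unfold mL m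
  exact (mmap_comp d.sk d.IYk d.tL d.IX (d.τ ν) (d.JE ν) (d.τ ν') (d.JE ν') _ _ (d.htL ν) (d.hτ a)
    (by rw [Category.assoc, d.hτ a, d.htL ν]) d.hIXeff (d.hJE ν) d.hIYk (d.IX_map ν) (d.JE_map a)
    (by rw [Scheme.IdealSheafData.comap_comp, ← d.JE_map a, ← d.IX_map ν])).symm.trans
    (mmap_congr d.sk d.IYk d.tL d.IX (d.τ ν') (d.JE ν') _ _ h0 _ _ _ _ _ _)

lemma IXL_min (ν : K) : d.IX.comap d.rL = (d.IM ν).comap (d.mL ν) :=
  mod_eq _ _ _ _ _ _ _ _ _ _ _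

/-- the candidate limit cone -/
noncomputable def Mcone : Cone d.Mf where
  pt := Over.mk (d.rL ≫ d.cE.pt.hom)
  π :=
    { app := fun ν ↦ Over.homMk (d.mL ν) (by
        show d.mL ν ≫ d.r ν ≫ (d.E.obj ν).hom = d.rL ≫ d.cE.pt.hom
        rw [mL_r_assoc]
        exact congrArg (fun z ↦ d.rL ≫ z) (Over.w (d.cE.π.app ν)))
      naturality := fun ν ν' a ↦ by
        ext
        exact (Category.id_comp _).trans (d.mL_m a).symm }

section Limit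

variable [IsCofiltered K]

/-- scheme-level system -/
noncomputable abbrev Fs : K ⥤ Scheme.{u} := d.Mf ⋙ Over.forget Sb

theorem isIso_aux (L : Scheme.{u}) (p : ∀ ν, L ⟶ d.M ν)
    (hw : ∀ {ν ν' : K} (a : ν ⟶ ν'), p ν ≫ d.m a = p ν')
    (hext : ∀ (f g : L ⟶ L), (∀ ν, f ≫ p ν = g ≫ p ν) → f = g)
    (μ : d.ML ⟶ L) (hμ : ∀ ν, μ ≫ p ν = d.mL ν)
    (hcart : ∀ ν, BlowUp.IsEffCartierIdeal ((d.IM ν).comap (p ν))) : IsIso μ := by
  haveI : IsConnected K := IsCofiltered.isConnected _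
  have hcEs : IsLimit ((Over.forget Sb).mapCone d.cE) := isLimitOfPreserves (Over.forget Sb) d.hcE
  -- the map to the limit of the `E`
  let cX : Cone (d.E ⋙ Over.forget Sb) :=
    { pt := L
      π :=
        { app := fun ν ↦ p ν ≫ d.r ν
          naturality := fun ν ν' a ↦ by
            show 𝟙 _ ≫ p ν' ≫ d.r ν' = (p ν ≫ d.r ν) ≫ (d.E.map a).left
            rw [Category.id_comp, Category.assoc, ← d.m_r a, ← Category.assoc, hw a] } }
  obtain ⟨ℓX, hℓX⟩ : ∃ ℓX : L ⟶ d.cE.pt.left,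
      ∀ ν, ℓX ≫ (d.cE.π.app ν).left = p ν ≫ d.r ν :=
    ⟨hcEs.lift cX, fun ν ↦ hcEs.fac cX ν⟩
  have hextE : ∀ {Z : Scheme.{u}} (f g : Z ⟶ d.cE.pt.left),
      (∀ ν, f ≫ (d.cE.π.app ν).left = g ≫ (d.cE.π.app ν).left) → f = g :=
    fun f g hfg ↦ hcEs.hom_ext hfg
  clear_value cX
  obtain ⟨ν₀⟩ := IsCofiltered.nonempty (C := K)
  obtain ⟨ℓY, hℓY0⟩ : ∃ ℓY : L ⟶ d.Yk, ℓY = p ν₀ ≫ d.q ν₀ := ⟨_, rfl⟩
  have hℓY : ∀ ν, p ν ≫ d.q ν = ℓY := fun ν ↦ by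
    have e1 : p ν ≫ d.q ν =
        p (IsCofiltered.min ν ν₀) ≫ d.q (IsCofiltered.min ν ν₀) := by
      rw [← hw (IsCofiltered.minToLeft ν ν₀), Category.assoc, d.m_q]
    have e2 : p ν₀ ≫ d.q ν₀ =
        p (IsCofiltered.min ν ν₀) ≫ d.q (IsCofiltered.min ν ν₀) := by
      rw [← hw (IsCofiltered.minToRight ν ν₀), Category.assoc, d.m_q]
    exact e1.trans (e2.symm.trans hℓY0.symm)
  have hcond : ℓX ≫ d.tL = ℓY ≫ d.sk := by
    rw [← d.htL ν₀, ← Category.assoc, hℓX ν₀, Category.assoc, d.r_τ, hℓY0, Category.assoc]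
  obtain ⟨h, hfst, hsnd⟩ : ∃ h : L ⟶ pullback d.tL d.sk,
      h ≫ pullback.fst d.tL d.sk = ℓX ∧ h ≫ pullback.snd d.tL d.sk = ℓY :=
    ⟨pullback.lift ℓX ℓY hcond, pullback.lift_fst _ _ _, pullback.lift_snd _ _ _⟩
  -- density
  have hcart' : BlowUp.IsEffCartierIdeal (d.IX.comap ℓX) := by
    have e1 : d.IX.comap ℓX = (d.IM ν₀).comap (p ν₀) := by
      rw [d.IX_map ν₀, ← Scheme.IdealSheafData.comap_comp, hℓX ν₀,
        Scheme.IdealSheafData.comap_comp]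
      rfl
    rw [e1]
    exact hcart ν₀
  haveI hdense : IsSchemeTheoreticallyDominant (ℓX ⁻¹ᵁ ModPair.interior d.IX).ι := by
    have h1 : IsSchemeTheoreticallyDominant (ModPair.interior (d.IX.comap ℓX)).ι :=
      Groth.Agent.LD.QC.isSchemeTheoreticallyDominant_compl_of_effCartier _ hcart'
    rw [interior_comap] at h1
    exact h1
  have hker : d.ιL.ker ≤ h.ker := by
    unfold ιL
    rw [Scheme.IdealSheafData.ker_subschemeι]
    refine ker_le_of_dense (ModPair.prodInterior d.tL d.sk d.IX d.IYk) h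
      (ℓX ⁻¹ᵁ ModPair.interior d.IX) ?_
    have e : h ⁻¹ᵁ ModPair.prodInterior d.tL d.sk d.IX d.IYk = ℓX ⁻¹ᵁ ModPair.interior d.IX := by
      rw [prodInterior_eq_fst d.JB d.IYk d.IX d.tL (le_of_eq d.hIX) d.sk d.hsk.1,
        ← Scheme.Hom.comp_preimage, hfst]
    exact le_of_eq e.symm
  obtain ⟨lam, hlam⟩ : ∃ lam : L ⟶ d.ML, lam ≫ d.ιL = h :=
    ⟨IsClosedImmersion.lift d.ιL h hker, IsClosedImmersion.lift_fac _ _ _⟩
  have h1 : ∀ ν, lam ≫ d.mL ν = p ν := fun ν ↦ by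
    rw [← cancel_mono (d.ι ν), Category.assoc, d.mL_ι, ← Category.assoc, hlam]
    apply pullback.hom_ext
    · rw [Category.assoc, pmap_fst, ← Category.assoc, hfst, hℓX ν, Category.assoc, d.ι_fst]
    · rw [Category.assoc, pmap_snd, hsnd, Category.assoc, d.ι_snd, hℓY ν]
  have h2 : μ ≫ lam = 𝟙 d.ML := by
    rw [← cancel_mono d.ιL, Category.assoc, hlam, Category.id_comp]
    apply pullback.hom_ext
    · rw [Category.assoc, hfst, d.ιL_fst]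
      refine hextE _ _ (fun ν ↦ ?_)
      rw [Category.assoc, hℓX ν, ← Category.assoc, hμ ν, d.mL_r]
    · rw [Category.assoc, hsnd, d.ιL_snd, ← hℓY ν₀, ← Category.assoc, hμ ν₀, d.mL_q]
  exact ⟨lam, h2, hext _ _ (fun ν ↦ by rw [Category.assoc, hμ, h1, Category.id_comp])⟩

theorem isIso_lift (cL : Cone d.Fs) (hcL : IsLimit cL) :
    IsIso (hcL.lift ((Over.forget Sb).mapCone d.Mcone)) := by
  haveI : ∀ (i j : K) (t : i ⟶ j), IsAffineHom (d.Fs.map t) := fun _ _ t ↦ d.m_affine t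
  exact d.isIso_aux cL.pt (fun ν ↦ cL.π.app ν) (fun a ↦ cL.w a)
    (fun f g hfg ↦ hcL.hom_ext hfg) _ (fun ν ↦ hcL.fac _ ν)
    (fun ν ↦ Groth.Agent.S18744.result d.Fs cL hcL d.IM d.IM_eff (fun _ _ t ↦ d.IM_min t) ν)

theorem nonempty_isLimit_Mcone : Nonempty (IsLimit d.Mcone) := by
  haveI : IsConnected K := IsCofiltered.isConnected _
  haveI : ∀ (i j : K) (t : i ⟶ j), IsAffineHom (d.Fs.map t) := fun _ _ t ↦ d.m_affine t
  obtain ⟨cL, hcL, -⟩ := GLM.S2151_main d.Fs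
  haveI := d.isIso_lift cL hcL
  exact ⟨isLimitOfReflects (Over.forget Sb) (IsLimit.ofPointIso hcL)⟩

end Limit

end Sys

end Groth.Agent.H9.MSY
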