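import Mathlib

/-!
# Hom-colimit lemma for finite type targets and injective transition maps (algebra + affine case)
-/

set_option autoImplicit false

namespace Groth.Agent.H9.HCL

open CategoryTheory Limits

section Algebra

universe vJ uJ u

variable {J : Type uJ} [Category.{vJ} J] [IsFiltered J]
variable (R : CommRingCat.{u}) (F : J ⥤ CommRingCat.{u}) (α : (Functor.const _).obj R ⟶ F)
variable {S : CommRingCat.{u}} (f : R ⟶ S) (c : Cocone F) (hc : IsColimit c)
variable [PreservesColimit F (forget CommRingCat)]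

include hc in
lemma ι_injective_of_map_injective
    (hF : ∀ {i j : J} (t : i ⟶ j), Function.Injective (F.map t)) (i : J) :
    Function.Injective (c.ι.app i) := by
  have hc' := isColimitOfPreserves (forget _) hc
  rw [injective_iff_map_eq_zero]
  intro x hx
  have := Types.FilteredColimit.isColimit_eq_iff _ hc' (xi := x) (j := i) (xj := (0 : F.obj i))
  obtain ⟨k, f, g, e⟩ := this.mp (by simpa using hx)
  apply hF f
  have e' : F.map f x = F.map g 0 := e
  rw [e', map_zero, map_zero]

set_option backward.defeqAttrib.useBackward true in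
set_option backward.isDefEq.respectTransparency false in
include hc in
/-- Given a filtered diagram `F` of rings over `R` with injective transition maps,
`S` a finite type `R`-algebra, and a ring hom `g : S ⟶ colimit F` over `R`,
there exists `i` such that `g` factors through `Fᵢ`. -/
lemma exists_eq_comp_ι_app_of_finiteType (hf : f.hom.FiniteType)
    (hF : ∀ {i j : J} (t : i ⟶ j), Function.Injective (F.map t))
    (g : S ⟶ c.pt) (hg : ∀ i, f ≫ g = α.app i ≫ c.ι.app i) :
    ∃ (i : J) (g' : S ⟶ F.obj i), f ≫ g' = α.app i ∧ g = g' ≫ c.ι.app i := by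
  classical
  have hc' := isColimitOfPreserves (forget _) hc
  let := f.hom.toAlgebra
  obtain ⟨n, π0, hπ0⟩ := Algebra.FiniteType.iff_quotient_mvPolynomial''.mp hf
  let P := CommRingCat.of (MvPolynomial (Fin n) R)
  let iP : R ⟶ P := CommRingCat.ofHom MvPolynomial.C
  obtain ⟨π, rfl, hπ⟩ :
      ∃ π : P ⟶ S, iP ≫ π = f ∧ Function.Surjective π :=
    ⟨CommRingCat.ofHom π0, by ext1; exact π0.comp_algebraMap, hπ0⟩
  obtain ⟨i, g', hg', hg''⟩ : ∃ (i : J) (g' : P ⟶ F.obj i),
      π ≫ g = g' ≫ c.ι.app i ∧ iP ≫ g' = α.app i := by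
    choose j x h using fun i ↦ Types.jointly_surjective_of_isColimit hc' ((π ≫ g) (.X i))
    obtain ⟨i, ⟨hi⟩⟩ : ∃ i, Nonempty (∀ a, (j a ⟶ i)) := by
      have : ∃ i, ∀ a, Nonempty (j a ⟶ i) := by
        simpa using! IsFiltered.sup_objs_exists (Finset.univ.image j)
      simpa [← exists_true_iff_nonempty, Classical.skolem, -exists_const_iff] using! this
    refine ⟨i, CommRingCat.ofHom (MvPolynomial.eval₂Hom
      (α.app i).hom (F.map (hi _) <| x ·)), ?_, ?_⟩
    · ext1
      apply MvPolynomial.ringHom_ext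
      · simpa using! fun x ↦ congr($(hg i).hom x)
      · intro i
        simp only [CommRingCat.hom_comp, RingHom.coe_comp, Function.comp_apply,
          Functor.const_obj_obj, CommRingCat.hom_ofHom, MvPolynomial.coe_eval₂Hom,
          MvPolynomial.eval₂_X]
        exact (congr($(c.w (hi i)).hom (x i)).trans (h i)).symm
    · ext x
      simp [P, iP]
  have hinj := ι_injective_of_map_injective F c hc hF i
  refine ⟨i, CommRingCat.ofHom (RingHom.liftOfSurjective π.hom hπ ⟨g'.hom, ?_⟩), ?_, ?_⟩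
  · intro r hr
    rw [RingHom.mem_ker] at hr ⊢
    apply hinj
    rw [map_zero]
    have h1 : (π ≫ g) r = (g' ≫ c.ι.app i) r := congr(($hg').hom r)
    have h2 : (π ≫ g) r = 0 := by
      change g.hom (π.hom r) = 0
      rw [hr, map_zero]
    rw [h2] at h1
    exact h1.symm
  · ext x
    suffices (iP ≫ g') x = α.app i x by
      simpa [RingHom.liftOfRightInverse_comp_apply] using! this
    exact congr(($hg'').hom x)
  · ext x
    obtain ⟨x, rfl⟩ := hπ x
    suffices (π ≫ g) x = (g' ≫ c.ι.app _) x by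
      simpa only [CommRingCat.hom_comp, CommRingCat.hom_ofHom,
        RingHom.liftOfRightInverse_comp_apply, RingHom.coe_comp, Function.comp_apply] using! this
    exact congr(($hg').hom x)

end Algebra

section Affine

universe u

open AlgebraicGeometry

lemma injective_appTop_specMap_iff {R S : CommRingCat.{u}} (φ : R ⟶ S) :
    Function.Injective (Spec.map φ).appTop ↔ Function.Injective φ := by
  have := Scheme.ΓSpecIso_naturality φ
  have e : (Spec.map φ).appTop = (Scheme.ΓSpecIso R).hom ≫ φ ≫ (Scheme.ΓSpecIso S).inv := by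
    rw [← Category.assoc, ← this, Category.assoc, Iso.hom_inv_id, Category.comp_id]
  have e' : φ = (Scheme.ΓSpecIso R).inv ≫ (Spec.map φ).appTop ≫ (Scheme.ΓSpecIso S).hom := by
    rw [this, Iso.inv_hom_id_assoc]
  constructor
  · intro h
    rw [e']
    simp only [CommRingCat.hom_comp, RingHom.coe_comp]
    exact ((ConcreteCategory.bijective_of_isIso (Scheme.ΓSpecIso S).hom).injective.comp h).comp
      (ConcreteCategory.bijective_of_isIso (Scheme.ΓSpecIso R).inv).injective
  · intro h
    rw [e]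
    simp only [CommRingCat.hom_comp, RingHom.coe_comp]
    exact ((ConcreteCategory.bijective_of_isIso (Scheme.ΓSpecIso S).inv).injective.comp h).comp
      (ConcreteCategory.bijective_of_isIso (Scheme.ΓSpecIso R).hom).injective

set_option backward.defeqAttrib.useBackward true in
set_option backward.isDefEq.respectTransparency false in
/-- Affine case: finite type target, injective transition maps on global sections. -/
lemma exists_π_app_comp_eq_of_isAffine
    {I : Type u} [Category.{u} I] {S X : Scheme.{u}} (D : I ⥤ Scheme.{u})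
    (t : D ⟶ (Functor.const I).obj S) (f : X ⟶ S) (c : Cone D) (hc : IsLimit c)
    [IsCofiltered I] [LocallyOfFiniteType f]
    [IsAffine S] [IsAffine X] [∀ i, IsAffine (D.obj i)]
    (hinj : ∀ {i j : I} (u : i ⟶ j), Function.Injective (D.map u).appTop)
    (a : c.pt ⟶ X) (ha : c.π ≫ t = (Functor.const _).map (a ≫ f)) :
    ∃ (i : I) (g : D.obj i ⟶ X), c.π.app i ≫ g = a ∧ g ≫ f = t.app i := by
  wlog hS : ∃ R, S = Spec R generalizing S
  · obtain ⟨i, g, hg, hg'⟩ := this (t ≫ ((Functor.const I).mapIso S.isoSpec).hom)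
      (f ≫ S.isoSpec.hom) (by simp [reassoc_of% ha]) ⟨_, rfl⟩
    exact ⟨i, g, hg, by simpa using! congr($hg' ≫ S.isoSpec.inv)⟩
  obtain ⟨R, rfl⟩ := hS
  wlog hX : ∃ S, X = Spec S generalizing X
  · obtain ⟨i, f, hf⟩ := this (a ≫ X.isoSpec.hom) (X.isoSpec.inv ≫ f)
      (by simp [ha, -Functor.map_comp]) ⟨_, rfl⟩
    exact ⟨i, f ≫ X.isoSpec.inv, by simpa [← Iso.comp_inv_eq] using! hf⟩
  obtain ⟨S, rfl⟩ := hX
  obtain ⟨φ, rfl⟩ := Spec.map_surjective f
  wlog hD : ∃ D' : I ⥤ CommRingCatᵒᵖ, D = D' ⋙ Scheme.Spec generalizing D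
  · let e : D ⟶ D ⋙ Scheme.Γ.rightOp ⋙ Scheme.Spec := D.whiskerLeft ΓSpec.adjunction.unit
    have inst (i) : IsIso (e.app i) := by dsimp [e]; infer_instance
    have inst : IsIso e := NatIso.isIso_of_isIso_app e
    have inst (i) : IsAffine ((D ⋙ Scheme.Γ.rightOp ⋙ Scheme.Spec).obj i) := by
      dsimp; infer_instance
    obtain ⟨i, g, hg, hg'⟩ := this (D ⋙ Scheme.Γ.rightOp ⋙ Scheme.Spec) _
      ((IsLimit.postcomposeHomEquiv (asIso e) c).symm hc)
      (fun {i j} u ↦ (injective_appTop_specMap_iff _).mpr (hinj u))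
      (inv e ≫ t) a (by simpa using! ha) ⟨D ⋙ Scheme.Γ.rightOp, rfl⟩
    exact ⟨i, e.app i ≫ g, by rwa [← Category.assoc], by simp [hg']⟩
  obtain ⟨D, rfl⟩ := hD
  let e : ((Functor.const Iᵒᵖ).obj R).rightOp ⋙ Scheme.Spec ≅ (Functor.const I).obj (Spec R) :=
    NatIso.ofComponents (fun _ ↦ Iso.refl _) (by simp)
  obtain ⟨t, rfl⟩ : ∃ t' : (Functor.const Iᵒᵖ).obj R ⟶ D.leftOp,
      t = Functor.whiskerRight (NatTrans.rightOp t') Scheme.Spec ≫ e.hom :=
    ⟨⟨fun i ↦ Spec.preimage (t.app i.unop), fun _ _ f ↦ Spec.map_injective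
      (by simpa using! (t.naturality f.unop).symm)⟩, by ext : 2; simp [e]⟩
  wlog hc' : ∃ c' : Cocone D.leftOp, c = Scheme.Spec.mapCone (coneOfCoconeLeftOp c') generalizing c
  · have inst : IsAffine c.pt := Scheme.isAffine_of_isLimit _ hc
    let e' : (D ⋙ Scheme.Spec).op ⋙ Scheme.Γ ≅ D.leftOp :=
      D.leftOp.isoWhiskerLeft Scheme.SpecΓIdentity
    let c' := coneOfCoconeLeftOp ((Cocone.precompose e'.inv).obj (Scheme.Γ.mapCocone c.op))
    have inst : ∀ i, IsAffine ((D ⋙ Scheme.Spec).op.obj i).unop := by dsimp; infer_instance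
    obtain ⟨i, f, hf⟩ := this (Scheme.Spec.mapCone c') (isLimitOfPreserves _
      (isLimitConeOfCoconeLeftOp _ ((IsColimit.precomposeHomEquiv e'.symm _).symm
        (isColimitOfPreserves _ hc.op)))) (c.pt.isoSpec.inv ≫ a) (by
        ext i
        have : c.π.app i ≫ Spec.map (t.app (.op i)) = a ≫ Spec.map φ := by
          simpa using! congr((($ha).app i))
        simp [c', e, e', ← this, Iso.eq_inv_comp, Scheme.isoSpec_hom_naturality_assoc]) ⟨_, rfl⟩
    refine ⟨i, f, ?_⟩
    simpa [Iso.eq_inv_comp, c', Scheme.isoSpec_hom_naturality_assoc, e'] using! hf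
  obtain ⟨c', rfl⟩ := hc'
  obtain ⟨ψ, rfl⟩ := Spec.map_surjective a
  replace hc := isColimitOfConeOfCoconeLeftOp _ (isLimitOfReflects _ hc)
  obtain ⟨i, g, hg, hg'⟩ :=
    exists_eq_comp_ι_app_of_finiteType _ D.leftOp t _ _ hc
    (HasRingHomProperty.Spec_iff.mp ‹LocallyOfFiniteType (Spec.map φ)›)
    (fun {i j} u ↦ (injective_appTop_specMap_iff _).mp (hinj u.unop)) ψ fun i ↦ by
    apply Spec.map_injective; simpa using! congr(($ha).app i.unop).symm
  exact ⟨i.unop, Spec.map g, by simpa using! congr(Spec.map $hg').symm,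
    by simpa using! congr(Spec.map $hg)⟩

end Affine

end Groth.Agent.H9.HCL
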