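import Mathlib
import Groth.Agent.S18745
import Groth.Agent.Lib.Helper9.Misc.MSY2

/-!
# Descending morphisms from the limit ambient product
-/

set_option autoImplicit false

namespace Groth.Agent.H9.MSY

open CategoryTheory Limits AlgebraicGeometry Groth.Agent.H9.MDP

universe u

namespace Sys

variable {K : Type u} [SmallCategory K] {Sb : Scheme.{u}} (d : Sys K Sb)

lemma r_proper (ν : K) : IsProper (d.r ν) := (d.r_admBlowup ν).2.1

lemma M_compact (ν : K) (hqc : CompactSpace (d.E.obj ν).left) : CompactSpace (d.M ν) := by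
  have := d.r_proper ν
  exact QuasiCompact.compactSpace_of_compactSpace (d.r ν)

lemma M_qs (ν : K) (hqs : QuasiSeparatedSpace (d.E.obj ν).left) :
    QuasiSeparatedSpace (d.M ν) := by
  have := d.r_proper ν
  exact quasiSeparatedSpace_of_quasiSeparated (d.r ν)

lemma m_dominant {ν ν' : K} (a : ν ⟶ ν') (h : IsSchemeTheoreticallyDominant (d.E.map a).left) :
    IsSchemeTheoreticallyDominant (d.m a) := by
  have := d.aff a
  exact mmap_dominant d.JB d.sk d.IYk (d.τ ν) (d.JE ν) (d.τ ν') (d.JE ν') (d.E.map a).left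
    (d.hτ a) (d.hJE ν) d.hIYk (d.JE_map a) (d.hJEmin ν) (d.hJEmin ν') (d.hJE ν') d.hsk

section Descend

variable [IsCofiltered K] [CompactSpace Sb] [QuasiSeparatedSpace Sb]
  (hqc : ∀ ν, CompactSpace (d.E.obj ν).left) (hqs : ∀ ν, QuasiSeparatedSpace (d.E.obj ν).left)

include hqc hqs in
theorem descend_hom (Y : Over Sb) [CompactSpace Y.left] [QuasiSeparatedSpace Y.left]
    [LocallyOfFiniteType Y.hom] (IY : Y.left.IdealSheafData) (hY : BlowUp.IsEffCartierIdeal IY)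
    (h : (∀ {ν ν' : K} (a : ν ⟶ ν'), IsSchemeTheoreticallyDominant (d.E.map a).left) ∨
      LocallyOfFinitePresentation Y.hom)
    (f : d.ML ⟶ Y.left) (hf : f ≫ Y.hom = d.rL ≫ d.cE.pt.hom)
    (hamb : ModPair.IsAmbient (d.IX.comap d.rL) IY f) :
    ∃ (ν : K) (fν : d.M ν ⟶ Y.left), fν ≫ Y.hom = d.r ν ≫ (d.E.obj ν).hom ∧
      ModPair.IsAmbient (d.IM ν) IY fν ∧ d.mL ν ≫ fν = f := by
  obtain ⟨hlim⟩ := d.nonempty_isLimit_Mcone
  haveI : ∀ (i j : K) (t : i ⟶ j), IsAffineHom (d.Mf.map t).left := fun _ _ t ↦ d.m_affine t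
  haveI : ∀ i, CompactSpace (d.Mf.obj i).left := fun i ↦ d.M_compact i (hqc i)
  haveI : ∀ i, QuasiSeparatedSpace (d.Mf.obj i).left := fun i ↦ d.M_qs i (hqs i)
  have h' : (∀ (i j : K) (t : i ⟶ j), IsSchemeTheoreticallyDominant (d.Mf.map t).left) ∨
      LocallyOfFinitePresentation Y.hom := by
    rcases h with h | h
    · left
      intro i j t
      exact d.m_dominant t (h t)
    · right
      exact h
  obtain ⟨ν, φν, hamb', hφ⟩ := Groth.Agent.S18745.result d.Mf d.Mcone hlim d.IM d.IM_eff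
    (fun _ _ t ↦ d.IM_min t) (d.IX.comap d.rL) (fun ν ↦ d.IXL_min ν) Y IY hY h'
    (Over.homMk f hf) hamb
  exact ⟨ν, φν.left, Over.w φν, hamb', congrArg CommaMorphism.left hφ⟩

include hqc in
theorem descend_eq (Y : Over Sb) [LocallyOfFiniteType Y.hom] (ν : K) (f₁ f₂ : d.M ν ⟶ Y.left)
    (h₁ : f₁ ≫ Y.hom = d.r ν ≫ (d.E.obj ν).hom) (h₂ : f₂ ≫ Y.hom = d.r ν ≫ (d.E.obj ν).hom)
    (h : d.mL ν ≫ f₁ = d.mL ν ≫ f₂) :
    ∃ (ν' : K) (a : ν' ⟶ ν), d.m a ≫ f₁ = d.m a ≫ f₂ := by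
  obtain ⟨hlim⟩ := d.nonempty_isLimit_Mcone
  haveI : IsConnected K := IsCofiltered.isConnected _
  have hlim' : IsLimit ((Over.forget Sb).mapCone d.Mcone) :=
    isLimitOfPreserves (Over.forget Sb) hlim
  haveI : ∀ {i j : K} (t : i ⟶ j), IsAffineHom (d.Fs.map t) := fun t ↦ d.m_affine t
  haveI : ∀ i, CompactSpace (d.Fs.obj i) := fun i ↦ d.M_compact i (hqc i)
  let t : d.Fs ⟶ (Functor.const K).obj Sb :=
    { app := fun ν ↦ (d.Mf.obj ν).hom
      naturality := fun _ _ a ↦ (Over.w (d.Mf.map a)).trans (Category.comp_id _).symm }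
  exact Scheme.exists_hom_comp_eq_comp_of_locallyOfFiniteType d.Fs t Y.hom _ hlim' f₁ f₂
    h₁.symm h₂.symm h

include hqc in
theorem descend_eq_q (Y : Over Sb) [LocallyOfFiniteType Y.hom] (xB : d.B ⟶ Sb)
    (hxB : ∀ ν, d.τ ν ≫ xB = (d.E.obj ν).hom) (f₁ f₂ : d.Yk ⟶ Y.left)
    (h₁ : f₁ ≫ Y.hom = d.sk ≫ xB) (h₂ : f₂ ≫ Y.hom = d.sk ≫ xB)
    (h : d.qL ≫ f₁ = d.qL ≫ f₂) :
    ∃ ν' : K, d.q ν' ≫ f₁ = d.q ν' ≫ f₂ := by
  obtain ⟨ν₀⟩ := IsCofiltered.nonempty (C := K)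
  have hq : ∀ f : d.Yk ⟶ Y.left, f ≫ Y.hom = d.sk ≫ xB →
      (d.q ν₀ ≫ f) ≫ Y.hom = d.r ν₀ ≫ (d.E.obj ν₀).hom := fun f hf ↦ by
    rw [Category.assoc, hf, ← Category.assoc, ← d.r_τ, Category.assoc, hxB]
  obtain ⟨ν', a, ha⟩ := d.descend_eq hqc Y ν₀ (d.q ν₀ ≫ f₁) (d.q ν₀ ≫ f₂) (hq f₁ h₁) (hq f₂ h₂)
    (by rw [← Category.assoc, ← Category.assoc, d.mL_q, h])
  refine ⟨ν', ?_⟩
  rw [← d.m_q a, Category.assoc, ha, Category.assoc]

end Descend

end Sys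

end Groth.Agent.H9.MSY
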