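import Mathlib
import Groth.Agent.S18744
import Groth.Agent.Lib.Helper9.Misc.GLM1

/-!
# Limits of modulus pairs along affine minimal transitions are limits of schemes
-/

set_option autoImplicit false

namespace Groth.Agent.H9.PLM

open CategoryTheory Limits AlgebraicGeometry

universe u

section

variable (S : ModPair.Pair.{u})

/-- the underlying scheme over the underlying base. -/
def U : Over S ⥤ Over S.total where
  obj X := Over.mk (X.hom.hom : X.left.total ⟶ S.total)
  map {X Y} f := Over.homMk f.left.hom (congrArg ModPair.Pair.Hom.hom (Over.w f))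
  map_id X := rfl
  map_comp f g := rfl

variable {S}
variable {I : Type u} [SmallCategory I] [IsCofiltered I] (D : I ⥤ Over S) (c : Cone D)
  (hc : IsLimit c)
  [∀ (i j : I) (t : i ⟶ j), IsAffineHom (D.map t).left.hom]
  (hmin : ∀ (i j : I) (t : i ⟶ j),
    ModPair.IsMinimal (D.obj i).left.mod (D.obj j).left.mod (D.map t).left.hom)

/-- the underlying system of schemes -/
abbrev D₀ : I ⥤ Scheme.{u} := D ⋙ U S ⋙ Over.forget S.total

lemma D₀_map {i j : I} (t : i ⟶ j) : (D₀ D).map t = (D.map t).left.hom := rfl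

lemma map_hom {i j : I} (t : i ⟶ j) :
    (D.map t).left.hom ≫ (D.obj j).hom.hom = (D.obj i).hom.hom :=
  congrArg ModPair.Pair.Hom.hom (Over.w (D.map t))

include hc hmin in
theorem main : Nonempty (IsLimit ((U S).mapCone c)) ∧
    ∀ i, c.pt.left.mod = (D.obj i).left.mod.comap (c.π.app i).left.hom := by
  haveI : IsConnected I := IsCofiltered.isConnected _
  haveI hAff1 : ∀ (i j : I) (t : i ⟶ j), IsAffineHom ((D₀ D).map t) := fun i j t ↦
    inferInstanceAs (IsAffineHom (D.map t).left.hom)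
  obtain ⟨c₀, hc₀, -⟩ := Groth.Agent.H9.GLM.S2151_main (D₀ D)
  obtain ⟨i₁⟩ := IsCofiltered.nonempty (C := I)
  let J : ∀ i, ((D₀ D).obj i).IdealSheafData := fun i ↦ (D.obj i).left.mod
  have hJ : ∀ i, BlowUp.IsEffCartierIdeal (J i) := fun i ↦ (D.obj i).left.isEffCartier
  have hmin' : ∀ (i j : I) (t : i ⟶ j), ModPair.IsMinimal (J i) (J j) ((D₀ D).map t) := hmin
  -- structure map and modulus of the scheme-theoretic limit
  let σ : c₀.pt ⟶ S.total := c₀.π.app i₁ ≫ (D.obj i₁).hom.hom
  have hσ : ∀ i, c₀.π.app i ≫ (D.obj i).hom.hom = σ := by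
    intro i
    have h1 : c₀.π.app i = c₀.π.app (IsCofiltered.min i i₁) ≫
        (D₀ D).map (IsCofiltered.minToLeft i i₁) := (c₀.w _).symm
    have h2 : c₀.π.app i₁ = c₀.π.app (IsCofiltered.min i i₁) ≫
        (D₀ D).map (IsCofiltered.minToRight i i₁) := (c₀.w _).symm
    show _ = c₀.π.app i₁ ≫ (D.obj i₁).hom.hom
    rw [h1, h2, Category.assoc, Category.assoc]
    exact (congrArg (fun z ↦ c₀.π.app (IsCofiltered.min i i₁) ≫ z) (map_hom D _)).trans
      (congrArg (fun z ↦ c₀.π.app (IsCofiltered.min i i₁) ≫ z) (map_hom D _)).symm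
  let IX' : c₀.pt.IdealSheafData := (J i₁).comap (c₀.π.app i₁)
  have hIX' : ∀ i, IX' = (J i).comap (c₀.π.app i) := by
    intro i
    have h1 : c₀.π.app i = c₀.π.app (IsCofiltered.min i i₁) ≫
        (D₀ D).map (IsCofiltered.minToLeft i i₁) := (c₀.w _).symm
    have h2 : c₀.π.app i₁ = c₀.π.app (IsCofiltered.min i i₁) ≫
        (D₀ D).map (IsCofiltered.minToRight i i₁) := (c₀.w _).symm
    show (J i₁).comap (c₀.π.app i₁) = _
    rw [h1, h2, Scheme.IdealSheafData.comap_comp, Scheme.IdealSheafData.comap_comp,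
      ← hmin' _ _ (IsCofiltered.minToLeft i i₁), ← hmin' _ _ (IsCofiltered.minToRight i i₁)]
  have hIX'eff : BlowUp.IsEffCartierIdeal IX' :=
    Groth.Agent.S18744.result (D₀ D) c₀ hc₀ J hJ hmin' i₁
  let P' : ModPair.Pair.{u} := ⟨c₀.pt, IX', hIX'eff⟩
  have hamb : ModPair.IsAmbient IX' S.mod σ := by
    show (J i₁).comap (c₀.π.app i₁) ≤ S.mod.comap (c₀.π.app i₁ ≫ (D.obj i₁).hom.hom)
    rw [Scheme.IdealSheafData.comap_comp]
    exact Scheme.IdealSheafData.comap_mono _ (D.obj i₁).hom.cond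
  let σP : P' ⟶ S := ⟨σ, hamb⟩
  let legP : ∀ i, P' ⟶ (D.obj i).left := fun i ↦ ⟨c₀.π.app i, le_of_eq (hIX' i)⟩
  let cP : Cone D :=
    { pt := Over.mk σP
      π :=
        { app := fun i ↦ Over.homMk (legP i) (ModPair.Pair.Hom.ext (hσ i))
          naturality := by
            intro i j t
            ext
            exact ModPair.Pair.Hom.ext ((Category.id_comp _).trans (c₀.w t).symm) } }
  let u : cP.pt ⟶ c.pt := hc.lift cP
  have hu : ∀ i, u.left.hom ≫ (c.π.app i).left.hom = c₀.π.app i := fun i ↦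
    congrArg (fun z ↦ ModPair.Pair.Hom.hom (CommaMorphism.left z)) (hc.fac cP i)
  let cS : Cone (D₀ D) :=
    { pt := c.pt.left.total
      π :=
        { app := fun i ↦ (c.π.app i).left.hom
          naturality := by
            intro i j t
            have := congrArg (fun z ↦ ModPair.Pair.Hom.hom (CommaMorphism.left z)) (c.w t)
            exact (Category.id_comp _).trans this.symm } }
  let v : c.pt.left.total ⟶ c₀.pt := hc₀.lift cS
  have hv : ∀ i, v ≫ c₀.π.app i = (c.π.app i).left.hom := fun i ↦ hc₀.fac cS i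
  have hvamb : ModPair.IsAmbient c.pt.left.mod IX' v := by
    show c.pt.left.mod ≤ IX'.comap v
    rw [hIX' i₁, ← Scheme.IdealSheafData.comap_comp, hv]
    exact (c.π.app i₁).left.cond
  have hvσ : v ≫ σ = c.pt.hom.hom := by
    show v ≫ c₀.π.app i₁ ≫ (D.obj i₁).hom.hom = _
    rw [← Category.assoc, hv]
    exact congrArg ModPair.Pair.Hom.hom (Over.w (c.π.app i₁))
  let vP : c.pt ⟶ cP.pt := Over.homMk (⟨v, hvamb⟩ : c.pt.left ⟶ P') (ModPair.Pair.Hom.ext hvσ)
  have hvu : vP ≫ u = 𝟙 c.pt := by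
    refine hc.hom_ext (fun i ↦ ?_)
    rw [Category.assoc, hc.fac cP i, Category.id_comp]
    ext
    exact ModPair.Pair.Hom.ext (hv i)
  have hvu' : v ≫ u.left.hom = 𝟙 _ :=
    congrArg (fun z ↦ ModPair.Pair.Hom.hom (CommaMorphism.left z)) hvu
  have huv : u.left.hom ≫ v = 𝟙 _ := by
    refine hc₀.hom_ext (fun i ↦ ?_)
    exact ((Category.assoc _ _ _).trans ((congrArg (fun z ↦ u.left.hom ≫ z) (hv i)).trans
      (hu i))).trans (Category.id_comp _).symm
  refine ⟨⟨?_⟩, fun i ↦ ?_⟩
  · -- the limit property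
    let cX' : Cone (D ⋙ U S) :=
      { pt := Over.mk σ
        π :=
          { app := fun i ↦ Over.homMk (c₀.π.app i) (hσ i)
            naturality := by
              intro i j t
              ext
              exact (Category.id_comp _).trans (c₀.w t).symm } }
    have hcX' : IsLimit cX' := by
      apply isLimitOfReflects (Over.forget S.total)
      exact hc₀.ofIsoLimit (Cone.ext (Iso.refl _) (fun i ↦ by simp [cX']))
    refine hcX'.ofIsoLimit (Cone.ext (Over.isoMk ⟨u.left.hom, v, huv, hvu'⟩ ?_) (fun i ↦ ?_))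
    · exact congrArg ModPair.Pair.Hom.hom (Over.w u)
    · ext
      exact (hu i).symm
  · refine le_antisymm (c.π.app i).left.cond ?_
    have h1 : (D.obj i).left.mod.comap (c.π.app i).left.hom = IX'.comap v := by
      rw [hIX' i, ← Scheme.IdealSheafData.comap_comp, hv]
      rfl
    rw [h1]
    refine (Scheme.IdealSheafData.comap_mono v u.left.cond).trans (le_of_eq ?_)
    show (c.pt.left.mod.comap u.left.hom).comap v = _
    rw [← Scheme.IdealSheafData.comap_comp, hvu', Scheme.IdealSheafData.comap_id]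

end

end Groth.Agent.H9.PLM
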