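import Mathlib
import Groth.Agent.Lib.Helper9.Misc.MSY3
import Groth.Agent.Lib.Helper9.Misc.PLM1
import Groth.Agent.Lib.Helper9.Misc.DSC2
import Groth.Agent.Lib.Helper9.Misc.EPI1

/-!
# Geometric input for the colimit of Hom-sets in the localized category of modulus pairs
-/

set_option autoImplicit false

namespace Groth.Agent.H9.MSY.Sys

open CategoryTheory Limits AlgebraicGeometry Groth.Agent.H9.MDP

universe u

variable {K : Type u} [SmallCategory K] {Sb : Scheme.{u}} (d : Sys K Sb)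

lemma IXL_eff : BlowUp.IsEffCartierIdeal (d.IX.comap d.rL) :=
  isEffCartier_comap_fst_mprod d.tL d.sk d.IX d.IYk d.hIXeff d.hIYk

lemma rL_admBlowup : ModPair.IsAdmBlowup (d.IX.comap d.rL) d.IX d.rL :=
  isAdmBlowup_rM d.JB d.sk d.IYk d.tL d.IX d.hIX d.hsk

lemma rL_tL : d.rL ≫ d.tL = d.qL ≫ d.sk := rM_t d.sk d.IYk d.tL d.IX

lemma q_amb (ν : K) : d.IM ν = d.IYk.comap (d.q ν) := by
  have h1 : d.IYk = d.JB.comap d.sk := d.hsk.1
  rw [h1, ← Scheme.IdealSheafData.comap_comp, ← d.r_τ, Scheme.IdealSheafData.comap_comp,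
    ← d.hJEmin ν]
  rfl

lemma qL_amb : d.IX.comap d.rL = d.IYk.comap d.qL := by
  have h1 : d.IYk = d.JB.comap d.sk := d.hsk.1
  rw [h1, ← Scheme.IdealSheafData.comap_comp, ← d.rL_tL, Scheme.IdealSheafData.comap_comp,
    ← d.hIX]

end Groth.Agent.H9.MSY.Sys

namespace Groth.Agent.H9.FIN

open CategoryTheory Limits AlgebraicGeometry Groth.Agent.H9.MDP Groth.Agent.H9.MSY

universe u

variable {S : ModPair.Pair.{u}}
  {I : Type u} [SmallCategory I] [IsCofiltered I] (D : I ⥤ Over S) (c : Cone D) (hc : IsLimit c)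
  [∀ (i j : I) (t : i ⟶ j), IsAffineHom (D.map t).left.hom]
  (hmin : ∀ (i j : I) (t : i ⟶ j),
    ModPair.IsMinimal (D.obj i).left.mod (D.obj j).left.mod (D.map t).left.hom)

/-- the system over `k` attached to an admissible blow-up of the `k`-th stage -/
noncomputable def mkSys (k : I) {Yk : Scheme.{u}} (sk : Yk ⟶ (D.obj k).left.total)
    (IYk : Yk.IdealSheafData) (hIYk : BlowUp.IsEffCartierIdeal IYk)
    (hsk : ModPair.IsAdmBlowup IYk (D.obj k).left.mod sk) : Sys (Over k) S.total where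
  E := Over.forget k ⋙ D ⋙ PLM.U S
  B := (D.obj k).left.total
  Yk := Yk
  JB := (D.obj k).left.mod
  sk := sk
  IYk := IYk
  τ ν := (D.map ν.hom).left.hom
  hτ {ν ν'} a := by
    show (D.map a.left).left.hom ≫ (D.map ν'.hom).left.hom = (D.map ν.hom).left.hom
    rw [← Over.w a, D.map_comp]
    rfl
  JE ν := (D.obj ν.left).left.mod
  hJE ν := (D.obj ν.left).left.isEffCartier
  hJEmin ν := hmin _ _ ν.hom
  hIYk := hIYk
  hsk := hsk
  cE := ((PLM.U S).mapCone c).whisker (Over.forget k)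
  hcE := (Functor.Initial.isLimitWhiskerEquiv (Over.forget k) _).symm
    (PLM.main D c hc hmin).1.some
  tL := (c.π.app k).left.hom
  htL ν := by
    show (c.π.app ν.left).left.hom ≫ (D.map ν.hom).left.hom = (c.π.app k).left.hom
    rw [← c.w ν.hom]
    rfl
  IX := c.pt.left.mod
  hIX := (PLM.main D c hc hmin).2 k
  hIXeff := c.pt.left.isEffCartier
  aff a := inferInstanceAs (IsAffineHom (D.map a.left).left.hom)

section Geom

variable [CompactSpace S.total] [QuasiSeparatedSpace S.total]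
  [∀ i, CompactSpace (D.obj i).left.total] [∀ i, QuasiSeparatedSpace (D.obj i).left.total]

include hc hmin in
theorem geomSurj (Y : Over S) [CompactSpace Y.left.total] [QuasiSeparatedSpace Y.left.total]
    [LocallyOfFiniteType Y.hom.hom]
    (h : (∀ (i j : I) (t : i ⟶ j), IsSchemeTheoreticallyDominant (D.map t).left.hom) ∨
      LocallyOfFinitePresentation Y.hom.hom)
    (X' : ModPair.Pair.{u}) (s : X' ⟶ c.pt.left) (hs : ModPair.Pair.admBlowup s)
    (f : X' ⟶ Y.left) (hf : f ≫ Y.hom = s ≫ c.pt.hom) :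
    ∃ (i : I) (Mi : ModPair.Pair.{u}) (r : Mi ⟶ (D.obj i).left) (_ : ModPair.Pair.admBlowup r)
      (fi : Mi ⟶ Y.left) (g : X' ⟶ Mi),
      fi ≫ Y.hom = r ≫ (D.obj i).hom ∧ g ≫ r = s ≫ (c.π.app i).left ∧ g ≫ fi = f := by
  obtain ⟨⟨hlimU⟩, hIXall⟩ := PLM.main D c hc hmin
  haveI : IsConnected I := IsCofiltered.isConnected _
  have hcs : IsLimit ((Over.forget S.total).mapCone ((PLM.U S).mapCone c)) :=
    isLimitOfPreserves (Over.forget S.total) hlimU
  haveI : ∀ (i j : I) (t : i ⟶ j), IsAffineHom ((PLM.D₀ D).map t) := fun i j t ↦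
    inferInstanceAs (IsAffineHom (D.map t).left.hom)
  haveI : ∀ i, CompactSpace ((PLM.D₀ D).obj i) := fun i ↦
    inferInstanceAs (CompactSpace (D.obj i).left.total)
  haveI : ∀ i, QuasiSeparatedSpace ((PLM.D₀ D).obj i) := fun i ↦
    inferInstanceAs (QuasiSeparatedSpace (D.obj i).left.total)
  have hs0 : ModPair.IsAdmBlowup X'.mod c.pt.left.mod s.hom := hs
  have hs1 : X'.mod = c.pt.left.mod.comap s.hom := hs0.1
  have hY0 : BlowUp.IsEffCartierIdeal (c.pt.left.mod.comap s.hom) := hs1 ▸ X'.isEffCartier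
  have hs2 : ModPair.IsAdmBlowup (c.pt.left.mod.comap s.hom) c.pt.left.mod s.hom := hs1 ▸ hs0
  obtain ⟨k, Yk, IYk, sk, hIYk, hsk, e, he⟩ := DSC.main (PLM.D₀ D)
    ((Over.forget S.total).mapCone ((PLM.U S).mapCone c)) hcs
    (fun i ↦ (D.obj i).left.mod) (fun i ↦ (D.obj i).left.isEffCartier) hmin
    c.pt.left.mod hIXall s.hom hY0 hs2
  let d := mkSys D c hc hmin k sk IYk hIYk hsk
  obtain ⟨e, he⟩ : ∃ e : X'.total ≅ d.ML, e.hom ≫ d.rL = s.hom := ⟨e, he⟩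
  -- the morphism to descend
  have hfh : f.hom ≫ Y.hom.hom = s.hom ≫ c.pt.hom.hom := congrArg ModPair.Pair.Hom.hom hf
  have hmodX' : X'.mod = (d.IX.comap d.rL).comap e.hom := by
    rw [← Scheme.IdealSheafData.comap_comp, he]
    exact hs1
  haveI : CompactSpace ((PLM.U S).obj Y).left := inferInstanceAs (CompactSpace Y.left.total)
  haveI : QuasiSeparatedSpace ((PLM.U S).obj Y).left :=
    inferInstanceAs (QuasiSeparatedSpace Y.left.total)
  haveI : LocallyOfFiniteType ((PLM.U S).obj Y).hom :=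
    inferInstanceAs (LocallyOfFiniteType Y.hom.hom)
  have hqc : ∀ ν, CompactSpace (d.E.obj ν).left := fun ν ↦
    inferInstanceAs (CompactSpace (D.obj ν.left).left.total)
  have hqs : ∀ ν, QuasiSeparatedSpace (d.E.obj ν).left := fun ν ↦
    inferInstanceAs (QuasiSeparatedSpace (D.obj ν.left).left.total)
  have h' : (∀ {ν ν' : Over k} (a : ν ⟶ ν'), IsSchemeTheoreticallyDominant (d.E.map a).left) ∨
      LocallyOfFinitePresentation ((PLM.U S).obj Y).hom :=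
    h.imp (fun h _ _ a ↦ h _ _ a.left) (fun h ↦ h)
  have hf' : (e.inv ≫ f.hom) ≫ ((PLM.U S).obj Y).hom = d.rL ≫ d.cE.pt.hom := by
    show (e.inv ≫ f.hom) ≫ Y.hom.hom = d.rL ≫ c.pt.hom.hom
    have h4 : s.hom ≫ c.pt.hom.hom = e.hom ≫ d.rL ≫ c.pt.hom.hom :=
      (congrArg (fun z ↦ z ≫ c.pt.hom.hom) he.symm).trans (Category.assoc _ _ _)
    rw [Category.assoc, hfh, h4, Iso.inv_hom_id_assoc]
  have hamb : ModPair.IsAmbient (d.IX.comap d.rL) Y.left.mod (e.inv ≫ f.hom) := by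
    have h1 : d.IX.comap d.rL = X'.mod.comap e.inv := by
      rw [hmodX', ← Scheme.IdealSheafData.comap_comp, Iso.inv_hom_id,
        Scheme.IdealSheafData.comap_id]
    show d.IX.comap d.rL ≤ Y.left.mod.comap (e.inv ≫ f.hom)
    rw [h1, Scheme.IdealSheafData.comap_comp]
    exact Scheme.IdealSheafData.comap_mono e.inv f.cond
  obtain ⟨ν, fν, h1, h2, h3⟩ := d.descend_hom hqc hqs ((PLM.U S).obj Y) Y.left.mod
    Y.left.isEffCartier h' (e.inv ≫ f.hom) hf' hamb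
  have hg : ModPair.IsAmbient X'.mod (d.IM ν) (e.hom ≫ d.mL ν) := by
    show X'.mod ≤ (d.IM ν).comap (e.hom ≫ d.mL ν)
    rw [Scheme.IdealSheafData.comap_comp, ← d.IXL_min ν, ← hmodX']
  refine ⟨ν.left, ⟨d.M ν, d.IM ν, d.IM_eff ν⟩, ⟨d.r ν, le_of_eq rfl⟩, d.r_admBlowup ν,
    ⟨fν, h2⟩, ⟨e.hom ≫ d.mL ν, hg⟩, ?_, ?_, ?_⟩
  · exact ModPair.Pair.Hom.ext h1
  · apply ModPair.Pair.Hom.ext
    show (e.hom ≫ d.mL ν) ≫ d.r ν = s.hom ≫ (c.π.app ν.left).left.hom
    rw [Category.assoc, d.mL_r, ← Category.assoc, he]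
    rfl
  · apply ModPair.Pair.Hom.ext
    show (e.hom ≫ d.mL ν) ≫ fν = f.hom
    rw [Category.assoc, h3, Iso.hom_inv_id_assoc]

include hc hmin in
theorem geomInj (Y : Over S) [LocallyOfFiniteType Y.hom.hom] (i : I)
    (X' : ModPair.Pair.{u}) (s : X' ⟶ (D.obj i).left) (hs : ModPair.Pair.admBlowup s)
    (f₁ f₂ : X' ⟶ Y.left) (h₁ : f₁ ≫ Y.hom = s ≫ (D.obj i).hom)
    (h₂ : f₂ ≫ Y.hom = s ≫ (D.obj i).hom) :
    ∃ (ML : ModPair.Pair.{u}) (rL : ML ⟶ c.pt.left) (_ : ModPair.Pair.admBlowup rL)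
      (qL : ML ⟶ X'), rL ≫ (c.π.app i).left = qL ≫ s ∧
        (qL ≫ f₁ = qL ≫ f₂ → ∃ (j : Over i) (Mj : ModPair.Pair.{u})
          (rj : Mj ⟶ (D.obj j.left).left) (_ : ModPair.Pair.admBlowup rj) (qj : Mj ⟶ X'),
          rj ≫ (D.map j.hom).left = qj ≫ s ∧ qj ≫ f₁ = qj ≫ f₂) := by
  have hs0 : ModPair.IsAdmBlowup X'.mod (D.obj i).left.mod s.hom := hs
  let d := mkSys D c hc hmin i s.hom X'.mod X'.isEffCartier hs0
  haveI : LocallyOfFiniteType ((PLM.U S).obj Y).hom :=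
    inferInstanceAs (LocallyOfFiniteType Y.hom.hom)
  have hqc : ∀ ν, CompactSpace (d.E.obj ν).left := fun ν ↦
    inferInstanceAs (CompactSpace (D.obj ν.left).left.total)
  refine ⟨⟨d.ML, d.IX.comap d.rL, d.IXL_eff⟩, ⟨d.rL, le_of_eq rfl⟩, d.rL_admBlowup,
    ⟨d.qL, le_of_eq d.qL_amb⟩, ?_, ?_⟩
  · apply ModPair.Pair.Hom.ext
    exact d.rL_tL
  · intro hq
    have hq' : d.qL ≫ f₁.hom = d.qL ≫ f₂.hom := congrArg ModPair.Pair.Hom.hom hq
    obtain ⟨ν', hν'⟩ := d.descend_eq_q hqc ((PLM.U S).obj Y) (D.obj i).hom.hom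
      (fun ν ↦ PLM.map_hom D ν.hom) f₁.hom f₂.hom (congrArg ModPair.Pair.Hom.hom h₁)
      (congrArg ModPair.Pair.Hom.hom h₂) hq'
    refine ⟨ν', ⟨d.M ν', d.IM ν', d.IM_eff ν'⟩, ⟨d.r ν', le_of_eq rfl⟩, d.r_admBlowup ν',
      ⟨d.q ν', le_of_eq (d.q_amb ν')⟩, ?_, ?_⟩
    · apply ModPair.Pair.Hom.ext
      exact d.r_τ ν'
    · exact ModPair.Pair.Hom.ext hν'

end Geom

theorem hepi {A B Z : ModPair.Pair.{u}} (t : Z ⟶ A) (ht : ModPair.Pair.admBlowup t)
    (a b : A ⟶ B) (h : t ≫ a = t ≫ b) : a = b := by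
  have ht0 : ModPair.IsAdmBlowup Z.mod A.mod t.hom := ht
  haveI : IsProper t.hom := ht0.2.1
  exact ModPair.Pair.Hom.ext (EPI.eq_of_admBlowup_comp A.mod A.isEffCartier t.hom ht0.2.2
    a.hom b.hom (congrArg ModPair.Pair.Hom.hom h))

end Groth.Agent.H9.FIN
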