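import Mathlib

set_option autoImplicit false
set_option linter.unusedSectionVars false
set_option linter.unusedVariables false

namespace Groth.Agent.H9.FLaf

universe v

section Len

variable {W : Type*} [CommRing W] (σ : W →+* W) [RingHomSurjective σ]

theorem length_eq_of_bijective {A B : Type*} [AddCommGroup A] [Module W A] [AddCommGroup B]
    [Module W B] (f : A →ₛₗ[σ] B) (hf : Function.Bijective f) :
    Module.length W A = Module.length W B := by
  rw [Module.length_eq_height, Module.length_eq_height]
  have h := Order.height_orderIso (Submodule.orderIsoMapComapOfBijective f hf) ⊤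
  rw [← h]
  congr 1
  show Submodule.map f ⊤ = ⊤
  rw [Submodule.map_top, LinearMap.range_eq_top]
  exact hf.2

theorem length_eq_add_of_surjective {A B : Type*} [AddCommGroup A] [Module W A] [AddCommGroup B]
    [Module W B] (f : A →ₛₗ[σ] B) (hf : Function.Surjective f) :
    Module.length W A = Module.length W (LinearMap.ker f) + Module.length W B := by
  have h1 := Module.length_eq_add_of_exact (LinearMap.ker f).subtype (LinearMap.ker f).mkQ
    (Submodule.injective_subtype _) (Submodule.mkQ_surjective _)
    (LinearMap.exact_subtype_mkQ _)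
  rw [h1]
  congr 1
  refine length_eq_of_bijective σ ((LinearMap.ker f).liftQ f le_rfl) ⟨?_, ?_⟩
  · rw [← LinearMap.ker_eq_bot]
    exact Submodule.ker_liftQ_eq_bot _ _ _ le_rfl
  · rw [← LinearMap.range_eq_top, Submodule.range_liftQ]
    exact LinearMap.range_eq_top.mpr hf

end Len

section Data

variable {W : Type*} [CommRing W] (σ : W →+* W)
  (r : ℕ) (N : ℕ → Type v) [∀ i, AddCommGroup (N i)] [∀ i, Module W (N i)]
  (c : W) (α : ∀ i, N (i + 1) →ₗ[W] N i) (φ : ∀ i, N i →ₛₗ[σ] N 0)

def iotaFun (z : ∀ i, N (i + 1)) : ∀ i, N i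
  | 0 => α 0 (z 0)
  | (i + 1) => α (i + 1) (z (i + 1)) - c • z i

@[simp] theorem iotaFun_zero (z : ∀ i, N (i + 1)) : iotaFun N c α z 0 = α 0 (z 0) := rfl

@[simp] theorem iotaFun_succ (z : ∀ i, N (i + 1)) (i : ℕ) :
    iotaFun N c α z (i + 1) = α (i + 1) (z (i + 1)) - c • z i := rfl

def iotaLin : (∀ i, N (i + 1)) →ₗ[W] (∀ i, N i) where
  toFun := iotaFun N c α
  map_add' z z' := by
    funext i
    cases i with
    | zero => simp
    | succ i => simp [smul_add]; abel
  map_smul' a z := by
    funext i
    cases i with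
    | zero => simp
    | succ i => simp [smul_sub, smul_comm a c]

def XX : Submodule W (∀ i, N (i + 1)) where
  carrier := {z | ∀ i, r ≤ i → z i = 0}
  add_mem' := by
    intro a b ha hb i hi
    simp [ha i hi, hb i hi]
  zero_mem' := by intro i _; rfl
  smul_mem' := by
    intro a z hz i hi
    simp [hz i hi]

def YY : Submodule W (∀ i, N i) where
  carrier := {y | ∀ i, r < i → y i = 0}
  add_mem' := by
    intro a b ha hb i hi
    simp [ha i hi, hb i hi]
  zero_mem' := by intro i _; rfl
  smul_mem' := by
    intro a z hz i hi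
    simp [hz i hi]

theorem mem_XX (z : ∀ i, N (i + 1)) : z ∈ XX (W := W) r N ↔ ∀ i, r ≤ i → z i = 0 := Iff.rfl

theorem mem_YY (y : ∀ i, N i) : y ∈ YY (W := W) r N ↔ ∀ i, r < i → y i = 0 := Iff.rfl

theorem iota_mem (z : ∀ i, N (i + 1)) (hz : z ∈ XX (W := W) r N) :
    iotaLin N c α z ∈ YY (W := W) r N := by
  intro i hi
  cases i with
  | zero => omega
  | succ i =>
    show α (i + 1) (z (i + 1)) - c • z i = 0
    rw [hz i (by omega), hz (i + 1) (by omega)]
    simp

def PhiLin : (∀ i, N i) →ₛₗ[σ] N 0 where
  toFun y := ∑ i ∈ Finset.range (r + 1), φ i (y i)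
  map_add' y y' := by simp [Finset.sum_add_distrib]
  map_smul' a y := by simp [Finset.smul_sum]

theorem PhiLin_apply (y : ∀ i, N i) :
    PhiLin σ r N φ y = ∑ i ∈ Finset.range (r + 1), φ i (y i) := rfl

/-- shift decomposition `Y ≃ N 0 × X` -/
def eY : YY (W := W) r N ≃ₗ[W] N 0 × XX (W := W) r N where
  toFun y := (y.1 0, ⟨fun i => y.1 (i + 1), fun i hi => y.2 (i + 1) (by omega)⟩)
  map_add' y y' := by
    apply Prod.ext
    · rfl
    · apply Subtype.ext; rfl
  map_smul' a y := by
    apply Prod.ext
    · rfl
    · apply Subtype.ext; rfl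
  invFun p := ⟨fun i => match i with
    | 0 => p.1
    | (i + 1) => p.2.1 i, by
      intro i hi
      cases i with
      | zero => omega
      | succ i => exact p.2.2 i (by omega)⟩
  left_inv y := by
    apply Subtype.ext
    funext i
    cases i <;> rfl
  right_inv p := by
    apply Prod.ext
    · rfl
    · apply Subtype.ext; rfl

def eX : XX (W := W) r N ≃ₗ[W] (∀ j : Fin r, N (j + 1)) where
  toFun z := fun j => z.1 j
  map_add' z z' := rfl
  map_smul' a z := rfl
  invFun w := ⟨fun i => if h : i < r then w ⟨i, h⟩ else 0, by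
    intro i hi
    dsimp only
    rw [dif_neg (by omega)]⟩
  left_inv z := by
    apply Subtype.ext
    funext i
    by_cases h : i < r
    · simp [h]
    · simp only [h, dite_false]
      exact (z.2 i (by omega)).symm
  right_inv w := by
    funext j
    simp [j.2]

end Data

end Groth.Agent.H9.FLaf
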