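import Mathlib
import Groth.Agent.Lib.Helper9.Misc.FLA

set_option autoImplicit false
set_option linter.unusedSectionVars false
set_option linter.unusedVariables false

namespace Groth.Agent.H9.FLaf

universe v

theorem enat_aux (a x y kΦ kι ρ : ℕ∞) (ha : a ≠ ⊤) (hx : x ≠ ⊤) (h1 : y = a + x)
    (h2 : y = kΦ + a) (h3 : kΦ ≤ ρ) (h4 : x = kι + ρ) : kι = 0 := by
  have hρ : ρ ≠ ⊤ := ne_top_of_le_ne_top hx (h4 ▸ le_add_self)
  have hkι : kι ≠ ⊤ := ne_top_of_le_ne_top hx (h4 ▸ le_self_add)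
  have hkΦ : kΦ ≠ ⊤ := ne_top_of_le_ne_top hρ h3
  lift a to ℕ using ha
  lift x to ℕ using hx
  lift ρ to ℕ using hρ
  lift kι to ℕ using hkι
  lift kΦ to ℕ using hkΦ
  subst h1
  norm_cast at *
  omega

variable {W : Type*} [CommRing W] (σ : W →+* W) [RingHomSurjective σ]
  (r : ℕ) (N : ℕ → Type v) [∀ i, AddCommGroup (N i)] [∀ i, Module W (N i)]
  (c : W) (α : ∀ i, N (i + 1) →ₗ[W] N i) (φ : ∀ i, N i →ₛₗ[σ] N 0)

theorem inj_of_FL (hfl : ∀ i, IsFiniteLength W (N i))
    (hsurj : ∀ m : N 0, ∃ y : (i : ℕ) → N i, (∀ i, r < i → y i = 0) ∧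
      (Finset.range (r + 1)).sum (fun i => φ i (y i)) = m)
    (hker : ∀ y : (i : ℕ) → N i, (∀ i, r < i → y i = 0) →
      (Finset.range (r + 1)).sum (fun i => φ i (y i)) = 0 →
        ∃ z : (i : ℕ) → N (i + 1), (∀ i, r ≤ i → z i = 0) ∧
          y 0 = α 0 (z 0) ∧ ∀ i, y (i + 1) = α (i + 1) (z (i + 1)) - c • z i)
    (z : ∀ i, N (i + 1)) (hz : ∀ i, r ≤ i → z i = 0)
    (h0 : α 0 (z 0) = 0) (hs : ∀ i, α (i + 1) (z (i + 1)) - c • z i = 0) : z = 0 := by
  let ιX : XX (W := W) r N →ₗ[W] YY (W := W) r N :=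
    (iotaLin N c α).restrict (fun z hz => iota_mem r N c α z hz)
  let ΦY : YY (W := W) r N →ₛₗ[σ] N 0 := (PhiLin σ r N φ).domRestrict (YY (W := W) r N)
  have hΦsurj : Function.Surjective ΦY := by
    intro m
    obtain ⟨y, hy, hym⟩ := hsurj m
    exact ⟨⟨y, hy⟩, hym⟩
  have hkerle : LinearMap.ker ΦY ≤ LinearMap.range ιX := by
    intro y hy
    obtain ⟨z', hz', h0', hs'⟩ := hker y.1 y.2 hy
    refine ⟨⟨z', hz'⟩, Subtype.ext ?_⟩
    funext i
    cases i with
    | zero => exact h0'.symm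
    | succ i => exact (hs' i).symm
  have hN0 : Module.length W (N 0) ≠ ⊤ := Module.length_ne_top_iff.mpr (hfl 0)
  have hX : Module.length W (XX (W := W) r N) ≠ ⊤ := by
    rw [(eX r N).length_eq, Module.length_pi_of_fintype, ENat.sum_ne_top]
    intro j _
    exact Module.length_ne_top_iff.mpr (hfl _)
  have h1 : Module.length W (YY (W := W) r N) =
      Module.length W (N 0) + Module.length W (XX (W := W) r N) := by
    rw [(eY r N).length_eq, Module.length_prod]
  have h2 := length_eq_add_of_surjective σ ΦY hΦsurj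
  have h3 : Module.length W (LinearMap.ker ΦY) ≤ Module.length W (LinearMap.range ιX) :=
    Module.length_le_of_injective (Submodule.inclusion hkerle) (Submodule.inclusion_injective _)
  have h4 : Module.length W (XX (W := W) r N) =
      Module.length W (LinearMap.ker ιX) + Module.length W (LinearMap.range ιX) :=
    Module.length_eq_add_of_exact (LinearMap.ker ιX).subtype ιX.rangeRestrict
      (Submodule.injective_subtype _) (LinearMap.surjective_rangeRestrict _)
      (LinearMap.exact_iff.mpr (by rw [LinearMap.ker_rangeRestrict, Submodule.range_subtype]))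
  have h5 := enat_aux _ _ _ _ _ _ hN0 hX h1 h2 h3 h4
  haveI : Subsingleton (LinearMap.ker ιX) := Module.length_eq_zero_iff.mp h5
  have hmem : (⟨z, hz⟩ : XX (W := W) r N) ∈ LinearMap.ker ιX := by
    rw [LinearMap.mem_ker]
    apply Subtype.ext
    funext i
    cases i with
    | zero => exact h0
    | succ i => exact hs i
  have h6 : (⟨⟨z, hz⟩, hmem⟩ : LinearMap.ker ιX) = 0 := Subsingleton.elim _ _
  have h7 := congrArg (fun t : LinearMap.ker ιX => (t : XX (W := W) r N).1) h6
  exact h7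

end Groth.Agent.H9.FLaf
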