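import Mathlib
import Groth.Agent.Lib.Helper9.Misc.FLB

set_option autoImplicit false
set_option linter.unusedSectionVars false
set_option linter.unusedVariables false

namespace Groth.Agent.H9.FLaf

universe v

section Pn

variable {W : Type*} [CommRing W] (c : W) (n : ℕ)

/-- the submodule `c^n A` -/
def Pn (A : Type*) [AddCommGroup A] [Module W A] : Submodule W A :=
  LinearMap.range (LinearMap.lsmul W A (c ^ n))

theorem mem_Pn {A : Type*} [AddCommGroup A] [Module W A] (x : A) :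
    x ∈ Pn c n A ↔ ∃ y : A, c ^ n • y = x := by
  rw [Pn, LinearMap.mem_range]
  rfl

end Pn

variable {W : Type*} [CommRing W] (σ : W →+* W) [RingHomSurjective σ]
  (r : ℕ) (N : ℕ → Type v) [∀ i, AddCommGroup (N i)] [∀ i, Module W (N i)]
  (c : W) (α : ∀ i, N (i + 1) →ₗ[W] N i) (φ : ∀ i, N i →ₛₗ[σ] N 0)

abbrev NQ (n : ℕ) (i : ℕ) : Type v := N i ⧸ Pn c n (N i)

theorem alpha_le (n : ℕ) (i : ℕ) : Pn c n (N (i + 1)) ≤ (Pn c n (N i)).comap (α i) := by
  intro x hx
  obtain ⟨y, rfl⟩ := (mem_Pn c n x).mp hx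
  rw [Submodule.mem_comap, map_smul]
  exact (mem_Pn c n _).mpr ⟨_, rfl⟩

theorem phi_le (hc : σ c = c) (n : ℕ) (i : ℕ) : Pn c n (N i) ≤ (Pn c n (N 0)).comap (φ i) := by
  intro x hx
  obtain ⟨y, rfl⟩ := (mem_Pn c n x).mp hx
  rw [Submodule.mem_comap, map_smulₛₗ, map_pow, hc]
  exact (mem_Pn c n _).mpr ⟨_, rfl⟩

def alphaQ (n : ℕ) (i : ℕ) : NQ N c n (i + 1) →ₗ[W] NQ N c n i :=
  (Pn c n (N (i + 1))).mapQ (Pn c n (N i)) (α i) (alpha_le N c α n i)

def phiQ (hc : σ c = c) (n : ℕ) (i : ℕ) : NQ N c n i →ₛₗ[σ] NQ N c n 0 :=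
  (Pn c n (N i)).mapQ (Pn c n (N 0)) (φ i) (phi_le σ N c φ hc n i)

theorem pure_iota (hc : σ c = c) (hfl : ∀ i, IsFiniteLength W (N i))
    (hsurj : ∀ m : N 0, ∃ y : (i : ℕ) → N i, (∀ i, r < i → y i = 0) ∧
      (Finset.range (r + 1)).sum (fun i => φ i (y i)) = m)
    (hker : ∀ y : (i : ℕ) → N i, (∀ i, r < i → y i = 0) →
      (Finset.range (r + 1)).sum (fun i => φ i (y i)) = 0 →
        ∃ z : (i : ℕ) → N (i + 1), (∀ i, r ≤ i → z i = 0) ∧
          y 0 = α 0 (z 0) ∧ ∀ i, y (i + 1) = α (i + 1) (z (i + 1)) - c • z i)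
    (n : ℕ) (z : ∀ i, N (i + 1)) (hz : ∀ i, r ≤ i → z i = 0)
    (h0 : ∃ w, c ^ n • w = α 0 (z 0))
    (hs : ∀ i, ∃ w, c ^ n • w = α (i + 1) (z (i + 1)) - c • z i) :
    ∀ i, ∃ w, c ^ n • w = z i := by
  have key := inj_of_FL σ r (NQ N c n) c (alphaQ N c α n) (phiQ σ N c φ hc n)
    (fun i => (hfl i).of_surjective (Submodule.mkQ_surjective _))
    (by
      intro m'
      obtain ⟨m, rfl⟩ := Submodule.Quotient.mk_surjective _ m'
      obtain ⟨y, hy, hym⟩ := hsurj m
      refine ⟨fun i => Submodule.Quotient.mk (y i), fun i hi => by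
        show (Submodule.Quotient.mk (y i) : NQ N c n i) = 0
        rw [hy i hi]; rfl, ?_⟩
      rw [← hym]
      simp only [phiQ, Submodule.mapQ_apply]
      rw [← Submodule.mkQ_apply, map_sum]
      rfl)
    (by
      intro y' hy' hsum
      -- lifts
      have hex : ∀ i, ∃ y : N i, Submodule.Quotient.mk y = y' i ∧ (r < i → y = 0) := by
        intro i
        by_cases hi : r < i
        · exact ⟨0, by rw [hy' i hi]; rfl, fun _ => rfl⟩
        · obtain ⟨y, hy⟩ := Submodule.Quotient.mk_surjective _ (y' i)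
          exact ⟨y, hy, fun h => absurd h hi⟩
      choose y hyq hy0 using hex
      have hs1 : (∑ i ∈ Finset.range (r + 1), φ i (y i)) ∈ Pn c n (N 0) := by
        rw [← Submodule.Quotient.mk_eq_zero, ← hsum, ← Submodule.mkQ_apply, map_sum]
        apply Finset.sum_congr rfl
        intro i _
        rw [← hyq i]
        simp only [phiQ, Submodule.mapQ_apply]
        rfl
      obtain ⟨m, hm⟩ := (mem_Pn c n _).mp hs1
      obtain ⟨y'', hy'', hym''⟩ := hsurj m
      obtain ⟨z, hz, hz0, hzs⟩ := hker (fun i => y i - c ^ n • y'' i)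
        (fun i hi => by rw [hy0 i hi, hy'' i hi, smul_zero, sub_zero])
        (by
          simp only [map_sub, map_smulₛₗ, map_pow, hc, Finset.sum_sub_distrib, ← Finset.smul_sum]
          rw [hym'', hm, sub_self])
      refine ⟨fun i => Submodule.Quotient.mk (z i), fun i hi => by
        show (Submodule.Quotient.mk (z i) : NQ N c n (i + 1)) = 0
        rw [hz i hi]; rfl, ?_, ?_⟩
      · rw [← hyq 0]
        simp only [alphaQ, Submodule.mapQ_apply]
        rw [← hz0, Submodule.Quotient.mk_sub]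
        have : (Submodule.Quotient.mk (c ^ n • y'' 0) : NQ N c n 0) = 0 :=
          (Submodule.Quotient.mk_eq_zero _).mpr ((mem_Pn c n _).mpr ⟨_, rfl⟩)
        rw [this, sub_zero]
      · intro i
        rw [← hyq (i + 1)]
        simp only [alphaQ, Submodule.mapQ_apply]
        rw [← Submodule.Quotient.mk_smul, ← Submodule.Quotient.mk_sub, ← hzs i,
          Submodule.Quotient.mk_sub]
        have : (Submodule.Quotient.mk (c ^ n • y'' (i + 1)) : NQ N c n (i + 1)) = 0 :=
          (Submodule.Quotient.mk_eq_zero _).mpr ((mem_Pn c n _).mpr ⟨_, rfl⟩)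
        rw [this, sub_zero])
    (fun i => Submodule.Quotient.mk (z i))
    (fun i hi => by
      show (Submodule.Quotient.mk (z i) : NQ N c n (i + 1)) = 0
      rw [hz i hi]; rfl)
    (by
      simp only [alphaQ, Submodule.mapQ_apply]
      exact (Submodule.Quotient.mk_eq_zero _).mpr ((mem_Pn c n _).mpr h0))
    (by
      intro i
      simp only [alphaQ, Submodule.mapQ_apply]
      rw [← Submodule.Quotient.mk_smul, ← Submodule.Quotient.mk_sub]
      exact (Submodule.Quotient.mk_eq_zero _).mpr ((mem_Pn c n _).mpr (hs i)))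
  intro i
  have := congrFun key i
  exact (mem_Pn c n _).mp ((Submodule.Quotient.mk_eq_zero _).mp this)

def sgl (i : ℕ) (u : N (i + 1)) : ∀ j, N (j + 1) := Pi.single (M := fun j => N (j + 1)) i u

theorem sgl_same (i : ℕ) (u : N (i + 1)) : sgl N i u i = u :=
  Pi.single_eq_same (M := fun j => N (j + 1)) i u

theorem sgl_ne {i j : ℕ} (h : j ≠ i) (u : N (i + 1)) : sgl N i u j = 0 :=
  Pi.single_eq_of_ne (M := fun j => N (j + 1)) h u

theorem pure_alpha (hc : σ c = c) (hfl : ∀ i, IsFiniteLength W (N i))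
    (hsurj : ∀ m : N 0, ∃ y : (i : ℕ) → N i, (∀ i, r < i → y i = 0) ∧
      (Finset.range (r + 1)).sum (fun i => φ i (y i)) = m)
    (hker : ∀ y : (i : ℕ) → N i, (∀ i, r < i → y i = 0) →
      (Finset.range (r + 1)).sum (fun i => φ i (y i)) = 0 →
        ∃ z : (i : ℕ) → N (i + 1), (∀ i, r ≤ i → z i = 0) ∧
          y 0 = α 0 (z 0) ∧ ∀ i, y (i + 1) = α (i + 1) (z (i + 1)) - c • z i) :
    ∀ (n : ℕ) (i : ℕ) (hi : i < r) (u : N (i + 1)), (∃ w, c ^ n • w = α i u) →
      ∃ w, c ^ n • w = u := by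
  intro n
  induction n with
  | zero => intro i hi u _; exact ⟨u, by simp⟩
  | succ n ih =>
    intro i hi u hu
    obtain ⟨w, hw⟩ := hu
    obtain ⟨v, hv⟩ := ih i hi u ⟨c • w, by rw [← hw, pow_succ, mul_smul]⟩
    have := pure_iota σ r N c α φ hc hfl hsurj hker (n + 1) (sgl N i u)
      (fun j hj => sgl_ne N (by omega) u)
      (by
        by_cases h : i = 0
        · subst h
          rw [sgl_same]
          exact ⟨w, hw⟩
        · rw [sgl_ne N (Ne.symm h) u, map_zero]
          exact ⟨0, smul_zero _⟩)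
      (by
        intro j
        by_cases hji : j + 1 = i
        · subst hji
          rw [sgl_same, sgl_ne N (by omega) u, smul_zero, sub_zero]
          exact ⟨w, hw⟩
        · rw [sgl_ne N hji u, map_zero, zero_sub]
          by_cases hj : j = i
          · subst hj
            rw [sgl_same]
            exact ⟨-v, by rw [smul_neg, pow_succ', mul_smul, hv]⟩
          · rw [sgl_ne N hj u, smul_zero, neg_zero]
            exact ⟨0, smul_zero _⟩)
      i
    rwa [sgl_same] at this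

theorem exists_pow_smul_eq_zero (hcj : c ∈ Ideal.jacobson (⊥ : Ideal W)) (A : Type*)
    [AddCommGroup A] [Module W A] (hA : IsFiniteLength W A) : ∃ n, ∀ a : A, c ^ n • a = 0 := by
  obtain ⟨hN, hAr⟩ := isFiniteLength_iff_isNoetherian_isArtinian.mp hA
  let f : ℕ →o (Submodule W A)ᵒᵈ :=
    ⟨fun n => OrderDual.toDual (Pn c n A), by
      intro a b hab
      show Pn c b A ≤ Pn c a A
      intro x hx
      obtain ⟨y, rfl⟩ := (mem_Pn c b x).mp hx
      refine (mem_Pn c a _).mpr ⟨c ^ (b - a) • y, ?_⟩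
      rw [← mul_smul, ← pow_add, Nat.add_sub_cancel' hab]⟩
  obtain ⟨n, hn⟩ := IsArtinian.monotone_stabilizes f
  have h1 : Pn c n A = Pn c (n + 1) A := hn (n + 1) (Nat.le_succ n)
  have h2 : Pn c n A ≤ (Ideal.span {c}) • Pn c n A := by
    rw [h1]
    intro x hx
    obtain ⟨y, rfl⟩ := (mem_Pn c (n + 1) x).mp hx
    rw [← h1, pow_succ', mul_smul]
    exact Submodule.smul_mem_smul (Ideal.mem_span_singleton_self c) ((mem_Pn c n _).mpr ⟨y, rfl⟩)
  have h3 := Submodule.eq_bot_of_le_smul_of_le_jacobson_bot (Ideal.span {c}) (Pn c n A)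
    (IsNoetherian.noetherian _) h2 ((Ideal.span_singleton_le_iff_mem _).mpr hcj)
  refine ⟨n, fun a => ?_⟩
  have : c ^ n • a ∈ Pn c n A := (mem_Pn c n _).mpr ⟨a, rfl⟩
  rw [h3] at this
  exact this

end Groth.Agent.H9.FLaf
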