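import Mathlib
import Groth.Agent.Lib.Helper9.Misc.FLC

set_option autoImplicit false
set_option linter.unusedSectionVars false
set_option linter.unusedVariables false

namespace Groth.Agent.H9.FLaf

universe u v

open DirectSum in
/-- a pure submodule of a bounded torsion finitely generated module over a PID with a unique prime
is a direct summand -/
theorem exists_isCompl_of_pure {W : Type u} [CommRing W] [IsDomain W] [IsPrincipalIdealRing W]
    (c : W) (hc0 : c ≠ 0) (hirr : ∀ q : W, Irreducible q → Associated q c)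
    {T : Type v} [AddCommGroup T] [Module W T] [Module.Finite W T]
    (hkill : ∃ n : ℕ, ∀ t : T, c ^ n • t = 0)
    (S : Submodule W T)
    (hpure : ∀ (n : ℕ) (t : T), c ^ n • t ∈ S → ∃ s ∈ S, c ^ n • s = c ^ n • t) :
    ∃ Q : Submodule W T, IsCompl S Q := by
  classical
  have htors : Module.IsTorsion W (T ⧸ S) := by
    intro x
    obtain ⟨n, hn⟩ := hkill
    obtain ⟨t, rfl⟩ := Submodule.Quotient.mk_surjective S x
    refine ⟨⟨c ^ n, mem_nonZeroDivisors_of_ne_zero (pow_ne_zero n hc0)⟩, ?_⟩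
    show c ^ n • (Submodule.Quotient.mk t : T ⧸ S) = 0
    rw [← Submodule.Quotient.mk_smul, hn t]
    rfl
  obtain ⟨ι, _, p, hp, e, ⟨Φ⟩⟩ := Module.equiv_directSum_of_isTorsion (M := T ⧸ S) htors
  -- generators
  let x : ι → T ⧸ S := fun i => Φ.symm (DirectSum.lof W ι (fun i => W ⧸ Submodule.span W {p i ^ e i}) i
    (Submodule.Quotient.mk 1))
  have hx : ∀ i, p i ^ e i • x i = 0 := by
    intro i
    show p i ^ e i • Φ.symm _ = 0
    rw [← map_smul, ← map_smul, ← Submodule.Quotient.mk_smul]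
    have : (Submodule.Quotient.mk (p i ^ e i • (1 : W)) : W ⧸ Submodule.span W {p i ^ e i}) = 0 := by
      rw [Submodule.Quotient.mk_eq_zero, smul_eq_mul, mul_one]
      exact Submodule.mem_span_singleton_self _
    rw [this, map_zero, map_zero]
  have hex : ∀ i, ∃ t' : T, Submodule.Quotient.mk t' = x i ∧ p i ^ e i • t' = 0 := by
    intro i
    obtain ⟨t, ht⟩ := Submodule.Quotient.mk_surjective S (x i)
    obtain ⟨u, hu⟩ := hirr (p i) (hp i)
    obtain ⟨u', hu'⟩ := (hirr (p i) (hp i)).symm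
    have h1 : c ^ e i • t ∈ S := by
      rw [← Submodule.Quotient.mk_eq_zero S, Submodule.Quotient.mk_smul, ht, ← hu, mul_pow, mul_comm,
        mul_smul, hx i, smul_zero]
    obtain ⟨s, hsS, hs⟩ := hpure (e i) t h1
    refine ⟨t - s, ?_, ?_⟩
    · rw [Submodule.Quotient.mk_sub, ht, (Submodule.Quotient.mk_eq_zero S).mpr hsS, sub_zero]
    · rw [← hu', mul_pow, mul_comm, mul_smul, smul_sub, hs, sub_self, smul_zero]
  choose t' ht' ht'0 using hex
  let g : (⨁ i, W ⧸ Submodule.span W {p i ^ e i}) →ₗ[W] T :=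
    DirectSum.toModule W ι T (fun i => Submodule.liftQ (Submodule.span W {p i ^ e i})
      (LinearMap.toSpanSingleton W T (t' i)) (by
        rw [Submodule.span_le, Set.singleton_subset_iff]
        show p i ^ e i ∈ LinearMap.ker (LinearMap.toSpanSingleton W T (t' i))
        rw [LinearMap.mem_ker, LinearMap.toSpanSingleton_apply]
        exact ht'0 i))
  have hg : S.mkQ ∘ₗ g = Φ.symm.toLinearMap := by
    apply DirectSum.linearMap_ext
    intro i
    apply Submodule.linearMap_qext
    apply LinearMap.ext_ring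
    simp only [LinearMap.comp_apply, Submodule.mkQ_apply, LinearEquiv.coe_coe, g,
      DirectSum.toModule_lof, Submodule.liftQ_apply, LinearMap.toSpanSingleton_apply, one_smul]
    exact ht' i
  let sec : (T ⧸ S) →ₗ[W] T := g ∘ₗ Φ.toLinearMap
  have hsec : ∀ q, S.mkQ (sec q) = q := by
    intro q
    have := LinearMap.congr_fun hg (Φ q)
    simp only [LinearMap.comp_apply, LinearEquiv.coe_coe, LinearEquiv.symm_apply_apply] at this
    exact this
  refine ⟨LinearMap.range sec, ?_, ?_⟩
  · rw [Submodule.disjoint_def]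
    intro y hyS hyr
    obtain ⟨q, rfl⟩ := hyr
    have hq : q = 0 := by
      rw [← hsec q]
      exact (Submodule.Quotient.mk_eq_zero S).mpr hyS
    rw [hq, map_zero]
  · rw [codisjoint_iff, eq_top_iff]
    intro t _
    have : t = (t - sec (S.mkQ t)) + sec (S.mkQ t) := by abel
    rw [this]
    refine Submodule.add_mem_sup ?_ ⟨_, rfl⟩
    rw [← Submodule.Quotient.mk_eq_zero S, Submodule.Quotient.mk_sub, ← Submodule.mkQ_apply,
      ← Submodule.mkQ_apply, hsec, sub_self]

section

variable {W : Type u} [CommRing W] [IsDomain W] [IsPrincipalIdealRing W]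
  (σ : W →+* W) [RingHomSurjective σ]
  (r : ℕ) (N : ℕ → Type v) [∀ i, AddCommGroup (N i)] [∀ i, Module W (N i)]
  (c : W) (α : ∀ i, N (i + 1) →ₗ[W] N i) (φ : ∀ i, N i →ₛₗ[σ] N 0)

theorem main_abstract (hc : σ c = c) (hc0 : c ≠ 0) (hcj : c ∈ Ideal.jacobson (⊥ : Ideal W))
    (hirr : ∀ q : W, Irreducible q → Associated q c)
    (hfl : ∀ i, IsFiniteLength W (N i))
    (hsurj : ∀ m : N 0, ∃ y : (i : ℕ) → N i, (∀ i, r < i → y i = 0) ∧
      (Finset.range (r + 1)).sum (fun i => φ i (y i)) = m)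
    (hker : ∀ y : (i : ℕ) → N i, (∀ i, r < i → y i = 0) →
      (Finset.range (r + 1)).sum (fun i => φ i (y i)) = 0 →
        ∃ z : (i : ℕ) → N (i + 1), (∀ i, r ≤ i → z i = 0) ∧
          y 0 = α 0 (z 0) ∧ ∀ i, y (i + 1) = α (i + 1) (z (i + 1)) - c • z i)
    (i : ℕ) (hi : i < r) :
    Function.Injective (α i) ∧ ∃ Q : Submodule W (N i), IsCompl (LinearMap.range (α i)) Q := by
  have hpa := pure_alpha σ r N c α φ hc hfl hsurj hker
  constructor
  · rw [injective_iff_map_eq_zero]
    intro u hu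
    obtain ⟨n, hn⟩ := exists_pow_smul_eq_zero c hcj (N (i + 1)) (hfl (i + 1))
    obtain ⟨w, hw⟩ := hpa n i hi u ⟨0, by rw [smul_zero, hu]⟩
    rw [← hw]
    exact hn w
  · obtain ⟨hN, hAr⟩ := isFiniteLength_iff_isNoetherian_isArtinian.mp (hfl i)
    haveI : Module.Finite W (N i) := Module.IsNoetherian.finite W (N i)
    apply exists_isCompl_of_pure c hc0 hirr (exists_pow_smul_eq_zero c hcj (N i) (hfl i))
    intro n t ht
    obtain ⟨u, hu⟩ := ht
    obtain ⟨w, hw⟩ := hpa n i hi u ⟨t, hu.symm⟩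
    refine ⟨α i w, ⟨w, rfl⟩, ?_⟩
    rw [← map_smul, hw, hu]

end

theorem main (p : ℕ) [Fact p.Prime]
    (k : Type u) [Field k] [CharP k p] [PerfectRing k p] (r : ℕ)
    (N : ℕ → Type v) [∀ i, AddCommGroup (N i)] [∀ i, Module (WittVector p k) (N i)]
    (hfl : ∀ i, IsFiniteLength (WittVector p k) (N i))
    (α : ∀ i, N (i + 1) →ₗ[WittVector p k] N i)
    (φ : ∀ i, N i →ₛₗ[(WittVector.frobenius : WittVector p k →+* WittVector p k)] N 0)
    (hsurj : ∀ m : N 0, ∃ y : (i : ℕ) → N i, (∀ i, r < i → y i = 0) ∧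
      (Finset.range (r + 1)).sum (fun i => φ i (y i)) = m)
    (hker : ∀ y : (i : ℕ) → N i, (∀ i, r < i → y i = 0) →
      (Finset.range (r + 1)).sum (fun i => φ i (y i)) = 0 →
        ∃ z : (i : ℕ) → N (i + 1), (∀ i, r ≤ i → z i = 0) ∧
          y 0 = α 0 (z 0) ∧ ∀ i, y (i + 1) = α (i + 1) (z (i + 1)) - (p : WittVector p k) • z i)
    (i : ℕ) (hi : i < r) :
    Function.Injective (α i) ∧
      ∃ Q : Submodule (WittVector p k) (N i), IsCompl (LinearMap.range (α i)) Q := by
  haveI : RingHomSurjective (WittVector.frobenius : WittVector p k →+* WittVector p k) :=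
    ⟨(WittVector.frobenius_bijective p k).surjective⟩
  have hirr : Irreducible (p : WittVector p k) := WittVector.irreducible p
  refine main_abstract (WittVector.frobenius : WittVector p k →+* WittVector p k) r N
    (p : WittVector p k) α φ (map_natCast _ p) hirr.ne_zero ?_ ?_ hfl hsurj hker i hi
  · rw [IsLocalRing.jacobson_eq_maximalIdeal ⊥ bot_ne_top, IsLocalRing.mem_maximalIdeal,
      mem_nonunits_iff]
    exact hirr.not_isUnit
  · intro q hq
    exact IsDiscreteValuationRing.associated_of_irreducible _ hq hirr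

end Groth.Agent.H9.FLaf
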