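import Mathlib

/-! Helper9: descent of finitely presented localized modules -/

namespace Groth.Agent.H9.FPDesc

universe u

theorem lemmaA {R : Type*} [CommRing R] (S : Submonoid R) {F : Type*} [AddCommGroup F] [Module R F]
    (N : Submodule R F)
    (h : (N.localized' (Localization S) S (LocalizedModule.mkLinearMap S F)).FG) :
    ∃ N₀ : Submodule R F, N₀ ≤ N ∧ N₀.FG ∧
      N₀.localized' (Localization S) S (LocalizedModule.mkLinearMap S F) =
        N.localized' (Localization S) S (LocalizedModule.mkLinearMap S F) := by
  classical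
  obtain ⟨T, hT⟩ := h
  have hmem : ∀ t : ↥T, ∃ m ∈ N, ∃ s : S,
      IsLocalizedModule.mk' (LocalizedModule.mkLinearMap S F) m s = t.1 := by
    intro t
    have : t.1 ∈ N.localized' (Localization S) S (LocalizedModule.mkLinearMap S F) := by
      rw [← hT]; exact Submodule.subset_span t.2
    exact this
  choose m hm s hms using hmem
  refine ⟨Submodule.span R (Set.range m), ?_, Submodule.fg_span (Set.finite_range m), ?_⟩
  · rw [Submodule.span_le]
    rintro _ ⟨t, rfl⟩
    exact hm t
  · apply le_antisymm
    · rintro x ⟨a, ha, s, rfl⟩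
      refine ⟨a, ?_, s, rfl⟩
      have hle : Submodule.span R (Set.range m) ≤ N := by
        rw [Submodule.span_le]
        rintro _ ⟨t, rfl⟩
        exact hm t
      exact hle ha
    · rw [← hT, Submodule.span_le]
      intro t ht
      exact ⟨m ⟨t, ht⟩, Submodule.subset_span ⟨_, rfl⟩, s ⟨t, ht⟩, hms ⟨t, ht⟩⟩

theorem main (R : Type u) [CommRing R] (S : Submonoid R)
    (M : Type u) [AddCommGroup M] [Module R M]
    [Module.FinitePresentation (Localization S) (LocalizedModule S M)] :
    ∃ (M' : Type u) (_ : AddCommGroup M') (_ : Module R M') (φ : M' →ₗ[R] M),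
      Module.FinitePresentation R M' ∧ Function.Bijective (LocalizedModule.map S φ) := by
  classical
  obtain ⟨T, hT⟩ := (Module.Finite.fg_top : (⊤ : Submodule (Localization S) (LocalizedModule S M)).FG)
  have hrep : ∀ t : LocalizedModule S M, ∃ (x : M) (s : S), LocalizedModule.mk x s = t := fun t => by
    induction t using LocalizedModule.induction_on with
    | h m s => exact ⟨m, s, rfl⟩
  choose xr sr hxr using hrep
  let π : (↥T → R) →ₗ[R] M := Fintype.linearCombination R (fun t : ↥T => xr t.1)
  have hπ : ∀ t : ↥T, π (Pi.single t 1) = xr t.1 := by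
    intro t
    simp [π, Fintype.linearCombination_apply_single]
  have hPsurj : Function.Surjective (LocalizedModule.map S π) := by
    rw [← LinearMap.range_eq_top, eq_top_iff, ← hT, Submodule.span_le]
    intro t ht
    refine ⟨LocalizedModule.mk (Pi.single ⟨t, ht⟩ 1) (sr t), ?_⟩
    rw [LocalizedModule.map_mk, hπ, hxr]
  have hker : (LinearMap.ker (LocalizedModule.map S π)).FG :=
    Module.FinitePresentation.fg_ker (LocalizedModule.map S π) hPsurj
  have hkereq : (LinearMap.ker π).localized' (Localization S) S (LocalizedModule.mkLinearMap S (↥T → R)) =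
      LinearMap.ker (LocalizedModule.map S π) :=
    LinearMap.localized'_ker_eq_ker_localizedMap (Localization S) S (LocalizedModule.mkLinearMap S _)
      (LocalizedModule.mkLinearMap S M) π
  obtain ⟨K₀, hK₀le, hK₀fg, hK₀eq⟩ := lemmaA S (LinearMap.ker π) (hkereq ▸ hker)
  have hQker : K₀.localized' (Localization S) S (LocalizedModule.mkLinearMap S (↥T → R)) =
      LinearMap.ker (LocalizedModule.map S K₀.mkQ) := by
    have := LinearMap.localized'_ker_eq_ker_localizedMap (Localization S) S (LocalizedModule.mkLinearMap S _)
      (LocalizedModule.mkLinearMap S ((↥T → R) ⧸ K₀)) K₀.mkQ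
    rw [Submodule.ker_mkQ] at this
    exact this
  refine ⟨(↥T → R) ⧸ K₀, inferInstance, inferInstance, K₀.liftQ π hK₀le, ?_, ?_, ?_⟩
  · exact Module.finitePresentation_of_surjective K₀.mkQ (Submodule.mkQ_surjective _)
      (by rwa [Submodule.ker_mkQ])
  · rw [injective_iff_map_eq_zero]
    intro z hz
    induction z using LocalizedModule.induction_on with
    | h y s =>
      obtain ⟨v, rfl⟩ := Submodule.mkQ_surjective K₀ y
      have h1 : LocalizedModule.mk (K₀.mkQ v) s = LocalizedModule.map S K₀.mkQ (LocalizedModule.mk v s) := by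
        rw [LocalizedModule.map_mk]
      rw [h1]
      have h2 : LocalizedModule.mk v s ∈ LinearMap.ker (LocalizedModule.map S π) := by
        rw [LinearMap.mem_ker, LocalizedModule.map_mk]
        rw [LocalizedModule.map_mk] at hz
        simpa using hz
      rw [← hkereq, ← hK₀eq, hQker] at h2
      exact h2
  · intro y
    obtain ⟨w, rfl⟩ := hPsurj y
    induction w using LocalizedModule.induction_on with
    | h v s =>
      exact ⟨LocalizedModule.mk (K₀.mkQ v) s, by simp [LocalizedModule.map_mk]⟩

end Groth.Agent.H9.FPDesc
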