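import Mathlib

/-! Helper9: finite iff M ⊗ ∏ Q_i → ∏ (M ⊗ Q_i) surjective (Stacks 059K). -/

namespace Groth.Agent.H9.FinPi
open TensorProduct

universe u

variable (R : Type u) [CommRing R] (M : Type u) [AddCommGroup M] [Module R M]

lemma surj_of_finite [Module.Finite R M] (ι : Type*) (Q : ι → Type*) [∀ i, AddCommGroup (Q i)]
    [∀ i, Module R (Q i)] :
    Function.Surjective (TensorProduct.piRightHom R R M Q) := by
  obtain ⟨n, g, hg⟩ := Module.Finite.exists_fin (R := R) (M := M)
  have key : ∀ i (y : M ⊗[R] Q i), ∃ q : Fin n → Q i, ∑ j, g j ⊗ₜ[R] q j = y := by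
    intro i y
    induction y using TensorProduct.induction_on with
    | zero => exact ⟨0, by simp⟩
    | tmul m q =>
      have hm : m ∈ Submodule.span R (Set.range g) := hg ▸ Submodule.mem_top
      obtain ⟨c, rfl⟩ := (Submodule.mem_span_range_iff_exists_fun R).1 hm
      exact ⟨fun j => c j • q, by simp [TensorProduct.sum_tmul, TensorProduct.smul_tmul]⟩
    | add x y hx hy =>
      obtain ⟨q, rfl⟩ := hx
      obtain ⟨q', rfl⟩ := hy
      exact ⟨q + q', by simp [TensorProduct.tmul_add, Finset.sum_add_distrib]⟩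
  intro y
  choose q hq using fun i => key i (y i)
  refine ⟨∑ j, g j ⊗ₜ[R] (fun i => q i j), ?_⟩
  ext i
  simp [TensorProduct.piRightHom_tmul, ← hq]

lemma finite_of_surj
    (h : Function.Surjective (TensorProduct.piRightHom R R M (fun _ : M => R))) :
    Module.Finite R M := by
  have key : ∀ z : M ⊗[R] (M → R), ∃ S : Finset M, ∀ m,
      TensorProduct.rid R M (TensorProduct.piRightHom R R M (fun _ : M => R) z m) ∈
        Submodule.span R (S : Set M) := by
    intro z
    classical
    induction z using TensorProduct.induction_on with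
    | zero => exact ⟨∅, fun m => by simp⟩
    | tmul x f =>
      refine ⟨{x}, fun m => ?_⟩
      simp only [piRightHom_tmul, TensorProduct.rid_tmul]
      exact Submodule.smul_mem _ _ (by simp)
    | add a b ha hb =>
      obtain ⟨S, hS⟩ := ha
      obtain ⟨T, hT⟩ := hb
      refine ⟨S ∪ T, fun m => ?_⟩
      rw [map_add, Pi.add_apply, map_add]
      apply add_mem
      · exact Submodule.span_mono (by simp) (hS m)
      · exact Submodule.span_mono (by simp) (hT m)
  obtain ⟨z, hz⟩ := h (fun m => m ⊗ₜ[R] (1 : R))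
  obtain ⟨S, hS⟩ := key z
  refine ⟨⟨S, ?_⟩⟩
  rw [eq_top_iff]
  intro m _
  have := hS m
  rw [hz] at this
  simpa using this

theorem main : Module.Finite R M ↔ ∀ (ι : Type u) (Q : ι → Type u) [∀ i, AddCommGroup (Q i)]
      [∀ i, Module R (Q i)], Function.Surjective (TensorProduct.piRightHom R R M Q) :=
  ⟨fun _ ι Q _ _ => surj_of_finite R M ι Q, fun h => finite_of_surj R M (h M (fun _ => R))⟩

end Groth.Agent.H9.FinPi
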