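import Mathlib
import Groth.Agent.Lib.Helper9.Misc.FinPi

/-! Helper9: f.p. iff M ⊗ ∏ Q_i → ∏ (M ⊗ Q_i) bijective (S0588). -/

namespace Groth.Agent.H9.FPPi
open TensorProduct

universe u

variable (R : Type u) [CommRing R]

lemma natural {N N' : Type*} [AddCommGroup N] [Module R N] [AddCommGroup N'] [Module R N']
    (f : N →ₗ[R] N') {ι : Type*} (Q : ι → Type*) [∀ i, AddCommGroup (Q i)] [∀ i, Module R (Q i)]
    (x : N ⊗[R] (∀ i, Q i)) (i : ι) :
    piRightHom R R N' Q (f.rTensor _ x) i = f.rTensor (Q i) (piRightHom R R N Q x i) := by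
  induction x using TensorProduct.induction_on with
  | zero => simp
  | tmul n q => simp [piRightHom_tmul]
  | add a b ha hb => simp only [map_add, Pi.add_apply, ha, hb]

lemma inj_free (n : ℕ) {ι : Type*} (Q : ι → Type*) [∀ i, AddCommGroup (Q i)]
    [∀ i, Module R (Q i)] :
    Function.Injective (piRightHom R R (Fin n → R) Q) := by
  rw [injective_iff_map_eq_zero]
  intro z hz
  have key : ∀ z : (Fin n → R) ⊗[R] (∀ i, Q i), ∃ p : Fin n → (∀ i, Q i),
      z = ∑ j, (Pi.single j (1:R) : Fin n → R) ⊗ₜ[R] p j := by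
    intro z
    induction z using TensorProduct.induction_on with
    | zero => exact ⟨0, by simp⟩
    | tmul f q =>
      refine ⟨fun j => f j • q, ?_⟩
      have hf : f = ∑ j, f j • (Pi.single j (1:R) : Fin n → R) := by
        ext k; simp [Finset.sum_apply, Pi.single_apply]
      conv_lhs => rw [hf]
      simp [TensorProduct.sum_tmul, TensorProduct.smul_tmul]
    | add a b ha hb =>
      obtain ⟨p, rfl⟩ := ha
      obtain ⟨p', rfl⟩ := hb
      exact ⟨p + p', by simp [TensorProduct.tmul_add, Finset.sum_add_distrib]⟩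
  obtain ⟨p, rfl⟩ := key z
  have hp : ∀ k, p k = 0 := by
    intro k
    ext i
    have := congrFun hz i
    simp only [map_sum, piRightHom_tmul, Finset.sum_apply] at this
    have h2 := congrArg (fun y => TensorProduct.lid R (Q i)
      ((LinearMap.proj k : (Fin n → R) →ₗ[R] R).rTensor (Q i) y)) this
    simpa [Pi.single_apply] using h2
  simp [hp]

variable (M : Type u) [AddCommGroup M] [Module R M]

theorem inj_of_fp [Module.FinitePresentation R M] {ι : Type*} (Q : ι → Type*)
    [∀ i, AddCommGroup (Q i)] [∀ i, Module R (Q i)] :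
    Function.Injective (piRightHom R R M Q) := by
  obtain ⟨n, π, hπ⟩ := Module.Finite.exists_fin' R M
  have hK : (LinearMap.ker π).FG := Module.FinitePresentation.fg_ker π hπ
  have : Module.Finite R (LinearMap.ker π) := Module.Finite.iff_fg.2 hK
  have hex : Function.Exact (LinearMap.ker π).subtype π := LinearMap.exact_subtype_ker_map π
  rw [injective_iff_map_eq_zero]
  intro z hz
  obtain ⟨z', rfl⟩ := LinearMap.rTensor_surjective (∀ i, Q i) hπ z
  -- the image of z' in ∏ F ⊗ Q_i
  have hw : ∀ i, ∃ v : (LinearMap.ker π) ⊗[R] Q i,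
      (LinearMap.ker π).subtype.rTensor (Q i) v = piRightHom R R (Fin n → R) Q z' i := by
    intro i
    have h1 : π.rTensor (Q i) (piRightHom R R (Fin n → R) Q z' i) = 0 := by
      rw [← natural, hz]; rfl
    exact (rTensor_exact (Q i) hex hπ _).1 h1
  choose v hv using hw
  obtain ⟨u, hu⟩ := FinPi.surj_of_finite R (LinearMap.ker π) ι Q v
  have h3 : piRightHom R R (Fin n → R) Q ((LinearMap.ker π).subtype.rTensor _ u) =
      piRightHom R R (Fin n → R) Q z' := by
    ext i
    rw [natural, hu, hv]
  have h4 := inj_free R n Q h3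
  rw [← h4, ← LinearMap.rTensor_comp_apply]
  have : π ∘ₗ (LinearMap.ker π).subtype = 0 := by ext x; exact x.2
  rw [this]; simp

theorem fp_of_bij
    (h : ∀ (ι : Type u) (Q : ι → Type u) [∀ i, AddCommGroup (Q i)]
      [∀ i, Module R (Q i)], Function.Bijective (TensorProduct.piRightHom R R M Q)) :
    Module.FinitePresentation R M := by
  have hfin : Module.Finite R M :=
    (FinPi.main R M).2 fun ι Q _ _ => (h ι Q).2
  obtain ⟨n, π, hπ⟩ := Module.Finite.exists_fin' R M
  have hex : Function.Exact (LinearMap.ker π).subtype π := LinearMap.exact_subtype_ker_map π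
  refine Module.finitePresentation_of_surjective π hπ ?_
  rw [← Module.Finite.iff_fg]
  apply FinPi.finite_of_surj
  set K := LinearMap.ker π
  set Q : K → Type u := fun _ => R
  intro v
  -- push v to ∏ F ⊗ R
  obtain ⟨z', hz'⟩ := FinPi.surj_of_finite R (Fin n → R) K Q
    (fun i => K.subtype.rTensor (Q i) (v i))
  have h1 : piRightHom R R M Q (π.rTensor _ z') = 0 := by
    ext i
    rw [natural, hz', ← LinearMap.rTensor_comp_apply]
    have : π ∘ₗ K.subtype = 0 := by ext x; exact x.2
    rw [this]; simp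
  have h2 : π.rTensor _ z' = 0 := (h K Q).1 (by rw [h1, map_zero])
  obtain ⟨u, hu⟩ := (rTensor_exact (∀ i, Q i) hex hπ _).1 h2
  refine ⟨u, ?_⟩
  ext1 i
  have hinj : Function.Injective (K.subtype.rTensor (Q i)) :=
    Module.Flat.rTensor_preserves_injective_linearMap _ K.subtype_injective
  apply hinj
  rw [← natural, hu, hz']

theorem main : Module.FinitePresentation R M ↔
    ∀ (ι : Type u) (Q : ι → Type u) [∀ i, AddCommGroup (Q i)]
      [∀ i, Module R (Q i)], Function.Bijective (TensorProduct.piRightHom R R M Q) :=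
  ⟨fun _ ι Q _ _ => ⟨inj_of_fp R M Q, FinPi.surj_of_finite R M ι Q⟩, fp_of_bij R M⟩

end Groth.Agent.H9.FPPi
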