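import Mathlib
import Groth.Agent.Lib.Helper9.Misc.FRB2

/-! Helper9: degree is preserved by adjoining algebraically independent elements. -/

set_option linter.style.haveILetI false
set_option linter.unusedSectionVars false

namespace Groth.Agent.H9.FRB

open MvPolynomial

section lemmaT

variable {F' F K : Type*} [Field F'] [Field F] [Field K] [Algebra F' F] [Algebra F K]
  [Algebra F' K] [IsScalarTower F' F K] {ι : Type*} (y : ι → K)

lemma linInd_base {n : ℕ} (b : Module.Basis (Fin n) F' F) (hy : AlgebraicIndependent F y) :
    LinearIndependent (Algebra.adjoin F' (Set.range y)) (fun j => algebraMap F K (b j)) := by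
  rw [Fintype.linearIndependent_iff]
  intro g hg j0
  have hG : ∀ j, ∃ G : MvPolynomial ι F', aeval y G = (g j : K) := by
    intro j
    have h1 : ((g j : K)) ∈ (aeval (R := F') y).range := by
      rw [← Algebra.adjoin_range_eq_range_aeval]
      exact (g j).2
    exact h1
  choose G hG using hG
  have h0 : aeval y (∑ j, MvPolynomial.map (algebraMap F' F) (G j) * C (b j)) = 0 := by
    rw [map_sum, ← hg]
    refine Finset.sum_congr rfl fun j _ => ?_
    rw [map_mul, aeval_C, MvPolynomial.aeval_map_algebraMap, hG]
    rfl
  have h1 := hy.eq_zero_of_aeval_eq_zero _ h0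
  have h2 : ∀ m, ∑ j, coeff m (G j) • b j = 0 := by
    intro m
    have := congrArg (coeff m) h1
    simpa [coeff_sum, mul_comm _ (C _), MvPolynomial.coeff_C_mul, coeff_map, Algebra.smul_def,
      mul_comm] using this
  have h3 : ∀ m j, coeff m (G j) = 0 := fun m j =>
    (Fintype.linearIndependent_iff.mp b.linearIndependent _ (h2 m)) j
  have h4 : G j0 = 0 := by
    ext m
    simp [h3]
  apply Subtype.ext
  rw [← hG j0, h4, map_zero]
  rfl

open scoped IntermediateField.algebraAdjoinAdjoin in
lemma linInd_base_field {n : ℕ} (b : Module.Basis (Fin n) F' F) (hy : AlgebraicIndependent F y) :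
    LinearIndependent (IntermediateField.adjoin F' (Set.range y))
      (fun j => algebraMap F K (b j)) :=
  (LinearIndependent.iff_fractionRing (Algebra.adjoin F' (Set.range y))
    (IntermediateField.adjoin F' (Set.range y))).mp (linInd_base y b hy)

lemma span_base {n : ℕ} (b : Module.Basis (Fin n) F' F) (x : K)
    (hx : x ∈ IntermediateField.adjoin F (Set.range y)) :
    x ∈ Submodule.span (IntermediateField.adjoin F' (Set.range y))
      (Set.range fun j => algebraMap F K (b j)) := by
  haveI : FiniteDimensional F' F := Module.Finite.of_basis b
  set E := IntermediateField.adjoin F' (Set.range y) with hE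
  set T : Set K := Set.range (algebraMap F K) with hT
  have halg : ∀ z ∈ T, IsAlgebraic E z := by
    rintro _ ⟨f, rfl⟩
    have h1 : IsAlgebraic F' f := Algebra.IsAlgebraic.isAlgebraic f
    have h2 : IsAlgebraic F' (algebraMap F K f) := h1.algebraMap
    exact h2.tower_top E
  have h1 := IntermediateField.adjoin_toSubalgebra_of_isAlgebraic halg
  have hx' : x ∈ IntermediateField.adjoin E T := by
    have h2 : (IntermediateField.adjoin F (Set.range y)).toSubfield ≤
        (IntermediateField.adjoin E T).toSubfield := by
      rw [IntermediateField.adjoin_toSubfield, Subfield.closure_le]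
      rintro z (hz | ⟨i, rfl⟩)
      · exact IntermediateField.subset_adjoin E T hz
      · have : y i ∈ E := IntermediateField.subset_adjoin F' (Set.range y) ⟨i, rfl⟩
        exact (IntermediateField.adjoin E T).algebraMap_mem ⟨y i, this⟩
    exact h2 hx
  have hx'' : x ∈ Algebra.adjoin E T := by
    rw [← h1]; exact hx'
  have h3 : Subalgebra.toSubmodule (Algebra.adjoin E T) = Submodule.span E T := by
    rw [Algebra.adjoin_eq_span]
    congr 1
    have : T = ((MonoidHom.mrange (algebraMap F K : F →* K) : Submonoid K) : Set K) := by
      ext z; simp [hT]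
    rw [this, Submonoid.closure_eq]
  have hx3 : x ∈ Submodule.span E T := by
    rw [← h3]; exact hx''
  refine Submodule.span_le.mpr ?_ hx3
  rintro _ ⟨f, rfl⟩
  have h4 : f = ∑ j, b.repr f j • b j := (b.sum_repr f).symm
  have h5 : algebraMap F K f = ∑ j, (algebraMap F' E (b.repr f j)) • algebraMap F K (b j) := by
    conv_lhs => rw [h4]
    rw [map_sum]
    refine Finset.sum_congr rfl fun j _ => ?_
    rw [Algebra.smul_def, map_mul, Algebra.smul_def, ← IsScalarTower.algebraMap_apply,
      ← IsScalarTower.algebraMap_apply]
  rw [h5]
  exact Submodule.sum_mem _ fun j _ => Submodule.smul_mem _ _ (Submodule.subset_span ⟨j, rfl⟩)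

theorem relfinrank_adjoin_base [FiniteDimensional F' F] (hy : AlgebraicIndependent F y) :
    Subfield.relfinrank (IntermediateField.adjoin F' (Set.range y)).toSubfield
      (IntermediateField.adjoin F (Set.range y)).toSubfield = Module.finrank F' F := by
  let b := Module.finBasis F' F
  have hle : IntermediateField.adjoin F' (Set.range y) ≤
      (IntermediateField.adjoin F (Set.range y)).restrictScalars F' := by
    rw [IntermediateField.adjoin_le_iff]
    intro z hz
    change z ∈ IntermediateField.adjoin F (Set.range y)
    exact IntermediateField.subset_adjoin F (Set.range y) hz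
  have := relfinrank_eq_card hle (fun j => algebraMap F K (b j)) ?_ (linInd_base_field y b hy)
    (span_base y b)
  · rw [Fintype.card_fin] at this
    exact this
  · intro j
    exact (IntermediateField.adjoin F (Set.range y)).algebraMap_mem _

end lemmaT

end Groth.Agent.H9.FRB
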