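import Mathlib

/-! Helper9: slices of power series; `expand p g` is a `p`-th power over a perfect field. -/

set_option linter.style.haveILetI false
set_option linter.unusedSectionVars false

namespace Groth.Agent.H9.FRB

open PowerSeries

section ps

variable {k : Type*} [CommRing k] (p : ℕ) (hp : p ≠ 0)

/-- the `j`-th slice of a power series: coefficients at `p*m + j`. -/
noncomputable def slice (j : ℕ) (h : k⟦X⟧) : k⟦X⟧ := PowerSeries.mk fun m => coeff (p * m + j) h

include hp in
lemma eq_sum_slices (h : k⟦X⟧) :
    h = ∑ j ∈ Finset.range p, X ^ j * expand p hp (slice p j h) := by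
  ext n
  rw [map_sum]
  have hpp : 0 < p := Nat.pos_of_ne_zero hp
  rw [Finset.sum_eq_single (n % p)]
  · rw [coeff_X_pow_mul', if_pos (Nat.mod_le n p), coeff_expand,
      if_pos (Nat.dvd_sub_mod n), slice, coeff_mk]
    have := Nat.div_add_mod n p
    have h2 : (n - n % p) / p = n / p := by
      have h3 : n - n % p = p * (n / p) := by omega
      rw [h3, Nat.mul_div_cancel_left _ hpp]
    rw [h2, this]
  · intro j hj hne
    rw [coeff_X_pow_mul']
    split_ifs with hjn
    · rw [coeff_expand_of_not_dvd]
      intro hd
      apply hne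
      obtain ⟨c, hc⟩ := hd
      have hjp : j < p := Finset.mem_range.mp hj
      have h3 : n = p * c + j := by omega
      rw [h3, Nat.mul_add_mod, Nat.mod_eq_of_lt hjp]
    · rfl
  · intro h1
    exact absurd (Finset.mem_range.mpr (Nat.mod_lt n hpp)) h1

end ps

section perfect

variable {k : Type*} [Field k] (p : ℕ) [Fact p.Prime] [CharP k p] [PerfectRing k p]

/-- in characteristic `p` over a perfect field, `expand p g` is a `p`-th power. -/
lemma expand_eq_pow (g : k⟦X⟧) :
    expand p (Fact.out : p.Prime).ne_zero g =
      (PowerSeries.map ((frobeniusEquiv k p).symm : k →+* k) g) ^ p := by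
  have h1 := MvPowerSeries.map_frobenius_expand (σ := Unit) (R := k) p (Fact.out : p.Prime).ne_zero
    (f := PowerSeries.map ((frobeniusEquiv k p).symm : k →+* k) g)
  rw [← h1]
  change _ = PowerSeries.map (frobenius k p) (expand p _ _)
  rw [PowerSeries.map_expand]
  congr 1
  ext n
  simp

end perfect

end Groth.Agent.H9.FRB
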