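import Mathlib
import Groth.Agent.Lib.Helper9.Misc.FRB6

/-! Helper9: `[k((t)) : k((t))^p] = p` for a perfect field `k` of characteristic `p`. -/

set_option linter.style.haveILetI false
set_option linter.unusedSectionVars false

namespace Groth.Agent.H9.FRB

open PowerSeries

section laurent

variable {k : Type*} [Field k] (p : ℕ) [Fact p.Prime] [CharP k p] [PerfectRing k p]

instance laurent_charP : CharP (LaurentSeries k) p :=
  charP_of_injective_algebraMap (algebraMap k (LaurentSeries k)).injective p

/-- the uniformizer. -/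
noncomputable def TT : LaurentSeries k := HahnSeries.single 1 1

lemma TT_ne_zero : (TT : LaurentSeries k) ≠ 0 := by
  simp [TT]

lemma TT_not_mem : (TT : LaurentSeries k) ∉ (frobenius (LaurentSeries k) p).fieldRange := by
  rintro ⟨g, hg⟩
  have h1 := congrArg HahnSeries.order hg
  rw [frobenius_def, HahnSeries.order_pow, TT, HahnSeries.order_single one_ne_zero] at h1
  have hp2 : 2 ≤ p := (Fact.out : p.Prime).two_le
  have h2 : (p : ℤ) ∣ 1 := ⟨g.order, by rw [← h1]; simp⟩
  have h3 := Int.le_of_dvd one_pos h2
  omega

lemma coe_mem_adjoin (h : k⟦X⟧) :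
    (HahnSeries.ofPowerSeries ℤ k h) ∈
      IntermediateField.adjoin (frobenius (LaurentSeries k) p).fieldRange {(TT : LaurentSeries k)} := by
  set E := IntermediateField.adjoin (frobenius (LaurentSeries k) p).fieldRange
    {(TT : LaurentSeries k)} with hE
  have hp0 : p ≠ 0 := (Fact.out : p.Prime).ne_zero
  rw [eq_sum_slices p hp0 h, map_sum]
  refine sum_mem fun j _ => ?_
  rw [map_mul, map_pow, HahnSeries.ofPowerSeries_X]
  refine mul_mem (pow_mem ?_ _) ?_
  · exact IntermediateField.subset_adjoin _ _ rfl
  · rw [expand_eq_pow, map_pow]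
    have : (HahnSeries.ofPowerSeries ℤ k
        (PowerSeries.map ((frobeniusEquiv k p).symm : k →+* k) (slice p j h))) ^ p ∈
        (frobenius (LaurentSeries k) p).fieldRange := ⟨_, rfl⟩
    exact E.algebraMap_mem ⟨_, this⟩

lemma adjoin_TT_eq_top :
    IntermediateField.adjoin (frobenius (LaurentSeries k) p).fieldRange
      {(TT : LaurentSeries k)} = ⊤ := by
  rw [eq_top_iff]
  intro f _
  have h1 : (HahnSeries.single f.order (1 : k) : LaurentSeries k) = TT ^ f.order := by
    rw [TT, RatFunc.single_zpow]
  have hf : TT ^ f.order * HahnSeries.ofPowerSeries ℤ k f.powerSeriesPart = f := by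
    rw [← h1]
    exact LaurentSeries.single_order_mul_powerSeriesPart f
  have h2 : TT ^ f.order * HahnSeries.ofPowerSeries ℤ k f.powerSeriesPart ∈
      IntermediateField.adjoin (frobenius (LaurentSeries k) p).fieldRange
        {(TT : LaurentSeries k)} := by
    have h3 : (TT : LaurentSeries k) ∈
        IntermediateField.adjoin (frobenius (LaurentSeries k) p).fieldRange
        {(TT : LaurentSeries k)} := IntermediateField.subset_adjoin _ _ rfl
    have h4 := zpow_mem h3 f.order
    exact mul_mem h4 (coe_mem_adjoin p _)
  rw [hf] at h2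
  exact h2

theorem finrank_laurent_frobenius :
    Module.finrank (frobenius (LaurentSeries k) p).fieldRange (LaurentSeries k) = p := by
  set E := (frobenius (LaurentSeries k) p).fieldRange with hE
  have hTp : (TT : LaurentSeries k) ^ p ∈ E := ⟨TT, rfl⟩
  set a : E := ⟨TT ^ p, hTp⟩ with ha
  have hirr : Irreducible (Polynomial.X ^ p - Polynomial.C a) := by
    apply X_pow_sub_C_irreducible_of_prime (Fact.out : p.Prime)
    intro b hb
    have h1 : (b : LaurentSeries k) ^ p = TT ^ p := congrArg Subtype.val hb
    have h2 : (b : LaurentSeries k) = TT := frobenius_inj (LaurentSeries k) p h1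
    exact TT_not_mem p (h2 ▸ b.2)
  have hroot : Polynomial.aeval (TT : LaurentSeries k) (Polynomial.X ^ p - Polynomial.C a) = 0 := by
    rw [map_sub, Polynomial.aeval_X_pow, Polynomial.aeval_C]
    exact sub_self _
  have hmonic : (Polynomial.X ^ p - Polynomial.C a).Monic :=
    Polynomial.monic_X_pow_sub_C a (Fact.out : p.Prime).ne_zero
  have hmin := minpoly.eq_of_irreducible_of_monic hirr hroot hmonic
  have hint : IsIntegral E (TT : LaurentSeries k) := ⟨_, hmonic, hroot⟩
  have h3 := IntermediateField.adjoin.finrank hint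
  rw [← hmin, Polynomial.natDegree_X_pow_sub_C, adjoin_TT_eq_top, IntermediateField.finrank_top'] at h3
  exact h3

end laurent

end Groth.Agent.H9.FRB
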