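import Mathlib
import Groth.Agent.Lib.Helper9.Misc.FRB3
import Groth.Agent.Lib.Helper9.Misc.FRB5
import Groth.Agent.Lib.Helper9.Misc.FRB7

/-! Helper9: `[K : K^p] = [F : F^p] p^d` for finitely generated `K/F` of transcendence degree `d`; S19094. -/

set_option linter.style.haveILetI false
set_option linter.unusedSectionVars false

namespace Groth.Agent.H9.FRB

universe u

section general

variable {F K : Type*} [Field F] [Field K] [Algebra F K] (p : ℕ) [Fact p.Prime] [CharP F p]
  [CharP K p]

lemma algIndep_pow {ι : Type*} (s : ι → K) (hs : AlgebraicIndependent F s) {q : ℕ} (hq : 0 < q) :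
    AlgebraicIndependent F (fun i => s i ^ q) := by
  have h1 : (MvPolynomial.aeval (R := F) fun i => s i ^ q) =
      (MvPolynomial.aeval s).comp (MvPolynomial.expand q) := by
    rw [MvPolynomial.aeval_comp_expand]
    rfl
  change Function.Injective (MvPolynomial.aeval (R := F) fun i => s i ^ q)
  rw [h1, AlgHom.coe_comp]
  exact (show Function.Injective (MvPolynomial.aeval s) from hs).comp
    (MvPolynomial.expand_injective hq)

theorem finrank_frobenius_fg [Module.Finite (frobenius F p).fieldRange F]
    (t : Finset K) (ht : IntermediateField.adjoin F (t : Set K) = ⊤) (d : ℕ) (s : Fin d → K)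
    (hs : IsTranscendenceBasis F s) :
    Module.finrank (frobenius K p).fieldRange K =
      Module.finrank (frobenius F p).fieldRange F * p ^ d := by
  have hp0 : p ≠ 0 := (Fact.out : p.Prime).ne_zero
  set φ := frobenius K p with hφ
  set F' := (frobenius F p).fieldRange with hF'
  set L := IntermediateField.adjoin F (Set.range s) with hL
  set A1 := IntermediateField.adjoin F (Set.range fun i => s i ^ p) with hA1
  set A0 := IntermediateField.adjoin F' (Set.range fun i => s i ^ p) with hA0
  -- image of base
  have himg : φ '' (Set.range (algebraMap F K)) = Set.range (algebraMap F' K) := by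
    ext x
    constructor
    · rintro ⟨_, ⟨a, rfl⟩, rfl⟩
      refine ⟨⟨a ^ p, ⟨a, rfl⟩⟩, ?_⟩
      change algebraMap F K (a ^ p) = _
      rw [map_pow]; rfl
    · rintro ⟨⟨_, ⟨a, rfl⟩⟩, rfl⟩
      refine ⟨algebraMap F K a, ⟨a, rfl⟩, ?_⟩
      change (algebraMap F K a) ^ p = algebraMap F K (a ^ p)
      rw [map_pow]
  have hA0m : A0.toSubfield = L.toSubfield.map φ := by
    rw [IntermediateField.adjoin_toSubfield, IntermediateField.adjoin_toSubfield,
      RingHom.map_field_closure, Set.image_union, himg, ← Set.range_comp]
    rfl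
  have hKp : φ.fieldRange = (⊤ : Subfield K).map φ := RingHom.fieldRange_eq_map φ
  have h01 : A0.toSubfield ≤ A1.toSubfield := by
    rw [IntermediateField.adjoin_toSubfield, Subfield.closure_le]
    rintro z (⟨a, rfl⟩ | hz)
    · exact A1.algebraMap_mem a.1
    · exact IntermediateField.subset_adjoin F _ hz
  have h1L : A1.toSubfield ≤ L.toSubfield := by
    have hle : A1 ≤ L := by
      rw [IntermediateField.adjoin_le_iff]
      rintro _ ⟨i, rfl⟩
      exact pow_mem (IntermediateField.subset_adjoin F (Set.range s) ⟨i, rfl⟩) _
    exact fun x hx => hle hx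
  have h0K : A0.toSubfield ≤ φ.fieldRange := by
    rw [hKp, hA0m]
    exact (Subfield.gc_map_comap φ).monotone_l le_top
  have e1 : Subfield.relfinrank A0.toSubfield A1.toSubfield = Module.finrank F' F :=
    relfinrank_adjoin_base _ (algIndep_pow s hs.1 (Nat.pos_of_ne_zero hp0))
  have e2 : Subfield.relfinrank A1.toSubfield L.toSubfield = p ^ d :=
    relfinrank_adjoin_pow s hs.1 hp0
  have e3 : Subfield.relfinrank A0.toSubfield φ.fieldRange =
      Subfield.relfinrank L.toSubfield ⊤ := by
    rw [hKp, hA0m, Subfield.relfinrank_map_map]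
  have m1 := Subfield.relfinrank_mul_relfinrank h01 h1L
  have m2 := Subfield.relfinrank_mul_relfinrank (h01.trans h1L) (le_top : L.toSubfield ≤ ⊤)
  have m3 := Subfield.relfinrank_mul_relfinrank h0K (le_top : φ.fieldRange ≤ ⊤)
  have hfin : Subfield.relfinrank L.toSubfield ⊤ ≠ 0 := by
    rw [Subfield.relfinrank_top_right]
    have halg : Algebra.IsAlgebraic L K := hs.isAlgebraic_field
    have hfd : FiniteDimensional L K := by
      have h5 : FiniteDimensional L (IntermediateField.adjoin L (t : Set K)) :=
        IntermediateField.finiteDimensional_adjoin fun x _ => (halg.isAlgebraic x).isIntegral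
      have h6 : IntermediateField.adjoin L (t : Set K) = ⊤ := by
        rw [eq_top_iff]
        intro x _
        have : IntermediateField.adjoin F (t : Set K) ≤
            (IntermediateField.adjoin L (t : Set K)).restrictScalars F := by
          rw [IntermediateField.adjoin_le_iff]
          intro y hy
          change y ∈ IntermediateField.adjoin L (t : Set K)
          exact IntermediateField.subset_adjoin L (t : Set K) hy
        exact this (ht ▸ IntermediateField.mem_top)
      rw [h6] at h5
      exact (IntermediateField.topEquiv (F := L) (E := K)).toLinearEquiv.finiteDimensional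
    exact (Module.finrank_pos (R := L) (M := K)).ne'
  rw [e3] at m3
  rw [← m2, ← m1, e1, e2] at m3
  have h5 : Subfield.relfinrank φ.fieldRange ⊤ = Module.finrank F' F * p ^ d := by
    apply mul_left_cancel₀ hfin
    rw [m3, mul_comm]
  rw [Subfield.relfinrank_top_right] at h5
  exact h5

end general

theorem S19094_main (p : ℕ) [Fact p.Prime]
    (k : Type u) [Field k] [Finite k] [CharP k p]
    (K : Type u) [Field K] [Algebra (LaurentSeries k) K] [CharP K p]
    (hfg : (⊤ : IntermediateField (LaurentSeries k) K).FG)
    (d : ℕ) (hd : Algebra.trdeg (LaurentSeries k) K = d) :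
    Module.finrank (↥(frobenius K p).fieldRange) K = p ^ (d + 1) := by
  obtain ⟨t, ht⟩ := hfg
  obtain ⟨ι, x, hx⟩ := exists_isTranscendenceBasis' (LaurentSeries k) K
  have hc : Cardinal.mk ι = d := by rw [hx.cardinalMk_eq_trdeg, hd]
  have hc' : Cardinal.lift.{0} (Cardinal.mk ι) = Cardinal.lift.{u} (Cardinal.mk (Fin d)) := by
    rw [hc]; simp
  obtain ⟨e⟩ := Cardinal.lift_mk_eq'.mp hc'
  have hs : IsTranscendenceBasis (LaurentSeries k) (x ∘ e.symm) :=
    (isTranscendenceBasis_equiv e.symm).mpr hx
  have hfr := finrank_laurent_frobenius (k := k) p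
  haveI : Module.Finite (frobenius (LaurentSeries k) p).fieldRange (LaurentSeries k) :=
    Module.finite_of_finrank_pos (by rw [hfr]; exact (Fact.out : p.Prime).pos)
  rw [finrank_frobenius_fg p t ht d _ hs, hfr, pow_succ, mul_comm]

end Groth.Agent.H9.FRB
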