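import Mathlib
import Groth.Agent.Lib.Helper1.GenFib1

/-! Flat over a reduced base with finitely many components and reduced generic fibres ⇒ reduced. -/

universe u
set_option autoImplicit false
set_option linter.style.haveILetI false
set_option linter.unusedSectionVars false
set_option linter.unusedVariables false
open CategoryTheory CategoryTheory.Limits AlgebraicGeometry TensorProduct

namespace Groth.Agent.H9.FRD

/-- algebra core -/
theorem isReduced_of_flat_of_family {A B : Type u} [CommRing A] [CommRing B] [Algebra A B]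
    [Module.Flat A B] {ι : Type*} [Finite ι] (K : ι → Type u) [∀ i, CommRing (K i)]
    [∀ i, Algebra A (K i)] (hker : ∀ a : A, (∀ i, algebraMap A (K i) a = 0) → a = 0)
    (hred : ∀ i, IsReduced (K i ⊗[A] B)) : IsReduced B := by
  classical
  haveI := Fintype.ofFinite ι
  -- the injective map `A → ∏ K i`
  let g : A →ₗ[A] (∀ i, K i) := LinearMap.pi (fun i => Algebra.linearMap A (K i))
  have hg : Function.Injective g := by
    rw [injective_iff_map_eq_zero]
    intro a ha
    apply hker a
    intro i
    have := congrFun ha i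
    simpa [g] using this
  have hflat := Module.Flat.lTensor_preserves_injective_linearMap (M := B) g hg
  have key : ∀ b : B, (∀ i, (1 : K i) ⊗ₜ[A] b = 0) → b = 0 := by
    intro b hb
    have h1 : (g.lTensor B) (b ⊗ₜ[A] (1 : A)) = 0 := by
      rw [LinearMap.lTensor_tmul]
      apply (TensorProduct.piRight A A B K).injective
      rw [map_zero, TensorProduct.piRight_apply, TensorProduct.piRightHom_tmul]
      funext i
      have h2 : g 1 i = (1 : K i) := by simp [g]
      rw [h2]
      have h3 := congrArg (TensorProduct.comm A (K i) B) (hb i)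
      rw [map_zero, TensorProduct.comm_tmul] at h3
      exact h3
    have h4 : b ⊗ₜ[A] (1 : A) = 0 := hflat (by rw [h1, map_zero])
    have h5 := congrArg (TensorProduct.rid A B) h4
    simpa using h5
  constructor
  intro b hb
  obtain ⟨n, hn⟩ := hb
  apply key
  intro i
  haveI := hred i
  apply IsNilpotent.eq_zero
  refine ⟨n, ?_⟩
  rw [Algebra.TensorProduct.tmul_pow, hn, one_pow, TensorProduct.tmul_zero]

/-- localization of a reduced ring is reduced -/
theorem isReduced_of_isLocalization {R S : Type*} [CommRing R] [CommRing S] [Algebra R S]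
    (M : Submonoid R) [IsLocalization M S] [IsReduced R] : IsReduced S := by
  constructor
  intro x hx
  obtain ⟨n, hn⟩ := hx
  obtain ⟨a, s, rfl⟩ := IsLocalization.exists_mk'_eq M x
  have hn' : (IsLocalization.mk' S a s) ^ (n + 1) = 0 := by rw [pow_succ, hn, zero_mul]
  rw [← IsLocalization.mk'_pow, IsLocalization.mk'_eq_zero_iff] at hn'
  obtain ⟨t, ht⟩ := hn'
  have h1 : ((t : R) * a) ^ (n + 1) = 0 := by
    rw [mul_pow, pow_succ (t : R), mul_assoc, ht, mul_zero]
  have h2 : (t : R) * a = 0 := IsNilpotent.eq_zero ⟨n + 1, h1⟩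
  rw [IsLocalization.mk'_eq_zero_iff]
  exact ⟨t, h2⟩

variable {X Y : Scheme.{u}}

/-- a section vanishing at all generic points of components (inside `W`) of a reduced scheme is
zero -/
theorem eq_zero_of_forall_generic [IsReduced Y] {W : Y.Opens} (a : Γ(Y, W))
    (h : ∀ (η : Y) (hη : η ∈ W), closure {η} ∈ irreducibleComponents ↥Y →
      Y.evaluation W η hη a = 0) : a = 0 := by
  rw [← AlgebraicGeometry.basicOpen_eq_bot_iff]
  by_contra hne
  obtain ⟨z, hz⟩ : ∃ z : Y, z ∈ Y.basicOpen a := by
    by_contra hcon
    push Not at hcon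
    apply hne
    ext z
    simp only [TopologicalSpace.Opens.coe_bot, Set.mem_empty_iff_false, iff_false]
    exact hcon z
  have hZ := irreducibleComponent_mem_irreducibleComponents z
  have hZirr : IsIrreducible (irreducibleComponent z) := isIrreducible_irreducibleComponent
  have hZcl : IsClosed (irreducibleComponent z) := isClosed_irreducibleComponent
  obtain ⟨η, hη⟩ := QuasiSober.sober hZirr hZcl
  have hcl : closure {η} = irreducibleComponent z := hη
  have hspec : η ⤳ z := by
    rw [specializes_iff_mem_closure, hcl]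
    exact mem_irreducibleComponent
  have hηb : η ∈ Y.basicOpen a := hspec.mem_open (Y.basicOpen a).2 hz
  have hηW : η ∈ W := Y.basicOpen_le a hηb
  have h0 := h η hηW (by rw [hcl]; exact hZ)
  rw [Scheme.evaluation_eq_zero_iff_notMem_basicOpen] at h0
  exact h0 hηb

theorem main (f : X ⟶ Y) [Flat f] [IsReduced Y] (hfin : (irreducibleComponents ↥Y).Finite)
    (h : ∀ η : Y, closure {η} ∈ irreducibleComponents ↥Y → IsReduced (f.fiber η)) :
    IsReduced X := by
  apply +allowSynthFailures isReduced_of_isReduced_stalk
  intro x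
  obtain ⟨W, hW, hxW, -⟩ := exists_isAffineOpen_mem_and_subset (U := (⊤ : Y.Opens))
    (x := f x) trivial
  have hx : x ∈ f ⁻¹ᵁ W := hxW
  obtain ⟨U, hU, hxU, hUW⟩ := exists_isAffineOpen_mem_and_subset (U := f ⁻¹ᵁ W) hx
  letI algB : Algebra Γ(Y, W) Γ(X, U) := (f.appLE W U hUW).hom.toAlgebra
  haveI hflat : Module.Flat Γ(Y, W) Γ(X, U) := by
    have := HasRingHomProperty.appLE (P := @Flat) f inferInstance ⟨W, hW⟩ ⟨U, hU⟩ hUW
    exact this
  -- index set
  let ι := {η : Y // closure {η} ∈ irreducibleComponents ↥Y ∧ η ∈ W}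
  haveI : Finite ι := by
    haveI : Finite (irreducibleComponents ↥Y) := hfin.to_subtype
    let g : ι → irreducibleComponents ↥Y := fun η => ⟨closure {η.1}, η.2.1⟩
    apply Finite.of_injective g
    intro η₁ η₂ h12
    have h12' : closure {η₁.1} = closure {η₂.1} := congrArg Subtype.val h12
    apply Subtype.ext
    have hins : Inseparable η₁.1 η₂.1 := inseparable_iff_closure_eq.mpr h12'
    exact hins.eq
  letI algK : ∀ η : ι, Algebra Γ(Y, W) (Y.residueField η.1) :=
    fun η => (Y.evaluation W η.1 η.2.2).hom.toAlgebra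
  haveI hredU : _root_.IsReduced Γ(X, U) := by
    apply isReduced_of_flat_of_family (A := Γ(Y, W)) (B := Γ(X, U))
      (fun η : ι => Y.residueField η.1)
    · intro a ha
      apply eq_zero_of_forall_generic a
      intro η hηW hηc
      exact ha ⟨η, hηc, hηW⟩
    · intro η
      haveI := h η.1 η.2.1
      exact Groth.Agent.H1.GenFib.isReduced_tensor_of_isReduced_fiber f hU hW hUW η.1 η.2.2
  letI : Algebra Γ(X, U) (X.presheaf.stalk x) := X.presheaf.algebra_section_stalk ⟨x, hxU⟩
  haveI := hU.isLocalization_stalk ⟨x, hxU⟩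
  exact isReduced_of_isLocalization (hU.primeIdealOf ⟨x, hxU⟩).asIdeal.primeCompl

end Groth.Agent.H9.FRD
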