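import Mathlib
import Groth.Prelude.Def_PolLaw
import Groth.Prelude.Def_FrobAlg

set_option autoImplicit false
open scoped TensorProduct

namespace Groth.Agent.H9.FRL

universe u

section Law
variable (p : ℕ) [Fact p.Prime] (A : Type u) [CommRing A] [CharP A p]
variable (S : Type u) [CommSemiring S] [Algebra A S]

include A in
lemma natCast_p_eq_zero : (p : S) = 0 := by
  rw [← map_natCast (algebraMap A S) p, CharP.cast_eq_zero A p, map_zero]

include A in
lemma add_pow_p (x y : S) : (x + y) ^ p = x ^ p + y ^ p := by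
  obtain ⟨r, hr⟩ := exists_add_pow_prime_eq (Fact.out : p.Prime) x y
  rw [hr, natCast_p_eq_zero p A S]; simp

/-- the biadditive map `(s, a) ↦ s ^ p * a`. -/
noncomputable def psiBil : S →+ FrobAlg.Twist p A →+ S where
  toFun s := (AddMonoidHom.mulLeft (s ^ p)).comp
    ((algebraMap A S).comp ((FrobAlg.toTwist p A).symm : FrobAlg.Twist p A →+* A)).toAddMonoidHom
  map_zero' := by
    ext a
    simp [zero_pow (Fact.out : p.Prime).ne_zero]
  map_add' s s' := by
    ext a
    simp [add_pow_p p A S, add_mul]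

lemma psiBil_apply (s : S) (a : FrobAlg.Twist p A) :
    psiBil p A S s a = s ^ p * algebraMap A S ((FrobAlg.toTwist p A).symm a) := rfl

/-- the relative Frobenius `S ⊗ A^{Frob} → S`, as an additive map. -/
noncomputable def psi : S ⊗[A] FrobAlg.Twist p A →+ S :=
  TensorProduct.liftAddHom (psiBil p A S) (by
    intro c s a
    rw [psiBil_apply, psiBil_apply, Algebra.smul_def c a, FrobAlg.algebraMap_twist, map_mul,
      RingEquiv.symm_apply_apply, map_mul, map_pow, Algebra.smul_def, mul_pow]
    ring)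

lemma psi_tmul (s : S) (a : FrobAlg.Twist p A) :
    psi p A S (s ⊗ₜ[A] a) = s ^ p * algebraMap A S ((FrobAlg.toTwist p A).symm a) := rfl

lemma psi_one : psi p A S 1 = 1 := by
  rw [Algebra.TensorProduct.one_def, psi_tmul]; simp

lemma psi_mul (x y : S ⊗[A] FrobAlg.Twist p A) :
    psi p A S (x * y) = psi p A S x * psi p A S y := by
  induction x using TensorProduct.induction_on with
  | zero => simp
  | add x₁ x₂ h₁ h₂ => rw [add_mul, map_add, h₁, h₂, map_add, add_mul]
  | tmul s a =>
    induction y using TensorProduct.induction_on with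
    | zero => simp
    | add y₁ y₂ h₁ h₂ => rw [mul_add, map_add, h₁, h₂, map_add, mul_add]
    | tmul s' a' =>
      rw [Algebra.TensorProduct.tmul_mul_tmul, psi_tmul, psi_tmul, psi_tmul, mul_pow, map_mul,
        map_mul]
      ring

lemma psi_smul (s : S) (x : S ⊗[A] FrobAlg.Twist p A) :
    psi p A S (s • x) = s ^ p * psi p A S x := by
  induction x using TensorProduct.induction_on with
  | zero => simp
  | add x y hx hy => rw [smul_add, map_add, hx, hy, map_add, mul_add]
  | tmul s' a => rw [TensorProduct.smul_tmul', psi_tmul, psi_tmul, smul_eq_mul, mul_pow, mul_assoc]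

end Law

section Law2
variable (p : ℕ) [Fact p.Prime] (A : Type u) [CommRing A] [CharP A p]

/-- the Frobenius polynomial law. -/
noncomputable def frobPL : FrobAlg.Twist p A →ₚₗ[A] A where
  toFun' S _ _ := fun x => psi p A S x ⊗ₜ[A] (1 : A)
  isCompat' {S} _ _ {S'} _ _ φ := by
    funext x
    simp only [Function.comp_apply]
    rw [LinearMap.rTensor_tmul]
    congr 1
    induction x using TensorProduct.induction_on with
    | zero => simp
    | add x y hx hy => simp only [map_add, hx, hy]
    | tmul s a =>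
      rw [LinearMap.rTensor_tmul, psi_tmul, psi_tmul]
      simp

/-- the Frobenius multiplicative law of degree `p`. -/
noncomputable def frobLaw : PolLaw.MulLaw A (FrobAlg.Twist p A) A p where
  law := frobPL p A
  homog S _ _ s x := by
    show psi p A S (s • x) ⊗ₜ[A] (1 : A) = s ^ p • (psi p A S x ⊗ₜ[A] (1 : A))
    rw [psi_smul, TensorProduct.smul_tmul', smul_eq_mul]
  mult S _ _ := by
    refine ⟨?_, fun x y => ?_⟩
    · show psi p A S 1 ⊗ₜ[A] (1 : A) = 1
      rw [psi_one, Algebra.TensorProduct.one_def]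
    · show psi p A S (x * y) ⊗ₜ[A] (1 : A) = (psi p A S x ⊗ₜ[A] (1 : A)) * (psi p A S y ⊗ₜ[A] (1 : A))
      rw [psi_mul, Algebra.TensorProduct.tmul_mul_tmul, mul_one]

lemma frobLaw_tmul (S : Type u) [CommSemiring S] [Algebra A S] (s : S) (a : FrobAlg.Twist p A) :
    (frobLaw p A).law.toFun' S (s ⊗ₜ[A] a) = (s ^ p) ⊗ₜ[A] (FrobAlg.toTwist p A).symm a := by
  show psi p A S (s ⊗ₜ[A] a) ⊗ₜ[A] (1 : A) = _
  rw [psi_tmul, mul_comm, ← Algebra.smul_def, TensorProduct.smul_tmul, smul_eq_mul, mul_one]

theorem ker_eq_bot (F : FrobAlg.Twist p A →ₚₗ[A] A)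
    (hF : ∀ (S : Type u) [CommSemiring S] [Algebra A S] (s : S) (a : FrobAlg.Twist p A),
      F.toFun' S (s ⊗ₜ[A] a) = (s ^ p) ⊗ₜ[A] (FrobAlg.toTwist p A).symm a) :
    PolLaw.ker F = ⊥ := by
  rw [eq_bot_iff]
  intro b hb
  have h1 := hb A 0 1
  rw [zero_add, one_mul, hF A 1 b] at h1
  have h0 : F.toFun' A (0 : A ⊗[A] FrobAlg.Twist p A) = 0 := by
    have h := hF A 0 (0 : FrobAlg.Twist p A)
    rw [TensorProduct.zero_tmul] at h
    rw [h, zero_pow (Fact.out : p.Prime).ne_zero, TensorProduct.zero_tmul]
  rw [h0, one_pow] at h1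
  have h2 := congrArg (TensorProduct.lid A A) h1
  rw [TensorProduct.lid_tmul, one_smul, map_zero] at h2
  have h3 : b = 0 := by
    have := congrArg (FrobAlg.toTwist p A) h2
    rwa [RingEquiv.apply_symm_apply, map_zero] at this
  rw [h3]; exact Ideal.zero_mem _

end Law2

section NotFinite
variable (p : ℕ) [Fact p.Prime]

theorem not_module_finite :
    ¬ Module.Finite (FractionRing (MvPolynomial ℕ (ZMod p)))
      (FrobAlg.Twist p (FractionRing (MvPolynomial ℕ (ZMod p)))) := by
  intro hfin
  have hli : LinearIndependent (FractionRing (MvPolynomial ℕ (ZMod p)))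
      (fun i : ℕ => FrobAlg.toTwist p (FractionRing (MvPolynomial ℕ (ZMod p)))
        (algebraMap (MvPolynomial ℕ (ZMod p)) (FractionRing (MvPolynomial ℕ (ZMod p)))
          (MvPolynomial.X i))) := by
    rw [linearIndependent_iff']
    intro s c hc j hj
    have hc' : ∑ i ∈ s, (c i) ^ p * algebraMap (MvPolynomial ℕ (ZMod p))
        (FractionRing (MvPolynomial ℕ (ZMod p))) (MvPolynomial.X i) = 0 := by
      have h := congrArg (FrobAlg.toTwist p (FractionRing (MvPolynomial ℕ (ZMod p)))).symm hc
      rw [map_sum, map_zero] at h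
      rw [← h]
      apply Finset.sum_congr rfl
      intro i _
      rw [Algebra.smul_def, FrobAlg.algebraMap_twist, map_mul, RingEquiv.symm_apply_apply,
        RingEquiv.symm_apply_apply]
    obtain ⟨b, hb⟩ := IsLocalization.exist_integer_multiples
      (nonZeroDivisors (MvPolynomial ℕ (ZMod p))) s c
    have hb' : ∀ i, ∃ f : MvPolynomial ℕ (ZMod p), i ∈ s →
        algebraMap (MvPolynomial ℕ (ZMod p)) (FractionRing (MvPolynomial ℕ (ZMod p))) f =
          ((b : MvPolynomial ℕ (ZMod p))) • c i := by
      intro i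
      by_cases hi : i ∈ s
      · obtain ⟨f, hf⟩ := hb i hi
        exact ⟨f, fun _ => hf⟩
      · exact ⟨0, fun h => absurd h hi⟩
    choose f hf using hb'
    have hpoly : ∑ i ∈ s, f i ^ p * MvPolynomial.X i = 0 := by
      apply IsFractionRing.injective (MvPolynomial ℕ (ZMod p))
        (FractionRing (MvPolynomial ℕ (ZMod p)))
      rw [map_sum, map_zero]
      have : ∀ i ∈ s, algebraMap (MvPolynomial ℕ (ZMod p))
          (FractionRing (MvPolynomial ℕ (ZMod p))) (f i ^ p * MvPolynomial.X i) =
          (algebraMap (MvPolynomial ℕ (ZMod p)) (FractionRing (MvPolynomial ℕ (ZMod p)))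
            (b : MvPolynomial ℕ (ZMod p))) ^ p * ((c i) ^ p * algebraMap (MvPolynomial ℕ (ZMod p))
        (FractionRing (MvPolynomial ℕ (ZMod p))) (MvPolynomial.X i)) := by
        intro i hi
        rw [map_mul, map_pow, hf i hi, Algebra.smul_def, mul_pow, mul_assoc]
      rw [Finset.sum_congr rfl this, ← Finset.mul_sum, hc', mul_zero]
    have hD : ∀ i, MvPolynomial.pderiv j (f i ^ p * MvPolynomial.X i) =
        if i = j then f i ^ p else 0 := by
      intro i
      rw [Derivation.leibniz, Derivation.leibniz_pow, MvPolynomial.pderiv_X]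
      have h0 : ((p : ℕ) • (f i ^ (p - 1) • (MvPolynomial.pderiv j) (f i)) :
          MvPolynomial ℕ (ZMod p)) = 0 := by
        rw [nsmul_eq_mul, CharP.cast_eq_zero (MvPolynomial ℕ (ZMod p)) p, zero_mul]
      rw [h0, smul_zero, add_zero]
      by_cases h : i = j
      · subst h; simp
      · simp [h, Pi.single_apply]
    have h4 := congrArg (MvPolynomial.pderiv j) hpoly
    rw [map_sum, map_zero, Finset.sum_congr rfl (fun i _ => hD i), Finset.sum_ite_eq' s j,
      if_pos hj] at h4
    have h5 : f j = 0 := pow_eq_zero_iff (Fact.out : p.Prime).ne_zero |>.mp h4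
    have h6 := hf j hj
    rw [h5, map_zero, Algebra.smul_def] at h6
    have hb0 : algebraMap (MvPolynomial ℕ (ZMod p)) (FractionRing (MvPolynomial ℕ (ZMod p)))
        (b : MvPolynomial ℕ (ZMod p)) ≠ 0 := by
      intro h
      have := IsFractionRing.injective (MvPolynomial ℕ (ZMod p))
        (FractionRing (MvPolynomial ℕ (ZMod p))) (h.trans (map_zero _).symm)
      exact nonZeroDivisors.coe_ne_zero b this
    exact (mul_eq_zero.mp h6.symm).resolve_left hb0
  haveI : Finite ℕ := hli.finite_of_isNoetherian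
  exact _root_.not_finite ℕ

end NotFinite

end Groth.Agent.H9.FRL
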