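import Mathlib
import Groth.Prelude.Def_Magnet

/-! Helper9: the fixed-point subfunctor of a monoid action is a sheaf for any subcanonical topology. -/

set_option linter.style.haveILetI false
set_option linter.unusedSectionVars false

namespace Groth.Agent.H9.FXS

universe v₁ u₁

open CategoryTheory CategoryTheory.Limits MonoidalCategory CartesianMonoidalCategory MonObj Opposite

variable {C : Type u₁} [Category.{v₁} C] [CartesianMonoidalCategory C] {A X : C} [MonObj A]

/-- the fixed point subfunctor as a `Subfunctor` of the functor of points -/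
def fixedSub (a : Magnet.MonAct A X) : Subfunctor (yoneda.obj X) where
  obj T := {x | ∀ (T' : C) (t : T' ⟶ unop T) (g : T' ⟶ A), lift g (t ≫ x) ≫ a.act = t ≫ x}
  map {T T'} t x hx := fun T'' t' g => by
    change lift g (t' ≫ (t.unop ≫ x)) ≫ a.act = t' ≫ t.unop ≫ x
    rw [← Category.assoc, hx]

def fixedIso (a : Magnet.MonAct A X) : Magnet.MonAct.fixedPsh a ≅ (fixedSub a).toFunctor :=
  NatIso.ofComponents (fun T => Iso.refl _) (by
    intro T T' t
    rfl)

theorem fixedSub_isSheaf (J : GrothendieckTopology C) [J.Subcanonical] (a : Magnet.MonAct A X) :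
    Presieve.IsSheaf J (fixedSub a).toFunctor := by
  have hy : Presieve.IsSheaf J (yoneda.obj X) :=
    GrothendieckTopology.Subcanonical.isSheaf_of_isRepresentable (yoneda.obj X)
  rw [Subfunctor.isSheaf_iff _ hy]
  intro T x hx T' t g
  have hcov : (Sieve.pullback t ((fixedSub a).sieveOfSection x)) ∈ J T' := J.pullback_stable t hx
  refine (hy.isSeparated _ hcov).ext ?_
  intro V f' hf'
  change f' ≫ (lift g (t ≫ x) ≫ a.act) = f' ≫ (t ≫ x)
  have h1 := hf' V (𝟙 V) (f' ≫ g)
  change lift (f' ≫ g) (𝟙 V ≫ ((f' ≫ t) ≫ x)) ≫ a.act = 𝟙 V ≫ ((f' ≫ t) ≫ x) at h1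
  rw [Category.id_comp] at h1
  rw [← Category.assoc, comp_lift, ← Category.assoc f' t x, h1, Category.assoc]

theorem fixedPsh_isSheaf (J : GrothendieckTopology C) [J.Subcanonical] (a : Magnet.MonAct A X) :
    Presheaf.IsSheaf J (Magnet.MonAct.fixedPsh a) := by
  rw [isSheaf_iff_isSheaf_of_type]
  exact Presieve.isSheaf_iso J (fixedIso a).symm (fixedSub_isSheaf J a)

end Groth.Agent.H9.FXS
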