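import Mathlib
import Groth.Agent.Lib.Helper9.Misc.SmtC
set_option autoImplicit false
set_option linter.unusedSectionVars false
set_option linter.unusedVariables false

namespace Groth.Agent.H9.SMT

open W4bk4grassmannian MvPolynomial

variable {d n : ℕ}

section pairs

variable (K : Type*) [CommRing K]

/-- span of the classes of the standard quadratic monomials of total weight `W` -/
noncomputable def VV2 (W : ℕ) : Submodule K (PlRing K d n ⧸ plIdealTop (d := d) (n := n) K) :=
  Submodule.span K {x | ∃ α β : Idx d n, β ≤ α ∧ wt α + wt β = W ∧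
    x = Ideal.Quotient.mk (plIdealTop (d := d) (n := n) K) (X α * X β)}

theorem pm_mem2 {W : ℕ} {x : PlRing K d n ⧸ plIdealTop (d := d) (n := n) K}
    (hx : x ∈ VV2 (d := d) (n := n) K W) (e : ℕ) : (-1) ^ e * x ∈ VV2 (d := d) (n := n) K W := by
  rcases neg_one_pow_eq_or (PlRing K d n ⧸ plIdealTop (d := d) (n := n) K) e with h | h
  · rw [h, one_mul]; exact hx
  · rw [h, neg_one_mul]; exact (VV2 K W).neg_mem hx

theorem step2 (i j : Idx d n) (hji : ¬ j ≤ i) (hw : wt j ≤ wt i)
    (ih : ∀ θ1 θ2 : Idx d n, wt θ1 + wt θ2 = wt i + wt j →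
      wt i ^ 2 + wt j ^ 2 < wt θ1 ^ 2 + wt θ2 ^ 2 →
      Ideal.Quotient.mk (plIdealTop (d := d) (n := n) K) (X θ1 * X θ2) ∈
        VV2 (d := d) (n := n) K (wt i + wt j)) :
    Ideal.Quotient.mk (plIdealTop (d := d) (n := n) K) (X i * X j) ∈
      VV2 (d := d) (n := n) K (wt i + wt j) := by
  classical
  have hex : ∃ t : Fin d, i.1 t < j.1 t := by
    by_contra hcon
    push Not at hcon
    exact hji (fun t => hcon t)
  let S : Finset (Fin d) := Finset.univ.filter (fun t => i.1 t < j.1 t)
  have hS : S.Nonempty := by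
    obtain ⟨t, ht⟩ := hex
    exact ⟨t, Finset.mem_filter.2 ⟨Finset.mem_univ _, ht⟩⟩
  set r := S.min' hS with hr
  have hr1 : i.1 r < j.1 r := (Finset.mem_filter.1 (Finset.min'_mem S hS)).2
  have hr2 : ∀ t : Fin d, t < r → j.1 t ≤ i.1 t := by
    intro t ht
    by_contra hcon
    have : t ∈ S := Finset.mem_filter.2 ⟨Finset.mem_univ _, not_le.1 hcon⟩
    exact absurd (Finset.min'_le S t this) (not_le.2 ht)
  have hp : IsPivot i j r := ⟨hr2, hr1⟩
  have hrel : shuffleRel K i j r ∈ plIdealTop (d := d) (n := n) K :=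
    Ideal.subset_span ⟨i, j, r, hp, rfl⟩
  have hsplit : shuffleRel K i j r = (-1) ^ shuffleSign r (A0 r) * (X i * X j) +
      ∑ A ∈ Finset.univ.erase (A0 r), shuffleTerm K i j r A := by
    unfold shuffleRel
    rw [← Finset.add_sum_erase _ _ (Finset.mem_univ (A0 r)), term_A0]
  set ε : PlRing K d n := (-1) ^ shuffleSign r (A0 r) with hε
  have hεε : ε * ε = 1 := by rw [hε, ← pow_add, ← two_mul, pow_mul]; norm_num
  have h0 : Ideal.Quotient.mk (plIdealTop (d := d) (n := n) K) (shuffleRel K i j r) = 0 :=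
    Ideal.Quotient.eq_zero_iff_mem.2 hrel
  have h1 : Ideal.Quotient.mk (plIdealTop (d := d) (n := n) K) (X i * X j) +
      ∑ A ∈ Finset.univ.erase (A0 r),
        Ideal.Quotient.mk (plIdealTop (d := d) (n := n) K) (ε * shuffleTerm K i j r A) = 0 := by
    have : Ideal.Quotient.mk (plIdealTop (d := d) (n := n) K) (ε * shuffleRel K i j r) = 0 := by
      rw [map_mul, h0, mul_zero]
    rw [hsplit, mul_add, ← mul_assoc, hεε, one_mul, Finset.mul_sum, map_add, map_sum] at this
    exact this
  have h2 : Ideal.Quotient.mk (plIdealTop (d := d) (n := n) K) (X i * X j) =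
      - ∑ A ∈ Finset.univ.erase (A0 r),
        Ideal.Quotient.mk (plIdealTop (d := d) (n := n) K) (ε * shuffleTerm K i j r A) := by
    linear_combination h1
  rw [h2]
  apply (VV2 K _).neg_mem
  apply (VV2 K _).sum_mem
  intro A hA
  have hne : A ≠ A0 r := (Finset.mem_erase.1 hA).1
  rcases term_form K i j r hr1 A hne with h | ⟨θ1, θ2, e, h, hw1, hw2⟩
  · rw [h, mul_zero, map_zero]; exact (VV2 K _).zero_mem
  · have hM' := ih θ1 θ2 hw1 (by
      have := arith (wt i) (wt j) (wt θ1) (wt θ2) 0 hw1 hw2 hw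
      omega)
    have : ε * shuffleTerm K i j r A =
        (-1) ^ (shuffleSign r (A0 r) + e) * (X θ1 * X θ2) := by
      rw [h, hε, pow_add]; ring
    rw [this, map_mul, map_pow, map_neg, map_one]
    exact pm_mem2 K hM' _

theorem pair_mem_aux : ∀ (k : ℕ) (i j : Idx d n),
    2 * (d * n) ^ 2 - (wt i ^ 2 + wt j ^ 2) = k →
    Ideal.Quotient.mk (plIdealTop (d := d) (n := n) K) (X i * X j) ∈
      VV2 (d := d) (n := n) K (wt i + wt j) := by
  intro k
  induction k using Nat.strong_induction_on with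
  | _ k ih =>
    intro i j hk
    by_cases h1 : j ≤ i
    · exact Submodule.subset_span ⟨i, j, h1, rfl, rfl⟩
    by_cases h2 : i ≤ j
    · exact Submodule.subset_span ⟨j, i, h2, add_comm _ _, by rw [mul_comm]⟩
    have hbound : ∀ θ : Idx d n, wt θ ^ 2 ≤ (d * n) ^ 2 :=
      fun θ => Nat.pow_le_pow_left (wt_le θ) 2
    rcases le_total (wt j) (wt i) with hw | hw
    · apply step2 K i j h1 hw
      intro θ1 θ2 hw1 hlt
      have := ih (2 * (d * n) ^ 2 - (wt θ1 ^ 2 + wt θ2 ^ 2)) (by
        have := hbound θ1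
        have := hbound θ2
        omega) θ1 θ2 rfl
      rw [hw1] at this
      exact this
    · have h3 : Ideal.Quotient.mk (plIdealTop (d := d) (n := n) K) (X j * X i) ∈
          VV2 (d := d) (n := n) K (wt j + wt i) := by
        apply step2 K j i h2 hw
        intro θ1 θ2 hw1 hlt
        have := ih (2 * (d * n) ^ 2 - (wt θ1 ^ 2 + wt θ2 ^ 2)) (by
          have := hbound θ1
          have := hbound θ2
          omega) θ1 θ2 rfl
        rw [hw1] at this
        exact this
      rw [mul_comm, add_comm]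
      exact h3

theorem pair_mem (i j : Idx d n) :
    Ideal.Quotient.mk (plIdealTop (d := d) (n := n) K) (X i * X j) ∈
      VV2 (d := d) (n := n) K (wt i + wt j) :=
  pair_mem_aux K _ i j rfl

end pairs

end Groth.Agent.H9.SMT
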