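import Mathlib
import Groth.Prelude.Def_W4bk4grassmannianPl
import Groth.Agent.Lib.Helper9.Misc.Str2A
import Groth.Agent.Lib.Helper9.Misc.LdtF
set_option autoImplicit false
set_option linter.unusedSectionVars false
set_option linter.unusedVariables false

namespace Groth.Agent.H9.Str2

open MvPolynomial W4bk4grassmannian
open Groth.Agent.H9

section general

variable {σ : Type*} (m : MonomialOrder σ) {K : Type*} [CommRing K] [Nontrivial K]

theorem top_coeff {ι : Type*} (f : ι → MvPolynomial σ K) (hmonic : ∀ i, m.Monic (f i))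
    (hinj : ∀ i j, m.degree (f i) = m.degree (f j) → i = j)
    (s : Finset ι) (g : ι → K) (D : MvPolynomial σ K) (hsum : ∑ i ∈ s, g i • f i = D)
    (i0 : ι) (hi0 : i0 ∈ s)
    (hD : ∀ b ∈ D.support, m.toSyn b < m.toSyn (m.degree (f i0))) : g i0 = 0 := by
  classical
  by_contra hg0
  have hs' : (s.filter (fun i => g i ≠ 0)).Nonempty := ⟨i0, Finset.mem_filter.2 ⟨hi0, hg0⟩⟩
  obtain ⟨i1, hi1, hmax⟩ := Finset.exists_max_image (s.filter (fun i => g i ≠ 0))
    (fun i => m.toSyn (m.degree (f i))) hs'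
  have hc : (∑ i ∈ s, g i • f i).coeff (m.degree (f i1)) = g i1 := by
    rw [MvPolynomial.coeff_sum]
    rw [Finset.sum_eq_single i1]
    · rw [MvPolynomial.coeff_smul, (hmonic i1).coeff_degree, smul_eq_mul, mul_one]
    · intro i hi hne
      rw [MvPolynomial.coeff_smul]
      by_cases hgi : g i = 0
      · rw [hgi, zero_smul]
      · have hi' : i ∈ s.filter (fun i => g i ≠ 0) := Finset.mem_filter.2 ⟨hi, hgi⟩
        have hle := hmax i hi'
        have hlt : m.toSyn (m.degree (f i)) < m.toSyn (m.degree (f i1)) :=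
          lt_of_le_of_ne hle (fun h => hne (hinj i i1 (m.toSyn.injective h)))
        rw [m.coeff_eq_zero_of_lt hlt, smul_zero]
    · intro h; exact absurd (Finset.mem_filter.1 hi1).1 h
  rw [hsum] at hc
  have hmem : m.degree (f i1) ∈ D.support := by
    rw [MvPolynomial.mem_support_iff, hc]; exact (Finset.mem_filter.1 hi1).2
  have h1 := hD _ hmem
  have h2 := hmax i0 (Finset.mem_filter.2 ⟨hi0, hg0⟩)
  exact absurd h1 (not_lt.2 h2)

end general

section main

variable (K : Type*) [Field K] {d n : ℕ}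

theorem antitone_pair (α β : Idx d n) (h : β ≤ α) : Antitone ![α, β] := by
  intro a b hab
  fin_cases a <;> fin_cases b
  · exact le_rfl
  · exact h
  · exact absurd hab (by decide)
  · exact le_rfl

/-- the chain of length two of a standard pair -/
def pairCh (α β : Idx d n) (h : β ≤ α) : Ldt.Ch d n := ⟨2, ![α, β], antitone_pair α β h⟩

theorem pairCh_inj {α β α' β' : Idx d n} {h : β ≤ α} {h' : β' ≤ α'}
    (heq : pairCh α β h = pairCh α' β' h') : α = α' ∧ β = β' := by
  unfold pairCh at heq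
  simp only [Sigma.mk.injEq, heq_eq_eq, true_and, Subtype.mk.injEq] at heq
  exact ⟨congrFun heq 0, congrFun heq 1⟩

theorem chainMon_pair (α β : Idx d n) : chainMon K ![α, β] = X α * X β := by
  unfold chainMon
  rw [Fin.prod_univ_two]
  rfl

/-- standard pairs of total weight `W` -/
abbrev Q (d n W : ℕ) : Type :=
  {p : Idx d n × Idx d n // p.2 ≤ p.1 ∧ SMT.wt p.1 + SMT.wt p.2 = W}

def qCh {W : ℕ} (p : Q d n W) : Ldt.Ch d n := pairCh p.1.1 p.1.2 p.2.1

theorem qCh_inj {W : ℕ} : Function.Injective (qCh (d := d) (n := n) (W := W)) := by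
  intro p p' h
  obtain ⟨h1, h2⟩ := pairCh_inj h
  exact Subtype.ext (Prod.ext h1 h2)

theorem expansion (τ φ : Idx d n) [Fintype (Q d n (SMT.wt τ + SMT.wt φ))] :
    ∃ c : Q d n (SMT.wt τ + SMT.wt φ) → K,
      X τ * X φ - ∑ p, c p • chainMon K (qCh p).2.1 ∈ plIdealTop (d := d) (n := n) K := by
  have h := SMT.pair_mem K τ φ
  have hset : SMT.VV2 (d := d) (n := n) K (SMT.wt τ + SMT.wt φ) =
      Submodule.span K (Set.range fun p : Q d n (SMT.wt τ + SMT.wt φ) =>
        Ideal.Quotient.mk (plIdealTop (d := d) (n := n) K) (chainMon K (qCh p).2.1)) := by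
    unfold SMT.VV2
    congr 1
    ext x
    constructor
    · rintro ⟨α, β, h1, h2, rfl⟩
      refine ⟨⟨(α, β), h1, h2⟩, ?_⟩
      show Ideal.Quotient.mk _ (chainMon K ![α, β]) = _
      rw [chainMon_pair]
    · rintro ⟨p, rfl⟩
      refine ⟨p.1.1, p.1.2, p.2.1, p.2.2, ?_⟩
      show Ideal.Quotient.mk _ (chainMon K ![p.1.1, p.1.2]) = _
      rw [chainMon_pair]
  rw [hset, Submodule.mem_span_range_iff_exists_fun] at h
  obtain ⟨c, hc⟩ := h
  refine ⟨c, ?_⟩
  rw [← Ideal.Quotient.eq, ← hc, map_sum]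
  apply Finset.sum_congr rfl
  intro p _
  rfl

theorem Psi_vanishing [Infinite K] (lo hi : Fin d → Fin n) {f : PlRing K d n}
    (hf : f ∈ vanishing K d n) : Ldt.Psi K lo hi f = 0 := by
  apply MvPolynomial.funext
  intro a
  unfold Ldt.Psi
  rw [Ldt.eval_Phi, map_zero]
  exact (Shf.mem_vanishing_iff K f).1 hf _

theorem wt_sup_inf (τ φ : Idx d n) :
    SMT.wt (W4bk4grassmannian.sup τ φ) + SMT.wt (W4bk4grassmannian.inf τ φ) =
      SMT.wt τ + SMT.wt φ := by
  unfold SMT.wt
  rw [← Finset.sum_add_distrib, ← Finset.sum_add_distrib]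
  apply Finset.sum_congr rfl
  intro t _
  show ((max (τ.1 t) (φ.1 t) : Fin n) : ℕ) + ((min (τ.1 t) (φ.1 t) : Fin n) : ℕ) = _
  rcases le_total (τ.1 t) (φ.1 t) with h | h
  · rw [max_eq_right h, min_eq_left h, add_comm]
  · rw [max_eq_left h, min_eq_right h]

theorem mon_sup_inf {σ : Type*} (v : Fin n → Fin d → σ) (τ φ : Idx d n) :
    Ldt.mon v (W4bk4grassmannian.sup τ φ).1 + Ldt.mon v (W4bk4grassmannian.inf τ φ).1 =
      Ldt.mon v τ.1 + Ldt.mon v φ.1 := by
  unfold Ldt.mon
  rw [← Finset.sum_add_distrib, ← Finset.sum_add_distrib]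
  apply Finset.sum_congr rfl
  intro t _
  show Finsupp.single (v (max (τ.1 t) (φ.1 t)) t) 1 +
    Finsupp.single (v (min (τ.1 t) (φ.1 t)) t) 1 = _
  rcases le_total (τ.1 t) (φ.1 t) with h | h
  · rw [max_eq_right h, min_eq_left h, add_comm]
  · rw [max_eq_left h, min_eq_right h]

end main

end Groth.Agent.H9.Str2
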