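import Mathlib
import Groth.Prelude.Def_W4bk4grassmannianPl
import Groth.Agent.Lib.Helper9.Misc.Str2B
import Groth.Agent.Lib.Helper9.Misc.NrmA
set_option autoImplicit false
set_option linter.unusedSectionVars false
set_option linter.unusedVariables false

namespace Groth.Agent.H9.Fft

open MvPolynomial W4bk4grassmannian
open Groth.Agent.H9

section fftA

variable (K : Type*) [Field K] {d n : ℕ}

/-- the generic `n × d` matrix -/
noncomputable def Xm : Matrix (Fin n) (Fin d) (MatRing K d n) := Matrix.of fun s t => X (s, t)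

theorem minor_eq (a : Fin d → Fin n) : minor K d n a = ((Xm (d := d) (n := n) K).submatrix a id).det :=
  rfl

theorem pluckerMap_X (θ : Idx d n) :
    pluckerMap K d n (X θ) = ((Xm (d := d) (n := n) K).submatrix θ.1 id).det := by
  unfold pluckerMap; rw [aeval_X]; rfl

theorem pluckerMap_coord (a : Fin d → Fin n) :
    pluckerMap K d n (coord K d n a) = ((Xm (d := d) (n := n) K).submatrix a id).det := by
  have := Nrm.aeval_coord (pluckerMap K d n) (Xm (d := d) (n := n) K) 1
    (fun θ => by rw [one_mul, pluckerMap_X]) a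
  rw [one_mul] at this
  exact this

/-- evaluation at a matrix -/
noncomputable def evM (A : Matrix (Fin n) (Fin d) K) : MatRing K d n →+* K :=
  MvPolynomial.eval (fun p => A p.1 p.2)

theorem Xm_map_evM (A : Matrix (Fin n) (Fin d) K) : (Xm K).map (evM K A) = A := by
  ext s t
  simp [Xm, evM]

theorem evM_pluckerMap (A : Matrix (Fin n) (Fin d) K) (H : PlRing K d n) :
    evM K A (pluckerMap K d n H) = evalMinors K d n A H := by
  induction H using MvPolynomial.induction_on with
  | C r => simp [pluckerMap, evalMinors, evM]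
  | add p q hp hq => rw [map_add, map_add, map_add, hp, hq]
  | mul_X p θ hp =>
    rw [map_mul, map_mul, map_mul, hp, pluckerMap_X, Shf.evalMinors_X, RingHom.map_det]
    have hmat : (evM K A).mapMatrix ((Xm (d := d) (n := n) K).submatrix θ.1 id) =
        A.submatrix θ.1 id := by
      ext i j
      simp [Xm, evM]
    rw [hmat]

theorem pluckerMap_vanishing [Infinite K] {H : PlRing K d n} (hH : H ∈ vanishing K d n) :
    pluckerMap K d n H = 0 := by
  apply MvPolynomial.funext
  intro a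
  have h1 := evM_pluckerMap K (Matrix.of fun s t => a (s, t)) H
  rw [(Shf.mem_vanishing_iff K H).1 hH] at h1
  rw [map_zero, ← h1]
  unfold evM
  congr 1

/-- substitution of the generic matrix of shape `[lo, hi]` -/
noncomputable def rho (lo hi : Fin d → Fin n) : MatRing K d n →ₐ[K] MvPolynomial (Ldt.V n d) K :=
  aeval fun p : Fin n × Fin d => Ldt.G K (Ldt.vv n d) lo hi p.1 p.2

theorem Psi_eq_rho (lo hi : Fin d → Fin n) (H : PlRing K d n) :
    Ldt.Psi K lo hi H = rho K lo hi (pluckerMap K d n H) := by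
  induction H using MvPolynomial.induction_on with
  | C r => simp [Ldt.Psi, Ldt.Phi, pluckerMap, rho]
  | add p q hp hq => rw [map_add, map_add, map_add, hp, hq]
  | mul_X p θ hp =>
    rw [map_mul, map_mul, map_mul, hp, pluckerMap_X]
    congr 1
    unfold Ldt.Psi
    rw [Ldt.Phi_X, AlgHom.map_det]
    have hmat : (rho K lo hi).mapMatrix ((Xm (d := d) (n := n) K).submatrix θ.1 id) =
        (Ldt.G K (Ldt.vv n d) lo hi).submatrix θ.1 id := by
      ext i j
      simp [Xm, rho]
    rw [hmat]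

theorem ker_Psi_iota' [Infinite K] (hd : 0 < d) (hdn : d < n) (H : PlRing K d n)
    (hH : Ldt.Psi K (Ldt.iotaLo hdn) (fun _ : Fin d => (⟨n - 1, by omega⟩ : Fin n)) H = 0) :
    H ∈ vanishing K d n ⊔ Ideal.span {X (Ldt.iota hdn)} := by
  obtain ⟨l, hl⟩ := Ldt.exists_expansion K H
  have hhi : Monotone (fun _ : Fin d => (⟨n - 1, by omega⟩ : Fin n)) := monotone_const
  have hΨ : Ldt.Psi K (Ldt.iotaLo hdn) (fun _ : Fin d => (⟨n - 1, by omega⟩ : Fin n))
      (l.sum (fun x a => a • chainMon K x.2.1)) = 0 := by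
    have h1 := Str2.Psi_vanishing K (Ldt.iotaLo hdn)
      (fun _ : Fin d => (⟨n - 1, by omega⟩ : Fin n)) (Shf.plIdealTop_le_vanishing K hl)
    rw [map_sub, hH, zero_sub, neg_eq_zero] at h1
    exact h1
  unfold Finsupp.sum at hΨ
  have hcoef := Ldt.Psi_coeff_zero K hd (Ldt.iotaLo hdn)
    (fun _ : Fin d => (⟨n - 1, by omega⟩ : Fin n)) (Ldt.iotaLo_mono hdn) hhi
    (fun x : Ldt.Ch d n => x) Function.injective_id l.support (fun x => l x) hΨ
  have hmem : l.sum (fun x a => a • chainMon K x.2.1) ∈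
      vanishing K d n ⊔ Ideal.span {X (Ldt.iota hdn)} := by
    unfold Finsupp.sum
    apply Ideal.sum_mem
    intro x hx
    apply Submodule.smul_of_tower_mem
    have hnf : ¬ Ldt.Fits (Ldt.iotaLo hdn) (fun _ : Fin d => (⟨n - 1, by omega⟩ : Fin n)) x :=
      fun hfit => (Finsupp.mem_support_iff.1 hx) (hcoef x hx hfit)
    unfold Ldt.Fits at hnf
    obtain ⟨k, hk⟩ := not_forall.1 hnf
    apply Ldt.chainMon_mem_of_mem K _ _ k
    have h2 : x.2.1 k = Ldt.iota hdn := by
      by_contra hne
      apply hk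
      intro t
      refine ⟨Ldt.iotaLo_le hd hdn _ hne t, Fin.le_def.2 ?_⟩
      show ((x.2.1 k).1 t).val ≤ n - 1
      have := ((x.2.1 k).1 t).2
      omega
    rw [h2]
    exact Ideal.mem_sup_right (Ideal.subset_span rfl)
  have := Ideal.add_mem _ (Ideal.mem_sup_left (Shf.plIdealTop_le_vanishing K hl)) hmem
  rwa [sub_add_cancel] at this

theorem minor_iota_ne_zero (hdn : d < n) : minor K d n (Ldt.iota hdn).1 ≠ 0 := by
  intro h0
  have hn : 0 < n := by omega
  have h1 := Psi_eq_rho K (fun _ : Fin d => (⟨0, hn⟩ : Fin n))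
    (fun _ : Fin d => (⟨n - 1, by omega⟩ : Fin n)) (X (Ldt.iota hdn))
  rw [pluckerMap_X, ← minor_eq, h0, map_zero] at h1
  refine Ldt.Psi_X_ne_zero K _ _ (Ldt.iota hdn) ?_ h1
  intro t
  refine ⟨Fin.le_def.2 (Nat.zero_le _), Fin.le_def.2 ?_⟩
  show ((Ldt.iota hdn).1 t).val ≤ n - 1
  have := ((Ldt.iota hdn).1 t).2
  omega

/-- divisibility by the first minor descends to the subalgebra generated by the minors -/
theorem step2 [Infinite K] (hd : 0 < d) (hdn : d < n) (h : MatRing K d n) (H0 : PlRing K d n)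
    (hH : minor K d n (Ldt.iota hdn).1 * h = pluckerMap K d n H0) :
    ∃ H1, h = pluckerMap K d n H1 := by
  have hΨ : Ldt.Psi K (Ldt.iotaLo hdn) (fun _ : Fin d => (⟨n - 1, by omega⟩ : Fin n)) H0 = 0 := by
    rw [Psi_eq_rho, ← hH, map_mul, minor_eq, ← pluckerMap_X, ← Psi_eq_rho]
    rw [Ldt.Psi_X_eq_zero_of_not_ge K _ _ (Ldt.iotaLo_mono hdn), zero_mul]
    intro h
    have := h ⟨d - 1, by omega⟩
    unfold Ldt.iotaLo Ldt.iota at this
    rw [Fin.le_def] at this
    rw [if_pos (by show d - 1 + 1 = d; omega)] at this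
    have h2 : d ≤ d - 1 := this
    omega
  have hmem := ker_Psi_iota' K hd hdn H0 hΨ
  obtain ⟨V, hV, z, hz, hVz⟩ := Submodule.mem_sup.1 hmem
  obtain ⟨H1, rfl⟩ := Ideal.mem_span_singleton'.1 hz
  refine ⟨H1, ?_⟩
  apply mul_left_cancel₀ (minor_iota_ne_zero K hdn)
  rw [hH, ← hVz, map_add, pluckerMap_vanishing K hV, zero_add, map_mul, pluckerMap_X, ← minor_eq,
    mul_comm]

end fftA

end Groth.Agent.H9.Fft
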