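import Mathlib
import Groth.Prelude.Def_W4bk4grassmannianPl
import Groth.Agent.Lib.Helper9.Misc.FftA
set_option autoImplicit false
set_option linter.unusedSectionVars false
set_option linter.unusedVariables false

namespace Groth.Agent.H9.Fft

open MvPolynomial W4bk4grassmannian
open Groth.Agent.H9

section fftB

variable (K : Type*) [Field K] {d n : ℕ}

theorem evM_rightTranslate (A : Matrix (Fin n) (Fin d) K)
    (g : Matrix.SpecialLinearGroup (Fin d) K) (f : MatRing K d n) :
    evM K A (rightTranslate K d n g f) = evM K (A * (g : Matrix (Fin d) (Fin d) K)) f := by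
  induction f using MvPolynomial.induction_on with
  | C r => simp [rightTranslate, evM]
  | add p q hp hq => rw [map_add, map_add, map_add, hp, hq]
  | mul_X p v hp =>
    rw [map_mul, map_mul, map_mul, hp]
    congr 1
    unfold rightTranslate evM
    rw [aeval_X, map_sum, eval_X, Matrix.mul_apply]
    apply Finset.sum_congr rfl
    intro k _
    rw [map_mul, eval_X, eval_C]

/-- the generic matrix times the adjugate of its top block: all entries are minors -/
noncomputable def Ym (hdn : d < n) : Matrix (Fin n) (Fin d) (MatRing K d n) :=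
  Matrix.of fun s t => ∑ k : Fin d, Xm K s k *
    Matrix.adjugate ((Xm (d := d) (n := n) K).submatrix (Ldt.iota hdn).1 id) k t

theorem Ym_apply (hdn : d < n) (s : Fin n) (t : Fin d) :
    Ym K hdn s t = pluckerMap K d n (coord K d n (Function.update (Ldt.iota hdn).1 t s)) := by
  rw [pluckerMap_coord]
  have h2 : (Xm (d := d) (n := n) K).submatrix (Function.update (Ldt.iota hdn).1 t s) id =
      ((Xm (d := d) (n := n) K).submatrix (Ldt.iota hdn).1 id).updateRow t ((Xm K) s) := by
    ext i j
    rw [Matrix.submatrix_apply, id_eq, Matrix.updateRow_apply]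
    by_cases hi : i = t
    · rw [if_pos hi, hi, Function.update_self]
    · rw [if_neg hi, Function.update_of_ne hi, Matrix.submatrix_apply, id_eq]
  rw [h2, ← Matrix.cramer_transpose_apply, Matrix.cramer_eq_adjugate_mulVec,
    ← Matrix.adjugate_transpose]
  unfold Ym
  simp only [Matrix.mulVec, dotProduct, Matrix.transpose_apply, Matrix.of_apply]
  apply Finset.sum_congr rfl
  intro k _
  ring

theorem Ym_map (hdn : d < n) (A : Matrix (Fin n) (Fin d) K) :
    (Ym K hdn).map (evM K A) = Matrix.of fun s t => ∑ k : Fin d, A s k *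
      Matrix.adjugate (A.submatrix (Ldt.iota hdn).1 id) k t := by
  have h1 := RingHom.map_adjugate (evM K A)
    ((Xm (d := d) (n := n) K).submatrix (Ldt.iota hdn).1 id)
  have h2 : (evM K A).mapMatrix ((Xm (d := d) (n := n) K).submatrix (Ldt.iota hdn).1 id) =
      A.submatrix (Ldt.iota hdn).1 id := by
    ext i j
    simp [Xm, evM]
  rw [h2] at h1
  ext s t
  rw [Matrix.map_apply]
  unfold Ym
  rw [Matrix.of_apply, map_sum, Matrix.of_apply]
  apply Finset.sum_congr rfl
  intro k _
  rw [map_mul]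
  congr 1
  · simp [Xm, evM]
  · exact congrFun (congrFun h1 k) t

/-- the substitution `x_{s,0} ↦ Y_{s,0} Z`, `x_{s,t} ↦ Y_{s,t}` (`t > 0`) -/
noncomputable def Theta (hd : 0 < d) (hdn : d < n) :
    MatRing K d n →ₐ[K] Polynomial (MatRing K d n) :=
  aeval fun p : Fin n × Fin d =>
    if p.2 = (⟨0, hd⟩ : Fin d) then Polynomial.C (Ym K hdn p.1 p.2) * Polynomial.X
    else Polynomial.C (Ym K hdn p.1 p.2)

theorem Theta_X (hd : 0 < d) (hdn : d < n) (v : Fin n × Fin d) :
    Theta K hd hdn (X v) =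
      if v.2 = (⟨0, hd⟩ : Fin d) then Polynomial.C (Ym K hdn v.1 v.2) * Polynomial.X
      else Polynomial.C (Ym K hdn v.1 v.2) := by
  unfold Theta; rw [aeval_X]

theorem Theta_C (hd : 0 < d) (hdn : d < n) (r : K) :
    Theta K hd hdn (C r) = Polynomial.C (C r) := by
  unfold Theta; rw [aeval_C]; rfl

theorem Theta_coeff (hd : 0 < d) (hdn : d < n) (f : MatRing K d n) :
    ∀ j, (Theta K hd hdn f).coeff j ∈ (pluckerMap K d n).range := by
  induction f using MvPolynomial.induction_on with
  | C r =>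
    intro j
    rw [Theta_C, Polynomial.coeff_C]
    split_ifs
    · exact ⟨C r, by simp [pluckerMap]⟩
    · exact Subalgebra.zero_mem _
  | add p q hp hq =>
    intro j
    rw [map_add, Polynomial.coeff_add]
    exact Subalgebra.add_mem _ (hp j) (hq j)
  | mul_X p v hp =>
    intro j
    rw [map_mul, Theta_X]
    have hY : Ym K hdn v.1 v.2 ∈ (pluckerMap K d n).range := ⟨_, (Ym_apply K hdn v.1 v.2).symm⟩
    split_ifs
    · rw [← mul_assoc]
      cases j with
      | zero => rw [Polynomial.coeff_mul_X_zero]; exact Subalgebra.zero_mem _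
      | succ j =>
        rw [Polynomial.coeff_mul_X, Polynomial.coeff_mul_C]
        exact Subalgebra.mul_mem _ (hp j) hY
    · rw [Polynomial.coeff_mul_C]
      exact Subalgebra.mul_mem _ (hp j) hY

theorem eval₂_Theta (hd : 0 < d) (hdn : d < n) (A : Matrix (Fin n) (Fin d) K) (z : K)
    (f : MatRing K d n) :
    Polynomial.eval₂ (evM K A) z (Theta K hd hdn f) =
      evM K (Matrix.of fun s t =>
        (A * Matrix.adjugate (A.submatrix (Ldt.iota hdn).1 id)) s t *
          (if t = (⟨0, hd⟩ : Fin d) then z else 1)) f := by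
  induction f using MvPolynomial.induction_on with
  | C r =>
    rw [Theta_C, Polynomial.eval₂_C]
    simp [evM]
  | add p q hp hq => rw [map_add, Polynomial.eval₂_add, map_add, hp, hq]
  | mul_X p v hp =>
    rw [map_mul, Polynomial.eval₂_mul, map_mul, hp]
    congr 1
    rw [Theta_X]
    have hY : evM K A (Ym K hdn v.1 v.2) =
        (A * Matrix.adjugate (A.submatrix (Ldt.iota hdn).1 id)) v.1 v.2 := by
      have := congrFun (congrFun (Ym_map K hdn A) v.1) v.2
      rw [Matrix.map_apply, Matrix.of_apply] at this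
      rw [this, Matrix.mul_apply]
    have hR : evM K (Matrix.of fun s t =>
        (A * Matrix.adjugate (A.submatrix (Ldt.iota hdn).1 id)) s t *
          (if t = (⟨0, hd⟩ : Fin d) then z else 1)) (X v) =
        (A * Matrix.adjugate (A.submatrix (Ldt.iota hdn).1 id)) v.1 v.2 *
          (if v.2 = (⟨0, hd⟩ : Fin d) then z else 1) := by
      unfold evM
      rw [eval_X]
      rfl
    rw [hR]
    split_ifs with h
    · rw [Polynomial.eval₂_mul, Polynomial.eval₂_C, Polynomial.eval₂_X, hY]
    · rw [Polynomial.eval₂_C, hY, mul_one]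

theorem step1 [Infinite K] (hd : 0 < d) (hdn : d < n) (f : MatRing K d n)
    (hf : ∀ g : Matrix.SpecialLinearGroup (Fin d) K, rightTranslate K d n g f = f) :
    ∃ (N : ℕ) (H : PlRing K d n),
      minor K d n (Ldt.iota hdn).1 ^ N * f = pluckerMap K d n H := by
  classical
  obtain ⟨δ, hδ⟩ : ∃ δ, δ = minor K d n (Ldt.iota hdn).1 := ⟨_, rfl⟩
  obtain ⟨P, hP⟩ : ∃ P, P = Theta K hd hdn f := ⟨_, rfl⟩
  obtain ⟨m, hm⟩ : ∃ m, m = P.natDegree := ⟨_, rfl⟩
  have hδmem : δ ∈ (pluckerMap K d n).range :=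
    ⟨X (Ldt.iota hdn), by
      show pluckerMap K d n (X (Ldt.iota hdn)) = δ
      rw [pluckerMap_X, hδ, minor_eq]⟩
  have hFmem : (∑ j ∈ Finset.range (m + 1), P.coeff j * δ ^ ((d - 1) * (m - j))) ∈
      (pluckerMap K d n).range := by
    apply Subalgebra.sum_mem
    intro j _
    apply Subalgebra.mul_mem
    · rw [hP]; exact Theta_coeff K hd hdn f j
    · exact Subalgebra.pow_mem _ hδmem _
  obtain ⟨H, hH⟩ := hFmem
  refine ⟨(d - 1) * m + 1, X (Ldt.iota hdn) * H, ?_⟩
  have hH' : pluckerMap K d n H =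
      ∑ j ∈ Finset.range (m + 1), P.coeff j * δ ^ ((d - 1) * (m - j)) := hH
  rw [map_mul, pluckerMap_X, ← minor_eq, ← hδ, hH']
  apply MvPolynomial.funext
  intro a
  obtain ⟨A, hA⟩ : ∃ A : Matrix (Fin n) (Fin d) K, a = fun p => A p.1 p.2 :=
    ⟨Matrix.of fun s t => a (s, t), by funext p; rfl⟩
  subst hA
  show evM K A (δ ^ ((d - 1) * m + 1) * f) =
    evM K A (δ * ∑ j ∈ Finset.range (m + 1), P.coeff j * δ ^ ((d - 1) * (m - j)))
  rw [map_mul, map_mul, map_pow, map_sum]
  obtain ⟨δA, hδA⟩ : ∃ δA, δA = evM K A δ := ⟨_, rfl⟩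
  rw [← hδA]
  have hδA' : δA = (A.submatrix (Ldt.iota hdn).1 id).det := by
    rw [hδA, hδ, minor_eq, RingHom.map_det]
    have h2 : (evM K A).mapMatrix ((Xm (d := d) (n := n) K).submatrix (Ldt.iota hdn).1 id) =
        A.submatrix (Ldt.iota hdn).1 id := by
      ext i j
      simp [Xm, evM]
    rw [h2]
  by_cases h0 : δA = 0
  · rw [h0, zero_pow (by omega), zero_mul, zero_mul]
  · obtain ⟨z, hz⟩ : ∃ z : K, z = (δA⁻¹) ^ (d - 1) := ⟨_, rfl⟩
    obtain ⟨gm, hgm⟩ : ∃ gm : Matrix (Fin d) (Fin d) K,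
        gm = Matrix.adjugate (A.submatrix (Ldt.iota hdn).1 id) *
          Matrix.diagonal (fun t => if t = (⟨0, hd⟩ : Fin d) then z else 1) := ⟨_, rfl⟩
    have hdet : gm.det = 1 := by
      rw [hgm, Matrix.det_mul, Matrix.det_adjugate, Matrix.det_diagonal, Fintype.card_fin,
        ← hδA', Finset.prod_ite_eq' Finset.univ (⟨0, hd⟩ : Fin d) (fun _ => z),
        if_pos (Finset.mem_univ _), hz, ← mul_pow, mul_inv_cancel₀ h0, one_pow]
    have hinv := hf ⟨gm, hdet⟩
    have h1 : evM K A f = evM K (A * gm) f := by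
      have := evM_rightTranslate K A ⟨gm, hdet⟩ f
      rw [hinv] at this
      exact this
    have h2 : A * gm = Matrix.of fun s t =>
        (A * Matrix.adjugate (A.submatrix (Ldt.iota hdn).1 id)) s t *
          (if t = (⟨0, hd⟩ : Fin d) then z else 1) := by
      rw [hgm, ← Matrix.mul_assoc]
      ext s t
      rw [Matrix.mul_diagonal]
      rfl
    rw [h2, ← eval₂_Theta K hd hdn A z f, ← hP, Polynomial.eval₂_eq_sum_range, ← hm] at h1
    rw [h1, Finset.mul_sum, Finset.mul_sum]
    apply Finset.sum_congr rfl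
    intro j hj
    have hjm : j ≤ m := by have := Finset.mem_range.1 hj; omega
    rw [map_mul, map_pow, ← hδA]
    have hkey : δA ^ ((d - 1) * m) * z ^ j = δA ^ ((d - 1) * (m - j)) := by
      have e1 : (d - 1) * m = (d - 1) * (m - j) + (d - 1) * j := by
        rw [← Nat.mul_add]; congr 1; omega
      rw [e1, pow_add, hz, ← pow_mul, mul_assoc, ← mul_pow, mul_inv_cancel₀ h0, one_pow, mul_one]
    rw [pow_succ]
    linear_combination (δA * evM K A (P.coeff j)) * hkey

end fftB

end Groth.Agent.H9.Fft
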