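import Mathlib
import Groth.Prelude.Def_W4bk4grassmannianPl
import Groth.Agent.Lib.Helper9.Misc.FftB
set_option autoImplicit false
set_option linter.unusedSectionVars false
set_option linter.unusedVariables false

namespace Groth.Agent.H9.Fft

open MvPolynomial W4bk4grassmannian
open Groth.Agent.H9

section fftC

variable (K : Type*) [Field K] {d n : ℕ}

theorem rightTranslate_pluckerMap (g : Matrix.SpecialLinearGroup (Fin d) K) (H : PlRing K d n) :
    rightTranslate K d n g (pluckerMap K d n H) = pluckerMap K d n H := by
  induction H using MvPolynomial.induction_on with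
  | C r => simp [pluckerMap, rightTranslate]
  | add p q hp hq => rw [map_add, map_add, hp, hq]
  | mul_X p θ hp =>
    rw [map_mul, map_mul, hp, pluckerMap_X, AlgHom.map_det]
    congr 1
    have hmat : (rightTranslate K d n g).mapMatrix
        ((Xm (d := d) (n := n) K).submatrix θ.1 id) =
        (Xm (d := d) (n := n) K).submatrix θ.1 id *
          (MvPolynomial.C : K →+* MatRing K d n).mapMatrix (g : Matrix (Fin d) (Fin d) K) := by
      ext i j
      rw [Matrix.mul_apply]
      simp only [AlgHom.mapMatrix_apply, Matrix.map_apply, Matrix.submatrix_apply, id_eq,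
        RingHom.mapMatrix_apply, Xm, Matrix.of_apply]
      unfold rightTranslate
      rw [aeval_X]
    rw [hmat, Matrix.det_mul, ← RingHom.map_det, Matrix.SpecialLinearGroup.det_coe, map_one,
      mul_one]

theorem descend [Infinite K] (hd : 0 < d) (hdn : d < n) (f : MatRing K d n) :
    ∀ (N : ℕ) (H : PlRing K d n), minor K d n (Ldt.iota hdn).1 ^ N * f = pluckerMap K d n H →
      ∃ H', f = pluckerMap K d n H' := by
  intro N
  induction N with
  | zero =>
    intro H hH
    rw [pow_zero, one_mul] at hH
    exact ⟨H, hH⟩
  | succ N ih =>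
    intro H hH
    rw [pow_succ', mul_assoc] at hH
    obtain ⟨H1, hH1⟩ := step2 K hd hdn _ H hH
    exact ih H1 hH1

theorem main [Infinite K] (hd : 0 < d) (hdn : d < n) (f : MatRing K d n) :
    (∀ g : Matrix.SpecialLinearGroup (Fin d) K, rightTranslate K d n g f = f) ↔
      f ∈ Algebra.adjoin K (Set.range fun θ : Idx d n => minor K d n θ.1) := by
  have hadj : Algebra.adjoin K (Set.range fun θ : Idx d n => minor K d n θ.1) =
      (pluckerMap K d n).range := by
    unfold pluckerMap
    exact Algebra.adjoin_range_eq_range_aeval K _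
  rw [hadj]
  constructor
  · intro hf
    obtain ⟨N, H, hH⟩ := step1 K hd hdn f hf
    obtain ⟨H', hH'⟩ := descend K hd hdn f N H hH
    exact ⟨H', hH'.symm⟩
  · rintro ⟨H, rfl⟩ g
    exact rightTranslate_pluckerMap K g H

end fftC

end Groth.Agent.H9.Fft
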