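import Mathlib
import Groth.Prelude.Def_CAlgX
import Groth.Prelude.Def_W4bk4grassmannianPl
import Groth.Agent.Lib.Helper6.SerreNormal
import Groth.Agent.Lib.Helper9.Misc.BitG

set_option autoImplicit false
set_option linter.unusedSectionVars false
set_option linter.unusedVariables false
set_option linter.style.haveILetI false

open W4bk4grassmannian MvPolynomial

namespace Groth.Agent.H9.Fgl

universe u

/-- algebraic Hartogs: an element whose denominator ideal is not contained in a height-one prime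
of a normal Noetherian domain lies in it -/
theorem mem_range_of_height_one {B C : Type u} [CommRing B] [IsDomain B] [IsNoetherianRing B]
    [IsIntegrallyClosed B] [CommRing C] [IsDomain C] (φ : B →+* C) (hφ : Function.Injective φ)
    (f : C) (a : B) (ha : a ≠ 0) (haf : ∃ g, φ a * f = φ g)
    (hD : ∀ P : Ideal B, P.IsPrime → P.height = 1 → ∃ b, b ∉ P ∧ ∃ g, φ b * f = φ g) :
    ∃ b, f = φ b := by
  obtain ⟨g, hg⟩ := haf
  have hφa : φ a ≠ 0 := fun h => ha (hφ (h.trans (map_zero φ).symm))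
  by_cases h0 : Ideal.Quotient.mk (Ideal.span {a}) g = 0
  · rw [Ideal.Quotient.eq_zero_iff_mem, Ideal.mem_span_singleton'] at h0
    obtain ⟨b, hb⟩ := h0
    refine ⟨b, ?_⟩
    apply mul_left_cancel₀ hφa
    rw [hg, ← hb, map_mul, mul_comm]
  · exfalso
    obtain ⟨P, hP, hle⟩ := exists_le_isAssociatedPrime_of_isNoetherianRing B
      (Ideal.Quotient.mk (Ideal.span {a}) g) h0
    haveI := hP.isPrime
    have hht := Groth.Agent.H6.SerreNormal.height_eq_one_of_mem_associatedPrimes B a ha P hP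
    obtain ⟨b, hbP, g', hg'⟩ := hD P hP.isPrime hht
    apply hbP
    apply hle
    rw [Submodule.mem_colon_singleton, Submodule.mem_bot]
    show b • (Ideal.Quotient.mk (Ideal.span {a}) g) = 0
    rw [Algebra.smul_def, Ideal.Quotient.algebraMap_eq, ← map_mul,
      Ideal.Quotient.eq_zero_iff_mem, Ideal.mem_span_singleton']
    refine ⟨g', hφ ?_⟩
    rw [map_mul, map_mul]
    apply mul_left_cancel₀ hφa
    rw [← mul_assoc, mul_comm (φ a) (φ g'), mul_assoc, ← hg, ← hg']
    ring

variable (K : Type u) [Field K] (m n q : ℕ)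

/-- the point of `M_{m,n} × M_{n,q}` given by a pair of matrices -/
def pt (U : Matrix (Fin m) (Fin n) K) (W : Matrix (Fin n) (Fin q) K) :
    (Fin m × Fin n) ⊕ (Fin n × Fin q) → K :=
  Sum.elim (fun p => U p.1 p.2) (fun p => W p.1 p.2)

/-- a matrix as a point -/
def zpt (Z : Matrix (Fin m) (Fin q) K) : Fin m × Fin q → K := fun ij => Z ij.1 ij.2

theorem pt_surj (x : (Fin m × Fin n) ⊕ (Fin n × Fin q) → K) :
    ∃ U W, x = pt K m n q U W :=
  ⟨Matrix.of fun i k => x (Sum.inl (i, k)), Matrix.of fun k j => x (Sum.inr (k, j)), by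
    funext v
    rcases v with ⟨i, k⟩ | ⟨k, j⟩ <;> rfl⟩

theorem eval_glTranslate (A : GL (Fin n) K) (U : Matrix (Fin m) (Fin n) K)
    (W : Matrix (Fin n) (Fin q) K) (f : PairRing K n m q) :
    eval (pt K m n q U W) (glTranslate K n m q A f) =
      eval (pt K m n q (U * ((A⁻¹ : GL (Fin n) K) : Matrix (Fin n) (Fin n) K))
        ((A : Matrix (Fin n) (Fin n) K) * W)) f := by
  induction f using MvPolynomial.induction_on with
  | C a => rw [MvPolynomial.algHom_C, MvPolynomial.algebraMap_eq, eval_C, eval_C]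
  | add p1 p2 h1 h2 => rw [map_add, map_add, map_add, h1, h2]
  | mul_X p v hp =>
    rw [map_mul, map_mul, map_mul, hp]
    congr 1
    unfold glTranslate
    rw [aeval_X, eval_X]
    rcases v with ⟨i, k⟩ | ⟨k, j⟩
    · simp only [Sum.elim_inl, pt, map_sum, map_mul, eval_X, eval_C, Matrix.mul_apply]
    · simp only [Sum.elim_inr, pt, map_sum, map_mul, eval_X, eval_C, Matrix.mul_apply]

theorem eval_pairingMap' (U : Matrix (Fin m) (Fin n) K) (W : Matrix (Fin n) (Fin q) K)
    (p : MvPolynomial (Fin m × Fin q) K) :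
    eval (pt K m n q U W) (pairingMap K n m q p) = eval (zpt K m q (U * W)) p := by
  rw [Groth.Agent.H9.Bit.eval_pairingMap]
  congr 1

theorem glTranslate_pairingMap [Infinite K] (A : GL (Fin n) K)
    (p : MvPolynomial (Fin m × Fin q) K) :
    glTranslate K n m q A (pairingMap K n m q p) = pairingMap K n m q p := by
  apply MvPolynomial.funext
  intro x
  obtain ⟨U, W, rfl⟩ := pt_surj K m n q x
  rw [eval_glTranslate, eval_pairingMap', eval_pairingMap']
  have h1 : ((A⁻¹ : GL (Fin n) K) : Matrix (Fin n) (Fin n) K) * (A : Matrix (Fin n) (Fin n) K) =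
      1 := by
    rw [← Units.val_mul, inv_mul_cancel, Units.val_one]
  have h2 : (U * ((A⁻¹ : GL (Fin n) K) : Matrix (Fin n) (Fin n) K)) *
      ((A : Matrix (Fin n) (Fin n) K) * W) = U * W := by
    calc (U * ((A⁻¹ : GL (Fin n) K) : Matrix (Fin n) (Fin n) K)) *
        ((A : Matrix (Fin n) (Fin n) K) * W)
        = U * ((((A⁻¹ : GL (Fin n) K) : Matrix (Fin n) (Fin n) K) *
          (A : Matrix (Fin n) (Fin n) K)) * W) := by simp only [Matrix.mul_assoc]
      _ = U * W := by rw [h1, Matrix.one_mul]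
  rw [h2]

variable (ι : Fin n → Fin m) (κ : Fin n → Fin q)

/-- the minor of the generic matrix on rows `ι`, columns `κ` -/
noncomputable def Dl : MvPolynomial (Fin m × Fin q) K :=
  ((genMatrix K m q).submatrix ι κ).det

/-- entries of `Z_{·κ} adj(Z_{ικ})` -/
noncomputable def Pm (i : Fin m) (a : Fin n) : MvPolynomial (Fin m × Fin q) K :=
  ∑ b : Fin n, genMatrix K m q i (κ b) * Matrix.adjugate ((genMatrix K m q).submatrix ι κ) b a

theorem mapMatrix_gen (Z₀ : Matrix (Fin m) (Fin q) K) :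
    (eval (zpt K m q Z₀)).mapMatrix ((genMatrix K m q).submatrix ι κ) = Z₀.submatrix ι κ := by
  apply Matrix.ext
  intro a b
  rw [RingHom.mapMatrix_apply, Matrix.map_apply, Matrix.submatrix_apply, Matrix.submatrix_apply]
  unfold genMatrix
  rw [Matrix.of_apply, eval_X]
  rfl

theorem eval_Dl (Z₀ : Matrix (Fin m) (Fin q) K) :
    eval (zpt K m q Z₀) (Dl K m n q ι κ) = (Z₀.submatrix ι κ).det := by
  unfold Dl
  rw [RingHom.map_det, mapMatrix_gen]

theorem eval_Pm (Z₀ : Matrix (Fin m) (Fin q) K) (i : Fin m) (a : Fin n) :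
    eval (zpt K m q Z₀) (Pm K m n q ι κ i a) =
      ∑ b : Fin n, Z₀ i (κ b) * Matrix.adjugate (Z₀.submatrix ι κ) b a := by
  unfold Pm
  rw [map_sum]
  apply Finset.sum_congr rfl
  intro b _
  rw [map_mul]
  congr 1
  · unfold genMatrix
    rw [Matrix.of_apply, eval_X]
    rfl
  · have h := RingHom.map_adjugate (eval (zpt K m q Z₀)) ((genMatrix K m q).submatrix ι κ)
    rw [mapMatrix_gen] at h
    rw [← h]
    rfl

theorem exists_G (f : PairRing K n m q) :
    ∃ (k : ℕ) (G : MvPolynomial (Fin m × Fin q) K), ∀ Z₀ : Matrix (Fin m) (Fin q) K,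
      (Z₀.submatrix ι κ).det ≠ 0 →
      eval (zpt K m q Z₀) G = (Z₀.submatrix ι κ).det ^ k *
        eval (pt K m n q
          (Matrix.of fun i a => (∑ b : Fin n, Z₀ i (κ b) *
            Matrix.adjugate (Z₀.submatrix ι κ) b a) * ((Z₀.submatrix ι κ).det)⁻¹)
          (Z₀.submatrix ι id)) f := by
  induction f using MvPolynomial.induction_on with
  | C a => exact ⟨0, C a, fun Z₀ h => by rw [eval_C, eval_C, pow_zero, one_mul]⟩
  | add p1 p2 h1 h2 =>
    obtain ⟨k₁, G₁, hG₁⟩ := h1
    obtain ⟨k₂, G₂, hG₂⟩ := h2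
    refine ⟨k₁ + k₂, Dl K m n q ι κ ^ k₂ * G₁ + Dl K m n q ι κ ^ k₁ * G₂, fun Z₀ h => ?_⟩
    rw [map_add, map_mul, map_mul, map_pow, map_pow, eval_Dl, hG₁ Z₀ h, hG₂ Z₀ h, map_add,
      pow_add]
    ring
  | mul_X p v hp =>
    obtain ⟨k, G, hG⟩ := hp
    rcases v with ⟨i, a⟩ | ⟨a, j⟩
    · refine ⟨k + 1, G * Pm K m n q ι κ i a, fun Z₀ h => ?_⟩
      rw [map_mul, hG Z₀ h, eval_Pm, map_mul, eval_X]
      simp only [pt, Sum.elim_inl, Matrix.of_apply]
      rw [pow_succ]
      field_simp
    · refine ⟨k, G * X (ι a, j), fun Z₀ h => ?_⟩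
      rw [map_mul, hG Z₀ h, eval_X, map_mul, eval_X]
      simp only [pt, Sum.elim_inr, zpt, Matrix.submatrix_apply, id]
      ring

theorem inv_formula (U : Matrix (Fin m) (Fin n) K) (W : Matrix (Fin n) (Fin q) K)
    (hδ : ((U * W).submatrix ι κ).det ≠ 0) :
    (Matrix.of fun i a => (∑ b : Fin n, (U * W) i (κ b) *
        Matrix.adjugate ((U * W).submatrix ι κ) b a) * (((U * W).submatrix ι κ).det)⁻¹) =
      U * (U.submatrix ι id)⁻¹ := by
  have hN : (U * W).submatrix ι κ = U.submatrix ι id * W.submatrix id κ := by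
    apply Matrix.ext
    intro a b
    simp [Matrix.mul_apply]
  have hdet : ((U * W).submatrix ι κ).det = (U.submatrix ι id).det * (W.submatrix id κ).det := by
    rw [hN, Matrix.det_mul]
  have hU : (U.submatrix ι id).det ≠ 0 := fun h => hδ (by rw [hdet, h, zero_mul])
  have hW : (W.submatrix id κ).det ≠ 0 := fun h => hδ (by rw [hdet, h, mul_zero])
  have hM1 : ∀ i b, (U * W) i (κ b) = (U * W.submatrix id κ) i b := by
    intro i b
    simp [Matrix.mul_apply]
  apply Matrix.ext
  intro i a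
  rw [Matrix.of_apply, Matrix.inv_def, Ring.inverse_eq_inv', Matrix.mul_smul, Matrix.smul_apply,
    smul_eq_mul]
  have h2 : ∑ b : Fin n, (U * W) i (κ b) * Matrix.adjugate ((U * W).submatrix ι κ) b a =
      ((U * W.submatrix id κ) *
        Matrix.adjugate (U.submatrix ι id * W.submatrix id κ)) i a := by
    rw [Matrix.mul_apply, hN]
    simp only [hM1]
  rw [h2, Matrix.adjugate_mul_distrib, Matrix.mul_assoc,
    ← Matrix.mul_assoc (W.submatrix id κ), Matrix.mul_adjugate, Matrix.smul_mul, Matrix.one_mul,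
    Matrix.mul_smul, Matrix.smul_apply, smul_eq_mul, hdet]
  field_simp

theorem key [Infinite K] (f : PairRing K n m q)
    (hf : ∀ A : GL (Fin n) K, glTranslate K n m q A f = f) :
    ∃ (k : ℕ) (G : MvPolynomial (Fin m × Fin q) K),
      pairingMap K n m q (Dl K m n q ι κ) *
        (pairingMap K n m q (Dl K m n q ι κ) ^ k * f - pairingMap K n m q G) = 0 := by
  obtain ⟨k, G, hG⟩ := exists_G K m n q ι κ f
  refine ⟨k, G, ?_⟩
  apply MvPolynomial.funext
  intro x
  obtain ⟨U, W, rfl⟩ := pt_surj K m n q x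
  rw [map_mul, map_sub, map_mul, map_pow, eval_pairingMap', eval_pairingMap', eval_Dl, map_zero]
  by_cases hδ : ((U * W).submatrix ι κ).det = 0
  · rw [hδ, zero_mul]
  · rw [hG (U * W) hδ, inv_formula K m n q ι κ U W hδ]
    have hN : (U * W).submatrix ι κ = U.submatrix ι id * W.submatrix id κ := by
      apply Matrix.ext
      intro a b
      simp [Matrix.mul_apply]
    have hU : (U.submatrix ι id).det ≠ 0 := fun h => hδ (by rw [hN, Matrix.det_mul, h, zero_mul])
    have h1 := congrArg (eval (pt K m n q U W))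
      (hf (Matrix.GeneralLinearGroup.mkOfDetNeZero (U.submatrix ι id) hU))
    rw [eval_glTranslate, Matrix.coe_units_inv] at h1
    have e2 : U.submatrix ι id * W = (U * W).submatrix ι id := by
      apply Matrix.ext
      intro a b
      simp [Matrix.mul_apply]
    have h1' : eval (pt K m n q (U * (U.submatrix ι id)⁻¹) ((U * W).submatrix ι id)) f =
        eval (pt K m n q U W) f := by
      rw [← e2]
      exact h1
    rw [h1', sub_self, mul_zero]

end Groth.Agent.H9.Fgl
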