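import Mathlib
import Groth.Prelude.Def_CAlgX
import Groth.Prelude.Def_W4bk4grassmannianPl
import Groth.Agent.Lib.Helper9.Misc.FglA
import Groth.Agent.Lib.Helper9.Misc.DetC
import Groth.Agent.Lib.Helper2.DimFG

set_option autoImplicit false
set_option linter.unusedSectionVars false
set_option linter.unusedVariables false
set_option linter.style.haveILetI false

open W4bk4grassmannian MvPolynomial

namespace Groth.Agent.H9.Fgl

universe u

theorem arith (m n q : ℕ) (hn : 0 < n) (hm : n + 1 ≤ m) (hq : n + 1 ≤ q)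
    (h : (n + 1 - 1) * (m + q - (n + 1) + 1) ≤ 1 + (n - 1) * (m + q - n + 1)) : False := by
  obtain ⟨a, rfl⟩ := Nat.exists_eq_add_of_le hm
  obtain ⟨b, rfl⟩ := Nat.exists_eq_add_of_le hq
  obtain ⟨n', rfl⟩ : ∃ n', n = n' + 1 := ⟨n - 1, by omega⟩
  have e1 : n' + 1 + 1 - 1 = n' + 1 := by omega
  have e2 : (n' + 1 + 1 + a) + (n' + 1 + 1 + b) - (n' + 1 + 1) + 1 = n' + a + b + 3 := by omega
  have e3 : n' + 1 - 1 = n' := by omega
  have e4 : (n' + 1 + 1 + a) + (n' + 1 + 1 + b) - (n' + 1) + 1 = n' + a + b + 4 := by omega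
  rw [e1, e2, e3, e4] at h
  nlinarith

variable (K : Type u) [Field K] (m n q : ℕ)

theorem main_big [Infinite K] (hn : 0 < n) (hm : n + 1 ≤ m) (hq : n + 1 ≤ q)
    (f : PairRing K n m q) (hf : ∀ A : GL (Fin n) K, glTranslate K n m q A f = f) :
    f ∈ (pairingMap K n m q).range := by
  classical
  have hm0 : 0 < m := by omega
  have hq0 : 0 < q := by omega
  obtain ⟨hBdom, hBnorm, -, hBdim⟩ :=
    Groth.Agent.H9.Det.main K m q (n + 1) hm0 hq0 (by omega) hm hq
  obtain ⟨-, -, -, hIndim⟩ :=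
    Groth.Agent.H9.Det.main K m q n hm0 hq0 hn (by omega) (by omega)
  haveI := hBdom
  haveI := hBnorm
  have hker : ∀ p ∈ CAlgX.minorIdeal (genMatrix K m q) (n + 1),
      (pairingMap K n m q).toRingHom p = 0 := by
    intro p hp
    rw [← RingHom.mem_ker, Groth.Agent.H9.Bit.sft K m n q]
    exact hp
  let φ : (MvPolynomial (Fin m × Fin q) K ⧸ CAlgX.minorIdeal (genMatrix K m q) (n + 1)) →+*
      PairRing K n m q :=
    Ideal.Quotient.lift (CAlgX.minorIdeal (genMatrix K m q) (n + 1))
      (pairingMap K n m q).toRingHom hker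
  have hφmk : ∀ p, φ (Ideal.Quotient.mk (CAlgX.minorIdeal (genMatrix K m q) (n + 1)) p) =
      pairingMap K n m q p := fun p => rfl
  have hφinj : Function.Injective φ := by
    rw [injective_iff_map_eq_zero]
    intro b hb
    obtain ⟨p, rfl⟩ := Ideal.Quotient.mk_surjective b
    rw [hφmk] at hb
    rw [Ideal.Quotient.eq_zero_iff_mem, ← Groth.Agent.H9.Bit.sft K m n q, RingHom.mem_ker]
    exact hb
  have hstep : ∀ (ι : Fin n → Fin m) (κ : Fin n → Fin q),
      pairingMap K n m q (Dl K m n q ι κ) ≠ 0 →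
      ∃ (k : ℕ) (g : MvPolynomial (Fin m × Fin q) K ⧸
          CAlgX.minorIdeal (genMatrix K m q) (n + 1)),
        φ (Ideal.Quotient.mk (CAlgX.minorIdeal (genMatrix K m q) (n + 1))
          (Dl K m n q ι κ) ^ k) * f = φ g := by
    intro ι κ hne
    obtain ⟨k, G, hkG⟩ := key K m n q ι κ f hf
    refine ⟨k, Ideal.Quotient.mk _ G, ?_⟩
    rw [map_pow, hφmk, hφmk]
    have := (mul_eq_zero.1 hkG).resolve_left hne
    exact sub_eq_zero.1 this
  let ι₀ : Fin n → Fin m := Fin.castLE (by omega)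
  let κ₀ : Fin n → Fin q := Fin.castLE (by omega)
  have hι : ∀ a : Fin n, (ι₀ a).val = a.val := fun a => rfl
  have hκ : ∀ a : Fin n, (κ₀ a).val = a.val := fun a => rfl
  have hne₀ : pairingMap K n m q (Dl K m n q ι₀ κ₀) ≠ 0 := by
    intro h0
    have h1 := congrArg (eval (pt K m n q
      (Matrix.of fun (i : Fin m) (a : Fin n) => if i.val = a.val then (1 : K) else 0)
      (Matrix.of fun (a : Fin n) (j : Fin q) => if a.val = j.val then (1 : K) else 0))) h0
    rw [eval_pairingMap', eval_Dl, map_zero] at h1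
    have h2 : ((Matrix.of fun (i : Fin m) (a : Fin n) => if i.val = a.val then (1 : K) else 0) *
        (Matrix.of fun (a : Fin n) (j : Fin q) =>
          if a.val = j.val then (1 : K) else 0)).submatrix ι₀ κ₀ = 1 := by
      apply Matrix.ext
      intro a b
      rw [Matrix.submatrix_apply, Matrix.mul_apply, Matrix.one_apply]
      simp only [Matrix.of_apply]
      rw [Finset.sum_eq_single a]
      · rw [if_pos (hι a), one_mul]
        by_cases hab : a = b
        · rw [if_pos hab, if_pos]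
          rw [hab, hκ]
        · rw [if_neg hab, if_neg]
          intro h
          rw [hκ] at h
          exact hab (Fin.ext h)
      · intro c _ hc
        rw [if_neg, zero_mul]
        intro h
        rw [hι] at h
        exact hc (Fin.ext h.symm)
      · intro h
        exact absurd (Finset.mem_univ a) h
    rw [h2, Matrix.det_one] at h1
    exact one_ne_zero h1
  obtain ⟨k₀, g₀, hk₀⟩ := hstep ι₀ κ₀ hne₀
  have ha₀ : Ideal.Quotient.mk (CAlgX.minorIdeal (genMatrix K m q) (n + 1))
      (Dl K m n q ι₀ κ₀) ^ k₀ ≠ 0 := by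
    intro h0
    have h1 := congrArg φ h0
    rw [map_pow, hφmk, map_zero] at h1
    exact pow_ne_zero k₀ hne₀ h1
  have hD : ∀ P : Ideal (MvPolynomial (Fin m × Fin q) K ⧸
      CAlgX.minorIdeal (genMatrix K m q) (n + 1)), P.IsPrime → P.height = 1 →
      ∃ b, b ∉ P ∧ ∃ g, φ b * f = φ g := by
    intro P hP hPht
    by_contra hcon
    push Not at hcon
    have hall : ∀ (ι : Fin n → Fin m) (κ : Fin n → Fin q),
        Ideal.Quotient.mk (CAlgX.minorIdeal (genMatrix K m q) (n + 1)) (Dl K m n q ι κ) ∈ P := by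
      intro ι κ
      by_contra hnot
      have hne : pairingMap K n m q (Dl K m n q ι κ) ≠ 0 := by
        intro h0
        apply hnot
        have h1 : Ideal.Quotient.mk (CAlgX.minorIdeal (genMatrix K m q) (n + 1))
            (Dl K m n q ι κ) = 0 := hφinj (by rw [hφmk, h0, map_zero])
        rw [h1]
        exact P.zero_mem
      obtain ⟨k, g, hkg⟩ := hstep ι κ hne
      exact hcon _ (fun h => hnot (hP.mem_of_pow_mem k h)) g hkg
    have hle : CAlgX.minorIdeal (genMatrix K m q) n ≤
        P.comap (Ideal.Quotient.mk (CAlgX.minorIdeal (genMatrix K m q) (n + 1))) := by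
      unfold CAlgX.minorIdeal
      rw [Ideal.span_le]
      rintro _ ⟨⟨f', g'⟩, rfl⟩
      exact hall f' g'
    have hψ : ∀ p ∈ CAlgX.minorIdeal (genMatrix K m q) n,
        ((Ideal.Quotient.mk P).comp
          (Ideal.Quotient.mk (CAlgX.minorIdeal (genMatrix K m q) (n + 1)))) p = 0 := by
      intro p hp
      rw [RingHom.comp_apply, Ideal.Quotient.eq_zero_iff_mem]
      exact hle hp
    have hsurj : Function.Surjective (Ideal.Quotient.lift (CAlgX.minorIdeal (genMatrix K m q) n)
        ((Ideal.Quotient.mk P).comp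
          (Ideal.Quotient.mk (CAlgX.minorIdeal (genMatrix K m q) (n + 1)))) hψ) := by
      apply Ideal.Quotient.lift_surjective_of_surjective
      exact Ideal.Quotient.mk_surjective.comp Ideal.Quotient.mk_surjective
    have hd1 := ringKrullDim_le_of_surjective _ hsurj
    have hd2 := Groth.Agent.H2.DimFG.height_add_ringKrullDim_quotient K
      (MvPolynomial (Fin m × Fin q) K ⧸ CAlgX.minorIdeal (genMatrix K m q) (n + 1)) P
    rw [hPht, hBdim] at hd2
    rw [hIndim] at hd1
    have h3 : (((n + 1 - 1) * (m + q - (n + 1) + 1) : ℕ) : WithBot ℕ∞) ≤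
        ((1 : ℕ) : WithBot ℕ∞) + (((n - 1) * (m + q - n + 1) : ℕ) : WithBot ℕ∞) := by
      rw [← hd2]
      have h1 : (((1 : ℕ∞)) : WithBot ℕ∞) = ((1 : ℕ) : WithBot ℕ∞) := by norm_cast
      rw [h1]
      gcongr
    have h4 : (n + 1 - 1) * (m + q - (n + 1) + 1) ≤ 1 + (n - 1) * (m + q - n + 1) := by
      exact_mod_cast h3
    exact arith m n q hn hm hq h4
  obtain ⟨b, hb⟩ := mem_range_of_height_one φ hφinj f _ ha₀ ⟨g₀, hk₀⟩ hD
  obtain ⟨p, rfl⟩ := Ideal.Quotient.mk_surjective b
  exact ⟨p, (hb.trans (hφmk p)).symm⟩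

end Groth.Agent.H9.Fgl
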