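import Mathlib
import Groth.Prelude.Def_CAlgX
import Groth.Prelude.Def_W4bk4grassmannianPl
import Groth.Agent.Lib.Helper9.Misc.FglB

set_option autoImplicit false
set_option linter.unusedSectionVars false
set_option linter.unusedVariables false
set_option linter.style.haveILetI false

open W4bk4grassmannian MvPolynomial

namespace Groth.Agent.H9.Fgl

universe u

variable (K : Type u) [Field K] (m n q s : ℕ)

/-- padding by zero rows and columns -/
noncomputable def eps : PairRing K n m q →ₐ[K] PairRing K n (m + s) (q + s) :=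
  MvPolynomial.rename (Sum.map (Prod.map (Fin.castAdd s) id) (Prod.map id (Fin.castAdd s)))

/-- restriction to the upper left corner -/
noncomputable def piP : PairRing K n (m + s) (q + s) →ₐ[K] PairRing K n m q :=
  MvPolynomial.aeval (Sum.elim
    (fun p : Fin (m + s) × Fin n =>
      if h : p.1.val < m then X (Sum.inl ((⟨p.1.val, h⟩ : Fin m), p.2)) else 0)
    (fun p : Fin n × Fin (q + s) =>
      if h : p.2.val < q then X (Sum.inr (p.1, (⟨p.2.val, h⟩ : Fin q))) else 0))

noncomputable def piZ : MvPolynomial (Fin (m + s) × Fin (q + s)) K →ₐ[K]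
    MvPolynomial (Fin m × Fin q) K :=
  MvPolynomial.aeval (fun p : Fin (m + s) × Fin (q + s) =>
    if h : p.1.val < m ∧ p.2.val < q then
      X ((⟨p.1.val, h.1⟩ : Fin m), (⟨p.2.val, h.2⟩ : Fin q)) else 0)

theorem piP_eps (f : PairRing K n m q) : piP K m n q s (eps K m n q s f) = f := by
  have h : (piP K m n q s).comp (eps K m n q s) = AlgHom.id K (PairRing K n m q) := by
    apply MvPolynomial.algHom_ext
    intro v
    rw [AlgHom.comp_apply, AlgHom.id_apply]
    unfold eps piP
    rw [rename_X, aeval_X]
    rcases v with ⟨i, k⟩ | ⟨k, j⟩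
    · simp only [Sum.map_inl, Sum.elim_inl, Prod.map_apply, id_eq]
      rw [dif_pos (by rw [Fin.val_castAdd]; exact i.isLt)]
      rfl
    · simp only [Sum.map_inr, Sum.elim_inr, Prod.map_apply, id_eq]
      rw [dif_pos (by rw [Fin.val_castAdd]; exact j.isLt)]
      rfl
  exact AlgHom.congr_fun h f

theorem glTranslate_eps (A : GL (Fin n) K) (f : PairRing K n m q) :
    glTranslate K n (m + s) (q + s) A (eps K m n q s f) =
      eps K m n q s (glTranslate K n m q A f) := by
  have h : (glTranslate K n (m + s) (q + s) A).comp (eps K m n q s) =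
      (eps K m n q s).comp (glTranslate K n m q A) := by
    apply MvPolynomial.algHom_ext
    intro v
    rw [AlgHom.comp_apply, AlgHom.comp_apply]
    unfold eps glTranslate
    rw [rename_X, aeval_X, aeval_X]
    rcases v with ⟨i, k⟩ | ⟨k, j⟩
    · simp only [Sum.map_inl, Sum.elim_inl, Prod.map_apply, id_eq, map_sum, map_mul, rename_X,
        rename_C]
    · simp only [Sum.map_inr, Sum.elim_inr, Prod.map_apply, id_eq, map_sum, map_mul, rename_X,
        rename_C]
  exact AlgHom.congr_fun h f

theorem piP_pairingMap (h' : MvPolynomial (Fin (m + s) × Fin (q + s)) K) :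
    piP K m n q s (pairingMap K n (m + s) (q + s) h') =
      pairingMap K n m q (piZ K m q s h') := by
  have h : (piP K m n q s).comp (pairingMap K n (m + s) (q + s)) =
      (pairingMap K n m q).comp (piZ K m q s) := by
    apply MvPolynomial.algHom_ext
    rintro ⟨i', j'⟩
    rw [AlgHom.comp_apply, AlgHom.comp_apply]
    unfold piP pairingMap piZ
    rw [aeval_X, aeval_X, map_sum]
    simp only [map_mul, aeval_X, Sum.elim_inl, Sum.elim_inr]
    by_cases h1 : i'.val < m
    · by_cases h2 : j'.val < q
      · rw [dif_pos ⟨h1, h2⟩, aeval_X]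
        apply Finset.sum_congr rfl
        intro k _
        rw [dif_pos h1, dif_pos h2]
      · rw [dif_neg (fun h => h2 h.2), map_zero]
        apply Finset.sum_eq_zero
        intro k _
        rw [dif_neg h2, mul_zero]
    · rw [dif_neg (fun h => h1 h.1), map_zero]
      apply Finset.sum_eq_zero
      intro k _
      rw [dif_neg h1, zero_mul]
  exact AlgHom.congr_fun h h'

theorem of_big
    (hbig : ∀ f' : PairRing K n (m + s) (q + s),
      (∀ A : GL (Fin n) K, glTranslate K n (m + s) (q + s) A f' = f') →
      f' ∈ (pairingMap K n (m + s) (q + s)).range)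
    (f : PairRing K n m q) (hf : ∀ A : GL (Fin n) K, glTranslate K n m q A f = f) :
    f ∈ (pairingMap K n m q).range := by
  have h1 : ∀ A : GL (Fin n) K,
      glTranslate K n (m + s) (q + s) A (eps K m n q s f) = eps K m n q s f := by
    intro A
    rw [glTranslate_eps, hf A]
  obtain ⟨h', hh'⟩ := hbig (eps K m n q s f) h1
  have hh'' : pairingMap K n (m + s) (q + s) h' = eps K m n q s f := hh'
  refine ⟨piZ K m q s h', ?_⟩
  show pairingMap K n m q (piZ K m q s h') = f
  rw [← piP_pairingMap, hh'', piP_eps]

theorem fft [Infinite K] (f : PairRing K n m q) :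
    (∀ A : GL (Fin n) K, glTranslate K n m q A f = f) ↔ f ∈ (pairingMap K n m q).range := by
  constructor
  · intro hf
    by_cases hn : n = 0
    · subst hn
      haveI : IsEmpty ((Fin m × Fin 0) ⊕ (Fin 0 × Fin q)) :=
        ⟨fun v => by
          rcases v with ⟨i, k⟩ | ⟨k, j⟩
          · exact k.elim0
          · exact k.elim0⟩
      refine ⟨C (coeff 0 f), ?_⟩
      show pairingMap K 0 m q (C (coeff 0 f)) = f
      rw [MvPolynomial.algHom_C, MvPolynomial.algebraMap_eq]
      exact (MvPolynomial.eq_C_of_isEmpty f).symm
    · apply of_big K m n q (n + 1) _ f hf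
      intro f' hf'
      exact main_big K (m + (n + 1)) n (q + (n + 1)) (by omega) (by omega) (by omega) f' hf'
  · rintro ⟨p, rfl⟩ A
    exact glTranslate_pairingMap K m n q A p

end Groth.Agent.H9.Fgl
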