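import Mathlib

/-! Helper9: prefibred+coprefibred: fibred iff cofibred (S5144) -/

namespace Groth.Agent.H9.FibCofib

open CategoryTheory Functor Category Opposite

universe v₁ v₂ u₁ u₂

variable {𝒮 : Type u₁} {𝒳 : Type u₂} [Category.{v₁} 𝒮] [Category.{v₂} 𝒳]

/-- In a fibered category, cocartesian arrows compose. -/
theorem cocart_comp (p : 𝒳 ⥤ 𝒮) [p.IsFibered]
    {R S T : 𝒮} (f : R ⟶ S) (g : S ⟶ T) {a b c : 𝒳} (φ : a ⟶ b) (ψ : b ⟶ c)
    [p.IsCocartesian f φ] [p.IsCocartesian g ψ] : p.IsCocartesian (f ≫ g) (φ ≫ ψ) where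
  toIsHomLift := inferInstance
  universal_property := by
    intro c' χ hχ
    have hc' : p.obj c' = T := IsHomLift.codomain_eq p (f ≫ g) χ
    let κ := IsPreFibered.pullbackMap hc' g
    let χ' := IsStronglyCartesian.map p g κ (rfl : f ≫ g = f ≫ g) χ
    have hχ' : χ' ≫ κ = χ := IsStronglyCartesian.fac p g κ rfl χ
    let τ' := IsCocartesian.map p f φ χ'
    have hτ' : φ ≫ τ' = χ' := IsCocartesian.fac p f φ χ'
    let τ := IsCocartesian.map p g ψ (τ' ≫ κ)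
    have hτ : ψ ≫ τ = τ' ≫ κ := IsCocartesian.fac p g ψ (τ' ≫ κ)
    refine ⟨τ, ⟨inferInstance, ?_⟩, ?_⟩
    · rw [assoc, hτ, ← assoc, hτ', hχ']
    · rintro τ₁ ⟨h1, h2⟩
      apply IsCocartesian.map_uniq
      -- ψ ≫ τ₁ = τ' ≫ κ
      let σ := IsStronglyCartesian.map p g κ (id_comp g).symm (ψ ≫ τ₁)
      have hσ : σ ≫ κ = ψ ≫ τ₁ := IsStronglyCartesian.fac p g κ (id_comp g).symm (ψ ≫ τ₁)
      have hστ : σ = τ' := by
        apply IsCocartesian.map_uniq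
        apply IsStronglyCartesian.map_uniq
        rw [assoc, hσ, ← assoc, h2]
      rw [← hσ, hστ]

theorem isHomLift_op_iff (p : 𝒳 ⥤ 𝒮) {R S : 𝒮ᵒᵖ} {a b : 𝒳ᵒᵖ} (f : R ⟶ S) (φ : a ⟶ b) :
    p.op.IsHomLift f φ ↔ p.IsHomLift f.unop φ.unop := by
  constructor
  · intro h
    obtain ⟨⟩ := h
    exact IsHomLift.map p φ.unop
  · intro h
    have h1 : p.obj b.unop = S.unop := IsHomLift.domain_eq p f.unop φ.unop
    have h2 : p.obj a.unop = R.unop := IsHomLift.codomain_eq p f.unop φ.unop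
    obtain ⟨a⟩ := a
    obtain ⟨b⟩ := b
    obtain ⟨R⟩ := R
    obtain ⟨S⟩ := S
    simp only at h1 h2
    subst h1 h2
    have : f.unop = p.map φ.unop := IsHomLift.eq_of_isHomLift p f.unop φ.unop
    have hf : f = p.op.map φ := Quiver.Hom.unop_inj this
    rw [hf]
    exact IsHomLift.map p.op φ

theorem isCartesian_op_iff (p : 𝒳 ⥤ 𝒮) {R S : 𝒮ᵒᵖ} {a b : 𝒳ᵒᵖ} (f : R ⟶ S) (φ : a ⟶ b) :
    p.op.IsCartesian f φ ↔ p.IsCocartesian f.unop φ.unop := by
  constructor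
  · intro h
    refine { toIsHomLift := (isHomLift_op_iff p f φ).mp inferInstance, universal_property := ?_ }
    intro b' φ' hφ'
    have : p.op.IsHomLift f φ'.op := (isHomLift_op_iff p f φ'.op).mpr hφ'
    obtain ⟨χ, ⟨hχ1, hχ2⟩, hχ3⟩ := h.universal_property φ'.op
    refine ⟨χ.unop, ⟨(isHomLift_op_iff p (𝟙 R) χ).mp hχ1, ?_⟩, ?_⟩
    · have := congrArg Quiver.Hom.unop hχ2
      simpa using this
    · rintro χ₁ ⟨h1, h2⟩
      have := hχ3 χ₁.op ⟨(isHomLift_op_iff p (𝟙 R) χ₁.op).mpr h1, by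
        apply Quiver.Hom.unop_inj; simpa using h2⟩
      rw [← this]; rfl
  · intro h
    refine { toIsHomLift := (isHomLift_op_iff p f φ).mpr inferInstance, universal_property := ?_ }
    intro a' φ' hφ'
    have : p.IsHomLift f.unop φ'.unop := (isHomLift_op_iff p f φ').mp hφ'
    obtain ⟨χ, ⟨hχ1, hχ2⟩, hχ3⟩ := h.universal_property φ'.unop
    refine ⟨χ.op, ⟨(isHomLift_op_iff p (𝟙 R) χ.op).mpr hχ1, ?_⟩, ?_⟩
    · apply Quiver.Hom.unop_inj; simpa using hχ2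
    · rintro χ₁ ⟨h1, h2⟩
      have := hχ3 χ₁.unop ⟨(isHomLift_op_iff p (𝟙 R) χ₁).mp h1, by
        have := congrArg Quiver.Hom.unop h2
        simpa using this⟩
      rw [← this]; rfl

theorem isCocartesian_op_iff (p : 𝒳 ⥤ 𝒮) {R S : 𝒮ᵒᵖ} {a b : 𝒳ᵒᵖ} (f : R ⟶ S) (φ : a ⟶ b) :
    p.op.IsCocartesian f φ ↔ p.IsCartesian f.unop φ.unop := by
  constructor
  · intro h
    refine { toIsHomLift := (isHomLift_op_iff p f φ).mp inferInstance, universal_property := ?_ }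
    intro a' φ' hφ'
    have : p.op.IsHomLift f φ'.op := (isHomLift_op_iff p f φ'.op).mpr hφ'
    obtain ⟨χ, ⟨hχ1, hχ2⟩, hχ3⟩ := h.universal_property φ'.op
    refine ⟨χ.unop, ⟨(isHomLift_op_iff p (𝟙 S) χ).mp hχ1, ?_⟩, ?_⟩
    · have := congrArg Quiver.Hom.unop hχ2
      simpa using this
    · rintro χ₁ ⟨h1, h2⟩
      have := hχ3 χ₁.op ⟨(isHomLift_op_iff p (𝟙 S) χ₁.op).mpr h1, by
        apply Quiver.Hom.unop_inj; simpa using h2⟩
      rw [← this]; rfl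
  · intro h
    refine { toIsHomLift := (isHomLift_op_iff p f φ).mpr inferInstance, universal_property := ?_ }
    intro b' φ' hφ'
    have : p.IsHomLift f.unop φ'.unop := (isHomLift_op_iff p f φ').mp hφ'
    obtain ⟨χ, ⟨hχ1, hχ2⟩, hχ3⟩ := h.universal_property φ'.unop
    refine ⟨χ.op, ⟨(isHomLift_op_iff p (𝟙 S) χ.op).mpr hχ1, ?_⟩, ?_⟩
    · apply Quiver.Hom.unop_inj; simpa using hχ2
    · rintro χ₁ ⟨h1, h2⟩
      have := hχ3 χ₁.unop ⟨(isHomLift_op_iff p (𝟙 S) χ₁).mp h1, by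
        have := congrArg Quiver.Hom.unop h2
        simpa using this⟩
      rw [← this]; rfl

theorem main (p : 𝒳 ⥤ 𝒮) [p.IsPreFibered] [p.op.IsPreFibered] : p.IsFibered ↔ p.op.IsFibered := by
  constructor
  · intro hp
    refine { comp := ?_ }
    intro R S T f g a b c φ ψ hφ hψ
    have h1 : p.IsCocartesian f.unop φ.unop := (isCartesian_op_iff p f φ).mp hφ
    have h2 : p.IsCocartesian g.unop ψ.unop := (isCartesian_op_iff p g ψ).mp hψ
    have h3 := cocart_comp p g.unop f.unop ψ.unop φ.unop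
    exact (isCartesian_op_iff p (f ≫ g) (φ ≫ ψ)).mpr h3
  · intro hp
    refine { comp := ?_ }
    intro R S T f g a b c φ ψ hφ hψ
    have h1 : p.op.IsCocartesian f.op φ.op := (isCocartesian_op_iff p f.op φ.op).mpr hφ
    have h2 : p.op.IsCocartesian g.op ψ.op := (isCocartesian_op_iff p g.op ψ.op).mpr hψ
    have h3 := cocart_comp p.op g.op f.op ψ.op φ.op
    exact (isCocartesian_op_iff p (g.op ≫ f.op) (ψ.op ≫ φ.op)).mp h3

end Groth.Agent.H9.FibCofib
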