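import Mathlib

/-! Helper9: S14085 fibre product ring flat -/

namespace Groth.Agent.H9.FibFlat

universe u

open TensorProduct

/-- kernel of a surjection of flat modules is flat -/
theorem flat_ker {R : Type u} [CommRing R] {N P : Type u} [AddCommGroup N] [AddCommGroup P]
    [Module R N] [Module R P] [Module.Flat R N] [Module.Flat R P] (f : N →ₗ[R] P)
    (hf : Function.Surjective f) : Module.Flat R (LinearMap.ker f) := by
  rw [Module.Flat.iff_rTensor_preserves_injective_linearMap]
  intro X Y _ _ _ _ h hh
  have h1 : Function.Injective ((LinearMap.ker f).subtype.lTensor X) :=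
    LinearMap.lTensor_injective_of_exact_of_flat f hf _ (LinearMap.ker f).subtype_injective
      (LinearMap.exact_subtype_ker_map _) X
  have h2 : Function.Injective (h.rTensor N) :=
    Module.Flat.rTensor_preserves_injective_linearMap _ hh
  have hsq : ((LinearMap.ker f).subtype.lTensor Y) ∘ₗ (h.rTensor (LinearMap.ker f)) =
      (h.rTensor N) ∘ₗ ((LinearMap.ker f).subtype.lTensor X) := by
    rw [LinearMap.lTensor_comp_rTensor, LinearMap.rTensor_comp_lTensor]
  have h3 : Function.Injective (((LinearMap.ker f).subtype.lTensor Y) ∘ₗ (h.rTensor (LinearMap.ker f))) := by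
    rw [hsq]; exact h2.comp h1
  exact Function.Injective.of_comp h3

/-- product of flat modules is flat -/
theorem flat_prod {R : Type u} [CommRing R] {M N : Type u} [AddCommGroup M] [AddCommGroup N]
    [Module R M] [Module R N] [Module.Flat R M] [Module.Flat R N] : Module.Flat R (M × N) := by
  rw [Module.Flat.iff_rTensor_preserves_injective_linearMap]
  intro X Y _ _ _ _ h hh
  have h1 : Function.Injective (h.rTensor M) := Module.Flat.rTensor_preserves_injective_linearMap _ hh
  have h2 : Function.Injective (h.rTensor N) := Module.Flat.rTensor_preserves_injective_linearMap _ hh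
  have hsq : (TensorProduct.prodRight R R Y M N).toLinearMap ∘ₗ (h.rTensor (M × N)) =
      (LinearMap.prodMap (h.rTensor M) (h.rTensor N)) ∘ₗ (TensorProduct.prodRight R R X M N).toLinearMap := by
    apply TensorProduct.ext'
    intro x m
    simp
  have h3 : Function.Injective ((TensorProduct.prodRight R R Y M N).toLinearMap ∘ₗ (h.rTensor (M × N))) := by
    rw [hsq]
    exact (Function.Injective.prodMap h1 h2).comp (TensorProduct.prodRight R R X M N).injective
  exact Function.Injective.of_comp h3

section
variable (R A B : Type u) [CommRing R] [CommRing A] [CommRing B]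
    [Algebra R A] [Algebra R B] (I : Ideal A)
    [Algebra B (A ⧸ I)] [IsScalarTower R B (A ⧸ I)]

/-- the difference map -/
noncomputable def delta : (B × A) →ₗ[R] (A ⧸ I) :=
  ((IsScalarTower.toAlgHom R B (A ⧸ I)).comp (AlgHom.fst R B A)).toLinearMap -
    ((Ideal.Quotient.mkₐ R I).comp (AlgHom.snd R B A)).toLinearMap

theorem delta_surj : Function.Surjective (delta R A B I) := by
  intro y
  obtain ⟨a, rfl⟩ := Ideal.Quotient.mk_surjective y
  refine ⟨(0, -a), ?_⟩
  simp [delta]

theorem mem_ker_delta (x : B × A) : x ∈ LinearMap.ker (delta R A B I) ↔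
    x ∈ AlgHom.equalizer ((IsScalarTower.toAlgHom R B (A ⧸ I)).comp (AlgHom.fst R B A))
          ((Ideal.Quotient.mkₐ R I).comp (AlgHom.snd R B A)) := by
  rw [LinearMap.mem_ker, AlgHom.mem_equalizer, delta, LinearMap.sub_apply, sub_eq_zero]
  rfl

theorem s14085 [Module.Flat R A] [Module.Flat R B] [Module.Flat B (A ⧸ I)] :
    Module.Flat R ↥(AlgHom.equalizer ((IsScalarTower.toAlgHom R B (A ⧸ I)).comp (AlgHom.fst R B A))
          ((Ideal.Quotient.mkₐ R I).comp (AlgHom.snd R B A))) := by
  have hflat : Module.Flat R (A ⧸ I) := Module.Flat.trans R B (A ⧸ I)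
  have hprod : Module.Flat R (B × A) := flat_prod
  have hk := flat_ker (delta R A B I) (delta_surj R A B I)
  let e : ↥(LinearMap.ker (delta R A B I)) ≃ₗ[R]
      ↥(AlgHom.equalizer ((IsScalarTower.toAlgHom R B (A ⧸ I)).comp (AlgHom.fst R B A))
          ((Ideal.Quotient.mkₐ R I).comp (AlgHom.snd R B A))) :=
    { toFun := fun x => ⟨x.1, (mem_ker_delta R A B I x.1).mp x.2⟩
      invFun := fun x => ⟨x.1, (mem_ker_delta R A B I x.1).mpr x.2⟩
      map_add' := fun _ _ => rfl
      map_smul' := fun _ _ => rfl
      left_inv := fun _ => rfl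
      right_inv := fun _ => rfl }
  exact Module.Flat.of_linearEquiv e.symm

end

end Groth.Agent.H9.FibFlat
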