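import Mathlib
import Groth.Agent.Lib.Helper9.Misc.FibFlat

/-! Helper9: S14086 fibre product ring base change -/

namespace Groth.Agent.H9.FibFlat

universe u

open TensorProduct

/-- a faithfully flat algebra map is universally injective over the base -/
theorem univ_inj (R B C M : Type u) [CommRing R] [CommRing B] [CommRing C] [Algebra R B] [Algebra R C]
    [Algebra B C] [IsScalarTower R B C] [Module.FaithfullyFlat B C] [AddCommGroup M] [Module R M] :
    Function.Injective ((IsScalarTower.toAlgHom R B C).toLinearMap.lTensor M) := by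
  -- rTensor version first
  have h1 : Function.Injective (TensorProduct.mk B C (B ⊗[R] M) 1) :=
    Module.FaithfullyFlat.tensorProduct_mk_injective (A := B) (B := C) (B ⊗[R] M)
  have h2 : Function.Injective ((IsScalarTower.toAlgHom R B C).toLinearMap.rTensor M) := by
    have hcomp : ∀ x : B ⊗[R] M, (IsScalarTower.toAlgHom R B C).toLinearMap.rTensor M x =
        AlgebraTensorModule.cancelBaseChange R B B C M (TensorProduct.mk B C (B ⊗[R] M) 1 x) := by
      intro x
      induction x with
      | zero => simp
      | tmul b m =>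
        simp only [LinearMap.rTensor_tmul, AlgHom.toLinearMap_apply, IsScalarTower.coe_toAlgHom',
          TensorProduct.mk_apply, AlgebraTensorModule.cancelBaseChange_tmul]
        rw [Algebra.smul_def, mul_one]
      | add x y hx hy => simp only [map_add, hx, hy]
    intro x y hxy
    rw [hcomp, hcomp] at hxy
    exact h1 ((AlgebraTensorModule.cancelBaseChange R B B C M).injective hxy)
  have h3 : (IsScalarTower.toAlgHom R B C).toLinearMap.lTensor M =
      (TensorProduct.comm R C M).toLinearMap ∘ₗ
        ((IsScalarTower.toAlgHom R B C).toLinearMap.rTensor M) ∘ₗ (TensorProduct.comm R M B).toLinearMap := by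
    apply TensorProduct.ext'
    intro m b
    simp
  rw [h3]
  exact (TensorProduct.comm R C M).injective.comp (h2.comp (TensorProduct.comm R M B).injective)

theorem faithfullyFlat_of_finite_inj (B C : Type u) [CommRing B] [CommRing C] [Algebra B C]
    [Module.Finite B C] [Module.Flat B C] (hinj : Function.Injective (algebraMap B C)) :
    Module.FaithfullyFlat B C := by
  have : Algebra.IsIntegral B C := Algebra.IsIntegral.of_finite B C
  refine Module.FaithfullyFlat.of_comap_surjective fun P => ?_
  obtain ⟨Q, -, hQ1, hQ2⟩ := Ideal.exists_ideal_over_prime_of_isIntegral (S := C) P.asIdeal ⊥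
    (by rw [← RingHom.ker_eq_comap_bot, (RingHom.injective_iff_ker_eq_bot _).mp hinj]; exact bot_le)
  exact ⟨⟨Q, hQ1⟩, PrimeSpectrum.ext hQ2⟩

theorem map_id_eq_lTensor {R R' X Y : Type u} [CommRing R] [CommRing R'] [Algebra R R'] [CommRing X]
    [CommRing Y] [Algebra R X] [Algebra R Y] (φ : X →ₐ[R] Y) (x : R' ⊗[R] X) :
    Algebra.TensorProduct.map (AlgHom.id R' R') φ x = φ.toLinearMap.lTensor R' x := by
  induction x with
  | zero => simp
  | tmul r y => simp
  | add x y hx hy => simp only [map_add, hx, hy]

section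
variable (R A B R' : Type u) [CommRing R] [CommRing A] [CommRing B] [CommRing R']
    [Algebra R A] [Algebra R B] [Algebra R R'] (I : Ideal A)
    [Algebra B (A ⧸ I)] [IsScalarTower R B (A ⧸ I)]

/-- the linear equivalence between the kernel of `delta` and the equalizer. -/
noncomputable def eKE : ↥(LinearMap.ker (delta R A B I)) ≃ₗ[R]
      ↥(AlgHom.equalizer ((IsScalarTower.toAlgHom R B (A ⧸ I)).comp (AlgHom.fst R B A))
          ((Ideal.Quotient.mkₐ R I).comp (AlgHom.snd R B A))) :=
    { toFun := fun x => ⟨x.1, (mem_ker_delta R A B I x.1).mp x.2⟩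
      invFun := fun x => ⟨x.1, (mem_ker_delta R A B I x.1).mpr x.2⟩
      map_add' := fun _ _ => rfl
      map_smul' := fun _ _ => rfl
      left_inv := fun _ => rfl
      right_inv := fun _ => rfl }

theorem s14086 [Module.Flat R A] [Module.Flat R B] [Module.Finite B (A ⧸ I)] [Module.Flat B (A ⧸ I)]
    (hinj : Function.Injective (algebraMap B (A ⧸ I))) :
    Function.Injective (Algebra.TensorProduct.map (AlgHom.id R' R')
        ((AlgHom.snd R B A).comp (AlgHom.equalizer ((IsScalarTower.toAlgHom R B (A ⧸ I)).comp (AlgHom.fst R B A))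
          ((Ideal.Quotient.mkₐ R I).comp (AlgHom.snd R B A))).val)) ∧
    ∀ (b : TensorProduct R R' B) (a : TensorProduct R R' A),
      Algebra.TensorProduct.map (AlgHom.id R' R') (IsScalarTower.toAlgHom R B (A ⧸ I)) b =
        Algebra.TensorProduct.map (AlgHom.id R' R') (Ideal.Quotient.mkₐ R I) a →
      ∃ x : TensorProduct R R' ↥(AlgHom.equalizer ((IsScalarTower.toAlgHom R B (A ⧸ I)).comp (AlgHom.fst R B A))
          ((Ideal.Quotient.mkₐ R I).comp (AlgHom.snd R B A))),
        Algebra.TensorProduct.map (AlgHom.id R' R') ((AlgHom.fst R B A).comp (AlgHom.equalizer ((IsScalarTower.toAlgHom R B (A ⧸ I)).comp (AlgHom.fst R B A))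
          ((Ideal.Quotient.mkₐ R I).comp (AlgHom.snd R B A))).val) x = b ∧
        Algebra.TensorProduct.map (AlgHom.id R' R') ((AlgHom.snd R B A).comp (AlgHom.equalizer ((IsScalarTower.toAlgHom R B (A ⧸ I)).comp (AlgHom.fst R B A))
          ((Ideal.Quotient.mkₐ R I).comp (AlgHom.snd R B A))).val) x = a := by
  have hflat : Module.Flat R (A ⧸ I) := Module.Flat.trans R B (A ⧸ I)
  have hff : Module.FaithfullyFlat B (A ⧸ I) := faithfullyFlat_of_finite_inj B (A ⧸ I) hinj
  obtain ⟨E, hE⟩ : ∃ E, E = AlgHom.equalizer ((IsScalarTower.toAlgHom R B (A ⧸ I)).comp (AlgHom.fst R B A))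
          ((Ideal.Quotient.mkₐ R I).comp (AlgHom.snd R B A)) := ⟨_, rfl⟩
  -- linear maps
  set ι : B →ₗ[R] (A ⧸ I) := (IsScalarTower.toAlgHom R B (A ⧸ I)).toLinearMap with hι
  set π : A →ₗ[R] (A ⧸ I) := (Ideal.Quotient.mkₐ R I).toLinearMap with hπ
  set δ := delta R A B I with hδ
  have hδeq : δ = ι ∘ₗ (LinearMap.fst R B A) - π ∘ₗ (LinearMap.snd R B A) := by
    ext x <;> simp [hδ, delta, hι, hπ]
  -- key facts
  have hKinj : Function.Injective ((LinearMap.ker δ).subtype.lTensor R') :=
    LinearMap.lTensor_injective_of_exact_of_flat δ (delta_surj R A B I) _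
      (LinearMap.ker δ).subtype_injective (LinearMap.exact_subtype_ker_map _) R'
  have hKex : Function.Exact ((LinearMap.ker δ).subtype.lTensor R') (δ.lTensor R') :=
    lTensor_exact R' (LinearMap.exact_subtype_ker_map δ) (delta_surj R A B I)
  have hιinj : Function.Injective (ι.lTensor R') := univ_inj R B (A ⧸ I) R'
  -- the equivalence
  set e := eKE R A B I with he
  have hval : ∀ x : R' ⊗[R] ↥(LinearMap.ker δ),
      ((AlgHom.equalizer ((IsScalarTower.toAlgHom R B (A ⧸ I)).comp (AlgHom.fst R B A))
          ((Ideal.Quotient.mkₐ R I).comp (AlgHom.snd R B A))).val.toLinearMap.lTensor R')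
        (e.toLinearMap.lTensor R' x) = (LinearMap.ker δ).subtype.lTensor R' x := by
    intro x
    induction x with
    | zero => simp
    | tmul r y => simp only [LinearMap.lTensor_tmul]; rfl
    | add x y hx hy => simp only [map_add, hx, hy]
  have hfst : ∀ z : R' ⊗[R] (B × A), (LinearMap.fst R B A).lTensor R' z =
      (TensorProduct.prodRight R R R' B A z).1 := by
    intro z
    induction z with
    | zero => simp
    | tmul r y => simp
    | add x y hx hy => simp only [map_add, hx, hy, Prod.fst_add]
  have hsnd : ∀ z : R' ⊗[R] (B × A), (LinearMap.snd R B A).lTensor R' z =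
      (TensorProduct.prodRight R R R' B A z).2 := by
    intro z
    induction z with
    | zero => simp
    | tmul r y => simp
    | add x y hx hy => simp only [map_add, hx, hy, Prod.snd_add]
  have hδz : ∀ z : R' ⊗[R] (B × A), δ.lTensor R' z =
      ι.lTensor R' ((LinearMap.fst R B A).lTensor R' z) - π.lTensor R' ((LinearMap.snd R B A).lTensor R' z) := by
    intro z
    rw [hδeq, LinearMap.lTensor_sub, LinearMap.sub_apply, LinearMap.lTensor_comp, LinearMap.lTensor_comp]
    rfl
  have hcompF : ∀ w : R' ⊗[R] ↥(LinearMap.ker δ),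
        ((AlgHom.fst R B A).comp (AlgHom.equalizer ((IsScalarTower.toAlgHom R B (A ⧸ I)).comp (AlgHom.fst R B A))
          ((Ideal.Quotient.mkₐ R I).comp (AlgHom.snd R B A))).val).toLinearMap.lTensor R'
            (LinearEquiv.lTensor R' e w) =
        (LinearMap.fst R B A).lTensor R' ((LinearMap.ker δ).subtype.lTensor R' w) := by
      intro w
      induction w with
      | zero => simp
      | tmul r y => simp only [LinearEquiv.lTensor_tmul, LinearMap.lTensor_tmul]; rfl
      | add x y hx hy => simp only [map_add, hx, hy]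
  have hcomp : ∀ w : R' ⊗[R] ↥(LinearMap.ker δ),
        ((AlgHom.snd R B A).comp (AlgHom.equalizer ((IsScalarTower.toAlgHom R B (A ⧸ I)).comp (AlgHom.fst R B A))
          ((Ideal.Quotient.mkₐ R I).comp (AlgHom.snd R B A))).val).toLinearMap.lTensor R'
            (LinearEquiv.lTensor R' e w) =
        (LinearMap.snd R B A).lTensor R' ((LinearMap.ker δ).subtype.lTensor R' w) := by
      intro w
      induction w with
      | zero => simp
      | tmul r y => simp only [LinearEquiv.lTensor_tmul, LinearMap.lTensor_tmul]; rfl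
      | add x y hx hy => simp only [map_add, hx, hy]
  constructor
  · intro x y hxy
    rw [map_id_eq_lTensor, map_id_eq_lTensor] at hxy
    -- write x, y via e
    obtain ⟨x', rfl⟩ := (LinearEquiv.lTensor R' e).surjective x
    obtain ⟨y', rfl⟩ := (LinearEquiv.lTensor R' e).surjective y
    rw [hcomp, hcomp] at hxy
    congr 1
    apply hKinj
    set zx := (LinearMap.ker δ).subtype.lTensor R' x' with hzx
    set zy := (LinearMap.ker δ).subtype.lTensor R' y' with hzy
    have h0x : δ.lTensor R' zx = 0 := hKex.apply_apply_eq_zero x'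
    have h0y : δ.lTensor R' zy = 0 := hKex.apply_apply_eq_zero y'
    rw [hδz, sub_eq_zero] at h0x h0y
    have hf : (LinearMap.fst R B A).lTensor R' zx = (LinearMap.fst R B A).lTensor R' zy := by
      apply hιinj
      rw [h0x, h0y, hxy]
    apply (TensorProduct.prodRight R R R' B A).injective
    ext
    · rw [← hfst, ← hfst, hf]
    · rw [← hsnd, ← hsnd, hxy]
  · intro b a hba
    rw [map_id_eq_lTensor, map_id_eq_lTensor] at hba
    set z := (TensorProduct.prodRight R R R' B A).symm (b, a) with hz
    have hz1 : (LinearMap.fst R B A).lTensor R' z = b := by rw [hfst, hz]; simp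
    have hz2 : (LinearMap.snd R B A).lTensor R' z = a := by rw [hsnd, hz]; simp
    have h0 : δ.lTensor R' z = 0 := by
      rw [hδz, hz1, hz2, sub_eq_zero]; exact hba
    obtain ⟨w, hw⟩ := (hKex z).mp h0
    refine ⟨LinearEquiv.lTensor R' e w, ?_, ?_⟩
    · rw [map_id_eq_lTensor, hcompF, hw, hz1]
    · rw [map_id_eq_lTensor, hcomp, hw, hz2]

end

end Groth.Agent.H9.FibFlat
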