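import Mathlib

/-! Helper9: fibre product A ×_B C of finite type (Artin–Tate) (S2017). -/

namespace Groth.Agent.H9.FibProdFT

universe u

theorem main (R A B C : Type u) [CommRing R] [IsNoetherianRing R] [CommRing A] [CommRing B]
    [CommRing C] [Algebra R A] [Algebra R B] [Algebra R C] [Algebra.FiniteType R A]
    [Algebra.FiniteType R B] [Algebra.FiniteType R C] (f : A →ₐ[R] B)
    (hf : Function.Surjective f) (g : C →ₐ[R] B) (hg : (g.toRingHom).Finite) :
    Algebra.FiniteType R
      ↥(AlgHom.equalizer (f.comp (AlgHom.fst R A C)) (g.comp (AlgHom.snd R A C))) := by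
  classical
  -- generators of B over C
  have hrep : ∃ (n : ℕ) (b : Fin n → B), ∀ x : B, ∃ c : Fin n → C, x = ∑ j, g (c j) * b j := by
    let _ : Algebra C B := g.toRingHom.toAlgebra
    have hfin : Module.Finite C B := hg
    obtain ⟨n, b, hb⟩ := Module.Finite.exists_fin (R := C) (M := B)
    refine ⟨n, b, fun x => ?_⟩
    have : x ∈ Submodule.span C (Set.range b) := hb ▸ Submodule.mem_top
    obtain ⟨c, rfl⟩ := (Submodule.mem_span_range_iff_exists_fun C).1 this
    exact ⟨c, Finset.sum_congr rfl fun j _ => by rw [Algebra.smul_def]; rfl⟩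
  obtain ⟨n, b, hb⟩ := hrep
  choose a ha using fun j => hf (b j)
  set E := AlgHom.equalizer (f.comp (AlgHom.fst R A C)) (g.comp (AlgHom.snd R A C)) with hE
  have hmem : ∀ x : A × C, x ∈ E ↔ f x.1 = g x.2 := fun x => by
    simp [hE, AlgHom.mem_equalizer]
  refine ⟨fg_of_fg_of_fg R E (A × C) Algebra.FiniteType.out ?_ Subtype.val_injective⟩
  -- A × C is finite over E
  refine ⟨insert ((1, 0) : A × C) (insert ((0, 1) : A × C)
    (Finset.univ.image fun j => ((a j, 0) : A × C))), ?_⟩
  rw [eq_top_iff]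
  rintro ⟨x, c⟩ -
  set S : Set (A × C) := ↑(insert ((1, 0) : A × C) (insert ((0, 1) : A × C)
    (Finset.univ.image fun j => ((a j, 0) : A × C)))) with hS
  have h10 : ((1, 0) : A × C) ∈ Submodule.span E S :=
    Submodule.subset_span (by simp [hS])
  have h01 : ((0, 1) : A × C) ∈ Submodule.span E S :=
    Submodule.subset_span (by simp [hS])
  have haj : ∀ j, ((a j, 0) : A × C) ∈ Submodule.span E S := fun j =>
    Submodule.subset_span (by simp [hS])
  -- (0, c)
  obtain ⟨a', ha'⟩ := hf (g c)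
  have hd : ((a', c) : A × C) ∈ E := (hmem _).2 ha'
  have h0c : ((0, c) : A × C) ∈ Submodule.span E S := by
    have := Submodule.smul_mem _ (⟨(a', c), hd⟩ : E) h01
    have e : (⟨(a', c), hd⟩ : E) • ((0, 1) : A × C) = (0, c) := by
      change ((a', c) : A × C) * (0, 1) = (0, c)
      simp
    rwa [e] at this
  -- (x, 0)
  obtain ⟨cc, hcc⟩ := hb (f x)
  choose a'' ha'' using fun j => hf (g (cc j))
  have hdj : ∀ j, ((a'' j, cc j) : A × C) ∈ E := fun j => (hmem _).2 (ha'' j)
  have hi : f (x - ∑ j, a'' j * a j) = 0 := by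
    rw [map_sub, map_sum, hcc, sub_eq_zero]
    exact Finset.sum_congr rfl fun j _ => by rw [map_mul, ha'', ha]
  have hiE : ((x - ∑ j, a'' j * a j, 0) : A × C) ∈ E := (hmem _).2 (by simp [hi])
  have hx0 : ((x, 0) : A × C) ∈ Submodule.span E S := by
    have h1 : (⟨_, hiE⟩ : E) • ((1, 0) : A × C) ∈ Submodule.span E S :=
      Submodule.smul_mem _ _ h10
    have h2 : ∑ j, (⟨_, hdj j⟩ : E) • ((a j, 0) : A × C) ∈ Submodule.span E S :=
      Submodule.sum_mem _ fun j _ => Submodule.smul_mem _ _ (haj j)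
    have e : ((x, 0) : A × C) = (⟨_, hiE⟩ : E) • ((1, 0) : A × C) +
        ∑ j, (⟨_, hdj j⟩ : E) • ((a j, 0) : A × C) := by
      have e1 : (⟨_, hiE⟩ : E) • ((1, 0) : A × C) = (x - ∑ j, a'' j * a j, 0) := by
        change ((x - ∑ j, a'' j * a j, 0) : A × C) * (1, 0) = _
        simp
      have e2 : ∀ j, (⟨_, hdj j⟩ : E) • ((a j, 0) : A × C) = (a'' j * a j, 0) := by
        intro j
        change ((a'' j, cc j) : A × C) * (a j, 0) = _
        simp
      rw [e1]
      simp only [e2]
      ext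
      · simp [Prod.fst_sum]
      · simp [Prod.snd_sum]
    rw [e]
    exact add_mem h1 h2
  have : ((x, c) : A × C) = (x, 0) + (0, c) := by simp
  rw [this]
  exact add_mem hx0 h0c

end Groth.Agent.H9.FibProdFT
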