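import Mathlib

/-! Helper9: unique point of base-changed fibre when residue field map is bijective. -/

namespace Groth.Agent.H9.FibPt

open AlgebraicGeometry CategoryTheory Limits Scheme.Pullback

universe u

lemma bij_congr {X Y : Scheme.{u}} (f : X ⟶ Y) {x x' : X} (e : x = x')
    (h : Function.Bijective (f.residueFieldMap x).hom) :
    Function.Bijective (f.residueFieldMap x').hom := by
  subst e; exact h

lemma subsingleton_spec_tensor {X Y S : Scheme.{u}} {f : X ⟶ S} {g : Y ⟶ S} (T : Triplet f g)
    (h : Function.Bijective (f.residueFieldMap T.x).hom) : Subsingleton ↥(Spec T.tensor) := by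
  have h1 : IsIso (f.residueFieldMap T.x) :=
    (ConcreteCategory.isIso_iff_bijective _).2 h
  have h1' : IsIso ((S.residueFieldCongr T.hx).inv ≫ f.residueFieldMap T.x) := inferInstance
  have h2 : IsIso T.tensorInr := by
    unfold Triplet.tensorInr
    exact pushout_inr_iso_of_left_iso _ _
  have h3 : IsIso (Spec.map T.tensorInr) := inferInstance
  have : Subsingleton ↥(Spec (Y.residueField T.y)) :=
    inferInstanceAs (Subsingleton (PrimeSpectrum (Y.residueField T.y)))
  exact (Scheme.homeoOfIso (asIso (Spec.map T.tensorInr))).injective.subsingleton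

theorem main {X Y : Scheme.{u}} (f : X ⟶ Y) (x : ↥X)
    (hx : Function.Bijective (f.residueFieldMap x).hom)
    (ℓ : Type u) [Field ℓ] [Algebra (Y.residueField (f.base x)) ℓ] :
    ∃! z : ↥(pullback f (Spec.map (CommRingCat.ofHom (algebraMap (Y.residueField (f.base x)) ℓ)) ≫
        Y.fromSpecResidueField (f.base x))),
      (pullback.fst f (Spec.map (CommRingCat.ofHom (algebraMap (Y.residueField (f.base x)) ℓ)) ≫
        Y.fromSpecResidueField (f.base x))).base z = x := by
  set g := Spec.map (CommRingCat.ofHom (algebraMap (Y.residueField (f.base x)) ℓ)) ≫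
        Y.fromSpecResidueField (f.base x) with hg
  have hsub : Subsingleton ↥(Spec (CommRingCat.of ℓ)) :=
    inferInstanceAs (Subsingleton (PrimeSpectrum ℓ))
  let pt : ↥(Spec (CommRingCat.of ℓ)) := (⊥ : PrimeSpectrum ℓ)
  have hpt : f.base x = g.base pt := by
    rw [hg, Scheme.Hom.comp_apply]
    exact (Scheme.fromSpecResidueField_apply _ _).symm
  obtain ⟨z, hz1, hz2⟩ := exists_preimage_pullback (f := f) (g := g) x pt hpt
  refine ⟨z, hz1, fun z' hz' => ?_⟩
  apply carrierEquiv.injective
  apply carrierEquiv_eq_iff.2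
  have e : Triplet.ofPoint z' = Triplet.ofPoint z := by
    apply Triplet.ext
    · simp only [Triplet.ofPoint_x]; rw [hz', hz1]
    · exact Subsingleton.elim _ _
  refine ⟨e, ?_⟩
  have hs : Subsingleton ↥(Spec (carrierEquiv z).fst.tensor) :=
    subsingleton_spec_tensor (Triplet.ofPoint z) (bij_congr f hz1.symm hx)
  exact Subsingleton.elim _ _

end Groth.Agent.H9.FibPt
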