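import Mathlib
import Groth.Prelude.Def_SpSeq

set_option autoImplicit false
universe v u
open CategoryTheory CategoryTheory.Limits Category

namespace Groth.Agent.H9.FilObjA

open SpSeq

variable {A : Type u} [Category.{v} A] [Abelian A]

@[simp] lemma comp_hom {X Y Z : FilObj A} (a : X ⟶ Y) (b : Y ⟶ Z) : (a ≫ b).hom = a.hom ≫ b.hom :=
  rfl

@[simp] lemma id_hom (X : FilObj A) : (𝟙 X : X ⟶ X).hom = 𝟙 X.obj := rfl

lemma hom_ext' {X Y : FilObj A} {a b : X ⟶ Y} (h : a.hom = b.hom) : a = b :=
  FilObj.Hom.ext h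

/-- Generalized elements of an image. -/
lemma factors_image_iff {X Y T : A} (f : X ⟶ Y) (x : T ⟶ Y) :
    (imageSubobject f).Factors x ↔
      ∃ (T' : A) (π : T' ⟶ T) (_ : Epi π) (y : T' ⟶ X), π ≫ x = y ≫ f := by
  constructor
  · intro h
    obtain ⟨T', π, hπ, y, hy⟩ := surjective_up_to_refinements_of_epi (factorThruImageSubobject f)
      ((imageSubobject f).factorThru x h)
    refine ⟨T', π, hπ, y, ?_⟩
    calc π ≫ x = π ≫ (imageSubobject f).factorThru x h ≫ (imageSubobject f).arrow := by
          rw [Subobject.factorThru_arrow]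
      _ = (y ≫ factorThruImageSubobject f) ≫ (imageSubobject f).arrow := by rw [← assoc, hy]
      _ = y ≫ f := by rw [assoc, imageSubobject_arrow_comp]
  · rintro ⟨T', π, hπ, y, hy⟩
    have h1 : f ≫ cokernel.π (imageSubobject f).arrow = 0 := by
      calc f ≫ cokernel.π (imageSubobject f).arrow
          = (factorThruImageSubobject f ≫ (imageSubobject f).arrow) ≫
              cokernel.π (imageSubobject f).arrow := by rw [imageSubobject_arrow_comp]
        _ = 0 := by rw [assoc, cokernel.condition, comp_zero]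
    have h0 : x ≫ cokernel.π (imageSubobject f).arrow = 0 := by
      rw [← cancel_epi π, comp_zero, ← assoc, hy, assoc, h1, comp_zero]
    refine (Subobject.factors_iff _ _).mpr
      ⟨Abelian.monoLift (imageSubobject f).arrow x h0, ?_⟩
    exact Abelian.monoLift_comp (imageSubobject f).arrow x h0

lemma factors_image_self {X Y : A} (f : X ⟶ Y) : (imageSubobject f).Factors f :=
  (Subobject.factors_iff _ _).mpr ⟨factorThruImageSubobject f, imageSubobject_arrow_comp f⟩

lemma factors_sup_image {U V Y T : A} (u : U ⟶ Y) (v : V ⟶ Y) (x : T ⟶ Y)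
    (h : (imageSubobject u ⊔ imageSubobject v).Factors x) :
    ∃ (T' : A) (π : T' ⟶ T) (_ : Epi π) (s : T' ⟶ U) (t : T' ⟶ V),
      π ≫ x = s ≫ u + t ≫ v := by
  have hle : imageSubobject u ⊔ imageSubobject v ≤ imageSubobject (biprod.desc u v) := by
    apply sup_le
    · have h1 : imageSubobject (biprod.inl ≫ biprod.desc u v) ≤ imageSubobject (biprod.desc u v) :=
        imageSubobject_comp_le _ _
      rwa [biprod.inl_desc] at h1
    · have h1 : imageSubobject (biprod.inr ≫ biprod.desc u v) ≤ imageSubobject (biprod.desc u v) :=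
        imageSubobject_comp_le _ _
      rwa [biprod.inr_desc] at h1
  obtain ⟨T', π, hπ, y, hy⟩ := (factors_image_iff _ _).mp (Subobject.factors_of_le _ hle h)
  refine ⟨T', π, hπ, y ≫ biprod.fst, y ≫ biprod.snd, ?_⟩
  rw [hy, biprod.desc_eq, Preadditive.comp_add, assoc, assoc]

lemma image_anti (L : FilObj A) {Y : A} (i : L.obj ⟶ Y) {p q : ℤ} (h : p ≤ q) :
    imageSubobject ((L.fil q).arrow ≫ i) ≤ imageSubobject ((L.fil p).arrow ≫ i) := by
  have h1 : (L.fil q).arrow ≫ i = (L.fil q).ofLE (L.fil p) (L.anti h) ≫ (L.fil p).arrow ≫ i := by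
    rw [← assoc, Subobject.ofLE_arrow]
  rw [h1]
  exact imageSubobject_comp_le _ _

lemma le_pullback_inf {T Pb Lo Mo : A} (l : T ⟶ Pb) (p₁ : Pb ⟶ Lo) (p₂ : Pb ⟶ Mo) (a : T ⟶ Lo)
    (b : T ⟶ Mo) (h1 : l ≫ p₁ = a) (h2 : l ≫ p₂ = b) (t : Subobject T) (X : Subobject Lo)
    (Y : Subobject Mo) (ha : t ≤ (Subobject.pullback a).obj X)
    (hb : t ≤ (Subobject.pullback b).obj Y) :
    t ≤ (Subobject.pullback l).obj ((Subobject.pullback p₁).obj X ⊓
      (Subobject.pullback p₂).obj Y) := by
  subst h1 h2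
  rw [Subobject.inf_pullback, ← Subobject.pullback_comp, ← Subobject.pullback_comp]
  exact le_inf ha hb

section Pullback

variable {K L M : FilObj A} (f : L ⟶ K) (g : M ⟶ K)

/-- The standard pullback of filtered objects. -/
noncomputable def pbObj : FilObj A where
  obj := pullback f.hom g.hom
  fil p := (Subobject.pullback (pullback.fst f.hom g.hom)).obj (L.fil p) ⊓
    (Subobject.pullback (pullback.snd f.hom g.hom)).obj (M.fil p)
  anti := fun _ _ h => inf_le_inf ((Subobject.pullback _).monotone (L.anti h))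
    ((Subobject.pullback _).monotone (M.anti h))

noncomputable def pbFst : pbObj f g ⟶ L := ⟨pullback.fst f.hom g.hom, fun _ => inf_le_left⟩

noncomputable def pbSnd : pbObj f g ⟶ M := ⟨pullback.snd f.hom g.hom, fun _ => inf_le_right⟩

lemma pb_w : pbFst f g ≫ f = pbSnd f g ≫ g := hom_ext' pullback.condition

noncomputable def pbLift {T : FilObj A} (a : T ⟶ L) (b : T ⟶ M) (w : a ≫ f = b ≫ g) :
    T ⟶ pbObj f g :=
  ⟨pullback.lift a.hom b.hom (congrArg FilObj.Hom.hom w), fun p =>
    le_pullback_inf _ _ _ a.hom b.hom (pullback.lift_fst _ _ _) (pullback.lift_snd _ _ _) _ _ _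
      (a.compat p) (b.compat p)⟩

lemma isPullback_pb : IsPullback (pbFst f g) (pbSnd f g) f g :=
  IsPullback.of_isLimit (c := PullbackCone.mk (pbFst f g) (pbSnd f g) (pb_w f g))
    (PullbackCone.IsLimit.mk _ (fun s => pbLift f g s.fst s.snd s.condition)
      (fun s => hom_ext' (pullback.lift_fst _ _ _))
      (fun s => hom_ext' (pullback.lift_snd _ _ _))
      (fun s m h1 h2 => hom_ext' (by
        apply pullback.hom_ext
        · rw [show (pbLift f g s.fst s.snd s.condition).hom = pullback.lift _ _ _ from rfl,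
            pullback.lift_fst]
          exact congrArg FilObj.Hom.hom h1
        · rw [show (pbLift f g s.fst s.snd s.condition).hom = pullback.lift _ _ _ from rfl,
            pullback.lift_snd]
          exact congrArg FilObj.Hom.hom h2)))

/-- The object `T` with the zero filtration. -/
noncomputable def botObj (T : A) : FilObj A := ⟨T, fun _ => ⊥, fun _ _ _ => le_rfl⟩

noncomputable def botHom {T : A} {L : FilObj A} (x : T ⟶ L.obj) : botObj T ⟶ L := ⟨x, fun _ => bot_le⟩

variable {f g}

lemma isPullback_hom {P : FilObj A} {g' : P ⟶ L} {f' : P ⟶ M} (h : IsPullback g' f' f g) :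
    IsPullback g'.hom f'.hom f.hom g.hom := by
  refine IsPullback.of_isLimit
    (c := PullbackCone.mk g'.hom f'.hom (congrArg FilObj.Hom.hom h.w))
    (PullbackCone.IsLimit.mk _
      (fun s => (h.lift (botHom s.fst) (botHom s.snd) (hom_ext' s.condition)).hom) ?_ ?_ ?_)
  · intro s
    exact congrArg FilObj.Hom.hom (h.lift_fst _ _ _)
  · intro s
    exact congrArg FilObj.Hom.hom (h.lift_snd _ _ _)
  · intro s m h1 h2
    have : (⟨m, fun _ => bot_le⟩ : botObj s.pt ⟶ P) =
        h.lift (botHom s.fst) (botHom s.snd) (hom_ext' s.condition) := by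
      apply h.hom_ext
      · rw [h.lift_fst]
        exact hom_ext' h1
      · rw [h.lift_snd]
        exact hom_ext' h2
    exact congrArg FilObj.Hom.hom this

lemma fil_ge {P : FilObj A} {g' : P ⟶ L} {f' : P ⟶ M} (h : IsPullback g' f' f g) (p : ℤ) :
    (Subobject.pullback g'.hom).obj (L.fil p) ⊓ (Subobject.pullback f'.hom).obj (M.fil p) ≤
      P.fil p := by
  let T : FilObj A := ⟨P.obj, fun q => (Subobject.pullback g'.hom).obj (L.fil q) ⊓
    (Subobject.pullback f'.hom).obj (M.fil q), fun _ _ h => inf_le_inf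
      ((Subobject.pullback _).monotone (L.anti h)) ((Subobject.pullback _).monotone (M.anti h))⟩
  let a : T ⟶ L := ⟨g'.hom, fun _ => inf_le_left⟩
  let b : T ⟶ M := ⟨f'.hom, fun _ => inf_le_right⟩
  have w : a ≫ f = b ≫ g :=
    hom_ext' (show a.hom ≫ f.hom = b.hom ≫ g.hom from congrArg FilObj.Hom.hom h.w)
  have hu : (h.lift a b w).hom = 𝟙 P.obj := by
    apply (isPullback_hom h).hom_ext
    · rw [id_comp]
      exact congrArg FilObj.Hom.hom (h.lift_fst a b w)
    · rw [id_comp]
      exact congrArg FilObj.Hom.hom (h.lift_snd a b w)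
  have h1 : T.fil p ≤ (Subobject.pullback (h.lift a b w).hom).obj (P.fil p) :=
    (h.lift a b w).compat p
  rw [hu, Subobject.pullback_id] at h1
  exact h1

theorem strict_pullback {P : FilObj A} {g' : P ⟶ L} {f' : P ⟶ M} (h : IsPullback g' f' f g)
    (hf : FilObj.IsStrict f) : FilObj.IsStrict f' := by
  intro p
  have hA := isPullback_hom h
  apply le_antisymm
  · apply le_inf
    · exact imageSubobject_comp_le _ _
    · have h1 : (M.fil p).Factors ((P.fil p).arrow ≫ f'.hom) :=
        (pullback_factors_iff f'.hom (M.fil p) (P.fil p).arrow).mp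
          (Subobject.factors_of_le _ (f'.compat p) (Subobject.factors_self _))
      exact imageSubobject_le _ ((M.fil p).factorThru _ h1) (Subobject.factorThru_arrow _ _ h1)
  · apply Subobject.le_of_factors
    have hx1 : (imageSubobject f'.hom).Factors (imageSubobject f'.hom ⊓ M.fil p).arrow :=
      Subobject.factors_of_le _ inf_le_left (Subobject.factors_self _)
    have hx2 : (M.fil p).Factors (imageSubobject f'.hom ⊓ M.fil p).arrow :=
      Subobject.factors_of_le _ inf_le_right (Subobject.factors_self _)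
    generalize (imageSubobject f'.hom ⊓ M.fil p).arrow = x at hx1 hx2 ⊢
    obtain ⟨T₁, π₁, hπ₁, y₁, hy₁⟩ := (factors_image_iff _ _).mp hx1
    haveI := hπ₁
    have hK : (K.fil p).Factors (x ≫ g.hom) :=
      (pullback_factors_iff g.hom (K.fil p) x).mp (Subobject.factors_of_le _ (g.compat p) hx2)
    have hlf : (y₁ ≫ g'.hom) ≫ f.hom = π₁ ≫ x ≫ g.hom := by
      rw [assoc, hA.w, ← assoc, ← hy₁, assoc]
    have h3 : (imageSubobject f.hom ⊓ K.fil p).Factors ((y₁ ≫ g'.hom) ≫ f.hom) := by
      rw [Subobject.inf_factors]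
      refine ⟨imageSubobject_factors_comp_self _ _, ?_⟩
      rw [hlf]
      exact Subobject.factors_of_factors_right _ hK
    rw [← hf p] at h3
    obtain ⟨T₂, π₂, hπ₂, y₂, hy₂⟩ := (factors_image_iff _ _).mp h3
    haveI := hπ₂
    have hz : (y₂ ≫ (L.fil p).arrow) ≫ f.hom = (π₂ ≫ π₁ ≫ x) ≫ g.hom := by
      rw [assoc, ← hy₂, hlf]
      simp only [assoc]
    have hz1 : hA.lift (y₂ ≫ (L.fil p).arrow) (π₂ ≫ π₁ ≫ x) hz ≫ g'.hom =
        y₂ ≫ (L.fil p).arrow := hA.lift_fst _ _ _
    have hz2 : hA.lift (y₂ ≫ (L.fil p).arrow) (π₂ ≫ π₁ ≫ x) hz ≫ f'.hom = π₂ ≫ π₁ ≫ x :=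
      hA.lift_snd _ _ _
    have hzP : (P.fil p).Factors (hA.lift (y₂ ≫ (L.fil p).arrow) (π₂ ≫ π₁ ≫ x) hz) := by
      apply Subobject.factors_of_le _ (fil_ge h p)
      rw [Subobject.inf_factors]
      constructor
      · rw [pullback_factors_iff, hz1]
        exact Subobject.factors_comp_arrow _
      · rw [pullback_factors_iff, hz2]
        exact Subobject.factors_of_factors_right _ (Subobject.factors_of_factors_right _ hx2)
    refine (factors_image_iff _ _).mpr ⟨T₂, π₂ ≫ π₁, inferInstance,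
      (P.fil p).factorThru _ hzP, ?_⟩
    rw [← assoc ((P.fil p).factorThru _ hzP), Subobject.factorThru_arrow, hz2, assoc]

theorem pullback_main (f : L ⟶ K) (g : M ⟶ K) :
    HasPullback f g ∧ ∀ (P : FilObj A) (g' : P ⟶ L) (f' : P ⟶ M), IsPullback g' f' f g →
      FilObj.IsStrict f → FilObj.IsStrict f' :=
  ⟨(isPullback_pb f g).hasPullback, fun _ _ _ h hf => strict_pullback h hf⟩

end Pullback

end Groth.Agent.H9.FilObjA
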