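import Mathlib
import Groth.Agent.Lib.Helper9.Misc.FilObjA

set_option autoImplicit false
universe v u
open CategoryTheory CategoryTheory.Limits Category

namespace Groth.Agent.H9.FilObjA

open SpSeq

variable {A : Type u} [Category.{v} A] [Abelian A]

section Pushout

variable {K L M : FilObj A} (f : K ⟶ L) (g : K ⟶ M)

/-- The standard pushout of filtered objects. -/
noncomputable def poObj : FilObj A where
  obj := pushout f.hom g.hom
  fil p := imageSubobject ((L.fil p).arrow ≫ pushout.inl f.hom g.hom) ⊔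
    imageSubobject ((M.fil p).arrow ≫ pushout.inr f.hom g.hom)
  anti := fun _ _ h => sup_le_sup (image_anti L _ h) (image_anti M _ h)

lemma le_pullback_sup_left {Lo Y V : A} (i : Lo ⟶ Y) (j : V ⟶ Y) (X : Subobject Lo) :
    X ≤ (Subobject.pullback i).obj (imageSubobject (X.arrow ≫ i) ⊔ imageSubobject j) := by
  apply Subobject.le_of_factors
  rw [pullback_factors_iff]
  exact Subobject.factors_of_le _ le_sup_left (factors_image_self _)

lemma le_pullback_sup_right {Lo Y V : A} (i : Lo ⟶ Y) (j : V ⟶ Y) (X : Subobject Lo) :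
    X ≤ (Subobject.pullback i).obj (imageSubobject j ⊔ imageSubobject (X.arrow ≫ i)) := by
  apply Subobject.le_of_factors
  rw [pullback_factors_iff]
  exact Subobject.factors_of_le _ le_sup_right (factors_image_self _)

noncomputable def poInl : L ⟶ poObj f g :=
  ⟨pushout.inl f.hom g.hom, fun _ => le_pullback_sup_left _ _ _⟩

noncomputable def poInr : M ⟶ poObj f g :=
  ⟨pushout.inr f.hom g.hom, fun _ => le_pullback_sup_right _ _ _⟩

lemma po_w : f ≫ poInl f g = g ≫ poInr f g := hom_ext' pushout.condition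

lemma image_le_pullback {Lo Q To : A} (i : Lo ⟶ Q) (d : Q ⟶ To) (a : Lo ⟶ To) (h : i ≫ d = a)
    (X : Subobject Lo) (Y : Subobject To) (hc : X ≤ (Subobject.pullback a).obj Y) :
    imageSubobject (X.arrow ≫ i) ≤ (Subobject.pullback d).obj Y := by
  subst h
  have h1 : ((Subobject.pullback d).obj Y).Factors (X.arrow ≫ i) := by
    rw [pullback_factors_iff, assoc, ← pullback_factors_iff]
    exact Subobject.factors_of_le _ hc (Subobject.factors_self _)
  exact imageSubobject_le _ (Subobject.factorThru _ _ h1) (Subobject.factorThru_arrow _ _ h1)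

noncomputable def poDesc {T : FilObj A} (a : L ⟶ T) (b : M ⟶ T) (w : f ≫ a = g ≫ b) :
    poObj f g ⟶ T :=
  ⟨pushout.desc a.hom b.hom (congrArg FilObj.Hom.hom w), fun p =>
    sup_le (image_le_pullback _ _ a.hom (pushout.inl_desc _ _ _) _ _ (a.compat p))
      (image_le_pullback _ _ b.hom (pushout.inr_desc _ _ _) _ _ (b.compat p))⟩

lemma isPushout_po : IsPushout f g (poInl f g) (poInr f g) :=
  IsPushout.of_isColimit (c := PushoutCocone.mk (poInl f g) (poInr f g) (po_w f g))
    (PushoutCocone.IsColimit.mk _ (fun s => poDesc f g s.inl s.inr s.condition)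
      (fun s => hom_ext' (pushout.inl_desc _ _ _))
      (fun s => hom_ext' (pushout.inr_desc _ _ _))
      (fun s m h1 h2 => hom_ext' (by
        apply pushout.hom_ext
        · rw [show (poDesc f g s.inl s.inr s.condition).hom = pushout.desc _ _ _ from rfl,
            pushout.inl_desc]
          exact congrArg FilObj.Hom.hom h1
        · rw [show (poDesc f g s.inl s.inr s.condition).hom = pushout.desc _ _ _ from rfl,
            pushout.inr_desc]
          exact congrArg FilObj.Hom.hom h2)))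

/-- The object `T` with the trivial (everything) filtration. -/
noncomputable def topObj (T : A) : FilObj A := ⟨T, fun _ => ⊤, fun _ _ _ => le_rfl⟩

noncomputable def topHom {T : A} {L : FilObj A} (x : L.obj ⟶ T) : L ⟶ topObj T :=
  ⟨x, fun p => by
    show L.fil p ≤ (Subobject.pullback x).obj ⊤
    rw [Subobject.pullback_top]
    exact le_top⟩

variable {f g}

lemma isPushout_hom {P : FilObj A} {g' : L ⟶ P} {f' : M ⟶ P} (h : IsPushout f g g' f') :
    IsPushout f.hom g.hom g'.hom f'.hom := by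
  refine IsPushout.of_isColimit
    (c := PushoutCocone.mk g'.hom f'.hom (congrArg FilObj.Hom.hom h.w))
    (PushoutCocone.IsColimit.mk _
      (fun s => (h.desc (topHom s.inl) (topHom s.inr) (hom_ext' s.condition)).hom) ?_ ?_ ?_)
  · intro s
    exact congrArg FilObj.Hom.hom (h.inl_desc _ _ _)
  · intro s
    exact congrArg FilObj.Hom.hom (h.inr_desc _ _ _)
  · intro s m h1 h2
    have : (topHom m : P ⟶ topObj s.pt) =
        h.desc (topHom s.inl) (topHom s.inr) (hom_ext' s.condition) := by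
      apply h.hom_ext
      · rw [h.inl_desc]
        exact hom_ext' h1
      · rw [h.inr_desc]
        exact hom_ext' h2
    exact congrArg FilObj.Hom.hom this

lemma fil_le {P : FilObj A} {g' : L ⟶ P} {f' : M ⟶ P} (h : IsPushout f g g' f') (p : ℤ) :
    P.fil p ≤ imageSubobject ((L.fil p).arrow ≫ g'.hom) ⊔
      imageSubobject ((M.fil p).arrow ≫ f'.hom) := by
  let T : FilObj A := ⟨P.obj, fun q => imageSubobject ((L.fil q).arrow ≫ g'.hom) ⊔
    imageSubobject ((M.fil q).arrow ≫ f'.hom), fun _ _ h =>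
      sup_le_sup (image_anti L _ h) (image_anti M _ h)⟩
  let a : L ⟶ T := ⟨g'.hom, fun _ => le_pullback_sup_left _ _ _⟩
  let b : M ⟶ T := ⟨f'.hom, fun _ => le_pullback_sup_right _ _ _⟩
  have w : f ≫ a = g ≫ b :=
    hom_ext' (show f.hom ≫ a.hom = g.hom ≫ b.hom from congrArg FilObj.Hom.hom h.w)
  have hu : (h.desc a b w).hom = 𝟙 P.obj := by
    apply (isPushout_hom h).hom_ext
    · rw [comp_id]
      exact congrArg FilObj.Hom.hom (h.inl_desc a b w)
    · rw [comp_id]
      exact congrArg FilObj.Hom.hom (h.inr_desc a b w)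
  have h1 : P.fil p ≤ (Subobject.pullback (h.desc a b w).hom).obj (T.fil p) :=
    (h.desc a b w).compat p
  rw [hu, Subobject.pullback_id] at h1
  exact h1

theorem strict_pushout {P : FilObj A} {g' : L ⟶ P} {f' : M ⟶ P} (h : IsPushout f g g' f')
    (hf : FilObj.IsStrict f) : FilObj.IsStrict f' := by
  intro p
  have hA := isPushout_hom h
  apply le_antisymm
  · apply le_inf
    · exact imageSubobject_comp_le _ _
    · have h1 : (P.fil p).Factors ((M.fil p).arrow ≫ f'.hom) :=
        (pullback_factors_iff f'.hom (P.fil p) (M.fil p).arrow).mp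
          (Subobject.factors_of_le _ (f'.compat p) (Subobject.factors_self _))
      exact imageSubobject_le _ ((P.fil p).factorThru _ h1) (Subobject.factorThru_arrow _ _ h1)
  · apply Subobject.le_of_factors
    have hx1 : (imageSubobject f'.hom).Factors (imageSubobject f'.hom ⊓ P.fil p).arrow :=
      Subobject.factors_of_le _ inf_le_left (Subobject.factors_self _)
    have hx2 : (P.fil p).Factors (imageSubobject f'.hom ⊓ P.fil p).arrow :=
      Subobject.factors_of_le _ inf_le_right (Subobject.factors_self _)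
    generalize (imageSubobject f'.hom ⊓ P.fil p).arrow = x at hx1 hx2 ⊢
    obtain ⟨T₁, π₁, hπ₁, m, hm⟩ := (factors_image_iff _ _).mp hx1
    obtain ⟨T₂, π₂, hπ₂, s, t, hst⟩ := factors_sup_image _ _ x
      (Subobject.factors_of_le _ (fil_le h p) hx2)
    haveI := hπ₁
    haveI := hπ₂
    have hρ : pullback.fst π₁ π₂ ≫ π₁ = pullback.snd π₁ π₂ ≫ π₂ := pullback.condition
    have hlm : (pullback.snd π₁ π₂ ≫ s ≫ (L.fil p).arrow) ≫ g'.hom =
        (pullback.fst π₁ π₂ ≫ m - pullback.snd π₁ π₂ ≫ t ≫ (M.fil p).arrow) ≫ f'.hom := by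
      have e1 : pullback.fst π₁ π₂ ≫ m ≫ f'.hom = pullback.snd π₁ π₂ ≫
          (s ≫ (L.fil p).arrow ≫ g'.hom + t ≫ (M.fil p).arrow ≫ f'.hom) := by
        rw [← hm, ← assoc, hρ, assoc, hst]
      simp only [Preadditive.sub_comp, assoc, e1, Preadditive.comp_add]
      abel
    have hzero : biprod.lift (pullback.snd π₁ π₂ ≫ s ≫ (L.fil p).arrow)
        (-(pullback.fst π₁ π₂ ≫ m - pullback.snd π₁ π₂ ≫ t ≫ (M.fil p).arrow)) ≫
        hA.shortComplex.g = 0 := by
      show biprod.lift _ _ ≫ biprod.desc g'.hom f'.hom = 0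
      rw [biprod.lift_desc, Preadditive.neg_comp, hlm, add_neg_cancel]
    obtain ⟨T₄, π₄, hπ₄, k, hk⟩ := hA.exact_shortComplex.exact_up_to_refinements _ hzero
    haveI := hπ₄
    have hk1 : π₄ ≫ pullback.snd π₁ π₂ ≫ s ≫ (L.fil p).arrow = k ≫ f.hom := by
      have hk0 : π₄ ≫ (biprod.lift (pullback.snd π₁ π₂ ≫ s ≫ (L.fil p).arrow)
          (-(pullback.fst π₁ π₂ ≫ m - pullback.snd π₁ π₂ ≫ t ≫ (M.fil p).arrow)) :
            pullback π₁ π₂ ⟶ L.obj ⊞ M.obj) = k ≫ biprod.lift f.hom (-g.hom) := hk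
      have h2 := congrArg (fun z => z ≫ (biprod.fst : L.obj ⊞ M.obj ⟶ L.obj)) hk0
      simp only [assoc, biprod.lift_fst] at h2
      exact h2
    have h3 : (imageSubobject f.hom ⊓ L.fil p).Factors (k ≫ f.hom) := by
      rw [Subobject.inf_factors]
      refine ⟨imageSubobject_factors_comp_self _ _, ?_⟩
      rw [← hk1]
      exact Subobject.factors_of_factors_right _ (Subobject.factors_of_factors_right _
        (Subobject.factors_comp_arrow _))
    rw [← hf p] at h3
    obtain ⟨T₅, π₅, hπ₅, k', hk'⟩ := (factors_image_iff _ _).mp h3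
    haveI := hπ₅
    have hMg : (M.fil p).Factors (k' ≫ (K.fil p).arrow ≫ g.hom) := by
      apply Subobject.factors_of_factors_right
      exact (pullback_factors_iff g.hom (M.fil p) (K.fil p).arrow).mp
        (Subobject.factors_of_le _ (g.compat p) (Subobject.factors_self _))
    have hMt : (M.fil p).Factors (π₅ ≫ π₄ ≫ pullback.snd π₁ π₂ ≫ t ≫ (M.fil p).arrow) :=
      Subobject.factors_of_factors_right _ (Subobject.factors_of_factors_right _
        (Subobject.factors_of_factors_right _ (Subobject.factors_comp_arrow _)))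
    have hw : (M.fil p).Factors (k' ≫ (K.fil p).arrow ≫ g.hom +
        π₅ ≫ π₄ ≫ pullback.snd π₁ π₂ ≫ t ≫ (M.fil p).arrow) :=
      Subobject.factors_add _ _ hMg hMt
    have hfirst : π₅ ≫ π₄ ≫ pullback.snd π₁ π₂ ≫ s ≫ (L.fil p).arrow ≫ g'.hom =
        k' ≫ (K.fil p).arrow ≫ g.hom ≫ f'.hom := by
      calc π₅ ≫ π₄ ≫ pullback.snd π₁ π₂ ≫ s ≫ (L.fil p).arrow ≫ g'.hom
          = π₅ ≫ (π₄ ≫ pullback.snd π₁ π₂ ≫ s ≫ (L.fil p).arrow) ≫ g'.hom := by
            simp only [assoc]
        _ = π₅ ≫ (k ≫ f.hom) ≫ g'.hom := by rw [hk1]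
        _ = (π₅ ≫ k ≫ f.hom) ≫ g'.hom := by simp only [assoc]
        _ = (k' ≫ (K.fil p).arrow ≫ f.hom) ≫ g'.hom := by rw [hk']
        _ = k' ≫ (K.fil p).arrow ≫ g.hom ≫ f'.hom := by simp only [assoc, hA.w]
    have hfinal : (π₅ ≫ π₄ ≫ pullback.snd π₁ π₂ ≫ π₂) ≫ x =
        (k' ≫ (K.fil p).arrow ≫ g.hom +
          π₅ ≫ π₄ ≫ pullback.snd π₁ π₂ ≫ t ≫ (M.fil p).arrow) ≫ f'.hom := by
      simp only [assoc, hst, Preadditive.comp_add, Preadditive.add_comp]
      rw [hfirst]
    refine (factors_image_iff _ _).mpr ⟨T₅, π₅ ≫ π₄ ≫ pullback.snd π₁ π₂ ≫ π₂, inferInstance,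
      (M.fil p).factorThru _ hw, ?_⟩
    rw [hfinal, ← assoc ((M.fil p).factorThru _ hw), Subobject.factorThru_arrow]

theorem pushout_main (f : K ⟶ L) (g : K ⟶ M) :
    HasPushout f g ∧ ∀ (P : FilObj A) (g' : L ⟶ P) (f' : M ⟶ P), IsPushout f g g' f' →
      FilObj.IsStrict f → FilObj.IsStrict f' :=
  ⟨(isPushout_po f g).hasPushout, fun _ _ _ h hf => strict_pushout h hf⟩

end Pushout

end Groth.Agent.H9.FilObjA
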