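import Mathlib
set_option autoImplicit false
set_option linter.style.haveILetI false
set_option linter.unusedSectionVars false
set_option linter.unusedVariables false
namespace Groth.Agent.H9.FinOrdGL
universe u
open Matrix Module

variable (R : Type u) [CommRing R] [IsDomain R] [IsDiscreteValuationRing R]
  (K : Type u) [Field K] [Algebra R K] [IsFractionRing R K]

theorem conj_into_GLR (N : ℕ) (g : GL (Fin N) K) (hg : IsOfFinOrder g) :
    ∃ (h : GL (Fin N) K) (g' : GL (Fin N) R),
      h * g * h⁻¹ = Matrix.GeneralLinearGroup.map (algebraMap R K) g' := by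
  classical
  set n := orderOf g with hn
  have hnpos : 0 < n := hg.orderOf_pos
  -- the K-linear maps
  let V := Fin N → K
  let F : ℕ → (V →ₗ[K] V) := fun t => Matrix.toLin' ((g ^ t : GL (Fin N) K) : Matrix (Fin N) (Fin N) K)
  have hFmod : ∀ t, F (t % n) = F t := by
    intro t
    simp only [F]
    rw [hn, pow_mod_orderOf]
  have hFadd : ∀ s t, (F s) ∘ₗ (F t) = F (s + t) := by
    intro s t
    simp only [F]
    rw [pow_add, Units.val_mul, Matrix.toLin'_mul]
  have hF0 : F 0 = LinearMap.id := by
    simp only [F]
    rw [pow_zero, Units.val_one, Matrix.toLin'_one]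
  have hFn : F n = LinearMap.id := by
    rw [← hFmod n, Nat.mod_self, hF0]
  -- the lattice
  let gen : Fin n × Fin N → V := fun p => F (p.1 : ℕ) (Pi.single p.2 1)
  let L : Submodule R V := Submodule.span R (Set.range gen)
  haveI : Module.Finite R L := Module.Finite.span_of_finite R (Set.finite_range gen)
  have hgenL : ∀ (t : ℕ) (j : Fin N), F t (Pi.single j 1) ∈ L := by
    intro t j
    rw [← hFmod t]
    exact Submodule.subset_span ⟨(⟨t % n, Nat.mod_lt _ hnpos⟩, j), rfl⟩
  have hstab : ∀ s : ℕ, ∀ x ∈ L, (F s).restrictScalars R x ∈ L := by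
    intro s x hx
    induction hx using Submodule.span_induction with
    | mem x hx =>
      obtain ⟨⟨i, j⟩, rfl⟩ := hx
      show F s (F (i : ℕ) (Pi.single j 1)) ∈ L
      rw [← LinearMap.comp_apply, hFadd]
      exact hgenL _ j
    | zero => simp
    | add x y hx hy ihx ihy => rw [map_add]; exact add_mem ihx ihy
    | smul a x hx ih => rw [map_smul]; exact Submodule.smul_mem _ _ ih
  have heL : ∀ j : Fin N, (Pi.single j 1 : V) ∈ L := by
    intro j
    have := hgenL 0 j
    rwa [hF0] at this
  -- restrictions
  let fL : L →ₗ[R] L := ((F 1).restrictScalars R).restrict (hstab 1)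
  let fL' : L →ₗ[R] L := ((F (n - 1)).restrictScalars R).restrict (hstab (n - 1))
  have hcomp1 : fL ∘ₗ fL' = LinearMap.id := by
    ext x : 2
    show F 1 (F (n - 1) (x : V)) = (x : V)
    rw [← LinearMap.comp_apply, hFadd, show 1 + (n - 1) = n by omega, hFn]; rfl
  have hcomp2 : fL' ∘ₗ fL = LinearMap.id := by
    ext x : 2
    show F (n - 1) (F 1 (x : V)) = (x : V)
    rw [← LinearMap.comp_apply, hFadd, show (n - 1) + 1 = n by omega, hFn]; rfl
  -- basis of L
  let ι := Module.Free.ChooseBasisIndex R L
  let b : Basis ι R L := Module.Free.chooseBasis R L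
  let v : ι → V := fun i => (b i : V)
  have hliR : LinearIndependent R v := by
    have := b.linearIndependent.map' L.subtype (Submodule.ker_subtype L)
    exact this
  have hliK : LinearIndependent K v := (LinearIndependent.iff_fractionRing R K).mp hliR
  have hspanR : L = Submodule.span R (Set.range v) := by
    have h1 : Submodule.span R (Set.range b) = ⊤ := b.span_eq
    have h2 := congrArg (Submodule.map L.subtype) h1
    rw [Submodule.map_span, Submodule.map_top, Submodule.range_subtype, ← Set.range_comp] at h2
    exact h2.symm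
  have hspK : ⊤ ≤ Submodule.span K (Set.range v) := by
    rw [← (Pi.basisFun K (Fin N)).span_eq]
    refine Submodule.span_le.mpr ?_
    rintro _ ⟨j, rfl⟩
    have h1 : (Pi.single j 1 : V) ∈ Submodule.span R (Set.range v) := hspanR ▸ heL j
    have h2 : Submodule.span R (Set.range v) ≤ (Submodule.span K (Set.range v)).restrictScalars R :=
      Submodule.span_le_restrictScalars R K _
    simpa using h2 h1
  let bK : Basis ι K V := Basis.mk hliK hspK
  have hcard : Fintype.card ι = N := by
    have h1 := Module.finrank_eq_card_basis bK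
    rw [Module.finrank_fin_fun] at h1
    exact h1.symm
  let e : ι ≃ Fin N := Fintype.equivFinOfCardEq hcard
  let b' : Basis (Fin N) R L := b.reindex e
  let bK' : Basis (Fin N) K V := bK.reindex e
  have hbb : ∀ i, bK' i = (b' i : V) := by
    intro i
    simp only [bK', b', Basis.reindex_apply, bK, Basis.mk_apply, v]
  -- coordinates
  have hrepr : ∀ (x : L) (i : Fin N), bK'.repr (x : V) i = algebraMap R K (b'.repr x i) := by
    intro x i
    have h1 : (x : V) = ∑ j, (algebraMap R K (b'.repr x j)) • bK' j := by
      conv_lhs => rw [← b'.sum_repr x]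
      rw [Submodule.coe_sum]
      refine Finset.sum_congr rfl fun j _ => ?_
      rw [Submodule.coe_smul, hbb, algebraMap_smul]
    conv_lhs => rw [h1]
    rw [Basis.repr_sum_self]
  -- matrices over R
  let A : Matrix (Fin N) (Fin N) R := LinearMap.toMatrix b' b' fL
  let A' : Matrix (Fin N) (Fin N) R := LinearMap.toMatrix b' b' fL'
  have hAA' : A * A' = 1 := by
    simp only [A, A']
    rw [← LinearMap.toMatrix_comp, hcomp1, LinearMap.toMatrix_id]
  have hA'A : A' * A = 1 := by
    simp only [A, A']
    rw [← LinearMap.toMatrix_comp, hcomp2, LinearMap.toMatrix_id]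
  let g' : GL (Fin N) R := ⟨A, A', hAA', hA'A⟩
  -- matrix over K in the basis bK'
  have hmat : (algebraMap R K).mapMatrix A = LinearMap.toMatrix bK' bK' (F 1) := by
    ext i j
    simp only [RingHom.mapMatrix_apply, Matrix.map_apply, A, LinearMap.toMatrix_apply]
    rw [hbb j]
    exact (hrepr (fL (b' j)) i).symm
  -- change of basis
  let std := Pi.basisFun K (Fin N)
  let Pm : Matrix (Fin N) (Fin N) K := bK'.toMatrix std
  let Pm' : Matrix (Fin N) (Fin N) K := std.toMatrix bK'
  have hPP' : Pm * Pm' = 1 := Basis.toMatrix_mul_toMatrix_flip bK' std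
  have hP'P : Pm' * Pm = 1 := Basis.toMatrix_mul_toMatrix_flip std bK'
  let h : GL (Fin N) K := ⟨Pm, Pm', hPP', hP'P⟩
  have hconj : Pm * (g : Matrix (Fin N) (Fin N) K) * Pm' = LinearMap.toMatrix bK' bK' (F 1) := by
    have hF1 : F 1 = Matrix.toLin' (g : Matrix (Fin N) (Fin N) K) := by
      simp only [F]; rw [pow_one]
    rw [hF1]
    have := basis_toMatrix_mul_linearMap_toMatrix_mul_basis_toMatrix bK' std bK' std
      (Matrix.toLin' (g : Matrix (Fin N) (Fin N) K))
    rw [LinearMap.toMatrix_eq_toMatrix', LinearMap.toMatrix'_toLin'] at this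
    exact this
  refine ⟨h, g', ?_⟩
  apply Units.ext
  rw [Units.val_mul, Units.val_mul]
  show Pm * (g : Matrix (Fin N) (Fin N) K) * Pm' = _
  rw [hconj, ← hmat]
  ext i j
  simp [Matrix.GeneralLinearGroup.map_apply, g']

theorem main (N : ℕ) (g : GL (Fin N) K) (hg : IsOfFinOrder g) :
    ∃ (R' : Type u) (_ : CommRing R') (_ : IsDomain R') (_ : IsDiscreteValuationRing R')
      (K' : Type u) (_ : Field K') (_ : Algebra R' K') (_ : IsFractionRing R' K')
      (_ : Algebra R R') (_ : Algebra K K') (_ : Algebra R K')
      (_ : IsScalarTower R R' K') (_ : IsScalarTower R K K')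
      (_ : Module.Finite K K') (_ : IsLocalHom (algebraMap R R'))
      (h : GL (Fin N) K') (g' : GL (Fin N) R'),
      h * Matrix.GeneralLinearGroup.map (algebraMap K K') g * h⁻¹ =
        Matrix.GeneralLinearGroup.map (algebraMap R' K') g' := by
  obtain ⟨h, g', hh⟩ := conj_into_GLR R K N g hg
  refine ⟨R, inferInstance, inferInstance, inferInstance, K, inferInstance, inferInstance,
    inferInstance, Algebra.id R, Algebra.id K, inferInstance, inferInstance, inferInstance,
    inferInstance, ?_, h, g', ?_⟩
  · exact ⟨fun a ha => ha⟩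
  · rw [← hh]
    congr 2

end Groth.Agent.H9.FinOrdGL
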