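import Mathlib

/-! Helper9: a Fisher-type inequality for families of curves meeting pairwise in h points -/

namespace Groth.Agent.H9.Fisher

open Finset

theorem main (P : Type*) (ι : Type*) [Fintype ι]
    (inc : P → ι → Prop) (h : ℕ) (hh : 0 < h) (hd : 2 ≤ Fintype.card ι)
    (hfin : ∀ i j : ι, i ≠ j → {p : P | inc p i ∧ inc p j}.Finite)
    (hcount : ∀ i j : ι, i ≠ j → {p : P | inc p i ∧ inc p j}.ncard = h)
    (hnone : ∀ p : P, ∃ i : ι, ¬ inc p i) :
    Fintype.card ι ≤ Nat.card {p : P // 2 ≤ Nat.card {j : ι // inc p j}} := by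
  classical
  set M : Set P := {p | 2 ≤ Nat.card {j : ι // inc p j}} with hM
  have hcard2 : ∀ p : P, 2 ≤ Nat.card {j : ι // inc p j} ↔ ∃ i j, i ≠ j ∧ inc p i ∧ inc p j := by
    intro p
    rw [Nat.card_eq_fintype_card, Fintype.card_subtype]
    constructor
    · intro h2
      obtain ⟨a, ha, b, hb, hab⟩ := Finset.one_lt_card.1 (lt_of_lt_of_le one_lt_two h2)
      exact ⟨a, b, hab, (Finset.mem_filter.1 ha).2, (Finset.mem_filter.1 hb).2⟩
    · rintro ⟨i, j, hij, hi, hj⟩
      have : ({i, j} : Finset ι) ⊆ univ.filter (inc p) := by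
        intro x hx
        rcases Finset.mem_insert.1 hx with rfl | hx
        · simp [hi]
        · rw [Finset.mem_singleton.1 hx]; simp [hj]
      calc 2 = ({i, j} : Finset ι).card := (Finset.card_pair hij).symm
        _ ≤ _ := Finset.card_le_card this
  have hsub : ∀ i j, i ≠ j → {p : P | inc p i ∧ inc p j} ⊆ M := by
    intro i j hij p hp
    exact (hcard2 p).2 ⟨i, j, hij, hp.1, hp.2⟩
  have hMfin : M.Finite := by
    refine Set.Finite.subset (Set.finite_iUnion
      fun (ij : {ij : ι × ι // ij.1 ≠ ij.2}) => hfin ij.1.1 ij.1.2 ij.2) ?_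
    intro p hp
    obtain ⟨i, j, hij, hi, hj⟩ := (hcard2 p).1 hp
    exact Set.mem_iUnion.2 ⟨⟨(i, j), hij⟩, hi, hj⟩
  set Q : Finset P := hMfin.toFinset with hQ
  have hQmem : ∀ p, p ∈ Q ↔ p ∈ M := fun p => Set.Finite.mem_toFinset hMfin
  have hNat : Nat.card {p : P // 2 ≤ Nat.card {j : ι // inc p j}} = Q.card := by
    change Nat.card ↥M = Q.card
    rw [Nat.card_coe_set_eq, Set.ncard_eq_toFinset_card M hMfin]
  rw [hNat]
  -- incidence numbers
  let N : P → ι → ℚ := fun p i => if inc p i then 1 else 0
  let r : ι → ℕ := fun i => (Q.filter (fun p => inc p i)).card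
  have hpair : ∀ i j (hij : i ≠ j), Q.filter (fun p => inc p i ∧ inc p j) = (hfin i j hij).toFinset := by
    intro i j hij
    ext p
    simp only [Finset.mem_filter, Set.Finite.mem_toFinset, Set.mem_ofPred_eq, hQmem]
    constructor
    · rintro ⟨-, hp⟩; exact hp
    · intro hp; exact ⟨hsub i j hij hp, hp⟩
  have hpaircard : ∀ i j, i ≠ j → (Q.filter (fun p => inc p i ∧ inc p j)).card = h := by
    intro i j hij
    rw [hpair i j hij, ← Set.ncard_eq_toFinset_card _ (hfin i j hij)]
    exact hcount i j hij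
  have hr : ∀ i, h + 1 ≤ r i := by
    intro i
    obtain ⟨j, hij⟩ : ∃ j, j ≠ i := by
      by_contra hcon
      push Not at hcon
      have : Fintype.card ι ≤ 1 := Fintype.card_le_one_iff.2 (fun a b => by rw [hcon a, hcon b])
      omega
    have hle : ∀ k, k ≠ i → Q.filter (fun p => inc p i ∧ inc p k) ⊆ Q.filter (fun p => inc p i) := by
      intro k _ p hp
      rw [Finset.mem_filter] at hp ⊢
      exact ⟨hp.1, hp.2.1⟩
    by_contra hlt
    push Not at hlt
    have hhr : ∀ k, k ≠ i → Q.filter (fun p => inc p i ∧ inc p k) = Q.filter (fun p => inc p i) := by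
      intro k hk
      apply Finset.eq_of_subset_of_card_le (hle k hk)
      rw [hpaircard i k (Ne.symm hk)]
      change r i ≤ h
      omega
    have hne : (Q.filter (fun p => inc p i)).Nonempty := by
      rw [← hhr j hij, ← Finset.card_pos, hpaircard i j (Ne.symm hij)]
      exact hh
    obtain ⟨p, hp⟩ := hne
    obtain ⟨k, hk⟩ := hnone p
    by_cases hki : k = i
    · subst hki
      exact hk (Finset.mem_filter.1 hp).2
    · rw [← hhr k hki] at hp
      exact hk (Finset.mem_filter.1 hp).2.2
  -- linear independence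
  let v : ι → (↥Q → ℚ) := fun i p => N p.1 i
  have hli : LinearIndependent ℚ v := by
    rw [Fintype.linearIndependent_iff]
    intro g hg
    have hg' : ∀ p ∈ Q, ∑ i, g i * N p i = 0 := by
      intro p hp
      have := congrFun hg ⟨p, hp⟩
      simpa [v, Finset.sum_apply] using this
    have hNN : ∀ i j, ∑ p ∈ Q, N p i * N p j = if i = j then (r i : ℚ) else (h : ℚ) := by
      intro i j
      have h1 : ∀ p, N p i * N p j = if inc p i ∧ inc p j then (1 : ℚ) else 0 := by
        intro p
        simp only [N]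
        by_cases h1 : inc p i <;> by_cases h2 : inc p j <;> simp [h1, h2]
      simp_rw [h1]
      rw [Finset.sum_ite, Finset.sum_const_zero, add_zero, Finset.sum_const, nsmul_eq_mul, mul_one]
      split_ifs with hij
      · subst hij
        simp only [and_self]
        rfl
      · rw [hpaircard i j hij]
    have hsq : ∑ p ∈ Q, (∑ i, g i * N p i) ^ 2 =
        (h : ℚ) * (∑ i, g i) ^ 2 + ∑ i, g i ^ 2 * ((r i : ℚ) - h) := by
      have e1 : ∀ p, (∑ i, g i * N p i) ^ 2 = ∑ i, ∑ j, g i * g j * (N p i * N p j) := by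
        intro p
        rw [sq, Finset.sum_mul_sum]
        refine Finset.sum_congr rfl (fun i _ => Finset.sum_congr rfl (fun j _ => by ring))
      simp_rw [e1]
      rw [Finset.sum_comm]
      have e2 : ∀ i, ∑ p ∈ Q, ∑ j, g i * g j * (N p i * N p j) =
          ∑ j, g i * g j * (if i = j then (r i : ℚ) else (h : ℚ)) := by
        intro i
        rw [Finset.sum_comm]
        refine Finset.sum_congr rfl (fun j _ => ?_)
        rw [← Finset.mul_sum, hNN]
      simp_rw [e2]
      have e3 : ∀ i, ∑ j, g i * g j * (if i = j then (r i : ℚ) else (h : ℚ)) =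
          (h : ℚ) * g i * (∑ j, g j) + g i ^ 2 * ((r i : ℚ) - h) := by
        intro i
        have : ∀ j, g i * g j * (if i = j then (r i : ℚ) else (h : ℚ)) =
            (h : ℚ) * g i * g j + (if i = j then g i * g j * ((r i : ℚ) - h) else 0) := by
          intro j
          split_ifs <;> ring
        simp_rw [this]
        rw [Finset.sum_add_distrib, ← Finset.mul_sum, Finset.sum_ite_eq]
        simp only [Finset.mem_univ, if_true]
        ring
      simp_rw [e3]
      rw [Finset.sum_add_distrib]
      congr 1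
      rw [← Finset.sum_mul, ← Finset.mul_sum]
      ring
    have hzero : ∑ p ∈ Q, (∑ i, g i * N p i) ^ 2 = 0 := by
      apply Finset.sum_eq_zero
      intro p hp
      rw [hg' p hp]
      ring
    rw [hzero] at hsq
    have hpos : ∀ i, 0 ≤ g i ^ 2 * ((r i : ℚ) - h) := by
      intro i
      have : (h : ℚ) + 1 ≤ r i := by exact_mod_cast hr i
      exact mul_nonneg (sq_nonneg _) (by linarith)
    have hA : 0 ≤ (h : ℚ) * (∑ i, g i) ^ 2 := mul_nonneg (by positivity) (sq_nonneg _)
    have hB : ∑ i, g i ^ 2 * ((r i : ℚ) - h) = 0 := by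
      have := Finset.sum_nonneg (fun i (_ : i ∈ Finset.univ) => hpos i)
      linarith
    intro i
    have := (Finset.sum_eq_zero_iff_of_nonneg (fun i _ => hpos i)).1 hB i (Finset.mem_univ i)
    have hri : (h : ℚ) + 1 ≤ r i := by exact_mod_cast hr i
    rcases mul_eq_zero.1 this with h0 | h0
    · exact pow_eq_zero_iff (two_ne_zero) |>.1 h0
    · linarith
  have := hli.fintype_card_le_finrank
  simpa using this

end Groth.Agent.H9.Fisher
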