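import Mathlib

set_option autoImplicit false
universe u
open CategoryTheory CategoryTheory.Limits AlgebraicGeometry TopologicalSpace Opposite

namespace Groth.Agent.H9.FlatCompl

theorem isLocalization_away_of_isFractionRing (A : Type u) [CommRing A] [IsDomain A]
    [IsDiscreteValuationRing A] (K : Type u) [CommRing K] [Algebra A K] [IsFractionRing A K]
    (ϖ : A) (hϖ : Irreducible ϖ) : IsLocalization.Away ϖ K := by
  haveI : IsLocalization (nonZeroDivisors A) (Localization.Away ϖ) := by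
    refine IsLocalization.of_le_of_exists_dvd (Submonoid.powers ϖ) (nonZeroDivisors A) ?_ ?_
    · exact Submonoid.powers_le.mpr (mem_nonZeroDivisors_of_ne_zero hϖ.ne_zero)
    · intro n hn
      obtain ⟨k, hk⟩ := IsDiscreteValuationRing.associated_pow_irreducible
        (nonZeroDivisors.ne_zero hn) hϖ
      exact ⟨ϖ ^ k, ⟨k, rfl⟩, hk.dvd⟩
  exact IsLocalization.isLocalization_of_algEquiv (Submonoid.powers ϖ)
    (IsLocalization.algEquiv (nonZeroDivisors A) (Localization.Away ϖ) K)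

theorem isFractionRing_residueField (A : Type u) [CommRing A] [IsDomain A] (I : Ideal A)
    [I.IsPrime] (hI : I = ⊥) : IsFractionRing A I.ResidueField := by
  subst hI; infer_instance

theorem isOpenImmersion_fromSpecResidueField (A : Type u) [CommRing A] [IsDomain A]
    [IsDiscreteValuationRing A] (η : ↥(Spec (CommRingCat.of A))) (hη : η.asIdeal = ⊥) :
    IsOpenImmersion ((Spec (CommRingCat.of A)).fromSpecResidueField η) := by
  obtain ⟨ϖ, hϖ⟩ := IsDiscreteValuationRing.exists_irreducible A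
  haveI : IsFractionRing A η.asIdeal.ResidueField :=
    isFractionRing_residueField A η.asIdeal hη
  haveI : IsLocalization.Away ϖ η.asIdeal.ResidueField :=
    isLocalization_away_of_isFractionRing A _ ϖ hϖ
  haveI : IsOpenImmersion (Spec.map (CommRingCat.ofHom (algebraMap A η.asIdeal.ResidueField))) :=
    IsOpenImmersion.of_isLocalization ϖ
  rw [← Scheme.Spec.map_residueFieldIso_inv_eq_fromSpecResidueField (CommRingCat.of A) η]
  infer_instance

theorem isUnit_appLE_of_forall_eq (A : Type u) [CommRing A] {T : Scheme.{u}}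
    (h : T ⟶ Spec (CommRingCat.of A)) (η : ↥(Spec (CommRingCat.of A)))
    (hh : ∀ x : T, h x = η) (a : A) (ha : a ∉ η.asIdeal) (V : T.Opens) :
    IsUnit (h.appLE ⊤ V le_top ((Scheme.ΓSpecIso (CommRingCat.of A)).inv a)) := by
  apply T.toRingedSpace.isUnit_of_isUnit_germ
  intro x hx
  apply (T.mem_basicOpen _ x hx).mp
  rw [Scheme.basicOpen_appLE, basicOpen_eq_of_affine]
  refine ⟨hx, ?_⟩
  show h x ∈ PrimeSpectrum.basicOpen a
  rw [hh x]
  exact ha

theorem part1 (A : Type u) [CommRing A] [IsDomain A]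
    [IsDiscreteValuationRing A] {X : Scheme.{u}} (f : X ⟶ Spec (CommRingCat.of A))
    (η : ↥(Spec (CommRingCat.of A))) (hη : η.asIdeal = ⊥) :
    Flat ((f.fiberι η).imageι ≫ f) := by
  haveI : QuasiCompact (f.fiberι η) :=
    MorphismProperty.pullback_fst (P := @QuasiCompact) _ _ inferInstance
  obtain ⟨j, hj⟩ : ∃ j : f.fiber η ⟶ X, j = f.fiberι η := ⟨_, rfl⟩
  rw [← hj]
  haveI : QuasiCompact j := by rw [hj]; infer_instance
  have hcov : ⨆ U : X.affineOpens, (j.imageι ⁻¹ᵁ U.1) = ⊤ := by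
    rw [eq_top_iff]; intro z _
    obtain ⟨_, ⟨V, hV, rfl⟩, hzV, -⟩ := X.isBasis_affineOpens.exists_subset_of_mem_open
      (Set.mem_univ (j.imageι z)) isOpen_univ
    exact Opens.mem_iSup.mpr ⟨⟨V, hV⟩, hzV⟩
  refine HasRingHomProperty.of_iSup_eq_top (P := @Flat)
    (fun U : X.affineOpens => ⟨j.imageι ⁻¹ᵁ U.1, U.2.preimage j.imageι⟩) hcov ?_
  intro U
  obtain ⟨W, hW⟩ : ∃ W : j.image.Opens, W = j.imageι ⁻¹ᵁ U.1 := ⟨_, rfl⟩
  show ((j.imageι ≫ f).appLE ⊤ (j.imageι ⁻¹ᵁ U.1) le_top).hom.Flat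
  rw [← hW]
  obtain ⟨ψ, hψ⟩ : ∃ ψ : CommRingCat.of A ⟶ Γ(j.image, W),
    ψ = (Scheme.ΓSpecIso (CommRingCat.of A)).inv ≫ (j.imageι ≫ f).appLE ⊤ W le_top := ⟨_, rfl⟩
  suffices hfl : ψ.hom.Flat by
    rw [hψ] at hfl
    exact (RingHom.Flat.respectsIso.cancel_left_isIso
      (Scheme.ΓSpecIso (CommRingCat.of A)).inv _).mp hfl
  letI := ψ.hom.toAlgebra
  show Module.Flat A Γ(j.image, W)
  rw [Module.Flat.flat_iff_torsion_eq_bot_of_isBezout, eq_bot_iff]
  intro c hc
  obtain ⟨⟨a, ha⟩, hac⟩ := (Submodule.mem_torsion_iff c).mp hc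
  have ha0 : a ≠ 0 := nonZeroDivisors.ne_zero ha
  have h1 : ψ.hom a * c = 0 := by
    have h1' : a • c = 0 := hac
    rwa [Algebra.smul_def] at h1'
  have hinj : Function.Injective (j.toImage.app W).hom := by
    rw [hW]; exact j.toImage_app_injective U
  rw [Submodule.mem_bot]
  apply hinj
  rw [map_zero]
  have h2 := congrArg (j.toImage.app W).hom h1
  rw [map_mul, map_zero] at h2
  have hu : IsUnit ((j.toImage.app W).hom (ψ.hom a)) := by
    have hcomp : (j.toImage.app W).hom (ψ.hom a) =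
        (j.toImage ≫ j.imageι ≫ f).appLE ⊤ (j.toImage ⁻¹ᵁ W) le_top
          ((Scheme.ΓSpecIso (CommRingCat.of A)).inv a) := by
      have e1 : (j.toImage ≫ j.imageι ≫ f).appLE ⊤ (j.toImage ⁻¹ᵁ W) le_top =
          (j.imageι ≫ f).appLE ⊤ W le_top ≫ j.toImage.app W := by
        rw [Scheme.Hom.app_eq_appLE, Scheme.Hom.appLE_comp_appLE]
      rw [e1, hψ]; rfl
    rw [hcomp]
    apply isUnit_appLE_of_forall_eq A (j.toImage ≫ j.imageι ≫ f) η ?_ a ?_ _
    · intro x
      have hx1 : (j.toImage ≫ j.imageι ≫ f) x = f (j x) := by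
        rw [← Category.assoc, j.toImage_imageι]; rfl
      rw [hx1]
      have hx2 : j x ∈ f ⁻¹' {η} := by
        rw [← Scheme.Hom.range_fiberι, ← hj]; exact ⟨x, rfl⟩
      exact hx2
    · rw [hη]; exact ha0
  exact (hu.mul_right_eq_zero).mp h2

theorem part2 (A : Type u) [CommRing A] [IsDomain A]
    [IsDiscreteValuationRing A] {X : Scheme.{u}} (f : X ⟶ Spec (CommRingCat.of A))
    (η : ↥(Spec (CommRingCat.of A))) (hη : η.asIdeal = ⊥)
    (Z : Scheme.{u}) (i : Z ⟶ X) [IsClosedImmersion i] [Flat (i ≫ f)] :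
    (f.fiberι η).ker ≤ i.ker := by
  haveI := isOpenImmersion_fromSpecResidueField A η hη
  haveI : IsOpenImmersion (f.fiberι η) :=
    MorphismProperty.pullback_fst (P := @IsOpenImmersion) _ _ inferInstance
  haveI : QuasiCompact (f.fiberι η) :=
    MorphismProperty.pullback_fst (P := @QuasiCompact) _ _ inferInstance
  obtain ⟨ϖ, hϖ⟩ := IsDiscreteValuationRing.exists_irreducible A
  rw [Scheme.IdealSheafData.le_def]
  intro U s hs
  rw [Scheme.Hom.ker_apply, RingHom.mem_ker] at hs ⊢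
  obtain ⟨j, hj⟩ : ∃ j : f.fiber η ⟶ X, j = f.fiberι η := ⟨_, rfl⟩
  rw [← hj] at hs
  haveI : IsOpenImmersion j := by rw [hj]; infer_instance
  obtain ⟨φ, hφ⟩ : ∃ φ : CommRingCat.of A ⟶ Γ(X, U.1),
    φ = (Scheme.ΓSpecIso (CommRingCat.of A)).inv ≫ f.appLE ⊤ U.1 le_top := ⟨_, rfl⟩
  have he : ∀ a : A, φ.hom a =
      f.appLE ⊤ U.1 le_top ((Scheme.ΓSpecIso (CommRingCat.of A)).inv a) := by
    intro a; rw [hφ]; rfl
  have hD : X.basicOpen (φ.hom ϖ) ≤ j.opensRange := by
    intro x hx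
    rw [he, Scheme.basicOpen_appLE, basicOpen_eq_of_affine] at hx
    have h1 : ϖ ∉ (f x).asIdeal := hx.2
    have hfx : f x = η := by
      apply PrimeSpectrum.ext
      rw [hη]
      by_contra hne
      have hmax : (f x).asIdeal.IsMaximal := (f x).isPrime.isMaximal hne
      have h3 : (f x).asIdeal = IsLocalRing.maximalIdeal A := IsLocalRing.eq_maximalIdeal hmax
      rw [h3, (IsDiscreteValuationRing.irreducible_iff_uniformizer ϖ).mp hϖ] at h1
      exact h1 (Ideal.mem_span_singleton_self ϖ)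
    show x ∈ Set.range j
    rw [hj, Scheme.Hom.range_fiberι]
    exact hfx
  have hres : (X.presheaf.map (homOfLE (X.basicOpen_le (φ.hom ϖ))).op).hom s = 0 := by
    haveI := Scheme.Hom.isIso_app j (X.basicOpen (φ.hom ϖ)) hD
    have hinj : Function.Injective (j.app (X.basicOpen (φ.hom ϖ))).hom :=
      ((ConcreteCategory.isIso_iff_bijective _).mp this).1
    apply hinj
    rw [map_zero]
    have nat := j.naturality (homOfLE (X.basicOpen_le (φ.hom ϖ))).op
    have h4 := congrArg (fun ρ => ρ.hom s) nat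
    simp only [CommRingCat.hom_comp, RingHom.comp_apply] at h4
    rw [h4, hs, map_zero]
  obtain ⟨n, hn⟩ := exists_pow_mul_eq_zero_of_res_basicOpen_eq_zero_of_isAffineOpen X U.2 s
    (φ.hom ϖ) hres
  obtain ⟨W, hW⟩ : ∃ W : Z.Opens, W = i ⁻¹ᵁ U.1 := ⟨_, rfl⟩
  have hWa : IsAffineOpen W := by rw [hW]; exact U.2.preimage i
  obtain ⟨ψ, hψ⟩ : ∃ ψ : CommRingCat.of A ⟶ Γ(Z, W),
    ψ = (Scheme.ΓSpecIso (CommRingCat.of A)).inv ≫ (i ≫ f).appLE ⊤ W le_top := ⟨_, rfl⟩
  have hflat : ψ.hom.Flat := by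
    have h1 : ((i ≫ f).appLE ⊤ W le_top).hom.Flat :=
      HasRingHomProperty.appLE (P := @Flat) (i ≫ f) inferInstance ⟨⊤, isAffineOpen_top _⟩
        ⟨W, hWa⟩ le_top
    rw [hψ]
    exact (RingHom.Flat.respectsIso.cancel_left_isIso
      (Scheme.ΓSpecIso (CommRingCat.of A)).inv _).mpr h1
  have hcomp : ∀ a : A, ψ.hom a = (i.appLE U.1 W (by rw [hW])).hom (φ.hom a) := by
    intro a
    have e1 : (i ≫ f).appLE ⊤ W le_top =
        f.appLE ⊤ U.1 le_top ≫ i.appLE U.1 W (by rw [hW]) := by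
      rw [Scheme.Hom.appLE_comp_appLE]
    rw [hψ, hφ, e1]; rfl
  have h0 : ψ.hom (ϖ ^ n) * (i.appLE U.1 W (by rw [hW])).hom s = 0 := by
    rw [hcomp, ← map_mul, map_pow, hn, map_zero]
  have hgoal : (i.appLE U.1 W (by rw [hW])).hom s = 0 := by
    letI := ψ.hom.toAlgebra
    haveI : Module.Flat A Γ(Z, W) := hflat
    have hreg : IsSMulRegular Γ(Z, W) (ϖ ^ n) :=
      Module.Flat.isSMulRegular_of_nonZeroDivisors
        (mem_nonZeroDivisors_of_ne_zero (pow_ne_zero n hϖ.ne_zero))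
    refine hreg ?_
    show ϖ ^ n • _ = ϖ ^ n • (0 : Γ(Z, W))
    rw [smul_zero, Algebra.smul_def]
    exact h0
  subst hW
  rw [Scheme.Hom.app_eq_appLE]
  exact hgoal

theorem main (A : Type u) [CommRing A] [IsDomain A]
    [IsDiscreteValuationRing A] {X : Scheme.{u}} (f : X ⟶ Spec (CommRingCat.of A))
    (η : ↥(Spec (CommRingCat.of A))) (hη : η.asIdeal = ⊥) :
    Flat ((f.fiberι η).imageι ≫ f) ∧
      ∀ (Z : Scheme.{u}) (i : Z ⟶ X), IsClosedImmersion i → Flat (i ≫ f) →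
        (f.fiberι η).ker ≤ i.ker :=
  ⟨part1 A f η hη, fun Z i hi hfl => by
    haveI := hi
    haveI := hfl
    exact part2 A f η hη Z i⟩

end Groth.Agent.H9.FlatCompl
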