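import Mathlib

/-! Helper9: kernel of flat surjection is flat; cycles of bounded above flat complex -/

namespace Groth.Agent.H9.FlatCyc

open CategoryTheory CategoryTheory.Limits

universe u

theorem flat_ker {R : Type*} [CommRing R] {E Q : Type*} [AddCommGroup E] [AddCommGroup Q]
    [Module R E] [Module R Q] [Module.Flat R E] [Module.Flat R Q]
    (f : E →ₗ[R] Q) (hf : Function.Surjective f) : Module.Flat R (LinearMap.ker f) := by
  rw [Module.Flat.iff_rTensor_injective']
  intro I
  have h1 : Function.Injective ((LinearMap.ker f).subtype.lTensor I) :=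
    LinearMap.lTensor_injective_of_exact_of_flat f hf _ (LinearMap.ker f).subtype_injective
      (LinearMap.exact_subtype_ker_map f) I
  have h2 : Function.Injective (I.subtype.rTensor E) :=
    Module.Flat.rTensor_preserves_injective_linearMap _ I.subtype_injective
  have hcomp : ((LinearMap.ker f).subtype.lTensor R) ∘ₗ (I.subtype.rTensor (LinearMap.ker f)) =
      (I.subtype.rTensor E) ∘ₗ ((LinearMap.ker f).subtype.lTensor I) := by
    apply TensorProduct.ext'
    intro x y
    simp
  have : Function.Injective (((LinearMap.ker f).subtype.lTensor R) ∘ₗ (I.subtype.rTensor (LinearMap.ker f))) := by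
    rw [hcomp]; exact h2.comp h1
  exact Function.Injective.of_comp this

theorem main (A : Type u) [CommRing A]
    (F : CochainComplex (ModuleCat.{u} A) ℤ) (hF : ∀ i, Module.Flat A (F.X i))
    (hb : ∃ b : ℤ, ∀ i, b < i → IsZero (F.X i)) (d : ℤ) (hac : ∀ p, d < p → IsZero (F.homology p)) :
    Module.Flat A (F.cycles d) := by
  obtain ⟨b, hb⟩ := hb
  -- the claim for kernels
  have key : ∀ k : ℕ, ∀ i : ℤ, d ≤ i → b + 1 ≤ i + k →
      Module.Flat A (LinearMap.ker (F.d i (i + 1)).hom) := by
    intro k
    induction k with
    | zero =>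
      intro i _ hi
      have hz : IsZero (F.X i) := hb i (by omega)
      have := ModuleCat.subsingleton_of_isZero hz
      infer_instance
    | succ k ih =>
      intro i hdi hi
      have hflat : Module.Flat A (LinearMap.ker (F.d (i + 1) (i + 1 + 1)).hom) :=
        ih (i + 1) (by omega) (by omega)
      -- corestriction
      have hzero : ∀ x : F.X i, (F.d i (i + 1)).hom x ∈ LinearMap.ker (F.d (i + 1) (i + 1 + 1)).hom := by
        intro x
        rw [LinearMap.mem_ker]
        have := F.d_comp_d i (i + 1) (i + 1 + 1)
        have h2 : (F.d i (i + 1) ≫ F.d (i + 1) (i + 1 + 1)).hom x = 0 := by rw [this]; rfl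
        exact h2
      let δ : F.X i →ₗ[A] LinearMap.ker (F.d (i + 1) (i + 1 + 1)).hom :=
        (F.d i (i + 1)).hom.codRestrict _ hzero
      have hsurj : Function.Surjective δ := by
        have hex : F.ExactAt (i + 1) := by
          rw [HomologicalComplex.exactAt_iff_isZero_homology]
          exact hac (i + 1) (by omega)
        rw [HomologicalComplex.exactAt_iff' F i (i + 1) (i + 1 + 1) (by simp) (by simp),
          ShortComplex.moduleCat_exact_iff] at hex
        rintro ⟨x, hx⟩
        obtain ⟨y, hy⟩ := hex x hx
        exact ⟨y, Subtype.ext hy⟩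
      have hk : LinearMap.ker δ = LinearMap.ker (F.d i (i + 1)).hom := LinearMap.ker_codRestrict _ _ _
      have := flat_ker δ hsurj
      rw [hk] at this
      exact this
  have hd : Module.Flat A (LinearMap.ker (F.d d (d + 1)).hom) :=
    key (b + 1 - d).toNat d le_rfl (by omega)
  have hgen : ∀ j : ℤ, j = d + 1 → Module.Flat A (LinearMap.ker (F.d d j).hom) := by
    rintro j rfl; exact hd
  have hnext : Module.Flat A (LinearMap.ker (F.sc d).g.hom) :=
    hgen _ (by simp)
  have : Module.Flat A ↑(F.sc d).moduleCatLeftHomologyData.K := hnext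
  exact Module.Flat.of_linearEquiv ((F.sc d).moduleCatCyclesIso.toLinearEquiv)

end Groth.Agent.H9.FlatCyc
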