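import Mathlib

/-! Helper9: formally projective modules for adic topologies -/

namespace Groth.Agent.H9.FormProj

universe u

theorem main {A : Type u} [CommRing A] (𝔞 : Ideal A) (M : Type u)
    [AddCommGroup M] [Module A M] :
    (∀ (n : ℕ) (P Q : Type u) [AddCommGroup P] [Module A P] [AddCommGroup Q] [Module A Q],
      (∀ a ∈ 𝔞 ^ n, ∀ y : P, a • y = 0) → (∀ a ∈ 𝔞 ^ n, ∀ y : Q, a • y = 0) →
      ∀ f : P →ₗ[A] Q, Function.Surjective f → ∀ v : M →ₗ[A] Q, ∃ w : M →ₗ[A] P, f ∘ₗ w = v) ↔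
    ∀ n : ℕ, Module.Projective (A ⧸ 𝔞 ^ n) (M ⧸ (𝔞 ^ n • ⊤ : Submodule A M)) := by
  constructor
  · intro H n
    have hsurj : Function.Surjective (algebraMap A (A ⧸ 𝔞 ^ n)) := Ideal.Quotient.mk_surjective
    apply Module.Projective.of_lifting_property
    intro M' N' _ _ _ _ f g hf
    let _ : Module A M' := Module.compHom M' (Ideal.Quotient.mk (𝔞 ^ n))
    let _ : Module A N' := Module.compHom N' (Ideal.Quotient.mk (𝔞 ^ n))
    have : IsScalarTower A (A ⧸ 𝔞 ^ n) M' := ⟨fun a r y => by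
      show (a • r) • y = (Ideal.Quotient.mk (𝔞 ^ n) a) • (r • y)
      rw [Algebra.smul_def, mul_smul]; rfl⟩
    have : IsScalarTower A (A ⧸ 𝔞 ^ n) N' := ⟨fun a r y => by
      show (a • r) • y = (Ideal.Quotient.mk (𝔞 ^ n) a) • (r • y)
      rw [Algebra.smul_def, mul_smul]; rfl⟩
    have hkM : ∀ a ∈ 𝔞 ^ n, ∀ y : M', a • y = 0 := by
      intro a ha y
      show (Ideal.Quotient.mk (𝔞 ^ n) a) • y = 0
      rw [Ideal.Quotient.eq_zero_iff_mem.mpr ha, zero_smul]
    have hkN : ∀ a ∈ 𝔞 ^ n, ∀ y : N', a • y = 0 := by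
      intro a ha y
      show (Ideal.Quotient.mk (𝔞 ^ n) a) • y = 0
      rw [Ideal.Quotient.eq_zero_iff_mem.mpr ha, zero_smul]
    obtain ⟨w, hw⟩ := H n M' N' hkM hkN (f.restrictScalars A) hf
      ((g.restrictScalars A) ∘ₗ (𝔞 ^ n • ⊤ : Submodule A M).mkQ)
    have hle : (𝔞 ^ n • ⊤ : Submodule A M) ≤ LinearMap.ker w := by
      rw [Submodule.smul_le]
      intro a ha m _
      rw [LinearMap.mem_ker, map_smul, hkM a ha]
    let wbar : (M ⧸ (𝔞 ^ n • ⊤ : Submodule A M)) →ₗ[A] M' := (𝔞 ^ n • ⊤ : Submodule A M).liftQ w hle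
    refine ⟨wbar.extendScalarsOfSurjective hsurj, ?_⟩
    apply LinearMap.ext
    intro x
    obtain ⟨m, rfl⟩ := Submodule.Quotient.mk_surjective _ x
    have := congrArg (fun l => l m) hw
    exact this
  · intro H n P Q _ _ _ _ hP hQ f hf v
    have hsurj : Function.Surjective (algebraMap A (A ⧸ 𝔞 ^ n)) := Ideal.Quotient.mk_surjective
    have hP' : Module.IsTorsionBySet A P (𝔞 ^ n : Ideal A) := fun x a => hP a.1 a.2 x
    have hQ' : Module.IsTorsionBySet A Q (𝔞 ^ n : Ideal A) := fun x a => hQ a.1 a.2 x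
    let _ := hP'.module
    let _ := hQ'.module
    have := H n
    have hle : (𝔞 ^ n • ⊤ : Submodule A M) ≤ LinearMap.ker v := by
      rw [Submodule.smul_le]
      intro a ha m _
      rw [LinearMap.mem_ker, map_smul, hQ a ha]
    let vbar : (M ⧸ (𝔞 ^ n • ⊤ : Submodule A M)) →ₗ[A] Q := (𝔞 ^ n • ⊤ : Submodule A M).liftQ v hle
    obtain ⟨h, hh⟩ := Module.projective_lifting_property (f.extendScalarsOfSurjective hsurj)
      (vbar.extendScalarsOfSurjective hsurj) hf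
    refine ⟨(h.restrictScalars A) ∘ₗ (𝔞 ^ n • ⊤ : Submodule A M).mkQ, ?_⟩
    apply LinearMap.ext
    intro m
    have := congrArg (fun l => l (Submodule.Quotient.mk m)) hh
    exact this

end Groth.Agent.H9.FormProj
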