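import Mathlib

/-! Helper9: affine opens that are images of affine opens under fppf maps -/

namespace Groth.Agent.H9.FppfAff

open AlgebraicGeometry CategoryTheory TopologicalSpace

universe u

theorem main {X Y : Scheme.{u}} (f : Y ⟶ X) [Flat f] [Surjective f] [LocallyOfFinitePresentation f]
    (U : X.affineOpens) (x : X) (hx : x ∈ (U : X.Opens)) :
    ∃ V : X.affineOpens, x ∈ (V : X.Opens) ∧ (V : X.Opens) ≤ (U : X.Opens) ∧
      ∃ W : Y.affineOpens, f.base '' ((W : Y.Opens) : Set Y) = ((V : X.Opens) : Set X) := by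
  obtain ⟨y, rfl⟩ := f.surjective x
  obtain ⟨W₀, hW₀, hyW₀, hW₀U⟩ :=
    exists_isAffineOpen_mem_and_subset (x := y) (U := f ⁻¹ᵁ U.1) hx
  have hopen : IsOpen (f.base '' (W₀ : Set Y)) := f.isOpenMap _ W₀.isOpen
  let O : X.Opens := ⟨_, hopen⟩
  have hyO : f.base y ∈ O := ⟨y, hyW₀, rfl⟩
  obtain ⟨s, hsO, hxs⟩ := U.2.exists_basicOpen_le (V := O) ⟨f.base y, hyO⟩ hx
  refine ⟨⟨X.basicOpen s, U.2.basicOpen s⟩, hxs, X.basicOpen_le s, ?_⟩
  have hle : W₀ ≤ f ⁻¹ᵁ U.1 := hW₀U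
  refine ⟨⟨Y.basicOpen (f.appLE U.1 W₀ hle s), hW₀.basicOpen _⟩, ?_⟩
  change f.base '' ((Y.basicOpen (f.appLE U.1 W₀ hle s) : Y.Opens) : Set Y) = _
  rw [Scheme.basicOpen_appLE]
  apply Set.Subset.antisymm
  · rintro _ ⟨z, ⟨-, hz⟩, rfl⟩
    exact hz
  · intro w hw
    obtain ⟨z, hz, rfl⟩ := hsO hw
    exact ⟨z, ⟨hz, hw⟩, rfl⟩

end Groth.Agent.H9.FppfAff
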