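import Mathlib

/-! Helper9: topology from a right calculus of fractions of monomorphisms; sheaves = local presheaves -/

namespace Groth.Agent.H9.FracTop

open CategoryTheory Opposite

universe w v u

variable {C : Type u} [Category.{v} C]

theorem exists_top (S : MorphismProperty C) [S.HasRightCalculusOfFractions] :
    ∃ J : GrothendieckTopology C, ∀ (X : C) (T : Sieve X),
        T ∈ J X ↔ ∃ (Y : C) (s : Y ⟶ X), S s ∧ T s := by
  refine ⟨{ sieves := fun X => {T | ∃ (Y : C) (s : Y ⟶ X), S s ∧ T s}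
            top_mem' := fun X => ⟨X, 𝟙 X, S.id_mem X, trivial⟩
            pullback_stable' := ?_
            transitive' := ?_ }, fun X T => Iff.rfl⟩
  · rintro X X' T f ⟨Y, s, hs, hTs⟩
    obtain ⟨ψ, hψ⟩ := (MorphismProperty.LeftFraction.mk f s hs).exists_rightFraction
    dsimp at hψ
    refine ⟨ψ.X', ψ.s, ψ.hs, ?_⟩
    change T (ψ.s ≫ f)
    rw [hψ]
    exact T.downward_closed hTs _
  · rintro X T ⟨Y, s, hs, hTs⟩ R hR
    obtain ⟨Z, t, ht, hRt⟩ := hR hTs
    exact ⟨Z, t ≫ s, S.comp_mem _ _ ht hs, hRt⟩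

theorem sheaf_iff (S : MorphismProperty C) [S.HasRightCalculusOfFractions]
    (hmono : ∀ ⦃X Y : C⦄ (s : X ⟶ Y), S s → Mono s)
    (J : GrothendieckTopology C) (hJ : ∀ (X : C) (T : Sieve X),
          T ∈ J X ↔ ∃ (Y : C) (s : Y ⟶ X), S s ∧ T s)
    (F : Cᵒᵖ ⥤ Type w) :
    Presheaf.IsSheaf J F ↔ ∀ ⦃X Y : C⦄ (s : X ⟶ Y), S s → IsIso (F.map s.op) := by
  rw [isSheaf_iff_isSheaf_of_type]
  constructor
  · intro hF X Y s hs
    have : Mono s := hmono s hs
    have hcov : Sieve.generate (Presieve.singleton s) ∈ J Y :=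
      (hJ _ _).mpr ⟨X, s, hs, Sieve.le_generate _ _ _ (Presieve.singleton.mk)⟩
    have h1 := hF _ hcov
    rw [← Presieve.isSheafFor_iff_generate, Presieve.isSheafFor_singleton] at h1
    rw [isIso_iff_bijective]
    have h2 : ∀ x : F.obj (op X), ∃! y, F.map s.op y = x := by
      intro x
      apply h1
      intro Z p₁ p₂ hp
      rw [(cancel_mono s).mp hp]
    exact ⟨fun a b hab => (h2 (F.map s.op a)).unique rfl hab.symm,
      fun x => (h2 x).exists⟩
  · intro hF X T hT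
    obtain ⟨Y, s, hs, hTs⟩ := (hJ _ _).mp hT
    have hbij : ∀ ⦃A B : C⦄ (t : A ⟶ B), S t → Function.Bijective (F.map t.op) := by
      intro A B t ht
      have := hF t ht
      rwa [isIso_iff_bijective] at this
    intro x hx
    obtain ⟨a, ha⟩ := (hbij s hs).2 (x s hTs)
    refine ⟨a, ?_, ?_⟩
    · intro W f hf
      obtain ⟨ψ, hψ⟩ := (MorphismProperty.LeftFraction.mk f s hs).exists_rightFraction
      dsimp at hψ
      apply (hbij ψ.s ψ.hs).1
      have e1 : F.map ψ.s.op (F.map f.op a) = F.map ψ.f.op (F.map s.op a) := by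
        rw [← Functor.map_comp_apply, ← Functor.map_comp_apply, ← op_comp, ← op_comp, hψ]
      rw [e1, ha]
      exact hx ψ.f ψ.s hTs hf hψ.symm
    · intro b hb
      apply (hbij s hs).1
      rw [ha]
      exact hb s hTs

theorem main (S : MorphismProperty C) [S.HasRightCalculusOfFractions]
    (hmono : ∀ ⦃X Y : C⦄ (s : X ⟶ Y), S s → Mono s) :
    (∃ J : GrothendieckTopology C, ∀ (X : C) (T : Sieve X),
        T ∈ J X ↔ ∃ (Y : C) (s : Y ⟶ X), S s ∧ T s) ∧
      ∀ J : GrothendieckTopology C, (∀ (X : C) (T : Sieve X),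
          T ∈ J X ↔ ∃ (Y : C) (s : Y ⟶ X), S s ∧ T s) →
        ∀ F : Cᵒᵖ ⥤ Type w,
          Presheaf.IsSheaf J F ↔ ∀ ⦃X Y : C⦄ (s : X ⟶ Y), S s → IsIso (F.map s.op) :=
  ⟨exists_top S, fun J hJ F => sheaf_iff S hmono J hJ F⟩

end Groth.Agent.H9.FracTop
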