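import Mathlib

/-! Helper9: Frobenius pull-back isomorphic to itself implies free (local ring, f.p. module). -/

namespace Groth.Agent.H9.Frob

open IsLocalRing

universe u v

variable {R : Type u} [CommRing R] {M : Type v} [AddCommGroup M] [Module R M]

/-- the ideal generated by all coordinates of elements of `K`. -/
def coordIdeal {n : ℕ} (K : Submodule R (Fin n → R)) : Ideal R :=
  ⨆ i : Fin n, K.map (LinearMap.proj (R := R) (φ := fun _ : Fin n => R) i)

lemma mem_coordIdeal {n : ℕ} {K : Submodule R (Fin n → R)} {k : Fin n → R} (hk : k ∈ K)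
    (i : Fin n) : k i ∈ coordIdeal K := by
  refine Submodule.mem_iSup_of_mem i ?_
  exact ⟨k, hk, rfl⟩

lemma coordIdeal_le {n : ℕ} {K : Submodule R (Fin n → R)} {J : Ideal R}
    (h : ∀ k ∈ K, ∀ i, k i ∈ J) : coordIdeal K ≤ J := by
  refine iSup_le fun i => ?_
  rintro _ ⟨k, hk, rfl⟩
  exact h k hk i

lemma coordIdeal_fg {n : ℕ} {K : Submodule R (Fin n → R)} (hK : K.FG) : (coordIdeal K).FG := by
  refine Submodule.fg_iSup _ fun i => ?_
  exact hK.map _

lemma eq_bot_of_coordIdeal {n : ℕ} {K : Submodule R (Fin n → R)} (h : coordIdeal K = ⊥) :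
    K = ⊥ := by
  rw [eq_bot_iff]
  intro k hk
  rw [Submodule.mem_bot]
  funext i
  have := mem_coordIdeal hk i
  rw [h] at this
  simpa using this

variable (R) in
/-- relation module of a family -/
def relMod {n : ℕ} (x : Fin n → M) : Submodule R (Fin n → R) :=
  LinearMap.ker (Fintype.linearCombination R x)

lemma mem_relMod {n : ℕ} (x : Fin n → M) (k : Fin n → R) :
    k ∈ relMod R x ↔ ∑ i, k i • x i = 0 := by
  rw [relMod, LinearMap.mem_ker, Fintype.linearCombination_apply]

lemma relMod_fg [Module.FinitePresentation R M] {n : ℕ} (x : Fin n → M)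
    (hx : Submodule.span R (Set.range x) = ⊤) : (relMod R x).FG := by
  refine Module.FinitePresentation.fg_ker _ ?_
  rw [← LinearMap.range_eq_top, Fintype.range_linearCombination, hx]

variable [IsLocalRing R]

lemma rel_mem_max {n : ℕ} (x : Fin n → M) (hx : Submodule.span R (Set.range x) = ⊤)
    (hmin : ∀ m < n, ∀ z : Fin m → M, Submodule.span R (Set.range z) ≠ ⊤)
    (k : Fin n → R) (hk : ∑ i, k i • x i = 0) (j : Fin n) : k j ∈ maximalIdeal R := by
  by_contra h
  obtain ⟨u, hu⟩ := notMem_maximalIdeal.mp h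
  cases n with
  | zero => exact j.elim0
  | succ m =>
    refine hmin m (Nat.lt_succ_self m) (x ∘ j.succAbove) ?_
    rw [eq_top_iff, ← hx, Submodule.span_le]
    rintro _ ⟨i, rfl⟩
    have hj : x j ∈ Submodule.span R (Set.range (x ∘ j.succAbove)) := by
      rw [Fin.sum_univ_succAbove _ j] at hk
      have h2 : k j • x j = - ∑ i, k (j.succAbove i) • x (j.succAbove i) :=
        eq_neg_of_add_eq_zero_left hk
      have h3 : x j = (↑u⁻¹ : R) • (k j • x j) := by
        rw [smul_smul, ← hu, Units.inv_mul, one_smul]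
      rw [h3, h2]
      refine Submodule.smul_mem _ _ (Submodule.neg_mem _ (Submodule.sum_mem _ fun i _ => ?_))
      exact Submodule.smul_mem _ _ (Submodule.subset_span ⟨i, rfl⟩)
    rcases Fin.eq_self_or_eq_succAbove j i with h | ⟨i', h⟩
    · rw [h]; exact hj
    · rw [h]; exact Submodule.subset_span ⟨i', rfl⟩

/-- Step B: base change matrix between two generating families, one of them minimal. -/
lemma exists_matrix {n : ℕ} (x y : Fin n → M) (hx : Submodule.span R (Set.range x) = ⊤)
    (hy : Submodule.span R (Set.range y) = ⊤)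
    (hmin : ∀ k : Fin n → R, ∑ i, k i • x i = 0 → ∀ j, k j ∈ maximalIdeal R) :
    ∃ Q : Matrix (Fin n) (Fin n) R, (∀ i, x i = ∑ j, Q i j • y j) ∧ IsUnit Q.det := by
  have h1 : ∀ i, ∃ q : Fin n → R, ∑ j, q j • y j = x i := fun i =>
    (Submodule.mem_span_range_iff_exists_fun R).mp (by rw [hy]; trivial)
  have h2 : ∀ j, ∃ q : Fin n → R, ∑ l, q l • x l = y j := fun j =>
    (Submodule.mem_span_range_iff_exists_fun R).mp (by rw [hx]; trivial)
  choose Q hQ using h1
  choose P hP using h2
  refine ⟨Matrix.of Q, fun i => (hQ i).symm, ?_⟩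
  have hrel : ∀ i l, (Matrix.of Q * Matrix.of P - 1) i l ∈ maximalIdeal R := by
    intro i
    refine hmin _ ?_
    have : ∑ l, (Matrix.of Q * Matrix.of P) i l • x l = x i := by
      simp only [Matrix.mul_apply, Matrix.of_apply, Finset.sum_smul]
      rw [Finset.sum_comm]
      simp only [mul_smul]
      simp only [← Finset.smul_sum, hP, hQ]
    simp only [Matrix.sub_apply, sub_smul, Finset.sum_sub_distrib, this]
    simp [Matrix.one_apply, ite_smul]
  have hdet : IsUnit (Matrix.of Q * Matrix.of P).det := by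
    rw [← notMem_maximalIdeal, ← residue_eq_zero_iff, RingHom.map_det]
    have : (residue R).mapMatrix (Matrix.of Q * Matrix.of P) = 1 := by
      ext i l
      have := (residue_eq_zero_iff _).mpr (hrel i l)
      rw [Matrix.sub_apply, map_sub, sub_eq_zero] at this
      rw [RingHom.mapMatrix_apply, Matrix.map_apply, this, Matrix.one_apply, Matrix.one_apply]
      split_ifs <;> simp
    rw [this, Matrix.det_one]
    exact one_ne_zero
  rw [Matrix.det_mul] at hdet
  exact isUnit_of_mul_isUnit_left hdet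

omit [IsLocalRing R] in
/-- Step C -/
lemma coordIdeal_le_of_matrix {n : ℕ} (x y : Fin n → M) (Q : Matrix (Fin n) (Fin n) R)
    (hQ : ∀ i, x i = ∑ j, Q i j • y j) (hdet : IsUnit Q.det) :
    coordIdeal (relMod R x) ≤ coordIdeal (relMod R y) := by
  refine coordIdeal_le fun k hk i => ?_
  rw [mem_relMod] at hk
  have h1 : Matrix.vecMul k Q ∈ relMod R y := by
    rw [mem_relMod]
    simp only [Matrix.vecMul, dotProduct, Finset.sum_smul, mul_smul]
    rw [Finset.sum_comm]
    simp only [← Finset.smul_sum, ← hQ]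
    exact hk
  have h2 : k = Matrix.vecMul (Matrix.vecMul k Q) Q⁻¹ := by
    rw [Matrix.vecMul_vecMul, Matrix.mul_nonsing_inv _ hdet, Matrix.vecMul_one]
  rw [h2]
  simp only [Matrix.vecMul, dotProduct]
  refine Ideal.sum_mem _ fun j _ => ?_
  exact Ideal.mul_mem_right _ _ (mem_coordIdeal h1 j)

/-- Core lemma: a finitely presented module over a local ring with a `p`-semilinear
"Frobenius-structure" whose linearisation is bijective is free. -/
theorem free_of_frob [Module.FinitePresentation R M] (p : ℕ) (hp : 2 ≤ p) (φ : M →+ M)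
    (hφ : ∀ (r : R) (m : M), φ (r • m) = r ^ p • φ m)
    (hgen : Submodule.span R (Set.range φ) = ⊤)
    (hrel : ∀ (n : ℕ) (x : Fin n → M), Submodule.span R (Set.range x) = ⊤ →
      ∀ a : Fin n → R, ∑ i, a i • φ (x i) = 0 →
        a ∈ Submodule.span R {b | ∃ k : Fin n → R, ∑ i, k i • x i = 0 ∧ b = fun i => k i ^ p}) :
    Module.Free R M := by
  classical
  have hex : ∃ n : ℕ, ∃ x : Fin n → M, Submodule.span R (Set.range x) = ⊤ :=
    Module.Finite.exists_fin
  obtain ⟨n, x, hx, hmin⟩ : ∃ (n : ℕ) (x : Fin n → M), Submodule.span R (Set.range x) = ⊤ ∧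
      ∀ m < n, ∀ z : Fin m → M, Submodule.span R (Set.range z) ≠ ⊤ := by
    obtain ⟨x, hx⟩ := Nat.find_spec hex
    exact ⟨Nat.find hex, x, hx, fun m hm z hz => Nat.find_min hex hm ⟨z, hz⟩⟩
  have hmax := rel_mem_max x hx hmin
  -- y generates
  have hy : Submodule.span R (Set.range (fun i => φ (x i))) = ⊤ := by
    rw [eq_top_iff, ← hgen, Submodule.span_le]
    rintro _ ⟨m, rfl⟩
    obtain ⟨c, rfl⟩ := (Submodule.mem_span_range_iff_exists_fun R).mp
      (show m ∈ Submodule.span R (Set.range x) by rw [hx]; trivial)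
    rw [map_sum]
    refine Submodule.sum_mem _ fun i _ => ?_
    rw [hφ]
    exact Submodule.smul_mem _ _ (Submodule.subset_span ⟨i, rfl⟩)
  obtain ⟨Q, hQ, hdet⟩ := exists_matrix x (fun i => φ (x i)) hx hy hmax
  have hC := coordIdeal_le_of_matrix x (fun i => φ (x i)) Q hQ hdet
  -- Step D
  have hD : coordIdeal (relMod R (fun i => φ (x i))) ≤
      maximalIdeal R * coordIdeal (relMod R x) := by
    refine coordIdeal_le fun a ha => ?_
    rw [mem_relMod] at ha
    have := hrel n x hx a ha
    refine Submodule.span_induction (p := fun a _ => ∀ i, a i ∈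
      maximalIdeal R * coordIdeal (relMod R x)) ?_ ?_ ?_ ?_ this
    · rintro _ ⟨k, hk, rfl⟩ i
      have : k i ^ p = k i ^ (p - 1) * k i := by
        rw [← pow_succ]; congr 1; omega
      show k i ^ p ∈ _
      rw [this]
      refine Ideal.mul_mem_mul (Ideal.pow_mem_of_mem _ (hmax k hk i) _ (by omega)) ?_
      exact mem_coordIdeal ((mem_relMod x k).mpr hk) i
    · intro i; exact Ideal.zero_mem _
    · intro a b _ _ ha hb i; exact Ideal.add_mem _ (ha i) (hb i)
    · intro r a _ ha i; exact Ideal.mul_mem_left _ _ (ha i)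
  -- Nakayama
  have hJ : coordIdeal (relMod R x) = ⊥ := by
    refine Submodule.eq_bot_of_le_smul_of_le_jacobson_bot (maximalIdeal R) _
      (coordIdeal_fg (relMod_fg x hx)) ?_ (maximalIdeal_le_jacobson _)
    rw [smul_eq_mul]
    exact hC.trans hD
  have hK := eq_bot_of_coordIdeal hJ
  have hli : LinearIndependent R x := by
    rw [Fintype.linearIndependent_iff]
    intro g hg i
    have : g ∈ relMod R x := (mem_relMod x g).mpr hg
    rw [hK, Submodule.mem_bot] at this
    rw [this]; rfl
  exact Module.Free.of_basis (Module.Basis.mk hli (by rw [hx]))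

open TensorProduct in
/-- Generic encoding: `A` is a copy of `R` (via `τ`) on which `R` acts through `r ↦ r ^ p`. -/
theorem free_of_twist [Module.FinitePresentation R M] (p : ℕ) (hp : 2 ≤ p)
    {A : Type*} [AddCommGroup A] [Module R A] (τ : R ≃+ A)
    (hτ : ∀ r s : R, r • τ s = τ (r ^ p * s))
    (e : A ⊗[R] M →+ M) (he : Function.Bijective e)
    (hes : ∀ (s : R) (m : M), e (τ s ⊗ₜ m) = s • e (τ 1 ⊗ₜ m)) : Module.Free R M := by
  set φ : M →+ M := e.comp (TensorProduct.mk R A M (τ 1)).toAddMonoidHom with hφdef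
  have hφa : ∀ m, φ m = e (τ 1 ⊗ₜ m) := fun m => rfl
  refine free_of_frob p hp φ ?_ ?_ ?_
  · intro r m
    rw [hφa, hφa, TensorProduct.tmul_smul, TensorProduct.smul_tmul', hτ, hes, mul_one]
  · rw [eq_top_iff]
    rintro m -
    obtain ⟨w, rfl⟩ := he.2 m
    induction w using TensorProduct.induction_on with
    | zero => rw [map_zero]; exact Submodule.zero_mem _
    | tmul a m =>
      obtain ⟨s, rfl⟩ := τ.surjective a
      rw [hes]
      exact Submodule.smul_mem _ _ (Submodule.subset_span ⟨m, rfl⟩)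
    | add w₁ w₂ h₁ h₂ => rw [map_add]; exact Submodule.add_mem _ h₁ h₂
  · intro n x hx a ha
    have h1 : e (∑ i, τ (a i) ⊗ₜ[R] x i) = 0 := by
      rw [map_sum, ← ha]
      refine Finset.sum_congr rfl fun i _ => ?_
      rw [hes, hφa]
    have h2 : ∑ i, τ (a i) ⊗ₜ[R] x i = 0 := he.1 (by rw [h1, map_zero])
    have h3 : ∑ i, x i ⊗ₜ[R] τ (a i) = 0 := by
      have := congrArg (TensorProduct.comm R A M) h2
      simpa using this
    obtain ⟨k, c, t, hc1, hc2⟩ := TensorProduct.vanishesTrivially_of_sum_tmul_eq_zero R hx h3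
    have h4 : ∀ i, a i = ∑ j, c i j ^ p * τ.symm (t j) := by
      intro i
      apply τ.injective
      refine (hc1 i).trans ?_
      rw [map_sum]
      refine Finset.sum_congr rfl fun j _ => ?_
      rw [← hτ, AddEquiv.apply_symm_apply]
    have h5 : a = ∑ j, τ.symm (t j) • (fun i => c i j ^ p) := by
      funext i
      rw [h4 i, Finset.sum_apply]
      refine Finset.sum_congr rfl fun j _ => ?_
      simp [mul_comm]
    rw [h5]
    refine Submodule.sum_mem _ fun j _ => Submodule.smul_mem _ _ (Submodule.subset_span ?_)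
    exact ⟨fun i => c i j, hc2 j, rfl⟩

end Groth.Agent.H9.Frob
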