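import Mathlib
import Groth.Prelude.Def_FrobAlg
import Groth.Agent.Lib.Helper9.Misc.Frob1

/-! Helper9: S16368 -/

namespace Groth.Agent.H9.Frob

open TensorProduct

universe u v

theorem S16368
    (p : ℕ) [Fact p.Prime] (R : Type u) [CommRing R] [IsLocalRing R] [CharP R p]
    (M : Type v) [AddCommGroup M] [Module R M] [Module.FinitePresentation R M]
    (e : (FrobAlg.Twist p R ⊗[R] M) →ₛₗ[((FrobAlg.toTwist p R).symm : FrobAlg.Twist p R →+* R)] M)
    (he : Function.Bijective e) :
    Module.Free R M := by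
  refine free_of_twist p (Fact.out : p.Prime).two_le (FrobAlg.toTwist p R).toAddEquiv ?_
    e.toAddMonoidHom he ?_
  · intro r s
    rw [Algebra.smul_def, FrobAlg.algebraMap_twist]
    simp
  · intro s m
    have : (FrobAlg.toTwist p R) s ⊗ₜ[R] m =
        (FrobAlg.toTwist p R) s • ((FrobAlg.toTwist p R) 1 ⊗ₜ[R] m) := by
      rw [TensorProduct.smul_tmul', smul_eq_mul, map_one, mul_one]
    show e ((FrobAlg.toTwist p R) s ⊗ₜ[R] m) = s • e ((FrobAlg.toTwist p R) 1 ⊗ₜ[R] m)
    rw [this, e.map_smulₛₗ]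
    simp

end Groth.Agent.H9.Frob
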