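import Mathlib
import Groth.Agent.Lib.Helper9.Misc.Frob1

/-! Helper9: S0337 -/

namespace Groth.Agent.H9.Frob

open TensorProduct ChangeOfRings

universe u v

set_option backward.isDefEq.respectTransparency false in
theorem S0337 (p : ℕ) [Fact p.Prime] (R : Type u) [CommRing R] [IsLocalRing R] [IsNoetherianRing R] [CharP R p] (M : Type u) [AddCommGroup M] [Module R M] [Module.Finite R M] (h : Nonempty ((ModuleCat.extendScalars (frobenius R p)).obj (ModuleCat.of R M) ≅ ModuleCat.of R M)) : Module.Free R M := by
  obtain ⟨i⟩ := h
  have : Module.FinitePresentation R M := Module.finitePresentation_of_finite R M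
  have key : ∀ (s : R) (m : M), i.hom.hom ((s ⊗ₜ[R, frobenius R p] m :) : ↑((ModuleCat.extendScalars (frobenius R p)).obj (ModuleCat.of R M))) = s • (i.hom.hom (((1 : R) ⊗ₜ[R, frobenius R p] m :) : ↑((ModuleCat.extendScalars (frobenius R p)).obj (ModuleCat.of R M))) : M) := by
    intro s m
    have := ModuleCat.ExtendScalars.smul_tmul (frobenius R p) (M := ModuleCat.of R M) s 1 m
    rw [mul_one] at this
    rw [← this, map_smul]
  let A : Type u := ↑((ModuleCat.restrictScalars (frobenius R p)).obj (ModuleCat.of R R))
  let e : A ⊗[R] M →+ M := i.hom.hom.toAddMonoidHom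
  have he : Function.Bijective e := i.toLinearEquiv.bijective
  refine free_of_twist p (Fact.out : p.Prime).two_le (A := A) (AddEquiv.refl R) ?_ e he ?_
  · intro r s
    show (frobenius R p r) * s = r ^ p * s
    rw [frobenius_def]
  · intro s m
    exact key s m

end Groth.Agent.H9.Frob
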