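import Mathlib

/-! Helper9: degree of the (iterated) Frobenius of a finitely generated field extension of a
perfect field: `[L : L^q] = q ^ trdeg`. -/

open IntermediateField

universe u

namespace Groth.Agent.H9.FrobDegA


theorem finrank_ratFunc_X_pow (F : Type*) [Field F] (q : ℕ) :
    Module.finrank F⟮(RatFunc.X : RatFunc F) ^ q⟯ (RatFunc F) = q := by
  rw [RatFunc.finrank_eq_max_natDegree]
  have : (RatFunc.X : RatFunc F) ^ q = algebraMap (Polynomial F) (RatFunc F) (Polynomial.X ^ q) := by
    simp [RatFunc.algebraMap_X]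
  rw [this, RatFunc.num_algebraMap, RatFunc.denom_algebraMap]
  simp

theorem relfinrank_adjoin_simple_pow {F E : Type*} [Field F] [Field E] [Algebra F E] (t : E)
    (ht : Transcendental F t) (q : ℕ) :
    IntermediateField.relfinrank F⟮t ^ q⟯ F⟮t⟯ = q := by
  let e := RatFunc.algEquivOfTranscendental t ht
  let g : RatFunc F →ₐ[F] E := F⟮t⟯.val.comp e.toAlgHom
  have hgX : g RatFunc.X = t := by
    simp [g, e]
  have h1 : (F⟮(RatFunc.X : RatFunc F) ^ q⟯).map g = F⟮t ^ q⟯ := by
    rw [IntermediateField.adjoin_map]
    simp [hgX]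
  have h2 : (⊤ : IntermediateField F (RatFunc F)).map g = F⟮t⟯ := by
    rw [← AlgHom.fieldRange_eq_map]
    ext y
    constructor
    · rintro ⟨z, rfl⟩
      exact (e z).2
    · intro hy
      exact ⟨e.symm ⟨y, hy⟩, by simp [g]⟩
  rw [← h1, ← h2, IntermediateField.relfinrank_map_map, IntermediateField.relfinrank_top_right,
    finrank_ratFunc_X_pow]



theorem relfinrank_restrictScalars {F E : Type*} [Field F] [Field E] [Algebra F E]
    (G : IntermediateField F E) (A B : IntermediateField G E) :
    (A.restrictScalars F).relfinrank (B.restrictScalars F) = A.relfinrank B := rfl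

theorem relfinrank_adjoin_pow (q : ℕ) (n : ℕ) :
    ∀ (F E : Type u) [Field F] [Field E] [Algebra F E]
    (y : Fin n → E), AlgebraicIndependent F y →
    (adjoin F (Set.range fun i => y i ^ q)).relfinrank (adjoin F (Set.range y)) = q ^ n := by
  induction n with
  | zero =>
    intro F E _ _ _ y _
    have h1 : (Set.range fun i => y i ^ q) = ∅ := Set.range_eq_empty _
    have h2 : Set.range y = ∅ := Set.range_eq_empty _
    rw [h1, h2, pow_zero, IntermediateField.relfinrank_self]
  | succ n ih =>
    intro F E _ _ _ y hy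
    set t := y 0 with ht
    set z : Fin n → E := fun i => y i.succ with hz
    have hry : Set.range y = {t} ∪ Set.range z := by
      ext a
      simp only [Set.mem_range, Set.singleton_union, Set.mem_insert_iff]
      constructor
      · rintro ⟨i, rfl⟩
        refine Fin.cases (Or.inl rfl) (fun j => Or.inr ⟨j, rfl⟩) i
      · rintro (rfl | ⟨j, rfl⟩)
        · exact ⟨0, rfl⟩
        · exact ⟨j.succ, rfl⟩
    have hryq : (Set.range fun i => y i ^ q) = {t ^ q} ∪ Set.range fun i => z i ^ q := by
      ext a
      simp only [Set.mem_range, Set.singleton_union, Set.mem_insert_iff]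
      constructor
      · rintro ⟨i, rfl⟩
        refine Fin.cases (Or.inl rfl) (fun j => Or.inr ⟨j, rfl⟩) i
      · rintro (rfl | ⟨j, rfl⟩)
        · exact ⟨0, rfl⟩
        · exact ⟨j.succ, rfl⟩
    -- t transcendental over F(z^q)
    have htr1 : Transcendental (Algebra.adjoin F (y '' {0}ᶜ)) t :=
      hy.transcendental_adjoin (s := {0}ᶜ) (i := 0) (by simp)
    have himg : y '' {0}ᶜ = Set.range z := by
      ext a
      simp only [Set.mem_image, Set.mem_compl_iff, Set.mem_singleton_iff, Set.mem_range]
      constructor
      · rintro ⟨i, hi, rfl⟩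
        obtain ⟨j, rfl⟩ := Fin.exists_succ_eq.mpr hi
        exact ⟨j, rfl⟩
      · rintro ⟨j, rfl⟩
        exact ⟨j.succ, Fin.succ_ne_zero j, rfl⟩
    rw [himg] at htr1
    have hle : Algebra.adjoin F (Set.range fun i => z i ^ q) ≤ Algebra.adjoin F (Set.range z) := by
      apply Algebra.adjoin_le
      rintro _ ⟨i, rfl⟩
      exact pow_mem (Algebra.subset_adjoin (s := Set.range z) (Set.mem_range_self i)) q
    have htr2 : Transcendental (adjoin F (Set.range fun i => z i ^ q)) t :=
      IntermediateField.transcendental_adjoin_iff.mpr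
        (Transcendental.of_tower_top_of_subalgebra_le hle htr1)
    -- z algebraically independent over F(t)
    have hind1 : AlgebraicIndependent (Algebra.adjoin F (y '' {0}))
        fun i : ({0}ᶜ : Set (Fin (n + 1))) => y i :=
      hy.adjoin_of_disjoint (s := {0}) (t := {0}ᶜ) (by simp)
    let ι' : Fin n → ({0}ᶜ : Set (Fin (n + 1))) := fun i => ⟨i.succ, by simp [Fin.succ_ne_zero]⟩
    have hind2 : AlgebraicIndependent (Algebra.adjoin F (y '' {0})) z :=
      hind1.comp ι' (fun i j h => by simpa [ι'] using h)
    have himg0 : y '' {0} = {t} := by simp [ht]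
    rw [himg0] at hind2
    have hind3 : AlgebraicIndependent (adjoin F ({t} : Set E)) z :=
      IntermediateField.algebraicIndependent_adjoin_iff.mpr hind2
    -- the three fields
    have hK0 : adjoin F (Set.range fun i => y i ^ q) =
        (adjoin (adjoin F (Set.range fun i => z i ^ q)) {t ^ q}).restrictScalars F := by
      rw [adjoin_adjoin_left, hryq, Set.union_comm]
    have hK1 : adjoin F ({t} ∪ Set.range fun i => z i ^ q) =
        (adjoin (adjoin F (Set.range fun i => z i ^ q)) {t}).restrictScalars F := by
      rw [adjoin_adjoin_left, Set.union_comm]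
    have hK1' : adjoin F ({t} ∪ Set.range fun i => z i ^ q) =
        (adjoin (adjoin F ({t} : Set E)) (Set.range fun i => z i ^ q)).restrictScalars F := by
      rw [adjoin_adjoin_left]
    have hK2 : adjoin F (Set.range y) =
        (adjoin (adjoin F ({t} : Set E)) (Set.range z)).restrictScalars F := by
      rw [adjoin_adjoin_left, hry]
    have step1 : (adjoin F (Set.range fun i => y i ^ q)).relfinrank
        (adjoin F ({t} ∪ Set.range fun i => z i ^ q)) = q := by
      rw [hK0, hK1, relfinrank_restrictScalars]
      exact relfinrank_adjoin_simple_pow t htr2 q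
    have step2 : (adjoin F ({t} ∪ Set.range fun i => z i ^ q)).relfinrank
        (adjoin F (Set.range y)) = q ^ n := by
      rw [hK1', hK2, relfinrank_restrictScalars]
      exact ih (adjoin F ({t} : Set E)) E z hind3
    have hle1 : adjoin F (Set.range fun i => y i ^ q) ≤
        adjoin F ({t} ∪ Set.range fun i => z i ^ q) := by
      rw [hryq]
      apply adjoin_le_iff.mpr
      rintro a (rfl | ha)
      · exact pow_mem (IntermediateField.subset_adjoin F ({t} ∪ Set.range fun i => z i ^ q)
          (Or.inl rfl)) q
      · exact IntermediateField.subset_adjoin F ({t} ∪ Set.range fun i => z i ^ q) (Or.inr ha)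
    have hle2 : adjoin F ({t} ∪ Set.range fun i => z i ^ q) ≤ adjoin F (Set.range y) := by
      rw [hry]
      apply adjoin_le_iff.mpr
      rintro a (rfl | ⟨i, rfl⟩)
      · exact IntermediateField.subset_adjoin F ({t} ∪ Set.range z) (Or.inl rfl)
      · exact pow_mem (IntermediateField.subset_adjoin F ({t} ∪ Set.range z) (Or.inr ⟨i, rfl⟩)) q
    rw [← IntermediateField.relfinrank_mul_relfinrank hle1 hle2, step1, step2, pow_succ, mul_comm]



theorem finrank_fieldRange_iterateFrobenius (k L : Type u) [Field k] [Field L] [Algebra k L]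
    (p : ℕ) [ExpChar k p] [ExpChar L p] [PerfectRing k p]
    (e n : ℕ) (x : Fin n → L) (hx : AlgebraicIndependent k x)
    [hfin : FiniteDimensional (adjoin k (Set.range x)) L] :
    Module.finrank (iterateFrobenius L p e).fieldRange L = (p ^ e) ^ n := by
  set φ := iterateFrobenius L p e with hφ
  set M := (adjoin k (Set.range x)).toSubfield with hM
  set M' := (adjoin k (Set.range fun i => x i ^ (p ^ e))).toSubfield with hM'
  have hmap : M.map φ = M' := by
    rw [hM, hM', adjoin_toSubfield, adjoin_toSubfield, RingHom.map_field_closure, Set.image_union]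
    congr 2
    · ext a
      constructor
      · rintro ⟨_, ⟨c, rfl⟩, rfl⟩
        exact ⟨c ^ (p ^ e), by simp [hφ, iterateFrobenius_def]⟩
      · rintro ⟨c, rfl⟩
        obtain ⟨c', hc'⟩ := (bijective_iterateFrobenius k p e).2 c
        refine ⟨algebraMap k L c', ⟨c', rfl⟩, ?_⟩
        rw [← hc', hφ, iterateFrobenius_def, iterateFrobenius_def, map_pow]
    · ext a
      constructor
      · rintro ⟨_, ⟨i, rfl⟩, rfl⟩
        exact ⟨i, rfl⟩
      · rintro ⟨i, rfl⟩
        exact ⟨x i, ⟨i, rfl⟩, rfl⟩
  have h1 : M'.relfinrank M = (p ^ e) ^ n := relfinrank_adjoin_pow (p ^ e) n k L x hx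
  have hle1 : M' ≤ M := by
    rw [hM, hM', adjoin_toSubfield, adjoin_toSubfield]
    apply Subfield.closure_le.mpr
    rintro a (ha | ⟨i, rfl⟩)
    · exact Subfield.subset_closure (Or.inl ha)
    · exact pow_mem (Subfield.subset_closure
        (s := Set.range (algebraMap k L) ∪ Set.range x) (Or.inr (Set.mem_range_self i))) _
  have hle2 : M' ≤ φ.fieldRange := by
    rw [← hmap, RingHom.fieldRange_eq_map]
    exact (Subfield.gc_map_comap φ).monotone_l le_top
  have h2 : M'.relfinrank φ.fieldRange = M.relfinrank ⊤ := by
    rw [← hmap, RingHom.fieldRange_eq_map, Subfield.relfinrank_map_map]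
  have h3 : M.relfinrank ⊤ = Module.finrank M L := Subfield.relfinrank_top_right M
  have hpos : 0 < Module.finrank M L := by
    have : FiniteDimensional M L := hfin
    exact Module.finrank_pos
  have c1 := Subfield.relfinrank_mul_relfinrank hle1 (le_top : M ≤ ⊤)
  have c2 := Subfield.relfinrank_mul_relfinrank hle2 (le_top : φ.fieldRange ≤ ⊤)
  rw [h1, h3] at c1
  rw [h2, h3, ← c1, Subfield.relfinrank_top_right φ.fieldRange] at c2
  have := Nat.eq_of_mul_eq_mul_left hpos (c2.trans (mul_comm _ _))
  exact this

end Groth.Agent.H9.FrobDegA
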