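import Mathlib
import Groth.Prelude.Def_Frob

/-! Helper9: the absolute `q`-Frobenius of a scheme, residue degrees, and the arithmetic twist
`σ` on a base change `X ×_{k₀} k`. -/

open AlgebraicGeometry CategoryTheory FrobSch

universe u

namespace Groth.Agent.H9.FrobDegB


section
variable (X : Scheme.{u}) (p : ℕ) [Fact p.Prime] [IsCharP X p]

/-- iterated absolute Frobenius -/
noncomputable def frobIter : ℕ → (X ⟶ X)
  | 0 => 𝟙 X
  | e + 1 => frobIter e ≫ frob X p

@[simp] theorem frobIter_zero : frobIter X p 0 = 𝟙 X := rfl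
theorem frobIter_succ (e : ℕ) : frobIter X p (e + 1) = frobIter X p e ≫ frob X p := rfl

theorem frobIter_base (e : ℕ) : (frobIter X p e).base = 𝟙 _ := by
  induction e with
  | zero => rfl
  | succ e ih =>
    rw [frobIter_succ, Scheme.Hom.comp_base, ih, frob_base, Category.comp_id]

theorem frobIter_preimage (e : ℕ) (U : X.Opens) : (frobIter X p e) ⁻¹ᵁ U = U := by
  ext x
  simp [frobIter_base]

theorem frobIter_le (e : ℕ) (U : X.Opens) : U ≤ (frobIter X p e) ⁻¹ᵁ U :=
  (frobIter_preimage X p e U).ge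

theorem frobIter_appLE (e : ℕ) (U : X.Opens) (s : Γ(X, U)) :
    ((frobIter X p e).appLE U U (frobIter_le X p e U)).hom s = s ^ (p ^ e) := by
  induction e with
  | zero =>
    simp only [frobIter_zero, pow_zero, pow_one]
    rw [Scheme.Hom.appLE]
    change (X.presheaf.map (𝟙 (Opposite.op U))).hom ((Scheme.Hom.app (𝟙 X) U).hom s) = s
    rw [X.presheaf.map_id]
    rfl
  | succ e ih =>
    have h := Scheme.Hom.appLE_comp_appLE (frobIter X p e) (frob X p) U U U
      (le_of_eq (frob_preimage X p U).symm) (frobIter_le X p e U)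
    have h2 : (frobIter X p (e + 1)).appLE U U (frobIter_le X p (e + 1) U) =
        (frob X p).appLE U U (le_of_eq (frob_preimage X p U).symm) ≫
          (frobIter X p e).appLE U U (frobIter_le X p e U) := h.symm
    rw [h2]
    change ((frobIter X p e).appLE U U _).hom (((frob X p).appLE U U _).hom s) = _
    have h3 : ((frob X p).appLE U U (le_of_eq (frob_preimage X p U).symm)).hom s = s ^ p := by
      rw [Scheme.Hom.appLE]
      change (X.presheaf.map (𝟙 (Opposite.op U))).hom (s ^ p) = s ^ p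
      rw [X.presheaf.map_id]
      rfl
    rw [h3, map_pow, ih, ← pow_mul, pow_succ, mul_comm]

variable {X} in
theorem frobIter_comp {Y : Scheme.{u}} [IsCharP Y p] (f : X ⟶ Y) (e : ℕ) :
    frobIter X p e ≫ f = f ≫ frobIter Y p e := by
  induction e with
  | zero => simp
  | succ e ih =>
    rw [frobIter_succ, frobIter_succ, Category.assoc, frob_comp, ← Category.assoc, ih,
      Category.assoc]

end

/-- A morphism which is the identity on points and the `q`-th power on sections is determined. -/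
theorem eq_of_isQFrob {X : Scheme.{u}} (q : ℕ) (Φ Ψ : X ⟶ X) (hΦ : Φ.base = 𝟙 _) (hΨ : Ψ.base = 𝟙 _)
    (hleΦ : ∀ U : X.Opens, U ≤ Φ ⁻¹ᵁ U) (hleΨ : ∀ U : X.Opens, U ≤ Ψ ⁻¹ᵁ U)
    (hΦa : ∀ (U : X.Opens) (s : Γ(X, U)), (Φ.appLE U U (hleΦ U)).hom s = s ^ q)
    (hΨa : ∀ (U : X.Opens) (s : Γ(X, U)), (Ψ.appLE U U (hleΨ U)).hom s = s ^ q) : Φ = Ψ := by
  refine Scheme.Hom.ext (hΦ.trans hΨ.symm) (fun U => ?_)
  have e1 : Φ ⁻¹ᵁ U = U := by ext x; simp [hΦ]
  have e2 : Ψ ⁻¹ᵁ U = U := by ext x; simp [hΨ]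
  -- compare after restricting to U
  have hΦm : ∀ (m : Opposite.op (Φ ⁻¹ᵁ U) ⟶ Opposite.op U),
      Φ.app U ≫ X.presheaf.map m = Φ.appLE U U (hleΦ U) := fun m => by
    rw [Scheme.Hom.appLE]
    exact congrArg (fun t => Φ.app U ≫ X.presheaf.map t) (Subsingleton.elim _ _)
  have hΨm : ∀ (m : Opposite.op (Ψ ⁻¹ᵁ U) ⟶ Opposite.op U),
      Ψ.app U ≫ X.presheaf.map m = Ψ.appLE U U (hleΨ U) := fun m => by
    rw [Scheme.Hom.appLE]
    exact congrArg (fun t => Ψ.app U ≫ X.presheaf.map t) (Subsingleton.elim _ _)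
  rw [← cancel_mono (X.presheaf.map (eqToHom e2.symm).op), Category.assoc, ← Functor.map_comp,
    hΦm, hΨm]
  ext s
  rw [hΦa, hΨa]



theorem exists_evaluation_eq (X : Scheme.{u}) (y : X) (b : X.residueField y) :
    ∃ (V : X.Opens) (hy : y ∈ V) (s : Γ(X, V)), (X.evaluation V y hy).hom s = b := by
  obtain ⟨g, rfl⟩ := X.residue_surjective y b
  obtain ⟨V, hy, s, rfl⟩ := X.presheaf.exists_germ_eq (x := y) g
  exact ⟨V, hy, s, rfl⟩

theorem evaluation_appLE {X Y : Scheme.{u}} (f : X ⟶ Y) (V : Y.Opens) (U : X.Opens)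
    (e : U ≤ f ⁻¹ᵁ V) (x : X) (hx : x ∈ U) (s : Γ(Y, V)) :
    (X.evaluation U x hx).hom ((f.appLE V U e).hom s) =
      (f.residueFieldMap x).hom ((Y.evaluation V (f x) (e hx)).hom s) := by
  have h := Scheme.evaluation_naturality_apply f x (e hx) s
  rw [h, Scheme.Hom.appLE]
  change (X.evaluation U x hx).hom ((X.presheaf.map (homOfLE e).op).hom ((f.app V).hom s)) = _
  unfold Scheme.evaluation
  change (X.residue x).hom ((X.presheaf.germ U x hx).hom ((X.presheaf.map (homOfLE e).op).hom _)) = _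
  rw [TopCat.Presheaf.germ_res_apply]
  rfl

theorem range_residueFieldMap_of_isQFrob {X : Scheme.{u}} (q : ℕ) (Φ : X ⟶ X) (hΦ : Φ.base = 𝟙 _)
    (hle : ∀ U : X.Opens, U ≤ Φ ⁻¹ᵁ U)
    (ha : ∀ (U : X.Opens) (s : Γ(X, U)), (Φ.appLE U U (hle U)).hom s = s ^ q) (x : X) :
    Set.range (Φ.residueFieldMap x).hom = Set.range (fun a : X.residueField x => a ^ q) := by
  have hx : Φ x = x := by
    have := congrArg (fun g => g x) hΦ
    exact this
  ext c
  constructor
  · rintro ⟨b, rfl⟩
    obtain ⟨V, hy, s, rfl⟩ := exists_evaluation_eq X (Φ x) b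
    have hxV : x ∈ V := hx ▸ hy
    refine ⟨(X.evaluation V x hxV).hom s, ?_⟩
    have := evaluation_appLE Φ V V (hle V) x hxV s
    rw [ha, map_pow] at this
    exact this
  · rintro ⟨a, rfl⟩
    obtain ⟨V, hy, s, rfl⟩ := exists_evaluation_eq X x a
    refine ⟨(X.evaluation V (Φ x) (hle V hy)).hom s, ?_⟩
    have := evaluation_appLE Φ V V (hle V) x hy s
    rw [ha, map_pow] at this
    exact this.symm



theorem finrank_toAlgebra_eq_finrank_fieldRange {K L : Type*} [Field K] [Field L] (φ : K →+* L) :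
    @Module.finrank K L _ _ φ.toAlgebra.toModule = Module.finrank φ.fieldRange L := by
  let := φ.toAlgebra
  exact Algebra.finrank_eq_of_equiv_equiv φ.rangeRestrictFieldEquiv (RingEquiv.refl L) (by
    ext a
    rfl)

theorem residueDegree_eq_finrank_fieldRange {X Y : Scheme.{u}} (f : X ⟶ Y) (x : X) :
    f.residueDegree x = Module.finrank (f.residueFieldMap x).hom.fieldRange (X.residueField x) :=
  finrank_toAlgebra_eq_finrank_fieldRange _

/-- composing with an isomorphism on the source side does not change residue degrees -/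
theorem residueDegree_iso_comp {X Y Z : Scheme.{u}} (f : X ⟶ Y) [IsIso f] (g : Y ⟶ Z) (x : X) :
    (f ≫ g).residueDegree x = g.residueDegree (f x) := by
  unfold Scheme.Hom.residueDegree
  let a1 := ((f ≫ g).residueFieldMap x).hom.toAlgebra
  let a2 := (g.residueFieldMap (f x)).hom.toAlgebra
  have hiso : IsIso (f.residueFieldMap x) := by
    have : IsOpenImmersion f := inferInstance
    infer_instance
  let j : Y.residueField (f x) ≃+* X.residueField x :=
    (asIso (f.residueFieldMap x)).commRingCatIsoToRingEquiv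
  symm
  refine Algebra.finrank_eq_of_equiv_equiv (RingEquiv.refl _) j ?_
  ext a
  change ((f ≫ g).residueFieldMap x).hom a = (f.residueFieldMap x).hom ((g.residueFieldMap (f x)).hom a)
  rw [Scheme.residueFieldMap_comp]
  rfl



section
variable (X : Scheme.{u}) (p : ℕ) [Fact p.Prime] [IsCharP X p]

theorem frobIter_appTop (e : ℕ) (s : Γ(X, ⊤)) :
    (frobIter X p e).appTop.hom s = s ^ (p ^ e) := by
  rw [← frobIter_appLE X p e ⊤ s]
  rw [Scheme.Hom.appLE]
  change _ = (X.presheaf.map (𝟙 (Opposite.op ⊤))).hom ((Scheme.Hom.app (frobIter X p e) ⊤).hom s)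
  rw [X.presheaf.map_id]
  rfl

end

theorem specMap_appTop_iterateFrobenius (k : Type u) [Field k] (p e : ℕ) [ExpChar k p]
    (s : Γ(Spec (CommRingCat.of k), ⊤)) :
    (Spec.map (CommRingCat.ofHom (iterateFrobenius k p e))).appTop.hom s = s ^ (p ^ e) := by
  apply (Scheme.ΓSpecIso (CommRingCat.of k)).commRingCatIsoToRingEquiv.injective
  have h := congrArg (fun t => t.hom s)
    (Scheme.ΓSpecIso_naturality (CommRingCat.ofHom (iterateFrobenius k p e)))
  simp only [CommRingCat.hom_comp, RingHom.comp_apply, CommRingCat.hom_ofHom] at h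
  rw [map_pow]
  exact h

section Sigma

variable {k₀ k : Type u} [Field k₀] [Field k] [Algebra k₀ k]
  (p e : ℕ) [Fact p.Prime] [ExpChar k p] [PerfectRing k p]
  (hk₀ : ∀ c : k₀, c ^ (p ^ e) = c)
  {X Y : Scheme.{u}} [IsCharP X p] [IsCharP Y p]
  (f : X ⟶ Spec (CommRingCat.of k₀)) (g : Y ⟶ Spec (CommRingCat.of k)) (π : Y ⟶ X)
  (hπ : IsPullback π g f (Spec.map (CommRingCat.ofHom (algebraMap k₀ k))))

include hk₀ in
theorem specMap_frob_comp :
    Spec.map (CommRingCat.ofHom (iterateFrobenius k p e)) ≫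
      Spec.map (CommRingCat.ofHom (algebraMap k₀ k)) =
    Spec.map (CommRingCat.ofHom (algebraMap k₀ k)) := by
  rw [← Spec.map_comp]
  congr 1
  ext c
  simp only [CommRingCat.hom_comp, CommRingCat.hom_ofHom, RingHom.comp_apply, iterateFrobenius_def]
  rw [← map_pow, hk₀]

theorem frobIter_comp_toSpec :
    frobIter Y p e ≫ g = g ≫ Spec.map (CommRingCat.ofHom (iterateFrobenius k p e)) := by
  apply ext_of_isAffine
  rw [Scheme.Hom.comp_appTop, Scheme.Hom.comp_appTop]
  ext s
  simp only [CommRingCat.hom_comp, RingHom.comp_apply]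
  rw [frobIter_appTop, specMap_appTop_iterateFrobenius, map_pow]

/-- the arithmetic Frobenius twist `σ` -/
noncomputable def sigma : Y ⟶ Y :=
  hπ.lift π (g ≫ Spec.map (CommRingCat.ofHom (iterateFrobenius k p e))) (by
    rw [Category.assoc, specMap_frob_comp p e hk₀, hπ.w])

theorem sigma_fst : sigma p e hk₀ f g π hπ ≫ π = π := hπ.lift_fst _ _ _

theorem sigma_snd : sigma p e hk₀ f g π hπ ≫ g =
    g ≫ Spec.map (CommRingCat.ofHom (iterateFrobenius k p e)) := hπ.lift_snd _ _ _

noncomputable def iterFrobEquiv : k ≃+* k :=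
  RingEquiv.ofBijective (iterateFrobenius k p e) (bijective_iterateFrobenius k p e)

/-- inverse of `σ` -/
noncomputable def tau : Y ⟶ Y :=
  hπ.lift π (g ≫ Spec.map (CommRingCat.ofHom (iterFrobEquiv (k := k) p e).symm.toRingHom)) (by
    rw [Category.assoc, hπ.w]
    congr 1
    rw [← Spec.map_comp]
    congr 1
    ext c
    simp only [CommRingCat.hom_comp, CommRingCat.hom_ofHom, RingHom.comp_apply]
    change algebraMap k₀ k c = (iterFrobEquiv (k := k) p e).symm (algebraMap k₀ k c)
    rw [RingEquiv.eq_symm_apply]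
    change iterateFrobenius k p e _ = _
    rw [iterateFrobenius_def, ← map_pow, hk₀])

theorem sigma_tau : sigma p e hk₀ f g π hπ ≫ tau p e hk₀ f g π hπ = 𝟙 Y := by
  apply hπ.hom_ext
  · rw [Category.assoc, tau, hπ.lift_fst, sigma_fst, Category.id_comp]
  · rw [Category.assoc, tau, hπ.lift_snd, ← Category.assoc, sigma_snd, Category.assoc,
      ← Spec.map_comp, Category.id_comp]
    have : CommRingCat.ofHom (iterFrobEquiv (k := k) p e).symm.toRingHom ≫
        CommRingCat.ofHom (iterateFrobenius k p e) = 𝟙 _ := by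
      ext c
      simp only [CommRingCat.hom_comp, CommRingCat.hom_ofHom, RingHom.comp_apply]
      exact (iterFrobEquiv (k := k) p e).apply_symm_apply c
    rw [this, Spec.map_id, Category.comp_id]

theorem tau_sigma : tau p e hk₀ f g π hπ ≫ sigma p e hk₀ f g π hπ = 𝟙 Y := by
  apply hπ.hom_ext
  · rw [Category.assoc, sigma_fst, tau, hπ.lift_fst, Category.id_comp]
  · rw [Category.assoc, sigma_snd, ← Category.assoc, tau, hπ.lift_snd, Category.assoc,
      ← Spec.map_comp, Category.id_comp]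
    have : CommRingCat.ofHom (iterateFrobenius k p e) ≫
        CommRingCat.ofHom (iterFrobEquiv (k := k) p e).symm.toRingHom = 𝟙 _ := by
      ext c
      simp only [CommRingCat.hom_comp, CommRingCat.hom_ofHom, RingHom.comp_apply]
      exact (iterFrobEquiv (k := k) p e).symm_apply_apply c
    rw [this, Spec.map_id, Category.comp_id]

instance : IsIso (sigma p e hk₀ f g π hπ) :=
  ⟨tau p e hk₀ f g π hπ, sigma_tau p e hk₀ f g π hπ, tau_sigma p e hk₀ f g π hπ⟩

/-- `σ ≫ F` is the absolute `q`-Frobenius of `Y`. -/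
theorem sigma_comp_eq_frobIter (FX : X ⟶ X) (hFX : FX = frobIter X p e)
    (F : Y ⟶ Y) (hFg : F ≫ g = g) (hF : F ≫ π = π ≫ FX) :
    sigma p e hk₀ f g π hπ ≫ F = frobIter Y p e := by
  apply hπ.hom_ext
  · rw [Category.assoc, hF, ← Category.assoc, sigma_fst, frobIter_comp, hFX]
  · rw [Category.assoc, hFg, sigma_snd, frobIter_comp_toSpec]

end Sigma

end Groth.Agent.H9.FrobDegB
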