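import Mathlib
import Groth.Prelude.Def_Frob
import Groth.Agent.Lib.Helper9.Misc.FrobDegA
import Groth.Agent.Lib.Helper9.Misc.FrobDegB
import Groth.Agent.Lib.Helper9.Misc.FrobDegD

/-! Helper9: the degree of the geometric Frobenius of `X ×_{k₀} k` at the generic point is
`q ^ dim`. -/

open AlgebraicGeometry CategoryTheory FrobSch IntermediateField

universe u

namespace Groth.Agent.H9.FrobDegE

open Groth.Agent.H9.FrobDegA Groth.Agent.H9.FrobDegB Groth.Agent.H9.FrobDegD

/-- transfer of degree along a ring isomorphism -/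
theorem finrank_subfield_map {L' L : Type*} [Field L'] [Field L] (e' : L' ≃+* L)
    (S' : Subfield L') :
    Module.finrank (S'.map e'.toRingHom) L = Module.finrank S' L' := by
  rw [← Subfield.relfinrank_top_right, ← Subfield.relfinrank_top_right]
  have : (⊤ : Subfield L) = (⊤ : Subfield L').map e'.toRingHom := by
    rw [← RingHom.fieldRange_eq_map]
    symm
    rw [RingHom.fieldRange_eq_top_iff]
    exact e'.surjective
  rw [this, Subfield.relfinrank_map_map]

theorem generic_fixed {Y : Scheme.{u}} [IrreducibleSpace Y] (σ : Y ⟶ Y) [IsIso σ] :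
    σ (genericPoint Y) = genericPoint Y := genericPoint_eq_of_isOpenImmersion σ

theorem residueDegree_frob {k₀ k : Type u} [Field k₀] [Finite k₀] [Field k] [IsAlgClosed k]
    [Algebra k₀ k] {X Y : Scheme.{u}} (f : X ⟶ Spec (CommRingCat.of k₀))
    (FX : X ⟶ X) (hFb : FX.base = 𝟙 _) (hle : ∀ U : X.Opens, U ≤ FX ⁻¹ᵁ U)
    (hFapp : ∀ (U : X.Opens) (s : Γ(X, U)), (FX.appLE U U (hle U)).hom s = s ^ Nat.card k₀)
    (g : Y ⟶ Spec (CommRingCat.of k)) [IsIntegral Y] [LocallyOfFiniteType g] (π : Y ⟶ X)
    (hπ : IsPullback π g f (Spec.map (CommRingCat.ofHom (algebraMap k₀ k))))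
    (F : Y ⟶ Y) (hFg : F ≫ g = g) (hF : F ≫ π = π ≫ FX) :
    ∃ n : ℕ, topologicalKrullDim Y = n ∧ F (genericPoint Y) = genericPoint Y ∧
      F.residueDegree (genericPoint Y) = (Nat.card k₀) ^ n := by
  have := Fintype.ofFinite k₀
  obtain ⟨p, hp⟩ := CharP.exists k₀
  have hprime : Fact p.Prime := ⟨CharP.char_is_prime k₀ p⟩
  obtain ⟨e, -, hcard⟩ := FiniteField.card k₀ p
  have hcard' : Nat.card k₀ = p ^ (e : ℕ) := by rw [Nat.card_eq_fintype_card, hcard]
  have hk₀ : ∀ c : k₀, c ^ (p ^ (e : ℕ)) = c := fun c => by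
    rw [← hcard]; exact FiniteField.pow_card c
  have : CharP k p := charP_of_injective_algebraMap (algebraMap k₀ k).injective p
  have : ExpChar k p := ExpChar.prime hprime.out
  have : PerfectRing k p := PerfectField.toPerfectRing p
  have : IsCharP X p := IsCharP.of_hom f p
  have : IsCharP Y p := IsCharP.of_hom g p
  have hFX : FX = frobIter X p e := by
    refine eq_of_isQFrob (p ^ (e : ℕ)) FX (frobIter X p e) hFb (frobIter_base X p e) hle
      (frobIter_le X p e) ?_ (frobIter_appLE X p e)
    intro U s
    rw [hFapp, hcard']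
  have hσ := sigma_comp_eq_frobIter p e hk₀ f g π hπ FX hFX F hFg hF
  set σ := sigma p (e : ℕ) hk₀ f g π hπ with hσdef
  set η := genericPoint Y with hη
  -- transcendence data
  let algL : Algebra k Y.functionField := (toFunctionField g).toAlgebra
  obtain ⟨n, hn, x, hx, hfin⟩ := exists_transcendence_data g
  have hFη : F η = η := by
    have h1 : (σ ≫ F) η = (frobIter Y p e) η := by rw [hσ]
    have h2 : (frobIter Y p e) η = η := by
      have := congrArg (fun g => g η) (frobIter_base Y p e)
      exact this
    have h3 : (σ ≫ F) η = F (σ η) := rfl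
    rw [h3, hη, generic_fixed σ] at h1
    rw [hη, h1, ← hη, h2]
  refine ⟨n, hn, hFη, ?_⟩
  have : CharP Y.functionField p :=
    charP_of_injective_algebraMap (algebraMap k Y.functionField).injective p
  have : ExpChar Y.functionField p := ExpChar.prime hprime.out
  have hA := finrank_fieldRange_iterateFrobenius k Y.functionField p e n x hx
  -- residue degrees
  have h1 : F.residueDegree η = (frobIter Y p e).residueDegree η := by
    rw [← hσ, residueDegree_iso_comp σ F η, hη, generic_fixed σ]
  rw [h1, residueDegree_eq_finrank_fieldRange, hcard', ← hA]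
  let e'' : Y.functionField ≃+* Y.residueField η :=
    RingEquiv.ofBijective (Y.residue η).hom ⟨(Y.residue η).hom.injective, Y.residue_surjective η⟩
  have hS : ((frobIter Y p e).residueFieldMap η).hom.fieldRange =
      ((iterateFrobenius Y.functionField p e).fieldRange).map e''.toRingHom := by
    have hr := range_residueFieldMap_of_isQFrob (p ^ (e : ℕ)) (frobIter Y p e)
      (frobIter_base Y p e) (frobIter_le Y p e) (frobIter_appLE Y p e) η
    ext c
    constructor
    · intro hc
      have hc' : c ∈ Set.range ((frobIter Y p e).residueFieldMap η).hom := hc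
      rw [hr] at hc'
      obtain ⟨a, rfl⟩ := hc'
      obtain ⟨a', rfl⟩ := e''.surjective a
      refine ⟨a' ^ (p ^ (e : ℕ)), ⟨a', rfl⟩, ?_⟩
      exact map_pow e'' a' _
    · rintro ⟨b, ⟨a', rfl⟩, rfl⟩
      have : (e''.toRingHom (iterateFrobenius Y.functionField p e a')) ∈
          Set.range ((frobIter Y p e).residueFieldMap η).hom := by
        rw [hr]
        exact ⟨e'' a', (map_pow e'' a' _).symm⟩
      exact this
  rw [hS, finrank_subfield_map]

end Groth.Agent.H9.FrobDegE
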