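import Mathlib

/-! Helper9: linear algebra for endomorphisms that are adjoint up to a scalar with respect to a
perfect pairing (used for the Frobenius action on Weil cohomology). -/

open Polynomial

namespace Groth.Agent.H9.FrobDegLA

section Matrix
variable {K : Type*} [Field K] {ι : Type*} [Fintype ι] [DecidableEq ι]

theorem comp_charpoly (M : Matrix ι ι K) (q : K[X]) :
    M.charpoly.comp q = (Matrix.scalar ι q - C.mapMatrix M).det := by
  have h : M.charpoly.comp q = (Polynomial.compRingHom q) M.charpoly := rfl
  rw [h, Matrix.charpoly, RingHom.map_det]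
  congr 1
  ext i j
  simp only [RingHom.mapMatrix_apply, Matrix.map_apply, Matrix.charmatrix_apply, Matrix.sub_apply,
    Matrix.scalar_apply, Matrix.diagonal_apply]
  by_cases hij : i = j
  · subst hij; simp [Polynomial.coe_compRingHom_apply]
  · simp [hij, Polynomial.coe_compRingHom_apply]

theorem matrix_identity (M N : Matrix ι ι K) (c : K) (h : N * M = c • 1) :
    C M.det * N.charpoly.reverse = (-1) ^ Fintype.card ι * M.charpoly.comp (C c * X) := by
  rw [Matrix.reverse_charpoly, Matrix.charpolyRev, comp_charpoly]
  have h1 : C M.det = (C.mapMatrix M).det := by rw [RingHom.map_det]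
  rw [h1, mul_comm, ← Matrix.det_mul]
  have h2 : (1 - (X : K[X]) • N.map C) * C.mapMatrix M =
      -(Matrix.scalar ι (C c * X) - C.mapMatrix M) := by
    have hNM : N.map C * C.mapMatrix M = C.mapMatrix (c • (1 : Matrix ι ι K)) := by
      rw [← h]
      simp [Matrix.map_mul]
    rw [sub_mul, one_mul, Matrix.smul_mul, hNM]
    ext i j
    simp only [RingHom.mapMatrix_apply, Matrix.map_apply, Matrix.sub_apply, Matrix.smul_apply,
      Matrix.neg_apply, Matrix.scalar_apply, Matrix.diagonal_apply, Matrix.one_apply, smul_eq_mul]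
    by_cases hij : i = j
    · subst hij; simp
    · simp [hij]
  rw [h2, Matrix.det_neg]

end Matrix

section LinearMap
variable {K V W : Type*} [Field K] [AddCommGroup V] [Module K V] [AddCommGroup W] [Module K W]
  [FiniteDimensional K V] [FiniteDimensional K W]

theorem charpoly_dualMap (f : V →ₗ[K] V) : f.dualMap.charpoly = f.charpoly := by
  set b := Module.Free.chooseBasis K V
  have : Fintype (Module.Free.ChooseBasisIndex K V) :=
    Module.Free.ChooseBasisIndex.fintype K V
  classical
  rw [← LinearMap.charpoly_toMatrix f b, ← LinearMap.charpoly_toMatrix f.dualMap b.dualBasis]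
  simp [LinearMap.dualMap_def, LinearMap.toMatrix_transpose, Matrix.charpoly_transpose]

variable (B : V →ₗ[K] W →ₗ[K] K) [B.IsPerfPair] (φ : V →ₗ[K] V) (ψ : W →ₗ[K] W) (c : K)

/-- the transpose of `ψ` with respect to the pairing -/
noncomputable def adj : V →ₗ[K] V :=
  B.toPerfPair.symm.toLinearMap ∘ₗ ψ.dualMap ∘ₗ B.toPerfPair.toLinearMap

theorem adj_comp (h : ∀ a b, B (φ a) (ψ b) = c * B a b) : adj B ψ ∘ₗ φ = c • LinearMap.id := by
  ext a
  apply B.toPerfPair.injective
  ext b
  simp only [adj, LinearMap.coe_comp, LinearEquiv.coe_coe, Function.comp_apply,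
    LinearEquiv.apply_symm_apply, LinearMap.dualMap_apply, LinearMap.toPerfPair_apply,
    LinearMap.smul_apply, LinearMap.id_apply, map_smul, smul_eq_mul]
  exact h a b

theorem det_adj : LinearMap.det (adj B ψ) = LinearMap.det ψ := by
  have := LinearMap.det_conj ψ.dualMap B.toPerfPair.symm
  rw [LinearMap.det_dualMap] at this
  rw [← this]
  rfl

theorem charpoly_adj : (adj B ψ).charpoly = ψ.charpoly := by
  have := LinearEquiv.charpoly_conj B.toPerfPair.symm ψ.dualMap
  rw [charpoly_dualMap] at this
  rw [← this]
  rfl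

theorem det_mul_det (h : ∀ a b, B (φ a) (ψ b) = c * B a b) :
    LinearMap.det ψ * LinearMap.det φ = c ^ Module.finrank K V := by
  rw [← det_adj B ψ, ← LinearMap.det_comp, adj_comp B φ ψ c h, LinearMap.det_smul,
    LinearMap.det_id, mul_one]

theorem charpoly_identity (h : ∀ a b, B (φ a) (ψ b) = c * B a b) :
    LinearMap.det φ • ψ.charpoly.reverse =
      (-1 : K[X]) ^ Module.finrank K V * φ.charpoly.comp (C c * X) := by
  classical
  set b := Module.Free.chooseBasis K V
  have : Fintype (Module.Free.ChooseBasisIndex K V) :=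
    Module.Free.ChooseBasisIndex.fintype K V
  have hNM : LinearMap.toMatrix b b (adj B ψ) * LinearMap.toMatrix b b φ = c • 1 := by
    rw [← LinearMap.toMatrix_comp, adj_comp B φ ψ c h, map_smul, LinearMap.toMatrix_id]
  have := matrix_identity _ _ c hNM
  rw [LinearMap.charpoly_toMatrix, LinearMap.charpoly_toMatrix, LinearMap.det_toMatrix,
    charpoly_adj, ← Module.finrank_eq_card_basis b] at this
  rw [Polynomial.smul_eq_C_mul]
  exact this

end LinearMap

end Groth.Agent.H9.FrobDegLA
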