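import Mathlib
import Groth.Prelude.Def_WeilCoh

/-!
# Helper9: formal consequences of the axioms of a Weil cohomology theory (part A: push-forward)
-/

set_option autoImplicit false

universe u v w

open AlgebraicGeometry CategoryTheory

namespace Groth.Agent.H9.WeilA

open WeilCoh

variable {k : Type u} [Field k] {P : ObjectProperty (Over (Spec (CommRingCat.of k)))}
variable {K : Type v} [Field K] (T : TheoryOn.{u, v, w} k P K)

theorem mem_of_eq {X : P.FullSubcategory} {i j : ℤ} (h : i = j) {a : T.H X}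
    (ha : a ∈ T.gr X i) : a ∈ T.gr X j := h ▸ ha

theorem pairing_apply {A : Type w} [Ring A] [Algebra K A] (S S' : Submodule K A) (t : A →ₗ[K] K)
    (a : S) (b : S') : pairing K S S' t a b = t ((a : A) * (b : A)) := rfl

/-- The defining property of the push-forward. -/
theorem tr_push_mul {X Y : P.FullSubcategory} (f : X ⟶ Y) (i : ℤ) (a : T.gr X i) (b : T.H Y)
    (hb : b ∈ T.gr Y (2 * (dim X.obj.left : ℤ) - i)) :
    T.tr Y ((T.push f i a : T.H Y) * b) = T.tr X ((a : T.H X) * T.pull f b) := by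
  have hperf := T.duality Y (i + 2 * (dim Y.obj.left : ℤ) - 2 * (dim X.obj.left : ℤ))
    (2 * (dim X.obj.left : ℤ) - i) (by omega)
  have h1 := LinearMap.apply_symm_toPerfPair_self
    (pairing K (T.gr Y (i + 2 * (dim Y.obj.left : ℤ) - 2 * (dim X.obj.left : ℤ)))
      (T.gr Y (2 * (dim X.obj.left : ℤ) - i)) (T.tr Y)) (T.pushFunctional f i a)
  have h2 := congrArg (fun φ => φ ⟨b, hb⟩) h1
  exact h2

/-- Same with the degree of the test element given up to equality. -/
theorem tr_push_mul' {X Y : P.FullSubcategory} (f : X ⟶ Y) (i : ℤ) (a : T.gr X i) (b : T.H Y)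
    {j : ℤ} (hj : j = 2 * (dim X.obj.left : ℤ) - i) (hb : b ∈ T.gr Y j) :
    T.tr Y ((T.push f i a : T.H Y) * b) = T.tr X ((a : T.H X) * T.pull f b) :=
  tr_push_mul T f i a b (hj ▸ hb)

/-- Nondegeneracy of the Poincaré pairing (left). -/
theorem eq_of_forall_tr {X : P.FullSubcategory} (m : ℤ) {c c' : T.H X} (hc : c ∈ T.gr X m)
    (hc' : c' ∈ T.gr X m)
    (h : ∀ b ∈ T.gr X (2 * (dim X.obj.left : ℤ) - m), T.tr X (c * b) = T.tr X (c' * b)) :
    c = c' := by
  have hperf := T.duality X m (2 * (dim X.obj.left : ℤ) - m) (by omega)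
  have hinj := hperf.bijective_left.1
  have : (⟨c, hc⟩ : T.gr X m) = ⟨c', hc'⟩ := by
    apply hinj
    ext b
    exact h b.1 b.2
  exact congrArg Subtype.val this

theorem eq_of_forall_tr' {X : P.FullSubcategory} (m : ℤ) {c c' : T.H X} {m₁ m₂ : ℤ}
    (h₁ : m₁ = m) (h₂ : m₂ = m) (hc : c ∈ T.gr X m₁) (hc' : c' ∈ T.gr X m₂)
    (h : ∀ b ∈ T.gr X (2 * (dim X.obj.left : ℤ) - m), T.tr X (c * b) = T.tr X (c' * b)) :
    c = c' :=
  eq_of_forall_tr T m (h₁ ▸ hc) (h₂ ▸ hc') h

theorem push_mem {X Y : P.FullSubcategory} (f : X ⟶ Y) (i : ℤ) (a : T.gr X i) :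
    (T.push f i a : T.H Y) ∈
      T.gr Y (i + 2 * (dim Y.obj.left : ℤ) - 2 * (dim X.obj.left : ℤ)) :=
  (T.push f i a).2

theorem nontrivial_H (X : P.FullSubcategory) : Nontrivial (T.H X) := by
  obtain ⟨a, ha⟩ := (T.tr_bijective X).2 1
  refine ⟨⟨(a : T.H X), 0, ?_⟩⟩
  intro h0
  have : T.tr X (a : T.H X) = 1 := ha
  rw [h0, map_zero] at this
  exact zero_ne_one this

theorem finrank_top (X : P.FullSubcategory) :
    Module.finrank K (T.gr X (2 * (dim X.obj.left : ℤ))) = 1 := by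
  have e := LinearEquiv.ofBijective _ (T.tr_bijective X)
  rw [e.finrank_eq, Module.finrank_self]

theorem one_mem (X : P.FullSubcategory) : (1 : T.H X) ∈ T.gr X 0 :=
  SetLike.one_mem_graded (T.gr X)

theorem algebraMap_mem (X : P.FullSubcategory) (c : K) : algebraMap K (T.H X) c ∈ T.gr X 0 := by
  rw [Algebra.algebraMap_eq_smul_one]
  exact (T.gr X 0).smul_mem c (one_mem T X)

theorem mul_mem {X : P.FullSubcategory} {i j : ℤ} {a b : T.H X} (ha : a ∈ T.gr X i)
    (hb : b ∈ T.gr X j) : a * b ∈ T.gr X (i + j) :=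
  SetLike.mul_mem_graded ha hb

include T in
/-- Dimension of a product, from the axioms. -/
theorem dim_prod {X Y Q : P.FullSubcategory} (p : Q ⟶ X) (q : Q ⟶ Y) (hQ : IsProd p q) :
    (dim Q.obj.left : ℤ) = dim X.obj.left + dim Y.obj.left := by
  obtain ⟨a, ha⟩ := (T.tr_bijective X).2 1
  obtain ⟨b, hb⟩ := (T.tr_bijective Y).2 1
  have h1 : T.tr Q (T.pull p a * T.pull q b) = 1 := by
    rw [T.tr_prod p q hQ a b a.2 b.2]
    have ha' : T.tr X (a : T.H X) = 1 := ha
    have hb' : T.tr Y (b : T.H Y) = 1 := hb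
    rw [ha', hb', mul_one]
  by_contra hne
  have hmem : T.pull p a * T.pull q b ∈
      T.gr Q (2 * (dim X.obj.left : ℤ) + 2 * (dim Y.obj.left : ℤ)) :=
    mul_mem T (T.pull_mem p _ a a.2) (T.pull_mem q _ b b.2)
  have := T.tr_vanish Q _ _ hmem (by omega)
  rw [h1] at this
  exact one_ne_zero this

end Groth.Agent.H9.WeilA
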