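import Mathlib
import Groth.Prelude.Def_WeilCoh
import Groth.Agent.H4.SmRed2
import Groth.Agent.Lib.Helper9.Misc.WeilCohA

/-!
# Helper9: Weil cohomology, part B: the point object, integrality, `cl X = 1`
-/

set_option autoImplicit false

universe u v w

open AlgebraicGeometry CategoryTheory CategoryTheory.Limits

namespace Groth.Agent.H9.WeilB

open WeilCoh

section Point

/-- A ring hom from the degree-zero localization away from `X 0` to any ring `R`
(evaluate all variables at 1). -/
noncomputable def awayHom (R : Type u) [CommRing R] :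
    HomogeneousLocalization.Away (CohB1.polyGrading 0 (ULift.{u} ℤ)) (MvPolynomial.X 0) →+* R :=
  let g : MvPolynomial (Fin (0 + 1)) (ULift.{u} ℤ) →+* R :=
    MvPolynomial.eval₂Hom
      ((Int.castRingHom R).comp (ULift.ringEquiv : ULift.{u} ℤ ≃+* ℤ).toRingHom) (fun _ => 1)
  (IsLocalization.Away.lift
    (S := Localization.Away (MvPolynomial.X 0 : MvPolynomial (Fin (0 + 1)) (ULift.{u} ℤ)))
    (MvPolynomial.X 0) (g := g) (by simp [g])).comp
    (algebraMap _ _)

noncomputable def projPoint (S : Scheme.{u}) : S ⟶ CohB1.ProjSpace 0 (ULift.{u} ℤ) :=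
  S.toSpecΓ ≫ Spec.map (CommRingCat.ofHom (awayHom Γ(S, ⊤))) ≫
    Proj.awayι (CohB1.polyGrading 0 (ULift.{u} ℤ)) (MvPolynomial.X 0)
      (MvPolynomial.isHomogeneous_X _ _) Nat.one_pos

noncomputable def sec (S : Scheme.{u}) : S ⟶ CohB1.ProjSpaceOver 0 S :=
  pullback.lift (projPoint S) (𝟙 S) (specULiftZIsTerminal.hom_ext _ _)

theorem sec_toBase (S : Scheme.{u}) : sec S ≫ CohB1.ProjSpaceOver.toBase 0 S = 𝟙 S :=
  pullback.lift_snd _ _ _

instance (S : Scheme.{u}) : IsSeparated (CohB1.ProjSpaceOver.toBase 0 S) := by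
  unfold CohB1.ProjSpaceOver.toBase CohB1.ProjSpaceOver
  have h1 : IsSeparated (Proj.toSpecZero (CohB1.polyGrading 0 (ULift.{u} ℤ))) :=
    Proj.isSeparated _
  have : IsSeparated (CohB1.ProjSpace.toSpec 0 (ULift.{u} ℤ)) := by
    unfold CohB1.ProjSpace.toSpec
    exact MorphismProperty.comp_mem _ _ _ h1 inferInstance
  exact MorphismProperty.of_isPullback (P := @IsSeparated) (IsPullback.of_hasPullback _ _) this

theorem sec_closed (S : Scheme.{u}) : IsClosedImmersion (sec S) := by
  have : IsClosedImmersion (sec S ≫ CohB1.ProjSpaceOver.toBase 0 S) := by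
    rw [sec_toBase]; infer_instance
  exact IsClosedImmersion.of_comp (sec S) (CohB1.ProjSpaceOver.toBase 0 S)

variable (k : Type u) [Field k]

theorem isProjectiveOver_id :
    Neron.IsProjectiveOver k (Over.mk (𝟙 (Spec (CommRingCat.of k)))) :=
  ⟨0, sec _, sec_closed _, sec_toBase _⟩

theorem isVar_pt : IsVar k (Over.mk (𝟙 (Spec (CommRingCat.of k)))) := by
  refine ⟨?_, isProjectiveOver_id k, ?_⟩
  · show Smooth (𝟙 (Spec (CommRingCat.of k)))
    infer_instance
  · show IrreducibleSpace ↥(Spec (CommRingCat.of k))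
    infer_instance

/-- The point `Spec k` as an object of `Var k`. -/
noncomputable def pt : Var k := ⟨Over.mk (𝟙 (Spec (CommRingCat.of k))), isVar_pt k⟩

/-- The structure morphism as a morphism in `Var k`. -/
noncomputable def toPt (X : Var k) : X ⟶ pt k :=
  ObjectProperty.homMk (Over.homMk X.obj.hom (by simp [pt]))

@[simp] theorem sm_toPt (X : Var k) : sm (toPt k X) = X.obj.hom := rfl

instance : Subsingleton ↥(pt k).obj.left := by
  show Subsingleton (PrimeSpectrum k)
  infer_instance

instance : Nonempty ↥(pt k).obj.left := by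
  show Nonempty (PrimeSpectrum k)
  infer_instance

end Point

section Dim

theorem natDim_eq_zero_of_subsingleton (Z : Type u) [TopologicalSpace Z] [Subsingleton Z] :
    natDim Z = 0 := by
  unfold natDim
  by_cases h : IsEmpty Z
  · have : topologicalKrullDim Z = ⊥ := by
      unfold topologicalKrullDim
      have : IsEmpty (TopologicalSpace.IrreducibleCloseds Z) :=
        ⟨fun s => h.elim s.isIrreducible'.1.some⟩
      exact Order.krullDim_eq_bot
    rw [this]; rfl
  · rw [not_isEmpty_iff] at h
    have h1 : topologicalKrullDim Z ≤ 0 := by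
      have : DiscreteTopology Z := by infer_instance
      exact topologicalKrullDim_zero_of_discreteTopology Z
    have h2 : 0 ≤ topologicalKrullDim Z := by
      unfold topologicalKrullDim
      have : Nonempty (TopologicalSpace.IrreducibleCloseds Z) := by
        obtain ⟨z⟩ := h
        exact ⟨⟨closure {z}, isIrreducible_singleton.closure, isClosed_closure⟩⟩
      exact Order.krullDim_nonneg
    rw [le_antisymm h1 h2]; rfl

theorem natDim_univ (Z : Type u) [TopologicalSpace Z] : natDim ↥(Set.univ : Set Z) = natDim Z := by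
  unfold natDim
  rw [IsHomeomorph.topologicalKrullDim_eq _ (Homeomorph.Set.univ Z).isHomeomorph]

theorem natDim_congr {Z : Type u} [TopologicalSpace Z] {A B : Set Z} (h : A = B) :
    natDim ↥A = natDim ↥B := by subst h; rfl

end Dim

end Groth.Agent.H9.WeilB
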