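import Mathlib
import Groth.Prelude.Def_WeilCoh
import Groth.Agent.Lib.Helper9.Misc.WeilCohB

/-!
# Helper9: Weil cohomology, part C: `cl X = 1`
-/

set_option autoImplicit false

universe u v w

open AlgebraicGeometry CategoryTheory CategoryTheory.Limits

namespace Groth.Agent.H9.WeilC

open WeilCoh Groth.Agent.H9.WeilA Groth.Agent.H9.WeilB

variable {k : Type u} [Field k]

theorem isReduced_of_isVar (X : Var k) : IsReduced X.obj.left := by
  have : Smooth X.obj.hom := X.property.1
  exact Groth.Agent.H4.SmRed.isReduced_of_smooth_scheme X.obj.hom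

theorem isIntegral_of_isVar (X : Var k) : IsIntegral X.obj.left := by
  have := isReduced_of_isVar X
  have : IrreducibleSpace ↥X.obj.left := X.property.2.2
  exact isIntegral_of_irreducibleSpace_of_isReduced _

theorem dim_pt : dim (pt k).obj.left = 0 := natDim_eq_zero_of_subsingleton _

theorem pdim_pt (ξ : (pt k).obj.left) : pdim (pt k).obj.left ξ = 0 :=
  natDim_eq_zero_of_subsingleton _

theorem pdim_genericPoint (X : Scheme.{u}) [IrreducibleSpace ↥X] :
    pdim X (genericPoint ↥X) = dim X := by
  unfold pdim dim
  rw [natDim_congr (genericPoint_spec ↥X), natDim_univ]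

/-- The stalk of `Spec k` (k a field) at any point is a field. -/
theorem isField_stalk_spec (k : Type u) [Field k] (y : Spec (CommRingCat.of k)) :
    IsField ((Spec (CommRingCat.of k)).presheaf.stalk y) := by
  let y' : PrimeSpectrum k := y
  have hp : y'.asIdeal.IsPrime := y'.isPrime
  show IsField ((Spec.structureSheaf k).presheaf.stalk y')
  have hloc : IsLocalization.AtPrime ((Spec.structureSheaf k).presheaf.stalk y') y'.asIdeal :=
    inferInstance
  have hM : y'.asIdeal.primeCompl ≤ IsUnit.submonoid k := by
    intro a ha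
    have ha0 : a ≠ 0 := by
      rintro rfl
      exact ha (Ideal.zero_mem _)
    exact ha0.isUnit
  let e2 : k ≃ₐ[k] ((Spec.structureSheaf k).presheaf.stalk y') :=
    IsLocalization.atUnits k y'.asIdeal.primeCompl hM
  exact e2.symm.toMulEquiv.isField (Field.toIsField k)

theorem ker_eq_bot_of_isField {A B : Type*} [CommRing A] [CommRing B] [Nontrivial B]
    (hA : IsField A) (φ : A →+* B) : RingHom.ker φ = ⊥ := by
  let _ := hA.toField
  exact (RingHom.injective_iff_ker_eq_bot φ).1 φ.injective


theorem pdim_of_isClosed (X : Scheme.{u}) (x : X) (hx : IsClosed ({x} : Set X)) : pdim X x = 0 := by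
  unfold pdim
  rw [natDim_congr hx.closure_eq]
  exact natDim_eq_zero_of_subsingleton _

theorem residueDegree_eq_one_of_isClosed {X : Scheme.{u}} {K : Type u} [Field K] [IsAlgClosed K]
    (f : X ⟶ Spec (.of K)) [LocallyOfFiniteType f] (x : X) (hx : IsClosed {x}) :
    f.residueDegree x = 1 := by
  unfold Scheme.Hom.residueDegree
  let _ := (f.residueFieldMap x).hom.toAlgebra
  -- the composite K → κ(f x) → κ(x) is bijective
  have hbij : Function.Bijective (residueFieldIsoBase f x hx).inv.hom :=
    (ConcreteCategory.isIso_iff_bijective _).1 inferInstance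
  have hcomp : Spec.map (residueFieldIsoBase f x hx).inv =
      Spec.map (f.residueFieldMap x) ≫ (Spec (.of K)).fromSpecResidueField (f x) := by
    rw [SpecMap_residueFieldIsoBase_inv, Scheme.Hom.SpecMap_residueFieldMap_fromSpecResidueField]
  have hsurj : Function.Surjective (f.residueFieldMap x).hom := by
    have h2 : (residueFieldIsoBase f x hx).inv =
        Spec.preimage ((Spec (.of K)).fromSpecResidueField (f x)) ≫ f.residueFieldMap x := by
      apply Spec.map_injective
      rw [hcomp, Spec.map_comp, Spec.map_preimage]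
    intro b
    obtain ⟨a, ha⟩ := hbij.2 b
    refine ⟨(Spec.preimage ((Spec (.of K)).fromSpecResidueField (f x))).hom a, ?_⟩
    rw [← ha, h2]
    rfl
  have hbij2 : Function.Bijective (algebraMap ((Spec (.of K)).residueField (f x)) (X.residueField x)) :=
    ⟨(f.residueFieldMap x).hom.injective, hsurj⟩
  rw [(LinearEquiv.ofBijective (Algebra.linearMap ((Spec (.of K)).residueField (f x)) (X.residueField x)) hbij2).symm.finrank_eq]
  exact Module.finrank_self _

variable {K : Type v} [Field K] (T : TheoryOn.{u, v, w} k (IsVar k) K)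

theorem preimMult_toPt (X : Var k) [IrreducibleSpace ↥X.obj.left] (ξ : (pt k).obj.left)
    (h : sm (toPt k X) (genericPoint ↥X.obj.left) ∈ closure ({ξ} : Set (pt k).obj.left)) :
    preimMult (sm (toPt k X)) ξ (genericPoint ↥X.obj.left) h = 1 := by
  have hint := isIntegral_of_isVar X
  unfold preimMult
  have hker : RingHom.ker (Cyc.specMap (sm (toPt k X) (genericPoint ↥X.obj.left)) ξ
      (specializes_iff_mem_closure.mpr h)) = ⊥ :=
    ker_eq_bot_of_isField (isField_stalk_spec k _) _
  rw [hker, Ideal.map_bot]
  have hlen : Module.length (X.obj.left.presheaf.stalk (genericPoint ↥X.obj.left))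
      (X.obj.left.presheaf.stalk (genericPoint ↥X.obj.left) ⧸
        (⊥ : Ideal (X.obj.left.presheaf.stalk (genericPoint ↥X.obj.left)))) = 1 := by
    rw [(Submodule.quotEquivOfEqBot (⊥ : Ideal (X.obj.left.presheaf.stalk
      (genericPoint ↥X.obj.left))) rfl).length_eq]
    let _ : Field (X.obj.left.presheaf.stalk (genericPoint ↥X.obj.left)) :=
      inferInstanceAs (Field X.obj.left.functionField)
    exact Module.length_eq_one_iff.mpr inferInstance
  rw [hlen]
  rfl

theorem isCompPt_iff (X : Var k) [IrreducibleSpace ↥X.obj.left] (ξ : (pt k).obj.left)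
    (w : X.obj.left) :
    IsCompPt ((sm (toPt k X)) ⁻¹' closure ({ξ} : Set (pt k).obj.left)) w ↔
      w = genericPoint ↥X.obj.left := by
  have hF : (sm (toPt k X)) ⁻¹' closure ({ξ} : Set (pt k).obj.left) = Set.univ := by
    ext x
    simp only [Set.mem_preimage, Set.mem_univ, iff_true]
    rw [Subsingleton.elim (sm (toPt k X) x) ξ]
    exact subset_closure rfl
  rw [hF]
  constructor
  · rintro ⟨-, h⟩
    exact (h _ (Set.mem_univ _) (genericPoint_specializes w)).symm
  · rintro rfl
    refine ⟨Set.mem_univ _, fun w' _ hw' => ?_⟩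
    have h1 : IsGenericPoint w' (Set.univ : Set X.obj.left) := by
      unfold IsGenericPoint
      apply Set.eq_univ_of_univ_subset
      rw [← (show closure {genericPoint ↥X.obj.left} = Set.univ from genericPoint_spec ↥X.obj.left)]
      exact closure_minimal (Set.singleton_subset_iff.mpr (specializes_iff_mem_closure.1 hw'))
        isClosed_closure
    exact h1.eq (genericPoint_spec ↥X.obj.left)

/-- The class of `X` itself is `1`. -/
theorem cl_generic (X : Var k) [IrreducibleSpace ↥X.obj.left] :
    T.cl X (genericPoint ↥X.obj.left) = 1 := by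
  obtain ⟨ξ⟩ : Nonempty (pt k).obj.left := inferInstance
  have hpt := T.point (pt k) dim_pt
  have hpull := T.cl_pull (toPt k X) ξ ?_ ?_
  · rw [hpt.1 ξ, map_one] at hpull
    have hη : IsCompPt ((sm (toPt k X)) ⁻¹' closure ({ξ} : Set (pt k).obj.left))
        (genericPoint ↥X.obj.left) := (isCompPt_iff X ξ _).2 rfl
    rw [finsum_eq_single _ (⟨genericPoint ↥X.obj.left, hη⟩ :
      {w : X.obj.left // IsCompPt ((sm (toPt k X)) ⁻¹' closure ({ξ} : Set (pt k).obj.left)) w})
      (by
        intro w hw
        exact absurd (Subtype.ext ((isCompPt_iff X ξ w.1).1 w.2)) hw)] at hpull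
    rw [preimMult_toPt X ξ hη.1] at hpull
    simpa using hpull.symm
  · intro w hw
    rw [(isCompPt_iff X ξ w).1 hw, pdim_genericPoint, pdim_pt, dim_pt]
    simp
  · left
    refine ⟨⊤, fun _ _ => trivial, ?_⟩
    have : Smooth (sm (toPt k X)) := X.property.1
    infer_instance

end Groth.Agent.H9.WeilC
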