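import Mathlib
import Groth.Prelude.Def_WeilCoh
import Groth.Agent.Lib.Helper9.Misc.WeilCohA
import Groth.Agent.Lib.Helper9.Misc.WeilCohC
import Groth.Agent.Lib.Helper9.Misc.FrobDegE
import Groth.Agent.Lib.Helper9.Misc.FrobDegLA

/-! Helper9: the Frobenius action on a Weil cohomology: `F^*` is multiplication by `q^n` on the
top degree, and the determinant / characteristic polynomial dualities. -/

set_option autoImplicit false

universe u v

open AlgebraicGeometry CategoryTheory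

namespace Groth.Agent.H9.FrobDegC

open WeilCoh Groth.Agent.H9.WeilA Groth.Agent.H9.WeilC Groth.Agent.H9.FrobDegE
  Groth.Agent.H9.FrobDegLA

section
variable (k₀ : Type u) [Field k₀] [Finite k₀] (k : Type u) [Field k] [IsAlgClosed k] [Algebra k₀ k]
    (K : Type v) [Field K] [CharZero K] (T : WeilCoh.Theory k K)
    {X : Scheme.{u}} (f : X ⟶ Spec (CommRingCat.of k₀))
    (FX : X ⟶ X) (hFb : FX.base = 𝟙 _) (hle : ∀ U : X.Opens, U ≤ FX ⁻¹ᵁ U)
    (hFapp : ∀ (U : X.Opens) (s : Γ(X, U)), (FX.appLE U U (hle U)).hom s = s ^ Nat.card k₀)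
    (Xb : WeilCoh.Var k) (π : Xb.obj.left ⟶ X)
    (hπ : IsPullback π Xb.obj.hom f (Spec.map (CommRingCat.ofHom (algebraMap k₀ k))))
    (F : Xb ⟶ Xb) (hF : WeilCoh.sm F ≫ π = π ≫ FX)

include hFb hFapp hπ hF in
/-- `F^*` multiplies the trace of a top-degree class by `q^n`. -/
theorem tr_pull_frob (a : T.H Xb) (ha : a ∈ T.gr Xb (2 * (dim Xb.obj.left : ℤ))) :
    T.tr Xb (T.pull F a) = (Nat.card k₀ : K) ^ (dim Xb.obj.left) * T.tr Xb a := by
  have hint : IsIntegral Xb.obj.left := isIntegral_of_isVar Xb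
  have hirr : IrreducibleSpace ↥Xb.obj.left := Xb.property.2.2
  have hsm : Smooth Xb.obj.hom := Xb.property.1
  have hlft : LocallyOfFiniteType Xb.obj.hom := inferInstance
  have hFg : sm F ≫ Xb.obj.hom = Xb.obj.hom := Over.w F.hom
  obtain ⟨n, hn, hFη, hdeg⟩ :=
    residueDegree_frob f FX hFb hle hFapp Xb.obj.hom π hπ (sm F) hFg hF
  have hdim : dim Xb.obj.left = n := by
    unfold dim natDim
    rw [hn]
    rfl
  have hpd : pdim Xb.obj.left (genericPoint ↥Xb.obj.left) = dim Xb.obj.left :=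
    pdim_genericPoint Xb.obj.left
  have hpush := T.cl_push F (genericPoint ↥Xb.obj.left) a (by rw [hpd]; exact ha)
  rw [hFη, cl_generic T Xb, one_mul, one_mul, hdeg] at hpush
  rw [hpush, hdim]
  push_cast
  rfl

include hFb hFapp hπ hF in
theorem pairing_frob (i : ℤ) (a : T.gr Xb i) (b : T.gr Xb (2 * (dim Xb.obj.left : ℤ) - i)) :
    pairing K (T.gr Xb i) (T.gr Xb (2 * (dim Xb.obj.left : ℤ) - i)) (T.tr Xb)
        (T.pullDeg F i a) (T.pullDeg F (2 * (dim Xb.obj.left : ℤ) - i) b) =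
      (Nat.card k₀ : K) ^ (dim Xb.obj.left) *
        pairing K (T.gr Xb i) (T.gr Xb (2 * (dim Xb.obj.left : ℤ) - i)) (T.tr Xb) a b := by
  rw [pairing_apply, pairing_apply]
  have h1 : ((T.pullDeg F i a : T.gr Xb i) : T.H Xb) = T.pull F (a : T.H Xb) := rfl
  have h2 : ((T.pullDeg F (2 * (dim Xb.obj.left : ℤ) - i) b :
      T.gr Xb (2 * (dim Xb.obj.left : ℤ) - i)) : T.H Xb) = T.pull F (b : T.H Xb) := rfl
  rw [h1, h2, ← map_mul]
  apply tr_pull_frob k₀ k K T f FX hFb hle hFapp Xb π hπ F hF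
  exact mem_of_eq T (by ring) (SetLike.mul_mem_graded a.2 b.2)

include hFb hFapp hπ hF in
theorem det_mul_det_frob (i : ℤ) :
    LinearMap.det (T.pullDeg F (2 * (dim Xb.obj.left : ℤ) - i)) * LinearMap.det (T.pullDeg F i) =
      (Nat.card k₀ : K) ^ (dim Xb.obj.left * Module.finrank K ↥(T.gr Xb i)) := by
  have hperf := T.duality Xb i (2 * (dim Xb.obj.left : ℤ) - i) (by ring)
  rw [pow_mul]
  exact det_mul_det _ (T.pullDeg F i) (T.pullDeg F (2 * (dim Xb.obj.left : ℤ) - i)) _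
    (pairing_frob k₀ k K T f FX hFb hle hFapp Xb π hπ F hF i)

include hFb hFapp hπ hF in
theorem charpoly_frob (i : ℤ) :
    LinearMap.det (T.pullDeg F i) •
        (LinearMap.charpoly (T.pullDeg F (2 * (dim Xb.obj.left : ℤ) - i))).reverse =
      (-1 : Polynomial K) ^ Module.finrank K ↥(T.gr Xb i) *
        (LinearMap.charpoly (T.pullDeg F i)).comp
          (Polynomial.C ((Nat.card k₀ : K) ^ dim Xb.obj.left) * Polynomial.X) := by
  have hperf := T.duality Xb i (2 * (dim Xb.obj.left : ℤ) - i) (by ring)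
  exact charpoly_identity _ (T.pullDeg F i) (T.pullDeg F (2 * (dim Xb.obj.left : ℤ) - i)) _
    (pairing_frob k₀ k K T f FX hFb hle hFapp Xb π hπ F hF i)

end

end Groth.Agent.H9.FrobDegC
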