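import Mathlib

/-! Helper9: the formal functional equation for an alternating product of reversed
characteristic polynomials, and auxiliary parity lemmas. -/

open Polynomial

namespace Groth.Agent.H9.FrobDegFE


theorem sum_alt_split (n : ℕ) (b : ℕ → ℤ) :
    ∑ i ∈ Finset.range (2 * n + 1), (-1 : ℤ) ^ i * b i =
      ∑ i ∈ Finset.range (n + 1), b (2 * i) - ∑ i ∈ Finset.range n, b (2 * i + 1) := by
  induction n with
  | zero => simp
  | succ n ih =>
    have e : 2 * (n + 1) + 1 = (2 * n + 1) + 1 + 1 := by ring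
    have h1 : (-1 : ℤ) ^ (2 * n + 1) = -1 := by
      rw [pow_succ, pow_mul]; simp
    have h2 : (-1 : ℤ) ^ (2 * n + 1 + 1) = 1 := by
      rw [pow_succ, h1]; simp
    have r1 : ∑ i ∈ Finset.range (n + 1 + 1), b (2 * i) =
        ∑ i ∈ Finset.range (n + 1), b (2 * i) + b (2 * (n + 1)) := Finset.sum_range_succ _ _
    have r2 : ∑ i ∈ Finset.range (n + 1), b (2 * i + 1) =
        ∑ i ∈ Finset.range n, b (2 * i + 1) + b (2 * n + 1) := Finset.sum_range_succ _ _
    rw [e, Finset.sum_range_succ, Finset.sum_range_succ, ih, h1, h2, r1, r2]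
    have e2 : 2 * n + 1 + 1 = 2 * (n + 1) := by ring
    rw [e2]
    ring

theorem prod_sq_odd {K : Type*} [Field K] (n : ℕ) (c : K) (B : ℕ → ℕ) (d : ℕ → K)
    (h2 : ∀ j, j ≤ 2 * n → d (2 * n - j) * d j = c ^ B j) :
    (∏ i ∈ Finset.range n, d (2 * i + 1)) ^ 2 = c ^ ∑ i ∈ Finset.range n, B (2 * i + 1) := by
  rw [sq]
  nth_rewrite 1 [← Finset.prod_range_reflect]
  rw [← Finset.prod_mul_distrib, ← Finset.prod_pow_eq_pow_sum]
  apply Finset.prod_congr rfl
  intro i hi
  have hi' : i < n := Finset.mem_range.mp hi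
  have e : 2 * (n - 1 - i) + 1 = 2 * n - (2 * i + 1) := by omega
  rw [e]
  exact h2 (2 * i + 1) (by omega)

theorem prod_sq_even {K : Type*} [Field K] (n : ℕ) (c : K) (B : ℕ → ℕ) (d : ℕ → K)
    (h2 : ∀ j, j ≤ 2 * n → d (2 * n - j) * d j = c ^ B j) :
    (∏ i ∈ Finset.range (n + 1), d (2 * i)) ^ 2 =
      c ^ ∑ i ∈ Finset.range (n + 1), B (2 * i) := by
  rw [sq]
  nth_rewrite 1 [← Finset.prod_range_reflect]
  rw [← Finset.prod_mul_distrib, ← Finset.prod_pow_eq_pow_sum]
  apply Finset.prod_congr rfl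
  intro i hi
  have hi' : i < n + 1 := Finset.mem_range.mp hi
  have e : 2 * (n + 1 - 1 - i) = 2 * n - 2 * i := by omega
  rw [e]
  exact h2 (2 * i) (by omega)


section
variable {K : Type*} [Field K]



theorem algebraMap_comp (f p : K[X]) :
    algebraMap K[X] (RatFunc K) (f.comp p) = aeval (algebraMap K[X] (RatFunc K) p) f := by
  have h := Polynomial.aeval_algHom_apply (IsScalarTower.toAlgHom K K[X] (RatFunc K)) p f
  rw [IsScalarTower.coe_toAlgHom'] at h
  rw [h]
  rfl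

/-- the basic inversion step for a single degree -/
theorem aeval_inv_reverse (c : K) (hc : c ≠ 0) (χ χ' : K[X]) (b : ℕ) (d : K)
    (hdeg : χ.natDegree = b)
    (h1 : C d * χ'.reverse = (-1) ^ b * χ.comp (C c * X)) :
    aeval ((RatFunc.X : RatFunc K)⁻¹ * RatFunc.C c⁻¹) χ.reverse =
      ((-1) ^ b * RatFunc.C d * ((RatFunc.C c * RatFunc.X) ^ b)⁻¹) *
        algebraMap K[X] (RatFunc K) χ'.reverse := by
  set t : RatFunc K := RatFunc.C c * RatFunc.X with ht
  have ht0 : t ≠ 0 := mul_ne_zero (by simpa using hc) RatFunc.X_ne_zero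
  have hs : (RatFunc.X : RatFunc K)⁻¹ * RatFunc.C c⁻¹ = t⁻¹ := by
    rw [ht, mul_inv_rev, map_inv₀]
  rw [hs]
  have inv : Invertible t := invertibleOfNonzero ht0
  have h := eval₂_reverse_mul_pow (algebraMap K (RatFunc K)) t χ
  rw [invOf_eq_inv, hdeg] at h
  have h3 : eval₂ (algebraMap K (RatFunc K)) t χ =
      algebraMap K[X] (RatFunc K) (χ.comp (C c * X)) := by
    rw [algebraMap_comp, map_mul, RatFunc.algebraMap_C, RatFunc.algebraMap_X]
    rfl
  have h4 : χ.comp (C c * X) = (-1) ^ b * (C d * χ'.reverse) := by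
    rw [h1, ← mul_assoc, ← mul_pow]
    simp
  rw [h3, h4] at h
  have hb : t ^ b ≠ 0 := pow_ne_zero _ ht0
  rw [Polynomial.aeval_def, eq_comm]
  have h5 : algebraMap K[X] (RatFunc K) ((-1) ^ b * (C d * χ'.reverse)) =
      (-1) ^ b * RatFunc.C d * algebraMap K[X] (RatFunc K) χ'.reverse := by
    rw [map_mul, map_mul, map_pow, map_neg, map_one, RatFunc.algebraMap_C, mul_assoc]
  rw [h5] at h
  have h6 : (-1) ^ b * RatFunc.C d * (t ^ b)⁻¹ * (algebraMap K[X] (RatFunc K)) χ'.reverse =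
      ((-1) ^ b * RatFunc.C d * (algebraMap K[X] (RatFunc K)) χ'.reverse) * (t ^ b)⁻¹ := by ring
  rw [h6, ← h, mul_assoc, mul_inv_cancel₀ hb, mul_one]

theorem prod_u (N : ℕ) (t : RatFunc K) (b : ℕ → ℕ) (d : ℕ → K) :
    ∏ i ∈ Finset.range N, ((-1 : RatFunc K) ^ b i * RatFunc.C (d i) * (t ^ b i)⁻¹) =
      (-1) ^ (∑ i ∈ Finset.range N, b i) * RatFunc.C (∏ i ∈ Finset.range N, d i) *
        (t ^ ∑ i ∈ Finset.range N, b i)⁻¹ := by
  rw [Finset.prod_mul_distrib, Finset.prod_mul_distrib, Finset.prod_pow_eq_pow_sum, map_prod,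
    Finset.prod_inv_distrib, Finset.prod_pow_eq_pow_sum]

theorem functional_equation (n : ℕ) (q : K) (hq : q ≠ 0)
    (χ : ℕ → K[X]) (B : ℕ → ℕ) (d : ℕ → K)
    (hdeg : ∀ j, (χ j).natDegree = B j)
    (h1 : ∀ j, j ≤ 2 * n →
      C (d j) * (χ (2 * n - j)).reverse = (-1) ^ B j * (χ j).comp (C (q ^ n) * X))
    (h2 : ∀ j, j ≤ 2 * n → d (2 * n - j) * d j = (q ^ n) ^ B j)
    (m : ℤ) (hm : (n : ℤ) * (∑ i ∈ Finset.range (2 * n + 1), (-1 : ℤ) ^ i * (B i : ℤ)) = 2 * m) :
    ∃ ε : K, (ε = 1 ∨ ε = -1) ∧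
      aeval ((RatFunc.X : RatFunc K)⁻¹ * RatFunc.C (q ^ n)⁻¹)
          (∏ i ∈ Finset.range n, (χ (2 * i + 1)).reverse) /
        aeval ((RatFunc.X : RatFunc K)⁻¹ * RatFunc.C (q ^ n)⁻¹)
          (∏ i ∈ Finset.range (n + 1), (χ (2 * i)).reverse) =
      RatFunc.C ε * RatFunc.C q ^ m *
        (RatFunc.X : RatFunc K) ^ (∑ i ∈ Finset.range (2 * n + 1), (-1 : ℤ) ^ i * (B i : ℤ)) *
        (algebraMap K[X] (RatFunc K) (∏ i ∈ Finset.range n, (χ (2 * i + 1)).reverse) /
         algebraMap K[X] (RatFunc K) (∏ i ∈ Finset.range (n + 1), (χ (2 * i)).reverse)) := by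
  have hc : q ^ n ≠ 0 := pow_ne_zero _ hq
  set So := ∑ i ∈ Finset.range n, B (2 * i + 1) with hSo
  set Se := ∑ i ∈ Finset.range (n + 1), B (2 * i) with hSe
  set Do := ∏ i ∈ Finset.range n, d (2 * i + 1) with hDo
  set De := ∏ i ∈ Finset.range (n + 1), d (2 * i) with hDe
  have hE : ∑ i ∈ Finset.range (2 * n + 1), (-1 : ℤ) ^ i * (B i : ℤ) = (Se : ℤ) - So := by
    rw [sum_alt_split, hSe, hSo]
    push_cast
    rfl
  have hDo2 : Do ^ 2 = (q ^ n) ^ So := prod_sq_odd n (q ^ n) B d h2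
  have hDe2 : De ^ 2 = (q ^ n) ^ Se := prod_sq_even n (q ^ n) B d h2
  have hDe0 : De ≠ 0 := by
    intro h
    rw [h] at hDe2
    exact pow_ne_zero Se hc (by simpa using hDe2.symm)
  set t : RatFunc K := RatFunc.C (q ^ n) * RatFunc.X with ht
  have hQ0 : (RatFunc.C q : RatFunc K) ≠ 0 := by simpa using hq
  have hX0 : (RatFunc.X : RatFunc K) ≠ 0 := RatFunc.X_ne_zero
  have ht0 : t ≠ 0 := mul_ne_zero (by simpa using hc) hX0
  -- odd part
  have hodd : aeval ((RatFunc.X : RatFunc K)⁻¹ * RatFunc.C (q ^ n)⁻¹)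
      (∏ i ∈ Finset.range n, (χ (2 * i + 1)).reverse) =
      ((-1) ^ So * RatFunc.C Do * (t ^ So)⁻¹) *
        algebraMap K[X] (RatFunc K) (∏ i ∈ Finset.range n, (χ (2 * i + 1)).reverse) := by
    rw [map_prod]
    have step : ∀ i ∈ Finset.range n,
        aeval ((RatFunc.X : RatFunc K)⁻¹ * RatFunc.C (q ^ n)⁻¹) (χ (2 * i + 1)).reverse =
        ((-1) ^ B (2 * i + 1) * RatFunc.C (d (2 * i + 1)) * (t ^ B (2 * i + 1))⁻¹) *
          algebraMap K[X] (RatFunc K) (χ (2 * (n - 1 - i) + 1)).reverse := by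
      intro i hi
      have hi' : i < n := Finset.mem_range.mp hi
      have e : 2 * (n - 1 - i) + 1 = 2 * n - (2 * i + 1) := by omega
      rw [e]
      exact aeval_inv_reverse (q ^ n) hc _ _ _ _ (hdeg _) (h1 (2 * i + 1) (by omega))
    rw [Finset.prod_congr rfl step, Finset.prod_mul_distrib,
      prod_u n t (fun i => B (2 * i + 1)) (fun i => d (2 * i + 1)),
      Finset.prod_range_reflect (fun i => algebraMap K[X] (RatFunc K) (χ (2 * i + 1)).reverse) n]
    rw [hDo, hSo]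
    simp only [map_prod]
  have heven : aeval ((RatFunc.X : RatFunc K)⁻¹ * RatFunc.C (q ^ n)⁻¹)
      (∏ i ∈ Finset.range (n + 1), (χ (2 * i)).reverse) =
      ((-1) ^ Se * RatFunc.C De * (t ^ Se)⁻¹) *
        algebraMap K[X] (RatFunc K) (∏ i ∈ Finset.range (n + 1), (χ (2 * i)).reverse) := by
    rw [map_prod]
    have step : ∀ i ∈ Finset.range (n + 1),
        aeval ((RatFunc.X : RatFunc K)⁻¹ * RatFunc.C (q ^ n)⁻¹) (χ (2 * i)).reverse =
        ((-1) ^ B (2 * i) * RatFunc.C (d (2 * i)) * (t ^ B (2 * i))⁻¹) *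
          algebraMap K[X] (RatFunc K) (χ (2 * (n + 1 - 1 - i))).reverse := by
      intro i hi
      have hi' : i < n + 1 := Finset.mem_range.mp hi
      have e : 2 * (n + 1 - 1 - i) = 2 * n - 2 * i := by omega
      rw [e]
      exact aeval_inv_reverse (q ^ n) hc _ _ _ _ (hdeg _) (h1 (2 * i) (by omega))
    rw [Finset.prod_congr rfl step, Finset.prod_mul_distrib,
      prod_u (n + 1) t (fun i => B (2 * i)) (fun i => d (2 * i)),
      Finset.prod_range_reflect (fun i => algebraMap K[X] (RatFunc K) (χ (2 * i)).reverse) (n + 1)]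
    rw [hDe, hSe]
    simp only [map_prod]
  -- the sign
  refine ⟨(-1) ^ (So + Se) * (Do / De) * q ^ m, ?_, ?_⟩
  · have hsq : ((-1) ^ (So + Se) * (Do / De) * q ^ m) ^ 2 = 1 := by
      rw [mul_pow, mul_pow, div_pow, hDo2, hDe2, ← pow_mul, ← pow_mul, ← pow_mul]
      have h1' : ((-1 : K) ^ ((So + Se) * 2)) = 1 := by
        rw [mul_comm, pow_mul]; simp
      rw [h1', one_mul, ← zpow_natCast q (n * So), ← zpow_natCast q (n * Se),
        ← zpow_natCast (q ^ m) 2, ← zpow_mul, ← zpow_sub₀ hq, ← zpow_add₀ hq]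
      have : ((n * So : ℕ) : ℤ) - ((n * Se : ℕ) : ℤ) + m * ((2 : ℕ) : ℤ) = 0 := by
        rw [hE] at hm
        push_cast
        linarith
      rw [this, zpow_zero]
    exact sq_eq_sq_iff_eq_or_eq_neg.mp (by rw [hsq, one_pow])
  · rw [hodd, heven, mul_div_mul_comm]
    congr 1
    -- scalar identity
    have hF1 : ((-1 : RatFunc K) ^ So) / ((-1) ^ Se) = (-1) ^ (So + Se) := by
      rw [pow_add, div_eq_iff (pow_ne_zero _ (by norm_num)), mul_assoc, ← mul_pow]
      simp
    have htk : ∀ k : ℕ, t ^ k = RatFunc.C q ^ ((n : ℤ) * k) * RatFunc.X ^ (k : ℤ) := by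
      intro k
      rw [ht, mul_pow, map_pow, ← pow_mul, zpow_natCast, ← Nat.cast_mul, zpow_natCast]
    have hF3 : (t ^ So)⁻¹ / (t ^ Se)⁻¹ =
        RatFunc.C q ^ m * RatFunc.C q ^ m *
          RatFunc.X ^ (∑ i ∈ Finset.range (2 * n + 1), (-1 : ℤ) ^ i * (B i : ℤ)) := by
      rw [inv_div_inv, htk, htk, mul_div_mul_comm, ← zpow_sub₀ hQ0, ← zpow_sub₀ hX0,
        ← zpow_add₀ hQ0, hE]
      congr 2
      rw [hE] at hm
      linarith
    have hCε : RatFunc.C ((-1) ^ (So + Se) * (Do / De) * q ^ m) =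
        (-1 : RatFunc K) ^ (So + Se) * (RatFunc.C Do / RatFunc.C De) * RatFunc.C q ^ m := by
      rw [map_mul, map_mul, map_div₀, map_zpow₀, map_pow, map_neg, map_one]
    rw [hCε, mul_div_mul_comm, mul_div_mul_comm, hF1, hF3]
    ring


end


theorem sum_symm (n : ℕ) (b : ℕ → ℤ) (h : ∀ j, j ≤ 2 * n → b (2 * n - j) = b j) :
    ∑ i ∈ Finset.range (2 * n + 1), b i = 2 * ∑ i ∈ Finset.range n, b i + b n := by
  have e : 2 * n + 1 = n + (n + 1) := by ring
  rw [e, Finset.sum_range_add, Finset.sum_range_succ']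
  have h2 : ∑ x ∈ Finset.range n, b (n + (x + 1)) = ∑ x ∈ Finset.range n, b x := by
    rw [← Finset.sum_range_reflect b n]
    apply Finset.sum_congr rfl
    intro x hx
    have hx' : x < n := Finset.mem_range.mp hx
    rw [← h (n + (x + 1)) (by omega)]
    congr 1
    omega
  rw [h2]
  simp
  ring

theorem even_finrank_of_skew {K V : Type*} [Field K] [CharZero K] [AddCommGroup V] [Module K V]
    [FiniteDimensional K V] (B : V →ₗ[K] V →ₗ[K] K) [B.IsPerfPair]
    (hskew : ∀ a b, B a b = - B b a) : Even (Module.finrank K V) := by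
  classical
  by_contra hodd
  rw [Nat.not_even_iff_odd] at hodd
  let b := Module.finBasis K V
  set M := LinearMap.BilinForm.toMatrix b B with hM
  have hT : M.transpose = -M := by
    ext i j
    simp only [hM, Matrix.transpose_apply, Matrix.neg_apply, LinearMap.BilinForm.toMatrix_apply]
    exact hskew _ _
  have hdet : M.det = 0 := by
    have h1 : M.det = (-M).det := by rw [← hT, Matrix.det_transpose]
    rw [Matrix.det_neg, Fintype.card_fin, hodd.neg_one_pow] at h1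
    have : (2 : K) * M.det = 0 := by linear_combination h1
    rcases mul_eq_zero.mp this with h | h
    · exact absurd h two_ne_zero
    · exact h
  have hnd : LinearMap.BilinForm.Nondegenerate B := by
    have hp : B.IsPerfPair := inferInstance
    refine ⟨?_, ?_⟩
    · intro x hx
      apply hp.bijective_left.1
      ext y
      simpa using hx y
    · intro y hy
      apply hp.bijective_right.1
      ext x
      simpa using hy x
  exact ((LinearMap.BilinForm.nondegenerate_iff_det_ne_zero b).mp hnd) hdet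

end Groth.Agent.H9.FrobDegFE
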