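import Mathlib
import Groth.Prelude.Def_WeilCoh
import Groth.Agent.Lib.Helper9.Misc.FrobDegC
import Groth.Agent.Lib.Helper9.Misc.FrobDegFE

/-! Helper9: functional equation of the zeta function, cohomological form. -/

set_option autoImplicit false

universe u v

open AlgebraicGeometry CategoryTheory

namespace Groth.Agent.H9.FrobDegC2

open WeilCoh Groth.Agent.H9.WeilA Groth.Agent.H9.WeilC Groth.Agent.H9.FrobDegC
  Groth.Agent.H9.FrobDegFE

section
variable {k : Type u} [Field k] [IsAlgClosed k]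
    {K : Type v} [Field K] [CharZero K] (T : WeilCoh.Theory k K) (Xb : WeilCoh.Var k)

theorem finrank_symm (j : ℕ) (hj : j ≤ 2 * dim Xb.obj.left) :
    Module.finrank K ↥(T.gr Xb ((2 * dim Xb.obj.left - j : ℕ) : ℤ)) =
      Module.finrank K ↥(T.gr Xb (j : ℤ)) := by
  have hperf := T.duality Xb (j : ℤ) ((2 * dim Xb.obj.left - j : ℕ) : ℤ) (by omega)
  exact (Module.finrank_of_isPerfPair
    (pairing K (T.gr Xb (j : ℤ)) (T.gr Xb ((2 * dim Xb.obj.left - j : ℕ) : ℤ)) (T.tr Xb))).symm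

theorem even_finrank_middle (hodd : Odd (dim Xb.obj.left)) :
    Even (Module.finrank K ↥(T.gr Xb ((dim Xb.obj.left : ℕ) : ℤ))) := by
  have hperf := T.duality Xb (dim Xb.obj.left : ℤ) (dim Xb.obj.left : ℤ) (by ring)
  refine even_finrank_of_skew
    (pairing K (T.gr Xb (dim Xb.obj.left : ℤ)) (T.gr Xb (dim Xb.obj.left : ℤ)) (T.tr Xb)) ?_
  intro a b
  rw [pairing_apply, pairing_apply, T.gradedComm Xb _ _ _ _ a.2 b.2, map_smul, smul_eq_mul]
  have : Odd ((dim Xb.obj.left : ℤ).natAbs * (dim Xb.obj.left : ℤ).natAbs) := by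
    rw [Int.natAbs_natCast]
    exact hodd.mul hodd
  rw [this.neg_one_pow]
  ring

theorem exists_half (n : ℕ) (B : ℕ → ℕ) (hsym : ∀ j, j ≤ 2 * n → B (2 * n - j) = B j)
    (hmid : Odd n → Even (B n)) :
    ∃ m : ℤ, (n : ℤ) * (∑ i ∈ Finset.range (2 * n + 1), (-1 : ℤ) ^ i * (B i : ℤ)) = 2 * m := by
  have hs := sum_symm n (fun i => (-1 : ℤ) ^ i * (B i : ℤ)) (by
    intro j hj
    rw [hsym j hj]
    congr 1
    have : Even ((2 * n - j) + j) := ⟨n, by omega⟩
    rcases Nat.even_or_odd j with h | h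
    · have h' : Even (2 * n - j) := by
        rcases Nat.even_or_odd (2 * n - j) with h' | h'
        · exact h'
        · exact absurd this (Nat.not_even_iff_odd.mpr (h'.add_even h))
      rw [h.neg_one_pow, h'.neg_one_pow]
    · have h' : Odd (2 * n - j) := by
        rcases Nat.even_or_odd (2 * n - j) with h' | h'
        · exact absurd this (Nat.not_even_iff_odd.mpr (h'.add_odd h))
        · exact h'
      rw [h.neg_one_pow, h'.neg_one_pow])
  rw [hs]
  rcases Nat.even_or_odd n with ⟨n', hn'⟩ | hodd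
  · refine ⟨(n' : ℤ) * (2 * ∑ i ∈ Finset.range n, (-1 : ℤ) ^ i * (B i : ℤ) +
      (-1) ^ n * (B n : ℤ)), ?_⟩
    rw [hn']
    push_cast
    ring
  · obtain ⟨b', hb'⟩ := hmid hodd
    refine ⟨(n : ℤ) * (∑ i ∈ Finset.range n, (-1 : ℤ) ^ i * (B i : ℤ) + (-1) ^ n * (b' : ℤ)), ?_⟩
    rw [hb']
    push_cast
    ring

end

section
variable (k₀ : Type u) [Field k₀] [Finite k₀] (k : Type u) [Field k] [IsAlgClosed k] [Algebra k₀ k]
    (K : Type v) [Field K] [CharZero K] (T : WeilCoh.Theory k K)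
    {X : Scheme.{u}} (f : X ⟶ Spec (CommRingCat.of k₀))
    (FX : X ⟶ X) (hFb : FX.base = 𝟙 _) (hle : ∀ U : X.Opens, U ≤ FX ⁻¹ᵁ U)
    (hFapp : ∀ (U : X.Opens) (s : Γ(X, U)), (FX.appLE U U (hle U)).hom s = s ^ Nat.card k₀)
    (Xb : WeilCoh.Var k) (π : Xb.obj.left ⟶ X)
    (hπ : IsPullback π Xb.obj.hom f (Spec.map (CommRingCat.ofHom (algebraMap k₀ k))))
    (F : Xb ⟶ Xb) (hF : WeilCoh.sm F ≫ π = π ≫ FX)

include hFb hFapp hπ hF in
theorem zeta_functional_equation :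
    ∃ ε : K, (ε = 1 ∨ ε = -1) ∧
      Polynomial.aeval ((RatFunc.X : RatFunc K)⁻¹ * RatFunc.C ((Nat.card k₀ : K) ^ WeilCoh.dim Xb.obj.left)⁻¹)
          (∏ i ∈ Finset.range (WeilCoh.dim Xb.obj.left),
            (LinearMap.charpoly (T.pullDeg F ((2 * i + 1 : ℕ) : ℤ))).reverse) /
        Polynomial.aeval ((RatFunc.X : RatFunc K)⁻¹ * RatFunc.C ((Nat.card k₀ : K) ^ WeilCoh.dim Xb.obj.left)⁻¹)
          (∏ i ∈ Finset.range (WeilCoh.dim Xb.obj.left + 1),
            (LinearMap.charpoly (T.pullDeg F ((2 * i : ℕ) : ℤ))).reverse) =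
      RatFunc.C ε * RatFunc.C (Nat.card k₀ : K) ^ ((WeilCoh.dim Xb.obj.left : ℤ) * (∑ i ∈ Finset.range (2 * WeilCoh.dim Xb.obj.left + 1), (-1 : ℤ) ^ i * (Module.finrank K ↥(T.gr Xb (i : ℤ)) : ℤ)) / 2) *
        (RatFunc.X : RatFunc K) ^ (∑ i ∈ Finset.range (2 * WeilCoh.dim Xb.obj.left + 1), (-1 : ℤ) ^ i * (Module.finrank K ↥(T.gr Xb (i : ℤ)) : ℤ)) *
        (algebraMap (Polynomial K) (RatFunc K)
          (∏ i ∈ Finset.range (WeilCoh.dim Xb.obj.left),
            (LinearMap.charpoly (T.pullDeg F ((2 * i + 1 : ℕ) : ℤ))).reverse) /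
         algebraMap (Polynomial K) (RatFunc K)
          (∏ i ∈ Finset.range (WeilCoh.dim Xb.obj.left + 1),
            (LinearMap.charpoly (T.pullDeg F ((2 * i : ℕ) : ℤ))).reverse)) := by
  have hq : (Nat.card k₀ : K) ≠ 0 := by
    have : Nat.card k₀ ≠ 0 := Nat.card_pos.ne'
    exact_mod_cast this
  obtain ⟨m, hm⟩ := exists_half (dim Xb.obj.left)
    (fun j => Module.finrank K ↥(T.gr Xb (j : ℤ))) (finrank_symm T Xb) (even_finrank_middle T Xb)
  have h1 : ∀ j, j ≤ 2 * dim Xb.obj.left →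
      Polynomial.C (LinearMap.det (T.pullDeg F (j : ℤ))) *
          (LinearMap.charpoly (T.pullDeg F ((2 * dim Xb.obj.left - j : ℕ) : ℤ))).reverse =
        (-1) ^ Module.finrank K ↥(T.gr Xb (j : ℤ)) *
          (LinearMap.charpoly (T.pullDeg F (j : ℤ))).comp
            (Polynomial.C ((Nat.card k₀ : K) ^ dim Xb.obj.left) * Polynomial.X) := by
    intro j hj
    have h := charpoly_frob k₀ k K T f FX hFb hle hFapp Xb π hπ F hF (j : ℤ)
    have e : 2 * (dim Xb.obj.left : ℤ) - (j : ℤ) = ((2 * dim Xb.obj.left - j : ℕ) : ℤ) := by omega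
    rw [e, Polynomial.smul_eq_C_mul] at h
    exact h
  have h2 : ∀ j, j ≤ 2 * dim Xb.obj.left →
      LinearMap.det (T.pullDeg F ((2 * dim Xb.obj.left - j : ℕ) : ℤ)) *
          LinearMap.det (T.pullDeg F (j : ℤ)) =
        ((Nat.card k₀ : K) ^ dim Xb.obj.left) ^ Module.finrank K ↥(T.gr Xb (j : ℤ)) := by
    intro j hj
    have h := det_mul_det_frob k₀ k K T f FX hFb hle hFapp Xb π hπ F hF (j : ℤ)
    have e : 2 * (dim Xb.obj.left : ℤ) - (j : ℤ) = ((2 * dim Xb.obj.left - j : ℕ) : ℤ) := by omega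
    rw [e, pow_mul] at h
    exact h
  obtain ⟨ε, hε, heq⟩ := functional_equation (dim Xb.obj.left) (Nat.card k₀ : K) hq
    (fun j => LinearMap.charpoly (T.pullDeg F (j : ℤ)))
    (fun j => Module.finrank K ↥(T.gr Xb (j : ℤ)))
    (fun j => LinearMap.det (T.pullDeg F (j : ℤ)))
    (fun j => LinearMap.charpoly_natDegree _) h1 h2 m hm
  refine ⟨ε, hε, ?_⟩
  have hdiv : (dim Xb.obj.left : ℤ) * (∑ i ∈ Finset.range (2 * dim Xb.obj.left + 1),
      (-1 : ℤ) ^ i * (Module.finrank K ↥(T.gr Xb (i : ℤ)) : ℤ)) / 2 = m := by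
    rw [hm]
    exact Int.mul_ediv_cancel_left m two_ne_zero
  rw [hdiv]
  exact heq

end

end Groth.Agent.H9.FrobDegC2
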