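import Mathlib

/-!
# Finite Frobenius height = finite with connected geometric fibres (helper9)
-/

set_option autoImplicit false
set_option linter.unusedSectionVars false
set_option linter.unusedVariables false
set_option linter.style.haveILetI false

universe u

open TensorProduct

namespace Groth.Agent.H9.FrobHt

variable (p : ℕ) [hp : Fact p.Prime] (R : Type u) [CommRing R]
    [IsNoetherianRing R] (A : Type u) [CommRing A] [HopfAlgebra R A] [Algebra.FiniteType R A]

theorem finite_of_height (n : ℕ)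
    (h : ∀ a : A, Bialgebra.counitAlgHom R A a = 0 → a ^ p ^ n = 0) :
    Module.Finite R A := by
  have hint : Algebra.IsIntegral R A := by
    constructor
    intro a
    have h1 : a = algebraMap R A (Bialgebra.counitAlgHom R A a) +
        (a - algebraMap R A (Bialgebra.counitAlgHom R A a)) := by ring
    rw [h1]
    apply IsIntegral.add isIntegral_algebraMap
    have h2 : (a - algebraMap R A (Bialgebra.counitAlgHom R A a)) ^ p ^ n = 0 := by
      apply h
      simp
    exact ⟨Polynomial.X ^ (p ^ n), Polynomial.monic_X_pow _, by rw [Polynomial.eval₂_X_pow]; exact h2⟩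
  exact Algebra.IsIntegral.finite

theorem isLocalRing_of_height (n : ℕ)
    (h : ∀ a : A, Bialgebra.counitAlgHom R A a = 0 → a ^ p ^ n = 0)
    (K : Type u) [Field K] [Algebra R K] : IsLocalRing (K ⊗[R] A) := by
  let ε' : A →ₐ[R] K := (Algebra.ofId R K).comp (Bialgebra.counitAlgHom R A)
  let φ : K ⊗[R] A →ₐ[K] K :=
    Algebra.TensorProduct.lift (AlgHom.id K K) ε' (fun _ _ => Commute.all _ _)
  have hφ : ∀ (c : K) (a : A),
      φ (c ⊗ₜ a) = c * algebraMap R K (Bialgebra.counitAlgHom R A a) := fun c a => by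
    simp [φ, ε', Algebra.ofId_apply]
  have hnt : Nontrivial (K ⊗[R] A) := by
    refine ⟨⟨0, 1, fun h01 => ?_⟩⟩
    have := congrArg φ h01
    rw [map_zero, map_one] at this
    exact zero_ne_one this
  have key : ∀ b : K ⊗[R] A, IsNilpotent (b - algebraMap K (K ⊗[R] A) (φ b)) := by
    intro b
    induction b using TensorProduct.induction_on with
    | zero => simp
    | tmul c a =>
      have h1 : c ⊗ₜ[R] a - algebraMap K (K ⊗[R] A) (φ (c ⊗ₜ a)) =
          c ⊗ₜ[R] (a - algebraMap R A (Bialgebra.counitAlgHom R A a)) := by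
        rw [hφ, Algebra.TensorProduct.algebraMap_apply, TensorProduct.tmul_sub]
        congr 1
        rw [Algebra.algebraMap_eq_smul_one (A := A), ← TensorProduct.smul_tmul,
          Algebra.smul_def, mul_comm]
        rfl
      rw [h1]
      refine ⟨p ^ n, ?_⟩
      rw [Algebra.TensorProduct.tmul_pow, h _ (by simp), TensorProduct.tmul_zero]
    | add x y hx hy =>
      have h2 : x + y - algebraMap K (K ⊗[R] A) (φ (x + y)) =
          (x - algebraMap K (K ⊗[R] A) (φ x)) + (y - algebraMap K (K ⊗[R] A) (φ y)) := by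
        rw [map_add, map_add]; ring
      rw [h2]
      exact Commute.isNilpotent_add (Commute.all _ _) hx hy
  apply IsLocalRing.of_isUnit_or_isUnit_one_sub_self
  intro b
  by_cases h0 : φ b = 0
  · right
    have h1 := key b
    rw [h0, map_zero, sub_zero] at h1
    exact h1.isUnit_one_sub
  · left
    have h2 : IsUnit (algebraMap K (K ⊗[R] A) (φ b)) :=
      (IsUnit.mk0 _ h0).map (algebraMap K (K ⊗[R] A))
    have h3 := (key b).isUnit_add_left_of_commute h2 (Commute.all _ _)
    rwa [add_sub_cancel] at h3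

theorem height_of_local
    (hloc : ∀ (K : Type u) [Field K] [IsAlgClosed K] [Algebra R K], IsLocalRing (K ⊗[R] A)) :
    ∃ n : ℕ, ∀ a : A, Bialgebra.counitAlgHom R A a = 0 → a ^ p ^ n = 0 := by
  have hnoeth : IsNoetherianRing A := Algebra.FiniteType.isNoetherianRing R A
  have hnil : ∀ a : A, Bialgebra.counitAlgHom R A a = 0 → a ∈ nilradical A := by
    intro a ha
    rw [mem_nilradical, nilpotent_iff_mem_prime]
    intro 𝔮 h𝔮
    haveI := h𝔮
    let F := FractionRing (A ⧸ 𝔮)
    let K := AlgebraicClosure F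
    let ψ : A →+* K :=
      (algebraMap F K).comp ((algebraMap (A ⧸ 𝔮) F).comp (Ideal.Quotient.mk 𝔮))
    letI : Algebra R K := (ψ.comp (algebraMap R A)).toAlgebra
    let ψ' : A →ₐ[R] K := { ψ with commutes' := fun r => rfl }
    let ε' : A →ₐ[R] K := (Algebra.ofId R K).comp (Bialgebra.counitAlgHom R A)
    let φ₁ : K ⊗[R] A →ₐ[K] K :=
      Algebra.TensorProduct.lift (AlgHom.id K K) ε' (fun _ _ => Commute.all _ _)
    let φ₂ : K ⊗[R] A →ₐ[K] K :=
      Algebra.TensorProduct.lift (AlgHom.id K K) ψ' (fun _ _ => Commute.all _ _)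
    haveI := hloc K
    have hs1 : Function.Surjective φ₁.toRingHom := fun c => ⟨c ⊗ₜ 1, by simp [φ₁]⟩
    have hs2 : Function.Surjective φ₂.toRingHom := fun c => ⟨c ⊗ₜ 1, by simp [φ₂]⟩
    have hm1 : (RingHom.ker φ₁.toRingHom).IsMaximal := RingHom.ker_isMaximal_of_surjective _ hs1
    have hm2 : (RingHom.ker φ₂.toRingHom).IsMaximal := RingHom.ker_isMaximal_of_surjective _ hs2
    have heq : RingHom.ker φ₁.toRingHom = RingHom.ker φ₂.toRingHom := by
      rw [IsLocalRing.eq_maximalIdeal hm1, IsLocalRing.eq_maximalIdeal hm2]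
    have h1 : (1 : K) ⊗ₜ[R] a ∈ RingHom.ker φ₁.toRingHom := by
      rw [RingHom.mem_ker]
      show φ₁ (1 ⊗ₜ a) = 0
      simp [φ₁, ε', ha]
    rw [heq, RingHom.mem_ker] at h1
    have h2 : ψ a = 0 := by
      have h5 : φ₂ (1 ⊗ₜ a) = ψ' a := by simp [φ₂]
      have h6 : φ₂ (1 ⊗ₜ a) = 0 := h1
      rw [h5] at h6
      exact h6
    have h3 : algebraMap (A ⧸ 𝔮) F (Ideal.Quotient.mk 𝔮 a) = 0 :=
      (map_eq_zero (algebraMap F K)).mp h2
    have h4 : Ideal.Quotient.mk 𝔮 a = 0 :=
      (IsFractionRing.injective (A ⧸ 𝔮) F) (by rw [h3, map_zero])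
    exact Ideal.Quotient.eq_zero_iff_mem.mp h4
  obtain ⟨N, hN⟩ := IsNoetherianRing.isNilpotent_nilradical A
  refine ⟨N, fun a ha => ?_⟩
  have h1 : a ^ N ∈ (nilradical A) ^ N := Ideal.pow_mem_pow (hnil a ha) N
  rw [hN] at h1
  have h2 : a ^ N = 0 := h1
  exact pow_eq_zero_of_le (Nat.lt_pow_self hp.out.one_lt).le h2

theorem main :
    (∃ n : ℕ, ∀ a : A, Bialgebra.counitAlgHom R A a = 0 → a ^ p ^ n = 0) ↔
      (Module.Finite R A ∧ ∀ (K : Type u) [Field K] [IsAlgClosed K] [Algebra R K],
        IsLocalRing (K ⊗[R] A)) :=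
  ⟨fun ⟨n, h⟩ => ⟨finite_of_height p R A n h,
      fun K _ _ _ => isLocalRing_of_height p R A n h K⟩,
    fun ⟨_, hloc⟩ => height_of_local p R A hloc⟩

end Groth.Agent.H9.FrobHt
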