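import Mathlib
import Groth.Agent.Lib.Helper5.Lim.FPConverse

/-! Helper9: Artin approximation for functors preserving filtered colimits, from the approximation
property for finite polynomial systems (no Noetherian hypothesis): a functor-of-points argument through
finitely generated subalgebras and finitely presented quotients of polynomial rings. -/

set_option autoImplicit false
universe u
open CategoryTheory CategoryTheory.Limits Opposite

namespace Groth.Agent.H9.FunAP

open Groth.Agent.H5.FPConv

section FG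

variable (A : Type u) [CommRing A] (B : Type u) [CommRing B] [Algebra A B]

/-- index poset of finitely generated subalgebras -/
abbrev FGS : Type u := {S : Subalgebra A B // S.FG}

instance : IsDirected (FGS A B) (· ≤ ·) :=
  ⟨fun S T => ⟨⟨S.1 ⊔ T.1, S.2.sup T.2⟩, le_sup_left (a := S.1), le_sup_right (b := T.1)⟩⟩

instance : Nonempty (FGS A B) := ⟨⟨⊥, Subalgebra.fg_bot⟩⟩

/-- the system of f.g. subalgebras -/
noncomputable def fgD : FGS A B ⥤ Under (CommRingCat.of A) where
  obj S := Under.mk (CommRingCat.ofHom (algebraMap A S.1))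
  map {S T} h := Under.homMk
    (CommRingCat.ofHom (Subalgebra.inclusion (leOfHom h)).toRingHom) (by ext; rfl)
  map_id S := by ext; rfl
  map_comp h h' := by ext; rfl

noncomputable def fgC : Cocone (fgD A B) where
  pt := Under.mk (CommRingCat.ofHom (algebraMap A B))
  ι :=
    { app := fun S => Under.homMk (CommRingCat.ofHom S.1.val.toRingHom) (by ext; rfl)
      naturality := fun S T h => by ext; rfl }

noncomputable def isColimitFgC : IsColimit (fgC A B) := by
  apply isColimitUnderOfForget
  · intro x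
    change B at x
    refine ⟨⟨Algebra.adjoin A {x}, ⟨{x}, by rw [Finset.coe_singleton]⟩⟩,
      ⟨x, Algebra.subset_adjoin (Set.mem_singleton x)⟩, rfl⟩
  · intro S x y hxy
    exact ⟨S, 𝟙 S, by rw [(fgD A B).map_id]; exact congrArg _ (Subtype.ext hxy)⟩

variable {A B}

theorem exists_fg_lift (F : Under (CommRingCat.of A) ⥤ Type u)
    (hF : ∀ (J : Type u) [SmallCategory J] [IsFiltered J], PreservesColimitsOfShape J F)
    (ξ : F.obj (Under.mk (CommRingCat.ofHom (algebraMap A B)))) :
    ∃ (S : FGS A B) (ξS : F.obj ((fgD A B).obj S)), F.map ((fgC A B).ι.app S) ξS = ξ := by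
  haveI := hF (FGS A B)
  obtain ⟨S, s, hs⟩ := Types.jointly_surjective_of_isColimit
    (isColimitOfPreserves F (isColimitFgC A B)) ξ
  exact ⟨S, s, hs⟩

end FG

section Main

theorem functor_ap (A : Type u) [CommRing A] (m : Ideal A)
    (hAP : ∀ (k l c : ℕ) (f : Fin l → MvPolynomial (Fin k) A) (â : Fin k → AdicCompletion m A),
      (∀ i, MvPolynomial.aeval â (f i) = 0) →
      ∃ a : Fin k → A, (∀ i, MvPolynomial.eval a (f i) = 0) ∧
        ∀ j, Ideal.Quotient.mk (m ^ c) (a j) = AdicCompletion.evalₐ m c (â j))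
    (F : Under (CommRingCat.of A) ⥤ Type u)
    (hF : ∀ (J : Type u) [SmallCategory J] [IsFiltered J], PreservesColimitsOfShape J F)
    (c : ℕ)
    (π : Under.mk (CommRingCat.ofHom (algebraMap A (AdicCompletion m A))) ⟶
      Under.mk (CommRingCat.ofHom (algebraMap A (A ⧸ m ^ c))))
    (hπ : π.right = CommRingCat.ofHom
      (AdicCompletion.evalₐ m c : AdicCompletion m A →ₐ[A] A ⧸ m ^ c).toRingHom)
    (ρ : Under.mk (𝟙 (CommRingCat.of A)) ⟶ Under.mk (CommRingCat.ofHom (algebraMap A (A ⧸ m ^ c))))
    (ξ : F.obj (Under.mk (CommRingCat.ofHom (algebraMap A (AdicCompletion m A))))) :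
    ∃ η : F.obj (Under.mk (𝟙 (CommRingCat.of A))), F.map ρ η = F.map π ξ := by
  classical
  obtain ⟨S, ξS, hξ⟩ := exists_fg_lift F hF ξ
  haveI : Algebra.FiniteType A S.1 := (Subalgebra.fg_iff_finiteType S.1).mp S.2
  obtain ⟨n, φ, hφ⟩ := Algebra.FiniteType.iff_quotient_mvPolynomial''.mp
    (inferInstance : Algebra.FiniteType A S.1)
  -- the presentation data
  let f : CommRingCat.of A ⟶ CommRingCat.of S.1 := CommRingCat.ofHom (algebraMap A S.1)
  let π₀ : MvPolynomial (Fin n) (CommRingCat.of A) →+* (CommRingCat.of S.1) := φ.toRingHom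
  have hπ₀ : π₀.comp MvPolynomial.C = f.hom := RingHom.ext fun a => φ.commutes a
  have hsurj : Function.Surjective π₀ := hφ
  haveI hdir : IsDirected (FGIdeal π₀) (· ≤ ·) := fgIdeal_isDirected π₀
  haveI hne : Nonempty (FGIdeal π₀) := fgIdeal_nonempty π₀
  haveI := hF (FGIdeal π₀)
  obtain ⟨K, ξK, hξK⟩ := Types.jointly_surjective_of_isColimit
    (isColimitOfPreserves F (isColimitFpCocone f π₀ hπ₀ hsurj)) ξS
  have hξK' : F.map ((fpCocone f π₀ hπ₀).ι.app K) ξK = ξS := hξK
  obtain ⟨l, fs, hfs⟩ := Submodule.fg_iff_exists_fin_generating_family.mp K.2.1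
  -- the point of the completion
  let â : Fin n → AdicCompletion m A := fun j => ((φ (MvPolynomial.X j) : S.1) : AdicCompletion m A)
  have haeval : ∀ p : MvPolynomial (Fin n) A,
      MvPolynomial.aeval â p = ((φ p : S.1) : AdicCompletion m A) := by
    intro p
    have h1 := MvPolynomial.aeval_unique (S.1.val.comp φ)
    have h2 : (S.1.val.comp φ) p = ((φ p : S.1) : AdicCompletion m A) := rfl
    rw [← h2, h1]
    rfl
  have hfsK : ∀ i, fs i ∈ K.1 := by
    intro i
    rw [← hfs]
    exact Submodule.subset_span (Set.mem_range_self i)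
  have hzero : ∀ i, MvPolynomial.aeval â (fs i) = 0 := by
    intro i
    rw [haeval]
    have h1 : fs i ∈ RingHom.ker π₀ := K.2.2 (hfsK i)
    have h2 : φ (fs i) = 0 := h1
    rw [h2]
    rfl
  obtain ⟨a, ha0, hac⟩ := hAP n l c fs â hzero
  -- the retraction
  have hKle : K.1 ≤ RingHom.ker (MvPolynomial.eval a : MvPolynomial (Fin n) A →+* A) := by
    rw [← hfs]
    apply Submodule.span_le.mpr
    rintro _ ⟨i, rfl⟩
    exact ha0 i
  let τ : MvPolynomial (Fin n) A ⧸ K.1 →+* A :=
    Ideal.Quotient.lift K.1 (MvPolynomial.eval a) (fun p hp => hKle hp)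
  let tK : (fpDiagram π₀).obj K ⟶ Under.mk (𝟙 (CommRingCat.of A)) :=
    Under.homMk (CommRingCat.ofHom τ) (by
      ext x
      show τ (Ideal.Quotient.mk K.1 (MvPolynomial.C x)) = x
      show MvPolynomial.eval a (MvPolynomial.C x) = x
      exact MvPolynomial.eval_C x)
  have hρ : ρ.right = CommRingCat.ofHom (algebraMap A (A ⧸ m ^ c)) := by
    have := Under.w ρ
    simpa using this
  have key : tK ≫ ρ = (fpCocone f π₀ hπ₀).ι.app K ≫ (fgC A (AdicCompletion m A)).ι.app S ≫ π := by
    apply Under.UnderMorphism.ext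
    apply CommRingCat.hom_ext
    apply Ideal.Quotient.ringHom_ext
    apply MvPolynomial.ringHom_ext
    · intro x
      show ρ.right.hom (MvPolynomial.eval a (MvPolynomial.C x)) =
        π.right.hom ((φ (MvPolynomial.C x) : S.1) : AdicCompletion m A)
      rw [hρ, hπ, MvPolynomial.eval_C]
      have h1 : φ (MvPolynomial.C x) = algebraMap A S.1 x := φ.commutes x
      rw [h1]
      show algebraMap A (A ⧸ m ^ c) x =
        AdicCompletion.evalₐ m c (algebraMap A (AdicCompletion m A) x)
      rw [AlgHom.commutes]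
    · intro j
      show ρ.right.hom (MvPolynomial.eval a (MvPolynomial.X j)) =
        π.right.hom ((φ (MvPolynomial.X j) : S.1) : AdicCompletion m A)
      rw [hρ, hπ, MvPolynomial.eval_X]
      exact hac j
  refine ⟨F.map tK ξK, ?_⟩
  have e1 : F.map ρ (F.map tK ξK) = F.map (tK ≫ ρ) ξK :=
    (FunctorToTypes.map_comp_apply F tK ρ ξK).symm
  rw [e1, key, FunctorToTypes.map_comp_apply, FunctorToTypes.map_comp_apply]
  exact congrArg (fun t => F.map π t)
    ((congrArg (fun t => F.map ((fgC A (AdicCompletion m A)).ι.app S) t) hξK').trans hξ)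

end Main

end Groth.Agent.H9.FunAP
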