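import Mathlib
import Groth.Agent.Lib.Helper9.Misc.GAQ5

/-! Helper9: algebra of Laurent polynomials for finite subgroups of Gm (for S15180). -/

set_option linter.style.haveILetI false
set_option linter.unusedSectionVars false

namespace Groth.Agent.H9.GAQ

universe u

open Polynomial LaurentPolynomial

section algebraM

variable {K : Type u} [Field K]

theorem isUnit_of_root {R : Type*} [CommRing R] (ψ : K →+* R) (f : K[X]) (h0 : f.coeff 0 ≠ 0)
    (r : R) (hr : f.eval₂ ψ r = 0) : IsUnit r := by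
  have h1 : f = divX f * X + Polynomial.C (f.coeff 0) := (divX_mul_X_add f).symm
  rw [h1, eval₂_add, eval₂_mul, eval₂_X, Polynomial.eval₂_C] at hr
  have hu : ψ (f.coeff 0) * ψ ((f.coeff 0)⁻¹) = 1 := by
    rw [← map_mul, mul_inv_cancel₀ h0, map_one]
  refine IsUnit.of_mul_eq_one (-(eval₂ ψ r (divX f)) * ψ ((f.coeff 0)⁻¹)) ?_
  have h2 : eval₂ ψ r (divX f) * r = -ψ (f.coeff 0) := eq_neg_of_add_eq_zero_left hr
  calc r * (-(eval₂ ψ r (divX f)) * ψ ((f.coeff 0)⁻¹))
      = -(eval₂ ψ r (divX f) * r) * ψ ((f.coeff 0)⁻¹) := by ring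
    _ = ψ (f.coeff 0) * ψ ((f.coeff 0)⁻¹) := by rw [h2, neg_neg]
    _ = 1 := hu

instance : IsDomain K[T;T⁻¹] :=
  IsLocalization.isDomain_of_le_nonZeroDivisors (M := Submonoid.powers (Polynomial.X : K[X])) _
    (Submonoid.powers_le.mpr (mem_nonZeroDivisors_of_ne_zero Polynomial.X_ne_zero))

instance : IsDedekindDomain K[T;T⁻¹] :=
  IsLocalization.isDedekindDomain K[X] (M := Submonoid.powers (Polynomial.X : K[X]))
    (Submonoid.powers_le.mpr (mem_nonZeroDivisors_of_ne_zero Polynomial.X_ne_zero)) _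

theorem not_finite_laurent : ¬ Module.Finite K K[T;T⁻¹] := by
  intro h
  haveI : IsNoetherian K K[T;T⁻¹] := inferInstance
  have : Module.Finite K K[X] :=
    Module.Finite.of_injective (Polynomial.toLaurentAlg (R := K)).toLinearMap
      (fun a b hab => Polynomial.toLaurent_injective hab)
  exact Polynomial.not_finite this

theorem exists_monic_of_finite_quotient (I : Ideal K[T;T⁻¹]) [Module.Finite K (K[T;T⁻¹] ⧸ I)] :
    ∃ f : K[X], f.Monic ∧ f.coeff 0 ≠ 0 ∧ I = Ideal.span {Polynomial.toLaurent f} := by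
  have hI : Ideal.map (algebraMap K[X] K[T;T⁻¹]) (I.under K[X]) = I :=
    IsLocalization.map_under (Submonoid.powers (Polynomial.X : K[X])) _ I
  obtain ⟨g, hg⟩ : ∃ g, I.under K[X] = Ideal.span {g} :=
    (IsPrincipalIdealRing.principal (I.under K[X])).principal
  have hIg : I = Ideal.span {Polynomial.toLaurent g} := by
    rw [← hI, hg, Ideal.map_span, Set.image_singleton, algebraMap_eq_toLaurent]
  have hg0 : g ≠ 0 := by
    rintro rfl
    have hbot : I = ⊥ := by rw [hIg]; simp
    subst hbot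
    have e : (K[T;T⁻¹] ⧸ (⊥ : Ideal K[T;T⁻¹])) ≃ₗ[K] K[T;T⁻¹] :=
      (AlgEquiv.quotientBot K K[T;T⁻¹]).toLinearEquiv
    exact not_finite_laurent (Module.Finite.equiv e)
  have hXg : g.coeff 0 ≠ 0 := by
    intro h0
    obtain ⟨h, rfl⟩ := Polynomial.X_dvd_iff.mpr h0
    have hh : h ∈ I.under K[X] := by
      rw [Ideal.under_def, Ideal.mem_comap, algebraMap_eq_toLaurent]
      have h1 : Polynomial.toLaurent h = T (-1) * Polynomial.toLaurent (Polynomial.X * h) := by
        rw [map_mul, Polynomial.toLaurent_X, ← mul_assoc, ← T_add]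
        simp
      rw [h1]
      apply Ideal.mul_mem_left
      rw [hIg]
      exact Ideal.mem_span_singleton_self _
    rw [hg, Ideal.mem_span_singleton] at hh
    obtain ⟨q, hq⟩ := hh
    have h2 : h * (1 - Polynomial.X * q) = 0 := by
      rw [mul_sub, mul_one, sub_eq_zero]
      conv_lhs => rw [hq]
      ring
    rcases mul_eq_zero.mp h2 with h3 | h3
    · apply hg0
      rw [h3, mul_zero]
    · have : IsUnit (Polynomial.X : K[X]) :=
        IsUnit.of_mul_eq_one q (sub_eq_zero.mp h3).symm
      exact Polynomial.not_isUnit_X this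
  have hu : IsUnit (Polynomial.C (g.leadingCoeff⁻¹)) :=
    Polynomial.isUnit_C.mpr (IsUnit.mk0 _ (inv_ne_zero (leadingCoeff_ne_zero.mpr hg0)))
  refine ⟨g * Polynomial.C (g.leadingCoeff⁻¹), monic_mul_leadingCoeff_inv hg0, ?_, ?_⟩
  · rw [Polynomial.coeff_mul_C]
    exact mul_ne_zero hXg (inv_ne_zero (leadingCoeff_ne_zero.mpr hg0))
  · rw [hIg, map_mul]
    exact (Ideal.span_singleton_mul_right_unit (hu.map Polynomial.toLaurent) _).symm

/-- `T ↦ T ^ n` on Laurent polynomials -/
noncomputable def powHom (n : ℕ) : K[T;T⁻¹] →+* K[T;T⁻¹] :=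
  LaurentPolynomial.eval₂ (LaurentPolynomial.C : K →+* K[T;T⁻¹]) ((isUnit_T (R := K) 1).unit ^ n)

@[simp] theorem powHom_C (n : ℕ) (c : K) : powHom n (LaurentPolynomial.C c) = LaurentPolynomial.C c := by
  simp [powHom]

@[simp] theorem powHom_T (n : ℕ) (k : ℤ) : powHom n (T k : K[T;T⁻¹]) = T (n * k) := by
  rw [powHom, LaurentPolynomial.eval₂_T, ← zpow_natCast, ← zpow_mul]
  have : ∀ m : ℤ, (((isUnit_T (R := K) 1).unit ^ m : K[T;T⁻¹]ˣ) : K[T;T⁻¹]) = T m := by
    intro m
    induction m using Int.induction_on with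
    | zero => simp
    | succ i ih =>
      rw [zpow_add_one, Units.val_mul, ih, IsUnit.unit_spec, ← T_add]
    | pred i ih =>
      rw [zpow_sub_one, Units.val_mul, ih]
      have h1 : (((isUnit_T (R := K) 1).unit⁻¹ : K[T;T⁻¹]ˣ) : K[T;T⁻¹]) = T (-1) := by
        rw [Units.inv_eq_of_mul_eq_one_right]
        rw [IsUnit.unit_spec, ← T_add]
        simp
      rw [h1, ← T_add]
      rfl
  rw [this]

theorem powHom_toLaurent (n : ℕ) (p : K[X]) :
    powHom n (Polynomial.toLaurent p) = Polynomial.toLaurent (p.comp (Polynomial.X ^ n)) := by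
  have h : (powHom n).comp (Polynomial.toLaurent (R := K)) =
      (Polynomial.toLaurent (R := K)).comp (Polynomial.compRingHom (Polynomial.X ^ n)) := by
    apply Polynomial.ringHom_ext
    · intro c
      simp [Polynomial.toLaurent_C]
    · simp [Polynomial.toLaurent_X, Polynomial.toLaurent_X_pow]
  exact congrArg (fun φ => φ p) h

theorem powHom_injective (n : ℕ) (hn : 1 ≤ n) : Function.Injective (powHom (K := K) n) := by
  rw [injective_iff_map_eq_zero]
  intro p hp
  obtain ⟨m, p', hp'⟩ := exists_T_pow p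
  have h1 : powHom n (Polynomial.toLaurent p') = 0 := by
    rw [hp', map_mul, hp, zero_mul]
  rw [powHom_toLaurent, Polynomial.toLaurent_eq_zero] at h1
  have h2 : p' = 0 := by
    have := compRingHom_injective (Polynomial.X ^ n : K[X]) (by rw [Polynomial.natDegree_X_pow]; exact hn)
    exact this (by rw [Polynomial.coe_compRingHom_apply, h1, map_zero])
  rw [h2, map_zero] at hp'
  exact ((isUnit_T (R := K) m).mul_left_eq_zero).mp hp'.symm

theorem powHom_isIntegral (n : ℕ) (hn : 1 ≤ n) : (powHom (K := K) n).IsIntegral := by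
  have hC : ∀ c : K, (powHom (K := K) n).IsIntegralElem (LaurentPolynomial.C c) := by
    intro c
    have : LaurentPolynomial.C c = powHom n (LaurentPolynomial.C c) := by simp
    rw [this]
    exact (powHom n).isIntegralElem_map
  have hT : ∀ k : ℤ, (powHom (K := K) n).IsIntegralElem (T k) := by
    intro k
    refine ⟨Polynomial.X ^ n - Polynomial.C (T k), Polynomial.monic_X_pow_sub_C _ (by omega), ?_⟩
    rw [Polynomial.eval₂_sub, Polynomial.eval₂_X_pow, Polynomial.eval₂_C, powHom_T, T_pow,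
      sub_self]
  intro p
  induction p using LaurentPolynomial.induction_on' with
  | add p q hp hq => exact RingHom.IsIntegralElem.add _ hp hq
  | C_mul_T k a => exact RingHom.IsIntegralElem.mul _ (hC a) (hT k)

theorem powHom_faithfullyFlat (n : ℕ) (hn : 1 ≤ n) : (powHom (K := K) n).FaithfullyFlat :=
  faithfullyFlat_of_injective_of_isIntegral _ (powHom_injective n hn) (powHom_isIntegral n hn)

end algebraM

end Groth.Agent.H9.GAQ
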