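import Mathlib
import Groth.Prelude.Def_Red2
import Groth.Agent.H4.GaGm
import Groth.Agent.Lib.Helper9.Misc.GAQ1
import Groth.Agent.Lib.Helper9.Misc.GAQ2
import Groth.Agent.Lib.Helper9.Misc.GAQ3
import Groth.Agent.Lib.Helper9.Misc.GAQ4
import Groth.Agent.Lib.Helper9.Misc.GAQ5
import Groth.Agent.Lib.Helper9.Misc.GAQ6
import Groth.Agent.Lib.Helper9.Misc.GAQ7
import Groth.Agent.Lib.Helper9.Misc.GAQ8

set_option linter.style.haveILetI false

/-! Helper9: finite subgroups of Gm over a field are kernels of faithfully flat endomorphisms (Gm case of S15180). -/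
set_option linter.unusedSectionVars false

namespace Groth.Agent.H9.GAQ

universe u

open CategoryTheory MonoidalCategory CartesianMonoidalCategory MonObj GrpObj AlgebraicGeometry Limits
open Groth.Agent.H4.GaGm LaurentPolynomial

section GmMain

variable {K : Type u} [Field K]

theorem exists_monic_of_finite_mono_Gm (H : Over (Spec (CommRingCat.of K)))
    (i : H ⟶ Red.Gm (Spec (CommRingCat.of K))) [Mono i] [IsFinite H.hom] :
    ∃ f : Polynomial K, f.Monic ∧ f.coeff 0 ≠ 0 ∧ ∀ (X : Over (Spec (CommRingCat.of K)))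
      (x : X ⟶ Red.Gm (Spec (CommRingCat.of K))),
        (∃ y : X ⟶ H, y ≫ i = x) ↔ Polynomial.eval₂ (ρ X) (Red.gmFn x) f = 0 := by
  obtain ⟨I, hfin, hI⟩ := exists_ideal_of_finite_mono (Red.Gm (Spec (CommRingCat.of K))) θm H i
  obtain ⟨f, hfm, hf0, hIf⟩ := exists_monic_of_finite_quotient I
  refine ⟨f, hfm, hf0, ?_⟩
  intro X x
  have h1 : co (x ≫ (θm (K := K)).hom) = evM (gmUnit x) := co_comp_θmhom x
  rw [hI, h1, hIf, Ideal.span_singleton_le_iff_mem, RingHom.mem_ker, evM_toLaurent, gmUnit_val]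

theorem comp_pow_hom {C : Type*} [Category C] [CartesianMonoidalCategory C] {G : C} [GrpObj G]
    {X Y : C} (x : X ⟶ Y) (a : Y ⟶ G) (n : ℕ) : x ≫ a ^ n = (x ≫ a) ^ n := by
  induction n with
  | zero => rw [pow_zero, pow_zero, MonObj.comp_one]
  | succ n ih => rw [pow_succ, pow_succ, MonObj.comp_mul, ih]

/-- the `n`-th power endomorphism -/
noncomputable def powEnd (n : ℕ) :
    Red.Gm (Spec (CommRingCat.of K)) ⟶ Red.Gm (Spec (CommRingCat.of K)) :=
  (𝟙 (Red.Gm (Spec (CommRingCat.of K)))) ^ n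

theorem gmUnit_comp_powEnd {X : Over (Spec (CommRingCat.of K))} (n : ℕ)
    (x : X ⟶ Red.Gm (Spec (CommRingCat.of K))) : gmUnit (x ≫ powEnd n) = gmUnit x ^ n := by
  rw [powEnd, comp_pow_hom, Category.comp_id, gmUnit_pow]

theorem powEnd_left (n : ℕ) :
    (powEnd n).left ≫ (θm (K := K)).hom.left =
      (θm (K := K)).hom.left ≫ Spec.map (CommRingCat.ofHom (powHom n)) := by
  have h1 : (powEnd n).left ≫ (θm (K := K)).hom.left = (powEnd n ≫ (θm (K := K)).hom).left := rfl
  rw [h1, left_eq (powEnd n ≫ (θm (K := K)).hom), left_eq ((θm (K := K)).hom), Category.assoc,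
    ← Spec.map_comp]
  congr 2
  have h2 : co (powEnd n ≫ (θm (K := K)).hom) = evM (gmUnit (powEnd n)) := co_comp_θmhom _
  have h3 : co ((θm (K := K)).hom) = evM tGm := co_ptB _ (evM_algebraMap _)
  rw [h2, h3]
  have h4 : gmUnit (powEnd (K := K) n) = tGm ^ n := by
    have := gmUnit_comp_powEnd n (𝟙 (Red.Gm (Spec (CommRingCat.of K))))
    rw [Category.id_comp] at this
    exact this
  rw [h4]
  change _ = CommRingCat.ofHom ((evM tGm).comp (powHom n))
  congr 1
  apply ringHom_ext_laurent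
  · intro c
    rw [RingHom.comp_apply, powHom_C, evM_C, evM_C]
  · rw [RingHom.comp_apply, powHom_T, evM_T, evM, LaurentPolynomial.eval₂_T]
    simp

theorem eval₂_sec {R : Type u} [CommRing R] [Algebra K R] (r : R) (f : Polynomial K) :
    Polynomial.eval₂ (ρ (AB (K := K) R)) (sec (K := K) R r) f =
      sec R (f.eval₂ (algebraMap K R) r) := evA_sec R r f

set_option maxHeartbeats 1600000 in
theorem main_Gm (H : Over (Spec (CommRingCat.of K))) [GrpObj H]
    (i : H ⟶ Red.Gm (Spec (CommRingCat.of K))) [IsMonHom i] [Mono i] [IsFinite H.hom] :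
    ∃ φ : Red.Gm (Spec (CommRingCat.of K)) ⟶ Red.Gm (Spec (CommRingCat.of K)),
      IsMonHom φ ∧ AlgGrp.IsKernel i φ ∧ Flat φ.left ∧ Surjective φ.left := by
  obtain ⟨f, hfm, hf0, hfac⟩ := exists_monic_of_finite_mono_Gm H i
  -- the unit section lies in `H`
  have h1 : f.eval₂ (algebraMap K K) 1 = 0 := by
    have h1 : ∃ y : AB (K := K) K ⟶ H, y ≫ i = 1 := ⟨1, one_comp_of_isMonHom i⟩
    rw [hfac, gmFn_one, ← sec_one (K := K) K, eval₂_sec, ← sec_zero (K := K) K] at h1
    exact sec_injective K h1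
  have hn : 1 ≤ f.natDegree := by
    by_contra hn
    have hn0 : f.natDegree = 0 := by omega
    have : f = 1 := (Polynomial.Monic.natDegree_eq_zero hfm).mp hn0
    rw [this] at h1
    simp at h1
  -- shape of `f`
  have hshape : f = Polynomial.X ^ f.natDegree - 1 := by
    refine eq_X_pow_sub_one_of_root_mul f hfm hf0 hn ?_
    set i1 := AdjoinRoot.of f with hi1
    set F := f.map i1 with hF
    set i2 := AdjoinRoot.of F with hi2
    letI : Algebra K (AdjoinRoot F) := (i2.comp i1).toAlgebra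
    let r1 : AdjoinRoot F := i2 (AdjoinRoot.root f)
    let r2 : AdjoinRoot F := AdjoinRoot.root F
    have e1 : f.eval₂ (algebraMap K (AdjoinRoot F)) r1 = 0 := by
      change f.eval₂ (i2.comp i1) (i2 (AdjoinRoot.root f)) = 0
      rw [← Polynomial.hom_eval₂, AdjoinRoot.eval₂_root, map_zero]
    have e2 : f.eval₂ (algebraMap K (AdjoinRoot F)) r2 = 0 := by
      change f.eval₂ (i2.comp i1) (AdjoinRoot.root F) = 0
      rw [← Polynomial.eval₂_map, AdjoinRoot.eval₂_root]
    have u1 : IsUnit (sec (K := K) (AdjoinRoot F) r1) :=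
      (isUnit_of_root (algebraMap K (AdjoinRoot F)) f hf0 r1 e1).map
        (Scheme.ΓSpecIso (CommRingCat.of (AdjoinRoot F))).inv.hom
    have u2 : IsUnit (sec (K := K) (AdjoinRoot F) r2) :=
      (isUnit_of_root (algebraMap K (AdjoinRoot F)) f hf0 r2 e2).map
        (Scheme.ΓSpecIso (CommRingCat.of (AdjoinRoot F))).inv.hom
    let x1 : AB (K := K) (AdjoinRoot F) ⟶ Red.Gm (Spec (CommRingCat.of K)) := gmPt u1.unit
    let x2 : AB (K := K) (AdjoinRoot F) ⟶ Red.Gm (Spec (CommRingCat.of K)) := gmPt u2.unit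
    obtain ⟨y1, hy1⟩ : ∃ y : AB (K := K) (AdjoinRoot F) ⟶ H, y ≫ i = x1 := by
      rw [hfac, gmFn_gmPt, IsUnit.unit_spec, eval₂_sec, e1]
      exact sec_zero _
    obtain ⟨y2, hy2⟩ : ∃ y : AB (K := K) (AdjoinRoot F) ⟶ H, y ≫ i = x2 := by
      rw [hfac, gmFn_gmPt, IsUnit.unit_spec, eval₂_sec, e2]
      exact sec_zero _
    have h3 : ∃ y : AB (K := K) (AdjoinRoot F) ⟶ H, y ≫ i = x1 * x2 :=
      ⟨y1 * y2, by rw [comp_mul_of_isMonHom i y1 y2, hy1, hy2]⟩
    rw [hfac, gmFn_mul, gmFn_gmPt, gmFn_gmPt, IsUnit.unit_spec, IsUnit.unit_spec, ← sec_mul,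
      eval₂_sec, ← sec_zero (K := K) (AdjoinRoot F)] at h3
    exact sec_injective _ h3
  set n := f.natDegree with hnn
  have hev : ∀ {B : Type u} [CommRing B] (ψ : K →+* B) (a : B), f.eval₂ ψ a = a ^ n - 1 := by
    intro B _ ψ a
    rw [hshape]
    simp
  have hφ : ∀ (X : Over (Spec (CommRingCat.of K)))
      (x : X ⟶ Red.Gm (Spec (CommRingCat.of K))), gmUnit (x ≫ powEnd n) = gmUnit x ^ n :=
    fun X x => gmUnit_comp_powEnd n x
  have hker : ∀ (X : Over (Spec (CommRingCat.of K)))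
      (x : X ⟶ Red.Gm (Spec (CommRingCat.of K))), (∃ y : X ⟶ H, y ≫ i = x) ↔ x ≫ powEnd n = 1 := by
    intro X x
    rw [hfac, hev, sub_eq_zero, ← gmUnit_injective.eq_iff, hφ, gmUnit_one, Units.ext_iff,
      Units.val_pow_eq_pow_val, gmUnit_val, Units.val_one]
  refine ⟨powEnd n, ?_, ?_, ?_⟩
  · apply isMonHom_of_points
    intro X x y
    apply gmUnit_injective
    rw [hφ, gmUnit_mul, gmUnit_mul, hφ, hφ, mul_pow]
  · have hw : i ≫ powEnd n = toUnit H ≫ η[Red.Gm (Spec (CommRingCat.of K))] := by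
      rw [← Hom.one_def, ← hker]
      exact ⟨𝟙 H, Category.id_comp _⟩
    refine ⟨⟨hw⟩, ⟨PullbackCone.IsLimit.mk _ (fun s => ?_) (fun s => ?_) (fun s => ?_) (fun s m h1 _ => ?_)⟩⟩
    · have hs : ∃ y : s.pt ⟶ H, y ≫ i = s.fst := by
        rw [hker, s.condition]
        have : s.snd = toUnit s.pt := toUnit_unique _ _
        rw [this, ← Hom.one_def]
      exact hs.choose
    · exact (Exists.choose_spec (p := fun y : s.pt ⟶ H => y ≫ i = s.fst) _)
    · exact toUnit_unique _ _
    · rw [← cancel_mono i, h1]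
      exact (Exists.choose_spec (p := fun y : s.pt ⟶ H => y ≫ i = s.fst) _).symm
  · have hff := powHom_faithfullyFlat (K := K) n hn
    have h5 := (flat_and_surjective_SpecMap_iff (CommRingCat.ofHom (powHom (K := K) n))).mpr hff
    haveI : IsIso (θm (K := K)).hom.left :=
      inferInstanceAs (IsIso ((Over.forget _).mapIso (θm (K := K))).hom)
    have h6 : (powEnd n).left = (θm (K := K)).hom.left ≫
        Spec.map (CommRingCat.ofHom (powHom n)) ≫ inv (θm (K := K)).hom.left := by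
      rw [← Category.assoc, ← powEnd_left, Category.assoc, IsIso.hom_inv_id, Category.comp_id]
    rw [h6]
    haveI := h5.1
    haveI := h5.2
    exact ⟨inferInstance, inferInstance⟩

end GmMain

end Groth.Agent.H9.GAQ
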