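import Mathlib
import Groth.Prelude.Def_Red2
import Groth.Agent.Lib.Helper9.Misc.GAQ6
import Groth.Agent.Lib.Helper9.Misc.GAQ9

/-! Helper9: S15180 — quotient of Ga/Gm by a finite subgroup scheme is again Ga/Gm. -/

set_option linter.style.haveILetI false
set_option linter.unusedSectionVars false

namespace Groth.Agent.H9.GAQ

universe u

open CategoryTheory MonoidalCategory CartesianMonoidalCategory MonObj GrpObj AlgebraicGeometry Limits

section transport

variable {S : Scheme.{u}}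

theorem transport {G G₀ H : Over S} [GrpObj G] [GrpObj G₀] [GrpObj H]
    (e : Grp.mk G ≅ Grp.mk G₀) (i : H ⟶ G) [IsMonHom i] [Mono i]
    (h : ∀ (j : H ⟶ G₀) [IsMonHom j] [Mono j], ∃ φ₀ : G₀ ⟶ G₀, IsMonHom φ₀ ∧ AlgGrp.IsKernel j φ₀ ∧
      Flat φ₀.left ∧ Surjective φ₀.left) :
    ∃ φ : G ⟶ G, IsMonHom φ ∧ AlgGrp.IsKernel i φ ∧ Flat φ.left ∧ Surjective φ.left := by
  let a : G ⟶ G₀ := e.hom.hom.hom
  let b : G₀ ⟶ G := e.inv.hom.hom
  have hab : a ≫ b = 𝟙 G := congrArg (fun f => f.hom.hom) e.hom_inv_id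
  have hba : b ≫ a = 𝟙 G₀ := congrArg (fun f => f.hom.hom) e.inv_hom_id
  haveI : IsMonHom a := inferInstanceAs (IsMonHom e.hom.hom.hom)
  haveI : IsMonHom b := inferInstanceAs (IsMonHom e.inv.hom.hom)
  haveI : IsIso a := ⟨b, hab, hba⟩
  haveI : IsIso b := ⟨a, hba, hab⟩
  haveI : Mono (i ≫ a) := mono_comp i a
  obtain ⟨φ₀, hm, hK, hfl, hsu⟩ := h (i ≫ a)
  haveI := hm
  refine ⟨a ≫ φ₀ ≫ b, inferInstance, ?_, ?_, ?_⟩
  · refine IsPullback.of_iso hK (Iso.refl H) (asIso b) (Iso.refl _) (asIso b) ?_ ?_ ?_ ?_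
    · simp only [asIso_hom, Iso.refl_hom, Category.assoc, hab, Category.comp_id, Category.id_comp]
    · simp
    · simp only [asIso_hom, ← Category.assoc, hba, Category.id_comp]
    · simp only [asIso_hom, Iso.refl_hom, Category.id_comp]
      exact IsMonHom.one_hom b
  · haveI : IsIso a.left := inferInstanceAs (IsIso ((Over.forget S).map a))
    haveI : IsIso b.left := inferInstanceAs (IsIso ((Over.forget S).map b))
    haveI := hfl
    exact inferInstanceAs (Flat (a.left ≫ φ₀.left ≫ b.left))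
  · haveI : IsIso a.left := inferInstanceAs (IsIso ((Over.forget S).map a))
    haveI : IsIso b.left := inferInstanceAs (IsIso ((Over.forget S).map b))
    haveI := hsu
    exact inferInstanceAs (Surjective (a.left ≫ φ₀.left ≫ b.left))

end transport

theorem S15180_main (K : Type u) [Field K] (G H : Over (Spec (CommRingCat.of K))) [GrpObj G]
    [GrpObj H]
    (hG : Nonempty (Grp.mk G ≅ Grp.mk (Red.Ga (Spec (CommRingCat.of K)))) ∨
      Nonempty (Grp.mk G ≅ Grp.mk (Red.Gm (Spec (CommRingCat.of K)))))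
    (i : H ⟶ G) [IsMonHom i] [Mono i] [IsFinite H.hom] :
    ∃ φ : G ⟶ G, IsMonHom φ ∧ AlgGrp.IsKernel i φ ∧ Flat φ.left ∧ Surjective φ.left := by
  rcases hG with ⟨⟨e⟩⟩ | ⟨⟨e⟩⟩
  · exact transport e i (fun j _ _ => main_Ga H j)
  · exact transport e i (fun j _ _ => main_Gm H j)

end Groth.Agent.H9.GAQ
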