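import Mathlib
import Groth.Prelude.Def_Red2
import Groth.Agent.H4.GaGm
import Groth.Agent.H4.SmRed2
import Groth.Agent.Lib.Helper9.Misc.GAQ1
import Groth.Agent.Lib.Helper9.Misc.GAQ2
import Groth.Agent.Lib.Helper9.Misc.GAQ3
import Groth.Agent.Lib.Helper9.Misc.GAQ4
import Groth.Agent.Lib.Helper9.Misc.GAQ5
import Groth.Agent.Lib.Helper9.Misc.GAQ6
import Groth.Agent.Lib.Helper9.Misc.QUO1
import Groth.Agent.Lib.Helper9.Misc.FLH5

/-! Helper9: finite surjective homomorphism from Ga to a smooth connected affine group forces the target to be Ga (S15606). -/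

set_option linter.style.haveILetI false
set_option linter.unusedSectionVars false

namespace Groth.Agent.H9.GAQ

universe u

open CategoryTheory MonoidalCategory CartesianMonoidalCategory MonObj GrpObj AlgebraicGeometry Limits
open Groth.Agent.H4.GaGm Polynomial

variable {K : Type u} [Field K]

set_option maxHeartbeats 1600000 in
/-- variant of `main_Ga` where the subobject is only assumed to be a subgroup functor -/
theorem main_Ga' (H : Over (Spec (CommRingCat.of K)))
    (i : H ⟶ Red.Ga (Spec (CommRingCat.of K))) [Mono i] [IsFinite H.hom]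
    (hone : ∀ X : Over (Spec (CommRingCat.of K)), ∃ y : X ⟶ H, y ≫ i = 1)
    (hmul : ∀ (X : Over (Spec (CommRingCat.of K))) (y1 y2 : X ⟶ H),
      ∃ y : X ⟶ H, y ≫ i = (y1 ≫ i) * (y2 ≫ i)) :
    ∃ φ : Red.Ga (Spec (CommRingCat.of K)) ⟶ Red.Ga (Spec (CommRingCat.of K)),
      IsMonHom φ ∧ AlgGrp.IsKernel i φ ∧ Flat φ.left ∧ Surjective φ.left := by
  obtain ⟨f, hfm, hfac⟩ := exists_monic_of_finite_mono H i
  -- the unit section lies in `H`
  have h0 : f.coeff 0 = 0 := by
    have h1 : ∃ y : AB (K := K) K ⟶ H, y ≫ i = 1 := hone _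
    rw [hfac, gaFn_one] at h1
    rw [← sec_zero (K := K) K, evA_sec, eval₂_at_zero] at h1
    have h3 := sec_injective K h1
    simpa using h3
  have hn : 1 ≤ f.natDegree := one_le_natDegree_of_monic_of_coeff_zero f hfm h0
  -- additivity
  have hadd : ∀ {B : Type u} [CommRing B] (ψ : K →+* B) (a b : B),
      f.eval₂ ψ (a + b) = f.eval₂ ψ a + f.eval₂ ψ b := by
    intro B _ ψ a b
    refine eval₂_add_of_root_sum f hfm h0 ?_ ψ a b
    set i1 := AdjoinRoot.of f with hi1
    set F := f.map i1 with hF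
    set i2 := AdjoinRoot.of F with hi2
    letI : Algebra K (AdjoinRoot F) := (i2.comp i1).toAlgebra
    let r1 : AdjoinRoot F := i2 (AdjoinRoot.root f)
    let r2 : AdjoinRoot F := AdjoinRoot.root F
    have e1 : f.eval₂ (algebraMap K (AdjoinRoot F)) r1 = 0 := by
      change f.eval₂ (i2.comp i1) (i2 (AdjoinRoot.root f)) = 0
      rw [← Polynomial.hom_eval₂, AdjoinRoot.eval₂_root, map_zero]
    have e2 : f.eval₂ (algebraMap K (AdjoinRoot F)) r2 = 0 := by
      change f.eval₂ (i2.comp i1) (AdjoinRoot.root F) = 0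
      rw [← Polynomial.eval₂_map, AdjoinRoot.eval₂_root]
    let x1 : AB (K := K) (AdjoinRoot F) ⟶ Red.Ga (Spec (CommRingCat.of K)) := gaPt (sec _ r1)
    let x2 : AB (K := K) (AdjoinRoot F) ⟶ Red.Ga (Spec (CommRingCat.of K)) := gaPt (sec _ r2)
    obtain ⟨y1, hy1⟩ : ∃ y : AB (K := K) (AdjoinRoot F) ⟶ H, y ≫ i = x1 := by
      rw [hfac, gaFn_gaPt, evA_sec, e1]
      exact sec_zero _
    obtain ⟨y2, hy2⟩ : ∃ y : AB (K := K) (AdjoinRoot F) ⟶ H, y ≫ i = x2 := by
      rw [hfac, gaFn_gaPt, evA_sec, e2]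
      exact sec_zero _
    have h3 : ∃ y : AB (K := K) (AdjoinRoot F) ⟶ H, y ≫ i = x1 * x2 := by
      obtain ⟨y, hy⟩ := hmul _ y1 y2
      exact ⟨y, by rw [hy, hy1, hy2]⟩
    rw [hfac, gaFn_mul, gaFn_gaPt, gaFn_gaPt] at h3
    rw [← sec_add, evA_sec, ← sec_zero (K := K) (AdjoinRoot F)] at h3
    exact sec_injective _ h3
  -- the endomorphism
  have hφ : ∀ (X : Over (Spec (CommRingCat.of K)))
      (x : X ⟶ Red.Ga (Spec (CommRingCat.of K))), Red.gaFn (x ≫ polyEnd f) = evA (Red.gaFn x) f :=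
    fun X x => gaFn_comp_polyEnd f x
  refine ⟨polyEnd f, ?_, ?_, ?_⟩
  · apply isMonHom_of_points
    intro X x y
    apply gaFn_injective
    rw [hφ, gaFn_mul, gaFn_mul, hφ, hφ, evA_apply, evA_apply, evA_apply, hadd]
  · -- kernel
    have hw : i ≫ polyEnd f = toUnit H ≫ η[Red.Ga (Spec (CommRingCat.of K))] := by
      apply gaFn_injective
      rw [hφ, ← Hom.one_def, gaFn_one, ← hfac]
      exact ⟨𝟙 H, Category.id_comp _⟩
    refine ⟨⟨hw⟩, ⟨PullbackCone.IsLimit.mk _ (fun s => ?_) (fun s => ?_) (fun s => ?_) (fun s m h1 _ => ?_)⟩⟩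
    · have hs : ∃ y : s.pt ⟶ H, y ≫ i = s.fst := by
        rw [hfac, ← hφ, s.condition]
        have : s.snd = toUnit s.pt := toUnit_unique _ _
        rw [this, ← Hom.one_def, gaFn_one]
      exact hs.choose
    · exact (Exists.choose_spec (p := fun y : s.pt ⟶ H => y ≫ i = s.fst) _)
    · exact toUnit_unique _ _
    · rw [← cancel_mono i, h1]
      exact (Exists.choose_spec (p := fun y : s.pt ⟶ H => y ≫ i = s.fst) _).symm
  · have hff := compRingHom_faithfullyFlat f hfm hn
    have h5 := (flat_and_surjective_SpecMap_iff (CommRingCat.ofHom (compRingHom f))).mpr hff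
    haveI : IsIso (θ (K := K)).hom.left :=
      inferInstanceAs (IsIso ((Over.forget _).mapIso (θ (K := K))).hom)
    have h6 : (polyEnd f).left = (θ (K := K)).hom.left ≫
        Spec.map (CommRingCat.ofHom (compRingHom f)) ≫ inv (θ (K := K)).hom.left := by
      rw [← Category.assoc, ← polyEnd_left, Category.assoc, IsIso.hom_inv_id, Category.comp_id]
    rw [h6]
    haveI := h5.1
    haveI := h5.2
    exact ⟨inferInstance, inferInstance⟩

theorem S15606_main (k : Type u) [Field k]
    (H : Over (Spec (CommRingCat.of k))) [GrpObj H] [IsAffine H.left] [Smooth H.hom]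
    [ConnectedSpace ↥H.left]
    (f : Red.Ga (Spec (CommRingCat.of k)) ⟶ H) [IsMonHom f] [IsFinite f.left] [Surjective f.left] :
    Nonempty (Grp.mk H ≅ Grp.mk (Red.Ga (Spec (CommRingCat.of k)))) := by
  -- flatness of `f`
  have hred : IsReduced H.left := Groth.Agent.H4.SmRed.isReduced_of_smooth_scheme H.hom
  have hdense : DenseRange f.left.base := by
    have : Function.Surjective f.left.base := f.left.surjective
    exact this.denseRange
  have hflat : Flat f.left := (Groth.Agent.H9.FLH.S5355_main _ H f hdense).2 hred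
  -- the kernel
  let N := pullback f η[H]
  let i : N ⟶ Red.Ga (Spec (CommRingCat.of k)) := pullback.fst f η[H]
  have hK : AlgGrp.IsKernel i f := by
    have h := IsPullback.of_hasPullback f η[H]
    have e : pullback.snd f η[H] = toUnit N := toUnit_unique _ _
    rw [e] at h
    exact h
  have hmonoη : Mono η[H] := by
    have h : η[H] ≫ toUnit H = 𝟙 _ := toUnit_unique _ _
    haveI : Mono (η[H] ≫ toUnit H) := by rw [h]; infer_instance
    exact mono_of_mono η[H] (toUnit H)
  haveI : Mono i := inferInstanceAs (Mono (pullback.fst f η[H]))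
  have hpb : IsPullback i.left (toUnit N).left f.left η[H].left := hK.map (Over.forget _)
  have hNhom : N.hom = (toUnit N).left := by
    have := Over.w (toUnit N)
    rw [← this]
    exact (Category.comp_id _).symm
  haveI : IsFinite N.hom := by
    rw [hNhom]
    exact MorphismProperty.of_isPullback (P := @IsFinite) hpb inferInstance
  have hone : ∀ X : Over (Spec (CommRingCat.of k)), ∃ y : X ⟶ N, y ≫ i = 1 := by
    intro X
    refine ⟨hK.lift 1 (toUnit X) ?_, hK.lift_fst _ _ _⟩
    rw [one_comp_of_isMonHom f, Hom.one_def]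
  have hmul : ∀ (X : Over (Spec (CommRingCat.of k))) (y1 y2 : X ⟶ N),
      ∃ y : X ⟶ N, y ≫ i = (y1 ≫ i) * (y2 ≫ i) := by
    intro X y1 y2
    refine ⟨hK.lift ((y1 ≫ i) * (y2 ≫ i)) (toUnit X) ?_, hK.lift_fst _ _ _⟩
    rw [comp_mul_of_isMonHom f, Category.assoc, Category.assoc, hK.w, ← Category.assoc,
      ← Category.assoc, toUnit_unique (y1 ≫ toUnit N) (toUnit X),
      toUnit_unique (y2 ≫ toUnit N) (toUnit X), ← Hom.one_def, _root_.mul_one]
  obtain ⟨φ, hφm, hKφ, hφflat, hφsurj⟩ := main_Ga' N i hone hmul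
  haveI : QuasiCompact f.left := inferInstance
  haveI : QuasiCompact φ.left := inferInstance
  obtain ⟨a, ham, ha, -⟩ := QUO.exists_desc_of_kernel f i hK φ hKφ.w
  obtain ⟨b, hbm, hb, -⟩ := QUO.exists_desc_of_kernel φ i hKφ f hK.w
  haveI : Epi f := QUO.epi_of_flat_surjective f
  haveI : Epi φ := QUO.epi_of_flat_surjective φ
  have hab : a ≫ b = 𝟙 H := by
    rw [← cancel_epi f, ← Category.assoc, ha, hb, Category.comp_id]
  have hba : b ≫ a = 𝟙 _ := by
    rw [← cancel_epi φ, ← Category.assoc, hb, ha, Category.comp_id]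
  let e : H ≅ Red.Ga (Spec (CommRingCat.of k)) := ⟨a, b, hab, hba⟩
  haveI : IsMonHom e.hom := ham
  exact ⟨Grp.mkIso' e⟩

end Groth.Agent.H9.GAQ
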