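import Mathlib
import Groth.Agent.Lib.Helper1.GenFreeRingHom
import Groth.Agent.Lib.Helper8.FlatSES
import Groth.Agent.Lib.Helper2.DirLimFlat

set_option autoImplicit false
set_option linter.style.haveILetI false
set_option linter.unusedSectionVars false
set_option linter.unusedVariables false

namespace Groth.Agent.H9.GFC

universe u

open Function

section FL

variable {R : Type u} [CommRing R] (S : Submonoid R)

/-- `X` localized at `S` is flat over `R`. -/
def FL (R : Type u) [CommRing R] (S : Submonoid R) (X : Type u) [AddCommGroup X] [Module R X] :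
    Prop :=
  Module.Flat R (LocalizedModule S X)

variable {X Y Z : Type u} [AddCommGroup X] [Module R X] [AddCommGroup Y] [Module R Y]
  [AddCommGroup Z] [Module R Z]

/-- The localized map. -/
noncomputable abbrev lmap (g : X →ₗ[R] Y) : LocalizedModule S X →ₗ[R] LocalizedModule S Y :=
  IsLocalizedModule.map S (LocalizedModule.mkLinearMap S X) (LocalizedModule.mkLinearMap S Y) g

theorem FL.congr (e : X ≃ₗ[R] Y) (h : FL R S X) : FL R S Y := by
  have hinj : Injective (lmap S e.toLinearMap) := IsLocalizedModule.map_injective S _ _ _ e.injective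
  have hsurj : Surjective (lmap S e.toLinearMap) :=
    IsLocalizedModule.map_surjective S _ _ _ e.surjective
  haveI : Module.Flat R (LocalizedModule S X) := h
  exact Module.Flat.of_linearEquiv (LinearEquiv.ofBijective _ ⟨hinj, hsurj⟩).symm

theorem FL.ext (g₁ : X →ₗ[R] Y) (g₂ : Y →ₗ[R] Z) (hinj : Injective g₁) (hex : Exact g₁ g₂)
    (hsurj : Surjective g₂) (h1 : FL R S X) (h3 : FL R S Z) : FL R S Y := by
  haveI : Module.Flat R (LocalizedModule S X) := h1
  haveI : Module.Flat R (LocalizedModule S Z) := h3
  exact Groth.Agent.H8.FlatSES.flat_middle (lmap S g₁) (lmap S g₂)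
    (IsLocalizedModule.map_injective S _ _ _ hinj)
    (IsLocalizedModule.map_exact S _ _ _ g₁ g₂ hex)
    (IsLocalizedModule.map_surjective S _ _ _ hsurj)

theorem FL.of_subsingleton [Subsingleton X] : FL R S X := by
  unfold FL
  haveI : Subsingleton (LocalizedModule S X) := by
    refine ⟨fun a b => ?_⟩
    induction a using LocalizedModule.induction_on with
    | h m s =>
      induction b using LocalizedModule.induction_on with
      | h m' s' =>
        rw [Subsingleton.elim m 0, Subsingleton.elim m' 0, LocalizedModule.zero_mk,
          LocalizedModule.zero_mk]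
  infer_instance

/-- Directed union. -/
theorem FL.union (F : ℕ → Submodule R X) (hmono : Monotone F) (hall : ∀ x : X, ∃ e, x ∈ F e)
    (h : ∀ e, FL R S (F e)) : FL R S X := by
  unfold FL
  refine Groth.Agent.H2.DirLimFlat.flat_of_directed (R := R) (ι := ℕ)
    (fun e => LocalizedModule S (F e))
    (fun i j hij => lmap S (Submodule.inclusion (hmono hij)))
    (fun i => lmap S (F i).subtype) ?_ ?_ ?_ h
  · intro i j hij x
    induction x using LocalizedModule.induction_on with
    | h m s =>
      simp only [lmap, IsLocalizedModule.map_LocalizedModules]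
      rfl
  · intro x
    induction x using LocalizedModule.induction_on with
    | h m s =>
      obtain ⟨e, he⟩ := hall m
      refine ⟨e, LocalizedModule.mk ⟨m, he⟩ s, ?_⟩
      simp only [lmap, IsLocalizedModule.map_LocalizedModules]
      rfl
  · intro i x hx
    refine ⟨i, le_rfl, ?_⟩
    have hinj : Injective (lmap S (F i).subtype) :=
      IsLocalizedModule.map_injective S _ _ _ (F i).injective_subtype
    have hx' : x = 0 := hinj (by rw [hx, map_zero])
    rw [hx', map_zero]

end FL

end Groth.Agent.H9.GFC
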