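import Mathlib
import Groth.Agent.Lib.Helper9.Misc.GFC1

set_option autoImplicit false
set_option linter.style.haveILetI false
set_option linter.unusedSectionVars false
set_option linter.unusedVariables false

namespace Groth.Agent.H9.GFC

universe u

open Function

section Filt

variable {R : Type u} [CommRing R] (S : Submonoid R)

theorem FL.filtration {N : Type u} [AddCommGroup N] [Module R N] (M : Submodule R N)
    (F : ℕ → Submodule R N) (hmono : Monotone F) (hM : M ≤ F 0) (hall : ∀ n : N, ∃ e, n ∈ F e)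
    (h0 : FL R S ((F 0).map M.mkQ))
    (hstep : ∀ e, ∃ (Z : Type u) (_ : AddCommGroup Z) (_ : Module R Z) (ρ : Z →ₗ[R] N ⧸ F e),
        Injective ρ ∧ LinearMap.range ρ = (F (e + 1)).map (F e).mkQ ∧ FL R S Z) :
    FL R S (N ⧸ M) := by
  refine FL.union S (fun e => (F e).map M.mkQ) (fun i j hij => Submodule.map_mono (hmono hij))
    ?_ ?_
  · intro x
    obtain ⟨n, rfl⟩ := M.mkQ_surjective x
    obtain ⟨e, he⟩ := hall n
    exact ⟨e, Submodule.mem_map_of_mem he⟩
  · intro e
    induction e with
    | zero => exact h0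
    | succ e ih =>
      obtain ⟨Z, _, _, ρ, hρ, hrange, hZ⟩ := hstep e
      have hMe : M ≤ LinearMap.ker (F e).mkQ := by
        rw [Submodule.ker_mkQ]; exact hM.trans (hmono (Nat.zero_le e))
      let q : (N ⧸ M) →ₗ[R] N ⧸ F e := M.liftQ (F e).mkQ hMe
      have hq : ∀ n : N, q (M.mkQ n) = (F e).mkQ n := fun n => rfl
      let φ : ↥((F (e + 1)).map M.mkQ) →ₗ[R] N ⧸ F e := q ∘ₗ ((F (e + 1)).map M.mkQ).subtype
      have hφ : ∀ x, φ x ∈ LinearMap.range ρ := by
        rintro ⟨x, hx⟩
        obtain ⟨n, hn, rfl⟩ := hx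
        rw [hrange]
        exact ⟨n, hn, rfl⟩
      let g₂ : ↥((F (e + 1)).map M.mkQ) →ₗ[R] Z :=
        (LinearEquiv.ofInjective ρ hρ).symm.toLinearMap ∘ₗ φ.codRestrict (LinearMap.range ρ) hφ
      have hg₂ : ∀ x, ρ (g₂ x) = φ x := by
        intro x
        have := (LinearEquiv.ofInjective ρ hρ).apply_symm_apply (φ.codRestrict _ hφ x)
        exact congrArg Subtype.val this
      refine FL.ext S (Submodule.inclusion (Submodule.map_mono (hmono (Nat.le_succ e)))) g₂
        (Submodule.inclusion_injective _) ?_ ?_ ih hZ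
      · intro x
        constructor
        · intro hx
          have h1 : φ x = 0 := by rw [← hg₂, hx, map_zero]
          obtain ⟨x, hx'⟩ := x
          obtain ⟨n, hn, rfl⟩ := hx'
          have h2 : (F e).mkQ n = 0 := h1
          rw [Submodule.mkQ_apply, Submodule.Quotient.mk_eq_zero] at h2
          exact ⟨⟨M.mkQ n, Submodule.mem_map_of_mem h2⟩, rfl⟩
        · rintro ⟨⟨y, hy⟩, rfl⟩
          apply hρ
          rw [hg₂, map_zero]
          obtain ⟨n, hn, rfl⟩ := hy
          change (F e).mkQ n = 0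
          rw [Submodule.mkQ_apply, Submodule.Quotient.mk_eq_zero]
          exact hn
      · intro z
        have hz : ρ z ∈ (F (e + 1)).map (F e).mkQ := by rw [← hrange]; exact ⟨z, rfl⟩
        obtain ⟨n, hn, hnz⟩ := hz
        refine ⟨⟨M.mkQ n, Submodule.mem_map_of_mem hn⟩, ?_⟩
        apply hρ
        rw [hg₂, ← hnz]
        rfl

end Filt

section GF

variable {R : Type u} [CommRing R]

/-- Generic flatness at `f`, uniformly in multiples of `f`. -/
def GF (R : Type u) [CommRing R] (X : Type u) [AddCommGroup X] [Module R X] (f : R) : Prop :=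
  ∀ g : R, FL R (Submonoid.powers (f * g)) X

variable {X Y Z : Type u} [AddCommGroup X] [Module R X] [AddCommGroup Y] [Module R Y]
  [AddCommGroup Z] [Module R Z] {f : R}

theorem GF.of_dvd (h : GF R X f) {f' : R} (hd : f ∣ f') : GF R X f' := by
  obtain ⟨t, rfl⟩ := hd
  intro g
  rw [mul_assoc]
  exact h (t * g)

theorem GF.congr (e : X ≃ₗ[R] Y) (h : GF R X f) : GF R Y f := fun g => (h g).congr _ e

theorem GF.of_subsingleton [Subsingleton X] : GF R X f := fun g => FL.of_subsingleton _

theorem GF.filtration {N : Type u} [AddCommGroup N] [Module R N] (M : Submodule R N)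
    (F : ℕ → Submodule R N) (hmono : Monotone F) (hM : M ≤ F 0) (hall : ∀ n : N, ∃ e, n ∈ F e)
    (h0 : GF R ((F 0).map M.mkQ) f)
    (hstep : ∀ e, ∃ (Z : Type u) (_ : AddCommGroup Z) (_ : Module R Z) (ρ : Z →ₗ[R] N ⧸ F e),
        Injective ρ ∧ LinearMap.range ρ = (F (e + 1)).map (F e).mkQ ∧ GF R Z f) :
    GF R (N ⧸ M) f := by
  intro g
  refine FL.filtration _ M F hmono hM hall (h0 g) ?_
  intro e
  obtain ⟨Z, i1, i2, ρ, h1, h2, h3⟩ := hstep e
  exact ⟨Z, i1, i2, ρ, h1, h2, h3 g⟩

theorem GF.flat (h : GF R X f) :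
    Module.Flat (Localization.Away f) (LocalizedModule (Submonoid.powers f) X) := by
  have h1 := h 1
  rw [mul_one] at h1
  exact (Module.flat_iff_of_isLocalization (Localization.Away f) (Submonoid.powers f) _).mpr h1

/-- Generic freeness (helper1) in `GF` form. -/
theorem exists_GF [IsReduced R] (C : Type u) [CommRing C] [Algebra R C] [Algebra.FiniteType R C]
    (N : Type u) [AddCommGroup N] [Module C N] [Module R N] [IsScalarTower R C N]
    [Module.Finite C N] (g : R) (hg : g ≠ 0) : ∃ f : R, g * f ≠ 0 ∧ GF R N (g * f) := by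
  obtain ⟨f, hf, hgood⟩ := Groth.Agent.H1.GenFree.exists_good (R := R) (S := C) (M := N) g hg
  refine ⟨f, hf, fun t => ?_⟩
  have h2 := (hgood.mul_right t).free_localizedModule
  unfold FL
  haveI := h2
  haveI : Module.Flat R (Localization.Away (g * f * t)) :=
    IsLocalization.flat _ (Submonoid.powers (g * f * t))
  exact Module.Flat.trans R (Localization.Away (g * f * t)) _

end GF

end Groth.Agent.H9.GFC
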