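import Mathlib
import Groth.Agent.Lib.Helper9.Misc.GFC2

set_option autoImplicit false
set_option linter.style.haveILetI false
set_option linter.unusedSectionVars false
set_option linter.unusedVariables false

namespace Groth.Agent.H9.GFC

universe u

open Function

section Filt'

variable {R : Type u} [CommRing R] {f : R}

/-- Filtration lemma with flexible quotients. -/
theorem GF.filtration' {N : Type u} [AddCommGroup N] [Module R N] (M : Submodule R N)
    (F : ℕ → Submodule R N) (hmono : Monotone F) (hM : M ≤ F 0) (hall : ∀ n : N, ∃ e, n ∈ F e)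
    (h0 : GF R ((F 0).map M.mkQ) f)
    (hstep : ∀ e, ∃ (Z : Type u) (_ : AddCommGroup Z) (_ : Module R Z)
        (Q : Type u) (_ : AddCommGroup Q) (_ : Module R Q) (π : N →ₗ[R] Q) (ρ : Z →ₗ[R] Q),
        Surjective π ∧ LinearMap.ker π = F e ∧
        Injective ρ ∧ LinearMap.range ρ = (F (e + 1)).map π ∧ GF R Z f) :
    GF R (N ⧸ M) f := by
  refine GF.filtration M F hmono hM hall h0 ?_
  intro e
  obtain ⟨Z, i1, i2, Q, i3, i4, π, ρ, hπ, hker, hρ, hrange, hZ⟩ := hstep e
  let ε : (N ⧸ F e) ≃ₗ[R] Q :=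
    (Submodule.quotEquivOfEq _ _ hker.symm).trans (π.quotKerEquivOfSurjective hπ)
  have hε : ∀ n : N, ε ((F e).mkQ n) = π n := fun n => rfl
  have hε' : ∀ n : N, ε.symm (π n) = (F e).mkQ n := fun n => by
    rw [← hε, ε.symm_apply_apply]
  refine ⟨Z, i1, i2, ε.symm.toLinearMap ∘ₗ ρ, ε.symm.injective.comp hρ, ?_, hZ⟩
  ext z
  constructor
  · rintro ⟨w, rfl⟩
    have hw : ρ w ∈ (F (e + 1)).map π := by rw [← hrange]; exact ⟨w, rfl⟩
    obtain ⟨n, hn, hnw⟩ := hw
    refine ⟨n, hn, ?_⟩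
    rw [LinearMap.comp_apply, ← hnw]
    exact (hε' n).symm
  · rintro ⟨n, hn, rfl⟩
    have hw : π n ∈ LinearMap.range ρ := by rw [hrange]; exact ⟨n, hn, rfl⟩
    obtain ⟨w, hw⟩ := hw
    refine ⟨w, ?_⟩
    rw [LinearMap.comp_apply, hw]
    exact hε' n

end Filt'

section Fil

variable {C' : Type u} [CommRing C'] {N : Type u} [AddCommGroup N] [Module C' N]
  (T : N →ₗ[C'] N) (F0 : Submodule C' N)

/-- The filtration `F 0 = F0`, `F (e+1) = F0 ⊔ T (F e)`. -/
noncomputable def Fil : ℕ → Submodule C' N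
  | 0 => F0
  | e + 1 => F0 ⊔ (Fil e).map T

theorem Fil_zero : Fil T F0 0 = F0 := rfl

theorem Fil_succ (e : ℕ) : Fil T F0 (e + 1) = F0 ⊔ (Fil T F0 e).map T := rfl

theorem F0_le_Fil (e : ℕ) : F0 ≤ Fil T F0 e := by
  cases e with
  | zero => exact le_rfl
  | succ e => exact le_sup_left

theorem Fil_le_succ (e : ℕ) : Fil T F0 e ≤ Fil T F0 (e + 1) := by
  induction e with
  | zero => exact le_sup_left
  | succ e ih =>
    rw [Fil_succ T F0 (e + 1), Fil_succ T F0 e]
    exact sup_le_sup_left (Submodule.map_mono (by rw [← Fil_succ]; exact ih)) _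

theorem Fil_mono : Monotone (Fil T F0) := monotone_nat_of_le_succ (Fil_le_succ T F0)

theorem map_Fil_le (e : ℕ) : (Fil T F0 e).map T ≤ Fil T F0 (e + 1) := le_sup_right

theorem Fil_fg (h : F0.FG) (e : ℕ) : (Fil T F0 e).FG := by
  induction e with
  | zero => exact h
  | succ e ih => exact h.sup (ih.map T)

theorem Fil_succ_eq (e : ℕ) :
    Fil T F0 (e + 1) = Fil T F0 e ⊔ (Fil T F0 1).map (T ^ e) := by
  induction e with
  | zero =>
    rw [pow_zero, Module.End.one_eq_id, Submodule.map_id]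
    exact (sup_eq_right.mpr (Fil_le_succ T F0 0)).symm
  | succ e ih =>
    have h1 : ((Fil T F0 1).map (T ^ e)).map T = (Fil T F0 1).map (T ^ (e + 1)) := by
      rw [← Submodule.map_comp, pow_succ', Module.End.mul_eq_comp]
    rw [Fil_succ T F0 (e + 1), ih, Submodule.map_sup, h1, ← sup_assoc, ← Fil_succ, ← ih]

theorem pow_mem_Fil (e : ℕ) {v : N} (hv : v ∈ Fil T F0 1) : (T ^ e) v ∈ Fil T F0 (e + 1) := by
  rw [Fil_succ_eq]
  exact Submodule.mem_sup_right (Submodule.mem_map_of_mem hv)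

end Fil

end Groth.Agent.H9.GFC
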