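import Mathlib
import Groth.Agent.Lib.Helper9.Misc.GFC3

set_option autoImplicit false
set_option linter.style.haveILetI false
set_option linter.unusedSectionVars false
set_option linter.unusedVariables false

namespace Groth.Agent.H9.GFC

universe u

open Function

section Union

variable {C' C : Type u} [CommRing C'] [CommRing C] [Algebra C' C] (x : C)
  {N : Type u} [AddCommGroup N] [Module C N] [Module C' N] [IsScalarTower C' C N]

/-- Multiplication by `x` as a `C'`-linear map. -/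
noncomputable def mulX : N →ₗ[C'] N := (LinearMap.lsmul C N x).restrictScalars C'

theorem mulX_apply (n : N) : mulX (C' := C') x n = x • n := rfl

theorem Fil_exhaust (hx : Algebra.adjoin C' {x} = ⊤) (F0 : Submodule C' N) (s : Set N)
    (hs : Submodule.span C s = ⊤) (hsF : s ⊆ F0) :
    ∀ n : N, ∃ e, n ∈ Fil (mulX (C' := C') x) F0 e := by
  have hQ : ∀ c : C, ∀ (n : N) (e : ℕ), n ∈ Fil (mulX (C' := C') x) F0 e →
      ∃ e', c • n ∈ Fil (mulX (C' := C') x) F0 e' := by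
    intro c
    have hc : c ∈ Algebra.adjoin C' {x} := by rw [hx]; trivial
    induction hc using Algebra.adjoin_induction with
    | mem c hc =>
      rw [Set.mem_singleton_iff] at hc
      subst hc
      intro n e hn
      exact ⟨e + 1, map_Fil_le _ F0 e (Submodule.mem_map_of_mem hn)⟩
    | algebraMap c' =>
      intro n e hn
      refine ⟨e, ?_⟩
      rw [algebraMap_smul]
      exact Submodule.smul_mem _ _ hn
    | add c₁ c₂ _ _ h₁ h₂ =>
      intro n e hn
      obtain ⟨e₁, he₁⟩ := h₁ n e hn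
      obtain ⟨e₂, he₂⟩ := h₂ n e hn
      refine ⟨max e₁ e₂, ?_⟩
      rw [add_smul]
      exact Submodule.add_mem _ (Fil_mono _ F0 (le_max_left _ _) he₁)
        (Fil_mono _ F0 (le_max_right _ _) he₂)
    | mul c₁ c₂ _ _ h₁ h₂ =>
      intro n e hn
      obtain ⟨e₂, he₂⟩ := h₂ n e hn
      obtain ⟨e₁, he₁⟩ := h₁ _ e₂ he₂
      exact ⟨e₁, by rwa [mul_smul]⟩
  intro n
  have hn : n ∈ Submodule.span C s := by rw [hs]; trivial
  induction hn using Submodule.span_induction with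
  | mem n hn => exact ⟨0, hsF hn⟩
  | zero => exact ⟨0, Submodule.zero_mem _⟩
  | add a b _ _ ha hb =>
    obtain ⟨e₁, he₁⟩ := ha
    obtain ⟨e₂, he₂⟩ := hb
    exact ⟨max e₁ e₂, Submodule.add_mem _ (Fil_mono _ F0 (le_max_left _ _) he₁)
        (Fil_mono _ F0 (le_max_right _ _) he₂)⟩
  | smul c a _ ha =>
    obtain ⟨e, he⟩ := ha
    exact hQ c a e he

end Union

section Step

variable {R : Type u} [CommRing R] [IsDomain R] [IsNoetherianRing R]

theorem step (C' C : Type u) [CommRing C'] [CommRing C] [Algebra R C'] [Algebra C' C]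
    [Algebra.FiniteType R C'] (x : C) (hx : Algebra.adjoin C' {x} = ⊤)
    (N : Type u) [AddCommGroup N] [Module C N] [Module C' N] [Module R N] [IsScalarTower C' C N]
    [IsScalarTower R C' N] [Module.Finite C N]
    (M : Submodule R N) (N₁ : Submodule C' N) (hN₁ : N₁.FG) (hMN₁ : M ≤ N₁.restrictScalars R)
    (IH : ∀ N' : Submodule C' N, N'.FG → M ≤ N'.restrictScalars R →
      ∃ f : R, f ≠ 0 ∧ GF R ((N'.restrictScalars R).map M.mkQ) f) :
    ∃ f : R, f ≠ 0 ∧ GF R (N ⧸ M) f := by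
  classical
  obtain ⟨s, hs⟩ := (Module.Finite.fg_top : (⊤ : Submodule C N).FG)
  obtain ⟨T, hT⟩ : ∃ T : N →ₗ[C'] N, T = mulX (C' := C') x := ⟨_, rfl⟩
  obtain ⟨F0, hF0def⟩ : ∃ F0 : Submodule C' N, F0 = Submodule.span C' (s : Set N) ⊔ N₁ :=
    ⟨_, rfl⟩
  have hF0 : F0.FG := by
    rw [hF0def]; exact (Submodule.fg_span s.finite_toSet).sup hN₁
  have hsF : (s : Set N) ⊆ F0 := by
    rw [hF0def]; exact fun n hn => Submodule.mem_sup_left (Submodule.subset_span hn)
  have hN₁F : N₁ ≤ F0 := by rw [hF0def]; exact le_sup_right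
  obtain ⟨F, hFdef⟩ : ∃ F : ℕ → Submodule C' N, F = Fil T F0 := ⟨_, rfl⟩
  have hall : ∀ n : N, ∃ e, n ∈ F e := by
    rw [hFdef, hT]; exact Fil_exhaust x hx F0 s hs hsF
  have hFmono : Monotone F := by rw [hFdef]; exact Fil_mono T F0
  have hF_zero : F 0 = F0 := by rw [hFdef]; rfl
  haveI : IsNoetherianRing C' := Algebra.FiniteType.isNoetherianRing R C'
  have hF1 : (F 1).FG := by rw [hFdef]; exact Fil_fg T F0 hF0 1
  haveI : IsNoetherian C' (F 1) := isNoetherian_of_fg_of_noetherian _ hF1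
  have hpow : ∀ (e : ℕ) {v : N}, v ∈ F 1 → (T ^ e) v ∈ F (e + 1) := by
    intro e v hv; rw [hFdef] at hv ⊢; exact pow_mem_Fil T F0 e hv
  have hsucc : ∀ e, F (e + 1) = F e ⊔ (F 1).map (T ^ e) := by
    intro e; rw [hFdef]; exact Fil_succ_eq T F0 e
  have hmapT : ∀ e, (F e).map T ≤ F (e + 1) := by
    intro e; rw [hFdef]; exact map_Fil_le T F0 e
  -- ψ
  let ψ : ∀ e, ↥(F 1) →ₗ[C'] N ⧸ F e := fun e => (F e).mkQ ∘ₗ (T ^ e) ∘ₗ (F 1).subtype
  have hψ : ∀ e (v : ↥(F 1)), ψ e v = (F e).mkQ ((T ^ e) v.1) := fun e v => rfl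
  obtain ⟨L, hLdef⟩ : ∃ L : ℕ → Submodule C' ↥(F 1), L = fun e => LinearMap.ker (ψ e) :=
    ⟨_, rfl⟩
  have hLmem : ∀ e (v : ↥(F 1)), v ∈ L e ↔ (T ^ e) v.1 ∈ F e := by
    intro e v
    rw [hLdef]
    change ψ e v = 0 ↔ _
    rw [hψ, Submodule.mkQ_apply, Submodule.Quotient.mk_eq_zero]
  have hLmono : Monotone L := by
    refine monotone_nat_of_le_succ (fun e v hv => ?_)
    rw [hLmem] at hv ⊢
    rw [pow_succ', Module.End.mul_apply]
    exact hmapT e (Submodule.mem_map_of_mem hv)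
  obtain ⟨e₁, he₁⟩ := monotone_stabilizes_iff_noetherian.mpr
    (inferInstance : IsNoetherian C' ↥(F 1)) ⟨L, hLmono⟩
  haveI : Module.Finite C' ↥(F 1) := Module.Finite.iff_fg.mpr hF1
  have hZ : ∀ e, ∃ f : R, f ≠ 0 ∧ GF R (↥(F 1) ⧸ L e) f := fun e => by
    obtain ⟨f, hf, h⟩ := exists_GF (R := R) C' (↥(F 1) ⧸ L e) 1 one_ne_zero
    exact ⟨1 * f, hf, h⟩
  choose fe hfe0 hfe using hZ
  obtain ⟨f₀, hf₀, h₀⟩ := IH F0 hF0 (hMN₁.trans hN₁F)
  refine ⟨f₀ * ∏ e ∈ Finset.range (e₁ + 1), fe e,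
    mul_ne_zero hf₀ (Finset.prod_ne_zero_iff.mpr fun e _ => hfe0 e), ?_⟩
  have key : ∀ (P Q : Submodule C' ↥(F 1)) (g : R), P = Q → GF R (↥(F 1) ⧸ P) g →
      GF R (↥(F 1) ⧸ Q) g := by
    rintro P _ g rfl h; exact h
  refine GF.filtration' M (fun e => (F e).restrictScalars R)
    (fun i j hij n hn => hFmono hij hn) ?_ hall ?_ ?_
  · rw [hF_zero]; exact hMN₁.trans hN₁F
  · have := h₀.of_dvd (Dvd.intro (∏ e ∈ Finset.range (e₁ + 1), fe e) rfl)
    rw [hF_zero]; exact this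
  · intro e
    refine ⟨↥(F 1) ⧸ L e, inferInstance, inferInstance, N ⧸ F e, inferInstance, inferInstance,
      (F e).mkQ.restrictScalars R,
      ((L e).liftQ (ψ e) (by rw [hLdef])).restrictScalars R, ?_, ?_, ?_, ?_, ?_⟩
    · exact (F e).mkQ_surjective
    · ext n
      simp only [LinearMap.mem_ker, LinearMap.coe_restrictScalars, Submodule.mkQ_apply,
        Submodule.Quotient.mk_eq_zero, Submodule.restrictScalars_mem]
    · have : LinearMap.ker ((L e).liftQ (ψ e) (by rw [hLdef])) = ⊥ :=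
        Submodule.ker_liftQ_eq_bot _ _ _ (by rw [hLdef])
      exact fun a b h => LinearMap.ker_eq_bot.mp this h
    · ext z
      constructor
      · rintro ⟨w, rfl⟩
        obtain ⟨v, rfl⟩ := (L e).mkQ_surjective w
        exact ⟨(T ^ e) v.1, hpow e v.2, rfl⟩
      · rintro ⟨n, hn, rfl⟩
        have hn' : n ∈ F e ⊔ (F 1).map (T ^ e) := by rw [← hsucc]; exact hn
        obtain ⟨a, ha, b, hb, rfl⟩ := Submodule.mem_sup.mp hn'
        obtain ⟨v, hv, rfl⟩ := hb
        refine ⟨(L e).mkQ ⟨v, hv⟩, ?_⟩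
        change (F e).mkQ ((T ^ e) v) = (F e).mkQ (a + (T ^ e) v)
        rw [map_add, Submodule.mkQ_apply, Submodule.mkQ_apply,
          (Submodule.Quotient.mk_eq_zero _).mpr ha, zero_add]
    · by_cases he : e ≤ e₁
      · refine (hfe e).of_dvd (Dvd.dvd.mul_left ?_ _)
        exact Finset.dvd_prod_of_mem _ (Finset.mem_range.mpr (Nat.lt_succ_of_le he))
      · have h1 : L e₁ = L e := he₁ e (le_of_not_ge he)
        refine key _ _ _ h1 ((hfe e₁).of_dvd (Dvd.dvd.mul_left ?_ _))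
        exact Finset.dvd_prod_of_mem _ (Finset.mem_range.mpr (Nat.lt_succ_self _))

end Step

end Groth.Agent.H9.GFC
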