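import Mathlib
import Groth.Agent.Lib.Helper9.Misc.GFC4

set_option autoImplicit false
set_option linter.style.haveILetI false
set_option linter.unusedSectionVars false
set_option linter.unusedVariables false

namespace Groth.Agent.H9.GFC

universe u

open Function

section Iso

variable {R : Type u} [CommRing R] {N : Type u} [AddCommGroup N] [Module R N]

/-- `N'/(M ∩ N') ≃ image of N' in N/M`. -/
noncomputable def quotMapEquiv (M N' : Submodule R N) :
    (↥N' ⧸ M.comap N'.subtype) ≃ₗ[R] ↥(N'.map M.mkQ) := by
  have hker : LinearMap.ker (M.mkQ ∘ₗ N'.subtype) = M.comap N'.subtype := by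
    rw [LinearMap.ker_comp, Submodule.ker_mkQ]
  have hrange : LinearMap.range (M.mkQ ∘ₗ N'.subtype) = N'.map M.mkQ := by
    rw [LinearMap.range_comp, Submodule.range_subtype]
  exact ((Submodule.quotEquivOfEq _ _ hker.symm).trans
    (M.mkQ ∘ₗ N'.subtype).quotKerEquivRange).trans (LinearEquiv.ofEq _ _ hrange)

end Iso

section Main

variable {R : Type u} [CommRing R] [IsDomain R] [IsNoetherianRing R]
  (A : Type u) [CommRing A] [Algebra R A] [Algebra.FiniteType R A]

/-- The statement proved by induction on the number of generators. -/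
def SR (R : Type u) [CommRing R] (A : Type u) [CommRing A] [Algebra R A] (r : ℕ) : Prop :=
  ∀ (C : Type u) [CommRing C] [Algebra R C] [Algebra A C] [IsScalarTower R A C]
    (t : Fin r → C) (_ : Algebra.adjoin A (Set.range t) = ⊤)
    (N : Type u) [AddCommGroup N] [Module C N] [Module A N] [Module R N]
    [IsScalarTower A C N] [IsScalarTower R A N] [IsScalarTower R C N] [Module.Finite C N]
    (M : Submodule A N) (_ : M.FG), ∃ f : R, f ≠ 0 ∧ GF R (N ⧸ M.restrictScalars R) f

theorem SR_zero : SR R A 0 := by
  intro C _ _ _ _ t ht N _ _ _ _ _ _ _ _ M hM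
  have hsurj : Surjective (algebraMap A C) := by
    rw [Algebra.surjective_algebraMap_iff, ← ht]
    have : Set.range t = ∅ := Set.range_eq_empty t
    rw [this, Algebra.adjoin_empty]
  haveI : Module.Finite A C := Module.Finite.of_surjective (Algebra.linearMap A C) hsurj
  haveI : Module.Finite A N := Module.Finite.trans C N
  obtain ⟨f, hf, h⟩ := exists_GF (R := R) A (N ⧸ M) 1 one_ne_zero
  exact ⟨1 * f, hf, h.congr (Submodule.Quotient.restrictScalarsEquiv R M).symm⟩

theorem SR_succ (r : ℕ) (ih : SR R A r) : SR R A (r + 1) := by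
  intro C _ _ _ _ t ht N _ _ _ _ _ _ _ _ M hM
  classical
  obtain ⟨C', hC'⟩ : ∃ C' : Subalgebra A C,
      C' = Algebra.adjoin A (Set.range (t ∘ Fin.castSucc)) := ⟨_, rfl⟩
  have hx : Algebra.adjoin ↥C' {t (Fin.last r)} = ⊤ := by
    have h1 : Set.range t = Set.range (t ∘ Fin.castSucc) ∪ {t (Fin.last r)} := by
      ext c
      constructor
      · rintro ⟨i, rfl⟩
        induction i using Fin.lastCases with
        | last => exact Or.inr rfl
        | cast i => exact Or.inl ⟨i, rfl⟩
      · rintro (⟨i, rfl⟩ | h)
        · exact ⟨_, rfl⟩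
        · rw [Set.mem_singleton_iff] at h; exact ⟨_, h.symm⟩
    have h2 := Algebra.adjoin_union_eq_adjoin_adjoin A (Set.range (t ∘ Fin.castSucc))
      {t (Fin.last r)}
    rw [← h1, ht, ← hC'] at h2
    rw [eq_top_iff]
    intro c _
    have : c ∈ Subalgebra.restrictScalars A (Algebra.adjoin ↥C' {t (Fin.last r)}) := by
      rw [← h2]; trivial
    exact this
  haveI : Algebra.FiniteType A ↥C' := by
    rw [← Subalgebra.fg_iff_finiteType, hC']
    have : Set.range (t ∘ Fin.castSucc) = ((Finset.univ.image (t ∘ Fin.castSucc) : Finset C) : Set C) := by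
      rw [Finset.coe_image, Finset.coe_univ, Set.image_univ]
    rw [this]
    exact Subalgebra.fg_adjoin_finset _
  haveI : Algebra.FiniteType R ↥C' := Algebra.FiniteType.trans (inferInstance : Algebra.FiniteType R A)
    inferInstance
  obtain ⟨sM, hsM⟩ := hM
  have hMN₁ : M.restrictScalars R ≤ (Submodule.span ↥C' (sM : Set N)).restrictScalars R := by
    have key : ∀ m ∈ Submodule.span A (sM : Set N), m ∈ Submodule.span ↥C' (sM : Set N) := by
      intro m hm'
      induction hm' using Submodule.span_induction with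
      | mem n hn => exact Submodule.subset_span hn
      | zero => exact Submodule.zero_mem _
      | add a b _ _ ha hb => exact Submodule.add_mem _ ha hb
      | smul a n _ hn =>
        rw [← algebraMap_smul (↥C') a n]
        exact Submodule.smul_mem _ _ hn
    intro m hm
    exact key m (by rw [hsM]; exact hm)
  refine step ↥C' C (t (Fin.last r)) hx N (M.restrictScalars R) (Submodule.span ↥C' (sM : Set N))
    (Submodule.fg_span sM.finite_toSet) hMN₁ ?_
  intro N' hN' hMN'
  -- apply the induction hypothesis to `C'`, `N'`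
  let t' : Fin r → ↥C' := fun i => ⟨t i.castSucc, by
    rw [hC']; exact Algebra.subset_adjoin ⟨i, rfl⟩⟩
  have ht' : Algebra.adjoin A (Set.range t') = ⊤ := by
    have h1 : Set.range t' = (Subtype.val ⁻¹' (Set.range (t ∘ Fin.castSucc)) : Set ↥C') := by
      ext c
      constructor
      · rintro ⟨i, rfl⟩; exact ⟨i, rfl⟩
      · rintro ⟨i, hi⟩; exact ⟨i, Subtype.ext hi⟩
    rw [h1]
    subst hC'
    exact Algebra.adjoin_adjoin_coe_preimage
  haveI : Module.Finite ↥C' ↥N' := Module.Finite.iff_fg.mpr hN'
  let ι : ↥N' →ₗ[A] N := N'.subtype.restrictScalars A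
  have hι : Injective ι := N'.injective_subtype
  let M' : Submodule A ↥N' := M.comap ι
  have hM' : M'.FG := by
    refine Submodule.fg_of_fg_map_injective ι hι ?_
    have : M'.map ι = M := by
      rw [Submodule.map_comap_eq, inf_eq_right]
      intro m hm
      exact ⟨⟨m, hMN' hm⟩, rfl⟩
    rw [this]
    exact ⟨sM, hsM⟩
  obtain ⟨f, hf, hGF⟩ := ih ↥C' t' ht' ↥N' M' hM'
  refine ⟨f, hf, ?_⟩
  have e1 := quotMapEquiv (M.restrictScalars R) (N'.restrictScalars R)
  exact hGF.congr e1

theorem SR_all (r : ℕ) : SR R A r := by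
  induction r with
  | zero => exact SR_zero A
  | succ r ih => exact SR_succ A r ih

end Main

end Groth.Agent.H9.GFC

namespace Groth.Agent.H9.GFC

universe u

theorem main {R A B : Type u} [CommRing R] [IsDomain R] [IsNoetherianRing R] [CommRing A] [CommRing B]
    [Algebra R A] [Algebra A B] [Algebra R B] [IsScalarTower R A B] [Algebra.FiniteType R A] [Algebra.FiniteType A B]
    {M N : Type u} [AddCommGroup M] [Module A M] [Module R M] [IsScalarTower R A M] [Module.Finite A M]
    [AddCommGroup N] [Module B N] [Module A N] [Module R N] [IsScalarTower A B N] [IsScalarTower R A N] [Module.Finite B N]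
    (u : M →ₗ[A] N) :
    ∃ f : R, f ≠ 0 ∧ Module.Flat (Localization.Away f)
      (LocalizedModule (Submonoid.powers f) (N ⧸ (LinearMap.range u).restrictScalars R)) := by
  classical
  obtain ⟨s, hs⟩ := (Algebra.FiniteType.out : (⊤ : Subalgebra A B).FG)
  haveI : IsScalarTower R B N := by
    refine IsScalarTower.of_algebraMap_smul (fun r n => ?_)
    rw [IsScalarTower.algebraMap_apply R A B, algebraMap_smul, algebraMap_smul]
  let t : Fin s.card → B := fun i => (s.equivFin.symm i : B)
  have ht : Algebra.adjoin A (Set.range t) = ⊤ := by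
    have : Set.range t = (s : Set B) := by
      ext b
      constructor
      · rintro ⟨i, rfl⟩; exact (s.equivFin.symm i).2
      · intro hb; exact ⟨s.equivFin ⟨b, hb⟩, by simp [t]⟩
    rw [this, hs]
  have hfg : (LinearMap.range u).FG := by
    rw [LinearMap.range_eq_map]
    exact Module.Finite.fg_top.map u
  obtain ⟨f, hf, h⟩ := SR_all (R := R) A s.card B t ht N (LinearMap.range u) hfg
  exact ⟨f, hf, h.flat⟩

end Groth.Agent.H9.GFC
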