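import Mathlib

set_option autoImplicit false
set_option linter.style.haveILetI false
set_option linter.unusedSectionVars false
set_option linter.unusedVariables false

universe u

open CategoryTheory CategoryTheory.Limits AlgebraicGeometry TopologicalSpace Topology Opposite

namespace Groth.Agent.H9.GIS

variable {X Y Z W : Scheme.{u}}

theorem isSchemeTheoreticallyDominant_of_comp (f : X ⟶ Y) (g : Y ⟶ Z)
    [IsSchemeTheoreticallyDominant (f ≫ g)] : IsSchemeTheoreticallyDominant g := by
  rw [isSchemeTheoreticallyDominant_iff, ← le_bot_iff]
  have h1 : (f ≫ g).ker = ⊥ := Scheme.Hom.ker_eq_bot (f ≫ g)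
  rw [← h1, Scheme.Hom.ker_comp, ← Scheme.IdealSheafData.map_bot]
  exact Scheme.IdealSheafData.map_mono g bot_le

/-- the base change of the local scheme at the generic point of an integral closed subscheme is
scheme-theoretically dominant in it. -/
theorem dominant_generic {S C : Scheme.{u}} [IsLocallyNoetherian S] (i : C ⟶ S) [IsIntegral C] :
    IsSchemeTheoreticallyDominant
      (pullback.fst i (S.fromSpecStalk (i (genericPoint C)))) ∧
    QuasiCompact (pullback.fst i (S.fromSpecStalk (i (genericPoint C)))) := by
  haveI : IsNoetherianRing (S.presheaf.stalk (i (genericPoint C))) := inferInstance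
  haveI : NoetherianSpace ↥(Spec (S.presheaf.stalk (i (genericPoint C)))) :=
    inferInstanceAs (NoetherianSpace (PrimeSpectrum (S.presheaf.stalk (i (genericPoint C)))))
  haveI : QuasiCompact (S.fromSpecStalk (i (genericPoint C))) := inferInstance
  haveI hqc : QuasiCompact (pullback.fst i (S.fromSpecStalk (i (genericPoint C)))) := inferInstance
  refine ⟨?_, hqc⟩
  haveI : IsDominant (pullback.fst i (S.fromSpecStalk (i (genericPoint C)))) := by
    constructor
    obtain ⟨z, hz1, -⟩ := Scheme.Pullback.exists_preimage_pullback (f := i)
      (g := S.fromSpecStalk (i (genericPoint C))) (genericPoint C)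
      (IsLocalRing.closedPoint _) (Scheme.fromSpecStalk_closedPoint).symm
    have h1 : closure ({genericPoint C} : Set C) = Set.univ := genericPoint_spec C
    rw [DenseRange, dense_iff_closure_eq, ← Set.univ_subset_iff, ← h1]
    apply closure_mono
    rw [Set.singleton_subset_iff]
    exact ⟨z, hz1⟩
  exact IsSchemeTheoreticallyDominant.of_isDominant _

theorem main {S S' C C' : Scheme.{u}} [IsLocallyNoetherian S] [IsLocallyNoetherian S']
    (f : S' ⟶ S) [Flat f] (i : C ⟶ S) [IsClosedImmersion i] [IsIntegral C]
    (i' : C' ⟶ S') [IsClosedImmersion i'] [IsIntegral C']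
    (g : C' ⟶ C) (hsq : g ≫ i = i' ≫ f)
    (hgen : IsIso (pullback.snd (pullback.lift g i' hsq)
      (pullback.fst (pullback.fst i f ≫ i) (S.fromSpecStalk (i.base (genericPoint C)))))) :
    IsIso (pullback.lift g i' hsq) := by
  obtain ⟨hdom, hqc⟩ := dominant_generic i
  -- the pasted square
  have hpb := IsPullback.of_right'
    (IsPullback.of_hasPullback (pullback.fst i f ≫ i) (S.fromSpecStalk (i (genericPoint C)))).flip
    (IsPullback.of_hasPullback i (S.fromSpecStalk (i (genericPoint C)))).flip
  haveI : Flat (pullback.fst i f) := inferInstance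
  haveI hj : IsSchemeTheoreticallyDominant
      (pullback.fst (pullback.fst i f ≫ i) (S.fromSpecStalk (i (genericPoint C)))) :=
    IsSchemeTheoreticallyDominant.of_isPullback hpb
  -- `φ` is a closed immersion
  haveI : IsClosedImmersion (pullback.lift g i' hsq ≫ pullback.snd i f) := by
    rw [pullback.lift_snd]; infer_instance
  haveI : IsClosedImmersion (pullback.lift g i' hsq) :=
    IsClosedImmersion.of_comp _ (pullback.snd i f)
  -- `φ` is scheme-theoretically dominant
  have hcond := pullback.condition (f := pullback.lift g i' hsq)
    (g := pullback.fst (pullback.fst i f ≫ i) (S.fromSpecStalk (i (genericPoint C))))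
  have hfac : pullback.fst (pullback.fst i f ≫ i) (S.fromSpecStalk (i (genericPoint C))) =
      (inv (pullback.snd (pullback.lift g i' hsq)
        (pullback.fst (pullback.fst i f ≫ i) (S.fromSpecStalk (i (genericPoint C))))) ≫
        pullback.fst (pullback.lift g i' hsq)
        (pullback.fst (pullback.fst i f ≫ i) (S.fromSpecStalk (i (genericPoint C))))) ≫
      pullback.lift g i' hsq := by
    rw [Category.assoc, hcond, IsIso.inv_hom_id_assoc]
  haveI : IsSchemeTheoreticallyDominant (pullback.lift g i' hsq) := by
    haveI : IsSchemeTheoreticallyDominant ((inv (pullback.snd (pullback.lift g i' hsq)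
        (pullback.fst (pullback.fst i f ≫ i) (S.fromSpecStalk (i (genericPoint C))))) ≫
        pullback.fst (pullback.lift g i' hsq)
        (pullback.fst (pullback.fst i f ≫ i) (S.fromSpecStalk (i (genericPoint C))))) ≫
      pullback.lift g i' hsq) := by rw [← hfac]; exact hj
    exact isSchemeTheoreticallyDominant_of_comp (inv (pullback.snd (pullback.lift g i' hsq)
        (pullback.fst (pullback.fst i f ≫ i) (S.fromSpecStalk (i (genericPoint C))))) ≫
        pullback.fst (pullback.lift g i' hsq)
        (pullback.fst (pullback.fst i f ≫ i) (S.fromSpecStalk (i (genericPoint C)))))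
      (pullback.lift g i' hsq)
  exact IsClosedImmersion.isIso_iff_ker_eq_bot.mpr (Scheme.Hom.ker_eq_bot _)

end Groth.Agent.H9.GIS
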