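import Mathlib

/-!
# Numerical criterion for (semi)stability of symmetric/alternating-type bilinear maps

Helper library for S15159.
-/

namespace Groth.Agent.Lib.Helper9.GITNum

/-- layer-cake identity for one integer -/
lemma layer (T : ℕ) (m : ℤ) :
    ∑ t ∈ Finset.range (T + 1), ((if (t : ℤ) < m then (1 : ℤ) else 0) -
      (if m ≤ -(t : ℤ) - 1 then 1 else 0)) =
    min (max m 0) (T + 1) - min (max (-m) 0) (T + 1) := by
  induction T with
  | zero =>
    simp only [zero_add, Finset.range_one, Finset.sum_singleton, Nat.cast_zero]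
    split_ifs <;> omega
  | succ T ih =>
    rw [Finset.sum_range_succ, ih]
    push_cast
    split_ifs <;> omega

section Arith

variable {ι : Type*} [Fintype ι] (m d : ι → ℤ)

/-- The cumulative weight distribution. -/
def D (t : ℤ) : ℤ := ∑ i, if m i ≤ t then d i else 0

variable {m d}

lemma D_mono (hd : ∀ i, 0 ≤ d i) {t t' : ℤ} (h : t ≤ t') : D m d t ≤ D m d t' := by
  unfold D
  apply Finset.sum_le_sum
  intro i _
  have := hd i
  split_ifs <;> omega

lemma D_nonneg (hd : ∀ i, 0 ≤ d i) (t : ℤ) : 0 ≤ D m d t := by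
  unfold D
  apply Finset.sum_nonneg
  intro i _
  have := hd i
  split_ifs <;> omega

lemma D_le (hd : ∀ i, 0 ≤ d i) (t : ℤ) : D m d t ≤ ∑ i, d i := by
  unfold D
  apply Finset.sum_le_sum
  intro i _
  have := hd i
  split_ifs <;> omega

lemma D_ge_of_le (hd : ∀ i, 0 ≤ d i) (i₀ : ι) {t : ℤ} (h : m i₀ ≤ t) : d i₀ ≤ D m d t := by
  unfold D
  have h1 : (if m i₀ ≤ t then d i₀ else 0) ≤ ∑ i, if m i ≤ t then d i else 0 :=
    Finset.single_le_sum (f := fun i => if m i ≤ t then d i else 0)
      (fun i _ => by have := hd i; split_ifs <;> omega) (Finset.mem_univ i₀)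
  rwa [if_pos h] at h1

lemma D_le_of_lt (hd : ∀ i, 0 ≤ d i) (i₀ : ι) {t : ℤ} (h : t < m i₀) :
    D m d t + d i₀ ≤ ∑ i, d i := by
  classical
  unfold D
  have h1 : ∑ i, d i - ∑ i, (if m i ≤ t then d i else 0) =
      ∑ i, (if m i ≤ t then 0 else d i) := by
    rw [← Finset.sum_sub_distrib]
    apply Finset.sum_congr rfl
    intro i _
    split_ifs <;> ring
  have h2 : (if m i₀ ≤ t then 0 else d i₀) ≤ ∑ i, if m i ≤ t then 0 else d i :=
    Finset.single_le_sum (f := fun i => if m i ≤ t then 0 else d i)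
      (fun i _ => by have := hd i; split_ifs <;> omega) (Finset.mem_univ i₀)
  rw [if_neg (by omega)] at h2
  omega

lemma sum_mul_eq (T : ℕ) (hT : ∀ i, |m i| ≤ T) :
    ∑ i, m i * d i =
      ∑ t ∈ Finset.range (T + 1), (∑ i, d i - D m d t - D m d (-(t : ℤ) - 1)) := by
  have h1 : ∀ i, m i = ∑ t ∈ Finset.range (T + 1), ((if (t : ℤ) < m i then (1 : ℤ) else 0) -
      (if m i ≤ -(t : ℤ) - 1 then 1 else 0)) := by
    intro i
    rw [layer]
    have := hT i
    rw [abs_le] at this
    omega
  calc ∑ i, m i * d i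
      = ∑ i, ∑ t ∈ Finset.range (T + 1), ((if (t : ℤ) < m i then (1 : ℤ) else 0) -
          (if m i ≤ -(t : ℤ) - 1 then 1 else 0)) * d i := by
        apply Finset.sum_congr rfl
        intro i _
        rw [← Finset.sum_mul, ← h1 i]
    _ = ∑ t ∈ Finset.range (T + 1), ∑ i, ((if (t : ℤ) < m i then (1 : ℤ) else 0) -
          (if m i ≤ -(t : ℤ) - 1 then 1 else 0)) * d i := Finset.sum_comm
    _ = _ := by
        apply Finset.sum_congr rfl
        intro t _
        unfold D
        rw [← Finset.sum_sub_distrib, ← Finset.sum_sub_distrib]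
        apply Finset.sum_congr rfl
        intro i _
        split_ifs <;> omega

/-- The arithmetic core: if the weighted sum vanishes and some nonzero weight has positive
multiplicity, then one of the inequalities coming from (semi)stability fails. -/
lemma arith (δ : ℤ) (hδ : δ = 0 ∨ δ = 1) (hd : ∀ i, 0 ≤ d i) (hsum : ∑ i, m i * d i = 0)
    (i₀ : ι) (hi₀ : m i₀ ≠ 0) (hdi₀ : 0 < d i₀) :
    ∃ t : ℤ, 0 ≤ t ∧ D m d (-t - δ) ≠ 0 ∧ ∑ i, d i < D m d (-t - δ) + D m d t + δ := by
  classical
  by_contra hcon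
  push Not at hcon
  -- bound on weights
  let T : ℕ := ∑ i, (m i).natAbs
  have hT : ∀ i, |m i| ≤ T := by
    intro i
    have h1 : (m i).natAbs ≤ T :=
      Finset.single_le_sum (f := fun i => (m i).natAbs) (fun _ _ => Nat.zero_le _)
        (Finset.mem_univ i)
    have h2 : |m i| = ((m i).natAbs : ℤ) := (Int.natCast_natAbs (m i)).symm
    rw [h2]
    exact_mod_cast h1
  have hsum' := sum_mul_eq (d := d) T hT
  rw [hsum] at hsum'
  have hn0 : d i₀ ≤ ∑ i, d i :=
    Finset.single_le_sum (f := d) (fun i _ => hd i) (Finset.mem_univ i₀)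
  -- D vanishes far to the left
  have hDleft : D m d (-(T : ℤ) - 1) = 0 := by
    unfold D
    apply Finset.sum_eq_zero
    intro i _
    have := hT i
    rw [abs_le] at this
    rw [if_neg (by omega)]
  -- all terms are nonnegative
  have hterm : ∀ t ∈ Finset.range (T + 1),
      0 ≤ ∑ i, d i - D m d t - D m d (-(t : ℤ) - 1) := by
    intro t _
    have h1 := hcon (t : ℤ) (by positivity)
    have h2 := D_mono (m := m) hd (show -(t : ℤ) - 1 ≤ -(t : ℤ) - δ by omega)
    have h3 := D_nonneg (m := m) hd (-(t : ℤ) - 1)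
    have h4 := D_le (m := m) hd (t : ℤ)
    by_cases h5 : D m d (-(t : ℤ) - δ) = 0
    · omega
    · have := h1 h5
      omega
  have hall := (Finset.sum_eq_zero_iff_of_nonneg hterm).1 hsum'.symm
  rcases hδ with rfl | rfl
  · -- δ = 0
    have hstep : ∀ t ∈ Finset.range (T + 1), D m d (-(t : ℤ)) = D m d (-(t : ℤ) - 1) := by
      intro t ht
      have h0 := hall t ht
      have h1 := hcon (t : ℤ) (by positivity)
      have h2 := D_mono (m := m) hd (show -(t : ℤ) - 1 ≤ -(t : ℤ) by omega)
      have h3 := D_nonneg (m := m) hd (-(t : ℤ) - 1)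
      simp only [sub_zero] at h1
      by_cases h5 : D m d (-(t : ℤ)) = 0
      · omega
      · have := h1 h5
        omega
    have hzero : ∀ k : ℕ, k ≤ T + 1 → D m d (-((T + 1 - k : ℕ) : ℤ)) = 0 := by
      intro k
      induction k with
      | zero =>
        intro _
        have : -((T + 1 - 0 : ℕ) : ℤ) = -(T : ℤ) - 1 := by push_cast; ring
        rw [this]; exact hDleft
      | succ k ih =>
        intro hk
        have h1 := ih (by omega)
        have h2 := hstep (T + 1 - (k + 1)) (Finset.mem_range.2 (by omega))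
        rw [h2]
        have : -((T + 1 - (k + 1) : ℕ) : ℤ) - 1 = -((T + 1 - k : ℕ) : ℤ) := by
          have : T + 1 - k = T + 1 - (k + 1) + 1 := by omega
          rw [this]; push_cast; ring
        rw [this]; exact h1
    have hD0 : D m d 0 = 0 := by
      have := hzero (T + 1) le_rfl
      simpa using this
    have h0 := hall 0 (Finset.mem_range.2 (by omega))
    have h2 := D_mono (m := m) hd (show (-((0 : ℕ) : ℤ) - 1) ≤ 0 by simp)
    have h3 := D_nonneg (m := m) hd (-((0 : ℕ) : ℤ) - 1)
    simp only [Nat.cast_zero] at h0 h2 h3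
    rw [hD0] at h0 h2
    omega
  · -- δ = 1
    have h0 := hall 0 (Finset.mem_range.2 (by omega))
    have h1 := hcon 0 le_rfl
    simp only [Nat.cast_zero, neg_zero, zero_sub] at h0 h1
    have h3 := D_nonneg (m := m) hd (-1)
    have h4 := D_le (m := m) hd 0
    have hD1 : D m d (-1) = 0 := by
      by_contra h5
      have := h1 h5
      omega
    rcases lt_or_gt_of_ne hi₀ with hneg | hpos
    · have := D_ge_of_le (m := m) hd i₀ (show m i₀ ≤ -1 by omega)
      omega
    · have := D_le_of_lt (m := m) hd i₀ (show (0 : ℤ) < m i₀ from hpos)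
      omega

end Arith

section LinAlg

variable {K : Type*} [Field K] {H W : Type*} [AddCommGroup H] [Module K H]
  [AddCommGroup W] [Module K W]

/-- The (left) orthogonal of a subspace for a bilinear map. -/
def perp (q : H →ₗ[K] H →ₗ[K] W) (V : Submodule K H) : Submodule K H :=
  ⨅ (y : H) (_ : y ∈ V), LinearMap.ker (q.flip y)

lemma mem_perp {q : H →ₗ[K] H →ₗ[K] W} {V : Submodule K H} {x : H} :
    x ∈ perp q V ↔ ∀ y ∈ V, q x y = 0 := by
  simp [perp, Submodule.mem_iInf]

lemma finrank_biSup [FiniteDimensional K H] {ι : Type*} [DecidableEq ι]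
    (Hs : ι → Submodule K H) (hind : iSupIndep Hs) (S : Finset ι) :
    Module.finrank K ↥(⨆ i ∈ S, Hs i) = ∑ i ∈ S, Module.finrank K (Hs i) := by
  induction S using Finset.induction_on with
  | empty => simp
  | insert a S ha ih =>
    rw [Finset.iSup_insert, Finset.sum_insert ha, ← ih]
    have hdisj : Disjoint (Hs a) (⨆ i ∈ S, Hs i) := by
      have := hind.disjoint_biSup (x := a) (y := (S : Set ι)) (by simpa using ha)
      simpa using this
    have := Submodule.finrank_sup_add_finrank_inf_eq (Hs a) (⨆ i ∈ S, Hs i)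
    rw [hdisj.eq_bot, finrank_bot, add_zero] at this
    exact this

lemma biSup_le_perp {ι : Type*} (q : H →ₗ[K] H →ₗ[K] W) (Hs : ι → Submodule K H)
    (S T : Finset ι)
    (h : ∀ i ∈ S, ∀ j ∈ T, ∀ x ∈ Hs i, ∀ y ∈ Hs j, q x y = 0) :
    (⨆ i ∈ S, Hs i) ≤ perp q (⨆ j ∈ T, Hs j) := by
  refine iSup₂_le fun i hi x hx => ?_
  rw [mem_perp]
  have : (⨆ j ∈ T, Hs j) ≤ LinearMap.ker (q x) := by
    refine iSup₂_le fun j hj y hy => ?_
    exact h i hi j hj x hx y hy
  intro y hy
  exact this hy

theorem dir2 [FiniteDimensional K H] (q : H →ₗ[K] H →ₗ[K] W) (δ : ℕ) (hδ : δ = 0 ∨ δ = 1)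
    (hV : ∀ V : Submodule K H, V ≠ ⊥ → (∀ x ∈ V, ∀ y ∈ V, q x y = 0) →
        Module.finrank K V + Module.finrank K ↥(perp q V) + δ ≤ Module.finrank K H)
    {ι : Type*} [Fintype ι] [DecidableEq ι] (Hs : ι → Submodule K H) (m : ι → ℤ)
    (hint : DirectSum.IsInternal Hs) (hsum : ∑ i, m i * (Module.finrank K (Hs i) : ℤ) = 0)
    (hex : ∃ i, m i ≠ 0 ∧ Hs i ≠ ⊥) :
    ∃ i j, (∃ x ∈ Hs i, ∃ y ∈ Hs j, q x y ≠ 0) ∧ m i + m j + δ ≤ 0 := by
  by_contra hcon
  push Not at hcon
  obtain ⟨i₀, hm₀, hH₀⟩ := hex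
  set d : ι → ℤ := fun i => (Module.finrank K (Hs i) : ℤ) with hd_def
  have hd : ∀ i, 0 ≤ d i := fun i => by positivity
  have hd₀ : 0 < d i₀ := by
    have h1 : Module.finrank K (Hs i₀) ≠ 0 := fun h => hH₀ (Submodule.finrank_eq_zero.1 h)
    have : 0 < Module.finrank K (Hs i₀) := Nat.pos_of_ne_zero h1
    show (0 : ℤ) < (Module.finrank K (Hs i₀) : ℤ)
    exact_mod_cast this
  obtain ⟨t, ht0, hDne, hlt⟩ := arith (m := m) (d := d) (δ : ℤ)
    (by rcases hδ with rfl | rfl <;> simp) hd hsum i₀ hm₀ hd₀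
  let F : ℤ → Submodule K H := fun t => ⨆ i ∈ (Finset.univ.filter (fun i => m i ≤ t)), Hs i
  have hF : ∀ t, (Module.finrank K (F t) : ℤ) = D m d t := by
    intro t
    show ((Module.finrank K ↥(⨆ i ∈ (Finset.univ.filter (fun i => m i ≤ t)), Hs i) : ℕ) : ℤ) = _
    rw [finrank_biSup Hs hint.submodule_iSupIndep]
    unfold D
    push_cast
    rw [Finset.sum_filter]
  have hn : (Module.finrank K H : ℤ) = ∑ i, d i := by
    have h1 := finrank_biSup Hs hint.submodule_iSupIndep Finset.univ
    have h2 : (⨆ i ∈ Finset.univ, Hs i) = ⊤ := by simpa using hint.submodule_iSup_eq_top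
    rw [h2, finrank_top] at h1
    rw [h1]; push_cast; rfl
  have hperp : F t ≤ perp q (F (-t - δ)) := by
    apply biSup_le_perp
    intro i hi j hj x hx y hy
    by_contra hne
    have := hcon i j ⟨x, hx, y, hy, hne⟩
    simp only [Finset.mem_filter, Finset.mem_univ, true_and] at hi hj
    omega
  have hmono : F (-t - δ) ≤ F t := by
    refine iSup₂_le fun i hi => ?_
    simp only [Finset.mem_filter, Finset.mem_univ, true_and] at hi
    refine le_iSup₂_of_le i ?_ le_rfl
    simp only [Finset.mem_filter, Finset.mem_univ, true_and]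
    omega
  have hV0 : F (-t - δ) ≠ ⊥ := by
    intro h
    apply hDne
    rw [← hF, h, finrank_bot]; rfl
  have hiso : ∀ x ∈ F (-t - δ), ∀ y ∈ F (-t - δ), q x y = 0 := by
    intro x hx y hy
    exact mem_perp.1 (hperp (hmono hx)) y hy
  have h1 := hV _ hV0 hiso
  have h2 := Submodule.finrank_mono hperp
  have h3 := hF t
  have h4 := hF (-t - δ)
  have h5 : (Module.finrank K ↥(F (-t - δ)) : ℤ) + (Module.finrank K ↥(perp q (F (-t - δ))) : ℤ)
      + (δ : ℤ) ≤ (Module.finrank K H : ℤ) := by exact_mod_cast h1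
  have h6 : (Module.finrank K ↥(F t) : ℤ) ≤ (Module.finrank K ↥(perp q (F (-t - δ))) : ℤ) := by
    exact_mod_cast h2
  omega

theorem dir1 [FiniteDimensional K H] (q : H →ₗ[K] H →ₗ[K] W) (s : W →ₗ[K] W)
    (hq : ∀ x y, q x y = s (q y x)) (hq0 : q ≠ 0) (δ : ℕ) (hδ : δ = 0 ∨ δ = 1)
    (hdec : ∀ (Hs : Fin 3 → Submodule K H) (m : Fin 3 → ℤ),
        DirectSum.IsInternal Hs → (∑ i, m i * (Module.finrank K (Hs i) : ℤ)) = 0 →
        (∃ i, m i ≠ 0 ∧ Hs i ≠ ⊥) →
        ∃ i j, (∃ x ∈ Hs i, ∃ y ∈ Hs j, q x y ≠ 0) ∧ m i + m j + δ ≤ 0)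
    (V : Submodule K H) (hV0 : V ≠ ⊥) (hiso : ∀ x ∈ V, ∀ y ∈ V, q x y = 0) :
    Module.finrank K V + Module.finrank K ↥(perp q V) + δ ≤ Module.finrank K H := by
  by_contra hcon
  push Not at hcon
  set P := perp q V with hP
  have hVP : V ≤ P := fun x hx => mem_perp.2 (fun y hy => hiso x hx y hy)
  obtain ⟨V₁, hV₁⟩ := Submodule.exists_isCompl V
  set V' := V₁ ⊓ P with hV'
  obtain ⟨V'', hV''⟩ := Submodule.exists_isCompl P
  have h1 : V ⊔ V' = P := by
    rw [hV', ← sup_inf_assoc_of_le V₁ hVP, hV₁.sup_eq_top, top_inf_eq]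
  have h2 : V ⊓ V' = ⊥ := by
    apply le_bot_iff.1
    calc V ⊓ V' ≤ V ⊓ V₁ := inf_le_inf_left _ inf_le_left
      _ = ⊥ := hV₁.inf_eq_bot
  have hdim1 : Module.finrank K V + Module.finrank K V' = Module.finrank K P := by
    have := Submodule.finrank_sup_add_finrank_inf_eq V V'
    rw [h1, h2, finrank_bot, add_zero] at this
    exact this.symm
  have hdim2 : Module.finrank K P + Module.finrank K V'' = Module.finrank K H :=
    Submodule.finrank_add_eq_of_isCompl hV''
  have hvpos : 0 < Module.finrank K V := by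
    apply Nat.pos_of_ne_zero
    intro h
    exact hV0 (Submodule.finrank_eq_zero.1 h)
  have hV'P : V' ≤ P := inf_le_right
  -- the degenerate case
  have hdeg : ¬ (Module.finrank K V' = 0 ∧ Module.finrank K V'' = 0) := by
    rintro ⟨h3, h4⟩
    have h5 : Module.finrank K V = Module.finrank K H := by omega
    have h6 : V = ⊤ := Submodule.eq_top_of_finrank_eq h5
    apply hq0
    ext x y
    simpa using hiso x (h6 ▸ Submodule.mem_top) y (h6 ▸ Submodule.mem_top)
  -- the core
  have core : ∀ a b c : ℤ,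
      a * (Module.finrank K V : ℤ) + b * (Module.finrank K V' : ℤ)
        + c * (Module.finrank K V'' : ℤ) = 0 →
      a ≠ 0 → (V'' ≠ ⊥ → 0 < a + c + δ) → 0 < 2 * b + δ → 0 < b + c + δ → 0 < 2 * c + δ →
      False := by
    intro a b c hsum ha hac hbb hbc hcc
    have hint : DirectSum.IsInternal ![V, V', V''] := by
      rw [DirectSum.isInternal_submodule_iff_iSupIndep_and_iSup_eq_top]
      have d1 : Disjoint V V' := disjoint_iff.2 h2
      have d2 : Disjoint (V ⊔ V') V'' := by rw [h1]; exact hV''.disjoint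
      refine ⟨?_, ?_⟩
      · rw [iSupIndep_fin_three]
        refine ⟨?_, ?_, ?_⟩
        · exact d1.disjoint_sup_right_of_disjoint_sup_left d2
        · have : Disjoint V' (V ⊔ V'') :=
            d1.symm.disjoint_sup_right_of_disjoint_sup_left (by rwa [sup_comm])
          simpa [sup_comm] using this
        · simpa using d2.symm
      · rw [iSup_fin_three]
        show V ⊔ V' ⊔ V'' = ⊤
        rw [h1]
        exact hV''.sup_eq_top
    have hsum' : ∑ i, ![a, b, c] i * (Module.finrank K (![V, V', V''] i) : ℤ) = 0 := by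
      rw [Fin.sum_univ_three]
      exact hsum
    obtain ⟨i, j, ⟨x, hx, y, hy, hne⟩, hle⟩ := hdec ![V, V', V''] ![a, b, c] hint
      hsum' ⟨0, by simpa using ha, by simpa using hV0⟩
    have hx0 : x ≠ 0 := by
      rintro rfl
      simp at hne
    have hy0 : y ≠ 0 := by
      rintro rfl
      simp at hne
    fin_cases i <;> fin_cases j <;> simp at hx hy hle
    · exact hne (hiso x hx y hy)
    · apply hne
      rw [hq, mem_perp.1 (hV'P hy) x hx, map_zero]
    · have : V'' ≠ ⊥ := fun h => hy0 (by rw [h] at hy; simpa using hy)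
      have := hac this
      omega
    · exact hne (mem_perp.1 (hV'P hx) y hy)
    · omega
    · omega
    · have : V'' ≠ ⊥ := fun h => hx0 (by rw [h] at hx; simpa using hx)
      have := hac this
      omega
    · omega
    · omega
  -- numerics
  set v : ℤ := (Module.finrank K V : ℤ) with hv
  set v' : ℤ := (Module.finrank K V' : ℤ) with hv'
  set v'' : ℤ := (Module.finrank K V'' : ℤ) with hv''
  have hv1 : 1 ≤ v := by rw [hv]; exact_mod_cast hvpos
  have hv'0 : 0 ≤ v' := by positivity
  have hv''0 : 0 ≤ v'' := by positivity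
  have hlt : v'' < v + δ := by
    rw [hv, hv'']
    have : Module.finrank K V'' < Module.finrank K V + δ := by omega
    exact_mod_cast this
  have hdeg' : ¬ (v' = 0 ∧ v'' = 0) := by
    rintro ⟨h3, h4⟩
    apply hdeg
    constructor
    · exact Int.natCast_eq_zero.1 h3
    · exact Int.natCast_eq_zero.1 h4
  rcases hδ with rfl | rfl
  · -- δ = 0
    simp only [Nat.cast_zero, add_zero] at hlt core
    refine core (-(v' + (v' + 1) * v'')) v (v * (v' + 1)) (by ring) ?_ ?_ ?_ ?_ ?_
    · intro h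
      have h3 : 0 ≤ (v' + 1) * v'' := by positivity
      have h4 : v' = 0 := by omega
      have h5 : v'' = 0 := by
        rw [h4] at h
        simpa using h
      exact hdeg' ⟨h4, h5⟩
    · intro _
      nlinarith [mul_nonneg (show 0 ≤ v' + 1 by omega) (show 0 ≤ v - v'' - 1 by omega)]
    · omega
    · nlinarith [mul_nonneg (show 0 ≤ v by omega) (show 0 ≤ v' + 1 by omega)]
    · nlinarith [mul_pos (show 0 < v by omega) (show 0 < v' + 1 by omega)]
  · -- δ = 1
    simp only [Nat.cast_one] at hlt core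
    by_cases h0 : v'' = 0
    · have hbot : V'' = ⊥ := by
        apply Submodule.finrank_eq_zero.1
        exact Int.natCast_eq_zero.1 h0
      refine core (-v') v 0 (by rw [h0]; ring) ?_ ?_ ?_ ?_ ?_
      · intro h
        exact hdeg' ⟨by omega, h0⟩
      · intro h
        exact absurd hbot h
      · omega
      · omega
      · omega
    · refine core (-v'') 0 v (by ring) ?_ ?_ ?_ ?_ ?_
      · intro h
        omega
      · intro _
        omega
      · omega
      · omega
      · omega

end LinAlg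

end Groth.Agent.Lib.Helper9.GITNum
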