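import Mathlib

set_option autoImplicit false
set_option linter.style.haveILetI false
set_option linter.unusedSectionVars false
set_option linter.unusedVariables false

namespace Groth.Agent.H9.GJB

open DirectSum

universe u v w

section Proj

variable {k : Type u} [Field k] {Λ : Type v} [AddCommGroup Λ] [DecidableEq Λ]
  {V : Type w} [AddCommGroup V] [Module k V]
  (𝒱 : Λ → Submodule k V) (h𝒱 : DirectSum.IsInternal 𝒱)

/-- decomposition -/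
noncomputable def dec : V ≃ₗ[k] (⨁ μ, 𝒱 μ) :=
  (LinearEquiv.ofBijective (DirectSum.coeLinearMap 𝒱) h𝒱).symm

theorem dec_symm_apply (x : ⨁ μ, 𝒱 μ) : (dec 𝒱 h𝒱).symm x = DirectSum.coeLinearMap 𝒱 x := rfl

/-- projection onto the `μ`-component -/
noncomputable def pr (μ : Λ) : V →ₗ[k] V :=
  (𝒱 μ).subtype ∘ₗ (DirectSum.component k Λ (fun μ => 𝒱 μ) μ) ∘ₗ (dec 𝒱 h𝒱).toLinearMap

theorem pr_mem (μ : Λ) (w : V) : pr 𝒱 h𝒱 μ w ∈ 𝒱 μ := by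
  unfold pr
  simp

theorem dec_of_mem {μ : Λ} {w : V} (hw : w ∈ 𝒱 μ) :
    dec 𝒱 h𝒱 w = DirectSum.lof k Λ (fun μ => 𝒱 μ) μ ⟨w, hw⟩ := by
  apply (dec 𝒱 h𝒱).symm.injective
  rw [LinearEquiv.symm_apply_apply, dec_symm_apply, DirectSum.coeLinearMap_lof]

theorem pr_of_mem {μ : Λ} {w : V} (hw : w ∈ 𝒱 μ) : pr 𝒱 h𝒱 μ w = w := by
  unfold pr
  simp only [LinearMap.comp_apply, LinearEquiv.coe_coe, dec_of_mem 𝒱 h𝒱 hw,
    DirectSum.component.lof_self, Submodule.subtype_apply]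

theorem pr_of_mem_ne {μ ν : Λ} (hne : ν ≠ μ) {w : V} (hw : w ∈ 𝒱 μ) : pr 𝒱 h𝒱 ν w = 0 := by
  unfold pr
  simp only [LinearMap.comp_apply, LinearEquiv.coe_coe, dec_of_mem 𝒱 h𝒱 hw,
    DirectSum.component.of, dif_neg hne.symm, map_zero]

theorem pr_pr (μ ν : Λ) (w : V) :
    pr 𝒱 h𝒱 ν (pr 𝒱 h𝒱 μ w) = if ν = μ then pr 𝒱 h𝒱 μ w else 0 := by
  split_ifs with h
  · subst h
    exact pr_of_mem 𝒱 h𝒱 (pr_mem 𝒱 h𝒱 _ w)
  · exact pr_of_mem_ne 𝒱 h𝒱 h (pr_mem 𝒱 h𝒱 μ w)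

open Classical in
theorem sum_pr (w : V) :
    ∑ μ ∈ (dec 𝒱 h𝒱 w).support, pr 𝒱 h𝒱 μ w = w := by
  have h1 := DirectSum.sum_support_of (dec 𝒱 h𝒱 w)
  have h2 := congrArg (dec 𝒱 h𝒱).symm h1
  rw [LinearEquiv.symm_apply_apply, map_sum] at h2
  refine Eq.trans (Finset.sum_congr rfl fun μ _ => ?_) h2
  rw [dec_symm_apply, DirectSum.coeLinearMap_of]
  rfl

open Classical in
theorem pr_eq_zero_of_notMem_support (w : V) (μ : Λ) (hμ : μ ∉ (dec 𝒱 h𝒱 w).support) :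
    pr 𝒱 h𝒱 μ w = 0 := by
  rw [DFinsupp.notMem_support_iff] at hμ
  unfold pr
  simp only [LinearMap.comp_apply, LinearEquiv.coe_coe, Submodule.subtype_apply]
  have : (DirectSum.component k Λ (fun μ => 𝒱 μ) μ) (dec 𝒱 h𝒱 w) = 0 := hμ
  rw [this]; rfl

end Proj

end Groth.Agent.H9.GJB
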