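import Mathlib
import Groth.Agent.Lib.Helper9.Misc.GJB1

set_option autoImplicit false
set_option linter.style.haveILetI false
set_option linter.unusedSectionVars false
set_option linter.unusedVariables false

namespace Groth.Agent.H9.GJB

open DirectSum

universe u v w

section Hom

variable {k : Type u} [Field k] {Λ : Type v} [AddCommGroup Λ] [DecidableEq Λ]
  {V : Type w} [AddCommGroup V] [Module k V]
  (𝒱 : Λ → Submodule k V) (h𝒱 : DirectSum.IsInternal 𝒱)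
  (A : Module.End k V) (χ : Λ) (hhom : ∀ (μ : Λ) (v : V), v ∈ 𝒱 μ → A v ∈ 𝒱 (μ + χ))

include hhom in
theorem pow_mem (j : ℕ) (μ : Λ) (v : V) (hv : v ∈ 𝒱 μ) : (A ^ j) v ∈ 𝒱 (μ + j • χ) := by
  induction j with
  | zero => simpa using hv
  | succ j ih =>
    rw [pow_succ', Module.End.mul_apply]
    have := hhom _ _ ih
    rwa [add_assoc, ← succ_nsmul] at this

include hhom in
theorem A_pr (μ : Λ) (w : V) : A (pr 𝒱 h𝒱 μ w) = pr 𝒱 h𝒱 (μ + χ) (A w) := by
  classical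
  conv_rhs => rw [← sum_pr 𝒱 h𝒱 w, map_sum, map_sum]
  have hterm : ∀ μ' ∈ (dec 𝒱 h𝒱 w).support, pr 𝒱 h𝒱 (μ + χ) (A (pr 𝒱 h𝒱 μ' w)) =
      if μ' = μ then A (pr 𝒱 h𝒱 μ w) else 0 := by
    intro μ' _
    split_ifs with h
    · subst h
      exact pr_of_mem 𝒱 h𝒱 (hhom _ _ (pr_mem 𝒱 h𝒱 _ w))
    · refine pr_of_mem_ne 𝒱 h𝒱 ?_ (hhom _ _ (pr_mem 𝒱 h𝒱 μ' w))
      intro h'
      exact h (add_right_cancel h').symm
  rw [Finset.sum_congr rfl hterm, Finset.sum_ite_eq']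
  split_ifs with h
  · rfl
  · rw [pr_eq_zero_of_notMem_support 𝒱 h𝒱 w μ h, map_zero]

include hhom in
theorem pow_pr (j : ℕ) (μ : Λ) (w : V) :
    (A ^ j) (pr 𝒱 h𝒱 μ w) = pr 𝒱 h𝒱 (μ + j • χ) ((A ^ j) w) := by
  induction j generalizing μ w with
  | zero => simp
  | succ j ih =>
    rw [pow_succ, Module.End.mul_apply, Module.End.mul_apply, A_pr 𝒱 h𝒱 A χ hhom, ih]
    congr 1
    rw [add_assoc, succ_nsmul']

end Hom

section Main

variable {k : Type u} [Field k] {Λ : Type v} [AddCommGroup Λ] [DecidableEq Λ]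
  {V : Type w} [AddCommGroup V] [Module k V] [FiniteDimensional k V]
  (𝒱 : Λ → Submodule k V) (h𝒱 : DirectSum.IsInternal 𝒱)
  (A : Module.End k V) (hA : IsNilpotent A) (χ : Λ)
  (hhom : ∀ (μ : Λ) (v : V), v ∈ 𝒱 μ → A v ∈ 𝒱 (μ + χ))

/-- the statement for an `A`-stable graded subspace -/
def Claim (U : Submodule k V) : Prop :=
  ∃ (ι : Type w) (_ : Finite ι) (n : ι → ℕ) (b : (Σ i : ι, Fin (n i + 1)) → V),
    LinearIndependent k b ∧ Submodule.span k (Set.range b) = U ∧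
    (∀ x, ∃ μ, b x ∈ 𝒱 μ) ∧ (∀ i, A (b ⟨i, 0⟩) = 0) ∧
    ∀ (i : ι) (l : Fin (n i)), A (b ⟨i, l.succ⟩) = b ⟨i, l.castSucc⟩

theorem pow_stable (U : Submodule k V) (hUA : ∀ w ∈ U, A w ∈ U) (j : ℕ) (w : V) (hw : w ∈ U) :
    (A ^ j) w ∈ U := by
  induction j with
  | zero => simpa using hw
  | succ j ih =>
    rw [pow_succ', Module.End.mul_apply]
    exact hUA _ ih

/-- the combining equivalence -/
def combEquiv {ι' : Type w} (n' : ι' → ℕ) (N' : ℕ) :
    (Σ i : PUnit.{w+1} ⊕ ι', Fin (Sum.elim (fun _ => N') n' i + 1)) ≃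
      Fin (N' + 1) ⊕ (Σ i : ι', Fin (n' i + 1)) where
  toFun x := match x with
    | ⟨Sum.inl _, l⟩ => Sum.inl l
    | ⟨Sum.inr i, l⟩ => Sum.inr ⟨i, l⟩
  invFun y := match y with
    | Sum.inl l => ⟨Sum.inl PUnit.unit, l⟩
    | Sum.inr ⟨i, l⟩ => ⟨Sum.inr i, l⟩
  left_inv x := by
    rcases x with ⟨_ | i, l⟩ <;> rfl
  right_inv y := by
    rcases y with l | ⟨i, l⟩ <;> rfl

include h𝒱 hA hhom in
theorem claim_step (U : Submodule k V) (hUA : ∀ w ∈ U, A w ∈ U)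
    (hUg : ∀ w ∈ U, ∀ μ, pr 𝒱 h𝒱 μ w ∈ U) (hU : U ≠ ⊥)
    (IH : ∀ C : Submodule k V, Module.finrank k C < Module.finrank k U →
      (∀ w ∈ C, A w ∈ C) → (∀ w ∈ C, ∀ μ, pr 𝒱 h𝒱 μ w ∈ C) → Claim 𝒱 A C) :
    Claim 𝒱 A U := by
  classical
  -- nilpotency index on U
  obtain ⟨n0, hn0⟩ := hA
  have hex : ∃ N, ∀ w ∈ U, (A ^ N) w = 0 := ⟨n0, fun w _ => by rw [hn0]; rfl⟩
  obtain ⟨N, hN, hNmin⟩ := Nat.findX hex
  have hN0 : N ≠ 0 := by
    rintro rfl
    apply hU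
    rw [Submodule.eq_bot_iff]
    intro w hw
    simpa using hN w hw
  obtain ⟨N', rfl⟩ := Nat.exists_eq_succ_of_ne_zero hN0
  have hexw : ∃ w ∈ U, (A ^ N') w ≠ 0 := by
    have := hNmin N' (Nat.lt_succ_self _)
    push Not at this
    exact this
  obtain ⟨w, hwU, hw⟩ := hexw
  have hexμ : ∃ μ₀, (A ^ N') (pr 𝒱 h𝒱 μ₀ w) ≠ 0 := by
    by_contra hcon
    push Not at hcon
    apply hw
    rw [← sum_pr 𝒱 h𝒱 w, map_sum]
    exact Finset.sum_eq_zero (fun μ _ => hcon μ)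
  obtain ⟨μ₀, hμ₀⟩ := hexμ
  obtain ⟨v, hvdef⟩ : ∃ v, v = pr 𝒱 h𝒱 μ₀ w := ⟨_, rfl⟩
  have hvU : v ∈ U := hvdef ▸ hUg w hwU μ₀
  have hvμ : v ∈ 𝒱 μ₀ := hvdef ▸ pr_mem 𝒱 h𝒱 μ₀ w
  rw [← hvdef] at hμ₀
  obtain ⟨t, htdef⟩ : ∃ t, t = (A ^ N') v := ⟨_, rfl⟩
  obtain ⟨μ₁, hμ₁def⟩ : ∃ μ₁, μ₁ = μ₀ + N' • χ := ⟨_, rfl⟩
  have htμ : t ∈ 𝒱 μ₁ := by
    rw [htdef, hμ₁def]; exact pow_mem 𝒱 A χ hhom N' μ₀ v hvμ
  have ht0 : t ≠ 0 := htdef ▸ hμ₀
  have hvanish : ∀ j, N' + 1 ≤ j → ∀ x ∈ U, (A ^ j) x = 0 := by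
    intro j hj x hx
    obtain ⟨m, rfl⟩ := Nat.exists_eq_add_of_le hj
    rw [add_comm, pow_add, Module.End.mul_apply, hN x hx, map_zero]
  -- functional
  obtain ⟨ψ, hψ⟩ : ∃ ψ : V →ₗ[k] k, ψ t = 1 := by
    have : ¬ ∀ f : Module.Dual k V, f t = 0 := by
      rw [Module.forall_dual_apply_eq_zero_iff]; exact ht0
    push Not at this
    obtain ⟨f, hf⟩ := this
    exact ⟨(f t)⁻¹ • f, by simp [hf]⟩
  obtain ⟨φ, hφdef⟩ : ∃ φ : V →ₗ[k] k, φ = ψ ∘ₗ pr 𝒱 h𝒱 μ₁ := ⟨_, rfl⟩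
  have hφt : φ t = 1 := by
    rw [hφdef, LinearMap.comp_apply, pr_of_mem 𝒱 h𝒱 htμ, hψ]
  -- complement
  obtain ⟨C, hCdef⟩ : ∃ C : Submodule k V, C = U ⊓ ⨅ j : ℕ, LinearMap.ker (φ ∘ₗ (A ^ j)) := ⟨_, rfl⟩
  have hCmem : ∀ x, x ∈ C ↔ x ∈ U ∧ ∀ j : ℕ, φ ((A ^ j) x) = 0 := by
    intro x
    rw [hCdef, Submodule.mem_inf, Submodule.mem_iInf]
    simp only [LinearMap.mem_ker, LinearMap.comp_apply]
  have hCU : C ≤ U := fun x hx => ((hCmem x).mp hx).1
  have hCA : ∀ x ∈ C, A x ∈ C := by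
    intro x hx
    rw [hCmem] at hx ⊢
    refine ⟨hUA x hx.1, fun j => ?_⟩
    have := hx.2 (j + 1)
    rwa [pow_succ, Module.End.mul_apply] at this
  have hCg : ∀ x ∈ C, ∀ μ, pr 𝒱 h𝒱 μ x ∈ C := by
    intro x hx μ
    rw [hCmem] at hx ⊢
    refine ⟨hUg x hx.1 μ, fun j => ?_⟩
    rw [pow_pr 𝒱 h𝒱 A χ hhom, hφdef, LinearMap.comp_apply, pr_pr]
    split_ifs with h
    · rw [← h]
      have := hx.2 j
      rwa [hφdef, LinearMap.comp_apply] at this
    · rw [map_zero]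
  -- Lemma Q
  have hQ : ∀ c : Fin (N' + 1) → k, (∑ l, c l • (A ^ (l : ℕ)) v) ∈ C → c = 0 := by
    intro c hc
    have key : ∀ m : ℕ, ∀ l : Fin (N' + 1), (l : ℕ) = m → c l = 0 := by
      intro m
      induction m using Nat.strong_induction_on with
      | _ m ih =>
        intro l hl
        have h1 := ((hCmem _).mp hc).2 (N' - l)
        rw [map_sum] at h1
        have h2 : ∀ l' : Fin (N' + 1), (A ^ (N' - (l : ℕ))) (c l' • (A ^ (l' : ℕ)) v) =
            c l' • (A ^ (N' - (l : ℕ) + (l' : ℕ))) v := by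
          intro l'
          rw [map_smul, pow_add, Module.End.mul_apply]
        rw [Finset.sum_congr rfl (fun l' _ => h2 l'), Finset.sum_eq_single l] at h1
        · have hl' : N' - (l : ℕ) + (l : ℕ) = N' := Nat.sub_add_cancel (Nat.lt_succ_iff.mp l.2)
          rw [hl', ← htdef, map_smul, hφt, smul_eq_mul, mul_one] at h1
          exact h1
        · intro l' _ hne
          rcases lt_or_gt_of_ne (fun h => hne (Fin.ext h) : (l' : ℕ) ≠ (l : ℕ)) with hlt | hgt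
          · rw [ih l' (hl ▸ hlt) l' rfl, zero_smul]
          · rw [hvanish _ (by have := l.2; omega) v hvU, smul_zero]
        · intro h; exact absurd (Finset.mem_univ l) h
    funext l
    exact key l l rfl
  -- the chain
  obtain ⟨chain, hchain⟩ : ∃ chain : Fin (N' + 1) → V, ∀ l, chain l = (A ^ (N' - (l : ℕ))) v :=
    ⟨_, fun _ => rfl⟩
  have hsumrev : ∀ c : Fin (N' + 1) → k, ∑ l, c l • chain l =
      ∑ l, (c ∘ Fin.rev) l • (A ^ (l : ℕ)) v := by
    intro c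
    rw [← Equiv.sum_comp Fin.revPerm]
    refine Finset.sum_congr rfl fun l _ => ?_
    rw [hchain, Function.comp_apply]
    simp only [Fin.revPerm_apply, Fin.val_rev]
    congr 3
    have := l.2
    omega
  have hQ' : ∀ c : Fin (N' + 1) → k, (∑ l, c l • chain l) ∈ C → c = 0 := by
    intro c hc
    rw [hsumrev] at hc
    have := hQ _ hc
    funext l
    have h2 := congrFun this (Fin.rev l)
    simpa using h2
  have hchainU : ∀ l, chain l ∈ U := fun l => by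
    rw [hchain]; exact pow_stable A U hUA _ v hvU
  have hli : LinearIndependent k chain := by
    rw [Fintype.linearIndependent_iff]
    intro c hc l
    have : (∑ l, c l • chain l) ∈ C := by rw [hc]; exact zero_mem _
    exact congrFun (hQ' c this) l
  have hdisj : Disjoint (Submodule.span k (Set.range chain)) C := by
    rw [Submodule.disjoint_def]
    intro x hxZ hxC
    obtain ⟨c, rfl⟩ := (Submodule.mem_span_range_iff_exists_fun k).mp hxZ
    rw [hQ' c hxC]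
    simp
  have hZU : Submodule.span k (Set.range chain) ≤ U := by
    rw [Submodule.span_le]
    rintro _ ⟨l, rfl⟩
    exact hchainU l
  have hZrank : Module.finrank k (Submodule.span k (Set.range chain)) = N' + 1 := by
    rw [finrank_span_eq_card hli, Fintype.card_fin]
  -- dimension of C
  have hCrank : Module.finrank k U ≤ Module.finrank k C + (N' + 1) := by
    let Φ : U →ₗ[k] (Fin (N' + 1) → k) :=
      LinearMap.pi fun j => (φ ∘ₗ (A ^ (j : ℕ))) ∘ₗ U.subtype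
    have hker : (LinearMap.ker Φ).map U.subtype ≤ C := by
      rintro _ ⟨x, hx, rfl⟩
      rw [hCmem]
      refine ⟨x.2, fun j => ?_⟩
      by_cases hj : j < N' + 1
      · have := congrFun (LinearMap.mem_ker.mp hx) ⟨j, hj⟩
        simpa [Φ] using this
      · rw [Submodule.subtype_apply, hvanish j (by omega) x x.2, map_zero]
    have h1 := LinearMap.finrank_range_add_finrank_ker Φ
    have h2 : Module.finrank k (LinearMap.range Φ) ≤ N' + 1 := by
      have := Submodule.finrank_le (LinearMap.range Φ)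
      simpa using this
    have h3 : Module.finrank k (LinearMap.ker Φ) ≤ Module.finrank k C := by
      rw [← Submodule.finrank_map_subtype_eq U (LinearMap.ker Φ)]
      exact Submodule.finrank_mono hker
    omega
  have hsup : Submodule.span k (Set.range chain) ⊔ C = U := by
    apply Submodule.eq_of_le_of_finrank_le (sup_le hZU hCU)
    have h1 := Submodule.finrank_sup_add_finrank_inf_eq (Submodule.span k (Set.range chain)) C
    rw [disjoint_iff.mp hdisj, finrank_bot, add_zero, hZrank] at h1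
    omega
  have hClt : Module.finrank k C < Module.finrank k U := by
    have h1 := Submodule.finrank_sup_add_finrank_inf_eq (Submodule.span k (Set.range chain)) C
    rw [disjoint_iff.mp hdisj, finrank_bot, add_zero, hZrank, hsup] at h1
    omega
  obtain ⟨ι', hfin', n', b', hli', hspan', hhomog', hzero', hsucc'⟩ := IH C hClt hCA hCg
  refine ⟨PUnit.{w+1} ⊕ ι', inferInstance, Sum.elim (fun _ => N') n',
    (Sum.elim chain b') ∘ (combEquiv n' N'), ?_, ?_, ?_, ?_, ?_⟩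
  · rw [linearIndependent_equiv]
    exact LinearIndependent.sum_type hli hli' (by rwa [hspan'])
  · rw [EquivLike.range_comp, Set.Sum.elim_range, Submodule.span_union, hspan', hsup]
  · rintro ⟨_ | i, l⟩
    · refine ⟨μ₀ + (N' - (l : ℕ)) • χ, ?_⟩
      show chain l ∈ _
      rw [hchain]
      exact pow_mem 𝒱 A χ hhom _ μ₀ v hvμ
    · exact hhomog' ⟨i, l⟩
  · rintro (_ | i)
    · show A (chain 0) = 0
      rw [hchain, ← Module.End.mul_apply, ← pow_succ']
      exact hN v hvU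
    · exact hzero' i
  · rintro (_ | i) l
    · show A (chain (Fin.succ l)) = chain (Fin.castSucc l)
      rw [hchain, hchain, ← Module.End.mul_apply, ← pow_succ']
      congr 2
      have hl : (l : ℕ) < N' := l.2
      simp only [Fin.val_succ, Fin.val_castSucc]
      omega
    · exact hsucc' i l

include h𝒱 hA hhom in
theorem claim_all (d : ℕ) : ∀ U : Submodule k V, Module.finrank k U = d → (∀ w ∈ U, A w ∈ U) →
    (∀ w ∈ U, ∀ μ, pr 𝒱 h𝒱 μ w ∈ U) → Claim 𝒱 A U := by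
  induction d using Nat.strong_induction_on with
  | _ d ih =>
    intro U hd hUA hUg
    by_cases hU : U = ⊥
    · subst hU
      refine ⟨PEmpty, inferInstance, PEmpty.elim, fun x => x.1.elim, ?_, ?_, fun x => x.1.elim,
        fun i => i.elim, fun i => i.elim⟩
      · exact linearIndependent_empty_type
      · rw [Set.range_eq_empty, Submodule.span_empty]
    · exact claim_step 𝒱 h𝒱 A hA χ hhom U hUA hUg hU
        (fun C hC hCA hCg => ih _ (hd ▸ hC) C rfl hCA hCg)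

include h𝒱 hA hhom in
theorem main :
    ∃ (ι : Type w) (_ : Finite ι) (n : ι → ℕ) (b : Module.Basis (Σ i : ι, Fin (n i + 1)) k V),
      (∀ (i : ι) (l : Fin (n i + 1)), ∃ μ : Λ, b ⟨i, l⟩ ∈ 𝒱 μ) ∧
      (∀ i : ι, A (b ⟨i, 0⟩) = 0) ∧
      ∀ (i : ι) (l : Fin (n i)), A (b ⟨i, l.succ⟩) = b ⟨i, l.castSucc⟩ := by
  obtain ⟨ι, hfin, n, b, hli, hspan, hhomog, hzero, hsucc⟩ :=
    claim_all 𝒱 h𝒱 A hA χ hhom _ ⊤ rfl (fun _ _ => trivial) (fun _ _ _ => trivial)
  refine ⟨ι, hfin, n, Module.Basis.mk hli (by rw [hspan]), ?_, ?_, ?_⟩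
  · intro i l
    rw [Module.Basis.mk_apply]
    exact hhomog ⟨i, l⟩
  · intro i
    rw [Module.Basis.mk_apply]
    exact hzero i
  · intro i l
    rw [Module.Basis.mk_apply, Module.Basis.mk_apply]
    exact hsucc i l

end Main

end Groth.Agent.H9.GJB
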