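import Mathlib
import Groth.Prelude.Def_AlphaPn
import Groth.Prelude.Def_SekSuwa

/-! Helper9: group-like elements of alpha_{p^n} lift to G_a via the coalgebra section x^i -> t^i -/

namespace Groth.Agent.H9.GL1

universe u

open TensorProduct Coalgebra

theorem tmul_add_pow {R B : Type*} [CommRing R] [CommRing B] [Algebra R B] (b : B) (i : ℕ) :
    (b ⊗ₜ[R] (1 : B) + (1 : B) ⊗ₜ[R] b) ^ i
      = ∑ m ∈ Finset.range (i + 1), (i.choose m) • ((b ^ m) ⊗ₜ[R] (b ^ (i - m))) := by
  rw [add_pow]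
  refine Finset.sum_congr rfl (fun m _ => ?_)
  rw [Algebra.TensorProduct.tmul_pow, Algebra.TensorProduct.tmul_pow, one_pow, one_pow,
    Algebra.TensorProduct.tmul_mul_tmul, mul_one, one_mul, nsmul_eq_mul, mul_comm]

theorem main (p : ℕ) [Fact p.Prime] (A : Type u) [CommRing A] [CharP A p]
    (n : ℕ) (φ : SekSuwa.A A 0 →ₐc[A] AlphaPn.A p n A) (hφ : φ SekSuwa.A.t = AlphaPn.x p n A)
    (u : AlphaPn.A p n A) (hu : IsGroupLikeElem A u) :
    ∃ g : SekSuwa.A A 0, IsGroupLikeElem A g ∧ φ g = u := by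
  have hnt : Nontrivial A := CharP.nontrivial_of_char_ne_one (R := A) (v := p) (Fact.out : p.Prime).ne_one
  let b := AlphaPn.basis p n A
  let s : AlphaPn.A p n A →ₗ[A] SekSuwa.A A 0 :=
    b.constr A (fun i => (SekSuwa.A.t : SekSuwa.A A 0) ^ (i : ℕ))
  have hs : ∀ m : ℕ, m < p ^ n → s (AlphaPn.x p n A ^ m) = (SekSuwa.A.t : SekSuwa.A A 0) ^ m := by
    intro m hm
    have h1 : AlphaPn.x p n A ^ m = b ⟨m, hm⟩ := by
      rw [AlphaPn.basis_apply]
    rw [h1, Module.Basis.constr_basis]
  -- φ ∘ s = id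
  have h1 : ∀ v, φ (s v) = v := by
    intro v
    have : (φ : SekSuwa.A A 0 →ₗ[A] AlphaPn.A p n A) ∘ₗ s = LinearMap.id := by
      apply b.ext
      intro i
      rw [LinearMap.comp_apply, LinearMap.id_apply, AlphaPn.basis_apply, hs _ i.2]
      change φ (SekSuwa.A.t ^ (i : ℕ)) = _
      rw [map_pow, hφ]
    exact LinearMap.congr_fun this v
  -- counit
  have h2 : ∀ v, counit (R := A) (s v) = counit (R := A) v := by
    intro v
    have : (counit (R := A) (A := SekSuwa.A A 0)) ∘ₗ s = counit (R := A) (A := AlphaPn.A p n A) := by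
      apply b.ext
      intro i
      rw [LinearMap.comp_apply, AlphaPn.basis_apply, hs _ i.2, Bialgebra.counit_pow,
        Bialgebra.counit_pow, SekSuwa.A.counit_t, AlphaPn.counit_x]
    exact LinearMap.congr_fun this v
  -- comul
  have h3 : ∀ v, comul (R := A) (s v) = TensorProduct.map s s (comul (R := A) v) := by
    intro v
    have : (comul (R := A) (A := SekSuwa.A A 0)) ∘ₗ s
        = (TensorProduct.map s s) ∘ₗ (comul (R := A) (A := AlphaPn.A p n A)) := by
      apply b.ext
      intro i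
      rw [LinearMap.comp_apply, LinearMap.comp_apply, AlphaPn.basis_apply, hs _ i.2,
        Bialgebra.comul_pow, Bialgebra.comul_pow, SekSuwa.A.comul_t, AlphaPn.comul_x, zero_smul,
        add_zero, tmul_add_pow, tmul_add_pow, map_sum]
      refine Finset.sum_congr rfl (fun m hm => ?_)
      have hm' := Finset.mem_range.1 hm
      rw [map_nsmul, TensorProduct.map_tmul, hs _ (by have := i.2; omega),
        hs _ (by have := i.2; omega)]
    exact LinearMap.congr_fun this v
  refine ⟨s u, ⟨?_, ?_⟩, h1 u⟩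
  · rw [h2, hu.counit_eq_one]
  · rw [h3, hu.comul_eq_tmul_self, TensorProduct.map_tmul]

end Groth.Agent.H9.GL1
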