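import Mathlib

/-! Helper9: finite subgroups of GL2(Z) with fixed vectors (S15162) -/

namespace Groth.Agent.H9.GL2Fix

open Matrix

theorem trace_eq_of_fixed (M : Matrix (Fin 2) (Fin 2) ℤ) (v : Fin 2 → ℤ) (hv : v ≠ 0)
    (h : M *ᵥ v = v) : M.trace = 1 + M.det := by
  have h0 : (M - 1).det = 0 := by
    rw [← Matrix.exists_mulVec_eq_zero_iff]
    exact ⟨v, hv, by rw [Matrix.sub_mulVec, h, Matrix.one_mulVec, sub_self]⟩
  have h0' : (M 0 0 - 1) * (M 1 1 - 1) - M 0 1 * M 1 0 = 0 := by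
    have := h0
    rw [Matrix.det_fin_two] at this
    simpa [Matrix.sub_apply] using this
  rw [Matrix.det_fin_two, Matrix.trace_fin_two]
  linear_combination -h0'

theorem sq_eq (M : Matrix (Fin 2) (Fin 2) ℤ) (hd : M.det = 1) (ht : M.trace = 2) :
    (M - 1) * (M - 1) = 0 := by
  rw [Matrix.det_fin_two] at hd
  rw [Matrix.trace_fin_two] at ht
  ext i j
  fin_cases i <;> fin_cases j
  · simp [Matrix.mul_apply, Fin.sum_univ_two, Matrix.sub_apply, Matrix.one_apply]
    linear_combination (-1) * hd + (M 0 0) * ht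
  · simp [Matrix.mul_apply, Fin.sum_univ_two, Matrix.sub_apply, Matrix.one_apply]
    linear_combination (M 0 1) * ht
  · simp [Matrix.mul_apply, Fin.sum_univ_two, Matrix.sub_apply, Matrix.one_apply]
    linear_combination (M 1 0) * ht
  · simp [Matrix.mul_apply, Fin.sum_univ_two, Matrix.sub_apply, Matrix.one_apply]
    linear_combination (-1) * hd + (M 1 1) * ht

theorem pow_eq (N : Matrix (Fin 2) (Fin 2) ℤ) (hN : N * N = 0) (n : ℕ) :
    (1 + N) ^ n = 1 + (n : ℤ) • N := by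
  induction n with
  | zero => simp
  | succ n ih =>
    rw [pow_succ, ih, mul_add, mul_one, add_mul, one_mul, smul_mul_assoc, hN, smul_zero, add_zero]
    push_cast
    rw [add_smul, one_smul]; abel

theorem eq_one_of_det_one (M : Matrix (Fin 2) (Fin 2) ℤ) (hd : M.det = 1) (ht : M.trace = 2)
    (n : ℕ) (hn : 0 < n) (hM : M ^ n = 1) : M = 1 := by
  have hN := sq_eq M hd ht
  have h1 : M = 1 + (M - 1) := by abel
  have h2 := pow_eq (M - 1) hN n
  rw [← h1, hM] at h2
  have h3 : (n : ℤ) • (M - 1) = 0 := by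
    have := h2; 
    simpa using this.symm
  have h4 : M - 1 = 0 := by
    ext i j
    have := congrFun (congrFun h3 i) j
    simp only [Matrix.smul_apply, smul_eq_mul, Matrix.zero_apply] at this
    rcases mul_eq_zero.mp this with h | h
    · omega
    · exact h
  exact sub_eq_zero.mp h4

theorem main
    (Γ : Subgroup (Matrix.GeneralLinearGroup (Fin 2) ℤ)) [Finite Γ]
    (h : ∀ γ ∈ Γ, ∃ v : Fin 2 → ℤ, v ≠ 0 ∧ (γ : Matrix (Fin 2) (Fin 2) ℤ) *ᵥ v = v) :
    ∃ v : Fin 2 → ℤ, v ≠ 0 ∧ ∀ γ ∈ Γ, (γ : Matrix (Fin 2) (Fin 2) ℤ) *ᵥ v = v := by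
  -- elements of det 1 are trivial
  have key : ∀ γ ∈ Γ, (γ : Matrix (Fin 2) (Fin 2) ℤ).det = 1 → γ = 1 := by
    intro γ hγ hd
    obtain ⟨v, hv, hfix⟩ := h γ hγ
    have ht := trace_eq_of_fixed _ v hv hfix
    rw [hd] at ht
    have hfin : IsOfFinOrder (⟨γ, hγ⟩ : Γ) := isOfFinOrder_of_finite _
    obtain ⟨n, hn, hpow⟩ := hfin.exists_pow_eq_one
    have hpow' : γ ^ n = 1 := by
      have := congrArg (Subtype.val) hpow
      simpa using this
    have hM : (γ : Matrix (Fin 2) (Fin 2) ℤ) ^ n = 1 := by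
      have := congrArg (fun g : Matrix.GeneralLinearGroup (Fin 2) ℤ => (g : Matrix (Fin 2) (Fin 2) ℤ)) hpow'
      simpa using this
    have := eq_one_of_det_one _ hd (by rw [ht]; norm_num) n hn hM
    exact Units.ext this
  have hdet : ∀ γ : Matrix.GeneralLinearGroup (Fin 2) ℤ,
      (γ : Matrix (Fin 2) (Fin 2) ℤ).det = 1 ∨ (γ : Matrix (Fin 2) (Fin 2) ℤ).det = -1 := by
    intro γ
    have : IsUnit (γ : Matrix (Fin 2) (Fin 2) ℤ).det :=
      (Matrix.isUnit_iff_isUnit_det _).mp γ.isUnit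
    exact Int.isUnit_iff.mp this
  by_cases hall : ∀ γ ∈ Γ, γ = 1
  · refine ⟨![1, 0], by simp, ?_⟩
    intro γ hγ
    rw [hall γ hγ]; simp
  · push Not at hall
    obtain ⟨s, hs, hs1⟩ := hall
    obtain ⟨v, hv, hfix⟩ := h s hs
    have hsd : (s : Matrix (Fin 2) (Fin 2) ℤ).det = -1 := by
      rcases hdet s with h1 | h1
      · exact absurd (key s hs h1) hs1
      · exact h1
    have hss : s * s = 1 := by
      apply key _ (Γ.mul_mem hs hs)
      simp [Matrix.det_mul, hsd]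
    refine ⟨v, hv, ?_⟩
    intro γ hγ
    rcases hdet γ with h1 | h1
    · rw [key γ hγ h1]; simp
    · have hγs : γ * s = 1 := by
        apply key _ (Γ.mul_mem hγ hs)
        simp [Matrix.det_mul, hsd, h1]
      have : γ = s := by
        have e1 : γ = s⁻¹ := eq_inv_of_mul_eq_one_left hγs
        have e2 : s = s⁻¹ := eq_inv_of_mul_eq_one_left hss
        rw [e1, ← e2]
      rw [this]; exact hfix

end Groth.Agent.H9.GL2Fix
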