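import Mathlib
import Groth.Prelude.Def_SGA3b
import Groth.Agent.Lib.Helper9.MultT.KerF

/-!
# Group-like elements of group algebras and nil ideals (helper9)
-/

set_option autoImplicit false
set_option linter.unusedSectionVars false
set_option linter.unusedVariables false
set_option linter.style.haveILetI false

namespace Groth.Agent.H9.GLL

open TensorProduct SGA3b Groth.Agent.H9.MultT

universe u

attribute [local instance] Classical.propDecidable

section Diag

variable {T : Type u} [CommRing T] {N : Type u} [CommGroup N]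

theorem isIdempotentElem_coeff {G : MonoidAlgebra T N} (hG : IsGroupLikeElem T G) (n : N) :
    IsIdempotentElem (G.coeff n) := by
  have := coeff_mul_coeff_of_isGroupLike hG n n
  rwa [if_pos rfl] at this

/-- **U0** -/
theorem groupLike_eq_of_nilpotent {G G' : MonoidAlgebra T N} (hG : IsGroupLikeElem T G)
    (hG' : IsGroupLikeElem T G') (h : ∀ n, IsNilpotent (G.coeff n - G'.coeff n)) : G = G' := by
  apply MonoidAlgebra.coeff_injective
  apply Finsupp.ext
  intro n
  exact eq_of_isNilpotent_sub_of_isIdempotentElem_of_commute (isIdempotentElem_coeff hG n)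
    (isIdempotentElem_coeff hG' n) (h n) (Commute.all _ _)

theorem sum_coeff_eq_counit (c : MonoidAlgebra T N) :
    ∑ n ∈ c.coeff.support, c.coeff n = Coalgebra.counit (R := T) c := by
  conv_rhs => rw [← MonoidAlgebra.sum_coeff_single c]
  rw [Finsupp.sum, map_sum]
  refine Finset.sum_congr rfl fun n _ => ?_
  rw [MonoidAlgebra.counit_single, CommSemiring.counit_apply]

theorem algHom_ext_single {B : Type*} [Semiring B] [Algebra T B]
    (φ₁ φ₂ : MonoidAlgebra T N →ₐ[T] B)
    (h : ∀ n, φ₁ (MonoidAlgebra.single n 1) = φ₂ (MonoidAlgebra.single n 1)) : φ₁ = φ₂ := by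
  apply AlgHom.ext
  intro x
  induction x using MonoidAlgebra.induction_linear with
  | zero => rw [map_zero, map_zero]
  | add x y hx hy => rw [map_add, map_add, hx, hy]
  | single m r =>
    have h1 : MonoidAlgebra.single m r = r • MonoidAlgebra.single m (1 : T) := by
      rw [MonoidAlgebra.smul_single, smul_eq_mul, mul_one]
    rw [h1, map_smul, map_smul, h]

/-- **E0** -/
theorem exists_groupLike_of_approx (𝔫 : Ideal T) (h𝔫 : ∀ x ∈ 𝔫, IsNilpotent x)
    (c : MonoidAlgebra T N)
    (h1 : ∀ n m : N, c.coeff n * c.coeff m - (if n = m then c.coeff n else 0) ∈ 𝔫)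
    (h2 : Coalgebra.counit (R := T) c - 1 ∈ 𝔫) :
    ∃ G : MonoidAlgebra T N, IsGroupLikeElem T G ∧ ∀ n, G.coeff n - c.coeff n ∈ 𝔫 := by
  classical
  let S := c.coeff.support
  let q := Ideal.Quotient.mk 𝔫
  let ebar : S → T ⧸ 𝔫 := fun i => q (c.coeff i)
  have hebar : CompleteOrthogonalIdempotents ebar := by
    refine ⟨⟨fun i => ?_, fun i j hij => ?_⟩, ?_⟩
    · show q (c.coeff i) * q (c.coeff i) = q (c.coeff i)
      rw [← map_mul, ← sub_eq_zero, ← map_sub, Ideal.Quotient.eq_zero_iff_mem]
      have := h1 i i
      rwa [if_pos rfl] at this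
    · show q (c.coeff i) * q (c.coeff j) = 0
      rw [← map_mul, Ideal.Quotient.eq_zero_iff_mem]
      have := h1 i j
      rwa [if_neg (fun h => hij (Subtype.ext h)), sub_zero] at this
    · show ∑ i : S, q (c.coeff i) = 1
      rw [← map_sum, Finset.sum_coe_sort S (fun n => c.coeff n), sum_coeff_eq_counit,
        ← sub_eq_zero, ← map_one q, ← map_sub, Ideal.Quotient.eq_zero_iff_mem]
      exact h2
  obtain ⟨e', he', hfe⟩ := CompleteOrthogonalIdempotents.lift_of_isNilpotent_ker q (by
      intro x hx
      rw [Ideal.mk_ker] at hx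
      exact h𝔫 x hx) hebar (fun i => ⟨c.coeff i, rfl⟩)
  have hidem : ∀ i, IsIdempotentElem (e' i) := he'.idem
  have horth : ∀ i j, i ≠ j → e' i * e' j = 0 := fun i j hij => he'.ortho hij
  have hsum : ∑ i, e' i = 1 := he'.complete
  refine ⟨∑ i : S, e' i • MonoidAlgebra.single (i : N) (1 : T),
    { counit_eq_one := ?_, comul_eq_tmul_self := ?_ }, ?_⟩
  · rw [map_sum]
    simp only [map_smul, MonoidAlgebra.counit_single, CommSemiring.counit_apply, smul_eq_mul,
      mul_one]
    exact hsum
  · rw [sum_smul_tmul_sum_smul hidem horth, map_sum]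
    refine Finset.sum_congr rfl fun i _ => ?_
    rw [map_smul, MonoidAlgebra.comul_single, CommSemiring.comul_apply, TensorProduct.map_tmul]
    rfl
  · intro n
    have hcoeff : (∑ i : S, e' i • MonoidAlgebra.single (i : N) (1 : T)).coeff n =
        ∑ i : S, if (i : N) = n then e' i else 0 := by
      rw [← tau_apply, map_sum]
      refine Finset.sum_congr rfl fun i _ => ?_
      rw [map_smul, tau_single, smul_eq_mul]
      split_ifs <;> simp
    rw [hcoeff]
    by_cases hn : n ∈ S
    · rw [Finset.sum_eq_single (⟨n, hn⟩ : S)]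
      · rw [if_pos rfl]
        exact Ideal.Quotient.eq.mp (congr_fun hfe ⟨n, hn⟩)
      · intro j _ hj
        rw [if_neg]
        intro h
        exact hj (Subtype.ext h)
      · intro h
        exact absurd (Finset.mem_univ _) h
    · rw [Finset.sum_eq_zero]
      · have h0 : c.coeff n = 0 := Finsupp.notMem_support_iff.mp hn
        rw [h0, sub_zero]
        exact 𝔫.zero_mem
      · intro j _
        rw [if_neg]
        intro h
        exact hn (h ▸ j.2)

end Diag

section Smul

variable {R : Type u} [CommRing R] (I : Ideal R)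

theorem map_mem_smul_top {X Y : Type*} [AddCommGroup X] [Module R X] [AddCommGroup Y]
    [Module R Y] (f : X →ₗ[R] Y) {x : X} (hx : x ∈ I • (⊤ : Submodule R X)) :
    f x ∈ I • (⊤ : Submodule R Y) := by
  induction hx using Submodule.smul_induction_on' with
  | smul r hr a _ =>
    rw [map_smul]
    exact Submodule.smul_mem_smul hr Submodule.mem_top
  | add x y _ _ hx hy =>
    rw [map_add]
    exact add_mem hx hy

theorem mem_map_of_mem_smul_top {T : Type*} [CommRing T] [Algebra R T] {x : T}
    (hx : x ∈ I • (⊤ : Submodule R T)) : x ∈ I.map (algebraMap R T) := by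
  induction hx using Submodule.smul_induction_on' with
  | smul r hr a _ =>
    rw [Algebra.smul_def]
    exact Ideal.mul_mem_right _ _ (Ideal.mem_map_of_mem _ hr)
  | add x y _ _ hx hy => exact add_mem hx hy

theorem mem_smul_top_of_mem_map {T : Type*} [CommRing T] [Algebra R T] {x : T}
    (hx : x ∈ I.map (algebraMap R T)) : x ∈ I • (⊤ : Submodule R T) := by
  let J : Ideal T :=
    { carrier := {x | x ∈ I • (⊤ : Submodule R T)}
      add_mem' := fun ha hb => (I • (⊤ : Submodule R T)).add_mem ha hb
      zero_mem' := (I • (⊤ : Submodule R T)).zero_mem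
      smul_mem' := fun t x hx => map_mem_smul_top I (LinearMap.mulLeft R t) hx }
  have hle : I.map (algebraMap R T) ≤ J := by
    rw [Ideal.map_le_iff_le_comap]
    intro r hr
    show algebraMap R T r ∈ I • (⊤ : Submodule R T)
    rw [Algebra.algebraMap_eq_smul_one]
    exact Submodule.smul_mem_smul hr Submodule.mem_top
  exact hle hx

theorem isNilpotent_of_mem_map (hI : ∀ x ∈ I, IsNilpotent x) {T : Type*} [CommRing T]
    [Algebra R T] {x : T} (hx : x ∈ I.map (algebraMap R T)) : IsNilpotent x := by
  have hle : I.map (algebraMap R T) ≤ nilradical T := by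
    rw [Ideal.map_le_iff_le_comap]
    intro r hr
    rw [Ideal.mem_comap, mem_nilradical]
    exact (hI r hr).map (algebraMap R T)
  exact mem_nilradical.mp (hle hx)

theorem tmul_mem_smul_top {X : Type*} [AddCommGroup X] [Module R X] {T : Type*} [CommRing T]
    [Algebra R T] (t : T) {x : X} (hx : x ∈ I • (⊤ : Submodule R X)) :
    t ⊗ₜ[R] x ∈ I • (⊤ : Submodule R (T ⊗[R] X)) :=
  map_mem_smul_top I (TensorProduct.mk R T X t) hx

end Smul

section Red

variable {T : Type u} [CommRing T] (T₀ : Type u) [CommRing T₀] [Algebra T T₀]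
  {N : Type u} [CommGroup N] {M : Type u} [CommGroup M]

/-- coefficientwise reduction -/
noncomputable abbrev red : MonoidAlgebra T N →ₐ[T] MonoidAlgebra T₀ N :=
  MonoidAlgebra.mapAlgHom N (Algebra.ofId T T₀)

theorem coeff_red (x : MonoidAlgebra T N) (n : N) :
    (red T₀ x).coeff n = algebraMap T T₀ (x.coeff n) :=
  MonoidAlgebra.coeff_mapAlgHom _ _ _

theorem red_single (n : N) (r : T) :
    red T₀ (MonoidAlgebra.single n r) = MonoidAlgebra.single n (algebraMap T T₀ r) :=
  MonoidAlgebra.mapAlgHom_single _ _ _

theorem counit_red (x : MonoidAlgebra T N) :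
    Coalgebra.counit (R := T₀) (red T₀ x) = algebraMap T T₀ (Coalgebra.counit (R := T) x) := by
  induction x using MonoidAlgebra.induction_linear with
  | zero => simp
  | add x y hx hy => rw [map_add, map_add, map_add, map_add, hx, hy]
  | single m r =>
    rw [red_single, MonoidAlgebra.counit_single, MonoidAlgebra.counit_single,
      CommSemiring.counit_apply, CommSemiring.counit_apply]

variable (hker : ∀ x : T, algebraMap T T₀ x = 0 → IsNilpotent x)

include hker in
theorem red_injOn_groupLike {G G' : MonoidAlgebra T N} (hG : IsGroupLikeElem T G)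
    (hG' : IsGroupLikeElem T G') (h : red T₀ G = red T₀ G') : G = G' := by
  apply groupLike_eq_of_nilpotent hG hG'
  intro n
  apply hker
  rw [map_sub, ← coeff_red, ← coeff_red, h, sub_self]

variable (hq : Function.Surjective (algebraMap T T₀))

include hker hq in
theorem exists_groupLike_red {Gbar : MonoidAlgebra T₀ N} (hG : IsGroupLikeElem T₀ Gbar) :
    ∃ G : MonoidAlgebra T N, IsGroupLikeElem T G ∧ red T₀ G = Gbar := by
  choose l hl using hq
  let c : MonoidAlgebra T N :=
    ∑ n ∈ Gbar.coeff.support, MonoidAlgebra.single n (l (Gbar.coeff n))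
  have hc : red T₀ c = Gbar := by
    rw [map_sum]
    conv_rhs => rw [← MonoidAlgebra.sum_coeff_single Gbar]
    rw [Finsupp.sum]
    refine Finset.sum_congr rfl fun n _ => ?_
    rw [red_single, hl]
  have hcn : ∀ n, algebraMap T T₀ (c.coeff n) = Gbar.coeff n := fun n => by
    rw [← coeff_red, hc]
  have hh1 : ∀ n m : N, c.coeff n * c.coeff m - (if n = m then c.coeff n else 0) ∈
      RingHom.ker (algebraMap T T₀) := by
    intro n m
    rw [RingHom.mem_ker, map_sub, map_mul, hcn, hcn, coeff_mul_coeff_of_isGroupLike hG]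
    split_ifs with h
    · rw [hcn, sub_self]
    · rw [map_zero, sub_self]
  have hh2 : Coalgebra.counit (R := T) c - 1 ∈ RingHom.ker (algebraMap T T₀) := by
    rw [RingHom.mem_ker, map_sub, map_one, ← counit_red, hc, hG.counit_eq_one, sub_self]
  obtain ⟨G, hG', hGc⟩ := exists_groupLike_of_approx (RingHom.ker (algebraMap T T₀))
    (fun x hx => hker x hx) c hh1 hh2
  refine ⟨G, hG', ?_⟩
  apply MonoidAlgebra.coeff_injective
  apply Finsupp.ext
  intro n
  rw [coeff_red, ← hcn n]
  have := hGc n
  rw [RingHom.mem_ker, map_sub, sub_eq_zero] at this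
  exact this

include hker hq in
/-- a bialgebra map of group algebras which is an isomorphism modulo a nil ideal is bijective -/
theorem bijective_of_red_iso (u : MonoidAlgebra T M →ₐc[T] MonoidAlgebra T N)
    (Ψ : MonoidAlgebra T₀ M ≃ₐc[T₀] MonoidAlgebra T₀ N)
    (hΨ : ∀ m : M, red T₀ (u (MonoidAlgebra.single m 1)) = Ψ (MonoidAlgebra.single m 1)) :
    Function.Bijective u := by
  have hsm : ∀ (K : Type u) [CommGroup K] (k : K) (r : T),
      (MonoidAlgebra.single k r : MonoidAlgebra T K) = r • MonoidAlgebra.single k (1 : T) := by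
    intro K _ k r
    rw [MonoidAlgebra.smul_single, smul_eq_mul, mul_one]
  have hd : ∀ x : MonoidAlgebra T M, red T₀ (u x) = Ψ (red T₀ x) := by
    intro x
    induction x using MonoidAlgebra.induction_linear with
    | zero => simp
    | add x y hx hy => rw [map_add, map_add, map_add, map_add, hx, hy]
    | single m r =>
      rw [hsm M m r, map_smul u, map_smul (red T₀), map_smul (red T₀), hΨ,
        ← algebraMap_smul T₀ r (Ψ _), ← algebraMap_smul T₀ r (red T₀ _), map_smul Ψ]
      congr 2
      rw [red_single, map_one]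
  have hgl : ∀ n : N, IsGroupLikeElem T₀ (Ψ.symm (MonoidAlgebra.single n 1)) := fun n =>
    (MonoidAlgebra.isGroupLikeElem_single_one n).map Ψ.symm
  choose H hH hHred using fun n => exists_groupLike_red T₀ hker hq (hgl n)
  have hred1 : ∀ (K : Type u) [CommGroup K] (k : K),
      red T₀ (MonoidAlgebra.single k (1 : T)) = (MonoidAlgebra.single k (1 : T₀) : MonoidAlgebra T₀ K) := by
    intro K _ k
    rw [red_single, map_one]
  have huH : ∀ n, u (H n) = MonoidAlgebra.single n 1 := by
    intro n
    apply red_injOn_groupLike T₀ hker ((hH n).map u) (MonoidAlgebra.isGroupLikeElem_single_one n)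
    rw [hd, hHred, Ψ.apply_symm_apply, hred1]
  have hsurj : Function.Surjective u := by
    intro y
    induction y using MonoidAlgebra.induction_linear with
    | zero => exact ⟨0, map_zero _⟩
    | add x y hx hy =>
      obtain ⟨a, ha⟩ := hx
      obtain ⟨b, hb⟩ := hy
      exact ⟨a + b, by rw [map_add, ha, hb]⟩
    | single n r => exact ⟨r • H n, by rw [map_smul, huH, ← hsm]⟩
  let γ : N →* MonoidAlgebra T M :=
    { toFun := H
      map_one' := by
        apply red_injOn_groupLike T₀ hker (hH 1) IsGroupLikeElem.one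
        rw [hHred, map_one, ← MonoidAlgebra.one_def, map_one]
      map_mul' := fun n n' => by
        apply red_injOn_groupLike T₀ hker (hH _) ((hH n).mul (hH n'))
        rw [hHred, map_mul, hHred, hHred, ← map_mul, MonoidAlgebra.single_mul_single, mul_one] }
  let v := liftBialg γ hH
  have hv : ∀ n r, v (MonoidAlgebra.single n r) = r • H n := liftBialg_single γ hH
  have hd' : ∀ y : MonoidAlgebra T N, red T₀ (v y) = Ψ.symm (red T₀ y) := by
    intro y
    induction y using MonoidAlgebra.induction_linear with
    | zero => simp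
    | add x y hx hy => rw [map_add, map_add, map_add, map_add, hx, hy]
    | single n r =>
      rw [hv, map_smul (red T₀), hHred, hsm N n r, map_smul (red T₀),
        ← algebraMap_smul T₀ r (Ψ.symm _), ← algebraMap_smul T₀ r (red T₀ _), map_smul Ψ.symm,
        hred1]
  have hvu : ∀ m, v (u (MonoidAlgebra.single m 1)) = MonoidAlgebra.single m 1 := by
    intro m
    apply red_injOn_groupLike T₀ hker
      (((MonoidAlgebra.isGroupLikeElem_single_one m).map u).map v)
      (MonoidAlgebra.isGroupLikeElem_single_one m)
    rw [hd', hΨ, Ψ.symm_apply_apply, hred1]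
  have hid : ∀ x, v (u x) = x := by
    intro x
    induction x using MonoidAlgebra.induction_linear with
    | zero => simp
    | add x y hx hy => rw [map_add, map_add, hx, hy]
    | single m r => rw [hsm M m r, map_smul u, map_smul v, hvu]
  exact ⟨fun x y hxy => by rw [← hid x, ← hid y, hxy], hsurj⟩

end Red

end Groth.Agent.H9.GLL
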