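import Mathlib
import Groth.Prelude.Def_SGA3b
import Groth.Agent.Lib.Helper9.Misc.GLL1
import Groth.Agent.Lib.Helper9.Misc.GLL2
import Groth.Agent.Lib.Helper9.MultT.Ann
import Groth.Agent.Lib.Helper9.MultT.BCTriv
import Groth.Agent.Lib.Helper9.MultT.Mono
import Groth.Agent.Lib.Helper9.CommGrp.MultType
import Groth.Agent.Lib.Helper9.MT.BaseChange

/-!
# Lifting group-like elements along nil ideals for groups of multiplicative type (helper9)
-/

set_option autoImplicit false
set_option linter.unusedSectionVars false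
set_option linter.unusedVariables false
set_option linter.style.haveILetI false

namespace Groth.Agent.H9.GLL

open TensorProduct SGA3b Groth.Agent.H9.MultT

universe u

attribute [local instance] Classical.propDecidable

section BC

variable {R : Type u} [CommRing R] {A : Type u} [CommRing A] [HopfAlgebra R A]

theorem isGroupLikeElem_rTensor {S S' : Type u} [CommRing S] [Algebra R S] [CommRing S']
    [Algebra R S'] (ψ : S →ₐ[R] S') {x : S ⊗[R] A} (hx : IsGroupLikeElem S x) :
    IsGroupLikeElem S' (LinearMap.rTensor A ψ.toLinearMap x) := by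
  letI : Algebra S S' := ψ.toRingHom.toAlgebra
  haveI : IsScalarTower R S S' := IsScalarTower.of_algebraMap_eq (fun r => (ψ.commutes r).symm)
  have key : ∀ z : S ⊗[R] A, LinearMap.rTensor A ψ.toLinearMap z =
      Groth.Agent.H9.MT.cancelBC R S S' A ((1 : S') ⊗ₜ[S] z) := by
    intro z
    induction z using TensorProduct.induction_on with
    | zero => simp
    | add a b ha hb => rw [map_add, ha, hb, TensorProduct.tmul_add, map_add]
    | tmul s a =>
      rw [LinearMap.rTensor_tmul, Groth.Agent.H9.MT.cancelBC_tmul, AlgHom.toLinearMap_apply]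
      congr 1
      rw [Algebra.smul_def, mul_one]
      rfl
  rw [key]
  exact (isGroupLikeElem_one_tmul S' hx).map (Groth.Agent.H9.MT.cancelBC R S S' A)

theorem counit_one_tmul (T : Type u) [CommRing T] [Algebra R T] (a : A) :
    Coalgebra.counit (R := T) ((1 : T) ⊗ₜ[R] a) =
      algebraMap R T (Coalgebra.counit (R := R) a) := by
  rw [TensorProduct.counit_tmul, CommSemiring.counit_apply, Algebra.algebraMap_eq_smul_one]

theorem defect_one_tmul (T : Type u) [CommRing T] [Algebra R T] (b : A) :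
    Coalgebra.comul (R := T) ((1 : T) ⊗ₜ[R] b) - ((1 : T) ⊗ₜ[R] b) ⊗ₜ[T] ((1 : T) ⊗ₜ[R] b) =
      TensorProduct.AlgebraTensorModule.distribBaseChange R T A A
        ((1 : T) ⊗ₜ[R] (Coalgebra.comul (R := R) b - b ⊗ₜ[R] b)) := by
  rw [Groth.Agent.H9.CommGrp.comul_baseChange', LinearMap.lTensor_tmul, TensorProduct.tmul_sub,
    map_sub, TensorProduct.AlgebraTensorModule.distribBaseChange_tmul]

theorem lTensor_mkQ_eq_zero (I : Ideal R) {X : Type u} [AddCommGroup X] [Module R X]
    (T : Type u) [CommRing T] [Algebra R T] {u : T ⊗[R] X}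
    (hu : u ∈ I • (⊤ : Submodule R (T ⊗[R] X))) :
    LinearMap.lTensor T (I • (⊤ : Submodule R X)).mkQ u = 0 := by
  have key : ∀ r ∈ I, ∀ a : T ⊗[R] X,
      r • LinearMap.lTensor T (I • (⊤ : Submodule R X)).mkQ a = 0 := by
    intro r hr a
    induction a using TensorProduct.induction_on with
    | zero => rw [map_zero, smul_zero]
    | add a b ha hb => rw [map_add, smul_add, ha, hb, add_zero]
    | tmul t x =>
      have h0 : (I • (⊤ : Submodule R X)).mkQ (r • x) = 0 := by
        rw [Submodule.mkQ_apply, Submodule.Quotient.mk_eq_zero]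
        exact Submodule.smul_mem_smul hr Submodule.mem_top
      rw [LinearMap.lTensor_tmul, ← TensorProduct.tmul_smul, ← map_smul, h0,
        TensorProduct.tmul_zero]
  induction hu using Submodule.smul_induction_on' with
  | smul r hr a _ =>
    rw [map_smul]
    exact key r hr a
  | add x y _ _ hx hy => rw [map_add, hx, hy, add_zero]

end BC

section ChartLevel

variable {R : Type u} [CommRing R] (I : Ideal R) (hI : ∀ x ∈ I, IsNilpotent x)
  {A : Type u} [CommRing A] [HopfAlgebra R A]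
  {T : Type u} [CommRing T] [Algebra R T] {N : Type u} [CommGroup N]

include hI in
/-- **K1-U** -/
theorem chart_unique (e : T ⊗[R] A ≃ₐc[T] MonoidAlgebra T N) {x y : T ⊗[R] A} (hx : IsGroupLikeElem T x) (hy : IsGroupLikeElem T y)
    (h : x - y ∈ I • (⊤ : Submodule R (T ⊗[R] A))) : x = y := by
  apply e.injective
  apply groupLike_eq_of_nilpotent (hx.map e) (hy.map e)
  intro n
  apply isNilpotent_of_mem_map I hI
  apply mem_map_of_mem_smul_top I
  let el : T ⊗[R] A →ₗ[T] MonoidAlgebra T N := (e : T ⊗[R] A →ₗ[T] MonoidAlgebra T N)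
  let L : T ⊗[R] A →ₗ[R] T := ((tau n : MonoidAlgebra T N →ₗ[T] T) ∘ₗ el).restrictScalars R
  have hL : ∀ z, L z = (e z).coeff n := fun z => rfl
  have := map_mem_smul_top I L h
  rw [map_sub, hL, hL] at this
  exact this

include hI in
/-- **K1-E** -/
theorem chart_exists (e : T ⊗[R] A ≃ₐc[T] MonoidAlgebra T N) (b : A)
    (hb1 : Coalgebra.comul (R := R) b - b ⊗ₜ[R] b ∈ I • (⊤ : Submodule R (A ⊗[R] A)))
    (hb2 : Coalgebra.counit (R := R) b - 1 ∈ I) :
    ∃ x : T ⊗[R] A, IsGroupLikeElem T x ∧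
      x - (1 : T) ⊗ₜ[R] b ∈ I • (⊤ : Submodule R (T ⊗[R] A)) := by
  have h𝔫 : ∀ x ∈ I.map (algebraMap R T), IsNilpotent x :=
    fun x hx => isNilpotent_of_mem_map I hI hx
  have h1 : ∀ n m : N, (e ((1 : T) ⊗ₜ[R] b)).coeff n * (e ((1 : T) ⊗ₜ[R] b)).coeff m -
      (if n = m then (e ((1 : T) ⊗ₜ[R] b)).coeff n else 0) ∈ I.map (algebraMap R T) := by
    intro n m
    let el : T ⊗[R] A →ₗ[T] MonoidAlgebra T N := (e : T ⊗[R] A →ₗ[T] MonoidAlgebra T N)
    have hcomul : TensorProduct.map el el (Coalgebra.comul (R := T) ((1 : T) ⊗ₜ[R] b)) =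
        Coalgebra.comul (R := T) (e ((1 : T) ⊗ₜ[R] b)) :=
      CoalgHomClass.map_comp_comul_apply e ((1 : T) ⊗ₜ[R] b)
    let L : T ⊗[R] (A ⊗[R] A) →ₗ[R] T :=
      ((tau2 n m ∘ₗ TensorProduct.map el el) ∘ₗ
        (TensorProduct.AlgebraTensorModule.distribBaseChange R T A A).toLinearMap).restrictScalars R
    have hmem : (1 : T) ⊗ₜ[R] (Coalgebra.comul (R := R) b - b ⊗ₜ[R] b) ∈
        I • (⊤ : Submodule R (T ⊗[R] (A ⊗[R] A))) := tmul_mem_smul_top I 1 hb1
    have h2 := mem_map_of_mem_smul_top I (map_mem_smul_top I L hmem)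
    have h3 : L ((1 : T) ⊗ₜ[R] (Coalgebra.comul (R := R) b - b ⊗ₜ[R] b)) =
        (if n = m then (e ((1 : T) ⊗ₜ[R] b)).coeff n else 0) -
          (e ((1 : T) ⊗ₜ[R] b)).coeff n * (e ((1 : T) ⊗ₜ[R] b)).coeff m := by
      have e1 : L ((1 : T) ⊗ₜ[R] (Coalgebra.comul (R := R) b - b ⊗ₜ[R] b)) =
          tau2 n m (TensorProduct.map el el
            (TensorProduct.AlgebraTensorModule.distribBaseChange R T A A
              ((1 : T) ⊗ₜ[R] (Coalgebra.comul (R := R) b - b ⊗ₜ[R] b)))) := rfl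
      rw [e1, ← defect_one_tmul, map_sub, map_sub, TensorProduct.map_tmul, hcomul, tau2_comul,
        tau2_tmul]
      rfl
    rw [h3] at h2
    have := (I.map (algebraMap R T)).neg_mem h2
    rwa [neg_sub] at this
  have h2 : Coalgebra.counit (R := T) (e ((1 : T) ⊗ₜ[R] b)) - 1 ∈ I.map (algebraMap R T) := by
    have e0 : Coalgebra.counit (R := T) (e ((1 : T) ⊗ₜ[R] b)) =
        Coalgebra.counit (R := T) ((1 : T) ⊗ₜ[R] b) :=
      CoalgHomClass.counit_comp_apply e _
    rw [e0, counit_one_tmul, ← map_one (algebraMap R T), ← map_sub]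
    exact Ideal.mem_map_of_mem _ hb2
  obtain ⟨G, hG, hGc⟩ := exists_groupLike_of_approx (I.map (algebraMap R T)) h𝔫
    (e ((1 : T) ⊗ₜ[R] b)) h1 h2
  refine ⟨e.symm G, hG.map e.symm, ?_⟩
  have e2 : e.symm G - (1 : T) ⊗ₜ[R] b = e.symm (G - e ((1 : T) ⊗ₜ[R] b)) := by
    rw [map_sub, e.symm_apply_apply]
  rw [e2]
  have e3 : G - e ((1 : T) ⊗ₜ[R] b) =
      ∑ n ∈ (G - e ((1 : T) ⊗ₜ[R] b)).coeff.support,
        (G - e ((1 : T) ⊗ₜ[R] b)).coeff n • MonoidAlgebra.single n (1 : T) := by
    conv_lhs => rw [← MonoidAlgebra.sum_coeff_single (G - e ((1 : T) ⊗ₜ[R] b))]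
    rw [Finsupp.sum]
    refine Finset.sum_congr rfl fun n _ => ?_
    rw [MonoidAlgebra.smul_single, smul_eq_mul, mul_one]
  rw [e3, map_sum]
  refine Submodule.sum_mem _ fun n _ => ?_
  rw [map_smul]
  have hcoef : (G - e ((1 : T) ⊗ₜ[R] b)).coeff n ∈ I • (⊤ : Submodule R T) := by
    apply mem_smul_top_of_mem_map
    rw [← tau_apply, map_sub, tau_apply, tau_apply]
    exact hGc n
  have := map_mem_smul_top I ((LinearMap.toSpanSingleton T (T ⊗[R] A)
    (e.symm (MonoidAlgebra.single n 1))).restrictScalars R) hcoef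
  exact this

end ChartLevel

section Global

variable {R : Type u} [CommRing R] (I : Ideal R) (hI : ∀ x ∈ I, IsNilpotent x)
  {A : Type u} [CommRing A] [HopfAlgebra R A]

/-- a chart -/
structure Chart (R : Type u) [CommRing R] (A : Type u) [CommRing A] [HopfAlgebra R A]
    (f : R) where
  T : Type u
  [cr : CommRing T]
  [alg : Algebra R T]
  cov : IsCov f T
  N : Type u
  [grp : CommGroup N]
  e : T ⊗[R] A ≃ₐc[T] MonoidAlgebra T N

attribute [instance] Chart.cr Chart.alg Chart.grp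

theorem exists_charts (h : HasCharts R A) :
    ∃ s : Set R, Ideal.span s = ⊤ ∧ ∀ f ∈ s, Nonempty (Chart R A f) := by
  obtain ⟨s, hs, hloc⟩ := h
  refine ⟨s, hs, fun f hf => ?_⟩
  obtain ⟨T, _, _, hT, M, _, ⟨e⟩⟩ := hloc f hf
  exact ⟨⟨T, hT, M, e⟩⟩

include hI in
/-- **MLT-U**: group-like elements of a group of multiplicative type congruent modulo a nil ideal
are equal -/
theorem groupLike_unique (h : HasCharts R A) {g g' : A} (hg : IsGroupLikeElem R g)
    (hg' : IsGroupLikeElem R g') (hd : g - g' ∈ I • (⊤ : Submodule R A)) : g = g' := by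
  obtain ⟨s, hs, hloc⟩ := h
  rw [← sub_eq_zero]
  refine eq_zero_of_cov_module hs _ fun f hf => ?_
  obtain ⟨T, _, _, hT, M, _, ⟨e⟩⟩ := hloc f hf
  refine ⟨T, inferInstance, inferInstance, hT, ?_⟩
  rw [TensorProduct.tmul_sub, sub_eq_zero]
  apply chart_unique I hI e (isGroupLikeElem_one_tmul T hg) (isGroupLikeElem_one_tmul T hg')
  rw [← TensorProduct.tmul_sub]
  exact tmul_mem_smul_top I 1 hd

include hI in
/-- **MLT-E**: approximately group-like elements lift to group-like elements -/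
theorem exists_groupLike_lift (h : HasCharts R A) (b : A)
    (hb1 : Coalgebra.comul (R := R) b - b ⊗ₜ[R] b ∈ I • (⊤ : Submodule R (A ⊗[R] A)))
    (hb2 : Coalgebra.counit (R := R) b - 1 ∈ I) :
    ∃ g : A, IsGroupLikeElem R g ∧ g - b ∈ I • (⊤ : Submodule R A) := by
  classical
  obtain ⟨s, hs, hloc⟩ := exists_charts h
  have h1 : (1 : R) ∈ Ideal.span s := by
    rw [hs]
    exact Submodule.mem_top
  obtain ⟨t, hts, ht1⟩ := Submodule.mem_span_finite_of_mem_span h1
  have hr : Ideal.span (Set.range fun i : ↥t => (i : R)) = ⊤ := by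
    rw [Ideal.eq_top_iff_one]
    have e1 : (Set.range fun i : ↥t => (i : R)) = (t : Set R) := by
      ext x
      simp
    rw [e1]
    exact ht1
  have ch : ∀ i : ↥t, Chart R A (i : R) := fun i => (hloc i.1 (hts i.2)).some
  choose x hxg hxb using fun i : ↥t => chart_exists I hI (ch i).e b hb1 hb2
  have hcompat : ∀ i j : ↥t,
      LinearMap.rTensor A (Algebra.TensorProduct.includeLeft :
          (ch i).T →ₐ[R] (ch i).T ⊗[R] (ch j).T).toLinearMap (x i) =
        LinearMap.rTensor A (Algebra.TensorProduct.includeRight :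
          (ch j).T →ₐ[R] (ch i).T ⊗[R] (ch j).T).toLinearMap (x j) := by
    intro i j
    apply chart_unique I hI (bcTriv ((ch i).T ⊗[R] (ch j).T) (ch i).e)
      (isGroupLikeElem_rTensor _ (hxg i)) (isGroupLikeElem_rTensor _ (hxg j))
    have e1 := map_mem_smul_top I (LinearMap.rTensor A (Algebra.TensorProduct.includeLeft :
      (ch i).T →ₐ[R] (ch i).T ⊗[R] (ch j).T).toLinearMap) (hxb i)
    have e2 := map_mem_smul_top I (LinearMap.rTensor A (Algebra.TensorProduct.includeRight :
      (ch j).T →ₐ[R] (ch i).T ⊗[R] (ch j).T).toLinearMap) (hxb j)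
    rw [map_sub, LinearMap.rTensor_tmul, AlgHom.toLinearMap_apply, map_one] at e1 e2
    have := Submodule.sub_mem _ e1 e2
    rwa [sub_sub_sub_cancel_right] at this
  obtain ⟨g, hgx⟩ := exists_glue (fun i : ↥t => (i : R)) hr (fun i => (ch i).T)
    (fun i => (ch i).cov) x hcompat
  have hcov : ∀ f ∈ (Set.range fun i : ↥t => (i : R)), ∃ i : ↥t, (i : R) = f := by
    rintro f ⟨i, rfl⟩
    exact ⟨i, rfl⟩
  refine ⟨g, { counit_eq_one := ?_, comul_eq_tmul_self := ?_ }, ?_⟩
  · rw [← sub_eq_zero]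
    refine eq_zero_of_cov hr _ ?_
    rintro f ⟨i, rfl⟩
    refine ⟨(ch i).T, inferInstance, inferInstance, (ch i).cov, ?_⟩
    rw [map_sub, map_one, ← counit_one_tmul, hgx i, (hxg i).counit_eq_one, sub_self]
  · rw [← sub_eq_zero]
    refine eq_zero_of_cov_module hr _ ?_
    rintro f ⟨i, rfl⟩
    refine ⟨(ch i).T, inferInstance, inferInstance, (ch i).cov, ?_⟩
    apply (TensorProduct.AlgebraTensorModule.distribBaseChange R (ch i).T A A).injective
    rw [← defect_one_tmul, hgx i, (hxg i).comul_eq_tmul_self, sub_self, map_zero]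
  · refine (Submodule.Quotient.mk_eq_zero _).mp ?_
    refine eq_zero_of_cov_module hr _ ?_
    rintro f ⟨i, rfl⟩
    refine ⟨(ch i).T, inferInstance, inferInstance, (ch i).cov, ?_⟩
    have e1 : (1 : (ch i).T) ⊗ₜ[R] (Submodule.Quotient.mk (g - b) : A ⧸ (I • (⊤ : Submodule R A))) =
        LinearMap.lTensor (ch i).T (I • (⊤ : Submodule R A)).mkQ
          ((1 : (ch i).T) ⊗ₜ[R] (g - b)) := by
      rw [LinearMap.lTensor_tmul]
      rfl
    rw [e1, TensorProduct.tmul_sub, hgx i]
    exact lTensor_mkQ_eq_zero I _ (hxb i)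

end Global

end Groth.Agent.H9.GLL
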