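import Mathlib
import Groth.Prelude.Def_SGA3b
import Groth.Agent.Lib.Helper9.Misc.GLL3
import Groth.Agent.Lib.Helper9.Misc.Miln
import Groth.Agent.Lib.Helper9.MultT.DiagSub

/-!
# A group of multiplicative type which is diagonalisable modulo a nil ideal is diagonalisable
-/

set_option autoImplicit false
set_option linter.unusedSectionVars false
set_option linter.unusedVariables false
set_option linter.style.haveILetI false

namespace Groth.Agent.H9.GLL

open TensorProduct SGA3b Groth.Agent.H9.MultT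

universe u

attribute [local instance] Classical.propDecidable

section Ker

variable {R : Type u} [CommRing R] {R₀ : Type u} [CommRing R₀] [Algebra R R₀]

theorem one_tmul_eq_zero_of_mem_smul_top {X : Type u} [AddCommGroup X] [Module R X] {x : X}
    (hx : x ∈ (RingHom.ker (algebraMap R R₀)) • (⊤ : Submodule R X)) :
    (1 : R₀) ⊗ₜ[R] x = 0 := by
  induction hx using Submodule.smul_induction_on' with
  | smul r hr a _ =>
    rw [← TensorProduct.smul_tmul, ← Algebra.algebraMap_eq_smul_one, RingHom.mem_ker.mp hr,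
      TensorProduct.zero_tmul]
  | add x y _ _ hx hy => rw [TensorProduct.tmul_add, hx, hy, add_zero]

end Ker

section ChartBij

theorem bialgEquiv_trans_apply {R : Type*} [CommSemiring R] {A B C : Type*} [Semiring A]
    [Semiring B] [Semiring C] [Bialgebra R A] [Bialgebra R B] [Bialgebra R C]
    (e₁ : A ≃ₐc[R] B) (e₂ : B ≃ₐc[R] C) (x : A) : (e₁.trans e₂) x = e₂ (e₁ x) := rfl

variable {R : Type u} [CommRing R] {R₀ : Type u} [CommRing R₀] [Algebra R R₀]
  {A : Type u} [CommRing A] [HopfAlgebra R A] {M : Type u} [CommGroup M]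
  {T : Type u} [CommRing T] [Algebra R T] {N : Type u} [CommGroup N]

theorem bijective_trivHom (e₀ : R₀ ⊗[R] A ≃ₐc[R₀] MonoidAlgebra R₀ M)
    (e : T ⊗[R] A ≃ₐc[T] MonoidAlgebra T N)
    (T₀ : Type u) [CommRing T₀] [Algebra R T₀] [Algebra T T₀] [Algebra R₀ T₀]
    [IsScalarTower R T T₀] [IsScalarTower R R₀ T₀]
    (hkerT : ∀ x : T, algebraMap T T₀ x = 0 → IsNilpotent x)
    (hqT : Function.Surjective (algebraMap T T₀))
    (γ : M →* A) (hγ : ∀ m, IsGroupLikeElem R (γ m))
    (hγχ : ∀ m, (1 : R₀) ⊗ₜ[R] γ m = e₀.symm (MonoidAlgebra.single m 1)) :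
    Function.Bijective (trivHom e (liftBialg γ hγ)) := by
  let B := Groth.Agent.H9.MT.monAlgBC R T M
  let u : MonoidAlgebra T M →ₐc[T] MonoidAlgebra T N :=
    (trivHom e (liftBialg γ hγ)).comp
      (B.symm : MonoidAlgebra T M →ₐc[T] T ⊗[R] MonoidAlgebra R M)
  have hB : ∀ m : M, B.symm (MonoidAlgebra.single m 1) =
      (1 : T) ⊗ₜ[R] MonoidAlgebra.single m (1 : R) := by
    intro m
    have h0 : B ((1 : T) ⊗ₜ[R] MonoidAlgebra.single m (1 : R)) = MonoidAlgebra.single m 1 := by
      show Groth.Agent.H9.MT.monAlgBC R T M _ = _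
      rw [Groth.Agent.H9.MT.monAlgBC_tmul, MonoidAlgebra.mapAlgHom_single, one_smul, map_one]
    rw [← h0, BialgEquiv.symm_apply_apply]
  have hu : ∀ m : M, u (MonoidAlgebra.single m 1) = e ((1 : T) ⊗ₜ[R] γ m) := by
    intro m
    show trivHom e (liftBialg γ hγ) (B.symm (MonoidAlgebra.single m 1)) = _
    rw [hB, trivHom_tmul, liftBialg_single, one_smul]
  let Ψi : MonoidAlgebra T₀ N ≃ₐc[T₀] MonoidAlgebra T₀ M :=
    (bcTriv T₀ e).symm.trans ((Groth.Agent.H9.MT.cancelBC R R₀ T₀ A).symm.trans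
      ((Groth.Agent.H9.MT.bcEquiv T₀ e₀).trans (Groth.Agent.H9.MT.monAlgBC R₀ T₀ M)))
  have hΨ : ∀ m : M, red T₀ (u (MonoidAlgebra.single m 1)) =
      Ψi.symm (MonoidAlgebra.single m 1) := by
    intro m
    have h1 : red T₀ (e ((1 : T) ⊗ₜ[R] γ m)) = bcTriv T₀ e ((1 : T₀) ⊗ₜ[R] γ m) := by
      rw [bcTriv_tmul, one_smul]
    have h0 : Ψi (red T₀ (u (MonoidAlgebra.single m 1))) = MonoidAlgebra.single m 1 := by
      rw [hu, h1, bialgEquiv_trans_apply, bialgEquiv_trans_apply, bialgEquiv_trans_apply]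
      rw [BialgEquiv.symm_apply_apply, Groth.Agent.H9.MT.cancelBC_symm_tmul,
        Groth.Agent.H9.MT.bcEquiv_tmul, hγχ, BialgEquiv.apply_symm_apply,
        Groth.Agent.H9.MT.monAlgBC_tmul, MonoidAlgebra.mapAlgHom_single, one_smul, map_one]
    rw [← h0, BialgEquiv.symm_apply_apply]
  have hbij := bijective_of_red_iso T₀ hkerT hqT u Ψi.symm hΨ
  have h2 : ∀ y, trivHom e (liftBialg γ hγ) y = u (B y) := by
    intro y
    show _ = trivHom e (liftBialg γ hγ) (B.symm (B y))
    rw [BialgEquiv.symm_apply_apply]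
  constructor
  · intro y y' hyy
    rw [h2, h2] at hyy
    exact B.injective (hbij.1 hyy)
  · intro z
    obtain ⟨w, hw⟩ := hbij.2 z
    refine ⟨B.symm w, ?_⟩
    rw [h2, BialgEquiv.apply_symm_apply, hw]

end ChartBij

section Main

variable {R : Type u} [CommRing R]

/-- abstract form: `R₀` a quotient of `R` by a nil ideal -/
theorem isDiag_of_red (R₀ : Type u) [CommRing R₀] [Algebra R R₀]
    (hq : Function.Surjective (algebraMap R R₀))
    (hker : ∀ x : R, algebraMap R R₀ x = 0 → IsNilpotent x)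
    {A : Type u} [CommRing A] [HopfAlgebra R A] (h : HasCharts R A)
    (h0 : IsDiag R₀ (R₀ ⊗[R] A)) : IsDiag R A := by
  classical
  obtain ⟨M, _, ⟨e₀⟩⟩ := h0
  have hI : ∀ x ∈ RingHom.ker (algebraMap R R₀), IsNilpotent x := fun x hx => hker x hx
  have hex : ∀ m : M, ∃ g : A, IsGroupLikeElem R g ∧
      (1 : R₀) ⊗ₜ[R] g = e₀.symm (MonoidAlgebra.single m 1) := by
    intro m
    have hχ : IsGroupLikeElem R₀ (e₀.symm (MonoidAlgebra.single m 1)) :=
      (MonoidAlgebra.isGroupLikeElem_single_one m).map e₀.symm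
    obtain ⟨b, hb⟩ := Groth.Agent.H9.Miln.exists_one_tmul hq (e₀.symm (MonoidAlgebra.single m 1))
    rw [hb] at hχ
    have hb1 : Coalgebra.comul (R := R) b - b ⊗ₜ[R] b ∈
        RingHom.ker (algebraMap R R₀) • (⊤ : Submodule R (A ⊗[R] A)) := by
      apply Groth.Agent.H9.Miln.mem_smul_top_of_tmul_eq_zero hq
      apply (TensorProduct.AlgebraTensorModule.distribBaseChange R R₀ A A).injective
      rw [← defect_one_tmul, hχ.comul_eq_tmul_self, sub_self, map_zero]
    have hb2 : Coalgebra.counit (R := R) b - 1 ∈ RingHom.ker (algebraMap R R₀) := by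
      rw [RingHom.mem_ker, map_sub, map_one, ← counit_one_tmul R₀ b, hχ.counit_eq_one, sub_self]
    obtain ⟨g, hg, hgb⟩ := exists_groupLike_lift _ hI h b hb1 hb2
    refine ⟨g, hg, ?_⟩
    rw [hb, ← sub_eq_zero, ← TensorProduct.tmul_sub]
    exact one_tmul_eq_zero_of_mem_smul_top hgb
  choose g hg hgχ using hex
  have huniq : ∀ a a' : A, IsGroupLikeElem R a → IsGroupLikeElem R a' →
      (1 : R₀) ⊗ₜ[R] a = (1 : R₀) ⊗ₜ[R] a' → a = a' := by
    intro a a' ha ha' haa
    apply groupLike_unique _ hI h ha ha'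
    apply Groth.Agent.H9.Miln.mem_smul_top_of_tmul_eq_zero hq
    rw [TensorProduct.tmul_sub, haa, sub_self]
  let γ : M →* A :=
    { toFun := g
      map_one' := by
        apply huniq _ _ (hg 1) IsGroupLikeElem.one
        rw [hgχ, ← MonoidAlgebra.one_def, map_one, Algebra.TensorProduct.one_def]
      map_mul' := fun m m' => by
        apply huniq _ _ (hg _) ((hg m).mul (hg m'))
        have e1 : (1 : R₀) ⊗ₜ[R] (g m * g m') =
            ((1 : R₀) ⊗ₜ[R] g m) * ((1 : R₀) ⊗ₜ[R] g m') := by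
          rw [Algebra.TensorProduct.tmul_mul_tmul, mul_one]
        rw [e1, hgχ, hgχ, hgχ, ← map_mul, MonoidAlgebra.single_mul_single, mul_one] }
  have hγ : ∀ m, IsGroupLikeElem R (γ m) := hg
  have hγχ : ∀ m, (1 : R₀) ⊗ₜ[R] γ m = e₀.symm (MonoidAlgebra.single m 1) := hgχ
  obtain ⟨s, hs, hloc⟩ := h
  have hchart : ∀ f ∈ s, ∃ (T : Type u) (_ : CommRing T) (_ : Algebra R T), IsCov f T ∧
      ∃ (N : Type u) (_ : CommGroup N) (e : T ⊗[R] A ≃ₐc[T] MonoidAlgebra T N),
        Function.Bijective (trivHom e (liftBialg γ hγ)) := by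
    intro f hf
    obtain ⟨T, _, _, hT, N, _, ⟨e⟩⟩ := hloc f hf
    refine ⟨T, inferInstance, inferInstance, hT, N, inferInstance, e, ?_⟩
    letI : Algebra T (R₀ ⊗[R] T) := Algebra.TensorProduct.rightAlgebra
    haveI : IsScalarTower R T (R₀ ⊗[R] T) := Algebra.TensorProduct.right_isScalarTower
    apply bijective_trivHom e₀ e (R₀ ⊗[R] T) ?_ ?_ γ hγ hγχ
    · intro x hx
      have hx' : (1 : R₀) ⊗ₜ[R] x = 0 := hx
      have := Groth.Agent.H9.Miln.mem_smul_top_of_tmul_eq_zero hq x hx'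
      exact isNilpotent_of_mem_map _ hI (mem_map_of_mem_smul_top _ this)
    · intro z
      obtain ⟨x, hx⟩ := Groth.Agent.H9.Miln.exists_one_tmul hq z
      exact ⟨x, hx.symm⟩
  have hinj : Function.Injective (liftBialg γ hγ) := by
    intro x x' hxx
    rw [← sub_eq_zero]
    refine eq_zero_of_cov_module hs _ fun f hf => ?_
    obtain ⟨T, _, _, hT, N, _, e, hbij⟩ := hchart f hf
    refine ⟨T, inferInstance, inferInstance, hT, ?_⟩
    apply hbij.1
    rw [trivHom_tmul, map_sub, hxx, sub_self, TensorProduct.tmul_zero, map_zero, map_zero]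
  have hsurj : Function.Surjective (liftBialg γ hγ) := by
    intro a
    have hmem : a ∈ LinearMap.range (liftBialg γ hγ : MonoidAlgebra R M →ₗ[R] A) := by
      rw [← Submodule.Quotient.mk_eq_zero]
      refine eq_zero_of_cov_module hs _ fun f hf => ?_
      obtain ⟨T, _, _, hT, N, _, e, hbij⟩ := hchart f hf
      refine ⟨T, inferInstance, inferInstance, hT, ?_⟩
      obtain ⟨y, hy⟩ := hbij.2 (e ((1 : T) ⊗ₜ[R] a))
      rw [trivHom_apply] at hy
      have hy2 : Algebra.TensorProduct.map (AlgHom.id T T)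
          (liftBialg γ hγ : MonoidAlgebra R M →ₐ[R] A) y = (1 : T) ⊗ₜ[R] a :=
        EquivLike.injective e hy
      have hz : ∀ y : T ⊗[R] MonoidAlgebra R M,
          LinearMap.lTensor T (LinearMap.range (liftBialg γ hγ : MonoidAlgebra R M →ₗ[R] A)).mkQ
            (Algebra.TensorProduct.map (AlgHom.id T T)
              (liftBialg γ hγ : MonoidAlgebra R M →ₐ[R] A) y) = 0 := by
        intro y
        induction y using TensorProduct.induction_on with
        | zero => simp
        | add w₁ w₂ h₁ h₂ => rw [map_add, map_add, h₁, h₂, add_zero]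
        | tmul t c =>
          rw [Algebra.TensorProduct.map_tmul, LinearMap.lTensor_tmul]
          have : (LinearMap.range (liftBialg γ hγ : MonoidAlgebra R M →ₗ[R] A)).mkQ
              ((liftBialg γ hγ : MonoidAlgebra R M →ₐ[R] A) c) = 0 := by
            rw [Submodule.mkQ_apply, Submodule.Quotient.mk_eq_zero]
            exact ⟨c, rfl⟩
          rw [this, TensorProduct.tmul_zero]
      have := hz y
      rw [hy2, LinearMap.lTensor_tmul] at this
      exact this
    obtain ⟨c, hc⟩ := hmem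
    exact ⟨c, hc⟩
  exact ⟨M, inferInstance, ⟨(BialgEquiv.ofBijective (liftBialg γ hγ) ⟨hinj, hsurj⟩).symm⟩⟩

/-- **SGA 3 X 2.1 (diagonalisable case)** -/
theorem isDiag_of_isDiag_mod_nil (A : Type u) [CommRing A] [HopfAlgebra R A] (I : Ideal R)
    (hI : ∀ x ∈ I, IsNilpotent x) (h : IsMultType R A)
    (h0 : IsDiag (R ⧸ I) ((R ⧸ I) ⊗[R] A)) : IsDiag R A := by
  refine isDiag_of_red (R ⧸ I) Ideal.Quotient.mk_surjective ?_ (hasCharts_of_isMultType h) h0
  intro x hx
  exact hI x (Ideal.Quotient.eq_zero_iff_mem.mp hx)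

end Main

end Groth.Agent.H9.GLL
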