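import Mathlib
import Groth.Prelude.Def_SGA3b
import Groth.Agent.Lib.Helper9.Misc.GLL4
import Groth.Agent.Lib.Helper7.NilLift

/-!
# Isotriviality of groups of multiplicative type modulo a nil ideal (helper9)
-/

set_option autoImplicit false
set_option linter.unusedSectionVars false
set_option linter.unusedVariables false
set_option linter.style.haveILetI false

namespace Groth.Agent.H9.GLL

open TensorProduct SGA3b Groth.Agent.H9.MultT

universe u

section BaseChange

variable {R : Type u} [CommRing R] {A : Type u} [CommRing A] [HopfAlgebra R A]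

theorem hasCharts_baseChange (S : Type u) [CommRing S] [Algebra R S] (h : HasCharts R A) :
    HasCharts S (S ⊗[R] A) := by
  obtain ⟨s, hs, hloc⟩ := h
  refine ⟨algebraMap R S '' s, ?_, ?_⟩
  · rw [← Ideal.map_span, hs, Ideal.map_top]
  · rintro _ ⟨f, hf, rfl⟩
    obtain ⟨T, _, _, hT, N, _, ⟨e⟩⟩ := hloc f hf
    letI : Algebra T (S ⊗[R] T) := Algebra.TensorProduct.rightAlgebra
    refine ⟨S ⊗[R] T, inferInstance, inferInstance, ⟨?_, ?_⟩, N, inferInstance,
      ⟨(Groth.Agent.H9.MT.cancelBC R S (S ⊗[R] T) A).trans (bcTriv (S ⊗[R] T) e)⟩⟩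
    · have e1 : algebraMap S (S ⊗[R] T) (algebraMap R S f) =
          (Algebra.TensorProduct.includeRight : T →ₐ[R] S ⊗[R] T) (algebraMap R T f) := by
        rw [AlgHom.commutes, ← IsScalarTower.algebraMap_apply]
      rw [e1]
      exact hT.1.map _
    · intro Q _ _ q hq
      letI : Module R Q := Module.compHom Q (algebraMap R S)
      haveI : IsScalarTower R S Q := ⟨fun r s q => by
        show (r • s) • q = algebraMap R S r • (s • q)
        rw [Algebra.smul_def, mul_smul]⟩
      have h1 : (1 : T) ⊗ₜ[R] q = 0 := by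
        have h2 := congrArg (TensorProduct.comm S (S ⊗[R] T) Q) hq
        rw [TensorProduct.comm_tmul, map_zero] at h2
        have h3 := congrArg (TensorProduct.AlgebraTensorModule.cancelBaseChange R S S Q T) h2
        rw [Algebra.TensorProduct.one_def,
          TensorProduct.AlgebraTensorModule.cancelBaseChange_tmul, one_smul, map_zero] at h3
        have h4 := congrArg (TensorProduct.comm R Q T) h3
        rwa [TensorProduct.comm_tmul, map_zero] at h4
      obtain ⟨k, hk⟩ := hT.2 Q q h1
      refine ⟨k, ?_⟩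
      rw [← map_pow]
      exact hk

/-- lifting diagonalisability from a nil quotient `E` of an `A'`-algebra `S` -/
theorem isDiag_lift (S : Type u) [CommRing S] [Algebra R S] (E : Type u) [CommRing E]
    [Algebra S E] [Algebra R E] [IsScalarTower R S E]
    (hq : Function.Surjective (algebraMap S E))
    (hker : ∀ x : S, algebraMap S E x = 0 → IsNilpotent x)
    (h : HasCharts R A) (hD : IsDiag E (E ⊗[R] A)) : IsDiag S (S ⊗[R] A) := by
  obtain ⟨M, _, ⟨e⟩⟩ := hD
  exact isDiag_of_red E hq hker (hasCharts_baseChange S h)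
    ⟨M, inferInstance, ⟨(Groth.Agent.H9.MT.cancelBC R S E A).trans e⟩⟩

end BaseChange

section Lift

theorem exists_lift_package {L L₀ : Type u} [CommRing L] [CommRing L₀] (π : L →+* L₀)
    (hπ : Function.Surjective π) (hN : RingHom.ker π ≤ nilradical L)
    (E : Type u) [CommRing E] [Algebra L₀ E] [Algebra.Etale L₀ E]
    [Module.FaithfullyFlat L₀ E] :
    ∃ (S : Type u) (_ : CommRing S) (_ : Algebra L S), Algebra.Etale L S ∧
      Module.FaithfullyFlat L S ∧
      ∃ πS : S →+* E, Function.Surjective πS ∧ (∀ x, πS x = 0 → IsNilpotent x) ∧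
        (∀ a, πS (algebraMap L S a) = algebraMap L₀ E (π a)) ∧
        (Module.Finite L₀ E → Module.Finite L S) := by
  obtain ⟨S, _, _, hEt, πS, hsurj, hkerS, hcompat⟩ :=
    Groth.Agent.H7.NilLift.exists_etale_lift_nil π hπ hN E
  have hnil : ∀ x, πS x = 0 → IsNilpotent x := by
    intro x hx
    have h1 : x ∈ Ideal.map (algebraMap L S) (RingHom.ker π) := by
      rw [← hkerS]
      exact hx
    exact mem_nilradical.mp (Groth.Agent.H7.NilLift.map_le_nilradical _ _ hN h1)
  have hcomp : πS.comp (algebraMap L S) = (algebraMap L₀ E).comp π := RingHom.ext hcompat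
  refine ⟨S, inferInstance, inferInstance, hEt, ?_, πS, hsurj, hnil, hcompat, ?_⟩
  · haveI : Module.Flat L S := inferInstance
    refine ⟨fun m hm htop => ?_⟩
    have h1 : (1 : S) ∈ Ideal.map (algebraMap L S) m := by
      apply mem_map_of_mem_smul_top m
      rw [htop]
      exact Submodule.mem_top
    have h2 : (1 : E) ∈ Ideal.map (algebraMap L₀ E) (Ideal.map π m) := by
      rw [Ideal.map_map, ← hcomp, ← Ideal.map_map, ← map_one πS]
      exact Ideal.mem_map_of_mem _ h1
    have h3 : Ideal.map π m = ⊤ := by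
      rw [← Ideal.comap_map_eq_self_of_faithfullyFlat (B := E) (Ideal.map π m),
        (Ideal.eq_top_iff_one _).mpr h2, Ideal.comap_top]
    have h4 : (1 : L₀) ∈ Ideal.map π m := by
      rw [h3]
      exact Submodule.mem_top
    obtain ⟨x, hxm, hx1⟩ := (Ideal.mem_map_iff_of_surjective π hπ).mp h4
    have h5 : x - 1 ∈ RingHom.ker π := by
      rw [RingHom.mem_ker, map_sub, hx1, map_one, sub_self]
    have h6 : x - 1 ∈ m := by
      haveI := hm.isPrime
      exact nilradical_le_prime m (hN h5)
    have h7 : (1 : L) ∈ m := by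
      have := m.sub_mem hxm h6
      rwa [sub_sub_cancel] at this
    exact hm.ne_top ((Ideal.eq_top_iff_one _).mpr h7)
  · intro hfin
    have hint : ∀ x : S, IsIntegral L x := by
      intro x
      have h0 : IsIntegral L₀ (πS x) := Algebra.IsIntegral.isIntegral _
      obtain ⟨p₀, hp₀m, hp₀⟩ := h0
      have hl : p₀ ∈ Polynomial.lifts π := by
        rw [Polynomial.mem_lifts]
        exact Polynomial.map_surjective π hπ p₀
      obtain ⟨p, hp, -, hpm⟩ := Polynomial.lifts_and_natDegree_eq_and_monic hl hp₀m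
      have h1 : πS (Polynomial.eval₂ (algebraMap L S) x p) = 0 := by
        rw [Polynomial.hom_eval₂, hcomp, ← Polynomial.eval₂_map, hp]
        exact hp₀
      obtain ⟨n, hn⟩ := hnil _ h1
      exact ⟨p ^ n, hpm.pow n, by rw [Polynomial.eval₂_pow, hn]⟩
    haveI : Algebra.FiniteType L S := inferInstance
    obtain ⟨t, ht⟩ := (Algebra.FiniteType.out : (⊤ : Subalgebra L S).FG)
    have h2 := fg_adjoin_of_finite (R := L) t.finite_toSet (fun x _ => hint x)
    rw [ht, Algebra.top_toSubmodule] at h2
    exact ⟨h2⟩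

end Lift

section Away

variable {R : Type u} [CommRing R] (I : Ideal R) (hI : ∀ x ∈ I, IsNilpotent x)

include hI in
theorem awayMap_mk_ker_le (f : R) :
    RingHom.ker (Localization.awayMap (Ideal.Quotient.mk I) f) ≤
      nilradical (Localization.Away f) := by
  intro x hx
  rw [RingHom.mem_ker] at hx
  obtain ⟨⟨a, ⟨_, n, rfl⟩⟩, hax⟩ := IsLocalization.surj (Submonoid.powers f) x
  have hax' : x * algebraMap R (Localization.Away f) (f ^ n) =
      algebraMap R (Localization.Away f) a := hax
  have h1 : Localization.awayMap (Ideal.Quotient.mk I) f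
      (algebraMap R (Localization.Away f) a) = 0 := by
    rw [← hax', map_mul, hx, zero_mul]
  have h2 : Localization.awayMap (Ideal.Quotient.mk I) f
      (algebraMap R (Localization.Away f) a) =
      algebraMap (R ⧸ I) (Localization.Away (Ideal.Quotient.mk I f)) (Ideal.Quotient.mk I a) :=
    IsLocalization.map_eq _ a
  rw [h2] at h1
  obtain ⟨⟨_, k, rfl⟩, hk⟩ := (IsLocalization.map_eq_zero_iff
    (Submonoid.powers (Ideal.Quotient.mk I f)) (Localization.Away (Ideal.Quotient.mk I f)) _).mp h1
  have hk' : (Ideal.Quotient.mk I f) ^ k * Ideal.Quotient.mk I a = 0 := hk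
  have h3 : f ^ k * a ∈ I := by
    rw [← Ideal.Quotient.eq_zero_iff_mem, map_mul, map_pow]
    exact hk'
  obtain ⟨N, hN'⟩ := hI _ h3
  have hu : IsUnit (algebraMap R (Localization.Away f) f) :=
    IsLocalization.Away.algebraMap_isUnit f
  have h4 : algebraMap R (Localization.Away f) a ^ N = 0 := by
    have h5 : (algebraMap R (Localization.Away f) f ^ k) ^ N *
        algebraMap R (Localization.Away f) a ^ N = 0 := by
      rw [← mul_pow, ← map_pow, ← map_mul, ← map_pow, hN', map_zero]
    exact ((hu.pow k).pow N).mul_right_eq_zero.mp h5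
  have hu' : IsUnit (algebraMap R (Localization.Away f) (f ^ n)) := by
    rw [map_pow]
    exact hu.pow n
  rw [mem_nilradical]
  refine ⟨N, ?_⟩
  have h6 : x ^ N * algebraMap R (Localization.Away f) (f ^ n) ^ N = 0 := by
    rw [← mul_pow, hax', h4]
  exact (hu'.pow N).mul_left_eq_zero.mp h6

theorem awayMap_mk_surjective (f : R) :
    Function.Surjective (Localization.awayMap (Ideal.Quotient.mk I) f) := by
  rw [Localization.awayMap_surjective_iff]
  intro a
  obtain ⟨b, rfl⟩ := Ideal.Quotient.mk_surjective a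
  exact ⟨b, 0, by rw [pow_zero, one_mul]⟩

end Away

section Main

variable {R : Type u} [CommRing R] (A : Type u) [CommRing A] [HopfAlgebra R A] (I : Ideal R)
  (hI : ∀ x ∈ I, IsNilpotent x)

include hI in
theorem isIsotrivial_of_mod_nil (h : IsMultType R A)
    (h0 : IsIsotrivial (R ⧸ I) ((R ⧸ I) ⊗[R] A)) : IsIsotrivial R A := by
  obtain ⟨E, _, _, hEt, hFin, hFF, M, _, ⟨e'⟩⟩ := h0
  have hN : RingHom.ker (Ideal.Quotient.mk I) ≤ nilradical R := by
    rw [Ideal.mk_ker]
    intro x hx
    exact mem_nilradical.mpr (hI x hx)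
  obtain ⟨S, _, _, hSEt, hSFF, πS, hπS, hnilS, hcompat, hfin⟩ :=
    exists_lift_package (Ideal.Quotient.mk I) Ideal.Quotient.mk_surjective hN E
  refine ⟨S, inferInstance, inferInstance, hSEt, hfin hFin, hSFF, ?_⟩
  letI : Algebra S E := πS.toAlgebra
  letI : Algebra R E := Algebra.compHom E (algebraMap R (R ⧸ I))
  haveI : IsScalarTower R (R ⧸ I) E := IsScalarTower.of_algebraMap_eq fun _ => rfl
  haveI : IsScalarTower R S E := IsScalarTower.of_algebraMap_eq fun r => (hcompat r).symm
  have hDE : IsDiag E (E ⊗[R] A) :=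
    ⟨M, inferInstance, ⟨(Groth.Agent.H9.MT.cancelBC R (R ⧸ I) E A).symm.trans e'⟩⟩
  exact isDiag_lift S E hπS hnilS (hasCharts_of_isMultType h) hDE

include hI in
theorem isQuasiIsotrivial_of_mod_nil (h : IsMultType R A)
    (h0 : IsQuasiIsotrivial (R ⧸ I) ((R ⧸ I) ⊗[R] A)) : IsQuasiIsotrivial R A := by
  obtain ⟨s₀, hs₀, hloc⟩ := h0
  refine ⟨{f | Ideal.Quotient.mk I f ∈ s₀}, ?_, ?_⟩
  · have h1 : Ideal.map (Ideal.Quotient.mk I)
        (Ideal.span {f | Ideal.Quotient.mk I f ∈ s₀}) = ⊤ := by
      rw [Ideal.map_span, ← hs₀]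
      congr 1
      ext y
      constructor
      · rintro ⟨f, hf, rfl⟩
        exact hf
      · intro hy
        obtain ⟨f, rfl⟩ := Ideal.Quotient.mk_surjective y
        exact ⟨f, hy, rfl⟩
    have h2 : (1 : R ⧸ I) ∈ Ideal.map (Ideal.Quotient.mk I)
        (Ideal.span {f | Ideal.Quotient.mk I f ∈ s₀}) := by
      rw [h1]
      exact Submodule.mem_top
    obtain ⟨a, ha, ha1⟩ :=
      (Ideal.mem_map_iff_of_surjective _ Ideal.Quotient.mk_surjective).mp h2
    have h3 : a - 1 ∈ I := by
      rw [← Ideal.Quotient.eq, ha1, map_one]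
    have h4 : IsUnit a := by
      have := (hI _ h3).isUnit_add_one
      rwa [sub_add_cancel] at this
    exact Ideal.eq_top_of_isUnit_mem _ ha h4
  · intro f hf
    obtain ⟨E, _, _, hEt, hFF, hD⟩ := hloc (Ideal.Quotient.mk I f) hf
    obtain ⟨S, _, _, hSEt, hSFF, πS, hπS, hnilS, hcompat, -⟩ :=
      exists_lift_package (Localization.awayMap (Ideal.Quotient.mk I) f)
        (awayMap_mk_surjective I f) (awayMap_mk_ker_le I hI f) E
    refine ⟨S, inferInstance, inferInstance, hSEt, hSFF, ?_⟩
    letI algSE : Algebra S E := πS.toAlgebra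
    letI algRS : Algebra R S := Algebra.compHom S (algebraMap R (Localization.Away f))
    haveI : IsScalarTower R (Localization.Away f) S := IsScalarTower.of_algebraMap_eq fun _ => rfl
    letI algR₀E : Algebra (R ⧸ I) E :=
      Algebra.compHom E (algebraMap (R ⧸ I) (Localization.Away (Ideal.Quotient.mk I f)))
    haveI : IsScalarTower (R ⧸ I) (Localization.Away (Ideal.Quotient.mk I f)) E :=
      IsScalarTower.of_algebraMap_eq fun _ => rfl
    letI algRE : Algebra R E := Algebra.compHom E (algebraMap R (R ⧸ I))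
    haveI : IsScalarTower R (R ⧸ I) E := IsScalarTower.of_algebraMap_eq fun _ => rfl
    haveI : IsScalarTower R S E := IsScalarTower.of_algebraMap_eq fun r => by
      show algebraMap (Localization.Away (Ideal.Quotient.mk I f)) E
          (algebraMap (R ⧸ I) (Localization.Away (Ideal.Quotient.mk I f))
            (Ideal.Quotient.mk I r)) =
        πS (algebraMap (Localization.Away f) S (algebraMap R (Localization.Away f) r))
      rw [hcompat]
      congr 1
      exact (IsLocalization.map_eq _ r).symm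
    obtain ⟨M, _, ⟨e'⟩⟩ := hD
    have hDE : IsDiag E (E ⊗[R] A) :=
      ⟨M, inferInstance, ⟨(Groth.Agent.H9.MT.cancelBC R (R ⧸ I) E A).symm.trans
        ((Groth.Agent.H9.MT.cancelBC (R ⧸ I) (Localization.Away (Ideal.Quotient.mk I f)) E
          ((R ⧸ I) ⊗[R] A)).symm.trans e')⟩⟩
    obtain ⟨M', _, ⟨e''⟩⟩ := isDiag_lift S E hπS hnilS (hasCharts_of_isMultType h) hDE
    exact ⟨M', inferInstance,
      ⟨(Groth.Agent.H9.MT.cancelBC R (Localization.Away f) S A).trans e''⟩⟩

end Main

end Groth.Agent.H9.GLL
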