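import Mathlib
import Groth.Prelude.Def_Red2
import Groth.Agent.H4.GaGm
import Groth.Agent.Lib.Helper9.Misc.GAQ1
import Groth.Agent.Lib.Helper9.Misc.GAQ2
import Groth.Agent.Lib.Helper9.Misc.GAQ3
import Groth.Agent.Lib.Helper9.Misc.GAQ5
import Groth.Agent.Lib.Helper9.Misc.GAQ6

/-! Helper9: a group law on the affine line over a field is determined by its unit section (S15602). -/

set_option linter.style.haveILetI false
set_option linter.unusedSectionVars false

namespace Groth.Agent.H9.GLU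

universe u

open Polynomial

variable {K : Type u} [Field K]

theorem algebraMap_eq_CC :
    algebraMap K K[X][X] = (C : K[X] →+* K[X][X]).comp (C : K →+* K[X]) := by
  ext k : 1
  simp [Polynomial.algebraMap_apply]

theorem eval₂_algebraMap_C_X (p : K[X]) :
    p.eval₂ (algebraMap K K[X][X]) (C X) = C p := by
  rw [algebraMap_eq_CC, ← Polynomial.hom_eval₂, eval₂_C_X]

theorem eval₂RingHom_eq_C_comp (p : K[X]) :
    eval₂RingHom (algebraMap K K[X][X]) (C p) = (C : K[X] →+* K[X][X]).comp (compRingHom p) := by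
  apply Polynomial.ringHom_ext
  · intro k
    simp [algebraMap_eq_CC]
  · simp

theorem eval₂RingHom_X : eval₂RingHom (algebraMap K K[X]) X = RingHom.id K[X] := by
  apply Polynomial.ringHom_ext
  · intro k
    simp
  · simp

theorem eval₂RingHom_C (c : K) :
    eval₂RingHom (algebraMap K K[X]) (C c) = (C : K →+* K[X]).comp (evalRingHom c) := by
  apply Polynomial.ringHom_ext
  · intro k
    simp
  · simp

theorem eval₂_CX_X (m : K[X][X]) :
    m.eval₂ (eval₂RingHom (algebraMap K K[X][X]) (C X)) X = m := by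
  have : eval₂RingHom (algebraMap K K[X][X]) (C X) = C := by
    apply Polynomial.ringHom_ext
    · intro k
      simp [algebraMap_eq_CC]
    · simp
  rw [this, eval₂_C_X]

/-- the group law polynomial of a group structure on the affine line -/
theorem poly_law (m : K[X][X]) (c : K) (i : K[X])
    (hL : m.eval₂ (eval₂RingHom (algebraMap K K[X][X]) (i.eval₂ (algebraMap K K[X][X]) (C X))) m = X)
    (hU1 : m.eval₂ (eval₂RingHom (algebraMap K K[X]) X) (C c) = X)
    (hU2 : m.eval₂ (eval₂RingHom (algebraMap K K[X]) (C c)) X = X) :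
    m = X + C (X - C c) := by
  rw [eval₂_algebraMap_C_X, eval₂RingHom_eq_C_comp, ← Polynomial.eval₂_map] at hL
  have hL' : (m.map (compRingHom i)).comp m = X := hL
  have hdeg := congrArg natDegree hL'
  rw [natDegree_comp, natDegree_X] at hdeg
  have hd1 : m.natDegree = 1 := Nat.eq_one_of_mul_eq_one_left hdeg
  have hd2 : (m.map (compRingHom i)).natDegree = 1 := Nat.eq_one_of_mul_eq_one_right hdeg
  have hlc := congrArg leadingCoeff hL'
  rw [leadingCoeff_comp (by rw [hd1]; exact one_ne_zero), hd2, pow_one, leadingCoeff_X] at hlc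
  have hunit : IsUnit m.leadingCoeff := IsUnit.of_mul_eq_one _ ((mul_comm _ _).trans hlc)
  obtain ⟨a0, ha0, ha⟩ := Polynomial.isUnit_iff.mp hunit
  have hm : m = C (C a0) * X + C (m.coeff 0) := by
    have h := eq_X_add_C_of_natDegree_le_one (p := m) hd1.le
    have h1 : m.coeff 1 = C a0 := by
      rw [ha, leadingCoeff, hd1]
    rw [h1] at h
    exact h
  -- U2
  rw [eval₂RingHom_C] at hU2
  rw [hm] at hU2
  simp only [eval₂_add, eval₂_mul, eval₂_C, eval₂_X, RingHom.comp_apply, coe_evalRingHom,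
    eval_C] at hU2
  have h1 := congrArg (fun p => p.coeff 1) hU2
  simp only [coeff_add, coeff_C_mul, coeff_X_one, coeff_C_succ, _root_.mul_one, add_zero] at h1
  have h0 := congrArg (fun p => p.coeff 0) hU2
  simp only [coeff_add, coeff_C_mul, coeff_X_zero, coeff_C_zero, mul_zero, zero_add] at h0
  -- U1
  rw [eval₂RingHom_X] at hU1
  rw [hm, h1] at hU1
  simp only [eval₂_add, eval₂_mul, eval₂_C, eval₂_X, RingHom.id_apply, map_one, _root_.one_mul] at hU1
  have hb : m.coeff 0 = X - C c := eq_sub_of_add_eq' hU1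
  rw [hm, h1, hb]
  simp

section geometry

open CategoryTheory MonoidalCategory CartesianMonoidalCategory MonObj GrpObj AlgebraicGeometry Limits
open Groth.Agent.H4.GaGm Groth.Agent.H9.GAQ

variable {G : Over (Spec (CommRingCat.of K))} (ε : G ≅ Red.Ga (Spec (CommRingCat.of K)))
variable {Z Z' : Over (Spec (CommRingCat.of K))}

/-- coordinate of a point -/
noncomputable def fn (x : Z ⟶ G) : Γ(Z.left, ⊤) := Red.gaFn (x ≫ ε.hom)

/-- point with given coordinate -/
noncomputable def pt (a : Γ(Z.left, ⊤)) : Z ⟶ G := gaPt a ≫ ε.inv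

theorem fn_pt (a : Γ(Z.left, ⊤)) : fn ε (pt ε a) = a := by
  unfold fn pt
  rw [Category.assoc, Iso.inv_hom_id, Category.comp_id, gaFn_gaPt]

theorem fn_injective : Function.Injective (fn ε (Z := Z)) := by
  intro x y h
  have := gaFn_injective h
  exact (cancel_mono ε.hom).mp this

theorem fn_comp (π : Z' ⟶ Z) (x : Z ⟶ G) : fn ε (π ≫ x) = π.left.appTop.hom (fn ε x) := by
  unfold fn
  rw [Category.assoc, gaFn_comp]

theorem fn_comp_of_sec {R : Type u} [CommRing R] [Algebra K R] (w : AB (K := K) R ⟶ G) (r : R)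
    (hw : fn ε w = sec R r) (g : Z ⟶ AB (K := K) R) : fn ε (g ≫ w) = co g r := by
  rw [fn_comp, hw]
  rfl

/-- inverse of `sec` -/
noncomputable def unsec (R : Type u) [CommRing R] [Algebra K R]
    (a : Γ((AB (K := K) R).left, ⊤)) : R :=
  (Scheme.ΓSpecIso (CommRingCat.of R)).hom.hom a

theorem sec_unsec (R : Type u) [CommRing R] [Algebra K R] (a : Γ((AB (K := K) R).left, ⊤)) :
    sec R (unsec R a) = a := by
  unfold sec unsec
  have := congrArg (fun f => f.hom a) (Scheme.ΓSpecIso (CommRingCat.of R)).hom_inv_id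
  simpa using this

/-- two-variable evaluation -/
noncomputable def ev2 (a b : Γ(Z.left, ⊤)) : K[X][X] →+* Γ(Z.left, ⊤) := eval₂RingHom (evA a) b

theorem ev2_algebraMap (a b : Γ(Z.left, ⊤)) : (ev2 a b).comp (algebraMap K K[X][X]) = ρ Z := by
  ext k : 1
  simp [ev2, algebraMap_eq_CC]

theorem ev2_sec {R : Type u} [CommRing R] [Algebra K R] (a b : R) (m : K[X][X]) :
    ev2 (sec (K := K) R a) (sec R b) m =
      sec R (m.eval₂ (eval₂RingHom (algebraMap K R) a) b) := by
  have h : (evA (sec (K := K) R a)) =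
      ((Scheme.ΓSpecIso (CommRingCat.of R)).inv.hom).comp (eval₂RingHom (algebraMap K R) a) := by
    exact RingHom.ext (fun f => evA_sec R a f)
  unfold ev2
  rw [h]
  change _ = (Scheme.ΓSpecIso (CommRingCat.of R)).inv.hom _
  rw [Polynomial.hom_eval₂]
  rfl

variable [GrpObj G]

/-- universal points -/
noncomputable def P2 : AB (K := K) K[X][X] ⟶ G := pt ε (sec _ (C X))
noncomputable def Q2 : AB (K := K) K[X][X] ⟶ G := pt ε (sec _ X)
noncomputable def P1 : AB (K := K) K[X] ⟶ G := pt ε (sec _ X)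

/-- the group law polynomial -/
noncomputable def mPoly : K[X][X] := unsec _ (fn ε (P2 ε * Q2 ε))
/-- the coordinate of the unit -/
noncomputable def cElt : K := unsec K (fn ε (1 : AB (K := K) K ⟶ G))
/-- the inverse polynomial -/
noncomputable def iPoly : K[X] := unsec _ (fn ε (P1 ε)⁻¹)

theorem fn_mul (x y : Z ⟶ G) : fn ε (x * y) = ev2 (fn ε x) (fn ε y) (mPoly ε) := by
  set g : Z ⟶ AB (K := K) K[X][X] := ptB (ev2 (fn ε x) (fn ε y)) (ev2_algebraMap _ _) with hg
  have hcg : co g = ev2 (fn ε x) (fn ε y) := co_ptB _ _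
  have h1 : g ≫ P2 ε = x := by
    apply fn_injective ε
    rw [fn_comp_of_sec ε (P2 ε) (C X) (fn_pt _ _) g, hcg]
    simp [ev2]
  have h2 : g ≫ Q2 ε = y := by
    apply fn_injective ε
    rw [fn_comp_of_sec ε (Q2 ε) X (fn_pt _ _) g, hcg]
    simp [ev2]
  calc fn ε (x * y) = fn ε (g ≫ P2 ε * g ≫ Q2 ε) := by rw [h1, h2]
    _ = fn ε (g ≫ (P2 ε * Q2 ε)) := by rw [MonObj.comp_mul]
    _ = co g (mPoly ε) := fn_comp_of_sec ε _ _ (sec_unsec _ _).symm g
    _ = _ := by rw [hcg]

theorem fn_one : fn ε (1 : Z ⟶ G) = ρ Z (cElt ε) := by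
  have hρ : (ρ Z).comp (algebraMap K K) = ρ Z := by
    ext k : 1
    simp
  set g : Z ⟶ AB (K := K) K := ptB (ρ Z) hρ with hg
  have hcg : co g = ρ Z := co_ptB _ _
  calc fn ε (1 : Z ⟶ G) = fn ε (g ≫ (1 : AB (K := K) K ⟶ G)) := by rw [MonObj.comp_one]
    _ = co g (cElt ε) := fn_comp_of_sec ε _ _ (sec_unsec _ _).symm g
    _ = _ := by rw [hcg]

theorem fn_inv (x : Z ⟶ G) : fn ε (x⁻¹) = evA (fn ε x) (iPoly ε) := by
  set g : Z ⟶ AB (K := K) K[X] := ptB (evA (fn ε x)) (evA_algebraMap _) with hg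
  have hcg : co g = evA (fn ε x) := co_ptB _ _
  have h1 : g ≫ P1 ε = x := by
    apply fn_injective ε
    rw [fn_comp_of_sec ε (P1 ε) X (fn_pt _ _) g, hcg]
    simp
  calc fn ε (x⁻¹) = fn ε ((g ≫ P1 ε)⁻¹) := by rw [h1]
    _ = fn ε (g ≫ (P1 ε)⁻¹) := by rw [GrpObj.comp_inv]
    _ = co g (iPoly ε) := fn_comp_of_sec ε _ _ (sec_unsec _ _).symm g
    _ = _ := by rw [hcg]

theorem mPoly_eq : mPoly ε = X + C (X - C (cElt ε)) := by
  apply poly_law (mPoly ε) (cElt ε) (iPoly ε)
  · -- left inverse law on `AB K[X][X]`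
    have h := congrArg (fn ε) (inv_mul_cancel_left (P2 ε) (Q2 ε))
    rw [fn_mul, fn_mul, fn_inv] at h
    have hP : fn ε (P2 ε) = sec K[X][X] (C X) := fn_pt _ _
    have hQ : fn ε (Q2 ε) = sec K[X][X] X := fn_pt _ _
    rw [hP, hQ, evA_sec, ev2_sec, ev2_sec] at h
    have h' := sec_injective _ h
    rw [eval₂_CX_X] at h'
    exact h'
  · have h := congrArg (fn ε) (_root_.mul_one (P1 ε))
    rw [fn_mul, fn_one] at h
    have hP : fn ε (P1 ε) = sec K[X] X := fn_pt _ _
    have hc : ρ (AB (K := K) K[X]) (cElt ε) = sec K[X] (C (cElt ε)) := by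
      rw [ρ_AB]
      rfl
    rw [hP, hc, ev2_sec] at h
    exact sec_injective _ h
  · have h := congrArg (fn ε) (_root_.one_mul (P1 ε))
    rw [fn_mul, fn_one] at h
    have hP : fn ε (P1 ε) = sec K[X] X := fn_pt _ _
    have hc : ρ (AB (K := K) K[X]) (cElt ε) = sec K[X] (C (cElt ε)) := by
      rw [ρ_AB]
      rfl
    rw [hP, hc, ev2_sec] at h
    exact sec_injective _ h

/-- the group law on the affine line is determined by its unit -/
theorem fn_mul_eq (x y : Z ⟶ G) :
    fn ε (x * y) = fn ε y + (fn ε x - fn ε (1 : Z ⟶ G)) := by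
  rw [fn_mul, mPoly_eq, fn_one]
  simp [ev2]

end geometry

section final

open CategoryTheory MonoidalCategory CartesianMonoidalCategory MonObj GrpObj AlgebraicGeometry Limits
open Groth.Agent.H4.GaGm Groth.Agent.H9.GAQ

theorem mul_eq_of_one_eq {G : Over (Spec (CommRingCat.of K))}
    (ε : G ≅ Red.Ga (Spec (CommRingCat.of K))) (h₁ h₂ : GrpObj G) (e : h₁.one = h₂.one) :
    h₁.mul = h₂.mul := by
  have key : ∀ h : GrpObj G, fn ε h.mul =
      fn ε (snd G G) + (fn ε (fst G G) - fn ε (toUnit (G ⊗ G) ≫ h.one)) := by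
    intro h
    letI := h
    have := fn_mul_eq ε (fst G G) (snd G G)
    rwa [Hom.mul_def, lift_fst_snd, Category.id_comp, Hom.one_def] at this
  apply fn_injective ε
  rw [key h₁, key h₂, e]

theorem S15602_main (k : Type u) [Field k]
    (h₁ h₂ : GrpObj (Red.Ga (Spec (CommRingCat.of k)))) (e : h₁.one = h₂.one) : h₁.mul = h₂.mul :=
  mul_eq_of_one_eq (Iso.refl _) h₁ h₂ e

end final

end Groth.Agent.H9.GLU
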