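import Mathlib
import Groth.Agent.Lib.Helper9.Misc.GAQ8

/-! Helper9: units of Laurent polynomial rings over a domain; the group-law Laurent polynomial on the punctured line (for S15603). -/

set_option linter.style.haveILetI false
set_option linter.unusedSectionVars false

namespace Groth.Agent.H9.GLU

universe u

open LaurentPolynomial
open scoped Polynomial

section general

variable {A : Type*} [CommRing A]

theorem ringHom_ext_laurent' {R : Type*} [Semiring R] (φ ψ : A[T;T⁻¹] →+* R)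
    (hC : ∀ c, φ (C c) = ψ (C c)) (hT : φ (T 1) = ψ (T 1)) : φ = ψ := by
  apply IsLocalization.ringHom_ext (Submonoid.powers (Polynomial.X : Polynomial A))
  apply Polynomial.ringHom_ext
  · intro c
    simp only [RingHom.comp_apply, algebraMap_eq_toLaurent, Polynomial.toLaurent_C, hC]
  · simp only [RingHom.comp_apply, algebraMap_eq_toLaurent, Polynomial.toLaurent_X, hT]

variable (A) in
/-- the unit `T` -/
noncomputable def tU : A[T;T⁻¹]ˣ :=
  ⟨T 1, T (-1), by rw [← T_add]; simp, by rw [← T_add]; simp⟩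

@[simp] theorem tU_val : ((tU A : A[T;T⁻¹]ˣ) : A[T;T⁻¹]) = T 1 := rfl

theorem tU_zpow (b : ℤ) : (((tU A) ^ b : A[T;T⁻¹]ˣ) : A[T;T⁻¹]) = T b := by
  induction b using Int.induction_on with
  | zero => simp
  | succ n ih =>
    rw [zpow_add_one, Units.val_mul, ih, tU_val, ← T_add]
  | pred n ih =>
    rw [zpow_sub_one, Units.val_mul, ih]
    change T (-n : ℤ) * T (-1) = _
    rw [← T_add]
    rfl

theorem laurent_unit [IsDomain A] (m : A[T;T⁻¹]) (hm : IsUnit m) :
    ∃ (a : A) (b : ℤ), IsUnit a ∧ m = C a * T b := by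
  obtain ⟨v, hv⟩ := hm.exists_right_inv
  obtain ⟨n, f, hf⟩ := exists_T_pow m
  obtain ⟨n', g, hg⟩ := exists_T_pow v
  have h1 : Polynomial.toLaurent (f * g) = Polynomial.toLaurent (Polynomial.X ^ (n + n')) := by
    rw [map_mul, hf, hg, Polynomial.toLaurent_X_pow]
    calc m * T n * (v * T n') = (m * v) * (T n * T n') := by ring
      _ = T ((n + n' : ℕ) : ℤ) := by rw [hv, _root_.one_mul, ← T_add]; norm_cast
  have h2 : f * g = Polynomial.X ^ (n + n') := Polynomial.toLaurent_injective h1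
  have h3 : f ∣ Polynomial.X ^ (n + n') := ⟨g, h2.symm⟩
  obtain ⟨j, -, hj⟩ := (dvd_prime_pow Polynomial.prime_X _).mp h3
  obtain ⟨w, hw⟩ := hj
  obtain ⟨r, hr, hrw⟩ := Polynomial.isUnit_iff.mp w.isUnit
  obtain ⟨s, hs⟩ := hr.exists_right_inv
  have hf' : f = Polynomial.X ^ j * Polynomial.C s := by
    have : f * (Polynomial.C r * Polynomial.C s) = Polynomial.X ^ j * Polynomial.C s := by
      rw [← _root_.mul_assoc, hrw, hw]
    rwa [← Polynomial.C_mul, hs, Polynomial.C_1, _root_.mul_one] at this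
  refine ⟨s, j - n, IsUnit.of_mul_eq_one r ((mul_comm _ _).trans hs), ?_⟩
  have h4 : m * T n = C s * T j := by
    rw [← hf, hf', map_mul, Polynomial.toLaurent_X_pow, Polynomial.toLaurent_C, mul_comm]
  calc m = (m * T n) * T (-n) := by rw [_root_.mul_assoc, ← T_add]; simp
    _ = C s * T (j - n) := by rw [h4, _root_.mul_assoc, ← T_add]; rfl

end general

section law

variable {K : Type u} [Field K]

theorem algebraMap_eq_CC' (k : K) : algebraMap K (K[T;T⁻¹][T;T⁻¹]) k = C (C k) := rfl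

theorem eval₂_tU : LaurentPolynomial.eval₂ (algebraMap K K[T;T⁻¹]) (tU K) = RingHom.id _ := by
  apply ringHom_ext_laurent'
  · intro c
    rw [eval₂_C, ← C_eq_algebraMap]
    rfl
  · rw [eval₂_T]
    simp

theorem unitsMap_zpow (e : Kˣ) (b : ℤ) :
    (((Units.map (C : K →+* K[T;T⁻¹]).toMonoidHom e) ^ b : K[T;T⁻¹]ˣ) : K[T;T⁻¹]) =
      C ((e ^ b : Kˣ) : K) := by
  rw [← map_zpow]
  rfl

/-- the group law Laurent polynomial of a group structure on the punctured line -/
theorem laurent_law (m : K[T;T⁻¹][T;T⁻¹]) (hm : IsUnit m) (e : Kˣ)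
    (hU1 : LaurentPolynomial.eval₂ (LaurentPolynomial.eval₂ (algebraMap K K[T;T⁻¹]) (tU K))
      (Units.map (C : K →+* K[T;T⁻¹]).toMonoidHom e) m = T 1)
    (hU2 : LaurentPolynomial.eval₂ (LaurentPolynomial.eval₂ (algebraMap K K[T;T⁻¹])
      (Units.map (C : K →+* K[T;T⁻¹]).toMonoidHom e)) (tU K) m = T 1) :
    m = C (C ((e⁻¹ : Kˣ) : K) * T 1) * T 1 := by
  obtain ⟨a, b, ha, rfl⟩ := laurent_unit m hm
  rw [eval₂_tU, map_mul, eval₂_C, eval₂_T, unitsMap_zpow, RingHom.id_apply] at hU1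
  have ha' : a = T 1 * C (((e ^ b)⁻¹ : Kˣ) : K) := by
    calc a = a * C ((e ^ b : Kˣ) : K) * C (((e ^ b)⁻¹ : Kˣ) : K) := by
          rw [_root_.mul_assoc, ← map_mul, Units.mul_inv, map_one, _root_.mul_one]
      _ = _ := by rw [hU1]
  rw [map_mul, eval₂_C, eval₂_T, tU_zpow, ha', map_mul, eval₂_T, eval₂_C, zpow_one] at hU2
  change C (e : K) * algebraMap K K[T;T⁻¹] _ * T b = T 1 at hU2
  rw [← C_eq_algebraMap, ← map_mul] at hU2
  have hne : (e : K) * (((e ^ b)⁻¹ : Kˣ) : K) ≠ 0 := mul_ne_zero e.ne_zero (Units.ne_zero _)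
  have hb : b = 1 := by
    have h1 := congrArg LaurentPolynomial.degree hU2
    rw [degree_C_mul_T _ _ hne, degree_T] at h1
    exact_mod_cast h1
  subst hb
  rw [ha', zpow_one, mul_comm (T 1) (C _)]

end law

end Groth.Agent.H9.GLU
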