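import Mathlib
import Groth.Prelude.Def_Red2
import Groth.Agent.H4.GaGm
import Groth.Agent.Lib.Helper9.Misc.GAQ1
import Groth.Agent.Lib.Helper9.Misc.GAQ2
import Groth.Agent.Lib.Helper9.Misc.GAQ6
import Groth.Agent.Lib.Helper9.Misc.GAQ7
import Groth.Agent.Lib.Helper9.Misc.GAQ8
import Groth.Agent.Lib.Helper9.Misc.GLU1
import Groth.Agent.Lib.Helper9.Misc.GLU2

/-! Helper9: a group law on the punctured affine line over a field is determined by its unit section (S15603). -/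

set_option linter.style.haveILetI false
set_option linter.unusedSectionVars false

namespace Groth.Agent.H9.GLU

universe u

open CategoryTheory MonoidalCategory CartesianMonoidalCategory MonObj GrpObj AlgebraicGeometry Limits
open Groth.Agent.H4.GaGm Groth.Agent.H9.GAQ
open LaurentPolynomial

variable {K : Type u} [Field K]

section geometryM

variable {G : Over (Spec (CommRingCat.of K))} (ε : G ≅ Red.Gm (Spec (CommRingCat.of K)))
variable {Z Z' : Over (Spec (CommRingCat.of K))}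

/-- coordinate of a point -/
noncomputable def fv (x : Z ⟶ G) : Γ(Z.left, ⊤) := Red.gmFn (x ≫ ε.hom)

theorem isUnit_fv (x : Z ⟶ G) : IsUnit (fv ε x) := isUnit_gmFn _

/-- coordinate of a point as a unit -/
noncomputable def fu (x : Z ⟶ G) : Γ(Z.left, ⊤)ˣ := gmUnit (x ≫ ε.hom)

@[simp] theorem fu_val (x : Z ⟶ G) : ((fu ε x : Γ(Z.left, ⊤)ˣ) : Γ(Z.left, ⊤)) = fv ε x := rfl

/-- point with given coordinate -/
noncomputable def pu (v : Γ(Z.left, ⊤)ˣ) : Z ⟶ G := gmPt v ≫ ε.inv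

theorem fv_pu (v : Γ(Z.left, ⊤)ˣ) : fv ε (pu ε v) = v := by
  unfold fv pu
  rw [Category.assoc, Iso.inv_hom_id, Category.comp_id, gmFn_gmPt]

theorem fv_injective : Function.Injective (fv ε (Z := Z)) := by
  intro x y h
  have := gmFn_injective h
  exact (cancel_mono ε.hom).mp this

theorem fv_comp (π : Z' ⟶ Z) (x : Z ⟶ G) : fv ε (π ≫ x) = π.left.appTop.hom (fv ε x) := by
  unfold fv
  rw [Category.assoc, gmFn_comp]

theorem fv_comp_of_sec {R : Type u} [CommRing R] [Algebra K R] (w : AB (K := K) R ⟶ G) (r : R)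
    (hw : fv ε w = sec R r) (g : Z ⟶ AB (K := K) R) : fv ε (g ≫ w) = co g r := by
  rw [fv_comp, hw]
  rfl

/-- `sec` as a ring hom -/
noncomputable def secHom (R : Type u) [CommRing R] [Algebra K R] :
    R →+* Γ((AB (K := K) R).left, ⊤) :=
  (Scheme.ΓSpecIso (CommRingCat.of R)).inv.hom

/-- `sec` on units -/
noncomputable def secU (R : Type u) [CommRing R] [Algebra K R] :
    Rˣ →* Γ((AB (K := K) R).left, ⊤)ˣ :=
  Units.map (secHom (K := K) R).toMonoidHom

theorem secU_val (R : Type u) [CommRing R] [Algebra K R] (a : Rˣ) :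
    ((secU (K := K) R a : Γ((AB (K := K) R).left, ⊤)ˣ) : Γ((AB (K := K) R).left, ⊤)) = sec R a :=
  rfl

/-- two-variable evaluation -/
noncomputable def ev2m (v w : Γ(Z.left, ⊤)ˣ) : K[T;T⁻¹][T;T⁻¹] →+* Γ(Z.left, ⊤) :=
  LaurentPolynomial.eval₂ (evM v) w

theorem ev2m_algebraMap (v w : Γ(Z.left, ⊤)ˣ) :
    (ev2m v w).comp (algebraMap K (K[T;T⁻¹][T;T⁻¹])) = ρ Z := by
  ext k : 1
  change ev2m v w (C (C k)) = _
  simp [ev2m]

theorem evM_secU {R : Type u} [CommRing R] [Algebra K R] (a : Rˣ) :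
    evM (secU (K := K) R a) =
      ((Scheme.ΓSpecIso (CommRingCat.of R)).inv.hom).comp
        (LaurentPolynomial.eval₂ (algebraMap K R) a) := by
  apply ringHom_ext_laurent'
  · intro c
    rw [evM_C, RingHom.comp_apply, eval₂_C, ρ_AB]
    rfl
  · rw [evM_T, RingHom.comp_apply, eval₂_T, zpow_one]
    rfl

theorem ev2m_sec {R : Type u} [CommRing R] [Algebra K R] (a b : Rˣ) (m : K[T;T⁻¹][T;T⁻¹]) :
    ev2m (secU (K := K) R a) (secU R b) m =
      sec R (LaurentPolynomial.eval₂ (LaurentPolynomial.eval₂ (algebraMap K R) a) b m) := by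
  have h : ev2m (secU (K := K) R a) (secU R b) =
      ((Scheme.ΓSpecIso (CommRingCat.of R)).inv.hom).comp
        (LaurentPolynomial.eval₂ (LaurentPolynomial.eval₂ (algebraMap K R) a) b) := by
    apply ringHom_ext_laurent'
    · intro p
      unfold ev2m
      rw [eval₂_C, RingHom.comp_apply, eval₂_C, evM_secU]
      rfl
    · unfold ev2m
      rw [eval₂_T, RingHom.comp_apply, eval₂_T, zpow_one, zpow_one]
      rfl
  rw [h]
  rfl

variable [GrpObj G]

/-- universal points -/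
noncomputable def P2m : AB (K := K) (K[T;T⁻¹][T;T⁻¹]) ⟶ G :=
  pu ε (secU _ (Units.map (C : K[T;T⁻¹] →+* K[T;T⁻¹][T;T⁻¹]).toMonoidHom (tU K)))
noncomputable def Q2m : AB (K := K) (K[T;T⁻¹][T;T⁻¹]) ⟶ G := pu ε (secU _ (tU K[T;T⁻¹]))
noncomputable def P1m : AB (K := K) K[T;T⁻¹] ⟶ G := pu ε (secU _ (tU K))

/-- the group law Laurent polynomial -/
noncomputable def mL : K[T;T⁻¹][T;T⁻¹] := unsec _ (fv ε (P2m ε * Q2m ε))
/-- the coordinate of the unit -/
noncomputable def eElt : K := unsec K (fv ε (1 : AB (K := K) K ⟶ G))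

theorem isUnit_unsec (R : Type u) [CommRing R] [Algebra K R] (a : Γ((AB (K := K) R).left, ⊤))
    (ha : IsUnit a) : IsUnit (unsec R a) :=
  ha.map (Scheme.ΓSpecIso (CommRingCat.of R)).hom.hom

/-- the coordinate of the unit, as a unit -/
noncomputable def eU : Kˣ := (isUnit_unsec K _ (isUnit_fv ε (1 : AB (K := K) K ⟶ G))).unit

theorem eU_val : ((eU ε : Kˣ) : K) = eElt ε := rfl

theorem fv_mul (x y : Z ⟶ G) : fv ε (x * y) = ev2m (fu ε x) (fu ε y) (mL ε) := by
  set g : Z ⟶ AB (K := K) (K[T;T⁻¹][T;T⁻¹]) :=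
    ptB (ev2m (fu ε x) (fu ε y)) (ev2m_algebraMap _ _) with hg
  have hcg : co g = ev2m (fu ε x) (fu ε y) := co_ptB _ _
  have h1 : g ≫ P2m ε = x := by
    apply fv_injective ε
    rw [fv_comp_of_sec ε (P2m ε) (C (T 1)) (fv_pu _ _) g, hcg]
    simp [ev2m]
  have h2 : g ≫ Q2m ε = y := by
    apply fv_injective ε
    rw [fv_comp_of_sec ε (Q2m ε) (T 1) (fv_pu _ _) g, hcg]
    simp [ev2m]
  calc fv ε (x * y) = fv ε (g ≫ P2m ε * g ≫ Q2m ε) := by rw [h1, h2]
    _ = fv ε (g ≫ (P2m ε * Q2m ε)) := by rw [MonObj.comp_mul]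
    _ = co g (mL ε) := fv_comp_of_sec ε _ _ (sec_unsec _ _).symm g
    _ = _ := by rw [hcg]

theorem fv_one : fv ε (1 : Z ⟶ G) = ρ Z (eElt ε) := by
  have hρ : (ρ Z).comp (algebraMap K K) = ρ Z := by
    ext k : 1
    simp
  set g : Z ⟶ AB (K := K) K := ptB (ρ Z) hρ with hg
  have hcg : co g = ρ Z := co_ptB _ _
  calc fv ε (1 : Z ⟶ G) = fv ε (g ≫ (1 : AB (K := K) K ⟶ G)) := by rw [MonObj.comp_one]
    _ = co g (eElt ε) := fv_comp_of_sec ε _ _ (sec_unsec _ _).symm g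
    _ = _ := by rw [hcg]

theorem mL_eq : mL ε = C (C (((eU ε)⁻¹ : Kˣ) : K) * T 1) * T 1 := by
  have hP : fu ε (P1m ε) = secU K[T;T⁻¹] (tU K) := Units.ext (fv_pu _ _)
  have hc : fu ε (1 : AB (K := K) K[T;T⁻¹] ⟶ G) =
      secU K[T;T⁻¹] (Units.map (C : K →+* K[T;T⁻¹]).toMonoidHom (eU ε)) := by
    apply Units.ext
    rw [fu_val, fv_one, ρ_AB]
    rfl
  have hPv : fv ε (P1m ε) = sec K[T;T⁻¹] (T 1) := fv_pu _ _
  apply laurent_law (mL ε) (isUnit_unsec _ _ (isUnit_fv ε _)) (eU ε)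
  · have h := congrArg (fv ε) (_root_.mul_one (P1m ε))
    rw [fv_mul, hP, hc, ev2m_sec, hPv] at h
    exact sec_injective _ h
  · have h := congrArg (fv ε) (_root_.one_mul (P1m ε))
    rw [fv_mul, hP, hc, ev2m_sec, hPv] at h
    exact sec_injective _ h

/-- the group law on the punctured line is determined by its unit -/
theorem fv_mul_eq (x y : Z ⟶ G) :
    fv ε (x * y) * fv ε (1 : Z ⟶ G) = fv ε x * fv ε y := by
  rw [fv_mul, mL_eq, fv_one]
  simp only [ev2m, map_mul, eval₂_C, eval₂_T, zpow_one, evM_C, evM_T, fu_val]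
  have : ρ Z (((eU ε)⁻¹ : Kˣ) : K) * ρ Z (eElt ε) = 1 := by
    rw [← map_mul, ← eU_val, Units.inv_mul, map_one]
  calc ρ Z (((eU ε)⁻¹ : Kˣ) : K) * fv ε x * fv ε y * ρ Z (eElt ε)
      = (ρ Z (((eU ε)⁻¹ : Kˣ) : K) * ρ Z (eElt ε)) * (fv ε x * fv ε y) := by ring
    _ = _ := by rw [this, _root_.one_mul]

end geometryM

section final

theorem mul_eq_of_one_eq_Gm {G : Over (Spec (CommRingCat.of K))}
    (ε : G ≅ Red.Gm (Spec (CommRingCat.of K))) (h₁ h₂ : GrpObj G) (e : h₁.one = h₂.one) :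
    h₁.mul = h₂.mul := by
  have key : ∀ h : GrpObj G, fv ε h.mul * fv ε (toUnit (G ⊗ G) ≫ h.one) =
      fv ε (fst G G) * fv ε (snd G G) := by
    intro h
    letI := h
    have := fv_mul_eq ε (fst G G) (snd G G)
    rwa [Hom.mul_def, lift_fst_snd, Category.id_comp, Hom.one_def] at this
  apply fv_injective ε
  have h1 := key h₁
  rw [e, ← key h₂] at h1
  exact (isUnit_fv ε _).mul_left_injective h1

theorem S15603_main (k : Type u) [Field k]
    (h₁ h₂ : GrpObj (Red.Gm (Spec (CommRingCat.of k)))) (e : h₁.one = h₂.one) : h₁.mul = h₂.mul :=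
  mul_eq_of_one_eq_Gm (Iso.refl _) h₁ h₂ e

end final

end Groth.Agent.H9.GLU
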