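import Mathlib

set_option autoImplicit false
set_option linter.style.haveILetI false
set_option linter.unusedSectionVars false
set_option linter.unusedVariables false

namespace Groth.Agent.H9.GLV

open Ideal

universe u

section step1

variable {A' A : Type*} [CommRing A'] [CommRing A] [Algebra A' A]

lemma exists_pow_mul_eq_pt (f : A') (hf : algebraMap A' A f ∈ nonZeroDivisors A)
    (hloc : Function.Surjective (IsLocalization.Away.map (Localization.Away f)
      (Localization.Away (algebraMap A' A f)) (algebraMap A' A) f)) (a : A) :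
    ∃ (m : ℕ) (a' : A'), algebraMap A' A a' = algebraMap A' A f ^ m * a := by
  obtain ⟨x, hx⟩ := hloc (algebraMap A (Localization.Away (algebraMap A' A f)) a)
  obtain ⟨a', ⟨y, hy⟩, rfl⟩ := IsLocalization.exists_mk'_eq (Submonoid.powers f) x
  obtain ⟨m, rfl⟩ := (Submonoid.mem_powers_iff _ _).mp hy
  refine ⟨m, a', ?_⟩
  have hinjL : Function.Injective (algebraMap A (Localization.Away (algebraMap A' A f))) :=
    IsLocalization.injective _ (Submonoid.powers_le.mpr hf)
  apply hinjL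
  rw [IsLocalization.Away.map, IsLocalization.map_mk', IsLocalization.mk'_eq_iff_eq_mul] at hx
  simp only [map_pow, map_mul] at hx ⊢
  rw [hx, mul_comm]

lemma exists_pow_mul_eq [Module.Finite A' A] (f : A')
    (hf : algebraMap A' A f ∈ nonZeroDivisors A)
    (hloc : Function.Surjective (IsLocalization.Away.map (Localization.Away f)
      (Localization.Away (algebraMap A' A f)) (algebraMap A' A) f)) :
    ∃ c : ℕ, ∀ a : A, ∃ a' : A', algebraMap A' A a' = algebraMap A' A f ^ c * a := by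
  classical
  obtain ⟨s, hs⟩ := (Module.Finite.fg_top (R := A') (M := A))
  choose m a' h using exists_pow_mul_eq_pt f hf hloc
  refine ⟨s.sup m, fun a => ?_⟩
  have ha : a ∈ Submodule.span A' (s : Set A) := by rw [hs]; trivial
  induction ha using Submodule.span_induction with
  | mem x hx =>
    have hle : m x ≤ s.sup m := Finset.le_sup (f := m) hx
    refine ⟨f ^ (s.sup m - m x) * a' x, ?_⟩
    rw [map_mul, h x, map_pow, ← mul_assoc, ← pow_add, Nat.sub_add_cancel hle]
  | zero => exact ⟨0, by simp⟩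
  | add x y _ _ hx hy =>
    obtain ⟨x', hx'⟩ := hx
    obtain ⟨y', hy'⟩ := hy
    exact ⟨x' + y', by rw [map_add, hx', hy', mul_add]⟩
  | smul r x _ hx =>
    obtain ⟨x', hx'⟩ := hx
    exact ⟨r * x', by rw [map_mul, hx', Algebra.smul_def]; ring⟩

/-- The `A'`-linear map `a ↦ f^c a`, viewed with values in `A'`. -/
noncomputable def tau (hinj : Function.Injective (algebraMap A' A)) (f : A') (c : ℕ)
    (h : ∀ a : A, ∃ a' : A', algebraMap A' A a' = algebraMap A' A f ^ c * a) : A →ₗ[A'] A' where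
  toFun a := (h a).choose
  map_add' a b := hinj (by
    rw [map_add, (h a).choose_spec, (h b).choose_spec, (h (a + b)).choose_spec, mul_add])
  map_smul' r a := hinj (by
    rw [RingHom.id_apply, smul_eq_mul, map_mul, (h a).choose_spec, (h (r • a)).choose_spec,
      Algebra.smul_def]; ring)

lemma tau_spec (hinj : Function.Injective (algebraMap A' A)) (f : A') (c : ℕ)
    (h : ∀ a : A, ∃ a' : A', algebraMap A' A a' = algebraMap A' A f ^ c * a) (a : A) :
    algebraMap A' A (tau hinj f c h a) = algebraMap A' A f ^ c * a :=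
  (h a).choose_spec

end step1

/-- The data of the gluing situation. -/
structure Data (A' A B' : Type u) [CommRing A'] [CommRing A] [Algebra A' A] [CommRing B'] where
  f : A'
  c : ℕ
  τ : A →ₗ[A'] A'
  hτ : ∀ a, algebraMap A' A (τ a) = algebraMap A' A f ^ c * a
  hinj : Function.Injective (algebraMap A' A)
  hf : algebraMap A' A f ∈ nonZeroDivisors A
  n : ℕ
  hn : 2 * c + 1 ≤ n
  g : B'
  hg : g ∈ nonZeroDivisors B'
  φ' : (A' ⧸ Ideal.span {f ^ n}) ≃+* (B' ⧸ Ideal.span {g ^ n})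
  hφ' : φ' (Ideal.Quotient.mk _ f) = Ideal.Quotient.mk _ g

namespace Data

variable {A' A B' : Type u} [CommRing A'] [CommRing A] [Algebra A' A] [CommRing B']
variable (D : Data A' A B')

/-- quotient map on the `A'` side -/
abbrev mkA : A' →+* A' ⧸ Ideal.span {D.f ^ D.n} := Ideal.Quotient.mk _
/-- quotient map on the `B'` side -/
abbrev mkB : B' →+* B' ⧸ Ideal.span {D.g ^ D.n} := Ideal.Quotient.mk _

lemma mkB_eq_iff {v w : B'} : D.mkB v = D.mkB w ↔ ∃ t, v = w + D.g ^ D.n * t := by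
  rw [Ideal.Quotient.eq, Ideal.mem_span_singleton']
  constructor
  · rintro ⟨t, ht⟩; exact ⟨t, by rw [mul_comm, ht]; ring⟩
  · rintro ⟨t, ht⟩; exact ⟨t, by rw [ht]; ring⟩

lemma mkA_eq_iff {v w : A'} : D.mkA v = D.mkA w ↔ ∃ t, v = w + D.f ^ D.n * t := by
  rw [Ideal.Quotient.eq, Ideal.mem_span_singleton']
  constructor
  · rintro ⟨t, ht⟩; exact ⟨t, by rw [mul_comm, ht]; ring⟩
  · rintro ⟨t, ht⟩; exact ⟨t, by rw [ht]; ring⟩

lemma mkB_surj : Function.Surjective D.mkB := Ideal.Quotient.mk_surjective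
lemma mkA_surj : Function.Surjective D.mkA := Ideal.Quotient.mk_surjective

lemma exists_phi_eq (b : B') : ∃ r : A', D.φ' (D.mkA r) = D.mkB b := by
  obtain ⟨r, hr⟩ := D.mkA_surj (D.φ'.symm (D.mkB b))
  exact ⟨r, by rw [hr, RingEquiv.apply_symm_apply]⟩

lemma τ_algebraMap (x : A') : D.τ (algebraMap A' A x) = D.f ^ D.c * x :=
  D.hinj (by rw [D.hτ, map_mul, map_pow])

lemma τ_mul (a b : A) : D.τ a * D.τ b = D.f ^ D.c * D.τ (a * b) :=
  D.hinj (by rw [map_mul, map_mul, D.hτ, D.hτ, D.hτ, map_pow]; ring)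

lemma τ_one : D.τ 1 = D.f ^ D.c :=
  D.hinj (by rw [D.hτ, map_pow, mul_one])

lemma τ_injective : Function.Injective D.τ := by
  intro a b hab
  have h := congrArg (algebraMap A' A) hab
  rw [D.hτ, D.hτ] at h
  exact (mul_cancel_left_mem_nonZeroDivisors (pow_mem D.hf D.c)).mp h

/-- The additive map `a ↦ φ'(class of τ a)`. -/
noncomputable def σ : A →+ B' ⧸ Ideal.span {D.g ^ D.n} :=
  (D.φ'.toRingHom.comp D.mkA).toAddMonoidHom.comp D.τ.toAddMonoidHom

lemma σ_apply (a : A) : D.σ a = D.φ' (D.mkA (D.τ a)) := rfl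

lemma φ'_pow_f (k : ℕ) : D.φ' (D.mkA (D.f ^ k)) = D.mkB D.g ^ k := by
  rw [map_pow, map_pow, D.hφ']

lemma σ_algebraMap (x : A') : D.σ (algebraMap A' A x) = D.mkB D.g ^ D.c * D.φ' (D.mkA x) := by
  rw [σ_apply, τ_algebraMap, map_mul, map_mul, φ'_pow_f]

lemma σ_mul (a b : A) : D.σ a * D.σ b = D.mkB D.g ^ D.c * D.σ (a * b) := by
  rw [σ_apply, σ_apply, σ_apply, ← map_mul, ← map_mul, τ_mul, map_mul, map_mul, φ'_pow_f]

lemma σ_one : D.σ 1 = D.mkB D.g ^ D.c := by
  rw [σ_apply, τ_one, φ'_pow_f]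

lemma σ_smul (r : A') (a : A) : D.σ (algebraMap A' A r * a) = D.φ' (D.mkA r) * D.σ a := by
  rw [σ_apply, σ_apply, ← Algebra.smul_def, map_smul, smul_eq_mul, map_mul, map_mul]

/-- `g^c B' ⊆ J_B`. -/
lemma exists_σ_eq_pow_mul (s : B') : ∃ a : A, D.mkB (D.g ^ D.c * s) = D.σ a := by
  obtain ⟨r, hr⟩ := D.exists_phi_eq s
  exact ⟨algebraMap A' A r, by rw [σ_algebraMap, hr, map_mul, map_pow]⟩

lemma key_mul {v w : B'} {a b : A} (hv : D.mkB v = D.σ a) (hw : D.mkB w = D.σ b) :
    ∃ z t, D.mkB z = D.σ (a * b) ∧ v * w = D.g ^ D.c * z + D.g ^ D.n * t := by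
  obtain ⟨z, hz⟩ := D.mkB_surj (D.σ (a * b))
  have h : D.mkB (v * w) = D.mkB (D.g ^ D.c * z) := by
    rw [map_mul D.mkB v w, hv, hw, σ_mul, map_mul D.mkB, hz, map_pow]
  obtain ⟨t, ht⟩ := D.mkB_eq_iff.mp h
  exact ⟨z, t, hz, ht⟩

/-- the localization `B'_g` -/
abbrev L : Type u := Localization.Away D.g

/-- the image of `g` in `B'_g` -/
noncomputable abbrev γ : D.L := algebraMap B' D.L D.g

lemma isUnit_γ : IsUnit D.γ := IsLocalization.Away.algebraMap_isUnit D.g

lemma algebraMap_L_injective : Function.Injective (algebraMap B' D.L) :=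
  IsLocalization.injective _ (Submonoid.powers_le.mpr D.hg)

lemma cancel_γ {x y : D.L} (k : ℕ) (h : x * D.γ ^ k = y * D.γ ^ k) : x = y :=
  (D.isUnit_γ.pow k).mul_left_inj.mp h

/-- The ring `B = g^{-c} J_B ⊆ B'_g`. -/
noncomputable def B : Subalgebra B' D.L where
  carrier := {x | ∃ v a, D.mkB v = D.σ a ∧ x * D.γ ^ D.c = algebraMap B' D.L v}
  mul_mem' := by
    rintro x y ⟨v, a, hv, hx⟩ ⟨w, b, hw, hy⟩
    obtain ⟨z, t, hz, hvw⟩ := D.key_mul hv hw
    have hn := D.hn
    obtain ⟨a₂, ha₂⟩ := D.exists_σ_eq_pow_mul (D.g ^ (D.n - 2 * D.c) * t)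
    refine ⟨z + D.g ^ D.c * (D.g ^ (D.n - 2 * D.c) * t), a * b + a₂, ?_, ?_⟩
    · rw [map_add, map_add, hz, ha₂]
    · apply D.cancel_γ D.c
      have h1 : x * y * D.γ ^ D.c * D.γ ^ D.c = algebraMap B' D.L (v * w) := by
        rw [map_mul, ← hx, ← hy]; ring
      rw [h1, hvw]
      have h2 : D.n = D.c + D.c + (D.n - 2 * D.c) := by omega
      conv_lhs => rw [h2]
      simp only [map_add, map_mul, map_pow]
      ring
  add_mem' := by
    rintro x y ⟨v, a, hv, hx⟩ ⟨w, b, hw, hy⟩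
    exact ⟨v + w, a + b, by rw [map_add, map_add, hv, hw], by rw [add_mul, hx, hy, map_add]⟩
  algebraMap_mem' b := by
    obtain ⟨a, ha⟩ := D.exists_σ_eq_pow_mul b
    exact ⟨D.g ^ D.c * b, a, ha, by rw [map_mul, map_pow, mul_comm]⟩

lemma mem_B {x : D.L} :
    x ∈ D.B ↔ ∃ v a, D.mkB v = D.σ a ∧ x * D.γ ^ D.c = algebraMap B' D.L v := Iff.rfl

/-- the image of `g` in `B` -/
noncomputable abbrev gB : D.B := algebraMap B' D.B D.g

/-- the quotient `B/gB` -/
noncomputable abbrev Q : Type u := D.B ⧸ Ideal.span {D.gB}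

/-- the quotient map `B → B/gB` -/
noncomputable abbrev mkQ : D.B →+* D.Q := Ideal.Quotient.mk _

lemma coe_algebraMap_B (b : B') : ((algebraMap B' D.B b : D.B) : D.L) = algebraMap B' D.L b := rfl

lemma mkQ_eq {x y : D.B} (t : B')
    (h : ((x : D.L) - (y : D.L)) * D.γ ^ D.c = D.γ ^ (D.c + 1) * algebraMap B' D.L t) :
    D.mkQ x = D.mkQ y := by
  rw [Ideal.Quotient.eq, Ideal.mem_span_singleton']
  refine ⟨algebraMap B' D.B t, ?_⟩
  apply Subtype.ext
  apply D.cancel_γ D.c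
  rw [Subalgebra.coe_sub, h, Subalgebra.coe_mul, coe_algebraMap_B, coe_algebraMap_B]
  ring

/-- a chosen lift of `σ a` to `B'` -/
noncomputable def lift (a : A) : B' := (D.mkB_surj (D.σ a)).choose

lemma lift_spec (a : A) : D.mkB (D.lift a) = D.σ a := (D.mkB_surj (D.σ a)).choose_spec

/-- the element `lift a / g^c` of `B` -/
noncomputable def el (a : A) : D.B :=
  ⟨IsLocalization.mk' D.L (D.lift a) (⟨D.g ^ D.c, D.c, rfl⟩ : Submonoid.powers D.g),
    ⟨D.lift a, a, D.lift_spec a, by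
      have := IsLocalization.mk'_spec D.L (D.lift a) (⟨D.g ^ D.c, D.c, rfl⟩ : Submonoid.powers D.g)
      rw [map_pow] at this
      exact this⟩⟩

lemma el_spec (a : A) : (D.el a : D.L) * D.γ ^ D.c = algebraMap B' D.L (D.lift a) := by
  have := IsLocalization.mk'_spec D.L (D.lift a) (⟨D.g ^ D.c, D.c, rfl⟩ : Submonoid.powers D.g)
  rw [map_pow] at this
  exact this

/-- the underlying function of `ψ` -/
noncomputable def ψ₀ (a : A) : D.Q := D.mkQ (D.el a)

lemma ψ₀_eq {a : A} {v t : B'} {x : D.B} (hv : D.mkB v = D.σ a)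
    (hx : (x : D.L) * D.γ ^ D.c = algebraMap B' D.L (v + D.g ^ (D.c + 1) * t)) :
    D.ψ₀ a = D.mkQ x := by
  obtain ⟨t', ht'⟩ := D.mkB_eq_iff.mp ((D.lift_spec a).trans hv.symm)
  have hn := D.hn
  apply D.mkQ_eq (D.g ^ (D.n - D.c - 1) * t' - t)
  rw [sub_mul, el_spec, hx, ht']
  have h2 : D.n = D.c + 1 + (D.n - D.c - 1) := by omega
  conv_lhs => rw [h2]
  simp only [map_add, map_mul, map_pow, map_sub]
  ring

lemma ψ₀_eq' {a : A} {v : B'} {x : D.B} (hv : D.mkB v = D.σ a)
    (hx : (x : D.L) * D.γ ^ D.c = algebraMap B' D.L v) :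
    D.ψ₀ a = D.mkQ x :=
  D.ψ₀_eq (t := 0) hv (by rw [hx]; simp)

/-- The ring homomorphism `A → B/gB`. -/
noncomputable def ψ : A →+* D.Q where
  toFun := D.ψ₀
  map_one' := by
    have h : D.ψ₀ 1 = D.mkQ 1 :=
      D.ψ₀_eq' (v := D.g ^ D.c) (by rw [σ_one, map_pow]) (by rw [Subalgebra.coe_one, one_mul, map_pow])
    rw [h, map_one]
  map_mul' a b := by
    obtain ⟨z, t, hz, hvw⟩ := D.key_mul (D.lift_spec a) (D.lift_spec b)
    have hn := D.hn
    have h : D.ψ₀ (a * b) = D.mkQ (D.el a * D.el b) := by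
      apply D.ψ₀_eq (v := z) (t := D.g ^ (D.n - 2 * D.c - 1) * t) hz
      apply D.cancel_γ D.c
      have h1 : ((D.el a * D.el b : D.B) : D.L) * D.γ ^ D.c * D.γ ^ D.c
          = algebraMap B' D.L (D.lift a * D.lift b) := by
        rw [map_mul, ← el_spec, ← el_spec, Subalgebra.coe_mul]; ring
      rw [h1, hvw]
      have h2 : D.n = D.c + D.c + 1 + (D.n - 2 * D.c - 1) := by omega
      conv_lhs => rw [h2]
      simp only [map_add, map_mul, map_pow]
      ring
    rw [h, map_mul]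
    rfl
  map_zero' := by
    have h : D.ψ₀ 0 = D.mkQ 0 :=
      D.ψ₀_eq' (v := 0) (by rw [map_zero, map_zero]) (by rw [Subalgebra.coe_zero, zero_mul, map_zero])
    rw [h, map_zero]
  map_add' a b := by
    have h : D.ψ₀ (a + b) = D.mkQ (D.el a + D.el b) :=
      D.ψ₀_eq' (v := D.lift a + D.lift b) (by rw [map_add, map_add, lift_spec, lift_spec])
        (by rw [Subalgebra.coe_add, add_mul, el_spec, el_spec, map_add])
    rw [h, map_add]
    rfl

lemma ψ_apply (a : A) : D.ψ a = D.ψ₀ a := rfl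

lemma ψ_algebraMap {a' : A'} {b' : B'} (h : D.φ' (D.mkA a') = D.mkB b') :
    D.ψ (algebraMap A' A a') = D.mkQ (algebraMap B' D.B b') := by
  rw [ψ_apply]
  apply D.ψ₀_eq' (v := D.g ^ D.c * b')
  · rw [σ_algebraMap, h, map_mul, map_pow]
  · rw [coe_algebraMap_B, map_mul, map_pow, mul_comm]

lemma ψ_surjective : Function.Surjective D.ψ := by
  intro q
  obtain ⟨y, rfl⟩ := Ideal.Quotient.mk_surjective q
  obtain ⟨w, b, hw, hy⟩ := D.mem_B.mp y.2
  exact ⟨b, D.ψ₀_eq' hw hy⟩

lemma ψ_f : D.ψ (algebraMap A' A D.f) = 0 := by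
  rw [D.ψ_algebraMap D.hφ']
  exact Ideal.Quotient.eq_zero_iff_mem.mpr (Ideal.mem_span_singleton_self _)

lemma ker_ψ : RingHom.ker D.ψ = Ideal.span {algebraMap A' A D.f} := by
  apply le_antisymm
  · intro a ha
    rw [RingHom.mem_ker, ψ_apply, ψ₀, Ideal.Quotient.eq_zero_iff_mem,
      Ideal.mem_span_singleton'] at ha
    obtain ⟨y, hy⟩ := ha
    obtain ⟨w, b, hw, hyw⟩ := D.mem_B.mp y.2
    -- lift a = g * w in B'
    have h1 : D.lift a = D.g * w := by
      apply D.algebraMap_L_injective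
      rw [← el_spec, ← hy, Subalgebra.coe_mul, coe_algebraMap_B, map_mul, ← hyw]
      ring
    have h2 : D.mkA (D.τ a) = D.mkA (D.τ (algebraMap A' A D.f * b)) := by
      apply D.φ'.injective
      rw [← σ_apply, ← σ_apply, σ_smul, D.hφ', ← hw, ← lift_spec, h1, map_mul]
    obtain ⟨r, hr⟩ := D.mkA_eq_iff.mp h2
    have hn := D.hn
    have h3 : a = algebraMap A' A D.f * b + algebraMap A' A (D.f ^ (D.n - D.c) * r) := by
      apply D.τ_injective
      rw [hr, map_add, τ_algebraMap, ← mul_assoc, ← pow_add, Nat.add_sub_cancel' (by omega)]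
    rw [Ideal.mem_span_singleton']
    refine ⟨b + algebraMap A' A (D.f ^ (D.n - D.c - 1) * r), ?_⟩
    rw [h3]
    have h4 : D.n - D.c = (D.n - D.c - 1) + 1 := by omega
    conv_rhs => rw [h4]
    simp only [map_mul, map_pow]
    ring
  · rw [Ideal.span_le, Set.singleton_subset_iff]
    exact D.ψ_f

/-- The isomorphism `A/fA ≃ B/gB`. -/
noncomputable def φ : (A ⧸ Ideal.span {algebraMap A' A D.f}) ≃+* D.Q :=
  RingEquiv.ofBijective
    (Ideal.Quotient.lift _ D.ψ (fun a ha => by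
      rw [← RingHom.mem_ker, ker_ψ]; exact ha))
    ⟨RingHom.lift_injective_of_ker_le_ideal _ _ (by rw [ker_ψ]),
      Ideal.Quotient.lift_surjective_of_surjective _ _ D.ψ_surjective⟩

lemma φ_mk (a : A) : D.φ (Ideal.Quotient.mk _ a) = D.ψ a := rfl

lemma algebraMap_B_injective : Function.Injective (algebraMap B' D.B) := by
  intro b₁ b₂ h
  exact D.algebraMap_L_injective (congrArg Subtype.val h)

lemma eq_add_of_mkB_eq {y y₀ : D.B} {w w₀ : B'} (hy : (y : D.L) * D.γ ^ D.c = algebraMap B' D.L w)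
    (hy₀ : (y₀ : D.L) * D.γ ^ D.c = algebraMap B' D.L w₀) (h : D.mkB w = D.mkB w₀) :
    ∃ t : B', y = y₀ + algebraMap B' D.B (D.g ^ (D.n - D.c) * t) := by
  obtain ⟨t, ht⟩ := D.mkB_eq_iff.mp h
  refine ⟨t, ?_⟩
  have hn := D.hn
  apply Subtype.ext
  apply D.cancel_γ D.c
  rw [Subalgebra.coe_add, add_mul, hy, hy₀, ht, coe_algebraMap_B]
  have h2 : D.n = D.c + (D.n - D.c) := by omega
  conv_lhs => rw [h2]
  simp only [map_add, map_mul, map_pow]
  ring

lemma mem_span_of_mkB_eq {T : Set D.B} (h1 : (1 : D.B) ∈ Submodule.span B' T) {y y₀ : D.B}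
    {w w₀ : B'} (hy : (y : D.L) * D.γ ^ D.c = algebraMap B' D.L w)
    (hy₀ : (y₀ : D.L) * D.γ ^ D.c = algebraMap B' D.L w₀) (h : D.mkB w = D.mkB w₀)
    (hmem : y₀ ∈ Submodule.span B' T) : y ∈ Submodule.span B' T := by
  obtain ⟨t, rfl⟩ := D.eq_add_of_mkB_eq hy hy₀ h
  refine add_mem hmem ?_
  rw [Algebra.algebraMap_eq_smul_one]
  exact Submodule.smul_mem _ _ h1

lemma finite_B [Module.Finite A' A] : Module.Finite B' D.B := by
  classical
  obtain ⟨s, hs⟩ := (Module.Finite.fg_top (R := A') (M := A))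
  refine ⟨⟨insert 1 (s.image D.el), ?_⟩⟩
  rw [eq_top_iff]
  set T : Set D.B := ((insert 1 (s.image D.el) : Finset D.B) : Set D.B) with hT
  have h1 : (1 : D.B) ∈ Submodule.span B' T :=
    Submodule.subset_span (by rw [hT]; simp)
  have key : ∀ b : A, D.el b ∈ Submodule.span B' T := by
    intro b
    have hb : b ∈ Submodule.span A' (s : Set A) := by rw [hs]; trivial
    induction hb using Submodule.span_induction with
    | mem x hx =>
      apply Submodule.subset_span
      rw [hT]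
      simp only [Finset.coe_insert, Finset.coe_image, Set.mem_insert_iff, Set.mem_image,
        Finset.mem_coe]
      exact Or.inr ⟨x, hx, rfl⟩
    | zero =>
      refine D.mem_span_of_mkB_eq h1 (D.el_spec 0) (y₀ := 0) (w₀ := 0) ?_ ?_ (zero_mem _)
      · rw [Subalgebra.coe_zero, zero_mul, map_zero]
      · rw [lift_spec, map_zero, map_zero]
    | add x y _ _ hx hy =>
      refine D.mem_span_of_mkB_eq h1 (D.el_spec (x + y)) (y₀ := D.el x + D.el y)
        (w₀ := D.lift x + D.lift y) ?_ ?_ (add_mem hx hy)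
      · rw [Subalgebra.coe_add, add_mul, el_spec, el_spec, map_add]
      · rw [lift_spec, map_add, map_add, lift_spec, lift_spec]
    | smul r x _ hx =>
      obtain ⟨ρ, hρ⟩ := D.mkB_surj (D.φ' (D.mkA r))
      refine D.mem_span_of_mkB_eq h1 (D.el_spec (r • x)) (y₀ := ρ • D.el x)
        (w₀ := ρ * D.lift x) ?_ ?_ (Submodule.smul_mem _ _ hx)
      · rw [Algebra.smul_def, Subalgebra.coe_mul, coe_algebraMap_B, mul_assoc, el_spec, map_mul]
      · rw [lift_spec, Algebra.smul_def, σ_smul, map_mul, hρ, lift_spec]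
  rintro y -
  obtain ⟨w, b, hw, hy⟩ := D.mem_B.mp y.2
  exact D.mem_span_of_mkB_eq h1 hy (D.el_spec b) (hw.trans (D.lift_spec b).symm) (key b)

end Data

theorem main (A' A : Type u) [CommRing A'] [CommRing A] [Algebra A' A]
    (hinj : Function.Injective (algebraMap A' A)) [Module.Finite A' A] (f : A')
    (hf : algebraMap A' A f ∈ nonZeroDivisors A)
    (hloc : Function.Bijective (IsLocalization.Away.map (Localization.Away f)
      (Localization.Away (algebraMap A' A f)) (algebraMap A' A) f)) :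
    ∃ n₀ : ℕ, 0 < n₀ ∧ ∀ n : ℕ, n₀ ≤ n →
      ∀ (B' : Type u) [CommRing B'] (g : B'), g ∈ nonZeroDivisors B' →
        ∀ φ' : (A' ⧸ Ideal.span {f ^ n}) ≃+* (B' ⧸ Ideal.span {g ^ n}),
        φ' (Ideal.Quotient.mk (Ideal.span {f ^ n}) f) = Ideal.Quotient.mk (Ideal.span {g ^ n}) g →
        ∃ (B : Type u) (_ : CommRing B) (_ : Algebra B' B),
          Function.Injective (algebraMap B' B) ∧ Module.Finite B' B ∧
          ∃ φ : (A ⧸ Ideal.span {algebraMap A' A f}) ≃+* (B ⧸ Ideal.span {algebraMap B' B g}),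
            ∀ (a' : A') (b' : B'),
              φ' (Ideal.Quotient.mk (Ideal.span {f ^ n}) a') = Ideal.Quotient.mk (Ideal.span {g ^ n}) b' →
              φ (Ideal.Quotient.mk (Ideal.span {algebraMap A' A f}) (algebraMap A' A a')) =
                Ideal.Quotient.mk (Ideal.span {algebraMap B' B g}) (algebraMap B' B b') := by
  obtain ⟨c, hc⟩ := exists_pow_mul_eq f hf hloc.2
  refine ⟨2 * c + 1, by omega, fun n hn B' _ g hg φ' hφ' => ?_⟩
  let D : Data A' A B' :=
    ⟨f, c, tau hinj f c hc, tau_spec hinj f c hc, hinj, hf, n, hn, g, hg, φ', hφ'⟩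
  refine ⟨D.B, inferInstance, inferInstance, D.algebraMap_B_injective, D.finite_B, D.φ,
    fun a' b' h => ?_⟩
  rw [Data.φ_mk]
  exact D.ψ_algebraMap h

end Groth.Agent.H9.GLV
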