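import Mathlib
import Groth.Prelude.Def_W4c5flasquetoriphsGLat

/-! Helper9: coflasque resolution of a finitely generated G-module (S18675). -/

set_option autoImplicit false
set_option linter.unusedSectionVars false
set_option linter.unusedVariables false

namespace Groth.Agent.H9.GLatA

open Module

variable {G : Type} [Group G] [Finite G] {A : Type} [AddCommGroup A]
  (ρ : Representation ℤ G A)

/-- invariants -/
def inv (H : Subgroup G) : Submodule ℤ A where
  carrier := {a | ∀ h ∈ H, ρ h a = a}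
  add_mem' := by intro a b ha hb h hh; rw [map_add, ha h hh, hb h hh]
  zero_mem' := by intro h hh; rw [map_zero]
  smul_mem' := by intro c a ha h hh; rw [map_smul, ha h hh]

theorem mem_inv (H : Subgroup G) (a : A) : a ∈ inv ρ H ↔ ∀ h ∈ H, ρ h a = a := Iff.rfl

theorem exists_X [Module.Finite ℤ A] : ∃ X : Set A, X.Finite ∧ (∀ g : G, ∀ x ∈ X, ρ g x ∈ X) ∧
    ∀ H : Subgroup G, inv ρ H ≤ Submodule.span ℤ (X ∩ (inv ρ H : Set A)) := by
  have : IsNoetherian ℤ A := isNoetherian_of_isNoetherianRing_of_finite ℤ A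
  have hfg : ∀ H : Subgroup G, ∃ S : Finset A, Submodule.span ℤ (S : Set A) = inv ρ H :=
    fun H => (IsNoetherian.noetherian (inv ρ H))
  choose S hS using hfg
  obtain ⟨T, hTdef⟩ : ∃ T : Set A, T = ⋃ H : Subgroup G, (S H : Set A) := ⟨_, rfl⟩
  have hT : T.Finite := by
    rw [hTdef]; exact Set.finite_iUnion (fun H => (S H).finite_toSet)
  refine ⟨(fun p : G × A => ρ p.1 p.2) '' (Set.univ ×ˢ T), ?_, ?_, ?_⟩
  · exact (Set.finite_univ.prod hT).image _
  · rintro g x ⟨⟨g', t⟩, ⟨-, ht⟩, rfl⟩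
    exact ⟨(g * g', t), ⟨Set.mem_univ _, ht⟩, by simp [map_mul]⟩
  · intro H
    conv_lhs => rw [← hS H]
    apply Submodule.span_mono
    intro s hs
    have hsinv : s ∈ inv ρ H := by
      have : s ∈ Submodule.span ℤ (S H : Set A) := Submodule.subset_span hs
      rw [hS H] at this
      exact this
    refine ⟨⟨(1, s), ⟨Set.mem_univ _, ?_⟩, by simp⟩, hsinv⟩
    rw [hTdef]
    exact Set.mem_iUnion.2 ⟨H, hs⟩

section Perm

variable (X : Set A) (hX : ∀ g : G, ∀ x ∈ X, ρ g x ∈ X)

def act (g : G) (x : X) : X := ⟨ρ g x.1, hX g x.1 x.2⟩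

theorem act_one (x : X) : act ρ X hX 1 x = x := Subtype.ext (by simp [act])

theorem act_mul (g h : G) (x : X) :
    act ρ X hX (g * h) x = act ρ X hX g (act ρ X hX h x) :=
  Subtype.ext (by simp [act, map_mul])

theorem act_inv_act (g : G) (x : X) : act ρ X hX g⁻¹ (act ρ X hX g x) = x := by
  rw [← act_mul, inv_mul_cancel, act_one]

theorem act_act_inv (g : G) (x : X) : act ρ X hX g (act ρ X hX g⁻¹ x) = x := by
  rw [← act_mul, mul_inv_cancel, act_one]

def tau : Representation ℤ G (X → ℤ) where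
  toFun g := LinearMap.funLeft ℤ ℤ (act ρ X hX g⁻¹)
  map_one' := by
    refine LinearMap.ext (fun p => funext (fun x => ?_))
    simp [LinearMap.funLeft_apply, act_one]
  map_mul' g h := by
    refine LinearMap.ext (fun p => funext (fun x => ?_))
    simp [LinearMap.funLeft_apply, mul_inv_rev, act_mul]

theorem tau_apply (g : G) (p : X → ℤ) (x : X) :
    tau ρ X hX g p x = p (act ρ X hX g⁻¹ x) := rfl

theorem tau_single [DecidableEq X] (g : G) (x : X) :
    tau ρ X hX g (Pi.single x 1) = Pi.single (act ρ X hX g x) 1 := by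
  funext y
  rw [tau_apply, Pi.single_apply, Pi.single_apply]
  have : (act ρ X hX g⁻¹ y = x) ↔ (y = act ρ X hX g x) := by
    constructor
    · intro h; rw [← h, act_act_inv]
    · intro h; rw [h, act_inv_act]
  simp only [this]

variable [Fintype X]

def piMap : (X → ℤ) →ₗ[ℤ] A := Fintype.linearCombination ℤ (fun x : X => (x : A))

theorem piMap_equiv (g : G) (p : X → ℤ) :
    piMap X (tau ρ X hX g p) = ρ g (piMap X p) := by
  simp only [piMap, Fintype.linearCombination_apply, map_sum, map_smul]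
  let e : X ≃ X := ⟨act ρ X hX g, act ρ X hX g⁻¹, fun x => act_inv_act ρ X hX g x,
    fun x => act_act_inv ρ X hX g x⟩
  have := Equiv.sum_comp e (fun x : X => tau ρ X hX g p x • (x : A))
  rw [← this]
  apply Finset.sum_congr rfl
  intro y _
  show p (act ρ X hX g⁻¹ (act ρ X hX g y)) • ρ g y.1 = p y • ρ g y.1
  rw [act_inv_act]

theorem exists_inv_lift
    (hspan : ∀ H : Subgroup G, inv ρ H ≤ Submodule.span ℤ (X ∩ (inv ρ H : Set A)))
    (H : Subgroup G) (a : A) (ha : a ∈ inv ρ H) :
    ∃ p : X → ℤ, (∀ h ∈ H, tau ρ X hX h p = p) ∧ piMap X p = a := by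
  classical
  have hmem := hspan H ha
  clear ha
  induction hmem using Submodule.span_induction with
  | mem x hx =>
    refine ⟨Pi.single ⟨x, hx.1⟩ 1, ?_, ?_⟩
    · intro h hh
      rw [tau_single]
      congr 1
      exact Subtype.ext ((mem_inv ρ H x).1 hx.2 h hh)
    · simp [piMap]
  | zero => exact ⟨0, fun h _ => map_zero _, map_zero _⟩
  | add x y _ _ hx hy =>
    obtain ⟨p, hp1, hp2⟩ := hx
    obtain ⟨q, hq1, hq2⟩ := hy
    exact ⟨p + q, fun h hh => by rw [map_add, hp1 h hh, hq1 h hh], by rw [map_add, hp2, hq2]⟩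
  | smul c x _ hx =>
    obtain ⟨p, hp1, hp2⟩ := hx
    exact ⟨c • p, fun h hh => by rw [map_smul, hp1 h hh], by rw [map_smul, hp2]⟩

theorem h1_perm (H : Subgroup G) (f : H → (X → ℤ))
    (hf : ∀ a b : H, f (a * b) = f a + tau ρ X hX (a : G) (f b)) :
    ∃ m : X → ℤ, ∀ a : H, f a = tau ρ X hX (a : G) m - m := by
  classical
  have : Fintype H := Fintype.ofFinite H
  obtain ⟨n, hn⟩ : ∃ n : ℤ, n = (Fintype.card H : ℤ) := ⟨_, rfl⟩
  have hn0 : n ≠ 0 := by
    rw [hn]
    exact_mod_cast (Fintype.card_pos (α := H)).ne'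
  refine ⟨fun x => (-(∑ b : H, f b x)) / n, ?_⟩
  intro a
  funext x
  show f a x = (-(∑ b : H, f b (act ρ X hX ((a : G))⁻¹ x))) / n - (-(∑ b : H, f b x)) / n
  have h1 : ∀ b : H, f b (act ρ X hX ((a : G))⁻¹ x) = f (a * b) x - f a x := by
    intro b
    have := congrFun (hf a b) x
    have h2 : (tau ρ X hX (a : G) (f b)) x = f b (act ρ X hX ((a : G))⁻¹ x) := rfl
    rw [Pi.add_apply, h2] at this
    linarith
  have hre : ∑ b : H, f (a * b) x = ∑ b : H, f b x :=
    Equiv.sum_comp (Equiv.mulLeft a) (fun b => f b x)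
  have key : ∑ b : H, f b (act ρ X hX ((a : G))⁻¹ x) = (∑ b : H, f b x) - n * f a x := by
    rw [Finset.sum_congr rfl (fun b _ => h1 b), Finset.sum_sub_distrib, hre, Finset.sum_const,
      Finset.card_univ, hn, nsmul_eq_mul]
  rw [key, show -((∑ b : H, f b x) - n * f a x) = -(∑ b : H, f b x) + n * f a x by ring,
    Int.add_mul_ediv_left _ _ hn0]
  ring

end Perm

theorem main (G : Type) [Group G] [Finite G]
    (A : Type) [AddCommGroup A] [Module.Finite ℤ A] (ρ : Representation ℤ G A) :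
    ∃ (Q : Type) (_ : AddCommGroup Q) (P : Type) (_ : AddCommGroup P)
      (_ : Module.Finite ℤ Q) (_ : Module.Free ℤ Q) (_ : Module.Finite ℤ P) (_ : Module.Free ℤ P)
      (σ : Representation ℤ G Q) (τ : Representation ℤ G P) (i : Q →ₗ[ℤ] P) (π : P →ₗ[ℤ] A),
      GLat.IsEquivariant σ τ i ∧ GLat.IsEquivariant τ ρ π ∧ Function.Injective i ∧ Function.Surjective π ∧
      LinearMap.range i = LinearMap.ker π ∧ GLat.IsPermutation τ ∧ GLat.IsCoflasque σ := by
  classical
  obtain ⟨X, hXfin, hX, hspan⟩ := exists_X ρ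
  have : Fintype X := hXfin.fintype
  have hQinv : ∀ g : G, ∀ q ∈ LinearMap.ker (piMap X), tau ρ X hX g q ∈ LinearMap.ker (piMap X) := by
    intro g q hq
    rw [LinearMap.mem_ker] at hq ⊢
    rw [piMap_equiv, hq, map_zero]
  let σ : Representation ℤ G (LinearMap.ker (piMap X)) :=
    { toFun := fun g => (tau ρ X hX g).restrict (hQinv g)
      map_one' := by
        refine LinearMap.ext (fun q => Subtype.ext ?_)
        simp [LinearMap.restrict_apply]
      map_mul' := fun g h => by
        refine LinearMap.ext (fun q => Subtype.ext ?_)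
        simp [LinearMap.restrict_apply, map_mul] }
  have hσ : ∀ g (q : LinearMap.ker (piMap X)), ((σ g q : LinearMap.ker (piMap X)) : X → ℤ) =
      tau ρ X hX g q.1 := fun g q => rfl
  have hfree : Module.Free ℤ (LinearMap.ker (piMap X)) :=
    Module.Free.of_basis (Submodule.basisOfPid (Pi.basisFun ℤ X) (LinearMap.ker (piMap X))).2
  refine ⟨LinearMap.ker (piMap X), inferInstance, X → ℤ, inferInstance, inferInstance, hfree,
    inferInstance, inferInstance, σ, tau ρ X hX, (LinearMap.ker (piMap X)).subtype, piMap X,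
    ?_, ?_, ?_, ?_, ?_, ?_, ?_⟩
  · intro g q; rfl
  · intro g p; exact piMap_equiv ρ X hX g p
  · exact Submodule.injective_subtype _
  · intro a
    have ha : a ∈ inv ρ ⊥ := by
      intro h hh
      rw [Subgroup.mem_bot.1 hh, map_one]; rfl
    obtain ⟨p, -, hp⟩ := exists_inv_lift ρ X hX hspan ⊥ a ha
    exact ⟨p, hp⟩
  · exact Submodule.range_subtype _
  · refine ⟨X, Pi.basisFun ℤ X, fun g x => ⟨act ρ X hX g x, ?_⟩⟩
    rw [Pi.basisFun_apply, Pi.basisFun_apply]
    exact tau_single ρ X hX g x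
  · intro H f hf
    have hf' : ∀ a b : H, (f (a * b)).1 = (f a).1 + tau ρ X hX (a : G) (f b).1 := by
      intro a b
      have := congrArg Subtype.val (hf a b)
      exact this
    obtain ⟨m, hm⟩ := h1_perm ρ X hX H (fun a => (f a).1) hf'
    have hπm : piMap X m ∈ inv ρ H := by
      intro h hh
      rw [← piMap_equiv ρ X hX h m]
      have h1 := hm ⟨h, hh⟩
      have h2 : tau ρ X hX h m = m + (f ⟨h, hh⟩).1 := by
        rw [h1]; abel
      rw [h2, map_add]
      have h3 : piMap X (f ⟨h, hh⟩).1 = 0 := (f ⟨h, hh⟩).2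
      rw [h3, add_zero]
    obtain ⟨p', hp'1, hp'2⟩ := exists_inv_lift ρ X hX hspan H _ hπm
    have hq : m - p' ∈ LinearMap.ker (piMap X) := by
      rw [LinearMap.mem_ker, map_sub, hp'2, sub_self]
    refine ⟨⟨m - p', hq⟩, fun a => Subtype.ext ?_⟩
    rw [Submodule.coe_sub, hσ]
    show (f a).1 = tau ρ X hX (a : G) (m - p') - (m - p')
    rw [map_sub, hp'1 a a.2, hm a]
    abel

end Groth.Agent.H9.GLatA
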