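import Mathlib
import Groth.Prelude.Def_W4c5flasquetoriphsGLat

/-! Helper9: permutation lattices are flasque and coflasque; transfer along equivariant isomorphisms. -/

set_option autoImplicit false
set_option linter.unusedSectionVars false
set_option linter.unusedVariables false

namespace Groth.Agent.H9.GLatB

open Module

variable {G : Type} [Group G] [Finite G]

section Concrete

variable {ι : Type} [Fintype ι] (act : G → ι → ι) (hone : ∀ x, act 1 x = x)
  (hmul : ∀ g h x, act (g * h) x = act g (act h x))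

include hone hmul in
theorem act_inv_act (g : G) (x : ι) : act g⁻¹ (act g x) = x := by
  rw [← hmul, inv_mul_cancel, hone]

include hone hmul in
theorem act_act_inv (g : G) (x : ι) : act g (act g⁻¹ x) = x := by
  rw [← hmul, mul_inv_cancel, hone]

def tauG : Representation ℤ G (ι → ℤ) where
  toFun g := LinearMap.funLeft ℤ ℤ (act g⁻¹)
  map_one' := by
    refine LinearMap.ext (fun p => funext (fun x => ?_))
    simp [LinearMap.funLeft_apply, hone]
  map_mul' g h := by
    refine LinearMap.ext (fun p => funext (fun x => ?_))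
    simp [LinearMap.funLeft_apply, mul_inv_rev, hmul]

theorem tauG_apply (g : G) (p : ι → ℤ) (x : ι) :
    tauG act hone hmul g p x = p (act g⁻¹ x) := rfl

theorem tauG_single [DecidableEq ι] (g : G) (x : ι) :
    tauG act hone hmul g (Pi.single x 1) = Pi.single (act g x) 1 := by
  funext y
  rw [tauG_apply, Pi.single_apply, Pi.single_apply]
  have : (act g⁻¹ y = x) ↔ (y = act g x) := by
    constructor
    · intro h; rw [← h, act_act_inv act hone hmul]
    · intro h; rw [h, act_inv_act act hone hmul]
  simp only [this]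

theorem h1_permG (H : Subgroup G) (f : H → (ι → ℤ))
    (hf : ∀ a b : H, f (a * b) = f a + tauG act hone hmul (a : G) (f b)) :
    ∃ m : ι → ℤ, ∀ a : H, f a = tauG act hone hmul (a : G) m - m := by
  classical
  have : Fintype H := Fintype.ofFinite H
  obtain ⟨n, hn⟩ : ∃ n : ℤ, n = (Fintype.card H : ℤ) := ⟨_, rfl⟩
  have hn0 : n ≠ 0 := by
    rw [hn]
    exact_mod_cast (Fintype.card_pos (α := H)).ne'
  refine ⟨fun x => (-(∑ b : H, f b x)) / n, ?_⟩
  intro a
  funext x
  show f a x = (-(∑ b : H, f b (act ((a : G))⁻¹ x))) / n - (-(∑ b : H, f b x)) / n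
  have h1 : ∀ b : H, f b (act ((a : G))⁻¹ x) = f (a * b) x - f a x := by
    intro b
    have := congrFun (hf a b) x
    have h2 : (tauG act hone hmul (a : G) (f b)) x = f b (act ((a : G))⁻¹ x) := rfl
    rw [Pi.add_apply, h2] at this
    linarith
  have hre : ∑ b : H, f (a * b) x = ∑ b : H, f b x :=
    Equiv.sum_comp (Equiv.mulLeft a) (fun b => f b x)
  have key : ∑ b : H, f b (act ((a : G))⁻¹ x) = (∑ b : H, f b x) - n * f a x := by
    rw [Finset.sum_congr rfl (fun b _ => h1 b), Finset.sum_sub_distrib, hre, Finset.sum_const,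
      Finset.card_univ, hn, nsmul_eq_mul]
  rw [key, show -((∑ b : H, f b x) - n * f a x) = -(∑ b : H, f b x) + n * f a x by ring,
    Int.add_mul_ediv_left _ _ hn0]
  ring

theorem coflasque_tauG : GLat.IsCoflasque (tauG act hone hmul) :=
  fun H f hf => h1_permG act hone hmul H f hf

/-- the norm kills the augmentation generators -/
theorem norm_gen (H : Subgroup G) [Fintype H] {M : Type*} [AddCommGroup M]
    (ρ : Representation ℤ G M) (h : H) (y : M) :
    ∑ h' : H, ρ (h' : G) (ρ (h : G) y - y) = 0 := by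
  simp only [map_sub, Finset.sum_sub_distrib]
  have : ∑ h' : H, ρ (h' : G) (ρ (h : G) y) = ∑ h' : H, ρ (h' : G) y := by
    have := Equiv.sum_comp (Equiv.mulRight h) (fun h' : H => ρ (h' : G) y)
    rw [← this]
    apply Finset.sum_congr rfl
    intro h' _
    show ρ (h' : G) (ρ (h : G) y) = ρ ((h' * h : H) : G) y
    rw [Subgroup.coe_mul, map_mul]; rfl
  rw [this, sub_self]

theorem norm_span (H : Subgroup G) [Fintype H] {M : Type*} [AddCommGroup M]
    (ρ : Representation ℤ G M) (x : M)
    (hx : x ∈ Submodule.span ℤ {x : M | ∃ (h : H) (y : M), x = ρ (h : G) y - y}) :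
    ∑ h' : H, ρ (h' : G) x = 0 := by
  induction hx using Submodule.span_induction with
  | mem x hx =>
    obtain ⟨h, y, rfl⟩ := hx
    exact norm_gen H ρ h y
  | zero => simp
  | add x y _ _ hx hy => simp only [map_add, Finset.sum_add_distrib, hx, hy, add_zero]
  | smul c x _ hx => simp only [map_smul, ← Finset.smul_sum, hx, smul_zero]

theorem hm1_permG (H : Subgroup G) [Fintype H] (p : ι → ℤ)
    (hp : ∑ h : H, tauG act hone hmul (h : G) p = 0) :
    p ∈ Submodule.span ℤ {x : ι → ℤ | ∃ (h : H) (y : ι → ℤ),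
      x = tauG act hone hmul (h : G) y - y} := by
  classical
  let s : Setoid ι :=
    { r := fun x y => ∃ h : H, act (h : G) x = y
      iseqv := ⟨fun x => ⟨1, by simp [hone]⟩,
        fun {x y} ⟨h, hh⟩ => ⟨h⁻¹, by
          rw [← hh, Subgroup.coe_inv, act_inv_act act hone hmul]⟩,
        fun {x y z} ⟨h1, e1⟩ ⟨h2, e2⟩ => ⟨h2 * h1, by
          rw [← e2, ← e1, Subgroup.coe_mul, hmul]⟩⟩ }
  obtain ⟨r, hrdef⟩ : ∃ r : ι → ι, r = fun x => (Quotient.mk s x).out := ⟨_, rfl⟩
  have hr1 : ∀ x, ∃ h : H, act (h : G) (r x) = x := by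
    intro x
    rw [hrdef]
    exact Quotient.exact (Quotient.out_eq (Quotient.mk s x))
  have hr2 : ∀ x y, (∃ h : H, act (h : G) x = y) → r x = r y := by
    intro x y hxy
    rw [hrdef]
    show (Quotient.mk s x).out = (Quotient.mk s y).out
    rw [@Quotient.sound ι s x y hxy]
  have hrr : ∀ x, r (r x) = r x := by
    intro x
    obtain ⟨h, hh⟩ := hr1 x
    exact hr2 (r x) x ⟨h, hh⟩
  obtain ⟨Sp, hSp⟩ : ∃ Sp : Submodule ℤ (ι → ℤ), Sp = Submodule.span ℤ {x : ι → ℤ |
      ∃ (h : H) (y : ι → ℤ), x = tauG act hone hmul (h : G) y - y} := ⟨_, rfl⟩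
  rw [← hSp]
  have step1 : ∀ y : ι, (Pi.single y (1 : ℤ) - Pi.single (r y) (1 : ℤ) : ι → ℤ) ∈ Sp := by
    intro y
    obtain ⟨h, hh⟩ := hr1 y
    rw [hSp]
    apply Submodule.subset_span
    refine ⟨h, Pi.single (r y) 1, ?_⟩
    rw [tauG_single, hh]
  obtain ⟨q, hq⟩ : ∃ q : ι → ℤ, q = ∑ y, p y • (Pi.single (r y) (1 : ℤ) : ι → ℤ) := ⟨_, rfl⟩
  have hpsum : p = ∑ y, p y • (Pi.single y (1 : ℤ) : ι → ℤ) := by
    funext x
    simp [Finset.sum_apply, Pi.single_apply]
  have step2 : p - q ∈ Sp := by
    have : p - q = ∑ y, p y • ((Pi.single y (1 : ℤ) - Pi.single (r y) (1 : ℤ) : ι → ℤ)) := by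
      conv_lhs => rw [hpsum, hq]
      rw [← Finset.sum_sub_distrib]
      apply Finset.sum_congr rfl
      intro y _
      rw [smul_sub]
    rw [this]
    exact Submodule.sum_mem _ (fun y _ => Submodule.smul_mem _ _ (step1 y))
  have hNq : ∑ h : H, tauG act hone hmul (h : G) q = 0 := by
    have h1 := norm_span H (tauG act hone hmul) (p - q) (hSp ▸ step2)
    simp only [map_sub, Finset.sum_sub_distrib, hp, zero_sub, neg_eq_zero] at h1
    exact h1
  have hqx : ∀ x, q x = ∑ y, if r y = x then p y else 0 := by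
    intro x
    rw [hq]
    simp only [Finset.sum_apply, Pi.smul_apply, Pi.single_apply, smul_eq_mul, mul_ite, mul_one,
      mul_zero]
    apply Finset.sum_congr rfl
    intro y _
    by_cases h : r y = x
    · simp [h]
    · have h' : ¬ x = r y := fun e => h e.symm
      simp [h, h']
  have hq_nonrep : ∀ x, r x ≠ x → q x = 0 := by
    intro x hx
    rw [hqx]
    apply Finset.sum_eq_zero
    intro y _
    by_cases h : r y = x
    · exfalso; apply hx; rw [← h, hrr]
    · simp [h]
  have hq0 : ∀ x, q x = 0 := by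
    intro x
    by_cases hx : r x = x
    · have h1 := congrFun hNq x
      rw [Finset.sum_apply] at h1
      have h2 : ∀ h : H, tauG act hone hmul (h : G) q x =
          if act ((h : G))⁻¹ x = x then q x else 0 := by
        intro h
        rw [tauG_apply]
        by_cases hz : act ((h : G))⁻¹ x = x
        · rw [if_pos hz, hz]
        · rw [if_neg hz]
          apply hq_nonrep
          have : r (act ((h : G))⁻¹ x) = r x :=
            hr2 _ _ ⟨h, act_act_inv act hone hmul _ _⟩
          rw [this, hx]
          exact fun e => hz e.symm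
      rw [Finset.sum_congr rfl (fun h _ => h2 h), Finset.sum_ite, Finset.sum_const_zero,
        add_zero, Finset.sum_const, nsmul_eq_mul] at h1
      have hpos : ((Finset.univ.filter fun h : H => act ((h : G))⁻¹ x = x).card : ℤ) ≠ 0 := by
        have : (1 : H) ∈ Finset.univ.filter fun h : H => act ((h : G))⁻¹ x = x := by
          simp [hone]
        exact_mod_cast (Finset.card_pos.2 ⟨1, this⟩).ne'
      exact (mul_eq_zero.1 h1).resolve_left hpos
    · exact hq_nonrep x hx
  have : q = 0 := funext hq0
  rw [this, sub_zero] at step2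
  exact step2

theorem flasque_tauG : GLat.IsFlasque (tauG act hone hmul) := by
  intro H m hm
  have : Fintype H := Fintype.ofFinite H
  rw [finsum_eq_sum_of_fintype] at hm
  exact hm1_permG act hone hmul H m hm

end Concrete

section Transfer

variable {M N : Type*} [AddCommGroup M] [AddCommGroup N]

theorem coflasque_of_equiv (ρ : Representation ℤ G M) (σ : Representation ℤ G N)
    (e : M ≃ₗ[ℤ] N) (he : ∀ g m, e (ρ g m) = σ g (e m)) (h : GLat.IsCoflasque σ) :
    GLat.IsCoflasque ρ := by
  intro H f hf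
  obtain ⟨n, hn⟩ := h H (fun a => e (f a)) (fun a b => by rw [hf, map_add, he])
  refine ⟨e.symm n, fun a => ?_⟩
  apply e.injective
  rw [hn a, map_sub, he, e.apply_symm_apply]

theorem flasque_of_equiv (ρ : Representation ℤ G M) (σ : Representation ℤ G N)
    (e : M ≃ₗ[ℤ] N) (he : ∀ g m, e (ρ g m) = σ g (e m)) (h : GLat.IsFlasque σ) :
    GLat.IsFlasque ρ := by
  intro H m hm
  have : Fintype H := Fintype.ofFinite H
  rw [finsum_eq_sum_of_fintype] at hm
  have hm' : ∑ᶠ h : H, σ (h : G) (e m) = 0 := by
    rw [finsum_eq_sum_of_fintype]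
    have := congrArg e hm
    rw [map_sum, map_zero] at this
    rw [← this]
    exact Finset.sum_congr rfl (fun h _ => (he _ _).symm)
  have h1 := h H (e m) hm'
  have h2 : e.symm (e m) ∈ Submodule.map e.symm.toLinearMap
      (Submodule.span ℤ {x : N | ∃ (h : H) (y : N), x = σ (h : G) y - y}) :=
    Submodule.mem_map_of_mem h1
  rw [e.symm_apply_apply, Submodule.map_span] at h2
  refine Submodule.span_mono ?_ h2
  rintro _ ⟨x, ⟨h, y, rfl⟩, rfl⟩
  refine ⟨h, e.symm y, ?_⟩
  apply e.injective
  simp [he]

end Transfer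

section Abstract

variable {P : Type} [AddCommGroup P] [Module.Finite ℤ P]

theorem perm_concrete (τ : Representation ℤ G P) (hperm : GLat.IsPermutation τ) :
    ∃ (ι : Type) (_ : Fintype ι) (act : G → ι → ι) (hone : ∀ x, act 1 x = x)
      (hmul : ∀ g h x, act (g * h) x = act g (act h x)) (e : P ≃ₗ[ℤ] (ι → ℤ)),
      ∀ g p, e (τ g p) = tauG act hone hmul g (e p) := by
  classical
  obtain ⟨ι, b, hb⟩ := hperm
  have : Finite ι := Module.Finite.finite_basis b
  have : Fintype ι := Fintype.ofFinite ι
  choose act hact using hb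
  have hone : ∀ x, act 1 x = x := by
    intro x
    apply b.injective
    rw [← hact, map_one]; rfl
  have hmul : ∀ g h x, act (g * h) x = act g (act h x) := by
    intro g h x
    apply b.injective
    rw [← hact, map_mul, ← hact, ← hact]; rfl
  refine ⟨ι, inferInstance, act, hone, hmul, b.equivFun, ?_⟩
  intro g p
  have hself : ∀ i, b.equivFun (b i) = Pi.single i (1 : ℤ) := by
    intro i
    funext j
    rw [Basis.equivFun_self, Pi.single_apply]
    by_cases h : i = j
    · simp [h]
    · have h' : ¬ j = i := fun e => h e.symm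
      simp [h, h']
  have : (b.equivFun.toLinearMap ∘ₗ τ g) = (tauG act hone hmul g ∘ₗ b.equivFun.toLinearMap) := by
    apply b.ext
    intro i
    simp only [LinearMap.comp_apply, LinearEquiv.coe_coe]
    rw [hact, hself, hself, tauG_single]
  exact LinearMap.congr_fun this p

theorem coflasque_of_perm (τ : Representation ℤ G P) (hperm : GLat.IsPermutation τ) :
    GLat.IsCoflasque τ := by
  obtain ⟨ι, _, act, hone, hmul, e, he⟩ := perm_concrete τ hperm
  exact coflasque_of_equiv τ _ e he (coflasque_tauG act hone hmul)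

theorem flasque_of_perm (τ : Representation ℤ G P) (hperm : GLat.IsPermutation τ) :
    GLat.IsFlasque τ := by
  obtain ⟨ι, _, act, hone, hmul, e, he⟩ := perm_concrete τ hperm
  exact flasque_of_equiv τ _ e he (flasque_tauG act hone hmul)

end Abstract

end Groth.Agent.H9.GLatB
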