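import Mathlib
import Groth.Prelude.Def_W4c5flasquetoriphsGLat
import Groth.Agent.Lib.Helper9.Misc.GLatA
import Groth.Agent.Lib.Helper9.Misc.GLatB

/-! Helper9: flasque resolution of a G-lattice (S18686). -/

set_option autoImplicit false
set_option linter.unusedSectionVars false
set_option linter.unusedVariables false

namespace Groth.Agent.H9.GLatC

open Module

variable {G : Type} [Group G] [Finite G]

theorem dvd_of_dual {M : Type*} [AddCommGroup M] [Module.Finite ℤ M] [Module.Free ℤ M]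
    (n : ℤ) (x : M) (h : ∀ φ : Module.Dual ℤ M, n ∣ φ x) : ∃ y : M, x = n • y := by
  classical
  obtain ⟨bb, -⟩ : ∃ bb : Basis (Module.Free.ChooseBasisIndex ℤ M) ℤ M, bb = bb :=
    ⟨Module.Free.chooseBasis ℤ M, rfl⟩
  have hc : ∀ j, ∃ c : ℤ, bb.repr x j = n * c := fun j => h (bb.coord j)
  choose c hc using hc
  refine ⟨∑ j, c j • bb j, ?_⟩
  conv_lhs => rw [← bb.sum_repr x]
  rw [Finset.smul_sum]
  apply Finset.sum_congr rfl
  intro j _
  rw [hc j, mul_smul]

theorem dvd_span {A : Type*} [AddCommGroup A] (S : Set (Module.Dual ℤ A)) (a : A) (n : ℤ)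
    (h : ∀ l ∈ S, n ∣ l a) (μ : Module.Dual ℤ A) (hμ : μ ∈ Submodule.span ℤ S) : n ∣ μ a := by
  induction hμ using Submodule.span_induction with
  | mem l hl => exact h l hl
  | zero => simp
  | add x y _ _ hx hy => simpa using dvd_add hx hy
  | smul c x _ hx => simpa using Dvd.dvd.mul_left hx c

theorem norm_lemma {A : Type*} [AddCommGroup A] [Module.Finite ℤ A] [Module.Free ℤ A]
    (ρ : Representation ℤ G A) (H : Subgroup G) [Fintype H] (a : A)
    (ha : ∀ h ∈ H, ρ h a = a)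
    (hdiv : ∀ μ : Module.Dual ℤ A, (∀ h ∈ H, ∀ y, μ (ρ h y) = μ y) →
      (Fintype.card H : ℤ) ∣ μ a) :
    ∃ b : A, ∑ h : H, ρ (h : G) b = a := by
  classical
  obtain ⟨n, hn⟩ : ∃ n : ℤ, n = (Fintype.card H : ℤ) := ⟨_, rfl⟩
  have hn0 : n ≠ 0 := by
    rw [hn]
    exact_mod_cast (Fintype.card_pos (α := H)).ne'
  obtain ⟨I, hI⟩ : ∃ I : Submodule ℤ A,
      I = Submodule.span ℤ {x | ∃ (h : H) (y : A), x = ρ (h : G) y - y} := ⟨_, rfl⟩
  let K : Submodule ℤ A :=
    { carrier := {x | ∃ k : ℤ, k ≠ 0 ∧ k • x ∈ I}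
      add_mem' := by
        rintro x y ⟨k1, hk1, h1⟩ ⟨k2, hk2, h2⟩
        refine ⟨k1 * k2, mul_ne_zero hk1 hk2, ?_⟩
        have : (k1 * k2) • (x + y) = k2 • (k1 • x) + k1 • (k2 • y) := by
          rw [smul_add, mul_smul, mul_smul, smul_comm k1 k2 x]
        rw [this]
        exact I.add_mem (I.smul_mem _ h1) (I.smul_mem _ h2)
      zero_mem' := ⟨1, one_ne_zero, by simp⟩
      smul_mem' := by
        rintro c x ⟨k, hk, h⟩
        exact ⟨k, hk, by rw [smul_comm]; exact I.smul_mem _ h⟩ }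
  have hKmem : ∀ x, x ∈ K ↔ ∃ k : ℤ, k ≠ 0 ∧ k • x ∈ I := fun x => Iff.rfl
  have hIK : I ≤ K := fun x hx => (hKmem x).2 ⟨1, one_ne_zero, by rwa [one_smul]⟩
  have htf : Module.IsTorsionFree ℤ (A ⧸ K) := by
    apply Module.IsTorsionFree.of_smul_eq_zero
    intro r m hrm
    by_cases hr : r = 0
    · exact Or.inl hr
    · right
      obtain ⟨x, rfl⟩ := Submodule.Quotient.mk_surjective K m
      rw [← Submodule.Quotient.mk_smul, Submodule.Quotient.mk_eq_zero, hKmem] at hrm
      obtain ⟨k, hk, hkx⟩ := hrm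
      rw [Submodule.Quotient.mk_eq_zero, hKmem]
      exact ⟨k * r, mul_ne_zero hk hr, by rw [mul_smul]; exact hkx⟩
  have hdivB : ∀ φ : Module.Dual ℤ (A ⧸ K), n ∣ φ (Submodule.Quotient.mk a) := by
    intro φ
    have := hdiv (φ ∘ₗ K.mkQ) (by
      intro h hh y
      simp only [LinearMap.comp_apply, Submodule.mkQ_apply]
      congr 1
      rw [Submodule.Quotient.eq]
      apply hIK
      rw [hI]
      exact Submodule.subset_span ⟨⟨h, hh⟩, y, rfl⟩)
    rw [hn]; exact this
  obtain ⟨ybar, hy⟩ := dvd_of_dual n (Submodule.Quotient.mk a : A ⧸ K) hdivB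
  obtain ⟨b, rfl⟩ := Submodule.Quotient.mk_surjective K ybar
  have hK : a - n • b ∈ K := by
    rw [← Submodule.Quotient.eq, hy, Submodule.Quotient.mk_smul]
  have hNK : ∀ x ∈ K, ∑ h : H, ρ (h : G) x = 0 := by
    intro x hx
    obtain ⟨k, hk, hkx⟩ := (hKmem x).1 hx
    rw [hI] at hkx
    have h1 := GLatB.norm_span H ρ (k • x) hkx
    simp only [map_smul, ← Finset.smul_sum] at h1
    exact (smul_eq_zero.1 h1).resolve_left hk
  have h1 := hNK _ hK
  simp only [map_sub, map_smul, Finset.sum_sub_distrib, ← Finset.smul_sum] at h1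
  have h2 : ∑ h : H, ρ (h : G) a = n • a := by
    rw [Finset.sum_congr rfl (fun (h : H) _ => ha (h : G) h.2), Finset.sum_const, Finset.card_univ, hn]
    simp
  rw [h2, ← smul_sub, smul_eq_zero] at h1
  refine ⟨b, ?_⟩
  have := h1.resolve_left hn0
  exact (sub_eq_zero.1 this).symm

theorem main (G : Type) [Group G] [Finite G]
    (A : Type) [AddCommGroup A] [Module.Finite ℤ A] [Module.Free ℤ A] (ρ : Representation ℤ G A) :
    ∃ (P : Type) (_ : AddCommGroup P) (F : Type) (_ : AddCommGroup F)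
      (_ : Module.Finite ℤ P) (_ : Module.Free ℤ P) (_ : Module.Finite ℤ F) (_ : Module.Free ℤ F)
      (σ : Representation ℤ G P) (τ : Representation ℤ G F) (i : A →ₗ[ℤ] P) (π : P →ₗ[ℤ] F),
      GLat.IsEquivariant ρ σ i ∧ GLat.IsEquivariant σ τ π ∧ Function.Injective i ∧ Function.Surjective π ∧
      LinearMap.range i = LinearMap.ker π ∧ GLat.IsPermutation σ ∧ GLat.IsFlasque τ := by
  classical
  obtain ⟨X, hXfin, hX, hspan⟩ := GLatA.exists_X (ρ.dual)
  have : Fintype X := hXfin.fintype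
  obtain ⟨σ, hσdef⟩ : ∃ σ : Representation ℤ G (X → ℤ), σ = GLatA.tau ρ.dual X hX := ⟨_, rfl⟩
  have hσapp : ∀ g (p : X → ℤ) (l : X), σ g p l = p (GLatA.act ρ.dual X hX g⁻¹ l) := by
    intro g p l; rw [hσdef]; rfl
  have hdual : ∀ g (l : Module.Dual ℤ A) (y : A), (ρ.dual g l) y = l (ρ g⁻¹ y) := by
    intro g l y
    rw [Representation.dual_apply]; rfl
  obtain ⟨i, hidef⟩ : ∃ i : A →ₗ[ℤ] (X → ℤ),
      i = LinearMap.pi (fun l : X => (l : Module.Dual ℤ A)) := ⟨_, rfl⟩
  have hi : ∀ a (l : X), i a l = (l : Module.Dual ℤ A) a := by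
    intro a l; rw [hidef]; rfl
  have hequiv : ∀ g a, i (ρ g a) = σ g (i a) := by
    intro g a
    funext l
    rw [hσapp, hi, hi]
    show (l : Module.Dual ℤ A) (ρ g a) = (ρ.dual g⁻¹ (l : Module.Dual ℤ A)) a
    rw [hdual, inv_inv]
  have hXtop : ∀ μ : Module.Dual ℤ A, μ ∈ Submodule.span ℤ X := by
    intro μ
    have hμ : μ ∈ GLatA.inv ρ.dual ⊥ := by
      intro h hh
      rw [Subgroup.mem_bot.1 hh, map_one]; rfl
    exact Submodule.span_mono Set.inter_subset_left (hspan ⊥ hμ)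
  have hdvdall : ∀ (a : A) (n : ℤ), (∀ l : X, n ∣ i a l) → ∀ μ : Module.Dual ℤ A, n ∣ μ a := by
    intro a n h μ
    exact dvd_span (X : Set (Module.Dual ℤ A)) a n (fun l hl => by
      have := h ⟨l, hl⟩; rwa [hi] at this) μ (hXtop μ)
  have hinj : Function.Injective i := by
    rw [injective_iff_map_eq_zero]
    intro a ha
    have : ∀ μ : Module.Dual ℤ A, (0 : ℤ) ∣ μ a :=
      hdvdall a 0 (fun l => by rw [ha]; simp)
    obtain ⟨y, hy⟩ := dvd_of_dual 0 a this
    rw [hy, zero_smul]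
  obtain ⟨N, hN⟩ : ∃ N : Submodule ℤ (X → ℤ), N = LinearMap.range i := ⟨_, rfl⟩
  have hNmem : ∀ p, p ∈ N ↔ ∃ a, i a = p := by
    intro p; rw [hN]; exact LinearMap.mem_range
  have htf : Module.IsTorsionFree ℤ ((X → ℤ) ⧸ N) := by
    apply Module.IsTorsionFree.of_smul_eq_zero
    intro r m hrm
    by_cases hr : r = 0
    · exact Or.inl hr
    · right
      obtain ⟨p, rfl⟩ := Submodule.Quotient.mk_surjective N m
      rw [← Submodule.Quotient.mk_smul, Submodule.Quotient.mk_eq_zero, hNmem] at hrm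
      obtain ⟨a, ha⟩ := hrm
      have h1 : ∀ μ : Module.Dual ℤ A, r ∣ μ a :=
        hdvdall a r (fun l => by rw [ha]; exact ⟨p l, rfl⟩)
      obtain ⟨a', ha'⟩ := dvd_of_dual r a h1
      rw [Submodule.Quotient.mk_eq_zero, hNmem]
      refine ⟨a', ?_⟩
      have : r • i a' = r • p := by rw [← map_smul, ← ha', ha]
      exact smul_right_injective _ hr this
  have hfreeF : Module.Free ℤ ((X → ℤ) ⧸ N) := inferInstance
  have hNinv : ∀ g, N ≤ N.comap (σ g) := by
    intro g p hp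
    obtain ⟨a, rfl⟩ := (hNmem p).1 hp
    exact (hNmem _).2 ⟨ρ g a, hequiv g a⟩
  let τ : Representation ℤ G ((X → ℤ) ⧸ N) :=
    { toFun := fun g => N.mapQ N (σ g) (hNinv g)
      map_one' := by
        refine LinearMap.ext (fun f => ?_)
        obtain ⟨p, rfl⟩ := Submodule.Quotient.mk_surjective N f
        simp [Submodule.mapQ_apply]
      map_mul' := fun g h => by
        refine LinearMap.ext (fun f => ?_)
        obtain ⟨p, rfl⟩ := Submodule.Quotient.mk_surjective N f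
        simp [Submodule.mapQ_apply, map_mul] }
  have hτ : ∀ g p, τ g (Submodule.Quotient.mk p) = Submodule.Quotient.mk (σ g p) :=
    fun g p => rfl
  have hperm : GLat.IsPermutation σ := by
    refine ⟨X, Pi.basisFun ℤ X, fun g x => ⟨GLatA.act ρ.dual X hX g x, ?_⟩⟩
    rw [Pi.basisFun_apply, Pi.basisFun_apply, hσdef]
    exact GLatA.tau_single ρ.dual X hX g x
  refine ⟨X → ℤ, inferInstance, (X → ℤ) ⧸ N, inferInstance, inferInstance, inferInstance,
    inferInstance, hfreeF, σ, τ, i, N.mkQ, ?_, ?_, hinj, Submodule.mkQ_surjective N, ?_, hperm, ?_⟩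
  · intro g a; exact hequiv g a
  · intro g p; rfl
  · rw [Submodule.ker_mkQ, hN]
  · intro H f hf
    have : Fintype H := Fintype.ofFinite H
    rw [finsum_eq_sum_of_fintype] at hf
    obtain ⟨p, rfl⟩ := Submodule.Quotient.mk_surjective N f
    have h0 : (Submodule.Quotient.mk (∑ h : H, σ (h : G) p) : (X → ℤ) ⧸ N) = 0 := by
      rw [← hf]
      exact map_sum N.mkQ (fun h : H => σ (h : G) p) Finset.univ
    rw [Submodule.Quotient.mk_eq_zero, hNmem] at h0
    obtain ⟨a, ha⟩ := h0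
    have hainv : ∀ h ∈ H, ρ h a = a := by
      intro h hh
      apply hinj
      rw [hequiv, ha, map_sum]
      have := Equiv.sum_comp (Equiv.mulLeft (⟨h, hh⟩ : H)) (fun h' : H => σ (h' : G) p)
      rw [← this]
      apply Finset.sum_congr rfl
      intro h' _
      show σ h (σ (h' : G) p) = σ (((⟨h, hh⟩ : H) * h' : H) : G) p
      rw [Subgroup.coe_mul, map_mul]; rfl
    have hdiv : ∀ μ : Module.Dual ℤ A, (∀ h ∈ H, ∀ y, μ (ρ h y) = μ y) →
        (Fintype.card H : ℤ) ∣ μ a := by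
      intro μ hμ
      have hμinv : μ ∈ GLatA.inv ρ.dual H := by
        intro h hh
        apply LinearMap.ext
        intro y
        rw [hdual]
        exact hμ h⁻¹ (H.inv_mem hh) y
      refine dvd_span _ a _ ?_ μ (hspan H hμinv)
      rintro l ⟨hlX, hlinv⟩
      refine ⟨p ⟨l, hlX⟩, ?_⟩
      have h1 : l a = i a ⟨l, hlX⟩ := (hi a ⟨l, hlX⟩).symm
      rw [h1, ha, Finset.sum_apply]
      have h2 : ∀ h : H, σ (h : G) p ⟨l, hlX⟩ = p ⟨l, hlX⟩ := by
        intro h
        rw [hσapp]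
        congr 1
        apply Subtype.ext
        show ρ.dual ((h : G))⁻¹ l = l
        exact (GLatA.mem_inv ρ.dual H l).1 hlinv _ (H.inv_mem h.2)
      rw [Finset.sum_congr rfl (fun h _ => h2 h), Finset.sum_const, Finset.card_univ,
        nsmul_eq_mul]
    obtain ⟨b, hb⟩ := norm_lemma ρ H a hainv hdiv
    have hp' : ∑ h : H, σ (h : G) (p - i b) = 0 := by
      simp only [map_sub, Finset.sum_sub_distrib]
      rw [← ha, ← hb, map_sum, sub_eq_zero]
      exact Finset.sum_congr rfl (fun h _ => hequiv _ _)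
    have hfl := GLatB.flasque_of_perm σ hperm H (p - i b)
      (by rw [finsum_eq_sum_of_fintype]; exact hp')
    have hmk : (Submodule.Quotient.mk p : (X → ℤ) ⧸ N) = N.mkQ (p - i b) := by
      rw [Submodule.mkQ_apply, Submodule.Quotient.mk_sub]
      have : (Submodule.Quotient.mk (i b) : (X → ℤ) ⧸ N) = 0 := by
        rw [Submodule.Quotient.mk_eq_zero, hNmem]; exact ⟨b, rfl⟩
      rw [this, sub_zero]
    rw [hmk]
    have h3 := Submodule.mem_map_of_mem (f := N.mkQ) hfl
    rw [Submodule.map_span] at h3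
    refine Submodule.span_mono ?_ h3
    rintro _ ⟨x, ⟨h, y, rfl⟩, rfl⟩
    exact ⟨h, N.mkQ y, by rw [map_sub]; rfl⟩

end Groth.Agent.H9.GLatC
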