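import Mathlib
import Groth.Prelude.Def_W4c5flasquetoriphsGLat
import Groth.Agent.Lib.Helper9.Misc.GLatA
import Groth.Agent.Lib.Helper9.Misc.GLatB
import Groth.Agent.Lib.Helper9.Misc.GLatC

/-! Helper9: flasque resolution of a f.g. G-module (S18685) and coflasque resolution of a lattice
(S18687), via pushout / pullback of the resolutions of GLatA and GLatC. -/

set_option autoImplicit false
set_option linter.unusedSectionVars false
set_option linter.unusedVariables false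

namespace Groth.Agent.H9.GLatD

open Module

variable {G : Type} [Group G] [Finite G]

theorem flasque_of_exact {M' M M'' : Type*} [AddCommGroup M'] [AddCommGroup M] [AddCommGroup M'']
    (ρ' : Representation ℤ G M') (ρ : Representation ℤ G M) (ρ'' : Representation ℤ G M'')
    (i : M' →ₗ[ℤ] M) (π : M →ₗ[ℤ] M'')
    (hi : ∀ g m, i (ρ' g m) = ρ g (i m)) (hπ : ∀ g m, π (ρ g m) = ρ'' g (π m))
    (hinj : Function.Injective i) (hsurj : Function.Surjective π)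
    (hex : ∀ m, π m = 0 → ∃ m', i m' = m)
    (h' : GLat.IsFlasque ρ') (h'' : GLat.IsFlasque ρ'') : GLat.IsFlasque ρ := by
  intro H m hm
  have : Fintype H := Fintype.ofFinite H
  rw [finsum_eq_sum_of_fintype] at hm
  have h1 : ∑ᶠ h : H, ρ'' (h : G) (π m) = 0 := by
    rw [finsum_eq_sum_of_fintype]
    have := congrArg π hm
    rw [map_sum, map_zero] at this
    rw [← this]
    exact Finset.sum_congr rfl (fun h _ => (hπ _ _).symm)
  have h2 := h'' H (π m) h1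
  have h3 : π m ∈ Submodule.map π
      (Submodule.span ℤ {x : M | ∃ (h : H) (y : M), x = ρ (h : G) y - y}) := by
    rw [Submodule.map_span]
    refine Submodule.span_mono ?_ h2
    rintro _ ⟨h, y'', rfl⟩
    obtain ⟨y, rfl⟩ := hsurj y''
    exact ⟨ρ (h : G) y - y, ⟨h, y, rfl⟩, by rw [map_sub, hπ]⟩
  obtain ⟨m₀, hm₀, hm₀π⟩ := h3
  have h4 : π (m - m₀) = 0 := by rw [map_sub, hm₀π, sub_self]
  obtain ⟨m', hm'⟩ := hex _ h4
  have h5 : ∑ h : H, ρ (h : G) m₀ = 0 := GLatB.norm_span H ρ m₀ hm₀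
  have h6 : ∑ᶠ h : H, ρ' (h : G) m' = 0 := by
    rw [finsum_eq_sum_of_fintype]
    apply hinj
    rw [map_sum, map_zero]
    have hh : ∀ h : H, i (ρ' (h : G) m') = ρ (h : G) m - ρ (h : G) m₀ := by
      intro h; rw [hi, hm', map_sub]
    rw [Finset.sum_congr rfl (fun h _ => hh h), Finset.sum_sub_distrib, hm, h5, sub_zero]
  have h7 := h' H m' h6
  have h8 : i m' ∈ Submodule.map i
      (Submodule.span ℤ {x : M' | ∃ (h : H) (y : M'), x = ρ' (h : G) y - y}) :=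
    Submodule.mem_map_of_mem h7
  rw [Submodule.map_span] at h8
  have h9 : i m' ∈ Submodule.span ℤ {x : M | ∃ (h : H) (y : M), x = ρ (h : G) y - y} := by
    refine Submodule.span_mono ?_ h8
    rintro _ ⟨x, ⟨h, y, rfl⟩, rfl⟩
    exact ⟨h, i y, by rw [map_sub, hi]⟩
  have hmm : m = m₀ + i m' := by rw [hm']; abel
  rw [hmm]
  exact Submodule.add_mem _ hm₀ h9

theorem coflasque_of_exact {M' M M'' : Type*} [AddCommGroup M'] [AddCommGroup M] [AddCommGroup M'']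
    (ρ' : Representation ℤ G M') (ρ : Representation ℤ G M) (ρ'' : Representation ℤ G M'')
    (i : M' →ₗ[ℤ] M) (π : M →ₗ[ℤ] M'')
    (hi : ∀ g m, i (ρ' g m) = ρ g (i m)) (hπ : ∀ g m, π (ρ g m) = ρ'' g (π m))
    (hinj : Function.Injective i) (hsurj : Function.Surjective π)
    (hex : ∀ m, π m = 0 → ∃ m', i m' = m)
    (h' : GLat.IsCoflasque ρ') (h'' : GLat.IsCoflasque ρ'') : GLat.IsCoflasque ρ := by
  intro H f hf
  obtain ⟨m'', hm''⟩ := h'' H (fun a => π (f a)) (fun a b => by rw [hf, map_add, hπ])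
  obtain ⟨m, rfl⟩ := hsurj m''
  have h0 : ∀ a : H, π (f a) = ρ'' (a : G) (π m) - π m := hm''
  have h1 : ∀ a : H, π (f a - (ρ (a : G) m - m)) = 0 := by
    intro a
    rw [map_sub, map_sub, hπ, h0 a, sub_self]
  choose g hg using fun a => hex _ (h1 a)
  have hgc : ∀ a b : H, g (a * b) = g a + ρ' (a : G) (g b) := by
    intro a b
    apply hinj
    rw [map_add, hi, hg, hg, hg, hf, Subgroup.coe_mul, map_mul]
    simp only [map_sub, Module.End.mul_apply]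
    abel
  obtain ⟨m', hm'⟩ := h' H g hgc
  refine ⟨m + i m', fun a => ?_⟩
  have h2 := hg a
  rw [hm' a, map_sub, hi] at h2
  have e : f a = (ρ (a : G) (i m') - i m') + (ρ (a : G) m - m) := by rw [h2]; abel
  rw [e, map_add]; abel

theorem torsionFree_of_exact {M' M M'' : Type*} [AddCommGroup M'] [AddCommGroup M]
    [AddCommGroup M''] (i : M' →ₗ[ℤ] M) (π : M →ₗ[ℤ] M'') (hinj : Function.Injective i)
    (hex : ∀ m, π m = 0 → ∃ m', i m' = m)
    [Module.IsTorsionFree ℤ M'] [Module.IsTorsionFree ℤ M''] :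
    Module.IsTorsionFree ℤ M := by
  apply Module.IsTorsionFree.of_smul_eq_zero
  intro r m hrm
  by_cases hr : r = 0
  · exact Or.inl hr
  · right
    have h1 : r • π m = 0 := by rw [← map_smul, hrm, map_zero]
    have h2 : π m = 0 := (smul_eq_zero.1 h1).resolve_left hr
    obtain ⟨m', rfl⟩ := hex m h2
    have h3 : i (r • m') = 0 := by rw [map_smul, hrm]
    have h4 : r • m' = 0 := by
      apply hinj; rw [h3, map_zero]
    rw [(smul_eq_zero.1 h4).resolve_left hr, map_zero]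

theorem main85 (G : Type) [Group G] [Finite G]
    (A : Type) [AddCommGroup A] [Module.Finite ℤ A] (ρ : Representation ℤ G A) :
    ∃ (P : Type) (_ : AddCommGroup P) (F : Type) (_ : AddCommGroup F)
      (_ : Module.Finite ℤ P) (_ : Module.Free ℤ P) (_ : Module.Finite ℤ F) (_ : Module.Free ℤ F)
      (σ : Representation ℤ G P) (τ : Representation ℤ G F) (i : P →ₗ[ℤ] F) (π : F →ₗ[ℤ] A),
      GLat.IsEquivariant σ τ i ∧ GLat.IsEquivariant τ ρ π ∧ Function.Injective i ∧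
      Function.Surjective π ∧
      LinearMap.range i = LinearMap.ker π ∧ GLat.IsPermutation σ ∧ GLat.IsFlasque τ := by
  classical
  obtain ⟨Q, _, P₁, _, _, _, _, _, σQ, τ₁, i₁, π₁, hi₁, hπ₁, hinj₁, hsurj₁, hex₁, hperm₁, -⟩ :=
    GLatA.main G A ρ
  obtain ⟨P₂, _, F₂, _, _, _, _, _, σ₂, τ₂, i₂, π₂, hi₂, hπ₂, hinj₂, hsurj₂, hex₂, hperm₂, hfl₂⟩ :=
    GLatC.main G Q σQ
  have hπi₁ : ∀ q, π₁ (i₁ q) = 0 := by
    intro q
    have : i₁ q ∈ LinearMap.ker π₁ := by rw [← hex₁]; exact ⟨q, rfl⟩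
    exact this
  have hπi₂ : ∀ q, π₂ (i₂ q) = 0 := by
    intro q
    have : i₂ q ∈ LinearMap.ker π₂ := by rw [← hex₂]; exact ⟨q, rfl⟩
    exact this
  obtain ⟨S, hS⟩ : ∃ S : Submodule ℤ (P₁ × P₂), S = LinearMap.range (i₁.prod (-i₂)) := ⟨_, rfl⟩
  have hSmem : ∀ x : P₁ × P₂, x ∈ S ↔ ∃ q, (i₁ q, -i₂ q) = x := by
    intro x; rw [hS, LinearMap.mem_range]; rfl
  have hSinv : ∀ g, S ≤ S.comap ((τ₁ g).prodMap (σ₂ g)) := by
    intro g x hx
    obtain ⟨q, rfl⟩ := (hSmem x).1 hx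
    rw [Submodule.mem_comap, hSmem]
    refine ⟨σQ g q, ?_⟩
    show (i₁ (σQ g q), -i₂ (σQ g q)) = (τ₁ g (i₁ q), σ₂ g (-i₂ q))
    rw [hi₁ g q, hi₂ g q, map_neg]
  let τF : Representation ℤ G ((P₁ × P₂) ⧸ S) :=
    { toFun := fun g => S.mapQ S ((τ₁ g).prodMap (σ₂ g)) (hSinv g)
      map_one' := by
        refine LinearMap.ext (fun f => ?_)
        obtain ⟨p, rfl⟩ := Submodule.Quotient.mk_surjective S f
        simp [Submodule.mapQ_apply]
      map_mul' := fun g h => by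
        refine LinearMap.ext (fun f => ?_)
        obtain ⟨p, rfl⟩ := Submodule.Quotient.mk_surjective S f
        simp [Submodule.mapQ_apply, map_mul] }
  have hτF : ∀ g (p : P₁ × P₂), τF g (Submodule.Quotient.mk p) =
      Submodule.Quotient.mk (τ₁ g p.1, σ₂ g p.2) := fun g p => rfl
  have hmk0 : ∀ p : P₁ × P₂, (Submodule.Quotient.mk p : (P₁ × P₂) ⧸ S) = 0 ↔
      ∃ q, (i₁ q, -i₂ q) = p := by
    intro p; rw [Submodule.Quotient.mk_eq_zero, hSmem]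
  -- the four maps
  obtain ⟨i, hidef⟩ : ∃ i : P₂ →ₗ[ℤ] (P₁ × P₂) ⧸ S, i = S.mkQ ∘ₗ LinearMap.inr ℤ P₁ P₂ := ⟨_, rfl⟩
  have hiapp : ∀ p₂, i p₂ = Submodule.Quotient.mk ((0 : P₁), p₂) := by
    intro p₂; rw [hidef]; rfl
  obtain ⟨j, hjdef⟩ : ∃ j : P₁ →ₗ[ℤ] (P₁ × P₂) ⧸ S, j = S.mkQ ∘ₗ LinearMap.inl ℤ P₁ P₂ := ⟨_, rfl⟩
  have hjapp : ∀ p₁, j p₁ = Submodule.Quotient.mk (p₁, (0 : P₂)) := by
    intro p₁; rw [hjdef]; rfl
  obtain ⟨π, hπdef⟩ : ∃ π : (P₁ × P₂) ⧸ S →ₗ[ℤ] A,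
      π = S.liftQ (π₁ ∘ₗ LinearMap.fst ℤ P₁ P₂) (by
        intro x hx
        obtain ⟨q, rfl⟩ := (hSmem x).1 hx
        rw [LinearMap.mem_ker]
        exact hπi₁ q) := ⟨_, rfl⟩
  have hπapp : ∀ p : P₁ × P₂, π (Submodule.Quotient.mk p) = π₁ p.1 := by
    intro p; rw [hπdef]; rfl
  obtain ⟨ϖ, hϖdef⟩ : ∃ ϖ : (P₁ × P₂) ⧸ S →ₗ[ℤ] F₂,
      ϖ = S.liftQ (π₂ ∘ₗ LinearMap.snd ℤ P₁ P₂) (by
        intro x hx
        obtain ⟨q, rfl⟩ := (hSmem x).1 hx
        rw [LinearMap.mem_ker]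
        show π₂ (-i₂ q) = 0
        rw [map_neg, hπi₂ q, neg_zero]) := ⟨_, rfl⟩
  have hϖapp : ∀ p : P₁ × P₂, ϖ (Submodule.Quotient.mk p) = π₂ p.2 := by
    intro p; rw [hϖdef]; rfl
  -- properties
  have hiinj : Function.Injective i := by
    rw [injective_iff_map_eq_zero]
    intro p₂ h
    rw [hiapp, hmk0] at h
    obtain ⟨q, hq⟩ := h
    have h1 : i₁ q = 0 := congrArg Prod.fst hq
    have h2 : -i₂ q = p₂ := congrArg Prod.snd hq
    have h3 : q = 0 := hinj₁ (by rw [h1, map_zero])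
    rw [← h2, h3, map_zero, neg_zero]
  have hjinj : Function.Injective j := by
    rw [injective_iff_map_eq_zero]
    intro p₁ h
    rw [hjapp, hmk0] at h
    obtain ⟨q, hq⟩ := h
    have h1 : i₁ q = p₁ := congrArg Prod.fst hq
    have h2 : -i₂ q = 0 := congrArg Prod.snd hq
    have h3 : q = 0 := hinj₂ (by rw [neg_eq_zero.1 h2, map_zero])
    rw [← h1, h3, map_zero]
  have hπsurj : Function.Surjective π := by
    intro a
    obtain ⟨p₁, rfl⟩ := hsurj₁ a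
    exact ⟨Submodule.Quotient.mk (p₁, 0), hπapp _⟩
  have hϖsurj : Function.Surjective ϖ := by
    intro a
    obtain ⟨p₂, rfl⟩ := hsurj₂ a
    exact ⟨Submodule.Quotient.mk (0, p₂), hϖapp _⟩
  have hiex : LinearMap.range i = LinearMap.ker π := by
    ext f
    constructor
    · rintro ⟨p₂, rfl⟩
      rw [LinearMap.mem_ker, hiapp, hπapp]
      exact map_zero _
    · intro hf
      obtain ⟨⟨p₁, p₂⟩, rfl⟩ := Submodule.Quotient.mk_surjective S f
      rw [LinearMap.mem_ker, hπapp] at hf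
      have h1 : p₁ ∈ LinearMap.range i₁ := by rw [hex₁]; exact hf
      obtain ⟨q, rfl⟩ := h1
      refine ⟨p₂ + i₂ q, ?_⟩
      rw [hiapp, Submodule.Quotient.eq, hSmem]
      exact ⟨-q, Prod.ext (by simp) (by simp)⟩
  have hjex : ∀ f, ϖ f = 0 → ∃ p₁, j p₁ = f := by
    intro f hf
    obtain ⟨⟨p₁, p₂⟩, rfl⟩ := Submodule.Quotient.mk_surjective S f
    rw [hϖapp] at hf
    have h1 : p₂ ∈ LinearMap.range i₂ := by rw [hex₂]; exact hf
    obtain ⟨q, rfl⟩ := h1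
    refine ⟨p₁ + i₁ q, ?_⟩
    rw [hjapp, Submodule.Quotient.eq, hSmem]
    exact ⟨q, Prod.ext (by simp) (by simp)⟩
  have hieq : ∀ g p₂, i (σ₂ g p₂) = τF g (i p₂) := by
    intro g p₂
    rw [hiapp, hiapp, hτF]
    show (Submodule.Quotient.mk ((0 : P₁), σ₂ g p₂) : (P₁ × P₂) ⧸ S) =
      Submodule.Quotient.mk (τ₁ g 0, σ₂ g p₂)
    rw [map_zero]
  have hjeq : ∀ g p₁, j (τ₁ g p₁) = τF g (j p₁) := by
    intro g p₁
    rw [hjapp, hjapp, hτF]
    show (Submodule.Quotient.mk (τ₁ g p₁, (0 : P₂)) : (P₁ × P₂) ⧸ S) =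
      Submodule.Quotient.mk (τ₁ g p₁, σ₂ g 0)
    rw [map_zero]
  have hπeq : ∀ g f, π (τF g f) = ρ g (π f) := by
    intro g f
    obtain ⟨p, rfl⟩ := Submodule.Quotient.mk_surjective S f
    rw [hτF, hπapp, hπapp]
    exact hπ₁ g p.1
  have hϖeq : ∀ g f, ϖ (τF g f) = τ₂ g (ϖ f) := by
    intro g f
    obtain ⟨p, rfl⟩ := Submodule.Quotient.mk_surjective S f
    rw [hτF, hϖapp, hϖapp]
    exact hπ₂ g p.2
  have htf : Module.IsTorsionFree ℤ ((P₁ × P₂) ⧸ S) := torsionFree_of_exact j ϖ hjinj hjex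
  have hfreeF : Module.Free ℤ ((P₁ × P₂) ⧸ S) := inferInstance
  have hflF : GLat.IsFlasque τF :=
    flasque_of_exact τ₁ τF τ₂ j ϖ hjeq hϖeq hjinj hϖsurj hjex
      (GLatB.flasque_of_perm τ₁ hperm₁) hfl₂
  exact ⟨P₂, inferInstance, (P₁ × P₂) ⧸ S, inferInstance, inferInstance, inferInstance,
    inferInstance, hfreeF, σ₂, τF, i, π, hieq, hπeq, hiinj, hπsurj, hiex, hperm₂, hflF⟩

theorem main87 (G : Type) [Group G] [Finite G]
    (A : Type) [AddCommGroup A] [Module.Finite ℤ A] [Module.Free ℤ A] (ρ : Representation ℤ G A) :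
    ∃ (Q : Type) (_ : AddCommGroup Q) (P : Type) (_ : AddCommGroup P)
      (_ : Module.Finite ℤ Q) (_ : Module.Free ℤ Q) (_ : Module.Finite ℤ P) (_ : Module.Free ℤ P)
      (σ : Representation ℤ G Q) (τ : Representation ℤ G P) (i : A →ₗ[ℤ] Q) (π : Q →ₗ[ℤ] P),
      GLat.IsEquivariant ρ σ i ∧ GLat.IsEquivariant σ τ π ∧ Function.Injective i ∧
      Function.Surjective π ∧
      LinearMap.range i = LinearMap.ker π ∧ GLat.IsCoflasque σ ∧ GLat.IsPermutation τ := by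
  classical
  obtain ⟨P₁, _, F₁, _, _, _, _, _, σ₁, τF, i₁, π₁, hi₁, hπ₁, hinj₁, hsurj₁, hex₁, hperm₁, -⟩ :=
    GLatC.main G A ρ
  obtain ⟨Q₂, _, P₂, _, _, _, _, _, σQ, τ₂, i₂, π₂, hi₂, hπ₂, hinj₂, hsurj₂, hex₂, hperm₂, hcofl₂⟩ :=
    GLatA.main G F₁ τF
  have hπi₁ : ∀ q, π₁ (i₁ q) = 0 := by
    intro q
    have : i₁ q ∈ LinearMap.ker π₁ := by rw [← hex₁]; exact ⟨q, rfl⟩
    exact this
  have hπi₂ : ∀ q, π₂ (i₂ q) = 0 := by
    intro q
    have : i₂ q ∈ LinearMap.ker π₂ := by rw [← hex₂]; exact ⟨q, rfl⟩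
    exact this
  obtain ⟨T, hT⟩ : ∃ T : Submodule ℤ (P₁ × P₂),
      T = LinearMap.ker (π₁ ∘ₗ LinearMap.fst ℤ P₁ P₂ - π₂ ∘ₗ LinearMap.snd ℤ P₁ P₂) := ⟨_, rfl⟩
  have hTmem : ∀ x : P₁ × P₂, x ∈ T ↔ π₁ x.1 = π₂ x.2 := by
    intro x
    rw [hT, LinearMap.mem_ker]
    show π₁ x.1 - π₂ x.2 = 0 ↔ _
    exact sub_eq_zero
  have hTinv : ∀ g, ∀ x ∈ T, ((σ₁ g).prodMap (τ₂ g)) x ∈ T := by
    intro g x hx
    rw [hTmem] at hx ⊢
    show π₁ (σ₁ g x.1) = π₂ (τ₂ g x.2)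
    rw [hπ₁ g x.1, hπ₂ g x.2, hx]
  let σT : Representation ℤ G T :=
    { toFun := fun g => ((σ₁ g).prodMap (τ₂ g)).restrict (hTinv g)
      map_one' := by
        refine LinearMap.ext (fun q => Subtype.ext ?_)
        simp [LinearMap.restrict_apply]
      map_mul' := fun g h => by
        refine LinearMap.ext (fun q => Subtype.ext ?_)
        simp [LinearMap.restrict_apply, map_mul] }
  have hσT : ∀ g (x : T), ((σT g x : T) : P₁ × P₂) = (σ₁ g x.1.1, τ₂ g x.1.2) := fun g x => rfl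
  -- maps
  obtain ⟨i, hidef⟩ : ∃ i : A →ₗ[ℤ] T, i = LinearMap.codRestrict T (i₁.prod 0) (by
      intro a
      rw [hTmem]
      show π₁ (i₁ a) = π₂ 0
      rw [hπi₁, map_zero]) := ⟨_, rfl⟩
  have hiapp : ∀ a, ((i a : T) : P₁ × P₂) = (i₁ a, 0) := by
    intro a; rw [hidef]; rfl
  obtain ⟨j, hjdef⟩ : ∃ j : Q₂ →ₗ[ℤ] T, j = LinearMap.codRestrict T ((0 : Q₂ →ₗ[ℤ] P₁).prod i₂) (by
      intro q
      rw [hTmem]
      show π₁ 0 = π₂ (i₂ q)
      rw [hπi₂, map_zero]) := ⟨_, rfl⟩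
  have hjapp : ∀ q, ((j q : T) : P₁ × P₂) = (0, i₂ q) := by
    intro q; rw [hjdef]; rfl
  obtain ⟨π, hπdef⟩ : ∃ π : T →ₗ[ℤ] P₂, π = LinearMap.snd ℤ P₁ P₂ ∘ₗ T.subtype := ⟨_, rfl⟩
  have hπapp : ∀ x : T, π x = x.1.2 := by
    intro x; rw [hπdef]; rfl
  obtain ⟨ϖ, hϖdef⟩ : ∃ ϖ : T →ₗ[ℤ] P₁, ϖ = LinearMap.fst ℤ P₁ P₂ ∘ₗ T.subtype := ⟨_, rfl⟩
  have hϖapp : ∀ x : T, ϖ x = x.1.1 := by
    intro x; rw [hϖdef]; rfl
  have hiinj : Function.Injective i := by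
    intro a b hab
    have h1 := congrArg (fun x : T => (x : P₁ × P₂).1) hab
    simp only [hiapp] at h1
    exact hinj₁ h1
  have hjinj : Function.Injective j := by
    intro a b hab
    have h1 := congrArg (fun x : T => (x : P₁ × P₂).2) hab
    simp only [hjapp] at h1
    exact hinj₂ h1
  have hπsurj : Function.Surjective π := by
    intro p₂
    obtain ⟨p₁, hp₁⟩ := hsurj₁ (π₂ p₂)
    exact ⟨⟨(p₁, p₂), (hTmem _).2 hp₁⟩, hπapp _⟩
  have hϖsurj : Function.Surjective ϖ := by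
    intro p₁
    obtain ⟨p₂, hp₂⟩ := hsurj₂ (π₁ p₁)
    exact ⟨⟨(p₁, p₂), (hTmem _).2 hp₂.symm⟩, hϖapp _⟩
  have hiex : LinearMap.range i = LinearMap.ker π := by
    ext x
    constructor
    · rintro ⟨a, rfl⟩
      rw [LinearMap.mem_ker, hπapp, hiapp]
    · intro hx
      rw [LinearMap.mem_ker, hπapp] at hx
      have hxT := (hTmem x.1).1 x.2
      rw [hx, map_zero] at hxT
      have h1 : x.1.1 ∈ LinearMap.range i₁ := by rw [hex₁]; exact hxT
      obtain ⟨a, ha⟩ := h1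
      refine ⟨a, Subtype.ext ?_⟩
      rw [hiapp]
      exact Prod.ext ha hx.symm
  have hjex : ∀ x, ϖ x = 0 → ∃ q, j q = x := by
    intro x hx
    rw [hϖapp] at hx
    have hxT := (hTmem x.1).1 x.2
    rw [hx, map_zero] at hxT
    have h1 : x.1.2 ∈ LinearMap.range i₂ := by rw [hex₂]; exact hxT.symm
    obtain ⟨q, hq⟩ := h1
    refine ⟨q, Subtype.ext ?_⟩
    rw [hjapp]
    exact Prod.ext hx.symm hq
  have hieq : ∀ g a, i (ρ g a) = σT g (i a) := by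
    intro g a
    apply Subtype.ext
    rw [hσT, hiapp, hiapp]
    show (i₁ (ρ g a), (0 : P₂)) = (σ₁ g (i₁ a), τ₂ g 0)
    rw [hi₁ g a, map_zero]
  have hjeq : ∀ g q, j (σQ g q) = σT g (j q) := by
    intro g q
    apply Subtype.ext
    rw [hσT, hjapp, hjapp]
    show ((0 : P₁), i₂ (σQ g q)) = (σ₁ g 0, τ₂ g (i₂ q))
    rw [hi₂ g q, map_zero]
  have hπeq : ∀ g x, π (σT g x) = τ₂ g (π x) := by
    intro g x
    rw [hπapp, hπapp, hσT]
  have hϖeq : ∀ g x, ϖ (σT g x) = σ₁ g (ϖ x) := by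
    intro g x
    rw [hϖapp, hϖapp, hσT]
  have hfinT : Module.Finite ℤ T := inferInstance
  have hfreeT : Module.Free ℤ T := inferInstance
  have hcoT : GLat.IsCoflasque σT :=
    coflasque_of_exact σQ σT σ₁ j ϖ hjeq hϖeq hjinj hϖsurj hjex hcofl₂
      (GLatB.coflasque_of_perm σ₁ hperm₁)
  exact ⟨T, inferInstance, P₂, inferInstance, hfinT, hfreeT, inferInstance, inferInstance,
    σT, τ₂, i, π, hieq, hπeq, hiinj, hπsurj, hiex, hcoT, hperm₂⟩

end Groth.Agent.H9.GLatD
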