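import Mathlib

set_option autoImplicit false
universe u
open CategoryTheory MonoidalCategory CartesianMonoidalCategory AlgebraicGeometry CategoryTheory.Limits

namespace Groth.Agent.H9.GMU

open LaurentPolynomial in
theorem units_laurent {R : Type*} [CommRing R] [IsDomain R] (u : LaurentPolynomial R) (hu : IsUnit u) :
    ∃ (r : R) (n : ℤ), u = LaurentPolynomial.C r * LaurentPolynomial.T n := by
  obtain ⟨v, hv⟩ := hu.exists_right_inv
  obtain ⟨n, p, hp⟩ := LaurentPolynomial.exists_T_pow u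
  obtain ⟨m, q, hq⟩ := LaurentPolynomial.exists_T_pow v
  have hpq : p * q = (Polynomial.X : Polynomial R) ^ (n + m) := by
    apply Polynomial.toLaurent_injective
    rw [map_mul, hp, hq, Polynomial.toLaurent_X_pow]
    calc u * T ↑n * (v * T ↑m) = (u * v) * (T ↑n * T ↑m) := by ring
      _ = T (↑(n + m)) := by rw [hv, one_mul, ← T_add, Nat.cast_add]
  have hdvd : p ∣ Polynomial.X ^ (n + m) := ⟨q, hpq.symm⟩
  obtain ⟨i, -, hi⟩ := (dvd_prime_pow Polynomial.prime_X _).mp hdvd
  obtain ⟨w, hw⟩ := hi.symm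
  obtain ⟨r, -, hr⟩ := Polynomial.isUnit_iff.mp w.isUnit
  refine ⟨r, (i : ℤ) + -(n : ℤ), ?_⟩
  have h1 : u = Polynomial.toLaurent p * T (-(n : ℤ)) := by
    rw [hp, mul_assoc, ← T_add, add_neg_cancel, T_zero, mul_one]
  rw [h1, ← hw, ← hr, map_mul, Polynomial.toLaurent_X_pow, Polynomial.toLaurent_C,
    mul_comm (T _) (C r), mul_assoc, ← T_add]

/-- the unit `T` of the Laurent polynomial ring. -/
noncomputable def unitT (R : Type*) [CommSemiring R] : (LaurentPolynomial R)ˣ :=
  ⟨LaurentPolynomial.T 1, LaurentPolynomial.T (-1),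
    by rw [← LaurentPolynomial.T_add]; simp, by rw [← LaurentPolynomial.T_add]; simp⟩

lemma unitT_val (R : Type*) [CommSemiring R] : (unitT R).val = LaurentPolynomial.T 1 := rfl

lemma unitT_zpow (R : Type*) [CommSemiring R] (b : ℤ) :
    ((unitT R) ^ b).val = (LaurentPolynomial.T b : LaurentPolynomial R) := by
  induction b using Int.induction_on with
  | zero => simp
  | succ i ih => rw [zpow_add_one, Units.val_mul, ih, LaurentPolynomial.T_add]; rfl
  | pred i ih =>
    rw [zpow_sub_one, Units.val_mul, ih, sub_eq_add_neg, LaurentPolynomial.T_add]; rfl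

lemma gsi_hom_inv (R : CommRingCat.{u}) (x : R) :
    (Scheme.ΓSpecIso R).hom.hom ((Scheme.ΓSpecIso R).inv.hom x) = x :=
  congrArg (fun φ : R ⟶ R => φ.hom x) (Scheme.ΓSpecIso R).inv_hom_id

lemma gsi_inv_hom (R : CommRingCat.{u}) (y : Γ(Spec R, ⊤)) :
    (Scheme.ΓSpecIso R).inv.hom ((Scheme.ΓSpecIso R).hom.hom y) = y :=
  congrArg (fun φ : Γ(Spec R, ⊤) ⟶ Γ(Spec R, ⊤) => φ.hom y) (Scheme.ΓSpecIso R).hom_inv_id

section
variable {k : Type u} [Field k] {G : Over (Spec (CommRingCat.of k))}
  (e : G.left ≅ Spec (CommRingCat.of (LaurentPolynomial k)))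

/-- coordinate ring hom of a point. -/
noncomputable def psi {X : Over (Spec (CommRingCat.of k))} (g : X ⟶ G) :
    LaurentPolynomial k →+* Γ(X.left, ⊤) :=
  ((Scheme.ΓSpecIso (CommRingCat.of (LaurentPolynomial k))).inv ≫ (g.left ≫ e.hom).appTop).hom

/-- structure ring hom of an object over `Spec k`. -/
noncomputable def kap (X : Over (Spec (CommRingCat.of k))) : k →+* Γ(X.left, ⊤) :=
  ((Scheme.ΓSpecIso (CommRingCat.of k)).inv ≫ X.hom.appTop).hom

lemma psi_comp {X Y : Over (Spec (CommRingCat.of k))} (φ : Y ⟶ X) (g : X ⟶ G) :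
    psi e (φ ≫ g) = (φ.left.appTop.hom).comp (psi e g) := by
  unfold psi
  rw [Over.comp_left, Category.assoc, Scheme.Hom.comp_appTop, ← Category.assoc,
    CommRingCat.hom_comp]

lemma psi_C
    (he : e.hom ≫ Spec.map (CommRingCat.ofHom (algebraMap k (LaurentPolynomial k))) = G.hom)
    {X : Over (Spec (CommRingCat.of k))} (g : X ⟶ G) :
    (psi e g).comp (algebraMap k (LaurentPolynomial k)) = kap X := by
  have hw : X.hom = (g.left ≫ e.hom) ≫
      Spec.map (CommRingCat.ofHom (algebraMap k (LaurentPolynomial k))) := by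
    rw [Category.assoc, he, Over.w]
  unfold psi kap
  rw [hw, Scheme.Hom.comp_appTop (g.left ≫ e.hom) (Spec.map _), ← Category.assoc,
    ← Scheme.ΓSpecIso_inv_naturality, Category.assoc]
  rfl

lemma psi_C'
    (he : e.hom ≫ Spec.map (CommRingCat.ofHom (algebraMap k (LaurentPolynomial k))) = G.hom)
    {X : Over (Spec (CommRingCat.of k))} (g : X ⟶ G) (a : k) :
    psi e g (LaurentPolynomial.C a) = kap X a := by
  rw [← psi_C e he g]; rfl

lemma psi_inj
    (he : e.hom ≫ Spec.map (CommRingCat.ofHom (algebraMap k (LaurentPolynomial k))) = G.hom)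
    {X : Over (Spec (CommRingCat.of k))} (g g' : X ⟶ G)
    (h : psi e g (LaurentPolynomial.T 1) = psi e g' (LaurentPolynomial.T 1)) : g = g' := by
  have h1 : psi e g = psi e g' := by
    apply IsLocalization.ringHom_ext (Submonoid.powers (Polynomial.X : Polynomial k))
    apply Polynomial.ringHom_ext
    · intro a
      show psi e g (Polynomial.toLaurent (Polynomial.C a)) =
        psi e g' (Polynomial.toLaurent (Polynomial.C a))
      rw [Polynomial.toLaurent_C, psi_C' e he g, psi_C' e he g']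
    · show psi e g (Polynomial.toLaurent Polynomial.X) =
        psi e g' (Polynomial.toLaurent Polynomial.X)
      rw [Polynomial.toLaurent_X]; exact h
  have h3 : (Scheme.ΓSpecIso (CommRingCat.of (LaurentPolynomial k))).inv ≫ (g.left ≫ e.hom).appTop
      = (Scheme.ΓSpecIso (CommRingCat.of (LaurentPolynomial k))).inv ≫
        (g'.left ≫ e.hom).appTop := CommRingCat.hom_ext h1
  have h2 : g.left ≫ e.hom = g'.left ≫ e.hom := by
    apply ext_of_isAffine
    exact (cancel_epi _).mp h3
  exact Over.OverMorphism.ext ((cancel_mono e.hom).mp h2)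

/-- `Spec B` as an object over `Spec k`. -/
noncomputable abbrev SpecO (k : Type u) [Field k] (B : Type u) [CommRing B] [Algebra k B] :
    Over (Spec (CommRingCat.of k)) :=
  Over.mk (Spec.map (CommRingCat.ofHom (algebraMap k B)))

/-- the morphism to `Spec B` given by a ring hom on global sections. -/
noncomputable def toSpecO (X : Over (Spec (CommRingCat.of k))) (B : Type u) [CommRing B]
    [Algebra k B] (f : B →+* Γ(X.left, ⊤)) (hf : f.comp (algebraMap k B) = kap X) :
    X ⟶ SpecO k B :=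
  Over.homMk (X.left.toSpecΓ ≫ Spec.map (CommRingCat.ofHom f)) (by
    show (X.left.toSpecΓ ≫ Spec.map (CommRingCat.ofHom f)) ≫
      Spec.map (CommRingCat.ofHom (algebraMap k B)) = X.hom
    rw [Category.assoc, ← Spec.map_comp, ← CommRingCat.ofHom_comp, hf]
    unfold kap
    rw [CommRingCat.ofHom_hom, Spec.map_comp, ← Scheme.toSpecΓ_naturality_assoc,
      toSpecΓ_SpecMap_ΓSpecIso_inv, Category.comp_id])

lemma toSpecO_appTop (X : Over (Spec (CommRingCat.of k))) (B : Type u) [CommRing B]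
    [Algebra k B] (f : B →+* Γ(X.left, ⊤)) (hf : f.comp (algebraMap k B) = kap X) :
    (toSpecO X B f hf).left.appTop =
      (Scheme.ΓSpecIso (CommRingCat.of B)).hom ≫ CommRingCat.ofHom f := by
  show (X.left.toSpecΓ ≫ Spec.map (CommRingCat.ofHom f)).appTop = _
  rw [Scheme.Hom.comp_appTop, Scheme.toSpecΓ_appTop, Scheme.ΓSpecIso_naturality]

/-- the coordinate of a `Spec B`-point, as an element of `B`. -/
noncomputable def tcB {B : Type u} [CommRing B] [Algebra k B] (g : SpecO k B ⟶ G) : B :=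
  (Scheme.ΓSpecIso (CommRingCat.of B)).hom.hom (psi e g (LaurentPolynomial.T 1))

lemma psi_toSpecO_comp (X : Over (Spec (CommRingCat.of k))) (B : Type u) [CommRing B]
    [Algebra k B] (f : B →+* Γ(X.left, ⊤)) (hf : f.comp (algebraMap k B) = kap X)
    (g : SpecO k B ⟶ G) :
    psi e (toSpecO X B f hf ≫ g) (LaurentPolynomial.T 1) = f (tcB e g) := by
  rw [psi_comp, toSpecO_appTop]
  rfl

lemma kap_SpecO (B : Type u) [CommRing B] [Algebra k B] :
    kap (SpecO k B) = ((Scheme.ΓSpecIso (CommRingCat.of B)).inv.hom).comp (algebraMap k B) := by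
  unfold kap
  show ((Scheme.ΓSpecIso (CommRingCat.of k)).inv ≫
    (Spec.map (CommRingCat.ofHom (algebraMap k B))).appTop).hom = _
  rw [← Scheme.ΓSpecIso_inv_naturality]
  rfl

/-- specialisation morphism. -/
noncomputable def spc {B B' : Type u} [CommRing B] [Algebra k B] [CommRing B'] [Algebra k B']
    (σ : B →+* B') (hσ : σ.comp (algebraMap k B) = algebraMap k B') : SpecO k B' ⟶ SpecO k B :=
  toSpecO (SpecO k B') B (((Scheme.ΓSpecIso (CommRingCat.of B')).inv.hom).comp σ)
    (by rw [RingHom.comp_assoc, hσ, kap_SpecO])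

lemma tcB_spc_comp {B B' : Type u} [CommRing B] [Algebra k B] [CommRing B'] [Algebra k B']
    (σ : B →+* B') (hσ : σ.comp (algebraMap k B) = algebraMap k B') (g : SpecO k B ⟶ G) :
    tcB e (spc σ hσ ≫ g) = σ (tcB e g) := by
  show (Scheme.ΓSpecIso (CommRingCat.of B')).hom.hom
    (psi e (spc σ hσ ≫ g) (LaurentPolynomial.T 1)) = σ (tcB e g)
  unfold spc
  rw [psi_toSpecO_comp]
  exact gsi_hom_inv _ _

lemma tcB_inj
    (he : e.hom ≫ Spec.map (CommRingCat.ofHom (algebraMap k (LaurentPolynomial k))) = G.hom)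
    {B : Type u} [CommRing B] [Algebra k B] (g g' : SpecO k B ⟶ G)
    (h : tcB e g = tcB e g') : g = g' := by
  apply psi_inj e he
  have h1 := congrArg (Scheme.ΓSpecIso (CommRingCat.of B)).inv.hom h
  unfold tcB at h1
  rwa [gsi_inv_hom, gsi_inv_hom] at h1

lemma isUnit_tcB {B : Type u} [CommRing B] [Algebra k B] (g : SpecO k B ⟶ G) :
    IsUnit (tcB e g) :=
  ((LaurentPolynomial.isUnit_T 1).map (psi e g)).map
    (Scheme.ΓSpecIso (CommRingCat.of B)).hom.hom

/-- the point with prescribed unit coordinate. -/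
noncomputable def pt
    (he : e.hom ≫ Spec.map (CommRingCat.ofHom (algebraMap k (LaurentPolynomial k))) = G.hom)
    (B : Type u) [CommRing B] [Algebra k B] (u : Bˣ) : SpecO k B ⟶ G :=
  Over.homMk (Spec.map (CommRingCat.ofHom (LaurentPolynomial.eval₂ (algebraMap k B) u)) ≫ e.inv)
    (by
      have h1 : (LaurentPolynomial.eval₂ (algebraMap k B) u).comp
          (algebraMap k (LaurentPolynomial k)) = algebraMap k B := by
        ext a
        exact LaurentPolynomial.eval₂_C _ _ a
      show (Spec.map _ ≫ e.inv) ≫ G.hom = Spec.map (CommRingCat.ofHom (algebraMap k B))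
      rw [← he, Category.assoc, Iso.inv_hom_id_assoc, ← Spec.map_comp,
        ← CommRingCat.ofHom_comp, h1])

lemma tcB_pt
    (he : e.hom ≫ Spec.map (CommRingCat.ofHom (algebraMap k (LaurentPolynomial k))) = G.hom)
    (B : Type u) [CommRing B] [Algebra k B] (u : Bˣ) : tcB e (pt e he B u) = u := by
  unfold tcB psi pt
  simp only [Over.homMk_left]
  rw [Category.assoc, Iso.inv_hom_id, Category.comp_id,
    ← Scheme.ΓSpecIso_inv_naturality]
  show (Scheme.ΓSpecIso (CommRingCat.of B)).hom.hom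
    ((Scheme.ΓSpecIso (CommRingCat.of B)).inv.hom
      (LaurentPolynomial.eval₂ (algebraMap k B) u (LaurentPolynomial.T 1))) = u
  rw [gsi_hom_inv, LaurentPolynomial.eval₂_T, zpow_one]

open MonObj GrpObj in
lemma psi_one [GrpObj G]
    (hunit : psi e η[G] (LaurentPolynomial.T 1) = 1) (X : Over (Spec (CommRingCat.of k))) :
    psi e (1 : X ⟶ G) (LaurentPolynomial.T 1) = 1 := by
  rw [Hom.one_def, psi_comp, RingHom.comp_apply, hunit, _root_.map_one]

open MonObj GrpObj in
lemma tcB_one [GrpObj G]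
    (hunit : psi e η[G] (LaurentPolynomial.T 1) = 1) (B : Type u) [CommRing B] [Algebra k B] :
    tcB e (1 : SpecO k B ⟶ G) = 1 := by
  unfold tcB
  rw [psi_one e hunit, _root_.map_one]

end

section Algebra
variable (k : Type u) [Field k]

lemma isDomain_laurent (R : Type*) [CommRing R] [IsDomain R] : IsDomain (LaurentPolynomial R) := by
  first
  | infer_instance
  | exact IsLocalization.isDomain_of_le_nonZeroDivisors (A := Polynomial R)
      (M := Submonoid.powers (Polynomial.X : Polynomial R)) _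
      (powers_le_nonZeroDivisors_of_noZeroDivisors Polynomial.X_ne_zero)

/-- the universal unit `C T`. -/
noncomputable def uC : (LaurentPolynomial (LaurentPolynomial k))ˣ :=
  Units.map (LaurentPolynomial.C : LaurentPolynomial k →+*
    LaurentPolynomial (LaurentPolynomial k)).toMonoidHom (unitT k)

/-- `S ↦ 1`. -/
noncomputable def sig1 : LaurentPolynomial (LaurentPolynomial k) →+* LaurentPolynomial k :=
  LaurentPolynomial.eval₂ (RingHom.id _) 1

lemma sig1_C_mul_T (a : LaurentPolynomial k) (b : ℤ) :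
    sig1 k (LaurentPolynomial.C a * LaurentPolynomial.T b) = a := by
  unfold sig1
  rw [LaurentPolynomial.eval₂_C_mul_T, one_zpow, Units.val_one, mul_one]; rfl

lemma sig1_C (a : LaurentPolynomial k) : sig1 k (LaurentPolynomial.C a) = a := by
  unfold sig1
  rw [LaurentPolynomial.eval₂_C]; rfl

lemma sig1_T : sig1 k (LaurentPolynomial.T 1) = 1 := by
  unfold sig1
  rw [LaurentPolynomial.eval₂_T, one_zpow, Units.val_one]

lemma sig1_alg : (sig1 k).comp (algebraMap k _) = algebraMap k _ :=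
  RingHom.ext fun x => sig1_C k _

/-- `T ↦ 1`. -/
noncomputable def eps : LaurentPolynomial k →+* k := LaurentPolynomial.eval₂ (RingHom.id k) 1

lemma eps_T : eps k (LaurentPolynomial.T 1) = 1 := by
  unfold eps
  rw [LaurentPolynomial.eval₂_T, one_zpow, Units.val_one]

lemma eps_C (x : k) : eps k (LaurentPolynomial.C x) = x := by
  unfold eps
  rw [LaurentPolynomial.eval₂_C]; rfl

/-- `T ↦ 1, S ↦ T`. -/
noncomputable def sig2 : LaurentPolynomial (LaurentPolynomial k) →+* LaurentPolynomial k :=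
  LaurentPolynomial.eval₂ ((LaurentPolynomial.C).comp (eps k)) (unitT k)

lemma sig2_C (a : LaurentPolynomial k) :
    sig2 k (LaurentPolynomial.C a) = LaurentPolynomial.C (eps k a) := by
  unfold sig2
  rw [LaurentPolynomial.eval₂_C]; rfl

lemma sig2_T : sig2 k (LaurentPolynomial.T 1) = LaurentPolynomial.T 1 := by
  unfold sig2
  rw [LaurentPolynomial.eval₂_T, zpow_one]; rfl

lemma sig2_C_mul_T (a : LaurentPolynomial k) (b : ℤ) :
    sig2 k (LaurentPolynomial.C a * LaurentPolynomial.T b) =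
      LaurentPolynomial.C (eps k a) * LaurentPolynomial.T b := by
  unfold sig2
  rw [LaurentPolynomial.eval₂_C_mul_T, unitT_zpow]; rfl

lemma sig2_alg : (sig2 k).comp (algebraMap k _) = algebraMap k _ :=
  RingHom.ext fun x => by
    show sig2 k (LaurentPolynomial.C (LaurentPolynomial.C x)) = LaurentPolynomial.C x
    rw [sig2_C, eps_C]

end Algebra

section Main
open MonObj GrpObj

variable {k : Type u} [Field k] {G : Over (Spec (CommRingCat.of k))}
  (e : G.left ≅ Spec (CommRingCat.of (LaurentPolynomial k)))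

/-- the ring hom classifying a pair of points. -/
noncomputable def fgh {S : Over (Spec (CommRingCat.of k))} (g h : S ⟶ G) :
    LaurentPolynomial (LaurentPolynomial k) →+* Γ(S.left, ⊤) :=
  LaurentPolynomial.eval₂ (psi e g) (Units.map (psi e h).toMonoidHom (unitT k))

lemma fgh_C {S : Over (Spec (CommRingCat.of k))} (g h : S ⟶ G) (a : LaurentPolynomial k) :
    fgh e g h (LaurentPolynomial.C a) = psi e g a := by
  unfold fgh
  rw [LaurentPolynomial.eval₂_C]

lemma fgh_T {S : Over (Spec (CommRingCat.of k))} (g h : S ⟶ G) :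
    fgh e g h (LaurentPolynomial.T 1) = psi e h (LaurentPolynomial.T 1) := by
  unfold fgh
  rw [LaurentPolynomial.eval₂_T, zpow_one]; rfl

lemma fgh_alg
    (he : e.hom ≫ Spec.map (CommRingCat.ofHom (algebraMap k (LaurentPolynomial k))) = G.hom)
    {S : Over (Spec (CommRingCat.of k))} (g h : S ⟶ G) :
    (fgh e g h).comp (algebraMap k _) = kap S :=
  RingHom.ext fun x => by
    show fgh e g h (LaurentPolynomial.C (LaurentPolynomial.C x)) = _
    rw [fgh_C, psi_C' e he]

theorem univ [GrpObj G]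
    (he : e.hom ≫ Spec.map (CommRingCat.ofHom (algebraMap k (LaurentPolynomial k))) = G.hom)
    (hunit : psi e η[G] (LaurentPolynomial.T 1) = 1)
    (g₀ h₀ : SpecO k (LaurentPolynomial (LaurentPolynomial k)) ⟶ G)
    (hg₀ : tcB e g₀ = LaurentPolynomial.C (LaurentPolynomial.T 1))
    (hh₀ : tcB e h₀ = LaurentPolynomial.T 1) :
    tcB e (g₀ * h₀) = LaurentPolynomial.C (LaurentPolynomial.T 1) * LaurentPolynomial.T 1 := by
  haveI := isDomain_laurent k
  obtain ⟨a, b, hab⟩ := units_laurent _ (isUnit_tcB e (g₀ * h₀))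
  have e1 : spc (sig1 k) (sig1_alg k) ≫ h₀ = 1 := by
    apply tcB_inj e he
    rw [tcB_spc_comp, hh₀, tcB_one e hunit, sig1_T]
  have e2 : tcB e (spc (sig1 k) (sig1_alg k) ≫ (g₀ * h₀)) = LaurentPolynomial.T 1 := by
    rw [MonObj.comp_mul, e1, _root_.mul_one, tcB_spc_comp, hg₀, sig1_C]
  have ha : a = LaurentPolynomial.T 1 := by
    rw [tcB_spc_comp, hab, sig1_C_mul_T] at e2
    exact e2
  have e3 : spc (sig2 k) (sig2_alg k) ≫ g₀ = 1 := by
    apply tcB_inj e he
    rw [tcB_spc_comp, hg₀, tcB_one e hunit, sig2_C, eps_T, _root_.map_one]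
  have e4 : tcB e (spc (sig2 k) (sig2_alg k) ≫ (g₀ * h₀)) = LaurentPolynomial.T 1 := by
    rw [MonObj.comp_mul, e3, _root_.one_mul, tcB_spc_comp, hh₀, sig2_T]
  have hb : b = 1 := by
    rw [tcB_spc_comp, hab, ha, sig2_C_mul_T, eps_T, _root_.map_one, _root_.one_mul] at e4
    have h6 := congrArg LaurentPolynomial.degree e4
    rw [LaurentPolynomial.degree_T, LaurentPolynomial.degree_T] at h6
    exact_mod_cast h6
  rw [hab, ha, hb]

theorem main [GrpObj G]
    (he : e.hom ≫ Spec.map (CommRingCat.ofHom (algebraMap k (LaurentPolynomial k))) = G.hom)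
    (hunit : psi e η[G] (LaurentPolynomial.T 1) = 1)
    (S : Over (Spec (CommRingCat.of k))) (g h : S ⟶ G) :
    psi e (g * h) (LaurentPolynomial.T 1) =
      psi e g (LaurentPolynomial.T 1) * psi e h (LaurentPolynomial.T 1) := by
  obtain ⟨g₀, hg₀⟩ : ∃ g₀ : SpecO k (LaurentPolynomial (LaurentPolynomial k)) ⟶ G,
      tcB e g₀ = LaurentPolynomial.C (LaurentPolynomial.T 1) :=
    ⟨pt e he _ (uC k), tcB_pt e he _ (uC k)⟩
  obtain ⟨h₀, hh₀⟩ : ∃ h₀ : SpecO k (LaurentPolynomial (LaurentPolynomial k)) ⟶ G,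
      tcB e h₀ = LaurentPolynomial.T 1 :=
    ⟨pt e he _ (unitT (LaurentPolynomial k)), tcB_pt e he _ (unitT (LaurentPolynomial k))⟩
  have huniv := univ e he hunit g₀ h₀ hg₀ hh₀
  obtain ⟨φ, hφ⟩ : ∃ φ : S ⟶ SpecO k (LaurentPolynomial (LaurentPolynomial k)),
      ∀ g' : SpecO k (LaurentPolynomial (LaurentPolynomial k)) ⟶ G,
        psi e (φ ≫ g') (LaurentPolynomial.T 1) = fgh e g h (tcB e g') :=
    ⟨toSpecO S _ (fgh e g h) (fgh_alg e he g h), fun g' => psi_toSpecO_comp e S _ _ _ g'⟩
  have p1 : φ ≫ g₀ = g := psi_inj e he _ _ (by rw [hφ, hg₀, fgh_C])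
  have p2 : φ ≫ h₀ = h := psi_inj e he _ _ (by rw [hφ, hh₀, fgh_T])
  calc psi e (g * h) (LaurentPolynomial.T 1)
      = psi e (φ ≫ (g₀ * h₀)) (LaurentPolynomial.T 1) := by rw [MonObj.comp_mul, p1, p2]
    _ = fgh e g h (LaurentPolynomial.C (LaurentPolynomial.T 1) * LaurentPolynomial.T 1) := by
        rw [hφ, huniv]
    _ = psi e g (LaurentPolynomial.T 1) * psi e h (LaurentPolynomial.T 1) := by
        rw [_root_.map_mul, fgh_C, fgh_T]

end Main

end Groth.Agent.H9.GMU
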