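import Mathlib

/-! Helper9: the Galois group `Gal(K/k)` acting on `A ⊗[k] K`; invariants, open stabilizers,
transitivity on primes over a prime of `A`. -/

set_option autoImplicit false
set_option linter.style.haveILetI false
set_option linter.unusedSectionVars false
set_option linter.unusedVariables false

open TensorProduct

universe u

namespace Groth.Agent.H9.GOB

section alg

variable {k K : Type u} [Field k] [Field K] [Algebra k K]
variable (A : Type u) [CommRing A] [Algebra k A]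

/-- the action of `Gal(K/k)` on `A ⊗[k] K` through the second factor -/
noncomputable def tensAut : (K ≃ₐ[k] K) →* ((A ⊗[k] K) ≃ₐ[A] (A ⊗[k] K)) where
  toFun σ := Algebra.TensorProduct.congr (AlgEquiv.refl (R := A) (A₁ := A)) σ
  map_one' := by
    apply AlgEquiv.ext
    intro x
    induction x using TensorProduct.induction_on with
    | zero => simp
    | tmul a c => simp
    | add x y hx hy => simp only [map_add, hx, hy]
  map_mul' σ τ := by
    apply AlgEquiv.ext
    intro x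
    induction x using TensorProduct.induction_on with
    | zero => simp
    | tmul a c => simp
    | add x y hx hy => simp only [map_add, hx, hy]

@[simp] theorem tensAut_tmul (σ : K ≃ₐ[k] K) (a : A) (c : K) :
    tensAut A σ (a ⊗ₜ[k] c) = a ⊗ₜ[k] σ c := by
  simp [tensAut]

theorem tensAut_inv_apply (σ : K ≃ₐ[k] K) (b : A ⊗[k] K) :
    tensAut A σ⁻¹ (tensAut A σ b) = b := by
  rw [← AlgEquiv.mul_apply, ← map_mul, inv_mul_cancel, map_one, AlgEquiv.one_apply]

theorem tensAut_apply_inv (σ : K ≃ₐ[k] K) (b : A ⊗[k] K) :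
    tensAut A σ (tensAut A σ⁻¹ b) = b := by
  rw [← AlgEquiv.mul_apply, ← map_mul, mul_inv_cancel, map_one, AlgEquiv.one_apply]

/-- every element is fixed by an open subgroup -/
theorem exists_open_fixing [Algebra.IsAlgebraic k K] (b : A ⊗[k] K) :
    ∃ H : Subgroup (K ≃ₐ[k] K), IsOpen (H : Set (K ≃ₐ[k] K)) ∧ ∀ h ∈ H, tensAut A h b = b := by
  induction b using TensorProduct.induction_on with
  | zero => exact ⟨⊤, by simp, fun h _ => map_zero _⟩
  | tmul a c =>
    refine ⟨MulAction.stabilizer (K ≃ₐ[k] K) c, stabilizer_isOpen_of_isIntegral c, fun h hh => ?_⟩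
    rw [tensAut_tmul]
    congr 1
  | add x y hx hy =>
    obtain ⟨H₁, h1o, h1⟩ := hx
    obtain ⟨H₂, h2o, h2⟩ := hy
    refine ⟨H₁ ⊓ H₂, ?_, fun h hh => ?_⟩
    · rw [Subgroup.coe_inf]; exact h1o.inter h2o
    · rw [map_add, h1 h hh.1, h2 h hh.2]

/-- invariants of `A ⊗[k] K` are `A` -/
theorem invariant_mem_range [IsGalois k K] (b : A ⊗[k] K)
    (hb : ∀ σ : K ≃ₐ[k] K, tensAut A σ b = b) :
    ∃ a : A, algebraMap A (A ⊗[k] K) a = b := by
  classical
  let ℬ := Module.Free.chooseBasis k A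
  let E := TensorProduct.equivFinsuppOfBasisLeft (N := K) ℬ
  have key : ∀ (σ : K ≃ₐ[k] K) (b : A ⊗[k] K) i, E (tensAut A σ b) i = σ (E b i) := by
    intro σ b i
    induction b using TensorProduct.induction_on with
    | zero => simp
    | tmul a x =>
      rw [tensAut_tmul, TensorProduct.equivFinsuppOfBasisLeft_apply_tmul_apply,
        TensorProduct.equivFinsuppOfBasisLeft_apply_tmul_apply, map_smul]
    | add x y hx hy => simp only [map_add, Finsupp.add_apply, hx, hy]
  have hfix : ∀ i, E b i ∈ Set.range (algebraMap k K) := fun i => by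
    rw [InfiniteGalois.mem_range_algebraMap_iff_fixed]
    intro σ
    rw [← key, hb]
  choose c hc using hfix
  have hb' : (E b).sum (fun i n => ℬ i ⊗ₜ[k] n) = b := by
    rw [← TensorProduct.equivFinsuppOfBasisLeft_symm_apply, LinearEquiv.symm_apply_apply]
  refine ⟨(E b).sum fun i _ => c i • ℬ i, ?_⟩
  conv_rhs => rw [← hb']
  rw [Finsupp.sum, Finsupp.sum, map_sum]
  refine Finset.sum_congr rfl (fun i _ => ?_)
  rw [Algebra.TensorProduct.algebraMap_apply, Algebra.algebraMap_self_apply,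
    TensorProduct.smul_tmul, ← hc i, Algebra.algebraMap_eq_smul_one]

/-- transitivity of the Galois action on the primes of `A ⊗[k] K` over a prime of `A` -/
theorem exists_comap_eq [IsGalois k K] (P Q : Ideal (A ⊗[k] K)) [P.IsPrime] [Q.IsPrime]
    (h : P.comap (algebraMap A (A ⊗[k] K)) = Q.comap (algebraMap A (A ⊗[k] K))) :
    ∃ σ : K ≃ₐ[k] K, Q = P.comap ((tensAut A σ : (A ⊗[k] K) ≃ₐ[A] (A ⊗[k] K)) :
      (A ⊗[k] K) →+* (A ⊗[k] K)) := by
  letI act : MulSemiringAction (K ≃ₐ[k] K) (A ⊗[k] K) := MulSemiringAction.compHom _ (tensAut A)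
  have hsmul : ∀ (σ : K ≃ₐ[k] K) (b : A ⊗[k] K), σ • b = tensAut A σ b := fun σ b => rfl
  haveI : SMulCommClass (K ≃ₐ[k] K) A (A ⊗[k] K) := ⟨fun σ a b => by
    rw [hsmul, hsmul, map_smul]⟩
  letI : TopologicalSpace (A ⊗[k] K) := ⊥
  haveI : DiscreteTopology (A ⊗[k] K) := ⟨rfl⟩
  haveI : ContinuousSMul (K ≃ₐ[k] K) (A ⊗[k] K) := by
    rw [continuousSMul_iff_stabilizer_isOpen]
    intro b
    obtain ⟨H, hHo, hH⟩ := exists_open_fixing A b
    refine Subgroup.isOpen_mono (H₁ := H) (fun h hh => ?_) hHo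
    rw [MulAction.mem_stabilizer_iff, hsmul]
    exact hH h hh
  haveI : Algebra.IsInvariant A (A ⊗[k] K) (K ≃ₐ[k] K) := ⟨fun b hb => by
    exact invariant_mem_range A b (fun σ => by rw [← hsmul]; exact hb σ)⟩
  obtain ⟨g, hg⟩ := Algebra.IsInvariant.exists_smul_of_under_eq_of_profinite
    (A := A) (B := A ⊗[k] K) (G := K ≃ₐ[k] K) P Q h
  refine ⟨g⁻¹, ?_⟩
  rw [hg, Ideal.pointwise_smul_eq_comap]
  ext b
  simp only [Ideal.mem_comap]
  have : (MulSemiringAction.toRingEquiv (K ≃ₐ[k] K) (A ⊗[k] K) g).symm b = tensAut A g⁻¹ b := by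
    rw [RingEquiv.symm_apply_eq]
    change b = g • (tensAut A g⁻¹ b)
    rw [hsmul, tensAut_apply_inv]
  exact Iff.of_eq (congrArg (· ∈ P) this)

/-- a finitely generated ideal is stabilised by an open subgroup -/
theorem exists_open_stabilizer [Algebra.IsAlgebraic k K] (I : Ideal (A ⊗[k] K)) (hI : I.FG) :
    ∃ H : Subgroup (K ≃ₐ[k] K), IsOpen (H : Set (K ≃ₐ[k] K)) ∧
      ∀ h ∈ H, I.comap ((tensAut A h : (A ⊗[k] K) ≃ₐ[A] (A ⊗[k] K)) :
        (A ⊗[k] K) →+* (A ⊗[k] K)) = I := by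
  classical
  obtain ⟨S, rfl⟩ := hI
  have : ∀ s : A ⊗[k] K, ∃ H : Subgroup (K ≃ₐ[k] K), IsOpen (H : Set (K ≃ₐ[k] K)) ∧
      ∀ h ∈ H, tensAut A h s = s := exists_open_fixing A
  choose H hHo hH using this
  have hle : ∀ h ∈ (⨅ s ∈ S, H s), Ideal.span (S : Set (A ⊗[k] K)) ≤
      (Ideal.span (S : Set (A ⊗[k] K))).comap
        ((tensAut A h : (A ⊗[k] K) ≃ₐ[A] (A ⊗[k] K)) : (A ⊗[k] K) →+* (A ⊗[k] K)) := by
    intro h hh
    rw [Ideal.span_le]
    intro s hs
    have h1 : h ∈ H s := by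
      have := (Subgroup.mem_iInf.mp hh) s
      exact (Subgroup.mem_iInf.mp this) hs
    simp only [SetLike.mem_coe, Ideal.mem_comap]
    change tensAut A h s ∈ _
    rw [hH s h h1]
    exact Ideal.subset_span hs
  refine ⟨⨅ s ∈ S, H s, ?_, fun h hh => le_antisymm ?_ (hle h hh)⟩
  · have : ((⨅ s ∈ S, H s : Subgroup (K ≃ₐ[k] K)) : Set (K ≃ₐ[k] K)) =
        ⋂ s ∈ S, (H s : Set (K ≃ₐ[k] K)) := by
      simp only [Subgroup.coe_iInf]
    rw [this]
    exact isOpen_biInter_finset (fun s _ => hHo s)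
  · intro b hb
    have h2 := hle h⁻¹ (inv_mem hh) hb
    simp only [Ideal.mem_comap] at h2 hb
    change tensAut A h⁻¹ (tensAut A h b) ∈ _ at h2
    rwa [tensAut_inv_apply] at h2

end alg

end Groth.Agent.H9.GOB
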