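import Mathlib
import Groth.Prelude.Def_FinFr
import Groth.Agent.Lib.Helper9.Misc.GOB1

/-! Helper9: fibres of `X ×_k K ⟶ X` are Galois orbits (`K/k` Galois). -/

set_option autoImplicit false
set_option linter.style.haveILetI false
set_option linter.unusedSectionVars false
set_option linter.unusedVariables false

open TensorProduct AlgebraicGeometry CategoryTheory CategoryTheory.Limits

universe u

namespace Groth.Agent.H9.GOB

section geom

variable {k K : Type u} [Field k] [Field K] [Algebra k K]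

theorem galAct_mul {X : Scheme.{u}} (f : X ⟶ Spec (CommRingCat.of k)) (σ τ : K ≃ₐ[k] K) :
    FinFr.galAct f (σ * τ) = FinFr.galAct f σ ≫ FinFr.galAct f τ := by
  apply pullback.hom_ext
  · rw [Category.assoc]
    erw [FinFr.galAct_fst, FinFr.galAct_fst, FinFr.galAct_fst]
  · rw [Category.assoc]
    erw [FinFr.galAct_snd, FinFr.galAct_snd]
    rw [← Category.assoc]
    erw [FinFr.galAct_snd]
    rw [Category.assoc, ← Spec.map_comp]
    rfl

theorem galAct_one {X : Scheme.{u}} (f : X ⟶ Spec (CommRingCat.of k)) :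
    FinFr.galAct f (1 : K ≃ₐ[k] K) = 𝟙 _ := by
  apply pullback.hom_ext
  · erw [FinFr.galAct_fst]; rw [Category.id_comp]
  · erw [FinFr.galAct_snd]
    rw [Category.id_comp]
    have : CommRingCat.ofHom (((1 : K ≃ₐ[k] K) : K →+* K)) = 𝟙 _ := rfl
    rw [this, Spec.map_id, Category.comp_id]

/-- chart compatibility: the Galois action on `Spec (A ⊗ K)` -/
theorem specIso_galAct (A : Type u) [CommRing A] [Algebra k A] (σ : K ≃ₐ[k] K) :
    (pullbackSpecIso k A K).inv ≫
        FinFr.galAct (Spec.map (CommRingCat.ofHom (algebraMap k A))) σ =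
      Spec.map (CommRingCat.ofHom ((tensAut A σ : (A ⊗[k] K) ≃ₐ[A] (A ⊗[k] K)) :
        (A ⊗[k] K) →+* (A ⊗[k] K))) ≫ (pullbackSpecIso k A K).inv := by
  apply pullback.hom_ext
  · rw [Category.assoc, Category.assoc]
    erw [FinFr.galAct_fst]
    rw [pullbackSpecIso_inv_fst, ← Spec.map_comp]
    congr 1
    ext a
    simp
  · rw [Category.assoc, Category.assoc]
    erw [FinFr.galAct_snd]
    rw [pullbackSpecIso_inv_snd, ← Category.assoc, pullbackSpecIso_inv_snd, ← Spec.map_comp,
      ← Spec.map_comp]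
    congr 1

/-- the affine case -/
theorem affine_orbit [IsGalois k K] (A : Type u) [CommRing A] [Algebra k A]
    (f' : Spec (CommRingCat.of A) ⟶ Spec (CommRingCat.of k))
    (hf' : f' = Spec.map (CommRingCat.ofHom (algebraMap k A)))
    (x y : ↑(FinFr.ext K f'))
    (h : (FinFr.extπ K f').base x = (FinFr.extπ K f').base y) :
    ∃ σ : K ≃ₐ[k] K, (FinFr.galAct f' σ).base x = y := by
  subst hf'
  let e := pullbackSpecIso k A K
  let x₀ := e.hom.base x
  let y₀ := e.hom.base y
  have hx : (Spec.map (CommRingCat.ofHom (algebraMap A (A ⊗[k] K)))).base x₀ =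
      (FinFr.extπ K (Spec.map (CommRingCat.ofHom (algebraMap k A)))).base x :=
    congrArg (fun g => g.base x) (pullbackSpecIso_hom_fst' k A K)
  have hy : (Spec.map (CommRingCat.ofHom (algebraMap A (A ⊗[k] K)))).base y₀ =
      (FinFr.extπ K (Spec.map (CommRingCat.ofHom (algebraMap k A)))).base y :=
    congrArg (fun g => g.base y) (pullbackSpecIso_hom_fst' k A K)
  have hPQ : x₀.asIdeal.comap (algebraMap A (A ⊗[k] K)) =
      y₀.asIdeal.comap (algebraMap A (A ⊗[k] K)) := by
    have := hx.trans (h.trans hy.symm)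
    exact congrArg PrimeSpectrum.asIdeal this
  obtain ⟨σ, hσ⟩ := exists_comap_eq A x₀.asIdeal y₀.asIdeal hPQ
  refine ⟨σ, ?_⟩
  have h1 : (Spec.map (CommRingCat.ofHom ((tensAut A σ : (A ⊗[k] K) ≃ₐ[A] (A ⊗[k] K)) :
        (A ⊗[k] K) →+* (A ⊗[k] K)))).base x₀ = y₀ := by
    apply PrimeSpectrum.ext
    exact hσ.symm
  have h2 := congrArg (fun g => g.base x₀) (specIso_galAct (K := K) A σ)
  simp only [Scheme.Hom.comp_base, TopCat.comp_app] at h2
  rw [h1] at h2
  have hx₀ : e.inv.base x₀ = x := by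
    change (e.hom ≫ e.inv).base x = x
    rw [Iso.hom_inv_id]; rfl
  have hy₀ : e.inv.base y₀ = y := by
    change (e.hom ≫ e.inv).base y = y
    rw [Iso.hom_inv_id]; rfl
  rw [hx₀, hy₀] at h2
  exact h2

/-- the chart of `X_K` over an affine open of `X` -/
noncomputable def chart {X : Scheme.{u}} (f : X ⟶ Spec (CommRingCat.of k)) {Z : Scheme.{u}}
    (i : Z ⟶ X) : FinFr.ext K (i ≫ f) ⟶ FinFr.ext K f :=
  pullback.map (i ≫ f) (FinFr.specι k K) f (FinFr.specι k K) i (𝟙 _) (𝟙 _) (by simp) (by simp)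

theorem chart_fst {X : Scheme.{u}} (f : X ⟶ Spec (CommRingCat.of k)) {Z : Scheme.{u}}
    (i : Z ⟶ X) : chart (K := K) f i ≫ FinFr.extπ K f = FinFr.extπ K (i ≫ f) ≫ i :=
  pullback.lift_fst _ _ _

theorem chart_snd {X : Scheme.{u}} (f : X ⟶ Spec (CommRingCat.of k)) {Z : Scheme.{u}}
    (i : Z ⟶ X) : chart (K := K) f i ≫ FinFr.extStr K f = FinFr.extStr K (i ≫ f) :=
  (pullback.lift_snd _ _ _).trans (Category.comp_id _)

theorem chart_galAct {X : Scheme.{u}} (f : X ⟶ Spec (CommRingCat.of k)) {Z : Scheme.{u}}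
    (i : Z ⟶ X) (σ : K ≃ₐ[k] K) :
    chart (K := K) f i ≫ FinFr.galAct f σ = FinFr.galAct (i ≫ f) σ ≫ chart (K := K) f i := by
  apply pullback.hom_ext
  · rw [Category.assoc, Category.assoc]
    erw [FinFr.galAct_fst, chart_fst]
    rw [← Category.assoc]
    erw [FinFr.galAct_fst]
  · rw [Category.assoc, Category.assoc]
    erw [FinFr.galAct_snd, chart_snd]
    rw [← Category.assoc]
    erw [chart_snd, FinFr.galAct_snd]

theorem mem_range_chart {X : Scheme.{u}} (f : X ⟶ Spec (CommRingCat.of k)) {Z : Scheme.{u}}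
    (i : Z ⟶ X) (x : ↑(FinFr.ext K f))
    (hx : (FinFr.extπ K f).base x ∈ Set.range i.base) :
    x ∈ Set.range (chart (K := K) f i).base := by
  have := Scheme.Pullback.range_map (i ≫ f) (FinFr.specι k K) f (FinFr.specι k K) i (𝟙 _) (𝟙 _)
    (by simp) (by simp)
  change x ∈ Set.range (pullback.map (i ≫ f) (FinFr.specι k K) f (FinFr.specι k K) i (𝟙 _) (𝟙 _)
    (by simp) (by simp))
  rw [this]
  exact ⟨hx, ⟨_, rfl⟩⟩

/-- fibres of `X_K ⟶ X` are Galois orbits -/
theorem orbit_of_fst_eq [IsGalois k K] {X : Scheme.{u}} (f : X ⟶ Spec (CommRingCat.of k))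
    (x y : ↑(FinFr.ext K f))
    (h : (FinFr.extπ K f).base x = (FinFr.extπ K f).base y) :
    ∃ σ : K ≃ₐ[k] K, (FinFr.galAct f σ).base x = y := by
  obtain ⟨_, ⟨U, hU, rfl⟩, hzU, -⟩ := X.isBasis_affineOpens.exists_subset_of_mem_open
    (Set.mem_univ ((FinFr.extπ K f).base x)) isOpen_univ
  have hU' : IsAffineOpen U := hU
  let i := hU'.fromSpec
  let φ := Spec.preimage (i ≫ f)
  letI : Algebra k Γ(X, U) := φ.hom.toAlgebra
  have hφ : i ≫ f = Spec.map (CommRingCat.ofHom (algebraMap k Γ(X, U))) :=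
    (Spec.map_preimage (i ≫ f)).symm
  have hxr : x ∈ Set.range (chart (K := K) f i).base := by
    apply mem_range_chart
    rw [hU'.range_fromSpec]
    exact hzU
  have hyr : y ∈ Set.range (chart (K := K) f i).base := by
    apply mem_range_chart
    rw [hU'.range_fromSpec, ← h]
    exact hzU
  obtain ⟨x', rfl⟩ := hxr
  obtain ⟨y', rfl⟩ := hyr
  have h' : (FinFr.extπ K (i ≫ f)).base x' = (FinFr.extπ K (i ≫ f)).base y' := by
    apply i.isOpenEmbedding.injective
    have e1 := congrArg (fun m => m.base x') (chart_fst (K := K) f i)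
    have e2 := congrArg (fun m => m.base y') (chart_fst (K := K) f i)
    simp only [Scheme.Hom.comp_base, TopCat.comp_app] at e1 e2
    rw [← e1, ← e2]
    exact h
  obtain ⟨σ, hσ⟩ := affine_orbit (K := K) Γ(X, U) (i ≫ f) hφ x' y' h'
  refine ⟨σ, ?_⟩
  have := congrArg (fun m => m.base x') (chart_galAct (K := K) f i σ)
  simp only [Scheme.Hom.comp_base, TopCat.comp_app] at this
  rw [this, hσ]

end geom

end Groth.Agent.H9.GOB
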