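import Mathlib
import Groth.Prelude.Def_FinFr
import Groth.Prelude.Def_Frob
import Groth.Agent.Lib.Helper9.Misc.FrobDegB
import Groth.Agent.Lib.Helper9.Misc.GOB1
import Groth.Agent.Lib.Helper9.Misc.GOB2

/-! Helper9: Frobenius-stable closed subsets of `X ×_k k̄` descend to `X` (`k` finite). -/

set_option autoImplicit false
set_option linter.style.haveILetI false
set_option linter.unusedSectionVars false
set_option linter.unusedVariables false

open TensorProduct AlgebraicGeometry CategoryTheory CategoryTheory.Limits FrobSch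

universe u

namespace Groth.Agent.H9.GOB

section fin

variable {k K : Type u} [Field k] [Fintype k] [Field K] [Algebra k K]

open Polynomial in
theorem mem_range_of_pow_card_eq (x : K) (hx : x ^ Fintype.card k = x) :
    x ∈ Set.range (algebraMap k K) := by
  classical
  let P : K[X] := X ^ Fintype.card k - X
  have hP : P ≠ 0 := FiniteField.X_pow_card_sub_X_ne_zero K Fintype.one_lt_card
  have hdeg : P.natDegree = Fintype.card k :=
    FiniteField.X_pow_card_sub_X_natDegree_eq K Fintype.one_lt_card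
  let S : Finset K := Finset.univ.image (algebraMap k K)
  have hS : S ⊆ P.roots.toFinset := by
    intro y hy
    obtain ⟨c, -, rfl⟩ := Finset.mem_image.mp hy
    rw [Multiset.mem_toFinset, mem_roots hP, IsRoot.def, eval_sub, eval_pow, eval_X, ← map_pow,
      FiniteField.pow_card, sub_self]
  have hcard : P.roots.toFinset.card ≤ S.card := by
    rw [Finset.card_image_of_injective _ (algebraMap k K).injective, Finset.card_univ]
    calc P.roots.toFinset.card ≤ Multiset.card P.roots := Multiset.toFinset_card_le _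
      _ ≤ P.natDegree := card_roots' P
      _ = Fintype.card k := hdeg
  have hSeq := Finset.eq_of_subset_of_card_le hS hcard
  have hx' : x ∈ P.roots.toFinset := by
    rw [Multiset.mem_toFinset, mem_roots hP, IsRoot.def, eval_sub, eval_pow, eval_X, hx, sub_self]
  rw [← hSeq] at hx'
  obtain ⟨c, -, rfl⟩ := Finset.mem_image.mp hx'
  exact ⟨c, rfl⟩

variable [IsGalois k K]

theorem dense_zpowers_frob :
    (Subgroup.zpowers (FiniteField.frobeniusAlgEquivOfAlgebraic k K)).topologicalClosure = ⊤ := by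
  let Hc : ClosedSubgroup (K ≃ₐ[k] K) :=
    ⟨(Subgroup.zpowers (FiniteField.frobeniusAlgEquivOfAlgebraic k K)).topologicalClosure,
      Subgroup.isClosed_topologicalClosure _⟩
  have h1 := InfiniteGalois.fixingSubgroup_fixedField Hc
  have h2 : IntermediateField.fixedField Hc.toSubgroup = ⊥ := by
    rw [eq_bot_iff]
    intro x hx
    rw [IntermediateField.mem_bot]
    apply mem_range_of_pow_card_eq
    have hφ : FiniteField.frobeniusAlgEquivOfAlgebraic k K ∈ Hc.toSubgroup :=
      Subgroup.le_topologicalClosure _ (Subgroup.mem_zpowers _)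
    have := hx ⟨_, hφ⟩
    simpa [FiniteField.coe_frobeniusAlgEquivOfAlgebraic] using this
  rw [h2, IntermediateField.fixingSubgroup_bot] at h1
  exact h1.symm

theorem exists_pow_inv_eq (H : Subgroup (K ≃ₐ[k] K)) (hH : IsOpen (H : Set (K ≃ₐ[k] K)))
    (σ : K ≃ₐ[k] K) :
    ∃ (t : ℕ) (h : K ≃ₐ[k] K), h ∈ H ∧
      (FiniteField.frobeniusAlgEquivOfAlgebraic k K)⁻¹ ^ t = h * σ := by
  set φ := FiniteField.frobeniusAlgEquivOfAlgebraic k K with hφ
  -- density
  have hdense : Dense ((Subgroup.zpowers φ : Subgroup (K ≃ₐ[k] K)) : Set (K ≃ₐ[k] K)) := by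
    rw [dense_iff_closure_eq, ← Subgroup.topologicalClosure_coe, dense_zpowers_frob]
    rfl
  have hopen : IsOpen ((fun g => g * σ⁻¹) ⁻¹' (H : Set (K ≃ₐ[k] K))) :=
    hH.preimage (continuous_mul_const σ⁻¹)
  have hne : ((fun g => g * σ⁻¹) ⁻¹' (H : Set (K ≃ₐ[k] K))).Nonempty :=
    ⟨σ, by simp [H.one_mem]⟩
  obtain ⟨g, hg1, hg2⟩ := hdense.inter_open_nonempty _ hopen hne
  obtain ⟨n, rfl⟩ := Subgroup.mem_zpowers_iff.mp hg2
  have hg1' : φ ^ n * σ⁻¹ ∈ H := hg1
  -- finite index
  haveI : Finite ((K ≃ₐ[k] K) ⧸ H) := Subgroup.quotient_finite_of_isOpen H hH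
  haveI : H.FiniteIndex := Subgroup.finiteIndex_of_finite_quotient
  obtain ⟨m, hm0, -, hm⟩ := Subgroup.exists_pow_mem_of_index_ne_zero
    (Subgroup.FiniteIndex.index_ne_zero (H := H)) φ
  -- choose t = N m - n with N = |n|
  set N := n.natAbs with hN
  have hge : n ≤ (N * m : ℕ) := by
    have h1 : n ≤ (N : ℤ) := Int.le_natAbs
    have h2 : (N : ℤ) ≤ ((N * m : ℕ) : ℤ) := by
      exact_mod_cast Nat.le_mul_of_pos_right N hm0
    exact h1.trans h2
  obtain ⟨t, ht⟩ := Int.eq_ofNat_of_zero_le (sub_nonneg.mpr hge)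
  refine ⟨t, ((φ ^ m) ^ N)⁻¹ * (φ ^ n * σ⁻¹), H.mul_mem (H.inv_mem (H.pow_mem hm N)) hg1', ?_⟩
  have e1 : φ⁻¹ ^ t = φ ^ (-(t : ℤ)) := by
    rw [zpow_neg, zpow_natCast, inv_pow]
  have e2 : ((φ ^ m) ^ N) = φ ^ ((N * m : ℕ) : ℤ) := by
    rw [zpow_natCast, ← pow_mul, mul_comm]
  rw [e1, ← ht]
  change _ = ((φ ^ m) ^ N)⁻¹ * (φ ^ n * σ⁻¹) * σ
  rw [e2, ← zpow_neg, mul_assoc, inv_mul_cancel_right, ← zpow_add]
  congr 1
  ring

end fin

section geom

variable {k K : Type u} [Field k] [Field K] [Algebra k K]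

theorem isNoetherianRing_tensor (A : Type u) [CommRing A] [Algebra k A] [Algebra.FiniteType k A] :
    IsNoetherianRing (A ⊗[k] K) := by
  haveI : Algebra.FiniteType K (K ⊗[k] A) := inferInstance
  haveI : IsNoetherianRing (K ⊗[k] A) := Algebra.FiniteType.isNoetherianRing K _
  exact isNoetherianRing_of_ringEquiv _ (Algebra.TensorProduct.comm k K A).toRingEquiv

theorem affine_stabilizer [Algebra.IsAlgebraic k K] (A : Type u) [CommRing A] [Algebra k A]
    [Algebra.FiniteType k A]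
    (f' : Spec (CommRingCat.of A) ⟶ Spec (CommRingCat.of k))
    (hf' : f' = Spec.map (CommRingCat.ofHom (algebraMap k A)))
    (x : ↑(FinFr.ext K f')) :
    ∃ H : Subgroup (K ≃ₐ[k] K), IsOpen (H : Set (K ≃ₐ[k] K)) ∧
      ∀ h ∈ H, (FinFr.galAct f' h).base x = x := by
  subst hf'
  let e := pullbackSpecIso k A K
  let x₀ := e.hom.base x
  haveI := isNoetherianRing_tensor (k := k) (K := K) A
  obtain ⟨H, hHo, hH⟩ := exists_open_stabilizer A x₀.asIdeal
    ((isNoetherianRing_iff_ideal_fg _).mp inferInstance _)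
  refine ⟨H, hHo, fun h hh => ?_⟩
  have h1 : (Spec.map (CommRingCat.ofHom ((tensAut A h : (A ⊗[k] K) ≃ₐ[A] (A ⊗[k] K)) :
        (A ⊗[k] K) →+* (A ⊗[k] K)))).base x₀ = x₀ := by
    apply PrimeSpectrum.ext
    exact hH h hh
  have h2 := congrArg (fun g => g.base x₀) (specIso_galAct (K := K) A h)
  simp only [Scheme.Hom.comp_base, TopCat.comp_app] at h2
  rw [h1] at h2
  have hx₀ : e.inv.base x₀ = x := by
    change (e.hom ≫ e.inv).base x = x
    rw [Iso.hom_inv_id]; rfl
  rw [hx₀] at h2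
  exact h2

theorem point_stabilizer [Algebra.IsAlgebraic k K] {X : Scheme.{u}}
    (f : X ⟶ Spec (CommRingCat.of k)) [LocallyOfFiniteType f] (x : ↑(FinFr.ext K f)) :
    ∃ H : Subgroup (K ≃ₐ[k] K), IsOpen (H : Set (K ≃ₐ[k] K)) ∧
      ∀ h ∈ H, (FinFr.galAct f h).base x = x := by
  obtain ⟨_, ⟨U, hU, rfl⟩, hzU, -⟩ := X.isBasis_affineOpens.exists_subset_of_mem_open
    (Set.mem_univ ((FinFr.extπ K f).base x)) isOpen_univ
  have hU' : IsAffineOpen U := hU
  let i := hU'.fromSpec
  let φ := Spec.preimage (i ≫ f)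
  letI : Algebra k Γ(X, U) := φ.hom.toAlgebra
  have hφ : i ≫ f = Spec.map (CommRingCat.ofHom (algebraMap k Γ(X, U))) :=
    (Spec.map_preimage (i ≫ f)).symm
  haveI : Algebra.FiniteType k Γ(X, U) := by
    have h1 : LocallyOfFiniteType (Spec.map φ) := by
      rw [Spec.map_preimage]; infer_instance
    exact (HasRingHomProperty.Spec_iff (P := @LocallyOfFiniteType)).mp h1
  have hxr : x ∈ Set.range (chart (K := K) f i).base := by
    apply mem_range_chart
    rw [hU'.range_fromSpec]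
    exact hzU
  obtain ⟨x', rfl⟩ := hxr
  obtain ⟨H, hHo, hH⟩ := affine_stabilizer (K := K) Γ(X, U) (i ≫ f) hφ x'
  refine ⟨H, hHo, fun h hh => ?_⟩
  have := congrArg (fun m => m.base x') (chart_galAct (K := K) f i h)
  simp only [Scheme.Hom.comp_base, TopCat.comp_app] at this
  rw [this, hH h hh]

end geom

section frob

variable {k K : Type u} [Field k] [Fintype k] [Field K] [Algebra k K] [IsAlgClosed K]
  [IsGalois k K]

/-- `F ∘ galAct φ` is the identity on points -/
theorem frob_galAct_base {X : Scheme.{u}} (f : X ⟶ Spec (CommRingCat.of k))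
    (FX : X ⟶ X) (hFb : FX.base = 𝟙 _) (hle : ∀ U : X.Opens, U ≤ FX ⁻¹ᵁ U)
    (hFapp : ∀ (U : X.Opens) (s : Γ(X, U)), (FX.appLE U U (hle U)).hom s = s ^ Fintype.card k)
    (F : FinFr.ext K f ⟶ FinFr.ext K f)
    (hF1 : F ≫ FinFr.extπ K f = FinFr.extπ K f ≫ FX)
    (hF2 : F ≫ FinFr.extStr K f = FinFr.extStr K f) (x : ↑(FinFr.ext K f)) :
    F.base ((FinFr.galAct f (FiniteField.frobeniusAlgEquivOfAlgebraic k K)).base x) = x := by
  obtain ⟨p, hp⟩ := CharP.exists k
  have hprime : Fact p.Prime := ⟨CharP.char_is_prime k p⟩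
  obtain ⟨e, -, hcard⟩ := FiniteField.card k p
  have hk₀ : ∀ c : k, c ^ (p ^ (e : ℕ)) = c := fun c => by
    rw [← hcard]; exact FiniteField.pow_card c
  have : CharP K p := charP_of_injective_algebraMap (algebraMap k K).injective p
  have : ExpChar K p := ExpChar.prime hprime.out
  have : PerfectRing K p := PerfectField.toPerfectRing p
  have : IsCharP X p := IsCharP.of_hom f p
  have : IsCharP (FinFr.ext K f) p := IsCharP.of_hom (FinFr.extStr K f) p
  have hFX : FX = Groth.Agent.H9.FrobDegB.frobIter X p e := by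
    refine Groth.Agent.H9.FrobDegB.eq_of_isQFrob (p ^ (e : ℕ)) FX _ hFb
      (Groth.Agent.H9.FrobDegB.frobIter_base X p e) hle
      (Groth.Agent.H9.FrobDegB.frobIter_le X p e) ?_
      (Groth.Agent.H9.FrobDegB.frobIter_appLE X p e)
    intro U s
    rw [hFapp, hcard]
  have hπ : IsPullback (FinFr.extπ K f) (FinFr.extStr K f) f
      (Spec.map (CommRingCat.ofHom (algebraMap k K))) := IsPullback.of_hasPullback _ _
  have hσ := Groth.Agent.H9.FrobDegB.sigma_comp_eq_frobIter p e hk₀ f (FinFr.extStr K f)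
    (FinFr.extπ K f) hπ FX hFX F hF2 hF1
  have hsig : Groth.Agent.H9.FrobDegB.sigma p (e : ℕ) hk₀ f (FinFr.extStr K f)
      (FinFr.extπ K f) hπ = FinFr.galAct f (FiniteField.frobeniusAlgEquivOfAlgebraic k K) := by
    apply hπ.hom_ext
    · rw [Groth.Agent.H9.FrobDegB.sigma_fst]
      exact (FinFr.galAct_fst f _).symm
    · rw [Groth.Agent.H9.FrobDegB.sigma_snd]
      refine Eq.trans ?_ (FinFr.galAct_snd f _).symm
      congr 2
      ext c
      simp only [CommRingCat.hom_ofHom, iterateFrobenius_def]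
      change c ^ p ^ (e : ℕ) = (FiniteField.frobeniusAlgEquivOfAlgebraic k K) c
      rw [FiniteField.coe_frobeniusAlgEquivOfAlgebraic, hcard]
  rw [hsig] at hσ
  have := congrArg (fun m => m.base x) hσ
  simp only [Scheme.Hom.comp_base, TopCat.comp_app] at this
  rw [this, Groth.Agent.H9.FrobDegB.frobIter_base]
  rfl

/-- the Galois translate of a point is an iterated Frobenius image -/
theorem galAct_eq_iterate {X : Scheme.{u}} (f : X ⟶ Spec (CommRingCat.of k))
    [LocallyOfFiniteType f]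
    (FX : X ⟶ X) (hFb : FX.base = 𝟙 _) (hle : ∀ U : X.Opens, U ≤ FX ⁻¹ᵁ U)
    (hFapp : ∀ (U : X.Opens) (s : Γ(X, U)), (FX.appLE U U (hle U)).hom s = s ^ Fintype.card k)
    (F : FinFr.ext K f ⟶ FinFr.ext K f)
    (hF1 : F ≫ FinFr.extπ K f = FinFr.extπ K f ≫ FX)
    (hF2 : F ≫ FinFr.extStr K f = FinFr.extStr K f) (x : ↑(FinFr.ext K f)) (σ : K ≃ₐ[k] K) :
    ∃ t : ℕ, (FinFr.galAct f σ).base x = (F.base)^[t] x := by
  set φ := FiniteField.frobeniusAlgEquivOfAlgebraic k K with hφ
  have hF : ∀ y, F.base y = (FinFr.galAct f φ⁻¹).base y := by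
    intro y
    have h1 := frob_galAct_base f FX hFb hle hFapp F hF1 hF2 ((FinFr.galAct f φ⁻¹).base y)
    have h2 : (FinFr.galAct f φ).base ((FinFr.galAct f φ⁻¹).base y) = y := by
      have := congrArg (fun m => m.base y) (galAct_mul f φ⁻¹ φ)
      simp only [Scheme.Hom.comp_base, TopCat.comp_app] at this
      rw [← this, inv_mul_cancel, galAct_one]
      rfl
    rw [h2] at h1
    exact h1
  have hFt : ∀ (t : ℕ) y, (F.base)^[t] y = (FinFr.galAct f (φ⁻¹ ^ t)).base y := by
    intro t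
    induction t with
    | zero => intro y; rw [pow_zero, galAct_one]; rfl
    | succ t ih =>
      intro y
      rw [Function.iterate_succ_apply', ih, hF, pow_succ, galAct_mul]
      rfl
  obtain ⟨H, hHo, hH⟩ := point_stabilizer (K := K) f x
  obtain ⟨t, h, hh, ht⟩ := exists_pow_inv_eq H hHo σ
  refine ⟨t, ?_⟩
  rw [← hφ] at ht
  rw [hFt, ht, galAct_mul]
  simp only [Scheme.Hom.comp_base, TopCat.comp_app]
  rw [hH h hh]

theorem frob_stable_iff {X : Scheme.{u}} (f : X ⟶ Spec (CommRingCat.of k))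
    [LocallyOfFiniteType f]
    (FX : X ⟶ X) (hFb : FX.base = 𝟙 _) (hle : ∀ U : X.Opens, U ≤ FX ⁻¹ᵁ U)
    (hFapp : ∀ (U : X.Opens) (s : Γ(X, U)), (FX.appLE U U (hle U)).hom s = s ^ Fintype.card k)
    (F : FinFr.ext K f ⟶ FinFr.ext K f)
    (hF1 : F ≫ FinFr.extπ K f = FinFr.extπ K f ≫ FX)
    (hF2 : F ≫ FinFr.extStr K f = FinFr.extStr K f)
    (W : Set ↑(FinFr.ext K f)) (hW : IsClosed W) :
    (∃ Y : Set X, IsClosed Y ∧ (FinFr.extπ K f).base ⁻¹' Y = W) ↔ F.base '' W ⊆ W := by
  constructor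
  · rintro ⟨Y, -, rfl⟩
    rintro _ ⟨w, hw, rfl⟩
    have := congrArg (fun m => m.base w) hF1
    simp only [Scheme.Hom.comp_base, TopCat.comp_app] at this
    rw [Set.mem_preimage, this, hFb]
    exact hw
  · intro hFW
    have hiter : ∀ (t : ℕ) w, w ∈ W → (F.base)^[t] w ∈ W := by
      intro t
      induction t with
      | zero => intro w hw; exact hw
      | succ t ih =>
        intro w hw
        rw [Function.iterate_succ_apply']
        exact hFW ⟨_, ih w hw, rfl⟩
    haveI : IsIntegralHom (Spec.map (CommRingCat.ofHom (algebraMap k K))) := by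
      rw [IsIntegralHom.SpecMap_iff]
      exact (Algebra.IsIntegral.isIntegral : (algebraMap k K).IsIntegral)
    haveI : IsIntegralHom (FinFr.extπ K f) := inferInstance
    refine ⟨(FinFr.extπ K f).base '' W, (FinFr.extπ K f).isClosedMap W hW, ?_⟩
    apply Set.Subset.antisymm
    · rintro x ⟨w, hw, hwx⟩
      obtain ⟨σ, rfl⟩ := orbit_of_fst_eq (K := K) f w x hwx
      obtain ⟨t, ht⟩ := galAct_eq_iterate f FX hFb hle hFapp F hF1 hF2 w σ
      rw [ht]
      exact hiter t w hw
    · exact Set.subset_preimage_image _ W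

end frob

end Groth.Agent.H9.GOB
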