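import Mathlib
import Groth.Prelude.Def_FinFr
import Groth.Prelude.Def_ResDeg
import Groth.Agent.Lib.Helper9.Misc.ZTC1
import Groth.Agent.Lib.Helper9.Misc.GOB2

/-! Helper9: the fibre of `X ×_k K ⟶ X` over a closed point has `[κ(x) : k]` points
(`k` perfect, `K` an algebraic closure). -/

set_option autoImplicit false
set_option linter.style.haveILetI false
set_option linter.unusedSectionVars false
set_option linter.unusedVariables false

open TensorProduct AlgebraicGeometry CategoryTheory CategoryTheory.Limits

universe u

namespace Groth.Agent.H9.GOB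

open Groth.Agent.H9.ZTC

section fibre

variable {k : Type u} [Field k] (K : Type u) [Field K] [Algebra k K]
variable {X : Scheme.{u}} (f : X ⟶ Spec (CommRingCat.of k))

instance galAct_isIso (σ : K ≃ₐ[k] K) : IsIso (FinFr.galAct f σ) :=
  ⟨FinFr.galAct f σ⁻¹, by rw [← galAct_mul, mul_inv_cancel, galAct_one],
    by rw [← galAct_mul, inv_mul_cancel, galAct_one]⟩

/-- sections of `X_K → Spec K` are `K`-points of `X` -/
noncomputable def secEquiv :
    {p : Spec (CommRingCat.of K) ⟶ FinFr.ext K f // p ≫ FinFr.extStr K f = 𝟙 _} ≃ Pts f K where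
  toFun p := ⟨p.1 ≫ FinFr.extπ K f, by
    rw [Category.assoc, pullback.condition, ← Category.assoc, p.2, Category.id_comp]⟩
  invFun u := ⟨pullback.lift u.1 (𝟙 _) (by rw [u.2, Category.id_comp]), pullback.lift_snd _ _ _⟩
  left_inv p := by
    apply Subtype.ext
    apply pullback.hom_ext
    · exact pullback.lift_fst _ _ _
    · exact (pullback.lift_snd _ _ _).trans p.2.symm
  right_inv u := by
    apply Subtype.ext
    exact pullback.lift_fst _ _ _

variable [IsAlgClosed K] [LocallyOfFiniteType f]

/-- closed points of `X_K` are pairs (point of `X`, embedding of its residue field) -/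
noncomputable def closedEquiv : closedPoints ↑(FinFr.ext K f) ≃ SPts f K :=
  ((pointEquivClosedPoint (FinFr.extStr K f)).symm.trans (secEquiv K f)).trans (ptsEquiv f K).symm

theorem closedEquiv_fst (y : closedPoints ↑(FinFr.ext K f)) :
    (closedEquiv K f y).1 = (FinFr.extπ K f).base y.1 := by
  set s := closedEquiv K f y with hs
  set p := (pointEquivClosedPoint (FinFr.extStr K f)).symm y with hp
  have h1 : ptsEquiv f K s = secEquiv K f p := by
    rw [hs, closedEquiv]
    simp only [Equiv.trans_apply, Equiv.apply_symm_apply]
    rfl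
  have h2 : s.toHom f = p.1 ≫ FinFr.extπ K f := by
    rw [← ptsEquiv_val, h1]; rfl
  have h3 : p.1.base (IsLocalRing.closedPoint K) = y.1 := by
    have := congrArg Subtype.val ((pointEquivClosedPoint (FinFr.extStr K f)).apply_symm_apply y)
    exact this
  have h4 := congrArg (fun m => m.base (IsLocalRing.closedPoint K)) h2
  simp only [Scheme.Hom.comp_base, TopCat.comp_app, SPts.toHom] at h4
  rw [h3] at h4
  rw [← h4]
  exact (Scheme.fromSpecResidueField_apply _ _).symm

end fibre

section count

variable {k : Type u} [Field k] (K : Type u) [Field K] [Algebra k K] [IsAlgClosed K]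
  [IsGalois k K]
variable {X : Scheme.{u}} (f : X ⟶ Spec (CommRingCat.of k)) [LocallyOfFiniteType f]

/-- points over a closed point are closed -/
theorem isClosed_of_fst_closed (y : ↑(FinFr.ext K f))
    (hx : IsClosed ({(FinFr.extπ K f).base y} : Set X)) : IsClosed ({y} : Set ↑(FinFr.ext K f)) := by
  haveI : JacobsonSpace ↑(FinFr.ext K f) := LocallyOfFiniteType.jacobsonSpace (FinFr.extStr K f)
  have h1 : (closure {y} ∩ closedPoints ↑(FinFr.ext K f)).Nonempty := by
    by_contra hne
    rw [Set.not_nonempty_iff_eq_empty] at hne
    have := JacobsonSpace.closure_inter_closedPoints_eq_closure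
      (isClosed_closure (s := ({y} : Set ↑(FinFr.ext K f)))).isLocallyClosed
    rw [hne, closure_empty, closure_closure] at this
    have hy : y ∈ closure ({y} : Set ↑(FinFr.ext K f)) := subset_closure (Set.mem_singleton y)
    rw [← this] at hy
    exact hy
  obtain ⟨y', hy'1, hy'2⟩ := h1
  have h2 : (FinFr.extπ K f).base y' = (FinFr.extπ K f).base y := by
    have h3 : (FinFr.extπ K f).base y' ∈ closure {(FinFr.extπ K f).base y} := by
      have hc : Continuous (FinFr.extπ K f).base := (FinFr.extπ K f).continuous
      have := image_closure_subset_closure_image hc (s := {y}) ⟨y', hy'1, rfl⟩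
      rwa [Set.image_singleton] at this
    rw [hx.closure_eq] at h3
    exact h3
  obtain ⟨σ, hσ⟩ := orbit_of_fst_eq (K := K) f y' y h2
  rw [← hσ]
  have := (FinFr.galAct f σ).isClosedEmbedding.isClosedMap _ hy'2
  rwa [Set.image_singleton] at this

variable [PerfectField k]

theorem finite_residueField_of_isClosed (x : X) (hx : IsClosed ({x} : Set X)) :
    letI := (chi f x).hom.toAlgebra
    Module.Finite k (X.residueField x) := by
  letI := (chi f x).hom.toAlgebra
  haveI : JacobsonSpace X := LocallyOfFiniteType.jacobsonSpace f
  rw [isClosed_singleton_iff_locallyOfFiniteType] at hx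
  have h2 : LocallyOfFiniteType (Spec.map (chi f x)) := by
    rw [specMap_chi]; infer_instance
  rw [HasRingHomProperty.Spec_iff (P := @LocallyOfFiniteType)] at h2
  haveI : Algebra.FiniteType k (X.residueField x) := h2
  exact finite_of_finite_type_of_isJacobsonRing k (X.residueField x)

/-- the number of points over a closed point is the residue degree -/
theorem card_fibre (x : X) (hx : IsClosed ({x} : Set X)) :
    Nat.card {y : ↑(FinFr.ext K f) // (FinFr.extπ K f).base y = x} =
      EGA4loc.residueDegree f x := by
  let e1 : {y : ↑(FinFr.ext K f) // (FinFr.extπ K f).base y = x} ≃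
      {y : closedPoints ↑(FinFr.ext K f) // (FinFr.extπ K f).base y.1 = x} :=
    { toFun := fun y => ⟨⟨y.1, isClosed_of_fst_closed K f y.1 (by rw [y.2]; exact hx)⟩, y.2⟩
      invFun := fun y => ⟨y.1.1, y.2⟩
      left_inv := fun y => rfl
      right_inv := fun y => rfl }
  let e2 : {y : closedPoints ↑(FinFr.ext K f) // (FinFr.extπ K f).base y.1 = x} ≃
      {s : SPts f K // s.1 = x} :=
    (closedEquiv K f).subtypeEquiv (fun y => by rw [closedEquiv_fst])
  let e3 : {s : SPts f K // s.1 = x} ≃
      {ι : X.residueField x ⟶ CommRingCat.of K //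
        chi f x ≫ ι = CommRingCat.ofHom (algebraMap k K)} := Equiv.sigmaSubtype x
  letI := (chi f x).hom.toAlgebra
  let e4 : {ι : X.residueField x ⟶ CommRingCat.of K //
        chi f x ≫ ι = CommRingCat.ofHom (algebraMap k K)} ≃ (X.residueField x →ₐ[k] K) :=
    { toFun := fun ι => { ι.1.hom with
          commutes' := fun a => by
            have := congrArg (fun t => t.hom a) ι.2
            exact this }
      invFun := fun τ => ⟨CommRingCat.ofHom τ.toRingHom, by
        ext a
        exact τ.commutes a⟩
      left_inv := fun ι => by apply Subtype.ext; rfl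
      right_inv := fun τ => by ext; rfl }
  rw [Nat.card_congr (((e1.trans e2).trans e3).trans e4), residueDegree_eq]
  haveI := finite_residueField_of_isClosed f x hx
  rw [← Field.finSepDegree_eq_of_isAlgClosed k (X.residueField x) K,
    Field.finSepDegree_eq_finrank_of_isSeparable]

end count

end Groth.Agent.H9.GOB
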