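import Mathlib
import Groth.Prelude.Def_FinFr
import Groth.Prelude.Def_ResDeg
import Groth.Agent.Lib.Helper9.Misc.ZTC1
import Groth.Agent.Lib.Helper9.Misc.GOB2
import Groth.Agent.Lib.Helper9.Misc.GOB4

/-! Helper9: effective 0-cycles on `X` and Galois-invariant effective 0-cycles on `X ×_k k̄`. -/

set_option autoImplicit false
set_option linter.style.haveILetI false
set_option linter.unusedSectionVars false
set_option linter.unusedVariables false

open TensorProduct AlgebraicGeometry CategoryTheory CategoryTheory.Limits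

universe u

namespace Groth.Agent.H9.GOB

open Groth.Agent.H9.ZTC

section cyc

variable {k : Type u} [Field k] (K : Type u) [Field K] [Algebra k K] [IsAlgClosed K]
  [IsGalois k K] [PerfectField k]
variable {X : Scheme.{u}} (f : X ⟶ Spec (CommRingCat.of k)) [LocallyOfFiniteType f]

theorem extπ_surjective : Function.Surjective (FinFr.extπ K f).base := by
  haveI : Surjective (Spec.map (CommRingCat.ofHom (algebraMap k K))) := by
    constructor
    intro x
    exact ⟨IsLocalRing.closedPoint K, Subsingleton.elim _ _⟩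
  haveI : Surjective (FinFr.extπ K f) := inferInstance
  exact (FinFr.extπ K f).surjective

theorem extπ_isClosedMap : IsClosedMap (FinFr.extπ K f).base := by
  haveI : IsIntegralHom (Spec.map (CommRingCat.ofHom (algebraMap k K))) := by
    rw [IsIntegralHom.SpecMap_iff]
    exact (Algebra.IsIntegral.isIntegral : (algebraMap k K).IsIntegral)
  haveI : IsIntegralHom (FinFr.extπ K f) := inferInstance
  exact (FinFr.extπ K f).isClosedMap

theorem residueDegree_pos_of_isClosed (x : X) (hx : IsClosed ({x} : Set X)) :
    0 < EGA4loc.residueDegree f x := by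
  rw [residueDegree_eq]
  letI := (chi f x).hom.toAlgebra
  haveI := finite_residueField_of_isClosed f x hx
  exact Module.finrank_pos

theorem finite_fibre (x : X) (hx : IsClosed ({x} : Set X)) :
    ((FinFr.extπ K f).base ⁻¹' {x}).Finite := by
  have h1 := card_fibre K f x hx
  have h2 := residueDegree_pos_of_isClosed f x hx
  have : Finite {y : ↑(FinFr.ext K f) // (FinFr.extπ K f).base y = x} :=
    Nat.finite_of_card_ne_zero (by omega)
  exact Set.finite_coe_iff.mp this

variable (c : X → ℕ) (hc1 : (Function.support c).Finite)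
  (hc2 : ∀ x, c x ≠ 0 → IsClosed ({x} : Set X))

include hc1 hc2 in
theorem support_comp_finite : (Function.support (c ∘ (FinFr.extπ K f).base)).Finite := by
  have : Function.support (c ∘ (FinFr.extπ K f).base) =
      ⋃ x ∈ Function.support c, (FinFr.extπ K f).base ⁻¹' {x} := by
    ext y
    simp
  rw [this]
  exact hc1.biUnion (fun x hx => finite_fibre K f x (hc2 x hx))

include hc1 hc2 in
theorem finsum_comp_eq :
    ∑ᶠ y, c ((FinFr.extπ K f).base y) = ∑ᶠ x, c x * EGA4loc.residueDegree f x := by
  classical
  set π := (FinFr.extπ K f).base with hπ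
  have hs := support_comp_finite K f c hc1 hc2
  set s := hs.toFinset with hsdef
  set t := hc1.toFinset with htdef
  have h1 : ∑ᶠ y, c (π y) = ∑ y ∈ s, c (π y) := by
    apply finsum_eq_sum_of_support_subset
    intro y hy
    rw [hsdef, Set.Finite.coe_toFinset]
    exact hy
  have h2 : ∑ᶠ x, c x * EGA4loc.residueDegree f x = ∑ x ∈ t, c x * EGA4loc.residueDegree f x := by
    apply finsum_eq_sum_of_support_subset
    intro x hx
    rw [htdef, Set.Finite.coe_toFinset]
    rw [Function.mem_support] at hx ⊢
    exact fun h => hx (by rw [h, zero_mul])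
  rw [h1, h2]
  have hmaps : ∀ y ∈ s, π y ∈ t := by
    intro y hy
    rw [hsdef, Set.Finite.mem_toFinset] at hy
    rw [htdef, Set.Finite.mem_toFinset]
    exact hy
  rw [← Finset.sum_fiberwise_of_maps_to hmaps]
  refine Finset.sum_congr rfl (fun x hx => ?_)
  have hx' : c x ≠ 0 := by
    rw [htdef, Set.Finite.mem_toFinset] at hx
    exact hx
  have h3 : ∀ y ∈ s.filter (fun y => π y = x), c (π y) = c x := by
    intro y hy
    rw [(Finset.mem_filter.mp hy).2]
  rw [Finset.sum_congr rfl h3, Finset.sum_const, smul_eq_mul, mul_comm]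
  congr 1
  rw [← card_fibre K f x (hc2 x hx')]
  haveI : Finite {y : ↑(FinFr.ext K f) // (FinFr.extπ K f).base y = x} :=
    (finite_fibre K f x (hc2 x hx')).to_subtype
  haveI := Fintype.ofFinite {y : ↑(FinFr.ext K f) // (FinFr.extπ K f).base y = x}
  rw [Nat.card_eq_fintype_card, ← Fintype.card_coe]
  apply Fintype.card_congr
  refine Equiv.subtypeEquivRight (fun y => ?_)
  rw [Finset.mem_filter, hsdef, Set.Finite.mem_toFinset, Function.mem_support]
  constructor
  · exact fun h => h.2
  · intro h
    refine ⟨?_, h⟩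
    change c (π y) ≠ 0
    rw [h]
    exact hx'

theorem zeroCycles_bijOn (n : ℕ) :
    Set.BijOn (fun c : X → ℕ => c ∘ (FinFr.extπ K f).base)
      {c : X → ℕ | (Function.support c).Finite ∧ (∀ x, c x ≠ 0 → IsClosed ({x} : Set X)) ∧
        ∑ᶠ x, c x * EGA4loc.residueDegree f x = n}
      {d : ↑(FinFr.ext K f) → ℕ | (Function.support d).Finite ∧
        (∀ y, d y ≠ 0 → IsClosed ({y} : Set ↑(FinFr.ext K f))) ∧
        ∑ᶠ y, d y = n ∧ ∀ (σ : K ≃ₐ[k] K) y, d ((FinFr.galAct f σ).base y) = d y} := by
  refine ⟨?_, ?_, ?_⟩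
  · rintro c ⟨hc1, hc2, hc3⟩
    refine ⟨support_comp_finite K f c hc1 hc2, ?_, ?_, ?_⟩
    · intro y hy
      exact isClosed_of_fst_closed K f y (hc2 _ hy)
    · rw [← hc3]
      exact finsum_comp_eq K f c hc1 hc2
    · intro σ y
      have := congrArg (fun m => m.base y) (FinFr.galAct_fst f σ)
      simp only [Scheme.Hom.comp_base, TopCat.comp_app] at this
      change c ((FinFr.extπ K f).base ((FinFr.galAct f σ).base y)) = c ((FinFr.extπ K f).base y)
      rw [this]
  · intro c₁ _ c₂ _ h
    funext x
    obtain ⟨y, rfl⟩ := extπ_surjective K f x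
    exact congrFun h y
  · rintro d ⟨hd1, hd2, hd3, hd4⟩
    have hsurj := extπ_surjective K f
    let c : X → ℕ := fun x => d (hsurj x).choose
    have hcπ : ∀ y, c ((FinFr.extπ K f).base y) = d y := by
      intro y
      have h1 := (hsurj ((FinFr.extπ K f).base y)).choose_spec
      obtain ⟨σ, hσ⟩ := orbit_of_fst_eq (K := K) f _ y h1
      exact (hd4 σ _).symm.trans (congrArg d hσ)
    have hc1 : (Function.support c).Finite := by
      refine (hd1.image (FinFr.extπ K f).base).subset ?_
      intro x hx
      exact ⟨(hsurj x).choose, hx, (hsurj x).choose_spec⟩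
    have hc2 : ∀ x, c x ≠ 0 → IsClosed ({x} : Set X) := by
      intro x hx
      have := extπ_isClosedMap K f _ (hd2 _ hx)
      rwa [Set.image_singleton, (hsurj x).choose_spec] at this
    refine ⟨c, ⟨hc1, hc2, ?_⟩, funext hcπ⟩
    rw [← finsum_comp_eq K f c hc1 hc2]
    simp only [hcπ]
    exact hd3

end cyc

end Groth.Agent.H9.GOB
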