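import Mathlib

set_option autoImplicit false
set_option linter.style.haveILetI false
set_option linter.unusedSectionVars false
set_option linter.unusedVariables false

namespace Groth.Agent.H9.GPF

open DirectSum

section proj
variable {M : Type*} [AddCommGroup M] {τ : Type*} [SetLike τ M] [AddSubmonoidClass τ M]
  (ℳ : ℤ → τ) [DirectSum.Decomposition ℳ]

/-- projection onto the degree `d` component, as an additive map `M →+ M` -/
noncomputable def pr (d : ℤ) : M →+ M where
  toFun x := ((decompose ℳ x d : ℳ d) : M)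
  map_zero' := by simp
  map_add' x y := by simp [decompose_add]

lemma pr_apply (d : ℤ) (x : M) : pr ℳ d x = ((decompose ℳ x d : ℳ d) : M) := rfl

lemma pr_mem (d : ℤ) (x : M) : pr ℳ d x ∈ ℳ d := (decompose ℳ x d).2

lemma pr_of_mem_same {x : M} {d : ℤ} (h : x ∈ ℳ d) : pr ℳ d x = x :=
  decompose_of_mem_same ℳ h

lemma pr_of_mem_ne {x : M} {d e : ℤ} (h : x ∈ ℳ e) (hne : e ≠ d) : pr ℳ d x = 0 :=
  decompose_of_mem_ne ℳ h hne

open Classical in
lemma sum_pr (x : M) : ∑ d ∈ (decompose ℳ x).support, pr ℳ d x = x :=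
  DirectSum.sum_support_decompose ℳ x

open Classical in
lemma pr_eq_zero_of_notMem {x : M} {d : ℤ} (h : d ∉ (decompose ℳ x).support) : pr ℳ d x = 0 := by
  rw [DFinsupp.notMem_support_iff] at h
  rw [pr_apply, h]; rfl

lemma eq_zero_of_pr (x : M) (h : ∀ d, pr ℳ d x = 0) : x = 0 := by
  classical
  rw [← sum_pr ℳ x]
  exact Finset.sum_eq_zero (fun d _ => h d)

end proj

section graded
variable {R : Type*} [CommRing R] {σ : Type*} [SetLike σ R] [AddSubmonoidClass σ R]
  (𝒜 : ℤ → σ) [GradedRing 𝒜]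
variable {M : Type*} [AddCommGroup M] [Module R M] {τ : Type*} [SetLike τ M]
  [AddSubmonoidClass τ M] (ℳ : ℤ → τ) [DirectSum.Decomposition ℳ] [SetLike.GradedSMul 𝒜 ℳ]

/-- Lemma A -/
lemma pr_smul_of_mem (r : R) {t : M} {e : ℤ} (ht : t ∈ ℳ e) (d : ℤ) :
    pr ℳ d (r • t) = (pr 𝒜 (d - e) r) • t := by
  classical
  conv_lhs => rw [← sum_pr 𝒜 r]
  rw [Finset.sum_smul, map_sum]
  have hterm : ∀ i : ℤ, pr ℳ d ((pr 𝒜 i r) • t) = if i = d - e then (pr 𝒜 i r) • t else 0 := by
    intro i
    have hmem : (pr 𝒜 i r) • t ∈ ℳ (i + e) := by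
      have := SetLike.GradedSMul.smul_mem (A := 𝒜) (B := ℳ) (pr_mem 𝒜 i r) ht
      simpa using this
    split_ifs with h
    · have : i + e = d := by omega
      rw [this] at hmem
      exact pr_of_mem_same ℳ hmem
    · exact pr_of_mem_ne ℳ hmem (by omega)
  simp only [hterm]
  rw [Finset.sum_ite_eq']
  split_ifs with h
  · rfl
  · rw [pr_eq_zero_of_notMem 𝒜 h, zero_smul]

open Classical in
/-- Lemma B -/
lemma pr_smul (r : R) (x : M) (d : ℤ) :
    pr ℳ d (r • x) = ∑ e ∈ (decompose ℳ x).support, (pr 𝒜 (d - e) r) • pr ℳ e x := by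
  conv_lhs => rw [← sum_pr ℳ x]
  rw [Finset.smul_sum, map_sum]
  exact Finset.sum_congr rfl (fun e _ => pr_smul_of_mem 𝒜 ℳ r (pr_mem ℳ e x) d)

include 𝒜 in
/-- span of homogeneous elements is stable under components -/
lemma pr_mem_span (T : Set M) (hT : ∀ t ∈ T, SetLike.IsHomogeneousElem ℳ t) :
    ∀ x ∈ Submodule.span R T, ∀ d, pr ℳ d x ∈ Submodule.span R T := by
  classical
  intro x hx
  induction hx using Submodule.span_induction with
  | mem t ht =>
    intro d
    obtain ⟨e, he⟩ := hT t ht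
    by_cases hed : e = d
    · subst hed; rw [pr_of_mem_same ℳ he]; exact Submodule.subset_span ht
    · rw [pr_of_mem_ne ℳ he hed]; exact Submodule.zero_mem _
  | zero => intro d; rw [map_zero]; exact Submodule.zero_mem _
  | add x y _ _ hx hy => intro d; rw [map_add]; exact Submodule.add_mem _ (hx d) (hy d)
  | smul r x _ hx =>
    intro d
    rw [pr_smul 𝒜 ℳ]
    exact Submodule.sum_mem _ (fun e _ => Submodule.smul_mem _ _ (hx e))

variable (hneg : ∀ i : ℤ, i < 0 → ∀ x ∈ 𝒜 i, x = 0)

include hneg in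
lemma pr_neg (r : R) {i : ℤ} (hi : i < 0) : pr 𝒜 i r = 0 := hneg i hi _ (pr_mem 𝒜 i r)

/-- the ideal of elements with vanishing components in degrees `< N` -/
def II (N : ℤ) : Ideal R where
  carrier := {r | ∀ i < N, pr 𝒜 i r = 0}
  add_mem' := by
    intro a b ha hb i hi
    rw [map_add, ha i hi, hb i hi, add_zero]
  zero_mem' := by intro i _; rw [map_zero]
  smul_mem' := by
    classical
    intro a r hr i hi
    rw [pr_smul 𝒜 𝒜]
    apply Finset.sum_eq_zero
    intro e _
    by_cases he : e < N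
    · rw [hr e he, smul_zero]
    · rw [pr_neg 𝒜 hneg a (by omega : i - e < 0), zero_smul]

lemma mem_II {N : ℤ} {r : R} : r ∈ II 𝒜 hneg N ↔ ∀ i < N, pr 𝒜 i r = 0 := Iff.rfl

lemma II_mul {N : ℤ} {a b : R} (ha : a ∈ II 𝒜 hneg N) (hb : b ∈ II 𝒜 hneg 1) :
    a * b ∈ II 𝒜 hneg (N + 1) := by
  classical
  intro i hi
  rw [← smul_eq_mul, pr_smul 𝒜 𝒜]
  apply Finset.sum_eq_zero
  intro e _
  by_cases he : e < 1
  · rw [hb e he, smul_zero]
  · rw [ha (i - e) (by omega), zero_smul]

lemma II_inf {r : R} (h : ∀ N : ℕ, r ∈ II 𝒜 hneg N) : r = 0 := by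
  apply eq_zero_of_pr 𝒜
  intro d
  exact h (d.toNat + 1) d (by push_cast; omega)

/-- finite homogeneous generating set -/
lemma exists_homog_gens [Module.Finite R M] :
    ∃ s : Finset M, (∀ x ∈ s, SetLike.IsHomogeneousElem ℳ x) ∧
      Submodule.span R (s : Set M) = ⊤ := by
  classical
  obtain ⟨s₀, hs₀⟩ := (Module.finite_def (R := R) (M := M)).mp inferInstance
  refine ⟨s₀.biUnion (fun x => (decompose ℳ x).support.image (fun d => pr ℳ d x)), ?_, ?_⟩
  · intro y hy
    obtain ⟨x, _, hy⟩ := Finset.mem_biUnion.mp hy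
    obtain ⟨d, _, rfl⟩ := Finset.mem_image.mp hy
    exact ⟨d, pr_mem ℳ d x⟩
  · rw [eq_top_iff, ← hs₀, Submodule.span_le]
    intro x hx
    rw [← sum_pr ℳ x]
    apply Submodule.sum_mem
    intro d hd
    apply Submodule.subset_span
    exact Finset.mem_biUnion.mpr ⟨x, hx, Finset.mem_image.mpr ⟨d, hd, rfl⟩⟩

/-- graded Nakayama -/
theorem nak [Module.Finite R M] (T : Set M) (hT : ∀ t ∈ T, SetLike.IsHomogeneousElem ℳ t)
    (h : Submodule.span R T ⊔ (II 𝒜 hneg 1) • (⊤ : Submodule R M) = ⊤) :
    Submodule.span R T = ⊤ := by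
  classical
  obtain ⟨s, hs, hspan⟩ := exists_homog_gens (R := R) ℳ
  choose! deg hdeg using hs
  obtain ⟨d₀, hd₀⟩ : ∃ d₀ : ℤ, ∀ y ∈ s, d₀ ≤ deg y := by
    refine ⟨- ∑ y ∈ s, |deg y|, fun y hy => ?_⟩
    have h1 : |deg y| ≤ ∑ y ∈ s, |deg y| :=
      Finset.single_le_sum (f := fun y => |deg y|) (fun _ _ => abs_nonneg _) hy
    have h2 := neg_abs_le (deg y)
    linarith
  set L := Submodule.span R T with hL
  have key : ∀ n : ℕ, ∀ d : ℤ, d < d₀ + n → ∀ m ∈ ℳ d, m ∈ L := by
    intro n
    induction n with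
    | zero =>
      intro d hd m hm
      have hmtop : m ∈ Submodule.span R (s : Set M) := by rw [hspan]; trivial
      obtain ⟨f, -, hf⟩ := Submodule.mem_span_finset.mp hmtop
      have : m = 0 := by
        rw [← pr_of_mem_same ℳ hm, ← hf, map_sum]
        apply Finset.sum_eq_zero
        intro y hy
        rw [pr_smul_of_mem 𝒜 ℳ (f y) (hdeg y hy) d,
          pr_neg 𝒜 hneg (f y) (by have := hd₀ y hy; push_cast at hd; omega), zero_smul]
      rw [this]; exact Submodule.zero_mem _
    | succ n ih =>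
      intro d hd m hm
      have hmtop : m ∈ L ⊔ (II 𝒜 hneg 1) • (⊤ : Submodule R M) := by rw [h]; trivial
      obtain ⟨l, hl, z, hz, hlz⟩ := Submodule.mem_sup.mp hmtop
      have hzd : pr ℳ d z ∈ L := by
        refine Submodule.smul_induction_on hz ?_ ?_
        · intro r hr x _
          rw [pr_smul 𝒜 ℳ]
          apply Submodule.sum_mem
          intro e _
          by_cases hed : e < d
          · apply Submodule.smul_mem
            apply ih e _ _ (pr_mem ℳ e x)
            push_cast at hd; omega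
          · rw [hr (d - e) (by omega), zero_smul]; exact Submodule.zero_mem _
        · intro x y hx hy
          rw [map_add]; exact Submodule.add_mem _ hx hy
      rw [← pr_of_mem_same ℳ hm, ← hlz, map_add]
      exact Submodule.add_mem _ (pr_mem_span 𝒜 ℳ T hT l hl d) hzd
  rw [eq_top_iff]
  intro m _
  rw [← sum_pr ℳ m]
  apply Submodule.sum_mem
  intro d _
  exact key (d - d₀ + 1).toNat d (by omega) _ (pr_mem ℳ d m)

end graded

section main
universe u
variable {k : Type u} [Field k] {R : Type u} [CommRing R] [Algebra k R]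
    {σ : Type u} [SetLike σ R] [AddSubmonoidClass σ R] (𝒜 : ℤ → σ) [GradedRing 𝒜]
    (hneg : ∀ i : ℤ, i < 0 → ∀ x ∈ 𝒜 i, x = 0)
    (hk : ∀ c : k, algebraMap k R c ∈ 𝒜 0) (h0 : ∀ x ∈ 𝒜 0, ∃ c : k, algebraMap k R c = x)
    {M : Type u} [AddCommGroup M] [Module R M] [Module.Finite R M]
    {τ : Type u} [SetLike τ M] [AddSubmonoidClass τ M] (ℳ : ℤ → τ) [DirectSum.Decomposition ℳ]
    [SetLike.GradedSMul 𝒜 ℳ]

include hneg hk h0 in
theorem exists_basis (hproj : Module.Projective R M) :
    ∃ (ι : Type u) (b : Module.Basis ι R M), ∀ i : ι, SetLike.IsHomogeneousElem ℳ (b i) := by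
  classical
  -- minimal homogeneous generating set
  have hex : ∃ n : ℕ, ∃ s : Finset M, s.card = n ∧ (∀ x ∈ s, SetLike.IsHomogeneousElem ℳ x) ∧
      Submodule.span R (s : Set M) = ⊤ := by
    obtain ⟨s, hs, hspan⟩ := exists_homog_gens (R := R) ℳ
    exact ⟨s.card, s, rfl, hs, hspan⟩
  obtain ⟨s, hcard, hs, hspan⟩ := Nat.find_spec hex
  have hmin : ∀ s' : Finset M, (∀ x ∈ s', SetLike.IsHomogeneousElem ℳ x) →
      Submodule.span R (s' : Set M) = ⊤ → s.card ≤ s'.card := by
    intro s' hs' hspan'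
    rw [hcard]
    exact Nat.find_min' hex ⟨s', rfl, hs', hspan'⟩
  set φ : (s →₀ R) →ₗ[R] M := Finsupp.linearCombination R (fun x : s => (x : M)) with hφ
  have hsurj : Function.Surjective φ := by
    rw [← LinearMap.range_eq_top, hφ, Finsupp.range_linearCombination]
    simpa using hspan
  obtain ⟨sec, hsec⟩ := Module.projective_lifting_property φ LinearMap.id hsurj
  have hsec' : ∀ m, φ (sec m) = m := fun m => by
    have := congrArg (fun f => f m) hsec
    simpa using this
  set E : (s →₀ R) →ₗ[R] (s →₀ R) := LinearMap.id - sec ∘ₗ φ with hE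
  have hEE : ∀ v, E (E v) = E v := by
    intro v
    simp only [hE, LinearMap.sub_apply, LinearMap.id_apply, LinearMap.comp_apply, map_sub, hsec']
    simp
  have hφE : ∀ v, φ (E v) = 0 := by
    intro v
    simp only [hE, LinearMap.sub_apply, LinearMap.id_apply, LinearMap.comp_apply, map_sub, hsec']
    simp
  set I1 := II 𝒜 hneg 1 with hI1
  -- entries of E on basis vectors lie in I1
  have hentry : ∀ j i : s, (E (Finsupp.single j 1)) i ∈ I1 := by
    intro j i
    by_contra hni
    set v := E (Finsupp.single j 1) with hv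
    have hrel : ∑ l : s, v l • (l : M) = 0 := by
      have := hφE (Finsupp.single j 1)
      rw [hφ, Finsupp.linearCombination_apply, Finsupp.sum_fintype _ _ (by simp)] at this
      exact this
    set c := pr 𝒜 0 (v i) with hc
    have hc0 : c ≠ 0 := by
      intro hc0
      apply hni
      intro e he
      rcases (by omega : e < 0 ∨ e = 0) with h | h
      · exact pr_neg 𝒜 hneg _ h
      · rw [h]; exact hc0
    obtain ⟨c', hc'⟩ := h0 c (pr_mem 𝒜 0 (v i))
    have hc'0 : c' ≠ 0 := by
      intro h; apply hc0; rw [← hc', h, map_zero]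
    have hdiff : v i - c ∈ I1 := by
      intro e he
      rw [map_sub]
      rcases (by omega : e < 0 ∨ e = 0) with h | h
      · rw [pr_neg 𝒜 hneg _ h, pr_neg 𝒜 hneg _ h, sub_zero]
      · rw [h, pr_of_mem_same 𝒜 (pr_mem 𝒜 0 (v i)), sub_self]
    set T : Finset M := s.erase (i : M) with hT
    set L := Submodule.span R (T : Set M) ⊔ I1 • (⊤ : Submodule R M) with hL
    have h1 : v i • (i : M) ∈ L := by
      have : v i • (i : M) = - ∑ l ∈ Finset.univ.erase i, v l • (l : M) := by
        rw [eq_neg_iff_add_eq_zero,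
          Finset.add_sum_erase Finset.univ (fun l : s => v l • (l : M)) (Finset.mem_univ i)]
        exact hrel
      rw [this]
      apply Submodule.neg_mem
      apply Submodule.sum_mem
      intro l hl
      apply Submodule.mem_sup_left
      apply Submodule.smul_mem
      apply Submodule.subset_span
      rw [hT, Finset.coe_erase]
      refine ⟨l.2, ?_⟩
      intro h
      exact (Finset.mem_erase.mp hl).1 (Subtype.ext h)
    have h2 : (v i - c) • (i : M) ∈ L :=
      Submodule.mem_sup_right (Submodule.smul_mem_smul hdiff trivial)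
    have h3 : c • (i : M) ∈ L := by
      have : c • (i : M) = v i • (i : M) - (v i - c) • (i : M) := by rw [sub_smul]; abel
      rw [this]; exact Submodule.sub_mem _ h1 h2
    have h4 : (i : M) ∈ L := by
      have : (i : M) = (algebraMap k R c'⁻¹) • (c • (i : M)) := by
        rw [smul_smul, ← hc', ← map_mul, inv_mul_cancel₀ hc'0, map_one, one_smul]
      rw [this]; exact Submodule.smul_mem _ _ h3
    have hLtop : L = ⊤ := by
      rw [eq_top_iff, ← hspan, Submodule.span_le]
      intro y hy
      by_cases hyi : y = (i : M)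
      · rw [hyi]; exact h4
      · apply Submodule.mem_sup_left
        apply Submodule.subset_span
        rw [hT, Finset.coe_erase]
        exact ⟨hy, hyi⟩
    have hTtop := nak 𝒜 ℳ hneg (T : Set M)
      (fun t ht => hs t (Finset.mem_of_mem_erase ht)) hLtop
    have := hmin T (fun t ht => hs t (Finset.mem_of_mem_erase ht)) hTtop
    have hlt : T.card < s.card := by rw [hT]; exact Finset.card_erase_lt_of_mem i.2
    omega
  -- E lands in P_N for all N
  have hE1 : ∀ (N : ℕ) (v : s →₀ R), (∀ i, v i ∈ II 𝒜 hneg N) →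
      ∀ i, (E v) i ∈ II 𝒜 hneg (N + 1) := by
    intro N v hv i
    have : E v = ∑ j : s, v j • E (Finsupp.single j 1) := by
      conv_lhs => rw [← Finsupp.univ_sum_single v]
      rw [map_sum]
      apply Finset.sum_congr rfl
      intro j _
      rw [← map_smul, Finsupp.smul_single, smul_eq_mul, mul_one]
    rw [this, Finsupp.finsetSum_apply]
    apply Ideal.sum_mem
    intro j _
    rw [Finsupp.smul_apply, smul_eq_mul]
    exact II_mul 𝒜 hneg (hv j) (hentry j i)
  have hEN : ∀ (N : ℕ) (v : s →₀ R) (i : s), (E v) i ∈ II 𝒜 hneg N := by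
    intro N
    induction N with
    | zero =>
      intro v i e he
      exact pr_neg 𝒜 hneg _ (by simpa using he)
    | succ N ih =>
      intro v i
      rw [← hEE v]
      have := hE1 N (E v) (fun i => ih v i) i
      exact_mod_cast this
  have hE0 : ∀ v, E v = 0 := by
    intro v
    ext i
    exact II_inf 𝒜 hneg (fun N => hEN N v i)
  have hinj : Function.Injective φ := by
    rw [← LinearMap.ker_eq_bot, LinearMap.ker_eq_bot']
    intro v hv
    have := hE0 v
    simp only [hE, LinearMap.sub_apply, LinearMap.id_apply, LinearMap.comp_apply, hv, map_zero,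
      sub_zero] at this
    exact this
  let e : (s →₀ R) ≃ₗ[R] M := LinearEquiv.ofBijective φ ⟨hinj, hsurj⟩
  refine ⟨s, Module.Basis.ofRepr e.symm, ?_⟩
  intro i
  have : (Module.Basis.ofRepr e.symm) i = (i : M) := by
    simp [e, hφ]
  rw [this]
  exact hs i i.2

include hneg hk h0 in
theorem main :
    Module.Projective R M ↔
      ∃ (ι : Type u) (b : Module.Basis ι R M), ∀ i : ι, SetLike.IsHomogeneousElem ℳ (b i) := by
  constructor
  · exact exists_basis 𝒜 hneg hk h0 ℳ
  · rintro ⟨ι, b, -⟩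
    exact Module.Projective.of_basis b

end main

end Groth.Agent.H9.GPF
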