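import Mathlib
import Groth.Prelude.Def_Wider
import Groth.Agent.Lib.Helper6.DepthMax

/-! Generating sequences of an ideal beginning with a regular sequence of length the grade. -/

universe u
set_option autoImplicit false
set_option linter.style.haveILetI false
set_option linter.unusedSectionVars false
set_option linter.unusedVariables false
open scoped Pointwise
open RingTheory.Sequence

namespace Groth.Agent.H9.GRS

/-- Davis' coset form of prime avoidance. -/
theorem davis {R : Type u} [CommRing R] (x : R) (I : Ideal R) :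
    ∀ (n : ℕ) (s : Finset (Ideal R)), s.card = n → (∀ P ∈ s, P.IsPrime) →
      (∀ P ∈ s, x ∈ P → ¬ I ≤ P) → ∃ a ∈ I, ∀ P ∈ s, x + a ∉ P := by
  intro n
  induction n with
  | zero =>
    intro s hs _ _
    rw [Finset.card_eq_zero] at hs
    subst hs
    exact ⟨0, I.zero_mem, by simp⟩
  | succ n ih =>
    intro s hs hprime hx
    have hne : s.Nonempty := by
      rw [← Finset.card_pos, hs]
      exact Nat.succ_pos n
    obtain ⟨P, hPs, hPmin⟩ := s.exists_minimal hne
    have hcard : (s.erase P).card = n := by
      rw [Finset.card_erase_of_mem hPs, hs]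
      rfl
    obtain ⟨a, haI, ha⟩ := ih (s.erase P) hcard
      (fun Q hQ => hprime Q (Finset.mem_of_mem_erase hQ))
      (fun Q hQ => hx Q (Finset.mem_of_mem_erase hQ))
    haveI hPprime : P.IsPrime := hprime P hPs
    by_cases hxa : x + a ∈ P
    · -- modify `a`
      have hIP : ¬ I ≤ P := by
        intro hIP
        have hxP : x ∈ P := by
          have := P.sub_mem hxa (hIP haI)
          rwa [add_sub_cancel_right] at this
        exact hx P hPs hxP hIP
      have hprod : ¬ (I * ∏ Q ∈ s.erase P, Q) ≤ P := by
        intro hle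
        rcases (Ideal.IsPrime.mul_le hPprime).mp hle with h | h
        · exact hIP h
        · obtain ⟨Q, hQ, hQP⟩ := (Ideal.IsPrime.prod_le hPprime).mp h
          have hQs : Q ∈ s := Finset.mem_of_mem_erase hQ
          have hPQ : P ≤ Q := hPmin hQs hQP
          exact (Finset.ne_of_mem_erase hQ) (le_antisymm hQP hPQ)
      obtain ⟨b, hb, hbP⟩ := SetLike.not_le_iff_exists.mp hprod
      have hbI : b ∈ I := (Ideal.mul_le_left : I * ∏ Q ∈ s.erase P, Q ≤ I) hb
      have hbQ : ∀ Q ∈ s.erase P, b ∈ Q := by
        intro Q hQ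
        have h1 : b ∈ ∏ Q ∈ s.erase P, Q :=
          (Ideal.mul_le_right : I * ∏ Q ∈ s.erase P, Q ≤ ∏ Q ∈ s.erase P, Q) hb
        have h2 := Ideal.prod_le_inf h1
        rw [Finset.inf_eq_iInf] at h2
        simp only [Submodule.mem_iInf] at h2
        exact h2 Q hQ
      refine ⟨a + b, I.add_mem haI hbI, ?_⟩
      intro Q hQs
      by_cases hQP : Q = P
      · subst hQP
        intro hmem
        apply hbP
        have := Q.sub_mem hmem hxa
        rwa [← add_assoc, add_sub_cancel_left] at this
      · have hQ : Q ∈ s.erase P := Finset.mem_erase.mpr ⟨hQP, hQs⟩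
        intro hmem
        apply ha Q hQ
        have := Q.sub_mem hmem (hbQ Q hQ)
        rwa [← add_assoc, add_sub_cancel_right] at this
    · refine ⟨a, haI, ?_⟩
      intro Q hQs
      by_cases hQP : Q = P
      · subst hQP
        exact hxa
      · exact ha Q (Finset.mem_erase.mpr ⟨hQP, hQs⟩)

variable {T : Type u} [CommRing T] [IsNoetherianRing T]

/-- an element of `J = (ts)` cannot prolong the sequence `ts` to a weakly regular one when
`J` is proper. -/
theorem not_isWeaklyRegular_append (ts : List T) (hJ : Ideal.ofList ts ≠ ⊤) (r : T)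
    (hr : r ∈ Ideal.ofList ts) : ¬ IsWeaklyRegular T (ts ++ [r]) := by
  intro hcon
  rw [isWeaklyRegular_append_iff, isWeaklyRegular_singleton_iff] at hcon
  have hIM : Ideal.ofList ts • (⊤ : Submodule T T) ≠ ⊤ := by
    rw [smul_eq_mul, Ideal.mul_top]
    exact hJ
  haveI : Nontrivial (T ⧸ Ideal.ofList ts • (⊤ : Submodule T T)) :=
    Submodule.Quotient.nontrivial_iff.mpr hIM
  obtain ⟨q, hq⟩ := exists_ne (0 : T ⧸ Ideal.ofList ts • (⊤ : Submodule T T))
  apply hq
  apply hcon.2
  show r • q = r • (0 : T ⧸ Ideal.ofList ts • (⊤ : Submodule T T))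
  rw [smul_zero]
  obtain ⟨m, rfl⟩ := Submodule.Quotient.mk_surjective _ q
  rw [← Submodule.Quotient.mk_smul, Submodule.Quotient.mk_eq_zero]
  exact Submodule.smul_mem_smul hr Submodule.mem_top

/-- one step: improve the `(i+1)`-st generator -/
theorem step (J : Ideal T) (ts : List T) (hts : Ideal.ofList ts = J) (i : ℕ)
    (hi : i < ts.length) (hreg : IsWeaklyRegular T (ts.take i))
    (hlt : (i : ℕ∞) < LocCoh.idealDepth J T) :
    ∃ ts' : List T, ts'.length = ts.length ∧ Ideal.ofList ts' = J ∧
      IsWeaklyRegular T (ts'.take (i + 1)) := by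
  classical
  set rs := ts.take i with hrs
  set x := ts[i] with hxdef
  set us := ts.drop (i + 1) with hus
  have hdecomp : ts = (rs ++ [x]) ++ us := by
    rw [hrs, hxdef, hus, ← List.take_succ_eq_append_getElem hi, List.take_append_drop]
  have hrslen : rs.length = i := by
    rw [hrs, List.length_take]
    omega
  have hJeq : J = Ideal.ofList rs ⊔ (Ideal.span {x} ⊔ Ideal.ofList us) := by
    rw [← hts, hdecomp, Ideal.ofList_append, Ideal.ofList_append, Ideal.ofList_singleton, sup_assoc]
  have hrsJ : ∀ r ∈ rs, r ∈ J := by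
    intro r hr
    rw [← hts]
    exact Ideal.subset_span (List.mem_of_mem_take hr)
  have hlt' : ((rs.length : ℕ) : ℕ∞) < LocCoh.idealDepth J T := by
    rw [hrslen]
    exact hlt
  obtain ⟨r, hrJ, hr⟩ := Groth.Agent.H6.Depth.exists_extend J T rs hreg hrsJ hlt'
  rw [isWeaklyRegular_append_iff, isWeaklyRegular_singleton_iff] at hr
  obtain ⟨-, hrN⟩ := hr
  set N := T ⧸ (Ideal.ofList rs • (⊤ : Submodule T T)) with hN
  have hfin : (associatedPrimes T N).Finite := associatedPrimes.finite T N
  have hunion := biUnion_associatedPrimes_eq_compl_regular T N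
  have hnotle : ∀ P ∈ associatedPrimes T N, ¬ J ≤ P := by
    intro P hP hJP
    have hmem : r ∈ ⋃ p ∈ associatedPrimes T N, (p : Set T) :=
      Set.mem_iUnion₂_of_mem hP (hJP hrJ)
    rw [hunion] at hmem
    exact hmem hrN
  set I := Ideal.ofList rs ⊔ Ideal.ofList us with hI
  have hIJ : I ≤ J := by
    rw [hJeq, hI]
    exact sup_le le_sup_left (le_sup_of_le_right le_sup_right)
  have hxJ : x ∈ J := by
    rw [hJeq]
    exact (le_sup_of_le_right le_sup_left : Ideal.span {x} ≤ _) (Ideal.mem_span_singleton_self x)
  obtain ⟨a, haI, ha⟩ := davis x I hfin.toFinset.card hfin.toFinset rfl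
    (by
      intro P hP
      rw [Set.Finite.mem_toFinset] at hP
      exact hP.isPrime)
    (by
      intro P hP hxP hIP
      rw [Set.Finite.mem_toFinset] at hP
      apply hnotle P hP
      rw [hJeq]
      refine sup_le (le_trans le_sup_left hIP) (sup_le ?_ (le_trans le_sup_right hIP))
      rw [Ideal.span_le]
      intro t ht
      rw [Set.mem_singleton_iff] at ht
      rw [ht]
      exact hxP)
  have hxaN : IsSMulRegular N (x + a) := by
    by_contra hnot
    have hmem : x + a ∈ ({ r : T | IsSMulRegular N r }ᶜ : Set T) := hnot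
    rw [← hunion] at hmem
    obtain ⟨P, hP, hxaP⟩ := Set.mem_iUnion₂.mp hmem
    exact ha P (hfin.mem_toFinset.mpr hP) hxaP
  refine ⟨(rs ++ [x + a]) ++ us, ?_, ?_, ?_⟩
  · rw [hdecomp]
    simp
  · rw [Ideal.ofList_append, Ideal.ofList_append, Ideal.ofList_singleton, sup_assoc, hJeq]
    have haI' : a ∈ Ideal.ofList rs ⊔ (Ideal.span {x + a} ⊔ Ideal.ofList us) := by
      have : I ≤ Ideal.ofList rs ⊔ (Ideal.span {x + a} ⊔ Ideal.ofList us) :=
        sup_le le_sup_left (le_sup_of_le_right le_sup_right)
      exact this haI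
    have haI'' : a ∈ Ideal.ofList rs ⊔ (Ideal.span {x} ⊔ Ideal.ofList us) := by
      rw [← hJeq]
      exact hIJ haI
    apply le_antisymm
    · refine sup_le le_sup_left (sup_le ?_ (le_sup_of_le_right le_sup_right))
      rw [Ideal.span_le]
      intro t ht
      rw [Set.mem_singleton_iff] at ht
      rw [ht]
      refine Ideal.add_mem _ ?_ haI''
      rw [← hJeq]
      exact hxJ
    · refine sup_le le_sup_left (sup_le ?_ (le_sup_of_le_right le_sup_right))
      rw [Ideal.span_le]
      intro t ht
      rw [Set.mem_singleton_iff] at ht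
      rw [ht]
      have hxa : x + a ∈ Ideal.ofList rs ⊔ (Ideal.span {x + a} ⊔ Ideal.ofList us) :=
        (le_sup_of_le_right le_sup_left : Ideal.span {x + a} ≤ _)
          (Ideal.mem_span_singleton_self (x + a))
      have := Ideal.sub_mem _ hxa haI'
      rwa [add_sub_cancel_right] at this
  · rw [List.take_left' (by rw [List.length_append, List.length_singleton, hrslen])]
    rw [isWeaklyRegular_append_iff, isWeaklyRegular_singleton_iff]
    exact ⟨hreg, hxaN⟩

/-- the main statement (no Cohen–Macaulay hypothesis needed) -/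
theorem main (J : Ideal T) (hJ : J ≠ ⊤) (j : ℕ) (hj : LocCoh.idealDepth J T = j) :
    j ≤ Submodule.spanFinrank J ∧
      ∃ ts : List T, ts.length = Submodule.spanFinrank J ∧ Ideal.ofList ts = J ∧
        IsRegular T (ts.take j) := by
  classical
  have key : ∀ i : ℕ, i ≤ j → i ≤ Submodule.spanFinrank J ∧
      ∃ ts : List T, ts.length = Submodule.spanFinrank J ∧ Ideal.ofList ts = J ∧
        IsWeaklyRegular T (ts.take i) := by
    intro i
    induction i with
    | zero =>
      intro _
      refine ⟨Nat.zero_le _, ?_⟩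
      obtain ⟨s, hs1, hs2⟩ := Submodule.FG.exists_span_finset_card_eq_spanFinrank
        (IsNoetherian.noetherian J)
      refine ⟨s.toList, ?_, ?_, ?_⟩
      · rw [Finset.length_toList, hs1]
      · rw [← hs2]
        show Ideal.span {r | r ∈ s.toList} = Ideal.span (s : Set T)
        congr 1
        ext r
        simp
      · rw [List.take_zero]
        exact IsWeaklyRegular.nil T T
    | succ i ih =>
      intro hij
      obtain ⟨hic, ts, hlen, hts, hreg⟩ := ih (by omega)
      have hlt : (i : ℕ∞) < LocCoh.idealDepth J T := by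
        rw [hj]
        exact_mod_cast (by omega : i < j)
      by_cases hic' : i < Submodule.spanFinrank J
      · obtain ⟨ts', hlen', hts', hreg'⟩ := step J ts hts i (by rw [hlen]; exact hic') hreg hlt
        exact ⟨hic', ts', by rw [hlen', hlen], hts', hreg'⟩
      · exfalso
        have hieq : i = Submodule.spanFinrank J := by omega
        rw [List.take_of_length_le (by rw [hlen, hieq])] at hreg
        have hJT : J • (⊤ : Submodule T T) ≠ ⊤ := by
          rw [smul_eq_mul, Ideal.mul_top]
          exact hJ
        have h1 := Groth.Agent.H6.Depth.length_eq_idealDepth_of_maximal J T hJT ts hreg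
          (by
            intro r hr
            rw [← hts]
            exact Ideal.subset_span hr)
          (by
            intro r hr
            rw [← hts] at hr
            exact not_isWeaklyRegular_append ts (by rw [hts]; exact hJ) r hr)
        rw [hj, hlen] at h1
        have h2 : Submodule.spanFinrank J = j := by exact_mod_cast h1
        omega
  obtain ⟨hjc, ts, hlen, hts, hreg⟩ := key j le_rfl
  refine ⟨hjc, ts, hlen, hts, ⟨hreg, ?_⟩⟩
  intro htop
  apply hJ
  rw [smul_eq_mul, Ideal.mul_top] at htop
  rw [eq_top_iff, htop, ← hts]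
  apply Ideal.span_mono
  intro t ht
  exact List.mem_of_mem_take ht

end Groth.Agent.H9.GRS
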