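import Mathlib
import Groth.Agent.Lib.Helper9.Misc.GSC1
import Groth.Agent.Lib.Helper9.Misc.GSC2
import Groth.Agent.Lib.Helper9.Misc.GSC3

/-! Helper9: finitely many closed points of a lft group scheme over an alg. closed field lie in an affine open (S1864). -/

set_option linter.style.haveILetI false
set_option linter.unusedSectionVars false

namespace Groth.Agent.H9.GSC

universe u

open CategoryTheory CategoryTheory.Limits MonoidalCategory CartesianMonoidalCategory MonObj GrpObj
  AlgebraicGeometry

variable {K : Type u} [Field K] [IsAlgClosed K] (G : Over (Spec (CommRingCat.of K))) [GrpObj G]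
  [LocallyOfFiniteType G.hom]

local notation "𝟙K" => 𝟙_ (Over (Spec (CommRingCat.of K)))

/-- The identity component. -/
def Z₀ : Set G.left := irreducibleComponent (pt G (1 : 𝟙K ⟶ G))

theorem Z₀_mem : Z₀ G ∈ irreducibleComponents G.left := irreducibleComponent_mem_irreducibleComponents _

theorem one_mem_Z₀ : pt G (1 : 𝟙K ⟶ G) ∈ Z₀ G := mem_irreducibleComponent

/-- Preimage of the identity component under an automorphism sending the closed point `pt b`
to the identity is the component of `pt b`. -/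
theorem preimage_Z₀ (φ : G ≅ G) (b : 𝟙K ⟶ G) (hb : φ.hom.left (pt G b) = pt G (1 : 𝟙K ⟶ G))
    {C : Set G.left} (hC : C ∈ irreducibleComponents G.left) (hbC : pt G b ∈ C) :
    φ.hom.left ⁻¹' Z₀ G = C :=
  component_unique (preimage_component φ (Z₀_mem G)) hC b
    (by rw [Set.mem_preimage, hb]; exact one_mem_Z₀ G) hbC

/-- Finitely many closed points in the same component lie in an affine open inside it. -/
theorem exists_affine_in_component {κ : Type*} [Finite κ] (a : κ → (𝟙K ⟶ G))
    {C : Set G.left} (hC : C ∈ irreducibleComponents G.left) (haC : ∀ i, pt G (a i) ∈ C) :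
    ∃ V : G.left.Opens, IsAffineOpen V ∧ (V : Set G.left) ⊆ C ∧ ∀ i, pt G (a i) ∈ V := by
  classical
  haveI := Fintype.ofFinite κ
  -- an affine open neighbourhood of the identity inside the identity component
  obtain ⟨_, ⟨W, hW, rfl⟩, heW, hWZ⟩ :=
    G.left.isBasis_affineOpens.exists_subset_of_mem_open (one_mem_Z₀ G)
      (isOpen_component (Z₀_mem G))
  -- the open sets `O i`
  let O : κ → Set G.left := fun i => (rho (a i)).hom.left ⁻¹' (W : Set G.left)
  have hO : ∀ i, IsOpen (O i) := fun i => W.2.preimage (rho (a i)).hom.left.continuous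
  have hrho : ∀ i, (rho (a i)).hom.left (pt G (a i)) = pt G (1 : 𝟙K ⟶ G) := fun i => by
    rw [rho_pt, inv_mul_cancel]
  have haO : ∀ i, pt G (a i) ∈ O i := fun i => by
    show (rho (a i)).hom.left (pt G (a i)) ∈ (W : Set G.left)
    rw [hrho]; exact heW
  -- a closed point in the intersection
  have hne : (C ∩ ⋂₀ ((Finset.univ.image O : Finset (Set G.left)) : Set (Set G.left))).Nonempty := by
    refine (isIrreducible_iff_sInter.mp hC.1) _ ?_ ?_
    · intro u hu
      obtain ⟨i, -, rfl⟩ := Finset.mem_image.mp hu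
      exact hO i
    · intro u hu
      obtain ⟨i, -, rfl⟩ := Finset.mem_image.mp hu
      exact ⟨pt G (a i), haC i, haO i⟩
  have hop : IsOpen (C ∩ ⋂₀ ((Finset.univ.image O : Finset (Set G.left)) : Set (Set G.left))) := by
    refine (isOpen_component hC).inter ?_
    refine Set.Finite.isOpen_sInter (Finset.finite_toSet _) ?_
    intro u hu
    obtain ⟨i, -, rfl⟩ := Finset.mem_image.mp hu
    exact hO i
  obtain ⟨h, ⟨hhC, hhO⟩, hhc⟩ := nonempty_inter_closedPoints hne hop.isLocallyClosed
  have hhc' : IsClosed ({h} : Set G.left) := hhc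
  let b := kpt G h hhc'
  have hb : pt G b = h := pt_kpt h hhc'
  have hhO' : ∀ i, h ∈ O i := fun i =>
    Set.mem_sInter.mp hhO (O i) (Finset.mem_coe.mpr (Finset.mem_image_of_mem O (Finset.mem_univ i)))
  haveI : IsIso (lmul b).inv.left :=
    (inferInstance : IsIso ((Over.forget _).map (lmul b).inv))
  refine ⟨(lmul b).inv.left ⁻¹ᵁ W, hW.preimage_of_isIso _, ?_, ?_⟩
  · have h1 : (lmul b).symm.hom.left ⁻¹' Z₀ G = C :=
      preimage_Z₀ G (lmul b).symm b (by
        show (lmul b).inv.left (pt G b) = _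
        rw [lmul_inv_pt, inv_mul_cancel]) hC (hb ▸ hhC)
    rw [← h1]
    exact Set.preimage_mono hWZ
  · intro i
    show (lmul b).inv.left (pt G (a i)) ∈ (W : Set G.left)
    rw [lmul_inv_pt, ← rho_pt, hb]
    exact hhO' i

theorem S1864_main (n : ℕ) (g : Fin n → G.left)
    (hg : ∀ i, IsClosed ({g i} : Set G.left)) :
    ∃ U : G.left.Opens, IsAffineOpen U ∧ ∀ i, g i ∈ U := by
  classical
  let a : Fin n → (𝟙K ⟶ G) := fun i => kpt G (g i) (hg i)
  have ha : ∀ i, pt G (a i) = g i := fun i => pt_kpt (g i) (hg i)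
  let comp : Fin n → Set G.left := fun i => irreducibleComponent (g i)
  have hcomp : ∀ i, comp i ∈ irreducibleComponents G.left :=
    fun i => irreducibleComponent_mem_irreducibleComponents _
  have hmem : ∀ i, g i ∈ comp i := fun i => mem_irreducibleComponent
  -- for each component in the range, an affine open
  have hE : ∀ C ∈ Set.range comp, ∃ V : G.left.Opens, IsAffineOpen V ∧ (V : Set G.left) ⊆ C ∧
      ∀ j, comp j = C → g j ∈ V := by
    rintro C ⟨i₀, rfl⟩
    obtain ⟨V, hV, hVC, hmemV⟩ := exists_affine_in_component G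
      (fun j : {j // comp j = comp i₀} => a j.1) (hcomp i₀)
      (fun j => by
        obtain ⟨j, hj⟩ := j
        show pt G (a j) ∈ comp i₀
        rw [ha, ← hj]
        exact hmem j)
    exact ⟨V, hV, hVC, fun j hj => by have := hmemV ⟨j, hj⟩; rwa [ha] at this⟩
  let Vf : Set G.left → G.left.Opens := fun C =>
    if h : C ∈ Set.range comp then (hE C h).choose else ⊥
  have hVf : ∀ C (h : C ∈ Set.range comp), Vf C = (hE C h).choose := fun C h => dif_pos h
  refine ⟨⨆ C ∈ Set.range comp, Vf C, ?_, ?_⟩
  · refine IsAffineOpen.biSup_of_disjoint (Set.finite_range comp) ?_ ?_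
    · intro C hC
      rw [hVf C hC]
      exact (hE C hC).choose_spec.1
    · intro C hC C' hC' hne
      rw [Function.onFun, hVf C hC, hVf C' hC']
      rw [← TopologicalSpace.Opens.coe_disjoint, Set.disjoint_iff_inter_eq_empty]
      by_contra hcon
      obtain ⟨x, hx, hx'⟩ := Set.nonempty_iff_ne_empty.mpr hcon
      obtain ⟨i, rfl⟩ := hC
      obtain ⟨i', rfl⟩ := hC'
      exact hne (component_eq_of_inter (hcomp i) (hcomp i')
        ⟨x, (hE _ ⟨i, rfl⟩).choose_spec.2.1 hx, (hE _ ⟨i', rfl⟩).choose_spec.2.1 hx'⟩)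
  · intro i
    have h1 : g i ∈ Vf (comp i) := by
      rw [hVf (comp i) ⟨i, rfl⟩]
      exact (hE (comp i) ⟨i, rfl⟩).choose_spec.2.2 i rfl
    have h2 : Vf (comp i) ≤ ⨆ C ∈ Set.range comp, Vf C :=
      le_biSup (f := fun C => Vf C) (i := comp i) ⟨i, rfl⟩
    exact h2 h1

end Groth.Agent.H9.GSC
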