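import Mathlib
import Groth.Agent.Lib.Helper9.Misc.GSA1
import Groth.Agent.Lib.Helper9.Misc.GSA2
import Groth.Agent.Lib.Helper9.Misc.GSC1
import Groth.Agent.Lib.Helper9.Misc.GSC2
import Groth.Agent.Lib.Helper9.Misc.GSC3
import Groth.Agent.Lib.Helper9.Misc.GSC4

/-! Helper9: U.U^{-1} covers the identity component (S15352). -/

set_option linter.style.haveILetI false
set_option linter.unusedSectionVars false

namespace Groth.Agent.H9.GSC

universe u

open CategoryTheory CategoryTheory.Limits MonoidalCategory CartesianMonoidalCategory MonObj GrpObj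
  AlgebraicGeometry
open Groth.Agent.H9.GSA

variable {k : Type u} [Field k] [IsAlgClosed k] (G : Over (Spec (CommRingCat.of k))) [GrpObj G]
  [LocallyOfFiniteType G.hom]

local notation "𝟙K" => 𝟙_ (Over (Spec (CommRingCat.of k)))

theorem Z₀_eq_connectedComponent :
    Z₀ G = connectedComponent (η[G].left.base (IsLocalRing.closedPoint k)) := by
  have h := component_eq_connectedComponent (Z₀_mem G) (one_mem_Z₀ G)
  rw [h, pt_one]

theorem cst_left_apply (b : 𝟙K ⟶ G) (T : Over (Spec (CommRingCat.of k))) (t : T.left) :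
    (cst G b T).left t = pt G b := by
  show b.left ((toUnit T).left t) = b.left (IsLocalRing.closedPoint k)
  congr 1
  exact Subsingleton.elim (α := Spec (CommRingCat.of k)) _ _

theorem S15352_main (U : G.left.Opens)
    (hne : (U : Set ↥G.left).Nonempty)
    (hU : (U : Set ↥G.left) ⊆ connectedComponent (η[G].left.base (IsLocalRing.closedPoint k))) :
    connectedComponent (η[G].left.base (IsLocalRing.closedPoint k)) ⊆ Set.range
      ((((Over.homMk U.ι rfl : Over.mk (U.ι ≫ G.hom) ⟶ G) ⊗ₘ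
          ((Over.homMk U.ι rfl : Over.mk (U.ι ≫ G.hom) ⟶ G) ≫ ι[G])) ≫ μ[G]).left.base) := by
  rw [← Z₀_eq_connectedComponent] at hU ⊢
  intro x hx
  let j : Over.mk (U.ι ≫ G.hom) ⟶ G := Over.homMk U.ι rfl
  let T := ptT G x
  let γ₀ := ptHom G x
  have hT : Nonempty T.left := by
    show Nonempty (Spec (G.left.residueField x))
    infer_instance
  let t₀ : T.left := hT.some
  -- a closed point of `U`
  obtain ⟨u₀, hu₀U, hu₀c⟩ := nonempty_inter_closedPoints hne U.2.isLocallyClosed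
  have hu₀c' : IsClosed ({u₀} : Set G.left) := hu₀c
  let b := kpt G u₀ hu₀c'
  have hb : pt G b = u₀ := pt_kpt u₀ hu₀c'
  -- the point `z₀`
  let w : T ⟶ G := γ₀⁻¹ * cst G b T
  let z₀ : (T ⊗ G).left := (lift (𝟙 T) w).left t₀
  have hw : w = γ₀ ≫ (rho b).hom := by
    show _ = γ₀ ≫ ((𝟙 G)⁻¹ * cst G b G)
    rw [MonObj.comp_mul, GrpObj.comp_inv, comp_cst, Category.comp_id]
  have hsnd_z₀ : (snd T G).left z₀ = (rho b).hom.left x := by
    show ((lift (𝟙 T) w).left ≫ (snd T G).left) t₀ = _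
    rw [← Over.comp_left, lift_snd, hw, Over.comp_left]
    show (rho b).hom.left (γ₀.left t₀) = _
    rw [ptHom_left_apply]
  have hrhoZ : (rho b).hom.left ⁻¹' Z₀ G = Z₀ G :=
    preimage_Z₀ G (rho b) b (by rw [rho_pt, inv_mul_cancel]) (Z₀_mem G) (hb ▸ hU hu₀U)
  have hsnd_z₀_mem : (snd T G).left z₀ ∈ Z₀ G := by
    rw [hsnd_z₀]
    have : x ∈ (rho b).hom.left ⁻¹' Z₀ G := by rw [hrhoZ]; exact hx
    exact this
  have hσ_z₀ : (sigma G γ₀ ≫ snd T G).left z₀ ∈ (U : Set G.left) := by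
    show ((lift (𝟙 T) w).left ≫ (sigma G γ₀ ≫ snd T G).left) t₀ ∈ _
    rw [← Over.comp_left, sigma_snd, MonObj.comp_mul, ← Category.assoc, lift_fst, lift_snd,
      Category.id_comp]
    have : γ₀ * w = cst G b T := mul_inv_cancel_left _ _
    rw [this, cst_left_apply, hb]
    exact hu₀U
  -- the open sets
  let D₂ : Set (T ⊗ G).left := (sigma G γ₀ ≫ snd T G).left ⁻¹' (U : Set G.left)
  have hD₂ : IsOpen D₂ := U.2.preimage (sigma G γ₀ ≫ snd T G).left.continuous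
  let E : Set G.left := (snd T G).left '' D₂
  have hE : IsOpen E := isOpenMap_snd_left G T D₂ hD₂
  have hirr : IsPreirreducible (Z₀ G) := (Z₀_mem G).1.2
  obtain ⟨v, -, hvE, hvU⟩ := hirr E U hE U.2 ⟨_, hsnd_z₀_mem, z₀, hσ_z₀, rfl⟩
    ⟨u₀, hU hu₀U, hu₀U⟩
  obtain ⟨z, hzD, rfl⟩ := hvE
  -- the point of `G ⊗ G`
  let ψ' : T ⊗ G ⟶ G ⊗ G := lift (sigma G γ₀ ≫ snd T G) (snd T G)
  have hrange : ψ'.left z ∈ Set.range (j ⊗ₘ j).left := by
    rw [Over.tensorHom_left, Scheme.Pullback.range_map]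
    refine ⟨?_, ?_⟩
    · show ((ψ'.left ≫ (fst G G).left) z) ∈ Set.range U.ι
      rw [← Over.comp_left, lift_fst, Scheme.Opens.range_ι]
      exact hzD
    · show ((ψ'.left ≫ (snd G G).left) z) ∈ Set.range U.ι
      rw [← Over.comp_left, lift_snd, Scheme.Opens.range_ι]
      exact hvU
  obtain ⟨y, hy⟩ := hrange
  refine ⟨y, ?_⟩
  have hfac : (j ⊗ₘ (j ≫ ι[G])) ≫ μ[G] = (j ⊗ₘ j) ≫ ((𝟙 G ⊗ₘ ι[G]) ≫ μ[G]) := by
    rw [← Category.assoc, tensorHom_comp_tensorHom, Category.comp_id]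
  have hval : ψ' ≫ ((𝟙 G ⊗ₘ ι[G]) ≫ μ[G]) = fst T G ≫ γ₀ := by
    rw [← Category.assoc, lift_map, Category.comp_id, ← Hom.mul_def, ← Hom.inv_def, sigma_snd,
      mul_inv_cancel_right]
  show ((j ⊗ₘ (j ≫ ι[G])) ≫ μ[G]).left y = x
  rw [hfac, Over.comp_left]
  show (((𝟙 G ⊗ₘ ι[G]) ≫ μ[G]).left) ((j ⊗ₘ j).left y) = x
  rw [hy]
  show (ψ'.left ≫ ((𝟙 G ⊗ₘ ι[G]) ≫ μ[G]).left) z = x
  rw [← Over.comp_left, hval, Over.comp_left]
  exact ptHom_left_apply G x _

end Groth.Agent.H9.GSC
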