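import Mathlib
import Groth.Agent.Lib.Helper9.Misc.GSC1

/-! Helper9: stalks at closed points of l.f.t. group schemes over alg. closed fields are isomorphic (S5387). -/

set_option linter.style.haveILetI false
set_option linter.unusedSectionVars false

namespace Groth.Agent.H9.GSD

universe u

open CategoryTheory CategoryTheory.Limits MonoidalCategory CartesianMonoidalCategory MonObj GrpObj
  AlgebraicGeometry Groth.Agent.H9.GSC

variable {k : Type u} [Field k] (G : Over (Spec (CommRingCat.of k))) [GrpObj G]

theorem S5387_main [IsAlgClosed k] [LocallyOfFiniteType G.hom]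
    (pt₀ : ↥(𝟙_ (Over (Spec (CommRingCat.of k)))).left) (x : G.left)
    (hx : IsClosed ({x} : Set G.left)) :
    Nonempty (G.left.presheaf.stalk (η[G].left.base pt₀) ≅ G.left.presheaf.stalk x) := by
  have hpt : pt₀ = IsLocalRing.closedPoint k :=
    Subsingleton.elim (α := Spec (CommRingCat.of k)) _ _
  subst hpt
  let a := kpt G x hx
  let φ : G.left ⟶ G.left := (lmul a).hom.left
  have hiso : IsIso φ := (inferInstance : IsIso ((Over.forget _).map (lmul a).hom))
  have h1 : φ (η[G].left (IsLocalRing.closedPoint k)) = x := by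
    rw [← pt_one, lmul_pt, _root_.mul_one, pt_kpt]
  have e1 : G.left.presheaf.stalk (φ (η[G].left (IsLocalRing.closedPoint k))) ≅
      G.left.presheaf.stalk (η[G].left (IsLocalRing.closedPoint k)) :=
    asIso (φ.stalkMap (η[G].left (IsLocalRing.closedPoint k)))
  have e2 : G.left.presheaf.stalk (φ (η[G].left (IsLocalRing.closedPoint k))) ≅
      G.left.presheaf.stalk x := G.left.presheaf.stalkCongr (.of_eq h1)
  exact ⟨e1.symm ≪≫ e2⟩

end Groth.Agent.H9.GSD
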