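import Mathlib

set_option autoImplicit false
set_option linter.style.haveILetI false
set_option linter.unusedSectionVars false
set_option linter.unusedVariables false

universe u

open TensorProduct

namespace Groth.Agent.H9.GUF

theorem flat_of_le (A B : Type u) [CommRing A] [CommRing B] [Algebra A B] (q n : Ideal B)
    [hq : q.IsPrime] [hn : n.IsPrime] (hqn : q ≤ n) [Module.Flat A (Localization.AtPrime n)] :
    Module.Flat A (Localization.AtPrime q) := by
  have hdisj : Disjoint (n.primeCompl : Set B) (q : Set B) := by
    rw [Set.disjoint_left]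
    intro x hx hxq
    exact hx (hqn hxq)
  let p : Ideal (Localization.AtPrime n) := q.map (algebraMap B (Localization.AtPrime n))
  haveI hp : p.IsPrime := IsLocalization.isPrime_of_isPrime_disjoint n.primeCompl _ q hq hdisj
  have hcomap : p.comap (algebraMap B (Localization.AtPrime n)) = q :=
    IsLocalization.under_map_of_isPrime_disjoint n.primeCompl _ hq hdisj
  haveI : Module.Flat A (Localization.AtPrime p) := inferInstance
  have hsub : (p.comap (algebraMap B (Localization.AtPrime n))).primeCompl = q.primeCompl := by
    ext x
    rw [Ideal.mem_primeCompl_iff, Ideal.mem_primeCompl_iff, hcomap]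
  haveI : IsLocalization.AtPrime (Localization.AtPrime p) q := by
    have := IsLocalization.isLocalization_atPrime_localization_atPrime n.primeCompl p
    unfold IsLocalization.AtPrime at this ⊢
    rw [hsub] at this
    exact this
  let e : Localization.AtPrime p ≃ₐ[B] Localization.AtPrime q :=
    IsLocalization.algEquiv q.primeCompl (Localization.AtPrime p) (Localization.AtPrime q)
  exact Module.Flat.of_linearEquiv (e.restrictScalars A).toLinearEquiv.symm

end Groth.Agent.H9.GUF

namespace Groth.Agent.H9.GUF

attribute [local instance] Algebra.TensorProduct.rightAlgebra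

theorem main (A B : Type u) [CommRing A] [CommRing B] [IsNoetherianRing A]
    [Algebra A B] [Algebra.HasGoingUp A B]
    (h4 : ∀ (q : Ideal B) [q.IsPrime], IsAssociatedPrime (q.comap (algebraMap A B)) A →
      Module.Flat A (Localization.AtPrime q)) :
    Module.Flat (FractionRing A) (FractionRing A ⊗[A] B) := by
  classical
  rw [Module.flat_iff_of_isLocalization (FractionRing A) (nonZeroDivisors A)]
  haveI hloc : IsLocalization (Algebra.algebraMapSubmonoid B (nonZeroDivisors A))
      (FractionRing A ⊗[A] B) := inferInstance
  apply Module.flat_of_isLocalized_maximal (FractionRing A ⊗[A] B) (FractionRing A ⊗[A] B)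
    (fun P _ => Localization.AtPrime P) (fun P _ => Algebra.linearMap _ _)
  intro P hP
  haveI : P.IsPrime := hP.isPrime
  set q : Ideal B := P.comap (algebraMap B (FractionRing A ⊗[A] B)) with hq
  haveI hqprime : q.IsPrime := Ideal.comap_isPrime _ _
  haveI hlocP : IsLocalization.AtPrime (Localization.AtPrime P) q :=
    IsLocalization.isLocalization_isLocalization_atPrime_isLocalization
      (Algebra.algebraMapSubmonoid B (nonZeroDivisors A)) (Localization.AtPrime P) P
  -- `q` misses the image of the nonzerodivisors
  have hqS : ∀ s ∈ nonZeroDivisors A, algebraMap A B s ∉ q := by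
    intro s hs hmem
    have h1 : algebraMap B (FractionRing A ⊗[A] B) (algebraMap A B s) ∈ P := hmem
    have h2 : IsUnit (algebraMap B (FractionRing A ⊗[A] B) (algebraMap A B s)) :=
      IsLocalization.map_units (FractionRing A ⊗[A] B)
        (⟨algebraMap A B s, ⟨s, hs, rfl⟩⟩ : Algebra.algebraMapSubmonoid B (nonZeroDivisors A))
    exact hP.ne_top (Ideal.eq_top_of_isUnit_mem _ h1 h2)
  set p : Ideal A := q.comap (algebraMap A B) with hp
  have hpsub : (p : Set A) ⊆ ⋃ p' ∈ associatedPrimes A A, (p' : Set A) := by
    rw [biUnion_associatedPrimes_eq_compl_nonZeroDivisors]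
    intro a ha hS
    exact hqS a hS ha
  have hfin : (associatedPrimes A A).Finite := associatedPrimes.finite A A
  obtain ⟨p', hp'mem, hpp'⟩ : ∃ p' ∈ hfin.toFinset, p ≤ p' := by
    rw [← Ideal.subset_union_prime (f := fun x : Ideal A => x) ⊥ ⊥]
    · simpa using hpsub
    · intro i hi _ _
      exact (hfin.mem_toFinset.mp hi).isPrime
  have hp'ass : IsAssociatedPrime p' A := hfin.mem_toFinset.mp hp'mem
  haveI : p'.IsPrime := hp'ass.isPrime
  haveI : q.LiesOver p := ⟨rfl⟩
  obtain ⟨q', hqq', hq'prime, hq'over⟩ := Ideal.exists_ideal_ge_liesOver_of_le (S := B) q hpp'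
  haveI := hq'prime
  have hq'comap : q'.comap (algebraMap A B) = p' := hq'over.over.symm
  haveI hflat' : Module.Flat A (Localization.AtPrime q') := h4 q' (by rw [hq'comap]; exact hp'ass)
  haveI hflat : Module.Flat A (Localization.AtPrime q) := flat_of_le A B q q' hqq'
  let e : Localization.AtPrime q ≃ₐ[B] Localization.AtPrime P :=
    IsLocalization.algEquiv q.primeCompl (Localization.AtPrime q) (Localization.AtPrime P)
  exact Module.Flat.of_linearEquiv (e.restrictScalars A).toLinearEquiv.symm

end Groth.Agent.H9.GUF
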