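import Mathlib

/-! Helper9: quotient by a pure ideal is a localization, hence flat. -/

set_option linter.style.haveILetI false
set_option linter.unusedSectionVars false

namespace Groth.Agent.H9.GZD

variable {A : Type*} [CommRing A]

/-- The submonoid `1 + I`. -/
def oneAdd (I : Ideal A) : Submonoid A where
  carrier := {s | 1 - s ∈ I}
  one_mem' := by simp
  mul_mem' := by
    intro s t hs ht
    have h : 1 - s * t = (1 - s) + s * (1 - t) := by ring
    show 1 - s * t ∈ I
    rw [h]
    exact I.add_mem hs (I.mul_mem_left _ ht)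

theorem mem_oneAdd {I : Ideal A} {s : A} : s ∈ oneAdd I ↔ 1 - s ∈ I := Iff.rfl

/-- The quotient by a pure ideal is the localization at `1 + I`. -/
theorem isLocalization_quotient_of_pure (I : Ideal A) (h : ∀ x ∈ I, ∃ b ∈ I, x = x * b) :
    IsLocalization (oneAdd I) (A ⧸ I) where
  map_units := by
    rintro ⟨s, hs⟩
    have : algebraMap A (A ⧸ I) s = 1 := by
      rw [Ideal.Quotient.algebraMap_eq, ← map_one (Ideal.Quotient.mk I), eq_comm,
        Ideal.Quotient.eq]
      exact hs
    rw [this]; exact isUnit_one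
  surj := by
    intro z
    obtain ⟨a, rfl⟩ := Ideal.Quotient.mk_surjective z
    exact ⟨(a, 1), by simp⟩
  exists_of_eq := by
    intro a b hab
    rw [Ideal.Quotient.algebraMap_eq, Ideal.Quotient.eq] at hab
    obtain ⟨c, hc, hcc⟩ := h _ hab
    refine ⟨⟨1 - c, by show 1 - (1 - c) ∈ I; simpa using hc⟩, ?_⟩
    show (1 - c) * a = (1 - c) * b
    have : (1 - c) * (a - b) = 0 := by
      have h1 : (1 - c) * (a - b) = (a - b) - (a - b) * c := by ring
      rw [h1, ← hcc, sub_self]
    linear_combination this

theorem flat_quotient_of_pure (I : Ideal A) (h : ∀ x ∈ I, ∃ b ∈ I, x = x * b) :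
    Module.Flat A (A ⧸ I) :=
  haveI := isLocalization_quotient_of_pure I h
  IsLocalization.flat (A ⧸ I) (oneAdd I)

theorem ringHom_flat_quotient_of_pure (I : Ideal A) (h : ∀ x ∈ I, ∃ b ∈ I, x = x * b) :
    (Ideal.Quotient.mk I).Flat := by
  have := flat_quotient_of_pure I h
  rw [← Ideal.Quotient.algebraMap_eq]
  exact RingHom.flat_algebraMap_iff.mpr this

end Groth.Agent.H9.GZD
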