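import Mathlib
import Groth.Agent.Lib.Helper9.Misc.GZD1

/-! Helper9: the flat closed subscheme cut out by a directed family of clopen subsets (pro-clopen subscheme). -/

set_option linter.style.haveILetI false
set_option linter.unusedSectionVars false

namespace Groth.Agent.H9.GZD

universe u

open CategoryTheory CategoryTheory.Limits AlgebraicGeometry TopologicalSpace

variable {X : Scheme.{u}}

/-- For an affine open `U` and a clopen set `S` there is an idempotent cutting out `U ∩ S`. -/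
theorem exists_idempotent_basicOpen {U : X.Opens} (hU : IsAffineOpen U) (S : Set X)
    (hS : IsClopen S) :
    ∃ e : Γ(X, U), IsIdempotentElem e ∧ (X.basicOpen e : Set X) = (U : Set X) ∩ S := by
  have h1 : IsClopen (hU.fromSpec ⁻¹' S) := hS.preimage hU.fromSpec.continuous
  obtain ⟨e, he, hS'⟩ := PrimeSpectrum.isClopen_iff.mp h1
  refine ⟨e, he, ?_⟩
  have h2 := hU.fromSpec_preimage_basicOpen e
  have h3 : ∀ p : Spec Γ(X, U), hU.fromSpec p ∈ X.basicOpen e ↔ hU.fromSpec p ∈ S := by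
    intro p
    have h4 : p ∈ hU.fromSpec ⁻¹ᵁ X.basicOpen e ↔ p ∈ PrimeSpectrum.basicOpen e := by
      rw [h2]; exact Iff.rfl
    have h5 : p ∈ hU.fromSpec ⁻¹' S ↔ p ∈ PrimeSpectrum.basicOpen e := by rw [hS']; exact Iff.rfl
    exact h4.trans h5.symm
  ext y
  constructor
  · intro hy
    have hyU : y ∈ (U : Set X) := X.basicOpen_le e hy
    rw [← hU.range_fromSpec] at hyU
    obtain ⟨p, rfl⟩ := hyU
    refine ⟨?_, (h3 p).mp hy⟩
    rw [← hU.range_fromSpec]; exact ⟨p, rfl⟩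
  · rintro ⟨hyU, hyS⟩
    rw [← hU.range_fromSpec] at hyU
    obtain ⟨p, rfl⟩ := hyU
    exact (h3 p).mpr hyS

/-- A directed family of clopen open subschemes. -/
structure ClopenFamily (X : Scheme.{u}) where
  S : Set X.Opens
  nonempty : S.Nonempty
  closed : ∀ C ∈ S, IsClosed (C : Set X)
  directed : ∀ C₁ ∈ S, ∀ C₂ ∈ S, ∃ C₃ ∈ S, C₃ ≤ C₁ ⊓ C₂

namespace ClopenFamily

variable (𝒞 : ClopenFamily X)

/-- The intersection of the family. -/
def inter : Set X := ⋂ C ∈ 𝒞.S, (C : Set X)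

theorem isClosed_inter : IsClosed 𝒞.inter :=
  isClosed_biInter fun C hC => 𝒞.closed C hC

theorem isClosedImmersion_ι (C : X.Opens) (hC : IsClosed (C : Set X)) :
    IsClosedImmersion C.ι :=
  .of_isPreimmersion _ (by rw [Scheme.Opens.range_ι]; exact hC)

theorem ker_anti {C C' : X.Opens} (h : C ≤ C') : (C'.ι).ker ≤ (C.ι).ker := by
  have := Scheme.Hom.le_ker_comp (X.homOfLE h) C'.ι
  rwa [Scheme.homOfLE_ι] at this

/-- The ideal sheaf of sections vanishing on some member of the family. -/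
noncomputable def idealSheaf : X.IdealSheafData := ⨆ C : 𝒞.S, (C.1.ι).ker

theorem ker_le_idealSheaf (C : X.Opens) (hC : C ∈ 𝒞.S) : (C.ι).ker ≤ 𝒞.idealSheaf :=
  le_iSup (fun C : 𝒞.S => (C.1.ι).ker) ⟨C, hC⟩

theorem mem_ideal_iff (U : X.affineOpens) (x : Γ(X, U)) :
    x ∈ 𝒞.idealSheaf.ideal U ↔ ∃ C ∈ 𝒞.S, (C.ι).app U x = 0 := by
  haveI : Nonempty 𝒞.S := 𝒞.nonempty.to_subtype
  have hd : Directed (· ≤ ·) fun C : 𝒞.S => (C.1.ι).ker.ideal U := by
    intro C₁ C₂
    obtain ⟨C₃, h3, hle⟩ := 𝒞.directed C₁.1 C₁.2 C₂.1 C₂.2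
    exact ⟨⟨C₃, h3⟩, ker_anti (hle.trans inf_le_left) U, ker_anti (hle.trans inf_le_right) U⟩
  have h1 : 𝒞.idealSheaf.ideal U = ⨆ C : 𝒞.S, (C.1.ι).ker.ideal U := by
    unfold idealSheaf
    rw [Scheme.IdealSheafData.ideal_iSup, iSup_apply]
  rw [h1, Submodule.mem_iSup_of_directed _ hd]
  constructor
  · rintro ⟨C, hx⟩
    haveI := isClosedImmersion_ι C.1 (𝒞.closed C.1 C.2)
    rw [Scheme.Hom.ker_apply] at hx
    exact ⟨C.1, C.2, hx⟩
  · rintro ⟨C, hC, hx⟩
    haveI := isClosedImmersion_ι C (𝒞.closed C hC)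
    refine ⟨⟨C, hC⟩, ?_⟩
    rw [Scheme.Hom.ker_apply]
    exact hx

theorem pure_aux {U : X.Opens} (hU : IsAffineOpen U) (C : X.Opens) (hC : IsClosed (C : Set X))
    (x : Γ(X, U)) (hx : (C.ι).app U x = 0) :
    ∃ b : Γ(X, U), (C.ι).app U b = 0 ∧ x = x * b := by
  obtain ⟨e, he, hDe⟩ := exists_idempotent_basicOpen hU (C : Set X) ⟨hC, C.isOpen⟩
  have hW : C.ι ''ᵁ C.ι ⁻¹ᵁ U = X.basicOpen e := by
    ext1
    rw [hDe]
    show C.ι '' (C.ι ⁻¹' (U : Set X)) = _
    rw [Set.image_preimage_eq_inter_range, Scheme.Opens.range_ι]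
  have hle1 : X.basicOpen e ≤ C.ι ''ᵁ C.ι ⁻¹ᵁ U := hW.ge
  have hle2 : C.ι ''ᵁ C.ι ⁻¹ᵁ U ≤ X.basicOpen e := hW.le
  have hWU : C.ι ''ᵁ C.ι ⁻¹ᵁ U ≤ U := Set.image_preimage_subset _ _
  have hx' : (X.presheaf.map (homOfLE hWU).op).hom x = 0 := hx
  -- x vanishes on D(e)
  have hx1 : (X.presheaf.map (homOfLE (X.basicOpen_le e)).op).hom x = 0 := by
    have : homOfLE (X.basicOpen_le e) = homOfLE hle1 ≫ homOfLE hWU := rfl
    rw [this, op_comp, X.presheaf.map_comp, CommRingCat.hom_comp, RingHom.comp_apply, hx',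
      map_zero]
  obtain ⟨n, hn⟩ := exists_pow_mul_eq_zero_of_res_basicOpen_eq_zero_of_isAffineOpen X hU x e hx1
  have hex : e * x = 0 := by
    have h1 : e ^ (n + 1) * x = 0 := by rw [pow_succ', mul_assoc, hn, mul_zero]
    rwa [he.pow_succ_eq] at h1
  refine ⟨1 - e, ?_, ?_⟩
  · have h1 : (X.presheaf.map (homOfLE (X.basicOpen_le e)).op).hom (1 - e) = 0 := by
      haveI := hU.isLocalization_basicOpen e
      have := (IsLocalization.map_eq_zero_iff (Submonoid.powers e) Γ(X, X.basicOpen e) (1 - e)).mpr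
        ⟨⟨e, Submonoid.mem_powers e⟩, by
          show e * (1 - e) = 0
          rw [mul_sub, mul_one, he.eq, sub_self]⟩
      exact this
    show (X.presheaf.map (homOfLE hWU).op).hom (1 - e) = 0
    have : homOfLE hWU = homOfLE hle2 ≫ homOfLE (X.basicOpen_le e) := rfl
    rw [this, op_comp, X.presheaf.map_comp, CommRingCat.hom_comp, RingHom.comp_apply, h1,
      map_zero]
  · rw [mul_sub, mul_one, mul_comm x e, hex, sub_zero]

theorem pure (U : X.affineOpens) (x : Γ(X, U)) (hx : x ∈ 𝒞.idealSheaf.ideal U) :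
    ∃ b ∈ 𝒞.idealSheaf.ideal U, x = x * b := by
  obtain ⟨C, hC, hx0⟩ := (𝒞.mem_ideal_iff U x).mp hx
  obtain ⟨b, hb, hxb⟩ := pure_aux U.2 C (𝒞.closed C hC) x hx0
  exact ⟨b, (𝒞.mem_ideal_iff U b).mpr ⟨C, hC, hb⟩, hxb⟩

/-- The closed subscheme cut out by the ideal sheaf. -/
noncomputable abbrev sub : Scheme.{u} := 𝒞.idealSheaf.subscheme

/-- Its inclusion. -/
noncomputable abbrev subι : 𝒞.sub ⟶ X := 𝒞.idealSheaf.subschemeι

theorem flat_subι : Flat 𝒞.subι := by
  refine (IsZariskiLocalAtSource.iff_of_openCover (P := @Flat)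
    𝒞.idealSheaf.subschemeCover.openCover).mpr fun U => ?_
  show Flat (𝒞.idealSheaf.subschemeCover.f U ≫ 𝒞.idealSheaf.subschemeι)
  rw [Scheme.IdealSheafData.subschemeCover_map_subschemeι]
  have h1 : Flat (Spec.map (CommRingCat.ofHom (Ideal.Quotient.mk (𝒞.idealSheaf.ideal U)))) := by
    rw [Flat.SpecMap_iff]
    exact ringHom_flat_quotient_of_pure _ (𝒞.pure U)
  have h2 : Flat (𝒞.idealSheaf.glueDataObjι U) := by
    unfold Scheme.IdealSheafData.glueDataObjι
    exact MorphismProperty.comp_mem _ _ _ h1 inferInstance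
  exact MorphismProperty.comp_mem _ _ _ h2 inferInstance

theorem support_eq : (𝒞.idealSheaf.support : Set X) = 𝒞.inter := by
  apply Set.Subset.antisymm
  · intro x hx
    refine Set.mem_iInter₂.mpr fun C hC => ?_
    haveI := isClosedImmersion_ι C (𝒞.closed C hC)
    have h1 := Scheme.IdealSheafData.support_antitone (𝒞.ker_le_idealSheaf C hC)
    have h2 : x ∈ ((C.ι).ker.support : Set X) := h1 hx
    rw [Scheme.Hom.support_ker, Scheme.Opens.range_ι, (𝒞.closed C hC).closure_eq] at h2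
    exact h2
  · have h : (⟨𝒞.inter, 𝒞.isClosed_inter⟩ : Closeds X) ≤ 𝒞.idealSheaf.support := by
      rw [Scheme.IdealSheafData.le_support_iff_le_vanishingIdeal]
      refine iSup_le fun C => ?_
      rw [← Scheme.IdealSheafData.le_support_iff_le_vanishingIdeal]
      intro x hx
      apply Scheme.Hom.range_subset_ker_support
      rw [Scheme.Opens.range_ι]
      exact Set.mem_iInter₂.mp hx C.1 C.2
    exact h

theorem range_subι : Set.range 𝒞.subι = 𝒞.inter := by
  rw [Scheme.IdealSheafData.range_subschemeι, support_eq]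

/-- A morphism landing in every member of the family factors through the subscheme. -/
theorem le_ker {T : Scheme.{u}} (g : T ⟶ X) (hg : ∀ t, g t ∈ 𝒞.inter) :
    𝒞.subι.ker ≤ g.ker := by
  rw [Scheme.IdealSheafData.ker_subschemeι]
  refine iSup_le fun C => ?_
  have hr : Set.range g ⊆ Set.range C.1.ι := by
    rintro _ ⟨t, rfl⟩
    rw [Scheme.Opens.range_ι]
    exact Set.mem_iInter₂.mp (hg t) C.1 C.2
  have := Scheme.Hom.le_ker_comp (IsOpenImmersion.lift C.1.ι g hr) C.1.ι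
  rwa [IsOpenImmersion.lift_fac] at this

/-- The lift. -/
noncomputable def lift {T : Scheme.{u}} (g : T ⟶ X) (hg : ∀ t, g t ∈ 𝒞.inter) : T ⟶ 𝒞.sub :=
  IsClosedImmersion.lift 𝒞.subι g (𝒞.le_ker g hg)

@[reassoc (attr := simp)]
theorem lift_fac {T : Scheme.{u}} (g : T ⟶ X) (hg : ∀ t, g t ∈ 𝒞.inter) :
    𝒞.lift g hg ≫ 𝒞.subι = g :=
  IsClosedImmersion.lift_fac _ _ _

end ClopenFamily

end Groth.Agent.H9.GZD
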