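import Mathlib
import Groth.Agent.Lib.Helper9.Misc.GZB2
import Groth.Agent.Lib.Helper9.Misc.GZD2
import Groth.Agent.Lib.Helper9.Misc.GZD3

/-! Helper9: the identity component G⁰ of a group scheme over a field as a flat closed subgroup scheme (S7520). -/

set_option linter.style.haveILetI false
set_option linter.unusedSectionVars false

namespace Groth.Agent.H9.GZD

universe u

open CategoryTheory CategoryTheory.Limits MonoidalCategory CartesianMonoidalCategory MonObj GrpObj
  AlgebraicGeometry Groth.Agent.H9.GSA Groth.Agent.H9.GSD Groth.Agent.H9.GZA Groth.Agent.H9.GSC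
  Groth.Agent.H9.GZB

variable {K : Type u} [Field K] (G : Over (Spec (CommRingCat.of K))) [GrpObj G]

/-- The clopen neighbourhoods of the identity. -/
def fam : ClopenFamily G.left where
  S := {C | IsClosed (C : Set G.left) ∧ ePt G ∈ C}
  nonempty := ⟨⊤, isClosed_univ, trivial⟩
  closed := fun _ hC => hC.1
  directed := fun C₁ h₁ C₂ h₂ => ⟨C₁ ⊓ C₂, ⟨h₁.1.inter h₂.1, h₁.2, h₂.2⟩, le_rfl⟩

theorem fam_inter : (fam G).inter = Z0 G := by
  apply Set.Subset.antisymm
  · intro x hx
    by_contra hxZ
    have h1 : ePt G ∉ closure {r G x} := by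
      intro h
      have h2 : r G x ⤳ ePt G := specializes_iff_mem_closure.mpr h
      have h3 : r G x = zeta G :=
        uniqueGen_one G _ _ (isMaxPt_r G x) (isMaxPt_zeta G) h2 (zeta_specializes_one G)
      apply hxZ
      rw [mem_Z0_iff, ← h3]
      exact r_specializes G x
    obtain ⟨_, ⟨U, hUaff, rfl⟩, heU, hUsub⟩ :=
      G.left.isBasis_affineOpens.exists_subset_of_mem_open h1 isClosed_closure.isOpen_compl
    let C : G.left.Opens := ⟨sat G (U : Set G.left), isOpen_sat G U.isOpen⟩
    have hC : C ∈ (fam G).S := ⟨isClosed_sat G U hUaff.isCompact, subset_sat G U.isOpen heU⟩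
    have h5 : r G x ∈ (U : Set G.left) := Set.mem_iInter₂.mp hx C hC
    exact hUsub h5 (subset_closure rfl)
  · intro x hx
    refine Set.mem_iInter₂.mpr fun C hC => ?_
    have hclopen : IsClopen (C : Set G.left) := ⟨hC.1, C.isOpen⟩
    have := hclopen.connectedComponent_subset hC.2
    rw [connectedComponent_eq_Z0] at this
    exact this hx

/-- The identity component as an object over the base field. -/
noncomputable def G0 : Over (Spec (CommRingCat.of K)) := Over.mk ((fam G).subι ≫ G.hom)

/-- The inclusion of the identity component. -/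
noncomputable def incl : G0 G ⟶ G := Over.homMk (fam G).subι rfl

theorem incl_left : (incl G).left = (fam G).subι := rfl

instance : IsClosedImmersion (incl G).left :=
  (inferInstance : IsClosedImmersion (fam G).idealSheaf.subschemeι)

instance : Mono (incl G) := by
  haveI : Mono ((Over.forget _).map (incl G)) := by
    show Mono (incl G).left
    infer_instance
  exact (Over.forget _).mono_of_mono_map inferInstance

theorem range_incl : Set.range (incl G).left = Z0 G := by
  have := (fam G).range_subι
  rw [fam_inter] at this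
  exact this

theorem flat_incl : Flat (incl G).left := (fam G).flat_subι

theorem mem_inter_of {T : Over (Spec (CommRingCat.of K))} (f : T ⟶ G)
    (hf : ∀ t, f.left t ∈ Z0 G) : ∀ t, f.left t ∈ (fam G).inter :=
  fun t => by rw [fam_inter]; exact hf t

/-- Morphisms landing in the identity component factor through it. -/
noncomputable def liftO {T : Over (Spec (CommRingCat.of K))} (f : T ⟶ G)
    (hf : ∀ t, f.left t ∈ Z0 G) : T ⟶ G0 G :=
  Over.homMk ((fam G).lift f.left (mem_inter_of G f hf)) (by
    show (fam G).lift f.left _ ≫ (fam G).subι ≫ G.hom = T.hom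
    rw [ClopenFamily.lift_fac_assoc, Over.w])

@[reassoc (attr := simp)]
theorem liftO_fac {T : Over (Spec (CommRingCat.of K))} (f : T ⟶ G)
    (hf : ∀ t, f.left t ∈ Z0 G) : liftO G f hf ≫ incl G = f := by
  ext1
  exact (fam G).lift_fac f.left (mem_inter_of G f hf)

theorem incl_mem (x : (G0 G).left) : (incl G).left x ∈ Z0 G := by
  rw [← range_incl]; exact ⟨x, rfl⟩

theorem one_mem (t : (𝟙_ (Over (Spec (CommRingCat.of K)))).left) : η[G].left t ∈ Z0 G := by
  have ht : t = IsLocalRing.closedPoint K := @Subsingleton.elim (PrimeSpectrum K) _ _ _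
  rw [ht]
  exact one_mem_Z0 G

theorem inv_mem (x : (G0 G).left) : (incl G ≫ ι[G]).left x ∈ Z0 G := by
  rw [← inv_Z0 G]
  exact ⟨(incl G).left x, incl_mem G x, rfl⟩

theorem mul_mem (w : (G0 G ⊗ G0 G).left) : ((incl G ⊗ₘ incl G) ≫ μ[G]).left w ∈ Z0 G := by
  set w' : (G ⊗ G).left := (incl G ⊗ₘ incl G).left w with hw'
  have hf : (fst G G).left w' = (incl G).left ((fst (G0 G) (G0 G)).left w) := by
    have h := congrArg (fun ψ : G0 G ⊗ G0 G ⟶ G => ψ.left w) (tensorHom_fst (incl G) (incl G))
    exact h
  have hs : (snd G G).left w' = (incl G).left ((snd (G0 G) (G0 G)).left w) := by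
    have h := congrArg (fun ψ : G0 G ⊗ G0 G ⟶ G => ψ.left w) (tensorHom_snd (incl G) (incl G))
    exact h
  have h1 : (fst G G).left w' ∈ Z0 G := by rw [hf]; exact incl_mem G _
  have h2 : (snd G G).left w' ∈ Z0 G := by rw [hs]; exact incl_mem G _
  have h3 := r_specializes_mul G w' h2
  rw [r_eq_zeta G h1] at h3
  exact (mem_Z0_iff G _).mpr h3

/-- The unit of the identity component. -/
noncomputable def one0 : 𝟙_ (Over (Spec (CommRingCat.of K))) ⟶ G0 G := liftO G η[G] (one_mem G)

/-- The multiplication of the identity component. -/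
noncomputable def mul0 : G0 G ⊗ G0 G ⟶ G0 G := liftO G ((incl G ⊗ₘ incl G) ≫ μ[G]) (mul_mem G)

/-- The inverse of the identity component. -/
noncomputable def inv0 : G0 G ⟶ G0 G := liftO G (incl G ≫ ι[G]) (inv_mem G)

noncomputable instance grpObjG0 : GrpObj (G0 G) :=
  grpObjOfMono (incl G) (one0 G) (mul0 G) (inv0 G) (liftO_fac G _ _) (liftO_fac G _ _)
    (liftO_fac G _ _)

instance isMonHom_incl : IsMonHom (incl G) :=
  isMonHom_ofMono (incl G) (one0 G) (mul0 G) (inv0 G) (liftO_fac G _ _) (liftO_fac G _ _)
    (liftO_fac G _ _)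

instance irreducibleSpace_G0 : IrreducibleSpace (G0 G).left :=
  irreducibleSpace_of_isEmbedding _ (incl G).left.isEmbedding (by
    rw [range_incl]; exact isIrreducible_Z0 G)

instance compactSpace_G0 : CompactSpace (G0 G).left := by
  rw [← isCompact_univ_iff, (incl G).left.isEmbedding.isCompact_iff, Set.image_univ, range_incl]
  exact isCompact_Z0 G

theorem geometricallyIrreducible_G0 : GeometricallyIrreducible (G0 G).hom := by
  have h := S7517_main G (G0 G).left (incl G).left
    (by rw [range_incl]; exact Z0_mem G) (by rw [range_incl]; exact one_mem_Z0 G)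
  exact h

theorem S7520_main : ∃ (G₀ : Over (Spec (CommRingCat.of K))) (_ : GrpObj G₀) (incl : G₀ ⟶ G)
    (_ : IsMonHom incl), IsClosedImmersion incl.left ∧ Flat incl.left ∧
    Set.range ⇑incl.left = connectedComponent (η[G].left (IsLocalRing.closedPoint K)) ∧
    GeometricallyIrreducible G₀.hom ∧ CompactSpace ↥G₀.left := by
  refine ⟨G0 G, grpObjG0 G, incl G, isMonHom_incl G, inferInstance, flat_incl G, ?_,
    geometricallyIrreducible_G0 G, inferInstance⟩
  rw [range_incl]
  exact (connectedComponent_eq_Z0 G).symm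

end Groth.Agent.H9.GZD
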