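import Mathlib
import Groth.Prelude.Def_W4c5qcohlocdualityLoc

universe w v u
open CategoryTheory CategoryTheory.Limits

namespace Groth.Agent.Lib.Helper9.GabLocT

variable {C : Type u} [Category.{v} C] [Abelian C]

section Zorn
variable [IsGrothendieckAbelian.{w} C]

attribute [local instance] IsFiltered.isConnected

lemma mono_of_directed {N Q : C} (π : N ⟶ Q) {J : Type w} [Preorder J] [IsDirected J (· ≤ ·)]
    [Nonempty J] (A : J → Subobject N) (hA : Monotone A) (hπ : ∀ j, Mono ((A j).arrow ≫ π)) :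
    ∃ B : Subobject N, (∀ j, A j ≤ B) ∧ Mono (B.arrow ≫ π) := by
  let F : J ⥤ MonoOver N :=
    { obj := fun j => MonoOver.mk (A j).arrow
      map := fun {j j'} h => MonoOver.homMk (Subobject.ofLE _ _ (hA (leOfHom h))) (by simp)
      map_id := fun _ => Subsingleton.elim _ _
      map_comp := fun _ _ => Subsingleton.elim _ _ }
  let D := F ⋙ MonoOver.forget _ ⋙ Over.forget _
  let c := colimit.cocone D
  let hc : IsColimit c := colimit.isColimit D
  let f : c.pt ⟶ N := colimit.desc D ⟨N,
    { app := fun j => (A j).arrow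
      naturality := fun j j' h => by
        show (A j).ofLE (A j') (hA (leOfHom h)) ≫ (A j').arrow = (A j).arrow ≫ 𝟙 N
        rw [Category.comp_id]
        exact Subobject.ofLE_arrow (hA (leOfHom h)) }⟩
  have hf : ∀ j, c.ι.app j ≫ f = (F.obj j).obj.hom := fun j => colimit.ι_desc _ _
  have hmono : Mono f := IsGrothendieckAbelian.mono_of_isColimit_monoOver F hc f hf
  have hsup := IsGrothendieckAbelian.subobjectMk_of_isColimit_eq_iSup F hc f hf
  let α : D ⟶ (Functor.const J).obj Q :=
    { app := fun j => (A j).arrow ≫ π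
      naturality := fun j j' h => by
        show (A j).ofLE (A j') (hA (leOfHom h)) ≫ (A j').arrow ≫ π = ((A j).arrow ≫ π) ≫ 𝟙 Q
        rw [Category.comp_id]
        exact Subobject.ofLE_arrow_assoc (hA (leOfHom h)) _ }
  have : ∀ j, Mono (α.app j) := hπ
  have := NatTrans.mono_of_mono_app α
  have hmono2 : Mono (f ≫ π) := colim.map_mono' α hc (isColimitConstCocone J Q) (f ≫ π)
    (fun j => by
      have h1 : c.ι.app j ≫ f = (A j).arrow := hf j
      show c.ι.app j ≫ f ≫ π = ((A j).arrow ≫ π) ≫ 𝟙 Q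
      rw [Category.comp_id, ← Category.assoc, h1]
      rfl)
  refine ⟨Subobject.mk f, fun j => ?_, ?_⟩
  · rw [hsup]
    refine le_trans ?_ (le_iSup _ j)
    simp [F]
  · have : (Subobject.mk f).arrow ≫ π = (Subobject.underlyingIso f).hom ≫ (f ≫ π) := by simp
    rw [this]
    infer_instance

omit [IsGrothendieckAbelian.{w} C] in
lemma mono_of_isZero {X Y : C} (hX : IsZero X) (f : X ⟶ Y) : Mono f :=
  ⟨fun g h _ => hX.eq_of_tgt g h⟩

/-- Zorn: maximal subobject `A` of `N` with `A ⟶ N ⟶ Q` mono. -/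
lemma exists_maximal {N Q : C} (π : N ⟶ Q) :
    ∃ A : Subobject N, Mono (A.arrow ≫ π) ∧
      ∀ A' : Subobject N, A ≤ A' → Mono (A'.arrow ≫ π) → A' = A := by
  let S : Set (Subobject N) := {A | Mono (A.arrow ≫ π)}
  have hbot : (⊥ : Subobject N) ∈ S := by
    show Mono _
    exact mono_of_isZero (IsZero.of_iso (isZero_zero C) Subobject.botCoeIsoZero) _
  obtain ⟨A, -, hA⟩ := zorn_le_nonempty₀ S (fun c hcS hc y hy => by
    have : Small.{w} (Subobject N) := inferInstance
    have : Small.{w} c := small_subtype (Subobject N) (· ∈ c)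
    let J := Shrink.{w} c
    let eJ : c ≃ J := equivShrink c
    let fJ : J → Subobject N := fun j => ((eJ.symm j : c) : Subobject N)
    let _ : Preorder J := Preorder.lift fJ
    have hdir : IsDirected J (· ≤ ·) := ⟨fun j j' => by
      rcases hc.total (eJ.symm j).2 (eJ.symm j').2 with h | h
      · exact ⟨j', h, le_rfl⟩
      · exact ⟨j, le_rfl, h⟩⟩
    have hne : Nonempty J := ⟨eJ ⟨y, hy⟩⟩
    obtain ⟨B, hB1, hB2⟩ := mono_of_directed π fJ (fun _ _ h => h)
      (fun j => hcS (eJ.symm j).2)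
    refine ⟨B, hB2, fun z hz => ?_⟩
    have := hB1 (eJ ⟨z, hz⟩)
    simpa [fJ] using this) ⊥ hbot
  refine ⟨A, hA.prop, fun A' hle hA' => ?_⟩
  exact le_antisymm (hA.le_of_ge hA' hle) hle

end Zorn

end Groth.Agent.Lib.Helper9.GabLocT
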