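import Mathlib
import Groth.Agent.Lib.Helper9.Misc.GabLocZorn

universe w v u
open CategoryTheory CategoryTheory.Limits Category

namespace Groth.Agent.Lib.Helper9.GabLocT

variable {C : Type u} [Category.{v} C] [Abelian C]

section Chases

/-- If `A ∩ M = 0` (in the form: `A ⟶ N ⟶ Y` mono, where `M = ker (N ⟶ Y)`),
then `M ⟶ N/A` is mono. -/
lemma mono_comp_cokernel {M N Y A : C} (i : M ⟶ N) (p : N ⟶ Y) (hip : i ≫ p = 0) [Mono i]
    (a : A ⟶ N) [Mono a] [Mono (a ≫ p)] : Mono (i ≫ cokernel.π a) := by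
  apply Preadditive.mono_of_cancel_zero
  intro X x hx
  let y := Abelian.monoLift a (x ≫ i) (by simpa using hx)
  have hy : y ≫ a = x ≫ i := Abelian.monoLift_comp _ _ _
  have h1 : y ≫ (a ≫ p) = 0 := by rw [← assoc, hy, assoc, hip, comp_zero]
  have y0 : y = 0 := by rw [← cancel_mono (a ≫ p), h1, zero_comp]
  have h2 : x ≫ i = 0 := by rw [← hy, y0, zero_comp]
  rw [← cancel_mono i, h2, zero_comp]

/-- The quotient of a short exact sequence by a subobject `A` of the middle term meeting the
kernel trivially. -/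
lemma shortExact_quot {M N Y A : C} {i : M ⟶ N} {p : N ⟶ Y} {hip : i ≫ p = 0}
    (hS : (ShortComplex.mk i p hip).ShortExact) (a : A ⟶ N) [Mono a] [Mono (a ≫ p)] :
    (ShortComplex.mk (i ≫ cokernel.π a)
      (cokernel.desc a (p ≫ cokernel.π (a ≫ p)) (by rw [← assoc, cokernel.condition]))
      (by simp [reassoc_of% hip])).ShortExact := by
  have : Mono i := hS.mono_f
  have : Epi p := hS.epi_g
  have hmono : Mono (i ≫ cokernel.π a) := mono_comp_cokernel i p hip a
  have hepi : Epi (cokernel.desc a (p ≫ cokernel.π (a ≫ p))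
      (by rw [← assoc, cokernel.condition])) := by
    have h : cokernel.π a ≫ cokernel.desc a (p ≫ cokernel.π (a ≫ p))
      (by rw [← assoc, cokernel.condition]) = p ≫ cokernel.π (a ≫ p) := cokernel.π_desc _ _ _
    exact epi_of_epi_fac h
  refine ShortComplex.ShortExact.mk' ?_ hmono hepi
  rw [ShortComplex.exact_iff_exact_up_to_refinements]
  intro X x₂ hx₂
  dsimp at x₂ hx₂ ⊢
  obtain ⟨X', π', hπ', x', hx'⟩ := surjective_up_to_refinements_of_epi (cokernel.π a) x₂
  have h1 : (x' ≫ p) ≫ cokernel.π (a ≫ p) = 0 := by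
    have := congrArg (· ≫ cokernel.desc a (p ≫ cokernel.π (a ≫ p))
      (by rw [← assoc, cokernel.condition])) hx'
    simp only [assoc, hx₂, comp_zero, cokernel.π_desc] at this
    rw [assoc]
    exact this.symm
  let y := Abelian.monoLift (a ≫ p) (x' ≫ p) h1
  have hy : y ≫ a ≫ p = x' ≫ p := Abelian.monoLift_comp _ _ _
  have h2 : (x' - y ≫ a) ≫ p = 0 := by
    rw [Preadditive.sub_comp, assoc, hy, sub_self]
  let z := hS.exact.lift (x' - y ≫ a) h2
  have hz : z ≫ i = x' - y ≫ a := hS.exact.lift_f _ _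
  refine ⟨X', π', hπ', z, ?_⟩
  rw [hx', ← assoc, hz, Preadditive.sub_comp, assoc, cokernel.condition, comp_zero, sub_zero]

/-- Pullback of a short exact sequence. -/
lemma shortExact_pullback {M N Y W : C} {i : M ⟶ N} {p : N ⟶ Y} {hip : i ≫ p = 0}
    (hS : (ShortComplex.mk i p hip).ShortExact) (w : W ⟶ Y) :
    (ShortComplex.mk (pullback.lift i 0 (by simp [hip]) : M ⟶ pullback p w) (pullback.snd p w)
      (pullback.lift_snd _ _ _)).ShortExact := by
  have : Mono i := hS.mono_f
  have : Epi p := hS.epi_g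
  have hmono : Mono (pullback.lift i 0 (by simp [hip]) : M ⟶ pullback p w) :=
    mono_of_mono_fac (pullback.lift_fst _ _ _)
  have hepi : Epi (pullback.snd p w) := inferInstance
  refine ShortComplex.ShortExact.mk' ?_ hmono hepi
  rw [ShortComplex.exact_iff_exact_up_to_refinements]
  intro X x₂ hx₂
  dsimp at x₂ hx₂ ⊢
  have h1 : (x₂ ≫ pullback.fst p w) ≫ p = 0 := by
    rw [assoc, pullback.condition, ← assoc, hx₂, zero_comp]
  let z := hS.exact.lift (x₂ ≫ pullback.fst p w) h1
  have hz : z ≫ i = x₂ ≫ pullback.fst p w := hS.exact.lift_f _ _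
  refine ⟨X, 𝟙 X, inferInstance, z, ?_⟩
  rw [id_comp]
  apply pullback.hom_ext
  · rw [assoc, pullback.lift_fst, hz]
  · rw [assoc, pullback.lift_snd, comp_zero, hx₂]

/-- Essentiality: if `A` is maximal among subobjects of `N` with `A ⟶ N ⟶ Q` mono and
`M = ker (N ⟶ Q)`, then every nonzero subobject of `N/A` meets `M` nontrivially. -/
lemma essential {M N Q : C} (i : M ⟶ N) (π : N ⟶ Q) (hiπ : i ≫ π = 0)
    (hS : (ShortComplex.mk i π hiπ).Exact) [Mono i]
    (A : Subobject N) (hmax : ∀ A' : Subobject N, A ≤ A' → Mono (A'.arrow ≫ π) → A' = A)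
    {W : C} (w : W ⟶ cokernel A.arrow) [Mono w] (hW : ¬ IsZero W) :
    ¬ IsZero (pullback (i ≫ cokernel.π A.arrow) w) := by
  intro hz
  let q := cokernel.π A.arrow
  let b : pullback q w ⟶ N := pullback.fst q w
  have : Mono b := inferInstance
  have hAB : A ≤ Subobject.mk b :=
    Subobject.le_mk_of_comm (pullback.lift A.arrow 0 (by simp [q])) (pullback.lift_fst _ _ _)
  have hmonoB : Mono (b ≫ π) := by
    apply Preadditive.mono_of_cancel_zero
    intro X x hx
    let t := hS.lift (x ≫ b) (by rw [assoc]; exact hx)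
    have ht : t ≫ i = x ≫ b := hS.lift_f _ _
    have hcone : t ≫ (i ≫ q) = (x ≫ pullback.snd q w) ≫ w := by
      rw [← assoc, ht, assoc, assoc]
      congr 1
      exact pullback.condition
    let l := pullback.lift t (x ≫ pullback.snd q w) hcone
    have hl : l = 0 := hz.eq_of_tgt _ _
    have ht0 : t = 0 := by
      rw [← pullback.lift_fst t _ hcone]
      show l ≫ _ = 0
      rw [hl, zero_comp]
    have h1 : x ≫ b = 0 := by rw [← ht, ht0, zero_comp]
    rw [← cancel_mono b, h1, zero_comp]
  have hmonoB' : Mono ((Subobject.mk b).arrow ≫ π) := by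
    have h1 : (Subobject.mk b).arrow ≫ π = (Subobject.underlyingIso b).hom ≫ (b ≫ π) := by simp
    rw [h1]
    infer_instance
  have hBA := hmax _ hAB hmonoB'
  have h0 : ∀ B : Subobject N, B = A → B.arrow ≫ q = 0 := by
    rintro _ rfl
    exact cokernel.condition _
  have hbq : b ≫ q = 0 := by
    have h1 := h0 _ hBA
    rw [← Subobject.underlyingIso_arrow b, assoc, h1, comp_zero]
  have hsnd : pullback.snd q w = 0 := by
    rw [← cancel_mono w, zero_comp, ← pullback.condition]
    exact hbq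
  have : Epi (pullback.snd q w) := inferInstance
  exact hW (IsZero.of_epi_eq_zero _ hsnd)

end Chases

end Groth.Agent.Lib.Helper9.GabLocT
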