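import Mathlib
import Groth.Agent.Lib.Helper9.Misc.GabLocChase

universe w v u
open CategoryTheory CategoryTheory.Limits Category ZeroObject

namespace Groth.Agent.Lib.Helper9.GabLocT

variable {C : Type u} [Category.{v} C] [Abelian C]

/-- The torsion class generated by `P`: every nonzero quotient has a nonzero subobject in `P`. -/
def T (P : ObjectProperty C) : ObjectProperty C :=
  fun Y => ∀ ⦃Z : C⦄ (g : Y ⟶ Z), Epi g → ¬ IsZero Z →
    ∃ (W : C) (j : W ⟶ Z), Mono j ∧ P W ∧ ¬ IsZero W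

section Basic

variable (P : ObjectProperty C)

lemma le_T [P.IsClosedUnderQuotients] : P ≤ T P := by
  intro Y hY Z g hg hZ
  exact ⟨Z, 𝟙 Z, inferInstance, P.prop_of_epi g hY, hZ⟩

lemma T_of_epi {Y Y₁ : C} (e : Y ⟶ Y₁) [Epi e] (hY : T P Y) : T P Y₁ := by
  intro Z g hg hZ
  have : Epi g := hg
  exact hY (e ≫ g) (epi_comp e g) hZ

lemma T_of_isZero {Y : C} (hY : IsZero Y) : T P Y := by
  intro Z g hg hZ
  have : Epi g := hg
  exact absurd (IsZero.of_epi_eq_zero g (hY.eq_of_src g 0)) hZ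

/-- A nonzero morphism out of an object of `T P` has a nonzero `P`-subobject in its target. -/
lemma T_image {Y Z : C} (hY : T P Y) (f : Y ⟶ Z) (hf : f ≠ 0) :
    ∃ (W : C) (j : W ⟶ Z), Mono j ∧ P W ∧ ¬ IsZero W := by
  have hI : ¬ IsZero (Limits.image f) := by
    intro h
    apply hf
    rw [← Limits.image.fac f, h.eq_of_tgt (factorThruImage f) 0, zero_comp]
  obtain ⟨W, j, hj, hW, hW0⟩ := hY (factorThruImage f) inferInstance hI
  have : Mono j := hj
  exact ⟨W, j ≫ Limits.image.ι f, mono_comp _ _, hW, hW0⟩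

lemma T_ext {S : ShortComplex C} (hS : S.ShortExact) (h₁ : T P S.X₁) (h₃ : T P S.X₃) :
    T P S.X₂ := by
  intro Z g hg hZ
  have : Epi g := hg
  have : Epi S.g := hS.epi_g
  by_cases h : S.f ≫ g = 0
  · have hfac : S.g ≫ hS.exact.desc g h = g := hS.exact.g_desc g h
    have : Epi (hS.exact.desc g h) := epi_of_epi_fac hfac
    exact h₃ (hS.exact.desc g h) inferInstance hZ
  · exact T_image P h₁ (S.f ≫ g) h

lemma T_coprod (J : Type w) : (T P).IsClosedUnderColimitsOfShape (Discrete J) := by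
  refine ⟨?_⟩
  rintro X ⟨h⟩ Z g hg hZ
  have : Epi g := hg
  by_cases hall : ∀ j, h.ι.app j ≫ g = 0
  · exfalso
    apply hZ
    apply IsZero.of_epi_eq_zero g
    apply h.isColimit.hom_ext
    intro j
    simpa using hall j
  · push Not at hall
    obtain ⟨j, hj⟩ := hall
    exact T_image P (h.prop_diag_obj j) _ hj

/-- `Hom(Y, M) = 0` for `Y` in the torsion class. -/
lemma hom_eq_zero {M : C} (hM : ∀ ⦃Y : C⦄, P Y → ∀ f : Y ⟶ M, f = 0) {Y : C} (hY : T P Y)
    (f : Y ⟶ M) : f = 0 := by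
  by_contra hf
  obtain ⟨W, j, hj, hW, hW0⟩ := T_image P hY f hf
  have : Mono j := hj
  exact hW0 (IsZero.of_mono_eq_zero j (hM hW j))

end Basic

section Groth

variable [IsGrothendieckAbelian.{w} C] (P : ObjectProperty C)

/-- A nonzero subobject of an object of `T P` has a nonzero `P`-subobject. -/
lemma T_sub_aux [P.IsClosedUnderSubobjects] {Y Z : C} (hY : T P Y) (z : Z ⟶ Y) [Mono z]
    (hZ : ¬ IsZero Z) : ∃ (W : C) (j : W ⟶ Z), Mono j ∧ P W ∧ ¬ IsZero W := by
  obtain ⟨A, hA, hmax⟩ := exists_maximal.{w} (cokernel.π z)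
  have : Mono (A.arrow ≫ cokernel.π z) := hA
  have hmono : Mono (z ≫ cokernel.π A.arrow) :=
    mono_comp_cokernel z (cokernel.π z) (cokernel.condition z) A.arrow
  have hY₁ : ¬ IsZero (cokernel A.arrow) := by
    intro h
    exact hZ (IsZero.of_mono_eq_zero (z ≫ cokernel.π A.arrow) (h.eq_of_tgt _ _))
  obtain ⟨W, w, hw, hW, hW0⟩ := hY (cokernel.π A.arrow) inferInstance hY₁
  have : Mono w := hw
  have hess := essential z (cokernel.π z) (cokernel.condition z)
    (ShortComplex.exact_cokernel z) A hmax w hW0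
  refine ⟨pullback (z ≫ cokernel.π A.arrow) w, pullback.fst _ _, inferInstance, ?_, hess⟩
  exact P.prop_of_mono (pullback.snd (z ≫ cokernel.π A.arrow) w) hW

lemma T_of_mono [P.IsClosedUnderSubobjects] {Y' Y : C} (m : Y' ⟶ Y) [Mono m] (hY : T P Y) :
    T P Y' := by
  intro Z g hg hZ
  have : Epi g := hg
  let k := kernel.ι g
  let c := cokernel.π (k ≫ m)
  have hkc : k ≫ m ≫ c = 0 := by rw [← assoc, cokernel.condition]
  let z : Z ⟶ cokernel (k ≫ m) := Abelian.epiDesc g (m ≫ c) hkc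
  have hz : g ≫ z = m ≫ c := Abelian.comp_epiDesc g (m ≫ c) hkc
  have hzmono : Mono z := by
    apply Preadditive.mono_of_cancel_zero
    intro X x hx
    obtain ⟨X', π', hπ', x', hx'⟩ := surjective_up_to_refinements_of_epi g x
    have h1 : (x' ≫ m) ≫ c = 0 := by
      rw [assoc, ← hz, ← assoc, ← hx', assoc, hx, comp_zero]
    let y := Abelian.monoLift (k ≫ m) (x' ≫ m) h1
    have hy : y ≫ k ≫ m = x' ≫ m := Abelian.monoLift_comp _ _ _
    have hy' : y ≫ k = x' := by rw [← cancel_mono m, assoc, hy]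
    have h2 : π' ≫ x = 0 := by rw [hx', ← hy', assoc, kernel.condition, comp_zero]
    rw [← cancel_epi π', h2, comp_zero]
  exact T_sub_aux P (T_of_epi P c hY) z hZ

/-- `Ext¹(Y, M) = 0` for `Y` in the torsion class and `M` closed for `P`. -/
lemma isSplitMono_of_T {M : C} (hM : GabLoc.IsClosedFor P M) {N Y : C} (i : M ⟶ N) (p : N ⟶ Y)
    (hip : i ≫ p = 0) (hY : T P Y) (hS : (ShortComplex.mk i p hip).ShortExact) :
    IsSplitMono i := by
  have : Mono i := hS.mono_f
  have : Epi p := hS.epi_g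
  obtain ⟨A, hA, hmax⟩ := exists_maximal.{w} p
  have : Mono (A.arrow ≫ p) := hA
  have hS' := shortExact_quot hS A.arrow
  -- the quotient `Y / A` is zero
  have hzero : IsZero (cokernel (A.arrow ≫ p)) := by
    by_contra hne
    obtain ⟨W, w, hw, hW, hW0⟩ := hY (cokernel.π (A.arrow ≫ p)) inferInstance hne
    have : Mono w := hw
    obtain ⟨N', l, e, hle, hS'', fst', hfst'mono, hlfst⟩ : ∃ (N' : C) (l : M ⟶ N') (e : N' ⟶ W)
        (hle : l ≫ e = 0), (ShortComplex.mk l e hle).ShortExact ∧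
        ∃ (fst' : N' ⟶ cokernel A.arrow), Mono fst' ∧ l ≫ fst' = i ≫ cokernel.π A.arrow :=
      ⟨_, _, _, _, shortExact_pullback hS' w, pullback.fst _ _, inferInstance,
        pullback.lift_fst _ _ _⟩
    have hsplit := hM.2 _ _ _ hW hS''
    let r := retraction l
    have hlr : l ≫ r = 𝟙 M := IsSplitMono.id l
    let ιK := kernel.ι r
    have hK : ¬ IsZero (kernel r) := by
      intro hK0
      have hrmono : Mono r := Preadditive.mono_of_isZero_kernel r hK0
      have hrl : r ≫ l = 𝟙 _ := by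
        rw [← cancel_mono r, assoc, hlr, comp_id, id_comp]
      have hsnd0 : e = 0 := by
        calc e = (r ≫ l) ≫ e := by rw [hrl, id_comp]
          _ = 0 := by rw [assoc, hle, comp_zero]
      have : Epi e := hS''.epi_g
      exact hW0 (IsZero.of_epi_eq_zero _ hsnd0)
    have hess := essential i p hip hS.exact A hmax (ιK ≫ fst') hK
    apply hess
    -- the pullback is zero
    rw [IsZero.iff_id_eq_zero]
    have hcond := pullback.condition (f := i ≫ cokernel.π A.arrow) (g := ιK ≫ fst')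
    have h1 : pullback.fst (i ≫ cokernel.π A.arrow) (ιK ≫ fst') ≫ l =
        pullback.snd (i ≫ cokernel.π A.arrow) (ιK ≫ fst') ≫ ιK := by
      rw [← cancel_mono fst', assoc, hlfst, hcond, assoc]
    have hf0 : pullback.fst (i ≫ cokernel.π A.arrow) (ιK ≫ fst') = 0 := by
      have h2 := congrArg (· ≫ r) h1
      simp only [assoc, hlr, comp_id] at h2
      rw [h2]
      show _ ≫ kernel.ι r ≫ r = 0
      rw [kernel.condition, comp_zero]
    have hs0 : pullback.snd (i ≫ cokernel.π A.arrow) (ιK ≫ fst') = 0 := by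
      rw [← cancel_mono ιK, ← h1, hf0, zero_comp, zero_comp]
    apply pullback.hom_ext
    · rw [id_comp, zero_comp, hf0]
    · rw [id_comp, zero_comp, hs0]
  have hepi : Epi (A.arrow ≫ p) := Preadditive.epi_of_isZero_cokernel _ hzero
  have hiso : IsIso (A.arrow ≫ p) := isIso_of_mono_of_epi _
  let s : Y ⟶ N := inv (A.arrow ≫ p) ≫ A.arrow
  have hs : s ≫ p = 𝟙 Y := by
    show (inv (A.arrow ≫ p) ≫ A.arrow) ≫ p = 𝟙 Y
    rw [assoc, IsIso.inv_hom_id]
  let spl := ShortComplex.Splitting.ofExactOfSection _ hS.exact s hs hS.mono_f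
  exact IsSplitMono.mk' ⟨spl.r, spl.f_r⟩

lemma isLocalizing_T [P.IsClosedUnderSubobjects] [P.IsClosedUnderQuotients] :
    GabLoc.IsLocalizing.{w} (T P) where
  isSerreClass :=
    { toContainsZero := ⟨⟨0, isZero_zero C, T_of_isZero P (isZero_zero C)⟩⟩
      toIsClosedUnderSubobjects := ⟨fun m _ h => T_of_mono.{w} P m h⟩
      toIsClosedUnderQuotients := ⟨fun e _ h => T_of_epi P e h⟩
      toIsClosedUnderExtensions := ⟨fun hS h1 h3 => T_ext P hS h1 h3⟩ }
  isClosedUnderCoproducts := fun J => T_coprod P J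

/-- If `P` is closed under subobjects and quotients, an object closed for `P` is closed for
the localizing closure of `P`. -/
theorem closed_locClosure [P.IsClosedUnderSubobjects] [P.IsClosedUnderQuotients] (M : C)
    (hM : GabLoc.IsClosedFor P M) : GabLoc.IsClosedFor (GabLoc.locClosure.{w} P) M := by
  have hle : GabLoc.locClosure.{w} P ≤ T P :=
    fun X hX => hX (T P) (isLocalizing_T.{w} P) (le_T P)
  exact ⟨fun Y hY f => hom_eq_zero P hM.1 (hle Y hY) f,
    fun N Y i p hip hY hS => isSplitMono_of_T.{w} P hM i p hip (hle Y hY) hS⟩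

end Groth

end Groth.Agent.Lib.Helper9.GabLocT
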