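import Mathlib
import Groth.Agent.Lib.Helper9.Misc.GabLocT

universe w v u
open CategoryTheory CategoryTheory.Limits Category ZeroObject

namespace Groth.Agent.Lib.Helper9.GabLocT

variable {C : Type u} [Category.{v} C] [Abelian C]

section Subquot
variable [HasCoproducts.{w} C] (P : ObjectProperty C)

lemma subquot_of_mono {A' A : C} (m : A' ⟶ A) [Mono m] (hA : GabLoc.subquotCoprod.{w} P A) :
    GabLoc.subquotCoprod.{w} P A' := by
  obtain ⟨J, X, hX, B, i, p, hi, hp⟩ := hA
  have : Mono i := hi
  have : Epi p := hp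
  exact ⟨J, X, hX, pullback p m, pullback.fst p m ≫ i, pullback.snd p m, mono_comp _ _,
    inferInstance⟩

lemma subquot_of_epi {A A' : C} (e : A ⟶ A') [Epi e] (hA : GabLoc.subquotCoprod.{w} P A) :
    GabLoc.subquotCoprod.{w} P A' := by
  obtain ⟨J, X, hX, B, i, p, hi, hp⟩ := hA
  have : Epi p := hp
  exact ⟨J, X, hX, B, i, p ≫ e, hi, epi_comp _ _⟩

lemma subquot_of_isZero {Z : C} (hZ : IsZero Z) : GabLoc.subquotCoprod.{w} P Z :=
  ⟨PEmpty.{w+1}, PEmpty.elim, fun j => j.elim, Z, 0, 𝟙 Z, ⟨fun g h _ => hZ.eq_of_tgt g h⟩,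
    inferInstance⟩

lemma le_subquot : P ≤ GabLoc.subquotCoprod.{w} P := by
  intro A hA
  exact ⟨PUnit.{w+1}, fun _ => A, fun _ => hA, A,
    Sigma.ι (fun _ : PUnit.{w+1} => A) PUnit.unit, 𝟙 A, inferInstance, inferInstance⟩

instance subquot_closedSub : (GabLoc.subquotCoprod.{w} P).IsClosedUnderSubobjects :=
  ⟨fun m _ h => subquot_of_mono P m h⟩

instance subquot_closedQuot : (GabLoc.subquotCoprod.{w} P).IsClosedUnderQuotients :=
  ⟨fun e _ h => subquot_of_epi P e h⟩

end Subquot

section Groth
variable [IsGrothendieckAbelian.{w} C] (P : ObjectProperty C)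

lemma subquot_le {Q : ObjectProperty C} (hQ : GabLoc.IsLocalizing.{w} Q) (hPQ : P ≤ Q) :
    GabLoc.subquotCoprod.{w} P ≤ Q := by
  rintro A ⟨J, X, hX, B, i, p, hi, hp⟩
  have := hQ.isSerreClass
  have := hQ.isClosedUnderCoproducts J
  have : Mono i := hi
  have : Epi p := hp
  have h1 : Q (∐ X) := Q.prop_colimit (Discrete.functor X) (fun ⟨j⟩ => hPQ _ (hX j))
  exact Q.prop_of_epi p (Q.prop_of_mono i h1)

lemma prop_of_isColimit_small {Q : ObjectProperty C} (hQ : GabLoc.IsLocalizing.{w} Q)
    {K : Type w} [SmallCategory K] {G : K ⥤ C} {c : Cocone G} (hc : IsColimit c)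
    (hG : ∀ k, Q (G.obj k)) : Q c.pt := by
  have := hQ.isSerreClass
  have := hQ.isClosedUnderCoproducts K
  have h1 : Q (∐ G.obj) := Q.prop_colimit (Discrete.functor G.obj) (fun ⟨k⟩ => hG k)
  have : Epi (Sigma.desc (fun k => c.ι.app k)) := by
    constructor
    intro Z g h hgh
    apply hc.hom_ext
    intro k
    have := congrArg (fun t => Sigma.ι G.obj k ≫ t) hgh
    simpa using this
  exact Q.prop_of_epi (Sigma.desc (fun k => c.ι.app k)) h1

theorem of_transfinite (X : C)
    (h : MorphismProperty.transfiniteCompositions.{w} (GabLoc.monoModSubquot.{w} P)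
      (0 : (0 : C) ⟶ X)) :
    GabLoc.locClosure.{w} P X := by
  intro Q hQ hPQ
  rw [MorphismProperty.transfiniteCompositions_iff] at h
  obtain ⟨J, _, _, _, _, ⟨h⟩⟩ := h
  have := hQ.isSerreClass
  have hS := subquot_le P hQ hPQ
  have key : ∀ j : J, Q (h.F.obj j) := by
    intro j
    induction j using WellFoundedLT.induction with
    | ind j ih =>
      by_cases hj : Order.IsSuccLimit j
      · have hc := h.F.isColimitOfIsWellOrderContinuous j hj
        exact prop_of_isColimit_small hQ hc (fun k => ih k.1 k.2)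
      · rw [Order.not_isSuccLimit_iff] at hj
        rcases hj with hmin | hnot
        · have hjb : j = ⊥ := hmin.eq_bot
          subst hjb
          exact Q.prop_of_iso h.isoBot.symm Q.prop_zero
        · rw [Order.not_isSuccPrelimit_iff_succ_eq] at hnot
          obtain ⟨i, hi, rfl⟩ := hnot
          obtain ⟨hm1, hm2⟩ := h.map_mem i hi
          have : Mono (h.F.map (homOfLE (Order.le_succ i))) := hm1
          have hse : (ShortComplex.mk _ _
              (cokernel.condition (h.F.map (homOfLE (Order.le_succ i))))).ShortExact :=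
            ShortComplex.ShortExact.mk' (ShortComplex.exact_cokernel _) inferInstance inferInstance
          exact Q.prop_X₂_of_shortExact hse (ih i (Order.lt_succ_of_not_isMax hi)) (hS _ hm2)
  exact prop_of_isColimit_small hQ h.isColimit key

omit [IsGrothendieckAbelian.{w} C] in
lemma S_cokernel_congr {X : C} (S : ObjectProperty C) {A B B' : Subobject X} (e : B = B')
    (h : A ≤ B) (h' : A ≤ B') (hS : S (cokernel (A.ofLE B h))) :
    S (cokernel (A.ofLE B' h')) := by
  subst e; exact hS

lemma exists_succ {X : C} (hX : T (GabLoc.subquotCoprod.{w} P) X) (A : Subobject X) :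
    ∃ (B : Subobject X) (h : A ≤ B),
      GabLoc.subquotCoprod.{w} P (cokernel (A.ofLE B h)) ∧ (A ≠ ⊤ → A ≠ B) := by
  by_cases hA : A = ⊤
  · refine ⟨A, le_rfl, ?_, fun h => absurd hA h⟩
    apply subquot_of_isZero
    rw [Subobject.ofLE_refl]
    exact isZero_cokernel_of_epi (𝟙 _)
  · let π := cokernel.π A.arrow
    have hne : ¬ IsZero (cokernel A.arrow) := by
      intro hz
      have : Epi A.arrow := Preadditive.epi_of_isZero_cokernel _ hz
      have : IsIso A.arrow := isIso_of_mono_of_epi _
      exact hA (Subobject.eq_top_of_isIso_arrow A)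
    obtain ⟨W, j, hj, hW, hW0⟩ := hX π inferInstance hne
    have : Mono j := hj
    let b : pullback π j ⟶ X := pullback.fst π j
    have hcond : A.arrow ≫ π = 0 ≫ j := by rw [zero_comp]; exact cokernel.condition _
    have hAB : A ≤ Subobject.mk b :=
      Subobject.le_mk_of_comm (pullback.lift A.arrow 0 hcond) (pullback.lift_fst _ _ _)
    have hS0 : (ShortComplex.mk A.arrow π (cokernel.condition _)).ShortExact :=
      ShortComplex.ShortExact.mk' (ShortComplex.exact_cokernel _) inferInstance inferInstance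
    have hS1 := shortExact_pullback hS0 j
    refine ⟨Subobject.mk b, hAB, ?_, ?_⟩
    · let u := Subobject.underlyingIso b
      have hu : A.ofLE (Subobject.mk b) hAB ≫ u.hom = pullback.lift A.arrow 0 hcond := by
        rw [← cancel_mono b, assoc, Subobject.underlyingIso_hom_comp_eq_mk,
          Subobject.ofLE_arrow, pullback.lift_fst]
      have h0 : pullback.lift A.arrow 0 hcond ≫
          (u.inv ≫ cokernel.π (A.ofLE (Subobject.mk b) hAB)) = 0 := by
        rw [← hu, assoc, Iso.hom_inv_id_assoc, cokernel.condition]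
      let d := hS1.exact.desc (u.inv ≫ cokernel.π (A.ofLE (Subobject.mk b) hAB)) h0
      have hd : pullback.snd π j ≫ d = u.inv ≫ cokernel.π (A.ofLE (Subobject.mk b) hAB) :=
        hS1.exact.g_desc _ _
      have : Epi (pullback.snd π j ≫ d) := by rw [hd]; infer_instance
      have : Epi d := epi_of_epi (pullback.snd π j) d
      exact subquot_of_epi P d hW
    · intro _ hAB'
      have h0 : ∀ B : Subobject X, B = A → B.arrow ≫ π = 0 := by
        rintro _ rfl
        exact cokernel.condition _
      have hbq : b ≫ π = 0 := by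
        have h1 := h0 _ hAB'.symm
        rw [← Subobject.underlyingIso_arrow b, assoc, h1, comp_zero]
      have hsnd : pullback.snd π j = 0 := by
        rw [← cancel_mono j, zero_comp, ← pullback.condition]
        exact hbq
      have : Epi (pullback.snd π j) := inferInstance
      exact hW0 (IsZero.of_epi_eq_zero _ hsnd)

section Iter
variable {X : C} {J : Type w} [LinearOrder J] [SuccOrder J] [OrderBot J] [WellFoundedLT J]
  (σ : Subobject X → Subobject X)

/-- transfinite iteration: `G j = ⨆ i < j, σ (G i)` -/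
noncomputable def G : J → Subobject X :=
  WellFounded.fix (r := (· < ·)) wellFounded_lt (fun j ih => ⨆ i : Set.Iio j, σ (ih i.1 i.2))

lemma G_eq (j : J) : G σ j = ⨆ i : Set.Iio j, σ (G σ i.1) :=
  WellFounded.fix_eq _ _ _

lemma G_mono : Monotone (G (J := J) σ) := by
  intro j j' h
  rw [G_eq, G_eq]
  apply iSup_le
  intro i
  exact le_iSup (fun i : Set.Iio j' => σ (G σ i.1)) ⟨i.1, lt_of_lt_of_le i.2 h⟩

lemma G_bot : G σ (⊥ : J) = ⊥ := by
  rw [G_eq]
  apply eq_bot_iff.mpr
  apply iSup_le
  rintro ⟨i, hi⟩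
  exact absurd hi not_lt_bot

lemma σ_le_G {i j : J} (h : i < j) : σ (G σ i) ≤ G σ j := by
  rw [G_eq σ j]
  exact le_iSup (fun i : Set.Iio j => σ (G σ i.1)) ⟨i, h⟩

lemma G_succ (hσ : ∀ A, A ≤ σ A) (j : J) (hj : ¬ IsMax j) :
    G σ (Order.succ j) = σ (G σ j) := by
  apply le_antisymm
  · rw [G_eq σ (Order.succ j)]
    apply iSup_le
    rintro ⟨i, hi⟩
    have hij : i ≤ j := (Order.lt_succ_iff_of_not_isMax hj).mp hi
    rcases hij.lt_or_eq with h | rfl
    · exact (σ_le_G σ h).trans (hσ _)
    · exact le_rfl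
  · exact σ_le_G σ (Order.lt_succ_of_not_isMax hj)

lemma G_limit (hσ : ∀ A, A ≤ σ A) (j : J) (hj : Order.IsSuccLimit j) :
    G σ j = ⨆ i : Set.Iio j, G σ i.1 := by
  apply le_antisymm
  · rw [G_eq σ j]
    apply iSup_le
    rintro ⟨i, hi⟩
    have h1 : Order.succ i < j := hj.succ_lt hi
    exact (σ_le_G σ (Order.lt_succ_of_not_isMax (not_isMax_of_lt hi))).trans
      (le_iSup (fun i : Set.Iio j => G σ i.1) ⟨Order.succ i, h1⟩)
  · apply iSup_le
    rintro ⟨i, hi⟩
    exact G_mono σ hi.le

/-- the functor to `MonoOver X` attached to a monotone family of subobjects -/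
noncomputable def Fm (A : J → Subobject X) (hA : Monotone A) : J ⥤ MonoOver X where
  obj j := MonoOver.mk (A j).arrow
  map {j j'} h := MonoOver.homMk (Subobject.ofLE _ _ (hA (leOfHom h))) (by simp)
  map_id _ := Subsingleton.elim _ _
  map_comp _ _ := Subsingleton.elim _ _

theorem exists_tc (W : MorphismProperty C)
    (A : J → Subobject X) (hA : Monotone A) (hbot : A ⊥ = ⊥)
    (hlim : ∀ j, Order.IsSuccLimit j → A j = ⨆ i : Set.Iio j, A i.1)
    (htop : ⨆ j, A j = ⊤)
    (hstep : ∀ j (_ : ¬ IsMax j), W ((A j).ofLE (A (Order.succ j)) (hA (Order.le_succ j)))) :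
    Nonempty (W.TransfiniteCompositionOfShape J (0 : (0 : C) ⟶ X)) := by
  have hz : IsZero ((A ⊥ : Subobject X) : C) := by
    rw [hbot]
    exact IsZero.of_iso (isZero_zero C) Subobject.botCoeIsoZero
  have : Nonempty J := ⟨⊥⟩
  let F : J ⥤ C := Fm A hA ⋙ MonoOver.forget X ⋙ Over.forget X
  let incl : F ⟶ (Functor.const J).obj X :=
    { app := fun j => (A j).arrow
      naturality := fun j j' h => by
        show (A j).ofLE (A j') (hA (leOfHom h)) ≫ (A j').arrow = (A j).arrow ≫ 𝟙 X
        rw [comp_id]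
        exact Subobject.ofLE_arrow _ }
  have hcont : F.IsWellOrderContinuous := ⟨fun m hm => ⟨by
    have : Nonempty (Set.Iio m) := ⟨⟨⊥, hm.bot_lt⟩⟩
    let c' : Cocone (((Set.principalSegIio m).monotone.functor ⋙ Fm A hA) ⋙ MonoOver.forget X) :=
      (Set.principalSegIio m).cocone (Fm A hA ⋙ MonoOver.forget X)
    have : Mono c'.pt.hom := by
      show Mono (A m).arrow
      infer_instance
    have hsup : Subobject.mk c'.pt.hom =
        ⨆ i, Subobject.mk ((((Set.principalSegIio m).monotone.functor ⋙ Fm A hA)).obj i).obj.hom := by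
      show Subobject.mk (A m).arrow = ⨆ i : Set.Iio m, Subobject.mk (A i.1).arrow
      simp only [Subobject.mk_arrow]
      exact hlim m hm
    exact IsGrothendieckAbelian.isColimitMapCoconeOfSubobjectMkEqISup _ c' hsup⟩⟩
  have hcol : IsColimit (Cocone.mk X incl) := by
    let c'' : Cocone (Fm A hA ⋙ MonoOver.forget X) :=
      { pt := Over.mk (𝟙 X)
        ι :=
          { app := fun j => Over.homMk (A j).arrow (comp_id _)
            naturality := fun j j' h => by
              apply Over.OverMorphism.ext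
              show (A j).ofLE (A j') (hA (leOfHom h)) ≫ (A j').arrow = (A j).arrow ≫ 𝟙 X
              rw [comp_id]
              exact Subobject.ofLE_arrow _ } }
    have : Mono c''.pt.hom := by
      show Mono (𝟙 X)
      infer_instance
    have hsup : Subobject.mk c''.pt.hom = ⨆ j, Subobject.mk ((Fm A hA).obj j).obj.hom := by
      show Subobject.mk (𝟙 X) = ⨆ j : J, Subobject.mk (A j).arrow
      simp only [Subobject.mk_arrow]
      rw [htop, Subobject.top_eq_id]
    exact IsGrothendieckAbelian.isColimitMapCoconeOfSubobjectMkEqISup _ c'' hsup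
  exact ⟨{ F := F, isoBot := hz.isoZero, isWellOrderContinuous := hcont, incl := incl,
           isColimit := hcol, fac := (isZero_zero C).eq_of_src _ _,
           map_mem := fun j hj => hstep j hj }⟩

end Iter

theorem to_transfinite_aux (X : C) (hT : T (GabLoc.subquotCoprod.{w} P) X)
    (J : Type w) [LinearOrder J] [SuccOrder J] [OrderBot J] [WellFoundedLT J]
    (hcard : Cardinal.mk (Shrink.{w} (Subobject X)) < Cardinal.mk J) :
    (GabLoc.monoModSubquot.{w} P).transfiniteCompositionsOfShape J (0 : (0 : C) ⟶ X) := by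
  choose σ hσ hσS hσne using exists_succ P hT
  apply exists_tc (GabLoc.monoModSubquot.{w} P) (G σ) (G_mono σ) (G_bot σ) (G_limit σ hσ)
  · by_contra hne
    have hall : ∀ j : J, G σ j ≠ ⊤ := fun j hj =>
      hne (top_le_iff.mp (hj ▸ le_iSup (G (J := J) σ) j))
    have hstrict : StrictMono (G (J := J) σ) := by
      intro i j hij
      calc G σ i < σ (G σ i) := lt_of_le_of_ne (hσ _) (hσne _ (hall i))
        _ ≤ G σ j := σ_le_G σ hij
    have hinj : Function.Injective (fun j : J => equivShrink.{w} (Subobject X) (G σ j)) :=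
      (equivShrink _).injective.comp hstrict.injective
    have := Cardinal.mk_le_of_injective hinj
    exact absurd this (not_le.mpr hcard)
  · intro j hj
    refine ⟨inferInstance, ?_⟩
    exact S_cokernel_congr _ (G_succ σ hσ j hj).symm (hσ _) _ (hσS _)

theorem to_transfinite (X : C) (hX : GabLoc.locClosure.{w} P X) :
    MorphismProperty.transfiniteCompositions.{w} (GabLoc.monoModSubquot.{w} P)
      (0 : (0 : C) ⟶ X) := by
  have hT : T (GabLoc.subquotCoprod.{w} P) X :=
    hX _ (isLocalizing_T.{w} (GabLoc.subquotCoprod.{w} P)) ((le_subquot P).trans (le_T _))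
  let κ : Cardinal.{w} := Cardinal.mk (Shrink.{w} (Subobject X))
  have hcard : Cardinal.mk (Order.succ κ).ord.ToType = Order.succ κ := Cardinal.mk_ord_toType _
  haveI hne : Nonempty (Order.succ κ).ord.ToType := by
    rw [← Cardinal.mk_ne_zero_iff, hcard]
    exact (lt_of_le_of_lt zero_le (Order.lt_succ κ)).ne'
  letI : OrderBot (Order.succ κ).ord.ToType := WellFoundedLT.toOrderBot _
  exact MorphismProperty.transfiniteCompositionsOfShape_le_transfiniteCompositions _
    (Order.succ κ).ord.ToType _
    (to_transfinite_aux P X hT _ (by rw [hcard]; exact Order.lt_succ κ))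

theorem main (X : C) :
    GabLoc.locClosure.{w} P X ↔
      MorphismProperty.transfiniteCompositions.{w} (GabLoc.monoModSubquot.{w} P)
        (0 : (0 : C) ⟶ X) :=
  ⟨to_transfinite P X, of_transfinite P X⟩

end Groth

end Groth.Agent.Lib.Helper9.GabLocT
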