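import Mathlib
import Groth.Agent.Lib.Helper9.Misc.GabLocChase

universe w v u
open CategoryTheory CategoryTheory.Limits Category

namespace Groth.Agent.Lib.Helper9.GabLocT

variable {C : Type u} [Category.{v} C] [Abelian C]

section Unif

variable [IsGrothendieckAbelian.{w} C]

/-- Zorn: maximal subobject `A ≥ A₀` of `N` with `A ⟶ N ⟶ Q` mono. -/
lemma exists_maximal_ge {N Q : C} (π : N ⟶ Q) (A₀ : Subobject N) (h₀ : Mono (A₀.arrow ≫ π)) :
    ∃ A : Subobject N, A₀ ≤ A ∧ Mono (A.arrow ≫ π) ∧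
      ∀ A' : Subobject N, A ≤ A' → Mono (A'.arrow ≫ π) → A' = A := by
  let S : Set (Subobject N) := {A | Mono (A.arrow ≫ π)}
  have hbot : A₀ ∈ S := h₀
  obtain ⟨A, hA0, hA⟩ := zorn_le_nonempty₀ S (fun c hcS hc y hy => by
    have : Small.{w} (Subobject N) := inferInstance
    have : Small.{w} c := small_subtype (Subobject N) (· ∈ c)
    let J := Shrink.{w} c
    let eJ : c ≃ J := equivShrink c
    let fJ : J → Subobject N := fun j => ((eJ.symm j : c) : Subobject N)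
    let _ : Preorder J := Preorder.lift fJ
    have hdir : IsDirected J (· ≤ ·) := ⟨fun j j' => by
      rcases hc.total (eJ.symm j).2 (eJ.symm j').2 with h | h
      · exact ⟨j', h, le_rfl⟩
      · exact ⟨j, le_rfl, h⟩⟩
    have hne : Nonempty J := ⟨eJ ⟨y, hy⟩⟩
    obtain ⟨B, hB1, hB2⟩ := mono_of_directed π fJ (fun _ _ h => h)
      (fun j => hcS (eJ.symm j).2)
    refine ⟨B, hB2, fun z hz => ?_⟩
    have := hB1 (eJ ⟨z, hz⟩)
    simpa [fJ] using this) A₀ hbot
  refine ⟨A, hA0, hA.prop, fun A' hle hA' => ?_⟩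
  exact le_antisymm (hA.le_of_ge hA' hle) hle

omit [IsGrothendieckAbelian.{w} C] in
/-- If `m : A ⟶ Q` is essential and `m ≫ u` is mono then `u` is mono. -/
lemma mono_of_essential {A Q Z : C} (m : A ⟶ Q)
    (hess : ∀ {W : C} (w : W ⟶ Q) [Mono w], ¬ IsZero W → ¬ IsZero (pullback m w))
    (u : Q ⟶ Z) [Mono (m ≫ u)] : Mono u := by
  by_contra hu
  have hK : ¬ IsZero (kernel u) := fun h => hu (Preadditive.mono_of_isZero_kernel u h)
  apply hess (kernel.ι u) hK
  have h1 : pullback.fst m (kernel.ι u) ≫ m ≫ u = 0 := by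
    rw [← assoc, pullback.condition, assoc, kernel.condition, comp_zero]
  have h2 : pullback.fst m (kernel.ι u) = 0 := by
    rw [← cancel_mono (m ≫ u), h1, zero_comp]
  exact IsZero.of_mono_eq_zero _ h2

/-- An indecomposable injective object is uniform: two nonzero subobjects meet nontrivially. -/
theorem uniform (E : C) [Injective E]
    (hind : ∀ (A B : C), Nonempty (E ≅ A ⊞ B) → IsZero A ∨ IsZero B)
    {A₁ A₂ : C} (a₁ : A₁ ⟶ E) (a₂ : A₂ ⟶ E) [Mono a₁] [Mono a₂]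
    (hA₁ : ¬ IsZero A₁) (hA₂ : ¬ IsZero A₂) : ¬ IsZero (pullback a₁ a₂) := by
  intro hP
  let π₁ := cokernel.π a₁
  -- `A₂ ∩ A₁ = 0`
  have hmono2 : Mono (a₂ ≫ π₁) := by
    apply Preadditive.mono_of_cancel_zero
    intro X x hx
    let y := Abelian.monoLift a₁ (x ≫ a₂) (by rw [assoc]; exact hx)
    have hy : y ≫ a₁ = x ≫ a₂ := Abelian.monoLift_comp _ _ _
    have hl : pullback.lift y x hy = 0 := hP.eq_of_tgt _ _
    rw [← pullback.lift_snd y x hy, hl, zero_comp]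
  have hmono2' : Mono ((Subobject.mk a₂).arrow ≫ π₁) := by
    have h1 : (Subobject.mk a₂).arrow ≫ π₁ = (Subobject.underlyingIso a₂).hom ≫ (a₂ ≫ π₁) := by
      simp
    rw [h1]
    infer_instance
  obtain ⟨B, hB0, hBmono, hBmax⟩ := exists_maximal_ge.{w} π₁ (Subobject.mk a₂) hmono2'
  have : Mono (B.arrow ≫ π₁) := hBmono
  let π₂ := cokernel.π B.arrow
  have hmono1 : Mono (a₁ ≫ π₂) :=
    mono_comp_cokernel a₁ π₁ (cokernel.condition a₁) B.arrow
  have hmono1' : Mono ((Subobject.mk a₁).arrow ≫ π₂) := by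
    have h1 : (Subobject.mk a₁).arrow ≫ π₂ = (Subobject.underlyingIso a₁).hom ≫ (a₁ ≫ π₂) := by
      simp
    rw [h1]
    infer_instance
  obtain ⟨Cm, hC0, hCmono, hCmax⟩ := exists_maximal_ge.{w} π₂ (Subobject.mk a₁) hmono1'
  have : Mono (Cm.arrow ≫ π₂) := hCmono
  -- essentiality of `A₁ ⟶ E/B`
  have hess : ∀ {W : C} (w : W ⟶ cokernel B.arrow) [Mono w], ¬ IsZero W →
      ¬ IsZero (pullback (a₁ ≫ π₂) w) := fun {W} w _ hW =>
    essential a₁ π₁ (cokernel.condition a₁) (ShortComplex.exact_cokernel a₁) B hBmax w hW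
  -- the extension `g`
  let g : cokernel B.arrow ⟶ E := Injective.factorThru Cm.arrow (Cm.arrow ≫ π₂)
  have hg : (Cm.arrow ≫ π₂) ≫ g = Cm.arrow := Injective.comp_factorThru _ _
  let ι₁ : A₁ ⟶ (Cm : C) := Subobject.ofMkLE a₁ Cm hC0
  have hι₁ : ι₁ ≫ Cm.arrow = a₁ := Subobject.ofMkLE_arrow _
  have hkey : (a₁ ≫ π₂) ≫ g = a₁ := by
    rw [← hι₁, assoc, assoc, ← assoc Cm.arrow, hg]
  have hgmono : Mono g := by
    haveI : Mono ((a₁ ≫ π₂) ≫ g) := by rw [hkey]; infer_instance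
    exact mono_of_essential (a₁ ≫ π₂) hess g
  have hgπmono : Mono (g ≫ π₂) := by
    haveI : Mono ((a₁ ≫ π₂) ≫ g ≫ π₂) := by
      rw [← assoc, hkey]; infer_instance
    exact mono_of_essential (a₁ ≫ π₂) hess (g ≫ π₂)
  -- `image g = Cm`
  have hCG : Cm ≤ Subobject.mk g := Subobject.le_mk_of_comm (Cm.arrow ≫ π₂) hg
  have hGmono : Mono ((Subobject.mk g).arrow ≫ π₂) := by
    have h1 : (Subobject.mk g).arrow ≫ π₂ = (Subobject.underlyingIso g).hom ≫ (g ≫ π₂) := by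
      simp
    rw [h1]
    infer_instance
  have hGC : Subobject.mk g = Cm := hCmax _ hCG hGmono
  let g' : cokernel B.arrow ⟶ (Cm : C) := Subobject.ofMkLE g Cm (le_of_eq hGC)
  have hg' : g' ≫ Cm.arrow = g := Subobject.ofMkLE_arrow _
  have hg'mono : Mono g' := mono_of_mono_fac hg'
  have h1 : (Cm.arrow ≫ π₂) ≫ g' = 𝟙 _ := by
    rw [← cancel_mono Cm.arrow, assoc, hg', hg, id_comp]
  have h2 : g' ≫ (Cm.arrow ≫ π₂) = 𝟙 _ := by
    rw [← cancel_mono g', assoc, h1, comp_id, id_comp]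
  have hsec : g ≫ π₂ = 𝟙 _ := by
    rw [← hg', assoc, h2]
  -- splitting
  let S : ShortComplex C := ShortComplex.mk B.arrow π₂ (cokernel.condition _)
  have hS : S.Exact := ShortComplex.exact_cokernel B.arrow
  let spl : S.Splitting := ShortComplex.Splitting.ofExactOfSection S hS g hsec
    (inferInstanceAs (Mono B.arrow))
  rcases hind _ _ ⟨spl.isoBinaryBiproduct⟩ with hB | hQ
  · -- `B` contains `A₂`
    have hι₂ : Subobject.ofMkLE a₂ B hB0 ≫ B.arrow = a₂ := Subobject.ofMkLE_arrow _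
    haveI : Mono (Subobject.ofMkLE a₂ B hB0) := mono_of_mono_fac hι₂
    exact hA₂ (IsZero.of_mono (Subobject.ofMkLE a₂ B hB0) hB)
  · exact hA₁ (IsZero.of_mono (a₁ ≫ π₂) hQ)

end Unif

end Groth.Agent.Lib.Helper9.GabLocT
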