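import Mathlib

/-! Helper9: surjectivity of the weighted Gaussian map on projective space (S16152). -/

namespace Groth.Agent.H9.Gauss

open MvPolynomial

universe u
variable {k : Type u} [Field k] {n : ℕ}

/-- the span of the Gaussian brackets -/
noncomputable def VV (k : Type u) [Field k] (n e a b : ℕ) :
    Submodule k (Fin (n+1) → MvPolynomial (Fin (n+1)) k) :=
  Submodule.span k {g | ∃ σ τ : MvPolynomial (Fin (n + 1)) k, σ.IsHomogeneous (a * e) ∧
    τ.IsHomogeneous (b * e) ∧
      g = fun i => (b : k) • (τ * pderiv i σ) - (a : k) • (σ * pderiv i τ)}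

theorem T1 (b : k) (α β : Fin (n+1) →₀ ℕ) (l : Fin (n+1)) :
    b • (monomial β (1:k) * pderiv l (monomial α (1:k)))
      = monomial (α + β - Finsupp.single l 1) (b * (α l : k)) := by
  rw [pderiv_monomial, monomial_mul, smul_monomial]
  by_cases h : α l = 0
  · simp [h]
  · have : β + (α - Finsupp.single l 1) = α + β - Finsupp.single l 1 := by
      ext m
      by_cases hm : m = l
      · subst hm
        simp only [Finsupp.coe_add, Finsupp.coe_tsub, Pi.add_apply, Pi.sub_apply,
          Finsupp.single_eq_same]
        omega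
      · simp only [Finsupp.coe_add, Finsupp.coe_tsub, Pi.add_apply, Pi.sub_apply,
          Finsupp.single_eq_of_ne hm]
        omega
    rw [this]
    simp

theorem g_mono (a b : k) (α β : Fin (n+1) →₀ ℕ) (l : Fin (n+1)) :
    b • (monomial β (1:k) * pderiv l (monomial α (1:k)))
      - a • (monomial α (1:k) * pderiv l (monomial β (1:k)))
      = monomial (α + β - Finsupp.single l 1) (b * (α l : k) - a * (β l : k)) := by
  rw [T1, T1, add_comm β α, ← map_sub]

theorem exists_split (s t : ℕ) (ν : Fin (n+1) →₀ ℕ) (h : ν.degree = s + t) :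
    ∃ α δ : Fin (n+1) →₀ ℕ, α + δ = ν ∧ α.degree = s ∧ δ.degree = t := by
  induction s generalizing t with
  | zero => exact ⟨0, ν, by simp, by simp, by simpa using h⟩
  | succ s ih =>
    obtain ⟨α, δ, h1, h2, h3⟩ := ih (t + 1) (by omega)
    have hδ : δ ≠ 0 := by
      intro h0
      rw [h0] at h3
      simp at h3
    obtain ⟨l, hl⟩ : ∃ l, δ l ≠ 0 := by
      by_contra hcon
      push Not at hcon
      exact hδ (Finsupp.ext hcon)
    have hδ' : δ = (δ - Finsupp.single l 1) + Finsupp.single l 1 := by
      ext m
      by_cases hm : m = l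
      · subst hm
        simp only [Finsupp.coe_add, Finsupp.coe_tsub, Pi.add_apply, Pi.sub_apply,
          Finsupp.single_eq_same]
        omega
      · simp [Finsupp.single_eq_of_ne hm]
    refine ⟨α + Finsupp.single l 1, δ - Finsupp.single l 1, ?_, ?_, ?_⟩
    · rw [← h1]
      conv_rhs => rw [hδ']
      rw [add_assoc, add_comm (Finsupp.single l 1)]
    · rw [map_add, h2, Finsupp.degree_single]
    · have := congrArg Finsupp.degree hδ'
      rw [map_add, Finsupp.degree_single, h3] at this
      omega

variable [CharZero k]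

theorem E_mem (e a b : ℕ) (hab : 0 < a + b) (α0 δ : Fin (n+1) →₀ ℕ) (i j : Fin (n+1)) (hij : i ≠ j)
    (hα : α0.degree + 1 = a * e) (hδ : δ.degree + 1 = b * e) :
    (Pi.single i (monomial (α0 + δ + Finsupp.single j 1) (1:k))
      - Pi.single j (monomial (α0 + δ + Finsupp.single i 1) (1:k)) :
      Fin (n+1) → MvPolynomial (Fin (n+1)) k) ∈ VV k n e a b := by
  classical
  have hg : ∀ α β : Fin (n+1) →₀ ℕ, α.degree = a * e → β.degree = b * e →
      (fun l => (b : k) • (monomial β (1:k) * pderiv l (monomial α (1:k)))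
        - (a : k) • (monomial α (1:k) * pderiv l (monomial β (1:k)))) ∈ VV k n e a b := by
    intro α β h1 h2
    exact Submodule.subset_span ⟨monomial α 1, monomial β 1,
      isHomogeneous_monomial _ h1, isHomogeneous_monomial _ h2, rfl⟩
  have h1 := hg (α0 + Finsupp.single i 1) (δ + Finsupp.single j 1)
    (by rw [map_add, Finsupp.degree_single, hα]) (by rw [map_add, Finsupp.degree_single, hδ])
  have h2 := hg (α0 + Finsupp.single j 1) (δ + Finsupp.single i 1)
    (by rw [map_add, Finsupp.degree_single, hα]) (by rw [map_add, Finsupp.degree_single, hδ])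
  have hne : ((a + b : ℕ) : k) ≠ 0 := Nat.cast_ne_zero.2 (by omega)
  have key : (Pi.single i (monomial (α0 + δ + Finsupp.single j 1) (1:k))
      - Pi.single j (monomial (α0 + δ + Finsupp.single i 1) (1:k)) :
      Fin (n+1) → MvPolynomial (Fin (n+1)) k)
      = (((a + b : ℕ) : k))⁻¹ • ((fun l => (b : k) • (monomial (δ + Finsupp.single j 1) (1:k)
            * pderiv l (monomial (α0 + Finsupp.single i 1) (1:k)))
        - (a : k) • (monomial (α0 + Finsupp.single i 1) (1:k)
            * pderiv l (monomial (δ + Finsupp.single j 1) (1:k))))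
        - (fun l => (b : k) • (monomial (δ + Finsupp.single i 1) (1:k)
            * pderiv l (monomial (α0 + Finsupp.single j 1) (1:k)))
        - (a : k) • (monomial (α0 + Finsupp.single j 1) (1:k)
            * pderiv l (monomial (δ + Finsupp.single i 1) (1:k))))) := by
    rw [eq_inv_smul_iff₀ hne]
    funext l
    simp only [Pi.smul_apply, Pi.sub_apply, g_mono]
    have hγ : α0 + Finsupp.single j 1 + (δ + Finsupp.single i 1)
        = α0 + Finsupp.single i 1 + (δ + Finsupp.single j 1) := by abel
    rw [hγ, ← map_sub]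
    by_cases hli : l = i
    · subst hli
      have hlj : l ≠ j := hij
      rw [Pi.single_eq_same, Pi.single_eq_of_ne hlj, sub_zero, smul_monomial]
      have : α0 + Finsupp.single l 1 + (δ + Finsupp.single j 1) - Finsupp.single l 1
          = α0 + δ + Finsupp.single j 1 := by
        have : α0 + Finsupp.single l 1 + (δ + Finsupp.single j 1)
            = (α0 + δ + Finsupp.single j 1) + Finsupp.single l 1 := by abel
        rw [this, add_tsub_cancel_right]
      rw [this]
      congr 1
      simp only [Finsupp.coe_add, Pi.add_apply, Finsupp.single_eq_same,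
        Finsupp.single_eq_of_ne hlj, smul_eq_mul]
      push_cast
      ring
    · by_cases hlj : l = j
      · subst hlj
        rw [Pi.single_eq_same, Pi.single_eq_of_ne hli, zero_sub, smul_neg, smul_monomial,
          ← map_neg]
        have : α0 + Finsupp.single i 1 + (δ + Finsupp.single l 1) - Finsupp.single l 1
            = α0 + δ + Finsupp.single i 1 := by
          have : α0 + Finsupp.single i 1 + (δ + Finsupp.single l 1)
              = (α0 + δ + Finsupp.single i 1) + Finsupp.single l 1 := by abel
          rw [this, add_tsub_cancel_right]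
        rw [this]
        congr 1
        simp only [Finsupp.coe_add, Pi.add_apply, Finsupp.single_eq_same,
          Finsupp.single_eq_of_ne hli, smul_eq_mul]
        push_cast
        ring
      · rw [Pi.single_eq_of_ne hli, Pi.single_eq_of_ne hlj, sub_zero, smul_zero]
        simp only [Finsupp.coe_add, Pi.add_apply, 
          Finsupp.single_eq_of_ne hli, Finsupp.single_eq_of_ne hlj]
        simp
  rw [key]
  exact Submodule.smul_mem _ _ (Submodule.sub_mem _ h1 h2)


/-- class representative for multidegree `γ` -/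
noncomputable def Theta (e a b : ℕ) (γ : Fin (n+1) →₀ ℕ) :
    (Fin (n+1) → MvPolynomial (Fin (n+1)) k) ⧸ VV k n e a b := by
  classical
  exact if h : γ = 0 then 0 else
    Submodule.Quotient.mk (Pi.single (Finsupp.support_nonempty_iff.2 h).choose
      (monomial (γ - Finsupp.single (Finsupp.support_nonempty_iff.2 h).choose 1) (1:k)))

theorem mk_single (e a b : ℕ) (he : 0 < e) (ha : 0 < a) (hb : 0 < b)
    (i : Fin (n+1)) (μ : Fin (n+1) →₀ ℕ) (hμ : μ.degree = (a + b) * e - 1) :
    (Submodule.Quotient.mk (Pi.single i (monomial μ (1:k))) :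
      (Fin (n+1) → MvPolynomial (Fin (n+1)) k) ⧸ VV k n e a b)
      = Theta e a b (μ + Finsupp.single i 1) := by
  classical
  have hγ : μ + Finsupp.single i 1 ≠ 0 := by
    intro h
    have := congrArg (fun f => f i) h
    simp at this
  unfold Theta
  rw [dif_neg hγ]
  set i0 := (Finsupp.support_nonempty_iff.2 hγ).choose with hi0
  have hi0mem : i0 ∈ (μ + Finsupp.single i 1).support := (Finsupp.support_nonempty_iff.2 hγ).choose_spec
  by_cases hii : i0 = i
  · rw [hii, add_tsub_cancel_right]
  · have hμi0 : μ i0 ≠ 0 := by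
      rw [Finsupp.mem_support_iff] at hi0mem
      simpa [Finsupp.single_eq_of_ne hii] using hi0mem
    -- split
    have hae : 1 ≤ a * e := Nat.mul_pos ha he
    have hbe : 1 ≤ b * e := Nat.mul_pos hb he
    have hμ' : μ = (μ - Finsupp.single i0 1) + Finsupp.single i0 1 := by
      ext m
      by_cases hm : m = i0
      · subst hm
        simp only [Finsupp.coe_add, Finsupp.coe_tsub, Pi.add_apply, Pi.sub_apply,
          Finsupp.single_eq_same]
        omega
      · simp [Finsupp.single_eq_of_ne hm]
    have hdeg : (μ - Finsupp.single i0 1).degree = (a * e - 1) + (b * e - 1) := by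
      have := congrArg Finsupp.degree hμ'
      rw [map_add, Finsupp.degree_single, hμ, add_mul] at this
      omega
    obtain ⟨α0, δ, h1, h2, h3⟩ := exists_split _ _ _ hdeg
    have hmem := E_mem (k := k) e a b (by omega) α0 δ i i0 (Ne.symm hii)
      (by rw [h2]; omega) (by rw [h3]; omega)
    rw [h1, ← hμ'] at hmem
    have h4 : μ + Finsupp.single i 1 - Finsupp.single i0 1
        = μ - Finsupp.single i0 1 + Finsupp.single i 1 := by
      conv_lhs => rw [hμ']
      rw [add_assoc, add_comm (Finsupp.single i0 1), ← add_assoc, add_tsub_cancel_right]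
    rw [h4]
    exact (Submodule.Quotient.eq _).2 hmem

theorem main (k : Type u) [Field k] [CharZero k] (n e a b : ℕ) (he : 0 < e) (ha : 0 < a)
    (hab : a < b)
    (f : Fin (n + 1) → MvPolynomial (Fin (n + 1)) k)
    (hf : ∀ i, (f i).IsHomogeneous ((a + b) * e - 1))
    (hEuler : ∑ i, X i * f i = 0) :
    f ∈ VV k n e a b := by
  classical
  have hb : 0 < b := by omega
  let Ψ : MvPolynomial (Fin (n+1)) k →ₗ[k]
      (Fin (n+1) → MvPolynomial (Fin (n+1)) k) ⧸ VV k n e a b :=
    (basisMonomials (Fin (n+1)) k).constr k (Theta e a b)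
  have hΨ : ∀ γ (c : k), Ψ (monomial γ c) = c • Theta e a b γ := by
    intro γ c
    have : monomial γ c = c • basisMonomials (Fin (n+1)) k γ := by
      rw [coe_basisMonomials, smul_monomial, smul_eq_mul, mul_one]
    rw [this, map_smul]
    simp only [Ψ, Module.Basis.constr_basis]
  have hterm : ∀ (i : Fin (n+1)) (μ : Fin (n+1) →₀ ℕ) (c : k), μ.degree = (a + b) * e - 1 →
      (Submodule.Quotient.mk (Pi.single i (monomial μ c)) :
        (Fin (n+1) → MvPolynomial (Fin (n+1)) k) ⧸ VV k n e a b) = Ψ (X i * monomial μ c) := by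
    intro i μ c hμ
    have h1 : (Pi.single i (monomial μ c) : Fin (n+1) → MvPolynomial (Fin (n+1)) k)
        = c • Pi.single i (monomial μ (1:k)) := by
      rw [← Pi.single_smul, smul_monomial, smul_eq_mul, mul_one]
    have h2 : X i * monomial μ c = monomial (μ + Finsupp.single i 1) c := by
      rw [mul_comm, monomial_add_single, pow_one]
    rw [h1, Submodule.Quotient.mk_smul, mk_single e a b he ha hb i μ hμ, h2, hΨ]
  have hpoly : ∀ (i : Fin (n+1)) (p : MvPolynomial (Fin (n+1)) k),
      p.IsHomogeneous ((a + b) * e - 1) →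
      (Submodule.Quotient.mk (Pi.single i p) :
        (Fin (n+1) → MvPolynomial (Fin (n+1)) k) ⧸ VV k n e a b) = Ψ (X i * p) := by
    intro i p hp
    have hgen : ∀ (s : Finset (Fin (n+1) →₀ ℕ)) (c : (Fin (n+1) →₀ ℕ) → k),
        (∀ μ ∈ s, μ.degree = (a + b) * e - 1) →
        (Submodule.Quotient.mk (Pi.single i (∑ μ ∈ s, monomial μ (c μ))) :
          (Fin (n+1) → MvPolynomial (Fin (n+1)) k) ⧸ VV k n e a b)
          = Ψ (X i * ∑ μ ∈ s, monomial μ (c μ)) := by
      intro s c hs
      rw [Finset.mul_sum, map_sum]
      have : (Pi.single i (∑ μ ∈ s, monomial μ (c μ)) :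
          Fin (n+1) → MvPolynomial (Fin (n+1)) k) = ∑ μ ∈ s, Pi.single i (monomial μ (c μ)) := by
        exact map_sum (LinearMap.single k (fun _ : Fin (n+1) => MvPolynomial (Fin (n+1)) k) i) _ _
      rw [this]
      have : (Submodule.Quotient.mk (∑ μ ∈ s, Pi.single i (monomial μ (c μ))) :
          (Fin (n+1) → MvPolynomial (Fin (n+1)) k) ⧸ VV k n e a b)
          = ∑ μ ∈ s, Submodule.Quotient.mk (Pi.single i (monomial μ (c μ))) :=
        map_sum (VV k n e a b).mkQ _ _
      rw [this]
      exact Finset.sum_congr rfl fun μ hμ => hterm i μ (c μ) (hs μ hμ)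
    have := hgen p.support (fun μ => coeff μ p) (by
      intro μ hμ
      have := hp (mem_support_iff.1 hμ)
      rw [Finsupp.degree_eq_weight_one]
      exact this)
    rwa [← p.as_sum] at this
  have hfsum : f = ∑ i, Pi.single i (f i) := (Finset.univ_sum_single f).symm
  rw [← Submodule.Quotient.mk_eq_zero, hfsum]
  have : (Submodule.Quotient.mk (∑ i, Pi.single i (f i)) :
      (Fin (n+1) → MvPolynomial (Fin (n+1)) k) ⧸ VV k n e a b)
      = ∑ i, Submodule.Quotient.mk (Pi.single i (f i)) := map_sum (VV k n e a b).mkQ _ _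
  rw [this, Finset.sum_congr rfl fun i _ => hpoly i (f i) (hf i), ← map_sum, hEuler, map_zero]

end Groth.Agent.H9.Gauss
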