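import Mathlib
set_option autoImplicit false
set_option linter.unusedSectionVars false
set_option linter.unusedVariables false

namespace Groth.Agent.H9.Wn
open Polynomial LaurentPolynomial

lemma coeff_toLaurent_nat (f : ℤ[X]) (n : ℕ) : (toLaurent f).coeff (n : ℤ) = f.coeff n := by
  rw [coeff_toLaurent]
  exact (Finsupp.mapDomain_apply (f := (Nat.castEmbedding : ℕ ↪ ℤ))
    Nat.castEmbedding.injective f.toFinsupp.coeff n).trans (by cases f; rfl)

lemma coeff_toLaurent_neg (f : ℤ[X]) (n : ℤ) (hn : n < 0) : (toLaurent f).coeff n = 0 := by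
  rw [coeff_toLaurent]
  apply Finsupp.mapDomain_of_notMem_range
  rintro ⟨k, hk⟩
  have : (k : ℤ) = n := hk
  omega

lemma coeff_mul_T (f : ℤ[T;T⁻¹]) (m n : ℤ) : (f * T m).coeff n = f.coeff (n - m) := by
  unfold T
  rw [AddMonoidAlgebra.coeff_mul_single_apply]
  simp [sub_eq_add_neg]

abbrev A := MvPolynomial (Fin 2) ℤ

noncomputable def I (q : ℤ) : Ideal A :=
  Ideal.span {MvPolynomial.X 0 * MvPolynomial.X 1 - MvPolynomial.C q}

noncomputable def nf (a b : ℤ[X]) : A :=
  aeval (MvPolynomial.X 0 : A) a + MvPolynomial.X 1 * aeval (MvPolynomial.X 1 : A) b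

noncomputable def ψ (q : ℤ) : A →ₐ[ℤ] ℤ[T;T⁻¹] := MvPolynomial.aeval ![T 1, LaurentPolynomial.C q * T (-1)]

lemma nf_zero : nf 0 0 = 0 := by simp [nf]

lemma nf_add (a a' b b' : ℤ[X]) : nf (a + a') (b + b') = nf a b + nf a' b' := by
  simp only [nf, map_add]; ring

lemma nf_sub (a a' b b' : ℤ[X]) : nf (a - a') (b - b') = nf a b - nf a' b' := by
  simp only [nf, map_sub]; ring

lemma nf_C_mul (c : ℤ) (a b : ℤ[X]) :
    nf (Polynomial.C c * a) (Polynomial.C c * b) = MvPolynomial.C c * nf a b := by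
  simp only [nf, map_mul, aeval_C, MvPolynomial.algebraMap_eq]; ring

lemma F_mul_nf (q : ℤ) (a b : ℤ[X]) :
    MvPolynomial.X 0 * nf a b =
      nf (a * X + Polynomial.C (q * b.coeff 0)) (Polynomial.C q * divX b) +
        (MvPolynomial.X 0 * MvPolynomial.X 1 - MvPolynomial.C q) *
          aeval (MvPolynomial.X 1 : A) b := by
  have hb : aeval (MvPolynomial.X 1 : A) b =
      aeval (MvPolynomial.X 1 : A) (divX b) * MvPolynomial.X 1 + MvPolynomial.C (b.coeff 0) := by
    conv_lhs => rw [← divX_mul_X_add b]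
    simp only [map_add, map_mul, aeval_X, aeval_C, MvPolynomial.algebraMap_eq]
  simp only [nf, map_add, map_mul, aeval_X, aeval_C, MvPolynomial.algebraMap_eq]
  rw [hb]
  ring

lemma V_mul_nf (q : ℤ) (a b : ℤ[X]) :
    MvPolynomial.X 1 * nf a b =
      nf (Polynomial.C q * divX a) (Polynomial.C (a.coeff 0) + b * X) +
        (MvPolynomial.X 0 * MvPolynomial.X 1 - MvPolynomial.C q) *
          aeval (MvPolynomial.X 0 : A) (divX a) := by
  have ha : aeval (MvPolynomial.X 0 : A) a =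
      aeval (MvPolynomial.X 0 : A) (divX a) * MvPolynomial.X 0 + MvPolynomial.C (a.coeff 0) := by
    conv_lhs => rw [← divX_mul_X_add a]
    simp only [map_add, map_mul, aeval_X, aeval_C, MvPolynomial.algebraMap_eq]
  simp only [nf, map_add, map_mul, aeval_X, aeval_C, MvPolynomial.algebraMap_eq]
  rw [ha]
  ring

lemma gen_mem_I (q : ℤ) : MvPolynomial.X 0 * MvPolynomial.X 1 - MvPolynomial.C q ∈ I q :=
  Ideal.subset_span rfl

lemma nf_exists (q : ℤ) (f : A) : ∃ a b : ℤ[X], f - nf a b ∈ I q := by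
  induction f using MvPolynomial.induction_on with
  | C c =>
    refine ⟨Polynomial.C c, 0, ?_⟩
    simp [nf, MvPolynomial.algebraMap_eq]
  | add f g hf hg =>
    obtain ⟨a, b, h1⟩ := hf
    obtain ⟨a', b', h2⟩ := hg
    refine ⟨a + a', b + b', ?_⟩
    rw [nf_add]
    have : f + g - (nf a b + nf a' b') = (f - nf a b) + (g - nf a' b') := by ring
    rw [this]; exact Ideal.add_mem _ h1 h2
  | mul_X f i hf =>
    obtain ⟨a, b, h1⟩ := hf
    fin_cases i
    · refine ⟨a * X + Polynomial.C (q * b.coeff 0), Polynomial.C q * divX b, ?_⟩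
      have h2 := F_mul_nf q a b
      have : f * MvPolynomial.X 0 -
          nf (a * X + Polynomial.C (q * b.coeff 0)) (Polynomial.C q * divX b) =
          (f - nf a b) * MvPolynomial.X 0 +
          (MvPolynomial.X 0 * MvPolynomial.X 1 - MvPolynomial.C q) *
            aeval (MvPolynomial.X 1 : A) b := by
        have h3 : nf (a * X + Polynomial.C (q * b.coeff 0)) (Polynomial.C q * divX b) =
          MvPolynomial.X 0 * nf a b - (MvPolynomial.X 0 * MvPolynomial.X 1 - MvPolynomial.C q) *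
            aeval (MvPolynomial.X 1 : A) b := by rw [h2]; ring
        rw [h3]; ring
      show f * MvPolynomial.X 0 - _ ∈ I q
      rw [this]
      exact Ideal.add_mem _ (Ideal.mul_mem_right _ _ h1) (Ideal.mul_mem_right _ _ (gen_mem_I q))
    · refine ⟨Polynomial.C q * divX a, Polynomial.C (a.coeff 0) + b * X, ?_⟩
      have h2 := V_mul_nf q a b
      have : f * MvPolynomial.X 1 -
          nf (Polynomial.C q * divX a) (Polynomial.C (a.coeff 0) + b * X) =
          (f - nf a b) * MvPolynomial.X 1 +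
          (MvPolynomial.X 0 * MvPolynomial.X 1 - MvPolynomial.C q) *
            aeval (MvPolynomial.X 0 : A) (divX a) := by
        have h3 : nf (Polynomial.C q * divX a) (Polynomial.C (a.coeff 0) + b * X) =
          MvPolynomial.X 1 * nf a b - (MvPolynomial.X 0 * MvPolynomial.X 1 - MvPolynomial.C q) *
            aeval (MvPolynomial.X 0 : A) (divX a) := by rw [h2]; ring
        rw [h3]; ring
      show f * MvPolynomial.X 1 - _ ∈ I q
      rw [this]
      exact Ideal.add_mem _ (Ideal.mul_mem_right _ _ h1) (Ideal.mul_mem_right _ _ (gen_mem_I q))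

lemma ψ_X0 (q : ℤ) : ψ q (MvPolynomial.X 0) = T 1 := by
  simp [ψ]

lemma ψ_X1 (q : ℤ) : ψ q (MvPolynomial.X 1) = LaurentPolynomial.C q * T (-1) := by
  simp [ψ]

lemma ψ_gen (q : ℤ) : ψ q (MvPolynomial.X 0 * MvPolynomial.X 1 - MvPolynomial.C q) = 0 := by
  rw [map_sub, map_mul, ψ_X0, ψ_X1]
  have : ψ q (MvPolynomial.C q) = LaurentPolynomial.C q := by
    simp [ψ, LaurentPolynomial.C_eq_algebraMap]
  rw [this]
  have : (T 1 : ℤ[T;T⁻¹]) * (LaurentPolynomial.C q * T (-1)) = LaurentPolynomial.C q * (T 1 * T (-1)) := by ring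
  rw [this, ← T_add]
  simp

lemma I_le_ker (q : ℤ) : I q ≤ RingHom.ker (ψ q) := by
  unfold I
  rw [Ideal.span_le]
  intro x hx
  rw [Set.mem_singleton_iff] at hx
  rw [hx]
  exact ψ_gen q

/-- the twisted polynomial `b̃`. -/
noncomputable def bt (q : ℤ) (b : ℤ[X]) : ℤ[X] := (X * b).comp (Polynomial.C q * X)

lemma bt_coeff_zero (q : ℤ) (b : ℤ[X]) : (bt q b).coeff 0 = 0 := by
  unfold bt
  rw [comp_C_mul_X_coeff]
  simp

lemma bt_coeff_succ (q : ℤ) (b : ℤ[X]) (k : ℕ) : (bt q b).coeff (k + 1) = q ^ (k + 1) * b.coeff k := by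
  unfold bt
  rw [comp_C_mul_X_coeff, coeff_X_mul]
  ring

lemma aeval_T_one (a : ℤ[X]) : aeval (T 1 : ℤ[T;T⁻¹]) a = toLaurent a := by
  have h := Polynomial.aeval_algHom_apply (toLaurentAlg (R := ℤ)) (X : ℤ[X]) a
  rw [aeval_X_left_apply] at h
  rw [← toLaurentAlg_apply, ← h, toLaurentAlg_apply, toLaurent_X]

lemma ψ_nf (q : ℤ) (a b : ℤ[X]) :
    ψ q (nf a b) = toLaurent a + invert (toLaurent (bt q b)) := by
  have h1 : ψ q (aeval (MvPolynomial.X 0 : A) a) = toLaurent a := by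
    rw [← Polynomial.aeval_algHom_apply, ψ_X0, aeval_T_one]
  have h2 : ψ q (MvPolynomial.X 1 * aeval (MvPolynomial.X 1 : A) b) =
      invert (toLaurent (bt q b)) := by
    have e1 : MvPolynomial.X 1 * aeval (MvPolynomial.X 1 : A) b =
        aeval (MvPolynomial.X 1 : A) (X * b) := by simp
    rw [e1, ← Polynomial.aeval_algHom_apply, ψ_X1, ← aeval_T_one,
      ← Polynomial.aeval_algHom_apply, invert_T]
    unfold bt
    rw [Polynomial.aeval_comp]
    congr 1
    simp [LaurentPolynomial.C_eq_algebraMap]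
  unfold nf
  rw [map_add, h1, h2]

lemma coeff_ψ_nf_nat (q : ℤ) (a b : ℤ[X]) (n : ℕ) :
    (ψ q (nf a b)).coeff (n : ℤ) = a.coeff n := by
  rw [ψ_nf]
  have : (toLaurent a + invert (toLaurent (bt q b))).coeff (n : ℤ) =
      (toLaurent a).coeff (n : ℤ) + (invert (toLaurent (bt q b))).coeff (n : ℤ) := by
    simp
  rw [this, coeff_toLaurent_nat, invert_apply]
  rcases Nat.eq_zero_or_pos n with h0 | h0
  · subst h0
    have : (-((0 : ℕ) : ℤ)) = ((0 : ℕ) : ℤ) := by simp
    rw [this, coeff_toLaurent_nat, bt_coeff_zero, add_zero]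
  · rw [coeff_toLaurent_neg _ _ (by omega), add_zero]

lemma coeff_ψ_nf_neg (q : ℤ) (a b : ℤ[X]) (k : ℕ) :
    (ψ q (nf a b)).coeff (-((k : ℤ) + 1)) = q ^ (k + 1) * b.coeff k := by
  rw [ψ_nf]
  have : (toLaurent a + invert (toLaurent (bt q b))).coeff (-((k : ℤ) + 1)) =
      (toLaurent a).coeff (-((k : ℤ) + 1)) +
        (invert (toLaurent (bt q b))).coeff (-((k : ℤ) + 1)) := by
    simp
  rw [this, coeff_toLaurent_neg _ _ (by omega), invert_apply, zero_add]
  have : (-(-((k : ℤ) + 1))) = ((k + 1 : ℕ) : ℤ) := by push_cast; ring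
  rw [this, coeff_toLaurent_nat, bt_coeff_succ]

lemma nf_eq_zero_of_ψ (q : ℤ) (hq : q ≠ 0) (a b : ℤ[X]) (h : ψ q (nf a b) = 0) :
    a = 0 ∧ b = 0 := by
  constructor
  · ext n
    rw [← coeff_ψ_nf_nat q a b n, h]; simp
  · ext k
    have := coeff_ψ_nf_neg q a b k
    rw [h] at this
    have h0 : q ^ (k + 1) * b.coeff k = 0 := by rw [← this]; simp
    rcases mul_eq_zero.1 h0 with h1 | h1
    · exact absurd h1 (pow_ne_zero _ hq)
    · simpa using h1

lemma ker_ψ (q : ℤ) (hq : q ≠ 0) : RingHom.ker (ψ q) = I q := by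
  apply le_antisymm
  · intro f hf
    obtain ⟨a, b, hab⟩ := nf_exists q f
    have h1 : ψ q (nf a b) = 0 := by
      have := I_le_ker q hab
      rw [RingHom.mem_ker, map_sub] at this
      rw [RingHom.mem_ker] at hf
      rw [hf] at this
      simpa using this
    obtain ⟨ha, hb⟩ := nf_eq_zero_of_ψ q hq a b h1
    rw [ha, hb, nf_zero, sub_zero] at hab
    exact hab
  · exact I_le_ker q

lemma mem_I_iff (q : ℤ) (hq : q ≠ 0) (f : A) : f ∈ I q ↔ ψ q f = 0 := by
  rw [← ker_ψ q hq, RingHom.mem_ker]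

lemma regular_mod_I (q : ℤ) (hq : q ≠ 0) (h g : A) (hh : ψ q h ≠ 0) (hg : h * g ∈ I q) :
    g ∈ I q := by
  rw [mem_I_iff q hq] at hg ⊢
  rw [map_mul] at hg
  rcases mul_eq_zero.1 hg with h1 | h1
  · exact absurd h1 hh
  · exact h1

end Groth.Agent.H9.Wn
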