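import Mathlib
import Groth.Agent.Lib.Helper9.Misc.WnA
set_option autoImplicit false
set_option linter.unusedSectionVars false
set_option linter.unusedVariables false

namespace Groth.Agent.H9.Wn
open Polynomial LaurentPolynomial

noncomputable def J (q : ℤ) (h : A) : Ideal A :=
  Ideal.span {MvPolynomial.X 0 * MvPolynomial.X 1 - MvPolynomial.C q, h}

lemma I_le_J (q : ℤ) (h : A) : I q ≤ J q h := by
  unfold I J
  apply Ideal.span_mono
  intro x hx
  rw [Set.mem_singleton_iff] at hx
  rw [hx]; simp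

lemma h_mem_J (q : ℤ) (h : A) : h ∈ J q h := by
  unfold J
  apply Ideal.subset_span
  simp

lemma J_le (q : ℤ) (h : A) (K : Ideal A) (h1 : I q ≤ K) (h2 : h ∈ K) : J q h ≤ K := by
  unfold J
  rw [Ideal.span_le]
  intro x hx
  rcases hx with hx | hx
  · rw [hx]; exact h1 (gen_mem_I q)
  · rw [Set.mem_singleton_iff] at hx
    rw [hx]; exact h2

lemma ψ_aeval_X0 (q : ℤ) (P : ℤ[X]) : ψ q (aeval (MvPolynomial.X 0 : A) P) = toLaurent P := by
  rw [← Polynomial.aeval_algHom_apply, ψ_X0, aeval_T_one]

/-- normal form of `h`. -/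
lemma h_nf (q : ℤ) (hq : q ≠ 0) (D : ℕ) (Pw : ℤ[X]) (h : A)
    (hh : MvPolynomial.X 0 ^ D * h - aeval (MvPolynomial.X 0 : A) Pw ∈ I q) :
    ∃ a b : ℤ[X], h - nf a b ∈ I q ∧ (∀ i, a.coeff i = Pw.coeff (i + D)) ∧
      (∀ k, D ≤ k → b.coeff k = 0) ∧
      (∀ k, k < D → q ^ (k + 1) * b.coeff k = Pw.coeff (D - 1 - k)) ∧
      ψ q h * T D = toLaurent Pw := by
  obtain ⟨a, b, hab⟩ := nf_exists q h
  have e1 : ψ q h = ψ q (nf a b) := by
    have := I_le_ker q hab
    rw [RingHom.mem_ker, map_sub, sub_eq_zero] at this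
    exact this
  have e2 : ψ q h * T D = toLaurent Pw := by
    have := I_le_ker q hh
    rw [RingHom.mem_ker, map_sub, sub_eq_zero, map_mul, map_pow, ψ_X0, ψ_aeval_X0, T_pow] at this
    rw [← this, mul_comm]
    simp
  have e3 : ∀ n : ℤ, (ψ q (nf a b)).coeff (n - D) = (toLaurent Pw).coeff n := by
    intro n
    rw [← e2, coeff_mul_T, e1]
  refine ⟨a, b, hab, ?_, ?_, ?_, e2⟩
  · intro i
    have := e3 (((i + D : ℕ) : ℤ))
    rw [coeff_toLaurent_nat] at this
    rw [← this]
    have e : (((i + D : ℕ) : ℤ)) - (D : ℤ) = (i : ℤ) := by push_cast; ring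
    rw [e, coeff_ψ_nf_nat]
  · intro k hk
    have := e3 ((D : ℤ) - ((k : ℤ) + 1))
    rw [coeff_toLaurent_neg _ _ (by omega)] at this
    have e : (D : ℤ) - ((k : ℤ) + 1) - (D : ℤ) = -((k : ℤ) + 1) := by ring
    rw [e, coeff_ψ_nf_neg] at this
    rcases mul_eq_zero.1 this with h1 | h1
    · exact absurd h1 (pow_ne_zero _ hq)
    · exact h1
  · intro k hk
    have := e3 (((D - 1 - k : ℕ) : ℤ))
    rw [coeff_toLaurent_nat] at this
    rw [← this]
    have e : (((D - 1 - k : ℕ) : ℤ)) - (D : ℤ) = -((k : ℤ) + 1) := by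
      have : D - 1 - k + (k + 1) = D := by omega
      have h2 : (((D - 1 - k : ℕ) : ℤ)) + ((k : ℤ) + 1) = (D : ℤ) := by exact_mod_cast this
      linarith
    rw [e, coeff_ψ_nf_neg]

/-- spanning modulo `J`. -/
lemma span_mod (q : ℤ) (D : ℕ) (h : A) (a b : ℤ[X]) (u : ℤ) (hu : u * u = 1)
    (hab : h - nf a b ∈ I q) (haD : a.coeff D = 1) (ha : ∀ m, D < m → a.coeff m = 0)
    (hb : ∀ m, D ≤ m → b.coeff m = 0) (hbu : 0 < D → b.coeff (D - 1) = u) (f : A) :
    ∃ a' b' : ℤ[X], (∀ m, D ≤ m → a'.coeff m = 0) ∧ (∀ m, D ≤ m → b'.coeff m = 0) ∧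
      f - nf a' b' ∈ J q h := by
  have hnf : nf a b ∈ J q h := by
    have : nf a b = h - (h - nf a b) := by ring
    rw [this]
    exact Ideal.sub_mem _ (h_mem_J q h) (I_le_J q h hab)
  have hgen : MvPolynomial.X 0 * MvPolynomial.X 1 - MvPolynomial.C q ∈ J q h :=
    I_le_J q h (gen_mem_I q)
  by_cases hD : D = 0
  · subst hD
    have ha1 : a = 1 := by
      ext m
      rcases Nat.eq_zero_or_pos m with h0 | h0
      · subst h0; rw [haD]; simp
      · rw [ha m h0]
        rw [Polynomial.coeff_one, if_neg (by omega)]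
    have hb0 : b = 0 := by
      ext m
      rw [hb m (Nat.zero_le _)]; simp
    have h1 : (1 : A) ∈ J q h := by
      have : nf a b = 1 := by rw [ha1, hb0]; simp [nf]
      rw [← this]; exact hnf
    have htop : J q h = ⊤ := (Ideal.eq_top_iff_one _).2 h1
    refine ⟨0, 0, by simp, by simp, ?_⟩
    rw [htop]; trivial
  have hDpos : 0 < D := Nat.pos_of_ne_zero hD
  induction f using MvPolynomial.induction_on with
  | C c =>
    refine ⟨Polynomial.C c, 0, ?_, by simp, ?_⟩
    · intro m hm
      rw [Polynomial.coeff_C, if_neg (by omega)]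
    · simp [nf, MvPolynomial.algebraMap_eq]
  | add f g hf hg =>
    obtain ⟨a1, b1, h1a, h1b, h1⟩ := hf
    obtain ⟨a2, b2, h2a, h2b, h2⟩ := hg
    refine ⟨a1 + a2, b1 + b2, ?_, ?_, ?_⟩
    · intro m hm; rw [coeff_add, h1a m hm, h2a m hm, add_zero]
    · intro m hm; rw [coeff_add, h1b m hm, h2b m hm, add_zero]
    · rw [nf_add]
      have : f + g - (nf a1 b1 + nf a2 b2) = (f - nf a1 b1) + (g - nf a2 b2) := by ring
      rw [this]; exact Ideal.add_mem _ h1 h2
  | mul_X f i hf =>
    obtain ⟨a', b', ha', hb', h1⟩ := hf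
    fin_cases i
    · -- multiplication by F
      set c := a'.coeff (D - 1) with hc
      refine ⟨(a' * X + Polynomial.C (q * b'.coeff 0)) - Polynomial.C c * a,
        Polynomial.C q * divX b' - Polynomial.C c * b, ?_, ?_, ?_⟩
      · intro m hm
        obtain ⟨m', rfl⟩ : ∃ m', m = m' + 1 := ⟨m - 1, by omega⟩
        rw [coeff_sub, coeff_add, coeff_mul_X, coeff_C_mul, Polynomial.coeff_C,
          if_neg (by omega), add_zero]
        rcases Nat.eq_or_lt_of_le hm with h0 | h0
        · have e1 : m' = D - 1 := by omega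
          rw [← h0, haD, e1, ← hc]; ring
        · rw [ha' m' (by omega), ha (m' + 1) h0]; ring
      · intro m hm
        rw [coeff_sub, coeff_C_mul, coeff_C_mul, coeff_divX, hb' (m + 1) (by omega), hb m hm]
        ring
      · have h2 := F_mul_nf q a' b'
        have key : f * MvPolynomial.X 0 - nf ((a' * X + Polynomial.C (q * b'.coeff 0)) -
            Polynomial.C c * a) (Polynomial.C q * divX b' - Polynomial.C c * b) =
            (f - nf a' b') * MvPolynomial.X 0 +
            (MvPolynomial.X 0 * MvPolynomial.X 1 - MvPolynomial.C q) *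
              aeval (MvPolynomial.X 1 : A) b' + MvPolynomial.C c * nf a b := by
          rw [nf_sub, nf_C_mul]
          linear_combination h2
        show f * MvPolynomial.X 0 - _ ∈ J q h
        rw [key]
        exact Ideal.add_mem _ (Ideal.add_mem _ (Ideal.mul_mem_right _ _ h1)
          (Ideal.mul_mem_right _ _ hgen)) (Ideal.mul_mem_left _ _ hnf)
    · -- multiplication by V
      set c := b'.coeff (D - 1) with hc
      refine ⟨Polynomial.C q * divX a' - Polynomial.C (c * u) * (Polynomial.C q * divX a),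
        (Polynomial.C (a'.coeff 0) + b' * X) -
          Polynomial.C (c * u) * (Polynomial.C (a.coeff 0) + b * X), ?_, ?_, ?_⟩
      · intro m hm
        rw [coeff_sub, coeff_C_mul, coeff_C_mul, coeff_C_mul, coeff_divX, coeff_divX,
          ha' (m + 1) (by omega), ha (m + 1) (by omega)]
        ring
      · intro m hm
        obtain ⟨m', rfl⟩ : ∃ m', m = m' + 1 := ⟨m - 1, by omega⟩
        rw [coeff_sub, coeff_add, coeff_mul_X, coeff_C_mul, coeff_add, coeff_mul_X,
          Polynomial.coeff_C, Polynomial.coeff_C, if_neg (by omega), if_neg (by omega),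
          zero_add, zero_add]
        rcases Nat.eq_or_lt_of_le hm with h0 | h0
        · have e1 : m' = D - 1 := by omega
          rw [e1, ← hc, hbu hDpos]
          linear_combination (-c) * hu
        · rw [hb' m' (by omega), hb m' (by omega)]; ring
      · have h2 := V_mul_nf q a' b'
        have h3 := V_mul_nf q a b
        have key : f * MvPolynomial.X 1 -
            nf (Polynomial.C q * divX a' - Polynomial.C (c * u) * (Polynomial.C q * divX a))
              ((Polynomial.C (a'.coeff 0) + b' * X) -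
                Polynomial.C (c * u) * (Polynomial.C (a.coeff 0) + b * X)) =
            (f - nf a' b') * MvPolynomial.X 1 +
            (MvPolynomial.X 0 * MvPolynomial.X 1 - MvPolynomial.C q) *
              aeval (MvPolynomial.X 0 : A) (divX a') +
            MvPolynomial.C (c * u) * (MvPolynomial.X 1 * nf a b -
              (MvPolynomial.X 0 * MvPolynomial.X 1 - MvPolynomial.C q) *
                aeval (MvPolynomial.X 0 : A) (divX a)) := by
          rw [nf_sub, nf_C_mul]
          linear_combination h2 - MvPolynomial.C (c * u) * h3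
        show f * MvPolynomial.X 1 - _ ∈ J q h
        rw [key]
        exact Ideal.add_mem _ (Ideal.add_mem _ (Ideal.mul_mem_right _ _ h1)
          (Ideal.mul_mem_right _ _ hgen)) (Ideal.mul_mem_left _ _
            (Ideal.sub_mem _ (Ideal.mul_mem_left _ _ hnf) (Ideal.mul_mem_right _ _ hgen)))

end Groth.Agent.H9.Wn
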