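import Mathlib
import Groth.Agent.Lib.Helper9.Misc.WnB
set_option autoImplicit false
set_option linter.unusedSectionVars false
set_option linter.unusedVariables false

namespace Groth.Agent.H9.Wn
open Polynomial

universe u

/-- the auxiliary polynomial. -/
noncomputable def gpoly (q : ℤ) (D : ℕ) (a' b' : ℤ[X]) : ℤ[X] :=
  a' * X ^ D + ∑ j ∈ Finset.range D, Polynomial.C (q ^ (j + 1) * b'.coeff j) * X ^ (D - 1 - j)

lemma gpoly_coeff_add (q : ℤ) (D : ℕ) (a' b' : ℤ[X]) (i : ℕ) :
    (gpoly q D a' b').coeff (i + D) = a'.coeff i := by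
  unfold gpoly
  rw [coeff_add, coeff_mul_X_pow, finsetSum_coeff, Finset.sum_eq_zero, add_zero]
  intro j hj
  rw [Finset.mem_range] at hj
  rw [coeff_C_mul_X_pow, if_neg (by omega)]

lemma gpoly_coeff_low (q : ℤ) (D : ℕ) (a' b' : ℤ[X]) (k : ℕ) (hk : k < D) :
    (gpoly q D a' b').coeff (D - 1 - k) = q ^ (k + 1) * b'.coeff k := by
  unfold gpoly
  rw [coeff_add, coeff_mul_X_pow', if_neg (by omega), zero_add, finsetSum_coeff,
    Finset.sum_eq_single k]
  · rw [coeff_C_mul_X_pow, if_pos rfl]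
  · intro j hj hjk
    rw [Finset.mem_range] at hj
    rw [coeff_C_mul_X_pow, if_neg (by omega)]
  · intro h; exact absurd (Finset.mem_range.2 hk) h

lemma gpoly_aeval {K : Type u} [Field K] (q : ℤ) (D : ℕ) (a' b' : ℤ[X])
    (hb : b'.natDegree < D) (x y : K) (hxy : x * y = algebraMap ℤ K q) :
    aeval x (gpoly q D a' b') = x ^ D * (aeval x a' + y * aeval y b') := by
  unfold gpoly
  simp only [map_add, map_mul, map_pow, aeval_X, map_sum, aeval_C]
  rw [aeval_eq_sum_range' hb y, mul_add, Finset.mul_sum, Finset.mul_sum, mul_comm (x ^ D)]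
  congr 1
  apply Finset.sum_congr rfl
  intro j hj
  rw [Finset.mem_range] at hj
  have e1 : x ^ D = x ^ (D - 1 - j) * x ^ (j + 1) := by
    rw [← pow_add]; congr 1; omega
  have e2 : x ^ (j + 1) * y ^ (j + 1) = (algebraMap ℤ K q) ^ (j + 1) := by
    rw [← mul_pow, hxy]
  rw [e1, Algebra.smul_def]
  linear_combination (-(x ^ (D - 1 - j) * algebraMap ℤ K (b'.coeff j))) * e2

section fam
variable {ι : Type} [Fintype ι] {K : ι → Type u} [∀ i, Field (K i)] [∀ i, CharZero (K i)]
  (π : ∀ i, K i) (hint : ∀ i, IsIntegral ℤ (π i))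
  (hinj : ∀ i j, minpoly ℤ (π i) = minpoly ℤ (π j) → i = j)

include hint hinj in
lemma prod_minpoly_dvd (g : ℤ[X]) (hg : ∀ i, aeval (π i) g = 0) :
    (∏ i, minpoly ℤ (π i)) ∣ g := by
  apply Fintype.prod_dvd_of_isRelPrime
  · intro i j hij
    show IsRelPrime (minpoly ℤ (π i)) (minpoly ℤ (π j))
    have hpi := minpoly.prime_of_isIntegrallyClosed (hint i)
    have hpj := minpoly.prime_of_isIntegrallyClosed (hint j)
    rw [hpi.irreducible.isRelPrime_iff_not_dvd]
    intro hd
    have has : Associated (minpoly ℤ (π i)) (minpoly ℤ (π j)) :=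
      hpi.irreducible.associated_of_dvd hpj.irreducible hd
    exact hij (hinj i j (eq_of_monic_of_associated (minpoly.monic (hint i))
      (minpoly.monic (hint j)) has))
  · intro i
    exact minpoly.isIntegrallyClosed_dvd (hint i) (hg i)

include hint hinj in
lemma indep (q : ℤ) (hq : q ≠ 0) (D : ℕ)
    (hD : ∑ i, (minpoly ℤ (π i)).natDegree = 2 * D) (y : ∀ i, K i)
    (hy : ∀ i, π i * y i = algebraMap ℤ (K i) q)
    (a' b' : ℤ[X]) (ha' : ∀ m, D ≤ m → a'.coeff m = 0) (hb' : ∀ m, D ≤ m → b'.coeff m = 0)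
    (h0 : ∀ i, aeval (π i) a' + y i * aeval (y i) b' = 0) : a' = 0 ∧ b' = 0 := by
  by_cases hD0 : D = 0
  · subst hD0
    constructor
    · ext m; rw [ha' m (Nat.zero_le _)]; simp
    · ext m; rw [hb' m (Nat.zero_le _)]; simp
  have hDpos : 0 < D := Nat.pos_of_ne_zero hD0
  have hbdeg : b'.natDegree < D := by
    have : b'.natDegree ≤ D - 1 := by
      rw [natDegree_le_iff_coeff_eq_zero]
      intro N hN
      exact hb' N (by omega)
    omega
  set g := gpoly q D a' b' with hg
  have hgz : ∀ i, aeval (π i) g = 0 := by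
    intro i
    rw [hg, gpoly_aeval q D a' b' hbdeg (π i) (y i) (hy i), h0 i, mul_zero]
  have hdvd := prod_minpoly_dvd π hint hinj g hgz
  have hmonic : (∏ i, minpoly ℤ (π i)).Monic := monic_prod_of_monic _ _ (fun i _ => minpoly.monic (hint i))
  have hdeg : (∏ i, minpoly ℤ (π i)).natDegree = 2 * D := by
    rw [natDegree_prod_of_monic _ _ (fun i _ => minpoly.monic (hint i)), hD]
  have hg0 : g = 0 := by
    by_contra hne
    have h1 := natDegree_le_of_dvd hdvd hne
    rw [hdeg] at h1
    have h2 : g.coeff g.natDegree = 0 := by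
      have e : g.natDegree = (g.natDegree - D) + D := by omega
      have h4 : D ≤ g.natDegree - D := by omega
      rw [e, hg, gpoly_coeff_add]
      exact ha' _ h4
    have h3 : g.leadingCoeff = 0 := h2
    exact hne (leadingCoeff_eq_zero.1 h3)
  constructor
  · ext i
    rw [← gpoly_coeff_add q D a' b' i, ← hg, hg0]; simp
  · ext k
    by_cases hk : k < D
    · have := gpoly_coeff_low q D a' b' k hk
      rw [← hg, hg0] at this
      have h1 : q ^ (k + 1) * b'.coeff k = 0 := by rw [← this]; simp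
      rcases mul_eq_zero.1 h1 with h2 | h2
      · exact absurd h2 (pow_ne_zero _ hq)
      · simpa using h2
    · rw [hb' k (by omega)]; simp

end fam

/-- absolute value of the constant coefficient -/
lemma abs_coeff_zero (P : ℤ[X]) (hP : P.Monic) (r : ℝ)
    (hr : ∀ z ∈ P.aroots ℂ, ‖z‖ = r) : |((P.coeff 0 : ℤ) : ℝ)| = r ^ P.natDegree := by
  set Pc := P.map (algebraMap ℤ ℂ) with hPc
  have hm : Pc.Monic := hP.map _
  have hdeg : Pc.natDegree = P.natDegree := hP.natDegree_map _
  have hs : Pc.Splits := IsAlgClosed.splits Pc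
  have h1 := hs.coeff_zero_eq_prod_roots_of_monic hm
  have h2 : ‖Pc.coeff 0‖ = ‖Pc.roots.prod‖ := by
    rw [h1, norm_mul, norm_pow, norm_neg, norm_one, one_pow, one_mul]
  have h3 : ‖Pc.roots.prod‖ = r ^ Pc.roots.card := by
    have : ∀ s : Multiset ℂ, (∀ z ∈ s, ‖z‖ = r) → ‖s.prod‖ = r ^ s.card := by
      intro s
      induction s using Multiset.induction_on with
      | empty => intro _; simp
      | cons z s ih =>
        intro hs
        rw [Multiset.prod_cons, norm_mul, Multiset.card_cons, pow_succ, mul_comm,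
          hs z (Multiset.mem_cons_self z s), ih (fun w hw => hs w (Multiset.mem_cons_of_mem hw))]
    exact this _ hr
  rw [← hs.natDegree_eq_card_roots, hdeg] at h3
  rw [← h3, ← h2, hPc, coeff_map]
  simp

end Groth.Agent.H9.Wn
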