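import Mathlib
import Groth.Agent.Lib.Helper9.Misc.WnC
set_option autoImplicit false
set_option linter.unusedSectionVars false
set_option linter.unusedVariables false

namespace Groth.Agent.H9.Wn
open Polynomial Pointwise

universe u

lemma map_nf {S : Type*} [CommRing S] (θ : A →ₐ[ℤ] S) (a b : ℤ[X]) :
    θ (nf a b) = aeval (θ (MvPolynomial.X 0)) a +
      θ (MvPolynomial.X 1) * aeval (θ (MvPolynomial.X 1)) b := by
  unfold nf
  rw [map_add, map_mul, ← Polynomial.aeval_algHom_apply, ← Polynomial.aeval_algHom_apply]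

lemma gen_ne_zero (q : ℤ) (hq : q ≠ 0) :
    (MvPolynomial.X 0 * MvPolynomial.X 1 - MvPolynomial.C q : A) ≠ 0 := by
  intro h0
  have := congrArg (MvPolynomial.eval (fun _ => (0 : ℤ))) h0
  simp at this
  exact hq this

lemma mem_smul_top_iff (q : ℤ) (z : A) :
    z ∈ ((MvPolynomial.X 0 * MvPolynomial.X 1 - MvPolynomial.C q : A) •
      (⊤ : Submodule A A)) ↔ z ∈ I q := by
  rw [Submodule.mem_smul_pointwise_iff_exists]
  unfold I
  rw [Ideal.mem_span_singleton']
  constructor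
  · rintro ⟨n, -, rfl⟩; exact ⟨n, by rw [smul_eq_mul, mul_comm]⟩
  · rintro ⟨n, rfl⟩; exact ⟨n, trivial, by rw [smul_eq_mul, mul_comm]⟩

theorem main (p e : ℕ) [Fact p.Prime] (he : 0 < e)
    (ι : Type) [Fintype ι] (K : ι → Type u) [∀ i, Field (K i)] [∀ i, CharZero (K i)]
    (π : ∀ i, K i)
    (hint : ∀ i, IsIntegral ℤ (π i))
    (hweil : ∀ i, ∀ z ∈ (minpoly ℤ (π i)).aroots ℂ, ‖z‖ = Real.sqrt ((p : ℝ) ^ e))
    (hinj : ∀ i j, minpoly ℤ (π i) = minpoly ℤ (π j) → i = j)
    (D : ℕ) (hD : ∑ i, (minpoly ℤ (π i)).natDegree = 2 * D)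
    (h : MvPolynomial (Fin 2) ℤ)
    (hh : MvPolynomial.X 0 ^ D * h - Polynomial.aeval
      (MvPolynomial.X 0 : MvPolynomial (Fin 2) ℤ) (∏ i, minpoly ℤ (π i)) ∈
      Ideal.span ({MvPolynomial.X 0 * MvPolynomial.X 1 - MvPolynomial.C ((p : ℤ) ^ e)} :
        Set (MvPolynomial (Fin 2) ℤ))) :
    RingHom.ker (MvPolynomial.aeval ![fun i => π i, fun i => ((p : K i) ^ e) / π i] :
        MvPolynomial (Fin 2) ℤ →ₐ[ℤ] ((i : ι) → K i)) =
        Ideal.span {MvPolynomial.X 0 * MvPolynomial.X 1 - MvPolynomial.C ((p : ℤ) ^ e), h} ∧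
      RingTheory.Sequence.IsWeaklyRegular (MvPolynomial (Fin 2) ℤ)
        [MvPolynomial.X 0 * MvPolynomial.X 1 - MvPolynomial.C ((p : ℤ) ^ e), h] := by
  set q : ℤ := (p : ℤ) ^ e with hq
  have hp : (p : ℤ) ≠ 0 := by exact_mod_cast (Fact.out : p.Prime).ne_zero
  have hq0 : q ≠ 0 := pow_ne_zero _ hp
  have hqnn : 0 ≤ q := pow_nonneg (Int.natCast_nonneg p) e
  set Pw := ∏ i, minpoly ℤ (π i) with hPw
  have hmonic : Pw.Monic := monic_prod_of_monic _ _ (fun i _ => minpoly.monic (hint i))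
  have hdeg : Pw.natDegree = 2 * D := by
    rw [hPw, natDegree_prod_of_monic _ _ (fun i _ => minpoly.monic (hint i)), hD]
  -- Weil facts
  set r := Real.sqrt ((p : ℝ) ^ e) with hr
  have hpR : (0 : ℝ) < (p : ℝ) ^ e := by
    have : (0 : ℝ) < (p : ℝ) := by exact_mod_cast (Fact.out : p.Prime).pos
    exact pow_pos this e
  have hr2 : r ^ 2 = (p : ℝ) ^ e := Real.sq_sqrt hpR.le
  have hrpos : 0 < r := Real.sqrt_pos.2 hpR
  have habs : ∀ i, |(((minpoly ℤ (π i)).coeff 0 : ℤ) : ℝ)| = r ^ (minpoly ℤ (π i)).natDegree :=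
    fun i => abs_coeff_zero _ (minpoly.monic (hint i)) r (hweil i)
  have hπ0 : ∀ i, π i ≠ 0 := by
    intro i h0
    have h1 : (minpoly ℤ (π i)).coeff 0 ≠ 0 := by
      intro hc
      have := habs i
      rw [hc] at this
      simp at this
      exact (pow_pos hrpos _).ne' this.symm
    have h2 := minpoly.aeval ℤ (π i)
    have key : ∀ x : K i, x = 0 → aeval x (minpoly ℤ (π i)) = 0 →
        (minpoly ℤ (π i)).coeff 0 = 0 := by
      intro x hx hx2
      subst hx
      rw [← coeff_zero_eq_aeval_zero'] at hx2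
      simpa using hx2
    exact h1 (key (π i) h0 h2)
  have hc0 : |((Pw.coeff 0 : ℤ) : ℝ)| = ((q : ℤ) : ℝ) ^ D := by
    rw [hPw, coeff_zero_prod, Int.cast_prod, Finset.abs_prod,
      Finset.prod_congr rfl (fun i _ => habs i), Finset.prod_pow_eq_pow_sum, hD, pow_mul, hr2, hq]
    push_cast
    rfl
  obtain ⟨ε, hε, hcε⟩ : ∃ ε : ℤ, ε * ε = 1 ∧ Pw.coeff 0 = ε * q ^ D := by
    have h1 : |Pw.coeff 0| = q ^ D := by
      have : ((|Pw.coeff 0| : ℤ) : ℝ) = ((q ^ D : ℤ) : ℝ) := by push_cast; exact hc0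
      exact_mod_cast this
    have hqD : 0 ≤ q ^ D := pow_nonneg hqnn D
    rcases (abs_eq hqD).1 h1 with h2 | h2
    · exact ⟨1, by ring, by rw [h2]; ring⟩
    · exact ⟨-1, by ring, by rw [h2]; ring⟩
  have hhI : MvPolynomial.X 0 ^ D * h - aeval (MvPolynomial.X 0 : A) Pw ∈ I q := hh
  obtain ⟨a, b, hab, ha, hb, hbl, hψ⟩ := h_nf q hq0 D Pw h hhI
  have haD : a.coeff D = 1 := by
    rw [ha D, ← two_mul, ← hdeg]; exact hmonic.coeff_natDegree
  have haz : ∀ m, D < m → a.coeff m = 0 := by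
    intro m hm
    rw [ha m]
    exact coeff_eq_zero_of_natDegree_lt (by rw [hdeg]; omega)
  have hbu : 0 < D → b.coeff (D - 1) = ε := by
    intro hDpos
    have := hbl (D - 1) (by omega)
    have e1 : D - 1 + 1 = D := by omega
    have e2 : D - 1 - (D - 1) = 0 := by omega
    rw [e1, e2, hcε] at this
    have hqD : q ^ D ≠ 0 := pow_ne_zero _ hq0
    apply mul_left_cancel₀ hqD
    rw [this]; ring
  have hψne : ψ q h ≠ 0 := by
    intro h0
    rw [h0, zero_mul] at hψ
    exact hmonic.ne_zero (toLaurent_eq_zero.1 hψ.symm)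
  -- the map φ
  set φ : A →ₐ[ℤ] ((i : ι) → K i) :=
    MvPolynomial.aeval ![fun i => π i, fun i => ((p : K i) ^ e) / π i] with hφ
  have hφ0 : φ (MvPolynomial.X 0) = fun i => π i := by simp [hφ]
  have hφ1 : φ (MvPolynomial.X 1) = fun i => ((p : K i) ^ e) / π i := by simp [hφ]
  have hy : ∀ i, π i * ((p : K i) ^ e / π i) = algebraMap ℤ (K i) q := by
    intro i
    have := hπ0 i
    rw [hq]
    field_simp
    simp
  let φi : ∀ i, A →ₐ[ℤ] K i := fun i => (Pi.evalAlgHom ℤ K i).comp φ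
  have hφi : ∀ i f, φi i f = φ f i := fun i f => rfl
  have hφi0 : ∀ i, φi i (MvPolynomial.X 0) = π i := by
    intro i; rw [hφi, hφ0]
  have hφi1 : ∀ i, φi i (MvPolynomial.X 1) = (p : K i) ^ e / π i := by
    intro i; rw [hφi, hφ1]
  have hker : ∀ f, f ∈ RingHom.ker φ ↔ ∀ i, φi i f = 0 := by
    intro f
    rw [RingHom.mem_ker]
    constructor
    · intro h0 i; rw [hφi, h0]; rfl
    · intro h0; funext i; exact h0 i
  have hgenker : ∀ i, φi i (MvPolynomial.X 0 * MvPolynomial.X 1 - MvPolynomial.C q) = 0 := by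
    intro i
    rw [map_sub, map_mul, hφi0, hφi1, hy i, ← MvPolynomial.algebraMap_eq, AlgHom.commutes]
    simp
  have hIker : I q ≤ RingHom.ker φ := by
    unfold I
    rw [Ideal.span_le]
    intro x hx
    rw [Set.mem_singleton_iff] at hx
    rw [hx]
    exact (hker _).2 hgenker
  have hhker : h ∈ RingHom.ker φ := by
    rw [hker]
    intro i
    have h1 := (hker _).1 (hIker hhI) i
    rw [map_sub, map_mul, map_pow, hφi0, ← Polynomial.aeval_algHom_apply, hφi0] at h1
    have h2 : aeval (π i) Pw = 0 := by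
      rw [hPw, map_prod]
      exact Finset.prod_eq_zero (Finset.mem_univ i) (minpoly.aeval ℤ (π i))
    rw [h2, sub_zero] at h1
    rcases mul_eq_zero.1 h1 with h3 | h3
    · exact absurd h3 (pow_ne_zero _ (hπ0 i))
    · exact h3
  have hJker : J q h ≤ RingHom.ker φ := J_le q h _ hIker hhker
  refine ⟨?_, ?_⟩
  · apply le_antisymm
    · intro f hf
      obtain ⟨a', b', ha', hb', hfJ⟩ := span_mod q D h a b ε hε hab haD haz hb hbu f
      have h1 : nf a' b' ∈ RingHom.ker φ := by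
        have : nf a' b' = f - (f - nf a' b') := by ring
        rw [this]
        exact Ideal.sub_mem _ hf (hJker hfJ)
      have h2 : ∀ i, aeval (π i) a' + ((p : K i) ^ e / π i) *
          aeval ((p : K i) ^ e / π i) b' = 0 := by
        intro i
        have := (hker _).1 h1 i
        rw [map_nf, hφi0, hφi1] at this
        exact this
      obtain ⟨ha0, hb0⟩ := indep π hint hinj q hq0 D hD (fun i => (p : K i) ^ e / π i) hy
        a' b' ha' hb' h2
      rw [ha0, hb0, nf_zero, sub_zero] at hfJ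
      exact hfJ
    · exact hJker
  · rw [RingTheory.Sequence.isWeaklyRegular_cons_iff,
      RingTheory.Sequence.isWeaklyRegular_singleton_iff]
    refine ⟨?_, ?_⟩
    · exact (IsRegular.of_ne_zero (gen_ne_zero q hq0)).left.isSMulRegular
    · rw [isSMulRegular_iff_right_eq_zero_of_smul]
      intro x hx
      obtain ⟨g, rfl⟩ := Submodule.Quotient.mk_surjective _ x
      rw [← Submodule.Quotient.mk_smul, Submodule.Quotient.mk_eq_zero] at hx
      rw [Submodule.Quotient.mk_eq_zero]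
      rw [mem_smul_top_iff] at hx ⊢
      exact regular_mod_I q hq0 h g hψne hx

end Groth.Agent.H9.Wn
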