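import Mathlib
set_option autoImplicit false
set_option linter.unusedSectionVars false
set_option linter.unusedVariables false
open Polynomial

namespace Groth.Agent.H9.Wn

open scoped ComplexConjugate in
/-- general functional equation of a Weil polynomial. -/
theorem recip (P : ℤ[X]) (hP : P.Monic) (q : ℕ) (hq : 0 < q)
    (hweil : ∀ z ∈ P.aroots ℂ, ‖z‖ = Real.sqrt (q : ℝ)) :
    ∀ i ≤ P.natDegree,
      P.coeff (P.natDegree - i) * (q : ℤ) ^ (P.natDegree - i) = P.coeff 0 * P.coeff i := by
  classical
  set Pc : ℂ[X] := P.map (algebraMap ℤ ℂ) with hPc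
  have hmon : Pc.Monic := hP.map _
  have hsplit : Pc.Splits := IsAlgClosed.splits Pc
  set S : Multiset ℂ := Pc.roots with hS
  have hSa : P.aroots ℂ = S := rfl
  rw [hSa] at hweil
  have hn : Pc.natDegree = P.natDegree := hP.natDegree_map _
  have hcard : S.card = P.natDegree := by
    rw [← hn]; exact hsplit.natDegree_eq_card_roots.symm
  have hcoeff : ∀ i, Pc.coeff i = (P.coeff i : ℂ) := by
    intro i; rw [hPc, coeff_map]; simp
  have hconj : S.map (starRingEnd ℂ) = S := by
    have : Pc.map (starRingEnd ℂ) = Pc := by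
      rw [hPc, Polynomial.map_map]; congr 1; ext; simp
    rw [← hsplit.roots_map (starRingEnd ℂ), this]
  have hqpos : (0 : ℝ) < q := by exact_mod_cast hq
  have hqne : (q : ℂ) ≠ 0 := by exact_mod_cast hq.ne'
  have hnorm : ∀ z ∈ S, z * conj z = (q : ℂ) := by
    intro z hz
    rw [Complex.mul_conj', hweil z hz]
    norm_cast
    rw [Real.sq_sqrt hqpos.le]
  have hevalP : ∀ y : ℂ, Pc.eval y = (S.map (fun z => y - z)).prod := by
    intro y
    rw [hsplit.eval_eq_prod_roots, hmon.leadingCoeff, one_mul]
  have hfe : ∀ x : ℂ, x ≠ 0 →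
      x ^ P.natDegree * Pc.eval ((q : ℂ) / x) = Pc.eval 0 * Pc.eval x := by
    intro x hx
    have e1 : x ^ P.natDegree * Pc.eval ((q : ℂ) / x) = (S.map (fun z => (q : ℂ) - x * z)).prod := by
      rw [hevalP, ← hcard]
      have : (S.map (fun z => x * ((q : ℂ) / x - z))).prod
          = (S.map (fun _ => x)).prod * (S.map (fun z => (q : ℂ) / x - z)).prod :=
        Multiset.prod_map_mul
      rw [Multiset.map_const', Multiset.prod_replicate] at this
      rw [← this]
      congr 1
      apply Multiset.map_congr rfl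
      intro z _
      field_simp
    have e2 : Pc.eval 0 * Pc.eval x = (S.map (fun z => (q : ℂ) - x * z)).prod := by
      have hA : Pc.eval 0 = (S.map (fun z => -z)).prod := by
        rw [hevalP]
        simp only [zero_sub]
      have hB : Pc.eval x = (S.map (fun z => x - conj z)).prod := by
        rw [hevalP]
        conv_lhs => rw [← hconj]
        rw [Multiset.map_map]
        rfl
      rw [hA, hB, ← Multiset.prod_map_mul]
      congr 1
      apply Multiset.map_congr rfl
      intro z hz
      have := hnorm z hz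
      linear_combination this
    rw [e1, e2]
  obtain ⟨n, hn'⟩ : ∃ n, n = P.natDegree := ⟨_, rfl⟩
  rw [← hn'] at hfe hn
  set Q : ℂ[X] := ∑ i ∈ Finset.range (n + 1),
    C ((P.coeff (n - i) : ℂ) * (q : ℂ) ^ (n - i)) * X ^ i with hQ
  have hQeval : ∀ x : ℂ, x ≠ 0 → Q.eval x = (C (Pc.eval 0) * Pc).eval x := by
    intro x hx
    rw [eval_mul, eval_C, ← hfe x hx]
    rw [hQ, eval_finsetSum]
    simp only [eval_mul, eval_C, eval_pow, eval_X]
    rw [eval_eq_sum_range, hn, Finset.mul_sum]
    rw [← Finset.sum_range_reflect]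
    refine Finset.sum_congr rfl fun j hj => ?_
    rw [Finset.mem_range] at hj
    have h1 : n + 1 - 1 - j = n - j := by omega
    have h2 : n - (n - j) = j := by omega
    rw [h1, h2, hcoeff, div_pow]
    have : x ^ n = x ^ (n - j) * x ^ j := by rw [← pow_add]; congr 1; omega
    rw [this]; field_simp
  have hQeq : Q = C (Pc.eval 0) * Pc := by
    apply eq_of_infinite_eval_eq
    apply Set.Infinite.mono (s := {0}ᶜ)
    · intro x hx; exact hQeval x hx
    · exact (Set.finite_singleton (0 : ℂ)).infinite_compl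
  have hQcoeff : ∀ i ≤ n, Q.coeff i = (P.coeff (n - i) : ℂ) * (q : ℂ) ^ (n - i) := by
    intro i hi
    rw [hQ, finsetSum_coeff]
    simp only [coeff_C_mul, coeff_X_pow]
    rw [Finset.sum_eq_single i]
    · simp
    · intro j _ hj; rw [if_neg (Ne.symm hj)]; simp
    · intro h; exact absurd (Finset.mem_range.mpr (by omega)) h
  rw [← hn']
  intro i hi
  have h1 := hQcoeff i hi
  rw [hQeq, coeff_C_mul, hcoeff, ← coeff_zero_eq_eval_zero, hcoeff] at h1
  have h5 : ((P.coeff (n - i) * (q : ℤ) ^ (n - i) : ℤ) : ℂ) = ((P.coeff 0 * P.coeff i : ℤ) : ℂ) := by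
    push_cast
    rw [← h1]
  exact_mod_cast h5

end Groth.Agent.H9.Wn
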