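import Mathlib
import Groth.Agent.Lib.Helper9.Misc.WnD
import Groth.Agent.Lib.Helper9.Misc.WnE
set_option autoImplicit false
set_option linter.unusedSectionVars false
set_option linter.unusedVariables false

namespace Groth.Agent.H9.Wn
open Polynomial LaurentPolynomial

universe u

noncomputable def hA (D : ℕ) (Pw : ℤ[X]) : ℤ[X] :=
  ∑ i ∈ Finset.range (D + 1), Polynomial.C (Pw.coeff (i + D)) * X ^ i

noncomputable def hB (D : ℕ) (ε : ℤ) (Pw : ℤ[X]) : ℤ[X] :=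
  ∑ k ∈ Finset.range D, Polynomial.C (ε * Pw.coeff (D + 1 + k)) * X ^ k

lemma hA_coeff (D : ℕ) (Pw : ℤ[X]) (hdeg : Pw.natDegree = 2 * D) (i : ℕ) :
    (hA D Pw).coeff i = Pw.coeff (i + D) := by
  unfold hA
  rw [finsetSum_coeff]
  simp only [coeff_C_mul, coeff_X_pow]
  by_cases hi : i ≤ D
  · rw [Finset.sum_eq_single i]
    · simp
    · intro j _ hj; rw [if_neg (Ne.symm hj)]; simp
    · intro h; exact absurd (Finset.mem_range.mpr (by omega)) h
  · rw [Finset.sum_eq_zero]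
    · symm; exact coeff_eq_zero_of_natDegree_lt (by omega)
    · intro j hj
      rw [Finset.mem_range] at hj
      rw [if_neg (by omega)]; simp

lemma hB_coeff (D : ℕ) (ε : ℤ) (Pw : ℤ[X]) (k : ℕ) :
    (hB D ε Pw).coeff k = if k < D then ε * Pw.coeff (D + 1 + k) else 0 := by
  unfold hB
  rw [finsetSum_coeff]
  simp only [coeff_C_mul, coeff_X_pow]
  by_cases hk : k < D
  · rw [if_pos hk, Finset.sum_eq_single k]
    · simp
    · intro j _ hj; rw [if_neg (Ne.symm hj)]; simp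
    · intro h; exact absurd (Finset.mem_range.mpr hk) h
  · rw [if_neg hk, Finset.sum_eq_zero]
    intro j hj
    rw [Finset.mem_range] at hj
    rw [if_neg (by omega)]; simp

lemma h_exists (q : ℤ) (hq : q ≠ 0) (D : ℕ) (Pw : ℤ[X]) (hdeg : Pw.natDegree = 2 * D)
    (ε : ℤ) (hε : ε * ε = 1) (hc0 : Pw.coeff 0 = ε * q ^ D)
    (hfe : ∀ i ≤ 2 * D, Pw.coeff (2 * D - i) * q ^ (2 * D - i) = Pw.coeff 0 * Pw.coeff i) :
    MvPolynomial.X 0 ^ D * nf (hA D Pw) (hB D ε Pw) - aeval (MvPolynomial.X 0 : A) Pw ∈ I q := by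
  have kf : ∀ k, k < D → Pw.coeff (D - 1 - k) = q ^ (k + 1) * (ε * Pw.coeff (D + 1 + k)) := by
    intro k hk
    have h1 := hfe (D - 1 - k) (by omega)
    have e1 : 2 * D - (D - 1 - k) = D + 1 + k := by omega
    have e2 : q ^ (D + 1 + k) = q ^ D * q ^ (k + 1) := by rw [← pow_add]; congr 1; omega
    rw [e1, e2, hc0] at h1
    apply mul_left_cancel₀ (pow_ne_zero D hq)
    linear_combination (-ε) * h1 - (q ^ D * Pw.coeff (D - 1 - k)) * hε
  rw [mem_I_iff q hq, map_sub, sub_eq_zero, map_mul, map_pow, ψ_X0, ψ_aeval_X0, T_pow, mul_one,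
    mul_comm]
  ext n
  rw [coeff_mul_T]
  rcases lt_or_ge (n - (D : ℤ)) 0 with hm | hm
  · obtain ⟨k, hk⟩ : ∃ k : ℕ, n - (D : ℤ) = -((k : ℤ) + 1) := ⟨(-(n - (D : ℤ)) - 1).toNat, by omega⟩
    rw [hk, coeff_ψ_nf_neg, hB_coeff]
    by_cases hkD : k < D
    · rw [if_pos hkD, ← kf k hkD]
      have e : n = (((D - 1 - k : ℕ)) : ℤ) := by omega
      rw [e, coeff_toLaurent_nat]
    · rw [if_neg hkD, mul_zero, coeff_toLaurent_neg _ _ (by omega)]
  · obtain ⟨i, hi⟩ := Int.eq_ofNat_of_zero_le hm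
    rw [hi, coeff_ψ_nf_nat, hA_coeff D Pw hdeg]
    have e : n = (((i + D : ℕ)) : ℤ) := by push_cast; omega
    rw [e, coeff_toLaurent_nat]

section fam
variable (p e : ℕ) [Fact p.Prime] (he : 0 < e)
  (ι : Type) [Fintype ι] (K : ι → Type u) [∀ i, Field (K i)] [∀ i, CharZero (K i)]
  (π : ∀ i, K i) (hint : ∀ i, IsIntegral ℤ (π i))
  (hweil : ∀ i, ∀ z ∈ (minpoly ℤ (π i)).aroots ℂ, ‖z‖ = Real.sqrt ((p : ℝ) ^ e))
  (hinj : ∀ i j, minpoly ℤ (π i) = minpoly ℤ (π j) → i = j)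
  (D : ℕ) (hD : ∑ i, (minpoly ℤ (π i)).natDegree = 2 * D)

include hint hweil hD in
lemma weil_data :
    (∀ i ≤ 2 * D, (∏ i, minpoly ℤ (π i)).coeff (2 * D - i) * ((p : ℤ) ^ e) ^ (2 * D - i) =
      (∏ i, minpoly ℤ (π i)).coeff 0 * (∏ i, minpoly ℤ (π i)).coeff i) ∧
    (∃ ε : ℤ, ε * ε = 1 ∧ (∏ i, minpoly ℤ (π i)).coeff 0 = ε * ((p : ℤ) ^ e) ^ D) ∧
    (∀ i, π i ≠ 0) := by
  set Pw := ∏ i, minpoly ℤ (π i) with hPw
  have hmonic : Pw.Monic := monic_prod_of_monic _ _ (fun i _ => minpoly.monic (hint i))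
  have hdeg : Pw.natDegree = 2 * D := by
    rw [hPw, natDegree_prod_of_monic _ _ (fun i _ => minpoly.monic (hint i)), hD]
  have hp : (p : ℤ) ≠ 0 := by exact_mod_cast (Fact.out : p.Prime).ne_zero
  have hq0 : ((p : ℤ) ^ e) ≠ 0 := pow_ne_zero _ hp
  have hqpos : 0 < p ^ e := pow_pos (Fact.out : p.Prime).pos e
  have hw : ∀ z ∈ Pw.aroots ℂ, ‖z‖ = Real.sqrt ((p ^ e : ℕ) : ℝ) := by
    intro z hz
    rw [mem_aroots] at hz
    have h1 := hz.2
    rw [hPw, map_prod, Finset.prod_eq_zero_iff] at h1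
    obtain ⟨i, -, hi⟩ := h1
    have h2 : z ∈ (minpoly ℤ (π i)).aroots ℂ := by
      rw [mem_aroots]; exact ⟨(minpoly.monic (hint i)).ne_zero, hi⟩
    rw [hweil i z h2]
    push_cast
    rfl
  have hfe0 := recip Pw hmonic (p ^ e) hqpos hw
  rw [hdeg] at hfe0
  have hfe : ∀ i ≤ 2 * D, Pw.coeff (2 * D - i) * ((p : ℤ) ^ e) ^ (2 * D - i) =
      Pw.coeff 0 * Pw.coeff i := by
    intro i hi
    have := hfe0 i hi
    push_cast at this
    exact this
  have hε : ∃ ε : ℤ, ε * ε = 1 ∧ Pw.coeff 0 = ε * ((p : ℤ) ^ e) ^ D := by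
    have h1 := hfe 0 (Nat.zero_le _)
    rw [Nat.sub_zero, ← hdeg, hmonic.coeff_natDegree, one_mul, hdeg] at h1
    have h2 : (Pw.coeff 0) ^ 2 = (((p : ℤ) ^ e) ^ D) ^ 2 := by
      rw [sq, ← h1]; ring
    rcases sq_eq_sq_iff_eq_or_eq_neg.1 h2 with h3 | h3
    · exact ⟨1, by ring, by rw [h3]; ring⟩
    · exact ⟨-1, by ring, by rw [h3]; ring⟩
  refine ⟨hfe, hε, ?_⟩
  intro i h0
  obtain ⟨ε, hε1, hε2⟩ := hε
  have h1 : (minpoly ℤ (π i)).coeff 0 = 0 := by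
    have h2 := minpoly.aeval ℤ (π i)
    have key : ∀ x : K i, x = 0 → aeval x (minpoly ℤ (π i)) = 0 →
        (minpoly ℤ (π i)).coeff 0 = 0 := by
      intro x hx hx2
      subst hx
      rw [← coeff_zero_eq_aeval_zero'] at hx2
      simpa using hx2
    exact key (π i) h0 h2
  have h2 : Pw.coeff 0 = 0 := by
    rw [hPw, coeff_zero_prod]
    exact Finset.prod_eq_zero (Finset.mem_univ i) h1
  rw [h2] at hε2
  have h3 : ε ≠ 0 := by
    intro h; rw [h] at hε1; simp at hε1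
  exact (mul_ne_zero h3 (pow_ne_zero D hq0)) hε2.symm

include he hint hweil hinj hD in
theorem struct :
    ∃ h : A, RingHom.ker (MvPolynomial.aeval ![fun i => π i, fun i => ((p : K i) ^ e) / π i] :
        MvPolynomial (Fin 2) ℤ →ₐ[ℤ] ((i : ι) → K i)) = J ((p : ℤ) ^ e) h ∧
      ψ ((p : ℤ) ^ e) h ≠ 0 ∧
      (∀ f : A, ∃ a' b' : ℤ[X], (∀ m, D ≤ m → a'.coeff m = 0) ∧ (∀ m, D ≤ m → b'.coeff m = 0) ∧
        f - nf a' b' ∈ RingHom.ker (MvPolynomial.aeval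
          ![fun i => π i, fun i => ((p : K i) ^ e) / π i] :
          MvPolynomial (Fin 2) ℤ →ₐ[ℤ] ((i : ι) → K i))) ∧
      (∀ a' b' : ℤ[X], (∀ m, D ≤ m → a'.coeff m = 0) → (∀ m, D ≤ m → b'.coeff m = 0) →
        nf a' b' ∈ RingHom.ker (MvPolynomial.aeval
          ![fun i => π i, fun i => ((p : K i) ^ e) / π i] :
          MvPolynomial (Fin 2) ℤ →ₐ[ℤ] ((i : ι) → K i)) → a' = 0 ∧ b' = 0) := by
  obtain ⟨hfe, ⟨ε, hε, hc0⟩, hπ0⟩ := weil_data p e ι K π hint hweil D hD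
  set q : ℤ := (p : ℤ) ^ e with hq
  have hp : (p : ℤ) ≠ 0 := by exact_mod_cast (Fact.out : p.Prime).ne_zero
  have hq0 : q ≠ 0 := pow_ne_zero _ hp
  set Pw := ∏ i, minpoly ℤ (π i) with hPw
  have hmonic : Pw.Monic := monic_prod_of_monic _ _ (fun i _ => minpoly.monic (hint i))
  have hdeg : Pw.natDegree = 2 * D := by
    rw [hPw, natDegree_prod_of_monic _ _ (fun i _ => minpoly.monic (hint i)), hD]
  set h : A := nf (hA D Pw) (hB D ε Pw) with hh
  have hhI : MvPolynomial.X 0 ^ D * h - aeval (MvPolynomial.X 0 : A) Pw ∈ I q :=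
    h_exists q hq0 D Pw hdeg ε hε hc0 hfe
  obtain ⟨hker, -⟩ := main p e he ι K π hint hweil hinj D hD h hhI
  set φ : A →ₐ[ℤ] ((i : ι) → K i) :=
    MvPolynomial.aeval ![fun i => π i, fun i => ((p : K i) ^ e) / π i] with hφ
  have hkerJ : RingHom.ker φ = J q h := hker
  refine ⟨h, hkerJ, ?_, ?_, ?_⟩
  · -- ψ h ≠ 0
    intro h0
    have h1 := I_le_ker q hhI
    rw [RingHom.mem_ker, map_sub, sub_eq_zero, map_mul, h0, mul_zero, ψ_aeval_X0] at h1
    exact hmonic.ne_zero (toLaurent_eq_zero.1 h1.symm)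
  · intro f
    rw [hkerJ]
    refine span_mod q D h (hA D Pw) (hB D ε Pw) ε hε ?_ ?_ ?_ ?_ ?_ f
    · rw [hh, sub_self]; exact Ideal.zero_mem _
    · rw [hA_coeff D Pw hdeg, ← two_mul, ← hdeg]; exact hmonic.coeff_natDegree
    · intro m hm
      rw [hA_coeff D Pw hdeg]
      exact coeff_eq_zero_of_natDegree_lt (by omega)
    · intro m hm
      rw [hB_coeff, if_neg (by omega)]
    · intro hDpos
      rw [hB_coeff, if_pos (by omega)]
      have e1 : D + 1 + (D - 1) = Pw.natDegree := by omega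
      rw [e1, hmonic.coeff_natDegree, mul_one]
  · intro a' b' ha' hb' hmem
    have hy : ∀ i, π i * ((p : K i) ^ e / π i) = algebraMap ℤ (K i) q := by
      intro i
      have := hπ0 i
      rw [hq]
      field_simp
      simp
    have hφ0 : φ (MvPolynomial.X 0) = fun i => π i := by simp [hφ]
    have hφ1 : φ (MvPolynomial.X 1) = fun i => ((p : K i) ^ e) / π i := by simp [hφ]
    let φi : ∀ i, A →ₐ[ℤ] K i := fun i => (Pi.evalAlgHom ℤ K i).comp φ
    have hφi : ∀ i f, φi i f = φ f i := fun i f => rfl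
    have h2 : ∀ i, aeval (π i) a' + ((p : K i) ^ e / π i) *
        aeval ((p : K i) ^ e / π i) b' = 0 := by
      intro i
      have h3 : φi i (nf a' b') = 0 := by
        rw [hφi, (RingHom.mem_ker).1 hmem]; rfl
      rw [map_nf, hφi, hφi, hφ0, hφ1] at h3
      exact h3
    exact indep π hint hinj q hq0 D hD (fun i => (p : K i) ^ e / π i) hy a' b' ha' hb' h2

end fam

end Groth.Agent.H9.Wn
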