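import Mathlib
import Groth.Agent.Lib.Helper9.Misc.WnF
import Groth.Agent.Lib.Helper9.Misc.FinComp
import Groth.Agent.Lib.Helper6.RelNN
set_option autoImplicit false
set_option linter.unusedSectionVars false
set_option linter.unusedVariables false

namespace Groth.Agent.H9.Wn
open Polynomial

universe u

noncomputable def pc {D : ℕ} (c : Fin D → ℤ) : ℤ[X] :=
  ∑ i : Fin D, Polynomial.C (c i) * X ^ (i : ℕ)

lemma pc_coeff {D : ℕ} (c : Fin D → ℤ) (m : ℕ) :
    (pc c).coeff m = if h : m < D then c ⟨m, h⟩ else 0 := by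
  unfold pc
  rw [finsetSum_coeff]
  simp only [coeff_C_mul, coeff_X_pow]
  by_cases h : m < D
  · rw [dif_pos h, Finset.sum_eq_single ⟨m, h⟩]
    · simp
    · intro j _ hj
      rw [if_neg (fun hm => hj (Fin.ext hm.symm))]; simp
    · intro h'; exact absurd (Finset.mem_univ _) h'
  · rw [dif_neg h, Finset.sum_eq_zero]
    intro j _
    have := j.2
    rw [if_neg (by omega)]; simp

lemma eq_pc {D : ℕ} (a : ℤ[X]) (ha : ∀ m, D ≤ m → a.coeff m = 0) :
    a = pc (fun i : Fin D => a.coeff i) := by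
  ext m
  rw [pc_coeff]
  by_cases h : m < D
  · rw [dif_pos h]
  · rw [dif_neg h, ha m (by omega)]

lemma aeval_pc {S : Type*} [CommRing S] {D : ℕ} (c : Fin D → ℤ) (y : S) :
    aeval y (pc c) = ∑ i : Fin D, c i • y ^ (i : ℕ) := by
  unfold pc
  rw [map_sum]
  apply Finset.sum_congr rfl
  intro i _
  rw [map_mul, aeval_C, map_pow, aeval_X, Algebra.smul_def]

lemma free_finrank {S : Type*} [CommRing S] (ρ : A →ₐ[ℤ] S) (hρ : Function.Surjective ρ) (D : ℕ)
    (h1 : ∀ f : A, ∃ a' b' : ℤ[X], (∀ m, D ≤ m → a'.coeff m = 0) ∧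
      (∀ m, D ≤ m → b'.coeff m = 0) ∧ f - nf a' b' ∈ RingHom.ker ρ)
    (h2 : ∀ a' b' : ℤ[X], (∀ m, D ≤ m → a'.coeff m = 0) → (∀ m, D ≤ m → b'.coeff m = 0) →
      nf a' b' ∈ RingHom.ker ρ → a' = 0 ∧ b' = 0) :
    Module.Free ℤ S ∧ Module.finrank ℤ S = 2 * D ∧ Module.Finite ℤ S := by
  classical
  let v : Fin D ⊕ Fin D → S :=
    Sum.elim (fun i => ρ (MvPolynomial.X 0) ^ (i : ℕ)) (fun j => ρ (MvPolynomial.X 1) ^ ((j : ℕ) + 1))
  have hcomb : ∀ c d : Fin D → ℤ, ρ (nf (pc c) (pc d)) =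
      ∑ i : Fin D, c i • v (Sum.inl i) + ∑ j : Fin D, d j • v (Sum.inr j) := by
    intro c d
    rw [map_nf, aeval_pc, aeval_pc, Finset.mul_sum]
    congr 1
    apply Finset.sum_congr rfl
    intro j _
    show ρ (MvPolynomial.X 1) * (d j • ρ (MvPolynomial.X 1) ^ (j : ℕ)) =
      d j • ρ (MvPolynomial.X 1) ^ ((j : ℕ) + 1)
    rw [mul_smul_comm, pow_succ, mul_comm]
  have hbd : ∀ c : Fin D → ℤ, ∀ m, D ≤ m → (pc c).coeff m = 0 := by
    intro c m hm
    rw [pc_coeff, dif_neg (by omega)]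
  have hli : LinearIndependent ℤ v := by
    rw [Fintype.linearIndependent_iff]
    intro g hg
    rw [Fintype.sum_sum_type] at hg
    have h3 : nf (pc (fun i => g (Sum.inl i))) (pc (fun j => g (Sum.inr j))) ∈ RingHom.ker ρ := by
      rw [RingHom.mem_ker, hcomb]
      exact hg
    obtain ⟨ha0, hb0⟩ := h2 _ _ (hbd _) (hbd _) h3
    intro x
    rcases x with i | j
    · have := congrArg (fun P => P.coeff (i : ℕ)) ha0
      simp only [pc_coeff, dif_pos i.2, coeff_zero] at this
      exact this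
    · have := congrArg (fun P => P.coeff (j : ℕ)) hb0
      simp only [pc_coeff, dif_pos j.2, coeff_zero] at this
      exact this
  have hsp : ⊤ ≤ Submodule.span ℤ (Set.range v) := by
    intro x _
    obtain ⟨f, rfl⟩ := hρ x
    obtain ⟨a', b', ha', hb', hf⟩ := h1 f
    have e1 : ρ f = ρ (nf a' b') := by
      rw [RingHom.mem_ker, map_sub, sub_eq_zero] at hf
      exact hf
    rw [e1, eq_pc a' ha', eq_pc b' hb', hcomb]
    apply Submodule.add_mem
    · apply Submodule.sum_mem
      intro i _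
      exact Submodule.smul_mem _ _ (Submodule.subset_span ⟨Sum.inl i, rfl⟩)
    · apply Submodule.sum_mem
      intro j _
      exact Submodule.smul_mem _ _ (Submodule.subset_span ⟨Sum.inr j, rfl⟩)
  let B := Module.Basis.mk hli hsp
  refine ⟨Module.Free.of_basis B, ?_, Module.Finite.of_basis B⟩
  rw [Module.finrank_eq_card_basis B, Fintype.card_sum, Fintype.card_fin]
  ring

/-- Krull dimension one for finite `ℤ`-algebras of characteristic zero. -/
lemma krullDim_one {S : Type*} [CommRing S] [Module.Finite ℤ S]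
    (hinj : Function.Injective (algebraMap ℤ S)) : ringKrullDim S = 1 := by
  haveI : Algebra.IsIntegral ℤ S := Algebra.IsIntegral.of_finite ℤ S
  have hZ : ringKrullDim ℤ = 1 :=
    IsPrincipalIdealRing.ringKrullDim_eq_one ℤ Int.not_isField
  apply le_antisymm
  · rw [← hZ]
    exact Groth.Agent.H9.FinComp.ringKrullDim_le_of_isIntegral ℤ S
  · rw [← hZ]
    exact Groth.Agent.H6.RelNN.ringKrullDim_le_of_isIntegral_injective (algebraMap ℤ S)
      (algebraMap_isIntegral_iff.2 inferInstance) hinj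

end Groth.Agent.H9.Wn
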