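import Mathlib
import Groth.Prelude.Def_CAlg
import Groth.Agent.Lib.Helper9.Misc.WnG
import Groth.Agent.Lib.Helper2.GorTransfer
set_option autoImplicit false
set_option linter.unusedSectionVars false
set_option linter.unusedVariables false

namespace Groth.Agent.H9.Wn
open Polynomial

universe u

theorem gor_of_ringEquiv {R S : Type u} [CommRing R] [CommRing S] (e : R ≃+* S)
    [hR : LocCoh.IsGorensteinRing R] : LocCoh.IsGorensteinRing S := by
  haveI : IsNoetherianRing S := isNoetherianRing_of_ringEquiv R e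
  refine { isGorensteinLocalRing_localization := fun q hq => ?_ }
  set p := q.comap (e : R →+* S) with hp
  haveI : p.IsPrime := Ideal.comap_isPrime _ _
  haveI := hR.isGorensteinLocalRing_localization p
  have hmap : p.primeCompl.map e.toMonoidHom = q.primeCompl := by
    ext y
    constructor
    · rintro ⟨x, hx, rfl⟩
      exact hx
    · intro hy
      refine ⟨e.symm y, ?_, by simp⟩
      show e.symm y ∉ p
      rw [hp, Ideal.mem_comap]
      simpa using hy
  exact Groth.Agent.H2.GorTransfer.gorLocal_of_ringEquiv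
    (IsLocalization.ringEquivOfRingEquiv (Localization.AtPrime p) (Localization.AtPrime q) e hmap)

theorem gor_of_regular (R : Type u) [CommRing R] [IsRegularRing R] : LocCoh.IsGorensteinRing R where
  isGorensteinLocalRing_localization := fun p _ => Groth.Agent.S0342.result _

theorem gor_of_ci_aux {S : Type u} [CommRing S] (q : ℤ) (hq : q ≠ 0) (h : A) (hψ : ψ q h ≠ 0)
    (ρ : A →+* S) (hρ : Function.Surjective ρ) (hker : RingHom.ker ρ = J q h)
    (B : Type u) [CommRing B] (eB : B ≃+* A) [IsRegularRing B] :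
    LocCoh.IsGorensteinRing S := by
  haveI : LocCoh.IsGorensteinRing B := gor_of_regular B
  set gen : A := MvPolynomial.X 0 * MvPolynomial.X 1 - MvPolynomial.C q with hgen
  set g1 : B := eB.symm gen with hg1
  set h' : B := eB.symm h with hh'
  have hgenker : ρ gen = 0 := by
    have : gen ∈ RingHom.ker ρ := by rw [hker]; exact I_le_J q h (gen_mem_I q)
    exact this
  have hhker : ρ h = 0 := by
    have : h ∈ RingHom.ker ρ := by rw [hker]; exact h_mem_J q h
    exact this
  have reg1 : IsSMulRegular B g1 := by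
    rw [isSMulRegular_iff_right_eq_zero_of_smul]
    intro x hx
    have h1 : eB (g1 * x) = 0 := by rw [← smul_eq_mul, hx, map_zero]
    rw [map_mul, hg1, RingEquiv.apply_symm_apply] at h1
    rcases mul_eq_zero.1 h1 with h2 | h2
    · exact absurd h2 (gen_ne_zero q hq)
    · exact (map_eq_zero_iff eB eB.injective).1 h2
  haveI G1 : LocCoh.IsGorensteinRing (B ⧸ Ideal.span {g1}) :=
    Groth.Agent.H2.GorTransfer.gor_quot_of_regular g1 reg1
  set h1 : B ⧸ Ideal.span {g1} := Ideal.Quotient.mk _ h' with hh1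
  have reg2 : IsSMulRegular (B ⧸ Ideal.span {g1}) h1 := by
    rw [isSMulRegular_iff_right_eq_zero_of_smul]
    intro x hx
    obtain ⟨y, rfl⟩ := Ideal.Quotient.mk_surjective x
    rw [smul_eq_mul, hh1, ← map_mul, Ideal.Quotient.eq_zero_iff_mem,
      Ideal.mem_span_singleton'] at hx
    obtain ⟨c, hc⟩ := hx
    have h2 : h * eB y ∈ I q := by
      have := congrArg eB hc
      rw [map_mul, map_mul, hg1, hh', RingEquiv.apply_symm_apply,
        RingEquiv.apply_symm_apply] at this
      rw [← this]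
      exact Ideal.mul_mem_left _ _ (gen_mem_I q)
    have h3 := regular_mod_I q hq h (eB y) hψ h2
    unfold I at h3
    rw [Ideal.mem_span_singleton'] at h3
    obtain ⟨d, hd⟩ := h3
    rw [Ideal.Quotient.eq_zero_iff_mem, Ideal.mem_span_singleton']
    refine ⟨eB.symm d, ?_⟩
    apply eB.injective
    rw [map_mul, hg1, RingEquiv.apply_symm_apply, RingEquiv.apply_symm_apply]
    exact hd
  haveI G2 : LocCoh.IsGorensteinRing ((B ⧸ Ideal.span {g1}) ⧸ Ideal.span {h1}) :=
    Groth.Agent.H2.GorTransfer.gor_quot_of_regular h1 reg2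
  let ρB : B →+* S := ρ.comp eB.toRingHom
  have hρB : ∀ y : B, ρB y = ρ (eB y) := fun y => rfl
  have H1 : ∀ a ∈ Ideal.span {g1}, ρB a = 0 := by
    intro a ha
    rw [Ideal.mem_span_singleton'] at ha
    obtain ⟨c, rfl⟩ := ha
    rw [map_mul, hρB g1, hg1, RingEquiv.apply_symm_apply, hgenker, mul_zero]
  let ρ1 : B ⧸ Ideal.span {g1} →+* S := Ideal.Quotient.lift (Ideal.span {g1}) ρB H1
  have hρ1 : ∀ y : B, ρ1 (Ideal.Quotient.mk _ y) = ρ (eB y) := fun y => rfl
  have H2 : ∀ a ∈ Ideal.span {h1}, ρ1 a = 0 := by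
    intro a ha
    rw [Ideal.mem_span_singleton'] at ha
    obtain ⟨c, rfl⟩ := ha
    rw [map_mul, hh1, hρ1, hh', RingEquiv.apply_symm_apply, hhker, mul_zero]
  let ρ2 : (B ⧸ Ideal.span {g1}) ⧸ Ideal.span {h1} →+* S :=
    Ideal.Quotient.lift (Ideal.span {h1}) ρ1 H2
  have hρ2 : ∀ y : B, ρ2 (Ideal.Quotient.mk _ (Ideal.Quotient.mk _ y)) = ρ (eB y) := fun y => rfl
  have hbij : Function.Bijective ρ2 := by
    constructor
    · rw [injective_iff_map_eq_zero]
      intro x hx
      obtain ⟨x1, rfl⟩ := Ideal.Quotient.mk_surjective x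
      obtain ⟨y, rfl⟩ := Ideal.Quotient.mk_surjective x1
      rw [hρ2] at hx
      have h2 : eB y ∈ J q h := by rw [← hker]; exact hx
      unfold J at h2
      rw [Ideal.mem_span_pair] at h2
      obtain ⟨c, d, hcd⟩ := h2
      rw [Ideal.Quotient.eq_zero_iff_mem, Ideal.mem_span_singleton']
      refine ⟨Ideal.Quotient.mk _ (eB.symm d), ?_⟩
      rw [hh1, ← map_mul, Ideal.Quotient.eq, Ideal.mem_span_singleton']
      refine ⟨-(eB.symm c), ?_⟩
      apply eB.injective
      rw [map_mul, map_neg, map_sub, map_mul, hg1, hh', RingEquiv.apply_symm_apply,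
        RingEquiv.apply_symm_apply, RingEquiv.apply_symm_apply, RingEquiv.apply_symm_apply,
        ← hcd]
      ring
    · intro s
      obtain ⟨f, rfl⟩ := hρ s
      refine ⟨Ideal.Quotient.mk _ (Ideal.Quotient.mk _ (eB.symm f)), ?_⟩
      rw [hρ2, RingEquiv.apply_symm_apply]
  exact gor_of_ringEquiv (RingEquiv.ofBijective ρ2 hbij)

theorem gor_of_ci {S : Type u} [CommRing S] (q : ℤ) (hq : q ≠ 0) (h : A) (hψ : ψ q h ≠ 0)
    (ρ : A →+* S) (hρ : Function.Surjective ρ) (hker : RingHom.ker ρ = J q h) :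
    LocCoh.IsGorensteinRing S := by
  haveI : IsRegularRing (ULift.{u} A) :=
    IsRegularRing.of_ringEquiv (ULift.ringEquiv (R := A)).symm
  exact gor_of_ci_aux q hq h hψ ρ hρ hker (ULift.{u} A) ULift.ringEquiv

theorem main2 (p e : ℕ) [Fact p.Prime] (he : 0 < e)
    (ι : Type) [Fintype ι] (K : ι → Type u) [∀ i, Field (K i)] [∀ i, CharZero (K i)]
    (π : ∀ i, K i)
    (hint : ∀ i, IsIntegral ℤ (π i))
    (hweil : ∀ i, ∀ z ∈ (minpoly ℤ (π i)).aroots ℂ, ‖z‖ = Real.sqrt ((p : ℝ) ^ e))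
    (hinj : ∀ i j, minpoly ℤ (π i) = minpoly ℤ (π j) → i = j)
    [Nonempty ι] (D : ℕ) (hD : ∑ i, (minpoly ℤ (π i)).natDegree = 2 * D) :
    Module.Free ℤ (MvPolynomial.aeval ![fun i => π i, fun i => ((p : K i) ^ e) / π i] :
        MvPolynomial (Fin 2) ℤ →ₐ[ℤ] ((i : ι) → K i)).range ∧
      Module.finrank ℤ (MvPolynomial.aeval ![fun i => π i, fun i => ((p : K i) ^ e) / π i] :
        MvPolynomial (Fin 2) ℤ →ₐ[ℤ] ((i : ι) → K i)).range = 2 * D ∧
      ringKrullDim (MvPolynomial.aeval ![fun i => π i, fun i => ((p : K i) ^ e) / π i] :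
        MvPolynomial (Fin 2) ℤ →ₐ[ℤ] ((i : ι) → K i)).range = 1 ∧
      LocCoh.IsGorensteinRing (MvPolynomial.aeval
        ![fun i => π i, fun i => ((p : K i) ^ e) / π i] :
        MvPolynomial (Fin 2) ℤ →ₐ[ℤ] ((i : ι) → K i)).range := by
  obtain ⟨h, hker, hψ, h1, h2⟩ := struct p e he ι K π hint hweil hinj D hD
  set φ : A →ₐ[ℤ] ((i : ι) → K i) :=
    MvPolynomial.aeval ![fun i => π i, fun i => ((p : K i) ^ e) / π i] with hφ
  have hp : (p : ℤ) ≠ 0 := by exact_mod_cast (Fact.out : p.Prime).ne_zero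
  have hq0 : ((p : ℤ) ^ e) ≠ 0 := pow_ne_zero _ hp
  let ρ : @AlgHom ℤ A φ.range _ _ _ _ (Ring.toIntAlgebra _) := φ.rangeRestrict
  have hρs : Function.Surjective ρ := φ.rangeRestrict_surjective
  have hρk : RingHom.ker ρ = RingHom.ker φ := φ.ker_rangeRestrict
  obtain ⟨hfree, hrank, hfin⟩ := free_finrank ρ hρs D (by rw [hρk]; exact h1)
    (by rw [hρk]; exact h2)
  haveI := hfin
  refine ⟨hfree, hrank, ?_, ?_⟩
  · apply krullDim_one
    rw [injective_iff_map_eq_zero]
    intro n hn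
    obtain ⟨i0⟩ := (inferInstance : Nonempty ι)
    have h3 := congrArg (fun x : φ.range => (x : (i : ι) → K i) i0) hn
    simp at h3
    exact h3
  · exact gor_of_ci ((p : ℤ) ^ e) hq0 h hψ (ρ : A →+* φ.range) hρs (by
      show RingHom.ker ρ = _
      rw [hρk, hker])

end Groth.Agent.H9.Wn
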