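import Mathlib
import Groth.Prelude.Def_Disc
import Groth.Prelude.Def_CAlg
import Groth.Agent.Lib.Helper8.QFD.I
import Groth.Agent.Lib.Helper6.LinkE
import Groth.Agent.Lib.Helper9.Misc.WnH
import Groth.Agent.Lib.Helper9.Misc.CommonZero
import Groth.Agent.Lib.Helper5.CA.RegHom1

/-!
# Dualizing module of a zero-dimensional global complete intersection over a field (helper9)

`k[x_1..x_n]/(f_1..f_n)` of dimension zero is Gorenstein, so `Hom_k(B,k) ≅ B`.
-/

set_option autoImplicit false
set_option linter.unusedSectionVars false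
set_option linter.unusedVariables false
set_option linter.style.haveILetI false

noncomputable section
universe u
open TensorProduct

namespace Groth.Agent.H9.GciOm

theorem fiber_gor (k : Type u) [Field k] (B : Type u) [CommRing B] [Algebra k B]
    [hB : LocCoh.IsGorensteinRing B] (p : Ideal k) [hp : p.IsPrime] :
    LocCoh.IsGorensteinRing (p.Fiber B) := by
  haveI : p.IsMaximal := by
    rcases Ideal.eq_bot_or_top p with h | h
    · rw [h]; exact Ideal.bot_isMaximal
    · exact absurd h hp.ne_top
  have hbij : Function.Bijective (algebraMap k p.ResidueField) :=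
    ⟨(algebraMap k p.ResidueField).injective, p.algebraMap_residueField_surjective⟩
  let e1 : k ≃ₐ[k] p.ResidueField := AlgEquiv.ofBijective (Algebra.ofId k p.ResidueField) hbij
  let e2 : k ⊗[k] B ≃ₐ[k] p.ResidueField ⊗[k] B := Algebra.TensorProduct.congr e1 AlgEquiv.refl
  let e3 : k ⊗[k] B ≃ₐ[k] B := Algebra.TensorProduct.lid k B
  exact Groth.Agent.H9.Wn.gor_of_ringEquiv (e3.symm.trans e2).toRingEquiv

theorem krullDimLE (k : Type u) [Field k] (n : ℕ) (f : Fin n → MvPolynomial (Fin n) k)
    (h0 : ringKrullDim (MvPolynomial (Fin n) k ⧸ Ideal.span (Set.range f)) = 0) :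
    Ring.KrullDimLE 0 (MvPolynomial (Fin n) k ⧸ Ideal.span (Set.range f)) :=
  Ring.krullDimLE_iff.mpr (by rw [h0]; simp)

theorem gor_quot (k : Type u) [Field k] (n : ℕ) (f : Fin n → MvPolynomial (Fin n) k)
    (h0 : ringKrullDim (MvPolynomial (Fin n) k ⧸ Ideal.span (Set.range f)) = 0) :
    LocCoh.IsGorensteinRing (MvPolynomial (Fin n) k ⧸ Ideal.span (Set.range f)) := by
  haveI : Algebra.Smooth k (MvPolynomial (Fin n) k) := {}
  haveI : IsRegularRing (MvPolynomial (Fin n) k) :=
    Groth.Agent.H5.RegHom.isRegularRing_of_smooth_field k _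
  haveI : LocCoh.IsGorensteinRing (MvPolynomial (Fin n) k) := Groth.Agent.H9.Wn.gor_of_regular _
  have hJ : Ideal.span (Set.range f) = Ideal.ofList (List.ofFn f) := by
    show _ = Ideal.span {r | r ∈ List.ofFn f}
    congr 1
    ext x
    simp [List.mem_ofFn]
  have hK := krullDimLE k n f h0
  have hmax := Ideal.krullDimLE_zero_quotient_iff_forall_minimalPrimes_isMaximal.mp hK
  have hht : ((List.ofFn f).length : ℕ∞) ≤ (Ideal.ofList (List.ofFn f)).height := by
    rw [List.length_ofFn, ← hJ, Ideal.height_eq_inf_minimalPrimes]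
    refine le_iInf₂ (fun P hP => ?_)
    exact (Groth.Agent.H9.BinF.height_of_isMaximal k n P (hmax P hP)).ge
  have key := Groth.Agent.H6.Link.gor_of_ci (R := MvPolynomial (Fin n) k) (List.ofFn f) hht
  rw [hJ]
  exact key

theorem main (k : Type u) [Field k] (n : ℕ) (f : Fin n → MvPolynomial (Fin n) k)
    (h0 : ringKrullDim (MvPolynomial (Fin n) k ⧸ Ideal.span (Set.range f)) = 0) :
    Nonempty (Disc.Omega k (MvPolynomial (Fin n) k ⧸ Ideal.span (Set.range f))
      ≃ₗ[MvPolynomial (Fin n) k ⧸ Ideal.span (Set.range f)]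
      (MvPolynomial (Fin n) k ⧸ Ideal.span (Set.range f))) := by
  haveI hG := gor_quot k n f h0
  haveI hK := krullDimLE k n f h0
  haveI hfin : Module.Finite k (MvPolynomial (Fin n) k ⧸ Ideal.span (Set.range f)) :=
    (Module.finite_iff_krullDimLE_zero k _).mpr hK
  haveI hinv : Module.Invertible (MvPolynomial (Fin n) k ⧸ Ideal.span (Set.range f))
      (Disc.Omega k (MvPolynomial (Fin n) k ⧸ Ideal.span (Set.range f))) :=
    (Groth.Agent.H8.QFD.invertible_omega_iff_gorenstein_fibres (A := k)
      (B := MvPolynomial (Fin n) k ⧸ Ideal.span (Set.range f))).mp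
      (fun p _ => fiber_gor k _ p)
  haveI : IsArtinianRing (MvPolynomial (Fin n) k ⧸ Ideal.span (Set.range f)) :=
    (Module.finite_iff_isArtinianRing k _).mp hfin
  haveI : Module.Free (MvPolynomial (Fin n) k ⧸ Ideal.span (Set.range f))
      (Disc.Omega k (MvPolynomial (Fin n) k ⧸ Ideal.span (Set.range f))) := inferInstance
  exact Module.Invertible.free_iff_linearEquiv.mp inferInstance

end Groth.Agent.H9.GciOm
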