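import Mathlib

/-! Helper9: generalized eigenspaces of a similitude of a nondegenerate bilinear form -/

namespace Groth.Agent.H9.GenEig

open Module Polynomial

variable {k : Type*} [Field k] {V : Type*} [AddCommGroup V] [Module k V]

/-- iterate an adjointness relation -/
theorem adj_pow (B : LinearMap.BilinForm k V) (b c : End k V)
    (hadj : ∀ x y, B x (b y) = B (c x) y) (n : ℕ) (x y : V) :
    B x ((b ^ n) y) = B ((c ^ n) x) y := by
  induction n generalizing x y with
  | zero => simp
  | succ n ih =>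
    rw [pow_succ, Module.End.mul_apply, ih, hadj, pow_succ', Module.End.mul_apply]

theorem vanish_of_ker (B : LinearMap.BilinForm k V) (a b d : End k V) (hda : Commute d a)
    (hadj : ∀ x y, B x (b y) = B ((d * a) x) y) (x : V) (n : ℕ) (hx : (a ^ n) x = 0)
    (N : ℕ) (hN : n ≤ N) (y : V) : B x ((b ^ N) y) = 0 := by
  rw [adj_pow B b (d * a) hadj, hda.mul_pow, Module.End.mul_apply]
  have : (a ^ N) x = 0 := by
    obtain ⟨m, rfl⟩ := Nat.exists_eq_add_of_le hN
    rw [add_comm, pow_add, Module.End.mul_apply, hx, map_zero]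
  rw [this, map_zero, map_zero, LinearMap.zero_apply]

theorem G1 [FiniteDimensional k V] (B : LinearMap.BilinForm k V) (a b d : End k V)
    (hda : Commute d a)
    (hadj : ∀ x y, B x (b y) = B ((d * a) x) y) (hsep : ∀ x, (∀ y, B x y = 0) → x = 0)
    (x : V) (hx : ∃ n, (a ^ n) x = 0) (hvan : ∀ y, (∃ n, (b ^ n) y = 0) → B x y = 0) : x = 0 := by
  obtain ⟨n, hn⟩ := hx
  obtain ⟨N₀, hN₀⟩ := Filter.eventually_atTop.mp (LinearMap.eventually_isCompl_ker_pow_range_pow b)
  set N := max n N₀
  have hcompl := hN₀ N (le_max_right _ _)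
  apply hsep
  intro y
  have hy : y ∈ LinearMap.ker (b ^ N) ⊔ LinearMap.range (b ^ N) := by
    rw [hcompl.sup_eq_top]; trivial
  obtain ⟨y₁, hy₁, y₂, hy₂, rfl⟩ := Submodule.mem_sup.mp hy
  obtain ⟨z, rfl⟩ := hy₂
  rw [map_add, hvan y₁ ⟨N, hy₁⟩, vanish_of_ker B a b d hda hadj x n hn N (le_max_left _ _), add_zero]

/-- if `(M - 1)^m x = 0` and `q ≠ 1` then `x` is in the range of `(M - q)^n` -/
theorem G2 (M : End k V) (p q : k) (hpq : p ≠ q) (x : V) (m : ℕ)
    (hx : ((M - p • (1 : End k V)) ^ m) x = 0) (n : ℕ) :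
    ∃ y, ((M - q • (1 : End k V)) ^ n) y = x := by
  have hcop : IsCoprime ((X - C p : k[X]) ^ m) ((X - C q : k[X]) ^ n) :=
    IsCoprime.pow (Polynomial.isCoprime_X_sub_C_of_isUnit_sub (IsUnit.mk0 _ (sub_ne_zero.mpr hpq)))
  obtain ⟨u, v, huv⟩ := hcop
  have h1 : aeval M (X - C p : k[X]) = M - p • (1 : End k V) := by
    simp [Algebra.algebraMap_eq_smul_one]
  have h2 : aeval M (X - C q : k[X]) = M - q • (1 : End k V) := by
    simp [Algebra.algebraMap_eq_smul_one]
  have := congrArg (fun P => (aeval M P) x) huv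
  simp only [map_add, map_mul, map_pow, map_one, h1, h2, LinearMap.add_apply,
    Module.End.mul_apply, hx, map_zero, zero_add, Module.End.one_apply] at this
  refine ⟨aeval M v x, ?_⟩
  have hcomm : ((M - q • (1 : End k V)) ^ n) (aeval M v x) =
      (aeval M v) (((M - q • (1 : End k V)) ^ n) x) := by
    rw [← h2, ← map_pow, ← Module.End.mul_apply, ← Module.End.mul_apply, ← map_mul, ← map_mul,
      mul_comm]
  rw [hcomm, this]

theorem main [FiniteDimensional k V]
    (B : LinearMap.BilinForm k V) (hB : B.Nondegenerate) (q : k) (hq : q ≠ 0)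
    (M : V ≃ₗ[k] V) (hM : ∀ x y : V, B (M x) (M y) = q * B x y) :
    (∀ x ∈ Module.End.maxGenEigenspace (M : Module.End k V) 1,
        (∀ y ∈ Module.End.maxGenEigenspace (M : Module.End k V) q, B x y = 0) → x = 0) ∧
      (∀ y ∈ Module.End.maxGenEigenspace (M : Module.End k V) q,
        (∀ x ∈ Module.End.maxGenEigenspace (M : Module.End k V) 1, B x y = 0) → y = 0) ∧
      (q ≠ 1 → ∀ x ∈ Module.End.maxGenEigenspace (M : Module.End k V) 1,
        ∀ x' ∈ Module.End.maxGenEigenspace (M : Module.End k V) 1, B x x' = 0) ∧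
      (q ≠ 1 → ∀ y ∈ Module.End.maxGenEigenspace (M : Module.End k V) q,
        ∀ y' ∈ Module.End.maxGenEigenspace (M : Module.End k V) q, B y y' = 0) := by
  set Me : End k V := (M : Module.End k V) with hMe
  set Mi : End k V := (M.symm : Module.End k V) with hMi
  have hMMi : Me * Mi = 1 := by ext x; simp [Me, Mi]
  have hMiM : Mi * Me = 1 := by ext x; simp [Me, Mi]
  set a : End k V := Me - (1 : k) • (1 : End k V) with ha
  set b : End k V := Me - q • (1 : End k V) with hb
  have hcomm : Commute Mi Me := by rw [Commute, SemiconjBy, hMMi, hMiM]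
  -- adjointness 1: B x (b y) = B ((d * a) x) y with d = -q • Mi
  have hM' : ∀ x y : V, B (Me x) (Me y) = q * B x y := hM
  have hadj1 : ∀ x y, B x (b y) = B ((((-q) • Mi) * a) x) y := by
    intro x y
    have e1 : Me (Mi x) = x := LinearMap.congr_fun hMMi x
    have e2 : Mi (Me x) = x := LinearMap.congr_fun hMiM x
    have h := hM' (Mi x) y
    rw [e1] at h
    have lhs : B x (b y) = B x (Me y) - q * B x y := by
      simp only [hb, LinearMap.sub_apply, LinearMap.smul_apply, Module.End.one_apply, map_sub,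
        map_smul, smul_eq_mul]
    have rhs : B ((((-q) • Mi) * a) x) y = -q * (B x y - B (Mi x) y) := by
      simp only [ha, Module.End.mul_apply, LinearMap.sub_apply, LinearMap.smul_apply,
        Module.End.one_apply, one_smul, map_sub, e2, map_smul, smul_eq_mul]
      ring
    rw [lhs, rhs, h]; ring
  -- adjointness 2 (flipped): B (a x) y = B x ((d' * b) y), d' = - Mi
  have hadj2 : ∀ y x, B.flip y (a x) = B.flip (((-Mi) * b) y) x := by
    intro y x
    have e1 : Me (Mi y) = y := LinearMap.congr_fun hMMi y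
    have e2 : Mi (Me y) = y := LinearMap.congr_fun hMiM y
    have h := hM' x (Mi y)
    rw [e1] at h
    have lhs : B.flip y (a x) = B (Me x) y - B x y := by
      simp only [ha, LinearMap.BilinForm.flip_apply, LinearMap.sub_apply, LinearMap.smul_apply,
        Module.End.one_apply, map_sub, one_smul]
    have rhs : B.flip (((-Mi) * b) y) x = -(B x y - q * B x (Mi y)) := by
      simp only [hb, LinearMap.BilinForm.flip_apply, Module.End.mul_apply, LinearMap.sub_apply,
        LinearMap.smul_apply, Module.End.one_apply, map_sub, e2, map_smul, smul_eq_mul,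
        LinearMap.neg_apply, map_neg]
      ring
    rw [lhs, rhs, h]; ring
  have hd1 : Commute ((-q) • Mi) a := by
    rw [ha]
    exact ((hcomm.sub_right (Commute.smul_right (Commute.one_right _) _)).smul_left _)
  have hd2 : Commute (-Mi) b := by
    rw [hb]
    exact ((hcomm.sub_right (Commute.smul_right (Commute.one_right _) _)).neg_left)
  have hmem1 : ∀ x, x ∈ Module.End.maxGenEigenspace Me 1 ↔ ∃ n, (a ^ n) x = 0 := by
    intro x; rw [Module.End.mem_maxGenEigenspace]
  have hmemq : ∀ x, x ∈ Module.End.maxGenEigenspace Me q ↔ ∃ n, (b ^ n) x = 0 := by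
    intro x; rw [Module.End.mem_maxGenEigenspace]
  refine ⟨?_, ?_, ?_, ?_⟩
  · intro x hx hvan
    exact G1 B a b _ hd1 hadj1 (fun x hx => hB.1 x hx) x ((hmem1 x).mp hx)
      (fun y hy => hvan y ((hmemq y).mpr hy))
  · intro y hy hvan
    exact G1 B.flip b a _ hd2 hadj2 (fun y hy => hB.2 y hy) y ((hmemq y).mp hy)
      (fun x hx => hvan x ((hmem1 x).mpr hx))
  · intro hq1 x hx x' hx'
    obtain ⟨n, hn⟩ := (hmem1 x).mp hx
    obtain ⟨m, hm⟩ := (hmem1 x').mp hx'
    obtain ⟨y, rfl⟩ := G2 Me 1 q (Ne.symm hq1) x' m hm n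
    exact vanish_of_ker B a b _ hd1 hadj1 x n hn n le_rfl y
  · intro hq1 y hy y' hy'
    obtain ⟨n, hn⟩ := (hmemq y').mp hy'
    obtain ⟨m, hm⟩ := (hmemq y).mp hy
    obtain ⟨z, rfl⟩ := G2 Me q 1 hq1 y m hm n
    have := vanish_of_ker B.flip b a _ hd2 hadj2 y' n hn n le_rfl z
    rwa [LinearMap.BilinForm.flip_apply] at this

end Groth.Agent.H9.GenEig
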