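import Mathlib

/-! Helper9: TFAE for generic point of a domain being open -/

namespace Groth.Agent.H9.GenOpen

open PrimeSpectrum

universe u

variable (B : Type u) [CommRing B] [IsDomain B]

theorem away_inj {f : B} (hf : f ≠ 0) : Function.Injective (algebraMap B (Localization.Away f)) :=
  IsLocalization.injective _ (powers_le_nonZeroDivisors_of_noZeroDivisors hf)

/-- (a) ⇒ (b) -/
theorem a_b (f : B) (hf : f ≠ 0) (hF : IsField (Localization.Away f)) :
    Algebra.FiniteType B (FractionRing B) := by
  have hunit : IsUnit (algebraMap B (FractionRing B) f) :=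
    IsUnit.mk0 _ (by simpa using hf)
  let φ : Localization.Away f →+* FractionRing B := IsLocalization.Away.lift f hunit
  have hφ : ∀ b : B, φ (algebraMap B _ b) = algebraMap B _ b := fun b => IsLocalization.Away.lift_eq f hunit b
  let ψ : Localization.Away f →ₐ[B] FractionRing B := { φ with commutes' := hφ }
  have hft : Algebra.FiniteType B (Localization.Away f) :=
    IsLocalization.finiteType_of_monoid_fg (Submonoid.powers f) _
  refine Algebra.FiniteType.of_surjective ψ ?_
  intro z
  obtain ⟨a, s, rfl⟩ := IsLocalization.exists_mk'_eq (nonZeroDivisors B) z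
  have hs0 : algebraMap B (Localization.Away f) (s : B) ≠ 0 := by
    intro h
    have := away_inj B hf (h.trans (map_zero _).symm)
    exact nonZeroDivisors.ne_zero s.2 this
  obtain ⟨t, ht⟩ := hF.mul_inv_cancel hs0
  refine ⟨algebraMap B _ a * t, ?_⟩
  show φ (algebraMap B _ a * t) = _
  rw [eq_comm, IsLocalization.mk'_eq_iff_eq_mul, map_mul, hφ, mul_assoc, ← hφ (s : B), ← map_mul, mul_comm t, ht,
    map_one, mul_one]

/-- (c) ⇒ (a) -/
theorem c_a (K : Type u) [Field K] [Algebra B K] (hinj : Function.Injective (algebraMap B K))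
    [hft : Algebra.FiniteType B K] : ∃ f : B, f ≠ 0 ∧ IsField (Localization.Away f) := by
  classical
  have := (faithfulSMul_iff_algebraMap_injective B K).mpr hinj
  letI : Algebra (FractionRing B) K := (IsFractionRing.lift hinj).toAlgebra
  have : IsScalarTower B (FractionRing B) K := IsScalarTower.of_algebraMap_eq (fun b => by
    show _ = (IsFractionRing.lift hinj) (algebraMap B _ b)
    rw [IsFractionRing.lift_algebraMap])
  have : Algebra.FiniteType (FractionRing B) K := Algebra.FiniteType.of_restrictScalars_finiteType B _ _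
  have : Module.Finite (FractionRing B) K := finite_of_finite_type_of_isJacobsonRing _ _
  have hint : Algebra.IsIntegral (FractionRing B) K := inferInstance
  obtain ⟨s, hs⟩ := hft.out
  have hm : ∀ x : K, ∃ m : nonZeroDivisors B, IsIntegral B (m • x) := fun x =>
    IsIntegral.exists_multiple_integral_of_isLocalization (nonZeroDivisors B) x (hint.isIntegral x)
  choose m hm using hm
  let f : B := ∏ x ∈ s, (m x : B)
  have hf : f ≠ 0 := by
    rw [Finset.prod_ne_zero_iff]
    intro x _
    exact nonZeroDivisors.ne_zero (m x).2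
  refine ⟨f, hf, ?_⟩
  have hunit : IsUnit (algebraMap B K f) := IsUnit.mk0 _ (by
    intro h; exact hf (hinj (h.trans (map_zero _).symm)))
  letI : Algebra (Localization.Away f) K := (IsLocalization.Away.lift f hunit).toAlgebra
  have hal : ∀ b : B, algebraMap (Localization.Away f) K (algebraMap B _ b) = algebraMap B K b :=
    fun b => IsLocalization.Away.lift_eq f hunit b
  have : IsScalarTower B (Localization.Away f) K := IsScalarTower.of_algebraMap_eq (fun b => (hal b).symm)
  have hinj' : Function.Injective (algebraMap (Localization.Away f) K) := by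
    show Function.Injective (IsLocalization.lift _)
    rw [IsLocalization.lift_injective_iff]
    intro x y
    exact ⟨fun h => congrArg _ (away_inj B hf h), fun h => congrArg _ (hinj h)⟩
  -- each generator is integral over B_f
  have hgen : ∀ x ∈ s, IsIntegral (Localization.Away f) x := by
    intro x hx
    have h1 : IsIntegral (Localization.Away f) ((m x : B) • x) := (hm x).tower_top
    -- m x is a unit in B_f
    have hdvd : (m x : B) ∣ f := Finset.dvd_prod_of_mem _ hx
    have hu : IsUnit (algebraMap B (Localization.Away f) (m x : B)) := by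
      have hfu : IsUnit (algebraMap B (Localization.Away f) f) := IsLocalization.Away.algebraMap_isUnit f
      exact isUnit_of_dvd_unit (map_dvd _ hdvd) hfu
    obtain ⟨v, hv⟩ := hu
    have hx' : x = algebraMap (Localization.Away f) K (↑v⁻¹) * ((m x : B) • x) := by
      rw [Algebra.smul_def, ← hal, ← hv, ← mul_assoc, ← map_mul, Units.inv_mul, map_one, one_mul]
    rw [hx']
    exact IsIntegral.mul isIntegral_algebraMap h1
  have hle : Algebra.adjoin (Localization.Away f) (s : Set K) ≤ integralClosure (Localization.Away f) K :=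
    Algebra.adjoin_le (fun x hx => hgen x hx)
  have htop : Algebra.adjoin (Localization.Away f) (s : Set K) = ⊤ := by
    rw [eq_top_iff]
    intro x _
    have hx : x ∈ Algebra.adjoin B (s : Set K) := by rw [hs]; trivial
    have h2 : Algebra.adjoin B (s : Set K) ≤ (Algebra.adjoin (Localization.Away f) (s : Set K)).restrictScalars B :=
      Algebra.adjoin_le (by
        intro y hy
        have h3 : y ∈ Algebra.adjoin (Localization.Away f) (s : Set K) := Algebra.subset_adjoin hy
        exact (Subalgebra.mem_restrictScalars B).mpr h3)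
    exact (Subalgebra.mem_restrictScalars B).mp (h2 hx)
  have hall : ∀ x : K, IsIntegral (Localization.Away f) x := by
    intro x
    have hx : x ∈ Algebra.adjoin (Localization.Away f) (s : Set K) := by rw [htop]; exact Algebra.mem_top
    exact hle hx
  have : Algebra.IsIntegral (Localization.Away f) K := ⟨hall⟩
  exact isField_of_isIntegral_of_isField hinj' (Field.toIsField K)

/-- (a) ⇒ (d) -/
theorem a_d (f : B) (hf : f ≠ 0) (hF : IsField (Localization.Away f)) :
    IsOpen ({⟨⊥, Ideal.isPrime_bot⟩} : Set (PrimeSpectrum B)) := by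
  have : ({⟨⊥, Ideal.isPrime_bot⟩} : Set (PrimeSpectrum B)) = (basicOpen f : Set (PrimeSpectrum B)) := by
    ext p
    constructor
    · rintro rfl
      show f ∉ (⊥ : Ideal B)
      simpa using hf
    · intro hp
      rw [← localization_away_comap_range (Localization.Away f) f] at hp
      obtain ⟨P, rfl⟩ := hp
      letI := hF.toField
      have hP : P.asIdeal = ⊥ := (Ideal.eq_bot_or_top P.asIdeal).resolve_right P.2.ne_top
      apply PrimeSpectrum.ext
      show Ideal.comap _ P.asIdeal = ⊥
      rw [hP, ← RingHom.ker_eq_comap_bot, (RingHom.injective_iff_ker_eq_bot _).mp (away_inj B hf)]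
  rw [this]
  exact (basicOpen f).2

/-- (d) ⇒ (a) -/
theorem d_a (h : IsOpen ({⟨⊥, Ideal.isPrime_bot⟩} : Set (PrimeSpectrum B))) :
    ∃ f : B, f ≠ 0 ∧ IsField (Localization.Away f) := by
  obtain ⟨_, ⟨f, rfl⟩, hmem, hsub⟩ :=
    PrimeSpectrum.isTopologicalBasis_basic_opens.exists_subset_of_mem_open (Set.mem_singleton _) h
  have hf : f ≠ 0 := by
    intro h0
    apply hmem
    show f ∈ (⊥ : Ideal B)
    simp [h0]
  refine ⟨f, hf, ?_⟩
  have hnt : Nontrivial (Localization.Away f) := (away_inj B hf).nontrivial
  rw [Ring.isField_iff_maximal_bot]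
  obtain ⟨M, hM⟩ := Ideal.exists_maximal (Localization.Away f)
  have hMp : M.IsPrime := hM.isPrime
  have hc : (⟨M, hMp⟩ : PrimeSpectrum _).comap (algebraMap B (Localization.Away f)) ∈ (basicOpen f : Set _) := by
    rw [← localization_away_comap_range (Localization.Away f) f]
    exact ⟨_, rfl⟩
  have h1 := hsub hc
  have h2 : Ideal.comap (algebraMap B (Localization.Away f)) M = ⊥ := congrArg PrimeSpectrum.asIdeal h1
  have h2' : Ideal.under B M = ⊥ := h2
  have h3 : M = ⊥ := by
    rw [← IsLocalization.map_under (Submonoid.powers f) (Localization.Away f) M, h2', Ideal.map_bot]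
  rw [← h3]
  exact hM

theorem main :
    [∃ f : B, f ≠ 0 ∧ IsField (Localization.Away f),
      Algebra.FiniteType B (FractionRing B),
      ∃ (K : Type u) (_ : Field K) (_ : Algebra B K), Function.Injective (algebraMap B K) ∧ Algebra.FiniteType B K,
      IsOpen ({⟨⊥, Ideal.isPrime_bot⟩} : Set (PrimeSpectrum B))].TFAE := by
  tfae_have 1 → 2 := fun ⟨f, hf, hF⟩ => a_b B f hf hF
  tfae_have 2 → 3 := fun h => ⟨FractionRing B, inferInstance, inferInstance, IsFractionRing.injective B _, h⟩
  tfae_have 3 → 1 := fun ⟨K, _, _, hinj, hft⟩ => c_a B K hinj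
  tfae_have 1 → 4 := fun ⟨f, hf, hF⟩ => a_d B f hf hF
  tfae_have 4 → 1 := d_a B
  tfae_finish

end Groth.Agent.H9.GenOpen
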