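import Mathlib
import Groth.Prelude.Def_LefPen
set_option autoImplicit false
set_option linter.unusedSectionVars false
set_option linter.unusedVariables false

namespace Groth.Agent.H9.GenPts

open MvPolynomial

universe u

theorem exists_pts {k : Type*} [Field k] {F X : Type*} [AddCommGroup F] [Module k F]
    [FiniteDimensional k F] [Inhabited X]
    (e : F →ₗ[k] (X → k)) (he : Function.Injective e) :
    ∀ (n : ℕ) (U : Submodule k F), Module.finrank k U ≤ n →
      ∃ pts : Fin n → X, ∀ G ∈ U, (∀ j, e G (pts j) = 0) → G = 0 := by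
  intro n
  induction n with
  | zero =>
    intro U hU
    refine ⟨Fin.elim0, fun G hG _ => ?_⟩
    have h0 : Module.finrank k U = 0 := Nat.le_zero.1 hU
    have : U = ⊥ := Submodule.finrank_eq_zero.1 h0
    rw [this] at hG
    exact (Submodule.mem_bot k).1 hG
  | succ n ih =>
    intro U hU
    by_cases hbot : U = ⊥
    · refine ⟨fun _ => default, fun G hG _ => ?_⟩
      rw [hbot] at hG
      exact (Submodule.mem_bot k).1 hG
    · obtain ⟨G0, hG0U, hG0⟩ := Submodule.exists_mem_ne_zero_of_ne_bot hbot
      have h1 : e G0 ≠ 0 := (map_ne_zero_iff e he).2 hG0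
      obtain ⟨x0, hx0⟩ : ∃ x, e G0 x ≠ 0 := by
        by_contra h
        push Not at h
        exact h1 (funext h)
      let ℓ : F →ₗ[k] k := (LinearMap.proj x0).comp e
      have hℓ : ∀ G, ℓ G = e G x0 := fun G => rfl
      have hlt : U ⊓ LinearMap.ker ℓ < U := by
        refine lt_of_le_of_ne inf_le_left (fun h => hx0 ?_)
        have hmem : G0 ∈ U ⊓ LinearMap.ker ℓ := by rw [h]; exact hG0U
        have := (Submodule.mem_inf.1 hmem).2
        rw [LinearMap.mem_ker, hℓ] at this
        exact this
      have hfr := Submodule.finrank_lt_finrank_of_lt hlt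
      obtain ⟨pts', hpts'⟩ := ih (U ⊓ LinearMap.ker ℓ) (by omega)
      refine ⟨Fin.cons x0 pts', fun G hG hz => ?_⟩
      apply hpts' G
      · refine Submodule.mem_inf.2 ⟨hG, ?_⟩
        rw [LinearMap.mem_ker, hℓ]
        have := hz 0
        simpa using this
      · intro j
        have := hz j.succ
        simpa using this

variable (k : Type u) [Field k]

theorem isPolyFun_aeval (r m : ℕ) (i : Fin m) (P : MvPolynomial (Fin (r + 1)) k) :
    LefPen.IsPolyFun k (fun w : Fin m → (Fin (r + 1) → k) => MvPolynomial.aeval (w i) P) := by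
  unfold LefPen.IsPolyFun
  induction P using MvPolynomial.induction_on with
  | C a =>
    have : (fun w : Fin m → (Fin (r + 1) → k) => MvPolynomial.aeval (w i) (C a)) =
        algebraMap k (((Fin m → (Fin (r + 1) → k))) → k) a := by
      funext w; simp
    rw [this]; exact Subalgebra.algebraMap_mem _ a
  | add p q hp hq =>
    have : (fun w : Fin m → (Fin (r + 1) → k) => MvPolynomial.aeval (w i) (p + q)) =
        (fun w => MvPolynomial.aeval (w i) p) + (fun w => MvPolynomial.aeval (w i) q) := by
      funext w; simp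
    rw [this]; exact Subalgebra.add_mem _ hp hq
  | mul_X p l hp =>
    have : (fun w : Fin m → (Fin (r + 1) → k) => MvPolynomial.aeval (w i) (p * X l)) =
        (fun w => MvPolynomial.aeval (w i) p) * (fun w => w i l) := by
      funext w; simp
    rw [this]
    refine Subalgebra.mul_mem _ hp (Algebra.subset_adjoin
      ⟨((LinearMap.proj l : (Fin (r + 1) → k) →ₗ[k] k).comp
        (LinearMap.proj i : (Fin m → (Fin (r + 1) → k)) →ₗ[k] (Fin (r + 1) → k))), ?_⟩)
    funext w; rfl

/-- evaluation of forms at an `m`-tuple of points -/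
noncomputable def evL (r d m : ℕ) (x : Fin m → (Fin (r + 1) → k)) :
    LefPen.Form r k d →ₗ[k] (Fin m → k) :=
  LinearMap.pi (fun i => (MvPolynomial.aeval (x i)).toLinearMap.comp (Submodule.subtype _))

theorem evL_apply (r d m : ℕ) (x : Fin m → (Fin (r + 1) → k)) (G : LefPen.Form r k d) (i : Fin m) :
    evL k r d m x G i = MvPolynomial.aeval (x i) G.1 := rfl

instance (r d : ℕ) : Module.Finite k (LefPen.Form r k d) :=
  Module.Finite.iff_fg.2 (MvPolynomial.homogeneousSubmodule_fg (Fin (r + 1)) k d)

theorem finrank_le_card (r d : ℕ) (S : Finset (Fin (r + 1) →₀ ℕ))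
    (hS : ∀ a : Fin (r + 1) →₀ ℕ, a.degree = d → a ∈ S) :
    Module.finrank k ↥(MvPolynomial.homogeneousSubmodule (Fin (r + 1)) k d) ≤ S.card := by
  classical
  have hle : MvPolynomial.homogeneousSubmodule (Fin (r + 1)) k d ≤
      Submodule.span k ((S.image (fun a => (MvPolynomial.monomial a (1 : k)))) :
        Set (MvPolynomial (Fin (r + 1)) k)) := by
    intro G hG
    rw [MvPolynomial.as_sum G]
    refine Submodule.sum_mem _ (fun a ha => ?_)
    have hdeg : a.degree = d := by
      have := (MvPolynomial.mem_homogeneousSubmodule d G).1 hG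
      have h2 := this (MvPolynomial.mem_support_iff.1 ha)
      rw [Finsupp.degree_eq_weight_one]
      exact h2
    have : MvPolynomial.monomial a (MvPolynomial.coeff a G) =
        MvPolynomial.coeff a G • MvPolynomial.monomial a (1 : k) := by
      rw [MvPolynomial.smul_monomial, smul_eq_mul, mul_one]
    rw [this]
    refine Submodule.smul_mem _ _ (Submodule.subset_span ?_)
    exact Finset.mem_coe.2 (Finset.mem_image.2 ⟨a, hS a hdeg, rfl⟩)
  have h1 := Submodule.finrank_mono hle
  have h2 : Module.finrank k ↥(Submodule.span k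
      ((S.image (fun a => (MvPolynomial.monomial a (1 : k)))) :
        Set (MvPolynomial (Fin (r + 1)) k))) ≤
      (S.image (fun a => (MvPolynomial.monomial a (1 : k)))).card :=
    finrank_span_finset_le_card (R := k)
      (S.image (fun a => (MvPolynomial.monomial a (1 : k))))
  have h3 : (S.image (fun a => (MvPolynomial.monomial a (1 : k)))).card ≤ S.card :=
    Finset.card_image_le
  exact le_trans h1 (le_trans h2 h3)

theorem finrank_form_le (r d : ℕ) :
    Module.finrank k ↥(MvPolynomial.homogeneousSubmodule (Fin (r + 1)) k d) ≤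
      Nat.choose (r + d) d := by
  classical
  have h := finrank_le_card k r d ((Finset.univ : Finset (Fin (r + 1))).finsuppAntidiag d)
    (fun a ha => by
      rw [Finset.mem_finsuppAntidiag]
      refine ⟨?_, Finset.subset_univ _⟩
      rw [← ha, Finsupp.degree_eq_sum])
  have h4 : ((Finset.univ : Finset (Fin (r + 1))).finsuppAntidiag d).card =
      Nat.choose (r + d) d := by
    have := Finset.card_finsuppAntidiag_nat_eq_choose (s := (Finset.univ : Finset (Fin (r + 1)))) d
    rw [this, Finset.card_univ, Fintype.card_fin]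
    congr 1
    omega
  rw [h4] at h
  exact h

theorem isZOpen (r d m : ℕ) :
    LefPen.IsZOpen k {x : Fin m → (Fin (r + 1) → k) |
      ∀ G : LefPen.Form r k d, (∀ i : Fin m, MvPolynomial.aeval (x i) G.1 = 0) → G = 0} := by
  classical
  intro v hv
  have hinj : LinearMap.ker (evL k r d m v) = ⊥ := by
    rw [LinearMap.ker_eq_bot']
    intro G hG
    exact hv G (fun i => by rw [← evL_apply]; rw [hG]; rfl)
  obtain ⟨L, hL⟩ := LinearMap.exists_leftInverse_of_injective (evL k r d m v) hinj
  let bF := Module.finBasis k (LefPen.Form r k d)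
  let Lmat := LinearMap.toMatrix (Pi.basisFun k (Fin m)) bF L
  let Mfun : Matrix (Fin (Module.finrank k (LefPen.Form r k d)))
      (Fin (Module.finrank k (LefPen.Form r k d))) ((Fin m → (Fin (r + 1) → k)) → k) :=
    fun a b => ∑ i, algebraMap k ((Fin m → (Fin (r + 1) → k)) → k) (Lmat a i) *
      (fun w => MvPolynomial.aeval (w i) (bF b).1)
  have hMw : ∀ w, (Pi.evalRingHom (fun _ : (Fin m → (Fin (r + 1) → k)) => k) w).mapMatrix Mfun =
      LinearMap.toMatrix bF bF (L.comp (evL k r d m w)) := by
    intro w
    rw [LinearMap.toMatrix_comp bF (Pi.basisFun k (Fin m)) bF]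
    refine Matrix.ext (fun a b => ?_)
    simp only [RingHom.mapMatrix_apply, Matrix.map_apply, Mfun, map_sum, map_mul,
      Pi.evalRingHom_apply, Pi.algebraMap_apply, Algebra.algebraMap_self_apply,
      Matrix.mul_apply]
    refine Finset.sum_congr rfl (fun i _ => ?_)
    congr 1
    rw [LinearMap.toMatrix_apply, Pi.basisFun_repr, evL_apply]
  refine ⟨Matrix.det Mfun, ?_, ?_, ?_⟩
  · unfold LefPen.IsPolyFun
    rw [Matrix.det_apply]
    refine Subalgebra.sum_mem _ (fun σ _ => ?_)
    rw [Units.smul_def]
    refine Subalgebra.zsmul_mem _ ?_ _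
    refine Subalgebra.prod_mem _ (fun a _ => ?_)
    refine Subalgebra.sum_mem _ (fun i _ => ?_)
    exact Subalgebra.mul_mem _ (Subalgebra.algebraMap_mem _ _) (isPolyFun_aeval k r m i _)
  · have h1 : Matrix.det Mfun v = (Pi.evalRingHom (fun _ : (Fin m → (Fin (r + 1) → k)) => k) v)
        (Matrix.det Mfun) := rfl
    rw [h1, RingHom.map_det, hMw v, hL, LinearMap.toMatrix_id, Matrix.det_one]
    exact one_ne_zero
  · intro w hw
    have h1 : Matrix.det Mfun w = (Pi.evalRingHom (fun _ : (Fin m → (Fin (r + 1) → k)) => k) w)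
        (Matrix.det Mfun) := rfl
    rw [h1, RingHom.map_det, hMw w] at hw
    intro G hG
    have hG0 : evL k r d m w G = 0 := by
      funext i; rw [evL_apply]; exact hG i
    have h2 : (LinearMap.toMatrix bF bF (L.comp (evL k r d m w))).mulVec (bF.repr G) = 0 := by
      rw [LinearMap.toMatrix_mulVec_repr, LinearMap.comp_apply, hG0, map_zero, map_zero]
      rfl
    have h3 := Matrix.eq_zero_of_mulVec_eq_zero hw h2
    have h4 : bF.repr G = 0 := by
      ext a; rw [show (bF.repr G) a = (⇑(bF.repr G)) a from rfl, h3]; rfl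
    exact (LinearEquiv.map_eq_zero_iff _).1 h4

theorem result' [Infinite k]
    (r d m : ℕ) (hd : 1 ≤ d) (hm : Nat.choose (r + d) d ≤ m) :
    LefPen.IsZOpen k {x : Fin m → (Fin (r + 1) → k) |
      ∀ G : LefPen.Form r k d, (∀ i : Fin m, MvPolynomial.aeval (x i) G.1 = 0) → G = 0} ∧
    LefPen.IsGeneric k {x : Fin m → (Fin (r + 1) → k) |
      ∀ G : LefPen.Form r k d, (∀ i : Fin m, MvPolynomial.aeval (x i) G.1 = 0) → G = 0} := by
  refine ⟨isZOpen k r d m, ?_⟩
  -- a point of the set
  let e : LefPen.Form r k d →ₗ[k] ((Fin (r + 1) → k) → k) :=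
    { toFun := fun G x => MvPolynomial.aeval x G.1
      map_add' := fun G H => by funext x; simp
      map_smul' := fun c G => by funext x; simp }
  have he : Function.Injective e := by
    intro G H hGH
    apply Subtype.ext
    apply MvPolynomial.funext
    intro x
    have := congrFun hGH x
    change MvPolynomial.aeval x G.1 = MvPolynomial.aeval x H.1 at this
    rw [MvPolynomial.aeval_eq_eval] at this
    exact this
  haveI : Inhabited (Fin (r + 1) → k) := ⟨0⟩
  obtain ⟨pts, hpts⟩ := exists_pts e he m ⊤ (by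
    rw [finrank_top]; exact le_trans (finrank_form_le k r d) hm)
  have hv : pts ∈ {x : Fin m → (Fin (r + 1) → k) |
      ∀ G : LefPen.Form r k d, (∀ i : Fin m, MvPolynomial.aeval (x i) G.1 = 0) → G = 0} :=
    fun G hG => hpts G Submodule.mem_top hG
  obtain ⟨f, hf1, hf2, hf3⟩ := isZOpen k r d m pts hv
  exact ⟨f, hf1, ⟨pts, hf2⟩, hf3⟩

end Groth.Agent.H9.GenPts
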