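import Mathlib

universe u

open scoped TensorProduct

namespace Groth.Agent.H9.GlueT

/-- base change to a localization at a prime is detected locally -/
theorem tensor_equiv_of_local {A : Type u} [CommRing A] (p : Ideal A) [p.IsPrime]
    (L : Type u) [CommRing L] [Algebra A L] [IsLocalization.AtPrime L p]
    (Bi : Type u) [CommRing Bi] [Algebra L Bi] [Algebra A Bi] [IsScalarTower A L Bi]
    (C : Type u) [CommRing C] [Algebra A C] (g : C →ₐ[A] Bi)
    (hz : ∀ c, g c = 0 → ∃ s, s ∉ p ∧ s • c = 0)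
    (hs : ∀ b : Bi, ∃ c s, s ∉ p ∧ g c = algebraMap A Bi s * b) :
    Nonempty (L ⊗[A] C ≃ₐ[L] Bi) := by
  let Ψ : L ⊗[A] C →ₐ[L] Bi :=
    Algebra.TensorProduct.lift (Algebra.ofId L Bi) g (fun _ _ => Commute.all _ _)
  have hΨ : ∀ (z : L) (c : C), Ψ (z ⊗ₜ[A] c) = algebraMap L Bi z * g c :=
    fun z c => Algebra.TensorProduct.lift_tmul _ _ _ z c
  haveI hlm : IsLocalizedModule p.primeCompl (TensorProduct.mk A L C 1) :=
    (isLocalizedModule_iff_isBaseChange p.primeCompl L _).2 (TensorProduct.isBaseChange A C L)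
  refine ⟨AlgEquiv.ofBijective Ψ ⟨?_, ?_⟩⟩
  · rw [injective_iff_map_eq_zero]
    intro w hw
    obtain ⟨⟨c, t⟩, hct⟩ := IsLocalizedModule.surj p.primeCompl (TensorProduct.mk A L C 1) w
    have hct' : algebraMap A L (t : A) • w = (1 : L) ⊗ₜ[A] c := by
      rw [algebraMap_smul]
      exact hct
    have h2 : Ψ ((1 : L) ⊗ₜ[A] c) = 0 := by
      rw [← hct', map_smul, hw, smul_zero]
    have h1 : g c = 0 := by
      have h3 := hΨ 1 c
      rw [map_one, one_mul] at h3
      rw [← h3, h2]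
    obtain ⟨t', ht', h4⟩ := hz c h1
    have h5 : (algebraMap A L t' * algebraMap A L (t : A)) • w = 0 := by
      rw [mul_smul, hct', algebraMap_smul, ← TensorProduct.tmul_smul, h4, TensorProduct.tmul_zero]
    have hu : IsUnit (algebraMap A L t' * algebraMap A L (t : A)) :=
      (IsLocalization.map_units L (⟨t', ht'⟩ : p.primeCompl)).mul (IsLocalization.map_units L t)
    exact hu.smul_eq_zero.1 h5
  · intro b
    obtain ⟨c, s, hs', hc⟩ := hs b
    have h6 : IsLocalization.mk' L (1 : A) (⟨s, hs'⟩ : p.primeCompl) * algebraMap A L s = 1 := by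
      have := IsLocalization.mk'_spec L (1 : A) (⟨s, hs'⟩ : p.primeCompl)
      rwa [map_one] at this
    refine ⟨(IsLocalization.mk' L (1 : A) (⟨s, hs'⟩ : p.primeCompl)) ⊗ₜ[A] c, ?_⟩
    rw [hΨ, hc, IsScalarTower.algebraMap_apply A L Bi, ← mul_assoc, ← map_mul, h6, map_one,
      one_mul]

variable {A : Type u} [CommRing A] {I : Type} [Fintype I]
  (t : A) (q : I → Ideal A) {B : I → Type u} [∀ i, CommRing (B i)] (ι : ∀ i, A →+* B i) (n : ℕ)

/-- abstract gluing data along a nonzerodivisor -/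
structure Data : Prop where
  tnzd : t ∈ nonZeroDivisors A
  prime : ∀ i, (q i).IsPrime
  unit : ∀ i s, s ∉ q i → IsUnit (ι i s)
  ker : ∀ i a, ι i a = 0 → ∃ s, s ∉ q i ∧ s * a = 0
  treg : ∀ i (b : B i), ι i t * b = 0 → b = 0
  cok : ∀ i (b : B i), ∃ s a, s ∉ q i ∧ ι i s * (ι i t ^ n * b) = ι i a
  crt : ∀ i, ∃ g, g ∉ q i ∧ ∀ j, j ≠ i → ∃ s, s ∉ q j ∧ ∃ a, s * g = t ^ n * a

/-- the localization map -/
abbrev jm : A →+* Localization.Away t := algebraMap A (Localization.Away t)

/-- the inverse of `t` -/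
noncomputable def vt : Localization.Away t := IsLocalization.Away.invSelf t

theorem jt_mul_vt : jm t t * vt t = 1 := IsLocalization.Away.mul_invSelf t

theorem jt_pow_mul_vt_pow (k : ℕ) : jm t t ^ k * vt t ^ k = 1 := by
  rw [← mul_pow, jt_mul_vt, one_pow]

/-- `x` maps to `b` in `B_i[1/t]` -/
def Rel (i : I) (x : Localization.Away t) (b : B i) : Prop :=
  ∃ (k : ℕ) (a : A), x * jm t t ^ k = jm t a ∧ ι i a = ι i t ^ k * b

theorem rel_add {i : I} {x y : Localization.Away t} {b b' : B i} (h : Rel t ι i x b)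
    (h' : Rel t ι i y b') : Rel t ι i (x + y) (b + b') := by
  obtain ⟨k, a, h1, h2⟩ := h
  obtain ⟨k', a', h1', h2'⟩ := h'
  refine ⟨k + k', a * t ^ k' + a' * t ^ k, ?_, ?_⟩
  · rw [map_add, map_mul, map_mul, map_pow, map_pow, ← h1, ← h1', pow_add]
    ring
  · rw [map_add, map_mul, map_mul, map_pow, map_pow, h2, h2', pow_add]
    ring

theorem rel_mul {i : I} {x y : Localization.Away t} {b b' : B i} (h : Rel t ι i x b)
    (h' : Rel t ι i y b') : Rel t ι i (x * y) (b * b') := by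
  obtain ⟨k, a, h1, h2⟩ := h
  obtain ⟨k', a', h1', h2'⟩ := h'
  refine ⟨k + k', a * a', ?_, ?_⟩
  · rw [map_mul, ← h1, ← h1', pow_add]
    ring
  · rw [map_mul, h2, h2', pow_add]
    ring

theorem rel_alg (i : I) (a : A) : Rel t ι i (jm t a) (ι i a) :=
  ⟨0, a, by rw [pow_zero, mul_one], by rw [pow_zero, one_mul]⟩

theorem rel_zero (i : I) : Rel t ι i 0 0 :=
  ⟨0, 0, by rw [zero_mul, map_zero], by rw [map_zero, mul_zero]⟩

theorem rel_one (i : I) : Rel t ι i 1 1 :=
  ⟨0, 1, by rw [pow_zero, mul_one, map_one], by rw [pow_zero, one_mul, map_one]⟩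

/-- the ideal of numerators -/
def J : Ideal A where
  carrier := {a | ∀ i, ∃ b : B i, ι i a = ι i t ^ n * b}
  zero_mem' := fun i => ⟨0, by rw [map_zero, mul_zero]⟩
  add_mem' := fun {a a'} ha ha' i => by
    obtain ⟨b, hb⟩ := ha i
    obtain ⟨b', hb'⟩ := ha' i
    exact ⟨b + b', by rw [map_add, hb, hb', mul_add]⟩
  smul_mem' := fun c a ha i => by
    obtain ⟨b, hb⟩ := ha i
    exact ⟨ι i c * b, by rw [smul_eq_mul, map_mul, hb]; ring⟩

theorem mem_J {a : A} : a ∈ J t ι n ↔ ∀ i, ∃ b : B i, ι i a = ι i t ^ n * b := Iff.rfl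

/-- division by `t ^ n` -/
noncomputable def ell : A →ₗ[A] Localization.Away t where
  toFun a := jm t a * vt t ^ n
  map_add' a a' := by rw [map_add, add_mul]
  map_smul' c a := by
    rw [smul_eq_mul, map_mul, RingHom.id_apply, Algebra.smul_def, mul_assoc]

/-- the fractional ideal -/
noncomputable def M : Submodule A (Localization.Away t) := Submodule.map (ell t n) (J t ι n)

theorem mem_M {x : Localization.Away t} :
    x ∈ M t ι n ↔ ∃ a ∈ J t ι n, x * jm t t ^ n = jm t a := by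
  unfold M
  rw [Submodule.mem_map]
  constructor
  · rintro ⟨a, ha, rfl⟩
    refine ⟨a, ha, ?_⟩
    show jm t a * vt t ^ n * jm t t ^ n = jm t a
    rw [mul_assoc, mul_comm (vt t ^ n), jt_pow_mul_vt_pow, mul_one]
  · rintro ⟨a, ha, h⟩
    refine ⟨a, ha, ?_⟩
    show jm t a * vt t ^ n = x
    rw [← h, mul_assoc, jt_pow_mul_vt_pow, mul_one]

theorem one_mem_M : (1 : Localization.Away t) ∈ M t ι n :=
  (mem_M t ι n).2 ⟨t ^ n, fun i => ⟨1, by rw [map_pow, mul_one]⟩, by rw [one_mul, map_pow]⟩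

/-- the multiplier ring of the fractional ideal -/
noncomputable def C : Subalgebra A (Localization.Away t) where
  carrier := {x | ∀ y ∈ M t ι n, x * y ∈ M t ι n}
  mul_mem' := fun {x x'} hx hx' y hy => by
    rw [mul_assoc]
    exact hx _ (hx' _ hy)
  one_mem' := fun y hy => by rwa [one_mul]
  add_mem' := fun {x x'} hx hx' y hy => by
    rw [add_mul]
    exact (M t ι n).add_mem (hx _ hy) (hx' _ hy)
  zero_mem' := fun y _ => by
    rw [zero_mul]
    exact (M t ι n).zero_mem
  algebraMap_mem' := fun a y hy => by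
    rw [← Algebra.smul_def]
    exact (M t ι n).smul_mem a hy

theorem mem_C {x : Localization.Away t} :
    x ∈ C t ι n ↔ ∀ y ∈ M t ι n, x * y ∈ M t ι n := Iff.rfl

theorem C_le_M {x : Localization.Away t} (hx : x ∈ C t ι n) : x ∈ M t ι n := by
  have := hx 1 (one_mem_M t ι n)
  rwa [mul_one] at this

theorem rel_of_mem (i : I) {x : Localization.Away t} (hx : x ∈ M t ι n) :
    ∃ b : B i, Rel t ι i x b := by
  obtain ⟨a, ha, h⟩ := (mem_M t ι n).1 hx
  obtain ⟨b, hb⟩ := ha i
  exact ⟨b, n, a, h, hb⟩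

/-- the local component -/
noncomputable def psi (i : I) (c : ↥(C t ι n)) : B i :=
  Classical.choose (rel_of_mem t ι n i (C_le_M t ι n c.2))

theorem psi_spec (i : I) (c : ↥(C t ι n)) :
    Rel t ι i (c : Localization.Away t) (psi t ι n i c) :=
  Classical.choose_spec (rel_of_mem t ι n i (C_le_M t ι n c.2))

variable {t q ι n}

section withData

variable (hd : Data t q ι n)
include hd

theorem j_inj : Function.Injective (jm t) :=
  IsLocalization.injective (Localization.Away t) (Submonoid.powers_le.2 hd.tnzd)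

theorem tcancel (i : I) (k : ℕ) {b b' : B i} (h : ι i t ^ k * b = ι i t ^ k * b') : b = b' := by
  induction k with
  | zero => simpa using h
  | succ k ih =>
    apply ih
    have h2 : ι i t * (ι i t ^ k * b - ι i t ^ k * b') = 0 := by
      rw [mul_sub, ← mul_assoc, ← mul_assoc, ← pow_succ', h, sub_self]
    exact sub_eq_zero.1 (hd.treg i _ h2)

theorem rel_fun {i : I} {x : Localization.Away t} {b b' : B i} (h : Rel t ι i x b)
    (h' : Rel t ι i x b') : b = b' := by
  obtain ⟨k, a, h1, h2⟩ := h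
  obtain ⟨k', a', h1', h2'⟩ := h'
  have e : a * t ^ k' = a' * t ^ k := by
    apply j_inj hd
    rw [map_mul, map_mul, map_pow, map_pow, ← h1, ← h1']
    ring
  apply tcancel hd i (k + k')
  have := congrArg (ι i) e
  rw [map_mul, map_mul, map_pow, map_pow, h2, h2'] at this
  rw [pow_add]
  linear_combination this

theorem not_mem_mul (i : I) {a b : A} (ha : a ∉ q i) (hb : b ∉ q i) : a * b ∉ q i :=
  fun h => ((hd.prime i).mem_or_mem h).elim ha hb

/-- the local component as a ring map -/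
noncomputable def psiHom (i : I) : ↥(C t ι n) →+* B i where
  toFun := psi t ι n i
  map_one' := rel_fun hd (psi_spec t ι n i 1) (rel_one t ι i)
  map_mul' x y := rel_fun hd (psi_spec t ι n i (x * y))
    (rel_mul t ι (psi_spec t ι n i x) (psi_spec t ι n i y))
  map_zero' := rel_fun hd (psi_spec t ι n i 0) (rel_zero t ι i)
  map_add' x y := rel_fun hd (psi_spec t ι n i (x + y))
    (rel_add t ι (psi_spec t ι n i x) (psi_spec t ι n i y))

theorem psiHom_apply (i : I) (c : ↥(C t ι n)) : psiHom hd i c = psi t ι n i c := rfl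

theorem psi_alg (i : I) (a : A) : psi t ι n i (algebraMap A ↥(C t ι n) a) = ι i a :=
  rel_fun hd (psi_spec t ι n i _) (rel_alg t ι i a)

theorem local_zero (i : I) (c : ↥(C t ι n)) (h : psi t ι n i c = 0) :
    ∃ s, s ∉ q i ∧ s • c = 0 := by
  obtain ⟨k, a, h1, h2⟩ := psi_spec t ι n i c
  rw [h, mul_zero] at h2
  obtain ⟨s, hs, hsa⟩ := hd.ker i a h2
  refine ⟨s, hs, Subtype.ext ?_⟩
  show s • (c : Localization.Away t) = 0
  have h3 : jm t s * (c : Localization.Away t) * jm t t ^ k = 0 := by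
    rw [mul_assoc, h1, ← map_mul, hsa, map_zero]
  have hu : IsUnit (jm t t ^ k) := (IsLocalization.Away.algebraMap_isUnit t).pow k
  rw [Algebra.smul_def]
  exact hu.mul_left_eq_zero.1 h3

theorem inj_C : Function.Injective (algebraMap A ↥(C t ι n)) :=
  fun _ _ h => j_inj hd (congrArg Subtype.val h)

theorem coker_C (c : ↥(C t ι n)) (r : A) (hr : r ∈ Ideal.span {t} ^ n) :
    r • c ∈ (algebraMap A ↥(C t ι n)).range := by
  rw [Ideal.span_singleton_pow, Ideal.mem_span_singleton'] at hr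
  obtain ⟨r', rfl⟩ := hr
  obtain ⟨a, _, ha⟩ := (mem_M t ι n).1 (C_le_M t ι n c.2)
  refine ⟨r' * a, Subtype.ext ?_⟩
  show jm t (r' * a) = (r' * t ^ n) • (c : Localization.Away t)
  rw [Algebra.smul_def, map_mul, map_mul, map_pow, ← ha]
  ring

theorem finite_C [IsNoetherianRing A] : Module.Finite A ↥(C t ι n) := by
  have hM : (M t ι n).FG := (IsNoetherian.noetherian (J t ι n)).map _
  haveI : IsNoetherian A ↥(M t ι n) := isNoetherian_of_fg_of_noetherian _ hM
  have hle : Subalgebra.toSubmodule (C t ι n) ≤ M t ι n := fun x hx => C_le_M t ι n hx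
  haveI : IsNoetherian A ↥(Subalgebra.toSubmodule (C t ι n)) := isNoetherian_of_le hle
  exact Module.Finite.equiv (Subalgebra.toSubmoduleEquiv (C t ι n))

theorem local_surj [IsNoetherianRing A] (i : I) (b : B i) :
    ∃ c : ↥(C t ι n), ∃ s, s ∉ q i ∧ psi t ι n i c = ι i s * b := by
  classical
  obtain ⟨s₀, a₀, hs₀, h0⟩ := hd.cok i b
  obtain ⟨g, hg, hgj⟩ := hd.crt i
  have step1 : ∀ a ∈ J t ι n, ∃ s, s ∉ q i ∧ ∃ a' ∈ J t ι n, s * a₀ * a = t ^ n * a' := by
    intro a ha
    obtain ⟨ba, hba⟩ := ha i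
    obtain ⟨s₁, a₁, hs₁, h1⟩ := hd.cok i (ι i s₀ * b * ba)
    have hz : ι i (s₁ * a₀ * a - t ^ n * a₁) = 0 := by
      simp only [map_sub, map_mul, map_pow]
      rw [← h1, ← h0, hba]
      ring
    obtain ⟨s₂, hs₂, h2⟩ := hd.ker i _ hz
    refine ⟨g * s₂ * s₁, not_mem_mul hd i (not_mem_mul hd i hg hs₂) hs₁, g * s₂ * a₁, ?_, ?_⟩
    · intro j
      by_cases hj : j = i
      · rw [hj]
        exact ⟨ι i (g * s₂) * (ι i s₁ * (ι i s₀ * b * ba)), by
          rw [map_mul (ι i) (g * s₂) a₁, ← h1]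
          ring⟩
      · obtain ⟨s', hs', a', h'⟩ := hgj j hj
        obtain ⟨w, hw⟩ := (hd.unit j s' hs').exists_left_inv
        refine ⟨w * ι j a' * ι j (s₂ * a₁), ?_⟩
        have h3 := congrArg (ι j) h'
        rw [map_mul, map_mul, map_pow] at h3
        calc ι j (g * s₂ * a₁) = (w * ι j s') * ι j g * ι j (s₂ * a₁) := by
              rw [hw, one_mul, mul_assoc, map_mul]
          _ = w * (ι j s' * ι j g) * ι j (s₂ * a₁) := by ring
          _ = ι j t ^ n * (w * ι j a' * ι j (s₂ * a₁)) := by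
              rw [h3]
              ring
    · have h2' : s₂ * (s₁ * a₀ * a) = s₂ * (t ^ n * a₁) := by
        have h4 := h2
        rw [mul_sub] at h4
        exact sub_eq_zero.1 h4
      linear_combination g * h2'
  obtain ⟨m, f, hf⟩ :=
    Submodule.fg_iff_exists_fin_generating_family.1 (IsNoetherian.noetherian (J t ι n))
  have hfJ : ∀ k, f k ∈ J t ι n := fun k => hf ▸ Submodule.subset_span ⟨k, rfl⟩
  choose sk hsk ak hak hek using fun k => step1 (f k) (hfJ k)
  have hs : (∏ k, sk k) ∉ q i := by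
    intro h
    obtain ⟨k, _, hk⟩ := (hd.prime i).prod_mem_iff.1 h
    exact hsk k hk
  have step2 : ∀ a ∈ J t ι n, ∃ a' ∈ J t ι n, (∏ k, sk k) * a₀ * a = t ^ n * a' := by
    intro a ha
    rw [← hf] at ha
    induction ha using Submodule.span_induction with
    | mem x hx =>
      obtain ⟨k, rfl⟩ := hx
      obtain ⟨d, hd'⟩ := Finset.dvd_prod_of_mem sk (Finset.mem_univ k)
      refine ⟨d * ak k, Ideal.mul_mem_left _ _ (hak k), ?_⟩
      rw [hd']
      linear_combination d * hek k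
    | zero => exact ⟨0, Submodule.zero_mem _, by ring⟩
    | add x y _ _ hx hy =>
      obtain ⟨x', hx', ex⟩ := hx
      obtain ⟨y', hy', ey⟩ := hy
      exact ⟨x' + y', Submodule.add_mem _ hx' hy', by linear_combination ex + ey⟩
    | smul c x _ hx =>
      obtain ⟨x', hx', ex⟩ := hx
      exact ⟨c * x', Ideal.mul_mem_left _ _ hx', by
        rw [smul_eq_mul]
        linear_combination c * ex⟩
  have hxC : jm t ((∏ k, sk k) * a₀) * vt t ^ n ∈ C t ι n := by
    intro y hy
    obtain ⟨a, ha, hya⟩ := (mem_M t ι n).1 hy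
    obtain ⟨a', ha', he⟩ := step2 a ha
    refine (mem_M t ι n).2 ⟨a', ha', ?_⟩
    calc jm t ((∏ k, sk k) * a₀) * vt t ^ n * y * jm t t ^ n
        = jm t ((∏ k, sk k) * a₀) * vt t ^ n * (y * jm t t ^ n) := by ring
      _ = jm t ((∏ k, sk k) * a₀ * a) * vt t ^ n := by
          rw [hya, map_mul (jm t) ((∏ k, sk k) * a₀) a]
          ring
      _ = jm t a' * (jm t t ^ n * vt t ^ n) := by
          rw [he, map_mul, map_pow]
          ring
      _ = jm t a' := by rw [jt_pow_mul_vt_pow, mul_one]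
  refine ⟨⟨_, hxC⟩, (∏ k, sk k) * s₀, not_mem_mul hd i hs hs₀, ?_⟩
  refine rel_fun hd (psi_spec t ι n i ⟨_, hxC⟩) ⟨n, (∏ k, sk k) * a₀, ?_, ?_⟩
  · show jm t ((∏ k, sk k) * a₀) * vt t ^ n * jm t t ^ n = jm t ((∏ k, sk k) * a₀)
    rw [mul_assoc, mul_comm (vt t ^ n), jt_pow_mul_vt_pow, mul_one]
  · rw [map_mul, ← h0, map_mul]
    ring

end withData

end Groth.Agent.H9.GlueT
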