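import Mathlib
import Groth.Prelude.Def_CycAlg
import Groth.Agent.Lib.Helper9.Misc.GlueTA
import Groth.Agent.Lib.Helper9.Misc.GlueMaxD

universe u

open scoped TensorProduct

namespace Groth.Agent.H9.GlueT

theorem no_chain (A : Type u) [CommRing A] [IsNoetherianRing A] [IsLocalRing A]
    (hA : ringKrullDim A = 2) (t : A) (htnz : t ∈ nonZeroDivisors A)
    (P Q : Ideal A) [P.IsPrime] [Q.IsPrime] (htP : t ∈ P) (hPQ : P < Q)
    (hQ : Q ≠ IsLocalRing.maximalIdeal A) : False := by
  obtain ⟨p₀, hp₀, hp₀P⟩ := Ideal.exists_minimalPrimes_le (bot_le : (⊥ : Ideal A) ≤ P)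
  haveI : p₀.IsPrime := hp₀.1.1
  have hne : p₀ ≠ P := by
    rintro rfl
    exact Set.disjoint_left.1 (Ideal.disjoint_nonZeroDivisors_of_mem_minimalPrimes hp₀) htP htnz
  have h01 : p₀ < P := lt_of_le_of_ne hp₀P hne
  have hQm : Q < IsLocalRing.maximalIdeal A :=
    lt_of_le_of_ne (IsLocalRing.le_maximalIdeal (Ideal.IsPrime.ne_top ‹_›)) hQ
  have a1 := Ideal.height_strict_mono_of_isPrime_of_isPrime h01
  have a2 := Ideal.height_strict_mono_of_isPrime_of_isPrime hPQ
  have a3 := Ideal.height_strict_mono_of_isPrime_of_isPrime hQm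
  have h3 : (IsLocalRing.maximalIdeal A).height ≤ 2 := by
    have h4 := Ideal.height_le_ringKrullDim_of_isPrime (I := IsLocalRing.maximalIdeal A)
    rw [hA] at h4
    have h5 : ((IsLocalRing.maximalIdeal A).height : WithBot ℕ∞) ≤ ((2 : ℕ∞) : WithBot ℕ∞) := h4
    exact WithBot.coe_le_coe.1 h5
  have b3 := Order.add_one_le_of_lt a3
  have b2 := Order.add_one_le_of_lt a2
  have b1 := Order.add_one_le_of_lt a1
  have : (3 : ℕ∞) ≤ 2 := by
    calc (3 : ℕ∞) = 0 + 1 + 1 + 1 := by norm_num
      _ ≤ p₀.height + 1 + 1 + 1 := by gcongr; exact zero_le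
      _ ≤ P.height + 1 + 1 := by gcongr
      _ ≤ Q.height + 1 := by gcongr
      _ ≤ (IsLocalRing.maximalIdeal A).height := b3
      _ ≤ 2 := h3
  exact absurd this (by norm_num)

section

variable (A : Type u) [CommRing A] [IsNoetherianRing A] [IsLocalRing A]
  (hA : ringKrullDim A = 2) (t : A) (htnz : t ∈ nonZeroDivisors A) {I : Type} (q : I → Ideal A)
  (hq : ∀ i, (q i).IsPrime) (hqm : ∀ i, q i ≠ IsLocalRing.maximalIdeal A) (htq : ∀ i, t ∈ q i)
  (hV : ∀ p : Ideal A, p.IsPrime → t ∈ p → p = IsLocalRing.maximalIdeal A ∨ ∃ i, p = q i)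

include hA htnz hq hqm htq hV

theorem exists_pow_eq (n : ℕ) (j : I) (e : A) (he : e ∈ q j) :
    ∃ K s a, s ∉ q j ∧ s * e ^ K = t ^ n * a := by
  haveI := hq j
  have hrad : IsLocalRing.maximalIdeal (Localization.AtPrime (q j)) ≤
      (Ideal.span {algebraMap A (Localization.AtPrime (q j)) t}).radical := by
    rw [Ideal.radical_eq_sInf]
    refine le_sInf ?_
    rintro P' ⟨hP'le, hP'⟩
    have htP : t ∈ P'.comap (algebraMap A (Localization.AtPrime (q j))) :=
      Ideal.mem_comap.2 (hP'le (Ideal.subset_span rfl))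
    have hPle : P'.comap (algebraMap A (Localization.AtPrime (q j))) ≤ q j := by
      have h1 : P' ≤ IsLocalRing.maximalIdeal (Localization.AtPrime (q j)) :=
        IsLocalRing.le_maximalIdeal hP'.ne_top
      calc P'.comap (algebraMap A (Localization.AtPrime (q j)))
          ≤ (IsLocalRing.maximalIdeal (Localization.AtPrime (q j))).comap
              (algebraMap A (Localization.AtPrime (q j))) := Ideal.comap_mono h1
        _ = q j := IsLocalization.AtPrime.under_maximalIdeal (Localization.AtPrime (q j)) (q j)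
    haveI hPprime : (P'.comap (algebraMap A (Localization.AtPrime (q j)))).IsPrime :=
      Ideal.comap_isPrime _ _
    have hPeq : P'.comap (algebraMap A (Localization.AtPrime (q j))) = q j := by
      rcases hV _ hPprime htP with h | ⟨k, hk⟩
      · exfalso
        apply hqm j
        have hle : IsLocalRing.maximalIdeal A ≤ q j := h ▸ hPle
        exact ((IsLocalRing.maximalIdeal.isMaximal A).eq_of_le (hq j).ne_top hle).symm
      · by_contra hne
        haveI := hq k
        have hlt : q k < q j := lt_of_le_of_ne (hk ▸ hPle) (fun h => hne (hk.trans h))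
        exact no_chain A hA t htnz (q k) (q j) (htq k) hlt (hqm j)
    have hP'eq : P' = IsLocalRing.maximalIdeal (Localization.AtPrime (q j)) := by
      calc P' = Ideal.map (algebraMap A (Localization.AtPrime (q j)))
            (P'.comap (algebraMap A (Localization.AtPrime (q j)))) :=
            (IsLocalization.map_under (q j).primeCompl (Localization.AtPrime (q j)) P').symm
        _ = Ideal.map (algebraMap A (Localization.AtPrime (q j))) (q j) := by rw [hPeq]
        _ = IsLocalRing.maximalIdeal (Localization.AtPrime (q j)) :=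
            Localization.AtPrime.map_eq_maximalIdeal
    exact hP'eq ▸ le_rfl
  obtain ⟨K, hK⟩ := Ideal.exists_pow_le_of_le_radical_of_fg hrad (IsNoetherian.noetherian _)
  have he' : algebraMap A (Localization.AtPrime (q j)) e ∈
      IsLocalRing.maximalIdeal (Localization.AtPrime (q j)) :=
    (IsLocalization.AtPrime.to_map_mem_maximal_iff (Localization.AtPrime (q j)) (q j) e).2 he
  have h1 : algebraMap A (Localization.AtPrime (q j)) e ^ (K * n) ∈
      Ideal.span {algebraMap A (Localization.AtPrime (q j)) t ^ n} := by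
    rw [← Ideal.span_singleton_pow, pow_mul]
    exact Ideal.pow_mem_pow (hK (Ideal.pow_mem_pow he' K)) n
  obtain ⟨z, hz⟩ := Ideal.mem_span_singleton'.1 h1
  obtain ⟨⟨a, s⟩, has⟩ := IsLocalization.surj (q j).primeCompl z
  dsimp only at has
  have h2 : algebraMap A (Localization.AtPrime (q j)) ((s : A) * e ^ (K * n)) =
      algebraMap A (Localization.AtPrime (q j)) (t ^ n * a) := by
    rw [map_mul, map_mul, map_pow, map_pow, ← hz, ← has]
    ring
  obtain ⟨c, hc⟩ := (IsLocalization.eq_iff_exists (q j).primeCompl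
    (Localization.AtPrime (q j))).1 h2
  refine ⟨K * n, (c : A) * s, (c : A) * a, ?_, ?_⟩
  · exact fun h => ((hq j).mem_or_mem h).elim c.2 s.2
  · linear_combination hc

theorem exists_crt [Fintype I] (hinj : Function.Injective q) (n : ℕ) (i : I) :
    ∃ g, g ∉ q i ∧ ∀ j, j ≠ i → ∃ s, s ∉ q j ∧ ∃ a, s * g = t ^ n * a := by
  classical
  have hex : ∀ j, j ≠ i → ∃ e, e ∈ q j ∧ e ∉ q i := by
    intro j hj
    by_contra hcon
    push_neg at hcon
    have hle : q j ≤ q i := hcon
    haveI := hq j
    haveI := hq i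
    have hlt : q j < q i := lt_of_le_of_ne hle (fun h => hj (hinj h))
    exact no_chain A hA t htnz (q j) (q i) (htq j) hlt (hqm i)
  have hfac : ∀ j, ∃ h : A, h ∉ q i ∧
      (j ≠ i → ∃ s, s ∉ q j ∧ ∃ a, s * h = t ^ n * a) := by
    intro j
    by_cases hj : j = i
    · exact ⟨1, (Ideal.ne_top_iff_one _).1 (hq i).ne_top, fun h => absurd hj h⟩
    · obtain ⟨e, hej, hei⟩ := hex j hj
      obtain ⟨K, s, a, hs, hsa⟩ := exists_pow_eq A hA t htnz q hq hqm htq hV n j e hej
      exact ⟨e ^ K, fun h => hei ((hq i).mem_of_pow_mem K h), fun _ => ⟨s, hs, a, hsa⟩⟩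
  choose h hh1 hh2 using hfac
  refine ⟨∏ j, h j, ?_, ?_⟩
  · intro hmem
    obtain ⟨j, _, hj⟩ := (hq i).prod_mem_iff.1 hmem
    exact hh1 j hj
  · intro j hj
    obtain ⟨s, hs, a, hsa⟩ := hh2 j hj
    obtain ⟨d, hd⟩ := Finset.dvd_prod_of_mem h (Finset.mem_univ j)
    exact ⟨s, hs, a * d, by
      rw [hd]
      linear_combination d * hsa⟩

end

theorem loc_cok {A : Type u} [CommRing A] (p : Ideal A) [p.IsPrime] (L : Type u) [CommRing L]
    [Algebra A L] [IsLocalization.AtPrime L p] (Bi : Type u) [CommRing Bi] [Algebra L Bi] (t : A)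
    (k n : ℕ) (hk : k ≤ n)
    (hcok : ∀ r ∈ Ideal.span {algebraMap A L t} ^ k, ∀ b : Bi, r • b ∈ (algebraMap L Bi).range)
    (b : Bi) :
    ∃ (s a : A), s ∉ p ∧ algebraMap L Bi (algebraMap A L s) *
      (algebraMap L Bi (algebraMap A L t) ^ n * b) = algebraMap L Bi (algebraMap A L a) := by
  have hmem : algebraMap A L t ^ n ∈ Ideal.span {algebraMap A L t} ^ k :=
    Ideal.pow_le_pow_right hk (Ideal.pow_mem_pow (Ideal.mem_span_singleton_self _) n)
  obtain ⟨z, hz⟩ := hcok _ hmem b
  obtain ⟨⟨a, s⟩, has⟩ := IsLocalization.surj p.primeCompl z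
  dsimp only at has
  refine ⟨s, a, s.2, ?_⟩
  rw [← has, map_mul, hz, Algebra.smul_def, map_pow]
  ring

theorem loc_treg {A : Type u} [CommRing A] (L : Type u) [CommRing L]
    [Algebra A L] (Bi : Type u) [CommRing Bi] [Algebra L Bi] (t : A)
    (hreg : IsSMulRegular Bi (algebraMap A L t)) (b : Bi)
    (hb : algebraMap L Bi (algebraMap A L t) * b = 0) : b = 0 := by
  have h1 : algebraMap A L t • b = algebraMap A L t • (0 : Bi) := by
    rw [smul_zero, Algebra.smul_def]
    exact hb
  exact hreg h1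

/-- gluing along a nonzerodivisor in dimension two, concrete form -/
theorem main6481 (A : Type u) [CommRing A] [IsNoetherianRing A] [IsLocalRing A]
    (hA : ringKrullDim A = 2) (t : A) (ht : t ∈ IsLocalRing.maximalIdeal A)
    (htnz : t ∈ nonZeroDivisors A) (r : ℕ) (q : Fin r → Ideal A) (hq : ∀ i, (q i).IsPrime)
    (hinj : Function.Injective q) (hqm : ∀ i, q i ≠ IsLocalRing.maximalIdeal A)
    (htq : ∀ i, t ∈ q i)
    (hV : ∀ p : Ideal A, p.IsPrime → t ∈ p → p = IsLocalRing.maximalIdeal A ∨ ∃ i, p = q i)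
    (B : Fin r → Type u) [∀ i, CommRing (B i)] [∀ i, Algebra (Localization.AtPrime (q i)) (B i)]
    (hB : ∀ i, CycAlg.IsFinExt (Localization.AtPrime (q i)) (B i)
      (Ideal.span {algebraMap A (Localization.AtPrime (q i)) t}))
    (htB : ∀ i, IsSMulRegular (B i) (algebraMap A (Localization.AtPrime (q i)) t)) :
    ∃ (C : Type u) (_ : CommRing C) (_ : Algebra A C), CycAlg.IsFinExt A C (Ideal.span {t}) ∧
      ∀ i, Nonempty (TensorProduct A (Localization.AtPrime (q i)) C
        ≃ₐ[Localization.AtPrime (q i)] B i) := by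
  classical
  choose nc hnc using fun i => (hB i).2.2
  obtain ⟨n, hn⟩ : ∃ n : ℕ, n = ∑ i, nc i := ⟨_, rfl⟩
  have hnc' : ∀ i, nc i ≤ n := fun i => hn ▸
    Finset.single_le_sum (f := nc) (fun _ _ => Nat.zero_le _) (Finset.mem_univ i)
  obtain ⟨ι, hιa⟩ : ∃ ι : ∀ i, A →+* B i, ∀ i a, ι i a =
      algebraMap (Localization.AtPrime (q i)) (B i)
        (algebraMap A (Localization.AtPrime (q i)) a) :=
    ⟨fun i => (algebraMap (Localization.AtPrime (q i)) (B i)).comp
      (algebraMap A (Localization.AtPrime (q i))), fun _ _ => rfl⟩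
  have hd : Data t q ι n :=
    { tnzd := htnz
      prime := hq
      unit := fun i s hs => GlueMax.loc_unit i (Localization.AtPrime (q i)) (hιa i) s hs
      ker := fun i a ha =>
        GlueMax.loc_inj i (Localization.AtPrime (q i)) (hιa i) (hB i).1 a ha
      treg := fun i b hb => by
        rw [hιa] at hb
        exact loc_treg (Localization.AtPrime (q i)) (B i) t (htB i) b hb
      cok := fun i b => by
        obtain ⟨s, a, hs, h⟩ := loc_cok (q i) (Localization.AtPrime (q i)) (B i) t (nc i) n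
          (hnc' i) (hnc i) b
        exact ⟨s, a, hs, by rw [hιa, hιa, hιa]; exact h⟩
      crt := fun i => exists_crt A hA t htnz q hq hqm htq hV hinj n i }
  refine ⟨↥(C t ι n), inferInstance, inferInstance,
    ⟨inj_C hd, finite_C hd, n, fun r hr c => coker_C hd c r hr⟩, fun i => ?_⟩
  letI : Algebra A (B i) := (ι i).toAlgebra
  haveI : IsScalarTower A (Localization.AtPrime (q i)) (B i) :=
    IsScalarTower.of_algebraMap_eq (fun a => hιa i a)
  let g : ↥(C t ι n) →ₐ[A] B i :=
    { (psiHom hd i) with commutes' := fun a => psi_alg hd i a }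
  exact tensor_equiv_of_local (q i) (Localization.AtPrime (q i)) (B i) ↥(C t ι n) g
    (fun c hc => local_zero hd i c hc)
    (fun b => by
      obtain ⟨c, s, hs, hc⟩ := local_surj hd i b
      exact ⟨c, s, hs, hc⟩)

end Groth.Agent.H9.GlueT
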