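import Mathlib

/-! Helper9: graded completeness of f.g. projective graded modules (S16422) -/

universe u

namespace Groth.Agent.H9.GrCompl

open DirectSum

section
variable {S : Type*} [CommRing S] (𝒜 : ℤ → AddSubgroup S) [GradedRing 𝒜]
variable {M : Type*} [AddCommGroup M] [Module S M] (ℳ : ℤ → AddSubgroup M)
  [DirectSum.Decomposition ℳ] [SetLike.GradedSMul 𝒜 ℳ]

lemma decompose_smul_of_mem (a : S) {y : M} {d : ℤ} (hy : y ∈ ℳ d) (n : ℤ) :
    ((decompose ℳ (a • y) n : ℳ n) : M) = ((decompose 𝒜 a (n - d) : 𝒜 (n - d)) : S) • y := by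
  induction a using DirectSum.Decomposition.inductionOn 𝒜 with
  | zero => simp
  | @homogeneous j a =>
    have hmem : (a : S) • y ∈ ℳ (j + d) := SetLike.GradedSMul.smul_mem a.2 hy
    by_cases hj : j + d = n
    · have hj' : j = n - d := by omega
      subst hj
      rw [decompose_of_mem_same ℳ hmem]
      have : ((decompose 𝒜 (a : S) (j + d - d) : 𝒜 (j + d - d)) : S) = a := by
        have h2 : (a : S) ∈ 𝒜 (j + d - d) := by
          have : j + d - d = j := by omega
          rw [this]; exact a.2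
        exact decompose_of_mem_same 𝒜 h2
      rw [this]
    · rw [decompose_of_mem_ne ℳ hmem hj]
      have hj' : j ≠ n - d := by omega
      rw [decompose_of_mem_ne 𝒜 a.2 hj', zero_smul]
  | add a b ha hb =>
    rw [add_smul, decompose_add, decompose_add, DirectSum.add_apply, DirectSum.add_apply]
    push_cast
    rw [ha, hb, add_smul]

lemma coord_mem_of_mem_smul {J : Type*} (I : Ideal S) (c : J → S)
    (hc : c ∈ I • (⊤ : Submodule S (J → S))) (j : J) : c j ∈ I := by
  refine Submodule.smul_induction_on (p := fun c => c j ∈ I) hc ?_ ?_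
  · intro r hr m _
    simp only [Pi.smul_apply, smul_eq_mul]
    exact I.mul_mem_right _ hr
  · intro x y hx hy
    simp only [Pi.add_apply]
    exact I.add_mem hx hy

end

theorem main
    (S : Type u) [CommRing S] (𝒜 : ℤ → AddSubgroup S) [GradedRing 𝒜]
    (V : ℕ → HomogeneousIdeal 𝒜) (hV : ∀ m, (V (m + 1)).toIdeal ≤ (V m).toIdeal)
    (hsep : ∀ (n : ℤ) (s : S), s ∈ 𝒜 n → (∀ m, s ∈ (V m).toIdeal) → s = 0)
    (hcpl : ∀ (n : ℤ) (f : ℕ → S), (∀ m, f m ∈ 𝒜 n) →
      (∀ m, f (m + 1) - f m ∈ (V m).toIdeal) → ∃ s ∈ 𝒜 n, ∀ m, s - f m ∈ (V m).toIdeal)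
    (M : Type u) [AddCommGroup M] [Module S M] (ℳ : ℤ → AddSubgroup M)
    [DirectSum.Decomposition ℳ] [SetLike.GradedSMul 𝒜 ℳ]
    [Module.Finite S M] [Module.Projective S M] :
    (∀ (n : ℤ) (x : M), x ∈ ℳ n → (∀ m, x ∈ (V m).toIdeal • (⊤ : Submodule S M)) → x = 0) ∧
    (∀ (n : ℤ) (g : ℕ → M), (∀ m, g m ∈ ℳ n) →
      (∀ m, g (m + 1) - g m ∈ (V m).toIdeal • (⊤ : Submodule S M)) →
      ∃ x ∈ ℳ n, ∀ m, x - g m ∈ (V m).toIdeal • (⊤ : Submodule S M)) := by
  classical
  -- homogeneous generators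
  obtain ⟨k, s0, hs0⟩ := Module.Finite.exists_fin (R := S) (M := M)
  let D : Finset ℤ := Finset.univ.biUnion (fun i : Fin k => (decompose ℳ (s0 i)).support)
  let J := Fin k × D
  let deg : J → ℤ := fun j => (j.2 : ℤ)
  let xg : J → M := fun j => ((decompose ℳ (s0 j.1) (j.2 : ℤ) : ℳ (j.2 : ℤ)) : M)
  have hxg : ∀ j, xg j ∈ ℳ (deg j) := fun j => SetLike.coe_mem _
  have hspan : Submodule.span S (Set.range xg) = ⊤ := by
    rw [eq_top_iff, ← hs0, Submodule.span_le]
    rintro _ ⟨i, rfl⟩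
    rw [← sum_support_decompose ℳ (s0 i)]
    refine Submodule.sum_mem _ (fun d hd => ?_)
    have hdD : d ∈ D := Finset.mem_biUnion.mpr ⟨i, Finset.mem_univ _, hd⟩
    exact Submodule.subset_span ⟨(i, ⟨d, hdD⟩), rfl⟩
  let π : (J → S) →ₗ[S] M := Fintype.linearCombination S xg
  have hπ : Function.Surjective π := by
    rw [← LinearMap.range_eq_top, Fintype.range_linearCombination, hspan]
  obtain ⟨σ, hσ⟩ := Module.projective_lifting_property π LinearMap.id hπ
  have hσ' : ∀ x, π (σ x) = x := fun x => by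
    have := LinearMap.congr_fun hσ x
    simpa using this
  have hπ_apply : ∀ c : J → S, π c = ∑ j, c j • xg j := fun c => by
    simp [π, Fintype.linearCombination_apply]
  -- (a)
  have key : ∀ (n : ℤ) (x : M), x ∈ ℳ n →
      x = ∑ j, ((decompose 𝒜 (σ x j) (n - deg j) : 𝒜 (n - deg j)) : S) • xg j := by
    intro n x hx
    have h1 : x = ∑ j, (σ x j) • xg j := by rw [← hπ_apply, hσ']
    have h2 : ((decompose ℳ x n : ℳ n) : M) = x := decompose_of_mem_same ℳ hx
    conv_lhs => rw [← h2, h1]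
    rw [decompose_sum, DFinsupp.finsetSum_apply, AddSubmonoidClass.coe_finsetSum]
    refine Finset.sum_congr rfl (fun j _ => ?_)
    exact decompose_smul_of_mem 𝒜 ℳ (σ x j) (hxg j) n
  -- (b)
  have hb : ∀ (I : Ideal S) (x : M), x ∈ I • (⊤ : Submodule S M) → ∀ j, σ x j ∈ I := by
    intro I x hx j
    apply coord_mem_of_mem_smul I (σ x) _ j
    have := Submodule.mem_map_of_mem (f := σ) hx
    rw [Submodule.map_smul''] at this
    exact Submodule.smul_mono le_rfl le_top this
  have hbc : ∀ (m : ℕ) (x : M), x ∈ (V m).toIdeal • (⊤ : Submodule S M) → ∀ j (i : ℤ),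
      ((decompose 𝒜 (σ x j) i : 𝒜 i) : S) ∈ (V m).toIdeal := by
    intro m x hx j i
    exact (V m).isHomogeneous i (hb _ x hx j)
  refine ⟨?_, ?_⟩
  · intro n x hx hxV
    rw [key n x hx]
    refine Finset.sum_eq_zero (fun j _ => ?_)
    have : ((decompose 𝒜 (σ x j) (n - deg j) : 𝒜 (n - deg j)) : S) = 0 :=
      hsep (n - deg j) _ (SetLike.coe_mem _) (fun m => hbc m x (hxV m) j _)
    rw [this, zero_smul]
  · intro n g hg hgV
    have hex : ∀ j : J, ∃ a ∈ 𝒜 (n - deg j), ∀ m,
        a - ((decompose 𝒜 (σ (g m) j) (n - deg j) : 𝒜 (n - deg j)) : S) ∈ (V m).toIdeal := by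
      intro j
      apply hcpl (n - deg j) (fun m => ((decompose 𝒜 (σ (g m) j) (n - deg j) : 𝒜 (n - deg j)) : S))
      · intro m; exact SetLike.coe_mem _
      · intro m
        have := hbc m _ (hgV m) j (n - deg j)
        rw [map_sub, Pi.sub_apply, decompose_sub, DirectSum.sub_apply] at this
        simpa using this
    choose a ha1 ha2 using hex
    refine ⟨∑ j, a j • xg j, ?_, ?_⟩
    · refine sum_mem (fun j _ => ?_)
      have := SetLike.GradedSMul.smul_mem (A := 𝒜) (B := ℳ) (ha1 j) (hxg j)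
      have e : (n - deg j) +ᵥ deg j = n := by simp
      rwa [e] at this
    · intro m
      rw [key n (g m) (hg m), ← Finset.sum_sub_distrib]
      refine Submodule.sum_mem _ (fun j _ => ?_)
      rw [← sub_smul]
      exact Submodule.smul_mem_smul (ha2 j m) Submodule.mem_top

end Groth.Agent.H9.GrCompl
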