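import Mathlib

/-! Helper9: graded ring A_N = A_d A_{N-d} (S13663). -/

namespace Groth.Agent.H9.GrGen
open DirectSum

universe u
variable {R A : Type u} [CommRing R] [CommRing A] [Algebra R A]
    (𝒜 : ℤ → Submodule R A) [GradedAlgebra 𝒜]

lemma mul_mem_aux (d n i : ℤ) {a w : A} (ha : a ∈ 𝒜 i) (hw : w ∈ 𝒜 d * 𝒜 (n - i - d)) :
    a * w ∈ 𝒜 d * 𝒜 (n - d) := by
  induction hw using Submodule.mul_induction_on' with
  | mem_mul_mem u hu v hv =>
    have : a * (u * v) = u * (a * v) := by ring
    rw [this]
    refine Submodule.mul_mem_mul hu ?_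
    have h2 := SetLike.mul_mem_graded ha hv
    have h3 : i + (n - i - d) = n - d := by ring
    rwa [h3] at h2
  | add x _ y _ hx hy =>
    rw [mul_add]
    exact Submodule.add_mem _ hx hy

/-- components of elements of the ideal generated by `𝒜 d`. -/
lemma proj_mem (d : ℤ) {z : A} (hz : z ∈ Ideal.span (𝒜 d : Set A)) (n : ℤ) :
    (decompose 𝒜 z n : A) ∈ 𝒜 d * 𝒜 (n - d) := by
  induction hz using Submodule.span_induction generalizing n with
  | mem u hu =>
    by_cases h : d = n
    · subst h
      rw [decompose_of_mem_same 𝒜 hu]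
      have : u = u * 1 := (mul_one u).symm
      rw [this]
      exact Submodule.mul_mem_mul hu (by rw [sub_self]; exact SetLike.one_mem_graded 𝒜)
    · rw [decompose_of_mem_ne 𝒜 hu h]
      exact Submodule.zero_mem _
  | zero => simp
  | add x y _ _ hx hy =>
    rw [decompose_add, DirectSum.add_apply, Submodule.coe_add]
    exact Submodule.add_mem _ (hx n) (hy n)
  | smul a z _ hz =>
    rw [smul_eq_mul]
    induction a using DirectSum.Decomposition.inductionOn 𝒜 generalizing n with
    | zero => simp
    | @homogeneous i a =>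
      have h1 := coe_decompose_mul_add_of_left_mem 𝒜 (i := i) (j := n - i) (b := z) a.2
      have h2 : i + (n - i) = n := by ring
      rw [h2] at h1
      rw [h1]
      exact mul_mem_aux 𝒜 d n i a.2 (hz (n - i))
    | add a b ha hb =>
      rw [add_mul, decompose_add, DirectSum.add_apply, Submodule.coe_add]
      exact Submodule.add_mem _ (ha n) (hb n)

variable {p : ℕ} (f : Fin p → A) (deg : Fin p → ℤ) (hdeg : ∀ i, 0 < deg i)
  (hf : ∀ i, f i ∈ 𝒜 (deg i))
  (hgen : Ideal.span {a : A | ∃ n : ℤ, 0 < n ∧ a ∈ 𝒜 n} = Ideal.span (Set.range f))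

include hf hgen in
lemma decomp {m : ℤ} (hm : 0 < m) {y : A} (hy : y ∈ 𝒜 m) :
    ∃ b : Fin p → A, (∀ j, b j ∈ 𝒜 (m - deg j)) ∧ y = ∑ j, b j * f j := by
  have h1 : y ∈ Ideal.span (Set.range f) := by
    rw [← hgen]
    exact Ideal.subset_span ⟨m, hm, hy⟩
  obtain ⟨a, ha⟩ := Ideal.mem_span_range_iff_exists_fun.1 h1
  refine ⟨fun j => (decompose 𝒜 (a j) (m - deg j) : A), fun j => Submodule.coe_mem _, ?_⟩
  have h2 : y = (decompose 𝒜 y m : A) := (decompose_of_mem_same 𝒜 hy).symm
  rw [h2, ← ha, decompose_sum, DFinsupp.finsetSum_apply, AddSubmonoidClass.coe_finsetSum]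
  refine Finset.sum_congr rfl fun j _ => ?_
  have h3 := coe_decompose_mul_add_of_right_mem 𝒜 (i := m - deg j) (j := deg j) (a := a j) (hf j)
  have h4 : m - deg j + deg j = m := by ring
  rw [h4] at h3
  exact h3

include hdeg hf hgen in
lemma key (d : ℤ) : ∀ (k : ℕ) (c : Fin p → ℕ), ∑ i, c i = k → ∀ (g : A),
    (∀ j, g * f j ^ (c j + 1) ∈ Ideal.span (𝒜 d : Set A)) → ∀ (m : ℤ), ∑ i, (c i : ℤ) * deg i < m →
    ∀ y ∈ 𝒜 m, g * y ∈ Ideal.span (𝒜 d : Set A) := by
  intro k
  induction k with
  | zero =>
    intro c hc g hg m hm y hy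
    have hc0 : ∀ i, c i = 0 := by
      intro i
      have := (Finset.sum_eq_zero_iff_of_nonneg (fun i _ => Nat.zero_le (c i))).1 hc i (Finset.mem_univ i)
      exact this
    have hm0 : 0 < m := by
      have : ∑ i, (c i : ℤ) * deg i = 0 := Finset.sum_eq_zero fun i _ => by rw [hc0 i]; simp
      rwa [this] at hm
    obtain ⟨b, hb, rfl⟩ := decomp 𝒜 f deg hf hgen hm0 hy
    rw [Finset.mul_sum]
    refine Ideal.sum_mem _ fun j _ => ?_
    have h1 := hg j
    rw [hc0 j, zero_add, pow_one] at h1
    have : g * (b j * f j) = b j * (g * f j) := by ring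
    rw [this]
    exact Ideal.mul_mem_left _ _ h1
  | succ k ih =>
    intro c hc g hg m hm y hy
    have hm0 : 0 < m := by
      refine lt_of_le_of_lt ?_ hm
      exact Finset.sum_nonneg fun i _ => mul_nonneg (Int.natCast_nonneg _) (hdeg i).le
    obtain ⟨b, hb, rfl⟩ := decomp 𝒜 f deg hf hgen hm0 hy
    rw [Finset.mul_sum]
    refine Ideal.sum_mem _ fun j _ => ?_
    rcases Nat.eq_zero_or_pos (c j) with hcj | hcj
    · have h1 := hg j
      rw [hcj, zero_add, pow_one] at h1
      have : g * (b j * f j) = b j * (g * f j) := by ring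
      rw [this]
      exact Ideal.mul_mem_left _ _ h1
    · -- use the induction hypothesis
      let c' : Fin p → ℕ := fun i => if i = j then c j - 1 else c i
      have hcc : ∀ i, c i = c' i + (if i = j then 1 else 0) := by
        intro i
        by_cases hij : i = j
        · subst hij; simp [c']; omega
        · simp [c', hij]
      have hsum : ∑ i, c' i = k := by
        have : ∑ i, c i = ∑ i, c' i + 1 := by
          rw [Finset.sum_congr rfl (fun i _ => hcc i), Finset.sum_add_distrib]
          simp
        omega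
      have hsum2 : ∑ i, (c i : ℤ) * deg i = ∑ i, (c' i : ℤ) * deg i + deg j := by
        have : ∀ i, (c i : ℤ) * deg i = (c' i : ℤ) * deg i + (if i = j then deg i else 0) := by
          intro i
          rw [hcc i]
          by_cases hij : i = j
          · simp [hij, c']; ring
          · simp [hij, c']
        rw [Finset.sum_congr rfl (fun i _ => this i), Finset.sum_add_distrib]
        simp
      have := ih c' hsum (g * f j) ?_ (m - deg j) (by rw [hsum2] at hm; linarith) (b j) (hb j)
      · have h2 : g * (b j * f j) = g * f j * b j := by ring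
        rw [h2]; exact this
      · intro i
        by_cases hij : i = j
        · subst hij
          have h3 : c' i + 1 = c i := by simp only [c', if_pos rfl]; omega
          rw [h3]
          have := hg i
          rw [pow_succ] at this
          have h4 : g * f i * f i ^ c i = g * (f i ^ c i * f i) := by ring
          rw [h4]; exact this
        · have h3 : c' i = c i := by simp only [c', if_neg hij]
          rw [h3]
          have h4 : g * f j * f i ^ (c i + 1) = f j * (g * f i ^ (c i + 1)) := by ring
          rw [h4]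
          exact Ideal.mul_mem_left _ _ (hg i)

include hdeg hf hgen in
theorem main (d : ℤ) (hd : 0 < d) (hdvd : ∀ i, deg i ∣ d) (N : ℤ)
    (hN : d * p - ∑ i, deg i < N) : 𝒜 N = 𝒜 d * 𝒜 (N - d) := by
  apply le_antisymm
  · intro x hx
    -- exponents e_i = d / deg i
    have he : ∀ i, ∃ e : ℕ, 0 < e ∧ (e : ℤ) * deg i = d := by
      intro i
      obtain ⟨q, hq⟩ := hdvd i
      have hq0 : 0 < q := by
        by_contra hcon
        push Not at hcon
        have : deg i * q ≤ 0 := mul_nonpos_of_nonneg_of_nonpos (hdeg i).le hcon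
        omega
      refine ⟨q.toNat, by omega, ?_⟩
      rw [Int.toNat_of_nonneg hq0.le, hq, mul_comm]
    choose e he0 he1 using he
    have hx1 : (1 : A) * x ∈ Ideal.span (𝒜 d : Set A) := by
      refine key 𝒜 f deg hdeg hf hgen d _ (fun i => e i - 1) rfl 1 ?_ N ?_ x hx
      · intro j
        rw [one_mul]
        apply Ideal.subset_span
        have h1 : e j - 1 + 1 = e j := by have := he0 j; omega
        rw [h1]
        have h2 := SetLike.pow_mem_graded (e j) (hf j)
        have h3 : e j • deg j = d := by rw [nsmul_eq_mul]; exact he1 j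
        rwa [h3] at h2
      · refine lt_of_le_of_lt (le_of_eq ?_) hN
        have : ∀ i, ((e i - 1 : ℕ) : ℤ) * deg i = d - deg i := by
          intro i
          have := he0 i
          rw [Nat.cast_sub (by omega), sub_mul, he1 i]; simp
        rw [Finset.sum_congr rfl (fun i _ => this i), Finset.sum_sub_distrib]
        simp [mul_comm]
    rw [one_mul] at hx1
    have := proj_mem 𝒜 d hx1 N
    rwa [decompose_of_mem_same 𝒜 hx] at this
  · rw [Submodule.mul_le]
    intro u hu v hv
    have := SetLike.mul_mem_graded hu hv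
    have h : d + (N - d) = N := by ring
    rwa [h] at this

end Groth.Agent.H9.GrGen
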