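import Mathlib

/-! Helper9: ℤ-graded rings: Noetherian iff homogeneous ideals f.g. iff finite type over a Noetherian degree-0 part (for S13665). -/

open DirectSum

namespace Groth.Agent.H9.GrNoeth

variable {R A : Type*} [CommRing R] [CommRing A] [Algebra R A]
  (𝒜 : ℤ → Submodule R A) [GradedAlgebra 𝒜]

/-- degree extraction: a homogeneous element of an ideal spanned by a finite set of homogeneous
elements is a combination with homogeneous coefficients of the complementary degrees -/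
theorem exists_homog_coeffs (F : Finset A) (d : A → ℤ) (hd : ∀ f ∈ F, f ∈ 𝒜 (d f)) (n : ℤ) (y : A)
    (hy : y ∈ 𝒜 n) (hyF : y ∈ Ideal.span (F : Set A)) :
    ∃ c : A → A, (∀ f ∈ F, c f ∈ 𝒜 (n - d f)) ∧ y = ∑ f ∈ F, f * c f := by
  rw [Ideal.span, Submodule.mem_span_finset] at hyF
  obtain ⟨b, -, hb⟩ := hyF
  refine ⟨fun f => (decompose 𝒜 (b f) (n - d f) : A), fun f _ => Subtype.coe_prop _, ?_⟩
  have h1 : y = (decompose 𝒜 y n : A) := (decompose_of_mem_same 𝒜 hy).symm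
  rw [h1, ← hb, decompose_sum, DFinsupp.finsetSum_apply, AddSubmonoidClass.coe_finsetSum]
  refine Finset.sum_congr rfl (fun f hf => ?_)
  have h2 : n = d f + (n - d f) := by ring
  rw [smul_eq_mul, mul_comm]
  conv_lhs => rw [h2]
  exact coe_decompose_mul_add_of_left_mem 𝒜 (hd f hf)

section

variable (h2 : ∀ I : Ideal A, I.IsHomogeneous 𝒜 → I.FG)

include h2 in
theorem exists_finset_span_eq (G : Set A) (hG : ∀ x ∈ G, SetLike.IsHomogeneousElem 𝒜 x) :
    ∃ F : Finset A, (F : Set A) ⊆ G ∧ Ideal.span G = Ideal.span (F : Set A) :=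
  (Submodule.fg_span_iff_fg_span_finset_subset G).1 (h2 _ (Ideal.homogeneous_span 𝒜 G hG))

include h2 in
/-- each graded piece is finitely generated over degree 0 -/
theorem exists_finset_piece (i : ℤ) : ∃ F : Finset A, (∀ f ∈ F, f ∈ 𝒜 i) ∧
    ∀ y ∈ 𝒜 i, ∃ c : A → A, (∀ f ∈ F, c f ∈ 𝒜 0) ∧ y = ∑ f ∈ F, f * c f := by
  obtain ⟨F, hFG, hspan⟩ := exists_finset_span_eq 𝒜 h2 (𝒜 i : Set A) (fun x hx => ⟨i, hx⟩)
  refine ⟨F, fun f hf => hFG hf, fun y hy => ?_⟩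
  have hyF : y ∈ Ideal.span (F : Set A) := hspan ▸ Ideal.subset_span hy
  obtain ⟨c, hc, hsum⟩ := exists_homog_coeffs 𝒜 F (fun _ => i) (fun f hf => hFG hf) i y hy hyF
  exact ⟨c, fun f hf => by simpa using hc f hf, hsum⟩

include h2 in
theorem isNoetherianRing_zero : IsNoetherianRing (𝒜 0) := by
  classical
  rw [isNoetherianRing_iff_ideal_fg]
  intro I₀
  set G : Set A := Subtype.val '' (I₀ : Set (𝒜 0)) with hG
  have hG0 : ∀ x ∈ G, x ∈ 𝒜 0 := by
    rintro x ⟨x', -, rfl⟩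
    exact x'.2
  obtain ⟨F, hFG, hspan⟩ := exists_finset_span_eq 𝒜 h2 G (fun x hx => ⟨0, hG0 x hx⟩)
  have hF0 : ∀ f ∈ F, f ∈ 𝒜 0 := fun f hf => hG0 f (hFG hf)
  refine ⟨F.attach.image (fun f => (⟨f.1, hF0 f.1 f.2⟩ : 𝒜 0)), ?_⟩
  apply le_antisymm
  · rw [Ideal.span_le]
    intro x hx
    rw [Finset.coe_image] at hx
    obtain ⟨f, -, rfl⟩ := hx
    obtain ⟨x', hx', hfx⟩ := hFG f.2
    have : (⟨f.1, hF0 f.1 f.2⟩ : 𝒜 0) = x' := Subtype.ext hfx.symm
    show (⟨f.1, hF0 f.1 f.2⟩ : 𝒜 0) ∈ (I₀ : Set (𝒜 0))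
    rw [this]
    exact hx'
  · intro x hx
    have hxG : (x : A) ∈ Ideal.span (F : Set A) := hspan ▸ Ideal.subset_span ⟨x, hx, rfl⟩
    obtain ⟨c, hc, hsum⟩ := exists_homog_coeffs 𝒜 F (fun _ => 0) hF0 0 x x.2 hxG
    have hc0 : ∀ f ∈ F, c f ∈ 𝒜 0 := fun f hf => by simpa using hc f hf
    have hx_eq : x = ∑ f ∈ F.attach, (⟨c f.1, hc0 f.1 f.2⟩ : 𝒜 0) * (⟨f.1, hF0 f.1 f.2⟩ : 𝒜 0) := by
      apply Subtype.ext
      rw [hsum, AddSubmonoidClass.coe_finsetSum, ← Finset.sum_attach F]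
      refine Finset.sum_congr rfl (fun f _ => ?_)
      rw [SetLike.GradeZero.coe_mul, mul_comm]
    rw [hx_eq]
    refine Ideal.sum_mem _ (fun f _ => Ideal.mul_mem_left _ _ (Ideal.subset_span ?_))
    rw [Finset.coe_image]
    exact ⟨f, Finset.mem_coe.2 (Finset.mem_attach _ _), rfl⟩

include h2 in
theorem fg_adjoin_half (s : ℤ) :
    (Algebra.adjoin (𝒜 0) {a : A | ∃ n : ℤ, 0 ≤ n ∧ a ∈ 𝒜 (s * n)}).FG := by
  classical
  set Gp : Set A := {a : A | ∃ n : ℤ, 0 < n ∧ a ∈ 𝒜 (s * n)} with hGp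
  obtain ⟨Fp, hFG, hspan⟩ := exists_finset_span_eq 𝒜 h2 Gp (fun x hx => ⟨_, hx.choose_spec.2⟩)
  -- degrees of the generators
  have hdeg : ∀ f : A, ∃ n : ℤ, f ∈ Fp → (0 < n ∧ f ∈ 𝒜 (s * n)) := by
    intro f
    by_cases hf : f ∈ Fp
    · obtain ⟨n, hn, hfn⟩ := hFG hf
      exact ⟨n, fun _ => ⟨hn, hfn⟩⟩
    · exact ⟨0, fun h => absurd h hf⟩
  choose deg hdeg using hdeg
  set D : ℤ := ∑ f ∈ Fp, deg f with hD
  have hdegD : ∀ f ∈ Fp, deg f ≤ D := fun f hf =>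
    Finset.single_le_sum (f := deg) (fun g hg => (hdeg g hg).1.le) hf
  -- generators of the low pieces
  have hpiece := fun i : ℤ => exists_finset_piece 𝒜 h2 (s * i)
  choose Gi hGi_mem hGi_gen using hpiece
  set Gen : Finset A := Fp ∪ (Finset.Icc 1 D).biUnion Gi with hGen
  have hzero : ∀ y ∈ 𝒜 0, y ∈ Algebra.adjoin (𝒜 0) (Gen : Set A) := fun y hy =>
    Subalgebra.algebraMap_mem _ (⟨y, hy⟩ : 𝒜 0)
  have claim : ∀ n : ℕ, ∀ y ∈ 𝒜 (s * (n : ℤ)), y ∈ Algebra.adjoin (𝒜 0) (Gen : Set A) := by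
    intro n
    induction n using Nat.strong_induction_on with
    | _ n ih =>
      intro y hy
      rcases Nat.eq_zero_or_pos n with rfl | hn
      · apply hzero
        simpa using hy
      · by_cases hnD : (n : ℤ) ≤ D
        · obtain ⟨c, hc, hsum⟩ := hGi_gen (n : ℤ) y hy
          rw [hsum]
          refine Subalgebra.sum_mem _ (fun g hg => Subalgebra.mul_mem _ ?_ (hzero _ (hc g hg)))
          apply Algebra.subset_adjoin
          rw [hGen, Finset.coe_union]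
          refine Or.inr ?_
          rw [Finset.mem_coe, Finset.mem_biUnion]
          exact ⟨(n : ℤ), Finset.mem_Icc.2 ⟨by omega, hnD⟩, hg⟩
        · have hyG : y ∈ Ideal.span (Fp : Set A) :=
            hspan ▸ Ideal.subset_span ⟨(n : ℤ), by omega, hy⟩
          obtain ⟨c, hc, hsum⟩ := exists_homog_coeffs 𝒜 Fp (fun f => s * deg f)
            (fun f hf => (hdeg f hf).2) (s * (n : ℤ)) y hy hyG
          rw [hsum]
          refine Subalgebra.sum_mem _ (fun f hf => Subalgebra.mul_mem _ ?_ ?_)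
          · apply Algebra.subset_adjoin
            rw [hGen, Finset.coe_union]
            exact Or.inl hf
          · have h1 := (hdeg f hf).1
            have h3 := hdegD f hf
            have hlt : ((n : ℤ) - deg f).toNat < n := by omega
            apply ih _ hlt
            have : s * (((n : ℤ) - deg f).toNat : ℤ) = s * (n : ℤ) - s * deg f := by
              rw [Int.toNat_of_nonneg (by omega)]
              ring
            rw [this]
            exact hc f hf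
  refine ⟨Gen, ?_⟩
  apply le_antisymm
  · apply Algebra.adjoin_mono
    intro a ha
    rw [hGen, Finset.coe_union] at ha
    rcases ha with ha | ha
    · obtain ⟨n, hn, han⟩ := hFG ha
      exact ⟨n, hn.le, han⟩
    · rw [Finset.mem_coe, Finset.mem_biUnion] at ha
      obtain ⟨i, hi, hai⟩ := ha
      rw [Finset.mem_Icc] at hi
      exact ⟨i, by omega, hGi_mem i a hai⟩
  · apply Algebra.adjoin_le
    rintro a ⟨n, hn, han⟩
    have : s * n = s * ((n.toNat : ℕ) : ℤ) := by rw [Int.toNat_of_nonneg hn]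
    rw [this] at han
    exact claim n.toNat a han

end

theorem adjoin_union_eq_top :
    Algebra.adjoin (𝒜 0) ({a : A | ∃ n : ℤ, 0 ≤ n ∧ a ∈ 𝒜 n} ∪ {a : A | ∃ n : ℤ, n ≤ 0 ∧ a ∈ 𝒜 n}) =
      ⊤ := by
  classical
  rw [eq_top_iff]
  intro a _
  rw [← sum_support_decompose 𝒜 a]
  refine Subalgebra.sum_mem _ (fun i _ => Algebra.subset_adjoin ?_)
  rcases le_total 0 i with hi | hi
  · exact Or.inl ⟨i, hi, Subtype.coe_prop _⟩
  · exact Or.inr ⟨i, hi, Subtype.coe_prop _⟩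

theorem tfae :
    [IsNoetherianRing A,
     ∀ I : Ideal A, I.IsHomogeneous 𝒜 → I.FG,
     IsNoetherianRing (𝒜 0) ∧ (Algebra.adjoin (𝒜 0) {a : A | ∃ n : ℤ, 0 ≤ n ∧ a ∈ 𝒜 n}).FG ∧
       (Algebra.adjoin (𝒜 0) {a : A | ∃ n : ℤ, n ≤ 0 ∧ a ∈ 𝒜 n}).FG,
     IsNoetherianRing (𝒜 0) ∧ Algebra.FiniteType (𝒜 0) A].TFAE := by
  tfae_have 1 → 2 := fun h I _ => (isNoetherianRing_iff_ideal_fg A).1 h I
  tfae_have 2 → 3 := by
    intro h2
    refine ⟨isNoetherianRing_zero 𝒜 h2, ?_, ?_⟩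
    · have := fg_adjoin_half 𝒜 h2 1
      simpa using this
    · have := fg_adjoin_half 𝒜 h2 (-1)
      have hset : {a : A | ∃ n : ℤ, 0 ≤ n ∧ a ∈ 𝒜 (-1 * n)} = {a : A | ∃ n : ℤ, n ≤ 0 ∧ a ∈ 𝒜 n} := by
        ext a
        constructor
        · rintro ⟨n, hn, ha⟩
          exact ⟨-1 * n, by omega, ha⟩
        · rintro ⟨n, hn, ha⟩
          exact ⟨-n, by omega, by simpa using ha⟩
      rwa [hset] at this
  tfae_have 3 → 4 := by
    rintro ⟨h0, hp, hm⟩
    refine ⟨h0, ⟨?_⟩⟩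
    rw [← adjoin_union_eq_top 𝒜, Algebra.adjoin_union]
    exact hp.sup hm
  tfae_have 4 → 1 := by
    rintro ⟨h0, hft⟩
    exact Algebra.FiniteType.isNoetherianRing (𝒜 0) A
  tfae_finish

end Groth.Agent.H9.GrNoeth
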