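import Mathlib

/-!
# The order of a finite group kills its higher cohomology

Helper library for S19223.
-/

open CategoryTheory Limits

namespace Groth.Agent.Lib.Helper9.GrpCohTors

section
variable {C : Type*} [Category C] [Abelian C] [HasProjectiveResolutions C]
  {D : Type*} [Category D] [Abelian D]

lemma leftDerived_map_nsmul_id (F : C ⥤ D) [F.Additive] (n : ℕ) (X : C) (m : ℕ) :
    (F.leftDerived n).map (m • 𝟙 X) = m • 𝟙 _ := by
  let P : ProjectiveResolution X := projectiveResolution X
  have h2 := Functor.leftDerived_map_eq F n (m • 𝟙 X) (P := P) (Q := P) (m • 𝟙 P.complex)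
    (by
      rw [Functor.map_nsmul, Preadditive.nsmul_comp, Preadditive.comp_nsmul,
        CategoryTheory.Functor.map_id, Category.id_comp, Category.comp_id])
  rw [h2, Functor.map_nsmul, CategoryTheory.Functor.map_id, Preadditive.nsmul_comp,
    Preadditive.comp_nsmul]
  erw [Category.id_comp]
  rw [Iso.hom_inv_id]
end

section
variable {R : Type*} [Ring R] {C : Type*} [Category C] [Abelian C] [Linear R C]
  [EnoughProjectives C]

/-- `Ext` in the first variable sends `m • 𝟙` to `m • 𝟙`. -/
lemma Ext_map_nsmul_id (n : ℕ) (X Y : C) (m : ℕ) :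
    ((Ext R C n).map (m • 𝟙 X : X ⟶ X).op).app Y = m • 𝟙 _ := by
  have h1 : ((Ext R C n).map (m • 𝟙 X : X ⟶ X).op).app Y =
      ((((linearYoneda R C).obj Y).rightOp.leftDerived n).map (m • 𝟙 X)).unop := rfl
  rw [h1, leftDerived_map_nsmul_id]
  rfl
end

variable {k : Type} [CommRing k] {G : Type} [Group G] [Fintype G]

/-- the norm map `k → k[G]`. -/
noncomputable def normHom : Rep.trivial k G k ⟶ Rep.leftRegular k G :=
  Rep.ofHom ⟨LinearMap.toSpanSingleton k (MonoidAlgebra k G)
    (∑ h : G, MonoidAlgebra.single h (1 : k)), by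
    intro g
    refine LinearMap.ext fun v => ?_
    simp only [LinearMap.coe_comp, Function.comp_apply, Representation.trivial_apply,
      LinearMap.toSpanSingleton_apply, map_smul, map_sum, Representation.ofMulAction_single]
    congr 1
    exact (Fintype.sum_equiv (Equiv.mulLeft g) (fun x => MonoidAlgebra.single (g • x) (1 : k))
      (fun h => MonoidAlgebra.single h (1 : k)) (fun h => rfl)).symm⟩

lemma normHom_comp_aug :
    (normHom : Rep.trivial k G k ⟶ Rep.leftRegular k G) ≫
      Rep.leftRegularHom (Rep.trivial k G k) (1 : k) =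
      (Fintype.card G) • 𝟙 (Rep.trivial k G k) := by
  refine Rep.hom_ext (Representation.IntertwiningMap.ext (LinearMap.ext_ring ?_))
  rw [Rep.nsmul_hom]
  change (Rep.leftRegularHom (Rep.trivial k G k) (1 : k)).hom
    ((1 : k) • ∑ h : G, MonoidAlgebra.single h (1 : k)) = (Fintype.card G) • (1 : k)
  rw [one_smul, map_sum]
  have : ∀ x : G, (Rep.leftRegularHom (Rep.trivial k G k) (1 : k)).hom
      (MonoidAlgebra.single x (1 : k)) = (1 : k) := by
    intro x
    have := Rep.leftRegularHom_hom_single (A := Rep.trivial k G k) x (1 : k) (1 : k)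
    rw [this]
    simp
  rw [Finset.sum_congr rfl (fun x _ => this x)]
  simp

/-- The order of `G` kills `Ext^{n+1}(k, A)`. -/
lemma card_nsmul_ext_eq_zero (A : Rep k G) (n : ℕ)
    (y : ((Ext k (Rep k G) (n + 1)).obj (Opposite.op (Rep.trivial k G k))).obj A) :
    (Fintype.card G) • y = 0 := by
  have h1 := Ext_map_nsmul_id (R := k) (n + 1) (Rep.trivial k G k) A (Fintype.card G)
  rw [← normHom_comp_aug, op_comp, Functor.map_comp, NatTrans.comp_app] at h1
  have h2 : (Fintype.card G) • y =
      ((Fintype.card G) • 𝟙 (((Ext k (Rep k G) (n + 1)).obj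
        (Opposite.op (Rep.trivial k G k))).obj A) : _ ⟶ _).hom y := by
    rw [ModuleCat.hom_nsmul]
    rfl
  rw [h2, ← h1, ModuleCat.comp_apply]
  have hz : IsZero (((Ext k (Rep k G) (n + 1)).obj (Opposite.op (Rep.leftRegular k G))).obj A) :=
    isZero_Ext_succ_of_projective _ _ _
  have h3 : (((Ext k (Rep k G) (n + 1)).map
      (Rep.leftRegularHom (Rep.trivial k G k) (1 : k)).op).app A).hom y = 0 :=
    (ModuleCat.isZero_iff_subsingleton.1 hz).elim _ _
  rw [h3, map_zero]

/-- The order of `G` kills `H^{n+1}(G, A)`. -/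
theorem card_nsmul_eq_zero (A : Rep k G) (n : ℕ) (x : groupCohomology A (n + 1)) :
    (Fintype.card G) • x = 0 := by
  let e := groupCohomologyIsoExt A (n + 1)
  have h1 : (Fintype.card G) • e.hom.hom x = 0 := card_nsmul_ext_eq_zero A n (e.hom.hom x)
  have h2 : e.inv.hom (e.hom.hom x) = x := by
    rw [← ModuleCat.comp_apply, e.hom_inv_id]
    rfl
  rw [← h2, ← map_nsmul, h1, map_zero]

end Groth.Agent.Lib.Helper9.GrpCohTors
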