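import Mathlib
import Groth.Agent.Lib.Helper9.Misc.GrpCohTors

/-!
# Cohomology of units of a henselian local ring vs. its residue field

Helper library for S19223.
-/

attribute [local instance] Units.mulDistribMulActionRight

open CategoryTheory Limits

namespace Groth.Agent.Lib.Helper9.GrpCohHensel

open Groth.Agent.Lib.Helper9

section Hensel

variable {R : Type*} [CommRing R] [HenselianLocalRing R]

/-- A principal unit whose `N`-th power is one is one, when `N` is invertible in the residue
field. -/
lemma eq_one_of_pow_eq_one (N : ℕ) (hN : IsUnit (N : R)) (x : R)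
    (hx : x - 1 ∈ IsLocalRing.maximalIdeal R) (hxN : x ^ N = 1) : x = 1 := by
  have h1 : (∑ i ∈ Finset.range N, x ^ i) * (x - 1) = 0 := by
    rw [geom_sum_mul, hxN, sub_self]
  have hres : IsLocalRing.residue R x = 1 := by
    have := (IsLocalRing.residue_eq_zero_iff (x - 1)).2 hx
    rw [map_sub, map_one, sub_eq_zero] at this
    exact this
  have h2 : IsUnit (∑ i ∈ Finset.range N, x ^ i) := by
    rw [← IsLocalRing.residue_ne_zero_iff_isUnit]
    rw [map_sum]
    simp only [map_pow, hres, one_pow, Finset.sum_const, Finset.card_range, nsmul_eq_mul, mul_one]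
    have := (IsLocalRing.residue_ne_zero_iff_isUnit (N : R)).2 hN
    rwa [map_natCast] at this
  have h3 : x - 1 = 0 := (h2.mul_right_eq_zero).1 h1
  exact sub_eq_zero.1 h3

/-- A principal unit has an `N`-th root which is a principal unit, when `N` is invertible in the
residue field. -/
lemma exists_pow_eq (N : ℕ) (hN0 : N ≠ 0) (hN : IsUnit (N : R)) (u : R)
    (hu : u - 1 ∈ IsLocalRing.maximalIdeal R) :
    ∃ a : R, a - 1 ∈ IsLocalRing.maximalIdeal R ∧ a ^ N = u := by
  obtain ⟨a, ha, ha1⟩ := HenselianLocalRing.is_henselian (Polynomial.X ^ N - Polynomial.C u)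
    (Polynomial.monic_X_pow_sub_C u hN0) (1 : R)
    (by
      simp only [Polynomial.eval_sub, Polynomial.eval_pow, Polynomial.eval_X, one_pow,
        Polynomial.eval_C]
      have : (1 : R) - u = -(u - 1) := by ring
      rw [this]
      exact neg_mem hu)
    (by
      simp only [Polynomial.derivative_sub, Polynomial.derivative_X_pow, Polynomial.derivative_C,
        sub_zero, Polynomial.eval_mul, Polynomial.eval_C, Polynomial.eval_pow, Polynomial.eval_X,
        one_pow, mul_one]
      simpa using hN)
  refine ⟨a, ha1, ?_⟩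
  have := ha
  simp only [Polynomial.IsRoot, Polynomial.eval_sub, Polynomial.eval_pow, Polynomial.eval_X,
    Polynomial.eval_C] at this
  exact sub_eq_zero.1 this

end Hensel

section
variable {k : Type} [CommRing k] {G : Type} [Group G]

/-- functoriality: `Hⁿ(m • 𝟙) = m • 𝟙`. -/
lemma functor_map_nsmul_id (A : Rep k G) (n m : ℕ) :
    (groupCohomology.functor k G n).map (m • 𝟙 A) = m • 𝟙 _ := by
  have h : (groupCohomology.functor k G n).map (m • 𝟙 A) =
      (HomologicalComplex.homologyFunctor _ _ n).map
        ((groupCohomology.cochainsFunctor k G).map (m • 𝟙 A)) := rfl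
  rw [h, Functor.map_nsmul, Functor.map_nsmul, CategoryTheory.Functor.map_id,
    CategoryTheory.Functor.map_id]
  rfl

/-- If `N • 𝟙 A` is an isomorphism (`N = |G|`) then `H^{m+1}(G, A) = 0`. -/
lemma isZero_of_isIso [Fintype G] (A : Rep k G) (hA : IsIso ((Fintype.card G) • 𝟙 A)) (m : ℕ) :
    IsZero (groupCohomology A (m + 1)) := by
  rw [ModuleCat.isZero_iff_subsingleton]
  have h1 : IsIso ((groupCohomology.functor k G (m + 1)).map ((Fintype.card G) • 𝟙 A)) :=
    Functor.map_isIso _ _
  rw [functor_map_nsmul_id] at h1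
  have h1' : IsIso ((Fintype.card G) • 𝟙 (groupCohomology A (m + 1))) := h1
  refine ⟨fun x y => ?_⟩
  have hinj : Function.Injective
      ((Fintype.card G) • 𝟙 (groupCohomology A (m + 1)) : _ ⟶ _).hom :=
    ((ModuleCat.mono_iff_injective _).1 (IsIso.mono_of_iso _))
  apply hinj
  rw [ModuleCat.hom_nsmul]
  change (Fintype.card G) • x = (Fintype.card G) • y
  rw [GrpCohTors.card_nsmul_eq_zero, GrpCohTors.card_nsmul_eq_zero]

lemma exists_of_exact (S : ShortComplex (Rep k G)) (hS : S.Exact) (y : S.X₂)
    (hy : S.g.hom y = 0) : ∃ x : S.X₁, S.f.hom x = y := by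
  have h1 := (hS.map (forget₂ (Rep k G) (ModuleCat k))).moduleCat_range_eq_ker
  have h2 : y ∈ LinearMap.ker (ModuleCat.Hom.hom
      (S.map (forget₂ (Rep k G) (ModuleCat k))).g) := hy
  rw [← h1] at h2
  obtain ⟨x, hx⟩ := h2
  exact ⟨x, hx⟩

variable {A B : Rep k G} (φ : A ⟶ B)

lemma isIso_nsmul_kernel (N : ℕ)
    (hinj : ∀ y : A, φ.hom y = 0 → N • y = 0 → y = 0)
    (hsurj : ∀ y : A, φ.hom y = 0 → ∃ z : A, φ.hom z = 0 ∧ N • z = y) :
    IsIso (N • 𝟙 (kernel φ)) := by
  let S : ShortComplex (Rep k G) := ShortComplex.mk (kernel.ι φ) φ (kernel.condition φ)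
  have hι : Function.Injective (kernel.ι φ).hom :=
    (Rep.mono_iff_injective (kernel.ι φ)).1 inferInstance
  have hker : ∀ x : (kernel φ : Rep k G), φ.hom ((kernel.ι φ).hom x) = 0 := by
    intro x
    have := kernel.condition φ
    have h2 := congrArg (fun f => f.hom x) this
    exact h2
  have hrange : ∀ y : A, φ.hom y = 0 → ∃ x : (kernel φ : Rep k G), (kernel.ι φ).hom x = y := by
    intro y hy
    exact exists_of_exact S (ShortComplex.exact_kernel φ) y hy
  have key : ∀ x : (kernel φ : Rep k G),
      (N • 𝟙 (kernel φ) : kernel φ ⟶ kernel φ).hom x = N • x := fun x => rfl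
  have hmono : Mono (N • 𝟙 (kernel φ)) := by
    rw [Rep.mono_iff_injective]
    intro x x' hxx'
    rw [key, key] at hxx'
    have h0 : N • (x - x') = 0 := by rw [smul_sub, hxx', sub_self]
    have h1 : N • (kernel.ι φ).hom (x - x') = 0 := by rw [← map_nsmul, h0, map_zero]
    have h2 := hinj _ (hker (x - x')) h1
    have h3 : x - x' = 0 := hι (by rw [h2, map_zero])
    exact sub_eq_zero.1 h3
  have hepi : Epi (N • 𝟙 (kernel φ)) := by
    rw [Rep.epi_iff_surjective]
    intro x
    obtain ⟨z, hz, hzN⟩ := hsurj _ (hker x)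
    obtain ⟨w, hw⟩ := hrange z hz
    refine ⟨w, ?_⟩
    rw [key]
    apply hι
    rw [map_nsmul, hw, hzN]
  exact isIso_of_mono_of_epi _

lemma bijective_of_isIso_kernel [Fintype G] (hφ : Function.Surjective φ.hom)
    (hiso : IsIso ((Fintype.card G) • 𝟙 (kernel φ))) (m : ℕ) :
    Function.Bijective ((groupCohomology.functor k G (m + 1)).map φ).hom := by
  let S : ShortComplex (Rep k G) := ShortComplex.mk (kernel.ι φ) φ (kernel.condition φ)
  have hS : S.ShortExact :=
    { exact := ShortComplex.exact_kernel φ
      mono_f := inferInstanceAs (Mono (kernel.ι φ))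
      epi_g := (Rep.epi_iff_surjective φ).2 hφ }
  have hz : ∀ j, IsZero (groupCohomology (kernel φ) (j + 1)) := isZero_of_isIso _ hiso
  constructor
  · have hex := (groupCohomology.map_cochainsFunctor_shortExact hS).homology_exact₂ (m + 1)
    have hmono := hex.mono_g ((hz m).eq_of_src _ _)
    exact (ModuleCat.mono_iff_injective _).1 hmono
  · have hex := (groupCohomology.map_cochainsFunctor_shortExact hS).homology_exact₃
      (m + 1) (m + 2) rfl
    have hepi := hex.epi_f ((hz (m + 1)).eq_of_tgt _ _)
    exact (ModuleCat.epi_iff_surjective _).1 hepi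

end

theorem main (R : Type) [CommRing R] [HenselianLocalRing R] (p : ℕ)
    [CharP (IsLocalRing.ResidueField R) p]
    (G : Type) [Group G] [Finite G] [MulSemiringAction G R] (hp : ¬ p ∣ Nat.card G)
    (φ : Rep.ofMulDistribMulAction G Rˣ ⟶
      Rep.ofMulDistribMulAction G (IsLocalRing.ResidueField R)ˣ)
    (hφ : ∀ x : Rˣ, Additive.toMul (φ.hom (Additive.ofMul x)) =
      Units.map (IsLocalRing.residue R).toMonoidHom x)
    (m : ℕ) :
    Function.Bijective ((groupCohomology.functor ℤ G (m + 1)).map φ).hom := by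
  classical
  have : Fintype G := Fintype.ofFinite G
  have hN0 : Fintype.card G ≠ 0 := Fintype.card_ne_zero
  have hNk : ((Fintype.card G : ℕ) : IsLocalRing.ResidueField R) ≠ 0 := by
    rw [Ne, CharP.cast_eq_zero_iff _ p]
    rwa [Nat.card_eq_fintype_card] at hp
  have hNR : IsUnit ((Fintype.card G : ℕ) : R) := by
    rw [← IsLocalRing.residue_ne_zero_iff_isUnit, map_natCast]
    exact hNk
  have hφ' : ∀ x : Rˣ, φ.hom (Additive.ofMul x) =
      Additive.ofMul (Units.map (IsLocalRing.residue R).toMonoidHom x) := fun x => by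
    rw [← hφ]; rfl
  have hsurj : Function.Surjective φ.hom := by
    intro y
    obtain ⟨r, hr⟩ := IsLocalRing.residue_surjective
      ((Additive.toMul y : (IsLocalRing.ResidueField R)ˣ) : IsLocalRing.ResidueField R)
    have hru : IsUnit r := by
      rw [← IsLocalRing.residue_ne_zero_iff_isUnit, hr]
      exact Units.ne_zero _
    refine ⟨Additive.ofMul hru.unit, ?_⟩
    rw [hφ']
    apply congrArg Additive.ofMul
    exact Units.ext hr
  -- principal units
  have hprinc : ∀ y : Additive Rˣ, φ.hom y = 0 →
      ((Additive.toMul y : Rˣ) : R) - 1 ∈ IsLocalRing.maximalIdeal R := by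
    intro y hy
    have h1 := hφ (Additive.toMul y)
    have h0 : φ.hom (Additive.ofMul (Additive.toMul y)) = 0 := hy
    have h2 : Units.map (IsLocalRing.residue R).toMonoidHom (Additive.toMul y) = 1 :=
      h1.symm.trans (congrArg Additive.toMul h0)
    have h3 : IsLocalRing.residue R ((Additive.toMul y : Rˣ) : R) = 1 := congrArg Units.val h2
    rw [← IsLocalRing.residue_eq_zero_iff, map_sub, map_one, h3, sub_self]
  have hprinc' : ∀ u : Rˣ, (u : R) - 1 ∈ IsLocalRing.maximalIdeal R →
      φ.hom (Additive.ofMul u) = 0 := by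
    intro u hu
    rw [hφ']
    have h3 : IsLocalRing.residue R (u : R) = 1 := by
      have := (IsLocalRing.residue_eq_zero_iff _).2 hu
      rw [map_sub, map_one, sub_eq_zero] at this
      exact this
    have : Units.map (IsLocalRing.residue R).toMonoidHom u = 1 := Units.ext h3
    rw [this]
    rfl
  apply bijective_of_isIso_kernel φ hsurj
  apply isIso_nsmul_kernel
  · intro (y : Additive Rˣ) hy (hyN : Fintype.card G • y = 0)
    have h1 : ((Additive.toMul y : Rˣ) : R) ^ (Fintype.card G) = 1 := by
      have h4 : Additive.toMul (Fintype.card G • y) = Additive.toMul (0 : Additive Rˣ) :=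
        congrArg Additive.toMul hyN
      rw [toMul_nsmul, toMul_zero] at h4
      have h5 := congrArg Units.val h4
      rwa [Units.val_pow_eq_pow_val] at h5
    have h2 := eq_one_of_pow_eq_one _ hNR _ (hprinc y hy) h1
    have h3 : Additive.toMul y = (1 : Rˣ) := Units.ext h2
    have h6 : Additive.ofMul (Additive.toMul y) = Additive.ofMul (1 : Rˣ) :=
      congrArg Additive.ofMul h3
    exact h6
  · intro (y : Additive Rˣ) hy
    obtain ⟨a, ha1, haN⟩ := exists_pow_eq _ hN0 hNR _ (hprinc y hy)
    have hau : IsUnit a := by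
      have : IsUnit (a ^ Fintype.card G) := by rw [haN]; exact Units.isUnit _
      exact (isUnit_pow_iff hN0).1 this
    refine ⟨Additive.ofMul hau.unit, hprinc' _ ha1, ?_⟩
    have h7 : hau.unit ^ Fintype.card G = Additive.toMul y := by
      apply Units.ext
      rw [Units.val_pow_eq_pow_val]
      exact haN
    have h8 : Fintype.card G • (Additive.ofMul hau.unit : Additive Rˣ) =
        Additive.ofMul (hau.unit ^ Fintype.card G) := (ofMul_pow _ _).symm
    exact h8.trans (congrArg Additive.ofMul h7)

end Groth.Agent.Lib.Helper9.GrpCohHensel
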