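import Mathlib

/-!
# `H²(Q, kˣ) = 0` when `H³(Q, ℤ) = 0`, `k` separably closed, `p ∤ |Q|`  (helper9)
-/

namespace Groth.Agent.H9.H2Units

open CategoryTheory groupCohomology

/-- Extracting an elementary statement from `H³(Q, ℤ) = 0`. -/
theorem h3 (Q : Type) [Group Q] (hQ : Subsingleton (groupCohomology (Rep.trivial ℤ Q ℤ) 3))
    (n : ℤ) (hn : n ≠ 0) (a : Q × Q → ℤ) (t : Q × Q × Q → ℤ)
    (hat : ∀ g h j, a (h, j) - a (g * h, j) + a (g, h * j) - a (g, h) = n * t (g, h, j)) :
    ∃ u : Q × Q → ℤ, ∀ g h j,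
      u (h, j) - u (g * h, j) + u (g, h * j) - u (g, h) = t (g, h, j) := by
  have hex : (inhomogeneousCochains (Rep.trivial ℤ Q ℤ)).ExactAt 3 := by
    rw [HomologicalComplex.exactAt_iff_isZero_homology]
    exact @ModuleCat.isZero_of_subsingleton _ _ _ hQ
  rw [HomologicalComplex.exactAt_iff' _ 2 3 4 (by simp) (by simp),
    ShortComplex.moduleCat_exact_iff] at hex
  set A := Rep.trivial ℤ Q ℤ with hA
  -- `d₂₃ a = n • t`
  have h1 : (d₂₃ A).hom (a : Q × Q → A) = n • (t : Q × Q × Q → A) := by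
    funext ⟨g, h, j⟩
    have := hat g h j
    simpa [d₂₃_hom_apply] using this
  -- transport
  have h2 : ((inhomogeneousCochains A).d 2 3).hom ((cochainsIso₂ A).inv.hom a)
      = n • (cochainsIso₃ A).inv.hom t := by
    have := congrArg (fun f => f.hom a) (eq_d₂₃_comp_inv A)
    simp only [ModuleCat.hom_comp, LinearMap.comp_apply] at this
    rw [this, h1, map_smul]
  have h3 : ((inhomogeneousCochains A).d 3 4).hom ((cochainsIso₃ A).inv.hom t) = 0 := by
    have h4 : n • ((inhomogeneousCochains A).d 3 4).hom ((cochainsIso₃ A).inv.hom t) = 0 := by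
      rw [← map_smul, ← h2]
      have := congrArg (fun f => f.hom ((cochainsIso₂ A).inv.hom a))
        ((inhomogeneousCochains A).d_comp_d 2 3 4)
      simpa using this
    funext x
    have := congrFun h4 x
    simp only [Pi.smul_apply, smul_eq_mul, Pi.zero_apply] at this
    exact (mul_eq_zero.mp this).resolve_left hn
  obtain ⟨u', hu'⟩ := hex ((cochainsIso₃ A).inv.hom t) h3
  have h6 : ((inhomogeneousCochains A).d 2 3).hom (u' : (inhomogeneousCochains A).X 2)
      = (cochainsIso₃ A).inv.hom t := hu'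
  refine ⟨(cochainsIso₂ A).hom.hom (u' : (inhomogeneousCochains A).X 2), fun g h j => ?_⟩
  have h5 : (d₂₃ A).hom ((cochainsIso₂ A).hom.hom (u' : (inhomogeneousCochains A).X 2)) = t := by
    have := congrArg (fun f => f.hom (u' : (inhomogeneousCochains A).X 2)) (comp_d₂₃_eq A)
    simp only [ModuleCat.hom_comp] at this
    change (d₂₃ A).hom ((cochainsIso₂ A).hom.hom (u' : (inhomogeneousCochains A).X 2)) =
      (cochainsIso₃ A).hom.hom (((inhomogeneousCochains A).d 2 3).hom
        (u' : (inhomogeneousCochains A).X 2)) at this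
    rw [this, h6]
    have := congrArg (fun f => f.hom t) (cochainsIso₃ A).inv_hom_id
    simpa using this
  have := congrFun h5 (g, h, j)
  simpa [d₂₃_hom_apply] using this

end Groth.Agent.H9.H2Units

namespace Groth.Agent.H9.H2Units

section Elementary

variable {Q M : Type*} [Group Q] [Fintype Q] [AddCommGroup M]

/-- Trivial-action 2-cocycle condition. -/
def IsCoc (x : Q × Q → M) : Prop :=
  ∀ g h j, x (g * h, j) + x (g, h) = x (h, j) + x (g, h * j)

/-- Trivial-action 2-coboundary condition. -/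
def IsCob (x : Q × Q → M) : Prop :=
  ∃ b : Q → M, ∀ g h, x (g, h) = b h - b (g * h) + b g

theorem card_nsmul_eq (x : Q × Q → M) (hx : IsCoc x) (g h : Q) :
    Fintype.card Q • x (g, h) = (∑ j, x (h, j)) - (∑ j, x (g * h, j)) + ∑ j, x (g, j) := by
  have h1 : ∑ j, (x (g * h, j) + x (g, h)) = ∑ j, (x (h, j) + x (g, h * j)) :=
    Finset.sum_congr rfl fun j _ => hx g h j
  rw [Finset.sum_add_distrib, Finset.sum_add_distrib, Finset.sum_const, Finset.card_univ] at h1
  have h2 : ∑ j, x (g, h * j) = ∑ j, x (g, j) :=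
    Equiv.sum_comp (Equiv.mulLeft h) (fun j => x (g, j))
  rw [h2] at h1
  rw [eq_sub_of_add_eq' h1]
  abel

theorem isCob_of_h3
    (hdiv : ∀ m : M, ∃ m' : M, Fintype.card Q • m' = m)
    (ζ : M) (hζ0 : Fintype.card Q • ζ = 0)
    (hζ : ∀ m : M, Fintype.card Q • m = 0 → ∃ i : ℤ, m = i • ζ)
    (hζ' : ∀ i : ℤ, i • ζ = 0 → (Fintype.card Q : ℤ) ∣ i)
    (H3 : ∀ (a : Q × Q → ℤ) (t : Q × Q × Q → ℤ),
      (∀ g h j, a (h, j) - a (g * h, j) + a (g, h * j) - a (g, h)
        = (Fintype.card Q : ℤ) * t (g, h, j)) →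
      ∃ u : Q × Q → ℤ, ∀ g h j,
        u (h, j) - u (g * h, j) + u (g, h * j) - u (g, h) = t (g, h, j))
    (x : Q × Q → M) (hx : IsCoc x) : IsCob x := by
  classical
  set n := Fintype.card Q with hn
  choose β hβ using fun g => hdiv (∑ j, x (g, j))
  set x' : Q × Q → M := fun p => x p - (β p.2 - β (p.1 * p.2) + β p.1) with hx'
  have hx'c : IsCoc x' := by
    intro g h j
    simp only [hx']
    have := hx g h j
    rw [mul_assoc]
    rw [← sub_eq_zero] at this ⊢
    refine Eq.trans ?_ this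
    abel
  have hn0 : ∀ p, n • x' p = 0 := by
    rintro ⟨g, h⟩
    simp only [hx', smul_sub, smul_add, hβ]
    rw [card_nsmul_eq x hx g h]
    abel
  choose a ha using fun p => hζ (x' p) (hn0 p)
  have hdvd : ∀ p : Q × Q × Q, ∃ t : ℤ,
      a (p.2.1, p.2.2) - a (p.1 * p.2.1, p.2.2) + a (p.1, p.2.1 * p.2.2) - a (p.1, p.2.1)
        = (n : ℤ) * t := by
    rintro ⟨g, h, j⟩
    apply hζ'
    have := hx'c g h j
    simp only [ha] at this
    rw [← sub_eq_zero] at this
    have h0 : (a (h, j) - a (g * h, j) + a (g, h * j) - a (g, h)) • ζ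
        = -(a (g * h, j) • ζ + a (g, h) • ζ - (a (h, j) • ζ + a (g, h * j) • ζ)) := by
      simp only [sub_smul, add_smul]
      abel
    rw [h0, this, neg_zero]
  choose t ht using hdvd
  obtain ⟨u, hu⟩ := H3 a t (fun g h j => ht (g, h, j))
  set z : Q × Q → ℤ := fun p => a p - n * u p with hz
  have hzc : ∀ g h j, z (g * h, j) + z (g, h) = z (h, j) + z (g, h * j) := by
    intro g h j
    simp only [hz]
    have h1 := ht (g, h, j)
    have h2 := hu g h j
    simp only at h1
    linear_combination (-1 : ℤ) * h1 + (n : ℤ) * h2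
  obtain ⟨ζ', hζ'n⟩ := hdiv ζ
  set e : Q × Q → M := fun p => z p • ζ' with he
  have hec : IsCoc e := by
    intro g h j
    simp only [he]
    rw [← add_smul, ← add_smul, hzc]
  have hne : ∀ p, n • e p = x' p := by
    intro p
    simp only [he, hz]
    rw [smul_comm, hζ'n, sub_smul, ← ha, mul_comm, mul_smul, natCast_zsmul, hζ0, smul_zero,
      sub_zero]
  refine ⟨fun g => (∑ j, e (g, j)) + β g, fun g h => ?_⟩
  have h1 := card_nsmul_eq e hec g h
  rw [hne] at h1
  simp only [hx'] at h1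
  rw [sub_eq_iff_eq_add] at h1
  rw [h1]
  beta_reduce
  abel

end Elementary

end Groth.Agent.H9.H2Units

namespace Groth.Agent.H9.H2Units

open CategoryTheory groupCohomology

theorem main (Q : Type) [Group Q] [Finite Q]
    (hQ : Subsingleton (groupCohomology (Rep.trivial ℤ Q ℤ) 3)) (k : Type) [Field k]
    [IsSepClosed k] (p : ℕ) [CharP k p] (hp : ¬ p ∣ Nat.card Q) :
    Subsingleton (groupCohomology (Rep.trivial ℤ Q (Additive kˣ)) 2) := by
  classical
  have := Fintype.ofFinite Q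
  have hcard : Nat.card Q = Fintype.card Q := Nat.card_eq_fintype_card
  have hnk : NeZero ((Fintype.card Q : ℕ) : k) := ⟨by
    rw [Ne, CharP.cast_eq_zero_iff k p, ← hcard]; exact hp⟩
  have hnpos : 0 < Fintype.card Q := Fintype.card_pos
  -- facts on `M = Additive kˣ`
  have hdiv : ∀ m : Additive kˣ, ∃ m' : Additive kˣ, Fintype.card Q • m' = m := by
    intro m
    obtain ⟨z, hz⟩ := IsSepClosed.exists_pow_nat_eq ((Additive.toMul m : kˣ) : k) (Fintype.card Q)
    have hz0 : z ≠ 0 := by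
      rintro rfl
      rw [zero_pow hnpos.ne'] at hz
      exact (Units.ne_zero _) hz.symm
    refine ⟨Additive.ofMul (Units.mk0 z hz0), ?_⟩
    rw [← ofMul_pow]
    apply Additive.toMul.injective
    ext
    simp [hz]
  obtain ⟨ζ₁, hζ₁⟩ := HasEnoughRootsOfUnity.exists_primitiveRoot k (Fintype.card Q)
  have hζ₁0 : ζ₁ ≠ 0 := hζ₁.ne_zero hnpos.ne'
  set ζu : kˣ := Units.mk0 ζ₁ hζ₁0 with hζu_def
  have hζu : IsPrimitiveRoot ζu (Fintype.card Q) := by
    rw [← IsPrimitiveRoot.coe_units_iff]; exact hζ₁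
  have hζ0 : Fintype.card Q • (Additive.ofMul ζu) = 0 := by
    rw [← ofMul_pow, hζu.pow_eq_one]; rfl
  have hζ : ∀ m : Additive kˣ, Fintype.card Q • m = 0 → ∃ i : ℤ, m = i • Additive.ofMul ζu := by
    intro m hm
    have h1 : (Additive.toMul m : kˣ) ^ Fintype.card Q = 1 := by
      have := congrArg Additive.toMul hm
      simpa using this
    have h1' : ((Additive.toMul m : kˣ) : k) ^ Fintype.card Q = 1 := by
      rw [← Units.val_pow_eq_pow_val, h1, Units.val_one]
    obtain ⟨i, -, hi⟩ := hζ₁.eq_pow_of_pow_eq_one h1'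
    refine ⟨i, ?_⟩
    have hi' : ζu ^ i = Additive.toMul m := by
      ext
      rw [Units.val_pow_eq_pow_val, ← hi]
      rfl
    rw [natCast_zsmul, ← ofMul_pow, hi']
    rfl
  have hζ' : ∀ i : ℤ, i • Additive.ofMul ζu = 0 → (Fintype.card Q : ℤ) ∣ i := by
    intro i hi
    rw [← hζu.zpow_eq_one_iff_dvd]
    have := congrArg Additive.toMul hi
    simpa using this
  have H3 := fun a t => h3 Q hQ (Fintype.card Q : ℤ) (by exact_mod_cast hnpos.ne') a t
  refine ⟨fun a b => ?_⟩
  suffices h : ∀ y : groupCohomology (Rep.trivial ℤ Q (Additive kˣ)) 2, y = 0 by rw [h a, h b]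
  intro y
  induction y using H2_induction_on with
  | h x =>
    rw [H2π_eq_zero_iff]
    have hx : IsCoc (fun p => (x p : Additive kˣ)) := fun g h j => by
      have := (mem_cocycles₂_iff x).1 x.2 g h j
      simpa using this
    obtain ⟨b, hb⟩ := isCob_of_h3 hdiv _ hζ0 hζ hζ' H3 _ hx
    refine ⟨b, ?_⟩
    funext ⟨g, h⟩
    simp [d₁₂_hom_apply, hb]

end Groth.Agent.H9.H2Units
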