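import Mathlib
import Groth.Agent.Lib.Helper9.Misc.HCL2
import Groth.Agent.Lib.Helper9.Misc.MDP1
import Groth.Agent.Lib.Lead.QC.CartierCompl

/-!
# A limit of finitely presented admissible blow-ups which is an admissible blow-up is one of them
-/

set_option autoImplicit false

namespace Groth.Agent.H9.HCN

open CategoryTheory Limits AlgebraicGeometry

universe u

theorem dominant_of_iso_over_interior {A B Y : Scheme.{u}} (a : A ⟶ B) (pA : A ⟶ Y) (pB : B ⟶ Y)
    (w : a ≫ pB = pA) (IY : Y.IdealSheafData) (hB : BlowUp.IsEffCartierIdeal (IY.comap pB))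
    (hA : IsIso (pA ∣_ ModPair.interior IY)) (hB' : IsIso (pB ∣_ ModPair.interior IY)) :
    IsSchemeTheoreticallyDominant a := by
  have hdom : IsSchemeTheoreticallyDominant (pB ⁻¹ᵁ ModPair.interior IY).ι := by
    have := Groth.Agent.LD.QC.isSchemeTheoreticallyDominant_compl_of_effCartier _ hB
    have e : (IY.comap pB).support.compl = pB ⁻¹ᵁ ModPair.interior IY :=
      Groth.Agent.H9.MDP.interior_comap IY pB
    rwa [e] at this
  let s : (pB ⁻¹ᵁ ModPair.interior IY).toScheme ⟶ A :=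
    (pB ∣_ ModPair.interior IY) ≫ inv (pA ∣_ ModPair.interior IY) ≫
      (pA ⁻¹ᵁ ModPair.interior IY).ι
  have h1 : (s ≫ a) ≫ pB = (pB ⁻¹ᵁ ModPair.interior IY).ι ≫ pB := by
    simp only [s, Category.assoc, w]
    rw [← morphismRestrict_ι pA, IsIso.inv_hom_id_assoc, morphismRestrict_ι]
  have hrange : Set.range (s ≫ a) ⊆ Set.range (pB ⁻¹ᵁ ModPair.interior IY).ι := by
    rintro _ ⟨x, rfl⟩
    rw [Scheme.Opens.range_ι]
    change pB ((s ≫ a) x) ∈ ModPair.interior IY
    rw [← Scheme.Hom.comp_apply, h1, Scheme.Hom.comp_apply]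
    exact x.2
  have hr : IsOpenImmersion.lift (pB ⁻¹ᵁ ModPair.interior IY).ι (s ≫ a) hrange ≫
      (pB ⁻¹ᵁ ModPair.interior IY).ι = s ≫ a := IsOpenImmersion.lift_fac _ _ _
  have h2 : IsOpenImmersion.lift (pB ⁻¹ᵁ ModPair.interior IY).ι (s ≫ a) hrange ≫
      (pB ∣_ ModPair.interior IY) = (pB ∣_ ModPair.interior IY) := by
    rw [← cancel_mono (ModPair.interior IY).ι, Category.assoc, morphismRestrict_ι,
      reassoc_of% hr, ← Category.assoc, h1]
  have h3 : IsOpenImmersion.lift (pB ⁻¹ᵁ ModPair.interior IY).ι (s ≫ a) hrange = 𝟙 _ := by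
    rw [← cancel_mono (pB ∣_ ModPair.interior IY), h2, Category.id_comp]
  have hs : s ≫ a = (pB ⁻¹ᵁ ModPair.interior IY).ι := by
    rw [← hr, h3, Category.id_comp]
  haveI : IsSchemeTheoreticallyDominant (s ≫ a) := by rw [hs]; exact hdom
  exact Groth.Agent.H9.MDP.isSchemeTheoreticallyDominant_of_comp s a

attribute [local instance] CategoryTheory.isConnected_of_hasTerminal

theorem S18754_main {Y : Scheme.{u}} (IY : Y.IdealSheafData)
    {I : Type u} [SmallCategory I] [IsCofiltered I] (D : I ⥤ Over Y) (c : Cone D) (hc : IsLimit c)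
    [∀ (i j : I) (t : i ⟶ j), IsAffineHom (D.map t).left]
    [∀ i, CompactSpace (D.obj i).left] [∀ i, QuasiSeparatedSpace (D.obj i).left]
    (hI : ∀ i, BlowUp.IsEffCartierIdeal (IY.comap (D.obj i).hom))
    (hadm : ∀ i, ModPair.IsAdmBlowup (IY.comap (D.obj i).hom) IY (D.obj i).hom)
    [∀ i, LocallyOfFinitePresentation (D.obj i).hom]
    (hXadm : ModPair.IsAdmBlowup (IY.comap c.pt.hom) IY c.pt.hom) :
    LocallyOfFinitePresentation c.pt.hom := by
  obtain ⟨i₀⟩ := IsCofiltered.nonempty (C := I)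
  let D' : Over i₀ ⥤ Scheme.{u} := Over.forget i₀ ⋙ D ⋙ Over.forget Y
  let c' : Cone D' := ((Over.forget Y).mapCone c).whisker (Over.forget i₀)
  have hc' : IsLimit c' := (Functor.Initial.isLimitWhiskerEquiv (Over.forget i₀) _).symm
    (isLimitOfPreserves (Over.forget Y) hc)
  let t' : D' ⟶ (Functor.const (Over i₀)).obj (D.obj i₀).left :=
    { app := fun k ↦ (D.map k.hom).left
      naturality := fun k l f ↦ by
        dsimp [D']
        rw [Category.comp_id, ← Over.comp_left, ← D.map_comp, Over.w f] }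
  haveI : IsProper c.pt.hom := hXadm.2.1
  have hp (i : I) : IsProper (D.obj i).hom := (hadm i).2.1
  haveI hlft : LocallyOfFiniteType (c.π.app i₀).left := by
    haveI : LocallyOfFiniteType ((c.π.app i₀).left ≫ (D.obj i₀).hom) := by
      rw [Over.w]
      change LocallyOfFiniteType c.pt.hom
      infer_instance
    exact locallyOfFiniteType_of_comp _ (D.obj i₀).hom
  haveI (k : Over i₀) : CompactSpace (D'.obj k) := inferInstanceAs (CompactSpace (D.obj k.left).left)
  haveI (k : Over i₀) : QuasiSeparatedSpace (D'.obj k) :=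
    inferInstanceAs (QuasiSeparatedSpace (D.obj k.left).left)
  haveI {k l : Over i₀} (f : k ⟶ l) : IsAffineHom (D'.map f) :=
    inferInstanceAs (IsAffineHom (D.map f.left).left)
  haveI {k l : Over i₀} (f : k ⟶ l) : IsSchemeTheoreticallyDominant (D'.map f) :=
    dominant_of_iso_over_interior (D.map f.left).left (D.obj k.left).hom (D.obj l.left).hom
      (Over.w _) IY (hI _) (hadm _).2.2 (hadm _).2.2
  obtain ⟨k, g, hg1, hg2⟩ := Groth.Agent.H9.HCL.exists_π_app_comp_eq_of_locallyOfFiniteType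
    D' t' (c.π.app i₀).left c' hc' (𝟙 c.pt.left) (by
      ext k
      dsimp [c', t', D']
      rw [Category.id_comp, ← Over.comp_left, c.w])
  obtain ⟨g, hg1', hg2'⟩ : ∃ g' : (D.obj k.left).left ⟶ c.pt.left,
      (c.π.app k.left).left ≫ g' = 𝟙 c.pt.left ∧
        g' ≫ (c.π.app i₀).left = (D.map k.hom).left :=
    ⟨g, hg1, hg2⟩
  obtain ⟨π', hπ'⟩ : ∃ π' : c.pt.left ⟶ (D.obj k.left).left, π' = (c.π.app k.left).left :=
    ⟨_, rfl⟩
  have hw : π' ≫ (D.obj k.left).hom = c.pt.hom := by rw [hπ']; exact Over.w _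
  rw [← hπ'] at hg1'
  haveI hπdom : IsSchemeTheoreticallyDominant π' :=
    dominant_of_iso_over_interior π' c.pt.hom (D.obj k.left).hom hw IY (hI _)
      hXadm.2.2 (hadm _).2.2
  haveI := hp k.left
  have hgπ : g ≫ π' = 𝟙 _ := by
    refine Groth.Agent.H9.MDP.ext_of_schDominant_of_isSeparated (D.obj k.left).hom ?_ π' ?_
    · have hπi₀ : (c.π.app i₀).left ≫ (D.obj i₀).hom = c.pt.hom := Over.w _
      rw [Category.assoc, hw, Category.id_comp, ← hπi₀, ← Category.assoc, hg2']
      exact Over.w (D.map k.hom)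
    · rw [← Category.assoc, hg1']
      exact (Category.id_comp _).trans (Category.comp_id _).symm
  haveI : IsIso π' := ⟨g, hg1', hgπ⟩
  rw [← hw]
  infer_instance

end Groth.Agent.H9.HCN
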