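import Mathlib
import Groth.Prelude.Def_SGA3b
import Groth.Agent.Lib.Helper9.Misc.CSG1
import Groth.Agent.Lib.Helper9.MultT.Cover
import Groth.Agent.Lib.Helper9.MT.BaseChange

/-!
# Torsion subgroups of groups of multiplicative type: finiteness, Nakayama, fibrewise density
(helper9)
-/

set_option autoImplicit false
set_option linter.unusedSectionVars false
set_option linter.unusedVariables false
set_option linter.style.haveILetI false

namespace Groth.Agent.H9.LIF

open TensorProduct SGA3b

noncomputable section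

universe u

section Flat

variable {R : Type u} [CommRing R] {A : Type u} [CommRing A] [HopfAlgebra R A]

/-- a group of multiplicative type is flat -/
theorem flat_of_isMultType (h : IsMultType R A) : Module.Flat R A := by
  obtain ⟨s, hs, hloc⟩ := MultT.exists_cover_of_isMultType h
  refine Module.flat_of_isLocalized_span R A s hs (fun r : s => Localization.Away r.1 ⊗[R] A)
      (fun r => TensorProduct.mk R (Localization.Away r.1) A 1) fun r => ?_
  obtain ⟨T, _, _, ⟨algf, tower, ff⟩, M, _, ⟨E⟩⟩ := hloc r.1 r.2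
  let e₀ : T ⊗[Localization.Away r.1] (Localization.Away r.1 ⊗[R] A) ≃ₗ[T] T ⊗[R] A :=
      TensorProduct.AlgebraTensorModule.cancelBaseChange R (Localization.Away r.1) T T A
  haveI : Module.Free T (MonoidAlgebra T M) := Module.Free.of_basis (MonoidAlgebra.basis M T)
  haveI : Module.Free T (T ⊗[Localization.Away r.1] (Localization.Away r.1 ⊗[R] A)) :=
      Module.Free.of_equiv (e₀.trans (E : T ⊗[R] A ≃ₐc[T] MonoidAlgebra T M).toLinearEquiv).symm
  haveI : Module.Flat (Localization.Away r.1) (Localization.Away r.1 ⊗[R] A) :=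
      Module.Flat.of_flat_tensorProduct _ _ T
  exact Module.Flat.trans R (Localization.Away r.1) _

end Flat

section Nak

variable {R : Type u} [CommRing R] {B : Type u} [CommRing B] [Algebra R B]

/-- An idempotent of a finite algebra which vanishes modulo an ideal contained in the Jacobson
radical is zero. -/
theorem idem_eq_zero_of_finite_of_le_jacobson [Module.Finite R B] (𝔞 : Ideal R)
    (h𝔞 : 𝔞 ≤ Ideal.jacobson ⊥) {w : B} (hw : IsIdempotentElem w)
    (hm : w ∈ Ideal.map (algebraMap R B) 𝔞) : w = 0 := by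
  let N : Submodule R B := LinearMap.range (LinearMap.mulLeft R w)
  have hfg : N.FG := by
    show (LinearMap.range (LinearMap.mulLeft R w)).FG
    rw [LinearMap.range_eq_map]
    exact Module.Finite.fg_top.map _
  have h1 : w ∈ 𝔞 • (⊤ : Submodule R B) := by
    rw [Ideal.smul_top_eq_map]
    exact hm
  have hle : N ≤ 𝔞 • N := by
    rintro _ ⟨b, rfl⟩
    have h2 : w * b = w * (w * b) := by rw [← mul_assoc, hw.eq]
    have h3 : ∀ x ∈ 𝔞 • (⊤ : Submodule R B), x * (w * b) ∈ 𝔞 • N := by
      intro x hx
      refine Submodule.smul_induction_on hx ?_ ?_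
      · intro r hr y _
        rw [smul_mul_assoc]
        refine Submodule.smul_mem_smul hr ⟨y * b, ?_⟩
        show w * (y * b) = y * (w * b)
        ring
      · intro x y hx hy
        rw [add_mul]
        exact add_mem hx hy
    show w * b ∈ _
    rw [h2]
    exact h3 w h1
  have h0 : N = ⊥ := Submodule.eq_bot_of_le_smul_of_le_jacobson_bot _ N hfg hle h𝔞
  have h4 : w ∈ N := ⟨w, hw.eq⟩
  rw [h0, Submodule.mem_bot] at h4
  exact h4

end Nak

section Fin

variable {A : Type u} [CommRing A] {C : Type u} [CommRing C] [HopfAlgebra A C]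

/-- finiteness of the torsion subgroups is stable under base change -/
theorem finite_quot_torsionIdeal_baseChange (A' : Type u) [CommRing A'] [Algebra A A'] (n : ℕ)
    (hfin : Module.Finite A (C ⧸ torsionIdeal A C n)) :
    Module.Finite A' ((A' ⊗[A] C) ⧸ torsionIdeal A' (A' ⊗[A] C) n) := by
  let ℓ₀ : C →ₐ[A] (A' ⊗[A] C) ⧸ torsionIdeal A' (A' ⊗[A] C) n :=
    ((Ideal.Quotient.mkₐ A' (torsionIdeal A' (A' ⊗[A] C) n)).restrictScalars A).comp
      (Algebra.TensorProduct.includeRight : C →ₐ[A] A' ⊗[A] C)
  have hℓ₀ : ∀ c ∈ torsionIdeal A C n, ℓ₀ c = 0 := fun c hc =>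
    Ideal.Quotient.eq_zero_iff_mem.mpr (MultT.one_tmul_mem_torsionIdeal A' n hc)
  let ℓ : (C ⧸ torsionIdeal A C n) →ₐ[A] (A' ⊗[A] C) ⧸ torsionIdeal A' (A' ⊗[A] C) n :=
    Ideal.Quotient.liftₐ (torsionIdeal A C n) ℓ₀ hℓ₀
  let g : A' ⊗[A] (C ⧸ torsionIdeal A C n) →ₗ[A']
      (A' ⊗[A] C) ⧸ torsionIdeal A' (A' ⊗[A] C) n := ℓ.toLinearMap.liftBaseChange A'
  haveI : Module.Finite A' (A' ⊗[A] (C ⧸ torsionIdeal A C n)) := inferInstance
  refine Module.Finite.of_surjective g ?_
  intro y
  obtain ⟨z, rfl⟩ := Ideal.Quotient.mk_surjective y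
  induction z using TensorProduct.induction_on with
  | zero => exact ⟨0, by rw [map_zero, map_zero]⟩
  | tmul a c =>
    refine ⟨a ⊗ₜ[A] Ideal.Quotient.mk (torsionIdeal A C n) c, ?_⟩
    rw [LinearMap.liftBaseChange_tmul]
    show a • Ideal.Quotient.mk (torsionIdeal A' (A' ⊗[A] C) n) ((1 : A') ⊗ₜ[A] c) = _
    rw [← Ideal.Quotient.mkₐ_eq_mk A', ← map_smul, TensorProduct.smul_tmul', smul_eq_mul, mul_one]
  | add x y hx hy =>
    obtain ⟨x', hx'⟩ := hx
    obtain ⟨y', hy'⟩ := hy
    exact ⟨x' + y', by rw [map_add, hx', hy', map_add]⟩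

/-- the torsion subgroups of a group of multiplicative type and of finite type are finite -/
theorem finite_quot_torsionIdeal_of_isMultType (hft : Algebra.FiniteType A C)
    (h : IsMultType A C) (n : ℕ) (hn : 0 < n) : Module.Finite A (C ⧸ torsionIdeal A C n) := by
  obtain ⟨s, hs, hloc⟩ := h
  refine Module.Finite.of_localizationSpan' s hs
    (Mₚ := fun g => Localization.Away g.1 ⊗[A] (C ⧸ torsionIdeal A C n))
    (Rₚ := fun g => Localization.Away g.1)
    (fun g => TensorProduct.mk A (Localization.Away g.1) (C ⧸ torsionIdeal A C n) 1) ?_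
  rintro ⟨f, hf⟩
  obtain ⟨R', _, _, hff, M, _, ⟨e⟩⟩ := hloc f hf
  show Module.Finite (Localization.Away f) (Localization.Away f ⊗[A] (C ⧸ torsionIdeal A C n))
  have hfinQ : Module.Finite (Localization.Away f) ((Localization.Away f ⊗[A] C) ⧸
      torsionIdeal (Localization.Away f) (Localization.Away f ⊗[A] C) n) := by
    rcases subsingleton_or_nontrivial R' with hR' | hR'
    · haveI : Subsingleton (Localization.Away f) :=
        (FaithfulSMul.algebraMap_injective (Localization.Away f) R').subsingleton
      haveI : Subsingleton ((Localization.Away f ⊗[A] C) ⧸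
          torsionIdeal (Localization.Away f) (Localization.Away f ⊗[A] C) n) :=
        Module.subsingleton (Localization.Away f) _
      infer_instance
    · haveI hftM : Algebra.FiniteType R' (MonoidAlgebra R' M) :=
        Algebra.FiniteType.equiv inferInstance
          (e : R' ⊗[Localization.Away f] (Localization.Away f ⊗[A] C) ≃ₐ[R'] MonoidAlgebra R' M)
      haveI hfg : Group.FG M := MonoidAlgebra.finiteType_iff_group_fg.1 hftM
      exact MultT.finite_quotient_torsionIdeal R' e n hn
  let p : Localization.Away f ⊗[A] C →ₐ[Localization.Away f]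
      Localization.Away f ⊗[A] (C ⧸ torsionIdeal A C n) :=
    Algebra.TensorProduct.map (AlgHom.id (Localization.Away f) (Localization.Away f))
      (Ideal.Quotient.mkₐ A (torsionIdeal A C n))
  have hp : ∀ z ∈ torsionIdeal (Localization.Away f) (Localization.Away f ⊗[A] C) n,
      p z = 0 := by
    have h2 : (torsionIdeal A C n).map
        (Algebra.TensorProduct.includeRight : C →ₐ[A] Localization.Away f ⊗[A] C) ≤
        RingHom.ker p.toRingHom := by
      rw [Ideal.map_le_iff_le_comap]
      intro c hc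
      rw [Ideal.mem_comap, RingHom.mem_ker]
      show p ((1 : Localization.Away f) ⊗ₜ[A] c) = 0
      rw [Algebra.TensorProduct.map_tmul]
      show _ ⊗ₜ[A] (Ideal.Quotient.mk (torsionIdeal A C n) c) = 0
      rw [Ideal.Quotient.eq_zero_iff_mem.mpr hc, tmul_zero]
    have hle : torsionIdeal (Localization.Away f) (Localization.Away f ⊗[A] C) n ≤
        RingHom.ker p.toRingHom := by
      rw [torsionIdeal, Ideal.map_le_iff_le_comap]
      intro z hz
      rw [RingHom.mem_ker, Bialgebra.counitAlgHom_apply] at hz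
      rw [Ideal.mem_comap]
      have h1 := MultT.powConv_sub_counit_mem_map (Localization.Away f) n z
      rw [hz, map_zero, sub_zero] at h1
      exact h2 h1
    intro z hz
    exact hle hz
  let g : ((Localization.Away f ⊗[A] C) ⧸
      torsionIdeal (Localization.Away f) (Localization.Away f ⊗[A] C) n) →ₐ[Localization.Away f]
      Localization.Away f ⊗[A] (C ⧸ torsionIdeal A C n) :=
    Ideal.Quotient.liftₐ _ p hp
  refine Module.Finite.of_surjective g.toLinearMap ?_
  intro y
  obtain ⟨z, hz⟩ := Algebra.TensorProduct.map_surjective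
    (AlgHom.id (Localization.Away f) (Localization.Away f))
    (Ideal.Quotient.mkₐ A (torsionIdeal A C n)) Function.surjective_id
    Ideal.Quotient.mk_surjective y
  exact ⟨Ideal.Quotient.mk _ z, hz⟩

end Fin

section Dens

variable {A : Type u} [CommRing A] {C : Type u} [CommRing C] [HopfAlgebra A C]

theorem isMultTypeConst_of_bialgEquiv {L : Type u} [CommRing L] {X Y : Type u} [CommRing X]
    [CommRing Y] [HopfAlgebra L X] [HopfAlgebra L Y] (ι : X ≃ₐc[L] Y)
    (h : IsMultTypeConst L X) : IsMultTypeConst L Y := by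
  obtain ⟨R', _, _, ff, M, _, ⟨e⟩⟩ := h
  exact ⟨R', inferInstance, inferInstance, ff, M, inferInstance,
    ⟨(MT.bcEquiv R' ι.symm).trans e⟩⟩

/-- on field-valued fibres of a base change of a group of multiplicative type, an element lying
in all torsion ideals vanishes -/
theorem one_tmul_eq_zero_of_forall_mem_torsionIdeal (hft : Algebra.FiniteType A C)
    (h : IsMultType A C) (A' : Type u) [CommRing A'] [Algebra A A'] (L : Type u) [Field L]
    [Algebra A' L] (w : A' ⊗[A] C)
    (hw : ∀ n : ℕ, 0 < n → w ∈ torsionIdeal A' (A' ⊗[A] C) n) : (1 : L) ⊗ₜ[A'] w = 0 := by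
  letI : Algebra A L := Algebra.compHom L (algebraMap A A')
  haveI : IsScalarTower A A' L := IsScalarTower.of_algebraMap_eq (fun x => rfl)
  obtain ⟨s, hs, hloc⟩ := h
  have hex : ∃ f ∈ s, algebraMap A L f ≠ 0 := by
    by_contra hcon
    push Not at hcon
    have h1 : Ideal.span s ≤ RingHom.ker (algebraMap A L) :=
      Ideal.span_le.mpr fun f hf => RingHom.mem_ker.mpr (hcon f hf)
    rw [hs] at h1
    have h2 : (1 : A) ∈ RingHom.ker (algebraMap A L) := h1 Submodule.mem_top
    rw [RingHom.mem_ker, map_one] at h2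
    exact one_ne_zero h2
  obtain ⟨f, hf, hfL⟩ := hex
  have hu : IsUnit (algebraMap A L f) := isUnit_iff_ne_zero.mpr hfL
  letI : Algebra (Localization.Away f) L :=
    (IsLocalization.Away.lift (S := Localization.Away f) f hu).toAlgebra
  haveI : IsScalarTower A (Localization.Away f) L := IsScalarTower.of_algebraMap_eq (fun a =>
    (IsLocalization.Away.lift_eq (S := Localization.Away f) f hu a).symm)
  have h1 : IsMultTypeConst (Localization.Away f) (Localization.Away f ⊗[A] C) := hloc f hf
  have h2 : IsMultTypeConst L (L ⊗[Localization.Away f] (Localization.Away f ⊗[A] C)) :=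
    MT.isMultTypeConst_baseChange L h1
  let ι : (L ⊗[Localization.Away f] (Localization.Away f ⊗[A] C)) ≃ₐc[L]
      (L ⊗[A'] (A' ⊗[A] C)) :=
    (MT.cancelBC A (Localization.Away f) L C).trans (MT.cancelBC A A' L C).symm
  have h3 : IsMultTypeConst L (L ⊗[A'] (A' ⊗[A] C)) := isMultTypeConst_of_bialgEquiv ι h2
  obtain ⟨T, _, _, ff, M, _, ⟨e⟩⟩ := h3
  have hTnt : Nontrivial T := by
    by_contra hT
    rw [not_nontrivial_iff_subsingleton] at hT
    have h1 : (1 : L) = 0 := by
      apply FaithfulSMul.algebraMap_injective L T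
      exact Subsingleton.elim _ _
    exact one_ne_zero h1
  haveI hftL : Algebra.FiniteType L (L ⊗[A'] (A' ⊗[A] C)) := inferInstance
  have hftM : Algebra.FiniteType T (MonoidAlgebra T M) :=
    Algebra.FiniteType.equiv inferInstance
      (e : T ⊗[L] (L ⊗[A'] (A' ⊗[A] C)) ≃ₐ[T] MonoidAlgebra T M)
  have hfg : Group.FG M := MonoidAlgebra.finiteType_iff_group_fg.1 hftM
  refine MultT.eq_zero_of_forall_mem_torsionIdeal_ff T e _ fun n hn => ?_
  exact MultT.one_tmul_mem_torsionIdeal L n (hw n hn)

end Dens

end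

end Groth.Agent.H9.LIF
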