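import Mathlib
import Groth.Prelude.Def_SGA3b
import Groth.Agent.Lib.Helper9.Misc.GLL4
import Groth.Agent.Lib.Helper9.Misc.FFDescMap
import Groth.Agent.Lib.Helper9.Misc.LIF24
import Groth.Agent.Lib.Helper9.Misc.DUA4
import Groth.Agent.Lib.Helper9.MultT.Torsion
import Groth.Agent.Lib.Helper9.MultT.Dense
import Groth.Agent.Lib.Helper9.MultT.LocalRigid
import Groth.Agent.Lib.Helper9.FF.Conv
import Groth.Agent.Lib.Helper9.GroupLikeConn

/-!
# Groups of multiplicative type over a local base: torsion Hopf ideals, uniqueness and descent of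
group-like elements, density of torsion (helper9)
-/

set_option autoImplicit false
set_option linter.unusedSectionVars false
set_option linter.unusedVariables false
set_option linter.style.haveILetI false

namespace Groth.Agent.H9.HDG

open TensorProduct SGA3b Groth.Agent.H9.MultT Groth.Agent.H9.GLL

universe u

attribute [local instance] Classical.propDecidable

section HopfIdeal

variable {R : Type u} [CommRing R] {A : Type u} [CommRing A] [HopfAlgebra R A]
  [Coalgebra.IsCocomm R A]

/-- the `n`-th power map as a bialgebra endomorphism (cocommutative case) -/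
noncomputable def powB (n : ℕ) : A →ₐc[R] A :=
  ((WithConv.toConv (BialgHom.id R A)) ^ n).ofConv

theorem powB_apply (n : ℕ) (a : A) : powB (R := R) n a = powConv R A n a := by
  have h := BialgHom.toAlgHom_convPow (WithConv.toConv (BialgHom.id R A)) n
  exact congrArg (fun f : WithConv (A →ₐ[R] A) => f.ofConv a) h

omit [Coalgebra.IsCocomm R A] in
theorem map_counit_comul_eq (y : A) :
    TensorProduct.map (Coalgebra.counit (R := R) (A := A)) (Coalgebra.counit (R := R) (A := A))
      (Coalgebra.comul (R := R) y) = (1 : R) ⊗ₜ[R] Coalgebra.counit (R := R) y := by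
  have h1 : TensorProduct.map (Coalgebra.counit (R := R) (A := A))
      (Coalgebra.counit (R := R) (A := A)) =
      (Coalgebra.counit (R := R) (A := A)).lTensor R ∘ₗ
        (Coalgebra.counit (R := R) (A := A)).rTensor A := by
    apply TensorProduct.ext'
    intro x y
    rfl
  rw [h1, LinearMap.comp_apply, Coalgebra.rTensor_counit_comul, LinearMap.lTensor_tmul]

/-- the ideal of the `n`-torsion subgroup is a Hopf ideal -/
theorem isHopfIdeal_torsionIdeal (n : ℕ) : (torsionIdeal R A n).IsHopfIdeal R := by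
  have hgen : ∀ y : A, Coalgebra.counit (R := R) y = 0 →
      powB (R := R) n y ∈ torsionIdeal R A n := by
    intro y hy
    rw [powB_apply, torsionIdeal]
    refine Ideal.mem_map_of_mem _ ?_
    rw [RingHom.mem_ker, Bialgebra.counitAlgHom_apply]
    exact hy
  have hmk : ∀ a : A, Ideal.Quotient.mk (torsionIdeal R A n) (powB (R := R) n a) =
      algebraMap R (A ⧸ torsionIdeal R A n) (Coalgebra.counit (R := R) a) := by
    intro a
    have h1 := hgen (a - algebraMap R A (Coalgebra.counit (R := R) a)) (by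
      rw [map_sub, Bialgebra.counit_algebraMap, sub_self])
    rw [map_sub, AlgHomClass.commutes, ← Ideal.Quotient.eq_zero_iff_mem, map_sub,
      sub_eq_zero] at h1
    rw [h1]
    rfl
  have h1 : ∀ x ∈ torsionIdeal R A n, Coalgebra.counit (R := R) x = 0 := by
    have hle : Ideal.map (powConv R A n) (RingHom.ker (Bialgebra.counitAlgHom R A)) ≤
        RingHom.ker (Bialgebra.counitAlgHom R A) := by
      rw [Ideal.map_le_iff_le_comap]
      intro y hy
      rw [RingHom.mem_ker, Bialgebra.counitAlgHom_apply] at hy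
      rw [Ideal.mem_comap, RingHom.mem_ker, Bialgebra.counitAlgHom_apply]
      show Coalgebra.counit (R := R) (powConv R A n y) = 0
      rw [← powB_apply, CoalgHomClass.counit_comp_apply, hy]
    intro x hx
    have h2 := hle hx
    rwa [RingHom.mem_ker, Bialgebra.counitAlgHom_apply] at h2
  let Q := Algebra.TensorProduct.map (Ideal.Quotient.mkₐ R (torsionIdeal R A n))
    (Ideal.Quotient.mkₐ R (torsionIdeal R A n))
  have hkey : ∀ (L : A →ₗ[R] A), (∀ a, Ideal.Quotient.mk (torsionIdeal R A n) (L a) =
      algebraMap R (A ⧸ torsionIdeal R A n) (Coalgebra.counit (R := R) a)) →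
      ∀ z : A ⊗[R] A, Q (TensorProduct.map L L z) =
        TensorProduct.lid R R (TensorProduct.map (Coalgebra.counit (R := R) (A := A))
          (Coalgebra.counit (R := R) (A := A)) z) •
          (1 : (A ⧸ torsionIdeal R A n) ⊗[R] (A ⧸ torsionIdeal R A n)) := by
    intro L hL z
    induction z using TensorProduct.induction_on with
    | zero => simp
    | tmul a b =>
      rw [TensorProduct.map_tmul, TensorProduct.map_tmul, TensorProduct.lid_tmul]
      show (Ideal.Quotient.mk (torsionIdeal R A n) (L a)) ⊗ₜ[R]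
        (Ideal.Quotient.mk (torsionIdeal R A n) (L b)) = _
      rw [hL, hL, Algebra.algebraMap_eq_smul_one, Algebra.algebraMap_eq_smul_one,
        TensorProduct.smul_tmul_smul]
      rfl
    | add x y hx hy => rw [map_add, map_add, hx, hy, map_add, map_add, add_smul]
  have h3 : ∀ x ∈ torsionIdeal R A n, Q (Coalgebra.comul (R := R) x) = 0 := by
    have hle : Ideal.map (powConv R A n) (RingHom.ker (Bialgebra.counitAlgHom R A)) ≤
        RingHom.ker (Q.comp (Bialgebra.comulAlgHom R A)) := by
      rw [Ideal.map_le_iff_le_comap]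
      intro y hy
      rw [RingHom.mem_ker, Bialgebra.counitAlgHom_apply] at hy
      rw [Ideal.mem_comap, RingHom.mem_ker]
      show Q (Coalgebra.comul (R := R) (powConv R A n y)) = 0
      rw [← powB_apply, ← CoalgHomClass.map_comp_comul_apply (powB (R := R) n) y]
      refine (hkey _ (fun a => hmk a) _).trans ?_
      rw [map_counit_comul_eq, hy, TensorProduct.tmul_zero, map_zero, zero_smul]
    intro x hx
    exact (RingHom.mem_ker).mp (hle hx)
  have h5 : ∀ x ∈ torsionIdeal R A n, HopfAlgebra.antipode R x ∈ torsionIdeal R A n := by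
    have hle : Ideal.map (powConv R A n) (RingHom.ker (Bialgebra.counitAlgHom R A)) ≤
        Ideal.comap (HopfAlgebra.antipodeAlgHom R A) (torsionIdeal R A n) := by
      rw [Ideal.map_le_iff_le_comap]
      intro y hy
      rw [RingHom.mem_ker, Bialgebra.counitAlgHom_apply] at hy
      rw [Ideal.mem_comap, Ideal.mem_comap]
      show HopfAlgebra.antipode R (powConv R A n y) ∈ torsionIdeal R A n
      rw [← powB_apply, ← Groth.Agent.H9.FF.Conv.bialgHom_antipode]
      apply hgen
      rw [HopfAlgebra.counit_antipode]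
      exact hy
    intro x hx
    exact hle hx
  exact { counit_eq_zero := fun x hx => h1 x hx
          map_mkQ_comul_eq_zero := fun x hx => h3 x hx
          antipode_mem := fun x hx => h5 x hx }

end HopfIdeal

section BC

variable {R : Type u} [CommRing R]

/-- extension of scalars along an `R`-algebra map, on `S ⊗ X` -/
noncomputable abbrev bc {S S' : Type u} [CommRing S] [CommRing S'] [Algebra R S] [Algebra R S']
    (f : S →ₐ[R] S') (X : Type u) [CommRing X] [Algebra R X] : S ⊗[R] X →ₐ[R] S' ⊗[R] X :=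
  Algebra.TensorProduct.map f (AlgHom.id R X)

theorem bc_tmul {S S' : Type u} [CommRing S] [CommRing S'] [Algebra R S] [Algebra R S']
    (f : S →ₐ[R] S') (X : Type u) [CommRing X] [Algebra R X] (s : S) (x : X) :
    bc f X (s ⊗ₜ[R] x) = f s ⊗ₜ[R] x := rfl

theorem bc_eq_rTensor {S S' : Type u} [CommRing S] [CommRing S'] [Algebra R S] [Algebra R S']
    (f : S →ₐ[R] S') (X : Type u) [CommRing X] [Algebra R X] (z : S ⊗[R] X) :
    bc f X z = LinearMap.rTensor X f.toLinearMap z := by
  induction z using TensorProduct.induction_on with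
  | zero => simp
  | tmul s x => rfl
  | add a b ha hb => rw [map_add, map_add, ha, hb]

variable {A : Type u} [CommRing A] [HopfAlgebra R A] (J : Ideal A) [J.IsHopfIdeal R]

/-- the quotient map to `A ⧸ J`, base changed to `S`, as a bialgebra map -/
noncomputable abbrev πb (S : Type u) [CommRing S] [Algebra R S] :
    S ⊗[R] A →ₐc[S] S ⊗[R] (A ⧸ J) :=
  Bialgebra.TensorProduct.map (BialgHom.id S S) (Bialgebra.Quotient.mkBialgHom (R := R) J)

theorem πb_tmul (S : Type u) [CommRing S] [Algebra R S] (s : S) (a : A) :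
    πb J S (s ⊗ₜ[R] a) = s ⊗ₜ[R] Ideal.Quotient.mk J a := rfl

theorem bc_πb {S S' : Type u} [CommRing S] [CommRing S'] [Algebra R S] [Algebra R S']
    (f : S →ₐ[R] S') (z : S ⊗[R] A) :
    bc f (A ⧸ J) (πb J S z) = πb J S' (bc f A z) := by
  induction z using TensorProduct.induction_on with
  | zero => simp
  | tmul s a => rfl
  | add a b ha hb => rw [map_add, map_add, map_add, map_add, ha, hb]

theorem ker_πb (S : Type u) [CommRing S] [Algebra R S] :
    RingHom.ker ((πb J S : S ⊗[R] A →ₐc[S] S ⊗[R] (A ⧸ J)) : S ⊗[R] A →ₐ[S] S ⊗[R] (A ⧸ J)) =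
      J.map (Algebra.TensorProduct.includeRight : A →ₐ[R] S ⊗[R] A) := by
  have h := Algebra.TensorProduct.lTensor_ker (A := S) (Ideal.Quotient.mkₐ R J)
    Ideal.Quotient.mk_surjective
  have h' : RingHom.ker (Ideal.Quotient.mkₐ R J) = J := Ideal.Quotient.mkₐ_ker R J
  rw [h'] at h
  rw [← h]
  rfl

end BC

section Uniq

variable {R : Type u} [CommRing R] {A : Type u} [CommRing A] [HopfAlgebra R A]
  {T : Type u} [CommRing T] [Algebra R T] {N : Type u} [CommGroup N]

theorem bcTriv_map (T' : Type u) [CommRing T'] [Algebra R T'] [Algebra T T'] [IsScalarTower R T T']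
    (e : T ⊗[R] A ≃ₐc[T] MonoidAlgebra T N) (y : T ⊗[R] A) :
    bcTriv T' e (bc (IsScalarTower.toAlgHom R T T') A y) = red T' (e y) := by
  induction y using TensorProduct.induction_on with
  | zero => simp
  | add x y hx hy => rw [map_add, map_add, map_add, map_add, hx, hy]
  | tmul t a =>
    have h1 : t ⊗ₜ[R] a = t • ((1 : T) ⊗ₜ[R] a) := by
      rw [TensorProduct.smul_tmul', smul_eq_mul, mul_one]
    rw [bc_tmul, bcTriv_tmul, IsScalarTower.coe_toAlgHom', h1, map_smul, map_smul, algebraMap_smul]

theorem isLocalRing_idem {T : Type u} [CommRing T] [IsLocalRing T] (e : T)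
    (he : IsIdempotentElem e) : e = 0 ∨ e = 1 := by
  rcases IsLocalRing.isUnit_or_isUnit_one_sub_self e with h | h
  · right
    have h1 : e * (e - 1) = 0 := by rw [mul_sub, he.eq, mul_one, sub_self]
    exact sub_eq_zero.mp (h.mul_right_eq_zero.mp h1)
  · left
    have h1 : (1 - e) * e = 0 := by rw [sub_mul, one_mul, he.eq, sub_self]
    exact h.mul_right_eq_zero.mp h1

/-- over a local ring, group-like elements of a split group are determined by their reduction -/
theorem groupLike_unique_of_chart [IsLocalRing T] (K : Type u) [CommRing K] [Nontrivial K]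
    [Algebra R K] [Algebra T K] [IsScalarTower R T K]
    (e : T ⊗[R] A ≃ₐc[T] MonoidAlgebra T N) {y y' : T ⊗[R] A} (hy : IsGroupLikeElem T y)
    (hy' : IsGroupLikeElem T y')
    (h : bc (IsScalarTower.toAlgHom R T K) A y = bc (IsScalarTower.toAlgHom R T K) A y') :
    y = y' := by
  obtain ⟨ν, hν⟩ := GroupLikeConn.groupLike_eq_single isLocalRing_idem (hy.map e)
  obtain ⟨ν', hν'⟩ := GroupLikeConn.groupLike_eq_single isLocalRing_idem (hy'.map e)
  have h1 := congrArg (bcTriv K e) h
  rw [bcTriv_map, bcTriv_map, hν, hν', red_single, red_single, map_one] at h1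
  have h2 : ν = ν' := (MonoidAlgebra.single_left_inj one_ne_zero).mp h1
  apply EquivLike.injective e
  rw [hν, hν', h2]

end Uniq

section Descent

variable (R : Type u) [CommRing R] (T : Type u) [CommRing T] [Algebra R T]
  [Module.FaithfullyFlat R T]

theorem exists_one_tmul_of_rTensor_eq (X : Type u) [AddCommGroup X] [Module R X] (x : T ⊗[R] X)
    (hx : LinearMap.rTensor X
        (Algebra.TensorProduct.includeLeft : T →ₐ[R] T ⊗[R] T).toLinearMap x =
      LinearMap.rTensor X
        (Algebra.TensorProduct.includeRight : T →ₐ[R] T ⊗[R] T).toLinearMap x) :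
    ∃ x₀ : X, (1 : T) ⊗ₜ[R] x₀ = x := by
  have h := Groth.Agent.S1156.result R T X x (by
    rw [← Groth.Agent.H9.FFDescMap.assoc_right, ← Groth.Agent.H9.FFDescMap.assoc_left, hx])
  obtain ⟨n, hn⟩ := h
  exact ⟨n, hn⟩

variable {R} {A : Type u} [CommRing A] [HopfAlgebra R A]

theorem isGroupLikeElem_of_one_tmul {g : A} (hg : IsGroupLikeElem T ((1 : T) ⊗ₜ[R] g)) :
    IsGroupLikeElem R g where
  counit_eq_one := by
    have h1 := hg.counit_eq_one
    rw [counit_one_tmul] at h1
    apply FaithfulSMul.algebraMap_injective R T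
    rw [h1, map_one]
  comul_eq_tmul_self := by
    have h1 := hg.comul_eq_tmul_self
    rw [← sub_eq_zero, defect_one_tmul] at h1
    have h2 := (TensorProduct.AlgebraTensorModule.distribBaseChange R T A A).injective
      (h1.trans (map_zero _).symm)
    exact sub_eq_zero.mp ((Module.FaithfullyFlat.one_tmul_eq_zero_iff R (A ⊗[R] A) (A := T) _).mp h2)

end Descent

section Density

variable {R : Type u} [CommRing R] {A : Type u} [CommRing A] [HopfAlgebra R A]
  {T : Type u} [CommRing T] [Algebra R T] {N : Type u} [CommGroup N]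

/-- density of the torsion subgroups, in the form used for descent -/
theorem eq_zero_of_forall_mem_map_torsionIdeal [Group.FG N]
    (e : T ⊗[R] A ≃ₐc[T] MonoidAlgebra T N)
    (T' : Type u) [CommRing T'] [Algebra R T'] [Algebra T T'] [IsScalarTower R T T']
    (d : T' ⊗[R] A)
    (hd : ∀ n : ℕ, 0 < n → d ∈ (torsionIdeal R A n).map
      (Algebra.TensorProduct.includeRight : A →ₐ[R] T' ⊗[R] A)) : d = 0 := by
  apply (bcTriv T' e).injective
  rw [map_zero]
  refine eq_zero_of_forall_mem_torsionIdeal 0 (Or.inl rfl)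
    (fun h => absurd h Nat.not_prime_zero) _ ?_
  intro n hn _
  refine map_mem_torsionIdeal ((bcTriv T' e : T' ⊗[R] A ≃ₐc[T'] MonoidAlgebra T' N) :
    T' ⊗[R] A →ₐc[T'] MonoidAlgebra T' N) n ?_
  have hle : (torsionIdeal R A n).map
      (Algebra.TensorProduct.includeRight : A →ₐ[R] T' ⊗[R] A) ≤
      torsionIdeal T' (T' ⊗[R] A) n := by
    rw [Ideal.map_le_iff_le_comap]
    intro a ha
    exact one_tmul_mem_torsionIdeal T' n ha
  exact hle (hd n hn)

/-- the chart of the `n`-torsion subgroup induced by a chart of the group -/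
noncomputable def chartQuot (e : T ⊗[R] A ≃ₐc[T] MonoidAlgebra T N) (n : ℕ) (J : Ideal A)
    [J.IsHopfIdeal R] (hJ : J = torsionIdeal R A n) :
    T ⊗[R] (A ⧸ J) ≃ₐc[T] MonoidAlgebra T (N ⧸ powSubgroup N n) :=
  bialgEquivOfKerEq
    (Bialgebra.TensorProduct.map (BialgHom.id T T) (Bialgebra.Quotient.mkBialgHom (R := R) J))
    ((MonoidAlgebra.mapDomainBialgHom T (QuotientGroup.mk' (powSubgroup N n))).comp
        (e : T ⊗[R] A →ₐc[T] MonoidAlgebra T N))
    (Algebra.TensorProduct.map_surjective (AlgHom.id T T) (Ideal.Quotient.mkₐ R J)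
        Function.surjective_id Ideal.Quotient.mk_surjective)
    ((mapDomain_mk_surjective _).comp e.surjective)
    (ker_eq_of_torsion e n J hJ)

end Density

section LocalBij

variable {T : Type u} [CommRing T] (T₀ : Type u) [CommRing T₀] [Algebra T T₀]
  {N : Type u} [CommGroup N] {M : Type u} [CommGroup M]

theorem red_injOn_groupLike_local [IsLocalRing T] [Nontrivial T₀] {Q : Type u} [CommGroup Q]
    {G G' : MonoidAlgebra T Q} (hG : IsGroupLikeElem T G) (hG' : IsGroupLikeElem T G')
    (h : red T₀ G = red T₀ G') : G = G' := by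
  obtain ⟨ν, rfl⟩ := GroupLikeConn.groupLike_eq_single isLocalRing_idem hG
  obtain ⟨ν', rfl⟩ := GroupLikeConn.groupLike_eq_single isLocalRing_idem hG'
  rw [red_single, red_single, map_one] at h
  rw [(MonoidAlgebra.single_left_inj one_ne_zero).mp h]

theorem exists_groupLike_red_field {K : Type u} [Field K] [Algebra T K] {Q : Type u}
    [CommGroup Q] {Gbar : MonoidAlgebra K Q} (hG : IsGroupLikeElem K Gbar) :
    ∃ G : MonoidAlgebra T Q, IsGroupLikeElem T G ∧ red K G = Gbar := by
  obtain ⟨ν, rfl⟩ := GroupLikeConn.groupLike_eq_single isLocalRing_idem hG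
  exact ⟨MonoidAlgebra.single ν 1, MonoidAlgebra.isGroupLikeElem_single_one ν, by
    rw [red_single, map_one]⟩

/-- a bialgebra map of group algebras which is an isomorphism modulo reduction is bijective,
provided group-like elements lift uniquely -/
theorem bijective_of_red_iso'
    (hinjM : ∀ G G' : MonoidAlgebra T M, IsGroupLikeElem T G → IsGroupLikeElem T G' →
      red T₀ G = red T₀ G' → G = G')
    (hinjN : ∀ G G' : MonoidAlgebra T N, IsGroupLikeElem T G → IsGroupLikeElem T G' →
      red T₀ G = red T₀ G' → G = G')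
    (hexM : ∀ Gbar : MonoidAlgebra T₀ M, IsGroupLikeElem T₀ Gbar →
      ∃ G : MonoidAlgebra T M, IsGroupLikeElem T G ∧ red T₀ G = Gbar)
    (u : MonoidAlgebra T M →ₐc[T] MonoidAlgebra T N)
    (Ψ : MonoidAlgebra T₀ M ≃ₐc[T₀] MonoidAlgebra T₀ N)
    (hΨ : ∀ m : M, red T₀ (u (MonoidAlgebra.single m 1)) = Ψ (MonoidAlgebra.single m 1)) :
    Function.Bijective u := by
  have hsm : ∀ (K : Type u) [CommGroup K] (k : K) (r : T),
      (MonoidAlgebra.single k r : MonoidAlgebra T K) = r • MonoidAlgebra.single k (1 : T) := by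
    intro K _ k r
    rw [MonoidAlgebra.smul_single, smul_eq_mul, mul_one]
  have hd : ∀ x : MonoidAlgebra T M, red T₀ (u x) = Ψ (red T₀ x) := by
    intro x
    induction x using MonoidAlgebra.induction_linear with
    | zero => simp
    | add x y hx hy => rw [map_add, map_add, map_add, map_add, hx, hy]
    | single m r =>
      rw [hsm M m r, map_smul u, map_smul (red T₀), map_smul (red T₀), hΨ,
        ← algebraMap_smul T₀ r (Ψ _), ← algebraMap_smul T₀ r (red T₀ _), map_smul Ψ]
      congr 2
      rw [red_single, map_one]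
  have hgl : ∀ n : N, IsGroupLikeElem T₀ (Ψ.symm (MonoidAlgebra.single n 1)) := fun n =>
    (MonoidAlgebra.isGroupLikeElem_single_one n).map Ψ.symm
  choose H hH hHred using fun n => hexM _ (hgl n)
  have hred1 : ∀ (K : Type u) [CommGroup K] (k : K),
      red T₀ (MonoidAlgebra.single k (1 : T)) =
        (MonoidAlgebra.single k (1 : T₀) : MonoidAlgebra T₀ K) := by
    intro K _ k
    rw [red_single, map_one]
  have huH : ∀ n, u (H n) = MonoidAlgebra.single n 1 := by
    intro n
    apply hinjN _ _ ((hH n).map u) (MonoidAlgebra.isGroupLikeElem_single_one n)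
    rw [hd, hHred, Ψ.apply_symm_apply, hred1]
  have hsurj : Function.Surjective u := by
    intro y
    induction y using MonoidAlgebra.induction_linear with
    | zero => exact ⟨0, map_zero _⟩
    | add x y hx hy =>
      obtain ⟨a, ha⟩ := hx
      obtain ⟨b, hb⟩ := hy
      exact ⟨a + b, by rw [map_add, ha, hb]⟩
    | single n r => exact ⟨r • H n, by rw [map_smul, huH, ← hsm]⟩
  let γ : N →* MonoidAlgebra T M :=
    { toFun := H
      map_one' := by
        apply hinjM _ _ (hH 1) IsGroupLikeElem.one
        rw [hHred, map_one, ← MonoidAlgebra.one_def, map_one]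
      map_mul' := fun n n' => by
        apply hinjM _ _ (hH _) ((hH n).mul (hH n'))
        rw [hHred, map_mul, hHred, hHred, ← map_mul, MonoidAlgebra.single_mul_single, mul_one] }
  let v := liftBialg γ hH
  have hv : ∀ n r, v (MonoidAlgebra.single n r) = r • H n := liftBialg_single γ hH
  have hd' : ∀ y : MonoidAlgebra T N, red T₀ (v y) = Ψ.symm (red T₀ y) := by
    intro y
    induction y using MonoidAlgebra.induction_linear with
    | zero => simp
    | add x y hx hy => rw [map_add, map_add, map_add, map_add, hx, hy]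
    | single n r =>
      rw [hv, map_smul (red T₀), hHred, hsm N n r, map_smul (red T₀),
        ← algebraMap_smul T₀ r (Ψ.symm _), ← algebraMap_smul T₀ r (red T₀ _), map_smul Ψ.symm,
        hred1]
  have hvu : ∀ m, v (u (MonoidAlgebra.single m 1)) = MonoidAlgebra.single m 1 := by
    intro m
    apply hinjM _ _
      (((MonoidAlgebra.isGroupLikeElem_single_one m).map u).map v)
      (MonoidAlgebra.isGroupLikeElem_single_one m)
    rw [hd', hΨ, Ψ.symm_apply_apply, hred1]
  have hid : ∀ x, v (u x) = x := by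
    intro x
    induction x using MonoidAlgebra.induction_linear with
    | zero => simp
    | add x y hx hy => rw [map_add, map_add, hx, hy]
    | single m r => rw [hsm M m r, map_smul u, map_smul v, hvu]
  exact ⟨fun x y hxy => by rw [← hid x, ← hid y, hxy], hsurj⟩

end LocalBij

section ChartBij

variable {R : Type u} [CommRing R] {R₀ : Type u} [CommRing R₀] [Algebra R R₀]
  {A : Type u} [CommRing A] [HopfAlgebra R A] {M : Type u} [CommGroup M]
  {T : Type u} [CommRing T] [Algebra R T] {N : Type u} [CommGroup N]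

theorem bijective_trivHom' [IsLocalRing T] (e₀ : R₀ ⊗[R] A ≃ₐc[R₀] MonoidAlgebra R₀ M)
    (e : T ⊗[R] A ≃ₐc[T] MonoidAlgebra T N)
    (T₀ : Type u) [Field T₀] [Algebra R T₀] [Algebra T T₀] [Algebra R₀ T₀]
    [IsScalarTower R T T₀] [IsScalarTower R R₀ T₀]
    (γ : M →* A) (hγ : ∀ m, IsGroupLikeElem R (γ m))
    (hγχ : ∀ m, (1 : R₀) ⊗ₜ[R] γ m = e₀.symm (MonoidAlgebra.single m 1)) :
    Function.Bijective (trivHom e (liftBialg γ hγ)) := by
  let B := Groth.Agent.H9.MT.monAlgBC R T M
  let u : MonoidAlgebra T M →ₐc[T] MonoidAlgebra T N :=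
    (trivHom e (liftBialg γ hγ)).comp
      (B.symm : MonoidAlgebra T M →ₐc[T] T ⊗[R] MonoidAlgebra R M)
  have hB : ∀ m : M, B.symm (MonoidAlgebra.single m 1) =
      (1 : T) ⊗ₜ[R] MonoidAlgebra.single m (1 : R) := by
    intro m
    have h0 : B ((1 : T) ⊗ₜ[R] MonoidAlgebra.single m (1 : R)) = MonoidAlgebra.single m 1 := by
      show Groth.Agent.H9.MT.monAlgBC R T M _ = _
      rw [Groth.Agent.H9.MT.monAlgBC_tmul, MonoidAlgebra.mapAlgHom_single, one_smul, map_one]
    rw [← h0, BialgEquiv.symm_apply_apply]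
  have hu : ∀ m : M, u (MonoidAlgebra.single m 1) = e ((1 : T) ⊗ₜ[R] γ m) := by
    intro m
    show trivHom e (liftBialg γ hγ) (B.symm (MonoidAlgebra.single m 1)) = _
    rw [hB, trivHom_tmul, liftBialg_single, one_smul]
  let Ψi : MonoidAlgebra T₀ N ≃ₐc[T₀] MonoidAlgebra T₀ M :=
    (bcTriv T₀ e).symm.trans ((Groth.Agent.H9.MT.cancelBC R R₀ T₀ A).symm.trans
      ((Groth.Agent.H9.MT.bcEquiv T₀ e₀).trans (Groth.Agent.H9.MT.monAlgBC R₀ T₀ M)))
  have hΨ : ∀ m : M, red T₀ (u (MonoidAlgebra.single m 1)) =
      Ψi.symm (MonoidAlgebra.single m 1) := by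
    intro m
    have h1 : red T₀ (e ((1 : T) ⊗ₜ[R] γ m)) = bcTriv T₀ e ((1 : T₀) ⊗ₜ[R] γ m) := by
      rw [bcTriv_tmul, one_smul]
    have h0 : Ψi (red T₀ (u (MonoidAlgebra.single m 1))) = MonoidAlgebra.single m 1 := by
      rw [hu, h1, bialgEquiv_trans_apply, bialgEquiv_trans_apply, bialgEquiv_trans_apply]
      rw [BialgEquiv.symm_apply_apply, Groth.Agent.H9.MT.cancelBC_symm_tmul,
        Groth.Agent.H9.MT.bcEquiv_tmul, hγχ, BialgEquiv.apply_symm_apply,
        Groth.Agent.H9.MT.monAlgBC_tmul, MonoidAlgebra.mapAlgHom_single, one_smul, map_one]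
    rw [← h0, BialgEquiv.symm_apply_apply]
  have hbij := bijective_of_red_iso' T₀
    (fun G G' hG hG' h => red_injOn_groupLike_local T₀ hG hG' h)
    (fun G G' hG hG' h => red_injOn_groupLike_local T₀ hG hG' h)
    (fun Gbar hG => exists_groupLike_red_field hG) u Ψi.symm hΨ
  have h2 : ∀ y, trivHom e (liftBialg γ hγ) y = u (B y) := by
    intro y
    show _ = trivHom e (liftBialg γ hγ) (B.symm (B y))
    rw [BialgEquiv.symm_apply_apply]
  constructor
  · intro y y' hyy
    rw [h2, h2] at hyy
    exact B.injective (hbij.1 hyy)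
  · intro z
    obtain ⟨w, hw⟩ := hbij.2 z
    refine ⟨B.symm w, ?_⟩
    rw [h2, BialgEquiv.apply_symm_apply, hw]

end ChartBij

end Groth.Agent.H9.HDG
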