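import Mathlib
import Groth.Prelude.Def_SGA3b
import Groth.Agent.Lib.Helper9.Misc.HDG1
import Groth.Agent.Lib.Helper9.Misc.DUB3

/-!
# A group of multiplicative type and of finite type over a henselian local ring whose closed fibre
is diagonalisable is diagonalisable (helper9)
-/

set_option autoImplicit false
set_option linter.unusedSectionVars false
set_option linter.unusedVariables false
set_option linter.style.haveILetI false

namespace Groth.Agent.H9.HDG

open TensorProduct SGA3b IsLocalRing Groth.Agent.H9.MultT Groth.Agent.H9.GLL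

universe u

attribute [local instance] Classical.propDecidable

section FiniteLift

variable (R : Type u) [CommRing R] [HenselianLocalRing R]
  (B : Type u) [CommRing B] [HopfAlgebra R B] [Module.Finite R B]

/-- group-like elements of the closed fibre of a finite group of multiplicative type over a
henselian local ring lift -/
theorem exists_groupLike_lift_finite (hB : IsMultType R B) (n : ℕ) (hn : 0 < n)
    (hpow : powConv R B n = triv R B) (x : ResidueField R ⊗[R] B)
    (hx : IsGroupLikeElem (ResidueField R) x) :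
    ∃ b : B, IsGroupLikeElem R b ∧ (1 : ResidueField R) ⊗ₜ[R] b = x := by
  haveI : NeZero n := ⟨hn.ne'⟩
  have hxn : x ^ n = 1 := by
    have h1 := powConv_baseChange_of_triv (ResidueField R) hpow
    have h2 := powConv_of_isGroupLike hx n
    rw [h1, triv_apply, hx.counit_eq_one, map_one] at h2
    exact h2.symm
  let G := ULift.{u} (Multiplicative (ZMod n))
  let C := MonoidAlgebra R G
  haveI : Finite G := inferInstance
  haveI : Module.Finite R C := Module.Finite.of_basis (MonoidAlgebra.basis G R)
  have hC : IsMultType R C := by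
    apply Groth.Agent.H9.MT.isMultType_of_isMultTypeConst
    exact ⟨R, inferInstance, inferInstance, inferInstance,
      Groth.Agent.H9.MT.isDiag_baseChange R ⟨G, inferInstance, ⟨BialgEquiv.refl R C⟩⟩⟩
  let γ₀ : G →* ResidueField R ⊗[R] B :=
    { toFun := fun z => x ^ (Multiplicative.toAdd z.down).val
      map_one' := by
        show x ^ (Multiplicative.toAdd (1 : G).down).val = 1
        have h0 : (Multiplicative.toAdd (1 : G).down) = (0 : ZMod n) := rfl
        rw [h0, ZMod.val_zero, pow_zero]
      map_mul' := fun z z' => by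
        show x ^ (Multiplicative.toAdd (z * z').down).val =
          x ^ (Multiplicative.toAdd z.down).val * x ^ (Multiplicative.toAdd z'.down).val
        have h0 : Multiplicative.toAdd (z * z').down =
            Multiplicative.toAdd z.down + Multiplicative.toAdd z'.down := rfl
        rw [h0, ZMod.val_add, ← pow_eq_pow_mod _ hxn, pow_add] }
  have hγ₀ : ∀ z, IsGroupLikeElem (ResidueField R) (γ₀ z) := fun z => hx.pow
  let φ₀ : ResidueField R ⊗[R] C →ₐc[ResidueField R] ResidueField R ⊗[R] B :=
    (liftBialg γ₀ hγ₀).comp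
      ((Groth.Agent.H9.MT.monAlgBC R (ResidueField R) G :
          ResidueField R ⊗[R] C ≃ₐc[ResidueField R] MonoidAlgebra (ResidueField R) G) :
        ResidueField R ⊗[R] C →ₐc[ResidueField R] MonoidAlgebra (ResidueField R) G)
  obtain ⟨φ, hφ⟩ := Groth.Agent.H9.DUB.reduction_surjective R B C hB hC φ₀
  let g₁ : G := ULift.up (Multiplicative.ofAdd (1 : ZMod n))
  refine ⟨φ (MonoidAlgebra.single g₁ 1), (MonoidAlgebra.isGroupLikeElem_single_one g₁).map φ, ?_⟩
  rw [← hφ]
  show liftBialg γ₀ hγ₀ (Groth.Agent.H9.MT.monAlgBC R (ResidueField R) G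
    ((1 : ResidueField R) ⊗ₜ[R] MonoidAlgebra.single g₁ (1 : R))) = x
  rw [Groth.Agent.H9.MT.monAlgBC_tmul, MonoidAlgebra.mapAlgHom_single, one_smul, map_one,
    liftBialg_single, one_smul]
  show x ^ ((1 : ZMod n)).val = x
  rw [ZMod.val_one_eq_one_mod, ← pow_eq_pow_mod _ hxn, pow_one]

end FiniteLift

section Lift

variable (R : Type u) [CommRing R] [HenselianLocalRing R] (A : Type u) [CommRing A]
  [HopfAlgebra R A]
  (T : Type u) [CommRing T] [IsLocalRing T] [Algebra R T] [Module.FaithfullyFlat R T]
  {N : Type u} [CommGroup N]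

/-- group-like elements of `A` are determined by their reduction to the closed fibre -/
theorem groupLike_unique (e : T ⊗[R] A ≃ₐc[T] MonoidAlgebra T N) {g g' : A}
    (hg : IsGroupLikeElem R g) (hg' : IsGroupLikeElem R g')
    (h : (1 : ResidueField R) ⊗ₜ[R] g = (1 : ResidueField R) ⊗ₜ[R] g') : g = g' := by
  have h1 : (1 : T) ⊗ₜ[R] g = (1 : T) ⊗ₜ[R] g' := by
    refine groupLike_unique_of_chart (ResidueField T) e (isGroupLikeElem_one_tmul T hg)
      (isGroupLikeElem_one_tmul T hg') ?_
    rw [bc_tmul, bc_tmul, map_one]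
    have h2 := congrArg
      (bc (IsScalarTower.toAlgHom R (ResidueField R) (ResidueField T)) A) h
    rwa [bc_tmul, bc_tmul, map_one] at h2
  exact Module.FaithfullyFlat.tensorProduct_mk_injective (A := R) (B := T) A h1

/-- group-like elements of the closed fibre lift (henselian local base) -/
theorem exists_groupLike_lift [Group.FG N] (hft : Algebra.FiniteType R A) (h : IsMultType R A)
    (e : T ⊗[R] A ≃ₐc[T] MonoidAlgebra T N)
    (x : ResidueField R ⊗[R] A) (hx : IsGroupLikeElem (ResidueField R) x) :
    ∃ g : A, IsGroupLikeElem R g ∧ (1 : ResidueField R) ⊗ₜ[R] g = x := by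
  haveI : Coalgebra.IsCocomm R A := Groth.Agent.H9.DUA.isCocomm_of_isMultType h
  haveI : Module.Flat R A := Groth.Agent.H9.LIF.flat_of_isMultType h
  have hglx : IsGroupLikeElem (ResidueField T)
      (bc (IsScalarTower.toAlgHom R (ResidueField R) (ResidueField T)) A x) := by
    rw [bc_eq_rTensor]
    exact isGroupLikeElem_rTensor _ hx
  obtain ⟨ν, hν⟩ := GroupLikeConn.groupLike_eq_single isLocalRing_idem
    (hglx.map (bcTriv (ResidueField T) e))
  have ha' : IsGroupLikeElem T (e.symm (MonoidAlgebra.single ν 1)) :=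
    (MonoidAlgebra.isGroupLikeElem_single_one ν).map e.symm
  have hρa : bc (IsScalarTower.toAlgHom R T (ResidueField T)) A
        (e.symm (MonoidAlgebra.single ν 1)) =
      bc (IsScalarTower.toAlgHom R (ResidueField R) (ResidueField T)) A x := by
    apply EquivLike.injective (bcTriv (ResidueField T) e)
    rw [bcTriv_map, BialgEquiv.apply_symm_apply, red_single, map_one]
    exact hν.symm
  -- the finite levels
  have hfin : ∀ n : ℕ, 0 < n → ∃ a : A,
      e.symm (MonoidAlgebra.single ν 1) - (1 : T) ⊗ₜ[R] a ∈ (torsionIdeal R A n).map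
        (Algebra.TensorProduct.includeRight : A →ₐ[R] T ⊗[R] A) := by
    intro n hn
    haveI hHI : (torsionIdeal R A n).IsHopfIdeal R := isHopfIdeal_torsionIdeal n
    obtain ⟨hmtB, hfinB⟩ := torsion_isMultType_and_finite hft h n hn (torsionIdeal R A n) rfl
    haveI := hfinB
    have hpow : powConv R (A ⧸ torsionIdeal R A n) n = triv R (A ⧸ torsionIdeal R A n) :=
      powConv_quotient_triv n (torsionIdeal R A n) le_rfl
    have hxB : IsGroupLikeElem (ResidueField R)
        (πb (torsionIdeal R A n) (ResidueField R) x) :=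
      hx.map (πb (torsionIdeal R A n) (ResidueField R))
    obtain ⟨b, hb, hbx⟩ :=
      exists_groupLike_lift_finite R (A ⧸ torsionIdeal R A n) hmtB n hn hpow _ hxB
    have huniq : πb (torsionIdeal R A n) T (e.symm (MonoidAlgebra.single ν 1)) =
        (1 : T) ⊗ₜ[R] b := by
      refine groupLike_unique_of_chart (ResidueField T)
        (chartQuot e n (torsionIdeal R A n) rfl)
        (ha'.map (πb (torsionIdeal R A n) T)) (isGroupLikeElem_one_tmul T hb) ?_
      rw [bc_πb, hρa, ← bc_πb, ← hbx, bc_tmul, bc_tmul, map_one, map_one]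
    obtain ⟨a, rfl⟩ := Ideal.Quotient.mk_surjective b
    refine ⟨a, ?_⟩
    rw [← ker_πb (torsionIdeal R A n) T, RingHom.mem_ker]
    show πb (torsionIdeal R A n) T (e.symm (MonoidAlgebra.single ν 1) - (1 : T) ⊗ₜ[R] a) = 0
    rw [map_sub, huniq, πb_tmul, sub_self]
  -- the descent datum
  have hd : bc (Algebra.TensorProduct.includeLeft : T →ₐ[R] T ⊗[R] T) A
        (e.symm (MonoidAlgebra.single ν 1)) =
      bc (Algebra.TensorProduct.includeRight : T →ₐ[R] T ⊗[R] T) A
        (e.symm (MonoidAlgebra.single ν 1)) := by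
    rw [← sub_eq_zero]
    refine eq_zero_of_forall_mem_map_torsionIdeal e (T ⊗[R] T) _ fun n hn => ?_
    obtain ⟨a, ha⟩ := hfin n hn
    have hmem : ∀ (f : T →ₐ[R] T ⊗[R] T),
        bc f A (e.symm (MonoidAlgebra.single ν 1) - (1 : T) ⊗ₜ[R] a) ∈
          (torsionIdeal R A n).map
            (Algebra.TensorProduct.includeRight : A →ₐ[R] (T ⊗[R] T) ⊗[R] A) := by
      intro f
      have hle : (torsionIdeal R A n).map
          (Algebra.TensorProduct.includeRight : A →ₐ[R] T ⊗[R] A) ≤
          ((torsionIdeal R A n).map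
            (Algebra.TensorProduct.includeRight : A →ₐ[R] (T ⊗[R] T) ⊗[R] A)).comap
              (bc f A) := by
        rw [Ideal.map_le_iff_le_comap]
        intro c hc
        rw [Ideal.mem_comap, Ideal.mem_comap]
        show bc f A ((1 : T) ⊗ₜ[R] c) ∈ _
        rw [bc_tmul, map_one]
        exact Ideal.mem_map_of_mem _ hc
      exact hle ha
    have h1 : bc (Algebra.TensorProduct.includeLeft : T →ₐ[R] T ⊗[R] T) A
          (e.symm (MonoidAlgebra.single ν 1)) -
        bc (Algebra.TensorProduct.includeRight : T →ₐ[R] T ⊗[R] T) A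
          (e.symm (MonoidAlgebra.single ν 1)) =
        bc (Algebra.TensorProduct.includeLeft : T →ₐ[R] T ⊗[R] T) A
          (e.symm (MonoidAlgebra.single ν 1) - (1 : T) ⊗ₜ[R] a) -
        bc (Algebra.TensorProduct.includeRight : T →ₐ[R] T ⊗[R] T) A
          (e.symm (MonoidAlgebra.single ν 1) - (1 : T) ⊗ₜ[R] a) := by
      rw [map_sub, map_sub, bc_tmul, bc_tmul, map_one, map_one]
      abel
    rw [h1]
    exact sub_mem (hmem _) (hmem _)
  obtain ⟨g, hg⟩ := exists_one_tmul_of_rTensor_eq R T A (e.symm (MonoidAlgebra.single ν 1)) (by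
    rw [← bc_eq_rTensor, ← bc_eq_rTensor]
    exact hd)
  have hgl : IsGroupLikeElem R g := isGroupLikeElem_of_one_tmul T (by rw [hg]; exact ha')
  refine ⟨g, hgl, ?_⟩
  have hinj : Function.Injective
      (bc (IsScalarTower.toAlgHom R (ResidueField R) (ResidueField T)) A) := by
    have h1 : Function.Injective (LinearMap.rTensor A
        (IsScalarTower.toAlgHom R (ResidueField R) (ResidueField T)).toLinearMap) :=
      Module.Flat.rTensor_preserves_injective_linearMap _
        (fun a b hab => (algebraMap (ResidueField R) (ResidueField T)).injective hab)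
    intro z z' hzz
    apply h1
    rw [← bc_eq_rTensor, ← bc_eq_rTensor, hzz]
  apply hinj
  rw [← hρa, ← hg, bc_tmul, bc_tmul, map_one, map_one]

/-- the main step, with a given local chart -/
theorem isDiag_of_chart [Group.FG N] (hft : Algebra.FiniteType R A) (h : IsMultType R A)
    (e : T ⊗[R] A ≃ₐc[T] MonoidAlgebra T N)
    (h0 : IsDiag (ResidueField R) (ResidueField R ⊗[R] A)) : IsDiag R A := by
  classical
  obtain ⟨M, _, ⟨e₀⟩⟩ := h0
  have hex : ∀ m : M, ∃ g : A, IsGroupLikeElem R g ∧
      (1 : ResidueField R) ⊗ₜ[R] g = e₀.symm (MonoidAlgebra.single m 1) := fun m =>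
    exists_groupLike_lift R A T hft h e _
      ((MonoidAlgebra.isGroupLikeElem_single_one m).map e₀.symm)
  choose g hg hgχ using hex
  have huniq : ∀ a a' : A, IsGroupLikeElem R a → IsGroupLikeElem R a' →
      (1 : ResidueField R) ⊗ₜ[R] a = (1 : ResidueField R) ⊗ₜ[R] a' → a = a' :=
    fun a a' ha ha' haa => groupLike_unique R A T e ha ha' haa
  let γ : M →* A :=
    { toFun := g
      map_one' := by
        apply huniq _ _ (hg 1) IsGroupLikeElem.one
        rw [hgχ, ← MonoidAlgebra.one_def, map_one, Algebra.TensorProduct.one_def]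
      map_mul' := fun m m' => by
        apply huniq _ _ (hg _) ((hg m).mul (hg m'))
        have e1 : (1 : ResidueField R) ⊗ₜ[R] (g m * g m') =
            ((1 : ResidueField R) ⊗ₜ[R] g m) * ((1 : ResidueField R) ⊗ₜ[R] g m') := by
          rw [Algebra.TensorProduct.tmul_mul_tmul, mul_one]
        rw [e1, hgχ, hgχ, hgχ, ← map_mul, MonoidAlgebra.single_mul_single, mul_one] }
  have hγ : ∀ m, IsGroupLikeElem R (γ m) := hg
  have hγχ : ∀ m, (1 : ResidueField R) ⊗ₜ[R] γ m = e₀.symm (MonoidAlgebra.single m 1) := hgχ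
  have hbij := bijective_trivHom' e₀ e (ResidueField T) γ hγ hγχ
  have hb2 : Function.Bijective (LinearMap.lTensor T
      ((liftBialg γ hγ : MonoidAlgebra R M →ₐc[R] A) : MonoidAlgebra R M →ₗ[R] A)) := by
    have h1 : ∀ y, LinearMap.lTensor T
        ((liftBialg γ hγ : MonoidAlgebra R M →ₐc[R] A) : MonoidAlgebra R M →ₗ[R] A) y =
        e.symm (trivHom e (liftBialg γ hγ) y) := by
      intro y
      rw [trivHom_apply, BialgEquiv.symm_apply_apply]
      induction y using TensorProduct.induction_on with
      | zero => simp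
      | tmul t c => rfl
      | add a b ha hb => rw [map_add, map_add, ha, hb]
    constructor
    · intro y y' hyy
      rw [h1, h1] at hyy
      exact hbij.1 (EquivLike.injective e.symm hyy)
    · intro z
      obtain ⟨y, hy⟩ := hbij.2 (e z)
      exact ⟨y, by rw [h1, hy, BialgEquiv.symm_apply_apply]⟩
  have hb3 := (Module.FaithfullyFlat.lTensor_bijective_iff_bijective R T _).mp hb2
  have hb4 : Function.Bijective (liftBialg γ hγ) := hb3
  exact ⟨M, inferInstance, ⟨(BialgEquiv.ofBijective (liftBialg γ hγ) hb4).symm⟩⟩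

end Lift

section Main

variable (R : Type u) [CommRing R] [HenselianLocalRing R] (A : Type u) [CommRing A]
  [HopfAlgebra R A]

/-- **SGA 3 X 4.x**: over a henselian local ring, a group of multiplicative type and of finite
type with diagonalisable closed fibre is diagonalisable -/
theorem isDiag_of_henselian (hft : Algebra.FiniteType R A) (h : IsMultType R A)
    (h0 : IsDiag (ResidueField R) (ResidueField R ⊗[R] A)) : IsDiag R A := by
  obtain ⟨T₀, _, _, hff, N, _, ⟨e₀'⟩⟩ := isMultTypeConst_of_isLocalRing h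
  haveI := hff
  obtain ⟨𝔮, h𝔮p, h𝔮⟩ :=
    Ideal.exists_isPrime_liesOver_of_faithfullyFlat (B := T₀) (maximalIdeal R)
  haveI := h𝔮p
  haveI : Module.Flat R (Localization.AtPrime 𝔮) := Module.Flat.trans R T₀ _
  haveI : IsLocalHom (algebraMap R (Localization.AtPrime 𝔮)) := by
    constructor
    intro r hr
    rw [IsScalarTower.algebraMap_apply R T₀ (Localization.AtPrime 𝔮)] at hr
    have h1 : algebraMap R T₀ r ∉ 𝔮 :=
      (IsLocalization.AtPrime.isUnit_to_map_iff (Localization.AtPrime 𝔮) 𝔮 _).mp hr
    by_contra hnu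
    have h2 : r ∈ maximalIdeal R := (IsLocalRing.mem_maximalIdeal r).mpr hnu
    rw [h𝔮.over] at h2
    exact h1 h2
  haveI : Module.FaithfullyFlat R (Localization.AtPrime 𝔮) :=
    Module.FaithfullyFlat.of_flat_of_isLocalHom
  let e : Localization.AtPrime 𝔮 ⊗[R] A ≃ₐc[Localization.AtPrime 𝔮]
      MonoidAlgebra (Localization.AtPrime 𝔮) N :=
    (Groth.Agent.H9.MT.cancelBC R T₀ (Localization.AtPrime 𝔮) A).symm.trans
      ((Groth.Agent.H9.MT.bcEquiv (Localization.AtPrime 𝔮) e₀').trans
        (Groth.Agent.H9.MT.monAlgBC T₀ (Localization.AtPrime 𝔮) N))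
  haveI : Group.FG N := by
    haveI : Algebra.FiniteType (Localization.AtPrime 𝔮) (Localization.AtPrime 𝔮 ⊗[R] A) :=
      inferInstance
    have hftM : Algebra.FiniteType (Localization.AtPrime 𝔮)
        (MonoidAlgebra (Localization.AtPrime 𝔮) N) :=
      Algebra.FiniteType.equiv inferInstance
        (e : Localization.AtPrime 𝔮 ⊗[R] A ≃ₐ[Localization.AtPrime 𝔮]
          MonoidAlgebra (Localization.AtPrime 𝔮) N)
    exact MonoidAlgebra.finiteType_iff_group_fg.1 hftM
  exact isDiag_of_chart R A (Localization.AtPrime 𝔮) hft h e h0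

end Main

end Groth.Agent.H9.HDG
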