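import Mathlib
import Groth.Prelude.Def_SGA3b
import Groth.Agent.Lib.Helper9.Misc.HDG2
import Groth.Agent.Lib.Helper9.MT.Isotrivial
import Groth.Agent.Lib.Helper8.Hens.FiniteEtaleLift
import Groth.Agent.Lib.Helper8.Hens.HenselianFinite

/-!
# Groups of multiplicative type and of finite type over a henselian local ring are isotrivial
(SGA 3 X 4.6) (helper9)
-/

set_option autoImplicit false
set_option linter.unusedSectionVars false
set_option linter.unusedVariables false
set_option linter.style.haveILetI false

namespace Groth.Agent.H9.HDG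

open TensorProduct SGA3b IsLocalRing Groth.Agent.H9.MultT Groth.Agent.H9.GLL

universe u

section LocalFinite

theorem isLocalRing_of_tensor_field (R : Type u) [CommRing R] [IsLocalRing R] (S : Type u)
    [CommRing S] [Algebra R S] [Module.Finite R S] (k' : Type u) [Field k']
    (eS : ResidueField R ⊗[R] S ≃+* k') : IsLocalRing S := by
  let q := Algebra.TensorProduct.quotIdealMapEquivQuotTensor S (maximalIdeal R)
  have hfield : IsField (S ⧸ (maximalIdeal R).map (algebraMap R S)) :=
    MulEquiv.isField (Field.toIsField k') (q.toRingEquiv.trans eS).toMulEquiv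
  have hmax : ((maximalIdeal R).map (algebraMap R S)).IsMaximal :=
    Ideal.Quotient.maximal_of_isField _ hfield
  haveI : Algebra.IsIntegral R S := inferInstance
  apply IsLocalRing.of_unique_max_ideal
  refine ⟨_, hmax, fun M hM => ?_⟩
  haveI := hM
  have h1 : (maximalIdeal R).map (algebraMap R S) ≤ M := by
    rw [Ideal.map_le_iff_le_comap, Groth.Agent.H8.Hens.comap_eq_maximalIdeal_of_isMaximal M]
  exact (hmax.eq_of_le hM.ne_top h1).symm

theorem isLocalHom_of_finite (R : Type u) [CommRing R] [IsLocalRing R] (S : Type u)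
    [CommRing S] [IsLocalRing S] [Algebra R S] [Module.Finite R S] :
    IsLocalHom (algebraMap R S) := by
  haveI : Algebra.IsIntegral R S := inferInstance
  constructor
  intro r hr
  by_contra hnu
  have h2 : r ∈ maximalIdeal R := (IsLocalRing.mem_maximalIdeal r).mpr hnu
  rw [← Groth.Agent.H8.Hens.comap_eq_maximalIdeal_of_isMaximal (maximalIdeal S)] at h2
  exact (IsLocalRing.mem_maximalIdeal _).mp h2 hr

end LocalFinite

section Main

variable (R : Type u) [CommRing R] [HenselianLocalRing R] (A : Type u) [CommRing A]
  [HopfAlgebra R A]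

/-- **SGA 3 X 4.6** -/
theorem isIsotrivial_of_henselian (hft : Algebra.FiniteType R A) (h : IsMultType R A) :
    IsIsotrivial R A := by
  have hconst : IsMultTypeConst R A := isMultTypeConst_of_isLocalRing h
  have hk : IsMultType (ResidueField R) (ResidueField R ⊗[R] A) :=
    Groth.Agent.H9.MT.isMultType_of_isMultTypeConst
      (Groth.Agent.H9.MT.isMultTypeConst_baseChange _ hconst)
  obtain ⟨k', _, _, hfin, hsep, M, _, hMfg, ⟨e'⟩⟩ := Groth.Agent.H9.MT.exists_isDiagFT hk
  haveI := hfin
  haveI := hsep
  haveI : Algebra.FormallyEtale (ResidueField R) k' := Algebra.FormallyEtale.of_isSeparable _ _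
  haveI : Algebra.FinitePresentation (ResidueField R) k' :=
    Algebra.FinitePresentation.of_finiteType.mp inferInstance
  haveI : Algebra.Etale (ResidueField R) k' := {}
  obtain ⟨S, _, _, hSfin, hSet, ⟨eS⟩⟩ := Groth.Agent.H8.Hens.exists_finite_etale_lift R k'
  haveI := hSfin
  haveI := hSet
  haveI : IsLocalRing S := isLocalRing_of_tensor_field R S k' eS.toRingEquiv
  haveI : HenselianLocalRing S := Groth.Agent.H8.Hens.henselianLocalRing_of_finite R S
  haveI : IsLocalHom (algebraMap R S) := isLocalHom_of_finite R S
  haveI : Module.Flat R S := inferInstance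
  haveI : Module.FaithfullyFlat R S := Module.FaithfullyFlat.of_flat_of_isLocalHom
  let β : ResidueField R ⊗[R] S →ₐ[ResidueField R] ResidueField S :=
    Algebra.TensorProduct.lift (Algebra.ofId (ResidueField R) (ResidueField S))
      (IsScalarTower.toAlgHom R S (ResidueField S)) (fun _ _ => Commute.all _ _)
  let τ : k' →ₐ[ResidueField R] ResidueField S :=
    β.comp (eS.symm : k' →ₐ[ResidueField R] ResidueField R ⊗[R] S)
  letI : Algebra k' (ResidueField S) := τ.toRingHom.toAlgebra
  haveI : IsScalarTower (ResidueField R) k' (ResidueField S) :=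
    IsScalarTower.of_algebraMap_eq (fun x => (τ.commutes x).symm)
  have h0 : IsDiag (ResidueField S) (ResidueField S ⊗[S] (S ⊗[R] A)) := by
    refine ⟨M, inferInstance, ⟨?_⟩⟩
    exact (Groth.Agent.H9.MT.cancelBC R S (ResidueField S) A).trans
      ((Groth.Agent.H9.MT.cancelBC R (ResidueField R) (ResidueField S) A).symm.trans
        ((Groth.Agent.H9.MT.cancelBC (ResidueField R) k' (ResidueField S)
            (ResidueField R ⊗[R] A)).symm.trans
          ((Groth.Agent.H9.MT.bcEquiv (ResidueField S) e').trans
            (Groth.Agent.H9.MT.monAlgBC k' (ResidueField S) M))))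
  have hS : IsMultType S (S ⊗[R] A) :=
    Groth.Agent.H9.MT.isMultType_of_isMultTypeConst
      (Groth.Agent.H9.MT.isMultTypeConst_baseChange _ hconst)
  have hdiag : IsDiag S (S ⊗[R] A) := isDiag_of_henselian S (S ⊗[R] A) inferInstance hS h0
  exact ⟨S, inferInstance, inferInstance, inferInstance, inferInstance, inferInstance, hdiag⟩

end Main

end Groth.Agent.H9.HDG
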