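import Mathlib
import Groth.Prelude.Def_SGA3b
import Groth.Agent.H4.IndEtCrit
import Groth.Agent.H4.IndEtTrans
import Groth.Agent.H4.WEt
import Groth.Agent.Lib.Helper9.MT.BaseChange

/-!
# Étale stages of an ind-étale algebra: lifting and killing (helper9)

For an `R`-algebra `B` satisfying the elementwise ind-étale criterion `Crit R B`, we bundle the
étale `R`-algebras mapping to `B` ("stages") and prove that finitely many elements of `B ⊗ X` lift
to a stage, and that finitely many elements of `X` dying in `B ⊗ X` already die in `C ⊗ X` for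
a stage `C` (for `B` flat).
-/

set_option autoImplicit false
set_option linter.unusedSectionVars false
set_option linter.unusedVariables false
set_option linter.style.haveILetI false

namespace Groth.Agent.H9.HDG

open TensorProduct SGA3b Groth.Agent.H4.IndEtCrit

universe u

section Stage

variable (R : Type u) [CommRing R] (B : Type u) [CommRing B] [Algebra R B]

/-- an étale `R`-algebra mapping to `B` -/
structure Stage where
  /-- the ring -/
  C : Type u
  [cr : CommRing C]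
  [alg : Algebra R C]
  [et : Algebra.Etale R C]
  /-- the map to `B` -/
  g : C →ₐ[R] B

attribute [instance] Stage.cr Stage.alg Stage.et

variable {R B}

namespace Stage

/-- morphisms of stages -/
structure Hom (σ τ : Stage R B) where
  /-- the map -/
  h : σ.C →ₐ[R] τ.C
  comm : τ.g.comp h = σ.g

theorem Hom.apply {σ τ : Stage R B} (f : σ.Hom τ) (c : σ.C) : τ.g (f.h c) = σ.g c :=
  congrArg (fun φ => φ c) f.comm

variable (R B) in
/-- the base stage -/
noncomputable def base : Stage R B := ⟨R, Algebra.ofId R B⟩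

/-- the tensor product of two stages -/
noncomputable def tensor (σ τ : Stage R B) : Stage R B where
  C := σ.C ⊗[R] τ.C
  et := Algebra.Etale.comp R σ.C (σ.C ⊗[R] τ.C)
  g := Algebra.TensorProduct.productMap σ.g τ.g

/-- left inclusion -/
noncomputable def inl (σ τ : Stage R B) : σ.Hom (σ.tensor τ) where
  h := (Algebra.TensorProduct.includeLeft : σ.C →ₐ[R] σ.C ⊗[R] τ.C)
  comm := Algebra.TensorProduct.productMap_left σ.g τ.g

/-- right inclusion -/
noncomputable def inr (σ τ : Stage R B) : τ.Hom (σ.tensor τ) where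
  h := (Algebra.TensorProduct.includeRight : τ.C →ₐ[R] σ.C ⊗[R] τ.C)
  comm := Algebra.TensorProduct.productMap_right σ.g τ.g

/-- `B` is an algebra over every stage -/
noncomputable instance algB (σ : Stage R B) : Algebra σ.C B := σ.g.toRingHom.toAlgebra

instance tower (σ : Stage R B) : IsScalarTower R σ.C B :=
  IsScalarTower.of_algebraMap_eq (fun r => (σ.g.commutes r).symm)

theorem algebraMap_eq (σ : Stage R B) (c : σ.C) : algebraMap σ.C B c = σ.g c := rfl

instance flat (σ : Stage R B) [Module.Flat R B] : Module.Flat σ.C B :=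
  Groth.Agent.H4.WEt.main (A := R) (B := σ.C) (N := B) (Algebra.WeaklyEtale.flat_lmul' R σ.C)

theorem crit (σ : Stage R B) (hc : Crit R B) : Crit σ.C B :=
  Groth.Agent.H4.IndEtTrans.Crit.of_etale_left hc σ.C

/-- a stage over a stage is a stage -/
noncomputable def comp (σ : Stage R B) (τ : Stage σ.C B) : Stage R B :=
  letI : Algebra R τ.C := Algebra.compHom τ.C (algebraMap R σ.C)
  haveI : IsScalarTower R σ.C τ.C := IsScalarTower.of_algebraMap_eq (fun _ => rfl)
  { C := τ.C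
    alg := Algebra.compHom τ.C (algebraMap R σ.C)
    et := Algebra.Etale.comp R σ.C τ.C
    g := τ.g.restrictScalars R }

end Stage

/-- diagonalisability over a stage of a stage gives diagonalisability over a stage -/
theorem goal_of_stage {A : Type u} [CommRing A] [HopfAlgebra R A] (σ : Stage R B)
    (h : ∃ τ : Stage σ.C B, IsDiag τ.C (τ.C ⊗[σ.C] (σ.C ⊗[R] A))) :
    ∃ τ : Stage R B, IsDiag τ.C (τ.C ⊗[R] A) := by
  obtain ⟨τ, M, _, ⟨e⟩⟩ := h
  letI : Algebra R τ.C := Algebra.compHom τ.C (algebraMap R σ.C)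
  haveI : IsScalarTower R σ.C τ.C := IsScalarTower.of_algebraMap_eq (fun _ => rfl)
  have e' : τ.C ⊗[R] A ≃ₐc[τ.C] MonoidAlgebra τ.C M :=
    (Groth.Agent.H9.MT.cancelBC R σ.C τ.C A).symm.trans e
  refine ⟨σ.comp τ, ?_⟩
  show IsDiag τ.C (τ.C ⊗[R] A)
  exact ⟨M, inferInstance, ⟨e'⟩⟩

theorem exists_stage_forall {α : Type*} (P : Stage R B → α → Prop)
    (hmono : ∀ (σ τ : Stage R B) (_ : σ.Hom τ) (a : α), P σ a → P τ a)
    (s : Finset α) (h : ∀ a ∈ s, ∃ σ, P σ a) : ∃ σ, ∀ a ∈ s, P σ a := by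
  classical
  induction s using Finset.induction_on with
  | empty => exact ⟨Stage.base R B, by simp⟩
  | insert a s ha ih =>
    obtain ⟨σ₁, h₁⟩ := ih (fun b hb => h b (Finset.mem_insert_of_mem hb))
    obtain ⟨σ₂, h₂⟩ := h a (Finset.mem_insert_self a s)
    refine ⟨σ₁.tensor σ₂, fun b hb => ?_⟩
    rcases Finset.mem_insert.mp hb with rfl | hb
    · exact hmono _ _ (σ₁.inr σ₂) _ h₂
    · exact hmono _ _ (σ₁.inl σ₂) _ (h₁ b hb)

theorem lift_elems (hc : Crit R B) (s : Finset B) :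
    ∃ σ : Stage R B, ∀ b ∈ s, b ∈ Set.range σ.g := by
  refine exists_stage_forall (fun σ b => b ∈ Set.range σ.g) ?_ s ?_
  · rintro σ τ f b ⟨c, rfl⟩
    exact ⟨f.h c, f.apply c⟩
  · intro b _
    obtain ⟨C, _, _, _, g, c, hc⟩ := hc.lift b
    exact ⟨⟨C, g⟩, c, hc⟩

theorem range_rTensor_mono {σ τ : Stage R B} (f : σ.Hom τ) (X : Type*) [AddCommGroup X]
    [Module R X] :
    LinearMap.range (LinearMap.rTensor X σ.g.toLinearMap) ≤
      LinearMap.range (LinearMap.rTensor X τ.g.toLinearMap) := by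
  rintro _ ⟨z, rfl⟩
  refine ⟨LinearMap.rTensor X f.h.toLinearMap z, ?_⟩
  have h1 : τ.g.toLinearMap ∘ₗ f.h.toLinearMap = σ.g.toLinearMap := by
    rw [← f.comm]
    rfl
  rw [← LinearMap.comp_apply, ← LinearMap.rTensor_comp, h1]

theorem lift_tensor_one (hc : Crit R B) (X : Type*) [AddCommGroup X] [Module R X]
    (z : B ⊗[R] X) :
    ∃ σ : Stage R B, z ∈ LinearMap.range (LinearMap.rTensor X σ.g.toLinearMap) := by
  induction z using TensorProduct.induction_on with
  | zero => exact ⟨Stage.base R B, Submodule.zero_mem _⟩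
  | tmul b x =>
    obtain ⟨C, _, _, _, g, c, hc⟩ := hc.lift b
    refine ⟨⟨C, g⟩, c ⊗ₜ x, ?_⟩
    show LinearMap.rTensor X g.toLinearMap (c ⊗ₜ x) = b ⊗ₜ x
    rw [LinearMap.rTensor_tmul, AlgHom.toLinearMap_apply, hc]
  | add z₁ z₂ h₁ h₂ =>
    obtain ⟨σ₁, h₁⟩ := h₁
    obtain ⟨σ₂, h₂⟩ := h₂
    exact ⟨σ₁.tensor σ₂, Submodule.add_mem _ (range_rTensor_mono (σ₁.inl σ₂) X h₁)
      (range_rTensor_mono (σ₁.inr σ₂) X h₂)⟩

theorem lift_tensors (hc : Crit R B) (X : Type*) [AddCommGroup X] [Module R X]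
    (s : Finset (B ⊗[R] X)) :
    ∃ σ : Stage R B, ∀ z ∈ s, z ∈ LinearMap.range (LinearMap.rTensor X σ.g.toLinearMap) :=
  exists_stage_forall (fun σ z => z ∈ LinearMap.range (LinearMap.rTensor X σ.g.toLinearMap))
    (fun σ τ f z hz => range_rTensor_mono f X hz) s (fun z _ => lift_tensor_one hc X z)

theorem one_tmul_mono {σ τ : Stage R B} (f : σ.Hom τ) {X : Type*} [AddCommGroup X] [Module R X]
    {z : X} (h : (1 : σ.C) ⊗ₜ[R] z = 0) : (1 : τ.C) ⊗ₜ[R] z = 0 := by
  have := congrArg (LinearMap.rTensor X f.h.toLinearMap) h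
  rwa [LinearMap.rTensor_tmul, AlgHom.toLinearMap_apply, map_one, map_zero] at this

theorem algebraMap_mono {σ τ : Stage R B} (f : σ.Hom τ) {r : R} (h : algebraMap R σ.C r = 0) :
    algebraMap R τ.C r = 0 := by
  have := congrArg f.h h
  rwa [AlgHom.commutes, map_zero] at this

theorem kill_one (hc : Crit R B) [Module.Flat R B] (X : Type*) [AddCommGroup X] [Module R X]
    (z : X) (hz : (1 : B) ⊗ₜ[R] z = 0) : ∃ σ : Stage R B, (1 : σ.C) ⊗ₜ[R] z = 0 := by
  classical
  have h0 : ∑ i : Fin 1, (fun _ : Fin 1 => z) i ⊗ₜ[R] (fun _ : Fin 1 => (1 : B)) i =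
      (0 : X ⊗[R] B) := by
    rw [Fin.sum_univ_one]
    have := congrArg (TensorProduct.comm R B X) hz
    rwa [TensorProduct.comm_tmul, map_zero] at this
  have hinj : Function.Injective (LinearMap.rTensor B
      (Submodule.span R (Set.range (fun _ : Fin 1 => z))).subtype) :=
    Module.Flat.rTensor_preserves_injective_linearMap _ (Submodule.injective_subtype _)
  obtain ⟨k, a, y, h1, h2⟩ :=
    TensorProduct.vanishesTrivially_of_sum_tmul_eq_zero_of_rTensor_injective R hinj h0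
  have h1' : (1 : B) = ∑ j, a 0 j • y j := h1 0
  have h2' : ∀ j, a 0 j • z = 0 := fun j => by
    have := h2 j
    rwa [Fin.sum_univ_one] at this
  obtain ⟨σ, hσ⟩ := lift_elems hc (Finset.univ.image y)
  choose c hcy using fun j => hσ (y j) (Finset.mem_image_of_mem _ (Finset.mem_univ j))
  have hu : σ.g (∑ j, a 0 j • c j - 1) = 0 := by
    rw [map_sub, map_sum, map_one, sub_eq_zero, h1']
    exact Finset.sum_congr rfl (fun j _ => by rw [map_smul, hcy])
  obtain ⟨C', _, _, _, h, g', hg', hh⟩ := hc.kill σ.C σ.g _ hu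
  refine ⟨⟨C', g'⟩, ?_⟩
  show (1 : C') ⊗ₜ[R] z = 0
  have h1C : (1 : C') = ∑ j, a 0 j • h (c j) := by
    rw [map_sub, map_one, sub_eq_zero, map_sum] at hh
    rw [← hh]
    exact Finset.sum_congr rfl (fun j _ => map_smul _ _ _)
  rw [h1C, TensorProduct.sum_tmul]
  refine Finset.sum_eq_zero (fun j _ => ?_)
  rw [TensorProduct.smul_tmul, h2' j, TensorProduct.tmul_zero]

theorem kill_base (hc : Crit R B) [Module.Flat R B] (X : Type*) [AddCommGroup X] [Module R X]
    (s : Finset X) (h : ∀ z ∈ s, (1 : B) ⊗ₜ[R] z = 0) :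
    ∃ σ : Stage R B, ∀ z ∈ s, (1 : σ.C) ⊗ₜ[R] z = 0 :=
  exists_stage_forall (fun σ z => (1 : σ.C) ⊗ₜ[R] z = 0) (fun σ τ f z hz => one_tmul_mono f hz) s
    (fun z hz => kill_one hc X z (h z hz))

theorem kill_scalars (hc : Crit R B) (s : Finset R) (h : ∀ r ∈ s, algebraMap R B r = 0) :
    ∃ σ : Stage R B, ∀ r ∈ s, algebraMap R σ.C r = 0 := by
  refine exists_stage_forall (fun σ r => algebraMap R σ.C r = 0)
    (fun σ τ f r hr => algebraMap_mono f hr) s ?_
  intro r hr
  obtain ⟨C', _, _, _, h', g', hg', hh⟩ := hc.kill R (Algebra.ofId R B) r (h r hr)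
  refine ⟨⟨C', g'⟩, ?_⟩
  show algebraMap R C' r = 0
  have h1 := h'.commutes r
  rw [Algebra.algebraMap_self_apply] at h1
  rw [← h1]
  exact hh

end Stage

section Equiv

variable {R : Type u} [CommRing R] {B : Type u} [CommRing B] [Algebra R B]
  {A : Type u} [CommRing A] [HopfAlgebra R A] {M : Type u} [CommGroup M]

/-- the trivialisation over `B`, seen from a stage -/
noncomputable def stageEquiv (σ : Stage R B) (e : B ⊗[R] A ≃ₐc[B] MonoidAlgebra B M) :
    B ⊗[σ.C] (σ.C ⊗[R] A) ≃ₐc[B] MonoidAlgebra B M :=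
  (Groth.Agent.H9.MT.cancelBC R σ.C B A).trans e

theorem stageEquiv_tmul (σ : Stage R B) (e : B ⊗[R] A ≃ₐc[B] MonoidAlgebra B M) (c : σ.C)
    (a : A) : stageEquiv σ e ((1 : B) ⊗ₜ[σ.C] (c ⊗ₜ[R] a)) = e (σ.g c ⊗ₜ[R] a) := by
  show e (Groth.Agent.H9.MT.cancelBC R σ.C B A ((1 : B) ⊗ₜ[σ.C] (c ⊗ₜ[R] a))) = _
  rw [Groth.Agent.H9.MT.cancelBC_tmul, Algebra.smul_def, mul_one]
  rfl

theorem stageEquiv_one_tmul (σ : Stage R B) (e : B ⊗[R] A ≃ₐc[B] MonoidAlgebra B M)
    (w : σ.C ⊗[R] A) :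
    stageEquiv σ e ((1 : B) ⊗ₜ[σ.C] w) = e (LinearMap.rTensor A σ.g.toLinearMap w) := by
  induction w using TensorProduct.induction_on with
  | zero => simp
  | tmul c a => rw [stageEquiv_tmul, LinearMap.rTensor_tmul, AlgHom.toLinearMap_apply]
  | add x y hx hy => rw [TensorProduct.tmul_add, map_add, hx, hy, map_add, map_add]

end Equiv

end Groth.Agent.H9.HDG
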