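import Mathlib
import Groth.Prelude.Def_SGA3b
import Groth.Agent.Lib.Helper9.MT.BaseChange

/-!
# Finiteness lemmas for groups of multiplicative type (helper9)

* subgroups of finitely generated commutative groups are finitely generated;
* a section-like lemma for monoid homomorphisms;
* group algebras of finitely generated commutative groups are finitely presented;
* groups of multiplicative type and of finite type are of finite presentation;
* a group of multiplicative type becomes of constant type over any local algebra.
-/

set_option autoImplicit false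
set_option linter.unusedSectionVars false
set_option linter.unusedVariables false
set_option linter.style.haveILetI false

namespace Groth.Agent.H9.HDG

open TensorProduct SGA3b

universe u

section Groups

theorem subgroup_fg_of_fg {G : Type*} [CommGroup G] [Group.FG G] (K : Subgroup G) : K.FG := by
  rw [Subgroup.fg_iff_add_fg]
  haveI : Module.Finite ℤ (Additive G) := Module.Finite.iff_addGroup_fg.mpr inferInstance
  haveI : IsNoetherian ℤ (Additive G) := inferInstance
  have h := IsNoetherian.noetherian (AddSubgroup.toIntSubmodule K.toAddSubgroup)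
  rw [Submodule.fg_iff_addSubgroup_fg, AddSubgroup.toIntSubmodule_toAddSubgroup] at h
  exact h

theorem exists_monoidHom_of_ker_le {G M N G' : Type*} [Group G] [Monoid M] [Monoid N] [Monoid G']
    (θ : G →* N) (σ : M →* N) (ι : G →* G') (ha : ∀ m, ∃ y, θ y = σ m) (hk : θ.ker ≤ ι.ker) :
    ∃ γ : M →* G', ∀ m y, θ y = σ m → γ m = ι y := by
  choose c hc using ha
  have key : ∀ m y, θ y = σ m → ι y = ι (c m) := by
    intro m y hy
    have h1 : θ (y * (c m)⁻¹) = 1 := by
      rw [map_mul, hy, ← hc m, ← map_mul, mul_inv_cancel, map_one]
    have h2 : ι (y * (c m)⁻¹) = 1 := MonoidHom.mem_ker.mp (hk (MonoidHom.mem_ker.mpr h1))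
    calc ι y = ι (y * (c m)⁻¹ * c m) := by rw [inv_mul_cancel_right]
      _ = ι (c m) := by rw [map_mul, h2, one_mul]
  refine ⟨{ toFun := fun m => ι (c m)
            map_one' := (key 1 1 (by rw [map_one, map_one])).symm.trans (map_one ι)
            map_mul' := fun m m' => ?_ }, fun m y hy => (key m y hy).symm⟩
  rw [← map_mul]
  exact (key (m * m') (c m * c m') (by rw [map_mul, hc, hc, map_mul])).symm

end Groups

section FP

theorem finitePresentation_monoidAlgebra (R : Type u) [CommRing R] (M : Type u) [CommGroup M]
    [Group.FG M] : Algebra.FinitePresentation R (MonoidAlgebra R M) := by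
  haveI : Algebra.FiniteType ℤ (MonoidAlgebra ℤ M) :=
    MonoidAlgebra.finiteType_iff_group_fg.mpr inferInstance
  haveI : Algebra.FinitePresentation ℤ (MonoidAlgebra ℤ M) :=
    Algebra.FinitePresentation.of_finiteType.mp inferInstance
  exact Algebra.FinitePresentation.equiv (MonoidAlgebra.scalarTensorEquiv ℤ R)

theorem finitePresentation_of_subsingleton (R' X : Type u) [CommRing R'] [CommRing X]
    [Algebra R' X] [Subsingleton X] : Algebra.FinitePresentation R' X := by
  refine Algebra.FinitePresentation.of_surjective (f := Algebra.ofId R' X)
    (fun x => ⟨0, Subsingleton.elim _ _⟩) ?_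
  have h1 : RingHom.ker (Algebra.ofId R' X).toRingHom = ⊤ := by
    rw [Ideal.eq_top_iff_one, RingHom.mem_ker]
    exact Subsingleton.elim _ _
  rw [h1]
  exact ⟨{1}, by simp⟩

variable {R : Type u} [CommRing R] {A : Type u} [CommRing A] [HopfAlgebra R A]

attribute [local instance] Algebra.TensorProduct.rightAlgebra in
/-- a group of multiplicative type and of finite type is of finite presentation -/
theorem finitePresentation_of_isMultType (hft : Algebra.FiniteType R A) (h : IsMultType R A) :
    Algebra.FinitePresentation R A := by
  obtain ⟨s, hs, hloc⟩ := h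
  haveI := hft
  have key : ∀ f ∈ s, Algebra.FinitePresentation (Localization.Away f)
      (Localization.Away f ⊗[R] A) := by
    intro f hf
    obtain ⟨R', _, _, hff, M, _, ⟨e⟩⟩ := hloc f hf
    haveI := hff
    haveI : Algebra.FinitePresentation R'
        (R' ⊗[Localization.Away f] (Localization.Away f ⊗[R] A)) := by
      rcases subsingleton_or_nontrivial R' with hsub | hnt
      · haveI : Subsingleton (R' ⊗[Localization.Away f] (Localization.Away f ⊗[R] A)) :=
          Module.subsingleton R' _
        exact finitePresentation_of_subsingleton R'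
          (R' ⊗[Localization.Away f] (Localization.Away f ⊗[R] A))
      · haveI : Algebra.FiniteType R' (MonoidAlgebra R' M) :=
          Algebra.FiniteType.equiv inferInstance e.toAlgEquiv
        haveI : Group.FG M := (MonoidAlgebra.finiteType_iff_group_fg (R := R')).mp inferInstance
        haveI := finitePresentation_monoidAlgebra R' M
        exact Algebra.FinitePresentation.equiv e.symm.toAlgEquiv
    exact Algebra.FinitePresentation.of_finitePresentation_tensorProduct_of_faithfullyFlat R'
  rw [← RingHom.finitePresentation_algebraMap]
  refine RingHom.finitePresentation_isLocal.ofLocalizationSpan.ofIsLocalization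
    RingHom.finitePresentation_respectsIso (algebraMap R A) s hs fun r => ?_
  refine ⟨Localization.Away r.1, Localization.Away r.1 ⊗[R] A, inferInstance, inferInstance,
    inferInstance, inferInstance, inferInstance, inferInstance,
    algebraMap (Localization.Away r.1) (Localization.Away r.1 ⊗[R] A), ?_, ?_⟩
  · apply RingHom.ext
    intro x
    show algebraMap (Localization.Away r.1) (Localization.Away r.1 ⊗[R] A)
      (algebraMap R (Localization.Away r.1) x) = (1 : Localization.Away r.1) ⊗ₜ[R] algebraMap R A x
    rw [Algebra.TensorProduct.algebraMap_apply, Algebra.algebraMap_self_apply,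
      Algebra.algebraMap_eq_smul_one, Algebra.algebraMap_eq_smul_one (A := A),
      TensorProduct.smul_tmul]
  · rw [RingHom.finitePresentation_algebraMap]
    exact key r.1 r.2

/-- pushouts of rings, with the instances bundled -/
theorem exists_pushout (K S T : Type u) [CommRing K] [CommRing S] [CommRing T] [Algebra K S]
    [Algebra K T] [Module.FaithfullyFlat K T] :
    ∃ (P : Type u) (_ : CommRing P) (_ : Algebra S P) (_ : Algebra T P) (_ : Algebra K P)
      (_ : IsScalarTower K S P) (_ : IsScalarTower K T P), Module.FaithfullyFlat S P := by
  letI : Algebra T (S ⊗[K] T) := Algebra.TensorProduct.rightAlgebra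
  refine ⟨S ⊗[K] T, inferInstance, inferInstance, inferInstance, inferInstance, inferInstance,
    ?_, inferInstance⟩
  refine IsScalarTower.of_algebraMap_eq (fun x => ?_)
  rw [Algebra.TensorProduct.algebraMap_apply, Algebra.TensorProduct.right_algebraMap_apply,
    Algebra.algebraMap_eq_smul_one, Algebra.algebraMap_eq_smul_one (A := T),
    TensorProduct.smul_tmul]

/-- a group of multiplicative type is of constant type over every local algebra -/
theorem isMultTypeConst_of_isLocalRing_algebra (h : IsMultType R A) (S : Type u) [CommRing S]
    [IsLocalRing S] [Algebra R S] : IsMultTypeConst S (S ⊗[R] A) := by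
  obtain ⟨s, hs, hloc⟩ := h
  have hex : ∃ f ∈ s, IsUnit (algebraMap R S f) := by
    by_contra hcon0
    have hcon : ∀ f ∈ s, ¬ IsUnit (algebraMap R S f) := fun f hf hu => hcon0 ⟨f, hf, hu⟩
    have hle : Ideal.span s ≤ (IsLocalRing.maximalIdeal S).comap (algebraMap R S) := by
      rw [Ideal.span_le]
      intro f hf
      exact (IsLocalRing.mem_maximalIdeal _).mpr (hcon f hf)
    rw [hs] at hle
    have h1 : (1 : R) ∈ (IsLocalRing.maximalIdeal S).comap (algebraMap R S) :=
      hle Submodule.mem_top
    rw [Ideal.mem_comap, map_one] at h1
    exact (IsLocalRing.maximalIdeal.isMaximal S).ne_top ((Ideal.eq_top_iff_one _).mpr h1)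
  obtain ⟨f, hf, hu⟩ := hex
  obtain ⟨R', _, _, hff, hdiag⟩ := hloc f hf
  haveI := hff
  letI : Algebra (Localization.Away f) S := (IsLocalization.Away.lift f hu).toAlgebra
  haveI : IsScalarTower R (Localization.Away f) S := IsScalarTower.of_algebraMap_eq (fun r =>
    (IsLocalization.Away.lift_eq f hu r).symm)
  obtain ⟨P, _, _, _, _, _, _, hP⟩ := exists_pushout (Localization.Away f) S R'
  letI : Algebra R P := Algebra.compHom P (algebraMap R S)
  haveI : IsScalarTower R S P := IsScalarTower.of_algebraMap_eq (fun _ => rfl)
  haveI : IsScalarTower R (Localization.Away f) P := IsScalarTower.of_algebraMap_eq (fun r => by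
    rw [IsScalarTower.algebraMap_apply R S P, IsScalarTower.algebraMap_apply R (Localization.Away f) S,
      ← IsScalarTower.algebraMap_apply (Localization.Away f) S P])
  obtain ⟨M, _, ⟨e4⟩⟩ := Groth.Agent.H9.MT.isDiag_baseChange P hdiag
  refine ⟨P, inferInstance, inferInstance, hP, M, inferInstance, ⟨?_⟩⟩
  exact (Groth.Agent.H9.MT.cancelBC R S P A).trans
    ((Groth.Agent.H9.MT.cancelBC R (Localization.Away f) P A).symm.trans
      ((Groth.Agent.H9.MT.cancelBC (Localization.Away f) R' P
        (Localization.Away f ⊗[R] A)).symm.trans e4))

end FP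

end Groth.Agent.H9.HDG
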