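import Mathlib
import Groth.Prelude.Def_SGA3b
import Groth.Agent.Lib.Helper9.Misc.HDG4
import Groth.Agent.Lib.Helper9.Misc.HDG5
import Groth.Agent.Lib.Helper9.Misc.GLL3
import Groth.Agent.Lib.Helper9.MultT.DiagSub
import Groth.Agent.Lib.Helper9.MultT.Ann

/-!
# Spreading out a trivialisation from an ind-étale algebra to an étale stage (helper9)

Let `B` be a flat ind-étale `R`-algebra (`Crit R B`), `A` a finitely presented Hopf algebra over `R`
and `e : B ⊗ A ≃ B[M]` a trivialisation with `M` finitely generated. Then `C ⊗ A` is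
diagonalisable for some étale `R`-algebra `C` mapping to `B` (`goal_of_equiv`).
-/

set_option autoImplicit false
set_option linter.unusedSectionVars false
set_option linter.unusedVariables false
set_option linter.style.haveILetI false

namespace Groth.Agent.H9.HDG

open TensorProduct SGA3b Groth.Agent.H4.IndEtCrit Groth.Agent.H9.MultT

universe u

/-- base change of group algebras -/
noncomputable abbrev mr (R S M : Type u) [CommRing R] [CommRing S] [Algebra R S] [CommGroup M] :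
    MonoidAlgebra R M →ₐ[R] MonoidAlgebra S M :=
  MonoidAlgebra.mapAlgHom M (Algebra.ofId R S)

section Lift

variable {R : Type u} [CommRing R] {A : Type u} [CommRing A] [HopfAlgebra R A]
  {M : Type u} [CommGroup M]

theorem mr_comp (S T : Type u) [CommRing S] [CommRing T] [Algebra R S] [Algebra S T] [Algebra R T]
    [IsScalarTower R S T] (z : MonoidAlgebra R M) : mr S T M (mr R S M z) = mr R T M z := by
  apply MonoidAlgebra.coeff_injective
  ext m
  rw [MonoidAlgebra.coeff_mapAlgHom, MonoidAlgebra.coeff_mapAlgHom, MonoidAlgebra.coeff_mapAlgHom,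
    Algebra.ofId_apply, Algebra.ofId_apply, Algebra.ofId_apply, ← IsScalarTower.algebraMap_apply]

theorem exists_mr_eq_of_coeff_mem {C B : Type u} [CommRing C] [CommRing B] [Algebra C B]
    (f : MonoidAlgebra B M)
    (h : ∀ m ∈ f.coeff.support, ∃ c : C, algebraMap C B c = f.coeff m) :
    ∃ z : MonoidAlgebra C M, mr C B M z = f := by
  classical
  choose! c hc using h
  refine ⟨MonoidAlgebra.ofCoeff (Finsupp.onFinset f.coeff.support
    (fun m => if m ∈ f.coeff.support then c m else 0) (by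
      intro m hm
      by_contra h'
      rw [if_neg h'] at hm
      exact hm rfl)), ?_⟩
  apply MonoidAlgebra.coeff_injective
  ext m
  rw [MonoidAlgebra.coeff_mapAlgHom, MonoidAlgebra.coeff_ofCoeff, Finsupp.onFinset_apply,
    Algebra.ofId_apply]
  split_ifs with hm
  · exact hc m hm
  · rw [map_zero, Finsupp.notMem_support_iff.mp hm]

variable (R) in
/-- base change of a multiplicative family -/
noncomputable def bcγ (S : Type u) [CommRing S] [Algebra R S] (γ : M →* A) : M →* S ⊗[R] A :=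
  ((Algebra.TensorProduct.includeRight : A →ₐ[R] S ⊗[R] A) : A →* S ⊗[R] A).comp γ

theorem bcγ_apply (S : Type u) [CommRing S] [Algebra R S] (γ : M →* A) (m : M) :
    bcγ R S γ m = (1 : S) ⊗ₜ[R] γ m := rfl

theorem isGroupLikeElem_bcγ (S : Type u) [CommRing S] [Algebra R S] (γ : M →* A)
    (hγ : ∀ m, IsGroupLikeElem R (γ m)) (m : M) : IsGroupLikeElem S (bcγ R S γ m) :=
  isGroupLikeElem_one_tmul S (hγ m)

theorem liftBialg_bc (S : Type u) [CommRing S] [Algebra R S] (γ : M →* A)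
    (hγ : ∀ m, IsGroupLikeElem R (γ m)) (c : S) (z : MonoidAlgebra R M) :
    liftBialg (bcγ R S γ) (isGroupLikeElem_bcγ S γ hγ) (c • mr R S M z) =
      c ⊗ₜ[R] liftBialg γ hγ z := by
  have key : ∀ z : MonoidAlgebra R M,
      liftBialg (bcγ R S γ) (isGroupLikeElem_bcγ S γ hγ) (mr R S M z) =
        (1 : S) ⊗ₜ[R] liftBialg γ hγ z := by
    intro z
    induction z using MonoidAlgebra.induction_on with
    | of m =>
      rw [MonoidAlgebra.of_apply, MonoidAlgebra.mapAlgHom_single, map_one, liftBialg_single,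
        liftBialg_single, one_smul, one_smul, bcγ_apply]
    | add x y hx hy => rw [map_add, map_add, hx, hy, map_add, TensorProduct.tmul_add]
    | smul r x hx =>
      have h1 : mr R S M (r • x) = algebraMap R S r • mr R S M x := by
        rw [map_smul, algebraMap_smul]
      rw [h1, map_smul, hx, algebraMap_smul, map_smul, TensorProduct.tmul_smul]
  rw [map_smul, key, TensorProduct.smul_tmul', smul_eq_mul, mul_one]

variable {B : Type u} [CommRing B] [Algebra R B]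

theorem e_liftBialg (e : B ⊗[R] A ≃ₐc[B] MonoidAlgebra B M) (γ : M →* A)
    (hγ : ∀ m, IsGroupLikeElem R (γ m))
    (he : ∀ m, e ((1 : B) ⊗ₜ[R] γ m) = MonoidAlgebra.single m 1) (w : MonoidAlgebra B M) :
    e (liftBialg (bcγ R B γ) (isGroupLikeElem_bcγ B γ hγ) w) = w := by
  induction w using MonoidAlgebra.induction_on with
  | of m =>
    rw [MonoidAlgebra.of_apply, liftBialg_single, one_smul, bcγ_apply]
    exact he m
  | add x y hx hy => rw [map_add, map_add, hx, hy]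
  | smul b x hx => rw [map_smul, map_smul, hx]

theorem star_eq (e : B ⊗[R] A ≃ₐc[B] MonoidAlgebra B M) (γ : M →* A)
    (hγ : ∀ m, IsGroupLikeElem R (γ m))
    (he : ∀ m, e ((1 : B) ⊗ₜ[R] γ m) = MonoidAlgebra.single m 1) (z : MonoidAlgebra R M) :
    e ((1 : B) ⊗ₜ[R] liftBialg γ hγ z) = mr R B M z := by
  have h1 := liftBialg_bc B γ hγ 1 z
  rw [one_smul] at h1
  rw [← h1, e_liftBialg e γ hγ he]

/-- the monoid homomorphism `g ↦ e (1 ⊗ g)` on group-like elements -/
noncomputable def glHom (e : B ⊗[R] A ≃ₐc[B] MonoidAlgebra B M) :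
    GroupLike R A →* MonoidAlgebra B M where
  toFun y := e ((1 : B) ⊗ₜ[R] (y : A))
  map_one' := by
    rw [GroupLike.val_one, ← Algebra.TensorProduct.one_def, map_one]
  map_mul' y y' := by
    rw [GroupLike.val_mul, ← map_mul, Algebra.TensorProduct.tmul_mul_tmul, mul_one]

theorem glHom_apply (e : B ⊗[R] A ≃ₐc[B] MonoidAlgebra B M) (y : GroupLike R A) :
    glHom e y = e ((1 : B) ⊗ₜ[R] (y : A)) := rfl

end Lift

section Gen

variable {R : Type u} [CommRing R] {B : Type u} [CommRing B] [Algebra R B]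
  {A : Type u} [CommRing A] [HopfAlgebra R A] {M : Type u} [CommGroup M]

theorem hgen_aux (σ : Stage R B) (e : B ⊗[R] A ≃ₐc[B] MonoidAlgebra B M)
    (h : ∀ a : A, ∃ z : MonoidAlgebra σ.C M, mr σ.C B M z = e ((1 : B) ⊗ₜ[R] a)) :
    ∀ w : σ.C ⊗[R] A, ∃ z : MonoidAlgebra σ.C M,
      mr σ.C B M z = stageEquiv σ e ((1 : B) ⊗ₜ[σ.C] w) := by
  intro w
  induction w using TensorProduct.induction_on with
  | zero => exact ⟨0, by rw [map_zero, TensorProduct.tmul_zero, map_zero]⟩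
  | tmul c a =>
    obtain ⟨z, hz⟩ := h a
    refine ⟨c • z, ?_⟩
    rw [map_smul, hz, stageEquiv_tmul]
    have h1 : σ.g c ⊗ₜ[R] a = σ.g c • ((1 : B) ⊗ₜ[R] a) := by
      rw [TensorProduct.smul_tmul', smul_eq_mul, mul_one]
    rw [h1, map_smul, ← algebraMap_smul B c (e ((1 : B) ⊗ₜ[R] a))]
    rfl
  | add x y hx hy =>
    obtain ⟨x', hx'⟩ := hx
    obtain ⟨y', hy'⟩ := hy
    exact ⟨x' + y', by rw [map_add, hx', hy', TensorProduct.tmul_add, map_add]⟩

theorem hgen_stage (σ : Stage R B) (e : B ⊗[R] A ≃ₐc[B] MonoidAlgebra B M)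
    (hgen : ∀ a : A, ∃ z : MonoidAlgebra R M, mr R B M z = e ((1 : B) ⊗ₜ[R] a)) :
    ∀ w : σ.C ⊗[R] A, ∃ z : MonoidAlgebra σ.C M,
      mr σ.C B M z = stageEquiv σ e ((1 : B) ⊗ₜ[σ.C] w) := by
  refine hgen_aux σ e (fun a => ?_)
  obtain ⟨z, hz⟩ := hgen a
  exact ⟨mr R σ.C M z, by rw [mr_comp, hz]⟩

theorem hgen_of_generators (σ : Stage R B) (e : B ⊗[R] A ≃ₐc[B] MonoidAlgebra B M)
    (SA : Set A) (hSA : Algebra.adjoin R SA = ⊤)
    (h : ∀ a ∈ SA, ∃ z : MonoidAlgebra σ.C M, mr σ.C B M z = e ((1 : B) ⊗ₜ[R] a)) :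
    ∀ w : σ.C ⊗[R] A, ∃ z : MonoidAlgebra σ.C M,
      mr σ.C B M z = stageEquiv σ e ((1 : B) ⊗ₜ[σ.C] w) := by
  refine hgen_aux σ e (fun a => ?_)
  have ha : a ∈ Algebra.adjoin R SA := by
    rw [hSA]
    trivial
  induction ha using Algebra.adjoin_induction with
  | mem a ha => exact h a ha
  | algebraMap r =>
    refine ⟨algebraMap σ.C (MonoidAlgebra σ.C M) (algebraMap R σ.C r), ?_⟩
    have h1 : (1 : B) ⊗ₜ[R] algebraMap R A r = algebraMap B (B ⊗[R] A) (algebraMap R B r) := by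
      rw [Algebra.TensorProduct.algebraMap_apply, Algebra.algebraMap_self_apply,
        Algebra.algebraMap_eq_smul_one (A := A) r, Algebra.algebraMap_eq_smul_one (A := B) r,
        TensorProduct.smul_tmul]
    have h2 : e (algebraMap B (B ⊗[R] A) (algebraMap R B r)) =
        algebraMap B (MonoidAlgebra B M) (algebraMap R B r) := e.toAlgEquiv.commutes _
    rw [h1, h2, AlgHom.commutes, IsScalarTower.algebraMap_apply σ.C B (MonoidAlgebra B M),
      ← IsScalarTower.algebraMap_apply R σ.C B]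
  | add a b _ _ ha hb =>
    obtain ⟨x, hx⟩ := ha
    obtain ⟨y, hy⟩ := hb
    exact ⟨x + y, by rw [map_add, hx, hy, TensorProduct.tmul_add, map_add]⟩
  | mul a b _ _ ha hb =>
    obtain ⟨x, hx⟩ := ha
    obtain ⟨y, hy⟩ := hb
    exact ⟨x * y, by
      rw [map_mul, hx, hy, ← map_mul, Algebra.TensorProduct.tmul_mul_tmul, mul_one]⟩

end Gen

section Chain

variable {R : Type u} [CommRing R] {B : Type u} [CommRing B] [Algebra R B]
  {A : Type u} [CommRing A] [HopfAlgebra R A] {M : Type u} [CommGroup M]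

/-- last step: a surjective bialgebra map `R[M] → A` which becomes bijective over `B` becomes
bijective over a stage. -/
theorem goal_of_surjective (hc : Crit R B) [Algebra.FinitePresentation R A] [Group.FG M]
    (e : B ⊗[R] A ≃ₐc[B] MonoidAlgebra B M) (γ : M →* A) (hγ : ∀ m, IsGroupLikeElem R (γ m))
    (he : ∀ m, e ((1 : B) ⊗ₜ[R] γ m) = MonoidAlgebra.single m 1)
    (hsurj : Function.Surjective (liftBialg γ hγ)) :
    ∃ τ : Stage R B, IsDiag τ.C (τ.C ⊗[R] A) := by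
  classical
  haveI := finitePresentation_monoidAlgebra R M
  have hker : (RingHom.ker
      ((liftBialg γ hγ : MonoidAlgebra R M →ₐc[R] A) : MonoidAlgebra R M →ₐ[R] A).toRingHom).FG :=
    Algebra.FinitePresentation.ker_fG_of_surjective
      ((liftBialg γ hγ : MonoidAlgebra R M →ₐc[R] A) : MonoidAlgebra R M →ₐ[R] A) hsurj
  obtain ⟨SI, hSI⟩ := hker
  have hB : ∀ κ : MonoidAlgebra R M, liftBialg γ hγ κ = 0 → mr R B M κ = 0 := by
    intro κ hκ
    rw [← star_eq e γ hγ he κ, hκ, TensorProduct.tmul_zero, map_zero]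
  have hSIker : ∀ κ ∈ SI, liftBialg γ hγ κ = 0 := by
    intro κ hκ
    have h1 : κ ∈ RingHom.ker
        ((liftBialg γ hγ : MonoidAlgebra R M →ₐc[R] A) : MonoidAlgebra R M →ₐ[R] A).toRingHom := by
      rw [← hSI]
      exact Ideal.subset_span hκ
    exact h1
  obtain ⟨σ, hσ⟩ := kill_scalars hc
    (SI.biUnion (fun κ => κ.coeff.support.image (fun m => κ.coeff m))) (by
      intro r hr
      obtain ⟨κ, hκ, hr⟩ := Finset.mem_biUnion.mp hr
      obtain ⟨m, hm, rfl⟩ := Finset.mem_image.mp hr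
      have h2 := congrArg (fun w => w.coeff m) (hB κ (hSIker κ hκ))
      simp only [MonoidAlgebra.coeff_mapAlgHom, MonoidAlgebra.coeff_zero, Finsupp.coe_zero,
        Pi.zero_apply, Algebra.ofId_apply] at h2
      exact h2)
  have hσκ : ∀ κ ∈ SI, mr R σ.C M κ = 0 := by
    intro κ hκ
    apply MonoidAlgebra.coeff_injective
    ext m
    rw [MonoidAlgebra.coeff_mapAlgHom, MonoidAlgebra.coeff_zero, Finsupp.zero_apply,
      Algebra.ofId_apply]
    by_cases hm : m ∈ κ.coeff.support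
    · exact hσ _ (Finset.mem_biUnion.mpr ⟨κ, hκ, Finset.mem_image_of_mem _ hm⟩)
    · rw [Finsupp.notMem_support_iff.mp hm, map_zero]
  have hall : ∀ κ : MonoidAlgebra R M, liftBialg γ hγ κ = 0 → mr R σ.C M κ = 0 := by
    intro κ hκ
    have h1 : κ ∈ RingHom.ker
        ((liftBialg γ hγ : MonoidAlgebra R M →ₐc[R] A) : MonoidAlgebra R M →ₐ[R] A).toRingHom := hκ
    rw [← hSI] at h1
    have h2 : Ideal.span (SI : Set (MonoidAlgebra R M)) ≤ RingHom.ker (mr R σ.C M).toRingHom := by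
      rw [Ideal.span_le]
      intro κ' hκ'
      exact hσκ κ' hκ'
    exact h2 h1
  have hsurj' : Function.Surjective (liftBialg (bcγ R σ.C γ) (isGroupLikeElem_bcγ σ.C γ hγ)) := by
    intro w
    induction w using TensorProduct.induction_on with
    | zero => exact ⟨0, map_zero _⟩
    | tmul c a =>
      obtain ⟨z, rfl⟩ := hsurj a
      exact ⟨c • mr R σ.C M z, liftBialg_bc σ.C γ hγ c z⟩
    | add x y hx hy =>
      obtain ⟨x', rfl⟩ := hx
      obtain ⟨y', rfl⟩ := hy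
      exact ⟨x' + y', map_add _ _ _⟩
  have hlt : ∀ u : σ.C ⊗[R] MonoidAlgebra R M,
      liftBialg (bcγ R σ.C γ) (isGroupLikeElem_bcγ σ.C γ hγ)
        (Groth.Agent.H9.MT.monAlgBC R σ.C M u) =
      LinearMap.lTensor σ.C
        ((liftBialg γ hγ : MonoidAlgebra R M →ₐc[R] A) : MonoidAlgebra R M →ₐ[R] A).toLinearMap u := by
    intro u
    induction u using TensorProduct.induction_on with
    | zero => simp
    | tmul c z =>
      rw [Groth.Agent.H9.MT.monAlgBC_tmul, LinearMap.lTensor_tmul]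
      exact liftBialg_bc σ.C γ hγ c z
    | add x y hx hy => rw [map_add, map_add, hx, hy, map_add]
  have hzero : ∀ v : σ.C ⊗[R] LinearMap.ker
      ((liftBialg γ hγ : MonoidAlgebra R M →ₐc[R] A) : MonoidAlgebra R M →ₐ[R] A).toLinearMap,
      Groth.Agent.H9.MT.monAlgBC R σ.C M (LinearMap.lTensor σ.C (LinearMap.ker
        ((liftBialg γ hγ : MonoidAlgebra R M →ₐc[R] A) :
          MonoidAlgebra R M →ₐ[R] A).toLinearMap).subtype v) = 0 := by
    intro v
    induction v using TensorProduct.induction_on with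
    | zero => simp
    | tmul c κ =>
      rw [LinearMap.lTensor_tmul, Groth.Agent.H9.MT.monAlgBC_tmul, Submodule.subtype_apply]
      have h1 : mr R σ.C M κ.1 = 0 := hall κ.1 (LinearMap.mem_ker.mp κ.2)
      show c • mr R σ.C M κ.1 = 0
      rw [h1, smul_zero]
    | add x y hx hy => rw [map_add, map_add, hx, hy, add_zero]
  have hinj' : Function.Injective (liftBialg (bcγ R σ.C γ) (isGroupLikeElem_bcγ σ.C γ hγ)) := by
    rw [injective_iff_map_eq_zero]
    intro w hw
    obtain ⟨u, rfl⟩ : ∃ u, Groth.Agent.H9.MT.monAlgBC R σ.C M u = w :=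
      ⟨(Groth.Agent.H9.MT.monAlgBC R σ.C M).symm w,
        (Groth.Agent.H9.MT.monAlgBC R σ.C M).apply_symm_apply w⟩
    rw [hlt] at hw
    have hex := Module.Flat.lTensor_exact σ.C (LinearMap.exact_subtype_ker_map
      ((liftBialg γ hγ : MonoidAlgebra R M →ₐc[R] A) : MonoidAlgebra R M →ₐ[R] A).toLinearMap)
    obtain ⟨v, rfl⟩ := (hex u).mp hw
    exact hzero v
  exact ⟨σ, M, inferInstance, ⟨(BialgEquiv.ofBijective
    (liftBialg (bcγ R σ.C γ) (isGroupLikeElem_bcγ σ.C γ hγ)) ⟨hinj', hsurj'⟩).symm⟩⟩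

/-- third step: a bialgebra map `R[M] → A` trivialised by `e` over `B`. -/
theorem goal_of_hom (hc : Crit R B) [Module.Flat R B] [Algebra.FinitePresentation R A]
    [Group.FG M] (e : B ⊗[R] A ≃ₐc[B] MonoidAlgebra B M)
    (hgen : ∀ a : A, ∃ z : MonoidAlgebra R M, mr R B M z = e ((1 : B) ⊗ₜ[R] a))
    (γ : M →* A) (hγ : ∀ m, IsGroupLikeElem R (γ m))
    (he : ∀ m, e ((1 : B) ⊗ₜ[R] γ m) = MonoidAlgebra.single m 1) :
    ∃ τ : Stage R B, IsDiag τ.C (τ.C ⊗[R] A) := by
  classical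
  obtain ⟨SA, hSA⟩ := (Algebra.FiniteType.out : (⊤ : Subalgebra R A).FG)
  choose z hz using hgen
  have hB : ∀ a, (1 : B) ⊗ₜ[R] (liftBialg γ hγ (z a) - a) = 0 := by
    intro a
    refine EquivLike.injective e ?_
    rw [TensorProduct.tmul_sub, map_sub, star_eq e γ hγ he, hz, sub_self, map_zero]
  obtain ⟨σ, hσ⟩ := kill_base hc A (SA.image (fun a => liftBialg γ hγ (z a) - a)) (by
    intro x hx
    obtain ⟨a, -, rfl⟩ := Finset.mem_image.mp hx
    exact hB a)
  have hσ' : ∀ a ∈ SA, (1 : σ.C) ⊗ₜ[R] liftBialg γ hγ (z a) = (1 : σ.C) ⊗ₜ[R] a := by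
    intro a ha
    have h1 := hσ _ (Finset.mem_image_of_mem _ ha)
    rwa [TensorProduct.tmul_sub, sub_eq_zero] at h1
  refine goal_of_stage σ ?_
  refine goal_of_surjective (σ.crit hc) (stageEquiv σ e) (bcγ R σ.C γ)
    (isGroupLikeElem_bcγ σ.C γ hγ) ?_ ?_
  · intro m
    rw [bcγ_apply, stageEquiv_tmul, map_one]
    exact he m
  · have hmem : ∀ a : A, (1 : σ.C) ⊗ₜ[R] a ∈
        Set.range (liftBialg (bcγ R σ.C γ) (isGroupLikeElem_bcγ σ.C γ hγ)) := by
      intro a
      have ha : a ∈ Algebra.adjoin R (SA : Set A) := by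
        rw [hSA]
        trivial
      induction ha using Algebra.adjoin_induction with
      | mem a ha =>
        refine ⟨mr R σ.C M (z a), ?_⟩
        have h1 := liftBialg_bc σ.C γ hγ 1 (z a)
        rw [one_smul] at h1
        rw [h1, hσ' a ha]
      | algebraMap r =>
        refine ⟨algebraMap σ.C (MonoidAlgebra σ.C M) (algebraMap R σ.C r), ?_⟩
        have h1 : liftBialg (bcγ R σ.C γ) (isGroupLikeElem_bcγ σ.C γ hγ)
            (algebraMap σ.C (MonoidAlgebra σ.C M) (algebraMap R σ.C r)) =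
            algebraMap σ.C (σ.C ⊗[R] A) (algebraMap R σ.C r) :=
          ((liftBialg (bcγ R σ.C γ) (isGroupLikeElem_bcγ σ.C γ hγ) :
            MonoidAlgebra σ.C M →ₐc[σ.C] σ.C ⊗[R] A) :
            MonoidAlgebra σ.C M →ₐ[σ.C] σ.C ⊗[R] A).commutes _
        rw [h1, Algebra.TensorProduct.algebraMap_apply, Algebra.algebraMap_self_apply,
          Algebra.algebraMap_eq_smul_one (A := A) r, Algebra.algebraMap_eq_smul_one (A := σ.C) r,
          TensorProduct.smul_tmul]
      | add a b _ _ ha hb =>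
        obtain ⟨x, hx⟩ := ha
        obtain ⟨y, hy⟩ := hb
        exact ⟨x + y, by rw [map_add, hx, hy, TensorProduct.tmul_add]⟩
      | mul a b _ _ ha hb =>
        obtain ⟨x, hx⟩ := ha
        obtain ⟨y, hy⟩ := hb
        exact ⟨x * y, by rw [map_mul, hx, hy, Algebra.TensorProduct.tmul_mul_tmul, mul_one]⟩
    intro w
    induction w using TensorProduct.induction_on with
    | zero => exact ⟨0, map_zero _⟩
    | tmul c a =>
      obtain ⟨x, hx⟩ := hmem a
      exact ⟨c • x, by rw [map_smul, hx, TensorProduct.smul_tmul', smul_eq_mul, mul_one]⟩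
    | add x y hx hy =>
      obtain ⟨x', rfl⟩ := hx
      obtain ⟨y', rfl⟩ := hy
      exact ⟨x' + y', map_add _ _ _⟩

/-- second step: a finitely generated group of group-like elements mapping onto `M`. -/
theorem goal_of_subgroup (hc : Crit R B) [Module.Flat R B] [Algebra.FinitePresentation R A]
    [Group.FG M] (e : B ⊗[R] A ≃ₐc[B] MonoidAlgebra B M)
    (hgen : ∀ a : A, ∃ z : MonoidAlgebra R M, mr R B M z = e ((1 : B) ⊗ₜ[R] a))
    (Γ : Subgroup (GroupLike R A)) (hΓ : Γ.FG)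
    (hsurj : ∀ m : M, ∃ y ∈ Γ, glHom e y = MonoidAlgebra.single m 1) :
    ∃ τ : Stage R B, IsDiag τ.C (τ.C ⊗[R] A) := by
  classical
  haveI : Group.FG ↥Γ := (Group.fg_iff_subgroup_fg Γ).mpr hΓ
  let θ : ↥Γ →* MonoidAlgebra B M := (glHom e).comp Γ.subtype
  have hθ : ∀ y : ↥Γ, θ y = e ((1 : B) ⊗ₜ[R] ((y : GroupLike R A) : A)) := fun y => rfl
  obtain ⟨SK, hSK⟩ := subgroup_fg_of_fg θ.ker
  have hB : ∀ κ ∈ SK, (1 : B) ⊗ₜ[R] (((κ : GroupLike R A) : A) - 1) = 0 := by
    intro κ hκ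
    have h0 : κ ∈ θ.ker := by
      rw [← hSK]
      exact Subgroup.subset_closure hκ
    have h1 : θ κ = 1 := MonoidHom.mem_ker.mp h0
    refine EquivLike.injective e ?_
    rw [TensorProduct.tmul_sub, map_sub, map_zero, sub_eq_zero, ← Algebra.TensorProduct.one_def,
      map_one, ← hθ]
    exact h1
  obtain ⟨σ, hσ⟩ := kill_base hc A (SK.image (fun κ : ↥Γ => ((κ : GroupLike R A) : A) - 1)) (by
    intro x hx
    obtain ⟨κ, hκ, rfl⟩ := Finset.mem_image.mp hx
    exact hB κ hκ)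
  let ι : ↥Γ →* σ.C ⊗[R] A :=
    ((Algebra.TensorProduct.includeRight : A →ₐ[R] σ.C ⊗[R] A) : A →* σ.C ⊗[R] A).comp
      ((GroupLike.valMonoidHom (R := R) (A := A)).comp Γ.subtype)
  have hι : ∀ y : ↥Γ, ι y = (1 : σ.C) ⊗ₜ[R] ((y : GroupLike R A) : A) := fun y => rfl
  have hk : θ.ker ≤ ι.ker := by
    rw [← hSK, Subgroup.closure_le]
    intro κ hκ
    rw [SetLike.mem_coe, MonoidHom.mem_ker, hι]
    have h1 := hσ _ (Finset.mem_image_of_mem _ hκ)
    rw [TensorProduct.tmul_sub, sub_eq_zero] at h1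
    rw [h1, Algebra.TensorProduct.one_def]
  obtain ⟨γ', hγ'⟩ := exists_monoidHom_of_ker_le θ (MonoidAlgebra.of B M) ι
    (fun m => by
      obtain ⟨y, hy, h⟩ := hsurj m
      exact ⟨⟨y, hy⟩, by rw [MonoidAlgebra.of_apply]; exact h⟩) hk
  have hspec : ∀ m, ∃ y : ↥Γ, θ y = MonoidAlgebra.single m 1 ∧
      γ' m = (1 : σ.C) ⊗ₜ[R] ((y : GroupLike R A) : A) := by
    intro m
    obtain ⟨y, hy, h⟩ := hsurj m
    exact ⟨⟨y, hy⟩, h, hγ' m ⟨y, hy⟩ (by rw [MonoidAlgebra.of_apply]; exact h)⟩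
  refine goal_of_stage σ ?_
  refine goal_of_hom (σ.crit hc) (stageEquiv σ e) (hgen_stage σ e hgen) γ' ?_ ?_
  · intro m
    obtain ⟨y, -, h⟩ := hspec m
    rw [h]
    exact isGroupLikeElem_one_tmul σ.C (y : GroupLike R A).isGroupLikeElem_val
  · intro m
    obtain ⟨y, h1, h⟩ := hspec m
    rw [h, stageEquiv_tmul, map_one, ← hθ]
    exact h1

/-- first step: lifts of generators of `M` to elements of `A`. -/
theorem goal_of_lifts (hc : Crit R B) [Module.Flat R B] [Algebra.FinitePresentation R A]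
    [Group.FG M] (e : B ⊗[R] A ≃ₐc[B] MonoidAlgebra B M)
    (hgen : ∀ a : A, ∃ z : MonoidAlgebra R M, mr R B M z = e ((1 : B) ⊗ₜ[R] a))
    (SM : Finset M) (hSM : Subgroup.closure (SM : Set M) = ⊤)
    (hy : ∀ m ∈ SM, ∃ y : A, e ((1 : B) ⊗ₜ[R] y) = MonoidAlgebra.single m 1) :
    ∃ τ : Stage R B, IsDiag τ.C (τ.C ⊗[R] A) := by
  classical
  choose! y hy using hy
  have hgl : ∀ m ∈ SM, IsGroupLikeElem B ((1 : B) ⊗ₜ[R] y m) := by
    intro m hm
    have h1 : (1 : B) ⊗ₜ[R] y m = e.symm (MonoidAlgebra.single m 1) := by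
      rw [← hy m hm, e.symm_apply_apply]
    rw [h1]
    exact (MonoidAlgebra.isGroupLikeElem_single_one (R := B) (A := B) m).map e.symm
  have hcounit : ∀ m ∈ SM, algebraMap R B (Coalgebra.counit (R := R) (y m) - 1) = 0 := by
    intro m hm
    have h1 := (hgl m hm).counit_eq_one
    rw [Groth.Agent.H9.GLL.counit_one_tmul] at h1
    rw [map_sub, h1, map_one, sub_self]
  have hdefect : ∀ m ∈ SM,
      (1 : B) ⊗ₜ[R] (Coalgebra.comul (R := R) (y m) - y m ⊗ₜ[R] y m) = 0 := by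
    intro m hm
    have h1 := (hgl m hm).comul_eq_tmul_self
    rw [← sub_eq_zero, Groth.Agent.H9.GLL.defect_one_tmul] at h1
    exact (TensorProduct.AlgebraTensorModule.distribBaseChange R B A A).injective
      (h1.trans (map_zero _).symm)
  obtain ⟨σ₁, h₁⟩ := kill_scalars hc
    (SM.image (fun m => Coalgebra.counit (R := R) (y m) - 1)) (by
      intro r hr
      obtain ⟨m, hm, rfl⟩ := Finset.mem_image.mp hr
      exact hcounit m hm)
  obtain ⟨σ₂, h₂⟩ := kill_base hc (A ⊗[R] A)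
    (SM.image (fun m => Coalgebra.comul (R := R) (y m) - y m ⊗ₜ[R] y m)) (by
      intro x hx
      obtain ⟨m, hm, rfl⟩ := Finset.mem_image.mp hx
      exact hdefect m hm)
  have hgl' : ∀ m ∈ SM,
      IsGroupLikeElem (σ₁.tensor σ₂).C ((1 : (σ₁.tensor σ₂).C) ⊗ₜ[R] y m) := by
    intro m hm
    have e1 := algebraMap_mono (σ₁.inl σ₂) (h₁ _ (Finset.mem_image_of_mem _ hm))
    have e2 := one_tmul_mono (σ₁.inr σ₂) (h₂ _ (Finset.mem_image_of_mem _ hm))
    rw [map_sub, map_one, sub_eq_zero] at e1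
    exact
      { counit_eq_one := by rw [Groth.Agent.H9.GLL.counit_one_tmul, e1]
        comul_eq_tmul_self := by
          rw [← sub_eq_zero, Groth.Agent.H9.GLL.defect_one_tmul, e2, map_zero] }
  let gl : ∀ m : SM, GroupLike (σ₁.tensor σ₂).C ((σ₁.tensor σ₂).C ⊗[R] A) := fun m =>
    ⟨(1 : (σ₁.tensor σ₂).C) ⊗ₜ[R] y m.1, hgl' m.1 m.2⟩
  let Γ : Subgroup (GroupLike (σ₁.tensor σ₂).C ((σ₁.tensor σ₂).C ⊗[R] A)) :=
    Subgroup.closure (Set.range gl)
  have hΓ : Γ.FG := ⟨Finset.univ.image gl, by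
    rw [Finset.coe_image, Finset.coe_univ, Set.image_univ]⟩
  let θu : GroupLike (σ₁.tensor σ₂).C ((σ₁.tensor σ₂).C ⊗[R] A) →* (MonoidAlgebra B M)ˣ :=
    (glHom (stageEquiv (σ₁.tensor σ₂) e)).toHomUnits
  let σu : M →* (MonoidAlgebra B M)ˣ := (MonoidAlgebra.of B M).toHomUnits
  have hT : (⊤ : Subgroup M) ≤ (Γ.map θu).comap σu := by
    rw [← hSM, Subgroup.closure_le]
    intro m hm
    rw [SetLike.mem_coe, Subgroup.mem_comap, Subgroup.mem_map]
    refine ⟨gl ⟨m, hm⟩, Subgroup.subset_closure ⟨⟨m, hm⟩, rfl⟩, ?_⟩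
    apply Units.ext
    rw [MonoidHom.coe_toHomUnits, MonoidHom.coe_toHomUnits, MonoidAlgebra.of_apply, glHom_apply]
    show stageEquiv (σ₁.tensor σ₂) e ((1 : B) ⊗ₜ[(σ₁.tensor σ₂).C]
      ((1 : (σ₁.tensor σ₂).C) ⊗ₜ[R] y m)) = _
    rw [stageEquiv_tmul, map_one]
    exact hy m hm
  have hsurj' : ∀ m : M, ∃ g ∈ Γ,
      glHom (stageEquiv (σ₁.tensor σ₂) e) g = MonoidAlgebra.single m 1 := by
    intro m
    obtain ⟨g, hg, h⟩ := Subgroup.mem_map.mp (Subgroup.mem_comap.mp (hT (Subgroup.mem_top m)))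
    refine ⟨g, hg, ?_⟩
    have h1 := congrArg Units.val h
    rwa [MonoidHom.coe_toHomUnits, MonoidHom.coe_toHomUnits, MonoidAlgebra.of_apply] at h1
  exact goal_of_stage (σ₁.tensor σ₂) (goal_of_subgroup ((σ₁.tensor σ₂).crit hc)
    (stageEquiv (σ₁.tensor σ₂) e) (hgen_stage (σ₁.tensor σ₂) e hgen) Γ hΓ hsurj')

/-- **spreading out**: a trivialisation over a flat ind-étale algebra descends to an étale
stage. -/
theorem goal_of_equiv (hc : Crit R B) [Module.Flat R B] [Algebra.FinitePresentation R A]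
    [Group.FG M] (e : B ⊗[R] A ≃ₐc[B] MonoidAlgebra B M) :
    ∃ τ : Stage R B, IsDiag τ.C (τ.C ⊗[R] A) := by
  classical
  obtain ⟨SM, hSM⟩ := Group.FG.out (G := M)
  obtain ⟨SA, hSA⟩ := (Algebra.FiniteType.out : (⊤ : Subalgebra R A).FG)
  obtain ⟨σ₁, h₁⟩ := lift_tensors hc A (SM.image (fun m => e.symm (MonoidAlgebra.single m 1)))
  obtain ⟨σ₂, h₂⟩ := lift_elems hc (SA.biUnion (fun a =>
    (e ((1 : B) ⊗ₜ[R] a)).coeff.support.image (fun m => (e ((1 : B) ⊗ₜ[R] a)).coeff m)))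
  have h₁' : ∀ m ∈ SM, ∃ y : (σ₁.tensor σ₂).C ⊗[R] A,
      stageEquiv (σ₁.tensor σ₂) e ((1 : B) ⊗ₜ[(σ₁.tensor σ₂).C] y) =
        MonoidAlgebra.single m 1 := by
    intro m hm
    obtain ⟨y, hy⟩ := range_rTensor_mono (σ₁.inl σ₂) A (h₁ _ (Finset.mem_image_of_mem _ hm))
    exact ⟨y, by rw [stageEquiv_one_tmul, hy, e.apply_symm_apply]⟩
  have h₂' : ∀ a ∈ (SA : Set A), ∃ z : MonoidAlgebra (σ₁.tensor σ₂).C M,
      mr (σ₁.tensor σ₂).C B M z = e ((1 : B) ⊗ₜ[R] a) := by
    intro a ha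
    apply exists_mr_eq_of_coeff_mem
    intro m hm
    obtain ⟨c, hc⟩ := h₂ _ (Finset.mem_biUnion.mpr ⟨a, ha, Finset.mem_image_of_mem _ hm⟩)
    refine ⟨(σ₁.inr σ₂).h c, ?_⟩
    rw [← hc]
    exact (σ₁.inr σ₂).apply c
  have hgen' := hgen_of_generators (σ₁.tensor σ₂) e (SA : Set A) hSA h₂'
  exact goal_of_stage (σ₁.tensor σ₂) (goal_of_lifts ((σ₁.tensor σ₂).crit hc)
    (stageEquiv (σ₁.tensor σ₂) e) hgen' SM hSM h₁')

end Chain

end Groth.Agent.H9.HDG
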