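import Mathlib
import Groth.Prelude.Def_SGA3b
import Groth.Agent.Lib.Helper9.Misc.HDG3
import Groth.Agent.Lib.Helper9.Misc.HDG6
import Groth.Agent.Lib.Helper8.Hens.AtPrimeColim
import Groth.Agent.Lib.Helper8.Hens.Henselization

/-!
# Groups of multiplicative type and of finite type are quasi-isotrivial (SGA 3 X 4.5) (helper9)
-/

set_option autoImplicit false
set_option linter.unusedSectionVars false
set_option linter.unusedVariables false
set_option linter.style.haveILetI false

namespace Groth.Agent.H9.HDG

open TensorProduct SGA3b IsLocalRing Groth.Agent.H9.MultT Groth.Agent.H9.GLL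
  Groth.Agent.H4.IndEtCrit

universe u

section Local

/-- over a henselian local ring, a group of multiplicative type and of finite type is split by a
finite étale *local* algebra -/
theorem exists_local_finite_etale_diag (R : Type u) [CommRing R] [HenselianLocalRing R]
    (A : Type u) [CommRing A] [HopfAlgebra R A] (hft : Algebra.FiniteType R A)
    (hconst : IsMultTypeConst R A) :
    ∃ (S : Type u) (_ : CommRing S) (_ : Algebra R S), Algebra.Etale R S ∧ Module.Finite R S ∧
      IsLocalRing S ∧ IsDiag S (S ⊗[R] A) := by
  have hk : IsMultType (ResidueField R) (ResidueField R ⊗[R] A) :=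
    Groth.Agent.H9.MT.isMultType_of_isMultTypeConst
      (Groth.Agent.H9.MT.isMultTypeConst_baseChange _ hconst)
  obtain ⟨k', _, _, hfin, hsep, M, _, hMfg, ⟨e'⟩⟩ := Groth.Agent.H9.MT.exists_isDiagFT hk
  haveI := hfin
  haveI := hsep
  haveI : Algebra.FormallyEtale (ResidueField R) k' := Algebra.FormallyEtale.of_isSeparable _ _
  haveI : Algebra.FinitePresentation (ResidueField R) k' :=
    Algebra.FinitePresentation.of_finiteType.mp inferInstance
  haveI : Algebra.Etale (ResidueField R) k' := {}
  obtain ⟨S, _, _, hSfin, hSet, ⟨eS⟩⟩ := Groth.Agent.H8.Hens.exists_finite_etale_lift R k'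
  haveI := hSfin
  haveI := hSet
  haveI : IsLocalRing S := isLocalRing_of_tensor_field R S k' eS.toRingEquiv
  haveI : HenselianLocalRing S := Groth.Agent.H8.Hens.henselianLocalRing_of_finite R S
  haveI : IsLocalHom (algebraMap R S) := isLocalHom_of_finite R S
  haveI : Module.Flat R S := inferInstance
  haveI : Module.FaithfullyFlat R S := Module.FaithfullyFlat.of_flat_of_isLocalHom
  let β : ResidueField R ⊗[R] S →ₐ[ResidueField R] ResidueField S :=
    Algebra.TensorProduct.lift (Algebra.ofId (ResidueField R) (ResidueField S))
      (IsScalarTower.toAlgHom R S (ResidueField S)) (fun _ _ => Commute.all _ _)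
  let τ : k' →ₐ[ResidueField R] ResidueField S :=
    β.comp (eS.symm : k' →ₐ[ResidueField R] ResidueField R ⊗[R] S)
  letI : Algebra k' (ResidueField S) := τ.toRingHom.toAlgebra
  haveI : IsScalarTower (ResidueField R) k' (ResidueField S) :=
    IsScalarTower.of_algebraMap_eq (fun x => (τ.commutes x).symm)
  have h0 : IsDiag (ResidueField S) (ResidueField S ⊗[S] (S ⊗[R] A)) := by
    refine ⟨M, inferInstance, ⟨?_⟩⟩
    exact (Groth.Agent.H9.MT.cancelBC R S (ResidueField S) A).trans
      ((Groth.Agent.H9.MT.cancelBC R (ResidueField R) (ResidueField S) A).symm.trans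
        ((Groth.Agent.H9.MT.cancelBC (ResidueField R) k' (ResidueField S)
            (ResidueField R ⊗[R] A)).symm.trans
          ((Groth.Agent.H9.MT.bcEquiv (ResidueField S) e').trans
            (Groth.Agent.H9.MT.monAlgBC k' (ResidueField S) M))))
  have hS : IsMultType S (S ⊗[R] A) :=
    Groth.Agent.H9.MT.isMultType_of_isMultTypeConst
      (Groth.Agent.H9.MT.isMultTypeConst_baseChange _ hconst)
  have hdiag : IsDiag S (S ⊗[R] A) := isDiag_of_henselian S (S ⊗[R] A) inferInstance hS h0
  exact ⟨S, inferInstance, inferInstance, inferInstance, inferInstance, inferInstance, hdiag⟩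

/-- the henselization of the local ring at a prime, with what we need about it -/
theorem exists_henselization_package (R : Type u) [CommRing R] (p : Ideal R) [p.IsPrime] :
    ∃ (Rh : Type u) (_ : CommRing Rh) (_ : HenselianLocalRing Rh) (_ : Algebra R Rh),
      Module.Flat R Rh ∧ Crit R Rh ∧ (maximalIdeal Rh).comap (algebraMap R Rh) = p := by
  letI : Algebra R (Groth.Agent.H8.Hens.Henselization (Localization.AtPrime p)) :=
    Algebra.compHom (Groth.Agent.H8.Hens.Henselization (Localization.AtPrime p))
      (algebraMap R (Localization.AtPrime p))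
  haveI : IsScalarTower R (Localization.AtPrime p)
      (Groth.Agent.H8.Hens.Henselization (Localization.AtPrime p)) :=
    IsScalarTower.of_algebraMap_eq (fun _ => rfl)
  haveI := Groth.Agent.H8.Hens.isHenselization (R := Localization.AtPrime p)
  refine ⟨Groth.Agent.H8.Hens.Henselization (Localization.AtPrime p), inferInstance,
    inferInstance, inferInstance, ?_, ?_, ?_⟩
  · exact Module.Flat.trans R (Localization.AtPrime p) _
  · exact Groth.Agent.H8.Hens.crit_henselization_atPrime R p _
  · rw [IsScalarTower.algebraMap_eq R (Localization.AtPrime p)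
      (Groth.Agent.H8.Hens.Henselization (Localization.AtPrime p)), ← Ideal.comap_comap]
    have hloc : IsLocalHom (algebraMap (Localization.AtPrime p)
        (Groth.Agent.H8.Hens.Henselization (Localization.AtPrime p))) := inferInstance
    have h1 : (maximalIdeal (Groth.Agent.H8.Hens.Henselization (Localization.AtPrime p))).comap
        (algebraMap (Localization.AtPrime p)
          (Groth.Agent.H8.Hens.Henselization (Localization.AtPrime p))) =
        maximalIdeal (Localization.AtPrime p) :=
      ((IsLocalRing.local_hom_TFAE (algebraMap (Localization.AtPrime p)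
        (Groth.Agent.H8.Hens.Henselization (Localization.AtPrime p)))).out 0 4).mp hloc
    rw [h1]
    exact Localization.AtPrime.comap_maximalIdeal

variable (R : Type u) [CommRing R] (A : Type u) [CommRing A] [HopfAlgebra R A]

/-- for each prime `p`, a local flat ind-étale `R`-algebra over `p` splitting `A` -/
theorem exists_local_indEtale_diag (hft : Algebra.FiniteType R A) (h : IsMultType R A)
    (p : Ideal R) [p.IsPrime] :
    ∃ (B : Type u) (_ : CommRing B) (_ : IsLocalRing B) (_ : Algebra R B),
      Module.Flat R B ∧ Crit R B ∧ (maximalIdeal B).comap (algebraMap R B) = p ∧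
        IsDiag B (B ⊗[R] A) := by
  obtain ⟨Rh, _, _, _, hflat, hcrit, hp⟩ := exists_henselization_package R p
  haveI := hflat
  haveI := hft
  have hconst : IsMultTypeConst Rh (Rh ⊗[R] A) := isMultTypeConst_of_isLocalRing_algebra h Rh
  obtain ⟨S, _, _, hSet, hSfin, hSloc, hSdiag⟩ :=
    exists_local_finite_etale_diag Rh (Rh ⊗[R] A) inferInstance hconst
  haveI := hSet
  haveI := hSfin
  haveI := hSloc
  letI : Algebra R S := Algebra.compHom S (algebraMap R Rh)
  haveI : IsScalarTower R Rh S := IsScalarTower.of_algebraMap_eq (fun _ => rfl)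
  haveI : Algebra.IsIntegral Rh S := inferInstance
  refine ⟨S, inferInstance, inferInstance, inferInstance, Module.Flat.trans R Rh S,
    Groth.Agent.H4.IndEtTrans.Crit.etale_over hcrit S, ?_, ?_⟩
  · rw [IsScalarTower.algebraMap_eq R Rh S, ← Ideal.comap_comap,
      Groth.Agent.H8.Hens.comap_eq_maximalIdeal_of_isMaximal (maximalIdeal S), hp]
  · obtain ⟨M, _, ⟨e⟩⟩ := hSdiag
    exact ⟨M, inferInstance, ⟨(Groth.Agent.H9.MT.cancelBC R Rh S A).symm.trans e⟩⟩

end Local

section Main

variable (R : Type u) [CommRing R] (A : Type u) [CommRing A] [HopfAlgebra R A]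

/-- around every prime, `A` is quasi-isotrivial of constant type on a basic open -/
theorem exists_quasiIsotrivialConst_away (hft : Algebra.FiniteType R A) (h : IsMultType R A)
    (p : Ideal R) [p.IsPrime] :
    ∃ f : R, f ∉ p ∧
      IsQuasiIsotrivialConst (Localization.Away f) (Localization.Away f ⊗[R] A) := by
  classical
  haveI hfp : Algebra.FinitePresentation R A := finitePresentation_of_isMultType hft h
  obtain ⟨B, _, _, _, hflat, hcrit, hp, M, _, ⟨e⟩⟩ := exists_local_indEtale_diag R A hft h p
  haveI := hflat
  haveI := hft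
  haveI : Group.FG M := by
    haveI : Algebra.FiniteType B (MonoidAlgebra B M) :=
      Algebra.FiniteType.equiv inferInstance e.toAlgEquiv
    exact (MonoidAlgebra.finiteType_iff_group_fg (R := B)).mp inferInstance
  obtain ⟨σ, hdiag⟩ := goal_of_equiv hcrit e
  -- the prime of `σ.C` under the maximal ideal of `B`
  have hq : ((maximalIdeal B).comap σ.g.toRingHom).comap (algebraMap R σ.C) = p := by
    rw [Ideal.comap_comap, AlgHom.toRingHom_eq_coe, AlgHom.comp_algebraMap]
    exact hp
  -- the image of `Spec σ.C` is open
  haveI : Algebra.HasGoingDown R σ.C := Algebra.HasGoingDown.of_flat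
  have hopen : IsOpen (Set.range (PrimeSpectrum.comap (algebraMap R σ.C))) :=
    (PrimeSpectrum.isOpenMap_comap_of_hasGoingDown_of_finitePresentation
      (R := R) (S := σ.C)).isOpen_range
  have hpU : (⟨p, inferInstance⟩ : PrimeSpectrum R) ∈
      Set.range (PrimeSpectrum.comap (algebraMap R σ.C)) := by
    refine ⟨⟨(maximalIdeal B).comap σ.g.toRingHom, Ideal.comap_isPrime _ _⟩, ?_⟩
    apply PrimeSpectrum.ext
    rw [PrimeSpectrum.comap_asIdeal]
    exact hq
  obtain ⟨_, ⟨f, rfl⟩, hfP, hfU⟩ :=
    PrimeSpectrum.isTopologicalBasis_basic_opens.exists_subset_of_mem_open hpU hopen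
  have hfp' : f ∉ p := by
    have h1 := (PrimeSpectrum.mem_basicOpen f _).mp hfP
    exact h1
  refine ⟨f, hfp', ?_⟩
  -- the étale algebra
  letI : Algebra (Localization.Away f) (Localization.Away (algebraMap R σ.C f)) :=
    (Localization.awayMap (algebraMap R σ.C) f).toAlgebra
  haveI : IsScalarTower R (Localization.Away f) (Localization.Away (algebraMap R σ.C f)) :=
    IsScalarTower.of_algebraMap_eq (fun x => by
      have h1 : Localization.awayMap (algebraMap R σ.C) f
          (algebraMap R (Localization.Away f) x) =
          algebraMap σ.C (Localization.Away (algebraMap R σ.C f)) (algebraMap R σ.C x) := by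
        simp [Localization.awayMap, IsLocalization.Away.map, IsLocalization.map_eq]
      rw [RingHom.algebraMap_toAlgebra, h1, ← IsScalarTower.algebraMap_apply])
  haveI : Algebra.Etale R (Localization.Away (algebraMap R σ.C f)) :=
    Algebra.Etale.comp R σ.C (Localization.Away (algebraMap R σ.C f))
  haveI : Algebra.Etale (Localization.Away f) (Localization.Away (algebraMap R σ.C f)) :=
    Algebra.Etale.of_restrictScalars R (Localization.Away f)
      (Localization.Away (algebraMap R σ.C f))
  haveI : Module.Flat (Localization.Away f) (Localization.Away (algebraMap R σ.C f)) :=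
    inferInstance
  have hsurj : Function.Surjective (PrimeSpectrum.comap
      (algebraMap (Localization.Away f) (Localization.Away (algebraMap R σ.C f)))) := by
    intro P'
    have hPf : PrimeSpectrum.comap (algebraMap R (Localization.Away f)) P' ∈
        (PrimeSpectrum.basicOpen f : Set (PrimeSpectrum R)) := by
      rw [← PrimeSpectrum.localization_away_comap_range (Localization.Away f) f]
      exact ⟨P', rfl⟩
    obtain ⟨Q, hQ⟩ := hfU hPf
    have hQf : Q ∈ (PrimeSpectrum.basicOpen (algebraMap R σ.C f) :
        Set (PrimeSpectrum σ.C)) := by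
      rw [SetLike.mem_coe, PrimeSpectrum.mem_basicOpen]
      intro hmem
      have h1 : f ∈ (PrimeSpectrum.comap (algebraMap R σ.C) Q).asIdeal := by
        rw [PrimeSpectrum.comap_asIdeal]
        exact hmem
      rw [hQ] at h1
      exact (PrimeSpectrum.mem_basicOpen f _).mp hPf h1
    rw [← PrimeSpectrum.localization_away_comap_range
      (Localization.Away (algebraMap R σ.C f)) (algebraMap R σ.C f)] at hQf
    obtain ⟨Q', hQ'⟩ := hQf
    refine ⟨Q', ?_⟩
    apply PrimeSpectrum.localization_comap_injective (Localization.Away f) (Submonoid.powers f)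
    rw [← hQ, ← hQ']
    apply PrimeSpectrum.ext
    simp only [PrimeSpectrum.comap_asIdeal, Ideal.comap_comap]
    congr 1
    rw [← IsScalarTower.algebraMap_eq, ← IsScalarTower.algebraMap_eq]
  haveI : Module.FaithfullyFlat (Localization.Away f)
      (Localization.Away (algebraMap R σ.C f)) :=
    Module.FaithfullyFlat.of_comap_surjective hsurj
  obtain ⟨M', _, ⟨e5⟩⟩ := Groth.Agent.H9.MT.isDiag_baseChange
    (Localization.Away (algebraMap R σ.C f)) hdiag
  exact ⟨Localization.Away (algebraMap R σ.C f), inferInstance, inferInstance, inferInstance,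
    inferInstance, M', inferInstance,
    ⟨(Groth.Agent.H9.MT.cancelBC R (Localization.Away f)
        (Localization.Away (algebraMap R σ.C f)) A).trans
      ((Groth.Agent.H9.MT.cancelBC R σ.C (Localization.Away (algebraMap R σ.C f)) A).symm.trans
        e5)⟩⟩

/-- **SGA 3 X 4.5**: a group of multiplicative type and of finite type is quasi-isotrivial -/
theorem isQuasiIsotrivial_of_finiteType (hft : Algebra.FiniteType R A) (h : IsMultType R A) :
    IsQuasiIsotrivial R A := by
  refine ⟨{f | IsQuasiIsotrivialConst (Localization.Away f) (Localization.Away f ⊗[R] A)}, ?_,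
    fun f hf => hf⟩
  by_contra hne
  obtain ⟨m, hm, hle⟩ := Ideal.exists_le_maximal _ hne
  haveI := hm.isPrime
  obtain ⟨f, hfm, hf⟩ := exists_quasiIsotrivialConst_away R A hft h m
  exact hfm (hle (Ideal.subset_span hf))

end Main

end Groth.Agent.H9.HDG
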