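import Mathlib

set_option autoImplicit false
set_option linter.style.haveILetI false
set_option linter.unusedSectionVars false
set_option linter.unusedVariables false

/-!
# Hopf ideals of a Hopf algebra over a Dedekind domain and of its generic fibre
-/

namespace Groth.Agent.H9.HID

open TensorProduct Coalgebra

universe u

section loc

variable (R : Type u) [CommRing R] [IsDomain R] (K : Type u) [Field K] [Algebra R K]
  [IsFractionRing R K]

theorem exists_smul_eq_tmul (M : Type u) [AddCommGroup M] [Module R M] (x : K ⊗[R] M) :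
    ∃ s : R, s ≠ 0 ∧ ∃ m : M, s • x = (1 : K) ⊗ₜ[R] m := by
  obtain ⟨⟨m, s⟩, h⟩ := IsLocalizedModule.surj (nonZeroDivisors R) (TensorProduct.mk R K M 1) x
  exact ⟨s, nonZeroDivisors.ne_zero s.2, m, h⟩

theorem exists_smul_eq_zero_of_tmul_eq_zero (M : Type u) [AddCommGroup M] [Module R M] (m : M)
    (h : (1 : K) ⊗ₜ[R] m = 0) : ∃ s : R, s ≠ 0 ∧ s • m = 0 := by
  obtain ⟨c, hc⟩ := (IsLocalizedModule.eq_zero_iff (nonZeroDivisors R)
    (TensorProduct.mk R K M 1)).1 h
  exact ⟨c, nonZeroDivisors.ne_zero c.2, hc⟩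

theorem eq_zero_of_smul_eq_zero {W : Type u} [AddCommGroup W] [Module R W] [Module K W]
    [IsScalarTower R K W] {s : R} (hs : s ≠ 0) {w : W} (h : s • w = 0) : w = 0 := by
  rw [← algebraMap_smul K s w] at h
  rcases smul_eq_zero.1 h with h | h
  · exact absurd ((map_eq_zero_iff _ (IsFractionRing.injective R K)).1 h) hs
  · exact h

end loc

end Groth.Agent.H9.HID

namespace Groth.Agent.H9.HID

open TensorProduct Coalgebra

universe u

section main

variable (R : Type u) [CommRing R] [IsDedekindDomain R] (K : Type u) [Field K] [Algebra R K]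
  [IsFractionRing R K] (A : Type u) [CommRing A] [HopfAlgebra R A]

theorem mem_map_iff (J' : Ideal A) (x : K ⊗[R] A) :
    x ∈ Ideal.map (Algebra.TensorProduct.includeRight : A →ₐ[R] K ⊗[R] A) J' ↔
      ∃ s : R, s ≠ 0 ∧ ∃ j ∈ J', s • x = (1 : K) ⊗ₜ[R] j := by
  constructor
  · intro hx
    rw [Ideal.map] at hx
    induction hx using Submodule.span_induction with
    | mem x hx =>
      obtain ⟨j, hj, rfl⟩ := hx
      exact ⟨1, one_ne_zero, j, hj, by simp⟩
    | zero => exact ⟨1, one_ne_zero, 0, J'.zero_mem, by simp⟩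
    | add x y _ _ hx hy =>
      obtain ⟨s₁, hs₁, j₁, hj₁, h₁⟩ := hx
      obtain ⟨s₂, hs₂, j₂, hj₂, h₂⟩ := hy
      refine ⟨s₁ * s₂, mul_ne_zero hs₁ hs₂, s₂ • j₁ + s₁ • j₂,
        J'.add_mem (Submodule.smul_of_tower_mem J' s₂ hj₁) (Submodule.smul_of_tower_mem J' s₁ hj₂), ?_⟩
      rw [smul_add, tmul_add, tmul_smul, tmul_smul, ← h₁, ← h₂, smul_smul, smul_smul,
        mul_comm s₂ s₁]
    | smul y x _ hx =>
      obtain ⟨s, hs, j, hj, h⟩ := hx
      obtain ⟨t, ht, a, ha⟩ := exists_smul_eq_tmul R K A y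
      refine ⟨t * s, mul_ne_zero ht hs, a * j, J'.mul_mem_left a hj, ?_⟩
      rw [smul_eq_mul, ← smul_mul_smul_comm, ha, h, Algebra.TensorProduct.tmul_mul_tmul, one_mul]
  · rintro ⟨s, hs, j, hj, h⟩
    have hs' : algebraMap R K s ≠ 0 := fun h0 =>
      hs ((map_eq_zero_iff _ (IsFractionRing.injective R K)).1 h0)
    have hx : x = (algebraMap R K s)⁻¹ • ((1 : K) ⊗ₜ[R] j) := by
      rw [← h, ← algebraMap_smul K s x, smul_smul, inv_mul_cancel₀ hs', one_smul]
    rw [hx, Algebra.smul_def]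
    exact Ideal.mul_mem_left _ _ (Ideal.mem_map_of_mem _ hj)

theorem antipode_one_tmul (a : A) :
    HopfAlgebra.antipode K ((1 : K) ⊗ₜ[R] a) = (1 : K) ⊗ₜ[R] HopfAlgebra.antipode R a := by
  simp [TensorProduct.antipode_def]

theorem counit_one_tmul (a : A) :
    counit (R := K) ((1 : K) ⊗ₜ[R] a) = algebraMap R K (counit (R := R) a) := by
  rw [TensorProduct.counit_tmul, CommSemiring.counit_apply, Algebra.smul_def, mul_one]

theorem comul_one_tmul (a : A) :
    comul (R := K) ((1 : K) ⊗ₜ[R] a) =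
      AlgebraTensorModule.tensorTensorTensorComm R K R K K K A A
        (((1 : K) ⊗ₜ[K] (1 : K)) ⊗ₜ[R] comul (R := R) a) := by
  rw [TensorProduct.comul_tmul, CommSemiring.comul_apply]

end main

end Groth.Agent.H9.HID

namespace Groth.Agent.H9.HID

open TensorProduct Coalgebra

universe u

section core

variable (R : Type u) [CommRing R] [IsDedekindDomain R] (K : Type u) [Field K] [Algebra R K]
  [IsFractionRing R K] (A : Type u) [CommRing A] [HopfAlgebra R A]

variable {R K A}

/-- the map `A/J' → (K ⊗ A)/J` -/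
noncomputable def gmap (I' : Submodule R A) (I : Submodule K (K ⊗[R] A))
    (h : ∀ a ∈ I', (1 : K) ⊗ₜ[R] a ∈ I) : (A ⧸ I') →ₗ[R] ((K ⊗[R] A) ⧸ I) :=
  I'.liftQ ((I.mkQ.restrictScalars R) ∘ₗ (TensorProduct.mk R K A 1)) (by
    intro a ha
    rw [LinearMap.mem_ker, LinearMap.comp_apply]
    show I.mkQ ((1 : K) ⊗ₜ[R] a) = 0
    rw [Submodule.mkQ_apply, Submodule.Quotient.mk_eq_zero]
    exact h a ha)

theorem gmap_mk (I' : Submodule R A) (I : Submodule K (K ⊗[R] A))
    (h : ∀ a ∈ I', (1 : K) ⊗ₜ[R] a ∈ I) (a : A) :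
    gmap I' I h (Submodule.Quotient.mk a) = Submodule.Quotient.mk ((1 : K) ⊗ₜ[R] a) := rfl

/-- the map `(A/J') ⊗_R (A/J') → (A_K/J) ⊗_K (A_K/J)` -/
noncomputable def psi (I' : Submodule R A) (I : Submodule K (K ⊗[R] A))
    (h : ∀ a ∈ I', (1 : K) ⊗ₜ[R] a ∈ I) :
    ((A ⧸ I') ⊗[R] (A ⧸ I')) →ₗ[R] (((K ⊗[R] A) ⧸ I) ⊗[K] ((K ⊗[R] A) ⧸ I)) :=
  (TensorProduct.mapOfCompatibleSMul K R R ((K ⊗[R] A) ⧸ I) ((K ⊗[R] A) ⧸ I)) ∘ₗ
    TensorProduct.map (gmap I' I h) (gmap I' I h)

theorem psi_tmul (I' : Submodule R A) (I : Submodule K (K ⊗[R] A))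
    (h : ∀ a ∈ I', (1 : K) ⊗ₜ[R] a ∈ I) (a b : A) :
    psi I' I h ((Submodule.Quotient.mk a) ⊗ₜ[R] (Submodule.Quotient.mk b)) =
      (Submodule.Quotient.mk ((1 : K) ⊗ₜ[R] a)) ⊗ₜ[K] (Submodule.Quotient.mk ((1 : K) ⊗ₜ[R] b)) :=
  rfl

/-- the key identity -/
theorem star (I' : Submodule R A) (I : Submodule K (K ⊗[R] A))
    (h : ∀ a ∈ I', (1 : K) ⊗ₜ[R] a ∈ I) (a : A) :
    TensorProduct.map I.mkQ I.mkQ (comul (R := K) ((1 : K) ⊗ₜ[R] a)) =
      psi I' I h (TensorProduct.map I'.mkQ I'.mkQ (comul (R := R) a)) := by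
  rw [comul_one_tmul]
  generalize comul (R := R) a = t
  induction t using TensorProduct.induction_on with
  | zero => simp
  | tmul a₁ a₂ =>
    rw [AlgebraTensorModule.tensorTensorTensorComm_tmul, TensorProduct.map_tmul,
      TensorProduct.map_tmul]
    rfl
  | add x y hx hy =>
    rw [tmul_add, map_add, map_add, hx, hy, map_add, map_add]

end core

end Groth.Agent.H9.HID

namespace Groth.Agent.H9.HID

open TensorProduct Coalgebra

universe u

section thm

variable (R : Type u) [CommRing R] [IsDedekindDomain R] (K : Type u) [Field K] [Algebra R K]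
  [IsFractionRing R K] (A : Type u) [CommRing A] [HopfAlgebra R A]

theorem smul_eq_algebraMap_smul {W : Type u} [AddCommGroup W] [Module R W] [Module K W]
    [IsScalarTower R K W] (s : R) (w : W) : s • w = (algebraMap R K s) • w :=
  (algebraMap_smul K s w).symm

theorem mapsTo (J' : Ideal A) (hJ' : J'.IsHopfIdeal R) :
    (Ideal.map (Algebra.TensorProduct.includeRight : A →ₐ[R] K ⊗[R] A) J').IsHopfIdeal K := by
  set J := Ideal.map (Algebra.TensorProduct.includeRight : A →ₐ[R] K ⊗[R] A) J' with hJ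
  have hco : (J'.restrictScalars R).IsCoideal := hJ'.toIsCoideal
  have h : ∀ a ∈ J'.restrictScalars R, (1 : K) ⊗ₜ[R] a ∈ J.restrictScalars K := by
    intro a ha
    exact Ideal.mem_map_of_mem _ ha
  rw [Ideal.isHopfIdeal_iff, Submodule.isCoideal_iff]
  refine ⟨⟨?_, ?_⟩, ?_⟩
  · intro x hx
    obtain ⟨s, hs, j, hj, hsx⟩ := (mem_map_iff R K A J' x).1 hx
    apply eq_zero_of_smul_eq_zero R K hs (W := K)
    rw [← LinearMap.map_smul_of_tower, hsx, counit_one_tmul, hco.counit_eq_zero hj, map_zero]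
  · intro x hx
    obtain ⟨s, hs, j, hj, hsx⟩ := (mem_map_iff R K A J' x).1 hx
    apply eq_zero_of_smul_eq_zero R K hs
    rw [← LinearMap.map_smul_of_tower, ← LinearMap.map_smul_of_tower, hsx,
      star (J'.restrictScalars R) (J.restrictScalars K) h, hco.map_mkQ_comul_eq_zero hj, map_zero]
  · intro x hx
    obtain ⟨s, hs, j, hj, hsx⟩ := (mem_map_iff R K A J' x).1 hx
    refine (mem_map_iff R K A J' _).2 ⟨s, hs, HopfAlgebra.antipode R j, hJ'.antipode_mem hj, ?_⟩
    rw [← LinearMap.map_smul_of_tower, hsx, antipode_one_tmul]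

theorem comap_map_eq (J' : Ideal A) (hfl : Module.Flat R (A ⧸ J')) :
    Ideal.comap (Algebra.TensorProduct.includeRight : A →ₐ[R] K ⊗[R] A)
      (Ideal.map (Algebra.TensorProduct.includeRight : A →ₐ[R] K ⊗[R] A) J') = J' := by
  apply le_antisymm
  · intro a ha
    rw [Ideal.mem_comap] at ha
    obtain ⟨s, hs, j, hj, hsx⟩ := (mem_map_iff R K A J' _).1 ha
    have h1 : (1 : K) ⊗ₜ[R] (s • a - j) = 0 := by
      rw [tmul_sub, tmul_smul, sub_eq_zero]
      exact hsx
    obtain ⟨t, ht, h2⟩ := exists_smul_eq_zero_of_tmul_eq_zero R K A _ h1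
    have h3 : (t * s) • a ∈ J' := by
      have : (t * s) • a = t • j := by
        rw [smul_sub, sub_eq_zero] at h2
        rw [mul_smul, h2]
      rw [this]
      exact Submodule.smul_of_tower_mem J' t hj
    have h4 : (Ideal.Quotient.mk J' a) ∈ Submodule.torsion R (A ⧸ J') := by
      rw [Submodule.mem_torsion_iff]
      refine ⟨⟨t * s, mem_nonZeroDivisors_of_ne_zero (mul_ne_zero ht hs)⟩, ?_⟩
      show (t * s) • (Ideal.Quotient.mkₐ R J' a) = 0
      rw [← map_smul, Ideal.Quotient.mkₐ_eq_mk, Ideal.Quotient.eq_zero_iff_mem]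
      exact h3
    rw [Module.Flat.torsion_eq_bot, Submodule.mem_bot, Ideal.Quotient.eq_zero_iff_mem] at h4
    exact h4
  · exact Ideal.le_comap_map

end thm

end Groth.Agent.H9.HID

namespace Groth.Agent.H9.HID

open TensorProduct Coalgebra

universe u

section thm2

variable (R : Type u) [CommRing R] [IsDedekindDomain R] (K : Type u) [Field K] [Algebra R K]
  [IsFractionRing R K] (A : Type u) [CommRing A] [HopfAlgebra R A]

theorem flat_of_smul_cancel (Q : Type u) [AddCommGroup Q] [Module R Q]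
    (h : ∀ (s : R) (q : Q), s ≠ 0 → s • q = 0 → q = 0) : Module.Flat R Q := by
  rw [IsDedekindDomain.flat_iff_torsion_eq_bot, eq_bot_iff]
  intro q hq
  rw [Submodule.mem_torsion_iff] at hq
  obtain ⟨c, hc⟩ := hq
  rw [Submodule.mem_bot]
  exact h c q (nonZeroDivisors.ne_zero c.2) hc

theorem mapOfCompatibleSMul_injective (V : Type u) [AddCommGroup V] [Module R V] [Module K V]
    [IsScalarTower R K V] :
    Function.Injective (TensorProduct.mapOfCompatibleSMul K R R V V) := by
  let e := IsLocalization.moduleTensorEquiv (nonZeroDivisors R) K V V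
  have hleft : ∀ y : V ⊗[R] V, e (TensorProduct.mapOfCompatibleSMul K R R V V y) = y := by
    intro y
    induction y using TensorProduct.induction_on with
    | zero => simp
    | tmul v w => rfl
    | add x y hx hy => rw [map_add, map_add, hx, hy]
  intro x y hxy
  rw [← hleft x, ← hleft y, hxy]

theorem surjOn_aux (J : Ideal (K ⊗[R] A)) (hJ : J.IsHopfIdeal K) :
    (Ideal.comap (Algebra.TensorProduct.includeRight : A →ₐ[R] K ⊗[R] A) J).IsHopfIdeal R ∧
      Module.Flat R (A ⧸ Ideal.comap (Algebra.TensorProduct.includeRight : A →ₐ[R] K ⊗[R] A) J) ∧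
      Ideal.map (Algebra.TensorProduct.includeRight : A →ₐ[R] K ⊗[R] A)
        (Ideal.comap (Algebra.TensorProduct.includeRight : A →ₐ[R] K ⊗[R] A) J) = J := by
  set J' := Ideal.comap (Algebra.TensorProduct.includeRight : A →ₐ[R] K ⊗[R] A) J with hJ'
  have hco : (J.restrictScalars K).IsCoideal := hJ.toIsCoideal
  have hmem : ∀ a : A, a ∈ J' ↔ (1 : K) ⊗ₜ[R] a ∈ J := fun a => Iff.rfl
  have hcancel : ∀ (s : R) (a : A), s ≠ 0 → s • a ∈ J' → a ∈ J' := by
    intro s a hs h
    rw [hmem, tmul_smul] at h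
    rw [hmem]
    have hs' : algebraMap R K s ≠ 0 := fun h0 =>
      hs ((map_eq_zero_iff _ (IsFractionRing.injective R K)).1 h0)
    have : (1 : K) ⊗ₜ[R] a = (algebraMap R K s)⁻¹ • (s • ((1 : K) ⊗ₜ[R] a)) := by
      rw [← algebraMap_smul K s ((1 : K) ⊗ₜ[R] a), smul_smul, inv_mul_cancel₀ hs', one_smul]
    rw [this]
    exact Submodule.smul_of_tower_mem J _ h
  have h : ∀ a ∈ J'.restrictScalars R, (1 : K) ⊗ₜ[R] a ∈ J.restrictScalars K := fun a ha => ha
  refine ⟨?_, ?_, ?_⟩
  · rw [Ideal.isHopfIdeal_iff, Submodule.isCoideal_iff]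
    refine ⟨⟨?_, ?_⟩, ?_⟩
    · intro a ha
      have h1 := hco.counit_eq_zero (h a ha)
      rw [counit_one_tmul] at h1
      exact (map_eq_zero_iff _ (IsFractionRing.injective R K)).1 h1
    · intro a ha
      have h1 := hco.map_mkQ_comul_eq_zero (h a ha)
      rw [star (J'.restrictScalars R) (J.restrictScalars K) h] at h1
      -- injectivity of `psi`
      have hg : Function.Injective (gmap (J'.restrictScalars R) (J.restrictScalars K) h) := by
        rw [injective_iff_map_eq_zero]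
        intro q hq
        obtain ⟨a, rfl⟩ := Submodule.mkQ_surjective _ q
        rw [Submodule.mkQ_apply, gmap_mk, Submodule.Quotient.mk_eq_zero] at hq
        rw [Submodule.mkQ_apply, Submodule.Quotient.mk_eq_zero]
        exact hq
      haveI hQ : Module.Flat R (A ⧸ J'.restrictScalars R) := by
        apply flat_of_smul_cancel
        intro s q hs hq
        obtain ⟨a, rfl⟩ := Submodule.mkQ_surjective _ q
        rw [Submodule.mkQ_apply, ← Submodule.Quotient.mk_smul, Submodule.Quotient.mk_eq_zero] at hq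
        rw [Submodule.mkQ_apply, Submodule.Quotient.mk_eq_zero]
        exact hcancel s a hs hq
      haveI hV : Module.Flat R ((K ⊗[R] A) ⧸ J.restrictScalars K) := by
        apply flat_of_smul_cancel
        intro s q hs hq
        exact eq_zero_of_smul_eq_zero R K hs hq
      have hmap : Function.Injective (TensorProduct.map
          (gmap (J'.restrictScalars R) (J.restrictScalars K) h)
          (gmap (J'.restrictScalars R) (J.restrictScalars K) h)) := by
        rw [← LinearMap.rTensor_comp_lTensor, LinearMap.coe_comp]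
        exact (Module.Flat.rTensor_preserves_injective_linearMap _ hg).comp
          (Module.Flat.lTensor_preserves_injective_linearMap _ hg)
      have hpsi : Function.Injective (psi (J'.restrictScalars R) (J.restrictScalars K) h) := by
        unfold psi
        rw [LinearMap.coe_comp]
        exact (mapOfCompatibleSMul_injective R K _).comp hmap
      exact hpsi (by rw [h1, map_zero])
    · intro a ha
      rw [hmem, ← antipode_one_tmul]
      exact hJ.antipode_mem ha
  · apply flat_of_smul_cancel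
    intro s q hs hq
    obtain ⟨a, rfl⟩ := Ideal.Quotient.mk_surjective q
    have h1 : (Ideal.Quotient.mk J') (s • a) = 0 := by
      rw [← hq]
      exact map_smul (Ideal.Quotient.mkₐ R J') s a
    rw [Ideal.Quotient.eq_zero_iff_mem] at h1 ⊢
    exact hcancel s a hs h1
  · apply le_antisymm Ideal.map_comap_le
    intro x hx
    obtain ⟨s, hs, a, ha⟩ := exists_smul_eq_tmul R K A x
    refine (mem_map_iff R K A J' x).2 ⟨s, hs, a, ?_, ha⟩
    rw [hmem, ← ha]
    exact Submodule.smul_of_tower_mem J s hx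

theorem main [Module.Flat R A] :
    Set.BijOn (fun J' : Ideal A =>
        Ideal.map (Algebra.TensorProduct.includeRight : A →ₐ[R] K ⊗[R] A) J')
      {J' : Ideal A | J'.IsHopfIdeal R ∧ Module.Flat R (A ⧸ J')}
      {J : Ideal (K ⊗[R] A) | J.IsHopfIdeal K} := by
  refine ⟨?_, ?_, ?_⟩
  · intro J' hJ'
    exact mapsTo R K A J' hJ'.1
  · intro J₁ h₁ J₂ h₂ h12
    simp only at h12
    rw [← comap_map_eq R K A J₁ h₁.2, ← comap_map_eq R K A J₂ h₂.2, h12]
  · intro J hJ
    obtain ⟨h1, h2, h3⟩ := surjOn_aux R K A J hJ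
    exact ⟨_, ⟨h1, h2⟩, h3⟩

end thm2

end Groth.Agent.H9.HID
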