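import Mathlib
import Groth.Prelude.Def_W4c2conddiscmodels

/-! Hirzebruch–Jung continued fractions: continuant lemma (helper9). -/

namespace Groth.Agent.H9.HJ

theorem key (l : ℕ) : ∀ (b : ℕ → ℤ) (_hb : ∀ i, 1 ≤ i → i ≤ l → 2 ≤ b i) (μ : ℕ → ℤ)
    (_hμ : ∀ i, i ≤ l + 1 → μ i ≠ 0)
    (_hsys : ∀ i, 1 ≤ i → i ≤ l → b i * μ i = μ (i - 1) + μ (i + 1)),
    ∃ N R : ℤ, 0 ≤ R ∧ R < N ∧ IsCoprime N R ∧
      HJFrac.hjVal ((List.range l).map fun i => b (i + 1)) = (N : ℚ) / R ∧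
      N * μ 1 = R * μ 0 + μ (l + 1) ∧
      (N : ℚ) / ((μ 0 : ℚ) * μ (l + 1)) =
        ∑ i ∈ Finset.range (l + 1), 1 / ((μ i : ℚ) * (μ (i + 1) : ℚ)) := by
  induction l with
  | zero =>
    intro b _ μ _ _
    refine ⟨1, 0, le_refl _, by norm_num, isCoprime_one_left, ?_, by ring, ?_⟩
    · simp [HJFrac.hjVal]
    · simp
  | succ l ih =>
    intro b hb μ hμ hsys
    obtain ⟨N', R', hR0, hRN, hcop, hval, hrec, hsum⟩ := ih (fun i => b (i + 1))
      (fun i h1 h2 => hb (i + 1) (by omega) (by omega)) (fun i => μ (i + 1))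
      (fun i hi => hμ (i + 1) (by omega))
      (fun i h1 h2 => by
        have := hsys (i + 1) (by omega) (by omega)
        have e : i - 1 + 1 = i + 1 - 1 := by omega
        simpa [e] using this)
    have hb1 : 2 ≤ b 1 := hb 1 le_rfl (by omega)
    have hs1 : b 1 * μ 1 = μ 0 + μ 2 := hsys 1 le_rfl (by omega)
    have hN'pos : 0 < N' := by omega
    refine ⟨b 1 * N' - R', N', hN'pos.le, by nlinarith, ?_, ?_, ?_, ?_⟩
    · obtain ⟨u, v, huv⟩ := hcop
      exact ⟨-v, u + v * b 1, by linear_combination huv⟩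
    · rw [List.range_succ_eq_map, List.map_cons, List.map_map]
      have : ((fun i => b (i + 1)) ∘ Nat.succ) = fun i => b (i + 1 + 1) := rfl
      rw [this, HJFrac.hjVal, hval, inv_div]
      have hN'q : (N' : ℚ) ≠ 0 := by exact_mod_cast hN'pos.ne'
      push_cast
      field_simp
    · simp only [zero_add] at hrec
      have e : l + 1 + 1 = l + 2 := rfl
      have : μ (l + 1 + 1) = N' * μ 2 - R' * μ 1 := by
        have := hrec
        simp only [show (1 : ℕ) + 1 = 2 from rfl] at this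
        linear_combination -this
      rw [this]
      linear_combination N' * hs1
    · rw [Finset.sum_range_succ']
      simp only [zero_add] at hsum hrec ⊢
      rw [← hsum]
      have h0 : (μ 0 : ℚ) ≠ 0 := by exact_mod_cast hμ 0 (by omega)
      have h1 : (μ 1 : ℚ) ≠ 0 := by exact_mod_cast hμ 1 (by omega)
      have h2 : (μ (l + 1 + 1) : ℚ) ≠ 0 := by exact_mod_cast hμ (l + 1 + 1) (by omega)
      have hrecq : (N' : ℚ) * μ (1 + 1) = R' * μ 1 + μ (l + 1 + 1) := by exact_mod_cast hrec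
      have hs1q : (b 1 : ℚ) * μ 1 = μ 0 + μ (1 + 1) := by exact_mod_cast hs1
      push_cast
      field_simp
      linear_combination (N' : ℚ) * hs1q + hrecq

theorem main (l : ℕ) (b : ℕ → ℤ)
    (hb : ∀ i, 1 ≤ i → i ≤ l → 2 ≤ b i)
    (n r : ℕ) (hr : 0 < r) (hn : 0 < n) (hcop : Nat.Coprime r n)
    (hhj : (n : ℚ) / r = HJFrac.hjVal ((List.range l).map fun i => b (i + 1)))
    (μ : ℕ → ℤ) (hμ : ∀ i, i ≤ l + 1 → μ i ≠ 0)
    (hsys : ∀ i, 1 ≤ i → i ≤ l → b i * μ i = μ (i - 1) + μ (i + 1)) :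
    (n : ℤ) * μ 1 = r * μ 0 + μ (l + 1) ∧
    (n : ℚ) / ((μ 0 : ℚ) * μ (l + 1)) =
      ∑ i ∈ Finset.range (l + 1), 1 / ((μ i : ℚ) * (μ (i + 1) : ℚ)) := by
  obtain ⟨N, R, hR0, hRN, hc, hval, hrec, hsum⟩ := key l b hb μ hμ hsys
  rw [hval] at hhj
  have hRpos : 0 < R := by
    rcases hR0.lt_or_eq with h | h
    · exact h
    · exfalso
      rw [← h] at hhj
      simp only [Int.cast_zero, div_zero, div_eq_zero_iff, Nat.cast_eq_zero] at hhj
      omega
  have hhj' : (((n : ℤ)) : ℚ) / ((r : ℤ) : ℚ) = (N : ℚ) / (R : ℚ) := by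
    rw [Int.cast_natCast, Int.cast_natCast]; exact hhj
  obtain ⟨e1, e2⟩ := Rat.div_int_inj (a := (n : ℤ)) (b := (r : ℤ)) (by exact_mod_cast hr) hRpos
    (by simpa using hcop.symm) (by
      have := Int.isCoprime_iff_gcd_eq_one.mp hc
      simpa [Int.gcd] using this) hhj'
  subst e1 e2
  refine ⟨hrec, ?_⟩
  simpa using hsum

end Groth.Agent.H9.HJ
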