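import Mathlib
import Groth.Prelude.Def_W4c2invhilbsl2HJ

/-! Helper9: Hirzebruch–Jung continued fraction sequences: basic lemmas -/

open W4c2invhilbsl2

namespace Groth.Agent.H9.HJ

theorem hjP_ss (c : List ℤ) (i : ℕ) : hjP c (i + 2) = c.getD i 0 * hjP c (i + 1) - hjP c i := by
  rw [hjP]
theorem hjQ_ss (c : List ℤ) (i : ℕ) : hjQ c (i + 2) = c.getD i 0 * hjQ c (i + 1) - hjQ c i := by
  rw [hjQ]

theorem det (c : List ℤ) (i : ℕ) : hjP c i * hjQ c (i + 1) - hjP c (i + 1) * hjQ c i = 1 := by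
  induction i with
  | zero => simp [hjP, hjQ]
  | succ i ih => rw [hjP_ss, hjQ_ss]; linear_combination ih

theorem digit_ge {c : List ℤ} (hc : ∀ x ∈ c, (2 : ℤ) ≤ x) {j : ℕ} (hj : j < c.length) :
    2 ≤ c.getD j 0 := by
  rw [List.getD_eq_getElem _ _ hj]
  exact hc _ (List.getElem_mem hj)

/-- convexity: increasing direction -/
theorem up (c : List ℤ) (hc : ∀ x ∈ c, (2 : ℤ) ≤ x) (u : ℕ → ℤ)
    (hrec : ∀ j, u (j + 2) = c.getD j 0 * u (j + 1) - u j) (h0 : 0 ≤ u 0) (h1 : u 0 ≤ u 1) :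
    ∀ j, j ≤ c.length → u 0 ≤ u j ∧ u 1 - u 0 ≤ u (j + 1) - u j := by
  intro j
  induction j with
  | zero => intro _; exact ⟨le_refl _, le_refl _⟩
  | succ j ih =>
    intro hj
    obtain ⟨ih1, ih2⟩ := ih (by omega)
    have hd := digit_ge hc (j := j) (by omega)
    have h3 : u 0 ≤ u (j + 1) := by linarith
    refine ⟨h3, ?_⟩
    rw [hrec j]
    have : 0 ≤ (c.getD j 0 - 2) * u (j + 1) := mul_nonneg (by linarith) (by linarith)
    nlinarith

theorem up_mono (c : List ℤ) (hc : ∀ x ∈ c, (2 : ℤ) ≤ x) (u : ℕ → ℤ)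
    (hrec : ∀ j, u (j + 2) = c.getD j 0 * u (j + 1) - u j) (h0 : 0 ≤ u 0) (h1 : u 0 ≤ u 1)
    {i j : ℕ} (hij : i ≤ j) (hj : j ≤ c.length + 1) : u i ≤ u j := by
  induction j with
  | zero => have : i = 0 := by omega
            rw [this]
  | succ j ih =>
    rcases Nat.eq_or_lt_of_le hij with h | h
    · rw [h]
    · have := (up c hc u hrec h0 h1 j (by omega)).2
      have := ih (by omega) (by omega)
      linarith

theorem up_strict (c : List ℤ) (hc : ∀ x ∈ c, (2 : ℤ) ≤ x) (u : ℕ → ℤ)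
    (hrec : ∀ j, u (j + 2) = c.getD j 0 * u (j + 1) - u j) (h0 : 0 ≤ u 0) (h1 : u 0 < u 1)
    {i j : ℕ} (hij : i < j) (hj : j ≤ c.length + 1) : u i < u j := by
  induction j with
  | zero => omega
  | succ j ih =>
    have h2 := (up c hc u hrec h0 h1.le j (by omega)).2
    rcases Nat.eq_or_lt_of_le (Nat.lt_succ_iff.mp hij) with h | h
    · rw [h]; linarith
    · have := ih h (by omega)
      linarith

/-- convexity: decreasing direction -/
theorem down (c : List ℤ) (hc : ∀ x ∈ c, (2 : ℤ) ≤ x) (u : ℕ → ℤ)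
    (hrec : ∀ j, u (j + 2) = c.getD j 0 * u (j + 1) - u j) (h0 : 0 ≤ u (c.length + 1))
    (h1 : u (c.length + 1) ≤ u c.length) :
    ∀ j, j ≤ c.length → 0 ≤ u (c.length - j + 1) ∧
      u c.length - u (c.length + 1) ≤ u (c.length - j) - u (c.length - j + 1) := by
  intro j
  induction j with
  | zero => intro _; exact ⟨h0, le_refl _⟩
  | succ j ih =>
    intro hj
    obtain ⟨ih1, ih2⟩ := ih (by omega)
    obtain ⟨i, hi⟩ : ∃ i, i = c.length - (j + 1) := ⟨_, rfl⟩
    have e1 : c.length - j = i + 1 := by omega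
    have hd := digit_ge hc (j := i) (by omega)
    rw [← hi]
    rw [e1] at ih1 ih2
    have hr := hrec i
    have h3 : 0 ≤ u (i + 1) := by linarith
    refine ⟨h3, ?_⟩
    have : 0 ≤ (c.getD i 0 - 2) * u (i + 1) := mul_nonneg (by linarith) h3
    nlinarith

theorem down' (c : List ℤ) (hc : ∀ x ∈ c, (2 : ℤ) ≤ x) (u : ℕ → ℤ)
    (hrec : ∀ j, u (j + 2) = c.getD j 0 * u (j + 1) - u j) (h0 : 0 ≤ u (c.length + 1))
    (h1 : u (c.length + 1) ≤ u c.length) (i : ℕ) (hi : i ≤ c.length) :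
    0 ≤ u (i + 1) ∧ u c.length - u (c.length + 1) ≤ u i - u (i + 1) := by
  have := down c hc u hrec h0 h1 (c.length - i) (by omega)
  have e : c.length - (c.length - i) = i := by omega
  rwa [e] at this

theorem down_anti (c : List ℤ) (hc : ∀ x ∈ c, (2 : ℤ) ≤ x) (u : ℕ → ℤ)
    (hrec : ∀ j, u (j + 2) = c.getD j 0 * u (j + 1) - u j) (h0 : 0 ≤ u (c.length + 1))
    (h1 : u (c.length + 1) ≤ u c.length)
    {i j : ℕ} (hij : i ≤ j) (hj : j ≤ c.length + 1) : u j ≤ u i := by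
  induction j with
  | zero => have : i = 0 := by omega
            rw [this]
  | succ j ih =>
    rcases Nat.eq_or_lt_of_le hij with h | h
    · rw [h]
    · have := (down' c hc u hrec h0 h1 j (by omega)).2
      have := ih (by omega) (by omega)
      linarith

theorem down_strict (c : List ℤ) (hc : ∀ x ∈ c, (2 : ℤ) ≤ x) (u : ℕ → ℤ)
    (hrec : ∀ j, u (j + 2) = c.getD j 0 * u (j + 1) - u j) (h0 : 0 ≤ u (c.length + 1))
    (h1 : u (c.length + 1) < u c.length)
    {i j : ℕ} (hij : i < j) (hj : j ≤ c.length + 1) : u j < u i := by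
  induction j with
  | zero => omega
  | succ j ih =>
    have h2 := (down' c hc u hrec h0 h1.le j (by omega)).2
    rcases Nat.eq_or_lt_of_le (Nat.lt_succ_iff.mp hij) with h | h
    · rw [h]; linarith
    · have := ih h (by omega)
      linarith

theorem down_nonneg (c : List ℤ) (hc : ∀ x ∈ c, (2 : ℤ) ≤ x) (u : ℕ → ℤ)
    (hrec : ∀ j, u (j + 2) = c.getD j 0 * u (j + 1) - u j) (h0 : 0 ≤ u (c.length + 1))
    (h1 : u (c.length + 1) ≤ u c.length) {i : ℕ} (hi : i ≤ c.length + 1) : 0 ≤ u i :=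
  h0.trans (down_anti c hc u hrec h0 h1 hi (le_refl _))

/-- linear combinations of `P` and `Q` satisfy the recurrence -/
theorem lin_rec (c : List ℤ) (A B : ℤ) (j : ℕ) :
    A * hjP c (j + 2) + B * hjQ c (j + 2) =
      c.getD j 0 * (A * hjP c (j + 1) + B * hjQ c (j + 1)) - (A * hjP c j + B * hjQ c j) := by
  rw [hjP_ss, hjQ_ss]; ring

/-- cons lemma -/
theorem cons_aux (a : ℤ) (l : List ℤ) (i : ℕ) :
    hjP (a :: l) (i + 1) = a * hjP l i - hjQ l i ∧ hjQ (a :: l) (i + 1) = hjP l i := by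
  induction i using Nat.twoStepInduction with
  | zero => simp [hjP, hjQ]
  | one => simp [hjP, hjQ]
  | more i ih1 ih2 =>
    constructor
    · rw [hjP_ss, List.getD_cons_succ, ih2.1, ih1.1, hjP_ss, hjQ_ss]; ring
    · rw [hjQ_ss, List.getD_cons_succ, ih2.2, ih1.2, hjP_ss]

theorem hjVal_eq (l : List ℤ) (hl : ∀ x ∈ l, (2 : ℤ) ≤ x) :
    0 ≤ hjQ l (l.length + 1) ∧ hjQ l (l.length + 1) < hjP l (l.length + 1) ∧
      (l ≠ [] → 0 < hjQ l (l.length + 1)) ∧
      HJFrac.hjVal l = (hjP l (l.length + 1) : ℚ) / (hjQ l (l.length + 1) : ℚ) := by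
  induction l with
  | nil => simp [hjP, hjQ, HJFrac.hjVal]
  | cons a l ih =>
    obtain ⟨h1, h2, h3, h4⟩ := ih (fun x hx => hl x (List.mem_cons_of_mem _ hx))
    have ha : 2 ≤ a := hl a List.mem_cons_self
    obtain ⟨e1, e2⟩ := cons_aux a l (l.length + 1)
    have hlen : (a :: l).length + 1 = l.length + 1 + 1 := by simp
    rw [hlen, e1, e2]
    have hN : 0 < hjP l (l.length + 1) := by linarith
    refine ⟨hN.le, ?_, fun _ => hN, ?_⟩
    · nlinarith
    · rw [HJFrac.hjVal, h4, inv_div]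
      have : (hjP l (l.length + 1) : ℚ) ≠ 0 := by exact_mod_cast hN.ne'
      push_cast
      field_simp

end Groth.Agent.H9.HJ
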