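import Mathlib
import Groth.Agent.Lib.Helper9.Misc.HJ1

/-! Helper9: HJ continued fractions: arithmetic of g,b,t; S15735 -/

open W4c2invhilbsl2

namespace Groth.Agent.H9.HJ

/-- basic arithmetic of `g, b, t`. -/
theorem basic (p q m : ℕ) (hpq : p < q) (hcop : Nat.Coprime p q) (hm : 0 < m)
    (hnt : ¬ (q - p ∣ m)) :
    0 < gcdK p q m ∧ gcdK p q m * bB p q m = q - p ∧
    ((gcdK p q m : ℤ) * tT p q m = ((q : ℤ) - p) * (alpha p q m + 1) - m * p) ∧
    1 ≤ tT p q m ∧ tT p q m < bB p q m ∧ Nat.Coprime (bB p q m) (tT p q m) := by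
  have hg : 0 < gcdK p q m := Nat.gcd_pos_of_pos_left _ hm
  have hgm : gcdK p q m ∣ m := Nat.gcd_dvd_left _ _
  have hgq : gcdK p q m ∣ q - p := Nat.gcd_dvd_right _ _
  have hgb : gcdK p q m * bB p q m = q - p := Nat.mul_div_cancel' hgq
  have hcop2 : Nat.Coprime (q - p) p := (Nat.coprime_sub_self_left hpq.le).mpr hcop.symm
  have hqp : 0 < q - p := by omega
  -- β
  have hβlt : m * p % (q - p) < q - p := Nat.mod_lt _ hqp
  have hβ : m * p = (q - p) * alpha p q m + m * p % (q - p) := (Nat.div_add_mod _ _).symm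
  have hβpos : 0 < m * p % (q - p) := by
    rcases Nat.eq_zero_or_pos (m * p % (q - p)) with h | h
    · exfalso
      apply hnt
      have : q - p ∣ m * p := Nat.dvd_of_mod_eq_zero h
      exact hcop2.dvd_of_dvd_mul_right this
    · exact h
  have hgβ : gcdK p q m ∣ m * p % (q - p) :=
    (Nat.dvd_mod_iff hgq).mpr (Dvd.dvd.mul_right hgm p)
  have hgsub : gcdK p q m ∣ q - p - m * p % (q - p) := Nat.dvd_sub hgq hgβ
  have hgt : gcdK p q m * tT p q m = q - p - m * p % (q - p) := Nat.mul_div_cancel' hgsub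
  have hgtZ : (gcdK p q m : ℤ) * tT p q m = ((q : ℤ) - p) * (alpha p q m + 1) - m * p := by
    have h1 : ((gcdK p q m * tT p q m : ℕ) : ℤ) = ((q - p - m * p % (q - p) : ℕ) : ℤ) := by rw [hgt]
    have h2 : ((m * p : ℕ) : ℤ) = (((q - p) * alpha p q m + m * p % (q - p) : ℕ) : ℤ) := by rw [← hβ]
    push_cast [Nat.cast_sub hβlt.le, Nat.cast_sub hpq.le] at h1 h2
    linarith
  have ht1 : 1 ≤ tT p q m := by
    rcases Nat.eq_zero_or_pos (tT p q m) with h | h
    · rw [h] at hgt; omega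
    · exact h
  have htb : tT p q m < bB p q m := by
    have : gcdK p q m * tT p q m < gcdK p q m * bB p q m := by rw [hgt, hgb]; omega
    exact Nat.lt_of_mul_lt_mul_left this
  refine ⟨hg, hgb, hgtZ, ht1, htb, ?_⟩
  -- coprimality
  rw [Nat.coprime_iff_gcd_eq_one]
  set s := Nat.gcd (bB p q m) (tT p q m) with hs
  have hsb : gcdK p q m * s ∣ q - p := by
    rw [← hgb]; exact Nat.mul_dvd_mul_left _ (Nat.gcd_dvd_left _ _)
  have hst : gcdK p q m * s ∣ gcdK p q m * tT p q m := Nat.mul_dvd_mul_left _ (Nat.gcd_dvd_right _ _)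
  have hsum : m * p + gcdK p q m * tT p q m = (q - p) * (alpha p q m + 1) := by
    rw [hgt]; rw [mul_add, mul_one]; omega
  have hsmp : gcdK p q m * s ∣ m * p := by
    have : gcdK p q m * s ∣ m * p + gcdK p q m * tT p q m := by
      rw [hsum]; exact Dvd.dvd.mul_right hsb _
    exact (Nat.dvd_add_left hst).mp this
  have hsm : gcdK p q m * s ∣ m := (Nat.Coprime.coprime_dvd_left hsb hcop2).dvd_of_dvd_mul_right hsmp
  have : gcdK p q m * s ∣ gcdK p q m * 1 := by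
    rw [mul_one]; exact Nat.dvd_gcd hsm hsb
  exact Nat.dvd_one.mp (Nat.dvd_of_mul_dvd_mul_left hg this)

/-- `P_{r+1} = b`, `Q_{r+1} = t`. -/
theorem last (p q m : ℕ) (hpq : p < q) (hcop : Nat.Coprime p q) (hm : 0 < m)
    (hnt : ¬ (q - p ∣ m)) (c : List ℤ) (hc : IsHJDigits p q m c) :
    hjP c (c.length + 1) = bB p q m ∧ hjQ c (c.length + 1) = tT p q m := by
  obtain ⟨hg, hgb, hgt, ht1, htb, hcop'⟩ := basic p q m hpq hcop hm hnt
  obtain ⟨h1, h2, h3, h4⟩ := hjVal_eq c hc.1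
  have hval := hc.2
  have hb0 : (0 : ℚ) < bB p q m := by exact_mod_cast (by omega : 0 < bB p q m)
  have ht0 : (0 : ℚ) < tT p q m := by exact_mod_cast ht1
  have hne : c ≠ [] := by
    rintro rfl
    rw [HJFrac.hjVal] at hval
    have : (0 : ℚ) < (bB p q m : ℚ) / tT p q m := div_pos hb0 ht0
    linarith
  have hD := h3 hne
  rw [h4] at hval
  have hDq : ((hjQ c (c.length + 1) : ℤ) : ℚ) ≠ 0 := by exact_mod_cast hD.ne'
  rw [div_eq_div_iff hDq ht0.ne'] at hval
  have hval' : hjP c (c.length + 1) * (tT p q m : ℤ) = (bB p q m : ℤ) * hjQ c (c.length + 1) := by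
    exact_mod_cast hval
  have hdet := det c c.length
  have hcopND : IsCoprime (hjP c (c.length + 1)) (hjQ c (c.length + 1)) :=
    ⟨-hjQ c c.length, hjP c c.length, by linear_combination hdet⟩
  have hcopbt : IsCoprime (bB p q m : ℤ) (tT p q m : ℤ) := Nat.isCoprime_iff_coprime.mpr hcop'
  have hd1 : hjP c (c.length + 1) ∣ (bB p q m : ℤ) :=
    hcopND.dvd_of_dvd_mul_right ⟨tT p q m, hval'.symm⟩
  have hd2 : (bB p q m : ℤ) ∣ hjP c (c.length + 1) :=
    hcopbt.dvd_of_dvd_mul_right ⟨hjQ c (c.length + 1), hval'⟩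
  have hN : hjP c (c.length + 1) = bB p q m :=
    Int.dvd_antisymm (by linarith) (by positivity) hd1 hd2
  refine ⟨hN, ?_⟩
  rw [hN] at hval'
  have hb0' : (bB p q m : ℤ) ≠ 0 := by
    have : 0 < bB p q m := by omega
    exact_mod_cast this.ne'
  exact (mul_left_cancel₀ hb0' hval').symm

/-- `T_i = t P_i - b Q_i`. -/
def TT (p q m : ℕ) (c : List ℤ) (i : ℕ) : ℤ :=
  (tT p q m : ℤ) * hjP c i - (bB p q m : ℤ) * hjQ c i

theorem TT_rec (p q m : ℕ) (c : List ℤ) (j : ℕ) :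
    TT p q m c (j + 2) = c.getD j 0 * TT p q m c (j + 1) - TT p q m c j := by
  unfold TT; rw [hjP_ss, hjQ_ss]; ring

theorem nN_eq (p q m : ℕ) (hpq : p < q) (hcop : Nat.Coprime p q) (hm : 0 < m)
    (hnt : ¬ (q - p ∣ m)) (c : List ℤ) (i : ℕ) :
    nN p q m c i = (gcdK p q m : ℤ) * TT p q m c i := by
  obtain ⟨hg, hgb, hgt, ht1, htb, hcop'⟩ := basic p q m hpq hcop hm hnt
  have hgbZ : (gcdK p q m : ℤ) * bB p q m = (q : ℤ) - p := by
    have : ((gcdK p q m * bB p q m : ℕ) : ℤ) = ((q - p : ℕ) : ℤ) := by rw [hgb]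
    push_cast [Nat.cast_sub hpq.le] at this
    exact this
  unfold nN eE lL TT
  push_cast
  linear_combination (-hjP c i) * hgt + (hjQ c i) * hgbZ

theorem eE_rec (p q m : ℕ) (c : List ℤ) (j : ℕ) :
    eE p q m c (j + 2) = c.getD j 0 * eE p q m c (j + 1) - eE p q m c j := by
  unfold eE; rw [hjP_ss, hjQ_ss]; ring

theorem lL_rec (p q m : ℕ) (c : List ℤ) (j : ℕ) :
    lL p q m c (j + 2) = c.getD j 0 * lL p q m c (j + 1) - lL p q m c j := by
  unfold lL; rw [hjP_ss, hjQ_ss]; ring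

theorem nN_rec (p q m : ℕ) (c : List ℤ) (j : ℕ) :
    nN p q m c (j + 2) = c.getD j 0 * nN p q m c (j + 1) - nN p q m c j := by
  unfold nN; rw [eE_rec, lL_rec]; ring

theorem TT_zero (p q m : ℕ) (c : List ℤ) : TT p q m c 0 = bB p q m := by
  simp [TT, hjP, hjQ]
theorem TT_one (p q m : ℕ) (c : List ℤ) : TT p q m c 1 = tT p q m := by
  simp [TT, hjP, hjQ]

theorem TT_last (p q m : ℕ) (hpq : p < q) (hcop : Nat.Coprime p q) (hm : 0 < m)
    (hnt : ¬ (q - p ∣ m)) (c : List ℤ) (hc : IsHJDigits p q m c) :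
    TT p q m c (c.length + 1) = 0 ∧ TT p q m c c.length = 1 := by
  obtain ⟨h1, h2⟩ := last p q m hpq hcop hm hnt c hc
  have hdet := det c c.length
  unfold TT
  rw [h1, h2] at *
  constructor
  · ring
  · linear_combination hdet

theorem s15735 (p q m : ℕ) (hpq : p < q) (hcop : Nat.Coprime p q) (hm : 0 < m)
    (hnt : ¬ (q - p ∣ m)) (c : List ℤ) (hc : IsHJDigits p q m c) :
    (∀ i : ℕ, i ≤ c.length + 1 →
      nN p q m c i = (gcdK p q m : ℤ) * ((tT p q m : ℤ) * hjP c i - (bB p q m : ℤ) * hjQ c i)) ∧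
    (∀ i : ℕ, 2 ≤ i → i ≤ c.length + 1 →
      nN p q m c i = c.getD (i - 2) 0 * nN p q m c (i - 1) - nN p q m c (i - 2)) ∧
    (∀ i : ℕ, i ≤ c.length → nN p q m c (i + 1) < nN p q m c i) ∧
    nN p q m c 0 = (q : ℤ) - p ∧ nN p q m c c.length = gcdK p q m ∧ nN p q m c (c.length + 1) = 0 := by
  obtain ⟨hg, hgb, hgt, ht1, htb, hcop'⟩ := basic p q m hpq hcop hm hnt
  obtain ⟨hT0, hT1⟩ := TT_last p q m hpq hcop hm hnt c hc
  have hgbZ : (gcdK p q m : ℤ) * bB p q m = (q : ℤ) - p := by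
    have : ((gcdK p q m * bB p q m : ℕ) : ℤ) = ((q - p : ℕ) : ℤ) := by rw [hgb]
    push_cast [Nat.cast_sub hpq.le] at this
    exact this
  have hgZ : (0 : ℤ) < gcdK p q m := by exact_mod_cast hg
  refine ⟨fun i _ => nN_eq p q m hpq hcop hm hnt c i, ?_, ?_, ?_, ?_, ?_⟩
  · intro i hi _
    obtain ⟨j, rfl⟩ : ∃ j, i = j + 2 := ⟨i - 2, by omega⟩
    exact nN_rec p q m c j
  · intro i hi
    rw [nN_eq p q m hpq hcop hm hnt, nN_eq p q m hpq hcop hm hnt]
    have := down_strict c hc.1 (TT p q m c) (TT_rec p q m c) (by rw [hT0]) (by rw [hT0, hT1]; norm_num)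
      (i := i) (j := i + 1) (by omega) (by omega)
    exact mul_lt_mul_of_pos_left this hgZ
  · rw [nN_eq p q m hpq hcop hm hnt, TT_zero, hgbZ]
  · rw [nN_eq p q m hpq hcop hm hnt, hT1, mul_one]
  · rw [nN_eq p q m hpq hcop hm hnt, hT0, mul_zero]

end Groth.Agent.H9.HJ
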