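import Mathlib
import Groth.Agent.Lib.Helper9.Misc.HJ2

/-! Helper9: HJ continued fractions: lattice lemmas -/

open W4c2invhilbsl2

set_option linter.unusedSectionVars false

namespace Groth.Agent.H9.HJ

/-- coordinates of a lattice point in the bases `(v_j, v_{j+1})`. -/
def aa (c : List ℤ) (x y : ℤ) (j : ℕ) : ℤ := x * hjQ c j - y * hjP c j

theorem decomp_x (c : List ℤ) (x y : ℤ) (j : ℕ) :
    x = aa c x y (j + 1) * hjP c j - aa c x y j * hjP c (j + 1) := by
  unfold aa; linear_combination (-x) * det c j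

theorem decomp_y (c : List ℤ) (x y : ℤ) (j : ℕ) :
    y = aa c x y (j + 1) * hjQ c j - aa c x y j * hjQ c (j + 1) := by
  unfold aa; linear_combination (-y) * det c j

theorem exists_cross (c : List ℤ) (x y : ℤ) (hx : 0 < x) (N : ℕ) (hL : 0 ≤ aa c x y (N + 1)) :
    ∃ j, j ≤ N ∧ aa c x y j < 0 ∧ 0 ≤ aa c x y (j + 1) := by
  classical
  have hex : ∃ j, 0 ≤ aa c x y j := ⟨N + 1, hL⟩
  have h0 : aa c x y 0 < 0 := by simp [aa, hjP, hjQ]; exact hx
  have hne : Nat.find hex ≠ 0 := by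
    intro h
    have := Nat.find_spec hex
    rw [h] at this
    linarith
  obtain ⟨j, hj⟩ := Nat.exists_eq_succ_of_ne_zero hne
  refine ⟨j, ?_, ?_, ?_⟩
  · have := Nat.find_min' hex hL
    omega
  · have := Nat.find_min hex (m := j) (by omega)
    linarith
  · have := Nat.find_spec hex
    rwa [hj] at this

/-- general decomposition of a linear form -/
theorem lin_decomp (c : List ℤ) (x y A B : ℤ) (j : ℕ) :
    A * x + B * y = aa c x y (j + 1) * (A * hjP c j + B * hjQ c j) +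
      (-aa c x y j) * (A * hjP c (j + 1) + B * hjQ c (j + 1)) := by
  have h1 := decomp_x c x y j
  have h2 := decomp_y c x y j
  linear_combination A * h1 + B * h2

section
variable (p q m : ℕ) (hpq : p < q) (hcop : Nat.Coprime p q) (hm : 0 < m)
    (hnt : ¬ (q - p ∣ m)) (c : List ℤ) (hc : IsHJDigits p q m c)
include hpq hcop hm hnt hc

theorem P_mono {i j : ℕ} (hij : i ≤ j) (hj : j ≤ c.length + 1) : hjP c i ≤ hjP c j :=
  up_mono c hc.1 (hjP c) (hjP_ss c) (by simp [hjP]) (by simp [hjP]) hij hj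

theorem P_nonneg {i : ℕ} (hi : i ≤ c.length + 1) : 0 ≤ hjP c i := by
  have := P_mono p q m hpq hcop hm hnt c hc (Nat.zero_le i) hi
  simpa [hjP] using this

theorem P_strict {i j : ℕ} (hij : i < j) (hj : j ≤ c.length + 1) : hjP c i < hjP c j :=
  up_strict c hc.1 (hjP c) (hjP_ss c) (by simp [hjP]) (by simp [hjP]) hij hj

theorem TT_anti {i j : ℕ} (hij : i ≤ j) (hj : j ≤ c.length + 1) : TT p q m c j ≤ TT p q m c i := by
  obtain ⟨hT0, hT1⟩ := TT_last p q m hpq hcop hm hnt c hc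
  exact down_anti c hc.1 (TT p q m c) (TT_rec p q m c) (by rw [hT0]) (by rw [hT0, hT1]; norm_num) hij hj

theorem TT_strict {i j : ℕ} (hij : i < j) (hj : j ≤ c.length + 1) : TT p q m c j < TT p q m c i := by
  obtain ⟨hT0, hT1⟩ := TT_last p q m hpq hcop hm hnt c hc
  exact down_strict c hc.1 (TT p q m c) (TT_rec p q m c) (by rw [hT0]) (by rw [hT0, hT1]; norm_num) hij hj

theorem TT_nonneg {i : ℕ} (hi : i ≤ c.length + 1) : 0 ≤ TT p q m c i := by
  obtain ⟨hT0, hT1⟩ := TT_last p q m hpq hcop hm hnt c hc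
  exact down_nonneg c hc.1 (TT p q m c) (TT_rec p q m c) (by rw [hT0]) (by rw [hT0, hT1]; norm_num) hi

theorem eE_zero : eE p q m c 0 = 1 := by simp [eE, hjP, hjQ]
theorem eE_one : eE p q m c 1 = (alpha p q m : ℤ) + 1 + m := by simp [eE, hjP, hjQ]
theorem lL_zero : lL p q m c 0 = 1 := by simp [lL, hjP, hjQ]
theorem lL_one : lL p q m c 1 = (alpha p q m : ℤ) + 1 := by simp [lL, hjP, hjQ]

theorem eE_mono {i j : ℕ} (hij : i ≤ j) (hj : j ≤ c.length + 1) : eE p q m c i ≤ eE p q m c j :=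
  up_mono c hc.1 (eE p q m c) (eE_rec p q m c) (by simp [eE, hjP, hjQ])
    (by simp only [eE, hjP, hjQ]; push_cast; nlinarith [Nat.cast_nonneg (α := ℤ) (alpha p q m), Nat.cast_nonneg (α := ℤ) m]) hij hj

theorem lL_mono {i j : ℕ} (hij : i ≤ j) (hj : j ≤ c.length + 1) : lL p q m c i ≤ lL p q m c j :=
  up_mono c hc.1 (lL p q m c) (lL_rec p q m c) (by simp [lL, hjP, hjQ])
    (by simp [lL, hjP, hjQ]) hij hj

theorem eE_pos {i : ℕ} (hi : i ≤ c.length + 1) : 1 ≤ eE p q m c i := by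
  have := eE_mono p q m hpq hcop hm hnt c hc (Nat.zero_le i) hi
  simpa [eE, hjP, hjQ] using this

theorem lL_pos {i : ℕ} (hi : i ≤ c.length + 1) : 1 ≤ lL p q m c i := by
  have := lL_mono p q m hpq hcop hm hnt c hc (Nat.zero_le i) hi
  simpa [lL, hjP, hjQ] using this

/-- the crossing decomposition for a point in the cone -/
theorem cross (x y : ℤ) (hx : 0 < x) (hL : 0 ≤ (tT p q m : ℤ) * x - (bB p q m : ℤ) * y) :
    ∃ j, j ≤ c.length ∧ aa c x y j < 0 ∧ 0 ≤ aa c x y (j + 1) := by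
  obtain ⟨h1, h2⟩ := last p q m hpq hcop hm hnt c hc
  apply exists_cross c x y hx
  unfold aa
  rw [h1, h2]
  linarith

/-- lower bound lemma -/
theorem LB (i : ℕ) (hi1 : 1 ≤ i) (hi : i ≤ c.length + 1) (x y : ℤ) (hx0 : 0 < x)
    (hx : x < hjP c i) (hL : 0 ≤ (tT p q m : ℤ) * x - (bB p q m : ℤ) * y) :
    TT p q m c (i - 1) ≤ (tT p q m : ℤ) * x - (bB p q m : ℤ) * y := by
  obtain ⟨j, hj, ha, ha'⟩ := cross p q m hpq hcop hm hnt c hc x y hx0 hL
  have hxd := lin_decomp c x y 1 0 j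
  have hTd := lin_decomp c x y (tT p q m) (-(bB p q m : ℤ)) j
  simp only [one_mul, zero_mul, add_zero] at hxd
  have hPj : 0 ≤ hjP c j := P_nonneg p q m hpq hcop hm hnt c hc (by omega)
  have hPj1 : 0 ≤ hjP c (j + 1) := P_nonneg p q m hpq hcop hm hnt c hc (by omega)
  have hμ : 1 ≤ -aa c x y j := by linarith
  have hxge : hjP c (j + 1) ≤ x := by
    have e1 : 0 ≤ aa c x y (j + 1) * hjP c j := mul_nonneg ha' hPj
    have e2 : hjP c (j + 1) ≤ (-aa c x y j) * hjP c (j + 1) :=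
      le_mul_of_one_le_left hPj1 hμ
    linarith
  have hji : j + 1 ≤ i - 1 := by
    by_contra hcon
    have : i ≤ j + 1 := by omega
    have := P_mono p q m hpq hcop hm hnt c hc this (by omega)
    linarith
  have hTj : 0 ≤ TT p q m c j := TT_nonneg p q m hpq hcop hm hnt c hc (by omega)
  have hTj1 : 0 ≤ TT p q m c (j + 1) := TT_nonneg p q m hpq hcop hm hnt c hc (by omega)
  have hanti := TT_anti p q m hpq hcop hm hnt c hc hji (by omega)
  have e1 : 0 ≤ aa c x y (j + 1) * TT p q m c j := mul_nonneg ha' hTj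
  have e2 : TT p q m c (j + 1) ≤ (-aa c x y j) * TT p q m c (j + 1) :=
      le_mul_of_one_le_left hTj1 hμ
  have : (tT p q m : ℤ) * x - (bB p q m : ℤ) * y =
      aa c x y (j + 1) * TT p q m c j + (-aa c x y j) * TT p q m c (j + 1) := by
    unfold TT; linear_combination hTd
  linarith

/-- lattice lemma -/
theorem LL (i : ℕ) (hi1 : 1 ≤ i) (hi : i ≤ c.length + 1) (a1 a2 : ℤ) (h1 : 0 ≤ a1) (h2 : 0 ≤ a2)
    (hdiv : (m : ℤ) ∣ a1 - a2) (hN0 : 0 < (q : ℤ) * a2 - p * a1)
    (hN : (q : ℤ) * a2 - p * a1 < nN p q m c (i - 1)) :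
    eE p q m c i ≤ a1 ∧ lL p q m c i ≤ a2 := by
  obtain ⟨hg, hgb, hgt, ht1, htb, hcop'⟩ := basic p q m hpq hcop hm hnt
  have hgbZ : (gcdK p q m : ℤ) * bB p q m = (q : ℤ) - p := by
    have : ((gcdK p q m * bB p q m : ℕ) : ℤ) = ((q - p : ℕ) : ℤ) := by rw [hgb]
    push_cast [Nat.cast_sub hpq.le] at this
    exact this
  have hgZ : (0 : ℤ) < gcdK p q m := by exact_mod_cast hg
  obtain ⟨x, hx⟩ := hdiv
  obtain ⟨y, hy⟩ : ∃ y : ℤ, y = ((alpha p q m : ℤ) + 1) * x - a2 := ⟨_, rfl⟩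
  have ha2 : a2 = ((alpha p q m : ℤ) + 1) * x - y := by rw [hy]; ring
  have ha1 : a1 = ((alpha p q m : ℤ) + 1 + m) * x - y := by rw [hy]; linarith
  have hNeq : (q : ℤ) * a2 - p * a1 = (gcdK p q m : ℤ) * ((tT p q m : ℤ) * x - (bB p q m : ℤ) * y) := by
    rw [ha1, ha2]; linear_combination (-x) * hgt + y * hgbZ
  have hn0 : nN p q m c 0 = (q : ℤ) - p := by
    rw [nN_eq p q m hpq hcop hm hnt, TT_zero, hgbZ]
  have hqpZ : (p : ℤ) < q := by exact_mod_cast hpq
  have hni : nN p q m c (i - 1) ≤ (q : ℤ) - p := by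
    rw [← hn0, nN_eq p q m hpq hcop hm hnt, nN_eq p q m hpq hcop hm hnt]
    exact mul_le_mul_of_nonneg_left (TT_anti p q m hpq hcop hm hnt c hc (Nat.zero_le _) (by omega)) hgZ.le
  have hmZ : (0 : ℤ) < m := by exact_mod_cast hm
  have hx0 : 0 < x := by
    by_contra hcon
    push Not at hcon
    have h12 : a1 ≤ a2 := by
      have : (m : ℤ) * x ≤ 0 := mul_nonpos_of_nonneg_of_nonpos hmZ.le hcon
      linarith
    rcases eq_or_lt_of_le h2 with h | h
    · rw [← h] at h12 hN0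
      have : a1 = 0 := le_antisymm h12 h1
      rw [this] at hN0; simp at hN0
    · have : (q : ℤ) - p ≤ (q : ℤ) * a2 - p * a1 := by
        have e1 : (p : ℤ) * a1 ≤ p * a2 := mul_le_mul_of_nonneg_left h12 (by positivity)
        have e2 : (q : ℤ) - p ≤ ((q : ℤ) - p) * a2 := by nlinarith
        nlinarith
      linarith
  have hTpos : 0 < (tT p q m : ℤ) * x - (bB p q m : ℤ) * y := by
    rw [hNeq] at hN0
    exact (mul_pos_iff_of_pos_left hgZ).mp hN0
  have hTlt : (tT p q m : ℤ) * x - (bB p q m : ℤ) * y < TT p q m c (i - 1) := by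
    rw [hNeq, nN_eq p q m hpq hcop hm hnt] at hN
    exact lt_of_mul_lt_mul_left hN hgZ.le
  obtain ⟨j, hj, ha, ha'⟩ := cross p q m hpq hcop hm hnt c hc x y hx0 hTpos.le
  have hTd := lin_decomp c x y (tT p q m) (-(bB p q m : ℤ)) j
  have hEd := lin_decomp c x y ((alpha p q m + 1 + m : ℕ) : ℤ) (-1) j
  have hLd := lin_decomp c x y ((alpha p q m + 1 : ℕ) : ℤ) (-1) j
  have hμ : 1 ≤ -aa c x y j := by linarith
  have hTj : 0 ≤ TT p q m c j := TT_nonneg p q m hpq hcop hm hnt c hc (by omega)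
  have hTj1 : 0 ≤ TT p q m c (j + 1) := TT_nonneg p q m hpq hcop hm hnt c hc (by omega)
  have hTeq : (tT p q m : ℤ) * x - (bB p q m : ℤ) * y =
      aa c x y (j + 1) * TT p q m c j + (-aa c x y j) * TT p q m c (j + 1) := by
    unfold TT; linear_combination hTd
  have hji : i ≤ j + 1 := by
    by_contra hcon
    have : j + 1 ≤ i - 1 := by omega
    have hanti := TT_anti p q m hpq hcop hm hnt c hc this (by omega)
    have e1 : 0 ≤ aa c x y (j + 1) * TT p q m c j := mul_nonneg ha' hTj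
    have e2 : TT p q m c (j + 1) ≤ (-aa c x y j) * TT p q m c (j + 1) :=
      le_mul_of_one_le_left hTj1 hμ
    linarith
  have hEj : 1 ≤ eE p q m c j := eE_pos p q m hpq hcop hm hnt c hc (by omega)
  have hLj : 1 ≤ lL p q m c j := lL_pos p q m hpq hcop hm hnt c hc (by omega)
  have hEj1 : 1 ≤ eE p q m c (j + 1) := eE_pos p q m hpq hcop hm hnt c hc (by omega)
  have hLj1 : 1 ≤ lL p q m c (j + 1) := lL_pos p q m hpq hcop hm hnt c hc (by omega)
  have hEm := eE_mono p q m hpq hcop hm hnt c hc hji (by omega)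
  have hLm := lL_mono p q m hpq hcop hm hnt c hc hji (by omega)
  constructor
  · have : a1 = aa c x y (j + 1) * eE p q m c j + (-aa c x y j) * eE p q m c (j + 1) := by
      rw [ha1]; unfold eE; push_cast at hEd ⊢; linear_combination hEd
    have e1 : 0 ≤ aa c x y (j + 1) * eE p q m c j := mul_nonneg ha' (by linarith)
    have e2 : eE p q m c (j + 1) ≤ (-aa c x y j) * eE p q m c (j + 1) :=
      le_mul_of_one_le_left (by linarith) hμ
    linarith
  · have : a2 = aa c x y (j + 1) * lL p q m c j + (-aa c x y j) * lL p q m c (j + 1) := by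
      rw [ha2]; unfold lL; push_cast at hLd ⊢; linear_combination hLd
    have e1 : 0 ≤ aa c x y (j + 1) * lL p q m c j := mul_nonneg ha' (by linarith)
    have e2 : lL p q m c (j + 1) ≤ (-aa c x y j) * lL p q m c (j + 1) :=
      le_mul_of_one_le_left (by linarith) hμ
    linarith

end

end Groth.Agent.H9.HJ
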