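import Mathlib
import Groth.Agent.Lib.Helper9.Misc.HJ3

/-! Helper9: S15733, S15734 -/

open W4c2invhilbsl2

namespace Groth.Agent.H9.HJ

theorem emod_eq' (a b : ℤ) : Int.emod a b = a % b := rfl

theorem s15734 (p q m : ℕ) (hpq : p < q) (hcop : Nat.Coprime p q) (hm : 0 < m)
    (hnt : ¬ (q - p ∣ m)) (c : List ℤ) (hc : IsHJDigits p q m c) :
    (∀ i : ℕ, 1 ≤ i → i ≤ c.length →
      Int.emod ((tT p q m : ℤ) * hjP c i) (bB p q m : ℤ) = nN p q m c i / (gcdK p q m : ℤ)) ∧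
    (∀ i : ℕ, 1 < i → i ≤ c.length → ∀ x : ℤ, 0 < x → x < hjP c i →
      nN p q m c (i - 1) / (gcdK p q m : ℤ) ≤ Int.emod ((tT p q m : ℤ) * x) (bB p q m : ℤ) ∧
      Int.emod ((tT p q m : ℤ) * x) (bB p q m : ℤ) ≤
        (bB p q m : ℤ) + nN p q m c i / (gcdK p q m : ℤ) - nN p q m c (i - 1) / (gcdK p q m : ℤ)) := by
  obtain ⟨hg, hgb, hgt, ht1, htb, hcop'⟩ := basic p q m hpq hcop hm hnt
  have hgZ : (gcdK p q m : ℤ) ≠ 0 := by exact_mod_cast hg.ne'
  have hdivg : ∀ i, nN p q m c i / (gcdK p q m : ℤ) = TT p q m c i := by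
    intro i
    rw [nN_eq p q m hpq hcop hm hnt, Int.mul_ediv_cancel_left _ hgZ]
  have hb0 : (0 : ℤ) < bB p q m := by
    have : 0 < bB p q m := by omega
    exact_mod_cast this
  constructor
  · intro i hi1 hi
    rw [hdivg, emod_eq']
    have h1 : TT p q m c i < bB p q m := by
      rw [← TT_zero p q m c]
      exact TT_strict p q m hpq hcop hm hnt c hc (by omega) (by omega)
    have h0 : 0 ≤ TT p q m c i := TT_nonneg p q m hpq hcop hm hnt c hc (by omega)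
    have : (tT p q m : ℤ) * hjP c i = TT p q m c i + (bB p q m : ℤ) * hjQ c i := by
      unfold TT; ring
    rw [this, Int.add_mul_emod_self_left, Int.emod_eq_of_lt h0 h1]
  · intro i hi1 hi x hx0 hx
    rw [hdivg, hdivg, emod_eq']
    obtain ⟨y, hy⟩ : ∃ y : ℤ, y = (tT p q m : ℤ) * x / (bB p q m : ℤ) := ⟨_, rfl⟩
    have hρ : (tT p q m : ℤ) * x % (bB p q m : ℤ) = (tT p q m : ℤ) * x - (bB p q m : ℤ) * y := by
      rw [hy, Int.emod_def]
    have hρ0 : 0 ≤ (tT p q m : ℤ) * x % (bB p q m : ℤ) := Int.emod_nonneg _ hb0.ne'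
    have hρ1 : (tT p q m : ℤ) * x % (bB p q m : ℤ) < bB p q m := Int.emod_lt_of_pos _ hb0
    rw [hρ] at hρ0 hρ1 ⊢
    constructor
    · exact LB p q m hpq hcop hm hnt c hc i (by omega) (by omega) x y hx0 hx hρ0
    · have hTi : 0 ≤ TT p q m c i := TT_nonneg p q m hpq hcop hm hnt c hc (by omega)
      have := LB p q m hpq hcop hm hnt c hc i (by omega) (by omega) (hjP c i - x) (hjQ c i - y - 1)
        (by linarith) (by linarith) (by unfold TT at hTi; nlinarith)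
      unfold TT at this hTi ⊢
      linarith

theorem s15733 (p q m : ℕ) (hpq : p < q) (hcop : Nat.Coprime p q) (hm : 0 < m)
    (hnt : ¬ (q - p ∣ m)) (c : List ℤ) (hc : IsHJDigits p q m c) (i : ℕ) (hi : 1 < i)
    (hir : i ≤ c.length) (x : ℤ) (hx0 : 0 < x) (hx : x < hjP c i) :
    Int.emod ((p : ℤ) * m * x + nN p q m c i) ((q : ℤ) - p) =
      nN p q m c i + Int.emod ((p : ℤ) * m * x) ((q : ℤ) - p) := by
  obtain ⟨hg, hgb, hgt, ht1, htb, hcop'⟩ := basic p q m hpq hcop hm hnt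
  have hgbZ : (gcdK p q m : ℤ) * bB p q m = (q : ℤ) - p := by
    have : ((gcdK p q m * bB p q m : ℕ) : ℤ) = ((q - p : ℕ) : ℤ) := by rw [hgb]
    push_cast [Nat.cast_sub hpq.le] at this
    exact this
  have hgZ : (0 : ℤ) < gcdK p q m := by exact_mod_cast hg
  have hM : (0 : ℤ) < (q : ℤ) - p := by
    have : (p : ℤ) < q := by exact_mod_cast hpq
    linarith
  rw [emod_eq', emod_eq']
  obtain ⟨y', hy'⟩ : ∃ y' : ℤ, y' = (p : ℤ) * m * x / ((q : ℤ) - p) := ⟨_, rfl⟩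
  have hr : (p : ℤ) * m * x % ((q : ℤ) - p) = (p : ℤ) * m * x - ((q : ℤ) - p) * y' := by
    rw [hy', Int.emod_def]
  have hr0 : 0 ≤ (p : ℤ) * m * x % ((q : ℤ) - p) := Int.emod_nonneg _ hM.ne'
  have hr1 : (p : ℤ) * m * x % ((q : ℤ) - p) < (q : ℤ) - p := Int.emod_lt_of_pos _ hM
  -- the point (x, y)
  obtain ⟨y, hy⟩ : ∃ y : ℤ, y = ((alpha p q m : ℤ) + 1) * x - y' - 1 := ⟨_, rfl⟩
  have hkey : (gcdK p q m : ℤ) * ((tT p q m : ℤ) * x - (bB p q m : ℤ) * y) =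
      ((q : ℤ) - p) - (p : ℤ) * m * x % ((q : ℤ) - p) := by
    rw [hr, hy]
    linear_combination x * hgt + (-(((alpha p q m : ℤ) + 1) * x - y' - 1)) * hgbZ
  have hTpos : 0 < (tT p q m : ℤ) * x - (bB p q m : ℤ) * y := by
    have : 0 < (gcdK p q m : ℤ) * ((tT p q m : ℤ) * x - (bB p q m : ℤ) * y) := by rw [hkey]; linarith
    exact (mul_pos_iff_of_pos_left hgZ).mp this
  have hLB := LB p q m hpq hcop hm hnt c hc i (by omega) (by omega) x y hx0 hx hTpos.le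
  have hstrict := TT_strict p q m hpq hcop hm hnt c hc (i := i - 1) (j := i) (by omega) (by omega)
  have hni : nN p q m c i < ((q : ℤ) - p) - (p : ℤ) * m * x % ((q : ℤ) - p) := by
    rw [← hkey, nN_eq p q m hpq hcop hm hnt]
    exact mul_lt_mul_of_pos_left (by linarith) hgZ
  have hni0 : 0 ≤ nN p q m c i := by
    rw [nN_eq p q m hpq hcop hm hnt]
    exact mul_nonneg hgZ.le (TT_nonneg p q m hpq hcop hm hnt c hc (by omega))
  rw [Int.add_emod, Int.emod_eq_of_lt (a := nN p q m c i) hni0 (by linarith),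
    Int.emod_eq_of_lt (by linarith) (by linarith)]
  ring

end Groth.Agent.H9.HJ
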