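import Mathlib
import Groth.Agent.Lib.Helper9.Misc.HJ3

/-! Helper9: abstract comparison lemma for idealL quotients -/

open W4c2invhilbsl2

set_option linter.unusedSectionVars false

namespace Groth.Agent.H9.HJ

section
variable (p q m : ℕ) (hpq : p < q) (hcop : Nat.Coprime p q) (hm : 0 < m)
    (hnt : ¬ (q - p ∣ m)) (c : List ℤ) (hc : IsHJDigits p q m c)
include hpq hcop hm hnt hc

theorem nN_nonneg {i : ℕ} (hi : i ≤ c.length + 1) : 0 ≤ nN p q m c i := by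
  obtain ⟨hg, -⟩ := basic p q m hpq hcop hm hnt
  rw [nN_eq p q m hpq hcop hm hnt]
  exact mul_nonneg (by positivity) (TT_nonneg p q m hpq hcop hm hnt c hc hi)

theorem nN_pos {i : ℕ} (hi : i ≤ c.length) : 0 < nN p q m c i := by
  obtain ⟨hg, -⟩ := basic p q m hpq hcop hm hnt
  obtain ⟨hT0, hT1⟩ := TT_last p q m hpq hcop hm hnt c hc
  rw [nN_eq p q m hpq hcop hm hnt]
  have := TT_anti p q m hpq hcop hm hnt c hc hi (by omega : c.length ≤ c.length + 1)
  have hgZ : (0 : ℤ) < gcdK p q m := by exact_mod_cast hg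
  exact mul_pos hgZ (by linarith)

theorem nN_strict {i j : ℕ} (hij : i < j) (hj : j ≤ c.length + 1) : nN p q m c j < nN p q m c i := by
  obtain ⟨hg, -⟩ := basic p q m hpq hcop hm hnt
  have hgZ : (0 : ℤ) < gcdK p q m := by exact_mod_cast hg
  rw [nN_eq p q m hpq hcop hm hnt, nN_eq p q m hpq hcop hm hnt]
  exact mul_lt_mul_of_pos_left (TT_strict p q m hpq hcop hm hnt c hc hij hj) hgZ

theorem nN_le_q {i : ℕ} (hi : i ≤ c.length + 1) : nN p q m c i ≤ (q : ℤ) - p := by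
  obtain ⟨hg, hgb, -⟩ := basic p q m hpq hcop hm hnt
  have hgbZ : (gcdK p q m : ℤ) * bB p q m = (q : ℤ) - p := by
    have : ((gcdK p q m * bB p q m : ℕ) : ℤ) = ((q - p : ℕ) : ℤ) := by rw [hgb]
    push_cast [Nat.cast_sub hpq.le] at this
    exact this
  have hgZ : (0 : ℤ) < gcdK p q m := by exact_mod_cast hg
  rw [← hgbZ, nN_eq p q m hpq hcop hm hnt, ← TT_zero p q m c]
  exact mul_le_mul_of_nonneg_left (TT_anti p q m hpq hcop hm hnt c hc (Nat.zero_le _) hi) hgZ.le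

theorem eE_sub_lL (i : ℕ) : eE p q m c i - lL p q m c i = (m : ℤ) * hjP c i := by
  unfold eE lL; push_cast; ring

end

/-- abstract comparison in a ring with the relations of `idealL`. -/
structure Rel (p q m : ℕ) (k : Type*) [Field k] (R : Type*) [CommRing R] [Algebra k R]
    (x0 x1 x2 : R) (n' n E Lc : ℕ) (s : k) : Prop where
  hK : ∀ d0 d1 d2 : ℕ, ¬ (d0 = 0 ∧ d1 = 0 ∧ d2 = 0) → (d0 : ℤ) - p * d1 + q * d2 = 0 →
    (m : ℤ) ∣ (d1 : ℤ) - d2 → x0 ^ d0 * x1 ^ d1 * x2 ^ d2 = 0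
  hA : x0 ^ n' = 0
  hB : x1 ^ E * x2 ^ Lc = s • x0 ^ n

section abstract
variable (p q m : ℕ) (hpq : p < q) (hcop : Nat.Coprime p q) (hm : 0 < m)
    (hnt : ¬ (q - p ∣ m)) (c : List ℤ) (hc : IsHJDigits p q m c)
    (i : ℕ) (hi1 : 1 ≤ i) (hir : i ≤ c.length)
    {k : Type*} [Field k] {R : Type*} [CommRing R] [Algebra k R]
    (x0 x1 x2 : R) (s : k)
    (hR : Rel p q m k R x0 x1 x2 (nN p q m c (i - 1)).toNat (nN p q m c i).toNat
      (eE p q m c i).toNat (lL p q m c i).toNat s)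
include hpq hcop hm hnt hc hi1 hir hR

theorem lemA : ∀ N a1 a2 : ℕ, (q : ℤ) * a2 - p * a1 = N → (m : ℤ) ∣ (a1 : ℤ) - a2 →
    x0 ^ N = 0 ∨ ∃ cst : k, x1 ^ a1 * x2 ^ a2 = cst • x0 ^ N := by
  have hn' : ((nN p q m c (i - 1)).toNat : ℤ) = nN p q m c (i - 1) :=
    Int.toNat_of_nonneg (nN_nonneg p q m hpq hcop hm hnt c hc (by omega))
  have hn : ((nN p q m c i).toNat : ℤ) = nN p q m c i :=
    Int.toNat_of_nonneg (nN_nonneg p q m hpq hcop hm hnt c hc (by omega))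
  have hE : ((eE p q m c i).toNat : ℤ) = eE p q m c i :=
    Int.toNat_of_nonneg (by have := eE_pos p q m hpq hcop hm hnt c hc (i := i) (by omega); linarith)
  have hL : ((lL p q m c i).toNat : ℤ) = lL p q m c i :=
    Int.toNat_of_nonneg (by have := lL_pos p q m hpq hcop hm hnt c hc (i := i) (by omega); linarith)
  have hnpos : 0 < nN p q m c i := nN_pos p q m hpq hcop hm hnt c hc hir
  have hEL : (q : ℤ) * lL p q m c i - p * eE p q m c i = nN p q m c i := by unfold nN; ring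
  have hELm := eE_sub_lL p q m hpq hcop hm hnt c hc i
  obtain ⟨n', hn'def⟩ : ∃ n', n' = (nN p q m c (i - 1)).toNat := ⟨_, rfl⟩
  obtain ⟨n, hndef⟩ : ∃ n, n = (nN p q m c i).toNat := ⟨_, rfl⟩
  obtain ⟨E, hEdef⟩ : ∃ E, E = (eE p q m c i).toNat := ⟨_, rfl⟩
  obtain ⟨Lc, hLdef⟩ : ∃ Lc, Lc = (lL p q m c i).toNat := ⟨_, rfl⟩
  rw [← hn'def, ← hndef, ← hEdef, ← hLdef] at hR
  rw [← hn'def] at hn'
  rw [← hndef] at hn
  rw [← hEdef] at hE
  rw [← hLdef] at hL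
  intro N
  induction N using Nat.strong_induction_on with
  | _ N ih =>
    intro a1 a2 hN hdiv
    rcases Nat.eq_zero_or_pos N with h0 | hpos
    · subst h0
      right
      by_cases ha : a1 = 0 ∧ a2 = 0
      · exact ⟨1, by rw [ha.1, ha.2]; simp⟩
      · refine ⟨0, ?_⟩
        have := hR.hK 0 a1 a2 (by tauto) (by push_cast at hN ⊢; linarith) hdiv
        rw [pow_zero, one_mul] at this
        rw [this, zero_smul]
    · by_cases hN' : n' ≤ N
      · left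
        rw [← Nat.sub_add_cancel hN', pow_add, hR.hA, mul_zero]
      · push Not at hN'
        obtain ⟨hle1, hle2⟩ := LL p q m hpq hcop hm hnt c hc i hi1 (by omega) a1 a2 (by positivity)
          (by positivity) hdiv (by rw [hN]; exact_mod_cast hpos) (by rw [hN, ← hn']; exact_mod_cast hN')
        rw [← hE] at hle1
        rw [← hL] at hle2
        have hle1' : E ≤ a1 := by exact_mod_cast hle1
        have hle2' : Lc ≤ a2 := by exact_mod_cast hle2
        obtain ⟨a1', rfl⟩ := Nat.exists_eq_add_of_le hle1'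
        obtain ⟨a2', rfl⟩ := Nat.exists_eq_add_of_le hle2'
        have hrew : x1 ^ (E + a1') * x2 ^ (Lc + a2') = s • (x0 ^ n * (x1 ^ a1' * x2 ^ a2')) := by
          rw [pow_add, pow_add, ← smul_mul_assoc, ← hR.hB]; ring
        have hN2 : (q : ℤ) * a2' - p * a1' = (N : ℤ) - n := by
          push_cast at hN; rw [hn, ← hEL, ← hE, ← hL]; linarith
        have hdiv2 : (m : ℤ) ∣ (a1' : ℤ) - a2' := by
          have : (a1' : ℤ) - a2' = ((E + a1' : ℕ) : ℤ) - ((Lc + a2' : ℕ) : ℤ) - (m : ℤ) * hjP c i := by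
            push_cast; rw [← hELm, hE, hL]; ring
          rw [this]
          exact dvd_sub hdiv (dvd_mul_right _ _)
        by_cases hnN : n ≤ N
        · obtain ⟨N', rfl⟩ := Nat.exists_eq_add_of_le hnN
          have hnpos' : 0 < n := by
            have : (0 : ℤ) < n := by rw [hn]; exact hnpos
            exact_mod_cast this
          rcases ih N' (by omega) a1' a2' (by rw [hN2]; push_cast; ring) hdiv2 with h | ⟨cst, h⟩
          · left; rw [pow_add, h, mul_zero]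
          · right
            refine ⟨s * cst, ?_⟩
            rw [hrew, h, mul_smul_comm, smul_smul, pow_add]
        · push Not at hnN
          right
          refine ⟨0, ?_⟩
          obtain ⟨e0, he0⟩ := Nat.exists_eq_add_of_lt hnN
          have := hR.hK (e0 + 1) a1' a2' (by omega) (by rw [he0] at hN2; push_cast at hN2 ⊢; linarith) hdiv2
          rw [hrew, zero_smul, he0]
          have e : x0 ^ (N + e0 + 1) * (x1 ^ a1' * x2 ^ a2') =
              x0 ^ N * (x0 ^ (e0 + 1) * x1 ^ a1' * x2 ^ a2') := by ring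
          rw [e, this, mul_zero, smul_zero]

/-- half comparison -/
theorem cmp_half (d0 d1 d2 d0' d1' d2' : ℕ)
    (hw : (d0 : ℤ) - p * d1 + q * d2 = (d0' : ℤ) - p * d1' + q * d2')
    (hdiv : (m : ℤ) ∣ ((d1 : ℤ) - d2) - ((d1' : ℤ) - d2'))
    (h1 : d1' ≤ d1) (h2 : d2' ≤ d2) :
    (∃ cst : k, x0 ^ d0 * x1 ^ d1 * x2 ^ d2 = cst • (x0 ^ d0' * x1 ^ d1' * x2 ^ d2')) ∨
    (∃ cst : k, x0 ^ d0' * x1 ^ d1' * x2 ^ d2' = cst • (x0 ^ d0 * x1 ^ d1 * x2 ^ d2)) := by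
  obtain ⟨a1, rfl⟩ := Nat.exists_eq_add_of_le h1
  obtain ⟨a2, rfl⟩ := Nat.exists_eq_add_of_le h2
  have hdiv' : (m : ℤ) ∣ (a1 : ℤ) - a2 := by
    have : (a1 : ℤ) - a2 = ((d1' + a1 : ℕ) : ℤ) - ((d2' + a2 : ℕ) : ℤ) - ((d1' : ℤ) - d2') := by
      push_cast; ring
    rw [this]; exact hdiv
  rcases le_or_gt d0' d0 with h0 | h0
  · obtain ⟨e0, rfl⟩ := Nat.exists_eq_add_of_le h0
    left
    by_cases hz : e0 = 0 ∧ a1 = 0 ∧ a2 = 0
    · obtain ⟨rfl, rfl, rfl⟩ := hz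
      exact ⟨1, by simp⟩
    · refine ⟨0, ?_⟩
      have := hR.hK e0 a1 a2 hz (by push_cast at hw ⊢; linarith) hdiv'
      rw [zero_smul]
      have e : x0 ^ (d0' + e0) * x1 ^ (d1' + a1) * x2 ^ (d2' + a2) =
          x0 ^ d0' * x1 ^ d1' * x2 ^ d2' * (x0 ^ e0 * x1 ^ a1 * x2 ^ a2) := by ring
      rw [e, this, mul_zero]
  · obtain ⟨N, rfl⟩ := Nat.exists_eq_add_of_le h0.le
    rcases lemA p q m hpq hcop hm hnt c hc i hi1 hir x0 x1 x2 s hR N a1 a2
      (by push_cast at hw ⊢; linarith) hdiv' with h | ⟨cst, h⟩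
    · right
      exact ⟨0, by rw [zero_smul, pow_add, h]; ring⟩
    · left
      refine ⟨cst, ?_⟩
      have e : x0 ^ d0 * x1 ^ (d1' + a1) * x2 ^ (d2' + a2) =
          x0 ^ d0 * x1 ^ d1' * x2 ^ d2' * (x1 ^ a1 * x2 ^ a2) := by ring
      rw [e, h, mul_smul_comm, pow_add]
      congr 1; ring

theorem cmp_mixed (d0 d1 d2 d0' d1' d2' : ℕ)
    (hw : (d0 : ℤ) - p * d1 + q * d2 = (d0' : ℤ) - p * d1' + q * d2')
    (h1 : d1' < d1) (h2 : d2 < d2') :
    x0 ^ d0 * x1 ^ d1 * x2 ^ d2 = 0 := by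
  have hn' : ((nN p q m c (i - 1)).toNat : ℤ) = nN p q m c (i - 1) :=
    Int.toNat_of_nonneg (nN_nonneg p q m hpq hcop hm hnt c hc (by omega))
  have hle := nN_le_q p q m hpq hcop hm hnt c hc (i := i - 1) (by omega)
  have h1' : (d1' : ℤ) + 1 ≤ d1 := by exact_mod_cast h1
  have h2' : (d2 : ℤ) + 1 ≤ d2' := by exact_mod_cast h2
  have hq : (0 : ℤ) ≤ q := by positivity
  have hp : (0 : ℤ) ≤ p := by positivity
  have e1 : (p : ℤ) * (d1' + 1) ≤ p * d1 := mul_le_mul_of_nonneg_left h1' hp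
  have e2 : (q : ℤ) * (d2 + 1) ≤ q * d2' := mul_le_mul_of_nonneg_left h2' hq
  have hd0 : (nN p q m c (i - 1)).toNat ≤ d0 := by
    have : ((nN p q m c (i - 1)).toNat : ℤ) ≤ d0 := by
      rw [hn']
      have : (0 : ℤ) ≤ d0' := by positivity
      linarith
    exact_mod_cast this
  rw [← Nat.sub_add_cancel hd0, pow_add, hR.hA]; ring

theorem cmp (d0 d1 d2 d0' d1' d2' : ℕ)
    (hw : (d0 : ℤ) - p * d1 + q * d2 = (d0' : ℤ) - p * d1' + q * d2')
    (hdiv : (m : ℤ) ∣ ((d1 : ℤ) - d2) - ((d1' : ℤ) - d2')) :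
    (∃ cst : k, x0 ^ d0 * x1 ^ d1 * x2 ^ d2 = cst • (x0 ^ d0' * x1 ^ d1' * x2 ^ d2')) ∨
    (∃ cst : k, x0 ^ d0' * x1 ^ d1' * x2 ^ d2' = cst • (x0 ^ d0 * x1 ^ d1 * x2 ^ d2)) := by
  rcases le_or_gt d1' d1 with h1 | h1
  · rcases le_or_gt d2' d2 with h2 | h2
    · exact cmp_half p q m hpq hcop hm hnt c hc i hi1 hir x0 x1 x2 s hR d0 d1 d2 d0' d1' d2' hw hdiv h1 h2
    · rcases Nat.eq_or_lt_of_le h1 with h1e | h1l
      · refine (cmp_half p q m hpq hcop hm hnt c hc i hi1 hir x0 x1 x2 s hR d0' d1' d2' d0 d1 d2 hw.symm ?_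
          (by omega) h2.le).symm
        obtain ⟨z, hz⟩ := hdiv
        exact ⟨-z, by rw [mul_neg, ← hz]; ring⟩
      · left
        exact ⟨0, by rw [cmp_mixed p q m hpq hcop hm hnt c hc i hi1 hir x0 x1 x2 s hR d0 d1 d2 d0' d1' d2' hw h1l h2, zero_smul]⟩
  · rcases le_or_gt d2 d2' with h2 | h2
    · refine (cmp_half p q m hpq hcop hm hnt c hc i hi1 hir x0 x1 x2 s hR d0' d1' d2' d0 d1 d2 hw.symm ?_
          h1.le h2).symm
      obtain ⟨z, hz⟩ := hdiv
      exact ⟨-z, by rw [mul_neg, ← hz]; ring⟩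
    · right
      exact ⟨0, by rw [cmp_mixed p q m hpq hcop hm hnt c hc i hi1 hir x0 x1 x2 s hR d0' d1' d2' d0 d1 d2 hw.symm h1 h2, zero_smul]⟩

end abstract

end Groth.Agent.H9.HJ
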