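import Mathlib
import Groth.Prelude.Def_W4c2invhilbsl2

/-! Helper9: general monomial lemmas for the W4c2invhilbsl2 cluster. -/

open MvPolynomial

namespace Groth.Agent.H9.InvHilb

universe u

section general
variable {σ : Type*} {k : Type u} [CommRing k] {M : Type*} [AddCommGroup M] (w : σ → M)

/-- monomial induction -/
theorem wh_le (ν : M) (N : Submodule k (MvPolynomial σ k))
    (h : ∀ d : σ →₀ ℕ, Finsupp.weight w d = ν → monomial d (1 : k) ∈ N) :
    weightedHomogeneousSubmodule k w ν ≤ N := by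
  intro f hf
  rw [← f.support_sum_monomial_coeff]
  refine N.sum_mem fun d hd => ?_
  have : monomial d (coeff d f) = coeff d f • monomial d (1 : k) := by
    rw [smul_monomial, smul_eq_mul, mul_one]
  rw [this]
  exact N.smul_mem _ (h d (hf (mem_support_iff.mp hd)))

theorem monomial_mem_zero {ν : M} {d e : σ →₀ ℕ} (hd : Finsupp.weight w d = ν)
    (he : Finsupp.weight w e = ν) (hle : e ≤ d) :
    monomial (d - e) (1 : k) ∈ weightedHomogeneousSubmodule k w 0 := by
  have hsum : d - e + e = d := tsub_add_cancel_of_le hle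
  apply isWeightedHomogeneous_monomial
  have := congrArg (Finsupp.weight w) hsum
  rw [map_add, hd, he] at this
  exact add_eq_right.mp this

theorem monomial_split {d e : σ →₀ ℕ} (hle : e ≤ d) :
    monomial d (1 : k) = monomial (d - e) 1 * monomial e 1 := by
  rw [monomial_mul, tsub_add_cancel_of_le hle, mul_one]

end general

section field
variable {σ : Type*} {k : Type u} [Field k] {M : Type*} [AddCommGroup M] (w : σ → M)

theorem rank_piece_le_one (I : Ideal (MvPolynomial σ k)) (ν : M)
    (h : ∀ d d' : σ →₀ ℕ, Finsupp.weight w d = ν → Finsupp.weight w d' = ν →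
      (∃ c : k, Ideal.Quotient.mk I (monomial d 1) = c • Ideal.Quotient.mk I (monomial d' 1)) ∨
      (∃ c : k, Ideal.Quotient.mk I (monomial d' 1) = c • Ideal.Quotient.mk I (monomial d 1))) :
    Module.rank k (W4c2invhilbsl2.piece k w I ν) ≤ 1 := by
  have hx : ∃ x₀ : MvPolynomial σ k ⧸ I, ∀ d : σ →₀ ℕ, Finsupp.weight w d = ν →
      Ideal.Quotient.mk I (monomial d 1) ∈ Submodule.span k {x₀} := by
    by_cases hall : ∀ d : σ →₀ ℕ, Finsupp.weight w d = ν → Ideal.Quotient.mk I (monomial d (1 : k)) = 0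
    · exact ⟨0, fun d hd => by rw [hall d hd]; exact Submodule.zero_mem _⟩
    · push Not at hall
      obtain ⟨d₀, hd₀, hne⟩ := hall
      refine ⟨Ideal.Quotient.mk I (monomial d₀ 1), fun d hd => ?_⟩
      rcases h d d₀ hd hd₀ with ⟨c, hc⟩ | ⟨c, hc⟩
      · rw [hc]; exact Submodule.smul_mem _ _ (Submodule.mem_span_singleton_self _)
      · have hc0 : c ≠ 0 := by
          rintro rfl
          rw [zero_smul] at hc
          exact hne hc
        have : Ideal.Quotient.mk I (monomial d 1) = c⁻¹ • Ideal.Quotient.mk I (monomial d₀ 1) := by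
          rw [hc, smul_smul, inv_mul_cancel₀ hc0, one_smul]
        rw [this]; exact Submodule.smul_mem _ _ (Submodule.mem_span_singleton_self _)
  obtain ⟨x₀, hx₀⟩ := hx
  have hle : W4c2invhilbsl2.piece k w I ν ≤ Submodule.span k {x₀} := by
    rw [W4c2invhilbsl2.piece, Submodule.map_le_iff_le_comap]
    exact wh_le w ν _ (fun d hd => hx₀ d hd)
  calc Module.rank k (W4c2invhilbsl2.piece k w I ν) ≤ Module.rank k (Submodule.span k {x₀}) :=
        Submodule.rank_mono hle
    _ ≤ 1 := by
        refine (rank_span_le _).trans ?_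
        simp

end field

section NN
variable {σ : Type*} {k : Type u} [CommRing k] {M : Type*} [AddCommGroup M] (w : σ → M)
  {ι : Type*} [Fintype ι]

/-- combinations of the `g i` with weight-zero coefficients, modulo `P` -/
def NN (P : Ideal (MvPolynomial σ k)) (g : ι → MvPolynomial σ k) : Submodule k (MvPolynomial σ k) where
  carrier := {f | ∃ a : ι → MvPolynomial σ k, (∀ i, a i ∈ weightedHomogeneousSubmodule k w 0) ∧
    f - ∑ i, a i * g i ∈ P}
  zero_mem' := ⟨0, fun i => Submodule.zero_mem _, by simp⟩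
  add_mem' := by
    rintro f f' ⟨a, ha, h⟩ ⟨a', ha', h'⟩
    refine ⟨a + a', fun i => Submodule.add_mem _ (ha i) (ha' i), ?_⟩
    have := P.add_mem h h'
    convert this using 1
    simp only [Pi.add_apply, add_mul, Finset.sum_add_distrib]
    ring
  smul_mem' := by
    rintro c f ⟨a, ha, h⟩
    refine ⟨c • a, fun i => Submodule.smul_mem _ c (ha i), ?_⟩
    have := P.mul_mem_left (C c) h
    convert this using 1
    simp only [Pi.smul_apply, MvPolynomial.smul_eq_C_mul, mul_assoc, ← Finset.mul_sum]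
    ring

variable {w}

theorem mem_NN {P : Ideal (MvPolynomial σ k)} {g : ι → MvPolynomial σ k} {f : MvPolynomial σ k} :
    f ∈ NN w P g ↔ ∃ a : ι → MvPolynomial σ k, (∀ i, a i ∈ weightedHomogeneousSubmodule k w 0) ∧
      f - ∑ i, a i * g i ∈ P := Iff.rfl

theorem one_mem_W0 : (1 : MvPolynomial σ k) ∈ weightedHomogeneousSubmodule k w 0 :=
  isWeightedHomogeneous_one k w

theorem mul_mem_W0 {a b : MvPolynomial σ k} (ha : a ∈ weightedHomogeneousSubmodule k w 0)
    (hb : b ∈ weightedHomogeneousSubmodule k w 0) : a * b ∈ weightedHomogeneousSubmodule k w 0 := by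
  have := IsWeightedHomogeneous.mul ha hb
  rwa [add_zero] at this

theorem gen_mul_mem_NN [DecidableEq ι] (P : Ideal (MvPolynomial σ k)) (g : ι → MvPolynomial σ k) (i : ι)
    {c : MvPolynomial σ k} (hc : c ∈ weightedHomogeneousSubmodule k w 0) : c * g i ∈ NN w P g := by
  refine ⟨Pi.single i c, fun j => ?_, ?_⟩
  · by_cases h : j = i
    · subst h; simpa using hc
    · rw [Pi.single_eq_of_ne h]; exact Submodule.zero_mem _
  · have : ∑ j, (Pi.single i c : ι → MvPolynomial σ k) j * g j = c * g i := by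
      rw [Finset.sum_eq_single i]
      · simp
      · intro j _ hj; rw [Pi.single_eq_of_ne hj, zero_mul]
      · simp
    rw [this, sub_self]; exact P.zero_mem

theorem mul_mem_NN {P : Ideal (MvPolynomial σ k)} {g : ι → MvPolynomial σ k}
    {c f : MvPolynomial σ k} (hc : c ∈ weightedHomogeneousSubmodule k w 0) (hf : f ∈ NN w P g) :
    c * f ∈ NN w P g := by
  obtain ⟨a, ha, h⟩ := hf
  refine ⟨fun i => c * a i, fun i => mul_mem_W0 hc (ha i), ?_⟩
  have := P.mul_mem_left c h
  convert this using 1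
  simp only [mul_assoc, ← Finset.mul_sum]
  ring

theorem mem_NN_of_sub_mem {P : Ideal (MvPolynomial σ k)} {g : ι → MvPolynomial σ k}
    {f f' : MvPolynomial σ k} (h : f - f' ∈ P) (hf' : f' ∈ NN w P g) : f ∈ NN w P g := by
  obtain ⟨a, ha, h'⟩ := hf'
  refine ⟨a, ha, ?_⟩
  have := P.add_mem h h'
  convert this using 1
  ring

/-- a monomial divisible by a generator monomial of the same weight -/
theorem monomial_mem_NN_of_le [DecidableEq ι] {P : Ideal (MvPolynomial σ k)} {g : ι → MvPolynomial σ k} {ν : M}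
    {d e : σ →₀ ℕ} (i : ι) (hg : g i = monomial e 1) (hd : Finsupp.weight w d = ν)
    (he : Finsupp.weight w e = ν) (hle : e ≤ d) : monomial d (1 : k) ∈ NN w P g := by
  rw [monomial_split hle, ← hg]
  exact gen_mul_mem_NN P g i (monomial_mem_zero w hd he hle)

end NN

section wt
open W4c2invhilbsl2
variable (p q m : ℕ)

theorem weight5 (d : Fin 5 →₀ ℕ) : Finsupp.weight (wt5 p q m) d =
    (((d 0 : ℤ) - p * ((d 1 : ℤ) + d 2) + q * ((d 3 : ℤ) + d 4)),
      ((d 3 : ZMod m) + (d 4 : ZMod m)) - ((d 1 : ZMod m) + (d 2 : ZMod m))) := by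
  rw [Finsupp.weight_eq_sum, Fin.sum_univ_five]
  simp only [wt5, Matrix.cons_val_zero, Matrix.cons_val_one, Matrix.cons_val]
  ext
  · simp; ring
  · simp; ring

theorem weight3 (d : Fin 3 →₀ ℕ) : Finsupp.weight (wt3 p q m) d =
    (((d 0 : ℤ) - p * (d 1 : ℤ) + q * (d 2 : ℤ)), (d 2 : ZMod m) - (d 1 : ZMod m)) := by
  rw [Finsupp.weight_eq_sum, Fin.sum_univ_three]
  simp only [wt3, Matrix.cons_val_zero, Matrix.cons_val_one, Matrix.cons_val]
  ext
  · simp; ring
  · simp; ring

end wt

end Groth.Agent.H9.InvHilb
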