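import Mathlib
import Groth.Agent.Lib.Helper9.Misc.InvHilb

/-! Helper9: W4c2invhilbsl2 generation statements (S15724-S15726). -/

open MvPolynomial W4c2invhilbsl2

namespace Groth.Agent.H9.InvHilb

universe u

theorem single_le_of_le {σ : Type*} [DecidableEq σ] {d : σ →₀ ℕ} {i : σ} {n : ℕ} (h : n ≤ d i) :
    Finsupp.single i n ≤ d := by
  intro j
  by_cases hj : j = i
  · subst hj; simpa using h
  · rw [Finsupp.single_apply, if_neg (Ne.symm hj)]; exact Nat.zero_le _

theorem single_add_single_le {σ : Type*} [DecidableEq σ] {d : σ →₀ ℕ} {i j : σ} (hij : i ≠ j)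
    (hi : 1 ≤ d i) (hj : 1 ≤ d j) : Finsupp.single i 1 + Finsupp.single j 1 ≤ d := by
  intro l
  rw [Finsupp.add_apply, Finsupp.single_apply, Finsupp.single_apply]
  by_cases h1 : i = l
  · subst h1; rw [if_pos rfl, if_neg (Ne.symm hij)]; simpa using hi
  · by_cases h2 : j = l
    · subst h2; rw [if_neg h1, if_pos rfl]; simpa using hj
    · rw [if_neg h1, if_neg h2]; exact Nat.zero_le _

section s15725
variable (k : Type u) [Field k] (p q m : ℕ)

theorem s15725 (hp : 0 < p) (hpq : p < q) (f : MvPolynomial (Fin 3) k)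
    (hf : f ∈ weightedHomogeneousSubmodule k (wt3 p q m) ((q : ℤ) - (p : ℤ), (0 : ZMod m))) :
    ∃ a b : MvPolynomial (Fin 3) k, a ∈ weightedHomogeneousSubmodule k (wt3 p q m) 0 ∧
      b ∈ weightedHomogeneousSubmodule k (wt3 p q m) 0 ∧
      f = a * X (0 : Fin 3) ^ (q - p) + b * (X (1 : Fin 3) * X (2 : Fin 3)) := by
  classical
  let g : Fin 2 → MvPolynomial (Fin 3) k := ![X 0 ^ (q - p), X 1 * X 2]
  have hg0 : g 0 = monomial (Finsupp.single 0 (q - p)) 1 := by simp [g, X_pow_eq_monomial]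
  have hg1 : g 1 = monomial (Finsupp.single 1 1 + Finsupp.single 2 1) 1 := by
    simp only [g, Matrix.cons_val_one, Matrix.cons_val_zero]
    rw [X, X, monomial_mul, mul_one]
  have he0 : Finsupp.weight (wt3 p q m) (Finsupp.single 0 (q - p)) = ((q : ℤ) - p, (0 : ZMod m)) := by
    rw [weight3]
    ext
    · simp; omega
    · simp
  have he1 : Finsupp.weight (wt3 p q m) (Finsupp.single (1 : Fin 3) 1 + Finsupp.single 2 1) =
      ((q : ℤ) - p, (0 : ZMod m)) := by
    rw [weight3]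
    ext
    · simp; ring
    · simp
  have key : weightedHomogeneousSubmodule k (wt3 p q m) ((q : ℤ) - p, (0 : ZMod m)) ≤
      NN (wt3 p q m) ⊥ g := by
    refine wh_le _ _ _ fun d hd => ?_
    have hd' := hd
    rw [weight3, Prod.ext_iff] at hd'
    obtain ⟨h1, -⟩ := hd'
    simp only at h1
    by_cases h : 1 ≤ d 1 ∧ 1 ≤ d 2
    · exact monomial_mem_NN_of_le 1 hg1 hd he1 (single_add_single_le (by decide) h.1 h.2)
    · have hle : q - p ≤ d 0 := by
        have h' : d 1 = 0 ∨ d 2 = 0 := by omega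
        rcases h' with h' | h'
        · rw [h'] at h1
          rcases Nat.eq_zero_or_pos (d 2) with h2 | h2
          · rw [h2] at h1; simp at h1; omega
          · have : (q : ℤ) ≤ q * d 2 := by
              have : (1 : ℤ) ≤ d 2 := by exact_mod_cast h2
              nlinarith
            simp at h1
            have hd0 : (0 : ℤ) ≤ d 0 := by positivity
            omega
        · rw [h'] at h1
          simp at h1
          have : (0 : ℤ) ≤ (p : ℤ) * d 1 := by positivity
          omega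
      exact monomial_mem_NN_of_le 0 hg0 hd he0 (single_le_of_le hle)
  obtain ⟨a, ha, h⟩ := key hf
  refine ⟨a 0, a 1, ha 0, ha 1, ?_⟩
  rw [Fin.sum_univ_two, Ideal.mem_bot, sub_eq_zero] at h
  rw [h]
  simp [g]

end s15725

section fin5
variable (k : Type u) [Field k] (p q m : ℕ)

theorem weight_tsub {σ : Type*} {M : Type*} [AddCommGroup M] (w : σ → M) {d e : σ →₀ ℕ} (hle : e ≤ d) :
    Finsupp.weight w (d - e) = Finsupp.weight w d - Finsupp.weight w e := by
  have hsum : d - e + e = d := tsub_add_cancel_of_le hle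
  have := congrArg (Finsupp.weight w) hsum
  rw [map_add] at this
  rw [← this]; abel

theorem X_mul_X_eq {σ : Type*} (i j : σ) :
    (X i * X j : MvPolynomial σ k) = monomial (Finsupp.single i 1 + Finsupp.single j 1) 1 := by
  rw [X, X, monomial_mul, mul_one]

/-- the hypersurface ideal -/
noncomputable abbrev PP : Ideal (MvPolynomial (Fin 5) k) :=
  Ideal.span {X (0 : Fin 5) ^ (q - p) - X 1 * X 4 + X 2 * X 3}

theorem hyp_mem : (X (0 : Fin 5) ^ (q - p) - X 1 * X 4 + X 2 * X 3 : MvPolynomial (Fin 5) k) ∈ PP k p q :=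
  Ideal.subset_span rfl

theorem wt5_1 : wt5 p q m 1 = (-(p : ℤ), (-1 : ZMod m)) := rfl
theorem wt5_2 : wt5 p q m 2 = (-(p : ℤ), (-1 : ZMod m)) := rfl
theorem wt5_3 : wt5 p q m 3 = ((q : ℤ), (1 : ZMod m)) := rfl
theorem wt5_4 : wt5 p q m 4 = ((q : ℤ), (1 : ZMod m)) := rfl
theorem wt5_0 : wt5 p q m 0 = ((1 : ℤ), (0 : ZMod m)) := rfl

theorem weight5_single (i : Fin 5) (n : ℕ) :
    Finsupp.weight (wt5 p q m) (Finsupp.single i n) = n • wt5 p q m i :=
  Finsupp.weight_single _ _ _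

theorem weight5_X0pow (hpq : p < q) :
    Finsupp.weight (wt5 p q m) (Finsupp.single 0 (q - p)) = ((q : ℤ) - p, (0 : ZMod m)) := by
  rw [weight5_single, wt5_0]
  ext
  · simp; omega
  · simp

theorem s15724a (hp : 0 < p) (f : MvPolynomial (Fin 5) k)
    (hf : f ∈ weightedHomogeneousSubmodule k (wt5 p q m) (wt5 p q m 1)) :
    ∃ a b : MvPolynomial (Fin 5) k, a ∈ weightedHomogeneousSubmodule k (wt5 p q m) 0 ∧
      b ∈ weightedHomogeneousSubmodule k (wt5 p q m) 0 ∧
      f - (a * X (1 : Fin 5) + b * X (2 : Fin 5)) ∈ PP k p q := by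
  classical
  let g : Fin 2 → MvPolynomial (Fin 5) k := ![X 1, X 2]
  have hg0 : g 0 = monomial (Finsupp.single 1 1) 1 := rfl
  have hg1 : g 1 = monomial (Finsupp.single 2 1) 1 := rfl
  have he0 : Finsupp.weight (wt5 p q m) (Finsupp.single 1 1) = wt5 p q m 1 := by
    rw [weight5_single, one_smul]
  have he1 : Finsupp.weight (wt5 p q m) (Finsupp.single 2 1) = wt5 p q m 1 := by
    rw [weight5_single, one_smul]; rfl
  have key : weightedHomogeneousSubmodule k (wt5 p q m) (wt5 p q m 1) ≤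
      NN (wt5 p q m) (PP k p q) g := by
    refine wh_le _ _ _ fun d hd => ?_
    have hd' := hd
    rw [weight5, wt5_1, Prod.ext_iff] at hd'
    obtain ⟨h1, -⟩ := hd'
    simp only at h1
    have h' : 1 ≤ d 1 ∨ 1 ≤ d 2 := by
      by_contra hcon
      push Not at hcon
      have h10 : d 1 = 0 := by omega
      have h20 : d 2 = 0 := by omega
      rw [h10, h20] at h1
      simp at h1
      have : (0 : ℤ) ≤ (q : ℤ) * ((d 3 : ℤ) + d 4) := by positivity
      have hd0 : (0 : ℤ) ≤ d 0 := by positivity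
      have hp' : (0 : ℤ) < p := by exact_mod_cast hp
      omega
    rcases h' with h' | h'
    · exact monomial_mem_NN_of_le 0 hg0 hd he0 (single_le_of_le h')
    · exact monomial_mem_NN_of_le 1 hg1 hd he1 (single_le_of_le h')
  obtain ⟨a, ha, h⟩ := key hf
  refine ⟨a 0, a 1, ha 0, ha 1, ?_⟩
  rw [Fin.sum_univ_two] at h
  exact h

theorem s15724b (hp : 0 < p) (hpq : p < q) (f : MvPolynomial (Fin 5) k)
    (hf : f ∈ weightedHomogeneousSubmodule k (wt5 p q m) (wt5 p q m 3)) :
    ∃ a b : MvPolynomial (Fin 5) k, a ∈ weightedHomogeneousSubmodule k (wt5 p q m) 0 ∧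
      b ∈ weightedHomogeneousSubmodule k (wt5 p q m) 0 ∧
      f - (a * X (3 : Fin 5) + b * X (4 : Fin 5)) ∈ PP k p q := by
  classical
  let g : Fin 2 → MvPolynomial (Fin 5) k := ![X 3, X 4]
  have hg0 : g 0 = monomial (Finsupp.single 3 1) 1 := rfl
  have hg1 : g 1 = monomial (Finsupp.single 4 1) 1 := rfl
  have he0 : Finsupp.weight (wt5 p q m) (Finsupp.single 3 1) = wt5 p q m 3 := by
    rw [weight5_single, one_smul]
  have he1 : Finsupp.weight (wt5 p q m) (Finsupp.single 4 1) = wt5 p q m 3 := by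
    rw [weight5_single, one_smul]; rfl
  have key : weightedHomogeneousSubmodule k (wt5 p q m) (wt5 p q m 3) ≤
      NN (wt5 p q m) (PP k p q) g := by
    refine wh_le _ _ _ fun d hd => ?_
    have hd' := hd
    rw [weight5, wt5_3, Prod.ext_iff] at hd'
    obtain ⟨h1, -⟩ := hd'
    simp only at h1
    by_cases h3 : 1 ≤ d 3
    · exact monomial_mem_NN_of_le 0 hg0 hd he0 (single_le_of_le h3)
    by_cases h4 : 1 ≤ d 4
    · exact monomial_mem_NN_of_le 1 hg1 hd he1 (single_le_of_le h4)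
    have h30 : d 3 = 0 := by omega
    have h40 : d 4 = 0 := by omega
    rw [h30, h40] at h1
    simp at h1
    have hle : q - p ≤ d 0 := by
      have : (0 : ℤ) ≤ (p : ℤ) * ((d 1 : ℤ) + d 2) := by positivity
      omega
    have hle' : Finsupp.single 0 (q - p) ≤ d := single_le_of_le hle
    set c : MvPolynomial (Fin 5) k := monomial (d - Finsupp.single 0 (q - p)) 1 with hc
    have hcw : IsWeightedHomogeneous (wt5 p q m) c (wt5 p q m 3 - ((q : ℤ) - p, (0 : ZMod m))) := by
      apply isWeightedHomogeneous_monomial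
      rw [weight_tsub _ hle', hd, weight5_X0pow p q m hpq]
    have hc1 : c * X 1 ∈ weightedHomogeneousSubmodule k (wt5 p q m) 0 := by
      have := hcw.mul (isWeightedHomogeneous_X k (wt5 p q m) 1)
      have h0 : wt5 p q m 3 - ((q : ℤ) - p, (0 : ZMod m)) + wt5 p q m 1 = 0 := by
        rw [wt5_3, wt5_1]; ext <;> simp
      rwa [h0] at this
    have hc2 : c * X 2 ∈ weightedHomogeneousSubmodule k (wt5 p q m) 0 := by
      have := hcw.mul (isWeightedHomogeneous_X k (wt5 p q m) 2)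
      have h0 : wt5 p q m 3 - ((q : ℤ) - p, (0 : ZMod m)) + wt5 p q m 2 = 0 := by
        rw [wt5_3, wt5_2]; ext <;> simp
      rwa [h0] at this
    have hmon : monomial d (1 : k) = c * X 0 ^ (q - p) := by
      rw [monomial_split hle', X_pow_eq_monomial]
    have hmem : (-(c * X 2)) * g 0 + (c * X 1) * g 1 ∈ NN (wt5 p q m) (PP k p q) g :=
      Submodule.add_mem _ (gen_mul_mem_NN _ g 0 (Submodule.neg_mem _ hc2)) (gen_mul_mem_NN _ g 1 hc1)
    refine mem_NN_of_sub_mem ?_ hmem
    have : monomial d (1 : k) - (-(c * X 2) * g 0 + c * X 1 * g 1) =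
        c * (X (0 : Fin 5) ^ (q - p) - X 1 * X 4 + X 2 * X 3) := by
      rw [hmon]; simp only [g, Matrix.cons_val_zero, Matrix.cons_val_one]; ring
    rw [this]
    exact Ideal.mul_mem_left _ _ (hyp_mem k p q)
  obtain ⟨a, ha, h⟩ := key hf
  refine ⟨a 0, a 1, ha 0, ha 1, ?_⟩
  rw [Fin.sum_univ_two] at h
  exact h

theorem s15726 (hp : 0 < p) (hpq : p < q) (f : MvPolynomial (Fin 5) k)
    (hf : f ∈ weightedHomogeneousSubmodule k (wt5 p q m) ((q : ℤ) - (p : ℤ), (0 : ZMod m))) :
    ∃ a₁₃ a₁₄ a₂₃ a₂₄ : MvPolynomial (Fin 5) k,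
      a₁₃ ∈ weightedHomogeneousSubmodule k (wt5 p q m) 0 ∧ a₁₄ ∈ weightedHomogeneousSubmodule k (wt5 p q m) 0 ∧
      a₂₃ ∈ weightedHomogeneousSubmodule k (wt5 p q m) 0 ∧ a₂₄ ∈ weightedHomogeneousSubmodule k (wt5 p q m) 0 ∧
      f - (a₁₃ * (X (1 : Fin 5) * X 3) + a₁₄ * (X (1 : Fin 5) * X 4) +
          a₂₃ * (X (2 : Fin 5) * X 3) + a₂₄ * (X (2 : Fin 5) * X 4)) ∈ PP k p q := by
  classical
  let g : Fin 4 → MvPolynomial (Fin 5) k := ![X 1 * X 3, X 1 * X 4, X 2 * X 3, X 2 * X 4]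
  have hg : ∀ (a b : Fin 5), (X a * X b : MvPolynomial (Fin 5) k) =
      monomial (Finsupp.single a 1 + Finsupp.single b 1) 1 := fun a b => X_mul_X_eq k a b
  have he : ∀ (a b : Fin 5), wt5 p q m a = (-(p : ℤ), (-1 : ZMod m)) → wt5 p q m b = ((q : ℤ), (1 : ZMod m)) →
      Finsupp.weight (wt5 p q m) (Finsupp.single a 1 + Finsupp.single b 1) = ((q : ℤ) - p, (0 : ZMod m)) := by
    intro a b ha hb
    rw [map_add, weight5_single, weight5_single, one_smul, one_smul, ha, hb]
    ext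
    · simp; ring
    · simp
  have key : weightedHomogeneousSubmodule k (wt5 p q m) ((q : ℤ) - p, (0 : ZMod m)) ≤
      NN (wt5 p q m) (PP k p q) g := by
    refine wh_le _ _ _ fun d hd => ?_
    have hd' := hd
    rw [weight5, Prod.ext_iff] at hd'
    obtain ⟨h1, -⟩ := hd'
    simp only at h1
    by_cases h13 : 1 ≤ d 1 ∧ 1 ≤ d 3
    · exact monomial_mem_NN_of_le 0 (hg 1 3) hd (he 1 3 rfl rfl) (single_add_single_le (by decide) h13.1 h13.2)
    by_cases h14 : 1 ≤ d 1 ∧ 1 ≤ d 4
    · exact monomial_mem_NN_of_le 1 (hg 1 4) hd (he 1 4 rfl rfl) (single_add_single_le (by decide) h14.1 h14.2)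
    by_cases h23 : 1 ≤ d 2 ∧ 1 ≤ d 3
    · exact monomial_mem_NN_of_le 2 (hg 2 3) hd (he 2 3 rfl rfl) (single_add_single_le (by decide) h23.1 h23.2)
    by_cases h24 : 1 ≤ d 2 ∧ 1 ≤ d 4
    · exact monomial_mem_NN_of_le 3 (hg 2 4) hd (he 2 4 rfl rfl) (single_add_single_le (by decide) h24.1 h24.2)
    have h' : (d 1 = 0 ∧ d 2 = 0) ∨ (d 3 = 0 ∧ d 4 = 0) := by omega
    have hle : q - p ≤ d 0 := by
      rcases h' with ⟨h10, h20⟩ | ⟨h30, h40⟩
      · rw [h10, h20] at h1
        simp at h1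
        rcases Nat.eq_zero_or_pos (d 3 + d 4) with h2 | h2
        · have h30 : d 3 = 0 := by omega
          have h40 : d 4 = 0 := by omega
          rw [h30, h40] at h1; simp at h1; omega
        · have : (q : ℤ) ≤ q * ((d 3 : ℤ) + d 4) := by
            have : (1 : ℤ) ≤ (d 3 : ℤ) + d 4 := by exact_mod_cast h2
            nlinarith
          have hd0 : (0 : ℤ) ≤ d 0 := by positivity
          omega
      · rw [h30, h40] at h1
        simp at h1
        have : (0 : ℤ) ≤ (p : ℤ) * ((d 1 : ℤ) + d 2) := by positivity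
        omega
    have hle' : Finsupp.single 0 (q - p) ≤ d := single_le_of_le hle
    set c : MvPolynomial (Fin 5) k := monomial (d - Finsupp.single 0 (q - p)) 1 with hc
    have hc0 : c ∈ weightedHomogeneousSubmodule k (wt5 p q m) 0 :=
      monomial_mem_zero _ hd (weight5_X0pow p q m hpq) hle'
    have hmon : monomial d (1 : k) = c * X 0 ^ (q - p) := by
      rw [monomial_split hle', X_pow_eq_monomial]
    have hmem : c * g 1 + (-c) * g 2 ∈ NN (wt5 p q m) (PP k p q) g :=
      Submodule.add_mem _ (gen_mul_mem_NN _ g 1 hc0) (gen_mul_mem_NN _ g 2 (Submodule.neg_mem _ hc0))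
    refine mem_NN_of_sub_mem ?_ hmem
    have : monomial d (1 : k) - (c * g 1 + -c * g 2) =
        c * (X (0 : Fin 5) ^ (q - p) - X 1 * X 4 + X 2 * X 3) := by
      rw [hmon]; simp only [g, Matrix.cons_val_one, Matrix.cons_val_zero, Matrix.cons_val]; ring
    rw [this]
    exact Ideal.mul_mem_left _ _ (hyp_mem k p q)
  obtain ⟨a, ha, h⟩ := key hf
  refine ⟨a 0, a 1, a 2, a 3, ha 0, ha 1, ha 2, ha 3, ?_⟩
  rw [Fin.sum_univ_four] at h
  exact h

end fin5

end Groth.Agent.H9.InvHilb
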