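import Mathlib
import Groth.Agent.Lib.Helper9.Misc.HJ5
import Groth.Agent.Lib.Helper9.Misc.InvHilb1

/-! Helper9: S15730, S15731 (idealL Hilbert function bound) -/

open MvPolynomial W4c2invhilbsl2

set_option linter.unusedSectionVars false

namespace Groth.Agent.H9.HJ
open Groth.Agent.H9.InvHilb

universe u

theorem mk_monomial3 {k : Type u} [CommRing k] (I : Ideal (MvPolynomial (Fin 3) k)) (d : Fin 3 →₀ ℕ) :
    Ideal.Quotient.mk I (monomial d 1) =
      Ideal.Quotient.mk I (X 0) ^ d 0 * Ideal.Quotient.mk I (X 1) ^ d 1 * Ideal.Quotient.mk I (X 2) ^ d 2 := by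
  rw [monomial_eq, Finsupp.prod_fintype _ _ (fun i => by simp), Fin.prod_univ_three]
  simp [map_mul, map_pow]

theorem monomial3_eq {k : Type u} [CommRing k] (d0 d1 d2 : ℕ) :
    (X 0 ^ d0 * X 1 ^ d1 * X 2 ^ d2 : MvPolynomial (Fin 3) k) =
      monomial (Finsupp.single 0 d0 + Finsupp.single 1 d1 + Finsupp.single 2 d2) 1 := by
  rw [X_pow_eq_monomial, X_pow_eq_monomial, X_pow_eq_monomial, monomial_mul, monomial_mul, mul_one, mul_one]

theorem dvd_of_zmod {m : ℕ} {a b : ℕ} (h : (b : ZMod m) - (a : ZMod m) = 0) : (m : ℤ) ∣ (a : ℤ) - b := by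
  have h' : (((b : ℤ) - (a : ℤ) : ℤ) : ZMod m) = 0 := by push_cast; exact h
  rw [ZMod.intCast_zmod_eq_zero_iff_dvd] at h'
  exact (dvd_sub_comm).mp h'

theorem zmod_of_dvd {m : ℕ} {a b : ℕ} (h : (m : ℤ) ∣ (a : ℤ) - b) : (b : ZMod m) - (a : ZMod m) = 0 := by
  have h' : (((b : ℤ) - (a : ℤ) : ℤ) : ZMod m) = 0 := by
    rw [ZMod.intCast_zmod_eq_zero_iff_dvd]
    exact (dvd_sub_comm).mp h
  push_cast at h'; exact h'

section
variable (k : Type u) [Field k] (p q m : ℕ) (hpq : p < q) (hcop : Nat.Coprime p q) (hm : 0 < m)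
    (hnt : ¬ (q - p ∣ m)) (c : List ℤ) (hc : IsHJDigits p q m c)
    (i : ℕ) (hi1 : 1 ≤ i) (hir : i ≤ c.length)
include hpq hcop hm hnt hc hi1 hir

theorem rel_idealL (s : k) :
    Rel p q m k (MvPolynomial (Fin 3) k ⧸ idealL k p q m c i s)
      (Ideal.Quotient.mk _ (X 0)) (Ideal.Quotient.mk _ (X 1)) (Ideal.Quotient.mk _ (X 2))
      (nN p q m c (i - 1)).toNat (nN p q m c i).toNat (eE p q m c i).toNat (lL p q m c i).toNat s := by
  refine ⟨?_, ?_, ?_⟩
  · intro d0 d1 d2 hne hw hdiv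
    rw [← map_pow, ← map_pow, ← map_pow, ← map_mul, ← map_mul, Ideal.Quotient.eq_zero_iff_mem]
    apply Ideal.mem_sup_right
    apply Ideal.subset_span
    refine ⟨Finsupp.single 0 d0 + Finsupp.single 1 d1 + Finsupp.single 2 d2, ?_, ?_, monomial3_eq d0 d1 d2⟩
    · intro h
      apply hne
      have h0 := DFunLike.congr_fun h 0
      have h1 := DFunLike.congr_fun h 1
      have h2 := DFunLike.congr_fun h 2
      simp at h0 h1 h2
      exact ⟨h0, h1, h2⟩
    · rw [weight3]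
      ext
      · simp; linarith
      · simp; exact zmod_of_dvd hdiv
  · rw [← map_pow, Ideal.Quotient.eq_zero_iff_mem]
    apply Ideal.mem_sup_left
    apply Ideal.subset_span
    simp
  · have h : Ideal.Quotient.mk (idealL k p q m c i s) (C s * X 0 ^ (nN p q m c i).toNat -
        X 1 ^ (eE p q m c i).toNat * X 2 ^ (lL p q m c i).toNat) = 0 := by
      rw [Ideal.Quotient.eq_zero_iff_mem]
      apply Ideal.mem_sup_left
      apply Ideal.subset_span
      simp
    rw [map_sub, sub_eq_zero] at h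
    rw [← map_pow, ← map_pow, ← map_mul, ← h, map_mul, map_pow, Algebra.smul_def]
    rfl

theorem rank_idealL (s : k) (ν : ℤ × ZMod m) :
    Module.rank k (piece k (wt3 p q m) (idealL k p q m c i s) ν) ≤ 1 := by
  classical
  apply rank_piece_le_one
  intro d d' hd hd'
  rw [mk_monomial3, mk_monomial3]
  have hw := hd.trans hd'.symm
  rw [weight3, weight3, Prod.ext_iff] at hw
  obtain ⟨hw1, hw2⟩ := hw
  simp only at hw1 hw2
  have hdiv : (m : ℤ) ∣ ((d 1 : ℤ) - d 2) - ((d' 1 : ℤ) - d' 2) := by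
    have h' : ((((d 2 : ℤ) - d 1) - ((d' 2 : ℤ) - d' 1) : ℤ) : ZMod m) = 0 := by
      push_cast; rw [hw2]; ring
    rw [ZMod.intCast_zmod_eq_zero_iff_dvd] at h'
    obtain ⟨z, hz⟩ := h'
    exact ⟨-z, by rw [mul_neg, ← hz]; ring⟩
  exact cmp p q m hpq hcop hm hnt c hc i hi1 hir _ _ _ s (rel_idealL k p q m hpq hcop hm hnt c hc i hi1 hir s)
    (d 0) (d 1) (d 2) (d' 0) (d' 1) (d' 2) hw1 hdiv

end

end Groth.Agent.H9.HJ
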