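import Mathlib
import Groth.Agent.Lib.Helper9.Misc.HJ6

/-! Helper9: S15729, S15732 (generation of weight pieces) -/

open MvPolynomial W4c2invhilbsl2

set_option linter.unusedSectionVars false

namespace Groth.Agent.H9.HJ
open Groth.Agent.H9.InvHilb

universe u

section
variable (k : Type u) [Field k] (p q m : ℕ) (hpq : p < q) (hcop : Nat.Coprime p q) (hm : 0 < m)
    (hnt : ¬ (q - p ∣ m)) (c : List ℤ) (hc : IsHJDigits p q m c)
    (i : ℕ) (hi1 : 1 ≤ i) (hir : i ≤ c.length)
include hpq hcop hm hnt hc hi1 hir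

theorem s15729 (f : MvPolynomial (Fin 3) k)
    (hf : f ∈ weightedHomogeneousSubmodule k (wt3 p q m) (nN p q m c i, (0 : ZMod m))) :
    ∃ a b : MvPolynomial (Fin 3) k, a ∈ weightedHomogeneousSubmodule k (wt3 p q m) 0 ∧
      b ∈ weightedHomogeneousSubmodule k (wt3 p q m) 0 ∧
      f = a * X (0 : Fin 3) ^ (nN p q m c i).toNat +
        b * (X (1 : Fin 3) ^ (eE p q m c i).toNat * X (2 : Fin 3) ^ (lL p q m c i).toNat) := by
  classical
  have hn : ((nN p q m c i).toNat : ℤ) = nN p q m c i :=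
    Int.toNat_of_nonneg (nN_nonneg p q m hpq hcop hm hnt c hc (by omega))
  have hE : ((eE p q m c i).toNat : ℤ) = eE p q m c i :=
    Int.toNat_of_nonneg (by have := eE_pos p q m hpq hcop hm hnt c hc (i := i) (by omega); linarith)
  have hL : ((lL p q m c i).toNat : ℤ) = lL p q m c i :=
    Int.toNat_of_nonneg (by have := lL_pos p q m hpq hcop hm hnt c hc (i := i) (by omega); linarith)
  have hEL : (q : ℤ) * lL p q m c i - p * eE p q m c i = nN p q m c i := by unfold nN; ring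
  have hELm := eE_sub_lL p q m hpq hcop hm hnt c hc i
  have hstrict := nN_strict p q m hpq hcop hm hnt c hc (i := i - 1) (j := i) (by omega) (by omega)
  obtain ⟨n, hndef⟩ : ∃ n, n = (nN p q m c i).toNat := ⟨_, rfl⟩
  obtain ⟨E, hEdef⟩ : ∃ E, E = (eE p q m c i).toNat := ⟨_, rfl⟩
  obtain ⟨Lc, hLdef⟩ : ∃ Lc, Lc = (lL p q m c i).toNat := ⟨_, rfl⟩
  rw [← hndef, ← hEdef, ← hLdef]
  rw [← hndef] at hn
  rw [← hEdef] at hE
  rw [← hLdef] at hL
  let g : Fin 2 → MvPolynomial (Fin 3) k := ![X 0 ^ n, X 1 ^ E * X 2 ^ Lc]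
  have hg0 : g 0 = monomial (Finsupp.single 0 n) 1 := by simp [g, X_pow_eq_monomial]
  have hg1 : g 1 = monomial (Finsupp.single 1 E + Finsupp.single 2 Lc) 1 := by
    simp only [g, Matrix.cons_val_one, Matrix.cons_val_zero]
    rw [X_pow_eq_monomial, X_pow_eq_monomial, monomial_mul, mul_one]
  have he0 : Finsupp.weight (wt3 p q m) (Finsupp.single 0 n) = (nN p q m c i, (0 : ZMod m)) := by
    rw [weight3]
    ext
    · simp [hn]
    · simp
  have he1 : Finsupp.weight (wt3 p q m) (Finsupp.single (1 : Fin 3) E + Finsupp.single 2 Lc) =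
      (nN p q m c i, (0 : ZMod m)) := by
    rw [weight3]
    ext
    · simp; rw [hE, hL, ← hEL]; ring
    · simp
      apply zmod_of_dvd
      rw [hE, hL, hELm]; exact dvd_mul_right _ _
  have key : weightedHomogeneousSubmodule k (wt3 p q m) (nN p q m c i, (0 : ZMod m)) ≤
      NN (wt3 p q m) ⊥ g := by
    refine wh_le _ _ _ fun d hd => ?_
    have hd' := hd
    rw [weight3, Prod.ext_iff] at hd'
    obtain ⟨h1, h2⟩ := hd'
    simp only at h1 h2
    by_cases hle : n ≤ d 0
    · exact monomial_mem_NN_of_le 0 hg0 hd he0 (single_le_of_le hle)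
    · push Not at hle
      have hle' : (d 0 : ℤ) < n := by exact_mod_cast hle
      obtain ⟨hle1, hle2⟩ := LL p q m hpq hcop hm hnt c hc i hi1 (by omega) (d 1) (d 2) (by positivity)
        (by positivity) (dvd_of_zmod h2) (by rw [hn] at hle'; linarith)
        (by have : (0 : ℤ) ≤ d 0 := by positivity
            linarith)
      rw [← hE] at hle1
      rw [← hL] at hle2
      have hle1' : E ≤ d 1 := by exact_mod_cast hle1
      have hle2' : Lc ≤ d 2 := by exact_mod_cast hle2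
      refine monomial_mem_NN_of_le 1 hg1 hd he1 ?_
      intro j
      fin_cases j <;> simp [Finsupp.add_apply, Finsupp.single_apply] <;> assumption
  obtain ⟨a, ha, h⟩ := key hf
  refine ⟨a 0, a 1, ha 0, ha 1, ?_⟩
  rw [Ideal.mem_bot, sub_eq_zero, Fin.sum_univ_two] at h
  rw [h]
  simp [g]

theorem s15732 (f : MvPolynomial (Fin 5) k)
    (hf : f ∈ weightedHomogeneousSubmodule k (wt5 p q m) (nN p q m c i, (0 : ZMod m))) :
    ∃ (a₀ : MvPolynomial (Fin 5) k) (a : ℕ → ℕ → MvPolynomial (Fin 5) k),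
      a₀ ∈ weightedHomogeneousSubmodule k (wt5 p q m) 0 ∧
      (∀ e l : ℕ, a e l ∈ weightedHomogeneousSubmodule k (wt5 p q m) 0) ∧
      f - (a₀ * X (0 : Fin 5) ^ (nN p q m c i).toNat +
          ∑ e ∈ Finset.range ((eE p q m c i).toNat + 1), ∑ l ∈ Finset.range ((lL p q m c i).toNat + 1),
            a e l * (X (1 : Fin 5) ^ ((eE p q m c i).toNat - e) * X (2 : Fin 5) ^ e *
              X (3 : Fin 5) ^ ((lL p q m c i).toNat - l) * X (4 : Fin 5) ^ l)) ∈
        Ideal.span {X (0 : Fin 5) ^ (q - p) - X 1 * X 4 + X 2 * X 3} := by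
  classical
  have hn : ((nN p q m c i).toNat : ℤ) = nN p q m c i :=
    Int.toNat_of_nonneg (nN_nonneg p q m hpq hcop hm hnt c hc (by omega))
  have hE : ((eE p q m c i).toNat : ℤ) = eE p q m c i :=
    Int.toNat_of_nonneg (by have := eE_pos p q m hpq hcop hm hnt c hc (i := i) (by omega); linarith)
  have hL : ((lL p q m c i).toNat : ℤ) = lL p q m c i :=
    Int.toNat_of_nonneg (by have := lL_pos p q m hpq hcop hm hnt c hc (i := i) (by omega); linarith)
  have hEL : (q : ℤ) * lL p q m c i - p * eE p q m c i = nN p q m c i := by unfold nN; ring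
  have hELm := eE_sub_lL p q m hpq hcop hm hnt c hc i
  have hstrict := nN_strict p q m hpq hcop hm hnt c hc (i := i - 1) (j := i) (by omega) (by omega)
  obtain ⟨n, hndef⟩ : ∃ n, n = (nN p q m c i).toNat := ⟨_, rfl⟩
  obtain ⟨E, hEdef⟩ : ∃ E, E = (eE p q m c i).toNat := ⟨_, rfl⟩
  obtain ⟨Lc, hLdef⟩ : ∃ Lc, Lc = (lL p q m c i).toNat := ⟨_, rfl⟩
  rw [← hndef, ← hEdef, ← hLdef]
  rw [← hndef] at hn
  rw [← hEdef] at hE
  rw [← hLdef] at hL
  let ε : Fin (E + 1) × Fin (Lc + 1) → (Fin 5 →₀ ℕ) := fun el =>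
    Finsupp.single 1 (E - (el.1 : ℕ)) + Finsupp.single 2 (el.1 : ℕ) +
      Finsupp.single 3 (Lc - (el.2 : ℕ)) + Finsupp.single 4 (el.2 : ℕ)
  let g : Option (Fin (E + 1) × Fin (Lc + 1)) → MvPolynomial (Fin 5) k := fun o =>
    match o with
    | none => X 0 ^ n
    | some el => X 1 ^ (E - (el.1 : ℕ)) * X 2 ^ (el.1 : ℕ) * X 3 ^ (Lc - (el.2 : ℕ)) * X 4 ^ (el.2 : ℕ)
  have hg0 : g none = monomial (Finsupp.single 0 n) 1 := by simp [g, X_pow_eq_monomial]
  have hg1 : ∀ el, g (some el) = monomial (ε el) 1 := by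
    intro el
    simp only [g, ε]
    rw [X_pow_eq_monomial, X_pow_eq_monomial, X_pow_eq_monomial, X_pow_eq_monomial, monomial_mul,
      monomial_mul, monomial_mul, mul_one, mul_one, mul_one]
  have he0 : Finsupp.weight (wt5 p q m) (Finsupp.single 0 n) = (nN p q m c i, (0 : ZMod m)) := by
    rw [weight5]
    ext
    · simp [hn]
    · simp
  have he1 : ∀ el, Finsupp.weight (wt5 p q m) (ε el) = (nN p q m c i, (0 : ZMod m)) := by
    intro el
    have h1 : (el.1 : ℕ) ≤ E := by have := el.1.2; omega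
    have h2 : (el.2 : ℕ) ≤ Lc := by have := el.2.2; omega
    rw [weight5]
    have hz := zmod_of_dvd (m := m) (a := E) (b := Lc) (by rw [hE, hL, hELm]; exact dvd_mul_right _ _)
    ext
    · simp [ε, Nat.cast_sub h1, Nat.cast_sub h2]; rw [hE, hL, ← hEL]; ring
    · simp [ε, Nat.cast_sub h1, Nat.cast_sub h2]; exact hz
  have key : weightedHomogeneousSubmodule k (wt5 p q m) (nN p q m c i, (0 : ZMod m)) ≤
      NN (wt5 p q m) ⊥ g := by
    refine wh_le _ _ _ fun d hd => ?_
    have hd' := hd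
    rw [weight5, Prod.ext_iff] at hd'
    obtain ⟨h1, h2⟩ := hd'
    simp only at h1 h2
    by_cases hle : n ≤ d 0
    · exact monomial_mem_NN_of_le none hg0 hd he0 (single_le_of_le hle)
    · push Not at hle
      have hle' : (d 0 : ℤ) < n := by exact_mod_cast hle
      have h2' : ((d 3 + d 4 : ℕ) : ZMod m) - ((d 1 + d 2 : ℕ) : ZMod m) = 0 := by
        push_cast; exact h2
      obtain ⟨hle1, hle2⟩ := LL p q m hpq hcop hm hnt c hc i hi1 (by omega) ((d 1 + d 2 : ℕ) : ℤ)
        ((d 3 + d 4 : ℕ) : ℤ) (by positivity)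
        (by positivity) (dvd_of_zmod h2') (by rw [hn] at hle'; push_cast; linarith)
        (by have : (0 : ℤ) ≤ d 0 := by positivity
            push_cast; linarith)
      rw [← hE] at hle1
      rw [← hL] at hle2
      have hle1' : E ≤ d 1 + d 2 := by exact_mod_cast hle1
      have hle2' : Lc ≤ d 3 + d 4 := by exact_mod_cast hle2
      refine monomial_mem_NN_of_le (some (⟨min (d 2) E, by omega⟩, ⟨min (d 4) Lc, by omega⟩)) (hg1 _) hd (he1 _) ?_
      intro j
      fin_cases j <;> simp [ε, Finsupp.add_apply, Finsupp.single_apply] <;> omega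
  obtain ⟨a, ha, h⟩ := key hf
  refine ⟨a none, fun e l => if h : e < E + 1 ∧ l < Lc + 1 then a (some (⟨e, h.1⟩, ⟨l, h.2⟩)) else 0,
    ha none, ?_, ?_⟩
  · intro e l
    show (if h : e < E + 1 ∧ l < Lc + 1 then a (some (⟨e, h.1⟩, ⟨l, h.2⟩)) else 0) ∈ _
    split_ifs with h
    · exact ha _
    · exact Submodule.zero_mem _
  · rw [Ideal.mem_bot, sub_eq_zero, Fintype.sum_option, Fintype.sum_prod_type] at h
    rw [h, Finset.sum_range]
    have : ∀ e : Fin (E + 1), (∑ l ∈ Finset.range (Lc + 1),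
        (if h : (e : ℕ) < E + 1 ∧ l < Lc + 1 then a (some (⟨e, h.1⟩, ⟨l, h.2⟩)) else 0) *
          (X 1 ^ (E - (e : ℕ)) * X 2 ^ (e : ℕ) * X 3 ^ (Lc - l) * X 4 ^ l)) =
        ∑ l : Fin (Lc + 1), a (some (e, l)) * g (some (e, l)) := by
      intro e
      rw [Finset.sum_range]
      refine Finset.sum_congr rfl fun l _ => ?_
      rw [dif_pos ⟨e.2, l.2⟩]
    simp only [this]
    rw [sub_self]
    exact Ideal.zero_mem _

end

end Groth.Agent.H9.HJ
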