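import Mathlib
import Groth.Agent.Lib.Helper9.Misc.FLH5
import Groth.Agent.H4.SmRed2

/-! Helper9: S15593 — surjective mono hom of smooth finite type k-groups is an isomorphism. -/

set_option linter.style.haveILetI false
set_option linter.unusedSectionVars false

namespace Groth.Agent.H9.HMI

universe u

open CategoryTheory CategoryTheory.Limits AlgebraicGeometry MonoidalCategory CartesianMonoidalCategory
open MonObj

theorem S15593_main (k : Type u) [Field k]
    (G G' : Over (Spec (CommRingCat.of k))) [GrpObj G] [GrpObj G']
    [Smooth G.hom] [QuasiCompact G.hom] [Smooth G'.hom] [QuasiCompact G'.hom]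
    (f : G ⟶ G') [IsMonHom f] [Mono f] [Surjective f.left] : IsIso f := by
  have hred : IsReduced G'.left := Groth.Agent.H4.SmRed.isReduced_of_smooth_scheme G'.hom
  have : IsLocallyNoetherian G'.left := LocallyOfFiniteType.isLocallyNoetherian G'.hom
  have : QuasiCompact (f.left ≫ G'.hom) := by rw [Over.w f]; infer_instance
  have : QuasiCompact f.left := QuasiCompact.of_comp f.left G'.hom
  have hflat : Flat f.left :=
    (Groth.Agent.H9.FLH.S5355_main G G' f (Surjective.surj (f := f.left)).denseRange).2 hred
  have : Mono f.left := inferInstance
  have : IsIso f.left := Flat.isIso_of_surjective_of_mono f.left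
  have : IsIso ((Over.forget _).map f) := this
  exact isIso_of_reflects_iso f (Over.forget _)

end Groth.Agent.H9.HMI
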