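import Mathlib

set_option autoImplicit false
set_option linter.style.haveILetI false
set_option linter.unusedSectionVars false
set_option linter.unusedVariables false

/-!
# Local Horrocks: preliminaries
-/

namespace Groth.Agent.H9.LH

open Polynomial

section lemmaA

variable {R : Type*} [CommRing R] [IsLocalRing R]

/-- An ideal of `R[X]` containing a monic polynomial and comaximal with `𝔪 R[X]` is everything. -/
theorem ideal_eq_top (I : Ideal R[X]) (h : R[X]) (hh : h.Monic) (hI : h ∈ I)
    (hsup : I ⊔ (IsLocalRing.maximalIdeal R).map (C : R →+* R[X]) = ⊤) : I = ⊤ := by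
  by_contra hne
  let S := R[X] ⧸ I
  haveI : Nontrivial S := Ideal.Quotient.nontrivial_iff.mpr hne
  haveI : Module.Finite R (AdjoinRoot h) := hh.finite_adjoinRoot
  have hle : Ideal.span {h} ≤ I := (Ideal.span_singleton_le_iff_mem I).mpr hI
  haveI : Module.Finite R S := by
    let f : AdjoinRoot h →ₐ[R] S := Ideal.Quotient.factorₐ R hle
    refine Module.Finite.of_surjective f.toLinearMap ?_
    exact Ideal.Quotient.factor_surjective hle
  haveI : Algebra.IsIntegral R S := Algebra.IsIntegral.of_finite R S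
  obtain ⟨N, hN⟩ := Ideal.exists_maximal S
  haveI := hN
  have hmax : (N.comap (algebraMap R S)).IsMaximal :=
    Ideal.isMaximal_comap_of_isIntegral_of_isMaximal N
  have hm : N.comap (algebraMap R S) = IsLocalRing.maximalIdeal R :=
    IsLocalRing.eq_maximalIdeal hmax
  have h1 : (IsLocalRing.maximalIdeal R).map (C : R →+* R[X]) ≤ N.comap (Ideal.Quotient.mk I) := by
    rw [Ideal.map_le_iff_le_comap, ← hm, Ideal.comap_comap]
    exact le_of_eq rfl
  have h2 : I ≤ N.comap (Ideal.Quotient.mk I) := by
    intro x hx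
    rw [Ideal.mem_comap, Ideal.Quotient.eq_zero_iff_mem.mpr hx]
    exact N.zero_mem
  have h3 : (⊤ : Ideal R[X]) ≤ N.comap (Ideal.Quotient.mk I) := by
    rw [← hsup]; exact sup_le h2 h1
  have : (1 : S) ∈ N := by
    have := h3 (Submodule.mem_top : (1 : R[X]) ∈ ⊤)
    simpa using this
  exact hN.ne_top ((Ideal.eq_top_iff_one N).mpr this)

end lemmaA

section T0

variable {R : Type*} [CommRing R]

theorem mem_map_C_of_monic_mul {m : Ideal R} {h c : R[X]} (hh : h.Monic)
    (hc : h * c ∈ m.map (C : R →+* R[X])) : c ∈ m.map (C : R →+* R[X]) := by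
  rw [Ideal.mem_map_C_iff] at hc ⊢
  -- work in (R/m)[X]
  have h1 : (h * c).map (Ideal.Quotient.mk m) = 0 := by
    ext n
    rw [coeff_map, coeff_zero]
    exact Ideal.Quotient.eq_zero_iff_mem.mpr (hc n)
  rw [Polynomial.map_mul] at h1
  have h2 : c.map (Ideal.Quotient.mk m) = 0 :=
    (hh.map (Ideal.Quotient.mk m)).mul_right_eq_zero_iff.mp h1
  intro n
  have := congrArg (fun p => p.coeff n) h2
  simp only [coeff_map, coeff_zero] at this
  exact Ideal.Quotient.eq_zero_iff_mem.mp this

/-- For a projective `R[X]`-module, a monic polynomial is a nonzerodivisor modulo `𝔪 R[X]`. -/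
theorem mem_smul_top_of_monic_smul {P : Type*} [AddCommGroup P] [Module R[X] P]
    [Module.Projective R[X] P] (m : Ideal R) {h : R[X]} (hh : h.Monic) (x : P)
    (hx : h • x ∈ (m.map (C : R →+* R[X])) • (⊤ : Submodule R[X] P)) :
    x ∈ (m.map (C : R →+* R[X])) • (⊤ : Submodule R[X] P) := by
  classical
  obtain ⟨s, hs⟩ := Module.projective_def'.mp (inferInstance : Module.Projective R[X] P)
  set J := m.map (C : R →+* R[X]) with hJ
  set π := Finsupp.linearCombination R[X] (id : P → P) with hπ
  -- coordinates of `s (h • x)` lie in `J`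
  have h1 : s (h • x) ∈ J • (⊤ : Submodule R[X] (P →₀ R[X])) := by
    have : (J • (⊤ : Submodule R[X] P)).map s ≤ J • (⊤ : Submodule R[X] (P →₀ R[X])) := by
      rw [Submodule.map_smul'']
      exact Submodule.smul_mono le_rfl le_top
    exact this ⟨_, hx, rfl⟩
  have h2 : ∀ y ∈ J • (⊤ : Submodule R[X] (P →₀ R[X])), ∀ j, y j ∈ J := by
    intro y hy j
    have : (J • (⊤ : Submodule R[X] (P →₀ R[X]))).map (Finsupp.lapply j) ≤ J := by
      rw [Submodule.map_smul'']
      calc J • Submodule.map (Finsupp.lapply j) ⊤ ≤ J • (⊤ : Submodule R[X] R[X]) :=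
            Submodule.smul_mono le_rfl le_top
        _ = J := by simp
    exact this ⟨y, hy, rfl⟩
  have h3 : ∀ j, (s x) j ∈ J := by
    intro j
    have := h2 _ h1 j
    rw [map_smul, Finsupp.smul_apply, smul_eq_mul] at this
    exact mem_map_C_of_monic_mul hh this
  have h4 : x = π (s x) := (LinearMap.congr_fun hs x).symm
  rw [h4, hπ, Finsupp.linearCombination_apply, Finsupp.sum]
  refine Submodule.sum_mem _ fun j _ => ?_
  exact Submodule.smul_mem_smul (h3 j) Submodule.mem_top

end T0

end Groth.Agent.H9.LH
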