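import Mathlib
import Groth.Agent.Lib.Helper9.Misc.LHA

set_option autoImplicit false
set_option linter.style.haveILetI false
set_option linter.unusedSectionVars false
set_option linter.unusedVariables false

/-!
# Local Horrocks: the rank one case
-/

namespace Groth.Agent.H9.LH

open Polynomial

section rankone

variable {R : Type*} [CommRing R] [IsLocalRing R]

local notation "𝔪" => IsLocalRing.maximalIdeal R
local notation "red" => Polynomial.mapRingHom (IsLocalRing.residue R)

theorem ker_red : RingHom.ker red = (𝔪).map (C : R →+* R[X]) := by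
  rw [Polynomial.ker_mapRingHom, IsLocalRing.ker_residue]

theorem red_surjective : Function.Surjective red := by
  intro p
  exact Polynomial.map_surjective _ IsLocalRing.residue_surjective p

/-- `I ∩ 𝔪A ⊆ 𝔪A · I` for a projective ideal containing a monic polynomial. -/
theorem mem_mul_of_mem_inf (I : Ideal R[X]) [Module.Projective R[X] I] {h : R[X]} (hh : h.Monic)
    (hI : h ∈ I) {x : R[X]} (hx : x ∈ I) (hxm : x ∈ (𝔪).map (C : R →+* R[X])) :
    x ∈ (𝔪).map (C : R →+* R[X]) * I := by
  set J := (𝔪).map (C : R →+* R[X]) with hJ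
  have h1 : h • (⟨x, hx⟩ : I) ∈ J • (⊤ : Submodule R[X] I) := by
    have : h • (⟨x, hx⟩ : I) = x • (⟨h, hI⟩ : I) := by
      apply Subtype.ext
      simp [mul_comm]
    rw [this]
    exact Submodule.smul_mem_smul hxm Submodule.mem_top
  have h2 := mem_smul_top_of_monic_smul (𝔪) hh (⟨x, hx⟩ : I) h1
  have h3 : (J • (⊤ : Submodule R[X] I)).map (Submodule.subtype I) = J • I := by
    rw [Submodule.map_smul'', Submodule.map_top, Submodule.range_subtype]
  have h4 : x ∈ J • I := by
    rw [← h3]
    exact ⟨⟨x, hx⟩, h2, rfl⟩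
  exact h4

theorem mk_mem_smul_top (I : Ideal R[X]) {z : R[X]} (hz : z ∈ (𝔪).map (C : R →+* R[X])) :
    (Ideal.Quotient.mk I z) ∈ (𝔪) • (⊤ : Submodule R (R[X] ⧸ I)) := by
  rw [Ideal.map] at hz
  refine Submodule.span_induction ?_ ?_ ?_ ?_ hz
  · rintro _ ⟨μ, hμ, rfl⟩
    have : Ideal.Quotient.mk I (C μ) = μ • (1 : R[X] ⧸ I) := by
      have h1 : μ • (1 : R[X] ⧸ I) = Ideal.Quotient.mk I (μ • (1 : R[X])) := rfl
      rw [h1, Polynomial.smul_eq_C_mul, mul_one]
    rw [this]
    exact Submodule.smul_mem_smul hμ Submodule.mem_top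
  · rw [map_zero]; exact Submodule.zero_mem _
  · intro x y _ _ hx hy
    rw [map_add]; exact Submodule.add_mem _ hx hy
  · intro a x _ hx
    rw [smul_eq_mul, map_mul]
    -- multiplication by `mk a` is `R`-linear and preserves `𝔪 • ⊤`
    have : (𝔪 • (⊤ : Submodule R (R[X] ⧸ I))).map
        (LinearMap.mulLeft R (Ideal.Quotient.mk I a)) ≤ 𝔪 • (⊤ : Submodule R (R[X] ⧸ I)) := by
      rw [Submodule.map_smul'']
      exact Submodule.smul_mono le_rfl le_top
    exact this ⟨_, hx, rfl⟩

/-- rank one: a finitely generated projective ideal of `R[X]` (`R` local) containing a monic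
polynomial is principal, generated by a monic polynomial. -/
theorem rank_one (I : Ideal R[X]) [Module.Projective R[X] I] (hfg : I.FG) {h : R[X]}
    (hh : h.Monic) (hI : h ∈ I) : ∃ g : R[X], g.Monic ∧ I = Ideal.span {g} := by
  classical
  set J := (𝔪).map (C : R →+* R[X]) with hJ
  set k := IsLocalRing.ResidueField R
  -- the reduction of `I`
  set Ibar : Ideal k[X] := I.map red with hIbar
  obtain ⟨g0, hg0⟩ : ∃ g0 : k[X], Ibar = Ideal.span {g0} :=
    ⟨_, (Submodule.IsPrincipal.span_singleton_generator Ibar).symm⟩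
  have hredh : red h ∈ Ibar := Ideal.mem_map_of_mem _ hI
  have hg0ne : g0 ≠ 0 := by
    rintro rfl
    rw [hg0, Ideal.span_singleton_eq_bot.mpr rfl, Ideal.mem_bot] at hredh
    have : (h.map (IsLocalRing.residue R)).Monic := hh.map _
    exact this.ne_zero hredh
  set ρ := g0.natDegree with hρ
  have hdeg0 : g0.degree = (ρ : WithBot ℕ) := Polynomial.degree_eq_natDegree hg0ne
  have hsmall : ∀ y ∈ Ibar, y.degree < (ρ : WithBot ℕ) → y = 0 := by
    intro y hy hlt
    rw [hg0, Ideal.mem_span_singleton] at hy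
    exact Polynomial.eq_zero_of_dvd_of_degree_lt hy (by rw [hdeg0]; exact hlt)
  have hIbar_lift : ∀ y ∈ Ibar, ∃ x ∈ I, red x = y := by
    intro y hy
    exact (Ideal.mem_map_iff_of_surjective red red_surjective).mp hy
  -- `W = A/I` is a finite `R`-module
  set W := R[X] ⧸ I
  haveI : Module.Finite R (AdjoinRoot h) := hh.finite_adjoinRoot
  have hle : Ideal.span {h} ≤ I := (Ideal.span_singleton_le_iff_mem I).mpr hI
  haveI : Module.Finite R W := by
    let f : AdjoinRoot h →ₐ[R] W := Ideal.Quotient.factorₐ R hle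
    refine Module.Finite.of_surjective f.toLinearMap ?_
    exact Ideal.Quotient.factor_surjective hle
  let mkl : R[X] →ₗ[R] W := (Ideal.Quotient.mkₐ R I).toLinearMap
  have hmkl : ∀ x, mkl x = Ideal.Quotient.mk I x := fun x => rfl
  set N' : Submodule R W := (Polynomial.degreeLT R ρ).map mkl with hN'
  have hN'top : (⊤ : Submodule R W) ≤ N' := by
    apply Submodule.le_of_le_smul_of_le_jacobson_bot (I := 𝔪) (Module.Finite.fg_top)
      (IsLocalRing.maximalIdeal_le_jacobson _)
    rintro w -
    obtain ⟨x, rfl⟩ := Ideal.Quotient.mk_surjective w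
    -- divide `red x` by `g0`
    set rbar := red x % g0 with hrbar
    set qbar := red x / g0 with hqbar
    have hdiv : red x = g0 * qbar + rbar := (EuclideanDomain.div_add_mod (red x) g0).symm
    have hrdeg : rbar.degree < (ρ : WithBot ℕ) := by
      rw [← hdeg0]; exact Polynomial.degree_mod_lt _ hg0ne
    obtain ⟨r, hr, hrd⟩ := Polynomial.exists_degree_eq_of_mem_lifts
      (Polynomial.mem_lifts_of_surjective IsLocalRing.residue_surjective rbar)
    obtain ⟨y, hyI, hy⟩ := hIbar_lift (g0 * qbar) (by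
      rw [hg0]; exact Ideal.mul_mem_right _ _ (Ideal.subset_span rfl))
    have hz : x - y - r ∈ J := by
      rw [hJ, ← ker_red, RingHom.mem_ker, map_sub, map_sub, hy, hdiv]
      have : red r = rbar := hr
      rw [this]; ring
    have h1 : Ideal.Quotient.mk I x = mkl r + Ideal.Quotient.mk I (x - y - r) := by
      rw [hmkl, ← map_add]
      apply Ideal.Quotient.eq.mpr
      have : x - (r + (x - y - r)) = y := by ring
      rw [this]; exact hyI
    rw [h1]
    refine Submodule.add_mem_sup ?_ (mk_mem_smul_top I hz)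
    exact ⟨r, by rw [SetLike.mem_coe, Polynomial.mem_degreeLT, hrd]; exact hrdeg, rfl⟩
  -- a monic element of `I` of degree `ρ`
  obtain ⟨r, hr, hrX⟩ : mkl (X ^ ρ) ∈ N' := hN'top Submodule.mem_top
  rw [SetLike.mem_coe, Polynomial.mem_degreeLT] at hr
  set g := X ^ ρ + (-r) with hg
  have hgmonic : g.Monic := Polynomial.monic_X_pow_add (by rw [degree_neg]; exact hr)
  have hgI : g ∈ I := by
    have : Ideal.Quotient.mk I g = 0 := by
      rw [hg, map_add, map_neg, ← hmkl, ← hmkl, hrX]; simp
    exact Ideal.Quotient.eq_zero_iff_mem.mp this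
  have hgdeg : g.degree = (ρ : WithBot ℕ) := by
    rw [hg, Polynomial.degree_add_eq_left_of_degree_lt, Polynomial.degree_X_pow]
    rw [degree_neg, Polynomial.degree_X_pow]; exact hr
  refine ⟨g, hgmonic, le_antisymm ?_ ((Ideal.span_singleton_le_iff_mem I).mpr hgI)⟩
  -- every element of `I` is `g q + r'` with `r' ∈ J * I`
  have hdecomp : ∀ x ∈ I, x %ₘ g ∈ J * I := by
    intro x hx
    have hxr : x %ₘ g ∈ I := by
      have : x %ₘ g = x - g * (x /ₘ g) := by
        have := Polynomial.modByMonic_add_div x g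
        linear_combination this
      rw [this]
      exact I.sub_mem hx (I.mul_mem_right _ hgI)
    have hdeg : (x %ₘ g).degree < (ρ : WithBot ℕ) := by
      rw [← hgdeg]; exact Polynomial.degree_modByMonic_lt _ hgmonic
    have hredz : red (x %ₘ g) = 0 := by
      apply hsmall _ (Ideal.mem_map_of_mem _ hxr)
      exact lt_of_le_of_lt (Polynomial.degree_map_le) hdeg
    have : x %ₘ g ∈ J := by
      rw [hJ, ← ker_red]; exact hredz
    exact mem_mul_of_mem_inf I hh hI hxr this
  -- Nakayama (determinant trick) over `A`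
  let G : Submodule R[X] R[X] := Ideal.span {g}
  let mq : R[X] →ₗ[R[X]] (R[X] ⧸ G) := G.mkQ
  let N : Submodule R[X] (R[X] ⧸ G) := Submodule.map mq I
  have hNfg : N.FG := Submodule.FG.map mq hfg
  have hNle : N ≤ J • N := by
    rintro _ ⟨x, hx, rfl⟩
    have h1 : mq x = mq (x %ₘ g) := by
      have : x - x %ₘ g = g * (x /ₘ g) := by
        have := Polynomial.modByMonic_add_div x g
        linear_combination -this
      have h2 : mq (x - x %ₘ g) = 0 := by
        rw [this]
        exact (Submodule.Quotient.mk_eq_zero G).mpr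
          (Ideal.mul_mem_right _ _ (Ideal.subset_span rfl))
      rw [map_sub, sub_eq_zero] at h2
      exact h2
    rw [h1]
    have h3 : Submodule.map mq (J • (I : Submodule R[X] R[X])) = J • N :=
      Submodule.map_smul'' _ _ _
    rw [← h3]
    exact ⟨x %ₘ g, hdecomp x hx, rfl⟩
  obtain ⟨r₀, hr₀, hr₀N⟩ :=
    Submodule.exists_sub_one_mem_and_smul_eq_zero_of_fg_of_le_smul J N hNfg hNle
  have hr₀x : ∀ x ∈ I, r₀ * x ∈ Ideal.span {g} := by
    intro x hx
    have := hr₀N (mq x) ⟨x, hx, rfl⟩
    rw [← map_smul, smul_eq_mul] at this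
    exact (Submodule.Quotient.mk_eq_zero G).mp this
  have htop : Ideal.span {r₀, g} = ⊤ := by
    apply ideal_eq_top _ g hgmonic (Ideal.subset_span (by simp))
    rw [Ideal.eq_top_iff_one]
    have : (1 : R[X]) = r₀ + (-(r₀ - 1)) := by ring
    rw [this]
    exact Submodule.add_mem_sup (Ideal.subset_span (by simp)) (J.neg_mem hr₀)
  obtain ⟨α, β, hαβ⟩ := Ideal.mem_span_pair.mp ((Ideal.eq_top_iff_one _).mp htop)
  intro x hx
  have : x = α * (r₀ * x) + (β * x) * g := by linear_combination (-x) * hαβ
  rw [this]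
  exact Ideal.add_mem _ (Ideal.mul_mem_left _ _ (hr₀x x hx))
    (Ideal.mul_mem_left _ _ (Ideal.subset_span rfl))

end rankone

end Groth.Agent.H9.LH
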