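import Mathlib
import Groth.Agent.Lib.Helper9.Misc.LHA
import Groth.Agent.Lib.Helper9.Misc.LH1

set_option autoImplicit false
set_option linter.style.haveILetI false
set_option linter.unusedSectionVars false
set_option linter.unusedVariables false
set_option linter.unusedSimpArgs false

/-!
# Local Horrocks: the inductive step and the main theorem
-/

namespace Groth.Agent.H9.LH

open Polynomial

universe u v

section step

variable {R : Type u} [CommRing R] [IsLocalRing R]

local notation "𝔪" => IsLocalRing.maximalIdeal R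
local notation "red" => Polynomial.mapRingHom (IsLocalRing.residue R)
local notation "k" => IsLocalRing.ResidueField R

/-- a polynomial with unit leading coefficient is regular -/
theorem eq_zero_of_mul_eq_zero_of_isUnit_leadingCoeff {c z : R[X]} (hc : IsUnit c.leadingCoeff)
    (h : c * z = 0) : z = 0 := by
  obtain ⟨b, hb⟩ := hc.exists_left_inv
  have hm : (C b * c).Monic := Polynomial.monic_C_mul_of_mul_leadingCoeff_eq_one hb
  apply hm.mul_right_eq_zero_iff.mp
  rw [mul_assoc, h, mul_zero]

/-- reduction of vectors mod `𝔪` -/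
noncomputable def redN {N : ℕ} (v : Fin N → R[X]) : Fin N → k[X] := fun i => red (v i)

theorem redN_add {N : ℕ} (v w : Fin N → R[X]) : redN (v + w) = redN v + redN w := by
  funext i; simp only [redN, Pi.add_apply, map_add]

theorem redN_sub {N : ℕ} (v w : Fin N → R[X]) : redN (v - w) = redN v - redN w := by
  funext i; simp only [redN, Pi.sub_apply, map_sub]

theorem redN_smul {N : ℕ} (c : R[X]) (v : Fin N → R[X]) : redN (c • v) = red c • redN v := by
  funext i; simp only [redN, Pi.smul_apply, smul_eq_mul, map_mul]

theorem redN_zero {N : ℕ} : redN (0 : Fin N → R[X]) = 0 := by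
  funext i; simp only [redN, Pi.zero_apply, map_zero]

theorem redN_single {N : ℕ} (i : Fin N) :
    redN (Pi.single i (1 : R[X]) : Fin N → R[X]) = Pi.single i 1 := by
  funext j
  by_cases hj : j = i
  · subst hj; simp only [redN, Pi.single_eq_same, map_one]
  · simp only [redN, Pi.single_apply, if_neg hj, map_zero]

/-- Existence of a unimodular element: the key step. -/
theorem exists_unimodular {n : ℕ} (P : Type v) [AddCommGroup P] [Module R[X] P]
    [Module.Projective R[X] P]
    (a : P →ₗ[R[X]] (Fin (n + 2) → R[X])) (h : R[X]) (hh : h.Monic)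
    (hcont : ∀ v : Fin (n + 2) → R[X], h • v ∈ LinearMap.range a) :
    ∃ (p' : P) (i0 : Fin (n + 2)) (φ₁ : P →ₗ[R[X]] R[X]),
      IsUnit (a p' i0).leadingCoeff ∧ φ₁ p' = 1 := by
  classical
  -- the reduced module
  set Sbar : Submodule k[X] (Fin (n + 2) → k[X]) :=
    Submodule.span k[X] (Set.range (fun p : P => redN (a p))) with hSbar
  have hSmem : ∀ p : P, redN (a p) ∈ Sbar := fun p => Submodule.subset_span ⟨p, rfl⟩
  have hSlift : ∀ y ∈ Sbar, ∃ p : P, redN (a p) = y := by
    intro y hy
    refine Submodule.span_induction ?_ ?_ ?_ ?_ hy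
    · rintro _ ⟨p, rfl⟩; exact ⟨p, rfl⟩
    · exact ⟨0, by rw [map_zero, redN_zero]⟩
    · rintro x y _ _ ⟨p, rfl⟩ ⟨q, rfl⟩
      exact ⟨p + q, by rw [map_add, redN_add]⟩
    · rintro c x _ ⟨p, rfl⟩
      obtain ⟨c', rfl⟩ := red_surjective (R := R) c
      exact ⟨c' • p, by rw [map_smul, redN_smul]⟩
  -- a basis of `Sbar`
  obtain ⟨r, β⟩ := Submodule.basisOfPid (Pi.basisFun k[X] (Fin (n + 2))) Sbar
  have hredh : red h ≠ 0 := by
    have : (h.map (IsLocalRing.residue R)).Monic := hh.map _
    exact this.ne_zero
  -- two independent elements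
  have hv : ∀ i : Fin (n + 2),
      red h • (Pi.single i (1 : k[X]) : Fin (n + 2) → k[X]) ∈ Sbar := by
    intro i
    obtain ⟨p, hp⟩ := hcont (Pi.single i 1)
    have : redN (a p) = red h • (Pi.single i (1 : k[X]) : Fin (n + 2) → k[X]) := by
      rw [hp, redN_smul, redN_single]
    rw [← this]; exact hSmem p
  have hr2 : 2 ≤ r := by
    let w : Fin 2 → Sbar := ![⟨_, hv 0⟩, ⟨_, hv 1⟩]
    have hw : LinearIndependent k[X] w := by
      rw [LinearIndependent.pair_iff]
      intro s t hst
      have h0 := congrArg (fun z : Sbar => (z : Fin (n + 2) → k[X]) 0) hst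
      have h1 := congrArg (fun z : Sbar => (z : Fin (n + 2) → k[X]) 1) hst
      have h01 : (Pi.single (1 : Fin (n + 2)) (1 : k[X]) : Fin (n + 2) → k[X]) 0 = 0 := by
        rw [Pi.single_apply, if_neg]
        simp [Fin.ext_iff]
      have h10 : (Pi.single (0 : Fin (n + 2)) (1 : k[X]) : Fin (n + 2) → k[X]) 1 = 0 := by
        rw [Pi.single_apply, if_neg]
        simp [Fin.ext_iff]
      simp only [Submodule.coe_add, Submodule.coe_smul, Pi.add_apply, Pi.smul_apply,
        Pi.single_eq_same, smul_eq_mul, mul_one, Submodule.coe_zero, Pi.zero_apply, h01, h10,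
        mul_zero, add_zero, zero_add] at h0 h1
      exact ⟨(mul_eq_zero.mp h0).resolve_right hredh, (mul_eq_zero.mp h1).resolve_right hredh⟩
    have := hw.fintype_card_le_finrank
    rw [Module.finrank_eq_card_basis β] at this
    simpa using this
  let j0 : Fin r := ⟨0, by omega⟩
  let j1 : Fin r := ⟨1, by omega⟩
  have hj01 : j0 ≠ j1 := by simp [j0, j1, Fin.ext_iff]
  -- a coordinate where `β j1` does not vanish
  have hβ1 : ((β j1 : Sbar) : Fin (n + 2) → k[X]) ≠ 0 := by
    intro h0
    exact β.ne_zero j1 (Subtype.ext h0)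
  obtain ⟨i0, hi0⟩ := Function.ne_iff.mp hβ1
  set b0 := ((β j0 : Sbar) : Fin (n + 2) → k[X]) i0 with hb0
  set b1 := ((β j1 : Sbar) : Fin (n + 2) → k[X]) i0 with hb1
  have hb1ne : b1 ≠ 0 := hi0
  set Mexp := b0.natDegree + h.natDegree + 1 with hMexp
  set xbar : Sbar := β j0 + (X ^ Mexp : k[X]) • β j1 with hxbar
  let ψbar : Sbar →ₗ[k[X]] k[X] := β.coord j0
  have hψx : ψbar xbar = 1 := by
    simp only [ψbar, hxbar, map_add, map_smul, Module.Basis.coord_apply, Module.Basis.repr_self,
      Finsupp.single_eq_same, smul_eq_mul, Finsupp.coe_add, Pi.add_apply, Finsupp.coe_smul,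
      Pi.smul_apply]
    rw [Finsupp.single_eq_of_ne hj01, mul_zero, add_zero]
  set ybar := (xbar : Fin (n + 2) → k[X]) i0 with hybar
  have hybar' : ybar = b0 + X ^ Mexp * b1 := by
    simp only [hybar, hxbar, hb0, hb1, Submodule.coe_add, Submodule.coe_smul, Pi.add_apply,
      Pi.smul_apply, smul_eq_mul]
  have hXb1 : (X ^ Mexp * b1).natDegree = b1.natDegree + Mexp :=
    Polynomial.natDegree_X_pow_mul _ hb1ne
  have hydeg : ybar.natDegree = b1.natDegree + Mexp := by
    rw [hybar', Polynomial.natDegree_add_eq_right_of_natDegree_lt, hXb1]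
    rw [hXb1]; omega
  have hyne : ybar ≠ 0 := by
    intro h0
    rw [h0, natDegree_zero] at hydeg
    omega
  -- lift to `P`
  obtain ⟨p, hp⟩ := hSlift xbar xbar.2
  set c := a p i0 with hc
  have hredc : red c = ybar := by
    have := congrFun hp i0
    simpa only [redN] using this
  obtain ⟨u, hu, hud⟩ := Polynomial.exists_degree_eq_of_mem_lifts
    (Polynomial.mem_lifts_of_surjective IsLocalRing.residue_surjective ybar)
  have hune : u ≠ 0 := by
    intro h0
    rw [h0, degree_zero] at hud
    exact hyne (degree_eq_bot.mp hud.symm)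
  have hund : u.natDegree = ybar.natDegree := natDegree_eq_natDegree hud
  have hulc : IsUnit u.leadingCoeff := by
    have h1 : IsLocalRing.residue R u.leadingCoeff = ybar.leadingCoeff := by
      rw [leadingCoeff, leadingCoeff, hund, ← hu, coeff_map]
    have h2 : ybar.leadingCoeff ≠ 0 := leadingCoeff_ne_zero.mpr hyne
    by_contra hnu
    have : u.leadingCoeff ∈ 𝔪 := (IsLocalRing.mem_maximalIdeal _).mpr hnu
    rw [← IsLocalRing.residue_eq_zero_iff] at this
    exact h2 (h1 ▸ this)
  set vv := c - u with hvv
  have hredv : red vv = 0 := by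
    rw [hvv, map_sub, hredc]
    have : red u = ybar := hu
    rw [this, sub_self]
  set q := vv /ₘ h with hq
  set rr := vv %ₘ h with hrr
  have hredq : red q = 0 := by
    have h1 : (vv /ₘ h).map (IsLocalRing.residue R) =
        vv.map (IsLocalRing.residue R) /ₘ h.map (IsLocalRing.residue R) :=
      Polynomial.map_divByMonic _ hh
    have h2 : vv.map (IsLocalRing.residue R) = 0 := hredv
    rw [h2, zero_divByMonic] at h1
    exact h1
  obtain ⟨ph, hph⟩ := hcont (Pi.single i0 1)
  set p' := p - q • ph with hp'
  have hap' : a p' i0 = u + rr := by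
    rw [hp', map_sub, map_smul, hph]
    simp only [Pi.sub_apply, Pi.smul_apply, Pi.single_eq_same, smul_eq_mul, mul_one]
    have := Polynomial.modByMonic_add_div vv h
    rw [← hc]
    linear_combination (-1 : R[X]) * this + hvv
  have hredp' : redN (a p') = (xbar : Fin (n + 2) → k[X]) := by
    rw [hp', map_sub, map_smul, ← hp, redN_sub, redN_smul, hredq, zero_smul, sub_zero]
  -- `a p' i0` has unit leading coefficient
  have hrrdeg : rr.degree < u.degree := by
    have h1 : rr.degree < h.degree := Polynomial.degree_modByMonic_lt _ hh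
    have h2 : h.degree ≤ u.degree := by
      rw [degree_eq_natDegree hh.ne_zero, degree_eq_natDegree hune, hund, hydeg]
      exact_mod_cast (by omega : h.natDegree ≤ b1.natDegree + Mexp)
    exact lt_of_lt_of_le h1 h2
  have hlc : IsUnit (a p' i0).leadingCoeff := by
    rw [hap', Polynomial.leadingCoeff_add_of_degree_lt' hrrdeg]
    exact hulc
  -- lift the functional
  letI : Module R[X] k[X] := Module.compHom k[X] red
  let fA : R[X] →ₗ[R[X]] k[X] :=
    { toFun := fun x => red x
      map_add' := fun x y => map_add _ x y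
      map_smul' := fun c x => by
        change red (c * x) = red c * red x
        exact map_mul _ c x }
  let gA : P →ₗ[R[X]] k[X] :=
    { toFun := fun x => ψbar ⟨redN (a x), hSmem x⟩
      map_add' := fun x y => by
        rw [← map_add]
        congr 1
        apply Subtype.ext
        simp only [map_add, redN_add, Submodule.coe_add]
      map_smul' := fun c x => by
        change _ = red c * _
        rw [← smul_eq_mul, ← map_smul]
        congr 1
        apply Subtype.ext
        simp only [map_smul, redN_smul, Submodule.coe_smul, RingHom.id_apply] }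
  have hfA : Function.Surjective fA := red_surjective (R := R)
  obtain ⟨φ, hφ⟩ := Module.projective_lifting_property fA gA hfA
  have hφp' : red (φ p') = 1 := by
    have h1 := LinearMap.congr_fun hφ p'
    have h2 : gA p' = ψbar xbar := by
      change ψbar ⟨redN (a p'), hSmem p'⟩ = ψbar xbar
      congr 1
      exact Subtype.ext hredp'
    rw [h2, hψx] at h1
    exact h1
  -- the order ideal
  let O : Ideal R[X] := LinearMap.range (LinearMap.applyₗ p' : (P →ₗ[R[X]] R[X]) →ₗ[R[X]] R[X])
  have hOmem : ∀ f : P →ₗ[R[X]] R[X], f p' ∈ O := fun f => ⟨f, rfl⟩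
  obtain ⟨b, hb⟩ := hlc.exists_left_inv
  have hmon : (C b * a p' i0).Monic := Polynomial.monic_C_mul_of_mul_leadingCoeff_eq_one hb
  have hc'O : a p' i0 ∈ O := hOmem ((LinearMap.proj i0).comp a)
  have hmonO : C b * a p' i0 ∈ O := O.mul_mem_left _ hc'O
  have hOtop : O = ⊤ := by
    apply ideal_eq_top O _ hmon hmonO
    rw [Ideal.eq_top_iff_one]
    have h1 : (1 : R[X]) = φ p' + (1 - φ p') := by ring
    rw [h1]
    refine Submodule.add_mem_sup (hOmem φ) ?_
    rw [← ker_red, RingHom.mem_ker, map_sub, map_one, hφp', sub_self]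
  obtain ⟨φ₁, hφ₁⟩ : (1 : R[X]) ∈ O := by rw [hOtop]; trivial
  exact ⟨p', i0, φ₁, hlc, hφ₁⟩

end step

end Groth.Agent.H9.LH

namespace Groth.Agent.H9.LH

open Polynomial

universe u v

section main

variable {R : Type u} [CommRing R] [IsLocalRing R]

/-- **Local Horrocks** (lattice form): a finite projective `R[X]`-module `P` (with `R` local)
embedded in `R[X]^n` with `h R[X]^n ⊆ P` for a monic `h` is free of rank `n`. -/
theorem horrocks_lattice : ∀ (n : ℕ) (P : Type v) [AddCommGroup P] [Module R[X] P]
    [Module.Finite R[X] P] [Module.Projective R[X] P]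
    (a : P →ₗ[R[X]] (Fin n → R[X])) (ha : Function.Injective a) (h : R[X]) (hh : h.Monic)
    (hcont : ∀ v : Fin n → R[X], h • v ∈ LinearMap.range a),
    Nonempty (P ≃ₗ[R[X]] (Fin n → R[X])) := by
  intro n
  induction n using Nat.strong_induction_on with
  | _ n ih =>
  intro P _ _ _ _ a ha h hh hcont
  match n, ih, a, ha, hcont with
  | 0, _, a, ha, hcont =>
    haveI : Subsingleton P := ⟨fun x y => ha (Subsingleton.elim _ _)⟩
    exact ⟨LinearEquiv.ofSubsingleton _ _⟩
  | 1, _, a, ha, hcont =>
    -- the rank one case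
    let α : P →ₗ[R[X]] R[X] := (LinearMap.proj 0).comp a
    have hα : Function.Injective α := by
      intro x y hxy
      apply ha
      funext i
      have : i = 0 := Subsingleton.elim _ _
      rw [this]; exact hxy
    let I : Ideal R[X] := LinearMap.range α
    let eI : P ≃ₗ[R[X]] I := LinearEquiv.ofInjective α hα
    haveI : Module.Projective R[X] I := Module.Projective.of_equiv eI
    have hIfg : I.FG := by
      have : (⊤ : Submodule R[X] P).FG := Module.Finite.fg_top
      have h2 := this.map α
      rwa [Submodule.map_top] at h2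
    have hhI : h ∈ I := by
      obtain ⟨p, hp⟩ := hcont (fun _ => 1)
      refine ⟨p, ?_⟩
      change a p 0 = h
      rw [hp]; simp
    obtain ⟨g, hg, hIg⟩ := rank_one I hIfg hh hhI
    -- `R[X] ≃ I`
    have hgI : ∀ c : R[X], c * g ∈ I := by
      intro c; rw [hIg]; exact Ideal.mul_mem_left _ _ (Ideal.subset_span rfl)
    let f : R[X] →ₗ[R[X]] I :=
      { toFun := fun c => ⟨c * g, hgI c⟩
        map_add' := fun x y => Subtype.ext (add_mul x y g)
        map_smul' := fun c x => Subtype.ext (by simp [mul_assoc]) }
    have hf : Function.Bijective f := by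
      constructor
      · intro x y hxy
        have : x * g = y * g := congrArg Subtype.val hxy
        have h2 : g * (x - y) = 0 := by linear_combination this
        exact sub_eq_zero.mp (hg.mul_right_eq_zero_iff.mp h2)
      · rintro ⟨x, hx⟩
        have hx' := hx
        rw [hIg, Ideal.mem_span_singleton'] at hx'
        obtain ⟨c, rfl⟩ := hx'
        exact ⟨c, rfl⟩
    exact ⟨eI.trans ((LinearEquiv.ofBijective f hf).symm.trans
      (LinearEquiv.funUnique (Fin 1) R[X] R[X]).symm)⟩
  | (n + 2), ih, a, ha, hcont =>
    classical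
    obtain ⟨p', i0, φ₁, hlc, hφ₁⟩ := exists_unimodular P a h hh hcont
    set c' := a p' i0 with hc'
    -- the complement
    let P₀ := LinearMap.ker φ₁
    let s : P →ₗ[R[X]] P₀ :=
      { toFun := fun x => ⟨x - φ₁ x • p', by
          rw [LinearMap.mem_ker, map_sub, map_smul, hφ₁, smul_eq_mul, mul_one, sub_self]⟩
        map_add' := fun x y => Subtype.ext (by simp [add_smul]; abel)
        map_smul' := fun c x => Subtype.ext (by simp [smul_sub, mul_smul]) }
    have hs : ∀ x : P₀, s x = x := by
      intro x
      apply Subtype.ext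
      have : φ₁ (x : P) = 0 := x.2
      simp [s, this]
    haveI : Module.Projective R[X] P₀ :=
      Module.Projective.of_split P₀.subtype s (LinearMap.ext fun x => hs x)
    haveI : Module.Finite R[X] P₀ :=
      Module.Finite.of_surjective s (fun x => ⟨x, hs x⟩)
    -- the new embedding
    let Ψ : P →ₗ[R[X]] (Fin (n + 1) → R[X]) :=
      LinearMap.pi fun j => c' • ((LinearMap.proj (i0.succAbove j)).comp a)
        - (a p' (i0.succAbove j)) • ((LinearMap.proj i0).comp a)
    have hΨ : ∀ x j, Ψ x j = c' * a x (i0.succAbove j) - a p' (i0.succAbove j) * a x i0 := by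
      intro x j; simp [Ψ]
    have hΨp' : Ψ p' = 0 := by
      funext j; rw [hΨ]; simp only [Pi.zero_apply, hc']; ring
    let a₀ : P₀ →ₗ[R[X]] (Fin (n + 1) → R[X]) := Ψ.comp P₀.subtype
    have ha₀ : Function.Injective a₀ := by
      rw [← LinearMap.ker_eq_bot, LinearMap.ker_eq_bot']
      intro x hx
      have hxk : φ₁ (x : P) = 0 := x.2
      -- `y = c' • x - (a x i0) • p'` is killed by `a`
      have hy : a (c' • (x : P) - (a x i0) • p') = 0 := by
        funext i
        by_cases hi : i = i0
        · subst hi
          simp only [map_sub, map_smul, Pi.sub_apply, Pi.smul_apply, smul_eq_mul, Pi.zero_apply,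
            hc']
          ring
        · obtain ⟨j, rfl⟩ := Fin.exists_succAbove_eq hi
          have := congrFun hx j
          change Ψ (x : P) j = 0 at this
          rw [hΨ] at this
          simp only [map_sub, map_smul, Pi.sub_apply, Pi.smul_apply, smul_eq_mul, Pi.zero_apply]
          linear_combination this
      have hy0 : c' • (x : P) = (a x i0) • p' := sub_eq_zero.mp (ha (by rw [hy, map_zero]))
      have h1 : a x i0 = 0 := by
        have := congrArg φ₁ hy0
        rw [map_smul, map_smul, hxk, hφ₁, smul_zero, smul_eq_mul, mul_one] at this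
        exact this.symm
      have h2 : c' • (x : P) = 0 := by rw [hy0, h1, zero_smul]
      have h3 : a (x : P) = 0 := by
        funext i
        have := congrFun (congrArg a h2) i
        rw [map_smul, map_zero] at this
        simp only [Pi.smul_apply, smul_eq_mul, Pi.zero_apply] at this ⊢
        exact eq_zero_of_mul_eq_zero_of_isUnit_leadingCoeff hlc this
      exact Subtype.ext (ha (by rw [h3]; simp))
    obtain ⟨b, hb⟩ := hlc.exists_left_inv
    have hmon : (C b * c').Monic := Polynomial.monic_C_mul_of_mul_leadingCoeff_eq_one hb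
    have hcont₀ : ∀ v : Fin (n + 1) → R[X], ((C b * c') * h) • v ∈ LinearMap.range a₀ := by
      intro v
      obtain ⟨z, hz⟩ := hcont (Fin.insertNth i0 (0 : R[X]) v)
      refine ⟨C b • s z, ?_⟩
      rw [map_smul]
      change C b • Ψ ((s z : P₀) : P) = _
      have h1 : ((s z : P₀) : P) = z - φ₁ z • p' := rfl
      rw [h1, map_sub, map_smul, hΨp', smul_zero, sub_zero]
      funext j
      simp only [Pi.smul_apply, smul_eq_mul, hΨ, hz, Fin.insertNth_apply_same,
        Fin.insertNth_apply_succAbove]
      ring
    obtain ⟨e₀⟩ := ih (n + 1) (by omega) P₀ a₀ ha₀ ((C b * c') * h) (hmon.mul hh) hcont₀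
    -- `P ≃ R[X] × P₀`
    let eP : P ≃ₗ[R[X]] (R[X] × P₀) :=
      LinearEquiv.ofLinearMap (φ₁.prod s)
        ((LinearMap.toSpanSingleton R[X] P p').coprod P₀.subtype)
        (by
          refine LinearMap.ext fun x => ?_
          obtain ⟨c, y⟩ := x
          have hy : φ₁ (y : P) = 0 := y.2
          apply Prod.ext
          · simp [hφ₁, hy]
          · apply Subtype.ext
            simp [s, hφ₁, hy])
        (by
          refine LinearMap.ext fun x => ?_
          simp [s])
    exact ⟨eP.trans ((LinearEquiv.prodCongr (LinearEquiv.refl _ _) e₀).trans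
      (Fin.consLinearEquiv R[X] (fun _ => R[X])))⟩

end main

end Groth.Agent.H9.LH
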