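import Mathlib
import Groth.Agent.Lib.Helper9.Misc.MVN1
import Groth.Agent.Lib.Helper9.Misc.LH2

set_option autoImplicit false
set_option linter.style.haveILetI false
set_option linter.unusedSectionVars false
set_option linter.unusedVariables false

/-!
# Local Horrocks in matrix form
-/

namespace Groth.Agent.H9.LH

open Polynomial Matrix Groth.Agent.H9.MVN

universe u

variable {R : Type u} [CommRing R] [IsLocalRing R]
variable {ι : Type*} [Fintype ι] [DecidableEq ι]

theorem smul_matrix_eq_zero {κ μ : Type*} {h : R[X]} (hh : h.Monic) {x : Matrix κ μ R[X]}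
    (hx : h • x = 0) : x = 0 := by
  refine Matrix.ext fun i j => ?_
  have := congrFun (congrFun hx i) j
  simp only [Matrix.smul_apply, smul_eq_mul, Matrix.zero_apply] at this
  exact hh.mul_right_eq_zero_iff.mp this

/-- **Local Horrocks, matrix form.** -/
theorem horrocks_matrix {r : ℕ} (e : Matrix ι ι R[X]) (he : e * e = e) (h : R[X]) (hh : h.Monic)
    (u : Matrix (Fin r) ι R[X]) (v : Matrix ι (Fin r) R[X])
    (h1 : v * u = h • e) (h2 : u * v = h • (1 : Matrix (Fin r) (Fin r) R[X])) :
    MvN e (1 : Matrix (Fin r) (Fin r) R[X]) := by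
  have hev : e * v = v := by
    have h3 : (e * v - v) * u = 0 := by
      rw [Matrix.sub_mul, Matrix.mul_assoc, h1, Matrix.mul_smul, he, sub_self]
    have h4 : h • (e * v - v) = 0 := by
      have := congrArg (· * v) h3
      simp only [Matrix.zero_mul] at this
      rw [Matrix.mul_assoc, h2, Matrix.mul_smul, Matrix.mul_one] at this
      exact this
    exact sub_eq_zero.mp (smul_matrix_eq_zero hh h4)
  let P := LinearMap.range (Matrix.toLin' e)
  have hP : Pres R[X] P e := pres_range he
  haveI : Module.Finite R[X] P := hP.finite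
  haveI : Module.Projective R[X] P := hP.projective
  let a : P →ₗ[R[X]] (Fin r → R[X]) := (Matrix.toLin' u).comp P.subtype
  have hPe : ∀ x : P, Matrix.toLin' e (x : ι → R[X]) = x := by
    rintro ⟨_, y, rfl⟩
    change Matrix.toLin' e (Matrix.toLin' e y) = Matrix.toLin' e y
    rw [← Matrix.toLin'_mul_apply, he]
  have ha : Function.Injective a := by
    rw [← LinearMap.ker_eq_bot, LinearMap.ker_eq_bot']
    intro x hx
    have h3 : Matrix.toLin' (v * u) (x : ι → R[X]) = 0 := by
      rw [Matrix.toLin'_mul_apply]
      have : Matrix.toLin' u (x : ι → R[X]) = 0 := hx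
      rw [this, map_zero]
    rw [h1, map_smul, LinearMap.smul_apply, hPe] at h3
    apply Subtype.ext
    funext i
    have := congrFun h3 i
    simp only [Pi.smul_apply, smul_eq_mul, Pi.zero_apply] at this
    exact hh.mul_right_eq_zero_iff.mp this
  have hcont : ∀ w : Fin r → R[X], h • w ∈ LinearMap.range a := by
    intro w
    have hmem : Matrix.toLin' v w ∈ P := by
      refine ⟨Matrix.toLin' v w, ?_⟩
      rw [← Matrix.toLin'_mul_apply, hev]
    refine ⟨⟨Matrix.toLin' v w, hmem⟩, ?_⟩
    change Matrix.toLin' u (Matrix.toLin' v w) = h • w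
    rw [← Matrix.toLin'_mul_apply, h2, map_smul, LinearMap.smul_apply, Matrix.toLin'_one,
      LinearMap.id_apply]
  obtain ⟨f⟩ := horrocks_lattice r P a ha h hh hcont
  exact hP.mvn_of_equiv pres_pi f

end Groth.Agent.H9.LH
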