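import Mathlib
import Groth.Agent.Lib.Helper9.Misc.MVN1
import Groth.Agent.Lib.Helper9.Misc.MVN2
import Groth.Agent.Lib.Helper9.Misc.LHX

set_option autoImplicit false
set_option linter.style.haveILetI false
set_option linter.unusedSectionVars false
set_option linter.unusedVariables false

/-!
# Horrocks over Laurent polynomials, local freeness of idempotents
-/

namespace Groth.Agent.H9.HQ

open Polynomial Matrix LaurentPolynomial Groth.Agent.H9.MVN Groth.Agent.H9.LH

universe u

section localfree

variable {R : Type u} [CommRing R] [IsLocalRing R]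
variable {ι : Type*} [Fintype ι] [DecidableEq ι]

/-- over a local ring an idempotent matrix is equivalent to an identity matrix. -/
theorem exists_mvn_one (e : Matrix ι ι R) (he : e * e = e) :
    ∃ r : ℕ, MvN e (1 : Matrix (Fin r) (Fin r) R) := by
  let P := LinearMap.range (Matrix.toLin' e)
  have hP : Pres R P e := pres_range he
  haveI : Module.Finite R P := hP.finite
  haveI : Module.Projective R P := hP.projective
  haveI : Module.Free R P := Module.free_of_flat_of_isLocalRing
  exact ⟨Module.finrank R P, hP.mvn_of_equiv pres_pi (Module.finBasis R P).equivFun⟩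

end localfree

section lift

variable {R : Type u} [CommRing R]

theorem exists_lift_matrix {κ μ : Type*} [Finite κ] [Finite μ] (F : Matrix κ μ R[T;T⁻¹]) :
    ∃ N : ℕ, ∀ N' : ℕ, N ≤ N' → ∃ F' : Matrix κ μ R[X],
      F'.map (toLaurent : R[X] →+* R[T;T⁻¹]) = (T (N' : ℤ) : R[T;T⁻¹]) • F := by
  classical
  cases nonempty_fintype κ
  cases nonempty_fintype μ
  have h := fun i j => LaurentPolynomial.exists_T_pow (F i j)
  choose n f hf using h
  refine ⟨∑ i, ∑ j, n i j, fun N' hN' => ?_⟩
  have hle : ∀ i j, n i j ≤ N' := by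
    intro i j
    refine le_trans ?_ hN'
    calc n i j ≤ ∑ j', n i j' :=
          Finset.single_le_sum (f := fun j' => n i j') (fun _ _ => Nat.zero_le _)
            (Finset.mem_univ j)
      _ ≤ ∑ i', ∑ j', n i' j' :=
          Finset.single_le_sum (f := fun i' => ∑ j', n i' j') (fun _ _ => Nat.zero_le _)
            (Finset.mem_univ i)
  refine ⟨fun i j => f i j * X ^ (N' - n i j), ?_⟩
  refine Matrix.ext fun i j => ?_
  simp only [Matrix.map_apply, Matrix.smul_apply, smul_eq_mul, map_mul, hf, map_pow,
    Polynomial.toLaurent_X, LaurentPolynomial.T_pow]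
  rw [mul_assoc, ← LaurentPolynomial.T_add, mul_comm]
  congr 2
  have := hle i j
  push_cast [Nat.cast_sub this]
  ring

theorem toLaurent_map_injective {κ μ : Type*} {F G : Matrix κ μ R[X]}
    (h : F.map (toLaurent : R[X] →+* R[T;T⁻¹]) = G.map (toLaurent : R[X] →+* R[T;T⁻¹])) :
    F = G := by
  refine Matrix.ext fun i j => ?_
  have := congrFun (congrFun h i) j
  simp only [Matrix.map_apply] at this
  exact Polynomial.toLaurent_injective this

end lift

section horrocks

variable {R : Type u} [CommRing R] [IsLocalRing R]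
variable {ι : Type*} [Fintype ι] [DecidableEq ι]

/-- Horrocks with the trivialisation given over the Laurent polynomial ring. -/
theorem horrocks_laurent (ε : Matrix ι ι R[X]) (hε : ε * ε = ε) {r : ℕ}
    (U : Matrix (Fin r) ι R[T;T⁻¹]) (V : Matrix ι (Fin r) R[T;T⁻¹])
    (G : R[T;T⁻¹]) (H : R[X]) (hH : H.Monic) (N₃ : ℕ)
    (hHG : toLaurent H = G * T (N₃ : ℤ))
    (hVU : V * U = G • ε.map (toLaurent : R[X] →+* R[T;T⁻¹]))
    (hUV : U * V = G • (1 : Matrix (Fin r) (Fin r) R[T;T⁻¹])) :
    MvN ε (1 : Matrix (Fin r) (Fin r) R[X]) := by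
  obtain ⟨N₁, hN₁⟩ := exists_lift_matrix U
  obtain ⟨N₂, hN₂⟩ := exists_lift_matrix V
  obtain ⟨U', hU'⟩ := hN₁ (N₁ + N₃) (Nat.le_add_right _ _)
  obtain ⟨V', hV'⟩ := hN₂ N₂ le_rfl
  set h : R[X] := X ^ (N₁ + N₂) * H with hh
  have hhm : h.Monic := (monic_X_pow _).mul hH
  have hhL : toLaurent h = T ((N₂ : ℕ) : ℤ) * T ((N₁ + N₃ : ℕ) : ℤ) * G := by
    rw [hh, map_mul, map_pow, Polynomial.toLaurent_X, LaurentPolynomial.T_pow, hHG,
      ← LaurentPolynomial.T_add]
    rw [mul_comm G, ← mul_assoc, ← LaurentPolynomial.T_add]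
    congr 2
    push_cast; ring
  apply horrocks_matrix ε hε h hhm U' V'
  · apply toLaurent_map_injective
    rw [Matrix.map_mul, hU', hV', Matrix.smul_mul, Matrix.mul_smul, hVU, smul_smul, smul_smul]
    refine Matrix.ext fun i j => ?_
    simp only [Matrix.map_apply, Matrix.smul_apply, smul_eq_mul, map_mul, hhL]
  · apply toLaurent_map_injective
    rw [Matrix.map_mul, hU', hV', Matrix.smul_mul, Matrix.mul_smul, hUV, smul_smul, smul_smul]
    refine Matrix.ext fun i j => ?_
    simp only [Matrix.map_apply, Matrix.smul_apply, smul_eq_mul, map_mul, hhL]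
    by_cases hij : i = j
    · subst hij; simp only [Matrix.one_apply_eq, map_one]
      ring
    · simp only [Matrix.one_apply_ne hij, map_zero, mul_zero]

end horrocks

end Groth.Agent.H9.HQ
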