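import Mathlib
import Groth.Agent.Lib.Helper9.Misc.MVN1

set_option autoImplicit false
set_option linter.style.haveILetI false
set_option linter.unusedSectionVars false
set_option linter.unusedVariables false

/-!
# Quillen's lifting lemma in matrix form
-/

namespace Groth.Agent.H9.QPL

open Polynomial Matrix

section scl

variable {S : Type*} [CommRing S]

/-- scaling the variable: `p(X) ↦ p(cX)`. -/
noncomputable def scl (c : S) : S[X] →+* S[X] := Polynomial.compRingHom (C c * X)

theorem scl_apply (c : S) (p : S[X]) : scl c p = p.comp (C c * X) := rfl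

theorem scl_scl (c c' : S) (p : S[X]) : scl c (scl c' p) = scl (c' * c) p := by
  simp only [scl_apply]
  rw [Polynomial.comp_assoc, Polynomial.mul_comp, Polynomial.C_comp, Polynomial.X_comp,
    ← mul_assoc, ← C_mul]

theorem scl_C (c a : S) : scl c (C a) = C a := by
  rw [scl_apply, Polynomial.C_comp]

theorem scl_X (c : S) : scl c X = C c * X := by
  rw [scl_apply, Polynomial.X_comp]

theorem scl_one (p : S[X]) : scl 1 p = p := by
  rw [scl_apply, C_1, one_mul, Polynomial.comp_X]

theorem coeff_zero_scl (c : S) (p : S[X]) : (scl c p).coeff 0 = p.coeff 0 := by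
  rw [scl_apply, coeff_zero_eq_eval_zero, Polynomial.eval_comp, coeff_zero_eq_eval_zero]
  simp

theorem map_scl {S' : Type*} [CommRing S'] (f : S →+* S') (c : S) (p : S[X]) :
    (scl c p).map f = scl (f c) (p.map f) := by
  simp only [scl_apply]
  rw [Polynomial.map_comp, Polynomial.map_mul, Polynomial.map_C, Polynomial.map_X]

theorem scl_eq_zero (s : S) (d : S[X]) (h0 : d.coeff 0 = 0) (hk : C s * d = 0) :
    scl s d = 0 := by
  have hd : d = X * divX d := by
    have := X_mul_divX_add d
    rw [h0, C_0, add_zero] at this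
    exact this.symm
  have h1 : C s * divX d = 0 := by
    ext n
    have := congrArg (fun p => p.coeff (n + 1)) hk
    simp only [coeff_zero] at this ⊢
    rw [hd] at this
    rw [coeff_C_mul] at this ⊢
    rw [coeff_X_mul] at this
    exact this
  rw [hd, scl_apply, Polynomial.mul_comp, Polynomial.X_comp]
  calc C s * X * (divX d).comp (C s * X) = X * (C s * divX d).comp (C s * X) := by
        rw [Polynomial.C_mul_comp]; ring
    _ = 0 := by rw [h1, Polynomial.zero_comp, mul_zero]

end scl

section lifts

variable {S₀ S₀' : Type*} [CommRing S₀] [CommRing S₀'] [Algebra S₀ S₀']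
variable (M : Submonoid S₀) [IsLocalization M S₀']

theorem exists_common_lift {κ : Type*} [Finite κ] (f : κ → S₀'[X]) :
    ∃ s ∈ M, ∀ k, ∃ q : S₀[X],
      q.map (algebraMap S₀ S₀') = C (algebraMap S₀ S₀' s) * f k := by
  classical
  cases nonempty_fintype κ
  have h := fun k => IsLocalization.integerNormalization_spec M (f k)
  choose b hb hq using h
  refine ⟨∏ k, b k, Submonoid.prod_mem _ (fun k _ => hb k), fun k => ?_⟩
  refine ⟨C (∏ k' ∈ Finset.univ.erase k, b k') * IsLocalization.integerNormalization M (f k), ?_⟩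
  rw [Polynomial.map_mul, Polynomial.map_C, hq k, ← Finset.mul_prod_erase Finset.univ b
    (Finset.mem_univ k), map_mul, C_mul]
  rw [← IsScalarTower.algebraMap_smul S₀' (b k) (f k), Polynomial.smul_eq_C_mul]
  ring

theorem exists_kill (d : S₀[X]) (h : d.map (algebraMap S₀ S₀') = 0) :
    ∃ s ∈ M, C s * d = 0 := by
  classical
  have h1 : ∀ n, ∃ c ∈ M, c * d.coeff n = 0 := by
    intro n
    have : algebraMap S₀ S₀' (d.coeff n) = 0 := by
      have := congrArg (fun p => p.coeff n) h
      simpa using this
    obtain ⟨c, hc⟩ := (IsLocalization.map_eq_zero_iff M S₀' _).mp this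
    exact ⟨c, c.2, hc⟩
  choose c hc hcz using h1
  refine ⟨∏ n ∈ d.support, c n, Submonoid.prod_mem _ (fun n _ => hc n), ?_⟩
  ext n
  rw [coeff_C_mul, coeff_zero]
  by_cases hn : n ∈ d.support
  · rw [← Finset.mul_prod_erase _ _ hn, mul_comm (c n), mul_assoc, hcz, mul_zero]
  · rw [notMem_support_iff.mp hn, mul_zero]

theorem exists_common_kill {κ : Type*} [Finite κ] (d : κ → S₀[X])
    (h : ∀ k, (d k).map (algebraMap S₀ S₀') = 0) :
    ∃ s ∈ M, ∀ k, C s * d k = 0 := by
  classical
  cases nonempty_fintype κ
  have h1 := fun k => exists_kill M (d k) (h k)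
  choose b hb hq using h1
  refine ⟨∏ k, b k, Submonoid.prod_mem _ (fun k _ => hb k), fun k => ?_⟩
  rw [← Finset.mul_prod_erase Finset.univ b (Finset.mem_univ k), mul_comm (b k), C_mul, mul_assoc,
    hq k, mul_zero]

end lifts

end Groth.Agent.H9.QPL

namespace Groth.Agent.H9.QPL

open Polynomial Matrix

section main

variable {S₀ S₀' : Type*} [CommRing S₀] [CommRing S₀'] [Algebra S₀ S₀']
variable (M : Submonoid S₀) [IsLocalization M S₀']
variable {ι : Type*} [Fintype ι] [DecidableEq ι]

/-- the lifted entry -/
theorem lift_entry (p' : S₀'[X]) (c₀ : S₀) (hc : algebraMap S₀ S₀' c₀ = p'.coeff 0) (s : S₀)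
    (q : S₀[X]) (hq : q.map (algebraMap S₀ S₀') = C (algebraMap S₀ S₀' s) * divX p') :
    (C c₀ + X * q.comp (C s * X)).map (algebraMap S₀ S₀') = scl (algebraMap S₀ S₀' s) p' := by
  rw [Polynomial.map_add, Polynomial.map_C, Polynomial.map_mul, Polynomial.map_X,
    Polynomial.map_comp, hq, Polynomial.map_mul, Polynomial.map_C, Polynomial.map_X, hc,
    Polynomial.C_mul_comp, scl_apply]
  conv_rhs => rw [← X_mul_divX_add p']
  rw [Polynomial.add_comp, Polynomial.mul_comp, Polynomial.X_comp, Polynomial.C_comp]
  ring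

theorem lemmaL (E₀ E₁ : Matrix ι ι S₀[X]) (Ebar : Matrix ι ι S₀)
    (h0 : E₀.map (fun p => p.coeff 0) = Ebar) (h1 : E₁.map (fun p => p.coeff 0) = Ebar)
    (hE : Ebar * Ebar = Ebar)
    (W W' : Matrix ι ι S₀'[X])
    (hW'W : W' * W = E₀.map (Polynomial.map (algebraMap S₀ S₀')))
    (hWW' : W * W' = E₁.map (Polynomial.map (algebraMap S₀ S₀')))
    (hW0 : W.map (fun p => p.coeff 0) = Ebar.map (algebraMap S₀ S₀'))
    (hW'0 : W'.map (fun p => p.coeff 0) = Ebar.map (algebraMap S₀ S₀')) :
    ∃ g ∈ M, ∃ w w' : Matrix ι ι S₀[X],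
      w' * w = E₀.map (scl g) ∧ w * w' = E₁.map (scl g) := by
  classical
  set alg := algebraMap S₀ S₀' with halg
  -- lift the `divX` parts
  obtain ⟨s, hs, hlift⟩ := exists_common_lift M
    (fun k : Bool × ι × ι => if k.1 then divX (W k.2.1 k.2.2) else divX (W' k.2.1 k.2.2))
  choose q hq using hlift
  let w : Matrix ι ι S₀[X] := fun i j => C (Ebar i j) + X * (q (true, i, j)).comp (C s * X)
  let w' : Matrix ι ι S₀[X] := fun i j => C (Ebar i j) + X * (q (false, i, j)).comp (C s * X)
  let φ : S₀[X] →+* S₀'[X] := Polynomial.mapRingHom alg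
  have hwφ : w.map φ = W.map (scl (alg s)) := by
    refine Matrix.ext fun i j => ?_
    simp only [Matrix.map_apply, w, φ, Polynomial.coe_mapRingHom]
    apply lift_entry
    · have := congrFun (congrFun hW0 i) j
      simp only [Matrix.map_apply] at this
      exact this.symm
    · have := hq (true, i, j)
      simpa using this
  have hw'φ : w'.map φ = W'.map (scl (alg s)) := by
    refine Matrix.ext fun i j => ?_
    simp only [Matrix.map_apply, w', φ, Polynomial.coe_mapRingHom]
    apply lift_entry
    · have := congrFun (congrFun hW'0 i) j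
      simp only [Matrix.map_apply] at this
      exact this.symm
    · have := hq (false, i, j)
      simpa using this
  -- constant coefficients
  have hwc : w.map (constantCoeff : S₀[X] →+* S₀) = Ebar := by
    ext i j
    simp [w, constantCoeff_apply]
  have hw'c : w'.map (constantCoeff : S₀[X] →+* S₀) = Ebar := by
    ext i j
    simp [w', constantCoeff_apply]
  have hEc : ∀ (E : Matrix ι ι S₀[X]) (c : S₀), (E.map (scl c)).map
      (constantCoeff : S₀[X] →+* S₀) = E.map (fun p => p.coeff 0) := by
    intro E c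
    ext i j
    simp only [Matrix.map_apply, constantCoeff_apply, coeff_zero_scl]
  have hEφ : ∀ (E : Matrix ι ι S₀[X]) (c : S₀), (E.map (scl c)).map φ =
      (E.map (Polynomial.map alg)).map (scl (alg c)) := by
    intro E c
    ext i j
    simp only [Matrix.map_apply, φ, Polynomial.coe_mapRingHom, map_scl]
  -- the defects
  set D := w' * w - E₀.map (scl s) with hD
  set D' := w * w' - E₁.map (scl s) with hD'
  have hDφ : D.map φ = 0 := by
    rw [hD, Matrix.map_sub (f := φ) (fun a b => map_sub φ a b), Matrix.map_mul, hwφ, hw'φ,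
      ← Matrix.map_mul, hW'W, hEφ, sub_self]
  have hD'φ : D'.map φ = 0 := by
    rw [hD', Matrix.map_sub (f := φ) (fun a b => map_sub φ a b), Matrix.map_mul, hwφ, hw'φ,
      ← Matrix.map_mul, hWW', hEφ, sub_self]
  have hDc : D.map (constantCoeff : S₀[X] →+* S₀) = 0 := by
    rw [hD, Matrix.map_sub (f := (constantCoeff : S₀[X] →+* S₀)) (fun a b => map_sub _ a b),
      Matrix.map_mul, hwc, hw'c, hEc, h0, hE, sub_self]
  have hD'c : D'.map (constantCoeff : S₀[X] →+* S₀) = 0 := by
    rw [hD', Matrix.map_sub (f := (constantCoeff : S₀[X] →+* S₀)) (fun a b => map_sub _ a b),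
      Matrix.map_mul, hwc, hw'c, hEc, h1, hE, sub_self]
  obtain ⟨s', hs', hkill⟩ := exists_common_kill (S₀' := S₀') M
    (fun k : Bool × ι × ι => if k.1 then D k.2.1 k.2.2 else D' k.2.1 k.2.2) (by
      rintro ⟨b, i, j⟩
      cases b
      · have := congrFun (congrFun hD'φ i) j
        simpa [φ] using this
      · have := congrFun (congrFun hDφ i) j
        simpa [φ] using this)
  have hDs : D.map (scl s') = 0 := by
    refine Matrix.ext fun i j => ?_
    simp only [Matrix.map_apply, Matrix.zero_apply]
    apply scl_eq_zero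
    · have := congrFun (congrFun hDc i) j
      simpa [constantCoeff_apply] using this
    · simpa using hkill (true, i, j)
  have hD's : D'.map (scl s') = 0 := by
    refine Matrix.ext fun i j => ?_
    simp only [Matrix.map_apply, Matrix.zero_apply]
    apply scl_eq_zero
    · have := congrFun (congrFun hD'c i) j
      simpa [constantCoeff_apply] using this
    · simpa using hkill (false, i, j)
  have hEs : ∀ (E : Matrix ι ι S₀[X]), (E.map (scl s)).map (scl s') = E.map (scl (s * s')) := by
    intro E
    ext i j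
    simp only [Matrix.map_apply, scl_scl]
  refine ⟨s * s', M.mul_mem hs hs', w.map (scl s'), w'.map (scl s'), ?_, ?_⟩
  · rw [← Matrix.map_mul, ← hEs]
    have : w' * w = D + E₀.map (scl s) := by rw [hD]; abel
    rw [this, Matrix.map_add (f := scl s') (fun a b => map_add _ a b), hDs, zero_add]
  · rw [← Matrix.map_mul, ← hEs]
    have : w * w' = D' + E₁.map (scl s) := by rw [hD']; abel
    rw [this, Matrix.map_add (f := scl s') (fun a b => map_add _ a b), hD's, zero_add]

end main

end Groth.Agent.H9.QPL
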