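import Mathlib
import Groth.Agent.Lib.Helper9.Misc.MVN1
import Groth.Agent.Lib.Helper9.Misc.QPL

set_option autoImplicit false
set_option linter.style.haveILetI false
set_option linter.unusedSectionVars false
set_option linter.unusedVariables false

/-!
# Quillen patching for idempotent matrices over `A[X]`
-/

namespace Groth.Agent.H9.QPI

open Polynomial Matrix Groth.Agent.H9.MVN Groth.Agent.H9.QPL

section homs

variable {A : Type*} [CommRing A]

/-- translation `p(X) ↦ p(X + T)` into `A[X][T]`. -/
noncomputable def tay : A[X] →+* A[X][X] := eval₂RingHom (C.comp C) (C X + X)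

theorem tay_C (a : A) : tay (C a) = C (C a) := by
  simp [tay]

theorem tay_X : tay (X : A[X]) = C X + X := by
  simp [tay]

theorem constantCoeff_comp_tay : (constantCoeff : A[X][X] →+* A[X]).comp tay = RingHom.id _ := by
  apply Polynomial.ringHom_ext
  · intro a
    simp [tay_C]
  · simp [tay_X]

theorem coeff_zero_tay (p : A[X]) : (tay p).coeff 0 = p := by
  have := RingHom.congr_fun (constantCoeff_comp_tay (A := A)) p
  simpa [constantCoeff_apply] using this

theorem map_tay {B : Type*} [CommRing B] (f : A →+* B) (p : A[X]) :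
    (tay p).map (mapRingHom f) = tay (p.map f) := by
  have : (mapRingHom (mapRingHom f)).comp tay = (tay (A := B)).comp (mapRingHom f) := by
    apply Polynomial.ringHom_ext
    · intro a
      simp [tay_C]
    · simp [tay_X]
  exact RingHom.congr_fun this p

theorem scl_zero (p : A[X]) : scl 0 p = C (p.coeff 0) := by
  rw [scl_apply, C_0, zero_mul, Polynomial.comp_zero, coeff_zero_eq_eval_zero]

/-- specialisation `V ↦ g1 X`, `T ↦ c X`. -/
noncomputable def spec (g1 c : A) : A[X][X] →+* A[X] := eval₂RingHom (scl g1) (C c * X)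

theorem spec_C (g1 c : A) (p : A[X]) : spec g1 c (C p) = scl g1 p := by
  simp [spec]

theorem spec_X (g1 c : A) : spec g1 c X = C c * X := by
  simp [spec]

theorem spec_scl_tay (g₀ g1 c : A) (p : A[X]) :
    spec g1 c (scl (C g₀) (tay p)) = scl (g1 + g₀ * c) p := by
  have : ((spec g1 c).comp ((scl (C g₀)).comp tay)) = scl (g1 + g₀ * c) := by
    apply Polynomial.ringHom_ext
    · intro a
      simp [tay_C, scl_C, spec_C]
    · simp only [RingHom.comp_apply, tay_X, map_add, scl_C, scl_X, spec_C, map_mul, spec_X]
      ring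
  exact RingHom.congr_fun this p

end homs

section ideal

variable {A : Type*} [CommRing A] {ι : Type*} [Fintype ι] [DecidableEq ι]

theorem idem_map {B : Type*} [CommRing B] (f : A →+* B) {e : Matrix ι ι A} (he : e * e = e) :
    e.map f * e.map f = e.map f := by
  rw [← Matrix.map_mul, he]

/-- the Quillen ideal -/
def QI (e : Matrix ι ι A[X]) (he : e * e = e) : Ideal A where
  carrier := {g | ∀ g1 g2 : A, g1 - g2 ∈ Ideal.span {g} →
    MvN (e.map (scl g1)) (e.map (scl g2))}
  zero_mem' := by
    intro g1 g2 h
    have : g1 = g2 := by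
      rw [Ideal.span_singleton_eq_bot.mpr rfl, Ideal.mem_bot] at h
      exact sub_eq_zero.mp h
    rw [this]
    exact MvN.refl (idem_map _ he)
  add_mem' := by
    intro a b ha hb g1 g2 h
    obtain ⟨c, hc⟩ := Ideal.mem_span_singleton'.mp h
    have h1 : g1 - (g1 - c * a) ∈ Ideal.span {a} :=
      Ideal.mem_span_singleton'.mpr ⟨c, by ring⟩
    have h2 : (g1 - c * a) - g2 ∈ Ideal.span {b} :=
      Ideal.mem_span_singleton'.mpr ⟨c, by linear_combination hc⟩
    exact (ha _ _ h1).trans (hb _ _ h2) (idem_map _ he) (idem_map _ he)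
  smul_mem' := by
    intro c a ha g1 g2 h
    apply ha
    have : Ideal.span {c • a} ≤ Ideal.span {a} := by
      rw [Ideal.span_singleton_le_iff_mem, smul_eq_mul]
      exact Ideal.mul_mem_left _ _ (Ideal.subset_span rfl)
    exact this h

theorem mem_QI {e : Matrix ι ι A[X]} {he : e * e = e} {g : A} :
    g ∈ QI e he ↔ ∀ g1 g2 : A, g1 - g2 ∈ Ideal.span {g} →
      MvN (e.map (scl g1)) (e.map (scl g2)) := Iff.rfl

end ideal

end Groth.Agent.H9.QPI

namespace Groth.Agent.H9.QPI

open Polynomial Matrix Groth.Agent.H9.MVN Groth.Agent.H9.QPL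

section patch

variable {A : Type*} [CommRing A] {ι : Type*} [Fintype ι] [DecidableEq ι]

attribute [local instance] Polynomial.algebra

/-- local step: if `e ~ e(0)` over `A_m[X]`, then some `g₀ ∉ m` lies in the Quillen ideal. -/
theorem exists_mem_QI (e : Matrix ι ι A[X]) (he : e * e = e) (m : Ideal A) [m.IsPrime]
    (hloc : MvN (e.map (Polynomial.map (algebraMap A (Localization.AtPrime m))))
      ((e.map (scl 0)).map (Polynomial.map (algebraMap A (Localization.AtPrime m))))) :
    ∃ g₀ : A, g₀ ∉ m ∧ g₀ ∈ QI e he := by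
  classical
  set A' := Localization.AtPrime m with hA'
  set f₀ : A →+* A' := algebraMap A A' with hf₀
  haveI : IsLocalization (m.primeCompl.map (C : A →+* A[X])) A'[X] :=
    Polynomial.isLocalization m.primeCompl A'
  obtain ⟨u, v, hvu, huv⟩ := hloc
  set e' := e.map (Polynomial.map f₀) with he'
  set e0' := (e.map (scl 0)).map (Polynomial.map f₀) with he0'
  have he'idem : e' * e' = e' := idem_map (mapRingHom f₀) he
  let C' : A'[X] →+* A'[X][X] := C
  let tay' : A'[X] →+* A'[X][X] := tay
  have he0'const : e0'.map tay' = e0'.map C' := by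
    refine Matrix.ext fun i j => ?_
    simp only [Matrix.map_apply, e0', scl_zero, Polynomial.map_C, tay', C']
    exact tay_C _
  set W := v.map tay' * u.map C' with hW
  set W' := v.map C' * u.map tay' with hW'
  have hvuvu : v * e0' * u = e' := by
    rw [← huv]
    calc v * (u * v) * u = (v * u) * (v * u) := by simp only [Matrix.mul_assoc]
      _ = e' := by rw [hvu, he'idem]
  have h1 : W' * W = e'.map C' := by
    rw [hW, hW']
    calc v.map C' * u.map tay' * (v.map tay' * u.map C')
        = v.map C' * (u.map tay' * v.map tay') * u.map C' := by simp only [Matrix.mul_assoc]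
      _ = v.map C' * (e0'.map C') * u.map C' := by
          rw [← Matrix.map_mul, huv, he0'const]
      _ = e'.map C' := by rw [← Matrix.map_mul, ← Matrix.map_mul, hvuvu]
  have h2 : W * W' = e'.map tay' := by
    rw [hW, hW']
    calc v.map tay' * u.map C' * (v.map C' * u.map tay')
        = v.map tay' * (u.map C' * v.map C') * u.map tay' := by simp only [Matrix.mul_assoc]
      _ = v.map tay' * (e0'.map tay') * u.map tay' := by
          rw [← Matrix.map_mul, huv, he0'const]
      _ = e'.map tay' := by rw [← Matrix.map_mul, ← Matrix.map_mul, hvuvu]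
  have hcc : ∀ (x : Matrix ι ι A'[X]),
      (x.map tay').map (constantCoeff : A'[X][X] →+* A'[X]) = x := by
    intro x
    refine Matrix.ext fun i j => ?_
    simp only [Matrix.map_apply, constantCoeff_apply, tay', coeff_zero_tay]
  have hcc' : ∀ (x : Matrix ι ι A'[X]),
      (x.map C').map (constantCoeff : A'[X][X] →+* A'[X]) = x := by
    intro x
    refine Matrix.ext fun i j => ?_
    simp only [Matrix.map_apply, constantCoeff_apply, C', coeff_C_zero]
  have key := lemmaL (S₀ := A[X]) (S₀' := A'[X]) (m.primeCompl.map (C : A →+* A[X]))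
    (e.map (C : A[X] →+* A[X][X])) (e.map tay) e
    (by
      refine Matrix.ext fun i j => ?_
      simp only [Matrix.map_apply, coeff_C_zero])
    (by
      refine Matrix.ext fun i j => ?_
      simp only [Matrix.map_apply, coeff_zero_tay])
    he W W'
    (by
      rw [h1]
      refine Matrix.ext fun i j => ?_
      simp only [Matrix.map_apply, C', e', Polynomial.algebraMap_def, Polynomial.map_C,
        coe_mapRingHom]
      rfl)
    (by
      rw [h2]
      refine Matrix.ext fun i j => ?_
      simp only [Matrix.map_apply, tay', e', Polynomial.algebraMap_def]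
      exact (map_tay f₀ (e i j)).symm)
    (by
      have : W.map (fun p => p.coeff 0) = W.map (constantCoeff : A'[X][X] →+* A'[X]) := by
        refine Matrix.ext fun i j => ?_
        simp only [Matrix.map_apply, constantCoeff_apply]
      rw [this, hW, Matrix.map_mul, hcc, hcc', hvu]
      refine Matrix.ext fun i j => ?_
      simp only [Matrix.map_apply, e', Polynomial.algebraMap_def, coe_mapRingHom]
      rfl)
    (by
      have : W'.map (fun p => p.coeff 0) = W'.map (constantCoeff : A'[X][X] →+* A'[X]) := by
        refine Matrix.ext fun i j => ?_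
        simp only [Matrix.map_apply, constantCoeff_apply]
      rw [this, hW', Matrix.map_mul, hcc, hcc', hvu]
      refine Matrix.ext fun i j => ?_
      simp only [Matrix.map_apply, e', Polynomial.algebraMap_def, coe_mapRingHom]
      rfl)
  obtain ⟨g, hg, w, w', hw'w, hww'⟩ := key
  obtain ⟨g₀, hg₀, rfl⟩ := hg
  refine ⟨g₀, hg₀, ?_⟩
  rw [mem_QI]
  intro g1 g2 h12
  obtain ⟨c, hc⟩ := Ideal.mem_span_singleton'.mp h12
  have hg2 : g2 = g1 + g₀ * (-c) := by linear_combination hc
  refine ⟨w.map (spec g1 (-c)), w'.map (spec g1 (-c)), ?_, ?_⟩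
  · rw [← Matrix.map_mul, hw'w]
    refine Matrix.ext fun i j => ?_
    simp only [Matrix.map_apply, scl_C, spec_C]
  · rw [← Matrix.map_mul, hww']
    refine Matrix.ext fun i j => ?_
    simp only [Matrix.map_apply]
    rw [spec_scl_tay, ← hg2]

/-- **Quillen patching for idempotent matrices.** -/
theorem patch (e : Matrix ι ι A[X]) (he : e * e = e)
    (hloc : ∀ (m : Ideal A) [m.IsMaximal],
      MvN (e.map (Polynomial.map (algebraMap A (Localization.AtPrime m))))
        ((e.map (scl 0)).map (Polynomial.map (algebraMap A (Localization.AtPrime m))))) :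
    MvN e (e.map (scl 0)) := by
  have hQ : QI e he = ⊤ := by
    by_contra hne
    obtain ⟨m, hm, hle⟩ := Ideal.exists_le_maximal _ hne
    haveI := hm
    obtain ⟨g₀, hg₀, hg₀Q⟩ := exists_mem_QI e he m (hloc m)
    exact hg₀ (hle hg₀Q)
  have h1 : (1 : A) ∈ QI e he := by rw [hQ]; trivial
  have := mem_QI.mp h1 1 0 (by
    rw [sub_zero]; exact Ideal.subset_span rfl)
  have h2 : e.map (scl (1 : A)) = e := by
    refine Matrix.ext fun i j => ?_
    simp only [Matrix.map_apply, scl_one]
  rw [h2] at this
  exact this

end patch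

end Groth.Agent.H9.QPI
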