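import Mathlib
import Groth.Agent.Lib.Helper9.Misc.MVN1
import Groth.Agent.Lib.Helper9.Misc.MVN2
import Groth.Agent.Lib.Helper9.Misc.QPL
import Groth.Agent.Lib.Helper9.Misc.QPI
import Groth.Agent.Lib.Helper9.Misc.HQ1

set_option autoImplicit false
set_option linter.style.haveILetI false
set_option linter.unusedSectionVars false
set_option linter.unusedVariables false

/-!
# The core theorem: idempotents glued along `X^c · g` are equivalent
-/

namespace Groth.Agent.H9.HQ

open Polynomial Matrix LaurentPolynomial Groth.Agent.H9.MVN Groth.Agent.H9.LH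
  Groth.Agent.H9.QPL Groth.Agent.H9.QPI

universe u

section extended

variable {A : Type u} [CommRing A] {ι : Type*} [Fintype ι] [DecidableEq ι]

/-- **Affine Horrocks–Quillen, matrix form**: if the idempotent `ε` over `A[X]` becomes
equivalent to an identity matrix over `A_m[T;T⁻¹]` up to a factor `G` which is "monic at
infinity", for every maximal ideal `m`, then `ε ~ ε(0)`. -/
theorem extended_of_local (ε : Matrix ι ι A[X]) (hε : ε * ε = ε)
    (hloc : ∀ (m : Ideal A) [m.IsMaximal], ∃ r : ℕ,
      MvN (ε.map (Polynomial.map (algebraMap A (Localization.AtPrime m))))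
        (1 : Matrix (Fin r) (Fin r) (Localization.AtPrime m)[X])) :
    MvN ε (ε.map (scl 0)) := by
  apply patch ε hε
  intro m hm
  obtain ⟨r, hr⟩ := hloc m
  set f₀ := algebraMap A (Localization.AtPrime m) with hf₀
  set εR := ε.map (Polynomial.map f₀) with hεR
  have hεRid : εR * εR = εR := idem_map (mapRingHom f₀) hε
  have h0 : (ε.map (scl 0)).map (Polynomial.map f₀) = εR.map (scl 0) := by
    refine Matrix.ext fun i j => ?_
    simp only [Matrix.map_apply, εR, map_scl, map_zero]
  rw [h0]
  have h1 : MvN (εR.map (scl 0)) (1 : Matrix (Fin r) (Fin r) (Localization.AtPrime m)[X]) := by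
    have := hr.map (scl (0 : Localization.AtPrime m))
    rwa [Matrix.map_one _ (map_zero _) (map_one _)] at this
  exact hr.trans h1.symm hεRid (idem_map _ hεRid)

end extended

section core

variable {A : Type u} [CommRing A]
variable {ι κ : Type*} [Fintype ι] [Fintype κ] [DecidableEq ι] [DecidableEq κ]

theorem isCoprime_X_pow (c : ℕ) (g : A[X]) (hg : g.coeff 0 = 1) : IsCoprime (X ^ c : A[X]) g := by
  apply IsCoprime.pow_left
  refine ⟨-divX g, 1, ?_⟩
  have := X_mul_divX_add g
  rw [hg, C_1] at this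
  linear_combination (-1 : A[X]) * this

/-- **Core theorem**: constant idempotents `e₀`, `e₀'` which become equivalent over
`A[X]` up to the factor `X^c g` with `g(0) = 1` are equivalent over `A`. -/
theorem core (e₀ : Matrix ι ι A) (e₀' : Matrix κ κ A) (he₀ : e₀ * e₀ = e₀) (he₀' : e₀' * e₀' = e₀')
    (u : Matrix κ ι A[X]) (v : Matrix ι κ A[X]) (c : ℕ) (g : A[X]) (hg : g.coeff 0 = 1)
    (hvu : v * u = (X ^ c * g) • e₀.map (C : A →+* A[X]))
    (huv : u * v = (X ^ c * g) • e₀'.map (C : A →+* A[X]))
    (n1 : e₀.map (C : A →+* A[X]) * v = v) (n2 : v * e₀'.map (C : A →+* A[X]) = v)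
    (n3 : e₀'.map (C : A →+* A[X]) * u = u) (n4 : u * e₀.map (C : A →+* A[X]) = u) :
    MvN e₀ e₀' := by
  obtain ⟨a, b, hab⟩ := isCoprime_X_pow c g hg
  have hglue : IsGlue (e₀.map (C : A →+* A[X])) (e₀'.map (C : A →+* A[X])) u v (X ^ c) g a b :=
    { he₀ := idem_map _ he₀
      he₀' := idem_map _ he₀'
      h1 := by linear_combination hab
      hvu := hvu
      huv := huv
      n1 := n1
      n2 := n2
      n3 := n3
      n4 := n4 }
  set ε := glue (e₀.map (C : A →+* A[X])) (e₀'.map (C : A →+* A[X])) u v (X ^ c) g a b with hεdef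
  have hε : ε * ε = ε := hglue.idem
  -- `ε` is extended
  have hext : MvN ε (ε.map (scl 0)) := by
    apply extended_of_local ε hε
    intro m hm
    set R := Localization.AtPrime m
    set f₀ := algebraMap A R with hf₀
    -- over the Laurent polynomial ring, `ε ~ e₀`
    let ψ : A[X] →+* R[T;T⁻¹] := (toLaurent : R[X] →+* R[T;T⁻¹]).comp (mapRingHom f₀)
    have hgL := hglue.map ψ
    have hψX : ψ (X ^ c) = T (c : ℤ) := by
      simp only [ψ, RingHom.comp_apply, coe_mapRingHom, Polynomial.map_X,
        map_pow, Polynomial.toLaurent_X, LaurentPolynomial.T_pow, mul_one]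
    have h1 : MvN (ε.map ψ) ((e₀.map (C : A →+* A[X])).map ψ) := by
      rw [hεdef, glue_map]
      apply hgL.mvn_left (T (-(c : ℤ)))
      rw [hψX, ← LaurentPolynomial.T_add, add_neg_cancel, LaurentPolynomial.T_zero]
    -- `e₀ ~ 1` over the local ring
    obtain ⟨r, hr⟩ := exists_mvn_one (e₀.map f₀) (idem_map f₀ he₀)
    have h2 : (e₀.map (C : A →+* A[X])).map ψ =
        (e₀.map f₀).map (LaurentPolynomial.C : R →+* R[T;T⁻¹]) := by
      refine Matrix.ext fun i j => ?_
      simp only [Matrix.map_apply, ψ, RingHom.comp_apply, coe_mapRingHom, Polynomial.map_C,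
        Polynomial.toLaurent_C]
    have h3 : MvN (ε.map ψ) (1 : Matrix (Fin r) (Fin r) R[T;T⁻¹]) := by
      have h4 := hr.map (LaurentPolynomial.C : R →+* R[T;T⁻¹])
      rw [Matrix.map_one _ (map_zero _) (map_one _)] at h4
      rw [h2] at h1
      exact h1.trans h4 (idem_map ψ hε) (by rw [Matrix.one_mul])
    obtain ⟨U, V, hVU, hUV⟩ := h3
    refine ⟨r, ?_⟩
    have hεR : (ε.map (Polynomial.map f₀)).map (toLaurent : R[X] →+* R[T;T⁻¹]) = ε.map ψ := by
      refine Matrix.ext fun i j => ?_
      simp only [Matrix.map_apply, ψ, RingHom.comp_apply, coe_mapRingHom]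
    apply horrocks_laurent (ε.map (Polynomial.map f₀)) (idem_map (mapRingHom f₀) hε) U V 1 1
      monic_one 0
    · simp
    · rw [one_smul, hεR, hVU]
    · rw [one_smul, hUV]
  -- evaluate at `1` and `0`
  let ev1 : A[X] →+* A := evalRingHom 1
  let ev0 : A[X] →+* A := evalRingHom 0
  have hC1 : ∀ (x : Matrix ι ι A), (x.map (C : A →+* A[X])).map ev1 = x := by
    intro x
    refine Matrix.ext fun i j => ?_
    simp [ev1]
  have hC0' : ∀ (x : Matrix κ κ A), (x.map (C : A →+* A[X])).map ev0 = x := by
    intro x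
    refine Matrix.ext fun i j => ?_
    simp [ev0]
  have h10 : (ε.map (scl 0)).map ev1 = ε.map ev0 := by
    refine Matrix.ext fun i j => ?_
    simp only [Matrix.map_apply, ev1, ev0, coe_evalRingHom, scl_zero, eval_C,
      coeff_zero_eq_eval_zero]
  have hA : MvN (ε.map ev1) e₀ := by
    have := (hglue.map ev1).mvn_left 1 (by simp [ev1])
    rwa [← glue_map, hC1] at this
  have hB : MvN (ε.map ev0) e₀' := by
    have := (hglue.map ev0).mvn_right 1 (by
      simp only [ev0, coe_evalRingHom, mul_one, ← coeff_zero_eq_eval_zero, hg])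
    rwa [← glue_map, hC0'] at this
  have hM : MvN (ε.map ev1) (ε.map ev0) := by
    have := hext.map ev1
    rwa [h10] at this
  exact (hA.symm.trans hM he₀ (idem_map ev0 hε)).trans hB he₀ he₀'

end core

end Groth.Agent.H9.HQ
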