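import Mathlib
import Groth.Agent.Lib.Helper9.Misc.MVN1
import Groth.Agent.Lib.Helper9.Misc.MVN2
import Groth.Agent.Lib.Helper9.Misc.HQ1
import Groth.Agent.Lib.Helper9.Misc.HQ2

set_option autoImplicit false
set_option linter.style.haveILetI false
set_option linter.unusedSectionVars false
set_option linter.unusedVariables false

/-!
# The core theorem with a monic denominator (after the flip `X ↦ X⁻¹`)
-/

namespace Groth.Agent.H9.HQ

open Polynomial Matrix LaurentPolynomial Groth.Agent.H9.MVN

universe u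

section flip

variable {A : Type u} [CommRing A]
variable {ι κ : Type*} [Fintype ι] [Fintype κ] [DecidableEq ι] [DecidableEq κ]

/-- the flip `X ↦ T⁻¹` -/
noncomputable def flip : A[X] →+* A[T;T⁻¹] :=
  ((LaurentPolynomial.invert (R := A)).toRingEquiv.toRingHom).comp
    (toLaurent : A[X] →+* A[T;T⁻¹])

theorem flip_C (a : A) : flip (C a) = LaurentPolynomial.C a := by
  simp [flip]

theorem flip_reverse (F : A[X]) : toLaurent F.reverse = flip F * T (F.natDegree : ℤ) := by
  rw [LaurentPolynomial.toLaurent_reverse]; rfl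

theorem hflipC {μ : Type*} (x : Matrix μ μ A) :
    (x.map (C : A →+* A[X])).map flip = x.map (LaurentPolynomial.C : A →+* A[T;T⁻¹]) := by
  refine Matrix.ext fun i j => ?_
  simp only [Matrix.map_apply, flip_C]

theorem htoLC {μ : Type*} (x : Matrix μ μ A) :
    (x.map (C : A →+* A[X])).map (toLaurent : A[X] →+* A[T;T⁻¹])
      = x.map (LaurentPolynomial.C : A →+* A[T;T⁻¹]) := by
  refine Matrix.ext fun i j => ?_
  simp only [Matrix.map_apply, Polynomial.toLaurent_C]

/-- **Core theorem, monic form**: constant idempotents which become equivalent over `A[X]`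
up to a monic factor are equivalent over `A`. -/
theorem core_monic (e₀ : Matrix ι ι A) (e₀' : Matrix κ κ A) (he₀ : e₀ * e₀ = e₀)
    (he₀' : e₀' * e₀' = e₀')
    (u : Matrix κ ι A[X]) (v : Matrix ι κ A[X]) (F : A[X]) (hF : F.Monic)
    (hvu : v * u = F • e₀.map (C : A →+* A[X]))
    (huv : u * v = F • e₀'.map (C : A →+* A[X]))
    (n1 : e₀.map (C : A →+* A[X]) * v = v) (n2 : v * e₀'.map (C : A →+* A[X]) = v)
    (n3 : e₀'.map (C : A →+* A[X]) * u = u) (n4 : u * e₀.map (C : A →+* A[X]) = u) :
    MvN e₀ e₀' := by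
  set δ := F.natDegree with hδ
  obtain ⟨N₁, hN₁⟩ := exists_lift_matrix (u.map flip)
  obtain ⟨N₂, hN₂⟩ := exists_lift_matrix (v.map flip)
  obtain ⟨u', hu'⟩ := hN₁ (N₁ + δ) (Nat.le_add_right _ _)
  obtain ⟨v', hv'⟩ := hN₂ N₂ le_rfl
  set g := F.reverse with hg
  have hg0 : g.coeff 0 = 1 := by rw [hg, coeff_zero_reverse]; exact hF
  have hkey : (toLaurent (X ^ (N₁ + N₂) * g) : A[T;T⁻¹]) =
      T ((N₂ : ℕ) : ℤ) * T ((N₁ + δ : ℕ) : ℤ) * flip F := by
    rw [map_mul, map_pow, Polynomial.toLaurent_X, LaurentPolynomial.T_pow, hg, flip_reverse,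
      ← LaurentPolynomial.T_add, mul_comm (flip F), ← mul_assoc, ← LaurentPolynomial.T_add]
    congr 2
    push_cast; ring
  apply core e₀ e₀' he₀ he₀' u' v' (N₁ + N₂) g hg0
  · apply toLaurent_map_injective
    rw [Matrix.map_mul, hu', hv', Matrix.smul_mul, Matrix.mul_smul, ← Matrix.map_mul, hvu,
      smul_smul]
    refine Matrix.ext fun i j => ?_
    simp only [Matrix.map_apply, Matrix.smul_apply, smul_eq_mul, map_mul, hkey, flip_C,
      Polynomial.toLaurent_C]
    ring
  · apply toLaurent_map_injective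
    rw [Matrix.map_mul, hu', hv', Matrix.smul_mul, Matrix.mul_smul, ← Matrix.map_mul, huv,
      smul_smul]
    refine Matrix.ext fun i j => ?_
    simp only [Matrix.map_apply, Matrix.smul_apply, smul_eq_mul, map_mul, hkey, flip_C,
      Polynomial.toLaurent_C]
    ring
  · apply toLaurent_map_injective
    rw [Matrix.map_mul, hv', htoLC, Matrix.mul_smul, ← hflipC, ← Matrix.map_mul, n1]
  · apply toLaurent_map_injective
    rw [Matrix.map_mul, hv', htoLC, Matrix.smul_mul, ← hflipC, ← Matrix.map_mul, n2]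
  · apply toLaurent_map_injective
    rw [Matrix.map_mul, hu', htoLC, Matrix.mul_smul, ← hflipC, ← Matrix.map_mul, n3]
  · apply toLaurent_map_injective
    rw [Matrix.map_mul, hu', htoLC, Matrix.smul_mul, ← hflipC, ← Matrix.map_mul, n4]

end flip

section denominators

variable {B Bt : Type*} [CommRing B] [CommRing Bt] [Algebra B Bt] (M : Submonoid B)
  [IsLocalization M Bt]

theorem exists_matrix_lift {κ μ : Type*} [Finite κ] [Finite μ] (F : Matrix κ μ Bt) :
    ∃ b ∈ M, ∃ F' : Matrix κ μ B, F'.map (algebraMap B Bt) = algebraMap B Bt b • F := by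
  obtain ⟨b, hb⟩ := IsLocalization.exist_integer_multiples_of_finite M
    (fun p : κ × μ => F p.1 p.2)
  choose f hf using hb
  refine ⟨b, b.2, fun i j => f (i, j), ?_⟩
  refine Matrix.ext fun i j => ?_
  simp only [Matrix.map_apply, Matrix.smul_apply, hf (i, j), Algebra.smul_def,
    Algebra.algebraMap_self, RingHom.id_apply]

end denominators

end Groth.Agent.H9.HQ
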