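import Mathlib
import Groth.Agent.Lib.Helper9.Misc.MVN1
import Groth.Agent.Lib.Helper9.Misc.MVN2
import Groth.Agent.Lib.Helper9.Misc.HQ3

set_option autoImplicit false
set_option linter.style.haveILetI false
set_option linter.unusedSectionVars false
set_option linter.unusedVariables false

/-!
# Finite projective modules isomorphic over `A(t)` are isomorphic
-/

namespace Groth.Agent.H9.HQ

open Polynomial Matrix TensorProduct Groth.Agent.H9.MVN

universe u

theorem nonempty_equiv_of_monic_localization
    (A : Type u) [CommRing A] (M : Submonoid A[X]) (hM : ∀ f : A[X], f ∈ M ↔ f.Monic)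
    (At : Type u) [CommRing At] [Algebra A[X] At] [IsLocalization M At]
    [Algebra A At] [IsScalarTower A A[X] At]
    (P P' : Type u) [AddCommGroup P] [Module A P] [Module.Finite A P] [Module.Projective A P]
    [AddCommGroup P'] [Module A P'] [Module.Finite A P'] [Module.Projective A P']
    (h : Nonempty ((At ⊗[A] P) ≃ₗ[At] (At ⊗[A] P'))) :
    Nonempty (P ≃ₗ[A] P') := by
  classical
  obtain ⟨f⟩ := h
  obtain ⟨n, e₀, hP⟩ := exists_pres A P
  obtain ⟨n', e₀', hP'⟩ := exists_pres A P'
  have he₀ := hP.idem
  have he₀' := hP'.idem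
  have hmvn : MvN (e₀.map (algebraMap A At)) (e₀'.map (algebraMap A At)) :=
    (hP.baseChange At).mvn_of_equiv (hP'.baseChange At) f
  obtain ⟨u, v, hvu, huv, m3, m4, m1, m2⟩ := hmvn.exists_normalized
    (by rw [← Matrix.map_mul, he₀]) (by rw [← Matrix.map_mul, he₀'])
  -- clear denominators
  obtain ⟨bu, hbu, u', hu'⟩ := exists_matrix_lift M u
  obtain ⟨bv, hbv, v', hv'⟩ := exists_matrix_lift M v
  have hinj : Function.Injective (algebraMap A[X] At) := by
    apply IsLocalization.injective At (M := M)
    intro x hx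
    exact ((hM x).mp hx).mem_nonZeroDivisors
  have hmapinj : ∀ {κ μ : Type} {F G : Matrix κ μ A[X]},
      F.map (algebraMap A[X] At) = G.map (algebraMap A[X] At) → F = G := by
    intro κ μ F G hFG
    refine Matrix.ext fun i j => ?_
    have := congrFun (congrFun hFG i) j
    simp only [Matrix.map_apply] at this
    exact hinj this
  have hC : ∀ {μ : Type} (x : Matrix μ μ A),
      (x.map (C : A →+* A[X])).map (algebraMap A[X] At) = x.map (algebraMap A At) := by
    intro μ x
    refine Matrix.ext fun i j => ?_
    simp only [Matrix.map_apply]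
    rw [IsScalarTower.algebraMap_apply A A[X] At]
    rfl
  have hFm : (bv * bu).Monic := ((hM bv).mp hbv).mul ((hM bu).mp hbu)
  have hmvn' : MvN e₀ e₀' := by
    apply core_monic e₀ e₀' he₀ he₀' u' v' (bv * bu) hFm
    · apply hmapinj
      rw [Matrix.map_mul, hu', hv', Matrix.smul_mul, Matrix.mul_smul, hvu, smul_smul]
      refine Matrix.ext fun i j => ?_
      simp only [Matrix.map_apply, Matrix.smul_apply, smul_eq_mul, map_mul]
      rw [IsScalarTower.algebraMap_apply A A[X] At (e₀ i j)]
      rfl
    · apply hmapinj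
      rw [Matrix.map_mul, hu', hv', Matrix.smul_mul, Matrix.mul_smul, huv, smul_smul]
      refine Matrix.ext fun i j => ?_
      simp only [Matrix.map_apply, Matrix.smul_apply, smul_eq_mul, map_mul]
      rw [IsScalarTower.algebraMap_apply A A[X] At (e₀' i j), mul_comm (algebraMap A[X] At bu)]
      rfl
    · apply hmapinj
      rw [Matrix.map_mul, hC, hv', Matrix.mul_smul, m1]
    · apply hmapinj
      rw [Matrix.map_mul, hC, hv', Matrix.smul_mul, m2]
    · apply hmapinj
      rw [Matrix.map_mul, hC, hu', Matrix.mul_smul, m3]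
    · apply hmapinj
      rw [Matrix.map_mul, hC, hu', Matrix.smul_mul, m4]
  exact hP.equiv_of_mvn hP' hmvn'

end Groth.Agent.H9.HQ
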