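import Mathlib
import Groth.Agent.Lib.Helper9.Misc.MVN1
import Groth.Agent.Lib.Helper9.Misc.MVN2
import Groth.Agent.Lib.Helper9.Misc.HQ1
import Groth.Agent.Lib.Helper9.Misc.HQ2
import Groth.Agent.Lib.Helper9.Misc.HQ3

set_option autoImplicit false
set_option linter.style.haveILetI false
set_option linter.unusedSectionVars false
set_option linter.unusedVariables false

/-!
# Vector bundles on the projective line: local trivialisation near infinity
-/

namespace Groth.Agent.H9.HQ

open Polynomial Matrix LaurentPolynomial Groth.Agent.H9.MVN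

universe u

section regular

variable {R : Type*} [CommRing R]

theorem eq_zero_of_mul_eq_zero_of_coeff_zero_eq_one {p x : R[X]} (hp : p.coeff 0 = 1)
    (h : p * x = 0) : x = 0 := by
  nontriviality R
  by_contra hx
  have h1 : p.natTrailingDegree = 0 :=
    natTrailingDegree_eq_zero_of_constantCoeff_ne_zero (by
      rw [constantCoeff_apply, hp]; exact one_ne_zero)
  have h2 : p.trailingCoeff = 1 := by
    rw [trailingCoeff, h1, hp]
  have h3 := coeff_mul_natTrailingDegree_add_natTrailingDegree (p := p) (q := x)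
  rw [h, coeff_zero, h2, one_mul] at h3
  exact hx (trailingCoeff_eq_zero.mp h3.symm)

end regular

section laurentmap

variable {A R : Type*} [CommRing A] [CommRing R] (f₀ : A →+* R)

/-- the coefficient map on Laurent polynomials -/
noncomputable def lmap : A[T;T⁻¹] →+* R[T;T⁻¹] :=
  LaurentPolynomial.eval₂ ((LaurentPolynomial.C : R →+* R[T;T⁻¹]).comp f₀)
    (LaurentPolynomial.isUnit_T 1).unit

theorem lmap_toLaurent (p : A[X]) : lmap f₀ (toLaurent p) = toLaurent (p.map f₀) := by
  have : (lmap f₀).comp (toLaurent : A[X] →+* A[T;T⁻¹]) =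
      (toLaurent : R[X] →+* R[T;T⁻¹]).comp (mapRingHom f₀) := by
    apply Polynomial.ringHom_ext
    · intro a
      simp [lmap, LaurentPolynomial.eval₂_C]
    · simp only [RingHom.comp_apply, Polynomial.toLaurent_X, lmap, coe_mapRingHom,
        Polynomial.map_X]
      rw [LaurentPolynomial.eval₂_T]
      simp
  exact RingHom.congr_fun this p

theorem lmap_T (n : ℤ) : lmap f₀ (T n) = T n := by
  rw [lmap, LaurentPolynomial.eval₂_T]
  have : ∀ n : ℤ, (((LaurentPolynomial.isUnit_T (R := R) 1).unit ^ n : R[T;T⁻¹]ˣ) : R[T;T⁻¹])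
      = T n := by
    intro n
    induction n using Int.induction_on with
    | zero => simp
    | succ k ih =>
      rw [_root_.zpow_add_one, Units.val_mul, ih, IsUnit.unit_spec, ← LaurentPolynomial.T_add]
    | pred k ih =>
      rw [_root_.zpow_sub_one, Units.val_mul, ih]
      have h1 : (((LaurentPolynomial.isUnit_T (R := R) 1).unit⁻¹ : R[T;T⁻¹]ˣ) : R[T;T⁻¹])
          = T (-1) := by
        rw [Units.inv_eq_of_mul_eq_one_right]
        rw [IsUnit.unit_spec, ← LaurentPolynomial.T_add]; simp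
      rw [h1, ← LaurentPolynomial.T_add]; rfl
  exact this n

theorem lmap_invert (x : A[T;T⁻¹]) :
    lmap f₀ (LaurentPolynomial.invert x) = LaurentPolynomial.invert (lmap f₀ x) := by
  have : (lmap f₀).comp ((LaurentPolynomial.invert (R := A)).toRingEquiv.toRingHom) =
      ((LaurentPolynomial.invert (R := R)).toRingEquiv.toRingHom).comp (lmap f₀) := by
    have hσA : ∀ y : A[T;T⁻¹], ((LaurentPolynomial.invert (R := A)).toRingEquiv.toRingHom) y
        = LaurentPolynomial.invert y := fun _ => rfl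
    have hσR : ∀ y : R[T;T⁻¹], ((LaurentPolynomial.invert (R := R)).toRingEquiv.toRingHom) y
        = LaurentPolynomial.invert y := fun _ => rfl
    apply IsLocalization.ringHom_ext (Submonoid.powers (X : A[X]))
    apply Polynomial.ringHom_ext
    · intro a
      have h1 : lmap f₀ (LaurentPolynomial.C a) = LaurentPolynomial.C (f₀ a) := by
        rw [← Polynomial.toLaurent_C, lmap_toLaurent, Polynomial.map_C, Polynomial.toLaurent_C]
      simp only [RingHom.comp_apply, LaurentPolynomial.algebraMap_eq_toLaurent,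
        Polynomial.toLaurent_C, hσA, hσR, LaurentPolynomial.invert_C, h1]
    · simp only [RingHom.comp_apply, LaurentPolynomial.algebraMap_eq_toLaurent,
        Polynomial.toLaurent_X, hσA, hσR, LaurentPolynomial.invert_T, lmap_T]
  exact RingHom.congr_fun this x

theorem lmap_flip (p : A[X]) : lmap f₀ (flip p) = flip (p.map f₀) := by
  have hσA : ∀ y : A[T;T⁻¹], ((LaurentPolynomial.invert (R := A)).toRingEquiv.toRingHom) y
      = LaurentPolynomial.invert y := fun _ => rfl
  have hσR : ∀ y : R[T;T⁻¹], ((LaurentPolynomial.invert (R := R)).toRingEquiv.toRingHom) y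
      = LaurentPolynomial.invert y := fun _ => rfl
  simp only [flip, RingHom.comp_apply, hσA, hσR, lmap_invert, lmap_toLaurent]

end laurentmap

end Groth.Agent.H9.HQ

namespace Groth.Agent.H9.HQ

open Polynomial Matrix LaurentPolynomial Groth.Agent.H9.MVN

universe u

section localtriv

variable {R : Type u} [CommRing R] [IsLocalRing R]
variable {ι : Type*} [Fintype ι] [DecidableEq ι]

theorem map_constantCoeff_map_C {κ μ : Type*} (x : Matrix κ μ R) :
    (x.map (C : R →+* R[X])).map (constantCoeff : R[X] →+* R) = x := by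
  refine Matrix.ext fun i j => ?_
  simp

/-- A finite projective module over `R[X]` (`R` local) is free on a neighbourhood of `X = 0`
of the form `D(g)`, `g(0) = 1`; matrix form. -/
theorem exists_local_triv (ε : Matrix ι ι R[X]) (hε : ε * ε = ε) :
    ∃ (r : ℕ) (u : Matrix (Fin r) ι R[X]) (w : Matrix ι (Fin r) R[X]) (g : R[X]),
      g.coeff 0 = 1 ∧ w * u = g • ε ∧ u * w = g • (1 : Matrix (Fin r) (Fin r) R[X]) ∧
      ε * w = w := by
  let cc : R[X] →+* R := constantCoeff
  set ε₀ := ε.map cc with hε₀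
  have hε₀id : ε₀ * ε₀ = ε₀ := by rw [hε₀, ← Matrix.map_mul, hε]
  obtain ⟨r, u₀, v₀, hv₀u₀, hu₀v₀⟩ := exists_mvn_one ε₀ hε₀id
  set u₁ : Matrix (Fin r) ι R[X] := u₀.map (C : R →+* R[X]) * ε with hu₁
  set v₁ : Matrix ι (Fin r) R[X] := ε * v₀.map (C : R →+* R[X]) with hv₁
  set Pm : Matrix ι ι R[X] := v₁ * u₁ + (1 - ε) with hPm
  set θ : Matrix (Fin r) (Fin r) R[X] := u₁ * v₁ with hθ
  have hu₁ε : u₁ * ε = u₁ := by rw [hu₁, Matrix.mul_assoc, hε]
  have hεv₁ : ε * v₁ = v₁ := by rw [hv₁, ← Matrix.mul_assoc, hε]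
  -- constant coefficients
  have hu₁0 : u₁.map cc = u₀ * ε₀ := by
    rw [hu₁, Matrix.map_mul, map_constantCoeff_map_C]
  have hv₁0 : v₁.map cc = ε₀ * v₀ := by
    rw [hv₁, Matrix.map_mul, map_constantCoeff_map_C]
  have h3 : u₀ * ε₀ * (ε₀ * v₀) = 1 := by
    calc u₀ * ε₀ * (ε₀ * v₀) = u₀ * (ε₀ * ε₀) * v₀ := by simp only [Matrix.mul_assoc]
      _ = u₀ * (v₀ * u₀) * v₀ := by rw [hε₀id, hv₀u₀]
      _ = (u₀ * v₀) * (u₀ * v₀) := by simp only [Matrix.mul_assoc]
      _ = 1 := by rw [hu₀v₀, Matrix.one_mul]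
  have hθ0 : θ.map cc = 1 := by
    rw [hθ, Matrix.map_mul, hu₁0, hv₁0, h3]
  have h4 : ε₀ * v₀ * (u₀ * ε₀) = ε₀ := by
    calc ε₀ * v₀ * (u₀ * ε₀) = ε₀ * (v₀ * u₀) * ε₀ := by simp only [Matrix.mul_assoc]
      _ = ε₀ := by rw [hv₀u₀, hε₀id, hε₀id]
  have hPm0 : Pm.map cc = 1 := by
    rw [hPm, Matrix.map_add (f := cc) (fun a b => map_add cc a b), Matrix.map_mul, hu₁0, hv₁0, h4,
      Matrix.map_sub (f := cc) (fun a b => map_sub cc a b),
      Matrix.map_one cc (map_zero cc) (map_one cc), ← hε₀]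
    abel
  have hdetθ : θ.det.coeff 0 = 1 := by
    have := RingHom.map_det cc θ
    rw [RingHom.mapMatrix_apply, hθ0, Matrix.det_one] at this
    exact this
  have hdetPm : Pm.det.coeff 0 = 1 := by
    have := RingHom.map_det cc Pm
    rw [RingHom.mapMatrix_apply, hPm0, Matrix.det_one] at this
    exact this
  have hvuPm : v₁ * u₁ = Pm * ε := by
    have h5 : v₁ * u₁ * ε = v₁ * u₁ := by rw [Matrix.mul_assoc, hu₁ε]
    rw [hPm, Matrix.add_mul, Matrix.sub_mul, Matrix.one_mul, hε, sub_self, add_zero, h5]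
  obtain ⟨w, hw1, hw2, hw3, hw4⟩ := adj_trick (e := ε) (e' := (1 : Matrix (Fin r) (Fin r) R[X]))
    (u := u₁) (v := v₁) (Θ := Pm) (Θ' := θ) hε (Matrix.one_mul 1) hu₁ε (Matrix.one_mul u₁)
    (Matrix.mul_one v₁) hvuPm (by rw [Matrix.one_mul])
    (fun x hx => eq_zero_of_mul_eq_zero_of_coeff_zero_eq_one hdetθ hx)
  exact ⟨r, u₁, w, Pm.det, hdetPm, hw1, hw2, hw3⟩

end localtriv

end Groth.Agent.H9.HQ
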