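import Mathlib
import Groth.Agent.Lib.Helper9.Misc.MVN1
import Groth.Agent.Lib.Helper9.Misc.MVN2
import Groth.Agent.Lib.Helper9.Misc.HQ1
import Groth.Agent.Lib.Helper9.Misc.HQ2
import Groth.Agent.Lib.Helper9.Misc.HQ3
import Groth.Agent.Lib.Helper9.Misc.HQ5
import Groth.Agent.Lib.Helper9.Misc.QPI
import Groth.Agent.Lib.Helper9.Misc.QPL

set_option autoImplicit false
set_option linter.style.haveILetI false
set_option linter.unusedSectionVars false
set_option linter.unusedVariables false

/-!
# Quillen: a finite projective `A[X]`-module is extended iff it extends to `P¹_A`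
-/

namespace Groth.Agent.H9.HQ

open Polynomial Matrix LaurentPolynomial TensorProduct Groth.Agent.H9.MVN Groth.Agent.H9.QPL

universe u

section semilinear

variable (A : Type u) [CommRing A]

local notation "σ" => RingEquiv.toRingHom (AlgEquiv.toRingEquiv (LaurentPolynomial.invert (R := A)))

theorem sigma_sigma (r : A[T;T⁻¹]) : σ (σ r) = r :=
  LaurentPolynomial.involutive_invert r

variable {A}
variable {M N : Type*} [AddCommGroup M] [Module A[X] M] [AddCommGroup N] [Module A[X] N]
variable {ι κ : Type*} [Fintype ι] [DecidableEq ι] [Fintype κ] [DecidableEq κ]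

/-- A semilinear (w.r.t. `T ↦ T⁻¹`) bijection between the localisations of two modules
presented by idempotents gives an equivalence of idempotents over the Laurent ring. -/
theorem mvn_of_semilinear (eM : Matrix ι ι A[X]) (εN : Matrix κ κ A[X])
    (hM : Pres A[X] M eM) (hN : Pres A[X] N εN)
    (e : (A[T;T⁻¹] ⊗[A[X]] M) →ₛₗ[σ] (A[T;T⁻¹] ⊗[A[X]] N))
    (he : Function.Bijective e) :
    MvN (eM.map (algebraMap A[X] A[T;T⁻¹]))
      ((εN.map (algebraMap A[X] A[T;T⁻¹])).map σ) := by
  obtain ⟨iM, pM, hpiM, hipM⟩ := hM.baseChange A[T;T⁻¹]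
  obtain ⟨iN, pN, hpiN, hipN⟩ := hN.baseChange A[T;T⁻¹]
  set eM' := eM.map (algebraMap A[X] A[T;T⁻¹]) with heM'
  set εN' := εN.map (algebraMap A[X] A[T;T⁻¹]) with hεN'
  have hpiM' : ∀ z, pM (iM z) = z := fun z => LinearMap.congr_fun hpiM z
  have hpiN' : ∀ z, pN (iN z) = z := fun z => LinearMap.congr_fun hpiN z
  have hipM' : ∀ x, iM (pM x) = Matrix.toLin' eM' x := fun x => LinearMap.congr_fun hipM x
  have hipN' : ∀ x, iN (pN x) = Matrix.toLin' εN' x := fun x => LinearMap.congr_fun hipN x
  let E := Equiv.ofBijective e he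
  have hE : ∀ z, e (E.symm z) = z := fun z => E.apply_symm_apply z
  have hE' : ∀ z, E.symm (e z) = z := fun z => E.symm_apply_apply z
  have hEadd : ∀ z z', E.symm (z + z') = E.symm z + E.symm z' := by
    intro z z'
    apply he.1
    rw [hE, map_add, hE, hE]
  have hEsmul : ∀ (r : A[T;T⁻¹]) z, E.symm (σ r • z) = r • E.symm z := by
    intro r z
    apply he.1
    rw [hE, LinearMap.map_smulₛₗ, hE]
  let a : (ι → A[T;T⁻¹]) →ₗ[A[T;T⁻¹]] (κ → A[T;T⁻¹]) :=
    { toFun := fun x k => σ (iN (e (pM x)) k)
      map_add' := fun x y => by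
        funext k
        simp only [map_add, Pi.add_apply]
      map_smul' := fun r x => by
        funext k
        simp only [map_smul, LinearMap.map_smulₛₗ, Pi.smul_apply, smul_eq_mul, map_mul,
          RingHom.id_apply]
        rw [sigma_sigma] }
  let b : (κ → A[T;T⁻¹]) →ₗ[A[T;T⁻¹]] (ι → A[T;T⁻¹]) :=
    { toFun := fun y => iM (E.symm (pN (fun k => σ (y k))))
      map_add' := fun x y => by
        have : (fun k => σ ((x + y) k)) = (fun k => σ (x k)) + (fun k => σ (y k)) := by
          funext k; simp only [Pi.add_apply, map_add]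
        rw [this, map_add, hEadd, map_add]
      map_smul' := fun r x => by
        have : (fun k => σ ((r • x) k)) = σ r • (fun k => σ (x k)) := by
          funext k; simp only [Pi.smul_apply, smul_eq_mul, map_mul]
        rw [this, map_smul, hEsmul, map_smul, RingHom.id_apply] }
  refine ⟨LinearMap.toMatrix' a, LinearMap.toMatrix' b, ?_, ?_⟩
  · rw [← LinearMap.toMatrix'_comp]
    apply Matrix.toLin'.injective
    rw [Matrix.toLin'_toMatrix']
    refine LinearMap.ext fun x => ?_
    change iM (E.symm (pN (fun k => σ (σ (iN (e (pM x)) k))))) = _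
    simp only [sigma_sigma]
    rw [hpiN', hE', hipM']
  · rw [← LinearMap.toMatrix'_comp]
    apply Matrix.toLin'.injective
    rw [Matrix.toLin'_toMatrix']
    refine LinearMap.ext fun y => ?_
    funext k
    change σ (iN (e (pM (iM (E.symm (pN (fun k => σ (y k))))))) k) = _
    rw [hpiM', hE, hipN']
    simp only [Matrix.toLin'_apply, Matrix.mulVec, dotProduct, map_sum, map_mul, sigma_sigma,
      Matrix.map_apply]

end semilinear

end Groth.Agent.H9.HQ

namespace Groth.Agent.H9.HQ

open Polynomial Matrix LaurentPolynomial TensorProduct Groth.Agent.H9.MVN Groth.Agent.H9.QPL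
  Groth.Agent.H9.QPI

universe u

section main

variable (A : Type u) [CommRing A]

local notation "σ" => RingEquiv.toRingHom (AlgEquiv.toRingEquiv (LaurentPolynomial.invert (R := A)))

theorem reverse_monic_of_coeff_zero {R : Type*} [CommRing R] [Nontrivial R] {g : R[X]}
    (hg : g.coeff 0 = 1) : g.reverse.Monic := by
  have h1 : g.natTrailingDegree = 0 :=
    natTrailingDegree_eq_zero_of_constantCoeff_ne_zero (by
      rw [constantCoeff_apply, hg]; exact one_ne_zero)
  rw [Monic, reverse_leadingCoeff, trailingCoeff, h1, hg]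

/-- (⇐) of Quillen's theorem. -/
theorem extended_of_P1 (M : Type u) [AddCommGroup M] [Module A[X] M]
    [Module.Finite A[X] M] [Module.Projective A[X] M]
    (N : Type u) [AddCommGroup N] [Module A[X] N] [Module.Finite A[X] N]
    [Module.Projective A[X] N]
    (e : (A[T;T⁻¹] ⊗[A[X]] M) →ₛₗ[σ] (A[T;T⁻¹] ⊗[A[X]] N)) (he : Function.Bijective e) :
    ∃ (P : Type u) (_ : AddCommGroup P) (_ : Module A P),
      Nonempty (M ≃ₗ[A[X]] (A[X] ⊗[A] P)) := by
  classical
  obtain ⟨n, eM, hM⟩ := exists_pres A[X] M
  obtain ⟨n', εN, hN⟩ := exists_pres A[X] N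
  have heM := hM.idem
  have hεN := hN.idem
  have hL := mvn_of_semilinear eM εN hM hN e he
  have halg : ∀ p : A[X], algebraMap A[X] A[T;T⁻¹] p = toLaurent p :=
    LaurentPolynomial.algebraMap_eq_toLaurent
  have hext : MvN eM (eM.map (scl 0)) := by
    apply extended_of_local eM heM
    intro m hm
    set R := Localization.AtPrime m
    set f₀ := algebraMap A R with hf₀
    set eR := eM.map (Polynomial.map f₀) with heR
    set εR := εN.map (Polynomial.map f₀) with hεR
    have heRid : eR * eR = eR := idem_map (mapRingHom f₀) heM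
    have hεRid : εR * εR = εR := idem_map (mapRingHom f₀) hεN
    have hLR := hL.map (lmap f₀)
    have h1 : (eM.map (algebraMap A[X] A[T;T⁻¹])).map (lmap f₀)
        = eR.map (toLaurent : R[X] →+* R[T;T⁻¹]) := by
      refine Matrix.ext fun i j => ?_
      simp only [Matrix.map_apply, halg, lmap_toLaurent, eR]
    have h2 : ((εN.map (algebraMap A[X] A[T;T⁻¹])).map σ).map (lmap f₀)
        = εR.map (flip : R[X] →+* R[T;T⁻¹]) := by
      refine Matrix.ext fun i j => ?_
      simp only [Matrix.map_apply, halg, εR]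
      rw [← lmap_flip]
      rfl
    rw [h1, h2] at hLR
    obtain ⟨a, b, hba, hab⟩ := hLR
    obtain ⟨r, u₁, w, g, hg, hwu, huw, hεw⟩ := exists_local_triv εR hεRid
    refine ⟨r, ?_⟩
    have heR'id : eR.map (toLaurent : R[X] →+* R[T;T⁻¹]) * eR.map toLaurent
        = eR.map toLaurent := idem_map _ heRid
    apply horrocks_laurent eR heRid (u₁.map flip * a) (b * w.map flip) (flip g) g.reverse
      (reverse_monic_of_coeff_zero hg) g.natDegree (flip_reverse g)
    · calc b * w.map flip * (u₁.map flip * a)
          = b * ((w * u₁).map flip) * a := by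
            rw [Matrix.map_mul]; simp only [Matrix.mul_assoc]
        _ = flip g • (b * (a * b) * a) := by
            rw [hwu, hab]
            have : (g • εR).map (flip : R[X] →+* R[T;T⁻¹]) = flip g • εR.map flip := by
              refine Matrix.ext fun i j => ?_
              simp only [Matrix.map_apply, Matrix.smul_apply, smul_eq_mul, map_mul]
            rw [this, Matrix.mul_smul, Matrix.smul_mul]
        _ = flip g • ((b * a) * (b * a)) := by simp only [Matrix.mul_assoc]
        _ = flip g • eR.map toLaurent := by rw [hba, heR'id]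
    · calc u₁.map flip * a * (b * w.map flip)
          = u₁.map flip * (a * b) * w.map flip := by simp only [Matrix.mul_assoc]
        _ = (u₁ * (εR * w)).map flip := by
            rw [hab, Matrix.map_mul, Matrix.map_mul]; simp only [Matrix.mul_assoc]
        _ = flip g • 1 := by
            rw [hεw, huw]
            refine Matrix.ext fun i j => ?_
            by_cases hij : i = j
            · subst hij
              simp only [Matrix.map_apply, Matrix.smul_apply, Matrix.one_apply_eq, smul_eq_mul,
                mul_one]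
            · simp only [Matrix.map_apply, Matrix.smul_apply, Matrix.one_apply_ne hij,
                smul_eq_mul, mul_zero, map_zero]
  -- conclude
  set e₀ : Matrix (Fin n) (Fin n) A := eM.map (fun p => p.coeff 0) with he₀
  have he₀C : eM.map (scl 0) = e₀.map (algebraMap A A[X]) := by
    refine Matrix.ext fun i j => ?_
    simp only [Matrix.map_apply, e₀, Groth.Agent.H9.QPI.scl_zero, Polynomial.algebraMap_eq]
  have he₀id : e₀ * e₀ = e₀ := by
    have : e₀ = eM.map (constantCoeff : A[X] →+* A) := by
      refine Matrix.ext fun i j => ?_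
      simp only [Matrix.map_apply, e₀, constantCoeff_apply]
    rw [this]
    exact idem_map _ heM
  let P₀ := LinearMap.range (Matrix.toLin' e₀)
  have hP₀ : Pres A P₀ e₀ := pres_range he₀id
  have hP₀' := hP₀.baseChange A[X]
  rw [← he₀C] at hP₀'
  exact ⟨P₀, inferInstance, inferInstance, hM.equiv_of_mvn hP₀' hext⟩

end main

end Groth.Agent.H9.HQ

namespace Groth.Agent.H9.HQ

open Polynomial Matrix LaurentPolynomial TensorProduct Groth.Agent.H9.MVN Groth.Agent.H9.QPL

universe u

section converse

variable (A : Type u) [CommRing A]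

local notation "σ" => RingEquiv.toRingHom (AlgEquiv.toRingEquiv (LaurentPolynomial.invert (R := A)))

/-- (⇒) of Quillen's theorem: an extended module extends to the projective line. -/
theorem P1_of_extended (M : Type u) [AddCommGroup M] [Module A[X] M]
    (P : Type u) [AddCommGroup P] [Module A P] (f : M ≃ₗ[A[X]] (A[X] ⊗[A] P)) :
    ∃ e : (A[T;T⁻¹] ⊗[A[X]] M) →ₛₗ[σ] (A[T;T⁻¹] ⊗[A[X]] M), Function.Bijective e := by
  haveI : IsScalarTower A A[X] A[T;T⁻¹] := IsScalarTower.of_algebraMap_eq (fun a => by
    rw [LaurentPolynomial.algebraMap_eq_toLaurent, Polynomial.algebraMap_eq,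
      Polynomial.toLaurent_C, LaurentPolynomial.C_eq_algebraMap])
  let ψ : A[T;T⁻¹] ⊗[A[X]] M ≃ₗ[A[T;T⁻¹]] A[T;T⁻¹] ⊗[A] P :=
    (TensorProduct.AlgebraTensorModule.congr (LinearEquiv.refl A[T;T⁻¹] A[T;T⁻¹]) f) ≪≫ₗ
      (TensorProduct.AlgebraTensorModule.cancelBaseChange A A[X] A[T;T⁻¹] A[T;T⁻¹] P)
  let J : A[T;T⁻¹] ⊗[A] P →ₗ[A] A[T;T⁻¹] ⊗[A] P :=
    LinearMap.rTensor P (LaurentPolynomial.invert (R := A)).toLinearMap
  have hJt : ∀ (l : A[T;T⁻¹]) (p : P), J (l ⊗ₜ p) = LaurentPolynomial.invert l ⊗ₜ p := by
    intro l p; rfl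
  have hJsemi : ∀ (r : A[T;T⁻¹]) z, J (r • z) = σ r • J z := by
    intro r z
    induction z using TensorProduct.induction_on with
    | zero => simp
    | tmul l p =>
      rw [TensorProduct.smul_tmul', hJt, hJt, TensorProduct.smul_tmul', smul_eq_mul, smul_eq_mul,
        map_mul]
      rfl
    | add x y hx hy => rw [smul_add, map_add, hx, hy, map_add, smul_add]
  have hJJ : ∀ z, J (J z) = z := by
    intro z
    induction z using TensorProduct.induction_on with
    | zero => simp
    | tmul l p => rw [hJt, hJt, LaurentPolynomial.involutive_invert l]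
    | add x y hx hy => rw [map_add, map_add, hx, hy]
  let e : (A[T;T⁻¹] ⊗[A[X]] M) →ₛₗ[σ] (A[T;T⁻¹] ⊗[A[X]] M) :=
    { toFun := fun z => ψ.symm (J (ψ z))
      map_add' := fun x y => by rw [map_add, map_add, map_add]
      map_smul' := fun r x => by rw [map_smul, hJsemi, map_smul] }
  refine ⟨e, Function.Involutive.bijective ?_⟩
  intro z
  change ψ.symm (J (ψ (ψ.symm (J (ψ z))))) = z
  rw [LinearEquiv.apply_symm_apply, hJJ, LinearEquiv.symm_apply_apply]

end converse

end Groth.Agent.H9.HQ
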