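import Mathlib
import Groth.Agent.Lib.Helper9.Misc.MVN1
import Groth.Agent.Lib.Helper9.Misc.MVN2
import Groth.Agent.Lib.Helper9.Misc.HQ2
import Groth.Agent.Lib.Helper9.Misc.HQ5

set_option autoImplicit false
set_option linter.style.haveILetI false
set_option linter.unusedSectionVars false
set_option linter.unusedVariables false

/-!
# Finite projective modules isomorphic over `R((t))` are isomorphic
-/

namespace Groth.Agent.H9.HQ

open Matrix TensorProduct Groth.Agent.H9.MVN

universe u

section pslift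

variable {R : Type*} [CommRing R]

theorem exists_ps_lift (x : LaurentSeries R) :
    ∃ k₀ : ℕ, ∀ k : ℕ, k₀ ≤ k → ∃ y : PowerSeries R,
      HahnSeries.ofPowerSeries ℤ R y = HahnSeries.single (k : ℤ) (1 : R) * x := by
  refine ⟨(-x.order).toNat, fun k hk => ?_⟩
  have hnn : 0 ≤ (k : ℤ) + x.order := by
    have := Int.self_le_toNat (-x.order)
    have h2 : ((-x.order).toNat : ℤ) ≤ k := by exact_mod_cast hk
    linarith
  obtain ⟨j, hj⟩ := Int.eq_ofNat_of_zero_le hnn
  refine ⟨PowerSeries.X ^ j * x.powerSeriesPart, ?_⟩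
  rw [map_mul, HahnSeries.ofPowerSeries_X_pow, LaurentSeries.ofPowerSeries_powerSeriesPart,
    ← mul_assoc, HahnSeries.single_mul_single, mul_one]
  congr 2
  rw [← hj]; ring_nf

theorem exists_ps_lift_matrix {κ μ : Type*} [Finite κ] [Finite μ]
    (F : Matrix κ μ (LaurentSeries R)) :
    ∃ k₀ : ℕ, ∀ k : ℕ, k₀ ≤ k → ∃ F₁ : Matrix κ μ (PowerSeries R),
      F₁.map (HahnSeries.ofPowerSeries ℤ R) =
        (HahnSeries.single (k : ℤ) (1 : R) : LaurentSeries R) • F := by
  classical
  cases nonempty_fintype κ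
  cases nonempty_fintype μ
  have h := fun i j => exists_ps_lift (F i j)
  choose n hn using h
  refine ⟨∑ i, ∑ j, n i j, fun k hk => ?_⟩
  have hle : ∀ i j, n i j ≤ k := by
    intro i j
    refine le_trans ?_ hk
    calc n i j ≤ ∑ j', n i j' :=
          Finset.single_le_sum (f := fun j' => n i j') (fun _ _ => Nat.zero_le _)
            (Finset.mem_univ j)
      _ ≤ ∑ i', ∑ j', n i' j' :=
          Finset.single_le_sum (f := fun i' => ∑ j', n i' j') (fun _ _ => Nat.zero_le _)
            (Finset.mem_univ i)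
  have h2 := fun i j => hn i j k (hle i j)
  choose f hf using h2
  refine ⟨fun i j => f i j, ?_⟩
  refine Matrix.ext fun i j => ?_
  simp only [Matrix.map_apply, Matrix.smul_apply, smul_eq_mul, hf]

end pslift

section trunc

variable {R : Type*} [CommRing R]

open Polynomial in
theorem exists_eq_X_pow_mul (d : R[X]) (ξ : PowerSeries R) (K : ℕ)
    (h : (d : PowerSeries R) = PowerSeries.X ^ K * ξ) : ∃ d' : R[X], d = X ^ K * d' := by
  have : (X : R[X]) ^ K ∣ d := by
    rw [Polynomial.X_pow_dvd_iff]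
    intro j hj
    have h1 := congrArg (PowerSeries.coeff j) h
    rw [Polynomial.coeff_coe, PowerSeries.coeff_X_pow_mul', if_neg (by omega)] at h1
    exact h1
  obtain ⟨d', hd'⟩ := this
  exact ⟨d', hd'⟩

end trunc

end Groth.Agent.H9.HQ

namespace Groth.Agent.H9.HQ

open Matrix TensorProduct Groth.Agent.H9.MVN

section TR

variable {R : Type*} [CommRing R]
variable {ι κ : Type*} [Fintype ι] [Fintype κ] [DecidableEq ι] [DecidableEq κ]

/-- coercion of polynomials to power series as a ring hom -/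
noncomputable abbrev cP : Polynomial R →+* PowerSeries R := Polynomial.coeToPowerSeries.ringHom

theorem cP_apply (p : Polynomial R) : cP p = (p : PowerSeries R) := rfl

theorem map_cP_map_C {μ : Type*} (x : Matrix μ μ R) :
    (x.map (Polynomial.C : R →+* Polynomial R)).map (cP : Polynomial R →+* PowerSeries R)
      = x.map (PowerSeries.C : R →+* PowerSeries R) := by
  refine Matrix.ext fun i j => ?_
  simp only [Matrix.map_apply, cP_apply, Polynomial.coe_C]

theorem map_smul_ringHom {S S' : Type*} [CommRing S] [CommRing S'] (f : S →+* S')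
    {μ ν : Type*} (c : S) (x : Matrix μ ν S) : (c • x).map f = f c • x.map f := by
  refine Matrix.ext fun i j => ?_
  simp only [Matrix.map_apply, Matrix.smul_apply, smul_eq_mul, map_mul]

theorem cP_map_injective {μ ν : Type*} {F G : Matrix μ ν (Polynomial R)}
    (h : F.map (cP : Polynomial R →+* PowerSeries R) = G.map cP) : F = G := by
  refine Matrix.ext fun i j => ?_
  have := congrFun (congrFun h i) j
  simp only [Matrix.map_apply, cP_apply] at this
  exact Polynomial.coe_injective R this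

theorem exists_trunc (e₀ : Matrix ι ι R) (e₀' : Matrix κ κ R) (he₀ : e₀ * e₀ = e₀)
    (he₀' : e₀' * e₀' = e₀')
    (u₁ : Matrix κ ι (PowerSeries R)) (v₁ : Matrix ι κ (PowerSeries R)) (m : ℕ)
    (hvu : v₁ * u₁ = (PowerSeries.X ^ m : PowerSeries R) • e₀.map (PowerSeries.C : R →+* _))
    (huv : u₁ * v₁ = (PowerSeries.X ^ m : PowerSeries R) • e₀'.map (PowerSeries.C : R →+* _))
    (n1 : e₀.map (PowerSeries.C : R →+* PowerSeries R) * v₁ = v₁)
    (n2 : v₁ * e₀'.map (PowerSeries.C : R →+* PowerSeries R) = v₁)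
    (n3 : e₀'.map (PowerSeries.C : R →+* PowerSeries R) * u₁ = u₁)
    (n4 : u₁ * e₀.map (PowerSeries.C : R →+* PowerSeries R) = u₁) :
    ∃ (U : Matrix κ ι (Polynomial R)) (V : Matrix ι κ (Polynomial R))
      (D₁ : Matrix ι ι (Polynomial R)) (D₂ : Matrix κ κ (Polynomial R)),
      V * U = (Polynomial.X ^ m : Polynomial R) •
        (e₀.map (Polynomial.C : R →+* _) + (Polynomial.X : Polynomial R) • D₁) ∧
      U * V = (Polynomial.X ^ m : Polynomial R) •
        (e₀'.map (Polynomial.C : R →+* _) + (Polynomial.X : Polynomial R) • D₂) ∧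
      e₀.map (Polynomial.C : R →+* Polynomial R) * V = V ∧
      V * e₀'.map (Polynomial.C : R →+* Polynomial R) = V ∧
      e₀'.map (Polynomial.C : R →+* Polynomial R) * U = U ∧
      U * e₀.map (Polynomial.C : R →+* Polynomial R) = U := by
  classical
  set K := m + 1 with hK
  set E := e₀.map (PowerSeries.C : R →+* PowerSeries R) with hE
  set E' := e₀'.map (PowerSeries.C : R →+* PowerSeries R) with hE'
  set EC := e₀.map (Polynomial.C : R →+* Polynomial R) with hEC
  set EC' := e₀'.map (Polynomial.C : R →+* Polynomial R) with hEC'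
  have hEid : E * E = E := by rw [hE, ← Matrix.map_mul, he₀]
  have hE'id : E' * E' = E' := by rw [hE', ← Matrix.map_mul, he₀']
  have hECid : EC * EC = EC := by rw [hEC, ← Matrix.map_mul, he₀]
  have hEC'id : EC' * EC' = EC' := by rw [hEC', ← Matrix.map_mul, he₀']
  let shift : PowerSeries R → PowerSeries R := fun f => PowerSeries.mk fun i => PowerSeries.coeff (i + K) f
  let u₂ : Matrix κ ι (Polynomial R) := u₁.map (PowerSeries.trunc K)
  let v₂ : Matrix ι κ (Polynomial R) := v₁.map (PowerSeries.trunc K)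
  let u₃ : Matrix κ ι (PowerSeries R) := u₁.map shift
  let v₃ : Matrix ι κ (PowerSeries R) := v₁.map shift
  have hu₂ : u₂.map (cP : Polynomial R →+* PowerSeries R)
      = u₁ - (PowerSeries.X ^ K : PowerSeries R) • u₃ := by
    refine Matrix.ext fun i j => ?_
    simp only [Matrix.map_apply, Matrix.sub_apply, Matrix.smul_apply, smul_eq_mul, u₂, u₃, cP_apply,
      shift]
    have := PowerSeries.eq_X_pow_mul_shift_add_trunc K (u₁ i j)
    exact eq_sub_of_add_eq' this.symm
  have hv₂ : v₂.map (cP : Polynomial R →+* PowerSeries R)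
      = v₁ - (PowerSeries.X ^ K : PowerSeries R) • v₃ := by
    refine Matrix.ext fun i j => ?_
    simp only [Matrix.map_apply, Matrix.sub_apply, Matrix.smul_apply, smul_eq_mul, v₂, v₃, cP_apply,
      shift]
    have := PowerSeries.eq_X_pow_mul_shift_add_trunc K (v₁ i j)
    exact eq_sub_of_add_eq' this.symm
  set U := EC' * u₂ * EC with hU
  set V := EC * v₂ * EC' with hV
  set u₄ := E' * u₃ * E with hu₄
  set v₄ := E * v₃ * E' with hv₄
  have hUc : U.map (cP : Polynomial R →+* PowerSeries R)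
      = u₁ - (PowerSeries.X ^ K : PowerSeries R) • u₄ := by
    rw [hU, Matrix.map_mul, Matrix.map_mul, map_cP_map_C, map_cP_map_C, hu₂, Matrix.mul_sub,
      Matrix.sub_mul, n3, n4, Matrix.mul_smul, Matrix.smul_mul]
  have hVc : V.map (cP : Polynomial R →+* PowerSeries R)
      = v₁ - (PowerSeries.X ^ K : PowerSeries R) • v₄ := by
    rw [hV, Matrix.map_mul, Matrix.map_mul, map_cP_map_C, map_cP_map_C, hv₂, Matrix.mul_sub,
      Matrix.sub_mul, n1, n2, Matrix.mul_smul, Matrix.smul_mul]
  -- the two defects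
  have key1 : ∃ D₁ : Matrix ι ι (Polynomial R),
      V * U = (Polynomial.X ^ m : Polynomial R) • (EC + (Polynomial.X : Polynomial R) • D₁) := by
    set ξ := v₄ * u₁ + v₁ * u₄ - (PowerSeries.X ^ K : PowerSeries R) • (v₄ * u₄) with hξ
    have h1 : (V * U - (Polynomial.X ^ m : Polynomial R) • EC).map
        (cP : Polynomial R →+* PowerSeries R) = (PowerSeries.X ^ K : PowerSeries R) • (-ξ) := by
      rw [Matrix.map_sub (f := (cP : Polynomial R →+* PowerSeries R)) (fun a b => map_sub _ a b),
        Matrix.map_mul, hUc, hVc, map_smul_ringHom, map_cP_map_C, Matrix.sub_mul, Matrix.mul_sub,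
        Matrix.mul_sub, hvu]
      have hX : (cP (Polynomial.X ^ m : Polynomial R) : PowerSeries R) = PowerSeries.X ^ m := by
        rw [map_pow, cP_apply, Polynomial.coe_X]
      rw [hX, hξ]
      simp only [Matrix.smul_mul, Matrix.mul_smul, smul_sub, smul_neg, smul_add, smul_smul]
      abel
    have h2 : ∀ i j, ∃ d' : Polynomial R,
        (V * U - (Polynomial.X ^ m : Polynomial R) • EC) i j = Polynomial.X ^ K * d' := by
      intro i j
      apply exists_eq_X_pow_mul _ ((-ξ) i j) K
      have := congrFun (congrFun h1 i) j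
      simpa only [Matrix.map_apply, Matrix.smul_apply, smul_eq_mul, cP_apply] using this
    choose D₁ hD₁ using h2
    refine ⟨D₁, ?_⟩
    refine Matrix.ext fun i j => ?_
    have := hD₁ i j
    simp only [Matrix.sub_apply, Matrix.smul_apply, smul_eq_mul, Matrix.add_apply] at this ⊢
    rw [hK, pow_succ] at this
    linear_combination this
  have key2 : ∃ D₂ : Matrix κ κ (Polynomial R),
      U * V = (Polynomial.X ^ m : Polynomial R) • (EC' + (Polynomial.X : Polynomial R) • D₂) := by
    set ξ := u₄ * v₁ + u₁ * v₄ - (PowerSeries.X ^ K : PowerSeries R) • (u₄ * v₄) with hξ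
    have h1 : (U * V - (Polynomial.X ^ m : Polynomial R) • EC').map
        (cP : Polynomial R →+* PowerSeries R) = (PowerSeries.X ^ K : PowerSeries R) • (-ξ) := by
      rw [Matrix.map_sub (f := (cP : Polynomial R →+* PowerSeries R)) (fun a b => map_sub _ a b),
        Matrix.map_mul, hUc, hVc, map_smul_ringHom, map_cP_map_C, Matrix.sub_mul, Matrix.mul_sub,
        Matrix.mul_sub, huv]
      have hX : (cP (Polynomial.X ^ m : Polynomial R) : PowerSeries R) = PowerSeries.X ^ m := by
        rw [map_pow, cP_apply, Polynomial.coe_X]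
      rw [hX, hξ]
      simp only [Matrix.smul_mul, Matrix.mul_smul, smul_sub, smul_neg, smul_add, smul_smul]
      abel
    have h2 : ∀ i j, ∃ d' : Polynomial R,
        (U * V - (Polynomial.X ^ m : Polynomial R) • EC') i j = Polynomial.X ^ K * d' := by
      intro i j
      apply exists_eq_X_pow_mul _ ((-ξ) i j) K
      have := congrFun (congrFun h1 i) j
      simpa only [Matrix.map_apply, Matrix.smul_apply, smul_eq_mul, cP_apply] using this
    choose D₂ hD₂ using h2
    refine ⟨D₂, ?_⟩
    refine Matrix.ext fun i j => ?_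
    have := hD₂ i j
    simp only [Matrix.sub_apply, Matrix.smul_apply, smul_eq_mul, Matrix.add_apply] at this ⊢
    rw [hK, pow_succ] at this
    linear_combination this
  obtain ⟨D₁, hD₁⟩ := key1
  obtain ⟨D₂, hD₂⟩ := key2
  refine ⟨U, V, D₁, D₂, hD₁, hD₂, ?_, ?_, ?_, ?_⟩
  · rw [hV, ← Matrix.mul_assoc, ← Matrix.mul_assoc, hECid]
  · rw [hV, Matrix.mul_assoc, hEC'id]
  · rw [hU, ← Matrix.mul_assoc, ← Matrix.mul_assoc, hEC'id]
  · rw [hU, Matrix.mul_assoc, hECid]

end TR

end Groth.Agent.H9.HQ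

namespace Groth.Agent.H9.HQ

open Matrix TensorProduct Groth.Agent.H9.MVN

universe u

section final

variable {R : Type*} [CommRing R]
variable {ι κ : Type*} [Fintype ι] [Fintype κ] [DecidableEq ι] [DecidableEq κ]

open Polynomial in
theorem det_one_add_X_smul_coeff_zero (D : Matrix ι ι R[X]) :
    (1 + (X : R[X]) • D).det.coeff 0 = 1 := by
  have h1 : (1 + (X : R[X]) • D).map (constantCoeff : R[X] →+* R) = 1 := by
    refine Matrix.ext fun i j => ?_
    by_cases hij : i = j
    · subst hij
      simp [constantCoeff_apply]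
    · simp [constantCoeff_apply, Matrix.one_apply_ne hij]
  have := RingHom.map_det (constantCoeff : R[X] →+* R) (1 + (X : R[X]) • D)
  rw [RingHom.mapMatrix_apply, h1, Matrix.det_one] at this
  exact this

open Polynomial in
theorem smul_X_pow_cancel (m : ℕ) {μ ν : Type*} (Z : Matrix μ ν R[X])
    (hZ : (X ^ (m + 1) : R[X]) • Z = 0) : Z = 0 := by
  refine Matrix.ext fun i j => ?_
  have := congrFun (congrFun hZ i) j
  simp only [Matrix.smul_apply, smul_eq_mul, Matrix.zero_apply] at this
  exact (monic_X_pow (m + 1)).mul_right_eq_zero_iff.mp this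

open Polynomial in
/-- from the truncated data to an equivalence of the constant idempotents -/
theorem mvn_of_trunc (e₀ : Matrix ι ι R) (e₀' : Matrix κ κ R) (he₀ : e₀ * e₀ = e₀)
    (he₀' : e₀' * e₀' = e₀') (U : Matrix κ ι R[X]) (V : Matrix ι κ R[X])
    (D₁ : Matrix ι ι R[X]) (D₂ : Matrix κ κ R[X]) (m : ℕ)
    (hVU : V * U = (X ^ m : R[X]) • (e₀.map (C : R →+* R[X]) + (X : R[X]) • D₁))
    (hUV : U * V = (X ^ m : R[X]) • (e₀'.map (C : R →+* R[X]) + (X : R[X]) • D₂))
    (n1 : e₀.map (C : R →+* R[X]) * V = V) (n2 : V * e₀'.map (C : R →+* R[X]) = V)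
    (n3 : e₀'.map (C : R →+* R[X]) * U = U) (n4 : U * e₀.map (C : R →+* R[X]) = U) :
    MvN e₀ e₀' := by
  set EC := e₀.map (C : R →+* R[X]) with hEC
  set EC' := e₀'.map (C : R →+* R[X]) with hEC'
  have hECid : EC * EC = EC := by rw [hEC, ← Matrix.map_mul, he₀]
  have hEC'id : EC' * EC' = EC' := by rw [hEC', ← Matrix.map_mul, he₀']
  -- `D₁ * EC = D₁`
  have hD₁ : D₁ * EC = D₁ := by
    have h1 : V * U * EC = V * U := by rw [Matrix.mul_assoc, n4]
    rw [hVU, Matrix.smul_mul, Matrix.add_mul, hECid, Matrix.smul_mul] at h1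
    have h2 : (X ^ (m + 1) : R[X]) • (D₁ * EC - D₁) = 0 := by
      have h3 : (X ^ m : R[X]) • (EC + (X : R[X]) • (D₁ * EC))
          - (X ^ m : R[X]) • (EC + (X : R[X]) • D₁) = 0 := sub_eq_zero.mpr h1
      rw [← h3, pow_succ, mul_smul]
      simp only [smul_add, smul_sub]
      abel
    exact sub_eq_zero.mp (smul_X_pow_cancel m _ h2)
  have hD₂ : EC' * D₂ = D₂ := by
    have h1 : EC' * (U * V) = U * V := by rw [← Matrix.mul_assoc, n3]
    rw [hUV, Matrix.mul_smul, Matrix.mul_add, hEC'id, Matrix.mul_smul] at h1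
    have h2 : (X ^ (m + 1) : R[X]) • (EC' * D₂ - D₂) = 0 := by
      have h3 : (X ^ m : R[X]) • (EC' + (X : R[X]) • (EC' * D₂))
          - (X ^ m : R[X]) • (EC' + (X : R[X]) • D₂) = 0 := sub_eq_zero.mpr h1
      rw [← h3, pow_succ, mul_smul]
      simp only [smul_add, smul_sub]
      abel
    exact sub_eq_zero.mp (smul_X_pow_cancel m _ h2)
  set Θ : Matrix ι ι R[X] := (X ^ m : R[X]) • (1 + (X : R[X]) • D₁) with hΘ
  set Θ' : Matrix κ κ R[X] := (X ^ m : R[X]) • (1 + (X : R[X]) • D₂) with hΘ'
  have hvuΘ : V * U = Θ * EC := by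
    rw [hVU, hΘ, Matrix.smul_mul, Matrix.add_mul, Matrix.one_mul, Matrix.smul_mul, hD₁]
  have huvΘ' : U * V = EC' * Θ' := by
    rw [hUV, hΘ', Matrix.mul_smul, Matrix.mul_add, Matrix.mul_one, Matrix.mul_smul, hD₂]
  set g := (1 + (X : R[X]) • D₁).det with hg
  set g' := (1 + (X : R[X]) • D₂).det with hg'
  have hg0 : g.coeff 0 = 1 := det_one_add_X_smul_coeff_zero D₁
  have hg'0 : g'.coeff 0 = 1 := det_one_add_X_smul_coeff_zero D₂
  have hdetΘ : Θ.det = X ^ (m * Fintype.card ι) * g := by
    rw [hΘ, Matrix.det_smul, ← pow_mul]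
  have hdetΘ' : Θ'.det = X ^ (m * Fintype.card κ) * g' := by
    rw [hΘ', Matrix.det_smul, ← pow_mul]
  have hreg : ∀ x : R[X], Θ'.det * x = 0 → x = 0 := by
    intro x hx
    rw [hdetΘ', mul_assoc] at hx
    have := (monic_X_pow (m * Fintype.card κ)).mul_right_eq_zero_iff.mp hx
    exact eq_zero_of_mul_eq_zero_of_coeff_zero_eq_one hg'0 this
  obtain ⟨w, hw1, hw2, hw3, hw4⟩ := adj_trick (e := EC) (e' := EC') (u := U) (v := V)
    (Θ := Θ) (Θ' := Θ') hECid hEC'id n4 n3 n2 hvuΘ huvΘ' hreg
  rw [hdetΘ] at hw1 hw2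
  exact core e₀ e₀' he₀ he₀' U w (m * Fintype.card ι) g hg0 hw1 hw2 hw3 hw4 n3 n4

end final

section laurentSeries

theorem nonempty_equiv_of_laurentSeries (R : Type u) [CommRing R]
    (L : Type u) [CommRing L] [Algebra R L] (eL : L ≃ₐ[R] LaurentSeries R)
    (M N : Type u) [AddCommGroup M] [Module R M] [Module.Finite R M] [Module.Projective R M]
    [AddCommGroup N] [Module R N] [Module.Finite R N] [Module.Projective R N]
    (e : L ⊗[R] M ≃ₗ[L] L ⊗[R] N) :
    Nonempty (M ≃ₗ[R] N) := by
  classical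
  obtain ⟨n, e₀, hM⟩ := exists_pres R M
  obtain ⟨n', e₀', hN⟩ := exists_pres R N
  have he₀ := hM.idem
  have he₀' := hN.idem
  have hmvnL : MvN (e₀.map (algebraMap R L)) (e₀'.map (algebraMap R L)) :=
    (hM.baseChange L).mvn_of_equiv (hN.baseChange L) e
  have hmvn := hmvnL.map (eL : L →+* LaurentSeries R)
  have hcomm : ∀ {μ : Type} (x : Matrix μ μ R),
      (x.map (algebraMap R L)).map (eL : L →+* LaurentSeries R)
        = x.map (HahnSeries.C : R →+* LaurentSeries R) := by
    intro μ x
    refine Matrix.ext fun i j => ?_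
    simp only [Matrix.map_apply, RingHom.coe_coe, AlgEquiv.commutes]
    rw [HahnSeries.algebraMap_apply', ← HahnSeries.ofPowerSeries_C]
    rfl
  rw [hcomm, hcomm] at hmvn
  obtain ⟨u, v, hvu, huv, m3, m4, m1, m2⟩ := hmvn.exists_normalized
    (by rw [← Matrix.map_mul, he₀]) (by rw [← Matrix.map_mul, he₀'])
  obtain ⟨ku, hku⟩ := exists_ps_lift_matrix u
  obtain ⟨kv, hkv⟩ := exists_ps_lift_matrix v
  set k := max ku kv with hk
  obtain ⟨u₁, hu₁⟩ := hku k (le_max_left _ _)
  obtain ⟨v₁, hv₁⟩ := hkv k (le_max_right _ _)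
  let oP : PowerSeries R →+* LaurentSeries R := HahnSeries.ofPowerSeries ℤ R
  have hinj : ∀ {μ ν : Type} {F G : Matrix μ ν (PowerSeries R)},
      F.map oP = G.map oP → F = G := by
    intro μ ν F G hFG
    refine Matrix.ext fun i j => ?_
    have := congrFun (congrFun hFG i) j
    simp only [Matrix.map_apply] at this
    exact HahnSeries.ofPowerSeries_injective this
  have hC : ∀ {μ : Type} (x : Matrix μ μ R),
      (x.map (PowerSeries.C : R →+* PowerSeries R)).map oP
        = x.map (HahnSeries.C : R →+* LaurentSeries R) := by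
    intro μ x
    refine Matrix.ext fun i j => ?_
    simp only [Matrix.map_apply, oP, HahnSeries.ofPowerSeries_C]
  have hXk : oP ((PowerSeries.X : PowerSeries R) ^ (k + k))
      = (HahnSeries.single (k : ℤ) (1 : R) : LaurentSeries R) * HahnSeries.single (k : ℤ) 1 := by
    rw [HahnSeries.single_mul_single, mul_one]
    simp only [oP, HahnSeries.ofPowerSeries_X_pow]
    congr 1
  obtain ⟨U, V, D₁, D₂, hVU, hUV, q1, q2, q3, q4⟩ := exists_trunc e₀ e₀' he₀ he₀' u₁ v₁ (k + k)
    (by
      apply hinj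
      rw [Matrix.map_mul, hu₁, hv₁, Matrix.smul_mul, Matrix.mul_smul, hvu, smul_smul,
        map_smul_ringHom, hC, hXk])
    (by
      apply hinj
      rw [Matrix.map_mul, hu₁, hv₁, Matrix.smul_mul, Matrix.mul_smul, huv, smul_smul,
        map_smul_ringHom, hC, hXk])
    (by
      apply hinj
      rw [Matrix.map_mul, hC, hv₁, Matrix.mul_smul, m1])
    (by
      apply hinj
      rw [Matrix.map_mul, hC, hv₁, Matrix.smul_mul, m2])
    (by
      apply hinj
      rw [Matrix.map_mul, hC, hu₁, Matrix.mul_smul, m3])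
    (by
      apply hinj
      rw [Matrix.map_mul, hC, hu₁, Matrix.smul_mul, m4])
  have := mvn_of_trunc e₀ e₀' he₀ he₀' U V D₁ D₂ (k + k) hVU hUV q1 q2 q3 q4
  exact hM.equiv_of_mvn hN this

end laurentSeries

end Groth.Agent.H9.HQ
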