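import Mathlib
import Groth.Agent.Lib.Helper1.Henselian
import Groth.Agent.Lib.Helper8.Hens.HenselFactor

set_option autoImplicit false
set_option linter.style.haveILetI false
set_option linter.unusedSectionVars false
set_option linter.unusedVariables false

namespace Groth.Agent.H9.HVN

open Polynomial IsLocalRing

universe u

section hens

variable (R : Type u) [CommRing R] [IsDomain R] [ValuationRing R] [Ring.KrullDimLE 1 R]
  (t : R) (ht : t ≠ 0) [IsAdicComplete (Ideal.span {t}) R]

theorem t_not_unit : ¬ IsUnit t := by
  intro hu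
  have htop : Ideal.span {t} = ⊤ := Ideal.span_singleton_eq_top.2 hu
  have hH : IsHausdorff (Ideal.span {t}) R := inferInstance
  have : (1 : R) = 0 := by
    apply hH.haus'
    intro n
    rw [htop, Ideal.top_pow, SModEq.zero]
    simp
  exact one_ne_zero this

include ht in
theorem radical_span_t : (Ideal.span {t}).radical = maximalIdeal R := by
  have hnu := t_not_unit R t
  apply le_antisymm
  · have h1 : Ideal.span {t} ≤ maximalIdeal R := by
      rw [Ideal.span_singleton_le_iff_mem]
      exact (mem_maximalIdeal t).2 hnu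
    have : (maximalIdeal R).IsPrime := inferInstance
    exact (this.radical_le_iff).2 h1
  · rw [Ideal.radical_eq_sInf]
    apply le_sInf
    rintro J ⟨hJ, hJp⟩
    have hJ0 : J ≠ ⊥ := by
      intro h0
      rw [h0] at hJ
      have : t ∈ (⊥ : Ideal R) := hJ (Ideal.subset_span rfl)
      exact ht ((Ideal.mem_bot).1 this)
    have hJm : J.IsMaximal := hJp.isMaximal_of_ne_bot hJ0
    rw [IsLocalRing.eq_maximalIdeal hJm]

include ht in
theorem henselian : HenselianLocalRing R := by
  have h1 : HenselianRing R (Ideal.span {t}) := IsAdicComplete.henselianRing R _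
  have h2 : HenselianRing R (maximalIdeal R) := by
    rw [← Groth.Agent.H1.henselianRing_iff_of_radical_eq (Ideal.span {t}) (maximalIdeal R)]
    · exact h1
    · rw [radical_span_t R t ht, Ideal.radical_eq_iff.2]
      exact Ideal.IsPrime.isRadical inferInstance
  exact Groth.Agent.H1.henselianLocalRing_of_henselianRing_maximalIdeal R

end hens

section key

variable {R : Type u} [CommRing R] [IsDomain R] [ValuationRing R] [HenselianLocalRing R]

/-- existence of a coefficient dividing all others, with minimal index -/
theorem exists_min_dvd (r : ℕ → R) (n : ℕ) :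
    ∃ j ≤ n, (∀ i ≤ n, r j ∣ r i) ∧ ∀ i < j, ¬ (∀ i' ≤ n, r i ∣ r i') := by
  classical
  have hex : ∃ j, j ≤ n ∧ ∀ i ≤ n, r j ∣ r i := by
    induction n with
    | zero => exact ⟨0, le_rfl, fun i hi => by rw [Nat.le_zero.1 hi]⟩
    | succ n ih =>
      obtain ⟨j, hj, hdiv⟩ := ih
      rcases ValuationRing.dvd_total (r j) (r (n + 1)) with h | h
      · refine ⟨j, by omega, ?_⟩
        intro i hi
        rcases Nat.lt_or_ge i (n + 1) with h' | h'
        · exact hdiv i (by omega)
        · have : i = n + 1 := by omega
          rw [this]; exact h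
      · refine ⟨n + 1, le_rfl, ?_⟩
        intro i hi
        rcases Nat.lt_or_ge i (n + 1) with h' | h'
        · exact h.trans (hdiv i (by omega))
        · have : i = n + 1 := by omega
          rw [this]
  refine ⟨Nat.find hex, (Nat.find_spec hex).1, (Nat.find_spec hex).2, ?_⟩
  intro i hi hcon
  have hin : i ≤ n := (Nat.le_of_lt hi).trans (Nat.find_spec hex).1
  exact Nat.find_min hex hi ⟨hin, hcon⟩

/-- Key lemma: a primitive-type polynomial over a henselian valuation domain with "interior"
dominant coefficient is reducible over the fraction field. -/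
theorem not_irreducible_of_interior {K : Type u} [Field K] [Algebra R K] [IsFractionRing R K]
    (g : R[X]) (n j : ℕ) (hn : g.natDegree = n) (hj0 : 0 < j) (hjn : j < n)
    (hcj : g.coeff j = 1) (hlow : ∀ i < j, g.coeff i ∈ maximalIdeal R)
    (htop : g.coeff n ∈ maximalIdeal R) (f : K[X]) (hf : Irreducible f) (c : K) (hc : c ≠ 0)
    (hgf : g.map (algebraMap R K) = C c * f) : False := by
  classical
  -- reduction of g
  set gbar := g.map (residue R) with hgbar
  have hX : (X : (ResidueField R)[X]) ^ j ∣ gbar := by
    rw [X_pow_dvd_iff]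
    intro d hd
    rw [hgbar, coeff_map]
    exact (residue_eq_zero_iff _).2 (hlow d hd)
  obtain ⟨h₀, hh₀⟩ := hX
  have hh00 : h₀.coeff 0 = 1 := by
    have := congrArg (fun q => q.coeff j) hh₀
    simp only [hgbar, coeff_map, hcj, map_one] at this
    have h2 : (X ^ j * h₀).coeff (0 + j) = h₀.coeff 0 := coeff_X_pow_mul h₀ j 0
    rw [zero_add] at h2
    rw [h2] at this
    exact this.symm
  have hcop : IsCoprime ((X : (ResidueField R)[X]) ^ j) h₀ := by
    apply IsCoprime.pow_left
    -- h₀ = C 1 + X * r
    obtain ⟨q, hq⟩ := X_dvd_sub_C (p := h₀)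
    rw [hh00, map_one] at hq
    refine ⟨-q, 1, ?_⟩
    rw [one_mul]
    have : h₀ = 1 + X * q := by rw [← hq]; ring
    rw [this]; ring
  obtain ⟨G, H, hGH, hGm, hGmap, hHmap⟩ :=
    Groth.Agent.H8.HenselFactor.exists_factorization g (X ^ j) h₀ (monic_X_pow j) hcop hh₀
  have hGdeg : G.natDegree = j := by
    have := hGm.natDegree_map (residue R)
    rw [hGmap, natDegree_X_pow] at this
    exact this.symm
  -- over K
  have hinj : Function.Injective (algebraMap R K) := IsFractionRing.injective R K
  set GK := G.map (algebraMap R K) with hGK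
  set HK := H.map (algebraMap R K) with hHK
  have hGKm : GK.Monic := hGm.map _
  have hGKdeg : GK.natDegree = j := by rw [hGK, hGm.natDegree_map, hGdeg]
  have hfeq : f = GK * (C c⁻¹ * HK) := by
    have h1 : C c * f = GK * HK := by rw [← hgf, hGH, Polynomial.map_mul]
    calc f = C c⁻¹ * (C c * f) := by
          rw [← mul_assoc, ← C_mul, inv_mul_cancel₀ hc, map_one, one_mul]
      _ = _ := by rw [h1]; ring
  have hfdeg : f.natDegree = n := by
    have h1 : (g.map (algebraMap R K)).natDegree = n := by
      rw [natDegree_map_eq_of_injective hinj, hn]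
    rw [hgf, natDegree_C_mul hc] at h1
    exact h1
  rcases hf.isUnit_or_isUnit hfeq with hu | hu
  · have := natDegree_eq_zero_of_isUnit hu
    omega
  · have h0 := natDegree_eq_zero_of_isUnit hu
    have hne : C c⁻¹ * HK ≠ 0 := hu.ne_zero
    have := congrArg natDegree hfeq
    rw [natDegree_mul hGKm.ne_zero hne, h0, hfdeg, hGKdeg] at this
    omega

/-- Lemma A: monic irreducible over `K` with integral constant coefficient has all coefficients
integral. -/
theorem coeff_mem_of_irreducible {K : Type u} [Field K] [Algebra R K] [IsFractionRing R K]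
    (f : K[X]) (hfm : f.Monic) (hf : Irreducible f)
    (h0 : f.coeff 0 ∈ (algebraMap R K).range) (i : ℕ) : f.coeff i ∈ (algebraMap R K).range := by
  classical
  have hinj : Function.Injective (algebraMap R K) := IsFractionRing.injective R K
  obtain ⟨s, hs, hps⟩ := IsLocalization.integerNormalization_spec (nonZeroDivisors R) f
  set p := IsLocalization.integerNormalization (nonZeroDivisors R) f with hp
  have hs0 : s ≠ 0 := nonZeroDivisors.ne_zero hs
  have hsK : algebraMap R K s ≠ 0 := fun h => hs0 (hinj (h.trans (map_zero _).symm))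
  set n := f.natDegree with hn
  have hcoeff : ∀ i, algebraMap R K (p.coeff i) = algebraMap R K s * f.coeff i := by
    intro i
    have := congrArg (fun q => q.coeff i) hps
    simpa [coeff_map, coeff_smul, Algebra.smul_def] using this
  have hpn : p.coeff n = s := by
    apply hinj
    rw [hcoeff, hn, hfm.coeff_natDegree, mul_one]
  have hpdeg : p.natDegree = n := by
    have : (p.map (algebraMap R K)).natDegree = n := by
      rw [hps, Algebra.smul_def, Polynomial.algebraMap_apply]
      rw [natDegree_C_mul hsK]
    rwa [natDegree_map_eq_of_injective hinj] at this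
  -- the dominant coefficient
  obtain ⟨j, hjn, hjdiv, hjmin⟩ := exists_min_dvd (fun i => p.coeff i) n
  -- it suffices: s ∣ p.coeff j
  suffices hsj : s ∣ p.coeff j by
    have hi : s ∣ p.coeff i := by
      rcases Nat.lt_or_ge n i with h | h
      · rw [coeff_eq_zero_of_natDegree_lt (by rw [hpdeg]; exact h)]
        exact dvd_zero _
      · exact hsj.trans (hjdiv i h)
    obtain ⟨q, hq⟩ := hi
    refine ⟨q, ?_⟩
    have := hcoeff i
    rw [hq, map_mul] at this
    exact mul_left_cancel₀ hsK this
  by_contra hsj
  have hrj0 : p.coeff j ≠ 0 := by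
    intro h0'
    have := hjdiv n le_rfl
    rw [h0', hpn, zero_dvd_iff] at this
    exact hs0 this
  -- quotients
  have hq : ∀ i, ∃ q, i ≤ n → p.coeff i = p.coeff j * q := by
    intro i
    by_cases hi : i ≤ n
    · obtain ⟨q, hq⟩ := hjdiv i hi
      exact ⟨q, fun _ => hq⟩
    · exact ⟨0, fun h => absurd h hi⟩
  choose q hq using hq
  set g : R[X] := ∑ i ∈ Finset.range (n + 1), monomial i (q i) with hg
  have hgcoeff : ∀ i, i ≤ n → g.coeff i = q i := by
    intro i hi
    rw [hg, finsetSum_coeff]
    simp only [coeff_monomial]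
    rw [Finset.sum_ite_eq' (Finset.range (n + 1)) i]
    simp [Finset.mem_range, hi]
  have hgcoeff' : ∀ i, n < i → g.coeff i = 0 := by
    intro i hi
    rw [hg, finsetSum_coeff]
    apply Finset.sum_eq_zero
    intro x hx
    rw [coeff_monomial, if_neg]
    have := Finset.mem_range.1 hx
    omega
  have hpg : p = C (p.coeff j) * g := by
    ext i
    rw [coeff_C_mul]
    rcases Nat.lt_or_ge n i with h | h
    · rw [hgcoeff' i h, mul_zero, coeff_eq_zero_of_natDegree_lt (by rw [hpdeg]; exact h)]
    · rw [hgcoeff i h, hq i h]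
  have hqj : q j = 1 := by
    have := hq j hjn
    have h2 : p.coeff j * 1 = p.coeff j * q j := by rw [mul_one]; exact this
    exact (mul_left_cancel₀ hrj0 h2).symm
  have hqn : q n ∈ maximalIdeal R := by
    rw [mem_maximalIdeal, mem_nonunits_iff]
    intro hu
    apply hsj
    have := hq n le_rfl
    rw [hpn] at this
    obtain ⟨u, hu'⟩ := hu
    refine ⟨(↑u⁻¹ : R), ?_⟩
    rw [this, ← hu', mul_assoc, Units.mul_inv, mul_one]
  have hj0 : j ≠ 0 := by
    rintro rfl
    apply hsj
    -- s ∣ p.coeff 0 as f.coeff 0 integral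
    obtain ⟨a, ha⟩ := h0
    refine ⟨a, ?_⟩
    apply hinj
    rw [hcoeff, map_mul, ha]
  have hjn' : j ≠ n := by
    rintro rfl
    apply hsj
    rw [hpn]
  have hlow : ∀ i < j, g.coeff i ∈ maximalIdeal R := by
    intro i hi
    have hin : i ≤ n := by omega
    rw [hgcoeff i hin, mem_maximalIdeal, mem_nonunits_iff]
    intro hu
    apply hjmin i hi
    intro i' hi'
    obtain ⟨u, hu'⟩ := hu
    have h1 := hq i hin
    have : p.coeff j = p.coeff i * (↑u⁻¹ : R) := by
      rw [h1, ← hu', mul_assoc, Units.mul_inv, mul_one]
    exact (Dvd.intro _ this.symm).trans (hjdiv i' hi')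
  have hgdeg : g.natDegree = n := by
    have hqn0 : q n ≠ 0 := by
      intro h0'
      have := hq n le_rfl
      rw [h0', mul_zero, hpn] at this
      exact hs0 this
    apply le_antisymm
    · rw [natDegree_le_iff_coeff_eq_zero]
      intro N hN
      exact hgcoeff' N hN
    · apply le_natDegree_of_ne_zero
      rw [hgcoeff n le_rfl]
      exact hqn0
  have hrjK : algebraMap R K (p.coeff j) ≠ 0 := fun h => hrj0 (hinj (h.trans (map_zero _).symm))
  have hgf : g.map (algebraMap R K) = C (algebraMap R K s / algebraMap R K (p.coeff j)) * f := by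
    have h1 : C (algebraMap R K (p.coeff j)) * g.map (algebraMap R K) =
        C (algebraMap R K s) * f := by
      have := hps
      rw [hpg, Polynomial.map_mul, map_C, Algebra.smul_def, Polynomial.algebraMap_apply] at this
      simpa using this
    have h2 : g.map (algebraMap R K) =
        C (algebraMap R K (p.coeff j))⁻¹ * (C (algebraMap R K (p.coeff j)) * g.map (algebraMap R K)) := by
      rw [← mul_assoc, ← C_mul, inv_mul_cancel₀ hrjK, map_one, one_mul]
    rw [h2, h1, ← mul_assoc, ← C_mul]
    congr 2
    rw [div_eq_mul_inv, mul_comm]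
  exact not_irreducible_of_interior g n j hgdeg (Nat.pos_of_ne_zero hj0)
    (lt_of_le_of_ne hjn hjn') (by rw [hgcoeff j hjn, hqj]) hlow
    (by rw [hgcoeff n le_rfl]; exact hqn) f hf _ (div_ne_zero hsK hrjK) hgf

end key

end Groth.Agent.H9.HVN
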