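import Mathlib
import Groth.Agent.Lib.Helper9.Misc.HVN1

set_option autoImplicit false
set_option linter.style.haveILetI false
set_option linter.unusedSectionVars false
set_option linter.unusedVariables false

namespace Groth.Agent.H9.HVN

open Polynomial IsLocalRing

universe u

theorem main
    (R : Type u) [CommRing R] [IsDomain R] [ValuationRing R] [Ring.KrullDimLE 1 R]
    (t : R) (ht : t ≠ 0) [IsAdicComplete (Ideal.span {t}) R]
    (L : Type u) [Field L] [Algebra R L] [Algebra (FractionRing R) L]
    [IsScalarTower R (FractionRing R) L] [Algebra.IsAlgebraic (FractionRing R) L] (α : L) :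
    IsIntegral R α ↔
      Algebra.norm (FractionRing R) (IntermediateField.AdjoinSimple.gen (FractionRing R) α) ∈
        (algebraMap R (FractionRing R)).range := by
  haveI : HenselianLocalRing R := henselian R t ht
  set K := FractionRing R with hK
  have hα : IsIntegral K α := (Algebra.IsAlgebraic.isAlgebraic α).isIntegral
  set pb := IntermediateField.adjoin.powerBasis hα with hpb
  have hnorm : Algebra.norm K (IntermediateField.AdjoinSimple.gen K α) =
      (-1) ^ pb.dim * (minpoly K α).coeff 0 := by
    have := Algebra.PowerBasis.norm_gen_eq_coeff_zero_minpoly pb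
    rw [IntermediateField.adjoin.powerBasis_gen, IntermediateField.minpoly_gen] at this
    exact this
  constructor
  · intro hint
    have hmin : minpoly K α = (minpoly R α).map (algebraMap R K) :=
      minpoly.isIntegrallyClosed_eq_field_fractions' K hint
    rw [hnorm, hmin, coeff_map]
    refine ⟨(-1) ^ pb.dim * (minpoly R α).coeff 0, ?_⟩
    rw [map_mul, map_pow, map_neg, map_one]
  · intro hmem
    have h0 : (minpoly K α).coeff 0 ∈ (algebraMap R K).range := by
      obtain ⟨a, ha⟩ := hmem
      rw [hnorm] at ha
      refine ⟨(-1) ^ pb.dim * a, ?_⟩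
      rw [map_mul, ha, ← mul_assoc]
      have : (algebraMap R K) ((-1) ^ pb.dim) * (-1) ^ pb.dim = 1 := by
        rw [map_pow, map_neg, map_one, ← pow_add, ← two_mul, pow_mul]
        simp
      rw [this, one_mul]
    have hall := coeff_mem_of_irreducible (R := R) (minpoly K α) (minpoly.monic hα)
      (minpoly.irreducible hα) h0
    have hlift : minpoly K α ∈ lifts (algebraMap R K) := by
      rw [lifts_iff_coeff_lifts]
      intro i
      exact hall i
    obtain ⟨q, hq, -, hqm⟩ := lifts_and_natDegree_eq_and_monic hlift (minpoly.monic hα)
    refine ⟨q, hqm, ?_⟩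
    have : aeval α q = 0 := by
      rw [← aeval_map_algebraMap K, hq, minpoly.aeval]
    rwa [aeval_def] at this

end Groth.Agent.H9.HVN
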