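import Mathlib

set_option autoImplicit false
set_option linter.style.haveILetI false
set_option linter.unusedSectionVars false
set_option linter.unusedVariables false

namespace Groth.Agent.H9.HYP

universe u

section Gen
variable {ι : Type*} [Fintype ι] [DecidableEq ι]

/-- The form `Σ_i (z_{l,i} z_{r,i}^m - z_{r,i} z_{l,i}^m)`. -/
def Q {T : Type*} [CommRing T] (m : ℕ) (z : ι ⊕ ι → T) : T :=
  ∑ i : ι, (z (Sum.inl i) * z (Sum.inr i) ^ m - z (Sum.inr i) * z (Sum.inl i) ^ m)

/-- The rational point of tangency. -/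
def Pt {k : Type*} [Field k] (c : ι ⊕ ι → k) : ι ⊕ ι → k :=
  Sum.elim (fun i => - c (Sum.inr i)) (fun i => c (Sum.inl i))

lemma add_pow_succ_of_sq_zero {B : Type*} [CommRing B] (a m : B) (hm : m * m = 0) (N : ℕ) :
    (a + m) ^ (N + 1) = a ^ (N + 1) + (N + 1 : ℕ) * a ^ N * m := by
  induction N with
  | zero => simp
  | succ N ih =>
    rw [pow_succ, ih]
    push_cast
    have : (a ^ (N + 1) + (↑N + 1) * a ^ N * m) * (a + m) =
        a ^ (N + 1 + 1) + (↑N + 1 + 1) * a ^ (N + 1) * m + (↑N + 1) * a ^ N * (m * m) := by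
      ring
    rw [this, hm, mul_zero, add_zero]

lemma mul_add_pow_of_mul_zero {B : Type*} [CommRing B] (m a τ d : B) (hm : m * τ = 0) (N : ℕ) :
    m * (a + τ * d) ^ N = m * a ^ N := by
  induction N with
  | zero => simp
  | succ N ih =>
    rw [pow_succ, ← mul_assoc, ih, pow_succ]
    have : m * a ^ N * (a + τ * d) = m * (a ^ N * a) + a ^ N * d * (m * τ) := by ring
    rw [this, hm, mul_zero, add_zero]

variable {k : Type u} [Field k] [Fintype k]

theorem Q_add_of_sq_zero {B : Type*} [CommRing B] [Algebra k B] (c : ι ⊕ ι → k)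
    (τ : B) (δ nn : ι ⊕ ι → B)
    (hnn : ∀ v w, nn v * nn w = 0) (hnτ : ∀ v, nn v * τ = 0) :
    Q (Fintype.card k) (fun v => algebraMap k B (Pt c v) + τ * δ v + nn v) =
      Q (Fintype.card k) (fun v => algebraMap k B (Pt c v) + τ * δ v) +
        ∑ v, algebraMap k B (c v) * nn v := by
  classical
  have hq0 : ((Fintype.card k : ℕ) : B) = 0 := by
    have : ((Fintype.card k : ℕ) : B) = algebraMap k B ((Fintype.card k : ℕ) : k) :=
      (map_natCast (algebraMap k B) _).symm
    have h0 : ((Fintype.card k : ℕ) : k) = 0 := FiniteField.cast_card_eq_zero k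
    rw [this, h0, map_zero]
  obtain ⟨N, hN⟩ : ∃ N, Fintype.card k = N + 1 :=
    Nat.exists_eq_succ_of_ne_zero Fintype.card_ne_zero
  have hpow : ∀ (a m : B), m * m = 0 → (a + m) ^ (Fintype.card k) = a ^ (Fintype.card k) := by
    intro a m hm
    have := add_pow_succ_of_sq_zero a m hm N
    rw [← hN] at this
    rw [this, hq0, zero_mul, zero_mul, add_zero]
  have hmul : ∀ (m : B) (v : ι ⊕ ι), m * τ = 0 →
      m * (algebraMap k B (Pt c v) + τ * δ v) ^ (Fintype.card k) =
        m * algebraMap k B (Pt c v) := by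
    intro m v hm
    rw [mul_add_pow_of_mul_zero m _ τ _ hm, ← map_pow, FiniteField.pow_card]
  unfold Q
  rw [Fintype.sum_sum_type, ← Finset.sum_add_distrib, ← Finset.sum_add_distrib]
  refine Finset.sum_congr rfl fun i _ => ?_
  beta_reduce
  rw [hpow _ _ (hnn _ _), hpow _ _ (hnn _ _)]
  have p1 : Pt c (Sum.inr i) = c (Sum.inl i) := rfl
  have p2 : Pt c (Sum.inl i) = - c (Sum.inr i) := rfl
  have e1 : nn (Sum.inl i) * (algebraMap k B (Pt c (Sum.inr i)) + τ * δ (Sum.inr i)) ^
      (Fintype.card k) = nn (Sum.inl i) * algebraMap k B (c (Sum.inl i)) := by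
    rw [hmul (nn (Sum.inl i)) (Sum.inr i) (hnτ _), p1]
  have e2 : nn (Sum.inr i) * (algebraMap k B (Pt c (Sum.inl i)) + τ * δ (Sum.inl i)) ^
      (Fintype.card k) = - (nn (Sum.inr i) * algebraMap k B (c (Sum.inr i))) := by
    rw [hmul (nn (Sum.inr i)) (Sum.inl i) (hnτ _), p2, map_neg, mul_neg]
  generalize algebraMap k B (Pt c (Sum.inl i)) + τ * δ (Sum.inl i) = zl at e1 e2 ⊢
  generalize algebraMap k B (Pt c (Sum.inr i)) + τ * δ (Sum.inr i) = zr at e1 e2 ⊢
  linear_combination e1 - e2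

theorem Q_eval {T : Type*} [CommRing T] [Algebra k T] (p e : ℕ) [Fact p.Prime] [CharP T p]
    (hq : Fintype.card k = p ^ e)
    (c : ι ⊕ ι → k) (τ : T) (δ : ι ⊕ ι → T) (hΛ : ∑ v, algebraMap k T (c v) * δ v = 0) :
    Q (Fintype.card k) (fun v => algebraMap k T (Pt c v) + τ * δ v) =
      τ ^ (Fintype.card k + 1) *
        ∑ i, (δ (Sum.inl i) * δ (Sum.inr i) ^ (Fintype.card k)
          - δ (Sum.inr i) * δ (Sum.inl i) ^ (Fintype.card k)) := by
  classical
  have hfrob : ∀ v, (algebraMap k T (Pt c v) + τ * δ v) ^ (Fintype.card k) =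
      algebraMap k T (Pt c v) + τ ^ (Fintype.card k) * δ v ^ (Fintype.card k) := by
    intro v
    conv_lhs => rw [hq]
    rw [add_pow_char_pow, ← hq, ← map_pow, FiniteField.pow_card, mul_pow]
  have hΛq : ∑ v, algebraMap k T (c v) * δ v ^ (Fintype.card k) = 0 := by
    have := congrArg (· ^ (Fintype.card k)) hΛ
    beta_reduce at this
    rw [zero_pow Fintype.card_ne_zero] at this
    conv_lhs at this => rw [hq]
    rw [sum_pow_char_pow, ← hq] at this
    rw [← this]
    refine Finset.sum_congr rfl fun v _ => ?_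
    rw [mul_pow, ← map_pow, FiniteField.pow_card]
  rw [Fintype.sum_sum_type] at hΛ hΛq
  unfold Q
  simp only [hfrob]
  have p1 : ∀ i, Pt c (Sum.inr i) = c (Sum.inl i) := fun i => rfl
  have p2 : ∀ i, Pt c (Sum.inl i) = - c (Sum.inr i) := fun i => rfl
  simp only [p1, p2, map_neg]
  have key : ∀ i : ι,
      ((-algebraMap k T (c (Sum.inr i)) + τ * δ (Sum.inl i)) *
        (algebraMap k T (c (Sum.inl i)) + τ ^ (Fintype.card k) * δ (Sum.inr i) ^ (Fintype.card k))
      - (algebraMap k T (c (Sum.inl i)) + τ * δ (Sum.inr i)) *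
        (-algebraMap k T (c (Sum.inr i)) + τ ^ (Fintype.card k) * δ (Sum.inl i) ^ (Fintype.card k)))
      = τ * (algebraMap k T (c (Sum.inl i)) * δ (Sum.inl i)
            + algebraMap k T (c (Sum.inr i)) * δ (Sum.inr i))
        - τ ^ (Fintype.card k) * (algebraMap k T (c (Sum.inl i)) * δ (Sum.inl i) ^ (Fintype.card k)
            + algebraMap k T (c (Sum.inr i)) * δ (Sum.inr i) ^ (Fintype.card k))
        + τ ^ (Fintype.card k + 1) * (δ (Sum.inl i) * δ (Sum.inr i) ^ (Fintype.card k)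
          - δ (Sum.inr i) * δ (Sum.inl i) ^ (Fintype.card k)) := by
    intro i
    ring
  simp only [key]
  rw [Finset.sum_add_distrib, Finset.sum_sub_distrib, ← Finset.mul_sum, ← Finset.mul_sum,
    ← Finset.mul_sum, Finset.sum_add_distrib, Finset.sum_add_distrib, hΛ, hΛq]
  ring

end Gen

end Groth.Agent.H9.HYP
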