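import Mathlib
import Groth.Agent.Lib.Helper9.Misc.HYP1

set_option autoImplicit false
set_option linter.style.haveILetI false
set_option linter.unusedSectionVars false
set_option linter.unusedVariables false

namespace Groth.Agent.H9.HYP

universe u

open Polynomial

section Dir
variable {ι : Type*} [Fintype ι] [DecidableEq ι] {k : Type u} [Field k]
variable (c : ι ⊕ ι → k) (v₀ : ι ⊕ ι) (i₁ : ι)

noncomputable def ell : k[X] := C (c (Sum.inl i₁) / c v₀) + C (c (Sum.inr i₁) / c v₀) * X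

noncomputable def dir : ι ⊕ ι → k[X] := fun v =>
  (if v = Sum.inl i₁ then 1 else 0) + (if v = Sum.inr i₁ then X else 0)
    - (if v = v₀ then ell c v₀ i₁ else 0)

lemma dir_sum (hv₀ : c v₀ ≠ 0) : ∑ v, C (c v) * dir c v₀ i₁ v = 0 := by
  unfold dir
  simp only [mul_sub, mul_add, mul_ite, mul_one, mul_zero, Finset.sum_sub_distrib,
    Finset.sum_add_distrib, Finset.sum_ite_eq', Finset.mem_univ, if_true]
  unfold ell
  rw [mul_add, ← mul_assoc, ← C_mul, ← C_mul, mul_div_cancel₀ _ hv₀, mul_div_cancel₀ _ hv₀]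
  ring

lemma dir_form (h1 : v₀ ≠ Sum.inl i₁) (h2 : v₀ ≠ Sum.inr i₁) (m : ℕ) (hm : m ≠ 0) :
    ∑ i, (dir c v₀ i₁ (Sum.inl i) * dir c v₀ i₁ (Sum.inr i) ^ m
      - dir c v₀ i₁ (Sum.inr i) * dir c v₀ i₁ (Sum.inl i) ^ m) = X ^ m - X := by
  rw [Finset.sum_eq_single i₁]
  · have e1 : dir c v₀ i₁ (Sum.inl i₁) = 1 := by
      unfold dir; simp [h1.symm]
    have e2 : dir c v₀ i₁ (Sum.inr i₁) = X := by
      unfold dir; simp [h2.symm]
    rw [e1, e2]; simp
  · intro i _ hi
    have e1 : dir c v₀ i₁ (Sum.inl i) = - (if Sum.inl i = v₀ then ell c v₀ i₁ else 0) := by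
      unfold dir; simp [hi]
    have e2 : dir c v₀ i₁ (Sum.inr i) = - (if Sum.inr i = v₀ then ell c v₀ i₁ else 0) := by
      unfold dir; simp [hi]
    by_cases hl : Sum.inl i = v₀
    · have hr : Sum.inr i ≠ v₀ := by rw [← hl]; simp
      rw [e2, if_neg hr]; simp [hm]
    · rw [e1, if_neg hl]; simp [hm]
  · intro h; exact absurd (Finset.mem_univ _) h

end Dir

section Eval
variable {ι : Type*} [Fintype ι] [DecidableEq ι] {k : Type u} [Field k]

lemma aeval_F {T : Type*} [CommRing T] [Algebra k T] (m : ℕ) (z : ι ⊕ ι → T) :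
    MvPolynomial.aeval z (∑ i : ι, (MvPolynomial.X (Sum.inl i) * MvPolynomial.X (Sum.inr i) ^ m -
      MvPolynomial.X (Sum.inr i) * MvPolynomial.X (Sum.inl i) ^ m) : MvPolynomial (ι ⊕ ι) k)
      = Q m z := by
  simp [Q]

lemma aeval_L {T : Type*} [CommRing T] [Algebra k T] (c : ι ⊕ ι → k) (z : ι ⊕ ι → T) :
    MvPolynomial.aeval z (∑ v, MvPolynomial.C (c v) * MvPolynomial.X v : MvPolynomial (ι ⊕ ι) k)
      = ∑ v, algebraMap k T (c v) * z v := by
  simp

lemma sum_c_Pt (c : ι ⊕ ι → k) : ∑ v, c v * Pt c v = 0 := by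
  rw [Fintype.sum_sum_type, ← Finset.sum_add_distrib]
  refine Finset.sum_eq_zero fun i _ => ?_
  simp only [Pt, Sum.elim_inl, Sum.elim_inr]
  ring

end Eval

section Ring
variable (k : Type u) [Field k] [Fintype k]

abbrev SS := Polynomial (Polynomial k)

noncomputable def JJ : Ideal (SS k) := Ideal.span {(X : SS k) ^ (Fintype.card k + 2)}

abbrev BB := SS k ⧸ JJ k

noncomputable instance instCommRingBB : CommRing (BB k) := Ideal.Quotient.commRing (JJ k)

noncomputable instance instAlgebraBB : Algebra k (BB k) := Ideal.instAlgebraQuotient k (JJ k)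

lemma mk_ne_zero : Ideal.Quotient.mk (JJ k)
    (X ^ (Fintype.card k + 1) * C (X ^ (Fintype.card k) - X)) ≠ 0 := by
  rw [Ne, Ideal.Quotient.eq_zero_iff_mem, JJ, Ideal.mem_span_singleton, Polynomial.X_pow_dvd_iff]
  intro h
  have h1 := h (Fintype.card k + 1) (by omega)
  rw [Polynomial.coeff_X_pow_mul', if_pos le_rfl, Nat.sub_self, coeff_C_zero] at h1
  have h2 := congrArg (fun p => Polynomial.coeff p (Fintype.card k)) h1
  have hq : 1 < Fintype.card k := Fintype.one_lt_card
  simp only [coeff_sub, coeff_X_pow, if_true, coeff_X, coeff_zero] at h2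
  rw [if_neg (by omega)] at h2
  simp at h2

end Ring

end Groth.Agent.H9.HYP
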