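import Mathlib
import Groth.Agent.Lib.Helper9.Misc.HYP1
import Groth.Agent.Lib.Helper9.Misc.HYP2

set_option autoImplicit false
set_option linter.style.haveILetI false
set_option linter.unusedSectionVars false
set_option linter.unusedVariables false

namespace Groth.Agent.H9.HYP

universe u

open Polynomial

section Main
variable (k : Type u) [Field k] [Fintype k]

theorem exists_not_formallySmooth (n : ℕ) (hn : 1 ≤ n)
    (F L : MvPolynomial (Fin (n + 1) ⊕ Fin (n + 1)) k)
    (hF : F = ∑ i : Fin (n + 1), (MvPolynomial.X (Sum.inl i) *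
      MvPolynomial.X (Sum.inr i) ^ Fintype.card k -
      MvPolynomial.X (Sum.inr i) * MvPolynomial.X (Sum.inl i) ^ Fintype.card k))
    (c : Fin (n + 1) ⊕ Fin (n + 1) → k) (hc : c ≠ 0)
    (hL : L = ∑ v, MvPolynomial.C (c v) * MvPolynomial.X v) :
    ∃ w, ¬ Algebra.FormallySmooth k
      (Localization.Away (Ideal.Quotient.mk (Ideal.span {F, L}) (MvPolynomial.X w))) := by
  classical
  obtain ⟨m, rfl⟩ : ∃ m, n = m + 1 := ⟨n - 1, by omega⟩
  obtain ⟨v₀, hv₀⟩ : ∃ v, c v ≠ 0 := by
    by_contra h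
    push Not at h
    exact hc (funext h)
  obtain ⟨w, hw⟩ : ∃ w, Pt c w ≠ 0 := by
    rcases v₀ with i | i
    · exact ⟨Sum.inr i, hv₀⟩
    · exact ⟨Sum.inl i, neg_ne_zero.mpr hv₀⟩
  obtain ⟨i₁, h1, h2⟩ : ∃ i₁, v₀ ≠ Sum.inl i₁ ∧ v₀ ≠ Sum.inr i₁ := by
    rcases v₀ with i | i
    · obtain ⟨j, hj⟩ := exists_ne i
      exact ⟨j, by simpa using hj.symm, by simp⟩
    · obtain ⟨j, hj⟩ := exists_ne i
      exact ⟨j, by simp, by simpa using hj.symm⟩
  refine ⟨w, fun hsm => ?_⟩
  set q := Fintype.card k with hq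
  have hq0 : q ≠ 0 := Fintype.card_ne_zero
  -- characteristic
  let p := ringChar k
  haveI : CharP k p := ringChar.charP k
  haveI : Fact p.Prime := ⟨CharP.char_is_prime k p⟩
  obtain ⟨e, -, hqe⟩ := FiniteField.card k p
  haveI : CharP (SS k) p := inferInstance
  -- S-level data
  let τ : SS k := X
  let δ : Fin (m + 1 + 1) ⊕ Fin (m + 1 + 1) → SS k := fun v => C (dir c v₀ i₁ v)
  let zS : Fin (m + 1 + 1) ⊕ Fin (m + 1 + 1) → SS k :=
    fun v => algebraMap k (SS k) (Pt c v) + τ * δ v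
  have halg : ∀ a : k, algebraMap k (SS k) a = C (C a) := fun a => rfl
  have hΛ : ∑ v, algebraMap k (SS k) (c v) * δ v = 0 := by
    have := congrArg (C : k[X] → SS k) (dir_sum c v₀ i₁ hv₀)
    rw [map_sum, map_zero] at this
    rw [← this]
    refine Finset.sum_congr rfl fun v _ => ?_
    rw [map_mul, halg]
  have hQS : Q q zS = τ ^ (q + 1) * C (X ^ q - X) := by
    rw [hq, Q_eval p e hqe c τ δ hΛ, ← hq]
    congr 1
    rw [← dir_form c v₀ i₁ h1 h2 q hq0, map_sum]
    refine Finset.sum_congr rfl fun i _ => ?_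
    simp [δ]
  have hLS : ∑ v, algebraMap k (SS k) (c v) * zS v = 0 := by
    simp only [zS, mul_add]
    rw [Finset.sum_add_distrib]
    have e1 : ∑ v, algebraMap k (SS k) (c v) * algebraMap k (SS k) (Pt c v) = 0 := by
      have := congrArg (algebraMap k (SS k)) (sum_c_Pt c)
      rw [map_sum, map_zero] at this
      rw [← this]
      refine Finset.sum_congr rfl fun v _ => ?_
      rw [map_mul]
    have e2 : ∑ v, algebraMap k (SS k) (c v) * (τ * δ v) = 0 := by
      have : ∀ v, algebraMap k (SS k) (c v) * (τ * δ v) =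
          τ * (algebraMap k (SS k) (c v) * δ v) := fun v => by ring
      simp only [this]
      rw [← Finset.mul_sum, hΛ, mul_zero]
    rw [e1, e2, add_zero]
  -- B-level
  let mkB : SS k →ₐ[k] BB k := Ideal.Quotient.mkₐ k (JJ k)
  let zB : Fin (m + 1 + 1) ⊕ Fin (m + 1 + 1) → BB k := fun v => mkB (zS v)
  let G : MvPolynomial (Fin (m + 1 + 1) ⊕ Fin (m + 1 + 1)) k →ₐ[k] BB k := MvPolynomial.aeval zB
  let τB : BB k := mkB τ
  have hτB : τB ^ (q + 2) = 0 := by
    change mkB τ ^ (q + 2) = 0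
    rw [← map_pow]
    change Ideal.Quotient.mk (JJ k) (X ^ (q + 2)) = 0
    rw [Ideal.Quotient.eq_zero_iff_mem, JJ]
    exact Ideal.subset_span rfl
  have hQB : Q q zB = mkB (Q q zS) := by
    simp only [Q, zB, map_sum, map_sub, map_mul, map_pow]
  have hG_F : G F = τB ^ (q + 1) * mkB (C (X ^ q - X)) := by
    rw [hF]
    have e0 : MvPolynomial.aeval zB _ = Q q zB := aeval_F (k := k) q zB
    refine e0.trans ?_
    rw [hQB, hQS, map_mul, map_pow]
  have hLB : (∑ v, algebraMap k (BB k) (c v) * zB v : BB k) = 0 := by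
    have := congrArg mkB hLS
    rw [map_sum, map_zero] at this
    rw [← this]
    refine Finset.sum_congr rfl fun v _ => ?_
    rw [map_mul, AlgHom.commutes]
  have hG_L : G L = 0 := by
    rw [hL]
    have e0 : MvPolynomial.aeval zB _ = _ := aeval_L c zB
    exact e0.trans hLB
  have hGF_ne : G F ≠ 0 := by
    rw [hG_F]
    have := mk_ne_zero k
    change mkB (X ^ (q + 1) * C (X ^ q - X)) ≠ 0 at this
    rwa [map_mul, map_pow] at this
  let I : Ideal (BB k) := Ideal.span {τB ^ (q + 1)}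
  have hI2 : I ^ 2 = ⊥ := by
    change Ideal.span {τB ^ (q + 1)} ^ 2 = ⊥
    rw [Ideal.span_singleton_pow, Ideal.span_singleton_eq_bot, ← pow_mul]
    have : (q + 1) * 2 = (q + 2) + q := by ring
    rw [this, pow_add, hτB, zero_mul]
  have hIτ : ∀ x ∈ I, x * τB = 0 := by
    intro x hx
    obtain ⟨y, rfl⟩ := Ideal.mem_span_singleton'.mp hx
    rw [mul_assoc, ← pow_succ, hτB, mul_zero]
  have hIsq : ∀ x ∈ I, ∀ y ∈ I, x * y = 0 := by
    intro x hx y hy
    have : x * y ∈ I ^ 2 := by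
      rw [pow_two]; exact Ideal.mul_mem_mul hx hy
    rw [hI2] at this
    exact this
  -- the map g₀
  set Rq := MvPolynomial (Fin (m + 1 + 1) ⊕ Fin (m + 1 + 1)) k ⧸ Ideal.span {F, L} with hRq
  have hker : ∀ a ∈ Ideal.span {F, L}, ((Ideal.Quotient.mkₐ k I).comp G) a = 0 := by
    intro a ha
    have hle : Ideal.span {F, L} ≤ RingHom.ker ((Ideal.Quotient.mkₐ k I).comp G).toRingHom := by
      rw [Ideal.span_le]
      rintro x (rfl | rfl)
      · change ((Ideal.Quotient.mkₐ k I).comp G) x = 0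
        rw [AlgHom.comp_apply, hG_F]
        change Ideal.Quotient.mk I _ = 0
        rw [Ideal.Quotient.eq_zero_iff_mem]
        exact Ideal.mul_mem_right _ _ (Ideal.subset_span rfl)
      · change ((Ideal.Quotient.mkₐ k I).comp G) x = 0
        rw [AlgHom.comp_apply, hG_L, map_zero]
    exact hle ha
  let g₀ : Rq →ₐ[k] (BB k ⧸ I) :=
    Ideal.Quotient.liftₐ (Ideal.span {F, L}) ((Ideal.Quotient.mkₐ k I).comp G) hker
  have hg₀ : ∀ P, g₀ (Ideal.Quotient.mk _ P) = Ideal.Quotient.mk I (G P) := fun P => rfl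
  have hunitB : IsUnit (zB w) := by
    change IsUnit (mkB (algebraMap k (SS k) (Pt c w) + τ * δ w))
    rw [map_add, AlgHom.commutes, map_mul]
    have hu : IsUnit (algebraMap k (BB k) (Pt c w)) := (IsUnit.mk0 _ hw).map _
    have hn : IsNilpotent (mkB τ * mkB (δ w)) := by
      refine ⟨q + 2, ?_⟩
      rw [mul_pow]
      change τB ^ (q + 2) * _ = 0
      rw [hτB, zero_mul]
    exact hn.isUnit_add_left_of_commute hu (Commute.all _ _)
  have hunit : IsUnit (g₀ (Ideal.Quotient.mk _ (MvPolynomial.X w))) := by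
    rw [hg₀]
    change IsUnit (Ideal.Quotient.mk I (MvPolynomial.aeval zB (MvPolynomial.X w)))
    rw [MvPolynomial.aeval_X]
    exact hunitB.map _
  let Rw := Localization.Away (Ideal.Quotient.mk (Ideal.span {F, L}) (MvPolynomial.X w))
  let g : Rw →ₐ[k] (BB k ⧸ I) :=
    IsLocalization.liftAlgHom
      (M := Submonoid.powers (Ideal.Quotient.mk (Ideal.span {F, L}) (MvPolynomial.X w)))
      (f := g₀) (by
        rintro ⟨_, ⟨j, rfl⟩⟩
        rw [map_pow]
        exact hunit.pow j)
  have hg : ∀ r : Rq, g (algebraMap Rq Rw r) = g₀ r := by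
    intro r
    change IsLocalization.lift _ (algebraMap Rq Rw r) = _
    rw [IsLocalization.lift_eq]
    rfl
  obtain ⟨f, hf⟩ := Algebra.FormallySmooth.exists_lift I ⟨2, hI2⟩ g
  let z' : Fin (m + 1 + 1) ⊕ Fin (m + 1 + 1) → BB k :=
    fun v => f (algebraMap Rq Rw (Ideal.Quotient.mk _ (MvPolynomial.X v)))
  have hz'I : ∀ v, z' v - zB v ∈ I := by
    intro v
    rw [← Ideal.Quotient.eq]
    have h3 := AlgHom.congr_fun hf (algebraMap Rq Rw (Ideal.Quotient.mk _ (MvPolynomial.X v)))
    rw [AlgHom.comp_apply, hg, hg₀] at h3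
    change Ideal.Quotient.mk I (z' v) = Ideal.Quotient.mk I (MvPolynomial.aeval zB _) at h3
    rw [MvPolynomial.aeval_X] at h3
    exact h3
  have hG' : ∀ P : MvPolynomial (Fin (m + 1 + 1) ⊕ Fin (m + 1 + 1)) k,
      f (algebraMap Rq Rw (Ideal.Quotient.mk _ P)) = MvPolynomial.aeval z' P := by
    intro P
    have : (f.comp ((IsScalarTower.toAlgHom k Rq Rw).comp
        (Ideal.Quotient.mkₐ k (Ideal.span {F, L})))) = MvPolynomial.aeval z' := by
      apply MvPolynomial.algHom_ext
      intro v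
      rw [MvPolynomial.aeval_X]
      rfl
    exact AlgHom.congr_fun this P
  have hF0 : MvPolynomial.aeval z' F = 0 := by
    rw [← hG']
    have : Ideal.Quotient.mk (Ideal.span {F, L}) F = 0 :=
      Ideal.Quotient.eq_zero_iff_mem.mpr (Ideal.subset_span (by simp))
    rw [this, map_zero, map_zero]
  have hL0 : MvPolynomial.aeval z' L = 0 := by
    rw [← hG']
    have : Ideal.Quotient.mk (Ideal.span {F, L}) L = 0 :=
      Ideal.Quotient.eq_zero_iff_mem.mpr (Ideal.subset_span (by simp))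
    rw [this, map_zero, map_zero]
  -- apply the perturbation lemma
  let nn : Fin (m + 1 + 1) ⊕ Fin (m + 1 + 1) → BB k := fun v => z' v - zB v
  let δB : Fin (m + 1 + 1) ⊕ Fin (m + 1 + 1) → BB k := fun v => mkB (δ v)
  have hzB : ∀ v, zB v = algebraMap k (BB k) (Pt c v) + τB * δB v := by
    intro v
    change mkB (algebraMap k (SS k) (Pt c v) + τ * δ v) = _
    rw [map_add, AlgHom.commutes, map_mul]
  have hz' : z' = fun v => algebraMap k (BB k) (Pt c v) + τB * δB v + nn v := by
    funext v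
    rw [← hzB]
    simp [nn]
  have hzB' : zB = fun v => algebraMap k (BB k) (Pt c v) + τB * δB v := funext hzB
  have hpert := Q_add_of_sq_zero c τB δB nn
    (fun v w' => hIsq _ (hz'I v) _ (hz'I w')) (fun v => hIτ _ (hz'I v))
  rw [← hz', ← hzB'] at hpert
  have hsumnn : (∑ v, algebraMap k (BB k) (c v) * nn v : BB k) = 0 := by
    have e1 : (∑ v, algebraMap k (BB k) (c v) * z' v : BB k) = 0 := by
      rw [← hL0, hL]
      have e0 : MvPolynomial.aeval z' _ = _ := aeval_L c z'
      exact e0.symm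
    simp only [nn, mul_sub]
    rw [Finset.sum_sub_distrib, e1, hLB, sub_zero]
  rw [hsumnn, add_zero] at hpert
  have hQz' : Q q z' = 0 := by
    rw [← hF0, hF]
    have e0 : MvPolynomial.aeval z' _ = Q q z' := aeval_F (k := k) q z'
    exact e0.symm
  rw [hQz'] at hpert
  apply hGF_ne
  rw [hF]
  have e0 : MvPolynomial.aeval zB _ = Q q zB := aeval_F (k := k) q zB
  exact e0.trans hpert.symm

end Main

end Groth.Agent.H9.HYP
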