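import Mathlib

/-! Helper9: half-exact linear functors killing the residue field kill all f.g. modules (S14418). -/

open CategoryTheory

universe u

namespace Groth.Agent.H9.HalfEx

variable {B A : Type u} [CommRing B] [CommRing A] [Algebra B A]
  (T : ModuleCat.{u} B ⥤ ModuleCat.{u} A) [T.Additive]

/-- the half-exactness hypothesis -/
def HalfExact : Prop :=
  ∀ S : ShortComplex (ModuleCat.{u} B), S.ShortExact → Module.Finite B S.X₁ →
      Module.Finite B S.X₂ → Module.Finite B S.X₃ → (S.map T).Exact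

variable {T}

theorem function_exact (hex : HalfExact T) {N₁ N₂ N₃ : Type u}
    [AddCommGroup N₁] [Module B N₁] [Module.Finite B N₁]
    [AddCommGroup N₂] [Module B N₂] [Module.Finite B N₂]
    [AddCommGroup N₃] [Module B N₃] [Module.Finite B N₃]
    (f : N₁ →ₗ[B] N₂) (g : N₂ →ₗ[B] N₃) (hf : Function.Injective f) (hg : Function.Surjective g)
    (hfg : Function.Exact f g) :
    Function.Exact (T.map (ModuleCat.ofHom f)) (T.map (ModuleCat.ofHom g)) := by
  let S := ShortComplex.moduleCatMk f g (LinearMap.ext fun x => hfg.apply_apply_eq_zero x)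
  have hS : S.ShortExact := ModuleCat.shortComplex_shortExact S hfg hf hg
  have hE := hex S hS ‹_› ‹_› ‹_›
  exact (ShortComplex.ShortExact.moduleCat_exact_iff_function_exact _).1 hE

theorem middle_zero (hex : HalfExact T) {N₁ N₂ N₃ : Type u}
    [AddCommGroup N₁] [Module B N₁] [Module.Finite B N₁]
    [AddCommGroup N₂] [Module B N₂] [Module.Finite B N₂]
    [AddCommGroup N₃] [Module B N₃] [Module.Finite B N₃]
    (f : N₁ →ₗ[B] N₂) (g : N₂ →ₗ[B] N₃) (hf : Function.Injective f) (hg : Function.Surjective g)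
    (hfg : Function.Exact f g)
    (h1 : Limits.IsZero (T.obj (ModuleCat.of B N₁))) (h3 : Limits.IsZero (T.obj (ModuleCat.of B N₃))) :
    Limits.IsZero (T.obj (ModuleCat.of B N₂)) := by
  have hE := function_exact hex f g hf hg hfg
  have s1 : Subsingleton (T.obj (ModuleCat.of B N₁)) := ModuleCat.subsingleton_of_isZero h1
  have s3 : Subsingleton (T.obj (ModuleCat.of B N₃)) := ModuleCat.subsingleton_of_isZero h3
  have : Subsingleton (T.obj (ModuleCat.of B N₂)) := by
    refine ⟨fun y y' => ?_⟩
    have key : ∀ w : T.obj (ModuleCat.of B N₂), w = 0 := by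
      intro w
      have hw : (T.map (ModuleCat.ofHom g)) w = 0 := Subsingleton.elim _ _
      obtain ⟨z, hz⟩ := (hE w).1 hw
      rw [← hz, Subsingleton.elim z 0, map_zero]
    rw [key y, key y']
  exact ModuleCat.isZero_of_subsingleton _

section seqs

variable (I : Ideal B) (y : B)

/-- the projection `B/I → B/(I + (y))` -/
def proj : (B ⧸ I) →ₗ[B] (B ⧸ (I ⊔ Ideal.span {y})) :=
  Submodule.mapQ I (I ⊔ Ideal.span {y}) LinearMap.id (by
    intro b hb
    exact Ideal.mem_sup_left hb)

theorem proj_surjective : Function.Surjective (proj I y) := by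
  intro c
  obtain ⟨b, rfl⟩ := Submodule.Quotient.mk_surjective _ c
  exact ⟨Submodule.Quotient.mk b, rfl⟩

theorem proj_eq_zero_iff (c : B ⧸ I) : proj I y c = 0 ↔ ∃ d : B ⧸ I, y • d = c := by
  obtain ⟨b, rfl⟩ := Submodule.Quotient.mk_surjective _ c
  have h1 : proj I y (Submodule.Quotient.mk b) = Submodule.Quotient.mk b := rfl
  rw [h1, Submodule.Quotient.mk_eq_zero]
  constructor
  · intro hb
    obtain ⟨i, hi, s, hs, rfl⟩ := Submodule.mem_sup.1 hb
    obtain ⟨c, rfl⟩ := Ideal.mem_span_singleton'.1 hs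
    refine ⟨Submodule.Quotient.mk c, ?_⟩
    rw [← Submodule.Quotient.mk_smul, eq_comm, ← sub_eq_zero, ← Submodule.Quotient.mk_sub,
      Submodule.Quotient.mk_eq_zero]
    have : i + c * y - y • c = i := by rw [smul_eq_mul]; ring
    rw [this]; exact hi
  · rintro ⟨d, hd⟩
    obtain ⟨c, rfl⟩ := Submodule.Quotient.mk_surjective _ d
    rw [← Submodule.Quotient.mk_smul, Submodule.Quotient.eq] at hd
    have : b = (b - y • c) + c * y := by rw [smul_eq_mul]; ring
    rw [this]
    refine Submodule.add_mem _ (Ideal.mem_sup_left ?_) (Ideal.mem_sup_right ?_)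
    · have := I.neg_mem hd
      rwa [neg_sub] at this
    · exact Ideal.mem_span_singleton'.2 ⟨c, rfl⟩

/-- the colon ideal `(I : y)` -/
def colon : Ideal B := Submodule.comap (y • (LinearMap.id : B →ₗ[B] B)) I

theorem mem_colon (b : B) : b ∈ colon I y ↔ y * b ∈ I := Iff.rfl

/-- multiplication by `y` as a map `B/(I:y) → B/I` -/
def mulMap : (B ⧸ colon I y) →ₗ[B] (B ⧸ I) :=
  Submodule.mapQ (colon I y) I (y • (LinearMap.id : B →ₗ[B] B)) le_rfl

theorem mulMap_mk (b : B) : mulMap I y (Submodule.Quotient.mk b) = Submodule.Quotient.mk (y * b) :=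
  rfl

theorem mulMap_injective : Function.Injective (mulMap I y) := by
  rw [← LinearMap.ker_eq_bot, LinearMap.ker_eq_bot']
  intro c hc
  obtain ⟨b, rfl⟩ := Submodule.Quotient.mk_surjective _ c
  rw [mulMap_mk, Submodule.Quotient.mk_eq_zero] at hc
  rw [Submodule.Quotient.mk_eq_zero]
  exact hc

theorem exact_mulMap : Function.Exact (mulMap I y) (proj I y) := by
  intro c
  rw [proj_eq_zero_iff]
  constructor
  · rintro ⟨d, rfl⟩
    obtain ⟨b, rfl⟩ := Submodule.Quotient.mk_surjective _ d
    exact ⟨Submodule.Quotient.mk b, by rw [mulMap_mk, ← Submodule.Quotient.mk_smul, smul_eq_mul]⟩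
  · rintro ⟨d, rfl⟩
    obtain ⟨b, rfl⟩ := Submodule.Quotient.mk_surjective _ d
    exact ⟨Submodule.Quotient.mk b, by rw [mulMap_mk, ← Submodule.Quotient.mk_smul, smul_eq_mul]⟩

theorem exact_smul : Function.Exact (y • (LinearMap.id : (B ⧸ I) →ₗ[B] (B ⧸ I))) (proj I y) := by
  intro c
  rw [proj_eq_zero_iff]
  rfl

theorem smul_injective (h : ∀ b, y * b ∈ I → b ∈ I) :
    Function.Injective (y • (LinearMap.id : (B ⧸ I) →ₗ[B] (B ⧸ I))) := by
  rw [← LinearMap.ker_eq_bot, LinearMap.ker_eq_bot']
  intro c hc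
  obtain ⟨b, rfl⟩ := Submodule.Quotient.mk_surjective _ c
  rw [LinearMap.smul_apply, LinearMap.id_apply, ← Submodule.Quotient.mk_smul,
    Submodule.Quotient.mk_eq_zero] at hc
  rw [Submodule.Quotient.mk_eq_zero]
  exact h b hc

end seqs

variable [IsNoetherianRing B] [IsLocalRing B] [IsNoetherianRing A] [IsLocalRing A]
  [IsLocalHom (algebraMap B A)]

theorem quotient_zero (hex : HalfExact T)
    (hlin : ∀ (N : ModuleCat.{u} B) (b : B),
      T.map (ModuleCat.ofHom (b • (LinearMap.id : N →ₗ[B] N))) =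
        ModuleCat.ofHom (algebraMap B A b • (LinearMap.id : T.obj N →ₗ[A] T.obj N)))
    (hfin : ∀ N : ModuleCat.{u} B, Module.Finite B N → Module.Finite A (T.obj N))
    (h0 : Limits.IsZero (T.obj (ModuleCat.of B (B ⧸ IsLocalRing.maximalIdeal B))))
    (I : Ideal B) : Limits.IsZero (T.obj (ModuleCat.of B (B ⧸ I))) := by
  induction I using WellFoundedGT.induction with
  | ind I ih =>
  by_cases hI : I = ⊤
  · subst hI
    exact T.map_isZero (ModuleCat.isZero_of_subsingleton _)
  by_cases hIm : I = IsLocalRing.maximalIdeal B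
  · subst hIm; exact h0
  have hle : I ≤ IsLocalRing.maximalIdeal B := IsLocalRing.le_maximalIdeal hI
  obtain ⟨x, hxm, hxI⟩ := SetLike.exists_of_lt (lt_of_le_of_ne hle hIm)
  by_cases hreg : ∀ b, x * b ∈ I → b ∈ I
  · -- x regular on B/I: Nakayama
    have hlt : I < I ⊔ Ideal.span {x} :=
      lt_of_le_of_ne le_sup_left (fun h => hxI (h ▸ Ideal.mem_sup_right (Ideal.subset_span rfl)))
    have hz3 := ih _ hlt
    have hE := function_exact hex _ _ (smul_injective I x hreg) (proj_surjective I x)
      (exact_smul I x)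
    have s3 : Subsingleton (T.obj (ModuleCat.of B (B ⧸ (I ⊔ Ideal.span {x})))) :=
      ModuleCat.subsingleton_of_isZero hz3
    have hfinA : Module.Finite A (T.obj (ModuleCat.of B (B ⧸ I))) :=
      hfin _ (inferInstanceAs (Module.Finite B (B ⧸ I)))
    have hsurj : ∀ w : T.obj (ModuleCat.of B (B ⧸ I)), ∃ z : T.obj (ModuleCat.of B (B ⧸ I)),
        algebraMap B A x • z = w := by
      intro w
      have hw : (T.map (ModuleCat.ofHom (proj I x))) w = 0 := Subsingleton.elim _ _
      obtain ⟨z, hz⟩ := (hE w).1 hw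
      refine ⟨z, ?_⟩
      rw [← hz]
      have := hlin (ModuleCat.of B (B ⧸ I)) x
      have h2 := congrArg (fun φ => φ.hom z) this
      exact h2.symm
    have hxA : algebraMap B A x ∈ IsLocalRing.maximalIdeal A := by
      rw [IsLocalRing.mem_maximalIdeal, mem_nonunits_iff]
      intro hu
      have := isUnit_of_map_unit (algebraMap B A) x hu
      exact (IsLocalRing.mem_maximalIdeal x).1 hxm this
    have htop : (⊤ : Submodule A (T.obj (ModuleCat.of B (B ⧸ I)))) = ⊥ := by
      apply Submodule.eq_bot_of_le_smul_of_le_jacobson_bot (IsLocalRing.maximalIdeal A) ⊤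
        Module.Finite.fg_top
      · intro w _
        obtain ⟨z, rfl⟩ := hsurj w
        exact Submodule.smul_mem_smul hxA Submodule.mem_top
      · exact IsLocalRing.maximalIdeal_le_jacobson _
    have : Subsingleton (T.obj (ModuleCat.of B (B ⧸ I))) := by
      refine ⟨fun a b => ?_⟩
      have ha : a ∈ (⊤ : Submodule A (T.obj (ModuleCat.of B (B ⧸ I)))) := Submodule.mem_top
      have hb : b ∈ (⊤ : Submodule A (T.obj (ModuleCat.of B (B ⧸ I)))) := Submodule.mem_top
      rw [htop, Submodule.mem_bot] at ha hb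
      rw [ha, hb]
    exact ModuleCat.isZero_of_subsingleton _
  · push Not at hreg
    obtain ⟨b, hxb, hbI⟩ := hreg
    have hlt3 : I < I ⊔ Ideal.span {b} :=
      lt_of_le_of_ne le_sup_left (fun h => hbI (h ▸ Ideal.mem_sup_right (Ideal.subset_span rfl)))
    have hlt1 : I < colon I b := by
      refine lt_of_le_of_ne (fun i hi => ?_) (fun h => hxI ?_)
      · rw [mem_colon]; exact I.mul_mem_left _ hi
      · rw [h, mem_colon, mul_comm]; exact hxb
    exact middle_zero hex (mulMap I b) (proj I b) (mulMap_injective I b) (proj_surjective I b)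
      (exact_mulMap I b) (ih _ hlt1) (ih _ hlt3)

theorem main (hex : HalfExact T)
    (hlin : ∀ (N : ModuleCat.{u} B) (b : B),
      T.map (ModuleCat.ofHom (b • (LinearMap.id : N →ₗ[B] N))) =
        ModuleCat.ofHom (algebraMap B A b • (LinearMap.id : T.obj N →ₗ[A] T.obj N)))
    (hfin : ∀ N : ModuleCat.{u} B, Module.Finite B N → Module.Finite A (T.obj N))
    (h0 : Limits.IsZero (T.obj (ModuleCat.of B (B ⧸ IsLocalRing.maximalIdeal B))))
    (N : Type u) [AddCommGroup N] [Module B N] (hN : Module.Finite B N) :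
    Limits.IsZero (T.obj (ModuleCat.of B N)) := by
  induction hN using IsNoetherianRing.induction_on_isQuotientEquivQuotientPrime B with
  | subsingleton N => exact T.map_isZero (ModuleCat.isZero_of_subsingleton _)
  | quotient N p e =>
    exact (quotient_zero hex hlin hfin h0 p.1).of_iso (T.mapIso e.toModuleIso)
  | exact N₁ N₂ N₃ f g hf hg hfg h1 h3 => exact middle_zero hex f g hf hg hfg h1 h3

end Groth.Agent.H9.HalfEx
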