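import Mathlib

set_option autoImplicit false
set_option linter.unusedSectionVars false
set_option linter.unusedVariables false

open MvPolynomial

namespace Groth.Agent.H9.Hbd

section top

variable {σ : Type*} {K : Type*} [Field K] (W : σ → ℕ)

/-- `f` has the monomial `e₀` with coefficient one, and all its other monomials have strictly
smaller weight -/
structure Top (f : MvPolynomial σ K) (e₀ : σ →₀ ℕ) : Prop where
  coeff_top : coeff e₀ f = 1
  lt_of_ne : ∀ e, coeff e f ≠ 0 → e ≠ e₀ → Finsupp.weight W e < Finsupp.weight W e₀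

variable {W}

theorem Top.le {f : MvPolynomial σ K} {e₀ : σ →₀ ℕ} (h : Top W f e₀) (e : σ →₀ ℕ)
    (he : coeff e f ≠ 0) : Finsupp.weight W e ≤ Finsupp.weight W e₀ := by
  by_cases h1 : e = e₀
  · rw [h1]
  · exact le_of_lt (h.lt_of_ne e he h1)

theorem Top.one : Top W (1 : MvPolynomial σ K) 0 := by
  classical
  refine ⟨?_, ?_⟩
  · rw [MvPolynomial.coeff_one, if_pos rfl]
  · intro e he hne
    rw [MvPolynomial.coeff_one] at he
    by_cases h : 0 = e
    · exact absurd h.symm hne
    · rw [if_neg h] at he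
      exact absurd rfl he

theorem Top.mul {f f' : MvPolynomial σ K} {e₀ e₀' : σ →₀ ℕ} (h : Top W f e₀)
    (h' : Top W f' e₀') : Top W (f * f') (e₀ + e₀') := by
  classical
  have key : ∀ a b : σ →₀ ℕ, coeff a f ≠ 0 → coeff b f' ≠ 0 → (a, b) ≠ (e₀, e₀') →
      Finsupp.weight W (a + b) < Finsupp.weight W (e₀ + e₀') := by
    intro a b ha hb hne
    rw [map_add, map_add]
    have h1 := h.le a ha
    have h2 := h'.le b hb
    by_cases h3 : a = e₀
    · have h4 : b ≠ e₀' := by
        intro h4
        apply hne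
        rw [h3, h4]
      have := h'.lt_of_ne b hb h4
      omega
    · have := h.lt_of_ne a ha h3
      omega
  refine ⟨?_, ?_⟩
  · rw [MvPolynomial.coeff_mul, Finset.sum_eq_single (e₀, e₀')]
    · show coeff e₀ f * coeff e₀' f' = 1
      rw [h.coeff_top, h'.coeff_top, mul_one]
    · rintro ⟨a, b⟩ hab hne
      rw [Finset.HasAntidiagonal.mem_antidiagonal] at hab
      have hab2 : a + b = e₀ + e₀' := hab
      show coeff a f * coeff b f' = 0
      by_contra hcon
      have ha : coeff a f ≠ 0 := fun h0 => hcon (by rw [h0, zero_mul])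
      have hb : coeff b f' ≠ 0 := fun h0 => hcon (by rw [h0, mul_zero])
      have := key a b ha hb hne
      rw [hab2] at this
      exact lt_irrefl _ this
    · intro hnot
      exfalso
      apply hnot
      rw [Finset.HasAntidiagonal.mem_antidiagonal]
  · intro e he hne
    rw [MvPolynomial.coeff_mul] at he
    obtain ⟨⟨a, b⟩, hab, hab'⟩ := Finset.exists_ne_zero_of_sum_ne_zero he
    rw [Finset.HasAntidiagonal.mem_antidiagonal] at hab
    have hab2 : a + b = e := hab
    have hab3 : coeff a f * coeff b f' ≠ 0 := hab'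
    have ha : coeff a f ≠ 0 := fun h0 => hab3 (by rw [h0, zero_mul])
    have hb : coeff b f' ≠ 0 := fun h0 => hab3 (by rw [h0, mul_zero])
    have hne' : (a, b) ≠ (e₀, e₀') := by
      intro h0
      apply hne
      rw [← hab2]
      rw [Prod.mk.injEq] at h0
      rw [h0.1, h0.2]
    have := key a b ha hb hne'
    rw [hab2] at this
    exact this

theorem Top.multiset_prod {α : Type*} (F : α → MvPolynomial σ K) (E : α → σ →₀ ℕ)
    (N : Multiset α) (h : ∀ a ∈ N, Top W (F a) (E a)) :
    Top W ((N.map F).prod) ((N.map E).sum) := by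
  induction N using Multiset.induction_on with
  | empty =>
    rw [Multiset.map_zero, Multiset.prod_zero, Multiset.map_zero, Multiset.sum_zero]
    exact Top.one
  | cons a N ih =>
    rw [Multiset.map_cons, Multiset.prod_cons, Multiset.map_cons, Multiset.sum_cons]
    exact (h a (Multiset.mem_cons_self a N)).mul
      (ih (fun b hb => h b (Multiset.mem_cons_of_mem hb)))

/-- comparison of top terms in a linear relation -/
theorem Top.of_sum {ι : Type*} (s : Finset ι) (g : ι → K) (f : ι → MvPolynomial σ K)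
    (e : ι → σ →₀ ℕ) (D : MvPolynomial σ K) (eD : σ →₀ ℕ)
    (hf : ∀ i ∈ s, Top W (f i) (e i)) (hinj : ∀ i ∈ s, ∀ j ∈ s, e i = e j → i = j)
    (hD : Top W D eD) (hsum : ∑ i ∈ s, g i • f i = D) :
    (∀ i ∈ s, g i ≠ 0 → Finsupp.weight W (e i) ≤ Finsupp.weight W eD) ∧
    (∀ i ∈ s, Finsupp.weight W (e i) = Finsupp.weight W eD →
      (e i = eD → g i = 1) ∧ (e i ≠ eD → g i = 0)) := by
  classical
  have hcoef : ∀ i0 ∈ s,
      (∀ j ∈ s, g j ≠ 0 → Finsupp.weight W (e j) ≤ Finsupp.weight W (e i0)) →
      coeff (e i0) D = g i0 := by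
    intro i0 hi0 hmax
    rw [← hsum, MvPolynomial.coeff_sum, Finset.sum_eq_single i0]
    · rw [MvPolynomial.coeff_smul, (hf i0 hi0).coeff_top, smul_eq_mul, mul_one]
    · intro j hj hne
      rw [MvPolynomial.coeff_smul]
      by_cases hgj : g j = 0
      · rw [hgj, zero_smul]
      · have : coeff (e i0) (f j) = 0 := by
          by_contra hc
          have hne' : e i0 ≠ e j := fun h => hne (hinj j hj i0 hi0 h.symm)
          have h1 := (hf j hj).lt_of_ne (e i0) hc hne'
          have h2 := hmax j hj hgj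
          omega
        rw [this, smul_zero]
    · intro h; exact absurd hi0 h
  have ha : ∀ i ∈ s, g i ≠ 0 → Finsupp.weight W (e i) ≤ Finsupp.weight W eD := by
    intro i hi hgi
    have hs' : (s.filter (fun i => g i ≠ 0)).Nonempty := ⟨i, Finset.mem_filter.2 ⟨hi, hgi⟩⟩
    obtain ⟨i0, hi0, hmax⟩ := Finset.exists_max_image (s.filter (fun i => g i ≠ 0))
      (fun i => Finsupp.weight W (e i)) hs'
    have hi0s := (Finset.mem_filter.1 hi0).1
    have hgi0 := (Finset.mem_filter.1 hi0).2
    have h1 := hcoef i0 hi0s (fun j hj hgj => hmax j (Finset.mem_filter.2 ⟨hj, hgj⟩))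
    have h2 : coeff (e i0) D ≠ 0 := by rw [h1]; exact hgi0
    have h3 := hD.le (e i0) h2
    have h4 := hmax i (Finset.mem_filter.2 ⟨hi, hgi⟩)
    exact le_trans h4 h3
  refine ⟨ha, ?_⟩
  intro i hi hw
  have h1 := hcoef i hi (fun j hj hgj => by rw [hw]; exact ha j hj hgj)
  rw [← h1]
  refine ⟨fun h2 => ?_, fun h2 => ?_⟩
  · rw [h2, hD.coeff_top]
  · by_contra hc
    have := hD.lt_of_ne (e i) hc h2
    omega

end top

end Groth.Agent.H9.Hbd
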