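import Mathlib
import Groth.Agent.Lib.Helper9.Misc.SmtC

set_option autoImplicit false
set_option linter.unusedSectionVars false
set_option linter.unusedVariables false

namespace Groth.Agent.H9.SMT

open W4bk4grassmannian MvPolynomial

variable {d n : ℕ}

section refined

variable (K : Type*) [CommRing K]

/-- a multiset of indices is a chain -/
def IsCh (M : Multiset (Idx d n)) : Prop := ∀ a ∈ M, ∀ b ∈ M, a ≤ b ∨ b ≤ a

/-- span of the classes of the standard monomials of degree `k` with `PP ≥ P` -/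
noncomputable def VVr (k P : ℕ) : Submodule K (PlRing K d n ⧸ plIdealTop (d := d) (n := n) K) :=
  Submodule.span K {x | ∃ M : Multiset (Idx d n), IsCh M ∧ M.card = k ∧ P ≤ PP M ∧
    x = Ideal.Quotient.mk (plIdealTop (d := d) (n := n) K) (prodX K M)}

theorem VVr_mono (k : ℕ) {P P' : ℕ} (h : P ≤ P') :
    VVr (d := d) (n := n) K k P' ≤ VVr (d := d) (n := n) K k P := by
  apply Submodule.span_mono
  rintro x ⟨M, h1, h2, h3, rfl⟩
  exact ⟨M, h1, h2, le_trans h h3, rfl⟩

theorem pm_mem_r {k P : ℕ} {x : PlRing K d n ⧸ plIdealTop (d := d) (n := n) K}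
    (hx : x ∈ VVr (d := d) (n := n) K k P) (e : ℕ) :
    (-1) ^ e * x ∈ VVr (d := d) (n := n) K k P := by
  rcases neg_one_pow_eq_or (PlRing K d n ⧸ plIdealTop (d := d) (n := n) K) e with h | h
  · rw [h, one_mul]; exact hx
  · rw [h, neg_one_mul]; exact (VVr K k P).neg_mem hx

theorem step_r (i j : Idx d n) (M : Multiset (Idx d n)) (hji : ¬ j ≤ i) (hw : wt j ≤ wt i)
    (ih : ∀ M' : Multiset (Idx d n), M'.card = (i ::ₘ j ::ₘ M).card →
      PP (i ::ₘ j ::ₘ M) < PP M' →
      Ideal.Quotient.mk (plIdealTop (d := d) (n := n) K) (prodX K M') ∈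
        VVr (d := d) (n := n) K M'.card (PP M')) :
    Ideal.Quotient.mk (plIdealTop (d := d) (n := n) K) (prodX K (i ::ₘ j ::ₘ M)) ∈
      VVr (d := d) (n := n) K (i ::ₘ j ::ₘ M).card (PP (i ::ₘ j ::ₘ M) + 1) := by
  classical
  have hex : ∃ t : Fin d, i.1 t < j.1 t := by
    by_contra hcon
    push Not at hcon
    exact hji (fun t => hcon t)
  let S : Finset (Fin d) := Finset.univ.filter (fun t => i.1 t < j.1 t)
  have hS : S.Nonempty := by
    obtain ⟨t, ht⟩ := hex
    exact ⟨t, Finset.mem_filter.2 ⟨Finset.mem_univ _, ht⟩⟩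
  set r := S.min' hS with hr
  have hr1 : i.1 r < j.1 r := (Finset.mem_filter.1 (Finset.min'_mem S hS)).2
  have hr2 : ∀ t : Fin d, t < r → j.1 t ≤ i.1 t := by
    intro t ht
    by_contra hcon
    have : t ∈ S := Finset.mem_filter.2 ⟨Finset.mem_univ _, not_le.1 hcon⟩
    exact absurd (Finset.min'_le S t this) (not_le.2 ht)
  have hp : IsPivot i j r := ⟨hr2, hr1⟩
  have hrel : shuffleRel K i j r ∈ plIdealTop (d := d) (n := n) K :=
    Ideal.subset_span ⟨i, j, r, hp, rfl⟩
  have hsplit : shuffleRel K i j r = (-1) ^ shuffleSign r (A0 r) * (X i * X j) +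
      ∑ A ∈ Finset.univ.erase (A0 r), shuffleTerm K i j r A := by
    unfold shuffleRel
    rw [← Finset.add_sum_erase _ _ (Finset.mem_univ (A0 r)), term_A0]
  set ε : PlRing K d n := (-1) ^ shuffleSign r (A0 r) with hε
  have hεε : ε * ε = 1 := by rw [hε, ← pow_add, ← two_mul, pow_mul]; norm_num
  have h0 : Ideal.Quotient.mk (plIdealTop (d := d) (n := n) K) (shuffleRel K i j r) = 0 :=
    Ideal.Quotient.eq_zero_iff_mem.2 hrel
  have h1 : Ideal.Quotient.mk (plIdealTop (d := d) (n := n) K) (X i * X j) +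
      ∑ A ∈ Finset.univ.erase (A0 r),
        Ideal.Quotient.mk (plIdealTop (d := d) (n := n) K) (ε * shuffleTerm K i j r A) = 0 := by
    have : Ideal.Quotient.mk (plIdealTop (d := d) (n := n) K) (ε * shuffleRel K i j r) = 0 := by
      rw [map_mul, h0, mul_zero]
    rw [hsplit, mul_add, ← mul_assoc, hεε, one_mul, Finset.mul_sum, map_add, map_sum] at this
    exact this
  have hsum : ∑ A ∈ Finset.univ.erase (A0 r),
        Ideal.Quotient.mk (plIdealTop (d := d) (n := n) K)
          (ε * shuffleTerm K i j r A * prodX K M) =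
      (∑ A ∈ Finset.univ.erase (A0 r),
        Ideal.Quotient.mk (plIdealTop (d := d) (n := n) K) (ε * shuffleTerm K i j r A)) *
        Ideal.Quotient.mk (plIdealTop (d := d) (n := n) K) (prodX K M) := by
    rw [Finset.sum_mul]
    apply Finset.sum_congr rfl
    intro A _
    rw [map_mul]
  have h2 : Ideal.Quotient.mk (plIdealTop (d := d) (n := n) K) (prodX K (i ::ₘ j ::ₘ M)) =
      - ∑ A ∈ Finset.univ.erase (A0 r),
        Ideal.Quotient.mk (plIdealTop (d := d) (n := n) K)
          (ε * shuffleTerm K i j r A * prodX K M) := by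
    rw [hsum, prodX_cons, prodX_cons, ← mul_assoc, map_mul]
    linear_combination (Ideal.Quotient.mk (plIdealTop (d := d) (n := n) K) (prodX K M)) * h1
  rw [h2]
  apply (VVr K _ _).neg_mem
  apply (VVr K _ _).sum_mem
  intro A hA
  have hne : A ≠ A0 r := (Finset.mem_erase.1 hA).1
  rcases term_form K i j r hr1 A hne with h | ⟨θ1, θ2, e, h, hw1, hw2⟩
  · rw [h, mul_zero, zero_mul, map_zero]; exact (VVr K _ _).zero_mem
  · have hc : (θ1 ::ₘ θ2 ::ₘ M).card = (i ::ₘ j ::ₘ M).card := by simp
    have hlt : PP (i ::ₘ j ::ₘ M) < PP (θ1 ::ₘ θ2 ::ₘ M) := by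
      rw [PP_cons, PP_cons, PP_cons, PP_cons]
      exact arith _ _ _ _ _ hw1 hw2 hw
    have hM' := ih (θ1 ::ₘ θ2 ::ₘ M) hc hlt
    rw [hc] at hM'
    have hM'' := VVr_mono K (i ::ₘ j ::ₘ M).card (Nat.succ_le_of_lt hlt) hM'
    have : ε * shuffleTerm K i j r A * prodX K M =
        (-1) ^ (shuffleSign r (A0 r) + e) * prodX K (θ1 ::ₘ θ2 ::ₘ M) := by
      rw [h, prodX_cons, prodX_cons, hε, pow_add]; ring
    rw [this, map_mul, map_pow, map_neg, map_one]
    exact pm_mem_r K hM'' _

theorem prodX_mem_r (M : Multiset (Idx d n)) :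
    Ideal.Quotient.mk (plIdealTop (d := d) (n := n) K) (prodX K M) ∈
        VVr (d := d) (n := n) K M.card (PP M) ∧
      (¬ IsCh M → Ideal.Quotient.mk (plIdealTop (d := d) (n := n) K) (prodX K M) ∈
        VVr (d := d) (n := n) K M.card (PP M + 1)) := by
  classical
  induction' hk : (M.card * (d * n) ^ 2 - PP M) using Nat.strong_induction_on with k ih
    generalizing M
  by_cases hM : IsCh M
  · exact ⟨Submodule.subset_span ⟨M, hM, rfl, le_rfl, rfl⟩, fun h => absurd hM h⟩
  · have hM0 := hM
    unfold IsCh at hM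
    push Not at hM
    obtain ⟨a, ha, b, hb, hab1, hab2⟩ := hM
    have hba : b ≠ a := fun h => hab1 (h ▸ le_rfl)
    have hb' : b ∈ M.erase a := (Multiset.mem_erase_of_ne hba).2 hb
    have hM1 : a ::ₘ b ::ₘ (M.erase a).erase b = M := by
      rw [Multiset.cons_erase hb', Multiset.cons_erase ha]
    have key : ∀ M' : Multiset (Idx d n), M'.card = M.card → PP M < PP M' →
        Ideal.Quotient.mk (plIdealTop (d := d) (n := n) K) (prodX K M') ∈
          VVr (d := d) (n := n) K M'.card (PP M') := by
      intro M' hc hP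
      have hle := PP_le M'
      exact (ih (M'.card * (d * n) ^ 2 - PP M') (by rw [← hk, hc]; rw [hc] at hle; omega)
        M' rfl).1
    have hmain : Ideal.Quotient.mk (plIdealTop (d := d) (n := n) K) (prodX K M) ∈
        VVr (d := d) (n := n) K M.card (PP M + 1) := by
      rcases le_total (wt b) (wt a) with hw | hw
      · have h := step_r K a b ((M.erase a).erase b) hab2 hw
          (fun M' hc hP => key M' (by rw [hc, hM1]) (by rw [hM1] at hP; exact hP))
        rwa [hM1] at h
      · have hM2 : b ::ₘ a ::ₘ (M.erase a).erase b = M := by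
          rw [Multiset.cons_swap, hM1]
        have h := step_r K b a ((M.erase a).erase b) hab1 hw
          (fun M' hc hP => key M' (by rw [hc, hM2]) (by rw [hM2] at hP; exact hP))
        rwa [hM2] at h
    exact ⟨VVr_mono K M.card (Nat.le_succ _) hmain, fun _ => hmain⟩

/-- a chain multiset is the multiset of a chain -/
theorem exists_chain (M : Multiset (Idx d n)) (hM : IsCh M) :
    ∃ c : (Σ m : ℕ, {c : Fin m → Idx d n // Antitone c}),
      chainMon K c.2.1 = prodX K M ∧ ∀ k, c.2.1 k ∈ M := by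
  classical
  let r : Idx d n → Idx d n → Prop := fun a b => wt b ≤ wt a
  haveI : DecidableRel r := fun a b => Nat.decLe _ _
  haveI : Std.Total r := ⟨fun a b => le_total _ _⟩
  haveI : IsTrans (Idx d n) r := ⟨fun a b c h1 h2 => le_trans h2 h1⟩
  set L := M.toList.insertionSort r with hL
  have hperm : L.Perm M.toList := List.perm_insertionSort r _
  have hsorted : L.Pairwise r := List.pairwise_insertionSort r _
  have hmem : ∀ a ∈ L, a ∈ M := fun a ha => Multiset.mem_toList.1 (hperm.mem_iff.1 ha)
  let c : Fin L.length → Idx d n := fun k => L.get k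
  have hc : Antitone c := by
    intro k l hkl
    rcases eq_or_lt_of_le hkl with rfl | hlt
    · exact le_rfl
    · have h1 : r (L.get k) (L.get l) := List.pairwise_iff_get.1 hsorted k l hlt
      rcases hM _ (hmem _ (List.get_mem L k)) _ (hmem _ (List.get_mem L l)) with h2 | h2
      · exact (eq_of_le_of_wt_le h2 h1).ge
      · exact h2
  have hprod : chainMon K c = prodX K M := by
    unfold chainMon prodX
    rw [← List.prod_ofFn]
    have h1 : List.ofFn (fun k : Fin L.length => (X (c k) : PlRing K d n)) =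
        L.map (fun τ => (X τ : PlRing K d n)) := by
      rw [show (fun k : Fin L.length => (X (c k) : PlRing K d n)) =
        (fun τ => (X τ : PlRing K d n)) ∘ L.get from rfl, ← List.map_ofFn, List.ofFn_get]
    rw [h1]
    conv_rhs => rw [← Multiset.coe_toList M]
    rw [Multiset.map_coe, Multiset.prod_coe]
    exact List.Perm.prod_eq (hperm.map _)
  exact ⟨⟨L.length, ⟨c, hc⟩⟩, hprod, fun k => hmem _ (List.get_mem L k)⟩

theorem PP_add (M M' : Multiset (Idx d n)) : PP (M + M') = PP M + PP M' := by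
  unfold PP
  rw [Multiset.map_add, Multiset.sum_add]

theorem prodX_add (M M' : Multiset (Idx d n)) : prodX K (M + M') = prodX K M * prodX K M' := by
  unfold prodX
  rw [Multiset.map_add, Multiset.prod_add]

theorem prodX_zero : prodX K (0 : Multiset (Idx d n)) = 1 := by
  unfold prodX
  simp

end refined

end Groth.Agent.H9.SMT
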