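import Mathlib
import Groth.Prelude.Def_W4bk4grassmannianPl
import Groth.Agent.Lib.Helper9.Misc.HbdA
import Groth.Agent.Lib.Helper9.Misc.LdtE
import Groth.Agent.Lib.Helper9.Misc.SrdA

set_option autoImplicit false
set_option linter.unusedSectionVars false
set_option linter.unusedVariables false

open W4bk4grassmannian MvPolynomial
open Groth.Agent.H9

namespace Groth.Agent.H9.Hbd

section minors

variable (K : Type*) [Field K] {d n : ℕ}

/-- the weight `s * t` of the variable `x_{s,t}` -/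
def Wt (n d : ℕ) : Ldt.V n d → ℕ := fun j => ((ofLex j).1 : ℕ) * ((ofLex j).2 : ℕ)

theorem Wt_vv (s : Fin n) (t : Fin d) : Wt n d (Ldt.vv n d s t) = s.val * t.val := rfl

theorem weight_mon (θ : Fin d → Fin n) :
    Finsupp.weight (Wt n d) (Ldt.mon (Ldt.vv n d) θ) = ∑ t : Fin d, (θ t).val * t.val := by
  unfold Ldt.mon
  rw [map_sum]
  apply Finset.sum_congr rfl
  intro t _
  rw [Finsupp.weight_single, Wt_vv, smul_eq_mul, one_mul]

theorem perm_eq_one_of_strictMono (π : Equiv.Perm (Fin d)) (h : StrictMono π) : π = 1 := by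
  have hc : (Finset.univ : Finset (Fin d)).card = d := by simp
  have h1 := Finset.orderEmbOfFin_unique hc (f := π) (fun x => Finset.mem_univ _) h
  have h2 := Finset.orderEmbOfFin_unique hc (f := id) (fun x => Finset.mem_univ _) strictMono_id
  apply Equiv.ext
  intro i
  have := congrFun (h1.trans h2.symm) i
  exact this

theorem weight_perm_lt (θ : Fin d → Fin n) (hθ : StrictMono θ) (π : Equiv.Perm (Fin d))
    (hπ : π ≠ 1) :
    Finsupp.weight (Wt n d) (Ldt.mon (Ldt.vv n d) (θ ∘ π)) <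
      Finsupp.weight (Wt n d) (Ldt.mon (Ldt.vv n d) θ) := by
  rw [weight_mon, weight_mon]
  have hfg : Monovary (fun t : Fin d => ((θ t : Fin n) : ℕ)) (fun t : Fin d => (t : ℕ)) := by
    intro i j hij
    exact le_of_lt (hθ (show i < j from hij))
  have hnot : ¬ Monovary ((fun t : Fin d => ((θ t : Fin n) : ℕ)) ∘ π)
      (fun t : Fin d => (t : ℕ)) := by
    intro hmv
    apply hπ
    apply perm_eq_one_of_strictMono
    intro i j hij
    have h1 : ((θ (π i) : Fin n) : ℕ) ≤ ((θ (π j) : Fin n) : ℕ) :=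
      hmv (show (i : ℕ) < (j : ℕ) from hij)
    have h2 : π i ≤ π j := by
      by_contra hc
      have h3 : θ (π j) < θ (π i) := hθ (not_le.1 hc)
      have h4 : ((θ (π j) : Fin n) : ℕ) < ((θ (π i) : Fin n) : ℕ) := h3
      omega
    exact lt_of_le_of_ne h2 (fun h => (ne_of_lt hij) (π.injective h))
  have := (hfg.sum_comp_perm_mul_lt_sum_mul_iff (σ := π)).2 hnot
  exact this

theorem top_minor (lo hi : Fin d → Fin n) (θ : Fin d → Fin n) (hθ : StrictMono θ)
    (hfit : ∀ t, lo t ≤ θ t ∧ θ t ≤ hi t) :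
    Top (Wt n d) (((Ldt.G K (Ldt.vv n d) lo hi).submatrix θ id).det)
      (Ldt.mon (Ldt.vv n d) θ) := by
  classical
  have hdm := Ldt.degree_minor (K := K) (Ldt.vv n d) Ldt.vv_lt Ldt.vv_surj lo hi θ hθ hfit
  have hterm : ∀ (π : Equiv.Perm (Fin d)) (b : Ldt.V n d →₀ ℕ),
      coeff b (Equiv.Perm.sign π •
        ∏ i, ((Ldt.G K (Ldt.vv n d) lo hi).submatrix θ id) (π i) i) ≠ 0 →
        b = Ldt.mon (Ldt.vv n d) (θ ∘ π) := by
    intro π b hb
    by_cases hf : ∀ i, lo i ≤ θ (π i) ∧ θ (π i) ≤ hi i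
    · rw [Ldt.term_of_fit (Ldt.vv n d) lo hi θ π hf] at hb
      by_contra hne
      apply hb
      rcases Int.units_eq_one_or (Equiv.Perm.sign π) with h | h
      · rw [h, one_smul, coeff_monomial, if_neg (Ne.symm hne)]
      · rw [h, Units.neg_smul, one_smul, coeff_neg, coeff_monomial, if_neg (Ne.symm hne),
          neg_zero]
    · rw [Ldt.term_of_not_fit (Ldt.vv n d) lo hi θ π hf, smul_zero, coeff_zero] at hb
      exact absurd rfl hb
  refine ⟨?_, ?_⟩
  · have := hdm.2.coeff_degree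
    rw [hdm.1] at this
    exact this
  · intro e he hne
    rw [Matrix.det_apply, coeff_sum] at he
    obtain ⟨π, _, hπ⟩ := Finset.exists_ne_zero_of_sum_ne_zero he
    have h1 := hterm π e hπ
    have hπ1 : π ≠ 1 := by
      intro h
      apply hne
      rw [h1, h]
      rfl
    rw [h1]
    exact weight_perm_lt θ hθ π hπ1

/-- the exponent vector of the product of the diagonal terms -/
noncomputable def EM (N : Multiset (Idx d n)) : Ldt.V n d →₀ ℕ :=
  (N.map (fun θ : Idx d n => Ldt.mon (Ldt.vv n d) θ.1)).sum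

theorem EM_zero : EM (0 : Multiset (Idx d n)) = 0 := by
  unfold EM
  rw [Multiset.map_zero, Multiset.sum_zero]

theorem EM_cons (a : Idx d n) (N : Multiset (Idx d n)) :
    EM (a ::ₘ N) = Ldt.mon (Ldt.vv n d) a.1 + EM N := by
  unfold EM
  rw [Multiset.map_cons, Multiset.sum_cons]

theorem EM_add (N N' : Multiset (Idx d n)) : EM (N + N') = EM N + EM N' := by
  unfold EM
  rw [Multiset.map_add, Multiset.sum_add]

theorem Psi_prodX (lo hi : Fin d → Fin n) (N : Multiset (Idx d n)) :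
    Ldt.Psi K lo hi (SMT.prodX K N) =
      (N.map (fun θ : Idx d n =>
        ((Ldt.G K (Ldt.vv n d) lo hi).submatrix θ.1 id).det)).prod := by
  unfold SMT.prodX Ldt.Psi
  rw [map_multiset_prod, Multiset.map_map]
  congr 1
  apply Multiset.map_congr rfl
  intro θ _
  exact Ldt.Phi_X (Ldt.vv n d) lo hi θ

theorem top_Psi (lo hi : Fin d → Fin n) (N : Multiset (Idx d n))
    (hN : ∀ θ ∈ N, ∀ t, lo t ≤ θ.1 t ∧ θ.1 t ≤ hi t) :
    Top (Wt n d) (Ldt.Psi K lo hi (SMT.prodX K N)) (EM N) := by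
  rw [Psi_prodX]
  exact Top.multiset_prod _ _ N (fun θ hθ => top_minor K lo hi θ.1 θ.2 (hN θ hθ))

end minors

end Groth.Agent.H9.Hbd
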