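import Mathlib

set_option autoImplicit false
set_option linter.unusedSectionVars false
set_option linter.unusedVariables false
set_option linter.style.haveILetI false

open Module Polynomial

namespace Groth.Agent.H9.Rdg

universe u v

variable {K : Type u} [Field K] {A : Type u} [CommRing A] [Algebra K A]
  {T : Type u} [CommRing T] [Algebra K T] {ι : Type v}
variable (b : Basis ι K A) (β : Basis ι K T) (Ω : ι → ℕ)

/-- the filtration by weights of basis elements -/
def Fil (p : ℕ) : Submodule K A where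
  carrier := {a | ∀ i, b.repr a i ≠ 0 → Ω i ≤ p}
  add_mem' := by
    intro a a' ha ha' i hi
    by_contra hlt
    apply hi
    have h1 : b.repr a i = 0 := by
      by_contra h
      exact hlt (ha i h)
    have h2 : b.repr a' i = 0 := by
      by_contra h
      exact hlt (ha' i h)
    rw [map_add, Finsupp.add_apply, h1, h2, add_zero]
  zero_mem' := by
    intro i hi
    exact absurd (by rw [map_zero, Finsupp.zero_apply]) hi
  smul_mem' := by
    intro c a ha i hi
    apply ha i
    intro h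
    apply hi
    rw [map_smul, Finsupp.smul_apply, h, smul_zero]

theorem mem_Fil {p : ℕ} {a : A} : a ∈ Fil b Ω p ↔ ∀ i, b.repr a i ≠ 0 → Ω i ≤ p := Iff.rfl

theorem Fil_mono {p q : ℕ} (h : p ≤ q) : Fil b Ω p ≤ Fil b Ω q :=
  fun a ha i hi => le_trans (ha i hi) h

theorem basis_mem_Fil (i : ι) {p : ℕ} (h : Ω i ≤ p) : b i ∈ Fil b Ω p := by
  classical
  intro j hj
  rw [Basis.repr_self, Finsupp.single_apply] at hj
  by_cases hij : i = j
  · subst hij
    exact h
  · rw [if_neg hij] at hj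
    exact absurd rfl hj

theorem exists_sum_of_mem_Fil {p : ℕ} {a : A} (ha : a ∈ Fil b Ω p) :
    ∃ (s : Finset ι) (c : ι → K), (∀ i ∈ s, Ω i ≤ p) ∧ a = ∑ i ∈ s, c i • b i := by
  refine ⟨(b.repr a).support, fun i => b.repr a i, ?_, ?_⟩
  · intro i hi
    exact ha i (Finsupp.mem_support_iff.1 hi)
  · have h := b.linearCombination_repr a
    rw [Finsupp.linearCombination_apply] at h
    exact h.symm

theorem exists_mem_Fil (a : A) : ∃ p, a ∈ Fil b Ω p := by
  refine ⟨(b.repr a).support.sup Ω, ?_⟩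
  intro i hi
  exact Finset.le_sup (Finsupp.mem_support_iff.2 hi)

theorem mul_mem_Fil (hmul : ∀ i j, b i * b j ∈ Fil b Ω (Ω i + Ω j)) {p q : ℕ} {a a' : A}
    (ha : a ∈ Fil b Ω p) (ha' : a' ∈ Fil b Ω q) : a * a' ∈ Fil b Ω (p + q) := by
  obtain ⟨s, c, hs, rfl⟩ := exists_sum_of_mem_Fil b Ω ha
  obtain ⟨s', c', hs', rfl⟩ := exists_sum_of_mem_Fil b Ω ha'
  rw [Finset.sum_mul_sum]
  apply Submodule.sum_mem
  intro i hi
  apply Submodule.sum_mem
  intro j hj
  rw [smul_mul_smul_comm]
  apply Submodule.smul_mem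
  have h1 := hs i hi
  have h2 := hs' j hj
  exact Fil_mono b Ω (by omega) (hmul i j)

/-- the weight-`p` part, read in `T` -/
noncomputable def topP (p : ℕ) : A →ₗ[K] T :=
  b.constr K (fun i => if Ω i = p then β i else 0)

theorem topP_basis (p : ℕ) (i : ι) : topP b β Ω p (b i) = if Ω i = p then β i else 0 := by
  unfold topP
  rw [Basis.constr_basis]

theorem repr_topP (p : ℕ) (a : A) (i : ι) :
    β.repr (topP b β Ω p a) i = if Ω i = p then b.repr a i else 0 := by
  classical
  unfold topP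
  rw [Basis.constr_apply, map_finsuppSum, Finsupp.sum_apply]
  have h : ∀ (j : ι) (c : K), β.repr (c • (if Ω j = p then β j else 0)) i =
      if j = i then (if Ω i = p then c else 0) else 0 := by
    intro j c
    by_cases hj : Ω j = p
    · rw [if_pos hj, map_smul, Basis.repr_self, Finsupp.smul_apply, Finsupp.single_apply,
        smul_eq_mul]
      by_cases hji : j = i
      · subst hji
        rw [if_pos rfl, if_pos rfl, if_pos hj, mul_one]
      · rw [if_neg hji, if_neg hji, mul_zero]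
    · rw [if_neg hj, smul_zero, map_zero, Finsupp.zero_apply]
      by_cases hji : j = i
      · subst hji
        rw [if_pos rfl, if_neg hj]
      · rw [if_neg hji]
  simp only [h]
  rw [Finsupp.sum_ite_eq']
  by_cases hi : i ∈ (b.repr a).support
  · rw [if_pos hi]
  · rw [if_neg hi]
    rw [Finsupp.notMem_support_iff] at hi
    rw [hi]
    simp

theorem topP_eq_zero_of_lt {p q : ℕ} {a : A} (ha : a ∈ Fil b Ω p) (hpq : p < q) :
    topP b β Ω q a = 0 := by
  apply β.repr.injective
  ext i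
  rw [repr_topP, map_zero, Finsupp.zero_apply]
  by_cases hi : Ω i = q
  · rw [if_pos hi]
    by_contra h
    have := ha i h
    omega
  · rw [if_neg hi]

theorem repr_eq_zero_of_topP {p : ℕ} {a : A} (h : topP b β Ω p a = 0) (i : ι) (hi : Ω i = p) :
    b.repr a i = 0 := by
  have h1 := repr_topP b β Ω p a i
  rw [h, map_zero, Finsupp.zero_apply, if_pos hi] at h1
  exact h1.symm

theorem topP_mul (hmul : ∀ i j, b i * b j ∈ Fil b Ω (Ω i + Ω j))
    (hT : ∀ i j, β i * β j = topP b β Ω (Ω i + Ω j) (b i * b j)) {p q : ℕ} {a a' : A}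
    (ha : a ∈ Fil b Ω p) (ha' : a' ∈ Fil b Ω q) :
    topP b β Ω (p + q) (a * a') = topP b β Ω p a * topP b β Ω q a' := by
  obtain ⟨s, c, hs, rfl⟩ := exists_sum_of_mem_Fil b Ω ha
  obtain ⟨s', c', hs', rfl⟩ := exists_sum_of_mem_Fil b Ω ha'
  simp only [Finset.sum_mul_sum, map_sum]
  apply Finset.sum_congr rfl
  intro i hi
  apply Finset.sum_congr rfl
  intro j hj
  rw [smul_mul_smul_comm, map_smul, map_smul, map_smul, smul_mul_smul_comm]
  congr 1
  have hi' := hs i hi
  have hj' := hs' j hj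
  rw [topP_basis, topP_basis]
  by_cases h1 : Ω i = p
  · by_cases h2 : Ω j = q
    · rw [if_pos h1, if_pos h2, hT, h1, h2]
    · rw [if_neg h2, mul_zero]
      exact topP_eq_zero_of_lt b β Ω (hmul i j) (by omega)
  · rw [if_neg h1, zero_mul]
    exact topP_eq_zero_of_lt b β Ω (hmul i j) (by omega)

/-- the Rees algebra of the filtration -/
def reesSub (h1 : (1 : A) ∈ Fil b Ω 0) (hmul : ∀ i j, b i * b j ∈ Fil b Ω (Ω i + Ω j)) :
    Subalgebra K A[X] where
  carrier := {P | ∀ p, P.coeff p ∈ Fil b Ω p}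
  mul_mem' := by
    intro P Q hP hQ p
    rw [Polynomial.coeff_mul]
    apply Submodule.sum_mem
    rintro ⟨i, j⟩ hij
    rw [Finset.HasAntidiagonal.mem_antidiagonal] at hij
    simp only at hij
    rw [← hij]
    exact mul_mem_Fil b Ω hmul (hP i) (hQ j)
  add_mem' := by
    intro P Q hP hQ p
    rw [coeff_add]
    exact Submodule.add_mem _ (hP p) (hQ p)
  algebraMap_mem' := by
    intro r p
    rw [Polynomial.algebraMap_apply, Polynomial.coeff_C]
    by_cases hp : p = 0
    · rw [if_pos hp, hp, Algebra.algebraMap_eq_smul_one]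
      exact Submodule.smul_mem _ _ h1
    · rw [if_neg hp]
      exact Submodule.zero_mem _

theorem mem_reesSub (h1 : (1 : A) ∈ Fil b Ω 0)
    (hmul : ∀ i j, b i * b j ∈ Fil b Ω (Ω i + Ω j)) (P : A[X]) :
    P ∈ reesSub b Ω h1 hmul ↔ ∀ p, P.coeff p ∈ Fil b Ω p := Iff.rfl

theorem monomial_mem (h1 : (1 : A) ∈ Fil b Ω 0)
    (hmul : ∀ i j, b i * b j ∈ Fil b Ω (Ω i + Ω j)) {p : ℕ} {a : A} (ha : a ∈ Fil b Ω p) :
    monomial p a ∈ reesSub b Ω h1 hmul := by
  intro q
  rw [coeff_monomial]
  by_cases hpq : p = q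
  · rw [if_pos hpq, ← hpq]
    exact ha
  · rw [if_neg hpq]
    exact Submodule.zero_mem _

theorem X_mem (h1 : (1 : A) ∈ Fil b Ω 0)
    (hmul : ∀ i j, b i * b j ∈ Fil b Ω (Ω i + Ω j)) :
    (X : A[X]) ∈ reesSub b Ω h1 hmul := by
  rw [← monomial_one_one_eq_X]
  exact monomial_mem b Ω h1 hmul (Fil_mono b Ω (Nat.zero_le 1) h1)

end Groth.Agent.H9.Rdg
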