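import Mathlib
import Groth.Agent.Lib.Helper9.Misc.RdgA

set_option autoImplicit false
set_option linter.unusedSectionVars false
set_option linter.unusedVariables false
set_option linter.style.haveILetI false

open Module Polynomial

namespace Groth.Agent.H9.Rdg

universe u v

variable {K : Type u} [Field K] {A : Type u} [CommRing A] [Algebra K A]
  {T : Type u} [CommRing T] [Algebra K T] {ι : Type v}
variable (b : Basis ι K A) (β : Basis ι K T) (Ω : ι → ℕ)
variable (h1 : (1 : A) ∈ Fil b Ω 0) (hmul : ∀ i j, b i * b j ∈ Fil b Ω (Ω i + Ω j))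

/-- the Rees algebra as a type -/
abbrev RR : Type u := ↥(reesSub b Ω h1 hmul)

/-- the variable `t` -/
noncomputable def XR : RR b Ω h1 hmul := ⟨X, X_mem b Ω h1 hmul⟩

noncomputable def toR : K[X] →ₐ[K] RR b Ω h1 hmul := Polynomial.aeval (XR b Ω h1 hmul)

noncomputable def algKX : Algebra K[X] (RR b Ω h1 hmul) := (toR b Ω h1 hmul).toRingHom.toAlgebra

attribute [local instance] algKX

theorem algebraMap_eq (g : K[X]) :
    algebraMap K[X] (RR b Ω h1 hmul) g = toR b Ω h1 hmul g := rfl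

theorem scalarTower : IsScalarTower K K[X] (RR b Ω h1 hmul) := by
  apply IsScalarTower.of_algebraMap_eq
  intro x
  rw [algebraMap_eq, Polynomial.algebraMap_apply, Algebra.algebraMap_self, RingHom.id_apply]
  unfold toR
  rw [Polynomial.aeval_C]

theorem val_algebraMap (g : K[X]) :
    ((algebraMap K[X] (RR b Ω h1 hmul) g : RR b Ω h1 hmul) : A[X]) =
      g.map (algebraMap K A) := by
  rw [algebraMap_eq]
  unfold toR
  have h := Polynomial.aeval_algHom_apply (reesSub b Ω h1 hmul).val (XR b Ω h1 hmul) g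
  have h2 : (reesSub b Ω h1 hmul).val (XR b Ω h1 hmul) = (X : A[X]) := rfl
  rw [h2] at h
  have h3 : ((Polynomial.aeval (XR b Ω h1 hmul) g : RR b Ω h1 hmul) : A[X]) =
      (reesSub b Ω h1 hmul).val (Polynomial.aeval (XR b Ω h1 hmul) g) := rfl
  rw [h3, ← h, Polynomial.aeval_X_left_eq_map]

theorem val_smul (g : K[X]) (P : RR b Ω h1 hmul) :
    ((g • P : RR b Ω h1 hmul) : A[X]) = g.map (algebraMap K A) * (P : A[X]) := by
  rw [Algebra.smul_def]
  show ((algebraMap K[X] (RR b Ω h1 hmul) g : RR b Ω h1 hmul) : A[X]) * (P : A[X]) = _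
  rw [val_algebraMap]

/-! ### the fibres at `c ≠ 0` -/

noncomputable def evc (c : K) : RR b Ω h1 hmul →ₐ[K] A :=
  ((Polynomial.aeval (R := A) (algebraMap K A c)).restrictScalars K).comp
    (reesSub b Ω h1 hmul).val

theorem evc_apply (c : K) (P : RR b Ω h1 hmul) :
    evc b Ω h1 hmul c P = (P : A[X]).eval (algebraMap K A c) := by
  unfold evc
  rw [AlgHom.comp_apply, AlgHom.restrictScalars_apply, Polynomial.coe_aeval_eq_eval]
  rfl

theorem evc_surjective (c : K) (hc : c ≠ 0) : Function.Surjective (evc b Ω h1 hmul c) := by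
  intro a
  obtain ⟨p, hp⟩ := exists_mem_Fil b Ω a
  refine ⟨⟨monomial p ((c⁻¹) ^ p • a),
    monomial_mem b Ω h1 hmul (Submodule.smul_mem _ _ hp)⟩, ?_⟩
  rw [evc_apply]
  show (monomial p ((c⁻¹) ^ p • a)).eval (algebraMap K A c) = a
  rw [Polynomial.eval_monomial, ← map_pow, Algebra.smul_def, mul_comm, ← mul_assoc, ← map_mul,
    ← mul_pow, mul_inv_cancel₀ hc, one_pow, map_one, one_mul]

theorem ker_evc (c : K) (hc : c ≠ 0) :
    RingHom.ker (evc b Ω h1 hmul c) =
      Ideal.span {algebraMap K[X] (RR b Ω h1 hmul) (X - C c)} := by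
  have hτ : ((algebraMap K[X] (RR b Ω h1 hmul) (X - C c) : RR b Ω h1 hmul) : A[X]) =
      X - C (algebraMap K A c) := by
    rw [val_algebraMap, Polynomial.map_sub, Polynomial.map_X, Polynomial.map_C]
  apply le_antisymm
  · intro P hP
    rw [RingHom.mem_ker, evc_apply] at hP
    have hroot : (P : A[X]).IsRoot (algebraMap K A c) := hP
    have hmulQ : (X - C (algebraMap K A c)) * ((P : A[X]) /ₘ (X - C (algebraMap K A c))) =
        (P : A[X]) := Polynomial.mul_divByMonic_eq_iff_isRoot.2 hroot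
    have hQmem : (P : A[X]) /ₘ (X - C (algebraMap K A c)) ∈ reesSub b Ω h1 hmul := by
      intro n
      rw [Polynomial.coeff_divByMonic_X_sub_C]
      by_cases hn : (P : A[X]).natDegree ≤ n
      · rw [Finset.Icc_eq_empty (by omega), Finset.sum_empty]
        exact Submodule.zero_mem _
      · have hn' : n + 1 ≤ (P : A[X]).natDegree := by omega
        have hev := hP
        rw [Polynomial.eval_eq_sum_range,
          ← Finset.sum_range_add_sum_Ico _ (show n + 1 ≤ (P : A[X]).natDegree + 1 by omega)]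
          at hev
        have hS1 : ∑ i ∈ Finset.range (n + 1), (P : A[X]).coeff i * algebraMap K A c ^ i ∈
            Fil b Ω n := by
          apply Submodule.sum_mem
          intro i hi
          rw [Finset.mem_range] at hi
          rw [← map_pow, mul_comm, ← Algebra.smul_def]
          exact Submodule.smul_mem _ _ (Fil_mono b Ω (by omega) (P.2 i))
        have hS2 : ∑ i ∈ Finset.Ico (n + 1) ((P : A[X]).natDegree + 1),
            (P : A[X]).coeff i * algebraMap K A c ^ i ∈ Fil b Ω n := by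
          have : ∑ i ∈ Finset.Ico (n + 1) ((P : A[X]).natDegree + 1),
            (P : A[X]).coeff i * algebraMap K A c ^ i =
              - ∑ i ∈ Finset.range (n + 1), (P : A[X]).coeff i * algebraMap K A c ^ i := by
            linear_combination hev
          rw [this]
          exact Submodule.neg_mem _ hS1
        have hx : ∑ i ∈ Finset.Icc (n + 1) (P : A[X]).natDegree,
            algebraMap K A c ^ (i - (n + 1)) * (P : A[X]).coeff i =
            (c⁻¹) ^ (n + 1) • ∑ i ∈ Finset.Ico (n + 1) ((P : A[X]).natDegree + 1),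
              (P : A[X]).coeff i * algebraMap K A c ^ i := by
          rw [Finset.smul_sum]
          have hIcc : Finset.Icc (n + 1) (P : A[X]).natDegree =
              Finset.Ico (n + 1) ((P : A[X]).natDegree + 1) := by
            ext i
            simp only [Finset.mem_Icc, Finset.mem_Ico]
            omega
          rw [hIcc]
          apply Finset.sum_congr rfl
          intro i hi
          rw [Finset.mem_Ico] at hi
          obtain ⟨e, rfl⟩ : ∃ e, i = e + (n + 1) := ⟨i - (n + 1), by omega⟩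
          have huv : algebraMap K A c⁻¹ * algebraMap K A c = 1 := by
            rw [← map_mul, inv_mul_cancel₀ hc, map_one]
          have huv' : (algebraMap K A c⁻¹) ^ (n + 1) * (algebraMap K A c) ^ (n + 1) = 1 := by
            rw [← mul_pow, huv, one_pow]
          rw [Nat.add_sub_cancel, Algebra.smul_def, map_pow, pow_add]
          linear_combination (-((P : A[X]).coeff (e + (n + 1)) * algebraMap K A c ^ e)) * huv'
        rw [hx]
        exact Submodule.smul_mem _ _ hS2
    rw [Ideal.mem_span_singleton]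
    refine ⟨⟨_, hQmem⟩, Subtype.ext ?_⟩
    show (P : A[X]) = ((algebraMap K[X] (RR b Ω h1 hmul) (X - C c) : RR b Ω h1 hmul) : A[X]) *
      ((P : A[X]) /ₘ (X - C (algebraMap K A c)))
    rw [hτ, hmulQ]
  · rw [Ideal.span_le, Set.singleton_subset_iff, SetLike.mem_coe, RingHom.mem_ker, evc_apply, hτ]
    simp

noncomputable def fibreC (c : K) (hc : c ≠ 0) :
    (RR b Ω h1 hmul ⧸ Ideal.span {algebraMap K[X] (RR b Ω h1 hmul) (X - C c)}) ≃ₐ[K] A :=
  (Ideal.quotientEquivAlgOfEq K (ker_evc b Ω h1 hmul c hc).symm).trans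
    (Ideal.quotientKerAlgEquivOfSurjective (evc_surjective b Ω h1 hmul c hc))

/-! ### the fibre at `0` -/

noncomputable def rhoLin : A[X] →ₗ[K] T := Polynomial.lsum (fun p => topP b β Ω p)

theorem rhoLin_monomial (p : ℕ) (a : A) : rhoLin b β Ω (monomial p a) = topP b β Ω p a := by
  unfold rhoLin
  rw [Polynomial.lsum_apply, Polynomial.sum_monomial_index]
  exact map_zero _

theorem rhoLin_eq_sum (P : A[X]) :
    rhoLin b β Ω P = ∑ p ∈ P.support, topP b β Ω p (P.coeff p) := by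
  unfold rhoLin
  rw [Polynomial.lsum_apply, Polynomial.sum_def]

include hmul in
theorem rhoLin_mul (hT : ∀ i j, β i * β j = topP b β Ω (Ω i + Ω j) (b i * b j))
    {P Q : A[X]} (hP : ∀ p, P.coeff p ∈ Fil b Ω p) (hQ : ∀ p, Q.coeff p ∈ Fil b Ω p) :
    rhoLin b β Ω (P * Q) = rhoLin b β Ω P * rhoLin b β Ω Q := by
  conv_lhs => rw [← P.sum_monomial_eq, ← Q.sum_monomial_eq]
  rw [Polynomial.sum_def, Polynomial.sum_def, Finset.sum_mul_sum]
  simp only [map_sum, Polynomial.monomial_mul_monomial, rhoLin_monomial]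
  rw [rhoLin_eq_sum, rhoLin_eq_sum, Finset.sum_mul_sum]
  apply Finset.sum_congr rfl
  intro p _
  apply Finset.sum_congr rfl
  intro q _
  exact topP_mul b β Ω hmul hT (hP p) (hQ q)

noncomputable def rho (i₀ : ι) (hb1 : b i₀ = 1) (hΩ0 : Ω i₀ = 0) (hβ1 : β i₀ = 1)
    (hT : ∀ i j, β i * β j = topP b β Ω (Ω i + Ω j) (b i * b j)) : RR b Ω h1 hmul →ₐ[K] T :=
  AlgHom.ofLinearMap ((rhoLin b β Ω).comp (reesSub b Ω h1 hmul).val.toLinearMap)
    (by
      show rhoLin b β Ω (1 : A[X]) = 1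
      rw [← Polynomial.monomial_zero_one, rhoLin_monomial, ← hb1, topP_basis, if_pos hΩ0, hβ1])
    (by
      intro P Q
      show rhoLin b β Ω ((P : A[X]) * (Q : A[X])) = rhoLin b β Ω P * rhoLin b β Ω Q
      exact rhoLin_mul b β Ω hmul hT P.2 Q.2)

theorem rho_apply (i₀ : ι) (hb1 : b i₀ = 1) (hΩ0 : Ω i₀ = 0) (hβ1 : β i₀ = 1)
    (hT : ∀ i j, β i * β j = topP b β Ω (Ω i + Ω j) (b i * b j)) (P : RR b Ω h1 hmul) :
    rho b β Ω h1 hmul i₀ hb1 hΩ0 hβ1 hT P = rhoLin b β Ω (P : A[X]) := rfl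

theorem rho_surjective (i₀ : ι) (hb1 : b i₀ = 1) (hΩ0 : Ω i₀ = 0) (hβ1 : β i₀ = 1)
    (hT : ∀ i j, β i * β j = topP b β Ω (Ω i + Ω j) (b i * b j)) :
    Function.Surjective (rho b β Ω h1 hmul i₀ hb1 hΩ0 hβ1 hT) := by
  have hle : Submodule.span K (Set.range β) ≤
      LinearMap.range (rho b β Ω h1 hmul i₀ hb1 hΩ0 hβ1 hT).toLinearMap := by
    rw [Submodule.span_le]
    rintro _ ⟨i, rfl⟩
    refine ⟨⟨monomial (Ω i) (b i), monomial_mem b Ω h1 hmul (basis_mem_Fil b Ω i le_rfl)⟩, ?_⟩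
    show rhoLin b β Ω (monomial (Ω i) (b i)) = β i
    rw [rhoLin_monomial, topP_basis, if_pos rfl]
  intro y
  obtain ⟨P, hP⟩ := hle (β.mem_span y)
  exact ⟨P, hP⟩

theorem ker_rho (i₀ : ι) (hb1 : b i₀ = 1) (hΩ0 : Ω i₀ = 0) (hβ1 : β i₀ = 1)
    (hT : ∀ i j, β i * β j = topP b β Ω (Ω i + Ω j) (b i * b j)) :
    RingHom.ker (rho b β Ω h1 hmul i₀ hb1 hΩ0 hβ1 hT) =
      Ideal.span {algebraMap K[X] (RR b Ω h1 hmul) X} := by
  classical
  have hτ : ((algebraMap K[X] (RR b Ω h1 hmul) X : RR b Ω h1 hmul) : A[X]) = X := by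
    rw [val_algebraMap, Polynomial.map_X]
  apply le_antisymm
  · intro P hP
    rw [RingHom.mem_ker, rho_apply] at hP
    have hK : ∀ i, b.repr ((P : A[X]).coeff (Ω i)) i = 0 := by
      intro i
      have h2 : β.repr (rhoLin b β Ω (P : A[X])) i = 0 := by
        rw [hP, map_zero, Finsupp.zero_apply]
      rw [rhoLin_eq_sum, map_sum, Finsupp.finsetSum_apply] at h2
      simp only [repr_topP] at h2
      rw [Finset.sum_ite_eq] at h2
      by_cases hmem : Ω i ∈ (P : A[X]).support
      · rw [if_pos hmem] at h2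
        exact h2
      · rw [Polynomial.notMem_support_iff] at hmem
        rw [hmem, map_zero, Finsupp.zero_apply]
    have hlow : ∀ p, (P : A[X]).coeff (p + 1) ∈ Fil b Ω p := by
      intro p i hi
      have h3 := P.2 (p + 1) i hi
      by_contra hlt
      have h4 : Ω i = p + 1 := by omega
      apply hi
      rw [← h4]
      exact hK i
    have h0 : (P : A[X]).coeff 0 = 0 := by
      apply b.repr.injective
      ext i
      rw [map_zero, Finsupp.zero_apply]
      by_contra hne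
      have h3 := P.2 0 i hne
      have h4 : Ω i = 0 := by omega
      apply hne
      rw [← h4]
      exact hK i
    have hQ : divX (P : A[X]) ∈ reesSub b Ω h1 hmul := by
      intro p
      rw [coeff_divX]
      exact hlow p
    rw [Ideal.mem_span_singleton]
    refine ⟨⟨divX (P : A[X]), hQ⟩, Subtype.ext ?_⟩
    show (P : A[X]) = ((algebraMap K[X] (RR b Ω h1 hmul) X : RR b Ω h1 hmul) : A[X]) *
      divX (P : A[X])
    rw [hτ]
    conv_lhs => rw [← Polynomial.X_mul_divX_add (P : A[X]), h0, map_zero, add_zero]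
  · rw [Ideal.span_le, Set.singleton_subset_iff, SetLike.mem_coe, RingHom.mem_ker, rho_apply, hτ,
      ← monomial_one_one_eq_X, rhoLin_monomial]
    exact topP_eq_zero_of_lt b β Ω h1 Nat.zero_lt_one

noncomputable def fibre0 (i₀ : ι) (hb1 : b i₀ = 1) (hΩ0 : Ω i₀ = 0) (hβ1 : β i₀ = 1)
    (hT : ∀ i j, β i * β j = topP b β Ω (Ω i + Ω j) (b i * b j)) :
    (RR b Ω h1 hmul ⧸ Ideal.span {algebraMap K[X] (RR b Ω h1 hmul) X}) ≃ₐ[K] T :=
  (Ideal.quotientEquivAlgOfEq K (ker_rho b β Ω h1 hmul i₀ hb1 hΩ0 hβ1 hT).symm).trans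
    (Ideal.quotientKerAlgEquivOfSurjective (rho_surjective b β Ω h1 hmul i₀ hb1 hΩ0 hβ1 hT))

/-! ### freeness -/

noncomputable def eR (i : ι) : RR b Ω h1 hmul :=
  ⟨monomial (Ω i) (b i), monomial_mem b Ω h1 hmul (basis_mem_Fil b Ω i le_rfl)⟩

theorem coeff_smul_eR (g : K[X]) (i : ι) (d : ℕ) :
    ((g • eR b Ω h1 hmul i : RR b Ω h1 hmul) : A[X]).coeff d =
      (if Ω i ≤ d then g.coeff (d - Ω i) else 0) • b i := by
  rw [val_smul]
  show (g.map (algebraMap K A) * monomial (Ω i) (b i)).coeff d = _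
  rw [← Polynomial.C_mul_X_pow_eq_monomial, ← mul_assoc, Polynomial.coeff_mul_X_pow',
    Polynomial.coeff_mul_C, Polynomial.coeff_map]
  by_cases h : Ω i ≤ d
  · rw [if_pos h, if_pos h, Algebra.smul_def]
  · rw [if_neg h, if_neg h, zero_smul]

theorem eR_linearIndependent : LinearIndependent K[X] (eR b Ω h1 hmul) := by
  classical
  rw [linearIndependent_iff']
  intro s g hsum i₁ hi₁
  ext k
  rw [Polynomial.coeff_zero]
  have h2 : ((∑ i ∈ s, g i • eR b Ω h1 hmul i : RR b Ω h1 hmul) : A[X]).coeff (k + Ω i₁) = 0 := by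
    rw [hsum]
    rfl
  rw [AddSubmonoidClass.coe_finsetSum, Polynomial.finsetSum_coeff] at h2
  simp only [coeff_smul_eR] at h2
  have h3 := (linearIndependent_iff'.1 b.linearIndependent) s _ h2 i₁ hi₁
  rw [if_pos (Nat.le_add_left _ _), Nat.add_sub_cancel] at h3
  exact h3

theorem eR_span : ⊤ ≤ Submodule.span K[X] (Set.range (eR b Ω h1 hmul)) := by
  haveI := scalarTower b Ω h1 hmul
  rintro P -
  -- the image of the span in `A[X]`, as a `K`-submodule
  let S' : Submodule K A[X] := Submodule.map (reesSub b Ω h1 hmul).val.toLinearMap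
    ((Submodule.span K[X] (Set.range (eR b Ω h1 hmul))).restrictScalars K)
  have hbasis : ∀ (i : ι) (p : ℕ), Ω i ≤ p → monomial p (b i) ∈ S' := by
    intro i p hip
    refine ⟨(X ^ (p - Ω i) : K[X]) • eR b Ω h1 hmul i,
      Submodule.smul_mem _ _ (Submodule.subset_span (Set.mem_range_self i)), ?_⟩
    show (((X ^ (p - Ω i) : K[X]) • eR b Ω h1 hmul i : RR b Ω h1 hmul) : A[X]) = _
    rw [val_smul, Polynomial.map_pow, Polynomial.map_X]
    show X ^ (p - Ω i) * monomial (Ω i) (b i) = _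
    rw [Polynomial.X_pow_mul_monomial, Nat.add_sub_of_le hip]
  have hmon : ∀ (p : ℕ) (a : A), a ∈ Fil b Ω p → monomial p a ∈ S' := by
    intro p a ha
    obtain ⟨s, c, hs, rfl⟩ := exists_sum_of_mem_Fil b Ω ha
    rw [map_sum]
    apply Submodule.sum_mem
    intro i hi
    rw [← Polynomial.smul_monomial]
    exact Submodule.smul_mem _ _ (hbasis i p (hs i hi))
  have hP : (P : A[X]) ∈ S' := by
    rw [← (P : A[X]).sum_monomial_eq, Polynomial.sum_def]
    apply Submodule.sum_mem
    intro p _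
    exact hmon p _ (P.2 p)
  obtain ⟨y, hy, hyP⟩ := hP
  have : y = P := Subtype.ext hyP
  rw [← this]
  exact hy

theorem free : Module.Free K[X] (RR b Ω h1 hmul) :=
  Module.Free.of_basis (Basis.mk (eR_linearIndependent b Ω h1 hmul) (eR_span b Ω h1 hmul))

omit h1 hmul in
/-- the abstract Rees degeneration theorem -/
theorem main (i₀ : ι) (hb1 : b i₀ = 1) (hΩ0 : Ω i₀ = 0) (hβ1 : β i₀ = 1)
    (hmul : ∀ i j, b i * b j ∈ Fil b Ω (Ω i + Ω j))
    (hT : ∀ i j, β i * β j = topP b β Ω (Ω i + Ω j) (b i * b j)) :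
    ∃ (R : Type u) (_ : CommRing R) (_ : Algebra K R) (_ : Algebra K[X] R)
      (_ : IsScalarTower K K[X] R),
      Module.Free K[X] R ∧ Nonempty ((R ⧸ Ideal.span {algebraMap K[X] R X}) ≃ₐ[K] T) ∧
      ∀ c : K, c ≠ 0 → Nonempty ((R ⧸ Ideal.span {algebraMap K[X] R (X - C c)}) ≃ₐ[K] A) := by
  have h1 : (1 : A) ∈ Fil b Ω 0 := by
    rw [← hb1]
    exact basis_mem_Fil b Ω i₀ (le_of_eq hΩ0)
  exact ⟨RR b Ω h1 hmul, inferInstance, inferInstance, algKX b Ω h1 hmul,
    scalarTower b Ω h1 hmul, free b Ω h1 hmul,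
    ⟨fibre0 b β Ω h1 hmul i₀ hb1 hΩ0 hβ1 hT⟩, fun c hc => ⟨fibreC b Ω h1 hmul c hc⟩⟩

end Groth.Agent.H9.Rdg
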