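import Mathlib

/-! Helper9: Stanley–Reisner ring of a poset: monomial basis. -/

namespace Groth.Agent.H9.SR
open MvPolynomial

universe u v
variable {K : Type u} [Field K] {L : Type v} [Preorder L]

/-- a monomial is good when its support is a chain -/
def good (s : L →₀ ℕ) : Prop := ∀ a ∈ s.support, ∀ b ∈ s.support, a ≤ b ∨ b ≤ a

variable (K L) in
/-- the Stanley–Reisner ideal -/
noncomputable def I : Ideal (MvPolynomial L K) :=
  Ideal.span {f : MvPolynomial L K | ∃ a b : L, ¬ a ≤ b ∧ ¬ b ≤ a ∧
          f = MvPolynomial.X a * MvPolynomial.X b}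

lemma good_of_le {s t : L →₀ ℕ} (h : s ≤ t) (ht : good t) : good s := by
  intro a ha b hb
  have h1 : s.support ⊆ t.support := Finsupp.support_mono h
  exact ht a (h1 ha) b (h1 hb)

lemma coeff_eq_zero_of_mem {f : MvPolynomial L K} (hf : f ∈ I K L) {s : L →₀ ℕ} (hs : good s) :
    coeff s f = 0 := by
  classical
  unfold I at hf
  rw [Ideal.span, ] at hf
  induction hf using Submodule.span_induction generalizing s with
  | mem x hx =>
    obtain ⟨a, b, hab, hba, rfl⟩ := hx
    rw [coeff_X_mul']
    split_ifs with h
    · rw [coeff_X]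
      split_ifs with h2
      · exfalso
        have hb : b ∈ s.support := by
          have : b ∈ (s - Finsupp.single a 1).support := by rw [← h2]; simp
          exact Finsupp.support_mono (tsub_le_self) this
        rcases hs a h b hb with h3 | h3
        · exact hab h3
        · exact hba h3
      · rfl
    · rfl
  | zero => simp
  | add x y _ _ hx hy => rw [coeff_add, hx hs, hy hs, add_zero]
  | smul r x _ hx =>
    rw [smul_eq_mul, coeff_mul]
    apply Finset.sum_eq_zero
    intro p hp
    have : p.2 ≤ s := by
      have hp' := Finset.HasAntidiagonal.mem_antidiagonal.mp hp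
      rw [← hp']; exact le_add_self
    rw [hx (good_of_le this hs), mul_zero]

lemma monomial_mem_of_not_good {s : L →₀ ℕ} (hs : ¬ good s) (c : K) :
    monomial s c ∈ I K L := by
  classical
  unfold good at hs
  push Not at hs
  obtain ⟨a, ha, b, hb, hab, hba⟩ := hs
  have hne : a ≠ b := by
    rintro rfl
    exact hab le_rfl
  have hle : Finsupp.single a 1 + Finsupp.single b 1 ≤ s := by
    intro x
    rw [Finsupp.add_apply]
    by_cases hxa : x = a
    · subst hxa
      rw [Finsupp.single_eq_same, Finsupp.single_eq_of_ne hne, add_zero]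
      exact Nat.one_le_iff_ne_zero.mpr (Finsupp.mem_support_iff.mp ha)
    · by_cases hxb : x = b
      · subst hxb
        rw [Finsupp.single_eq_same, Finsupp.single_eq_of_ne hxa, zero_add]
        exact Nat.one_le_iff_ne_zero.mpr (Finsupp.mem_support_iff.mp hb)
      · rw [Finsupp.single_eq_of_ne hxa, Finsupp.single_eq_of_ne hxb]
        exact Nat.zero_le _
  have h1 : monomial s c = monomial (s - (Finsupp.single a 1 + Finsupp.single b 1)) c * (X a * X b) := by
    rw [X, X, monomial_mul, monomial_mul, mul_one, mul_one, tsub_add_cancel_of_le hle]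
  rw [h1]
  apply Ideal.mul_mem_left
  exact Ideal.subset_span ⟨a, b, hab, hba, rfl⟩

section main
variable [Fintype L]

open Classical in
/-- good monomials of degree `m` -/
noncomputable def Gm (m : ℕ) : Finset (L →₀ ℕ) :=
  ((Finset.univ : Finset L).finsuppAntidiag m).filter good

lemma mem_Gm {m : ℕ} {s : L →₀ ℕ} : s ∈ Gm (L := L) m ↔ s.degree = m ∧ good s := by
  classical
  unfold Gm
  rw [Finset.mem_filter, Finset.mem_finsuppAntidiag]
  constructor
  · rintro ⟨⟨h1, -⟩, h2⟩
    refine ⟨?_, h2⟩
    rw [← h1, Finsupp.degree_eq_sum]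
  · rintro ⟨h1, h2⟩
    refine ⟨⟨?_, Finset.subset_univ _⟩, h2⟩
    rw [← h1, Finsupp.degree_eq_sum]

variable (K) in
/-- the images of the good monomials -/
noncomputable def vec (m : ℕ) (s : Gm (L := L) m) : MvPolynomial L K ⧸ I K L :=
  Ideal.Quotient.mk (I K L) (monomial s.1 1)

lemma linIndep (m : ℕ) : LinearIndependent K (vec K (L := L) m) := by
  classical
  rw [Fintype.linearIndependent_iff]
  intro g hg s₀
  have h1 : (∑ s : Gm (L := L) m, g s • vec K m s)
      = Ideal.Quotient.mk (I K L) (∑ s : Gm (L := L) m, monomial s.1 (g s)) := by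
    rw [map_sum]
    apply Finset.sum_congr rfl
    intro s _
    unfold vec
    rw [← Ideal.Quotient.mkₐ_eq_mk K, ← map_smul, smul_monomial, smul_eq_mul, mul_one]
  rw [h1, Ideal.Quotient.eq_zero_iff_mem] at hg
  have h2 := coeff_eq_zero_of_mem hg (mem_Gm.mp s₀.2).2
  rw [coeff_sum] at h2
  rw [Finset.sum_eq_single s₀] at h2
  · simpa using h2
  · intro b _ hb
    rw [coeff_monomial, if_neg]
    intro h
    exact hb (Subtype.ext h)
  · intro h
    exact absurd (Finset.mem_univ _) h

lemma span_eq (m : ℕ) :
    Submodule.span K (Set.range (vec K (L := L) m)) =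
      (MvPolynomial.homogeneousSubmodule L K m).map
        (Ideal.Quotient.mkₐ K (I K L)).toLinearMap := by
  classical
  apply le_antisymm
  · rw [Submodule.span_le]
    rintro _ ⟨s, rfl⟩
    refine ⟨monomial s.1 1, ?_, rfl⟩
    rw [SetLike.mem_coe, mem_homogeneousSubmodule]
    exact isHomogeneous_monomial 1 (mem_Gm.mp s.2).1
  · rintro _ ⟨f, hf, rfl⟩
    rw [SetLike.mem_coe, mem_homogeneousSubmodule] at hf
    rw [f.as_sum, map_sum]
    apply Submodule.sum_mem
    intro s hs
    by_cases hgood : good s
    · have hdeg : s.degree = m := by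
        have := hf (mem_support_iff.mp hs)
        rw [Finsupp.degree_eq_weight_one]
        exact this
      have hsG : s ∈ Gm (L := L) m := mem_Gm.mpr ⟨hdeg, hgood⟩
      have h3 : (Ideal.Quotient.mkₐ K (I K L)).toLinearMap (monomial s (coeff s f))
          = coeff s f • vec K m ⟨s, hsG⟩ := by
        unfold vec
        rw [← Ideal.Quotient.mkₐ_eq_mk K, ← map_smul, smul_monomial, smul_eq_mul, mul_one]
        rfl
      rw [h3]
      exact Submodule.smul_mem _ _ (Submodule.subset_span ⟨_, rfl⟩)
    · have h3 : (Ideal.Quotient.mkₐ K (I K L)).toLinearMap (monomial s (coeff s f)) = 0 := by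
        show Ideal.Quotient.mk (I K L) _ = 0
        rw [Ideal.Quotient.eq_zero_iff_mem]
        exact monomial_mem_of_not_good hgood _
      rw [h3]
      exact Submodule.zero_mem _

theorem finrank_eq (m : ℕ) :
    Module.finrank K ((MvPolynomial.homogeneousSubmodule L K m).map
        (Ideal.Quotient.mkₐ K (I K L)).toLinearMap) = (Gm (L := L) m).card := by
  rw [← span_eq, finrank_span_eq_card (linIndep m), Fintype.card_coe]

end main

end Groth.Agent.H9.SR
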