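import Mathlib
import Groth.Prelude.Def_W4bk4grassmannianPl
import Groth.Agent.Lib.Helper9.Misc.SrdA
import Groth.Agent.Lib.Helper9.Misc.RdgB
import Groth.Agent.Lib.Helper9.Misc.LdtE
import Groth.Agent.Lib.Helper9.Misc.SRH1

set_option autoImplicit false
set_option linter.unusedSectionVars false
set_option linter.unusedVariables false
set_option linter.style.haveILetI false

open W4bk4grassmannian MvPolynomial Module
open Groth.Agent.H9

namespace Groth.Agent.H9.Srd

universe u

section generic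

theorem prod_X_eq_monomial {K : Type*} [CommRing K] {σ : Type*} [DecidableEq σ] (M : Multiset σ) :
    (M.map (fun a => (X a : MvPolynomial σ K))).prod = monomial (Multiset.toFinsupp M) 1 := by
  induction M using Multiset.induction_on with
  | empty => simp
  | cons a M ih =>
    rw [Multiset.map_cons, Multiset.prod_cons, ih, ← Multiset.singleton_add,
      Multiset.toFinsupp_add, Multiset.toFinsupp_singleton, MvPolynomial.monomial_single_add,
      pow_one]

end generic

variable (K : Type u) [Field K] {d n : ℕ} (w : Idx d n)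

/-- chain multisets in `H(w)` -/
abbrev Iw : Type := {M : Multiset (Below w) // ∀ a ∈ M, ∀ b ∈ M, a ≤ b ∨ b ≤ a}

def vM (M : Multiset (Below w)) : Multiset (Idx d n) := M.map Subtype.val

theorem vM_add (M M' : Multiset (Below w)) : vM w (M + M') = vM w M + vM w M' := by
  unfold vM
  rw [Multiset.map_add]

theorem card_vM (M : Multiset (Below w)) : (vM w M).card = M.card := by
  unfold vM
  rw [Multiset.card_map]

theorem isCh_vM (M : Iw w) : SMT.IsCh (vM w M.1) := by
  intro a ha b hb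
  obtain ⟨a', ha', rfl⟩ := Multiset.mem_map.1 ha
  obtain ⟨b', hb', rfl⟩ := Multiset.mem_map.1 hb
  exact M.2 a' ha' b' hb'

theorem lift_below (N : Multiset (Idx d n)) (h : ∀ a ∈ N, a ≤ w) :
    ∃ M₀ : Multiset (Below w), vM w M₀ = N := by
  refine ⟨N.pmap (fun a ha => (⟨a, ha⟩ : Below w)) h, ?_⟩
  unfold vM
  rw [Multiset.map_pmap]
  simp only
  rw [Multiset.pmap_eq_map, Multiset.map_id']

theorem prodX_injective : Function.Injective (SMT.prodX (d := d) (n := n) K) := by
  classical
  intro M M' h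
  unfold SMT.prodX at h
  rw [prod_X_eq_monomial, prod_X_eq_monomial] at h
  exact Multiset.toFinsupp.injective (MvPolynomial.monomial_left_injective one_ne_zero h)

noncomputable def bfun (M : Iw w) : PlRing K d n ⧸ schubertVanishing K d n w :=
  Ideal.Quotient.mk _ (SMT.prodX K (vM w M.1))

noncomputable def βfun (M : Iw w) : MvPolynomial (Below w) K ⧸ srIdeal K w :=
  Ideal.Quotient.mk _ ((M.1.map (fun a => (X a : MvPolynomial (Below w) K))).prod)

def Ωfun (M : Iw w) : ℕ := M.1.card * (d * n) ^ 2 - SMT.PP (vM w M.1)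

theorem li_b [Infinite K] (hd : 0 < d) : LinearIndependent K (bfun K w) := by
  classical
  choose c hc1 hc2 using fun M : Iw w => SMT.exists_chain K (vM w M.1) (isCh_vM w M)
  have hcinj : Function.Injective c := by
    intro M M' h
    have h1 : SMT.prodX K (vM w M.1) = SMT.prodX K (vM w M'.1) := by
      rw [← hc1, ← hc1, h]
    have h2 : vM w M.1 = vM w M'.1 := prodX_injective K h1
    exact Subtype.ext (Multiset.map_injective Subtype.val_injective h2)
  rw [linearIndependent_iff']
  intro s g hsum M hM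
  have hF : ∑ i ∈ s, g i • chainMon K (c i).2.1 ∈ schubertVanishing K d n w := by
    rw [← Ideal.Quotient.eq_zero_iff_mem, map_sum, ← hsum]
    apply Finset.sum_congr rfl
    intro i _
    rw [hc1]
    rfl
  exact Ldt.indep_schubert K hd c hcinj s g w hF M hM (fun k => by
    obtain ⟨a, _, ha⟩ := Multiset.mem_map.1 (hc2 M k)
    rw [← ha]
    exact a.2)

/-- span of the standard monomials of degree `k` with `PP ≥ P` -/
noncomputable def Wsp (k P : ℕ) : Submodule K (PlRing K d n ⧸ schubertVanishing K d n w) :=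
  Submodule.span K (bfun K w '' {i : Iw w | i.1.card = k ∧ P ≤ SMT.PP (vM w i.1)})

theorem gen_mem (N : Multiset (Idx d n)) (hch : SMT.IsCh N) (k P : ℕ) (hk : N.card = k)
    (hP : P ≤ SMT.PP N) :
    Ideal.Quotient.mk (schubertVanishing K d n w) (SMT.prodX K N) ∈ Wsp K w k P := by
  by_cases hall : ∀ a ∈ N, a ≤ w
  · obtain ⟨M₀, hM₀⟩ := lift_below w N hall
    have hchain : ∀ a ∈ M₀, ∀ b ∈ M₀, a ≤ b ∨ b ≤ a := by
      intro a ha b hb
      have ha' : a.1 ∈ N := by
        rw [← hM₀]
        exact Multiset.mem_map_of_mem _ ha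
      have hb' : b.1 ∈ N := by
        rw [← hM₀]
        exact Multiset.mem_map_of_mem _ hb
      exact hch a.1 ha' b.1 hb'
    refine Submodule.subset_span ⟨⟨M₀, hchain⟩, ⟨?_, ?_⟩, ?_⟩
    · rw [← card_vM w M₀, hM₀, hk]
    · show P ≤ SMT.PP (vM w M₀)
      rw [hM₀]
      exact hP
    · unfold bfun
      rw [hM₀]
  · push Not at hall
    obtain ⟨a, ha, haw⟩ := hall
    have h0 : SMT.prodX K N ∈ schubertVanishing K d n w := by
      rw [← Multiset.cons_erase ha, SMT.prodX_cons]
      exact Ideal.mul_mem_right _ _ (Shf.X_mem_schubert K w a haw)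
    rw [Ideal.Quotient.eq_zero_iff_mem.2 h0]
    exact Submodule.zero_mem _

theorem image_VVr (k P : ℕ) (p : PlRing K d n)
    (hp : Ideal.Quotient.mk (plIdealTop (d := d) (n := n) K) p ∈ SMT.VVr K k P) :
    Ideal.Quotient.mk (schubertVanishing K d n w) p ∈ Wsp K w k P := by
  have hle : SMT.VVr (d := d) (n := n) K k P ≤ (Wsp K w k P).comap
      (Ideal.Quotient.factorₐ K (Shf.plIdealTop_le_schubert K w)).toLinearMap := by
    unfold SMT.VVr
    rw [Submodule.span_le]
    rintro x ⟨N, h1, h2, h3, rfl⟩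
    rw [SetLike.mem_coe, Submodule.mem_comap]
    exact gen_mem K w N h1 k P h2 h3
  exact hle hp

theorem mkJ_prodX_mem (N : Multiset (Idx d n)) :
    Ideal.Quotient.mk (schubertVanishing K d n w) (SMT.prodX K N) ∈
      Wsp K w N.card (SMT.PP N) :=
  image_VVr K w _ _ _ (SMT.prodX_mem_r K N).1

theorem mkJ_prodX_mem' (N : Multiset (Idx d n)) (hN : ¬ SMT.IsCh N) :
    Ideal.Quotient.mk (schubertVanishing K d n w) (SMT.prodX K N) ∈
      Wsp K w N.card (SMT.PP N + 1) :=
  image_VVr K w _ _ _ ((SMT.prodX_mem_r K N).2 hN)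

theorem Wsp_le_range (k P : ℕ) : Wsp K w k P ≤ Submodule.span K (Set.range (bfun K w)) := by
  unfold Wsp
  apply Submodule.span_mono
  rintro _ ⟨i, _, rfl⟩
  exact ⟨i, rfl⟩

theorem span_b : ⊤ ≤ Submodule.span K (Set.range (bfun K w)) := by
  classical
  rintro x -
  obtain ⟨p, rfl⟩ := Ideal.Quotient.mk_surjective x
  rw [p.as_sum, map_sum]
  apply Submodule.sum_mem
  intro v _
  have h1 : monomial v (coeff v p) = coeff v p • SMT.prodX K (Finsupp.toMultiset v) := by
    unfold SMT.prodX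
    rw [prod_X_eq_monomial, Finsupp.toMultiset_toFinsupp, smul_monomial, smul_eq_mul, mul_one]
  rw [h1]
  have h2 : Ideal.Quotient.mk (schubertVanishing K d n w)
      (coeff v p • SMT.prodX K (Finsupp.toMultiset v)) =
      coeff v p • Ideal.Quotient.mk (schubertVanishing K d n w)
        (SMT.prodX K (Finsupp.toMultiset v)) := rfl
  rw [h2]
  exact Submodule.smul_mem _ _ (Wsp_le_range K w _ _ (mkJ_prodX_mem K w _))

theorem good_iff (M : Multiset (Below w)) [DecidableEq (Below w)] :
    SR.good (Multiset.toFinsupp M) ↔ ∀ a ∈ M, ∀ b ∈ M, a ≤ b ∨ b ≤ a := by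
  unfold SR.good
  simp only [Multiset.toFinsupp_support, Multiset.mem_toFinset]

theorem li_β : LinearIndependent K (βfun K w) := by
  classical
  rw [linearIndependent_iff']
  intro s g hsum M hM
  have hF : ∑ i ∈ s, g i • monomial (Multiset.toFinsupp i.1) (1 : K) ∈ SR.I K (Below w) := by
    show _ ∈ srIdeal K w
    rw [← Ideal.Quotient.eq_zero_iff_mem, map_sum, ← hsum]
    apply Finset.sum_congr rfl
    intro i _
    unfold βfun
    rw [prod_X_eq_monomial]
    rfl
  have h0 := SR.coeff_eq_zero_of_mem hF ((good_iff w M.1).2 M.2)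
  rw [coeff_sum, Finset.sum_eq_single M] at h0
  · rw [coeff_smul, coeff_monomial, if_pos rfl, smul_eq_mul, mul_one] at h0
    exact h0
  · intro i _ hne
    rw [coeff_smul, coeff_monomial, if_neg, smul_zero]
    intro h
    exact hne (Subtype.ext (Multiset.toFinsupp.injective h))
  · intro h
    exact absurd hM h

theorem span_β : ⊤ ≤ Submodule.span K (Set.range (βfun K w)) := by
  classical
  rintro x -
  obtain ⟨p, rfl⟩ := Ideal.Quotient.mk_surjective x
  rw [p.as_sum, map_sum]
  apply Submodule.sum_mem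
  intro v _
  by_cases hv : SR.good v
  · have hv' : ∀ a ∈ Finsupp.toMultiset v, ∀ b ∈ Finsupp.toMultiset v, a ≤ b ∨ b ≤ a := by
      rw [← good_iff, Finsupp.toMultiset_toFinsupp]
      exact hv
    have h1 : monomial v (coeff v p) = coeff v p •
        ((Finsupp.toMultiset v).map (fun a => (X a : MvPolynomial (Below w) K))).prod := by
      rw [prod_X_eq_monomial, Finsupp.toMultiset_toFinsupp, smul_monomial, smul_eq_mul, mul_one]
    rw [h1]
    have h2 : Ideal.Quotient.mk (srIdeal K w) (coeff v p •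
        ((Finsupp.toMultiset v).map (fun a => (X a : MvPolynomial (Below w) K))).prod) =
        coeff v p • βfun K w ⟨Finsupp.toMultiset v, hv'⟩ := rfl
    rw [h2]
    exact Submodule.smul_mem _ _ (Submodule.subset_span ⟨_, rfl⟩)
  · have h0 : monomial v (coeff v p) ∈ srIdeal K w :=
      SR.monomial_mem_of_not_good hv _
    rw [Ideal.Quotient.eq_zero_iff_mem.2 h0]
    exact Submodule.zero_mem _

noncomputable def bB [Infinite K] (hd : 0 < d) :
    Basis (Iw w) K (PlRing K d n ⧸ schubertVanishing K d n w) :=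
  Basis.mk (li_b K w hd) (span_b K w)

noncomputable def βB : Basis (Iw w) K (MvPolynomial (Below w) K ⧸ srIdeal K w) :=
  Basis.mk (li_β K w) (span_β K w)

theorem bB_apply [Infinite K] (hd : 0 < d) (M : Iw w) : bB K w hd M = bfun K w M := by
  unfold bB
  rw [Basis.mk_apply]

theorem βB_apply (M : Iw w) : βB K w M = βfun K w M := by
  unfold βB
  rw [Basis.mk_apply]

theorem bfun_mul (M M' : Iw w) : bfun K w M * bfun K w M' =
    Ideal.Quotient.mk _ (SMT.prodX K (vM w (M.1 + M'.1))) := by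
  unfold bfun
  rw [← map_mul, ← SMT.prodX_add, vM_add]

theorem Ω_add (M M' : Iw w) :
    (vM w (M.1 + M'.1)).card * (d * n) ^ 2 - SMT.PP (vM w (M.1 + M'.1)) =
      Ωfun w M + Ωfun w M' := by
  unfold Ωfun
  have h1 := SMT.PP_le (vM w M.1)
  have h2 := SMT.PP_le (vM w M'.1)
  rw [card_vM] at h1 h2
  rw [card_vM, Multiset.card_add, vM_add, SMT.PP_add, add_mul]
  omega

theorem Wsp_le_Fil [Infinite K] (hd : 0 < d) (k P : ℕ) :
    Wsp K w k P ≤ Rdg.Fil (bB K w hd) (Ωfun w) (k * (d * n) ^ 2 - P) := by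
  unfold Wsp
  rw [Submodule.span_le]
  rintro _ ⟨i, ⟨hi1, hi2⟩, rfl⟩
  rw [← bB_apply K w hd]
  apply Rdg.basis_mem_Fil
  unfold Ωfun
  rw [hi1]
  omega

theorem hmul_b [Infinite K] (hd : 0 < d) (M M' : Iw w) :
    bB K w hd M * bB K w hd M' ∈
      Rdg.Fil (bB K w hd) (Ωfun w) (Ωfun w M + Ωfun w M') := by
  rw [bB_apply, bB_apply, bfun_mul, ← Ω_add]
  exact Wsp_le_Fil K w hd _ _ (mkJ_prodX_mem K w _)

theorem Wsp_le_ker [Infinite K] (hd : 0 < d) (k P : ℕ) :
    Wsp K w k (P + 1) ≤ LinearMap.ker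
      (Rdg.topP (bB K w hd) (βB K w) (Ωfun w) (k * (d * n) ^ 2 - P)) := by
  unfold Wsp
  rw [Submodule.span_le]
  rintro _ ⟨i, ⟨hi1, hi2⟩, rfl⟩
  rw [SetLike.mem_coe, LinearMap.mem_ker, ← bB_apply K w hd, Rdg.topP_basis, if_neg]
  unfold Ωfun
  have h1 := SMT.PP_le (vM w i.1)
  rw [card_vM, hi1] at h1
  rw [hi1]
  omega

theorem hT_b [Infinite K] (hd : 0 < d) (M M' : Iw w) :
    βB K w M * βB K w M' =
      Rdg.topP (bB K w hd) (βB K w) (Ωfun w) (Ωfun w M + Ωfun w M')
        (bB K w hd M * bB K w hd M') := by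
  classical
  by_cases hch : ∀ a ∈ M.1 + M'.1, ∀ b ∈ M.1 + M'.1, a ≤ b ∨ b ≤ a
  · have h1 : bB K w hd M * bB K w hd M' = bB K w hd ⟨M.1 + M'.1, hch⟩ := by
      rw [bB_apply, bB_apply, bB_apply, bfun_mul]
      rfl
    have h2 : βB K w M * βB K w M' = βB K w ⟨M.1 + M'.1, hch⟩ := by
      rw [βB_apply, βB_apply, βB_apply]
      unfold βfun
      rw [← map_mul, ← Multiset.prod_add, ← Multiset.map_add]
    have h3 : Ωfun w ⟨M.1 + M'.1, hch⟩ = Ωfun w M + Ωfun w M' := by
      rw [← Ω_add]
      unfold Ωfun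
      rw [card_vM]
    rw [h1, h2, Rdg.topP_basis, if_pos h3]
  · have hL : βB K w M * βB K w M' = 0 := by
      rw [βB_apply, βB_apply]
      unfold βfun
      rw [← map_mul, ← Multiset.prod_add, ← Multiset.map_add, prod_X_eq_monomial,
        Ideal.Quotient.eq_zero_iff_mem]
      exact SR.monomial_mem_of_not_good (fun hg => hch ((good_iff w _).1 hg)) _
    have hN : ¬ SMT.IsCh (vM w (M.1 + M'.1)) := by
      intro hc
      apply hch
      intro a ha b hb
      exact hc a.1 (Multiset.mem_map_of_mem _ ha) b.1 (Multiset.mem_map_of_mem _ hb)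
    have hR := Wsp_le_ker K w hd _ _ (mkJ_prodX_mem' K w _ hN)
    rw [LinearMap.mem_ker, Ω_add] at hR
    rw [hL, bB_apply, bB_apply, bfun_mul, hR]

theorem main [Infinite K] (hd : 0 < d) :
    ∃ (R : Type u) (_ : CommRing R) (_ : Algebra K R) (_ : Algebra (Polynomial K) R)
      (_ : IsScalarTower K (Polynomial K) R),
      Module.Free (Polynomial K) R ∧
      Nonempty ((R ⧸ Ideal.span {algebraMap (Polynomial K) R Polynomial.X}) ≃ₐ[K]
        (MvPolynomial (Below w) K ⧸ srIdeal K w)) ∧
      ∀ c : K, c ≠ 0 →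
        Nonempty ((R ⧸ Ideal.span {algebraMap (Polynomial K) R
          (Polynomial.X - Polynomial.C c)}) ≃ₐ[K]
          (PlRing K d n ⧸ schubertVanishing K d n w)) := by
  refine Rdg.main (bB K w hd) (βB K w) (Ωfun w) ⟨0, by simp⟩ ?_ ?_ ?_ (hmul_b K w hd) (hT_b K w hd)
  · rw [bB_apply]
    unfold bfun vM
    simp [SMT.prodX_zero]
  · unfold Ωfun vM SMT.PP
    simp
  · rw [βB_apply]
    unfold βfun
    simp

end Groth.Agent.H9.Srd
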