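import Mathlib
import Groth.Prelude.Def_W4bk4grassmannianPl
import Groth.Agent.Lib.Helper9.Misc.HbdB
import Groth.Agent.Lib.Helper9.Misc.SrdB
import Groth.Agent.Lib.Helper9.Misc.Str2B

set_option autoImplicit false
set_option linter.unusedSectionVars false
set_option linter.unusedVariables false
set_option linter.style.haveILetI false

open W4bk4grassmannian MvPolynomial Module
open Groth.Agent.H9

namespace Groth.Agent.H9.Hbd

universe u

variable (K : Type u) [Field K] {d n : ℕ} (w : Idx d n)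

theorem EM_univ_map {m : ℕ} (c : Fin m → Idx d n) :
    EM (Finset.univ.val.map c) = ∑ k, Ldt.mon (Ldt.vv n d) (c k).1 := by
  unfold EM
  rw [Multiset.map_map]
  rfl

theorem eq_univ_map_of_chain (N : Multiset (Idx d n)) (c : Ldt.Ch d n)
    (hc : chainMon K c.2.1 = SMT.prodX K N) : N = Finset.univ.val.map c.2.1 := by
  apply Srd.prodX_injective K
  rw [← hc]
  unfold chainMon SMT.prodX
  rw [Multiset.map_map]
  rfl

/-- the exponent vector determines a chain multiset -/
theorem EM_injective (hd : 0 < d) (N N' : Multiset (Idx d n)) (hN : SMT.IsCh N)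
    (hN' : SMT.IsCh N') (h : EM N = EM N') : N = N' := by
  obtain ⟨c, hc1, -⟩ := SMT.exists_chain ℚ N hN
  obtain ⟨c', hc1', -⟩ := SMT.exists_chain ℚ N' hN'
  have h1 := eq_univ_map_of_chain ℚ N c hc1
  have h1' := eq_univ_map_of_chain ℚ N' c' hc1'
  have hE : Ldt.E (Ldt.vv n d) c = Ldt.E (Ldt.vv n d) c' := by
    unfold Ldt.E
    rw [← EM_univ_map, ← EM_univ_map, ← h1, ← h1', h]
  have hcc := Ldt.E_injective (Ldt.vv n d) Ldt.vv_lt hd hE
  rw [h1, h1', hcc]

theorem EM_vM_cons (x : Below w) (M : Multiset (Below w)) :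
    EM (Srd.vM w (x ::ₘ M)) = Ldt.mon (Ldt.vv n d) x.1.1 + EM (Srd.vM w M) := by
  unfold Srd.vM
  rw [Multiset.map_cons, EM_cons]

/-- products of variables of `H(w)` -/
noncomputable def pX (M : Multiset (Below w)) : MvPolynomial (Below w) K :=
  (M.map (fun a => (X a : MvPolynomial (Below w) K))).prod

theorem pX_zero : pX K w 0 = 1 := by
  unfold pX
  rw [Multiset.map_zero, Multiset.prod_zero]

theorem pX_cons (a : Below w) (M : Multiset (Below w)) : pX K w (a ::ₘ M) = X a * pX K w M := by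
  unfold pX
  rw [Multiset.map_cons, Multiset.prod_cons]

theorem pX_add (M M' : Multiset (Below w)) : pX K w (M + M') = pX K w M * pX K w M' := by
  unfold pX
  rw [Multiset.map_add, Multiset.prod_add]

theorem wt_lt_sup (a b : Below w) (hab : ¬ b ≤ a) : SMT.wt a.1 < SMT.wt (Below.sup a b).1 := by
  by_contra hc
  push Not at hc
  have hle : a.1 ≤ (Below.sup a b).1 := fun t => le_max_left _ _
  have heq := SMT.eq_of_le_of_wt_le hle hc
  apply hab
  intro t
  have h1 : (Below.sup a b).1.1 t = a.1.1 t := by rw [← heq]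
  have h2 : b.1.1 t ≤ (Below.sup a b).1.1 t := le_max_right _ _
  rw [h1] at h2
  exact h2

/-- sorting a monomial into a chain monomial modulo the Hibi relations -/
theorem hibi_sort (N' : Multiset (Below w)) :
    ∃ i : Srd.Iw w, Ideal.Quotient.mk (hibiIdeal K w) (pX K w N') =
        Ideal.Quotient.mk (hibiIdeal K w) (pX K w i.1) ∧
      EM (Srd.vM w i.1) = EM (Srd.vM w N') := by
  classical
  induction' hk : (N'.card * (d * n) ^ 2 - SMT.PP (Srd.vM w N')) using Nat.strong_induction_on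
    with k ih generalizing N'
  by_cases hM : ∀ a ∈ N', ∀ b ∈ N', a ≤ b ∨ b ≤ a
  · exact ⟨⟨N', hM⟩, rfl, rfl⟩
  · push Not at hM
    obtain ⟨a₀, ha₀, b₀, hb₀, hab01, hab02⟩ := hM
    have hex : ∃ a ∈ N', ∃ b ∈ N', ¬ a ≤ b ∧ ¬ b ≤ a ∧ SMT.wt b.1 ≤ SMT.wt a.1 := by
      rcases le_total (SMT.wt b₀.1) (SMT.wt a₀.1) with h | h
      · exact ⟨a₀, ha₀, b₀, hb₀, hab01, hab02, h⟩
      · exact ⟨b₀, hb₀, a₀, ha₀, hab02, hab01, h⟩
    obtain ⟨a, ha, b, hb, hab1, hab2, hwt⟩ := hex
    have hba : b ≠ a := fun h => hab1 (h ▸ le_rfl)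
    have hb' : b ∈ N'.erase a := (Multiset.mem_erase_of_ne hba).2 hb
    obtain ⟨N'', hM1⟩ : ∃ N'' : Multiset (Below w), a ::ₘ b ::ₘ N'' = N' :=
      ⟨(N'.erase a).erase b, by rw [Multiset.cons_erase hb', Multiset.cons_erase ha]⟩
    have hwsup := wt_lt_sup w a b hab2
    have hPP : SMT.PP (Srd.vM w N') <
        SMT.PP (Srd.vM w (Below.sup a b ::ₘ Below.inf a b ::ₘ N'')) := by
      rw [← hM1]
      unfold Srd.vM
      rw [Multiset.map_cons, Multiset.map_cons, Multiset.map_cons, Multiset.map_cons,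
        SMT.PP_cons, SMT.PP_cons, SMT.PP_cons, SMT.PP_cons]
      exact SMT.arith _ _ _ _ _ (Str2.wt_sup_inf a.1 b.1) hwsup hwt
    have hcard : (Below.sup a b ::ₘ Below.inf a b ::ₘ N'').card = N'.card := by
      rw [← hM1, Multiset.card_cons, Multiset.card_cons, Multiset.card_cons, Multiset.card_cons]
    have hle := SMT.PP_le (Srd.vM w (Below.sup a b ::ₘ Below.inf a b ::ₘ N''))
    rw [Srd.card_vM, hcard] at hle
    obtain ⟨i, hi1, hi2⟩ := ih
      ((Below.sup a b ::ₘ Below.inf a b ::ₘ N'').card * (d * n) ^ 2 -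
        SMT.PP (Srd.vM w (Below.sup a b ::ₘ Below.inf a b ::ₘ N'')))
      (by rw [← hk, hcard]; omega) (Below.sup a b ::ₘ Below.inf a b ::ₘ N'') rfl
    refine ⟨i, ?_, ?_⟩
    · rw [← hi1, ← hM1, pX_cons, pX_cons, pX_cons, pX_cons, Ideal.Quotient.eq]
      have h1 : X a * (X b * pX K w N'') -
          X (Below.sup a b) * (X (Below.inf a b) * pX K w N'') =
          (X a * X b - X (Below.sup a b) * X (Below.inf a b)) * pX K w N'' := by ring
      rw [h1]
      exact Ideal.mul_mem_right _ _ (Ideal.subset_span ⟨a, b, rfl⟩)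
    · rw [hi2, ← hM1, EM_vM_cons, EM_vM_cons, EM_vM_cons, EM_vM_cons, ← add_assoc, ← add_assoc]
      congr 1
      exact Str2.mon_sup_inf (Ldt.vv n d) a.1 b.1

/-- the toric map: `x_θ ↦` the diagonal monomial of the minor `θ` -/
noncomputable def ThetaH : MvPolynomial (Below w) K →ₐ[K] MvPolynomial (Ldt.V n d) K :=
  MvPolynomial.aeval (fun a : Below w => monomial (Ldt.mon (Ldt.vv n d) a.1.1) (1 : K))

theorem ThetaH_X (a : Below w) :
    ThetaH K w (X a) = monomial (Ldt.mon (Ldt.vv n d) a.1.1) (1 : K) := by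
  unfold ThetaH
  rw [aeval_X]

theorem ThetaH_pX (M : Multiset (Below w)) :
    ThetaH K w (pX K w M) = monomial (EM (Srd.vM w M)) 1 := by
  induction M using Multiset.induction_on with
  | empty =>
    rw [pX_zero, map_one]
    unfold Srd.vM
    rw [Multiset.map_zero, EM_zero]
    rfl
  | cons a M ih =>
    rw [pX_cons, map_mul, ih, EM_vM_cons, ThetaH_X, monomial_mul, mul_one]

theorem hibi_le_ker : hibiIdeal K w ≤ RingHom.ker (ThetaH K w).toRingHom := by
  unfold hibiIdeal
  rw [Ideal.span_le]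
  rintro f ⟨a, b, rfl⟩
  rw [SetLike.mem_coe, RingHom.mem_ker]
  show ThetaH K w (X a * X b - X (Below.sup a b) * X (Below.inf a b)) = 0
  rw [map_sub, map_mul, map_mul, ThetaH_X, ThetaH_X, ThetaH_X, ThetaH_X, monomial_mul,
    monomial_mul, sub_eq_zero]
  exact congrArg (fun e => monomial e ((1 : K) * 1)) (Str2.mon_sup_inf (Ldt.vv n d) a.1 b.1).symm

noncomputable def βfun (M : Srd.Iw w) : MvPolynomial (Below w) K ⧸ hibiIdeal K w :=
  Ideal.Quotient.mk _ (pX K w M.1)

theorem Iw_ext (hd : 0 < d) (i M : Srd.Iw w) (h : EM (Srd.vM w i.1) = EM (Srd.vM w M.1)) :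
    i = M := by
  apply Subtype.ext
  apply Multiset.map_injective Subtype.val_injective
  exact EM_injective hd _ _ (Srd.isCh_vM w i) (Srd.isCh_vM w M) h

theorem li_β (hd : 0 < d) : LinearIndependent K (βfun K w) := by
  classical
  rw [linearIndependent_iff']
  intro s g hsum M hM
  have hF : ∑ i ∈ s, g i • pX K w i.1 ∈ hibiIdeal K w := by
    rw [← Ideal.Quotient.eq_zero_iff_mem, map_sum, ← hsum]
    apply Finset.sum_congr rfl
    intro i _
    rfl
  have h0 := hibi_le_ker K w hF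
  rw [RingHom.mem_ker] at h0
  have h1 : ∑ i ∈ s, g i • monomial (EM (Srd.vM w i.1)) (1 : K) = 0 := by
    rw [← h0]
    show _ = ThetaH K w (∑ i ∈ s, g i • pX K w i.1)
    rw [map_sum]
    apply Finset.sum_congr rfl
    intro i _
    rw [map_smul, ThetaH_pX]
  have h2 := congrArg (coeff (EM (Srd.vM w M.1))) h1
  rw [coeff_sum, Finset.sum_eq_single M, coeff_zero] at h2
  · rw [coeff_smul, coeff_monomial, if_pos rfl, smul_eq_mul, mul_one] at h2
    exact h2
  · intro i _ hne
    rw [coeff_smul, coeff_monomial, if_neg, smul_zero]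
    intro h
    exact hne (Iw_ext w hd i M h)
  · intro h; exact absurd hM h

theorem span_β : ⊤ ≤ Submodule.span K (Set.range (βfun K w)) := by
  classical
  rintro x -
  obtain ⟨p, rfl⟩ := Ideal.Quotient.mk_surjective x
  rw [p.as_sum, map_sum]
  apply Submodule.sum_mem
  intro v _
  have h1 : monomial v (coeff v p) = coeff v p • pX K w (Finsupp.toMultiset v) := by
    unfold pX
    rw [Srd.prod_X_eq_monomial, Finsupp.toMultiset_toFinsupp, smul_monomial, smul_eq_mul,
      mul_one]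
  rw [h1]
  obtain ⟨i, hi, -⟩ := hibi_sort K w (Finsupp.toMultiset v)
  have h2 : Ideal.Quotient.mk (hibiIdeal K w) (coeff v p • pX K w (Finsupp.toMultiset v)) =
      coeff v p • βfun K w i := by
    unfold βfun
    rw [← hi]
    rfl
  rw [h2]
  exact Submodule.smul_mem _ _ (Submodule.subset_span ⟨_, rfl⟩)

noncomputable def βB (hd : 0 < d) :
    Basis (Srd.Iw w) K (MvPolynomial (Below w) K ⧸ hibiIdeal K w) :=
  Basis.mk (li_β K w hd) (span_β K w)

theorem βB_apply (hd : 0 < d) (M : Srd.Iw w) : βB K w hd M = βfun K w M := by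
  unfold βB
  rw [Basis.mk_apply]

end Groth.Agent.H9.Hbd
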