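import Mathlib
import Groth.Prelude.Def_W4bk4grassmannianPl
import Groth.Agent.Lib.Helper9.Misc.HbdC

set_option autoImplicit false
set_option linter.unusedSectionVars false
set_option linter.unusedVariables false
set_option linter.style.haveILetI false

open W4bk4grassmannian MvPolynomial Module
open Groth.Agent.H9

namespace Groth.Agent.H9.Hbd

universe u

variable (K : Type u) [Field K] {d n : ℕ} (w : Idx d n)

/-- the weight of the diagonal monomial of a standard monomial -/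
noncomputable def ΩH (M : Srd.Iw w) : ℕ := Finsupp.weight (Wt n d) (EM (Srd.vM w M.1))

theorem mem_vM_le (M : Multiset (Below w)) : ∀ a ∈ Srd.vM w M, a ≤ w := by
  intro a ha
  obtain ⟨x, _, rfl⟩ := Multiset.mem_map.1 ha
  exact x.2

theorem expand [Infinite K] (hd : 0 < d) (N : Multiset (Idx d n)) (hN : ∀ a ∈ N, a ≤ w)
    (i : Srd.Iw w) :
    ((Srd.bB K w hd).repr (Ideal.Quotient.mk (schubertVanishing K d n w) (SMT.prodX K N)) i ≠ 0 →
        ΩH w i ≤ Finsupp.weight (Wt n d) (EM N)) ∧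
      (ΩH w i = Finsupp.weight (Wt n d) (EM N) →
        (EM (Srd.vM w i.1) = EM N →
          (Srd.bB K w hd).repr
            (Ideal.Quotient.mk (schubertVanishing K d n w) (SMT.prodX K N)) i = 1) ∧
        (EM (Srd.vM w i.1) ≠ EM N →
          (Srd.bB K w hd).repr
            (Ideal.Quotient.mk (schubertVanishing K d n w) (SMT.prodX K N)) i = 0)) := by
  classical
  have hn : 0 < n := Fin.pos (w.1 ⟨0, hd⟩)
  have h := (Srd.bB K w hd).linearCombination_repr
    (Ideal.Quotient.mk (schubertVanishing K d n w) (SMT.prodX K N))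
  generalize (Srd.bB K w hd).repr
    (Ideal.Quotient.mk (schubertVanishing K d n w) (SMT.prodX K N)) = g at h ⊢
  rw [Finsupp.linearCombination_apply] at h
  simp only [Srd.bB_apply] at h
  have hsum : ∑ j ∈ insert i g.support, g j • Srd.bfun K w j =
      Ideal.Quotient.mk (schubertVanishing K d n w) (SMT.prodX K N) := by
    rw [← h, Finsupp.sum]
    symm
    apply Finset.sum_subset (Finset.subset_insert _ _)
    intro j _ hj
    rw [Finsupp.notMem_support_iff.1 hj, zero_smul]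
  have hF : ∑ j ∈ insert i g.support, g j • SMT.prodX K (Srd.vM w j.1) - SMT.prodX K N ∈
      schubertVanishing K d n w := by
    rw [← Ideal.Quotient.eq_zero_iff_mem, map_sub, map_sum, ← hsum, sub_eq_zero]
    apply Finset.sum_congr rfl
    intro j _
    rfl
  have hΨ := Ldt.Psi_schubert K (fun _ : Fin d => (⟨0, hn⟩ : Fin n)) w hF
  rw [map_sub, map_sum, sub_eq_zero] at hΨ
  simp only [map_smul] at hΨ
  have hfit : ∀ N₀ : Multiset (Idx d n), (∀ a ∈ N₀, a ≤ w) →
      ∀ θ ∈ N₀, ∀ t, (⟨0, hn⟩ : Fin n) ≤ θ.1 t ∧ θ.1 t ≤ w.1 t := by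
    intro N₀ hN₀ θ hθ t
    exact ⟨Fin.le_def.2 (Nat.zero_le _), hN₀ θ hθ t⟩
  have hres := Top.of_sum (W := Wt n d) (insert i g.support) (fun j => g j)
    (fun j => Ldt.Psi K (fun _ : Fin d => (⟨0, hn⟩ : Fin n)) w.1
      (SMT.prodX K (Srd.vM w j.1)))
    (fun j => EM (Srd.vM w j.1))
    (Ldt.Psi K (fun _ : Fin d => (⟨0, hn⟩ : Fin n)) w.1 (SMT.prodX K N)) (EM N)
    (fun j _ => top_Psi K _ _ _ (hfit _ (mem_vM_le w j.1)))
    (fun j _ j' _ hjj => Iw_ext w hd j j' hjj)
    (top_Psi K _ _ _ (hfit N hN)) hΨ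
  have hi : i ∈ insert i g.support := Finset.mem_insert_self _ _
  exact ⟨fun h0 => hres.1 i hi h0, fun h0 => hres.2 i hi h0⟩

theorem weight_add (M M' : Srd.Iw w) :
    Finsupp.weight (Wt n d) (EM (Srd.vM w (M.1 + M'.1))) = ΩH w M + ΩH w M' := by
  rw [Srd.vM_add, EM_add, map_add]
  rfl

theorem hmul_b [Infinite K] (hd : 0 < d) (M M' : Srd.Iw w) :
    Srd.bB K w hd M * Srd.bB K w hd M' ∈
      Rdg.Fil (Srd.bB K w hd) (ΩH w) (ΩH w M + ΩH w M') := by
  rw [Srd.bB_apply, Srd.bB_apply, Srd.bfun_mul, Rdg.mem_Fil]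
  intro i hi
  have h := (expand K w hd (Srd.vM w (M.1 + M'.1)) (mem_vM_le w _) i).1 hi
  rw [weight_add] at h
  exact h

theorem hT_b [Infinite K] (hd : 0 < d) (M M' : Srd.Iw w) :
    βB K w hd M * βB K w hd M' =
      Rdg.topP (Srd.bB K w hd) (βB K w hd) (ΩH w) (ΩH w M + ΩH w M')
        (Srd.bB K w hd M * Srd.bB K w hd M') := by
  classical
  obtain ⟨i₁, hi1, hi2⟩ := hibi_sort K w (M.1 + M'.1)
  have hL : βB K w hd M * βB K w hd M' = βB K w hd i₁ := by
    rw [βB_apply, βB_apply, βB_apply]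
    unfold βfun
    rw [← map_mul, ← pX_add, hi1]
  rw [hL]
  apply (βB K w hd).repr.injective
  ext i
  rw [Rdg.repr_topP, Basis.repr_self, Finsupp.single_apply, Srd.bB_apply, Srd.bB_apply,
    Srd.bfun_mul]
  have hex := expand K w hd (Srd.vM w (M.1 + M'.1)) (mem_vM_le w _) i
  rw [weight_add] at hex
  by_cases hΩ : ΩH w i = ΩH w M + ΩH w M'
  · rw [if_pos hΩ]
    by_cases h1 : i₁ = i
    · rw [if_pos h1, (hex.2 hΩ).1 (by rw [← h1]; exact hi2)]
    · rw [if_neg h1, (hex.2 hΩ).2 (by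
        intro h2
        apply h1
        exact Iw_ext w hd i₁ i (hi2.trans h2.symm))]
  · rw [if_neg hΩ, if_neg]
    intro h1
    apply hΩ
    rw [← h1, ← weight_add]
    unfold ΩH
    rw [hi2]

theorem main [Infinite K] (hd : 0 < d) :
    ∃ (R : Type u) (_ : CommRing R) (_ : Algebra K R) (_ : Algebra (Polynomial K) R)
      (_ : IsScalarTower K (Polynomial K) R),
      Module.Free (Polynomial K) R ∧
      Nonempty ((R ⧸ Ideal.span {algebraMap (Polynomial K) R Polynomial.X}) ≃ₐ[K]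
        (MvPolynomial (Below w) K ⧸ hibiIdeal K w)) ∧
      ∀ c : K, c ≠ 0 →
        Nonempty ((R ⧸ Ideal.span {algebraMap (Polynomial K) R
          (Polynomial.X - Polynomial.C c)}) ≃ₐ[K]
          (PlRing K d n ⧸ schubertVanishing K d n w)) := by
  refine Rdg.main (Srd.bB K w hd) (βB K w hd) (ΩH w) ⟨0, by simp⟩ ?_ ?_ ?_
    (hmul_b K w hd) (hT_b K w hd)
  · rw [Srd.bB_apply]
    unfold Srd.bfun Srd.vM
    simp [SMT.prodX_zero]
  · unfold ΩH Srd.vM
    simp [EM_zero]
  · rw [βB_apply]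
    unfold βfun
    simp [pX_zero]

end Groth.Agent.H9.Hbd
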