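import Mathlib

/-! Helper9: Hermite normal form over `k[[t]]` (S14038). -/

set_option autoImplicit false
set_option linter.unusedSectionVars false
set_option linter.unusedVariables false

namespace Groth.Agent.H9.HermitePS

open Matrix

universe u
variable {k : Type u} [Field k] {r : ℕ}

def IsEch (H : Matrix (Fin r) (Fin r) (PowerSeries k)) (e : Fin r → ℕ) : Prop :=
  (∀ i, H i i = (PowerSeries.X : PowerSeries k) ^ e i) ∧ (∀ i j, j < i → H i j = 0)

theorem vecMul_ech {H : Matrix (Fin r) (Fin r) (PowerSeries k)} {e : Fin r → ℕ} (hH : IsEch H e)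
    (a : Fin r → PowerSeries k) (i : Fin r) (ha : ∀ j, j < i → a j = 0) :
    (a ᵥ* H) i = a i * PowerSeries.X ^ e i := by
  show ∑ l, a l * H l i = _
  rw [Finset.sum_eq_single i, hH.1 i]
  · intro l _ hl
    rcases lt_or_gt_of_ne hl with h | h
    · rw [ha l h, zero_mul]
    · rw [hH.2 l i h, mul_zero]
  · intro h; exact absurd (Finset.mem_univ i) h

theorem ech_zero {H : Matrix (Fin r) (Fin r) (PowerSeries k)} {e : Fin r → ℕ} (hH : IsEch H e)
    (a : Fin r → PowerSeries k) :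
    ∀ (n : ℕ) (j : Fin r), j.val = n → (∀ j', j' ≤ j → (a ᵥ* H) j' = 0) → a j = 0 := by
  intro n
  induction n using Nat.strong_induction_on with
  | _ n ih =>
    intro j hj hv
    have h1 : ∀ l, l < j → a l = 0 := by
      intro l hl
      exact ih l.val (by rw [← hj]; exact hl) l rfl (fun j' hj' => hv j' (le_trans hj' hl.le))
    have h2 := vecMul_ech hH a j h1
    rw [hv j le_rfl] at h2
    have h3 : (PowerSeries.X : PowerSeries k) ^ e j ≠ 0 := pow_ne_zero _ PowerSeries.X_ne_zero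
    rcases mul_eq_zero.1 h2.symm with h | h
    · exact h
    · exact absurd h h3

theorem ech_zero' {H : Matrix (Fin r) (Fin r) (PowerSeries k)} {e : Fin r → ℕ} (hH : IsEch H e)
    (a : Fin r → PowerSeries k) (i : Fin r) (hv : ∀ j, j < i → (a ᵥ* H) j = 0) :
    ∀ j, j < i → a j = 0 :=
  fun j hj => ech_zero hH a j.val j rfl (fun j' hj' => hv j' (lt_of_le_of_lt hj' hj))

theorem exists_pivot (M : Matrix (Fin r) (Fin r) (PowerSeries k)) (hM : M.det ≠ 0) (i : Fin r) :
    ∃ (e : ℕ) (a : Fin r → PowerSeries k), (∀ j, j < i → (a ᵥ* M) j = 0) ∧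
      (a ᵥ* M) i = PowerSeries.X ^ e ∧
      ∀ b : Fin r → PowerSeries k, (∀ j, j < i → (b ᵥ* M) j = 0) →
        (PowerSeries.X : PowerSeries k) ^ e ∣ (b ᵥ* M) i := by
  classical
  let I : Ideal (PowerSeries k) :=
    { carrier := {x | ∃ b : Fin r → PowerSeries k, (∀ j, j < i → (b ᵥ* M) j = 0) ∧ (b ᵥ* M) i = x}
      add_mem' := by
        rintro x y ⟨b, hb, rfl⟩ ⟨c, hc, rfl⟩
        refine ⟨b + c, fun j hj => ?_, ?_⟩
        · rw [Matrix.add_vecMul, Pi.add_apply, hb j hj, hc j hj, add_zero]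
        · rw [Matrix.add_vecMul, Pi.add_apply]
      zero_mem' := ⟨0, fun j hj => by rw [Matrix.zero_vecMul]; rfl, by rw [Matrix.zero_vecMul]; rfl⟩
      smul_mem' := by
        rintro c x ⟨b, hb, rfl⟩
        refine ⟨c • b, fun j hj => ?_, ?_⟩
        · rw [Matrix.smul_vecMul, Pi.smul_apply, hb j hj, smul_zero]
        · rw [Matrix.smul_vecMul, Pi.smul_apply] }
  have hImem : ∀ x, x ∈ I ↔ ∃ b : Fin r → PowerSeries k,
      (∀ j, j < i → (b ᵥ* M) j = 0) ∧ (b ᵥ* M) i = x := fun x => Iff.rfl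
  have hadj : ∀ j, (M.adjugate i ᵥ* M) j = if i = j then M.det else 0 := by
    intro j
    have h1 := congrFun (congrFun (Matrix.adjugate_mul M) i) j
    rw [Matrix.smul_apply, Matrix.one_apply, smul_eq_mul, mul_ite, mul_one, mul_zero] at h1
    exact h1
  have hdet : M.det ∈ I := by
    refine (hImem _).2 ⟨M.adjugate i, fun j hj => ?_, ?_⟩
    · rw [hadj, if_neg (ne_of_gt hj)]
    · rw [hadj, if_pos rfl]
  have hI : I ≠ ⊥ := by
    intro h
    rw [h, Ideal.mem_bot] at hdet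
    exact hM hdet
  obtain ⟨e, he⟩ := IsDiscreteValuationRing.ideal_eq_span_pow_irreducible hI
    (PowerSeries.X_irreducible (R := k))
  have hXe : (PowerSeries.X : PowerSeries k) ^ e ∈ I := by
    rw [he]; exact Ideal.mem_span_singleton_self _
  obtain ⟨a, ha0, hae⟩ := (hImem _).1 hXe
  refine ⟨e, a, ha0, hae, fun b hb => ?_⟩
  have hb' : (b ᵥ* M) i ∈ I := (hImem _).2 ⟨b, hb, rfl⟩
  rw [he, Ideal.mem_span_singleton] at hb'
  exact hb'

theorem exists_reduce {H : Matrix (Fin r) (Fin r) (PowerSeries k)} {e : Fin r → ℕ}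
    (hH : IsEch H e) (v : Fin r → PowerSeries k) (i : Fin r) :
    ∃ c : Fin r → PowerSeries k, (∀ j, j ≤ i → c j = 0) ∧
      ∀ j, i < j → ∀ n, e j ≤ n → PowerSeries.coeff n ((v - c ᵥ* H) j) = 0 := by
  classical
  have key : ∀ m : ℕ, ∃ c : Fin r → PowerSeries k, (∀ j, j ≤ i → c j = 0) ∧
      ∀ j : Fin r, i < j → j.val < m → ∀ n, e j ≤ n →
        PowerSeries.coeff n ((v - c ᵥ* H) j) = 0 := by
    intro m
    induction m with
    | zero => exact ⟨0, fun _ _ => rfl, fun j _ hj => absurd hj (Nat.not_lt_zero _)⟩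
    | succ m ih =>
      obtain ⟨c, hc0, hc⟩ := ih
      by_cases hm : m < r ∧ i.val < m
      · obtain ⟨hmr, him⟩ := hm
        obtain ⟨jm, hjm⟩ : ∃ jm : Fin r, jm = ⟨m, hmr⟩ := ⟨_, rfl⟩
        have hjmv : jm.val = m := by rw [hjm]
        have hijm : i < jm := by rw [Fin.lt_def, hjmv]; exact him
        obtain ⟨u, hu⟩ : ∃ u : Fin r → PowerSeries k, u = v - c ᵥ* H := ⟨_, rfl⟩
        obtain ⟨q, hq⟩ : ∃ q : PowerSeries k,
            q = PowerSeries.mk (fun n => PowerSeries.coeff (n + e jm) (u jm)) := ⟨_, rfl⟩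
        refine ⟨c + Pi.single jm q, ?_, ?_⟩
        · intro j hj
          have hne : j ≠ jm := fun h => by rw [h] at hj; exact absurd hijm (not_lt.2 hj)
          rw [Pi.add_apply, hc0 j hj, Pi.single_eq_of_ne hne, add_zero]
        · intro j hij hjm1 n hn
          have hexp : (v - (c + Pi.single jm q) ᵥ* H) j = u j - q * H jm j := by
            rw [Matrix.add_vecMul, hu, Matrix.single_vecMul]
            show v j - ((c ᵥ* H) j + q * H jm j) = v j - (c ᵥ* H) j - q * H jm j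
            ring
          rw [hexp]
          by_cases hjj : j = jm
          · rw [hjj] at hn ⊢
            rw [hH.1 jm, map_sub, PowerSeries.coeff_mul_X_pow', if_pos hn, hq,
              PowerSeries.coeff_mk, Nat.sub_add_cancel hn, sub_self]
          · have hlt : j.val < m := lt_of_le_of_ne (Nat.lt_succ_iff.1 hjm1)
              (fun h => hjj (Fin.ext (by rw [hjmv]; exact h)))
            have hjlt : j < jm := by rw [Fin.lt_def, hjmv]; exact hlt
            rw [hH.2 jm j hjlt, mul_zero, sub_zero, hu]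
            exact hc j hij hlt n hn
      · refine ⟨c, hc0, ?_⟩
        intro j hij hjm1 n hn
        have hlt : j.val < m := by
          by_contra hcon
          have hjm : j.val = m := le_antisymm (Nat.lt_succ_iff.1 hjm1) (not_lt.1 hcon)
          exact hm ⟨by rw [← hjm]; exact j.2, by rw [← hjm]; exact hij⟩
        exact hc j hij hlt n hn
  obtain ⟨c, hc0, hc⟩ := key r
  exact ⟨c, hc0, fun j hij n hn => hc j hij j.2 n hn⟩

theorem exists_hnf (M : Matrix (Fin r) (Fin r) (PowerSeries k)) (hM : M.det ≠ 0) :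
    ∃ (H : Matrix (Fin r) (Fin r) (PowerSeries k)) (e : Fin r → ℕ), IsEch H e ∧
      (∀ i j, i < j → ∀ n, e j ≤ n → PowerSeries.coeff n (H i j) = 0) ∧
      ∃ N : Matrix (Fin r) (Fin r) (PowerSeries k), IsUnit N ∧ N * M = H := by
  classical
  choose e a ha0 hae hadvd using exists_pivot M hM
  obtain ⟨A, hA⟩ : ∃ A : Matrix (Fin r) (Fin r) (PowerSeries k), A = Matrix.of a := ⟨_, rfl⟩
  obtain ⟨H₀, hH₀⟩ : ∃ H₀ : Matrix (Fin r) (Fin r) (PowerSeries k), H₀ = A * M := ⟨_, rfl⟩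
  have hrow₀ : ∀ i, H₀ i = a i ᵥ* M := by
    intro i; rw [hH₀, hA]; rfl
  have hech₀ : IsEch H₀ e :=
    ⟨fun i => by rw [hrow₀, hae], fun i j hj => by rw [hrow₀, ha0 i j hj]⟩
  choose c hc0 hcred using fun i => exists_reduce hech₀ (H₀ i) i
  obtain ⟨C, hC⟩ : ∃ C : Matrix (Fin r) (Fin r) (PowerSeries k), C = Matrix.of c := ⟨_, rfl⟩
  obtain ⟨H, hH⟩ : ∃ H : Matrix (Fin r) (Fin r) (PowerSeries k), H = (1 - C) * H₀ := ⟨_, rfl⟩
  have hrow : ∀ i, H i = H₀ i - c i ᵥ* H₀ := by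
    intro i
    rw [hH, Matrix.sub_mul, Matrix.one_mul, hC]; rfl
  have hlow : ∀ i j, j ≤ i → (c i ᵥ* H₀) j = 0 := by
    intro i j hj
    show ∑ l, c i l * H₀ l j = 0
    apply Finset.sum_eq_zero
    intro l _
    by_cases hl : l ≤ i
    · rw [hc0 i l hl, zero_mul]
    · rw [hech₀.2 l j (lt_of_le_of_lt hj (not_le.1 hl)), mul_zero]
  have hech : IsEch H e := by
    refine ⟨fun i => ?_, fun i j hj => ?_⟩
    · rw [hrow, Pi.sub_apply, hlow i i le_rfl, sub_zero, hech₀.1]
    · rw [hrow, Pi.sub_apply, hlow i j hj.le, sub_zero, hech₀.2 i j hj]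
  have hred : ∀ i j, i < j → ∀ n, e j ≤ n → PowerSeries.coeff n (H i j) = 0 := by
    intro i j hij n hn
    rw [hrow]
    exact hcred i j hij n hn
  obtain ⟨N, hN⟩ : ∃ N : Matrix (Fin r) (Fin r) (PowerSeries k), N = (1 - C) * A := ⟨_, rfl⟩
  have hNM : N * M = H := by rw [hN, Matrix.mul_assoc, ← hH₀, hH]
  have hHrow : ∀ i, H i = N i ᵥ* M := fun i => by rw [← hNM]; rfl
  have hgen : ∀ d m : ℕ, m + d = r → ∀ b : Fin r → PowerSeries k,
      (∀ j : Fin r, j.val < m → (b ᵥ* M) j = 0) → ∃ b' : Fin r → PowerSeries k,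
        b' ᵥ* H = b ᵥ* M := by
    intro d
    induction d with
    | zero =>
      intro m hm b hb
      refine ⟨0, ?_⟩
      rw [Matrix.zero_vecMul]
      funext j
      rw [hb j (by have := j.2; omega)]
      rfl
    | succ d ih =>
      intro m hm b hb
      have hmr : m < r := by omega
      obtain ⟨jm, hjm⟩ : ∃ jm : Fin r, jm = ⟨m, hmr⟩ := ⟨_, rfl⟩
      have hjmv : jm.val = m := by rw [hjm]
      have hb' : ∀ j, j < jm → (b ᵥ* M) j = 0 := fun j hj => hb j (by rw [← hjmv]; exact hj)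
      obtain ⟨q, hq⟩ := hadvd jm b hb'
      obtain ⟨b₂, hb₂⟩ : ∃ b₂ : Fin r → PowerSeries k, b₂ = b - q • N jm := ⟨_, rfl⟩
      have hb₂M : b₂ ᵥ* M = b ᵥ* M - q • H jm := by
        rw [hb₂, Matrix.sub_vecMul, Matrix.smul_vecMul, hHrow]
      obtain ⟨b', hb'eq⟩ := ih (m + 1) (by omega) b₂ (by
        intro j hj
        rw [hb₂M, Pi.sub_apply, Pi.smul_apply, smul_eq_mul]
        rcases Nat.lt_succ_iff_lt_or_eq.1 hj with h | h
        · rw [hb j h, hech.2 jm j (by rw [Fin.lt_def, hjmv]; exact h), mul_zero, sub_zero]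
        · have hjj : j = jm := Fin.ext (by rw [hjmv]; exact h)
          rw [hjj, hq, hech.1 jm]; ring)
      refine ⟨b' + Pi.single jm q, ?_⟩
      rw [Matrix.add_vecMul, hb'eq, hb₂M, Matrix.single_vecMul]
      exact sub_add_cancel _ _
  have hb : ∀ i : Fin r, ∃ b' : Fin r → PowerSeries k, b' ᵥ* H = M i := by
    intro i
    obtain ⟨b', hb'⟩ := hgen r 0 (by omega) (Pi.single i 1)
      (fun j hj => absurd hj (Nat.not_lt_zero _))
    refine ⟨b', ?_⟩
    rw [hb', Matrix.single_vecMul, one_smul]; rfl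
  choose b hbM using hb
  obtain ⟨N', hN'⟩ : ∃ N' : Matrix (Fin r) (Fin r) (PowerSeries k), N' = Matrix.of b := ⟨_, rfl⟩
  have hN'H : N' * H = M := by
    funext i
    rw [← hbM i, hN']; rfl
  have h1 : (N' * N - 1) * M = 0 := by
    rw [Matrix.sub_mul, Matrix.one_mul, Matrix.mul_assoc, hNM, hN'H, sub_self]
  have h2 : (N' * N - 1) * (M * M.adjugate) = 0 := by
    rw [← Matrix.mul_assoc, h1, Matrix.zero_mul]
  rw [Matrix.mul_adjugate, Matrix.mul_smul, Matrix.mul_one] at h2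
  have h3 : N' * N = 1 := by
    refine Matrix.ext (fun i j => ?_)
    have h4 := congrFun (congrFun h2 i) j
    rw [Matrix.smul_apply, smul_eq_mul, Matrix.zero_apply] at h4
    rcases mul_eq_zero.1 h4 with h | h
    · exact absurd h hM
    · rw [Matrix.sub_apply] at h
      exact sub_eq_zero.1 h
  have hNunit : IsUnit N :=
    (Matrix.isUnit_iff_isUnit_det N).2 (Matrix.isUnit_det_of_left_inverse h3)
  exact ⟨H, e, hech, hred, N, hNunit, hNM⟩

theorem e_le {H H' : Matrix (Fin r) (Fin r) (PowerSeries k)} {e e' : Fin r → ℕ}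
    (hH : IsEch H e) (hH' : IsEch H' e') (T : Matrix (Fin r) (Fin r) (PowerSeries k))
    (hT : T * H = H') (i : Fin r) : e i ≤ e' i := by
  have hrow : H' i = T i ᵥ* H := by rw [← hT]; rfl
  have h0 : ∀ j, j < i → (T i ᵥ* H) j = 0 := by
    intro j hj; rw [← hrow, hH'.2 i j hj]
  have h1 := ech_zero' hH (T i) i h0
  have h2 := vecMul_ech hH (T i) i h1
  rw [← hrow, hH'.1 i] at h2
  have h3 : (PowerSeries.X : PowerSeries k) ^ e i ∣ PowerSeries.X ^ e' i :=
    ⟨T i i, by rw [h2, mul_comm]⟩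
  exact (pow_dvd_pow_iff PowerSeries.X_ne_zero (PowerSeries.X_prime (R := k)).not_isUnit).1 h3

theorem unique_hnf {H H' : Matrix (Fin r) (Fin r) (PowerSeries k)} {e e' : Fin r → ℕ}
    (hH : IsEch H e) (hred : ∀ i j, i < j → ∀ n, e j ≤ n → PowerSeries.coeff n (H i j) = 0)
    (hH' : IsEch H' e')
    (hred' : ∀ i j, i < j → ∀ n, e' j ≤ n → PowerSeries.coeff n (H' i j) = 0)
    (T T' : Matrix (Fin r) (Fin r) (PowerSeries k)) (hT : T * H = H') (hT' : T' * H' = H) :
    H = H' := by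
  classical
  have hee : e = e' := funext (fun i => le_antisymm (e_le hH hH' T hT i) (e_le hH' hH T' hT' i))
  subst hee
  have hD : ∀ i, (Pi.single i 1 - T i) ᵥ* H = H i - H' i := by
    intro i
    rw [Matrix.sub_vecMul, Matrix.single_vecMul, one_smul, ← hT]; rfl
  have key : ∀ i, ∀ (n : ℕ) (j : Fin r), j.val = n → H i j = H' i j := by
    intro i n
    induction n using Nat.strong_induction_on with
    | _ n ih =>
      intro j hj
      have h0 : ∀ j', j' < j → ((Pi.single i 1 - T i) ᵥ* H) j' = 0 := by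
        intro j' hj'
        rw [hD, Pi.sub_apply, ih j'.val (by rw [← hj]; exact hj') j' rfl, sub_self]
      have h1 := ech_zero' hH _ j h0
      have h2 := vecMul_ech hH _ j h1
      rw [hD, Pi.sub_apply] at h2
      rcases lt_trichotomy j i with h | h | h
      · rw [hH.2 i j h, hH'.2 i j h]
      · rw [h, hH.1 i, hH'.1 i]
      · apply sub_eq_zero.1
        ext m
        rw [map_zero]
        by_cases hm : e j ≤ m
        · rw [map_sub, hred i j h m hm, hred' i j h m hm, sub_zero]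
        · rw [h2, PowerSeries.coeff_mul_X_pow', if_neg hm]
  refine Matrix.ext (fun i j => ?_)
  exact key i j.val j rfl

theorem main (M : Matrix (Fin r) (Fin r) (PowerSeries k)) (hM : M.det ≠ 0) :
    ∃! H : Matrix (Fin r) (Fin r) (PowerSeries k),
      (∃ e : Fin r → ℕ, (∀ i, H i i = PowerSeries.X ^ e i) ∧ (∀ i j, j < i → H i j = 0) ∧
        (∀ i j, i < j → ∀ n, e j ≤ n → PowerSeries.coeff n (H i j) = 0)) ∧
      ∃ N : Matrix (Fin r) (Fin r) (PowerSeries k), IsUnit N ∧ N * M = H := by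
  obtain ⟨H, e, hech, hred, N, hN, hNM⟩ := exists_hnf M hM
  refine ⟨H, ⟨⟨e, hech.1, hech.2, hred⟩, N, hN, hNM⟩, ?_⟩
  rintro H' ⟨⟨e', h1, h2, h3⟩, N', hN', hN'M⟩
  obtain ⟨Ni, hNi1, hNi2⟩ : ∃ Ni : Matrix (Fin r) (Fin r) (PowerSeries k),
      Ni * N = 1 ∧ N * Ni = 1 := by
    obtain ⟨u, rfl⟩ := hN
    exact ⟨↑u⁻¹, u.inv_mul, u.mul_inv⟩
  obtain ⟨N'i, hN'i1, hN'i2⟩ : ∃ Ni : Matrix (Fin r) (Fin r) (PowerSeries k),
      Ni * N' = 1 ∧ N' * Ni = 1 := by
    obtain ⟨u, rfl⟩ := hN'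
    exact ⟨↑u⁻¹, u.inv_mul, u.mul_inv⟩
  have hT : (N' * Ni) * H = H' := by
    rw [← hNM, Matrix.mul_assoc, ← Matrix.mul_assoc Ni, hNi1, Matrix.one_mul, hN'M]
  have hT' : (N * N'i) * H' = H := by
    rw [← hN'M, Matrix.mul_assoc, ← Matrix.mul_assoc N'i, hN'i1, Matrix.one_mul, hNM]
  exact (unique_hnf hech hred ⟨h1, h2⟩ h3 _ _ hT hT').symm

end Groth.Agent.H9.HermitePS
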