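import Mathlib
import Groth.Agent.Lib.Helper9.Misc.HermitePS

/-! Helper9: refined Hermite normal form over `k[[t]]` with `k[[t^p]]` column operations
(S14044). -/

set_option autoImplicit false
set_option linter.unusedSectionVars false
set_option linter.unusedVariables false

namespace Groth.Agent.H9.HermitePS2

open Matrix
open Groth.Agent.H9.HermitePS

universe u
variable {k : Type u} [Field k] {r : ℕ} (p : ℕ)

def InS (f : PowerSeries k) : Prop := ∀ n, ¬ p ∣ n → PowerSeries.coeff n f = 0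

theorem inS_zero : InS p (0 : PowerSeries k) := fun n _ => map_zero _

theorem inS_one : InS p (1 : PowerSeries k) := by
  intro n hn
  rw [PowerSeries.coeff_one, if_neg]
  intro h; exact hn (h ▸ dvd_zero p)

theorem inS_add {f g : PowerSeries k} (hf : InS p f) (hg : InS p g) : InS p (f + g) :=
  fun n hn => by rw [map_add, hf n hn, hg n hn, add_zero]

theorem inS_mul {f g : PowerSeries k} (hf : InS p f) (hg : InS p g) : InS p (f * g) := by
  intro n hn
  rw [PowerSeries.coeff_mul]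
  apply Finset.sum_eq_zero
  rintro ⟨a, b⟩ hab
  rw [Finset.HasAntidiagonal.mem_antidiagonal] at hab
  show PowerSeries.coeff a f * PowerSeries.coeff b g = 0
  have hab' : a + b = n := hab
  by_cases ha : p ∣ a
  · have hb : ¬ p ∣ b := fun hb => hn (by rw [← hab']; exact dvd_add ha hb)
    rw [hg b hb, mul_zero]
  · rw [hf a ha, zero_mul]

def Good (e : Fin r → ℕ) (K : Matrix (Fin r) (Fin r) (PowerSeries k)) (i j : Fin r) : Prop :=
  ∀ n, (e j ≤ n ∨ (e i ≤ n ∧ n % p = e i % p)) → PowerSeries.coeff n (K i j) = 0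

def St (M : Matrix (Fin r) (Fin r) (PowerSeries k)) (e : Fin r → ℕ)
    (K : Matrix (Fin r) (Fin r) (PowerSeries k)) : Prop :=
  IsEch K e ∧ ∃ N P : Matrix (Fin r) (Fin r) (PowerSeries k), IsUnit N ∧ IsUnit P ∧
    (∀ i j, InS p (P i j)) ∧ N * M * P = K

theorem exists_sa (x : PowerSeries k) (ei ej : ℕ) :
    ∃ s a : PowerSeries k, InS p s ∧ ∀ n, (ej ≤ n ∨ (ei ≤ n ∧ n % p = ei % p)) →
      PowerSeries.coeff n (x + s * PowerSeries.X ^ ei + a * PowerSeries.X ^ ej) = 0 := by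
  classical
  obtain ⟨s, hs⟩ : ∃ s : PowerSeries k, s = PowerSeries.mk
      (fun m => if p ∣ m then - PowerSeries.coeff (m + ei) x else 0) := ⟨_, rfl⟩
  obtain ⟨x₁, hx₁⟩ : ∃ x₁ : PowerSeries k, x₁ = x + s * PowerSeries.X ^ ei := ⟨_, rfl⟩
  obtain ⟨a, ha⟩ : ∃ a : PowerSeries k, a = PowerSeries.mk
      (fun m => - PowerSeries.coeff (m + ej) x₁) := ⟨_, rfl⟩
  have hsS : InS p s := by
    intro n hn; rw [hs, PowerSeries.coeff_mk, if_neg hn]
  have h1 : ∀ n, ei ≤ n → n % p = ei % p → PowerSeries.coeff n x₁ = 0 := by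
    intro n hn hmod
    have hdvd : p ∣ n - ei := (Nat.modEq_iff_dvd' hn).1 hmod.symm
    rw [hx₁, map_add, PowerSeries.coeff_mul_X_pow', if_pos hn, hs, PowerSeries.coeff_mk,
      if_pos hdvd, Nat.sub_add_cancel hn, add_neg_cancel]
  refine ⟨s, a, hsS, ?_⟩
  intro n hn
  rw [← hx₁, map_add, PowerSeries.coeff_mul_X_pow']
  by_cases hej : ej ≤ n
  · rw [if_pos hej, ha, PowerSeries.coeff_mk, Nat.sub_add_cancel hej, add_neg_cancel]
  · rw [if_neg hej, add_zero]
    rcases hn with h | ⟨h, h'⟩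
    · exact absurd h hej
    · exact h1 n h h'

theorem step {M K : Matrix (Fin r) (Fin r) (PowerSeries k)} {e : Fin r → ℕ} (hK : St p M e K)
    (i₀ j₀ : Fin r) (h : i₀ < j₀) :
    ∃ K' : Matrix (Fin r) (Fin r) (PowerSeries k), St p M e K' ∧ Good p e K' i₀ j₀ ∧
      (∀ i j, j < j₀ → K' i j = K i j) ∧ (∀ i, i₀ < i → K' i j₀ = K i j₀) := by
  classical
  obtain ⟨hech, N, P, hN, hP, hPS, hNMP⟩ := hK
  obtain ⟨s, a, hsS, hsa⟩ := exists_sa p (K i₀ j₀) (e i₀) (e j₀)
  have hne : i₀ ≠ j₀ := ne_of_lt h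
  obtain ⟨K₁, hK₁⟩ : ∃ K₁ : Matrix (Fin r) (Fin r) (PowerSeries k),
      K₁ = K * transvection i₀ j₀ s := ⟨_, rfl⟩
  obtain ⟨K', hK'⟩ : ∃ K' : Matrix (Fin r) (Fin r) (PowerSeries k),
      K' = transvection i₀ j₀ a * K₁ := ⟨_, rfl⟩
  have e1 : ∀ i j, j ≠ j₀ → K₁ i j = K i j := fun i j hj => by
    rw [hK₁]; exact mul_transvection_apply_of_ne i₀ j₀ i j hj s K
  have e2 : ∀ i, K₁ i j₀ = K i j₀ + s * K i i₀ := fun i => by
    rw [hK₁]; exact mul_transvection_apply_same i₀ j₀ i s K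
  have e3 : ∀ i j, i ≠ i₀ → K' i j = K₁ i j := fun i j hi => by
    rw [hK']; exact transvection_mul_apply_of_ne i₀ j₀ i j hi a K₁
  have e4 : ∀ j, K' i₀ j = K₁ i₀ j + a * K₁ j₀ j := fun j => by
    rw [hK']; exact transvection_mul_apply_same i₀ j₀ j a K₁
  have hz : K j₀ i₀ = 0 := hech.2 j₀ i₀ h
  have e5 : ∀ j, K₁ j₀ j = K j₀ j := by
    intro j
    by_cases hj : j = j₀
    · rw [hj, e2, hz, mul_zero, add_zero]
    · exact e1 j₀ j hj
  have hech' : IsEch K' e := by
    refine ⟨fun i => ?_, fun i j hj => ?_⟩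
    · by_cases hi : i = i₀
      · rw [hi, e4, e5, hz, mul_zero, add_zero, e1 i₀ i₀ hne, hech.1]
      · rw [e3 i i hi]
        by_cases hij : i = j₀
        · rw [hij, e5, hech.1]
        · rw [e1 i i hij, hech.1]
    · by_cases hi : i = i₀
      · rw [hi] at hj ⊢
        have hjj : j < j₀ := lt_trans hj h
        rw [e4, e5, hech.2 j₀ j hjj, mul_zero, add_zero, e1 i₀ j (ne_of_lt hjj), hech.2 i₀ j hj]
      · rw [e3 i j hi]
        by_cases hjj : j = j₀
        · rw [hjj] at hj ⊢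
          rw [e2, hech.2 i j₀ hj, hech.2 i i₀ (lt_trans h hj), mul_zero, add_zero]
        · rw [e1 i j hjj, hech.2 i j hj]
  have hT : ∀ c : PowerSeries k, IsUnit (transvection i₀ j₀ c) := fun c =>
    (Matrix.isUnit_iff_isUnit_det _).2 (by rw [det_transvection_of_ne _ _ hne]; exact isUnit_one)
  refine ⟨K', ⟨hech', transvection i₀ j₀ a * N, P * transvection i₀ j₀ s, (hT a).mul hN,
    hP.mul (hT s), ?_, ?_⟩, ?_, ?_, ?_⟩
  · intro i j
    by_cases hj : j = j₀
    · rw [hj, mul_transvection_apply_same]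
      exact inS_add p (hPS i j₀) (inS_mul p hsS (hPS i i₀))
    · rw [mul_transvection_apply_of_ne i₀ j₀ i j hj]
      exact hPS i j
  · rw [hK', hK₁, ← hNMP]
    simp only [Matrix.mul_assoc]
  · intro n hn
    rw [e4, e5, e2, hech.1, hech.1]
    exact hsa n hn
  · intro i j hj
    have hjj : j ≠ j₀ := ne_of_lt hj
    by_cases hi : i = i₀
    · rw [hi, e4, e5, hech.2 j₀ j hj, mul_zero, add_zero, e1 i₀ j hjj]
    · rw [e3 i j hi, e1 i j hjj]
  · intro i hi
    rw [e3 i j₀ (ne_of_gt hi), e2, hech.2 i i₀ hi, mul_zero, add_zero]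

theorem colstep {M : Matrix (Fin r) (Fin r) (PowerSeries k)} {e : Fin r → ℕ} (m : ℕ) (hm : m < r)
    (K : Matrix (Fin r) (Fin r) (PowerSeries k)) (hK : St p M e K)
    (hgood : ∀ i j : Fin r, i < j → j.val < m → Good p e K i j) :
    ∃ K' : Matrix (Fin r) (Fin r) (PowerSeries k), St p M e K' ∧
      ∀ i j : Fin r, i < j → j.val < m + 1 → Good p e K' i j := by
  obtain ⟨jm, hjm⟩ : ∃ jm : Fin r, jm = ⟨m, hm⟩ := ⟨_, rfl⟩
  have hjmv : jm.val = m := by rw [hjm]
  have key : ∀ t : ℕ, t ≤ m → ∃ K' : Matrix (Fin r) (Fin r) (PowerSeries k), St p M e K' ∧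
      (∀ i j : Fin r, i < j → j.val < m → Good p e K' i j) ∧
      (∀ i : Fin r, m ≤ i.val + t → i.val < m → Good p e K' i jm) := by
    intro t
    induction t with
    | zero =>
      intro _
      exact ⟨K, hK, hgood, fun i h1 h2 => absurd h2 (by omega)⟩
    | succ t ih =>
      intro ht
      obtain ⟨K₁, hK₁, hg₁, hc₁⟩ := ih (by omega)
      have hi₀ : m - t - 1 < r := by omega
      obtain ⟨i₀, hi₀def⟩ : ∃ i₀ : Fin r, i₀ = ⟨m - t - 1, hi₀⟩ := ⟨_, rfl⟩
      have hi₀v : i₀.val = m - t - 1 := by rw [hi₀def]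
      have hlt : i₀ < jm := by rw [Fin.lt_def, hi₀v, hjmv]; omega
      obtain ⟨K₂, hK₂, hgood₂, hun1, hun2⟩ := step p hK₁ i₀ jm hlt
      refine ⟨K₂, hK₂, ?_, ?_⟩
      · intro i j hij hj n hn
        rw [hun1 i j (by rw [Fin.lt_def, hjmv]; exact hj)]
        exact hg₁ i j hij hj n hn
      · intro i h1 h2 n hn
        by_cases hii : i = i₀
        · subst hii; exact hgood₂ n hn
        · have hgt : i₀ < i := by
            rw [Fin.lt_def, hi₀v]
            have : i.val ≠ m - t - 1 := fun h => hii (Fin.ext (by rw [hi₀v]; exact h))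
            omega
          rw [hun2 i hgt]
          exact hc₁ i (by rw [Fin.lt_def, hi₀v] at hgt; omega) h2 n hn
  obtain ⟨K', hK', hg', hc'⟩ := key m le_rfl
  refine ⟨K', hK', ?_⟩
  intro i j hij hj
  rcases Nat.lt_succ_iff_lt_or_eq.1 hj with h | h
  · exact hg' i j hij h
  · have hjj : j = jm := Fin.ext (by rw [hjmv]; exact h)
    rw [hjj]
    have : i.val < m := by rw [← h]; exact hij
    exact hc' i (by omega) this

theorem main (M : Matrix (Fin r) (Fin r) (PowerSeries k)) (hM : M.det ≠ 0) :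
    ∃ (N P : Matrix (Fin r) (Fin r) (PowerSeries k)) (e : Fin r → ℕ), IsUnit N ∧ IsUnit P ∧
      (∀ i j n, ¬ p ∣ n → PowerSeries.coeff n (P i j) = 0) ∧
      (∀ i, (N * M * P) i i = PowerSeries.X ^ e i) ∧ (∀ i j, j < i → (N * M * P) i j = 0) ∧
      (∀ i j, i < j → ∀ n, (e j ≤ n ∨ (e i ≤ n ∧ n % p = e i % p)) →
        PowerSeries.coeff n ((N * M * P) i j) = 0) := by
  classical
  obtain ⟨H, e, hech, hred, N₀, hN₀, hN₀M⟩ := exists_hnf M hM
  have h0 : St p M e H := by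
    refine ⟨hech, N₀, 1, hN₀, isUnit_one, fun i j => ?_, by rw [Matrix.mul_one, hN₀M]⟩
    rw [Matrix.one_apply]
    split_ifs
    · exact inS_one p
    · exact inS_zero p
  have key : ∀ m : ℕ, ∃ K : Matrix (Fin r) (Fin r) (PowerSeries k), St p M e K ∧
      ∀ i j : Fin r, i < j → j.val < m → Good p e K i j := by
    intro m
    induction m with
    | zero => exact ⟨H, h0, fun i j _ hj => absurd hj (Nat.not_lt_zero _)⟩
    | succ m ih =>
      obtain ⟨K, hK, hg⟩ := ih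
      by_cases hm : m < r
      · exact colstep p m hm K hK hg
      · exact ⟨K, hK, fun i j hij hj => hg i j hij (by have := j.2; omega)⟩
  obtain ⟨K, ⟨hech', N, P, hN, hP, hPS, hNMP⟩, hg⟩ := key r
  refine ⟨N, P, e, hN, hP, fun i j n hn => hPS i j n hn, ?_, ?_, ?_⟩
  · intro i; rw [hNMP]; exact hech'.1 i
  · intro i j hj; rw [hNMP]; exact hech'.2 i j hj
  · intro i j hij n hn; rw [hNMP]; exact hg i j hij j.2 n hn

end Groth.Agent.H9.HermitePS2
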