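import Mathlib

set_option autoImplicit false
set_option linter.deprecated false
set_option linter.unusedVariables false
universe u
open scoped Polynomial TensorProduct

namespace Groth.Agent.H9.HilbDef

/-- a cyclic module over `S` (acting through a ring hom into endomorphisms): the quotient of `S`
by the annihilator of the cyclic vector is flat and finite over `R` when the module is. -/
theorem cyc_flat_finite {R S M : Type u} [CommRing R] [CommRing S] [AddCommGroup M] [Module R M]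
    [Module.Flat R M] [Module.Finite R M]
    (g : R →+* S) (E : S →+* Module.End R M)
    (hE : ∀ r, E (g r) = algebraMap R (Module.End R M) r) (u : M)
    (hu : ∀ m, ∃ f, E f u = m) (I : Ideal S) (hI : ∀ f, f ∈ I ↔ E f u = 0) :
    RingHom.Flat ((Ideal.Quotient.mk I).comp g) ∧ RingHom.Finite ((Ideal.Quotient.mk I).comp g) := by
  letI : Algebra R (S ⧸ I) := ((Ideal.Quotient.mk I).comp g).toAlgebra
  letI : Module S M := Module.compHom M E
  have hsm : ∀ (s : S) (m : M), s • m = E s m := fun s m => rfl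
  have hle : I ≤ LinearMap.ker (LinearMap.toSpanSingleton S M u) := by
    intro f hf
    rw [LinearMap.mem_ker, LinearMap.toSpanSingleton_apply, hsm]
    exact (hI f).1 hf
  let Ψ : (S ⧸ I) →ₗ[S] M := Submodule.liftQ I (LinearMap.toSpanSingleton S M u) hle
  have hΨ : ∀ t, Ψ (Ideal.Quotient.mk I t) = E t u := by
    intro t
    show Ψ (Submodule.Quotient.mk t) = _
    rw [Submodule.liftQ_apply, LinearMap.toSpanSingleton_apply, hsm]
  let Ψ' : (S ⧸ I) →ₗ[R] M :=
    { toFun := fun q => Ψ q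
      map_add' := fun a b => Ψ.map_add a b
      map_smul' := fun r q => by
        show Ψ (r • q) = r • Ψ q
        obtain ⟨s, rfl⟩ := Ideal.Quotient.mk_surjective q
        have h1 : r • (Ideal.Quotient.mk I s) = Ideal.Quotient.mk I (g r * s) := by
          rw [Algebra.smul_def, map_mul]; rfl
        rw [h1, hΨ, hΨ, map_mul, Module.End.mul_apply, hE, Module.algebraMap_end_apply] }
  have hΨ' : ∀ t, Ψ' (Ideal.Quotient.mk I t) = E t u := fun t => hΨ t
  have hinj : Function.Injective Ψ' := by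
    rw [injective_iff_map_eq_zero]
    intro q hq
    obtain ⟨s, rfl⟩ := Ideal.Quotient.mk_surjective q
    rw [hΨ'] at hq
    exact Ideal.Quotient.eq_zero_iff_mem.2 ((hI s).2 hq)
  have hsurj : Function.Surjective Ψ' := by
    intro m
    obtain ⟨f, hf⟩ := hu m
    exact ⟨Ideal.Quotient.mk I f, by rw [hΨ', hf]⟩
  let e : (S ⧸ I) ≃ₗ[R] M := LinearEquiv.ofBijective Ψ' ⟨hinj, hsurj⟩
  exact ⟨Module.Flat.of_linearEquiv e, Module.Finite.equiv e.symm⟩

/-- a ring hom out of `k[x,y][t]` into the endomorphisms with prescribed commuting images. -/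
theorem exists_evE {k : Type u} [Field k] {M : Type u} [AddCommGroup M] [Module k[X] M]
    (T₀ T₁ : Module.End k[X] M) (hc : Commute T₀ T₁) :
    ∃ E : (MvPolynomial (Fin 2) k)[X] →+* Module.End k[X] M,
      (∀ a : k, E (Polynomial.C (MvPolynomial.C a)) =
        algebraMap k[X] (Module.End k[X] M) (Polynomial.C a)) ∧
      E (Polynomial.C (MvPolynomial.X 0)) = T₀ ∧ E (Polynomial.C (MvPolynomial.X 1)) = T₁ ∧
      E Polynomial.X = algebraMap k[X] (Module.End k[X] M) Polynomial.X := by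
  classical
  have hcomm : ∀ a ∈ ({T₀, T₁} : Set (Module.End k[X] M)), ∀ b ∈ ({T₀, T₁} : Set (Module.End k[X] M)),
      a * b = b * a := by
    intro a ha b hb
    simp only [Set.mem_insert_iff, Set.mem_singleton_iff] at ha hb
    rcases ha with rfl | rfl <;> rcases hb with rfl | rfl
    · rfl
    · exact hc.eq
    · exact hc.eq.symm
    · rfl
  letI : CommRing (Algebra.adjoin k[X] ({T₀, T₁} : Set (Module.End k[X] M))) :=
    Algebra.adjoinCommRingOfComm k[X] hcomm
  let t₀ : Algebra.adjoin k[X] ({T₀, T₁} : Set (Module.End k[X] M)) :=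
    ⟨T₀, Algebra.subset_adjoin (Set.mem_insert _ _)⟩
  let t₁ : Algebra.adjoin k[X] ({T₀, T₁} : Set (Module.End k[X] M)) :=
    ⟨T₁, Algebra.subset_adjoin (Set.mem_insert_of_mem _ rfl)⟩
  let f₀ : k →+* Algebra.adjoin k[X] ({T₀, T₁} : Set (Module.End k[X] M)) :=
    (algebraMap k[X] (Algebra.adjoin k[X] ({T₀, T₁} : Set (Module.End k[X] M)))).comp Polynomial.C
  let e₁ : MvPolynomial (Fin 2) k →+* Algebra.adjoin k[X] ({T₀, T₁} : Set (Module.End k[X] M)) :=
    MvPolynomial.eval₂Hom f₀ ![t₀, t₁]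
  let e₂ : (MvPolynomial (Fin 2) k)[X] →+* Algebra.adjoin k[X] ({T₀, T₁} : Set (Module.End k[X] M)) :=
    Polynomial.eval₂RingHom e₁
      (algebraMap k[X] (Algebra.adjoin k[X] ({T₀, T₁} : Set (Module.End k[X] M))) Polynomial.X)
  refine ⟨(Algebra.adjoin k[X] ({T₀, T₁} : Set (Module.End k[X] M))).val.toRingHom.comp e₂,
    ?_, ?_, ?_, ?_⟩
  · intro a
    show ((e₂ (Polynomial.C (MvPolynomial.C a)) :
      Algebra.adjoin k[X] ({T₀, T₁} : Set (Module.End k[X] M))) : Module.End k[X] M) = _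
    rw [Polynomial.coe_eval₂RingHom, Polynomial.eval₂_C, MvPolynomial.eval₂Hom_C]
    rfl
  · show ((e₂ (Polynomial.C (MvPolynomial.X 0)) :
      Algebra.adjoin k[X] ({T₀, T₁} : Set (Module.End k[X] M))) : Module.End k[X] M) = _
    rw [Polynomial.coe_eval₂RingHom, Polynomial.eval₂_C, MvPolynomial.eval₂Hom_X']
    rfl
  · show ((e₂ (Polynomial.C (MvPolynomial.X 1)) :
      Algebra.adjoin k[X] ({T₀, T₁} : Set (Module.End k[X] M))) : Module.End k[X] M) = _
    rw [Polynomial.coe_eval₂RingHom, Polynomial.eval₂_C, MvPolynomial.eval₂Hom_X']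
    rfl
  · show ((e₂ Polynomial.X :
      Algebra.adjoin k[X] ({T₀, T₁} : Set (Module.End k[X] M))) : Module.End k[X] M) = _
    rw [Polynomial.coe_eval₂RingHom, Polynomial.eval₂_X]
    rfl

section ops
variable {k : Type u} [Field k] {B : Type u} [CommRing B] [Algebra k B]

/-- deformed multiplication operator `x + t·a·θ` on `k[t] ⊗ B`. -/
noncomputable def Xop (x : B) (θ : B →ₗ[k] B) (a : k) : Module.End k[X] (k[X] ⊗[k] B) :=
  (LinearMap.mulLeft k x).baseChange k[X] + (Polynomial.X : k[X]) • (a • θ).baseChange k[X]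

theorem Xop_tmul (x : B) (θ : B →ₗ[k] B) (a : k) (r : k[X]) (b : B) :
    Xop x θ a (r ⊗ₜ[k] b) = r ⊗ₜ[k] (x * b) + (Polynomial.X * r) ⊗ₜ[k] (a • θ b) := by
  simp only [Xop, LinearMap.add_apply, LinearMap.smul_apply, LinearMap.baseChange_tmul,
    LinearMap.mulLeft_apply, TensorProduct.smul_tmul', smul_eq_mul]

theorem Xop_comm_tmul (x y : B) (θ : B →ₗ[k] B) (α β : k)
    (hθ : ∀ b, β • θ (x * b) + α • (y * θ b) = β • (x * θ b) + α • θ (y * b))
    (r : k[X]) (b : B) :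
    Xop x θ α (Xop y θ β (r ⊗ₜ[k] b)) = Xop y θ β (Xop x θ α (r ⊗ₜ[k] b)) := by
  simp only [Xop_tmul, map_add]
  have e1 : x * (y * b) = y * (x * b) := mul_left_comm x y b
  have e2 : α • θ (β • θ b) = β • θ (α • θ b) := by
    rw [map_smul, map_smul, smul_comm]
  have e3 : (Polynomial.X * r) ⊗ₜ[k] (α • θ (y * b)) + (Polynomial.X * r) ⊗ₜ[k] (x * (β • θ b))
      = (Polynomial.X * r) ⊗ₜ[k] (β • θ (x * b)) + (Polynomial.X * r) ⊗ₜ[k] (y * (α • θ b)) := by
    rw [← TensorProduct.tmul_add, ← TensorProduct.tmul_add, mul_smul_comm, mul_smul_comm, hθ b,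
      add_comm]
  rw [e1, e2, eq_sub_of_add_eq e3]
  abel

theorem Xop_commute (x y : B) (θ : B →ₗ[k] B) (α β : k)
    (hθ : ∀ b, β • θ (x * b) + α • (y * θ b) = β • (x * θ b) + α • θ (y * b)) :
    Commute (Xop x θ α) (Xop y θ β) := by
  show Xop x θ α * Xop y θ β = Xop y θ β * Xop x θ α
  refine LinearMap.ext fun m => ?_
  rw [Module.End.mul_apply, Module.End.mul_apply]
  induction m using TensorProduct.induction_on with
  | zero => simp only [map_zero]
  | tmul r b => exact Xop_comm_tmul x y θ α β hθ r b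
  | add m₁ m₂ h₁ h₂ => simp only [map_add, h₁, h₂]

/-- evaluation of the `k[t]` factor at `c`. -/
noncomputable def evc (c : k) : k[X] ⊗[k] B →ₗ[k] B :=
  TensorProduct.lift ((LinearMap.lsmul k B).comp (Polynomial.leval c))

theorem evc_tmul (c : k) (p : k[X]) (b : B) : evc c (p ⊗ₜ[k] b) = p.eval c • b := by
  rw [evc, TensorProduct.lift.tmul]
  rfl

theorem evc_smul (c : k) (p : k[X]) (m : k[X] ⊗[k] B) :
    evc c (p • m) = p.eval c • evc c m := by
  induction m using TensorProduct.induction_on with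
  | zero => simp only [smul_zero, map_zero]
  | tmul q b =>
    rw [TensorProduct.smul_tmul', smul_eq_mul, evc_tmul, evc_tmul, Polynomial.eval_mul, mul_smul]
  | add m₁ m₂ h₁ h₂ => rw [smul_add, map_add, map_add, h₁, h₂, smul_add]

theorem evc_baseChange (c : k) (T : B →ₗ[k] B) (m : k[X] ⊗[k] B) :
    evc c (T.baseChange k[X] m) = T (evc c m) := by
  induction m using TensorProduct.induction_on with
  | zero => simp only [map_zero]
  | tmul q b => rw [LinearMap.baseChange_tmul, evc_tmul, evc_tmul, map_smul]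
  | add m₁ m₂ h₁ h₂ => simp only [map_add, h₁, h₂]

theorem evc_Xop (c : k) (x : B) (θ : B →ₗ[k] B) (a : k) (m : k[X] ⊗[k] B) :
    evc c (Xop x θ a m) = x * evc c m + (c * a) • θ (evc c m) := by
  rw [Xop, LinearMap.add_apply, LinearMap.smul_apply, map_add, evc_smul, evc_baseChange,
    evc_baseChange, Polynomial.eval_X, LinearMap.mulLeft_apply, LinearMap.smul_apply, smul_smul]

theorem exists_X_smul (m : k[X] ⊗[k] B) :
    ∃ h : k[X] ⊗[k] B, m = (1 : k[X]) ⊗ₜ[k] (evc (0 : k) m) + (Polynomial.X : k[X]) • h := by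
  induction m using TensorProduct.induction_on with
  | zero => exact ⟨0, by rw [map_zero, TensorProduct.tmul_zero, smul_zero, add_zero]⟩
  | tmul p b =>
    refine ⟨p.divX ⊗ₜ[k] b, ?_⟩
    rw [evc_tmul, ← TensorProduct.smul_tmul, TensorProduct.smul_tmul', smul_eq_mul,
      ← TensorProduct.add_tmul]
    congr 1
    rw [Polynomial.smul_eq_C_mul, mul_one, ← Polynomial.coeff_zero_eq_eval_zero, add_comm,
      Polynomial.X_mul_divX_add]
  | add m₁ m₂ ih₁ ih₂ =>
    obtain ⟨h₁, e₁⟩ := ih₁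
    obtain ⟨h₂, e₂⟩ := ih₂
    refine ⟨h₁ + h₂, ?_⟩
    rw [map_add, TensorProduct.tmul_add, smul_add]
    conv_lhs => rw [e₁, e₂]
    abel

theorem gen_top (φ : MvPolynomial (Fin 2) k →ₐ[k] B) (hφ : Function.Surjective φ)
    (B' : Submodule k B) (h1 : (1 : B) ∈ B') (hx : ∀ b ∈ B', φ (MvPolynomial.X 0) * b ∈ B')
    (hy : ∀ b ∈ B', φ (MvPolynomial.X 1) * b ∈ B') (b : B) : b ∈ B' := by
  have key : ∀ g : MvPolynomial (Fin 2) k, ∀ b ∈ B', φ g * b ∈ B' := by
    intro g
    induction g using MvPolynomial.induction_on with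
    | C a =>
      intro b hb
      rw [← MvPolynomial.algebraMap_eq, AlgHom.commutes, ← Algebra.smul_def]
      exact B'.smul_mem a hb
    | add p q hp hq =>
      intro b hb
      rw [map_add, add_mul]
      exact B'.add_mem (hp b hb) (hq b hb)
    | mul_X p i hp =>
      intro b hb
      rw [map_mul, mul_assoc]
      refine hp _ ?_
      have hX : ∀ i : Fin 2, ∀ b ∈ B', φ (MvPolynomial.X i) * b ∈ B' :=
        Fin.forall_fin_two.2 ⟨hx, hy⟩
      exact hX i b hb
  obtain ⟨g, rfl⟩ := hφ b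
  have := key g 1 h1
  rwa [mul_one] at this

theorem sub_C_mem (ψ : MvPolynomial (Fin 2) k →ₐ[k] k) (I : Ideal (MvPolynomial (Fin 2) k))
    (hI : ∀ i, MvPolynomial.X i - MvPolynomial.C (ψ (MvPolynomial.X i)) ∈ I)
    (g : MvPolynomial (Fin 2) k) : g - MvPolynomial.C (ψ g) ∈ I := by
  have hψC : ∀ a : k, ψ (MvPolynomial.C a) = a := fun a => by
    rw [← MvPolynomial.algebraMap_eq, AlgHom.commutes]; rfl
  induction g using MvPolynomial.induction_on with
  | C a => rw [hψC, sub_self]; exact I.zero_mem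
  | add p q hp hq =>
    have : p + q - MvPolynomial.C (ψ (p + q)) =
        (p - MvPolynomial.C (ψ p)) + (q - MvPolynomial.C (ψ q)) := by
      rw [map_add, MvPolynomial.C_add]; ring
    rw [this]; exact I.add_mem hp hq
  | mul_X p i hp =>
    have : p * MvPolynomial.X i - MvPolynomial.C (ψ (p * MvPolynomial.X i)) =
        (p - MvPolynomial.C (ψ p)) * MvPolynomial.X i +
          MvPolynomial.C (ψ p) * (MvPolynomial.X i - MvPolynomial.C (ψ (MvPolynomial.X i))) := by
      rw [map_mul, MvPolynomial.C_mul]; ring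
    rw [this]; exact I.add_mem (I.mul_mem_right _ hp) (I.mul_mem_left _ (hI i))

theorem mem_of_apply_eq_zero (ψ : MvPolynomial (Fin 2) k →ₐ[k] k)
    (I : Ideal (MvPolynomial (Fin 2) k))
    (hI : ∀ i, MvPolynomial.X i - MvPolynomial.C (ψ (MvPolynomial.X i)) ∈ I)
    (g : MvPolynomial (Fin 2) k) (hg : ψ g = 0) : g ∈ I := by
  have := sub_C_mem ψ I hI g
  rwa [hg, map_zero, sub_zero] at this

end ops

/-- the cyclic vector -/
noncomputable abbrev u1 (k : Type u) [Field k] (B : Type u) [CommRing B] [Algebra k B] : k[X] ⊗[k] B :=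
  (1 : k[X]) ⊗ₜ[k] (1 : B)

/-- the data of the deformation -/
structure Dat (k : Type u) [Field k] (B : Type u) [CommRing B] [Algebra k B] where
  x : B
  y : B
  α : k
  β : k
  θ : B →ₗ[k] B
  hθz : ∀ b, θ ((β • x - α • y) * b) = (β • x - α • y) * θ b
  hθs : ∀ b, θ b ∈ Submodule.span k (Set.range fun j : ℕ => (β • x - α • y) ^ j)
  hgen : ∀ B' : Submodule k B, (1 : B) ∈ B' → (∀ b ∈ B', x * b ∈ B') → (∀ b ∈ B', y * b ∈ B') →
    ∀ b, b ∈ B'
  E : (MvPolynomial (Fin 2) k)[X] →+* Module.End k[X] (k[X] ⊗[k] B)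
  hEC : ∀ a : k, E (Polynomial.C (MvPolynomial.C a)) =
    algebraMap k[X] (Module.End k[X] (k[X] ⊗[k] B)) (Polynomial.C a)
  hE0 : E (Polynomial.C (MvPolynomial.X 0)) = Xop x θ α
  hE1 : E (Polynomial.C (MvPolynomial.X 1)) = Xop y θ β
  hEX : E Polynomial.X = algebraMap k[X] (Module.End k[X] (k[X] ⊗[k] B)) Polynomial.X

namespace Dat
variable {k : Type u} [Field k] {B : Type u} [CommRing B] [Algebra k B] (D : Dat k B)

abbrev z : B := D.β • D.x - D.α • D.y


theorem E_map (r : k[X]) :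
    D.E (Polynomial.mapRingHom (algebraMap k (MvPolynomial (Fin 2) k)) r) =
      algebraMap k[X] (Module.End k[X] (k[X] ⊗[k] B)) r := by
  have h : D.E.comp (Polynomial.mapRingHom (algebraMap k (MvPolynomial (Fin 2) k))) =
      algebraMap k[X] (Module.End k[X] (k[X] ⊗[k] B)) := by
    refine Polynomial.ringHom_ext (fun a => ?_) ?_
    · rw [RingHom.comp_apply, Polynomial.coe_mapRingHom, Polynomial.map_C,
        MvPolynomial.algebraMap_eq, D.hEC]
    · rw [RingHom.comp_apply, Polynomial.coe_mapRingHom, Polynomial.map_X, D.hEX]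
  exact RingHom.congr_fun h r

theorem fib (c : k) {R' : Type u} [CommRing R'] [Algebra k R'] (lam : B →ₗ[k] R')
    (ψ : MvPolynomial (Fin 2) k →ₐ[k] R')
    (h0 : ∀ b, lam (D.x * b + (c * D.α) • D.θ b) = ψ (MvPolynomial.X 0) * lam b)
    (h1 : ∀ b, lam (D.y * b + (c * D.β) • D.θ b) = ψ (MvPolynomial.X 1) * lam b)
    (f : (MvPolynomial (Fin 2) k)[X]) (m : k[X] ⊗[k] B) :
    lam (evc c (D.E f m)) = ψ (f.eval (MvPolynomial.C c)) * lam (evc c m) := by
  have hψC : ∀ a : k, ψ (MvPolynomial.C a) = algebraMap k R' a := fun a => by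
    rw [← MvPolynomial.algebraMap_eq, AlgHom.commutes]
  suffices h : ∀ f : (MvPolynomial (Fin 2) k)[X], ∀ m : k[X] ⊗[k] B,
      lam (evc c (D.E f m)) = ψ (f.eval (MvPolynomial.C c)) * lam (evc c m) from h f m
  have hadd : ∀ f g : (MvPolynomial (Fin 2) k)[X],
      (∀ m : k[X] ⊗[k] B, lam (evc c (D.E f m)) = ψ (f.eval (MvPolynomial.C c)) * lam (evc c m)) →
      (∀ m : k[X] ⊗[k] B, lam (evc c (D.E g m)) = ψ (g.eval (MvPolynomial.C c)) * lam (evc c m)) →
      ∀ m : k[X] ⊗[k] B,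
        lam (evc c (D.E (f + g) m)) = ψ ((f + g).eval (MvPolynomial.C c)) * lam (evc c m) := by
    intro f g hf hg m
    simp only [map_add, LinearMap.add_apply, hf m, hg m, Polynomial.eval_add, add_mul]
  have hmul : ∀ f g : (MvPolynomial (Fin 2) k)[X],
      (∀ m : k[X] ⊗[k] B, lam (evc c (D.E f m)) = ψ (f.eval (MvPolynomial.C c)) * lam (evc c m)) →
      (∀ m : k[X] ⊗[k] B, lam (evc c (D.E g m)) = ψ (g.eval (MvPolynomial.C c)) * lam (evc c m)) →
      ∀ m : k[X] ⊗[k] B,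
        lam (evc c (D.E (f * g) m)) = ψ ((f * g).eval (MvPolynomial.C c)) * lam (evc c m) := by
    intro f g hf hg m
    rw [map_mul, Module.End.mul_apply, hf, hg, Polynomial.eval_mul, map_mul, mul_assoc]
  have hCC : ∀ (a : k) (m : k[X] ⊗[k] B),
      lam (evc c (D.E (Polynomial.C (MvPolynomial.C a)) m)) =
        ψ ((Polynomial.C (MvPolynomial.C a)).eval (MvPolynomial.C c)) * lam (evc c m) := by
    intro a m
    rw [D.hEC, Module.algebraMap_end_apply, evc_smul, Polynomial.eval_C, Polynomial.eval_C,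
      map_smul, hψC, Algebra.smul_def]
  have hCX0 : ∀ m : k[X] ⊗[k] B,
      lam (evc c (D.E (Polynomial.C (MvPolynomial.X 0)) m)) =
        ψ ((Polynomial.C (MvPolynomial.X 0)).eval (MvPolynomial.C c)) * lam (evc c m) := by
    intro m
    rw [D.hE0, evc_Xop, Polynomial.eval_C]
    exact h0 _
  have hCX1 : ∀ m : k[X] ⊗[k] B,
      lam (evc c (D.E (Polynomial.C (MvPolynomial.X 1)) m)) =
        ψ ((Polynomial.C (MvPolynomial.X 1)).eval (MvPolynomial.C c)) * lam (evc c m) := by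
    intro m
    rw [D.hE1, evc_Xop, Polynomial.eval_C]
    exact h1 _
  have hCX : ∀ i : Fin 2, ∀ m : k[X] ⊗[k] B,
      lam (evc c (D.E (Polynomial.C (MvPolynomial.X i)) m)) =
        ψ ((Polynomial.C (MvPolynomial.X i)).eval (MvPolynomial.C c)) * lam (evc c m) :=
    Fin.forall_fin_two.2 ⟨hCX0, hCX1⟩
  have hX : ∀ m : k[X] ⊗[k] B,
      lam (evc c (D.E Polynomial.X m)) =
        ψ ((Polynomial.X : (MvPolynomial (Fin 2) k)[X]).eval (MvPolynomial.C c)) * lam (evc c m) := by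
    intro m
    rw [D.hEX, Module.algebraMap_end_apply, evc_smul, Polynomial.eval_X, Polynomial.eval_X,
      map_smul, hψC, Algebra.smul_def]
  have hA : ∀ g : MvPolynomial (Fin 2) k, ∀ m : k[X] ⊗[k] B,
      lam (evc c (D.E (Polynomial.C g) m)) =
        ψ ((Polynomial.C g).eval (MvPolynomial.C c)) * lam (evc c m) := by
    intro g
    induction g using MvPolynomial.induction_on with
    | C a => exact hCC a
    | add p q hp hq => rw [Polynomial.C_add]; exact hadd _ _ hp hq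
    | mul_X p i hp => rw [Polynomial.C_mul]; exact hmul _ _ hp (hCX i)
  intro f
  refine Polynomial.induction_on f (fun a => hA a) (fun p q hp hq => hadd _ _ hp hq)
    (fun n a h => ?_)
  rw [pow_succ, ← mul_assoc]
  exact hmul _ _ h hX

theorem fib_vanish (c : k) {R' : Type u} [CommRing R'] [Algebra k R'] (lam : B →ₗ[k] R')
    (ψ : MvPolynomial (Fin 2) k →ₐ[k] R')
    (h0 : ∀ b, lam (D.x * b + (c * D.α) • D.θ b) = ψ (MvPolynomial.X 0) * lam b)
    (h1 : ∀ b, lam (D.y * b + (c * D.β) • D.θ b) = ψ (MvPolynomial.X 1) * lam b)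
    (hl1 : lam 1 = 1)
    (f : (MvPolynomial (Fin 2) k)[X]) (hf : D.E f (u1 k B) = 0) :
    ψ (f.eval (MvPolynomial.C c)) = 0 := by
  have := D.fib c lam ψ h0 h1 f (u1 k B)
  rw [hf, map_zero, map_zero, evc_tmul, Polynomial.eval_one, one_smul, hl1, mul_one] at this
  exact this.symm

/-- the annihilator of the cyclic vector -/
noncomputable def I : Ideal (MvPolynomial (Fin 2) k)[X] where
  carrier := {f | D.E f (u1 k B) = 0}
  add_mem' := by
    intro a b ha hb
    simp only [Set.mem_setOf_eq] at ha hb ⊢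
    rw [map_add, LinearMap.add_apply, ha, hb, add_zero]
  zero_mem' := by
    simp only [Set.mem_setOf_eq]
    rw [map_zero, LinearMap.zero_apply]
  smul_mem' := by
    intro c f hf
    simp only [Set.mem_setOf_eq, smul_eq_mul] at hf ⊢
    rw [map_mul, Module.End.mul_apply, hf, map_zero]

theorem mem_I (f : (MvPolynomial (Fin 2) k)[X]) : f ∈ D.I ↔ D.E f (u1 k B) = 0 := Iff.rfl

/-- the orbit of the cyclic vector -/
noncomputable def Rg : Submodule k[X] (k[X] ⊗[k] B) where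
  carrier := {m | ∃ f, D.E f (u1 k B) = m}
  add_mem' := by
    rintro _ _ ⟨f, rfl⟩ ⟨g, rfl⟩
    exact ⟨f + g, by rw [map_add, LinearMap.add_apply]⟩
  zero_mem' := ⟨0, by rw [map_zero, LinearMap.zero_apply]⟩
  smul_mem' := by
    rintro r _ ⟨f, rfl⟩
    exact ⟨Polynomial.mapRingHom (algebraMap k (MvPolynomial (Fin 2) k)) r * f, by
      rw [map_mul, Module.End.mul_apply, D.E_map, Module.algebraMap_end_apply]⟩

theorem mem_Rg (m : k[X] ⊗[k] B) : m ∈ D.Rg ↔ ∃ f, D.E f (u1 k B) = m := Iff.rfl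

theorem Rg_E (g : (MvPolynomial (Fin 2) k)[X]) (m : k[X] ⊗[k] B) (hm : m ∈ D.Rg) :
    D.E g m ∈ D.Rg := by
  obtain ⟨f, rfl⟩ := hm
  exact ⟨g * f, by rw [map_mul, Module.End.mul_apply]⟩

noncomputable def B' : Submodule k B :=
  Submodule.comap (TensorProduct.mk k k[X] B 1) (D.Rg.restrictScalars k)

theorem mem_B' (b : B) : b ∈ D.B' ↔ (1 : k[X]) ⊗ₜ[k] b ∈ D.Rg := Iff.rfl

theorem one_mem : (1 : B) ∈ D.B' := by
  rw [D.mem_B']
  exact ⟨1, by rw [map_one, Module.End.one_apply]⟩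

theorem z_mem {b : B} (hb : b ∈ D.B') : D.z * b ∈ D.B' := by
  rw [D.mem_B'] at hb ⊢
  have h0 := D.Rg_E (Polynomial.C (MvPolynomial.X 0)) _ hb
  have h1 := D.Rg_E (Polynomial.C (MvPolynomial.X 1)) _ hb
  rw [D.hE0, Xop_tmul] at h0
  rw [D.hE1, Xop_tmul] at h1
  have h2 := D.Rg.sub_mem (D.Rg.smul_of_tower_mem D.β h0) (D.Rg.smul_of_tower_mem D.α h1)
  have key : (1 : k[X]) ⊗ₜ[k] (D.z * b) =
      D.β • ((1 : k[X]) ⊗ₜ[k] (D.x * b) + (Polynomial.X * 1) ⊗ₜ[k] (D.α • D.θ b)) -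
        D.α • ((1 : k[X]) ⊗ₜ[k] (D.y * b) + (Polynomial.X * 1) ⊗ₜ[k] (D.β • D.θ b)) := by
    rw [smul_add, smul_add, ← TensorProduct.tmul_smul, ← TensorProduct.tmul_smul,
      ← TensorProduct.tmul_smul, ← TensorProduct.tmul_smul, smul_comm D.α D.β,
      add_sub_add_right_eq_sub, ← TensorProduct.tmul_sub]
    congr 1
    rw [sub_mul, smul_mul_assoc, smul_mul_assoc]
  rw [key]
  exact h2

theorem pow_mem (j : ℕ) : D.z ^ j ∈ D.B' := by
  induction j with
  | zero => rw [pow_zero]; exact D.one_mem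
  | succ j ih => rw [pow_succ']; exact D.z_mem ih

theorem θ_mem (b : B) : D.θ b ∈ D.B' := by
  have hle : Submodule.span k (Set.range fun j : ℕ => (D.β • D.x - D.α • D.y) ^ j) ≤ D.B' := by
    rw [Submodule.span_le]
    rintro _ ⟨j, rfl⟩
    exact D.pow_mem j
  exact hle (D.hθs b)

theorem x_mem {b : B} (hb : b ∈ D.B') : D.x * b ∈ D.B' := by
  have hθ : D.α • D.θ b ∈ D.B' := D.B'.smul_mem D.α (D.θ_mem b)
  rw [D.mem_B'] at hb hθ ⊢
  have h0 := D.Rg_E (Polynomial.C (MvPolynomial.X 0)) _ hb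
  rw [D.hE0, Xop_tmul] at h0
  have h3 : (Polynomial.X * 1 : k[X]) ⊗ₜ[k] (D.α • D.θ b) ∈ D.Rg := by
    have := D.Rg.smul_mem Polynomial.X hθ
    rwa [TensorProduct.smul_tmul', smul_eq_mul] at this
  exact (Submodule.add_mem_iff_left _ h3).1 h0

theorem y_mem {b : B} (hb : b ∈ D.B') : D.y * b ∈ D.B' := by
  have hθ : D.β • D.θ b ∈ D.B' := D.B'.smul_mem D.β (D.θ_mem b)
  rw [D.mem_B'] at hb hθ ⊢
  have h0 := D.Rg_E (Polynomial.C (MvPolynomial.X 1)) _ hb
  rw [D.hE1, Xop_tmul] at h0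
  have h3 : (Polynomial.X * 1 : k[X]) ⊗ₜ[k] (D.β • D.θ b) ∈ D.Rg := by
    have := D.Rg.smul_mem Polynomial.X hθ
    rwa [TensorProduct.smul_tmul', smul_eq_mul] at this
  exact (Submodule.add_mem_iff_left _ h3).1 h0

theorem top_mem (b : B) : b ∈ D.B' :=
  D.hgen D.B' D.one_mem (fun _ hb => D.x_mem hb) (fun _ hb => D.y_mem hb) b

theorem surj (m : k[X] ⊗[k] B) : ∃ f, D.E f (u1 k B) = m := by
  suffices h : m ∈ D.Rg from h
  induction m using TensorProduct.induction_on with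
  | zero => exact D.Rg.zero_mem
  | tmul p b =>
    have h1 : (1 : k[X]) ⊗ₜ[k] b ∈ D.Rg := D.top_mem b
    have h2 : p ⊗ₜ[k] b = p • ((1 : k[X]) ⊗ₜ[k] b) := by
      rw [TensorProduct.smul_tmul', smul_eq_mul, mul_one]
    rw [h2]
    exact D.Rg.smul_mem p h1
  | add m₁ m₂ h₁ h₂ => exact D.Rg.add_mem h₁ h₂

theorem fib0 (φ : MvPolynomial (Fin 2) k →ₐ[k] B) (hx : φ (MvPolynomial.X 0) = D.x)
    (hy : φ (MvPolynomial.X 1) = D.y) (g : MvPolynomial (Fin 2) k) :
    g ∈ Ideal.map (Polynomial.evalRingHom (0 : MvPolynomial (Fin 2) k)) D.I ↔ φ g = 0 := by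
  have hsurj0 : Function.Surjective (Polynomial.evalRingHom (0 : MvPolynomial (Fin 2) k)) :=
    fun g => ⟨Polynomial.C g, by rw [Polynomial.coe_evalRingHom, Polynomial.eval_C]⟩
  have h0 : ∀ b, (LinearMap.id : B →ₗ[k] B) (D.x * b + ((0 : k) * D.α) • D.θ b) =
      φ (MvPolynomial.X 0) * (LinearMap.id : B →ₗ[k] B) b := by
    intro b
    rw [LinearMap.id_apply, LinearMap.id_apply, zero_mul, zero_smul, add_zero, hx]
  have h1 : ∀ b, (LinearMap.id : B →ₗ[k] B) (D.y * b + ((0 : k) * D.β) • D.θ b) =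
      φ (MvPolynomial.X 1) * (LinearMap.id : B →ₗ[k] B) b := by
    intro b
    rw [LinearMap.id_apply, LinearMap.id_apply, zero_mul, zero_smul, add_zero, hy]
  rw [Ideal.mem_map_iff_of_surjective _ hsurj0]
  constructor
  · rintro ⟨f, hf, rfl⟩
    have := D.fib_vanish 0 LinearMap.id φ h0 h1 (LinearMap.id_apply _) f ((D.mem_I f).1 hf)
    rw [map_zero] at this
    rw [Polynomial.coe_evalRingHom]
    exact this
  · intro hg
    have e1 : evc (0 : k) (D.E (Polynomial.C g) (u1 k B)) = 0 := by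
      have := D.fib 0 LinearMap.id φ h0 h1 (Polynomial.C g) (u1 k B)
      rw [LinearMap.id_apply, LinearMap.id_apply, Polynomial.eval_C, hg, zero_mul] at this
      exact this
    obtain ⟨h, hh⟩ := exists_X_smul (D.E (Polynomial.C g) (u1 k B))
    rw [e1, TensorProduct.tmul_zero, zero_add] at hh
    obtain ⟨f₁, hf₁⟩ := D.surj h
    refine ⟨Polynomial.C g - Polynomial.X * f₁, ?_, ?_⟩
    · rw [D.mem_I, map_sub, map_mul, LinearMap.sub_apply, Module.End.mul_apply, hf₁, D.hEX,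
        Module.algebraMap_end_apply, ← hh, sub_self]
    · rw [Polynomial.coe_evalRingHom, Polynomial.eval_sub, Polynomial.eval_C, Polynomial.eval_mul,
        Polynomial.eval_X, zero_mul, sub_zero]

theorem fibc (ε : B →ₐ[k] k) (hεx : ε D.x = 0) (hεy : ε D.y = 0) (hεθ : ∀ b, ε (D.θ b) = ε b)
    (hp : ¬ (D.α = 0 ∧ D.β = 0)) (c : k) (hc : c ≠ 0) (ρ₀ : B →ₗ[k] k) (hρ1 : ρ₀ 1 = 1)
    (hρx : ∀ b, ρ₀ (D.x * b + (c * D.α) • D.θ b) = 0)
    (hρy : ∀ b, ρ₀ (D.y * b + (c * D.β) • D.θ b) = 0) :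
    Ideal.map (Polynomial.evalRingHom (MvPolynomial.C c)) D.I ≤
        Ideal.span {MvPolynomial.X 0, MvPolynomial.X 1} ∧
      ∃ p : Fin 2 → k, p ≠ 0 ∧ Ideal.map (Polynomial.evalRingHom (MvPolynomial.C c)) D.I ≤
        Ideal.span (Set.range (fun i : Fin 2 => MvPolynomial.X i - MvPolynomial.C (p i))) := by
  have hXmem : ∀ i : Fin 2, (MvPolynomial.X i : MvPolynomial (Fin 2) k) ∈
      Ideal.span ({MvPolynomial.X 0, MvPolynomial.X 1} : Set (MvPolynomial (Fin 2) k)) :=
    Fin.forall_fin_two.2 ⟨Ideal.subset_span (Set.mem_insert _ _),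
      Ideal.subset_span (Set.mem_insert_of_mem _ rfl)⟩
  constructor
  · rw [Ideal.map_le_iff_le_comap]
    intro f hf
    rw [Ideal.mem_comap, Polynomial.coe_evalRingHom]
    have h := D.fib_vanish c ρ₀ (MvPolynomial.aeval (0 : Fin 2 → k))
      (fun b => by rw [hρx, MvPolynomial.aeval_X, Pi.zero_apply, zero_mul])
      (fun b => by rw [hρy, MvPolynomial.aeval_X, Pi.zero_apply, zero_mul]) hρ1 f
      ((D.mem_I f).1 hf)
    refine mem_of_apply_eq_zero (MvPolynomial.aeval (0 : Fin 2 → k)) _ (fun i => ?_) _ h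
    rw [MvPolynomial.aeval_X, Pi.zero_apply, map_zero, sub_zero]
    exact hXmem i
  · refine ⟨![c * D.α, c * D.β], ?_, ?_⟩
    · intro h
      have h0 := congrFun h 0
      have h1 := congrFun h 1
      simp only [Matrix.cons_val_zero, Matrix.cons_val_one, Pi.zero_apply] at h0 h1
      exact hp ⟨(mul_eq_zero.1 h0).resolve_left hc, (mul_eq_zero.1 h1).resolve_left hc⟩
    · rw [Ideal.map_le_iff_le_comap]
      intro f hf
      rw [Ideal.mem_comap, Polynomial.coe_evalRingHom]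
      have h := D.fib_vanish c ε.toLinearMap (MvPolynomial.aeval ![c * D.α, c * D.β])
        (fun b => by simp [hεx, hεθ]) (fun b => by simp [hεy, hεθ]) (by simp) f
        ((D.mem_I f).1 hf)
      refine mem_of_apply_eq_zero (MvPolynomial.aeval ![c * D.α, c * D.β]) _ (fun i => ?_) _ h
      rw [MvPolynomial.aeval_X]
      exact Ideal.subset_span ⟨i, rfl⟩

end Dat

theorem main_abs {k : Type u} [Field k] {B : Type u} [CommRing B] [Algebra k B] [Module.Finite k B]
    (φ : MvPolynomial (Fin 2) k →ₐ[k] B) (hφ : Function.Surjective φ) (α β : k) (θ : B →ₗ[k] B)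
    (hθz : ∀ b, θ ((β • φ (MvPolynomial.X 0) - α • φ (MvPolynomial.X 1)) * b) =
      (β • φ (MvPolynomial.X 0) - α • φ (MvPolynomial.X 1)) * θ b)
    (hθs : ∀ b, θ b ∈ Submodule.span k
      (Set.range fun j : ℕ => (β • φ (MvPolynomial.X 0) - α • φ (MvPolynomial.X 1)) ^ j))
    (ε : B →ₐ[k] k) (hεx : ε (φ (MvPolynomial.X 0)) = 0) (hεy : ε (φ (MvPolynomial.X 1)) = 0)
    (hεθ : ∀ b, ε (θ b) = ε b) (hp : ¬ (α = 0 ∧ β = 0))
    (hρ : ∀ c : k, c ≠ 0 → ∃ ρ₀ : B →ₗ[k] k, ρ₀ 1 = 1 ∧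
      (∀ b, ρ₀ (φ (MvPolynomial.X 0) * b + (c * α) • θ b) = 0) ∧
      (∀ b, ρ₀ (φ (MvPolynomial.X 1) * b + (c * β) • θ b) = 0)) :
    ∃ 𝔞' : Ideal (MvPolynomial (Fin 2) k)[X],
      RingHom.Flat (R := k[X]) (S := (MvPolynomial (Fin 2) k)[X] ⧸ 𝔞') ((Ideal.Quotient.mk 𝔞').comp
        (Polynomial.mapRingHom (algebraMap k (MvPolynomial (Fin 2) k)))) ∧
      RingHom.Finite (A := k[X]) (B := (MvPolynomial (Fin 2) k)[X] ⧸ 𝔞') ((Ideal.Quotient.mk 𝔞').comp
        (Polynomial.mapRingHom (algebraMap k (MvPolynomial (Fin 2) k)))) ∧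
      (∀ g, g ∈ Ideal.map (Polynomial.evalRingHom (0 : MvPolynomial (Fin 2) k)) 𝔞' ↔ φ g = 0) ∧
      ∀ c : k, c ≠ 0 →
        Ideal.map (Polynomial.evalRingHom (MvPolynomial.C c)) 𝔞' ≤
          Ideal.span {MvPolynomial.X 0, MvPolynomial.X 1} ∧
        ∃ p : Fin 2 → k, p ≠ 0 ∧
          Ideal.map (Polynomial.evalRingHom (MvPolynomial.C c)) 𝔞' ≤
            Ideal.span (Set.range (fun i : Fin 2 => MvPolynomial.X i - MvPolynomial.C (p i))) := by
  have hcomm : Commute (Xop (φ (MvPolynomial.X 0)) θ α) (Xop (φ (MvPolynomial.X 1)) θ β) :=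
    Xop_commute _ _ _ _ _ (fun b => by
      have := hθz b
      simp only [sub_mul, smul_mul_assoc, map_sub, map_smul] at this
      exact sub_eq_sub_iff_add_eq_add.1 this)
  obtain ⟨E, hEC, hE0, hE1, hEX⟩ := exists_evE _ _ hcomm
  let D : Dat k B :=
    { x := φ (MvPolynomial.X 0), y := φ (MvPolynomial.X 1), α := α, β := β, θ := θ,
      hθz := hθz, hθs := hθs, hgen := gen_top φ hφ, E := E, hEC := hEC, hE0 := hE0, hE1 := hE1,
      hEX := hEX }
  obtain ⟨hflat, hfin⟩ := cyc_flat_finite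
    (Polynomial.mapRingHom (algebraMap k (MvPolynomial (Fin 2) k))) D.E D.E_map (u1 k B) D.surj D.I D.mem_I
  refine ⟨D.I, hflat, hfin, D.fib0 φ rfl rfl, fun c hc => ?_⟩
  obtain ⟨ρ₀, hρ1, hρx, hρy⟩ := hρ c hc
  exact D.fibc ε hεx hεy hεθ hp c hc ρ₀ hρ1 hρx hρy

end Groth.Agent.H9.HilbDef
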