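import Mathlib
import Groth.Agent.Lib.Helper9.Misc.HilbDef1

set_option autoImplicit false
set_option linter.unusedVariables false
universe u
open scoped Polynomial TensorProduct

namespace Groth.Agent.H9.HilbDef

section loc
variable {k : Type u} [Field k] {B : Type u} [CommRing B] [Algebra k B]

theorem exists_factor {K V W U : Type u} [Field K] [AddCommGroup V] [Module K V]
    [AddCommGroup W] [Module K W] [AddCommGroup U] [Module K U]
    (μ : V →ₗ[K] W) (ε : V →ₗ[K] U) (h : LinearMap.ker μ ≤ LinearMap.ker ε) :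
    ∃ ℓ : W →ₗ[K] U, ∀ v, ℓ (μ v) = ε v := by
  have hinj : LinearMap.ker ((LinearMap.ker μ).liftQ μ le_rfl) = ⊥ :=
    Submodule.ker_liftQ_eq_bot _ _ _ le_rfl
  obtain ⟨g, hg⟩ := LinearMap.exists_leftInverse_of_injective _ hinj
  refine ⟨((LinearMap.ker μ).liftQ ε h).comp g, fun v => ?_⟩
  have h1 : g (μ v) = Submodule.Quotient.mk v := by
    have := LinearMap.congr_fun hg (Submodule.Quotient.mk v)
    rw [LinearMap.comp_apply, Submodule.liftQ_apply, LinearMap.id_apply] at this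
    exact this
  rw [LinearMap.comp_apply, h1, Submodule.liftQ_apply]

theorem eta_mul (ε : B →ₐ[k] k) (𝔪 : Ideal B) (hK1 : ∀ b, b - algebraMap k B (ε b) ∈ 𝔪)
    (η : B →ₗ[k] k) (hη2 : ∀ m ∈ 𝔪 * 𝔪, η m = 0) (b m : B) (hm : m ∈ 𝔪) :
    η (b * m) = ε b * η m := by
  have h1 : b * m = ε b • m + (b - algebraMap k B (ε b)) * m := by
    rw [Algebra.smul_def]; ring
  rw [h1, map_add, map_smul, hη2 _ (Ideal.mul_mem_mul (hK1 b) hm), add_zero, smul_eq_mul]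

theorem isUnit_of_eps_ne (ε : B →ₐ[k] k) (𝔪 : Ideal B)
    (hK1 : ∀ b, b - algebraMap k B (ε b) ∈ 𝔪)
    (hnil : ∀ m ∈ 𝔪, IsNilpotent m) (b : B) (hb : ε b ≠ 0) : IsUnit b := by
  have h1 : IsUnit (algebraMap k B (ε b)) := (IsUnit.mk0 _ hb).map (algebraMap k B)
  have h2 : IsNilpotent (b - algebraMap k B (ε b)) := hnil _ (hK1 b)
  have h3 : b = algebraMap k B (ε b) + (b - algebraMap k B (ε b)) := by ring
  rw [h3]
  exact IsNilpotent.isUnit_add_left_of_commute h2 h1 (Commute.all _ _)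

theorem exists_theta [Nontrivial B] (ε : B →ₐ[k] k) (𝔪 : Ideal B)
    (hK1 : ∀ b, b - algebraMap k B (ε b) ∈ 𝔪)
    (hnil : ∀ m ∈ 𝔪, IsNilpotent m) (z : B) (hz : z ∈ 𝔪) (hεz : ε z = 0) :
    ∃ θ : B →ₗ[k] B, (∀ b, θ (z * b) = z * θ b) ∧
      (∀ b, θ b ∈ Submodule.span k (Set.range fun j : ℕ => z ^ j)) ∧ (∀ b, ε (θ b) = ε b) := by
  classical
  obtain ⟨d, hd1, hd0⟩ : ∃ d, z ^ (d + 1) = 0 ∧ z ^ d ≠ 0 := by
    have hex : ∃ n, z ^ n = 0 := hnil z hz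
    have h0 : Nat.find hex ≠ 0 := by
      intro h
      have := Nat.find_spec hex
      rw [h, pow_zero] at this
      exact one_ne_zero this
    obtain ⟨d, hd⟩ := Nat.exists_eq_succ_of_ne_zero h0
    refine ⟨d, ?_, ?_⟩
    · have := Nat.find_spec hex
      rwa [hd] at this
    · exact Nat.find_min hex (by rw [hd]; exact Nat.lt_succ_self d)
  have hker : LinearMap.ker (LinearMap.mulLeft k (z ^ d)) ≤ LinearMap.ker ε.toLinearMap := by
    intro b hb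
    rw [LinearMap.mem_ker, LinearMap.mulLeft_apply] at hb
    rw [LinearMap.mem_ker, AlgHom.toLinearMap_apply]
    by_contra hne
    have hu := isUnit_of_eps_ne ε 𝔪 hK1 hnil b hne
    exact hd0 ((hu.mul_left_eq_zero).1 hb)
  obtain ⟨ℓ, hℓ⟩ := exists_factor (LinearMap.mulLeft k (z ^ d)) ε.toLinearMap hker
  have hℓ' : ∀ b, ℓ (z ^ d * b) = ε b := fun b => by
    have := hℓ b
    rwa [LinearMap.mulLeft_apply, AlgHom.toLinearMap_apply] at this
  obtain ⟨θ, hθ⟩ : ∃ θ : B →ₗ[k] B,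
      ∀ b, θ b = ∑ j ∈ Finset.range (d + 1), ℓ (z ^ (d - j) * b) • z ^ j := by
    refine ⟨∑ j ∈ Finset.range (d + 1),
      (ℓ.comp (LinearMap.mulLeft k (z ^ (d - j)))).smulRight (z ^ j), fun b => ?_⟩
    simp only [LinearMap.sum_apply, LinearMap.smulRight_apply, LinearMap.comp_apply,
      LinearMap.mulLeft_apply]
  refine ⟨θ, ?_, ?_, ?_⟩
  · intro b
    rw [hθ, hθ, Finset.sum_range_succ', Finset.mul_sum, Finset.sum_range_succ]
    have e1 : ℓ (z ^ (d - 0) * (z * b)) • z ^ 0 = 0 := by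
      rw [Nat.sub_zero, ← mul_assoc, ← pow_succ, hd1, zero_mul, map_zero, zero_smul]
    have e2 : z * (ℓ (z ^ (d - d) * b) • z ^ d) = 0 := by
      rw [mul_smul_comm, ← pow_succ', hd1, smul_zero]
    rw [e1, e2, add_zero, add_zero]
    refine Finset.sum_congr rfl (fun j hj => ?_)
    have hj' : j < d := Finset.mem_range.1 hj
    have e3 : d - j = (d - (j + 1)) + 1 := by omega
    have e4 : z ^ (d - j) * b = z ^ (d - (j + 1)) * (z * b) := by
      rw [e3, pow_succ, mul_assoc]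
    rw [mul_smul_comm, ← pow_succ', e4]
  · intro b
    rw [hθ]
    exact Submodule.sum_mem _ (fun j _ => Submodule.smul_mem _ _ (Submodule.subset_span ⟨j, rfl⟩))
  · intro b
    rw [hθ, map_sum, Finset.sum_eq_single 0]
    · rw [Nat.sub_zero, pow_zero, map_smul, map_one, smul_eq_mul, mul_one, hℓ']
    · intro j _ hj
      rw [map_smul, map_pow, hεz, zero_pow hj, smul_zero]
    · intro h
      exact absurd (Finset.mem_range.2 (Nat.succ_pos d)) h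

theorem exists_tangent (ε : B →ₐ[k] k) (x y : B)
    (hK1 : ∀ b, b - algebraMap k B (ε b) ∈ Ideal.span {x, y})
    (hnil : ∀ m ∈ Ideal.span {x, y}, IsNilpotent m) (hε : ∀ m ∈ Ideal.span {x, y}, ε m = 0)
    (hne : ¬ (x = 0 ∧ y = 0)) :
    ∃ η : B →ₗ[k] k, η 1 = 0 ∧ (∀ m ∈ Ideal.span {x, y} * Ideal.span {x, y}, η m = 0) ∧
      ¬ (η x = 0 ∧ η y = 0) := by
  obtain ⟨𝔪, h𝔪⟩ : ∃ 𝔪 : Ideal B, 𝔪 = Ideal.span {x, y} := ⟨_, rfl⟩
  rw [← h𝔪] at hK1 hnil hε ⊢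
  have hx𝔪 : x ∈ 𝔪 := by rw [h𝔪]; exact Ideal.subset_span (Set.mem_insert _ _)
  have hy𝔪 : y ∈ 𝔪 := by rw [h𝔪]; exact Ideal.subset_span (Set.mem_insert_of_mem _ rfl)
  have hnot : ¬ 𝔪 ≤ 𝔪 * 𝔪 := by
    intro hle
    have hjac : 𝔪 ≤ Ideal.jacobson ⊥ := by
      intro m hm
      obtain ⟨n, hn⟩ := hnil m hm
      exact Ideal.radical_le_jacobson (Ideal.mem_radical_iff.2 ⟨n, by rw [hn]; exact Ideal.zero_mem _⟩)
    have hfg : (𝔪 : Submodule B B).FG := by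
      rw [h𝔪]; exact Submodule.fg_span (Set.toFinite _)
    have hbot : 𝔪 = ⊥ := Submodule.eq_bot_of_le_smul_of_le_jacobson_bot 𝔪 𝔪 hfg hle hjac
    rw [hbot] at hx𝔪 hy𝔪
    exact hne ⟨Ideal.mem_bot.1 hx𝔪, Ideal.mem_bot.1 hy𝔪⟩
  obtain ⟨v, hv𝔪, hv2⟩ := SetLike.not_le_iff_exists.1 hnot
  have hvW : v ∉ Submodule.span k {(1 : B)} ⊔ (𝔪 * 𝔪).restrictScalars k := by
    intro hv
    obtain ⟨w₁, hw₁, w₂, hw₂, hsum⟩ := Submodule.mem_sup.1 hv
    obtain ⟨a, rfl⟩ := Submodule.mem_span_singleton.1 hw₁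
    have hw₂' : w₂ ∈ 𝔪 * 𝔪 := hw₂
    have h1 : ε v = 0 := hε v hv𝔪
    have h2 : ε w₂ = 0 := hε w₂ (Ideal.mul_le_left hw₂')
    have h3 : a = 0 := by
      have := congrArg ε hsum
      rw [map_add, map_smul, map_one, h1, h2, add_zero, smul_eq_mul, mul_one] at this
      exact this
    rw [h3, zero_smul, zero_add] at hsum
    exact hv2 (hsum ▸ hw₂')
  obtain ⟨η, hηv, hηW⟩ := Submodule.exists_le_ker_of_notMem hvW
  have hη1 : η 1 = 0 := by
    have h1 : (1 : B) ∈ Submodule.span k {(1 : B)} ⊔ (𝔪 * 𝔪).restrictScalars k :=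
      Submodule.mem_sup_left (Submodule.mem_span_singleton_self 1)
    exact LinearMap.mem_ker.1 (hηW h1)
  have hη2 : ∀ m ∈ 𝔪 * 𝔪, η m = 0 := fun m hm =>
    LinearMap.mem_ker.1 (hηW (Submodule.mem_sup_right hm))
  refine ⟨η, hη1, hη2, ?_⟩
  rintro ⟨hx0, hy0⟩
  apply hηv
  rw [h𝔪] at hv𝔪
  obtain ⟨c₁, c₂, hc⟩ := Ideal.mem_span_pair.1 hv𝔪
  rw [← hc, map_add, eta_mul ε 𝔪 hK1 η hη2 c₁ x hx𝔪, eta_mul ε 𝔪 hK1 η hη2 c₂ y hy𝔪, hx0, hy0,
    mul_zero, mul_zero, add_zero]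

theorem exists_rho (ε : B →ₐ[k] k) (x y : B)
    (hK1 : ∀ b, b - algebraMap k B (ε b) ∈ Ideal.span {x, y})
    (hε𝔪 : ∀ m ∈ Ideal.span {x, y}, ε m = 0)
    (η : B →ₗ[k] k) (hη1 : η 1 = 0)
    (hη2 : ∀ m ∈ Ideal.span {x, y} * Ideal.span {x, y}, η m = 0)
    (θ : B →ₗ[k] B)
    (hθs : ∀ b, θ b ∈ Submodule.span k (Set.range fun j : ℕ => (η y • x - η x • y) ^ j))
    (hεθ : ∀ b, ε (θ b) = ε b) (c : k) :
    ∃ ρ₀ : B →ₗ[k] k, ρ₀ 1 = 1 ∧ (∀ b, ρ₀ (x * b + (c * η x) • θ b) = 0) ∧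
      (∀ b, ρ₀ (y * b + (c * η y) • θ b) = 0) := by
  have hx𝔪 : x ∈ Ideal.span {x, y} := Ideal.subset_span (Set.mem_insert _ _)
  have hy𝔪 : y ∈ Ideal.span {x, y} := Ideal.subset_span (Set.mem_insert_of_mem _ rfl)
  have hz𝔪 : (η y • x - η x • y) ∈ Ideal.span {x, y} :=
    Ideal.sub_mem _ (Submodule.smul_of_tower_mem _ _ hx𝔪) (Submodule.smul_of_tower_mem _ _ hy𝔪)
  have hηz : ∀ j : ℕ, η ((η y • x - η x • y) ^ j) = 0 := by
    intro j
    rcases j with _ | _ | j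
    · rw [pow_zero, hη1]
    · simp only [zero_add, pow_one, map_sub, map_smul, smul_eq_mul]
      ring
    · refine hη2 _ ?_
      rw [pow_succ, pow_succ, mul_assoc]
      exact Ideal.mul_mem_left _ _ (Ideal.mul_mem_mul hz𝔪 hz𝔪)
  have hηθ : ∀ b, η (θ b) = 0 := by
    intro b
    have hle : Submodule.span k (Set.range fun j : ℕ => (η y • x - η x • y) ^ j) ≤
        LinearMap.ker η := by
      rw [Submodule.span_le]
      rintro _ ⟨j, rfl⟩
      exact LinearMap.mem_ker.2 (hηz j)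
    exact LinearMap.mem_ker.1 (hle (hθs b))
  refine ⟨ε.toLinearMap - c • η, ?_, ?_, ?_⟩
  · rw [LinearMap.sub_apply, LinearMap.smul_apply, AlgHom.toLinearMap_apply, map_one, hη1,
      smul_zero, sub_zero]
  · intro b
    have e1 : η (x * b) = ε b * η x := by
      rw [mul_comm]; exact eta_mul ε _ hK1 η hη2 b x hx𝔪
    simp only [LinearMap.sub_apply, LinearMap.smul_apply, AlgHom.toLinearMap_apply, map_add,
      map_smul, map_mul, hεθ, hηθ, e1, hε𝔪 x hx𝔪, smul_eq_mul]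
    ring
  · intro b
    have e1 : η (y * b) = ε b * η y := by
      rw [mul_comm]; exact eta_mul ε _ hK1 η hη2 b y hy𝔪
    simp only [LinearMap.sub_apply, LinearMap.smul_apply, AlgHom.toLinearMap_apply, map_add,
      map_smul, map_mul, hεθ, hηθ, e1, hε𝔪 y hy𝔪, smul_eq_mul]
    ring

end loc

theorem main (k : Type u) [Field k]
    (𝔞 : Ideal (MvPolynomial (Fin 2) k)) [Module.Finite k (MvPolynomial (Fin 2) k ⧸ 𝔞)]
    (hn : 2 ≤ Module.finrank k (MvPolynomial (Fin 2) k ⧸ 𝔞))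
    (hsupp : 𝔞.radical = Ideal.span {MvPolynomial.X 0, MvPolynomial.X 1}) :
    ∃ 𝔞' : Ideal (MvPolynomial (Fin 2) k)[X],
      RingHom.Flat (R := k[X]) (S := (MvPolynomial (Fin 2) k)[X] ⧸ 𝔞')
        ((Ideal.Quotient.mk 𝔞').comp (Polynomial.mapRingHom (algebraMap k (MvPolynomial (Fin 2) k)))) ∧
      RingHom.Finite (A := k[X]) (B := (MvPolynomial (Fin 2) k)[X] ⧸ 𝔞')
        ((Ideal.Quotient.mk 𝔞').comp (Polynomial.mapRingHom (algebraMap k (MvPolynomial (Fin 2) k)))) ∧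
      Ideal.map (Polynomial.evalRingHom (0 : MvPolynomial (Fin 2) k)) 𝔞' = 𝔞 ∧
      ∀ c : k, c ≠ 0 →
        Ideal.map (Polynomial.evalRingHom (MvPolynomial.C c)) 𝔞' ≤ Ideal.span {MvPolynomial.X 0, MvPolynomial.X 1} ∧
        ∃ p : Fin 2 → k, p ≠ 0 ∧
          Ideal.map (Polynomial.evalRingHom (MvPolynomial.C c)) 𝔞' ≤
            Ideal.span (Set.range (fun i : Fin 2 => MvPolynomial.X i - MvPolynomial.C (p i))) := by
  haveI : Nontrivial (MvPolynomial (Fin 2) k ⧸ 𝔞) :=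
    Module.nontrivial_of_finrank_pos (R := k) (by omega)
  obtain ⟨φ, hφdef⟩ : ∃ φ : MvPolynomial (Fin 2) k →ₐ[k] (MvPolynomial (Fin 2) k ⧸ 𝔞),
      φ = Ideal.Quotient.mkₐ k 𝔞 := ⟨_, rfl⟩
  have hφs : Function.Surjective φ := by rw [hφdef]; exact Ideal.Quotient.mkₐ_surjective k 𝔞
  have hφ0 : ∀ g, φ g = 0 ↔ g ∈ 𝔞 := fun g => by
    rw [hφdef, Ideal.Quotient.mkₐ_eq_mk, Ideal.Quotient.eq_zero_iff_mem]
  have hXmem : ∀ i : Fin 2, (MvPolynomial.X i : MvPolynomial (Fin 2) k) ∈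
      Ideal.span ({MvPolynomial.X 0, MvPolynomial.X 1} : Set (MvPolynomial (Fin 2) k)) :=
    Fin.forall_fin_two.2 ⟨Ideal.subset_span (Set.mem_insert _ _),
      Ideal.subset_span (Set.mem_insert_of_mem _ rfl)⟩
  have hle : 𝔞 ≤ Ideal.span {MvPolynomial.X 0, MvPolynomial.X 1} := by
    rw [← hsupp]; exact Ideal.le_radical
  have hev : ∀ g ∈ Ideal.span ({MvPolynomial.X 0, MvPolynomial.X 1} :
      Set (MvPolynomial (Fin 2) k)), MvPolynomial.aeval (0 : Fin 2 → k) g = 0 := by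
    intro g hg
    obtain ⟨c₁, c₂, rfl⟩ := Ideal.mem_span_pair.1 hg
    simp
  obtain ⟨ε, hε⟩ : ∃ ε : (MvPolynomial (Fin 2) k ⧸ 𝔞) →ₐ[k] k,
      ∀ g, ε (φ g) = MvPolynomial.aeval (0 : Fin 2 → k) g := by
    refine ⟨Ideal.Quotient.liftₐ 𝔞 (MvPolynomial.aeval (0 : Fin 2 → k))
      (fun g hg => hev g (hle hg)), fun g => ?_⟩
    rw [hφdef]; rfl
  obtain ⟨x, hx⟩ : ∃ x, x = φ (MvPolynomial.X 0) := ⟨_, rfl⟩
  obtain ⟨y, hy⟩ : ∃ y, y = φ (MvPolynomial.X 1) := ⟨_, rfl⟩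
  have hεx : ε x = 0 := by rw [hx, hε, MvPolynomial.aeval_X]; rfl
  have hεy : ε y = 0 := by rw [hy, hε, MvPolynomial.aeval_X]; rfl
  have hx𝔪 : x ∈ Ideal.span {x, y} := Ideal.subset_span (Set.mem_insert _ _)
  have hy𝔪 : y ∈ Ideal.span {x, y} := Ideal.subset_span (Set.mem_insert_of_mem _ rfl)
  have hK1 : ∀ b, b - algebraMap k _ (ε b) ∈ Ideal.span {x, y} := by
    intro b
    obtain ⟨g, rfl⟩ := hφs b
    have h := sub_C_mem (MvPolynomial.aeval (0 : Fin 2 → k)) (Ideal.comap φ (Ideal.span {x, y}))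
      (fun i => by
        rw [Ideal.mem_comap, MvPolynomial.aeval_X, Pi.zero_apply, map_zero, sub_zero]
        revert i
        rw [Fin.forall_fin_two]
        exact ⟨by rw [← hx]; exact hx𝔪, by rw [← hy]; exact hy𝔪⟩) g
    rw [Ideal.mem_comap, map_sub, ← MvPolynomial.algebraMap_eq, AlgHom.commutes] at h
    rw [hε]; exact h
  have hXrad : ∀ i : Fin 2, IsNilpotent (φ (MvPolynomial.X i)) := by
    intro i
    have h1 : (MvPolynomial.X i : MvPolynomial (Fin 2) k) ∈ 𝔞.radical := by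
      rw [hsupp]; exact hXmem i
    obtain ⟨n, hn⟩ := h1
    exact ⟨n, by rw [← map_pow, hφ0]; exact hn⟩
  have hnil : ∀ m ∈ Ideal.span {x, y}, IsNilpotent m := by
    have h1 : Ideal.span {x, y} ≤ nilradical (MvPolynomial (Fin 2) k ⧸ 𝔞) := by
      rw [Ideal.span_le]
      intro w hw
      rcases hw with rfl | rfl
      · exact mem_nilradical.2 (by rw [hx]; exact hXrad 0)
      · exact mem_nilradical.2 (by rw [hy]; exact hXrad 1)
    intro m hm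
    exact mem_nilradical.1 (h1 hm)
  have hε𝔪 : ∀ m ∈ Ideal.span {x, y}, ε m = 0 := by
    intro m hm
    obtain ⟨c₁, c₂, rfl⟩ := Ideal.mem_span_pair.1 hm
    rw [map_add, map_mul, map_mul, hεx, hεy, mul_zero, mul_zero, add_zero]
  have hne : ¬ (x = 0 ∧ y = 0) := by
    rintro ⟨hx0, hy0⟩
    have hall : ∀ b : MvPolynomial (Fin 2) k ⧸ 𝔞,
        ∃ c : k, c • (1 : MvPolynomial (Fin 2) k ⧸ 𝔞) = b := by
      intro b
      refine ⟨ε b, ?_⟩
      have h1 := hK1 b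
      rw [hx0, hy0] at h1
      have h0 : b - algebraMap k _ (ε b) = 0 := by
        obtain ⟨c₁, c₂, h⟩ := Ideal.mem_span_pair.1 h1
        rw [← h, mul_zero, mul_zero, add_zero]
      exact (Algebra.algebraMap_eq_smul_one (ε b)).symm.trans (sub_eq_zero.1 h0).symm
    have := finrank_le_one (1 : MvPolynomial (Fin 2) k ⧸ 𝔞) hall
    omega
  obtain ⟨η, hη1, hη2, hηne⟩ := exists_tangent ε x y hK1 hnil hε𝔪 hne
  have hz𝔪 : (η y • x - η x • y) ∈ Ideal.span {x, y} :=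
    Ideal.sub_mem _ (Submodule.smul_of_tower_mem _ _ hx𝔪) (Submodule.smul_of_tower_mem _ _ hy𝔪)
  have hεz : ε (η y • x - η x • y) = 0 := hε𝔪 _ hz𝔪
  obtain ⟨θ, hθz, hθs, hεθ⟩ :=
    exists_theta ε (Ideal.span {x, y}) hK1 hnil (η y • x - η x • y) hz𝔪 hεz
  have hρ := fun (c : k) (_ : c ≠ 0) => exists_rho ε x y hK1 hε𝔪 η hη1 hη2 θ hθs hεθ c
  subst hx hy
  obtain ⟨𝔞', hflat, hfin, h0, hc⟩ := main_abs φ hφs (η (φ (MvPolynomial.X 0)))
    (η (φ (MvPolynomial.X 1))) θ hθz hθs ε hεx hεy hεθ hηne hρ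
  refine ⟨𝔞', hflat, hfin, ?_, hc⟩
  ext g
  rw [h0, hφ0]

end Groth.Agent.H9.HilbDef
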