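import Mathlib
import Groth.Prelude.Def_Hoch
import Groth.Prelude.Def_CoactBr2

namespace Groth.Agent.H9.HochBC

open TensorProduct

universe u v w

section Abstract

variable {K : Type u} [Field K] {R : Type w} [CommRing R] [Algebra K R]
variable {C : Type*} {D : Type*} [AddCommGroup C] [Module K C] [AddCommGroup D] [Module K D]
variable {C' : Type*} {D' : Type*} [AddCommGroup C'] [Module R C'] [AddCommGroup D'] [Module R D']

theorem exact_baseChange {X Y Z : Type*} [AddCommGroup X] [Module K X] [AddCommGroup Y] [Module K Y]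
    [AddCommGroup Z] [Module K Z] {f : X →ₗ[K] Y} {g : Y →ₗ[K] Z} (h : Function.Exact f g) :
    Function.Exact (f.baseChange R) (g.baseChange R) :=
  Module.Flat.lTensor_exact R h

theorem exact_subtype_mkQ {Y : Type*} [AddCommGroup Y] [Module K Y] (B : Submodule K Y) :
    Function.Exact B.subtype B.mkQ := by
  intro c
  rw [Submodule.mkQ_apply, Submodule.Quotient.mk_eq_zero]
  simp

/-- flat base change of a subquotient `ker d / (B ∩ ker d)` -/
theorem exists_subquot_equiv (d : C →ₗ[K] D) (B : Submodule K C) (d' : C' →ₗ[R] D')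
    (B' : Submodule R C')
    (ψC : R ⊗[K] C ≃ₗ[R] C') (ψD : R ⊗[K] D →ₗ[R] D') (hψD : Function.Injective ψD)
    (hcomm : ∀ x, ψD (d.baseChange R x) = d' (ψC x))
    (hB : B' = Submodule.map ψC.toLinearMap (LinearMap.range (B.subtype.baseChange R))) :
    ∃ e : R ⊗[K] (LinearMap.ker d ⧸ (B.comap (LinearMap.ker d).subtype)) ≃ₗ[R]
        (LinearMap.ker d' ⧸ (B'.comap (LinearMap.ker d').subtype)),
      ∀ (r : R) (z : LinearMap.ker d) (hz : ψC (r ⊗ₜ[K] (z : C)) ∈ LinearMap.ker d'),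
        e (r ⊗ₜ[K] (Submodule.mkQ _ z)) = Submodule.mkQ _ ⟨ψC (r ⊗ₜ[K] (z : C)), hz⟩ := by
  classical
  let Z : Submodule K C := LinearMap.ker d
  let Z' : Submodule R C' := LinearMap.ker d'
  let ι : R ⊗[K] Z →ₗ[R] R ⊗[K] C := Z.subtype.baseChange R
  have hιd : ∀ x, d.baseChange R (ι x) = 0 := by
    intro x
    have h1 : d.baseChange R ∘ₗ ι = 0 := by
      show d.baseChange R ∘ₗ Z.subtype.baseChange R = 0
      rw [← LinearMap.baseChange_comp]
      have h2 : d ∘ₗ Z.subtype = 0 := by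
        ext z; exact z.2
      rw [h2, LinearMap.baseChange_zero]
    exact LinearMap.congr_fun h1 x
  have hgmem : ∀ x, (ψC.toLinearMap ∘ₗ ι) x ∈ Z' := by
    intro x
    show ψC (ι x) ∈ LinearMap.ker d'
    rw [LinearMap.mem_ker, ← hcomm, hιd, map_zero]
  let g : R ⊗[K] Z →ₗ[R] Z' := LinearMap.codRestrict Z' (ψC.toLinearMap ∘ₗ ι) hgmem
  have hex : Function.Exact ι (d.baseChange R) := by
    have h0 : Function.Exact Z.subtype d := by
      intro c
      constructor
      · intro h; exact ⟨⟨c, h⟩, rfl⟩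
      · rintro ⟨z, rfl⟩; exact z.2
    exact exact_baseChange h0
  have hgsurj : Function.Surjective g := by
    intro z'
    have h1 : d.baseChange R (ψC.symm z'.1) = 0 := by
      apply hψD
      rw [hcomm, LinearEquiv.apply_symm_apply, map_zero]
      exact z'.2
    obtain ⟨x, hx⟩ := (hex _).mp h1
    refine ⟨x, Subtype.ext ?_⟩
    show ψC (ι x) = z'.1
    rw [hx, LinearEquiv.apply_symm_apply]
  let BZ : Submodule K Z := B.comap Z.subtype
  let BZ' : Submodule R Z' := B'.comap Z'.subtype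
  let f₁ : R ⊗[K] Z →ₗ[R] R ⊗[K] (Z ⧸ BZ) := BZ.mkQ.baseChange R
  let f₂ : R ⊗[K] Z →ₗ[R] Z' ⧸ BZ' := BZ'.mkQ ∘ₗ g
  have hf₁ : Function.Surjective f₁ :=
    LinearMap.lTensor_surjective R (Submodule.mkQ_surjective BZ)
  have hf₂ : Function.Surjective f₂ := (Submodule.mkQ_surjective BZ').comp hgsurj
  have hker : LinearMap.ker f₁ = LinearMap.ker f₂ := by
    ext x
    have hex1 : Function.Exact (BZ.subtype.baseChange R) f₁ := exact_baseChange (exact_subtype_mkQ BZ)
    have hex2 : Function.Exact (BZ.subtype.baseChange R) ((B.mkQ ∘ₗ Z.subtype).baseChange R) := by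
      apply exact_baseChange
      intro z
      rw [LinearMap.comp_apply, Submodule.mkQ_apply, Submodule.Quotient.mk_eq_zero]
      constructor
      · intro h; exact ⟨⟨z, h⟩, rfl⟩
      · rintro ⟨w, rfl⟩; exact w.2
    have hex3 : Function.Exact (B.subtype.baseChange R) (B.mkQ.baseChange R) :=
      exact_baseChange (exact_subtype_mkQ B)
    rw [LinearMap.mem_ker, LinearMap.mem_ker, hex1 x, ← hex2 x]
    have hf2x : f₂ x = 0 ↔ ψC (ι x) ∈ B' := by
      show BZ'.mkQ (g x) = 0 ↔ _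
      rw [Submodule.mkQ_apply, Submodule.Quotient.mk_eq_zero]
      rfl
    rw [hf2x, hB, Submodule.mem_map]
    have hcompx : (B.mkQ ∘ₗ Z.subtype).baseChange R x = B.mkQ.baseChange R (ι x) := by
      rw [LinearMap.baseChange_comp]; rfl
    rw [hcompx]
    constructor
    · intro h
      exact ⟨ι x, (hex3 _).mp h, rfl⟩
    · rintro ⟨y, hy, hyx⟩
      have hyx' : y = ι x := ψC.injective hyx
      rw [← hyx']
      exact (hex3 _).mpr hy
  let e : R ⊗[K] (Z ⧸ BZ) ≃ₗ[R] Z' ⧸ BZ' :=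
    (f₁.quotKerEquivOfSurjective hf₁).symm ≪≫ₗ Submodule.quotEquivOfEq _ _ hker ≪≫ₗ
      f₂.quotKerEquivOfSurjective hf₂
  have he : ∀ x, e (f₁ x) = f₂ x := by
    intro x
    have h1 : (f₁.quotKerEquivOfSurjective hf₁).symm (f₁ x) = Submodule.Quotient.mk x := by
      rw [LinearEquiv.symm_apply_eq]; rfl
    show (f₂.quotKerEquivOfSurjective hf₂) ((Submodule.quotEquivOfEq _ _ hker)
      ((f₁.quotKerEquivOfSurjective hf₁).symm (f₁ x))) = f₂ x
    rw [h1, Submodule.quotEquivOfEq_mk]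
    rfl
  refine ⟨e, ?_⟩
  intro r z hz
  exact he (r ⊗ₜ[K] z)

end Abstract

section HochSec

variable (K : Type u) [Field K] (A : Type v) [CommRing A] [HopfAlgebra K A]
  (V : Type v) [AddCommGroup V] [Module K V] [HopfRep.Comod K A V]
  (R : Type w) [CommRing R] [Algebra K R]

attribute [local instance] CoactBr.Comod.baseChange

/-- the canonical isomorphisms `R ⊗ Cⁿ(A,V) ≃ Cⁿ(R ⊗ A, R ⊗ V)` -/
noncomputable def psi : (n : ℕ) →
    (R ⊗[K] (Hoch.cochain K A V n)) ≃ₗ[R] (Hoch.cochain R (R ⊗[K] A) (R ⊗[K] V) n)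
  | 0 => LinearEquiv.refl R (R ⊗[K] V)
  | n + 1 => (TensorProduct.AlgebraTensorModule.distribBaseChange K R (Hoch.cochain K A V n) A) ≪≫ₗ
      TensorProduct.congr (psi n) (LinearEquiv.refl R (R ⊗[K] A))

theorem psi_zero (x : R ⊗[K] V) : psi K A V R 0 x = x := rfl

theorem psi_succ_tmul (n : ℕ) (r : R) (c : Hoch.cochain K A V n) (a : A) :
    psi K A V R (n + 1) (r ⊗ₜ[K] (c ⊗ₜ[K] a)) =
      (psi K A V R n (r ⊗ₜ[K] c)) ⊗ₜ[R] ((1 : R) ⊗ₜ[K] a) := by
  show (TensorProduct.congr (psi K A V R n) (LinearEquiv.refl R (R ⊗[K] A)))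
    ((TensorProduct.AlgebraTensorModule.distribBaseChange K R (Hoch.cochain K A V n) A)
      (r ⊗ₜ[K] (c ⊗ₜ[K] a))) = _
  rw [TensorProduct.AlgebraTensorModule.distribBaseChange_tmul, TensorProduct.congr_tmul]
  rfl

theorem phi_eq_psi
    (φ : ∀ n : ℕ, R ⊗[K] (Hoch.cochain K A V n) →ₗ[R] (Hoch.cochain R (R ⊗[K] A) (R ⊗[K] V) n))
    (hφ0 : ∀ x : R ⊗[K] V, φ 0 x = x)
    (hφs : ∀ (n : ℕ) (r : R) (c : Hoch.cochain K A V n) (a : A),
      φ (n + 1) (r ⊗ₜ[K] (c ⊗ₜ[K] a)) = (φ n (r ⊗ₜ[K] c)) ⊗ₜ[R] ((1 : R) ⊗ₜ[K] a)) (n : ℕ) :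
    ∀ x, φ n x = psi K A V R n x := by
  induction n with
  | zero => intro x; exact hφ0 x
  | succ n ih =>
    intro x
    induction x using TensorProduct.induction_on with
    | zero => simp
    | add x y hx hy => rw [map_add, map_add, hx, hy]
    | tmul r y =>
      induction y using TensorProduct.induction_on with
      | zero => simp
      | add y1 y2 h1 h2 => rw [TensorProduct.tmul_add, map_add, map_add, h1, h2]
      | tmul c a => rw [hφs, ih, psi_succ_tmul]

/-- `x ⊗ y ↦ (1 ⊗ x) ⊗ (1 ⊗ y)` -/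
noncomputable def iota2 : A ⊗[K] A →ₗ[K] (R ⊗[K] A) ⊗[R] (R ⊗[K] A) :=
  ((TensorProduct.AlgebraTensorModule.tensorTensorTensorComm K R K R R R A A).toLinearMap.restrictScalars K) ∘ₗ
    (TensorProduct.mk K (R ⊗[R] R) (A ⊗[K] A) ((1 : R) ⊗ₜ[R] (1 : R)))

theorem iota2_tmul (x y : A) :
    iota2 K A R (x ⊗ₜ[K] y) = ((1 : R) ⊗ₜ[K] x) ⊗ₜ[R] ((1 : R) ⊗ₜ[K] y) := rfl

theorem comul_one_tmul (a : A) :
    Coalgebra.comul (R := R) ((1 : R) ⊗ₜ[K] a : R ⊗[K] A) =
      iota2 K A R (Coalgebra.comul (R := K) a) := by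
  rw [TensorProduct.comul_tmul]
  rfl

theorem redComul_one_tmul (a : A) :
    Hoch.redComul R (R ⊗[K] A) ((1 : R) ⊗ₜ[K] a) = iota2 K A R (Hoch.redComul K A a) := by
  rw [Hoch.redComul_apply, Hoch.redComul_apply, map_sub, map_sub, iota2_tmul, iota2_tmul,
    comul_one_tmul]
  rfl

theorem psi_assoc (n : ℕ) (r : R) (c : Hoch.cochain K A V n) (w : A ⊗[K] A) :
    psi K A V R (n + 2) (r ⊗ₜ[K] ((TensorProduct.assoc K (Hoch.cochain K A V n) A A).symm (c ⊗ₜ[K] w))) =
      (TensorProduct.assoc R (Hoch.cochain R (R ⊗[K] A) (R ⊗[K] V) n) (R ⊗[K] A) (R ⊗[K] A)).symm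
        ((psi K A V R n (r ⊗ₜ[K] c)) ⊗ₜ[R] iota2 K A R w) := by
  induction w using TensorProduct.induction_on with
  | zero => simp
  | add w1 w2 h1 h2 =>
    rw [TensorProduct.tmul_add, map_add, TensorProduct.tmul_add, map_add, h1, h2, map_add,
      TensorProduct.tmul_add, map_add]
  | tmul x y =>
    rw [TensorProduct.assoc_symm_tmul, iota2_tmul, TensorProduct.assoc_symm_tmul]
    rw [psi_succ_tmul K A V R (n + 1) r (c ⊗ₜ[K] x) y, psi_succ_tmul]

theorem psi_one_eq (r : R) (w : V ⊗[K] A) :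
    psi K A V R 1 (r ⊗ₜ[K] w) =
      TensorProduct.AlgebraTensorModule.tensorTensorTensorComm K R K R R R V A
        (((1 : R) ⊗ₜ[R] r) ⊗ₜ[K] w) := by
  induction w using TensorProduct.induction_on with
  | zero => simp
  | add w1 w2 h1 h2 =>
    rw [TensorProduct.tmul_add, map_add, h1, h2, TensorProduct.tmul_add, map_add]
  | tmul v a =>
    rw [psi_succ_tmul K A V R 0 r v a, psi_zero,
      TensorProduct.AlgebraTensorModule.tensorTensorTensorComm_tmul]
    have e1 : (r ⊗ₜ[K] v : R ⊗[K] V) = r • ((1 : R) ⊗ₜ[K] v) := by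
      rw [TensorProduct.smul_tmul', smul_eq_mul, mul_one]
    have e2 : (r ⊗ₜ[K] a : R ⊗[K] A) = r • ((1 : R) ⊗ₜ[K] a) := by
      rw [TensorProduct.smul_tmul', smul_eq_mul, mul_one]
    rw [e1, e2, TensorProduct.smul_tmul]

theorem psi_d (n : ℕ) : ∀ x, psi K A V R (n + 1) ((Hoch.d K A V n).baseChange R x) =
    Hoch.d R (R ⊗[K] A) (R ⊗[K] V) n (psi K A V R n x) := by
  induction n with
  | zero =>
    intro x
    induction x using TensorProduct.induction_on with
    | zero => simp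
    | add x y hx hy => rw [map_add, map_add, map_add, map_add, hx, hy]
    | tmul r v =>
      rw [LinearMap.baseChange_tmul, Hoch.d_zero_apply, psi_zero, Hoch.d_zero_apply,
        TensorProduct.tmul_sub, map_sub, psi_one_eq, psi_succ_tmul K A V R 0 r v 1, psi_zero]
      rfl
  | succ n ih =>
    intro x
    induction x using TensorProduct.induction_on with
    | zero => simp
    | add x y hx hy => rw [map_add, map_add, map_add, map_add, hx, hy]
    | tmul r y =>
      induction y using TensorProduct.induction_on with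
      | zero => simp
      | add y1 y2 h1 h2 =>
        rw [TensorProduct.tmul_add, map_add, map_add, map_add, map_add, h1, h2]
      | tmul c a =>
        rw [LinearMap.baseChange_tmul, psi_succ_tmul, Hoch.d_succ, Hoch.d_succ,
          LinearMap.add_apply, LinearMap.add_apply, LinearMap.smul_apply, LinearMap.smul_apply,
          LinearMap.rTensor_tmul, LinearMap.rTensor_tmul, TensorProduct.tmul_add, map_add,
          Hoch.tail_tmul, Hoch.tail_tmul]
        have hI1 : psi K A V R (n + 2) (r ⊗ₜ[K] ((Hoch.d K A V n c) ⊗ₜ[K] a)) =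
            (Hoch.d R (R ⊗[K] A) (R ⊗[K] V) n (psi K A V R n (r ⊗ₜ[K] c))) ⊗ₜ[R] ((1 : R) ⊗ₜ[K] a) := by
          rw [psi_succ_tmul K A V R (n + 1) r (Hoch.d K A V n c) a, ← ih]
          rfl
        have hI2 : psi K A V R (n + 2) (r ⊗ₜ[K] (((-1 : K) ^ (n + 1)) •
              (TensorProduct.assoc K (Hoch.cochain K A V n) A A).symm (c ⊗ₜ[K] Hoch.redComul K A a))) =
            ((-1 : R) ^ (n + 1)) •
              (TensorProduct.assoc R (Hoch.cochain R (R ⊗[K] A) (R ⊗[K] V) n) (R ⊗[K] A) (R ⊗[K] A)).symm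
                ((psi K A V R n (r ⊗ₜ[K] c)) ⊗ₜ[R] Hoch.redComul R (R ⊗[K] A) ((1 : R) ⊗ₜ[K] a)) := by
          rw [TensorProduct.tmul_smul, ← algebraMap_smul R ((-1 : K) ^ (n + 1)), map_smul, psi_assoc,
            redComul_one_tmul, map_pow, map_neg, map_one]
        exact congrArg₂ (· + ·) hI1 hI2

theorem cobound_eq (n : ℕ) :
    Hoch.coboundaries R (R ⊗[K] A) (R ⊗[K] V) n =
      Submodule.map (psi K A V R n).toLinearMap
        (LinearMap.range ((Hoch.coboundaries K A V n).subtype.baseChange R)) := by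
  cases n with
  | zero =>
    have h0 : (Hoch.coboundaries K A V 0).subtype = 0 := by
      ext b
      exact (Submodule.mem_bot K).mp b.2
    rw [h0, LinearMap.baseChange_zero, LinearMap.range_zero, Submodule.map_bot]
    rfl
  | succ n =>
    show LinearMap.range (Hoch.d R (R ⊗[K] A) (R ⊗[K] V) n) =
      Submodule.map (psi K A V R (n + 1)).toLinearMap
        (LinearMap.range ((LinearMap.range (Hoch.d K A V n)).subtype.baseChange R))
    have h1 : LinearMap.range ((LinearMap.range (Hoch.d K A V n)).subtype.baseChange R) =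
        LinearMap.range ((Hoch.d K A V n).baseChange R) := by
      have h2 : Hoch.d K A V n =
          (LinearMap.range (Hoch.d K A V n)).subtype ∘ₗ (Hoch.d K A V n).rangeRestrict := rfl
      conv_rhs => rw [h2, LinearMap.baseChange_comp]
      rw [LinearMap.range_comp_of_range_eq_top]
      rw [LinearMap.range_eq_top]
      exact LinearMap.lTensor_surjective R (LinearMap.surjective_rangeRestrict _)
    rw [h1, ← LinearMap.range_comp]
    have h3 : (psi K A V R (n + 1)).toLinearMap ∘ₗ (Hoch.d K A V n).baseChange R =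
        Hoch.d R (R ⊗[K] A) (R ⊗[K] V) n ∘ₗ (psi K A V R n).toLinearMap := by
      apply LinearMap.ext
      intro x
      exact psi_d K A V R n x
    rw [h3, LinearMap.range_comp_of_range_eq_top]
    rw [LinearMap.range_eq_top]
    exact (psi K A V R n).surjective

theorem main
    (φ : ∀ n : ℕ, R ⊗[K] (Hoch.cochain K A V n) →ₗ[R] (Hoch.cochain R (R ⊗[K] A) (R ⊗[K] V) n))
    (hφ0 : ∀ x : R ⊗[K] V, φ 0 x = x)
    (hφs : ∀ (n : ℕ) (r : R) (c : Hoch.cochain K A V n) (a : A),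
      φ (n + 1) (r ⊗ₜ[K] (c ⊗ₜ[K] a)) = (φ n (r ⊗ₜ[K] c)) ⊗ₜ[R] ((1 : R) ⊗ₜ[K] a)) :
    letI := CoactBr.Comod.baseChange K R A V
    (∀ n : ℕ, Function.Bijective (φ n)) ∧
    (∀ (n : ℕ) (x : R ⊗[K] (Hoch.cochain K A V n)),
        φ (n + 1) ((Hoch.d K A V n).baseChange R x) = Hoch.d R (R ⊗[K] A) (R ⊗[K] V) n (φ n x)) ∧
      ∀ n : ℕ, ∃ e : R ⊗[K] Hoch.H K A V n ≃ₗ[R] Hoch.H R (R ⊗[K] A) (R ⊗[K] V) n,
        ∀ (r : R) (z : Hoch.cocycles K A V n)
          (hz : φ n (r ⊗ₜ[K] (z : Hoch.cochain K A V n)) ∈ Hoch.cocycles R (R ⊗[K] A) (R ⊗[K] V) n),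
          e (r ⊗ₜ[K] Hoch.H.mk K A V n z) = Hoch.H.mk R (R ⊗[K] A) (R ⊗[K] V) n ⟨φ n (r ⊗ₜ[K] (z : Hoch.cochain K A V n)), hz⟩ := by
  have hφ : ∀ n x, φ n x = psi K A V R n x := phi_eq_psi K A V R φ hφ0 hφs
  refine ⟨fun n => ?_, fun n x => ?_, fun n => ?_⟩
  · have h1 : (φ n : _ → _) = psi K A V R n := funext (hφ n)
    rw [h1]
    exact (psi K A V R n).bijective
  · rw [hφ, hφ]
    exact psi_d K A V R n x
  · obtain ⟨e, he⟩ := exists_subquot_equiv (Hoch.d K A V n) (Hoch.coboundaries K A V n)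
      (Hoch.d R (R ⊗[K] A) (R ⊗[K] V) n) (Hoch.coboundaries R (R ⊗[K] A) (R ⊗[K] V) n)
      (psi K A V R n) (psi K A V R (n + 1)).toLinearMap (psi K A V R (n + 1)).injective
      (psi_d K A V R n) (cobound_eq K A V R n)
    refine ⟨e, fun r z hz => ?_⟩
    have h2 := he r z (by rw [← hφ]; exact hz)
    refine h2.trans ?_
    congr 1
    exact Subtype.ext (hφ n _).symm

end HochSec

end Groth.Agent.H9.HochBC
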