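import Mathlib
import Groth.Agent.Lib.Helper9.FinHopf.RedSplit
import Groth.Agent.Lib.Helper9.FinHopf.RedHopf

/-!
# An injective map of commutative Hopf algebras from a semisimple one, whose augmentation ideal
generates the augmentation ideal of the target, is surjective; application to the etale quotient
of an algebraic group over a perfect field (helper9)
-/

set_option autoImplicit false
set_option linter.unusedSectionVars false

universe u

open TensorProduct WithConv

namespace Groth.Agent.H9.HopfEpi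

section Epi

variable {k : Type u} [Field k] {C D : Type u} [CommRing C] [HopfAlgebra k C]
  [CommRing D] [HopfAlgebra k D]

lemma key (φ : C →ₐc[k] D) (p : D →ₗ[k] D) (hp : ∀ c d, p (φ c * d) = φ c * p d)
    (t : C ⊗[k] C) (s : D ⊗[k] D) :
    LinearMap.mul' k D (TensorProduct.map (HopfAlgebraStruct.antipode k) p
      (TensorProduct.map (φ : C →ₗ[k] D) (φ : C →ₗ[k] D) t * s)) =
    φ (LinearMap.mul' k C (TensorProduct.map (HopfAlgebraStruct.antipode k) LinearMap.id t)) *
      LinearMap.mul' k D (TensorProduct.map (HopfAlgebraStruct.antipode k) p s) := by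
  induction t using TensorProduct.induction_on with
  | zero => simp
  | add t₁ t₂ h₁ h₂ => simp only [map_add, add_mul, h₁, h₂]
  | tmul c₁ c₂ =>
    induction s using TensorProduct.induction_on with
    | zero => simp
    | add s₁ s₂ h₁ h₂ => simp only [mul_add, map_add, h₁, h₂]
    | tmul b₁ b₂ =>
      simp only [TensorProduct.map_tmul, Algebra.TensorProduct.tmul_mul_tmul,
        LinearMap.mul'_apply, LinearMap.id_apply]
      have h1 : ((φ : C →ₗ[k] D) c₁) = φ c₁ := rfl
      have h2 : ((φ : C →ₗ[k] D) c₂) = φ c₂ := rfl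
      rw [h1, h2, HopfAlgebra.antipode_mul_distrib, hp, map_mul,
        Groth.Agent.H9.FinHopf.bialgHom_antipode]
      ring

/-- the convolution product of the antipode and `p` -/
noncomputable def theta (p : D →ₗ[k] D) : D →ₗ[k] D :=
  LinearMap.mul' k D ∘ₗ TensorProduct.map (HopfAlgebraStruct.antipode k) p ∘ₗ Coalgebra.comul

lemma theta_apply (p : D →ₗ[k] D) (x : D) :
    theta p x = LinearMap.mul' k D
      (TensorProduct.map (HopfAlgebraStruct.antipode k) p (Coalgebra.comul x)) := rfl

lemma theta_mul (φ : C →ₐc[k] D) (p : D →ₗ[k] D) (hp : ∀ c d, p (φ c * d) = φ c * p d)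
    (c : C) (b : D) :
    theta p (φ c * b) = algebraMap k D (Coalgebra.counit c) * theta p b := by
  have h1 : TensorProduct.map (φ : C →ₗ[k] D) (φ : C →ₗ[k] D) (Coalgebra.comul c) =
      Coalgebra.comul (R := k) (φ c) := CoalgHomClass.map_comp_comul_apply φ c
  rw [theta_apply, theta_apply, Bialgebra.comul_mul, ← h1, key φ p hp]
  rw [show LinearMap.mul' k C (TensorProduct.map (HopfAlgebraStruct.antipode k) LinearMap.id
    (Coalgebra.comul c)) = algebraMap k C (Coalgebra.counit c) from
    HopfAlgebra.mul_antipode_rTensor_comul_apply c]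
  rw [AlgHomClass.commutes]

lemma theta_one (p : D →ₗ[k] D) (hp1 : p 1 = 1) : theta p 1 = 1 := by
  rw [theta_apply, Bialgebra.comul_one, Algebra.TensorProduct.one_def, TensorProduct.map_tmul,
    LinearMap.mul'_apply, HopfAlgebra.antipode_one, hp1, one_mul]

lemma theta_eq (φ : C →ₐc[k] D) (p : D →ₗ[k] D) (hp : ∀ c d, p (φ c * d) = φ c * p d)
    (hp1 : p 1 = 1)
    (hD : ∀ x : D, Coalgebra.counit (R := k) x = 0 →
      x ∈ Ideal.map (φ : C →+* D) (RingHom.ker (Bialgebra.counitAlgHom k C))) (x : D) :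
    theta p x = algebraMap k D (Coalgebra.counit x) := by
  have h0 : ∀ y ∈ Ideal.map (φ : C →+* D) (RingHom.ker (Bialgebra.counitAlgHom k C)),
      ∀ a : D, theta p (a * y) = 0 := by
    intro y hy
    have hy' : y ∈ Submodule.span D
        ((φ : C →+* D) '' (RingHom.ker (Bialgebra.counitAlgHom k C) : Set C)) := hy
    clear hy
    induction hy' using Submodule.span_induction with
    | mem y hy =>
      obtain ⟨c, hc, rfl⟩ := hy
      have hc0 : Bialgebra.counitAlgHom k C c = 0 := RingHom.mem_ker.1 hc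
      have hc' : Coalgebra.counit (R := k) c = 0 := hc0
      intro a
      show theta p (a * φ c) = 0
      rw [mul_comm, theta_mul φ p hp, hc', map_zero, zero_mul]
    | zero => intro a; rw [mul_zero, map_zero]
    | add y z _ _ hy hz => intro a; rw [mul_add, map_add, hy, hz, add_zero]
    | smul r y _ hy => intro a; rw [smul_eq_mul, ← mul_assoc]; exact hy _
  have h1 : x = algebraMap k D (Coalgebra.counit x) * 1 +
      1 * (x - algebraMap k D (Coalgebra.counit x)) := by ring
  have h2 : Coalgebra.counit (R := k) (x - algebraMap k D (Coalgebra.counit x)) = 0 := by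
    rw [map_sub, Bialgebra.counit_algebraMap, sub_self]
  conv_lhs => rw [h1]
  rw [map_add, h0 _ (hD _ h2) 1, add_zero, ← Algebra.smul_def, map_smul, theta_one p hp1,
    Algebra.smul_def, mul_one]

lemma exists_proj [IsSemisimpleRing C] (φ : C →ₐc[k] D) :
    ∃ p : D →ₗ[k] D, (∀ c d, p (φ c * d) = φ c * p d) ∧ (∀ c, p (φ c) = φ c) ∧
      ∀ d, ∃ c, p d = φ c := by
  letI : Algebra C D := (φ : C →+* D).toAlgebra
  have hkC : ∀ (r : k) (x : D), r • x = (algebraMap k C r) • x := by
    intro r x
    show r • x = φ (algebraMap k C r) * x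
    rw [AlgHomClass.commutes, Algebra.smul_def]
  let B : Submodule C D := LinearMap.range (Algebra.linearMap C D)
  obtain ⟨B', hB'⟩ := exists_isCompl B
  let p0 : D →ₗ[C] D := B.projection B' hB'
  refine ⟨{ toFun := p0, map_add' := p0.map_add, map_smul' := ?_ }, ?_, ?_, ?_⟩
  · intro r x
    rw [RingHom.id_apply, hkC r x, p0.map_smul, ← hkC]
  · intro c d
    exact p0.map_smul c d
  · intro c
    have hc : φ c ∈ B := ⟨c, rfl⟩
    exact Submodule.projection_apply_of_mem_left hB' hc
  · intro d
    have hd : p0 d ∈ B := Submodule.projection_apply_mem hB' d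
    obtain ⟨c, hc⟩ := hd
    exact ⟨c, hc.symm⟩

theorem surjective_of_aug_le [IsSemisimpleRing C] (φ : C →ₐc[k] D)
    (hD : ∀ x : D, Coalgebra.counit (R := k) x = 0 →
      x ∈ Ideal.map (φ : C →+* D) (RingHom.ker (Bialgebra.counitAlgHom k C))) :
    Function.Surjective φ := by
  obtain ⟨p, hp, hp', hp''⟩ := exists_proj φ
  have hp1 : p 1 = 1 := by
    have := hp' 1
    rwa [map_one] at this
  have hθ : theta p = Algebra.linearMap k D ∘ₗ Coalgebra.counit :=
    LinearMap.ext fun x => theta_eq φ p hp hp1 hD x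
  have h1 : toConv (HopfAlgebraStruct.antipode k (A := D)) * toConv p = 1 := by
    show toConv (theta p) = toConv (Algebra.linearMap k D ∘ₗ Coalgebra.counit)
    rw [hθ]
  have h2 : toConv p = toConv (LinearMap.id : D →ₗ[k] D) := by
    calc toConv p = (toConv LinearMap.id * toConv (HopfAlgebraStruct.antipode k (A := D))) *
          toConv p := by rw [LinearMap.id_mul_antipode, one_mul]
      _ = toConv LinearMap.id * (toConv (HopfAlgebraStruct.antipode k (A := D)) * toConv p) :=
          mul_assoc _ _ _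
      _ = toConv LinearMap.id := by rw [h1, mul_one]
  have h3 : p = LinearMap.id := WithConv.toConv_injective h2
  intro d
  obtain ⟨c, hc⟩ := hp'' d
  refine ⟨c, ?_⟩
  rw [← hc, h3]
  rfl

end Epi

section Main

theorem main (k : Type u) [Field k] [PerfectField k] (A C : Type u) [CommRing A] [HopfAlgebra k A]
    [Algebra.FiniteType k A] [CommRing C] [HopfAlgebra k C] [Algebra.Etale k C]
    (ψ : C →ₐc[k] A) (hψ : Function.Injective ψ) (J : Ideal A) [J.IsHopfIdeal k]
    (hJ : J = Ideal.map (ψ : C →+* A) (RingHom.ker (Bialgebra.counitAlgHom k C)))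
    [IsLocalRing (A ⧸ J)] :
    (∃! r : A →ₐc[k] C, r.comp ψ = BialgHom.id k C) ∧
    ∀ r : A →ₐc[k] C, r.comp ψ = BialgHom.id k C →
      RingHom.ker (r : A →+* C) = nilradical A := by
  haveI : Module.Finite k C := Algebra.FormallyUnramified.finite_of_free k C
  haveI : IsReduced C := Algebra.FormallyUnramified.isReduced_of_field k C
  haveI : IsArtinianRing C := IsArtinianRing.of_finite k C
  haveI : IsSemisimpleRing C := IsArtinianRing.isSemisimpleRing_of_isReduced C
  haveI hN : (nilradical A).IsHopfIdeal k := Groth.Agent.H9.FinHopf.isHopfIdeal_nilradical k A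
  let π : A →ₐc[k] (A ⧸ nilradical A) := Bialgebra.Quotient.mkBialgHom (R := k) (nilradical A)
  let φ : C →ₐc[k] (A ⧸ nilradical A) := π.comp ψ
  have hφ : ∀ c, φ c = Ideal.Quotient.mk (nilradical A) (ψ c) := fun _ => rfl
  have hπ : ∀ a, π a = Ideal.Quotient.mk (nilradical A) a := fun _ => rfl
  -- injectivity
  have hφinj : Function.Injective φ := by
    rw [injective_iff_map_eq_zero]
    intro c hc
    rw [hφ] at hc
    have h1 : ψ c ∈ nilradical A := Ideal.Quotient.eq_zero_iff_mem.1 hc
    obtain ⟨n, hn⟩ := mem_nilradical.1 h1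
    rw [← map_pow] at hn
    have h2 : c ^ n = 0 := hψ (by rw [hn, map_zero])
    exact IsNilpotent.eq_zero ⟨n, h2⟩
  -- idempotent generating the augmentation ideal
  obtain ⟨I', hI'⟩ := exists_isCompl (RingHom.ker (Bialgebra.counitAlgHom k C) : Ideal C)
  have htop : (1 : C) ∈ RingHom.ker (Bialgebra.counitAlgHom k C) ⊔ I' := by
    rw [hI'.sup_eq_top]; trivial
  obtain ⟨u, hu, v, hv, huv⟩ := Submodule.mem_sup.1 htop
  have hcu : ∀ c ∈ RingHom.ker (Bialgebra.counitAlgHom k C), c * u = c := by
    intro c hc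
    have h1 : c * v ∈ RingHom.ker (Bialgebra.counitAlgHom k C) ⊓ I' :=
      ⟨Ideal.mul_mem_right _ _ hc, Ideal.mul_mem_left _ _ hv⟩
    rw [hI'.inf_eq_bot] at h1
    have h2 : c * v = 0 := (Submodule.mem_bot C).1 h1
    calc c * u = c * u + c * v := by rw [h2, add_zero]
      _ = c * (u + v) := by ring
      _ = c := by rw [huv, mul_one]
  have hJe : ∀ z ∈ J, (1 - ψ u) * z = 0 := by
    intro z hz
    have hz' : z ∈ Submodule.span A
        ((ψ : C →+* A) '' (RingHom.ker (Bialgebra.counitAlgHom k C) : Set C)) := by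
      rw [hJ] at hz; exact hz
    clear hz
    induction hz' using Submodule.span_induction with
    | mem z hz =>
      obtain ⟨c, hc, rfl⟩ := hz
      show (1 - ψ u) * ψ c = 0
      have h1 : ψ c = ψ c * ψ u := by rw [← map_mul, hcu c hc]
      calc (1 - ψ u) * ψ c = ψ c - ψ c * ψ u := by ring
        _ = 0 := by rw [← h1, sub_self]
    | zero => rw [mul_zero]
    | add y z _ _ hy hz => rw [mul_add, hy, hz, add_zero]
    | smul r y _ hy => rw [smul_eq_mul, mul_left_comm, hy, mul_zero]
  -- elements of the augmentation ideal of `A` are nilpotent modulo `J`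
  have hnil : ∀ a : A, Coalgebra.counit (R := k) a = 0 → ∃ n : ℕ, a ^ n ∈ J := by
    intro a ha
    haveI : IsJacobsonRing (A ⧸ J) := isJacobsonRing_of_finiteType (A := k) (B := A ⧸ J)
    let εJ : (A ⧸ J) →ₐ[k] k := Bialgebra.Quotient.counitAlgHom J
    have hsurj : Function.Surjective εJ := fun r => ⟨algebraMap k _ r, εJ.commutes r⟩
    have hmax : (RingHom.ker εJ).IsMaximal := RingHom.ker_isMaximal_of_surjective εJ hsurj
    have h1 : RingHom.ker εJ = IsLocalRing.maximalIdeal (A ⧸ J) :=
      IsLocalRing.eq_maximalIdeal hmax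
    have h2 : (⊥ : Ideal (A ⧸ J)).radical = IsLocalRing.maximalIdeal (A ⧸ J) := by
      rw [Ideal.radical_eq_jacobson, IsLocalRing.jacobson_eq_maximalIdeal ⊥ bot_ne_top]
    have h3 : Ideal.Quotient.mk J a ∈ (⊥ : Ideal (A ⧸ J)).radical := by
      rw [h2, ← h1, RingHom.mem_ker]
      exact ha
    obtain ⟨n, hn⟩ := h3
    refine ⟨n, ?_⟩
    rw [← map_pow] at hn
    exact Ideal.Quotient.eq_zero_iff_mem.1 ((Submodule.mem_bot _).1 hn)
  -- the augmentation ideal of the reduced quotient is generated by that of `C`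
  have hD : ∀ x : A ⧸ nilradical A, Coalgebra.counit (R := k) x = 0 →
      x ∈ Ideal.map (φ : C →+* (A ⧸ nilradical A))
        (RingHom.ker (Bialgebra.counitAlgHom k C)) := by
    intro x hx
    obtain ⟨a, rfl⟩ := Ideal.Quotient.mk_surjective x
    have ha : Coalgebra.counit (R := k) a = 0 := hx
    obtain ⟨n, hn⟩ := hnil a ha
    have h1 : ((1 - ψ u) * a) ^ (n + 1) = 0 := by
      rw [mul_pow, pow_succ (1 - ψ u), pow_succ a]
      have h0 := hJe _ hn
      calc (1 - ψ u) ^ n * (1 - ψ u) * (a ^ n * a)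
          = (1 - ψ u) ^ n * a * ((1 - ψ u) * a ^ n) := by ring
        _ = 0 := by rw [h0, mul_zero]
    have h2 : (1 - ψ u) * a ∈ nilradical A := mem_nilradical.2 ⟨n + 1, h1⟩
    have h3 : Ideal.Quotient.mk (nilradical A) a =
        φ u * Ideal.Quotient.mk (nilradical A) a := by
      have h4 : Ideal.Quotient.mk (nilradical A) ((1 - ψ u) * a) = 0 :=
        Ideal.Quotient.eq_zero_iff_mem.2 h2
      rw [hφ, ← map_mul]
      have h5 : a = (1 - ψ u) * a + ψ u * a := by ring
      conv_lhs => rw [h5]
      rw [map_add, h4, zero_add]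
    rw [h3]
    exact Ideal.mul_mem_right _ _ (Ideal.mem_map_of_mem _ hu)
  have hφsurj : Function.Surjective φ := surjective_of_aug_le φ hD
  -- every retraction is determined
  have hkey : ∀ r' : A →ₐc[k] C, r'.comp ψ = BialgHom.id k C →
      ∀ (a : A) (c : C), π a = φ c → r' a = c := by
    intro r' hr' a c hac
    have h1 : a - ψ c ∈ nilradical A := by
      rw [← Ideal.Quotient.eq_zero_iff_mem, map_sub, sub_eq_zero]
      rw [hπ, hφ] at hac
      exact hac
    obtain ⟨n, hn⟩ := mem_nilradical.1 h1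
    have h2 : r' (a - ψ c) = 0 := by
      apply IsNilpotent.eq_zero
      exact ⟨n, by rw [← map_pow, hn, map_zero]⟩
    have h3 : r' (ψ c) = c := DFunLike.congr_fun hr' c
    rw [map_sub, h3, sub_eq_zero] at h2
    exact h2
  let e : C ≃ₐc[k] (A ⧸ nilradical A) := BialgEquiv.ofBijective φ ⟨hφinj, hφsurj⟩
  let r0 : A →ₐc[k] C := (e.symm : (A ⧸ nilradical A) →ₐc[k] C).comp π
  have hr0 : r0.comp ψ = BialgHom.id k C := by
    apply BialgHom.ext
    intro c
    show e.symm (φ c) = c
    exact e.symm_apply_apply c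
  refine ⟨⟨r0, hr0, fun r' hr' => BialgHom.ext fun a => ?_⟩, fun r' hr' => ?_⟩
  · obtain ⟨c, hc⟩ := hφsurj (π a)
    rw [hkey r' hr' a c hc.symm, hkey r0 hr0 a c hc.symm]
  · ext a
    rw [RingHom.mem_ker, mem_nilradical]
    show r' a = 0 ↔ IsNilpotent a
    constructor
    · intro ha
      obtain ⟨c, hc⟩ := hφsurj (π a)
      have h1 := hkey r' hr' a c hc.symm
      rw [ha] at h1
      rw [← h1, map_zero] at hc
      rw [← mem_nilradical]
      exact Ideal.Quotient.eq_zero_iff_mem.1 hc.symm
    · rintro ⟨n, hn⟩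
      apply IsNilpotent.eq_zero
      exact ⟨n, by rw [← map_pow, hn, map_zero]⟩

end Main

end Groth.Agent.H9.HopfEpi
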