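import Mathlib

/-! Helper9: spanning set x^i y^n, x^i z^n (i ≤ 2g) for R[x,y,z]/(y^2-P(x), yz-1) (S15526). -/

open MvPolynomial

namespace Groth.Agent.H9.HyperSpan

variable {R : Type*} [CommRing R] {A : Type*} [CommRing A] [Algebra R A]

/-- the spanning set -/
def gens (g : ℕ) (x y z : A) : Set A :=
  {a | ∃ i n : ℕ, i ≤ 2 * g ∧ (a = x ^ i * y ^ n ∨ a = x ^ i * z ^ n)}

variable (R) in
/-- the span -/
def W (g : ℕ) (x y z : A) : Submodule R A := Submodule.span R (gens g x y z)

theorem y_mem (g : ℕ) (x y z : A) {i n : ℕ} (hi : i ≤ 2 * g) : x ^ i * y ^ n ∈ W R g x y z :=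
  Submodule.subset_span ⟨i, n, hi, Or.inl rfl⟩

theorem z_mem (g : ℕ) (x y z : A) {i n : ℕ} (hi : i ≤ 2 * g) : x ^ i * z ^ n ∈ W R g x y z :=
  Submodule.subset_span ⟨i, n, hi, Or.inr rfl⟩

/-- to show stability under multiplication by `a` it suffices to check generators -/
theorem stable_of_gens (g : ℕ) (x y z a : A)
    (h : ∀ b ∈ gens g x y z, a * b ∈ W R g x y z) : ∀ w ∈ W R g x y z, a * w ∈ W R g x y z := by
  intro w hw
  induction hw using Submodule.span_induction with
  | mem b hb => exact h b hb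
  | zero => rw [mul_zero]; exact Submodule.zero_mem _
  | add u v _ _ hu hv => rw [mul_add]; exact Submodule.add_mem _ hu hv
  | smul c u _ hu => rw [mul_smul_comm]; exact Submodule.smul_mem _ c hu

variable (g : ℕ) (P : Polynomial R) (hP : P.Monic) (hdeg : P.natDegree = 2 * g + 1)
  (x y z : A) (hy : y ^ 2 = Polynomial.aeval x P) (hyz : y * z = 1)

include hyz in
theorem stable_y : ∀ w ∈ W R g x y z, y * w ∈ W R g x y z := by
  apply stable_of_gens
  rintro b ⟨i, n, hi, rfl | rfl⟩
  · have : y * (x ^ i * y ^ n) = x ^ i * y ^ (n + 1) := by ring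
    rw [this]; exact y_mem g x y z hi
  · rcases n with _ | n
    · have : y * (x ^ i * z ^ 0) = x ^ i * y ^ 1 := by ring
      rw [this]; exact y_mem g x y z hi
    · have : y * (x ^ i * z ^ (n + 1)) = x ^ i * z ^ n * (y * z) := by ring
      rw [this, hyz, mul_one]; exact z_mem g x y z hi

include hyz in
theorem stable_z : ∀ w ∈ W R g x y z, z * w ∈ W R g x y z := by
  apply stable_of_gens
  rintro b ⟨i, n, hi, rfl | rfl⟩
  · rcases n with _ | n
    · have : z * (x ^ i * y ^ 0) = x ^ i * z ^ 1 := by ring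
      rw [this]; exact z_mem g x y z hi
    · have : z * (x ^ i * y ^ (n + 1)) = x ^ i * y ^ n * (y * z) := by ring
      rw [this, hyz, mul_one]; exact y_mem g x y z hi
  · have : z * (x ^ i * z ^ n) = x ^ i * z ^ (n + 1) := by ring
    rw [this]; exact z_mem g x y z hi

include hP hdeg hy in
theorem x_pow_top : x ^ (2 * g + 1) =
    y ^ 2 - ∑ j ∈ Finset.range (2 * g + 1), (P.coeff j) • x ^ j := by
  rw [hy]
  have h1 := congrArg (Polynomial.aeval x) hP.as_sum
  rw [hdeg] at h1
  simp only [map_add, map_pow, Polynomial.aeval_X, map_sum, map_mul, Polynomial.aeval_C,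
    ← Algebra.smul_def] at h1
  rw [h1]
  ring

include hP hdeg hy hyz in
theorem stable_x : ∀ w ∈ W R g x y z, x * w ∈ W R g x y z := by
  apply stable_of_gens
  have hsum : ∀ (t : A), (∀ j ≤ 2 * g, x ^ j * t ∈ W R g x y z) → y ^ 2 * t ∈ W R g x y z →
      x ^ (2 * g + 1) * t ∈ W R g x y z := by
    intro t ht hy2
    rw [x_pow_top g P hP hdeg x y hy, sub_mul, Finset.sum_mul]
    refine Submodule.sub_mem _ hy2 (Submodule.sum_mem _ fun j hj => ?_)
    rw [smul_mul_assoc]
    exact Submodule.smul_mem _ _ (ht j (by rw [Finset.mem_range] at hj; omega))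
  rintro b ⟨i, n, hi, rfl | rfl⟩
  · rcases Nat.lt_or_ge i (2 * g) with h | h
    · have : x * (x ^ i * y ^ n) = x ^ (i + 1) * y ^ n := by ring
      rw [this]; exact y_mem g x y z (by omega)
    · obtain rfl : i = 2 * g := by omega
      have : x * (x ^ (2 * g) * y ^ n) = x ^ (2 * g + 1) * y ^ n := by ring
      rw [this]
      apply hsum
      · intro j hj; exact y_mem g x y z hj
      · have : y ^ 2 * y ^ n = x ^ 0 * y ^ (n + 2) := by ring
        rw [this]; exact y_mem g x y z (by omega)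
  · rcases Nat.lt_or_ge i (2 * g) with h | h
    · have : x * (x ^ i * z ^ n) = x ^ (i + 1) * z ^ n := by ring
      rw [this]; exact z_mem g x y z (by omega)
    · obtain rfl : i = 2 * g := by omega
      have : x * (x ^ (2 * g) * z ^ n) = x ^ (2 * g + 1) * z ^ n := by ring
      rw [this]
      apply hsum
      · intro j hj; exact z_mem g x y z hj
      · rcases n with _ | _ | n
        · have : y ^ 2 * z ^ 0 = x ^ 0 * y ^ 2 := by ring
          rw [this]; exact y_mem g x y z (by omega)
        · have : y ^ 2 * z ^ (0 + 1) = x ^ 0 * y ^ 1 * (y * z) := by ring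
          rw [this, hyz, mul_one]; exact y_mem g x y z (by omega)
        · have : y ^ 2 * z ^ (n + 1 + 1) = x ^ 0 * z ^ n * (y * z) ^ 2 := by ring
          rw [this, hyz, one_pow, mul_one]; exact z_mem g x y z (by omega)

include hP hdeg hy hyz in
/-- every polynomial expression in `x, y, z` lies in `W` -/
theorem aeval_mem (p : MvPolynomial (Fin 3) R) :
    aeval (![x, y, z] : Fin 3 → A) p ∈ W R g x y z := by
  induction p using MvPolynomial.induction_on with
  | C a =>
    rw [aeval_C, Algebra.algebraMap_eq_smul_one]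
    apply Submodule.smul_mem
    have : (1 : A) = x ^ 0 * y ^ 0 := by ring
    rw [this]; exact y_mem g x y z (by omega)
  | add p q hp hq => rw [map_add]; exact Submodule.add_mem _ hp hq
  | mul_X p i hp =>
    rw [map_mul, aeval_X, mul_comm]
    fin_cases i
    · exact stable_x g P hP hdeg x y z hy hyz _ hp
    · exact stable_y g x y z hyz _ hp
    · exact stable_z g x y z hyz _ hp

theorem main (R : Type*) [CommRing R] (g : ℕ)
    (P : Polynomial R) (hP : P.Monic) (hdeg : P.natDegree = 2 * g + 1) :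
    Submodule.span R {a : MvPolynomial (Fin 3) R ⧸
        Ideal.span ({X 1 ^ 2 - Polynomial.aeval (X 0 : MvPolynomial (Fin 3) R) P, X 1 * X 2 - 1} :
          Set (MvPolynomial (Fin 3) R)) |
        ∃ i n : ℕ, i ≤ 2 * g ∧
          (a = Ideal.Quotient.mk _ (X 0 ^ i * X 1 ^ n) ∨ a = Ideal.Quotient.mk _ (X 0 ^ i * X 2 ^ n))} =
      ⊤ := by
  set I := Ideal.span ({X 1 ^ 2 - Polynomial.aeval (X 0 : MvPolynomial (Fin 3) R) P, X 1 * X 2 - 1} :
          Set (MvPolynomial (Fin 3) R)) with hI
  let q := Ideal.Quotient.mk I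
  have hy : (q (X 1)) ^ 2 = Polynomial.aeval (q (X 0)) P := by
    have h1 : (X 1 ^ 2 - Polynomial.aeval (X 0 : MvPolynomial (Fin 3) R) P) ∈ I :=
      Ideal.subset_span (by simp)
    have h2 := Ideal.Quotient.eq_zero_iff_mem.2 h1
    rw [map_sub, sub_eq_zero, map_pow] at h2
    rw [h2]
    have : (Ideal.Quotient.mk I) = ((Ideal.Quotient.mkₐ R I : _ →ₐ[R] _) : _ →+* _) := rfl
    rw [this]
    exact (Polynomial.aeval_algHom_apply (Ideal.Quotient.mkₐ R I) (X 0) P).symm
  have hyz : q (X 1) * q (X 2) = 1 := by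
    have h1 : (X 1 * X 2 - 1 : MvPolynomial (Fin 3) R) ∈ I := Ideal.subset_span (by simp)
    have h2 := Ideal.Quotient.eq_zero_iff_mem.2 h1
    rwa [map_sub, sub_eq_zero, map_mul, map_one] at h2
  have hset : {a : MvPolynomial (Fin 3) R ⧸ I |
        ∃ i n : ℕ, i ≤ 2 * g ∧
          (a = Ideal.Quotient.mk _ (X 0 ^ i * X 1 ^ n) ∨ a = Ideal.Quotient.mk _ (X 0 ^ i * X 2 ^ n))} =
      gens g (q (X 0)) (q (X 1)) (q (X 2)) := by
    ext a
    simp only [gens, Set.mem_ofPred_eq, map_mul, map_pow, q]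
  rw [hset]
  rw [eq_top_iff]
  intro a _
  obtain ⟨p, rfl⟩ := Ideal.Quotient.mk_surjective a
  have := aeval_mem g P hP hdeg (q (X 0)) (q (X 1)) (q (X 2)) hy hyz p
  have h3 : aeval (![q (X 0), q (X 1), q (X 2)] : Fin 3 → _) p = Ideal.Quotient.mk I p := by
    have : (![q (X 0), q (X 1), q (X 2)] : Fin 3 → _) = fun i => (Ideal.Quotient.mkₐ R I) (X i) := by
      funext i; fin_cases i <;> rfl
    rw [this, ← MvPolynomial.comp_aeval_apply, aeval_X_left_apply]
    rfl
  rw [h3] at this
  exact this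

end Groth.Agent.H9.HyperSpan
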