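import Groth.Agent.Lib.Lead.QC.CartierCompl
import Groth.Agent.Lib.Lead.QC.IdealComap
import Groth.Agent.Lib.Lead.QC.BlowUpProps
import Groth.Prelude.Def_W4c6modpairsegaMP
import Mathlib.RingTheory.Smooth.IntegralClosure
import Mathlib.AlgebraicGeometry.Morphisms.Etale

set_option autoImplicit false
universe u
open CategoryTheory Limits AlgebraicGeometry TopologicalSpace Opposite

namespace Groth.Agent.H9.ICE

open Groth.Agent.LD.QC
open scoped TensorProduct

section Alg

/-- étale base change of "integrally closed in the localization at one element". -/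
theorem alg_main {A B A' B' : Type u} [CommRing A] [CommRing B] [CommRing A'] [CommRing B']
    [Algebra A B] [Algebra A A'] [Algebra B B'] [Algebra A' B'] [Algebra A B']
    [IsScalarTower A B B'] [IsScalarTower A A' B']
    [Algebra.Etale A B] (a : A) [IsLocalization.Away a A']
    [IsLocalization.Away (algebraMap A B a) B']
    (h : ∀ x : A', IsIntegral A x → x ∈ Set.range (algebraMap A A'))
    (y : B') (hy : IsIntegral B y) : y ∈ Set.range (algebraMap B B') := by
  haveI : IsLocalization (Algebra.algebraMapSubmonoid B (Submonoid.powers a)) B' := by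
    rw [Algebra.algebraMapSubmonoid_powers]
    exact ‹IsLocalization.Away (algebraMap A B a) B'›
  haveI : Algebra.IsPushout A B A' B' :=
    Algebra.isPushout_of_isLocalization (Submonoid.powers a) A' B B'
  let e := Algebra.IsPushout.equiv A B A' B'
  have hz : IsIntegral B (e.symm y) := hy.map e.symm
  obtain ⟨w, hw⟩ := (TensorProduct.toIntegralClosure_bijective_of_smooth
    (R := A) (S := B) (B := A')).2 ⟨e.symm y, hz⟩
  have key : ∀ w : B ⊗[A] integralClosure A A', ∃ b : B,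
      ((TensorProduct.toIntegralClosure A B A' w : integralClosure B (B ⊗[A] A')) : B ⊗[A] A')
        = b ⊗ₜ 1 := by
    intro w
    induction w with
    | zero => exact ⟨0, by simp⟩
    | add x y hx hy =>
      obtain ⟨b1, h1⟩ := hx
      obtain ⟨b2, h2⟩ := hy
      exact ⟨b1 + b2, by simp [h1, h2, TensorProduct.add_tmul]⟩
    | tmul b x =>
      obtain ⟨r, hr⟩ := h x.1 x.2
      refine ⟨r • b, ?_⟩
      simp [TensorProduct.toIntegralClosure, ← hr, Algebra.algebraMap_eq_smul_one,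
        TensorProduct.smul_tmul]
  obtain ⟨b, hb⟩ := key w
  refine ⟨b, ?_⟩
  have h3 : e.symm y = b ⊗ₜ 1 := by rw [← hb, hw]
  have h4 : y = e (b ⊗ₜ 1) := by rw [← h3, AlgEquiv.apply_symm_apply]
  rw [h4, Algebra.IsPushout.equiv_tmul, map_one, mul_one]

theorem isIntegralElem_of_comm {A B A' B' : Type*} [CommRing A] [CommRing B] [CommRing A']
    [CommRing B'] (f : A →+* B) (f' : A' →+* B') (α : A →+* A') (β : B →+* B')
    (h : β.comp f = f'.comp α) (x : B) (hx : f.IsIntegralElem x) : f'.IsIntegralElem (β x) := by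
  obtain ⟨p, hp, hpx⟩ := hx
  refine ⟨p.map α, hp.map α, ?_⟩
  rw [Polynomial.eval₂_map, ← h, ← Polynomial.hom_eval₂, hpx, map_zero]

end Alg

variable {X Y : Scheme.{u}}

/-- `Γ(U)` is integrally closed in `Γ(W)` along the restriction map. -/
def IntClosedIn (X : Scheme.{u}) (U W : X.Opens) (h : W ≤ U) : Prop :=
  ∀ s : Γ(X, W), (X.presheaf.map (homOfLE h).op).hom.IsIntegralElem s →
    s ∈ Set.range (X.presheaf.map (homOfLE h).op).hom

theorem intClosedIn_congr {U W W' : X.Opens} (hWW' : W = W') (hW : W ≤ U)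
    (H : IntClosedIn X U W hW) : IntClosedIn X U W' (hWW' ▸ hW) := by
  subst hWW'; exact H

theorem res_res {A B C : X.Opens} (h1 : B ≤ A) (h2 : C ≤ B) (x : Γ(X, A)) :
    (X.presheaf.map (homOfLE h2).op).hom ((X.presheaf.map (homOfLE h1).op).hom x) =
      (X.presheaf.map (homOfLE (h2.trans h1)).op).hom x := by
  rw [← CommRingCat.comp_apply, ← Functor.map_comp]
  rfl

theorem res_injective_of_le {W A B : X.Opens} (hA : A ≤ B) (hB : B ≤ W)
    (h : Function.Injective (X.presheaf.map (homOfLE (hA.trans hB)).op).hom) :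
    Function.Injective (X.presheaf.map (homOfLE hB).op).hom := by
  intro x y hxy
  apply h
  rw [← res_res hB hA, ← res_res hB hA, hxy]

theorem res_injective_compl (J : Y.IdealSheafData) (hJ : BlowUp.IsEffCartierIdeal J)
    (O : Y.Opens) (hO : O = J.support.compl) (W : Y.Opens) :
    Function.Injective (Y.presheaf.map (homOfLE (inf_le_left : W ⊓ O ≤ W)).op).hom := by
  subst hO
  haveI : IsAffineHom (Scheme.Opens.ι (X := Y) J.support.compl) :=
    isAffineHom_compl_of_locPrincipal J (fun x _ => by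
      obtain ⟨U, hx, a, _, h⟩ := hJ x
      exact ⟨U, hx, a, h⟩)
  haveI := isSchemeTheoreticallyDominant_compl_of_effCartier J hJ
  have h1 := Scheme.Hom.app_injective (Scheme.Opens.ι (X := Y) J.support.compl) W
  rw [Scheme.Opens.ι_app] at h1
  have hA : ((Scheme.Opens.ι (X := Y) J.support.compl) ''ᵁ
      ((Scheme.Opens.ι (X := Y) J.support.compl) ⁻¹ᵁ W)) ≤ W ⊓ J.support.compl := by
    rw [Scheme.Hom.image_preimage_eq_opensRange_inf, Scheme.Opens.opensRange_ι]
    exact le_of_eq (inf_comm _ _)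
  exact res_injective_of_le hA inf_le_left h1


set_option maxHeartbeats 1600000 in
theorem local_step (g : Y ⟶ X) [Etale g] (U : X.affineOpens) (V : Y.affineOpens)
    (e : V.1 ≤ g ⁻¹ᵁ U.1) (a : Γ(X, U.1))
    (hU : IntClosedIn X U.1 (X.basicOpen a) (X.basicOpen_le a)) :
    IntClosedIn Y V.1 (Y.basicOpen (g.appLE U.1 V.1 e a)) (Y.basicOpen_le _) := by
  intro t ht
  have e' : Y.basicOpen (g.appLE U.1 V.1 e a) ≤ g ⁻¹ᵁ X.basicOpen a := by
    rw [Scheme.basicOpen_appLE]; exact inf_le_right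
  letI algAB : Algebra Γ(X, U.1) Γ(Y, V.1) := (g.appLE U.1 V.1 e).hom.toAlgebra
  letI algAA' : Algebra Γ(X, U.1) Γ(X, X.basicOpen a) :=
    (X.presheaf.map (homOfLE (X.basicOpen_le a)).op).hom.toAlgebra
  letI algBB' : Algebra Γ(Y, V.1) Γ(Y, Y.basicOpen (g.appLE U.1 V.1 e a)) :=
    (Y.presheaf.map (homOfLE (Y.basicOpen_le (g.appLE U.1 V.1 e a))).op).hom.toAlgebra
  letI algA'B' : Algebra Γ(X, X.basicOpen a) Γ(Y, Y.basicOpen (g.appLE U.1 V.1 e a)) :=
    (g.appLE _ _ e').hom.toAlgebra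
  letI algAB' : Algebra Γ(X, U.1) Γ(Y, Y.basicOpen (g.appLE U.1 V.1 e a)) :=
    ((Y.presheaf.map (homOfLE (Y.basicOpen_le (g.appLE U.1 V.1 e a))).op).hom.comp
      (g.appLE U.1 V.1 e).hom).toAlgebra
  haveI : IsScalarTower Γ(X, U.1) Γ(Y, V.1) Γ(Y, Y.basicOpen (g.appLE U.1 V.1 e a)) :=
    IsScalarTower.of_algebraMap_eq' rfl
  haveI : IsScalarTower Γ(X, U.1) Γ(X, X.basicOpen a)
      Γ(Y, Y.basicOpen (g.appLE U.1 V.1 e a)) := by
    refine IsScalarTower.of_algebraMap_eq' ?_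
    change ((Y.presheaf.map (homOfLE (Y.basicOpen_le (g.appLE U.1 V.1 e a))).op).hom.comp
      (g.appLE U.1 V.1 e).hom) = (g.appLE _ _ e').hom.comp
        (X.presheaf.map (homOfLE (X.basicOpen_le a)).op).hom
    rw [← CommRingCat.hom_comp, ← CommRingCat.hom_comp, Scheme.Hom.appLE_map,
      Scheme.Hom.map_appLE]
  haveI : Algebra.Etale Γ(X, U.1) Γ(Y, V.1) :=
    HasRingHomProperty.appLE (P := @Etale) g inferInstance U V e
  haveI : IsLocalization.Away a Γ(X, X.basicOpen a) := U.2.isLocalization_basicOpen a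
  haveI : IsLocalization.Away (algebraMap Γ(X, U.1) Γ(Y, V.1) a)
      Γ(Y, Y.basicOpen (g.appLE U.1 V.1 e a)) := V.2.isLocalization_basicOpen _
  exact alg_main (A := Γ(X, U.1)) (B := Γ(Y, V.1)) (A' := Γ(X, X.basicOpen a))
    (B' := Γ(Y, Y.basicOpen (g.appLE U.1 V.1 e a))) a (fun x hx => hU x hx) t ht

theorem intClosedIn_of_cover (V O : Y.Opens) {ι : Type*} (W : ι → Y.Opens)
    (hWV : ∀ i, W i ≤ V) (hcov : V ≤ ⨆ i, W i)
    (hinj : ∀ W' : Y.Opens, Function.Injective
      (Y.presheaf.map (homOfLE (inf_le_left : W' ⊓ O ≤ W')).op).hom)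
    (hloc : ∀ i, IntClosedIn Y (W i) (W i ⊓ O) inf_le_left) :
    IntClosedIn Y V (V ⊓ O) inf_le_left := by
  intro t ht
  have h1 : ∀ i, ∃ s : Γ(Y, W i),
      (Y.presheaf.map (homOfLE (inf_le_left : W i ⊓ O ≤ W i)).op).hom s =
        (Y.presheaf.map (homOfLE (inf_le_inf_right O (hWV i) : W i ⊓ O ≤ V ⊓ O)).op).hom t := by
    intro i
    refine hloc i _ (isIntegralElem_of_comm _ _ (Y.presheaf.map (homOfLE (hWV i)).op).hom
      (Y.presheaf.map (homOfLE (inf_le_inf_right O (hWV i))).op).hom ?_ t ht)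
    rw [← CommRingCat.hom_comp, ← CommRingCat.hom_comp, ← Functor.map_comp, ← Functor.map_comp]
    rfl
  choose s hs using h1
  have hcompat : TopCat.Presheaf.IsCompatible Y.sheaf.obj W s := by
    intro i j
    apply hinj (W i ⊓ W j)
    change (Y.presheaf.map _).hom ((Y.presheaf.map _).hom (s i)) =
      (Y.presheaf.map _).hom ((Y.presheaf.map _).hom (s j))
    have hi : (Y.presheaf.map (homOfLE (inf_le_left : (W i ⊓ W j) ⊓ O ≤ W i ⊓ W j)).op).hom
        ((Y.presheaf.map (homOfLE (inf_le_left : W i ⊓ W j ≤ W i)).op).hom (s i)) =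
        (Y.presheaf.map (homOfLE (inf_le_inf_right O (inf_le_left.trans (hWV i)) :
          (W i ⊓ W j) ⊓ O ≤ V ⊓ O)).op).hom t := by
      rw [res_res, ← res_res (inf_le_inf_right O (hWV i))
        (inf_le_inf_right O inf_le_left : (W i ⊓ W j) ⊓ O ≤ W i ⊓ O), ← hs i, res_res]
    have hj : (Y.presheaf.map (homOfLE (inf_le_left : (W i ⊓ W j) ⊓ O ≤ W i ⊓ W j)).op).hom
        ((Y.presheaf.map (homOfLE (inf_le_right : W i ⊓ W j ≤ W j)).op).hom (s j)) =
        (Y.presheaf.map (homOfLE (inf_le_inf_right O (inf_le_left.trans (hWV i)) :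
          (W i ⊓ W j) ⊓ O ≤ V ⊓ O)).op).hom t := by
      rw [res_res, ← res_res (inf_le_inf_right O (hWV j))
        (inf_le_inf_right O inf_le_right : (W i ⊓ W j) ⊓ O ≤ W j ⊓ O), ← hs j, res_res]
    exact hi.trans hj.symm
  obtain ⟨s0, hs0, -⟩ : ∃ s0 : Γ(Y, V),
      (∀ i, (Y.sheaf.obj.map (homOfLE (hWV i)).op) s0 = s i) ∧ _ :=
    Y.sheaf.existsUnique_gluing' W V (fun i => homOfLE (hWV i)) hcov s hcompat
  refine ⟨s0, ?_⟩
  refine Y.sheaf.eq_of_locally_eq' (fun i => W i ⊓ O) (V ⊓ O)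
    (fun i => homOfLE (inf_le_inf_right O (hWV i))) ?_ _ _ (fun i => ?_)
  · rintro x ⟨hxV, hxO⟩
    obtain ⟨i, hi⟩ := Opens.mem_iSup.mp (hcov hxV)
    exact Opens.mem_iSup.mpr ⟨i, hi, hxO⟩
  · change (Y.presheaf.map _).hom ((Y.presheaf.map _).hom s0) = (Y.presheaf.map _).hom t
    have h0 : (Y.presheaf.map (homOfLE (hWV i)).op).hom s0 = s i := hs0 i
    rw [res_res, ← hs i, ← h0, res_res]

theorem main (IX : X.IdealSheafData) (hX : BlowUp.IsEffCartierIdeal IX)
    (hint : ∀ U ∈ X.affineOpens, IntClosedIn X U (U ⊓ IX.support.compl) inf_le_left)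
    (g : Y ⟶ X) [Etale g] :
    ∀ V ∈ Y.affineOpens, IntClosedIn Y V (V ⊓ g ⁻¹ᵁ IX.support.compl) inf_le_left := by
  intro V hV
  have hJ : BlowUp.IsEffCartierIdeal (IX.comap g) := isEffCartierIdeal_comap_of_flat g IX hX
  have hJO : g ⁻¹ᵁ IX.support.compl = (IX.comap g).support.compl :=
    (comap_support_compl_eq IX g).symm
  have hloc : ∀ y : V, ∃ W : Y.Opens, IsAffineOpen W ∧ (y : Y) ∈ W ∧ W ≤ V ∧
      IntClosedIn Y W (W ⊓ g ⁻¹ᵁ IX.support.compl) inf_le_left := by
    intro y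
    obtain ⟨U, hyU, a, ha, hI⟩ := hX (g y)
    obtain ⟨W, hW, hyW, hWle⟩ := exists_isAffineOpen_mem_and_subset (x := (y : Y))
      (U := V ⊓ g ⁻¹ᵁ U.1) ⟨y.2, hyU⟩
    refine ⟨W, hW, hyW, fun z hz => (hWle hz).1, ?_⟩
    have e : W ≤ g ⁻¹ᵁ U.1 := fun z hz => (hWle hz).2
    have h1 : U.1 ⊓ IX.support.compl = X.basicOpen a := by
      rw [inf_comm]; exact compl_support_inf_eq_basicOpen IX U a hI
    have h2 : Y.basicOpen (g.appLE U.1 W e a) = W ⊓ g ⁻¹ᵁ IX.support.compl := by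
      rw [Scheme.basicOpen_appLE, ← h1]
      ext z
      constructor
      · rintro ⟨hzW, -, hz⟩
        exact ⟨hzW, hz⟩
      · rintro ⟨hzW, hz⟩
        exact ⟨hzW, e hzW, hz⟩
    have hXU := intClosedIn_congr h1 inf_le_left (hint U U.2)
    have h3 := local_step g U ⟨W, hW⟩ e a hXU
    exact intClosedIn_congr h2 _ h3
  choose W hWaff hyW hWV hWint using hloc
  refine intClosedIn_of_cover V _ W hWV ?_ ?_ hWint
  · intro y hy
    exact Opens.mem_iSup.mpr ⟨⟨y, hy⟩, hyW ⟨y, hy⟩⟩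
  · intro W'
    exact res_injective_compl (IX.comap g) hJ _ hJO W'

end Groth.Agent.H9.ICE
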