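import Mathlib
import Groth.Agent.Lib.Helper9.Misc.SchClos

/-!
# The system of scheme-theoretic images of a limit in its stages
-/

set_option autoImplicit false

namespace Groth.Agent.H9.IMG

open CategoryTheory Limits AlgebraicGeometry

universe u

section ImSys

variable {I : Type u} [Category.{u} I] {S : Scheme.{u}} (D : I ⥤ Over S) (c : Cone D)

/-- ideal of the scheme-theoretic image of the limit in the `i`-th stage -/
noncomputable def imI (i : I) : (D.obj i).left.IdealSheafData := (c.π.app i).left.ker

lemma imI_map {i j : I} (a : i ⟶ j) : imI D c j = (imI D c i).map (D.map a).left := by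
  unfold imI
  rw [← Scheme.Hom.ker_comp, ← Over.comp_left, c.w a]

/-- transition maps between the scheme-theoretic images -/
noncomputable def imT {i j : I} (a : i ⟶ j) : (imI D c i).subscheme ⟶ (imI D c j).subscheme :=
  Scheme.IdealSheafData.subschemeMap (imI D c i) (imI D c j) (D.map a).left (imI_map D c a).le

@[reassoc (attr := simp)]
lemma imT_ι {i j : I} (a : i ⟶ j) :
    imT D c a ≫ (imI D c j).subschemeι = (imI D c i).subschemeι ≫ (D.map a).left :=
  Scheme.IdealSheafData.subschemeMap_subschemeι _ _ _ _

/-- the system of scheme-theoretic images -/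
noncomputable def imD : I ⥤ Over S where
  obj i := Over.mk ((imI D c i).subschemeι ≫ (D.obj i).hom)
  map {i j} a := Over.homMk (imT D c a) (by
    show imT D c a ≫ (imI D c j).subschemeι ≫ (D.obj j).hom = (imI D c i).subschemeι ≫ (D.obj i).hom
    rw [imT_ι_assoc, Over.w])
  map_id i := by
    ext
    show imT D c (𝟙 i) = 𝟙 _
    rw [← cancel_mono (imI D c i).subschemeι, imT_ι, D.map_id]
    simp
  map_comp {i j k} a b := by
    ext
    show imT D c (a ≫ b) = imT D c a ≫ imT D c b
    rw [← cancel_mono (imI D c k).subschemeι, imT_ι, Category.assoc, imT_ι, imT_ι_assoc,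
      D.map_comp]
    rfl

/-- the closed immersions of the images into the stages -/
noncomputable def imι : imD D c ⟶ D where
  app i := Over.homMk (imI D c i).subschemeι rfl
  naturality {i j} a := by
    ext
    exact imT_ι D c a

/-- the projection to the image -/
noncomputable def imπ (i : I) : c.pt.left ⟶ (imI D c i).subscheme := (c.π.app i).left.toImage

@[reassoc (attr := simp)]
lemma imπ_ι (i : I) : imπ D c i ≫ (imI D c i).subschemeι = (c.π.app i).left :=
  (c.π.app i).left.toImage_imageι

@[reassoc]
lemma imπ_T {i j : I} (a : i ⟶ j) : imπ D c i ≫ imT D c a = imπ D c j := by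
  rw [← cancel_mono (imI D c j).subschemeι, Category.assoc, imT_ι, imπ_ι_assoc, imπ_ι,
    ← Over.comp_left, c.w a]

/-- the cone of projections to the images -/
noncomputable def imCone : Cone (imD D c) where
  pt := c.pt
  π :=
    { app := fun i ↦ Over.homMk (imπ D c i) (by
        show imπ D c i ≫ (imI D c i).subschemeι ≫ (D.obj i).hom = c.pt.hom
        rw [imπ_ι_assoc, Over.w]
        rfl)
      naturality := by
        intro i j a
        ext
        show 𝟙 _ ≫ imπ D c j = imπ D c i ≫ imT D c a
        rw [Category.id_comp, imπ_T] }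

/-- the images form a limit cone again -/
noncomputable def imIsLimit (hc : IsLimit c) : IsLimit (imCone D c) where
  lift s := hc.lift ((Cone.postcompose (imι D c)).obj s)
  fac s i := by
    ext
    refine (cancel_mono (imI D c i).subschemeι).mp ?_
    have h2 := congrArg CommaMorphism.left (hc.fac ((Cone.postcompose (imι D c)).obj s) i)
    exact ((Category.assoc _ _ _).trans (congrArg
      (fun z ↦ (hc.lift ((Cone.postcompose (imι D c)).obj s)).left ≫ z) (imπ_ι D c i))).trans h2
  uniq s m hm := by
    apply hc.uniq ((Cone.postcompose (imι D c)).obj s)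
    intro i
    have h' := congrArg CommaMorphism.left (hm i)
    ext
    exact ((congrArg (fun z ↦ z ≫ (imI D c i).subschemeι) h'.symm).trans
      ((Category.assoc _ _ _).trans (congrArg (fun z ↦ m.left ≫ z) (imπ_ι D c i)))).symm


section Props

lemma imπ_dominant (i : I) [QuasiCompact (c.π.app i).left] :
    IsSchemeTheoreticallyDominant (imπ D c i) :=
  ⟨SchClos.ker_toImage_eq_bot _⟩

lemma imT_dominant {i j : I} (a : i ⟶ j) [QuasiCompact (c.π.app i).left]
    [QuasiCompact (c.π.app j).left] : IsSchemeTheoreticallyDominant (imT D c a) := by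
  constructor
  have h1 : (imπ D c i ≫ imT D c a).ker = ⊥ := by
    rw [imπ_T]
    exact SchClos.ker_toImage_eq_bot _
  rw [Scheme.Hom.ker_comp, (imπ_dominant D c i).ker_eq_bot, Scheme.IdealSheafData.map_bot] at h1
  exact h1

lemma imT_affine {i j : I} (a : i ⟶ j) [IsAffineHom (D.map a).left] :
    IsAffineHom (imT D c a) := by
  haveI : IsAffineHom (imT D c a ≫ (imI D c j).subschemeι) := by
    rw [imT_ι]
    infer_instance
  exact IsAffineHom.of_comp (imT D c a) (imI D c j).subschemeι

lemma imπ_affine (i : I) [IsAffineHom (c.π.app i).left] : IsAffineHom (imπ D c i) := by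
  haveI : IsAffineHom (imπ D c i ≫ (imI D c i).subschemeι) := by
    rw [imπ_ι]
    infer_instance
  exact IsAffineHom.of_comp (imπ D c i) (imI D c i).subschemeι

lemma imD_props (i : I) [LocallyOfFiniteType (D.obj i).hom] [QuasiCompact (D.obj i).hom]
    [IsSeparated (D.obj i).hom] :
    LocallyOfFiniteType ((imD D c).obj i).hom ∧ QuasiCompact ((imD D c).obj i).hom ∧
      IsSeparated ((imD D c).obj i).hom := by
  refine ⟨?_, ?_, ?_⟩
  · show LocallyOfFiniteType ((imI D c i).subschemeι ≫ (D.obj i).hom)
    infer_instance
  · show QuasiCompact ((imI D c i).subschemeι ≫ (D.obj i).hom)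
    infer_instance
  · show IsSeparated ((imI D c i).subschemeι ≫ (D.obj i).hom)
    infer_instance

end Props

end ImSys

end Groth.Agent.H9.IMG
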