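import Mathlib
import Groth.Agent.Lib.Helper9.Misc.LPD1
import Groth.Agent.Lib.Lead.QC.CartierBC
import Groth.Agent.Lib.Lead.QC.IdealComap

/-!
# Effective Cartier ideals and scheme-theoretically dominant affine morphisms
-/

set_option autoImplicit false

namespace Groth.Agent.H9.IMG

open CategoryTheory Limits AlgebraicGeometry Opposite

universe u

/-- a generator of an effective Cartier ideal on an affine open is a nonzerodivisor -/
theorem nzd_of_effCartier_principal {X : Scheme.{u}} (I : X.IdealSheafData)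
    (hI : BlowUp.IsEffCartierIdeal I) (W : X.affineOpens) (b : Γ(X, W.1))
    (hb : I.ideal W = Ideal.span {b}) : b ∈ nonZeroDivisors Γ(X, W.1) := by
  rw [mem_nonZeroDivisors_iff_right]
  intro x hx
  refine X.IsSheaf.section_ext (U := op W.1) (s := x) (t := 0) fun w hw ↦ ?_
  obtain ⟨U, hwU, hUW, d, hd, hId⟩ := Groth.Agent.LD.QC.exists_affine_principal_le I hI w W.1 hw
  refine ⟨U.1, hUW, hwU, ?_⟩
  have h1 : I.ideal U = Ideal.span {(X.presheaf.map (homOfLE hUW).op).hom b} := by
    rw [← I.map_ideal (U := U) (V := W) hUW, hb, Ideal.map_span, Set.image_singleton]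
    rfl
  have h2 : d ∈ Ideal.span {(X.presheaf.map (homOfLE hUW).op).hom b} := by
    rw [← h1, hId]
    exact Ideal.mem_span_singleton_self d
  obtain ⟨w', hw'⟩ := Ideal.mem_span_singleton'.mp h2
  have h3 : (X.presheaf.map (homOfLE hUW).op).hom x * d = 0 := by
    rw [← hw', mul_comm w', ← mul_assoc, ← map_mul, hx, map_zero, zero_mul]
  have h4 := (mem_nonZeroDivisors_iff_right.mp hd) _ h3
  rw [map_zero]
  exact h4

/-- a locally principal ideal whose pull-back along an affine scheme-theoretically dominant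
morphism is effective Cartier is effective Cartier. -/
theorem effCartier_of_comap {X Z : Scheme.{u}} (π : X ⟶ Z) [IsAffineHom π]
    [IsSchemeTheoreticallyDominant π] (J : Z.IdealSheafData)
    (hloc : ∀ z : Z, ∃ V : Z.Opens, z ∈ V ∧ LPD.PrincipalOn J V)
    (hX : BlowUp.IsEffCartierIdeal (J.comap π)) : BlowUp.IsEffCartierIdeal J := by
  intro z
  obtain ⟨V, hzV, hV, a, ha⟩ := hloc z
  refine ⟨⟨V, hV⟩, hzV, a, ?_, ha⟩
  have hW : IsAffineOpen (π ⁻¹ᵁ V) := hV.preimage π
  have h1 : (J.comap π).ideal ⟨π ⁻¹ᵁ V, hW⟩ = Ideal.span {(π.app V).hom a} := by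
    rw [Groth.Agent.LD.QC.ideal_comap_of_le J π ⟨V, hV⟩ ⟨π ⁻¹ᵁ V, hW⟩ le_rfl, ha,
      Ideal.map_span, Set.image_singleton, Scheme.Hom.app_eq_appLE]
  have h2 := nzd_of_effCartier_principal (J.comap π) hX ⟨π ⁻¹ᵁ V, hW⟩ _ h1
  exact mem_nonZeroDivisors_of_injective (f := (π.app V).hom) (π.app_injective V) h2

end Groth.Agent.H9.IMG
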