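import Mathlib
import Groth.Agent.Lib.Helper9.Misc.IMG1
import Groth.Agent.Lib.Helper9.Misc.IMG2
import Groth.Agent.Lib.Helper9.Misc.LPD2
import Groth.Agent.Lib.Helper9.Misc.HCM2
import Groth.Agent.Lib.Helper5.NApprox.FgIdB

/-!
# Descending an effective Cartier modulus to the system of scheme-theoretic images
-/

set_option autoImplicit false

namespace Groth.Agent.H9.IMG

open CategoryTheory Limits AlgebraicGeometry Opposite Groth.Agent.H5.NApprox

universe u

section Core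

variable {K : Type u} [SmallCategory K] {S : Scheme.{u}} (D : K ⥤ Over S) (c : Cone D)

lemma imT_comp {i j k : K} (a : i ⟶ j) (b : j ⟶ k) :
    imT D c (a ≫ b) = imT D c a ≫ imT D c b :=
  congrArg CommaMorphism.left ((imD D c).map_comp a b)

lemma imT_hom {i j : K} (a : i ⟶ j) :
    imT D c a ≫ (imI D c j).subschemeι ≫ (D.obj j).hom =
      (imI D c i).subschemeι ≫ (D.obj i).hom := by
  rw [imT_ι_assoc, Over.w]

lemma imπ_hom (i : K) :
    imπ D c i ≫ (imI D c i).subschemeι ≫ (D.obj i).hom = c.pt.hom := by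
  rw [imπ_ι_assoc]
  exact Over.w (c.π.app i)

variable [IsCofiltered K] [CompactSpace S] [QuasiSeparatedSpace S] (hc : IsLimit c)
  (haff : ∀ {i j : K} (a : i ⟶ j), IsAffineHom (D.map a).left)
  (hst : ∀ i, LocallyOfFiniteType (D.obj i).hom ∧ QuasiCompact (D.obj i).hom ∧
    IsSeparated (D.obj i).hom)

include hc haff in
lemma isAffineHom_π_left (i : K) : IsAffineHom (c.π.app i).left := by
  haveI : IsConnected K := IsCofiltered.isConnected _
  haveI : ∀ {i j : K} (a : i ⟶ j), IsAffineHom ((D ⋙ Over.forget S).map a) := fun a ↦ haff a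
  exact isAffineHom_π_app (D ⋙ Over.forget S) ((Over.forget S).mapCone c)
    (isLimitOfPreserves (Over.forget S) hc) i

include hc haff hst in
theorem core (IS : S.IdealSheafData) (IC : c.pt.left.IdealSheafData)
    (hIC : BlowUp.IsEffCartierIdeal IC) (hamb : IC ≤ IS.comap c.pt.hom) :
    ∃ (k : K) (Jm : ∀ ν : Over k, (imI D c ν.left).subscheme.IdealSheafData),
      (∀ ν, BlowUp.IsEffCartierIdeal (Jm ν)) ∧
      (∀ ν, Jm ν ≤ IS.comap ((imI D c ν.left).subschemeι ≫ (D.obj ν.left).hom)) ∧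
      (∀ (ν ν' : Over k) (t : ν ⟶ ν'), Jm ν = (Jm ν').comap (imT D c t.left)) ∧
      (∀ ν, IC = (Jm ν).comap (imπ D c ν.left)) := by
  haveI : IsConnected K := IsCofiltered.isConnected _
  haveI hπaff : ∀ i, IsAffineHom (c.π.app i).left := isAffineHom_π_left D c hc haff
  haveI hTaff : ∀ {i j : K} (a : i ⟶ j), IsAffineHom (imT D c a) := fun a ↦ by
    haveI := haff a
    exact imT_affine D c a
  haveI hπZaff : ∀ i, IsAffineHom (imπ D c i) := fun i ↦ imπ_affine D c i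
  haveI hπZdom : ∀ i, IsSchemeTheoreticallyDominant (imπ D c i) := fun i ↦ imπ_dominant D c i
  let DZ : K ⥤ Scheme.{u} := imD D c ⋙ Over.forget S
  let cZ : Cone DZ := (Over.forget S).mapCone (imCone D c)
  have hcZ : IsLimit cZ := isLimitOfPreserves (Over.forget S) (imIsLimit D c hc)
  haveI hAff1 : ∀ (i j : K) (a : i ⟶ j), IsAffineHom (DZ.map a) := fun i j a ↦ hTaff a
  haveI hAff2 : ∀ {i j : K} (a : i ⟶ j), IsAffineHom (DZ.map a) := fun a ↦ hTaff a
  have hZprops : ∀ i, QuasiCompact ((imI D c i).subschemeι ≫ (D.obj i).hom) ∧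
      QuasiSeparated ((imI D c i).subschemeι ≫ (D.obj i).hom) := fun i ↦ by
    haveI := (hst i).2.1
    haveI := (hst i).2.2
    exact ⟨inferInstance, inferInstance⟩
  haveI : ∀ i, CompactSpace (DZ.obj i) := fun i ↦ by
    show CompactSpace (imI D c i).subscheme
    exact @QuasiCompact.compactSpace_of_compactSpace _ _
      ((imI D c i).subschemeι ≫ (D.obj i).hom) (hZprops i).1 _
  haveI : ∀ i, QuasiSeparatedSpace (DZ.obj i) := fun i ↦ by
    show QuasiSeparatedSpace (imI D c i).subscheme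
    exact @quasiSeparatedSpace_of_quasiSeparated _ _
      ((imI D c i).subschemeι ≫ (D.obj i).hom) _ (hZprops i).2
  have hfg : ∀ U : c.pt.left.affineOpens, (IC.ideal U).FG := LPD.fg_of_effCartier IC hIC
  obtain ⟨i₁, J₁, hJ₁fg, hJ₁⟩ : ∃ (i₁ : K) (J₁ : (imI D c i₁).subscheme.IdealSheafData),
      (∀ U : (imI D c i₁).subscheme.affineOpens, (J₁.ideal U).FG) ∧
        J₁.comap (imπ D c i₁) = IC :=
    exists_idealSheaf_fg_descend DZ cZ hcZ IC hfg
  have hloc : ∀ x : c.pt.left, ∃ V : c.pt.left.Opens, x ∈ V ∧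
      LPD.PrincipalOn (J₁.comap (imπ D c i₁)) V := by
    intro x
    rw [hJ₁]
    obtain ⟨U, hxU, a, -, ha⟩ := hIC x
    exact ⟨U.1, hxU, U.2, a, ha⟩
  obtain ⟨i₂, f₂, h₂⟩ : ∃ (i₂ : K) (f₂ : i₂ ⟶ i₁), ∀ x : (imI D c i₂).subscheme,
      ∃ V : (imI D c i₂).subscheme.Opens, x ∈ V ∧ LPD.PrincipalOn (J₁.comap (imT D c f₂)) V :=
    LPD.exists_locPrincipal_stage DZ cZ hcZ i₁ J₁ hJ₁fg hloc
  have k1 : (J₁.comap (imT D c f₂)).comap (imπ D c i₂) = IC := by
    rw [← Scheme.IdealSheafData.comap_comp J₁, imπ_T]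
    exact hJ₁
  have hAmb : (J₁.comap (imT D c f₂)).comap (imπ D c i₂) ≤
      (IS.comap ((imI D c i₂).subschemeι ≫ (D.obj i₂).hom)).comap (imπ D c i₂) := by
    rw [k1, ← Scheme.IdealSheafData.comap_comp IS, imπ_hom]
    exact hamb
  obtain ⟨i₃, f₃, h₃⟩ : ∃ (i₃ : K) (f₃ : i₃ ⟶ i₂),
      (J₁.comap (imT D c f₂)).comap (imT D c f₃) ≤
      (IS.comap ((imI D c i₂).subschemeι ≫ (D.obj i₂).hom)).comap (imT D c f₃) :=
    HCM.exists_comap_le_comap DZ cZ hcZ i₂ (J₁.comap (imT D c f₂))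
      (IS.comap ((imI D c i₂).subschemeι ≫ (D.obj i₂).hom)) (fun x ↦ by
        obtain ⟨_, ⟨U, hU, rfl⟩, hxU, -⟩ :=
          ((imI D c i₂).subscheme).isBasis_affineOpens.exists_subset_of_mem_open
            (Set.mem_univ x) isOpen_univ
        exact ⟨⟨U, hU⟩, hxU, LPD.fg_comap J₁ hJ₁fg _ ⟨U, hU⟩⟩) hAmb
  -- the ideal on the later stages, written as a single pull-back from stage `i₂`
  have hJm : ∀ ν : Over i₃, ((J₁.comap (imT D c f₂)).comap (imT D c f₃)).comap (imT D c ν.hom) =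
      (J₁.comap (imT D c f₂)).comap (imT D c (ν.hom ≫ f₃)) := fun ν ↦ by
    rw [← Scheme.IdealSheafData.comap_comp (J₁.comap (imT D c f₂)), ← imT_comp]
  have hπ : ∀ ν : Over i₃, IC =
      (((J₁.comap (imT D c f₂)).comap (imT D c f₃)).comap (imT D c ν.hom)).comap
        (imπ D c ν.left) := fun ν ↦ by
    rw [hJm, ← Scheme.IdealSheafData.comap_comp (J₁.comap (imT D c f₂)), imπ_T]
    exact k1.symm
  refine ⟨i₃, fun ν ↦ ((J₁.comap (imT D c f₂)).comap (imT D c f₃)).comap (imT D c ν.hom),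
    fun ν ↦ ?_, fun ν ↦ ?_, fun ν ν' t ↦ ?_, hπ⟩
  · refine effCartier_of_comap (imπ D c ν.left) _ (fun z ↦ ?_) (by rw [← hπ ν]; exact hIC)
    beta_reduce
    rw [hJm]
    obtain ⟨V, hzV, hV⟩ := h₂ ((imT D c (ν.hom ≫ f₃)) z)
    exact ⟨(imT D c (ν.hom ≫ f₃)) ⁻¹ᵁ V, hzV,
      hV.comap_of_le (imT D c (ν.hom ≫ f₃)) (hV.fst.preimage _) le_rfl⟩
  · refine (Scheme.IdealSheafData.comap_mono _ h₃).trans (le_of_eq ?_)
    show ((IS.comap ((imI D c i₂).subschemeι ≫ (D.obj i₂).hom)).comap (imT D c f₃)).comap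
      (imT D c ν.hom) = _
    rw [← Scheme.IdealSheafData.comap_comp IS, ← Scheme.IdealSheafData.comap_comp IS,
      imT_hom, imT_hom]
  · beta_reduce
    rw [← Scheme.IdealSheafData.comap_comp ((J₁.comap (imT D c f₂)).comap (imT D c f₃)),
      ← imT_comp, Over.w t]

end Core

end Groth.Agent.H9.IMG
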