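import Mathlib
import Groth.Agent.Lib.Helper9.Misc.IMG3
import Groth.Agent.Lib.Helper5.NApprox.RelA
import Groth.Agent.Lib.Helper5.NApprox.LimSepD

/-!
# A quasi-compact separated ambient morphism of modulus pairs is a limit of finite type pairs
-/

set_option autoImplicit false

namespace Groth.Agent.H9.IMG

open CategoryTheory Limits AlgebraicGeometry Opposite Groth.Agent.H5.NApprox

universe u

theorem main {X S : Scheme.{u}} [CompactSpace S] [QuasiSeparatedSpace S]
    (IS : S.IdealSheafData) (_hS : BlowUp.IsEffCartierIdeal IS)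
    (IX : X.IdealSheafData) (hX : BlowUp.IsEffCartierIdeal IX)
    (f : X ⟶ S) [QuasiCompact f] [IsSeparated f] (hf : ModPair.IsAmbient IX IS f) :
    ∃ (I : Type u) (_ : SmallCategory I) (_ : IsCofiltered I) (D : I ⥤ Over S) (c : Cone D)
      (_ : IsLimit c) (e : c.pt ≅ Over.mk f) (J : ∀ i, (D.obj i).left.IdealSheafData),
      (∀ i, BlowUp.IsEffCartierIdeal (J i)) ∧
      (∀ i, LocallyOfFiniteType (D.obj i).hom ∧ QuasiCompact (D.obj i).hom ∧
        IsSeparated (D.obj i).hom) ∧
      (∀ i, ModPair.IsAmbient (J i) IS (D.obj i).hom) ∧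
      (∀ (i j : I) (t : i ⟶ j), IsAffineHom (D.map t).left ∧
        ModPair.IsMinimal (J i) (J j) (D.map t).left ∧
          IsSchemeTheoreticallyDominant (D.map t).left) ∧
      (∀ i, IX = (J i).comap (e.inv.left ≫ (c.π.app i).left)) := by
  haveI : CompactSpace X := QuasiCompact.compactSpace_of_compactSpace f
  haveI : QuasiSeparatedSpace X := quasiSeparatedSpace_of_quasiSeparated f
  obtain ⟨I, pI, dI, nI, D₀, c₀, hc₀, hprops, haff₀, ⟨e₀⟩⟩ := relApproxOver f
  haveI : IsIso e₀.hom.left := (Over.forget S).map_isIso e₀.hom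
  have he₀ : e₀.hom.left ≫ f = c₀.pt.hom := Over.w e₀.hom
  haveI : IsSeparated c₀.pt.hom := by
    rw [← he₀]
    infer_instance
  have hcpt : ∀ i, CompactSpace (D₀.obj i).left := fun i ↦
    @QuasiCompact.compactSpace_of_compactSpace _ _ (D₀.obj i).hom (hprops i).2.1 _
  obtain ⟨i₀, hi₀⟩ := exists_isSeparated_stage_over D₀ c₀ hc₀ haff₀ hcpt
    (fun i ↦ (hprops i).2.1) (fun i ↦ (hprops i).2.2)
  let D : Over (op i₀) ⥤ Over S := Over.forget (op i₀) ⋙ D₀
  let c : Cone D := c₀.whisker (Over.forget (op i₀))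
  have hc : IsLimit c :=
    (Functor.Initial.isLimitWhiskerEquiv (Over.forget (op i₀)) c₀).symm hc₀
  have haff : ∀ {i j : Over (op i₀)} (a : i ⟶ j), IsAffineHom (D.map a).left :=
    fun a ↦ haff₀ _ _ a.left
  have hst : ∀ ν : Over (op i₀), LocallyOfFiniteType (D.obj ν).hom ∧ QuasiCompact (D.obj ν).hom ∧
      IsSeparated (D.obj ν).hom := fun ν ↦ by
    haveI := (hprops ν.left).1
    exact ⟨(inferInstance : LocallyOfFiniteType (D₀.obj ν.left).hom), (hprops ν.left).2.1,
      hi₀ ν.left.unop (leOfHom ν.hom.unop)⟩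
  have hIC : BlowUp.IsEffCartierIdeal (IX.comap e₀.hom.left) :=
    Groth.Agent.LD.QC.isEffCartierIdeal_comap_of_flat e₀.hom.left IX hX
  have hamb : IX.comap e₀.hom.left ≤ IS.comap c.pt.hom := by
    show _ ≤ IS.comap c₀.pt.hom
    rw [← he₀, Scheme.IdealSheafData.comap_comp]
    exact Scheme.IdealSheafData.comap_mono _ hf
  obtain ⟨k, Jm, hJ1, hJ2, hJ3, hJ4⟩ := core D c hc haff hst IS (IX.comap e₀.hom.left) hIC hamb
  haveI hπaff : ∀ i, IsAffineHom (c.π.app i).left := isAffineHom_π_left D c hc haff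
  refine ⟨Over k, inferInstance, inferInstance, Over.forget k ⋙ imD D c,
    (imCone D c).whisker (Over.forget k),
    (Functor.Initial.isLimitWhiskerEquiv (Over.forget k) _).symm (imIsLimit D c hc), e₀, Jm,
    hJ1, ?_, hJ2, ?_, ?_⟩
  · intro ν
    haveI := (hst ν.left).1
    haveI := (hst ν.left).2.1
    haveI := (hst ν.left).2.2
    exact imD_props D c ν.left
  · intro ν ν' t
    haveI := haff t.left
    exact ⟨imT_affine D c t.left, hJ3 ν ν' t, imT_dominant D c t.left⟩
  · intro ν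
    show IX = (Jm ν).comap (e₀.inv.left ≫ imπ D c ν.left)
    rw [Scheme.IdealSheafData.comap_comp, ← hJ4 ν, ← Scheme.IdealSheafData.comap_comp IX,
      ← Over.comp_left, e₀.inv_hom_id, Over.id_left, Scheme.IdealSheafData.comap_id]

end Groth.Agent.H9.IMG
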