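import Mathlib

set_option autoImplicit false
set_option linter.style.haveILetI false
set_option linter.unusedSectionVars false
set_option linter.unusedVariables false

namespace Groth.Agent.H9.IRS

open Polynomial

universe u

variable {k : Type u} [Field k] {r : ℕ}

local notation "R" => MvPolynomial (Fin r) k
local notation "B" => Polynomial (MvPolynomial (Fin r) k)

/-- the substitution `X_i ↦ X_i T` on coefficients -/
noncomputable def phi : R →+* B :=
  MvPolynomial.eval₂Hom (Polynomial.C.comp MvPolynomial.C)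
    (fun j => Polynomial.C (MvPolynomial.X j) * Polynomial.X)

/-- `X_i ↦ X_i T`, `T ↦ T` -/
noncomputable def rho : B →+* B := Polynomial.eval₂RingHom phi Polynomial.X

@[simp] theorem rho_C (f : R) : rho (Polynomial.C f) = phi f := by
  simp [rho]

@[simp] theorem rho_X : rho (Polynomial.X : B) = Polynomial.X := by
  simp [rho]

@[simp] theorem phi_X (i : Fin r) : phi (MvPolynomial.X i : R) = Polynomial.C (MvPolynomial.X i) * Polynomial.X := by
  simp [phi]

@[simp] theorem phi_C (c : k) : phi (MvPolynomial.C c : R) = Polynomial.C (MvPolynomial.C c) := by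
  simp [phi]

/-- evaluation at `T = 1` -/
noncomputable def psi : B →+* R := Polynomial.eval₂RingHom (RingHom.id R) 1

theorem psi_phi (f : R) : psi (phi f) = f := by
  have : (psi.comp phi : R →+* R) = RingHom.id R := by
    apply MvPolynomial.ringHom_ext
    · intro c; simp [psi]
    · intro i; simp [psi]
  exact RingHom.congr_fun this f

/-- evaluation at `T = 0` of `phi f` is the constant term -/
theorem coeff_zero_phi (f : R) :
    (phi f).coeff 0 = MvPolynomial.C (MvPolynomial.eval (fun _ => (0 : k)) f) := by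
  have : ((Polynomial.eval₂RingHom (RingHom.id R) 0).comp phi : R →+* R) =
      MvPolynomial.C.comp (MvPolynomial.eval (fun _ => (0 : k))) := by
    apply MvPolynomial.ringHom_ext
    · intro c; simp
    · intro i; simp
  have h := RingHom.congr_fun this f
  simpa [Polynomial.eval₂_id, ← Polynomial.coeff_zero_eq_eval_zero] using h

section inj

local notation "Q" => FractionRing (Polynomial (MvPolynomial (Fin r) k))

noncomputable def chi : B →+* Q :=
  Polynomial.eval₂RingHom
    (MvPolynomial.eval₂Hom ((algebraMap B Q).comp (Polynomial.C.comp MvPolynomial.C))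
      (fun i => algebraMap B Q (Polynomial.C (MvPolynomial.X i)) / algebraMap B Q Polynomial.X))
    (algebraMap B Q Polynomial.X)

theorem chi_rho : (chi.comp rho : B →+* Q) = algebraMap B Q := by
  have hX : algebraMap B Q (Polynomial.X : B) ≠ 0 := by
    rw [Ne, map_eq_zero_iff _ (IsFractionRing.injective B Q)]
    exact Polynomial.X_ne_zero
  apply Polynomial.ringHom_ext
  · intro f
    have : ((chi.comp rho).comp Polynomial.C : R →+* Q) = (algebraMap B Q).comp Polynomial.C := by
      apply MvPolynomial.ringHom_ext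
      · intro c; simp [chi]
      · intro i
        simp only [RingHom.comp_apply, rho_C, phi_X, map_mul]
        simp [chi, hX]
    exact RingHom.congr_fun this f
  · simp [chi]

theorem rho_injective : Function.Injective (rho : B →+* B) := by
  intro a b hab
  apply IsFractionRing.injective B Q
  rw [← chi_rho, RingHom.comp_apply, RingHom.comp_apply, hab]

end inj

theorem exists_pow_mul_C (f : R) :
    ∃ (m : ℕ) (a : B), (Polynomial.X : B) ^ m * Polynomial.C f = rho a := by
  induction f using MvPolynomial.induction_on with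
  | C c => exact ⟨0, Polynomial.C (MvPolynomial.C c), by simp⟩
  | add p q hp hq =>
    obtain ⟨m, a, ha⟩ := hp
    obtain ⟨n, c, hc⟩ := hq
    refine ⟨m + n, Polynomial.X ^ n * a + Polynomial.X ^ m * c, ?_⟩
    rw [map_add rho, map_mul rho, map_mul rho, map_pow rho, map_pow rho, rho_X, ← ha, ← hc,
      Polynomial.C_add]
    ring
  | mul_X p i hp =>
    obtain ⟨m, a, ha⟩ := hp
    refine ⟨m + 1, a * Polynomial.C (MvPolynomial.X i), ?_⟩
    rw [map_mul rho, rho_C, phi_X, ← ha, Polynomial.C_mul]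
    ring

theorem exists_pow_mul (b : B) :
    ∃ (m : ℕ) (a : B), (Polynomial.X : B) ^ m * b = rho a := by
  induction b using Polynomial.induction_on' with
  | add p q hp hq =>
    obtain ⟨m, a, ha⟩ := hp
    obtain ⟨n, c, hc⟩ := hq
    refine ⟨m + n, Polynomial.X ^ n * a + Polynomial.X ^ m * c, ?_⟩
    rw [map_add rho, map_mul rho, map_mul rho, map_pow rho, map_pow rho, rho_X, ← ha, ← hc]
    ring
  | monomial j f =>
    obtain ⟨m, a, ha⟩ := exists_pow_mul_C f
    refine ⟨m, a * Polynomial.X ^ j, ?_⟩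
    rw [map_mul rho, map_pow rho, rho_X, ← ha, ← Polynomial.C_mul_X_pow_eq_monomial]
    ring

theorem step (b a : B) (m : ℕ) (h : (Polynomial.X : B) ^ m * b = rho a)
    (hX : (Polynomial.X : B) ∣ a) :
    (1 ≤ m ∧ ∃ a', (Polynomial.X : B) ^ (m - 1) * b = rho a') ∨ (m = 0 ∧ (Polynomial.X : B) ∣ b) := by
  obtain ⟨a', rfl⟩ := hX
  rw [map_mul rho, rho_X] at h
  rcases Nat.eq_zero_or_pos m with hm | hm
  · right
    refine ⟨hm, ?_⟩
    rw [hm, pow_zero, one_mul] at h
    exact ⟨rho a', h⟩
  · left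
    refine ⟨hm, a', ?_⟩
    obtain ⟨m', rfl⟩ : ∃ m', m = m' + 1 := ⟨m - 1, by omega⟩
    rw [pow_succ', mul_assoc] at h
    have := mul_left_cancel₀ Polynomial.X_ne_zero h
    simpa using this

theorem not_X_dvd_phi (F : R) (hF0 : MvPolynomial.eval (fun _ => (0 : k)) F ≠ 0) :
    ¬ (Polynomial.X : B) ∣ phi F := by
  rw [Polynomial.X_dvd_iff, coeff_zero_phi]
  intro h
  apply hF0
  exact MvPolynomial.C_injective _ _ (by rw [h, map_zero])

theorem mem_range_of_mul (F : R) (hF0 : MvPolynomial.eval (fun _ => (0 : k)) F ≠ 0) (G₁ G₂ : B)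
    (h : G₁ * G₂ = phi F) : ∃ a₁ a₂, G₁ = rho a₁ ∧ G₂ = rho a₂ ∧ a₁ * a₂ = Polynomial.C F := by
  classical
  have hnd := not_X_dvd_phi F hF0
  obtain ⟨m₁, ⟨a₁, ha₁⟩, hmin₁⟩ := Nat.findX (exists_pow_mul G₁)
  obtain ⟨m₂, ⟨a₂, ha₂⟩, hmin₂⟩ := Nat.findX (exists_pow_mul G₂)
  have hprod : a₁ * a₂ = (Polynomial.X : B) ^ (m₁ + m₂) * Polynomial.C F := by
    apply rho_injective
    rw [map_mul rho, map_mul rho, map_pow rho, rho_X, rho_C, ← ha₁, ← ha₂, ← h]
    ring
  have hzero : m₁ + m₂ = 0 := by
    by_contra hne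
    have hdvd : (Polynomial.X : B) ∣ a₁ * a₂ := by
      rw [hprod]
      exact Dvd.dvd.mul_right (dvd_pow_self _ hne) _
    rcases (Polynomial.prime_X).dvd_or_dvd hdvd with hd | hd
    · rcases step G₁ a₁ m₁ ha₁ hd with ⟨hm, a', ha'⟩ | ⟨_, hX⟩
      · exact hmin₁ (m₁ - 1) (by omega) ⟨a', ha'⟩
      · exact hnd (h ▸ Dvd.dvd.mul_right hX G₂)
    · rcases step G₂ a₂ m₂ ha₂ hd with ⟨hm, a', ha'⟩ | ⟨_, hX⟩
      · exact hmin₂ (m₂ - 1) (by omega) ⟨a', ha'⟩
      · exact hnd (h ▸ Dvd.dvd.mul_left hX G₁)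
  have hm1 : m₁ = 0 := by omega
  have hm2 : m₂ = 0 := by omega
  rw [hm1, pow_zero, one_mul] at ha₁
  rw [hm2, pow_zero, one_mul] at ha₂
  refine ⟨a₁, a₂, ha₁, ha₂, ?_⟩
  rw [hprod, hzero, pow_zero, one_mul]

theorem irreducible_phi (F : R) (hF : Irreducible F)
    (hF0 : MvPolynomial.eval (fun _ => (0 : k)) F ≠ 0) : Irreducible (phi F) := by
  constructor
  · intro hu
    apply hF.not_isUnit
    have := hu.map psi
    rwa [psi_phi] at this
  · intro G₁ G₂ h
    obtain ⟨a₁, a₂, h1, h2, h12⟩ := mem_range_of_mul F hF0 G₁ G₂ h.symm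
    have hF0' : F ≠ 0 := hF.ne_zero
    have hdeg : a₁.natDegree + a₂.natDegree = 0 := by
      have ha1 : a₁ ≠ 0 := by
        rintro rfl
        rw [zero_mul] at h12
        exact hF0' (Polynomial.C_eq_zero.mp h12.symm)
      have ha2 : a₂ ≠ 0 := by
        rintro rfl
        rw [mul_zero] at h12
        exact hF0' (Polynomial.C_eq_zero.mp h12.symm)
      rw [← Polynomial.natDegree_mul ha1 ha2, h12, Polynomial.natDegree_C]
    obtain ⟨f₁, rfl⟩ : ∃ f₁, a₁ = Polynomial.C f₁ :=
      ⟨_, Polynomial.eq_C_of_natDegree_eq_zero (by omega)⟩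
    obtain ⟨f₂, rfl⟩ : ∃ f₂, a₂ = Polynomial.C f₂ :=
      ⟨_, Polynomial.eq_C_of_natDegree_eq_zero (by omega)⟩
    rw [← Polynomial.C_mul, Polynomial.C_inj] at h12
    rcases hF.isUnit_or_isUnit h12.symm with hu | hu
    · left
      rw [h1]
      exact (Polynomial.isUnit_C.mpr hu).map rho
    · right
      rw [h2]
      exact (Polynomial.isUnit_C.mpr hu).map rho

theorem isPrimitive_phi (F : R) (hF : Irreducible F)
    (hF0 : MvPolynomial.eval (fun _ => (0 : k)) F ≠ 0) : (phi F).IsPrimitive := by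
  rw [Polynomial.isPrimitive_iff_isUnit_of_C_dvd]
  intro c hc
  obtain ⟨G', hG'⟩ := hc
  have hirr := irreducible_phi F hF hF0
  rcases hirr.isUnit_or_isUnit hG' with hu | hu
  · exact Polynomial.isUnit_C.mp hu
  · exfalso
    obtain ⟨u, hu, rfl⟩ := Polynomial.isUnit_iff.mp hu
    rw [← Polynomial.C_mul] at hG'
    have h0 : (phi F).coeff 0 = c * u := by rw [hG', Polynomial.coeff_C_zero]
    rw [coeff_zero_phi] at h0
    have hF' : F = c * u := by
      have := congrArg psi hG'
      rw [psi_phi] at this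
      rw [this]
      simp [psi]
    apply hF.not_isUnit
    rw [hF', ← h0]
    exact (isUnit_iff_ne_zero.mpr hF0).map MvPolynomial.C

theorem main (k : Type u) [Field k] (r : ℕ)
    (F : MvPolynomial (Fin r) k) (hF : Irreducible F)
    (hF0 : MvPolynomial.eval (fun _ => (0 : k)) F ≠ 0) :
    Irreducible ((MvPolynomial.eval₂ (Polynomial.C.comp MvPolynomial.C)
        (fun j => Polynomial.C (MvPolynomial.X j) * Polynomial.X) F).map
      (algebraMap (MvPolynomial (Fin r) k) (FractionRing (MvPolynomial (Fin r) k)))) := by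
  have h1 := irreducible_phi F hF hF0
  have h2 := isPrimitive_phi F hF hF0
  exact (h2.irreducible_iff_irreducible_map_fraction_map).mp h1

end Groth.Agent.H9.IRS
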