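import Mathlib

/-! Helper9: gluing idempotent localizations (S9303) -/

universe u

namespace Groth.Agent.H9.IdemGlue

section abstract

lemma tower_apply {A : Type*} [CommRing A] (B : Type*) [CommRing B] [Algebra A B]
    (S : Type*) [CommRing S] [Algebra A S] (T : Type*) [CommRing T] [Algebra S T]
    [Algebra A T] [IsScalarTower A S T] [Algebra B T] [IsScalarTower A B T] (a : A) :
    algebraMap B T (algebraMap A B a) = algebraMap S T (algebraMap A S a) := by
  rw [← IsScalarTower.algebraMap_apply A B T, IsScalarTower.algebraMap_apply A S T]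

lemma map_eq_zero_iff' {A : Type*} [CommRing A] (f : A)
    (S : Type*) [CommRing S] [Algebra A S] (T : Type*) [CommRing T] [Algebra S T]
    [IsLocalization (Algebra.algebraMapSubmonoid S (Submonoid.powers f)) T] (s : S) :
    algebraMap S T s = 0 ↔ ∃ n : ℕ, algebraMap A S (f ^ n) * s = 0 := by
  rw [IsLocalization.map_eq_zero_iff (Algebra.algebraMapSubmonoid S (Submonoid.powers f)) T s]
  constructor
  · rintro ⟨⟨m, hm⟩, h⟩
    obtain ⟨_, ⟨n, rfl⟩, rfl⟩ := hm
    exact ⟨n, h⟩
  · rintro ⟨n, h⟩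
    exact ⟨⟨algebraMap A S (f ^ n),
      Algebra.mem_algebraMapSubmonoid_of_mem (⟨f ^ n, ⟨n, rfl⟩⟩ : Submonoid.powers f)⟩, h⟩

lemma isUnit_pow_B {A : Type*} [CommRing A] (f : A)
    (B : Type*) [CommRing B] [Algebra A B] [IsLocalization.Away f B] (n : ℕ) :
    IsUnit (algebraMap A B (f ^ n)) := by
  rw [map_pow]
  exact (IsLocalization.Away.algebraMap_isUnit f).pow n

lemma isUnit_pow_T {A : Type*} [CommRing A] (f : A)
    (S : Type*) [CommRing S] [Algebra A S] (T : Type*) [CommRing T] [Algebra S T]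
    [IsLocalization (Algebra.algebraMapSubmonoid S (Submonoid.powers f)) T]
    [Algebra A T] [IsScalarTower A S T] (n : ℕ) : IsUnit (algebraMap A T (f ^ n)) := by
  rw [IsScalarTower.algebraMap_apply A S T]
  exact IsLocalization.map_units T (⟨algebraMap A S (f ^ n),
    Algebra.mem_algebraMapSubmonoid_of_mem (⟨f ^ n, ⟨n, rfl⟩⟩ : Submonoid.powers f)⟩ :
      Algebra.algebraMapSubmonoid S (Submonoid.powers f))

lemma exists_rep_B {A : Type*} [CommRing A] (f : A)
    (B : Type*) [CommRing B] [Algebra A B] [IsLocalization.Away f B] (x : B) :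
    ∃ (a : A) (m : ℕ), x * algebraMap A B (f ^ m) = algebraMap A B a := by
  obtain ⟨⟨a, ⟨_, m, rfl⟩⟩, h⟩ := IsLocalization.surj (Submonoid.powers f) x
  exact ⟨a, m, h⟩

lemma exists_rep_T {A : Type*} [CommRing A] (f : A)
    (S : Type*) [CommRing S] [Algebra A S] (T : Type*) [CommRing T] [Algebra S T]
    [IsLocalization (Algebra.algebraMapSubmonoid S (Submonoid.powers f)) T]
    [Algebra A T] [IsScalarTower A S T] (t : T) :
    ∃ (s : S) (m : ℕ), t * algebraMap A T (f ^ m) = algebraMap S T s := by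
  obtain ⟨⟨s, ⟨_, ⟨_, ⟨m, rfl⟩, rfl⟩⟩⟩, h⟩ :=
    IsLocalization.surj (Algebra.algebraMapSubmonoid S (Submonoid.powers f)) t
  refine ⟨s, m, ?_⟩
  rw [IsScalarTower.algebraMap_apply A S T]
  exact h

lemma map_A_eq_zero_iff {A : Type*} [CommRing A] (f : A)
    (B : Type*) [CommRing B] [Algebra A B] [IsLocalization.Away f B] (a : A) :
    algebraMap A B a = 0 ↔ ∃ n : ℕ, f ^ n * a = 0 := by
  rw [IsLocalization.map_eq_zero_iff (Submonoid.powers f) B a]
  constructor
  · rintro ⟨⟨_, ⟨n, rfl⟩⟩, h⟩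
    exact ⟨n, h⟩
  · rintro ⟨n, h⟩
    exact ⟨⟨f ^ n, ⟨n, rfl⟩⟩, h⟩

end abstract

/-- facts about `e` at the level of `B = A_f` -/
structure FData {A : Type*} [CommRing A] (C : Type*) [CommRing C] [Algebra A C] (f : A)
    (B : Type*) [CommRing B] [Algebra A B] (e : B) : Prop where
  idem : IsIdempotentElem e
  G1 : ∃ j ∈ RingHom.ker (algebraMap A C), ∃ m : ℕ,
    (1 - e) * algebraMap A B (f ^ m) = algebraMap A B j
  G2 : ∀ j ∈ RingHom.ker (algebraMap A C), e * algebraMap A B j = 0
  surjC : ∀ c : C, ∃ (y : B) (a₁ : A) (l n₁ : ℕ), y * algebraMap A B (f ^ l) = algebraMap A B a₁ ∧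
    algebraMap A C (f ^ n₁) * (algebraMap A C a₁ - c * algebraMap A C (f ^ l)) = 0

theorem FData_of {A : Type*} [CommRing A] {C : Type*} [CommRing C] [Algebra A C] (f : A)
    (B : Type*) [CommRing B] [Algebra A B] [IsLocalization.Away f B]
    (T : Type*) [CommRing T] [Algebra C T]
    [IsLocalization (Algebra.algebraMapSubmonoid C (Submonoid.powers f)) T]
    [Algebra A T] [IsScalarTower A C T] [Algebra B T] [IsScalarTower A B T]
    (e : B) (he : IsIdempotentElem e) [hloc : IsLocalization.Away e T] : FData C f B e := by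
  have F0 : algebraMap B T e = 1 := by
    have hu : IsUnit (algebraMap B T e) := IsLocalization.Away.algebraMap_isUnit e
    have hi : IsIdempotentElem (algebraMap B T e) := he.map (algebraMap B T)
    exact (IsIdempotentElem.iff_eq_one_of_isUnit hu).mp hi
  have F1 : ∀ x : B, algebraMap B T x = 0 → e * x = 0 := by
    intro x h
    rw [IsLocalization.map_eq_zero_iff (Submonoid.powers e) T x] at h
    obtain ⟨⟨_, ⟨n, rfl⟩⟩, h⟩ := h
    rcases n with _ | n
    · simp only [pow_zero, one_mul] at h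
      rw [h, mul_zero]
    · simp only at h
      rwa [he.pow_succ_eq] at h
  have F2 : ∀ t : T, ∃ x : B, algebraMap B T x = t := by
    intro t
    obtain ⟨⟨x, ⟨_, n, rfl⟩⟩, h⟩ := IsLocalization.surj (Submonoid.powers e) t
    refine ⟨x, ?_⟩
    simp only [map_pow] at h
    rw [F0, one_pow, mul_one] at h
    exact h.symm
  refine ⟨he, ?_, ?_, ?_⟩
  · obtain ⟨a, m, ha⟩ := exists_rep_B f B (1 - e)
    have h0 : algebraMap B T (algebraMap A B a) = 0 := by
      rw [← ha, map_mul, map_sub, map_one, F0, sub_self, zero_mul]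
    rw [tower_apply B C T, map_eq_zero_iff' f C T] at h0
    obtain ⟨n, hn⟩ := h0
    refine ⟨f ^ n * a, ?_, m + n, ?_⟩
    · rw [RingHom.mem_ker, map_mul]; exact hn
    · rw [pow_add, map_mul, ← mul_assoc, ha, map_mul]; ring
  · intro j hj
    apply F1
    rw [tower_apply B C T, (RingHom.mem_ker).mp hj, map_zero]
  · intro c
    obtain ⟨y, hy⟩ := F2 (algebraMap C T c)
    obtain ⟨a₁, l, ha₁⟩ := exists_rep_B f B y
    have hrel : algebraMap C T (algebraMap A C a₁ - c * algebraMap A C (f ^ l)) = 0 := by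
      rw [map_sub, map_mul, ← tower_apply B C T, ← tower_apply B C T, ← ha₁, map_mul, hy]
      ring
    obtain ⟨n₁, hn₁⟩ := (map_eq_zero_iff' f C T _).mp hrel
    exact ⟨y, a₁, l, n₁, ha₁, hn₁⟩

/-- local generator property -/
def LG {A : Type*} [CommRing A] (C : Type*) [CommRing C] [Algebra A C] (g : A) : Prop :=
  ∃ jg ∈ RingHom.ker (algebraMap A C), ∃ mg : ℕ,
    ∀ j' ∈ RingHom.ker (algebraMap A C), ∃ l : ℕ, g ^ l * (j' * g ^ mg - j' * jg) = 0

lemma LG_of {A : Type*} [CommRing A] {C : Type*} [CommRing C] [Algebra A C] (f : A)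
    (B : Type*) [CommRing B] [Algebra A B] [IsLocalization.Away f B] (e : B)
    (hd : FData C f B e) : LG C f := by
  obtain ⟨jg, hjg, mg, h1⟩ := hd.G1
  refine ⟨jg, hjg, mg, fun j' hj' => ?_⟩
  have h2 := hd.G2 j' hj'
  rw [← map_A_eq_zero_iff f B]
  rw [map_sub, map_mul, map_mul, ← h1]
  linear_combination (algebraMap A B (f ^ mg)) * h2

/-- the ideal K -/
def Kideal (A : Type*) [CommRing A] (C : Type*) [CommRing C] [Algebra A C] (I : Ideal A) :
    Ideal A where
  carrier := {a | ∀ j ∈ RingHom.ker (algebraMap A C), ∀ g ∈ I, ∃ n : ℕ, g ^ n * a * j = 0}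
  zero_mem' := by
    intro j _ g _
    exact ⟨0, by simp⟩
  add_mem' := by
    intro a b ha hb j hj g hg
    obtain ⟨n1, h1⟩ := ha j hj g hg
    obtain ⟨n2, h2⟩ := hb j hj g hg
    refine ⟨n1 + n2, ?_⟩
    rw [pow_add]
    linear_combination (g ^ n2) * h1 + (g ^ n1) * h2
  smul_mem' := by
    intro c a ha j hj g hg
    obtain ⟨n, h⟩ := ha j hj g hg
    refine ⟨n, ?_⟩
    rw [smul_eq_mul]
    linear_combination c * h

lemma mem_Kideal {A : Type*} [CommRing A] {C : Type*} [CommRing C] [Algebra A C] {I : Ideal A}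
    {a : A} : a ∈ Kideal A C I ↔
    ∀ j ∈ RingHom.ker (algebraMap A C), ∀ g ∈ I, ∃ n : ℕ, g ^ n * a * j = 0 := Iff.rfl

/-- annihilator ideal of an element -/
def annIdeal {A : Type*} [CommRing A] (y : A) : Ideal A := LinearMap.ker (LinearMap.mulRight A y)

lemma mem_annIdeal {A : Type*} [CommRing A] {x y : A} : x ∈ annIdeal y ↔ x * y = 0 := by
  simp [annIdeal, LinearMap.mem_ker]

lemma exists_uniform {A : Type*} (s : Finset A) (P : A → ℕ → Prop)
    (mono : ∀ g n n', n ≤ n' → P g n → P g n') (h : ∀ g ∈ s, ∃ n, P g n) :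
    ∃ N, ∀ g ∈ s, P g N := by
  classical
  induction s using Finset.induction_on with
  | empty => exact ⟨0, by simp⟩
  | insert a s _ ih =>
    obtain ⟨N1, h1⟩ := ih (fun g hg => h g (Finset.mem_insert_of_mem hg))
    obtain ⟨N2, h2⟩ := h a (Finset.mem_insert_self a s)
    refine ⟨max N1 N2, fun g hg => ?_⟩
    rcases Finset.mem_insert.mp hg with rfl | hg
    · exact mono _ _ _ (le_max_right _ _) h2
    · exact mono _ _ _ (le_max_left _ _) (h1 g hg)

lemma H1 {A : Type*} [CommRing A] {C : Type*} [CommRing C] [Algebra A C] {I : Ideal A} (f : A)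
    (B : Type*) [CommRing B] [Algebra A B] [IsLocalization.Away f B] (e : B)
    (hd : FData C f B e) (hf : f ∈ I) (a : A) (ha : a ∈ Kideal A C I) :
    (1 - e) * algebraMap A B a = 0 := by
  obtain ⟨j, hj, m, h1⟩ := hd.G1
  obtain ⟨n, hn⟩ := ha j hj f hf
  have hu := isUnit_pow_B f B (m + n)
  apply hu.mul_left_cancel
  rw [mul_zero]
  have : algebraMap A B (f ^ (m + n)) * ((1 - e) * algebraMap A B a) =
      algebraMap A B (f ^ n * a * j) := by
    rw [pow_add, map_mul, map_mul, map_mul, ← h1]; ring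
  rw [this, hn, map_zero]

lemma H2 {A : Type*} [CommRing A] {C : Type*} [CommRing C] [Algebra A C] {I : Ideal A} (f : A)
    (B : Type*) [CommRing B] [Algebra A B] [IsLocalization.Away f B] (e : B)
    (hd : FData C f B e)
    (s : Finset A) (hs : Ideal.span (s : Set A) = I) (hLG : ∀ g ∈ s, LG C g) :
    ∃ a ∈ Kideal A C I, ∃ N : ℕ, e * algebraMap A B (f ^ N) = algebraMap A B a := by
  obtain ⟨b, m, hb⟩ := exists_rep_B f B e
  let P : A → ℕ → Prop := fun g n => ∃ jg ∈ RingHom.ker (algebraMap A C), ∃ mg : ℕ,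
    (∀ j' ∈ RingHom.ker (algebraMap A C), ∃ l : ℕ, g ^ l * (j' * g ^ mg - j' * jg) = 0) ∧
      f ^ n * b * jg = 0
  have hmono : ∀ g n n', n ≤ n' → P g n → P g n' := by
    rintro g n n' hnn' ⟨jg, hjg, mg, h1, h2⟩
    refine ⟨jg, hjg, mg, h1, ?_⟩
    obtain ⟨d, rfl⟩ := Nat.exists_eq_add_of_le hnn'
    rw [pow_add]
    linear_combination (f ^ d) * h2
  have hex : ∀ g ∈ s, ∃ n, P g n := by
    intro g hg
    obtain ⟨jg, hjg, mg, h1⟩ := hLG g hg
    have h2 := hd.G2 jg hjg
    have h3 : algebraMap A B (b * jg) = 0 := by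
      rw [map_mul, ← hb]
      linear_combination (algebraMap A B (f ^ m)) * h2
    obtain ⟨n, hn⟩ := (map_A_eq_zero_iff f B _).mp h3
    exact ⟨n, jg, hjg, mg, h1, by rw [mul_assoc]; exact hn⟩
  obtain ⟨N, hN⟩ := exists_uniform s P hmono hex
  refine ⟨f ^ N * b, ?_, m + N, ?_⟩
  · rw [mem_Kideal]
    intro j hj g' hg'
    have hrad : I ≤ (annIdeal (f ^ N * b * j)).radical := by
      rw [← hs, Ideal.span_le]
      intro g hg
      obtain ⟨jg, hjg, mg, h1, h2⟩ := hN g hg
      obtain ⟨l, hl⟩ := h1 j hj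
      refine ⟨l + mg, ?_⟩
      rw [mem_annIdeal]
      rw [pow_add]
      linear_combination (f ^ N * b) * hl + (g ^ l * j) * h2
    obtain ⟨n, hn⟩ := hrad hg'
    rw [mem_annIdeal] at hn
    exact ⟨n, by rw [mul_assoc]; exact hn⟩
  · rw [pow_add, map_mul, ← mul_assoc, hb, map_mul]; ring

theorem bijective_of {A : Type*} [CommRing A] {C : Type*} [CommRing C] [Algebra A C]
    {I : Ideal A} (f : A)
    (B : Type*) [CommRing B] [Algebra A B] [IsLocalization.Away f B] (e : B)
    (hd : FData C f B e)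
    (TP : Type*) [CommRing TP] [Algebra (C × (A ⧸ Kideal A C I)) TP]
    [IsLocalization (Algebra.algebraMapSubmonoid (C × (A ⧸ Kideal A C I)) (Submonoid.powers f)) TP]
    [Algebra A TP] [IsScalarTower A (C × (A ⧸ Kideal A C I)) TP] [Algebra B TP]
    [IsScalarTower A B TP]
    (hf : f ∈ I)
    (hH2 : ∃ a ∈ Kideal A C I, ∃ N : ℕ, e * algebraMap A B (f ^ N) = algebraMap A B a) :
    Function.Bijective (algebraMap B TP) := by
  have hH1 := fun a ha => H1 (I := I) f B e hd hf a ha
  have hAP : ∀ a : A, algebraMap A (C × (A ⧸ Kideal A C I)) a =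
      (algebraMap A C a, Ideal.Quotient.mk _ a) := fun a => rfl
  constructor
  · rw [injective_iff_map_eq_zero]
    intro x hx
    obtain ⟨a, m, ha⟩ := exists_rep_B f B x
    have h0 : algebraMap B TP (algebraMap A B a) = 0 := by
      rw [← ha, map_mul, hx, zero_mul]
    rw [tower_apply B (C × (A ⧸ Kideal A C I)) TP,
      map_eq_zero_iff' f (C × (A ⧸ Kideal A C I)) TP] at h0
    obtain ⟨n, hn⟩ := h0
    rw [← map_mul, hAP, Prod.mk_eq_zero] at hn
    obtain ⟨hn1, hn2⟩ := hn
    have hJ : f ^ n * a ∈ RingHom.ker (algebraMap A C) := hn1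
    have hK : f ^ n * a ∈ Kideal A C I := Ideal.Quotient.eq_zero_iff_mem.mp hn2
    have h1 := hd.G2 _ hJ
    have h2 := hH1 _ hK
    have h3 : algebraMap A B (f ^ n * a) = 0 := by
      linear_combination h1 + h2
    have hu := isUnit_pow_B f B (m + n)
    apply hu.mul_left_cancel
    rw [mul_zero, pow_add, map_mul, mul_comm, ← mul_assoc, ha, ← map_mul, mul_comm a, h3]
  · -- the image of e
    obtain ⟨a, haK, N, ha⟩ := hH2
    obtain ⟨j, hj, m, hjm⟩ := hd.G1
    set E := algebraMap B TP e with hE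
    set ε₁ : TP := algebraMap (C × (A ⧸ Kideal A C I)) TP
      ((1 : C), (0 : A ⧸ Kideal A C I)) with hε₁
    set ε₂ : TP := algebraMap (C × (A ⧸ Kideal A C I)) TP
      ((0 : C), (1 : A ⧸ Kideal A C I)) with hε₂
    have hsum : ε₁ + ε₂ = 1 := by
      rw [hε₁, hε₂, ← map_add, Prod.mk_add_mk, add_zero, zero_add]
      exact map_one _
    have hEa : E * algebraMap A TP (f ^ N) =
        algebraMap (C × (A ⧸ Kideal A C I)) TP (algebraMap A C a, 0) := by
      rw [hE, IsScalarTower.algebraMap_apply A B TP, ← map_mul, ha,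
        tower_apply B (C × (A ⧸ Kideal A C I)) TP, hAP,
        Ideal.Quotient.eq_zero_iff_mem.mpr haK]
    have hEj : (1 - E) * algebraMap A TP (f ^ m) =
        algebraMap (C × (A ⧸ Kideal A C I)) TP (0, Ideal.Quotient.mk _ j) := by
      rw [hE, IsScalarTower.algebraMap_apply A B TP, ← map_one (algebraMap B TP), ← map_sub,
        ← map_mul, hjm, tower_apply B (C × (A ⧸ Kideal A C I)) TP, hAP,
        (RingHom.mem_ker).mp hj]
    have hE2 : E * ε₂ = 0 := by
      have hu := isUnit_pow_T f (C × (A ⧸ Kideal A C I)) TP N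
      apply hu.mul_left_cancel
      rw [mul_zero, ← mul_assoc, mul_comm _ E, hEa, hε₂, ← map_mul, Prod.mk_mul_mk, mul_zero,
        zero_mul, Prod.mk_zero_zero, map_zero]
    have hE1 : (1 - E) * ε₁ = 0 := by
      have hu := isUnit_pow_T f (C × (A ⧸ Kideal A C I)) TP m
      apply hu.mul_left_cancel
      rw [mul_zero, ← mul_assoc, mul_comm _ (1 - E), hEj, hε₁, ← map_mul, Prod.mk_mul_mk,
        mul_zero, zero_mul, Prod.mk_zero_zero, map_zero]
    have hEeq : E = ε₁ := by
      linear_combination hE2 - hE1 - E * hsum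
    intro t
    obtain ⟨⟨c, q⟩, m', ht⟩ := exists_rep_T f (C × (A ⧸ Kideal A C I)) TP t
    obtain ⟨a₂, rfl⟩ := Ideal.Quotient.mk_surjective q
    -- part from C
    obtain ⟨y, a₁, l, n₁, ha₁, hn₁⟩ := hd.surjC c
    have hpart1 : algebraMap B TP (e * y) =
        algebraMap (C × (A ⧸ Kideal A C I)) TP (c, 0) := by
      have hu := isUnit_pow_T f (C × (A ⧸ Kideal A C I)) TP l
      apply hu.mul_left_cancel
      have h1 : algebraMap A TP (f ^ l) * algebraMap B TP (e * y) =
          ε₁ * algebraMap (C × (A ⧸ Kideal A C I)) TP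
            (algebraMap A (C × (A ⧸ Kideal A C I)) a₁) := by
        rw [IsScalarTower.algebraMap_apply A B TP, ← map_mul, mul_comm, mul_assoc, ha₁, map_mul,
          ← hE, hEeq, tower_apply B (C × (A ⧸ Kideal A C I)) TP]
      have h2 : algebraMap A TP (f ^ l) * algebraMap (C × (A ⧸ Kideal A C I)) TP (c, 0) =
          algebraMap (C × (A ⧸ Kideal A C I)) TP (c * algebraMap A C (f ^ l), 0) := by
        rw [IsScalarTower.algebraMap_apply A (C × (A ⧸ Kideal A C I)) TP, ← map_mul, hAP,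
          Prod.mk_mul_mk, mul_zero, mul_comm]
      rw [h1, h2, hε₁, ← map_mul, hAP, Prod.mk_mul_mk, one_mul, zero_mul, ← sub_eq_zero,
        ← map_sub, Prod.mk_sub_mk, sub_zero, map_eq_zero_iff' f (C × (A ⧸ Kideal A C I)) TP]
      refine ⟨n₁, ?_⟩
      rw [hAP, Prod.mk_mul_mk, mul_zero, hn₁]
      rfl
    have hpart2 : algebraMap B TP ((1 - e) * algebraMap A B a₂) =
        algebraMap (C × (A ⧸ Kideal A C I)) TP (0, Ideal.Quotient.mk _ a₂) := by
      rw [map_mul, map_sub, map_one, ← hE, hEeq, tower_apply B (C × (A ⧸ Kideal A C I)) TP, hAP]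
      have : (1 : TP) - ε₁ = ε₂ := by linear_combination (-1 : TP) * hsum
      rw [this, hε₂, ← map_mul, Prod.mk_mul_mk, zero_mul, one_mul]
    obtain ⟨v, hv⟩ := (isUnit_pow_B f B m').exists_right_inv
    refine ⟨(e * y + (1 - e) * algebraMap A B a₂) * v, ?_⟩
    have hu := isUnit_pow_T f (C × (A ⧸ Kideal A C I)) TP m'
    apply hu.mul_right_cancel
    rw [ht, IsScalarTower.algebraMap_apply A B TP, ← map_mul, mul_assoc, mul_comm v, hv, mul_one,
      map_add, hpart1, hpart2, ← map_add, Prod.mk_add_mk, add_zero, zero_add]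

theorem main (A : Type u) [CommRing A]
    (I : Ideal A) (hI : I.FG) (C : Type u) [CommRing C] [Algebra A C]
    (h : ∀ f ∈ I, ∃ e : Localization.Away f, IsIdempotentElem e ∧
      IsLocalization.Away e (Localization (Algebra.algebraMapSubmonoid C (Submonoid.powers f)))) :
    ∃ K : Ideal A, ∀ f ∈ I, Function.Bijective
      (algebraMap (Localization.Away f)
        (Localization (Algebra.algebraMapSubmonoid (C × (A ⧸ K)) (Submonoid.powers f)))) := by
  refine ⟨Kideal A C I, fun f hf => ?_⟩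
  obtain ⟨s, hs⟩ := hI
  have hLG : ∀ g ∈ s, LG C g := by
    intro g hg
    have hgI : g ∈ I := by rw [← hs]; exact Ideal.subset_span hg
    obtain ⟨e, he, hloc⟩ := h g hgI
    exact LG_of g (Localization.Away g) e (FData_of (C := C) g (Localization.Away g)
      (Localization (Algebra.algebraMapSubmonoid C (Submonoid.powers g))) e he)
  obtain ⟨e, he, hloc⟩ := h f hf
  have hd := FData_of (C := C) f (Localization.Away f)
      (Localization (Algebra.algebraMapSubmonoid C (Submonoid.powers f))) e he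
  have hH2 := H2 (I := I) f (Localization.Away f) e hd s hs hLG
  exact bijective_of f (Localization.Away f) e hd _ hf hH2

end Groth.Agent.H9.IdemGlue
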