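import Mathlib
import Groth.Prelude.Def_SGA3
import Groth.Agent.Lib.Helper9.Misc.IdemT2
import Groth.Agent.Lib.Helper9.FF.FGSub

/-! Helper9: over an algebraically closed field the separable elements of a commutative Hopf
algebra form a sub-Hopf-algebra (`π₀`); intersections of sub-Hopf-algebras. -/

set_option autoImplicit false
set_option linter.style.haveILetI false

universe u v

open TensorProduct

namespace Groth.Agent.H9.IdemT

open Groth.Agent.H9

section Inf

variable {k : Type u} [Field k] {A : Type u} [CommRing A] [HopfAlgebra k A]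

lemma range_map_val_eq (B : Subalgebra k A) :
    LinearMap.range (TensorProduct.map B.val.toLinearMap B.val.toLinearMap) =
    LinearMap.range (TensorProduct.map (Subalgebra.toSubmodule B).subtype
      (Subalgebra.toSubmodule B).subtype) := by
  apply le_antisymm
  · let j : B →ₗ[k] Subalgebra.toSubmodule B := (Subalgebra.toSubmoduleEquiv B).symm.toLinearMap
    have hj : B.val.toLinearMap = (Subalgebra.toSubmodule B).subtype ∘ₗ j := by
      ext d
      rfl
    rw [hj, TensorProduct.map_comp]
    exact LinearMap.range_comp_le_range _ _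
  · exact FF.range_map_le le_rfl

/-- the intersection of two sub-Hopf-algebras is a sub-Hopf-algebra -/
theorem isHopfSubalgebra_inf {B C : Subalgebra k A} (hB : SGA3.IsHopfSubalgebra k A B)
    (hC : SGA3.IsHopfSubalgebra k A C) : SGA3.IsHopfSubalgebra k A (B ⊓ C) := by
  refine ⟨fun b hb => ?_, fun b hb => Algebra.mem_inf.mpr
    ⟨hB.2 b (Algebra.mem_inf.mp hb).1, hC.2 b (Algebra.mem_inf.mp hb).2⟩⟩
  have h1 := hB.1 b (Algebra.mem_inf.mp hb).1
  have h2 := hC.1 b (Algebra.mem_inf.mp hb).2
  rw [range_map_val_eq, Comod.mem_range_map_subtype_iff_slice] at h1 h2 ⊢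
  refine ⟨fun φ => ?_, fun ψ => ?_⟩
  · exact Algebra.mem_inf.mpr ⟨h1.1 φ, h2.1 φ⟩
  · exact Algebra.mem_inf.mpr ⟨h1.2 ψ, h2.2 ψ⟩

end Inf

section Sep

variable {k : Type u} [Field k] [IsAlgClosed k] {A : Type u} [CommRing A] [HopfAlgebra k A]

/-- comultiplication maps separable elements into `sep ⊗ sep` -/
theorem comul_mem_of_isSeparable (B₀ : Subalgebra k A) (hB₀ : ∀ a : A, a ∈ B₀ ↔ IsSeparable k a)
    {b : A} (hb : b ∈ B₀) :
    CoalgebraStruct.comul (R := k) b ∈
      LinearMap.range (TensorProduct.map B₀.val.toLinearMap B₀.val.toLinearMap) := by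
  have hle : idemSpan k A ≤ Subalgebra.toSubmodule B₀ := by
    show Submodule.span k _ ≤ _
    apply Submodule.span_le.mpr
    intro e he
    exact (hB₀ e).mpr (isSeparable_of_isIdempotentElem he)
  apply FF.range_map_le hle
  have hb' : b ∈ idemSpan k A := mem_idemSpan_of_isSeparable ((hB₀ b).mp hb)
  refine Submodule.span_induction (p := fun b _ => CoalgebraStruct.comul (R := k) b ∈
    LinearMap.range (TensorProduct.map (idemSpan k A).subtype (idemSpan k A).subtype))
    ?_ ?_ ?_ ?_ hb'
  · intro e he
    have h1 : IsIdempotentElem (Bialgebra.comulAlgHom k A e) := he.map _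
    exact mem_range_map _ h1
  · rw [map_zero]
    exact zero_mem _
  · intro x y _ _ hx hy
    rw [map_add]
    exact add_mem hx hy
  · intro c x _ hx
    rw [map_smul]
    exact Submodule.smul_mem _ c hx

/-- the separable elements form a sub-Hopf-algebra -/
theorem isHopfSubalgebra_sep (B₀ : Subalgebra k A) (hB₀ : ∀ a : A, a ∈ B₀ ↔ IsSeparable k a) :
    SGA3.IsHopfSubalgebra k A B₀ := by
  refine ⟨fun b hb => comul_mem_of_isSeparable B₀ hB₀ hb, fun b hb => ?_⟩
  have h1 := isSeparable_map (HopfAlgebra.antipodeAlgHom k A) ((hB₀ b).mp hb)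
  exact (hB₀ _).mpr h1

end Sep

end Groth.Agent.H9.IdemT
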