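import Mathlib

/-! Helper9: finite sets of points of a quasi-affine scheme lie in an affine open (S7389) -/

namespace Groth.Agent.H9.ImmAff

open AlgebraicGeometry CategoryTheory TopologicalSpace

universe u

/-- finitely many points of an open of an affine scheme lie in a basic open inside it -/
theorem exists_basicOpen {Y : Scheme.{u}} [IsAffine Y] (U : Y.Opens) (F : Finset Y)
    (hF : ∀ y ∈ F, y ∈ U) :
    ∃ f : Γ(Y, ⊤), Y.basicOpen f ≤ U ∧ ∀ y ∈ F, y ∈ Y.basicOpen f := by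
  classical
  have hY : IsAffineOpen (⊤ : Y.Opens) := isAffineOpen_top Y
  by_cases hne : F.Nonempty
  swap
  · refine ⟨0, ?_, ?_⟩
    · rw [Scheme.basicOpen_zero]; exact bot_le
    · intro y hy; exact absurd ⟨y, hy⟩ hne
  obtain ⟨y₀, hy₀⟩ := hne
  let T : Opens (PrimeSpectrum Γ(Y, ⊤)) := hY.fromSpec ⁻¹ᵁ U
  have hTo : IsOpen (T : Set (PrimeSpectrum Γ(Y, ⊤))) := T.2
  obtain ⟨s, hs⟩ := (PrimeSpectrum.isOpen_iff _).mp hTo
  let J : Ideal Γ(Y, ⊤) := Ideal.span s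
  have hJ : (T : Set (PrimeSpectrum Γ(Y, ⊤)))ᶜ = PrimeSpectrum.zeroLocus (J : Set Γ(Y, ⊤)) := by
    rw [hs, PrimeSpectrum.zeroLocus_span]
  let P : Y → Ideal Γ(Y, ⊤) := fun y => (hY.primeIdealOf ⟨y, trivial⟩).asIdeal
  have hP : ∀ y, hY.fromSpec (hY.primeIdealOf ⟨y, trivial⟩) = y := fun y =>
    hY.fromSpec_primeIdealOf ⟨y, trivial⟩
  have hnot : ¬ ((J : Set Γ(Y, ⊤)) ⊆ ⋃ y ∈ (↑F : Set Y), P y) := by
    rw [Ideal.subset_union_prime y₀ y₀ (fun y _ _ _ => (hY.primeIdealOf ⟨y, trivial⟩).isPrime)]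
    rintro ⟨y, hy, hle⟩
    have h1 : hY.primeIdealOf ⟨y, trivial⟩ ∈ PrimeSpectrum.zeroLocus (J : Set Γ(Y, ⊤)) := hle
    rw [← hJ] at h1
    apply h1
    show hY.fromSpec (hY.primeIdealOf ⟨y, trivial⟩) ∈ U
    rw [hP]; exact hF y hy
  rw [Set.not_subset] at hnot
  obtain ⟨f, hfJ, hf⟩ := hnot
  simp only [Set.mem_iUnion, not_exists] at hf
  refine ⟨f, ?_, ?_⟩
  · intro y hy
    have hy' : hY.primeIdealOf ⟨y, trivial⟩ ∈ hY.fromSpec ⁻¹ᵁ Y.basicOpen f := by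
      show hY.fromSpec (hY.primeIdealOf ⟨y, trivial⟩) ∈ Y.basicOpen f
      rw [hP]; exact hy
    rw [hY.fromSpec_preimage_basicOpen] at hy'
    have h2 : hY.primeIdealOf ⟨y, trivial⟩ ∈ (T : Set (PrimeSpectrum Γ(Y, ⊤))) := by
      by_contra hc
      have hc' : hY.primeIdealOf ⟨y, trivial⟩ ∈ (T : Set (PrimeSpectrum Γ(Y, ⊤)))ᶜ := hc
      rw [hJ] at hc'
      exact hy' (hc' hfJ)
    have h3 : hY.fromSpec (hY.primeIdealOf ⟨y, trivial⟩) ∈ U := h2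
    rwa [hP] at h3
  · intro y hy
    have h1 : hY.primeIdealOf ⟨y, trivial⟩ ∈ (PrimeSpectrum.basicOpen f : Opens _) := by
      show f ∉ P y
      exact hf y hy
    rw [← hY.fromSpec_preimage_basicOpen] at h1
    have h2 : hY.fromSpec (hY.primeIdealOf ⟨y, trivial⟩) ∈ Y.basicOpen f := h1
    rwa [hP] at h2

theorem main {X Y : Scheme.{u}} [IsAffine Y] (ι : X ⟶ Y)
    [IsImmersion ι] (E : Set X) (hE : E.Finite) :
    ∃ U : X.Opens, IsAffineOpen U ∧ E ⊆ U := by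
  classical
  let U := ι.coborderRange
  let g := ι.liftCoborder
  have hg : g ≫ U.ι = ι := ι.liftCoborder_ι
  have key : ∀ x : X, U.ι (g x) = ι x := fun x => congrArg (fun h : X ⟶ Y => h x) hg
  let F : Finset Y := hE.toFinset.image ι
  have hF : ∀ y ∈ F, y ∈ U := by
    intro y hy
    obtain ⟨x, _, rfl⟩ := Finset.mem_image.mp hy
    rw [← key x]
    exact (g x).2
  obtain ⟨f, hfU, hfF⟩ := exists_basicOpen U F hF
  have hW : IsAffineOpen (Y.basicOpen f) := (isAffineOpen_top Y).basicOpen f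
  have hW' : IsAffineOpen (U.ι ⁻¹ᵁ Y.basicOpen f) := hW.preimage_of_isOpenImmersion U.ι (by
    rw [Scheme.Opens.opensRange_ι]; exact hfU)
  refine ⟨g ⁻¹ᵁ (U.ι ⁻¹ᵁ Y.basicOpen f), hW'.preimage g, ?_⟩
  intro x hx
  show U.ι (g x) ∈ Y.basicOpen f
  rw [key x]
  apply hfF
  exact Finset.mem_image.mpr ⟨x, hE.mem_toFinset.mpr hx, rfl⟩

end Groth.Agent.H9.ImmAff
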