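import Mathlib
import Groth.Agent.Lib.Helper3.IndCof.IndCof5
import Groth.Agent.Lib.Helper5.Misc.IndCofML

/-!
# Ind-objects of cofinite type, general torsion case: divisibly ML criteria
-/

set_option autoImplicit false
set_option linter.style.haveILetI false

open CategoryTheory CategoryTheory.Limits

universe v u

namespace Groth.Agent.H9.IndCofG

open Groth.Agent.H3.IndCof

variable {𝒜 : Type u} [Category.{v} 𝒜] [Abelian 𝒜]

/-- the cokernel of the image subobject is the cokernel of the map -/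
noncomputable def cokerImageIso {X Y : 𝒜} (f : X ⟶ Y) :
    cokernel (imageSubobject f).arrow ≅ cokernel f :=
  (cokernelEpiComp (factorThruImageSubobject f) (imageSubobject f).arrow).symm ≪≫
    cokernelIsoOfEq (imageSubobject_arrow_comp f)

lemma epi_nsmul_of_primes (X : 𝒜) (h : ∀ p : ℕ, p.Prime → Epi (p • 𝟙 X)) :
    ∀ k : ℕ, 0 < k → Epi (k • 𝟙 X) := by
  intro k
  induction k using Nat.recOnMul with
  | zero => intro h0; exact absurd h0 (lt_irrefl 0)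
  | one => intro _; rw [one_smul]; infer_instance
  | prime p hp => intro _; exact h p hp
  | mul a b ha hb =>
    intro hab
    have ha0 : 0 < a := Nat.pos_of_ne_zero (fun h0 => by simp [h0] at hab)
    have hb0 : 0 < b := Nat.pos_of_ne_zero (fun h0 => by simp [h0] at hab)
    haveI := ha ha0
    haveI := hb hb0
    rw [H5IndCof.nsmul_id_mul]
    exact epi_comp _ _

lemma epi_nsmul_of_epi {A B : 𝒜} (e : A ⟶ B) [Epi e] (q : ℕ) (h : Epi (q • 𝟙 A)) :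
    Epi (q • 𝟙 B) := by
  have h1 : e ≫ (q • 𝟙 B) = (q • 𝟙 A) ≫ e := (H5IndCof.nsmul_id_comp q e).symm
  haveI : Epi (e ≫ (q • 𝟙 B)) := by rw [h1]; exact epi_comp _ _
  exact epi_of_epi e _

/-- if `B'` is divisible and `A/B'` is killed by `M`, multiplication by a number prime to `M`
is an epimorphism of `A` -/
lemma epi_of_coprime {A : 𝒜} (B' : Subobject A) (p M : ℕ) (hp : Epi (p • 𝟙 (B' : 𝒜)))
    (hM : M • 𝟙 (cokernel B'.arrow) = 0) (hc : Nat.Coprime p M) : Epi (p • 𝟙 A) := by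
  obtain ⟨ℓ, hℓ⟩ := H5IndCof.exists_lift_of_killed B' M hM
  obtain ⟨a, b, hab⟩ : ∃ a b : ℤ, a * (p : ℤ) + b * (M : ℤ) = 1 :=
    (Nat.isCoprime_iff_coprime.2 hc)
  rw [epi_iff_surjective_up_to_refinements]
  intro T x
  obtain ⟨T', π, hπ, y', hy'⟩ := surjective_up_to_refinements_of_epi (p • 𝟙 (B' : 𝒜)) (x ≫ ℓ)
  have h1 : M • (π ≫ x) = p • (y' ≫ B'.arrow) := by
    calc M • (π ≫ x) = (π ≫ x) ≫ (M • 𝟙 A) := (comp_nsmul_id _ _).symm
      _ = (π ≫ x ≫ ℓ) ≫ B'.arrow := by rw [← hℓ]; simp only [Category.assoc]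
      _ = (y' ≫ (p • 𝟙 (B' : 𝒜))) ≫ B'.arrow := by rw [hy']
      _ = p • (y' ≫ B'.arrow) := by rw [comp_nsmul_id, Preadditive.nsmul_comp]
  refine ⟨T', π, hπ, a • (π ≫ x) + b • (y' ≫ B'.arrow), ?_⟩
  rw [comp_nsmul_id, smul_add, smul_comm p a, smul_comm p b, ← h1]
  have h2 : (p : ℤ) • (π ≫ x) = p • (π ≫ x) := natCast_zsmul _ _
  have h3 : (M : ℤ) • (π ≫ x) = M • (π ≫ x) := natCast_zsmul _ _
  rw [← h2, ← h3, ← mul_smul, ← mul_smul, ← add_smul, hab, one_smul]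

variable {Cc : ObjectProperty 𝒜} (hS : Setup Cc)

include hS in
/-- (ii) with "killed by an integer" versus (ii) with "lies in `Cc`" -/
theorem killed_iff_Cc {A : 𝒜} (hA : CofType Cc A)
    (hCtor : ∀ X : 𝒜, Cc X → ∃ n : ℕ, 0 < n ∧ n • 𝟙 X = 0) :
    (∃ B' : Subobject A, (∀ k : ℕ, 0 < k → Epi (k • 𝟙 (B' : 𝒜))) ∧
        ∃ M : ℕ, 0 < M ∧ M • 𝟙 (cokernel B'.arrow) = 0) ↔
    (∃ B' : Subobject A, (∀ k : ℕ, 0 < k → Epi (k • 𝟙 (B' : 𝒜))) ∧ Cc (cokernel B'.arrow)) := by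
  constructor
  · rintro ⟨B', hdiv, M, hM0, hM⟩
    refine ⟨B', hdiv, ?_⟩
    have h1 : imageSubobject (M • 𝟙 A) = B' :=
      H5IndCof.image_eq B' hdiv M hM M hM0 dvd_rfl
    subst h1
    exact hS.of_iso (cokerImageIso _).symm (Cc_cokernel_nsmul hS hA M hM0)
  · rintro ⟨B', hdiv, hC⟩
    exact ⟨B', hdiv, hCtor _ hC⟩

/-- (ii) implies (iii) -/
theorem finite_of_killed {A : 𝒜} (B' : Subobject A)
    (hdiv : ∀ k : ℕ, 0 < k → Epi (k • 𝟙 (B' : 𝒜))) (M : ℕ) (hM0 : 0 < M)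
    (hM : M • 𝟙 (cokernel B'.arrow) = 0) :
    {p : ℕ | p.Prime ∧ ¬ Epi (p • 𝟙 A)}.Finite := by
  refine Set.Finite.subset (Set.finite_le_nat M) ?_
  rintro p ⟨hp, hne⟩
  have hd : p ∣ M := by
    by_contra hnd
    exact hne (epi_of_coprime B' p M (hdiv p hp.pos) hM ((Nat.Prime.coprime_iff_not_dvd hp).2 hnd))
  exact Nat.le_of_dvd hM0 hd

include hS in
/-- (iii) implies (ii) -/
theorem exists_of_finite {A : 𝒜} (hA : CofType Cc A)
    (hfin : {p : ℕ | p.Prime ∧ ¬ Epi (p • 𝟙 A)}.Finite) :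
    ∃ B' : Subobject A, (∀ k : ℕ, 0 < k → Epi (k • 𝟙 (B' : 𝒜))) ∧ Cc (cokernel B'.arrow) := by
  set P : ℕ := ∏ p ∈ hfin.toFinset, p with hP
  have hP0 : 0 < P := Finset.prod_pos (fun p hp => by
    rw [Set.Finite.mem_toFinset] at hp
    exact hp.1.pos)
  obtain ⟨M, hM0, hM⟩ := exists_decomp hS hA P hP0
  refine ⟨imageSubobject (M • 𝟙 A), ?_, hS.of_iso (cokerImageIso _).symm
    (Cc_cokernel_nsmul hS hA M hM0)⟩
  set B' := imageSubobject (M • 𝟙 A) with hB'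
  set e : A ⟶ (B' : 𝒜) := factorThruImageSubobject (M • 𝟙 A) with he
  have hea : e ≫ B'.arrow = M • 𝟙 A := imageSubobject_arrow_comp _
  have hPepi : Epi (P • 𝟙 (B' : 𝒜)) := by
    rw [epi_iff_surjective_up_to_refinements]
    intro T x
    obtain ⟨T₁, π₁, hπ₁, z, hz⟩ := surjective_up_to_refinements_of_epi e x
    obtain ⟨T₂, π₂, hπ₂, a, b, ha, hab⟩ := hM z
    refine ⟨T₂, π₂ ≫ π₁, epi_comp _ _, b ≫ e, ?_⟩
    have h0 : a ≫ e = 0 := by
      rw [← cancel_mono B'.arrow, Category.assoc, hea, comp_nsmul_id, ha, zero_comp]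
    rw [Category.assoc, hz, ← Category.assoc, hab, Preadditive.add_comp, h0, zero_add,
      comp_nsmul_id, Preadditive.nsmul_comp]
  apply epi_nsmul_of_primes
  intro q hq
  by_cases hqe : Epi (q • 𝟙 A)
  · exact epi_nsmul_of_epi e q hqe
  · have hqP : q ∣ P := Finset.dvd_prod_of_mem _ (by
      rw [Set.Finite.mem_toFinset]; exact ⟨hq, hqe⟩)
    obtain ⟨c, hc⟩ := hqP
    have h1 : (P • 𝟙 (B' : 𝒜)) = (c • 𝟙 (B' : 𝒜)) ≫ (q • 𝟙 (B' : 𝒜)) := by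
      rw [← H5IndCof.nsmul_id_mul, hc, mul_comm]
    haveI : Epi ((c • 𝟙 (B' : 𝒜)) ≫ (q • 𝟙 (B' : 𝒜))) := by rw [← h1]; exact hPepi
    exact epi_of_epi (c • 𝟙 (B' : 𝒜)) _

section ind

variable {C : Type v} [SmallCategory C] [Abelian C]

lemma Cc_torG (htor : ∀ X : C, ∃ n : ℕ, 0 < n ∧ n • 𝟙 X = 0) (X : Ind C) (hX : Groth.Agent.H3.IndCof.Cc C X) :
    ∃ k : ℕ, 0 < k ∧ k • 𝟙 X = 0 := by
  obtain ⟨k, hk0, hk⟩ := htor hX.witness
  refine ⟨k, hk0, ?_⟩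
  have h1 : k • 𝟙 (Ind.yoneda.obj hX.witness) = 0 := by
    rw [← Ind.yoneda.map_id, ← Functor.map_nsmul, hk, Functor.map_zero]
  have h2 : 𝟙 X = hX.getIso.inv ≫ 𝟙 (Ind.yoneda.obj hX.witness) ≫ hX.getIso.hom := by simp
  rw [h2, ← Preadditive.comp_nsmul, ← Preadditive.nsmul_comp, h1, zero_comp, comp_zero]

end ind

end Groth.Agent.H9.IndCofG
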