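import Mathlib
import Groth.Agent.Lib.Helper3.IndCof.IndCof5

/-!
# Ind-objects of cofinite type, general torsion case: the largest divisible sub-object
-/

set_option autoImplicit false
set_option linter.style.haveILetI false

open CategoryTheory CategoryTheory.Limits

universe v u

namespace Groth.Agent.H9.IndCofG

open Groth.Agent.H3.IndCof

variable {𝒜 : Type u} [Category.{v} 𝒜] [Abelian 𝒜] {Cc : ObjectProperty 𝒜} (hS : Setup Cc)

include hS in
lemma exists_stab' {A : 𝒜} (hA : CofType Cc A) (n : ℕ) (hn : 0 < n) :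
    ∃ c, 0 < c ∧ ∀ t, 0 < t → Dsub A n c ≤ Dsub A n (c * t) := by
  have hanti : Antitone (fun j : ℕ => Dsub A n (j.factorial)) :=
    antitone_nat_of_succ_le (fun j =>
      Dsub_le_of_dvd n (Nat.factorial_dvd_factorial (Nat.le_succ j)))
  have hCc : ∀ j : ℕ, Cc ((Dsub A n j.factorial : Subobject _) : 𝒜) := fun j =>
    hS.image _ (hA _ (Nat.mul_pos (Nat.factorial_pos j) hn)) (hA n hn)
  obtain ⟨j₀, hj₀⟩ := hS.art _ (hA n hn) _ hanti hCc
  refine ⟨j₀.factorial, Nat.factorial_pos _, fun t ht => ?_⟩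
  have h1 : Dsub A n (max j₀ (j₀.factorial * t)).factorial = Dsub A n j₀.factorial :=
    hj₀ _ (le_max_left _ _)
  rw [← h1]
  exact Dsub_le_of_dvd n (Nat.dvd_factorial (Nat.mul_pos (Nat.factorial_pos _) ht)
    (le_max_right _ _))

/-- the image of `c : A[c n] → A[n]` as a subobject of `A` -/
noncomputable def DA (A : 𝒜) (n c : ℕ) : Subobject A :=
  Subobject.mk ((Dsub A n c).arrow ≫ torι A n)

lemma DA_factors {A : 𝒜} (n c : ℕ) {T T' : 𝒜} (x : T ⟶ A) (π : T' ⟶ T) [Epi π] (y : T' ⟶ A)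
    (hy : (c * n) • y = 0) (h : π ≫ x = c • y) :
    ∃ x' : T ⟶ (DA A n c : 𝒜), x' ≫ (DA A n c).arrow = x := by
  refine factors_of_epi_comp π (DA A n c).arrow x
    (torLift (c * n) y hy ≫ factorThruImageSubobject (mulTor A c n) ≫
      (Subobject.underlyingIso ((Dsub A n c).arrow ≫ torι A n)).inv) ?_
  rw [h]
  simp only [DA, Dsub, Category.assoc, Subobject.underlyingIso_arrow,
    imageSubobject_arrow_comp_assoc, mulTor_ι, Preadditive.comp_nsmul, torLift_ι]

lemma DA_exists {A : 𝒜} (n c : ℕ) {T : 𝒜} (x' : T ⟶ (DA A n c : 𝒜)) :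
    ∃ (T' : 𝒜) (π : T' ⟶ T) (_ : Epi π) (y : T' ⟶ A), (c * n) • y = 0 ∧
      π ≫ x' ≫ (DA A n c).arrow = c • y := by
  obtain ⟨T', π, hπ, y', hy'⟩ := surjective_up_to_refinements_of_epi
    (factorThruImageSubobject (mulTor A c n)) (x' ≫ (Subobject.underlyingIso ((Dsub A n c).arrow ≫ torι A n)).hom)
  refine ⟨T', π, hπ, y' ≫ torι A (c * n), nsmul_comp_torι _ _, ?_⟩
  have h1 := congrArg (fun f => f ≫ (Dsub A n c).arrow ≫ torι A n) hy'
  simp only [Dsub, Category.assoc, imageSubobject_arrow_comp_assoc, mulTor_ι,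
    Preadditive.comp_nsmul] at h1
  rw [← h1]
  simp only [DA, Dsub, Subobject.underlyingIso_hom_comp_eq_mk]

lemma nsmul_DA_arrow (A : 𝒜) (n c : ℕ) : n • (DA A n c).arrow = 0 := by
  unfold DA
  rw [← Subobject.underlyingIso_hom_comp_eq_mk, ← Preadditive.comp_nsmul,
    ← Preadditive.comp_nsmul, nsmul_torι, comp_zero, comp_zero]

include hS in
lemma Cc_DA {A : 𝒜} (hA : CofType Cc A) (n c : ℕ) (hn : 0 < n) (hc : 0 < c) :
    Cc (DA A n c : 𝒜) :=
  hS.of_iso (Subobject.underlyingIso ((Dsub A n c).arrow ≫ torι A n)).symm (hS.image _ (hA _ (Nat.mul_pos hc hn)) (hA n hn))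

/-- a torsion element of a divisible sub-object lies in the stable image -/
lemma factors_DA_of_divisible {A : 𝒜} (D' : Subobject A)
    (hdiv : ∀ k : ℕ, 0 < k → Epi (k • 𝟙 (D' : 𝒜))) (n c : ℕ) (hc : 0 < c) {T : 𝒜}
    (x : T ⟶ (D' : 𝒜)) (hx : n • x = 0) :
    ∃ x' : T ⟶ (DA A n c : 𝒜), x' ≫ (DA A n c).arrow = x ≫ D'.arrow := by
  haveI := hdiv c hc
  obtain ⟨T', π, hπ, y, hy⟩ := surjective_up_to_refinements_of_epi (c • 𝟙 (D' : 𝒜)) x
  rw [comp_nsmul_id] at hy
  refine DA_factors n c (x ≫ D'.arrow) π (y ≫ D'.arrow) ?_ ?_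
  · rw [← Preadditive.nsmul_comp, mul_comm, mul_smul, ← hy, ← Preadditive.comp_nsmul, hx,
      comp_zero, zero_comp]
  · rw [← Category.assoc, hy, Preadditive.nsmul_comp]

lemma epi_nsmul_of_le_image {A : 𝒜} (D : Subobject A) (k : ℕ)
    (hDE : D ≤ imageSubobject (D.arrow ≫ (k • 𝟙 A))) : Epi (k • 𝟙 (D : 𝒜)) := by
  rw [epi_iff_surjective_up_to_refinements]
  intro T x
  obtain ⟨T', π, hπ, y, hy⟩ := surjective_up_to_refinements_of_epi
    (factorThruImageSubobject (D.arrow ≫ (k • 𝟙 A))) (x ≫ Subobject.ofLE _ _ hDE)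
  refine ⟨T', π, hπ, y, ?_⟩
  rw [← cancel_mono D.arrow]
  have h1 := congrArg (fun f => f ≫ (imageSubobject (D.arrow ≫ (k • 𝟙 A))).arrow) hy
  simp only [Category.assoc, Subobject.ofLE_arrow, imageSubobject_arrow_comp] at h1
  rw [Category.assoc, h1, Category.assoc]
  congr 1
  rw [comp_nsmul_id, nsmul_id_comp]

include hS in
/-- the largest divisible sub-object, given countable suprema of sub-objects -/
theorem exists_largest_divisible {A : 𝒜} (hA : CofType Cc A)
    (hsup : ∀ F : ℕ → Subobject A, ∃ D : Subobject A, (∀ n, F n ≤ D) ∧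
      ∀ E : Subobject A, (∀ n, F n ≤ E) → D ≤ E) :
    ∃ D : Subobject A, (∀ k : ℕ, 0 < k → Epi (k • 𝟙 (D : 𝒜))) ∧
      (∀ D' : Subobject A, (∀ k : ℕ, 0 < k → Epi (k • 𝟙 (D' : 𝒜))) → D' ≤ D) ∧
      CofType Cc (D : 𝒜) ∧ CofType Cc (cokernel D.arrow) := by
  have hstab := fun n hn => exists_stab' hS hA n hn
  choose! c hc0 hc using hstab
  obtain ⟨D, hD1, hD2⟩ := hsup (fun n => DA A (n + 1) (c (n + 1)))
  have hle : ∀ n, 0 < n → DA A n (c n) ≤ D := by
    intro n hn
    obtain ⟨m, rfl⟩ : ∃ m, n = m + 1 := ⟨n - 1, by omega⟩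
    exact hD1 m
  -- divisibility
  have hdiv : ∀ k : ℕ, 0 < k → Epi (k • 𝟙 (D : 𝒜)) := by
    intro k hk
    apply epi_nsmul_of_le_image
    apply hD2
    intro m
    have hn : 0 < m + 1 := Nat.succ_pos m
    generalize m + 1 = n at hn
    obtain ⟨T₁, π₁, hπ₁, y₁, hy₁, h₁⟩ := DA_exists n (c n) (𝟙 (DA A n (c n) : 𝒜))
    rw [Category.id_comp] at h₁
    have hkn : 0 < k * n := Nat.mul_pos hk hn
    obtain ⟨T₂, π₂, hπ₂, y₂, hy₂, h₂⟩ := exists_of_Dsub_le n
      (hc n hn (k * c (k * n)) (Nat.mul_pos hk (hc0 _ hkn))) y₁ hy₁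
    obtain ⟨x'', hx''⟩ := DA_factors (k * n) (c (k * n)) (c (k * n) • (c n • y₂)) (𝟙 T₂)
      (c n • y₂) (by
        rw [← mul_smul]
        have : c (k * n) * (k * n) * c n = c n * (k * c (k * n)) * n := by ring
        rw [this, hy₂]) (by rw [Category.id_comp])
    have hfac : (π₂ ≫ π₁) ≫ (DA A n (c n)).arrow =
        (x'' ≫ Subobject.ofLE _ _ (hle _ hkn) ≫
          factorThruImageSubobject (D.arrow ≫ (k • 𝟙 A))) ≫
          (imageSubobject (D.arrow ≫ (k • 𝟙 A))).arrow := by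
      calc (π₂ ≫ π₁) ≫ (DA A n (c n)).arrow = π₂ ≫ (c n • y₁) := by
            rw [Category.assoc, h₁]
        _ = (c n * (k * c (k * n))) • y₂ := by rw [Preadditive.comp_nsmul, h₂]
        _ = (c (k * n) • (c n • y₂)) ≫ (k • 𝟙 A) := by
            rw [comp_nsmul_id, ← mul_smul, ← mul_smul]
            congr 1
            ring
        _ = (x'' ≫ (DA A (k * n) (c (k * n))).arrow) ≫ (k • 𝟙 A) := by rw [hx'']
        _ = (x'' ≫ Subobject.ofLE _ _ (hle _ hkn) ≫
          factorThruImageSubobject (D.arrow ≫ (k • 𝟙 A))) ≫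
          (imageSubobject (D.arrow ≫ (k • 𝟙 A))).arrow := by
            simp only [Category.assoc, imageSubobject_arrow_comp,
              Subobject.ofLE_arrow_assoc]
    obtain ⟨s, hs⟩ := factors_of_epi_comp (π₂ ≫ π₁)
      (imageSubobject (D.arrow ≫ (k • 𝟙 A))).arrow (DA A n (c n)).arrow _ hfac
    exact Subobject.le_of_comm s hs
  have hcofD : CofType Cc (D : 𝒜) := by
    intro n hn
    obtain ⟨f, hf⟩ := factors_DA_of_divisible D hdiv n (c n) (hc0 n hn) (torι (D : 𝒜) n)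
      (nsmul_torι _ n)
    have hg0 : n • Subobject.ofLE _ _ (hle n hn) = 0 := by
      rw [← cancel_mono D.arrow, Preadditive.nsmul_comp, Subobject.ofLE_arrow, nsmul_DA_arrow,
        zero_comp]
    let e : tor (D : 𝒜) n ≅ (DA A n (c n) : 𝒜) :=
      { hom := f
        inv := torLift n (Subobject.ofLE _ _ (hle n hn)) hg0
        hom_inv_id := by
          rw [← cancel_mono (torι (D : 𝒜) n), ← cancel_mono D.arrow]
          simp only [Category.assoc, torLift_ι, Subobject.ofLE_arrow, Category.id_comp]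
          exact hf
        inv_hom_id := by
          rw [← cancel_mono (DA A n (c n)).arrow]
          simp only [Category.assoc, Category.id_comp]
          rw [hf, torLift_ι_assoc, Subobject.ofLE_arrow] }
    exact hS.of_iso e.symm (Cc_DA hS hA n (c n) hn (hc0 n hn))
  refine ⟨D, hdiv, ?_, hcofD, CofType.cokernel_of_mono hS D.arrow hcofD hA⟩
  intro D' hD'
  have hg : D'.arrow ≫ cokernel.π D.arrow = 0 := by
    apply hS.exh
    intro m hm
    obtain ⟨x', hx'⟩ := factors_DA_of_divisible D' hD' m (c m) (hc0 m hm) (torι (D' : 𝒜) m)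
      (nsmul_torι _ m)
    rw [← Category.assoc, ← hx', ← Subobject.ofLE_arrow (hle m hm), Category.assoc,
      Category.assoc, cokernel.condition, comp_zero, comp_zero]
  exact Subobject.le_of_comm (Abelian.monoLift D.arrow D'.arrow hg) (Abelian.monoLift_comp _ _ _)

end Groth.Agent.H9.IndCofG
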