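import Mathlib

set_option autoImplicit false
set_option linter.style.haveILetI false
set_option linter.unusedSectionVars false
set_option linter.unusedVariables false

open CategoryTheory CategoryTheory.Limits
open scoped ZeroObject

universe v u

namespace Groth.Agent.H9.InjResSplit

variable {C : Type u} [Category.{v} C] [Abelian C]

theorem bicone_aux {K Y : C} (b : BinaryBicone K Y) (hb : b.IsBilimit) :
    ∃ e : b.pt ≅ Y ⊞ K, b.snd = e.hom ≫ biprod.fst :=
  ⟨(biprod.uniqueUpToIso _ _ hb).trans (biprod.braiding _ _), by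
    rw [Iso.trans_hom, Category.assoc]
    show b.snd = biprod.lift b.fst b.snd ≫ biprod.lift biprod.snd biprod.fst ≫ biprod.fst
    rw [biprod.lift_fst, biprod.lift_snd]⟩

theorem split_iso {X Y : C} (f : X ⟶ Y) (s : Y ⟶ X) (hs : s ≫ f = 𝟙 Y) :
    ∃ (K : C) (e : X ≅ Y ⊞ K), f = e.hom ≫ biprod.fst := by
  haveI : IsSplitEpi f := IsSplitEpi.mk' ⟨s, hs⟩
  have hb : (binaryBiconeOfIsSplitEpiOfKernel (kernelIsKernel f)).IsBilimit :=
    isBilimitBinaryBiconeOfIsSplitEpiOfKernel (kernelIsKernel f)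
  obtain ⟨e, he⟩ := bicone_aux (binaryBiconeOfIsSplitEpiOfKernel (kernelIsKernel f)) hb
  exact ⟨kernel f, e, he⟩

section Path
variable (I : CochainComplex C ℕ)

/-- previous term -/
noncomputable abbrev prevX : ℕ → C
  | 0 => 0
  | (n + 1) => I.X n

noncomputable def pd : ∀ n : ℕ, prevX I n ⟶ I.X n
  | 0 => 0
  | (n + 1) => I.d n (n + 1)

theorem pd_succ (n : ℕ) : pd I (n + 1) = I.d n (n + 1) := rfl

@[reassoc]
theorem pd_comp_d (n : ℕ) : pd I n ≫ I.d n (n + 1) = 0 := by
  cases n with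
  | zero => simp [pd]
  | succ n => rw [pd_succ]; exact I.d_comp_d _ _ _

/-- `X n` of the path complex -/
noncomputable abbrev PX (n : ℕ) : C := I.X n ⊞ prevX I n

noncomputable def Pd (n : ℕ) : PX I n ⟶ PX I (n + 1) :=
  biprod.lift ((biprod.fst : I.X n ⊞ prevX I n ⟶ I.X n) ≫ I.d n (n + 1))
    (show I.X n ⊞ prevX I n ⟶ I.X n from biprod.fst - biprod.snd ≫ pd I n)

theorem Pd_fst (n : ℕ) : Pd I n ≫ (biprod.fst : I.X (n + 1) ⊞ prevX I (n + 1) ⟶ I.X (n + 1)) =
    (biprod.fst : I.X n ⊞ prevX I n ⟶ I.X n) ≫ I.d n (n + 1) := by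
  unfold Pd; exact biprod.lift_fst _ _

theorem Pd_snd (n : ℕ) : Pd I n ≫ (biprod.snd : I.X (n + 1) ⊞ prevX I (n + 1) ⟶ prevX I (n + 1)) =
    (show I.X n ⊞ prevX I n ⟶ I.X n from biprod.fst - biprod.snd ≫ pd I n) := by
  unfold Pd; exact biprod.lift_snd _ _

theorem Pd_comp (n : ℕ) : Pd I n ≫ Pd I (n + 1) = 0 := by
  apply biprod.hom_ext
  · rw [Category.assoc, Pd_fst, ← Category.assoc, Pd_fst, Category.assoc,
      HomologicalComplex.d_comp_d, comp_zero, zero_comp]
  · rw [Category.assoc, Pd_snd, zero_comp]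
    show Pd I n ≫ (biprod.fst - biprod.snd ≫ pd I (n + 1)) = 0
    rw [Preadditive.comp_sub, Pd_fst, ← Category.assoc, Pd_snd, pd_succ]
    show _ - (biprod.fst - biprod.snd ≫ pd I n) ≫ I.d n (n + 1) = 0
    rw [Preadditive.sub_comp, Category.assoc, pd_comp_d, comp_zero, sub_zero, sub_self]

/-- the path complex -/
noncomputable abbrev P : CochainComplex C ℕ := CochainComplex.of (PX I) (Pd I) (Pd_comp I)

theorem P_d (n : ℕ) : (P I).d n (n + 1) = Pd I n := CochainComplex.of_d _ _ _

noncomputable def proj : P I ⟶ I where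
  f n := (biprod.fst : I.X n ⊞ prevX I n ⟶ I.X n)
  comm' i j hij := by
    obtain rfl : i + 1 = j := hij
    rw [P_d]
    exact (Pd_fst I i).symm

/-- the contracting homotopy components -/
noncomputable def hh (n : ℕ) : PX I (n + 1) ⟶ PX I n :=
  (biprod.snd : I.X (n + 1) ⊞ prevX I (n + 1) ⟶ prevX I (n + 1)) ≫
    (biprod.inl : I.X n ⟶ I.X n ⊞ prevX I n)

noncomputable def hfam : ∀ i j, (ComplexShape.up ℕ).Rel j i → ((P I).X i ⟶ (P I).X j) :=
  fun i j hij => by
    have e : j + 1 = i := hij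
    subst e
    exact hh I j

theorem hfam_eq (n : ℕ) (r : (ComplexShape.up ℕ).Rel n (n + 1)) : hfam I (n + 1) n r = hh I n := rfl

theorem null_eq : Homotopy.nullHomotopicMap' (hfam I) = 𝟙 (P I) := by
  refine HomologicalComplex.hom_ext _ _ (fun n => ?_)
  cases n with
  | zero =>
    rw [Homotopy.nullHomotopicMap'_f_of_not_rel_right (k₁ := 0) (k₀ := 1) rfl
      (fun l h => Nat.succ_ne_zero l h), hfam_eq, P_d, HomologicalComplex.id_f]
    unfold hh
    rw [← Category.assoc, Pd_snd]
    show (biprod.fst - biprod.snd ≫ pd I 0) ≫ biprod.inl = 𝟙 (I.X 0 ⊞ prevX I 0)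
    have h0 : (biprod.snd : I.X 0 ⊞ prevX I 0 ⟶ prevX I 0) = 0 :=
      (isZero_zero C).eq_of_tgt _ _
    rw [← biprod.total, h0, zero_comp, sub_zero, zero_comp, add_zero]
  | succ m =>
    rw [Homotopy.nullHomotopicMap'_f (k₂ := m) (k₁ := m + 1) (k₀ := m + 2) rfl rfl, hfam_eq,
      hfam_eq, P_d, P_d, HomologicalComplex.id_f]
    unfold hh
    show Pd I (m + 1) ≫ biprod.snd ≫ biprod.inl + (biprod.snd ≫ biprod.inl) ≫ Pd I m =
      𝟙 (I.X (m + 1) ⊞ prevX I (m + 1))
    apply biprod.hom_ext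
    · rw [Preadditive.add_comp, Category.assoc, Category.assoc, biprod.inl_fst, Category.comp_id,
        Pd_snd, Category.assoc, Category.assoc, Pd_fst, biprod.inl_fst_assoc, Category.id_comp,
        pd_succ]
      show biprod.fst - biprod.snd ≫ I.d m (m + 1) + biprod.snd ≫ I.d m (m + 1) = _
      rw [sub_add_cancel]
    · rw [Preadditive.add_comp, Category.assoc, Category.assoc, biprod.inl_snd, comp_zero,
        comp_zero, zero_add, Category.assoc, Category.assoc, Pd_snd, Category.id_comp]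
      show biprod.snd ≫ biprod.inl ≫ (biprod.fst - biprod.snd ≫ pd I m) = _
      rw [Preadditive.comp_sub, biprod.inl_fst, biprod.inl_snd_assoc, zero_comp, sub_zero,
        Category.comp_id]

noncomputable def contraction : Homotopy (𝟙 (P I)) 0 :=
  (Homotopy.ofEq (null_eq I).symm).trans (Homotopy.nullHomotopy' (hfam I))

instance prevX_injective [∀ n, Injective (I.X n)] (n : ℕ) : Injective (prevX I n) := by
  cases n with
  | zero => exact Injective.zero_injective
  | succ n => exact (inferInstance : Injective (I.X n))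

instance P_injective [∀ n, Injective (I.X n)] (n : ℕ) : Injective ((P I).X n) :=
  (inferInstance : Injective (I.X n ⊞ prevX I n))

end Path

section HE
variable (K L : CochainComplex C ℕ) (hL : Homotopy (𝟙 L) 0)

noncomputable def heInl : HomotopyEquiv K (K ⊞ L) where
  hom := biprod.inl
  inv := biprod.fst
  homotopyHomInvId := Homotopy.ofEq biprod.inl_fst
  homotopyInvHomId :=
    (Homotopy.ofEq (by simp :
      (biprod.fst : K ⊞ L ⟶ K) ≫ biprod.inl =
        (biprod.fst : K ⊞ L ⟶ K) ≫ biprod.inl +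
          (biprod.snd : K ⊞ L ⟶ L) ≫ (0 : L ⟶ L) ≫ biprod.inr)).trans
      ((Homotopy.add (Homotopy.refl _) ((hL.symm.compRight biprod.inr).compLeft biprod.snd)).trans
        (Homotopy.ofEq (by simp [biprod.total])))

end HE

theorem main [EnoughInjectives C] {G F : C} (α : G ⟶ F) (I : InjectiveResolution F) :
    ∃ (J : InjectiveResolution G) (β : J.cocomplex ⟶ I.cocomplex),
      J.ι ≫ β = (CochainComplex.single₀ C).map α ≫ I.ι ∧
      ∀ p : ℕ, ∃ (K : C) (e : J.cocomplex.X p ≅ I.cocomplex.X p ⊞ K),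
        β.f p = e.hom ≫ biprod.fst := by
  let J₀ := InjectiveResolution.of G
  let β₀ := InjectiveResolution.desc α I J₀
  let he := heInl J₀.cocomplex (P I.cocomplex) (contraction I.cocomplex)
  haveI : QuasiIso (biprod.inl : J₀.cocomplex ⟶ J₀.cocomplex ⊞ P I.cocomplex) :=
    he.quasiIso_hom
  let J : InjectiveResolution G :=
    { cocomplex := J₀.cocomplex ⊞ P I.cocomplex
      injective := fun n => Injective.of_iso
        (HomologicalComplex.biprodXIso J₀.cocomplex (P I.cocomplex) n).symm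
        (inferInstance : Injective (J₀.cocomplex.X n ⊞ (P I.cocomplex).X n))
      ι := J₀.ι ≫ biprod.inl
      quasiIso := inferInstance }
  refine ⟨J, biprod.desc β₀ (proj I.cocomplex), ?_, ?_⟩
  · show (J₀.ι ≫ biprod.inl) ≫ biprod.desc β₀ (proj I.cocomplex) = _
    rw [Category.assoc, biprod.inl_desc]
    exact InjectiveResolution.desc_commutes α I J₀
  · intro p
    apply split_iso _
      ((biprod.inl : I.cocomplex.X p ⟶ I.cocomplex.X p ⊞ prevX I.cocomplex p) ≫
        (biprod.inr : P I.cocomplex ⟶ J₀.cocomplex ⊞ P I.cocomplex).f p)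
    rw [Category.assoc, ← HomologicalComplex.comp_f, biprod.inr_desc]
    exact biprod.inl_fst

end Groth.Agent.H9.InjResSplit
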