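import Mathlib
set_option autoImplicit false
set_option linter.unusedSectionVars false
set_option linter.unusedVariables false

namespace Groth.Agent.H9.InvBC

open Polynomial TensorProduct

universe u

variable {R G : Type u} [CommRing R] [Group G] [Fintype G] [MulSemiringAction G R]

local notation "R0" => FixedPoints.subring R G

/-- coefficientwise action on `MvPolynomial W R`. -/
noncomputable def act (W : Type*) (σ : G) : MvPolynomial W R →+* MvPolynomial W R :=
  MvPolynomial.map (MulSemiringAction.toRingHom G R σ)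

noncomputable def incl (W : Type*) : MvPolynomial W R0 →+* MvPolynomial W R :=
  MvPolynomial.map (FixedPoints.subring R G).subtype

theorem incl_injective (W : Type*) : Function.Injective (incl (R := R) (G := G) W) :=
  MvPolynomial.map_injective _ Subtype.val_injective

theorem act_incl (W : Type*) (σ : G) (F : MvPolynomial W R0) :
    act W σ (incl W F) = incl W F := by
  unfold act incl
  rw [MvPolynomial.map_map]
  have : (MulSemiringAction.toRingHom G R σ).comp (FixedPoints.subring R G).subtype =
      (FixedPoints.subring R G).subtype := RingHom.ext (fun x => x.2 σ)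
  rw [this]

theorem act_mul (W : Type*) (σ τ : G) (F : MvPolynomial W R) :
    act W σ (act W τ F) = act W (σ * τ) F := by
  unfold act
  rw [MvPolynomial.map_map]
  have : (MulSemiringAction.toRingHom G R σ).comp (MulSemiringAction.toRingHom G R τ) =
      MulSemiringAction.toRingHom G R (σ * τ) := RingHom.ext (fun x => (mul_smul σ τ x).symm)
  rw [this]

theorem exists_incl_of_fixed (W : Type*) (F : MvPolynomial W R) (h : ∀ σ : G, act W σ F = F) :
    ∃ F0, incl (R := R) (G := G) W F0 = F := by
  have : F ∈ Set.range (MvPolynomial.map (FixedPoints.subring R G).subtype) := by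
    rw [MvPolynomial.mem_range_map_iff_coeffs_subset]
    intro c hc
    rw [Finset.mem_coe, MvPolynomial.mem_coeffs_iff] at hc
    obtain ⟨n, -, rfl⟩ := hc
    have hmem : F.coeff n ∈ FixedPoints.subring R G := by
      change ∀ σ : G, σ • F.coeff n = F.coeff n
      intro σ
      have := congrArg (MvPolynomial.coeff n) (h σ)
      rwa [act, MvPolynomial.coeff_map] at this
    exact ⟨⟨F.coeff n, hmem⟩, rfl⟩
  exact this

theorem exists_incl_of_fixed_poly (W : Type*) (Q : (MvPolynomial W R)[X])
    (h : ∀ σ : G, Q.map (act W σ) = Q) :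
    ∃ Q0 : (MvPolynomial W R0)[X], Q0.map (incl (R := R) (G := G) W) = Q := by
  rw [← Polynomial.mem_lifts, Polynomial.lifts_iff_coeff_lifts]
  intro n
  apply exists_incl_of_fixed W
  intro σ
  have := congrArg (fun p => Polynomial.coeff p n) (h σ)
  simpa [Polynomial.coeff_map] using this

theorem prod_fixed (W : Type*) (c : G → MvPolynomial W R)
    (hc : ∀ τ σ, act W τ (c σ) = c (τ * σ)) (τ : G) :
    (∏ σ, (X - C (c σ))).map (act W τ) = ∏ σ, (X - C (c σ)) := by
  rw [Polynomial.map_prod]
  simp only [Polynomial.map_sub, Polynomial.map_X, Polynomial.map_C, hc]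
  exact Fintype.prod_equiv (Equiv.mulLeft τ) _ _ (fun σ => rfl)

section Tensor
variable (A : Type u) [CommRing A] [Algebra (FixedPoints.subring R G) A]

noncomputable def pi0 : MvPolynomial A R0 →ₐ[R0] A := MvPolynomial.aeval id

theorem pi0_X (a : A) : pi0 (R := R) (G := G) A (MvPolynomial.X a) = a := by
  simp [pi0]

theorem pi0_surjective : Function.Surjective (pi0 (R := R) (G := G) A) :=
  fun a => ⟨MvPolynomial.X a, pi0_X A a⟩

noncomputable def Phi : MvPolynomial A R →+* A ⊗[R0] R :=
  MvPolynomial.eval₂Hom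
    (Algebra.TensorProduct.includeRight : R →ₐ[R0] A ⊗[R0] R).toRingHom
    (fun a => a ⊗ₜ[R0] (1:R))

theorem Phi_C (r : R) : Phi (G := G) A (MvPolynomial.C r) = (1 : A) ⊗ₜ[R0] r := by
  simp [Phi]

theorem Phi_X (a : A) : Phi (R := R) (G := G) A (MvPolynomial.X a) = a ⊗ₜ[R0] (1:R) := by
  simp [Phi]

theorem Phi_incl (F : MvPolynomial A R0) :
    Phi A (incl A F) = algebraMap A (A ⊗[R0] R) (pi0 A F) := by
  have : (Phi (R := R) (G := G) A).comp (incl A) =
      (algebraMap A (A ⊗[R0] R)).comp (pi0 (R := R) (G := G) A).toRingHom := by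
    apply MvPolynomial.ringHom_ext
    · intro c
      show Phi A (incl A (MvPolynomial.C c)) = algebraMap A (A ⊗[R0] R) (pi0 A (MvPolynomial.C c))
      have h1 : incl (R := R) (G := G) A (MvPolynomial.C c) = MvPolynomial.C (c : R) := by
        simp [incl]
      have h2 : pi0 (R := R) (G := G) A (MvPolynomial.C c) = algebraMap R0 A c := by
        simp [pi0]
      rw [h1, h2, Phi_C, ← IsScalarTower.algebraMap_apply]
      have := (Algebra.TensorProduct.includeRight : R →ₐ[R0] A ⊗[R0] R).commutes c
      rw [← this]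
      rfl
    · intro a
      show Phi A (incl A (MvPolynomial.X a)) = algebraMap A (A ⊗[R0] R) (pi0 A (MvPolynomial.X a))
      have h1 : incl (R := R) (G := G) A (MvPolynomial.X a) = MvPolynomial.X a := by
        simp [incl]
      rw [h1, pi0_X, Phi_X]
      rfl
  exact RingHom.congr_fun this F

theorem Phi_act (σ : G) (F : MvPolynomial A R) :
    Phi A (act A σ F) = Algebra.TensorProduct.map (AlgHom.id R0 A)
      (MulSemiringAction.toAlgHom R0 R σ) (Phi A F) := by
  have : (Phi (R := R) (G := G) A).comp (act A σ) =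
      (Algebra.TensorProduct.map (AlgHom.id R0 A)
        (MulSemiringAction.toAlgHom R0 R σ)).toRingHom.comp (Phi A) := by
    apply MvPolynomial.ringHom_ext
    · intro c
      show Phi A (act A σ (MvPolynomial.C c)) = Algebra.TensorProduct.map (AlgHom.id R0 A)
        (MulSemiringAction.toAlgHom R0 R σ) (Phi A (MvPolynomial.C c))
      have h1 : act (R := R) (G := G) A σ (MvPolynomial.C c) = MvPolynomial.C (σ • c) := by
        simp [act]
      rw [h1, Phi_C, Phi_C]
      simp
    · intro a
      show Phi A (act A σ (MvPolynomial.X a)) = Algebra.TensorProduct.map (AlgHom.id R0 A)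
        (MulSemiringAction.toAlgHom R0 R σ) (Phi A (MvPolynomial.X a))
      have h1 : act (R := R) (G := G) A σ (MvPolynomial.X a) = MvPolynomial.X a := by
        simp [act]
      rw [h1, Phi_X]
      simp
  exact RingHom.congr_fun this F

theorem Phi_surjective : Function.Surjective (Phi (R := R) (G := G) A) := by
  intro t
  induction t using TensorProduct.induction_on with
  | zero => exact ⟨0, map_zero _⟩
  | tmul a r =>
    refine ⟨MvPolynomial.X a * MvPolynomial.C r, ?_⟩
    rw [map_mul, Phi_X, Phi_C]
    simp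
  | add x y hx hy =>
    obtain ⟨x', rfl⟩ := hx
    obtain ⟨y', rfl⟩ := hy
    exact ⟨x' + y', map_add _ _ _⟩

theorem mem_map_of_Phi_eq_zero (F : MvPolynomial A R) (hF : Phi (G := G) A F = 0) :
    F ∈ Ideal.map (incl (R := R) (G := G) A) (RingHom.ker (pi0 (R := R) (G := G) A)) := by
  set I := Ideal.map (incl (R := R) (G := G) A) (RingHom.ker (pi0 (R := R) (G := G) A)) with hI
  let inclA : MvPolynomial A R0 →ₐ[R0] MvPolynomial A R :=
    MvPolynomial.mapAlgHom (Algebra.ofId R0 R)
  have hinclA : ∀ F0, inclA F0 = incl A F0 := fun F0 => rfl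
  let f0 : MvPolynomial A R0 →ₐ[R0] (MvPolynomial A R ⧸ I) :=
    (Ideal.Quotient.mkₐ R0 I).comp inclA
  have hf0 : ∀ x ∈ RingHom.ker (pi0 (R := R) (G := G) A), f0 x = 0 := by
    intro x hx
    show Ideal.Quotient.mk I (inclA x) = 0
    rw [Ideal.Quotient.eq_zero_iff_mem, hinclA]
    exact Ideal.mem_map_of_mem _ hx
  let f1 : (MvPolynomial A R0 ⧸ RingHom.ker (pi0 (R := R) (G := G) A)) →ₐ[R0]
      (MvPolynomial A R ⧸ I) := Ideal.Quotient.liftₐ _ f0 hf0
  let e := Ideal.quotientKerAlgEquivOfSurjective (pi0_surjective (R := R) (G := G) A)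
  let f : A →ₐ[R0] (MvPolynomial A R ⧸ I) := f1.comp e.symm.toAlgHom
  have hf : ∀ F0 : MvPolynomial A R0, f (pi0 (R := R) (G := G) A F0) =
      Ideal.Quotient.mk I (incl (R := R) (G := G) A F0) := by
    intro F0
    have : e.symm (pi0 (R := R) (G := G) A F0) = Ideal.Quotient.mk _ F0 := by
      rw [AlgEquiv.symm_apply_eq]; rfl
    show f1 (e.symm (pi0 (R := R) (G := G) A F0)) = _
    rw [this]
    rfl
  let g : R →ₐ[R0] (MvPolynomial A R ⧸ I) :=
    (Ideal.Quotient.mkₐ R0 I).comp (IsScalarTower.toAlgHom R0 R (MvPolynomial A R))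
  let Ψ : A ⊗[R0] R →ₐ[R0] (MvPolynomial A R ⧸ I) :=
    Algebra.TensorProduct.lift f g (fun _ _ => Commute.all _ _)
  have hΨ : Ψ.toRingHom.comp (Phi A) = Ideal.Quotient.mk I := by
    apply MvPolynomial.ringHom_ext
    · intro c
      show Ψ (Phi A (MvPolynomial.C c)) = Ideal.Quotient.mk I (MvPolynomial.C c)
      rw [Phi_C]
      show f 1 * g c = _
      rw [map_one, one_mul]
      rfl
    · intro a
      show Ψ (Phi A (MvPolynomial.X a)) = Ideal.Quotient.mk I (MvPolynomial.X a)
      rw [Phi_X]
      show f a * g 1 = _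
      rw [map_one, mul_one]
      have := hf (MvPolynomial.X a)
      rw [pi0_X] at this
      rw [this]
      congr 1
      simp [incl]
  have := RingHom.congr_fun hΨ F
  simp only [RingHom.comp_apply, hF, map_zero] at this
  exact Ideal.Quotient.eq_zero_iff_mem.1 this.symm

theorem part1 (b : A ⊗[R0] R)
    (hb : ∀ σ : G, Algebra.TensorProduct.map (AlgHom.id R0 A)
      (MulSemiringAction.toAlgHom R0 R σ) b = b) :
    ∃ P : Polynomial A, P.Monic ∧
      Polynomial.map (algebraMap A (A ⊗[R0] R)) P = (X - C b) ^ Fintype.card G := by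
  obtain ⟨b', rfl⟩ := Phi_surjective A b
  let Q : (MvPolynomial A R)[X] := ∏ σ : G, (X - C (act A σ b'))
  have hQfix : ∀ τ : G, Q.map (act A τ) = Q := fun τ =>
    prod_fixed A (fun σ => act A σ b') (fun τ σ => act_mul A τ σ b') τ
  obtain ⟨Q0, hQ0⟩ := exists_incl_of_fixed_poly A Q hQfix
  have hQmonic : Q.Monic := Polynomial.monic_prod_of_monic _ _
    (fun σ _ => Polynomial.monic_X_sub_C _)
  have hQ0monic : Q0.Monic := by
    apply Polynomial.monic_of_injective (incl_injective (R := R) (G := G) A)
    rw [hQ0]; exact hQmonic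
  refine ⟨Q0.map (pi0 (R := R) (G := G) A).toRingHom, hQ0monic.map _, ?_⟩
  rw [Polynomial.map_map]
  have h1 : (algebraMap A (A ⊗[R0] R)).comp (pi0 (R := R) (G := G) A).toRingHom =
      (Phi A).comp (incl A) := RingHom.ext (fun F => (Phi_incl A F).symm)
  rw [h1, ← Polynomial.map_map, hQ0]
  show (∏ σ : G, (X - C (act A σ b'))).map (Phi A) = _
  rw [Polynomial.map_prod]
  simp only [Polynomial.map_sub, Polynomial.map_X, Polynomial.map_C, Phi_act, hb]
  rw [Finset.prod_const, Finset.card_univ]

end Tensor

section Part2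
variable (A : Type u) [CommRing A] [Algebra (FixedPoints.subring R G) A]
variable {K : Type u} [Fintype K]

noncomputable def sp (jj : K → MvPolynomial A R0) :
    MvPolynomial (A ⊕ K) R0 →+* MvPolynomial A R0 :=
  MvPolynomial.eval₂Hom MvPolynomial.C (Sum.elim MvPolynomial.X jj)

noncomputable def spR (jj' : K → MvPolynomial A R) :
    MvPolynomial (A ⊕ K) R →+* MvPolynomial A R :=
  MvPolynomial.eval₂Hom MvPolynomial.C (Sum.elim MvPolynomial.X jj')

theorem incl_sp (jj : K → MvPolynomial A R0) (F : MvPolynomial (A ⊕ K) R0) :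
    incl (R := R) (G := G) A (sp A jj F) =
      spR A (fun k => incl (R := R) (G := G) A (jj k)) (incl (A ⊕ K) F) := by
  have : (incl (R := R) (G := G) A).comp (sp A jj) =
      (spR A (fun k => incl (R := R) (G := G) A (jj k))).comp (incl (A ⊕ K)) := by
    apply MvPolynomial.ringHom_ext
    · intro c; simp [incl, sp, spR]
    · rintro (a | k) <;> simp [incl, sp, spR]
  exact RingHom.congr_fun this F

theorem spR_act_rename (jj' : K → MvPolynomial A R) (σ : G) (r : MvPolynomial A R) :
    spR A jj' (act (A ⊕ K) σ (MvPolynomial.rename Sum.inl r)) = act A σ r := by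
  have : ((spR (R := R) A jj').comp (act (A ⊕ K) σ)).comp
      (MvPolynomial.rename Sum.inl : MvPolynomial A R →ₐ[R] _).toRingHom = act A σ := by
    apply MvPolynomial.ringHom_ext
    · intro c; simp [act, spR]
    · intro a; simp [act, spR]
  exact RingHom.congr_fun this r

end Part2

section Part2b
variable (A : Type u) [CommRing A] [Algebra (FixedPoints.subring R G) A]

theorem part2 (a : A) (ha : algebraMap A (A ⊗[R0] R) a = 0) :
    (X - C a : A[X]) ^ Fintype.card G = X ^ Fintype.card G := by
  classical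
  have h0 : Phi (G := G) A (incl (R := R) (G := G) A
      (MvPolynomial.X a : MvPolynomial A R0)) = 0 := by
    rw [Phi_incl, pi0_X]; exact ha
  have h1 := mem_map_of_Phi_eq_zero A _ h0
  obtain ⟨t, ht, c, hc⟩ := (Submodule.mem_span_image_iff_exists_fun _).1 h1
  let jj : ↥t → MvPolynomial A R0 := fun k => (k : MvPolynomial A R0)
  have hjj : ∀ k, pi0 (R := R) (G := G) A (jj k) = 0 := fun k => ht k.2
  let rr : ↥t → MvPolynomial (A ⊕ ↥t) R := fun k => MvPolynomial.rename Sum.inl (c k)
  let cs : G → MvPolynomial (A ⊕ ↥t) R := fun σ =>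
    ∑ k, MvPolynomial.X (Sum.inr k) * act (A ⊕ ↥t) σ (rr k)
  have hcs : ∀ τ σ, act (A ⊕ ↥t) τ (cs σ) = cs (τ * σ) := by
    intro τ σ
    simp only [cs, map_sum, map_mul, act_mul]
    apply Finset.sum_congr rfl; intro k _
    congr 1
    simp [act]
  obtain ⟨Φ0, hΦ0⟩ := exists_incl_of_fixed_poly (A ⊕ ↥t) (∏ σ, (X - C (cs σ)))
    (prod_fixed (A ⊕ ↥t) cs hcs)
  have hspec : ∀ jj' : ↥t → MvPolynomial A R, (∏ σ, (X - C (cs σ))).map (spR A jj') =
      ∏ σ : G, (X - C (∑ k, jj' k * act A σ (c k))) := by
    intro jj'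
    rw [Polynomial.map_prod]
    apply Finset.prod_congr rfl; intro σ _
    rw [Polynomial.map_sub, Polynomial.map_X, Polynomial.map_C]
    have hk : spR A jj' (cs σ) = ∑ k, jj' k * act A σ (c k) := by
      show spR A jj' (∑ k, MvPolynomial.X (Sum.inr k) * act (A ⊕ ↥t) σ (rr k)) = _
      rw [map_sum]
      apply Finset.sum_congr rfl; intro k _
      rw [map_mul]
      show spR A jj' (MvPolynomial.X (Sum.inr k)) *
        spR A jj' (act (A ⊕ ↥t) σ (MvPolynomial.rename Sum.inl (c k))) = _
      rw [spR_act_rename]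
      congr 1
      simp [spR]
    rw [hk]
  have hA : (Φ0.map (sp A jj)).map (incl (R := R) (G := G) A) =
      ((X - C (MvPolynomial.X a)) ^ Fintype.card G : (MvPolynomial A R0)[X]).map
        (incl (R := R) (G := G) A) := by
    rw [Polynomial.map_map]
    have : (incl (R := R) (G := G) A).comp (sp A jj) =
        (spR A (fun k => incl (R := R) (G := G) A (jj k))).comp (incl (A ⊕ ↥t)) :=
      RingHom.ext (fun F => incl_sp A jj F)
    rw [this, ← Polynomial.map_map, hΦ0, hspec]
    have h2 : ∀ σ : G, ∑ k, incl (R := R) (G := G) A (jj k) * act A σ (c k) =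
        incl (R := R) (G := G) A (MvPolynomial.X a : MvPolynomial A R0) := by
      intro σ
      have : ∑ k, incl (R := R) (G := G) A (jj k) * act A σ (c k) =
          act A σ (∑ k, c k • incl (R := R) (G := G) A (jj k)) := by
        rw [map_sum]; apply Finset.sum_congr rfl; intro k _
        rw [smul_eq_mul, map_mul, act_incl, mul_comm]
      rw [this, hc, act_incl]
    simp only [h2, Finset.prod_const, Finset.card_univ]
    simp [incl]
  have hB : (Φ0.map (sp A (fun _ => 0))).map (incl (R := R) (G := G) A) =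
      ((X : (MvPolynomial A R0)[X]) ^ Fintype.card G).map (incl (R := R) (G := G) A) := by
    rw [Polynomial.map_map]
    have : (incl (R := R) (G := G) A).comp (sp A (fun _ => 0)) =
        (spR A (fun k => incl (R := R) (G := G) A
          ((fun _ => 0 : ↥t → MvPolynomial A R0) k))).comp (incl (A ⊕ ↥t)) :=
      RingHom.ext (fun F => incl_sp A _ F)
    rw [this, ← Polynomial.map_map, hΦ0, hspec]
    simp
  have hA' := Polynomial.map_injective _ (incl_injective (R := R) (G := G) A) hA
  have hB' := Polynomial.map_injective _ (incl_injective (R := R) (G := G) A) hB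
  have hπ : (pi0 (R := R) (G := G) A).toRingHom.comp (sp A jj) =
      (pi0 (R := R) (G := G) A).toRingHom.comp (sp A (fun _ => 0)) := by
    apply MvPolynomial.ringHom_ext
    · intro c; simp [sp]
    · rintro (a' | k)
      · simp [sp]
      · simp [sp, hjj]
  calc (X - C a : A[X]) ^ Fintype.card G
      = ((X - C (MvPolynomial.X a) : (MvPolynomial A R0)[X]) ^ Fintype.card G).map
          (pi0 (R := R) (G := G) A).toRingHom := by
        simp [pi0_X]
    _ = (Φ0.map (sp A jj)).map (pi0 (R := R) (G := G) A).toRingHom := by rw [hA']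
    _ = Φ0.map ((pi0 (R := R) (G := G) A).toRingHom.comp (sp A jj)) := Polynomial.map_map _ _ _
    _ = Φ0.map ((pi0 (R := R) (G := G) A).toRingHom.comp (sp A (fun _ => 0))) := by rw [hπ]
    _ = (Φ0.map (sp A (fun _ => 0))).map (pi0 (R := R) (G := G) A).toRingHom :=
        (Polynomial.map_map _ _ _).symm
    _ = ((X : (MvPolynomial A R0)[X]) ^ Fintype.card G).map
          (pi0 (R := R) (G := G) A).toRingHom := by rw [hB']
    _ = X ^ Fintype.card G := by simp

end Part2b

theorem result' (R G A : Type u) [CommRing R] [Group G] [Fintype G]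
    [MulSemiringAction G R] [CommRing A] [Algebra (FixedPoints.subring R G) A] :
    (∀ b : TensorProduct (FixedPoints.subring R G) A R,
      (∀ σ : G, Algebra.TensorProduct.map (AlgHom.id (FixedPoints.subring R G) A)
        (MulSemiringAction.toAlgHom (FixedPoints.subring R G) R σ) b = b) →
      ∃ P : Polynomial A, P.Monic ∧
        Polynomial.map (algebraMap A (TensorProduct (FixedPoints.subring R G) A R)) P =
          (Polynomial.X - Polynomial.C b) ^ Fintype.card G) ∧
    (∀ a : A, algebraMap A (TensorProduct (FixedPoints.subring R G) A R) a = 0 →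
      ∀ i : ℕ, i < Fintype.card G →
        ((Polynomial.X - Polynomial.C a) ^ Fintype.card G).coeff i = 0) := by
  refine ⟨fun b hb => part1 A b hb, fun a ha i hi => ?_⟩
  rw [part2 (R := R) (G := G) A a ha, Polynomial.coeff_X_pow, if_neg (ne_of_lt hi)]

end Groth.Agent.H9.InvBC
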