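import Mathlib
import Groth.Agent.Lib.Helper9.Misc.InvHilb1

/-! Helper9: S15727 (ideal I_s Hilbert function bound) -/

open MvPolynomial W4c2invhilbsl2

namespace Groth.Agent.H9.InvHilb

universe u

/-- images of monomials in a quotient as products -/
theorem mk_monomial5 {k : Type u} [CommRing k] (I : Ideal (MvPolynomial (Fin 5) k)) (d : Fin 5 →₀ ℕ) :
    Ideal.Quotient.mk I (monomial d 1) =
      Ideal.Quotient.mk I (X 0) ^ d 0 * Ideal.Quotient.mk I (X 1) ^ d 1 * Ideal.Quotient.mk I (X 2) ^ d 2 *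
        Ideal.Quotient.mk I (X 3) ^ d 3 * Ideal.Quotient.mk I (X 4) ^ d 4 := by
  rw [monomial_eq, Finsupp.prod_fintype _ _ (fun i => by simp), Fin.prod_univ_five]
  simp [map_mul, map_pow]

/-- comparison lemma: `x0^n0 = x1 x4`, `x0^(m p) x1^m = s` -/
theorem compare_I {A : Type*} [CommRing A] (x0 x1 x4 s : A) (n0 m p : ℕ)
    (R1 : x0 ^ n0 = x1 * x4) (R2 : x0 ^ (m * p) * x1 ^ m = s)
    (a b c a' b' c' μ : ℕ) (l : ℤ)
    (hb : (b : ℤ) = b' + l + m * μ) (hc : (c : ℤ) = c' + l)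
    (ha : (a : ℤ) = a' + p * m * μ - n0 * l) :
    x0 ^ a * x1 ^ b * x4 ^ c = s ^ μ * (x0 ^ a' * x1 ^ b' * x4 ^ c') := by
  obtain ⟨l, rfl | rfl⟩ := Int.eq_nat_or_neg l
  · have hb' : b = b' + m * μ + l := by zify; linarith
    have hc' : c = c' + l := by zify; linarith
    have ha' : a + n0 * l = a' + m * p * μ := by zify; linarith
    calc x0 ^ a * x1 ^ b * x4 ^ c = x0 ^ a * x1 ^ (b' + m * μ) * x4 ^ c' * (x1 * x4) ^ l := by
          rw [hb', hc']; ring
      _ = x0 ^ (a + n0 * l) * x1 ^ (b' + m * μ) * x4 ^ c' := by rw [← R1]; ring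
      _ = (x0 ^ (m * p) * x1 ^ m) ^ μ * (x0 ^ a' * x1 ^ b' * x4 ^ c') := by rw [ha']; ring
      _ = _ := by rw [R2]
  · have hb' : b' + m * μ = b + l := by zify; linarith
    have hc' : c' = c + l := by zify; linarith
    have ha' : a = a' + m * p * μ + n0 * l := by zify; linarith
    calc x0 ^ a * x1 ^ b * x4 ^ c = x0 ^ (a' + m * p * μ) * x1 ^ b * x4 ^ c * (x0 ^ n0) ^ l := by
          rw [ha']; ring
      _ = x0 ^ (a' + m * p * μ) * x1 ^ (b + l) * x4 ^ (c + l) := by rw [R1]; ring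
      _ = (x0 ^ (m * p) * x1 ^ m) ^ μ * (x0 ^ a' * x1 ^ b' * x4 ^ c') := by
          rw [← hb', ← hc']; ring
      _ = _ := by rw [R2]

theorem s15727 (k : Type u) [Field k] (p q m : ℕ) (hpq : p < q) (s : k) (ν : ℤ × ZMod m) :
    Module.rank k (piece k (wt5 p q m) (idealI k p q m s) ν) ≤ 1 := by
  classical
  apply rank_piece_le_one
  intro d d' hd hd'
  set I := idealI k p q m s with hI
  have hx2 : Ideal.Quotient.mk I (X 2) = 0 :=
    Ideal.Quotient.eq_zero_iff_mem.mpr (Ideal.subset_span (by simp))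
  have hx3 : Ideal.Quotient.mk I (X 3) = 0 :=
    Ideal.Quotient.eq_zero_iff_mem.mpr (Ideal.subset_span (by simp))
  have R1 : Ideal.Quotient.mk I (X 0) ^ (q - p) = Ideal.Quotient.mk I (X 1) * Ideal.Quotient.mk I (X 4) := by
    rw [← map_pow, ← map_mul, ← sub_eq_zero, ← map_sub]
    exact Ideal.Quotient.eq_zero_iff_mem.mpr (Ideal.subset_span (by simp))
  have R2 : Ideal.Quotient.mk I (X 0) ^ (m * p) * Ideal.Quotient.mk I (X 1) ^ m =
      algebraMap k _ s := by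
    have h : Ideal.Quotient.mk I (C s - X 0 ^ (m * p) * X 1 ^ m) = 0 :=
      Ideal.Quotient.eq_zero_iff_mem.mpr (Ideal.subset_span (by simp))
    rw [map_sub, sub_eq_zero] at h
    rw [← map_pow, ← map_pow, ← map_mul, ← h]
    rfl
  rw [mk_monomial5, mk_monomial5, hx2, hx3]
  by_cases h2 : d 2 = 0 ∧ d 3 = 0
  swap
  · left
    refine ⟨0, ?_⟩
    have : d 2 ≠ 0 ∨ d 3 ≠ 0 := by tauto
    rcases this with h | h
    · rw [zero_pow h]; simp
    · rw [zero_pow h]; simp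
  by_cases h2' : d' 2 = 0 ∧ d' 3 = 0
  swap
  · right
    refine ⟨0, ?_⟩
    have : d' 2 ≠ 0 ∨ d' 3 ≠ 0 := by tauto
    rcases this with h | h
    · rw [zero_pow h]; simp
    · rw [zero_pow h]; simp
  obtain ⟨h20, h30⟩ := h2
  obtain ⟨h20', h30'⟩ := h2'
  rw [h20, h30, h20', h30']
  simp only [pow_zero, mul_one]
  -- weight equations
  have hw := hd.trans hd'.symm
  rw [weight5, weight5, Prod.ext_iff] at hw
  obtain ⟨hw1, hw2⟩ := hw
  simp only [h20, h30, h20', h30', Nat.cast_zero, add_zero, zero_add] at hw1 hw2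
  have hw2' : (((d 4 : ℤ) - d 1 : ℤ) : ZMod m) = (((d' 4 : ℤ) - d' 1 : ℤ) : ZMod m) := by
    push_cast; exact hw2
  rw [ZMod.intCast_eq_intCast_iff_dvd_sub] at hw2'
  obtain ⟨t, ht⟩ := hw2'
  rcases le_total 0 t with ht0 | ht0
  · left
    obtain ⟨μ, rfl⟩ := Int.eq_ofNat_of_zero_le ht0
    refine ⟨s ^ μ, ?_⟩
    have hsm : ∀ (c : k) (y : MvPolynomial (Fin 5) k ⧸ I), c • y = algebraMap k _ c * y :=
      fun c y => Algebra.smul_def c y
    rw [hsm, map_pow]
    refine compare_I _ _ _ _ (q - p) m p R1 R2 _ _ _ _ _ _ μ ((d 4 : ℤ) - d' 4) ?_ ?_ ?_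
    · linarith
    · ring
    · have : ((q - p : ℕ) : ℤ) = q - p := by omega
      rw [this]
      have e1 : (m : ℤ) * μ = (d' 4 : ℤ) - d' 1 - (d 4 - d 1) := ht.symm
      calc (d 0 : ℤ) = d' 0 - p * d' 1 + q * d' 4 + p * d 1 - q * d 4 := by linarith
        _ = _ := by
          have : (p : ℤ) * m * μ = p * ((d' 4 : ℤ) - d' 1 - (d 4 - d 1)) := by rw [← e1]; ring
          rw [this]; ring
  · right
    obtain ⟨μ, hμ⟩ := Int.eq_ofNat_of_zero_le (neg_nonneg.mpr ht0)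
    refine ⟨s ^ μ, ?_⟩
    have hsm : ∀ (c : k) (y : MvPolynomial (Fin 5) k ⧸ I), c • y = algebraMap k _ c * y :=
      fun c y => Algebra.smul_def c y
    rw [hsm, map_pow]
    refine compare_I _ _ _ _ (q - p) m p R1 R2 _ _ _ _ _ _ μ ((d' 4 : ℤ) - d 4) ?_ ?_ ?_
    · have e1 : (m : ℤ) * μ = -((d' 4 : ℤ) - d' 1 - (d 4 - d 1)) := by rw [← hμ, ht]; ring
      linarith
    · ring
    · have : ((q - p : ℕ) : ℤ) = q - p := by omega
      rw [this]
      have e1 : (m : ℤ) * μ = -((d' 4 : ℤ) - d' 1 - (d 4 - d 1)) := by rw [← hμ, ht]; ring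
      calc (d' 0 : ℤ) = d 0 - p * d 1 + q * d 4 + p * d' 1 - q * d' 4 := by linarith
        _ = _ := by
          have : (p : ℤ) * m * μ = p * (-((d' 4 : ℤ) - d' 1 - (d 4 - d 1))) := by rw [← e1]; ring
          rw [this]; ring

end Groth.Agent.H9.InvHilb
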