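import Mathlib
import Groth.Agent.Lib.Helper9.Misc.InvHilb2

/-! Helper9: S15728 (ideal J_s Hilbert function bound) -/

open MvPolynomial W4c2invhilbsl2

namespace Groth.Agent.H9.InvHilb

universe u

theorem nt_J (p q m : ℕ) (hpq : p < q) (hcop : Nat.Coprime p q) (hm : 0 < m) (d0 d0' : ℕ)
    (b c b' c' : ℤ) (h0 : d0 < Nat.gcd m (q - p)) (h0' : d0' < Nat.gcd m (q - p))
    (hw1 : (d0 : ℤ) - p * b + q * c = d0' - p * b' + q * c')
    (hw2 : (m : ℤ) ∣ (c - b) - (c' - b')) :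
    d0 = d0' ∧ ∃ t : ℤ, b - b' = ((m / Nat.gcd m (q - p) * q : ℕ) : ℤ) * t ∧
      c - c' = ((m / Nat.gcd m (q - p) * p : ℕ) : ℤ) * t := by
  set g := Nat.gcd m (q - p) with hg
  have hgpos : 0 < g := Nat.gcd_pos_of_pos_left _ hm
  obtain ⟨a, ha⟩ : g ∣ m := Nat.gcd_dvd_left _ _
  obtain ⟨r, hr⟩ : g ∣ q - p := Nat.gcd_dvd_right _ _
  have hdiv : m / g = a := by rw [ha]; exact Nat.mul_div_cancel_left _ hgpos
  have hcop' : Nat.Coprime a r := by
    have := Nat.coprime_div_gcd_div_gcd (m := m) (n := q - p) hgpos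
    rw [← hg, hdiv] at this
    have h2 : (q - p) / g = r := by rw [hr]; exact Nat.mul_div_cancel_left _ hgpos
    rwa [h2] at this
  rw [hdiv]
  obtain ⟨t, ht⟩ := hw2
  have hqp : ((q - p : ℕ) : ℤ) = q - p := by omega
  have hrZ : (q : ℤ) - p = g * r := by rw [← hqp, hr]; push_cast; ring
  have haZ : (m : ℤ) = g * a := by rw [ha]; push_cast; ring
  -- d0 = d0'
  have h1 : (d0 : ℤ) - d0' = (g : ℤ) * (-(r * (b - b')) - q * a * t) := by
    have : (d0 : ℤ) - d0' = -((q : ℤ) - p) * (b - b') - q * (m * t) := by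
      rw [← ht]; linarith
    rw [this, hrZ, haZ]; ring
  have h00 : (d0 : ℤ) - d0' = 0 := by
    apply Int.eq_zero_of_abs_lt_dvd (m := (g : ℤ)) ⟨_, h1⟩
    rw [abs_lt]; constructor <;> omega
  have hd : d0 = d0' := by omega
  refine ⟨hd, ?_⟩
  have h2 : (p : ℤ) * (b - b') = q * (c - c') := by
    have : (d0 : ℤ) = d0' := by omega
    rw [this] at hw1; linarith
  have hcopZ : IsCoprime (q : ℤ) (p : ℤ) := (Nat.isCoprime_iff_coprime.mpr hcop).symm
  obtain ⟨T, hT⟩ : (q : ℤ) ∣ b - b' := hcopZ.dvd_of_dvd_mul_left ⟨c - c', h2⟩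
  have hq0 : (q : ℤ) ≠ 0 := by omega
  have hC : c - c' = p * T := by
    have : (q : ℤ) * (c - c') = q * (p * T) := by rw [← h2, hT]; ring
    exact mul_left_cancel₀ hq0 this
  -- a ∣ T
  have h3 : (a : ℤ) * t = -(r * T) := by
    have : (g : ℤ) * (a * t) = g * (-(r * T)) := by
      have e : (c - b) - (c' - b') = (c - c') - (b - b') := by ring
      rw [e, hC, hT, haZ] at ht
      have : ((p : ℤ) - q) * T = g * a * t := by rw [← ht]; ring
      have e2 : (p : ℤ) - q = -(g * r) := by rw [← hrZ]; ring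
      rw [e2] at this
      linarith
    exact mul_left_cancel₀ (by omega) this
  have hcopZ' : IsCoprime (a : ℤ) (r : ℤ) := Nat.isCoprime_iff_coprime.mpr hcop'
  obtain ⟨t', ht'⟩ : (a : ℤ) ∣ T := hcopZ'.dvd_of_dvd_mul_left ⟨-t, by rw [mul_neg, h3]; ring⟩
  refine ⟨t', ?_, ?_⟩
  · rw [hT, ht']; push_cast; ring
  · rw [hC, ht']; push_cast; ring

/-- comparison lemma for `J`: `x1^n1 x3^n3 = s`. -/
theorem compare_J {A : Type*} [CommRing A] (x0 x1 x3 s : A) (n1 n3 : ℕ)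
    (R : x1 ^ n1 * x3 ^ n3 = s) (a b c b' c' t : ℕ)
    (hb : (b : ℤ) - b' = (n1 : ℤ) * t) (hc : (c : ℤ) - c' = (n3 : ℤ) * t) :
    x0 ^ a * x1 ^ b * x3 ^ c = s ^ t * (x0 ^ a * x1 ^ b' * x3 ^ c') := by
  have hb' : b = b' + n1 * t := by zify; linarith
  have hc' : c = c' + n3 * t := by zify; linarith
  rw [hb', hc', ← R]; ring

theorem s15728 (k : Type u) [Field k] (p q m : ℕ) (hpq : p < q) (hcop : Nat.Coprime p q)
    (hm : 0 < m) (s : k) (ν : ℤ × ZMod m) :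
    Module.rank k (piece k (wt5 p q m) (idealJ k p q m s) ν) ≤ 1 := by
  classical
  apply rank_piece_le_one
  intro d d' hd hd'
  set I := idealJ k p q m s with hI
  have hx2 : Ideal.Quotient.mk I (X 2) = 0 :=
    Ideal.Quotient.eq_zero_iff_mem.mpr (Ideal.subset_span (by simp))
  have hx4 : Ideal.Quotient.mk I (X 4) = 0 :=
    Ideal.Quotient.eq_zero_iff_mem.mpr (Ideal.subset_span (by simp))
  have hx0 : Ideal.Quotient.mk I (X 0) ^ Nat.gcd m (q - p) = 0 := by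
    rw [← map_pow]
    exact Ideal.Quotient.eq_zero_iff_mem.mpr (Ideal.subset_span (by simp))
  have R2 : Ideal.Quotient.mk I (X 1) ^ (m / Nat.gcd m (q - p) * q) *
      Ideal.Quotient.mk I (X 3) ^ (m / Nat.gcd m (q - p) * p) = algebraMap k _ s := by
    have h : Ideal.Quotient.mk I (C s - X 1 ^ (m / Nat.gcd m (q - p) * q) *
        X 3 ^ (m / Nat.gcd m (q - p) * p)) = 0 :=
      Ideal.Quotient.eq_zero_iff_mem.mpr (Ideal.subset_span (by simp))
    rw [map_sub, sub_eq_zero] at h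
    rw [← map_pow, ← map_pow, ← map_mul, ← h]
    rfl
  have hsm : ∀ (c : k) (y : MvPolynomial (Fin 5) k ⧸ I), c • y = algebraMap k _ c * y :=
    fun c y => Algebra.smul_def c y
  rw [mk_monomial5, mk_monomial5, hx2, hx4]
  by_cases h2 : d 2 = 0 ∧ d 4 = 0 ∧ d 0 < Nat.gcd m (q - p)
  swap
  · left
    refine ⟨0, ?_⟩
    have : d 2 ≠ 0 ∨ d 4 ≠ 0 ∨ Nat.gcd m (q - p) ≤ d 0 := by
      by_contra hcon; push Not at hcon; exact h2 ⟨hcon.1, hcon.2.1, hcon.2.2⟩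
    rcases this with h | h | h
    · rw [zero_pow h]; simp
    · rw [zero_pow h]; simp
    · rw [← Nat.sub_add_cancel h, pow_add, hx0]; simp
  by_cases h2' : d' 2 = 0 ∧ d' 4 = 0 ∧ d' 0 < Nat.gcd m (q - p)
  swap
  · right
    refine ⟨0, ?_⟩
    have : d' 2 ≠ 0 ∨ d' 4 ≠ 0 ∨ Nat.gcd m (q - p) ≤ d' 0 := by
      by_contra hcon; push Not at hcon; exact h2' ⟨hcon.1, hcon.2.1, hcon.2.2⟩
    rcases this with h | h | h
    · rw [zero_pow h]; simp
    · rw [zero_pow h]; simp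
    · rw [← Nat.sub_add_cancel h, pow_add, hx0]; simp
  obtain ⟨h20, h40, h0⟩ := h2
  obtain ⟨h20', h40', h0'⟩ := h2'
  rw [h20, h40, h20', h40']
  simp only [pow_zero, mul_one]
  have hw := hd.trans hd'.symm
  rw [weight5, weight5, Prod.ext_iff] at hw
  obtain ⟨hw1, hw2⟩ := hw
  simp only [h20, h40, h20', h40', Nat.cast_zero, add_zero, zero_add] at hw1 hw2
  have hw2' : (((d 3 : ℤ) - d 1 : ℤ) : ZMod m) = (((d' 3 : ℤ) - d' 1 : ℤ) : ZMod m) := by
    push_cast; exact hw2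
  rw [ZMod.intCast_eq_intCast_iff_dvd_sub] at hw2'
  obtain ⟨h00, t, hb, hc⟩ := nt_J p q m hpq hcop hm (d 0) (d' 0) (d 1) (d 3) (d' 1) (d' 3) h0 h0' hw1
    (by obtain ⟨z, hz⟩ := hw2'; exact ⟨-z, by rw [mul_neg, ← hz]; ring⟩)
  rcases le_total 0 t with ht0 | ht0
  · left
    obtain ⟨μ, rfl⟩ := Int.eq_ofNat_of_zero_le ht0
    refine ⟨s ^ μ, ?_⟩
    rw [hsm, map_pow, h00]
    exact compare_J _ _ _ _ _ _ R2 _ _ _ _ _ μ hb hc
  · right
    obtain ⟨μ, hμ⟩ := Int.eq_ofNat_of_zero_le (neg_nonneg.mpr ht0)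
    refine ⟨s ^ μ, ?_⟩
    rw [hsm, map_pow, h00]
    refine compare_J _ _ _ _ _ _ R2 _ _ _ _ _ μ ?_ ?_
    · rw [← hμ]; linarith
    · rw [← hμ]; linarith

end Groth.Agent.H9.InvHilb
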