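import Mathlib
import Groth.Agent.Lib.Helper9.Misc.InvHilb3

/-! Helper9: S15738, S15739 (monomial comparison) -/

open MvPolynomial W4c2invhilbsl2

namespace Groth.Agent.H9.InvHilb

universe u

theorem s15738 (k : Type u) [Field k] (p q m : ℕ) (hpq : p < q)
    (d0 d1 d2 e0 e1 e2 : ℕ) (hn : (e0 : ℤ) - (p : ℤ) * e1 + (q : ℤ) * e2 = (d0 : ℤ) - (p : ℤ) * d1 + (q : ℤ) * d2)
    (hc : (m : ℤ) ∣ ((d1 : ℤ) - d2) - ((e1 : ℤ) - e2)) :
    ((d1 : ℤ) - d2 = (e1 : ℤ) - e2 →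
      (X (0 : Fin 3) ^ d0 * X (1 : Fin 3) ^ d1 * X (2 : Fin 3) ^ d2 - X (0 : Fin 3) ^ e0 * X (1 : Fin 3) ^ e1 * X (2 : Fin 3) ^ e2 : MvPolynomial (Fin 3) k) ∈ Ideal.span {X (0 : Fin 3) ^ (q - p) - X (1 : Fin 3) * X (2 : Fin 3)}) ∧
    ((e1 : ℤ) - e2 < (d1 : ℤ) - d2 →
      (X (0 : Fin 3) ^ d0 * X (1 : Fin 3) ^ d1 * X (2 : Fin 3) ^ d2 : MvPolynomial (Fin 3) k) ∈ Ideal.span {X (0 : Fin 3) ^ (q - p) - X (1 : Fin 3) * X (2 : Fin 3), X (0 : Fin 3) ^ (m * p) * X (1 : Fin 3) ^ m}) ∧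
    ((X (0 : Fin 3) ^ d0 * X (1 : Fin 3) ^ d1 * X (2 : Fin 3) ^ d2 - X (0 : Fin 3) ^ e0 * X (1 : Fin 3) ^ e1 * X (2 : Fin 3) ^ e2 : MvPolynomial (Fin 3) k) ∈ Ideal.span {X (0 : Fin 3) ^ (q - p) - X (1 : Fin 3) * X (2 : Fin 3), 1 - X (0 : Fin 3) ^ (m * p) * X (1 : Fin 3) ^ m}) := by
  have hqp : ((q - p : ℕ) : ℤ) = q - p := by omega
  refine ⟨fun h => ?_, fun h => ?_, ?_⟩
  · set I : Ideal (MvPolynomial (Fin 3) k) := Ideal.span {X (0 : Fin 3) ^ (q - p) - X (1 : Fin 3) * X (2 : Fin 3)} with hI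
    rw [← Ideal.Quotient.eq]
    have R1 : Ideal.Quotient.mk I (X 0) ^ (q - p) = Ideal.Quotient.mk I (X 1) * Ideal.Quotient.mk I (X 2) := by
      rw [← map_pow, ← map_mul, Ideal.Quotient.eq]
      exact Ideal.subset_span (by simp)
    simp only [map_mul, map_pow]
    have := compare_I (Ideal.Quotient.mk I (X 0)) (Ideal.Quotient.mk I (X 1)) (Ideal.Quotient.mk I (X 2)) _
      (q - p) m p R1 rfl d0 d1 d2 e0 e1 e2 0 ((d2 : ℤ) - e2) (by push_cast; linarith) (by ring)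
      (by rw [hqp]; push_cast; linear_combination (-1 : ℤ) * hn + (p : ℤ) * h)
    rw [this]; simp
  · set I : Ideal (MvPolynomial (Fin 3) k) := Ideal.span {X (0 : Fin 3) ^ (q - p) - X (1 : Fin 3) * X (2 : Fin 3),
      X (0 : Fin 3) ^ (m * p) * X (1 : Fin 3) ^ m} with hI
    rw [← Ideal.Quotient.eq_zero_iff_mem]
    have R1 : Ideal.Quotient.mk I (X 0) ^ (q - p) = Ideal.Quotient.mk I (X 1) * Ideal.Quotient.mk I (X 2) := by
      rw [← map_pow, ← map_mul, Ideal.Quotient.eq]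
      exact Ideal.subset_span (by simp)
    have R2 : Ideal.Quotient.mk I (X 0) ^ (m * p) * Ideal.Quotient.mk I (X 1) ^ m = 0 := by
      rw [← map_pow, ← map_pow, ← map_mul, Ideal.Quotient.eq_zero_iff_mem]
      exact Ideal.subset_span (by simp)
    obtain ⟨t, ht⟩ := hc
    have htpos : 0 < t := by
      by_contra hcon
      push Not at hcon
      have : (m : ℤ) * t ≤ 0 := mul_nonpos_of_nonneg_of_nonpos (by positivity) hcon
      linarith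
    obtain ⟨μ, rfl⟩ := Int.eq_ofNat_of_zero_le htpos.le
    simp only [map_mul, map_pow]
    have := compare_I (Ideal.Quotient.mk I (X 0)) (Ideal.Quotient.mk I (X 1)) (Ideal.Quotient.mk I (X 2)) _
      (q - p) m p R1 R2 d0 d1 d2 e0 e1 e2 μ ((d2 : ℤ) - e2) (by linarith) (by ring)
      (by rw [hqp]; linear_combination (-1 : ℤ) * hn + (p : ℤ) * ht)
    rw [this, zero_pow (by omega), zero_mul]
  · set I : Ideal (MvPolynomial (Fin 3) k) := Ideal.span {X (0 : Fin 3) ^ (q - p) - X (1 : Fin 3) * X (2 : Fin 3),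
      1 - X (0 : Fin 3) ^ (m * p) * X (1 : Fin 3) ^ m} with hI
    rw [← Ideal.Quotient.eq]
    have R1 : Ideal.Quotient.mk I (X 0) ^ (q - p) = Ideal.Quotient.mk I (X 1) * Ideal.Quotient.mk I (X 2) := by
      rw [← map_pow, ← map_mul, Ideal.Quotient.eq]
      exact Ideal.subset_span (by simp)
    have R2 : Ideal.Quotient.mk I (X 0) ^ (m * p) * Ideal.Quotient.mk I (X 1) ^ m = 1 := by
      rw [← map_pow, ← map_pow, ← map_mul, ← map_one (Ideal.Quotient.mk I), eq_comm, Ideal.Quotient.eq]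
      exact Ideal.subset_span (by simp)
    obtain ⟨t, ht⟩ := hc
    simp only [map_mul, map_pow]
    rcases le_total 0 t with ht0 | ht0
    · obtain ⟨μ, rfl⟩ := Int.eq_ofNat_of_zero_le ht0
      have := compare_I (Ideal.Quotient.mk I (X 0)) (Ideal.Quotient.mk I (X 1)) (Ideal.Quotient.mk I (X 2)) _
        (q - p) m p R1 R2 d0 d1 d2 e0 e1 e2 μ ((d2 : ℤ) - e2) (by linarith) (by ring)
        (by rw [hqp]; linear_combination (-1 : ℤ) * hn + (p : ℤ) * ht)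
      rw [this, one_pow, one_mul]
    · obtain ⟨μ, hμ⟩ := Int.eq_ofNat_of_zero_le (neg_nonneg.mpr ht0)
      have ht' : ((d1 : ℤ) - d2) - ((e1 : ℤ) - e2) = -((m : ℤ) * μ) := by rw [ht, ← hμ]; ring
      have := compare_I (Ideal.Quotient.mk I (X 0)) (Ideal.Quotient.mk I (X 1)) (Ideal.Quotient.mk I (X 2)) _
        (q - p) m p R1 R2 e0 e1 e2 d0 d1 d2 μ ((e2 : ℤ) - d2) (by linarith) (by ring)
        (by rw [hqp]; linear_combination (1 : ℤ) * hn - (p : ℤ) * ht')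
      rw [this, one_pow, one_mul]

theorem s15739 (k : Type u) [Field k] (p q m : ℕ) (hpq : p < q) (hcop : Nat.Coprime p q) (hm : 0 < m)
    (d0 d1 d2 e0 e1 e2 : ℕ) (hn : (e0 : ℤ) - (p : ℤ) * e1 + (q : ℤ) * e2 = (d0 : ℤ) - (p : ℤ) * d1 + (q : ℤ) * d2)
    (hcd : (m : ℤ) ∣ (d1 : ℤ) - d2) (hce : (m : ℤ) ∣ (e1 : ℤ) - e2)
    (hd0 : d0 < Nat.gcd m (q - p)) (he0 : e0 < Nat.gcd m (q - p)) :
    (d0 = e0 ∧ ((m : ℤ) * ((q - p) / Nat.gcd m (q - p) : ℕ)) ∣ ((d1 : ℤ) - d2) - ((e1 : ℤ) - e2)) ∧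
    ((d1 : ℤ) - d2 < (e1 : ℤ) - e2 →
      (X (0 : Fin 3) ^ d0 * X (1 : Fin 3) ^ d1 * X (2 : Fin 3) ^ d2 * (X (1 : Fin 3) ^ (m / Nat.gcd m (q - p) * q) * X (2 : Fin 3) ^ (m / Nat.gcd m (q - p) * p)) : MvPolynomial (Fin 3) k) ∣ X (0 : Fin 3) ^ e0 * X (1 : Fin 3) ^ e1 * X (2 : Fin 3) ^ e2) ∧
    ((X (0 : Fin 3) ^ e0 * X (1 : Fin 3) ^ e1 * X (2 : Fin 3) ^ e2 - X (0 : Fin 3) ^ d0 * X (1 : Fin 3) ^ d1 * X (2 : Fin 3) ^ d2 : MvPolynomial (Fin 3) k) ∈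
      Ideal.span {(1 : MvPolynomial (Fin 3) k) - X (1 : Fin 3) ^ (m / Nat.gcd m (q - p) * q) * X (2 : Fin 3) ^ (m / Nat.gcd m (q - p) * p)}) := by
  obtain ⟨h00, t, hb, hc⟩ := nt_J p q m hpq hcop hm d0 e0 d1 d2 e1 e2 hd0 he0 hn.symm
    (by
      obtain ⟨z, hz⟩ := hcd
      obtain ⟨z', hz'⟩ := hce
      exact ⟨z' - z, by rw [mul_sub, ← hz, ← hz']; ring⟩)
  -- abbreviations
  have hgpos : 0 < Nat.gcd m (q - p) := Nat.gcd_pos_of_pos_left _ hm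
  obtain ⟨a, ha⟩ : Nat.gcd m (q - p) ∣ m := Nat.gcd_dvd_left _ _
  obtain ⟨r, hr⟩ : Nat.gcd m (q - p) ∣ q - p := Nat.gcd_dvd_right _ _
  have hdiv : m / Nat.gcd m (q - p) = a := Nat.div_eq_of_eq_mul_right hgpos ha
  have hdiv2 : (q - p) / Nat.gcd m (q - p) = r := Nat.div_eq_of_eq_mul_right hgpos hr
  have hqp : ((q - p : ℕ) : ℤ) = q - p := by omega
  rw [hdiv] at hb hc ⊢
  rw [hdiv2]
  obtain ⟨g, hg⟩ : ∃ g, g = Nat.gcd m (q - p) := ⟨_, rfl⟩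
  rw [← hg] at ha hr hgpos
  have haZ : (m : ℤ) = g * a := by rw [ha]; push_cast; ring
  have hrZ : (q : ℤ) - p = g * r := by rw [← hqp, hr]; push_cast; ring
  have hdiff : ((d1 : ℤ) - d2) - ((e1 : ℤ) - e2) = (m : ℤ) * r * t := by
    have : ((d1 : ℤ) - d2) - ((e1 : ℤ) - e2) = (d1 - e1) - ((d2 : ℤ) - e2) := by ring
    rw [this, hb, hc, haZ]; push_cast
    have : (a : ℤ) * q * t - a * p * t = a * t * (q - p) := by ring
    rw [this, hrZ]; ring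
  refine ⟨⟨h00, ⟨t, hdiff⟩⟩, fun hlt => ?_, ?_⟩
  · have htneg : t < 0 := by
      by_contra hcon
      push Not at hcon
      have : 0 ≤ (m : ℤ) * r * t := by positivity
      linarith
    obtain ⟨μ, hμ⟩ := Int.eq_ofNat_of_zero_le (by linarith : 0 ≤ -t - 1)
    have hb' : e1 = d1 + a * q + a * q * μ := by
      zify; rw [← hμ]; push_cast at hb; linarith
    have hc' : e2 = d2 + a * p + a * p * μ := by
      zify; rw [← hμ]; push_cast at hc; linarith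
    refine ⟨X 1 ^ (a * q * μ) * X 2 ^ (a * p * μ), ?_⟩
    rw [hb', hc', h00]; ring
  · set I : Ideal (MvPolynomial (Fin 3) k) := Ideal.span {(1 : MvPolynomial (Fin 3) k) - X (1 : Fin 3) ^ (a * q) * X (2 : Fin 3) ^ (a * p)} with hI
    rw [← Ideal.Quotient.eq]
    have R2 : Ideal.Quotient.mk I (X 1) ^ (a * q) * Ideal.Quotient.mk I (X 2) ^ (a * p) = 1 := by
      rw [← map_pow, ← map_pow, ← map_mul, ← map_one (Ideal.Quotient.mk I), eq_comm, Ideal.Quotient.eq]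
      exact Ideal.subset_span (by simp)
    simp only [map_mul, map_pow]
    rw [h00]
    rcases le_total 0 t with ht0 | ht0
    · obtain ⟨μ, rfl⟩ := Int.eq_ofNat_of_zero_le ht0
      have := compare_J (Ideal.Quotient.mk I (X 0)) (Ideal.Quotient.mk I (X 1)) (Ideal.Quotient.mk I (X 2)) _
        _ _ R2 e0 d1 d2 e1 e2 μ hb hc
      rw [this, one_pow, one_mul]
    · obtain ⟨μ, hμ⟩ := Int.eq_ofNat_of_zero_le (neg_nonneg.mpr ht0)
      have := compare_J (Ideal.Quotient.mk I (X 0)) (Ideal.Quotient.mk I (X 1)) (Ideal.Quotient.mk I (X 2)) _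
        _ _ R2 e0 e1 e2 d1 d2 μ (by rw [← hμ]; linarith) (by rw [← hμ]; linarith)
      rw [this, one_pow, one_mul]

end Groth.Agent.H9.InvHilb
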