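import Mathlib
import Groth.Agent.Lib.Helper9.Misc.FinClos

set_option linter.unusedSectionVars false

/-! Helper9: Noetherian irreducible schemes: generic point isolated iff finite iff dim ≤ 1 & finitely many closed points. -/

namespace Groth.Agent.H9.IrrFin

open AlgebraicGeometry TopologicalSpace

universe u

variable (X : Scheme.{u}) [IsNoetherian X] [IrreducibleSpace X]

lemma closure_gen : closure ({genericPoint X} : Set X) = Set.univ := (genericPoint_spec (α := X)).def

lemma one_two (h : IsOpen ({genericPoint X} : Set X)) : Finite X := by
  have h1 := FinClos.finite_closure (genericPoint X) h.isLocallyClosed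
  rw [closure_gen] at h1
  exact Set.finite_univ_iff.1 h1

lemma two_one (h : Finite X) : IsOpen ({genericPoint X} : Set X) := by
  rw [← isClosed_compl_iff]
  have : ({genericPoint X} : Set X)ᶜ = ⋃ y ∈ ({genericPoint X} : Set X)ᶜ, closure ({y} : Set X) := by
    ext t
    simp only [Set.mem_compl_iff, Set.mem_singleton_iff, Set.mem_iUnion, exists_prop]
    constructor
    · intro ht
      exact ⟨t, ht, subset_closure rfl⟩
    · rintro ⟨y, hy, hty⟩ rfl
      apply hy
      have h1 : y ⤳ genericPoint X := specializes_iff_mem_closure.2 hty
      exact (h1.antisymm (genericPoint_specializes y)).eq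
  rw [this]
  exact (Set.toFinite _).isClosed_biUnion fun y _ => isClosed_closure

lemma one_dim (h : IsOpen ({genericPoint X} : Set X)) : topologicalKrullDim X ≤ 1 := by
  have h1 := LCPoint.dim_le_one (genericPoint X) h.isLocallyClosed
  have h2 : topologicalKrullDim ↥(closure ({genericPoint X} : Set X)) = topologicalKrullDim X := by
    rw [closure_gen]
    exact IsHomeomorph.topologicalKrullDim_eq _ (Homeomorph.Set.univ X).isHomeomorph
  rwa [h2] at h1

lemma three_two (hdim : topologicalKrullDim X ≤ 1)
    (hfin : {x : X | IsClosed ({x} : Set X)}.Finite) : Finite X := by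
  rw [topologicalKrullDim, Order.krullDim_le_one_iff] at hdim
  have hsub : (Set.univ : Set X) ⊆ {genericPoint X} ∪ {x : X | IsClosed ({x} : Set X)} := by
    intro y _
    by_cases hy : y = genericPoint X
    · left; exact hy
    · right
      show IsClosed ({y} : Set X)
      rw [← closure_subset_iff_isClosed]
      intro z hz
      by_contra hzy
      have hzy' : z ≠ y := hzy
      let Zy : IrreducibleCloseds X := ⟨closure {y}, isIrreducible_singleton.closure, isClosed_closure⟩
      let Zz : IrreducibleCloseds X := ⟨closure {z}, isIrreducible_singleton.closure, isClosed_closure⟩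
      let Xt : IrreducibleCloseds X := ⟨Set.univ, IrreducibleSpace.isIrreducible_univ X, isClosed_univ⟩
      rcases hdim Zy with hmin | hmax
      · have hle : Zz ≤ Zy := by
          intro t ht
          exact (closure_minimal (Set.singleton_subset_iff.2 hz) isClosed_closure) ht
        have h2 := hmin hle
        have h3 : y ∈ closure ({z} : Set X) := h2 (subset_closure rfl : y ∈ closure ({y} : Set X))
        have h4 : z ⤳ y := specializes_iff_mem_closure.2 h3
        have h5 : y ⤳ z := specializes_iff_mem_closure.2 hz
        exact hzy' (h4.antisymm h5).eq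
      · have hle : Zy ≤ Xt := fun t _ => Set.mem_univ t
        have h2 := hmax hle
        have h3 : genericPoint X ∈ closure ({y} : Set X) := h2 (Set.mem_univ _)
        have h4 : y ⤳ genericPoint X := specializes_iff_mem_closure.2 h3
        exact hy (h4.antisymm (genericPoint_specializes y)).eq
  exact Set.finite_univ_iff.1 (((Set.finite_singleton _).union hfin).subset hsub)

theorem main :
    [IsOpen ({genericPoint X} : Set X),
      Finite X,
      topologicalKrullDim X ≤ 1 ∧ {x : X | IsClosed ({x} : Set X)}.Finite].TFAE := by
  tfae_have 1 → 2 := one_two X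
  tfae_have 2 → 1 := two_one X
  tfae_have 1 → 3 := fun h => ⟨one_dim X h, by
    have := one_two X h
    exact Set.toFinite _⟩
  tfae_have 3 → 2 := fun h => three_two X h.1 h.2
  tfae_finish

end Groth.Agent.H9.IrrFin
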