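import Mathlib

/-! Helper9: quotient of an abelian category by bounded torsion: Hom tensor Q -/

namespace Groth.Agent.H9.IsogQuot

open CategoryTheory Limits

universe v u v' u'

variable {A : Type u} [Category.{v} A] [Abelian A]

/-- the kernel of `n • 𝟙` is killed by `n` -/
theorem kernel_killed {Y : A} (n : ℤ) : n • 𝟙 (kernel (n • 𝟙 Y)) = 0 := by
  rw [← cancel_mono (kernel.ι (n • 𝟙 Y)), zero_comp, Preadditive.zsmul_comp, Category.id_comp]
  have := kernel.condition (n • 𝟙 Y)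
  rwa [Preadditive.comp_zsmul, Category.comp_id] at this

theorem cokernel_killed {Y : A} (n : ℤ) : n • 𝟙 (cokernel (n • 𝟙 Y)) = 0 := by
  rw [← cancel_epi (cokernel.π (n • 𝟙 Y)), comp_zero, Preadditive.comp_zsmul, Category.comp_id]
  have := cokernel.condition (n • 𝟙 Y)
  rwa [Preadditive.zsmul_comp, Category.id_comp] at this

/-- a morphism with kernel killed by `n₁` and cokernel killed by `n₂` admits a quasi-inverse -/
theorem exists_quasi_inverse {X' X : A} (s : X' ⟶ X) (n₁ n₂ : ℤ)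
    (h₁ : n₁ • 𝟙 (kernel s) = 0) (h₂ : n₂ • 𝟙 (cokernel s) = 0) :
    ∃ t : X ⟶ X', t ≫ s = (n₂ * n₁) • 𝟙 X := by
  let p := Abelian.coimage.π s
  let m := Abelian.factorThruCoimage s
  have hpm : p ≫ m = s := Abelian.coimage.fac s
  -- w
  have hw0 : kernel.ι s ≫ (n₁ • 𝟙 X') = 0 := by
    rw [Preadditive.comp_zsmul, Category.comp_id]
    have : (n₁ • 𝟙 (kernel s)) ≫ kernel.ι s = 0 := by rw [h₁, zero_comp]
    rwa [Preadditive.zsmul_comp, Category.id_comp] at this
  let w : Abelian.coimage s ⟶ X' := cokernel.desc (kernel.ι s) (n₁ • 𝟙 X') hw0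
  have hw : p ≫ w = n₁ • 𝟙 X' := cokernel.π_desc _ _ _
  -- u
  have hsm : s ≫ cokernel.π m = 0 := by
    have : (p ≫ m) ≫ cokernel.π m = 0 := by rw [Category.assoc, cokernel.condition, comp_zero]
    rwa [hpm] at this
  let d : cokernel s ⟶ cokernel m := cokernel.desc s (cokernel.π m) hsm
  have hd : cokernel.π s ≫ d = cokernel.π m := cokernel.π_desc _ _ _
  have hu0 : (n₂ • 𝟙 X) ≫ cokernel.π m = 0 := by
    rw [← hd, Preadditive.zsmul_comp, Category.id_comp]
    have : cokernel.π s ≫ (n₂ • 𝟙 (cokernel s)) ≫ d = 0 := by rw [h₂, zero_comp, comp_zero]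
    rwa [Preadditive.zsmul_comp, Category.id_comp, Preadditive.comp_zsmul] at this
  let u : X ⟶ Abelian.coimage s := Abelian.monoLift m (n₂ • 𝟙 X) hu0
  have hu : u ≫ m = n₂ • 𝟙 X := Abelian.monoLift_comp _ _ _
  -- w ≫ s = n₁ • m
  have hws : w ≫ s = n₁ • m := by
    rw [← cancel_epi p, ← Category.assoc, hw, Preadditive.zsmul_comp, Category.id_comp,
      Preadditive.comp_zsmul, hpm]
  refine ⟨u ≫ w, ?_⟩
  rw [Category.assoc, hws, Preadditive.comp_zsmul, hu, smul_smul, mul_comm]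

variable {D : Type u'} [Category.{v'} D] [Preadditive D]

theorem main (P : ObjectProperty A) (hP : ∀ X : A, P X ↔ ∃ n : ℤ, n ≠ 0 ∧ n • (𝟙 X) = 0)
    [P.IsSerreClass]
    (L : A ⥤ D) [L.Additive] [L.IsLocalization P.isoModSerre] (X Y : A) :
    (∀ n : ℤ, n ≠ 0 → Function.Bijective (fun g : L.obj X ⟶ L.obj Y => n • g)) ∧
    (∀ f : X ⟶ Y, L.map f = 0 ↔ ∃ n : ℤ, n ≠ 0 ∧ n • f = 0) ∧
    (∀ g : L.obj X ⟶ L.obj Y, ∃ (n : ℤ) (f : X ⟶ Y), n ≠ 0 ∧ n • g = L.map f) := by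
  have hiso : ∀ (Z : A) (n : ℤ), n ≠ 0 → IsIso (n • 𝟙 (L.obj Z)) := by
    intro Z n hn
    have hW : P.isoModSerre (n • 𝟙 Z) :=
      ⟨(hP _).mpr ⟨n, hn, kernel_killed n⟩, (hP _).mpr ⟨n, hn, cokernel_killed n⟩⟩
    have := Localization.inverts L P.isoModSerre _ hW
    rwa [L.map_zsmul, L.map_id] at this
  refine ⟨?_, ?_, ?_⟩
  · intro n hn
    have := hiso Y n hn
    constructor
    · intro g g' h
      have h' : g ≫ (n • 𝟙 (L.obj Y)) = g' ≫ (n • 𝟙 (L.obj Y)) := by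
        simpa [Preadditive.comp_zsmul] using h
      exact (cancel_mono _).mp h'
    · intro g
      refine ⟨g ≫ inv (n • 𝟙 (L.obj Y)), ?_⟩
      change n • (g ≫ inv (n • 𝟙 (L.obj Y))) = g
      have : (g ≫ inv (n • 𝟙 (L.obj Y))) ≫ (n • 𝟙 (L.obj Y)) = g := by
        rw [Category.assoc, IsIso.inv_hom_id, Category.comp_id]
      rwa [Preadditive.comp_zsmul, Category.comp_id] at this
  · intro f
    rw [ObjectProperty.SerreClassLocalization.map_eq_zero_iff L P f, hP]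
    have hfac : Abelian.factorThruImage f ≫ Abelian.image.ι f = f := Abelian.image.fac f
    constructor
    · rintro ⟨n, hn, h⟩
      refine ⟨n, hn, ?_⟩
      have : Abelian.factorThruImage f ≫ (n • 𝟙 _) ≫ Abelian.image.ι f = 0 := by
        rw [h, zero_comp, comp_zero]
      rwa [Preadditive.zsmul_comp, Category.id_comp, Preadditive.comp_zsmul, hfac] at this
    · rintro ⟨n, hn, h⟩
      refine ⟨n, hn, ?_⟩
      rw [← cancel_epi (Abelian.factorThruImage f), ← cancel_mono (Abelian.image.ι f), comp_zero,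
        zero_comp, Preadditive.comp_zsmul, Category.comp_id, Preadditive.zsmul_comp, hfac, h]
  · intro g
    obtain ⟨φ, hφ⟩ := Localization.exists_rightFraction L P.isoModSerre g
    obtain ⟨n₁, hn₁, h₁⟩ := (hP _).mp φ.hs.1
    obtain ⟨n₂, hn₂, h₂⟩ := (hP _).mp φ.hs.2
    obtain ⟨t, ht⟩ := exists_quasi_inverse φ.s n₁ n₂ h₁ h₂
    refine ⟨n₂ * n₁, t ≫ φ.f, mul_ne_zero hn₂ hn₁, ?_⟩
    have : IsIso (L.map φ.s) := Localization.inverts L P.isoModSerre _ φ.hs
    rw [hφ, MorphismProperty.RightFraction.map, L.map_comp]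
    have h3 : L.map t ≫ L.map φ.s = (n₂ * n₁) • 𝟙 _ := by
      rw [← L.map_comp, ht, L.map_zsmul, L.map_id]
    have h4 : L.map t = (n₂ * n₁) • inv (L.map φ.s) := by
      rw [← cancel_mono (L.map φ.s), h3, Preadditive.zsmul_comp, IsIso.inv_hom_id]
    rw [h4, Preadditive.zsmul_comp]

end Groth.Agent.H9.IsogQuot
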