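import Mathlib

set_option autoImplicit false
set_option linter.style.haveILetI false
set_option linter.unusedSectionVars false
set_option linter.unusedVariables false

namespace Groth.Agent.H9.JAC

universe u

lemma exists_maximal_disjoint {A : Type*} [CommRing A] (I : Ideal A) (S : Submonoid A)
    (disjoint : Disjoint (I : Set A) S) :
    ∃ p : Ideal A, p.IsPrime ∧ I ≤ p ∧ Disjoint (p : Set A) S ∧
      ∀ J : Ideal A, p ≤ J → Disjoint (J : Set A) S → J = p := by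
  have ⟨p, hIp, hp⟩ := zorn_le_nonempty₀ {p : Ideal A | Disjoint (p : Set A) S}
    (fun c hc hc' x hx ↦ ?_) I disjoint
  · exact ⟨p, Ideal.isPrime_of_maximally_disjoint _ _ hp.1 (fun _ ↦ hp.not_prop_of_gt), hIp, hp.1,
      fun J hJ hd => (hp.eq_of_ge hd hJ)⟩
  cases isEmpty_or_nonempty c
  · exact ⟨I, disjoint, fun J hJ ↦ isEmptyElim (⟨J, hJ⟩ : c)⟩
  refine ⟨sSup c, Set.disjoint_left.mpr fun x hx ↦ ?_, fun _ ↦ le_sSup⟩
  have ⟨p, hp⟩ := (Submodule.mem_iSup_of_directed _ hc'.directed).mp (sSup_eq_iSup' c ▸ hx)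
  exact Set.disjoint_left.mp (hc p.2) hp

lemma isJacobsonRing_of_quasiFinite (A B : Type*) [CommRing A] [CommRing B] [Algebra A B]
    [Module.FaithfullyFlat A B] [Algebra.QuasiFinite A B] [IsJacobsonRing B] :
    IsJacobsonRing A := by
  rw [isJacobsonRing_iff_prime_eq]
  intro P hP
  refine le_antisymm ?_ Ideal.le_jacobson
  intro x hx
  by_contra hxP
  have hdisj : Disjoint (P : Set A) (Submonoid.powers x) := by
    rw [Set.disjoint_right]
    rintro _ ⟨n, rfl⟩ h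
    exact hxP (hP.mem_of_pow_mem n h)
  obtain ⟨P₁, hP₁, hPP₁, hd₁, hmax⟩ := exists_maximal_disjoint P _ hdisj
  have hxP₁ : x ∉ P₁ := fun h => Set.disjoint_right.mp hd₁ (Submonoid.mem_powers x) h
  have hnotmax : ¬ P₁.IsMaximal := fun hm => hxP₁ (by
    rw [Ideal.jacobson, Ideal.mem_sInf] at hx
    exact hx ⟨hPP₁, hm⟩)
  obtain ⟨p, hp, hP₁p⟩ := Ideal.exists_le_maximal P₁ hP₁.ne_top
  have hne : P₁ ≠ p := fun h => hnotmax (h ▸ hp)
  haveI := hp.isPrime
  obtain ⟨q, hq, hqp⟩ := Ideal.exists_isPrime_liesOver_of_faithfullyFlat (B := B) p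
  obtain ⟨q₀, hq₀q, hq₀, hq₀P₁⟩ := Ideal.exists_ideal_le_liesOver_of_le (p := P₁) (q := p) q hP₁p
  have hxq₀ : algebraMap A B x ∉ q₀ := by
    intro h
    apply hxP₁
    rw [hq₀P₁.over, Ideal.under_def, Ideal.mem_comap]
    exact h
  have hjac : q₀.jacobson = q₀ := IsJacobsonRing.out inferInstance hq₀.isRadical
  have : ∃ n : Ideal B, q₀ ≤ n ∧ n.IsMaximal ∧ algebraMap A B x ∉ n := by
    by_contra hcon
    push Not at hcon
    apply hxq₀
    rw [← hjac, Ideal.jacobson, Ideal.mem_sInf]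
    rintro n ⟨hn1, hn2⟩
    exact hcon n hn1 hn2
  obtain ⟨n, hq₀n, hn, hxn⟩ := this
  haveI := hn.isPrime
  -- n ∩ A = P₁
  have hnA : n.under A = P₁ := by
    apply hmax
    · rw [hq₀P₁.over]
      exact Ideal.comap_mono hq₀n
    · rw [Set.disjoint_right]
      rintro _ ⟨m, rfl⟩ h
      have h' : x ∈ n.under A := (Ideal.IsPrime.under A n).mem_of_pow_mem m h
      exact hxn h'
  have hq₀n' : q₀ = n :=
    Algebra.QuasiFinite.eq_of_le_of_under_eq (R := A) q₀ n hq₀n (by rw [hnA, ← hq₀P₁.over])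
  have hq₀max : q₀.IsMaximal := hq₀n' ▸ hn
  have hq₀q' : q₀ = q := hq₀max.eq_of_le hq.ne_top hq₀q
  apply hne
  rw [hq₀P₁.over, hqp.over, hq₀q']

end Groth.Agent.H9.JAC
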