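import Mathlib

/-! Helper9: centralizers and Jordan-Chevalley decomposition -/

namespace Groth.Agent.H9.JCCent

open TensorProduct Module

universe u

variable (k : Type u) [Field k] [PerfectField k]
    (V : Type u) [AddCommGroup V] [Module k V] [FiniteDimensional k V]

theorem mem_adjoin {X Y N : Module.End k V} (hY : Y.IsSemisimple) (hN : IsNilpotent N)
    (hc : Commute Y N) (hX : X = Y + N) :
    Y ∈ Algebra.adjoin k {X} ∧ N ∈ Algebra.adjoin k {X} := by
  obtain ⟨n₀, hn₀, s₀, hs₀, hnil, hss, h₀⟩ := X.exists_isNilpotent_isSemisimple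
  have hsX : Commute s₀ X := (Algebra.commute_of_mem_adjoin_singleton_of_commute hs₀ (Commute.refl X)).symm
  have hns : Commute n₀ s₀ := (Algebra.commute_of_mem_adjoin_singleton_of_commute hn₀ hsX).symm
  have := Module.End.isNilpotent_isSemisimple_unique hN hY hnil hss hc.symm hns
    (by rw [add_comm, ← hX, h₀])
  exact ⟨this.2 ▸ hs₀, this.1 ▸ hn₀⟩

variable (R : Type u) [CommRing R] [Algebra k R]

theorem commute_baseChange {X Z : Module.End k V} (hZ : Z ∈ Algebra.adjoin k {X})
    (h : Module.End R (R ⊗[k] V)) (hh : Commute h (X.baseChange R)) : Commute h (Z.baseChange R) := by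
  have h1 : (Module.End.baseChangeHom k R V) Z ∈
      (Algebra.adjoin k {X}).map (Module.End.baseChangeHom k R V) := ⟨Z, hZ, rfl⟩
  rw [AlgHom.map_adjoin, Set.image_singleton] at h1
  exact Algebra.commute_of_mem_adjoin_singleton_of_commute h1 hh

theorem additive (h : Module.End R (R ⊗[k] V)) (X Y N : Module.End k V) (hY : Y.IsSemisimple)
    (hN : IsNilpotent N) (hc : Commute Y N) (hX : X = Y + N) :
    (Commute h (X.baseChange R) ↔ Commute h (Y.baseChange R) ∧ Commute h (N.baseChange R)) := by
  obtain ⟨hYm, hNm⟩ := mem_adjoin k V hY hN hc hX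
  constructor
  · intro hh
    exact ⟨commute_baseChange k V R hYm h hh, commute_baseChange k V R hNm h hh⟩
  · rintro ⟨h1, h2⟩
    rw [hX, LinearMap.baseChange_add]
    exact h1.add_right h2

theorem main (h : Module.End R (R ⊗[k] V)) :
    (∀ (g t u : Module.End k V), IsUnit g → t.IsSemisimple → IsNilpotent (u - 1) → Commute t u → g = t * u →
      (Commute h (g.baseChange R) ↔ Commute h (t.baseChange R) ∧ Commute h (u.baseChange R))) ∧
    (∀ (X Y N : Module.End k V), Y.IsSemisimple → IsNilpotent N → Commute Y N → X = Y + N →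
      (Commute h (X.baseChange R) ↔ Commute h (Y.baseChange R) ∧ Commute h (N.baseChange R))) := by
  refine ⟨?_, fun X Y N hY hN hc hX => additive k V R h X Y N hY hN hc hX⟩
  intro g t u hg ht hu hc hgt
  have hcN : Commute t (t * (u - 1)) := (Commute.refl t).mul_right (hc.sub_right (Commute.one_right t))
  have hNnil : IsNilpotent (t * (u - 1)) :=
    (hc.sub_right (Commute.one_right t)).isNilpotent_mul_left hu
  have hX : g = t + t * (u - 1) := by rw [hgt]; noncomm_ring
  have hadd := additive k V R h g t (t * (u - 1)) ht hNnil hcN hX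
  have htu : IsUnit t := ((hc.isUnit_mul_iff).mp (hgt ▸ hg)).1
  have htRu : IsUnit (t.baseChange R) := htu.map (Module.End.baseChangeHom k R V)
  have hbc : (t * (u - 1)).baseChange R = t.baseChange R * (u.baseChange R - 1) := by
    rw [LinearMap.baseChange_mul, LinearMap.baseChange_sub, LinearMap.baseChange_one]
  constructor
  · intro hh
    obtain ⟨h1, h2⟩ := hadd.mp hh
    refine ⟨h1, ?_⟩
    obtain ⟨v, hv⟩ := htRu
    rw [hbc, ← hv] at h2
    have h3 : Commute h (↑v⁻¹ : Module.End R (R ⊗[k] V)) := by
      rw [← hv] at h1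
      exact h1.units_inv_right
    have h4 : Commute h (↑v⁻¹ * (↑v * (u.baseChange R - 1))) := h3.mul_right h2
    rw [← mul_assoc, Units.inv_mul, one_mul] at h4
    have := h4.add_right (Commute.one_right h)
    have e : u.baseChange R = (u.baseChange R - 1) + 1 := by abel
    rw [e]
    exact this
  · rintro ⟨h1, h2⟩
    rw [hgt, LinearMap.baseChange_mul]
    exact h1.mul_right h2

end Groth.Agent.H9.JCCent
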