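import Mathlib

set_option autoImplicit false
set_option linter.style.haveILetI false
set_option linter.unusedSectionVars false
set_option linter.unusedVariables false

namespace Groth.Agent.H9.JGS

open Finset

variable {F : Type} [Field F] [Fintype F] [DecidableEq F] {R : Type} [CommRing R] [IsDomain R]

lemma addChar_sum {ι : Type*} (Ψ : AddChar F R) (s : Finset ι) (a : ι → F) :
    Ψ (∑ i ∈ s, a i) = ∏ i ∈ s, Ψ (a i) := by
  classical
  induction s using Finset.induction_on with
  | empty => simp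
  | insert i s hi ih => rw [Finset.sum_insert hi, Finset.prod_insert hi, AddChar.map_add_eq_mul, ih]

lemma sum_eq_add_units (f : F → R) : ∑ a : F, f a = f 0 + ∑ u : Fˣ, f (u : F) := by
  rw [← Finset.add_sum_erase univ f (Finset.mem_univ 0)]
  congr 1
  rw [Finset.sum_subtype (p := fun a : F => a ≠ 0) _ (by simp)]
  exact (Fintype.sum_equiv unitsEquivNeZero _ _ (fun u => rfl)).symm

lemma sum_units_eq (f : F → R) (h0 : f 0 = 0) : ∑ u : Fˣ, f (u : F) = ∑ a : F, f a := by
  rw [sum_eq_add_units f, h0, zero_add]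

lemma mulChar_prod_apply {ι : Type*} (s : Finset ι) (η : ι → MulChar F R) (t : Fˣ) :
    (∏ i ∈ s, η i) (t : F) = ∏ i ∈ s, η i (t : F) := by
  classical
  induction s using Finset.induction_on with
  | empty => rw [Finset.prod_empty, Finset.prod_empty, MulChar.one_apply_coe]
  | insert i s hi ih => rw [Finset.prod_insert hi, Finset.prod_insert hi, MulChar.mul_apply, ih]

/-- the reparametrisation `(t, x) ↦ (t, t x_1, …, t x_N)` -/
def repar (N : ℕ) : Fˣ × (Fin N → Fˣ) ≃ (Fin (N + 1) → Fˣ) where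
  toFun p := Fin.cons p.1 (fun i => p.1 * p.2 i)
  invFun z := (z 0, fun i => (z 0)⁻¹ * z i.succ)
  left_inv := by
    rintro ⟨t, x⟩
    simp
  right_inv := by
    intro z
    funext i
    refine Fin.cases ?_ (fun j => ?_) i
    · simp
    · simp

theorem main (N : ℕ) (hN : 1 ≤ N) (χ : Fin (N + 1) → MulChar F R) (hprod : ∏ i, χ i = 1)
    (hnt : ∃ i, χ i ≠ 1) (Ψ : AddChar F R) (hΨ : Ψ ≠ 1) :
    (Fintype.card F : R) * ((-1) ^ (N - 1) *
        ∑ x ∈ (Finset.univ : Finset (Fin N → Fˣ)).filter (fun x => ∑ i, ((x i : Fˣ) : F) = -1),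
          ∏ i : Fin N, (χ i.succ)⁻¹ ((x i : Fˣ) : F)) =
      ∏ i : Fin (N + 1), (-(∑ y : F, Ψ y * (χ i)⁻¹ y)) := by
  classical
  set η : Fin (N + 1) → MulChar F R := fun i => (χ i)⁻¹ with hη
  have hηprod : ∏ i, η i = 1 := by
    simp only [hη]
    rw [Finset.prod_inv_distrib, hprod, inv_one]
  have hηnt : ∃ i, η i ≠ 1 := by
    obtain ⟨i, hi⟩ := hnt
    exact ⟨i, fun h => hi (by simpa [hη] using h)⟩
  have hprim : Ψ.IsPrimitive := AddChar.IsPrimitive.of_ne_one hΨ
  -- the key identity
  have key : ∏ i : Fin (N + 1), (∑ y : F, Ψ y * η i y) =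
      (Fintype.card F : R) *
        ∑ x ∈ (Finset.univ : Finset (Fin N → Fˣ)).filter (fun x => ∑ i, ((x i : Fˣ) : F) = -1),
          ∏ i : Fin N, η i.succ ((x i : Fˣ) : F) := by
    have h1 : ∀ i, ∑ y : F, Ψ y * η i y = ∑ u : Fˣ, Ψ (u : F) * η i (u : F) := by
      intro i
      rw [sum_units_eq (fun y => Ψ y * η i y) (by simp [MulChar.map_zero])]
    simp_rw [h1]
    rw [Fintype.prod_sum]
    rw [← Fintype.sum_equiv (repar N) (fun p => ∏ i, Ψ ((repar N p i : Fˣ) : F) *
      η i ((repar N p i : Fˣ) : F)) _ (fun p => rfl)]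
    rw [Fintype.sum_prod_type_right]
    -- inner sums
    have h2 : ∀ x : Fin N → Fˣ, ∑ t : Fˣ, (∏ i, Ψ ((repar N (t, x) i : Fˣ) : F) *
        η i ((repar N (t, x) i : Fˣ) : F)) =
        ((if (1 + ∑ i, ((x i : Fˣ) : F)) = 0 then (Fintype.card F : R) else 0) - 1) *
          ∏ i : Fin N, η i.succ ((x i : Fˣ) : F) := by
      intro x
      have h3 : ∀ t : Fˣ, (∏ i, Ψ ((repar N (t, x) i : Fˣ) : F) *
          η i ((repar N (t, x) i : Fˣ) : F)) =
          Ψ ((t : F) * (1 + ∑ i, ((x i : Fˣ) : F))) * ∏ i : Fin N, η i.succ ((x i : Fˣ) : F) := by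
        intro t
        rw [Finset.prod_mul_distrib, ← addChar_sum]
        congr 1
        · congr 1
          rw [Fin.sum_univ_succ]
          simp only [repar, Equiv.coe_fn_mk, Fin.cons_zero, Fin.cons_succ, Units.val_mul]
          rw [mul_add, mul_one, Finset.mul_sum]
        · rw [Fin.prod_univ_succ]
          simp only [repar, Equiv.coe_fn_mk, Fin.cons_zero, Fin.cons_succ, Units.val_mul, map_mul]
          rw [Finset.prod_mul_distrib, ← mul_assoc]
          have h4 : η 0 (t : F) * ∏ i : Fin N, η i.succ (t : F) = 1 := by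
            rw [← Fin.prod_univ_succ (fun i => η i (t : F)), ← mulChar_prod_apply, hηprod,
              MulChar.one_apply_coe]
          rw [h4, one_mul]
      simp_rw [h3]
      rw [← Finset.sum_mul]
      congr 1
      have h5 := AddChar.sum_mulShift (1 + ∑ i, ((x i : Fˣ) : F)) hprim
      rw [sum_eq_add_units, zero_mul, AddChar.map_zero_eq_one] at h5
      rw [eq_sub_iff_add_eq, add_comm, h5]
      split_ifs <;> simp
    simp_rw [h2]
    -- split the sum
    have h6 : ∀ x : Fin N → Fˣ,
        ((if (1 + ∑ i, ((x i : Fˣ) : F)) = 0 then (Fintype.card F : R) else 0) - 1) *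
          ∏ i : Fin N, η i.succ ((x i : Fˣ) : F) =
        (if ∑ i, ((x i : Fˣ) : F) = -1 then
          (Fintype.card F : R) * ∏ i : Fin N, η i.succ ((x i : Fˣ) : F) else 0) -
          ∏ i : Fin N, η i.succ ((x i : Fˣ) : F) := by
      intro x
      have : (1 + ∑ i, ((x i : Fˣ) : F)) = 0 ↔ ∑ i, ((x i : Fˣ) : F) = -1 := by
        constructor
        · intro h; linear_combination h
        · intro h; rw [h]; ring
      simp only [this]
      split_ifs <;> ring
    simp_rw [h6]
    rw [Finset.sum_sub_distrib, ← Finset.sum_filter, ← Finset.mul_sum]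
    -- the full sum vanishes
    have h7 : ∑ x : Fin N → Fˣ, ∏ i : Fin N, η i.succ ((x i : Fˣ) : F) = 0 := by
      rw [← Fintype.prod_sum (fun (i : Fin N) (u : Fˣ) => η i.succ (u : F))]
      -- some η i.succ is nontrivial
      have h8 : ∃ i : Fin N, η i.succ ≠ 1 := by
        by_contra hcon
        push Not at hcon
        have h9 : η 0 = 1 := by
          rw [← hηprod, Fin.prod_univ_succ]
          simp [hcon]
        obtain ⟨i, hi⟩ := hηnt
        apply hi
        refine Fin.cases h9 (fun j => hcon j) i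
      obtain ⟨i, hi⟩ := h8
      apply Finset.prod_eq_zero (Finset.mem_univ i)
      rw [sum_units_eq (fun a => η i.succ a) (MulChar.map_zero _)]
      exact MulChar.sum_eq_zero_of_ne_one hi
    rw [h7, sub_zero]
  -- conclude with the signs
  have hsign : ∏ i : Fin (N + 1), (-(∑ y : F, Ψ y * η i y)) =
      (-1) ^ (N + 1) * ∏ i : Fin (N + 1), (∑ y : F, Ψ y * η i y) := by
    rw [Finset.prod_neg]
    simp
  show _ = ∏ i : Fin (N + 1), (-(∑ y : F, Ψ y * η i y))
  rw [hsign, key]
  have hpow : ((-1 : R)) ^ (N + 1) = (-1) ^ (N - 1) := by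
    have : N + 1 = (N - 1) + 2 := by omega
    rw [this, pow_add]
    simp
  rw [hpow]
  ring

end Groth.Agent.H9.JGS
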