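import Mathlib

/-! Helper9: locally quasi-constructible subsets of Jacobson spaces are Jacobson. -/

namespace Groth.Agent.H9.JacLQC

universe u

theorem main {X : Type u} [TopologicalSpace X] [JacobsonSpace X]
    (Z : Set X)
    (hZ : ∀ x : X, ∃ U : Set X, IsOpen U ∧ x ∈ U ∧
      ∃ T : Set (Set X), T.Finite ∧ (∀ t ∈ T, IsLocallyClosed t) ∧ U ∩ Z = ⋃₀ T) :
    JacobsonSpace ↥Z ∧ ∀ z : ↥Z, IsClosed ({z} : Set ↥Z) ↔ IsClosed ({(z : X)} : Set X) := by
  have hcl : ∀ z : ↥Z, IsClosed ({(z : X)} : Set X) → IsClosed ({z} : Set ↥Z) := by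
    intro z hz
    have := hz.preimage continuous_subtype_val (X := ↥Z)
    rwa [← Set.image_singleton, Subtype.val_injective.preimage_image] at this
  refine ⟨?_, fun z => ⟨fun hz => ?_, hcl z⟩⟩
  · rw [jacobsonSpace_iff_locallyClosed]
    rintro W ⟨w, hw⟩ ⟨O, C, hO, hC, rfl⟩
    obtain ⟨O', hO', rfl⟩ := isOpen_induced_iff.1 hO
    obtain ⟨C', hC', rfl⟩ := isClosed_induced_iff.1 hC
    obtain ⟨U, hU, hwU, T, hTfin, hT, hUZ⟩ := hZ w
    have hwUZ : (w : X) ∈ U ∩ Z := ⟨hwU, w.2⟩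
    rw [hUZ] at hwUZ
    obtain ⟨t, htT, hwt⟩ := hwUZ
    have htZ : t ⊆ Z := fun y hy => by
      have : y ∈ ⋃₀ T := ⟨t, htT, hy⟩
      rw [← hUZ] at this
      exact this.2
    have hL : IsLocallyClosed (t ∩ (O' ∩ C')) :=
      (hT t htT).inter (hO'.isLocallyClosed.inter hC'.isLocallyClosed)
    have hne : (t ∩ (O' ∩ C')).Nonempty := ⟨(w : X), hwt, hw.1, hw.2⟩
    obtain ⟨x, ⟨hxt, hxO, hxC⟩, hx⟩ :=
      (jacobsonSpace_iff_locallyClosed.1 ‹JacobsonSpace X›) _ hne hL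
    exact ⟨⟨x, htZ hxt⟩, ⟨hxO, hxC⟩, hcl _ hx⟩
  · apply isClosed_singleton_of_isLocallyClosed_singleton
    obtain ⟨U, hU, hzU, T, hTfin, hT, hUZ⟩ := hZ z
    have hzUZ : (z : X) ∈ U ∩ Z := ⟨hzU, z.2⟩
    rw [hUZ] at hzUZ
    obtain ⟨t, htT, hzt⟩ := hzUZ
    have htZ : t ⊆ Z := fun y hy => by
      have : y ∈ ⋃₀ T := ⟨t, htT, hy⟩
      rw [← hUZ] at this
      exact this.2
    have hEq : ({(z : X)} : Set X) = t ∩ closure {(z : X)} := by
      apply Set.Subset.antisymm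
      · rintro _ rfl
        exact ⟨hzt, subset_closure rfl⟩
      · rintro y ⟨hyt, hyc⟩
        have hy' : (⟨y, htZ hyt⟩ : ↥Z) ∈ closure ({z} : Set ↥Z) := by
          rw [closure_subtype]
          simpa using hyc
        rw [hz.closure_eq] at hy'
        exact congrArg Subtype.val (Set.mem_singleton_iff.1 hy')
    rw [hEq]
    exact (hT t htT).inter isClosed_closure.isLocallyClosed

end Groth.Agent.H9.JacLQC
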