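import Mathlib
import Groth.Agent.Lib.Helper9.Misc.GPrime

/-! Helper9: complement of V(I), I in the Jacobson radical of a Noetherian ring, is Jacobson (S9832). -/

namespace Groth.Agent.H9.JacOpen

universe u

theorem main (R : Type u) [CommRing R] [IsNoetherianRing R]
    (I : Ideal R) (hI : I ≤ (⊥ : Ideal R).jacobson) :
    JacobsonSpace ↥((PrimeSpectrum.zeroLocus (I : Set R))ᶜ) := by
  rw [jacobsonSpace_iff_locallyClosed]
  rintro Z ⟨p, hpZ⟩ hZ
  obtain ⟨O, C, hO, hC, rfl⟩ := hZ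
  obtain ⟨O', hO', rfl⟩ := isOpen_induced_iff.1 hO
  obtain ⟨_, ⟨f, rfl⟩, hpf, hfO⟩ :=
    PrimeSpectrum.isTopologicalBasis_basic_opens.exists_subset_of_mem_open hpZ.1 hO'
  have hpI : ¬ (I : Set R) ⊆ p.1.asIdeal := fun h => p.2 ((PrimeSpectrum.mem_zeroLocus _ _).2 h)
  obtain ⟨g, hgI, hgp⟩ := Set.not_subset.1 hpI
  have hfg : f * g ∉ p.1.asIdeal := fun h => (p.1.2.mem_or_mem h).elim hpf hgp
  obtain ⟨q, hq, hpq, hfgq, hmaxq, -⟩ := GPrime.exists_gprime_noeth p.1.asIdeal (f * g) hfg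
  have hgq : g ∉ q := fun h => hfgq (Ideal.mul_mem_left _ f h)
  let Q : PrimeSpectrum R := ⟨q, hq⟩
  have hQ : Q ∈ (PrimeSpectrum.zeroLocus (I : Set R))ᶜ := by
    intro h
    exact hgq ((PrimeSpectrum.mem_zeroLocus _ _).1 h hgI)
  let Q' : ↥((PrimeSpectrum.zeroLocus (I : Set R))ᶜ) := ⟨Q, hQ⟩
  refine ⟨Q', ⟨?_, ?_⟩, ?_⟩
  · apply hfO
    show f ∉ q
    exact fun h => hfgq (Ideal.mul_mem_right g _ h)
  · have : p ⤳ Q' := by
      rw [subtype_specializes_iff]
      exact (PrimeSpectrum.le_iff_specializes _ _).1 hpq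
    exact this.mem_closed hC hpZ.2
  · rw [mem_closedPoints_iff, ← closure_subset_iff_isClosed]
    intro q' hq'
    have h1 : Q' ⤳ q' := specializes_iff_mem_closure.2 hq'
    rw [subtype_specializes_iff] at h1
    have hle : q ≤ q'.1.asIdeal := (PrimeSpectrum.le_iff_specializes Q q'.1).2 h1
    by_contra hne
    have hne' : q'.1.asIdeal ≠ q := by
      intro h
      apply hne
      rw [Set.mem_singleton_iff]
      exact Subtype.ext (PrimeSpectrum.ext h)
    -- the image of q' in R/q is a nonzero prime, hence maximal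
    let J := q'.1.asIdeal.map (Ideal.Quotient.mk q)
    have hker : RingHom.ker (Ideal.Quotient.mk q) ≤ q'.1.asIdeal := by
      rw [Ideal.mk_ker]; exact hle
    have hJ : J.IsPrime := Ideal.map_isPrime_of_surjective Ideal.Quotient.mk_surjective hker
    have hcomap : J.comap (Ideal.Quotient.mk q) = q'.1.asIdeal :=
      Ideal.comap_map_of_surjective' _ Ideal.Quotient.mk_surjective _ |>.trans
        (by rw [Ideal.mk_ker]; exact sup_eq_left.2 hle)
    have hJ0 : J ≠ ⊥ := by
      intro h0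
      apply hne'
      rw [← hcomap, h0, ← RingHom.ker_eq_comap_bot, Ideal.mk_ker]
    have hmax : J.IsMaximal := hmaxq J hJ0 hJ
    have hq'max : q'.1.asIdeal.IsMaximal := hcomap ▸ Ideal.comap_isMaximal_of_surjective _
      Ideal.Quotient.mk_surjective
    have hIq' : I ≤ q'.1.asIdeal := by
      refine hI.trans ?_
      rw [Ideal.jacobson_bot]
      exact Ring.jacobson_le_of_isMaximal _  -- placeholder
    exact q'.2 ((PrimeSpectrum.mem_zeroLocus _ _).2 hIq')

end Groth.Agent.H9.JacOpen
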