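import Mathlib

/-! Helper9: vanishing of the top coefficient of a Jacobian in char p (S18153). -/

namespace Groth.Agent.H9.JacP
open MvPolynomial

universe u w

section det
variable {R : Type u} [CommRing R] {m : ℕ}

/-- a matrix with all column sums zero has zero determinant -/
lemma det_eq_zero_of_colsum (hm : 0 < m) (E : Matrix (Fin m) (Fin m) R)
    (h : ∀ j, ∑ i, E i j = 0) : E.det = 0 := by
  have h1 : Matrix.vecMul (1 : Fin m → R) E = 0 := by
    funext j
    simp only [Matrix.vecMul, dotProduct, Pi.one_apply, one_mul, Pi.zero_apply]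
    exact h j
  have h2 : Matrix.vecMul (Matrix.vecMul (1 : Fin m → R) E) E.adjugate = 0 := by
    rw [h1, Matrix.zero_vecMul]
  rw [Matrix.vecMul_vecMul, Matrix.mul_adjugate, Matrix.vecMul_smul, Matrix.vecMul_one] at h2
  have := congrFun h2 ⟨0, hm⟩
  simpa using this

end det

variable (p : ℕ) [Fact p.Prime] (R : Type u) [CommRing R] [CharP R p] {m : ℕ} (σ : Type w)

/-- the multilinear map `f ↦ coeff μ (det (∂f_i/∂t_j))` -/
noncomputable def Phi (μ : (Fin m ⊕ σ) →₀ ℕ) :
    MultilinearMap R (fun _ : Fin m => MvPolynomial (Fin m ⊕ σ) R) R :=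
  (MvPolynomial.lcoeff R μ).compMultilinearMap
    (((Matrix.detRowAlternating (n := Fin m)
      (R := MvPolynomial (Fin m ⊕ σ) R)).toMultilinearMap.restrictScalars R).compLinearMap
      (fun _ => LinearMap.pi (fun j => (MvPolynomial.pderiv (Sum.inl j)).toLinearMap)))

lemma Phi_apply (μ : (Fin m ⊕ σ) →₀ ℕ) (f : Fin m → MvPolynomial (Fin m ⊕ σ) R) :
    Phi R σ μ f = MvPolynomial.coeff μ
      (Matrix.of fun i j : Fin m => MvPolynomial.pderiv (Sum.inl j) (f i)).det := rfl

include p in
lemma Phi_monomial (hm : 0 < m) (v : Fin m → ((Fin m ⊕ σ) →₀ ℕ)) :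
    Phi R σ (Finsupp.sumElim (Finsupp.equivFunOnFinite.symm fun _ : Fin m => p - 1)
      (0 : σ →₀ ℕ)) (fun i => monomial (v i) 1) = 0 := by
  classical
  set μ : (Fin m ⊕ σ) →₀ ℕ := Finsupp.sumElim (Finsupp.equivFunOnFinite.symm fun _ : Fin m => p - 1)
      (0 : σ →₀ ℕ) with hμ
  rw [Phi_apply, Matrix.det_apply, coeff_sum]
  let E : Matrix (Fin m) (Fin m) R := Matrix.of fun i j => ((v i (Sum.inl j) : ℕ) : R)
  let C : Prop := ∑ i, v i = μ + ∑ i : Fin m, Finsupp.single (Sum.inl i) 1
  have hterm : ∀ π : Equiv.Perm (Fin m),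
      coeff μ (Equiv.Perm.sign π • ∏ i, (Matrix.of fun i j : Fin m =>
        MvPolynomial.pderiv (Sum.inl j) (monomial (v i) (1 : R))) (π i) i) =
      Equiv.Perm.sign π • (if C then ∏ i, E (π i) i else 0) := by
    intro π
    have h1 : ∀ i, (Matrix.of fun i j : Fin m =>
        MvPolynomial.pderiv (Sum.inl j) (monomial (v i) (1 : R))) (π i) i =
        monomial (v (π i) - Finsupp.single (Sum.inl i) 1) ((v (π i) (Sum.inl i) : ℕ) : R) := by
      intro i
      rw [Matrix.of_apply, pderiv_monomial, one_mul]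
    rw [Finset.prod_congr rfl (fun i _ => h1 i), ← monomial_sum_prod]
    have h2 : ∀ (z : ℤˣ) (q : MvPolynomial (Fin m ⊕ σ) R), coeff μ (z • q) = z • coeff μ q := by
      intro z q
      rcases Int.units_eq_one_or z with rfl | rfl <;> simp
    rw [h2, coeff_monomial]
    congr 1
    by_cases h0 : ∃ i, v (π i) (Sum.inl i) = 0
    · obtain ⟨i, hi⟩ := h0
      have : ∏ i, ((v (π i) (Sum.inl i) : ℕ) : R) = 0 :=
        Finset.prod_eq_zero (Finset.mem_univ i) (by rw [hi, Nat.cast_zero])
      change (if _ then ∏ i, ((v (π i) (Sum.inl i) : ℕ) : R) else 0) =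
        (if C then ∏ i, ((v (π i) (Sum.inl i) : ℕ) : R) else 0)
      rw [this, ite_self, ite_self]
    · push Not at h0
      have h3 : ∑ i, (v (π i) - Finsupp.single (Sum.inl i) 1) +
          ∑ i : Fin m, Finsupp.single (Sum.inl i) 1 = ∑ i, v i := by
        rw [← Finset.sum_add_distrib, ← Equiv.sum_comp π v]
        refine Finset.sum_congr rfl fun i _ => ?_
        apply tsub_add_cancel_of_le
        rw [Finsupp.single_le_iff]
        exact Nat.one_le_iff_ne_zero.2 (h0 i)
      have h4 : (∑ i, (v (π i) - Finsupp.single (Sum.inl i) 1) = μ) ↔ C := by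
        constructor
        · intro h; change _ = _; rw [← h3, h]
        · intro h
          have : ∑ i, (v (π i) - Finsupp.single (Sum.inl i) 1) +
            ∑ i : Fin m, Finsupp.single (Sum.inl i) 1 = μ + ∑ i : Fin m, Finsupp.single (Sum.inl i) 1 := by
            rw [h3]; exact h
          exact add_right_cancel this
      simp only [h4]
      rfl
  rw [Finset.sum_congr rfl (fun π _ => hterm π)]
  by_cases hC : C
  · simp only [if_pos hC]
    rw [← Matrix.det_apply]
    apply det_eq_zero_of_colsum hm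
    intro j
    have h5 : ∑ i, v i (Sum.inl j) = p := by
      have := congrArg (fun s : (Fin m ⊕ σ) →₀ ℕ => s (Sum.inl j)) hC
      simp only [Finsupp.finsetSum_apply, Finsupp.add_apply] at this
      rw [this, hμ, Finsupp.sumElim_inl]
      simp only [Finsupp.coe_equivFunOnFinite_symm, Finsupp.single_apply, Sum.inl.injEq]
      rw [Finset.sum_ite_eq' Finset.univ j (fun _ => 1)]
      have := (Fact.out : p.Prime).pos
      simp
      omega
    change ∑ i, ((v i (Sum.inl j) : ℕ) : R) = 0
    rw [← Nat.cast_sum, h5, CharP.cast_eq_zero]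
  · simp only [if_neg hC, smul_zero, Finset.sum_const_zero]

theorem main (hm : 0 < m) (f : Fin m → MvPolynomial (Fin m ⊕ σ) R) :
    MvPolynomial.coeff
        (Finsupp.sumElim (Finsupp.equivFunOnFinite.symm fun _ : Fin m => p - 1) (0 : σ →₀ ℕ))
        (Matrix.of fun i j : Fin m => MvPolynomial.pderiv (Sum.inl j) (f i)).det = 0 := by
  rw [← Phi_apply]
  have : Phi R σ (Finsupp.sumElim (Finsupp.equivFunOnFinite.symm fun _ : Fin m => p - 1)
      (0 : σ →₀ ℕ)) = 0 := by
    apply Module.Basis.ext_multilinear (fun _ => basisMonomials (Fin m ⊕ σ) R)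
    intro v
    simp only [coe_basisMonomials, zero_apply]
    exact Phi_monomial p R σ hm v
  rw [this, zero_apply]

end Groth.Agent.H9.JacP
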