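import Mathlib

universe u

open CategoryTheory CategoryTheory.Limits AlgebraicGeometry MvPolynomial

namespace Groth.Agent.H9.Jou

section Algebra

variable {A B : Type u} [CommRing A] [CommRing B] {σ : Type u} [Fintype σ]

/-- The Jouanolou relation. -/
noncomputable def rel (f : σ → A) : MvPolynomial (Option σ) A :=
  (∑ i, C (f i) * X (some i)) - 1

/-- The Jouanolou ring. -/
abbrev RT (f : σ → A) : Type u := MvPolynomial (Option σ) A ⧸ Ideal.span {rel f}

/-- structure map -/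
noncomputable def φ (f : σ → A) : A →+* RT f := (Ideal.Quotient.mk (Ideal.span {rel f})).comp C

theorem hrel (f : σ → A) :
    ∑ k, (Ideal.Quotient.mk (Ideal.span {rel f}) (C (f k))) *
      Ideal.Quotient.mk (Ideal.span {rel f}) (X (some k)) = 1 := by
  have h : Ideal.Quotient.mk (Ideal.span {rel f}) ((∑ i, C (f i) * X (some i)) - 1) = 0 :=
    Ideal.Quotient.eq_zero_iff_mem.mpr (Ideal.subset_span rfl)
  rw [map_sub, map_sum, map_one, sub_eq_zero] at h
  simpa [map_mul] using h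

noncomputable def bt (f : σ → A) (γ : A →+* B) : MvPolynomial σ B := ∑ k, C (γ (f k)) * X k

noncomputable def ψ₀ (f : σ → A) (γ : A →+* B) (c : σ → B) :
    MvPolynomial (Option σ) A →+* MvPolynomial σ B :=
  eval₂Hom (C.comp γ) (fun o => o.elim (bt f γ) (fun i => X i - (bt f γ - 1) * C (c i)))

theorem ψ₀_rel (f : σ → A) (γ : A →+* B) (c : σ → B) (hc : ∑ i, γ (f i) * c i = 1) :
    ψ₀ f γ c (rel f) = 0 := by
  have h1 : ∑ i, C (γ (f i)) * (X i - (bt f γ - 1) * C (c i)) =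
      bt f γ - (bt f γ - 1) * C (∑ i, γ (f i) * c i) := by
    simp only [mul_sub, Finset.sum_sub_distrib, map_sum, map_mul, Finset.mul_sum]
    congr 1
    apply Finset.sum_congr rfl
    intro i _
    ring
  have h2 : ψ₀ f γ c (rel f) = ∑ i, C (γ (f i)) * (X i - (bt f γ - 1) * C (c i)) - 1 := by
    simp [ψ₀, rel]
  rw [h2, h1, hc, map_one, mul_one]
  ring

noncomputable def ψ (f : σ → A) (γ : A →+* B) (c : σ → B) (hc : ∑ i, γ (f i) * c i = 1) :
    RT f →+* MvPolynomial σ B :=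
  Ideal.Quotient.lift (Ideal.span {rel f}) (ψ₀ f γ c) (fun _ ha =>
    RingHom.mem_ker.mp (((Ideal.span_singleton_le_iff_mem _).mpr
      (RingHom.mem_ker.mpr (ψ₀_rel f γ c hc))) ha))

theorem ψ_mk (f : σ → A) (γ : A →+* B) (c : σ → B) (hc : ∑ i, γ (f i) * c i = 1)
    (a : MvPolynomial (Option σ) A) :
    ψ f γ c hc (Ideal.Quotient.mk _ a) = ψ₀ f γ c a := Ideal.Quotient.lift_mk _ _ _

theorem ψ_comp_φ (f : σ → A) (γ : A →+* B) (c : σ → B) (hc : ∑ i, γ (f i) * c i = 1) :
    (ψ f γ c hc).comp (φ f) = C.comp γ := by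
  ext a
  simp [φ, ψ_mk, ψ₀]

theorem ψ_none (f : σ → A) (γ : A →+* B) (c : σ → B) (hc : ∑ i, γ (f i) * c i = 1) :
    ψ f γ c hc (Ideal.Quotient.mk _ (X none)) = bt f γ := by
  simp [ψ_mk, ψ₀]

theorem ψ_some (f : σ → A) (γ : A →+* B) (c : σ → B) (hc : ∑ i, γ (f i) * c i = 1) (i : σ) :
    ψ f γ c hc (Ideal.Quotient.mk _ (X (some i))) = X i - (bt f γ - 1) * C (c i) := by
  simp [ψ_mk, ψ₀]

/-- The descent map. -/
noncomputable def w (f : σ → A) (c : σ → B) {D : Type u} [CommRing D] (u : B →+* D)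
    (v : RT f →+* D) : MvPolynomial σ B →+* D :=
  eval₂Hom u (fun i => v (Ideal.Quotient.mk _ (X (some i))) +
    (v (Ideal.Quotient.mk _ (X none)) - 1) * u (c i))

theorem w_bt (f : σ → A) (γ : A →+* B) (c : σ → B) (hc : ∑ i, γ (f i) * c i = 1)
    {D : Type u} [CommRing D] (u : B →+* D) (v : RT f →+* D)
    (huv : u.comp γ = v.comp (φ f)) :
    w f c u v (bt f γ) = v (Ideal.Quotient.mk _ (X none)) := by
  have hu : ∀ a, u (γ a) = v (Ideal.Quotient.mk _ (C a)) := fun a => RingHom.congr_fun huv a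
  have h1 : w f c u v (bt f γ) = ∑ k, u (γ (f k)) *
      (v (Ideal.Quotient.mk _ (X (some k))) + (v (Ideal.Quotient.mk _ (X none)) - 1) * u (c k)) := by
    simp [w, bt, map_sum]
  have h2 : ∑ k, u (γ (f k)) * u (c k) = 1 := by
    rw [← map_one u, ← hc, map_sum]
    simp [map_mul]
  have h3 : ∑ k, v (Ideal.Quotient.mk _ (C (f k))) * v (Ideal.Quotient.mk _ (X (some k))) = 1 := by
    rw [← map_one v, ← hrel f, map_sum]
    simp [map_mul]
  have h4 : ∑ k, u (γ (f k)) *
      (v (Ideal.Quotient.mk _ (X (some k))) + (v (Ideal.Quotient.mk _ (X none)) - 1) * u (c k)) =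
      (∑ k, v (Ideal.Quotient.mk _ (C (f k))) * v (Ideal.Quotient.mk _ (X (some k)))) +
      (v (Ideal.Quotient.mk _ (X none)) - 1) * ∑ k, u (γ (f k)) * u (c k) := by
    simp only [mul_add, Finset.sum_add_distrib, hu, Finset.mul_sum]
    congr 1
    apply Finset.sum_congr rfl
    intro i _
    ring
  rw [h1, h4, h2, h3]
  ring

theorem w_comp_C (f : σ → A) (c : σ → B) {D : Type u} [CommRing D] (u : B →+* D)
    (v : RT f →+* D) : (w f c u v).comp C = u := by
  ext b
  simp [w]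

theorem w_comp_ψ (f : σ → A) (γ : A →+* B) (c : σ → B) (hc : ∑ i, γ (f i) * c i = 1)
    {D : Type u} [CommRing D] (u : B →+* D) (v : RT f →+* D)
    (huv : u.comp γ = v.comp (φ f)) :
    (w f c u v).comp (ψ f γ c hc) = v := by
  apply Ideal.Quotient.ringHom_ext
  apply MvPolynomial.ringHom_ext
  · intro a
    have h0 : v (Ideal.Quotient.mk _ (C a)) = u (γ a) := (RingHom.congr_fun huv a).symm
    simp only [RingHom.comp_apply, ψ_mk]
    rw [h0]
    simp [ψ₀, w]
  · intro o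
    cases o with
    | none =>
      simp only [RingHom.comp_apply]
      rw [ψ_none, w_bt f γ c hc u v huv]
    | some i =>
      simp only [RingHom.comp_apply]
      rw [ψ_some, map_sub, map_mul, map_sub, map_one, w_bt f γ c hc u v huv]
      have h1 : w f c u v (X i) = v (Ideal.Quotient.mk _ (X (some i))) +
          (v (Ideal.Quotient.mk _ (X none)) - 1) * u (c i) := by simp [w]
      have h2 : w f c u v (C (c i)) = u (c i) := by simp [w]
      rw [h1, h2]
      ring

theorem w_uniq (f : σ → A) (γ : A →+* B) (c : σ → B) (hc : ∑ i, γ (f i) * c i = 1)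
    {D : Type u} [CommRing D] (u : B →+* D) (v : RT f →+* D)
    (m : MvPolynomial σ B →+* D) (h1 : m.comp C = u) (h2 : m.comp (ψ f γ c hc) = v) :
    m = w f c u v := by
  apply MvPolynomial.ringHom_ext
  · intro b
    have := RingHom.congr_fun h1 b
    simp only [RingHom.comp_apply] at this
    rw [this]
    simp [w]
  · intro i
    have hX : (X i : MvPolynomial σ B) = ψ f γ c hc (Ideal.Quotient.mk _ (X (some i))) +
        (ψ f γ c hc (Ideal.Quotient.mk _ (X none)) - 1) * C (c i) := by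
      rw [ψ_some, ψ_none]; ring
    have e1 : m (ψ f γ c hc (Ideal.Quotient.mk _ (X (some i)))) =
        v (Ideal.Quotient.mk _ (X (some i))) := RingHom.congr_fun h2 _
    have e2 : m (ψ f γ c hc (Ideal.Quotient.mk _ (X none))) =
        v (Ideal.Quotient.mk _ (X none)) := RingHom.congr_fun h2 _
    have e3 : m (C (c i)) = u (c i) := RingHom.congr_fun h1 _
    conv_lhs => rw [hX]
    rw [map_add, map_mul, map_sub, map_one, e1, e2, e3]
    simp [w]

theorem isPushout (f : σ → A) (γ : A →+* B) (c : σ → B) (hc : ∑ i, γ (f i) * c i = 1) :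
    IsPushout (CommRingCat.ofHom γ) (CommRingCat.ofHom (φ f))
      (CommRingCat.ofHom (C : B →+* MvPolynomial σ B)) (CommRingCat.ofHom (ψ f γ c hc)) := by
  have hw : CommRingCat.ofHom γ ≫ CommRingCat.ofHom (C : B →+* MvPolynomial σ B) =
      CommRingCat.ofHom (φ f) ≫ CommRingCat.ofHom (ψ f γ c hc) := by
    rw [← CommRingCat.ofHom_comp, ← CommRingCat.ofHom_comp, ψ_comp_φ]
  refine ⟨⟨hw⟩, ⟨PushoutCocone.IsColimit.mk hw
    (fun s => CommRingCat.ofHom (w f c s.inl.hom s.inr.hom)) ?_ ?_ ?_⟩⟩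
  · intro s
    ext1
    exact w_comp_C f c s.inl.hom s.inr.hom
  · intro s
    ext1
    refine w_comp_ψ f γ c hc s.inl.hom s.inr.hom ?_
    have := congrArg CommRingCat.Hom.hom s.condition
    simpa using this
  · intro s m h1 h2
    ext1
    refine w_uniq f γ c hc s.inl.hom s.inr.hom m.hom ?_ ?_
    · have := congrArg CommRingCat.Hom.hom h1
      simpa using this
    · have := congrArg CommRingCat.Hom.hom h2
      simpa using this

end Algebra

section Geometry

theorem isPullback_of_comp_mono {C : Type*} [Category C] {P X' T X S : C} {a : P ⟶ X'}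
    {q : P ⟶ T} {g : X' ⟶ X} {p : T ⟶ X} (j : X ⟶ S) [Mono j]
    (h : IsPullback a q (g ≫ j) (p ≫ j)) : IsPullback a q g p := by
  have w : a ≫ g = q ≫ p := by
    rw [← cancel_mono j, Category.assoc, Category.assoc, h.w]
  refine ⟨⟨w⟩, ⟨PullbackCone.IsLimit.mk w
    (fun s => h.lift s.fst s.snd (by rw [← Category.assoc, s.condition, Category.assoc]))
    (fun s => h.lift_fst _ _ _) (fun s => h.lift_snd _ _ _)
    (fun s m h1 h2 => h.hom_ext (by rw [h1, h.lift_fst]) (by rw [h2, h.lift_snd]))⟩⟩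

theorem main (X : Scheme.{u}) [X.IsQuasiAffine] :
    ∃ (n : ℕ) (T : Scheme.{u}) (_ : IsAffine T) (p : T ⟶ X),
      ∀ (X' : Scheme.{u}) [IsAffine X'] (g : X' ⟶ X),
        ∃ e : Limits.pullback g p ≅ 𝔸(ULift.{u} (Fin n); X'),
          e.hom ≫ (𝔸(ULift.{u} (Fin n); X') ↘ X') = Limits.pullback.fst g p := by
  have hco : IsCompact (Set.range X.toSpecΓ) ∧ IsOpen (Set.range X.toSpecΓ) :=
    ⟨isCompact_range X.toSpecΓ.continuous, X.toSpecΓ.isOpenEmbedding.isOpen_range⟩
  obtain ⟨t, ht⟩ := PrimeSpectrum.isCompact_isOpen_iff.mp hco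
  let f : ULift.{u} (Fin t.card) → Γ(X, ⊤) := fun i => (t.equivFin.symm i.down : Γ(X, ⊤))
  have hft : ∀ k, f k ∈ (t : Set Γ(X, ⊤)) := fun k => (t.equivFin.symm k.down).2
  have htf : ∀ a ∈ t, ∃ k, f k = a := fun a ha => ⟨⟨t.equivFin ⟨a, ha⟩⟩, by simp [f]⟩
  have hrange : Set.range (Spec.map (CommRingCat.ofHom (φ f))) ⊆ Set.range X.toSpecΓ := by
    rw [← ht]
    rintro _ ⟨q, rfl⟩ hq
    have h1 : ∀ k, (φ f) (f k) ∈ q.asIdeal := fun k => hq (hft k)
    have h2 : (1 : RT f) ∈ q.asIdeal := by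
      rw [← hrel f]
      exact Ideal.sum_mem _ (fun k _ => Ideal.mul_mem_right _ _ (h1 k))
    exact q.isPrime.ne_top ((Ideal.eq_top_iff_one _).mpr h2)
  refine ⟨t.card, Spec (.of (RT f)), inferInstance,
    IsOpenImmersion.lift X.toSpecΓ (Spec.map (CommRingCat.ofHom (φ f))) hrange, ?_⟩
  have hp : IsOpenImmersion.lift X.toSpecΓ (Spec.map (CommRingCat.ofHom (φ f))) hrange ≫
      X.toSpecΓ = Spec.map (CommRingCat.ofHom (φ f)) := IsOpenImmersion.lift_fac _ _ _
  generalize IsOpenImmersion.lift X.toSpecΓ (Spec.map (CommRingCat.ofHom (φ f))) hrange = p at hp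
  intro X' _ g
  have hγ : X'.isoSpec.inv ≫ g ≫ X.toSpecΓ = Spec.map g.appTop := by
    rw [Scheme.toSpecΓ_naturality, ← Scheme.isoSpec_hom, Iso.inv_hom_id_assoc]
  -- the unit ideal
  have hspan : Ideal.span (Set.range (fun k => g.appTop.hom (f k))) = ⊤ := by
    by_contra hne
    obtain ⟨m, hm, hle⟩ := Ideal.exists_le_maximal _ hne
    let q : Spec Γ(X', ⊤) := ⟨m, hm.isPrime⟩
    have hq : (Spec.map g.appTop) q ∈ Set.range X.toSpecΓ := by
      rw [← hγ]
      exact ⟨g (X'.isoSpec.inv q), rfl⟩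
    rw [← ht] at hq
    apply hq
    intro a ha
    obtain ⟨k, rfl⟩ := htf a ha
    exact hle (Ideal.subset_span ⟨k, rfl⟩)
  obtain ⟨c, hc⟩ := (Ideal.mem_span_range_iff_exists_fun (R := Γ(X', ⊤))).mp
    (hspan ▸ Submodule.mem_top : (1 : Γ(X', ⊤)) ∈ Ideal.span (Set.range fun k => g.appTop.hom (f k)))
  have hc' : ∑ i, g.appTop.hom (f i) * c i = 1 := by
    rw [← hc]
    exact Finset.sum_congr rfl (fun i _ => mul_comm _ _)
  have H0 := isPullback_SpecMap_of_isPushout _ _ _ _ (isPushout f g.appTop.hom c hc')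
  have H1 : IsPullback (𝔸(ULift.{u} (Fin t.card); X') ↘ X')
      ((AffineSpace.isoOfIsAffine (ULift.{u} (Fin t.card)) X').hom ≫
        Spec.map (CommRingCat.ofHom (ψ f g.appTop.hom c hc')))
      (g ≫ X.toSpecΓ) (Spec.map (CommRingCat.ofHom (φ f))) := by
    refine H0.of_iso (AffineSpace.isoOfIsAffine (ULift.{u} (Fin t.card)) X').symm
      X'.isoSpec.symm (Iso.refl _) (Iso.refl _) ?_ ?_ ?_ ?_
    · exact (AffineSpace.isoOfIsAffine_inv_over ..).symm
    · simp
    · simp only [Iso.refl_hom, Category.comp_id, Iso.symm_hom]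
      rw [hγ]
      rfl
    · simp
  rw [← hp] at H1
  have H2 := isPullback_of_comp_mono X.toSpecΓ H1
  exact ⟨H2.isoPullback.symm, H2.isoPullback_inv_fst⟩

end Geometry

end Groth.Agent.H9.Jou
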