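import Mathlib
set_option autoImplicit false
set_option linter.style.haveILetI false
set_option linter.unusedSectionVars false
set_option linter.unusedVariables false
namespace Groth.Agent.H9.K4Ext
universe u
open ExteriorAlgebra

def zI (c : Fin 2) (i j l : Fin 4) (c' : Fin 2) (a b : Fin 4) : ℤ :=
  if c' = c then
    ((if a = i ∧ b = j then 1 else 0) + (if a = j ∧ b = l then 1 else 0) + (if a = l ∧ b = i then 1 else 0)
      - (if a = j ∧ b = i then 1 else 0) - (if a = l ∧ b = j then 1 else 0) - (if a = i ∧ b = l then 1 else 0))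
  else 0

def vc : Fin 4 → Fin 2 := ![0,1,0,1]
def vj : Fin 4 → Fin 4 := ![1,1,2,2]
def vl : Fin 4 → Fin 4 := ![2,2,3,3]
def cc : Fin 4 → Fin 2 := ![0,0,1,1]
def cb : Fin 4 → Fin 4 := ![1,2,1,2]

def MI (σ : Equiv.Perm (Fin 4)) : Matrix (Fin 4) (Fin 4) ℤ :=
  Matrix.of fun i j => zI (vc i) 0 (vj i) (vl i) (cc j) (σ.symm 0) (σ.symm (cb j))

theorem total : ∑ σ : Equiv.Perm (Fin 4), (MI σ).det = -12 := by
  decide +kernel

section
variable (k : Type u) [Field k]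

abbrev F := Fin 2 → Fin 4 → Fin 4 → k

/-- the four chosen coordinates -/
def phi : F k →ₗ[k] (Fin 4 → k) :=
  LinearMap.pi fun j =>
    (LinearMap.proj (cb j)) ∘ₗ (LinearMap.proj (0 : Fin 4)) ∘ₗ (LinearMap.proj (cc j))

lemma phi_apply (f : F k) (j : Fin 4) : phi k f j = f (cc j) 0 (cb j) := rfl

/-- the linear functional on the exterior algebra -/
def Lam : ExteriorAlgebra k (F k) →ₗ[k] k :=
  liftAlternating (R := k) (M := F k) (N := k)
    (Pi.single (M := fun i => (F k) [⋀^Fin i]→ₗ[k] k) 4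
      ((Matrix.detRowAlternating (R := k) (n := Fin 4)).compLinearMap (phi k)))

lemma Lam_ιMulti (w : Fin 4 → F k) :
    Lam k (ιMulti k 4 w) = Matrix.det (Matrix.of fun i j => w i (cc j) 0 (cb j)) := by
  unfold Lam
  rw [liftAlternating_apply_ιMulti, Pi.single_eq_same]
  rfl

variable {k}
variable (P : Equiv.Perm (Fin 4) → (F k →ₗ[k] F k))
  (hP : ∀ (σ : Equiv.Perm (Fin 4)) (f : F k) (c : Fin 2) (a b : Fin 4),
      P σ f c a b = f c (σ.symm a) (σ.symm b))
  (z : Fin 2 → Fin 4 → Fin 4 → Fin 4 → F k)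
  (hz : ∀ (c : Fin 2) (i j l : Fin 4) (c' : Fin 2) (a b : Fin 4), z c i j l c' a b =
      if c' = c then
        ((if a = i ∧ b = j then 1 else 0) + (if a = j ∧ b = l then 1 else 0) + (if a = l ∧ b = i then 1 else 0)
          - (if a = j ∧ b = i then 1 else 0) - (if a = l ∧ b = j then 1 else 0) - (if a = i ∧ b = l then 1 else 0))
      else 0)

include hz in
lemma z_cast (c : Fin 2) (i j l : Fin 4) (c' : Fin 2) (a b : Fin 4) :
    z c i j l c' a b = ((zI c i j l c' a b : ℤ) : k) := by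
  rw [hz, zI]
  push_cast
  rfl

include hP hz in
lemma P_z (σ : Equiv.Perm (Fin 4)) (c : Fin 2) (i j l : Fin 4) :
    P σ (z c i j l) = z c (σ i) (σ j) (σ l) := by
  funext c' a b
  rw [hP, hz, hz]
  simp only [Equiv.symm_apply_eq]

include hz in
lemma z_rev (c : Fin 2) (i j l : Fin 4) : z c l j i = - z c i j l := by
  funext c' a b
  rw [Pi.neg_apply, Pi.neg_apply, Pi.neg_apply, hz, hz]
  by_cases h : c' = c
  · rw [if_pos h, if_pos h]; ring
  · rw [if_neg h, if_neg h]; simp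

include hz in
lemma z_rot (c : Fin 2) (i j l : Fin 4) : z c j l i = z c i j l := by
  funext c' a b
  rw [hz, hz]
  by_cases h : c' = c
  · rw [if_pos h, if_pos h]; ring
  · rw [if_neg h, if_neg h]

lemma anti (x y : F k) : ι k y * ι k x = - (ι k x * ι k y) := by
  have := ι_add_mul_swap (R := k) x y
  exact eq_neg_of_add_eq_zero_right this

include hP hz in
lemma part1 :
    ExteriorAlgebra.map (P (Equiv.swap 0 2))
      (ι k (z 0 0 1 2) * ι k (z 1 0 1 2) * ι k (z 0 0 2 3) * ι k (z 1 0 2 3)) =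
    ι k (z 0 0 1 2) * ι k (z 1 0 1 2) * ι k (z 0 0 2 3) * ι k (z 1 0 2 3) := by
  have h1 : ∀ c, P (Equiv.swap 0 2) (z c 0 1 2) = - z c 0 1 2 := by
    intro c
    rw [P_z P hP z hz]
    have e0 : (Equiv.swap (0 : Fin 4) 2) 0 = 2 := by decide
    have e1 : (Equiv.swap (0 : Fin 4) 2) 1 = 1 := by decide
    have e2 : (Equiv.swap (0 : Fin 4) 2) 2 = 0 := by decide
    rw [e0, e1, e2]
    exact z_rev z hz c 0 1 2
  have h2 : ∀ c, P (Equiv.swap 0 2) (z c 0 2 3) = - z c 0 2 3 := by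
    intro c
    rw [P_z P hP z hz]
    have e0 : (Equiv.swap (0 : Fin 4) 2) 0 = 2 := by decide
    have e3 : (Equiv.swap (0 : Fin 4) 2) 3 = 3 := by decide
    have e2 : (Equiv.swap (0 : Fin 4) 2) 2 = 0 := by decide
    rw [e0, e3, e2]
    -- z c 2 0 3 = - z c 0 2 3
    rw [z_rot z hz c 3 2 0]
    exact z_rev z hz c 0 2 3
  simp only [map_mul, map_apply_ι, h1, h2, map_neg, neg_mul, mul_neg, neg_neg]

include hP hz in
lemma part2 :
    ExteriorAlgebra.map (P (Equiv.swap 1 3))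
      (ι k (z 0 0 1 2) * ι k (z 1 0 1 2) * ι k (z 0 0 2 3) * ι k (z 1 0 2 3)) =
    ι k (z 0 0 1 2) * ι k (z 1 0 1 2) * ι k (z 0 0 2 3) * ι k (z 1 0 2 3) := by
  have h1 : ∀ c, P (Equiv.swap 1 3) (z c 0 1 2) = - z c 0 2 3 := by
    intro c
    rw [P_z P hP z hz]
    have e0 : (Equiv.swap (1 : Fin 4) 3) 0 = 0 := by decide
    have e1 : (Equiv.swap (1 : Fin 4) 3) 1 = 3 := by decide
    have e2 : (Equiv.swap (1 : Fin 4) 3) 2 = 2 := by decide
    rw [e0, e1, e2]
    -- z c 0 3 2 = - z c 2 3 0 = - z c 0 2 3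
    rw [z_rev z hz c 2 3 0, z_rot z hz c 0 2 3]
  have h2 : ∀ c, P (Equiv.swap 1 3) (z c 0 2 3) = - z c 0 1 2 := by
    intro c
    rw [P_z P hP z hz]
    have e0 : (Equiv.swap (1 : Fin 4) 3) 0 = 0 := by decide
    have e3 : (Equiv.swap (1 : Fin 4) 3) 3 = 1 := by decide
    have e2 : (Equiv.swap (1 : Fin 4) 3) 2 = 2 := by decide
    rw [e0, e3, e2]
    -- z c 0 2 1 = - z c 1 2 0 = - z c 0 1 2
    rw [z_rev z hz c 1 2 0, z_rot z hz c 0 1 2]
  simp only [map_mul, map_apply_ι, h1, h2, map_neg, neg_mul, mul_neg, neg_neg]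
  set A0 := ι k (z 0 0 1 2)
  set A1 := ι k (z 1 0 1 2)
  set B0 := ι k (z 0 0 2 3)
  set B1 := ι k (z 1 0 2 3)
  have e1 : B1 * A0 = -(A0 * B1) := anti _ _
  have e2 : B0 * A0 = -(A0 * B0) := anti _ _
  have e3 : B1 * A1 = -(A1 * B1) := anti _ _
  have e4 : B0 * A1 = -(A1 * B0) := anti _ _
  calc B0 * B1 * A0 * A1 = B0 * (B1 * A0) * A1 := by noncomm_ring
    _ = -((B0 * A0) * (B1 * A1)) := by rw [e1]; noncomm_ring
    _ = -((-(A0 * B0)) * (-(A1 * B1))) := by rw [e2, e3]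
    _ = -(A0 * (B0 * A1) * B1) := by noncomm_ring
    _ = A0 * A1 * B0 * B1 := by rw [e4]; noncomm_ring

lemma omega_eq (x0 x1 x2 x3 : F k) :
    ι k x0 * ι k x1 * ι k x2 * ι k x3 = ιMulti k 4 ![x0, x1, x2, x3] := by
  rw [ιMulti_apply]
  simp [List.ofFn_succ, mul_assoc]

include hP hz in
lemma Lam_term [CharZero k] (σ : Equiv.Perm (Fin 4)) :
    Lam k (ExteriorAlgebra.map (P σ)
      (ι k (z 0 0 1 2) * ι k (z 1 0 1 2) * ι k (z 0 0 2 3) * ι k (z 1 0 2 3))) =
    (((MI σ).det : ℤ) : k) := by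
  rw [omega_eq, map_apply_ιMulti, Lam_ιMulti]
  rw [Int.cast_det]
  congr 1
  ext i j
  simp only [Matrix.of_apply, Function.comp_apply, Matrix.map_apply, MI]
  rw [hP]
  fin_cases i <;> simp [vc, vj, vl, z_cast z hz]

include hP hz in
theorem part3 [CharZero k] :
    (∑ σ : Equiv.Perm (Fin 4), ExteriorAlgebra.map (P σ)
      (ι k (z 0 0 1 2) * ι k (z 1 0 1 2) * ι k (z 0 0 2 3) * ι k (z 1 0 2 3))) ≠ 0 := by
  intro h0
  have h1 := congrArg (Lam k) h0
  rw [map_sum, map_zero] at h1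
  simp only [Lam_term P hP z hz] at h1
  rw [← Int.cast_sum, total] at h1
  norm_num at h1

end

end Groth.Agent.H9.K4Ext
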