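import Mathlib

set_option autoImplicit false
set_option linter.style.haveILetI false
set_option linter.unusedSectionVars false
set_option linter.unusedVariables false

namespace Groth.Agent.H9.KAP

open Polynomial

section core
variable {k k' : Type*} [Field k] [Field k'] [Algebra k k']
variable (Ω : Type*) [Field Ω] [Algebra k' Ω] [Algebra k Ω] [IsScalarTower k k' Ω] [IsAlgClosed Ω]

/-- a second conjugate of a separable non-rational element, with the power relation -/
theorem exists_conj (H : ∀ x : k', ∃ n : ℕ, 0 < n ∧ x ^ n ∈ Set.range (algebraMap k k'))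
    (a : k') (hsep : IsSeparable k a) (ha : a ∉ (algebraMap k k').range) :
    ∃ b : Ω, b ≠ algebraMap k' Ω a ∧ ∀ c : k, ∃ m : ℕ, 0 < m ∧
      (b + algebraMap k Ω c) ^ m = (algebraMap k' Ω a + algebraMap k Ω c) ^ m := by
  classical
  have hint : IsIntegral k a := hsep.isIntegral
  have hdeg : 2 ≤ (minpoly k a).natDegree := (minpoly.two_le_natDegree_iff hint).mpr ha
  have hsplit : ((minpoly k a).map (algebraMap k Ω)).Splits := IsAlgClosed.splits _
  have hcard := card_rootSet_eq_natDegree (K := Ω) hsep hsplit
  have hf0 : minpoly k a ≠ 0 := minpoly.ne_zero hint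
  have ha0 : algebraMap k' Ω a ∈ (minpoly k a).rootSet Ω := by
    rw [mem_rootSet]
    refine ⟨hf0, ?_⟩
    rw [aeval_algebraMap_apply, minpoly.aeval, map_zero]
  obtain ⟨b, hb⟩ := Fintype.exists_ne_of_one_lt_card (by rw [hcard]; omega)
    (⟨algebraMap k' Ω a, ha0⟩ : (minpoly k a).rootSet Ω)
  have hbroot : aeval b.1 (minpoly k a) = 0 := (mem_rootSet.mp b.2).2
  refine ⟨b.1, fun h => hb (Subtype.ext h), ?_⟩
  intro c
  obtain ⟨m, hm, d, hd⟩ := H (a + algebraMap k k' c)
  refine ⟨m, hm, ?_⟩
  set g : k[X] := (X + C c) ^ m - C d with hg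
  have hga : aeval a g = 0 := by
    rw [hg]
    simp only [map_sub, map_pow, map_add, aeval_X, aeval_C]
    rw [hd, sub_self]
  have hdvd : minpoly k a ∣ g := minpoly.dvd k a hga
  have hgb : aeval b.1 g = 0 := by
    obtain ⟨q, hq⟩ := hdvd
    rw [hq, map_mul, hbroot, zero_mul]
  rw [hg] at hgb
  simp only [map_sub, map_pow, map_add, aeval_X, aeval_C] at hgb
  rw [sub_eq_zero] at hgb
  rw [hgb, IsScalarTower.algebraMap_apply k k' Ω d, hd, map_pow, map_add,
    ← IsScalarTower.algebraMap_apply k k' Ω c]

/-- a separable non-rational element is algebraic over any base field `P` -/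
theorem isIntegral_of_sep (P : Type*) [Field P] [Algebra P k'] [Algebra P Ω] [IsScalarTower P k' Ω]
    (H : ∀ x : k', ∃ n : ℕ, 0 < n ∧ x ^ n ∈ Set.range (algebraMap k k'))
    (a : k') (hsep : IsSeparable k a) (ha : a ∉ (algebraMap k k').range) :
    IsIntegral P a := by
  obtain ⟨b, hbA, hb⟩ := exists_conj Ω H a hsep ha
  set A := algebraMap k' Ω a with hA
  have hA0 : A ≠ 0 := by
    intro h
    apply ha
    refine ⟨0, ?_⟩
    rw [map_zero]
    exact ((algebraMap k' Ω).injective (by rw [← hA, h, map_zero])).symm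
  have hA1 : A + 1 ≠ 0 := by
    intro h
    apply ha
    refine ⟨-1, ?_⟩
    apply (algebraMap k' Ω).injective
    rw [← hA, map_neg, map_one, map_neg, map_one]
    exact (eq_neg_of_add_eq_zero_left h).symm
  obtain ⟨m0, hm0, h0⟩ := hb 0
  obtain ⟨m1, hm1, h1⟩ := hb 1
  rw [map_zero, add_zero, add_zero] at h0
  rw [map_one] at h1
  set ζ := b / A with hζ
  set μ := (b + 1) / (A + 1) with hμ
  have hζpow : ζ ^ m0 = 1 := by
    rw [hζ, div_pow, h0, div_self (pow_ne_zero _ hA0)]
  have hμpow : μ ^ m1 = 1 := by
    rw [hμ, div_pow, h1, div_self (pow_ne_zero _ hA1)]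
  have hζ1 : ζ ≠ 1 := by
    intro h
    apply hbA
    rw [hζ, div_eq_one_iff_eq hA0] at h
    exact h
  have hζint : IsIntegral P ζ := IsIntegral.of_pow hm0 (by rw [hζpow]; exact isIntegral_one)
  have hμint : IsIntegral P μ := IsIntegral.of_pow hm1 (by rw [hμpow]; exact isIntegral_one)
  have hb' : b = ζ * A := by rw [hζ, div_mul_cancel₀ _ hA0]
  have hrel : μ * (A + 1) = ζ * A + 1 := by
    rw [hμ, div_mul_cancel₀ _ hA1, hb']
  have hμζ : μ - ζ ≠ 0 := by
    intro h
    have hμζ' : μ = ζ := sub_eq_zero.mp h
    rw [hμζ'] at hrel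
    apply hζ1
    have : ζ * (A + 1) = ζ * A + 1 := hrel
    rw [mul_add, mul_one] at this
    exact add_left_cancel this
  have hAeq : A = (1 - μ) / (μ - ζ) := by
    rw [eq_div_iff hμζ]
    linear_combination hrel
  have hAint : IsIntegral P A := by
    rw [hAeq, div_eq_mul_inv]
    exact (isIntegral_one.sub hμint).mul (hμint.sub hζint).inv
  exact (isIntegral_algebraMap_iff (algebraMap k' Ω).injective).mp hAint

/-- if there is a separable non-rational element, all of `k'` is algebraic over `P` -/
theorem isIntegral_all (P : Type*) [Field P] [Algebra P k'] [Algebra P Ω] [IsScalarTower P k' Ω]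
    (H : ∀ x : k', ∃ n : ℕ, 0 < n ∧ x ^ n ∈ Set.range (algebraMap k k'))
    (a : k') (hsep : IsSeparable k a) (ha : a ∉ (algebraMap k k').range) (x : k') :
    IsIntegral P x := by
  have haint := isIntegral_of_sep Ω P H a hsep ha
  have ha0 : a ≠ 0 := by
    intro h; apply ha; exact ⟨0, by rw [map_zero, h]⟩
  have hk : ∀ y : k, IsIntegral P (algebraMap k k' y) := by
    intro y
    by_cases hy : y = 0
    · rw [hy, map_zero]; exact isIntegral_zero
    · have hsep' : IsSeparable k (algebraMap k k' y * a) :=
        Field.isSeparable_mul (isSeparable_algebraMap y) hsep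
      have hy0 : algebraMap k k' y ≠ 0 := by
        rw [Ne, map_eq_zero]; exact hy
      have ha' : algebraMap k k' y * a ∉ (algebraMap k k').range := by
        rintro ⟨z, hz⟩
        apply ha
        refine ⟨y⁻¹ * z, ?_⟩
        rw [map_mul, hz, map_inv₀, ← mul_assoc, inv_mul_cancel₀ hy0, one_mul]
      have h1 := isIntegral_of_sep Ω P H _ hsep' ha'
      have : algebraMap k k' y = (algebraMap k k' y * a) * a⁻¹ := by
        rw [mul_assoc, mul_inv_cancel₀ ha0, mul_one]
      rw [this]
      exact h1.mul haint.inv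
  obtain ⟨n, hn, y, hy⟩ := H x
  exact IsIntegral.of_pow hn (by rw [← hy]; exact hk y)

end core

section charzero
variable {k k' : Type*} [Field k] [Field k'] [Algebra k k']

theorem charZero_false [CharZero k']
    (H : ∀ x : k', ∃ n : ℕ, 0 < n ∧ x ^ n ∈ Set.range (algebraMap k k'))
    (a : k') (hsep : IsSeparable k a) (ha : a ∉ (algebraMap k k').range) : False := by
  classical
  let Ω := AlgebraicClosure k'
  haveI : CharZero Ω := charZero_of_injective_algebraMap (algebraMap k' Ω).injective
  haveI : IsScalarTower ℚ k' Ω := IsScalarTower.of_algebraMap_eq (fun x => by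
    have := Subsingleton.elim (algebraMap ℚ Ω) ((algebraMap k' Ω).comp (algebraMap ℚ k'))
    exact congrArg (fun f => f x) this)
  obtain ⟨b, hbA, hb⟩ := exists_conj Ω H a hsep ha
  set A := algebraMap k' Ω a with hA
  have hAint : IsIntegral ℚ A :=
    (isIntegral_algebraMap_iff (algebraMap k' Ω).injective).mpr
      (isIntegral_of_sep Ω ℚ H a hsep ha)
  have hA0 : A ≠ 0 := by
    intro h
    apply ha
    refine ⟨0, ?_⟩
    rw [map_zero]
    exact ((algebraMap k' Ω).injective (by rw [← hA, h, map_zero])).symm
  have hAc : ∀ c : ℕ, A + (c : Ω) ≠ 0 := by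
    intro c h
    apply ha
    refine ⟨-(c : k), ?_⟩
    apply (algebraMap k' Ω).injective
    rw [← hA, map_neg, map_natCast, map_neg, map_natCast]
    exact (eq_neg_of_add_eq_zero_left h).symm
  have hpow : ∀ c : ℕ, ∃ m : ℕ, 0 < m ∧ ((b + (c : Ω)) / (A + (c : Ω))) ^ m = 1 := by
    intro c
    obtain ⟨m, hm, h⟩ := hb (c : k)
    rw [map_natCast] at h
    exact ⟨m, hm, by rw [div_pow, h, div_self (pow_ne_zero _ (hAc c))]⟩
  -- b integral over ℚ
  have hbint : IsIntegral ℚ b := by
    obtain ⟨m, hm, h⟩ := hpow 0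
    simp only [Nat.cast_zero, add_zero] at h
    have h1 : IsIntegral ℚ (b / A) := IsIntegral.of_pow hm (by rw [h]; exact isIntegral_one)
    have : b = b / A * A := by rw [div_mul_cancel₀ _ hA0]
    rw [this]; exact h1.mul hAint
  let E : IntermediateField ℚ Ω := IntermediateField.adjoin ℚ {A, b}
  haveI : FiniteDimensional ℚ E := IntermediateField.finiteDimensional_adjoin (by
    intro x hx
    rcases hx with rfl | rfl
    · exact hAint
    · exact hbint)
  haveI : NumberField E := { to_charZero := inferInstance, to_finiteDimensional := inferInstance }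
  have hAE : A ∈ E := IntermediateField.subset_adjoin ℚ _ (by simp)
  have hbE : b ∈ E := IntermediateField.subset_adjoin ℚ _ (by simp)
  let ν : ℕ → E := fun c => ⟨(b + (c : Ω)) / (A + (c : Ω)),
    E.div_mem (E.add_mem hbE (natCast_mem E c)) (E.add_mem hAE (natCast_mem E c))⟩
  have hfin := NumberField.Embeddings.finite_of_norm_le E ℂ 1
  have hmem : ∀ c, ν c ∈ {x : E | IsIntegral ℤ x ∧ ∀ φ : E →+* ℂ, ‖φ x‖ ≤ 1} := by
    intro c
    obtain ⟨m, hm, h⟩ := hpow c
    have hνpow : (ν c) ^ m = 1 := by
      apply Subtype.ext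
      simpa [ν] using h
    refine ⟨IsIntegral.of_pow hm (by rw [hνpow]; exact isIntegral_one), ?_⟩
    intro φ
    have : (φ (ν c)) ^ m = 1 := by rw [← map_pow, hνpow, map_one]
    exact le_of_eq (Complex.norm_eq_one_of_pow_eq_one this hm.ne')
  have hninj : ¬ Function.Injective ν := by
    intro hinj
    exact (Set.infinite_of_injective_forall_mem hinj hmem) hfin
  rw [Function.Injective] at hninj
  push Not at hninj
  obtain ⟨c, c', hcc, hne⟩ := hninj
  have hμ : (b + (c : Ω)) / (A + (c : Ω)) = (b + (c' : Ω)) / (A + (c' : Ω)) :=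
    congrArg Subtype.val hcc
  rw [div_eq_div_iff (hAc c) (hAc c')] at hμ
  have hcne : (c : Ω) - (c' : Ω) ≠ 0 := by
    rw [sub_ne_zero]
    exact_mod_cast hne
  have : (b - A) * ((c : Ω) - (c' : Ω)) = 0 := by linear_combination -hμ
  rcases mul_eq_zero.mp this with h | h
  · exact hbA (sub_eq_zero.mp h)
  · exact hcne h

end charzero

section main
universe u
variable {k k' : Type u} [Field k] [Field k'] [Algebra k k']

theorem forward (H : ∀ x : k', ∃ n : ℕ, 0 < n ∧ x ^ n ∈ Set.range (algebraMap k k')) :
    Function.Surjective (algebraMap k k') ∨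
        ∃ p : ℕ, p.Prime ∧ CharP k' p ∧
          (IsPurelyInseparable k k' ∨ Algebra.IsAlgebraic (⊥ : Subfield k') k') := by
  classical
  by_cases hsurj : Function.Surjective (algebraMap k k')
  · exact Or.inl hsurj
  right
  obtain ⟨p, hp⟩ := CharP.exists k'
  have hint : ∀ x : k', IsIntegral k x := by
    intro x
    obtain ⟨n, hn, y, hy⟩ := H x
    exact IsIntegral.of_pow hn (by rw [← hy]; exact isIntegral_algebraMap)
  by_cases hPI : IsPurelyInseparable k k'
  · rcases CharP.char_is_prime_or_zero k' p with hpp | hp0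
    · exact ⟨p, hpp, hp, Or.inl hPI⟩
    · exfalso
      subst hp0
      haveI : CharZero k' := CharP.charP_to_charZero k'
      haveI : CharZero k := (algebraMap k k').charZero
      haveI : Algebra.IsAlgebraic k k' := ⟨fun x => (hint x).isAlgebraic⟩
      haveI : Algebra.IsSeparable k k' := Algebra.IsAlgebraic.isSeparable_of_perfectField
      exact hsurj (IsPurelyInseparable.surjective_algebraMap_of_isSeparable k k')
  · rw [isPurelyInseparable_iff] at hPI
    push Not at hPI
    obtain ⟨a, ha⟩ := hPI
    have ha' := ha (hint a)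
    obtain ⟨hsep, hnot⟩ := ha'
    rcases CharP.char_is_prime_or_zero k' p with hpp | hp0
    · refine ⟨p, hpp, hp, Or.inr ?_⟩
      let Ω := AlgebraicClosure k'
      let P := (⊥ : Subfield k')
      exact ⟨fun x => (isIntegral_all Ω P H a hsep hnot x).isAlgebraic⟩
    · exfalso
      subst hp0
      haveI : CharZero k' := CharP.charP_to_charZero k'
      exact charZero_false H a hsep hnot

theorem backward (h : Function.Surjective (algebraMap k k') ∨
        ∃ p : ℕ, p.Prime ∧ CharP k' p ∧
          (IsPurelyInseparable k k' ∨ Algebra.IsAlgebraic (⊥ : Subfield k') k')) :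
    ∀ x : k', ∃ n : ℕ, 0 < n ∧ x ^ n ∈ Set.range (algebraMap k k') := by
  classical
  intro x
  rcases h with hsurj | ⟨p, hpp, hp, hPI | halg⟩
  · obtain ⟨y, hy⟩ := hsurj x
    exact ⟨1, one_pos, y, by rw [pow_one, hy]⟩
  · haveI := hp
    haveI : CharP k p := RingHom.charP (algebraMap k k') (algebraMap k k').injective p
    haveI : ExpChar k p := ExpChar.prime hpp
    obtain ⟨n, y, hy⟩ := IsPurelyInseparable.pow_mem k p x
    exact ⟨p ^ n, pow_pos hpp.pos n, y, hy⟩
  · by_cases hx : x = 0
    · exact ⟨1, one_pos, 0, by rw [hx, map_zero, pow_one]⟩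
    · haveI := hp
      haveI : Fact p.Prime := ⟨hpp⟩
      letI : Algebra (ZMod p) k' := ZMod.algebra k' p
      let P := (⊥ : Subfield k')
      haveI : Finite P := by
        have hle : (⊥ : Subfield k') ≤ (algebraMap (ZMod p) k').fieldRange := bot_le
        have hfin : ((algebraMap (ZMod p) k').fieldRange : Set k').Finite := by
          rw [RingHom.coe_fieldRange]
          exact Set.finite_range _
        exact (hfin.subset hle).to_subtype
      have hxint : IsIntegral P x := (halg.isAlgebraic x).isIntegral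
      let F := IntermediateField.adjoin P {x}
      haveI : FiniteDimensional P F := IntermediateField.adjoin.finiteDimensional hxint
      haveI : Finite F := Module.finite_of_finite P
      haveI : Fintype F := Fintype.ofFinite F
      let x' : F := ⟨x, IntermediateField.mem_adjoin_simple_self P x⟩
      have hx' : x' ≠ 0 := by
        intro h
        apply hx
        exact congrArg Subtype.val h
      have hpow := FiniteField.pow_card_sub_one_eq_one x' hx'
      have hcard : 1 < Fintype.card F := Fintype.one_lt_card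
      refine ⟨Fintype.card F - 1, by omega, 1, ?_⟩
      rw [map_one]
      have := congrArg Subtype.val hpow
      simpa [x'] using this.symm

theorem main :
    (∀ x : k', ∃ n : ℕ, 0 < n ∧ x ^ n ∈ Set.range (algebraMap k k')) ↔
      Function.Surjective (algebraMap k k') ∨
        ∃ p : ℕ, p.Prime ∧ CharP k' p ∧
          (IsPurelyInseparable k k' ∨ Algebra.IsAlgebraic (⊥ : Subfield k') k') :=
  ⟨forward, backward⟩

end main

end Groth.Agent.H9.KAP
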