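import Mathlib
import Groth.Agent.Lib.Helper9.Misc.KLF1

/-! Helper9: the centre of a group scheme over a field is closed (S7519). -/

set_option linter.style.haveILetI false
set_option linter.unusedSectionVars false

namespace Groth.Agent.H9.KL

universe u

open CategoryTheory CategoryTheory.Limits AlgebraicGeometry MonoidalCategory
  CartesianMonoidalCategory MonObj GrpObj

variable {K : Type u} [Field K] (G : Over (Spec (CommRingCat.of K))) [GrpObj G]

/-- The centre of a group scheme over a field is a closed subscheme. -/
theorem S7519_main :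
    ∃ (Z : Over (Spec (CommRingCat.of K))) (incl : Z ⟶ G), IsClosedImmersion incl.left ∧
      ∀ (T : Over (Spec (CommRingCat.of K))) (g : T ⟶ G),
        (∃ z : T ⟶ Z, z ≫ incl = g) ↔
          ∀ (T' : Over (Spec (CommRingCat.of K))) (h : T' ⟶ T) (g' : T' ⟶ G),
            (h ≫ g) * g' = g' * (h ≫ g) := by
  obtain ⟨Z, incl, hcl, H⟩ := S5357_main G G (𝟙 G) (𝟙 G)
  refine ⟨Z, incl, hcl, fun T g => (H T g).trans ?_⟩
  refine forall_congr' fun T' => forall_congr' fun h => forall_congr' fun g' => ?_
  rw [Category.comp_id, mul_inv_eq_iff_eq_mul]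

end Groth.Agent.H9.KL
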