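import Mathlib

set_option autoImplicit false
set_option linter.style.haveILetI false
set_option linter.unusedSectionVars false
set_option linter.unusedVariables false

namespace Groth.Agent.H9.KPT

open MvPowerSeries

universe u

section
variable (p : ℕ) [hp : Fact p.Prime]

lemma mem_closure_range_pow {L : Type*} [Field L] [CharP L p] (c : L) :
    c ∈ Subfield.closure (Set.range fun x : L => x ^ p) ↔ ∃ x : L, x ^ p = c := by
  have hrange : (Set.range fun x : L => x ^ p) = ((frobenius L p).fieldRange : Set L) := by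
    ext y
    simp [frobenius_def]
  rw [hrange, Subfield.closure_eq]
  rfl

variable {k₀ K₀ : Type u} [Field k₀] [Field K₀] [Algebra k₀ K₀] [CharP k₀ p]

theorem main (hfin : Module.Finite (Subfield.closure (Set.range fun x : k₀ => x ^ p)) k₀) (r : ℕ) :
    Subfield.closure (algebraMap (MvPowerSeries (Fin r) K₀) (FractionRing (MvPowerSeries (Fin r) K₀)) ''
        {f | ∀ n, MvPowerSeries.coeff n f ∈
          Subfield.closure (Set.range (algebraMap k₀ K₀) ∪ Set.range fun y : K₀ => y ^ p)}) =
      Subfield.closure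
        (Set.range (algebraMap k₀ (FractionRing (MvPowerSeries (Fin r) K₀))) ∪
          (Subfield.closure (algebraMap (MvPowerSeries (Fin r) K₀) (FractionRing (MvPowerSeries (Fin r) K₀)) ''
            {f | ∀ n, MvPowerSeries.coeff n f ∈ Subfield.closure (Set.range fun y : K₀ => y ^ p)}) :
            Set (FractionRing (MvPowerSeries (Fin r) K₀)))) := by
  classical
  haveI : CharP K₀ p := charP_of_injective_algebraMap (algebraMap k₀ K₀).injective p
  set P₀ : Subfield k₀ := Subfield.closure (Set.range fun x : k₀ => x ^ p) with hP₀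
  set Q : Subfield K₀ := Subfield.closure (Set.range fun y : K₀ => y ^ p) with hQ
  set F : Subfield K₀ :=
    Subfield.closure (Set.range (algebraMap k₀ K₀) ∪ Set.range fun y : K₀ => y ^ p) with hF
  have hQF : Q ≤ F := Subfield.closure_mono Set.subset_union_right
  let e := Module.finBasis P₀ k₀
  set v : Fin (Module.finrank P₀ k₀) → K₀ := fun i => algebraMap k₀ K₀ (e i) with hv
  set M : Submodule Q K₀ := Submodule.span Q (Set.range v) with hM
  have h1 : ∀ c : P₀, algebraMap k₀ K₀ (c : k₀) ∈ Q := by
    intro c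
    obtain ⟨x, hx⟩ := (mem_closure_range_pow p (c : k₀)).mp c.2
    rw [← hx, map_pow]
    exact Subfield.subset_closure ⟨_, rfl⟩
  have h2 : ∀ x : k₀, algebraMap k₀ K₀ x ∈ M := by
    intro x
    rw [← e.sum_repr x, map_sum]
    apply Submodule.sum_mem
    intro i _
    have : algebraMap k₀ K₀ (e.repr x i • e i) =
        (⟨algebraMap k₀ K₀ (e.repr x i : k₀), h1 _⟩ : Q) • v i := by
      rw [Subfield.smul_def, smul_eq_mul, map_mul]
      rfl
    rw [this]
    exact Submodule.smul_mem _ _ (Submodule.subset_span ⟨i, rfl⟩)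
  have h3 : (1 : K₀) ∈ M := by
    have := h2 1
    rwa [map_one] at this
  have hQM : ∀ q ∈ Q, q ∈ M := by
    intro q hq
    have : q = (⟨q, hq⟩ : Q) • (1 : K₀) := by
      rw [Subfield.smul_def, smul_eq_mul, mul_one]
    rw [this]
    exact Submodule.smul_mem _ _ h3
  have h4 : ∀ x ∈ M, ∀ y ∈ M, x * y ∈ M := by
    intro x hx y hy
    have hle : M * M ≤ M := by
      rw [hM, Submodule.span_mul_span, Submodule.span_le]
      rintro _ ⟨_, ⟨i, rfl⟩, _, ⟨j, rfl⟩, rfl⟩
      have : v i * v j = algebraMap k₀ K₀ (e i * e j) := by rw [map_mul]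
      show v i * v j ∈ M
      rw [this]
      exact h2 _
    exact hle (Submodule.mul_mem_mul hx hy)
  have h4' : ∀ x ∈ M, ∀ n : ℕ, x ^ n ∈ M := by
    intro x hx n
    induction n with
    | zero => rw [pow_zero]; exact h3
    | succ n ih => rw [pow_succ]; exact h4 _ ih _ hx
  have h5 : ∀ x ∈ M, x⁻¹ ∈ M := by
    intro x hx
    by_cases hx0 : x = 0
    · rw [hx0, inv_zero]; exact Submodule.zero_mem _
    · have hxp : x ^ p ∈ Q := Subfield.subset_closure ⟨x, rfl⟩
      have hp1 : p = (p - 1) + 1 := (Nat.sub_add_cancel hp.out.one_le).symm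
      have : x⁻¹ = (⟨(x ^ p)⁻¹, inv_mem hxp⟩ : Q) • x ^ (p - 1) := by
        rw [Subfield.smul_def, smul_eq_mul]
        field_simp
        rw [← pow_succ', ← hp1]
      rw [this]
      exact Submodule.smul_mem _ _ (h4' x hx _)
  let M' : Subfield K₀ :=
    { carrier := M
      mul_mem' := fun {a b} ha hb => h4 a ha b hb
      one_mem' := h3
      add_mem' := fun {a b} ha hb => Submodule.add_mem _ ha hb
      zero_mem' := Submodule.zero_mem _
      neg_mem' := fun {a} ha => Submodule.neg_mem _ ha
      inv_mem' := fun a ha => h5 a ha }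
  have hFM : ∀ c ∈ F, c ∈ M := by
    intro c hc
    have hle : F ≤ M' := by
      rw [hF, Subfield.closure_le]
      rintro y (⟨x, rfl⟩ | ⟨x, rfl⟩)
      · exact h2 x
      · exact hQM _ (Subfield.subset_closure ⟨x, rfl⟩)
    exact hle hc
  apply le_antisymm
  · rw [Subfield.closure_le]
    rintro _ ⟨f, hf, rfl⟩
    have hf' : ∀ n, ∃ a : Fin (Module.finrank P₀ k₀) → Q, ∑ i, a i • v i = coeff n f := by
      intro n
      exact (Submodule.mem_span_range_iff_exists_fun Q).mp (hFM _ (hf n))
    choose a ha using hf'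
    let g : Fin (Module.finrank P₀ k₀) → MvPowerSeries (Fin r) K₀ := fun i n => ((a n i : Q) : K₀)
    have hfeq : f = ∑ i, C (v i) * g i := by
      ext n
      rw [map_sum, ← ha n]
      apply Finset.sum_congr rfl
      intro i _
      rw [coeff_C_mul, Subfield.smul_def, smul_eq_mul, mul_comm]
      rfl
    rw [hfeq, map_sum]
    apply sum_mem
    intro i _
    rw [map_mul]
    apply mul_mem
    · apply Subfield.subset_closure
      left
      refine ⟨e i, ?_⟩
      rw [IsScalarTower.algebraMap_apply k₀ (MvPowerSeries (Fin r) K₀)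
        (FractionRing (MvPowerSeries (Fin r) K₀)), MvPowerSeries.algebraMap_apply]
    · apply Subfield.subset_closure
      right
      apply Subfield.subset_closure
      refine ⟨_, ?_, rfl⟩
      intro n
      exact (a n i).2
  · rw [Subfield.closure_le]
    rintro y (⟨c, rfl⟩ | hy)
    · apply Subfield.subset_closure
      refine ⟨C (algebraMap k₀ K₀ c), ?_, ?_⟩
      · intro n
        rw [coeff_C]
        split_ifs
        · exact Subfield.subset_closure (Or.inl ⟨c, rfl⟩)
        · exact zero_mem _
      · rw [IsScalarTower.algebraMap_apply k₀ (MvPowerSeries (Fin r) K₀)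
          (FractionRing (MvPowerSeries (Fin r) K₀)), MvPowerSeries.algebraMap_apply]
    · refine Subfield.closure_mono ?_ hy
      rintro _ ⟨f, hf, rfl⟩
      exact ⟨f, fun n => hQF (hf n), rfl⟩

end

end Groth.Agent.H9.KPT
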