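import Mathlib
import Groth.Agent.Lib.Helper9.Misc.KT2

/-!
# Base change of the invariants of a finite subgroup (helper9)
-/

set_option autoImplicit false
set_option linter.unusedSectionVars false

universe u u' v w

open TensorProduct

namespace Groth.Agent.H9.KT

section BC

variable {R : Type u} [CommRing R] (S : Type u') [CommRing S] [Algebra R S]
  {A : Type v} [CommRing A] [HopfAlgebra R A] {C : Type w} [CommRing C] [HopfAlgebra R C]
  (π : A →ₐ[R] C)

/-- the base-changed quotient map -/
noncomputable abbrev piS : S ⊗[R] A →ₐ[S] S ⊗[R] C :=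
  Algebra.TensorProduct.map (AlgHom.id S S) π

lemma piS_tmul (s : S) (a : A) : piS S π (s ⊗ₜ[R] a) = s ⊗ₜ[R] π a := rfl

lemma piS_surj (hπ : Function.Surjective π) : Function.Surjective (piS S π) := by
  intro y
  induction y using TensorProduct.induction_on with
  | zero => exact ⟨0, map_zero _⟩
  | tmul s c =>
    obtain ⟨a, rfl⟩ := hπ c
    exact ⟨s ⊗ₜ[R] a, rfl⟩
  | add x y hx hy =>
    obtain ⟨a, rfl⟩ := hx
    obtain ⟨b, rfl⟩ := hy
    exact ⟨a + b, map_add _ _ _⟩

lemma piS_counit
    (hε : ∀ a : A, CoalgebraStruct.counit (R := R) (π a) = CoalgebraStruct.counit (R := R) a)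
    (x : S ⊗[R] A) :
    CoalgebraStruct.counit (R := S) (piS S π x) = CoalgebraStruct.counit (R := S) x := by
  induction x using TensorProduct.induction_on with
  | zero => simp
  | tmul s a => rw [piS_tmul, TensorProduct.counit_tmul, TensorProduct.counit_tmul, hε]
  | add x y hx hy => rw [map_add, map_add, map_add, hx, hy]

lemma piS_comul
    (hΔ : ∀ a : A, CoalgebraStruct.comul (R := R) (π a) =
      TensorProduct.map π.toLinearMap π.toLinearMap (CoalgebraStruct.comul (R := R) a))
    (x : S ⊗[R] A) :
    CoalgebraStruct.comul (R := S) (piS S π x) =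
      TensorProduct.map (piS S π).toLinearMap (piS S π).toLinearMap
        (CoalgebraStruct.comul (R := S) x) := by
  have key : ∀ (z : S ⊗[S] S) (t : A ⊗[R] A),
      AlgebraTensorModule.tensorTensorTensorComm R S R S S S C C
        (z ⊗ₜ[R] TensorProduct.map π.toLinearMap π.toLinearMap t) =
      TensorProduct.map (piS S π).toLinearMap (piS S π).toLinearMap
        (AlgebraTensorModule.tensorTensorTensorComm R S R S S S A A (z ⊗ₜ[R] t)) := by
    intro z t
    induction z using TensorProduct.induction_on with
    | zero => simp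
    | tmul s₁ s₂ =>
      induction t using TensorProduct.induction_on with
      | zero => simp
      | tmul x y =>
        rw [TensorProduct.map_tmul, AlgebraTensorModule.tensorTensorTensorComm_tmul,
          AlgebraTensorModule.tensorTensorTensorComm_tmul, TensorProduct.map_tmul]
        rfl
      | add x y hx hy => simp only [map_add, TensorProduct.tmul_add, hx, hy]
    | add z₁ z₂ h₁ h₂ => simp only [TensorProduct.add_tmul, map_add, h₁, h₂]
  induction x using TensorProduct.induction_on with
  | zero => simp
  | tmul s a => rw [piS_tmul, TensorProduct.comul_tmul, TensorProduct.comul_tmul, hΔ, key]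
  | add x y hx hy => rw [map_add, map_add, map_add, map_add, hx, hy]

lemma map_id_eq_baseChange {B D : Type*} [CommRing B] [Algebra R B] [CommRing D] [Algebra R D]
    (f : B →ₐ[R] D) (x : S ⊗[R] B) :
    Algebra.TensorProduct.map (AlgHom.id S S) f x = f.toLinearMap.baseChange S x := by
  induction x using TensorProduct.induction_on with
  | zero => simp
  | tmul s b => rfl
  | add x y hx hy => rw [map_add, map_add, hx, hy]

/-- the coaction after base change -/
lemma rho_piS (x : S ⊗[R] A) :
    rho (piS S π) x =
      AlgebraTensorModule.distribBaseChange R S A C ((rho π).toLinearMap.baseChange S x) := by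
  have key : ∀ (s : S) (t : A ⊗[R] A),
      Algebra.TensorProduct.map (AlgHom.id S (S ⊗[R] A)) (piS S π)
        (AlgebraTensorModule.tensorTensorTensorComm R S R S S S A A
          (((1 : S) ⊗ₜ[S] s) ⊗ₜ[R] t)) =
      AlgebraTensorModule.distribBaseChange R S A C
        (s ⊗ₜ[R] Algebra.TensorProduct.map (AlgHom.id R A) π t) := by
    intro s t
    induction t using TensorProduct.induction_on with
    | zero => simp
    | tmul x y =>
      rw [AlgebraTensorModule.tensorTensorTensorComm_tmul]
      show ((1 : S) ⊗ₜ[R] x) ⊗ₜ[S] (s ⊗ₜ[R] π y) =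
        AlgebraTensorModule.distribBaseChange R S A C (s ⊗ₜ[R] (x ⊗ₜ[R] π y))
      rw [AlgebraTensorModule.distribBaseChange_tmul]
      rw [show s ⊗ₜ[R] π y = s • ((1 : S) ⊗ₜ[R] π y) by
        rw [TensorProduct.smul_tmul', smul_eq_mul, mul_one], TensorProduct.tmul_smul,
        TensorProduct.smul_tmul', TensorProduct.smul_tmul', smul_eq_mul, mul_one]
    | add x y hx hy => simp only [map_add, TensorProduct.tmul_add, hx, hy]
  induction x using TensorProduct.induction_on with
  | zero => simp
  | tmul s a =>
    show Algebra.TensorProduct.map (AlgHom.id S (S ⊗[R] A)) (piS S π)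
      (CoalgebraStruct.comul (R := S) (s ⊗ₜ[R] a)) = _
    rw [TensorProduct.comul_tmul, LinearMap.baseChange_tmul]
    exact key s (CoalgebraStruct.comul (R := R) a)
  | add x y hx hy => rw [map_add, map_add, map_add, hx, hy]

lemma includeLeft_piS (x : S ⊗[R] A) :
    (Algebra.TensorProduct.includeLeft : S ⊗[R] A →ₐ[S] (S ⊗[R] A) ⊗[S] (S ⊗[R] C)) x =
      AlgebraTensorModule.distribBaseChange R S A C
        ((Algebra.TensorProduct.includeLeft : A →ₐ[R] A ⊗[R] C).toLinearMap.baseChange S x) := by
  induction x using TensorProduct.induction_on with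
  | zero => simp
  | tmul s a =>
    rw [LinearMap.baseChange_tmul]
    show (s ⊗ₜ[R] a) ⊗ₜ[S] (1 : S ⊗[R] C) = _
    rw [AlgHom.toLinearMap_apply, Algebra.TensorProduct.includeLeft_apply,
      AlgebraTensorModule.distribBaseChange_tmul]
    rfl
  | add x y hx hy => rw [map_add, map_add, map_add, hx, hy]

lemma mem_inv_piS {x : S ⊗[R] A} :
    x ∈ inv (piS S π) ↔ (rho π).toLinearMap.baseChange S x =
      (Algebra.TensorProduct.includeLeft : A →ₐ[R] A ⊗[R] C).toLinearMap.baseChange S x := by
  rw [AlgHom.mem_equalizer, rho_piS, includeLeft_piS]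
  exact (AlgebraTensorModule.distribBaseChange R S A C).injective.eq_iff

/-- flat base change of the invariants -/
theorem finrank_inv_piS_of_flat [Module.Flat R S] :
    Module.finrank S (inv (piS S π)) = Module.finrank S (S ⊗[R] inv π) := by
  let e₁ := AlgHom.tensorEqualizerEquiv S S (rho π)
    (Algebra.TensorProduct.includeLeft : A →ₐ[R] A ⊗[R] C)
  have h : AlgHom.equalizer (Algebra.TensorProduct.map (AlgHom.id S S) (rho π))
      (Algebra.TensorProduct.map (AlgHom.id S S)
        (Algebra.TensorProduct.includeLeft : A →ₐ[R] A ⊗[R] C)) = inv (piS S π) := by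
    ext x
    rw [mem_inv_piS, AlgHom.mem_equalizer, map_id_eq_baseChange, map_id_eq_baseChange]
  rw [e₁.toLinearEquiv.finrank_eq, (Subalgebra.equivOfEq _ _ h).toLinearEquiv.finrank_eq]

/-- base change of the invariants in the presence of a retraction -/
theorem finrank_inv_piS_of_retraction (G : A ⊗[R] C →ₗ[R] A)
    (hG1 : ∀ x : A, G (x ⊗ₜ[R] (1 : C)) = x) (hG2 : ∀ x : A, G (rho π x) ∈ inv π) :
    Module.finrank S (inv (piS S π)) = Module.finrank S (S ⊗[R] inv π) := by
  let p' : A →ₗ[R] inv π :=
    { toFun := fun x => ⟨G (rho π x), hG2 x⟩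
      map_add' := fun x y => Subtype.ext (by simp)
      map_smul' := fun r x => Subtype.ext (by simp) }
  have hp'val : p' ∘ₗ (inv π).val.toLinearMap = LinearMap.id := by
    apply LinearMap.ext
    intro b
    apply Subtype.ext
    show G (rho π b) = b
    rw [(mem_inv π).mp b.2, hG1]
  have hvalp' : (inv π).val.toLinearMap ∘ₗ p' = G ∘ₗ (rho π).toLinearMap :=
    LinearMap.ext fun _ => rfl
  let f : S ⊗[R] inv π →ₗ[S] S ⊗[R] A := (inv π).val.toLinearMap.baseChange S
  have hfinj : Function.Injective f := by
    have h1 : (p'.baseChange S) ∘ₗ f = LinearMap.id := by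
      rw [← LinearMap.baseChange_comp, hp'val, LinearMap.baseChange_id]
    exact Function.LeftInverse.injective (g := p'.baseChange S) (fun y => LinearMap.congr_fun h1 y)
  have hrange : LinearMap.range f = Subalgebra.toSubmodule (inv (piS S π)) := by
    apply le_antisymm
    · rintro _ ⟨y, rfl⟩
      rw [Subalgebra.mem_toSubmodule, mem_inv_piS, ← LinearMap.comp_apply, ← LinearMap.comp_apply,
        ← LinearMap.baseChange_comp, ← LinearMap.baseChange_comp]
      congr 2
      apply LinearMap.ext
      intro b
      exact (mem_inv π).mp b.2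
    · intro x hx
      rw [Subalgebra.mem_toSubmodule, mem_inv_piS] at hx
      refine ⟨p'.baseChange S x, ?_⟩
      rw [← LinearMap.comp_apply, ← LinearMap.baseChange_comp, hvalp', LinearMap.baseChange_comp,
        LinearMap.comp_apply, hx, ← LinearMap.comp_apply, ← LinearMap.baseChange_comp]
      have h2 : G ∘ₗ (Algebra.TensorProduct.includeLeft : A →ₐ[R] A ⊗[R] C).toLinearMap =
          LinearMap.id := LinearMap.ext hG1
      rw [h2, LinearMap.baseChange_id, LinearMap.id_apply]
  have h3 := LinearMap.finrank_range_of_inj hfinj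
  rw [hrange] at h3
  exact h3

end BC

end Groth.Agent.H9.KT
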