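import Mathlib
import Groth.Agent.Lib.Helper9.Misc.KT5
import Groth.Agent.Lib.Helper9.FinHopf.FreeQuot2

/-!
# The order of a finite flat group scheme is multiplicative in quotients (helper9)
-/

set_option autoImplicit false
set_option linter.unusedSectionVars false

universe u v w

open TensorProduct

namespace Groth.Agent.H9.KT

section Local

variable {R : Type u} [CommRing R] {A : Type v} [CommRing A] [HopfAlgebra R A]
  {C : Type w} [CommRing C] [HopfAlgebra R C] (π : A →ₐ[R] C)

lemma projective_inv_of_retraction [Module.Projective R A] (G : A ⊗[R] C →ₗ[R] A)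
    (hG1 : ∀ x : A, G (x ⊗ₜ[R] (1 : C)) = x) (hG2 : ∀ x : A, G (rho π x) ∈ inv π) :
    Module.Projective R (inv π) := by
  let p' : A →ₗ[R] inv π :=
    { toFun := fun x => ⟨G (rho π x), hG2 x⟩
      map_add' := fun x y => Subtype.ext (by simp)
      map_smul' := fun r x => Subtype.ext (by simp) }
  refine Module.Projective.of_split (inv π).val.toLinearMap p' ?_
  apply LinearMap.ext
  intro b
  apply Subtype.ext
  show G (rho π b) = b
  rw [(mem_inv π).mp b.2, hG1]

variable [IsLocalRing R] [IsNoetherianRing R] [Module.Finite R A] [Module.Free R A]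
  [Module.Finite R C] [Module.Free R C]
  (hε : ∀ a : A, CoalgebraStruct.counit (R := R) (π a) = CoalgebraStruct.counit (R := R) a)
  (hΔ : ∀ a : A, CoalgebraStruct.comul (R := R) (π a) =
    TensorProduct.map π.toLinearMap π.toLinearMap (CoalgebraStruct.comul (R := R) a))
  (hπ : Function.Surjective π)

include hε hΔ hπ in
/-- the local case -/
theorem finrank_local :
    Module.finrank R A = Module.finrank R C * Module.finrank R (inv π) := by
  classical
  obtain ⟨G, hG1, hG2⟩ := exists_retraction π hε hΔ hπ
  haveI : Module.Finite R (inv π) :=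
    Module.Finite.of_injective (inv π).val.toLinearMap Subtype.val_injective
  haveI : Module.Projective R (inv π) := projective_inv_of_retraction π G hG1 hG2
  haveI : Module.Free R (inv π) := Module.free_of_flat_of_isLocalRing
  let K := AlgebraicClosure (IsLocalRing.ResidueField R)
  have hB : Module.finrank K (inv (piS K π)) = Module.finrank R (inv π) := by
    rw [finrank_inv_piS_of_retraction K π G hG1 hG2, Module.finrank_baseChange]
  have hA : Module.finrank K (K ⊗[R] A) = Module.finrank R A := Module.finrank_baseChange
  have hC : Module.finrank K (K ⊗[R] C) = Module.finrank R C := Module.finrank_baseChange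
  obtain ⟨hfree, hrank⟩ := FinHopf.free_and_finrank_invSub (piS K π) (piS_counit K π hε)
    (piS_comul K π hΔ) (piS_surj K π hπ)
  haveI : Module.Free (inv (piS K π)) (K ⊗[R] A) := hfree
  have hrank' : Module.finrank (inv (piS K π)) (K ⊗[R] A) = Module.finrank K (K ⊗[R] C) := hrank
  haveI : Nontrivial (K ⊗[R] A) :=
    (Bialgebra.counitAlgHom K (K ⊗[R] A)).toRingHom.domain_nontrivial
  haveI : Nontrivial (inv (piS K π)) := inferInstance
  have htower := Module.finrank_mul_finrank K (inv (piS K π)) (K ⊗[R] A)
  rw [← hA, ← hC, ← hB, ← htower, hrank', mul_comm]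

end Local

section Global

variable {R : Type u} [CommRing R] [IsNoetherianRing R] {A : Type v} [CommRing A] [HopfAlgebra R A]
  [Module.Finite R A] [Module.Projective R A]
  {C : Type w} [CommRing C] [HopfAlgebra R C] [Module.Projective R C] (π : A →ₐ[R] C)
  (hε : ∀ a : A, CoalgebraStruct.counit (R := R) (π a) = CoalgebraStruct.counit (R := R) a)
  (hΔ : ∀ a : A, CoalgebraStruct.comul (R := R) (π a) =
    TensorProduct.map π.toLinearMap π.toLinearMap (CoalgebraStruct.comul (R := R) a))
  (hπ : Function.Surjective π)

include hε hΔ hπ in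
/-- **Lagrange**: the order of `G` is the order of `G'` times the index. -/
theorem rank_mul (q : PrimeSpectrum R) :
    Module.rankAtStalk A q = Module.rankAtStalk C q * Module.rankAtStalk (inv π) q := by
  haveI : Module.Finite R C := Module.Finite.of_surjective π.toLinearMap hπ
  rw [Module.rankAtStalk_eq_finrank_tensorProduct, Module.rankAtStalk_eq_finrank_tensorProduct,
    Module.rankAtStalk_eq_finrank_tensorProduct,
    ← finrank_inv_piS_of_flat (Localization.AtPrime q.asIdeal) π]
  haveI : Module.Free (Localization.AtPrime q.asIdeal) (Localization.AtPrime q.asIdeal ⊗[R] A) :=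
    Module.free_of_flat_of_isLocalRing
  haveI : Module.Free (Localization.AtPrime q.asIdeal) (Localization.AtPrime q.asIdeal ⊗[R] C) :=
    Module.free_of_flat_of_isLocalRing
  exact finrank_local (piS (Localization.AtPrime q.asIdeal) π)
    (piS_counit _ π hε) (piS_comul _ π hΔ) (piS_surj _ π hπ)

end Global

end Groth.Agent.H9.KT
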