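import Mathlib

set_option autoImplicit false
set_option linter.style.haveILetI false
set_option linter.unusedSectionVars false
set_option linter.unusedVariables false

open scoped nonZeroDivisors
open Polynomial

namespace Groth.Agent.H9.KUM

section FracIdeal
variable {A K : Type*} [CommRing A] [IsDedekindDomain A] [Field K] [Algebra A K]
  [IsFractionRing A K]

/-- If `(f) = I^n` for a fractional ideal `I` of a Dedekind domain, then locally at any prime
`p`, `f` is an `n`-th power up to an element not in `p`. -/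
theorem exists_local_gen (n : ℕ) (hn : n ≠ 0) (f : K) (hf : f ≠ 0) (I : FractionalIdeal A⁰ K)
    (hI : FractionalIdeal.spanSingleton A⁰ f = I ^ n) (p : Ideal A) [hp : p.IsPrime] :
    ∃ (x : K) (a : A), x ≠ 0 ∧ a ∉ p ∧ x ^ n = f * algebraMap A K a := by
  classical
  have hI0 : I ≠ 0 := by
    rintro rfl
    rw [zero_pow hn, FractionalIdeal.spanSingleton_eq_zero_iff] at hI
    exact hf hI
  have hII : I * I⁻¹ = 1 := mul_inv_cancel₀ hI0
  set P : FractionalIdeal A⁰ K := (p : FractionalIdeal A⁰ K) with hP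
  have hP1 : P ≤ 1 := by
    rw [hP, ← FractionalIdeal.coeIdeal_top]
    exact (FractionalIdeal.coeIdeal_le_coeIdeal K).mpr le_top
  have hPI : P * I ≤ I := by
    calc P * I ≤ 1 * I := mul_le_mul_left hP1 I
      _ = I := one_mul I
  have hne : P * I ≠ I := by
    intro h
    have h1 : P = 1 := by
      have := congrArg (· * I⁻¹) h
      simpa [mul_assoc, hII] using this
    rw [hP, ← FractionalIdeal.coeIdeal_top] at h1
    exact hp.ne_top (FractionalIdeal.coeIdeal_injective h1)
  obtain ⟨x, hxI, hxPI⟩ : ∃ x ∈ I, x ∉ P * I := by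
    by_contra hcon
    push Not at hcon
    exact hne (le_antisymm hPI fun x hx => hcon x hx)
  have hx0 : x ≠ 0 := by
    rintro rfl
    exact hxPI (P * I).zero_mem
  set J : FractionalIdeal A⁰ K := FractionalIdeal.spanSingleton A⁰ x * I⁻¹ with hJ
  have hJ1 : J ≤ 1 := by
    calc J ≤ I * I⁻¹ :=
          mul_le_mul_left (FractionalIdeal.spanSingleton_le_iff_mem.mpr hxI) _
      _ = 1 := hII
  have hJI : J * I = FractionalIdeal.spanSingleton A⁰ x := by
    rw [hJ, mul_assoc, mul_comm I⁻¹ I, hII, mul_one]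
  have hJn : FractionalIdeal.spanSingleton A⁰ (x ^ n * f⁻¹) = J ^ n := by
    rw [← FractionalIdeal.spanSingleton_mul_spanSingleton, ← FractionalIdeal.spanSingleton_pow,
      ← FractionalIdeal.spanSingleton_inv, hI, hJ, mul_pow, inv_pow]
  have hJn1 : J ^ n ≤ 1 := pow_le_one' hJ1 n
  have hmem : x ^ n * f⁻¹ ∈ (1 : FractionalIdeal A⁰ K) := by
    apply hJn1
    rw [← hJn]
    exact FractionalIdeal.mem_spanSingleton_self _ _
  obtain ⟨a, ha⟩ := (FractionalIdeal.mem_one_iff A⁰).mp hmem
  refine ⟨x, a, hx0, ?_, ?_⟩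
  · intro hap
    obtain ⟨J₀, hJ₀⟩ := FractionalIdeal.le_one_iff_exists_coeIdeal.mp hJ1
    have h1 : FractionalIdeal.spanSingleton A⁰ (x ^ n * f⁻¹) ≤ P := by
      rw [FractionalIdeal.spanSingleton_le_iff_mem, hP, FractionalIdeal.mem_coeIdeal]
      exact ⟨a, hap, ha⟩
    rw [hJn, ← hJ₀, ← FractionalIdeal.coeIdeal_pow, hP,
      FractionalIdeal.coeIdeal_le_coeIdeal] at h1
    have h2 : J₀ ≤ p := Ideal.IsPrime.le_of_pow_le h1
    have h3 : J ≤ P := by
      rw [← hJ₀, hP]
      exact (FractionalIdeal.coeIdeal_le_coeIdeal K).mpr h2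
    apply hxPI
    have : FractionalIdeal.spanSingleton A⁰ x ≤ P * I := by
      rw [← hJI]
      exact mul_le_mul_left h3 I
    exact this (FractionalIdeal.mem_spanSingleton_self _ _)
  · rw [ha]
    field_simp

end FracIdeal

end Groth.Agent.H9.KUM
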