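import Mathlib

set_option autoImplicit false
set_option linter.style.haveILetI false
set_option linter.unusedSectionVars false
set_option linter.unusedVariables false

open scoped nonZeroDivisors
open Polynomial

namespace Groth.Agent.H9.KUM

section Disc
variable {A K L : Type*} [CommRing A] [IsDomain A] [IsIntegrallyClosed A]
  [Field K] [Algebra A K] [IsFractionRing A K]
  [Field L] [Algebra K L] [Algebra A L] [IsScalarTower A K L]
  [FiniteDimensional K L] [Algebra.IsSeparable K L]

theorem exists_disc (n : ℕ) (hn0 : n ≠ 0) (p : Ideal A) [hp : p.IsPrime] (hnp : (n : A) ∉ p)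
    (a : A) (hap : a ∉ p) (β : L) (hβ : β ^ n = algebraMap A L a)
    (hgen : Algebra.adjoin K {β} = ⊤) :
    ∃ d : A, d ∉ p ∧ ∀ b : L, IsIntegral A b →
      algebraMap A L d * b ∈ Algebra.adjoin A ({β} : Set L) := by
  classical
  have hinjK : Function.Injective (algebraMap A K) := IsFractionRing.injective A K
  have hinjL : Function.Injective (algebraMap A L) := by
    rw [IsScalarTower.algebraMap_eq A K L]
    exact (algebraMap K L).injective.comp hinjK
  haveI : FaithfulSMul A L := (faithfulSMul_iff_algebraMap_injective A L).mpr hinjL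
  have hβint : IsIntegral A β := by
    refine ⟨X ^ n - C a, monic_X_pow_sub_C a hn0, ?_⟩
    simp [hβ]
  have hβK : IsIntegral K β := hβint.tower_top
  set pb : PowerBasis K L := PowerBasis.ofAdjoinEqTop hβK hgen with hpb
  have hpbgen : pb.gen = β := PowerBasis.ofAdjoinEqTop_gen hβK hgen
  set disc : K := Algebra.discr K pb.basis with hdisc
  have hdiscint : IsIntegral A disc := by
    apply Algebra.discr_isIntegral
    intro i
    rw [pb.basis_eq_pow, hpbgen]
    exact hβint.pow _
  obtain ⟨d, hd⟩ := IsIntegrallyClosed.algebraMap_eq_of_integral hdiscint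
  refine ⟨d, ?_, ?_⟩
  · -- d ∉ p
    set g₀ : A[X] := minpoly A β with hg₀
    have hdvd : g₀ ∣ X ^ n - C a := by
      apply minpoly.isIntegrallyClosed_dvd hβint
      simp [hβ]
    obtain ⟨h₀, hh₀⟩ := hdvd
    have hminK : minpoly K β = g₀.map (algebraMap A K) :=
      minpoly.isIntegrallyClosed_eq_field_fractions' K hβint
    have hder : (n : A[X]) * X ^ (n - 1) = derivative g₀ * h₀ + g₀ * derivative h₀ := by
      have := congrArg derivative hh₀
      rw [derivative_mul] at this
      rw [← this]
      simp [derivative_X_pow]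
    have hev : (n : L) * β ^ (n - 1) = aeval β (derivative g₀) * aeval β h₀ := by
      have := congrArg (aeval β) hder
      simp only [map_mul, map_add, map_pow, aeval_X, map_natCast] at this
      rw [this, hg₀, minpoly.aeval, zero_mul, add_zero]
    -- norms
    set m := Module.finrank K L with hm
    have hN1 : Algebra.norm K ((n : L) * β ^ (n - 1)) =
        (n : K) ^ m * (Algebra.norm K β) ^ (n - 1) := by
      rw [map_mul, map_pow]
      congr 1
      have : (n : L) = algebraMap K L (n : K) := by simp
      rw [this, Algebra.norm_algebraMap]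
    have hN2 : (Algebra.norm K β) ^ n = (algebraMap A K a) ^ m := by
      rw [← map_pow, hβ, IsScalarTower.algebraMap_apply A K L, Algebra.norm_algebraMap]
    obtain ⟨ν, hν⟩ := IsIntegrallyClosed.algebraMap_eq_of_integral
      (Algebra.isIntegral_norm K hβint)
    have hh₀int : IsIntegral A (aeval β h₀) := by
      have : aeval β h₀ ∈ Algebra.adjoin A ({β} : Set L) := by
        rw [Algebra.adjoin_singleton_eq_range_aeval]
        exact ⟨h₀, rfl⟩
      exact IsIntegral.of_mem_of_fg _ (hβint.fg_adjoin_singleton) _ this
    obtain ⟨e, he⟩ := IsIntegrallyClosed.algebraMap_eq_of_integral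
      (Algebra.isIntegral_norm K hh₀int)
    obtain ⟨k, hdiscN⟩ : ∃ k : ℕ, disc = (-1) ^ k *
        Algebra.norm K (aeval β (derivative g₀)) := by
      refine ⟨Module.finrank K L * (Module.finrank K L - 1) / 2, ?_⟩
      rw [hdisc, Algebra.discr_powerBasis_eq_norm, hpbgen, hminK, derivative_map,
        aeval_map_algebraMap]
    set sg : A := (-1) ^ k with hsg
    have hkeyK : disc * ((-1) ^ k * Algebra.norm K (aeval β h₀)) =
        (n : K) ^ m * (Algebra.norm K β) ^ (n - 1) := by
      rw [← hN1, hev, map_mul, hdiscN]
      have h2 : ((-1 : K) ^ k) * ((-1 : K) ^ k) = 1 := by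
        rw [← pow_add, ← two_mul, pow_mul]
        simp
      linear_combination (Algebra.norm K (aeval β (derivative g₀)) *
        Algebra.norm K (aeval β h₀)) * h2
    have hkey : d * (sg * e) = (n : A) ^ m * ν ^ (n - 1) := by
      apply hinjK
      have h3 : algebraMap A K sg = (-1) ^ k := by
        rw [hsg]; simp
      simp only [map_mul, map_pow, map_natCast]
      rw [hd, he, hν, h3]
      exact hkeyK
    have hνn : ν ^ n = a ^ m := by
      apply hinjK
      rw [map_pow, map_pow, hν, hN2]
    intro hdp
    have h1 : (n : A) ^ m * ν ^ (n - 1) ∈ p := by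
      rw [← hkey]
      exact p.mul_mem_right _ hdp
    rcases hp.mem_or_mem h1 with h2 | h2
    · exact hnp (hp.mem_of_pow_mem _ h2)
    · have hνp : ν ∈ p ∨ n - 1 = 0 := by
        by_cases h : n - 1 = 0
        · exact Or.inr h
        · exact Or.inl (hp.mem_of_pow_mem _ h2)
      rcases hνp with h3 | h3
      · have : a ^ m ∈ p := by
          rw [← hνn]
          exact p.pow_mem_of_mem h3 n (Nat.pos_of_ne_zero hn0)
        exact hap (hp.mem_of_pow_mem _ this)
      · rw [h3, pow_zero] at h2
        exact hp.ne_top ((Ideal.eq_top_iff_one _).mpr h2)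
  · intro b hb
    have := Algebra.discr_mul_isIntegral_mem_adjoin (R := A) K (B := pb)
      (by rw [hpbgen]; exact hβint) hb
    rw [hpbgen, ← hdisc, ← hd, Algebra.smul_def, ← IsScalarTower.algebraMap_apply A K L] at this
    exact this

end Disc

end Groth.Agent.H9.KUM
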