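import Mathlib
import Groth.Agent.Lib.Helper9.Misc.KUM1
import Groth.Agent.Lib.Helper9.Misc.KUM2

set_option autoImplicit false
set_option linter.style.haveILetI false
set_option linter.unusedSectionVars false
set_option linter.unusedVariables false

open scoped nonZeroDivisors IntermediateField
open Polynomial

namespace Groth.Agent.H9.KUM

section Main
variable {A : Type*} {K : Type*} {L : Type*} [CommRing A] [IsDedekindDomain A]
    [Field K] [Algebra A K] [IsFractionRing A K]
    [Field L] [Algebra K L] [Algebra A L] [IsScalarTower A K L]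

theorem adjoin_eq_top_of (α β : L) (x : K) (hx : x ≠ 0) (hα0 : α ≠ 0)
    (hβ : β = algebraMap K L x / α) (hαalg : IsAlgebraic K α)
    (hgen : IntermediateField.adjoin K {α} = ⊤) :
    Algebra.adjoin K ({β} : Set L) = ⊤ := by
  have hxL : algebraMap K L x ≠ 0 := by
    simpa using hx
  have hβ0 : β ≠ 0 := by
    rw [hβ]; exact div_ne_zero hxL hα0
  have hαβ : α = algebraMap K L x / β := by
    rw [hβ]; field_simp
  have hβalg : IsAlgebraic K β := by
    rw [hβ, div_eq_mul_inv]
    exact (isAlgebraic_algebraMap (R := K) (A := L) x).mul hαalg.inv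
  have h1 : IntermediateField.adjoin K {β} = ⊤ := by
    rw [eq_top_iff, ← hgen, IntermediateField.adjoin_simple_le_iff, hαβ]
    exact div_mem (algebraMap_mem _ x) (IntermediateField.mem_adjoin_simple_self K β)
  rw [← IntermediateField.adjoin_simple_toSubalgebra_of_isAlgebraic hβalg, h1,
    IntermediateField.top_toSubalgebra]

theorem main (n : ℕ) (hn : IsUnit (n : A)) (f : K) (hf : f ≠ 0)
    (I : FractionalIdeal A⁰ K) (hI : FractionalIdeal.spanSingleton A⁰ f = I ^ n)
    (α : L) (hα : α ^ n = algebraMap K L f) (hgen : IntermediateField.adjoin K {α} = ⊤) :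
    Algebra.Etale A (integralClosure A L) ∧ Module.Finite A (integralClosure A L) := by
  classical
  have hn0 : n ≠ 0 := by
    rintro rfl
    simp at hn
  have hinjK : Function.Injective (algebraMap A K) := IsFractionRing.injective A K
  have hinjL : Function.Injective (algebraMap A L) := by
    rw [IsScalarTower.algebraMap_eq A K L]
    exact (algebraMap K L).injective.comp hinjK
  haveI : FaithfulSMul A L := (faithfulSMul_iff_algebraMap_injective A L).mpr hinjL
  have hnK : (n : K) ≠ 0 := by
    have : IsUnit (algebraMap A K (n : A)) := hn.map _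
    rw [map_natCast] at this
    exact this.ne_zero
  have hα0 : α ≠ 0 := by
    rintro rfl
    rw [zero_pow hn0] at hα
    exact hf ((algebraMap K L).injective (by rw [← hα, map_zero]))
  have hsep : (X ^ n - C f : K[X]).Separable := separable_X_pow_sub_C f hnK hf
  have hroot : aeval α (X ^ n - C f : K[X]) = 0 := by simp [hα]
  have hαK : IsIntegral K α := ⟨X ^ n - C f, monic_X_pow_sub_C f hn0, hroot⟩
  have hαsep : IsSeparable K α := hsep.of_dvd (minpoly.dvd K α hroot)
  haveI : Algebra.IsSeparable K L := by
    haveI : Algebra.IsSeparable K K⟮α⟯ :=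
      (IntermediateField.isSeparable_adjoin_simple_iff_isSeparable K L).mpr hαsep
    refine ⟨fun y => ?_⟩
    exact IntermediateField.isSeparable_of_mem_isSeparable K L (L := K⟮α⟯) (by rw [hgen]; trivial)
  haveI : FiniteDimensional K L := by
    haveI : FiniteDimensional K K⟮α⟯ := IntermediateField.adjoin.finiteDimensional hαK
    have e : K⟮α⟯ ≃ₗ[K] L :=
      ((IntermediateField.equivOfEq hgen).trans IntermediateField.topEquiv).toLinearEquiv
    exact Module.Finite.equiv e
  set B := integralClosure A L with hB
  haveI hfin : Module.Finite A B := IsIntegralClosure.finite A K L B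
  refine ⟨?_, hfin⟩
  -- formally unramified
  have hD : ∀ b : B, KaehlerDifferential.D A B b = 0 := by
    intro b
    set Ann : Ideal A :=
      { carrier := {s | s • KaehlerDifferential.D A B b = 0}
        add_mem' := by
          intro s t hs ht
          simp only [Set.mem_ofPred_eq] at hs ht ⊢
          rw [add_smul, hs, ht, add_zero]
        zero_mem' := by simp
        smul_mem' := by
          intro c s hs
          simp only [Set.mem_ofPred_eq] at hs ⊢
          rw [smul_eq_mul, mul_smul, hs, smul_zero] } with hAnn
    by_contra hne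
    have hAnntop : Ann ≠ ⊤ := by
      intro h
      have : (1 : A) ∈ Ann := by rw [h]; trivial
      have h1 : (1 : A) • KaehlerDifferential.D A B b = 0 := this
      rw [one_smul] at h1
      exact hne h1
    obtain ⟨p, hpmax, hAp⟩ := Ideal.exists_le_maximal Ann hAnntop
    haveI hpprime : p.IsPrime := hpmax.isPrime
    obtain ⟨x, a, hx0, hap, hxa⟩ := exists_local_gen n hn0 f hf I hI p
    set β : L := algebraMap K L x / α with hβ
    have hβn : β ^ n = algebraMap A L a := by
      rw [hβ, div_pow, hα, ← map_pow, hxa, map_mul, IsScalarTower.algebraMap_apply A K L]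
      have : algebraMap K L f ≠ 0 := by simpa using hf
      field_simp
    have hβgen : Algebra.adjoin K ({β} : Set L) = ⊤ :=
      adjoin_eq_top_of α β x hx0 hα0 hβ hαK.isAlgebraic hgen
    have hnp : (n : A) ∉ p := fun h => hpprime.ne_top (Ideal.eq_top_of_isUnit_mem _ h hn)
    obtain ⟨d, hdp, hd⟩ := exists_disc (K := K) n hn0 p hnp a hap β hβn hβgen
    have hβint : IsIntegral A β := by
      refine ⟨X ^ n - C a, monic_X_pow_sub_C a hn0, ?_⟩
      simp [hβn]
    set β' : B := ⟨β, hβint⟩ with hβ'
    have hβ'n : β' ^ n = algebraMap A B a := by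
      apply Subtype.ext
      simp [hβ', hβn]
    -- d • b ∈ adjoin A {β'}
    have hmem : algebraMap A L d * (b : L) ∈ Algebra.adjoin A ({β} : Set L) := hd b b.2
    rw [Algebra.adjoin_singleton_eq_range_aeval] at hmem
    obtain ⟨q, hq⟩ := hmem
    have hq' : aeval β' q = d • b := by
      apply Subtype.ext
      have h1 : ((aeval β' q : B) : L) = aeval β q := by
        have := (aeval_algHom_apply (B.val) β' q).symm
        simpa [hβ'] using this
      rw [h1]
      change aeval β q = _
      have : ((d • b : B) : L) = algebraMap A L d * (b : L) := by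
        rw [Algebra.smul_def]; rfl
      rw [this]
      exact hq
    set D := KaehlerDifferential.D A B with hDdef
    have h1 : (n * a : A) • D β' = 0 := by
      have h2 : D (β' ^ n) = 0 := by
        rw [hβ'n]; exact D.map_algebraMap a
      rw [Derivation.leibniz_pow] at h2
      have h3 : β' • (n • β' ^ (n - 1) • D β') = 0 := by rw [h2, smul_zero]
      rw [smul_comm, smul_smul, ← pow_succ', Nat.sub_add_cancel (Nat.one_le_iff_ne_zero.mpr hn0),
        hβ'n] at h3
      rw [mul_smul, Nat.cast_smul_eq_nsmul, ← algebraMap_smul B a]
      exact h3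
    have h2 : (n * a * d : A) • D b = 0 := by
      have : d • D b = D (aeval β' q) := by
        rw [hq', D.map_smul]
      rw [mul_smul, this, Derivation.map_aeval, smul_comm, h1, smul_zero]
    have h3 : (n * a * d : A) ∈ Ann := h2
    have h4 := hAp h3
    rcases hpprime.mem_or_mem h4 with h5 | h5
    · rcases hpprime.mem_or_mem h5 with h6 | h6
      · exact hnp h6
      · exact hap h6
    · exact hdp h5
  haveI : Algebra.FormallyUnramified A B := by
    refine ⟨?_⟩
    rw [← Submodule.subsingleton_iff B, ← subsingleton_iff_bot_eq_top,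
      ← KaehlerDifferential.span_range_derivation, eq_comm, Submodule.span_eq_bot]
    rintro _ ⟨b, rfl⟩
    exact hD b
  haveI : IsNoetherianRing A := inferInstance
  haveI : Algebra.FinitePresentation A B :=
    Algebra.FinitePresentation.of_finiteType.mp inferInstance
  haveI : Module.IsTorsionFree A L := inferInstance
  haveI : Module.IsTorsionFree A B := IsIntegralClosure.isTorsionFree A L
  haveI : Module.Flat A B := inferInstance
  exact Algebra.Etale.of_formallyUnramified_of_flat

end Main

end Groth.Agent.H9.KUM
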