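import Mathlib

set_option autoImplicit false
universe u

/-! # KZ1: coactions of the multiplicative monoid of the affine line on rings (ℕ-gradings),
graded Nakayama-type surjectivity and injectivity lemmas, and a local annihilator lemma for étale
ring maps. -/

namespace Groth.Agent.H9.KZ

open Polynomial

/-- A coaction of the monoid scheme `A¹` on a commutative ring, in polynomial form. -/
structure Coact (A : Type u) [CommRing A] where
  ρ : A →+* A[X]
  eval_one : ∀ a, (ρ a).eval 1 = a
  rho_coeff : ∀ a n, ρ ((ρ a).coeff n) = monomial n ((ρ a).coeff n)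

namespace Coact

variable {A : Type u} [CommRing A] (c : Coact A)

/-- the degree `n` component -/
noncomputable def π (n : ℕ) (a : A) : A := (c.ρ a).coeff n

theorem pi_add (n : ℕ) (a b : A) : c.π n (a + b) = c.π n a + c.π n b := by simp [π]

theorem pi_zero (n : ℕ) : c.π n 0 = 0 := by simp [π]

theorem pi_mul (n : ℕ) (a b : A) :
    c.π n (a * b) = ∑ p ∈ Finset.HasAntidiagonal.antidiagonal n, c.π p.1 a * c.π p.2 b := by
  simp only [π, map_mul, coeff_mul]

theorem rho_pi (n : ℕ) (a : A) : c.ρ (c.π n a) = monomial n (c.π n a) := c.rho_coeff a n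

theorem pi_pi (m n : ℕ) (a : A) : c.π m (c.π n a) = if n = m then c.π n a else 0 := by
  rw [π, rho_pi, coeff_monomial]

theorem sum_pi (a : A) : ∑ n ∈ Finset.range ((c.ρ a).natDegree + 1), c.π n a = a := by
  have h := c.eval_one a
  rw [eval_eq_sum_range] at h
  simpa [π] using h

/-- the degree zero projection as a ring hom -/
noncomputable def π₀ : A →+* A := (constantCoeff).comp c.ρ

theorem pi0_apply (a : A) : c.π₀ a = c.π 0 a := by
  simp [π₀, π, constantCoeff_apply]

theorem rho_of_pi0 (a : A) (h : c.π 0 a = a) : c.ρ a = C a := by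
  have := c.rho_pi 0 a
  rw [h] at this
  rw [this, monomial_zero_left]

end Coact

section LemmaA

variable {A B : Type u} [CommRing A] [CommRing B] (cA : Coact A) (cB : Coact B) (φ : B →+* A)

theorem pi_compat (hφ : ∀ b, cA.ρ (φ b) = (cB.ρ b).map φ) (n : ℕ) (b : B) :
    cA.π n (φ b) = φ (cB.π n b) := by
  rw [Coact.π, hφ, coeff_map, Coact.π]

theorem lemmaA (hφ : ∀ b, cA.ρ (φ b) = (cB.ρ b).map φ)
    (ha : ∀ a, cA.π 0 a = 0 → a ∈ Ideal.map φ (RingHom.ker cB.π₀))
    (hb : ∀ a, cA.π 0 a = a → ∃ b, φ b = a) : Function.Surjective φ := by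
  have key : ∀ n a, cA.π n a ∈ φ.range := by
    intro n
    induction n using Nat.strong_induction_on with
    | _ n IH =>
      intro a
      rcases Nat.eq_zero_or_pos n with rfl | hn
      · obtain ⟨b, hb'⟩ := hb (cA.π 0 a) (by rw [cA.pi_pi]; simp)
        exact ⟨b, hb'⟩
      · have h0 : cA.π 0 (cA.π n a) = 0 := by
          rw [cA.pi_pi, if_neg (by omega)]
        have hmem := ha _ h0
        have hQ : ∀ c ∈ Ideal.map φ (RingHom.ker cB.π₀),
            cA.π 0 c = 0 ∧ ∀ m ≤ n, cA.π m c ∈ φ.range := by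
          intro c hc
          refine Submodule.span_induction (p := fun c _ => cA.π 0 c = 0 ∧ ∀ m ≤ n, cA.π m c ∈ φ.range)
            ?_ ?_ ?_ ?_ hc
          · rintro x ⟨k, hk, rfl⟩
            refine ⟨?_, fun m _ => ?_⟩
            · rw [pi_compat cA cB φ hφ, ← cB.pi0_apply]
              rw [SetLike.mem_coe, RingHom.mem_ker] at hk
              rw [hk, map_zero]
            · rw [pi_compat cA cB φ hφ]
              exact ⟨_, rfl⟩
          · exact ⟨cA.pi_zero 0, fun m _ => by rw [cA.pi_zero]; exact Subring.zero_mem _⟩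
          · rintro x y _ _ ⟨hx0, hx⟩ ⟨hy0, hy⟩
            refine ⟨by rw [cA.pi_add, hx0, hy0, add_zero], fun m hm => ?_⟩
            rw [cA.pi_add]
            exact Subring.add_mem _ (hx m hm) (hy m hm)
          · rintro r x _ ⟨hx0, hx⟩
            refine ⟨?_, fun m hm => ?_⟩
            · rw [smul_eq_mul, ← cA.pi0_apply, map_mul, cA.pi0_apply x, hx0, mul_zero]
            · rw [smul_eq_mul, cA.pi_mul]
              refine Subring.sum_mem _ fun p hp => ?_
              rw [Finset.HasAntidiagonal.mem_antidiagonal] at hp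
              rcases Nat.eq_zero_or_pos p.2 with h2 | h2
              · rw [h2, hx0, mul_zero]
                exact Subring.zero_mem _
              · exact Subring.mul_mem _ (IH p.1 (by omega) r) (hx p.2 (by omega))
        have := (hQ _ hmem).2 n le_rfl
        rwa [cA.pi_pi, if_pos rfl] at this
  intro a
  have : a ∈ φ.range := by
    rw [← cA.sum_pi a]
    exact Subring.sum_mem _ fun n _ => key n a
  exact this

end LemmaA

section LemmaB

variable {B : Type u} [CommRing B] (cB : Coact B)

theorem lemmaB (I : Ideal B) (hI : ∀ b ∈ I, ∀ n, cB.π n b ∈ I)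
    (h0 : ∀ b ∈ I, cB.π 0 b = b → b = 0)
    (hloc : ∀ P : Ideal B, P.IsPrime → RingHom.ker cB.π₀ ≤ P → ∀ b ∈ I, ∃ s, s ∉ P ∧ s * b = 0) :
    I = ⊥ := by
  rw [eq_bot_iff]
  intro b hb
  rw [Ideal.mem_bot]
  have key : ∀ n, cB.π n b = 0 := by
    intro n
    set c := cB.π n b with hc
    have hcI : c ∈ I := hI b hb n
    have hρ : cB.ρ c = monomial n c := cB.rho_pi n b
    let J : Ideal B := LinearMap.ker (LinearMap.mulRight B c)
    have hJ : ∀ s, s ∈ J ↔ s * c = 0 := fun s => by
      simp [J, LinearMap.mem_ker]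
    have hgr : ∀ s ∈ J, ∀ j, cB.π j s ∈ J := by
      intro s hs j
      rw [hJ] at hs ⊢
      have h1 : cB.ρ (s * c) = 0 := by rw [hs, map_zero]
      rw [map_mul, hρ] at h1
      have h2 := congrArg (fun p => p.coeff (j + n)) h1
      simp only [coeff_mul_monomial, coeff_zero] at h2
      exact h2
    by_contra hne
    have h1J : (1 : B) ∉ J := by
      intro h1
      rw [hJ, one_mul] at h1
      exact hne h1
    have hJ' : J ⊔ RingHom.ker cB.π₀ ≠ ⊤ := by
      intro htop
      have h1 : (1 : B) ∈ J ⊔ RingHom.ker cB.π₀ := by rw [htop]; trivial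
      obtain ⟨s, hs, p, hp, hsp⟩ := Submodule.mem_sup.mp h1
      rw [RingHom.mem_ker] at hp
      have h2 : cB.π₀ s = 1 := by
        have := congrArg cB.π₀ hsp
        rw [map_add, hp, add_zero, map_one] at this
        exact this
      apply h1J
      rw [← h2, cB.pi0_apply]
      exact hgr s hs 0
    obtain ⟨P, hPmax, hle⟩ := Ideal.exists_le_maximal _ hJ'
    obtain ⟨s, hsP, hsc⟩ := hloc P hPmax.isPrime (le_trans le_sup_right hle) c hcI
    exact hsP (hle (Submodule.mem_sup_left ((hJ s).mpr hsc)))
  rw [← cB.sum_pi b]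
  exact Finset.sum_eq_zero fun n _ => key n

end LemmaB

section LocalAnn

theorem local_ann {B C : Type u} [CommRing B] [CommRing C] (ψ : B →+* C) (hψ : ψ.Etale) (g : B)
    (hu : IsUnit (ψ g)) (hs : ∀ c : C, ∃ b n, c * ψ g ^ n = ψ b) (P : Ideal B) [P.IsPrime]
    (hg : g ∉ P) (hP : ∀ b, ψ b = 0 → b ∈ P) (b : B) (hb : ψ b = 0) :
    ∃ s, s ∉ P ∧ s * b = 0 := by
  letI := ψ.toAlgebra
  have hEt : Algebra.Etale B C := hψ
  let B' := Localization.Away g
  have hu' : ∀ y : Submonoid.powers g, IsUnit (ψ y) := by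
    rintro ⟨_, n, rfl⟩
    rw [map_pow]
    exact hu.pow n
  let l : B' →+* C := IsLocalization.lift (M := Submonoid.powers g) hu'
  letI : Algebra B' C := l.toAlgebra
  haveI : IsScalarTower B B' C := IsScalarTower.of_algebraMap_eq fun x => by
    change ψ x = l (algebraMap B B' x)
    rw [IsLocalization.lift_eq]
  haveI : Algebra.Etale B B' := Algebra.Etale.of_isLocalizationAway g
  haveI : Algebra.Etale B' C := Algebra.Etale.of_restrictScalars (R := B) (A := B') (B := C)
  have hsurj : Function.Surjective (algebraMap B' C) := by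
    intro c
    obtain ⟨b, n, hbn⟩ := hs c
    refine ⟨IsLocalization.mk' B' b (⟨g ^ n, n, rfl⟩ : Submonoid.powers g), ?_⟩
    change l _ = c
    rw [IsLocalization.lift_mk'_spec]
    change ψ b = ψ (g ^ n) * c
    rw [map_pow, ← hbn, mul_comm]
  have hidem : IsIdempotentElem (RingHom.ker (algebraMap B' C)) :=
    (Algebra.FormallyEtale.iff_of_surjective hsurj).mp inferInstance
  have hfg : (RingHom.ker (algebraMap B' C)).FG := by
    have := Algebra.FinitePresentation.ker_fG_of_surjective (Algebra.ofId B' C) hsurj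
    exact this
  obtain ⟨e, he, hker⟩ := (Ideal.isIdempotentElem_iff_of_fg _ hfg).mp hidem
  have hbk : algebraMap B B' b ∈ RingHom.ker (algebraMap B' C) := by
    rw [RingHom.mem_ker, ← IsScalarTower.algebraMap_apply]
    exact hb
  rw [hker, Ideal.submodule_span_eq, Ideal.mem_span_singleton'] at hbk
  obtain ⟨r, hr⟩ := hbk
  have h1 : (1 - e) * algebraMap B B' b = 0 := by
    rw [← hr]
    have : e * e = e := he
    linear_combination (-r) * this
  obtain ⟨⟨s', v⟩, hs'v⟩ := IsLocalization.mk'_surjective (Submonoid.powers g) (1 - e)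
  change IsLocalization.mk' B' s' v = 1 - e at hs'v
  have hek : algebraMap B' C e = 0 := by
    have : e ∈ RingHom.ker (algebraMap B' C) := by
      rw [hker]
      exact Ideal.mem_span_singleton_self e
    exact this
  have h2 : algebraMap B B' (s' * b) = 0 := by
    rw [map_mul, ← IsLocalization.mk'_spec B' s' v, hs'v]
    linear_combination (algebraMap B B' (v : B)) * h1
  obtain ⟨w, hw⟩ := (IsLocalization.map_eq_zero_iff (Submonoid.powers g) B' _).mp h2
  refine ⟨w * s', ?_, by rw [mul_assoc]; exact hw⟩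
  intro hmem
  have hwP : (w : B) ∉ P := by
    obtain ⟨_, n, rfl⟩ := w
    intro h
    exact hg (Ideal.IsPrime.mem_of_pow_mem inferInstance n h)
  have hs'P : s' ∈ P := (Ideal.IsPrime.mem_or_mem inferInstance hmem).resolve_left hwP
  have h3 : l (IsLocalization.mk' B' s' v) = 1 := by
    rw [hs'v]
    change algebraMap B' C (1 - e) = 1
    rw [map_sub, map_one, hek, sub_zero]
  rw [IsLocalization.lift_mk'_spec, mul_one] at h3
  have h4 : s' - (v : B) ∈ P := hP _ (by rw [map_sub, h3, sub_self])
  have hvP : (v : B) ∈ P := by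
    have := P.sub_mem hs'P h4
    simpa using this
  obtain ⟨_, n, rfl⟩ := v
  exact hg (Ideal.IsPrime.mem_of_pow_mem inferInstance n hvP)

end LocalAnn

end Groth.Agent.H9.KZ
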