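import Mathlib
import Groth.Prelude.Def_Magnet2
import Groth.Agent.Lib.Helper9.Misc.MEX1

/-! Helper9: S18958 — equivariant families into an open G-stable subscheme (Kempf-monoid type condition). -/

set_option linter.style.haveILetI false
set_option linter.unusedSectionVars false

namespace Groth.Agent.H9.MEX

universe u

open CategoryTheory CategoryTheory.Limits AlgebraicGeometry MonoidalCategory
  CartesianMonoidalCategory MonObj Opposite
open Magnet

variable {k : Type u} [Field k]

section Stable

variable {S : Scheme.{u}} {G X U : Over S} [GrpObj G] (aX : AlgGrp.Action G X) (aU : AlgGrp.Action G U)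
  (j : U ⟶ X) (hj : aU.act ≫ j = (G ◁ j) ≫ aX.act)

include hj in
/-- a `G`-stable subscheme: points of `G × X` whose second component lies in `U` are mapped into `U` -/
theorem act_mem_range (r : (G ⊗ X).left) (hr : (snd G X).left r ∈ Set.range j.left) :
    aX.act.left r ∈ Set.range j.left := by
  obtain ⟨u, hu⟩ := hr
  obtain ⟨r', -, hr'⟩ := Scheme.exists_preimage_of_isPullback (SIM.isPullback_whiskerLeft_left G j) u r hu
  refine ⟨aU.act.left r', ?_⟩
  rw [← Scheme.Hom.comp_apply, ← Over.comp_left, hj, Over.comp_left, Scheme.Hom.comp_apply]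
  congr 1

end Stable

theorem mono_of_openImmersion {S : Scheme.{u}} {E Y : Over S} (j : E ⟶ Y) [IsOpenImmersion j.left] :
    Mono j := by
  have : Mono ((Over.forget S).map j) := by
    change Mono j.left
    infer_instance
  exact (Over.forget S).mono_of_mono_map this

theorem S18958_main
    (M G X U : Over (Spec (CommRingCat.of k))) [MonObj M] [GrpObj G] (i : G ⟶ M) [IsMonHom i]
    (o : 𝟙_ (Over (Spec (CommRingCat.of k))) ⟶ M)
    (hM : ∀ (T : Over (Spec (CommRingCat.of k))) (K : Type u) [Field K]
      (_eT : T.left ≅ Spec (CommRingCat.of K))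
      (W : (M ⊗ T).left.Opens),
      (CartesianMonoidalCategory.snd G (M ⊗ T)).left ⁻¹ᵁ W ≤
          ((((Magnet.MonAct.regular M).restrict i).prod (Magnet.MonAct.trivial G T)).act).left ⁻¹ᵁ W →
      (CartesianMonoidalCategory.lift (toUnit T ≫ o) (𝟙 T)).left ⁻¹ᵁ W = ⊤ → W = ⊤)
    (aX : AlgGrp.Action G X) (aU : AlgGrp.Action G U) (j : U ⟶ X) [IsOpenImmersion j.left]
    (hj : Magnet.MonAct.IsEquivariant (Magnet.MonAct.ofAction aU) (Magnet.MonAct.ofAction aX) j) :
    IsPullback
      (Magnet.MonAct.eqvHom.postcomp ((Magnet.MonAct.regular M).restrict i) j hj)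
      (Magnet.MonAct.eqvHom.evalAt ((Magnet.MonAct.regular M).restrict i)
        (Magnet.MonAct.ofAction aU) o)
      (Magnet.MonAct.eqvHom.evalAt ((Magnet.MonAct.regular M).restrict i)
        (Magnet.MonAct.ofAction aX) o)
      (yoneda.map j) := by
  have hmono : Mono j := mono_of_openImmersion j
  have hj' : aU.act ≫ j = (G ◁ j) ≫ aX.act := hj
  apply IsPullback.of_forall_isPullback_app
  intro Y
  rw [Types.isPullback_iff]
  refine ⟨?_, ?_, ?_⟩
  · ext φ
    change lift (toUnit (unop Y) ≫ o) (𝟙 (unop Y)) ≫ φ.1 ≫ j =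
      (lift (toUnit (unop Y) ≫ o) (𝟙 (unop Y)) ≫ φ.1) ≫ j
    rw [Category.assoc]
  · rintro φ φ' ⟨h1, -⟩
    apply Subtype.ext
    have h2 : φ.1 ≫ j = φ'.1 ≫ j := congrArg Subtype.val h1
    exact (cancel_mono j).mp h2
  · intro φ z hz
    have hz' : lift (toUnit (unop Y) ≫ o) (𝟙 (unop Y)) ≫ φ.1 = z ≫ j := hz
    have hclaim : Set.range φ.1.left ⊆ Set.range j.left := by
      rintro _ ⟨p, rfl⟩
      let y : (unop Y).left := (snd M (unop Y)).left p
      let T : Over (Spec (CommRingCat.of k)) :=
        Over.mk ((unop Y).left.fromSpecResidueField y ≫ (unop Y).hom)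
      let t : T ⟶ unop Y := Over.homMk ((unop Y).left.fromSpecResidueField y) rfl
      obtain ⟨p', -, hp'⟩ := Scheme.exists_preimage_of_isPullback
        (SIM.isPullback_whiskerLeft_left M t)
        (IsLocalRing.closedPoint ((unop Y).left.residueField y)) p
        (by
          change ((unop Y).left.fromSpecResidueField y) _ = y
          exact Scheme.fromSpecResidueField_apply _ _)
      let φT := (Magnet.MonAct.eqvHom ((Magnet.MonAct.regular M).restrict i)
        (Magnet.MonAct.ofAction aX)).map t.op φ
      have hφT1 : φT.1 = (M ◁ t) ≫ φ.1 := rfl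
      let W : (M ⊗ T).left.Opens := φT.1.left ⁻¹ᵁ j.left.opensRange
      have hW : W = ⊤ := by
        refine hM T ((unop Y).left.residueField y) (Iso.refl _) W ?_ ?_
        · intro q hq
          have hq' : φT.1.left ((snd G (M ⊗ T)).left q) ∈ Set.range j.left := hq
          change φT.1.left ((((Magnet.MonAct.regular M).restrict i).prod
            (Magnet.MonAct.trivial G T)).act.left q) ∈ Set.range j.left
          have heq : (((Magnet.MonAct.regular M).restrict i).prod
              (Magnet.MonAct.trivial G T)).act ≫ φT.1 = (G ◁ φT.1) ≫ aX.act := φT.2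
          rw [← Scheme.Hom.comp_apply, ← Over.comp_left, heq, Over.comp_left, Scheme.Hom.comp_apply]
          apply act_mem_range aX aU j hj'
          rw [← Scheme.Hom.comp_apply, ← Over.comp_left, whiskerLeft_snd, Over.comp_left,
            Scheme.Hom.comp_apply]
          exact hq'
        · apply top_le_iff.mp
          intro s _
          change φT.1.left ((lift (toUnit T ≫ o) (𝟙 T)).left s) ∈ Set.range j.left
          have h3 : lift (toUnit T ≫ o) (𝟙 T) ≫ φT.1 = t ≫ z ≫ j := by
            rw [hφT1, lift_whiskerLeft_assoc, Category.id_comp, ← hz', ← Category.assoc, comp_lift,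
              ← Category.assoc, toUnit_unique (t ≫ toUnit _) (toUnit T), Category.comp_id]
          rw [← Scheme.Hom.comp_apply, ← Over.comp_left, h3, Over.comp_left, Over.comp_left,
            Scheme.Hom.comp_apply, Scheme.Hom.comp_apply]
          exact ⟨_, rfl⟩
      have hp'W : p' ∈ W := by rw [hW]; trivial
      have hp'W' : φT.1.left p' ∈ Set.range j.left := hp'W
      rw [hφT1, Over.comp_left, Scheme.Hom.comp_apply, hp'] at hp'W'
      exact hp'W'
    let l₀ := IsOpenImmersion.lift j.left φ.1.left hclaim
    have hl₀ : l₀ ≫ j.left = φ.1.left := IsOpenImmersion.lift_fac _ _ _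
    let l : M ⊗ unop Y ⟶ U := Over.homMk l₀ (by
      rw [← Over.w j, ← Category.assoc, hl₀, Over.w φ.1])
    have hl : l ≫ j = φ.1 := by
      ext : 1
      rw [Over.comp_left]
      exact hl₀
    have hleq : Magnet.MonAct.IsEquivariant
        (((Magnet.MonAct.regular M).restrict i).prod (Magnet.MonAct.trivial G (unop Y)))
        (Magnet.MonAct.ofAction aU) l := by
      have h6 := φ.2
      unfold Magnet.MonAct.IsEquivariant at h6 ⊢
      rw [← cancel_mono j, Category.assoc, hl, h6, ← hl, Category.assoc]
      change _ = (G ◁ l) ≫ aU.act ≫ j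
      rw [hj', MonoidalCategory.whiskerLeft_comp, Category.assoc]
      rfl
    refine ⟨⟨l, hleq⟩, ?_, ?_⟩
    · apply Subtype.ext
      exact hl
    · change lift (toUnit (unop Y) ≫ o) (𝟙 (unop Y)) ≫ l = z
      rw [← cancel_mono j, Category.assoc, hl, hz']

end Groth.Agent.H9.MEX
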