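import Mathlib
import Groth.Prelude.Def_Magnet4
import Groth.Agent.Lib.Helper9.Misc.MagOpen
import Groth.Agent.Lib.Helper9.Misc.EBS
import Groth.Agent.Lib.Helper9.Misc.MEX2

/-! # KZ2: points of the monoid scheme `A¹ = A(ℕ)_S`, the zero-endomorphism of an `A¹`-scheme,
fixed points, stable opens and restricted actions. -/

set_option linter.style.haveILetI false
set_option linter.unusedSectionVars false
set_option autoImplicit false

namespace Groth.Agent.H9.KZ

universe u

open CategoryTheory CategoryTheory.Limits AlgebraicGeometry MonoidalCategory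
  CartesianMonoidalCategory MonObj Opposite
open Magnet
open Groth.Agent.H9.MagKun Groth.Agent.H9.MagChr Groth.Agent.H9.MagPts

variable {S : Scheme.{u}}

section Pts

/-- the `T`-point `c` of `A¹` -/
noncomputable def pc {T : Over S} (c : Γ(T.left, ⊤)) : T ⟶ AMonS S ℕ :=
  (chr_surjective (powersHom _ c)).choose

theorem chr_pc {T : Over S} (c : Γ(T.left, ⊤)) (n : Multiplicative ℕ) :
    chr (pc c) n = c ^ (Multiplicative.toAdd n) := by
  have := DFunLike.congr_fun (chr_surjective (S := S) (powersHom _ c)).choose_spec n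
  rw [powersHom_apply] at this
  exact this

theorem pc_precomp {T T' : Over S} (t : T' ⟶ T) (c : Γ(T.left, ⊤)) :
    t ≫ pc c = pc (t.left.appTop.hom c) := by
  apply chr_injective
  apply MonoidHom.ext
  intro n
  rw [chr_precomp, chr_pc, chr_pc, map_pow]

theorem chr_eq_pow {T : Over S} (g : T ⟶ AMonS S ℕ) (n : Multiplicative ℕ) :
    chr g n = chr g (Multiplicative.ofAdd 1) ^ (Multiplicative.toAdd n) := by
  have h : n = (Multiplicative.ofAdd 1) ^ (Multiplicative.toAdd n) := by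
    rw [← ofAdd_nsmul, smul_eq_mul, _root_.mul_one, ofAdd_toAdd]
  conv_lhs => rw [h]
  rw [map_pow]

theorem eq_pc {T : Over S} (g : T ⟶ AMonS S ℕ) : g = pc (chr g (Multiplicative.ofAdd 1)) := by
  apply chr_injective
  apply MonoidHom.ext
  intro n
  rw [chr_pc, chr_eq_pow]

theorem pc_mul {T : Over S} (c c' : Γ(T.left, ⊤)) : pc (S := S) c * pc c' = pc (c * c') := by
  apply chr_injective
  apply MonoidHom.ext
  intro n
  rw [chr_mul, chr_pc, chr_pc, chr_pc, mul_pow]

theorem pc_one {T : Over S} : pc (S := S) (1 : Γ(T.left, ⊤)) = 1 := by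
  apply chr_injective
  apply MonoidHom.ext
  intro n
  rw [chr_pc, one_pow, MagOpen.chr_one']

theorem mul_pc_zero {T : Over S} (g : T ⟶ AMonS S ℕ) : g * pc 0 = pc 0 := by
  apply chr_injective
  apply MonoidHom.ext
  intro n
  rw [chr_mul, chr_pc]
  rcases Nat.eq_zero_or_pos (Multiplicative.toAdd n) with h | h
  · have hn : n = 1 := by
      rw [← ofAdd_toAdd n, h, ofAdd_zero]
    rw [hn, map_one, toAdd_one, pow_zero, _root_.mul_one]
  · rw [zero_pow (by omega), mul_zero]

end Pts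

section Ze

variable {X Y : Over S} (a : MonAct (AMonS S ℕ) X) (b : MonAct (AMonS S ℕ) Y)

/-- multiplication by zero -/
noncomputable def ze : X ⟶ X := lift (pc (0 : Γ(X.left, ⊤))) (𝟙 X) ≫ a.act

theorem comp_ze {T : Over S} (x : T ⟶ X) : x ≫ ze a = lift (pc 0) x ≫ a.act := by
  unfold ze
  rw [← Category.assoc, comp_lift, pc_precomp, map_zero, Category.comp_id]

/-- fixed `T`-points -/
def Fx {T : Over S} (x : T ⟶ X) : Prop :=
  ∀ (T' : Over S) (t : T' ⟶ T) (g : T' ⟶ AMonS S ℕ), lift g (t ≫ x) ≫ a.act = t ≫ x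

theorem fx_comp_ze {T : Over S} (x : T ⟶ X) : Fx a (x ≫ ze a) := by
  intro T' t g
  rw [← Category.assoc, comp_ze, ← a.lift_mul_act, mul_pc_zero]

variable {a} in
theorem Fx.comp_ze_eq {T : Over S} {x : T ⟶ X} (h : Fx a x) : x ≫ ze a = x := by
  rw [comp_ze]
  have := h T (𝟙 T) (pc 0)
  rwa [Category.id_comp] at this

theorem fx_iff {T : Over S} (x : T ⟶ X) : Fx a x ↔ x ≫ ze a = x :=
  ⟨fun h => h.comp_ze_eq, fun h => by rw [← h]; exact fx_comp_ze a x⟩

variable {a} in
theorem Fx.precomp {T T' : Over S} {x : T ⟶ X} (h : Fx a x) (t : T' ⟶ T) : Fx a (t ≫ x) := by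
  intro T'' t' g
  rw [← Category.assoc]
  exact h T'' (t' ≫ t) g

variable {a b} in
theorem Fx.comp {f : X ⟶ Y} (hf : MonAct.IsEquivariant a b f) {T : Over S} {x : T ⟶ X}
    (h : Fx a x) : Fx b (x ≫ f) := by
  intro T' t g
  rw [← Category.assoc, ← (MonAct.isEquivariant_iff a b f).mp hf, ← Category.assoc, h T' t g]

variable {a b} in
theorem Fx.of_comp_mono {f : X ⟶ Y} [Mono f] (hf : MonAct.IsEquivariant a b f) {T : Over S}
    {x : T ⟶ X} (h : Fx b (x ≫ f)) : Fx a x := by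
  intro T' t g
  rw [← cancel_mono f, Category.assoc, (MonAct.isEquivariant_iff a b f).mp hf, Category.assoc,
    h T' t g]

variable {a b} in
theorem ze_comp {f : X ⟶ Y} (hf : MonAct.IsEquivariant a b f) : ze a ≫ f = f ≫ ze b := by
  rw [comp_ze]
  unfold ze
  rw [Category.assoc, (MonAct.isEquivariant_iff a b f).mp hf, Category.id_comp]

variable {a b} in
theorem equivariant_of_comp {f : X ⟶ Y} (hf : MonAct.IsEquivariant a b f) [Mono f] {B : Over S}
    (ρ : MonAct (AMonS S ℕ) B) (ψ : B ⟶ X) (h : MonAct.IsEquivariant ρ b (ψ ≫ f)) :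
    MonAct.IsEquivariant ρ a ψ := by
  unfold MonAct.IsEquivariant at h hf ⊢
  rw [← cancel_mono f, Category.assoc, Category.assoc, hf, h, MonoidalCategory.whiskerLeft_comp,
    Category.assoc]

end Ze

section Stab

variable {X Y : Over S} (a : MonAct (AMonS S ℕ) X) (b : MonAct (AMonS S ℕ) Y)

/-- stable opens -/
def Stable (U : X.left.Opens) : Prop :=
  (snd (AMonS S ℕ) X).left ⁻¹ᵁ U ≤ a.act.left ⁻¹ᵁ U

variable {a} in
theorem Stable.pt {U : X.left.Opens} (hU : Stable a U) {T : Over S} (g : T ⟶ AMonS S ℕ)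
    (x : T ⟶ X) (hx : ∀ t, x.left t ∈ U) : ∀ t, (lift g x ≫ a.act).left t ∈ U := by
  intro t
  have h1 : (lift g x).left t ∈ (snd (AMonS S ℕ) X).left ⁻¹ᵁ U := by
    change (snd (AMonS S ℕ) X).left ((lift g x).left t) ∈ U
    have : (snd (AMonS S ℕ) X).left ((lift g x).left t) = x.left t := by
      rw [← Scheme.Hom.comp_apply, ← Over.comp_left, lift_snd]
    rw [this]
    exact hx t
  have h2 := hU h1
  rw [Over.comp_left, Scheme.Hom.comp_apply]
  exact h2

variable {a b} in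
theorem Stable.preimage {f : X ⟶ Y} (hf : MonAct.IsEquivariant a b f) {U : Y.left.Opens}
    (hU : Stable b U) : Stable a (f.left ⁻¹ᵁ U) := by
  intro r hr
  change f.left (a.act.left r) ∈ U
  have hr' : f.left ((snd (AMonS S ℕ) X).left r) ∈ U := hr
  have h1 : (AMonS S ℕ ◁ f).left r ∈ (snd (AMonS S ℕ) Y).left ⁻¹ᵁ U := by
    change (snd (AMonS S ℕ) Y).left ((AMonS S ℕ ◁ f).left r) ∈ U
    rw [← Scheme.Hom.comp_apply, ← Over.comp_left, whiskerLeft_snd, Over.comp_left,
      Scheme.Hom.comp_apply]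
    exact hr'
  have h2 : b.act.left ((AMonS S ℕ ◁ f).left r) ∈ U := hU h1
  rw [← Scheme.Hom.comp_apply, ← Over.comp_left, hf, Over.comp_left, Scheme.Hom.comp_apply]
  exact h2

theorem Stable.sSup (𝒮 : Set X.left.Opens) (h : ∀ U ∈ 𝒮, Stable a U) : Stable a (sSup 𝒮) := by
  intro r hr
  have hr' : (snd (AMonS S ℕ) X).left r ∈ (SupSet.sSup 𝒮 : X.left.Opens) := hr
  rw [TopologicalSpace.Opens.mem_sSup] at hr'
  obtain ⟨U, hU, hrU⟩ := hr'
  have : a.act.left r ∈ U := h U hU hrU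
  change a.act.left r ∈ (SupSet.sSup 𝒮 : X.left.Opens)
  rw [TopologicalSpace.Opens.mem_sSup]
  exact ⟨U, hU, this⟩

/-- the open subscheme as an object over `S` -/
abbrev XU (X : Over S) (U : X.left.Opens) : Over S := Over.mk (U.ι ≫ X.hom)

/-- the inclusion -/
noncomputable def jU (X : Over S) (U : X.left.Opens) : XU X U ⟶ X := Over.homMk U.ι rfl

theorem jU_left (U : X.left.Opens) : (jU X U).left = U.ι := rfl

instance (U : X.left.Opens) : IsOpenImmersion (jU X U).left :=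
  inferInstanceAs (IsOpenImmersion U.ι)

instance (U : X.left.Opens) : Mono (jU X U) := MEX.mono_of_openImmersion _

theorem range_jU (U : X.left.Opens) : Set.range (jU X U).left = U := by
  rw [jU_left]
  exact Scheme.Opens.range_ι U

theorem jU_mem (U : X.left.Opens) (w : (XU X U).left) : (jU X U).left w ∈ U := by
  have : (jU X U).left w ∈ Set.range (jU X U).left := ⟨w, rfl⟩
  rw [range_jU] at this
  exact this

theorem factor {U : X.left.Opens} {T : Over S} (x : T ⟶ X) (h : ∀ t, x.left t ∈ U) :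
    ∃ x' : T ⟶ XU X U, x' ≫ jU X U = x := by
  apply MagOpen.exists_factor_of_range
  rintro _ ⟨t, rfl⟩
  rw [range_jU]
  exact h t

theorem exists_rAct {U : X.left.Opens} (hU : Stable a U) :
    ∃ α : AMonS S ℕ ⊗ XU X U ⟶ XU X U, α ≫ jU X U = (AMonS S ℕ ◁ jU X U) ≫ a.act := by
  apply MagOpen.exists_factor_of_range
  rintro _ ⟨r, rfl⟩
  rw [range_jU]
  have h1 : (AMonS S ℕ ◁ jU X U).left r ∈ (snd (AMonS S ℕ) X).left ⁻¹ᵁ U := by
    change (snd (AMonS S ℕ) X).left ((AMonS S ℕ ◁ jU X U).left r) ∈ U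
    rw [← Scheme.Hom.comp_apply, ← Over.comp_left, whiskerLeft_snd, Over.comp_left,
      Scheme.Hom.comp_apply]
    exact jU_mem U _
  have h2 : a.act.left ((AMonS S ℕ ◁ jU X U).left r) ∈ U := hU h1
  rw [Over.comp_left, Scheme.Hom.comp_apply]
  exact h2

/-- the restricted action on a stable open -/
noncomputable def rAct {U : X.left.Opens} (hU : Stable a U) : MonAct (AMonS S ℕ) (XU X U) :=
  EB.restrictAct a (jU X U) (exists_rAct a hU).choose (exists_rAct a hU).choose_spec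

theorem rAct_equivariant {U : X.left.Opens} (hU : Stable a U) :
    MonAct.IsEquivariant (rAct a hU) a (jU X U) :=
  EB.isEquivariant_restrictAct a (jU X U) _ (exists_rAct a hU).choose_spec

theorem Stable.image {W : Over S} (aW : MonAct (AMonS S ℕ) W) (j : W ⟶ X) [IsOpenImmersion j.left]
    (hj : MonAct.IsEquivariant aW a j) {D : W.left.Opens} (hD : Stable aW D) :
    Stable a (j.left ''ᵁ D) := by
  intro r hr
  let Ω := (snd (AMonS S ℕ) X).left ⁻¹ᵁ (j.left ''ᵁ D)
  let T : Over S := Over.mk (Ω.ι ≫ (AMonS S ℕ ⊗ X).hom)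
  let ρ : T ⟶ AMonS S ℕ ⊗ X := Over.homMk Ω.ι rfl
  have hρ : ∀ t : T.left, ρ.left t = Ω.ι t := fun t => rfl
  have hΩ : ∀ t : T.left, Ω.ι t ∈ Ω := by
    intro t
    have : Ω.ι t ∈ Set.range Ω.ι := ⟨t, rfl⟩
    rw [Scheme.Opens.range_ι] at this
    exact this
  have hx : ∀ t, (ρ ≫ snd (AMonS S ℕ) X).left t ∈ j.left ''ᵁ D := by
    intro t
    rw [Over.comp_left, Scheme.Hom.comp_apply, hρ]
    exact hΩ t
  obtain ⟨x', hx'⟩ := MagOpen.exists_factor_of_range (f := j) (ρ ≫ snd (AMonS S ℕ) X) (by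
    rintro _ ⟨t, rfl⟩
    obtain ⟨d, -, hd⟩ := hx t
    exact ⟨d, hd⟩)
  have hx'D : ∀ t, x'.left t ∈ D := by
    intro t
    obtain ⟨d, hdD, hd⟩ := hx t
    rw [← hx', Over.comp_left, Scheme.Hom.comp_apply] at hd
    have := (j.left.isOpenEmbedding.injective hd)
    rw [← this]
    exact hdD
  have h2 := hD.pt (ρ ≫ fst (AMonS S ℕ) X) x' hx'D
  have h3 : ρ ≫ a.act = (lift (ρ ≫ fst (AMonS S ℕ) X) x' ≫ aW.act) ≫ j := by
    rw [Category.assoc, (MonAct.isEquivariant_iff aW a j).mp hj, hx', ← comp_lift, lift_fst_snd,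
      Category.comp_id]
  obtain ⟨t, rfl⟩ : r ∈ Set.range Ω.ι := by
    rw [Scheme.Opens.range_ι]
    exact hr
  have h4 : a.act.left (Ω.ι t) = (ρ ≫ a.act).left t := rfl
  change a.act.left (Ω.ι t) ∈ j.left ''ᵁ D
  rw [h4, h3, Over.comp_left, Scheme.Hom.comp_apply]
  exact ⟨_, h2 _, rfl⟩

end Stab

section Basic

theorem lands_basicOpen_iff {T W : Over S} (x : T ⟶ W) (b : Γ(W.left, ⊤)) :
    (∀ t, x.left t ∈ W.left.basicOpen b) ↔ IsUnit (x.left.appTop.hom b) := by
  constructor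
  · intro h
    apply RingedSpace.isUnit_of_isUnit_germ
    intro t _
    have h1 : t ∈ x.left ⁻¹ᵁ W.left.basicOpen b := h t
    rw [Scheme.preimage_basicOpen_top] at h1
    exact (Scheme.mem_basicOpen_top _ _ t).mp h1
  · intro h t
    have h1 : x.left ⁻¹ᵁ W.left.basicOpen b = ⊤ := by
      rw [Scheme.preimage_basicOpen_top]
      exact Scheme.basicOpen_of_isUnit _ h
    have : t ∈ x.left ⁻¹ᵁ W.left.basicOpen b := by rw [h1]; trivial
    exact this

end Basic

end Groth.Agent.H9.KZ
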