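import Mathlib
import Groth.Agent.Lib.Helper9.Misc.KZ1
import Groth.Agent.Lib.Helper9.Misc.KZ2
import Groth.Agent.Lib.Helper9.Misc.MGU2

/-! # KZ3: the coaction (ℕ-grading) on the coordinate ring of an affine `A¹`-scheme. -/

set_option linter.style.haveILetI false
set_option linter.unusedSectionVars false
set_option autoImplicit false

namespace Groth.Agent.H9.KZ

universe u

open CategoryTheory CategoryTheory.Limits AlgebraicGeometry MonoidalCategory
  CartesianMonoidalCategory MonObj Opposite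
open Magnet
open Groth.Agent.H9.MagKun Groth.Agent.H9.MagChr Groth.Agent.H9.MagPts

variable {S : Scheme.{u}}

section PB

/-- pull-back of global functions -/
noncomputable def pb {A B : Over S} (m : A ⟶ B) : Γ(B.left, ⊤) →+* Γ(A.left, ⊤) :=
  m.left.appTop.hom

theorem pb_comp {A B C : Over S} (m : A ⟶ B) (n : B ⟶ C) (x : Γ(C.left, ⊤)) :
    pb (m ≫ n) x = pb m (pb n x) := by
  unfold pb
  rw [Over.comp_left, Scheme.Hom.comp_appTop]
  rfl

theorem pb_comp' {A B C : Over S} (m : A ⟶ B) (n : B ⟶ C) :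
    pb (m ≫ n) = (pb m).comp (pb n) := by
  ext x
  exact pb_comp m n x

theorem pb_id {A : Over S} (x : Γ(A.left, ⊤)) : pb (𝟙 A) x = x := by
  unfold pb
  rw [Over.id_left, Scheme.Hom.id_appTop]
  rfl

theorem pb_id' {A : Over S} : pb (𝟙 A) = RingHom.id _ := by
  ext x
  exact pb_id x

theorem chr_precomp' {T T' : Over S} (t : T' ⟶ T) (g : T ⟶ AMonS S ℕ) (m : Multiplicative ℕ) :
    chr (t ≫ g) m = pb t (chr g m) := chr_precomp t g m

theorem hom_ext_affine {T W : Over S} [IsAffine W.left] (x y : T ⟶ W) (h : ∀ a, pb x a = pb y a) :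
    x = y := by
  apply Over.OverMorphism.ext
  apply ext_of_isAffine
  ext a
  exact h a

end PB

section KPsec

variable (W : Over S)

/-- the coordinate function on `A¹ × W` -/
noncomputable def tt : Γ((AMonS S ℕ ⊗ W).left, ⊤) :=
  chr (fst (AMonS S ℕ) W) (Multiplicative.ofAdd 1)

/-- the polynomial form of the Künneth map -/
noncomputable def KP : Polynomial Γ(W.left, ⊤) →+* Γ((AMonS S ℕ ⊗ W).left, ⊤) :=
  Polynomial.eval₂RingHom (pb (snd (AMonS S ℕ) W)) (tt W)

theorem KP_apply (p : Polynomial Γ(W.left, ⊤)) :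
    KP W p = p.eval₂ (pb (snd (AMonS S ℕ) W)) (tt W) := rfl

theorem KP_C (r : Γ(W.left, ⊤)) : KP W (Polynomial.C r) = pb (snd (AMonS S ℕ) W) r := by
  rw [KP_apply, Polynomial.eval₂_C]

theorem KP_X : KP W Polynomial.X = tt W := by
  rw [KP_apply, Polynomial.eval₂_X]

/-- polynomials as a monoid algebra -/
noncomputable def Ξ (A : Type u) [CommRing A] :
    Polynomial A ≃+* MonoidAlgebra A (Multiplicative ℕ) :=
  (Polynomial.toFinsuppIso A).trans (AddMonoidAlgebra.toMultiplicative A ℕ)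

theorem kappa_comp_Ξ : (kappa S ℕ W).comp (Ξ Γ(W.left, ⊤)).toRingHom = KP W := by
  apply Polynomial.ringHom_ext
  · intro r
    rw [KP_C]
    change kappa S ℕ W (AddMonoidAlgebra.toMultiplicative _ ℕ (Polynomial.C r).toFinsupp) = _
    rw [Polynomial.toFinsupp_C, AddMonoidAlgebra.toMultiplicative_single, ofAdd_zero,
      kappa_single_one]
    rfl
  · rw [KP_X]
    change kappa S ℕ W (AddMonoidAlgebra.toMultiplicative _ ℕ (Polynomial.X).toFinsupp) = _
    rw [Polynomial.toFinsupp_X, AddMonoidAlgebra.toMultiplicative_single, tt, chr_fst]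

theorem KP_bijective [IsAffine W.left] : Function.Bijective (KP W) := by
  rw [← kappa_comp_Ξ]
  exact (kappa_bijective S ℕ W).comp (Ξ _).bijective

theorem pb_lift_KP {T : Over S} (g : T ⟶ AMonS S ℕ) (x : T ⟶ W) (p : Polynomial Γ(W.left, ⊤)) :
    pb (lift g x) (KP W p) = p.eval₂ (pb x) (chr g (Multiplicative.ofAdd 1)) := by
  have h : (pb (lift g x)).comp (KP W) =
      Polynomial.eval₂RingHom (pb x) (chr g (Multiplicative.ofAdd 1)) := by
    apply Polynomial.ringHom_ext
    · intro r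
      rw [RingHom.comp_apply, KP_C, ← pb_comp, lift_snd, Polynomial.coe_eval₂RingHom,
        Polynomial.eval₂_C]
    · rw [RingHom.comp_apply, KP_X, tt, ← chr_precomp', lift_fst, Polynomial.coe_eval₂RingHom,
        Polynomial.eval₂_X]
  exact DFunLike.congr_fun h p

variable {W} in
theorem KP_natT {T' : Over S} (t : T' ⟶ W) (p : Polynomial Γ(W.left, ⊤)) :
    pb (AMonS S ℕ ◁ t) (KP W p) = KP T' (p.map (pb t)) := by
  have h : (pb (AMonS S ℕ ◁ t)).comp (KP W) = (KP T').comp (Polynomial.mapRingHom (pb t)) := by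
    apply Polynomial.ringHom_ext
    · intro r
      rw [RingHom.comp_apply, RingHom.comp_apply, KP_C, ← pb_comp, whiskerLeft_snd, pb_comp,
        Polynomial.coe_mapRingHom, Polynomial.map_C, KP_C]
    · rw [RingHom.comp_apply, RingHom.comp_apply, KP_X, tt, ← chr_precomp', whiskerLeft_fst,
        Polynomial.coe_mapRingHom, Polynomial.map_X, KP_X, tt]
  exact DFunLike.congr_fun h p

end KPsec

section CoactSec

variable (W : Over S) [IsAffine W.left] (aW : MonAct (AMonS S ℕ) W)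

/-- `KP` as a ring isomorphism -/
noncomputable def KPe : Polynomial Γ(W.left, ⊤) ≃+* Γ((AMonS S ℕ ⊗ W).left, ⊤) :=
  RingEquiv.ofBijective (KP W) (KP_bijective W)

/-- the coaction -/
noncomputable def rho : Γ(W.left, ⊤) →+* Polynomial Γ(W.left, ⊤) :=
  (KPe W).symm.toRingHom.comp (pb aW.act)

theorem KP_rho (a : Γ(W.left, ⊤)) : KP W (rho W aW a) = pb aW.act a :=
  (KPe W).apply_symm_apply _

theorem pb_act {T : Over S} (g : T ⟶ AMonS S ℕ) (x : T ⟶ W) (a : Γ(W.left, ⊤)) :
    pb (lift g x ≫ aW.act) a =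
      (rho W aW a).eval₂ (pb x) (chr g (Multiplicative.ofAdd 1)) := by
  rw [pb_comp, ← KP_rho, pb_lift_KP]

theorem rho_eval_one (a : Γ(W.left, ⊤)) : (rho W aW a).eval 1 = a := by
  have h := pb_act W aW (1 : W ⟶ AMonS S ℕ) (𝟙 W) a
  rw [aW.lift_one_act, pb_id, pb_id', MagOpen.chr_one', Polynomial.eval₂_id] at h
  exact h.symm

instance : IsAffine (AMonS S ℕ ⊗ W).left := MGU.affine_tensor (AMonS S ℕ) W

theorem rho_coeff (a : Γ(W.left, ⊤)) (n : ℕ) :
    rho W aW ((rho W aW a).coeff n) = Polynomial.monomial n ((rho W aW a).coeff n) := by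
  set W' := AMonS S ℕ ⊗ W with hW'
  set p := rho W aW a with hp
  have hm := aW.lift_mul_act (fst (AMonS S ℕ) W') (snd (AMonS S ℕ) W' ≫ fst (AMonS S ℕ) W)
    (snd (AMonS S ℕ) W' ≫ snd (AMonS S ℕ) W)
  have h1 : lift (snd (AMonS S ℕ) W' ≫ fst (AMonS S ℕ) W) (snd (AMonS S ℕ) W' ≫ snd (AMonS S ℕ) W) =
      snd (AMonS S ℕ) W' := by
    rw [← comp_lift, lift_fst_snd, Category.comp_id]
  have h2 : lift (fst (AMonS S ℕ) W') (snd (AMonS S ℕ) W' ≫ aW.act) = AMonS S ℕ ◁ aW.act := by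
    apply CartesianMonoidalCategory.hom_ext
    · rw [lift_fst, whiskerLeft_fst]
    · rw [lift_snd, whiskerLeft_snd]
  rw [h1, h2] at hm
  have h3 : pb _ a = pb _ a := congrArg (fun m => pb m a) hm
  rw [pb_act, pb_comp (AMonS S ℕ ◁ aW.act) aW.act, ← KP_rho, KP_natT, ← hp, chr_mul,
    chr_precomp', pb_comp'] at h3
  have h4 : p.eval₂ ((pb (snd (AMonS S ℕ) W')).comp (pb (snd (AMonS S ℕ) W)))
      (chr (fst (AMonS S ℕ) W') (Multiplicative.ofAdd 1) *
        pb (snd (AMonS S ℕ) W') (chr (fst (AMonS S ℕ) W) (Multiplicative.ofAdd 1))) =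
      KP W' ((p.map (pb (snd (AMonS S ℕ) W))).comp (Polynomial.C (tt W) * Polynomial.X)) := by
    rw [KP_apply, Polynomial.eval₂_comp, Polynomial.eval₂_mul, Polynomial.eval₂_C,
      Polynomial.eval₂_X, Polynomial.eval₂_map, mul_comm]
    rfl
  rw [h4] at h3
  have h5 := (KP_bijective W').1 h3
  have h6 := congrArg (fun q => q.coeff n) h5
  simp only [Polynomial.comp_C_mul_X_coeff, Polynomial.coeff_map] at h6
  apply (KP_bijective W).1
  rw [KP_rho, ← h6, KP_apply, Polynomial.eval₂_monomial]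

/-- the coaction of an affine `A¹`-scheme -/
noncomputable def coact : Coact Γ(W.left, ⊤) where
  ρ := rho W aW
  eval_one := rho_eval_one W aW
  rho_coeff := rho_coeff W aW

theorem coact_ρ : (coact W aW).ρ = rho W aW := rfl

theorem pb_ze (a : Γ(W.left, ⊤)) : pb (ze aW) a = (coact W aW).π 0 a := by
  unfold ze
  rw [pb_act, chr_pc, toAdd_ofAdd, pow_one, pb_id', Polynomial.eval₂_id,
    ← Polynomial.coeff_zero_eq_eval_zero]
  rfl

theorem fx_iff_pb {T : Over S} (x : T ⟶ W) :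
    Fx aW x ↔ ∀ a, pb x ((coact W aW).π 0 a) = pb x a := by
  rw [fx_iff]
  constructor
  · intro h a
    rw [← pb_ze, ← pb_comp, h]
  · intro h
    apply hom_ext_affine
    intro a
    rw [pb_comp, pb_ze, h]

end CoactSec

section Compat

variable {W₁ W₂ : Over S} [IsAffine W₁.left] [IsAffine W₂.left] (a₁ : MonAct (AMonS S ℕ) W₁)
  (a₂ : MonAct (AMonS S ℕ) W₂)

theorem rho_compat (φ : W₁ ⟶ W₂) (hφ : MonAct.IsEquivariant a₁ a₂ φ) (b : Γ(W₂.left, ⊤)) :
    (coact W₁ a₁).ρ (pb φ b) = ((coact W₂ a₂).ρ b).map (pb φ) := by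
  apply (KP_bijective W₁).1
  rw [coact_ρ, coact_ρ, KP_rho, ← KP_natT, KP_rho, ← pb_comp, ← pb_comp, hφ]

end Compat

end Groth.Agent.H9.KZ
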