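import Mathlib
import Groth.Agent.Lib.Helper9.Misc.KZ3

/-! # KZ4: residue field points and the saturation lemma for stable opens of `A¹`-schemes. -/

set_option linter.style.haveILetI false
set_option linter.unusedSectionVars false
set_option autoImplicit false

namespace Groth.Agent.H9.KZ

universe u

open CategoryTheory CategoryTheory.Limits AlgebraicGeometry MonoidalCategory
  CartesianMonoidalCategory MonObj Opposite
open Magnet
open Groth.Agent.H9.MagKun Groth.Agent.H9.MagChr Groth.Agent.H9.MagPts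

variable {S : Scheme.{u}}

section Res

variable (X : Over S) (p : X.left)

/-- the residue field point as an object over `S` -/
noncomputable def Tp : Over S := Over.mk (X.left.fromSpecResidueField p ≫ X.hom)

/-- the residue field point -/
noncomputable def xp : Tp X p ⟶ X := Over.homMk (X.left.fromSpecResidueField p) rfl

theorem xp_apply (t : (Tp X p).left) : (xp X p).left t = p :=
  Scheme.fromSpecResidueField_apply p t

instance : IsAffine (Tp X p).left := inferInstanceAs (IsAffine (Spec (X.left.residueField p)))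

instance : IsDomain Γ((Tp X p).left, ⊤) :=
  MulEquiv.isDomain (X.left.residueField p)
    (Scheme.ΓSpecIso (X.left.residueField p)).commRingCatIsoToRingEquiv.toMulEquiv

instance : Subsingleton (Tp X p).left :=
  inferInstanceAs (Subsingleton (PrimeSpectrum (X.left.residueField p)))

instance : Nonempty (Tp X p).left :=
  inferInstanceAs (Nonempty (PrimeSpectrum (X.left.residueField p)))

end Res

section Sat

variable {X : Over S} (a : MonAct (AMonS S ℕ) X)

theorem saturation {O : X.left.Opens} (hO : Stable a O) {T : Over S} [IsAffine T.left]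
    [IsDomain Γ(T.left, ⊤)] [Subsingleton T.left] [Nonempty T.left] (x : T ⟶ X)
    (h : ∀ t, (x ≫ ze a).left t ∈ O) : ∀ t, x.left t ∈ O := by
  set P := AMonS S ℕ ⊗ T with hP
  haveI : IsDomain Γ(P.left, ⊤) :=
    MulEquiv.isDomain (Polynomial Γ(T.left, ⊤)) (KPe T).symm.toMulEquiv
  let z : T ⟶ P := lift (pc 0) (𝟙 T)
  obtain ⟨t₀⟩ := (inferInstance : Nonempty T.left)
  haveI : Nonempty P.left := ⟨z.left t₀⟩
  haveI : IsIntegral P.left := isIntegral_of_isAffine_of_isDomain _
  let o : P ⟶ X := (AMonS S ℕ ◁ x) ≫ a.act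
  have hzo : z ≫ o = x ≫ ze a := by
    rw [comp_ze]
    change lift (pc 0) (𝟙 T) ≫ (AMonS S ℕ ◁ x) ≫ a.act = _
    rw [lift_whiskerLeft_assoc, Category.id_comp]
  let W₁ : P.left.Opens := o.left ⁻¹ᵁ O
  let W₂ : P.left.Opens := P.left.basicOpen (tt T)
  have hW₁ : (W₁ : Set P.left).Nonempty := by
    refine ⟨z.left t₀, ?_⟩
    change o.left (z.left t₀) ∈ O
    rw [← Scheme.Hom.comp_apply, ← Over.comp_left, hzo]
    exact h t₀
  have hW₂ : (W₂ : Set P.left).Nonempty := by
    by_contra hne
    rw [Set.not_nonempty_iff_eq_empty] at hne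
    have h1 : W₂ = ⊥ := by
      ext y
      simp only [TopologicalSpace.Opens.coe_bot]
      rw [hne]
    have h2 : tt T = 0 := (basicOpen_eq_bot_iff _).mp h1
    rw [← KP_X, ← map_zero (KP T)] at h2
    exact Polynomial.X_ne_zero ((KP_bijective T).1 h2)
  obtain ⟨w, hw1, hw2⟩ := nonempty_preirreducible_inter W₁.2 W₂.2 hW₁ hW₂
  let T' : Over S := Tp P w
  let w' : T' ⟶ P := xp P w
  have hu : IsUnit (pb w' (tt T)) := by
    apply (lands_basicOpen_iff w' (tt T)).mp
    intro t'
    rw [xp_apply]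
    exact hw2
  obtain ⟨c, hc⟩ := hu
  let g : T' ⟶ AMonS S ℕ := w' ≫ fst (AMonS S ℕ) T
  let τ : T' ⟶ T := w' ≫ snd (AMonS S ℕ) T
  have hg : g = pc (c : Γ(T'.left, ⊤)) := by
    rw [eq_pc g, chr_precomp', hc]
    rfl
  let g' : T' ⟶ AMonS S ℕ := pc ((c⁻¹ : (Γ(T'.left, ⊤))ˣ) : Γ(T'.left, ⊤))
  have hgg : g' * g = 1 := by
    rw [hg, pc_mul, Units.inv_mul, pc_one]
  have hwo : w' ≫ o = lift g (τ ≫ x) ≫ a.act := by
    change w' ≫ (AMonS S ℕ ◁ x) ≫ a.act = _
    rw [← lift_whiskerLeft_assoc, ← comp_lift_assoc, lift_fst_snd, Category.id_comp]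
  have h1 : ∀ t', (w' ≫ o).left t' ∈ O := by
    intro t'
    rw [Over.comp_left, Scheme.Hom.comp_apply, xp_apply]
    exact hw1
  have h2 := hO.pt g' (w' ≫ o) h1
  rw [hwo, ← a.lift_mul_act, hgg, a.lift_one_act] at h2
  obtain ⟨t'₀⟩ := (inferInstance : Nonempty T'.left)
  intro t
  have := h2 t'₀
  rw [Over.comp_left, Scheme.Hom.comp_apply] at this
  rwa [Subsingleton.elim t (τ.left t'₀)]

end Sat

end Groth.Agent.H9.KZ
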