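import Mathlib
import Groth.Agent.Lib.Helper9.Misc.KZ4

/-! # KZ5: stable basic opens of degree zero functions and the shrinking lemma. -/

set_option linter.style.haveILetI false
set_option linter.unusedSectionVars false
set_option autoImplicit false

namespace Groth.Agent.H9.KZ

universe u

open CategoryTheory CategoryTheory.Limits AlgebraicGeometry MonoidalCategory
  CartesianMonoidalCategory MonObj Opposite
open Magnet
open Groth.Agent.H9.MagKun Groth.Agent.H9.MagChr Groth.Agent.H9.MagPts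

variable {S : Scheme.{u}}

section BO

theorem lands_iff {T W : Over S} (x : T ⟶ W) (b : Γ(W.left, ⊤)) :
    (∀ t, x.left t ∈ W.left.basicOpen b) ↔ IsUnit (pb x b) := lands_basicOpen_iff x b

variable (W : Over S) [IsAffine W.left] (aW : MonAct (AMonS S ℕ) W)

theorem stable_basicOpen (b₀ : Γ(W.left, ⊤)) (h : (coact W aW).π 0 b₀ = b₀) :
    Stable aW (W.left.basicOpen b₀) := by
  have h1 : pb aW.act b₀ = pb (snd (AMonS S ℕ) W) b₀ := by
    rw [← KP_rho, ← coact_ρ, (coact W aW).rho_of_pi0 b₀ h, KP_C]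
  unfold Stable
  rw [Scheme.preimage_basicOpen_top, Scheme.preimage_basicOpen_top]
  change (AMonS S ℕ ⊗ W).left.basicOpen (pb (snd (AMonS S ℕ) W) b₀) ≤
    (AMonS S ℕ ⊗ W).left.basicOpen (pb aW.act b₀)
  rw [h1]

end BO

section Chart

variable {X : Over S} (a : MonAct (AMonS S ℕ) X) {U : X.left.Opens} (hU : Stable a U)
  [IsAffine (XU X U).left]

/-- the image in `X` of a basic open of a chart -/
noncomputable def bo (b₀ : Γ((XU X U).left, ⊤)) : X.left.Opens :=
  (jU X U).left ''ᵁ ((XU X U).left.basicOpen b₀)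

theorem bo_le (b₀ : Γ((XU X U).left, ⊤)) : bo (U := U) b₀ ≤ U := by
  rintro _ ⟨w, -, rfl⟩
  exact jU_mem U w

theorem bo_stable (b₀ : Γ((XU X U).left, ⊤)) (h : (coact (XU X U) (rAct a hU)).π 0 b₀ = b₀) :
    Stable a (bo (U := U) b₀) :=
  Stable.image a (rAct a hU) (jU X U) (rAct_equivariant a hU) (stable_basicOpen _ _ b₀ h)

theorem bo_affine (b₀ : Γ((XU X U).left, ⊤)) : IsAffineOpen (bo (U := U) b₀) :=
  ((isAffineOpen_top (XU X U).left).basicOpen b₀).image_of_isOpenImmersion (jU X U).left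

theorem lands_bo_iff {T : Over S} (x' : T ⟶ XU X U) (b₀ : Γ((XU X U).left, ⊤)) :
    (∀ t, (x' ≫ jU X U).left t ∈ bo (U := U) b₀) ↔ IsUnit (pb x' b₀) := by
  rw [← lands_iff]
  constructor
  · intro h t
    obtain ⟨d, hd, hdt⟩ := h t
    rw [Over.comp_left, Scheme.Hom.comp_apply] at hdt
    rw [← (jU X U).left.isOpenEmbedding.injective hdt]
    exact hd
  · intro h t
    rw [Over.comp_left, Scheme.Hom.comp_apply]
    exact ⟨_, h t, rfl⟩

theorem shrink {O : X.left.Opens} (hO : Stable a O) {T : Over S} [Nonempty T.left]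
    [Subsingleton T.left] (x' : T ⟶ XU X U) (hx' : Fx (rAct a hU) x')
    (hxO : ∀ t, (x' ≫ jU X U).left t ∈ O) :
    ∃ a₀ : Γ((XU X U).left, ⊤), (coact (XU X U) (rAct a hU)).π 0 a₀ = a₀ ∧ IsUnit (pb x' a₀) ∧
      bo (U := U) a₀ ≤ O := by
  obtain ⟨t₀⟩ := (inferInstance : Nonempty T.left)
  have hw : x'.left t₀ ∈ (jU X U).left ⁻¹ᵁ O := by
    have := hxO t₀
    rw [Over.comp_left, Scheme.Hom.comp_apply] at this
    exact this
  obtain ⟨j₁, hj₁, hwj₁⟩ :=
    (isAffineOpen_top (XU X U).left).exists_basicOpen_le ⟨x'.left t₀, hw⟩ trivial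
  have hfix := (fx_iff_pb (XU X U) (rAct a hU) x').mp hx'
  have hu1 : IsUnit (pb x' j₁) := by
    apply (lands_iff x' j₁).mp
    intro t
    rw [Subsingleton.elim t t₀]
    exact hwj₁
  refine ⟨(coact (XU X U) (rAct a hU)).π 0 j₁, ?_, ?_, ?_⟩
  · rw [Coact.pi_pi, if_pos rfl]
  · rw [hfix]
    exact hu1
  · rintro _ ⟨w₁, hw₁, rfl⟩
    have hu2 : IsUnit (pb (xp (XU X U) w₁) ((coact (XU X U) (rAct a hU)).π 0 j₁)) := by
      apply (lands_iff (xp (XU X U) w₁) _).mp
      intro t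
      rw [xp_apply]
      exact hw₁
    have h1 : ∀ t, (xp (XU X U) w₁ ≫ ze (rAct a hU)).left t ∈ (jU X U).left ⁻¹ᵁ O := by
      have : ∀ t, (xp (XU X U) w₁ ≫ ze (rAct a hU)).left t ∈ (XU X U).left.basicOpen j₁ := by
        apply (lands_iff _ j₁).mpr
        rw [pb_comp, pb_ze]
        exact hu2
      intro t
      exact hj₁ (this t)
    have h2 : ∀ t, ((xp (XU X U) w₁ ≫ jU X U) ≫ ze a).left t ∈ O := by
      intro t
      rw [Category.assoc, ← ze_comp (rAct_equivariant a hU), ← Category.assoc, Over.comp_left,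
        Scheme.Hom.comp_apply]
      exact h1 t
    have h3 := saturation a hO (xp (XU X U) w₁ ≫ jU X U) h2
    obtain ⟨t₁⟩ := (inferInstance : Nonempty (Tp (XU X U) w₁).left)
    have := h3 t₁
    rw [Over.comp_left, Scheme.Hom.comp_apply, xp_apply] at this
    exact this

end Chart

end Groth.Agent.H9.KZ
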