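import Mathlib
import Groth.Agent.Lib.Helper9.Misc.KZ5
import Groth.Agent.Lib.Helper9.Misc.EBT

/-! # KZ6: the affine case: over a stable affine open of `Y` with affine preimage, a fixed-point
reflecting equivariant map which is an isomorphism on fixed points and étale near the fixed points
is an isomorphism. -/

set_option linter.style.haveILetI false
set_option linter.unusedSectionVars false
set_option autoImplicit false

namespace Groth.Agent.H9.KZ

universe u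

open CategoryTheory CategoryTheory.Limits AlgebraicGeometry MonoidalCategory
  CartesianMonoidalCategory MonObj Opposite
open Magnet
open Groth.Agent.H9.MagKun Groth.Agent.H9.MagChr Groth.Agent.H9.MagPts

variable {S : Scheme.{u}}

section Tools

theorem exists_closed_over (W : Over S) [IsAffine W.left] (I : Ideal Γ(W.left, ⊤)) :
    ∃ (Z : Over S) (i : Z ⟶ W), IsAffine Z.left ∧ (∀ y, pb i y = 0 ↔ y ∈ I) ∧
      Function.Surjective (pb i) ∧
      ∀ {T : Over S} (x : T ⟶ W), (∀ y ∈ I, pb x y = 0) → ∃ w : T ⟶ Z, w ≫ i = x := by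
  obtain ⟨Z₀, z, -, hZ, hker, hsurj, hfac⟩ := EB.exists_closed_affine' W.left I
  refine ⟨Over.mk (z ≫ W.hom), Over.homMk z rfl, hZ, hker, hsurj, ?_⟩
  intro T x hx
  obtain ⟨w₀, hw₀⟩ := hfac x.left hx
  refine ⟨Over.homMk w₀ ?_, ?_⟩
  · change w₀ ≫ z ≫ W.hom = T.hom
    rw [← Category.assoc, hw₀, Over.w]
  · apply Over.OverMorphism.ext
    exact hw₀

theorem nonempty_of_nontrivial (Z : Scheme.{u}) [IsAffine Z] [Nontrivial Γ(Z, ⊤)] : Nonempty Z :=
  ⟨Z.isoSpec.inv (Classical.arbitrary (PrimeSpectrum Γ(Z, ⊤)))⟩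

theorem isIso_of_bijective_appTop {X Y : Scheme.{u}} [IsAffine X] [IsAffine Y] (f : X ⟶ Y)
    (h : Function.Bijective f.appTop.hom) : IsIso f := by
  haveI : IsIso f.appTop := (ConcreteCategory.isIso_iff_bijective f.appTop).mpr h
  have : f = X.isoSpec.hom ≫ Spec.map f.appTop ≫ Y.isoSpec.inv := by
    rw [← Category.assoc, Scheme.isoSpec_hom_naturality, Category.assoc, Iso.hom_inv_id,
      Category.comp_id]
  rw [this]
  infer_instance

end Tools

section AC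

variable {X Y : Over S} {a : MonAct (AMonS S ℕ) X} {b : MonAct (AMonS S ℕ) Y} {f : X ⟶ Y}
  {WX WY : Over S} [IsAffine WX.left] [IsAffine WY.left] {aW : MonAct (AMonS S ℕ) WX}
  {bU : MonAct (AMonS S ℕ) WY} {jX : WX ⟶ X} {jY : WY ⟶ Y} [Mono jX] [Mono jY]
  (hjX : MonAct.IsEquivariant aW a jX) (hjY : MonAct.IsEquivariant bU b jY)
  {φ : WX ⟶ WY} (hφ : φ ≫ jY = jX ≫ f) (hφe : MonAct.IsEquivariant aW bU φ)
  (hpre : ∀ (T : Over S) (x : T ⟶ X) (y' : T ⟶ WY), x ≫ f = y' ≫ jY →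
    ∃ x' : T ⟶ WX, x' ≫ jX = x)

include hφe in
theorem ac_compat (b' : Γ(WY.left, ⊤)) :
    (coact WX aW).ρ (pb φ b') = ((coact WY bU).ρ b').map (pb φ) :=
  rho_compat aW bU φ hφe b'

theorem ac_sub_mem (W : Over S) [IsAffine W.left] (aW : MonAct (AMonS S ℕ) W) (a' : Γ(W.left, ⊤)) :
    (coact W aW).π 0 a' - a' ∈ RingHom.ker (coact W aW).π₀ := by
  rw [RingHom.mem_ker, map_sub, Coact.pi0_apply, Coact.pi0_apply, Coact.pi_pi, if_pos rfl, sub_self]

theorem fx_of_kills (W : Over S) [IsAffine W.left] (aW : MonAct (AMonS S ℕ) W) {T : Over S}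
    (x : T ⟶ W) (h : ∀ y ∈ RingHom.ker (coact W aW).π₀, pb x y = 0) : Fx aW x := by
  rw [fx_iff_pb]
  intro a'
  rw [← sub_eq_zero, ← map_sub]
  exact h _ (ac_sub_mem W aW a')

include hjX hjY hφ in
theorem ac_a (C2 : ∀ (T : Over S) (x : T ⟶ X), Fx b (x ≫ f) → Fx a x) :
    ∀ a', (coact WX aW).π 0 a' = 0 →
      a' ∈ Ideal.map (pb φ) (RingHom.ker (coact WY bU).π₀) := by
  intro a' ha'
  obtain ⟨Z, i, _, hker, -, -⟩ :=
    exists_closed_over WX (Ideal.map (pb φ) (RingHom.ker (coact WY bU).π₀))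
  have hy : Fx bU (i ≫ φ) := by
    apply fx_of_kills
    intro y hy
    rw [pb_comp, hker]
    exact Ideal.mem_map_of_mem _ hy
  have h1 : Fx b ((i ≫ jX) ≫ f) := by
    rw [Category.assoc, ← hφ, ← Category.assoc]
    exact hy.comp hjY
  have h2 : Fx aW i := (C2 _ _ h1).of_comp_mono hjX
  have h3 := (fx_iff_pb WX aW i).mp h2 a'
  rw [ha', map_zero] at h3
  exact (hker a').mp h3.symm

include hjX hjY hφ hφe hpre in
/-- data attached to the fixed locus of the target chart -/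
theorem ac_fixed_data
    (C1 : ∀ (T : Over S) (y : T ⟶ Y), Fx b y → ∃ x : T ⟶ X, Fx a x ∧ x ≫ f = y)
    (C1u : ∀ (T : Over S) (x x' : T ⟶ X), Fx a x → Fx a x' → x ≫ f = x' ≫ f → x = x') :
    ∃ (F : Over S) (iF : F ⟶ WY) (xF' : F ⟶ WX) (v : WX ⟶ F),
      (∀ y, pb iF y = 0 ↔ y ∈ RingHom.ker (coact WY bU).π₀) ∧ Function.Surjective (pb iF) ∧
      xF' ≫ φ = iF ∧ v ≫ iF = ze aW ≫ φ ∧ v ≫ xF' = ze aW := by
  obtain ⟨F, iF, _, hker, hsurj, hfac⟩ := exists_closed_over WY (RingHom.ker (coact WY bU).π₀)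
  have hiF : Fx bU iF := fx_of_kills WY bU iF fun y hy => (hker y).mpr hy
  have hyF : Fx b (iF ≫ jY) := hiF.comp hjY
  obtain ⟨xF, hxF, hxFf⟩ := C1 F _ hyF
  obtain ⟨xF', hxF'⟩ := hpre F xF iF hxFf
  have h1 : xF' ≫ φ = iF := by
    rw [← cancel_mono jY, Category.assoc, hφ, ← Category.assoc, hxF', hxFf]
  have hz : Fx aW (ze aW) := by
    have : Fx aW (𝟙 _ ≫ ze aW) := fx_comp_ze aW (𝟙 _)
    rw [Category.id_comp] at this
    exact this
  have hzφ : Fx bU (ze aW ≫ φ) := hz.comp hφe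
  obtain ⟨v, hv⟩ := hfac (ze aW ≫ φ) (by
    intro y hy
    have := (fx_iff_pb WY bU _).mp hzφ y
    rw [RingHom.mem_ker, Coact.pi0_apply] at hy
    rw [hy, map_zero] at this
    exact this.symm)
  refine ⟨F, iF, xF', v, hker, hsurj, h1, hv, ?_⟩
  rw [← cancel_mono jX]
  apply C1u
  · rw [Category.assoc, hxF']
    exact hxF.precomp v
  · exact hz.comp hjX
  · have e1 : ((v ≫ xF') ≫ jX) ≫ f = v ≫ iF ≫ jY := by
      rw [Category.assoc, Category.assoc, ← Category.assoc xF', hxF', hxFf]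
    rw [e1, ← Category.assoc, hv, Category.assoc, Category.assoc, hφ]

include hjX hjY hφ hφe hpre in
theorem ac_b
    (C1 : ∀ (T : Over S) (y : T ⟶ Y), Fx b y → ∃ x : T ⟶ X, Fx a x ∧ x ≫ f = y)
    (C1u : ∀ (T : Over S) (x x' : T ⟶ X), Fx a x → Fx a x' → x ≫ f = x' ≫ f → x = x') :
    (∀ a', (coact WX aW).π 0 a' = a' → ∃ b', pb φ b' = a') ∧
      (∀ b', pb φ b' = 0 → (coact WY bU).π 0 b' = b' → b' = 0) := by
  obtain ⟨F, iF, xF', v, hker, hsurj, h1, hv, hvx⟩ := ac_fixed_data hjX hjY hφ hφe hpre C1 C1u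
  constructor
  · intro a' ha'
    obtain ⟨b', hb'⟩ := hsurj (pb xF' a')
    refine ⟨(coact WY bU).π 0 b', ?_⟩
    rw [← pi_compat (coact WX aW) (coact WY bU) (pb φ) (ac_compat hφe), ← pb_ze, ← pb_comp, ← hv,
      pb_comp, hb', ← pb_comp, hvx, pb_ze, ha']
  · intro b' hb' hb0
    have h2 : pb iF b' = 0 := by
      rw [← h1, pb_comp, hb', map_zero]
    have h3 := (hker b').mp h2
    rw [RingHom.mem_ker, Coact.pi0_apply, hb0] at h3
    exact h3

end AC

end Groth.Agent.H9.KZ
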