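import Mathlib
import Groth.Agent.Lib.Helper9.Misc.KZ6

/-! # KZ7: the affine case, part 2: local annihilators from étaleness near the fixed points, and
bijectivity of the ring map. -/

set_option linter.style.haveILetI false
set_option linter.unusedSectionVars false
set_option autoImplicit false

namespace Groth.Agent.H9.KZ

universe u

open CategoryTheory CategoryTheory.Limits AlgebraicGeometry MonoidalCategory
  CartesianMonoidalCategory MonObj Opposite
open Magnet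
open Groth.Agent.H9.MagKun Groth.Agent.H9.MagChr Groth.Agent.H9.MagPts

variable {S : Scheme.{u}}

section ACc

variable {X Y : Over S} {a : MonAct (AMonS S ℕ) X} {b : MonAct (AMonS S ℕ) Y} {f : X ⟶ Y}
  {WX WY : Over S} [IsAffine WX.left] [IsAffine WY.left] {aW : MonAct (AMonS S ℕ) WX}
  {bU : MonAct (AMonS S ℕ) WY} {jX : WX ⟶ X} {jY : WY ⟶ Y} [Mono jX] [Mono jY]
  [IsOpenImmersion jX.left] [IsOpenImmersion jY.left]
  (hjX : MonAct.IsEquivariant aW a jX) (hjY : MonAct.IsEquivariant bU b jY)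
  {φ : WX ⟶ WY} (hφ : φ ≫ jY = jX ≫ f) (hφe : MonAct.IsEquivariant aW bU φ)
  (hpre : ∀ (T : Over S) (x : T ⟶ X) (y' : T ⟶ WY), x ≫ f = y' ≫ jY →
    ∃ x' : T ⟶ WX, x' ≫ jX = x)
  (V : X.left.Opens) [Etale (V.ι ≫ f.left)]

include hjX hφ hφe in
theorem ac_c (C3 : ∀ (T : Over S) (x : T ⟶ X), Fx a x → ∀ t, x.left t ∈ V)
    (hsurj : Function.Surjective (pb φ))
    (hA : ∀ a', (coact WX aW).π 0 a' = 0 →
      a' ∈ Ideal.map (pb φ) (RingHom.ker (coact WY bU).π₀))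
    (hk0 : ∀ b', pb φ b' = 0 → (coact WY bU).π 0 b' = b' → b' = 0) :
    ∀ P : Ideal Γ(WY.left, ⊤), P.IsPrime → RingHom.ker (coact WY bU).π₀ ≤ P →
      ∀ b' ∈ RingHom.ker (pb φ), ∃ s, s ∉ P ∧ s * b' = 0 := by
  intro P hP hKP b' hb'
  rw [RingHom.mem_ker] at hb'
  have hkerP : ∀ b'', pb φ b'' = 0 → b'' ∈ P := by
    intro b'' h
    have h0 : (coact WY bU).π 0 b'' = 0 := by
      apply hk0
      · rw [← pi_compat _ _ _ (ac_compat hφe), h, Coact.pi_zero]
      · rw [Coact.pi_pi, if_pos rfl]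
    apply hKP
    rw [RingHom.mem_ker, Coact.pi0_apply, h0]
  have hP'1 : (1 : Γ(WX.left, ⊤)) ∉ Ideal.map (pb φ) P := by
    intro h1
    have h2 : (1 : Γ(WY.left, ⊤)) ∈ Ideal.comap (pb φ) (Ideal.map (pb φ) P) := by
      rw [Ideal.mem_comap, map_one]
      exact h1
    rw [Ideal.comap_map_of_surjective _ hsurj] at h2
    have hle : P ⊔ Ideal.comap (pb φ) ⊥ ≤ P := by
      refine sup_le le_rfl fun x hx => hkerP x ?_
      rw [Ideal.mem_comap, Ideal.mem_bot] at hx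
      exact hx
    exact hP.ne_top ((Ideal.eq_top_iff_one _).mpr (hle h2))
  obtain ⟨Z, i, hZ, hker, -, -⟩ := exists_closed_over WX (Ideal.map (pb φ) P)
  haveI := hZ
  have hi : Fx aW i := by
    apply fx_of_kills
    intro y hy
    rw [RingHom.mem_ker, Coact.pi0_apply] at hy
    exact (hker y).mpr (Ideal.map_mono hKP (hA y hy))
  have hV : ∀ t, (i ≫ jX).left t ∈ V := C3 _ _ (hi.comp hjX)
  haveI : Nontrivial Γ(Z.left, ⊤) :=
    ⟨⟨1, 0, fun h => hP'1 ((hker 1).mp (by rw [map_one]; exact h))⟩⟩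
  obtain ⟨t⟩ := nonempty_of_nontrivial Z.left
  have hp' : i.left t ∈ jX.left ⁻¹ᵁ V := by
    have := hV t
    rwa [Over.comp_left, Scheme.Hom.comp_apply] at this
  obtain ⟨s₁, hs₁V, hts₁⟩ :=
    (isAffineOpen_top WX.left).exists_basicOpen_le ⟨i.left t, hp'⟩ trivial
  have hs₁ : s₁ ∉ Ideal.map (pb φ) P := by
    intro h
    have h0 := (hker s₁).mpr h
    have h1 : t ∈ i.left ⁻¹ᵁ WX.left.basicOpen s₁ := hts₁
    rw [Scheme.preimage_basicOpen_top] at h1
    change t ∈ Z.left.basicOpen (pb i s₁) at h1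
    rw [h0, Scheme.basicOpen_zero] at h1
    exact h1
  obtain ⟨g, rfl⟩ := hsurj s₁
  have hgP : g ∉ P := fun h => hs₁ (Ideal.mem_map_of_mem _ h)
  -- the basic open chart
  haveI hDa : IsAffine (XU WX (WX.left.basicOpen (pb φ g))).left :=
    (isAffineOpen_top WX.left).basicOpen (pb φ g)
  have hrange : Set.range ((WX.left.basicOpen (pb φ g)).ι ≫ jX.left) ⊆ Set.range V.ι := by
    rintro _ ⟨w, rfl⟩
    rw [Scheme.Opens.range_ι, Scheme.Hom.comp_apply]
    exact hs₁V (jU_mem (WX.left.basicOpen (pb φ g)) w)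
  have hl := IsOpenImmersion.lift_fac V.ι ((WX.left.basicOpen (pb φ g)).ι ≫ jX.left) hrange
  haveI : IsOpenImmersion
      (IsOpenImmersion.lift V.ι ((WX.left.basicOpen (pb φ g)).ι ≫ jX.left) hrange ≫ V.ι) := by
    rw [hl]
    infer_instance
  haveI : IsOpenImmersion
      (IsOpenImmersion.lift V.ι ((WX.left.basicOpen (pb φ g)).ι ≫ jX.left) hrange) :=
    IsOpenImmersion.of_comp _ V.ι
  have hm : (jU WX (WX.left.basicOpen (pb φ g)) ≫ φ).left ≫ jY.left =
      IsOpenImmersion.lift V.ι ((WX.left.basicOpen (pb φ g)).ι ≫ jX.left) hrange ≫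
        (V.ι ≫ f.left) := by
    rw [← Category.assoc, hl, ← Over.comp_left, Category.assoc, hφ]
    rfl
  haveI : Etale ((jU WX (WX.left.basicOpen (pb φ g)) ≫ φ).left ≫ jY.left) := by
    rw [hm]
    infer_instance
  haveI hEt : Etale (jU WX (WX.left.basicOpen (pb φ g)) ≫ φ).left :=
    Etale.of_comp _ jY.left
  have hψ : RingHom.Etale (pb (jU WX (WX.left.basicOpen (pb φ g)) ≫ φ)) :=
    (HasRingHomProperty.iff_of_isAffine (P := @Etale)).mp hEt
  haveI hloc : IsLocalization.Away (pb φ g) Γ((WX.left.basicOpen (pb φ g)).toScheme, ⊤) :=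
    Γ_restrict_isLocalization WX.left (pb φ g)
  have halg : ∀ y, algebraMap Γ(WX.left, ⊤) Γ((WX.left.basicOpen (pb φ g)).toScheme, ⊤) y =
      pb (jU WX (WX.left.basicOpen (pb φ g))) y := fun y => rfl
  have hs : ∀ c : Γ((WX.left.basicOpen (pb φ g)).toScheme, ⊤), ∃ b₁ n,
      c * (algebraMap Γ(WX.left, ⊤) Γ((WX.left.basicOpen (pb φ g)).toScheme, ⊤) (pb φ g)) ^ n =
        algebraMap Γ(WX.left, ⊤) Γ((WX.left.basicOpen (pb φ g)).toScheme, ⊤) (pb φ b₁) := by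
    intro c
    obtain ⟨⟨x1, x2⟩, hx⟩ := IsLocalization.surj (Submonoid.powers (pb φ g)) c
    obtain ⟨_, n, rfl⟩ := x2
    obtain ⟨b₁, rfl⟩ := hsurj x1
    refine ⟨b₁, n, ?_⟩
    rw [← map_pow]
    exact hx
  have hP' : ∀ b'', algebraMap Γ(WX.left, ⊤) Γ((WX.left.basicOpen (pb φ g)).toScheme, ⊤)
      (pb φ b'') = 0 → b'' ∈ P := by
    intro b'' hb''
    obtain ⟨⟨_, n, rfl⟩, hm'⟩ :=
      (IsLocalization.map_eq_zero_iff (Submonoid.powers (pb φ g)) _ _).mp hb''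
    have h1 : g ^ n * b'' ∈ P := hkerP _ (by rw [map_mul, map_pow]; exact hm')
    rcases hP.mem_or_mem h1 with h2 | h2
    · exact absurd (hP.mem_of_pow_mem n h2) hgP
    · exact h2
  refine local_ann (pb (jU WX (WX.left.basicOpen (pb φ g)) ≫ φ)) hψ g ?_ ?_ P hgP ?_ b' ?_
  · rw [pb_comp]
    apply (lands_iff (jU WX (WX.left.basicOpen (pb φ g))) (pb φ g)).mp
    intro w
    exact jU_mem _ w
  · intro c
    obtain ⟨b₁, n, h⟩ := hs c
    refine ⟨b₁, n, ?_⟩
    rw [pb_comp, pb_comp]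
    exact h
  · intro b'' hb''
    rw [pb_comp] at hb''
    exact hP' b'' hb''
  · rw [pb_comp, hb', map_zero]

include hjX hjY hφ hφe hpre in
theorem ac_main
    (C1 : ∀ (T : Over S) (y : T ⟶ Y), Fx b y → ∃ x : T ⟶ X, Fx a x ∧ x ≫ f = y)
    (C1u : ∀ (T : Over S) (x x' : T ⟶ X), Fx a x → Fx a x' → x ≫ f = x' ≫ f → x = x')
    (C2 : ∀ (T : Over S) (x : T ⟶ X), Fx b (x ≫ f) → Fx a x)
    (C3 : ∀ (T : Over S) (x : T ⟶ X), Fx a x → ∀ t, x.left t ∈ V) :
    Function.Bijective (pb φ) := by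
  have hA := ac_a hjX hjY hφ C2
  obtain ⟨hB1, hB2⟩ := ac_b hjX hjY hφ hφe hpre C1 C1u
  have hsurj : Function.Surjective (pb φ) :=
    lemmaA (coact WX aW) (coact WY bU) (pb φ) (ac_compat hφe) hA hB1
  refine ⟨?_, hsurj⟩
  rw [RingHom.injective_iff_ker_eq_bot]
  apply lemmaB (coact WY bU)
  · intro b' hb' n
    rw [RingHom.mem_ker] at hb' ⊢
    rw [← pi_compat _ _ _ (ac_compat hφe), hb', Coact.pi_zero]
  · intro b' hb' h0
    rw [RingHom.mem_ker] at hb'
    exact hB2 b' hb' h0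
  · exact ac_c hjX hφ hφe V C3 hsurj hA hB2

end ACc

end Groth.Agent.H9.KZ
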