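import Mathlib
import Groth.Agent.Lib.Helper9.Misc.KZ7

/-! # KZ8: the affine case for stable affine opens, and the construction of a stable affine open
neighbourhood of a fixed point with affine preimage. -/

set_option linter.style.haveILetI false
set_option linter.unusedSectionVars false
set_option autoImplicit false

namespace Groth.Agent.H9.KZ

universe u

open CategoryTheory CategoryTheory.Limits AlgebraicGeometry MonoidalCategory
  CartesianMonoidalCategory MonObj Opposite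
open Magnet
open Groth.Agent.H9.MagKun Groth.Agent.H9.MagChr Groth.Agent.H9.MagPts

variable {S : Scheme.{u}}

theorem comp_left_apply {T W X : Over S} (x : T ⟶ W) (j : W ⟶ X) (t : T.left) :
    (x ≫ j).left t = j.left (x.left t) := by
  rw [Over.comp_left, Scheme.Hom.comp_apply]

section ACo

variable {X Y : Over S} {a : MonAct (AMonS S ℕ) X} {b : MonAct (AMonS S ℕ) Y} {f : X ⟶ Y}
  (hf : MonAct.IsEquivariant a b f) (V : X.left.Opens) [Etale (V.ι ≫ f.left)]

/-- the restricted morphism of charts -/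
noncomputable def φg (f : X ⟶ Y) (U₂ : Y.left.Opens) : XU X (f.left ⁻¹ᵁ U₂) ⟶ XU Y U₂ :=
  Over.homMk (f.left ∣_ U₂) (by
    change (f.left ∣_ U₂) ≫ U₂.ι ≫ Y.hom = (f.left ⁻¹ᵁ U₂).ι ≫ X.hom
    rw [morphismRestrict_ι_assoc, Over.w])

theorem φg_left (U₂ : Y.left.Opens) : (φg f U₂).left = f.left ∣_ U₂ := rfl

theorem φg_comp (U₂ : Y.left.Opens) : φg f U₂ ≫ jU Y U₂ = jU X (f.left ⁻¹ᵁ U₂) ≫ f := by
  apply Over.OverMorphism.ext
  exact morphismRestrict_ι f.left U₂

include hf in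
theorem ac_opens
    (C1 : ∀ (T : Over S) (y : T ⟶ Y), Fx b y → ∃ x : T ⟶ X, Fx a x ∧ x ≫ f = y)
    (C1u : ∀ (T : Over S) (x x' : T ⟶ X), Fx a x → Fx a x' → x ≫ f = x' ≫ f → x = x')
    (C2 : ∀ (T : Over S) (x : T ⟶ X), Fx b (x ≫ f) → Fx a x)
    (C3 : ∀ (T : Over S) (x : T ⟶ X), Fx a x → ∀ t, x.left t ∈ V)
    {U₂ : Y.left.Opens} (hU₂ : Stable b U₂) (hU₂a : IsAffineOpen U₂)
    (hWa : IsAffineOpen (f.left ⁻¹ᵁ U₂)) : IsIso (f.left ∣_ U₂) := by
  haveI : IsAffine (XU Y U₂).left := hU₂a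
  haveI : IsAffine (XU X (f.left ⁻¹ᵁ U₂)).left := hWa
  have hjX := rAct_equivariant a (hU₂.preimage hf)
  have hjY := rAct_equivariant b hU₂
  have hφe : MonAct.IsEquivariant (rAct a (hU₂.preimage hf)) (rAct b hU₂) (φg f U₂) := by
    apply equivariant_of_comp hjY
    rw [φg_comp]
    exact hjX.comp hf
  have hpre : ∀ (T : Over S) (x : T ⟶ X) (y' : T ⟶ XU Y U₂), x ≫ f = y' ≫ jU Y U₂ →
      ∃ x' : T ⟶ XU X (f.left ⁻¹ᵁ U₂), x' ≫ jU X (f.left ⁻¹ᵁ U₂) = x := by
    intro T x y' h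
    apply factor
    intro t
    change f.left (x.left t) ∈ U₂
    rw [← comp_left_apply, h, comp_left_apply]
    exact jU_mem U₂ _
  have hbij := ac_main hjX hjY (φg_comp U₂) hφe hpre V C1 C1u C2 C3
  haveI : IsAffine (f.left ⁻¹ᵁ U₂).toScheme := hWa
  haveI : IsAffine U₂.toScheme := hU₂a
  exact isIso_of_bijective_appTop (f.left ∣_ U₂) hbij

end ACo

section Core

variable {X Y : Over S} {a : MonAct (AMonS S ℕ) X} {b : MonAct (AMonS S ℕ) Y} {f : X ⟶ Y}
  (hf : MonAct.IsEquivariant a b f)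

include hf in
theorem core
    (hX : ∀ x : X.left, ∃ U : X.left.Opens, x ∈ U ∧ IsAffineOpen U ∧ Stable a U)
    (hY : ∀ y : Y.left, ∃ U : Y.left.Opens, y ∈ U ∧ IsAffineOpen U ∧ Stable b U)
    (C1 : ∀ (T : Over S) (y : T ⟶ Y), Fx b y → ∃ x : T ⟶ X, Fx a x ∧ x ≫ f = y)
    (C1u : ∀ (T : Over S) (x x' : T ⟶ X), Fx a x → Fx a x' → x ≫ f = x' ≫ f → x = x')
    {T : Over S} [Subsingleton T.left] [Nonempty T.left] (y : T ⟶ Y) (hy : Fx b y) :
    ∃ U₂ : Y.left.Opens, Stable b U₂ ∧ IsAffineOpen U₂ ∧ IsAffineOpen (f.left ⁻¹ᵁ U₂) ∧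
      ∀ t, y.left t ∈ U₂ := by
  obtain ⟨t₀⟩ := (inferInstance : Nonempty T.left)
  have hall : ∀ {Z : Over S} (x : T ⟶ Z) (O : Z.left.Opens), x.left t₀ ∈ O → ∀ t, x.left t ∈ O := by
    intro Z x O h t
    rwa [Subsingleton.elim t t₀]
  -- step 1
  obtain ⟨U, hzU, hUa, hUs⟩ := hY (y.left t₀)
  haveI : IsAffine (XU Y U).left := hUa
  obtain ⟨y', hy'⟩ := factor y (hall y U hzU)
  have hy'fx : Fx (rAct b hUs) y' :=
    Fx.of_comp_mono (rAct_equivariant b hUs) (by rw [hy']; exact hy)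
  -- step 2
  obtain ⟨x, hx, hxf⟩ := C1 T y hy
  obtain ⟨U', hzU', hU'a, hU's⟩ := hX (x.left t₀)
  haveI : IsAffine (XU X U').left := hU'a
  obtain ⟨x', hx'⟩ := factor x (hall x U' hzU')
  have hx'fx : Fx (rAct a hU's) x' :=
    Fx.of_comp_mono (rAct_equivariant a hU's) (by rw [hx']; exact hx)
  -- step 3
  obtain ⟨a₀, ha₀, hua₀, hle₀⟩ := shrink a hU's (hUs.preimage hf) x' hx'fx (by
    intro t
    rw [hx']
    change f.left (x.left t) ∈ U
    rw [← comp_left_apply, hxf]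
    exact hall y U hzU t)
  have hU'₁s : Stable a (bo (U := U') a₀) := bo_stable a hU's a₀ ha₀
  have hU'₁a : IsAffineOpen (bo (U := U') a₀) := bo_affine a₀
  have hxU'₁ : ∀ t, x.left t ∈ bo (U := U') a₀ := by
    rw [← hx']
    exact (lands_bo_iff x' a₀).mpr hua₀
  -- step 4
  obtain ⟨F, iF, hFa, hker, hsurj, hfac⟩ :=
    exists_closed_over (XU Y U) (RingHom.ker (coact (XU Y U) (rAct b hUs)).π₀)
  haveI := hFa
  have hiF : Fx (rAct b hUs) iF := fx_of_kills _ _ iF fun y hy => (hker y).mpr hy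
  obtain ⟨xF, hxF, hxFf⟩ := C1 F _ (hiF.comp (rAct_equivariant b hUs))
  have kills : ∀ {T' : Over S} (y₁ : T' ⟶ XU Y U), Fx (rAct b hUs) y₁ →
      ∀ y ∈ RingHom.ker (coact (XU Y U) (rAct b hUs)).π₀, pb y₁ y = 0 := by
    intro T' y₁ h y hy
    have := (fx_iff_pb _ _ y₁).mp h y
    rw [RingHom.mem_ker, Coact.pi0_apply] at hy
    rw [hy, map_zero] at this
    exact this.symm
  obtain ⟨y'', hy''⟩ := hfac y' (kills y' hy'fx)
  have hyx : y'' ≫ xF = x := by
    apply C1u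
    · exact hxF.precomp y''
    · exact hx
    · rw [Category.assoc, hxFf, ← Category.assoc, hy'', hy', hxf]
  have hO_F : y''.left t₀ ∈ xF.left ⁻¹ᵁ bo (U := U') a₀ := by
    change xF.left (y''.left t₀) ∈ bo (U := U') a₀
    rw [← comp_left_apply, hyx]
    exact hxU'₁ t₀
  obtain ⟨β, hβle, hβmem⟩ :=
    (isAffineOpen_top F.left).exists_basicOpen_le ⟨y''.left t₀, hO_F⟩ trivial
  obtain ⟨b₁, hb₁⟩ := hsurj β
  obtain ⟨b₀, hb₀def⟩ : ∃ b₀, b₀ = (coact (XU Y U) (rAct b hUs)).π 0 b₁ := ⟨_, rfl⟩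
  have hb₀ : (coact (XU Y U) (rAct b hUs)).π 0 b₀ = b₀ := by
    rw [hb₀def, Coact.pi_pi, if_pos rfl]
  have hiFb₀ : pb iF b₀ = β := by
    rw [hb₀def, (fx_iff_pb _ _ iF).mp hiF, hb₁]
  have hU₂s : Stable b (bo (U := U) b₀) := bo_stable b hUs b₀ hb₀
  have hU₂a : IsAffineOpen (bo (U := U) b₀) := bo_affine b₀
  have hyU₂ : ∀ t, y.left t ∈ bo (U := U) b₀ := by
    rw [← hy']
    apply (lands_bo_iff y' b₀).mpr
    rw [← hy'', pb_comp, hiFb₀]
    apply (lands_iff y'' β).mp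
    exact hall y'' _ hβmem
  -- step 5
  have hpre_le : f.left ⁻¹ᵁ bo (U := U) b₀ ≤ bo (U := U') a₀ := by
    intro p hp
    have hq : ∀ t, (xp X p ≫ ze a).left t ∈ bo (U := U') a₀ := by
      have h1 : ∀ t, ((xp X p ≫ f) ≫ ze b).left t ∈ bo (U := U) b₀ := by
        rw [comp_ze]
        apply hU₂s.pt
        intro t
        rw [comp_left_apply, xp_apply]
        exact hp
      have hqf : (xp X p ≫ ze a) ≫ f = (xp X p ≫ f) ≫ ze b := by
        rw [Category.assoc, ze_comp hf, Category.assoc]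
      obtain ⟨yq, hyq⟩ := factor ((xp X p ≫ f) ≫ ze b) (fun t => bo_le b₀ (h1 t))
      have hyqfx : Fx (rAct b hUs) yq :=
        Fx.of_comp_mono (rAct_equivariant b hUs) (by rw [hyq]; exact fx_comp_ze b _)
      have hyqu : IsUnit (pb yq b₀) := (lands_bo_iff yq b₀).mp (by rw [hyq]; exact h1)
      obtain ⟨yq', hyq'⟩ := hfac yq (kills yq hyqfx)
      have h2 : ∀ t, yq'.left t ∈ F.left.basicOpen β := by
        apply (lands_iff yq' β).mpr
        rw [← hiFb₀, ← pb_comp, hyq']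
        exact hyqu
      have h3 : yq' ≫ xF = xp X p ≫ ze a := by
        apply C1u
        · exact hxF.precomp yq'
        · exact fx_comp_ze a _
        · rw [Category.assoc, hxFf, ← Category.assoc, hyq', hyq, hqf]
      intro t
      rw [← h3, comp_left_apply]
      exact hβle (h2 t)
    have hsat := saturation a hU'₁s (xp X p) hq
    obtain ⟨t₁⟩ := (inferInstance : Nonempty (Tp X p).left)
    have h := hsat t₁
    rwa [xp_apply] at h
  -- step 6
  haveI : IsAffine (XU X (bo (U := U') a₀)).left := hU'₁a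
  obtain ⟨f₁, hf₁⟩ := factor (U := U) (jU X (bo (U := U') a₀) ≫ f) (by
    intro t
    rw [comp_left_apply]
    exact hle₀ (jU_mem _ t))
  have heq : f.left ⁻¹ᵁ bo (U := U) b₀ = (jU X (bo (U := U') a₀)).left ''ᵁ
      ((XU X (bo (U := U') a₀)).left.basicOpen (pb f₁ b₀)) := by
    apply le_antisymm
    · intro p hp
      have hp1 := hpre_le hp
      obtain ⟨w, hw⟩ : p ∈ Set.range (jU X (bo (U := U') a₀)).left := by
        rw [range_jU]
        exact hp1
      refine ⟨w, ?_, hw⟩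
      have h1 : w ∈ f₁.left ⁻¹ᵁ (XU Y U).left.basicOpen b₀ := by
        change f₁.left w ∈ (XU Y U).left.basicOpen b₀
        obtain ⟨d, hd, hdp⟩ := hp
        have h2 : (jU Y U).left (f₁.left w) = (jU Y U).left d := by
          rw [← comp_left_apply, hf₁, comp_left_apply, hw]
          exact hdp.symm
        rw [(jU Y U).left.isOpenEmbedding.injective h2]
        exact hd
      rw [Scheme.preimage_basicOpen_top] at h1
      exact h1
    · rintro _ ⟨w, hw, rfl⟩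
      change f.left ((jU X _).left w) ∈ bo (U := U) b₀
      rw [← comp_left_apply, ← hf₁, comp_left_apply]
      have h1 : w ∈ f₁.left ⁻¹ᵁ (XU Y U).left.basicOpen b₀ := by
        rw [Scheme.preimage_basicOpen_top]
        exact hw
      exact ⟨_, h1, rfl⟩
  refine ⟨bo (U := U) b₀, hU₂s, hU₂a, ?_, hyU₂⟩
  rw [heq]
  exact ((isAffineOpen_top _).basicOpen _).image_of_isOpenImmersion _

end Core

end Groth.Agent.H9.KZ
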