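import Mathlib
import Groth.Prelude.Def_Magnet3
import Groth.Agent.Lib.Helper9.Misc.KZ8

/-! # KZ9: assembly: an equivariant map of locally linear `A¹`-schemes which is an isomorphism on
fixed points, fixed-point reflecting and étale near the fixed points is an isomorphism (S18959). -/

set_option linter.style.haveILetI false
set_option linter.unusedSectionVars false
set_option autoImplicit false

namespace Groth.Agent.H9.KZ

universe u

open CategoryTheory CategoryTheory.Limits AlgebraicGeometry MonoidalCategory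
  CartesianMonoidalCategory MonObj Opposite
open Magnet
open Groth.Agent.H9.MagKun Groth.Agent.H9.MagChr Groth.Agent.H9.MagPts

variable {S : Scheme.{u}}

section Main

variable {X Y : Over S} {a : MonAct (AMonS S ℕ) X} {b : MonAct (AMonS S ℕ) Y} {f : X ⟶ Y}
  (hf : MonAct.IsEquivariant a b f) (V : X.left.Opens) [Etale (V.ι ≫ f.left)]

include hf in
theorem main_gen
    (hX : ∀ x : X.left, ∃ U : X.left.Opens, x ∈ U ∧ IsAffineOpen U ∧ Stable a U)
    (hY : ∀ y : Y.left, ∃ U : Y.left.Opens, y ∈ U ∧ IsAffineOpen U ∧ Stable b U)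
    (C1 : ∀ (T : Over S) (y : T ⟶ Y), Fx b y → ∃ x : T ⟶ X, Fx a x ∧ x ≫ f = y)
    (C1u : ∀ (T : Over S) (x x' : T ⟶ X), Fx a x → Fx a x' → x ≫ f = x' ≫ f → x = x')
    (C2 : ∀ (T : Over S) (x : T ⟶ X), Fx b (x ≫ f) → Fx a x)
    (C3 : ∀ (T : Over S) (x : T ⟶ X), Fx a x → ∀ t, x.left t ∈ V) : IsIso f := by
  let 𝒮 : Set Y.left.Opens := {U₂ | Stable b U₂ ∧ IsIso (f.left ∣_ U₂)}
  have hS : Stable b (SupSet.sSup 𝒮) := Stable.sSup b 𝒮 (fun U h => h.1)
  have hall : ∀ p : Y.left, p ∈ (SupSet.sSup 𝒮 : Y.left.Opens) := by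
    intro p
    have hq : ∀ t, (xp Y p ≫ ze b).left t ∈ (SupSet.sSup 𝒮 : Y.left.Opens) := by
      obtain ⟨U₂, hs, ha, hpa, hl⟩ := core hf hX hY C1 C1u (xp Y p ≫ ze b) (fx_comp_ze b _)
      have hiso := ac_opens hf V C1 C1u C2 C3 hs ha hpa
      intro t
      rw [TopologicalSpace.Opens.mem_sSup]
      exact ⟨U₂, ⟨hs, hiso⟩, hl t⟩
    have hsat := saturation b hS (xp Y p) hq
    obtain ⟨t₁⟩ := (inferInstance : Nonempty (Tp Y p).left)
    have h := hsat t₁
    rwa [xp_apply] at h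
  have hiso : IsIso f.left := by
    apply IsZariskiLocalAtTarget.of_forall_exists_morphismRestrict
      (P := MorphismProperty.isomorphisms Scheme)
    intro p
    have hp := hall p
    rw [TopologicalSpace.Opens.mem_sSup] at hp
    obtain ⟨U₂, ⟨-, hiso⟩, hp⟩ := hp
    exact ⟨U₂, hp, hiso⟩
  haveI : IsIso ((Over.forget S).map f) := hiso
  exact isIso_of_reflects_iso f (Over.forget S)

end Main

theorem S18959_main (S : Scheme.{u})
    (X Y : Over S) (a : Magnet.MonAct (Magnet.AMonS S ℕ) X) (b : Magnet.MonAct (Magnet.AMonS S ℕ) Y)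
    (hX : ∀ x : X.left, ∃ U : X.left.Opens, x ∈ U ∧ IsAffineOpen U ∧
      (CartesianMonoidalCategory.snd (Magnet.AMonS S ℕ) X).left ⁻¹ᵁ U ≤ a.act.left ⁻¹ᵁ U)
    (hY : ∀ y : Y.left, ∃ U : Y.left.Opens, y ∈ U ∧ IsAffineOpen U ∧
      (CartesianMonoidalCategory.snd (Magnet.AMonS S ℕ) Y).left ⁻¹ᵁ U ≤ b.act.left ⁻¹ᵁ U)
    (f : X ⟶ Y) (hf : Magnet.MonAct.IsEquivariant a b f)
    (h1 : IsIso (Magnet.MonAct.fixedPsh.map f hf))
    (h2 : IsPullback (Magnet.MonAct.fixedPsh.map f hf) (Magnet.MonAct.fixedPshι a)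
      (Magnet.MonAct.fixedPshι b) (yoneda.map f))
    (V : X.left.Opens) [Etale (V.ι ≫ f.left)]
    (h3 : ∀ (T : Over S) (x : (Magnet.MonAct.fixedPsh a).obj (op T)), x.1.left ⁻¹ᵁ V = ⊤) :
    IsIso f := by
  have hbij : ∀ T : Over S, Function.Bijective ((Magnet.MonAct.fixedPsh.map f hf).app (op T)) := by
    intro T
    have : IsIso ((Magnet.MonAct.fixedPsh.map f hf).app (op T)) := inferInstance
    exact (isIso_iff_bijective _).mp this
  refine main_gen hf V hX hY ?_ ?_ ?_ ?_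
  · intro T y hy
    obtain ⟨x, hx⟩ := (hbij T).2 ⟨y, hy⟩
    refine ⟨x.1, x.2, ?_⟩
    have := congrArg Subtype.val hx
    exact this
  · intro T x x' hx hx' h
    have := (hbij T).1 (a₁ := ⟨x, hx⟩) (a₂ := ⟨x', hx'⟩) (Subtype.ext h)
    exact congrArg Subtype.val this
  · intro T x hx
    obtain ⟨ψ, -, hψ⟩ := Types.exists_of_isPullback (h2.app (op T)) (⟨x ≫ f, hx⟩ : (Magnet.MonAct.fixedPsh b).obj (op T)) x rfl
    have h : ψ.1 = x := hψ
    rw [← h]
    exact ψ.2
  · intro T x hx t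
    have h := h3 T ⟨x, hx⟩
    have : t ∈ x.left ⁻¹ᵁ V := by
      rw [h]
      trivial
    exact this

end Groth.Agent.H9.KZ
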