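import Mathlib
import Groth.Agent.Lib.Helper3.CA.KrullAkizuki3
import Groth.Agent.Lib.Helper3.CA.KrullAkizuki4

/-!
# Lattices over a one-dimensional Noetherian local domain: the exact length formula (helper9)
-/

set_option autoImplicit false
set_option linter.unusedSectionVars false
set_option linter.unusedVariables false

namespace Groth.Agent.H9.Ka

open Groth.Agent.H3.KA

section Free

variable {R : Type*} [CommRing R] {V : Type*} [AddCommGroup V] [Module R V]

/-- the free computation -/
theorem rl_sm_range {ι : Type*} [Fintype ι] (f : (ι → R) →ₗ[R] V) (hf : Function.Injective f)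
    (x : R) :
    rl (sm x (LinearMap.range f)) (LinearMap.range f) =
      Fintype.card ι * Module.length R (R ⧸ Ideal.span {x}) := by
  classical
  unfold rl
  let e : (ι → R) ≃ₗ[R] LinearMap.range f := LinearEquiv.ofInjective f hf
  have he : ∀ c, ((e c : LinearMap.range f) : V) = f c := fun c => rfl
  let P : Submodule R (ι → R) :=
    Submodule.pi Set.univ (fun _ => (Ideal.span {x} : Submodule R R))
  have h : P.map (e : (ι → R) →ₗ[R] LinearMap.range f) =
      (sm x (LinearMap.range f)).submoduleOf (LinearMap.range f) := by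
    ext y
    constructor
    · rintro ⟨c, hc, rfl⟩
      show ((e c : LinearMap.range f) : V) ∈ sm x (LinearMap.range f)
      rw [he]
      have hc' : ∀ i, ∃ d, d * x = c i := fun i =>
        Ideal.mem_span_singleton'.mp ((Submodule.mem_pi.mp hc) i (Set.mem_univ i))
      choose d hd using hc'
      refine mem_sm.mpr ⟨f d, ⟨d, rfl⟩, ?_⟩
      rw [← map_smul]
      congr 1
      funext i
      rw [Pi.smul_apply, smul_eq_mul, mul_comm, hd]
    · intro hy
      have hy' : (y : V) ∈ sm x (LinearMap.range f) := hy
      obtain ⟨n, ⟨d, rfl⟩, hn⟩ := mem_sm.mp hy'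
      refine ⟨x • d, ?_, ?_⟩
      · apply Submodule.mem_pi.mpr
        intro i _
        show (x • d) i ∈ Ideal.span {x}
        rw [Pi.smul_apply, smul_eq_mul]
        exact Ideal.mul_mem_right _ _ (Ideal.subset_span rfl)
      · apply Subtype.ext
        show ((e (x • d) : LinearMap.range f) : V) = y
        rw [he, map_smul, hn]
  rw [← (Submodule.Quotient.equiv P _ e h).length_eq, (Submodule.quotientPi _).length_eq,
    Module.length_pi_of_fintype]
  simp

end Free

section Lat

variable {R : Type*} [CommRing R] [IsDomain R] {K : Type*} [Field K] [Algebra R K]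
  [IsFractionRing R K] {V : Type*} [AddCommGroup V] [Module R V] [Module K V]
  [IsScalarTower R K V] [IsNoetherianRing R] [Ring.KrullDimLE 1 R] [FiniteDimensional K V]

include K in
/-- a free sublattice with the expected length -/
theorem exists_free_sub (M : Submodule R V) (hM : Submodule.span K (M : Set V) = ⊤) (x : R) :
    ∃ N₀ : Submodule R V, N₀ ≤ M ∧ N₀.FG ∧ Submodule.span K (N₀ : Set V) = ⊤ ∧
      rl (sm x N₀) N₀ = Module.finrank K V * Module.length R (R ⧸ Ideal.span {x}) := by
  classical
  obtain ⟨b, hbM, hspan, hli⟩ := exists_linearIndependent K (M : Set V)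
  have hbfin : b.Finite := hli.setFinite
  haveI : Fintype b := hbfin.fintype
  have hrange : Set.range (Subtype.val : b → V) = b := Subtype.range_coe
  have hspan' : Submodule.span K (Set.range (Subtype.val : b → V)) = ⊤ := by
    rw [hrange, hspan, hM]
  let bas : Module.Basis b K V := Module.Basis.mk hli hspan'.ge
  have hcard : Fintype.card b = Module.finrank K V := (Module.finrank_eq_card_basis bas).symm
  have hliR : LinearIndependent R (Subtype.val : b → V) := hli.restrict_scalars' R
  let f : (b → R) →ₗ[R] V := Fintype.linearCombination R (Subtype.val : b → V)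
  have hf : Function.Injective f := by
    rw [injective_iff_map_eq_zero]
    intro c hc
    funext i
    exact Fintype.linearIndependent_iff.mp hliR c
      (by rwa [Fintype.linearCombination_apply] at hc) i
  have hrf : LinearMap.range f = Submodule.span R (Set.range (Subtype.val : b → V)) :=
    Fintype.range_linearCombination R _
  refine ⟨LinearMap.range f, ?_, ?_, ?_, ?_⟩
  · rw [hrf, hrange]
    exact Submodule.span_le.mpr hbM
  · rw [hrf]
    exact Submodule.fg_span (Set.finite_range _)
  · rw [hrf, Submodule.span_span_of_tower, hspan']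
  · rw [rl_sm_range f hf x, hcard]

include K in
/-- the length formula for finitely generated lattices -/
theorem rl_sm_of_fg (M : Submodule R V) (hM : Submodule.span K (M : Set V) = ⊤) (hfg : M.FG)
    {x : R} (hx : x ≠ 0) :
    rl (sm x M) M = Module.finrank K V * Module.length R (R ⧸ Ideal.span {x}) := by
  obtain ⟨N₀, hle, hfg0, hspan0, hrl⟩ := exists_free_sub (K := K) M hM x
  rw [← hrl]
  exact rl_sm_self_eq x (lsmul_injective (K := K) hx) hle
    (rl_ne_top_of_fg (K := K) hspan0 M hfg)

variable [IsLocalRing R]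

include K in
/-- the converse: if the length of `M/xM` is the maximal possible one, `M` is finitely
generated -/
theorem fg_of_rl_sm_eq (M : Submodule R V) (hM : Submodule.span K (M : Set V) = ⊤) {x : R}
    (hx : x ≠ 0) (hxm : x ∈ IsLocalRing.maximalIdeal R)
    (h : rl (sm x M) M = Module.finrank K V * Module.length R (R ⧸ Ideal.span {x})) :
    M.FG := by
  classical
  have hinj := lsmul_injective (K := K) (V := V) hx
  have hfinlen : rl (sm x M) M ≠ ⊤ := rl_sm_ne_top (K := K) M hx
  obtain ⟨N₀, hle0, hfg0, hspan0, hrl0⟩ := exists_free_sub (K := K) M hM x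
  have hQfl : IsFiniteLength R (M ⧸ (sm x M).submoduleOf M) := Module.length_ne_top_iff.mp hfinlen
  haveI : IsNoetherian R (M ⧸ (sm x M).submoduleOf M) :=
    (isFiniteLength_iff_isNoetherian_isArtinian.mp hQfl).1
  obtain ⟨s, hs⟩ := (Module.Finite.fg_top : (⊤ : Submodule R (M ⧸ (sm x M).submoduleOf M)).FG)
  let lift : (M ⧸ (sm x M).submoduleOf M) → M :=
    Function.surjInv (Submodule.Quotient.mk_surjective _)
  have hlift : ∀ q, Submodule.Quotient.mk (lift q) = q :=
    Function.surjInv_eq (Submodule.Quotient.mk_surjective _)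
  let P' : Submodule R V := Submodule.span R ((fun q => ((lift q : M) : V)) '' (s : Set _))
  have hP'fg : P'.FG := Submodule.fg_span ((s.finite_toSet).image _)
  have hP'M : P' ≤ M := by
    apply Submodule.span_le.mpr
    rintro _ ⟨q, _, rfl⟩
    exact (lift q).2
  let N : Submodule R V := N₀ ⊔ P'
  have hNfg : N.FG := hfg0.sup hP'fg
  have hNM : N ≤ M := sup_le hle0 hP'M
  have hNspan : Submodule.span K (N : Set V) = ⊤ := by
    rw [eq_top_iff, ← hspan0]
    exact Submodule.span_mono (le_sup_left : N₀ ≤ N)
  -- `N + xM = M`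
  have hsup : N ⊔ sm x M = M := by
    apply le_antisymm (sup_le hNM (sm_le x M))
    intro m hm
    let W : Submodule R M := (N ⊔ sm x M).submoduleOf M
    have hW : W.map ((sm x M).submoduleOf M).mkQ = ⊤ := by
      rw [eq_top_iff, ← hs, Submodule.span_le]
      intro q hq
      refine ⟨lift q, ?_, hlift q⟩
      show ((lift q : M) : V) ∈ N ⊔ sm x M
      exact (le_sup_left : N ≤ _) ((le_sup_right : P' ≤ N) (Submodule.subset_span ⟨q, hq, rfl⟩))
    have hW2 : (sm x M).submoduleOf M ⊔ W = ⊤ := (Submodule.map_mkQ_eq_top _ _).mp hW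
    have hW3 : (sm x M).submoduleOf M ≤ W := fun y hy =>
      (le_sup_right : sm x M ≤ N ⊔ sm x M) hy
    rw [sup_eq_right.mpr hW3] at hW2
    have hmem : (⟨m, hm⟩ : M) ∈ W := hW2 ▸ Submodule.mem_top
    exact hmem
  have hrlN : rl (sm x N) N = Module.finrank K V * Module.length R (R ⧸ Ideal.span {x}) :=
    rl_sm_of_fg (K := K) N hNspan hNfg hx
  have hgen : ∀ M' : Submodule R V, M' = M → rl (sm x M) M' = rl (sm x M) M := by
    intro M' h'
    rw [h']
  have hiso : rl (N ⊓ sm x M) N = rl (sm x M) M := by
    rw [← hgen (N ⊔ sm x M) hsup]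
    unfold rl
    have h1 : (N ⊓ sm x M).submoduleOf N =
        Submodule.comap N.subtype N ⊓ Submodule.comap N.subtype (sm x M) := by
      ext y
      simp [Submodule.submoduleOf]
    exact ((Submodule.quotEquivOfEq _ _ h1).trans
      (LinearMap.quotientInfEquivSupQuotient N (sm x M))).length_eq
  have hadd := rl_add (A := sm x N) (B := N ⊓ sm x M) (C := N)
    (le_inf (sm_le x N) (sm_mono x hNM)) inf_le_left
  rw [hrlN, hiso, h] at hadd
  have hne : (Module.finrank K V : ℕ∞) * Module.length R (R ⧸ Ideal.span {x}) ≠ ⊤ := h ▸ hfinlen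
  have hzero : rl (sm x N) (N ⊓ sm x M) = 0 := by
    generalize rl (sm x N) (N ⊓ sm x M) = b at hadd
    generalize (Module.finrank K V : ℕ∞) * Module.length R (R ⧸ Ideal.span {x}) = a at hadd hne
    lift a to ℕ using hne
    cases b with
    | top => simp at hadd
    | coe b =>
      have h2 : a = b + a := by exact_mod_cast hadd
      have h3 : b = 0 := by omega
      simp [h3]
  have hinf : N ⊓ sm x M ≤ sm x N := by
    unfold rl at hzero
    rw [Module.length_eq_zero_iff, Submodule.Quotient.subsingleton_iff] at hzero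
    intro v hv
    have hmem : (⟨v, hv⟩ : ↥(N ⊓ sm x M)) ∈ (sm x N).submoduleOf (N ⊓ sm x M) :=
      hzero ▸ Submodule.mem_top
    exact hmem
  have hdesc : ∀ n : ℕ, ∀ m ∈ M, x ^ n • m ∈ N → m ∈ N := by
    intro n
    induction n with
    | zero =>
      intro m _ h0
      simpa using h0
    | succ n ih =>
      intro m hm h1
      apply ih m hm
      have h2 : x • (x ^ n • m) ∈ N ⊓ sm x M := by
        refine ⟨?_, mem_sm.mpr ⟨x ^ n • m, M.smul_mem _ hm, rfl⟩⟩
        rw [smul_smul, ← pow_succ']
        exact h1
      obtain ⟨n', hn', hn'eq⟩ := mem_sm.mp (hinf h2)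
      have h3 : n' = x ^ n • m := @hinj n' (x ^ n • m) hn'eq
      rw [← h3]
      exact hn'
  have hMN : M ≤ N := by
    intro m hm
    obtain ⟨d, hd, hdm⟩ := exists_smul_mem_of_span_eq_top (K := K) hNspan m
    have hfl : IsFiniteLength R (R ⧸ Ideal.span {d}) :=
      isFiniteLength_quotient_span_singleton R (mem_nonZeroDivisors_of_ne_zero hd)
    obtain ⟨hNoe, hArt⟩ := isFiniteLength_iff_isNoetherian_isArtinian.mp hfl
    obtain ⟨n, hn⟩ := exists_pow_smul_eq_zero (Q := R ⧸ Ideal.span {d}) hxm
    have hmem : x ^ n ∈ Ideal.span {d} := by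
      have h1 := hn 1
      rw [Algebra.smul_def, mul_one, Ideal.Quotient.algebraMap_eq,
        Ideal.Quotient.eq_zero_iff_mem] at h1
      exact h1
    obtain ⟨c, hc⟩ := Ideal.mem_span_singleton'.mp hmem
    apply hdesc n m hm
    rw [← hc, mul_smul]
    exact N.smul_mem c hdm
  exact (le_antisymm hMN hNM) ▸ hNfg

end Lat

end Groth.Agent.H9.Ka
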