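import Mathlib
import Groth.Agent.Lib.Helper3.CA.KrullAkizuki2
import Groth.Agent.Lib.Helper1.SemiLocLen
import Groth.Agent.Lib.Helper9.Misc.KaLatA

/-!
# Degree inequality for finite type extensions of one-dimensional local domains (helper9)
-/

set_option autoImplicit false
set_option linter.unusedSectionVars false
set_option linter.unusedVariables false
set_option linter.style.haveILetI false

universe u v

namespace Groth.Agent.H9.Ka

open Groth.Agent.H3.KA Groth.Agent.H1.SemiLocLen

section LocQuot
variable {A : Type u} [CommRing A] (m : Ideal A) [m.IsPrime]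

theorem L_quotient_eq' {M : Type v} {N : Type v} [AddCommGroup M] [Module A M] [AddCommGroup N]
    [Module A N] [Module (Localization.AtPrime m) N] [IsScalarTower A (Localization.AtPrime m) N]
    (f : M →ₗ[A] N) [IsLocalizedModule m.primeCompl f] (M' : Submodule A M) :
    L m (M ⧸ M') = Module.length (Localization.AtPrime m)
      (N ⧸ M'.localized' (Localization.AtPrime m) m.primeCompl f) := by
  unfold L
  exact (IsLocalizedModule.mapEquiv m.primeCompl (LocalizedModule.mkLinearMap m.primeCompl (M ⧸ M'))
    (M'.toLocalizedQuotient' (Localization.AtPrime m) m.primeCompl f) (Localization.AtPrime m)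
    (LinearEquiv.refl A _)).length_eq

theorem L_quot_span' (d : A) :
    L m (A ⧸ Ideal.span {d}) =
      Module.length (Localization.AtPrime m)
        (Localization.AtPrime m ⧸ Ideal.span {algebraMap A (Localization.AtPrime m) d}) := by
  rw [L_quotient_eq' m (Algebra.linearMap A (Localization.AtPrime m)) (Ideal.span {d})]
  have : (Ideal.span {d} : Submodule A A).localized' (Localization.AtPrime m) m.primeCompl
      (Algebra.linearMap A (Localization.AtPrime m)) =
      Ideal.span {algebraMap A (Localization.AtPrime m) d} := by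
    change (Submodule.span A {d}).localized' (Localization.AtPrime m) m.primeCompl
      (Algebra.linearMap A (Localization.AtPrime m)) = _
    rw [Submodule.localized'_span, Set.image_singleton]
    rfl
  exact (Submodule.quotEquivOfEq _ _ this).length_eq

end LocQuot

section Ring

variable {A B K L : Type*} [CommRing A] [IsDomain A] [CommRing B] [IsDomain B] [Algebra A B]
  [Field K] [Field L] [Algebra A K] [IsFractionRing A K] [Algebra B L] [IsFractionRing B L]
  [Algebra K L] [Algebra A L] [IsScalarTower A K L] [IsScalarTower A B L] [FiniteDimensional K L]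

variable (A B L) in
/-- the image of `B` in `L` as an `A`-submodule -/
noncomputable def MB : Submodule A L := LinearMap.range (IsScalarTower.toAlgHom A B L).toLinearMap

variable (A B L) in
/-- `B ≃ MB` -/
noncomputable def eMB : B ≃ₗ[A] MB A B L :=
  LinearEquiv.ofInjective (IsScalarTower.toAlgHom A B L).toLinearMap (IsFractionRing.injective B L)

theorem eMB_apply (b : B) : ((eMB A B L b : MB A B L) : L) = algebraMap B L b := rfl

theorem mem_MB {l : L} : l ∈ MB A B L ↔ ∃ b : B, algebraMap B L b = l := Iff.rfl

include K L in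
theorem exists_dvd (s : B) (hs : s ≠ 0) : ∃ a : A, a ≠ 0 ∧ s ∣ algebraMap A B a := by
  haveI : Algebra.IsAlgebraic K L := Algebra.IsAlgebraic.of_finite K L
  have h1 : IsAlgebraic K (algebraMap B L s) := Algebra.IsAlgebraic.isAlgebraic _
  have h2 : IsAlgebraic A (algebraMap B L s) := (IsFractionRing.isAlgebraic_iff A K L).mpr h1
  have h3 : IsAlgebraic A s := (isAlgebraic_algebraMap_iff (IsFractionRing.injective B L)).mp h2
  exact h3.exists_nonzero_dvd (mem_nonZeroDivisors_of_ne_zero hs)

include K in
theorem span_MB : Submodule.span K (MB A B L : Set L) = ⊤ := by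
  apply span_eq_top_of_forall_exists_smul_mem (K := K)
  intro l
  obtain ⟨b, s, rfl⟩ := IsLocalization.exists_mk'_eq (nonZeroDivisors B) l
  obtain ⟨a, ha, c, hc⟩ := exists_dvd (A := A) (K := K) (L := L) (s : B)
    (nonZeroDivisors.ne_zero s.2)
  refine ⟨a, ha, mem_MB.mpr ⟨c * b, ?_⟩⟩
  rw [Algebra.smul_def, IsScalarTower.algebraMap_apply A B L, hc, map_mul, map_mul, mul_comm
    (algebraMap B L s), mul_assoc, IsLocalization.mk'_spec']

theorem length_quot_eq (x : A) :
    Module.length A (B ⧸ Ideal.span {algebraMap A B x}) = rl (sm x (MB A B L)) (MB A B L) := by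
  unfold rl
  have h : ((Ideal.span {algebraMap A B x} : Ideal B).restrictScalars A).map
      (eMB A B L : B →ₗ[A] MB A B L) = (sm x (MB A B L)).submoduleOf (MB A B L) := by
    ext y
    constructor
    · rintro ⟨b, hb, rfl⟩
      show ((eMB A B L b : MB A B L) : L) ∈ sm x (MB A B L)
      rw [eMB_apply]
      obtain ⟨c, rfl⟩ := Ideal.mem_span_singleton'.mp hb
      refine mem_sm.mpr ⟨algebraMap B L c, mem_MB.mpr ⟨c, rfl⟩, ?_⟩
      rw [Algebra.smul_def, IsScalarTower.algebraMap_apply A B L, ← map_mul, mul_comm]
    · intro hy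
      have hy' : (y : L) ∈ sm x (MB A B L) := hy
      obtain ⟨n, hn, hny⟩ := mem_sm.mp hy'
      obtain ⟨c, rfl⟩ := mem_MB.mp hn
      refine ⟨algebraMap A B x * c, ?_, ?_⟩
      · exact Ideal.mul_mem_right _ _ (Ideal.subset_span rfl)
      · apply Subtype.ext
        show ((eMB A B L (algebraMap A B x * c) : MB A B L) : L) = y
        rw [eMB_apply, ← hny, Algebra.smul_def, IsScalarTower.algebraMap_apply A B L, map_mul]
  exact ((Submodule.Quotient.restrictScalarsEquiv A (Ideal.span {algebraMap A B x})).symm.trans
    (Submodule.Quotient.equiv _ _ (eMB A B L) h)).length_eq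

theorem finite_iff_fg : Module.Finite A B ↔ (MB A B L).FG := by
  constructor
  · intro h
    exact Module.Finite.iff_fg.mp (Module.Finite.equiv (eMB A B L))
  · intro h
    haveI : Module.Finite A (MB A B L) := Module.Finite.iff_fg.mpr h
    exact Module.Finite.equiv (eMB A B L).symm

include K L in
/-- a prime of `B` missing `x` is zero -/
theorem eq_bot_of_not_mem [IsLocalRing A] [Ring.KrullDimLE 1 A] {x : A}
    (hx : x ∈ IsLocalRing.maximalIdeal A) (m : Ideal B) [m.IsPrime]
    (hm : algebraMap A B x ∉ m) : m = ⊥ := by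
  have hcomap : m.comap (algebraMap A B) = ⊥ := by
    by_contra hne
    have hmax : (m.comap (algebraMap A B)).IsMaximal := Ideal.isMaximal_of_isPrime_of_ne_bot _ hne
    have := IsLocalRing.eq_maximalIdeal hmax
    apply hm
    have hx' : x ∈ m.comap (algebraMap A B) := this ▸ hx
    exact hx'
  rw [eq_bot_iff]
  intro s hs
  rw [Ideal.mem_bot]
  by_contra hs0
  obtain ⟨a, ha, hdvd⟩ := exists_dvd (A := A) (K := K) (L := L) s hs0
  have ham : a ∈ m.comap (algebraMap A B) := Ideal.mem_comap.mpr (Ideal.mem_of_dvd m hdvd hs)
  rw [hcomap, Ideal.mem_bot] at ham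
  exact ha ham

end Ring

end Groth.Agent.H9.Ka
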