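import Mathlib
import Groth.Agent.Lib.Helper9.Misc.KaLatB

/-!
# Degree inequality for finite type extensions of one-dimensional local domains: main (helper9)
-/

set_option autoImplicit false
set_option linter.unusedSectionVars false
set_option linter.unusedVariables false
set_option linter.style.haveILetI false

universe u

namespace Groth.Agent.H9.Ka

open Groth.Agent.H3.KA Groth.Agent.H1.SemiLocLen

theorem main (A B K L : Type u)
    [CommRing A] [IsDomain A] [IsNoetherianRing A] [IsLocalRing A] (hdim : ringKrullDim A = 1)
    [CommRing B] [IsDomain B] [Algebra A B] [FaithfulSMul A B]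
    [Field K] [Field L] [Algebra A K] [IsFractionRing A K] [Algebra B L] [IsFractionRing B L]
    [Algebra K L] [Algebra A L] [IsScalarTower A K L] [IsScalarTower A B L] [FiniteDimensional K L]
    (x : A) (hx : x ∈ IsLocalRing.maximalIdeal A) (hx0 : x ≠ 0) :
    Finite (MaximalSpectrum B) ∧
      (∑ᶠ m : MaximalSpectrum B,
          Module.length A (B ⧸ m.asIdeal) *
            Module.length (Localization.AtPrime m.asIdeal)
              (Localization.AtPrime m.asIdeal ⧸
                Ideal.span ({algebraMap A (Localization.AtPrime m.asIdeal) x} : Set _)) ≤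
        (Module.finrank K L : ℕ∞) * Module.length A (A ⧸ Ideal.span ({x} : Set A))) ∧
      ((∑ᶠ m : MaximalSpectrum B,
          Module.length A (B ⧸ m.asIdeal) *
            Module.length (Localization.AtPrime m.asIdeal)
              (Localization.AtPrime m.asIdeal ⧸
                Ideal.span ({algebraMap A (Localization.AtPrime m.asIdeal) x} : Set _)) =
        (Module.finrank K L : ℕ∞) * Module.length A (A ⧸ Ideal.span ({x} : Set A))) ↔
          Module.Finite A B) := by
  classical
  haveI : Ring.KrullDimLE 1 A := (Order.krullDimLE_iff _ _).mpr hdim.le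
  have hinjL : Function.Injective (algebraMap B L) := IsFractionRing.injective B L
  have hinjAB : Function.Injective (algebraMap A B) := FaithfulSMul.algebraMap_injective A B
  have hℓ0 : Module.length A (A ⧸ Ideal.span ({x} : Set A)) ≠ 0 := by
    rw [Ne, Module.length_eq_zero_iff, Ideal.Quotient.subsingleton_iff]
    intro htop
    have h1 : (Ideal.span ({x} : Set A)) ≤ IsLocalRing.maximalIdeal A :=
      (Ideal.span_singleton_le_iff_mem _).mpr hx
    rw [htop] at h1
    exact (IsLocalRing.maximalIdeal.isMaximal A).ne_top (top_le_iff.mp h1)
  have hr0 : Module.finrank K L ≠ 0 := (Module.finrank_pos (R := K) (M := L)).ne'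
  by_cases hall : ∀ n : MaximalSpectrum B, algebraMap A B x ∈ n.asIdeal
  · -- all maximal ideals lie over the maximal ideal of `A`
    have hover : ∀ n : MaximalSpectrum B,
        n.asIdeal.comap (algebraMap A B) = IsLocalRing.maximalIdeal A := by
      intro n
      haveI := n.isMaximal.isPrime
      have hne : n.asIdeal.comap (algebraMap A B) ≠ ⊥ := by
        intro hbot
        have hmem : x ∈ n.asIdeal.comap (algebraMap A B) := hall n
        rw [hbot] at hmem
        exact hx0 hmem
      exact IsLocalRing.eq_maximalIdeal (Ideal.isMaximal_of_isPrime_of_ne_bot _ hne)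
    obtain ⟨hmax, hfinset, hfinres⟩ := Groth.Agent.H3.KA.main (K := K) (L := L) (S := B) hinjL hx0
      (IsLocalRing.maximalIdeal A) hx
    have hmem : ∀ n : MaximalSpectrum B,
        n.asIdeal ∈ (IsLocalRing.maximalIdeal A).primesOver B := fun n =>
      ⟨n.isMaximal.isPrime, ⟨(hover n).symm⟩⟩
    haveI hFin : Finite (MaximalSpectrum B) := by
      haveI := hfinset.to_subtype
      exact Finite.of_injective
        (fun n : MaximalSpectrum B =>
          (⟨n.asIdeal, hmem n⟩ : ((IsLocalRing.maximalIdeal A).primesOver B)))
        (fun n n' h => MaximalSpectrum.ext (congrArg Subtype.val h))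
    have hfin : ∀ n : MaximalSpectrum B,
        Module.Finite (A ⧸ n.asIdeal.comap (algebraMap A B)) (B ⧸ n.asIdeal) := by
      intro n
      haveI := hfinres n.asIdeal (hmem n)
      exact Module.Finite.of_restrictScalars_finite A _ _
    have hlen : Module.length A (B ⧸ Ideal.span {algebraMap A B x}) ≠ ⊤ :=
      length_quotient_ne_top (K := K) (L := L) hinjL hx0
    have hMfl : IsFiniteLength B (B ⧸ Ideal.span {algebraMap A B x}) := by
      rw [Module.length_ne_top_iff, isFiniteLength_iff_isNoetherian_isArtinian] at hlen
      rw [isFiniteLength_iff_isNoetherian_isArtinian]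
      exact ⟨isNoetherian_of_tower A hlen.1, isArtinian_of_tower A hlen.2⟩
    have hsum : (∑ᶠ m : MaximalSpectrum B,
          Module.length A (B ⧸ m.asIdeal) *
            Module.length (Localization.AtPrime m.asIdeal)
              (Localization.AtPrime m.asIdeal ⧸
                Ideal.span ({algebraMap A (Localization.AtPrime m.asIdeal) x} : Set _))) =
        rl (sm x (MB A B L)) (MB A B L) := by
      rw [← length_quot_eq (A := A) (B := B) (L := L) x, length_eq_finsum hover hfin hMfl]
      apply finsum_congr
      intro n
      rw [length_quot hover hfin n, L_quot_span' n.asIdeal (algebraMap A B x),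
        ← IsScalarTower.algebraMap_apply A B (Localization.AtPrime n.asIdeal)]
    rw [hsum]
    refine ⟨hFin, rl_sm_le_finrank_mul (K := K) (MB A B L) hx0, ?_⟩
    rw [finite_iff_fg (A := A) (B := B) (L := L)]
    constructor
    · intro h
      exact fg_of_rl_sm_eq (K := K) (MB A B L) (span_MB (A := A) (B := B) (K := K) (L := L)) hx0 hx h
    · intro h
      exact rl_sm_of_fg (K := K) (MB A B L) (span_MB (A := A) (B := B) (K := K) (L := L)) h hx0
  · -- `B` is a field
    push Not at hall
    obtain ⟨n, hn⟩ := hall
    haveI := n.isMaximal.isPrime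
    have hnbot : n.asIdeal = ⊥ := eq_bot_of_not_mem (K := K) (L := L) hx n.asIdeal hn
    have hbotmax : (⊥ : Ideal B).IsMaximal := hnbot ▸ n.isMaximal
    have hallbot : ∀ n' : MaximalSpectrum B, n'.asIdeal = ⊥ := fun n' =>
      (hbotmax.eq_of_le n'.isMaximal.ne_top bot_le).symm
    haveI : Subsingleton (MaximalSpectrum B) :=
      ⟨fun a b => MaximalSpectrum.ext ((hallbot a).trans (hallbot b).symm)⟩
    have hx'0 : algebraMap A B x ≠ 0 := fun h => hx0 (hinjAB (h.trans (map_zero _).symm))
    have hterm : ∀ m : MaximalSpectrum B,
        Module.length A (B ⧸ m.asIdeal) *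
            Module.length (Localization.AtPrime m.asIdeal)
              (Localization.AtPrime m.asIdeal ⧸
                Ideal.span ({algebraMap A (Localization.AtPrime m.asIdeal) x} : Set _)) = 0 := by
      intro m
      have hnot : algebraMap A B x ∉ m.asIdeal := by
        rw [hallbot m, Ideal.mem_bot]
        exact hx'0
      have hunit : IsUnit (algebraMap A (Localization.AtPrime m.asIdeal) x) := by
        rw [IsScalarTower.algebraMap_apply A B (Localization.AtPrime m.asIdeal)]
        exact IsLocalization.map_units (Localization.AtPrime m.asIdeal)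
          (⟨algebraMap A B x, hnot⟩ : m.asIdeal.primeCompl)
      have hz : Module.length (Localization.AtPrime m.asIdeal)
              (Localization.AtPrime m.asIdeal ⧸
                Ideal.span ({algebraMap A (Localization.AtPrime m.asIdeal) x} : Set _)) = 0 := by
        rw [Module.length_eq_zero_iff, Ideal.Quotient.subsingleton_iff,
          Ideal.span_singleton_eq_top]
        exact hunit
      rw [hz, mul_zero]
    have hsum0 : (∑ᶠ m : MaximalSpectrum B,
          Module.length A (B ⧸ m.asIdeal) *
            Module.length (Localization.AtPrime m.asIdeal)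
              (Localization.AtPrime m.asIdeal ⧸
                Ideal.span ({algebraMap A (Localization.AtPrime m.asIdeal) x} : Set _))) = 0 :=
      finsum_eq_zero_of_forall_eq_zero hterm
    rw [hsum0]
    refine ⟨inferInstance, zero_le, ?_⟩
    constructor
    · intro h
      exact absurd h.symm (mul_ne_zero (Nat.cast_ne_zero.mpr hr0) hℓ0)
    · intro hfinite
      exfalso
      haveI : Algebra.IsIntegral A B := Algebra.IsIntegral.of_finite A B
      have hBf : IsField B := Ring.isField_iff_maximal_bot.mpr hbotmax
      have hAf : IsField A := isField_of_isIntegral_of_isField hinjAB hBf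
      have hmb : IsLocalRing.maximalIdeal A = ⊥ := IsLocalRing.isField_iff_maximalIdeal_eq.mp hAf
      rw [hmb, Ideal.mem_bot] at hx
      exact hx0 hx

end Groth.Agent.H9.Ka
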