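import Mathlib

/-! Helper9: simplicial identities on elements of a simplicial group (for S6779). -/

namespace Groth.Agent.H9.Kan

open CategoryTheory Simplicial Opposite

universe u

variable (X : SimplicialObject GrpCat.{u})

theorem d_s_self {n : ℕ} (t : Fin (n+1)) (y : X _⦋n⦌) :
    (X.δ t.castSucc).hom ((X.σ t).hom y) = y := by
  have := congrArg (fun f => f.hom y) (X.δ_comp_σ_self (i := t))
  simpa using this

theorem d_s_succ {n : ℕ} (t : Fin (n+1)) (y : X _⦋n⦌) :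
    (X.δ t.succ).hom ((X.σ t).hom y) = y := by
  have := congrArg (fun f => f.hom y) (X.δ_comp_σ_succ (i := t))
  simpa using this

theorem d_s_le {n : ℕ} {i : Fin (n + 2)} {j : Fin (n + 1)} (H : i ≤ Fin.castSucc j)
    (y : X _⦋n+1⦌) :
    (X.δ (Fin.castSucc i)).hom ((X.σ j.succ).hom y) = (X.σ j).hom ((X.δ i).hom y) := by
  have := congrArg (fun f => f.hom y) (X.δ_comp_σ_of_le H)
  simpa using this

theorem d_s_gt {n : ℕ} {i : Fin (n + 2)} {j : Fin (n + 1)} (H : Fin.castSucc j < i)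
    (y : X _⦋n+1⦌) :
    (X.δ i.succ).hom ((X.σ (Fin.castSucc j)).hom y) = (X.σ j).hom ((X.δ i).hom y) := by
  have := congrArg (fun f => f.hom y) (X.δ_comp_σ_of_gt H)
  simpa using this

theorem d_d {n : ℕ} {i j : Fin (n + 2)} (H : i ≤ j) (w : X _⦋n+2⦌) :
    (X.δ i).hom ((X.δ j.succ).hom w) = (X.δ j).hom ((X.δ (Fin.castSucc i)).hom w) := by
  have := congrArg (fun f => f.hom w) (X.δ_comp_δ H)
  simpa using this

/-- One step: multiply by a degenerate correction. -/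
theorem step {n : ℕ} (w : X _⦋n+1⦌) (j : Fin (n+2)) (t : Fin (n+1)) (xj : X _⦋n⦌)
    (hjt : ∀ y, (X.δ j).hom ((X.σ t).hom y) = y) :
    (X.δ j).hom (w * (X.σ t).hom (((X.δ j).hom w)⁻¹ * xj)) = xj := by
  rw [map_mul, hjt, mul_inv_cancel_left]

theorem step_other {n : ℕ} (w : X _⦋n+1⦌) (l : Fin (n+2)) (t : Fin (n+1)) (y : X _⦋n⦌)
    (h1 : (X.δ l).hom ((X.σ t).hom y) = 1) :
    (X.δ l).hom (w * (X.σ t).hom y) = (X.δ l).hom w := by
  rw [map_mul, h1, mul_one]

end Groth.Agent.H9.Kan
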