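import Mathlib
import Groth.Agent.Lib.Helper9.Misc.Kan1

/-! Helper9: Moore horn filling in a simplicial group (for S6779). -/

namespace Groth.Agent.H9.Kan

open CategoryTheory Simplicial Opposite

universe u

variable (X : SimplicialObject GrpCat.{u})

theorem kill_low {m : ℕ} (t₀ : Fin (m+1)) (l₀ j' : Fin (m+2)) (H : l₀ ≤ t₀.castSucc)
    (H' : l₀ ≤ j') (w : X _⦋m+2⦌) (xl xj : X _⦋m+1⦌)
    (hw : (X.δ l₀.castSucc).hom w = xl) (hc : (X.δ j').hom xl = (X.δ l₀).hom xj) :
    (X.δ l₀.castSucc).hom ((X.σ t₀.succ).hom (((X.δ j'.succ).hom w)⁻¹ * xj)) = 1 := by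
  rw [d_s_le X H, map_mul, map_inv, d_d X H', hw, hc, inv_mul_cancel, map_one]

theorem kill_high {m : ℕ} (t₁ : Fin (m+1)) (l₁ i' : Fin (m+2)) (H : t₁.castSucc < l₁)
    (H' : i' ≤ l₁) (w : X _⦋m+2⦌) (xl xj : X _⦋m+1⦌)
    (hw : (X.δ l₁.succ).hom w = xl) (hc : (X.δ l₁).hom xj = (X.δ i').hom xl) :
    (X.δ l₁.succ).hom ((X.σ t₁.castSucc).hom (((X.δ i'.castSucc).hom w)⁻¹ * xj)) = 1 := by
  rw [d_s_gt X H, map_mul, map_inv, ← d_d X H', hw, hc, inv_mul_cancel, map_one]

variable {m : ℕ} (i : Fin (m+3)) (x : Fin (m+3) → X _⦋m+1⦌)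

theorem phase1
    (hx : ∀ a b : Fin (m+2), a ≤ b → a.castSucc ≠ i → b.succ ≠ i →
      (X.δ b).hom (x a.castSucc) = (X.δ a).hom (x b.succ))
    (a : ℕ) (ha : a ≤ i.val) :
    ∃ w : X _⦋m+2⦌, ∀ l : Fin (m+3), l.val < a → (X.δ l).hom w = x l := by
  induction a with
  | zero => exact ⟨1, fun l hl => absurd hl (Nat.not_lt_zero _)⟩
  | succ a ih =>
    obtain ⟨w, hw⟩ := ih (by omega)
    have hi := i.2
    let t : Fin (m+2) := ⟨a, by omega⟩
    have hti : t.castSucc ≠ i := by
      intro h; have := congrArg Fin.val h; simp [t] at this; omega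
    refine ⟨w * (X.σ t).hom (((X.δ t.castSucc).hom w)⁻¹ * x t.castSucc), ?_⟩
    intro l hl
    by_cases hla : l.val = a
    · have : l = t.castSucc := Fin.ext (by simp [t, hla])
      rw [this]
      exact step X w _ t _ (d_s_self X t)
    · have hla' : l.val < a := by omega
      rw [step_other, hw l hla']
      -- kill
      let t₀ : Fin (m+1) := ⟨a - 1, by omega⟩
      let l₀ : Fin (m+2) := ⟨l.val, by omega⟩
      have ht : t = t₀.succ := Fin.ext (by simp [t, t₀]; omega)
      have hl0 : l = l₀.castSucc := Fin.ext (by simp [l₀])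
      have hj : t.castSucc = t₀.castSucc.succ := by rw [ht, Fin.succ_castSucc]
      have hli : l₀.castSucc ≠ i := by
        intro h; have := congrArg Fin.val h; simp [l₀] at this; omega
      have H : l₀ ≤ t₀.castSucc := by
        rw [Fin.le_def]; simp [l₀, t₀]; omega
      rw [hj, ht, hl0]
      apply kill_low X t₀ l₀ t₀.castSucc H H w (x l₀.castSucc) _ (by rw [← hl0]; exact hw l hla')
      exact hx l₀ t₀.castSucc H hli (by rw [← hj]; exact hti)

theorem phase2
    (hx : ∀ a b : Fin (m+2), a ≤ b → a.castSucc ≠ i → b.succ ≠ i →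
      (X.δ b).hom (x a.castSucc) = (X.δ a).hom (x b.succ))
    (c : ℕ) (hc : c ≤ m + 2 - i.val) :
    ∃ w : X _⦋m+2⦌, (∀ l : Fin (m+3), l.val < i.val → (X.δ l).hom w = x l) ∧
      (∀ l : Fin (m+3), m + 2 - c < l.val → (X.δ l).hom w = x l) := by
  induction c with
  | zero =>
    obtain ⟨w, hw⟩ := phase1 X i x hx i.val le_rfl
    exact ⟨w, hw, fun l hl => by have := l.2; omega⟩
  | succ c ih =>
    obtain ⟨w, hw1, hw2⟩ := ih (by omega)
    have hi := i.2
    -- new index j with j.val = m + 2 - c = t.val + 1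
    let t : Fin (m+2) := ⟨m + 1 - c, by omega⟩
    have hti : t.succ ≠ i := by
      intro h; have := congrArg Fin.val h; simp [t] at this; omega
    refine ⟨w * (X.σ t).hom (((X.δ t.succ).hom w)⁻¹ * x t.succ), ?_, ?_⟩
    · intro l hl
      rw [step_other, hw1 l hl]
      let t₀ : Fin (m+1) := ⟨m - c, by omega⟩
      let l₀ : Fin (m+2) := ⟨l.val, by omega⟩
      have ht : t = t₀.succ := Fin.ext (by simp [t, t₀]; omega)
      have hl0 : l = l₀.castSucc := Fin.ext (by simp [l₀])
      have hli : l₀.castSucc ≠ i := by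
        intro h; have := congrArg Fin.val h; simp [l₀] at this; omega
      have H : l₀ ≤ t₀.castSucc := by
        rw [Fin.le_def]; simp [l₀, t₀]; omega
      have H' : l₀ ≤ t₀.succ := by
        rw [Fin.le_def]; simp [l₀, t₀]; omega
      rw [ht, hl0]
      apply kill_low X t₀ l₀ t₀.succ H H' w (x l₀.castSucc) _ (by rw [← hl0]; exact hw1 l hl)
      exact hx l₀ t₀.succ H' hli (by rw [← ht]; exact hti)
    · intro l hl
      by_cases hla : l.val = m + 2 - c
      · have : l = t.succ := Fin.ext (by simp [t, hla]; omega)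
        rw [this]
        exact step X w _ t _ (d_s_succ X t)
      · have hla' : m + 2 - c < l.val := by omega
        have hl2 := l.2
        rw [step_other, hw2 l hla']
        let t₁ : Fin (m+1) := ⟨m + 1 - c, by omega⟩
        let l₁ : Fin (m+2) := ⟨l.val - 1, by omega⟩
        let i' : Fin (m+2) := ⟨m + 2 - c, by omega⟩
        have ht : t = t₁.castSucc := Fin.ext (by simp [t, t₁])
        have hl1 : l = l₁.succ := Fin.ext (by simp [l₁]; omega)
        have hj : t.succ = i'.castSucc := Fin.ext (by simp [t, i']; omega)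
        have hli : l₁.succ ≠ i := by
          intro h; have := congrArg Fin.val h; simp [l₁] at this; omega
        have H : t₁.castSucc < l₁ := by
          rw [Fin.lt_def]; simp [l₁, t₁]; omega
        have H' : i' ≤ l₁ := by
          rw [Fin.le_def]; simp [l₁, i']; omega
        rw [hj, ht, hl1]
        apply kill_high X t₁ l₁ i' H H' w (x l₁.succ) _ (by rw [← hl1]; exact hw2 l hla')
        exact hx i' l₁ H' (by rw [← hj]; exact hti) hli

theorem filler_succ
    (hx : ∀ a b : Fin (m+2), a ≤ b → a.castSucc ≠ i → b.succ ≠ i →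
      (X.δ b).hom (x a.castSucc) = (X.δ a).hom (x b.succ)) :
    ∃ w : X _⦋m+2⦌, ∀ l : Fin (m+3), l ≠ i → (X.δ l).hom w = x l := by
  obtain ⟨w, hw1, hw2⟩ := phase2 X i x hx (m + 2 - i.val) le_rfl
  refine ⟨w, fun l hl => ?_⟩
  have hi := i.2
  have hne : l.val ≠ i.val := fun h => hl (Fin.ext h)
  rcases Nat.lt_or_gt_of_ne hne with h | h
  · exact hw1 l h
  · exact hw2 l (by omega)

theorem filler_zero (i : Fin 2) (x : Fin 2 → X _⦋0⦌) :
    ∃ w : X _⦋1⦌, ∀ l : Fin 2, l ≠ i → (X.δ l).hom w = x l := by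
  have h0 := d_s_self X (0 : Fin 1)
  have h1 := d_s_succ X (0 : Fin 1)
  fin_cases i
  · refine ⟨(X.σ 0).hom (x 1), fun l hl => ?_⟩
    fin_cases l
    · exact absurd rfl hl
    · exact h1 _
  · refine ⟨(X.σ 0).hom (x 0), fun l hl => ?_⟩
    fin_cases l
    · exact h0 _
    · exact absurd rfl hl

end Groth.Agent.H9.Kan
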