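import Mathlib
import Groth.Agent.Lib.Helper9.Misc.Kan2

/-! Helper9: the underlying simplicial set of a simplicial group is a Kan complex (S6779). -/

namespace Groth.Agent.H9.Kan

open CategoryTheory Simplicial Opposite

universe u

theorem main (X : SimplicialObject GrpCat.{u}) : SSet.KanComplex (X ⋙ forget GrpCat.{u}) := by
  rw [SSet.KanComplex.iff]
  intro n i f hf
  classical
  let x : Fin (n+2) → X _⦋n⦌ := fun j => if hj : j = i then 1 else SSet.yonedaEquiv (f j hj)
  have key : ∃ w : X _⦋n+1⦌, ∀ l, l ≠ i → (X.δ l).hom w = x l := by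
    obtain _ | m := n
    · exact filler_zero X i x
    · apply filler_succ X i x
      intro a b hab ha hb
      simp only [x, dif_neg ha, dif_neg hb]
      have := hf a.castSucc b.succ ha hb (Fin.castSucc_lt_succ_iff.2 hab)
      have h2 := congrArg SSet.yonedaEquiv this
      rw [SSet.stdSimplex.yonedaEquiv_δ_comp, SSet.stdSimplex.yonedaEquiv_δ_comp] at h2
      simp only [Fin.pred_succ, Fin.castPred_castSucc] at h2
      exact h2
  obtain ⟨w, hw⟩ := key
  refine ⟨SSet.yonedaEquiv.symm w, fun j hj => ?_⟩
  rw [SSet.stdSimplex.δ_comp_yonedaEquiv_symm, Equiv.symm_apply_eq]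
  have := hw j hj
  simp only [x, dif_neg hj] at this
  exact this

end Groth.Agent.H9.Kan
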