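import Mathlib

/-! Helper9: simplicial identities on elements of a simplicial abelian group (for S6780). -/

namespace Groth.Agent.H9.KanAb

open CategoryTheory Simplicial Opposite

universe u

variable (X : SimplicialObject AddCommGrpCat.{u})

theorem d_s_self {n : ℕ} (t : Fin (n+1)) (y : X _⦋n⦌) :
    (X.δ t.castSucc).hom ((X.σ t).hom y) = y := by
  have := congrArg (fun f => f.hom y) (X.δ_comp_σ_self (i := t))
  simpa using this

theorem d_s_succ {n : ℕ} (t : Fin (n+1)) (y : X _⦋n⦌) :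
    (X.δ t.succ).hom ((X.σ t).hom y) = y := by
  have := congrArg (fun f => f.hom y) (X.δ_comp_σ_succ (i := t))
  simpa using this

theorem d_s_le {n : ℕ} {i : Fin (n + 2)} {j : Fin (n + 1)} (H : i ≤ Fin.castSucc j)
    (y : X _⦋n+1⦌) :
    (X.δ (Fin.castSucc i)).hom ((X.σ j.succ).hom y) = (X.σ j).hom ((X.δ i).hom y) := by
  have := congrArg (fun f => f.hom y) (X.δ_comp_σ_of_le H)
  simpa using this

theorem d_s_gt {n : ℕ} {i : Fin (n + 2)} {j : Fin (n + 1)} (H : Fin.castSucc j < i)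
    (y : X _⦋n+1⦌) :
    (X.δ i.succ).hom ((X.σ (Fin.castSucc j)).hom y) = (X.σ j).hom ((X.δ i).hom y) := by
  have := congrArg (fun f => f.hom y) (X.δ_comp_σ_of_gt H)
  simpa using this

theorem d_d {n : ℕ} {i j : Fin (n + 2)} (H : i ≤ j) (w : X _⦋n+2⦌) :
    (X.δ i).hom ((X.δ j.succ).hom w) = (X.δ j).hom ((X.δ (Fin.castSucc i)).hom w) := by
  have := congrArg (fun f => f.hom w) (X.δ_comp_δ H)
  simpa using this

theorem step {n : ℕ} (w : X _⦋n+1⦌) (j : Fin (n+2)) (t : Fin (n+1)) (xj : X _⦋n⦌)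
    (hjt : ∀ y, (X.δ j).hom ((X.σ t).hom y) = y) :
    (X.δ j).hom (w + (X.σ t).hom (-((X.δ j).hom w) + xj)) = xj := by
  rw [map_add, hjt, add_neg_cancel_left]

theorem step_other {n : ℕ} (w : X _⦋n+1⦌) (l : Fin (n+2)) (t : Fin (n+1)) (y : X _⦋n⦌)
    (h1 : (X.δ l).hom ((X.σ t).hom y) = 0) :
    (X.δ l).hom (w + (X.σ t).hom y) = (X.δ l).hom w := by
  rw [map_add, h1, add_zero]

theorem kill_low {m : ℕ} (t₀ : Fin (m+1)) (l₀ j' : Fin (m+2)) (H : l₀ ≤ t₀.castSucc)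
    (H' : l₀ ≤ j') (w : X _⦋m+2⦌) (xl xj : X _⦋m+1⦌)
    (hw : (X.δ l₀.castSucc).hom w = xl) (hc : (X.δ j').hom xl = (X.δ l₀).hom xj) :
    (X.δ l₀.castSucc).hom ((X.σ t₀.succ).hom (-((X.δ j'.succ).hom w) + xj)) = 0 := by
  rw [d_s_le X H, map_add, map_neg, d_d X H', hw, hc, neg_add_cancel, map_zero]

theorem kill_high {m : ℕ} (t₁ : Fin (m+1)) (l₁ i' : Fin (m+2)) (H : t₁.castSucc < l₁)
    (H' : i' ≤ l₁) (w : X _⦋m+2⦌) (xl xj : X _⦋m+1⦌)
    (hw : (X.δ l₁.succ).hom w = xl) (hc : (X.δ l₁).hom xj = (X.δ i').hom xl) :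
    (X.δ l₁.succ).hom ((X.σ t₁.castSucc).hom (-((X.δ i'.castSucc).hom w) + xj)) = 0 := by
  rw [d_s_gt X H, map_add, map_neg, ← d_d X H', hw, hc, neg_add_cancel, map_zero]

end Groth.Agent.H9.KanAb
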