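import Mathlib
import Groth.Agent.Lib.Helper9.Misc.KanAb2

/-! Helper9: relative horn filling for a degreewise surjection of simplicial abelian groups (for S6780). -/

namespace Groth.Agent.H9.KanAb

open CategoryTheory Simplicial Opposite

universe u

variable {X Y : SimplicialObject AddCommGrpCat.{u}} (f : X ⟶ Y)

theorem f_δ {n : ℕ} (j : Fin (n+2)) (w : X _⦋n+1⦌) :
    (f.app (op ⦋n⦌)).hom ((X.δ j).hom w) = (Y.δ j).hom ((f.app (op ⦋n+1⦌)).hom w) := by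
  have := congrArg (fun φ => φ.hom w) (f.naturality (SimplexCategory.δ j).op)
  exact this

theorem f_σ {n : ℕ} (j : Fin (n+1)) (w : X _⦋n⦌) :
    (f.app (op ⦋n+1⦌)).hom ((X.σ j).hom w) = (Y.σ j).hom ((f.app (op ⦋n⦌)).hom w) := by
  have := congrArg (fun φ => φ.hom w) (f.naturality (SimplexCategory.σ j).op)
  exact this

/-- The kernel family. -/
def K (n : ℕ) : AddSubgroup (X _⦋n⦌) := (f.app (op ⦋n⦌)).hom.ker

theorem K_δ (n : ℕ) (j : Fin (n+2)) (w : X _⦋n+1⦌) (hw : w ∈ K f (n+1)) :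
    (X.δ j).hom w ∈ K f n := by
  unfold K at *
  rw [AddMonoidHom.mem_ker] at *
  rw [f_δ, hw, map_zero]

theorem K_σ (n : ℕ) (t : Fin (n+1)) (y : X _⦋n⦌) (hy : y ∈ K f n) :
    (X.σ t).hom y ∈ K f (n+1) := by
  unfold K at *
  rw [AddMonoidHom.mem_ker] at *
  rw [f_σ, hy, map_zero]

/-- Reduction of the relative filling problem to filling in the kernel. -/
theorem rel_filler_aux (hf : ∀ n : ℕ, Function.Surjective (f.app (op ⦋n⦌)).hom)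
    (n : ℕ) (i : Fin (n+2)) (x : Fin (n+2) → X _⦋n⦌) (v : Y _⦋n+1⦌)
    (hxv : ∀ l, l ≠ i → (f.app (op ⦋n⦌)).hom (x l) = (Y.δ l).hom v)
    (hfill : ∀ (w₀ : X _⦋n+1⦌) (x' : Fin (n+2) → X _⦋n⦌), (∀ l, x' l ∈ K f n) →
      (∀ l, l ≠ i → x' l = x l - (X.δ l).hom w₀) →
      ∃ w₁ : X _⦋n+1⦌, w₁ ∈ K f (n+1) ∧ ∀ l, l ≠ i → (X.δ l).hom w₁ = x' l) :
    ∃ w : X _⦋n+1⦌, (∀ l, l ≠ i → (X.δ l).hom w = x l) ∧ (f.app (op ⦋n+1⦌)).hom w = v := by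
  classical
  obtain ⟨w₀, hw₀⟩ := hf (n+1) v
  let x' : Fin (n+2) → X _⦋n⦌ := fun l => if l = i then 0 else x l - (X.δ l).hom w₀
  have hxS : ∀ l, x' l ∈ K f n := by
    intro l
    by_cases hl : l = i
    · simp only [x', if_pos hl]; exact zero_mem _
    · simp only [x', if_neg hl]
      unfold K
      rw [AddMonoidHom.mem_ker, map_sub, hxv l hl, f_δ, hw₀, sub_self]
  obtain ⟨w₁, hw₁S, hw₁⟩ := hfill w₀ x' hxS (fun l hl => by simp only [x', if_neg hl])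
  refine ⟨w₀ + w₁, fun l hl => ?_, ?_⟩
  · rw [map_add, hw₁ l hl]
    simp only [x', if_neg hl]
    abel
  · unfold K at hw₁S
    rw [AddMonoidHom.mem_ker] at hw₁S
    rw [map_add, hw₀, hw₁S, add_zero]

theorem rel_filler_zero (hf : ∀ n : ℕ, Function.Surjective (f.app (op ⦋n⦌)).hom)
    (i : Fin 2) (x : Fin 2 → X _⦋0⦌) (v : Y _⦋1⦌)
    (hxv : ∀ l, l ≠ i → (f.app (op ⦋0⦌)).hom (x l) = (Y.δ l).hom v) :
    ∃ w : X _⦋1⦌, (∀ l, l ≠ i → (X.δ l).hom w = x l) ∧ (f.app (op ⦋1⦌)).hom w = v :=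
  rel_filler_aux f hf 0 i x v hxv (fun _ x' hxS _ => filler_zero X (K f) (K_σ f) i x' hxS)

theorem rel_filler_succ (hf : ∀ n : ℕ, Function.Surjective (f.app (op ⦋n⦌)).hom)
    (m : ℕ) (i : Fin (m+3)) (x : Fin (m+3) → X _⦋m+1⦌) (v : Y _⦋m+2⦌)
    (hxv : ∀ l, l ≠ i → (f.app (op ⦋m+1⦌)).hom (x l) = (Y.δ l).hom v)
    (hx : ∀ a b : Fin (m+2), a ≤ b → a.castSucc ≠ i → b.succ ≠ i →
      (X.δ b).hom (x a.castSucc) = (X.δ a).hom (x b.succ)) :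
    ∃ w : X _⦋m+2⦌, (∀ l, l ≠ i → (X.δ l).hom w = x l) ∧ (f.app (op ⦋m+2⦌)).hom w = v := by
  refine rel_filler_aux f hf (m+1) i x v hxv (fun w₀ x' hxS hx' => ?_)
  apply filler_succ X (K f) (K_δ f) (K_σ f) i x' hxS
  intro a b hab ha hb
  rw [hx' _ ha, hx' _ hb, map_sub, map_sub, d_d X hab, hx a b hab ha hb]

end Groth.Agent.H9.KanAb
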