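import Mathlib
import Groth.Agent.Lib.Helper9.Misc.KanAb3

/-! Helper9: degreewise surjection of simplicial abelian groups is a Kan fibration (S6780). -/

namespace Groth.Agent.H9.KanAb

open CategoryTheory Simplicial Opposite

universe u

theorem main {X₀ Y₀ : SimplicialObject AddCommGrpCat.{u}} (f : X₀ ⟶ Y₀)
    (hf : ∀ n : SimplexCategoryᵒᵖ, Function.Surjective (f.app n)) :
    SSet.modelCategoryQuillen.J.rlp (X := X₀ ⋙ forget AddCommGrpCat.{u})
      (Y := Y₀ ⋙ forget AddCommGrpCat.{u}) (Functor.whiskerRight f (forget AddCommGrpCat.{u})) := by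
  intro A B ι hι
  simp only [SSet.modelCategoryQuillen.J, MorphismProperty.iSup_iff] at hι
  obtain ⟨n, ⟨i⟩⟩ := hι
  refine ⟨fun {t b} sq => ?_⟩
  have hf' : ∀ n : ℕ, Function.Surjective (f.app (op ⦋n⦌)).hom := fun n => hf (op ⦋n⦌)
  classical
  let v : Y₀ _⦋n+1⦌ := SSet.yonedaEquiv b
  let x : Fin (n+2) → X₀ _⦋n⦌ := fun j =>
    if hj : j = i then 0 else SSet.yonedaEquiv (SSet.horn.ι i j hj ≫ t)
  have hxv : ∀ l, l ≠ i → (f.app (op ⦋n⦌)).hom (x l) = (Y₀.δ l).hom v := by
    intro l hl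
    simp only [x, dif_neg hl, v]
    have h1 := congrArg (fun φ => SSet.yonedaEquiv (SSet.horn.ι i l hl ≫ φ)) sq.w
    simp only [SSet.horn.ι_ι_assoc] at h1
    rw [SSet.stdSimplex.yonedaEquiv_δ_comp, ← Category.assoc, SSet.yonedaEquiv_comp] at h1
    exact h1
  have key : ∃ w : X₀ _⦋n+1⦌, (∀ l, l ≠ i → (X₀.δ l).hom w = x l) ∧
      (f.app (op ⦋n+1⦌)).hom w = v := by
    obtain _ | m := n
    · exact rel_filler_zero f hf' i x v hxv
    · apply rel_filler_succ f hf' m i x v hxv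
      intro a b hab ha hb
      simp only [x, dif_neg ha, dif_neg hb]
      have := SSet.horn.IsCompatible.of_hom t a.castSucc b.succ ha hb
        (Fin.castSucc_lt_succ_iff.2 hab)
      have h2 := congrArg SSet.yonedaEquiv this
      rw [SSet.stdSimplex.yonedaEquiv_δ_comp, SSet.stdSimplex.yonedaEquiv_δ_comp] at h2
      simp only [Fin.pred_succ, Fin.castPred_castSucc] at h2
      exact h2
  obtain ⟨w, hw, hwv⟩ := key
  refine ⟨⟨{ l := SSet.yonedaEquiv.symm w, fac_left := ?_, fac_right := ?_ }⟩⟩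
  · apply SSet.horn.hom_ext'
    intro j hj
    rw [SSet.horn.ι_ι_assoc, SSet.stdSimplex.δ_comp_yonedaEquiv_symm, Equiv.symm_apply_eq]
    have := hw j hj
    simp only [x, dif_neg hj] at this
    exact this
  · rw [SSet.yonedaEquiv_symm_comp, Equiv.symm_apply_eq]
    exact hwv

end Groth.Agent.H9.KanAb
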