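import Mathlib

/-! Helper9: element-level consequences of a surjective quasi-isomorphism of chain complexes of abelian groups (for S6781). -/

namespace Groth.Agent.H9.KanAb

open CategoryTheory CategoryTheory.Limits

universe u

/-- The morphism `ℤ ⟶ G` picking an element. -/
noncomputable def zhom {G : AddCommGrpCat.{u}} (z : G) : AddCommGrpCat.of (ULift.{u} ℤ) ⟶ G :=
  AddCommGrpCat.ofHom ((zmultiplesHom G z).comp AddEquiv.ulift.toAddMonoidHom)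

theorem zhom_one {G : AddCommGrpCat.{u}} (z : G) : (zhom z).hom ⟨1⟩ = z := by
  show (1 : ℤ) • z = z
  rw [one_smul]

theorem zhom_comp_eq_zero {G H : AddCommGrpCat.{u}} (z : G) (g : G ⟶ H) (h : g.hom z = 0) :
    zhom z ≫ g = 0 := by
  ext ⟨n⟩
  show g.hom (n • z) = 0
  rw [map_zsmul, h, smul_zero]

theorem exists_of_epi {A' : AddCommGrpCat.{u}} (π : A' ⟶ AddCommGrpCat.of (ULift.{u} ℤ)) [Epi π] :
    ∃ a : A', π.hom a = ⟨1⟩ :=
  (AddCommGrpCat.epi_iff_surjective π).1 inferInstance _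

theorem app_eq {G H : AddCommGrpCat.{u}} {f g : G ⟶ H} (h : f = g) (x : G) :
    f.hom x = g.hom x := by rw [h]

variable {C D : ChainComplex AddCommGrpCat.{u} ℕ} (F : C ⟶ D)

theorem acyc_of_quasiIso [QuasiIso F] (hF : ∀ n, Function.Surjective (F.f n).hom)
    (m k : ℕ) (hk : (ComplexShape.down ℕ).next m = k) (z : C.X m)
    (hz : (C.d m k).hom z = 0) (hFz : (F.f m).hom z = 0) :
    ∃ c : C.X (m+1), (F.f (m+1)).hom c = 0 ∧ (C.d (m+1) m).hom c = z := by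
  -- injectivity at m
  have hq1 : QuasiIsoAt F m := inferInstance
  rw [quasiIsoAt_iff' F (m+1) m k (by simp) hk] at hq1
  have hmono : Mono (ShortComplex.homologyMap
      ((HomologicalComplex.shortComplexFunctor' AddCommGrpCat.{u} (ComplexShape.down ℕ) (m+1) m k).map F)) := by
    have := hq1.isIso'
    infer_instance
  rw [ShortComplex.mono_homologyMap_iff_up_to_refinements] at hmono
  have hmono' : ∀ ⦃A : AddCommGrpCat.{u}⦄ (x₂ : A ⟶ C.X m), x₂ ≫ C.d m k = 0 →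
      ∀ (y₁ : A ⟶ D.X (m+1)), x₂ ≫ F.f m = y₁ ≫ D.d (m+1) m →
      ∃ (A' : AddCommGrpCat.{u}) (π : A' ⟶ A), ∃ (_ : Epi π), ∃ x₁ : A' ⟶ C.X (m+1),
        π ≫ x₂ = x₁ ≫ C.d (m+1) m := hmono
  obtain ⟨A', π, hπ, x₁, hx₁⟩ := hmono' (zhom z) (zhom_comp_eq_zero z _ hz) 0
    (by rw [zero_comp]; exact zhom_comp_eq_zero z _ hFz)
  obtain ⟨a', ha'⟩ := exists_of_epi π
  obtain ⟨c₁, hc₁⟩ : ∃ c₁ : C.X (m+1), (C.d (m+1) m).hom c₁ = z := by
    refine ⟨x₁.hom a', ?_⟩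
    have h1 : (zhom z).hom (π.hom a') = (C.d (m+1) m).hom (x₁.hom a') := app_eq hx₁ a'
    rw [ha', zhom_one] at h1
    exact h1.symm
  -- surjectivity at m+1
  have hq2 : QuasiIsoAt F (m+1) := inferInstance
  rw [quasiIsoAt_iff' F (m+2) (m+1) m (by simp) (by simp)] at hq2
  have hepi : Epi (ShortComplex.homologyMap
      ((HomologicalComplex.shortComplexFunctor' AddCommGrpCat.{u} (ComplexShape.down ℕ) (m+2) (m+1) m).map F)) := by
    have := hq2.isIso'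
    infer_instance
  rw [ShortComplex.epi_homologyMap_iff_up_to_refinements] at hepi
  have hepi' : ∀ ⦃A : AddCommGrpCat.{u}⦄ (y₂ : A ⟶ D.X (m+1)), y₂ ≫ D.d (m+1) m = 0 →
      ∃ (A' : AddCommGrpCat.{u}) (π : A' ⟶ A), ∃ (_ : Epi π), ∃ x₂ : A' ⟶ C.X (m+1),
        ∃ (_ : x₂ ≫ C.d (m+1) m = 0), ∃ y₁ : A' ⟶ D.X (m+2),
          π ≫ y₂ = x₂ ≫ F.f (m+1) + y₁ ≫ D.d (m+2) (m+1) := hepi
  have hy : (D.d (m+1) m).hom ((F.f (m+1)).hom c₁) = 0 := by
    have h1 : (D.d (m+1) m).hom ((F.f (m+1)).hom c₁) = (F.f m).hom ((C.d (m+1) m).hom c₁) :=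
      app_eq (F.comm (m+1) m) c₁
    rw [h1, hc₁, hFz]
  obtain ⟨A'', π', hπ', x₂, hx₂, y₁, hy₁⟩ := hepi' (zhom ((F.f (m+1)).hom c₁))
    (zhom_comp_eq_zero _ _ hy)
  obtain ⟨a'', ha''⟩ := exists_of_epi π'
  have h1 : (F.f (m+1)).hom c₁ = (F.f (m+1)).hom (x₂.hom a'') +
      (D.d (m+2) (m+1)).hom (y₁.hom a'') := by
    have h2 : (zhom ((F.f (m+1)).hom c₁)).hom (π'.hom a'') = (F.f (m+1)).hom (x₂.hom a'') +
      (D.d (m+2) (m+1)).hom (y₁.hom a'') := app_eq hy₁ a''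
    rw [ha'', zhom_one] at h2
    exact h2
  have h2 : (C.d (m+1) m).hom (x₂.hom a'') = 0 := app_eq hx₂ a''
  obtain ⟨e, he⟩ := hF (m+2) (y₁.hom a'')
  refine ⟨c₁ - x₂.hom a'' - (C.d (m+2) (m+1)).hom e, ?_, ?_⟩
  · have h3 : (D.d (m+2) (m+1)).hom ((F.f (m+2)).hom e) =
        (F.f (m+1)).hom ((C.d (m+2) (m+1)).hom e) := app_eq (F.comm (m+2) (m+1)) e
    rw [map_sub, map_sub, ← h3, he, h1]
    abel
  · have h4 : (C.d (m+1) m).hom ((C.d (m+2) (m+1)).hom e) = 0 :=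
      app_eq (C.d_comp_d (m+2) (m+1) m) e
    rw [map_sub, map_sub, h4, h2, hc₁, sub_zero, sub_zero]

end Groth.Agent.H9.KanAb
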