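import Mathlib
import Groth.Agent.Lib.Helper9.Misc.KanAb3
import Groth.Agent.Lib.Helper9.Misc.KanAb5

/-! Helper9: normalisation via P-infinity in a simplicial abelian group (for S6781). -/

namespace Groth.Agent.H9.KanAb

open CategoryTheory Simplicial Opposite AlgebraicTopology AlgebraicTopology.DoldKan

universe u

/-- evaluation at an element as an additive map on morphisms -/
def evalHom {G H : AddCommGrpCat.{u}} (x : G) : (G ⟶ H) →+ H where
  toFun φ := φ.hom x
  map_zero' := rfl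
  map_add' _ _ := rfl

theorem hom_sum_apply {G H : AddCommGrpCat.{u}} {ι : Type*} (s : Finset ι) (g : ι → (G ⟶ H))
    (x : G) : (∑ i ∈ s, g i).hom x = ∑ i ∈ s, (g i).hom x :=
  map_sum (evalHom x) g s

variable {X Y : SimplicialObject AddCommGrpCat.{u}} (f : X ⟶ Y)

theorem d_apply (n : ℕ) (w : X _⦋n+1⦌) :
    ((AlternatingFaceMapComplex.obj X).d (n+1) n).hom w =
      ∑ j : Fin (n+2), ((-1 : ℤ) ^ (j : ℕ)) • (X.δ j).hom w := by
  rw [app_eq (AlternatingFaceMapComplex.obj_d_eq X n) w, hom_sum_apply]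
  rfl

theorem d_apply_of_higher (n : ℕ) (w : X _⦋n+1⦌)
    (hw : ∀ j : Fin (n+1), (X.δ j.succ).hom w = 0) :
    ((AlternatingFaceMapComplex.obj X).d (n+1) n).hom w = (X.δ 0).hom w := by
  rw [d_apply, Fin.sum_univ_succ]
  simp [hw]

theorem P_fix_succ (n : ℕ) (z : X _⦋n+1⦌) (hz : ∀ j : Fin (n+1), (X.δ j.succ).hom z = 0) :
    ((PInfty (X := X)).f (n+1)).hom z = z := by
  have v : HigherFacesVanish (n+1) (zhom z) := fun j _ => zhom_comp_eq_zero z _ (hz j)
  have h1 := app_eq v.comp_P_eq_self ⟨1⟩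
  have h2 : ((P (n+1) : AlternatingFaceMapComplex.obj X ⟶ AlternatingFaceMapComplex.obj X).f (n+1)).hom ((zhom z).hom ⟨1⟩) = (zhom z).hom ⟨1⟩ := h1
  rw [zhom_one] at h2
  exact h2

theorem norm_step (m : ℕ) (z : X _⦋m⦌) (hPz : ((PInfty (X := X)).f m).hom z = z)
    (c : X _⦋m+1⦌) (hfc : (f.app (op ⦋m+1⦌)).hom c = 0)
    (hdc : ((AlternatingFaceMapComplex.obj X).d (m+1) m).hom c = z) :
    ∃ u : X _⦋m+1⦌, u ∈ K f (m+1) ∧ (X.δ 0).hom u = z ∧
      ∀ j : Fin (m+1), (X.δ j.succ).hom u = 0 := by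
  refine ⟨((PInfty (X := X)).f (m+1)).hom c, ?_, ?_, ?_⟩
  · unfold K
    rw [AddMonoidHom.mem_ker]
    have h1 : ((PInfty (X := Y)).f (m+1)).hom ((f.app (op ⦋m+1⦌)).hom c) =
        (f.app (op ⦋m+1⦌)).hom (((PInfty (X := X)).f (m+1)).hom c) :=
      app_eq (PInfty_f_naturality (m+1) f) c
    rw [← h1, hfc, map_zero]
  · have hh : ∀ j : Fin (m+1), (X.δ j.succ).hom (((PInfty (X := X)).f (m+1)).hom c) = 0 := by
      intro j
      have := HigherFacesVanish.of_P (X := X) (m+1) m j (by omega)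
      exact app_eq this c
    rw [← d_apply_of_higher m _ hh]
    have h2 : ((AlternatingFaceMapComplex.obj X).d (m+1) m).hom
        (((PInfty (X := X)).f (m+1)).hom c) =
        ((PInfty (X := X)).f m).hom (((AlternatingFaceMapComplex.obj X).d (m+1) m).hom c) :=
      app_eq ((PInfty (X := X)).comm (m+1) m) c
    rw [h2, hdc, hPz]
  · intro j
    have := HigherFacesVanish.of_P (X := X) (m+1) m j (by omega)
    exact app_eq this c

end Groth.Agent.H9.KanAb
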