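import Mathlib
import Groth.Agent.Lib.Helper9.Misc.KanAb6

/-! Helper9: sphere filling in the kernel of a surjective quasi-isomorphism of simplicial abelian groups (for S6781). -/

namespace Groth.Agent.H9.KanAb

open CategoryTheory Simplicial Opposite AlgebraicTopology AlgebraicTopology.DoldKan

universe u

variable {X Y : SimplicialObject AddCommGrpCat.{u}} (f : X ⟶ Y)

/-- Sphere filling in degree 1. -/
theorem sphere_zero (hf : ∀ n : ℕ, Function.Surjective (f.app (op ⦋n⦌)).hom)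
    (hN : ∀ z : X _⦋0⦌, z ∈ K f 0 → ∃ u : X _⦋1⦌, u ∈ K f 1 ∧ (X.δ 0).hom u = z ∧
      ∀ j : Fin 1, (X.δ j.succ).hom u = 0)
    (x : Fin 2 → X _⦋0⦌) (v : Y _⦋1⦌)
    (hxv : ∀ l, (f.app (op ⦋0⦌)).hom (x l) = (Y.δ l).hom v) :
    ∃ w : X _⦋1⦌, (∀ l, (X.δ l).hom w = x l) ∧ (f.app (op ⦋1⦌)).hom w = v := by
  obtain ⟨w₀, hw₀⟩ := hf 1 v
  let x' : Fin 2 → X _⦋0⦌ := fun l => x l - (X.δ l).hom w₀
  have hxS : ∀ l, x' l ∈ K f 0 := by
    intro l
    unfold K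
    rw [AddMonoidHom.mem_ker, map_sub, hxv l, f_δ, hw₀, sub_self]
  obtain ⟨w', hw'S, hw'⟩ := filler_zero X (K f) (K_σ f) 0 x' hxS
  obtain ⟨u, huS, hu0, hu1⟩ := hN (x' 0 - (X.δ 0).hom w')
    (sub_mem (hxS 0) (K_δ f _ _ _ hw'S))
  have hw₁ : ∀ l, (X.δ l).hom (w' + u) = x' l := by
    intro l
    refine Fin.cases ?_ (fun j => ?_) l
    · rw [map_add, hu0]; abel
    · rw [map_add, hu1 j, add_zero]
      exact hw' j.succ (Fin.succ_ne_zero j)
  refine ⟨w₀ + (w' + u), fun l => ?_, ?_⟩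
  · rw [map_add, hw₁ l]; simp only [x']; abel
  · have h1 : w' + u ∈ K f 1 := add_mem hw'S huS
    unfold K at h1
    rw [AddMonoidHom.mem_ker] at h1
    rw [map_add, hw₀, h1, add_zero]

/-- Sphere filling in degree `n + 2`. -/
theorem sphere_succ (hf : ∀ n : ℕ, Function.Surjective (f.app (op ⦋n⦌)).hom) (n : ℕ)
    (hN : ∀ z : X _⦋n+1⦌, z ∈ K f (n+1) → (∀ j : Fin (n+2), (X.δ j).hom z = 0) →
      ∃ u : X _⦋n+2⦌, u ∈ K f (n+2) ∧ (X.δ 0).hom u = z ∧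
      ∀ j : Fin (n+2), (X.δ j.succ).hom u = 0)
    (x : Fin (n+3) → X _⦋n+1⦌) (v : Y _⦋n+2⦌)
    (hxv : ∀ l, (f.app (op ⦋n+1⦌)).hom (x l) = (Y.δ l).hom v)
    (hx : ∀ a b : Fin (n+2), a ≤ b →
      (X.δ b).hom (x a.castSucc) = (X.δ a).hom (x b.succ)) :
    ∃ w : X _⦋n+2⦌, (∀ l, (X.δ l).hom w = x l) ∧ (f.app (op ⦋n+2⦌)).hom w = v := by
  obtain ⟨w₀, hw₀⟩ := hf (n+2) v
  let x' : Fin (n+3) → X _⦋n+1⦌ := fun l => x l - (X.δ l).hom w₀
  have hxS : ∀ l, x' l ∈ K f (n+1) := by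
    intro l
    unfold K
    rw [AddMonoidHom.mem_ker, map_sub, hxv l, f_δ, hw₀, sub_self]
  have hx' : ∀ a b : Fin (n+2), a ≤ b →
      (X.δ b).hom (x' a.castSucc) = (X.δ a).hom (x' b.succ) := by
    intro a b hab
    simp only [x']
    rw [map_sub, map_sub, d_d X hab, hx a b hab]
  obtain ⟨w', hw'S, hw'⟩ := filler_succ X (K f) (K_δ f) (K_σ f) 0 x' hxS
    (fun a b hab _ _ => hx' a b hab)
  obtain ⟨u, huS, hu0, hu1⟩ := hN (x' 0 - (X.δ 0).hom w')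
    (sub_mem (hxS 0) (K_δ f _ _ _ hw'S)) (by
      intro a
      have h1 := hx' 0 a (Fin.zero_le a)
      have h2 := d_d X (Fin.zero_le a) w'
      rw [Fin.castSucc_zero] at h1 h2
      rw [map_sub, h1, ← h2, hw' a.succ (Fin.succ_ne_zero a), sub_self])
  have hw₁ : ∀ l, (X.δ l).hom (w' + u) = x' l := by
    intro l
    refine Fin.cases ?_ (fun j => ?_) l
    · rw [map_add, hu0]; abel
    · rw [map_add, hu1 j, add_zero]
      exact hw' j.succ (Fin.succ_ne_zero j)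
  refine ⟨w₀ + (w' + u), fun l => ?_, ?_⟩
  · rw [map_add, hw₁ l]; simp only [x']; abel
  · have h1 : w' + u ∈ K f (n+2) := add_mem hw'S huS
    unfold K at h1
    rw [AddMonoidHom.mem_ker] at h1
    rw [map_add, hw₀, h1, add_zero]

/-- Normalised acyclicity of the kernel from the quasi-isomorphism hypothesis, degree 0. -/
theorem nacyc_zero (hf : ∀ n : ℕ, Function.Surjective (f.app (op ⦋n⦌)).hom)
    [hq : QuasiIso (AlternatingFaceMapComplex.map f)]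
    (z : X _⦋0⦌) (hz : z ∈ K f 0) : ∃ u : X _⦋1⦌, u ∈ K f 1 ∧ (X.δ 0).hom u = z ∧
      ∀ j : Fin 1, (X.δ j.succ).hom u = 0 := by
  unfold K at hz
  rw [AddMonoidHom.mem_ker] at hz
  obtain ⟨c, hc1, hc2⟩ := acyc_of_quasiIso (AlternatingFaceMapComplex.map f) hf 0 0
    (by simp) z (by
      have : (AlternatingFaceMapComplex.obj X).d 0 0 = 0 :=
        (AlternatingFaceMapComplex.obj X).shape 0 0 (by simp)
      rw [this]; rfl) hz
  exact norm_step f 0 z rfl c hc1 hc2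

theorem nacyc_succ (hf : ∀ n : ℕ, Function.Surjective (f.app (op ⦋n⦌)).hom)
    [hq : QuasiIso (AlternatingFaceMapComplex.map f)] (n : ℕ)
    (z : X _⦋n+1⦌) (hz : z ∈ K f (n+1)) (hz0 : ∀ j : Fin (n+2), (X.δ j).hom z = 0) :
    ∃ u : X _⦋n+2⦌, u ∈ K f (n+2) ∧ (X.δ 0).hom u = z ∧
      ∀ j : Fin (n+2), (X.δ j.succ).hom u = 0 := by
  unfold K at hz
  rw [AddMonoidHom.mem_ker] at hz
  obtain ⟨c, hc1, hc2⟩ := acyc_of_quasiIso (AlternatingFaceMapComplex.map f) hf (n+1) n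
    (by simp) z (by
      rw [d_apply]
      simp [hz0]) hz
  exact norm_step f (n+1) z (P_fix_succ n z (fun j => hz0 j.succ)) c hc1 hc2

end Groth.Agent.H9.KanAb
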