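import Mathlib
import Groth.Agent.Lib.Helper9.Misc.KanAb7

/-! Helper9: surjective quasi-isomorphism of simplicial abelian groups is a trivial Kan fibration (S6781). -/

namespace Groth.Agent.H9.KanAb

open CategoryTheory Simplicial Opposite AlgebraicTopology

universe u

theorem main2 {X₀ Y₀ : SimplicialObject AddCommGrpCat.{u}} (f : X₀ ⟶ Y₀)
    (hf : ∀ n : SimplexCategoryᵒᵖ, Function.Surjective (f.app n))
    (hq : QuasiIso ((AlgebraicTopology.alternatingFaceMapComplex AddCommGrpCat.{u}).map f)) :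
    SSet.modelCategoryQuillen.I.rlp (X := X₀ ⋙ forget AddCommGrpCat.{u})
      (Y := Y₀ ⋙ forget AddCommGrpCat.{u}) (Functor.whiskerRight f (forget AddCommGrpCat.{u})) := by
  intro A B ι hι
  obtain ⟨n⟩ := hι
  refine ⟨fun {t b} sq => ?_⟩
  have hf' : ∀ n : ℕ, Function.Surjective (f.app (op ⦋n⦌)).hom := fun n => hf (op ⦋n⦌)
  have hq' : QuasiIso (AlternatingFaceMapComplex.map f) := hq
  let v : Y₀ _⦋n⦌ := SSet.yonedaEquiv b
  obtain _ | m := n
  · obtain ⟨w, hw⟩ := hf' 0 v
    refine ⟨⟨{ l := SSet.yonedaEquiv.symm w, fac_left := ?_, fac_right := ?_ }⟩⟩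
    · exact SSet.boundary.hom_ext₀
    · rw [SSet.yonedaEquiv_symm_comp, Equiv.symm_apply_eq]
      exact hw
  · let x : Fin (m+2) → X₀ _⦋m⦌ := fun j => SSet.yonedaEquiv (SSet.boundary.ι j ≫ t)
    have hxv : ∀ l, (f.app (op ⦋m⦌)).hom (x l) = (Y₀.δ l).hom v := by
      intro l
      simp only [x, v]
      have h1 := congrArg (fun φ => SSet.yonedaEquiv (SSet.boundary.ι l ≫ φ)) sq.w
      simp only [SSet.boundary.ι_ι_assoc] at h1
      rw [SSet.stdSimplex.yonedaEquiv_δ_comp, ← Category.assoc, SSet.yonedaEquiv_comp] at h1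
      exact h1
    have key : ∃ w : X₀ _⦋m+1⦌, (∀ l, (X₀.δ l).hom w = x l) ∧
        (f.app (op ⦋m+1⦌)).hom w = v := by
      obtain _ | k := m
      · exact sphere_zero f hf' (nacyc_zero f hf') x v hxv
      · apply sphere_succ f hf' k (nacyc_succ f hf' k) x v hxv
        intro a b hab
        simp only [x]
        have h1 : SSet.stdSimplex.δ b ≫ SSet.boundary.ι a.castSucc =
            SSet.stdSimplex.δ a ≫ SSet.boundary.ι (n := k+1) b.succ := by
          rw [← cancel_mono (SSet.boundary (k+2)).ι, Category.assoc, Category.assoc,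
            SSet.boundary.ι_ι, SSet.boundary.ι_ι]
          exact (CosimplicialObject.δ_comp_δ SSet.stdSimplex hab).symm
        have h2 := congrArg (fun φ => SSet.yonedaEquiv (φ ≫ t)) h1
        simp only [Category.assoc] at h2
        rw [SSet.stdSimplex.yonedaEquiv_δ_comp, SSet.stdSimplex.yonedaEquiv_δ_comp] at h2
        exact h2
    obtain ⟨w, hw, hwv⟩ := key
    refine ⟨⟨{ l := SSet.yonedaEquiv.symm w, fac_left := ?_, fac_right := ?_ }⟩⟩
    · apply SSet.boundary.hom_ext
      intro j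
      rw [SSet.boundary.ι_ι_assoc, SSet.stdSimplex.δ_comp_yonedaEquiv_symm, Equiv.symm_apply_eq]
      exact hw j
    · rw [SSet.yonedaEquiv_symm_comp, Equiv.symm_apply_eq]
      exact hwv

end Groth.Agent.H9.KanAb
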