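import Mathlib
import Groth.Agent.Lib.Helper9.Misc.SchClos

set_option linter.style.haveILetI false

namespace Groth.Agent.H9.KerProd

open CategoryTheory CategoryTheory.Limits AlgebraicGeometry

universe u

/-- kernel of a composite with a scheme-theoretically dominant first map -/
theorem ker_comp_of_std {X Y Z : Scheme.{u}} (s : X ⟶ Y) (c : Y ⟶ Z)
    [IsSchemeTheoreticallyDominant s] : (s ≫ c).ker = c.ker := by
  rw [Scheme.Hom.ker_comp, s.ker_eq_bot, Scheme.IdealSheafData.map_bot]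

theorem ker_prod {S A B X Y : Scheme.{u}} (a₀ : A ⟶ S) (b₀ : B ⟶ S) (x₀ : X ⟶ S) (y₀ : Y ⟶ S)
    (f : A ⟶ X) (g : B ⟶ Y) [QuasiCompact f] [QuasiCompact g] (hf : f ≫ x₀ = a₀)
    (hg : g ≫ y₀ = b₀) [Flat b₀] [Flat (f.imageι ≫ x₀)]
    (F : pullback a₀ b₀ ⟶ pullback x₀ y₀)
    (hF₁ : F ≫ pullback.fst x₀ y₀ = pullback.fst a₀ b₀ ≫ f)
    (hF₂ : F ≫ pullback.snd x₀ y₀ = pullback.snd a₀ b₀ ≫ g) :
    F.ker = f.ker.comap (pullback.fst x₀ y₀) ⊔ g.ker.comap (pullback.snd x₀ y₀) := by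
  haveI : IsSchemeTheoreticallyDominant f.toImage := ⟨SchClos.ker_toImage_eq_bot f⟩
  haveI : IsSchemeTheoreticallyDominant g.toImage := ⟨SchClos.ker_toImage_eq_bot g⟩
  have ea : f.toImage ≫ f.imageι ≫ x₀ = a₀ := by rw [← Category.assoc, f.toImage_imageι, hf]
  have eb : g.toImage ≫ g.imageι ≫ y₀ = b₀ := by rw [← Category.assoc, g.toImage_imageι, hg]
  let F₁ : pullback a₀ b₀ ⟶ pullback (f.imageι ≫ x₀) b₀ :=
    pullback.map a₀ b₀ (f.imageι ≫ x₀) b₀ f.toImage (𝟙 B) (𝟙 S)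
      (by rw [Category.comp_id, ea]) (by simp)
  let F₂ : pullback (f.imageι ≫ x₀) b₀ ⟶ pullback (f.imageι ≫ x₀) (g.imageι ≫ y₀) :=
    pullback.map (f.imageι ≫ x₀) b₀ (f.imageι ≫ x₀) (g.imageι ≫ y₀) (𝟙 _) g.toImage (𝟙 S)
      (by simp) (by rw [Category.comp_id, eb])
  let c' : pullback (f.imageι ≫ x₀) (g.imageι ≫ y₀) ⟶ pullback x₀ y₀ :=
    pullback.map (f.imageι ≫ x₀) (g.imageι ≫ y₀) x₀ y₀ f.imageι g.imageι (𝟙 S) (by simp) (by simp)
  have hF1f : F₁ ≫ pullback.fst (f.imageι ≫ x₀) b₀ = pullback.fst a₀ b₀ ≫ f.toImage :=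
    pullback.lift_fst _ _ _
  have hF1s : F₁ ≫ pullback.snd (f.imageι ≫ x₀) b₀ = pullback.snd a₀ b₀ :=
    (pullback.lift_snd _ _ _).trans (Category.comp_id _)
  have hF2f : F₂ ≫ pullback.fst (f.imageι ≫ x₀) (g.imageι ≫ y₀) =
      pullback.fst (f.imageι ≫ x₀) b₀ := (pullback.lift_fst _ _ _).trans (Category.comp_id _)
  have hF2s : F₂ ≫ pullback.snd (f.imageι ≫ x₀) (g.imageι ≫ y₀) =
      pullback.snd (f.imageι ≫ x₀) b₀ ≫ g.toImage := pullback.lift_snd _ _ _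
  have hc1 : c' ≫ pullback.fst x₀ y₀ =
      pullback.fst (f.imageι ≫ x₀) (g.imageι ≫ y₀) ≫ f.imageι := pullback.lift_fst _ _ _
  have hc2 : c' ≫ pullback.snd x₀ y₀ =
      pullback.snd (f.imageι ≫ x₀) (g.imageι ≫ y₀) ≫ g.imageι := pullback.lift_snd _ _ _
  have hF : F = (F₁ ≫ F₂) ≫ c' := by
    apply pullback.hom_ext
    · rw [hF₁, Category.assoc, Category.assoc, hc1, reassoc_of% hF2f, reassoc_of% hF1f,
        f.toImage_imageι]
    · rw [hF₂, Category.assoc, Category.assoc, hc2, reassoc_of% hF2s, reassoc_of% hF1s,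
        g.toImage_imageι]
  -- F₁ is a flat base change of `f.toImage`
  haveI : IsSchemeTheoreticallyDominant F₁ := by
    have s : IsPullback (F₁ ≫ pullback.snd (f.imageι ≫ x₀) b₀) (pullback.fst a₀ b₀) b₀
        (f.toImage ≫ f.imageι ≫ x₀) := by
      rw [hF1s, ea]; exact (IsPullback.of_hasPullback a₀ b₀).flip
    have t : IsPullback (pullback.snd (f.imageι ≫ x₀) b₀) (pullback.fst (f.imageι ≫ x₀) b₀) b₀
        (f.imageι ≫ x₀) := (IsPullback.of_hasPullback _ _).flip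
    exact IsSchemeTheoreticallyDominant.of_isPullback (IsPullback.of_right s hF1f t).flip
  -- F₂ is a flat base change of `g.toImage`
  haveI : IsSchemeTheoreticallyDominant F₂ := by
    have s : IsPullback (F₂ ≫ pullback.fst (f.imageι ≫ x₀) (g.imageι ≫ y₀))
        (pullback.snd (f.imageι ≫ x₀) b₀) (f.imageι ≫ x₀) (g.toImage ≫ g.imageι ≫ y₀) := by
      rw [hF2f, eb]; exact IsPullback.of_hasPullback _ _
    have t : IsPullback (pullback.fst (f.imageι ≫ x₀) (g.imageι ≫ y₀))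
        (pullback.snd (f.imageι ≫ x₀) (g.imageι ≫ y₀)) (f.imageι ≫ x₀) (g.imageι ≫ y₀) :=
      IsPullback.of_hasPullback _ _
    exact IsSchemeTheoreticallyDominant.of_isPullback (IsPullback.of_right s hF2s t).flip
  rw [hF, ker_comp_of_std]
  -- kernel of the product of the two closed immersions
  apply le_antisymm
  · -- `c'.ker ≤ K`
    set K := f.ker.comap (pullback.fst x₀ y₀) ⊔ g.ker.comap (pullback.snd x₀ y₀) with hK
    let l₁ : K.subscheme ⟶ f.image :=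
      Scheme.IdealSheafData.inclusion (le_sup_left : f.ker.comap (pullback.fst x₀ y₀) ≤ K) ≫
        (f.ker.comapIso (pullback.fst x₀ y₀)).hom ≫ pullback.snd (pullback.fst x₀ y₀) f.imageι
    let l₂ : K.subscheme ⟶ g.image :=
      Scheme.IdealSheafData.inclusion (le_sup_right : g.ker.comap (pullback.snd x₀ y₀) ≤ K) ≫
        (g.ker.comapIso (pullback.snd x₀ y₀)).hom ≫ pullback.snd (pullback.snd x₀ y₀) g.imageι
    have hl₁ : l₁ ≫ f.imageι = K.subschemeι ≫ pullback.fst x₀ y₀ := by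
      simp [l₁, ← pullback.condition]
    have hl₂ : l₂ ≫ g.imageι = K.subschemeι ≫ pullback.snd x₀ y₀ := by
      simp [l₂, ← pullback.condition]
    have hl : l₁ ≫ f.imageι ≫ x₀ = l₂ ≫ g.imageι ≫ y₀ := by
      rw [← Category.assoc, hl₁, ← Category.assoc, hl₂, Category.assoc, Category.assoc,
        pullback.condition]
    have hlc : pullback.lift l₁ l₂ hl ≫ c' = K.subschemeι := by
      apply pullback.hom_ext
      · rw [Category.assoc, hc1, pullback.lift_fst_assoc, hl₁]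
      · rw [Category.assoc, hc2, pullback.lift_snd_assoc, hl₂]
    have h := Scheme.Hom.le_ker_comp (pullback.lift l₁ l₂ hl) c'
    rwa [hlc, Scheme.IdealSheafData.ker_subschemeι] at h
  · apply sup_le
    · have h := Scheme.Hom.le_ker_comp
        (pullback.lift c' (pullback.fst (f.imageι ≫ x₀) (g.imageι ≫ y₀)) hc1)
        (pullback.fst (pullback.fst x₀ y₀) f.imageι)
      rwa [pullback.lift_fst] at h
    · have h := Scheme.Hom.le_ker_comp
        (pullback.lift c' (pullback.snd (f.imageι ≫ x₀) (g.imageι ≫ y₀)) hc2)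
        (pullback.fst (pullback.snd x₀ y₀) g.imageι)
      rwa [pullback.lift_fst] at h

/-- the field case -/
theorem main (k : Type u) [Field k] {A B X Y : Scheme.{u}}
    (a₀ : A ⟶ Spec (CommRingCat.of k)) (b₀ : B ⟶ Spec (CommRingCat.of k))
    (x₀ : X ⟶ Spec (CommRingCat.of k)) (y₀ : Y ⟶ Spec (CommRingCat.of k))
    (f : A ⟶ X) (g : B ⟶ Y) [QuasiCompact f] [QuasiCompact g] (hf : f ≫ x₀ = a₀)
    (hg : g ≫ y₀ = b₀) (F : pullback a₀ b₀ ⟶ pullback x₀ y₀)
    (hF₁ : F ≫ pullback.fst x₀ y₀ = pullback.fst a₀ b₀ ≫ f)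
    (hF₂ : F ≫ pullback.snd x₀ y₀ = pullback.snd a₀ b₀ ≫ g) :
    F.ker = f.ker.comap (pullback.fst x₀ y₀) ⊔ g.ker.comap (pullback.snd x₀ y₀) := by
  haveI : Subsingleton ↥(Spec (CommRingCat.of k)) :=
    inferInstanceAs (Subsingleton (PrimeSpectrum k))
  exact ker_prod a₀ b₀ x₀ y₀ f g hf hg F hF₁ hF₂

end Groth.Agent.H9.KerProd
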