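import Mathlib

set_option autoImplicit false
universe u
open CategoryTheory CategoryTheory.Limits AlgebraicGeometry TopologicalSpace Opposite

namespace Groth.Agent.H9.KrullZ

theorem section_eq_zero_of_cover {X : Scheme.{u}} (O : X.Opens) (s : Γ(X, O))
    {ι : Type u} (W : ι → X.Opens) (hW : ∀ i, W i ≤ O) (hcov : O ≤ iSup W)
    (h : ∀ i, (X.presheaf.map (homOfLE (hW i)).op).hom s = 0) : s = 0 := by
  refine TopCat.Sheaf.eq_of_locally_eq' X.sheaf W O (fun i => homOfLE (hW i)) hcov s 0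
    (fun i => ?_)
  exact (h i).trans (map_zero (X.presheaf.map (homOfLE (hW i)).op).hom).symm

theorem germ_zero_of_factor {X : Scheme.{u}} (I : X.IdealSheafData) (x : X) {C : CommRingCat.{u}}
    (π : X.presheaf.stalk x ⟶ C) (g : Spec C ⟶ I.subscheme)
    (hg : g ≫ I.subschemeι = Spec.map π ≫ X.fromSpecStalk x)
    (V : X.affineOpens) (hxV : x ∈ V.1) (s : Γ(X, V.1)) (hs : s ∈ I.ideal V) :
    π.hom (X.presheaf.germ V.1 x hxV s) = 0 := by
  obtain ⟨a, ha⟩ : ∃ a : Spec C ⟶ X, a = Spec.map π ≫ X.fromSpecStalk x := ⟨_, rfl⟩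
  have h1 : I ≤ a.ker := by
    have := Scheme.Hom.le_ker_comp g I.subschemeι
    rw [I.ker_subschemeι, hg, ← ha] at this
    exact this
  have h2 : (a.app V.1).hom s = 0 :=
    RingHom.mem_ker.mp (a.ideal_ker_le V (Scheme.IdealSheafData.le_def.mp h1 V hs))
  have hrange : ∀ y : Spec C, a y ∈ V.1 := by
    intro y
    have h3 : X.fromSpecStalk x (Spec.map π y) ∈ {z | z ⤳ x} := by
      rw [← Scheme.range_fromSpecStalk]; exact Set.mem_range_self _
    have h4 : a y = X.fromSpecStalk x (Spec.map π y) := by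
      rw [ha]; rfl
    rw [h4]
    exact Specializes.mem_open h3 V.1.2 hxV
  have hle : (⊤ : (Spec C).Opens) ≤ a ⁻¹ᵁ V.1 := fun y _ => hrange y
  have h5 : (a.appLE V.1 ⊤ hle).hom s = 0 := by
    rw [Scheme.Hom.appLE, CommRingCat.hom_comp, RingHom.comp_apply, h2, map_zero]
  have h6 : a.appLE V.1 ⊤ hle =
      X.presheaf.germ V.1 x hxV ≫ π ≫ (Scheme.ΓSpecIso C).inv := by
    subst ha
    rw [Scheme.Hom.comp_appLE, Scheme.fromSpecStalk_app hxV, Category.assoc, Category.assoc,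
      Scheme.Hom.map_appLE, Scheme.ΓSpecIso_inv_naturality]
    rfl
  rw [h6] at h5
  have h7 : (Scheme.ΓSpecIso C).inv.hom (π.hom (X.presheaf.germ V.1 x hxV s)) = 0 := h5
  have h8 := congrArg (Scheme.ΓSpecIso C).hom.hom h7
  rw [map_zero] at h8
  rw [← h8]
  exact (Iso.inv_hom_id_apply (Scheme.ΓSpecIso C) _).symm

theorem germ_eq_zero {X S : Scheme.{u}} [IsLocallyNoetherian X] [IsLocallyNoetherian S]
    (p : X ⟶ S) (x : X) (I : X.IdealSheafData)
    (h : ∀ n : ℕ, ∃ g : pullback p (Spec.map (CommRingCat.ofHom (Ideal.Quotient.mk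
        (IsLocalRing.maximalIdeal ↑(S.presheaf.stalk (p.base x)) ^ (n + 1)))) ≫
          S.fromSpecStalk (p.base x)) ⟶ I.subscheme,
        g ≫ I.subschemeι = pullback.fst p _)
    (V : X.affineOpens) (hxV : x ∈ V.1) (s : Γ(X, V.1)) (hs : s ∈ I.ideal V) :
    X.presheaf.germ V.1 x hxV s = 0 := by
  obtain ⟨φ, hφ⟩ : ∃ φ : S.presheaf.stalk (p.base x) →+* X.presheaf.stalk x,
      φ = (p.stalkMap x).hom := ⟨_, rfl⟩
  have hloc : IsLocalHom φ := by rw [hφ]; infer_instance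
  have key : ∀ n : ℕ, X.presheaf.germ V.1 x hxV s ∈
      IsLocalRing.maximalIdeal (X.presheaf.stalk x) ^ (n + 1) := by
    intro n
    obtain ⟨g, hg⟩ := h n
    let m : Ideal (S.presheaf.stalk (p.base x)) :=
      IsLocalRing.maximalIdeal ↑(S.presheaf.stalk (p.base x))
    let J : Ideal (X.presheaf.stalk x) := Ideal.map φ (m ^ (n + 1))
    let π : X.presheaf.stalk x ⟶ CommRingCat.of (X.presheaf.stalk x ⧸ J) :=
      CommRingCat.ofHom (Ideal.Quotient.mk J)
    let ψ : CommRingCat.of (S.presheaf.stalk (p.base x) ⧸ m ^ (n + 1)) ⟶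
        CommRingCat.of (X.presheaf.stalk x ⧸ J) :=
      CommRingCat.ofHom (Ideal.quotientMap J φ Ideal.le_comap_map)
    have hsq : CommRingCat.ofHom (Ideal.Quotient.mk (m ^ (n + 1))) ≫ ψ = p.stalkMap x ≫ π := by
      ext a
      show Ideal.quotientMap J φ Ideal.le_comap_map (Ideal.Quotient.mk (m ^ (n + 1)) a) =
        Ideal.Quotient.mk J ((p.stalkMap x).hom a)
      rw [Ideal.quotientMap_mk, hφ]
    have e1 : Spec.map ψ ≫ Spec.map (CommRingCat.ofHom (Ideal.Quotient.mk (m ^ (n + 1)))) =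
        Spec.map π ≫ Spec.map (p.stalkMap x) := by
      rw [← Spec.map_comp, ← Spec.map_comp, hsq]
    have hab : (Spec.map π ≫ X.fromSpecStalk x) ≫ p = Spec.map ψ ≫
        (Spec.map (CommRingCat.ofHom (Ideal.Quotient.mk (m ^ (n + 1)))) ≫
          S.fromSpecStalk (p.base x)) := by
      calc (Spec.map π ≫ X.fromSpecStalk x) ≫ p
          = Spec.map π ≫ (X.fromSpecStalk x ≫ p) := Category.assoc _ _ _
        _ = Spec.map π ≫ (Spec.map (p.stalkMap x) ≫ S.fromSpecStalk (p.base x)) := by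
            rw [Scheme.SpecMap_stalkMap_fromSpecStalk]
        _ = (Spec.map π ≫ Spec.map (p.stalkMap x)) ≫ S.fromSpecStalk (p.base x) :=
            (Category.assoc _ _ _).symm
        _ = (Spec.map ψ ≫ Spec.map (CommRingCat.ofHom (Ideal.Quotient.mk (m ^ (n + 1))))) ≫
              S.fromSpecStalk (p.base x) := by rw [e1]
        _ = _ := Category.assoc _ _ _
    let q := pullback.lift (Spec.map π ≫ X.fromSpecStalk x) (Spec.map ψ) hab
    have hq : (q ≫ g) ≫ I.subschemeι = Spec.map π ≫ X.fromSpecStalk x := by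
      rw [Category.assoc, hg, pullback.lift_fst]
    have h0 := germ_zero_of_factor I x π (q ≫ g) hq V hxV s hs
    have h1 : X.presheaf.germ V.1 x hxV s ∈ J := Ideal.Quotient.eq_zero_iff_mem.mp h0
    have hJ : J ≤ IsLocalRing.maximalIdeal (X.presheaf.stalk x) ^ (n + 1) := by
      show Ideal.map φ (m ^ (n + 1)) ≤ _
      rw [Ideal.map_pow]
      apply Ideal.pow_right_mono
      exact ((IsLocalRing.local_hom_TFAE φ).out 0 2).mp hloc
    exact hJ h1
  have hK : (⨅ n : ℕ, IsLocalRing.maximalIdeal (X.presheaf.stalk x) ^ n) = ⊥ :=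
    Ideal.iInf_pow_eq_bot_of_isLocalRing _ (IsLocalRing.maximalIdeal.isMaximal _).ne_top
  have hmem : X.presheaf.germ V.1 x hxV s ∈
      (⨅ n : ℕ, IsLocalRing.maximalIdeal (X.presheaf.stalk x) ^ n) := by
    rw [Ideal.mem_iInf]
    intro n
    cases n with
    | zero => simp
    | succ n => exact key n
  rw [hK] at hmem
  exact hmem

theorem exists_affine_ideal_eq_bot {X : Scheme.{u}} [IsLocallyNoetherian X]
    (I : X.IdealSheafData) (x : X)
    (hx : ∀ (V : X.affineOpens) (hxV : x ∈ V.1) (s : Γ(X, V.1)), s ∈ I.ideal V →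
      X.presheaf.germ V.1 x hxV s = 0) :
    ∃ W : X.affineOpens, x ∈ W.1 ∧ I.ideal W = ⊥ := by
  classical
  obtain ⟨V, hxV⟩ : ∃ V : X.affineOpens, x ∈ V.1 := by
    obtain ⟨_, ⟨V, hV, rfl⟩, hxV, -⟩ :=
      X.isBasis_affineOpens.exists_subset_of_mem_open (Set.mem_univ x) isOpen_univ
    exact ⟨⟨V, hV⟩, hxV⟩
  haveI : IsNoetherianRing Γ(X, V.1) := IsLocallyNoetherian.component_noetherian V
  obtain ⟨G, hG⟩ : (I.ideal V).FG := IsNoetherian.noetherian _
  have hsf : ∀ a ∈ G, ∃ f : Γ(X, V.1), x ∈ X.basicOpen f ∧ f * a = 0 := by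
    intro a ha
    have ha' : a ∈ I.ideal V := hG ▸ Ideal.subset_span ha
    have h0 := hx V hxV a ha'
    letI := X.presheaf.algebra_section_stalk (⟨x, hxV⟩ : V.1)
    haveI := V.2.isLocalization_stalk ⟨x, hxV⟩
    have h0' : algebraMap Γ(X, V.1) (X.presheaf.stalk x) a = 0 := h0
    obtain ⟨⟨f, hf⟩, hfa⟩ := (IsLocalization.map_eq_zero_iff
      (V.2.primeIdealOf ⟨x, hxV⟩).asIdeal.primeCompl (X.presheaf.stalk x) a).mp h0'
    refine ⟨f, ?_, hfa⟩
    rw [X.mem_basicOpen f x hxV]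
    exact IsLocalization.map_units (X.presheaf.stalk x)
      (⟨f, hf⟩ : (V.2.primeIdealOf ⟨x, hxV⟩).asIdeal.primeCompl)
  choose! sf hsf1 hsf2 using hsf
  have hxf : ∀ T : Finset Γ(X, V.1), T ⊆ G → x ∈ X.basicOpen (∏ a ∈ T, sf a) := by
    intro T
    induction T using Finset.induction_on with
    | empty =>
      intro _
      rw [Finset.prod_empty, X.basicOpen_of_isUnit isUnit_one]
      exact hxV
    | insert a T ha ih =>
      intro hT
      rw [Finset.prod_insert ha, X.basicOpen_mul]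
      exact ⟨hsf1 a (hT (Finset.mem_insert_self _ _)),
        ih (fun b hb => hT (Finset.mem_insert_of_mem hb))⟩
  obtain ⟨f, hf⟩ : ∃ f : Γ(X, V.1), f = ∏ a ∈ G, sf a := ⟨_, rfl⟩
  have hle : X.basicOpen f ≤ V.1 := X.basicOpen_le f
  refine ⟨X.affineBasicOpen f, by rw [hf]; exact hxf G subset_rfl, ?_⟩
  rw [← I.map_ideal (show X.affineBasicOpen f ≤ V from hle), Ideal.map_eq_bot_iff_le_ker, ← hG,
    Ideal.span_le]
  intro a ha
  rw [SetLike.mem_coe, RingHom.mem_ker]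
  have hunit : IsUnit ((X.presheaf.map (homOfLE hle).op).hom f) :=
    X.toRingedSpace.isUnit_res_basicOpen f
  obtain ⟨c, hc⟩ := Finset.dvd_prod_of_mem sf ha
  have hfa : f * a = 0 := by
    rw [hf, hc, mul_comm (sf a) c, mul_assoc, hsf2 a ha, mul_zero]
  have h3 : (X.presheaf.map (homOfLE hle).op).hom f * (X.presheaf.map (homOfLE hle).op).hom a
      = 0 := by
    rw [← map_mul, hfa, map_zero]
  exact (hunit.mul_right_eq_zero).mp h3

theorem main {X S : Scheme.{u}}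
    [IsLocallyNoetherian X] [IsLocallyNoetherian S] (p : X ⟶ S) (t : S) (I : X.IdealSheafData)
    (h : ∀ n : ℕ, ∃ g : pullback p (Spec.map (CommRingCat.ofHom (Ideal.Quotient.mk
        (IsLocalRing.maximalIdeal ↑(S.presheaf.stalk t) ^ (n + 1)))) ≫ S.fromSpecStalk t) ⟶ I.subscheme,
        g ≫ I.subschemeι = pullback.fst p _) :
    ∃ U : X.Opens, (∀ x : X, p.base x = t → x ∈ U) ∧
      ∃ g : (U : Scheme.{u}) ⟶ I.subscheme, g ≫ I.subschemeι = U.ι := by
  obtain ⟨U, hU⟩ : ∃ U : X.Opens, U = ⨆ W : {W : X.affineOpens // I.ideal W = ⊥}, W.1.1 :=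
    ⟨_, rfl⟩
  refine ⟨U, ?_, ?_⟩
  · rintro x rfl
    obtain ⟨W, hxW, hW⟩ := exists_affine_ideal_eq_bot I x
      (fun V hxV s hs => germ_eq_zero p x I h V hxV s hs)
    rw [hU]
    exact Opens.mem_iSup.mpr ⟨⟨W, hW⟩, hxW⟩
  · have hle : I.subschemeι.ker ≤ U.ι.ker := by
      rw [I.ker_subschemeι, Scheme.Hom.ker, Scheme.IdealSheafData.le_ofIdeals_iff]
      intro V s hs
      have hOV : U.ι ''ᵁ U.ι ⁻¹ᵁ V.1 ≤ V.1 := by
        rintro y ⟨z, hz, rfl⟩
        exact hz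
      have hOU : U.ι ''ᵁ U.ι ⁻¹ᵁ V.1 ≤ U := U.ι_image_le _
      have key : (X.presheaf.map (homOfLE hOV).op).hom s = 0 := by
        apply section_eq_zero_of_cover (U.ι ''ᵁ U.ι ⁻¹ᵁ V.1) _
          (fun W' : {W' : X.affineOpens // W'.1 ≤ U.ι ''ᵁ U.ι ⁻¹ᵁ V.1 ∧ I.ideal W' = ⊥} =>
            W'.1.1) (fun W' => W'.2.1)
        · intro y hy
          have hyU : y ∈ U := hOU hy
          rw [hU] at hyU
          obtain ⟨W, hyW⟩ := Opens.mem_iSup.mp hyU
          obtain ⟨_, ⟨W'', hW'', rfl⟩, hyW'', hW''le⟩ :=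
            X.isBasis_affineOpens.exists_subset_of_mem_open
              (show y ∈ ((W.1.1 ⊓ U.ι ''ᵁ U.ι ⁻¹ᵁ V.1 : X.Opens) : Set X) from ⟨hyW, hy⟩)
              (W.1.1 ⊓ U.ι ''ᵁ U.ι ⁻¹ᵁ V.1).2
          refine Opens.mem_iSup.mpr ⟨⟨⟨W'', hW''⟩, ?_, ?_⟩, hyW''⟩
          · exact fun z hz => (hW''le hz).2
          · have hle' : (⟨W'', hW''⟩ : X.affineOpens) ≤ W.1 := fun z hz => (hW''le hz).1
            rw [← I.map_ideal hle', W.2, Ideal.map_bot]
        · intro W'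
          have hW'V : W'.1.1 ≤ V.1 := W'.2.1.trans hOV
          have h1 : (X.presheaf.map (homOfLE hW'V).op).hom s ∈ I.ideal W'.1 :=
            I.ideal_le_comap_ideal (show W'.1 ≤ V from hW'V) hs
          rw [W'.2.2] at h1
          have h2 : (X.presheaf.map (homOfLE hW'V).op).hom s = 0 := h1
          rw [← h2, ← RingHom.comp_apply, ← CommRingCat.hom_comp, ← Functor.map_comp]
          rfl
      exact RingHom.mem_ker.mpr key
    exact ⟨IsClosedImmersion.lift I.subschemeι U.ι hle, IsClosedImmersion.lift_fac _ _ _⟩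

end Groth.Agent.H9.KrullZ
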