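import Mathlib

/-! Helper9: binomial valuations for `p^n`-th powers and a descent lemma for integrally closed
domains (used for the Kummer-level statement S14692). -/

set_option autoImplicit false
set_option linter.unusedSectionVars false
set_option linter.unusedVariables false

namespace Groth.Agent.H9.Kum

open Polynomial

universe u

/-! ### arithmetic -/

theorem pow_le_add (q s : ℕ) :
    ∀ t : ℕ, (q + 1) ^ (s + t + 1) ≤ (q + 1) ^ s + (t + 1) * (q * (q + 1) ^ (s + t))
  | 0 => le_of_eq (by ring)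
  | t + 1 => by
    have ih := pow_le_add q s t
    have hmono : (q + 1) ^ (s + t) ≤ (q + 1) ^ (s + t + 1) :=
      Nat.pow_le_pow_right (Nat.succ_pos q) (Nat.le_succ _)
    have e1 : (q + 1) ^ (s + (t + 1) + 1) =
        (q + 1) ^ (s + t + 1) + q * (q + 1) ^ (s + t + 1) := by ring
    have e2 : s + (t + 1) = s + t + 1 := rfl
    rw [e1, e2]
    have h3 := Nat.mul_le_mul_left ((t + 1) * q) hmono
    nlinarith [ih, h3]

theorem key_ineq (p n j s m' k : ℕ) (hp : 2 ≤ p) (hm' : 0 < m') (hs : s < n)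
    (hk : p ^ n = p ^ s * m' + k) :
    (j + 1) * k ≤ p ^ (n - 1) * (p - 1) * (j + 1) * (n - s) := by
  obtain ⟨q, rfl⟩ : ∃ q, p = q + 1 := ⟨p - 1, by omega⟩
  obtain ⟨t, rfl⟩ : ∃ t, n = s + t + 1 := ⟨n - s - 1, by omega⟩
  have h := pow_le_add q s t
  have h1 : (q + 1) ^ s ≤ (q + 1) ^ s * m' := Nat.le_mul_of_pos_right _ hm'
  have hk' : k ≤ (t + 1) * (q * (q + 1) ^ (s + t)) := by
    rw [hk] at h
    omega
  have e1 : s + t + 1 - 1 = s + t := by omega
  have e2 : s + t + 1 - s = t + 1 := by omega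
  have e3 : q + 1 - 1 = q := by omega
  rw [e1, e2, e3]
  calc (j + 1) * k ≤ (j + 1) * ((t + 1) * (q * (q + 1) ^ (s + t))) := Nat.mul_le_mul_left _ hk'
    _ = (q + 1) ^ (s + t) * q * (j + 1) * (t + 1) := by ring

theorem pow_dvd_choose (p n m s m' : ℕ) (hp : p.Prime) (hm0 : 0 < m) (hmn : m ≤ p ^ n)
    (hm : m = p ^ s * m') (hm' : ¬ p ∣ m') (hs : s ≤ n) : p ^ (n - s) ∣ (p ^ n).choose m := by
  have h1 := Nat.add_one_mul_choose_eq (p ^ n - 1) (m - 1)
  have hpn : 0 < p ^ n := Nat.pos_of_ne_zero (pow_ne_zero _ hp.ne_zero)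
  have e1 : p ^ n - 1 + 1 = p ^ n := by omega
  have e2 : m - 1 + 1 = m := by omega
  rw [e1, e2] at h1
  have h2 : p ^ n ∣ (p ^ n).choose m * m := ⟨_, h1.symm⟩
  have e3 : p ^ n = p ^ s * p ^ (n - s) := by
    rw [← pow_add]
    congr 1
    omega
  have h3 : p ^ s * p ^ (n - s) ∣ p ^ s * ((p ^ n).choose m * m') := by
    have : (p ^ n).choose m * m = p ^ s * ((p ^ n).choose m * m') := by
      have e : (p ^ n).choose m * (p ^ s * m') = p ^ s * ((p ^ n).choose m * m') := by ring
      rw [← e, ← hm]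
    rw [← e3, ← this]
    exact h2
  have h4 : p ^ (n - s) ∣ (p ^ n).choose m * m' :=
    Nat.dvd_of_mul_dvd_mul_left (Nat.pos_of_ne_zero (pow_ne_zero _ hp.ne_zero)) h3
  have hcop : (p ^ (n - s)).Coprime m' :=
    Nat.Coprime.pow_left _ ((Nat.Prime.coprime_iff_not_dvd hp).mpr hm')
  exact hcop.dvd_of_dvd_mul_right h4

/-- the key divisibility of binomial coefficients in a ring where `π^E ∣ p` -/
theorem pi_pow_dvd_choose {A : Type u} [CommRing A] (π : A) (p n j : ℕ) (hp : p.Prime)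
    (hpE : π ^ (p ^ (n - 1) * (p - 1) * (j + 1)) ∣ (p : A))
    (m k : ℕ) (hm0 : 0 < m) (hk0 : 0 < k) (hmk : p ^ n = m + k) :
    π ^ ((j + 1) * k) ∣ ((p ^ n).choose m : A) := by
  obtain ⟨s, m', hm', hm⟩ := Nat.exists_eq_pow_mul_and_not_dvd hm0.ne' p hp.ne_one
  have hm'0 : 0 < m' := by
    rcases Nat.eq_zero_or_pos m' with h | h
    · rw [h] at hm'
      exact absurd (dvd_zero p) hm'
    · exact h
  have hslt : s < n := by
    have h1 : p ^ s ≤ m := by
      rw [hm]
      exact Nat.le_mul_of_pos_right _ hm'0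
    have h2 : p ^ s < p ^ n := by omega
    exact (Nat.pow_lt_pow_iff_right hp.one_lt).mp h2
  have h1 : p ^ (n - s) ∣ (p ^ n).choose m :=
    pow_dvd_choose p n m s m' hp hm0 (by omega) hm hm' hslt.le
  have h2 : ((p : A)) ^ (n - s) ∣ ((p ^ n).choose m : A) := by
    have := Nat.cast_dvd_cast (α := A) h1
    rwa [Nat.cast_pow] at this
  have h3 : (π ^ (p ^ (n - 1) * (p - 1) * (j + 1))) ^ (n - s) ∣ ((p : A)) ^ (n - s) :=
    pow_dvd_pow_of_dvd hpE _
  have h4 : (j + 1) * k ≤ p ^ (n - 1) * (p - 1) * (j + 1) * (n - s) :=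
    key_ineq p n j s m' k hp.two_le hm'0 hslt (by rw [← hm]; exact hmk)
  rw [← pow_mul] at h3
  exact ((pow_dvd_pow π h4).trans h3).trans h2

/-! ### polynomial identities -/

theorem coeff_Phi {A : Type u} [CommRing A] (r : A) (N m : ℕ) :
    ((1 + C r * X : A[X]) ^ N).coeff m = (N.choose m : A) * r ^ m := by
  have h : (1 + C r * X : A[X]) ^ N = ((1 + X) ^ N).comp (C r * X) := by
    rw [Polynomial.pow_comp, Polynomial.add_comp, Polynomial.one_comp, Polynomial.X_comp]
  rw [h, Polynomial.comp_C_mul_X_coeff, Polynomial.coeff_one_add_X_pow]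

theorem exists_q' {A : Type u} [CommRing A] (π : A) (N j : ℕ)
    (hdvd : ∀ m k : ℕ, 0 < m → 0 < k → N = m + k → π ^ ((j + 1) * k) ∣ (N.choose m : A)) :
    ∃ q' : A[X], (1 + C (π ^ (j + 1)) * X) ^ N = 1 + C (π ^ ((j + 1) * N)) * q' := by
  have h : C (π ^ ((j + 1) * N)) ∣ (1 + C (π ^ (j + 1)) * X) ^ N - 1 := by
    rw [Polynomial.C_dvd_iff_dvd_coeff]
    intro m
    rw [Polynomial.coeff_sub, coeff_Phi, Polynomial.coeff_one]
    rcases Nat.eq_zero_or_pos m with rfl | hm0
    · simp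
    · rw [if_neg hm0.ne', sub_zero]
      rcases lt_trichotomy m N with hlt | heq | hgt
      · obtain ⟨k, hk⟩ := Nat.exists_eq_add_of_le hlt.le
        have hk0 : 0 < k := by omega
        obtain ⟨c, hc⟩ := hdvd m k hm0 hk0 hk
        refine ⟨c, ?_⟩
        rw [hc, ← pow_mul, hk, Nat.mul_add, pow_add]
        ring
      · refine ⟨1, ?_⟩
        rw [heq, Nat.choose_self, Nat.cast_one, one_mul, mul_one, ← pow_mul]
      · rw [Nat.choose_eq_zero_of_lt hgt, Nat.cast_zero, zero_mul]
        exact dvd_zero _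
  obtain ⟨q', hq'⟩ := h
  exact ⟨q', by rw [← hq']; ring⟩

theorem exists_q {A : Type u} [CommRing A] [IsDomain A] (π : A) (hπ : π ≠ 0) (N j : ℕ)
    (hN : 0 < N)
    (hdvd : ∀ m k : ℕ, 0 < m → 0 < k → N = m + k → π ^ ((j + 1) * k) ∣ (N.choose m : A)) :
    ∃ q : A[X], q.natDegree < N ∧
      (1 + C (π ^ j) * X) ^ N = 1 + C (π ^ (j * N)) * (X ^ N + C π * q) := by
  obtain ⟨Ψ, hΨ⟩ : ∃ Ψ : A[X], Ψ = (1 + C (π ^ j) * X) ^ N - 1 - C (π ^ (j * N)) * X ^ N :=
    ⟨_, rfl⟩
  have hcoef : ∀ m, Ψ.coeff m =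
      if 0 < m ∧ m < N then (N.choose m : A) * (π ^ j) ^ m else 0 := by
    intro m
    rw [hΨ, Polynomial.coeff_sub, Polynomial.coeff_sub, coeff_Phi, Polynomial.coeff_one,
      Polynomial.coeff_C_mul, Polynomial.coeff_X_pow]
    rcases Nat.eq_zero_or_pos m with rfl | hm0
    · simp [hN.ne]
    · rcases lt_trichotomy m N with hlt | heq | hgt
      · rw [if_neg hm0.ne', if_neg hlt.ne, if_pos ⟨hm0, hlt⟩]
        ring
      · rw [if_neg hm0.ne', if_pos heq, if_neg (by omega), heq, Nat.choose_self, Nat.cast_one,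
          ← pow_mul]
        ring
      · rw [if_neg hm0.ne', if_neg hgt.ne', if_neg (by omega), Nat.choose_eq_zero_of_lt hgt,
          Nat.cast_zero]
        ring
  have hdiv : C (π ^ (j * N + 1)) ∣ Ψ := by
    rw [Polynomial.C_dvd_iff_dvd_coeff]
    intro m
    rw [hcoef]
    split_ifs with hcond
    · obtain ⟨hm0, hlt⟩ := hcond
      obtain ⟨k, hk⟩ := Nat.exists_eq_add_of_le hlt.le
      have hk0 : 0 < k := by omega
      obtain ⟨c, hc⟩ := hdvd m k hm0 hk0 hk
      obtain ⟨k', rfl⟩ : ∃ k', k = k' + 1 := ⟨k - 1, by omega⟩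
      refine ⟨π ^ k' * c, ?_⟩
      rw [hc, ← pow_mul, hk]
      have e : (j + 1) * (k' + 1) + j * m = (j * (m + (k' + 1)) + 1) + k' := by ring
      calc π ^ ((j + 1) * (k' + 1)) * c * π ^ (j * m)
          = π ^ ((j + 1) * (k' + 1) + j * m) * c := by rw [pow_add]; ring
        _ = π ^ (j * (m + (k' + 1)) + 1) * (π ^ k' * c) := by rw [e, pow_add]; ring
    · exact dvd_zero _
  obtain ⟨q, hq⟩ := hdiv
  refine ⟨q, ?_, ?_⟩
  · by_contra hdeg
    rw [not_lt] at hdeg
    have hq0 : q ≠ 0 := by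
      rintro rfl
      rw [Polynomial.natDegree_zero] at hdeg
      omega
    have h1 := hcoef q.natDegree
    rw [if_neg (by omega), hq, Polynomial.coeff_C_mul, Polynomial.coeff_natDegree] at h1
    rcases mul_eq_zero.mp h1 with h | h
    · exact pow_ne_zero _ hπ h
    · exact Polynomial.leadingCoeff_ne_zero.mpr hq0 h
  · rw [hΨ, pow_succ, C_mul] at hq
    linear_combination hq

/-! ### descent of divisibility along an integral extension -/

theorem dvd_of_integral {A : Type u} [CommRing A] [IsDomain A] [IsIntegrallyClosed A] (π : A)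
    (hπ : π ≠ 0) {T : Type u} [CommRing T] [Algebra A T] [Algebra (Localization.Away π) T]
    [IsScalarTower A (Localization.Away π) T]
    (hinj : Function.Injective (algebraMap (Localization.Away π) T))
    (x : A) (M : ℕ) (b : T) (hb : IsIntegral A b)
    (hx : algebraMap A T x = (algebraMap A T π) ^ M * b) : π ^ M ∣ x := by
  have huπ : IsUnit (algebraMap A (Localization.Away π) π) :=
    IsLocalization.Away.algebraMap_isUnit π
  obtain ⟨t, ht⟩ : ∃ t : Localization.Away π,
      t * algebraMap A (Localization.Away π) (π ^ M) = algebraMap A (Localization.Away π) x := by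
    have hu : IsUnit (algebraMap A (Localization.Away π) (π ^ M)) := by
      rw [map_pow]
      exact huπ.pow M
    obtain ⟨v, hv⟩ := hu
    exact ⟨algebraMap A _ x * ↑v⁻¹, by rw [mul_assoc, ← hv, Units.inv_mul, mul_one]⟩
  have htb : algebraMap (Localization.Away π) T t = b := by
    have h1 := congrArg (algebraMap (Localization.Away π) T) ht
    rw [map_mul, ← IsScalarTower.algebraMap_apply, ← IsScalarTower.algebraMap_apply, hx,
      map_pow] at h1
    have hu : IsUnit ((algebraMap A T π) ^ M) := by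
      rw [IsScalarTower.algebraMap_apply A (Localization.Away π) T]
      exact (huπ.map _).pow M
    exact hu.mul_left_cancel (by rw [← h1, mul_comm])
  have hint : IsIntegral A t := by
    have := isIntegral_algHom_iff (IsScalarTower.toAlgHom A (Localization.Away π) T) hinj (x := t)
    apply this.mp
    rw [IsScalarTower.coe_toAlgHom', htb]
    exact hb
  have huK : IsUnit ((Algebra.ofId A (FractionRing A)) π) := by
    have : (Algebra.ofId A (FractionRing A)) π = algebraMap A (FractionRing A) π := rfl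
    rw [this]
    exact IsUnit.mk0 _ (by
      intro h
      exact hπ ((IsFractionRing.injective A (FractionRing A)) (by rw [h, map_zero])))
  obtain ⟨ψ, hψd⟩ : ∃ ψ : Localization.Away π →ₐ[A] FractionRing A, ψ = ψ :=
    ⟨IsLocalization.Away.liftAlgHom π huK, rfl⟩
  have hψ : IsIntegral A (ψ t) := hint.map ψ
  obtain ⟨y, hy⟩ := IsIntegrallyClosed.isIntegral_iff.mp hψ
  have h2 := congrArg ψ ht
  rw [map_mul, AlgHom.commutes, AlgHom.commutes, ← hy, ← map_mul] at h2
  have h3 := IsFractionRing.injective A (FractionRing A) h2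
  exact ⟨y, by rw [← h3, mul_comm]⟩

end Groth.Agent.H9.Kum
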