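import Mathlib
import Groth.Agent.Lib.Helper9.Misc.KumA

/-! Helper9: maximal Kummer level and reducedness of the normalization (S14692). -/

set_option autoImplicit false
set_option linter.unusedSectionVars false
set_option linter.unusedVariables false

namespace Groth.Agent.H9.Kum

open Polynomial

universe u

theorem step_A {A : Type u} [CommRing A] (π : A) (N j : ℕ) (hN : N ≠ 0)
    (hlift : ∀ a : A, IsUnit (Ideal.Quotient.mk (Ideal.span {π}) a) → IsUnit a)
    (f g : Aˣ) (f₀ g₀ : A) (q : A[X])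
    (hq : (1 + C (π ^ j) * X) ^ N = 1 + C (π ^ (j * N)) * (X ^ N + C π * q))
    (hfg : (f : A) * (g : A) ^ N = 1 + π ^ (j * N) * f₀)
    (hmem : f₀ - g₀ ^ N ∈ Ideal.span {π}) :
    ∃ (g' : Aˣ) (c : A), (f : A) * (g' : A) ^ N = 1 + π ^ (j * N + 1) * c := by
  obtain ⟨d, hd⟩ := Ideal.mem_span_singleton.mp hmem
  obtain ⟨u, hu⟩ : ∃ u : A, u = 1 + π ^ j * g₀ := ⟨_, rfl⟩
  have hU := congrArg (Polynomial.eval g₀) hq
  simp only [eval_pow, eval_add, eval_one, eval_mul, eval_C, eval_X] at hU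
  rw [← hu] at hU
  obtain ⟨e, he⟩ : ∃ e : A, e = d - eval g₀ q := ⟨_, rfl⟩
  have h1 : (f : A) * (g : A) ^ N = u ^ N + π ^ (j * N + 1) * e := by
    rw [hfg, hU, he, pow_succ]
    linear_combination (π ^ (j * N)) * hd
  have hunit : IsUnit u := by
    apply hlift
    have hmk : Ideal.Quotient.mk (Ideal.span {π}) (u ^ N) =
        Ideal.Quotient.mk (Ideal.span {π}) ((f : A) * (g : A) ^ N) := by
      rw [Ideal.Quotient.eq, Ideal.mem_span_singleton]
      exact ⟨-(π ^ (j * N) * e), by rw [h1, pow_succ]; ring⟩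
    have h2 : IsUnit (Ideal.Quotient.mk (Ideal.span {π}) ((f : A) * (g : A) ^ N)) :=
      (f.isUnit.mul (g.isUnit.pow N)).map _
    rw [← hmk, map_pow] at h2
    exact (isUnit_pow_iff hN).mp h2
  obtain ⟨uu, huu⟩ := hunit
  refine ⟨g * uu⁻¹, e * ((uu⁻¹ : Aˣ) : A) ^ N, ?_⟩
  have h3 : u * ((uu⁻¹ : Aˣ) : A) = 1 := by
    rw [← huu]
    exact uu.mul_inv
  have h4 : u ^ N * ((uu⁻¹ : Aˣ) : A) ^ N = 1 := by rw [← mul_pow, h3, one_pow]
  rw [Units.val_mul]
  linear_combination (((uu⁻¹ : Aˣ) : A) ^ N) * h1 + h4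

theorem step_B {A : Type u} [CommRing A] {T : Type u} [CommRing T] [Algebra A T] (π c : A)
    (N : ℕ) (q : A[X]) (hq : q.natDegree < N) (w : T)
    (hw : w ^ N + algebraMap A T π * aeval w q = algebraMap A T π * algebraMap A T c)
    (hred : (Ideal.span {algebraMap A (integralClosure A T) π}).IsRadical) :
    ∃ w' : T, IsIntegral A w' ∧ w = algebraMap A T π * w' := by
  have hmonic : (X ^ N + (C π * q - C (π * c)) : A[X]).Monic := by
    apply Polynomial.monic_X_pow_add
    refine lt_of_le_of_lt Polynomial.degree_le_natDegree ?_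
    have h1 : (C π * q - C (π * c)).natDegree ≤ q.natDegree := by
      refine (Polynomial.natDegree_sub_le _ _).trans
        (max_le (Polynomial.natDegree_C_mul_le _ _) ?_)
      rw [Polynomial.natDegree_C]
      exact Nat.zero_le _
    exact_mod_cast lt_of_le_of_lt h1 hq
  have hint : IsIntegral A w := by
    refine ⟨_, hmonic, ?_⟩
    rw [← Polynomial.aeval_def]
    simp only [map_add, map_sub, map_mul, map_pow, aeval_X, aeval_C]
    rw [← hw]
    ring
  obtain ⟨wB, hwB⟩ : ∃ wB : integralClosure A T, (wB : T) = w := ⟨⟨w, hint⟩, rfl⟩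
  have hpow : wB ^ N ∈ Ideal.span {algebraMap A (integralClosure A T) π} := by
    rw [Ideal.mem_span_singleton]
    refine ⟨algebraMap A _ c - aeval wB q, ?_⟩
    apply Subtype.ext
    simp only [Subalgebra.coe_pow, Subalgebra.coe_mul, Subalgebra.coe_sub,
      Subalgebra.coe_algebraMap, Polynomial.aeval_subalgebra_coe, hwB]
    linear_combination hw
  have hmemB := hred (Ideal.mem_radical_iff.mpr ⟨N, hpow⟩)
  obtain ⟨w', hw'⟩ := Ideal.mem_span_singleton.mp hmemB
  refine ⟨(w' : T), (mem_integralClosure_iff A T).mp w'.2, ?_⟩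
  rw [← hwB, hw', Subalgebra.coe_mul, Subalgebra.coe_algebraMap]

/-- the cover `A[1/π][Z]/(Z^N - f)` -/
abbrev KL (A : Type u) [CommRing A] (π : A) (N : ℕ) (f : A) : Type u :=
  AdjoinRoot (X ^ N - C (algebraMap A (Localization.Away π) f))

theorem main (A : Type u) [CommRing A] [IsDomain A] [IsIntegrallyClosed A] (π : A)
    (p n j : ℕ) (hp : p.Prime) (hn : 0 < n)
    (hpE : π ^ (p ^ (n - 1) * (p - 1) * (j + 1)) ∣ (p : A))
    (hlift : ∀ a : A, IsUnit (Ideal.Quotient.mk (Ideal.span {π}) a) → IsUnit a)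
    (f g : Aˣ) (f₀ : A)
    (hfg : (f : A) * (g : A) ^ (p ^ n) = 1 + π ^ (j * p ^ n) * f₀)
    (hmax : ∀ (g' : Aˣ) (c : A), (f : A) * (g' : A) ^ (p ^ n) ≠ 1 + π ^ ((j + 1) * p ^ n) * c)
    [IsDomain (AdjoinRoot (X ^ (p ^ n) - C (algebraMap A (Localization.Away π) (f : A))))]
    (hred : (Ideal.span {algebraMap A (integralClosure A
      (AdjoinRoot (X ^ (p ^ n) - C (algebraMap A (Localization.Away π) (f : A))))) π}).IsRadical)
    (g₀ : A) : f₀ - g₀ ^ (p ^ n) ∉ Ideal.span {π} := by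
  intro hmem
  have hN0 : p ^ n ≠ 0 := pow_ne_zero _ hp.ne_zero
  have hNpos : 0 < p ^ n := Nat.pos_of_ne_zero hN0
  have hπ0 : π ≠ 0 := by
    intro h0
    have hu : IsUnit (algebraMap A (Localization.Away π) π) :=
      IsLocalization.Away.algebraMap_isUnit π
    have e : algebraMap A (Localization.Away π) π = algebraMap A (Localization.Away π) 0 :=
      congrArg _ h0
    rw [e, map_zero, isUnit_zero_iff] at hu
    have := congrArg (algebraMap (Localization.Away π) (KL A π (p ^ n) (f : A))) hu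
    rw [map_zero, map_one] at this
    exact zero_ne_one this
  have hdvd : ∀ m k : ℕ, 0 < m → 0 < k → p ^ n = m + k →
      π ^ ((j + 1) * k) ∣ ((p ^ n).choose m : A) :=
    fun m k hm0 hk0 hmk => pi_pow_dvd_choose π p n j hp hpE m k hm0 hk0 hmk
  obtain ⟨q, hqdeg, hq⟩ := exists_q π hπ0 (p ^ n) j hNpos hdvd
  obtain ⟨q', hq'⟩ := exists_q' π (p ^ n) j hdvd
  obtain ⟨g', c, hg'⟩ := step_A π (p ^ n) j hN0 hlift f g f₀ g₀ q hq hfg hmem
  -- the root
  have hroot := AdjoinRoot.eval₂_root (X ^ (p ^ n) - C (algebraMap A (Localization.Away π) (f : A)))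
  rw [eval₂_sub, eval₂_pow, eval₂_X, eval₂_C, sub_eq_zero] at hroot
  obtain ⟨Zr, hZ⟩ : ∃ Zr : KL A π (p ^ n) (f : A),
      Zr ^ (p ^ n) = algebraMap A (KL A π (p ^ n) (f : A)) (f : A) := ⟨_, hroot⟩
  obtain ⟨z, hzd⟩ : ∃ z : KL A π (p ^ n) (f : A),
      z = Zr * algebraMap A (KL A π (p ^ n) (f : A)) (g' : A) := ⟨_, rfl⟩
  have hz : z ^ (p ^ n) = 1 + (algebraMap A (KL A π (p ^ n) (f : A)) π) ^ (j * p ^ n + 1) *
      algebraMap A (KL A π (p ^ n) (f : A)) c := by
    have h1 : z ^ (p ^ n) = algebraMap A (KL A π (p ^ n) (f : A)) ((f : A) * (g' : A) ^ (p ^ n)) := by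
      rw [hzd, mul_pow, hZ, map_mul, map_pow]
    rw [h1, hg']
    simp only [map_add, map_one, map_mul, map_pow]
  have hπu : IsUnit (algebraMap A (KL A π (p ^ n) (f : A)) π) :=
    (IsLocalization.Away.algebraMap_isUnit π).map
      (AdjoinRoot.of (X ^ (p ^ n) - C (algebraMap A (Localization.Away π) (f : A))))
  obtain ⟨πu, hπu'⟩ := hπu
  have hπu2 : IsUnit (algebraMap A (KL A π (p ^ n) (f : A)) π) := ⟨πu, hπu'⟩
  have hinv : (πu : KL A π (p ^ n) (f : A)) * ((πu⁻¹ : (KL A π (p ^ n) (f : A))ˣ) :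
      KL A π (p ^ n) (f : A)) = 1 := πu.mul_inv
  obtain ⟨w, hwd⟩ : ∃ w : KL A π (p ^ n) (f : A),
      w = (z - 1) * ((πu⁻¹ : (KL A π (p ^ n) (f : A))ˣ) : KL A π (p ^ n) (f : A)) ^ j :=
    ⟨_, rfl⟩
  have hw1 : (algebraMap A (KL A π (p ^ n) (f : A)) π) ^ j * w = z - 1 := by
    have hinvj : (πu : KL A π (p ^ n) (f : A)) ^ j *
        ((πu⁻¹ : (KL A π (p ^ n) (f : A))ˣ) : KL A π (p ^ n) (f : A)) ^ j = 1 := by
      rw [← mul_pow, hinv, one_pow]
    rw [← hπu', hwd]
    linear_combination (z - 1) * hinvj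
  have hU2 := congrArg (aeval w) hq
  simp only [map_pow, map_add, map_one, map_mul, aeval_C, aeval_X] at hU2
  have hzw : 1 + (algebraMap A (KL A π (p ^ n) (f : A)) π) ^ j * w = z := by
    rw [hw1]
    ring
  rw [hzw, hz] at hU2
  have hw : w ^ (p ^ n) + algebraMap A (KL A π (p ^ n) (f : A)) π * aeval w q =
      algebraMap A (KL A π (p ^ n) (f : A)) π * algebraMap A (KL A π (p ^ n) (f : A)) c := by
    apply (hπu2.pow (j * p ^ n)).mul_left_cancel
    rw [pow_succ] at hU2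
    linear_combination -hU2
  obtain ⟨w', hw'int, hw'⟩ := step_B π c (p ^ n) q hqdeg w hw hred
  have hzw' : 1 + (algebraMap A (KL A π (p ^ n) (f : A)) π) ^ (j + 1) * w' = z := by
    rw [← hzw, hw', pow_succ]
    ring
  have hU3 := congrArg (aeval w') hq'
  simp only [map_pow, map_add, map_one, map_mul, aeval_C, aeval_X] at hU3
  rw [hzw'] at hU3
  have hb : IsIntegral A (aeval w' q') := by
    have e : aeval w' q' = ((aeval (⟨w', hw'int⟩ : integralClosure A (KL A π (p ^ n) (f : A))) q' :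
        integralClosure A (KL A π (p ^ n) (f : A))) : KL A π (p ^ n) (f : A)) :=
      (Polynomial.aeval_subalgebra_coe q' (integralClosure A (KL A π (p ^ n) (f : A)))
        (⟨w', hw'int⟩ : integralClosure A (KL A π (p ^ n) (f : A)))).symm
    rw [e]
    exact (mem_integralClosure_iff A _).mp (aeval (⟨w', hw'int⟩ :
      integralClosure A (KL A π (p ^ n) (f : A))) q').2
  have hx : algebraMap A (KL A π (p ^ n) (f : A)) ((f : A) * (g' : A) ^ (p ^ n) - 1) =
      (algebraMap A (KL A π (p ^ n) (f : A)) π) ^ ((j + 1) * p ^ n) * aeval w' q' := by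
    have h1 : z ^ (p ^ n) = algebraMap A (KL A π (p ^ n) (f : A)) ((f : A) * (g' : A) ^ (p ^ n)) := by
      rw [hzd, mul_pow, hZ, map_mul, map_pow]
    rw [map_sub, map_one, ← h1, hU3]
    ring
  have : IsDomain (Localization.Away π) :=
    IsLocalization.isDomain_localization (powers_le_nonZeroDivisors_of_noZeroDivisors hπ0)
  have hinj : Function.Injective (algebraMap (Localization.Away π) (KL A π (p ^ n) (f : A))) := by
    apply AdjoinRoot.of.injective_of_degree_ne_zero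
    rw [degree_X_pow_sub_C hNpos]
    exact_mod_cast hN0
  obtain ⟨c', hc'⟩ := dvd_of_integral π hπ0 hinj ((f : A) * (g' : A) ^ (p ^ n) - 1)
    ((j + 1) * p ^ n) (aeval w' q') hb hx
  exact hmax g' c' (by linear_combination hc')

end Groth.Agent.H9.Kum
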