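import Mathlib

/-! Helper9: localization at a class stable under finite coproducts has finite coproducts (dual of Mathlib's `Localization.hasProductsOfShape`). -/

set_option linter.style.haveILetI false
set_option linter.unusedSectionVars false
set_option linter.unusedVariables false

universe v₁ v₂ u₁ u₂
open CategoryTheory Limits CategoryTheory.Functor

namespace Groth.Agent.H9.LCP

section Adj
variable {J : Type*} [Category J] {C : Type*} [Category C]
  {G : (J ⥤ C) ⥤ C} (adj : G ⊣ Functor.const J)

/-- The colimit cocone obtained from a left adjoint of the constant functor. -/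
@[simps]
noncomputable def coconeOfAdj (F : J ⥤ C) : Cocone F where
  pt := G.obj F
  ι := adj.unit.app F

/-- The cocones defined by `coconeOfAdj` are colimit cocones. -/
noncomputable def isColimitCoconeOfAdj (F : J ⥤ C) : IsColimit (coconeOfAdj adj F) where
  desc s := (adj.homEquiv _ _).symm s.ι
  fac s j := by
    have eq := NatTrans.congr_app (adj.unit.naturality s.ι) j
    have eq' := NatTrans.congr_app (adj.right_triangle_components s.pt) j
    dsimp at eq eq' ⊢
    rw [adj.homEquiv_counit]
    change (adj.unit.app F).app j ≫ G.map s.ι ≫ adj.counit.app s.pt = s.ι.app j
    rw [← Category.assoc, ← eq, Category.assoc, eq', Category.comp_id]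
  uniq s m hm := (adj.homEquiv _ _).injective (by
    rw [Equiv.apply_symm_apply]
    ext j
    simpa [adj.homEquiv_unit] using! hm j)

end Adj

namespace Localization

variable {C : Type u₁} {D : Type u₂} [Category.{v₁} C] [Category.{v₂} D] (L : C ⥤ D)
  (W : MorphismProperty C) [L.IsLocalization W]

namespace Aux

variable (J : Type) [HasCoproductsOfShape J C] [W.IsStableUnderCoproductsOfShape J]

lemma inverts :
    (W.functorCategory (Discrete J)).IsInvertedBy (colim ⋙ L) :=
  fun _ _ f hf => CategoryTheory.Localization.inverts L W _ (MorphismProperty.colimMap f hf)

variable [W.ContainsIdentities] [Finite J]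

/-- The (candidate) colimit functor for the localized category. -/
noncomputable abbrev colimitFunctor :
    (Discrete J ⥤ D) ⥤ D :=
  CategoryTheory.Localization.lift _ (inverts L W J)
    ((whiskeringRight (Discrete J) C D).obj L)

/-- The functor `colimitFunctor L W J` is induced by `colim ⋙ L`. -/
noncomputable def compColimitFunctorIso :
    ((whiskeringRight (Discrete J) C D).obj L) ⋙ colimitFunctor L W J ≅
      colim ⋙ L := by
  apply CategoryTheory.Localization.fac

noncomputable instance :
    CatCommSq colim ((whiskeringRight (Discrete J) C D).obj L) L (colimitFunctor L W J) where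
  iso := (compColimitFunctorIso L W J).symm

/-- The adjunction between `colimitFunctor L W J` and the constant functor. -/
noncomputable def adj :
    colimitFunctor L W J ⊣ Functor.const _ :=
  colimConstAdj.localization ((whiskeringRight (Discrete J) C D).obj L)
    (W.functorCategory (Discrete J)) L W (colimitFunctor L W J) (Functor.const _)

lemma adj_unit_app (F : Discrete J ⥤ C) :
    (adj L W J).unit.app (F ⋙ L) =
      whiskerRight (colimConstAdj.unit.app F) L ≫
        (Functor.compConstIso (Discrete J) L).inv.app (colim.obj F) ≫
        (Functor.const (Discrete J)).map ((compColimitFunctorIso L W J).inv.app F) := by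
  apply colimConstAdj.localization_unit_app

set_option backward.isDefEq.respectTransparency.types false in
set_option backward.defeqAttrib.useBackward true in
/-- Auxiliary definition for `preservesCoproductsOfShape`. -/
noncomputable def isColimitMapCocone (F : Discrete J ⥤ C) :
    IsColimit (L.mapCocone (colimit.cocone F)) :=
  IsColimit.ofIsoColimit (isColimitCoconeOfAdj (adj L W J) (F ⋙ L))
    (Cocone.ext ((compColimitFunctorIso L W J).app F) (by
      intro j
      simp [adj_unit_app, colimConstAdj]))

end Aux

variable [W.ContainsIdentities]

include L
lemma hasCoproductsOfShape (J : Type) [Finite J] [HasCoproductsOfShape J C]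
    [W.IsStableUnderCoproductsOfShape J] :
    HasCoproductsOfShape J D :=
  hasColimitsOfShape_iff_isRightAdjoint_const.2
    (Aux.adj L W J).isRightAdjoint

lemma preservesCoproductsOfShape (J : Type) [Finite J]
    [HasCoproductsOfShape J C] [W.IsStableUnderCoproductsOfShape J] :
    PreservesColimitsOfShape (Discrete J) L where
  preservesColimit {F} := preservesColimit_of_preserves_colimit_cocone (colimit.isColimit F)
    (Aux.isColimitMapCocone L W J F)

end Localization

end Groth.Agent.H9.LCP
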