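import Mathlib

/-! Helper9: locally constructible sets contain locally closed points. -/

namespace Groth.Agent.H9.LCons

open AlgebraicGeometry TopologicalSpace Topology

universe u

lemma exists_lc_subset {W : Type*} [TopologicalSpace W] (s : Set W) (hs : IsConstructible s)
    (hne : s.Nonempty) : ∃ t ⊆ s, t.Nonempty ∧ IsLocallyClosed t := by
  revert hne
  induction s, hs using BooleanSubalgebra.closure_sdiff_sup_induction with
  | isSublattice =>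
    exact ⟨fun s hs t ht ↦ ⟨hs.1.union ht.1, hs.2.union ht.2⟩,
      fun s hs t ht ↦ ⟨hs.1.inter ht.1, hs.2.inter_isOpen ht.2 ht.1⟩⟩
  | bot_mem => exact ⟨isOpen_empty, .empty⟩
  | top_mem => exact ⟨isOpen_univ, .univ⟩
  | sdiff U hU V hV =>
    intro hne
    exact ⟨U \ V, le_rfl, hne, hU.1.isLocallyClosed.inter hV.1.isClosed_compl.isLocallyClosed⟩
  | sup s _ t _ hs' ht' =>
    intro hne
    rcases Set.union_nonempty.1 hne with h | h
    · obtain ⟨r, hr, hr1, hr2⟩ := hs' h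
      exact ⟨r, hr.trans Set.subset_union_left, hr1, hr2⟩
    · obtain ⟨r, hr, hr1, hr2⟩ := ht' h
      exact ⟨r, hr.trans Set.subset_union_right, hr1, hr2⟩

/-- A nonempty locally closed subset of a scheme contains a point `x` with `{x}` locally closed. -/
lemma exists_lc_point {X : Scheme.{u}} (Z : Set X) (hZ : IsLocallyClosed Z) (hne : Z.Nonempty) :
    ∃ x ∈ Z, IsLocallyClosed ({x} : Set X) := by
  obtain ⟨O, C, hO, hC, rfl⟩ := hZ
  obtain ⟨z, hzO, hzC⟩ := hne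
  obtain ⟨U, hU, hzU, hUO⟩ := exists_isAffineOpen_mem_and_subset (x := z) (U := ⟨O, hO⟩) hzO
  have : CompactSpace ↥U := isCompact_iff_compactSpace.1 hU.isCompact
  have hS : IsClosed (Subtype.val ⁻¹' C : Set ↥U) := hC.preimage continuous_subtype_val
  obtain ⟨x', hx'S, hx'⟩ := hS.exists_closed_singleton ⟨⟨z, hzU⟩, hzC⟩
  obtain ⟨C', hC', hCeq⟩ := isClosed_induced_iff.1 hx'
  refine ⟨x'.1, ⟨hUO x'.2, hx'S⟩, ⟨U, C', U.isOpen, hC', ?_⟩⟩
  ext t
  constructor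
  · intro ht
    rw [Set.mem_singleton_iff] at ht
    subst ht
    refine ⟨x'.2, ?_⟩
    have : x' ∈ Subtype.val ⁻¹' C' := hCeq ▸ Set.mem_singleton x'
    exact this
  · rintro ⟨htU, htC⟩
    have : (⟨t, htU⟩ : ↥U) ∈ Subtype.val ⁻¹' C' := htC
    rw [hCeq] at this
    exact congrArg Subtype.val (Set.mem_singleton_iff.1 this)

theorem main (X : Scheme.{u}) (E : Set X) (hE : IsLocallyConstructible E) (hne : E.Nonempty) :
    ∃ x ∈ E, IsLocallyClosed ({x} : Set X) := by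
  obtain ⟨e, he⟩ := hne
  obtain ⟨U, hUe, hU, hUE⟩ := hE e
  have heU : e ∈ U := mem_of_mem_nhds hUe
  obtain ⟨t, hts, ⟨t0, ht0⟩, O, C, hO, hC, rfl⟩ := exists_lc_subset _ hUE ⟨⟨e, heU⟩, he⟩
  obtain ⟨O', hO', rfl⟩ := isOpen_induced_iff.1 hO
  obtain ⟨C', hC', rfl⟩ := isClosed_induced_iff.1 hC
  have hT : IsLocallyClosed ((U ∩ O') ∩ C') := ⟨U ∩ O', C', hU.inter hO', hC', rfl⟩
  obtain ⟨x, hxT, hx⟩ := exists_lc_point ((U ∩ O') ∩ C') hT ⟨t0.1, ⟨t0.2, ht0.1⟩, ht0.2⟩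
  refine ⟨x, ?_, hx⟩
  have : (⟨x, hxT.1.1⟩ : ↥U) ∈ (Subtype.val ⁻¹' O' ∩ Subtype.val ⁻¹' C' : Set ↥U) :=
    ⟨hxT.1.2, hxT.2⟩
  exact hts this

end Groth.Agent.H9.LCons
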