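import Mathlib
import Groth.Agent.Lib.Helper9.Misc.LFM1

set_option autoImplicit false
set_option linter.style.haveILetI false
set_option linter.unusedSectionVars false
set_option linter.unusedVariables false

open MvPolynomial Matrix

namespace Groth.Agent.H9.LFM
universe u

variable {k : Type u} [Field k]

/-- an invertible matrix with prescribed nonzero first row. -/
theorem exists_gl_row (u₀ u₁ : k) (hu : u₀ ≠ 0 ∨ u₁ ≠ 0) :
    ∃ g : GL (Fin 2) k, g.val 0 0 = u₀ ∧ g.val 0 1 = u₁ := by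
  by_cases h0 : u₀ = 0
  · have h1 : u₁ ≠ 0 := hu.resolve_left (fun h => h h0)
    refine ⟨Matrix.GeneralLinearGroup.mkOfDetNeZero !![0, u₁; 1, 0] ?_, ?_, ?_⟩
    · rw [Matrix.det_fin_two_of]; simpa using h1
    · simp [Matrix.GeneralLinearGroup.mkOfDetNeZero, h0]
    · simp [Matrix.GeneralLinearGroup.mkOfDetNeZero]
  · refine ⟨Matrix.GeneralLinearGroup.mkOfDetNeZero !![u₀, u₁; 0, 1] ?_, ?_, ?_⟩
    · rw [Matrix.det_fin_two_of]; simpa using h0
    · simp [Matrix.GeneralLinearGroup.mkOfDetNeZero]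
    · simp [Matrix.GeneralLinearGroup.mkOfDetNeZero]

/-- an invertible matrix with prescribed nonzero second column. -/
theorem exists_gl_col (v₀ v₁ : k) (hv : v₀ ≠ 0 ∨ v₁ ≠ 0) :
    ∃ h : GL (Fin 2) k, h.val 0 1 = v₀ ∧ h.val 1 1 = v₁ := by
  by_cases h1 : v₁ = 0
  · have h0 : v₀ ≠ 0 := hv.resolve_right (fun h => h h1)
    refine ⟨Matrix.GeneralLinearGroup.mkOfDetNeZero !![0, v₀; 1, 0] ?_, ?_, ?_⟩
    · rw [Matrix.det_fin_two_of]; simpa using h0
    · simp [Matrix.GeneralLinearGroup.mkOfDetNeZero]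
    · simp [Matrix.GeneralLinearGroup.mkOfDetNeZero, h1]
  · refine ⟨Matrix.GeneralLinearGroup.mkOfDetNeZero !![1, v₀; 0, v₁] ?_, ?_, ?_⟩
    · rw [Matrix.det_fin_two_of]; simpa using h1
    · simp [Matrix.GeneralLinearGroup.mkOfDetNeZero]
    · simp [Matrix.GeneralLinearGroup.mkOfDetNeZero]

theorem entry (g h : Matrix (Fin 2) (Fin 2) k) (M : Matrix (Fin 2) (Fin 2) (MvPolynomial (Fin 3) k))
    (i j : Fin 2) :
    ((MvPolynomial.C : k →+* MvPolynomial (Fin 3) k).mapMatrix g * M *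
        (MvPolynomial.C : k →+* MvPolynomial (Fin 3) k).mapMatrix h) i j =
      C (g i 0) * (C (h 0 j) * M 0 0 + C (h 1 j) * M 0 1) +
        C (g i 1) * (C (h 0 j) * M 1 0 + C (h 1 j) * M 1 1) := by
  simp only [Matrix.mul_apply, Fin.sum_univ_two, RingHom.mapMatrix_apply, Matrix.map_apply]
  ring

theorem main (M : Matrix (Fin 2) (Fin 2) (MvPolynomial (Fin 3) k))
    (hM : ∀ a b : Fin 2, (M a b).IsHomogeneous 1) :
    (∃ l₁ l₂ : MvPolynomial (Fin 3) k, l₁.IsHomogeneous 1 ∧ l₂.IsHomogeneous 1 ∧ M.det = l₁ * l₂) ↔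
    ∃ g h : GL (Fin 2) k,
      ((MvPolynomial.C : k →+* MvPolynomial (Fin 3) k).mapMatrix g.val * M *
        (MvPolynomial.C : k →+* MvPolynomial (Fin 3) k).mapMatrix h.val) 0 1 = 0 := by
  constructor
  · rintro ⟨l₁, l₂, hl₁, hl₂, hdet⟩
    rw [Matrix.det_fin_two] at hdet
    obtain ⟨u₀, u₁, v₀, v₁, hu, hv, huv⟩ := exists_uv (M 0 0) (M 0 1) (M 1 0) (M 1 1) l₁ l₂
      (hM 0 0) (hM 0 1) (hM 1 0) (hM 1 1) hl₁ hdet
    obtain ⟨g, hg0, hg1⟩ := exists_gl_row u₀ u₁ hu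
    obtain ⟨h, hh0, hh1⟩ := exists_gl_col v₀ v₁ hv
    refine ⟨g, h, ?_⟩
    rw [entry, hg0, hg1, hh0, hh1]
    exact huv
  · rintro ⟨g, h, hgh⟩
    set N := (MvPolynomial.C : k →+* MvPolynomial (Fin 3) k).mapMatrix g.val * M *
        (MvPolynomial.C : k →+* MvPolynomial (Fin 3) k).mapMatrix h.val with hN
    have hNhom : ∀ i j, (N i j).IsHomogeneous 1 := by
      intro i j
      rw [hN, entry]
      exact ((((hM 0 0).C_mul _).add ((hM 0 1).C_mul _)).C_mul _).add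
        ((((hM 1 0).C_mul _).add ((hM 1 1).C_mul _)).C_mul _)
    have hdetN : N.det = C g.val.det * M.det * C h.val.det := by
      rw [hN, Matrix.det_mul, Matrix.det_mul, ← RingHom.map_det, ← RingHom.map_det]
    have hdetN' : N.det = N 0 0 * N 1 1 := by
      rw [Matrix.det_fin_two, hgh, zero_mul, sub_zero]
    have hg : g.val.det ≠ 0 := (Matrix.isUnits_det_units g).ne_zero
    have hh : h.val.det ≠ 0 := (Matrix.isUnits_det_units h).ne_zero
    refine ⟨C (g.val.det⁻¹ * h.val.det⁻¹) * N 0 0, N 1 1, (hNhom 0 0).C_mul _, hNhom 1 1, ?_⟩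
    rw [mul_assoc, ← hdetN', hdetN, C_mul]
    have e1 : C (g.val.det)⁻¹ * C g.val.det = (1 : MvPolynomial (Fin 3) k) := by
      rw [← C_mul, inv_mul_cancel₀ hg, C_1]
    have e2 : C (h.val.det)⁻¹ * C h.val.det = (1 : MvPolynomial (Fin 3) k) := by
      rw [← C_mul, inv_mul_cancel₀ hh, C_1]
    calc M.det = (C (g.val.det)⁻¹ * C g.val.det) * (C (h.val.det)⁻¹ * C h.val.det) * M.det := by
          rw [e1, e2, one_mul, one_mul]
      _ = _ := by ring

end Groth.Agent.H9.LFM
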