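import Mathlib
import Groth.Agent.Lib.Helper9.Misc.LFP1

/-! Helper9: S15839 — centralizer of a section of an affine fp group scheme is a closed subscheme of finite presentation. -/

set_option linter.style.haveILetI false
set_option linter.unusedSectionVars false

namespace Groth.Agent.H9.LFP

universe u

open CategoryTheory CategoryTheory.Limits AlgebraicGeometry MonoidalCategory CartesianMonoidalCategory
open MonObj

theorem S15839_main (S : Scheme.{u}) (G : Over S) [GrpObj G]
    [IsAffineHom G.hom] [LocallyOfFinitePresentation G.hom] (g : 𝟙_ (Over S) ⟶ G) :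
    ∃ (Z : Over S) (j : Z ⟶ G), IsClosedImmersion j.left ∧ LocallyOfFinitePresentation j.left ∧
      ∀ (T : Over S) (x : T ⟶ G), (∃ z : T ⟶ Z, z ≫ j = x) ↔
        x * (toUnit T ≫ g) = (toUnit T ≫ g) * x := by
  let α : G ⟶ G := (𝟙 G) * (toUnit G ≫ g)
  let β : G ⟶ G := (toUnit G ≫ g) * (𝟙 G)
  have hα : ∀ (T : Over S) (x : T ⟶ G), x ≫ α = x * (toUnit T ≫ g) := by
    intro T x
    rw [MonObj.comp_mul, Category.comp_id, ← Category.assoc, toUnit_unique (x ≫ toUnit G) (toUnit T)]
  have hβ : ∀ (T : Over S) (x : T ⟶ G), x ≫ β = (toUnit T ≫ g) * x := by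
    intro T x
    rw [MonObj.comp_mul, Category.comp_id, ← Category.assoc, toUnit_unique (x ≫ toUnit G) (toUnit T)]
  refine ⟨equalizer α β, equalizer.ι α β, inferInstance, lfp_equalizer_ι_left α β, ?_⟩
  intro T x
  rw [← hα, ← hβ]
  constructor
  · rintro ⟨z, rfl⟩
    rw [Category.assoc, Category.assoc, equalizer.condition]
  · intro h
    exact ⟨equalizer.lift x h, equalizer.lift_ι x h⟩

end Groth.Agent.H9.LFP
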