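import Mathlib

/-! # LFP1: an algebra which is a retract of the stages of every directed colimit presentation
is finitely presented. -/

set_option linter.style.haveILetI false
set_option linter.unusedSectionVars false
set_option autoImplicit false

namespace Groth.Agent.H9.LFR

universe u

open CategoryTheory CategoryTheory.Limits

section Colim

theorem isColimit_of_surj_inj {J : Type u} [Preorder J] [IsDirected J (· ≤ ·)] [Nonempty J]
    (E : J ⥤ CommRingCat.{u}) (cc : Cocone E)
    (hsurj : ∀ b : cc.pt, ∃ (j : J) (x : E.obj j), (cc.ι.app j).hom x = b)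
    (hinj : ∀ (j : J) (x : E.obj j), (cc.ι.app j).hom x = 0 →
      ∃ (j' : J) (h : j ⟶ j'), (E.map h).hom x = 0) : Nonempty (IsColimit cc) := by
  haveI : IsFiltered J := isFiltered_of_directed_le_nonempty J
  haveI : ReflectsColimit E (forget CommRingCat) :=
    reflectsColimit_of_reflectsIsomorphisms E (forget CommRingCat)
  refine ⟨isColimitOfReflects (forget CommRingCat) ?_⟩
  apply Types.FilteredColimit.isColimitOf'
  · intro b
    obtain ⟨j, x, h⟩ := hsurj b
    exact ⟨j, x, h.symm⟩
  · intro i x y h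
    have h0 : (cc.ι.app i).hom (x - y) = 0 := by
      rw [map_sub]
      exact sub_eq_zero.mpr h
    obtain ⟨k, f, hf⟩ := hinj i (x - y) h0
    refine ⟨k, f, ?_⟩
    rw [map_sub, sub_eq_zero] at hf
    exact hf

end Colim

section Retract

/-- the retract property of an algebra with respect to directed colimit presentations -/
def Retr (A B : Type u) [CommRing A] [CommRing B] [Algebra A B] : Prop :=
  ∀ (J : Type u) [Preorder J] [IsDirected J (· ≤ ·)] [Nonempty J] (E : J ⥤ CommRingCat.{u})
    (α : (Functor.const J).obj (CommRingCat.of A) ⟶ E)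
    (ι : E ⟶ (Functor.const J).obj (CommRingCat.of B)),
    Nonempty (IsColimit (Cocone.mk (CommRingCat.of B) ι)) →
    (∀ j, α.app j ≫ ι.app j = CommRingCat.ofHom (algebraMap A B)) →
    ∃ (j : J) (s : CommRingCat.of B ⟶ E.obj j),
      CommRingCat.ofHom (algebraMap A B) ≫ s = α.app j ∧ s ≫ ι.app j = 𝟙 _

variable {A B : Type u} [CommRing A] [CommRing B] [Algebra A B]

theorem finiteType_of_retr (H : Retr A B) : Algebra.FiniteType A B := by
  let J := {B' : Subalgebra A B // B'.FG}
  haveI : IsDirected J (· ≤ ·) :=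
    ⟨fun x y => ⟨⟨x.1 ⊔ y.1, x.2.sup y.2⟩, (le_sup_left : x.1 ≤ x.1 ⊔ y.1),
      (le_sup_right : y.1 ≤ x.1 ⊔ y.1)⟩⟩
  haveI : Nonempty J := ⟨⟨⊥, Subalgebra.fg_bot⟩⟩
  let E : J ⥤ CommRingCat.{u} :=
    { obj := fun B' => CommRingCat.of B'.1
      map := fun {x y} h => CommRingCat.ofHom (Subalgebra.inclusion (leOfHom h)).toRingHom
      map_id := fun x => by ext b; rfl
      map_comp := fun f g => by ext b; rfl }
  let α : (Functor.const J).obj (CommRingCat.of A) ⟶ E :=
    { app := fun B' => CommRingCat.ofHom (algebraMap A B'.1)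
      naturality := fun x y h => by ext b; rfl }
  let ι : E ⟶ (Functor.const J).obj (CommRingCat.of B) :=
    { app := fun B' => CommRingCat.ofHom B'.1.val.toRingHom
      naturality := fun x y h => by ext b; rfl }
  obtain ⟨j, s, hs1, hs2⟩ := H J E α ι (isColimit_of_surj_inj E _ (by
      intro b
      refine ⟨⟨Algebra.adjoin A {b}, ⟨{b}, by simp⟩⟩, ⟨b, Algebra.subset_adjoin rfl⟩, rfl⟩) (by
      intro j x hx
      refine ⟨j, 𝟙 j, ?_⟩
      have hx' : (x : B) = 0 := hx
      have : x = 0 := Subtype.ext hx'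
      rw [this, map_zero])) (fun j => by ext a; rfl)
  have htop : j.1 = ⊤ := by
    rw [eq_top_iff]
    intro b _
    have h1 : (s ≫ ι.app j).hom b = b := by rw [hs2]; rfl
    have h2 : ((s.hom b : j.1) : B) = b := h1
    rw [← h2]
    exact (s.hom b).2
  exact ⟨htop ▸ j.2⟩

theorem sub_aeval_mem {n : ℕ} (y : Fin n → MvPolynomial (Fin n) A) (z : MvPolynomial (Fin n) A) :
    z - MvPolynomial.aeval y z ∈
      Ideal.span (Set.range fun i => (MvPolynomial.X i : MvPolynomial (Fin n) A) - y i) := by
  induction z using MvPolynomial.induction_on with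
  | C a =>
    rw [MvPolynomial.aeval_C]
    change MvPolynomial.C a - MvPolynomial.C a ∈ _
    rw [sub_self]
    exact Ideal.zero_mem _
  | add p q hp hq =>
    rw [map_add]
    have : p + q - (MvPolynomial.aeval y p + MvPolynomial.aeval y q) =
        (p - MvPolynomial.aeval y p) + (q - MvPolynomial.aeval y q) := by ring
    rw [this]
    exact Ideal.add_mem _ hp hq
  | mul_X p i hp =>
    rw [map_mul, MvPolynomial.aeval_X]
    have : p * MvPolynomial.X i - MvPolynomial.aeval y p * y i =
        (p - MvPolynomial.aeval y p) * MvPolynomial.X i +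
          MvPolynomial.aeval y p * (MvPolynomial.X i - y i) := by ring
    rw [this]
    exact Ideal.add_mem _ (Ideal.mul_mem_right _ _ hp)
      (Ideal.mul_mem_left _ _ (Ideal.subset_span ⟨i, rfl⟩))

section Sys2

variable {n : ℕ} (p : MvPolynomial (Fin n) A →ₐ[A] B)

/-- finitely generated subideals of the kernel -/
abbrev J2 : Type u := {K' : Ideal (MvPolynomial (Fin n) A) // K'.FG ∧ K' ≤ RingHom.ker p.toRingHom}

instance : IsDirected (J2 p) (· ≤ ·) :=
  ⟨fun x y => ⟨⟨x.1 ⊔ y.1, Submodule.FG.sup x.2.1 y.2.1, sup_le x.2.2 y.2.2⟩,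
    (le_sup_left : x.1 ≤ x.1 ⊔ y.1), (le_sup_right : y.1 ≤ x.1 ⊔ y.1)⟩⟩

instance : Nonempty (J2 p) := ⟨⟨⊥, Submodule.fg_bot, bot_le⟩⟩

/-- the system of quotients -/
noncomputable def E2 : J2 p ⥤ CommRingCat.{u} where
  obj K' := CommRingCat.of (MvPolynomial (Fin n) A ⧸ K'.1)
  map {x y} h := CommRingCat.ofHom (Ideal.Quotient.factor (leOfHom h))
  map_id x := CommRingCat.hom_ext (RingHom.ext fun b => by
    obtain ⟨b, rfl⟩ := Ideal.Quotient.mk_surjective b
    simp)
  map_comp f g := CommRingCat.hom_ext (RingHom.ext fun b => by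
    obtain ⟨b, rfl⟩ := Ideal.Quotient.mk_surjective b
    simp)

theorem E2_map_mk {x y : J2 p} (h : x ⟶ y) (z : MvPolynomial (Fin n) A) :
    ((E2 p).map h).hom (Ideal.Quotient.mk x.1 z) = Ideal.Quotient.mk y.1 z := by
  change Ideal.Quotient.factor (leOfHom h) (Ideal.Quotient.mk x.1 z) = _
  rw [Ideal.Quotient.factor_mk]

/-- the structure maps -/
noncomputable def α2 : (Functor.const (J2 p)).obj (CommRingCat.of A) ⟶ E2 p where
  app K' := CommRingCat.ofHom ((Ideal.Quotient.mk K'.1).comp (algebraMap A (MvPolynomial (Fin n) A)))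
  naturality x y h := CommRingCat.hom_ext (RingHom.ext fun b => by
    change ((E2 p).map h).hom (Ideal.Quotient.mk x.1 _) = Ideal.Quotient.mk y.1 _
    rw [E2_map_mk]
    rfl)

theorem α2_app_apply (K' : J2 p) (a : A) :
    ((α2 p).app K').hom a = Ideal.Quotient.mk K'.1 (algebraMap A (MvPolynomial (Fin n) A) a) := rfl

/-- the cocone maps -/
noncomputable def ι2 : E2 p ⟶ (Functor.const (J2 p)).obj (CommRingCat.of B) where
  app K' := CommRingCat.ofHom (Ideal.Quotient.lift K'.1 p.toRingHom (fun z hz => K'.2.2 hz))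
  naturality x y h := CommRingCat.hom_ext (RingHom.ext fun b => by
    obtain ⟨b, rfl⟩ := Ideal.Quotient.mk_surjective b
    have e : ((E2 p).map h).hom (Ideal.Quotient.mk x.1 b) = Ideal.Quotient.mk y.1 b :=
      E2_map_mk p h b
    rw [CommRingCat.hom_comp, RingHom.comp_apply, e]
    rfl)

theorem ι2_app_mk (K' : J2 p) (z : MvPolynomial (Fin n) A) :
    ((ι2 p).app K').hom (Ideal.Quotient.mk K'.1 z) = p z := rfl

theorem isColimit2 (hp : Function.Surjective p) :
    Nonempty (IsColimit (Cocone.mk (CommRingCat.of B) (ι2 p))) := by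
  apply isColimit_of_surj_inj
  · intro b
    obtain ⟨z, rfl⟩ := hp b
    exact ⟨⟨⊥, Submodule.fg_bot, bot_le⟩, Ideal.Quotient.mk _ z, rfl⟩
  · intro j x hx
    obtain ⟨z, rfl⟩ := Ideal.Quotient.mk_surjective x
    have hz : z ∈ RingHom.ker p.toRingHom := hx
    refine ⟨⟨j.1 ⊔ Ideal.span {z},
      Submodule.FG.sup j.2.1 (Submodule.fg_span (Set.finite_singleton z)),
      sup_le j.2.2 ((Ideal.span_singleton_le_iff_mem _).mpr hz)⟩,
      homOfLE (le_sup_left : j.1 ≤ j.1 ⊔ Ideal.span {z}), ?_⟩
    rw [E2_map_mk]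
    exact Ideal.Quotient.eq_zero_iff_mem.mpr
      (Ideal.mem_sup_right (Ideal.mem_span_singleton_self z))

end Sys2

theorem finitePresentation_of_retr (H : Retr A B) : Algebra.FinitePresentation A B := by
  haveI := finiteType_of_retr H
  obtain ⟨n, p, hp⟩ := Algebra.FiniteType.iff_quotient_mvPolynomial''.mp ‹Algebra.FiniteType A B›
  obtain ⟨j, s, hs1, hs2⟩ := H (J2 p) (E2 p) (α2 p) (ι2 p) (isColimit2 p hp)
    (fun j => CommRingCat.hom_ext (RingHom.ext fun a => by
      change p (algebraMap A _ a) = algebraMap A B a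
      rw [AlgHom.commutes]))
  -- choose lifts
  have hy : ∀ i : Fin n, ∃ y : MvPolynomial (Fin n) A,
      Ideal.Quotient.mk j.1 y = s.hom (p (MvPolynomial.X i)) :=
    fun i => Ideal.Quotient.mk_surjective _
  choose y hy using hy
  have hqθ : ∀ z : MvPolynomial (Fin n) A,
      Ideal.Quotient.mk j.1 (MvPolynomial.aeval y z) = s.hom (p z) := by
    have : (Ideal.Quotient.mk j.1).comp
        (MvPolynomial.aeval y : MvPolynomial (Fin n) A →ₐ[A] MvPolynomial (Fin n) A).toRingHom =
        s.hom.comp p.toRingHom := by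
      apply MvPolynomial.ringHom_ext
      · intro a
        have h1 : (CommRingCat.ofHom (algebraMap A B) ≫ s).hom a = ((α2 p).app j).hom a := by
          rw [hs1]
        change s.hom (algebraMap A B a) = _ at h1
        rw [α2_app_apply] at h1
        change Ideal.Quotient.mk j.1 (MvPolynomial.aeval y (MvPolynomial.C a)) =
          s.hom (p (MvPolynomial.C a))
        have h2 : p (MvPolynomial.C a) = algebraMap A B a := by
          rw [← MvPolynomial.algebraMap_eq, AlgHom.commutes]
        rw [MvPolynomial.aeval_C, h2, h1]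
      · intro i
        change Ideal.Quotient.mk j.1 (MvPolynomial.aeval y (MvPolynomial.X i)) =
          s.hom (p (MvPolynomial.X i))
        rw [MvPolynomial.aeval_X, hy]
    intro z
    exact congrArg (fun m => m z) this
  have hsι : ∀ b : B, ((ι2 p).app j).hom (s.hom b) = b := by
    intro b
    have h1 : (s ≫ (ι2 p).app j).hom b = b := by rw [hs2]; rfl
    exact h1
  have hKeq : RingHom.ker p.toRingHom = j.1 ⊔
      Ideal.span (Set.range fun i => (MvPolynomial.X i : MvPolynomial (Fin n) A) - y i) := by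
    apply le_antisymm
    · intro z hz
      have hz' : p z = 0 := hz
      have h1 : MvPolynomial.aeval y z ∈ j.1 :=
        Ideal.Quotient.eq_zero_iff_mem.mp (by rw [hqθ, hz', map_zero]; rfl)
      have h2 := sub_aeval_mem y z
      have : z = MvPolynomial.aeval y z + (z - MvPolynomial.aeval y z) := by ring
      rw [this]
      exact Ideal.add_mem _ (Ideal.mem_sup_left h1) (Ideal.mem_sup_right h2)
    · refine sup_le j.2.2 ?_
      rw [Ideal.span_le]
      rintro _ ⟨i, rfl⟩
      change p (MvPolynomial.X i - y i) = 0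
      rw [map_sub, ← ι2_app_mk p j (y i), hy, hsι, sub_self]
  refine ⟨n, p, hp, ?_⟩
  rw [hKeq]
  exact Submodule.FG.sup j.2.1 (Submodule.fg_span (Set.finite_range _))

end Retract

end Groth.Agent.H9.LFR
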