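import Mathlib
import Groth.Agent.Lib.Helper9.Misc.LFR1

/-! # LFR2: a morphism for which `Mor_S(-, X)` sends directed inverse limits of affine schemes to
surjections from the colimit is locally of finite presentation (S9208). -/

set_option linter.style.haveILetI false
set_option linter.unusedSectionVars false
set_option autoImplicit false

namespace Groth.Agent.H9.LFR

universe u

open CategoryTheory CategoryTheory.Limits AlgebraicGeometry Opposite

theorem S9208_main {X S : Scheme.{u}} (f : X ⟶ S)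
    (h : ∀ (J : Type u) [Preorder J] [IsDirected J (· ≤ ·)] [Nonempty J] (D : Jᵒᵖ ⥤ Scheme.{u})
      (t : D ⟶ (Functor.const Jᵒᵖ).obj S) (c : Limits.Cone D) (_ : Limits.IsLimit c),
      (∀ j, IsAffine (D.obj j)) → ∀ (j₀ : Jᵒᵖ) (g : c.pt ⟶ X), g ≫ f = c.π.app j₀ ≫ t.app j₀ →
        ∃ (j : Jᵒᵖ) (gj : D.obj j ⟶ X), gj ≫ f = t.app j ∧ c.π.app j ≫ gj = g) :
    LocallyOfFinitePresentation f := by
  rw [HasRingHomProperty.iff_appLE (P := @LocallyOfFinitePresentation)]
  intro U V e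
  letI : Algebra Γ(S, U.1) Γ(X, V.1) := (f.appLE U.1 V.1 e).hom.toAlgebra
  change Algebra.FinitePresentation Γ(S, U.1) Γ(X, V.1)
  apply finitePresentation_of_retr
  intro J _ _ _ E α ι hcc hcompat
  obtain ⟨hcc⟩ := hcc
  haveI : IsFiltered J := isFiltered_of_directed_le_nonempty J
  let D : Jᵒᵖ ⥤ Scheme.{u} := E.op ⋙ Scheme.Spec
  let c : Cone D := Scheme.Spec.mapCone (Cocone.mk _ ι).op
  have hc : IsLimit c := isLimitOfPreserves Scheme.Spec hcc.op
  let t : D ⟶ (Functor.const Jᵒᵖ).obj S :=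
    { app := fun j => Spec.map (α.app j.unop) ≫ U.2.fromSpec
      naturality := fun i j φ => by
        have := α.naturality φ.unop
        simp only [Functor.const_obj_obj, Functor.const_obj_map, Category.id_comp] at this
        change Spec.map (E.map φ.unop) ≫ Spec.map (α.app j.unop) ≫ U.2.fromSpec =
          (Spec.map (α.app i.unop) ≫ U.2.fromSpec) ≫ 𝟙 S
        rw [Category.comp_id, ← Spec.map_comp_assoc, ← this] }
  have hA : ∀ j, IsAffine (D.obj j) := fun j => inferInstanceAs (IsAffine (Spec _))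
  obtain ⟨j₀⟩ := ‹Nonempty J›
  have hfs : Spec.map (f.appLE U.1 V.1 e) ≫ U.2.fromSpec = V.2.fromSpec ≫ f :=
    IsAffineOpen.SpecMap_appLE_fromSpec f U.2 V.2 e
  have hπ : ∀ j : Jᵒᵖ, c.π.app j = Spec.map (ι.app j.unop) := fun j => rfl
  have hcomp : ∀ j : J, Spec.map (ι.app j) ≫ Spec.map (α.app j) = Spec.map (f.appLE U.1 V.1 e) := by
    intro j
    rw [← Spec.map_comp, hcompat]
    rfl
  have hg : V.2.fromSpec ≫ f = c.π.app (op j₀) ≫ t.app (op j₀) := by
    rw [hπ]
    change _ = Spec.map (ι.app j₀) ≫ Spec.map (α.app j₀) ≫ U.2.fromSpec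
    rw [← Category.assoc, hcomp, hfs]
  obtain ⟨j, gj, hgj1, hgj2⟩ := h J D t c hc hA (op j₀) V.2.fromSpec hg
  have hΩ : c.π.app j ⁻¹ᵁ (gj ⁻¹ᵁ V.1) = ⊤ := by
    rw [← Scheme.Hom.comp_preimage, hgj2, IsAffineOpen.fromSpec_preimage_self]
  haveI : ∀ {i j : Jᵒᵖ} (φ : i ⟶ j), IsAffineHom (D.map φ) := fun φ =>
    inferInstanceAs (IsAffineHom (Spec.map _))
  haveI : ∀ i, CompactSpace (D.obj i) := fun i => inferInstanceAs (CompactSpace (Spec _))
  obtain ⟨k, fkj, hk⟩ := exists_map_eq_top D c hc (gj ⁻¹ᵁ V.1) hΩ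
  have hgk1 : (D.map fkj ≫ gj) ≫ f = t.app k := by
    rw [Category.assoc, hgj1]
    have := t.naturality fkj
    simp only [Functor.const_obj_obj, Functor.const_obj_map, Category.comp_id] at this
    exact this
  have hgk2 : c.π.app k ≫ (D.map fkj ≫ gj) = V.2.fromSpec := by
    rw [← Category.assoc, c.w fkj, hgj2]
  have hrange : Set.range (D.map fkj ≫ gj) ⊆ Set.range V.2.fromSpec := by
    rw [V.2.range_fromSpec]
    rintro _ ⟨x, rfl⟩
    have : x ∈ D.map fkj ⁻¹ᵁ (gj ⁻¹ᵁ V.1) := by rw [hk]; trivial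
    exact this
  have hℓ := IsOpenImmersion.lift_fac V.2.fromSpec (D.map fkj ≫ gj) hrange
  refine ⟨k.unop, Spec.preimage (IsOpenImmersion.lift V.2.fromSpec (D.map fkj ≫ gj) hrange), ?_, ?_⟩
  · apply Spec.map_injective
    rw [Spec.map_comp, Spec.map_preimage, ← cancel_mono U.2.fromSpec, Category.assoc]
    have h1 : Spec.map (CommRingCat.ofHom (algebraMap Γ(S, U.1) Γ(X, V.1))) ≫ U.2.fromSpec =
        V.2.fromSpec ≫ f := hfs
    rw [h1, ← Category.assoc, hℓ, hgk1]
  · apply Spec.map_injective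
    rw [Spec.map_comp, Spec.map_preimage, ← cancel_mono V.2.fromSpec, Category.assoc, hℓ]
    have h1 : Spec.map (ι.app k.unop) = c.π.app k := rfl
    rw [h1, hgk2]
    change _ = Spec.map (𝟙 _) ≫ _
    rw [Spec.map_id, Category.id_comp]

end Groth.Agent.H9.LFR
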