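import Mathlib
import Groth.Prelude.Def_Magnet3
import Groth.Agent.Lib.Helper9.Misc.MGU1

/-! # LFR3: descent of morphisms `B ⊗ T ⟶ X` along cofiltered limits `T = lim T_j` of affine schemes
over a base `S` (for `B` affine over `S`, `X ⟶ Y` locally of finite presentation / type). -/

set_option autoImplicit false
set_option linter.style.haveILetI false
set_option linter.unusedSectionVars false
set_option linter.unusedVariables false

open CategoryTheory CategoryTheory.Limits AlgebraicGeometry MonoidalCategory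
  CartesianMonoidalCategory Opposite

namespace Groth.Agent.H9.LFR
universe u

open Magnet

section Gen

variable {S : Scheme.{u}} {J : Type u} [Preorder J] [IsDirected J (· ≤ ·)] [Nonempty J]
  {K : Jᵒᵖ ⥤ Over S} {cK : Cone K}

/-- `B ⊗ -` preserves the (cofiltered) limit. -/
noncomputable def isLimitTensor (hcK : IsLimit cK) (B : Over S) :
    IsLimit ((tensorLeft B).mapCone cK) := by
  haveI : IsConnected Jᵒᵖ := IsCofiltered.isConnected _
  haveI : PreservesLimitsOfShape Jᵒᵖ (prod.functor.obj B) := prod_preservesConnectedLimits B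
  haveI : PreservesLimitsOfShape Jᵒᵖ (tensorLeft B) :=
    preservesLimitsOfShape_of_natIso (tensorLeftIsoProd B).symm
  exact isLimitOfPreserves (tensorLeft B) hcK

/-- the scheme-level diagram `j ↦ (B ⊗ K j).left` -/
noncomputable abbrev DB (K : Jᵒᵖ ⥤ Over S) (B : Over S) : Jᵒᵖ ⥤ Scheme.{u} :=
  K ⋙ tensorLeft B ⋙ Over.forget S

noncomputable def isLimitTensorForget (hcK : IsLimit cK) (B : Over S) :
    IsLimit ((tensorLeft B ⋙ Over.forget S).mapCone cK) := by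
  haveI : IsConnected Jᵒᵖ := IsCofiltered.isConnected _
  exact isLimitOfPreserves (Over.forget S) (isLimitTensor hcK B)

/-- a compatible family as a natural transformation to a constant functor -/
noncomputable def tFam (B : Over S) {Y : Over S} (ψ : ∀ j, B ⊗ K.obj j ⟶ Y)
    (hψ : ∀ {i j : Jᵒᵖ} (m : i ⟶ j), (B ◁ K.map m) ≫ ψ j = ψ i) :
    DB K B ⟶ (Functor.const Jᵒᵖ).obj Y.left where
  app j := (ψ j).left
  naturality i j m := by
    simp only [Functor.const_obj_obj, Functor.const_obj_map, Category.comp_id]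
    change (B ◁ K.map m).left ≫ (ψ j).left = (ψ i).left
    rw [← Over.comp_left, hψ]

theorem coh_of_one (B : Over S) {Y : Over S} (ψ : ∀ j, B ⊗ K.obj j ⟶ Y)
    (hψ : ∀ {i j : Jᵒᵖ} (m : i ⟶ j), (B ◁ K.map m) ≫ ψ j = ψ i) (j j₀ : Jᵒᵖ) :
    (B ◁ cK.π.app j) ≫ ψ j = (B ◁ cK.π.app j₀) ≫ ψ j₀ := by
  have key : ∀ {i j : Jᵒᵖ} (m : i ⟶ j), (B ◁ cK.π.app j) ≫ ψ j = (B ◁ cK.π.app i) ≫ ψ i := by
    intro i j m
    rw [← cK.w m, MonoidalCategory.whiskerLeft_comp, Category.assoc, hψ]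
  rw [key (IsCofiltered.minToLeft j j₀), key (IsCofiltered.minToRight j j₀)]

theorem exists_factor (hcK : IsLimit cK) (hA : ∀ j, IsAffine (K.obj j).left)
    (B : Over S) [IsAffineHom B.hom] {X Y : Over S} (f : X ⟶ Y)
    [LocallyOfFinitePresentation f.left]
    (ψ : ∀ j, B ⊗ K.obj j ⟶ Y) (hψ : ∀ {i j : Jᵒᵖ} (m : i ⟶ j), (B ◁ K.map m) ≫ ψ j = ψ i)
    (φ : B ⊗ cK.pt ⟶ X) (hφ : ∀ j, φ ≫ f = (B ◁ cK.π.app j) ≫ ψ j) :
    ∃ (k : Jᵒᵖ) (φk : B ⊗ K.obj k ⟶ X), (B ◁ cK.π.app k) ≫ φk = φ ∧ φk ≫ f = ψ k := by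
  haveI : ∀ i, IsAffine ((DB K B).obj i) := fun i => by
    haveI := hA i
    exact MGU.affine_tensor B (K.obj i)
  obtain ⟨k, g, hg1', hg2'⟩ : ∃ (k : Jᵒᵖ) (g : (B ⊗ K.obj k).left ⟶ X.left),
      (B ◁ cK.π.app k).left ≫ g = φ.left ∧ g ≫ f.left = (ψ k).left :=
    Scheme.exists_π_app_comp_eq_of_locallyOfFinitePresentation
    (DB K B) (tFam B ψ hψ) f.left _ (isLimitTensorForget hcK B) φ.left (by
      ext j
      change (B ◁ cK.π.app j).left ≫ (ψ j).left = φ.left ≫ f.left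
      rw [← Over.comp_left, ← Over.comp_left, hφ j])
  refine ⟨k, Over.homMk g ?_, ?_, ?_⟩
  · rw [← Over.w f, ← Category.assoc, hg2', Over.w]
  · ext : 1
    exact hg1'
  · ext : 1
    exact hg2'

theorem exists_eq (hcK : IsLimit cK) (hA : ∀ j, IsAffine (K.obj j).left)
    (B : Over S) [IsAffineHom B.hom] {X Y : Over S} (f : X ⟶ Y)
    [LocallyOfFiniteType f.left]
    (ψ : ∀ j, B ⊗ K.obj j ⟶ Y) (hψ : ∀ {i j : Jᵒᵖ} (m : i ⟶ j), (B ◁ K.map m) ≫ ψ j = ψ i)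
    {i : Jᵒᵖ} (a b : B ⊗ K.obj i ⟶ X) (ha : a ≫ f = ψ i) (hb : b ≫ f = ψ i)
    (hab : (B ◁ cK.π.app i) ≫ a = (B ◁ cK.π.app i) ≫ b) :
    ∃ (k : Jᵒᵖ) (m : k ⟶ i), (B ◁ K.map m) ≫ a = (B ◁ K.map m) ≫ b := by
  haveI : ∀ i, IsAffine ((DB K B).obj i) := fun i => by
    haveI := hA i
    exact MGU.affine_tensor B (K.obj i)
  obtain ⟨k, m, hm⟩ := Scheme.exists_hom_comp_eq_comp_of_locallyOfFiniteType
    (DB K B) (tFam B ψ hψ) f.left _ (isLimitTensorForget hcK B) (i := i) a.left b.left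
    (by change (ψ i).left = a.left ≫ f.left; rw [← Over.comp_left, ha])
    (by change (ψ i).left = b.left ≫ f.left; rw [← Over.comp_left, hb])
    (by
      change (B ◁ cK.π.app i).left ≫ a.left = (B ◁ cK.π.app i).left ≫ b.left
      rw [← Over.comp_left, ← Over.comp_left, hab])
  refine ⟨k, m, ?_⟩
  ext : 1
  exact hm

theorem exists_equivariant (hcK : IsLimit cK) (hA : ∀ j, IsAffine (K.obj j).left)
    {A B : Over S} [MonObj A] [IsAffineHom A.hom] [IsAffineHom B.hom] (ρ : MonAct A B)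
    {X Y : Over S} (aX : MonAct A X) (aY : MonAct A Y) (f : X ⟶ Y)
    (hf : MonAct.IsEquivariant aX aY f) [LocallyOfFiniteType f.left]
    (ψ : ∀ j, B ⊗ K.obj j ⟶ Y) (hψ : ∀ {i j : Jᵒᵖ} (m : i ⟶ j), (B ◁ K.map m) ≫ ψ j = ψ i)
    (hψe : ∀ j, MonAct.IsEquivariant (ρ.prod (MonAct.trivial A (K.obj j))) aY (ψ j))
    {i : Jᵒᵖ} (φi : B ⊗ K.obj i ⟶ X) (hφi : φi ≫ f = ψ i)
    (he : MonAct.IsEquivariant (ρ.prod (MonAct.trivial A cK.pt)) aX ((B ◁ cK.π.app i) ≫ φi)) :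
    ∃ (k : Jᵒᵖ) (m : k ⟶ i),
      MonAct.IsEquivariant (ρ.prod (MonAct.trivial A (K.obj k))) aX ((B ◁ K.map m) ≫ φi) := by
  have hA₂ : ∀ j, IsAffine ((K ⋙ tensorLeft B).obj j).left := fun j => by
    haveI := hA j
    exact MGU.affine_tensor B (K.obj j)
  have hψ₂ : ∀ {i j : Jᵒᵖ} (m : i ⟶ j),
      (A ◁ (K ⋙ tensorLeft B).map m) ≫ ((ρ.prod (MonAct.trivial A (K.obj j))).act ≫ ψ j) =
        (ρ.prod (MonAct.trivial A (K.obj i))).act ≫ ψ i := by
    intro i j m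
    change (A ◁ (B ◁ K.map m)) ≫ _ = _
    rw [← MonAct.prod_trivial_act_whiskerLeft_assoc, hψ]
  unfold MonAct.IsEquivariant at he hf
  obtain ⟨k, m, hm⟩ := exists_eq (K := K ⋙ tensorLeft B) (cK := (tensorLeft B).mapCone cK)
    (isLimitTensor hcK B) hA₂ A f
    (fun j => (ρ.prod (MonAct.trivial A (K.obj j))).act ≫ ψ j) hψ₂ (i := i)
    ((ρ.prod (MonAct.trivial A (K.obj i))).act ≫ φi) ((A ◁ φi) ≫ aX.act)
    (by rw [Category.assoc, hφi])
    (by
      have h := hψe i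
      unfold MonAct.IsEquivariant at h
      rw [Category.assoc, hf, ← MonoidalCategory.whiskerLeft_comp_assoc, hφi, h])
    (by
      change (A ◁ (B ◁ cK.π.app i)) ≫ _ = (A ◁ (B ◁ cK.π.app i)) ≫ _
      rw [← MonAct.prod_trivial_act_whiskerLeft_assoc]
      exact he.trans (by rw [MonoidalCategory.whiskerLeft_comp, Category.assoc]))
  refine ⟨k, m, ?_⟩
  unfold MonAct.IsEquivariant
  have hm' : (A ◁ (B ◁ K.map m)) ≫ (ρ.prod (MonAct.trivial A (K.obj i))).act ≫ φi =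
      (A ◁ (B ◁ K.map m)) ≫ (A ◁ φi) ≫ aX.act := hm
  rw [MonAct.prod_trivial_act_whiskerLeft_assoc, hm', MonoidalCategory.whiskerLeft_comp,
    Category.assoc]

end Gen

end Groth.Agent.H9.LFR
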