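import Mathlib
import Groth.Prelude.Def_Magnet3
import Groth.Agent.Lib.Helper9.Misc.LFR2
import Groth.Agent.Lib.Helper9.Misc.LFR3

/-! # LFR4: morphisms between representing objects of functors of equivariant maps
(`postcomp` along an lfp equivariant map, `precomp` along an equivariant map of the sources)
are locally of finite presentation. -/

set_option autoImplicit false
set_option linter.style.haveILetI false
set_option linter.unusedSectionVars false
set_option linter.unusedVariables false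

open CategoryTheory CategoryTheory.Limits AlgebraicGeometry MonoidalCategory
  CartesianMonoidalCategory Opposite

namespace Groth.Agent.H9.LFR
universe u

open Magnet

section Lift

variable {S : Scheme.{u}} {J : Type u} [Preorder J] [IsDirected J (· ≤ ·)] [Nonempty J]
  (D : Jᵒᵖ ⥤ Scheme.{u}) {Z : Over S} (t : D ⟶ (Functor.const Jᵒᵖ).obj Z.left) (c : Cone D)

/-- the structure maps to `S` -/
def sOf : D ⟶ (Functor.const Jᵒᵖ).obj S where
  app j := t.app j ≫ Z.hom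
  naturality i j m := by
    have := t.naturality m
    simp only [Functor.const_obj_obj, Functor.const_obj_map, Category.comp_id] at this ⊢
    rw [← Category.assoc, this]

/-- the diagram lifted to `Over S` -/
abbrev KOf : Jᵒᵖ ⥤ Over S := Over.lift D (sOf D t)

theorem coh (j j₀ : Jᵒᵖ) : c.π.app j ≫ t.app j = c.π.app j₀ ≫ t.app j₀ := by
  have key : ∀ {i j : Jᵒᵖ} (m : i ⟶ j), c.π.app j ≫ t.app j = c.π.app i ≫ t.app i := by
    intro i j m
    have := t.naturality m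
    simp only [Functor.const_obj_obj, Functor.const_obj_map, Category.comp_id] at this
    rw [← c.w m, Category.assoc, this]
  rw [key (IsCofiltered.minToLeft j j₀), key (IsCofiltered.minToRight j j₀)]

/-- the cone lifted to `Over S` -/
def cKOf (j₀ : Jᵒᵖ) : Cone (KOf D t) :=
  Over.liftCone D (sOf D t) c (c.π.app j₀ ≫ t.app j₀ ≫ Z.hom) (fun j => by
    change c.π.app j ≫ t.app j ≫ Z.hom = _
    rw [← Category.assoc, coh D t c j j₀, Category.assoc])

def isLimitCKOf (hc : IsLimit c) (j₀ : Jᵒᵖ) : IsLimit (cKOf D t c j₀) :=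
  Over.isLimitLiftCone D (sOf D t) c _ _ hc

/-- the structure maps to `Z` -/
def zOf (j : Jᵒᵖ) : (KOf D t).obj j ⟶ Z := Over.homMk (t.app j) rfl

theorem map_zOf {i j : Jᵒᵖ} (m : i ⟶ j) : (KOf D t).map m ≫ zOf D t j = zOf D t i := by
  ext : 1
  have := t.naturality m
  simp only [Functor.const_obj_obj, Functor.const_obj_map, Category.comp_id] at this
  exact this

end Lift

section Descend

variable {S : Scheme.{u}} {J : Type u} [Preorder J] [IsDirected J (· ≤ ·)] [Nonempty J]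
  {K : Jᵒᵖ ⥤ Over S} {cK : Cone K}

theorem descend_postcomp (hcK : IsLimit cK) (hA : ∀ j, IsAffine (K.obj j).left)
    {A B : Over S} [MonObj A] [IsAffineHom A.hom] [IsAffineHom B.hom] (ρ : MonAct A B)
    {X Y : Over S} (aX : MonAct A X) (aY : MonAct A Y) (f : X ⟶ Y)
    (hf : MonAct.IsEquivariant aX aY f) [LocallyOfFinitePresentation f.left]
    {ZX ZY : Over S} (eX : (MonAct.eqvHom ρ aX).RepresentableBy ZX)
    (eY : (MonAct.eqvHom ρ aY).RepresentableBy ZY) (j : ZX ⟶ ZY)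
    (hj : ∀ (T : Over S) (z : T ⟶ ZX),
      eY.homEquiv (z ≫ j) = (MonAct.eqvHom.postcomp ρ f hf).app (op T) (eX.homEquiv z))
    (z : ∀ i, K.obj i ⟶ ZY) (hz : ∀ {i i' : Jᵒᵖ} (m : i ⟶ i'), K.map m ≫ z i' = z i)
    (g' : cK.pt ⟶ ZX) (j₀ : Jᵒᵖ) (hg : g' ≫ j = cK.π.app j₀ ≫ z j₀) :
    ∃ (k : Jᵒᵖ) (gk : K.obj k ⟶ ZX), gk ≫ j = z k ∧ cK.π.app k ≫ gk = g' := by
  have hψ : ∀ {i i' : Jᵒᵖ} (m : i ⟶ i'),
      (B ◁ K.map m) ≫ (eY.homEquiv (z i')).1 = (eY.homEquiv (z i)).1 := by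
    intro i i' m
    have h := eY.homEquiv_comp (K.map m) (z i')
    rw [hz m] at h
    exact (congrArg Subtype.val h).symm
  have hφ : ∀ i, (eX.homEquiv g').1 ≫ f = (B ◁ cK.π.app i) ≫ (eY.homEquiv (z i)).1 := by
    intro i
    rw [coh_of_one B (fun i => (eY.homEquiv (z i)).1) hψ i j₀]
    have h1 := hj _ g'
    rw [hg, eY.homEquiv_comp] at h1
    exact (congrArg Subtype.val h1).symm
  obtain ⟨k₁, φ₁, h1, h2⟩ := exists_factor hcK hA B f (fun i => (eY.homEquiv (z i)).1) hψ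
    (eX.homEquiv g').1 hφ
  obtain ⟨k₂, m, heq⟩ := exists_equivariant hcK hA ρ aX aY f hf
    (fun i => (eY.homEquiv (z i)).1) hψ (fun i => (eY.homEquiv (z i)).2) φ₁ h2
    (by rw [h1]; exact (eX.homEquiv g').2)
  refine ⟨k₂, eX.homEquiv.symm ⟨(B ◁ K.map m) ≫ φ₁, heq⟩, ?_, ?_⟩
  · apply eY.homEquiv.injective
    rw [hj, Equiv.apply_symm_apply]
    apply Subtype.ext
    change ((B ◁ K.map m) ≫ φ₁) ≫ f = _
    rw [Category.assoc, h2, hψ]
  · apply eX.homEquiv.injective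
    rw [eX.homEquiv_comp, Equiv.apply_symm_apply]
    apply Subtype.ext
    change (B ◁ cK.π.app k₂) ≫ (B ◁ K.map m) ≫ φ₁ = _
    rw [← MonoidalCategory.whiskerLeft_comp_assoc, cK.w m, h1]

theorem descend_precomp (hcK : IsLimit cK) (hA : ∀ j, IsAffine (K.obj j).left)
    {A B B' : Over S} [MonObj A] [IsAffineHom A.hom] [IsAffineHom B.hom] [IsAffineHom B'.hom]
    (ρ : MonAct A B) (ρ' : MonAct A B') (θ : B' ⟶ B) (hθ : MonAct.IsEquivariant ρ' ρ θ)
    {X : Over S} (a : MonAct A X) [LocallyOfFinitePresentation X.hom]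
    {ZN ZF : Over S} (eN : (MonAct.eqvHom ρ a).RepresentableBy ZN)
    (eF : (MonAct.eqvHom ρ' a).RepresentableBy ZF) (j : ZN ⟶ ZF)
    (hj : ∀ (T : Over S) (z : T ⟶ ZN),
      eF.homEquiv (z ≫ j) = (MonAct.eqvHom.precomp a θ hθ).app (op T) (eN.homEquiv z))
    (z : ∀ i, K.obj i ⟶ ZF) (hz : ∀ {i i' : Jᵒᵖ} (m : i ⟶ i'), K.map m ≫ z i' = z i)
    (g' : cK.pt ⟶ ZN) (j₀ : Jᵒᵖ) (hg : g' ≫ j = cK.π.app j₀ ≫ z j₀) :
    ∃ (k : Jᵒᵖ) (gk : K.obj k ⟶ ZN), gk ≫ j = z k ∧ cK.π.app k ≫ gk = g' := by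
  haveI : LocallyOfFinitePresentation (toUnit X).left := ‹LocallyOfFinitePresentation X.hom›
  have hψ : ∀ {i i' : Jᵒᵖ} (m : i ⟶ i'),
      (B' ◁ K.map m) ≫ (eF.homEquiv (z i')).1 = (eF.homEquiv (z i)).1 := by
    intro i i' m
    have h := eF.homEquiv_comp (K.map m) (z i')
    rw [hz m] at h
    exact (congrArg Subtype.val h).symm
  have hφ : (θ ▷ cK.pt) ≫ (eN.homEquiv g').1 = (B' ◁ cK.π.app j₀) ≫ (eF.homEquiv (z j₀)).1 := by
    have h1 := hj _ g'
    rw [hg, eF.homEquiv_comp] at h1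
    exact (congrArg Subtype.val h1).symm
  -- step 1: factor
  obtain ⟨k₁, φ₁, h1, -⟩ := exists_factor hcK hA B (toUnit X) (fun i => toUnit (B ⊗ K.obj i))
    (fun m => toUnit_unique _ _) (eN.homEquiv g').1 (fun i => toUnit_unique _ _)
  -- step 2: equivariance
  obtain ⟨k₂, m₂, heq₂⟩ := exists_equivariant hcK hA ρ a (MonAct.trivial A (𝟙_ (Over S)))
    (toUnit X) (toUnit_unique _ _) (fun i => toUnit (B ⊗ K.obj i))
    (fun m => toUnit_unique _ _) (fun i => toUnit_unique _ _) φ₁ (toUnit_unique _ _)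
    (by rw [h1]; exact (eN.homEquiv g').2)
  have h2 : (B ◁ cK.π.app k₂) ≫ (B ◁ K.map m₂) ≫ φ₁ = (eN.homEquiv g').1 := by
    rw [← MonoidalCategory.whiskerLeft_comp_assoc, cK.w m₂, h1]
  -- step 3: compatibility with θ
  obtain ⟨k₃, m₃, h3⟩ := exists_eq hcK hA B' (toUnit X) (fun i => toUnit (B' ⊗ K.obj i))
    (fun m => toUnit_unique _ _) (i := k₂) ((θ ▷ K.obj k₂) ≫ (B ◁ K.map m₂) ≫ φ₁)
    (eF.homEquiv (z k₂)).1 (toUnit_unique _ _) (toUnit_unique _ _)
    (by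
      rw [whisker_exchange_assoc, h2]
      exact hφ.trans (coh_of_one B' (fun i => (eF.homEquiv (z i)).1) hψ k₂ j₀).symm)
  refine ⟨k₃, eN.homEquiv.symm ((MonAct.eqvHom ρ a).map (K.map m₃).op
    ⟨(B ◁ K.map m₂) ≫ φ₁, heq₂⟩), ?_, ?_⟩
  · apply eF.homEquiv.injective
    rw [hj, Equiv.apply_symm_apply]
    apply Subtype.ext
    change (θ ▷ K.obj k₃) ≫ (B ◁ K.map m₃) ≫ (B ◁ K.map m₂) ≫ φ₁ = _
    rw [← whisker_exchange_assoc, h3, hψ]
  · apply eN.homEquiv.injective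
    rw [eN.homEquiv_comp, Equiv.apply_symm_apply]
    apply Subtype.ext
    change (B ◁ cK.π.app k₃) ≫ (B ◁ K.map m₃) ≫ (B ◁ K.map m₂) ≫ φ₁ = _
    rw [← MonoidalCategory.whiskerLeft_comp_assoc, cK.w m₃, h2]

end Descend

section Lfp

variable {S : Scheme.{u}}

theorem lfp_postcomp
    {A B : Over S} [MonObj A] [IsAffineHom A.hom] [IsAffineHom B.hom] (ρ : MonAct A B)
    {X Y : Over S} (aX : MonAct A X) (aY : MonAct A Y) (f : X ⟶ Y)
    (hf : MonAct.IsEquivariant aX aY f) [LocallyOfFinitePresentation f.left]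
    {ZX ZY : Over S} (eX : (MonAct.eqvHom ρ aX).RepresentableBy ZX)
    (eY : (MonAct.eqvHom ρ aY).RepresentableBy ZY) (j : ZX ⟶ ZY)
    (hj : ∀ (T : Over S) (z : T ⟶ ZX),
      eY.homEquiv (z ≫ j) = (MonAct.eqvHom.postcomp ρ f hf).app (op T) (eX.homEquiv z)) :
    LocallyOfFinitePresentation j.left := by
  apply S9208_main
  intro J _ _ _ D t c hc hA j₀ g hg
  have hg' : g ≫ ZX.hom = c.π.app j₀ ≫ t.app j₀ ≫ ZY.hom := by
    rw [← Over.w j, ← Category.assoc g, hg, Category.assoc]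
  obtain ⟨k, gk, h1, h2⟩ := descend_postcomp (K := KOf D t) (cK := cKOf D t c j₀)
    (isLimitCKOf D t c hc j₀) hA ρ aX aY f hf eX eY j hj (zOf D t) (map_zOf D t)
    (Over.homMk g hg') j₀ (by ext : 1; exact hg)
  exact ⟨k, gk.left, congrArg CommaMorphism.left h1, congrArg CommaMorphism.left h2⟩

theorem lfp_precomp
    {A B B' : Over S} [MonObj A] [IsAffineHom A.hom] [IsAffineHom B.hom] [IsAffineHom B'.hom]
    (ρ : MonAct A B) (ρ' : MonAct A B') (θ : B' ⟶ B) (hθ : MonAct.IsEquivariant ρ' ρ θ)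
    {X : Over S} (a : MonAct A X) [LocallyOfFinitePresentation X.hom]
    {ZN ZF : Over S} (eN : (MonAct.eqvHom ρ a).RepresentableBy ZN)
    (eF : (MonAct.eqvHom ρ' a).RepresentableBy ZF) (j : ZN ⟶ ZF)
    (hj : ∀ (T : Over S) (z : T ⟶ ZN),
      eF.homEquiv (z ≫ j) = (MonAct.eqvHom.precomp a θ hθ).app (op T) (eN.homEquiv z)) :
    LocallyOfFinitePresentation j.left := by
  apply S9208_main
  intro J _ _ _ D t c hc hA j₀ g hg
  have hg' : g ≫ ZN.hom = c.π.app j₀ ≫ t.app j₀ ≫ ZF.hom := by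
    rw [← Over.w j, ← Category.assoc g, hg, Category.assoc]
  obtain ⟨k, gk, h1, h2⟩ := descend_precomp (K := KOf D t) (cK := cKOf D t c j₀)
    (isLimitCKOf D t c hc j₀) hA ρ ρ' θ hθ a eN eF j hj (zOf D t) (map_zOf D t)
    (Over.homMk g hg') j₀ (by ext : 1; exact hg)
  exact ⟨k, gk.left, congrArg CommaMorphism.left h1, congrArg CommaMorphism.left h2⟩

end Lfp

end Groth.Agent.H9.LFR
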