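import Mathlib
import Groth.Prelude.Def_Magnet4
import Groth.Agent.Lib.Helper1.SmLift
import Groth.Agent.Lib.Helper9.Misc.MGU2
import Groth.Agent.Lib.Helper9.Misc.EL4
import Groth.Agent.Lib.Helper9.Misc.EL6
import Groth.Agent.Lib.Helper9.Misc.LFR4

/-! # LFR5: smoothness of `X^N → Y^N` and of `X^N → X^F` on representing schemes
(S18233, S18241). -/

set_option autoImplicit false
set_option linter.style.haveILetI false
set_option linter.unusedSectionVars false
set_option linter.unusedVariables false

open CategoryTheory CategoryTheory.Limits AlgebraicGeometry MonoidalCategory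
  CartesianMonoidalCategory Opposite

namespace Groth.Agent.H9.LFR
universe u

open Magnet

theorem S18233_main (S : Scheme.{u}) (M : Type) [AddCommGroup M] [AddGroup.FG M]
    (N : AddSubmonoid M) {X Y : Over S} (aX : Magnet.MonAct (Magnet.AMonS S M) X)
    (aY : Magnet.MonAct (Magnet.AMonS S M) Y) (f : X ⟶ Y) (hf : Magnet.MonAct.IsEquivariant aX aY f)
    [Smooth f.left] {ZX ZY : Over S} (eX : (Magnet.attr aX N).RepresentableBy ZX)
    (eY : (Magnet.attr aY N).RepresentableBy ZY)
    (j : ZX ⟶ ZY) (hj : ∀ (T : Over S) (z : T ⟶ ZX),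
      eY.homEquiv (z ≫ j) =
        (Magnet.MonAct.eqvHom.postcomp (Magnet.subAct S M N) f hf).app (op T) (eX.homEquiv z)) :
    Smooth j.left := by
  rw [Groth.Agent.H1.SmLift.smooth_iff]
  refine ⟨?_, ?_⟩
  · haveI : LocallyOfFinitePresentation f.left := inferInstance
    exact lfp_postcomp (subAct S M N) aX aY f hf eX eY j hj
  · intro A _ I hI a b hab
    have hstr : a ≫ ZX.hom =
        Spec.map (CommRingCat.ofHom (Ideal.Quotient.mk I)) ≫ b ≫ ZY.hom := by
      rw [← Over.w j, ← Category.assoc a, ← hab, Category.assoc]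
    obtain ⟨l, hl1, hl2⟩ := EL.S18231_main S M N aX aY f hf A I hI (b ≫ ZY.hom)
      (eX.homEquiv (Over.homMk a hstr :
        Over.mk (Spec.map (CommRingCat.ofHom (Ideal.Quotient.mk I)) ≫ b ≫ ZY.hom) ⟶ ZX))
      (eY.homEquiv (Over.homMk b rfl : Over.mk (b ≫ ZY.hom) ⟶ ZY))
      (by
        rw [← hj, ← eY.homEquiv_comp]
        congr 1
        ext : 1
        exact hab.symm)
    refine ⟨(eX.homEquiv.symm l).left, ?_, ?_⟩
    · have : (Over.homMk (Spec.map (CommRingCat.ofHom (Ideal.Quotient.mk I))) rfl :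
          Over.mk (Spec.map (CommRingCat.ofHom (Ideal.Quotient.mk I)) ≫ b ≫ ZY.hom) ⟶
            Over.mk (b ≫ ZY.hom)) ≫ eX.homEquiv.symm l = Over.homMk a hstr := by
        apply eX.homEquiv.injective
        rw [eX.homEquiv_comp, Equiv.apply_symm_apply]
        exact hl1
      exact congrArg CommaMorphism.left this
    · have : eX.homEquiv.symm l ≫ j = Over.homMk b rfl := by
        apply eY.homEquiv.injective
        rw [hj, Equiv.apply_symm_apply]
        exact hl2
      exact congrArg CommaMorphism.left this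

theorem S18241_main (S : Scheme.{u}) (M : Type) [AddCommGroup M] [AddGroup.FG M]
    {N F : AddSubmonoid M} (hF : Magnet.IsFace N F) {X : Over S} [Smooth X.hom]
    (a : Magnet.MonAct (Magnet.AMonS S M) X) {ZN ZF : Over S}
    (eN : (Magnet.attr a N).RepresentableBy ZN)
    (eF : (Magnet.attr a F).RepresentableBy ZF) (j : ZN ⟶ ZF)
    (hj : ∀ (T : Over S) (z : T ⟶ ZN),
      eF.homEquiv (z ≫ j) = (Magnet.attrFace a hF).app (op T) (eN.homEquiv z)) :
    Smooth j.left := by
  rw [Groth.Agent.H1.SmLift.smooth_iff]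
  refine ⟨?_, ?_⟩
  · haveI : LocallyOfFinitePresentation X.hom := inferInstance
    exact lfp_precomp (subAct S M N) (subAct S M F) (AMonS.faceMap S hF)
      (isEquivariant_faceMapS S hF) a eN eF j hj
  · intro A _ I hI a' b hab
    have hstr : a' ≫ ZN.hom =
        Spec.map (CommRingCat.ofHom (Ideal.Quotient.mk I)) ≫ b ≫ ZF.hom := by
      rw [← Over.w j, ← Category.assoc a', ← hab, Category.assoc]
    obtain ⟨l, hl1, hl2⟩ := EL.S18240_main S M hF a A I hI (b ≫ ZF.hom)
      (eN.homEquiv (Over.homMk a' hstr :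
        Over.mk (Spec.map (CommRingCat.ofHom (Ideal.Quotient.mk I)) ≫ b ≫ ZF.hom) ⟶ ZN))
      (eF.homEquiv (Over.homMk b rfl : Over.mk (b ≫ ZF.hom) ⟶ ZF))
      (by
        rw [← hj, ← eF.homEquiv_comp]
        congr 1
        ext : 1
        exact hab.symm)
    refine ⟨(eN.homEquiv.symm l).left, ?_, ?_⟩
    · have : (Over.homMk (Spec.map (CommRingCat.ofHom (Ideal.Quotient.mk I))) rfl :
          Over.mk (Spec.map (CommRingCat.ofHom (Ideal.Quotient.mk I)) ≫ b ≫ ZF.hom) ⟶
            Over.mk (b ≫ ZF.hom)) ≫ eN.homEquiv.symm l = Over.homMk a' hstr := by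
        apply eN.homEquiv.injective
        rw [eN.homEquiv_comp, Equiv.apply_symm_apply]
        exact hl1
      exact congrArg CommaMorphism.left this
    · have : eN.homEquiv.symm l ≫ j = Over.homMk b rfl := by
        apply eF.homEquiv.injective
        rw [hj, Equiv.apply_symm_apply]
        exact hl2
      exact congrArg CommaMorphism.left this

end Groth.Agent.H9.LFR
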