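import Mathlib
import Groth.Agent.H4.SemiLang

set_option autoImplicit false
set_option linter.style.haveILetI false
set_option linter.unusedSectionVars false
set_option linter.unusedVariables false

namespace Groth.Agent.H9.LFX

open Polynomial TensorProduct
open Groth.Agent.H4.SemiLang

/-- fixed points of Frobenius in a field of characteristic `p` are natural number casts -/
theorem exists_natCast_of_pow_eq (K : Type*) [Field K] (p : ℕ) [Fact p.Prime] [CharP K p]
    (x : K) (hx : x ^ p = x) : ∃ n : ℕ, x = (n : K) := by
  classical
  have hp : p.Prime := Fact.out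
  set f : K[X] := X ^ p - X with hf
  have hdeg : f.natDegree = p := FiniteField.X_pow_card_sub_X_natDegree_eq K hp.one_lt
  have hf0 : f ≠ 0 := FiniteField.X_pow_card_sub_X_ne_zero K hp.one_lt
  set S : Finset K := (Finset.range p).image (fun n : ℕ => (n : K)) with hS
  have hScard : S.card = p := by
    rw [hS, Finset.card_image_of_injOn, Finset.card_range]
    intro a ha b hb hab
    exact CharP.natCast_injOn_Iio K p (by simpa using ha) (by simpa using hb) hab
  have hSsub : S ⊆ f.roots.toFinset := by
    intro y hy
    obtain ⟨n, -, rfl⟩ := Finset.mem_image.mp hy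
    rw [Multiset.mem_toFinset, mem_roots hf0, IsRoot.def, hf]
    simp only [eval_sub, eval_pow, eval_X]
    rw [← Nat.cast_pow, sub_eq_zero]
    have := map_natCast (frobenius K p) n
    rw [frobenius_def] at this
    exact_mod_cast this
  have hle : f.roots.toFinset.card ≤ S.card := by
    rw [hScard]
    calc f.roots.toFinset.card ≤ Multiset.card f.roots := Multiset.toFinset_card_le _
      _ ≤ f.natDegree := card_roots' f
      _ = p := hdeg
  have heq := Finset.eq_of_subset_of_card_le hSsub hle
  have hxroot : x ∈ f.roots.toFinset := by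
    rw [Multiset.mem_toFinset, mem_roots hf0, IsRoot.def, hf]
    simp only [eval_sub, eval_pow, eval_X]
    rw [hx, sub_self]
  rw [← heq] at hxroot
  obtain ⟨n, -, rfl⟩ := Finset.mem_image.mp hxroot
  exact ⟨n, rfl⟩

section main
universe u
variable {k k' V : Type u} [Field k] [IsAlgClosed k] [Field k']
    [IsAlgClosed k'] [Algebra k k'] (p : ℕ) [Fact p.Prime] [CharP k p]
    [AddCommGroup V] [Module k V] [FiniteDimensional k V] (F : V →+ V)
    (hF : ∀ (c : k) (v : V), F (c • v) = c ^ p • F v)
    (F' : k' ⊗[k] V →+ k' ⊗[k] V) (hF' : ∀ (c : k') (v : V), F' (c ⊗ₜ[k] v) = (c ^ p) ⊗ₜ[k] F v)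

include hF' in
theorem iterate_tmul (n : ℕ) (c : k') (v : V) :
    F'^[n] (c ⊗ₜ[k] v) = (c ^ (p ^ n)) ⊗ₜ[k] F^[n] v := by
  induction n generalizing c v with
  | zero => simp
  | succ n ih =>
    rw [Function.iterate_succ_apply', ih, hF', Function.iterate_succ_apply', ← pow_mul, pow_succ]

include hF' in
theorem isQLin' : IsQLin (k := k') p F' := by
  intro d w
  induction w using TensorProduct.induction_on with
  | zero => simp
  | tmul c v =>
    rw [TensorProduct.smul_tmul', hF', hF', TensorProduct.smul_tmul', smul_eq_mul, smul_eq_mul,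
      mul_pow]
  | add x y hx hy => rw [smul_add, map_add, map_add, hx, hy, smul_add]

theorem tmul_mem_span (b : Set V) (x : V) (hx : x ∈ Submodule.span k b) (c : k') :
    c ⊗ₜ[k] x ∈ Submodule.span k' ((fun y : V => (1 : k') ⊗ₜ[k] y) '' b) := by
  induction hx using Submodule.span_induction generalizing c with
  | mem y hy =>
    have : c ⊗ₜ[k] y = c • ((1 : k') ⊗ₜ[k] y) := by
      rw [TensorProduct.smul_tmul', smul_eq_mul, mul_one]
    rw [this]
    exact Submodule.smul_mem _ _ (Submodule.subset_span ⟨y, hy, rfl⟩)
  | zero => rw [TensorProduct.tmul_zero]; exact Submodule.zero_mem _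
  | add x y _ _ hx hy => rw [TensorProduct.tmul_add]; exact Submodule.add_mem _ (hx c) (hy c)
  | smul a x _ hx =>
    have : c ⊗ₜ[k] (a • x) = (a • c) ⊗ₜ[k] x := by
      rw [TensorProduct.tmul_smul, TensorProduct.smul_tmul']
    rw [this]
    exact hx _

include hF hF' in
theorem main :
    Set.BijOn (fun v : V => (1 : k') ⊗ₜ[k] v) {v : V | F v = v} {w : k' ⊗[k] V | F' w = w} := by
  classical
  have hp : p.Prime := Fact.out
  haveI : CharP k' p := charP_of_injective_algebraMap (algebraMap k k').injective p
  have hinj : Function.Injective (fun v : V => (1 : k') ⊗ₜ[k] v) := by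
    have h1 : Function.Injective (LinearMap.rTensor V (Algebra.linearMap k k')) :=
      Module.Flat.rTensor_preserves_injective_linearMap _ (algebraMap k k').injective
    intro v v' hvv
    have : (LinearMap.rTensor V (Algebra.linearMap k k')) ((1 : k) ⊗ₜ[k] v) =
        (LinearMap.rTensor V (Algebra.linearMap k k')) ((1 : k) ⊗ₜ[k] v') := by
      simpa using hvv
    have := h1 this
    have h2 := congrArg (TensorProduct.lid k V) this
    simpa using h2
  refine ⟨?_, hinj.injOn, ?_⟩
  · intro v hv
    show F' ((1 : k') ⊗ₜ[k] v) = (1 : k') ⊗ₜ[k] v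
    rw [hF', one_pow, hv]
  · intro w hw
    have hw' : F' w = w := hw
    have hqlin : IsQLin (k := k) p F := hF
    obtain ⟨N, hN⟩ := iterate_mem_span_fixed (k := k) (V := V) hp.one_lt
      (CharP.cast_eq_zero k p) hqlin
    obtain ⟨b, hbsub, hbspan, hbli0⟩ := exists_linearIndependent k {x : V | F x = x}
    have hbli : LinearIndepOn k id b := hbli0
    set T : Set (k' ⊗[k] V) := (fun y : V => (1 : k') ⊗ₜ[k] y) '' b with hT
    have hiter : ∀ w : k' ⊗[k] V, F'^[N + 1] w ∈ Submodule.span k' T := by
      intro w
      induction w using TensorProduct.induction_on with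
      | zero => rw [iterate_map_zero]; exact Submodule.zero_mem _
      | tmul c v =>
        rw [iterate_tmul p F F' hF']
        apply tmul_mem_span
        rw [hbspan]
        exact hN v
      | add x y hx hy => rw [iterate_map_add]; exact Submodule.add_mem _ hx hy
    have hwT : w ∈ Submodule.span k' T := by
      have := hiter w
      rwa [Function.iterate_fixed hw'] at this
    -- extend b to a basis
    let B := Module.Basis.extend hbli
    let B' := Algebra.TensorProduct.basis k' B
    have hB : ∀ i, B i = (i : V) := fun i => Module.Basis.extend_apply_self hbli i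
    have hB' : ∀ i, B' i = (1 : k') ⊗ₜ[k] (i : V) := fun i => by
      rw [Algebra.TensorProduct.basis_apply, hB]
    have hbsub' : b ⊆ hbli.extend (Set.subset_univ b) := Module.Basis.subset_extend hbli
    -- index set corresponding to b
    set s : Set (hbli.extend (Set.subset_univ b)) := {i | (i : V) ∈ b} with hs
    have hTs : T = B' '' s := by
      ext y
      constructor
      · rintro ⟨x, hx, rfl⟩
        exact ⟨⟨x, hbsub' hx⟩, hx, hB' _⟩
      · rintro ⟨i, hi, rfl⟩
        exact ⟨(i : V), hi, (hB' i).symm⟩
    rw [hTs, Finsupp.mem_span_image_iff_linearCombination] at hwT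
    obtain ⟨l, hl, hlw⟩ := hwT
    have hlsupp : ∀ i, i ∉ s → l i = 0 := by
      intro i hi
      by_contra h
      exact hi (hl (Finsupp.mem_support_iff.mpr h))
    -- coordinates are Frobenius-fixed
    have hFw : F' w = Finsupp.linearCombination k' B' (l.mapRange (fun d => d ^ p) (by simp [hp.ne_zero])) := by
      rw [← hlw, Finsupp.linearCombination_apply, Finsupp.sum, map_sum,
        Finsupp.linearCombination_apply, Finsupp.sum_mapRange_index (by simp)]
      rw [Finsupp.sum]
      apply Finset.sum_congr rfl
      intro i hi
      rw [isQLin' p F F' hF']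
      congr 1
      have his : i ∈ s := by
        by_contra h
        exact (Finsupp.mem_support_iff.mp hi) (hlsupp i h)
      rw [hB', hF', one_pow]
      congr 1
      exact hbsub his
    have hcoord : ∀ i, (l i) ^ p = l i := by
      intro i
      have h1 : B'.repr (F' w) = B'.repr w := by rw [hw']
      rw [hFw, ← hlw, Module.Basis.repr_linearCombination, Module.Basis.repr_linearCombination] at h1
      have := DFunLike.congr_fun h1 i
      simpa using this
    choose n hn using fun i => exists_natCast_of_pow_eq k' p (l i) (hcoord i)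
    refine ⟨∑ i ∈ l.support, (n i : k) • (i : V), ?_, ?_⟩
    · show F (∑ i ∈ l.support, (n i : k) • (i : V)) = _
      rw [map_sum]
      apply Finset.sum_congr rfl
      intro i hi
      have his : i ∈ s := by
        by_contra h
        exact (Finsupp.mem_support_iff.mp hi) (hlsupp i h)
      rw [hF]
      have h1 : ((n i : k)) ^ p = (n i : k) := by
        have := map_natCast (frobenius k p) (n i)
        rwa [frobenius_def] at this
      rw [h1]
      congr 1
      exact hbsub his
    · show (1 : k') ⊗ₜ[k] (∑ i ∈ l.support, (n i : k) • (i : V)) = w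
      rw [← hlw, Finsupp.linearCombination_apply, Finsupp.sum, TensorProduct.tmul_sum]
      apply Finset.sum_congr rfl
      intro i _
      rw [hB', hn i, Nat.cast_smul_eq_nsmul k', ← Nat.cast_smul_eq_nsmul k, TensorProduct.tmul_smul]

end main

end Groth.Agent.H9.LFX
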