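import Mathlib

/-!
# Points of an affine group scheme with values in an algebra; first-order points (helper9)

`Pt R C T` is the group `Hom_{R-alg}(C, T)` of `T`-valued points of `Spec C` (`C` a commutative Hopf
algebra), embedded in the convolution ring of linear maps `C → T`.  `IsK J g` says that the point
`g` is congruent to the unit point modulo `J T`.  When `J² = 0` these points form a commutative
normal subgroup on which post-composition with unital *linear* maps makes sense (`exists_push`).
-/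

set_option autoImplicit false
set_option linter.unusedSectionVars false
set_option linter.unusedVariables false
set_option linter.style.haveILetI false

namespace Groth.Agent.H9.LIF

open TensorProduct WithConv

noncomputable section

section Lin

variable {R : Type*} [CommRing R] {C : Type*} [CommRing C] [HopfAlgebra R C]
  {T : Type*} [CommRing T] [Algebra R T] {T' : Type*} [CommRing T'] [Algebra R T']
  {T'' : Type*} [CommRing T''] [Algebra R T'']

/-- a convolution element all of whose values lie in an ideal -/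
def ValIn (𝔫 : Ideal T) (D : WithConv (C →ₗ[R] T)) : Prop := ∀ c : C, D.ofConv c ∈ 𝔫

theorem ValIn.zero (𝔫 : Ideal T) : ValIn 𝔫 (0 : WithConv (C →ₗ[R] T)) := fun c => by
  rw [WithConv.ofConv_zero, LinearMap.zero_apply]; exact zero_mem _

theorem ValIn.add {𝔫 : Ideal T} {D D' : WithConv (C →ₗ[R] T)} (h : ValIn 𝔫 D) (h' : ValIn 𝔫 D') :
    ValIn 𝔫 (D + D') := fun c => by
  rw [WithConv.ofConv_add, LinearMap.add_apply]; exact add_mem (h c) (h' c)

theorem ValIn.sub {𝔫 : Ideal T} {D D' : WithConv (C →ₗ[R] T)} (h : ValIn 𝔫 D) (h' : ValIn 𝔫 D') :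
    ValIn 𝔫 (D - D') := fun c => by
  rw [WithConv.ofConv_sub, LinearMap.sub_apply]; exact sub_mem (h c) (h' c)

theorem ValIn.neg {𝔫 : Ideal T} {D : WithConv (C →ₗ[R] T)} (h : ValIn 𝔫 D) :
    ValIn 𝔫 (-D) := fun c => by
  rw [WithConv.ofConv_neg, LinearMap.neg_apply]; exact neg_mem (h c)

theorem ValIn.mul_left {𝔫 : Ideal T} (f : WithConv (C →ₗ[R] T)) {D : WithConv (C →ₗ[R] T)}
    (h : ValIn 𝔫 D) : ValIn 𝔫 (f * D) := fun c => by
  have e : (f * D).ofConv c = _ := (Coalgebra.Repr.arbitrary R c).convMul_apply f D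
  rw [e]
  exact Ideal.sum_mem _ fun i _ => Ideal.mul_mem_left _ _ (h _)

theorem ValIn.mul_right {𝔫 : Ideal T} {D : WithConv (C →ₗ[R] T)} (h : ValIn 𝔫 D)
    (f : WithConv (C →ₗ[R] T)) : ValIn 𝔫 (D * f) := fun c => by
  have e : (D * f).ofConv c = _ := (Coalgebra.Repr.arbitrary R c).convMul_apply D f
  rw [e]
  exact Ideal.sum_mem _ fun i _ => Ideal.mul_mem_right _ _ (h _)

theorem ValIn.mul_eq_zero {𝔫 : Ideal T} (h𝔫 : ∀ x ∈ 𝔫, ∀ y ∈ 𝔫, x * y = 0)
    {D D' : WithConv (C →ₗ[R] T)} (h : ValIn 𝔫 D) (h' : ValIn 𝔫 D') : D * D' = 0 := by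
  apply WithConv.ext
  apply LinearMap.ext
  intro c
  have e : (D * D').ofConv c = _ := (Coalgebra.Repr.arbitrary R c).convMul_apply D D'
  rw [e, WithConv.ofConv_zero, LinearMap.zero_apply]
  exact Finset.sum_eq_zero fun i _ => h𝔫 _ (h _) _ (h' _)

theorem ValIn.mono {𝔫 𝔫' : Ideal T} (hle : 𝔫 ≤ 𝔫') {D : WithConv (C →ₗ[R] T)} (h : ValIn 𝔫 D) :
    ValIn 𝔫' D := fun c => hle (h c)

/-- post-composition with a linear map -/
def post (lam : T →ₗ[R] T') : WithConv (C →ₗ[R] T) →+ WithConv (C →ₗ[R] T') where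
  toFun D := toConv (lam ∘ₗ D.ofConv)
  map_zero' := by
    apply WithConv.ext
    rw [WithConv.ofConv_toConv, WithConv.ofConv_zero, WithConv.ofConv_zero, LinearMap.comp_zero]
  map_add' D D' := by
    apply WithConv.ext
    rw [WithConv.ofConv_toConv, WithConv.ofConv_add, WithConv.ofConv_add, LinearMap.comp_add]

theorem post_apply (lam : T →ₗ[R] T') (D : WithConv (C →ₗ[R] T)) (c : C) :
    (post lam D).ofConv c = lam (D.ofConv c) := rfl

theorem post_one (lam : T →ₗ[R] T') (h1 : lam 1 = 1) :
    post lam (1 : WithConv (C →ₗ[R] T)) = 1 := by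
  apply WithConv.ext
  apply LinearMap.ext
  intro c
  show lam (algebraMap R T (Coalgebra.counit (R := R) c)) =
    algebraMap R T' (Coalgebra.counit (R := R) c)
  rw [Algebra.algebraMap_eq_smul_one, map_smul, h1, ← Algebra.algebraMap_eq_smul_one]

theorem post_algHom_mul (ρ : T →ₐ[R] T') (D D' : WithConv (C →ₗ[R] T)) :
    post ρ.toLinearMap (D * D') = post ρ.toLinearMap D * post ρ.toLinearMap D' := by
  apply WithConv.ext
  exact LinearMap.algHom_comp_convMul_distrib ρ D D'

theorem post_post (lam : T →ₗ[R] T') (lam' : T' →ₗ[R] T'') (D : WithConv (C →ₗ[R] T)) :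
    post lam' (post lam D) = post (lam' ∘ₗ lam) D := rfl

theorem post_eq_of_forall (lam lam' : T →ₗ[R] T') (h : ∀ t, lam t = lam' t)
    (D : WithConv (C →ₗ[R] T)) : post lam D = post lam' D := by
  have : lam = lam' := LinearMap.ext h
  rw [this]

theorem post_id (D : WithConv (C →ₗ[R] T)) : post (LinearMap.id : T →ₗ[R] T) D = D := by
  apply WithConv.ext
  apply LinearMap.ext
  intro c
  rfl

theorem post_algHom_id (D : WithConv (C →ₗ[R] T)) :
    post (AlgHom.id R T).toLinearMap D = D := by
  apply WithConv.ext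
  apply LinearMap.ext
  intro c
  rfl

/-- post-composition with a semilinear map is compatible with left convolution by scalars -/
theorem post_mul_left {S : Type*} [CommRing S] [Algebra R S] (σ : S →ₐ[R] T) (σ' : S →ₐ[R] T')
    (lam : T →ₗ[R] T') (h : ∀ (x : S) (t : T), lam (σ x * t) = σ' x * lam t)
    (F : WithConv (C →ₗ[R] S)) (D : WithConv (C →ₗ[R] T)) :
    post lam (post σ.toLinearMap F * D) = post σ'.toLinearMap F * post lam D := by
  apply WithConv.ext
  apply LinearMap.ext
  intro c
  have e1 : (post σ.toLinearMap F * D).ofConv c = _ :=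
    (Coalgebra.Repr.arbitrary R c).convMul_apply _ _
  have e2 : (post σ'.toLinearMap F * post lam D).ofConv c = _ :=
    (Coalgebra.Repr.arbitrary R c).convMul_apply _ _
  rw [post_apply, e1, e2, map_sum]
  refine Finset.sum_congr rfl fun i _ => ?_
  exact h _ _

theorem post_mul_right {S : Type*} [CommRing S] [Algebra R S] (σ : S →ₐ[R] T) (σ' : S →ₐ[R] T')
    (lam : T →ₗ[R] T') (h : ∀ (x : S) (t : T), lam (σ x * t) = σ' x * lam t)
    (F : WithConv (C →ₗ[R] S)) (D : WithConv (C →ₗ[R] T)) :
    post lam (D * post σ.toLinearMap F) = post lam D * post σ'.toLinearMap F := by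
  apply WithConv.ext
  apply LinearMap.ext
  intro c
  have e1 : (D * post σ.toLinearMap F).ofConv c = _ :=
    (Coalgebra.Repr.arbitrary R c).convMul_apply _ _
  have e2 : (post lam D * post σ'.toLinearMap F).ofConv c = _ :=
    (Coalgebra.Repr.arbitrary R c).convMul_apply _ _
  rw [post_apply, e1, e2, map_sum]
  refine Finset.sum_congr rfl fun i _ => ?_
  have := h (F.ofConv ((Coalgebra.Repr.arbitrary R c).right i))
    (D.ofConv ((Coalgebra.Repr.arbitrary R c).left i))
  rw [mul_comm] at this
  rw [mul_comm (post lam D _)]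
  exact this

theorem map_mem_of_mem (J : Ideal R) (lam : T →ₗ[R] T') {x : T}
    (hx : x ∈ J.map (algebraMap R T)) : lam x ∈ J.map (algebraMap R T') := by
  have h1 : x ∈ J • (⊤ : Submodule R T) := by
    rw [Ideal.smul_top_eq_map]
    exact hx
  have h2 : lam x ∈ J • (⊤ : Submodule R T') := by
    refine Submodule.smul_induction_on h1 (fun r hr t _ => ?_) (fun a b ha hb => ?_)
    · rw [map_smul]
      exact Submodule.smul_mem_smul hr Submodule.mem_top
    · rw [map_add]
      exact add_mem ha hb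
  rw [Ideal.smul_top_eq_map] at h2
  exact h2

theorem ValIn.post (J : Ideal R) (lam : T →ₗ[R] T') {D : WithConv (C →ₗ[R] T)}
    (h : ValIn (J.map (algebraMap R T)) D) : ValIn (J.map (algebraMap R T')) (post lam D) :=
  fun c => map_mem_of_mem J lam (h c)

theorem sq_zero_map {J : Ideal R} (hJ : J * J = ⊥) (T : Type*) [CommRing T] [Algebra R T] :
    ∀ x ∈ J.map (algebraMap R T), ∀ y ∈ J.map (algebraMap R T), x * y = 0 := by
  intro x hx y hy
  have h : x * y ∈ J.map (algebraMap R T) * J.map (algebraMap R T) := Ideal.mul_mem_mul hx hy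
  rw [← Ideal.map_mul, hJ, Ideal.map_bot] at h
  exact (Submodule.mem_bot T).mp h

theorem mul_expand (X : Type*) [CommRing X] [Algebra R X] (x x' : X) (e e' : R) :
    x * x' = e • x' + e' • x - (e * e') • (1 : X) +
      (x - algebraMap R X e) * (x' - algebraMap R X e') := by
  simp only [Algebra.smul_def, map_mul, mul_one]
  ring

end Lin

/-- the group of `T`-valued points of `Spec C` -/
structure Pt (R C T : Type*) [CommRing R] [CommRing C] [HopfAlgebra R C] [CommRing T]
    [Algebra R T] where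
  /-- the underlying algebra map -/
  hom : C →ₐ[R] T

namespace Pt

variable {R : Type*} [CommRing R] {C : Type*} [CommRing C] [HopfAlgebra R C]
  {T : Type*} [CommRing T] [Algebra R T] {T' : Type*} [CommRing T'] [Algebra R T']
  {T'' : Type*} [CommRing T''] [Algebra R T'']

@[ext] theorem ext {g g' : Pt R C T} (h : g.hom = g'.hom) : g = g' := by
  cases g; cases g'; cases h; rfl

/-- the underlying element of the convolution ring -/
def lin (g : Pt R C T) : WithConv (C →ₗ[R] T) := toConv g.hom.toLinearMap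

theorem lin_apply (g : Pt R C T) (c : C) : (lin g).ofConv c = g.hom c := rfl

theorem lin_injective : Function.Injective (lin : Pt R C T → WithConv (C →ₗ[R] T)) := by
  intro g g' h
  apply Pt.ext
  apply AlgHom.toLinearMap_injective
  exact WithConv.toConv_injective h

instance : One (Pt R C T) := ⟨⟨(1 : WithConv (C →ₐ[R] T)).ofConv⟩⟩

instance : Mul (Pt R C T) := ⟨fun g g' => ⟨(toConv g.hom * toConv g'.hom).ofConv⟩⟩

instance : Inv (Pt R C T) := ⟨fun g => ⟨g.hom.comp (HopfAlgebra.antipodeAlgHom R C)⟩⟩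

theorem lin_one : lin (1 : Pt R C T) = 1 := rfl

theorem lin_mul (g g' : Pt R C T) : lin (g * g') = lin g * lin g' := rfl

theorem lin_inv (g : Pt R C T) :
    lin g⁻¹ = toConv (g.hom.toLinearMap ∘ₗ HopfAlgebra.antipode R (A := C)) := by
  apply WithConv.ext
  apply LinearMap.ext
  intro c
  rfl

theorem lin_inv_mul (g : Pt R C T) : lin g⁻¹ * lin g = 1 := by
  have h := LinearMap.algHom_comp_convMul_distrib (R := R) (C := C) g.hom
    (toConv (HopfAlgebra.antipode R (A := C))) (toConv (LinearMap.id : C →ₗ[R] C))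
  rw [LinearMap.antipode_mul_id] at h
  have h2 : toConv (g.hom.toLinearMap.comp (1 : WithConv (C →ₗ[R] C)).ofConv) =
      (1 : WithConv (C →ₗ[R] T)) := by
    apply WithConv.ext
    apply LinearMap.ext
    intro c
    show g.hom (algebraMap R C (Coalgebra.counit (R := R) c)) =
      algebraMap R T (Coalgebra.counit (R := R) c)
    exact AlgHom.commutes _ _
  rw [← h2, h, lin_inv]
  rfl

instance : Group (Pt R C T) :=
  Group.ofLeftAxioms
    (fun a b c => lin_injective (by rw [lin_mul, lin_mul, lin_mul, lin_mul, mul_assoc]))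
    (fun a => lin_injective (by rw [lin_mul, lin_one, one_mul]))
    (fun a => lin_injective (by rw [lin_mul, lin_inv_mul, lin_one]))

theorem lin_mul_inv (g : Pt R C T) : lin g * lin g⁻¹ = 1 := by
  rw [← lin_mul, mul_inv_cancel, lin_one]

/-- functoriality of points in the algebra of values -/
def map (ρ : T →ₐ[R] T') : Pt R C T →* Pt R C T' where
  toFun g := ⟨ρ.comp g.hom⟩
  map_one' := lin_injective (by
    show post ρ.toLinearMap (lin (1 : Pt R C T)) = lin 1
    rw [lin_one, post_one _ (map_one ρ), lin_one])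
  map_mul' g g' := lin_injective (by
    show post ρ.toLinearMap (lin (g * g')) = lin (_ * _)
    rw [lin_mul, post_algHom_mul, lin_mul]
    rfl)

theorem lin_map (ρ : T →ₐ[R] T') (g : Pt R C T) :
    lin (map ρ g) = post ρ.toLinearMap (lin g) := rfl

theorem map_map (ρ' : T' →ₐ[R] T'') (ρ : T →ₐ[R] T') (g : Pt R C T) :
    map ρ' (map ρ g) = map (ρ'.comp ρ) g := rfl

theorem map_hom_apply (ρ : T →ₐ[R] T') (g : Pt R C T) (c : C) :
    (map ρ g).hom c = ρ (g.hom c) := rfl

theorem one_hom_apply (c : C) :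
    (1 : Pt R C T).hom c = algebraMap R T (Coalgebra.counit (R := R) c) := rfl

end Pt

section K

variable {R : Type*} [CommRing R] {C : Type*} [CommRing C] [HopfAlgebra R C]
  {T : Type*} [CommRing T] [Algebra R T] {T' : Type*} [CommRing T'] [Algebra R T']

/-- points congruent to the unit point modulo `J` -/
def IsK (J : Ideal R) (g : Pt R C T) : Prop := ValIn (J.map (algebraMap R T)) (Pt.lin g - 1)

theorem isK_iff {J : Ideal R} {g : Pt R C T} : IsK J g ↔
    ∀ c : C, g.hom c - algebraMap R T (Coalgebra.counit (R := R) c) ∈ J.map (algebraMap R T) :=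
  Iff.rfl

theorem isK_one (J : Ideal R) : IsK J (1 : Pt R C T) := by
  unfold IsK
  rw [Pt.lin_one, sub_self]
  exact ValIn.zero _

theorem IsK.mul {J : Ideal R} {k k' : Pt R C T} (h : IsK J k) (h' : IsK J k') :
    IsK J (k * k') := by
  unfold IsK at *
  have e : Pt.lin (k * k') - 1 = (Pt.lin k - 1) * Pt.lin k' + (Pt.lin k' - 1) := by
    rw [Pt.lin_mul]; noncomm_ring
  rw [e]
  exact (h.mul_right _).add h'

theorem IsK.inv {J : Ideal R} {k : Pt R C T} (h : IsK J k) : IsK J k⁻¹ := by
  unfold IsK at *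
  have e : Pt.lin k⁻¹ - 1 = -(Pt.lin k⁻¹ * (Pt.lin k - 1)) := by
    rw [mul_sub, Pt.lin_inv_mul, mul_one]; abel
  rw [e]
  exact (h.mul_left _).neg

theorem IsK.conj {J : Ideal R} (g : Pt R C T) {k : Pt R C T} (h : IsK J k) :
    IsK J (g * k * g⁻¹) := by
  unfold IsK at *
  have e : Pt.lin (g * k * g⁻¹) - 1 = Pt.lin g * (Pt.lin k - 1) * Pt.lin g⁻¹ := by
    rw [Pt.lin_mul, Pt.lin_mul, mul_sub, sub_mul, mul_one, Pt.lin_mul_inv]
  rw [e]
  exact (h.mul_left _).mul_right _

theorem IsK.map {J : Ideal R} (ρ : T →ₐ[R] T') {k : Pt R C T} (h : IsK J k) :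
    IsK J (Pt.map ρ k) := by
  unfold IsK at *
  have e : Pt.lin (Pt.map ρ k) - 1 = post ρ.toLinearMap (Pt.lin k - 1) := by
    rw [map_sub, post_one _ (map_one ρ), Pt.lin_map]
  rw [e]
  exact h.post J _

theorem IsK.mono {J J' : Ideal R} (hle : J ≤ J') {k : Pt R C T} (h : IsK J k) : IsK J' k :=
  ValIn.mono (Ideal.map_mono hle) h

theorem lin_mul_of_isK {J : Ideal R} (hJ : J * J = ⊥) {k k' : Pt R C T} (h : IsK J k)
    (h' : IsK J k') : Pt.lin (k * k') = Pt.lin k + Pt.lin k' - 1 := by
  have e := ValIn.mul_eq_zero (sq_zero_map hJ T) h h'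
  rw [Pt.lin_mul]
  have : Pt.lin k * Pt.lin k' = (Pt.lin k - 1) * (Pt.lin k' - 1) + (Pt.lin k + Pt.lin k' - 1) := by
    noncomm_ring
  rw [this, e, zero_add]

/-- a point congruent to `1` modulo a square-zero ideal can be pushed forward along a unital
linear map -/
theorem exists_push {J : Ideal R} (hJ : J * J = ⊥) (lam : T →ₗ[R] T') (h1 : lam 1 = 1)
    (k : Pt R C T) (hk : IsK J k) :
    ∃ k' : Pt R C T', Pt.lin k' = post lam (Pt.lin k) ∧ IsK J k' := by
  have hval : ∀ c : C, k.hom c - algebraMap R T (Coalgebra.counit (R := R) c) ∈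
      J.map (algebraMap R T) := hk
  have hlamalg : ∀ r : R, lam (algebraMap R T r) = algebraMap R T' r := fun r => by
    rw [Algebra.algebraMap_eq_smul_one, map_smul, h1, ← Algebra.algebraMap_eq_smul_one]
  have hval' : ∀ c : C, lam (k.hom c) - algebraMap R T' (Coalgebra.counit (R := R) c) ∈
      J.map (algebraMap R T') := by
    intro c
    have := map_mem_of_mem J lam (hval c)
    rwa [map_sub, hlamalg] at this
  have hmul : ∀ c c' : C, lam (k.hom (c * c')) = lam (k.hom c) * lam (k.hom c') := by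
    intro c c'
    have z1 := sq_zero_map hJ T _ (hval c) _ (hval c')
    have z2 := sq_zero_map hJ T' _ (hval' c) _ (hval' c')
    rw [map_mul, mul_expand T (k.hom c) (k.hom c') (Coalgebra.counit (R := R) c)
      (Coalgebra.counit (R := R) c'), z1, add_zero,
      mul_expand T' (lam (k.hom c)) (lam (k.hom c')) (Coalgebra.counit (R := R) c)
      (Coalgebra.counit (R := R) c'), z2, add_zero,
      map_sub, map_add, map_smul, map_smul, map_smul, h1]
  refine ⟨⟨AlgHom.ofLinearMap (lam ∘ₗ k.hom.toLinearMap)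
    (by show lam (k.hom 1) = 1; rw [map_one, h1]) (fun c c' => hmul c c')⟩, ?_, ?_⟩
  · apply WithConv.ext
    apply LinearMap.ext
    intro c
    rfl
  · exact hval'

end K

end

end Groth.Agent.H9.LIF
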