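import Mathlib
import Groth.Agent.Lib.Helper9.Misc.LIF1

/-!
# Structure maps between tensor powers of a bialgebra and integration of the last variable (helper9)
-/

set_option autoImplicit false
set_option linter.unusedSectionVars false
set_option linter.unusedVariables false
set_option linter.style.haveILetI false

namespace Groth.Agent.H9.LIF

open TensorProduct WithConv

noncomputable section

section Maps

variable (R : Type*) [CommRing R] (A : Type*) [CommRing A] [Bialgebra R A]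

/-- `h ↦ (h, 1)` -/
def i1 : A →ₐ[R] A ⊗[R] A := Algebra.TensorProduct.includeLeft
/-- `h ↦ (1, h)` -/
def i2 : A →ₐ[R] A ⊗[R] A := Algebra.TensorProduct.includeRight
/-- the comultiplication -/
def dl : A →ₐ[R] A ⊗[R] A := Bialgebra.comulAlgHom R A
/-- `(h₁,h₂,h₃) ↦ (h₁,h₂)` -/
def p12 : A ⊗[R] A →ₐ[R] (A ⊗[R] A) ⊗[R] A := Algebra.TensorProduct.includeLeft
/-- `(h₁,h₂,h₃) ↦ h₃` -/
def i3 : A →ₐ[R] (A ⊗[R] A) ⊗[R] A := Algebra.TensorProduct.includeRight
/-- `(h₁,h₂,h₃) ↦ (h₁h₂,h₃)` -/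
def m12 : A ⊗[R] A →ₐ[R] (A ⊗[R] A) ⊗[R] A :=
  Algebra.TensorProduct.map (Bialgebra.comulAlgHom R A) (AlgHom.id R A)
/-- `(h₁,h₂,h₃) ↦ (h₂,h₃)` -/
def q23 : A ⊗[R] A →ₐ[R] (A ⊗[R] A) ⊗[R] A :=
  Algebra.TensorProduct.map (Algebra.TensorProduct.includeRight : A →ₐ[R] A ⊗[R] A) (AlgHom.id R A)
/-- `(h₁,h₂,h₃) ↦ (h₁,h₂h₃)` -/
def m23 : A ⊗[R] A →ₐ[R] (A ⊗[R] A) ⊗[R] A :=
  ((Algebra.TensorProduct.assoc R R R A A A).symm :
      A ⊗[R] (A ⊗[R] A) →ₐ[R] (A ⊗[R] A) ⊗[R] A).comp
    (Algebra.TensorProduct.map (AlgHom.id R A) (Bialgebra.comulAlgHom R A))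

variable {R A}

theorem i1_apply (a : A) : i1 R A a = a ⊗ₜ[R] (1 : A) := rfl
theorem i2_apply (a : A) : i2 R A a = (1 : A) ⊗ₜ[R] a := rfl
theorem dl_apply (a : A) : dl R A a = Coalgebra.comul (R := R) a := rfl
theorem p12_apply (t : A ⊗[R] A) : p12 R A t = t ⊗ₜ[R] (1 : A) := rfl
theorem i3_apply (a : A) : i3 R A a = (1 : A ⊗[R] A) ⊗ₜ[R] a := rfl
theorem m12_tmul (a b : A) : m12 R A (a ⊗ₜ[R] b) = Coalgebra.comul (R := R) a ⊗ₜ[R] b := rfl
theorem q23_tmul (a b : A) : q23 R A (a ⊗ₜ[R] b) = ((1 : A) ⊗ₜ[R] a) ⊗ₜ[R] b := rfl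

theorem m23_tmul (a b : A) :
    m23 R A (a ⊗ₜ[R] b) =
      (Algebra.TensorProduct.assoc R R R A A A).symm (a ⊗ₜ[R] Coalgebra.comul (R := R) b) := rfl

theorem algAssoc_symm_tmul (a : A) (z : A ⊗[R] A) :
    (Algebra.TensorProduct.assoc R R R A A A).symm (a ⊗ₜ[R] z) =
      (TensorProduct.assoc R A A A).symm (a ⊗ₜ[R] z) := by
  induction z using TensorProduct.induction_on with
  | zero => rw [TensorProduct.tmul_zero, map_zero, map_zero]
  | add x y hx hy => rw [TensorProduct.tmul_add, map_add, map_add, hx, hy]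
  | tmul b c => rfl

theorem m23_apply (y : A ⊗[R] A) :
    m23 R A y = (TensorProduct.assoc R A A A).symm
      ((Coalgebra.comul (R := R) (A := A)).lTensor A y) := by
  induction y using TensorProduct.induction_on with
  | zero => rw [map_zero, map_zero, map_zero]
  | add x y hx hy => rw [map_add, map_add, map_add, hx, hy]
  | tmul a b => rw [m23_tmul, algAssoc_symm_tmul, LinearMap.lTensor_tmul]

theorem m12_apply (y : A ⊗[R] A) :
    m12 R A y = (Coalgebra.comul (R := R) (A := A)).rTensor A y := by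
  induction y using TensorProduct.induction_on with
  | zero => rw [map_zero, map_zero]
  | add x y hx hy => rw [map_add, map_add, hx, hy]
  | tmul a b => rw [m12_tmul, LinearMap.rTensor_tmul]

theorem m12_comp_i1 : (m12 R A).comp (i1 R A) = (p12 R A).comp (dl R A) := by
  apply AlgHom.ext
  intro a
  rfl

theorem m12_comp_i2 : (m12 R A).comp (i2 R A) = i3 R A := by
  apply AlgHom.ext
  intro a
  show m12 R A ((1 : A) ⊗ₜ[R] a) = _
  rw [m12_tmul, Bialgebra.comul_one, i3_apply]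

theorem q23_comp_i1 : (q23 R A).comp (i1 R A) = (p12 R A).comp (i2 R A) := by
  apply AlgHom.ext
  intro a
  rfl

theorem q23_comp_i2 : (q23 R A).comp (i2 R A) = i3 R A := by
  apply AlgHom.ext
  intro a
  show q23 R A ((1 : A) ⊗ₜ[R] a) = _
  rw [q23_tmul, i3_apply, Algebra.TensorProduct.one_def]

theorem m23_comp_i1 : (m23 R A).comp (i1 R A) = (p12 R A).comp (i1 R A) := by
  apply AlgHom.ext
  intro a
  show m23 R A (a ⊗ₜ[R] (1 : A)) = (a ⊗ₜ[R] (1 : A)) ⊗ₜ[R] (1 : A)
  rw [m23_tmul, Bialgebra.comul_one, Algebra.TensorProduct.one_def]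
  rfl

theorem assoc_symm_one_tmul (y : A ⊗[R] A) :
    (Algebra.TensorProduct.assoc R R R A A A).symm ((1 : A) ⊗ₜ[R] y) = q23 R A y := by
  induction y using TensorProduct.induction_on with
  | zero => rw [TensorProduct.tmul_zero, map_zero, map_zero]
  | add x y hx hy => rw [TensorProduct.tmul_add, map_add, map_add, hx, hy]
  | tmul b c => rfl

theorem m23_comp_i2 : (m23 R A).comp (i2 R A) = (q23 R A).comp (dl R A) := by
  apply AlgHom.ext
  intro a
  show m23 R A ((1 : A) ⊗ₜ[R] a) = q23 R A (Coalgebra.comul (R := R) a)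
  rw [m23_tmul, assoc_symm_one_tmul]

theorem m23_comp_dl : (m23 R A).comp (dl R A) = (m12 R A).comp (dl R A) := by
  apply AlgHom.ext
  intro a
  show m23 R A (Coalgebra.comul (R := R) a) = m12 R A (Coalgebra.comul (R := R) a)
  rw [m23_apply, m12_apply, Coalgebra.coassoc_symm_apply]

end Maps

section Integral

variable {R : Type*} [CommRing R] {A : Type*} [CommRing A] [Bialgebra R A] (χ : A →ₗ[R] R)

/-- integrate out the last variable: `s ⊗ a ↦ χ(a) s` -/
def lamS (S : Type*) [CommRing S] [Algebra R S] : S ⊗[R] A →ₗ[R] S :=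
  (TensorProduct.rid R S).toLinearMap ∘ₗ χ.lTensor S

variable {S : Type*} [CommRing S] [Algebra R S] {S' : Type*} [CommRing S'] [Algebra R S']

theorem lamS_tmul (s : S) (a : A) : lamS χ S (s ⊗ₜ[R] a) = χ a • s := by
  simp [lamS]

theorem lamS_one (h1 : χ 1 = 1) : lamS χ S 1 = 1 := by
  rw [Algebra.TensorProduct.one_def, lamS_tmul, h1, one_smul]

theorem lamS_mul_left (x : S) (t : S ⊗[R] A) :
    lamS χ S ((Algebra.TensorProduct.includeLeft : S →ₐ[R] S ⊗[R] A) x * t) = x * lamS χ S t := by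
  induction t using TensorProduct.induction_on with
  | zero => rw [mul_zero, map_zero, mul_zero]
  | add a b ha hb => rw [mul_add, map_add, ha, hb, map_add, mul_add]
  | tmul s a =>
    rw [Algebra.TensorProduct.includeLeft_apply, Algebra.TensorProduct.tmul_mul_tmul, one_mul,
      lamS_tmul, lamS_tmul, mul_smul_comm]

theorem lamS_includeLeft (h1 : χ 1 = 1) (x : S) :
    lamS χ S ((Algebra.TensorProduct.includeLeft : S →ₐ[R] S ⊗[R] A) x) = x := by
  rw [Algebra.TensorProduct.includeLeft_apply, lamS_tmul, h1, one_smul]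

theorem lamS_includeRight (b : A) :
    lamS χ S ((Algebra.TensorProduct.includeRight : A →ₐ[R] S ⊗[R] A) b) = χ b • (1 : S) := by
  rw [Algebra.TensorProduct.includeRight_apply, lamS_tmul]

theorem lamS_map (ρ : S →ₐ[R] S') (t : S ⊗[R] A) :
    lamS χ S' (Algebra.TensorProduct.map ρ (AlgHom.id R A) t) = ρ (lamS χ S t) := by
  induction t using TensorProduct.induction_on with
  | zero => rw [map_zero, map_zero, map_zero, map_zero]
  | add a b ha hb => rw [map_add, map_add, ha, hb, map_add, map_add]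
  | tmul s a =>
    rw [Algebra.TensorProduct.map_tmul, AlgHom.coe_id, id_eq, lamS_tmul, lamS_tmul, map_smul]

theorem lamS_assoc_symm (a : A) (z : A ⊗[R] A) :
    lamS χ (A ⊗[R] A) ((TensorProduct.assoc R A A A).symm (a ⊗ₜ[R] z)) =
      a ⊗ₜ[R] lamS χ A z := by
  induction z using TensorProduct.induction_on with
  | zero => rw [TensorProduct.tmul_zero, map_zero, map_zero, map_zero, TensorProduct.tmul_zero]
  | add x y hx hy =>
    rw [TensorProduct.tmul_add, map_add, map_add, hx, hy, map_add, TensorProduct.tmul_add]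
  | tmul b c =>
    rw [TensorProduct.assoc_symm_tmul, lamS_tmul, lamS_tmul, TensorProduct.tmul_smul]

/-- `χ` is a normalized left-invariant integral -/
structure IsInt (χ : A →ₗ[R] R) : Prop where
  one : χ 1 = 1
  inv : ∀ a : A, lamS χ A (Coalgebra.comul (R := R) a) = χ a • (1 : A)

variable {χ}

theorem IsInt.lamS_m23 (h : IsInt χ) (t : A ⊗[R] A) :
    lamS χ (A ⊗[R] A) (m23 R A t) = i1 R A (lamS χ A t) := by
  induction t using TensorProduct.induction_on with
  | zero => rw [map_zero, map_zero, map_zero, map_zero]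
  | add x y hx hy => rw [map_add, map_add, hx, hy, map_add, map_add]
  | tmul a b =>
    rw [m23_tmul, algAssoc_symm_tmul, lamS_assoc_symm, h.inv, lamS_tmul, i1_apply,
      TensorProduct.tmul_smul, TensorProduct.smul_tmul']

theorem IsInt.lamS_dl (h : IsInt χ) (a : A) :
    lamS χ A (dl R A a) = Algebra.ofId R A (χ a) := by
  rw [dl_apply, h.inv, Algebra.ofId_apply, Algebra.algebraMap_eq_smul_one]

theorem lamS_i2 (a : A) : lamS χ A (i2 R A a) = Algebra.ofId R A (χ a) := by
  rw [i2_apply, lamS_tmul, Algebra.ofId_apply, Algebra.algebraMap_eq_smul_one]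

theorem IsInt.lamS_i1 (h : IsInt χ) (a : A) : lamS χ A (i1 R A a) = a := by
  rw [i1_apply, lamS_tmul, h.one, one_smul]

theorem IsInt.lamS_p12 (h : IsInt χ) (t : A ⊗[R] A) : lamS χ (A ⊗[R] A) (p12 R A t) = t := by
  rw [p12_apply, lamS_tmul, h.one, one_smul]

theorem lamS_m12 (t : A ⊗[R] A) :
    lamS χ (A ⊗[R] A) (m12 R A t) = dl R A (lamS χ A t) :=
  lamS_map χ (Bialgebra.comulAlgHom R A) t

theorem lamS_q23 (t : A ⊗[R] A) :
    lamS χ (A ⊗[R] A) (q23 R A t) = i2 R A (lamS χ A t) :=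
  lamS_map χ (Algebra.TensorProduct.includeRight : A →ₐ[R] A ⊗[R] A) t

theorem lamS_p12_mul (x : A ⊗[R] A) (t : (A ⊗[R] A) ⊗[R] A) :
    lamS χ (A ⊗[R] A) (p12 R A x * t) = AlgHom.id R (A ⊗[R] A) x * lamS χ (A ⊗[R] A) t :=
  lamS_mul_left χ x t

theorem lamS_i1_mul (x : A) (t : A ⊗[R] A) :
    lamS χ A (i1 R A x * t) = AlgHom.id R A x * lamS χ A t :=
  lamS_mul_left χ x t

end Integral

end

end Groth.Agent.H9.LIF
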