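import Mathlib
import Groth.Agent.Lib.Helper9.Misc.LIF2

/-!
# Averaging: vanishing of the obstructions to lifting homomorphisms from a group with a normalized
integral (helper9)

`H²`: a point `ψ ∈ G(A)` which is a homomorphism modulo a square-zero ideal `J` can be corrected
by a point congruent to `1` to an honest homomorphism.  `H¹`: two homomorphisms congruent modulo
`J` are conjugate by a point of `G(R)` congruent to `1`.
-/

set_option autoImplicit false
set_option linter.unusedSectionVars false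
set_option linter.unusedVariables false
set_option linter.style.haveILetI false

namespace Groth.Agent.H9.LIF

open TensorProduct WithConv

noncomputable section

variable {R : Type*} [CommRing R] {C : Type*} [CommRing C] [HopfAlgebra R C]
  {A : Type*} [CommRing A] [Bialgebra R A]

/-- the defect of multiplicativity `(h₁,h₂) ↦ ψ(h₁) ψ(h₂) ψ(h₁h₂)⁻¹` -/
def defect (ψ : Pt R C A) : Pt R C (A ⊗[R] A) :=
  Pt.map (i1 R A) ψ * Pt.map (i2 R A) ψ * (Pt.map (dl R A) ψ)⁻¹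

/-- `ψ` is a homomorphism of groups `Spec A → Spec C` -/
def IsHomPt (ψ : Pt R C A) : Prop :=
  Pt.map (i1 R A) ψ * Pt.map (i2 R A) ψ = Pt.map (dl R A) ψ

theorem cocycle (ψ : Pt R C A) :
    Pt.map (p12 R A) (defect ψ) * Pt.map (m12 R A) (defect ψ) =
      Pt.map (p12 R A) (Pt.map (i1 R A) ψ) * Pt.map (q23 R A) (defect ψ) *
        (Pt.map (p12 R A) (Pt.map (i1 R A) ψ))⁻¹ * Pt.map (m23 R A) (defect ψ) := by
  unfold defect
  simp only [map_mul, map_inv, Pt.map_map]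
  rw [m12_comp_i1, m12_comp_i2, q23_comp_i1, q23_comp_i2, m23_comp_i1, m23_comp_i2, m23_comp_dl]
  group

theorem post_post_algHom {T₀ T T' : Type*} [CommRing T₀] [Algebra R T₀] [CommRing T] [Algebra R T]
    [CommRing T'] [Algebra R T'] (lam : T →ₗ[R] T') (ρ : T₀ →ₐ[R] T) (μ : T₀ →ₗ[R] T')
    (h : ∀ t, lam (ρ t) = μ t) (D : WithConv (C →ₗ[R] T₀)) :
    post lam (post ρ.toLinearMap D) = post μ D := by
  rw [post_post]
  exact post_eq_of_forall _ _ h D

variable {χ : A →ₗ[R] R} {J : Ideal R}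

/-- vanishing of the `H²` obstruction -/
theorem exists_hom_of_isK_defect (hχ : IsInt χ) (hJ : J * J = ⊥) (ψ : Pt R C A)
    (hd : IsK J (defect ψ)) :
    ∃ φ : Pt R C A, IsHomPt φ ∧ IsK J (φ * ψ⁻¹) := by
  obtain ⟨E, hE, hEK⟩ := exists_push hJ (lamS χ A) (lamS_one χ hχ.one) (defect ψ) hd
  have hI : defect ψ * Pt.map (dl R A) E =
      Pt.map (i1 R A) ψ * Pt.map (i2 R A) E * (Pt.map (i1 R A) ψ)⁻¹ * Pt.map (i1 R A) E := by
    apply Pt.lin_injective
    have k1 : IsK J (Pt.map (p12 R A) (defect ψ)) := hd.map _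
    have k2 : IsK J (Pt.map (m12 R A) (defect ψ)) := hd.map _
    have k3 : IsK J (Pt.map (p12 R A) (Pt.map (i1 R A) ψ) * Pt.map (q23 R A) (defect ψ) *
        (Pt.map (p12 R A) (Pt.map (i1 R A) ψ))⁻¹) := (hd.map _).conj _
    have k4 : IsK J (Pt.map (m23 R A) (defect ψ)) := hd.map _
    have k5 : IsK J (Pt.map (dl R A) E) := hEK.map _
    have k6 : IsK J (Pt.map (i1 R A) ψ * Pt.map (i2 R A) E * (Pt.map (i1 R A) ψ)⁻¹) :=
      (hEK.map _).conj _
    have k7 : IsK J (Pt.map (i1 R A) E) := hEK.map _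
    have hc := congrArg Pt.lin (cocycle ψ)
    rw [lin_mul_of_isK hJ k1 k2, lin_mul_of_isK hJ k3 k4] at hc
    have hc' := congrArg (post (C := C) (lamS χ (A ⊗[R] A))) hc
    rw [map_sub, map_add, map_sub, map_add, post_one _ (lamS_one χ hχ.one)] at hc'
    have t1 : post (lamS χ (A ⊗[R] A)) (Pt.lin (Pt.map (p12 R A) (defect ψ))) =
        Pt.lin (defect ψ) := by
      rw [Pt.lin_map, post_post_algHom (lamS χ (A ⊗[R] A)) (p12 R A) LinearMap.id
        (fun t => hχ.lamS_p12 t), post_id]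
    have t2 : post (lamS χ (A ⊗[R] A)) (Pt.lin (Pt.map (m12 R A) (defect ψ))) =
        Pt.lin (Pt.map (dl R A) E) := by
      rw [Pt.lin_map, post_post_algHom (lamS χ (A ⊗[R] A)) (m12 R A)
        ((dl R A).toLinearMap ∘ₗ lamS χ A) (fun t => lamS_m12 t), ← post_post, ← hE, Pt.lin_map]
    have t4 : post (lamS χ (A ⊗[R] A)) (Pt.lin (Pt.map (m23 R A) (defect ψ))) =
        Pt.lin (Pt.map (i1 R A) E) := by
      rw [Pt.lin_map, post_post_algHom (lamS χ (A ⊗[R] A)) (m23 R A)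
        ((i1 R A).toLinearMap ∘ₗ lamS χ A) (fun t => hχ.lamS_m23 t), ← post_post, ← hE, Pt.lin_map]
    have t3' : post (lamS χ (A ⊗[R] A)) (Pt.lin (Pt.map (q23 R A) (defect ψ))) =
        Pt.lin (Pt.map (i2 R A) E) := by
      rw [Pt.lin_map, post_post_algHom (lamS χ (A ⊗[R] A)) (q23 R A)
        ((i2 R A).toLinearMap ∘ₗ lamS χ A) (fun t => lamS_q23 t), ← post_post, ← hE, Pt.lin_map]
    have t3 : post (lamS χ (A ⊗[R] A))
        (Pt.lin (Pt.map (p12 R A) (Pt.map (i1 R A) ψ) * Pt.map (q23 R A) (defect ψ) *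
          (Pt.map (p12 R A) (Pt.map (i1 R A) ψ))⁻¹)) =
        Pt.lin (Pt.map (i1 R A) ψ * Pt.map (i2 R A) E * (Pt.map (i1 R A) ψ)⁻¹) := by
      rw [← map_inv, Pt.lin_mul, Pt.lin_mul, Pt.lin_map (p12 R A), Pt.lin_map (p12 R A),
        post_mul_right (p12 R A) (AlgHom.id R (A ⊗[R] A)) (lamS χ (A ⊗[R] A))
          (fun x t => lamS_p12_mul x t),
        post_mul_left (p12 R A) (AlgHom.id R (A ⊗[R] A)) (lamS χ (A ⊗[R] A))
          (fun x t => lamS_p12_mul x t), t3', post_algHom_id, post_algHom_id, Pt.lin_mul,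
        Pt.lin_mul]
    rw [t1, t2, t3, t4] at hc'
    rw [lin_mul_of_isK hJ hd k5, lin_mul_of_isK hJ k6 k7]
    exact hc'
  refine ⟨E⁻¹ * ψ, ?_, ?_⟩
  · unfold IsHomPt
    have h12 : Pt.map (dl R A) E = (defect ψ)⁻¹ * (Pt.map (i1 R A) ψ * Pt.map (i2 R A) E *
        (Pt.map (i1 R A) ψ)⁻¹ * Pt.map (i1 R A) E) := by
      rw [← hI]; group
    simp only [map_mul, map_inv]
    rw [h12]
    unfold defect
    group
  · have : E⁻¹ * ψ * ψ⁻¹ = E⁻¹ := by group
    rw [this]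
    exact hEK.inv

/-- vanishing of the `H¹` obstruction -/
theorem exists_conj_of_isK (hχ : IsInt χ) (hJ : J * J = ⊥) (u u' : Pt R C A)
    (hu : IsHomPt u) (hu' : IsHomPt u') (hz : IsK J (u' * u⁻¹)) :
    ∃ g : Pt R C R, IsK J g ∧
      u' = Pt.map (Algebra.ofId R A) g * u * (Pt.map (Algebra.ofId R A) g)⁻¹ := by
  obtain ⟨g, hg, hgK⟩ := exists_push hJ χ hχ.one (u' * u⁻¹) hz
  refine ⟨g, hgK, ?_⟩
  have hid : Pt.map (dl R A) (u' * u⁻¹) = Pt.map (i1 R A) (u' * u⁻¹) *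
      (Pt.map (i1 R A) u * Pt.map (i2 R A) (u' * u⁻¹) * (Pt.map (i1 R A) u)⁻¹) := by
    unfold IsHomPt at hu hu'
    simp only [map_mul, map_inv]
    rw [← hu, ← hu']
    group
  have k1 : IsK J (Pt.map (i1 R A) (u' * u⁻¹)) := hz.map _
  have k2 : IsK J (Pt.map (i1 R A) u * Pt.map (i2 R A) (u' * u⁻¹) * (Pt.map (i1 R A) u)⁻¹) :=
    (hz.map _).conj _
  have k3 : IsK J (u * Pt.map (Algebra.ofId R A) g * u⁻¹) := (hgK.map _).conj _
  have hc := congrArg Pt.lin hid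
  rw [lin_mul_of_isK hJ k1 k2] at hc
  have hc' := congrArg (post (C := C) (lamS χ A)) hc
  rw [map_sub, map_add, post_one _ (lamS_one χ hχ.one)] at hc'
  have t1 : post (lamS χ A) (Pt.lin (Pt.map (dl R A) (u' * u⁻¹))) =
      Pt.lin (Pt.map (Algebra.ofId R A) g) := by
    rw [Pt.lin_map, post_post_algHom (lamS χ A) (dl R A)
      ((Algebra.ofId R A).toLinearMap ∘ₗ χ) (fun t => hχ.lamS_dl t), ← post_post, ← hg,
      Pt.lin_map]
  have t2 : post (lamS χ A) (Pt.lin (Pt.map (i1 R A) (u' * u⁻¹))) = Pt.lin (u' * u⁻¹) := by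
    rw [Pt.lin_map, post_post_algHom (lamS χ A) (i1 R A) LinearMap.id
      (fun t => hχ.lamS_i1 t), post_id]
  have t3' : post (lamS χ A) (Pt.lin (Pt.map (i2 R A) (u' * u⁻¹))) =
      Pt.lin (Pt.map (Algebra.ofId R A) g) := by
    rw [Pt.lin_map, post_post_algHom (lamS χ A) (i2 R A)
      ((Algebra.ofId R A).toLinearMap ∘ₗ χ) (fun t => lamS_i2 t), ← post_post, ← hg,
      Pt.lin_map]
  have t3 : post (lamS χ A) (Pt.lin (Pt.map (i1 R A) u * Pt.map (i2 R A) (u' * u⁻¹) *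
      (Pt.map (i1 R A) u)⁻¹)) = Pt.lin (u * Pt.map (Algebra.ofId R A) g * u⁻¹) := by
    rw [← map_inv, Pt.lin_mul, Pt.lin_mul, Pt.lin_map (i1 R A), Pt.lin_map (i1 R A),
      post_mul_right (i1 R A) (AlgHom.id R A) (lamS χ A) (fun x t => lamS_i1_mul x t),
      post_mul_left (i1 R A) (AlgHom.id R A) (lamS χ A) (fun x t => lamS_i1_mul x t),
      t3', post_algHom_id, post_algHom_id, Pt.lin_mul, Pt.lin_mul]
  rw [t1, t2, t3, ← lin_mul_of_isK hJ hz k3] at hc'
  have hG := Pt.lin_injective hc'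
  -- hG : map η g = u' u⁻¹ * (u * map η g * u⁻¹)
  have : u' = (u' * u⁻¹ * (u * Pt.map (Algebra.ofId R A) g * u⁻¹)) * u *
      (Pt.map (Algebra.ofId R A) g)⁻¹ := by group
  rw [← hG] at this
  exact this

end

end Groth.Agent.H9.LIF
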