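import Mathlib
import Groth.Agent.Lib.Helper9.Misc.DES10
import Groth.Agent.Lib.Helper9.Misc.GLL5

/-!
# Lifting forms of group algebras along a surjection with nil kernel (helper9)
-/

set_option autoImplicit false
set_option linter.unusedSectionVars false
set_option linter.unusedVariables false
set_option linter.style.haveILetI false

namespace Groth.Agent.H9.QI

open TensorProduct Groth.Agent.H9.DES

universe u

section NilHyp

variable {R : Type u} [CommRing R] {R₀ : Type u} [CommRing R₀] [Algebra R R₀]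
  (hsurj : Function.Surjective (algebraMap R R₀))

include hsurj in
theorem mem_map_ker_of_one_tmul_eq_zero (X : Type*) [CommRing X] [Algebra R X] (x : X)
    (hx : (1 : R₀) ⊗ₜ[R] x = 0) :
    x ∈ (RingHom.ker (algebraMap R R₀)).map (algebraMap R X) := by
  have hs' : Function.Surjective (Algebra.ofId R R₀) := hsurj
  let e : (R ⧸ RingHom.ker (Algebra.ofId R R₀)) ≃ₐ[R] R₀ :=
    Ideal.quotientKerAlgEquivOfSurjective hs'
  have h1 : (1 : R ⧸ RingHom.ker (Algebra.ofId R R₀)) ⊗ₜ[R] x = 0 := by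
    have := congrArg (Algebra.TensorProduct.congr e.symm (AlgEquiv.refl : X ≃ₐ[R] X)) hx
    rw [Algebra.TensorProduct.congr_apply, Algebra.TensorProduct.map_tmul, map_zero] at this
    simpa using this
  have h2 := DES.mem_map_of_one_tmul_eq_zero (RingHom.ker (Algebra.ofId R R₀)) X x h1
  exact h2

include hsurj in
theorem exists_one_tmul' (X : Type*) [AddCommGroup X] [Module R X] (w : R₀ ⊗[R] X) :
    ∃ x : X, (1 : R₀) ⊗ₜ[R] x = w := by
  induction w using TensorProduct.induction_on with
  | zero => exact ⟨0, TensorProduct.tmul_zero _ _⟩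
  | add a b ha hb =>
    obtain ⟨x, rfl⟩ := ha
    obtain ⟨y, rfl⟩ := hb
    exact ⟨x + y, TensorProduct.tmul_add _ _ _⟩
  | tmul q x =>
    obtain ⟨r, rfl⟩ := hsurj q
    exact ⟨r • x, by
      rw [TensorProduct.tmul_smul, TensorProduct.smul_tmul', Algebra.algebraMap_eq_smul_one]⟩

theorem one_tmul_eq_zero_of_mem_map {X : Type*} [CommRing X] [Algebra R X] {x : X}
    (hx : x ∈ (RingHom.ker (algebraMap R R₀)).map (algebraMap R X)) :
    (1 : R₀) ⊗ₜ[R] x = 0 := by
  have hx' := GLL.mem_smul_top_of_mem_map _ hx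
  refine Submodule.smul_induction_on (p := fun x => (1 : R₀) ⊗ₜ[R] x = 0) hx' ?_ ?_
  · intro a ha t _
    rw [TensorProduct.tmul_smul, TensorProduct.smul_tmul', Algebra.smul_def, mul_one,
      (RingHom.mem_ker).mp ha, TensorProduct.zero_tmul]
  · intro x y hx hy
    rw [TensorProduct.tmul_add, hx, hy, add_zero]

variable (hnil : ∀ x : R, algebraMap R R₀ x = 0 → IsNilpotent x)

include hsurj hnil in
theorem isNilpotent_of_lbc_injective {X : Type*} [CommRing X] [Algebra R X] {X₀ : Type*}
    [AddCommGroup X₀] [Module R X₀] [Module R₀ X₀] [IsScalarTower R R₀ X₀]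
    (ρ : X →ₗ[R] X₀) (hρ : Function.Injective (ρ.liftBaseChange R₀)) (x : X) (hx : ρ x = 0) :
    IsNilpotent x := by
  have h1 : (1 : R₀) ⊗ₜ[R] x = 0 := by
    apply hρ
    rw [LinearMap.liftBaseChange_tmul, one_smul, hx, map_zero]
  have h2 := mem_map_ker_of_one_tmul_eq_zero hsurj X x h1
  exact GLL.isNilpotent_of_mem_map _ (fun a ha => hnil a ((RingHom.mem_ker).mp ha)) h2

include hsurj in
theorem surjective_of_lbc_surjective {X : Type*} [AddCommGroup X] [Module R X] {X₀ : Type*}
    [AddCommGroup X₀] [Module R X₀] [Module R₀ X₀] [IsScalarTower R R₀ X₀]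
    (ρ : X →ₗ[R] X₀) (hρ : Function.Surjective (ρ.liftBaseChange R₀)) :
    Function.Surjective ρ := by
  intro y
  obtain ⟨w, rfl⟩ := hρ y
  obtain ⟨x, rfl⟩ := exists_one_tmul' hsurj X w
  exact ⟨x, by rw [LinearMap.liftBaseChange_tmul, one_smul]⟩

variable {S S₀ : Type u} [CommRing S] [Algebra R S] [CommRing S₀] [Algebra R₀ S₀] [Algebra R S₀]
  [IsScalarTower R R₀ S₀] (r : S →ₐ[R] S₀)

theorem rr2_eq_cmap' (t : S ⊗[R] S) :
    rr2 R₀ r t = cmap R R₀ r.toLinearMap r.toLinearMap t := by
  induction t using TensorProduct.induction_on with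
  | zero => simp
  | add x y hx hy => rw [map_add, hx, hy, map_add]
  | tmul a b => rw [rr2_tmul, cmap_tmul]; rfl

theorem rr3_eq_cmap' (x : S ⊗[R] (S ⊗[R] S)) :
    rr3 R₀ r x =
      cmap R R₀ r.toLinearMap (cmap R R₀ r.toLinearMap r.toLinearMap) x := by
  induction x using TensorProduct.induction_on with
  | zero => simp
  | add x y hx hy => rw [map_add, hx, hy, map_add]
  | tmul a t => rw [rr3_tmul, cmap_tmul, rr2_eq_cmap']; rfl

include hsurj hnil in
/-- unique lifting of idempotents along a base change by a surjection with nil kernel -/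
theorem liftHyp_of_nil (hr : Function.Bijective (r.toLinearMap.liftBaseChange R₀)) :
    LiftHyp R₀ r := by
  have h2 := liftBaseChange_cmap_bijective R R₀ r.toLinearMap r.toLinearMap hr hr
  have h3 := liftBaseChange_cmap_bijective R R₀ r.toLinearMap
    (cmap R R₀ r.toLinearMap r.toLinearMap) hr h2
  have hn : ∀ a ∈ RingHom.ker (algebraMap R R₀), IsNilpotent a := fun a ha =>
    hnil a ((RingHom.mem_ker).mp ha)
  have k1 : ∀ x : S, r x = 0 → IsNilpotent x := fun x hx => by
    have h : (1 : R₀) ⊗ₜ[R] x = 0 := by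
      apply hr.1
      rw [LinearMap.liftBaseChange_tmul, one_smul, map_zero]
      exact hx
    exact GLL.isNilpotent_of_mem_map _ hn (mem_map_ker_of_one_tmul_eq_zero hsurj _ x h)
  have k2 : ∀ t : S ⊗[R] S, rr2 R₀ r t = 0 → IsNilpotent t := fun t ht => by
    have h : (1 : R₀) ⊗ₜ[R] t = 0 := by
      apply h2.1
      rw [LinearMap.liftBaseChange_tmul, one_smul, map_zero, ← rr2_eq_cmap']
      exact ht
    exact GLL.isNilpotent_of_mem_map _ hn (mem_map_ker_of_one_tmul_eq_zero hsurj _ t h)
  have k3 : ∀ x : S ⊗[R] (S ⊗[R] S), rr3 R₀ r x = 0 → IsNilpotent x := fun x hx => by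
    have h : (1 : R₀) ⊗ₜ[R] x = 0 := by
      apply h3.1
      rw [LinearMap.liftBaseChange_tmul, one_smul, map_zero, ← rr3_eq_cmap']
      exact hx
    exact GLL.isNilpotent_of_mem_map _ hn (mem_map_ker_of_one_tmul_eq_zero hsurj _ x h)
  have s2 : Function.Surjective (rr2 R₀ r) := by
    intro y
    obtain ⟨w, hw⟩ := h2.2 y
    obtain ⟨t, rfl⟩ := exists_one_tmul' hsurj (S ⊗[R] S) w
    refine ⟨t, ?_⟩
    rw [LinearMap.liftBaseChange_tmul, one_smul, ← rr2_eq_cmap'] at hw
    exact hw
  refine ⟨?_, ?_, ?_, ?_⟩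
  · intro e e' he he' heq
    apply eq_of_isNilpotent_sub_of_isIdempotentElem he he'
    apply k1
    rw [map_sub, heq, sub_self]
  · intro e e' he he' heq
    apply eq_of_isNilpotent_sub_of_isIdempotentElem he he'
    apply k2
    rw [map_sub, heq, sub_self]
  · intro e₀ he₀
    obtain ⟨e, he, hee⟩ := exists_isIdempotentElem_eq_of_ker_isNilpotent
      (rr2 R₀ r : S ⊗[R] S →+* S₀ ⊗[R₀] S₀)
      (fun x hx => k2 x ((RingHom.mem_ker).mp hx)) e₀
      (by
        obtain ⟨t, ht⟩ := s2 e₀
        exact ⟨t, ht⟩) he₀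
    exact ⟨e, he, hee⟩
  · intro e e' he he' heq
    apply eq_of_isNilpotent_sub_of_isIdempotentElem he he'
    apply k3
    rw [map_sub, heq, sub_self]

end NilHyp

section LiftNil

/-- **Lifting along a nil surjection**: a form `A₀` over `L₀` of a group algebra, split by an étale
faithfully flat `L₀`-algebra `E`, lifts to a form `A` over `L`, split by an étale faithfully flat
`L`-algebra. -/
theorem lift_nil {L L₀ : Type u} [CommRing L] [CommRing L₀] [Algebra L L₀]
    (hsurj : Function.Surjective (algebraMap L L₀))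
    (hnil : ∀ x : L, algebraMap L L₀ x = 0 → IsNilpotent x)
    {A₀ : Type u} [CommRing A₀] [HopfAlgebra L₀ A₀]
    (E : Type u) [CommRing E] [Algebra L₀ E] [Algebra.Etale L₀ E] [Module.FaithfullyFlat L₀ E]
    (M : Type u) [CommGroup M] (θ₀ : E ⊗[L₀] A₀ ≃ₐc[E] MonoidAlgebra E M) :
    ∃ (A : Type u) (_ : CommRing A) (_ : HopfAlgebra L A) (S : Type u) (_ : CommRing S)
      (_ : Algebra L S), Algebra.Etale L S ∧ Module.FaithfullyFlat L S ∧
        Nonempty (S ⊗[L] A ≃ₐc[S] MonoidAlgebra S M) ∧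
        Nonempty (L₀ ⊗[L] A ≃ₐc[L₀] A₀) := by
  have hN : RingHom.ker (algebraMap L L₀) ≤ nilradical L := fun x hx =>
    mem_nilradical.mpr (hnil x ((RingHom.mem_ker).mp hx))
  obtain ⟨S, _, _, hEt, πS, hπS, hker, hcompat⟩ :=
    Groth.Agent.H7.NilLift.exists_etale_lift_nil (algebraMap L L₀) hsurj hN E
  letI : Algebra L E := Algebra.compHom E (algebraMap L L₀)
  haveI : IsScalarTower L L₀ E := IsScalarTower.of_algebraMap_eq fun _ => rfl
  let r : S →ₐ[L] E := { πS with commutes' := fun a => hcompat a }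
  have hr_apply : ∀ s, r s = πS s := fun _ => rfl
  have hr : Function.Bijective (r.toLinearMap.liftBaseChange L₀) := by
    constructor
    · rw [injective_iff_map_eq_zero]
      intro w hw
      obtain ⟨s, rfl⟩ := exists_one_tmul' hsurj S w
      rw [LinearMap.liftBaseChange_tmul, one_smul] at hw
      have h1 : s ∈ RingHom.ker πS := (RingHom.mem_ker).mpr hw
      rw [hker] at h1
      exact one_tmul_eq_zero_of_mem_map h1
    · intro y
      obtain ⟨s, rfl⟩ := hπS y
      exact ⟨(1 : L₀) ⊗ₜ[L] s, by rw [LinearMap.liftBaseChange_tmul, one_smul]; rfl⟩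
  have hcomp : πS.comp (algebraMap L S) = (algebraMap L₀ E).comp (algebraMap L L₀) :=
    RingHom.ext hcompat
  haveI : Module.Flat L S := inferInstance
  haveI : Module.FaithfullyFlat L S := by
    refine ⟨fun m hm htop => ?_⟩
    have h1 : (1 : S) ∈ Ideal.map (algebraMap L S) m := by
      apply GLL.mem_map_of_mem_smul_top m
      rw [htop]
      exact Submodule.mem_top
    have h2 : (1 : E) ∈ Ideal.map (algebraMap L₀ E) (Ideal.map (algebraMap L L₀) m) := by
      rw [Ideal.map_map, ← hcomp, ← Ideal.map_map, ← map_one πS]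
      exact Ideal.mem_map_of_mem _ h1
    have h3 : Ideal.map (algebraMap L L₀) m = ⊤ := by
      rw [← Ideal.comap_map_eq_self_of_faithfullyFlat (B := E) (Ideal.map (algebraMap L L₀) m),
        (Ideal.eq_top_iff_one _).mpr h2, Ideal.comap_top]
    have h4 : (1 : L₀) ∈ Ideal.map (algebraMap L L₀) m := by
      rw [h3]
      exact Submodule.mem_top
    obtain ⟨x, hxm, hx1⟩ := (Ideal.mem_map_iff_of_surjective _ hsurj).mp h4
    have h5 : x - 1 ∈ RingHom.ker (algebraMap L L₀) := by
      rw [RingHom.mem_ker, map_sub, hx1, map_one, sub_self]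
    have h6 : x - 1 ∈ m := by
      haveI := hm.isPrime
      exact nilradical_le_prime m (hN h5)
    have h7 : (1 : L) ∈ m := by
      have := m.sub_mem hxm h6
      rwa [sub_sub_cancel] at this
    exact hm.ne_top ((Ideal.eq_top_iff_one _).mpr h7)
  have hLH := liftHyp_of_nil hsurj hnil r hr
  obtain ⟨A, _, _, hθ, hφ⟩ := exists_lift_form hLH θ₀
  exact ⟨A, _, _, S, _, _, hEt, inferInstance, hθ, hφ⟩

end LiftNil

end Groth.Agent.H9.QI
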