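import Mathlib
import Groth.Agent.Lib.Helper9.Misc.LIF3
import Groth.Agent.Lib.Helper9.Misc.QI6
import Groth.Agent.Lib.Helper9.MT.BaseChange

/-!
# Lifting homomorphisms along a square-zero extension of the base: bialgebra form (helper9)
-/

set_option autoImplicit false
set_option linter.unusedSectionVars false
set_option linter.unusedVariables false
set_option linter.style.haveILetI false

namespace Groth.Agent.H9.LIF

open TensorProduct WithConv

noncomputable section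

universe u

section Bridge

variable {R : Type*} [CommRing R] {C : Type*} [CommRing C] [HopfAlgebra R C]
  {A : Type*} [CommRing A] [Bialgebra R A]

/-- the point of a bialgebra map -/
def ptOf (f : C →ₐc[R] A) : Pt R C A := ⟨(f : C →ₐ[R] A)⟩

theorem ptOf_hom_apply (f : C →ₐc[R] A) (c : C) : (ptOf f).hom c = f c := rfl

theorem lin_i1_mul_i2 (ψ ψ' : Pt R C A) (c : C) :
    (Pt.lin (Pt.map (i1 R A) ψ * Pt.map (i2 R A) ψ')).ofConv c =
      TensorProduct.map ψ.hom.toLinearMap ψ'.hom.toLinearMap (Coalgebra.comul (R := R) c) := by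
  rw [Pt.lin_mul]
  have e : (Pt.lin (Pt.map (i1 R A) ψ) * Pt.lin (Pt.map (i2 R A) ψ')).ofConv c = _ :=
    (Coalgebra.Repr.arbitrary R c).convMul_apply _ _
  rw [e]
  conv_rhs => rw [← (Coalgebra.Repr.arbitrary R c).eq, map_sum]
  refine Finset.sum_congr rfl fun i _ => ?_
  show (ψ.hom _ ⊗ₜ[R] (1 : A)) * ((1 : A) ⊗ₜ[R] ψ'.hom _) = _
  rw [Algebra.TensorProduct.tmul_mul_tmul, mul_one, one_mul, TensorProduct.map_tmul]
  rfl

theorem isHomPt_iff (ψ : Pt R C A) : IsHomPt ψ ↔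
    ∀ c : C, TensorProduct.map ψ.hom.toLinearMap ψ.hom.toLinearMap (Coalgebra.comul (R := R) c) =
      Coalgebra.comul (R := R) (ψ.hom c) := by
  constructor
  · intro h c
    rw [← lin_i1_mul_i2]
    unfold IsHomPt at h
    rw [h]
    rfl
  · intro h
    apply Pt.lin_injective
    apply WithConv.ext
    apply LinearMap.ext
    intro c
    rw [lin_i1_mul_i2, h c]
    rfl

theorem isHomPt_ptOf (f : C →ₐc[R] A) : IsHomPt (ptOf f) := by
  rw [isHomPt_iff]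
  intro c
  exact CoalgHomClass.map_comp_comul_apply f c

/-- `ε ⊗ ε` -/
def epsEps : A ⊗[R] A →ₐ[R] R :=
  Algebra.TensorProduct.lift (Bialgebra.counitAlgHom R A) (Bialgebra.counitAlgHom R A)
    (fun _ _ => Commute.all _ _)

theorem epsEps_tmul (a b : A) :
    epsEps (R := R) (A := A) (a ⊗ₜ[R] b) =
      Coalgebra.counit (R := R) a * Coalgebra.counit (R := R) b := by
  simp [epsEps]

theorem epsEps_comp_i1 : (epsEps (R := R) (A := A)).comp (i1 R A) = Bialgebra.counitAlgHom R A := by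
  apply AlgHom.ext
  intro a
  show epsEps (a ⊗ₜ[R] (1 : A)) = Coalgebra.counit (R := R) a
  rw [epsEps_tmul, Bialgebra.counit_one, mul_one]

theorem epsEps_comp_i2 : (epsEps (R := R) (A := A)).comp (i2 R A) = Bialgebra.counitAlgHom R A := by
  apply AlgHom.ext
  intro a
  show epsEps ((1 : A) ⊗ₜ[R] a) = Coalgebra.counit (R := R) a
  rw [epsEps_tmul, Bialgebra.counit_one, one_mul]

theorem epsEps_comp_dl : (epsEps (R := R) (A := A)).comp (dl R A) = Bialgebra.counitAlgHom R A := by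
  apply AlgHom.ext
  intro a
  show epsEps (Coalgebra.comul (R := R) a) = Coalgebra.counit (R := R) a
  rw [← (Coalgebra.Repr.arbitrary R a).eq, map_sum]
  have h := congrArg (Coalgebra.counit (R := R)) (Coalgebra.sum_counit_smul (Coalgebra.Repr.arbitrary R a))
  rw [map_sum] at h
  rw [← h]
  refine Finset.sum_congr rfl fun i _ => ?_
  rw [epsEps_tmul, map_smul, smul_eq_mul]

theorem counit_of_isHomPt (ψ : Pt R C A) (h : IsHomPt ψ) (c : C) :
    Coalgebra.counit (R := R) (ψ.hom c) = Coalgebra.counit (R := R) c := by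
  have h' := congrArg (Pt.map (epsEps (R := R) (A := A))) h
  rw [map_mul, Pt.map_map, Pt.map_map, Pt.map_map, epsEps_comp_i1, epsEps_comp_i2,
    epsEps_comp_dl] at h'
  have he : Pt.map (Bialgebra.counitAlgHom R A) ψ = 1 :=
    mul_left_cancel (h'.trans (mul_one _).symm)
  have := congrArg (fun g : Pt R C R => g.hom c) he
  exact this

/-- a homomorphism point as a bialgebra map -/
def bialgHomOfPt (ψ : Pt R C A) (h : IsHomPt ψ) : C →ₐc[R] A :=
  BialgHom.ofAlgHom ψ.hom (AlgHom.ext (counit_of_isHomPt ψ h)) (AlgHom.ext ((isHomPt_iff ψ).mp h))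

theorem bialgHomOfPt_apply (ψ : Pt R C A) (h : IsHomPt ψ) (c : C) :
    bialgHomOfPt ψ h c = ψ.hom c := rfl

theorem ptOf_bialgHomOfPt (ψ : Pt R C A) (h : IsHomPt ψ) : ptOf (bialgHomOfPt ψ h) = ψ := by
  apply Pt.ext
  apply AlgHom.ext
  intro c
  rfl

theorem comp_ofId {T T' : Type*} [CommRing T] [Algebra R T] [CommRing T'] [Algebra R T']
    (ρ : T →ₐ[R] T') : ρ.comp (Algebra.ofId R T) = Algebra.ofId R T' := by
  apply AlgHom.ext
  intro r
  simp

theorem isHomPt_conj (g : Pt R C R) (ψ : Pt R C A) (h : IsHomPt ψ) :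
    IsHomPt (Pt.map (Algebra.ofId R A) g * ψ * (Pt.map (Algebra.ofId R A) g)⁻¹) := by
  unfold IsHomPt at *
  simp only [map_mul, map_inv, Pt.map_map]
  rw [comp_ofId, comp_ofId, comp_ofId, ← h]
  group

theorem sub_eq_of_isK_mul_inv {J : Ideal R} {T : Type*} [CommRing T] [Algebra R T]
    (φ ψ : Pt R C T) (h : IsK J (φ * ψ⁻¹)) (c : C) :
    φ.hom c - ψ.hom c ∈ J.map (algebraMap R T) := by
  have e : Pt.lin φ - Pt.lin ψ = (Pt.lin (φ * ψ⁻¹) - 1) * Pt.lin ψ := by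
    rw [Pt.lin_mul, sub_mul, one_mul, mul_assoc, Pt.lin_inv_mul, mul_one]
  have h2 : ValIn (J.map (algebraMap R T)) (Pt.lin φ - Pt.lin ψ) := by
    rw [e]
    exact ValIn.mul_right h _
  exact h2 c

theorem isK_mul_inv_of_sub {J : Ideal R} {T : Type*} [CommRing T] [Algebra R T]
    (φ ψ : Pt R C T) (h : ∀ c : C, φ.hom c - ψ.hom c ∈ J.map (algebraMap R T)) :
    IsK J (φ * ψ⁻¹) := by
  unfold IsK
  have e : Pt.lin (φ * ψ⁻¹) - 1 = (Pt.lin φ - Pt.lin ψ) * Pt.lin ψ⁻¹ := by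
    rw [Pt.lin_mul, sub_mul, Pt.lin_mul_inv]
  rw [e]
  exact ValIn.mul_right (fun c => h c) _

end Bridge

section Red

variable {R : Type u} [CommRing R] {Rb : Type u} [CommRing Rb] [Algebra R Rb]
  {C : Type u} [CommRing C] [HopfAlgebra R C] {A : Type u} [CommRing A] [HopfAlgebra R A]

theorem one_tmul_map_comul (ψ₀ : C →ₐ[R] A) (φb : (Rb ⊗[R] C) →ₐc[Rb] (Rb ⊗[R] A))
    (hψ : ∀ c, (1 : Rb) ⊗ₜ[R] ψ₀ c = φb ((1 : Rb) ⊗ₜ[R] c)) (c : C) :
    (1 : Rb) ⊗ₜ[R] (TensorProduct.map ψ₀.toLinearMap ψ₀.toLinearMap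
        (Coalgebra.comul (R := R) c)) =
      (1 : Rb) ⊗ₜ[R] (Coalgebra.comul (R := R) (ψ₀ c)) := by
  apply (TensorProduct.AlgebraTensorModule.distribBaseChange R Rb A A).injective
  have hL : TensorProduct.AlgebraTensorModule.distribBaseChange R Rb A A
      ((1 : Rb) ⊗ₜ[R] (TensorProduct.map ψ₀.toLinearMap ψ₀.toLinearMap
        (Coalgebra.comul (R := R) c))) =
      TensorProduct.map (φb : Rb ⊗[R] C →ₗ[Rb] Rb ⊗[R] A) (φb : Rb ⊗[R] C →ₗ[Rb] Rb ⊗[R] A)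
        (Coalgebra.comul (R := Rb) ((1 : Rb) ⊗ₜ[R] c)) := by
    rw [MT.comul_tmul_repr (1 : Rb) c (Coalgebra.Repr.arbitrary R c), map_sum]
    conv_lhs => rw [← (Coalgebra.Repr.arbitrary R c).eq, map_sum, TensorProduct.tmul_sum, map_sum]
    refine Finset.sum_congr rfl fun i _ => ?_
    rw [TensorProduct.map_tmul, TensorProduct.AlgebraTensorModule.distribBaseChange_tmul,
      TensorProduct.map_tmul]
    show ((1 : Rb) ⊗ₜ[R] ψ₀ _) ⊗ₜ[Rb] ((1 : Rb) ⊗ₜ[R] ψ₀ _) = φb _ ⊗ₜ[Rb] φb _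
    rw [hψ, hψ]
  have hR : TensorProduct.AlgebraTensorModule.distribBaseChange R Rb A A
      ((1 : Rb) ⊗ₜ[R] (Coalgebra.comul (R := R) (ψ₀ c))) =
      Coalgebra.comul (R := Rb) ((1 : Rb) ⊗ₜ[R] ψ₀ c) := by
    rw [MT.comul_tmul_repr (1 : Rb) (ψ₀ c) (Coalgebra.Repr.arbitrary R (ψ₀ c))]
    conv_lhs => rw [← (Coalgebra.Repr.arbitrary R (ψ₀ c)).eq, TensorProduct.tmul_sum, map_sum]
    refine Finset.sum_congr rfl fun i _ => ?_
    rw [TensorProduct.AlgebraTensorModule.distribBaseChange_tmul]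
  rw [hL, hR, hψ]
  exact CoalgHomClass.map_comp_comul_apply φb _

variable (hsurj : Function.Surjective (algebraMap R Rb))

include hsurj in
theorem isK_defect (ψ₀ : C →ₐ[R] A) (φb : (Rb ⊗[R] C) →ₐc[Rb] (Rb ⊗[R] A))
    (hψ : ∀ c, (1 : Rb) ⊗ₜ[R] ψ₀ c = φb ((1 : Rb) ⊗ₜ[R] c)) :
    IsK (RingHom.ker (algebraMap R Rb)) (defect (⟨ψ₀⟩ : Pt R C A)) := by
  unfold defect
  apply isK_mul_inv_of_sub
  intro c
  apply QI.mem_map_ker_of_one_tmul_eq_zero hsurj
  rw [TensorProduct.tmul_sub, sub_eq_zero]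
  have e1 : (Pt.map (i1 R A) (⟨ψ₀⟩ : Pt R C A) * Pt.map (i2 R A) (⟨ψ₀⟩ : Pt R C A)).hom c =
      TensorProduct.map ψ₀.toLinearMap ψ₀.toLinearMap (Coalgebra.comul (R := R) c) :=
    lin_i1_mul_i2 _ _ c
  rw [e1]
  exact one_tmul_map_comul ψ₀ φb hψ c

include hsurj in
/-- lifting of homomorphisms along a square-zero extension of the base -/
theorem exists_lift_sqzero (hsq : RingHom.ker (algebraMap R Rb) * RingHom.ker (algebraMap R Rb) = ⊥)
    {χ : A →ₗ[R] R} (hχ : IsInt χ) [Algebra.FormallySmooth R C]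
    (φb : (Rb ⊗[R] C) →ₐc[Rb] (Rb ⊗[R] A)) :
    ∃ φ : C →ₐc[R] A, ∀ c : C, φb ((1 : Rb) ⊗ₜ[R] c) = (1 : Rb) ⊗ₜ[R] φ c := by
  let g : A →ₐ[R] Rb ⊗[R] A := Algebra.TensorProduct.includeRight
  have hg : Function.Surjective g := fun w => QI.exists_one_tmul' hsurj A w
  have hker : ∀ x ∈ RingHom.ker (g : A →+* Rb ⊗[R] A),
      x ∈ (RingHom.ker (algebraMap R Rb)).map (algebraMap R A) := fun x hx => by
    have hx' : (1 : Rb) ⊗ₜ[R] x = 0 := hx
    exact QI.mem_map_ker_of_one_tmul_eq_zero hsurj A x hx'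
  have hg' : IsNilpotent (RingHom.ker (g : A →+* Rb ⊗[R] A)) := by
    refine ⟨2, ?_⟩
    rw [pow_two, Ideal.zero_eq_bot, eq_bot_iff, Ideal.mul_le]
    intro x hx y hy
    rw [Ideal.mem_bot]
    exact sq_zero_map hsq A x (hker x hx) y (hker y hy)
  let f : C →ₐ[R] Rb ⊗[R] A :=
    ((φb : Rb ⊗[R] C →ₐ[Rb] Rb ⊗[R] A).restrictScalars R).comp
      (Algebra.TensorProduct.includeRight : C →ₐ[R] Rb ⊗[R] C)
  let ψ₀ : C →ₐ[R] A := Algebra.FormallySmooth.liftOfSurjective f g hg hg'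
  have hψ : ∀ c, (1 : Rb) ⊗ₜ[R] ψ₀ c = φb ((1 : Rb) ⊗ₜ[R] c) := fun c =>
    Algebra.FormallySmooth.liftOfSurjective_apply f g hg hg' c
  have hd := isK_defect hsurj ψ₀ φb hψ
  obtain ⟨φ, hφ, hφK⟩ := exists_hom_of_isK_defect hχ hsq (⟨ψ₀⟩ : Pt R C A) hd
  refine ⟨bialgHomOfPt φ hφ, fun c => ?_⟩
  rw [← hψ, bialgHomOfPt_apply]
  have h1 := sub_eq_of_isK_mul_inv φ (⟨ψ₀⟩ : Pt R C A) hφK c
  have h2 := QI.one_tmul_eq_zero_of_mem_map (R₀ := Rb) h1
  rw [TensorProduct.tmul_sub, sub_eq_zero] at h2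
  exact h2.symm

include hsurj in
/-- two homomorphisms congruent modulo a square-zero ideal are conjugate -/
theorem exists_conj_sqzero (hsq : RingHom.ker (algebraMap R Rb) * RingHom.ker (algebraMap R Rb) = ⊥)
    {χ : A →ₗ[R] R} (hχ : IsInt χ) (u u' : C →ₐc[R] A)
    (h : ∀ c : C, (1 : Rb) ⊗ₜ[R] u c = (1 : Rb) ⊗ₜ[R] u' c) :
    ∃ g : Pt R C R, IsK (RingHom.ker (algebraMap R Rb)) g ∧
      ptOf u' = Pt.map (Algebra.ofId R A) g * ptOf u * (Pt.map (Algebra.ofId R A) g)⁻¹ := by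
  apply exists_conj_of_isK hχ hsq (ptOf u) (ptOf u') (isHomPt_ptOf u) (isHomPt_ptOf u')
  apply isK_mul_inv_of_sub
  intro c
  apply QI.mem_map_ker_of_one_tmul_eq_zero hsurj
  rw [TensorProduct.tmul_sub, sub_eq_zero]
  exact (h c).symm

end Red

end

end Groth.Agent.H9.LIF
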