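import Mathlib
import Groth.Agent.Lib.Helper9.Misc.LIF4

/-!
# Lifting homomorphisms along a nilpotent extension of the base (helper9)

Base change of integrals, restriction of points along base change, and the inductions on the
order of nilpotency for the `H²` (existence of liftings) and `H¹` (conjugacy of liftings) results.
-/

set_option autoImplicit false
set_option linter.unusedSectionVars false
set_option linter.unusedVariables false
set_option linter.style.haveILetI false

namespace Groth.Agent.H9.LIF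

open TensorProduct WithConv

noncomputable section

universe u

section BC

variable {R : Type*} [CommRing R] {A : Type*} [CommRing A] [Bialgebra R A]
  (S : Type*) [CommRing S] [Algebra R S]

/-- base change of a functional -/
def chiBC (χ : A →ₗ[R] R) : S ⊗[R] A →ₗ[S] S :=
  LinearMap.liftBaseChange S ((Algebra.linearMap R S) ∘ₗ χ)

theorem chiBC_tmul (χ : A →ₗ[R] R) (s : S) (a : A) : chiBC S χ (s ⊗ₜ[R] a) = χ a • s := by
  rw [chiBC, LinearMap.liftBaseChange_tmul]
  show s • algebraMap R S (χ a) = χ a • s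
  rw [smul_eq_mul, Algebra.smul_def, mul_comm]

theorem sum_of_isInt {χ : A →ₗ[R] R} (h : IsInt χ) (a : A) {ι : Type*}
    (r : Coalgebra.Repr R a ι) : ∑ i ∈ r.index, χ (r.right i) • r.left i = χ a • (1 : A) := by
  have := h.inv a
  rw [← r.eq, map_sum] at this
  rw [← this]
  refine Finset.sum_congr rfl fun i _ => ?_
  rw [lamS_tmul]

theorem isInt_chiBC {χ : A →ₗ[R] R} (h : IsInt χ) :
    IsInt (R := S) (A := S ⊗[R] A) (chiBC S χ) where
  one := by
    rw [Algebra.TensorProduct.one_def, chiBC_tmul, h.one, one_smul]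
  inv := by
    intro y
    induction y using TensorProduct.induction_on with
    | zero => rw [map_zero, map_zero, map_zero, zero_smul]
    | add x y hx hy => rw [map_add, map_add, hx, hy, map_add, add_smul]
    | tmul s a =>
      rw [MT.comul_tmul_repr s a (Coalgebra.Repr.arbitrary R a), map_sum]
      have e : ∀ i ∈ (Coalgebra.Repr.arbitrary R a).index,
          lamS (chiBC S χ) (S ⊗[R] A)
            ((s ⊗ₜ[R] (Coalgebra.Repr.arbitrary R a).left i) ⊗ₜ[S]
              ((1 : S) ⊗ₜ[R] (Coalgebra.Repr.arbitrary R a).right i)) =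
          s ⊗ₜ[R] (χ ((Coalgebra.Repr.arbitrary R a).right i) •
            (Coalgebra.Repr.arbitrary R a).left i) := by
        intro i _
        rw [lamS_tmul, chiBC_tmul, TensorProduct.smul_tmul', smul_eq_mul, smul_mul_assoc, one_mul,
          TensorProduct.smul_tmul]
      rw [Finset.sum_congr rfl e, ← TensorProduct.tmul_sum,
        sum_of_isInt h a (Coalgebra.Repr.arbitrary R a), chiBC_tmul, Algebra.TensorProduct.one_def,
        TensorProduct.smul_tmul', smul_eq_mul, mul_one, TensorProduct.smul_tmul]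

end BC

section Restr

variable {R : Type*} [CommRing R] {C : Type*} [CommRing C] [HopfAlgebra R C]
  (S : Type*) [CommRing S] [Algebra R S]
  {T : Type*} [CommRing T] [Algebra R T] [Algebra S T] [IsScalarTower R S T]

/-- restriction of points along base change -/
def restr : Pt S (S ⊗[R] C) T →* Pt R C T where
  toFun f := ⟨(f.hom.restrictScalars R).comp
    (Algebra.TensorProduct.includeRight : C →ₐ[R] S ⊗[R] C)⟩
  map_one' := by
    apply Pt.ext
    apply AlgHom.ext
    intro c
    show algebraMap S T (Coalgebra.counit (R := S) ((1 : S) ⊗ₜ[R] c)) =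
      algebraMap R T (Coalgebra.counit (R := R) c)
    rw [TensorProduct.counit_tmul, CommSemiring.counit_apply, ← Algebra.algebraMap_eq_smul_one,
      ← IsScalarTower.algebraMap_apply]
  map_mul' f f' := by
    apply Pt.lin_injective
    apply WithConv.ext
    apply LinearMap.ext
    intro c
    show (Pt.lin (f * f')).ofConv ((1 : S) ⊗ₜ[R] c) = _
    rw [Pt.lin_mul, Pt.lin_mul]
    have e1 : (Pt.lin f * Pt.lin f').ofConv ((1 : S) ⊗ₜ[R] c) = _ :=
      (MT.reprBC (1 : S) (Coalgebra.Repr.arbitrary R c)).convMul_apply _ _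
    have e2 : (Pt.lin (⟨(f.hom.restrictScalars R).comp
        (Algebra.TensorProduct.includeRight : C →ₐ[R] S ⊗[R] C)⟩ : Pt R C T) *
        Pt.lin (⟨(f'.hom.restrictScalars R).comp
        (Algebra.TensorProduct.includeRight : C →ₐ[R] S ⊗[R] C)⟩ : Pt R C T)).ofConv c = _ :=
      (Coalgebra.Repr.arbitrary R c).convMul_apply _ _
    rw [e1, e2]
    rfl

theorem restr_hom_apply (f : Pt S (S ⊗[R] C) T) (c : C) :
    (restr S f).hom c = f.hom ((1 : S) ⊗ₜ[R] c) := rfl

end Restr

section Quot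

variable {R : Type u} [CommRing R] {Rb : Type u} [CommRing Rb] [Algebra R Rb]

/-- `Rb` as an algebra over `R ⧸ J` when `J` is contained in the kernel -/
@[instance_reducible]
def quotAlg (J : Ideal R) (hJ : J ≤ RingHom.ker (algebraMap R Rb)) : Algebra (R ⧸ J) Rb :=
  (Ideal.Quotient.lift J (algebraMap R Rb) (fun a ha => (RingHom.mem_ker).mp (hJ ha))).toAlgebra

theorem quotAlg_tower (J : Ideal R) (hJ : J ≤ RingHom.ker (algebraMap R Rb)) :
    letI := quotAlg J hJ
    IsScalarTower R (R ⧸ J) Rb := by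
  letI := quotAlg J hJ
  exact IsScalarTower.of_algebraMap_eq fun x => rfl

theorem quotAlg_surj (J : Ideal R) (hJ : J ≤ RingHom.ker (algebraMap R Rb))
    (hsurj : Function.Surjective (algebraMap R Rb)) :
    letI := quotAlg J hJ
    Function.Surjective (algebraMap (R ⧸ J) Rb) := by
  letI := quotAlg J hJ
  intro y
  obtain ⟨x, rfl⟩ := hsurj y
  exact ⟨Ideal.Quotient.mk J x, rfl⟩

theorem quotAlg_ker_le (J : Ideal R) (hJ : J ≤ RingHom.ker (algebraMap R Rb)) :
    letI := quotAlg J hJ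
    RingHom.ker (algebraMap (R ⧸ J) Rb) ≤
      (RingHom.ker (algebraMap R Rb)).map (Ideal.Quotient.mk J) := by
  letI := quotAlg J hJ
  intro y hy
  obtain ⟨x, rfl⟩ := Ideal.Quotient.mk_surjective y
  apply Ideal.mem_map_of_mem
  rw [RingHom.mem_ker]
  exact (RingHom.mem_ker).mp hy

theorem quotAlg_ker_pow (n : ℕ) (hn : 1 ≤ n)
    (hle : RingHom.ker (algebraMap R Rb) ^ n ≤ RingHom.ker (algebraMap R Rb)) :
    letI := quotAlg (RingHom.ker (algebraMap R Rb) ^ n) hle
    RingHom.ker (algebraMap (R ⧸ RingHom.ker (algebraMap R Rb) ^ n) Rb) ^ n = ⊥ := by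
  letI := quotAlg (RingHom.ker (algebraMap R Rb) ^ n) hle
  rw [eq_bot_iff]
  refine (Ideal.pow_right_mono (quotAlg_ker_le _ hle) n).trans ?_
  rw [← Ideal.map_pow, Ideal.map_quotient_self]

theorem sq_of_pow_succ (I : Ideal R) (n : ℕ) (hn : 1 ≤ n) (h : I ^ (n + 1) = ⊥) :
    I ^ n * I ^ n = ⊥ := by
  rw [eq_bot_iff, ← h, ← pow_add]
  exact Ideal.pow_le_pow_right (by omega)

theorem sq_of_pow_le_one (I : Ideal R) (n : ℕ) (hn : n ≤ 1) (h : I ^ n = ⊥) : I * I = ⊥ := by
  rw [eq_bot_iff]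
  have h1 : I ≤ ⊥ := by
    rcases Nat.le_one_iff_eq_zero_or_eq_one.mp hn with rfl | rfl
    · rw [pow_zero, Ideal.one_eq_top] at h
      rw [← h]
      exact le_top
    · rw [pow_one] at h
      rw [h]
  exact Ideal.mul_le_left.trans h1

end Quot

section Ind

/-- lifting of homomorphisms from a group with a normalized integral to a smooth group along a
surjection of base rings with nilpotent kernel -/
theorem exists_lift_nilp : ∀ (n : ℕ) (R : Type u) [CommRing R] (Rb : Type u) [CommRing Rb]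
    [Algebra R Rb] (hsurj : Function.Surjective (algebraMap R Rb))
    (hn : RingHom.ker (algebraMap R Rb) ^ n = ⊥)
    (C : Type u) [CommRing C] [HopfAlgebra R C] [Algebra.FormallySmooth R C]
    (A : Type u) [CommRing A] [HopfAlgebra R A] (χ : A →ₗ[R] R) (hχ : IsInt χ)
    (φb : (Rb ⊗[R] C) →ₐc[Rb] (Rb ⊗[R] A)),
    ∃ φ : C →ₐc[R] A, ∀ c : C, φb ((1 : Rb) ⊗ₜ[R] c) = (1 : Rb) ⊗ₜ[R] φ c := by
  intro n
  induction n with
  | zero =>
    intro R _ Rb _ _ hsurj hn C _ _ _ A _ _ χ hχ φb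
    exact exists_lift_sqzero hsurj (sq_of_pow_le_one _ 0 (by omega) hn) hχ φb
  | succ n ih =>
    intro R _ Rb _ _ hsurj hn C _ _ _ A _ _ χ hχ φb
    rcases Nat.eq_zero_or_pos n with rfl | hpos
    · exact exists_lift_sqzero hsurj (sq_of_pow_le_one _ 1 (by omega) hn) hχ φb
    · have hle : RingHom.ker (algebraMap R Rb) ^ n ≤ RingHom.ker (algebraMap R Rb) :=
        Ideal.pow_le_self (by omega)
      letI : Algebra (R ⧸ RingHom.ker (algebraMap R Rb) ^ n) Rb := quotAlg _ hle
      haveI : IsScalarTower R (R ⧸ RingHom.ker (algebraMap R Rb) ^ n) Rb := quotAlg_tower _ hle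
      have hsurj₁ := quotAlg_surj _ hle hsurj
      have hn₁ := quotAlg_ker_pow n hpos hle
      let φb₁ : (Rb ⊗[R ⧸ RingHom.ker (algebraMap R Rb) ^ n]
          ((R ⧸ RingHom.ker (algebraMap R Rb) ^ n) ⊗[R] C)) →ₐc[Rb]
          (Rb ⊗[R ⧸ RingHom.ker (algebraMap R Rb) ^ n]
            ((R ⧸ RingHom.ker (algebraMap R Rb) ^ n) ⊗[R] A)) :=
        ((MT.cancelBC R (R ⧸ RingHom.ker (algebraMap R Rb) ^ n) Rb A).symm :
          (Rb ⊗[R] A) →ₐc[Rb] _).comp
          (φb.comp ((MT.cancelBC R (R ⧸ RingHom.ker (algebraMap R Rb) ^ n) Rb C) :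
            _ →ₐc[Rb] (Rb ⊗[R] C)))
      obtain ⟨φ₁, hφ₁⟩ := ih (R ⧸ RingHom.ker (algebraMap R Rb) ^ n) Rb hsurj₁ hn₁
        ((R ⧸ RingHom.ker (algebraMap R Rb) ^ n) ⊗[R] C)
        ((R ⧸ RingHom.ker (algebraMap R Rb) ^ n) ⊗[R] A)
        (chiBC (R ⧸ RingHom.ker (algebraMap R Rb) ^ n) χ) (isInt_chiBC _ hχ) φb₁
      have hker : RingHom.ker (algebraMap R (R ⧸ RingHom.ker (algebraMap R Rb) ^ n)) =
          RingHom.ker (algebraMap R Rb) ^ n := by
        rw [Ideal.Quotient.algebraMap_eq, Ideal.mk_ker]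
      have hsq : RingHom.ker (algebraMap R (R ⧸ RingHom.ker (algebraMap R Rb) ^ n)) *
          RingHom.ker (algebraMap R (R ⧸ RingHom.ker (algebraMap R Rb) ^ n)) = ⊥ := by
        rw [hker]
        exact sq_of_pow_succ _ n hpos hn
      obtain ⟨φ, hφ⟩ := exists_lift_sqzero
        (Rb := R ⧸ RingHom.ker (algebraMap R Rb) ^ n) Ideal.Quotient.mk_surjective hsq hχ φ₁
      refine ⟨φ, fun c => ?_⟩
      have h := hφ₁ ((1 : R ⧸ RingHom.ker (algebraMap R Rb) ^ n) ⊗ₜ[R] c)
      rw [hφ c] at h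
      have h' := congrArg (MT.cancelBC R (R ⧸ RingHom.ker (algebraMap R Rb) ^ n) Rb A) h
      rw [MT.cancelBC_tmul, one_smul] at h'
      rw [← h']
      show φb _ = (MT.cancelBC R (R ⧸ RingHom.ker (algebraMap R Rb) ^ n) Rb A)
        ((MT.cancelBC R (R ⧸ RingHom.ker (algebraMap R Rb) ^ n) Rb A).symm
          (φb ((MT.cancelBC R (R ⧸ RingHom.ker (algebraMap R Rb) ^ n) Rb C)
            ((1 : Rb) ⊗ₜ[R ⧸ RingHom.ker (algebraMap R Rb) ^ n]
              ((1 : R ⧸ RingHom.ker (algebraMap R Rb) ^ n) ⊗ₜ[R] c)))))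
      rw [BialgEquiv.apply_symm_apply, MT.cancelBC_tmul, one_smul]

end Ind

end

end Groth.Agent.H9.LIF
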