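import Mathlib
import Groth.Prelude.Def_SGA3b
import Groth.Agent.Lib.Helper9.Misc.LIF5
import Groth.Agent.Lib.Helper9.Misc.GLL2

/-!
# The normalized integral of a group of multiplicative type (helper9)

A diagonalisable group has a normalized two-sided invariant integral (the coefficient of the unit
character); such integrals are unique, hence descend along coverings by charts.
-/

set_option autoImplicit false
set_option linter.unusedSectionVars false
set_option linter.unusedVariables false
set_option linter.style.haveILetI false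

namespace Groth.Agent.H9.LIF

open TensorProduct WithConv

noncomputable section

universe u

section RInt

variable {R : Type*} [CommRing R] {A : Type*} [CommRing A] [Bialgebra R A]

/-- normalized right-invariant integral -/
structure IsRInt (χ : A →ₗ[R] R) : Prop where
  one : χ 1 = 1
  inv : ∀ a : A, lamS χ A (TensorProduct.comm R A A (Coalgebra.comul (R := R) a)) = χ a • (1 : A)

theorem sum_of_isRInt {χ : A →ₗ[R] R} (h : IsRInt χ) (a : A) {ι : Type*}
    (r : Coalgebra.Repr R a ι) : ∑ i ∈ r.index, χ (r.left i) • r.right i = χ a • (1 : A) := by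
  have := h.inv a
  rw [← r.eq, map_sum, map_sum] at this
  rw [← this]
  refine Finset.sum_congr rfl fun i _ => ?_
  rw [TensorProduct.comm_tmul, lamS_tmul]

theorem isInt_of_sum {χ : A →ₗ[R] R} (h1 : χ 1 = 1)
    (h : ∀ a : A, ∑ i ∈ (Coalgebra.Repr.arbitrary R a).index,
      χ ((Coalgebra.Repr.arbitrary R a).right i) • (Coalgebra.Repr.arbitrary R a).left i =
        χ a • (1 : A)) : IsInt χ where
  one := h1
  inv := by
    intro a
    rw [← h a]
    conv_lhs => rw [← (Coalgebra.Repr.arbitrary R a).eq, map_sum]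
    refine Finset.sum_congr rfl fun i _ => ?_
    rw [lamS_tmul]

theorem isRInt_of_sum {χ : A →ₗ[R] R} (h1 : χ 1 = 1)
    (h : ∀ a : A, ∑ i ∈ (Coalgebra.Repr.arbitrary R a).index,
      χ ((Coalgebra.Repr.arbitrary R a).left i) • (Coalgebra.Repr.arbitrary R a).right i =
        χ a • (1 : A)) : IsRInt χ where
  one := h1
  inv := by
    intro a
    rw [← h a]
    conv_lhs => rw [← (Coalgebra.Repr.arbitrary R a).eq, map_sum, map_sum]
    refine Finset.sum_congr rfl fun i _ => ?_
    rw [TensorProduct.comm_tmul, lamS_tmul]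

/-- uniqueness of the normalized two-sided integral -/
theorem eq_of_isInt_of_isRInt {χ χ' : A →ₗ[R] R} (h : IsInt χ) (h' : IsRInt χ') : χ = χ' := by
  apply LinearMap.ext
  intro a
  have e1 := congrArg χ' (sum_of_isInt h a (Coalgebra.Repr.arbitrary R a))
  have e2 := congrArg χ (sum_of_isRInt h' a (Coalgebra.Repr.arbitrary R a))
  rw [map_sum, map_smul, h'.one, smul_eq_mul, mul_one] at e1
  rw [map_sum, map_smul, h.one, smul_eq_mul, mul_one] at e2
  rw [← e1, ← e2]
  refine Finset.sum_congr rfl fun i _ => ?_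
  rw [map_smul, map_smul, smul_eq_mul, smul_eq_mul, mul_comm]

variable {B : Type*} [CommRing B] [Bialgebra R B]

theorem lamS_comp (f : A →ₗ[R] B) (χ : B →ₗ[R] R) (t : A ⊗[R] A) :
    f (lamS (χ ∘ₗ f) A t) = lamS χ B (TensorProduct.map f f t) := by
  induction t using TensorProduct.induction_on with
  | zero => rw [map_zero, map_zero, map_zero, map_zero]
  | add x y hx hy => rw [map_add, map_add, hx, hy, map_add, map_add]
  | tmul a b =>
    rw [lamS_tmul, TensorProduct.map_tmul, lamS_tmul, map_smul, LinearMap.comp_apply]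

theorem isInt_comp_equiv (e : A ≃ₐc[R] B) {χ : B →ₗ[R] R} (h : IsInt χ) :
    IsInt (χ ∘ₗ ((e : A →ₐc[R] B) : A →ₗ[R] B)) where
  one := by
    show χ (e 1) = 1
    rw [map_one, h.one]
  inv := by
    intro a
    apply e.injective
    have hc := CoalgHomClass.map_comp_comul_apply (e : A →ₐc[R] B) a
    have hl := lamS_comp ((e : A →ₐc[R] B) : A →ₗ[R] B) χ (Coalgebra.comul (R := R) a)
    rw [hc] at hl
    show ((e : A →ₐc[R] B) : A →ₗ[R] B) _ = _
    rw [hl]
    show lamS χ B (Coalgebra.comul (R := R) (e a)) = e (χ (e a) • (1 : A))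
    rw [h.inv, map_smul, map_one]

theorem isRInt_comp_equiv (e : A ≃ₐc[R] B) {χ : B →ₗ[R] R} (h : IsRInt χ) :
    IsRInt (χ ∘ₗ ((e : A →ₐc[R] B) : A →ₗ[R] B)) where
  one := by
    show χ (e 1) = 1
    rw [map_one, h.one]
  inv := by
    intro a
    apply e.injective
    have hc := CoalgHomClass.map_comp_comul_apply (e : A →ₐc[R] B) a
    have hl := lamS_comp ((e : A →ₐc[R] B) : A →ₗ[R] B) χ
      (TensorProduct.comm R A A (Coalgebra.comul (R := R) a))
    have hcomm : ∀ t : A ⊗[R] A,
        TensorProduct.map ((e : A →ₐc[R] B) : A →ₗ[R] B) ((e : A →ₐc[R] B) : A →ₗ[R] B)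
          (TensorProduct.comm R A A t) =
        TensorProduct.comm R B B
          (TensorProduct.map ((e : A →ₐc[R] B) : A →ₗ[R] B) ((e : A →ₐc[R] B) : A →ₗ[R] B) t) := by
      intro t
      induction t using TensorProduct.induction_on with
      | zero => simp
      | add x y hx hy => rw [map_add, map_add, hx, hy, map_add, map_add]
      | tmul a b => rfl
    rw [hcomm, hc] at hl
    show ((e : A →ₐc[R] B) : A →ₗ[R] B) _ = _
    rw [hl]
    show lamS χ B (TensorProduct.comm R B B (Coalgebra.comul (R := R) (e a))) =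
      e (χ (e a) • (1 : A))
    rw [h.inv, map_smul, map_one]

end RInt

section MonAlg

variable (R : Type*) [CommRing R] (M : Type*) [CommGroup M]

/-- the coefficient of the unit element -/
def coeffOne : MonoidAlgebra R M →ₗ[R] R :=
  Finsupp.lapply 1 ∘ₗ (MonoidAlgebra.coeffLinearEquiv R).toLinearMap

theorem coeffOne_apply (x : MonoidAlgebra R M) : coeffOne R M x = x.coeff 1 := rfl

theorem coeffOne_single [DecidableEq M] (m : M) (r : R) :
    coeffOne R M (MonoidAlgebra.single m r) = if m = 1 then r else 0 := by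
  rw [coeffOne_apply, MonoidAlgebra.coeff_single, Finsupp.single_apply]

theorem comul_single' (m : M) (r : R) :
    Coalgebra.comul (R := R) (MonoidAlgebra.single m r : MonoidAlgebra R M) =
      (MonoidAlgebra.single m 1 : MonoidAlgebra R M) ⊗ₜ[R] MonoidAlgebra.single m r := by
  rw [MonoidAlgebra.comul_single, CommSemiring.comul_apply, TensorProduct.map_tmul]
  rfl

theorem isInt_coeffOne : IsInt (coeffOne R M) where
  one := MonoidAlgebra.coeff_one_one
  inv := by
    classical
    intro a
    induction a using MonoidAlgebra.induction_linear with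
    | zero => rw [map_zero, map_zero, map_zero, zero_smul]
    | add x y hx hy => rw [map_add, map_add, hx, hy, map_add, add_smul]
    | single m r =>
      rw [comul_single', lamS_tmul, coeffOne_single]
      by_cases hm : m = 1
      · subst hm
        rw [if_pos rfl, MonoidAlgebra.one_def]
      · rw [if_neg hm, zero_smul, zero_smul]

theorem isRInt_coeffOne : IsRInt (coeffOne R M) where
  one := MonoidAlgebra.coeff_one_one
  inv := by
    classical
    intro a
    induction a using MonoidAlgebra.induction_linear with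
    | zero => rw [map_zero, map_zero, map_zero, map_zero, zero_smul]
    | add x y hx hy => rw [map_add, map_add, map_add, hx, hy, map_add, add_smul]
    | single m r =>
      rw [comul_single', TensorProduct.comm_tmul, lamS_tmul, coeffOne_single, coeffOne_single]
      by_cases hm : m = 1
      · subst hm
        rw [if_pos rfl, if_pos rfl, one_smul, MonoidAlgebra.one_def, MonoidAlgebra.smul_single,
          smul_eq_mul, mul_one]
      · rw [if_neg hm, if_neg hm, zero_smul, zero_smul]

end MonAlg

section Diag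

variable {R : Type u} [CommRing R] {A : Type u} [CommRing A] [HopfAlgebra R A]

theorem exists_isInt_of_isDiag (h : SGA3b.IsDiag R A) :
    ∃ χ : A →ₗ[R] R, IsInt χ ∧ IsRInt χ := by
  obtain ⟨M, _, ⟨e⟩⟩ := h
  exact ⟨_, isInt_comp_equiv e (isInt_coeffOne R M), isRInt_comp_equiv e (isRInt_coeffOne R M)⟩

end Diag

section BC2

variable {R : Type*} [CommRing R] {A : Type*} [CommRing A] [Bialgebra R A]
  (S : Type*) [CommRing S] [Algebra R S]

theorem isRInt_chiBC {χ : A →ₗ[R] R} (h : IsRInt χ) :
    IsRInt (R := S) (A := S ⊗[R] A) (chiBC S χ) where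
  one := by
    rw [Algebra.TensorProduct.one_def, chiBC_tmul, h.one, one_smul]
  inv := by
    intro y
    induction y using TensorProduct.induction_on with
    | zero => rw [map_zero, map_zero, map_zero, map_zero, zero_smul]
    | add x y hx hy => rw [map_add, map_add, map_add, hx, hy, map_add, add_smul]
    | tmul s a =>
      rw [MT.comul_tmul_repr s a (Coalgebra.Repr.arbitrary R a), map_sum, map_sum]
      have e : ∀ i ∈ (Coalgebra.Repr.arbitrary R a).index,
          lamS (chiBC S χ) (S ⊗[R] A)
            (TensorProduct.comm S (S ⊗[R] A) (S ⊗[R] A)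
              ((s ⊗ₜ[R] (Coalgebra.Repr.arbitrary R a).left i) ⊗ₜ[S]
                ((1 : S) ⊗ₜ[R] (Coalgebra.Repr.arbitrary R a).right i))) =
          s ⊗ₜ[R] (χ ((Coalgebra.Repr.arbitrary R a).left i) •
            (Coalgebra.Repr.arbitrary R a).right i) := by
        intro i _
        rw [TensorProduct.comm_tmul, lamS_tmul, chiBC_tmul, TensorProduct.smul_tmul', smul_eq_mul,
          smul_mul_assoc, mul_one, TensorProduct.smul_tmul]
      rw [Finset.sum_congr rfl e, ← TensorProduct.tmul_sum,
        sum_of_isRInt h a (Coalgebra.Repr.arbitrary R a), chiBC_tmul, Algebra.TensorProduct.one_def,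
        TensorProduct.smul_tmul', smul_eq_mul, mul_one, TensorProduct.smul_tmul]

end BC2

section Desc

variable {R : Type u} [CommRing R] {A : Type u} [CommRing A] [HopfAlgebra R A]

/-- base change of a two-sided integral of `T ⊗ A` along an `R`-algebra map `T → S` -/
theorem exists_isInt_bc {T S : Type u} [CommRing T] [Algebra R T] [CommRing S] [Algebra R S]
    (g : T →ₐ[R] S) (χ' : T ⊗[R] A →ₗ[T] T) (h : IsInt χ') (h' : IsRInt χ') :
    ∃ χS : S ⊗[R] A →ₗ[S] S, IsInt χS ∧ IsRInt χS ∧
      ∀ a : A, χS ((1 : S) ⊗ₜ[R] a) = g (χ' ((1 : T) ⊗ₜ[R] a)) := by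
  letI : Algebra T S := g.toRingHom.toAlgebra
  haveI : IsScalarTower R T S := IsScalarTower.of_algebraMap_eq fun r => (g.commutes r).symm
  refine ⟨chiBC S χ' ∘ₗ (((MT.cancelBC R T S A).symm : S ⊗[R] A →ₐc[S] S ⊗[T] (T ⊗[R] A)) :
      S ⊗[R] A →ₗ[S] S ⊗[T] (T ⊗[R] A)),
    isInt_comp_equiv (MT.cancelBC R T S A).symm (isInt_chiBC S h),
    isRInt_comp_equiv (MT.cancelBC R T S A).symm (isRInt_chiBC S h'), fun a => ?_⟩
  show chiBC S χ' ((MT.cancelBC R T S A).symm ((1 : S) ⊗ₜ[R] a)) = _
  rw [MT.cancelBC_symm_tmul, chiBC_tmul, Algebra.smul_def, mul_one]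
  rfl

open GLL in
/-- the normalized two-sided integral of a group with diagonalisable charts -/
theorem exists_isInt_of_hasCharts (h : GLL.HasCharts R A) :
    ∃ χ : A →ₗ[R] R, IsInt χ ∧ IsRInt χ := by
  classical
  obtain ⟨s, hs, hloc⟩ := h
  obtain ⟨s', hs's, hs'⟩ := (Ideal.span_eq_top_iff_finite s).mp hs
  have hloc' : ∀ i : s', ∃ (T : Type u) (_ : CommRing T) (_ : Algebra R T),
      IsCov (i : R) T ∧ ∃ χ' : T ⊗[R] A →ₗ[T] T, IsInt χ' ∧ IsRInt χ' := by
    intro i
    obtain ⟨T, _, _, hT, hd⟩ := hloc i (hs's i.2)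
    exact ⟨T, inferInstance, inferInstance, hT, exists_isInt_of_isDiag hd⟩
  choose T hTr hTa hT χ' hχ' hχ'R using hloc'
  letI : ∀ i, CommRing (T i) := hTr
  letI : ∀ i, Algebra R (T i) := hTa
  have hr : Ideal.span (Set.range fun i : s' => (i : R)) = ⊤ := by
    have : (Set.range fun i : s' => (i : R)) = (s' : Set R) := by
      ext x
      simp
    rw [this]
    exact hs'
  -- the value at `a`
  have hex : ∀ a : A, ∃ n : R, ∀ i : s', algebraMap R (T i) n = χ' i ((1 : T i) ⊗ₜ[R] a) := by
    intro a
    have hcomp : ∀ i j : s',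
        (Algebra.TensorProduct.includeLeft : T i →ₐ[R] T i ⊗[R] T j) (χ' i ((1 : T i) ⊗ₜ[R] a)) =
        (Algebra.TensorProduct.includeRight : T j →ₐ[R] T i ⊗[R] T j)
          (χ' j ((1 : T j) ⊗ₜ[R] a)) := by
      intro i j
      obtain ⟨χ1, h1, _, e1⟩ := exists_isInt_bc
        (Algebra.TensorProduct.includeLeft : T i →ₐ[R] T i ⊗[R] T j) (χ' i) (hχ' i) (hχ'R i)
      obtain ⟨χ2, _, h2, e2⟩ := exists_isInt_bc
        (Algebra.TensorProduct.includeRight : T j →ₐ[R] T i ⊗[R] T j) (χ' j) (hχ' j) (hχ'R j)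
      rw [← e1, ← e2, eq_of_isInt_of_isRInt h1 h2]
    obtain ⟨n, hn⟩ := exists_glue (N := R) (fun i : s' => (i : R)) hr T hT
      (fun i => χ' i ((1 : T i) ⊗ₜ[R] a) ⊗ₜ[R] (1 : R)) (by
        intro i j
        rw [LinearMap.rTensor_tmul, LinearMap.rTensor_tmul, AlgHom.toLinearMap_apply,
          AlgHom.toLinearMap_apply, hcomp i j])
    refine ⟨n, fun i => ?_⟩
    have := congrArg (TensorProduct.rid R (T i)) (hn i)
    rw [TensorProduct.rid_tmul, TensorProduct.rid_tmul, one_smul] at this
    rw [Algebra.algebraMap_eq_smul_one]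
    exact this
  choose χ₀ hχ₀ using hex
  have hzero : ∀ x : R, (∀ i : s', algebraMap R (T i) x = 0) → x = 0 := by
    intro x hx
    refine eq_zero_of_cov hr x ?_
    rintro f ⟨i, rfl⟩
    exact ⟨T i, inferInstance, inferInstance, hT i, hx i⟩
  have hzeroA : ∀ x : A, (∀ i : s', (1 : T i) ⊗ₜ[R] x = 0) → x = 0 := by
    intro x hx
    refine eq_zero_of_cov_module hr x ?_
    rintro f ⟨i, rfl⟩
    exact ⟨T i, inferInstance, inferInstance, hT i, hx i⟩
  let χ : A →ₗ[R] R :=
    { toFun := χ₀
      map_add' := by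
        intro a b
        rw [← sub_eq_zero]
        apply hzero
        intro i
        rw [map_sub, map_add, hχ₀, hχ₀, hχ₀, TensorProduct.tmul_add, map_add, sub_self]
      map_smul' := by
        intro c a
        rw [← sub_eq_zero]
        apply hzero
        intro i
        rw [map_sub, RingHom.id_apply, smul_eq_mul, map_mul, hχ₀, hχ₀, TensorProduct.tmul_smul,
          ← algebraMap_smul (T i) c ((1 : T i) ⊗ₜ[R] a), map_smul, smul_eq_mul, sub_self] }
  have hχ : ∀ (i : s') (a : A), algebraMap R (T i) (χ a) = χ' i ((1 : T i) ⊗ₜ[R] a) :=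
    fun i a => hχ₀ a i
  have hone : χ 1 = 1 := by
    rw [← sub_eq_zero]
    apply hzero
    intro i
    rw [map_sub, hχ, map_one, ← Algebra.TensorProduct.one_def, (hχ' i).one, sub_self]
  have hsm : ∀ (i : s') (c : R) (a : A), (1 : T i) ⊗ₜ[R] (c • a) =
      algebraMap R (T i) c • ((1 : T i) ⊗ₜ[R] a) := by
    intro i c a
    rw [TensorProduct.tmul_smul, algebraMap_smul]
  refine ⟨χ, isInt_of_sum hone fun a => ?_, isRInt_of_sum hone fun a => ?_⟩
  · rw [← sub_eq_zero]
    apply hzeroA
    intro i
    rw [TensorProduct.tmul_sub, TensorProduct.tmul_sum, sub_eq_zero]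
    have e : ∀ k ∈ (Coalgebra.Repr.arbitrary R a).index,
        (1 : T i) ⊗ₜ[R] (χ ((Coalgebra.Repr.arbitrary R a).right k) •
          (Coalgebra.Repr.arbitrary R a).left k) =
        χ' i ((MT.reprBC (1 : T i) (Coalgebra.Repr.arbitrary R a)).right k) •
          (MT.reprBC (1 : T i) (Coalgebra.Repr.arbitrary R a)).left k := by
      intro k _
      rw [hsm, hχ]
      rfl
    rw [Finset.sum_congr rfl e]
    have := sum_of_isInt (hχ' i) ((1 : T i) ⊗ₜ[R] a)
      (MT.reprBC (1 : T i) (Coalgebra.Repr.arbitrary R a))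
    rw [hsm, hχ]
    exact this
  · rw [← sub_eq_zero]
    apply hzeroA
    intro i
    rw [TensorProduct.tmul_sub, TensorProduct.tmul_sum, sub_eq_zero]
    have e : ∀ k ∈ (Coalgebra.Repr.arbitrary R a).index,
        (1 : T i) ⊗ₜ[R] (χ ((Coalgebra.Repr.arbitrary R a).left k) •
          (Coalgebra.Repr.arbitrary R a).right k) =
        χ' i ((MT.reprBC (1 : T i) (Coalgebra.Repr.arbitrary R a)).left k) •
          (MT.reprBC (1 : T i) (Coalgebra.Repr.arbitrary R a)).right k := by
      intro k _
      rw [hsm, hχ]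
      rfl
    rw [Finset.sum_congr rfl e]
    have := sum_of_isRInt (hχ'R i) ((1 : T i) ⊗ₜ[R] a)
      (MT.reprBC (1 : T i) (Coalgebra.Repr.arbitrary R a))
    rw [hsm, hχ]
    exact this

/-- a group of multiplicative type has a normalized invariant integral -/
theorem exists_isInt_of_isMultType (h : SGA3b.IsMultType R A) : ∃ χ : A →ₗ[R] R, IsInt χ := by
  obtain ⟨χ, hχ, -⟩ := exists_isInt_of_hasCharts (GLL.hasCharts_of_isMultType h)
  exact ⟨χ, hχ⟩

end Desc

end

end Groth.Agent.H9.LIF
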