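import Mathlib
import Groth.Agent.Lib.Helper9.Misc.GLL1
import Groth.Agent.Lib.Helper9.Misc.LIF7
import Groth.Agent.Lib.Helper9.AdicComplete

/-!
# Adic systems of approximate homomorphisms and coefficient functionals (helper9)

Infrastructure for the algebraization of formal homomorphisms into an isotrivial group of
multiplicative type: retractions of finite projective faithfully flat algebras, limits and
separatedness for `I`-adic congruences, the coefficient functionals of a trivialization
`A' ⊗ B ≃ A'[M]`, and the notion `AdicSys` of an `I`-adic system of approximate bialgebra maps.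
-/

set_option autoImplicit false
set_option linter.unusedSectionVars false
set_option linter.unusedVariables false
set_option linter.style.haveILetI false

namespace Groth.Agent.H9.LIF

open TensorProduct

noncomputable section

universe u

section Retr

/-- a finite projective faithfully flat algebra has a linear retraction -/
theorem exists_retraction (A : Type*) [CommRing A] (A' : Type*) [CommRing A'] [Algebra A A']
    [Module.Projective A A'] [Module.FaithfullyFlat A A'] : ∃ σ : A' →ₗ[A] A, σ 1 = 1 := by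
  classical
  let ev : (A' →ₗ[A] A) →ₗ[A] A := LinearMap.applyₗ (1 : A')
  suffices h : LinearMap.range ev = ⊤ by
    have h1 : (1 : A) ∈ LinearMap.range ev := h ▸ Submodule.mem_top
    obtain ⟨σ, hσ⟩ := h1
    exact ⟨σ, hσ⟩
  by_contra hne
  obtain ⟨m, hm, hJm⟩ := Ideal.exists_le_maximal (LinearMap.range ev) hne
  obtain ⟨s, hs⟩ := Module.projective_def'.mp (inferInstance : Module.Projective A A')
  have h1 : (1 : A') ∈ m • (⊤ : Submodule A A') := by
    have e := LinearMap.congr_fun hs 1
    rw [LinearMap.comp_apply, LinearMap.id_apply, Finsupp.linearCombination_apply] at e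
    rw [← e]
    unfold Finsupp.sum
    refine Submodule.sum_mem _ fun x _ => ?_
    refine Submodule.smul_mem_smul (hJm ?_) Submodule.mem_top
    exact ⟨(Finsupp.lapply x) ∘ₗ s, rfl⟩
  have h2 : m • (⊤ : Submodule A A') = ⊤ := by
    rw [Ideal.smul_top_eq_map] at h1 ⊢
    have h3 : m.map (algebraMap A A') = ⊤ := (Ideal.eq_top_iff_one _).mpr h1
    rw [h3]
    rfl
  exact Module.FaithfullyFlat.submodule_ne_top (M := A') hm h2

end Retr

section Adic

variable {A : Type u} [CommRing A] (I : Ideal A)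

theorem mul_mem_smul_top {A' : Type*} [CommRing A'] [Algebra A A'] (J K : Ideal A) {x y : A'}
    (hx : x ∈ J • (⊤ : Submodule A A')) (hy : y ∈ K • (⊤ : Submodule A A')) :
    x * y ∈ (J * K) • (⊤ : Submodule A A') := by
  apply GLL.mem_smul_top_of_mem_map
  rw [Ideal.map_mul]
  exact Ideal.mul_mem_mul (GLL.mem_map_of_mem_smul_top _ hx) (GLL.mem_map_of_mem_smul_top _ hy)

theorem exists_limit {N : Type*} [AddCommGroup N] [Module A N] [IsPrecomplete I N]
    (f : ℕ → N) (hf : ∀ n, f (n + 1) - f n ∈ I ^ (n + 1) • (⊤ : Submodule A N)) :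
    ∃ L : N, ∀ n, L - f n ∈ I ^ (n + 1) • (⊤ : Submodule A N) := by
  have hmono : ∀ k n, k ≤ n → f n - f k ∈ I ^ (k + 1) • (⊤ : Submodule A N) := by
    intro k n hkn
    induction n, hkn using Nat.le_induction with
    | base => rw [sub_self]; exact zero_mem _
    | succ n hkn ih =>
      have e : f (n + 1) - f k = (f (n + 1) - f n) + (f n - f k) := by abel
      rw [e]
      refine add_mem ?_ ih
      exact Submodule.smul_mono_left (Ideal.pow_le_pow_right (by omega)) (hf n)
  obtain ⟨L, hL⟩ := IsPrecomplete.prec ‹IsPrecomplete I N› (f := f) (fun {m n} hmn => by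
    rw [SModEq.sub_mem]
    have h1 := hmono m n hmn
    have h2 : f m - f n = -(f n - f m) := by abel
    rw [h2]
    exact neg_mem (Submodule.smul_mono_left (Ideal.pow_le_pow_right (Nat.le_succ m)) h1))
  refine ⟨L, fun n => ?_⟩
  have h1 := hL (n + 1)
  rw [SModEq.sub_mem] at h1
  have e : L - f n = -(f (n + 1) - L) + (f (n + 1) - f n) := by abel
  rw [e]
  exact add_mem (neg_mem h1) (hf n)

theorem eq_zero_of_hausdorff {N : Type*} [AddCommGroup N] [Module A N] [IsHausdorff I N]
    (x : N) (hx : ∀ n, x ∈ I ^ (n + 1) • (⊤ : Submodule A N)) : x = 0 := by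
  apply IsHausdorff.haus ‹IsHausdorff I N› x
  intro n
  rw [SModEq.zero]
  exact Submodule.smul_mono_left (Ideal.pow_le_pow_right (Nat.le_succ n)) (hx n)

/-- separatedness descends along a faithfully flat base change to a free module over a
separated algebra -/
theorem eq_zero_of_forall_mem_free (A' : Type*) [CommRing A'] [Algebra A A']
    [Module.FaithfullyFlat A A']
    (hA' : ∀ x : A', (∀ n, x ∈ I ^ (n + 1) • (⊤ : Submodule A A')) → x = 0)
    (N : Type*) [AddCommGroup N] [Module A N] [Module.Free A' (A' ⊗[A] N)]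
    (x : N) (hx : ∀ n, x ∈ I ^ (n + 1) • (⊤ : Submodule A N)) : x = 0 := by
  refine (Module.FaithfullyFlat.one_tmul_eq_zero_iff A N (A := A') x).mp ?_
  let bs := Module.Free.chooseBasis A' (A' ⊗[A] N)
  apply bs.ext_elem
  intro i
  rw [map_zero, Finsupp.zero_apply]
  apply hA'
  intro n
  let f : N →ₗ[A] A' :=
    ((Finsupp.lapply i ∘ₗ bs.repr.toLinearMap).restrictScalars A) ∘ₗ (TensorProduct.mk A A' N 1)
  exact GLL.map_mem_smul_top (I ^ (n + 1)) f (hx n)

end Adic

section Xi

variable {A : Type u} [CommRing A] {A' : Type u} [CommRing A'] [Algebra A A']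
  {B : Type u} [CommRing B] [HopfAlgebra A B] {M : Type u} [CommGroup M]
  (θ : (A' ⊗[A] B) ≃ₐc[A'] MonoidAlgebra A' M)

/-- `b ↦ θ (1 ⊗ b)` -/
def xi : B →ₗ[A] MonoidAlgebra A' M where
  toFun b := θ ((1 : A') ⊗ₜ[A] b)
  map_add' x y := by rw [TensorProduct.tmul_add, map_add]
  map_smul' a x := by
    rw [TensorProduct.tmul_smul, ← algebraMap_smul A' a ((1 : A') ⊗ₜ[A] x), map_smul,
      algebraMap_smul, RingHom.id_apply]

theorem xi_apply (b : B) : xi θ b = θ ((1 : A') ⊗ₜ[A] b) := rfl

/-- the coefficient at `m`, as an `A`-linear functional -/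
def cf (A : Type u) [CommRing A] {A' : Type u} [CommRing A'] [Algebra A A'] {M : Type u}
    [CommGroup M] (m : M) : MonoidAlgebra A' M →ₗ[A] A' :=
  Finsupp.lapply m ∘ₗ (MonoidAlgebra.coeffLinearEquiv A).toLinearMap

theorem cf_apply (m : M) (x : MonoidAlgebra A' M) : cf A m x = x.coeff m := rfl

/-- the coefficient at `m` of `θ (1 ⊗ b)` -/
def xim (m : M) : B →ₗ[A] A' := cf A m ∘ₗ xi θ

theorem xim_apply (m : M) (b : B) : xim θ m b = (xi θ b).coeff m := rfl

/-- `b₁ ⊗ b₂ ↦ ξ_m(b₁) ξ_m(b₂)` -/
def Xim (m : M) : B ⊗[A] B →ₗ[A] A' :=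
  LinearMap.mul' A A' ∘ₗ TensorProduct.map (xim θ m) (xim θ m)

theorem Xim_tmul (m : M) (x y : B) : Xim θ m (x ⊗ₜ[A] y) = xim θ m x * xim θ m y := rfl

theorem kappa_comul (m : M) (x : MonoidAlgebra A' M) :
    (LinearMap.mul' A' A' ∘ₗ TensorProduct.map (cf A' m) (cf A' m))
      (Coalgebra.comul (R := A') x) = x.coeff m := by
  classical
  induction x using MonoidAlgebra.induction_linear with
  | zero => rw [map_zero, map_zero]; rfl
  | add x y hx hy => rw [map_add, map_add, hx, hy]; rfl
  | single n a =>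
    rw [comul_single', LinearMap.comp_apply, TensorProduct.map_tmul, LinearMap.mul'_apply,
      cf_apply, cf_apply, MonoidAlgebra.coeff_single, MonoidAlgebra.coeff_single,
      Finsupp.single_apply, Finsupp.single_apply]
    by_cases h : n = m
    · rw [if_pos h, one_mul]
    · simp only [if_neg h, zero_mul]

theorem Xim_comul (m : M) (b : B) :
    Xim θ m (Coalgebra.comul (R := A) b) = xim θ m b := by
  let r := Coalgebra.Repr.arbitrary A b
  have h1 : Coalgebra.comul (R := A') (θ ((1 : A') ⊗ₜ[A] b)) =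
      ∑ i ∈ r.index, θ ((1 : A') ⊗ₜ[A] r.left i) ⊗ₜ[A'] θ ((1 : A') ⊗ₜ[A] r.right i) := by
    rw [← CoalgHomClass.map_comp_comul_apply θ, MT.comul_tmul_repr (1 : A') b r, map_sum]
    refine Finset.sum_congr rfl fun i _ => ?_
    rw [TensorProduct.map_tmul]
    rfl
  have h2 := kappa_comul (A' := A') m (θ ((1 : A') ⊗ₜ[A] b))
  rw [h1, map_sum] at h2
  rw [← r.eq, map_sum]
  show _ = (θ ((1 : A') ⊗ₜ[A] b)).coeff m
  rw [← h2]
  refine Finset.sum_congr rfl fun i _ => ?_
  rfl

/-- `z ↦ (σ ⊗ id) (θ⁻¹ z)` -/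
def tau (σ : A' →ₗ[A] A) : MonoidAlgebra A' M →ₗ[A] B where
  toFun z := TensorProduct.lid A B (LinearMap.rTensor B σ (θ.symm z))
  map_add' x y := by rw [map_add, map_add, map_add]
  map_smul' a z := by
    rw [← algebraMap_smul A' a z, map_smul, algebraMap_smul, map_smul, map_smul, RingHom.id_apply]

theorem tau_xi (σ : A' →ₗ[A] A) (hσ : σ 1 = 1) (b : B) : tau θ σ (xi θ b) = b := by
  show TensorProduct.lid A B (LinearMap.rTensor B σ (θ.symm (θ ((1 : A') ⊗ₜ[A] b)))) = b
  rw [BialgEquiv.symm_apply_apply, LinearMap.rTensor_tmul, hσ, TensorProduct.lid_tmul, one_smul]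

theorem mem_smul_top_of_coeff (J : Ideal A) (z : MonoidAlgebra A' M)
    (h : ∀ m, z.coeff m ∈ J • (⊤ : Submodule A A')) :
    z ∈ J • (⊤ : Submodule A (MonoidAlgebra A' M)) := by
  have e := MonoidAlgebra.sum_coeff_single z
  rw [← e]
  unfold Finsupp.sum
  refine Submodule.sum_mem _ fun m _ => ?_
  exact GLL.map_mem_smul_top J (MonoidAlgebra.lsingle (R := A) m) (h m)

end Xi

/-- An `I`-adic system of approximate bialgebra maps `C → B`: maps `b n : C → B` which are
compatible and satisfy the axioms of a bialgebra map modulo `I ^ (n + 1)`. -/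
structure AdicSys {A : Type u} [CommRing A] (I : Ideal A) (C : Type u) [CommRing C]
    [Bialgebra A C] (B : Type u) [CommRing B] [Bialgebra A B] where
  b : ℕ → C → B
  succ : ∀ n c, b (n + 1) c - b n c ∈ I ^ (n + 1) • (⊤ : Submodule A B)
  add : ∀ n c c', b n (c + c') - (b n c + b n c') ∈ I ^ (n + 1) • (⊤ : Submodule A B)
  smul : ∀ n (a : A) c, b n (a • c) - a • b n c ∈ I ^ (n + 1) • (⊤ : Submodule A B)
  mul : ∀ n c c', b n (c * c') - b n c * b n c' ∈ I ^ (n + 1) • (⊤ : Submodule A B)
  one : ∀ n, b n 1 - 1 ∈ I ^ (n + 1) • (⊤ : Submodule A B)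
  counit : ∀ n c, Coalgebra.counit (R := A) (b n c) - Coalgebra.counit (R := A) c ∈
    I ^ (n + 1) • (⊤ : Submodule A A)
  comul : ∀ n c (ι : Type u) (r : Coalgebra.Repr A c ι),
    ∑ i ∈ r.index, b n (r.left i) ⊗ₜ[A] b n (r.right i) - Coalgebra.comul (R := A) (b n c) ∈
      I ^ (n + 1) • (⊤ : Submodule A (B ⊗[A] B))

namespace AdicSys

variable {A : Type u} [CommRing A] {I : Ideal A} {C : Type u} [CommRing C] [Bialgebra A C]
  {B : Type u} [CommRing B] [Bialgebra A B] (sys : AdicSys I C B)

theorem le (k n : ℕ) (h : k ≤ n) (c : C) :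
    sys.b n c - sys.b k c ∈ I ^ (k + 1) • (⊤ : Submodule A B) := by
  induction n, h using Nat.le_induction with
  | base => rw [sub_self]; exact zero_mem _
  | succ n hkn ih =>
    have e : sys.b (n + 1) c - sys.b k c = (sys.b (n + 1) c - sys.b n c) +
        (sys.b n c - sys.b k c) := by abel
    rw [e]
    refine add_mem ?_ ih
    exact Submodule.smul_mono_left (Ideal.pow_le_pow_right (by omega)) (sys.succ n c)

theorem zero (n : ℕ) : sys.b n 0 ∈ I ^ (n + 1) • (⊤ : Submodule A B) := by
  have h := sys.add n 0 0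
  rw [add_zero] at h
  have e : sys.b n 0 = -(sys.b n 0 - (sys.b n 0 + sys.b n 0)) := by abel
  rw [e]
  exact neg_mem h

theorem sum (n : ℕ) (S : Finset C) (f : C → A) :
    sys.b n (∑ w ∈ S, f w • w) - ∑ w ∈ S, f w • sys.b n w ∈
      I ^ (n + 1) • (⊤ : Submodule A B) := by
  classical
  induction S using Finset.induction_on with
  | empty =>
    rw [Finset.sum_empty, Finset.sum_empty, sub_zero]
    exact sys.zero n
  | insert a s ha ih =>
    rw [Finset.sum_insert ha, Finset.sum_insert ha]
    have e : sys.b n (f a • a + ∑ w ∈ s, f w • w) -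
        (f a • sys.b n a + ∑ w ∈ s, f w • sys.b n w) =
        (sys.b n (f a • a + ∑ w ∈ s, f w • w) -
          (sys.b n (f a • a) + sys.b n (∑ w ∈ s, f w • w))) +
        (sys.b n (f a • a) - f a • sys.b n a) +
        (sys.b n (∑ w ∈ s, f w • w) - ∑ w ∈ s, f w • sys.b n w) := by abel
    rw [e]
    exact add_mem (add_mem (sys.add _ _ _) (sys.smul _ _ _)) ih

end AdicSys

end

end Groth.Agent.H9.LIF
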