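import Mathlib

/-!
# Local finiteness of flat coalgebras over Noetherian rings (Serre) (helper9)

If `C` is a flat coalgebra over a Noetherian ring `R`, every element of `C` lies in a finitely
generated submodule `V` with `Δ V ⊆ V ⊗ C`.
-/

set_option autoImplicit false
set_option linter.unusedSectionVars false
set_option linter.unusedVariables false
set_option linter.style.haveILetI false

namespace Groth.Agent.H9.LIF

open TensorProduct

noncomputable section

section Serre

variable {R : Type*} [CommRing R] {C : Type*} [AddCommGroup C] [Module R C] [Coalgebra R C]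

/-- `ψ_F = (π_F ⊗ id) ∘ Δ` -/
def psiF (F : Submodule R C) : C →ₗ[R] (C ⧸ F) ⊗[R] C :=
  (F.mkQ.rTensor C) ∘ₗ Coalgebra.comul

theorem ker_psiF_le (F : Submodule R C) : LinearMap.ker (psiF F) ≤ F := by
  intro x hx
  rw [LinearMap.mem_ker] at hx
  have h0 : ∀ z : C ⊗[R] C, (Coalgebra.counit (R := R) (A := C)).lTensor (C ⧸ F)
      (F.mkQ.rTensor C z) = F.mkQ.rTensor R ((Coalgebra.counit (R := R) (A := C)).lTensor C z) := by
    intro z
    induction z using TensorProduct.induction_on with
    | zero => simp
    | tmul a b => simp only [LinearMap.lTensor_tmul, LinearMap.rTensor_tmul]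
    | add a b ha hb => simp only [map_add, ha, hb]
  have h1 : (Coalgebra.counit (R := R) (A := C)).lTensor (C ⧸ F) (psiF F x) =
      F.mkQ x ⊗ₜ[R] (1 : R) := by
    unfold psiF
    rw [LinearMap.comp_apply, h0, Coalgebra.lTensor_counit_comul, LinearMap.rTensor_tmul]
  rw [hx, map_zero] at h1
  have h2 := congrArg (TensorProduct.rid R (C ⧸ F)) h1
  rw [map_zero, TensorProduct.rid_tmul, one_smul] at h2
  exact (Submodule.Quotient.mk_eq_zero F).mp h2.symm

theorem ker_psiF_fg [IsNoetherianRing R] (F : Submodule R C) (hF : F.FG) :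
    (LinearMap.ker (psiF F)).FG :=
  Submodule.FG.of_le hF (ker_psiF_le F)

theorem psiF_rTensor_comul (F : Submodule R C) (x : C) (hx : psiF F x = 0) :
    (psiF F).rTensor C (Coalgebra.comul (R := R) x) = 0 := by
  have h1 : (psiF F).rTensor C (Coalgebra.comul (R := R) x) =
      (TensorProduct.assoc R (C ⧸ F) C C).symm
        ((Coalgebra.comul (R := R) (A := C)).lTensor (C ⧸ F) (psiF F x)) := by
    unfold psiF
    rw [LinearMap.rTensor_comp, LinearMap.comp_apply, ← Coalgebra.coassoc_symm_apply,
      LinearMap.comp_apply]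
    generalize Coalgebra.comul (R := R) x = z
    induction z using TensorProduct.induction_on with
    | zero => simp
    | tmul a b =>
      simp only [LinearMap.lTensor_tmul, LinearMap.rTensor_tmul]
      generalize Coalgebra.comul (R := R) b = w
      induction w using TensorProduct.induction_on with
      | zero => simp
      | tmul p q => simp
      | add p q hp hq => simp only [TensorProduct.tmul_add, map_add, hp, hq]
    | add a b ha hb => simp only [map_add, ha, hb]
  rw [h1, hx, map_zero, map_zero]

/-- **Serre**: local finiteness of flat coalgebras over Noetherian rings. -/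
theorem exists_fg_subcomodule [IsNoetherianRing R] [Module.Flat R C] (c : C) :
    ∃ V : Submodule R C, V.FG ∧ c ∈ V ∧
      ∀ x ∈ V, Coalgebra.comul (R := R) x ∈ LinearMap.range (V.subtype.rTensor C) := by
  classical
  let r := Coalgebra.Repr.arbitrary R c
  let F : Submodule R C := Submodule.span R ((r.index.image r.left : Finset C) : Set C)
  have hF : F.FG := ⟨r.index.image r.left, rfl⟩
  refine ⟨LinearMap.ker (psiF F), ker_psiF_fg F hF, ?_, ?_⟩
  · rw [LinearMap.mem_ker]
    unfold psiF
    rw [LinearMap.comp_apply, ← r.eq, map_sum]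
    refine Finset.sum_eq_zero fun i hi => ?_
    rw [LinearMap.rTensor_tmul]
    have : F.mkQ (r.left i) = 0 :=
      (Submodule.Quotient.mk_eq_zero F).mpr
        (Submodule.subset_span (Finset.mem_coe.mpr (Finset.mem_image_of_mem _ hi)))
    rw [this, TensorProduct.zero_tmul]
  · intro x hx
    have hex : Function.Exact ((LinearMap.ker (psiF F)).subtype.rTensor C)
        ((psiF F).rTensor C) :=
      Module.Flat.rTensor_exact C (LinearMap.exact_subtype_ker_map (psiF F))
    obtain ⟨w, hw⟩ := (hex (Coalgebra.comul (R := R) x)).mp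
      (psiF_rTensor_comul F x (LinearMap.mem_ker.mp hx))
    exact ⟨w, hw⟩

/-- Coordinate form of local finiteness: a finite set `S ∋`-spanning `c` with
`Δ v = ∑_{w ∈ S} w ⊗ t w v` for `v ∈ S`. -/
theorem exists_finset_comul [IsNoetherianRing R] [Module.Flat R C] (c : C) :
    ∃ (S : Finset C) (t : C → C → C), c ∈ Submodule.span R (S : Set C) ∧
      ∀ v ∈ S, Coalgebra.comul (R := R) v = ∑ w ∈ S, w ⊗ₜ[R] t w v := by
  classical
  obtain ⟨V, ⟨S, hS⟩, hc, hV⟩ := exists_fg_subcomodule (R := R) c
  have key : ∀ z : V ⊗[R] C, ∃ t : C → C, V.subtype.rTensor C z = ∑ w ∈ S, w ⊗ₜ[R] t w := by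
    intro z
    induction z using TensorProduct.induction_on with
    | zero => exact ⟨0, by simp⟩
    | tmul x y =>
      have hx : (x : C) ∈ Submodule.span R (S : Set C) := hS ▸ x.2
      obtain ⟨f, -, hf⟩ := Submodule.mem_span_finset.mp hx
      refine ⟨fun w => f w • y, ?_⟩
      rw [LinearMap.rTensor_tmul, Submodule.subtype_apply, ← hf, TensorProduct.sum_tmul]
      refine Finset.sum_congr rfl fun w _ => ?_
      rw [TensorProduct.smul_tmul]
    | add z z' hz hz' =>
      obtain ⟨t, ht⟩ := hz
      obtain ⟨t', ht'⟩ := hz'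
      refine ⟨t + t', ?_⟩
      rw [map_add, ht, ht', ← Finset.sum_add_distrib]
      refine Finset.sum_congr rfl fun w _ => ?_
      rw [Pi.add_apply, TensorProduct.tmul_add]
  have h2 : ∀ v : C, ∃ t : C → C, v ∈ S →
      Coalgebra.comul (R := R) v = ∑ w ∈ S, w ⊗ₜ[R] t w := by
    intro v
    by_cases hv : v ∈ S
    · have hvV : v ∈ V := hS ▸ Submodule.subset_span (Finset.mem_coe.mpr hv)
      obtain ⟨z, hz⟩ := hV v hvV
      obtain ⟨t, ht⟩ := key z
      exact ⟨t, fun _ => by rw [← hz, ht]⟩
    · exact ⟨0, fun h => absurd h hv⟩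
  choose t ht using h2
  exact ⟨S, fun w v => t v w, hS ▸ hc, fun v hv => ht v hv⟩

end Serre

end

end Groth.Agent.H9.LIF
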