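import Mathlib
import Groth.Prelude.Def_SGA3b
import Groth.Agent.Lib.Helper9.Misc.LIF9
import Groth.Agent.Lib.Helper9.Misc.LIF10

/-!
# Algebraization of adic systems of homomorphisms into isotrivial groups (helper9)
-/

set_option autoImplicit false
set_option linter.unusedSectionVars false
set_option linter.unusedVariables false
set_option linter.style.haveILetI false

namespace Groth.Agent.H9.LIF

open TensorProduct

noncomputable section

universe u

section Elem

variable {A : Type u} [CommRing A] {I : Ideal A} {C : Type u} [CommRing C] [Bialgebra A C]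
  {B : Type u} [CommRing B] [HopfAlgebra A B]

/-- elementwise limits exist, by local finiteness of `C` and boundedness of supports -/
theorem exists_limit_elem [IsNoetherianRing A] [Module.Flat A C] (sys : AdicSys I C B)
    {A' : Type u} [CommRing A'] [Algebra A A'] [IsPrecomplete I A']
    (σ : A' →ₗ[A] A) (hσ : σ 1 = 1) {M : Type u} [CommGroup M]
    (θ : (A' ⊗[A] B) ≃ₐc[A'] MonoidAlgebra A' M) (c : C) :
    ∃ y : B, ∀ n, y - sys.b n c ∈ I ^ (n + 1) • (⊤ : Submodule A B) := by
  classical
  obtain ⟨S, t, hcS, hS⟩ := exists_finset_comul (R := A) c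
  obtain ⟨f, -, hf⟩ := Submodule.mem_span_finset.mp hcS
  let F : Finset M := (S ×ˢ S).biUnion fun p => (xi θ (sys.b 0 (t p.1 p.2))).coeff.support
  have hF : ∀ m, m ∉ F → ∀ w ∈ S, ∀ v ∈ S, xim θ m (sys.b 0 (t w v)) = 0 := by
    intro m hm w hw v hv
    by_contra hne
    apply hm
    rw [Finset.mem_biUnion]
    exact ⟨(w, v), Finset.mem_product.mpr ⟨hw, hv⟩, Finsupp.mem_support_iff.mpr hne⟩
  have hA : ∀ m, m ∉ F → ∀ n, ∀ w ∈ S, ∀ v ∈ S,
      xim θ m (sys.b n (t w v)) ∈ I ^ 1 • (⊤ : Submodule A A') := by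
    intro m hm n w hw v hv
    have e : xim θ m (sys.b n (t w v)) = xim θ m (sys.b n (t w v) - sys.b 0 (t w v)) := by
      rw [map_sub, hF m hm w hw v hv, sub_zero]
    rw [e]
    exact GLL.map_mem_smul_top _ _ (sys.le 0 n (Nat.zero_le n) _)
  have hB : ∀ m, m ∉ F → ∀ n e, e ≤ n + 1 → ∀ v ∈ S,
      xim θ m (sys.b n v) ∈ I ^ e • (⊤ : Submodule A A') := by
    intro m hm n e
    induction e with
    | zero =>
      intro _ v _
      rw [pow_zero, Ideal.one_eq_top, Submodule.top_smul]
      trivial
    | succ e ih =>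
      intro he v hv
      have ih' := ih (by omega)
      let rv : Coalgebra.Repr A v C := ⟨S, id, fun w => t w v, (hS v hv).symm⟩
      have h1 := GLL.map_mem_smul_top (I ^ (n + 1)) (Xim θ m) (sys.comul n v C rv)
      rw [map_sub, Xim_comul, map_sum] at h1
      have h2 : ∑ i ∈ S, Xim θ m (sys.b n (id i) ⊗ₜ[A] sys.b n (t i v)) ∈
          I ^ (e + 1) • (⊤ : Submodule A A') := by
        refine Submodule.sum_mem _ fun w hw => ?_
        have h3 := mul_mem_smul_top (I ^ e) (I ^ 1) (ih' w hw) (hA m hm n w hw v hv)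
        rw [← pow_add] at h3
        exact h3
      have h3 := Submodule.smul_mono_left (Ideal.pow_le_pow_right he) h1
      have e4 : xim θ m (sys.b n v) =
          ∑ i ∈ S, Xim θ m (sys.b n (id i) ⊗ₜ[A] sys.b n (t i v)) -
          (∑ i ∈ S, Xim θ m (sys.b n (id i) ⊗ₜ[A] sys.b n (t i v)) -
            xim θ m (sys.b n v)) := by abel
      rw [e4]
      exact sub_mem h2 h3
  have hC : ∀ m, m ∉ F → ∀ n, xim θ m (sys.b n c) ∈ I ^ (n + 1) • (⊤ : Submodule A A') := by
    intro m hm n
    have h1 := GLL.map_mem_smul_top (I ^ (n + 1)) (xim θ m) (sys.sum n S f)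
    rw [hf, map_sub, map_sum] at h1
    have h2 : ∑ w ∈ S, xim θ m (f w • sys.b n w) ∈ I ^ (n + 1) • (⊤ : Submodule A A') := by
      refine Submodule.sum_mem _ fun w hw => ?_
      rw [map_smul]
      exact Submodule.smul_mem _ _ (hB m hm n (n + 1) le_rfl w hw)
    have e : xim θ m (sys.b n c) = (xim θ m (sys.b n c) - ∑ w ∈ S, xim θ m (f w • sys.b n w)) +
        ∑ w ∈ S, xim θ m (f w • sys.b n w) := by abel
    rw [e]
    exact add_mem h1 h2
  have hcauchy : ∀ m n, xim θ m (sys.b (n + 1) c) - xim θ m (sys.b n c) ∈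
      I ^ (n + 1) • (⊤ : Submodule A A') := by
    intro m n
    rw [← map_sub]
    exact GLL.map_mem_smul_top _ _ (sys.succ n c)
  choose L hL using fun m => exists_limit I (fun n => xim θ m (sys.b n c)) (hcauchy m)
  let y' : MonoidAlgebra A' M := ∑ m ∈ F, MonoidAlgebra.single m (L m)
  have hy' : ∀ m, y'.coeff m = if m ∈ F then L m else 0 := by
    intro m
    simp only [y', MonoidAlgebra.coeff_sum, MonoidAlgebra.coeff_single, Finsupp.coe_finsetSum,
      Finset.sum_apply, Finsupp.single_apply, Finset.sum_ite_eq']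
  have hD : ∀ n, y' - xi θ (sys.b n c) ∈
      I ^ (n + 1) • (⊤ : Submodule A (MonoidAlgebra A' M)) := by
    intro n
    apply mem_smul_top_of_coeff
    intro m
    show y'.coeff m - (xi θ (sys.b n c)).coeff m ∈ _
    rw [hy']
    split_ifs with hm
    · exact hL m n
    · rw [zero_sub]
      exact neg_mem (hC m hm n)
  refine ⟨tau θ σ y', fun n => ?_⟩
  have h := GLL.map_mem_smul_top (I ^ (n + 1)) (tau θ σ) (hD n)
  rwa [map_sub, tau_xi θ σ hσ] at h

end Elem

section Build

variable {A : Type u} [CommRing A] {I : Ideal A} {C : Type u} [CommRing C] [Bialgebra A C]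
  {B : Type u} [CommRing B] [Bialgebra A B]

/-- from elementwise limits and separatedness to a bialgebra map -/
theorem exists_bialgHom_of_limits (sys : AdicSys I C B)
    (hA : ∀ x : A, (∀ n, x ∈ I ^ (n + 1) • (⊤ : Submodule A A)) → x = 0)
    (hB : ∀ x : B, (∀ n, x ∈ I ^ (n + 1) • (⊤ : Submodule A B)) → x = 0)
    (hBB : ∀ x : B ⊗[A] B, (∀ n, x ∈ I ^ (n + 1) • (⊤ : Submodule A (B ⊗[A] B))) → x = 0)
    (hE : ∀ c : C, ∃ y : B, ∀ n, y - sys.b n c ∈ I ^ (n + 1) • (⊤ : Submodule A B)) :
    ∃ φ : C →ₐc[A] B, ∀ n c, φ c - sys.b n c ∈ I ^ (n + 1) • (⊤ : Submodule A B) := by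
  choose φ hφ using hE
  have uniq : ∀ c y, (∀ n, y - sys.b n c ∈ I ^ (n + 1) • (⊤ : Submodule A B)) → y = φ c := by
    intro c y hy
    rw [← sub_eq_zero]
    apply hB
    intro n
    have e : y - φ c = (y - sys.b n c) - (φ c - sys.b n c) := by abel
    rw [e]
    exact sub_mem (hy n) (hφ c n)
  have hadd : ∀ c c', φ (c + c') = φ c + φ c' := by
    intro c c'
    symm
    apply uniq
    intro n
    have e : φ c + φ c' - sys.b n (c + c') = (φ c - sys.b n c) + (φ c' - sys.b n c') -
        (sys.b n (c + c') - (sys.b n c + sys.b n c')) := by abel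
    rw [e]
    exact sub_mem (add_mem (hφ c n) (hφ c' n)) (sys.add n c c')
  have hsmul : ∀ (a : A) c, φ (a • c) = a • φ c := by
    intro a c
    symm
    apply uniq
    intro n
    have e : a • φ c - sys.b n (a • c) = a • (φ c - sys.b n c) -
        (sys.b n (a • c) - a • sys.b n c) := by rw [smul_sub]; abel
    rw [e]
    exact sub_mem (Submodule.smul_mem _ _ (hφ c n)) (sys.smul n a c)
  have hmul : ∀ c c', φ (c * c') = φ c * φ c' := by
    intro c c'
    symm
    apply uniq
    intro n
    have e : φ c * φ c' - sys.b n (c * c') = (φ c - sys.b n c) * φ c' +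
        sys.b n c * (φ c' - sys.b n c') - (sys.b n (c * c') - sys.b n c * sys.b n c') := by ring
    rw [e]
    refine sub_mem (add_mem ?_ ?_) (sys.mul n c c')
    · exact GLL.map_mem_smul_top (I ^ (n + 1)) (LinearMap.mulRight A (φ c')) (hφ c n)
    · exact GLL.map_mem_smul_top (I ^ (n + 1)) (LinearMap.mulLeft A (sys.b n c)) (hφ c' n)
  have hone : φ 1 = 1 := by
    symm
    apply uniq
    intro n
    have e : (1 : B) - sys.b n 1 = -(sys.b n 1 - 1) := by abel
    rw [e]
    exact neg_mem (sys.one n)
  let φl : C →ₗ[A] B := { toFun := φ, map_add' := hadd, map_smul' := hsmul }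
  let φa : C →ₐ[A] B := AlgHom.ofLinearMap φl hone hmul
  have hφa : ∀ c, φa c = φ c := fun c => rfl
  have hcounit : ∀ c, Coalgebra.counit (R := A) (φ c) = Coalgebra.counit (R := A) c := by
    intro c
    rw [← sub_eq_zero]
    apply hA
    intro n
    have e : Coalgebra.counit (R := A) (φ c) - Coalgebra.counit (R := A) c =
        Coalgebra.counit (R := A) (φ c - sys.b n c) +
        (Coalgebra.counit (R := A) (sys.b n c) - Coalgebra.counit (R := A) c) := by
      rw [map_sub]; abel
    rw [e]
    exact add_mem (GLL.map_mem_smul_top (I ^ (n + 1)) (Coalgebra.counit (R := A) (A := B))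
      (hφ c n)) (sys.counit n c)
  have hcomul : ∀ c, Algebra.TensorProduct.map φa φa (Coalgebra.comul (R := A) c) =
      Coalgebra.comul (R := A) (φ c) := by
    intro c
    let r := Coalgebra.Repr.arbitrary A c
    rw [← r.eq, map_sum]
    rw [← sub_eq_zero]
    apply hBB
    intro n
    have e : ∑ i ∈ r.index, Algebra.TensorProduct.map φa φa (r.left i ⊗ₜ[A] r.right i) -
        Coalgebra.comul (R := A) (φ c) =
        ∑ i ∈ r.index, ((φ (r.left i) - sys.b n (r.left i)) ⊗ₜ[A] φ (r.right i) +
          sys.b n (r.left i) ⊗ₜ[A] (φ (r.right i) - sys.b n (r.right i))) +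
        (∑ i ∈ r.index, sys.b n (r.left i) ⊗ₜ[A] sys.b n (r.right i) -
          Coalgebra.comul (R := A) (sys.b n c)) -
        Coalgebra.comul (R := A) (φ c - sys.b n c) := by
      rw [map_sub]
      have e1 : ∀ i ∈ r.index, Algebra.TensorProduct.map φa φa (r.left i ⊗ₜ[A] r.right i) =
          ((φ (r.left i) - sys.b n (r.left i)) ⊗ₜ[A] φ (r.right i) +
          sys.b n (r.left i) ⊗ₜ[A] (φ (r.right i) - sys.b n (r.right i))) +
          sys.b n (r.left i) ⊗ₜ[A] sys.b n (r.right i) := by
        intro i _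
        rw [Algebra.TensorProduct.map_tmul, hφa, hφa, TensorProduct.sub_tmul,
          TensorProduct.tmul_sub]
        abel
      rw [Finset.sum_congr rfl e1, Finset.sum_add_distrib]
      abel
    rw [e]
    refine sub_mem (add_mem (Submodule.sum_mem _ fun i _ => add_mem ?_ ?_) (sys.comul n c _ r)) ?_
    · exact GLL.map_mem_smul_top (I ^ (n + 1)) ((TensorProduct.mk A B B).flip (φ (r.right i)))
        (hφ (r.left i) n)
    · exact GLL.map_mem_smul_top (I ^ (n + 1)) (TensorProduct.mk A B B (sys.b n (r.left i)))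
        (hφ (r.right i) n)
    · exact GLL.map_mem_smul_top (I ^ (n + 1)) (Coalgebra.comul (R := A) (A := B)) (hφ c n)
  refine ⟨BialgHom.ofAlgHom φa ?_ ?_, fun n c => hφ c n⟩
  · apply AlgHom.ext
    intro c
    show Coalgebra.counit (R := A) (φ c) = Coalgebra.counit (R := A) c
    exact hcounit c
  · apply AlgHom.ext
    intro c
    show Algebra.TensorProduct.map φa φa (Coalgebra.comul (R := A) c) =
      Coalgebra.comul (R := A) (φ c)
    exact hcomul c

end Build

section Main

/-- **Algebraization**: an `I`-adic system of approximate bialgebra maps from a flat Hopf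
algebra `C` to an isotrivial Hopf algebra `B`, over a Noetherian `I`-adically complete ring,
converges to a bialgebra map. -/
theorem exists_algebraization (A : Type u) [CommRing A] [IsNoetherianRing A] (I : Ideal A)
    [IsAdicComplete I A]
    (B : Type u) [CommRing B] [HopfAlgebra A B] (hH : SGA3b.IsIsotrivial A B)
    (C : Type u) [CommRing C] [HopfAlgebra A C] [Module.Flat A C] (sys : AdicSys I C B) :
    ∃ φ : C →ₐc[A] B, ∀ n c, φ c - sys.b n c ∈ I ^ (n + 1) • (⊤ : Submodule A B) := by
  obtain ⟨A', _, _, hét, hfin, hff, M, _, ⟨θ⟩⟩ := hH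
  haveI : Module.FinitePresentation A A' := Module.finitePresentation_of_finite A A'
  haveI : Module.Projective A A' := Module.Flat.projective_of_finitePresentation
  haveI : IsAdicComplete I A' := isAdicComplete_of_finite_projective I A'
  obtain ⟨σ, hσ⟩ := exists_retraction A A'
  have hA' : ∀ x : A', (∀ n, x ∈ I ^ (n + 1) • (⊤ : Submodule A A')) → x = 0 :=
    fun x => eq_zero_of_hausdorff I x
  haveI : Module.Free A' (MonoidAlgebra A' M) :=
    Module.Free.of_equiv (MonoidAlgebra.coeffLinearEquiv A' (S := A') (M := M)).symm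
  haveI : Module.Free A' (A' ⊗[A] B) :=
    Module.Free.of_equiv (θ.toCoalgEquiv.toLinearEquiv).symm
  haveI : Module.Free A' (A' ⊗[A] (B ⊗[A] B)) :=
    Module.Free.of_equiv ((TensorProduct.AlgebraTensorModule.distribBaseChange A A' B B).trans
      (TensorProduct.congr θ.toCoalgEquiv.toLinearEquiv θ.toCoalgEquiv.toLinearEquiv)).symm
  refine exists_bialgHom_of_limits sys (fun x => eq_zero_of_hausdorff I x)
    (fun x => eq_zero_of_forall_mem_free I A' hA' B x)
    (fun x => eq_zero_of_forall_mem_free I A' hA' (B ⊗[A] B) x)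
    (fun c => exists_limit_elem sys σ hσ θ c)

end Main

end

end Groth.Agent.H9.LIF
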