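import Mathlib
import Groth.Agent.Lib.Helper9.Misc.LIF5

/-!
# Conjugacy of liftings of a homomorphism along a nilpotent extension of the base (helper9)
-/

set_option autoImplicit false
set_option linter.unusedSectionVars false
set_option linter.unusedVariables false
set_option linter.style.haveILetI false

namespace Groth.Agent.H9.LIF

open TensorProduct WithConv

noncomputable section

universe u

theorem isK_ring_iff {R : Type u} [CommRing R] {C : Type u} [CommRing C] [HopfAlgebra R C]
    (J : Ideal R) (g : Pt R C R) :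
    IsK J g ↔ ∀ c : C, g.hom c - Coalgebra.counit (R := R) c ∈ J := by
  rw [isK_iff]
  constructor
  · intro h c
    have := h c
    rw [Algebra.algebraMap_self, Ideal.map_id] at this
    exact this
  · intro h c
    rw [Algebra.algebraMap_self, Ideal.map_id]
    exact h c

/-- two homomorphisms from a group with a normalized integral to a smooth group which agree modulo
a nilpotent ideal are conjugate by a point congruent to the unit -/
theorem exists_conj_nilp : ∀ (n : ℕ) (R : Type u) [CommRing R] (Rb : Type u) [CommRing Rb]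
    [Algebra R Rb] (hsurj : Function.Surjective (algebraMap R Rb))
    (hn : RingHom.ker (algebraMap R Rb) ^ n = ⊥)
    (C : Type u) [CommRing C] [HopfAlgebra R C] [Algebra.FormallySmooth R C]
    (A : Type u) [CommRing A] [HopfAlgebra R A] (χ : A →ₗ[R] R) (hχ : IsInt χ)
    (u u' : C →ₐc[R] A) (h : ∀ c : C, (1 : Rb) ⊗ₜ[R] u c = (1 : Rb) ⊗ₜ[R] u' c),
    ∃ g : Pt R C R, IsK (RingHom.ker (algebraMap R Rb)) g ∧
      ptOf u' = Pt.map (Algebra.ofId R A) g * ptOf u * (Pt.map (Algebra.ofId R A) g)⁻¹ := by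
  intro n
  induction n with
  | zero =>
    intro R _ Rb _ _ hsurj hn C _ _ _ A _ _ χ hχ u u' h
    exact exists_conj_sqzero hsurj (sq_of_pow_le_one _ 0 (by omega) hn) hχ u u' h
  | succ n ih =>
    intro R _ Rb _ _ hsurj hn C _ _ _ A _ _ χ hχ u u' h
    rcases Nat.eq_zero_or_pos n with rfl | hpos
    · exact exists_conj_sqzero hsurj (sq_of_pow_le_one _ 1 (by omega) hn) hχ u u' h
    · have hle : RingHom.ker (algebraMap R Rb) ^ n ≤ RingHom.ker (algebraMap R Rb) :=
        Ideal.pow_le_self (by omega)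
      letI : Algebra (R ⧸ RingHom.ker (algebraMap R Rb) ^ n) Rb := quotAlg _ hle
      haveI : IsScalarTower R (R ⧸ RingHom.ker (algebraMap R Rb) ^ n) Rb := quotAlg_tower _ hle
      have hsurj₁ := quotAlg_surj _ hle hsurj
      have hn₁ := quotAlg_ker_pow n hpos hle
      have hker : RingHom.ker (algebraMap R (R ⧸ RingHom.ker (algebraMap R Rb) ^ n)) =
          RingHom.ker (algebraMap R Rb) ^ n := by
        rw [Ideal.Quotient.algebraMap_eq, Ideal.mk_ker]
      have hsq0 : RingHom.ker (algebraMap R Rb) ^ n * RingHom.ker (algebraMap R Rb) ^ n = ⊥ :=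
        sq_of_pow_succ _ n hpos hn
      have hsq : RingHom.ker (algebraMap R (R ⧸ RingHom.ker (algebraMap R Rb) ^ n)) *
          RingHom.ker (algebraMap R (R ⧸ RingHom.ker (algebraMap R Rb) ^ n)) = ⊥ := by
        rw [hker]
        exact hsq0
      -- base change of the two homomorphisms
      let u₁ : ((R ⧸ RingHom.ker (algebraMap R Rb) ^ n) ⊗[R] C) →ₐc[R ⧸ RingHom.ker (algebraMap R Rb) ^ n]
          ((R ⧸ RingHom.ker (algebraMap R Rb) ^ n) ⊗[R] A) :=
        Bialgebra.TensorProduct.map (BialgHom.id _ _) u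
      let u₁' : ((R ⧸ RingHom.ker (algebraMap R Rb) ^ n) ⊗[R] C) →ₐc[R ⧸ RingHom.ker (algebraMap R Rb) ^ n]
          ((R ⧸ RingHom.ker (algebraMap R Rb) ^ n) ⊗[R] A) :=
        Bialgebra.TensorProduct.map (BialgHom.id _ _) u'
      have hsm : ∀ (t : Rb) (a : A), t ⊗ₜ[R] a = t • ((1 : Rb) ⊗ₜ[R] a) := fun t a => by
        rw [TensorProduct.smul_tmul', smul_eq_mul, mul_one]
      have h₁ : ∀ x : (R ⧸ RingHom.ker (algebraMap R Rb) ^ n) ⊗[R] C,
          (1 : Rb) ⊗ₜ[R ⧸ RingHom.ker (algebraMap R Rb) ^ n] u₁ x =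
            (1 : Rb) ⊗ₜ[R ⧸ RingHom.ker (algebraMap R Rb) ^ n] u₁' x := by
        intro x
        induction x using TensorProduct.induction_on with
        | zero => rw [map_zero, map_zero]
        | add x y hx hy => rw [map_add, map_add, TensorProduct.tmul_add, TensorProduct.tmul_add, hx, hy]
        | tmul r c =>
          apply (MT.cancelBC R (R ⧸ RingHom.ker (algebraMap R Rb) ^ n) Rb A).injective
          show (MT.cancelBC R (R ⧸ RingHom.ker (algebraMap R Rb) ^ n) Rb A)
              ((1 : Rb) ⊗ₜ[R ⧸ RingHom.ker (algebraMap R Rb) ^ n] (r ⊗ₜ[R] u c)) =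
            (MT.cancelBC R (R ⧸ RingHom.ker (algebraMap R Rb) ^ n) Rb A)
              ((1 : Rb) ⊗ₜ[R ⧸ RingHom.ker (algebraMap R Rb) ^ n] (r ⊗ₜ[R] u' c))
          rw [MT.cancelBC_tmul, MT.cancelBC_tmul, hsm, hsm _ (u' c), h c]
      obtain ⟨g₁, hg₁K, hg₁⟩ := ih (R ⧸ RingHom.ker (algebraMap R Rb) ^ n) Rb hsurj₁ hn₁
        ((R ⧸ RingHom.ker (algebraMap R Rb) ^ n) ⊗[R] C)
        ((R ⧸ RingHom.ker (algebraMap R Rb) ^ n) ⊗[R] A)
        (chiBC (R ⧸ RingHom.ker (algebraMap R Rb) ^ n) χ) (isInt_chiBC _ hχ) u₁ u₁' h₁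
      -- lift the conjugating point
      let π : R →ₐ[R] (R ⧸ RingHom.ker (algebraMap R Rb) ^ n) := Algebra.ofId R _
      have hπ : Function.Surjective π := Ideal.Quotient.mk_surjective
      have hπker : RingHom.ker (π : R →+* (R ⧸ RingHom.ker (algebraMap R Rb) ^ n)) =
          RingHom.ker (algebraMap R Rb) ^ n := by
        ext x
        rw [RingHom.mem_ker]
        exact Ideal.Quotient.eq_zero_iff_mem
      have hπ' : IsNilpotent (RingHom.ker (π : R →+* (R ⧸ RingHom.ker (algebraMap R Rb) ^ n))) := by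
        rw [hπker]
        exact ⟨2, by rw [pow_two, hsq0]; rfl⟩
      let g₀ : C →ₐ[R] R := Algebra.FormallySmooth.liftOfSurjective
        ((restr (R ⧸ RingHom.ker (algebraMap R Rb) ^ n) g₁ :
          Pt R C (R ⧸ RingHom.ker (algebraMap R Rb) ^ n)).hom) π hπ hπ'
      have hg₀ : ∀ c : C, algebraMap R (R ⧸ RingHom.ker (algebraMap R Rb) ^ n) (g₀ c) =
          g₁.hom ((1 : R ⧸ RingHom.ker (algebraMap R Rb) ^ n) ⊗ₜ[R] c) := fun c =>
        Algebra.FormallySmooth.liftOfSurjective_apply _ π hπ hπ' c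
      let G₀ : Pt R C R := ⟨g₀⟩
      let w : Pt R C A := Pt.map (Algebra.ofId R A) G₀ * ptOf u * (Pt.map (Algebra.ofId R A) G₀)⁻¹
      have hw : IsHomPt w := isHomPt_conj G₀ (ptOf u) (isHomPt_ptOf u)
      let incl : A →ₐ[R] (R ⧸ RingHom.ker (algebraMap R Rb) ^ n) ⊗[R] A :=
        Algebra.TensorProduct.includeRight
      have key : Pt.map incl (ptOf u') = Pt.map incl w := by
        have e := congrArg (restr (R ⧸ RingHom.ker (algebraMap R Rb) ^ n)
          (T := (R ⧸ RingHom.ker (algebraMap R Rb) ^ n) ⊗[R] A)) hg₁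
        rw [map_mul, map_mul, map_inv] at e
        have e1 : restr (R ⧸ RingHom.ker (algebraMap R Rb) ^ n) (ptOf u₁') =
            Pt.map incl (ptOf u') := by
          apply Pt.ext
          apply AlgHom.ext
          intro c
          rfl
        have e2 : restr (R ⧸ RingHom.ker (algebraMap R Rb) ^ n) (ptOf u₁) =
            Pt.map incl (ptOf u) := by
          apply Pt.ext
          apply AlgHom.ext
          intro c
          rfl
        have e3 : restr (R ⧸ RingHom.ker (algebraMap R Rb) ^ n)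
            (Pt.map (Algebra.ofId (R ⧸ RingHom.ker (algebraMap R Rb) ^ n)
              ((R ⧸ RingHom.ker (algebraMap R Rb) ^ n) ⊗[R] A)) g₁) =
            Pt.map incl (Pt.map (Algebra.ofId R A) G₀) := by
          apply Pt.ext
          apply AlgHom.ext
          intro c
          show algebraMap (R ⧸ RingHom.ker (algebraMap R Rb) ^ n)
              ((R ⧸ RingHom.ker (algebraMap R Rb) ^ n) ⊗[R] A)
              (g₁.hom ((1 : R ⧸ RingHom.ker (algebraMap R Rb) ^ n) ⊗ₜ[R] c)) =
            (1 : R ⧸ RingHom.ker (algebraMap R Rb) ^ n) ⊗ₜ[R] (algebraMap R A (g₀ c))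
          rw [← hg₀ c, Algebra.TensorProduct.algebraMap_apply, Algebra.algebraMap_self,
            RingHom.id_apply, Algebra.algebraMap_eq_smul_one (g₀ c),
            Algebra.algebraMap_eq_smul_one (g₀ c), TensorProduct.smul_tmul]
        rw [e1, e2, e3, ← map_inv, ← map_mul, ← map_mul] at e
        exact e
      have h'' : ∀ c : C, (1 : R ⧸ RingHom.ker (algebraMap R Rb) ^ n) ⊗ₜ[R] bialgHomOfPt w hw c =
          (1 : R ⧸ RingHom.ker (algebraMap R Rb) ^ n) ⊗ₜ[R] u' c := by
        intro c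
        have := congrArg (fun p : Pt R C ((R ⧸ RingHom.ker (algebraMap R Rb) ^ n) ⊗[R] A) =>
          p.hom c) key
        exact this.symm
      obtain ⟨g', hg'K, hg'⟩ := exists_conj_sqzero
        (Rb := R ⧸ RingHom.ker (algebraMap R Rb) ^ n) Ideal.Quotient.mk_surjective hsq hχ
        (bialgHomOfPt w hw) u' h''
      rw [ptOf_bialgHomOfPt] at hg'
      have hG₀K : IsK (RingHom.ker (algebraMap R Rb)) G₀ := by
        rw [isK_ring_iff]
        intro c
        rw [RingHom.mem_ker, map_sub, sub_eq_zero,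
          IsScalarTower.algebraMap_apply R (R ⧸ RingHom.ker (algebraMap R Rb) ^ n) Rb,
          IsScalarTower.algebraMap_apply R (R ⧸ RingHom.ker (algebraMap R Rb) ^ n) Rb
            (Coalgebra.counit (R := R) c)]
        show algebraMap (R ⧸ RingHom.ker (algebraMap R Rb) ^ n) Rb
          (algebraMap R (R ⧸ RingHom.ker (algebraMap R Rb) ^ n) (g₀ c)) = _
        rw [hg₀ c]
        have hk := (isK_ring_iff _ g₁).mp hg₁K ((1 : R ⧸ RingHom.ker (algebraMap R Rb) ^ n) ⊗ₜ[R] c)
        rw [RingHom.mem_ker, map_sub, sub_eq_zero] at hk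
        rw [hk, TensorProduct.counit_tmul, CommSemiring.counit_apply,
          ← Algebra.algebraMap_eq_smul_one]
      refine ⟨g' * G₀, (hg'K.mono (by rw [hker]; exact hle)).mul hG₀K, ?_⟩
      rw [hg', map_mul]
      show _ * (Pt.map (Algebra.ofId R A) G₀ * ptOf u * (Pt.map (Algebra.ofId R A) G₀)⁻¹) * _ = _
      group

end

end Groth.Agent.H9.LIF
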