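import Mathlib
import Groth.Agent.Lib.Helper9.Misc.LIF6

/-!
# Relative lifting of homomorphisms: formal smoothness of `Hom(H₂, G) → Hom(H₁, G)` (helper9)
-/

set_option autoImplicit false
set_option linter.unusedSectionVars false
set_option linter.unusedVariables false
set_option linter.style.haveILetI false

namespace Groth.Agent.H9.LIF

open TensorProduct WithConv

noncomputable section

universe u

theorem exists_lift_rel (n : ℕ) (R : Type u) [CommRing R] (Rb : Type u) [CommRing Rb]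
    [Algebra R Rb] (hsurj : Function.Surjective (algebraMap R Rb))
    (hn : RingHom.ker (algebraMap R Rb) ^ n = ⊥)
    (C : Type u) [CommRing C] [HopfAlgebra R C] [Algebra.FormallySmooth R C]
    (A₁ : Type u) [CommRing A₁] [HopfAlgebra R A₁] (χ₁ : A₁ →ₗ[R] R) (hχ₁ : IsInt χ₁)
    (A₂ : Type u) [CommRing A₂] [HopfAlgebra R A₂] (χ₂ : A₂ →ₗ[R] R) (hχ₂ : IsInt χ₂)
    (α : A₂ →ₐc[R] A₁) (β : C →ₐc[R] A₁)
    (γb : (Rb ⊗[R] C) →ₐc[Rb] (Rb ⊗[R] A₂))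
    (h0 : ∀ c : C, Algebra.TensorProduct.map (AlgHom.id Rb Rb) (α : A₂ →ₐ[R] A₁)
      (γb ((1 : Rb) ⊗ₜ[R] c)) = (1 : Rb) ⊗ₜ[R] (β c)) :
    ∃ γ : C →ₐc[R] A₂, (∀ c : C, γb ((1 : Rb) ⊗ₜ[R] c) = (1 : Rb) ⊗ₜ[R] (γ c)) ∧
      ∀ c : C, α (γ c) = β c := by
  obtain ⟨γ', hγ'⟩ := exists_lift_nilp n R Rb hsurj hn C A₂ χ₂ hχ₂ γb
  have hu : ∀ c : C, (1 : Rb) ⊗ₜ[R] (α.comp γ') c = (1 : Rb) ⊗ₜ[R] β c := by
    intro c
    rw [← h0 c, hγ' c, Algebra.TensorProduct.map_tmul]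
    rfl
  obtain ⟨g, hgK, hg⟩ := exists_conj_nilp n R Rb hsurj hn C A₁ χ₁ hχ₁ (α.comp γ') β hu
  let w : Pt R C A₂ := Pt.map (Algebra.ofId R A₂) g * ptOf γ' * (Pt.map (Algebra.ofId R A₂) g)⁻¹
  have hw : IsHomPt w := isHomPt_conj g (ptOf γ') (isHomPt_ptOf γ')
  refine ⟨bialgHomOfPt w hw, fun c => ?_, fun c => ?_⟩
  · rw [hγ' c, bialgHomOfPt_apply]
    have hK : IsK (RingHom.ker (algebraMap R Rb)) (w * (ptOf γ')⁻¹) := by
      have e : w * (ptOf γ')⁻¹ = Pt.map (Algebra.ofId R A₂) g *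
          (ptOf γ' * (Pt.map (Algebra.ofId R A₂) g)⁻¹ * (ptOf γ')⁻¹) := by
        show Pt.map (Algebra.ofId R A₂) g * ptOf γ' * (Pt.map (Algebra.ofId R A₂) g)⁻¹ *
          (ptOf γ')⁻¹ = _
        group
      rw [e]
      exact (hgK.map _).mul ((hgK.map _).inv.conj _)
    have h1 := sub_eq_of_isK_mul_inv w (ptOf γ') hK c
    have h2 := QI.one_tmul_eq_zero_of_mem_map (R₀ := Rb) h1
    rw [TensorProduct.tmul_sub, sub_eq_zero] at h2
    exact h2.symm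
  · have e : Pt.map (α : A₂ →ₐ[R] A₁) w = ptOf β := by
      rw [hg]
      show Pt.map (α : A₂ →ₐ[R] A₁) (Pt.map (Algebra.ofId R A₂) g * ptOf γ' *
        (Pt.map (Algebra.ofId R A₂) g)⁻¹) = _
      rw [map_mul, map_mul, map_inv, Pt.map_map, comp_ofId]
      rfl
    have := congrArg (fun p : Pt R C A₁ => p.hom c) e
    exact this

end

end Groth.Agent.H9.LIF
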