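import Mathlib
import Groth.Agent.Lib.Helper9.Misc.LIF8
import Groth.Agent.Lib.Helper9.Misc.LIF10
import Groth.Agent.Lib.Helper9.Misc.QI6

/-!
# The formal system of liftings of a homomorphism `H₀ → G₀` (helper9)

For a group `H = Spec B` with a normalized integral and a smooth group `G = Spec C` over `A`, a
homomorphism over `A ⧸ I` lifts to a compatible system of homomorphisms over the `A ⧸ I ^ (n+1)`,
which gives an `I`-adic system of approximate bialgebra maps `C → B`.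
-/

set_option autoImplicit false
set_option linter.unusedSectionVars false
set_option linter.unusedVariables false
set_option linter.style.haveILetI false

namespace Groth.Agent.H9.LIF

open TensorProduct

noncomputable section

universe u

section RL

variable (A : Type u) [CommRing A]

/-- lifting a homomorphism from `A ⧸ J` to `A ⧸ J'` when `J ^ 2 ≤ J' ≤ J` -/
theorem exists_lift_quot (J' J : Ideal A) (hle : J' ≤ J) (hsq : J ^ 2 ≤ J')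
    (C : Type u) [CommRing C] [HopfAlgebra A C] [Algebra.FormallySmooth A C]
    (B : Type u) [CommRing B] [HopfAlgebra A B] (χ : B →ₗ[A] A) (hχ : IsInt χ)
    (φb : ((A ⧸ J) ⊗[A] C) →ₐc[A ⧸ J] ((A ⧸ J) ⊗[A] B)) :
    ∃ φ : ((A ⧸ J') ⊗[A] C) →ₐc[A ⧸ J'] ((A ⧸ J') ⊗[A] B),
      ∀ (c : C) (y : B), φ ((1 : A ⧸ J') ⊗ₜ[A] c) = (1 : A ⧸ J') ⊗ₜ[A] y →
        φb ((1 : A ⧸ J) ⊗ₜ[A] c) = (1 : A ⧸ J) ⊗ₜ[A] y := by
  have hker : RingHom.ker (algebraMap A (A ⧸ J)) = J := by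
    rw [Ideal.Quotient.algebraMap_eq, Ideal.mk_ker]
  have hle' : J' ≤ RingHom.ker (algebraMap A (A ⧸ J)) := by
    rw [hker]
    exact hle
  letI : Algebra (A ⧸ J') (A ⧸ J) := quotAlg J' hle'
  haveI : IsScalarTower A (A ⧸ J') (A ⧸ J) := quotAlg_tower J' hle'
  have hsurj : Function.Surjective (algebraMap (A ⧸ J') (A ⧸ J)) :=
    quotAlg_surj J' hle' Ideal.Quotient.mk_surjective
  have hn : RingHom.ker (algebraMap (A ⧸ J') (A ⧸ J)) ^ 2 = ⊥ := by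
    rw [eq_bot_iff]
    refine (Ideal.pow_right_mono (quotAlg_ker_le J' hle') 2).trans ?_
    rw [hker, ← Ideal.map_pow]
    refine (Ideal.map_mono hsq).trans ?_
    rw [Ideal.map_quotient_self]
  let φb₁ : ((A ⧸ J) ⊗[A ⧸ J'] ((A ⧸ J') ⊗[A] C)) →ₐc[A ⧸ J]
      ((A ⧸ J) ⊗[A ⧸ J'] ((A ⧸ J') ⊗[A] B)) :=
    ((MT.cancelBC A (A ⧸ J') (A ⧸ J) B).symm : ((A ⧸ J) ⊗[A] B) →ₐc[A ⧸ J] _).comp
      (φb.comp ((MT.cancelBC A (A ⧸ J') (A ⧸ J) C) : _ →ₐc[A ⧸ J] ((A ⧸ J) ⊗[A] C)))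
  obtain ⟨φ, hφ⟩ := exists_lift_nilp 2 (A ⧸ J') (A ⧸ J) hsurj hn ((A ⧸ J') ⊗[A] C)
    ((A ⧸ J') ⊗[A] B) (chiBC (A ⧸ J') χ) (isInt_chiBC _ hχ) φb₁
  refine ⟨φ, fun c y hy => ?_⟩
  have h := hφ ((1 : A ⧸ J') ⊗ₜ[A] c)
  rw [hy] at h
  have h' := congrArg (MT.cancelBC A (A ⧸ J') (A ⧸ J) B) h
  rw [MT.cancelBC_tmul, one_smul] at h'
  rw [← h']
  show φb _ = (MT.cancelBC A (A ⧸ J') (A ⧸ J) B)
    ((MT.cancelBC A (A ⧸ J') (A ⧸ J) B).symm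
      (φb ((MT.cancelBC A (A ⧸ J') (A ⧸ J) C)
        ((1 : A ⧸ J) ⊗ₜ[A ⧸ J'] ((1 : A ⧸ J') ⊗ₜ[A] c)))))
  rw [BialgEquiv.apply_symm_apply, MT.cancelBC_tmul, one_smul]

/-- the compatible system of liftings of a homomorphism modulo `I` -/
theorem exists_system (I : Ideal A)
    (C : Type u) [CommRing C] [HopfAlgebra A C] [Algebra.FormallySmooth A C]
    (B : Type u) [CommRing B] [HopfAlgebra A B] (χ : B →ₗ[A] A) (hχ : IsInt χ)
    (φ₀ : ((A ⧸ I) ⊗[A] C) →ₐc[A ⧸ I] ((A ⧸ I) ⊗[A] B)) :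
    ∃ φ : (n : ℕ) → (((A ⧸ I ^ (n + 1)) ⊗[A] C) →ₐc[A ⧸ I ^ (n + 1)]
        ((A ⧸ I ^ (n + 1)) ⊗[A] B)),
      (∀ (c : C) (y : B), φ 0 ((1 : A ⧸ I ^ (0 + 1)) ⊗ₜ[A] c) = (1 : A ⧸ I ^ (0 + 1)) ⊗ₜ[A] y →
        φ₀ ((1 : A ⧸ I) ⊗ₜ[A] c) = (1 : A ⧸ I) ⊗ₜ[A] y) ∧
      ∀ (n : ℕ) (c : C) (y : B),
        φ (n + 1) ((1 : A ⧸ I ^ (n + 1 + 1)) ⊗ₜ[A] c) = (1 : A ⧸ I ^ (n + 1 + 1)) ⊗ₜ[A] y →
        φ n ((1 : A ⧸ I ^ (n + 1)) ⊗ₜ[A] c) = (1 : A ⧸ I ^ (n + 1)) ⊗ₜ[A] y := by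
  have base := exists_lift_quot A (I ^ (0 + 1)) I (by rw [zero_add, pow_one])
    (by rw [zero_add, pow_one]; exact Ideal.pow_le_self two_ne_zero) C B χ hχ φ₀
  have step : ∀ (n : ℕ) (φn : ((A ⧸ I ^ (n + 1)) ⊗[A] C) →ₐc[A ⧸ I ^ (n + 1)]
      ((A ⧸ I ^ (n + 1)) ⊗[A] B)),
      ∃ φ' : ((A ⧸ I ^ (n + 1 + 1)) ⊗[A] C) →ₐc[A ⧸ I ^ (n + 1 + 1)]
        ((A ⧸ I ^ (n + 1 + 1)) ⊗[A] B),
      ∀ (c : C) (y : B),
        φ' ((1 : A ⧸ I ^ (n + 1 + 1)) ⊗ₜ[A] c) = (1 : A ⧸ I ^ (n + 1 + 1)) ⊗ₜ[A] y →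
        φn ((1 : A ⧸ I ^ (n + 1)) ⊗ₜ[A] c) = (1 : A ⧸ I ^ (n + 1)) ⊗ₜ[A] y := fun n φn =>
    exists_lift_quot A (I ^ (n + 1 + 1)) (I ^ (n + 1)) (Ideal.pow_le_pow_right (Nat.le_succ _))
      (by rw [← pow_mul]; exact Ideal.pow_le_pow_right (by omega)) C B χ hχ φn
  let φ : (n : ℕ) → (((A ⧸ I ^ (n + 1)) ⊗[A] C) →ₐc[A ⧸ I ^ (n + 1)]
      ((A ⧸ I ^ (n + 1)) ⊗[A] B)) := fun n =>
    Nat.rec (motive := fun n => (((A ⧸ I ^ (n + 1)) ⊗[A] C) →ₐc[A ⧸ I ^ (n + 1)]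
      ((A ⧸ I ^ (n + 1)) ⊗[A] B))) (Classical.choose base)
      (fun n φn => Classical.choose (step n φn)) n
  exact ⟨φ, Classical.choose_spec base, fun n => Classical.choose_spec (step n (φ n))⟩

end RL

section Quot

variable {A : Type u} [CommRing A]

theorem mem_of_one_tmul_eq_zero (J : Ideal A) {N : Type*} [AddCommGroup N] [Module A N] (x : N)
    (h : (1 : A ⧸ J) ⊗ₜ[A] x = 0) : x ∈ J • (⊤ : Submodule A N) := by
  have h1 := congrArg (TensorProduct.quotTensorEquivQuotSMul N J) h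
  rw [TensorProduct.quotTensorEquivQuotSMul_mk_one_tmul, map_zero] at h1
  exact (Submodule.Quotient.mk_eq_zero _).mp h1

theorem one_tmul_eq_zero_of_mem (J : Ideal A) {N : Type*} [AddCommGroup N] [Module A N] (x : N)
    (h : x ∈ J • (⊤ : Submodule A N)) : (1 : A ⧸ J) ⊗ₜ[A] x = 0 := by
  apply (TensorProduct.quotTensorEquivQuotSMul N J).injective
  rw [TensorProduct.quotTensorEquivQuotSMul_mk_one_tmul, map_zero]
  exact (Submodule.Quotient.mk_eq_zero _).mpr h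

end Quot

section SysOf

variable {A : Type u} [CommRing A] (I : Ideal A) {C : Type u} [CommRing C] [HopfAlgebra A C]
  {B : Type u} [CommRing B] [HopfAlgebra A B]
  (φ : (n : ℕ) → (((A ⧸ I ^ (n + 1)) ⊗[A] C) →ₐc[A ⧸ I ^ (n + 1)] ((A ⧸ I ^ (n + 1)) ⊗[A] B)))

theorem exists_rep (n : ℕ) (c : C) :
    ∃ y : B, (1 : A ⧸ I ^ (n + 1)) ⊗ₜ[A] y = φ n ((1 : A ⧸ I ^ (n + 1)) ⊗ₜ[A] c) :=
  QI.exists_one_tmul' (R₀ := A ⧸ I ^ (n + 1)) Ideal.Quotient.mk_surjective B _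

/-- representatives in `B` of the values of the system -/
def bOf (n : ℕ) (c : C) : B := Classical.choose (exists_rep I φ n c)

theorem bOf_spec (n : ℕ) (c : C) :
    (1 : A ⧸ I ^ (n + 1)) ⊗ₜ[A] bOf I φ n c = φ n ((1 : A ⧸ I ^ (n + 1)) ⊗ₜ[A] c) :=
  Classical.choose_spec (exists_rep I φ n c)

theorem one_tmul_mul (J : Ideal A) {X : Type*} [CommRing X] [Algebra A X] (x y : X) :
    (1 : A ⧸ J) ⊗ₜ[A] (x * y) = ((1 : A ⧸ J) ⊗ₜ[A] x) * ((1 : A ⧸ J) ⊗ₜ[A] y) := by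
  rw [Algebra.TensorProduct.tmul_mul_tmul, mul_one]

/-- the `I`-adic system of approximate bialgebra maps given by a compatible system of
homomorphisms over the `A ⧸ I ^ (n + 1)` -/
def sysOf
    (hφ : ∀ (n : ℕ) (c : C) (y : B),
      φ (n + 1) ((1 : A ⧸ I ^ (n + 1 + 1)) ⊗ₜ[A] c) = (1 : A ⧸ I ^ (n + 1 + 1)) ⊗ₜ[A] y →
      φ n ((1 : A ⧸ I ^ (n + 1)) ⊗ₜ[A] c) = (1 : A ⧸ I ^ (n + 1)) ⊗ₜ[A] y) :
    AdicSys I C B where
  b := bOf I φ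
  succ n c := by
    apply mem_of_one_tmul_eq_zero
    rw [TensorProduct.tmul_sub, bOf_spec I φ n c,
      hφ n c (bOf I φ (n + 1) c) (bOf_spec I φ (n + 1) c).symm, sub_self]
  add n c c' := by
    apply mem_of_one_tmul_eq_zero
    rw [TensorProduct.tmul_sub, TensorProduct.tmul_add, bOf_spec, bOf_spec, bOf_spec,
      TensorProduct.tmul_add, map_add, sub_self]
  smul n a c := by
    apply mem_of_one_tmul_eq_zero
    rw [TensorProduct.tmul_sub, TensorProduct.tmul_smul, bOf_spec, bOf_spec,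
      TensorProduct.tmul_smul,
      ← algebraMap_smul (A ⧸ I ^ (n + 1)) a ((1 : A ⧸ I ^ (n + 1)) ⊗ₜ[A] c), map_smul,
      algebraMap_smul, sub_self]
  mul n c c' := by
    apply mem_of_one_tmul_eq_zero
    rw [TensorProduct.tmul_sub, one_tmul_mul, bOf_spec, bOf_spec, bOf_spec, one_tmul_mul,
      map_mul, sub_self]
  one n := by
    apply mem_of_one_tmul_eq_zero
    rw [TensorProduct.tmul_sub, bOf_spec, ← Algebra.TensorProduct.one_def, map_one,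
      ← Algebra.TensorProduct.one_def, sub_self]
  counit n c := by
    rw [Ideal.smul_eq_mul, Ideal.mul_top, ← Ideal.Quotient.eq]
    have h1 : Coalgebra.counit (R := A ⧸ I ^ (n + 1))
        (φ n ((1 : A ⧸ I ^ (n + 1)) ⊗ₜ[A] c)) =
        Coalgebra.counit (R := A ⧸ I ^ (n + 1)) ((1 : A ⧸ I ^ (n + 1)) ⊗ₜ[A] c) :=
      CoalgHomClass.counit_comp_apply (φ n) _
    rw [← bOf_spec I φ n c, TensorProduct.counit_tmul, TensorProduct.counit_tmul,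
      CommSemiring.counit_apply, ← Algebra.algebraMap_eq_smul_one,
      ← Algebra.algebraMap_eq_smul_one] at h1
    exact h1
  comul n c ι r := by
    apply mem_of_one_tmul_eq_zero
    apply (TensorProduct.AlgebraTensorModule.distribBaseChange A (A ⧸ I ^ (n + 1)) B B).injective
    rw [map_zero, TensorProduct.tmul_sub, map_sub, TensorProduct.tmul_sum, map_sum]
    let r' := Coalgebra.Repr.arbitrary A (bOf I φ n c)
    have h1 : Coalgebra.comul (R := A ⧸ I ^ (n + 1))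
        (φ n ((1 : A ⧸ I ^ (n + 1)) ⊗ₜ[A] c)) =
        TensorProduct.map (φ n : _ →ₗ[A ⧸ I ^ (n + 1)] _) (φ n : _ →ₗ[A ⧸ I ^ (n + 1)] _)
          (Coalgebra.comul (R := A ⧸ I ^ (n + 1)) ((1 : A ⧸ I ^ (n + 1)) ⊗ₜ[A] c)) :=
      (CoalgHomClass.map_comp_comul_apply (φ n) _).symm
    rw [MT.comul_tmul_repr (1 : A ⧸ I ^ (n + 1)) c r, map_sum, ← bOf_spec I φ n c,
      MT.comul_tmul_repr (1 : A ⧸ I ^ (n + 1)) _ r'] at h1
    have h2 : TensorProduct.AlgebraTensorModule.distribBaseChange A (A ⧸ I ^ (n + 1)) B B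
        ((1 : A ⧸ I ^ (n + 1)) ⊗ₜ[A] Coalgebra.comul (R := A) (bOf I φ n c)) =
        ∑ j ∈ r'.index, ((1 : A ⧸ I ^ (n + 1)) ⊗ₜ[A] r'.left j) ⊗ₜ[A ⧸ I ^ (n + 1)]
          ((1 : A ⧸ I ^ (n + 1)) ⊗ₜ[A] r'.right j) := by
      rw [← r'.eq, TensorProduct.tmul_sum, map_sum]
      refine Finset.sum_congr rfl fun j _ => ?_
      rw [TensorProduct.AlgebraTensorModule.distribBaseChange_tmul]
    rw [h2, h1, sub_eq_zero]
    refine Finset.sum_congr rfl fun i _ => ?_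
    rw [TensorProduct.AlgebraTensorModule.distribBaseChange_tmul, TensorProduct.map_tmul]
    show ((1 : A ⧸ I ^ (n + 1)) ⊗ₜ[A] bOf I φ n (r.left i)) ⊗ₜ[A ⧸ I ^ (n + 1)]
      ((1 : A ⧸ I ^ (n + 1)) ⊗ₜ[A] bOf I φ n (r.right i)) = _
    rw [bOf_spec, bOf_spec]
    rfl

theorem sysOf_b (hφ) (n : ℕ) (c : C) : (sysOf I φ hφ).b n c = bOf I φ n c := rfl

end SysOf

end

end Groth.Agent.H9.LIF
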