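import Mathlib
import Groth.Agent.Lib.Helper9.Misc.LIF2

/-!
# From approximate integrals to integrals (helper9)

If `χ : A → R` is a left-invariant integral modulo an ideal `J`, then `χ ∗ χ` is a left-invariant
integral modulo `J ^ 2`.  For nilpotent `J`, iterating and normalizing gives an integral.
-/

set_option autoImplicit false
set_option linter.unusedSectionVars false
set_option linter.unusedVariables false
set_option linter.style.haveILetI false

namespace Groth.Agent.H9.LIF

open TensorProduct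

noncomputable section

section Approx

variable {R : Type*} [CommRing R] {A : Type*} [CommRing A] [Bialgebra R A]

/-- `a ↦ ∑ χ(a₂) a₁` -/
def Lop (χ : A →ₗ[R] R) : A →ₗ[R] A := lamS χ A ∘ₗ Coalgebra.comul

theorem Lop_apply (χ : A →ₗ[R] R) (a : A) : Lop χ a = lamS χ A (Coalgebra.comul (R := R) a) := rfl

/-- the defect of invariance `a ↦ ∑ χ(a₂) a₁ - χ(a) 1` -/
def Eop (χ : A →ₗ[R] R) : A →ₗ[R] A := Lop χ - (LinearMap.toSpanSingleton R A 1) ∘ₗ χ

theorem Eop_apply (χ : A →ₗ[R] R) (a : A) : Eop χ a = Lop χ a - χ a • (1 : A) := rfl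

/-- the convolution square `a ↦ ∑ χ(a₁) χ(a₂)` -/
def sqC (χ : A →ₗ[R] R) : A →ₗ[R] R := χ ∘ₗ Lop χ

theorem sqC_apply (χ : A →ₗ[R] R) (a : A) : sqC χ a = χ (Lop χ a) := rfl

theorem Lop_one (χ : A →ₗ[R] R) : Lop χ 1 = χ 1 • (1 : A) := by
  rw [Lop_apply, Bialgebra.comul_one, Algebra.TensorProduct.one_def, lamS_tmul]

theorem Eop_one (χ : A →ₗ[R] R) : Eop χ 1 = 0 := by
  rw [Eop_apply, Lop_one, sub_self]

theorem sqC_one (χ : A →ₗ[R] R) : sqC χ 1 = χ 1 * χ 1 := by
  rw [sqC_apply, Lop_one, map_smul, smul_eq_mul]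

theorem Lop_sqC (χ : A →ₗ[R] R) (a : A) : Lop (sqC χ) a = Lop χ (Lop χ a) := by
  have h1 : ∀ w : A ⊗[R] (A ⊗[R] A),
      lamS χ (A ⊗[R] A) ((TensorProduct.assoc R A A A).symm w) = (lamS χ A).lTensor A w := by
    intro w
    induction w using TensorProduct.induction_on with
    | zero => rw [map_zero, map_zero, map_zero]
    | tmul a z => rw [lamS_assoc_symm, LinearMap.lTensor_tmul]
    | add x y hx hy => rw [map_add, map_add, hx, hy, map_add]
  have h2 : ∀ t : A ⊗[R] A, lamS (sqC χ) A t =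
      lamS χ A ((lamS χ A).lTensor A ((Coalgebra.comul (R := R) (A := A)).lTensor A t)) := by
    intro t
    induction t using TensorProduct.induction_on with
    | zero => rw [map_zero, map_zero, map_zero, map_zero]
    | tmul x y =>
      rw [lamS_tmul, LinearMap.lTensor_tmul, LinearMap.lTensor_tmul, lamS_tmul]
      rfl
    | add x y hx hy => rw [map_add, hx, hy, map_add, map_add, map_add]
  have h4 : ∀ t : A ⊗[R] A, Algebra.TensorProduct.map (Bialgebra.comulAlgHom R A)
      (AlgHom.id R A) t = (Coalgebra.comul (R := R) (A := A)).rTensor A t := by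
    intro t
    induction t using TensorProduct.induction_on with
    | zero => rw [map_zero, map_zero]
    | tmul x y => rfl
    | add x y hx hy => rw [map_add, hx, hy, map_add]
  rw [Lop_apply, h2, Lop_apply, Lop_apply]
  have h3 : Coalgebra.comul (R := R) (lamS χ A (Coalgebra.comul (R := R) a)) =
      lamS χ (A ⊗[R] A) (Algebra.TensorProduct.map (Bialgebra.comulAlgHom R A)
        (AlgHom.id R A) (Coalgebra.comul (R := R) a)) :=
    (lamS_map χ (Bialgebra.comulAlgHom R A) (Coalgebra.comul (R := R) a)).symm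
  rw [h3, h4, ← Coalgebra.coassoc_symm_apply, h1]

theorem Eop_sqC (χ : A →ₗ[R] R) (a : A) : Eop (sqC χ) a = Eop χ (Eop χ a) := by
  have h1 : Eop (sqC χ) a = Eop χ (Lop χ a) := by
    rw [Eop_apply, Eop_apply, Lop_sqC, sqC_apply]
  have h2 : Lop χ a = Eop χ a + χ a • (1 : A) := by
    rw [Eop_apply, sub_add_cancel]
  rw [h1]
  conv_lhs => rw [h2]
  rw [map_add, map_smul, Eop_one, smul_zero, add_zero]

theorem Eop_mem_sq (χ : A →ₗ[R] R) (J : Ideal R)
    (h : ∀ a, Eop χ a ∈ J • (⊤ : Submodule R A)) (a : A) :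
    Eop (sqC χ) a ∈ (J * J) • (⊤ : Submodule R A) := by
  rw [Eop_sqC, Submodule.mul_smul]
  refine Submodule.smul_induction_on (h a) (fun r hr y _ => ?_) (fun x y hx hy => ?_)
  · rw [map_smul]
    exact Submodule.smul_mem_smul hr (h y)
  · rw [map_add]
    exact add_mem hx hy

theorem Eop_iterate_mem (χ : A →ₗ[R] R) (J : Ideal R)
    (h : ∀ a, Eop χ a ∈ J • (⊤ : Submodule R A)) (k : ℕ) (a : A) :
    Eop (sqC^[k] χ) a ∈ (J ^ (2 ^ k)) • (⊤ : Submodule R A) := by
  induction k generalizing a with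
  | zero =>
    rw [pow_zero, pow_one]
    exact h a
  | succ k ih =>
    rw [Function.iterate_succ_apply', pow_succ, pow_mul, pow_two]
    exact Eop_mem_sq _ _ ih a

theorem iterate_one (χ : A →ₗ[R] R) (k : ℕ) : (sqC^[k] χ) 1 = χ 1 ^ (2 ^ k) := by
  induction k with
  | zero => rw [pow_zero, pow_one]; rfl
  | succ k ih =>
    rw [Function.iterate_succ_apply', sqC_one, ih, ← pow_two, ← pow_mul, ← pow_succ]

theorem lamS_smul (v : R) (χ : A →ₗ[R] R) (t : A ⊗[R] A) :
    lamS (v • χ) A t = v • lamS χ A t := by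
  induction t using TensorProduct.induction_on with
  | zero => rw [map_zero, map_zero, smul_zero]
  | tmul x y => rw [lamS_tmul, lamS_tmul, LinearMap.smul_apply, smul_eq_mul, mul_smul]
  | add x y hx hy => rw [map_add, hx, hy, map_add, smul_add]

/-- an integral modulo a nilpotent ideal can be corrected to an integral -/
theorem exists_isInt_of_approx (J : Ideal R) (n : ℕ) (hn : J ^ n = ⊥) (χ : A →ₗ[R] R)
    (h1 : IsUnit (χ 1))
    (hE : ∀ a, lamS χ A (Coalgebra.comul (R := R) a) - χ a • (1 : A) ∈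
      J • (⊤ : Submodule R A)) :
    ∃ χ' : A →ₗ[R] R, IsInt χ' := by
  have hE' : ∀ a, Eop χ a ∈ J • (⊤ : Submodule R A) := hE
  have h0 : ∀ a, Eop (sqC^[n] χ) a = 0 := by
    intro a
    have h2 := Eop_iterate_mem χ J hE' n a
    have h3 : J ^ (2 ^ n) = ⊥ := by
      rw [eq_bot_iff, ← hn]
      exact Ideal.pow_le_pow_right (Nat.lt_two_pow_self).le
    rw [h3, Submodule.bot_smul] at h2
    exact (Submodule.mem_bot R).mp h2
  have hu : IsUnit ((sqC^[n] χ) 1) := by
    rw [iterate_one]
    exact h1.pow _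
  obtain ⟨u, hu'⟩ := hu
  refine ⟨((u⁻¹ : Rˣ) : R) • (sqC^[n] χ), ?_, ?_⟩
  · rw [LinearMap.smul_apply, ← hu', smul_eq_mul, Units.inv_mul]
  · intro a
    rw [lamS_smul, LinearMap.smul_apply, smul_eq_mul, mul_smul]
    congr 1
    have := h0 a
    rw [Eop_apply, sub_eq_zero] at this
    exact this

end Approx

end

end Groth.Agent.H9.LIF
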