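import Mathlib
import Groth.Prelude.Def_SGA3b
import Groth.Agent.Lib.Helper5.NilFP.A
import Groth.Agent.Lib.Helper9.Misc.LIF8
import Groth.Agent.Lib.Helper9.Misc.LIF10
import Groth.Agent.Lib.Helper9.Misc.LIF13

/-!
# Flat deformations of diagonalisable groups along nilpotent ideals are diagonalisable (helper9)
-/

set_option autoImplicit false
set_option linter.unusedSectionVars false
set_option linter.unusedVariables false
set_option linter.style.haveILetI false

namespace Groth.Agent.H9.LIF

open TensorProduct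

noncomputable section

universe u

section Gm

/-- the group algebra of `ℤ` (the coordinate ring of `𝔾ₘ`) is formally smooth -/
instance formallySmooth_mint (R : Type u) [CommRing R] :
    Algebra.FormallySmooth R (MonoidAlgebra R (Multiplicative ℤ)) := by
  refine Algebra.FormallySmooth.of_comp_surjective fun B _ _ I hI g => ?_
  obtain ⟨b, hb⟩ := Ideal.Quotient.mk_surjective
    (g (MonoidAlgebra.single (Multiplicative.ofAdd (1 : ℤ)) 1))
  have hunit : IsUnit (g (MonoidAlgebra.single (Multiplicative.ofAdd (1 : ℤ)) 1)) := by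
    have h1 : IsUnit (MonoidAlgebra.of R (Multiplicative ℤ) (Multiplicative.ofAdd 1)) :=
      (Group.isUnit _).map (MonoidAlgebra.of R _)
    exact h1.map g
  have hb' : IsUnit b := (IsNilpotent.isUnit_quotient_mk_iff ⟨2, hI⟩).mp (hb ▸ hunit)
  obtain ⟨u, rfl⟩ := hb'
  refine ⟨MonoidAlgebra.lift R B (Multiplicative ℤ) ((Units.coeHom B).comp (zpowersHom Bˣ u)), ?_⟩
  apply (MonoidAlgebra.lift R (B ⧸ I) (Multiplicative ℤ)).symm.injective
  apply MonoidHom.ext_mint
  rw [MonoidAlgebra.lift_symm_apply, MonoidAlgebra.lift_symm_apply, AlgHom.comp_apply,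
    MonoidAlgebra.lift_single, one_smul, ← hb]
  simp

end Gm

section Nak

open Groth.Agent.Lib.Helper5.NilFP in
/-- a linear map to a flat module which is bijective modulo a nilpotent ideal is bijective -/
theorem bijective_of_nilpotent_of_flat {R : Type*} [CommRing R] (K : Ideal R)
    (hK : IsNilpotent K) {P C : Type*} [AddCommGroup P] [Module R P] [AddCommGroup C]
    [Module R C] [Module.Flat R C] (f : P →ₗ[R] C)
    (h1 : ∀ c : C, ∃ p : P, c - f p ∈ K • (⊤ : Submodule R C))
    (h2 : ∀ p : P, f p ∈ K • (⊤ : Submodule R C) → p ∈ K • (⊤ : Submodule R P)) :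
    Function.Bijective f := by
  have hsurj : Function.Surjective f := by
    rw [← LinearMap.range_eq_top]
    refine eq_top_iff.mpr (le_of_le_sup_smul_of_isNilpotent K hK ⊤ (LinearMap.range f) ?_)
    intro c _
    obtain ⟨p, hp⟩ := h1 c
    have e : c = f p + (c - f p) := by abel
    rw [e]
    exact Submodule.add_mem_sup (LinearMap.mem_range_self f p) hp
  refine ⟨?_, hsurj⟩
  rw [← LinearMap.ker_eq_bot, eq_bot_iff]
  refine le_of_le_sup_smul_of_isNilpotent K hK (LinearMap.ker f) ⊥ ?_
  rw [bot_sup_eq]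
  refine le_trans ?_ (ker_inf_smul_top_le f hsurj K)
  intro p hp
  refine ⟨hp, h2 p ?_⟩
  rw [LinearMap.mem_ker.mp hp]
  exact zero_mem _

end Nak

section Family

variable {R : Type u} [CommRing R] {Rb : Type u} [CommRing Rb] [Algebra R Rb]
  (hsurj : Function.Surjective (algebraMap R Rb))
  {A : Type u} [CommRing A] [HopfAlgebra R A] {M : Type u} [CommGroup M]
  (e₀ : (Rb ⊗[R] A) ≃ₐc[Rb] MonoidAlgebra Rb M)

include hsurj in
theorem mem_of_xi_eq_zero (a : A) (h : xi e₀ a = 0) :
    a ∈ RingHom.ker (algebraMap R Rb) • (⊤ : Submodule R A) := by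
  rw [xi_apply] at h
  have h1 : (1 : Rb) ⊗ₜ[R] a = 0 := by
    apply EquivLike.injective e₀
    rw [h, map_zero]
  exact GLL.mem_smul_top_of_mem_map _ (QI.mem_map_ker_of_one_tmul_eq_zero hsurj A a h1)

theorem xi_eq_zero_of_mem (a : A)
    (h : a ∈ RingHom.ker (algebraMap R Rb) • (⊤ : Submodule R A)) : xi e₀ a = 0 := by
  rw [xi_apply, QI.one_tmul_eq_zero_of_mem_map (R₀ := Rb) (GLL.mem_map_of_mem_smul_top _ h),
    map_zero]

theorem xi_linearCombination (a : M → A)
    (ha : ∀ m, xi e₀ (a m) = MonoidAlgebra.single m 1) (p : M →₀ R) :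
    xi e₀ (Finsupp.linearCombination R a p) =
      MonoidAlgebra.ofCoeff (p.mapRange (algebraMap R Rb) (map_zero _)) := by
  induction p using Finsupp.induction_linear with
  | zero => rw [map_zero, map_zero, Finsupp.mapRange_zero]; rfl
  | add p q hp hq => rw [map_add, map_add, hp, hq, Finsupp.mapRange_add (map_add _)]; rfl
  | single m r =>
    rw [Finsupp.linearCombination_single, map_smul, ha, Finsupp.mapRange_single,
      MonoidAlgebra.ofCoeff_single, MonoidAlgebra.smul_single, Algebra.algebraMap_eq_smul_one]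

include hsurj in
/-- a family lifting the basis of `Rb[M]` is a basis of a flat deformation -/
theorem bijective_linearCombination [Module.Flat R A]
    (hK : IsNilpotent (RingHom.ker (algebraMap R Rb))) (a : M → A)
    (ha : ∀ m, xi e₀ (a m) = MonoidAlgebra.single m 1) :
    Function.Bijective (Finsupp.linearCombination R a) := by
  refine bijective_of_nilpotent_of_flat _ hK _ ?_ ?_
  · intro c
    obtain ⟨p, hp⟩ := Finsupp.mapRange_surjective (algebraMap R Rb) (map_zero _) hsurj
      (xi e₀ c).coeff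
    refine ⟨p, mem_of_xi_eq_zero hsurj e₀ _ ?_⟩
    rw [map_sub, xi_linearCombination e₀ a ha, hp, MonoidAlgebra.ofCoeff_coeff, sub_self]
  · intro p hp
    have h1 := xi_eq_zero_of_mem e₀ _ hp
    rw [xi_linearCombination e₀ a ha, MonoidAlgebra.ofCoeff_eq_zero] at h1
    have h2 : ∀ m, p m ∈ RingHom.ker (algebraMap R Rb) := by
      intro m
      have := DFunLike.congr_fun h1 m
      rwa [Finsupp.mapRange_apply] at this
    rw [← Finsupp.sum_single p]
    unfold Finsupp.sum
    refine Submodule.sum_mem _ fun m _ => ?_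
    have e : Finsupp.single m (p m) = p m • (Finsupp.single m (1 : R) : M →₀ R) := by
      rw [Finsupp.smul_single, smul_eq_mul, mul_one]
    rw [e]
    exact Submodule.smul_mem_smul (h2 m) Submodule.mem_top

end Family

section Uniq

variable {R : Type u} [CommRing R] {A : Type u} [CommRing A] [HopfAlgebra R A]

/-- group-like elements congruent modulo a nilpotent ideal are equal, in the presence of a
normalized integral -/
theorem groupLike_eq_of_sub_mem {χ : A →ₗ[R] R} (hχ : IsInt χ) (K : Ideal R)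
    (hK : IsNilpotent K) (g g' : GroupLike R A)
    (h : (g : A) - (g' : A) ∈ K • (⊤ : Submodule R A)) : g = g' := by
  rw [← mul_inv_eq_one]
  set h' : GroupLike R A := g * g'⁻¹ with hh'
  have hval : (h' : A) - 1 = ((g : A) - (g' : A)) * HopfAlgebra.antipode R (g' : A) := by
    rw [hh', GroupLike.val_mul, GroupLike.val_inv, sub_mul, g'.2.mul_antipode_cancel]
  have hmem : (h' : A) - 1 ∈ K • (⊤ : Submodule R A) := by
    rw [hval]
    exact GLL.map_mem_smul_top K (LinearMap.mulRight R (HopfAlgebra.antipode R (g' : A))) h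
  have h1 := hχ.inv (h' : A)
  rw [h'.2.comul_eq_tmul_self, lamS_tmul] at h1
  have h2 : χ (h' : A) - 1 ∈ K := by
    have h3 := GLL.map_mem_smul_top K χ hmem
    rw [map_sub, hχ.one, Ideal.smul_eq_mul, Ideal.mul_top] at h3
    exact h3
  have hu : IsUnit (χ (h' : A)) := by
    obtain ⟨n, hn⟩ := hK
    have hnil : IsNilpotent (χ (h' : A) - 1) :=
      ⟨n, by
        have := Ideal.pow_mem_pow h2 n
        rw [hn] at this
        exact this⟩
    have := hnil.isUnit_add_one
    rwa [sub_add_cancel] at this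
  apply GroupLike.val_injective
  rw [GroupLike.val_one]
  obtain ⟨u, hu'⟩ := hu
  have h4 : χ (h' : A) • ((h' : A) - 1) = 0 := by
    rw [smul_sub, h1, sub_self]
  rw [← hu'] at h4
  have h5 : ((u⁻¹ : Rˣ) : R) • ((u : R) • ((h' : A) - 1)) = 0 := by rw [h4, smul_zero]
  rw [smul_smul, Units.inv_mul, one_smul, sub_eq_zero] at h5
  exact h5

end Uniq

section DD

variable (n : ℕ) (R : Type u) [CommRing R] (Rb : Type u) [CommRing Rb] [Algebra R Rb]
  (hsurj : Function.Surjective (algebraMap R Rb))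
  (hn : RingHom.ker (algebraMap R Rb) ^ n = ⊥)
  (A : Type u) [CommRing A] [HopfAlgebra R A] [Module.Flat R A]

include hsurj hn in
/-- a flat deformation of a diagonalisable group has a normalized integral -/
theorem exists_isInt_of_flat_deformation {M : Type u} [CommGroup M]
    (e₀ : (Rb ⊗[R] A) ≃ₐc[Rb] MonoidAlgebra Rb M) : ∃ χ : A →ₗ[R] R, IsInt χ := by
  classical
  have hK : IsNilpotent (RingHom.ker (algebraMap R Rb)) := ⟨n, hn⟩
  have hex : ∀ m : M, ∃ a : A, xi e₀ a = MonoidAlgebra.single m 1 := by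
    intro m
    obtain ⟨a, ha⟩ := QI.exists_one_tmul' hsurj A (e₀.symm (MonoidAlgebra.single m 1))
    exact ⟨a, by rw [xi_apply, ha, BialgEquiv.apply_symm_apply]⟩
  choose a ha using hex
  let fe : (M →₀ R) ≃ₗ[R] A :=
    LinearEquiv.ofBijective (Finsupp.linearCombination R a)
      (bijective_linearCombination hsurj e₀ hK a ha)
  let χ : A →ₗ[R] R := Finsupp.lapply 1 ∘ₗ fe.symm.toLinearMap
  have hP : ∀ c : A, algebraMap R Rb (χ c) = (xi e₀ c).coeff 1 := by
    intro c
    obtain ⟨p, rfl⟩ := fe.surjective c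
    have e1 : χ (fe p) = p 1 := by
      show (fe.symm (fe p)) 1 = p 1
      rw [LinearEquiv.symm_apply_apply]
    rw [e1]
    show _ = (xi e₀ (Finsupp.linearCombination R a p)).coeff 1
    rw [xi_linearCombination e₀ a ha, MonoidAlgebra.coeff_ofCoeff, Finsupp.mapRange_apply]
  let χ₀ : Rb ⊗[R] A →ₗ[Rb] Rb :=
    coeffOne Rb M ∘ₗ ((e₀ : (Rb ⊗[R] A) →ₐc[Rb] MonoidAlgebra Rb M) : _ →ₗ[Rb] _)
  have hχ₀ : IsInt χ₀ := isInt_comp_equiv e₀ (isInt_coeffOne Rb M)
  have hχ₀' : ∀ c : A, χ₀ ((1 : Rb) ⊗ₜ[R] c) = algebraMap R Rb (χ c) := by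
    intro c
    rw [hP]
    rfl
  have h1 : IsUnit (χ 1) := by
    have h2 : algebraMap R Rb (χ 1) = 1 := by
      rw [← hχ₀', ← Algebra.TensorProduct.one_def, hχ₀.one]
    have h3 : χ 1 - 1 ∈ RingHom.ker (algebraMap R Rb) := by
      rw [RingHom.mem_ker, map_sub, h2, map_one, sub_self]
    have hnil : IsNilpotent (χ 1 - 1) :=
      ⟨n, by
        have := Ideal.pow_mem_pow h3 n
        rw [hn] at this
        exact this⟩
    have := hnil.isUnit_add_one
    rwa [sub_add_cancel] at this
  refine exists_isInt_of_approx (RingHom.ker (algebraMap R Rb)) n hn χ h1 fun c => ?_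
  apply GLL.mem_smul_top_of_mem_map
  apply QI.mem_map_ker_of_one_tmul_eq_zero hsurj
  let r := Coalgebra.Repr.arbitrary R c
  have h4 : (1 : Rb) ⊗ₜ[R] lamS χ A (Coalgebra.comul (R := R) c) =
      lamS χ₀ (Rb ⊗[R] A) (Coalgebra.comul (R := Rb) ((1 : Rb) ⊗ₜ[R] c)) := by
    rw [MT.comul_tmul_repr (1 : Rb) c r, ← r.eq, map_sum, map_sum, TensorProduct.tmul_sum]
    refine Finset.sum_congr rfl fun i _ => ?_
    rw [lamS_tmul, lamS_tmul, hχ₀', algebraMap_smul, TensorProduct.tmul_smul]
  rw [TensorProduct.tmul_sub, h4, hχ₀.inv, hχ₀', algebraMap_smul, TensorProduct.tmul_smul,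
    Algebra.TensorProduct.one_def, sub_self]

include hsurj hn in
/-- **Flat deformations of diagonalisable groups along nilpotent ideals are diagonalisable.** -/
theorem nonempty_bialgEquiv_of_flat_deformation {M : Type u} [CommGroup M]
    (e₀ : (Rb ⊗[R] A) ≃ₐc[Rb] MonoidAlgebra Rb M) :
    Nonempty (A ≃ₐc[R] MonoidAlgebra R M) := by
  classical
  have hK : IsNilpotent (RingHom.ker (algebraMap R Rb)) := ⟨n, hn⟩
  obtain ⟨χ, hχ⟩ := exists_isInt_of_flat_deformation n R Rb hsurj hn A e₀
  have hex : ∀ m : M, ∃ g : GroupLike R A, xi e₀ (g : A) = MonoidAlgebra.single m 1 := by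
    intro m
    let φb : (Rb ⊗[R] MonoidAlgebra R (Multiplicative ℤ)) →ₐc[Rb] (Rb ⊗[R] A) :=
      ((e₀.symm : MonoidAlgebra Rb M ≃ₐc[Rb] (Rb ⊗[R] A)) : _ →ₐc[Rb] _).comp
        ((MonoidAlgebra.mapDomainBialgHom Rb (zpowersHom M m)).comp
          ((MT.monAlgBC R Rb (Multiplicative ℤ)) : _ →ₐc[Rb] _))
    obtain ⟨φ, hφ⟩ := exists_lift_nilp n R Rb hsurj hn (MonoidAlgebra R (Multiplicative ℤ)) A χ hχ φb
    refine ⟨⟨φ (MonoidAlgebra.single (Multiplicative.ofAdd (1 : ℤ)) 1),
      (MonoidAlgebra.isGroupLikeElem_single_one _).map φ⟩, ?_⟩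
    rw [xi_apply]
    show e₀ ((1 : Rb) ⊗ₜ[R] φ (MonoidAlgebra.single (Multiplicative.ofAdd (1 : ℤ)) 1)) = _
    rw [← hφ]
    show e₀ (e₀.symm (MonoidAlgebra.mapDomainBialgHom Rb (zpowersHom M m)
      (MT.monAlgBC R Rb (Multiplicative ℤ)
        ((1 : Rb) ⊗ₜ[R] MonoidAlgebra.single (Multiplicative.ofAdd (1 : ℤ)) 1)))) = _
    rw [BialgEquiv.apply_symm_apply, MT.monAlgBC_tmul, one_smul]
    simp
  choose gl hgl using hex
  have huniq : ∀ g g' : GroupLike R A, xi e₀ (g : A) = xi e₀ (g' : A) → g = g' := by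
    intro g g' h
    apply groupLike_eq_of_sub_mem hχ _ hK
    apply mem_of_xi_eq_zero hsurj e₀
    rw [map_sub, h, sub_self]
  have hxi_mul : ∀ x y : A, xi e₀ (x * y) = xi e₀ x * xi e₀ y := by
    intro x y
    rw [xi_apply, xi_apply, xi_apply, ← map_mul, Algebra.TensorProduct.tmul_mul_tmul, mul_one]
  let glHom : M →* GroupLike R A :=
    { toFun := gl
      map_one' := by
        apply huniq
        rw [hgl, GroupLike.val_one, xi_apply, ← Algebra.TensorProduct.one_def, map_one]
        rfl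
      map_mul' := fun m m' => by
        apply huniq
        rw [hgl, GroupLike.val_mul, hxi_mul, hgl, hgl, MonoidAlgebra.single_mul_single, mul_one] }
  let Φ : MonoidAlgebra R M →ₐc[R] A :=
    (MonoidAlgebra.liftGroupLikeBialgHom (R := R) (A := A)).comp
      (MonoidAlgebra.mapDomainBialgHom R glHom)
  have hΦ : ∀ p : MonoidAlgebra R M,
      Φ p = Finsupp.linearCombination R (fun m => (gl m : A)) p.coeff := by
    intro p
    induction p using MonoidAlgebra.induction_linear with
    | zero => rw [map_zero]; rfl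
    | add x y hx hy => rw [map_add, hx, hy, MonoidAlgebra.coeff_add, map_add]
    | single m r =>
      rw [MonoidAlgebra.coeff_single, Finsupp.linearCombination_single]
      show MonoidAlgebra.liftGroupLikeBialgHom
        (MonoidAlgebra.mapDomainBialgHom R glHom (MonoidAlgebra.single m r)) = _
      rw [MonoidAlgebra.mapDomainBialgHom_single]
      simp [glHom]
  have hbij : Function.Bijective Φ := by
    have h1 := bijective_linearCombination hsurj e₀ hK (fun m => (gl m : A)) hgl
    have h2 : (Φ : MonoidAlgebra R M → A) =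
        (Finsupp.linearCombination R (fun m => (gl m : A))) ∘
          (MonoidAlgebra.coeffLinearEquiv R (S := R) (M := M)) := by
      funext p
      exact hΦ p
    rw [h2]
    exact h1.comp (MonoidAlgebra.coeffLinearEquiv R).bijective
  exact ⟨(BialgEquiv.ofBijective Φ hbij).symm⟩

include hsurj hn in
theorem isDiag_of_flat_deformation (h : SGA3b.IsDiag Rb (Rb ⊗[R] A)) : SGA3b.IsDiag R A := by
  obtain ⟨M, _, ⟨e₀⟩⟩ := h
  exact ⟨M, inferInstance, nonempty_bialgEquiv_of_flat_deformation n R Rb hsurj hn A e₀⟩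

end DD

end

end Groth.Agent.H9.LIF
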