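import Mathlib
import Groth.Prelude.Def_SGA3b
import Groth.Agent.Lib.Helper9.Misc.GLL5
import Groth.Agent.Lib.Helper9.Misc.LIF14
import Groth.Agent.Lib.Helper9.MT.Isotrivial

/-!
# Flat deformations of groups of multiplicative type along nilpotent ideals (helper9)

* a flat affine group whose reduction modulo a nilpotent ideal is quasi-isotrivial of
  multiplicative type is quasi-isotrivial of multiplicative type;
* a flat affine group of finite type over an Artinian local ring whose closed fibre is of
  multiplicative type is isotrivial of multiplicative type.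
-/

set_option autoImplicit false
set_option linter.unusedSectionVars false
set_option linter.unusedVariables false
set_option linter.style.haveILetI false

namespace Groth.Agent.H9.LIF

open TensorProduct SGA3b Groth.Agent.H9.GLL

noncomputable section

universe u

section Package

/-- lifting an étale faithfully flat algebra along a surjection with nil kernel, with the kernel
of the lifted surjection -/
theorem exists_lift_package' {L L₀ : Type u} [CommRing L] [CommRing L₀] (π : L →+* L₀)
    (hπ : Function.Surjective π) (hN : RingHom.ker π ≤ nilradical L)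
    (E : Type u) [CommRing E] [Algebra L₀ E] [Algebra.Etale L₀ E]
    [Module.FaithfullyFlat L₀ E] :
    ∃ (S : Type u) (_ : CommRing S) (_ : Algebra L S), Algebra.Etale L S ∧
      Module.FaithfullyFlat L S ∧
      ∃ πS : S →+* E, Function.Surjective πS ∧
        RingHom.ker πS = Ideal.map (algebraMap L S) (RingHom.ker π) ∧
        (∀ a, πS (algebraMap L S a) = algebraMap L₀ E (π a)) ∧
        (Module.Finite L₀ E → Module.Finite L S) := by
  obtain ⟨S, _, _, hEt, πS, hsurj, hkerS, hcompat⟩ :=
    Groth.Agent.H7.NilLift.exists_etale_lift_nil π hπ hN E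
  have hnil : ∀ x, πS x = 0 → IsNilpotent x := by
    intro x hx
    have h1 : x ∈ Ideal.map (algebraMap L S) (RingHom.ker π) := by
      rw [← hkerS]
      exact hx
    exact mem_nilradical.mp (Groth.Agent.H7.NilLift.map_le_nilradical _ _ hN h1)
  have hcomp : πS.comp (algebraMap L S) = (algebraMap L₀ E).comp π := RingHom.ext hcompat
  refine ⟨S, inferInstance, inferInstance, hEt, ?_, πS, hsurj, hkerS, hcompat, ?_⟩
  · haveI : Module.Flat L S := inferInstance
    refine ⟨fun m hm htop => ?_⟩
    have h1 : (1 : S) ∈ Ideal.map (algebraMap L S) m := by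
      apply mem_map_of_mem_smul_top m
      rw [htop]
      exact Submodule.mem_top
    have h2 : (1 : E) ∈ Ideal.map (algebraMap L₀ E) (Ideal.map π m) := by
      rw [Ideal.map_map, ← hcomp, ← Ideal.map_map, ← map_one πS]
      exact Ideal.mem_map_of_mem _ h1
    have h3 : Ideal.map π m = ⊤ := by
      rw [← Ideal.comap_map_eq_self_of_faithfullyFlat (B := E) (Ideal.map π m),
        (Ideal.eq_top_iff_one _).mpr h2, Ideal.comap_top]
    have h4 : (1 : L₀) ∈ Ideal.map π m := by
      rw [h3]
      exact Submodule.mem_top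
    obtain ⟨x, hxm, hx1⟩ := (Ideal.mem_map_iff_of_surjective π hπ).mp h4
    have h5 : x - 1 ∈ RingHom.ker π := by
      rw [RingHom.mem_ker, map_sub, hx1, map_one, sub_self]
    have h6 : x - 1 ∈ m := by
      haveI := hm.isPrime
      exact nilradical_le_prime m (hN h5)
    have h7 : (1 : L) ∈ m := by
      have := m.sub_mem hxm h6
      rwa [sub_sub_cancel] at this
    exact hm.ne_top ((Ideal.eq_top_iff_one _).mpr h7)
  · intro hfin
    have hint : ∀ x : S, IsIntegral L x := by
      intro x
      have h0 : IsIntegral L₀ (πS x) := Algebra.IsIntegral.isIntegral _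
      obtain ⟨p₀, hp₀m, hp₀⟩ := h0
      have hl : p₀ ∈ Polynomial.lifts π := by
        rw [Polynomial.mem_lifts]
        exact Polynomial.map_surjective π hπ p₀
      obtain ⟨p, hp, -, hpm⟩ := Polynomial.lifts_and_natDegree_eq_and_monic hl hp₀m
      have h1 : πS (Polynomial.eval₂ (algebraMap L S) x p) = 0 := by
        rw [Polynomial.hom_eval₂, hcomp, ← Polynomial.eval₂_map, hp]
        exact hp₀
      obtain ⟨n, hn⟩ := hnil _ h1
      exact ⟨p ^ n, hpm.pow n, by rw [Polynomial.eval₂_pow, hn]⟩
    haveI : Algebra.FiniteType L S := inferInstance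
    obtain ⟨t, ht⟩ := (Algebra.FiniteType.out : (⊤ : Subalgebra L S).FG)
    have h2 := fg_adjoin_of_finite (R := L) t.finite_toSet (fun x _ => hint x)
    rw [ht, Algebra.top_toSubmodule] at h2
    exact ⟨h2⟩

theorem ker_awayMap_mk_le {R : Type u} [CommRing R] (I : Ideal R) (f : R) :
    RingHom.ker (Localization.awayMap (Ideal.Quotient.mk I) f) ≤
      I.map (algebraMap R (Localization.Away f)) := by
  intro x hx
  rw [RingHom.mem_ker] at hx
  obtain ⟨⟨a, ⟨_, n, rfl⟩⟩, hax⟩ := IsLocalization.surj (Submonoid.powers f) x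
  have hax' : x * algebraMap R (Localization.Away f) (f ^ n) =
      algebraMap R (Localization.Away f) a := hax
  have h1 : Localization.awayMap (Ideal.Quotient.mk I) f
      (algebraMap R (Localization.Away f) a) = 0 := by
    rw [← hax', map_mul, hx, zero_mul]
  have h2 : Localization.awayMap (Ideal.Quotient.mk I) f
      (algebraMap R (Localization.Away f) a) =
      algebraMap (R ⧸ I) (Localization.Away (Ideal.Quotient.mk I f)) (Ideal.Quotient.mk I a) :=
    IsLocalization.map_eq _ a
  rw [h2] at h1
  obtain ⟨⟨_, k, rfl⟩, hk⟩ := (IsLocalization.map_eq_zero_iff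
    (Submonoid.powers (Ideal.Quotient.mk I f)) (Localization.Away (Ideal.Quotient.mk I f)) _).mp h1
  have hk' : (Ideal.Quotient.mk I f) ^ k * Ideal.Quotient.mk I a = 0 := hk
  have h3 : f ^ k * a ∈ I := by
    rw [← Ideal.Quotient.eq_zero_iff_mem, map_mul, map_pow]
    exact hk'
  have hu : IsUnit (algebraMap R (Localization.Away f) f) :=
    IsLocalization.Away.algebraMap_isUnit f
  have h4 : x * (algebraMap R (Localization.Away f) (f ^ n) *
      algebraMap R (Localization.Away f) (f ^ k)) ∈
      I.map (algebraMap R (Localization.Away f)) := by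
    rw [← mul_assoc, hax', ← map_mul, mul_comm]
    exact Ideal.mem_map_of_mem _ h3
  have hu2 : IsUnit (algebraMap R (Localization.Away f) (f ^ n) *
      algebraMap R (Localization.Away f) (f ^ k)) := by
    rw [map_pow, map_pow]
    exact (hu.pow n).mul (hu.pow k)
  exact (Ideal.mul_unit_mem_iff_mem _ hu2).mp h4

end Package

section QI

variable (R : Type u) [CommRing R] (A : Type u) [CommRing A] [HopfAlgebra R A] [Module.Flat R A]

/-- a flat affine group whose reduction modulo a nilpotent ideal is a quasi-isotrivial group of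
multiplicative type is quasi-isotrivial of multiplicative type -/
theorem isQuasiIsotrivial_of_flat_of_nilpotent (I : Ideal R) (hI : IsNilpotent I)
    (h0 : IsQuasiIsotrivial (R ⧸ I) ((R ⧸ I) ⊗[R] A)) : IsQuasiIsotrivial R A := by
  obtain ⟨N, hN⟩ := hI
  have hI' : ∀ x ∈ I, IsNilpotent x := fun x hx => ⟨N, by
    have := Ideal.pow_mem_pow hx N
    rw [hN] at this
    exact this⟩
  obtain ⟨s₀, hs₀, hloc⟩ := h0
  refine ⟨{f | Ideal.Quotient.mk I f ∈ s₀}, ?_, ?_⟩
  · have h1 : Ideal.map (Ideal.Quotient.mk I)
        (Ideal.span {f | Ideal.Quotient.mk I f ∈ s₀}) = ⊤ := by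
      rw [Ideal.map_span, ← hs₀]
      congr 1
      ext y
      constructor
      · rintro ⟨f, hf, rfl⟩
        exact hf
      · intro hy
        obtain ⟨f, rfl⟩ := Ideal.Quotient.mk_surjective y
        exact ⟨f, hy, rfl⟩
    have h2 : (1 : R ⧸ I) ∈ Ideal.map (Ideal.Quotient.mk I)
        (Ideal.span {f | Ideal.Quotient.mk I f ∈ s₀}) := by
      rw [h1]
      exact Submodule.mem_top
    obtain ⟨a, ha, ha1⟩ :=
      (Ideal.mem_map_iff_of_surjective _ Ideal.Quotient.mk_surjective).mp h2
    have h3 : a - 1 ∈ I := by
      rw [← Ideal.Quotient.eq, ha1, map_one]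
    have h4 : IsUnit a := by
      have := (hI' _ h3).isUnit_add_one
      rwa [sub_add_cancel] at this
    exact Ideal.eq_top_of_isUnit_mem _ ha h4
  · intro f hf
    obtain ⟨E, _, _, hEt, hFF, hD⟩ := hloc (Ideal.Quotient.mk I f) hf
    obtain ⟨S, _, _, hSEt, hSFF, πS, hπS, hkerS, hcompat, -⟩ :=
      exists_lift_package' (Localization.awayMap (Ideal.Quotient.mk I) f)
        (awayMap_mk_surjective I f) (awayMap_mk_ker_le I hI' f) E
    refine ⟨S, inferInstance, inferInstance, hSEt, hSFF, ?_⟩
    letI algSE : Algebra S E := πS.toAlgebra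
    letI algRS : Algebra R S := Algebra.compHom S (algebraMap R (Localization.Away f))
    haveI : IsScalarTower R (Localization.Away f) S := IsScalarTower.of_algebraMap_eq fun _ => rfl
    letI algR₀E : Algebra (R ⧸ I) E :=
      Algebra.compHom E (algebraMap (R ⧸ I) (Localization.Away (Ideal.Quotient.mk I f)))
    haveI : IsScalarTower (R ⧸ I) (Localization.Away (Ideal.Quotient.mk I f)) E :=
      IsScalarTower.of_algebraMap_eq fun _ => rfl
    letI algRE : Algebra R E := Algebra.compHom E (algebraMap R (R ⧸ I))
    haveI : IsScalarTower R (R ⧸ I) E := IsScalarTower.of_algebraMap_eq fun _ => rfl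
    haveI : IsScalarTower R S E := IsScalarTower.of_algebraMap_eq fun r => by
      show algebraMap (Localization.Away (Ideal.Quotient.mk I f)) E
          (algebraMap (R ⧸ I) (Localization.Away (Ideal.Quotient.mk I f))
            (Ideal.Quotient.mk I r)) =
        πS (algebraMap (Localization.Away f) S (algebraMap R (Localization.Away f) r))
      rw [hcompat]
      congr 1
      exact (IsLocalization.map_eq _ r).symm
    obtain ⟨M, _, ⟨e'⟩⟩ := hD
    have hDE : IsDiag E (E ⊗[S] (S ⊗[R] A)) :=
      ⟨M, inferInstance, ⟨(Groth.Agent.H9.MT.cancelBC R S E A).trans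
        ((Groth.Agent.H9.MT.cancelBC R (R ⧸ I) E A).symm.trans
        ((Groth.Agent.H9.MT.cancelBC (R ⧸ I) (Localization.Away (Ideal.Quotient.mk I f)) E
          ((R ⧸ I) ⊗[R] A)).symm.trans e'))⟩⟩
    have hsurjSE : Function.Surjective (algebraMap S E) := hπS
    have hnSE : RingHom.ker (algebraMap S E) ^ N = ⊥ := by
      have e1 : RingHom.ker (algebraMap S E) = RingHom.ker πS := rfl
      rw [e1, hkerS, eq_bot_iff]
      refine (Ideal.pow_right_mono (Ideal.map_mono (ker_awayMap_mk_le I f)) N).trans ?_
      rw [Ideal.map_map, ← Ideal.map_pow, hN, Ideal.zero_eq_bot, Ideal.map_bot]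
    obtain ⟨M', _, ⟨e''⟩⟩ := isDiag_of_flat_deformation N S E hsurjSE hnSE (S ⊗[R] A) hDE
    exact ⟨M', inferInstance,
      ⟨(Groth.Agent.H9.MT.cancelBC R (Localization.Away f) S A).trans e''⟩⟩

end QI

section Art

variable (A : Type u) [CommRing A] [IsArtinianRing A] [IsLocalRing A]
  (C : Type u) [CommRing C] [HopfAlgebra A C] [Module.Flat A C]

/-- a flat affine group of finite type over an Artinian local ring whose closed fibre is of
multiplicative type is isotrivial -/
theorem isIsotrivial_of_flat_of_artinian (hft : Algebra.FiniteType A C)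
    (h0 : IsMultType (IsLocalRing.ResidueField A) (IsLocalRing.ResidueField A ⊗[A] C)) :
    IsIsotrivial A C := by
  haveI : Algebra.FiniteType (IsLocalRing.ResidueField A) (IsLocalRing.ResidueField A ⊗[A] C) :=
    inferInstance
  obtain ⟨k', _, _, hfin, hsep, M, _, -, ⟨e'⟩⟩ := Groth.Agent.H9.MT.exists_isDiagFT h0
  haveI : Algebra.FormallyEtale (IsLocalRing.ResidueField A) k' :=
    Algebra.FormallyEtale.of_isSeparable _ _
  haveI : Algebra.FinitePresentation (IsLocalRing.ResidueField A) k' :=
    Algebra.FinitePresentation.of_finiteType.mp inferInstance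
  haveI : Algebra.Etale (IsLocalRing.ResidueField A) k' := ⟨inferInstance, inferInstance⟩
  haveI : Module.FaithfullyFlat (IsLocalRing.ResidueField A) k' := inferInstance
  obtain ⟨N, hN⟩ := IsArtinianRing.isNilpotent_jacobson_bot (R := A)
  have hmax : IsLocalRing.maximalIdeal A ^ N = ⊥ := by
    rw [← IsLocalRing.jacobson_eq_maximalIdeal ⊥ bot_ne_top]
    exact hN
  have hker : RingHom.ker (IsLocalRing.residue A) = IsLocalRing.maximalIdeal A :=
    IsLocalRing.ker_residue
  have hNil : RingHom.ker (IsLocalRing.residue A) ≤ nilradical A := by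
    intro x hx
    rw [hker] at hx
    rw [mem_nilradical]
    refine ⟨N, ?_⟩
    have := Ideal.pow_mem_pow hx N
    rw [hmax] at this
    exact this
  obtain ⟨S, _, _, hSEt, hSFF, πS, hπS, hkerS, hcompat, hfinS⟩ :=
    exists_lift_package' (IsLocalRing.residue A) IsLocalRing.residue_surjective hNil k'
  refine ⟨S, inferInstance, inferInstance, hSEt, hfinS hfin, hSFF, ?_⟩
  letI algSE : Algebra S k' := πS.toAlgebra
  letI algAE : Algebra A k' := Algebra.compHom k' (algebraMap A (IsLocalRing.ResidueField A))
  haveI : IsScalarTower A (IsLocalRing.ResidueField A) k' :=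
    IsScalarTower.of_algebraMap_eq fun _ => rfl
  haveI : IsScalarTower A S k' := IsScalarTower.of_algebraMap_eq fun r => by
    show algebraMap (IsLocalRing.ResidueField A) k'
        (algebraMap A (IsLocalRing.ResidueField A) r) = πS (algebraMap A S r)
    rw [hcompat]
    rfl
  have hDE : IsDiag k' (k' ⊗[S] (S ⊗[A] C)) :=
    ⟨M, inferInstance, ⟨(Groth.Agent.H9.MT.cancelBC A S k' C).trans
      ((Groth.Agent.H9.MT.cancelBC A (IsLocalRing.ResidueField A) k' C).symm.trans e')⟩⟩
  have hsurjSE : Function.Surjective (algebraMap S k') := hπS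
  have hnSE : RingHom.ker (algebraMap S k') ^ N = ⊥ := by
    have e1 : RingHom.ker (algebraMap S k') = RingHom.ker πS := rfl
    rw [e1, hkerS, hker, ← Ideal.map_pow, hmax, Ideal.map_bot]
  exact isDiag_of_flat_deformation N S k' hsurjSE hnSE (S ⊗[A] C) hDE

end Art

end

end Groth.Agent.H9.LIF
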