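import Mathlib
import Groth.Prelude.Def_SGA3b
import Groth.Agent.Lib.Helper9.Misc.LIF12
import Groth.Agent.Lib.Helper9.Misc.LIF14

/-!
# Compatible systems of trivializations of a flat deformation of a diagonalisable group (helper9)
-/

set_option autoImplicit false
set_option linter.unusedSectionVars false
set_option linter.unusedVariables false
set_option linter.style.haveILetI false

namespace Groth.Agent.H9.LIF

open TensorProduct

noncomputable section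

universe u

section DD'

variable (n : ℕ) (R : Type u) [CommRing R] (Rb : Type u) [CommRing Rb] [Algebra R Rb]
  (hsurj : Function.Surjective (algebraMap R Rb))
  (hn : RingHom.ker (algebraMap R Rb) ^ n = ⊥)
  (A : Type u) [CommRing A] [HopfAlgebra R A] [Module.Flat R A]

include hsurj hn in
/-- a flat deformation of `Rb[M]` along a nilpotent ideal is `R[M]`, compatibly with the given
trivialization modulo the ideal -/
theorem exists_bialgEquiv_of_flat_deformation {M : Type u} [CommGroup M]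
    (e₀ : (Rb ⊗[R] A) ≃ₐc[Rb] MonoidAlgebra Rb M) :
    ∃ Φ : MonoidAlgebra R M ≃ₐc[R] A,
      ∀ m : M, e₀ ((1 : Rb) ⊗ₜ[R] Φ (MonoidAlgebra.single m 1)) = MonoidAlgebra.single m 1 := by
  classical
  have hK : IsNilpotent (RingHom.ker (algebraMap R Rb)) := ⟨n, hn⟩
  obtain ⟨χ, hχ⟩ := exists_isInt_of_flat_deformation n R Rb hsurj hn A e₀
  have hex : ∀ m : M, ∃ g : GroupLike R A, xi e₀ (g : A) = MonoidAlgebra.single m 1 := by
    intro m
    let φb : (Rb ⊗[R] MonoidAlgebra R (Multiplicative ℤ)) →ₐc[Rb] (Rb ⊗[R] A) :=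
      ((e₀.symm : MonoidAlgebra Rb M ≃ₐc[Rb] (Rb ⊗[R] A)) : _ →ₐc[Rb] _).comp
        ((MonoidAlgebra.mapDomainBialgHom Rb (zpowersHom M m)).comp
          ((MT.monAlgBC R Rb (Multiplicative ℤ)) : _ →ₐc[Rb] _))
    obtain ⟨φ, hφ⟩ := exists_lift_nilp n R Rb hsurj hn (MonoidAlgebra R (Multiplicative ℤ)) A χ hχ φb
    refine ⟨⟨φ (MonoidAlgebra.single (Multiplicative.ofAdd (1 : ℤ)) 1),
      (MonoidAlgebra.isGroupLikeElem_single_one _).map φ⟩, ?_⟩
    rw [xi_apply]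
    show e₀ ((1 : Rb) ⊗ₜ[R] φ (MonoidAlgebra.single (Multiplicative.ofAdd (1 : ℤ)) 1)) = _
    rw [← hφ]
    show e₀ (e₀.symm (MonoidAlgebra.mapDomainBialgHom Rb (zpowersHom M m)
      (MT.monAlgBC R Rb (Multiplicative ℤ)
        ((1 : Rb) ⊗ₜ[R] MonoidAlgebra.single (Multiplicative.ofAdd (1 : ℤ)) 1)))) = _
    rw [BialgEquiv.apply_symm_apply, MT.monAlgBC_tmul, one_smul]
    simp
  choose gl hgl using hex
  have huniq : ∀ g g' : GroupLike R A, xi e₀ (g : A) = xi e₀ (g' : A) → g = g' := by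
    intro g g' h
    apply groupLike_eq_of_sub_mem hχ _ hK
    apply mem_of_xi_eq_zero hsurj e₀
    rw [map_sub, h, sub_self]
  have hxi_mul : ∀ x y : A, xi e₀ (x * y) = xi e₀ x * xi e₀ y := by
    intro x y
    rw [xi_apply, xi_apply, xi_apply, ← map_mul, Algebra.TensorProduct.tmul_mul_tmul, mul_one]
  let glHom : M →* GroupLike R A :=
    { toFun := gl
      map_one' := by
        apply huniq
        rw [hgl, GroupLike.val_one, xi_apply, ← Algebra.TensorProduct.one_def, map_one]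
        rfl
      map_mul' := fun m m' => by
        apply huniq
        rw [hgl, GroupLike.val_mul, hxi_mul, hgl, hgl, MonoidAlgebra.single_mul_single, mul_one] }
  let Φ : MonoidAlgebra R M →ₐc[R] A :=
    (MonoidAlgebra.liftGroupLikeBialgHom (R := R) (A := A)).comp
      (MonoidAlgebra.mapDomainBialgHom R glHom)
  have hΦ : ∀ p : MonoidAlgebra R M,
      Φ p = Finsupp.linearCombination R (fun m => (gl m : A)) p.coeff := by
    intro p
    induction p using MonoidAlgebra.induction_linear with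
    | zero => rw [map_zero]; rfl
    | add x y hx hy => rw [map_add, hx, hy, MonoidAlgebra.coeff_add, map_add]
    | single m r =>
      rw [MonoidAlgebra.coeff_single, Finsupp.linearCombination_single]
      show MonoidAlgebra.liftGroupLikeBialgHom
        (MonoidAlgebra.mapDomainBialgHom R glHom (MonoidAlgebra.single m r)) = _
      rw [MonoidAlgebra.mapDomainBialgHom_single]
      simp [glHom]
  have hbij : Function.Bijective Φ := by
    have h1 := bijective_linearCombination hsurj e₀ hK (fun m => (gl m : A)) hgl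
    have h2 : (Φ : MonoidAlgebra R M → A) =
        (Finsupp.linearCombination R (fun m => (gl m : A))) ∘
          (MonoidAlgebra.coeffLinearEquiv R (S := R) (M := M)) := by
      funext p
      exact hΦ p
    rw [h2]
    exact h1.comp (MonoidAlgebra.coeffLinearEquiv R).bijective
  refine ⟨BialgEquiv.ofBijective Φ hbij, fun m => ?_⟩
  show e₀ ((1 : Rb) ⊗ₜ[R] Φ (MonoidAlgebra.single m 1)) = _
  rw [hΦ, MonoidAlgebra.coeff_single, Finsupp.linearCombination_single, one_smul]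
  exact hgl m

/-- the compatibility of `exists_bialgEquiv_of_flat_deformation` on all elements -/
theorem apply_one_tmul_of_single {M : Type u} [CommGroup M]
    (e₀ : (Rb ⊗[R] A) ≃ₐc[Rb] MonoidAlgebra Rb M) (Φ : MonoidAlgebra R M ≃ₐc[R] A)
    (hΦ : ∀ m : M, e₀ ((1 : Rb) ⊗ₜ[R] Φ (MonoidAlgebra.single m 1)) = MonoidAlgebra.single m 1)
    (p : MonoidAlgebra R M) :
    e₀ ((1 : Rb) ⊗ₜ[R] Φ p) = MT.monAlgBC R Rb M ((1 : Rb) ⊗ₜ[R] p) := by
  classical
  induction p using MonoidAlgebra.induction_linear with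
  | zero => rw [map_zero, TensorProduct.tmul_zero, map_zero, TensorProduct.tmul_zero, map_zero]
  | add x y hx hy => rw [map_add, TensorProduct.tmul_add, map_add, hx, hy, TensorProduct.tmul_add,
      map_add]
  | single m r =>
    have e1 : (MonoidAlgebra.single m r : MonoidAlgebra R M) = r • MonoidAlgebra.single m 1 := by
      rw [MonoidAlgebra.smul_single, smul_eq_mul, mul_one]
    rw [e1, map_smul, TensorProduct.tmul_smul, TensorProduct.tmul_smul,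
      ← algebraMap_smul Rb r ((1 : Rb) ⊗ₜ[R] Φ (MonoidAlgebra.single m 1)),
      ← algebraMap_smul Rb r ((1 : Rb) ⊗ₜ[R] (MonoidAlgebra.single m 1 : MonoidAlgebra R M)),
      map_smul, map_smul, hΦ, MT.monAlgBC_tmul, one_smul, MonoidAlgebra.mapAlgHom_single, map_one]

end DD'

section RLI

variable (A : Type u) [CommRing A]

theorem monAlgBC_monAlgBC (R : Type u) [CommRing R] [Algebra A R] (Rb : Type u) [CommRing Rb]
    [Algebra A Rb] [Algebra R Rb] [IsScalarTower A R Rb] (M : Type u) [CommGroup M]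
    (y : MonoidAlgebra A M) :
    MT.monAlgBC R Rb M ((1 : Rb) ⊗ₜ[R] MT.monAlgBC A R M ((1 : R) ⊗ₜ[A] y)) =
      MT.monAlgBC A Rb M ((1 : Rb) ⊗ₜ[A] y) := by
  classical
  rw [MT.monAlgBC_tmul, MT.monAlgBC_tmul, MT.monAlgBC_tmul, one_smul, one_smul, one_smul]
  induction y using MonoidAlgebra.induction_linear with
  | zero => rw [map_zero, map_zero, map_zero]
  | add x y hx hy => rw [map_add, map_add, hx, hy, map_add]
  | single m r =>
    rw [MonoidAlgebra.mapAlgHom_single, MonoidAlgebra.mapAlgHom_single,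
      MonoidAlgebra.mapAlgHom_single]
    congr 1
    show algebraMap R Rb (algebraMap A R r) = algebraMap A Rb r
    rw [← IsScalarTower.algebraMap_apply]

/-- lifting a trivialization of a flat group from `Rb` (a quotient of `A`) to `A ⧸ J'`, when a
power of the kernel of `A → Rb` is contained in `J' ≤ ker` -/
theorem exists_lift_triv (J' : Ideal A) (Rb : Type u) [CommRing Rb] [Algebra A Rb]
    (hsurj : Function.Surjective (algebraMap A Rb))
    (hle : J' ≤ RingHom.ker (algebraMap A Rb)) (N : ℕ)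
    (hpow : RingHom.ker (algebraMap A Rb) ^ N ≤ J')
    (C : Type u) [CommRing C] [HopfAlgebra A C] [Module.Flat A C]
    (M : Type u) [CommGroup M]
    (Ψb : (Rb ⊗[A] C) ≃ₐc[Rb] MonoidAlgebra Rb M) :
    ∃ Ψ : ((A ⧸ J') ⊗[A] C) ≃ₐc[A ⧸ J'] MonoidAlgebra (A ⧸ J') M,
      ∀ (c : C) (y : MonoidAlgebra A M),
        Ψ ((1 : A ⧸ J') ⊗ₜ[A] c) = MT.monAlgBC A (A ⧸ J') M ((1 : A ⧸ J') ⊗ₜ[A] y) →
        Ψb ((1 : Rb) ⊗ₜ[A] c) = MT.monAlgBC A Rb M ((1 : Rb) ⊗ₜ[A] y) := by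
  letI : Algebra (A ⧸ J') Rb := quotAlg J' hle
  haveI : IsScalarTower A (A ⧸ J') Rb := quotAlg_tower J' hle
  have hsurj' : Function.Surjective (algebraMap (A ⧸ J') Rb) := quotAlg_surj J' hle hsurj
  have hn : RingHom.ker (algebraMap (A ⧸ J') Rb) ^ N = ⊥ := by
    rw [eq_bot_iff]
    refine (Ideal.pow_right_mono (quotAlg_ker_le J' hle) N).trans ?_
    rw [← Ideal.map_pow]
    refine (Ideal.map_mono hpow).trans ?_
    rw [Ideal.map_quotient_self]
  let e₀ : ((Rb ⊗[A ⧸ J'] ((A ⧸ J') ⊗[A] C))) ≃ₐc[Rb] MonoidAlgebra Rb M :=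
    (MT.cancelBC A (A ⧸ J') Rb C).trans Ψb
  obtain ⟨Φ, hΦ⟩ := exists_bialgEquiv_of_flat_deformation N (A ⧸ J') Rb hsurj' hn
    ((A ⧸ J') ⊗[A] C) e₀
  refine ⟨Φ.symm, fun c y hy => ?_⟩
  have h1 : (1 : A ⧸ J') ⊗ₜ[A] c =
      Φ (MT.monAlgBC A (A ⧸ J') M ((1 : A ⧸ J') ⊗ₜ[A] y)) := by
    rw [← hy, BialgEquiv.apply_symm_apply]
  have h2 := apply_one_tmul_of_single (A ⧸ J') Rb ((A ⧸ J') ⊗[A] C) e₀ Φ hΦ
    (MT.monAlgBC A (A ⧸ J') M ((1 : A ⧸ J') ⊗ₜ[A] y))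
  rw [← h1, monAlgBC_monAlgBC] at h2
  rw [← h2]
  show Ψb _ = Ψb ((MT.cancelBC A (A ⧸ J') Rb C)
    ((1 : Rb) ⊗ₜ[A ⧸ J'] ((1 : A ⧸ J') ⊗ₜ[A] c)))
  rw [MT.cancelBC_tmul, one_smul]

/-- the compatible system of trivializations modulo the powers of `I` -/
theorem exists_triv_system (I : Ideal A) (Rb : Type u) [CommRing Rb] [Algebra A Rb]
    (hsurj : Function.Surjective (algebraMap A Rb))
    (hker : RingHom.ker (algebraMap A Rb) = I)
    (C : Type u) [CommRing C] [HopfAlgebra A C] [Module.Flat A C]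
    (M : Type u) [CommGroup M]
    (Ψb : (Rb ⊗[A] C) ≃ₐc[Rb] MonoidAlgebra Rb M) :
    ∃ Ψ : (n : ℕ) → (((A ⧸ I ^ (n + 1)) ⊗[A] C) ≃ₐc[A ⧸ I ^ (n + 1)]
        MonoidAlgebra (A ⧸ I ^ (n + 1)) M),
      (∀ (c : C) (y : MonoidAlgebra A M),
        Ψ 0 ((1 : A ⧸ I ^ (0 + 1)) ⊗ₜ[A] c) =
          MT.monAlgBC A (A ⧸ I ^ (0 + 1)) M ((1 : A ⧸ I ^ (0 + 1)) ⊗ₜ[A] y) →
        Ψb ((1 : Rb) ⊗ₜ[A] c) = MT.monAlgBC A Rb M ((1 : Rb) ⊗ₜ[A] y)) ∧
      ∀ (n : ℕ) (c : C) (y : MonoidAlgebra A M),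
        Ψ (n + 1) ((1 : A ⧸ I ^ (n + 1 + 1)) ⊗ₜ[A] c) =
          MT.monAlgBC A (A ⧸ I ^ (n + 1 + 1)) M ((1 : A ⧸ I ^ (n + 1 + 1)) ⊗ₜ[A] y) →
        Ψ n ((1 : A ⧸ I ^ (n + 1)) ⊗ₜ[A] c) =
          MT.monAlgBC A (A ⧸ I ^ (n + 1)) M ((1 : A ⧸ I ^ (n + 1)) ⊗ₜ[A] y) := by
  have base := exists_lift_triv A (I ^ (0 + 1)) Rb hsurj
    (by rw [hker, zero_add, pow_one]) 1 (by rw [hker, zero_add, pow_one]) C M Ψb
  have step : ∀ (n : ℕ) (Ψn : ((A ⧸ I ^ (n + 1)) ⊗[A] C) ≃ₐc[A ⧸ I ^ (n + 1)]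
      MonoidAlgebra (A ⧸ I ^ (n + 1)) M),
      ∃ Ψ' : ((A ⧸ I ^ (n + 1 + 1)) ⊗[A] C) ≃ₐc[A ⧸ I ^ (n + 1 + 1)]
        MonoidAlgebra (A ⧸ I ^ (n + 1 + 1)) M,
      ∀ (c : C) (y : MonoidAlgebra A M),
        Ψ' ((1 : A ⧸ I ^ (n + 1 + 1)) ⊗ₜ[A] c) =
          MT.monAlgBC A (A ⧸ I ^ (n + 1 + 1)) M ((1 : A ⧸ I ^ (n + 1 + 1)) ⊗ₜ[A] y) →
        Ψn ((1 : A ⧸ I ^ (n + 1)) ⊗ₜ[A] c) =
          MT.monAlgBC A (A ⧸ I ^ (n + 1)) M ((1 : A ⧸ I ^ (n + 1)) ⊗ₜ[A] y) := fun n Ψn => by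
    have hk : RingHom.ker (algebraMap A (A ⧸ I ^ (n + 1))) = I ^ (n + 1) := by
      rw [Ideal.Quotient.algebraMap_eq, Ideal.mk_ker]
    exact exists_lift_triv A (I ^ (n + 1 + 1)) (A ⧸ I ^ (n + 1)) Ideal.Quotient.mk_surjective
      (by rw [hk]; exact Ideal.pow_le_pow_right (Nat.le_succ _)) 2
      (by rw [hk, ← pow_mul]; exact Ideal.pow_le_pow_right (by omega)) C M Ψn
  let Ψ : (n : ℕ) → (((A ⧸ I ^ (n + 1)) ⊗[A] C) ≃ₐc[A ⧸ I ^ (n + 1)]
      MonoidAlgebra (A ⧸ I ^ (n + 1)) M) := fun n =>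
    Nat.rec (motive := fun n => (((A ⧸ I ^ (n + 1)) ⊗[A] C) ≃ₐc[A ⧸ I ^ (n + 1)]
      MonoidAlgebra (A ⧸ I ^ (n + 1)) M)) (Classical.choose base)
      (fun n Ψn => Classical.choose (step n Ψn)) n
  exact ⟨Ψ, Classical.choose_spec base, fun n => Classical.choose_spec (step n (Ψ n))⟩

end RLI

end

end Groth.Agent.H9.LIF
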