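import Mathlib
import Groth.Prelude.Def_SGA3b
import Groth.Agent.Lib.Helper9.Misc.LIF11
import Groth.Agent.Lib.Helper9.Misc.LIF16

/-!
# The formal trivialization of a flat group with diagonalisable reduction is algebraic (helper9)

Over a Noetherian `I`-adically complete ring `A`, a flat Hopf algebra `C` with
`(A ⧸ I) ⊗ C ≃ (A ⧸ I)[M]` admits a surjective bialgebra map `C → A[M]` lifting the given
trivialization.
-/

set_option autoImplicit false
set_option linter.unusedSectionVars false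
set_option linter.unusedVariables false
set_option linter.style.haveILetI false

namespace Groth.Agent.H9.LIF

open TensorProduct

noncomputable section

universe u

section MonAlg

variable {A : Type u} [CommRing A] {M : Type u} [CommGroup M]

theorem lamS_cf_comul (m : M) (x : MonoidAlgebra A M) :
    lamS (cf A m) (MonoidAlgebra A M) (Coalgebra.comul (R := A) x) =
      x.coeff m • (MonoidAlgebra.single m 1 : MonoidAlgebra A M) := by
  classical
  induction x using MonoidAlgebra.induction_linear with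
  | zero => rw [map_zero, map_zero]; simp
  | add x y hx hy => rw [map_add, map_add, hx, hy, MonoidAlgebra.coeff_add, Finsupp.add_apply,
      add_smul]
  | single k r =>
    rw [comul_single', lamS_tmul, cf_apply, MonoidAlgebra.coeff_single, Finsupp.single_apply]
    by_cases h : k = m
    · rw [if_pos h, h]
    · rw [if_neg h, zero_smul, zero_smul]

theorem isIsotrivial_monoidAlgebra : SGA3b.IsIsotrivial A (MonoidAlgebra A M) :=
  ⟨A, inferInstance, inferInstance, ⟨inferInstance, inferInstance⟩, inferInstance, inferInstance,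
    M, inferInstance, ⟨MT.monAlgBC A A M⟩⟩

end MonAlg

section Core1

variable (A : Type u) [CommRing A] [IsNoetherianRing A] (I : Ideal A) [IsAdicComplete I A]
  (Rb : Type u) [CommRing Rb] [Algebra A Rb] (hsurj : Function.Surjective (algebraMap A Rb))
  (hker : RingHom.ker (algebraMap A Rb) = I)
  (C : Type u) [CommRing C] [HopfAlgebra A C] [Module.Flat A C]
  (M : Type u) [CommGroup M] (Ψb : (Rb ⊗[A] C) ≃ₐc[Rb] MonoidAlgebra Rb M)

include hsurj hker in
/-- the trivialization modulo `I` lifts to a surjective bialgebra map `C → A[M]` -/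
theorem exists_formal_lift :
    ∃ φ : C →ₐc[A] MonoidAlgebra A M,
      (∀ c : C, Ψb ((1 : Rb) ⊗ₜ[A] c) = MT.monAlgBC A Rb M ((1 : Rb) ⊗ₜ[A] φ c)) ∧
      Function.Surjective φ := by
  classical
  obtain ⟨Ψ, h0, hstep⟩ := exists_triv_system A I Rb hsurj hker C M Ψb
  let ψ : (n : ℕ) → (((A ⧸ I ^ (n + 1)) ⊗[A] C) →ₐc[A ⧸ I ^ (n + 1)]
      ((A ⧸ I ^ (n + 1)) ⊗[A] MonoidAlgebra A M)) := fun n =>
    (((MT.monAlgBC A (A ⧸ I ^ (n + 1)) M).symm :
      MonoidAlgebra (A ⧸ I ^ (n + 1)) M ≃ₐc[A ⧸ I ^ (n + 1)]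
        ((A ⧸ I ^ (n + 1)) ⊗[A] MonoidAlgebra A M)) :
      MonoidAlgebra (A ⧸ I ^ (n + 1)) M →ₐc[A ⧸ I ^ (n + 1)]
        ((A ⧸ I ^ (n + 1)) ⊗[A] MonoidAlgebra A M)).comp
      ((Ψ n : ((A ⧸ I ^ (n + 1)) ⊗[A] C) ≃ₐc[A ⧸ I ^ (n + 1)]
        MonoidAlgebra (A ⧸ I ^ (n + 1)) M) :
        ((A ⧸ I ^ (n + 1)) ⊗[A] C) →ₐc[A ⧸ I ^ (n + 1)] MonoidAlgebra (A ⧸ I ^ (n + 1)) M)
  have hψ_iff : ∀ (n : ℕ) (c : C) (y : MonoidAlgebra A M),
      ψ n ((1 : A ⧸ I ^ (n + 1)) ⊗ₜ[A] c) = (1 : A ⧸ I ^ (n + 1)) ⊗ₜ[A] y ↔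
      Ψ n ((1 : A ⧸ I ^ (n + 1)) ⊗ₜ[A] c) =
        MT.monAlgBC A (A ⧸ I ^ (n + 1)) M ((1 : A ⧸ I ^ (n + 1)) ⊗ₜ[A] y) := by
    intro n c y
    show (MT.monAlgBC A (A ⧸ I ^ (n + 1)) M).symm (Ψ n ((1 : A ⧸ I ^ (n + 1)) ⊗ₜ[A] c)) = _ ↔ _
    constructor
    · intro h
      rw [← h, BialgEquiv.apply_symm_apply]
    · intro h
      rw [h, BialgEquiv.symm_apply_apply]
  have hψ : ∀ (n : ℕ) (c : C) (y : MonoidAlgebra A M),
      ψ (n + 1) ((1 : A ⧸ I ^ (n + 1 + 1)) ⊗ₜ[A] c) = (1 : A ⧸ I ^ (n + 1 + 1)) ⊗ₜ[A] y →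
      ψ n ((1 : A ⧸ I ^ (n + 1)) ⊗ₜ[A] c) = (1 : A ⧸ I ^ (n + 1)) ⊗ₜ[A] y := by
    intro n c y h
    rw [hψ_iff] at h ⊢
    exact hstep n c y h
  obtain ⟨φ, hφ⟩ := exists_algebraization A I (MonoidAlgebra A M) isIsotrivial_monoidAlgebra C
    (sysOf I ψ hψ)
  have hC2 : ∀ (n : ℕ) (c : C), ψ n ((1 : A ⧸ I ^ (n + 1)) ⊗ₜ[A] c) =
      (1 : A ⧸ I ^ (n + 1)) ⊗ₜ[A] φ c := by
    intro n c
    have h1 := one_tmul_eq_zero_of_mem (I ^ (n + 1)) _ (hφ n c)
    rw [TensorProduct.tmul_sub, sub_eq_zero, sysOf_b, bOf_spec] at h1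
    exact h1.symm
  have hlift : ∀ c : C, Ψb ((1 : Rb) ⊗ₜ[A] c) =
      MT.monAlgBC A Rb M ((1 : Rb) ⊗ₜ[A] φ c) := by
    intro c
    exact h0 c (φ c) ((hψ_iff 0 c (φ c)).mp (hC2 0 c))
  refine ⟨φ, hlift, ?_⟩
  have hJ : I ≤ (⊥ : Ideal A).jacobson := IsAdicComplete.le_jacobson_bot I
  have hgen : ∀ m : M, ∃ c : C, φ c = MonoidAlgebra.single m 1 := by
    intro m
    obtain ⟨w, hw⟩ := EquivLike.surjective Ψb (MonoidAlgebra.single m 1)
    obtain ⟨c₀, rfl⟩ := QI.exists_one_tmul' hsurj C w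
    rw [hlift, MT.monAlgBC_tmul, one_smul] at hw
    have hcoef : algebraMap A Rb ((φ c₀).coeff m) = 1 := by
      have := congrArg (fun x : MonoidAlgebra Rb M => x.coeff m) hw
      simp only [MonoidAlgebra.coeff_mapAlgHom, MonoidAlgebra.coeff_single,
        Finsupp.single_eq_same] at this
      exact this
    have hmem : (φ c₀).coeff m - 1 ∈ I := by
      rw [← hker, RingHom.mem_ker, map_sub, hcoef, map_one, sub_self]
    have hu : IsUnit ((φ c₀).coeff m) := by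
      have := (Ideal.mem_jacobson_bot.mp (hJ hmem)) 1
      rwa [mul_one, sub_add_cancel] at this
    obtain ⟨u, hu'⟩ := hu
    let χ : C →ₗ[A] A := cf A m ∘ₗ ((φ : C →ₐc[A] MonoidAlgebra A M) : C →ₗ[A] MonoidAlgebra A M)
    have key : ∀ t : C ⊗[A] C, φ (lamS χ C t) = lamS (cf A m) (MonoidAlgebra A M)
        (TensorProduct.map ((φ : C →ₐc[A] MonoidAlgebra A M) : C →ₗ[A] MonoidAlgebra A M)
          ((φ : C →ₐc[A] MonoidAlgebra A M) : C →ₗ[A] MonoidAlgebra A M) t) := by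
      intro t
      induction t using TensorProduct.induction_on with
      | zero => rw [map_zero, map_zero, map_zero, map_zero]
      | tmul p q =>
        rw [lamS_tmul, TensorProduct.map_tmul, lamS_tmul, map_smul]
        rfl
      | add x y hx hy => rw [map_add, map_add, hx, hy, map_add, map_add]
    refine ⟨((u⁻¹ : Aˣ) : A) • lamS χ C (Coalgebra.comul (R := A) c₀), ?_⟩
    rw [map_smul, key, CoalgHomClass.map_comp_comul_apply, lamS_cf_comul, ← hu', smul_smul,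
      Units.inv_mul, one_smul]
  intro x
  induction x using MonoidAlgebra.induction_linear with
  | zero => exact ⟨0, map_zero _⟩
  | add x y hx hy =>
    obtain ⟨a, rfl⟩ := hx
    obtain ⟨b, rfl⟩ := hy
    exact ⟨a + b, map_add _ _ _⟩
  | single m r =>
    obtain ⟨c, hc⟩ := hgen m
    refine ⟨r • c, ?_⟩
    rw [map_smul, hc, MonoidAlgebra.smul_single, smul_eq_mul, mul_one]

end Core1

end

end Groth.Agent.H9.LIF
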