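import Mathlib
import Groth.Agent.Lib.Helper9.Misc.LIF1

/-!
# A closed subgroup containing a neighbourhood of the unit section is open (helper9)

`ker_le_sq`: for a surjective bialgebra map `φ : C → B` of commutative Hopf algebras with `B` flat,
if some `r : C` with invertible augmentation kills `ker φ`, then `ker φ = (ker φ)²`.
-/

set_option autoImplicit false
set_option linter.unusedSectionVars false
set_option linter.unusedVariables false
set_option linter.style.haveILetI false

namespace Groth.Agent.H9.LIF

open TensorProduct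

noncomputable section

universe u

section Ext

variable {A : Type*} [CommRing A] {C : Type*} [CommRing C] [Algebra A C]
  {B : Type*} [CommRing B] [Algebra A B] [Module.Flat A B]

theorem exists_mul_mem_sq (φ : C →ₐ[A] B) (hφ : Function.Surjective φ) (w : B ⊗[A] C) (x : C)
    (hx : φ x = 0) (hw : w * ((1 : B) ⊗ₜ[A] x) = 0) :
    ∃ y : C, φ y = Algebra.TensorProduct.productMap (AlgHom.id A B) φ w ∧
      y * x ∈ (RingHom.ker φ) ^ 2 := by
  classical
  let φl : C →ₗ[A] B := φ.toLinearMap
  let K : Submodule A C := LinearMap.ker φl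
  have hφl : Function.Surjective φl := hφ
  obtain ⟨W, hW⟩ := LinearMap.rTensor_surjective C hφl w
  have hmap : ∀ W : C ⊗[A] C,
      φl.rTensor C W = Algebra.TensorProduct.map φ (AlgHom.id A C) W := by
    intro W
    induction W using TensorProduct.induction_on with
    | zero => rw [map_zero, map_zero]
    | tmul a b => rfl
    | add a b ha hb => rw [map_add, map_add, ha, hb]
  refine ⟨Algebra.TensorProduct.lmul' A W, ?_, ?_⟩
  · rw [← hW]
    clear hW hw
    induction W using TensorProduct.induction_on with
    | zero => rw [map_zero, map_zero, map_zero, map_zero]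
    | tmul a b =>
      rw [Algebra.TensorProduct.lmul'_apply_tmul, map_mul, LinearMap.rTensor_tmul,
        Algebra.TensorProduct.productMap_apply_tmul]
      rfl
    | add a b ha hb => rw [map_add, map_add, map_add, map_add, ha, hb]
  · let mx : C →ₗ[A] K := LinearMap.codRestrict K (LinearMap.mulRight A x) (fun c => by
      show φ (c * x) = 0
      rw [map_mul, hx, mul_zero])
    let Y : C ⊗[A] K := mx.lTensor C W
    have h1 : K.subtype.lTensor C Y = W * ((1 : C) ⊗ₜ[A] x) := by
      show K.subtype.lTensor C (mx.lTensor C W) = _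
      clear hW
      induction W using TensorProduct.induction_on with
      | zero => rw [map_zero, map_zero, zero_mul]
      | tmul a b =>
        rw [LinearMap.lTensor_tmul, LinearMap.lTensor_tmul, Algebra.TensorProduct.tmul_mul_tmul,
          mul_one]
        rfl
      | add a b ha hb => rw [map_add, map_add, ha, hb, add_mul]
    have h2 : φl.rTensor K Y = 0 := by
      have hinj : Function.Injective (K.subtype.lTensor B) :=
        Module.Flat.lTensor_preserves_injective_linearMap K.subtype Subtype.val_injective
      apply hinj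
      rw [map_zero]
      have e : K.subtype.lTensor B (φl.rTensor K Y) = φl.rTensor C (K.subtype.lTensor C Y) := by
        generalize Y = Z
        induction Z using TensorProduct.induction_on with
        | zero => simp only [map_zero]
        | tmul a b => rfl
        | add a b ha hb => rw [map_add, map_add, map_add, map_add, ha, hb]
      rw [e, h1, hmap, map_mul, ← hmap, hW, Algebra.TensorProduct.map_tmul, map_one]
      exact hw
    have h3 := rTensor_exact K (LinearMap.exact_subtype_ker_map φl) hφl
    obtain ⟨Y', hY'⟩ := (h3 Y).mp h2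
    have h4 : Algebra.TensorProduct.lmul' A W * x =
        Algebra.TensorProduct.lmul' A (K.subtype.lTensor C Y) := by
      rw [h1, map_mul, Algebra.TensorProduct.lmul'_apply_tmul, one_mul]
    rw [h4, ← hY']
    generalize Y' = Z
    induction Z using TensorProduct.induction_on with
    | zero => simp only [map_zero]; exact zero_mem _
    | tmul a b =>
      show (a : C) * (b : C) ∈ _
      rw [pow_two]
      exact Ideal.mul_mem_mul (RingHom.mem_ker.mpr (LinearMap.mem_ker.mp a.2))
        (RingHom.mem_ker.mpr (LinearMap.mem_ker.mp b.2))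
    | add a b ha hb => simp only [map_add]; exact add_mem ha hb

end Ext

section Shear

variable {A : Type u} [CommRing A] {C : Type u} [CommRing C] [HopfAlgebra A C]
  {B : Type u} [CommRing B] [Bialgebra A B]

/-- the point `pr₁ : H × G → H ⊆ G` -/
def ptA (φ : C →ₐ[A] B) : Pt A C (B ⊗[A] C) :=
  ⟨(Algebra.TensorProduct.includeLeft : B →ₐ[A] B ⊗[A] C).comp φ⟩

/-- the point `pr₂ : H × G → G` -/
def ptC : Pt A C (B ⊗[A] C) := ⟨Algebra.TensorProduct.includeRight⟩

theorem ker_le_sq [Module.Flat A B] (φ : C →ₐc[A] B) (hφ : Function.Surjective φ) (r : C)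
    (hr : ∀ x : C, φ x = 0 → r * x = 0) (hu : IsUnit (Coalgebra.counit (R := A) r : A))
    (x : C) (hx : φ x = 0) : x ∈ (RingHom.ker (φ : C →ₐ[A] B)) ^ 2 := by
  classical
  let φa : C →ₐ[A] B := (φ : C →ₐ[A] B)
  let φl : C →ₗ[A] B := φa.toLinearMap
  let K : Submodule A C := LinearMap.ker φl
  let a : Pt A C (B ⊗[A] C) := ptA φa
  let c : Pt A C (B ⊗[A] C) := ptC
  let G : C →ₐ[A] B ⊗[A] C := (a⁻¹ * c).hom
  let Ψi : B ⊗[A] C →ₐ[A] B ⊗[A] C := Algebra.TensorProduct.productMap
    (Algebra.TensorProduct.includeLeft : B →ₐ[A] B ⊗[A] C) G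
  let δ : B ⊗[A] C →ₐ[A] B := Algebra.TensorProduct.productMap (AlgHom.id A B) φa
  have hΨa : Pt.map Ψi a = a := by
    apply Pt.ext
    apply AlgHom.ext
    intro z
    show Ψi (φa z ⊗ₜ[A] (1 : C)) = φa z ⊗ₜ[A] (1 : C)
    rw [Algebra.TensorProduct.productMap_apply_tmul, map_one, mul_one]
    rfl
  have hΨc : Pt.map Ψi c = a⁻¹ * c := by
    apply Pt.ext
    apply AlgHom.ext
    intro z
    show Ψi ((1 : B) ⊗ₜ[A] z) = G z
    rw [Algebra.TensorProduct.productMap_apply_tmul, map_one, one_mul]
  have hK1 : ∀ z : C, Ψi ((a * c).hom z) = (1 : B) ⊗ₜ[A] z := by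
    intro z
    have : Pt.map Ψi (a * c) = c := by rw [map_mul, hΨa, hΨc, mul_inv_cancel_left]
    have h2 := congrArg (fun p => p.hom z) this
    exact h2
  have hρ : ∀ z : C, (a * c).hom z = φl.rTensor C (Coalgebra.comul (R := A) z) := by
    intro z
    have e : (a * c).hom z = LinearMap.mul' A (B ⊗[A] C)
        (TensorProduct.map a.hom.toLinearMap c.hom.toLinearMap (Coalgebra.comul (R := A) z)) := rfl
    rw [e]
    generalize Coalgebra.comul (R := A) z = Z
    induction Z using TensorProduct.induction_on with
    | zero => simp only [map_zero]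
    | tmul p q =>
      rw [TensorProduct.map_tmul, LinearMap.mul'_apply, LinearMap.rTensor_tmul]
      show (φa p ⊗ₜ[A] (1 : C)) * ((1 : B) ⊗ₜ[A] q) = φa p ⊗ₜ[A] q
      rw [Algebra.TensorProduct.tmul_mul_tmul, mul_one, one_mul]
    | add p q hp hq => simp only [map_add, hp, hq]
  have hK2 : ∀ z : C, φa z = 0 → ((1 : B) ⊗ₜ[A] r) * (a * c).hom z = 0 := by
    intro z hz
    have h1 : φl.lTensor B ((a * c).hom z) = 0 := by
      rw [hρ]
      have h := CoalgHomClass.map_comp_comul_apply φ z
      have e : ∀ Z : C ⊗[A] C, φl.lTensor B (φl.rTensor C Z) =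
          TensorProduct.map (φ : C →ₗ[A] B) (φ : C →ₗ[A] B) Z := by
        intro Z
        induction Z using TensorProduct.induction_on with
        | zero => simp only [map_zero]
        | tmul p q => rfl
        | add p q hp hq => simp only [map_add, hp, hq]
      rw [e]
      refine h.trans ?_
      have : φ z = 0 := hz
      rw [this, map_zero]
    have hex := lTensor_exact B (LinearMap.exact_subtype_ker_map φl)
      (hφ : Function.Surjective φl)
    obtain ⟨Z, hZ⟩ := (hex _).mp h1
    rw [← hZ]
    clear hZ
    induction Z using TensorProduct.induction_on with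
    | zero => rw [map_zero, mul_zero]
    | tmul p q =>
      rw [LinearMap.lTensor_tmul, Algebra.TensorProduct.tmul_mul_tmul, one_mul]
      have : r * (q : C) = 0 := hr q q.2
      show p ⊗ₜ[A] (r * (q : C)) = 0
      rw [this, tmul_zero]
    | add p q hp hq => rw [map_add, mul_add, hp, hq, add_zero]
  have hK3 : G r * ((1 : B) ⊗ₜ[A] x) = 0 := by
    have e1 : Ψi ((1 : B) ⊗ₜ[A] r) = G r := by
      rw [Algebra.TensorProduct.productMap_apply_tmul, map_one, one_mul]
    rw [← e1, ← hK1 x, ← map_mul, hK2 x hx, map_zero]
  have hK4 : δ (G r) = algebraMap A B (Coalgebra.counit (R := A) r) := by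
    have hδa : Pt.map δ a = ⟨φa⟩ := by
      apply Pt.ext
      apply AlgHom.ext
      intro z
      show δ (φa z ⊗ₜ[A] (1 : C)) = φa z
      rw [Algebra.TensorProduct.productMap_apply_tmul, map_one, mul_one]
      rfl
    have hδc : Pt.map δ c = ⟨φa⟩ := by
      apply Pt.ext
      apply AlgHom.ext
      intro z
      show δ ((1 : B) ⊗ₜ[A] z) = φa z
      rw [Algebra.TensorProduct.productMap_apply_tmul, map_one, one_mul]
    have h1 : Pt.map δ (a⁻¹ * c) = 1 := by rw [map_mul, map_inv, hδa, hδc, inv_mul_cancel]
    have h2 := congrArg (fun p => p.hom r) h1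
    exact h2
  obtain ⟨y, hy1, hy2⟩ := exists_mul_mem_sq φa hφ (G r) x hx hK3
  obtain ⟨v, hv⟩ := hu.exists_right_inv
  have hyu : φa (algebraMap A C (Coalgebra.counit (R := A) r) - y) = 0 := by
    rw [map_sub, AlgHom.commutes, hy1]
    exact sub_eq_zero.mpr hK4.symm
  have h5 : (algebraMap A C (Coalgebra.counit (R := A) r) - y) * x ∈ (RingHom.ker φa) ^ 2 := by
    rw [pow_two]
    exact Ideal.mul_mem_mul (RingHom.mem_ker.mpr hyu) (RingHom.mem_ker.mpr hx)
  have h6 : algebraMap A C (Coalgebra.counit (R := A) r) * x ∈ (RingHom.ker φa) ^ 2 := by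
    have : algebraMap A C (Coalgebra.counit (R := A) r) * x =
        (algebraMap A C (Coalgebra.counit (R := A) r) - y) * x + y * x := by ring
    rw [this]
    exact add_mem h5 hy2
  have h7 : x = algebraMap A C v * (algebraMap A C (Coalgebra.counit (R := A) r) * x) := by
    rw [← mul_assoc, ← map_mul, mul_comm v, hv, map_one, one_mul]
  rw [h7]
  exact Ideal.mul_mem_left _ _ h6

end Shear

end

end Groth.Agent.H9.LIF
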