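import Mathlib
import Groth.Prelude.Def_SGA3b
import Groth.Agent.Lib.Helper9.Misc.LIF17
import Groth.Agent.Lib.Helper9.Misc.LIF18
import Groth.Agent.Lib.Helper5.NilFP.A

/-!
# The formal trivialization: its kernel is generated by an idempotent (helper9)
-/

set_option autoImplicit false
set_option linter.unusedSectionVars false
set_option linter.unusedVariables false
set_option linter.style.haveILetI false

namespace Groth.Agent.H9.LIF

open TensorProduct

noncomputable section

universe u

section Core2

variable (A : Type u) [CommRing A] [IsNoetherianRing A] (I : Ideal A) [IsAdicComplete I A]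
  (Rb : Type u) [CommRing Rb] [Algebra A Rb] (hsurj : Function.Surjective (algebraMap A Rb))
  (hker : RingHom.ker (algebraMap A Rb) = I)
  (C : Type u) [CommRing C] [HopfAlgebra A C] [Module.Flat A C] (hft : Algebra.FiniteType A C)
  (M : Type u) [CommGroup M] (Ψb : (Rb ⊗[A] C) ≃ₐc[Rb] MonoidAlgebra Rb M)

include hsurj hker hft in
/-- the trivialization modulo `I` lifts to a surjective bialgebra map `C → A[M]` whose kernel is
generated by an idempotent lying in `I C` -/
theorem exists_core :
    ∃ (φ : C →ₐc[A] MonoidAlgebra A M) (e : C),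
      (∀ c : C, Ψb ((1 : Rb) ⊗ₜ[A] c) = MT.monAlgBC A Rb M ((1 : Rb) ⊗ₜ[A] φ c)) ∧
      Function.Surjective φ ∧ IsIdempotentElem e ∧ (∀ x : C, φ x = 0 ↔ x ∈ Ideal.span {e}) ∧
      e ∈ I.map (algebraMap A C) := by
  classical
  obtain ⟨φ, hφ1, hφ2⟩ := exists_formal_lift A I Rb hsurj hker C M Ψb
  let φa : C →ₐ[A] MonoidAlgebra A M := (φ : C →ₐ[A] MonoidAlgebra A M)
  let φl : C →ₗ[A] MonoidAlgebra A M := φa.toLinearMap
  let K : Ideal C := RingHom.ker φa
  haveI : IsNoetherianRing C := Algebra.FiniteType.isNoetherianRing A C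
  have hKfg : K.FG := IsNoetherian.noetherian K
  have h1 : K ≤ I.map (algebraMap A C) := by
    intro x hx
    have hx0 : φ x = 0 := RingHom.mem_ker.mp hx
    have h := hφ1 x
    rw [hx0, tmul_zero, map_zero] at h
    have h' : (1 : Rb) ⊗ₜ[A] x = 0 := by
      apply EquivLike.injective Ψb
      rw [h, map_zero]
    have := QI.mem_map_ker_of_one_tmul_eq_zero hsurj C x h'
    rwa [hker] at this
  have h2 : K ≤ I.map (algebraMap A C) • K := by
    intro x hx
    have hx0 : φa x = 0 := RingHom.mem_ker.mp hx
    have hmem : x ∈ LinearMap.ker φl ⊓ I • (⊤ : Submodule A C) := by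
      refine ⟨LinearMap.mem_ker.mpr hx0, ?_⟩
      have := h1 hx
      rw [Ideal.smul_top_eq_map]
      exact this
    have := Groth.Agent.Lib.Helper5.NilFP.ker_inf_smul_top_le φl hφ2 I hmem
    refine Submodule.smul_induction_on this (fun a ha k hk => ?_) (fun p q hp hq => add_mem hp hq)
    have e1 : a • k = algebraMap A C a * k := Algebra.smul_def a k
    rw [e1]
    have hk' : k ∈ K := RingHom.mem_ker.mpr (show φa k = 0 from LinearMap.mem_ker.mp hk)
    exact Submodule.smul_mem_smul (Ideal.mem_map_of_mem _ ha) hk'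
  obtain ⟨r, hr1, hr2⟩ := Submodule.exists_sub_one_mem_and_smul_eq_zero_of_fg_of_le_smul
    (I.map (algebraMap A C)) K hKfg h2
  have hu : IsUnit (Coalgebra.counit (R := A) r : A) := by
    have h3 : Coalgebra.counit (R := A) (r - 1) ∈ I := by
      have := map_mem_of_mem I (Coalgebra.counit (R := A) : C →ₗ[A] A) hr1
      rwa [Algebra.algebraMap_self, Ideal.map_id] at this
    have h4 := (Ideal.mem_jacobson_bot.mp (IsAdicComplete.le_jacobson_bot I h3)) 1
    rw [mul_one, map_sub, Bialgebra.counit_one, sub_add_cancel] at h4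
    exact h4
  have h5 : ∀ x : C, φ x = 0 → x ∈ K ^ 2 := fun x hx =>
    ker_le_sq φ hφ2 r (fun z hz => by
      have := hr2 z (RingHom.mem_ker.mpr hz)
      rwa [smul_eq_mul] at this) hu x hx
  have hidem : IsIdempotentElem K := by
    apply le_antisymm
    · exact Ideal.mul_le_right
    · intro x hx
      have := h5 x (RingHom.mem_ker.mp hx)
      rwa [pow_two] at this
  obtain ⟨e, he1, he2⟩ := (Ideal.isIdempotentElem_iff_of_fg K hKfg).mp hidem
  have he2' : Ideal.span {e} = K := he2.symm
  refine ⟨φ, e, hφ1, hφ2, he1, ?_, ?_⟩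
  · intro x
    rw [he2']
    exact RingHom.mem_ker.symm
  · apply h1
    rw [← he2']
    exact Ideal.subset_span rfl

end Core2

end

end Groth.Agent.H9.LIF
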