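import Mathlib
import Groth.Prelude.Def_SGA3b
import Groth.Agent.Lib.Helper9.Misc.LIF19
import Groth.Agent.Lib.Helper9.Misc.DES11
import Groth.Agent.Lib.Helper9.AdicComplete

/-!
# The splitting cover of the reduction lifts, and the formal trivialization over it (helper9)
-/

set_option autoImplicit false
set_option linter.unusedSectionVars false
set_option linter.unusedVariables false
set_option linter.style.haveILetI false

namespace Groth.Agent.H9.LIF

open TensorProduct

noncomputable section

universe u

section Cover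

variable (A : Type u) [CommRing A] [IsNoetherianRing A] (I : Ideal A) [IsAdicComplete I A]
  (C : Type u) [CommRing C] [HopfAlgebra A C]

/-- the splitting cover of the reduction modulo `I` lifts to a finite étale faithfully flat
cover of `A` -/
theorem exists_cover (h0 : SGA3b.IsIsotrivial (A ⧸ I) ((A ⧸ I) ⊗[A] C)) :
    ∃ (A' : Type u) (_ : CommRing A') (_ : Algebra A A'), Algebra.Etale A A' ∧ Module.Finite A A' ∧
      Module.FaithfullyFlat A A' ∧
      ∃ (Rb : Type u) (_ : CommRing Rb) (_ : Algebra A' Rb),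
        Function.Surjective (algebraMap A' Rb) ∧
        RingHom.ker (algebraMap A' Rb) = I.map (algebraMap A A') ∧
        ∃ (M : Type u) (_ : CommGroup M),
          Nonempty ((Rb ⊗[A'] (A' ⊗[A] C)) ≃ₐc[Rb] MonoidAlgebra Rb M) := by
  obtain ⟨R', _, _, het, hfin, hff, M, _, ⟨θ₀⟩⟩ := h0
  letI : Algebra A R' := Algebra.compHom R' (algebraMap A (A ⧸ I))
  haveI : IsScalarTower A (A ⧸ I) R' := IsScalarTower.of_algebraMap_eq (fun x => rfl)
  obtain ⟨S, _, _, hSfin, hSet, ⟨e⟩⟩ :=
    Groth.Agent.H8.PairHens.EtLift.exists_finite_etale_lift A I R'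
  let r : S →ₐ[A] R' :=
    (e.toAlgHom.restrictScalars A).comp (Algebra.TensorProduct.includeRight)
  haveI : Module.Flat A S := inferInstance
  haveI : Module.FaithfullyFlat (A ⧸ I) ((A ⧸ I) ⊗[A] S) :=
    Module.FaithfullyFlat.of_linearEquiv (A ⧸ I) R' e.toLinearEquiv
  haveI : Module.FaithfullyFlat A S :=
    DES.faithfullyFlat_of_quotient I S (IsAdicComplete.le_jacobson_bot I)
  letI : Algebra S R' := r.toRingHom.toAlgebra
  haveI : IsScalarTower A S R' := IsScalarTower.of_algebraMap_eq (fun x => (r.commutes x).symm)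
  refine ⟨S, inferInstance, inferInstance, hSet, hSfin, inferInstance, R', inferInstance,
    inferInstance, ?_, ?_, M, inferInstance, ⟨?_⟩⟩
  · intro y
    obtain ⟨w, hw⟩ := e.surjective y
    obtain ⟨s, hs⟩ := DES.exists_one_tmul_eq I S w
    refine ⟨s, ?_⟩
    show e ((1 : A ⧸ I) ⊗ₜ[A] s) = y
    rw [hs, hw]
  · ext s
    rw [RingHom.mem_ker]
    show e ((1 : A ⧸ I) ⊗ₜ[A] s) = 0 ↔ _
    constructor
    · intro h
      have : (1 : A ⧸ I) ⊗ₜ[A] s = 0 := e.injective (by rw [h, map_zero])
      exact DES.mem_map_of_one_tmul_eq_zero I S s this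
    · intro h
      have h' : s ∈ I • (⊤ : Submodule A S) := by
        rw [Ideal.smul_top_eq_map]
        exact h
      rw [one_tmul_eq_zero_of_mem I s h', map_zero]
  · exact (MT.cancelBC A S R' C).trans ((MT.cancelBC A (A ⧸ I) R' C).symm.trans θ₀)

variable [Module.Flat A C]

/-- over the lifted cover, the group contains the split group as an open and closed subgroup
which is everything modulo `I` -/
theorem exists_cover_core (hft : Algebra.FiniteType A C)
    (h0 : SGA3b.IsIsotrivial (A ⧸ I) ((A ⧸ I) ⊗[A] C)) :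
    ∃ (A' : Type u) (_ : CommRing A') (_ : Algebra A A'), Algebra.Etale A A' ∧ Module.Finite A A' ∧
      Module.FaithfullyFlat A A' ∧ IsNoetherianRing A' ∧
      IsAdicComplete (I.map (algebraMap A A')) A' ∧
      ∃ (M : Type u) (_ : CommGroup M) (φ : (A' ⊗[A] C) →ₐc[A'] MonoidAlgebra A' M)
        (e : A' ⊗[A] C),
        Function.Surjective φ ∧ IsIdempotentElem e ∧ (∀ x, φ x = 0 ↔ x ∈ Ideal.span {e}) ∧
        e ∈ (I.map (algebraMap A A')).map (algebraMap A' (A' ⊗[A] C)) := by
  obtain ⟨A', _, _, het, hfin, hff, Rb, _, _, hsurj, hker, M, _, ⟨Ψb⟩⟩ := exists_cover A I C h0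
  haveI : IsNoetherianRing A' := IsNoetherianRing.of_finite A A'
  haveI : Module.FinitePresentation A A' := Module.finitePresentation_of_finite A A'
  haveI : Module.Projective A A' := Module.Flat.projective_of_finitePresentation
  haveI : IsAdicComplete I A' := isAdicComplete_of_finite_projective I A'
  haveI hcomp : IsAdicComplete (I.map (algebraMap A A')) A' :=
    (IsAdicComplete.map_algebraMap_iff I A').mpr inferInstance
  have hft' : Algebra.FiniteType A' (A' ⊗[A] C) := inferInstance
  obtain ⟨φ, e, -, hφ, he1, he2, he3⟩ :=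
    exists_core A' (I.map (algebraMap A A')) Rb hsurj hker (A' ⊗[A] C) hft' M Ψb
  exact ⟨A', inferInstance, inferInstance, het, hfin, hff, inferInstance, hcomp, M, inferInstance,
    φ, e, hφ, he1, he2, he3⟩

end Cover

end

end Groth.Agent.H9.LIF
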