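import Mathlib

/-!
# An idempotent of `A' ⊗ C` vanishing on the unit section, when the fibres are connected (helper9)
-/

set_option autoImplicit false
set_option linter.unusedSectionVars false
set_option linter.unusedVariables false
set_option linter.style.haveILetI false

namespace Groth.Agent.H9.LIF

open TensorProduct

noncomputable section

universe u

section Topo

variable (A : Type u) [CommRing A] (A' : Type u) [CommRing A'] [Algebra A A']
  (C : Type u) [CommRing C] [Bialgebra A C]

/-- the ring map `C → A' ⊗ C` -/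
def iotaR : C →+* A' ⊗[A] C :=
  (Algebra.TensorProduct.includeRight : C →ₐ[A] A' ⊗[A] C).toRingHom

theorem iotaR_apply (c : C) : iotaR A A' C c = (1 : A') ⊗ₜ[A] c := rfl

theorem iotaR_eq : iotaR A A' C =
    ((Algebra.TensorProduct.comm A C A').toRingEquiv : C ⊗[A] A' →+* A' ⊗[A] C).comp
      (algebraMap C (C ⊗[A] A')) := by
  ext c
  rfl

theorem isOpenMap_comap_ringEquiv {R S : Type*} [CommRing R] [CommRing S] (e : R ≃+* S) :
    IsOpenMap (PrimeSpectrum.comap (e : R →+* S)) :=
  (PrimeSpectrum.homeomorphOfRingEquiv e).symm.isOpenMap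

theorem isClosedMap_comap_ringEquiv {R S : Type*} [CommRing R] [CommRing S] (e : R ≃+* S) :
    IsClosedMap (PrimeSpectrum.comap (e : R →+* S)) :=
  (PrimeSpectrum.homeomorphOfRingEquiv e).symm.isClosedMap

theorem isOpenMap_comap_iota [Module.Flat A A'] [Algebra.FinitePresentation A A'] :
    IsOpenMap (PrimeSpectrum.comap (iotaR A A' C)) := by
  rw [iotaR_eq, PrimeSpectrum.comap_comp]
  exact (PrimeSpectrum.isOpenMap_comap_of_hasGoingDown_of_finitePresentation).comp
    (isOpenMap_comap_ringEquiv _)

theorem isClosedMap_comap_iota [Module.Finite A A'] :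
    IsClosedMap (PrimeSpectrum.comap (iotaR A A' C)) := by
  rw [iotaR_eq, PrimeSpectrum.comap_comp]
  refine (PrimeSpectrum.isClosedMap_comap_of_isIntegral (algebraMap C (C ⊗[A] A')) ?_).comp
    (isClosedMap_comap_ringEquiv _)
  exact algebraMap_isIntegral_iff.mpr inferInstance

/-- a prime of `A' ⊗ C` lying over a point of the unit section contains the augmentation ideal -/
theorem mem_of_counit_eq_zero (q' : PrimeSpectrum (A' ⊗[A] C))
    (hq' : ∀ c : C, Coalgebra.counit (R := A) c = 0 → iotaR A A' C c ∈ q'.asIdeal)
    (x : A' ⊗[A] C) (hx : Coalgebra.counit (R := A') x = 0) : x ∈ q'.asIdeal := by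
  have hgen : ∀ x : A' ⊗[A] C,
      x - algebraMap A' (A' ⊗[A] C) (Coalgebra.counit (R := A') x) ∈ q'.asIdeal := by
    intro x
    induction x using TensorProduct.induction_on with
    | zero => simp
    | tmul a c =>
      have e1 : a ⊗ₜ[A] c - algebraMap A' (A' ⊗[A] C) (Coalgebra.counit (R := A') (a ⊗ₜ[A] c)) =
          (a ⊗ₜ[A] (1 : C)) *
            iotaR A A' C (c - algebraMap A C (Coalgebra.counit (R := A) c)) := by
        rw [TensorProduct.counit_tmul, CommSemiring.counit_apply, iotaR_apply,
          Algebra.TensorProduct.tmul_mul_tmul, mul_one, one_mul, tmul_sub,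
          Algebra.TensorProduct.algebraMap_apply, Algebra.algebraMap_self_apply,
          Algebra.algebraMap_eq_smul_one, tmul_smul, smul_tmul']
      rw [e1]
      refine Ideal.mul_mem_left _ _ (hq' _ ?_)
      rw [map_sub, Bialgebra.counit_algebraMap, sub_self]
    | add x y hx hy =>
      have e2 : x + y - algebraMap A' (A' ⊗[A] C) (Coalgebra.counit (R := A') (x + y)) =
          (x - algebraMap A' (A' ⊗[A] C) (Coalgebra.counit (R := A') x)) +
          (y - algebraMap A' (A' ⊗[A] C) (Coalgebra.counit (R := A') y)) := by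
        rw [map_add, map_add]
        ring
      rw [e2]
      exact add_mem hx hy
  have := hgen x
  rw [hx, map_zero, sub_zero] at this
  exact this

theorem eq_zero_of_connected [Module.Flat A A'] [Module.Finite A A']
    [Algebra.FinitePresentation A A']
    (hconn : ∀ (p : Ideal A) [p.IsPrime], ConnectedSpace (PrimeSpectrum (p.ResidueField ⊗[A] C)))
    (e : A' ⊗[A] C) (he : IsIdempotentElem e) (hε : Coalgebra.counit (R := A') e = 0) :
    e = 0 := by
  classical
  let π := PrimeSpectrum.comap (iotaR A A' C)
  let T : Set (PrimeSpectrum (A' ⊗[A] C)) := PrimeSpectrum.basicOpen e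
  have hT : IsClopen T := PrimeSpectrum.isClopen_iff.mpr ⟨e, he, rfl⟩
  let V : Set (PrimeSpectrum C) := π '' T
  have hV : IsClopen V :=
    ⟨isClosedMap_comap_iota A A' C _ hT.1, isOpenMap_comap_iota A A' C _ hT.2⟩
  have hVempty : V = ∅ := by
    apply Set.eq_empty_of_forall_notMem
    intro q hqV
    let p : PrimeSpectrum A := PrimeSpectrum.comap (algebraMap A C) q
    haveI := hconn p.asIdeal
    let j : PrimeSpectrum (p.asIdeal.ResidueField ⊗[A] C) → PrimeSpectrum C :=
      PrimeSpectrum.comap
        (Algebra.TensorProduct.includeRight : C →ₐ[A] p.asIdeal.ResidueField ⊗[A] C).toRingHom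
    have hj : Continuous j := PrimeSpectrum.continuous_comap _
    have hpre : IsClopen (j ⁻¹' V) := hV.preimage hj
    rcases isClopen_iff.mp hpre with h | h
    · let q0 := PrimeSpectrum.preimageEquivFiber A C p
        ⟨q, (rfl : PrimeSpectrum.comap (algebraMap A C) q = p)⟩
      have hq0 : j q0 = q := by
        have := (PrimeSpectrum.preimageEquivFiber A C p).symm_apply_apply
          ⟨q, (rfl : PrimeSpectrum.comap (algebraMap A C) q = p)⟩
        exact congrArg Subtype.val this
      have hmem : q0 ∈ j ⁻¹' V := by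
        show j q0 ∈ V
        rw [hq0]
        exact hqV
      rw [h] at hmem
      exact hmem
    · let εp : p.asIdeal.ResidueField ⊗[A] C →ₐ[A] p.asIdeal.ResidueField :=
        Algebra.TensorProduct.productMap (AlgHom.id A _)
          ((Algebra.ofId A p.asIdeal.ResidueField).comp (Bialgebra.counitAlgHom A C))
      let u : PrimeSpectrum (p.asIdeal.ResidueField ⊗[A] C) :=
        ⟨RingHom.ker εp.toRingHom, RingHom.ker_isPrime _⟩
      have hu : u ∈ j ⁻¹' V := by
        rw [h]
        trivial
      obtain ⟨q', hq'T, hq'⟩ := hu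
      have hq'e : e ∉ q'.asIdeal := (PrimeSpectrum.mem_basicOpen _ _).mp hq'T
      apply hq'e
      apply mem_of_counit_eq_zero A A' C q' _ e hε
      intro c hc
      have h1 : c ∈ (π q').asIdeal := by
        rw [hq']
        show εp ((1 : p.asIdeal.ResidueField) ⊗ₜ[A] c) = 0
        rw [Algebra.TensorProduct.productMap_apply_tmul, map_one, one_mul]
        show algebraMap A _ (Coalgebra.counit (R := A) c) = 0
        rw [hc, map_zero]
      exact h1
  have hTempty : T = ∅ := by
    apply Set.eq_empty_of_forall_notMem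
    intro q' hq'
    have : π q' ∈ V := ⟨q', hq', rfl⟩
    rw [hVempty] at this
    exact this
  have hnil : IsNilpotent e := by
    rw [← PrimeSpectrum.basicOpen_eq_bot_iff]
    exact TopologicalSpace.Opens.ext hTempty
  obtain ⟨n, hn⟩ := hnil
  rcases n with _ | n
  · rw [pow_zero] at hn
    rw [← mul_one e, hn, mul_zero]
  · rw [he.pow_succ_eq] at hn
    exact hn

end Topo

end

end Groth.Agent.H9.LIF
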