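import Mathlib
import Groth.Prelude.Def_SGA3b
import Groth.Agent.Lib.Helper9.Misc.LIF20
import Groth.Agent.Lib.Helper9.Misc.LIF21

/-!
# Flat groups with connected fibres and isotrivial reduction over a complete base (helper9)
-/

set_option autoImplicit false
set_option linter.unusedSectionVars false
set_option linter.unusedVariables false
set_option linter.style.haveILetI false

namespace Groth.Agent.H9.LIF

open TensorProduct

noncomputable section

universe u

theorem isIsotrivial_of_connected (A : Type u) [CommRing A] [IsNoetherianRing A] (I : Ideal A)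
    [IsAdicComplete I A] (C : Type u) [CommRing C] [HopfAlgebra A C] [Module.Flat A C]
    (hft : Algebra.FiniteType A C)
    (hconn : ∀ (p : Ideal A) [p.IsPrime], ConnectedSpace (PrimeSpectrum (p.ResidueField ⊗[A] C)))
    (h0 : SGA3b.IsIsotrivial (A ⧸ I) ((A ⧸ I) ⊗[A] C)) :
    SGA3b.IsIsotrivial A C := by
  obtain ⟨A', _, _, het, hfin, hff, hnoeth, hcomp, M, _, φ, e, hφ, he1, he2, he3⟩ :=
    exists_cover_core A I C hft h0
  haveI := het
  haveI := hfin
  haveI := hff
  haveI : Algebra.FinitePresentation A A' := het.finitePresentation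
  have hεe : Coalgebra.counit (R := A') e = 0 := by
    have h1 : φ e = 0 := (he2 e).mpr (Ideal.subset_span rfl)
    have h2 := CoalgHomClass.counit_comp_apply φ e
    rw [h1, map_zero] at h2
    exact h2.symm
  have he0 : e = 0 := eq_zero_of_connected A A' C hconn e he1 hεe
  have hinj : Function.Injective φ := by
    rw [injective_iff_map_eq_zero]
    intro x hx
    have := (he2 x).mp hx
    rw [he0, Ideal.span_singleton_eq_bot.mpr rfl] at this
    exact (Submodule.mem_bot _).mp this
  exact ⟨A', inferInstance, inferInstance, het, hfin, hff, M, inferInstance,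
    ⟨BialgEquiv.ofBijective φ ⟨hinj, hφ⟩⟩⟩

end

end Groth.Agent.H9.LIF
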