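import Mathlib
import Groth.Prelude.Def_SGA3b
import Groth.Agent.Lib.Helper9.Misc.LIF22
import Groth.Agent.Lib.Helper9.MultT.BCTriv
import Groth.Agent.Lib.Helper9.MultT.KerCore

/-!
# The type of a split group is determined over a nonzero ring; tori (helper9)
-/

set_option autoImplicit false
set_option linter.unusedSectionVars false
set_option linter.unusedVariables false
set_option linter.style.haveILetI false

namespace Groth.Agent.H9.LIF

open TensorProduct

noncomputable section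

universe u

section TypeUniq

variable {R : Type u} [CommRing R] {A : Type u} [CommRing A] [HopfAlgebra R A]

/-- two trivializations of the same group over algebras with nonzero tensor product have
isomorphic types -/
theorem nonempty_mulEquiv_of_nontrivial {T₁ T₂ : Type u} [CommRing T₁] [Algebra R T₁]
    [CommRing T₂] [Algebra R T₂] {M₁ M₂ : Type u} [CommGroup M₁] [CommGroup M₂]
    (e₁ : T₁ ⊗[R] A ≃ₐc[T₁] MonoidAlgebra T₁ M₁) (e₂ : T₂ ⊗[R] A ≃ₐc[T₂] MonoidAlgebra T₂ M₂)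
    [Nontrivial (T₁ ⊗[R] T₂)] : Nonempty (M₁ ≃* M₂) := by
  obtain ⟨𝔪, h𝔪⟩ := Ideal.exists_maximal (T₁ ⊗[R] T₂)
  letI : Field ((T₁ ⊗[R] T₂) ⧸ 𝔪) := Ideal.Quotient.field 𝔪
  letI a2 : Algebra T₂ ((T₁ ⊗[R] T₂) ⧸ 𝔪) :=
    ((Ideal.Quotient.mk 𝔪).comp
      (Algebra.TensorProduct.includeRight : T₂ →ₐ[R] T₁ ⊗[R] T₂).toRingHom).toAlgebra
  haveI t1 : IsScalarTower R T₁ ((T₁ ⊗[R] T₂) ⧸ 𝔪) := inferInstance
  haveI t2 : IsScalarTower R T₂ ((T₁ ⊗[R] T₂) ⧸ 𝔪) :=
    IsScalarTower.of_algebraMap_eq fun k => by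
      show Ideal.Quotient.mk 𝔪 (algebraMap R (T₁ ⊗[R] T₂) k) =
        Ideal.Quotient.mk 𝔪 ((1 : T₁) ⊗ₜ[R] algebraMap R T₂ k)
      congr 1
      rw [Algebra.TensorProduct.algebraMap_apply, Algebra.algebraMap_eq_smul_one,
        Algebra.algebraMap_eq_smul_one, TensorProduct.smul_tmul]
  let E₁ := MultT.bcTriv ((T₁ ⊗[R] T₂) ⧸ 𝔪) e₁
  let E₂ := MultT.bcTriv ((T₁ ⊗[R] T₂) ⧸ 𝔪) e₂
  exact ⟨MultT.mulEquivOfBialgEquiv (E₁.symm.trans E₂)⟩

/-- tori of constant rank are stable under base change -/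
theorem isTorusConst_baseChange (S : Type u) [CommRing S] [Algebra R S]
    (h : SGA3b.IsTorusConst R A) : SGA3b.IsTorusConst S (S ⊗[R] A) := by
  obtain ⟨R', _, _, hff, n, ⟨e⟩⟩ := h
  letI : Algebra R' (S ⊗[R] R') := Algebra.TensorProduct.rightAlgebra
  refine ⟨S ⊗[R] R', inferInstance, inferInstance, inferInstance, n, ⟨?_⟩⟩
  exact (MT.cancelBC R S (S ⊗[R] R') A).trans ((MT.cancelBC R R' (S ⊗[R] R') A).symm.trans
    ((MT.bcEquiv (S ⊗[R] R') e).trans (MT.monAlgBC R' (S ⊗[R] R') _)))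

theorem isTorus_of_isTorusConst (h : SGA3b.IsTorusConst R A) : SGA3b.IsTorus R A :=
  ⟨{1}, Ideal.span_singleton_one, fun f _ => isTorusConst_baseChange (Localization.Away f) h⟩

theorem isTorusConst_of_subsingleton [Subsingleton R] : SGA3b.IsTorusConst R A := by
  refine ⟨R, inferInstance, inferInstance, inferInstance, 0, ⟨?_⟩⟩
  haveI : Subsingleton (R ⊗[R] A) := Module.subsingleton R _
  haveI : Subsingleton (MonoidAlgebra R (Multiplicative (Fin 0 → ℤ))) := Module.subsingleton R _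
  exact BialgEquiv.ofBijective
    ((Bialgebra.unitBialgHom R (MonoidAlgebra R (Multiplicative (Fin 0 → ℤ)))).comp
      (Bialgebra.counitBialgHom R (R ⊗[R] A)))
    ⟨Function.injective_of_subsingleton _, fun y => ⟨0, Subsingleton.elim _ _⟩⟩

end TypeUniq

section Torus

/-- an isotrivial group over a ring `A` whose reduction modulo an ideal in the Jacobson radical
is a torus, is a torus -/
theorem isTorus_of_isIsotrivial (A : Type u) [CommRing A] (I : Ideal A)
    (hI : I ≤ Ideal.jacobson ⊥) (C : Type u) [CommRing C] [HopfAlgebra A C]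
    (h : SGA3b.IsIsotrivial A C) (ht : SGA3b.IsTorus (A ⧸ I) ((A ⧸ I) ⊗[A] C)) :
    SGA3b.IsTorus A C := by
  rcases subsingleton_or_nontrivial A with hA | hA
  · exact isTorus_of_isTorusConst isTorusConst_of_subsingleton
  obtain ⟨A', _, _, het, hfin, hff, M, _, ⟨Θ⟩⟩ := h
  obtain ⟨s, hs, hs'⟩ := ht
  have hItop : I ≠ ⊤ := by
    intro h
    rw [h] at hI
    exact bot_ne_top (Ideal.jacobson_eq_top_iff.mp (top_le_iff.mp hI))
  haveI : Nontrivial (A ⧸ I) := Ideal.Quotient.nontrivial_iff.mpr hItop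
  obtain ⟨𝔪, h𝔪⟩ := Ideal.exists_maximal (A ⧸ I)
  have hex : ∃ f ∈ s, f ∉ 𝔪 := by
    by_contra hcon
    push Not at hcon
    have h1 : Ideal.span s ≤ 𝔪 := Ideal.span_le.mpr hcon
    rw [hs] at h1
    exact h𝔪.ne_top (top_le_iff.mp h1)
  obtain ⟨f, hfs, hf𝔪⟩ := hex
  obtain ⟨R', _, _, hffR', n, ⟨τ⟩⟩ := hs' f hfs
  haveI : Nontrivial (Localization.Away f) := by
    letI := Ideal.Quotient.field 𝔪
    have hu : IsUnit (Ideal.Quotient.mk 𝔪 f) := by
      rw [isUnit_iff_ne_zero]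
      intro h0
      exact hf𝔪 (Ideal.Quotient.eq_zero_iff_mem.mp h0)
    exact (IsLocalization.Away.lift (S := Localization.Away f) f hu).domain_nontrivial
  haveI : Nontrivial R' := by
    haveI : Nontrivial (R' ⊗[Localization.Away f] Localization.Away f) :=
      Module.FaithfullyFlat.lTensor_nontrivial _ _ _
    exact (TensorProduct.rid (Localization.Away f) R').symm.toEquiv.nontrivial
  letI : Algebra (A ⧸ I) R' := Algebra.compHom R' (algebraMap (A ⧸ I) (Localization.Away f))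
  haveI : IsScalarTower (A ⧸ I) (Localization.Away f) R' :=
    IsScalarTower.of_algebraMap_eq (fun x => rfl)
  letI : Algebra A R' := Algebra.compHom R' (algebraMap A (A ⧸ I))
  haveI : IsScalarTower A (A ⧸ I) R' := IsScalarTower.of_algebraMap_eq (fun x => rfl)
  let e₂ : R' ⊗[A] C ≃ₐc[R'] MonoidAlgebra R' (Multiplicative (Fin n → ℤ)) :=
    (MT.cancelBC A (A ⧸ I) R' C).symm.trans
      ((MT.cancelBC (A ⧸ I) (Localization.Away f) R' ((A ⧸ I) ⊗[A] C)).symm.trans τ)
  haveI : Nontrivial (A' ⊗[A] R') := Module.FaithfullyFlat.lTensor_nontrivial A A' R'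
  let e₂' : R' ⊗[A] C ≃ₐc[R'] MonoidAlgebra R' (ULift.{u} (Multiplicative (Fin n → ℤ))) :=
    e₂.trans (MonoidAlgebra.domCongrBialgEquiv R' R'
      (MulEquiv.ulift : ULift.{u} (Multiplicative (Fin n → ℤ)) ≃* _).symm)
  obtain ⟨μ⟩ := nonempty_mulEquiv_of_nontrivial Θ e₂'
  exact isTorus_of_isTorusConst ⟨A', inferInstance, inferInstance, hff, n,
    ⟨Θ.trans (MonoidAlgebra.domCongrBialgEquiv A' A' (μ.trans MulEquiv.ulift))⟩⟩

end Torus

end

end Groth.Agent.H9.LIF
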