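import Mathlib
import Groth.Prelude.Def_SGA3b
import Groth.Agent.Lib.Helper9.Misc.LIF20
import Groth.Agent.Lib.Helper9.Misc.LIF24

/-!
# Groups of multiplicative type with isotrivial reduction over a complete base (helper9)
-/

set_option autoImplicit false
set_option linter.unusedSectionVars false
set_option linter.unusedVariables false
set_option linter.style.haveILetI false

namespace Groth.Agent.H9.LIF

open TensorProduct SGA3b

noncomputable section

universe u

/-- the common final step: an idempotent generating the kernel which lies in all torsion ideals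
modulo which the quotient is finite -/
theorem mem_torsionIdeal_of_finite {A' : Type u} [CommRing A'] (I' : Ideal A')
    (hI' : I' ≤ Ideal.jacobson ⊥) {C' : Type u} [CommRing C'] [HopfAlgebra A' C'] (n : ℕ)
    (hfin : Module.Finite A' (C' ⧸ torsionIdeal A' C' n)) (e : C') (he : IsIdempotentElem e)
    (hmem : e ∈ I'.map (algebraMap A' C')) : e ∈ torsionIdeal A' C' n := by
  have h1 : IsIdempotentElem (Ideal.Quotient.mk (torsionIdeal A' C' n) e) := he.map _
  have h2 : Ideal.Quotient.mk (torsionIdeal A' C' n) e ∈
      Ideal.map (algebraMap A' (C' ⧸ torsionIdeal A' C' n)) I' := by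
    have h3 := Ideal.mem_map_of_mem (Ideal.Quotient.mk (torsionIdeal A' C' n)) hmem
    rw [Ideal.map_map] at h3
    exact h3
  exact Ideal.Quotient.eq_zero_iff_mem.mp
    (idem_eq_zero_of_finite_of_le_jacobson I' hI' h1 h2)

theorem isIsotrivial_of_isMultType (A : Type u) [CommRing A] [IsNoetherianRing A] (I : Ideal A)
    [IsAdicComplete I A] (C : Type u) [CommRing C] [HopfAlgebra A C]
    (hft : Algebra.FiniteType A C) (h : IsMultType A C)
    (h0 : IsIsotrivial (A ⧸ I) ((A ⧸ I) ⊗[A] C)) : IsIsotrivial A C := by
  haveI : Module.Flat A C := flat_of_isMultType h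
  obtain ⟨A', _, _, het, hfin, hff, hnoeth, hcomp, M, _, φ, e, hφ, he1, he2, he3⟩ :=
    exists_cover_core A I C hft h0
  have hmem : ∀ n : ℕ, 0 < n → e ∈ torsionIdeal A' (A' ⊗[A] C) n := by
    intro n hn
    have hf := finite_quot_torsionIdeal_baseChange A' n
      (finite_quot_torsionIdeal_of_isMultType hft h n hn)
    exact mem_torsionIdeal_of_finite (I.map (algebraMap A A')) (IsAdicComplete.le_jacobson_bot _)
      n hf e he1 he3
  have hnil : IsNilpotent e := CSG.isNilpotent_of_fibres e fun L _ _ =>
    one_tmul_eq_zero_of_forall_mem_torsionIdeal hft h A' L e hmem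
  have he0 : e = 0 := by
    obtain ⟨n, hn⟩ := hnil
    rcases n with _ | n
    · rw [pow_zero] at hn
      rw [← mul_one e, hn, mul_zero]
    · rw [he1.pow_succ_eq] at hn
      exact hn
  have hinj : Function.Injective φ := by
    rw [injective_iff_map_eq_zero]
    intro x hx
    have := (he2 x).mp hx
    rw [he0, Ideal.span_singleton_eq_bot.mpr rfl] at this
    exact (Submodule.mem_bot _).mp this
  exact ⟨A', inferInstance, inferInstance, het, hfin, hff, M, inferInstance,
    ⟨BialgEquiv.ofBijective φ ⟨hinj, hφ⟩⟩⟩

end

end Groth.Agent.H9.LIF
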