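import Mathlib
import Groth.Prelude.Def_SGA3b
import Groth.Agent.Lib.Helper9.Misc.LIF1
import Groth.Agent.Lib.Helper9.MultT.Pow

/-!
# More on the group of points of an affine group scheme: pullback, powers, translations (helper9)
-/

set_option autoImplicit false
set_option linter.unusedSectionVars false
set_option linter.unusedVariables false
set_option linter.style.haveILetI false

namespace Groth.Agent.H9.LIF

open TensorProduct WithConv

noncomputable section

universe u

section PtMore

variable {R : Type u} [CommRing R] {C : Type u} [CommRing C] [HopfAlgebra R C]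
  {C' : Type u} [CommRing C'] [HopfAlgebra R C'] {T : Type u} [CommRing T] [Algebra R T]

namespace Pt

theorem mul_hom (g g' : Pt R C T) : (g * g').hom = (toConv g.hom * toConv g'.hom).ofConv := rfl

theorem pow_hom (g : Pt R C T) (n : ℕ) : (g ^ n).hom = ((toConv g.hom) ^ n).ofConv := by
  induction n with
  | zero =>
    rw [pow_zero, pow_zero]
    rfl
  | succ n ih => rw [pow_succ, pow_succ, mul_hom, ih, WithConv.toConv_ofConv]

/-- pullback of points along a bialgebra map -/
def comap (φ : C →ₐc[R] C') : Pt R C' T →* Pt R C T where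
  toFun g := ⟨g.hom.comp (φ : C →ₐ[R] C')⟩
  map_one' := by
    apply Pt.ext
    apply AlgHom.ext
    intro c
    show algebraMap R T (Coalgebra.counit (R := R) (φ c)) =
      algebraMap R T (Coalgebra.counit (R := R) c)
    rw [CoalgHomClass.counit_comp_apply]
  map_mul' g g' := by
    apply Pt.ext
    show ((g * g').hom).comp (φ : C →ₐ[R] C') = _
    rw [mul_hom, AlgHom.convMul_comp_bialgHom_distrib]
    rfl

theorem comap_hom_apply (φ : C →ₐc[R] C') (g : Pt R C' T) (c : C) :
    (comap φ g).hom c = g.hom (φ c) := rfl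

theorem mul_comm' [Coalgebra.IsCocomm R C] (g g' : Pt R C T) : g * g' = g' * g := by
  apply lin_injective
  rw [lin_mul, lin_mul, mul_comm]

/-- the `n`-th power of a point is its composite with the `n`-th power endomorphism -/
theorem pow_hom_eq_comp_powConv (g : Pt R C T) (n : ℕ) :
    (g ^ n).hom = g.hom.comp (SGA3b.powConv R C n) := by
  rw [pow_hom]
  unfold SGA3b.powConv
  rw [VF.comp_convPow]
  rfl

/-- translation by a point -/
def trans (g : Pt R C T) : C →ₐ[R] T ⊗[R] C :=
  (Algebra.TensorProduct.map g.hom (AlgHom.id R C)).comp (Bialgebra.comulAlgHom R C)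

/-- evaluation at a point, extended to `T ⊗ C` -/
def evalK (x : Pt R C T) : T ⊗[R] C →ₐ[R] T :=
  Algebra.TensorProduct.productMap (AlgHom.id R T) x.hom

theorem evalK_trans (g x : Pt R C T) (c : C) : evalK x (trans g c) = (g * x).hom c := by
  have e : (g * x).hom c = Algebra.TensorProduct.lift g.hom x.hom (fun _ _ => .all _ _)
      (Coalgebra.comul (R := R) c) := AlgHom.convMul_apply (toConv g.hom) (toConv x.hom) c
  rw [e]
  show evalK x (Algebra.TensorProduct.map g.hom (AlgHom.id R C) (Coalgebra.comul (R := R) c)) = _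
  generalize Coalgebra.comul (R := R) c = Z
  induction Z using TensorProduct.induction_on with
  | zero => simp only [map_zero]
  | tmul p q => rfl
  | add p q hp hq => simp only [map_add, hp, hq]

/-- a point killing the kernel of a surjective bialgebra map factors through it -/
theorem exists_comap_eq (φ : C →ₐc[R] C') (hφ : Function.Surjective φ) (g : Pt R C T)
    (hg : ∀ x : C, φ x = 0 → g.hom x = 0) : ∃ g' : Pt R C' T, comap φ g' = g := by
  let φa : C →ₐ[R] C' := (φ : C →ₐ[R] C')
  have hφa : Function.Surjective φa := hφ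
  have hker : ∀ a ∈ RingHom.ker φa, g.hom a = 0 := fun a ha => hg a (RingHom.mem_ker.mp ha)
  let l : (C ⧸ RingHom.ker φa) →ₐ[R] T := Ideal.Quotient.liftₐ (RingHom.ker φa) g.hom hker
  let E : (C ⧸ RingHom.ker φa) ≃ₐ[R] C' := Ideal.quotientKerAlgEquivOfSurjective hφa
  refine ⟨⟨l.comp (E.symm : C' →ₐ[R] (C ⧸ RingHom.ker φa))⟩, ?_⟩
  apply Pt.ext
  apply AlgHom.ext
  intro b
  show l (E.symm (φa b)) = g.hom b
  have h1 : E.symm (φa b) = Ideal.Quotient.mk _ b := by
    rw [AlgEquiv.symm_apply_eq]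
    rfl
  rw [h1]
  rfl

end Pt

/-- (i): some positive power of a point lies in the open subgroup -/
theorem false_of_forall_pow_hom {B : Type u} [CommRing B] [HopfAlgebra R B] (K : Type u)
    [Field K] [Algebra R K] [IsNoetherianRing (K ⊗[R] B)] (e : B)
    (hε : Coalgebra.counit (R := R) e = 0) (h : Pt R B K)
    (hcon : ∀ m : ℕ, 0 < m → (h ^ m).hom e = 1) : False := by
  let f : B := 1 - e
  let 𝔟 : ℕ →o Ideal (K ⊗[R] B) :=
    ⟨fun j => Ideal.span {y | ∃ i ≤ j, y = Pt.trans ((h ^ i)⁻¹) f}, by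
      intro j j' hjj'
      apply Ideal.span_mono
      rintro y ⟨i, hi, rfl⟩
      exact ⟨i, hi.trans hjj', rfl⟩⟩
  obtain ⟨j, hj⟩ := monotone_stabilizes_iff_noetherian.mpr
    (inferInstance : IsNoetherian (K ⊗[R] B) (K ⊗[R] B)) 𝔟
  have h1 : Pt.trans ((h ^ (j + 1))⁻¹) f ∈ 𝔟 j := by
    rw [hj (j + 1) (Nat.le_succ j)]
    exact Ideal.subset_span ⟨j + 1, le_rfl, rfl⟩
  have h2 : 𝔟 j ≤ RingHom.ker (Pt.evalK (h ^ (j + 1))).toRingHom := by
    show Ideal.span _ ≤ _
    rw [Ideal.span_le]
    rintro y ⟨i, hi, rfl⟩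
    show Pt.evalK (h ^ (j + 1)) (Pt.trans ((h ^ i)⁻¹) f) = 0
    rw [Pt.evalK_trans]
    have h3 : (h ^ i)⁻¹ * h ^ (j + 1) = h ^ (j + 1 - i) := by
      rw [inv_mul_eq_iff_eq_mul, ← pow_add]
      congr 1
      omega
    rw [h3]
    show (h ^ (j + 1 - i)).hom (1 - e) = 0
    rw [map_sub, map_one, hcon _ (by omega), sub_self]
  have h3 := h2 h1
  have h4 : Pt.evalK (h ^ (j + 1)) (Pt.trans ((h ^ (j + 1))⁻¹) f) = 1 := by
    rw [Pt.evalK_trans, inv_mul_cancel, Pt.one_hom_apply]
    show algebraMap R K (Coalgebra.counit (R := R) (1 - e)) = 1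
    rw [map_sub, Bialgebra.counit_one, hε, sub_zero, map_one]
  have h5 : Pt.evalK (h ^ (j + 1)) (Pt.trans ((h ^ (j + 1))⁻¹) f) = 0 := h3
  exact one_ne_zero (h4.symm.trans h5)

/-- (iii): a torsion point kills the corresponding torsion ideal -/
theorem hom_eq_zero_of_pow_eq_one {B : Type u} [CommRing B] [HopfAlgebra R B]
    (g : Pt R B T) (n : ℕ) (hn : g ^ n = 1) (e : B) (he : e ∈ SGA3b.torsionIdeal R B n) :
    g.hom e = 0 := by
  have h1 : SGA3b.torsionIdeal R B n ≤ RingHom.ker g.hom.toRingHom := by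
    rw [SGA3b.torsionIdeal, Ideal.map_le_iff_le_comap]
    intro y hy
    rw [RingHom.mem_ker, Bialgebra.counitAlgHom_apply] at hy
    rw [Ideal.mem_comap, RingHom.mem_ker]
    show g.hom (SGA3b.powConv R B n y) = 0
    have h2 : (g ^ n).hom y = g.hom (SGA3b.powConv R B n y) := by
      rw [Pt.pow_hom_eq_comp_powConv]
      rfl
    rw [← h2, hn, Pt.one_hom_apply, hy, map_zero]
  exact h1 he

end PtMore

end

end Groth.Agent.H9.LIF
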