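import Mathlib

/-!
# Characters of a finitely generated abelian group with values in an algebraically closed field
are divisible up to torsion (helper9)
-/

set_option autoImplicit false
set_option linter.unusedSectionVars false
set_option linter.unusedVariables false
set_option linter.style.haveILetI false

namespace Groth.Agent.H9.LIF

noncomputable section

/-- the torsion of a finitely generated abelian group has finite exponent -/
theorem exists_torsion_exponent (M : Type*) [CommGroup M] [Group.FG M] :
    ∃ t : ℕ, 0 < t ∧ ∀ (x : M) (k : ℕ), 0 < k → x ^ k = 1 → x ^ t = 1 := by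
  haveI : AddGroup.FG (Additive M) := GroupFG.iff_add_fg.mp inferInstance
  haveI : Module.Finite ℤ (Additive M) := Module.Finite.iff_addGroup_fg.mpr inferInstance
  haveI : IsNoetherian ℤ (Additive M) := inferInstance
  let S : ℕ →o Submodule ℤ (Additive M) :=
    ⟨fun j => LinearMap.ker (LinearMap.lsmul ℤ (Additive M) ((j.factorial : ℕ) : ℤ)), by
      intro j j' hjj' x hx
      rw [LinearMap.mem_ker, LinearMap.lsmul_apply] at hx ⊢
      obtain ⟨q, hq⟩ := Nat.factorial_dvd_factorial hjj'
      rw [hq, Nat.cast_mul, mul_comm, mul_smul, hx, smul_zero]⟩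
  obtain ⟨j₀, hj₀⟩ := monotone_stabilizes_iff_noetherian.mpr
    (inferInstance : IsNoetherian ℤ (Additive M)) S
  refine ⟨j₀.factorial, Nat.factorial_pos _, fun x k hk hx => ?_⟩
  have h1 : Additive.ofMul x ∈ S (max k j₀) := by
    show _ ∈ LinearMap.ker _
    rw [LinearMap.mem_ker, LinearMap.lsmul_apply]
    obtain ⟨q, hq⟩ : k ∣ (max k j₀).factorial := Nat.dvd_factorial hk (le_max_left _ _)
    rw [hq, Nat.cast_mul, mul_comm, mul_smul, natCast_zsmul, natCast_zsmul, ← ofMul_pow, hx,
      ofMul_one, smul_zero]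
  rw [← hj₀ (max k j₀) (le_max_right _ _)] at h1
  have h2 : ((j₀.factorial : ℕ) : ℤ) • Additive.ofMul x = 0 := h1
  rw [natCast_zsmul, ← ofMul_pow] at h2
  exact Additive.ofMul.injective h2

/-- the units of an algebraically closed field form a divisible group -/
@[instance_reducible]
def divisibleByUnits (K : Type*) [Field K] [IsAlgClosed K] : DivisibleBy (Additive Kˣ) ℤ := by
  haveI : DivisibleBy (Additive Kˣ) ℕ := by
    refine divisibleByOfSMulRightSurj (Additive Kˣ) ℕ ?_
    intro n hn a
    have hn' : 0 < n := Nat.pos_of_ne_zero hn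
    obtain ⟨z, hz⟩ := IsAlgClosed.exists_pow_nat_eq ((Additive.toMul a : Kˣ) : K) hn'
    have hz0 : z ≠ 0 := by
      intro h0
      rw [h0, zero_pow hn] at hz
      exact (Additive.toMul a : Kˣ).ne_zero hz.symm
    refine ⟨Additive.ofMul (Units.mk0 z hz0), ?_⟩
    show n • Additive.ofMul (Units.mk0 z hz0) = a
    rw [← ofMul_pow]
    have : (Units.mk0 z hz0) ^ n = Additive.toMul a := by
      apply Units.ext
      rw [Units.val_pow_eq_pow_val, Units.val_mk0, hz]
    rw [this]
    rfl
  exact AddGroup.divisibleByIntOfDivisibleByNat (Additive Kˣ)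

/-- a character with values in an algebraically closed field is, up to torsion, divisible -/
theorem exists_root_hom {K : Type*} [Field K] [IsAlgClosed K] {M : Type*} [CommGroup M]
    [Group.FG M] (δ : M →* K) (m : ℕ) (hm : 0 < m) :
    ∃ (N : ℕ) (d : M →* K), 0 < N ∧ ∀ x, d x ^ (m * N) = δ x ^ N := by
  obtain ⟨t, ht, htors⟩ := exists_torsion_exponent M
  let δu : M →* Kˣ := δ.toHomUnits
  let ψ : M →* Kˣ := (powMonoidHom t).comp δu
  let pn : M →* M := powMonoidHom (m * t)
  have hker : pn.ker ≤ ψ.ker := by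
    intro x hx
    rw [MonoidHom.mem_ker] at hx ⊢
    have hx' : x ^ (m * t) = 1 := hx
    have hxt : x ^ t = 1 := htors x (m * t) (Nat.mul_pos hm ht) hx'
    show (δu x) ^ t = 1
    rw [← map_pow, hxt, map_one]
  let f : M ⧸ pn.ker →* M := QuotientGroup.kerLift pn
  have hf : Function.Injective f := QuotientGroup.kerLift_injective pn
  let g : M ⧸ pn.ker →* Kˣ := QuotientGroup.lift pn.ker ψ hker
  haveI := divisibleByUnits K
  obtain ⟨hext, hhext⟩ := (Module.Baer.of_divisible (Additive Kˣ)).extension_property_addMonoidHom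
    (MonoidHom.toAdditive f) hf (MonoidHom.toAdditive g)
  let d' : M →* Kˣ := MonoidHom.toAdditive.symm hext
  have hd' : ∀ x : M, d' (x ^ (m * t)) = (δu x) ^ t := by
    intro x
    have h1 := DFunLike.congr_fun hhext (Additive.ofMul (QuotientGroup.mk x : M ⧸ pn.ker))
    have h2 : hext (Additive.ofMul (f (QuotientGroup.mk x))) =
        Additive.ofMul (g (QuotientGroup.mk x)) := h1
    have h3 : f (QuotientGroup.mk x) = x ^ (m * t) := QuotientGroup.kerLift_mk pn x
    have h4 : g (QuotientGroup.mk x) = (δu x) ^ t := QuotientGroup.lift_mk' _ hker x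
    rw [h3, h4] at h2
    show Additive.toMul (hext (Additive.ofMul (x ^ (m * t)))) = _
    rw [h2]
    rfl
  refine ⟨t, (Units.coeHom K).comp d', ht, fun x => ?_⟩
  show ((d' x : Kˣ) : K) ^ (m * t) = δ x ^ t
  rw [← Units.val_pow_eq_pow_val, ← map_pow, hd', Units.val_pow_eq_pow_val]
  rfl

end

end Groth.Agent.H9.LIF
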