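import Mathlib
import Groth.Prelude.Def_SGA3b
import Groth.Agent.Lib.Helper9.Misc.LIF20
import Groth.Agent.Lib.Helper9.Misc.LIF25
import Groth.Agent.Lib.Helper9.Misc.LIF26
import Groth.Agent.Lib.Helper9.Misc.LIF27

/-!
# Commutative flat groups with finite torsion and isotrivial reduction over a complete base
(helper9)
-/

set_option autoImplicit false
set_option linter.unusedSectionVars false
set_option linter.unusedVariables false
set_option linter.style.haveILetI false

namespace Groth.Agent.H9.LIF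

open TensorProduct SGA3b WithConv

noncomputable section

universe u

section GroupLike

variable {R : Type u} [CommRing R] {C : Type u} [CommRing C] [HopfAlgebra R C]
  {T : Type u} [CommRing T] [Algebra R T]

theorem Pt.mul_hom_groupLike (g g' : Pt R C T) {a : C} (ha : IsGroupLikeElem R a) :
    (g * g').hom a = g.hom a * g'.hom a := by
  have e : (g * g').hom a = Algebra.TensorProduct.lift g.hom g'.hom (fun _ _ => .all _ _)
      (Coalgebra.comul (R := R) a) := AlgHom.convMul_apply (toConv g.hom) (toConv g'.hom) a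
  rw [e, ha.comul_eq_tmul_self, Algebra.TensorProduct.lift_tmul]

theorem Pt.pow_hom_groupLike (g : Pt R C T) {a : C} (ha : IsGroupLikeElem R a) (n : ℕ) :
    (g ^ n).hom a = g.hom a ^ n := by
  induction n with
  | zero => rw [pow_zero, pow_zero, Pt.one_hom_apply, ha.counit_eq_one, map_one]
  | succ n ih => rw [pow_succ, pow_succ, Pt.mul_hom_groupLike _ _ ha, ih]

end GroupLike

section Ending

variable {R : Type u} [CommRing R] {B : Type u} [CommRing B] [HopfAlgebra R B]
  [Coalgebra.IsCocomm R B]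

theorem eq_one_of_isIdempotentElem_of_ne_zero {K : Type*} [Field K] {x : K}
    (h : IsIdempotentElem x) (h0 : x ≠ 0) : x = 1 := by
  have h4 : x * x = x := h
  exact mul_left_cancel₀ h0 (by rw [h4, mul_one])

/-- a commutative group of finite type containing a split group as an open subgroup which
contains all the torsion subgroups is equal to it -/
theorem eq_zero_of_forall_mem_torsionIdeal_of_cocomm (hft : Algebra.FiniteType R B)
    {M : Type u} [CommGroup M] (φ : B →ₐc[R] MonoidAlgebra R M) (hφ : Function.Surjective φ)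
    (e : B) (he : IsIdempotentElem e) (hker : ∀ x, φ x = 0 ↔ x ∈ Ideal.span {e})
    (hmem : ∀ n : ℕ, 0 < n → e ∈ torsionIdeal R B n) : e = 0 := by
  by_contra hne
  have hnn : ¬ IsNilpotent e := by
    rintro ⟨n, hn⟩
    rcases n with _ | n
    · rw [pow_zero] at hn
      exact hne (by rw [← mul_one e, hn, mul_zero])
    · rw [he.pow_succ_eq] at hn
      exact hne hn
  rw [nilpotent_iff_mem_prime] at hnn
  push Not at hnn
  obtain ⟨𝔮, h𝔮, he𝔮⟩ := hnn
  haveI : 𝔮.IsPrime := h𝔮
  let h₀ : B →ₐ[R] AlgebraicClosure 𝔮.ResidueField :=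
    (IsScalarTower.toAlgHom R 𝔮.ResidueField (AlgebraicClosure 𝔮.ResidueField)).comp
      (IsScalarTower.toAlgHom R B 𝔮.ResidueField)
  have hh₀ : h₀ e = 1 := by
    have h1 : IsIdempotentElem (h₀ e) := he.map h₀
    have h2 : h₀ e ≠ 0 := by
      intro h0
      have h3 : algebraMap B 𝔮.ResidueField e = 0 :=
        (algebraMap 𝔮.ResidueField (AlgebraicClosure 𝔮.ResidueField)).injective
          (by rw [map_zero]; exact h0)
      exact he𝔮 (Ideal.algebraMap_residueField_eq_zero.1 h3)
    exact eq_one_of_isIdempotentElem_of_ne_zero h1 h2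
  let h : Pt R B (AlgebraicClosure 𝔮.ResidueField) := ⟨h₀⟩
  have hφe : φ e = 0 := (hker e).mpr (Ideal.subset_span rfl)
  have hεe : Coalgebra.counit (R := R) e = 0 := by
    have h2 := CoalgHomClass.counit_comp_apply φ e
    rw [hφe, map_zero] at h2
    exact h2.symm
  haveI : Algebra.FiniteType (AlgebraicClosure 𝔮.ResidueField)
      (AlgebraicClosure 𝔮.ResidueField ⊗[R] B) := inferInstance
  haveI : IsNoetherianRing (AlgebraicClosure 𝔮.ResidueField ⊗[R] B) :=
    Algebra.FiniteType.isNoetherianRing (AlgebraicClosure 𝔮.ResidueField) _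
  have hi : ∃ m : ℕ, 0 < m ∧ (h ^ m).hom e = 0 := by
    by_contra hcon
    push Not at hcon
    apply false_of_forall_pow_hom (AlgebraicClosure 𝔮.ResidueField) e hεe h
    intro m hm
    exact eq_one_of_isIdempotentElem_of_ne_zero (he.map _) (hcon m hm)
  obtain ⟨m, hm, hme⟩ := hi
  have hkill : ∀ (g : Pt R B (AlgebraicClosure 𝔮.ResidueField)), g.hom e = 0 →
      ∀ x : B, φ x = 0 → g.hom x = 0 := by
    intro g hg x hx
    obtain ⟨a, rfl⟩ := Ideal.mem_span_singleton'.mp ((hker x).mp hx)
    rw [map_mul, hg, mul_zero]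
  obtain ⟨δb, hδb⟩ := Pt.exists_comap_eq φ hφ (h ^ m) (hkill _ hme)
  haveI : Nontrivial R := (algebraMap R (AlgebraicClosure 𝔮.ResidueField)).domain_nontrivial
  have hftM : Algebra.FiniteType R (MonoidAlgebra R M) :=
    hft.of_surjective (φ : B →ₐ[R] MonoidAlgebra R M) hφ
  haveI hfg : Group.FG M := MonoidAlgebra.finiteType_iff_group_fg.1 hftM
  let δ : M →* AlgebraicClosure 𝔮.ResidueField :=
    (MonoidAlgebra.lift R (AlgebraicClosure 𝔮.ResidueField) M).symm δb.hom
  obtain ⟨N, d, hN, hd⟩ := exists_root_hom δ m hm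
  let db : Pt R (MonoidAlgebra R M) (AlgebraicClosure 𝔮.ResidueField) :=
    ⟨MonoidAlgebra.lift R (AlgebraicClosure 𝔮.ResidueField) M d⟩
  have hpow : db ^ (m * N) = δb ^ N := by
    apply Pt.ext
    apply (MonoidAlgebra.lift R (AlgebraicClosure 𝔮.ResidueField) M).symm.injective
    apply MonoidHom.ext
    intro x
    rw [MonoidAlgebra.lift_symm_apply, MonoidAlgebra.lift_symm_apply,
      Pt.pow_hom_groupLike _ (MonoidAlgebra.isGroupLikeElem_single_one x),
      Pt.pow_hom_groupLike _ (MonoidAlgebra.isGroupLikeElem_single_one x)]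
    show (MonoidAlgebra.lift R (AlgebraicClosure 𝔮.ResidueField) M d
      (MonoidAlgebra.single x 1)) ^ (m * N) = (δb.hom (MonoidAlgebra.single x 1)) ^ N
    rw [MonoidAlgebra.lift_single, one_smul]
    exact hd x
  have hdt : (Pt.comap φ db) ^ (m * N) = (h ^ m) ^ N := by
    rw [← map_pow, hpow, map_pow, hδb]
  have hg : (h * (Pt.comap φ db)⁻¹) ^ (m * N) = 1 := by
    have hc : Commute h (Pt.comap φ db)⁻¹ := Pt.mul_comm' _ _
    rw [hc.mul_pow, inv_pow, hdt, pow_mul, mul_inv_cancel]
  have hge : (h * (Pt.comap φ db)⁻¹).hom e = 0 :=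
    hom_eq_zero_of_pow_eq_one _ (m * N) hg e (hmem _ (Nat.mul_pos hm hN))
  obtain ⟨gb, hgb⟩ := Pt.exists_comap_eq φ hφ (h * (Pt.comap φ db)⁻¹) (hkill _ hge)
  have hh : h = Pt.comap φ (gb * db) := by
    rw [map_mul, hgb, inv_mul_cancel_right]
  have h0 : h.hom e = 0 := by
    rw [hh, Pt.comap_hom_apply, hφe, map_zero]
  have h1 : h.hom e = 1 := hh₀
  exact one_ne_zero (h1.symm.trans h0)

end Ending

section Main

theorem isIsotrivial_of_cocomm_of_finite_torsion (A : Type u) [CommRing A] [IsNoetherianRing A]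
    (I : Ideal A) [IsAdicComplete I A] (C : Type u) [CommRing C] [HopfAlgebra A C]
    [Coalgebra.IsCocomm A C] [Module.Flat A C] (hft : Algebra.FiniteType A C)
    (h0 : IsIsotrivial (A ⧸ I) ((A ⧸ I) ⊗[A] C))
    (hfin : ∀ n : ℕ, 0 < n → Module.Finite A (C ⧸ torsionIdeal A C n)) :
    IsIsotrivial A C := by
  obtain ⟨A', _, _, het, hfinA', hff, hnoeth, hcomp, M, _, φ, e, hφ, he1, he2, he3⟩ :=
    exists_cover_core A I C hft h0
  have hmem : ∀ n : ℕ, 0 < n → e ∈ torsionIdeal A' (A' ⊗[A] C) n := fun n hn =>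
    mem_torsionIdeal_of_finite (I.map (algebraMap A A')) (IsAdicComplete.le_jacobson_bot _) n
      (finite_quot_torsionIdeal_baseChange A' n (hfin n hn)) e he1 he3
  have hft' : Algebra.FiniteType A' (A' ⊗[A] C) := inferInstance
  have he0 : e = 0 := eq_zero_of_forall_mem_torsionIdeal_of_cocomm hft' φ hφ e he1 he2 hmem
  have hinj : Function.Injective φ := by
    rw [injective_iff_map_eq_zero]
    intro x hx
    have := (he2 x).mp hx
    rw [he0, Ideal.span_singleton_eq_bot.mpr rfl] at this
    exact (Submodule.mem_bot _).mp this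
  exact ⟨A', inferInstance, inferInstance, het, hfinA', hff, M, inferInstance,
    ⟨BialgEquiv.ofBijective φ ⟨hinj, hφ⟩⟩⟩

end Main

end

end Groth.Agent.H9.LIF
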