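import Mathlib
import Groth.Prelude.Def_SGA3b

/-!
# Flatness at the points of the closed fibre (helper9)

If `C` is flat over `A` at all primes containing `J C`, then `C / J C` is flat over `A / J`;
the hypothesis is stable under base change.
-/

set_option autoImplicit false
set_option linter.unusedSectionVars false
set_option linter.unusedVariables false
set_option linter.style.haveILetI false

namespace Groth.Agent.H9.LIF

open TensorProduct

noncomputable section

universe u

section WF

variable {A : Type u} [CommRing A] {C : Type u} [CommRing C] [Algebra A C]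

/-- flatness at a prime is stable under base change -/
theorem flat_atPrime_baseChange (A' : Type u) [CommRing A'] [Algebra A A']
    (P : Ideal (A' ⊗[A] C)) [P.IsPrime]
    (q : Ideal C) [q.IsPrime]
    (hq : q = P.comap (Algebra.TensorProduct.includeRight : C →ₐ[A] A' ⊗[A] C))
    (h : Module.Flat A (Localization.AtPrime q)) :
    Module.Flat A' (Localization.AtPrime P) := by
  classical
  let Cq := Localization.AtPrime q
  let T := A' ⊗[A] Cq
  haveI := h
  haveI : Module.Flat A' T := inferInstance
  let g : A' ⊗[A] C →ₐ[A'] T :=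
    Algebra.TensorProduct.map (AlgHom.id A' A') (IsScalarTower.toAlgHom A C Cq)
  letI algT : Algebra (A' ⊗[A] C) T := g.toRingHom.toAlgebra
  haveI : IsScalarTower A' (A' ⊗[A] C) T :=
    IsScalarTower.of_algebraMap_eq fun r => (g.commutes r).symm
  have H : (algebraMap (A' ⊗[A] C) T).comp
      (Algebra.TensorProduct.includeRight (R := A) (A := A') (B := C)).toRingHom =
      (Algebra.TensorProduct.includeRight (R := A) (A := A') (B := Cq)).toRingHom.comp
        (algebraMap C Cq) := by
    ext c
    show g ((1 : A') ⊗ₜ[A] c) = (1 : A') ⊗ₜ[A] (algebraMap C Cq c)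
    rw [Algebra.TensorProduct.map_tmul]
    rfl
  haveI loc1 : IsLocalization (q.primeCompl.map
      (Algebra.TensorProduct.includeRight (R := A) (A := A') (B := C))) T :=
    IsLocalization.tensorProduct_tensorProduct_right A A' q.primeCompl Cq H
  have hle : q.primeCompl.map (Algebra.TensorProduct.includeRight (R := A) (A := A') (B := C)) ≤
      P.primeCompl := by
    rintro _ ⟨c, hc, rfl⟩
    intro hmem
    apply hc
    rw [hq]
    exact hmem
  letI algTP : Algebra T (Localization.AtPrime P) :=
    IsLocalization.localizationAlgebraOfSubmonoidLe T (Localization.AtPrime P) _ P.primeCompl hle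
  haveI : IsScalarTower (A' ⊗[A] C) T (Localization.AtPrime P) :=
    IsLocalization.localization_isScalarTower_of_submonoid_le T (Localization.AtPrime P) _
      P.primeCompl hle
  haveI : IsLocalization (P.primeCompl.map (algebraMap (A' ⊗[A] C) T))
      (Localization.AtPrime P) :=
    IsLocalization.isLocalization_of_submonoid_le T (Localization.AtPrime P) _ P.primeCompl hle
  haveI : Module.Flat T (Localization.AtPrime P) :=
    IsLocalization.flat (Localization.AtPrime P) (P.primeCompl.map (algebraMap (A' ⊗[A] C) T))
  haveI : IsScalarTower A' T (Localization.AtPrime P) :=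
    IsScalarTower.to₁₃₄ A' (A' ⊗[A] C) T (Localization.AtPrime P)
  exact Module.Flat.trans A' T (Localization.AtPrime P)

/-- if `C` is flat over `A` at the primes containing `J C`, then `C / J C` is flat over `A / J` -/
theorem flat_quotient_of_flat_at (J : Ideal A)
    (hfl : ∀ (q : Ideal C) [q.IsPrime], J.map (algebraMap A C) ≤ q →
      Module.Flat A (Localization.AtPrime q)) :
    Module.Flat (A ⧸ J) ((A ⧸ J) ⊗[A] C) := by
  apply Module.flat_of_isLocalized_maximal ((A ⧸ J) ⊗[A] C) ((A ⧸ J) ⊗[A] C)
    (fun P _ => Localization.AtPrime P) (fun P _ => Algebra.linearMap _ _)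
  intro P hP
  haveI : P.IsPrime := hP.isPrime
  let q : Ideal C := P.comap (Algebra.TensorProduct.includeRight : C →ₐ[A] (A ⧸ J) ⊗[A] C)
  haveI : q.IsPrime := Ideal.comap_isPrime _ P
  refine flat_atPrime_baseChange (A ⧸ J) P q rfl (hfl q ?_)
  rw [Ideal.map_le_iff_le_comap]
  intro a ha
  show (Algebra.TensorProduct.includeRight : C →ₐ[A] (A ⧸ J) ⊗[A] C) (algebraMap A C a) ∈ P
  have h0 : (Algebra.TensorProduct.includeRight : C →ₐ[A] (A ⧸ J) ⊗[A] C)
      (algebraMap A C a) = 0 := by
    rw [AlgHom.commutes, Algebra.TensorProduct.algebraMap_apply, Ideal.Quotient.algebraMap_eq,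
      Ideal.Quotient.eq_zero_iff_mem.mpr ha, TensorProduct.zero_tmul]
  rw [h0]
  exact zero_mem _

/-- flatness at the points of the closed fibre is stable under base change -/
theorem flat_at_baseChange (I : Ideal A) (A' : Type u) [CommRing A'] [Algebra A A']
    (hfl : ∀ (q : Ideal C) [q.IsPrime], I.map (algebraMap A C) ≤ q →
      Module.Flat A (Localization.AtPrime q))
    (q' : Ideal (A' ⊗[A] C)) [q'.IsPrime]
    (hq' : (I.map (algebraMap A A')).map (algebraMap A' (A' ⊗[A] C)) ≤ q') :
    Module.Flat A' (Localization.AtPrime q') := by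
  let q : Ideal C := q'.comap (Algebra.TensorProduct.includeRight : C →ₐ[A] A' ⊗[A] C)
  haveI : q.IsPrime := Ideal.comap_isPrime _ q'
  refine flat_atPrime_baseChange A' q' q rfl (hfl q ?_)
  rw [Ideal.map_le_iff_le_comap]
  intro a ha
  show (Algebra.TensorProduct.includeRight : C →ₐ[A] A' ⊗[A] C) (algebraMap A C a) ∈ q'
  apply hq'
  rw [AlgHom.commutes, IsScalarTower.algebraMap_apply A A' (A' ⊗[A] C)]
  exact Ideal.mem_map_of_mem _ (Ideal.mem_map_of_mem _ ha)

/-- the reductions modulo the powers of `I` are flat -/
theorem flat_pow_quotient (I : Ideal A)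
    (hfl : ∀ (q : Ideal C) [q.IsPrime], I.map (algebraMap A C) ≤ q →
      Module.Flat A (Localization.AtPrime q))
    (n : ℕ) : Module.Flat (A ⧸ I ^ (n + 1)) ((A ⧸ I ^ (n + 1)) ⊗[A] C) := by
  apply flat_quotient_of_flat_at
  intro q _ hq
  apply hfl q
  rw [Ideal.map_pow] at hq
  exact Ideal.IsPrime.le_of_pow_le hq

end WF

end

end Groth.Agent.H9.LIF
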