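import Mathlib
import Groth.Prelude.Def_SGA3b
import Groth.Agent.Lib.Helper9.Misc.LIF16

/-!
# Compatible systems of trivializations, assuming only flatness of the reductions (helper9)
-/

set_option autoImplicit false
set_option linter.unusedSectionVars false
set_option linter.unusedVariables false
set_option linter.style.haveILetI false

namespace Groth.Agent.H9.LIF

open TensorProduct

noncomputable section

universe u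

section RLI'

variable (A : Type u) [CommRing A]

/-- lifting a trivialization from `Rb` (a quotient of `A`) to `A ⧸ J'`, when a power of the kernel
of `A → Rb` is contained in `J' ≤ ker` and the reduction modulo `J'` is flat -/
theorem exists_lift_triv' (J' : Ideal A) (Rb : Type u) [CommRing Rb] [Algebra A Rb]
    (hsurj : Function.Surjective (algebraMap A Rb))
    (hle : J' ≤ RingHom.ker (algebraMap A Rb)) (N : ℕ)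
    (hpow : RingHom.ker (algebraMap A Rb) ^ N ≤ J')
    (C : Type u) [CommRing C] [HopfAlgebra A C] [Module.Flat (A ⧸ J') ((A ⧸ J') ⊗[A] C)]
    (M : Type u) [CommGroup M]
    (Ψb : (Rb ⊗[A] C) ≃ₐc[Rb] MonoidAlgebra Rb M) :
    ∃ Ψ : ((A ⧸ J') ⊗[A] C) ≃ₐc[A ⧸ J'] MonoidAlgebra (A ⧸ J') M,
      ∀ (c : C) (y : MonoidAlgebra A M),
        Ψ ((1 : A ⧸ J') ⊗ₜ[A] c) = MT.monAlgBC A (A ⧸ J') M ((1 : A ⧸ J') ⊗ₜ[A] y) →
        Ψb ((1 : Rb) ⊗ₜ[A] c) = MT.monAlgBC A Rb M ((1 : Rb) ⊗ₜ[A] y) := by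
  letI : Algebra (A ⧸ J') Rb := quotAlg J' hle
  haveI : IsScalarTower A (A ⧸ J') Rb := quotAlg_tower J' hle
  have hsurj' : Function.Surjective (algebraMap (A ⧸ J') Rb) := quotAlg_surj J' hle hsurj
  have hn : RingHom.ker (algebraMap (A ⧸ J') Rb) ^ N = ⊥ := by
    rw [eq_bot_iff]
    refine (Ideal.pow_right_mono (quotAlg_ker_le J' hle) N).trans ?_
    rw [← Ideal.map_pow]
    refine (Ideal.map_mono hpow).trans ?_
    rw [Ideal.map_quotient_self]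
  let e₀ : ((Rb ⊗[A ⧸ J'] ((A ⧸ J') ⊗[A] C))) ≃ₐc[Rb] MonoidAlgebra Rb M :=
    (MT.cancelBC A (A ⧸ J') Rb C).trans Ψb
  obtain ⟨Φ, hΦ⟩ := exists_bialgEquiv_of_flat_deformation N (A ⧸ J') Rb hsurj' hn
    ((A ⧸ J') ⊗[A] C) e₀
  refine ⟨Φ.symm, fun c y hy => ?_⟩
  have h1 : (1 : A ⧸ J') ⊗ₜ[A] c =
      Φ (MT.monAlgBC A (A ⧸ J') M ((1 : A ⧸ J') ⊗ₜ[A] y)) := by
    rw [← hy, BialgEquiv.apply_symm_apply]
  have h2 := apply_one_tmul_of_single (A ⧸ J') Rb ((A ⧸ J') ⊗[A] C) e₀ Φ hΦ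
    (MT.monAlgBC A (A ⧸ J') M ((1 : A ⧸ J') ⊗ₜ[A] y))
  rw [← h1, monAlgBC_monAlgBC] at h2
  rw [← h2]
  show Ψb _ = Ψb ((MT.cancelBC A (A ⧸ J') Rb C)
    ((1 : Rb) ⊗ₜ[A ⧸ J'] ((1 : A ⧸ J') ⊗ₜ[A] c)))
  rw [MT.cancelBC_tmul, one_smul]

/-- the compatible system of trivializations modulo the powers of `I` -/
theorem exists_triv_system' (I : Ideal A) (Rb : Type u) [CommRing Rb] [Algebra A Rb]
    (hsurj : Function.Surjective (algebraMap A Rb))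
    (hker : RingHom.ker (algebraMap A Rb) = I)
    (C : Type u) [CommRing C] [HopfAlgebra A C]
    (hfl : ∀ n : ℕ, Module.Flat (A ⧸ I ^ (n + 1)) ((A ⧸ I ^ (n + 1)) ⊗[A] C))
    (M : Type u) [CommGroup M]
    (Ψb : (Rb ⊗[A] C) ≃ₐc[Rb] MonoidAlgebra Rb M) :
    ∃ Ψ : (n : ℕ) → (((A ⧸ I ^ (n + 1)) ⊗[A] C) ≃ₐc[A ⧸ I ^ (n + 1)]
        MonoidAlgebra (A ⧸ I ^ (n + 1)) M),
      (∀ (c : C) (y : MonoidAlgebra A M),
        Ψ 0 ((1 : A ⧸ I ^ (0 + 1)) ⊗ₜ[A] c) =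
          MT.monAlgBC A (A ⧸ I ^ (0 + 1)) M ((1 : A ⧸ I ^ (0 + 1)) ⊗ₜ[A] y) →
        Ψb ((1 : Rb) ⊗ₜ[A] c) = MT.monAlgBC A Rb M ((1 : Rb) ⊗ₜ[A] y)) ∧
      ∀ (n : ℕ) (c : C) (y : MonoidAlgebra A M),
        Ψ (n + 1) ((1 : A ⧸ I ^ (n + 1 + 1)) ⊗ₜ[A] c) =
          MT.monAlgBC A (A ⧸ I ^ (n + 1 + 1)) M ((1 : A ⧸ I ^ (n + 1 + 1)) ⊗ₜ[A] y) →
        Ψ n ((1 : A ⧸ I ^ (n + 1)) ⊗ₜ[A] c) =
          MT.monAlgBC A (A ⧸ I ^ (n + 1)) M ((1 : A ⧸ I ^ (n + 1)) ⊗ₜ[A] y) := by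
  haveI := hfl 0
  have base := exists_lift_triv' A (I ^ (0 + 1)) Rb hsurj
    (by rw [hker, zero_add, pow_one]) 1 (by rw [hker, zero_add, pow_one]) C M Ψb
  have step : ∀ (n : ℕ) (Ψn : ((A ⧸ I ^ (n + 1)) ⊗[A] C) ≃ₐc[A ⧸ I ^ (n + 1)]
      MonoidAlgebra (A ⧸ I ^ (n + 1)) M),
      ∃ Ψ' : ((A ⧸ I ^ (n + 1 + 1)) ⊗[A] C) ≃ₐc[A ⧸ I ^ (n + 1 + 1)]
        MonoidAlgebra (A ⧸ I ^ (n + 1 + 1)) M,
      ∀ (c : C) (y : MonoidAlgebra A M),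
        Ψ' ((1 : A ⧸ I ^ (n + 1 + 1)) ⊗ₜ[A] c) =
          MT.monAlgBC A (A ⧸ I ^ (n + 1 + 1)) M ((1 : A ⧸ I ^ (n + 1 + 1)) ⊗ₜ[A] y) →
        Ψn ((1 : A ⧸ I ^ (n + 1)) ⊗ₜ[A] c) =
          MT.monAlgBC A (A ⧸ I ^ (n + 1)) M ((1 : A ⧸ I ^ (n + 1)) ⊗ₜ[A] y) := fun n Ψn => by
    have hk : RingHom.ker (algebraMap A (A ⧸ I ^ (n + 1))) = I ^ (n + 1) := by
      rw [Ideal.Quotient.algebraMap_eq, Ideal.mk_ker]
    haveI := hfl (n + 1)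
    exact exists_lift_triv' A (I ^ (n + 1 + 1)) (A ⧸ I ^ (n + 1)) Ideal.Quotient.mk_surjective
      (by rw [hk]; exact Ideal.pow_le_pow_right (Nat.le_succ _)) 2
      (by rw [hk, ← pow_mul]; exact Ideal.pow_le_pow_right (by omega)) C M Ψn
  let Ψ : (n : ℕ) → (((A ⧸ I ^ (n + 1)) ⊗[A] C) ≃ₐc[A ⧸ I ^ (n + 1)]
      MonoidAlgebra (A ⧸ I ^ (n + 1)) M) := fun n =>
    Nat.rec (motive := fun n => (((A ⧸ I ^ (n + 1)) ⊗[A] C) ≃ₐc[A ⧸ I ^ (n + 1)]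
      MonoidAlgebra (A ⧸ I ^ (n + 1)) M)) (Classical.choose base)
      (fun n Ψn => Classical.choose (step n Ψn)) n
  exact ⟨Ψ, Classical.choose_spec base, fun n => Classical.choose_spec (step n (Ψ n))⟩

end RLI'

end

end Groth.Agent.H9.LIF
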