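import Mathlib
import Groth.Prelude.Def_SGA3b
import Groth.Agent.Lib.Helper9.Misc.LIF11

/-!
# Algebraization of adic systems of homomorphisms into isotrivial groups, without flatness
of the source (helper9)

The supports of the limits are bounded by the orthogonality of the coefficient functionals and
the Noetherian hypothesis.
-/

set_option autoImplicit false
set_option linter.unusedSectionVars false
set_option linter.unusedVariables false
set_option linter.style.haveILetI false

namespace Groth.Agent.H9.LIF

open TensorProduct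

noncomputable section

universe u

section Orth

/-- a family which is orthogonal for a pairing of finite rank over a Noetherian ring has finite
support -/
theorem finite_of_orthogonal {R : Type*} [CommRing R] [IsNoetherianRing R] {M : Type*} [DecidableEq M]
    {ι : Type*} [Fintype ι] (b c : ι → M → R) (d : M → R)
    (h : ∀ m m', ∑ i, b i m * c i m' = if m = m' then d m else 0) :
    Set.Finite {m | d m ≠ 0} := by
  classical
  let v : M → (ι → R) := fun m i => b i m
  let φ : M → ((ι → R) →ₗ[R] R) := fun m =>
    ∑ i, (c i m) • (LinearMap.proj i : (ι → R) →ₗ[R] R)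
  have hφ : ∀ m m', φ m (v m') = if m' = m then d m' else 0 := by
    intro m m'
    rw [← h m' m]
    simp only [φ, v, LinearMap.sum_apply, LinearMap.smul_apply, LinearMap.proj_apply, smul_eq_mul]
    exact Finset.sum_congr rfl fun i _ => mul_comm _ _
  have hfg : (Submodule.span R (Set.range v)).FG := IsNoetherian.noetherian _
  obtain ⟨s', hs', hspan⟩ := (Submodule.fg_span_iff_fg_span_finset_subset _).mp hfg
  have hinj : Set.InjOn v {m | d m ≠ 0} := by
    intro m hm m' _ hvv
    by_contra hne
    apply hm
    have h1 : φ m (v m) = d m := by rw [hφ m m, if_pos rfl]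
    have h2 : φ m (v m') = 0 := by rw [hφ m m', if_neg (fun h => hne h.symm)]
    rw [← h1, hvv, h2]
  have hD : ∀ m, d m ≠ 0 → v m ∈ s' := by
    intro m hm
    by_contra hnot
    apply hm
    have hmem : v m ∈ Submodule.span R (s' : Set (ι → R)) := by
      rw [← hspan]; exact Submodule.subset_span ⟨m, rfl⟩
    have hker : Submodule.span R (s' : Set (ι → R)) ≤ LinearMap.ker (φ m) := by
      rw [Submodule.span_le]
      intro x hx
      obtain ⟨m', rfl⟩ := hs' hx
      have hne : m' ≠ m := fun h => hnot (h ▸ hx)
      rw [SetLike.mem_coe, LinearMap.mem_ker, hφ m m', if_neg hne]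
    have h1 : φ m (v m) = d m := by rw [hφ m m, if_pos rfl]
    rw [← h1]
    exact LinearMap.mem_ker.mp (hker hmem)
  refine Set.Finite.of_finite_image (f := v) ?_ hinj
  refine s'.finite_toSet.subset ?_
  rintro _ ⟨m, hm, rfl⟩
  exact hD m hm

end Orth

section Xi2

variable {A : Type u} [CommRing A] {A' : Type u} [CommRing A'] [Algebra A A']
  {B : Type u} [CommRing B] [HopfAlgebra A B] {M : Type u} [CommGroup M]
  (θ : (A' ⊗[A] B) ≃ₐc[A'] MonoidAlgebra A' M)

/-- `b₁ ⊗ b₂ ↦ ξ_m(b₁) ξ_m'(b₂)` -/
def Xim2 (m m' : M) : B ⊗[A] B →ₗ[A] A' :=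
  LinearMap.mul' A A' ∘ₗ TensorProduct.map (xim θ m) (xim θ m')

theorem Xim2_tmul (m m' : M) (x y : B) :
    Xim2 θ m m' (x ⊗ₜ[A] y) = xim θ m x * xim θ m' y := rfl

theorem kappa2_comul (m m' : M) (hne : m ≠ m') (x : MonoidAlgebra A' M) :
    (LinearMap.mul' A' A' ∘ₗ TensorProduct.map (cf A' m) (cf A' m'))
      (Coalgebra.comul (R := A') x) = 0 := by
  classical
  induction x using MonoidAlgebra.induction_linear with
  | zero => rw [map_zero, map_zero]
  | add x y hx hy => rw [map_add, map_add, hx, hy, add_zero]
  | single n a =>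
    rw [comul_single', LinearMap.comp_apply, TensorProduct.map_tmul, LinearMap.mul'_apply,
      cf_apply, cf_apply, MonoidAlgebra.coeff_single, MonoidAlgebra.coeff_single,
      Finsupp.single_apply, Finsupp.single_apply]
    by_cases h : n = m
    · have h' : ¬ n = m' := fun h2 => hne (h.symm.trans h2)
      rw [if_neg h', mul_zero]
    · rw [if_neg h, zero_mul]

theorem Xim2_comul_of_ne (m m' : M) (hne : m ≠ m') (b : B) :
    Xim2 θ m m' (Coalgebra.comul (R := A) b) = 0 := by
  let r := Coalgebra.Repr.arbitrary A b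
  have h1 : Coalgebra.comul (R := A') (θ ((1 : A') ⊗ₜ[A] b)) =
      ∑ i ∈ r.index, θ ((1 : A') ⊗ₜ[A] r.left i) ⊗ₜ[A'] θ ((1 : A') ⊗ₜ[A] r.right i) := by
    rw [← CoalgHomClass.map_comp_comul_apply θ, MT.comul_tmul_repr (1 : A') b r, map_sum]
    refine Finset.sum_congr rfl fun i _ => ?_
    rw [TensorProduct.map_tmul]
    rfl
  have h2 := kappa2_comul (A' := A') m m' hne (θ ((1 : A') ⊗ₜ[A] b))
  rw [h1, map_sum] at h2
  rw [← r.eq, map_sum, ← h2]
  refine Finset.sum_congr rfl fun i _ => ?_
  rfl

end Xi2

section Elem'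

variable {A : Type u} [CommRing A] {I : Ideal A} {C : Type u} [CommRing C] [Bialgebra A C]
  {B : Type u} [CommRing B] [HopfAlgebra A B]

/-- elementwise limits exist, without flatness of `C` -/
theorem exists_limit_elem' (sys : AdicSys I C B)
    {A' : Type u} [CommRing A'] [Algebra A A'] [IsNoetherianRing A'] [IsPrecomplete I A']
    (hA' : ∀ x : A', (∀ n, x ∈ I ^ (n + 1) • (⊤ : Submodule A A')) → x = 0)
    (σ : A' →ₗ[A] A) (hσ : σ 1 = 1) {M : Type u} [CommGroup M]
    (θ : (A' ⊗[A] B) ≃ₐc[A'] MonoidAlgebra A' M) (c : C) :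
    ∃ y : B, ∀ n, y - sys.b n c ∈ I ^ (n + 1) • (⊤ : Submodule A B) := by
  classical
  let r := Coalgebra.Repr.arbitrary A c
  have hcauchy : ∀ (m : M) (x : C) (n : ℕ),
      xim θ m (sys.b (n + 1) x) - xim θ m (sys.b n x) ∈
        I ^ (n + 1) • (⊤ : Submodule A A') := by
    intro m x n
    rw [← map_sub]
    exact GLL.map_mem_smul_top _ _ (sys.succ n x)
  choose L hL using fun (m : M) (x : C) =>
    exists_limit I (fun n => xim θ m (sys.b n x)) (hcauchy m x)
  have horth : ∀ (m m' : M) (n : ℕ),
      (∑ i ∈ r.index, xim θ m (sys.b n (r.left i)) * xim θ m' (sys.b n (r.right i))) -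
        (if m = m' then xim θ m (sys.b n c) else 0) ∈
        I ^ (n + 1) • (⊤ : Submodule A A') := by
    intro m m' n
    have h1 := GLL.map_mem_smul_top (I ^ (n + 1)) (Xim2 θ m m') (sys.comul n c _ r)
    rw [map_sub, map_sum] at h1
    by_cases h : m = m'
    · subst h
      rw [if_pos rfl]
      have e : Xim2 θ m m (Coalgebra.comul (R := A) (sys.b n c)) = xim θ m (sys.b n c) :=
        Xim_comul θ m _
      rw [e] at h1
      exact h1
    · rw [if_neg h, sub_zero]
      rw [Xim2_comul_of_ne θ m m' h, sub_zero] at h1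
      exact h1
  have hlim : ∀ m m' : M, (∑ i ∈ r.index, L m (r.left i) * L m' (r.right i)) =
      if m = m' then L m c else 0 := by
    intro m m'
    rw [← sub_eq_zero]
    apply hA'
    intro n
    have e : (∑ i ∈ r.index, L m (r.left i) * L m' (r.right i)) -
        (if m = m' then L m c else 0) =
        (∑ i ∈ r.index, ((L m (r.left i) - xim θ m (sys.b n (r.left i))) * L m' (r.right i) +
          xim θ m (sys.b n (r.left i)) *
            (L m' (r.right i) - xim θ m' (sys.b n (r.right i))))) +
        ((∑ i ∈ r.index, xim θ m (sys.b n (r.left i)) * xim θ m' (sys.b n (r.right i))) -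
          (if m = m' then xim θ m (sys.b n c) else 0)) -
        ((if m = m' then xim θ m (sys.b n c) else 0) - (if m = m' then L m c else 0)) * (-1) -
        0 := by
      have e1 : ∀ i ∈ r.index, L m (r.left i) * L m' (r.right i) =
          ((L m (r.left i) - xim θ m (sys.b n (r.left i))) * L m' (r.right i) +
          xim θ m (sys.b n (r.left i)) *
            (L m' (r.right i) - xim θ m' (sys.b n (r.right i)))) +
          xim θ m (sys.b n (r.left i)) * xim θ m' (sys.b n (r.right i)) := by
        intro i _
        ring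
      rw [Finset.sum_congr rfl e1, Finset.sum_add_distrib]
      ring
    rw [e, sub_zero]
    refine sub_mem (add_mem (Submodule.sum_mem _ fun i _ => add_mem ?_ ?_) (horth m m' n)) ?_
    · exact GLL.map_mem_smul_top (I ^ (n + 1)) (LinearMap.mulRight A (L m' (r.right i)))
        (hL m (r.left i) n)
    · exact GLL.map_mem_smul_top (I ^ (n + 1))
        (LinearMap.mulLeft A (xim θ m (sys.b n (r.left i)))) (hL m' (r.right i) n)
    · rw [mul_neg_one, neg_sub]
      split_ifs with h
      · exact hL m c n
      · rw [sub_zero]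
        exact zero_mem _
  have hfin : Set.Finite {m : M | L m c ≠ 0} := by
    refine finite_of_orthogonal (R := A') (ι := ↥r.index)
      (fun i m => L m (r.left i)) (fun i m => L m (r.right i)) (fun m => L m c) ?_
    intro m m'
    rw [← hlim m m']
    exact Finset.sum_coe_sort r.index (fun i => L m (r.left i) * L m' (r.right i))
  let F : Finset M := hfin.toFinset
  have hF : ∀ m, m ∉ F → L m c = 0 := by
    intro m hm
    by_contra hne
    exact hm (hfin.mem_toFinset.mpr hne)
  let y' : MonoidAlgebra A' M := ∑ m ∈ F, MonoidAlgebra.single m (L m c)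
  have hy' : ∀ m, y'.coeff m = if m ∈ F then L m c else 0 := by
    intro m
    simp only [y', MonoidAlgebra.coeff_sum, MonoidAlgebra.coeff_single, Finsupp.coe_finsetSum,
      Finset.sum_apply, Finsupp.single_apply, Finset.sum_ite_eq']
  have hD : ∀ n, y' - xi θ (sys.b n c) ∈
      I ^ (n + 1) • (⊤ : Submodule A (MonoidAlgebra A' M)) := by
    intro n
    apply mem_smul_top_of_coeff
    intro m
    show y'.coeff m - (xi θ (sys.b n c)).coeff m ∈ _
    rw [hy']
    split_ifs with hm
    · exact hL m c n
    · have h3 := hL m c n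
      rw [hF m hm] at h3
      exact h3
  refine ⟨tau θ σ y', fun n => ?_⟩
  have h := GLL.map_mem_smul_top (I ^ (n + 1)) (tau θ σ) (hD n)
  rwa [map_sub, tau_xi θ σ hσ] at h

end Elem'

section Main'

/-- **Algebraization**: an `I`-adic system of approximate bialgebra maps from a Hopf
algebra `C` to an isotrivial Hopf algebra `B`, over a Noetherian `I`-adically complete ring,
converges to a bialgebra map. -/
theorem exists_algebraization' (A : Type u) [CommRing A] [IsNoetherianRing A] (I : Ideal A)
    [IsAdicComplete I A]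
    (B : Type u) [CommRing B] [HopfAlgebra A B] (hH : SGA3b.IsIsotrivial A B)
    (C : Type u) [CommRing C] [HopfAlgebra A C] (sys : AdicSys I C B) :
    ∃ φ : C →ₐc[A] B, ∀ n c, φ c - sys.b n c ∈ I ^ (n + 1) • (⊤ : Submodule A B) := by
  obtain ⟨A', _, _, hét, hfin, hff, M, _, ⟨θ⟩⟩ := hH
  haveI : IsNoetherianRing A' := IsNoetherianRing.of_finite A A'
  haveI : Module.FinitePresentation A A' := Module.finitePresentation_of_finite A A'
  haveI : Module.Projective A A' := Module.Flat.projective_of_finitePresentation
  haveI : IsAdicComplete I A' := isAdicComplete_of_finite_projective I A'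
  obtain ⟨σ, hσ⟩ := exists_retraction A A'
  have hA' : ∀ x : A', (∀ n, x ∈ I ^ (n + 1) • (⊤ : Submodule A A')) → x = 0 :=
    fun x => eq_zero_of_hausdorff I x
  haveI : Module.Free A' (MonoidAlgebra A' M) :=
    Module.Free.of_equiv (MonoidAlgebra.coeffLinearEquiv A' (S := A') (M := M)).symm
  haveI : Module.Free A' (A' ⊗[A] B) :=
    Module.Free.of_equiv (θ.toCoalgEquiv.toLinearEquiv).symm
  haveI : Module.Free A' (A' ⊗[A] (B ⊗[A] B)) :=
    Module.Free.of_equiv ((TensorProduct.AlgebraTensorModule.distribBaseChange A A' B B).trans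
      (TensorProduct.congr θ.toCoalgEquiv.toLinearEquiv θ.toCoalgEquiv.toLinearEquiv)).symm
  refine exists_bialgHom_of_limits sys (fun x => eq_zero_of_hausdorff I x)
    (fun x => eq_zero_of_forall_mem_free I A' hA' B x)
    (fun x => eq_zero_of_forall_mem_free I A' hA' (B ⊗[A] B) x)
    (fun c => exists_limit_elem' sys hA' σ hσ θ c)

end Main'

end

end Groth.Agent.H9.LIF
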