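import Mathlib
import Groth.Prelude.Def_SGA3b
import Groth.Agent.Lib.Helper9.Misc.LIF19
import Groth.Agent.Lib.Helper9.Misc.LIF20
import Groth.Agent.Lib.Helper9.Misc.LIF29
import Groth.Agent.Lib.Helper9.Misc.LIF30
import Groth.Agent.Lib.Helper9.Misc.LIF31

/-!
# The formal trivialization for a group which is flat at the points of the closed fibre (helper9)
-/

set_option autoImplicit false
set_option linter.unusedSectionVars false
set_option linter.unusedVariables false
set_option linter.style.haveILetI false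

namespace Groth.Agent.H9.LIF

open TensorProduct

noncomputable section

universe u

section Core1'

variable (A : Type u) [CommRing A] [IsNoetherianRing A] (I : Ideal A) [IsAdicComplete I A]
  (Rb : Type u) [CommRing Rb] [Algebra A Rb] (hsurj : Function.Surjective (algebraMap A Rb))
  (hker : RingHom.ker (algebraMap A Rb) = I)
  (C : Type u) [CommRing C] [HopfAlgebra A C]
  (hfl : ∀ n : ℕ, Module.Flat (A ⧸ I ^ (n + 1)) ((A ⧸ I ^ (n + 1)) ⊗[A] C))
  (M : Type u) [CommGroup M] (Ψb : (Rb ⊗[A] C) ≃ₐc[Rb] MonoidAlgebra Rb M)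

include hsurj hker hfl in
/-- the trivialization modulo `I` lifts to a surjective bialgebra map `C → A[M]` -/
theorem exists_formal_lift' :
    ∃ φ : C →ₐc[A] MonoidAlgebra A M,
      (∀ c : C, Ψb ((1 : Rb) ⊗ₜ[A] c) = MT.monAlgBC A Rb M ((1 : Rb) ⊗ₜ[A] φ c)) ∧
      Function.Surjective φ := by
  classical
  obtain ⟨Ψ, h0, hstep⟩ := exists_triv_system' A I Rb hsurj hker C hfl M Ψb
  let ψ : (n : ℕ) → (((A ⧸ I ^ (n + 1)) ⊗[A] C) →ₐc[A ⧸ I ^ (n + 1)]
      ((A ⧸ I ^ (n + 1)) ⊗[A] MonoidAlgebra A M)) := fun n =>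
    (((MT.monAlgBC A (A ⧸ I ^ (n + 1)) M).symm :
      MonoidAlgebra (A ⧸ I ^ (n + 1)) M ≃ₐc[A ⧸ I ^ (n + 1)]
        ((A ⧸ I ^ (n + 1)) ⊗[A] MonoidAlgebra A M)) :
      MonoidAlgebra (A ⧸ I ^ (n + 1)) M →ₐc[A ⧸ I ^ (n + 1)]
        ((A ⧸ I ^ (n + 1)) ⊗[A] MonoidAlgebra A M)).comp
      ((Ψ n : ((A ⧸ I ^ (n + 1)) ⊗[A] C) ≃ₐc[A ⧸ I ^ (n + 1)]
        MonoidAlgebra (A ⧸ I ^ (n + 1)) M) :
        ((A ⧸ I ^ (n + 1)) ⊗[A] C) →ₐc[A ⧸ I ^ (n + 1)] MonoidAlgebra (A ⧸ I ^ (n + 1)) M)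
  have hψ_iff : ∀ (n : ℕ) (c : C) (y : MonoidAlgebra A M),
      ψ n ((1 : A ⧸ I ^ (n + 1)) ⊗ₜ[A] c) = (1 : A ⧸ I ^ (n + 1)) ⊗ₜ[A] y ↔
      Ψ n ((1 : A ⧸ I ^ (n + 1)) ⊗ₜ[A] c) =
        MT.monAlgBC A (A ⧸ I ^ (n + 1)) M ((1 : A ⧸ I ^ (n + 1)) ⊗ₜ[A] y) := by
    intro n c y
    show (MT.monAlgBC A (A ⧸ I ^ (n + 1)) M).symm (Ψ n ((1 : A ⧸ I ^ (n + 1)) ⊗ₜ[A] c)) = _ ↔ _
    constructor
    · intro h
      rw [← h, BialgEquiv.apply_symm_apply]
    · intro h
      rw [h, BialgEquiv.symm_apply_apply]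
  have hψ : ∀ (n : ℕ) (c : C) (y : MonoidAlgebra A M),
      ψ (n + 1) ((1 : A ⧸ I ^ (n + 1 + 1)) ⊗ₜ[A] c) = (1 : A ⧸ I ^ (n + 1 + 1)) ⊗ₜ[A] y →
      ψ n ((1 : A ⧸ I ^ (n + 1)) ⊗ₜ[A] c) = (1 : A ⧸ I ^ (n + 1)) ⊗ₜ[A] y := by
    intro n c y h
    rw [hψ_iff] at h ⊢
    exact hstep n c y h
  obtain ⟨φ, hφ⟩ := exists_algebraization' A I (MonoidAlgebra A M) isIsotrivial_monoidAlgebra C
    (sysOf I ψ hψ)
  have hC2 : ∀ (n : ℕ) (c : C), ψ n ((1 : A ⧸ I ^ (n + 1)) ⊗ₜ[A] c) =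
      (1 : A ⧸ I ^ (n + 1)) ⊗ₜ[A] φ c := by
    intro n c
    have h1 := one_tmul_eq_zero_of_mem (I ^ (n + 1)) _ (hφ n c)
    rw [TensorProduct.tmul_sub, sub_eq_zero, sysOf_b, bOf_spec] at h1
    exact h1.symm
  have hlift : ∀ c : C, Ψb ((1 : Rb) ⊗ₜ[A] c) =
      MT.monAlgBC A Rb M ((1 : Rb) ⊗ₜ[A] φ c) := by
    intro c
    exact h0 c (φ c) ((hψ_iff 0 c (φ c)).mp (hC2 0 c))
  refine ⟨φ, hlift, ?_⟩
  have hJ : I ≤ (⊥ : Ideal A).jacobson := IsAdicComplete.le_jacobson_bot I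
  have hgen : ∀ m : M, ∃ c : C, φ c = MonoidAlgebra.single m 1 := by
    intro m
    obtain ⟨w, hw⟩ := EquivLike.surjective Ψb (MonoidAlgebra.single m 1)
    obtain ⟨c₀, rfl⟩ := QI.exists_one_tmul' hsurj C w
    rw [hlift, MT.monAlgBC_tmul, one_smul] at hw
    have hcoef : algebraMap A Rb ((φ c₀).coeff m) = 1 := by
      have := congrArg (fun x : MonoidAlgebra Rb M => x.coeff m) hw
      simp only [MonoidAlgebra.coeff_mapAlgHom, MonoidAlgebra.coeff_single,
        Finsupp.single_eq_same] at this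
      exact this
    have hmem : (φ c₀).coeff m - 1 ∈ I := by
      rw [← hker, RingHom.mem_ker, map_sub, hcoef, map_one, sub_self]
    have hu : IsUnit ((φ c₀).coeff m) := by
      have := (Ideal.mem_jacobson_bot.mp (hJ hmem)) 1
      rwa [mul_one, sub_add_cancel] at this
    obtain ⟨u, hu'⟩ := hu
    let χ : C →ₗ[A] A := cf A m ∘ₗ ((φ : C →ₐc[A] MonoidAlgebra A M) : C →ₗ[A] MonoidAlgebra A M)
    have key : ∀ t : C ⊗[A] C, φ (lamS χ C t) = lamS (cf A m) (MonoidAlgebra A M)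
        (TensorProduct.map ((φ : C →ₐc[A] MonoidAlgebra A M) : C →ₗ[A] MonoidAlgebra A M)
          ((φ : C →ₐc[A] MonoidAlgebra A M) : C →ₗ[A] MonoidAlgebra A M) t) := by
      intro t
      induction t using TensorProduct.induction_on with
      | zero => rw [map_zero, map_zero, map_zero, map_zero]
      | tmul p q =>
        rw [lamS_tmul, TensorProduct.map_tmul, lamS_tmul, map_smul]
        rfl
      | add x y hx hy => rw [map_add, map_add, hx, hy, map_add, map_add]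
    refine ⟨((u⁻¹ : Aˣ) : A) • lamS χ C (Coalgebra.comul (R := A) c₀), ?_⟩
    rw [map_smul, key, CoalgHomClass.map_comp_comul_apply, lamS_cf_comul, ← hu', smul_smul,
      Units.inv_mul, one_smul]
  intro x
  induction x using MonoidAlgebra.induction_linear with
  | zero => exact ⟨0, map_zero _⟩
  | add x y hx hy =>
    obtain ⟨a, rfl⟩ := hx
    obtain ⟨b, rfl⟩ := hy
    exact ⟨a + b, map_add _ _ _⟩
  | single m r =>
    obtain ⟨c, hc⟩ := hgen m
    refine ⟨r • c, ?_⟩
    rw [map_smul, hc, MonoidAlgebra.smul_single, smul_eq_mul, mul_one]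

include hsurj hker hfl in
/-- the trivialization modulo `I` lifts to a surjective bialgebra map `C → A[M]` whose kernel is
generated by an idempotent lying in `I C` -/
theorem exists_core' (hft : Algebra.FiniteType A C) :
    ∃ (φ : C →ₐc[A] MonoidAlgebra A M) (e : C),
      (∀ c : C, Ψb ((1 : Rb) ⊗ₜ[A] c) = MT.monAlgBC A Rb M ((1 : Rb) ⊗ₜ[A] φ c)) ∧
      Function.Surjective φ ∧ IsIdempotentElem e ∧ (∀ x : C, φ x = 0 ↔ x ∈ Ideal.span {e}) ∧
      e ∈ I.map (algebraMap A C) := by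
  classical
  obtain ⟨φ, hφ1, hφ2⟩ := exists_formal_lift' A I Rb hsurj hker C hfl M Ψb
  let φa : C →ₐ[A] MonoidAlgebra A M := (φ : C →ₐ[A] MonoidAlgebra A M)
  let φl : C →ₗ[A] MonoidAlgebra A M := φa.toLinearMap
  let K : Ideal C := RingHom.ker φa
  haveI : IsNoetherianRing C := Algebra.FiniteType.isNoetherianRing A C
  have hKfg : K.FG := IsNoetherian.noetherian K
  have h1 : K ≤ I.map (algebraMap A C) := by
    intro x hx
    have hx0 : φ x = 0 := RingHom.mem_ker.mp hx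
    have h := hφ1 x
    rw [hx0, tmul_zero, map_zero] at h
    have h' : (1 : Rb) ⊗ₜ[A] x = 0 := by
      apply EquivLike.injective Ψb
      rw [h, map_zero]
    have := QI.mem_map_ker_of_one_tmul_eq_zero hsurj C x h'
    rwa [hker] at this
  have h2 : K ≤ I.map (algebraMap A C) • K := by
    intro x hx
    have hx0 : φa x = 0 := RingHom.mem_ker.mp hx
    have hmem : x ∈ LinearMap.ker φl ⊓ I • (⊤ : Submodule A C) := by
      refine ⟨LinearMap.mem_ker.mpr hx0, ?_⟩
      have := h1 hx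
      rw [Ideal.smul_top_eq_map]
      exact this
    have := Groth.Agent.Lib.Helper5.NilFP.ker_inf_smul_top_le φl hφ2 I hmem
    refine Submodule.smul_induction_on this (fun a ha k hk => ?_) (fun p q hp hq => add_mem hp hq)
    have e1 : a • k = algebraMap A C a * k := Algebra.smul_def a k
    rw [e1]
    have hk' : k ∈ K := RingHom.mem_ker.mpr (show φa k = 0 from LinearMap.mem_ker.mp hk)
    exact Submodule.smul_mem_smul (Ideal.mem_map_of_mem _ ha) hk'
  obtain ⟨r, hr1, hr2⟩ := Submodule.exists_sub_one_mem_and_smul_eq_zero_of_fg_of_le_smul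
    (I.map (algebraMap A C)) K hKfg h2
  have hu : IsUnit (Coalgebra.counit (R := A) r : A) := by
    have h3 : Coalgebra.counit (R := A) (r - 1) ∈ I := by
      have := map_mem_of_mem I (Coalgebra.counit (R := A) : C →ₗ[A] A) hr1
      rwa [Algebra.algebraMap_self, Ideal.map_id] at this
    have h4 := (Ideal.mem_jacobson_bot.mp (IsAdicComplete.le_jacobson_bot I h3)) 1
    rw [mul_one, map_sub, Bialgebra.counit_one, sub_add_cancel] at h4
    exact h4
  have h5 : ∀ x : C, φ x = 0 → x ∈ K ^ 2 := fun x hx =>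
    ker_le_sq φ hφ2 r (fun z hz => by
      have := hr2 z (RingHom.mem_ker.mpr hz)
      rwa [smul_eq_mul] at this) hu x hx
  have hidem : IsIdempotentElem K := by
    apply le_antisymm
    · exact Ideal.mul_le_right
    · intro x hx
      have := h5 x (RingHom.mem_ker.mp hx)
      rwa [pow_two] at this
  obtain ⟨e, he1, he2⟩ := (Ideal.isIdempotentElem_iff_of_fg K hKfg).mp hidem
  have he2' : Ideal.span {e} = K := he2.symm
  refine ⟨φ, e, hφ1, hφ2, he1, ?_, ?_⟩
  · intro x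
    rw [he2']
    exact RingHom.mem_ker.symm
  · apply h1
    rw [← he2']
    exact Ideal.subset_span rfl

end Core1'

section Cover'

variable (A : Type u) [CommRing A] [IsNoetherianRing A] (I : Ideal A) [IsAdicComplete I A]
  (C : Type u) [CommRing C] [HopfAlgebra A C]

/-- over the lifted cover, the group contains the split group as an open and closed subgroup
which is everything modulo `I` -/
theorem exists_cover_core' (hft : Algebra.FiniteType A C)
    (hfl : ∀ (q : Ideal C) [q.IsPrime], I.map (algebraMap A C) ≤ q →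
      Module.Flat A (Localization.AtPrime q))
    (h0 : SGA3b.IsIsotrivial (A ⧸ I) ((A ⧸ I) ⊗[A] C)) :
    ∃ (A' : Type u) (_ : CommRing A') (_ : Algebra A A'), Algebra.Etale A A' ∧ Module.Finite A A' ∧
      Module.FaithfullyFlat A A' ∧ IsNoetherianRing A' ∧
      IsAdicComplete (I.map (algebraMap A A')) A' ∧
      ∃ (M : Type u) (_ : CommGroup M) (φ : (A' ⊗[A] C) →ₐc[A'] MonoidAlgebra A' M)
        (e : A' ⊗[A] C),
        Function.Surjective φ ∧ IsIdempotentElem e ∧ (∀ x, φ x = 0 ↔ x ∈ Ideal.span {e}) ∧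
        e ∈ (I.map (algebraMap A A')).map (algebraMap A' (A' ⊗[A] C)) := by
  obtain ⟨A', _, _, het, hfin, hff, Rb, _, _, hsurj, hker, M, _, ⟨Ψb⟩⟩ := exists_cover A I C h0
  haveI : IsNoetherianRing A' := IsNoetherianRing.of_finite A A'
  haveI : Module.FinitePresentation A A' := Module.finitePresentation_of_finite A A'
  haveI : Module.Projective A A' := Module.Flat.projective_of_finitePresentation
  haveI : IsAdicComplete I A' := isAdicComplete_of_finite_projective I A'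
  haveI hcomp : IsAdicComplete (I.map (algebraMap A A')) A' :=
    (IsAdicComplete.map_algebraMap_iff I A').mpr inferInstance
  have hft' : Algebra.FiniteType A' (A' ⊗[A] C) := inferInstance
  have hfl' : ∀ n : ℕ, Module.Flat (A' ⧸ (I.map (algebraMap A A')) ^ (n + 1))
      ((A' ⧸ (I.map (algebraMap A A')) ^ (n + 1)) ⊗[A'] (A' ⊗[A] C)) := fun n =>
    flat_pow_quotient (I.map (algebraMap A A'))
      (fun q' _ hq' => flat_at_baseChange I A' hfl q' hq') n
  obtain ⟨φ, e, -, hφ, he1, he2, he3⟩ :=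
    exists_core' A' (I.map (algebraMap A A')) Rb hsurj hker (A' ⊗[A] C) hfl' M Ψb hft'
  exact ⟨A', inferInstance, inferInstance, het, hfin, hff, inferInstance, hcomp, M, inferInstance,
    φ, e, hφ, he1, he2, he3⟩

end Cover'

end

end Groth.Agent.H9.LIF
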