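import Mathlib
import Groth.Prelude.Def_SGA3b
import Groth.Agent.Lib.Helper9.Misc.LIF21
import Groth.Agent.Lib.Helper9.Misc.LIF32

/-!
# The open and closed subgroup of multiplicative type lifting the closed fibre (helper9)
-/

set_option autoImplicit false
set_option linter.unusedSectionVars false
set_option linter.unusedVariables false
set_option linter.style.haveILetI false

namespace Groth.Agent.H9.LIF

open TensorProduct

noncomputable section

universe u

section Idem

theorem idem_mem_pow_smul_top {A : Type u} [CommRing A] {X : Type*} [CommRing X] [Algebra A X]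
    (J : Ideal A) {x : X} (hx : IsIdempotentElem x) (h : x ∈ J • (⊤ : Submodule A X)) (n : ℕ) :
    x ∈ J ^ n • (⊤ : Submodule A X) := by
  induction n with
  | zero =>
    rw [pow_zero, Ideal.one_eq_top, Submodule.top_smul]
    trivial
  | succ n ih =>
    have := mul_mem_smul_top (J ^ n) J ih h
    rwa [hx.eq, ← pow_succ] at this

theorem monoidAlgebra_eq_zero_of_forall_mem {A : Type u} [CommRing A] (J : Ideal A)
    {A' : Type u} [CommRing A'] [Algebra A A']
    (hA' : ∀ x : A', (∀ n, x ∈ J ^ (n + 1) • (⊤ : Submodule A A')) → x = 0)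
    {M : Type u} [CommGroup M] (x : MonoidAlgebra A' M)
    (hx : ∀ n, x ∈ J ^ (n + 1) • (⊤ : Submodule A (MonoidAlgebra A' M))) : x = 0 := by
  apply MonoidAlgebra.ext
  apply Finsupp.ext
  intro m
  rw [MonoidAlgebra.coeff_zero, Finsupp.zero_apply]
  apply hA'
  intro n
  exact GLL.map_mem_smul_top (J ^ (n + 1)) (cf A m) (hx n)

theorem eq_zero_of_forall_mem_projective {A : Type u} [CommRing A] (J : Ideal A)
    (hA : ∀ x : A, (∀ n, x ∈ J ^ (n + 1) • (⊤ : Submodule A A)) → x = 0)
    {P : Type*} [AddCommGroup P] [Module A P] [Module.Projective A P] (x : P)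
    (hx : ∀ n, x ∈ J ^ (n + 1) • (⊤ : Submodule A P)) : x = 0 := by
  obtain ⟨s, hs⟩ := Module.projective_def'.mp (inferInstance : Module.Projective A P)
  have h0 : s x = 0 := by
    apply Finsupp.ext
    intro p
    rw [Finsupp.zero_apply]
    apply hA
    intro n
    exact GLL.map_mem_smul_top (J ^ (n + 1)) ((Finsupp.lapply p : (P →₀ A) →ₗ[A] A) ∘ₗ s) (hx n)
  have h1 := LinearMap.congr_fun hs x
  rw [LinearMap.comp_apply, h0, map_zero, LinearMap.id_apply] at h1
  exact h1.symm

/-- the largest idempotent contained in an ideal of a Noetherian ring -/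
theorem exists_max_idem {C : Type*} [CommRing C] [IsNoetherianRing C] (𝔞 : Ideal C) :
    ∃ e : C, IsIdempotentElem e ∧ e ∈ 𝔞 ∧
      ∀ g : C, IsIdempotentElem g → g ∈ 𝔞 → g * e = g := by
  let S : Set C := {g | IsIdempotentElem g ∧ g ∈ 𝔞}
  let K : Ideal C := Ideal.span S
  have hKfg : K.FG := IsNoetherian.noetherian K
  have hKle : K ≤ 𝔞 := Ideal.span_le.mpr fun g hg => hg.2
  have hidem : IsIdempotentElem K := by
    apply le_antisymm
    · exact Ideal.mul_le_right
    · show Ideal.span S ≤ K * K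
      rw [Ideal.span_le]
      intro g hg
      have h1 : g * g ∈ K * K := Ideal.mul_mem_mul (Ideal.subset_span hg) (Ideal.subset_span hg)
      rwa [hg.1.eq] at h1
  obtain ⟨e, he1, he2⟩ := (Ideal.isIdempotentElem_iff_of_fg K hKfg).mp hidem
  refine ⟨e, he1, hKle (he2.ge (Ideal.subset_span rfl)), fun g hg1 hg2 => ?_⟩
  have h1 : g ∈ Ideal.span {e} := he2.le (Ideal.subset_span ⟨hg1, hg2⟩)
  obtain ⟨y, rfl⟩ := Ideal.mem_span_singleton'.mp h1
  rw [mul_assoc, he1.eq]

end Idem

section Topo2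

variable (A : Type u) [CommRing A] (A' : Type u) [CommRing A'] [Algebra A A']
  (C : Type u) [CommRing C] [Bialgebra A C]

/-- an idempotent of `A' ⊗ C` lying in `𝔞 (A' ⊗ C)` and orthogonal to the largest idempotent of
`C` in `𝔞` vanishes -/
theorem eq_zero_of_idem_of_max [Module.Flat A A'] [Module.Finite A A']
    [Algebra.FinitePresentation A A']
    (𝔞 : Ideal C) (e : C)
    (hmax : ∀ g : C, IsIdempotentElem g → g ∈ 𝔞 → g * e = g)
    (g' : A' ⊗[A] C) (hg' : IsIdempotentElem g')
    (hg'1 : g' ∈ 𝔞.map (iotaR A A' C))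
    (hg'2 : g' * ((1 : A') ⊗ₜ[A] e) = 0) : g' = 0 := by
  classical
  let π := PrimeSpectrum.comap (iotaR A A' C)
  let T : Set (PrimeSpectrum (A' ⊗[A] C)) := PrimeSpectrum.basicOpen g'
  have hT : IsClopen T := PrimeSpectrum.isClopen_iff.mpr ⟨g', hg', rfl⟩
  let V : Set (PrimeSpectrum C) := π '' T
  have hV : IsClopen V :=
    ⟨isClosedMap_comap_iota A A' C _ hT.1, isOpenMap_comap_iota A A' C _ hT.2⟩
  obtain ⟨g, hg, hVg⟩ := PrimeSpectrum.isClopen_iff.mp hV
  have hmemV : ∀ q : PrimeSpectrum C, g ∉ q.asIdeal →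
      ∃ q' : PrimeSpectrum (A' ⊗[A] C), g' ∉ q'.asIdeal ∧ π q' = q := by
    intro q hq
    have h1 : q ∈ V := by
      rw [hVg]
      exact (PrimeSpectrum.mem_basicOpen _ _).mpr hq
    obtain ⟨q', hq'T, hq'⟩ := h1
    exact ⟨q', (PrimeSpectrum.mem_basicOpen _ _).mp hq'T, hq'⟩
  have hg𝔞 : g ∈ 𝔞 := by
    have hrad : g ∈ 𝔞.radical := by
      rw [Ideal.radical_eq_sInf, Ideal.mem_sInf]
      rintro J ⟨hJ1, hJ2⟩
      by_contra hgJ
      obtain ⟨q', hq'1, hq'2⟩ := hmemV ⟨J, hJ2⟩ hgJ
      apply hq'1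
      have h2 : 𝔞.map (iotaR A A' C) ≤ q'.asIdeal := by
        rw [Ideal.map_le_iff_le_comap]
        intro x hx
        have hx' : x ∈ (π q').asIdeal := by
          rw [hq'2]
          exact hJ1 hx
        exact hx'
      exact h2 hg'1
    obtain ⟨k, hk⟩ := hrad
    rcases k with _ | k
    · rw [pow_zero] at hk
      have h3 : 𝔞 = ⊤ := (Ideal.eq_top_iff_one _).mpr hk
      rw [h3]
      trivial
    · rwa [hg.pow_succ_eq] at hk
  have hge : g * e = g := hmax g hg hg𝔞
  have hnil : IsNilpotent (g * e) := by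
    rw [← mem_nilradical, nilradical_eq_sInf, Ideal.mem_sInf]
    intro J hJ
    by_cases hgJ : g ∈ J
    · exact J.mul_mem_right _ hgJ
    · obtain ⟨q', hq'1, hq'2⟩ := hmemV ⟨J, hJ⟩ hgJ
      have h1 : (1 : A') ⊗ₜ[A] e ∈ q'.asIdeal := by
        have h2 : g' * ((1 : A') ⊗ₜ[A] e) ∈ q'.asIdeal := by
          rw [hg'2]
          exact zero_mem _
        exact (q'.isPrime.mem_or_mem h2).resolve_left hq'1
      have h2 : e ∈ (π q').asIdeal := h1
      rw [hq'2] at h2
      exact J.mul_mem_left _ h2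
  have hg0 : g = 0 := by
    rw [← hge]
    obtain ⟨n, hn⟩ := hnil
    have hidem : IsIdempotentElem (g * e) := by
      rw [hge]
      exact hg
    rcases n with _ | n
    · rw [pow_zero] at hn
      rw [← mul_one (g * e), hn, mul_zero]
    · rwa [hidem.pow_succ_eq] at hn
  have hTempty : T = ∅ := by
    apply Set.eq_empty_of_forall_notMem
    intro q' hq'
    have h1 : π q' ∈ V := ⟨q', hq', rfl⟩
    rw [hVg] at h1
    have h2 := (PrimeSpectrum.mem_basicOpen _ _).mp h1
    apply h2
    rw [hg0]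
    exact zero_mem _
  have hnil' : IsNilpotent g' := by
    rw [← PrimeSpectrum.basicOpen_eq_bot_iff]
    exact TopologicalSpace.Opens.ext hTempty
  obtain ⟨n, hn⟩ := hnil'
  rcases n with _ | n
  · rw [pow_zero] at hn
    rw [← mul_one g', hn, mul_zero]
  · rwa [hg'.pow_succ_eq] at hn

end Topo2

section Main

/-- **Open subgroup of multiplicative type.** Let `A` be a Noetherian `I`-adically complete ring
and `H = Spec C` an affine `A`-group of finite type, flat over `A` at the points of `H₀`, with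
`H₀` isotrivial of multiplicative type. Then `H` has an open and closed subgroup which is
isotrivial of multiplicative type and equal to `H₀` modulo `I`. -/
theorem exists_open_subgroup (A : Type u) [CommRing A] [IsNoetherianRing A] (I : Ideal A)
    [IsAdicComplete I A]
    (C : Type u) [CommRing C] [HopfAlgebra A C] (hft : Algebra.FiniteType A C)
    (hfl : ∀ (q : Ideal C) [q.IsPrime], Ideal.map (algebraMap A C) I ≤ q →
      Module.Flat A (Localization.AtPrime q))
    (h0 : SGA3b.IsIsotrivial (A ⧸ I) ((A ⧸ I) ⊗[A] C)) :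
    ∃ e : C, IsIdempotentElem e ∧ e ∈ Ideal.map (algebraMap A C) I ∧
      ∃ _ : (Ideal.span {e}).IsHopfIdeal A, SGA3b.IsIsotrivial A (C ⧸ Ideal.span {e}) := by
  classical
  obtain ⟨A', _, _, het, hfin, hff, hnoeth, hcomp, M, _, φ, e', hφ, he'1, he'2, he'3⟩ :=
    exists_cover_core' A I C hft hfl h0
  haveI := het
  haveI := hfin
  haveI := hff
  haveI := hnoeth
  haveI := hcomp
  haveI : Algebra.FinitePresentation A A' := het.finitePresentation
  haveI : Module.FinitePresentation A A' := Module.finitePresentation_of_finite A A'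
  haveI : Module.Projective A A' := Module.Flat.projective_of_finitePresentation
  haveI : IsNoetherianRing C := Algebra.FiniteType.isNoetherianRing A C
  obtain ⟨e, he, he𝔞, hmax⟩ := exists_max_idem (I.map (algebraMap A C))
  have hA'sep : ∀ x : A', (∀ n, x ∈ (I.map (algebraMap A A')) ^ (n + 1) •
      (⊤ : Submodule A' A')) → x = 0 :=
    fun x => eq_zero_of_hausdorff (I.map (algebraMap A A')) x
  have hAsep : ∀ x : A, (∀ n, x ∈ I ^ (n + 1) • (⊤ : Submodule A A)) → x = 0 :=
    fun x => eq_zero_of_hausdorff I x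
  let φa : (A' ⊗[A] C) →ₐ[A'] MonoidAlgebra A' M := (φ : (A' ⊗[A] C) →ₐ[A'] MonoidAlgebra A' M)
  let φl : (A' ⊗[A] C) →ₗ[A'] MonoidAlgebra A' M := φa.toLinearMap
  -- maximality of `e'`
  have hmax' : ∀ f' : A' ⊗[A] C, IsIdempotentElem f' →
      f' ∈ (I.map (algebraMap A A')).map (algebraMap A' (A' ⊗[A] C)) →
      f' ∈ Ideal.span {e'} := by
    intro f' hf' hf'I
    rw [← he'2]
    have h1 : IsIdempotentElem (φ f') := by
      show φ f' * φ f' = φ f'
      rw [← map_mul, hf'.eq]
    have h2 : φ f' ∈ (I.map (algebraMap A A')) •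
        (⊤ : Submodule A' (MonoidAlgebra A' M)) := by
      have h3 : f' ∈ (I.map (algebraMap A A')) • (⊤ : Submodule A' (A' ⊗[A] C)) := by
        rw [Ideal.smul_top_eq_map]
        exact hf'I
      exact GLL.map_mem_smul_top _ φl h3
    apply monoidAlgebra_eq_zero_of_forall_mem (I.map (algebraMap A A')) hA'sep
    intro n
    exact idem_mem_pow_smul_top _ h1 h2 (n + 1)
  have hιe : IsIdempotentElem ((1 : A') ⊗ₜ[A] e) := by
    show (1 : A') ⊗ₜ[A] e * (1 : A') ⊗ₜ[A] e = _
    rw [Algebra.TensorProduct.tmul_mul_tmul, one_mul, he.eq]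
  have hcompeq : (algebraMap A' (A' ⊗[A] C)).comp (algebraMap A A') =
      (iotaR A A' C).comp (algebraMap A C) := by
    ext a
    show (algebraMap A A' a) ⊗ₜ[A] (1 : C) = (1 : A') ⊗ₜ[A] (algebraMap A C a)
    rw [Algebra.algebraMap_eq_smul_one, Algebra.algebraMap_eq_smul_one (A := C),
      TensorProduct.smul_tmul]
  have hmapeq : (I.map (algebraMap A A')).map (algebraMap A' (A' ⊗[A] C)) =
      (I.map (algebraMap A C)).map (iotaR A A' C) := by
    rw [Ideal.map_map, Ideal.map_map, hcompeq]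
  have h1e_mem : (1 : A') ⊗ₜ[A] e ∈ Ideal.span {e'} := by
    apply hmax' _ hιe
    rw [hmapeq]
    exact Ideal.mem_map_of_mem (iotaR A A' C) he𝔞
  have hg'0 : e' * (1 - (1 : A') ⊗ₜ[A] e) = 0 := by
    apply eq_zero_of_idem_of_max A A' C (I.map (algebraMap A C)) e hmax
    · exact he'1.mul hιe.one_sub
    · rw [← hmapeq]
      exact Ideal.mul_mem_right _ _ he'3
    · rw [mul_assoc, sub_mul, one_mul, hιe.eq, sub_self, mul_zero]
  have hee' : e' = (1 : A') ⊗ₜ[A] e := by
    obtain ⟨y, hy⟩ := Ideal.mem_span_singleton'.mp h1e_mem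
    have h2 : e' = e' * ((1 : A') ⊗ₜ[A] e) := by
      have h3 := hg'0
      rw [mul_sub, mul_one, sub_eq_zero] at h3
      exact h3
    have h3 : ((1 : A') ⊗ₜ[A] e) * e' = (1 : A') ⊗ₜ[A] e := by
      rw [← hy, mul_assoc, he'1.eq]
    calc e' = e' * ((1 : A') ⊗ₜ[A] e) := h2
      _ = ((1 : A') ⊗ₜ[A] e) * e' := mul_comm _ _
      _ = (1 : A') ⊗ₜ[A] e := h3
  subst hee'
  -- the map `ψ : C → A'[M]`
  let ψ : C →ₐ[A] MonoidAlgebra A' M :=
    (φa.restrictScalars A).comp Algebra.TensorProduct.includeRight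
  have hψ_apply : ∀ c, ψ c = φ ((1 : A') ⊗ₜ[A] c) := fun c => rfl
  have hψker : ∀ c : C, ψ c = 0 ↔ c ∈ Ideal.span {e} := by
    intro c
    rw [hψ_apply, he'2]
    constructor
    · intro h
      obtain ⟨y, hy⟩ := Ideal.mem_span_singleton'.mp h
      have h1 : ((1 : A') ⊗ₜ[A] c) * (1 - (1 : A') ⊗ₜ[A] e) = 0 := by
        rw [← hy, mul_assoc, mul_sub, mul_one, hιe.eq, sub_self, mul_zero]
      have h2 : (1 : A') ⊗ₜ[A] (c * (1 - e)) = 0 := by
        have e1 : ((1 : A') ⊗ₜ[A] c) * (1 - (1 : A') ⊗ₜ[A] e) =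
            (1 : A') ⊗ₜ[A] (c * (1 - e)) := by
          rw [mul_sub ((1 : A') ⊗ₜ[A] c), mul_one, Algebra.TensorProduct.tmul_mul_tmul, one_mul,
            mul_sub c, mul_one, TensorProduct.tmul_sub]
        rw [← e1, h1]
      have h3 : c * (1 - e) = 0 :=
        (Module.FaithfullyFlat.one_tmul_eq_zero_iff A C (A := A') _).mp h2
      rw [Ideal.mem_span_singleton']
      refine ⟨c, ?_⟩
      rw [mul_sub, mul_one, sub_eq_zero] at h3
      exact h3.symm
    · intro h
      obtain ⟨y, rfl⟩ := Ideal.mem_span_singleton'.mp h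
      rw [Ideal.mem_span_singleton']
      refine ⟨(1 : A') ⊗ₜ[A] y, ?_⟩
      rw [Algebra.TensorProduct.tmul_mul_tmul, one_mul]
  -- the quotient is a retract of `A'[M]`, hence projective
  obtain ⟨σ, hσ⟩ := exists_retraction A A'
  let mk : C →ₐ[A] (C ⧸ Ideal.span {e}) := Ideal.Quotient.mkₐ A (Ideal.span {e})
  let ψbar : (C ⧸ Ideal.span {e}) →ₐ[A] MonoidAlgebra A' M :=
    Ideal.Quotient.liftₐ (Ideal.span {e}) ψ (fun x hx => (hψker x).mpr hx)
  have hψbar_mk : ∀ c, ψbar (Ideal.Quotient.mk (Ideal.span {e}) c) = ψ c := fun c => rfl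
  let τ : A' ⊗[A] C →ₗ[A] (C ⧸ Ideal.span {e}) :=
    (TensorProduct.lid A (C ⧸ Ideal.span {e})).toLinearMap ∘ₗ TensorProduct.map σ mk.toLinearMap
  have hτ : ∀ (a' : A') (c : C), τ (a' ⊗ₜ[A] c) = σ a' • mk c := fun a' c => rfl
  have hmke : ∀ c : C, mk (c * e) = 0 := fun c =>
    Ideal.Quotient.eq_zero_iff_mem.mpr (Ideal.mul_mem_left _ _ (Ideal.subset_span rfl))
  have hτe : ∀ w : A' ⊗[A] C, τ (w * ((1 : A') ⊗ₜ[A] e)) = 0 := by
    intro w
    induction w using TensorProduct.induction_on with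
    | zero => rw [zero_mul, map_zero]
    | tmul a' c => rw [Algebra.TensorProduct.tmul_mul_tmul, mul_one, hτ, hmke, smul_zero]
    | add x y hx hy => rw [add_mul, map_add, hx, hy, add_zero]
  let φlA : A' ⊗[A] C →ₗ[A] MonoidAlgebra A' M := φl.restrictScalars A
  have hφlA_surj : Function.Surjective φlA := hφ
  have hτker : LinearMap.ker φlA ≤ LinearMap.ker τ := by
    intro z hz
    have hz' : z ∈ Ideal.span {(1 : A') ⊗ₜ[A] e} := (he'2 z).mp hz
    obtain ⟨w, rfl⟩ := Ideal.mem_span_singleton'.mp hz'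
    exact hτe w
  let ρ : MonoidAlgebra A' M →ₗ[A] (C ⧸ Ideal.span {e}) :=
    ((LinearMap.ker φlA).liftQ τ hτker) ∘ₗ
      (φlA.quotKerEquivOfSurjective hφlA_surj).symm.toLinearMap
  have hρ : ∀ z, ρ (φ z) = τ z := by
    intro z
    show ((LinearMap.ker φlA).liftQ τ hτker)
      ((φlA.quotKerEquivOfSurjective hφlA_surj).symm (φlA z)) = τ z
    have h1 : (φlA.quotKerEquivOfSurjective hφlA_surj).symm (φlA z) =
        Submodule.Quotient.mk z := by
      rw [LinearEquiv.symm_apply_eq]
      rfl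
    rw [h1, Submodule.liftQ_apply]
  have hρψ : ρ.comp ψbar.toLinearMap = LinearMap.id := by
    apply LinearMap.ext
    intro x
    obtain ⟨c, rfl⟩ := Ideal.Quotient.mk_surjective x
    show ρ (ψbar (Ideal.Quotient.mk _ c)) = Ideal.Quotient.mk _ c
    rw [hψbar_mk, hψ_apply, hρ, hτ, hσ, one_smul]
    rfl
  haveI : Module.Free A (MonoidAlgebra A M) :=
    Module.Free.of_equiv (MonoidAlgebra.coeffLinearEquiv A (S := A) (M := M)).symm
  haveI : Module.Projective A (MonoidAlgebra A' M) :=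
    Module.Projective.of_equiv'
      (((MT.monAlgBC A A' M).toCoalgEquiv.toLinearEquiv).restrictScalars A)
  haveI : Module.Projective A (C ⧸ Ideal.span {e}) :=
    Module.Projective.of_split ψbar.toLinearMap ρ hρψ
  -- the counit kills `e`
  have he_smul : e ∈ I • (⊤ : Submodule A C) := by
    rw [Ideal.smul_top_eq_map]
    exact he𝔞
  have hεe : Coalgebra.counit (R := A) e = 0 := by
    apply hAsep
    intro n
    apply idem_mem_pow_smul_top I _ _ (n + 1)
    · show _ * _ = _
      rw [← Bialgebra.counit_mul, he.eq]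
    · exact GLL.map_mem_smul_top I (Coalgebra.counit (R := A) : C →ₗ[A] A) he_smul
  -- the comultiplication of `e` vanishes in the tensor square of the quotient
  let Pq : C ⊗[A] C →ₐ[A] (C ⧸ Ideal.span {e}) ⊗[A] (C ⧸ Ideal.span {e}) :=
    Algebra.TensorProduct.map mk mk
  have hPqΔe : Pq (Coalgebra.comul (R := A) e) = 0 := by
    apply eq_zero_of_forall_mem_projective I hAsep
    intro n
    apply idem_mem_pow_smul_top I _ _ (n + 1)
    · show Pq (Coalgebra.comul (R := A) e) * Pq (Coalgebra.comul (R := A) e) =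
        Pq (Coalgebra.comul (R := A) e)
      rw [← map_mul, ← Bialgebra.comul_mul, he.eq]
    · exact GLL.map_mem_smul_top I
        (Pq.toLinearMap ∘ₗ (Coalgebra.comul (R := A) : C →ₗ[A] C ⊗[A] C)) he_smul
  -- the antipode of `e`
  have hSe : HopfAlgebra.antipode A e ∈ Ideal.span {e} := by
    have h1 : IsIdempotentElem (HopfAlgebra.antipode A e) := by
      show _ * _ = _
      rw [← HopfAlgebra.antipode_mul_distrib, he.eq]
    have h2 : HopfAlgebra.antipode A e ∈ I.map (algebraMap A C) :=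
      map_mem_of_mem I (HopfAlgebra.antipode A : C →ₗ[A] C) he𝔞
    have h3 := hmax _ h1 h2
    rw [← h3]
    exact Ideal.mul_mem_left _ _ (Ideal.subset_span rfl)
  have hco : ((Ideal.span {e}).restrictScalars A).IsCoideal := by
    refine ⟨?_, ?_⟩
    · intro x hx
      have hx' : x ∈ Ideal.span {e} := hx
      obtain ⟨y, rfl⟩ := Ideal.mem_span_singleton'.mp hx'
      rw [Bialgebra.counit_mul, hεe, mul_zero]
    · intro x hx
      have hx' : x ∈ Ideal.span {e} := hx
      obtain ⟨y, rfl⟩ := Ideal.mem_span_singleton'.mp hx'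
      show Pq (Coalgebra.comul (R := A) (y * e)) = 0
      rw [Bialgebra.comul_mul, map_mul, hPqΔe, mul_zero]
  have hHopf : (Ideal.span {e}).IsHopfIdeal A := by
    haveI := hco
    refine ⟨?_⟩
    intro x hx
    obtain ⟨y, rfl⟩ := Ideal.mem_span_singleton'.mp hx
    rw [HopfAlgebra.antipode_mul_distrib]
    exact Ideal.mul_mem_left _ _ hSe
  haveI := hHopf
  refine ⟨e, he, he𝔞, hHopf, ?_⟩
  -- the isomorphism `A' ⊗ (C / e) ≃ A'[M]`
  let mkB : C →ₐc[A] (C ⧸ Ideal.span {e}) := Bialgebra.Quotient.mkBialgHom (Ideal.span {e})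
  let π' : (A' ⊗[A] C) →ₐc[A'] (A' ⊗[A] (C ⧸ Ideal.span {e})) :=
    Bialgebra.TensorProduct.map (BialgHom.id A' A') mkB
  have hπ'_tmul : ∀ (a' : A') (c : C),
      π' (a' ⊗ₜ[A] c) = a' ⊗ₜ[A] (Ideal.Quotient.mk (Ideal.span {e}) c) := fun a' c => by
    rw [Bialgebra.TensorProduct.map_tmul]
    rfl
  have hπ'surj : Function.Surjective π' := by
    intro z
    induction z using TensorProduct.induction_on with
    | zero => exact ⟨0, map_zero _⟩
    | tmul a' x =>
      obtain ⟨c, rfl⟩ := Ideal.Quotient.mk_surjective x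
      exact ⟨a' ⊗ₜ[A] c, hπ'_tmul a' c⟩
    | add x y hx hy =>
      obtain ⟨a, rfl⟩ := hx
      obtain ⟨b, rfl⟩ := hy
      exact ⟨a + b, map_add _ _ _⟩
  let χa : (A' ⊗[A] (C ⧸ Ideal.span {e})) →ₐ[A'] MonoidAlgebra A' M :=
    Algebra.TensorProduct.lift (Algebra.ofId A' (MonoidAlgebra A' M)) ψbar
      (fun _ _ => Commute.all _ _)
  have hχπ : ∀ z, χa (π' z) = φ z := by
    intro z
    induction z using TensorProduct.induction_on with
    | zero => rw [map_zero, map_zero, map_zero]
    | tmul a' c =>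
      rw [hπ'_tmul, Algebra.TensorProduct.lift_tmul, hψbar_mk, hψ_apply, Algebra.ofId_apply,
        ← Algebra.smul_def, ← map_smul, TensorProduct.smul_tmul', smul_eq_mul, mul_one]
    | add x y hx hy => rw [map_add, map_add, map_add, hx, hy]
  have hχsurj : Function.Surjective χa := fun y => by
    obtain ⟨z, rfl⟩ := hφ y
    exact ⟨π' z, hχπ z⟩
  have hχinj : Function.Injective χa := by
    rw [injective_iff_map_eq_zero]
    intro w hw
    obtain ⟨z, rfl⟩ := hπ'surj w
    rw [hχπ] at hw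
    obtain ⟨y, rfl⟩ := Ideal.mem_span_singleton'.mp ((he'2 z).mp hw)
    have h1 : (Ideal.Quotient.mk (Ideal.span {e})) e = 0 :=
      Ideal.Quotient.eq_zero_iff_mem.mpr (Ideal.subset_span rfl)
    rw [map_mul, hπ'_tmul, h1, TensorProduct.tmul_zero, mul_zero]
  let χ : (A' ⊗[A] (C ⧸ Ideal.span {e})) →ₐc[A'] MonoidAlgebra A' M :=
    BialgHom.ofAlgHom χa
      (by
        apply AlgHom.ext
        intro w
        obtain ⟨z, rfl⟩ := hπ'surj w
        show Coalgebra.counit (R := A') (χa (π' z)) = Coalgebra.counit (R := A') (π' z)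
        rw [hχπ, CoalgHomClass.counit_comp_apply, CoalgHomClass.counit_comp_apply])
      (by
        apply AlgHom.ext
        intro w
        obtain ⟨z, rfl⟩ := hπ'surj w
        show Algebra.TensorProduct.map χa χa (Coalgebra.comul (R := A') (π' z)) =
          Coalgebra.comul (R := A') (χa (π' z))
        rw [hχπ, ← CoalgHomClass.map_comp_comul_apply π' z,
          ← CoalgHomClass.map_comp_comul_apply φ z]
        generalize Coalgebra.comul (R := A') z = t
        induction t using TensorProduct.induction_on with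
        | zero => rw [map_zero, map_zero, map_zero]
        | tmul x y =>
          rw [TensorProduct.map_tmul, TensorProduct.map_tmul]
          show χa (π' x) ⊗ₜ[A'] χa (π' y) = φ x ⊗ₜ[A'] φ y
          rw [hχπ, hχπ]
        | add x y hx hy => rw [map_add, map_add, map_add, hx, hy])
  exact ⟨A', inferInstance, inferInstance, het, hfin, hff, M, inferInstance,
    ⟨BialgEquiv.ofBijective χ ⟨hχinj, hχsurj⟩⟩⟩

end Main

end

end Groth.Agent.H9.LIF
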