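import Mathlib
import Groth.Prelude.Def_SGA3b
import Groth.Agent.Lib.Helper9.Misc.LIF15
import Groth.Agent.Lib.Helper9.Misc.LIF5

/-!
# Flat deformations of quasi-isotrivial groups along a nilpotent surjection (helper9)

The `Rb`-style version (an arbitrary surjection `R → Rb` with nilpotent kernel instead of
`R → R ⧸ I`) of `isQuasiIsotrivial_of_flat_of_nilpotent`, and small transport lemmas.
-/

set_option autoImplicit false
set_option linter.unusedSectionVars false
set_option linter.unusedVariables false
set_option linter.style.haveILetI false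

namespace Groth.Agent.H9.LIF

open TensorProduct SGA3b Groth.Agent.H9.GLL

noncomputable section

universe u

section Away

variable {R : Type u} [CommRing R] {Rb : Type u} [CommRing Rb] (g : R →+* Rb)

theorem awayMap_surjective' (hg : Function.Surjective g) (f : R) :
    Function.Surjective (Localization.awayMap g f) := by
  rw [Localization.awayMap_surjective_iff]
  intro a
  obtain ⟨b, rfl⟩ := hg a
  exact ⟨b, 0, by rw [pow_zero, one_mul]⟩

theorem ker_awayMap_le' (f : R) :
    RingHom.ker (Localization.awayMap g f) ≤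
      (RingHom.ker g).map (algebraMap R (Localization.Away f)) := by
  intro x hx
  rw [RingHom.mem_ker] at hx
  obtain ⟨⟨a, ⟨_, n, rfl⟩⟩, hax⟩ := IsLocalization.surj (Submonoid.powers f) x
  have hax' : x * algebraMap R (Localization.Away f) (f ^ n) =
      algebraMap R (Localization.Away f) a := hax
  have h1 : Localization.awayMap g f (algebraMap R (Localization.Away f) a) = 0 := by
    rw [← hax', map_mul, hx, zero_mul]
  have h2 : Localization.awayMap g f (algebraMap R (Localization.Away f) a) =
      algebraMap Rb (Localization.Away (g f)) (g a) :=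
    IsLocalization.map_eq _ a
  rw [h2] at h1
  obtain ⟨⟨_, k, rfl⟩, hk⟩ := (IsLocalization.map_eq_zero_iff
    (Submonoid.powers (g f)) (Localization.Away (g f)) _).mp h1
  have hk' : (g f) ^ k * g a = 0 := hk
  have h3 : f ^ k * a ∈ RingHom.ker g := by
    rw [RingHom.mem_ker, map_mul, map_pow]
    exact hk'
  have hu : IsUnit (algebraMap R (Localization.Away f) f) :=
    IsLocalization.Away.algebraMap_isUnit f
  have h4 : x * (algebraMap R (Localization.Away f) (f ^ n) *
      algebraMap R (Localization.Away f) (f ^ k)) ∈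
      (RingHom.ker g).map (algebraMap R (Localization.Away f)) := by
    rw [← mul_assoc, hax', ← map_mul, mul_comm]
    exact Ideal.mem_map_of_mem _ h3
  have hu2 : IsUnit (algebraMap R (Localization.Away f) (f ^ n) *
      algebraMap R (Localization.Away f) (f ^ k)) := by
    rw [map_pow, map_pow]
    exact (hu.pow n).mul (hu.pow k)
  exact (Ideal.mul_unit_mem_iff_mem _ hu2).mp h4

theorem awayMap_ker_le_nilradical' (hnil : ∀ x ∈ RingHom.ker g, IsNilpotent x) (f : R) :
    RingHom.ker (Localization.awayMap g f) ≤ nilradical (Localization.Away f) := by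
  intro x hx
  rw [mem_nilradical]
  exact isNilpotent_of_mem_map _ hnil (ker_awayMap_le' g f hx)

end Away

section Transport

variable {R : Type u} [CommRing R] {A₁ : Type u} [CommRing A₁] [HopfAlgebra R A₁]
  {A₂ : Type u} [CommRing A₂] [HopfAlgebra R A₂]

theorem isQuasiIsotrivial_of_bialgEquiv (e : A₁ ≃ₐc[R] A₂) (h : IsQuasiIsotrivial R A₁) :
    IsQuasiIsotrivial R A₂ := by
  obtain ⟨s, hs, hloc⟩ := h
  refine ⟨s, hs, fun f hf => ?_⟩
  obtain ⟨R', _, _, hEt, hFF, M, _, ⟨e'⟩⟩ := hloc f hf
  exact ⟨R', inferInstance, inferInstance, hEt, hFF, M, inferInstance,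
    ⟨(MT.bcEquiv R' (MT.bcEquiv (Localization.Away f) e)).symm.trans e'⟩⟩

theorem isMultType_of_isQuasiIsotrivial (h : IsQuasiIsotrivial R A₁) : IsMultType R A₁ := by
  obtain ⟨s, hs, hloc⟩ := h
  refine ⟨s, hs, fun f hf => ?_⟩
  obtain ⟨R', _, _, hEt, hFF, hD⟩ := hloc f hf
  exact ⟨R', inferInstance, inferInstance, hFF, hD⟩

theorem isMultTypeConst_of_isIsotrivial (h : IsIsotrivial R A₁) : IsMultTypeConst R A₁ := by
  obtain ⟨R', _, _, hEt, hfin, hFF, hD⟩ := h
  exact ⟨R', inferInstance, inferInstance, hFF, hD⟩

theorem isMultType_baseChange_of_isIsotrivial (S : Type u) [CommRing S] [Algebra R S]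
    (h : IsIsotrivial R A₁) : IsMultType S (S ⊗[R] A₁) :=
  MT.isMultType_of_isMultTypeConst
    (MT.isMultTypeConst_baseChange S (isMultTypeConst_of_isIsotrivial h))

end Transport

section QI

variable (R : Type u) [CommRing R] (Rb : Type u) [CommRing Rb] [Algebra R Rb]
  (hsurj : Function.Surjective (algebraMap R Rb)) (N : ℕ)
  (hn : RingHom.ker (algebraMap R Rb) ^ N = ⊥)
  (A : Type u) [CommRing A] [HopfAlgebra R A] [Module.Flat R A]

include hsurj hn in
/-- a flat affine group whose reduction along a surjection with nilpotent kernel is a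
quasi-isotrivial group of multiplicative type is quasi-isotrivial of multiplicative type -/
theorem isQuasiIsotrivial_of_flat_of_nilpotent' 
    (h0 : IsQuasiIsotrivial Rb (Rb ⊗[R] A)) : IsQuasiIsotrivial R A := by
  have hI' : ∀ x ∈ RingHom.ker (algebraMap R Rb), IsNilpotent x := fun x hx => ⟨N, by
    have := Ideal.pow_mem_pow hx N
    rw [hn] at this
    exact this⟩
  obtain ⟨s₀, hs₀, hloc⟩ := h0
  refine ⟨{f | algebraMap R Rb f ∈ s₀}, ?_, ?_⟩
  · have h1 : Ideal.map (algebraMap R Rb)
        (Ideal.span {f | algebraMap R Rb f ∈ s₀}) = ⊤ := by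
      rw [Ideal.map_span, ← hs₀]
      congr 1
      ext y
      constructor
      · rintro ⟨f, hf, rfl⟩
        exact hf
      · intro hy
        obtain ⟨f, rfl⟩ := hsurj y
        exact ⟨f, hy, rfl⟩
    have h2 : (1 : Rb) ∈ Ideal.map (algebraMap R Rb)
        (Ideal.span {f | algebraMap R Rb f ∈ s₀}) := by
      rw [h1]
      exact Submodule.mem_top
    obtain ⟨a, ha, ha1⟩ :=
      (Ideal.mem_map_iff_of_surjective _ hsurj).mp h2
    have h3 : a - 1 ∈ RingHom.ker (algebraMap R Rb) := by
      rw [RingHom.mem_ker, map_sub, ha1, map_one, sub_self]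
    have h4 : IsUnit a := by
      have := (hI' _ h3).isUnit_add_one
      rwa [sub_add_cancel] at this
    exact Ideal.eq_top_of_isUnit_mem _ ha h4
  · intro f hf
    obtain ⟨E, _, _, hEt, hFF, hD⟩ := hloc (algebraMap R Rb f) hf
    obtain ⟨S, _, _, hSEt, hSFF, πS, hπS, hkerS, hcompat, -⟩ :=
      exists_lift_package' (Localization.awayMap (algebraMap R Rb) f)
        (awayMap_surjective' (algebraMap R Rb) hsurj f)
        (awayMap_ker_le_nilradical' (algebraMap R Rb) hI' f) E
    refine ⟨S, inferInstance, inferInstance, hSEt, hSFF, ?_⟩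
    letI algSE : Algebra S E := πS.toAlgebra
    letI algRS : Algebra R S := Algebra.compHom S (algebraMap R (Localization.Away f))
    haveI : IsScalarTower R (Localization.Away f) S := IsScalarTower.of_algebraMap_eq fun _ => rfl
    letI algR₀E : Algebra Rb E :=
      Algebra.compHom E (algebraMap Rb (Localization.Away (algebraMap R Rb f)))
    haveI : IsScalarTower Rb (Localization.Away (algebraMap R Rb f)) E :=
      IsScalarTower.of_algebraMap_eq fun _ => rfl
    letI algRE : Algebra R E := Algebra.compHom E (algebraMap R Rb)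
    haveI : IsScalarTower R Rb E := IsScalarTower.of_algebraMap_eq fun _ => rfl
    haveI : IsScalarTower R S E := IsScalarTower.of_algebraMap_eq fun r => by
      show algebraMap (Localization.Away (algebraMap R Rb f)) E
          (algebraMap Rb (Localization.Away (algebraMap R Rb f))
            (algebraMap R Rb r)) =
        πS (algebraMap (Localization.Away f) S (algebraMap R (Localization.Away f) r))
      rw [hcompat]
      congr 1
      exact (IsLocalization.map_eq _ r).symm
    obtain ⟨M, _, ⟨e'⟩⟩ := hD
    have hDE : IsDiag E (E ⊗[S] (S ⊗[R] A)) :=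
      ⟨M, inferInstance, ⟨(Groth.Agent.H9.MT.cancelBC R S E A).trans
        ((Groth.Agent.H9.MT.cancelBC R Rb E A).symm.trans
        ((Groth.Agent.H9.MT.cancelBC Rb (Localization.Away (algebraMap R Rb f)) E
          (Rb ⊗[R] A)).symm.trans e'))⟩⟩
    have hsurjSE : Function.Surjective (algebraMap S E) := hπS
    have hnSE : RingHom.ker (algebraMap S E) ^ N = ⊥ := by
      have e1 : RingHom.ker (algebraMap S E) = RingHom.ker πS := rfl
      rw [e1, hkerS, eq_bot_iff]
      refine (Ideal.pow_right_mono (Ideal.map_mono (ker_awayMap_le' (algebraMap R Rb) f)) N).trans ?_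
      rw [Ideal.map_map, ← Ideal.map_pow, hn, Ideal.map_bot]
    obtain ⟨M', _, ⟨e''⟩⟩ := isDiag_of_flat_deformation N S E hsurjSE hnSE (S ⊗[R] A) hDE
    exact ⟨M', inferInstance,
      ⟨(Groth.Agent.H9.MT.cancelBC R (Localization.Away f) S A).trans e''⟩⟩

end QI

end

end Groth.Agent.H9.LIF
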