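import Mathlib
import Groth.Prelude.Def_SGA3b
import Groth.Agent.Lib.Helper9.Misc.GLL5

/-!
# Lifting homomorphisms into a group of multiplicative type over a chart of the source (helper9)
-/

set_option autoImplicit false
set_option linter.unusedSectionVars false
set_option linter.unusedVariables false
set_option linter.style.haveILetI false

namespace Groth.Agent.H9.LIF

open TensorProduct SGA3b Groth.Agent.H9.GLL Groth.Agent.H9.MultT

noncomputable section

universe u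

section Conv

variable {R : Type u} [CommRing R] (K : Ideal R) {T : Type u} [CommRing T] [Algebra R T]
  {X : Type u} [AddCommGroup X] [Module R X] [Module T X] [IsScalarTower R T X]

/-- `K • ⊤` (over `R`) is stable under multiplication by `T` -/
theorem smul_mem_smul_top (t : T) {x : X} (hx : x ∈ K • (⊤ : Submodule R X)) :
    t • x ∈ K • (⊤ : Submodule R X) := by
  induction hx using Submodule.smul_induction_on' with
  | smul r hr a _ =>
    rw [smul_comm]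
    exact Submodule.smul_mem_smul hr Submodule.mem_top
  | add x y _ _ hx hy =>
    rw [smul_add]
    exact add_mem hx hy

theorem mem_map_smul_top_of_mem {x : X} (hx : x ∈ K • (⊤ : Submodule R X)) :
    x ∈ (K.map (algebraMap R T)) • (⊤ : Submodule T X) := by
  induction hx using Submodule.smul_induction_on' with
  | smul r hr a _ =>
    rw [← algebraMap_smul T r a]
    exact Submodule.smul_mem_smul (Ideal.mem_map_of_mem _ hr) Submodule.mem_top
  | add x y _ _ hx hy => exact add_mem hx hy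

theorem mem_smul_top_of_mem_smul_top' (J : Ideal T)
    (hJ : ∀ t ∈ J, t ∈ K • (⊤ : Submodule R T)) {x : X}
    (hx : x ∈ J • (⊤ : Submodule T X)) : x ∈ K • (⊤ : Submodule R X) := by
  induction hx using Submodule.smul_induction_on' with
  | smul t ht a _ =>
    exact map_mem_smul_top K ((LinearMap.toSpanSingleton T X a).restrictScalars R) (hJ t ht)
  | add x y _ _ hx hy => exact add_mem hx hy

end Conv

section GLHom

variable {R : Type u} [CommRing R] (R₀ : Type u) [CommRing R₀] [Algebra R R₀]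
  (hq : Function.Surjective (algebraMap R R₀))
  (hker : ∀ x : R, algebraMap R R₀ x = 0 → IsNilpotent x)
  {A : Type u} [CommRing A] [HopfAlgebra R A]

include hq hker in
/-- a multiplicative family of group-like elements modulo a nil ideal lifts to a homomorphism
into the group-like elements of a group of multiplicative type -/
theorem exists_groupLike_hom (h : HasCharts R A) {N : Type u} [CommGroup N]
    (χ : N → R₀ ⊗[R] A) (hχ : ∀ n, IsGroupLikeElem R₀ (χ n)) (hχ1 : χ 1 = 1)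
    (hχm : ∀ n m, χ (n * m) = χ n * χ m) :
    ∃ γ : N →* A, (∀ n, IsGroupLikeElem R (γ n)) ∧ ∀ n, (1 : R₀) ⊗ₜ[R] γ n = χ n := by
  classical
  have hI : ∀ x ∈ RingHom.ker (algebraMap R R₀), IsNilpotent x := fun x hx => hker x hx
  have hex : ∀ m : N, ∃ g : A, IsGroupLikeElem R g ∧ (1 : R₀) ⊗ₜ[R] g = χ m := by
    intro m
    have hχ' := hχ m
    obtain ⟨b, hb⟩ := Groth.Agent.H9.Miln.exists_one_tmul hq (χ m)
    rw [hb] at hχ'
    have hb1 : Coalgebra.comul (R := R) b - b ⊗ₜ[R] b ∈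
        RingHom.ker (algebraMap R R₀) • (⊤ : Submodule R (A ⊗[R] A)) := by
      apply Groth.Agent.H9.Miln.mem_smul_top_of_tmul_eq_zero hq
      apply (TensorProduct.AlgebraTensorModule.distribBaseChange R R₀ A A).injective
      rw [← defect_one_tmul, hχ'.comul_eq_tmul_self, sub_self, map_zero]
    have hb2 : Coalgebra.counit (R := R) b - 1 ∈ RingHom.ker (algebraMap R R₀) := by
      rw [RingHom.mem_ker, map_sub, map_one, ← counit_one_tmul R₀ b, hχ'.counit_eq_one, sub_self]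
    obtain ⟨g, hg, hgb⟩ := exists_groupLike_lift _ hI h b hb1 hb2
    refine ⟨g, hg, ?_⟩
    rw [hb, ← sub_eq_zero, ← TensorProduct.tmul_sub]
    exact one_tmul_eq_zero_of_mem_smul_top hgb
  choose g hg hgχ using hex
  have huniq : ∀ a a' : A, IsGroupLikeElem R a → IsGroupLikeElem R a' →
      (1 : R₀) ⊗ₜ[R] a = (1 : R₀) ⊗ₜ[R] a' → a = a' := by
    intro a a' ha ha' haa
    apply groupLike_unique _ hI h ha ha'
    apply Groth.Agent.H9.Miln.mem_smul_top_of_tmul_eq_zero hq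
    rw [TensorProduct.tmul_sub, haa, sub_self]
  refine ⟨{ toFun := g, map_one' := ?_, map_mul' := ?_ }, hg, hgχ⟩
  · apply huniq _ _ (hg 1) IsGroupLikeElem.one
    rw [hgχ, hχ1, Algebra.TensorProduct.one_def]
  · intro m m'
    apply huniq _ _ (hg _) ((hg m).mul (hg m'))
    have e1 : (1 : R₀) ⊗ₜ[R] (g m * g m') =
        ((1 : R₀) ⊗ₜ[R] g m) * ((1 : R₀) ⊗ₜ[R] g m') := by
      rw [Algebra.TensorProduct.tmul_mul_tmul, mul_one]
    rw [e1, hgχ, hgχ, hgχ, hχm]

end GLHom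

section Theta

variable {R : Type u} [CommRing R] (R₀ : Type u) [CommRing R₀] [Algebra R R₀]
  {C : Type u} [CommRing C] [HopfAlgebra R C] {B : Type u} [CommRing B] [HopfAlgebra R B]
  (φb : R₀ ⊗[R] C →ₐc[R₀] R₀ ⊗[R] B)
  (T : Type u) [CommRing T] [Algebra R T]
  (T₀ : Type u) [CommRing T₀] [Algebra R T₀] [Algebra T T₀] [Algebra R₀ T₀]
  [IsScalarTower R T T₀] [IsScalarTower R R₀ T₀]

/-- the base change of `φb` to `T₀`, seen over `T` -/
def chartTheta : T₀ ⊗[T] (T ⊗[R] C) →ₐc[T₀] T₀ ⊗[T] (T ⊗[R] B) :=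
  ((MT.cancelBC R T T₀ B).symm : T₀ ⊗[R] B →ₐc[T₀] T₀ ⊗[T] (T ⊗[R] B)).comp
    (((MT.cancelBC R R₀ T₀ B) : T₀ ⊗[R₀] (R₀ ⊗[R] B) →ₐc[T₀] T₀ ⊗[R] B).comp
      ((Bialgebra.TensorProduct.map (BialgHom.id T₀ T₀) φb).comp
        (((MT.cancelBC R R₀ T₀ C).symm : T₀ ⊗[R] C →ₐc[T₀] T₀ ⊗[R₀] (R₀ ⊗[R] C)).comp
          ((MT.cancelBC R T T₀ C) : T₀ ⊗[T] (T ⊗[R] C) →ₐc[T₀] T₀ ⊗[R] C))))

theorem chartTheta_apply (z : T₀ ⊗[T] (T ⊗[R] C)) :
    chartTheta R₀ φb T T₀ z = (MT.cancelBC R T T₀ B).symm (MT.cancelBC R R₀ T₀ B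
      (Bialgebra.TensorProduct.map (BialgHom.id T₀ T₀) φb
        ((MT.cancelBC R R₀ T₀ C).symm (MT.cancelBC R T T₀ C z)))) := rfl

theorem chartTheta_one_tmul (c : C) (b : B) (h : φb ((1 : R₀) ⊗ₜ[R] c) = (1 : R₀) ⊗ₜ[R] b) :
    chartTheta R₀ φb T T₀ ((1 : T₀) ⊗ₜ[T] ((1 : T) ⊗ₜ[R] c)) =
      (1 : T₀) ⊗ₜ[T] ((1 : T) ⊗ₜ[R] b) := by
  rw [chartTheta_apply, MT.cancelBC_tmul, one_smul, MT.cancelBC_symm_tmul,
    Bialgebra.TensorProduct.map_tmul, h, BialgHom.id_apply, MT.cancelBC_tmul, one_smul,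
    MT.cancelBC_symm_tmul]

end Theta

section ChartHom0

variable {R : Type u} [CommRing R] (R₀ : Type u) [CommRing R₀] [Algebra R R₀]
  {C : Type u} [CommRing C] [HopfAlgebra R C] {B : Type u} [CommRing B] [HopfAlgebra R B]
  (hB : HasCharts R B) (φb : R₀ ⊗[R] C →ₐc[R₀] R₀ ⊗[R] B)
  {T : Type u} [CommRing T] [Algebra R T] {N : Type u} [CommGroup N]
  (e : T ⊗[R] C ≃ₐc[T] MonoidAlgebra T N)
  (T₀ : Type u) [CommRing T₀] [Algebra R T₀] [Algebra T T₀] [Algebra R₀ T₀]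
  [IsScalarTower R T T₀] [IsScalarTower R R₀ T₀]
  (hqT : Function.Surjective (algebraMap T T₀))
  (hkerT : ∀ x : T, algebraMap T T₀ x = 0 → IsNilpotent x)

include hB e hqT hkerT in
theorem exists_chartHom0 :
    ∃ Φ : T ⊗[R] C →ₐc[T] T ⊗[R] B, ∀ (c : C) (b : B),
      φb ((1 : R₀) ⊗ₜ[R] c) = (1 : R₀) ⊗ₜ[R] b →
      (1 : T₀) ⊗ₜ[T] Φ ((1 : T) ⊗ₜ[R] c) = (1 : T₀) ⊗ₜ[T] ((1 : T) ⊗ₜ[R] b) := by
  classical
  let χ : N → T₀ ⊗[T] (T ⊗[R] B) := fun n =>
    chartTheta R₀ φb T T₀ ((1 : T₀) ⊗ₜ[T] e.symm (MonoidAlgebra.single n 1))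
  have hχ : ∀ n, IsGroupLikeElem T₀ (χ n) := fun n =>
    (isGroupLikeElem_one_tmul T₀
      ((MonoidAlgebra.isGroupLikeElem_single_one n).map e.symm)).map (chartTheta R₀ φb T T₀)
  have hχ1 : χ 1 = 1 := by
    show chartTheta R₀ φb T T₀ ((1 : T₀) ⊗ₜ[T] e.symm (MonoidAlgebra.single 1 1)) = 1
    rw [← MonoidAlgebra.one_def, map_one, ← Algebra.TensorProduct.one_def, map_one]
  have hχm : ∀ n m, χ (n * m) = χ n * χ m := by
    intro n m
    have e1 : (MonoidAlgebra.single (n * m) (1 : T) : MonoidAlgebra T N) =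
        MonoidAlgebra.single n 1 * MonoidAlgebra.single m 1 := by
      rw [MonoidAlgebra.single_mul_single, mul_one]
    show chartTheta R₀ φb T T₀ ((1 : T₀) ⊗ₜ[T] e.symm (MonoidAlgebra.single (n * m) 1)) =
      chartTheta R₀ φb T T₀ ((1 : T₀) ⊗ₜ[T] e.symm (MonoidAlgebra.single n 1)) *
        chartTheta R₀ φb T T₀ ((1 : T₀) ⊗ₜ[T] e.symm (MonoidAlgebra.single m 1))
    rw [e1, map_mul, ← map_mul (chartTheta R₀ φb T T₀), Algebra.TensorProduct.tmul_mul_tmul,
      mul_one]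
  obtain ⟨γ, hγ, hγχ⟩ := exists_groupLike_hom T₀ hqT hkerT
    (hasCharts_baseChange T hB) χ hχ hχ1 hχm
  have hΦ0 : ∀ x : MonoidAlgebra T N, (1 : T₀) ⊗ₜ[T] liftBialg γ hγ x =
      chartTheta R₀ φb T T₀ ((1 : T₀) ⊗ₜ[T] e.symm x) := by
    intro x
    induction x using MonoidAlgebra.induction_linear with
    | zero => rw [map_zero, map_zero, TensorProduct.tmul_zero, TensorProduct.tmul_zero, map_zero]
    | add x y hx hy => rw [map_add, map_add, TensorProduct.tmul_add, TensorProduct.tmul_add,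
        map_add, hx, hy]
    | single n a =>
      have e1 : (MonoidAlgebra.single n a : MonoidAlgebra T N) = a • MonoidAlgebra.single n 1 := by
        rw [MonoidAlgebra.smul_single, smul_eq_mul, mul_one]
      rw [e1, map_smul, map_smul, TensorProduct.tmul_smul, TensorProduct.tmul_smul,
        ← algebraMap_smul T₀ a ((1 : T₀) ⊗ₜ[T] e.symm (MonoidAlgebra.single n 1)),
        map_smul, algebraMap_smul, liftBialg_single, one_smul, hγχ]
  refine ⟨(liftBialg γ hγ).comp (e : T ⊗[R] C →ₐc[T] MonoidAlgebra T N), fun c b h => ?_⟩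
  show (1 : T₀) ⊗ₜ[T] liftBialg γ hγ (e ((1 : T) ⊗ₜ[R] c)) = _
  rw [hΦ0, BialgEquiv.symm_apply_apply, chartTheta_one_tmul R₀ φb T T₀ c b h]

end ChartHom0

section ChartHom

variable {R : Type u} [CommRing R] (R₀ : Type u) [CommRing R₀] [Algebra R R₀]
  (hq : Function.Surjective (algebraMap R R₀))
  (hker : ∀ x : R, algebraMap R R₀ x = 0 → IsNilpotent x)
  {C : Type u} [CommRing C] [HopfAlgebra R C] {B : Type u} [CommRing B] [HopfAlgebra R B]
  (hB : HasCharts R B) (φb : R₀ ⊗[R] C →ₐc[R₀] R₀ ⊗[R] B)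
  {T : Type u} [CommRing T] [Algebra R T] {N : Type u} [CommGroup N]
  (e : T ⊗[R] C ≃ₐc[T] MonoidAlgebra T N)

include hq hker hB e in
/-- over a chart of the source, a homomorphism modulo a nil ideal into a group of multiplicative
type lifts -/
theorem exists_chartHom :
    ∃ Φ : T ⊗[R] C →ₐc[T] T ⊗[R] B, ∀ (c : C) (b : B),
      φb ((1 : R₀) ⊗ₜ[R] c) = (1 : R₀) ⊗ₜ[R] b →
      Φ ((1 : T) ⊗ₜ[R] c) - (1 : T) ⊗ₜ[R] b ∈
        RingHom.ker (algebraMap R R₀) • (⊤ : Submodule R (T ⊗[R] B)) := by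
  classical
  letI : Algebra T (R₀ ⊗[R] T) := Algebra.TensorProduct.rightAlgebra
  haveI : IsScalarTower R T (R₀ ⊗[R] T) := Algebra.TensorProduct.right_isScalarTower
  have hI : ∀ x ∈ RingHom.ker (algebraMap R R₀), IsNilpotent x := fun x hx => hker x hx
  have hqT : Function.Surjective (algebraMap T (R₀ ⊗[R] T)) := by
    intro z
    obtain ⟨x, hx⟩ := Groth.Agent.H9.Miln.exists_one_tmul hq z
    exact ⟨x, hx.symm⟩
  have hkT : ∀ x : T, algebraMap T (R₀ ⊗[R] T) x = 0 →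
      x ∈ RingHom.ker (algebraMap R R₀) • (⊤ : Submodule R T) := by
    intro x hx
    have hx' : (1 : R₀) ⊗ₜ[R] x = 0 := hx
    exact Groth.Agent.H9.Miln.mem_smul_top_of_tmul_eq_zero hq x hx'
  have hkerT : ∀ x : T, algebraMap T (R₀ ⊗[R] T) x = 0 → IsNilpotent x := fun x hx =>
    isNilpotent_of_mem_map _ hI (mem_map_of_mem_smul_top _ (hkT x hx))
  obtain ⟨Φ, hΦ⟩ := exists_chartHom0 R₀ hB φb e (R₀ ⊗[R] T) hqT hkerT
  refine ⟨Φ, fun c b h => ?_⟩
  have h1 := hΦ c b h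
  have h2 : (1 : R₀ ⊗[R] T) ⊗ₜ[T] (Φ ((1 : T) ⊗ₜ[R] c) - (1 : T) ⊗ₜ[R] b) = 0 := by
    rw [TensorProduct.tmul_sub, h1, sub_self]
  have h3 := Groth.Agent.H9.Miln.mem_smul_top_of_tmul_eq_zero hqT _ h2
  exact mem_smul_top_of_mem_smul_top' _ _ (fun t ht => hkT t ht) h3

end ChartHom

end

end Groth.Agent.H9.LIF
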