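import Mathlib
import Groth.Prelude.Def_SGA3b
import Groth.Agent.Lib.Helper9.Misc.LIF35

/-!
# Compatibility on overlaps of liftings of a homomorphism over charts (helper9)
-/

set_option autoImplicit false
set_option linter.unusedSectionVars false
set_option linter.unusedVariables false
set_option linter.style.haveILetI false

namespace Groth.Agent.H9.LIF

open TensorProduct SGA3b Groth.Agent.H9.GLL Groth.Agent.H9.MultT

noncomputable section

universe u

section BCHom

variable {R : Type u} [CommRing R] {C : Type u} [CommRing C] [HopfAlgebra R C]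
  {B : Type u} [CommRing B] [HopfAlgebra R B]
  {T : Type u} [CommRing T] [Algebra R T]
  (W : Type u) [CommRing W] [Algebra R W] [Algebra T W] [IsScalarTower R T W]

/-- base change of a homomorphism over `T` to a `T`-algebra `W` -/
def bcHom (Φ : T ⊗[R] C →ₐc[T] T ⊗[R] B) : W ⊗[R] C →ₐc[W] W ⊗[R] B :=
  ((MT.cancelBC R T W B) : W ⊗[T] (T ⊗[R] B) →ₐc[W] W ⊗[R] B).comp
    ((Bialgebra.TensorProduct.map (BialgHom.id W W) Φ).comp
      ((MT.cancelBC R T W C).symm : W ⊗[R] C →ₐc[W] W ⊗[T] (T ⊗[R] C)))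

theorem bcHom_apply (Φ : T ⊗[R] C →ₐc[T] T ⊗[R] B) (z : W ⊗[R] C) :
    bcHom W Φ z = MT.cancelBC R T W B (Bialgebra.TensorProduct.map (BialgHom.id W W) Φ
      ((MT.cancelBC R T W C).symm z)) := rfl

theorem cancelBC_one_tmul (z : T ⊗[R] B) :
    MT.cancelBC R T W B ((1 : W) ⊗ₜ[T] z) =
      LinearMap.rTensor B (IsScalarTower.toAlgHom R T W).toLinearMap z := by
  induction z using TensorProduct.induction_on with
  | zero => simp
  | add a b ha hb => rw [TensorProduct.tmul_add, map_add, map_add, ha, hb]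
  | tmul s a =>
    rw [MT.cancelBC_tmul, LinearMap.rTensor_tmul, AlgHom.toLinearMap_apply,
      IsScalarTower.coe_toAlgHom', Algebra.smul_def, mul_one]

theorem bcHom_one_tmul (Φ : T ⊗[R] C →ₐc[T] T ⊗[R] B) (c : C) :
    bcHom W Φ ((1 : W) ⊗ₜ[R] c) =
      LinearMap.rTensor B (IsScalarTower.toAlgHom R T W).toLinearMap (Φ ((1 : T) ⊗ₜ[R] c)) := by
  rw [bcHom_apply, MT.cancelBC_symm_tmul, Bialgebra.TensorProduct.map_tmul, BialgHom.id_apply,
    cancelBC_one_tmul]

end BCHom

section Compat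

variable {R : Type u} [CommRing R] (K : Ideal R) (hK : ∀ x ∈ K, IsNilpotent x)
  {C : Type u} [CommRing C] [HopfAlgebra R C] {B : Type u} [CommRing B] [HopfAlgebra R B]
  (hB : HasCharts R B)
  {T : Type u} [CommRing T] [Algebra R T] {N : Type u} [CommGroup N]
  (e : T ⊗[R] C ≃ₐc[T] MonoidAlgebra T N)
  {T' : Type u} [CommRing T'] [Algebra R T']
  (Φ : T ⊗[R] C →ₐc[T] T ⊗[R] B) (Φ' : T' ⊗[R] C →ₐc[T'] T' ⊗[R] B)
  {W : Type u} [CommRing W] [Algebra R W] (ψ : T →ₐ[R] W) (ψ' : T' →ₐ[R] W)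

include hK hB e in
/-- two homomorphisms over charts, which agree modulo a nil ideal, agree on the overlap -/
theorem chart_compat
    (h : ∀ c : C, ∃ b : B,
      Φ ((1 : T) ⊗ₜ[R] c) - (1 : T) ⊗ₜ[R] b ∈ K • (⊤ : Submodule R (T ⊗[R] B)) ∧
      Φ' ((1 : T') ⊗ₜ[R] c) - (1 : T') ⊗ₜ[R] b ∈ K • (⊤ : Submodule R (T' ⊗[R] B)))
    (c : C) :
    LinearMap.rTensor B ψ.toLinearMap (Φ ((1 : T) ⊗ₜ[R] c)) =
      LinearMap.rTensor B ψ'.toLinearMap (Φ' ((1 : T') ⊗ₜ[R] c)) := by
  classical
  letI algTW : Algebra T W := ψ.toRingHom.toAlgebra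
  haveI : IsScalarTower R T W := IsScalarTower.of_algebraMap_eq (fun r => (ψ.commutes r).symm)
  letI algT'W : Algebra T' W := ψ'.toRingHom.toAlgebra
  haveI : IsScalarTower R T' W := IsScalarTower.of_algebraMap_eq (fun r => (ψ'.commutes r).symm)
  have hψ : IsScalarTower.toAlgHom R T W = ψ := AlgHom.ext fun _ => rfl
  have hψ' : IsScalarTower.toAlgHom R T' W = ψ' := AlgHom.ext fun _ => rfl
  have h0 : ∀ c : C, bcHom W Φ ((1 : W) ⊗ₜ[R] c) - bcHom W Φ' ((1 : W) ⊗ₜ[R] c) ∈
      K • (⊤ : Submodule R (W ⊗[R] B)) := by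
    intro c
    obtain ⟨b, hb, hb'⟩ := h c
    rw [bcHom_one_tmul, bcHom_one_tmul, hψ, hψ']
    have e1 := map_mem_smul_top K (LinearMap.rTensor B ψ.toLinearMap) hb
    have e2 := map_mem_smul_top K (LinearMap.rTensor B ψ'.toLinearMap) hb'
    rw [map_sub, LinearMap.rTensor_tmul, AlgHom.toLinearMap_apply, map_one] at e1 e2
    have := Submodule.sub_mem _ e1 e2
    rwa [sub_sub_sub_cancel_right] at this
  have hA : ∀ z : W ⊗[R] C, bcHom W Φ z - bcHom W Φ' z ∈
      K • (⊤ : Submodule R (W ⊗[R] B)) := by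
    intro z
    induction z using TensorProduct.induction_on with
    | zero =>
      rw [map_zero, map_zero, sub_self]
      exact zero_mem _
    | add x y hx hy =>
      rw [map_add, map_add, add_sub_add_comm]
      exact add_mem hx hy
    | tmul w c =>
      have e1 : w ⊗ₜ[R] c = w • ((1 : W) ⊗ₜ[R] c) := by
        rw [TensorProduct.smul_tmul', smul_eq_mul, mul_one]
      rw [e1, map_smul, map_smul, ← smul_sub]
      exact smul_mem_smul_top K w (h0 c)
  have hBc : ∀ n : N, bcHom W Φ ((bcTriv W e).symm (MonoidAlgebra.single n 1)) =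
      bcHom W Φ' ((bcTriv W e).symm (MonoidAlgebra.single n 1)) := by
    intro n
    have hg : IsGroupLikeElem W ((bcTriv W e).symm (MonoidAlgebra.single n 1)) :=
      (MonoidAlgebra.isGroupLikeElem_single_one n).map (bcTriv W e).symm
    apply groupLike_unique (K.map (algebraMap R W))
      (fun x hx => isNilpotent_of_mem_map K hK hx) (hasCharts_baseChange W hB)
      (hg.map (bcHom W Φ)) (hg.map (bcHom W Φ'))
    exact mem_map_smul_top_of_mem K (hA _)
  have hC : ∀ z : W ⊗[R] C, bcHom W Φ z = bcHom W Φ' z := by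
    intro z
    obtain ⟨x, rfl⟩ := EquivLike.surjective (bcTriv W e).symm z
    induction x using MonoidAlgebra.induction_linear with
    | zero => rw [map_zero, map_zero, map_zero]
    | add x y hx hy => rw [map_add, map_add, map_add, hx, hy]
    | single n a =>
      have e1 : (MonoidAlgebra.single n a : MonoidAlgebra W N) = a • MonoidAlgebra.single n 1 := by
        rw [MonoidAlgebra.smul_single, smul_eq_mul, mul_one]
      rw [e1, map_smul, map_smul, map_smul, hBc]
  have := hC ((1 : W) ⊗ₜ[R] c)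
  rw [bcHom_one_tmul, bcHom_one_tmul, hψ, hψ'] at this
  exact this

end Compat

end

end Groth.Agent.H9.LIF
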