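import Mathlib
import Groth.Prelude.Def_SGA3b
import Groth.Agent.Lib.Helper9.Misc.LIF36

/-!
# Lifting homomorphisms between groups of multiplicative type along a nil ideal (helper9)
-/

set_option autoImplicit false
set_option linter.unusedSectionVars false
set_option linter.unusedVariables false
set_option linter.style.haveILetI false

namespace Groth.Agent.H9.LIF

open TensorProduct SGA3b Groth.Agent.H9.GLL Groth.Agent.H9.MultT

noncomputable section

universe u

section Glue

variable {R : Type u} [CommRing R] (R₀ : Type u) [CommRing R₀] [Algebra R R₀]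
  (hq : Function.Surjective (algebraMap R R₀))
  (hker : ∀ x : R, algebraMap R R₀ x = 0 → IsNilpotent x)
  {C : Type u} [CommRing C] [HopfAlgebra R C] {B : Type u} [CommRing B] [HopfAlgebra R B]
  (hC : HasCharts R C) (hB : HasCharts R B)

include hq hker hC hB in
/-- homomorphisms between groups of multiplicative type lift along a surjection of the base with
nil kernel -/
theorem exists_lift_of_hasCharts (φb : R₀ ⊗[R] C →ₐc[R₀] R₀ ⊗[R] B) :
    ∃ φ : C →ₐc[R] B, ∀ c : C, φb ((1 : R₀) ⊗ₜ[R] c) = (1 : R₀) ⊗ₜ[R] φ c := by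
  classical
  have hK : ∀ x ∈ RingHom.ker (algebraMap R R₀), IsNilpotent x := fun x hx => hker x hx
  have hβex : ∀ c : C, ∃ b : B, φb ((1 : R₀) ⊗ₜ[R] c) = (1 : R₀) ⊗ₜ[R] b := fun c =>
    Groth.Agent.H9.Miln.exists_one_tmul hq _
  choose β hβ using hβex
  obtain ⟨s, hs, hloc⟩ := exists_charts hC
  have h1 : (1 : R) ∈ Ideal.span s := by
    rw [hs]
    exact Submodule.mem_top
  obtain ⟨t, hts, ht1⟩ := Submodule.mem_span_finite_of_mem_span h1
  have hr : Ideal.span (Set.range fun i : ↥t => (i : R)) = ⊤ := by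
    rw [Ideal.eq_top_iff_one]
    have e1 : (Set.range fun i : ↥t => (i : R)) = (t : Set R) := by
      ext x
      simp
    rw [e1]
    exact ht1
  have ch : ∀ i : ↥t, Chart R C (i : R) := fun i => (hloc i.1 (hts i.2)).some
  choose Φ hΦ using fun i : ↥t => exists_chartHom R₀ hq hker hB φb (ch i).e
  have hcompat : ∀ (c : C) (i j : ↥t),
      LinearMap.rTensor B (Algebra.TensorProduct.includeLeft :
          (ch i).T →ₐ[R] (ch i).T ⊗[R] (ch j).T).toLinearMap (Φ i ((1 : (ch i).T) ⊗ₜ[R] c)) =
        LinearMap.rTensor B (Algebra.TensorProduct.includeRight :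
          (ch j).T →ₐ[R] (ch i).T ⊗[R] (ch j).T).toLinearMap (Φ j ((1 : (ch j).T) ⊗ₜ[R] c)) := by
    intro c i j
    exact chart_compat (RingHom.ker (algebraMap R R₀)) hK hB (ch i).e (Φ i) (Φ j) _ _
      (fun c' => ⟨β c', hΦ i c' _ (hβ c'), hΦ j c' _ (hβ c')⟩) c
  have hglue : ∀ c : C, ∃ b : B, ∀ i : ↥t,
      (1 : (ch i).T) ⊗ₜ[R] b = Φ i ((1 : (ch i).T) ⊗ₜ[R] c) := fun c =>
    exists_glue (fun i : ↥t => (i : R)) hr (fun i => (ch i).T) (fun i => (ch i).cov)
      (fun i => Φ i ((1 : (ch i).T) ⊗ₜ[R] c)) (hcompat c)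
  choose φf hφf using hglue
  have hinjB : ∀ b b' : B,
      (∀ i : ↥t, (1 : (ch i).T) ⊗ₜ[R] b = (1 : (ch i).T) ⊗ₜ[R] b') → b = b' := by
    intro b b' hbb
    rw [← sub_eq_zero]
    refine eq_zero_of_cov_module hr _ ?_
    rintro f ⟨i, rfl⟩
    refine ⟨(ch i).T, inferInstance, inferInstance, (ch i).cov, ?_⟩
    rw [TensorProduct.tmul_sub, hbb i, sub_self]
  let lam : ∀ i : ↥t, C →ₐ[R] (ch i).T ⊗[R] B := fun i =>
    (((Φ i : (ch i).T ⊗[R] C →ₐc[(ch i).T] (ch i).T ⊗[R] B) :
      (ch i).T ⊗[R] C →ₐ[(ch i).T] (ch i).T ⊗[R] B).restrictScalars R).comp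
      Algebra.TensorProduct.includeRight
  have hφf' : ∀ (c : C) (i : ↥t),
      (Algebra.TensorProduct.includeRight : B →ₐ[R] (ch i).T ⊗[R] B) (φf c) = lam i c :=
    fun c i => hφf c i
  have hinjB' : ∀ b b' : B,
      (∀ i : ↥t, (Algebra.TensorProduct.includeRight : B →ₐ[R] (ch i).T ⊗[R] B) b =
        (Algebra.TensorProduct.includeRight : B →ₐ[R] (ch i).T ⊗[R] B) b') → b = b' :=
    fun b b' h => hinjB b b' h
  let φalg : C →ₐ[R] B :=
    { toFun := φf
      map_one' := by
        apply hinjB'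
        intro i
        rw [hφf', map_one, map_one]
      map_mul' := fun c c' => by
        apply hinjB'
        intro i
        rw [hφf', map_mul, map_mul, hφf', hφf']
      map_zero' := by
        apply hinjB'
        intro i
        rw [hφf', map_zero, map_zero]
      map_add' := fun c c' => by
        apply hinjB'
        intro i
        rw [hφf', map_add, map_add, hφf', hφf']
      commutes' := fun r => by
        apply hinjB'
        intro i
        rw [hφf', AlgHom.commutes, AlgHom.commutes] }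
  have hφalg : ∀ c, φalg c = φf c := fun c => rfl
  have hcounit : ∀ c, Coalgebra.counit (R := R) (φf c) = Coalgebra.counit (R := R) c := by
    intro c
    rw [← sub_eq_zero]
    refine eq_zero_of_cov hr _ ?_
    rintro f ⟨i, rfl⟩
    refine ⟨(ch i).T, inferInstance, inferInstance, (ch i).cov, ?_⟩
    rw [map_sub, ← counit_one_tmul, ← counit_one_tmul, hφf c i, sub_eq_zero]
    exact CoalgHomClass.counit_comp_apply (Φ i) _
  have hcomul : ∀ c, Algebra.TensorProduct.map φalg φalg (Coalgebra.comul (R := R) c) =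
      Coalgebra.comul (R := R) (φf c) := by
    intro c
    rw [← sub_eq_zero]
    refine eq_zero_of_cov_module hr _ ?_
    rintro f ⟨i, rfl⟩
    refine ⟨(ch i).T, inferInstance, inferInstance, (ch i).cov, ?_⟩
    apply (TensorProduct.AlgebraTensorModule.distribBaseChange R (ch i).T B B).injective
    rw [map_zero, TensorProduct.tmul_sub, map_sub, sub_eq_zero]
    have e2 : TensorProduct.AlgebraTensorModule.distribBaseChange R (ch i).T B B
        ((1 : (ch i).T) ⊗ₜ[R] Coalgebra.comul (R := R) (φf c)) =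
        Coalgebra.comul (R := (ch i).T) ((1 : (ch i).T) ⊗ₜ[R] φf c) := by
      rw [Groth.Agent.H9.CommGrp.comul_baseChange', LinearMap.lTensor_tmul]
    rw [e2, hφf c i, ← CoalgHomClass.map_comp_comul_apply (Φ i),
      Groth.Agent.H9.CommGrp.comul_baseChange', LinearMap.lTensor_tmul]
    generalize Coalgebra.comul (R := R) c = z
    induction z using TensorProduct.induction_on with
    | zero => simp
    | add x y hx hy =>
      rw [map_add, TensorProduct.tmul_add, map_add, hx, hy, TensorProduct.tmul_add, map_add,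
        map_add]
    | tmul c₁ c₂ =>
      rw [Algebra.TensorProduct.map_tmul,
        TensorProduct.AlgebraTensorModule.distribBaseChange_tmul,
        TensorProduct.AlgebraTensorModule.distribBaseChange_tmul, TensorProduct.map_tmul,
        hφalg, hφalg, hφf c₁ i, hφf c₂ i]
      rfl
  let φ : C →ₐc[R] B := BialgHom.ofAlgHom φalg
    (by
      apply AlgHom.ext
      intro c
      exact hcounit c)
    (by
      apply AlgHom.ext
      intro c
      exact hcomul c)
  have hφ : ∀ c, φ c = φf c := fun c => rfl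
  refine ⟨φ, fun c => ?_⟩
  rw [hβ c, ← sub_eq_zero, ← TensorProduct.tmul_sub, hφ]
  apply one_tmul_eq_zero_of_mem_smul_top
  refine (Submodule.Quotient.mk_eq_zero _).mp ?_
  refine eq_zero_of_cov_module hr _ ?_
  rintro f ⟨i, rfl⟩
  refine ⟨(ch i).T, inferInstance, inferInstance, (ch i).cov, ?_⟩
  have e1 : (1 : (ch i).T) ⊗ₜ[R] (Submodule.Quotient.mk (β c - φf c) :
        B ⧸ (RingHom.ker (algebraMap R R₀) • (⊤ : Submodule R B))) =
      LinearMap.lTensor (ch i).T (RingHom.ker (algebraMap R R₀) • (⊤ : Submodule R B)).mkQ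
        ((1 : (ch i).T) ⊗ₜ[R] (β c - φf c)) := by
    rw [LinearMap.lTensor_tmul]
    rfl
  rw [e1, TensorProduct.tmul_sub, hφf c i]
  apply lTensor_mkQ_eq_zero
  have := hΦ i c _ (hβ c)
  rw [← neg_sub]
  exact Submodule.neg_mem _ this

end Glue

end

end Groth.Agent.H9.LIF
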