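import Mathlib
import Groth.Prelude.Def_SGA3b
import Groth.Agent.Lib.Helper9.Misc.LIF37
import Groth.Agent.Lib.Helper9.Misc.LIF34
import Groth.Agent.Lib.Helper9.Misc.LIF31
import Groth.Agent.Lib.Helper9.Misc.LIF29
import Groth.Agent.Lib.Helper9.Misc.LIF12
import Groth.Agent.Lib.Helper9.Misc.DUA4
import Groth.Agent.Lib.Helper9.MT.Rigid2

/-!
# Homomorphisms from an isotrivial group of multiplicative type over a complete base into a group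
whose closed fibre is quasi-isotrivial of multiplicative type (SGA 3 IX 7.3) (helper9)
-/

set_option autoImplicit false
set_option linter.unusedSectionVars false
set_option linter.unusedVariables false
set_option linter.style.haveILetI false

namespace Groth.Agent.H9.LIF

open TensorProduct SGA3b Groth.Agent.H9.GLL

noncomputable section

universe u

section RL

variable (A : Type u) [CommRing A]

/-- lifting a homomorphism between groups of multiplicative type from `A ⧸ J` to `A ⧸ J'` when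
`J ^ N ≤ J' ≤ J` -/
theorem exists_lift_quot' (J' J : Ideal A) (hle : J' ≤ J) (N : ℕ) (hpow : J ^ N ≤ J')
    (C : Type u) [CommRing C] [HopfAlgebra A C]
    (B : Type u) [CommRing B] [HopfAlgebra A B]
    (hC : HasCharts (A ⧸ J') ((A ⧸ J') ⊗[A] C)) (hB : HasCharts (A ⧸ J') ((A ⧸ J') ⊗[A] B))
    (φb : ((A ⧸ J) ⊗[A] C) →ₐc[A ⧸ J] ((A ⧸ J) ⊗[A] B)) :
    ∃ φ : ((A ⧸ J') ⊗[A] C) →ₐc[A ⧸ J'] ((A ⧸ J') ⊗[A] B),
      ∀ (c : C) (y : B), φ ((1 : A ⧸ J') ⊗ₜ[A] c) = (1 : A ⧸ J') ⊗ₜ[A] y →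
        φb ((1 : A ⧸ J) ⊗ₜ[A] c) = (1 : A ⧸ J) ⊗ₜ[A] y := by
  have hker : RingHom.ker (algebraMap A (A ⧸ J)) = J := by
    rw [Ideal.Quotient.algebraMap_eq, Ideal.mk_ker]
  have hle' : J' ≤ RingHom.ker (algebraMap A (A ⧸ J)) := by
    rw [hker]
    exact hle
  letI : Algebra (A ⧸ J') (A ⧸ J) := quotAlg J' hle'
  haveI : IsScalarTower A (A ⧸ J') (A ⧸ J) := quotAlg_tower J' hle'
  have hsurj : Function.Surjective (algebraMap (A ⧸ J') (A ⧸ J)) :=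
    quotAlg_surj J' hle' Ideal.Quotient.mk_surjective
  have hn : RingHom.ker (algebraMap (A ⧸ J') (A ⧸ J)) ^ N = ⊥ := by
    rw [eq_bot_iff]
    refine (Ideal.pow_right_mono (quotAlg_ker_le J' hle') N).trans ?_
    rw [hker, ← Ideal.map_pow]
    refine (Ideal.map_mono hpow).trans ?_
    rw [Ideal.map_quotient_self]
  have hnil : ∀ x : A ⧸ J', algebraMap (A ⧸ J') (A ⧸ J) x = 0 → IsNilpotent x := by
    intro x hx
    refine ⟨N, ?_⟩
    have h1 : x ^ N ∈ RingHom.ker (algebraMap (A ⧸ J') (A ⧸ J)) ^ N :=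
      Ideal.pow_mem_pow (RingHom.mem_ker.mpr hx) N
    rw [hn] at h1
    exact h1
  let φb₁ : ((A ⧸ J) ⊗[A ⧸ J'] ((A ⧸ J') ⊗[A] C)) →ₐc[A ⧸ J]
      ((A ⧸ J) ⊗[A ⧸ J'] ((A ⧸ J') ⊗[A] B)) :=
    ((MT.cancelBC A (A ⧸ J') (A ⧸ J) B).symm : ((A ⧸ J) ⊗[A] B) →ₐc[A ⧸ J] _).comp
      (φb.comp ((MT.cancelBC A (A ⧸ J') (A ⧸ J) C) : _ →ₐc[A ⧸ J] ((A ⧸ J) ⊗[A] C)))
  obtain ⟨φ, hφ⟩ := exists_lift_of_hasCharts (A ⧸ J) hsurj hnil hC hB φb₁
  refine ⟨φ, fun c y hy => ?_⟩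
  have h := hφ ((1 : A ⧸ J') ⊗ₜ[A] c)
  rw [hy] at h
  have h' := congrArg (MT.cancelBC A (A ⧸ J') (A ⧸ J) B) h
  rw [MT.cancelBC_tmul, one_smul] at h'
  rw [← h']
  show φb _ = (MT.cancelBC A (A ⧸ J') (A ⧸ J) B)
    ((MT.cancelBC A (A ⧸ J') (A ⧸ J) B).symm
      (φb ((MT.cancelBC A (A ⧸ J') (A ⧸ J) C)
        ((1 : A ⧸ J) ⊗ₜ[A ⧸ J'] ((1 : A ⧸ J') ⊗ₜ[A] c)))))
  rw [BialgEquiv.apply_symm_apply, MT.cancelBC_tmul, one_smul]

/-- the compatible system of liftings of a homomorphism modulo `I` -/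
theorem exists_system' (I : Ideal A)
    (C : Type u) [CommRing C] [HopfAlgebra A C]
    (B : Type u) [CommRing B] [HopfAlgebra A B]
    (hC : ∀ n : ℕ, HasCharts (A ⧸ I ^ (n + 1)) ((A ⧸ I ^ (n + 1)) ⊗[A] C))
    (hB : ∀ n : ℕ, HasCharts (A ⧸ I ^ (n + 1)) ((A ⧸ I ^ (n + 1)) ⊗[A] B))
    (φ₀ : ((A ⧸ I) ⊗[A] C) →ₐc[A ⧸ I] ((A ⧸ I) ⊗[A] B)) :
    ∃ φ : (n : ℕ) → (((A ⧸ I ^ (n + 1)) ⊗[A] C) →ₐc[A ⧸ I ^ (n + 1)]
        ((A ⧸ I ^ (n + 1)) ⊗[A] B)),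
      (∀ (c : C) (y : B), φ 0 ((1 : A ⧸ I ^ (0 + 1)) ⊗ₜ[A] c) = (1 : A ⧸ I ^ (0 + 1)) ⊗ₜ[A] y →
        φ₀ ((1 : A ⧸ I) ⊗ₜ[A] c) = (1 : A ⧸ I) ⊗ₜ[A] y) ∧
      ∀ (n : ℕ) (c : C) (y : B),
        φ (n + 1) ((1 : A ⧸ I ^ (n + 1 + 1)) ⊗ₜ[A] c) = (1 : A ⧸ I ^ (n + 1 + 1)) ⊗ₜ[A] y →
        φ n ((1 : A ⧸ I ^ (n + 1)) ⊗ₜ[A] c) = (1 : A ⧸ I ^ (n + 1)) ⊗ₜ[A] y := by
  have base := exists_lift_quot' A (I ^ (0 + 1)) I (by rw [zero_add, pow_one]) 1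
    (by rw [zero_add, pow_one]) C B (hC 0) (hB 0) φ₀
  have step : ∀ (n : ℕ) (φn : ((A ⧸ I ^ (n + 1)) ⊗[A] C) →ₐc[A ⧸ I ^ (n + 1)]
      ((A ⧸ I ^ (n + 1)) ⊗[A] B)),
      ∃ φ' : ((A ⧸ I ^ (n + 1 + 1)) ⊗[A] C) →ₐc[A ⧸ I ^ (n + 1 + 1)]
        ((A ⧸ I ^ (n + 1 + 1)) ⊗[A] B),
      ∀ (c : C) (y : B),
        φ' ((1 : A ⧸ I ^ (n + 1 + 1)) ⊗ₜ[A] c) = (1 : A ⧸ I ^ (n + 1 + 1)) ⊗ₜ[A] y →
        φn ((1 : A ⧸ I ^ (n + 1)) ⊗ₜ[A] c) = (1 : A ⧸ I ^ (n + 1)) ⊗ₜ[A] y := fun n φn =>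
    exists_lift_quot' A (I ^ (n + 1 + 1)) (I ^ (n + 1)) (Ideal.pow_le_pow_right (Nat.le_succ _)) 2
      (by rw [← pow_mul]; exact Ideal.pow_le_pow_right (by omega)) C B (hC (n + 1)) (hB (n + 1)) φn
  let φ : (n : ℕ) → (((A ⧸ I ^ (n + 1)) ⊗[A] C) →ₐc[A ⧸ I ^ (n + 1)]
      ((A ⧸ I ^ (n + 1)) ⊗[A] B)) := fun n =>
    Nat.rec (motive := fun n => (((A ⧸ I ^ (n + 1)) ⊗[A] C) →ₐc[A ⧸ I ^ (n + 1)]
      ((A ⧸ I ^ (n + 1)) ⊗[A] B))) (Classical.choose base)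
      (fun n φn => Classical.choose (step n φn)) n
  exact ⟨φ, Classical.choose_spec base, fun n => Classical.choose_spec (step n (φ n))⟩

end RL

section Uniq

/-- two homomorphisms into an isotrivial group over a complete Noetherian base which agree modulo
all powers of `I` are equal -/
theorem eq_of_forall_pow (A : Type u) [CommRing A] [IsNoetherianRing A] (I : Ideal A)
    [IsAdicComplete I A]
    (B : Type u) [CommRing B] [HopfAlgebra A B] (hH : IsIsotrivial A B)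
    (C : Type u) [CommRing C] [HopfAlgebra A C] (φ ψ : C →ₐc[A] B)
    (h : ∀ (n : ℕ) (c : C), (1 : A ⧸ I ^ (n + 1)) ⊗ₜ[A] (φ c) = (1 : A ⧸ I ^ (n + 1)) ⊗ₜ[A] (ψ c)) :
    φ = ψ := by
  obtain ⟨R', _, _, het, hfin, hff, M, _, ⟨e⟩⟩ := hH
  apply BialgHom.ext
  intro c
  rw [← sub_eq_zero]
  set z : B := φ c - ψ c with hz
  have hzmem : ∀ n : ℕ, z ∈ (I ^ (n + 1) • ⊤ : Submodule A B) := by
    intro n
    have h1 : (1 : A ⧸ I ^ (n + 1)) ⊗ₜ[A] z = 0 := by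
      rw [hz, TensorProduct.tmul_sub, h n c, sub_self]
    have h2 := congrArg (TensorProduct.quotTensorEquivQuotSMul B (I ^ (n + 1))) h1
    rw [map_zero, ← map_one (Ideal.Quotient.mk (I ^ (n + 1))),
      TensorProduct.quotTensorEquivQuotSMul_mk_tmul, one_smul,
      Submodule.Quotient.mk_eq_zero] at h2
    exact h2
  have hcoeff : ∀ (m : M) (k : ℕ) (x : B), x ∈ (I ^ k • ⊤ : Submodule A B) →
      (e ((1 : R') ⊗ₜ[A] x)).coeff m ∈ (I ^ k • ⊤ : Submodule A R') := by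
    intro m k x hx
    refine Submodule.smul_induction_on hx ?_ ?_
    · intro r hr b _
      have h3 : e ((1 : R') ⊗ₜ[A] (r • b)) = algebraMap A R' r • e ((1 : R') ⊗ₜ[A] b) := by
        rw [TensorProduct.tmul_smul, ← algebraMap_smul R' r ((1 : R') ⊗ₜ[A] b), map_smul e]
      rw [h3, MonoidAlgebra.coeff_smul, Finsupp.smul_apply, smul_eq_mul, ← Algebra.smul_def]
      exact Submodule.smul_mem_smul hr Submodule.mem_top
    · intro x y hx hy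
      rw [TensorProduct.tmul_add, map_add e, MonoidAlgebra.coeff_add, Finsupp.add_apply]
      exact add_mem hx hy
  have hkrull : (⨅ i : ℕ, I ^ i • ⊤ : Submodule A R') = ⊥ :=
    Ideal.iInf_pow_smul_eq_bot_of_le_jacobson I (IsAdicComplete.le_jacobson_bot I)
  have hzero : e ((1 : R') ⊗ₜ[A] z) = 0 := by
    apply MonoidAlgebra.coeff_injective
    ext m
    rw [MonoidAlgebra.coeff_zero, Finsupp.zero_apply]
    have : (e ((1 : R') ⊗ₜ[A] z)).coeff m ∈ (⨅ i : ℕ, I ^ i • ⊤ : Submodule A R') := by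
      rw [Submodule.mem_iInf]
      intro i
      rcases i with _ | i
      · rw [pow_zero, Ideal.one_eq_top, Submodule.top_smul]
        exact Submodule.mem_top
      · exact hcoeff m (i + 1) z (hzmem i)
    rw [hkrull] at this
    exact (Submodule.mem_bot A).1 this
  have h4 : (1 : R') ⊗ₜ[A] z = 0 := by
    apply EquivLike.injective e
    rw [hzero, map_zero e]
  exact (Module.FaithfullyFlat.one_tmul_eq_zero_iff A B z).1 h4

end Uniq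

section Main

variable (A : Type u) [CommRing A] [IsNoetherianRing A] (I : Ideal A) [IsAdicComplete I A]
  (B : Type u) [CommRing B] [HopfAlgebra A B] (hG : IsIsotrivial A B)
  (C : Type u) [CommRing C] [HopfAlgebra A C]
  (hfl : ∀ (q : Ideal C) [q.IsPrime], Ideal.map (algebraMap A C) I ≤ q →
    Module.Flat A (Localization.AtPrime q))
  (h0 : IsQuasiIsotrivial (A ⧸ I) ((A ⧸ I) ⊗[A] C))

include hfl h0 in
/-- the reductions of `C` modulo the powers of `I` are of multiplicative type -/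
theorem isMultType_pow_quotient (n : ℕ) :
    IsMultType (A ⧸ I ^ (n + 1)) ((A ⧸ I ^ (n + 1)) ⊗[A] C) := by
  have hker : RingHom.ker (algebraMap A (A ⧸ I)) = I := by
    rw [Ideal.Quotient.algebraMap_eq, Ideal.mk_ker]
  have hle' : I ^ (n + 1) ≤ RingHom.ker (algebraMap A (A ⧸ I)) := by
    rw [hker]
    exact Ideal.pow_le_self (Nat.succ_ne_zero n)
  letI : Algebra (A ⧸ I ^ (n + 1)) (A ⧸ I) := quotAlg (I ^ (n + 1)) hle'
  haveI : IsScalarTower A (A ⧸ I ^ (n + 1)) (A ⧸ I) := quotAlg_tower (I ^ (n + 1)) hle'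
  have hsurj : Function.Surjective (algebraMap (A ⧸ I ^ (n + 1)) (A ⧸ I)) :=
    quotAlg_surj (I ^ (n + 1)) hle' Ideal.Quotient.mk_surjective
  have hn : RingHom.ker (algebraMap (A ⧸ I ^ (n + 1)) (A ⧸ I)) ^ (n + 1) = ⊥ := by
    rw [eq_bot_iff]
    refine (Ideal.pow_right_mono (quotAlg_ker_le (I ^ (n + 1)) hle') (n + 1)).trans ?_
    rw [hker, ← Ideal.map_pow, Ideal.map_quotient_self]
  haveI : Module.Flat (A ⧸ I ^ (n + 1)) ((A ⧸ I ^ (n + 1)) ⊗[A] C) := flat_pow_quotient I hfl n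
  have h0' : IsQuasiIsotrivial (A ⧸ I)
      ((A ⧸ I) ⊗[A ⧸ I ^ (n + 1)] ((A ⧸ I ^ (n + 1)) ⊗[A] C)) :=
    isQuasiIsotrivial_of_bialgEquiv (MT.cancelBC A (A ⧸ I ^ (n + 1)) (A ⧸ I) C).symm h0
  exact isMultType_of_isQuasiIsotrivial
    (isQuasiIsotrivial_of_flat_of_nilpotent' (A ⧸ I ^ (n + 1)) (A ⧸ I) hsurj (n + 1) hn
      ((A ⧸ I ^ (n + 1)) ⊗[A] C) h0')

include hG hfl h0 in
/-- **SGA 3 IX 7.3**, surjectivity -/
theorem exists_hom_lift (φ₀ : ((A ⧸ I) ⊗[A] C) →ₐc[A ⧸ I] ((A ⧸ I) ⊗[A] B)) :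
    ∃ φ : C →ₐc[A] B, ∀ c : C, φ₀ ((1 : A ⧸ I) ⊗ₜ[A] c) = (1 : A ⧸ I) ⊗ₜ[A] (φ c) := by
  obtain ⟨ψ, hψ0, hstep⟩ := exists_system' A I C B
    (fun n => hasCharts_of_isMultType (isMultType_pow_quotient A I C hfl h0 n))
    (fun n => hasCharts_of_isMultType (isMultType_baseChange_of_isIsotrivial _ hG)) φ₀
  obtain ⟨φ, hφ⟩ := exists_algebraization' A I B hG C (sysOf I ψ hstep)
  have hC2 : ∀ (n : ℕ) (c : C), ψ n ((1 : A ⧸ I ^ (n + 1)) ⊗ₜ[A] c) =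
      (1 : A ⧸ I ^ (n + 1)) ⊗ₜ[A] φ c := by
    intro n c
    have h1 := one_tmul_eq_zero_of_mem (I ^ (n + 1)) _ (hφ n c)
    rw [TensorProduct.tmul_sub, sub_eq_zero, sysOf_b, bOf_spec] at h1
    exact h1.symm
  exact ⟨φ, fun c => hψ0 c (φ c) (hC2 0 c)⟩

include hG hfl h0 in
/-- **SGA 3 IX 7.3**, injectivity -/
theorem hom_eq_of_red_eq (φ ψ : C →ₐc[A] B)
    (h : ∀ c : C, (1 : A ⧸ I) ⊗ₜ[A] (φ c) = (1 : A ⧸ I) ⊗ₜ[A] (ψ c)) : φ = ψ := by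
  apply eq_of_forall_pow A I B hG C φ ψ
  intro n c
  have hBn : IsMultType (A ⧸ I ^ (n + 1)) ((A ⧸ I ^ (n + 1)) ⊗[A] B) :=
    isMultType_baseChange_of_isIsotrivial _ hG
  haveI : Coalgebra.IsCocomm (A ⧸ I ^ (n + 1)) ((A ⧸ I ^ (n + 1)) ⊗[A] C) :=
    Groth.Agent.H9.DUA.isCocomm_of_isMultType (isMultType_pow_quotient A I C hfl h0 n)
  have hnil : IsNilpotent (I.map (algebraMap A (A ⧸ I ^ (n + 1)))) := by
    refine ⟨n + 1, ?_⟩
    rw [← Ideal.map_pow, Ideal.Quotient.algebraMap_eq, Ideal.map_quotient_self]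
    rfl
  have hd : ∀ c : C, φ c - ψ c ∈ I • (⊤ : Submodule A B) := by
    intro c
    apply mem_of_one_tmul_eq_zero I
    rw [TensorProduct.tmul_sub, h c, sub_self]
  have key := MT.eq_of_isMultType hnil hBn
    (Bialgebra.TensorProduct.map (BialgHom.id (A ⧸ I ^ (n + 1)) (A ⧸ I ^ (n + 1))) φ)
    (Bialgebra.TensorProduct.map (BialgHom.id (A ⧸ I ^ (n + 1)) (A ⧸ I ^ (n + 1))) ψ) (by
      intro c'
      rw [← sub_eq_zero, ← TensorProduct.tmul_sub]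
      apply one_tmul_eq_zero_of_mem
      induction c' using TensorProduct.induction_on with
      | zero =>
        rw [map_zero, map_zero, sub_self]
        exact zero_mem _
      | add x y hx hy =>
        rw [map_add, map_add, add_sub_add_comm]
        exact add_mem hx hy
      | tmul r c =>
        rw [Bialgebra.TensorProduct.map_tmul, Bialgebra.TensorProduct.map_tmul,
          ← TensorProduct.tmul_sub]
        exact mem_map_smul_top_of_mem I (tmul_mem_smul_top I _ (hd c)))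
  have := congrArg (fun f => f ((1 : A ⧸ I ^ (n + 1)) ⊗ₜ[A] c)) key
  simpa [Bialgebra.TensorProduct.map_tmul] using this

end Main

end

end Groth.Agent.H9.LIF
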