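import Mathlib
import Groth.Prelude.Def_W4c5cptfessfintypeLocImm
import Groth.Agent.Lib.Helper9.Misc.LOC1

/-! Helper9: base change of localizing immersions (S18202). -/

set_option linter.style.haveILetI false
set_option linter.unusedSectionVars false

namespace Groth.Agent.H9.LOC

universe u

open CategoryTheory AlgebraicGeometry Limits TopologicalSpace

section ring

theorem isLocHom_comp_equiv_left {A B B' : Type u} [CommRing A] [CommRing B] [CommRing B']
    (φ : A →+* B) (e : B ≃+* B') (h : LocImm.IsLocHom φ) :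
    LocImm.IsLocHom (e.toRingHom.comp φ) := by
  letI := φ.toAlgebra
  obtain ⟨S, hS⟩ := h
  letI := (e.toRingHom.comp φ).toAlgebra
  refine ⟨S, ?_⟩
  exact IsLocalization.isLocalization_of_algEquiv S
    ({ e with commutes' := fun _ => rfl } : B ≃ₐ[A] B')

theorem isLocHom_comp_equiv_right {A A' B : Type u} [CommRing A] [CommRing A'] [CommRing B]
    (φ : A →+* B) (e : A' ≃+* A) (h : LocImm.IsLocHom φ) :
    LocImm.IsLocHom (φ.comp e.toRingHom) := by
  letI := φ.toAlgebra
  obtain ⟨S, hS⟩ := h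
  have hloc := IsLocalization.isLocalization_of_base_ringEquiv S B e.symm
  letI := (φ.comp e.toRingHom).toAlgebra
  exact ⟨S.map e.symm, hloc⟩

theorem isLocHom_of_arrowIso {A B A' B' : CommRingCat.{u}} {φ : A ⟶ B} {ψ : A' ⟶ B'}
    (e : Arrow.mk φ ≅ Arrow.mk ψ) (h : LocImm.IsLocHom φ.hom) : LocImm.IsLocHom ψ.hom := by
  have hw : e.inv.left ≫ φ ≫ e.hom.right = ψ := by
    have h1 : e.hom.left ≫ ψ = φ ≫ e.hom.right := by
      simp
    have h2 : e.inv.left ≫ e.hom.left = 𝟙 _ := by simp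
    rw [← h1, ← Category.assoc, h2, Category.id_comp]
  let eL : A' ≅ A := ⟨e.inv.left, e.hom.left, by simp, by simp⟩
  let eR : B ≅ B' := ⟨e.hom.right, e.inv.right, by simp, by simp⟩
  have h3 := isLocHom_comp_equiv_left _ eR.commRingCatIsoToRingEquiv
    (isLocHom_comp_equiv_right φ.hom eL.commRingCatIsoToRingEquiv h)
  have h4 : ψ.hom = eR.commRingCatIsoToRingEquiv.toRingHom.comp
      (φ.hom.comp eL.commRingCatIsoToRingEquiv.toRingHom) := by
    rw [← hw]
    rfl
  rw [h4]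
  exact h3

/-- base change of a localizing ring map -/
theorem isLocHom_of_isPushout {R A T B : CommRingCat.{u}} {f : R ⟶ A} {g : R ⟶ T} {a : A ⟶ B}
    {t : T ⟶ B} (H : IsPushout f g a t) (h : LocImm.IsLocHom f.hom) : LocImm.IsLocHom t.hom := by
  algebraize [f.hom, g.hom, a.hom, t.hom, (f ≫ a).hom]
  haveI : IsScalarTower R A B := .of_algebraMap_eq' rfl
  haveI : IsScalarTower R T B := .of_algebraMap_eq' (congrArg CommRingCat.Hom.hom H.w)
  obtain ⟨S, hS⟩ := h
  have H' : Algebra.IsPushout R A T B := CommRingCat.isPushout_iff_isPushout.mp H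
  have H'' : Algebra.IsPushout R T A B := H'.symm
  exact ⟨Algebra.algebraMapSubmonoid T S, (Algebra.isLocalization_iff_isPushout S A).mpr H''⟩

end ring

section scheme

variable {X Y Y' : Scheme.{u}}

theorem isLocalizing_pullback_snd (f : X ⟶ Y) (g : Y' ⟶ Y) (hf : LocImm.IsLocalizing f) :
    LocImm.IsLocalizing (pullback.snd f g) := by
  intro z
  obtain ⟨U, V, hxV, e, hloc⟩ := hf (pullback.fst f g z)
  -- an affine open of `Y'` around the image of `z`, inside `g⁻¹ U`
  have hzU : pullback.snd f g z ∈ g ⁻¹ᵁ U.1 := by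
    show g (pullback.snd f g z) ∈ U.1
    rw [← Scheme.Hom.comp_apply, ← pullback.condition, Scheme.Hom.comp_apply]
    exact e hxV
  obtain ⟨_, ⟨U', hU', rfl⟩, hzU', hU'U⟩ :=
    Y'.isBasis_affineOpens.exists_subset_of_mem_open hzU (g ⁻¹ᵁ U.1).2
  let W : (pullback f g).Opens := pullback.fst f g ⁻¹ᵁ V.1 ⊓ pullback.snd f g ⁻¹ᵁ U'
  have hW1 : W ≤ pullback.fst f g ⁻¹ᵁ V.1 := inf_le_left
  have hW2 : W ≤ pullback.snd f g ⁻¹ᵁ U' := inf_le_right
  have hpb := Scheme.Hom.isPullback_resLE (IsPullback.of_hasPullback f g)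
    (US := U.1) (UT := U') (UX := V.1) (show U' ≤ g ⁻¹ᵁ U.1 from hU'U) e (UY := W) rfl
  haveI : IsAffine (U.1 : Scheme.{u}) := U.2
  haveI : IsAffine (V.1 : Scheme.{u}) := V.2
  haveI : IsAffine (U' : Scheme.{u}) := hU'
  haveI : IsAffine (W : Scheme.{u}) := IsAffine.of_isPullback hpb
  have hWaff : IsAffineOpen W := ‹IsAffine (W : Scheme.{u})›
  have hpo := isPushout_appTop_of_isPullback hpb
  have h1 : LocImm.IsLocHom (f.resLE U.1 V.1 e).appTop.hom :=
    isLocHom_of_arrowIso (arrowResLEAppIso f U.1 V.1 e).symm hloc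
  have h2 : LocImm.IsLocHom ((pullback.snd f g).resLE U' W hW2).appTop.hom :=
    isLocHom_of_isPushout hpo h1
  refine ⟨⟨U', hU'⟩, ⟨W, hWaff⟩, ⟨hxV, hzU'⟩, hW2, ?_⟩
  exact isLocHom_of_arrowIso (arrowResLEAppIso (pullback.snd f g) U' W hW2) h2

theorem S18202_main (f : X ⟶ Y) (g : Y' ⟶ Y) (hf : LocImm.IsLocImmersion f) :
    LocImm.IsLocImmersion (pullback.snd f g) := by
  refine ⟨isLocalizing_pullback_snd f g hf.1, ?_⟩
  haveI := mono_of_isLocImmersion f hf
  exact Scheme.Hom.injective (pullback.snd f g)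

end scheme

end Groth.Agent.H9.LOC
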