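import Mathlib
import Groth.Prelude.Def_W4c5cptfessfintypeLocImm
import Groth.Agent.Lib.Helper9.Misc.LOC1
import Groth.Agent.Lib.Helper9.Misc.LOC2
import Groth.Agent.Lib.Helper9.Misc.LOC4

/-! Helper9: affine-local characterisation of localizing immersions (S18208). -/

set_option linter.style.haveILetI false
set_option linter.unusedSectionVars false

namespace Groth.Agent.H9.LOC

universe u

open CategoryTheory AlgebraicGeometry Limits TopologicalSpace

section ring

/-- a localization of a localizing map at one element is localizing -/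
theorem isLocHom_of_away {A B A' B' : Type u} [CommRing A] [CommRing B] [CommRing A']
    [CommRing B'] (φ : A →+* B) (α : A →+* A') (β : B →+* B') (ψ : A' →+* B')
    (hcomm : ψ.comp α = β.comp φ) (a : A)
    (hα : @IsLocalization.Away _ _ a A' _ α.toAlgebra)
    (hβ : @IsLocalization.Away _ _ (φ a) B' _ β.toAlgebra)
    (hφ : LocImm.IsLocHom φ) : LocImm.IsLocHom ψ := by
  letI := φ.toAlgebra
  letI := α.toAlgebra
  letI := β.toAlgebra
  letI := ψ.toAlgebra
  letI := (β.comp φ).toAlgebra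
  haveI : IsScalarTower A B B' := .of_algebraMap_eq' rfl
  haveI : IsScalarTower A A' B' := .of_algebraMap_eq' hcomm.symm
  obtain ⟨S, hS⟩ := hφ
  haveI : IsLocalization (Submonoid.powers (algebraMap A B a)) B' := hβ
  haveI : IsLocalization (Submonoid.powers a) A' := hα
  haveI h1 := IsLocalization.localization_localization_isLocalization S
    (Submonoid.powers (algebraMap A B a)) B'
  have hle : Submonoid.powers a ≤
      IsLocalization.localizationLocalizationSubmodule S (Submonoid.powers (algebraMap A B a)) := by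
    rw [Submonoid.powers_le, IsLocalization.mem_localizationLocalizationSubmodule]
    exact ⟨⟨algebraMap A B a, Submonoid.mem_powers _⟩, 1, by simp⟩
  exact ⟨_, IsLocalization.isLocalization_of_submonoid_le A' B' (Submonoid.powers a) _ hle⟩

end ring

section scheme

variable {X Y : Scheme.{u}}

theorem injective_of_isLocHom_appTop [IsAffine X] [IsAffine Y] (h : X ⟶ Y)
    (hl : LocImm.IsLocHom h.appTop.hom) : Function.Injective h.base := by
  have hinj : Function.Injective (Spec.map h.appTop).base := by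
    letI := h.appTop.hom.toAlgebra
    obtain ⟨S, hS⟩ := hl
    exact PrimeSpectrum.localization_comap_injective Γ(X, ⊤) S
  intro x₁ x₂ hx
  have hnat := Scheme.toSpecΓ_naturality h
  have h1 : (X.toSpecΓ ≫ Spec.map h.appTop) x₁ = (X.toSpecΓ ≫ Spec.map h.appTop) x₂ := by
    rw [← hnat, Scheme.Hom.comp_apply, Scheme.Hom.comp_apply, hx]
  rw [Scheme.Hom.comp_apply, Scheme.Hom.comp_apply] at h1
  exact X.toSpecΓ.homeomorph.injective (hinj h1)

theorem exists_affine_of_isLocImmersion [IsNoetherian X] (f : X ⟶ Y)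
    (hf : LocImm.IsLocImmersion f) (x : X) :
    ∃ V : Y.Opens, f x ∈ V ∧ IsAffineOpen V ∧ IsAffineOpen (f ⁻¹ᵁ V) ∧
      LocImm.IsLocHom (f.app V).hom := by
  obtain ⟨U, VX, hx, e, hloc⟩ := hf.1 x
  have hemb := isEmbedding_of_isLocImmersion f hf
  obtain ⟨V₀, hV₀o, hV₀⟩ := hemb.isInducing.isOpen_iff.mp VX.1.2
  let V₀' : Y.Opens := ⟨V₀, hV₀o⟩
  have hfx : f x ∈ U.1 ⊓ V₀' := ⟨e hx, by
    show x ∈ (fun x => f x) ⁻¹' V₀
    rw [hV₀]
    exact hx⟩
  obtain ⟨a, ha1, ha2⟩ := U.2.exists_basicOpen_le ⟨f x, hfx⟩ (e hx)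
  have hDU : Y.basicOpen a ≤ U.1 := Y.basicOpen_le a
  let b := f.appLE U.1 VX.1 e a
  have hle : f ⁻¹ᵁ Y.basicOpen a ≤ VX.1 := by
    intro y hy
    have h1 : f y ∈ V₀' := (ha1 hy).2
    have h2 : y ∈ (fun x => f x) ⁻¹' V₀ := h1
    rw [hV₀] at h2
    exact h2
  have hpre : f ⁻¹ᵁ Y.basicOpen a = X.basicOpen b := by
    rw [Scheme.preimage_basicOpen] at hle ⊢
    rw [show b = X.presheaf.map (homOfLE e).op (f.app U.1 a) from rfl, Scheme.basicOpen_res]
    exact (inf_eq_right.mpr hle).symm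
  refine ⟨Y.basicOpen a, ha2, U.2.basicOpen a, hpre ▸ VX.2.basicOpen b, ?_⟩
  refine isLocHom_of_away (f.appLE U.1 VX.1 e).hom (Y.presheaf.map (homOfLE hDU).op).hom
    (X.presheaf.map (homOfLE hle).op).hom (f.app (Y.basicOpen a)).hom ?_ a
    (U.2.isLocalization_of_eq_basicOpen a (homOfLE hDU) rfl)
    (VX.2.isLocalization_of_eq_basicOpen b (homOfLE hle) hpre) hloc
  have hc : Y.presheaf.map (homOfLE hDU).op ≫ f.app (Y.basicOpen a) =
      f.appLE U.1 VX.1 e ≫ X.presheaf.map (homOfLE hle).op := by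
    rw [Scheme.Hom.appLE_map, Scheme.Hom.app_eq_appLE, Scheme.Hom.map_appLE]
  exact congrArg CommRingCat.Hom.hom hc

theorem S18208_main [IsNoetherian X] (f : X ⟶ Y) :
    LocImm.IsLocImmersion f ↔ ∀ x : X, ∃ V : Y.Opens, f x ∈ V ∧ IsAffineOpen V ∧
      IsAffineOpen (f ⁻¹ᵁ V) ∧ LocImm.IsLocHom (f.app V).hom := by
  refine ⟨fun hf x => exists_affine_of_isLocImmersion f hf x, fun h => ⟨?_, ?_⟩⟩
  · intro x
    obtain ⟨V, hxV, hV, hV', hloc⟩ := h x
    refine ⟨⟨V, hV⟩, ⟨f ⁻¹ᵁ V, hV'⟩, hxV, le_rfl, ?_⟩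
    rw [← Scheme.Hom.app_eq_appLE]
    exact hloc
  · intro x₁ x₂ hx
    obtain ⟨V, hxV, hV, hV', hloc⟩ := h x₁
    haveI : IsAffine (V : Scheme.{u}) := hV
    haveI : IsAffine ((f ⁻¹ᵁ V : X.Opens) : Scheme.{u}) := hV'
    have h1 : LocImm.IsLocHom (f.resLE V (f ⁻¹ᵁ V) le_rfl).appTop.hom := by
      refine isLocHom_of_arrowIso (arrowResLEAppIso f V (f ⁻¹ᵁ V) le_rfl).symm ?_
      rw [← Scheme.Hom.app_eq_appLE]
      exact hloc
    have hinj := injective_of_isLocHom_appTop _ h1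
    have hx₂V : x₂ ∈ f ⁻¹ᵁ V := by
      show f x₂ ∈ V
      rw [← hx]
      exact hxV
    let y₁ : (f ⁻¹ᵁ V : X.Opens) := ⟨x₁, hxV⟩
    let y₂ : (f ⁻¹ᵁ V : X.Opens) := ⟨x₂, hx₂V⟩
    have hcomp := Scheme.Hom.resLE_comp_ι f (U := V) (V := f ⁻¹ᵁ V) le_rfl
    have h2 : (f.resLE V (f ⁻¹ᵁ V) le_rfl) y₁ = (f.resLE V (f ⁻¹ᵁ V) le_rfl) y₂ := by
      apply V.ι.isOpenEmbedding.injective
      rw [← Scheme.Hom.comp_apply, ← Scheme.Hom.comp_apply, hcomp, Scheme.Hom.comp_apply,
        Scheme.Hom.comp_apply]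
      exact hx
    have h3 := hinj h2
    exact congrArg Subtype.val h3

end scheme

end Groth.Agent.H9.LOC
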