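import Mathlib
import Groth.Prelude.Def_W4c5cptfessfintypeLocImm
import Groth.Agent.Lib.Helper9.Misc.LOC1
import Groth.Agent.Lib.Helper9.Misc.LOC2
import Groth.Agent.Lib.Helper9.Misc.LOC4
import Groth.Agent.Lib.Helper9.Misc.LOC5

/-! Helper9: localizing morphisms: injective iff separated and injective on maximal points (S18197). -/

set_option linter.style.haveILetI false
set_option linter.unusedSectionVars false

namespace Groth.Agent.H9.LOC

universe u

open CategoryTheory AlgebraicGeometry Limits TopologicalSpace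

variable {X Y : Scheme.{u}}

/-- a localizing chart is injective on its source -/
theorem injOn_of_isLocHom_appLE (f : X ⟶ Y) (U : Y.affineOpens) (V : X.affineOpens)
    (e : V.1 ≤ f ⁻¹ᵁ U.1) (hloc : LocImm.IsLocHom (f.appLE U.1 V.1 e).hom) :
    Set.InjOn (fun x => f x) (V.1 : Set X) := by
  intro x₁ hx₁ x₂ hx₂ hx
  haveI : IsAffine (U.1 : Scheme.{u}) := U.2
  haveI : IsAffine (V.1 : Scheme.{u}) := V.2
  have h1 : LocImm.IsLocHom (f.resLE U.1 V.1 e).appTop.hom :=
    isLocHom_of_arrowIso (arrowResLEAppIso f U.1 V.1 e).symm hloc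
  have hinj := injective_of_isLocHom_appTop _ h1
  let y₁ : V.1 := ⟨x₁, hx₁⟩
  let y₂ : V.1 := ⟨x₂, hx₂⟩
  have hcomp := Scheme.Hom.resLE_comp_ι f (U := U.1) (V := V.1) e
  have h2 : (f.resLE U.1 V.1 e) y₁ = (f.resLE U.1 V.1 e) y₂ := by
    apply U.1.ι.isOpenEmbedding.injective
    rw [← Scheme.Hom.comp_apply, ← Scheme.Hom.comp_apply, hcomp, Scheme.Hom.comp_apply,
      Scheme.Hom.comp_apply]
    exact hx
  exact congrArg Subtype.val (hinj h2)

/-- separatedness: two specializations of a point with the same image coincide -/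
theorem eq_of_specializes_of_isSeparated (f : X ⟶ Y) [IsSeparated f] [SurjectiveOnStalks f]
    {η x₁ x₂ : X} (h₁ : η ⤳ x₁) (h₂ : η ⤳ x₂) (hx : f x₁ = f x₂) : x₁ = x₂ := by
  have hemb := SurjectiveOnStalks.isEmbedding_pullback f f
  obtain ⟨z, hz1, hz2⟩ := Scheme.Pullback.exists_preimage_pullback (f := f) (g := f) x₁ x₂ hx
  have hcl : IsClosed (Set.range (pullback.diagonal f)) :=
    (pullback.diagonal f).isClosedEmbedding.isClosed_range
  have hspec : (pullback.diagonal f) η ⤳ z := by
    rw [← hemb.isInducing.specializes_iff]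
    have e1 : pullback.fst f f ((pullback.diagonal f) η) = η := by
      rw [← Scheme.Hom.comp_apply, pullback.diagonal_fst]; rfl
    have e2 : pullback.snd f f ((pullback.diagonal f) η) = η := by
      rw [← Scheme.Hom.comp_apply, pullback.diagonal_snd]; rfl
    show (pullback.fst f f ((pullback.diagonal f) η), pullback.snd f f ((pullback.diagonal f) η)) ⤳
      (pullback.fst f f z, pullback.snd f f z)
    rw [e1, e2, hz1, hz2]
    exact h₁.prod h₂
  have hz : z ∈ Set.range (pullback.diagonal f) := hspec.mem_closed hcl ⟨η, rfl⟩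
  obtain ⟨x, rfl⟩ := hz
  have e1 : pullback.fst f f ((pullback.diagonal f) x) = x := by
    rw [← Scheme.Hom.comp_apply, pullback.diagonal_fst]; rfl
  have e2 : pullback.snd f f ((pullback.diagonal f) x) = x := by
    rw [← Scheme.Hom.comp_apply, pullback.diagonal_snd]; rfl
  rw [← hz1, ← hz2, e1, e2]

theorem exists_maximal_generization (x : X) :
    ∃ η : X, η ⤳ x ∧ ∀ x' : X, x' ⤳ η → x' = η := by
  obtain ⟨η, hη⟩ := QuasiSober.sober (isIrreducible_irreducibleComponent (x := x))
    isClosed_irreducibleComponent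
  refine ⟨η, ?_, ?_⟩
  · rw [specializes_iff_mem_closure, hη.def]
    exact mem_irreducibleComponent
  · intro x' hx'
    have h1 : irreducibleComponent x ⊆ closure {x'} := by
      rw [← hη.def]
      exact (specializes_iff_closure_subset.mp hx')
    have h2 : closure {x'} = irreducibleComponent x := by
      refine ((irreducibleComponent_mem_irreducibleComponents x).2 ?_ h1).antisymm h1
      exact isIrreducible_singleton.closure
    have h3 : IsGenericPoint x' (irreducibleComponent x) := h2
    exact h3.eq hη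

theorem S18197_main (f : X ⟶ Y) (hf : LocImm.IsLocalizing f) :
    Function.Injective f.base ↔ (IsSeparated f ∧
      Set.InjOn (fun x => f x) {x : X | ∀ x' : X, x' ⤳ x → x' = x}) := by
  constructor
  · intro hinj
    haveI := mono_of_isLocImmersion f ⟨hf, hinj⟩
    exact ⟨inferInstance, fun a _ b _ h => hinj h⟩
  · rintro ⟨hsep, hmax⟩ x₁ x₂ hx
    haveI := hsep
    haveI := surjectiveOnStalks_of_isLocalizing f hf
    obtain ⟨η₁, hη₁, hη₁max⟩ := exists_maximal_generization x₁
    have h1 : f η₁ ⤳ f x₂ := by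
      have := hη₁.map f.continuous
      rw [show f x₁ = f x₂ from hx] at this
      exact this
    obtain ⟨η₂, hη₂, hfη⟩ := exists_generization_lift f hf x₂ (f η₁) h1
    have hη₂max : ∀ x' : X, x' ⤳ η₂ → x' = η₂ := by
      intro η' hη'
      have h2 : f η' ⤳ f η₁ := by
        have := hη'.map f.continuous
        rw [hfη] at this
        exact this
      obtain ⟨η'', hη'', hfη''⟩ := exists_generization_lift f hf η₁ (f η') h2
      have h3 : η'' = η₁ := hη₁max η'' hη''
      subst h3
      obtain ⟨U, V, hV, e, hloc⟩ := hf η₂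
      have hη'V : η' ∈ V.1 := hη'.mem_open V.1.2 hV
      exact injOn_of_isLocHom_appLE f U V e hloc hη'V hV (hfη''.symm.trans hfη.symm)
    have h4 : η₂ = η₁ := hmax hη₂max hη₁max hfη
    subst h4
    exact eq_of_specializes_of_isSeparated f hη₁ hη₂ hx

end Groth.Agent.H9.LOC
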