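import Mathlib
import Groth.Prelude.Def_W4c5cptfessfintypeLocImm
import Groth.Agent.Lib.Helper9.Misc.LOC1
import Groth.Agent.Lib.Helper9.Misc.LOC2
import Groth.Agent.Lib.Helper9.Misc.LOC4
import Groth.Agent.Lib.Helper9.Misc.LOC5

/-! Helper9: ideals on the source of a localizing immersion are extended from the target (S18206). -/

set_option linter.style.haveILetI false
set_option linter.unusedSectionVars false

namespace Groth.Agent.H9.LOC

universe u

open CategoryTheory AlgebraicGeometry Limits TopologicalSpace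

variable {X Y : Scheme.{u}}

theorem S18206_main [IsNoetherian X] (f : X ⟶ Y) (hf : LocImm.IsLocImmersion f)
    (I : X.IdealSheafData) : ∃ J : Y.IdealSheafData, J.comap f = I := by
  refine ⟨I.map f, le_antisymm (Scheme.IdealSheafData.comap_map_le I f) ?_⟩
  choose V hxV hV hV' hloc using exists_affine_of_isLocImmersion f hf
  refine Scheme.IdealSheafData.le_of_iSup_eq_top (fun x : X => ⟨f ⁻¹ᵁ V x, hV' x⟩) ?_ ?_
  · rw [eq_top_iff]
    intro x _
    exact Opens.mem_iSup.mpr ⟨x, hxV x⟩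
  · intro x
    let J := I.map f
    let φ := (f.app (V x)).hom
    let p₁ := pullback.fst f J.subschemeι
    let p₂ := pullback.snd f J.subschemeι
    -- the ideal on `f⁻¹ V` is extended from `V`
    have h1 : I.ideal ⟨f ⁻¹ᵁ V x, hV' x⟩ = Ideal.map φ (J.ideal ⟨V x, hV x⟩) := by
      rw [Scheme.IdealSheafData.ideal_map I f ⟨V x, hV x⟩ (hV' x)]
      letI := φ.toAlgebra
      obtain ⟨S, hS⟩ := hloc x
      exact (IsLocalization.map_under S _ (I.ideal ⟨f ⁻¹ᵁ V x, hV' x⟩)).symm
    show I.ideal ⟨f ⁻¹ᵁ V x, hV' x⟩ ≤ (p₁.ker).ideal ⟨f ⁻¹ᵁ V x, hV' x⟩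
    rw [h1, Scheme.Hom.ker_apply, Ideal.map_le_iff_le_comap]
    intro a ha
    rw [Ideal.mem_comap, RingHom.mem_ker]
    have ha0 : (J.subschemeι.app (V x)).hom a = 0 := by
      have := J.ker_subschemeι_app ⟨V x, hV x⟩
      rw [← RingHom.mem_ker, this]
      exact ha
    have hcond : p₁ ≫ f = p₂ ≫ J.subschemeι := pullback.condition
    have hA : ((p₁ ≫ f).app (V x)).hom a = (p₁.app (f ⁻¹ᵁ V x)).hom (φ a) :=
      congrArg (fun ψ => ψ.hom a) (Scheme.Hom.comp_app p₁ f (V x))
    have hB : ((p₂ ≫ J.subschemeι).app (V x)).hom a =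
        (p₂.app (J.subschemeι ⁻¹ᵁ V x)).hom ((J.subschemeι.app (V x)).hom a) :=
      congrArg (fun ψ => ψ.hom a) (Scheme.Hom.comp_app p₂ J.subschemeι (V x))
    have h2 := congrArg (fun ψ => ψ.hom a) (Scheme.Hom.congr_app hcond (V x))
    simp only [CommRingCat.hom_comp, RingHom.comp_apply] at h2
    rw [hB, ha0, map_zero] at h2
    exact hA.symm.trans (h2.trans (map_zero _))

end Groth.Agent.H9.LOC
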