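import Mathlib
import Groth.Prelude.Def_W4c5cptfessfintypeLocImm
import Groth.Agent.Lib.Helper9.Misc.LOC1
import Groth.Agent.Lib.Helper9.Misc.LOC2
import Groth.Agent.Lib.Helper9.Misc.LOC4
import Groth.Agent.Lib.Helper9.Misc.LOC5
import Groth.Agent.Lib.Helper9.Misc.LOC7

/-! Helper9: schematically dominant factor of a localizing immersion is a localizing immersion (S18195). -/

set_option linter.style.haveILetI false
set_option linter.unusedSectionVars false

namespace Groth.Agent.H9.LOC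

universe u

open CategoryTheory AlgebraicGeometry Limits TopologicalSpace

variable {X Y Z : Scheme.{u}}

theorem isLocallyNoetherian_of_isLocalizing (f : X ⟶ Y) (hf : LocImm.IsLocalizing f)
    [IsLocallyNoetherian Y] : IsLocallyNoetherian X := by
  choose U V hxV e hloc using hf
  refine isLocallyNoetherian_of_affine_cover (S := V) ?_ ?_
  · rw [eq_top_iff]
    intro x _
    exact Opens.mem_iSup.mpr ⟨x, hxV x⟩
  · intro x
    haveI : IsNoetherianRing Γ(Y, (U x).1) := IsLocallyNoetherian.component_noetherian (U x)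
    letI := (f.appLE (U x).1 (V x).1 (e x)).hom.toAlgebra
    obtain ⟨S, hS⟩ := hloc x
    exact IsLocalization.isNoetherianRing S _ inferInstance

theorem isLocalizing_iso_comp (γ : X ⟶ Y) [IsIso γ] (q : Y ⟶ Z) (hq : LocImm.IsLocalizing q) :
    LocImm.IsLocalizing (γ ≫ q) := by
  intro x
  obtain ⟨U, V, hxV, e, hloc⟩ := hq (γ x)
  refine ⟨U, ⟨γ ⁻¹ᵁ V.1, V.2.preimage_of_isIso γ⟩, hxV, ?_, ?_⟩
  · intro y hy
    exact e hy
  · have h1 : (γ ≫ q).appLE U.1 (γ ⁻¹ᵁ V.1) (fun y hy => e hy) =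
        q.appLE U.1 V.1 e ≫ γ.app V.1 := by
      rw [Scheme.Hom.app_eq_appLE, Scheme.Hom.appLE_comp_appLE]
    rw [h1]
    have h2 := isLocHom_comp_equiv_left (q.appLE U.1 V.1 e).hom
      (asIso (γ.app V.1)).commRingCatIsoToRingEquiv hloc
    exact h2

theorem S18195_main [IsNoetherian X] [IsNoetherian Y] (f : X ⟶ Y) (g : Y ⟶ Z)
    (hfg : LocImm.IsLocImmersion (f ≫ g)) [IsSeparated g]
    (hd : ∀ U : Y.Opens, Function.Injective (f.app U).hom) : LocImm.IsLocImmersion f := by
  let q₁ := pullback.fst (f ≫ g) g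
  let q₂ := pullback.snd (f ≫ g) g
  have hq₂ : LocImm.IsLocImmersion q₂ := S18202_main (f ≫ g) g hfg
  let γ : X ⟶ pullback (f ≫ g) g := pullback.lift (𝟙 _) f (Category.id_comp (f ≫ g))
  have hγ : γ ≫ q₂ = f := pullback.lift_snd _ _ _
  haveI : IsClosedImmersion γ := inferInstance
  -- the fibre product is Noetherian
  haveI : IsLocallyNoetherian (pullback (f ≫ g) g) := isLocallyNoetherian_of_isLocalizing q₂ hq₂.1
  haveI : QuasiCompact g := inferInstance
  haveI : CompactSpace ↥(pullback (f ≫ g) g) := QuasiCompact.compactSpace_of_compactSpace q₁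
  haveI : IsNoetherian (pullback (f ≫ g) g) := ⟨⟩
  -- the kernel of `f` vanishes
  have hker : f.ker = ⊥ := by
    ext U
    rw [Scheme.Hom.ker_apply]
    simp only [Scheme.IdealSheafData.ideal_bot, Pi.bot_apply]
    rw [(RingHom.injective_iff_ker_eq_bot _).mp (hd U.1)]
  obtain ⟨J, hJ⟩ := S18206_main q₂ hq₂ γ.ker
  have hJle : J ≤ γ.ker.map q₂ := Scheme.IdealSheafData.le_map_iff_comap_le.mpr hJ.le
  rw [Scheme.IdealSheafData.map_ker, hγ, hker, le_bot_iff] at hJle
  have hγker : γ.ker = ⊥ := by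
    rw [← hJ, hJle, Scheme.IdealSheafData.comap_bot]
  haveI : IsIso γ := IsClosedImmersion.isIso_iff_ker_eq_bot.mpr hγker
  refine ⟨?_, ?_⟩
  · rw [← hγ]
    exact isLocalizing_iso_comp γ q₂ hq₂.1
  · haveI := mono_of_isLocImmersion _ hfg
    haveI : Mono f := mono_of_mono f g
    exact Scheme.Hom.injective f

end Groth.Agent.H9.LOC
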