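import Mathlib

set_option autoImplicit false
set_option linter.style.haveILetI false
set_option linter.unusedSectionVars false
set_option linter.unusedVariables false

/-!
# Units `g(h)` for `g(0) = 1` when `h = s⁻¹` and `s` is a root of `f ≡ 1 mod m`.
-/

namespace Groth.Agent.H9.LQ

open Polynomial IsLocalRing

theorem map_maximalIdeal_le_jacobson_bot {A : Type*} [CommRing A] [IsLocalRing A] (C : Type*)
    [CommRing C] [Algebra A C] [Algebra.IsIntegral A C] :
    (maximalIdeal A).map (algebraMap A C) ≤ Ideal.jacobson ⊥ := by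
  rw [Ideal.jacobson, le_sInf_iff]
  rintro M ⟨-, hM⟩
  haveI := hM
  rw [Ideal.map_le_iff_le_comap]
  exact (IsLocalRing.eq_maximalIdeal
    (Ideal.isMaximal_comap_of_isIntegral_of_isMaximal (R := A) M)).ge

/-- In `E = R[X]/(P)` with `P` monic, `P ≡ X^n mod m`, the root lies in the Jacobson radical. -/
theorem root_mem_jacobson {R : Type*} [CommRing R] [IsLocalRing R] (P : R[X]) (hP : P.Monic)
    (hPm : ∀ i, i < P.natDegree → P.coeff i ∈ maximalIdeal R) :
    AdjoinRoot.root P ∈ (⊥ : Ideal (AdjoinRoot P)).jacobson := by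
  haveI : Module.Finite R (AdjoinRoot P) := hP.finite_adjoinRoot
  haveI : Algebra.IsIntegral R (AdjoinRoot P) := Algebra.IsIntegral.of_finite R _
  have hle := map_maximalIdeal_le_jacobson_bot (A := R) (AdjoinRoot P)
  have h1 : AdjoinRoot.root P ^ P.natDegree ∈
      (maximalIdeal R).map (algebraMap R (AdjoinRoot P)) := by
    have h0 : eval₂ (AdjoinRoot.of P) (AdjoinRoot.root P)
        (X ^ P.natDegree + ∑ i ∈ Finset.range P.natDegree, C (P.coeff i) * X ^ i) = 0 := by
      rw [← hP.as_sum]; exact AdjoinRoot.eval₂_root P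
    rw [eval₂_add, eval₂_pow, eval₂_X, eval₂_finset_sum] at h0
    have h2 : AdjoinRoot.root P ^ P.natDegree =
        -∑ i ∈ Finset.range P.natDegree,
          eval₂ (AdjoinRoot.of P) (AdjoinRoot.root P) (C (P.coeff i) * X ^ i) :=
      eq_neg_of_add_eq_zero_left h0
    rw [h2]
    refine Ideal.neg_mem_iff _ |>.mpr (Ideal.sum_mem _ fun i hi => ?_)
    rw [eval₂_mul, eval₂_C, eval₂_pow, eval₂_X]
    refine Ideal.mul_mem_right _ _ (Ideal.mem_map_of_mem _ ?_)
    exact hPm i (Finset.mem_range.mp hi)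
  have h3 : AdjoinRoot.root P ^ P.natDegree ∈ (⊥ : Ideal (AdjoinRoot P)).jacobson := hle h1
  exact (Ideal.isRadical_jacobson _) ⟨_, h3⟩

/-- The reverse of `f` with `f(0) = 1`, `f ≡ 1 mod m`. -/
theorem reverse_props {R : Type*} [CommRing R] [IsLocalRing R] (f : R[X]) (hf0 : f.coeff 0 = 1)
    (hfm : ∀ i, 0 < i → f.coeff i ∈ maximalIdeal R) :
    f.reverse.Monic ∧ ∀ i, i < f.reverse.natDegree → f.reverse.coeff i ∈ maximalIdeal R := by
  have h1 : f.natTrailingDegree = 0 :=
    natTrailingDegree_eq_zero_of_constantCoeff_ne_zero (by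
      rw [constantCoeff_apply, hf0]; exact one_ne_zero)
  refine ⟨?_, ?_⟩
  · rw [Monic, reverse_leadingCoeff, trailingCoeff, h1, hf0]
  · intro i hi
    rw [reverse_natDegree, h1, Nat.sub_zero] at hi
    rw [coeff_reverse, revAt_le hi.le]
    exact hfm _ (Nat.sub_pos_of_lt hi)

/-- Claim U. -/
theorem isUnit_aeval_inv {R : Type*} [CommRing R] [IsLocalRing R] {Q : Type*} [CommRing Q]
    [Algebra R Q] (s h : Q) (hsh : s * h = 1) (f : R[X]) (hf0 : f.coeff 0 = 1)
    (hfm : ∀ i, 0 < i → f.coeff i ∈ maximalIdeal R) (hfs : aeval s f = 0)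
    (g : R[X]) (hg : g.coeff 0 = 1) : IsUnit (aeval h g) := by
  obtain ⟨hPmon, hPm⟩ := reverse_props f hf0 hfm
  letI : Invertible s := ⟨h, by rw [mul_comm]; exact hsh, hsh⟩
  have hPh : eval₂ (algebraMap R Q) h f.reverse = 0 := by
    have h1 := eval₂_reverse_mul_pow (algebraMap R Q) s f
    have h2 : ⅟s = h := rfl
    rw [h2, ← aeval_def s f, hfs] at h1
    have h3 := congrArg (· * h ^ f.natDegree) h1
    simp only [zero_mul] at h3
    rwa [mul_assoc, ← mul_pow, hsh, one_pow, mul_one] at h3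
  let ρ : AdjoinRoot f.reverse →+* Q := AdjoinRoot.lift (algebraMap R Q) h hPh
  have hroot := root_mem_jacobson f.reverse hPmon hPm
  have hg' : g = 1 + X * g.divX := by
    conv_lhs => rw [← X_mul_divX_add g, hg]
    rw [map_one, add_comm]
  have hu : IsUnit (AdjoinRoot.mk f.reverse g) := by
    rw [hg', map_add, map_one, map_mul, add_comm]
    have := (Ideal.mem_jacobson_bot.mp hroot) (AdjoinRoot.mk f.reverse g.divX)
    exact this
  have : aeval h g = ρ (AdjoinRoot.mk f.reverse g) := by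
    rw [AdjoinRoot.lift_mk, aeval_def]
  rw [this]
  exact hu.map ρ

end Groth.Agent.H9.LQ
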