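import Mathlib
import Groth.Agent.Lib.Helper9.Misc.APL1
import Groth.Agent.Lib.Helper9.Misc.LQ1

set_option autoImplicit false
set_option linter.style.haveILetI false
set_option linter.unusedSectionVars false
set_option linter.unusedVariables false

/-!
# Ideals of `R[s]` comaximal with `m R[s]` versus ideals of `L = R[t]_{1+tR[t]}[1/t]`, part 1.
-/

namespace Groth.Agent.H9.LQ

open Polynomial IsLocalRing Groth.Agent.H9.APL

universe u

/-- From `I ⊔ m R[X] = ⊤` extract `f ∈ I` with `f(0) = 1` and higher coefficients in `m`. -/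
theorem exists_witness {R : Type*} [CommRing R] [IsLocalRing R] (I : Ideal R[X])
    (hI : I ⊔ (maximalIdeal R).map (algebraMap R R[X]) = ⊤) :
    ∃ f ∈ I, f.coeff 0 = 1 ∧ ∀ i, 0 < i → f.coeff i ∈ maximalIdeal R := by
  have h1 : (1 : R[X]) ∈ I ⊔ (maximalIdeal R).map (algebraMap R R[X]) := by
    rw [hI]; exact Submodule.mem_top
  obtain ⟨f₁, hf₁, μ, hμ, hsum⟩ := Submodule.mem_sup.mp h1
  rw [Polynomial.algebraMap_eq, Ideal.mem_map_C_iff] at hμ
  have hc : ∀ i, f₁.coeff i = (1 : R[X]).coeff i - μ.coeff i := by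
    intro i
    rw [← hsum, coeff_add, add_sub_cancel_right]
  have hu : IsUnit (f₁.coeff 0) := by
    rw [hc 0, coeff_one_zero]
    by_contra hcon
    have h2 : 1 - μ.coeff 0 ∈ maximalIdeal R := (IsLocalRing.mem_maximalIdeal _).mpr hcon
    have h3 : (1 : R) ∈ maximalIdeal R := by
      have := Ideal.add_mem _ h2 (hμ 0)
      rwa [sub_add_cancel] at this
    exact (Ideal.ne_top_iff_one _).mp (IsLocalRing.maximalIdeal.isMaximal R).ne_top h3
  obtain ⟨u, hu'⟩ := hu.exists_left_inv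
  refine ⟨C u * f₁, I.mul_mem_left _ hf₁, ?_, ?_⟩
  · rw [coeff_C_mul, hu']
  · intro i hi
    rw [coeff_C_mul, hc i, coeff_one, if_neg (Nat.pos_iff_ne_zero.mp hi), zero_sub]
    exact Ideal.mul_mem_left _ _ (Ideal.neg_mem_iff _ |>.mpr (hμ i))

section part1

variable {R : Type u} [CommRing R] [IsLocalRing R]
    {L : Type u} [CommRing L] [Algebra R[X] L] [IsLocalization (SS R) L]
    [Algebra R L] [IsScalarTower R R[X] L]
    (ψ : R[X] →ₐ[R] L) (hψ : ψ X * algebraMap R[X] L X = 1)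

include hψ

/-- The retraction `θ : L → R[X]/I` with `θ ∘ ψ = mk`, and `π = ψ̄ ∘ θ`. -/
theorem exists_retraction (I : Ideal R[X])
    (hI : I ⊔ (maximalIdeal R).map (algebraMap R R[X]) = ⊤) :
    ∃ θ : L →+* R[X] ⧸ I, (∀ x, θ (ψ x) = Ideal.Quotient.mk I x) ∧
      ∀ y : L, ∃ x : R[X], θ y = Ideal.Quotient.mk I x ∧ y - ψ x ∈ I.map ψ.toRingHom := by
  obtain ⟨f, hfI, hf0, hfm⟩ := exists_witness I hI
  -- elements of the quotient
  obtain ⟨sb, hsb⟩ : ∃ sb : R[X] ⧸ I, sb = Ideal.Quotient.mk I X := ⟨_, rfl⟩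
  obtain ⟨hb, hhb⟩ : ∃ hb : R[X] ⧸ I, hb = Ideal.Quotient.mk I (-divX f) := ⟨_, rfl⟩
  have hXdiv : X * (-divX f) = 1 - f := by
    have := X_mul_divX_add f
    rw [hf0, map_one] at this
    rw [mul_neg]
    nth_rewrite 2 [← this]
    ring
  have hsh : sb * hb = 1 := by
    rw [hsb, hhb, ← map_mul, hXdiv, map_sub, map_one, Ideal.Quotient.eq_zero_iff_mem.mpr hfI,
      sub_zero]
  have hmk : ∀ p : R[X], aeval sb p = Ideal.Quotient.mk I p := by
    intro p
    have := aeval_algHom_apply (Ideal.Quotient.mkₐ R I) X p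
    rw [aeval_X_left_apply] at this
    rw [hsb]; exact this
  have hfs : aeval sb f = 0 := by
    rw [hmk, Ideal.Quotient.eq_zero_iff_mem]; exact hfI
  have hU := isUnit_aeval_inv sb hb hsh f hf0 hfm hfs
  have hhbu : IsUnit hb := IsUnit.of_mul_eq_one sb (by rw [mul_comm]; exact hsh)
  -- the map θ₀
  let θ₀ : R[X] →+* R[X] ⧸ I := (aeval hb : R[X] →ₐ[R] R[X] ⧸ I).toRingHom
  have hθ₀ : ∀ σ : SS R, IsUnit (θ₀ σ) := by
    intro σ
    obtain ⟨k, g, hg, hσ⟩ := exists_of_mem_SS σ.2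
    rw [hσ, map_mul, map_pow]
    refine IsUnit.mul (IsUnit.pow k ?_) (hU g hg)
    have : θ₀ X = hb := aeval_X hb
    rw [this]; exact hhbu
  let θ : L →+* R[X] ⧸ I := IsLocalization.lift hθ₀
  have hθalg : ∀ p : R[X], θ (algebraMap R[X] L p) = aeval hb p := fun p =>
    IsLocalization.lift_eq hθ₀ p
  have hθτ : θ (algebraMap R[X] L X) = hb := by rw [hθalg, aeval_X]
  have hθψX : θ (ψ X) = sb := by
    have h1 : θ (ψ X) * hb = 1 := by rw [← hθτ, ← map_mul, hψ, map_one]
    calc θ (ψ X) = θ (ψ X) * (hb * sb) := by rw [mul_comm hb sb, hsh, mul_one]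
      _ = sb := by rw [← mul_assoc, h1, one_mul]
  have hθψ : ∀ x, θ (ψ x) = Ideal.Quotient.mk I x := by
    have : (θ.comp ψ.toRingHom) = Ideal.Quotient.mk I := by
      refine Polynomial.ringHom_ext (fun r => ?_) ?_
      · simp only [RingHom.comp_apply, AlgHom.toRingHom_eq_coe, RingHom.coe_coe]
        rw [← Polynomial.algebraMap_eq, AlgHom.commutes,
          IsScalarTower.algebraMap_apply R R[X] L, hθalg, Polynomial.algebraMap_eq, aeval_C]
        rfl
      · simp only [RingHom.comp_apply, AlgHom.toRingHom_eq_coe, RingHom.coe_coe]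
        rw [hθψX, hsb]
    intro x
    exact RingHom.congr_fun this x
  refine ⟨θ, hθψ, ?_⟩
  -- π = ψ̄ ∘ θ
  let π : L →+* L ⧸ I.map ψ.toRingHom := Ideal.Quotient.mk _
  let ψb : R[X] ⧸ I →+* L ⧸ I.map ψ.toRingHom :=
    Ideal.quotientMap (I.map ψ.toRingHom) ψ.toRingHom Ideal.le_comap_map
  have hψb : ∀ x : R[X], ψb (Ideal.Quotient.mk I x) = π (ψ x) := fun x =>
    Ideal.quotientMap_mk
  have hkey : π = ψb.comp θ := by
    refine IsLocalization.ringHom_ext (SS R) ?_
    refine Polynomial.ringHom_ext (fun r => ?_) ?_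
    · simp only [RingHom.comp_apply]
      rw [hθalg, aeval_C, ← Polynomial.algebraMap_eq,
        ← IsScalarTower.algebraMap_apply R R[X] L]
      have : algebraMap R (R[X] ⧸ I) r = Ideal.Quotient.mk I (C r) := rfl
      rw [this, hψb, ← Polynomial.algebraMap_eq, AlgHom.commutes]
    · simp only [RingHom.comp_apply]
      rw [hθτ, hhb, hψb]
      symm
      rw [← sub_eq_zero, ← map_sub, Ideal.Quotient.eq_zero_iff_mem]
      have h1 : ψ X * ψ (-divX f) = 1 - ψ f := by
        rw [← map_mul, hXdiv, map_sub, map_one]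
      have h2 : ψ (-divX f) = algebraMap R[X] L X - algebraMap R[X] L X * ψ f := by
        calc ψ (-divX f) = (algebraMap R[X] L X * ψ X) * ψ (-divX f) := by
              rw [mul_comm (algebraMap R[X] L X), hψ, one_mul]
          _ = algebraMap R[X] L X * (1 - ψ f) := by rw [mul_assoc, h1]
          _ = _ := by ring
      rw [h2]
      have h3 : ψ f ∈ I.map ψ.toRingHom := Ideal.mem_map_of_mem ψ.toRingHom hfI
      have : algebraMap R[X] L X - algebraMap R[X] L X * ψ f - algebraMap R[X] L X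
          = -(algebraMap R[X] L X * ψ f) := by ring
      rw [this]
      exact Ideal.neg_mem_iff _ |>.mpr (Ideal.mul_mem_left _ _ h3)
  intro y
  obtain ⟨x, hx⟩ := Ideal.Quotient.mk_surjective (θ y)
  refine ⟨x, hx.symm, ?_⟩
  rw [← Ideal.Quotient.eq_zero_iff_mem, map_sub, sub_eq_zero]
  have := RingHom.congr_fun hkey y
  rw [RingHom.comp_apply, ← hx, hψb] at this
  exact this

end part1

end Groth.Agent.H9.LQ
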