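import Mathlib
import Groth.Agent.Lib.Helper9.Misc.APL1
import Groth.Agent.Lib.Helper9.Misc.LQ1
import Groth.Agent.Lib.Helper9.Misc.LQ2
import Groth.Agent.Lib.Helper8.Hens.HenselFactor

set_option autoImplicit false
set_option linter.style.haveILetI false
set_option linter.unusedSectionVars false
set_option linter.unusedVariables false

/-!
# Ideals of `R[s]` comaximal with `m R[s]` versus ideals of `L = R[t]_{1+tR[t]}[1/t]`.
-/

namespace Groth.Agent.H9.LQ

open Polynomial IsLocalRing Groth.Agent.H9.APL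

universe u

section part1

variable {R : Type u} [CommRing R] [IsLocalRing R]
    {L : Type u} [CommRing L] [Algebra R[X] L] [IsLocalization (SS R) L]
    [Algebra R L] [IsScalarTower R R[X] L]
    (ψ : R[X] →ₐ[R] L) (hψ : ψ X * algebraMap R[X] L X = 1)

theorem map_map_C_eq :
    ((maximalIdeal R).map (algebraMap R R[X])).map ψ.toRingHom =
      (maximalIdeal R).map (algebraMap R L) := by
  rw [Ideal.map_map]
  congr 1
  exact ψ.comp_algebraMap

include hψ

theorem part1 (I : Ideal R[X])
    (hI : I ⊔ (maximalIdeal R).map (algebraMap R R[X]) = ⊤) :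
    (I.map ψ.toRingHom).comap ψ.toRingHom = I ∧
    I.map ψ.toRingHom ⊔ (maximalIdeal R).map (algebraMap R L) = ⊤ ∧
    Function.Bijective
      (Ideal.quotientMap (I.map ψ.toRingHom) ψ.toRingHom Ideal.le_comap_map) := by
  obtain ⟨θ, hθψ, hsurj⟩ := exists_retraction ψ hψ I hI
  have hker : I.map ψ.toRingHom ≤ RingHom.ker θ := by
    rw [Ideal.map_le_iff_le_comap]
    intro x hx
    rw [Ideal.mem_comap, RingHom.mem_ker]
    change θ (ψ x) = 0
    rw [hθψ, Ideal.Quotient.eq_zero_iff_mem]; exact hx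
  have hle : (I.map ψ.toRingHom).comap ψ.toRingHom ≤ I := by
    intro x hx
    have h1 : θ (ψ x) = 0 := hker hx
    rw [hθψ, Ideal.Quotient.eq_zero_iff_mem] at h1
    exact h1
  refine ⟨le_antisymm hle Ideal.le_comap_map, ?_, ?_, ?_⟩
  · rw [← map_map_C_eq ψ, ← Ideal.map_sup, hI, Ideal.map_top]
  · exact Ideal.quotientMap_injective' hle
  · intro y
    obtain ⟨y₀, rfl⟩ := Ideal.Quotient.mk_surjective y
    obtain ⟨x, -, hx⟩ := hsurj y₀
    refine ⟨Ideal.Quotient.mk I x, ?_⟩
    rw [Ideal.quotientMap_mk]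
    symm
    rw [← sub_eq_zero, ← map_sub, Ideal.Quotient.eq_zero_iff_mem]
    exact hx

end part1

section aux

variable {R : Type u} [CommRing R] [IsLocalRing R]

theorem map_residue_ne_zero_of_mem_SS {σ : R[X]} (hσ : σ ∈ SS R) :
    σ.map (residue R) ≠ 0 := by
  obtain ⟨k, g, hg, rfl⟩ := exists_of_mem_SS hσ
  rw [Polynomial.map_mul, Polynomial.map_pow, map_X]
  have hg' : g.map (residue R) ≠ 0 := by
    intro h0
    have := congrArg (fun q => q.coeff 0) h0
    simp only [coeff_map, hg, map_one, coeff_zero] at this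
    exact one_ne_zero this
  exact mul_ne_zero (pow_ne_zero k X_ne_zero) hg'

theorem map_residue_eq_zero_of_mem_map_C {c : R[X]}
    (hc : c ∈ (maximalIdeal R).map (algebraMap R R[X])) : c.map (residue R) = 0 := by
  rw [Polynomial.algebraMap_eq, Ideal.mem_map_C_iff] at hc
  ext i
  rw [coeff_map, coeff_zero, IsLocalRing.residue_eq_zero_iff]
  exact hc i

variable {L : Type u} [CommRing L] [Algebra R[X] L] [IsLocalization (SS R) L]

theorem map_residue_eq_of_algebraMap_sub_mem {p q : R[X]}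
    (h : algebraMap R[X] L (p - q) ∈
      ((maximalIdeal R).map (algebraMap R R[X])).map (algebraMap R[X] L)) :
    p.map (residue R) = q.map (residue R) := by
  rw [IsLocalization.mem_map_algebraMap_iff (SS R)] at h
  obtain ⟨⟨c, σ'⟩, hcσ⟩ := h
  simp only at hcσ
  rw [← map_mul, IsLocalization.eq_iff_exists (SS R)] at hcσ
  obtain ⟨σ'', hσ''⟩ := hcσ
  have h1 := congrArg (Polynomial.map (residue R)) hσ''
  simp only [Polynomial.map_mul, Polynomial.map_sub,
    map_residue_eq_zero_of_mem_map_C c.2, mul_zero] at h1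
  have h2 := map_residue_ne_zero_of_mem_SS σ''.2
  have h3 := map_residue_ne_zero_of_mem_SS σ'.2
  rcases mul_eq_zero.mp h1 with h4 | h4
  · exact absurd h4 h2
  · rcases mul_eq_zero.mp h4 with h5 | h5
    · exact sub_eq_zero.mp h5
    · exact absurd h5 h3

theorem isUnit_algebraMap_of_isUnit_coeff_zero {G : R[X]} (hG : IsUnit (G.coeff 0)) :
    IsUnit (algebraMap R[X] L G) := by
  obtain ⟨c, hc⟩ := hG.exists_left_inv
  have h1 : (C c * G).coeff 0 = 1 := by rw [coeff_C_mul, hc]
  have h2 : IsUnit (algebraMap R[X] L (C c * G)) :=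
    IsLocalization.map_units L (⟨C c * G, mem_SS_of_coeff h1⟩ : SS R)
  rw [map_mul] at h2
  exact isUnit_of_mul_isUnit_right h2

end aux

end Groth.Agent.H9.LQ

namespace Groth.Agent.H9.LQ

open Polynomial IsLocalRing Groth.Agent.H9.APL

universe u

section part2

variable {R : Type u} [CommRing R] [HenselianLocalRing R]
    {L : Type u} [CommRing L] [Algebra R[X] L] [IsLocalization (SS R) L]
    [Algebra R L] [IsScalarTower R R[X] L]
    (ψ : R[X] →ₐ[R] L) (hψ : ψ X * algebraMap R[X] L X = 1)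

include hψ

theorem exists_witness_comap (J : Ideal L)
    (hJ : J ⊔ (maximalIdeal R).map (algebraMap R L) = ⊤) :
    ∃ f ∈ J.comap ψ.toRingHom, f.coeff 0 = 1 ∧ ∀ i, 0 < i → f.coeff i ∈ maximalIdeal R := by
  have hmL : (maximalIdeal R).map (algebraMap R L) =
      ((maximalIdeal R).map (algebraMap R R[X])).map (algebraMap R[X] L) := by
    rw [Ideal.map_map, ← IsScalarTower.algebraMap_eq]
  have h1 : (1 : L) ∈ J ⊔ (maximalIdeal R).map (algebraMap R L) := by
    rw [hJ]; exact Submodule.mem_top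
  obtain ⟨j, hj, μ, hμ, hsum⟩ := Submodule.mem_sup.mp h1
  obtain ⟨⟨p, σ⟩, hpσ⟩ := IsLocalization.surj (SS R) j
  simp only at hpσ
  have hpJ : algebraMap R[X] L p ∈ J := by rw [← hpσ]; exact J.mul_mem_right _ hj
  have hsub : algebraMap R[X] L (p - σ) ∈
      ((maximalIdeal R).map (algebraMap R R[X])).map (algebraMap R[X] L) := by
    rw [← hmL]
    have : algebraMap R[X] L (p - σ) = -(μ * algebraMap R[X] L σ) := by
      rw [map_sub, ← hpσ]
      have : j = 1 - μ := by rw [← hsum]; ring
      rw [this]; ring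
    rw [this]
    exact Ideal.neg_mem_iff _ |>.mpr (Ideal.mul_mem_right _ _ hμ)
  have hred := map_residue_eq_of_algebraMap_sub_mem (L := L) hsub
  obtain ⟨k, g, hg, hσ⟩ := exists_of_mem_SS σ.2
  rw [hσ, Polynomial.map_mul, Polynomial.map_pow, map_X] at hred
  have hg0 : (g.map (residue R)).coeff 0 = 1 := by rw [coeff_map, hg, map_one]
  have hc : IsCoprime ((X : (ResidueField R)[X]) ^ k) (g.map (residue R)) := by
    apply IsCoprime.pow_left
    refine ⟨-divX (g.map (residue R)), 1, ?_⟩
    have := X_mul_divX_add (g.map (residue R))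
    rw [hg0, map_one] at this
    rw [one_mul]
    nth_rewrite 2 [← this]
    ring
  obtain ⟨P, G, hpPG, hPmon, hPmap, hGmap⟩ :=
    Groth.Agent.H8.HenselFactor.exists_factorization p (X ^ k) (g.map (residue R))
      (monic_X_pow k) hc hred
  have hG0 : IsUnit (G.coeff 0) := by
    have : residue R (G.coeff 0) = 1 := by
      rw [← coeff_map, hGmap, hg0]
    rw [← IsLocalRing.residue_ne_zero_iff_isUnit, this]
    exact one_ne_zero
  have hGu : IsUnit (algebraMap R[X] L G) := isUnit_algebraMap_of_isUnit_coeff_zero hG0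
  have hPJ : algebraMap R[X] L P ∈ J := by
    obtain ⟨w, hw⟩ := hGu.exists_right_inv
    have : algebraMap R[X] L P = algebraMap R[X] L p * w := by
      rw [hpPG, map_mul, mul_assoc, hw, mul_one]
    rw [this]
    exact J.mul_mem_right _ hpJ
  have hPdeg : P.natDegree = k := by
    have := hPmon.natDegree_map (residue R)
    rw [hPmap, natDegree_X_pow] at this
    exact this.symm
  have hPcoeff : ∀ i, i < k → P.coeff i ∈ maximalIdeal R := by
    intro i hi
    rw [← IsLocalRing.residue_eq_zero_iff, ← coeff_map, hPmap, coeff_X_pow, if_neg hi.ne]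
  refine ⟨P.reverse, ?_, ?_, ?_⟩
  · rw [Ideal.mem_comap]
    change ψ P.reverse ∈ J
    letI : Invertible (algebraMap R[X] L X) := ⟨ψ X, hψ, by rw [mul_comm]; exact hψ⟩
    have h2 := eval₂_reverse_mul_pow (algebraMap R L) (algebraMap R[X] L X) P
    have h3 : ⅟(algebraMap R[X] L X) = ψ X := rfl
    have h4 : eval₂ (algebraMap R L) (ψ X) P.reverse = ψ P.reverse := by
      rw [← aeval_def, aeval_algHom_apply, aeval_X_left_apply]
    have h5 : eval₂ (algebraMap R L) (algebraMap R[X] L X) P = algebraMap R[X] L P := by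
      rw [← aeval_def, aeval_algebraMap_apply, aeval_X_left_apply]
    rw [h3, h4, h5, hPdeg] at h2
    have h6 : ψ P.reverse = algebraMap R[X] L P * ψ X ^ k := by
      rw [← h2, mul_assoc, ← mul_pow, mul_comm (algebraMap R[X] L X), hψ, one_pow, mul_one]
    rw [h6]
    exact J.mul_mem_right _ hPJ
  · rw [coeff_zero_reverse]; exact hPmon
  · intro i hi
    rw [coeff_reverse, hPdeg]
    by_cases hik : i ≤ k
    · rw [revAt_le hik]
      exact hPcoeff _ (by omega)
    · push Not at hik
      rw [revAt_eq_self_of_lt hik, coeff_eq_zero_of_natDegree_lt (by rw [hPdeg]; exact hik)]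
      exact Ideal.zero_mem _

theorem part2 (J : Ideal L)
    (hJ : J ⊔ (maximalIdeal R).map (algebraMap R L) = ⊤) :
    (J.comap ψ.toRingHom).map ψ.toRingHom = J ∧
    J.comap ψ.toRingHom ⊔ (maximalIdeal R).map (algebraMap R R[X]) = ⊤ := by
  obtain ⟨f, hfJ, hf0, hfm⟩ := exists_witness_comap ψ hψ J hJ
  have htop : J.comap ψ.toRingHom ⊔ (maximalIdeal R).map (algebraMap R R[X]) = ⊤ := by
    rw [Ideal.eq_top_iff_one]
    refine Submodule.mem_sup.mpr ⟨f, hfJ, 1 - f, ?_, by ring⟩
    rw [Polynomial.algebraMap_eq, Ideal.mem_map_C_iff]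
    intro i
    rw [coeff_sub]
    rcases Nat.eq_zero_or_pos i with rfl | hi
    · rw [coeff_one_zero, hf0, sub_self]; exact Ideal.zero_mem _
    · rw [coeff_one, if_neg (Nat.pos_iff_ne_zero.mp hi), zero_sub]
      exact Ideal.neg_mem_iff _ |>.mpr (hfm i hi)
  refine ⟨le_antisymm Ideal.map_comap_le ?_, htop⟩
  intro x hx
  obtain ⟨θ, -, hsurj⟩ := exists_retraction ψ hψ (J.comap ψ.toRingHom) htop
  obtain ⟨x', -, hx'⟩ := hsurj x
  have h1 : x - ψ x' ∈ J := Ideal.map_comap_le hx'
  have h2 : ψ x' ∈ J := by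
    have := J.sub_mem hx h1
    rwa [sub_sub_cancel] at this
  have h3 : ψ x' ∈ (J.comap ψ.toRingHom).map ψ.toRingHom :=
    Ideal.mem_map_of_mem ψ.toRingHom (Ideal.mem_comap.mpr h2)
  have := Ideal.add_mem _ hx' h3
  rwa [sub_add_cancel] at this

end part2

end Groth.Agent.H9.LQ
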