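import Mathlib
import Groth.Agent.H4.SemiLang
import Groth.Agent.Lib.Helper9.Misc.LFX1

set_option autoImplicit false
set_option linter.style.haveILetI false
set_option linter.unusedSectionVars false
set_option linter.unusedVariables false

namespace Groth.Agent.H9.LTR

open Polynomial TensorProduct
open Groth.Agent.H4.SemiLang

section T1
variable {K : Type*} [Field K] {E : Type*} [AddCommGroup E] [Module K E] [FiniteDimensional K E]

/-- trace of an endomorphism equals the trace of its restriction to an invariant subspace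
containing the image of a power. -/
theorem trace_eq_trace_restrict (T : E →ₗ[K] E) (U : Submodule K E) (hU : ∀ x ∈ U, T x ∈ U)
    (n : ℕ) (hn : ∀ x, (T ^ n) x ∈ U) :
    LinearMap.trace K E T = LinearMap.trace K U (T.restrict hU) := by
  obtain ⟨U', hc⟩ := Submodule.exists_isCompl U
  set P : E →ₗ[K] U := Submodule.projectionOnto U U' hc with hP
  set ι : U →ₗ[K] E := U.subtype with hι
  set Q : E →ₗ[K] E := LinearMap.id - ι ∘ₗ P with hQ
  have hPι : ∀ u : U, P (ι u) = u := fun u => Submodule.projectionOnto_apply_left hc u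
  have hQU : ∀ x ∈ U, Q x = 0 := by
    intro x hx
    have := hPι ⟨x, hx⟩
    simp only [hQ, LinearMap.sub_apply, LinearMap.id_apply, LinearMap.comp_apply]
    have h2 : P x = ⟨x, hx⟩ := this
    rw [h2]; simp [hι]
  have hsplit : T = ι ∘ₗ (P ∘ₗ T) + Q ∘ₗ T := by
    ext x
    simp [hQ]
  have h1 : LinearMap.trace K E (ι ∘ₗ (P ∘ₗ T)) = LinearMap.trace K U (T.restrict hU) := by
    rw [LinearMap.trace_comp_comm']
    congr 1
    ext u
    have : T (u : E) ∈ U := hU _ u.2
    have h3 := hPι ⟨T u, this⟩
    simp only [LinearMap.comp_apply, LinearMap.restrict_apply]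
    have h4 : P (T (ι u)) = ⟨T u, this⟩ := h3
    rw [h4]
  have hQTQ : ∀ x, Q (T (Q x)) = Q (T x) := by
    intro x
    have : Q x = x - ι (P x) := by simp [hQ]
    rw [this, map_sub, map_sub, sub_eq_self]
    apply hQU
    exact hU _ (P x).2
  have hpow : ∀ m : ℕ, ∀ x, ((Q ∘ₗ T) ^ (m + 1)) x = Q ((T ^ (m + 1)) x) := by
    intro m
    induction m with
    | zero => intro x; simp
    | succ m ih =>
      intro x
      rw [pow_succ', Module.End.mul_apply, ih, LinearMap.comp_apply, hQTQ, pow_succ' T (m + 1),
        Module.End.mul_apply]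
  have hnil : IsNilpotent (Q ∘ₗ T) := by
    refine ⟨n + 1, ?_⟩
    ext x
    rw [hpow n x, LinearMap.zero_apply]
    apply hQU
    rw [pow_succ', Module.End.mul_apply]
    exact hU _ (hn x)
  have h2 : LinearMap.trace K E (Q ∘ₗ T) = 0 :=
    (LinearMap.isNilpotent_trace_of_isNilpotent hnil).eq_zero
  conv_lhs => rw [hsplit]
  rw [map_add, h1, h2, add_zero]

end T1


section main
universe u
variable {p : ℕ} [Fact p.Prime] (k : Type u) [Field k] [Fintype k]
    [CharP k p] (f : ℕ) (hq : Fintype.card k = p ^ f) (K : Type u) [Field K] [Algebra k K]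
    [IsAlgClosed K]
    (V : Type u) [AddCommGroup V] [Module k V] [FiniteDimensional k V]
    (φ : V →ₛₗ[frobenius k p] V) (F : V →ₗ[k] V) (hF : ∀ x, F x = (⇑φ)^[f] x)
    (φK : K ⊗[k] V →+ K ⊗[k] V) (hφK : ∀ (μ : K) (v : V), φK (μ ⊗ₜ[k] v) = (μ ^ p) ⊗ₜ[k] φ v)

include hφK in
theorem isQLinK : IsQLin (k := K) p φK := by
  intro d w
  induction w using TensorProduct.induction_on with
  | zero => simp
  | tmul c v =>
    rw [TensorProduct.smul_tmul', hφK, hφK, TensorProduct.smul_tmul', smul_eq_mul, smul_eq_mul,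
      mul_pow]
  | add x y hx hy => rw [smul_add, map_add, map_add, hx, hy, smul_add]

include hφK in
theorem iterate_tmulK (n : ℕ) (c : K) (v : V) :
    φK^[n] (c ⊗ₜ[k] v) = (c ^ (p ^ n)) ⊗ₜ[k] (⇑φ)^[n] v := by
  induction n generalizing c v with
  | zero => simp
  | succ n ih =>
    rw [Function.iterate_succ_apply', ih, hφK, Function.iterate_succ_apply', ← pow_mul, pow_succ]

include hF in
theorem F_comm_φ (x : V) : F (φ x) = φ (F x) := by
  rw [hF, hF, ← Function.iterate_succ_apply, Function.iterate_succ_apply']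

include hF hφK in
theorem FK_comm (y : K ⊗[k] V) : φK (F.baseChange K y) = F.baseChange K (φK y) := by
  induction y using TensorProduct.induction_on with
  | zero => simp
  | tmul c v =>
    rw [LinearMap.baseChange_tmul, hφK, hφK, LinearMap.baseChange_tmul, F_comm_φ k f V φ F hF]
  | add x y hx hy => rw [map_add, map_add, map_add, map_add, hx, hy]

include hF in
theorem iterate_φ_mul (n : ℕ) (v : V) : (⇑φ)^[f * n] v = (F ^ n) v := by
  rw [Function.iterate_mul, Module.End.pow_apply]
  have : (⇑φ)^[f] = ⇑F := by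
    funext x; exact (hF x).symm
  rw [this]

theorem baseChange_pow_tmul (n : ℕ) (c : K) (v : V) :
    ((F.baseChange K) ^ n) (c ⊗ₜ[k] v) = c ⊗ₜ[k] (F ^ n) v := by
  induction n generalizing v with
  | zero => simp
  | succ n ih =>
    rw [pow_succ, Module.End.mul_apply, LinearMap.baseChange_tmul, ih, pow_succ,
      Module.End.mul_apply]

variable (W : Submodule (↥(⊥ : Subfield k)) (K ⊗[k] V)) (hW : ∀ y, y ∈ W ↔ φK y = y)

theorem smul_compat (c : ↥(⊥ : Subfield k)) (y : K ⊗[k] V) :
    c • y = (algebraMap k K (algebraMap (↥(⊥ : Subfield k)) k c)) • y := by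
  rw [algebraMap_smul]
  rfl

include hq hF hφK hW in
theorem main :
    (∀ y, φK y = y → φK (F.baseChange K y) = F.baseChange K y) ∧
    Module.Finite (↥(⊥ : Subfield k)) ↥W ∧
    ∀ (G : ↥W →ₗ[↥(⊥ : Subfield k)] ↥W), (∀ y : ↥W, (↑(G y) : K ⊗[k] V) = F.baseChange K ↑y) →
      algebraMap k K (algebraMap (↥(⊥ : Subfield k)) k (LinearMap.trace (↥(⊥ : Subfield k)) ↥W G)) =
        algebraMap k K (LinearMap.trace k V F) := by
  classical
  have hp : p.Prime := Fact.out
  haveI : CharP K p := charP_of_injective_algebraMap (algebraMap k K).injective p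
  have hf1 : 1 ≤ f := by
    by_contra h
    have h0 : f = 0 := by omega
    rw [h0, pow_zero] at hq
    have := Fintype.one_lt_card (α := k)
    omega
  have h1 : ∀ y, φK y = y → φK (F.baseChange K y) = F.baseChange K y := by
    intro y hy
    rw [FK_comm k f K V φ F hF φK hφK, hy]
  set FK := F.baseChange K with hFK
  have hqlin := isQLinK k K V φ φK hφK
  obtain ⟨N, hN⟩ := iterate_mem_span_fixed (k := K) (V := K ⊗[k] V) hp.one_lt
    (CharP.cast_eq_zero K p) hqlin
  obtain ⟨b, hbsub, hbspan, hbli0⟩ := exists_linearIndependent K {x : K ⊗[k] V | φK x = x}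
  have hbfin : b.Finite := hbli0.setFinite
  haveI : Fintype b := hbfin.fintype
  set v : b → K ⊗[k] V := fun i => (i : K ⊗[k] V) with hv
  set U : Submodule K (K ⊗[k] V) := Submodule.span K (Set.range v) with hU
  have hUeq : U = Submodule.span K {x : K ⊗[k] V | φK x = x} := by
    rw [hU, hv, Subtype.range_coe, hbspan]
  have hvfix : ∀ i, φK (v i) = v i := fun i => hbsub i.2
  -- coordinates of fixed vectors
  have hcoord : ∀ y, φK y = y → ∃ n : b → ℕ, y = ∑ i, (n i) • v i := by
    intro y hy
    have hyU : y ∈ U := by rw [hUeq]; exact Submodule.subset_span hy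
    obtain ⟨l, hl⟩ := Finsupp.mem_span_range_iff_exists_finsupp.mp hyU
    have hl' : Finsupp.linearCombination K v l = y := by
      rw [Finsupp.linearCombination_apply]; exact hl
    have hφy : φK y = Finsupp.linearCombination K v
        (l.mapRange (fun d => d ^ p) (by simp [hp.ne_zero])) := by
      rw [← hl', Finsupp.linearCombination_apply, Finsupp.sum, map_sum,
        Finsupp.linearCombination_apply, Finsupp.sum_mapRange_index (by simp), Finsupp.sum]
      apply Finset.sum_congr rfl
      intro i _
      rw [hqlin, hvfix]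
    have hleq : l.mapRange (fun d => d ^ p) (by simp [hp.ne_zero]) = l := by
      apply hbli0
      rw [← hφy, hy, hl']
    have hli : ∀ i, (l i) ^ p = l i := by
      intro i
      have := DFunLike.congr_fun hleq i
      simpa using this
    choose n hn using fun i => LFX.exists_natCast_of_pow_eq K p (l i) (hli i)
    refine ⟨n, ?_⟩
    rw [← hl', Finsupp.linearCombination_apply, Finsupp.sum_fintype _ _ (by simp)]
    apply Finset.sum_congr rfl
    intro i _
    rw [hn i, Nat.cast_smul_eq_nsmul]
  -- basis of W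
  set γ : ↥(⊥ : Subfield k) → K := fun c => algebraMap k K (algebraMap (↥(⊥ : Subfield k)) k c)
    with hγ
  have hγinj : Function.Injective γ :=
    (algebraMap k K).injective.comp (algebraMap (↥(⊥ : Subfield k)) k).injective
  let vW : b → W := fun i => ⟨v i, (hW _).mpr (hvfix i)⟩
  have hvWli : LinearIndependent (↥(⊥ : Subfield k)) vW := by
    apply LinearIndependent.of_comp W.subtype
    have hcomp : (W.subtype ∘ vW) = v := rfl
    rw [hcomp, Fintype.linearIndependent_iff]
    intro g h2 i
    have h3 : ∑ i, γ (g i) • v i = 0 := by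
      rw [← h2]
      apply Finset.sum_congr rfl
      intro i _
      rw [smul_compat]
    have := Fintype.linearIndependent_iff.mp hbli0 (fun i => γ (g i)) h3 i
    apply hγinj
    rw [this]; simp [hγ]
  have hvWsp : ⊤ ≤ Submodule.span (↥(⊥ : Subfield k)) (Set.range vW) := by
    intro y _
    obtain ⟨n, hn⟩ := hcoord y.1 ((hW _).mp y.2)
    have : y = ∑ i, (n i) • vW i := by
      apply Subtype.ext
      rw [hn]
      simp [vW]
    rw [this]
    apply Submodule.sum_mem
    intro i _
    exact Submodule.smul_of_tower_mem _ _ (Submodule.subset_span ⟨i, rfl⟩)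
  let BW : Module.Basis b (↥(⊥ : Subfield k)) W := Module.Basis.mk hvWli hvWsp
  have hBW : ∀ i, BW i = vW i := fun i => Module.Basis.mk_apply hvWli hvWsp i
  refine ⟨h1, Module.Finite.of_basis BW, ?_⟩
  intro G hG
  -- U is FK-invariant
  have hUinv : ∀ x ∈ U, FK x ∈ U := by
    intro x hx
    rw [hUeq] at hx ⊢
    induction hx using Submodule.span_induction with
    | mem x hx => exact Submodule.subset_span (h1 x hx)
    | zero => rw [map_zero]; exact Submodule.zero_mem _
    | add x y _ _ hx hy => rw [map_add]; exact Submodule.add_mem _ hx hy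
    | smul a x _ hx => rw [map_smul]; exact Submodule.smul_mem _ _ hx
  have hiterU : ∀ m, N + 1 ≤ m → ∀ y, φK^[m] y ∈ U := by
    intro m hm y
    obtain ⟨j, rfl⟩ : ∃ j, m = (N + 1) + j := ⟨m - (N + 1), by omega⟩
    rw [Function.iterate_add_apply, hUeq]
    exact hN _
  have hpowU : ∀ y, (FK ^ (N + 1)) y ∈ U := by
    intro y
    induction y using TensorProduct.induction_on with
    | zero => rw [map_zero]; exact Submodule.zero_mem _
    | tmul c x =>
      rw [hFK, baseChange_pow_tmul]
      obtain ⟨ν, hν⟩ := IsAlgClosed.exists_pow_nat_eq c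
        (pow_pos hp.pos (f * (N + 1)) : 0 < p ^ (f * (N + 1)))
      have := hiterU (f * (N + 1)) (by nlinarith) (ν ⊗ₜ[k] x)
      rw [iterate_tmulK k K V φ φK hφK, hν, iterate_φ_mul k f V φ F hF] at this
      exact this
    | add x y hx hy => rw [map_add]; exact Submodule.add_mem _ hx hy
  have htr1 : LinearMap.trace K _ FK = algebraMap k K (LinearMap.trace k V F) :=
    LinearMap.trace_baseChange F K
  have htr2 := trace_eq_trace_restrict FK U hUinv (N + 1) hpowU
  rw [← htr1, htr2]
  -- compute both traces in bases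
  let BU : Module.Basis b K U := Module.Basis.span hbli0
  have hBU : ∀ i, (BU i : K ⊗[k] V) = v i := fun i => Module.Basis.coe_span_apply hbli0 i
  rw [LinearMap.trace_eq_matrix_trace K BU, LinearMap.trace_eq_matrix_trace _ BW]
  simp only [Matrix.trace, Matrix.diag_apply, LinearMap.toMatrix_apply, map_sum]
  apply Finset.sum_congr rfl
  intro i _
  -- G (BW i) = Σ_j g_j • BW j
  set g : b → ↥(⊥ : Subfield k) := fun j => BW.repr (G (BW i)) j with hg
  have hGi : G (BW i) = ∑ j, g j • BW j := (BW.sum_repr (G (BW i))).symm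
  have hFKi : FK (v i) = ∑ j, γ (g j) • v j := by
    have h2 := hG (BW i)
    rw [hBW] at h2
    have h3 : ((G (vW i) : W) : K ⊗[k] V) = ∑ j, g j • v j := by
      rw [← hBW, hGi]
      simp [hBW, vW]
    rw [h3] at h2
    have h4 : FK (v i) = ∑ j, g j • v j := h2.symm
    rw [h4]
    apply Finset.sum_congr rfl
    intro j _
    rw [smul_compat]
  have hres : (FK.restrict hUinv) (BU i) = ∑ j, γ (g j) • BU j := by
    apply Subtype.ext
    rw [LinearMap.restrict_apply]
    simp only [hBU, Submodule.coe_sum, Submodule.coe_smul]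
    exact hFKi
  rw [hres, Module.Basis.repr_sum_self]

end main

end Groth.Agent.H9.LTR
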