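import Mathlib

/-! Helper9: restriction of polynomials to a line (for S11238). -/

set_option linter.style.haveILetI false
set_option linter.unusedSectionVars false

namespace Groth.Agent.H9.LUR

open Polynomial

universe u
variable {k : Type u} [Field k] {n : ℕ}

/-- a nonzero polynomial over an infinite field has a point where it does not vanish -/
theorem exists_eval_ne_zero [Infinite k] (p : MvPolynomial (Fin n) k) (hp : p ≠ 0) :
    ∃ u : Fin n → k, MvPolynomial.eval u p ≠ 0 := by
  by_contra hcon
  push Not at hcon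
  apply hp
  apply MvPolynomial.funext
  intro u
  rw [hcon u, map_zero]

/-- restriction to the line through `u` (at 0) and `u'` (at 1) -/
noncomputable def ev (u u' : Fin n → k) : MvPolynomial (Fin n) k →ₐ[k] k[X] :=
  MvPolynomial.aeval (fun i => C (u i) + C (u' i - u i) * X)

theorem ev_eval_zero (u u' : Fin n → k) (q : MvPolynomial (Fin n) k) :
    (ev u u' q).eval 0 = MvPolynomial.eval u q := by
  have h1 : (Polynomial.aeval (0 : k)).comp (ev u u') =
      MvPolynomial.aeval (fun i => u i) := by
    rw [ev, MvPolynomial.comp_aeval]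
    congr 1
    funext i
    simp
  have h2 := AlgHom.congr_fun h1 q
  rw [AlgHom.comp_apply, Polynomial.coe_aeval_eq_eval] at h2
  rw [h2, MvPolynomial.aeval_def, Algebra.algebraMap_self, MvPolynomial.eval₂_id]

theorem ev_eval_one (u u' : Fin n → k) (q : MvPolynomial (Fin n) k) :
    (ev u u' q).eval 1 = MvPolynomial.eval u' q := by
  have h1 : (Polynomial.aeval (1 : k)).comp (ev u u') =
      MvPolynomial.aeval (fun i => u' i) := by
    rw [ev, MvPolynomial.comp_aeval]
    congr 1
    funext i
    simp
  have h2 := AlgHom.congr_fun h1 q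
  rw [AlgHom.comp_apply, Polynomial.coe_aeval_eq_eval] at h2
  rw [h2, MvPolynomial.aeval_def, Algebra.algebraMap_self, MvPolynomial.eval₂_id]

/-- choice of the line: given nonzero `D` and `p, q` with `q ∣ D`, `p/q` non-constant -/
theorem exists_line [Infinite k] (D p q : MvPolynomial (Fin n) k) (hD : D ≠ 0) (hq : q ∣ D)
    (hpq : ∀ c : k, p ≠ MvPolynomial.C c * q) :
    ∃ u u' : Fin n → k, MvPolynomial.eval u D ≠ 0 ∧
      ∀ c : k, ev u u' p ≠ C c * ev u u' q := by
  obtain ⟨u', hu'⟩ := exists_eval_ne_zero D hD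
  obtain ⟨q', rfl⟩ := hq
  have hqu' : MvPolynomial.eval u' q ≠ 0 := by
    intro h; apply hu'; rw [map_mul, h, zero_mul]
  set c := MvPolynomial.eval u' p / MvPolynomial.eval u' q with hc
  have hG : (p - MvPolynomial.C c * q) * (q * q') ≠ 0 :=
    mul_ne_zero (sub_ne_zero.2 (hpq c)) hD
  obtain ⟨u, hu⟩ := exists_eval_ne_zero _ hG
  rw [map_mul] at hu
  have hu1 := left_ne_zero_of_mul hu
  have hu2 := right_ne_zero_of_mul hu
  refine ⟨u, u', hu2, ?_⟩
  intro d hd
  have e0 := congrArg (Polynomial.eval 0) hd
  have e1 := congrArg (Polynomial.eval 1) hd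
  rw [Polynomial.eval_mul, Polynomial.eval_C, ev_eval_zero, ev_eval_zero] at e0
  rw [Polynomial.eval_mul, Polynomial.eval_C, ev_eval_one, ev_eval_one] at e1
  have hdc : d = c := by
    rw [hc, e1, mul_div_assoc, div_self hqu', mul_one]
  apply hu1
  rw [map_sub, map_mul, MvPolynomial.eval_C, e0, hdc, sub_self]

end Groth.Agent.H9.LUR
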