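import Mathlib
import Groth.Agent.Lib.Helper9.Misc.LUR1

/-! Helper9: the local ring of a line in affine space and evaluation on it (for S11238). -/

set_option linter.style.haveILetI false
set_option linter.unusedSectionVars false

namespace Groth.Agent.H9.LUR

open Polynomial

universe u
variable {k : Type u} [Field k] {n : ℕ} (u u' : Fin n → k)

/-- polynomials not vanishing identically on the line -/
noncomputable def lineMonoid : Submonoid (MvPolynomial (Fin n) k) :=
  Submonoid.comap (ev u u').toRingHom.toMonoidHom (nonZeroDivisors k[X])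

theorem mem_lineMonoid (q : MvPolynomial (Fin n) k) : q ∈ lineMonoid u u' ↔ ev u u' q ≠ 0 := by
  rw [lineMonoid, Submonoid.mem_comap]
  exact mem_nonZeroDivisors_iff_ne_zero

theorem ne_zero_of_mem_lineMonoid {q : MvPolynomial (Fin n) k} (hq : q ∈ lineMonoid u u') :
    q ≠ 0 := by
  rintro rfl
  rw [mem_lineMonoid, map_zero] at hq
  exact hq rfl

/-- the local ring of the line -/
abbrev LineRing : Type u := Localization (lineMonoid u u')

theorem isUnit_algebraMap_frac (y : lineMonoid u u') :
    IsUnit ((IsScalarTower.toAlgHom k (MvPolynomial (Fin n) k)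
      (FractionRing (MvPolynomial (Fin n) k))) y) := by
  rw [IsScalarTower.coe_toAlgHom']
  apply IsUnit.mk0
  intro h
  exact ne_zero_of_mem_lineMonoid u u' y.2
    ((IsFractionRing.injective (MvPolynomial (Fin n) k) _) (by rw [h, map_zero]))

/-- the inclusion of the local ring of the line in the function field -/
noncomputable def incl : LineRing u u' →ₐ[k] FractionRing (MvPolynomial (Fin n) k) :=
  IsLocalization.liftAlgHom (M := lineMonoid u u') (isUnit_algebraMap_frac u u')

theorem incl_mk' (p : MvPolynomial (Fin n) k) (q : lineMonoid u u') :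
    incl u u' (IsLocalization.mk' (LineRing u u') p q) =
      algebraMap _ (FractionRing (MvPolynomial (Fin n) k)) p /
        algebraMap _ (FractionRing (MvPolynomial (Fin n) k)) (q : MvPolynomial (Fin n) k) := by
  rw [incl, IsLocalization.liftAlgHom_apply, IsLocalization.lift_mk'_spec]
  have hq : algebraMap _ (FractionRing (MvPolynomial (Fin n) k)) (q : MvPolynomial (Fin n) k) ≠ 0 :=
    (isUnit_algebraMap_frac u u' q).ne_zero
  show algebraMap _ (FractionRing (MvPolynomial (Fin n) k)) p =
    algebraMap _ (FractionRing (MvPolynomial (Fin n) k)) (q : MvPolynomial (Fin n) k) * _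
  field_simp

theorem incl_injective : Function.Injective (incl u u') := by
  rw [injective_iff_map_eq_zero]
  intro z hz
  obtain ⟨p, q, rfl⟩ := IsLocalization.exists_mk'_eq (lineMonoid u u') z
  rw [incl_mk'] at hz
  have hq : algebraMap _ (FractionRing (MvPolynomial (Fin n) k)) (q : MvPolynomial (Fin n) k) ≠ 0 :=
    (isUnit_algebraMap_frac u u' q).ne_zero
  rw [div_eq_zero_iff] at hz
  rcases hz with hz | hz
  · have : p = 0 := (IsFractionRing.injective (MvPolynomial (Fin n) k) _) (by rw [hz, map_zero])
    rw [this, IsLocalization.mk'_zero]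
  · exact absurd hz hq

theorem isUnit_ev (y : lineMonoid u u') :
    IsUnit (((IsScalarTower.toAlgHom k k[X] (RatFunc k)).comp (ev u u')) y) := by
  rw [AlgHom.comp_apply, IsScalarTower.coe_toAlgHom']
  apply IsUnit.mk0
  intro h
  have := (mem_lineMonoid u u' y).1 y.2
  exact this ((IsFractionRing.injective k[X] (RatFunc k)) (by rw [h, map_zero]))

/-- evaluation on the line -/
noncomputable def evO : LineRing u u' →ₐ[k] RatFunc k :=
  IsLocalization.liftAlgHom (M := lineMonoid u u') (isUnit_ev u u')

theorem evO_mk' (p : MvPolynomial (Fin n) k) (q : lineMonoid u u') :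
    evO u u' (IsLocalization.mk' (LineRing u u') p q) =
      algebraMap k[X] (RatFunc k) (ev u u' p) /
        algebraMap k[X] (RatFunc k) (ev u u' (q : MvPolynomial (Fin n) k)) := by
  rw [evO, IsLocalization.liftAlgHom_apply, IsLocalization.lift_mk'_spec]
  have hq : algebraMap k[X] (RatFunc k) (ev u u' (q : MvPolynomial (Fin n) k)) ≠ 0 := by
    have := (isUnit_ev u u' q).ne_zero
    simpa using this
  show algebraMap k[X] (RatFunc k) (ev u u' p) =
    algebraMap k[X] (RatFunc k) (ev u u' (q : MvPolynomial (Fin n) k)) * _
  field_simp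

end Groth.Agent.H9.LUR
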