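import Mathlib
import Groth.Agent.Lib.Helper9.Misc.LUR1
import Groth.Agent.Lib.Helper9.Misc.LUR2

/-! Helper9: injectivity criterion for algebra maps out of a subalgebra of a field (for S11238). -/

set_option linter.style.haveILetI false
set_option linter.unusedSectionVars false

namespace Groth.Agent.H9.LUR

open Polynomial IntermediateField

universe u
variable {k : Type u} [Field k] {K : Type u} [Field K] [Algebra k K]

/-- an algebra map from a subalgebra `A₀` of a field to a domain is injective if it is injective on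
a subalgebra `A₁ ≤ A₀` over which `A₀` is algebraic -/
theorem injective_of_algebraic {Rt : Type u} [CommRing Rt] [Algebra k Rt]
    (A₁ A₀ : Subalgebra k K) (h10 : A₁ ≤ A₀) (ψ : A₀ →ₐ[k] Rt)
    (hinj : ∀ a : A₁, ψ (Subalgebra.inclusion h10 a) = 0 → a = 0)
    (halg : ∀ a : A₀, IsAlgebraic A₁ (a : K)) : Function.Injective ψ := by
  rw [injective_iff_map_eq_zero]
  intro a ha
  by_contra hne
  have haK : (a : K) ≠ 0 := fun h => hne (Subtype.ext h)
  obtain ⟨Q, hQ0, hQ⟩ := halg a
  obtain ⟨Q₁, hQQ₁, hndvd⟩ := Polynomial.exists_eq_pow_rootMultiplicity_mul_and_not_dvd Q hQ0 0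
  rw [map_zero, sub_zero] at hQQ₁ hndvd
  have hc0 : Q₁.coeff 0 ≠ 0 := fun h => hndvd (Polynomial.X_dvd_iff.2 h)
  have hQ₁ : Polynomial.aeval (a : K) Q₁ = 0 := by
    rw [hQQ₁, map_mul, map_pow, Polynomial.aeval_X] at hQ
    rcases mul_eq_zero.1 hQ with h | h
    · exact absurd (pow_eq_zero_iff (by
        intro h0
        rw [h0, pow_zero] at h
        exact one_ne_zero h) |>.1 h) haK
    · exact h
  -- move to A₀
  have hQ₁' : Polynomial.eval₂ (Subalgebra.inclusion h10).toRingHom a Q₁ = 0 := by
    apply Subtype.ext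
    have : ((Polynomial.eval₂ (Subalgebra.inclusion h10).toRingHom a Q₁ : A₀) : K) =
        Polynomial.aeval (a : K) Q₁ := by
      rw [Polynomial.aeval_def, ← Subalgebra.coe_val, ← AlgHom.coe_toRingHom,
        Polynomial.hom_eval₂]
      rfl
    rw [this, hQ₁]; rfl
  have h2 := congrArg ψ hQ₁'
  rw [map_zero, ← AlgHom.coe_toRingHom, Polynomial.hom_eval₂, AlgHom.coe_toRingHom, ha,
    Polynomial.eval₂_at_zero] at h2
  exact hc0 (hinj _ h2)

end Groth.Agent.H9.LUR
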