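import Mathlib
import Groth.Agent.Lib.Helper9.Misc.LUR1
import Groth.Agent.Lib.Helper9.Misc.LUR2
import Groth.Agent.Lib.Helper9.Misc.LUR3

/-! Helper9: a function field of transcendence degree one inside k(t_1..t_n) embeds in k(s) (for S11238). -/

set_option linter.style.haveILetI false
set_option linter.unusedSectionVars false

namespace Groth.Agent.H9.LUR

open Polynomial IntermediateField
open scoped IntermediateField.algebraAdjoinAdjoin

universe u
variable {k : Type u} [Field k] [Infinite k] {K : Type u} [Field K] [Algebra k K] {n : ℕ}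

/-- a function field of transcendence degree one inside `k(t₁,…,tₙ)` embeds in `k(s)` -/
theorem exists_algHom_ratFunc (T : Finset K) (hT : IntermediateField.adjoin k (T : Set K) = ⊤)
    (x : K) (hxT : x ∈ T) (hx : Transcendental k x)
    (halg : Algebra.IsAlgebraic ↥(IntermediateField.adjoin k {x}) K)
    (φ : K →ₐ[k] FractionRing (MvPolynomial (Fin n) k)) :
    Nonempty (K →ₐ[k] RatFunc k) := by
  classical
  -- numerators and denominators
  have hnd : ∀ g : K, ∃ p q : MvPolynomial (Fin n) k, q ≠ 0 ∧
      φ g = algebraMap _ (FractionRing (MvPolynomial (Fin n) k)) p /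
        algebraMap _ (FractionRing (MvPolynomial (Fin n) k)) q := by
    intro g
    obtain ⟨p, q, hq, h⟩ := IsFractionRing.div_surjective (A := MvPolynomial (Fin n) k) (φ g)
    exact ⟨p, q, nonZeroDivisors.ne_zero hq, h.symm⟩
  choose num den hden hφ using hnd
  set D := ∏ g ∈ T, den g with hD
  have hD0 : D ≠ 0 := Finset.prod_ne_zero_iff.2 fun g _ => hden g
  have hpq : ∀ c : k, num x ≠ MvPolynomial.C c * den x := by
    intro c hc
    have h1 : φ x = algebraMap k _ c := by
      rw [hφ x, hc, map_mul]
      have hq : algebraMap _ (FractionRing (MvPolynomial (Fin n) k)) (den x) ≠ 0 := by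
        intro h
        exact hden x ((IsFractionRing.injective (MvPolynomial (Fin n) k) _) (by rw [h, map_zero]))
      rw [mul_div_assoc, div_self hq, mul_one, ← MvPolynomial.algebraMap_eq,
        ← IsScalarTower.algebraMap_apply]
    have h2 : x = algebraMap k K c := φ.injective (by
      show φ x = φ (algebraMap k K c)
      rw [h1, AlgHom.commutes])
    exact hx (h2 ▸ isAlgebraic_algebraMap c)
  obtain ⟨u, u', huD, hline⟩ := exists_line D (num x) (den x) hD0
    (Finset.dvd_prod_of_mem den hxT) hpq
  have hmem : ∀ g ∈ T, den g ∈ lineMonoid u u' := by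
    intro g hg
    rw [mem_lineMonoid]
    intro h0
    have h1 : MvPolynomial.eval u (den g) = 0 := by
      rw [← ev_eval_zero u u', h0, Polynomial.eval_zero]
    obtain ⟨c, hc⟩ := Finset.dvd_prod_of_mem den hg
    apply huD
    rw [hD, hc, map_mul, h1, zero_mul]
  -- the subalgebras
  set A₀ : Subalgebra k K := Algebra.adjoin k (T : Set K) with hA₀
  set A₁ : Subalgebra k K := Algebra.adjoin k {x} with hA₁
  have h10 : A₁ ≤ A₀ := Algebra.adjoin_mono (by simpa using hxT)
  have hrange : ∀ a : A₀, φ a ∈ (incl u u').range := by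
    intro a
    have : A₀ ≤ (incl u u').range.comap φ := by
      apply Algebra.adjoin_le
      intro g hg
      rw [Subalgebra.coe_comap, Set.mem_preimage, SetLike.mem_coe]
      refine ⟨IsLocalization.mk' (LineRing u u') (num g) ⟨den g, hmem g hg⟩, ?_⟩
      show incl u u' _ = φ g
      rw [incl_mk', hφ g]
    exact this a.2
  let φ₀ : A₀ →ₐ[k] (incl u u').range := (φ.comp A₀.val).codRestrict _ hrange
  let e : LineRing u u' ≃ₐ[k] (incl u u').range := AlgEquiv.ofInjective _ (incl_injective u u')
  let ψ₀ : A₀ →ₐ[k] RatFunc k := (evO u u').comp ((e.symm : _ →ₐ[k] _).comp φ₀)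
  -- value at x
  have hxA₀ : x ∈ A₀ := Algebra.subset_adjoin (by simpa using hxT)
  have hψx : ψ₀ ⟨x, hxA₀⟩ = algebraMap k[X] (RatFunc k) (ev u u' (num x)) /
      algebraMap k[X] (RatFunc k) (ev u u' (den x)) := by
    have h1 : e.symm (φ₀ ⟨x, hxA₀⟩) =
        IsLocalization.mk' (LineRing u u') (num x) ⟨den x, hmem x hxT⟩ := by
      rw [AlgEquiv.symm_apply_eq]
      apply Subtype.ext
      show φ x = incl u u' _
      rw [incl_mk', hφ x]
    show evO u u' (e.symm (φ₀ ⟨x, hxA₀⟩)) = _
    rw [h1, evO_mk']
  have htr : Transcendental k (ψ₀ ⟨x, hxA₀⟩) := by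
    apply RatFunc.transcendental_of_ne_C
    rintro ⟨c, hc⟩
    rw [hψx] at hc
    have hq : algebraMap k[X] (RatFunc k) (ev u u' (den x)) ≠ 0 := by
      intro h
      exact (mem_lineMonoid u u' _).1 (hmem x hxT)
        ((IsFractionRing.injective k[X] (RatFunc k)) (by rw [h, map_zero]))
    rw [div_eq_iff hq] at hc
    apply hline c
    apply IsFractionRing.injective k[X] (RatFunc k)
    rw [hc, map_mul]
    rfl
  -- injectivity
  have hinj : Function.Injective ψ₀ := by
    apply injective_of_algebraic A₁ A₀ h10 ψ₀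
    · rintro ⟨a, ha⟩ h0
      rw [hA₁, Algebra.adjoin_singleton_eq_range_aeval] at ha
      obtain ⟨g, rfl⟩ := ha
      change ψ₀ (Subalgebra.inclusion h10 ⟨Polynomial.aeval x g, ha⟩) = 0 at h0
      have h1 : Subalgebra.inclusion h10 ⟨Polynomial.aeval x g, ha⟩ =
          Polynomial.aeval (⟨x, hxA₀⟩ : A₀) g := by
        apply Subtype.ext
        simp only [Subalgebra.coe_inclusion]
        rw [← Subalgebra.coe_val, ← Polynomial.aeval_algHom_apply]
        rfl
      rw [h1, ← Polynomial.aeval_algHom_apply] at h0
      have hg : g = 0 := by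
        by_contra hg
        exact htr ⟨g, hg, h0⟩
      apply Subtype.ext
      simp [hg]
    · intro a
      exact (IsFractionRing.isAlgebraic_iff (Algebra.adjoin k {x}) ↥k⟮x⟯ K).2
        (halg.isAlgebraic (a : K))
  -- fraction field
  haveI : IsFractionRing A₀ K := by
    apply IsFractionRing.of_field
    intro z
    have hz : z ∈ IntermediateField.adjoin k (T : Set K) := by rw [hT]; trivial
    obtain ⟨a, b, -, h⟩ := IsFractionRing.div_surjective (A := Algebra.adjoin k (T : Set K))
      (⟨z, hz⟩ : IntermediateField.adjoin k (T : Set K))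
    refine ⟨a, b, ?_⟩
    have := congrArg Subtype.val h
    exact this.symm
  exact ⟨IsFractionRing.liftAlgHom (g := ψ₀) hinj⟩

end Groth.Agent.H9.LUR
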