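import Mathlib
import Groth.Agent.Lib.Helper9.Misc.LUR4

/-! Helper9: unirational curves over an algebraically closed field are rational, via Mathlib Lüroth (S11238). -/

set_option linter.style.haveILetI false
set_option linter.unusedSectionVars false

namespace Groth.Agent.H9.LUR

open Polynomial IntermediateField

universe u

theorem S11238_main (k : Type u) [Field k] [IsAlgClosed k]
    (K : Type u) [Field K] [Algebra k K] (hfg : (⊤ : IntermediateField k K).FG)
    (x : K) (hx : Transcendental k x) (halg : Algebra.IsAlgebraic ↥(IntermediateField.adjoin k {x}) K)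
    (n : ℕ) (φ : K →ₐ[k] FractionRing (MvPolynomial (Fin n) k)) :
    ∃ t : K, Transcendental k t ∧ IntermediateField.adjoin k {t} = ⊤ := by
  classical
  haveI : Infinite k := IsAlgClosed.instInfinite
  obtain ⟨S, hS⟩ := hfg
  have hT : IntermediateField.adjoin k ((insert x S : Finset K) : Set K) = ⊤ := by
    rw [eq_top_iff, ← hS]
    apply IntermediateField.adjoin.mono
    intro y hy
    simp only [Finset.coe_insert, Set.mem_insert_iff, Finset.mem_coe]
    exact Or.inr hy
  obtain ⟨ψ⟩ := exists_algHom_ratFunc (insert x S) hT x (Finset.mem_insert_self x S) hx halg φ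
  set E : IntermediateField k (RatFunc k) := ψ.fieldRange with hE
  have hEne : E ≠ ⊥ := by
    intro hbot
    have h1 : ψ x ∈ E := ⟨x, rfl⟩
    rw [hbot, IntermediateField.mem_bot] at h1
    obtain ⟨c, hc⟩ := h1
    have h2 : ψ x = ψ (algebraMap k K c) := by rw [← hc, AlgHom.commutes]
    have h3 : x = algebraMap k K c := ψ.injective h2
    exact hx (h3 ▸ isAlgebraic_algebraMap c)
  have hgen := RatFunc.Luroth.eq_adjoin_generator (E := E)
  have hmem : RatFunc.Luroth.generator E ∈ E := RatFunc.Luroth.generator_mem
  obtain ⟨t, ht⟩ := hmem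
  refine ⟨t, ?_, ?_⟩
  · have h1 := RatFunc.Luroth.transcendental_generator hEne
    intro halg
    apply h1
    have : RatFunc.Luroth.generator E = ψ t := ht.symm
    rw [this]
    exact IsAlgebraic.algHom ψ halg
  · apply IntermediateField.map_injective ψ
    rw [IntermediateField.adjoin_map, Set.image_singleton, ← AlgHom.fieldRange_eq_map, ← hE]
    rw [hgen]
    congr 2

end Groth.Agent.H9.LUR
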