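import Mathlib
import Groth.Prelude.Def_LambdaRing
import Groth.Prelude.Def_KRR

set_option autoImplicit false
set_option linter.unusedSectionVars false
set_option linter.unusedVariables false

open PowerSeries

namespace Groth.Agent.H9.LamExt

universe u

/-- additive-to-multiplicative maps -/
structure MulF {R S : Type*} [AddCommMonoid R] [CommSemiring S] (Λ : R → S) : Prop where
  zero : Λ 0 = 1
  add : ∀ x y, Λ (x + y) = Λ x * Λ y

namespace MulF
variable {R S : Type*} [AddCommMonoid R] [CommSemiring S] {Λ : R → S}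

theorem sum (h : MulF Λ) {ι : Type*} (s : Finset ι) (f : ι → R) :
    Λ (∑ i ∈ s, f i) = ∏ i ∈ s, Λ (f i) := by
  classical
  induction s using Finset.induction_on with
  | empty => simp [h.zero]
  | insert a t ha ih => rw [Finset.sum_insert ha, Finset.prod_insert ha, h.add, ih]

theorem multiset_sum (h : MulF Λ) (s : Multiset R) : Λ s.sum = (s.map Λ).prod := by
  induction s using Multiset.induction_on with
  | empty => simp [h.zero]
  | cons a t ih => rw [Multiset.sum_cons, h.add, ih, Multiset.map_cons, Multiset.prod_cons]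

theorem nsmul (h : MulF Λ) (n : ℕ) (x : R) : Λ (n • x) = Λ x ^ n := by
  induction n with
  | zero => simp [h.zero]
  | succ k ih => rw [succ_nsmul, h.add, ih, pow_succ]

end MulF

section LamBasic
variable {K : Type*} [CommRing K] [LambdaRing.LambdaOps K]

theorem lamSeries_add (x y : K) :
    LambdaRing.lamSeries (x + y) = LambdaRing.lamSeries x * LambdaRing.lamSeries y := by
  ext k
  rw [PowerSeries.coeff_mul, Finset.Nat.sum_antidiagonal_eq_sum_range_succ
    (fun i j => PowerSeries.coeff i (LambdaRing.lamSeries x) *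
      PowerSeries.coeff j (LambdaRing.lamSeries y)) k]
  simp only [LambdaRing.lamSeries, PowerSeries.coeff_mk]
  exact LambdaRing.LambdaOps.lam_add k x y

theorem coeff_lamSeries (n : ℕ) (x : K) :
    PowerSeries.coeff n (LambdaRing.lamSeries x) = LambdaRing.LambdaOps.lam n x := by
  rw [LambdaRing.lamSeries, PowerSeries.coeff_mk]

theorem constantCoeff_lamSeries (x : K) :
    PowerSeries.constantCoeff (LambdaRing.lamSeries x) = 1 := by
  rw [← PowerSeries.coeff_zero_eq_constantCoeff_apply, coeff_lamSeries,
    LambdaRing.LambdaOps.lam_zero]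

theorem isUnit_lamSeries (x : K) : IsUnit (LambdaRing.lamSeries x) := by
  rw [PowerSeries.isUnit_iff_constantCoeff, constantCoeff_lamSeries]
  exact isUnit_one

theorem lamSeries_zero : LambdaRing.lamSeries (0 : K) = 1 := by
  have h := lamSeries_add (0 : K) 0
  rw [add_zero] at h
  have h2 : (1 : PowerSeries K) * LambdaRing.lamSeries (0 : K) =
      LambdaRing.lamSeries (0 : K) * LambdaRing.lamSeries (0 : K) := by
    rw [one_mul]; exact h
  exact ((isUnit_lamSeries (0 : K)).mul_left_inj.mp h2).symm

theorem lamSeries_mulF : MulF (LambdaRing.lamSeries : K → PowerSeries K) :=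
  ⟨lamSeries_zero, lamSeries_add⟩

theorem map_lamSeries {K K' : Type u} [CommRing K] [LambdaRing.LambdaOps K] [CommRing K']
    [LambdaRing.LambdaOps K'] (g : K →+* K')
    (hg : LambdaRing.IsLambdaHom g) (x : K) :
    PowerSeries.map g (LambdaRing.lamSeries x) = LambdaRing.lamSeries (g x) := by
  ext n
  rw [PowerSeries.coeff_map, coeff_lamSeries, coeff_lamSeries, hg]

theorem lamSeries_line (P : LambdaRing.PosStructure K) {w : K} (hw : P.IsLine w) :
    LambdaRing.lamSeries w = 1 + PowerSeries.C w * PowerSeries.X := by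
  ext n
  rw [coeff_lamSeries, map_add, PowerSeries.coeff_one, PowerSeries.coeff_C_mul, PowerSeries.coeff_X]
  rcases n with _ | _ | n
  · simp [LambdaRing.LambdaOps.lam_zero]
  · simp [LambdaRing.LambdaOps.lam_one]
  · rw [P.lam_eq_zero w hw.1 (n + 2) (by rw [hw.2]; push_cast; omega)]
    simp

theorem isLine_one (P : LambdaRing.PosStructure K) : P.IsLine 1 := by
  refine ⟨?_, map_one _⟩
  have := P.natCast_mem 1 one_pos
  simpa using this

theorem isLine_mul (P : LambdaRing.PosStructure K) {v w : K} (hv : P.IsLine v) (hw : P.IsLine w) :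
    P.IsLine (v * w) :=
  ⟨P.mul_mem v w hv.1 hw.1, by rw [map_mul, hv.2, hw.2, mul_one]⟩

theorem isLine_pow (P : LambdaRing.PosStructure K) {v : K} (hv : P.IsLine v) (n : ℕ) :
    P.IsLine (v ^ n) := by
  induction n with
  | zero => rw [pow_zero]; exact isLine_one P
  | succ k ih => rw [pow_succ]; exact isLine_mul P ih hv

theorem isUnit_of_isLine (P : LambdaRing.PosStructure K) {v : K} (hv : P.IsLine v) : IsUnit v := by
  have := P.isUnit_lam v hv.1
  rw [hv.2] at this
  simpa [LambdaRing.LambdaOps.lam_one] using this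

theorem lamSeries_one (P : LambdaRing.PosStructure K) :
    LambdaRing.lamSeries (1 : K) = 1 + PowerSeries.X := by
  rw [lamSeries_line P (isLine_one P), map_one, one_mul]

theorem card_eq_aug (P : LambdaRing.PosStructure K) (s : Multiset K)
    (hs : ∀ w ∈ s, P.IsLine w) : (Multiset.card s : ℤ) = P.aug s.sum := by
  rw [map_multiset_sum, Multiset.map_congr rfl (fun w hw => (hs w hw).2), Multiset.map_const',
    Multiset.sum_replicate, nsmul_eq_mul, mul_one]

theorem lamSeries_multiset (s : Multiset K)
    (hs : ∀ w ∈ s, LambdaRing.lamSeries w = 1 + PowerSeries.C w * PowerSeries.X) :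
    LambdaRing.lamSeries s.sum = (s.map fun w => 1 + PowerSeries.C w * PowerSeries.X).prod := by
  rw [lamSeries_mulF.multiset_sum]
  exact congrArg Multiset.prod (Multiset.map_congr rfl hs)

theorem esymm_cons (a : K) (t : Multiset K) (k : ℕ) :
    (a ::ₘ t).esymm (k + 1) = t.esymm (k + 1) + a * t.esymm k := by
  unfold Multiset.esymm
  rw [Multiset.powersetCard_cons, Multiset.map_add, Multiset.sum_add, Multiset.map_map]
  congr 1
  have : (Multiset.prod ∘ Multiset.cons a) = fun s : Multiset K => a * s.prod := by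
    funext s; simp
  rw [this, Multiset.sum_map_mul_left]

theorem lam_sum_eq_esymm (s : Multiset K)
    (hs : ∀ w ∈ s, LambdaRing.lamSeries w = 1 + PowerSeries.C w * PowerSeries.X) (n : ℕ) :
    LambdaRing.LambdaOps.lam n s.sum = s.esymm n := by
  induction s using Multiset.induction_on generalizing n with
  | empty =>
    rw [Multiset.sum_zero, ← coeff_lamSeries, lamSeries_zero, PowerSeries.coeff_one]
    rcases n with _ | n
    · simp [Multiset.esymm, Multiset.powersetCard_zero_left]
    · simp [Multiset.esymm]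
  | cons a t ih =>
    have iht := ih (fun w hw => hs w (Multiset.mem_cons_of_mem hw))
    rcases n with _ | k
    · rw [LambdaRing.LambdaOps.lam_zero]
      simp [Multiset.esymm, Multiset.powersetCard_zero_left]
    · rw [esymm_cons, ← iht, ← iht, Multiset.sum_cons, ← coeff_lamSeries, lamSeries_add,
        hs a (Multiset.mem_cons_self a t), add_mul, one_mul, map_add, mul_assoc,
        PowerSeries.coeff_C_mul, PowerSeries.coeff_succ_X_mul, coeff_lamSeries, coeff_lamSeries]

end LamBasic

section TopCoeff
variable {R : Type*} [CommRing R]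

theorem coeff_mul_of_bounded (F G : PowerSeries R) (r s : ℕ)
    (hF : ∀ n, r < n → PowerSeries.coeff n F = 0) (hG : ∀ n, s < n → PowerSeries.coeff n G = 0) :
    (∀ n, r + s < n → PowerSeries.coeff n (F * G) = 0) ∧
      PowerSeries.coeff (r + s) (F * G) = PowerSeries.coeff r F * PowerSeries.coeff s G := by
  constructor
  · intro n hn
    rw [PowerSeries.coeff_mul]
    refine Finset.sum_eq_zero fun p hp => ?_
    rw [Finset.HasAntidiagonal.mem_antidiagonal] at hp
    by_cases h1 : r < p.1
    · rw [hF _ h1, zero_mul]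
    · rw [hG p.2 (by omega), mul_zero]
  · rw [PowerSeries.coeff_mul, Finset.sum_eq_single (r, s)]
    · intro p hp hne
      rw [Finset.HasAntidiagonal.mem_antidiagonal] at hp
      by_cases h1 : r < p.1
      · rw [hF _ h1, zero_mul]
      · have h2 : s < p.2 := by
          by_contra h2
          exact hne (Prod.ext (show p.1 = r by omega) (show p.2 = s by omega))
        rw [hG _ h2, mul_zero]
    · intro h
      exact absurd (Finset.HasAntidiagonal.mem_antidiagonal.mpr (show (r, s).1 + (r, s).2 = r + s from rfl)) h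

theorem rescale_one_add (c w : R) :
    PowerSeries.rescale c (1 + PowerSeries.C w * PowerSeries.X) =
      1 + PowerSeries.C (c * w) * PowerSeries.X := by
  rw [map_add, map_one, map_mul, PowerSeries.rescale_X, map_mul]
  congr 1
  have : PowerSeries.rescale c (PowerSeries.C w) = PowerSeries.C w := by
    ext n
    rw [PowerSeries.coeff_rescale, PowerSeries.coeff_C]
    split_ifs with h
    · rw [h, pow_zero, one_mul]
    · rw [mul_zero]
  rw [this]; ring

theorem map_injective_of_injective {R' : Type*} [CommRing R'] (g : R →+* R')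
    (hg : Function.Injective g) : Function.Injective (PowerSeries.map g) := by
  intro F G h
  ext n
  have := congrArg (PowerSeries.coeff n) h
  rw [PowerSeries.coeff_map, PowerSeries.coeff_map] at this
  exact hg this

end TopCoeff

section Spl
variable {R : Type*} [CommRing R] (Λ : R → PowerSeries R)

/-- strong line elements for `Λ` -/
def SLine (w : R) : Prop := ∀ a, Λ (w * a) = PowerSeries.rescale w (Λ a)

theorem SLine.one : SLine Λ 1 := fun a => by
  rw [one_mul, PowerSeries.rescale_one, RingHom.id_apply]

variable {Λ}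

theorem SLine.mul {w w' : R} (h : SLine Λ w) (h' : SLine Λ w') : SLine Λ (w * w') := fun a => by
  rw [mul_assoc, h, h', PowerSeries.rescale_rescale, mul_comm w' w]

theorem SLine.pow {w : R} (h : SLine Λ w) (n : ℕ) : SLine Λ (w ^ n) := by
  induction n with
  | zero => rw [pow_zero]; exact SLine.one Λ
  | succ k ih => rw [pow_succ]; exact ih.mul h

theorem SLine.lam_eq (hone : Λ 1 = 1 + PowerSeries.X) {w : R} (hw : SLine Λ w) :
    Λ w = 1 + PowerSeries.C w * PowerSeries.X := by
  have := hw 1
  rw [mul_one, hone] at this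
  rw [this, map_add, map_one, PowerSeries.rescale_X]

variable (Λ)

/-- `x` is a sum of `r` strong line elements -/
def Spl (x : R) (r : ℕ) : Prop :=
  ∃ s : Multiset R, (∀ w ∈ s, SLine Λ w) ∧ s.sum = x ∧ Multiset.card s = r

variable {Λ}

theorem Spl.zero : Spl Λ 0 0 := ⟨0, by simp, by simp, by simp⟩

theorem Spl.of_sline {w : R} (h : SLine Λ w) : Spl Λ w 1 :=
  ⟨{w}, by simpa using h, by simp, by simp⟩

theorem Spl.add {x y : R} {r s : ℕ} : Spl Λ x r → Spl Λ y s → Spl Λ (x + y) (r + s) := by
  rintro ⟨s₁, h₁, rfl, rfl⟩ ⟨s₂, h₂, rfl, rfl⟩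
  exact ⟨s₁ + s₂, fun w hw => (Multiset.mem_add.mp hw).elim (h₁ w) (h₂ w),
    Multiset.sum_add _ _, Multiset.card_add _ _⟩

theorem sum_map_mul_left' (w : R) (s : Multiset R) :
    (s.map (fun z => w * z)).sum = w * s.sum := by
  induction s using Multiset.induction_on with
  | empty => simp
  | cons a s ih => simp [ih, mul_add]

theorem Spl.sline_mul {w y : R} {s : ℕ} (hw : SLine Λ w) : Spl Λ y s → Spl Λ (w * y) s := by
  rintro ⟨s₂, h₂, rfl, rfl⟩
  refine ⟨s₂.map (fun z => w * z), ?_, sum_map_mul_left' w s₂, Multiset.card_map _ _⟩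
  intro z hz
  obtain ⟨z', hz', rfl⟩ := Multiset.mem_map.mp hz
  exact hw.mul (h₂ z' hz')

theorem Spl.mul {x y : R} {r s : ℕ} : Spl Λ x r → Spl Λ y s → Spl Λ (x * y) (r * s) := by
  rintro ⟨s₁, h₁, rfl, rfl⟩ hy
  induction s₁ using Multiset.induction_on with
  | empty => simpa using (Spl.zero (Λ := Λ))
  | cons a t ih =>
    have ht : ∀ w ∈ t, SLine Λ w := fun w hw => h₁ w (Multiset.mem_cons_of_mem hw)
    have ha : SLine Λ a := h₁ a (Multiset.mem_cons_self a t)
    have := (Spl.sline_mul ha hy).add (ih ht)
    convert this using 1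
    · rw [Multiset.sum_cons, add_mul]
    · rw [Multiset.card_cons, add_mul, one_mul, add_comm]

theorem Spl.pow {x : R} {r : ℕ} (h : Spl Λ x r) (b : ℕ) : Spl Λ (x ^ b) (r ^ b) := by
  induction b with
  | zero => rw [pow_zero, pow_zero]; exact Spl.of_sline (SLine.one Λ)
  | succ k ih => rw [pow_succ, pow_succ]; exact ih.mul h

theorem Spl.coeff_eq_zero (hΛ : MulF Λ) (hone : Λ 1 = 1 + PowerSeries.X) {x : R} {r : ℕ}
    (h : Spl Λ x r) : ∀ n, r < n → PowerSeries.coeff n (Λ x) = 0 := by
  obtain ⟨s, hs, rfl, rfl⟩ := h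
  induction s using Multiset.induction_on with
  | empty =>
    intro n hn
    rw [Multiset.sum_zero, hΛ.zero, PowerSeries.coeff_one, if_neg]
    rw [Multiset.card_zero] at hn; omega
  | cons a t ih =>
    intro n hn
    have iht := ih (fun w hw => hs w (Multiset.mem_cons_of_mem hw))
    rw [Multiset.card_cons] at hn
    obtain ⟨k, rfl⟩ : ∃ k, n = k + 1 := ⟨n - 1, by omega⟩
    rw [Multiset.sum_cons, hΛ.add, (hs a (Multiset.mem_cons_self a t)).lam_eq hone, add_mul,
      one_mul, map_add, mul_assoc, PowerSeries.coeff_C_mul, PowerSeries.coeff_succ_X_mul,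
      iht _ (by omega), iht _ (by omega), mul_zero, add_zero]

end Spl

section Basis
variable {A B ι : Type*} [CommRing A] [CommRing B] [Algebra A B]

/-- the series attached to coordinates in a basis -/
noncomputable def bLam (ΛA : A → PowerSeries A) (b : Module.Basis ι A B) (x : B) : PowerSeries B :=
  (b.repr x).prod fun i a =>
    PowerSeries.rescale (b i) (PowerSeries.map (algebraMap A B) (ΛA a))

theorem bLam_mulF (ΛA : A → PowerSeries A) (hΛ : MulF ΛA) (b : Module.Basis ι A B) :
    MulF (bLam ΛA b) := by
  constructor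
  · simp [bLam]
  · intro x y
    unfold bLam
    rw [map_add, Finsupp.prod_add_index']
    · intro i; simp [hΛ.zero]
    · intro i a a'; rw [hΛ.add, map_mul, map_mul]

theorem bLam_single (ΛA : A → PowerSeries A) (hΛ : MulF ΛA) (b : Module.Basis ι A B) (i : ι)
    (a : A) : bLam ΛA b (algebraMap A B a * b i) =
      PowerSeries.rescale (b i) (PowerSeries.map (algebraMap A B) (ΛA a)) := by
  unfold bLam
  have : b.repr (algebraMap A B a * b i) = Finsupp.single i a := by
    rw [← Algebra.smul_def, map_smul, Module.Basis.repr_self, Finsupp.smul_single, smul_eq_mul,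
      mul_one]
  rw [this, Finsupp.prod_single_index]
  simp [hΛ.zero]

theorem map_bLam {B'' : Type*} [CommRing B''] (ΛA : A → PowerSeries A) (b : Module.Basis ι A B)
    (Λ'' : B'' → PowerSeries B'') (hΛ'' : MulF Λ'') (H : B →+* B'') (h : A →+* B'')
    (hH : ∀ a, H (algebraMap A B a) = h a)
    (hc : ∀ i a, Λ'' (H (b i) * h a) =
      PowerSeries.rescale (H (b i)) (PowerSeries.map h (ΛA a))) (x : B) :
    PowerSeries.map H (bLam ΛA b x) = Λ'' (H x) := by
  have hx : x = (b.repr x).sum fun i a => a • b i := by
    rw [← Finsupp.linearCombination_apply, b.linearCombination_repr]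
  have hHx : H x = ∑ i ∈ (b.repr x).support, H (b i) * h (b.repr x i) := by
    conv_lhs => rw [hx]
    rw [Finsupp.sum, map_sum]
    refine Finset.sum_congr rfl fun i _ => ?_
    rw [Algebra.smul_def, map_mul, hH, mul_comm]
  rw [hHx, hΛ''.sum]
  unfold bLam
  rw [map_finsuppProd, Finsupp.prod]
  refine Finset.prod_congr rfl fun i _ => ?_
  rw [hc]
  ext n
  simp only [PowerSeries.coeff_map, PowerSeries.coeff_rescale, map_mul, map_pow, hH]

theorem constantCoeff_bLam (ΛA : A → PowerSeries A)
    (h1 : ∀ a, PowerSeries.constantCoeff (ΛA a) = 1) (b : Module.Basis ι A B) (x : B) :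
    PowerSeries.constantCoeff (bLam ΛA b x) = 1 := by
  unfold bLam
  rw [map_finsuppProd, Finsupp.prod]
  refine Finset.prod_eq_one fun i _ => ?_
  rw [← PowerSeries.coeff_zero_eq_constantCoeff_apply, PowerSeries.coeff_rescale, pow_zero, one_mul,
    PowerSeries.coeff_map, PowerSeries.coeff_zero_eq_constantCoeff_apply, h1, map_one]

theorem coeff_one_prod {ι' : Type*} (s : Finset ι') (F : ι' → PowerSeries B)
    (hF : ∀ i ∈ s, PowerSeries.constantCoeff (F i) = 1) :
    PowerSeries.coeff 1 (∏ i ∈ s, F i) = ∑ i ∈ s, PowerSeries.coeff 1 (F i) := by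
  classical
  induction s using Finset.induction_on with
  | empty => simp [PowerSeries.coeff_one]
  | insert a t ha ih =>
    have iht := ih (fun i hi => hF i (Finset.mem_insert_of_mem hi))
    rw [Finset.prod_insert ha, Finset.sum_insert ha, PowerSeries.coeff_one_mul, iht, map_prod,
      Finset.prod_eq_one (fun i hi => hF i (Finset.mem_insert_of_mem hi)),
      hF a (Finset.mem_insert_self a t), mul_one, mul_one]

theorem coeff_one_bLam (ΛA : A → PowerSeries A)
    (h0 : ∀ a, PowerSeries.constantCoeff (ΛA a) = 1) (h1 : ∀ a, PowerSeries.coeff 1 (ΛA a) = a)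
    (b : Module.Basis ι A B) (x : B) : PowerSeries.coeff 1 (bLam ΛA b x) = x := by
  have hx : x = (b.repr x).sum fun i a => a • b i := by
    rw [← Finsupp.linearCombination_apply, b.linearCombination_repr]
  conv_rhs => rw [hx]
  unfold bLam
  rw [Finsupp.prod, coeff_one_prod, Finsupp.sum]
  · refine Finset.sum_congr rfl fun i _ => ?_
    rw [PowerSeries.coeff_rescale, pow_one, PowerSeries.coeff_map, h1, Algebra.smul_def, mul_comm]
  · intro i _
    rw [← PowerSeries.coeff_zero_eq_constantCoeff_apply, PowerSeries.coeff_rescale, pow_zero,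
      one_mul, PowerSeries.coeff_map, PowerSeries.coeff_zero_eq_constantCoeff_apply, h0, map_one]

/-- the pre-λ-structure attached to a basis -/
@[reducible] noncomputable def opsOfBasis [LambdaRing.LambdaOps A] (b : Module.Basis ι A B) :
    LambdaRing.LambdaOps B where
  lam n x := PowerSeries.coeff n (bLam LambdaRing.lamSeries b x)
  lam_zero x := by
    rw [PowerSeries.coeff_zero_eq_constantCoeff_apply]
    exact constantCoeff_bLam _ constantCoeff_lamSeries b x
  lam_one x := coeff_one_bLam _ constantCoeff_lamSeries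
    (fun a => by rw [coeff_lamSeries, LambdaRing.LambdaOps.lam_one]) b x
  lam_add k x y := by
    rw [(bLam_mulF _ lamSeries_mulF b).add, PowerSeries.coeff_mul,
      Finset.Nat.sum_antidiagonal_eq_sum_range_succ
        (fun i j => PowerSeries.coeff i (bLam LambdaRing.lamSeries b x) *
          PowerSeries.coeff j (bLam LambdaRing.lamSeries b y)) k]

theorem lamSeries_opsOfBasis [LambdaRing.LambdaOps A] (b : Module.Basis ι A B) (x : B) :
    @LambdaRing.lamSeries B _ (opsOfBasis b) x = bLam LambdaRing.lamSeries b x := by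
  ext n
  exact PowerSeries.coeff_mk n _

end Basis

end Groth.Agent.H9.LamExt
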