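import Mathlib
import Groth.Prelude.Def_LambdaRing
import Groth.Prelude.Def_KRR
import Groth.Agent.Lib.Helper9.Misc.LamExtA

set_option autoImplicit false
set_option linter.unusedSectionVars false
set_option linter.unusedVariables false

open PowerSeries

namespace Groth.Agent.H9.LamExt

universe u

section PolyZ
variable {K' : Type*} [CommRing K'] [LambdaRing.LambdaOps K']

/-- the series on the polynomial ring attached to the monomial basis -/
noncomputable def LamZ : Polynomial K' → PowerSeries (Polynomial K') :=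
  bLam LambdaRing.lamSeries (Polynomial.basisMonomials K')

theorem LamZ_mulF : MulF (LamZ (K' := K')) := bLam_mulF _ lamSeries_mulF _

theorem LamZ_monomial (n : ℕ) (c : K') :
    LamZ (Polynomial.monomial n c) = PowerSeries.rescale (Polynomial.X ^ n)
      (PowerSeries.map (algebraMap K' (Polynomial K')) (LambdaRing.lamSeries c)) := by
  have h := bLam_single (LambdaRing.lamSeries) lamSeries_mulF (Polynomial.basisMonomials K') n c
  have hb : (Polynomial.basisMonomials K') n = Polynomial.X ^ n := by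
    rw [Polynomial.coe_basisMonomials, Polynomial.X_pow_eq_monomial]
  rw [hb, ← Polynomial.C_eq_algebraMap, Polynomial.C_mul_X_pow_eq_monomial] at h
  exact h

theorem sline_Z (v : K')
    (hv : ∀ c, LambdaRing.lamSeries (v * c) = PowerSeries.rescale v (LambdaRing.lamSeries c))
    (n : ℕ) : SLine LamZ (Polynomial.C v * Polynomial.X ^ n) := by
  intro a
  induction a using Polynomial.induction_on' with
  | add p q hp hq => rw [mul_add, LamZ_mulF.add, hp, hq, LamZ_mulF.add, map_mul]
  | monomial k c =>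
    have e1 : Polynomial.C v * Polynomial.X ^ n * Polynomial.monomial k c =
        Polynomial.monomial (n + k) (v * c) := by
      rw [← Polynomial.C_mul_X_pow_eq_monomial, ← Polynomial.C_mul_X_pow_eq_monomial, map_mul,
        pow_add]
      ring
    rw [e1, LamZ_monomial, LamZ_monomial, hv]
    ext N
    simp only [PowerSeries.coeff_rescale, PowerSeries.coeff_map, map_mul, map_pow,
      ← Polynomial.C_eq_algebraMap]
    ring

theorem LamZ_one (P' : LambdaRing.PosStructure K') : LamZ (1 : Polynomial K') = 1 + PowerSeries.X := by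
  have h := LamZ_monomial (K' := K') 0 1
  rw [Polynomial.monomial_zero_one] at h
  rw [h, lamSeries_one P', pow_zero, PowerSeries.rescale_one, RingHom.id_apply, map_add, map_one,
    PowerSeries.map_X]

theorem map_eval_LamZ (a : Polynomial K') :
    PowerSeries.map (Polynomial.evalRingHom (1 : K')) (LamZ a) =
      LambdaRing.lamSeries (Polynomial.eval 1 a) := by
  have := map_bLam LambdaRing.lamSeries (Polynomial.basisMonomials K') LambdaRing.lamSeries
    lamSeries_mulF (Polynomial.evalRingHom (1 : K')) (RingHom.id K')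
    (fun a => by simp) (fun i a => ?_) a
  · exact this
  · have hb : (Polynomial.evalRingHom (1 : K')) ((Polynomial.basisMonomials K') i) = 1 := by
      rw [Polynomial.coe_basisMonomials]; simp
    rw [hb, one_mul, PowerSeries.rescale_one, RingHom.id_apply, RingHom.id_apply,
      PowerSeries.map_id, id]

end PolyZ

section Adj
variable {A : Type*} [CommRing A]

/-- the series on `AdjoinRoot p` attached to the power basis -/
noncomputable def aLam (ΛA : A → PowerSeries A) {p : Polynomial A} (hp : p.Monic) :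
    AdjoinRoot p → PowerSeries (AdjoinRoot p) :=
  bLam ΛA (AdjoinRoot.powerBasis' hp).basis

theorem aLam_mulF (ΛA : A → PowerSeries A) (hΛ : MulF ΛA) {p : Polynomial A} (hp : p.Monic) :
    MulF (aLam ΛA hp) := bLam_mulF _ hΛ _

theorem aLam_of_mul_root_pow (ΛA : A → PowerSeries A) (hΛ : MulF ΛA) {p : Polynomial A}
    (hp : p.Monic) (a : A) (k : ℕ) (hk : k < p.natDegree) :
    aLam ΛA hp (AdjoinRoot.of p a * AdjoinRoot.root p ^ k) =
      PowerSeries.rescale (AdjoinRoot.root p ^ k) (PowerSeries.map (AdjoinRoot.of p) (ΛA a)) := by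
  have h := bLam_single ΛA hΛ (AdjoinRoot.powerBasis' hp).basis
    ⟨k, by rw [AdjoinRoot.powerBasis'_dim]; exact hk⟩ a
  simp only [PowerBasis.coe_basis, AdjoinRoot.powerBasis'_gen, AdjoinRoot.algebraMap_eq] at h
  exact h

theorem map_aLam (ΛA : A → PowerSeries A) {p : Polynomial A} (hp : p.Monic)
    {B'' : Type*} [CommRing B''] (Λ'' : B'' → PowerSeries B'') (hΛ'' : MulF Λ'')
    (H : AdjoinRoot p →+* B'') (h : A →+* B'') (hH : ∀ a, H (AdjoinRoot.of p a) = h a)
    (hc : ∀ k, k < p.natDegree → ∀ a, Λ'' (H (AdjoinRoot.root p) ^ k * h a) =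
      PowerSeries.rescale (H (AdjoinRoot.root p) ^ k) (PowerSeries.map h (ΛA a)))
    (x : AdjoinRoot p) : PowerSeries.map H (aLam ΛA hp x) = Λ'' (H x) := by
  unfold aLam
  refine map_bLam ΛA _ Λ'' hΛ'' H h (fun a => by rw [AdjoinRoot.algebraMap_eq]; exact hH a)
    (fun i a => ?_) x
  simp only [PowerBasis.coe_basis, AdjoinRoot.powerBasis'_gen, map_pow]
  exact hc i (lt_of_lt_of_eq i.2 (AdjoinRoot.powerBasis'_dim hp)) a

theorem lift_map_injective {A' : Type*} [CommRing A'] [Nontrivial A] [Nontrivial A']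
    (g : A →+* A') (hg : Function.Injective g)
    {p : Polynomial A} (hp : p.Monic) (H : AdjoinRoot p →+* AdjoinRoot (p.map g))
    (hH : ∀ q, H (AdjoinRoot.mk p q) = AdjoinRoot.mk (p.map g) (q.map g)) :
    Function.Injective H := by
  rw [injective_iff_map_eq_zero]
  intro x hx
  obtain ⟨q, rfl⟩ := AdjoinRoot.mk_surjective x
  have h1 : AdjoinRoot.mk p q = AdjoinRoot.mk p (q %ₘ p) := by
    rw [AdjoinRoot.mk_eq_mk]
    refine ⟨q /ₘ p, ?_⟩
    have := Polynomial.modByMonic_add_div q p
    rw [sub_eq_iff_eq_add, add_comm]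
    exact this.symm
  rw [h1] at hx ⊢
  rw [hH, AdjoinRoot.mk_eq_zero] at hx
  have h2 : (q %ₘ p).map g = 0 := by
    by_contra h0
    refine Polynomial.Monic.not_dvd_of_degree_lt (hp.map g) h0 ?_ hx
    rw [hp.degree_map g]
    exact lt_of_le_of_lt Polynomial.degree_map_le (Polynomial.degree_modByMonic_lt q hp)
  have h3 : q %ₘ p = 0 := Polynomial.map_injective g hg (by rw [h2, Polynomial.map_zero])
  rw [h3, map_zero]

theorem prod_dvd_of_roots {Z : Type*} [CommRing Z] {ι : Type*} (s : Finset ι) (w : ι → Z)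
    (hw : ∀ i ∈ s, ∀ j ∈ s, i ≠ j → w i - w j ∈ nonZeroDivisors Z) (q : Polynomial Z)
    (hq : ∀ i ∈ s, q.eval (w i) = 0) :
    ∏ i ∈ s, (Polynomial.X - Polynomial.C (w i)) ∣ q := by
  classical
  induction s using Finset.induction_on generalizing q with
  | empty => simp
  | insert a t ha ih =>
    obtain ⟨q₁, rfl⟩ := ih (fun i hi j hj hij =>
      hw i (Finset.mem_insert_of_mem hi) j (Finset.mem_insert_of_mem hj) hij) q
      (fun i hi => hq i (Finset.mem_insert_of_mem hi))
    have hqa := hq a (Finset.mem_insert_self a t)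
    rw [Polynomial.eval_mul, Polynomial.eval_prod] at hqa
    have hnz : ∏ j ∈ t, Polynomial.eval (w a) (Polynomial.X - Polynomial.C (w j)) ∈
        nonZeroDivisors Z := by
      refine Submonoid.prod_mem _ fun j hj => ?_
      rw [Polynomial.eval_sub, Polynomial.eval_X, Polynomial.eval_C]
      exact hw a (Finset.mem_insert_self a t) j (Finset.mem_insert_of_mem hj)
        (fun h => ha (h ▸ hj))
    have hroot : q₁.eval (w a) = 0 := (mul_left_mem_nonZeroDivisors_eq_zero_iff hnz).mp hqa
    obtain ⟨q₂, rfl⟩ := Polynomial.dvd_iff_isRoot.mpr hroot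
    refine ⟨q₂, ?_⟩
    rw [Finset.prod_insert ha]
    ring

theorem eq_zero_of_forall_lift {Z : Type*} [CommRing Z] {n : ℕ} (w : Fin n → Z)
    (hw : ∀ i j : Fin n, i ≠ j → w i - w j ∈ nonZeroDivisors Z)
    (ξ : AdjoinRoot (∏ j : Fin n, (Polynomial.X - Polynomial.C (w j))))
    (ι : Fin n → (AdjoinRoot (∏ j : Fin n, (Polynomial.X - Polynomial.C (w j))) →+* Z))
    (hι : ∀ j q, ι j (AdjoinRoot.mk _ q) = q.eval (w j)) (h : ∀ j, ι j ξ = 0) : ξ = 0 := by
  obtain ⟨q, rfl⟩ := AdjoinRoot.mk_surjective ξ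
  rw [AdjoinRoot.mk_eq_zero]
  exact prod_dvd_of_roots Finset.univ w (fun i _ j _ hij => hw i j hij) q
    (fun j _ => by rw [← hι]; exact h j)

theorem sub_mem_nonZeroDivisors_of_units {K' : Type*} [CommRing K'] [Nontrivial K']
    (v v' : K') (hv : IsUnit v) (hv' : IsUnit v') (i j : ℕ) (hij : i ≠ j) :
    Polynomial.C v * Polynomial.X ^ i - Polynomial.C v' * Polynomial.X ^ j ∈
      nonZeroDivisors (Polynomial K') := by
  apply Polynomial.mem_nonZeroDivisors_of_leadingCoeff
  rcases lt_or_gt_of_ne hij with h | h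
  · rw [Polynomial.leadingCoeff_sub_of_degree_lt', Polynomial.leadingCoeff_C_mul_X_pow]
    · exact hv'.neg.mem_nonZeroDivisors
    · rw [Polynomial.degree_C_mul_X_pow _ hv.ne_zero, Polynomial.degree_C_mul_X_pow _ hv'.ne_zero]
      exact_mod_cast h
  · rw [Polynomial.leadingCoeff_sub_of_degree_lt, Polynomial.leadingCoeff_C_mul_X_pow]
    · exact hv.mem_nonZeroDivisors
    · rw [Polynomial.degree_C_mul_X_pow _ hv.ne_zero, Polynomial.degree_C_mul_X_pow _ hv'.ne_zero]
      exact_mod_cast h

theorem monic_of_coeffs (m : ℕ) (c : ℕ → A) (hc : c 0 = 1) :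
    (∑ i ∈ Finset.range (m + 1), Polynomial.C (c i) * Polynomial.X ^ (m - i)).Monic ∧
    (Nontrivial A → (∑ i ∈ Finset.range (m + 1),
      Polynomial.C (c i) * Polynomial.X ^ (m - i)).natDegree = m) := by
  have hrw : (∑ i ∈ Finset.range (m + 1), Polynomial.C (c i) * Polynomial.X ^ (m - i)) =
      Polynomial.X ^ m + ∑ i ∈ Finset.range m,
        Polynomial.C (c (i + 1)) * Polynomial.X ^ (m - (i + 1)) := by
    rw [Finset.sum_range_succ', hc, map_one, one_mul, Nat.sub_zero, add_comm]
  have hdeg : (∑ i ∈ Finset.range m,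
      Polynomial.C (c (i + 1)) * Polynomial.X ^ (m - (i + 1))).degree < (m : WithBot ℕ) := by
    rw [← Polynomial.mem_degreeLT]
    refine Submodule.sum_mem _ fun i hi => ?_
    rw [Polynomial.mem_degreeLT]
    refine lt_of_le_of_lt (Polynomial.degree_C_mul_X_pow_le _ _) ?_
    have := Finset.mem_range.mp hi
    exact_mod_cast (show m - (i + 1) < m by omega)
  rw [hrw]
  refine ⟨Polynomial.monic_X_pow_add hdeg, fun _ => ?_⟩
  exact Polynomial.natDegree_eq_of_degree_eq_some (by
    rw [Polynomial.degree_add_eq_left_of_degree_lt, Polynomial.degree_X_pow]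
    rw [Polynomial.degree_X_pow]; exact hdeg)

end Adj

end Groth.Agent.H9.LamExt
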