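import Mathlib
import Groth.Prelude.Def_LambdaRing
import Groth.Prelude.Def_KRR
import Groth.Agent.Lib.Helper9.Misc.LamExtA
import Groth.Agent.Lib.Helper9.Misc.LamExtB

set_option autoImplicit false
set_option linter.unusedSectionVars false
set_option linter.unusedVariables false

open PowerSeries

namespace Groth.Agent.H9.LamExt

universe u

section Ext
variable {K : Type u} [CommRing K] [LambdaRing.LambdaOps K]

theorem extPoly_eq (P : LambdaRing.PosStructure K) (e : K) :
    KRR.extPoly P e = ∑ i ∈ Finset.range ((P.aug e).toNat + 1),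
      Polynomial.C ((-1 : K) ^ i * LambdaRing.LambdaOps.lam i e) *
        Polynomial.X ^ ((P.aug e).toNat - i) := rfl

theorem extPoly_monic (P : LambdaRing.PosStructure K) (e : K) : (KRR.extPoly P e).Monic := by
  rw [extPoly_eq]
  exact (monic_of_coeffs _ (fun i => (-1 : K) ^ i * LambdaRing.LambdaOps.lam i e)
    (by simp [LambdaRing.LambdaOps.lam_zero])).1

theorem extPoly_natDegree [Nontrivial K] (P : LambdaRing.PosStructure K) (e : K) :
    (KRR.extPoly P e).natDegree = (P.aug e).toNat := by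
  rw [extPoly_eq]
  exact (monic_of_coeffs _ (fun i => (-1 : K) ^ i * LambdaRing.LambdaOps.lam i e)
    (by simp [LambdaRing.LambdaOps.lam_zero])).2 inferInstance

variable {K' : Type u} [CommRing K'] [LambdaRing.LambdaOps K']

theorem extPoly_map_eq_prod (P : LambdaRing.PosStructure K) (P' : LambdaRing.PosStructure K')
    (g : K →+* K') (hg : LambdaRing.IsExtension P P' g) (e : K) (s : Multiset K')
    (hs : ∀ w ∈ s, P'.IsLine w) (hsum : s.sum = g e) :
    (KRR.extPoly P e).map g = (s.map fun t => Polynomial.X - Polynomial.C t).prod := by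
  have hcard : Multiset.card s = (P.aug e).toNat := by
    have := card_eq_aug P' s hs
    rw [hsum, hg.aug_comp] at this
    omega
  rw [Multiset.prod_X_sub_X_eq_sum_esymm, extPoly_eq, Polynomial.map_sum, hcard]
  refine Finset.sum_congr rfl fun i _ => ?_
  have h1 : g ((-1) ^ i * LambdaRing.LambdaOps.lam i e) = (-1) ^ i * s.esymm i := by
    rw [map_mul, map_pow, map_neg, map_one, hg.isLambdaHom, ← hsum,
      lam_sum_eq_esymm s (fun w hw => lamSeries_line P' (hs w hw))]
  rw [Polynomial.map_mul, Polynomial.map_C, Polynomial.map_pow, Polynomial.map_X, h1, map_mul,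
    map_pow, map_neg, map_one, mul_assoc]

theorem eval₂_aug_extPoly (P : LambdaRing.PosStructure K) (P' : LambdaRing.PosStructure K')
    (g : K →+* K') (hg : LambdaRing.IsExtension P P' g) (e : K) (s : Multiset K')
    (hs : ∀ w ∈ s, P'.IsLine w) (hsum : s.sum = g e) (hpos : 0 < P.aug e) :
    Polynomial.eval₂ P.aug 1 (KRR.extPoly P e) = 0 := by
  have h1 : P.aug = P'.aug.comp g := RingHom.ext fun x => (hg.aug_comp x).symm
  rw [h1, ← Polynomial.eval₂_map, extPoly_map_eq_prod P P' g hg e s hs hsum]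
  have h2 : Polynomial.eval₂ P'.aug 1 (s.map fun t => Polynomial.X - Polynomial.C t).prod =
      ((s.map fun t => Polynomial.X - Polynomial.C t).map
        (Polynomial.eval₂RingHom P'.aug 1)).prod :=
    map_multiset_prod (Polynomial.eval₂RingHom P'.aug 1) _
  rw [h2, Multiset.map_map]
  apply Multiset.prod_eq_zero
  have hcard : (Multiset.card s : ℤ) = P.aug e := by
    rw [card_eq_aug P' s hs, hsum, hg.aug_comp]
  obtain ⟨w, hw⟩ : ∃ w, w ∈ s := Multiset.card_pos_iff_exists_mem.mp (by omega)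
  rw [Multiset.mem_map]
  exact ⟨w, hw, by simp [(hs w hw).2]⟩

theorem V_main [Nontrivial K] (P' : LambdaRing.PosStructure K') (g : K →+* K')
    (hginj : Function.Injective g) (hglam : LambdaRing.IsLambdaHom g)
    (hS1 : ∀ v, P'.IsLine v → ∀ a, LambdaRing.lamSeries (v * a) =
      PowerSeries.rescale v (LambdaRing.lamSeries a))
    (e f : K) (n : ℕ) (u : Fin n → K') (hu : ∀ j, P'.IsLine (u j)) (hue : ∑ j, u j = g e)
    (sf : Multiset K') (hsf : ∀ v ∈ sf, P'.IsLine v) (hsf' : sf.sum = g f)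
    (pe : Polynomial K) (hpe : pe.Monic)
    (hp' : pe.map g = ∏ j, (Polynomial.X - Polynomial.C (u j)))
    (a b N : ℕ) (hN : Multiset.card sf * (n - 1) ^ b < N) :
    PowerSeries.coeff N (aLam LambdaRing.lamSeries hpe
      (AdjoinRoot.of pe f * AdjoinRoot.root pe ^ a *
        (AdjoinRoot.of pe e - AdjoinRoot.root pe) ^ b)) = 0 := by
  haveI : Nontrivial K' := P'.aug.domain_nontrivial
  have hp'm : (pe.map g).Monic := hpe.map g
  -- the map to the extension over K'
  have hgh0 : Polynomial.eval₂ ((AdjoinRoot.of (pe.map g)).comp g) (AdjoinRoot.root (pe.map g)) pe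
      = 0 := by
    rw [← Polynomial.eval₂_map]; exact AdjoinRoot.eval₂_root _
  obtain ⟨gh, hgh⟩ : ∃ G : AdjoinRoot pe →+* AdjoinRoot (pe.map g),
      G = AdjoinRoot.lift ((AdjoinRoot.of (pe.map g)).comp g) (AdjoinRoot.root (pe.map g)) hgh0 :=
    ⟨_, rfl⟩
  have gh_of : ∀ x, gh (AdjoinRoot.of pe x) = ((AdjoinRoot.of (pe.map g)).comp g) x :=
    fun x => by rw [hgh, AdjoinRoot.lift_of]
  have gh_root : gh (AdjoinRoot.root pe) = AdjoinRoot.root (pe.map g) := by
    rw [hgh, AdjoinRoot.lift_root]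
  have gh_mk : ∀ q, gh (AdjoinRoot.mk pe q) = AdjoinRoot.mk (pe.map g) (q.map g) := fun q => by
    rw [hgh, AdjoinRoot.lift_mk, ← Polynomial.eval₂_map, ← AdjoinRoot.algebraMap_eq,
      ← Polynomial.aeval_def, AdjoinRoot.aeval_eq]
  have gh_inj : Function.Injective gh := lift_map_injective g hginj hpe gh gh_mk
  have hnat' : (pe.map g).natDegree = pe.natDegree := hpe.natDegree_map g
  have gh_compat : ∀ x, PowerSeries.map gh (aLam LambdaRing.lamSeries hpe x) =
      aLam LambdaRing.lamSeries hp'm (gh x) := by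
    intro x
    refine map_aLam LambdaRing.lamSeries hpe (aLam LambdaRing.lamSeries hp'm)
      (aLam_mulF _ lamSeries_mulF hp'm) gh ((AdjoinRoot.of (pe.map g)).comp g)
      (fun c => gh_of c) (fun k hk c => ?_) x
    rw [gh_root, RingHom.comp_apply, mul_comm (AdjoinRoot.root (pe.map g) ^ k),
      aLam_of_mul_root_pow LambdaRing.lamSeries lamSeries_mulF hp'm (g c) k
        (by rw [hnat']; exact hk), ← map_lamSeries g hglam c]
    congr 1
    all_goals (ext M; simp [PowerSeries.coeff_map])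
  -- the generic ring
  obtain ⟨w, hw⟩ : ∃ w : Fin n → Polynomial K',
      w = fun j => Polynomial.C (u j) * Polynomial.X ^ (j : ℕ) := ⟨_, rfl⟩
  have hw_eval : ∀ j, Polynomial.eval 1 (w j) = u j := fun j => by rw [hw]; simp
  have hw_sline : ∀ j, SLine LamZ (w j) := fun j => by
    rw [hw]; exact sline_Z (u j) (hS1 _ (hu j)) j
  have hw_nzd : ∀ i j : Fin n, i ≠ j → w i - w j ∈ nonZeroDivisors (Polynomial K') :=
    fun i j hij => by
      rw [hw]
      exact sub_mem_nonZeroDivisors_of_units _ _ (isUnit_of_isLine P' (hu i))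
        (isUnit_of_isLine P' (hu j)) i j (fun h => hij (Fin.ext h))
  have hpt_monic : (∏ j : Fin n, (Polynomial.X - Polynomial.C (w j))).Monic :=
    Polynomial.monic_prod_of_monic _ _ fun j _ => Polynomial.monic_X_sub_C _
  have hpt_nat : (∏ j : Fin n, (Polynomial.X - Polynomial.C (w j))).natDegree = n := by
    rw [Polynomial.natDegree_finsetProd_X_sub_C_eq_card, Finset.card_univ, Fintype.card_fin]
  have hp'_nat : (pe.map g).natDegree = n := by
    rw [hp', Polynomial.natDegree_finsetProd_X_sub_C_eq_card, Finset.card_univ, Fintype.card_fin]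
  have hpt_map : (∏ j : Fin n, (Polynomial.X - Polynomial.C (w j))).map
      (Polynomial.evalRingHom (1 : K')) = pe.map g := by
    rw [hp', Polynomial.map_prod]
    refine Finset.prod_congr rfl fun j _ => ?_
    rw [Polynomial.map_sub, Polynomial.map_X, Polynomial.map_C, Polynomial.coe_evalRingHom,
      hw_eval]
  -- specialisation
  have hsp0 : Polynomial.eval₂ ((AdjoinRoot.of (pe.map g)).comp (Polynomial.evalRingHom (1 : K')))
      (AdjoinRoot.root (pe.map g)) (∏ j : Fin n, (Polynomial.X - Polynomial.C (w j))) = 0 := by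
    rw [← Polynomial.eval₂_map, hpt_map]; exact AdjoinRoot.eval₂_root _
  obtain ⟨sp, hsp⟩ : ∃ S : AdjoinRoot (∏ j : Fin n, (Polynomial.X - Polynomial.C (w j))) →+*
      AdjoinRoot (pe.map g), S = AdjoinRoot.lift _ _ hsp0 := ⟨_, rfl⟩
  have sp_of : ∀ c, sp (AdjoinRoot.of _ c) =
      ((AdjoinRoot.of (pe.map g)).comp (Polynomial.evalRingHom (1 : K'))) c :=
    fun c => by rw [hsp, AdjoinRoot.lift_of]
  have sp_root : sp (AdjoinRoot.root _) = AdjoinRoot.root (pe.map g) := by
    rw [hsp, AdjoinRoot.lift_root]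
  have sp_compat : ∀ ξ, PowerSeries.map sp (aLam LamZ hpt_monic ξ) =
      aLam LambdaRing.lamSeries hp'm (sp ξ) := by
    intro ξ
    refine map_aLam LamZ hpt_monic (aLam LambdaRing.lamSeries hp'm)
      (aLam_mulF _ lamSeries_mulF hp'm) sp
      ((AdjoinRoot.of (pe.map g)).comp (Polynomial.evalRingHom (1 : K')))
      (fun c => sp_of c) (fun k hk c => ?_) ξ
    rw [sp_root, RingHom.comp_apply, mul_comm (AdjoinRoot.root (pe.map g) ^ k),
      aLam_of_mul_root_pow LambdaRing.lamSeries lamSeries_mulF hp'm _ k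
        (by rw [hp'_nat, ← hpt_nat]; exact hk), Polynomial.coe_evalRingHom, ← map_eval_LamZ c]
    congr 1
    all_goals (ext M; simp [PowerSeries.coeff_map])
  -- evaluation at the roots
  have hι0 : ∀ j, Polynomial.eval₂ (RingHom.id (Polynomial K')) (w j)
      (∏ i : Fin n, (Polynomial.X - Polynomial.C (w i))) = 0 := fun j => by
    rw [Polynomial.eval₂_id, Polynomial.eval_prod]
    exact Finset.prod_eq_zero (Finset.mem_univ j) (by simp)
  obtain ⟨ι, hι⟩ : ∃ I : Fin n → (AdjoinRoot (∏ i : Fin n, (Polynomial.X - Polynomial.C (w i))) →+*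
      Polynomial K'), I = fun j => AdjoinRoot.lift (RingHom.id _) (w j) (hι0 j) := ⟨_, rfl⟩
  have ι_of : ∀ j c, ι j (AdjoinRoot.of _ c) = (RingHom.id (Polynomial K')) c := fun j c => by
    rw [hι]; exact AdjoinRoot.lift_of _
  have ι_root : ∀ j, ι j (AdjoinRoot.root _) = w j := fun j => by
    rw [hι]; exact AdjoinRoot.lift_root _
  have ι_mk : ∀ j q, ι j (AdjoinRoot.mk _ q) = q.eval (w j) := fun j q => by
    rw [hι]; simp only [AdjoinRoot.lift_mk, Polynomial.eval₂_id]
  have ι_compat : ∀ j ξ, PowerSeries.map (ι j) (aLam LamZ hpt_monic ξ) = LamZ (ι j ξ) := by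
    intro j ξ
    refine map_aLam LamZ hpt_monic LamZ LamZ_mulF (ι j) (RingHom.id _) (fun c => ι_of j c)
      (fun k hk c => ?_) ξ
    rw [ι_root, RingHom.id_apply, ((hw_sline j).pow k) c, PowerSeries.map_id, id]
  -- the lifted element
  obtain ⟨yt, hyt⟩ : ∃ y : AdjoinRoot (∏ i : Fin n, (Polynomial.X - Polynomial.C (w i))),
      y = AdjoinRoot.of _ (Polynomial.C (g f)) * AdjoinRoot.root _ ^ a *
        (AdjoinRoot.of _ (∑ j, w j) - AdjoinRoot.root _) ^ b := ⟨_, rfl⟩
  have hsp_y : sp yt = gh (AdjoinRoot.of pe f * AdjoinRoot.root pe ^ a *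
      (AdjoinRoot.of pe e - AdjoinRoot.root pe) ^ b) := by
    rw [hyt]
    simp only [map_mul, map_pow, map_sub, sp_of, sp_root, gh_of, gh_root, RingHom.comp_apply,
      Polynomial.coe_evalRingHom, Polynomial.eval_C, Polynomial.eval_finsetSum, hw_eval, hue]
  have hι_y : ∀ j, ι j yt = Polynomial.C (g f) * w j ^ a * ((∑ i, w i) - w j) ^ b := fun j => by
    rw [hyt]
    simp only [map_mul, map_pow, map_sub, ι_of, ι_root, RingHom.id_apply]
  have hone : LamZ (1 : Polynomial K') = 1 + PowerSeries.X := LamZ_one P'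
  have hSpl : ∀ j, Spl LamZ (ι j yt) (Multiset.card sf * (n - 1) ^ b) := by
    intro j
    rw [hι_y]
    have h1 : Spl LamZ (Polynomial.C (g f)) (Multiset.card sf) := by
      refine ⟨sf.map Polynomial.C, ?_, ?_, Multiset.card_map _ _⟩
      · intro z hz
        obtain ⟨v, hv, rfl⟩ := Multiset.mem_map.mp hz
        have := sline_Z v (hS1 v (hsf v hv)) 0
        rwa [pow_zero, mul_one] at this
      · rw [← map_multiset_sum, hsf']
    have h2 : Spl LamZ ((∑ i, w i) - w j) (n - 1) := by
      classical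
      refine ⟨(Finset.univ.erase j).val.map w, ?_, ?_, ?_⟩
      · intro z hz
        obtain ⟨i, _, rfl⟩ := Multiset.mem_map.mp hz
        exact hw_sline i
      · rw [← Finset.sum_eq_multiset_sum, Finset.sum_erase_eq_sub (Finset.mem_univ j)]
      · rw [Multiset.card_map, Finset.card_val, Finset.card_erase_of_mem (Finset.mem_univ j),
          Finset.card_univ, Fintype.card_fin]
    have h3 := Spl.sline_mul ((hw_sline j).pow a) (h1.mul (h2.pow b))
    convert h3 using 1
    ring
  have hvan : PowerSeries.coeff N (aLam LamZ hpt_monic yt) = 0 := by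
    refine eq_zero_of_forall_lift w hw_nzd _ ι ι_mk fun j => ?_
    have := congrArg (PowerSeries.coeff N) (ι_compat j yt)
    rw [PowerSeries.coeff_map] at this
    rw [this]
    exact (hSpl j).coeff_eq_zero LamZ_mulF hone N hN
  have h9 : PowerSeries.coeff N (aLam LambdaRing.lamSeries hp'm (sp yt)) = 0 := by
    rw [← sp_compat, PowerSeries.coeff_map, hvan, map_zero]
  rw [hsp_y, ← gh_compat, PowerSeries.coeff_map] at h9
  exact gh_inj (h9.trans (map_zero gh).symm)

end Ext

theorem S1 {C : Set LambdaRing.PosLambdaRing.{u}}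
    (hC : ∀ L ∈ C, ∀ e ∈ L.posStr.pos, ∃ L' ∈ C, ∃ f : L.carrier →+* L'.carrier,
      LambdaRing.IsExtension L.posStr L'.posStr f ∧
      ∃ s : Multiset L'.carrier, (∀ u ∈ s, L'.posStr.IsLine u) ∧ s.sum = f e)
    (L : LambdaRing.PosLambdaRing.{u}) (hL : L ∈ C) (v : L.carrier) (hv : L.posStr.IsLine v)
    (a : L.carrier) :
    LambdaRing.lamSeries (v * a) = PowerSeries.rescale v (LambdaRing.lamSeries a) := by
  have hpos : ∀ a ∈ L.posStr.pos, LambdaRing.lamSeries (v * a) =
      PowerSeries.rescale v (LambdaRing.lamSeries a) := by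
    intro a ha
    obtain ⟨L', hL', f, hf, s, hs, hsum⟩ := hC L hL a ha
    apply map_injective_of_injective f hf.injective
    have hfv : L'.posStr.IsLine (f v) := ⟨hf.pos_subset v hv.1, by rw [hf.aug_comp, hv.2]⟩
    have hL1 : PowerSeries.map f (LambdaRing.lamSeries (v * a)) =
        (s.map fun w => 1 + PowerSeries.C (f v * w) * PowerSeries.X).prod := by
      rw [map_lamSeries f hf.isLambdaHom, map_mul, ← hsum, ← sum_map_mul_left' (f v) s,
        lamSeries_multiset _ (fun z hz => by
          obtain ⟨w, hw, rfl⟩ := Multiset.mem_map.mp hz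
          exact lamSeries_line L'.posStr (isLine_mul _ hfv (hs w hw))), Multiset.map_map]
      rfl
    have hR1 : PowerSeries.map f (PowerSeries.rescale v (LambdaRing.lamSeries a)) =
        (s.map fun w => 1 + PowerSeries.C (f v * w) * PowerSeries.X).prod := by
      have e1 : PowerSeries.map f (PowerSeries.rescale v (LambdaRing.lamSeries a)) =
          PowerSeries.rescale (f v) (PowerSeries.map f (LambdaRing.lamSeries a)) := by
        ext n
        simp only [PowerSeries.coeff_map, PowerSeries.coeff_rescale, map_mul, map_pow]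
      rw [e1, map_lamSeries f hf.isLambdaHom, ← hsum,
        lamSeries_multiset s (fun w hw => lamSeries_line L'.posStr (hs w hw)),
        map_multiset_prod, Multiset.map_map]
      refine congrArg Multiset.prod (Multiset.map_congr rfl fun w _ => ?_)
      exact rescale_one_add (f v) w
    rw [hL1, hR1]
  obtain ⟨a₁, a₂, h₁, h₂, rfl⟩ := L.posStr.exists_sub a
  have e1 := hpos a₁ h₁
  have e2 := hpos a₂ h₂
  have h3 : LambdaRing.lamSeries (v * (a₁ - a₂)) * LambdaRing.lamSeries (v * a₂) =
      PowerSeries.rescale v (LambdaRing.lamSeries (a₁ - a₂)) * LambdaRing.lamSeries (v * a₂) := by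
    rw [← lamSeries_add, e2, ← map_mul, ← lamSeries_add, ← mul_add, sub_add_cancel, e1]
  exact (isUnit_lamSeries _).mul_left_inj.mp h3

theorem V_of_splitting {K : Type u} [CommRing K] [LambdaRing.LambdaOps K]
    (P : LambdaRing.PosStructure K) (hK : LambdaRing.HasSplitting K P) (e f : K)
    (he : e ∈ P.pos) (hf : f ∈ P.pos) :
    Polynomial.eval₂ P.aug 1 (KRR.extPoly P e) = 0 ∧
    ∀ (a b N : ℕ), P.aug f * (P.aug e - 1) ^ b < N →
      PowerSeries.coeff N (aLam LambdaRing.lamSeries (extPoly_monic P e)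
        (AdjoinRoot.of _ f * AdjoinRoot.root _ ^ a *
          (AdjoinRoot.of _ e - AdjoinRoot.root _) ^ b)) = 0 := by
  have : Nontrivial K := P.aug.domain_nontrivial
  obtain ⟨C, hKC, hC⟩ := hK
  obtain ⟨L₁, hL₁, g₁, hg₁, s₁, hs₁, hsum₁⟩ := hC ⟨K, P⟩ hKC e he
  have hg₁' : LambdaRing.IsExtension P L₁.posStr (g₁ : K →+* L₁.carrier) := hg₁
  obtain ⟨L₂, hL₂, g₂, hg₂, s₂, hs₂, hsum₂⟩ :=
    hC L₁ hL₁ ((g₁ : K →+* L₁.carrier) f) (hg₁'.pos_subset f hf)
  obtain ⟨g, hgdef⟩ : ∃ G : K →+* L₂.carrier, G = g₂.comp (g₁ : K →+* L₁.carrier) := ⟨_, rfl⟩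
  have hg : LambdaRing.IsExtension P L₂.posStr g := by
    rw [hgdef]
    refine ⟨fun i x => ?_, hg₂.injective.comp hg₁'.injective, fun x => ?_, fun x hx => ?_⟩
    · show g₂ ((g₁ : K →+* L₁.carrier) (LambdaRing.LambdaOps.lam i x)) =
        LambdaRing.LambdaOps.lam i (g₂ ((g₁ : K →+* L₁.carrier) x))
      rw [hg₁'.isLambdaHom, hg₂.isLambdaHom]
    · rw [RingHom.comp_apply, hg₂.aug_comp, hg₁'.aug_comp]
    · exact hg₂.pos_subset _ (hg₁'.pos_subset x hx)
  -- the splitting of e in L₂
  have hse : ∀ z ∈ s₁.map g₂, L₂.posStr.IsLine z := by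
    intro z hz
    obtain ⟨z', hz', rfl⟩ := Multiset.mem_map.mp hz
    exact ⟨hg₂.pos_subset _ (hs₁ z' hz').1, by rw [hg₂.aug_comp, (hs₁ z' hz').2]⟩
  have hsume : (s₁.map g₂).sum = g e := by
    rw [← map_multiset_sum, hsum₁, hgdef]; rfl
  have hsumf : s₂.sum = g f := by rw [hsum₂, hgdef]; rfl
  obtain ⟨l, hl⟩ : ∃ l : List L₂.carrier, (l : Multiset L₂.carrier) = s₁.map g₂ :=
    ⟨_, Multiset.coe_toList _⟩
  have hmulti : Multiset.map l.get Finset.univ.val = s₁.map g₂ := by
    rw [Fin.univ_val_map, List.ofFn_get, hl]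
  have hu : ∀ j, L₂.posStr.IsLine (l.get j) := fun j => by
    refine hse _ ?_
    rw [← hl, Multiset.mem_coe]
    exact List.get_mem l j
  have hue : ∑ j, l.get j = g e := by
    rw [Finset.sum_eq_multiset_sum, hmulti, hsume]
  have hp' : (KRR.extPoly P e).map g = ∏ j, (Polynomial.X - Polynomial.C (l.get j)) := by
    rw [extPoly_map_eq_prod P L₂.posStr g hg e _ hse hsume, Finset.prod_eq_multiset_prod,
      ← hmulti, Multiset.map_map]
    rfl
  have hn : (l.length : ℤ) = P.aug e := by
    have h1 := card_eq_aug L₂.posStr _ hse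
    rw [hsume, hg.aug_comp, ← hl, Multiset.coe_card] at h1
    exact h1
  have hcf : (Multiset.card s₂ : ℤ) = P.aug f := by
    rw [card_eq_aug L₂.posStr s₂ hs₂, hsumf, hg.aug_comp]
  refine ⟨eval₂_aug_extPoly P L₂.posStr g hg e _ hse hsume (P.aug_pos e he), ?_⟩
  intro a b N hN
  have hpos := P.aug_pos e he
  have hn1 : 1 ≤ l.length := by omega
  have hN' : Multiset.card s₂ * (l.length - 1) ^ b < N := by
    have : ((Multiset.card s₂ * (l.length - 1) ^ b : ℕ) : ℤ) = P.aug f * (P.aug e - 1) ^ b := by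
      rw [Nat.cast_mul, Nat.cast_pow, Nat.cast_sub hn1, Nat.cast_one, hn, hcf]
    have h2 : ((Multiset.card s₂ * (l.length - 1) ^ b : ℕ) : ℤ) < (N : ℤ) := by
      rw [this]; exact hN
    exact_mod_cast h2
  exact V_main L₂.posStr g hg.injective hg.isLambdaHom
    (fun v hv c => S1 hC L₂ hL₂ v hv c) e f l.length l.get hu hue s₂ hs₂ hsumf
    (KRR.extPoly P e) (extPoly_monic P e) hp' a b N hN'

end Groth.Agent.H9.LamExt
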