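import Mathlib
import Groth.Prelude.Def_LambdaRing
import Groth.Prelude.Def_KRR
import Groth.Agent.Lib.Helper9.Misc.LamExtA
import Groth.Agent.Lib.Helper9.Misc.LamExtB
import Groth.Agent.Lib.Helper9.Misc.LamExtC

set_option autoImplicit false
set_option linter.unusedSectionVars false
set_option linter.unusedVariables false

open PowerSeries

namespace Groth.Agent.H9.LamExt

universe u

section Final
variable {K : Type u} [CommRing K] [LambdaRing.LambdaOps K] (P : LambdaRing.PosStructure K) (e : K)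

/-- the series on `K_e` -/
noncomputable def Le :
    AdjoinRoot (KRR.extPoly P e) → PowerSeries (AdjoinRoot (KRR.extPoly P e)) :=
  aLam LambdaRing.lamSeries (extPoly_monic P e)

/-- the pre-λ-structure on `K_e` -/
@[reducible] noncomputable def instE : LambdaRing.LambdaOps (AdjoinRoot (KRR.extPoly P e)) :=
  opsOfBasis (AdjoinRoot.powerBasis' (extPoly_monic P e)).basis

theorem lam_instE (n : ℕ) (x : AdjoinRoot (KRR.extPoly P e)) :
    @LambdaRing.LambdaOps.lam _ _ (instE P e) n x = PowerSeries.coeff n (Le P e x) := rfl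

theorem Le_mulF : MulF (Le P e) := aLam_mulF _ lamSeries_mulF _

/-- the monomials generating the positive elements -/
noncomputable def mon (f : K) (a b : ℕ) : AdjoinRoot (KRR.extPoly P e) :=
  AdjoinRoot.of _ f * AdjoinRoot.root _ ^ a * (AdjoinRoot.of _ e - AdjoinRoot.root _) ^ b

/-- the positive elements of `K_e` -/
inductive Pos : AdjoinRoot (KRR.extPoly P e) → Prop
  | mono (f : K) (a b : ℕ) (hf : f ∈ P.pos) (hb : 2 ≤ P.aug e ∨ b = 0) : Pos (mon P e f a b)
  | add (x y : AdjoinRoot (KRR.extPoly P e)) : Pos x → Pos y → Pos (x + y)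

theorem mon_mul (f f' : K) (a a' b b' : ℕ) :
    mon P e f a b * mon P e f' a' b' = mon P e (f * f') (a + a') (b + b') := by
  unfold mon
  rw [map_mul, pow_add, pow_add]
  ring

theorem Pos.mul' {x y : AdjoinRoot (KRR.extPoly P e)} (hx : Pos P e x) (hy : Pos P e y) :
    Pos P e (x * y) := by
  induction hx with
  | mono f a b hf hb =>
    induction hy with
    | mono f' a' b' hf' hb' =>
      rw [mon_mul]
      refine Pos.mono _ _ _ (P.mul_mem f f' hf hf') ?_
      rcases hb with h | h
      · exact Or.inl h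
      · rcases hb' with h' | h'
        · exact Or.inl h'
        · right; omega
    | add x y _ _ ihx ihy => rw [mul_add]; exact Pos.add _ _ ihx ihy
  | add x y _ _ ihx ihy => rw [add_mul]; exact Pos.add _ _ ihx ihy

theorem one_mem_pos : (1 : K) ∈ P.pos := by
  have := P.natCast_mem 1 one_pos
  simpa using this

theorem pow_mem_pos {x : K} (hx : x ∈ P.pos) (n : ℕ) : x ^ n ∈ P.pos := by
  induction n with
  | zero => rw [pow_zero]; exact one_mem_pos P
  | succ k ih => rw [pow_succ]; exact P.mul_mem _ _ ih hx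

variable (h : Polynomial.eval₂ P.aug 1 (KRR.extPoly P e) = 0)

/-- the augmentation of `K_e` -/
noncomputable def augE : AdjoinRoot (KRR.extPoly P e) →+* ℤ := AdjoinRoot.lift P.aug 1 h

theorem augE_of (x : K) : augE P e h (AdjoinRoot.of _ x) = P.aug x := AdjoinRoot.lift_of h

theorem augE_root : augE P e h (AdjoinRoot.root _) = 1 := AdjoinRoot.lift_root h

theorem augE_mon (f : K) (a b : ℕ) :
    augE P e h (mon P e f a b) = P.aug f * (P.aug e - 1) ^ b := by
  unfold mon
  rw [map_mul, map_mul, map_pow, map_pow, map_sub, augE_of, augE_of, augE_root, one_pow, mul_one]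

/-- vanishing beyond the augmentation -/
def VP (x : AdjoinRoot (KRR.extPoly P e)) : Prop :=
  0 ≤ augE P e h x ∧ ∀ N : ℕ, augE P e h x < N → PowerSeries.coeff N (Le P e x) = 0

/-- vanishing beyond the augmentation and invertible top coefficient -/
def GP (x : AdjoinRoot (KRR.extPoly P e)) : Prop :=
  VP P e h x ∧ IsUnit (PowerSeries.coeff (augE P e h x).toNat (Le P e x))

variable {P e h}

theorem VP.add_top {x y : AdjoinRoot (KRR.extPoly P e)} (hx : VP P e h x) (hy : VP P e h y) :
    VP P e h (x + y) ∧ PowerSeries.coeff (augE P e h (x + y)).toNat (Le P e (x + y)) =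
      PowerSeries.coeff (augE P e h x).toNat (Le P e x) *
        PowerSeries.coeff (augE P e h y).toNat (Le P e y) := by
  have hb := coeff_mul_of_bounded (Le P e x) (Le P e y) (augE P e h x).toNat (augE P e h y).toNat
    (fun n hn => hx.2 n (by have := hx.1; omega)) (fun n hn => hy.2 n (by have := hy.1; omega))
  have hadd : augE P e h (x + y) = augE P e h x + augE P e h y := map_add _ _ _
  have hL : Le P e (x + y) = Le P e x * Le P e y := (Le_mulF P e).add x y
  have h1 := hx.1
  have h2 := hy.1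
  refine ⟨⟨by rw [hadd]; exact add_nonneg hx.1 hy.1, fun N hN => ?_⟩, ?_⟩
  · rw [hL]
    rw [hadd] at hN
    exact hb.1 N (by omega)
  · rw [hadd, hL, Int.toNat_add hx.1 hy.1]
    exact hb.2

theorem VP.zero : VP P e h 0 := by
  refine ⟨by rw [map_zero], fun N hN => ?_⟩
  rw [(Le_mulF P e).zero, PowerSeries.coeff_one, if_neg]
  rw [map_zero] at hN
  intro h0
  rw [h0] at hN
  exact lt_irrefl _ hN

theorem VP.nsmul {x : AdjoinRoot (KRR.extPoly P e)} (hx : VP P e h x) (n : ℕ) :
    VP P e h (n • x) := by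
  induction n with
  | zero => rw [zero_nsmul]; exact VP.zero
  | succ k ih => rw [succ_nsmul]; exact (ih.add_top hx).1

theorem VP.sum {ι : Type*} (s : Finset ι) (F : ι → AdjoinRoot (KRR.extPoly P e))
    (hF : ∀ i ∈ s, VP P e h (F i)) : VP P e h (∑ i ∈ s, F i) := by
  classical
  induction s using Finset.induction_on with
  | empty => rw [Finset.sum_empty]; exact VP.zero
  | insert a t ha ih =>
    rw [Finset.sum_insert ha]
    exact ((hF a (Finset.mem_insert_self a t)).add_top
      (ih fun i hi => hF i (Finset.mem_insert_of_mem hi))).1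

theorem GP.add {x y : AdjoinRoot (KRR.extPoly P e)} (hx : GP P e h x) (hy : GP P e h y) :
    GP P e h (x + y) := by
  have := hx.1.add_top hy.1
  refine ⟨this.1, ?_⟩
  rw [this.2]
  exact hx.2.mul hy.2

variable (P e h)

theorem Le_of [Nontrivial K] (hm : 0 < P.aug e) (x : K) :
    Le P e (AdjoinRoot.of _ x) =
      PowerSeries.map (AdjoinRoot.of _) (LambdaRing.lamSeries x) := by
  have := aLam_of_mul_root_pow LambdaRing.lamSeries lamSeries_mulF (extPoly_monic P e) x 0
    (by rw [extPoly_natDegree]; omega)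
  rw [pow_zero, mul_one, PowerSeries.rescale_one, RingHom.id_apply] at this
  exact this

theorem of_injective' [Nontrivial K] (hm : 0 < P.aug e) :
    Function.Injective (AdjoinRoot.of (KRR.extPoly P e)) := by
  rw [injective_iff_map_eq_zero]
  intro x hx
  rw [← AdjoinRoot.mk_C, AdjoinRoot.mk_eq_zero] at hx
  by_contra h0
  refine Polynomial.Monic.not_dvd_of_degree_lt (extPoly_monic P e)
    (by rwa [Ne, Polynomial.C_eq_zero]) ?_ hx
  rw [Polynomial.degree_C h0, Polynomial.degree_eq_natDegree (extPoly_monic P e).ne_zero,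
    extPoly_natDegree]
  exact_mod_cast (by omega : 0 < (P.aug e).toNat)

theorem GP_mon [Nontrivial K] (he : e ∈ P.pos) (f : K) (hf : f ∈ P.pos)
    (hV : ∀ (a b N : ℕ), P.aug f * (P.aug e - 1) ^ b < N →
      PowerSeries.coeff N (Le P e (mon P e f a b)) = 0) (a b : ℕ) :
    GP P e h (mon P e f a b) := by
  have hepos := P.aug_pos e he
  have hfpos := P.aug_pos f hf
  have hVP : ∀ a b, VP P e h (mon P e f a b) := fun a b => by
    refine ⟨?_, fun N hN => hV a b N ?_⟩
    · rw [augE_mon]; exact mul_nonneg hfpos.le (pow_nonneg (by omega) _)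
    · rw [augE_mon] at hN; exact hN
  refine ⟨hVP a b, ?_⟩
  obtain ⟨T, hT⟩ : ∃ T, T = a + b := ⟨_, rfl⟩
  have hid : AdjoinRoot.of (KRR.extPoly P e) (f * e ^ T) =
      ∑ c ∈ Finset.range (T + 1), (T.choose c) • mon P e f c (T - c) := by
    have h1 : (AdjoinRoot.of (KRR.extPoly P e) e) =
        AdjoinRoot.root _ + (AdjoinRoot.of _ e - AdjoinRoot.root _) := by ring
    rw [map_mul, map_pow, h1, add_pow, Finset.mul_sum]
    refine Finset.sum_congr rfl fun c _ => ?_
    unfold mon
    rw [nsmul_eq_mul]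
    ring
  have hmem : a ∈ Finset.range (T + 1) := Finset.mem_range.mpr (by omega)
  have hTa : T - a = b := by omega
  have hch : 1 ≤ T.choose a := Nat.choose_pos (by omega)
  obtain ⟨rest, hrest⟩ : ∃ r, r = (T.choose a - 1) • mon P e f a b +
      ∑ c ∈ (Finset.range (T + 1)).erase a, (T.choose c) • mon P e f c (T - c) := ⟨_, rfl⟩
  have hsplit : AdjoinRoot.of (KRR.extPoly P e) (f * e ^ T) = mon P e f a b + rest := by
    rw [hid, ← Finset.add_sum_erase _ _ hmem, hTa, hrest, ← add_assoc]
    congr 1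
    rw [← succ_nsmul']
    congr 1
    omega
  have hVPrest : VP P e h rest := by
    rw [hrest]
    exact (((hVP a b).nsmul _).add_top (VP.sum _ _ fun c _ => (hVP c (T - c)).nsmul _)).1
  have htop := (hVP a b).add_top hVPrest
  rw [← hsplit] at htop
  have hunit : IsUnit (PowerSeries.coeff
      (augE P e h (AdjoinRoot.of (KRR.extPoly P e) (f * e ^ T))).toNat
      (Le P e (AdjoinRoot.of (KRR.extPoly P e) (f * e ^ T)))) := by
    rw [augE_of, Le_of P e hepos, PowerSeries.coeff_map, coeff_lamSeries]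
    exact (P.isUnit_lam _ (P.mul_mem _ _ hf (pow_mem_pos P he T))).map _
  rw [htop.2] at hunit
  exact isUnit_of_mul_isUnit_left hunit

theorem GP_of_Pos (hK : LambdaRing.HasSplitting K P) (he : e ∈ P.pos)
    {x : AdjoinRoot (KRR.extPoly P e)} (hx : Pos P e x) : GP P e h x := by
  have : Nontrivial K := P.aug.domain_nontrivial
  induction hx with
  | mono f a b hf hb =>
    exact GP_mon P e h he f hf
      (fun a b N hN => (V_of_splitting P hK e f he hf).2 a b N hN) a b
  | add x y _ _ ihx ihy => exact ihx.add ihy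

theorem augE_pos_of_Pos (he : e ∈ P.pos) {x : AdjoinRoot (KRR.extPoly P e)} (hx : Pos P e x) :
    0 < augE P e h x := by
  induction hx with
  | mono f a b hf hb =>
    rw [augE_mon]
    have hfpos := P.aug_pos f hf
    have hepos := P.aug_pos e he
    rcases hb with hb | hb
    · exact mul_pos hfpos (pow_pos (by omega) _)
    · rw [hb, pow_zero, mul_one]; exact hfpos
  | add x y _ _ ihx ihy => rw [map_add]; exact add_pos ihx ihy

theorem exists_sub_Pos (x : AdjoinRoot (KRR.extPoly P e)) :
    ∃ y z, Pos P e y ∧ Pos P e z ∧ x = y - z := by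
  obtain ⟨q, rfl⟩ := AdjoinRoot.mk_surjective x
  induction q using Polynomial.induction_on' with
  | add p q hp hq =>
    obtain ⟨y1, z1, hy1, hz1, h1⟩ := hp
    obtain ⟨y2, z2, hy2, hz2, h2⟩ := hq
    exact ⟨y1 + y2, z1 + z2, Pos.add _ _ hy1 hy2, Pos.add _ _ hz1 hz2, by
      rw [map_add, h1, h2]; ring⟩
  | monomial n c =>
    obtain ⟨c1, c2, hc1, hc2, rfl⟩ := P.exists_sub c
    refine ⟨mon P e c1 n 0, mon P e c2 n 0, Pos.mono _ _ _ hc1 (Or.inr rfl),
      Pos.mono _ _ _ hc2 (Or.inr rfl), ?_⟩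
    unfold mon
    rw [← Polynomial.C_mul_X_pow_eq_monomial, map_mul, map_pow, AdjoinRoot.mk_C, AdjoinRoot.mk_X,
      map_sub]
    ring

/-- the positive structure on `K_e` -/
noncomputable def PeStr (hK : LambdaRing.HasSplitting K P) (he : e ∈ P.pos) :
    @LambdaRing.PosStructure (AdjoinRoot (KRR.extPoly P e)) _ (instE P e) :=
  @LambdaRing.PosStructure.mk (AdjoinRoot (KRR.extPoly P e)) _ (instE P e)
    (augE P e h)
    (fun z => by
      obtain ⟨x, hx⟩ := P.aug_surjective z
      exact ⟨AdjoinRoot.of _ x, by rw [augE_of, hx]⟩)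
    {x | Pos P e x}
    (fun x y hx hy => Pos.add x y hx hy)
    (fun x y hx hy => Pos.mul' P e hx hy)
    (fun n hn => by
      have h1 : ((n : ℕ) : AdjoinRoot (KRR.extPoly P e)) = mon P e (n : K) 0 0 := by
        unfold mon; simp
      show Pos P e _
      rw [h1]
      exact Pos.mono _ 0 0 (P.natCast_mem n hn) (Or.inr rfl))
    (fun x => exists_sub_Pos P e x)
    (fun x hx => augE_pos_of_Pos P e h he hx)
    (fun x hx i hi => ((GP_of_Pos P e h hK he hx).1).2 i hi)
    (fun x hx => (GP_of_Pos P e h hK he hx).2)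

theorem main' (hK : LambdaRing.HasSplitting K P) (he : e ∈ P.pos) :
    ∃ (inst : LambdaRing.LambdaOps (AdjoinRoot (KRR.extPoly P e)))
      (Pe : @LambdaRing.PosStructure _ _ inst),
      (∀ (i : ℕ) (x : K), @LambdaRing.LambdaOps.lam _ _ inst i (AdjoinRoot.of (KRR.extPoly P e) x) =
        AdjoinRoot.of (KRR.extPoly P e) (LambdaRing.LambdaOps.lam i x)) ∧
      (∀ i : ℕ, 2 ≤ i → @LambdaRing.LambdaOps.lam _ _ inst i (AdjoinRoot.root (KRR.extPoly P e)) = 0) ∧
      @LambdaRing.IsExtension K _ _ _ _ inst P Pe (AdjoinRoot.of (KRR.extPoly P e)) ∧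
      @LambdaRing.PosStructure.IsLine _ _ inst Pe (AdjoinRoot.root (KRR.extPoly P e)) ∧
      (2 ≤ P.aug e → AdjoinRoot.of (KRR.extPoly P e) e - AdjoinRoot.root (KRR.extPoly P e) ∈
        (@LambdaRing.PosStructure.pos _ _ inst Pe)) := by
  have : Nontrivial K := P.aug.domain_nontrivial
  have hepos := P.aug_pos e he
  have hK1 := V_of_splitting P hK e 1 he (one_mem_pos P)
  have hc : ∀ (i : ℕ) (x : K),
      @LambdaRing.LambdaOps.lam _ _ (instE P e) i (AdjoinRoot.of (KRR.extPoly P e) x) =
        AdjoinRoot.of (KRR.extPoly P e) (LambdaRing.LambdaOps.lam i x) := by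
    intro i x
    rw [lam_instE, Le_of P e hepos, PowerSeries.coeff_map, coeff_lamSeries]
  have hroot : AdjoinRoot.root (KRR.extPoly P e) = mon P e 1 1 0 := by
    unfold mon; rw [map_one, one_mul, pow_one, pow_zero, mul_one]
  refine ⟨instE P e, PeStr P e hK1.1 hK he, hc, ?_, ?_, ?_, ?_⟩
  · intro i hi
    rw [lam_instE]
    have h2 := hK1.2 1 0 i (by rw [map_one, pow_zero, mul_one]; omega)
    rw [map_one, one_mul, pow_one, pow_zero, mul_one] at h2
    exact h2
  · refine @LambdaRing.IsExtension.mk K _ _ _ _ (instE P e) P (PeStr P e hK1.1 hK he)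
      (AdjoinRoot.of (KRR.extPoly P e)) (fun i x => (hc i x).symm) (of_injective' P e hepos)
      (fun x => augE_of P e hK1.1 x) (fun f hf => ?_)
    have h1 : AdjoinRoot.of (KRR.extPoly P e) f = mon P e f 0 0 := by
      unfold mon; rw [pow_zero, pow_zero, mul_one, mul_one]
    show Pos P e _
    rw [h1]
    exact Pos.mono _ 0 0 hf (Or.inr rfl)
  · refine ⟨?_, augE_root P e hK1.1⟩
    show Pos P e _
    rw [hroot]
    exact Pos.mono _ 1 0 (one_mem_pos P) (Or.inr rfl)
  · intro h2
    have h1 : AdjoinRoot.of (KRR.extPoly P e) e - AdjoinRoot.root (KRR.extPoly P e) =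
        mon P e 1 0 1 := by
      unfold mon; rw [map_one, one_mul, pow_zero, one_mul, pow_one]
    show Pos P e _
    rw [h1]
    exact Pos.mono _ 0 1 (one_mem_pos P) (Or.inl h2)

end Final

theorem main (K : Type u) [CommRing K] [LambdaRing.LambdaOps K] (P : LambdaRing.PosStructure K)
    (hK : LambdaRing.HasSplitting K P) (e : K) (he : e ∈ P.pos) :
    ∃ (inst : LambdaRing.LambdaOps (AdjoinRoot (KRR.extPoly P e)))
      (Pe : @LambdaRing.PosStructure _ _ inst),
      (∀ (i : ℕ) (x : K), @LambdaRing.LambdaOps.lam _ _ inst i (AdjoinRoot.of (KRR.extPoly P e) x) =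
        AdjoinRoot.of (KRR.extPoly P e) (LambdaRing.LambdaOps.lam i x)) ∧
      (∀ i : ℕ, 2 ≤ i → @LambdaRing.LambdaOps.lam _ _ inst i (AdjoinRoot.root (KRR.extPoly P e)) = 0) ∧
      @LambdaRing.IsExtension K _ _ _ _ inst P Pe (AdjoinRoot.of (KRR.extPoly P e)) ∧
      @LambdaRing.PosStructure.IsLine _ _ inst Pe (AdjoinRoot.root (KRR.extPoly P e)) ∧
      (2 ≤ P.aug e → AdjoinRoot.of (KRR.extPoly P e) e - AdjoinRoot.root (KRR.extPoly P e) ∈
        (@LambdaRing.PosStructure.pos _ _ inst Pe)) :=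
  main' P e hK he

end Groth.Agent.H9.LamExt
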