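import Mathlib

/-! Helper9: Lang-type surjectivity of 1 - phi for a q-semilinear endomorphism over a separably closed field -/

namespace Groth.Agent.H9.LangV

open Polynomial Module

universe u v

variable {k : Type u} [Field k] {V : Type v} [AddCommGroup V] [Module k V]

/-- In a finite-dimensional space, some term of any sequence lies in the span of the previous. -/
theorem exists_mem_span_prev [FiniteDimensional k V] (a : ℕ → V) :
    ∃ m, a m ∈ Submodule.span k (a '' Set.Iio m) := by
  by_contra hcon
  push Not at hcon
  have hW : ∀ m, m ≤ finrank k (Submodule.span k (a '' Set.Iio m)) := by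
    intro m
    induction m with
    | zero => exact Nat.zero_le _
    | succ m ih =>
      have hlt : Submodule.span k (a '' Set.Iio m) < Submodule.span k (a '' Set.Iio (m + 1)) := by
        refine lt_of_le_of_ne (Submodule.span_mono (Set.image_mono ?_)) ?_
        · intro i hi
          exact Nat.lt_succ_of_lt hi
        · intro heq
          apply hcon m
          rw [heq]
          exact Submodule.subset_span ⟨m, Nat.lt_succ_self m, rfl⟩
      have := Submodule.finrank_lt_finrank_of_lt hlt
      omega
  have h1 := hW (finrank k V + 1)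
  have h2 := Submodule.finrank_le (Submodule.span k (a '' Set.Iio (finrank k V + 1)))
  omega

theorem exists_coeffs [FiniteDimensional k V] (a : ℕ → V) :
    ∃ (m : ℕ) (c : ℕ → k), a m = ∑ i ∈ Finset.range m, c i • a i := by
  obtain ⟨m, hm⟩ := exists_mem_span_prev (k := k) a
  rw [Finsupp.mem_span_image_iff_linearCombination] at hm
  obtain ⟨l, hl, hla⟩ := hm
  refine ⟨m, fun i => l i, ?_⟩
  rw [← hla, Finsupp.linearCombination_apply, Finsupp.sum]
  refine Finset.sum_subset ?_ ?_
  · intro i hi
    have := hl hi
    simpa using this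
  · intro i _ hi
    rw [Finsupp.notMem_support_iff.1 hi, zero_smul]

/-- the recursive polynomials -/
noncomputable def Xp (q : ℕ) (c : ℕ → k) : ℕ → k[X]
  | 0 => 1 + C (c 0) * X ^ q
  | (i + 1) => (Xp q c i) ^ q + C (c (i + 1)) * X ^ q

theorem derivative_Xp (q : ℕ) (hq : (q : k) = 0) (c : ℕ → k) (i : ℕ) :
    derivative (Xp q c i) = 0 := by
  have hXq : derivative ((X : k[X]) ^ q) = 0 := by
    rw [derivative_X_pow, hq, map_zero, zero_mul]
  induction i with
  | zero =>
    rw [Xp, derivative_add, derivative_one, derivative_mul, derivative_C, hXq]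
    simp
  | succ i ih =>
    rw [Xp, derivative_add, derivative_pow, ih, derivative_mul, derivative_C, hXq]
    simp

theorem main [IsSepClosed k] (p : ℕ) [Fact p.Prime] [CharP k p]
    (r : ℕ) (hr : 0 < r) [FiniteDimensional k V] (φ : V →+ V)
    (hφ : ∀ (c : k) (v : V), φ (c • v) = c ^ (p ^ r) • φ v) :
    Function.Surjective (fun v : V => v - φ v) := by
  intro a0
  set q := p ^ r with hqdef
  have hq : (q : k) = 0 := by
    rw [hqdef, Nat.cast_pow, CharP.cast_eq_zero k p, zero_pow hr.ne']
  set a : ℕ → V := fun i => (φ^[i]) a0 with hadef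
  have ha0 : a 0 = a0 := rfl
  have hasucc : ∀ i, a (i + 1) = φ (a i) := by
    intro i
    simp only [hadef, Function.iterate_succ_apply']
  obtain ⟨m, c, hm⟩ := exists_coeffs (k := k) a
  cases m with
  | zero =>
    rw [Finset.range_zero, Finset.sum_empty, ha0] at hm
    refine ⟨0, ?_⟩
    simp [hm]
  | succ m =>
    set F : k[X] := Xp q c m - X with hF
    have hder : derivative F = -1 := by
      rw [hF, derivative_sub, derivative_Xp q hq, derivative_X, zero_sub]
    have hsep : F.Separable := by
      rw [Polynomial.separable_def, hder]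
      exact isCoprime_one_right.neg_right
    have hdeg : F.degree ≠ 0 := by
      intro h0
      rw [Polynomial.eq_C_of_degree_eq_zero h0, derivative_C] at hder
      have : (0 : k[X]).coeff 0 = (-1 : k[X]).coeff 0 := by rw [hder]
      simp at this
    obtain ⟨t, ht⟩ := IsSepClosed.exists_root F hdeg hsep
    have ht' : (Xp q c m).eval t = t := by
      have : F.eval t = 0 := ht
      rw [hF, eval_sub, eval_X, sub_eq_zero] at this
      exact this
    set x : ℕ → k := fun i => (Xp q c i).eval t with hx
    have hx0 : x 0 = 1 + c 0 * t ^ q := by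
      simp [hx, Xp]
    have hxs : ∀ i, x (i + 1) = x i ^ q + c (i + 1) * t ^ q := by
      intro i
      simp [hx, Xp]
    have hxm : x m = t := ht'
    refine ⟨∑ i ∈ Finset.range (m + 1), x i • a i, ?_⟩
    show (∑ i ∈ Finset.range (m + 1), x i • a i) - φ (∑ i ∈ Finset.range (m + 1), x i • a i) = a0
    have hφsum : φ (∑ i ∈ Finset.range (m + 1), x i • a i)
        = ∑ i ∈ Finset.range (m + 1), x i ^ q • a (i + 1) := by
      rw [map_sum]
      refine Finset.sum_congr rfl (fun i _ => ?_)
      rw [hφ, hasucc]
    rw [hφsum, Finset.sum_range_succ (fun i => x i ^ q • a (i + 1)), hm,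
      Finset.sum_range_succ' (fun i => x i • a i), Finset.sum_range_succ' (fun i => c i • a i),
      hxm, ha0, hx0, smul_add, Finset.smul_sum]
    have hterm : ∀ i ∈ Finset.range m, x (i + 1) • a (i + 1)
        = x i ^ q • a (i + 1) + t ^ q • (c (i + 1) • a (i + 1)) := by
      intro i _
      rw [hxs, add_smul, smul_smul, mul_comm]
    rw [Finset.sum_congr rfl hterm, Finset.sum_add_distrib, add_smul, one_smul, smul_smul,
      mul_comm (t ^ q)]
    abel

end Groth.Agent.H9.LangV
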