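import Mathlib

/-! Helper9: ℓ-torsion of the cokernel of a connected symmetric Laplacian-like integer matrix (S2172). -/

set_option autoImplicit false
set_option linter.unusedSectionVars false
set_option linter.unusedVariables false

namespace Groth.Agent.H9.LapTors

open Finset Module Matrix

section LinAlg

variable {n : ℕ} (A : Matrix (Fin n) (Fin n) ℤ) {F : Type*} [Field F]

/-- edges -/
abbrev Edge := {p : Fin n × Fin n // p.1 < p.2 ∧ 0 < A p.1 p.2}

theorem sum_edge (h : Fin n → Fin n → F) :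
    ∑ p : Edge A, h p.1.1 p.1.2 = ∑ a, ∑ b, if (a < b ∧ 0 < A a b) then h a b else 0 := by
  have : ∑ x ∈ univ.filter (fun p : Fin n × Fin n => p.1 < p.2 ∧ 0 < A p.1 p.2), h x.1 x.2 =
      ∑ p : Edge A, h p.1.1 p.1.2 :=
    Finset.sum_subtype _ (by intro x; simp) (fun p : Fin n × Fin n => h p.1 p.2)
  rw [← this, Finset.sum_filter, Fintype.sum_prod_type]

def Nm : Matrix (Edge A) (Fin n) F :=
  fun p i => (if i = p.1.1 then 1 else 0) - (if i = p.1.2 then 1 else 0)

theorem Nm_mulVec (u : Fin n → F) (p : Edge A) :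
    (Nm A (F := F)).mulVec u p = u p.1.1 - u p.1.2 := by
  simp only [Matrix.mulVec, dotProduct, Nm, sub_mul, ite_mul, one_mul, zero_mul,
    Finset.sum_sub_distrib, Finset.sum_ite_eq', Finset.mem_univ, if_true]

theorem NmT_mulVec (c : Edge A → F) (i : Fin n) :
    (Nm A (F := F))ᵀ.mulVec c i =
      ∑ p : Edge A, ((if i = p.1.1 then 1 else 0) - (if i = p.1.2 then 1 else 0)) * c p := by
  simp only [Matrix.mulVec, dotProduct, Matrix.transpose_apply, Nm]

theorem key_identity (Ab : Matrix (Fin n) (Fin n) F) (mb : Fin n → F)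
    (hsym : ∀ i j, Ab i j = Ab j i) (hAm : Ab.mulVec mb = 0)
    (hzero : ∀ a b, a < b → ¬ (0 < A a b) → Ab a b = 0)
    (v : Fin n → F) (i : Fin n) :
    (Nm A (F := F))ᵀ.mulVec
      (fun p : Edge A => Ab p.1.1 p.1.2 * (mb p.1.2 * v p.1.1 - mb p.1.1 * v p.1.2)) i =
      -(mb i * Ab.mulVec v i) := by
  rw [NmT_mulVec]
  rw [sum_edge A (fun a b => ((if i = a then (1 : F) else 0) - (if i = b then 1 else 0)) *
    (Ab a b * (mb b * v a - mb a * v b)))]
  obtain ⟨G, hG⟩ : ∃ G : Fin n → F, G = fun b => Ab i b * (mb b * v i - mb i * v b) := ⟨_, rfl⟩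
  -- split
  have hsplit : ∀ a b, (if (a < b ∧ 0 < A a b) then
      ((if i = a then (1 : F) else 0) - (if i = b then 1 else 0)) *
        (Ab a b * (mb b * v a - mb a * v b)) else 0) =
      (if i = a then (if (a < b ∧ 0 < A a b) then Ab a b * (mb b * v a - mb a * v b) else 0)
        else 0) -
      (if i = b then (if (a < b ∧ 0 < A a b) then Ab a b * (mb b * v a - mb a * v b) else 0)
        else 0) := by
    intro a b
    split_ifs <;> ring
  simp_rw [hsplit, Finset.sum_sub_distrib]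
  have h1 : ∑ a, ∑ b, (if i = a then
      (if (a < b ∧ 0 < A a b) then Ab a b * (mb b * v a - mb a * v b) else 0) else 0) =
      ∑ b, if (i < b ∧ 0 < A i b) then G b else 0 := by
    rw [Finset.sum_eq_single i]
    · simp [hG]
    · intro a _ ha
      simp [Ne.symm ha]
    · intro h; exact absurd (mem_univ i) h
  have h2 : ∑ a, ∑ b, (if i = b then
      (if (a < b ∧ 0 < A a b) then Ab a b * (mb b * v a - mb a * v b) else 0) else 0) =
      - ∑ b, if (b < i ∧ 0 < A b i) then G b else 0 := by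
    rw [Finset.sum_comm, Finset.sum_eq_single i]
    · rw [← Finset.sum_neg_distrib]
      apply Finset.sum_congr rfl
      intro a _
      simp only [if_true]
      split_ifs
      · rw [hG, hsym a i]; ring
      · simp
    · intro b _ hb
      simp [Ne.symm hb]
    · intro h; exact absurd (mem_univ i) h
  rw [h1, h2, sub_neg_eq_add, ← Finset.sum_add_distrib]
  have h3 : ∀ b, ((if (i < b ∧ 0 < A i b) then G b else 0) +
      (if (b < i ∧ 0 < A b i) then G b else 0)) = G b := by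
    intro b
    rcases lt_trichotomy i b with h | h | h
    · have hn : ¬ (b < i) := not_lt.2 h.le
      by_cases hp : 0 < A i b
      · simp [h, hp, hn]
      · have : G b = 0 := by rw [hG]; simp [hzero i b h hp]
        simp [h, hp, hn, this]
    · subst h
      have : G i = 0 := by rw [hG]; ring
      simp [this]
    · have hn : ¬ (i < b) := not_lt.2 h.le
      by_cases hp : 0 < A b i
      · simp [h, hp, hn]
      · have : G b = 0 := by rw [hG]; simp [hsym i b, hzero b i h hp]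
        simp [h, hp, hn, this]
  simp_rw [h3]
  have hAm' : ∑ b, Ab i b * mb b = 0 := by
    have := congrFun hAm i
    simpa [Matrix.mulVec, dotProduct] using this
  have hAv : Ab.mulVec v i = ∑ b, Ab i b * v b := by
    simp [Matrix.mulVec, dotProduct]
  rw [hAv, hG]
  calc ∑ b, Ab i b * (mb b * v i - mb i * v b)
      = ∑ b, (v i * (Ab i b * mb b) - mb i * (Ab i b * v b)) :=
        Finset.sum_congr rfl (fun b _ => by ring)
    _ = v i * ∑ b, Ab i b * mb b - mb i * ∑ b, Ab i b * v b := by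
        rw [Finset.sum_sub_distrib, ← Finset.mul_sum, ← Finset.mul_sum]
    _ = -(mb i * ∑ b, Ab i b * v b) := by rw [hAm']; ring

theorem conn_lemma
    (hconn : ∀ I : Finset (Fin n), I.Nonempty → I ≠ univ →
      ∃ i ∈ I, ∃ j ∉ I, (i < j ∧ 0 < A i j) ∨ (j < i ∧ 0 < A j i))
    (μ : Fin n → F) (hμ : ∀ i, μ i ≠ 0) (v : Fin n → F)
    (hv : ∀ a b, (a < b ∧ 0 < A a b) → μ b * v a = μ a * v b) (i₀ : Fin n) :
    v = (v i₀ / μ i₀) • μ := by
  classical
  obtain ⟨c, hc⟩ : ∃ c : F, c = v i₀ / μ i₀ := ⟨_, rfl⟩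
  rw [← hc]
  obtain ⟨I, hI⟩ : ∃ I : Finset (Fin n), I = univ.filter (fun i => v i = c * μ i) := ⟨_, rfl⟩
  have hi₀ : i₀ ∈ I := by
    rw [hI, Finset.mem_filter]
    exact ⟨mem_univ _, by rw [hc, div_mul_cancel₀ _ (hμ i₀)]⟩
  have hIu : I = univ := by
    by_contra hne
    obtain ⟨i, hi, j, hj, hor⟩ := hconn I ⟨i₀, hi₀⟩ hne
    apply hj
    rw [hI, Finset.mem_filter] at hi ⊢
    refine ⟨mem_univ _, ?_⟩
    have hrel : μ j * v i = μ i * v j := by
      rcases hor with h | h
      · exact hv i j h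
      · exact (hv j i h).symm
    have : μ i * v j = μ i * (c * μ j) := by rw [← hrel, hi.2]; ring
    exact mul_left_cancel₀ (hμ i) this
  funext i
  have : i ∈ I := by rw [hIu]; exact mem_univ _
  rw [hI, Finset.mem_filter] at this
  simpa [smul_eq_mul] using this.2

theorem finrank_K0_le (Ab : Matrix (Fin n) (Fin n) F) (mb : Fin n → F)
    (hsym : ∀ i j, Ab i j = Ab j i) (hAm : Ab.mulVec mb = 0)
    (hzero : ∀ a b, a < b → ¬ (0 < A a b) → Ab a b = 0)
    (hedge : ∀ p : Edge A, Ab p.1.1 p.1.2 ≠ 0)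
    (hmb : ∀ i, mb i ≠ 0)
    (hconn : ∀ I : Finset (Fin n), I.Nonempty → I ≠ univ →
      ∃ i ∈ I, ∃ j ∉ I, (i < j ∧ 0 < A i j) ∨ (j < i ∧ 0 < A j i))
    (i₀ : Fin n) :
    finrank F ↥(LinearMap.ker Ab.mulVecLin ⊓
      LinearMap.ker (LinearMap.proj i₀ : (Fin n → F) →ₗ[F] F)) + n ≤
      Fintype.card (Edge A) + 1 := by
  classical
  obtain ⟨K₀, hK₀⟩ : ∃ K₀ : Submodule F (Fin n → F), K₀ = LinearMap.ker Ab.mulVecLin ⊓
      LinearMap.ker (LinearMap.proj i₀ : (Fin n → F) →ₗ[F] F) := ⟨_, rfl⟩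
  rw [← hK₀]
  have hK₀mem : ∀ v ∈ K₀, Ab.mulVec v = 0 ∧ v i₀ = 0 := by
    intro v hv
    rw [hK₀, Submodule.mem_inf, LinearMap.mem_ker, LinearMap.mem_ker,
      Matrix.mulVecLin_apply] at hv
    exact hv
  let T : Submodule F (Edge A → F) := LinearMap.ker ((Nm A (F := F))ᵀ).mulVecLin
  let P : (Fin n → F) →ₗ[F] (Edge A → F) :=
    LinearMap.pi (fun p => Ab p.1.1 p.1.2 •
      (mb p.1.2 • (LinearMap.proj p.1.1 : (Fin n → F) →ₗ[F] F) -
        mb p.1.1 • (LinearMap.proj p.1.2 : (Fin n → F) →ₗ[F] F)))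
  have hP : ∀ v, P v = fun p : Edge A =>
      Ab p.1.1 p.1.2 * (mb p.1.2 * v p.1.1 - mb p.1.1 * v p.1.2) := by
    intro v; rfl
  have hPT : ∀ v : K₀, (P.comp K₀.subtype) v ∈ T := by
    intro v
    show P v.1 ∈ T
    rw [LinearMap.mem_ker, Matrix.mulVecLin_apply, hP]
    funext i
    rw [key_identity A Ab mb hsym hAm hzero, (hK₀mem v.1 v.2).1]
    simp
  let φ : K₀ →ₗ[F] T := LinearMap.codRestrict T (P.comp K₀.subtype) hPT
  have hφinj : Function.Injective φ := by
    rw [injective_iff_map_eq_zero]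
    intro v hv
    have hv' : P v.1 = 0 := by
      have := congrArg Subtype.val hv
      exact this
    rw [hP] at hv'
    have hrel : ∀ a b, (a < b ∧ 0 < A a b) → mb b * v.1 a = mb a * v.1 b := by
      intro a b hab
      have := congrFun hv' ⟨(a, b), hab⟩
      simp only [Pi.zero_apply] at this
      rcases mul_eq_zero.1 this with h | h
      · exact absurd h (hedge ⟨(a, b), hab⟩)
      · exact sub_eq_zero.1 h
    have hvv := conn_lemma A hconn mb hmb v.1 hrel i₀
    apply Subtype.ext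
    rw [hvv, (hK₀mem v.1 v.2).2, zero_div, zero_smul]
    rfl
  have h1 : finrank F K₀ ≤ finrank F T := LinearMap.finrank_le_finrank_of_injective hφinj
  have h2 := LinearMap.finrank_range_add_finrank_ker ((Nm A (F := F))ᵀ).mulVecLin
  rw [Module.finrank_fintype_fun_eq_card] at h2
  have h3 : finrank F (LinearMap.range ((Nm A (F := F))ᵀ).mulVecLin) =
      finrank F (LinearMap.range (Nm A (F := F)).mulVecLin) := by
    have := Matrix.rank_transpose (Nm A (F := F))
    exact this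
  have h4 := LinearMap.finrank_range_add_finrank_ker (Nm A (F := F)).mulVecLin
  rw [Module.finrank_fin_fun] at h4
  have h5 : finrank F (LinearMap.ker (Nm A (F := F)).mulVecLin) ≤ 1 := by
    have hle : LinearMap.ker (Nm A (F := F)).mulVecLin ≤
        Submodule.span F {(fun _ => (1 : F) : Fin n → F)} := by
      intro u hu
      rw [LinearMap.mem_ker, Matrix.mulVecLin_apply] at hu
      have hrel : ∀ a b, (a < b ∧ 0 < A a b) →
          (fun _ => (1 : F) : Fin n → F) b * u a = (fun _ => (1 : F) : Fin n → F) a * u b := by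
        intro a b hab
        have := congrFun hu ⟨(a, b), hab⟩
        rw [Nm_mulVec] at this
        simp only [Pi.zero_apply] at this
        simp only [one_mul]
        exact sub_eq_zero.1 this
      have := conn_lemma A hconn (fun _ => (1 : F)) (fun _ => one_ne_zero) u hrel i₀
      rw [this]
      exact Submodule.smul_mem _ _ (Submodule.subset_span rfl)
    refine (Submodule.finrank_mono hle).trans ?_
    refine (finrank_span_le_card _).trans ?_
    simp
  have hT : finrank F T = finrank F (LinearMap.ker ((Nm A (F := F))ᵀ).mulVecLin) := rfl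
  omega

end LinAlg

theorem main {n : ℕ} (A : Matrix (Fin n) (Fin n) ℤ)
    (m : Fin n → ℤ) (hsymm : A.IsSymm) (hA : ∀ i j, i ≠ j → 0 ≤ A i j) (hm : ∀ i, 0 < m i)
    (hAm : A.mulVec m = 0)
    (hconn : ∀ I : Finset (Fin n), I.Nonempty → I ≠ univ → ∃ i ∈ I, ∃ j ∉ I, A i j ≠ 0)
    (ℓ : ℕ) (hℓ : ℓ.Prime) (hℓA : ∀ i j, A i j ≠ 0 → ¬ ((ℓ : ℤ) ∣ A i j))
    (hℓm : ∀ i, ¬ ((ℓ : ℤ) ∣ m i)) :
    Nat.card (Submodule.torsionBy ℤ ((Fin n → ℤ) ⧸ LinearMap.range (Matrix.mulVecLin A)) (ℓ : ℤ))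
      ≤ ℓ ^ ((univ.filter fun p : Fin n × Fin n => p.1 < p.2 ∧ 0 < A p.1 p.2).card + 1 - n) := by
  classical
  rcases isEmpty_or_nonempty (Fin n) with hem | ⟨⟨i₀⟩⟩
  · have hsub : Subsingleton (Submodule.torsionBy ℤ
        ((Fin n → ℤ) ⧸ LinearMap.range (Matrix.mulVecLin A)) (ℓ : ℤ)) := by
      constructor
      intro a b
      apply Subtype.ext
      obtain ⟨x, hx⟩ := Submodule.Quotient.mk_surjective _ a.1
      obtain ⟨y, hy⟩ := Submodule.Quotient.mk_surjective _ b.1
      rw [← hx, ← hy, Subsingleton.elim x y]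
    exact (Finite.card_le_one_iff_subsingleton.2 hsub).trans (Nat.one_le_pow _ _ hℓ.pos)
  · have : Fact ℓ.Prime := ⟨hℓ⟩
    obtain ⟨f, hf⟩ : ∃ f : ℤ →+* ZMod ℓ, f = Int.castRingHom (ZMod ℓ) := ⟨_, rfl⟩
    have hf0 : ∀ x : ℤ, f x = 0 ↔ (ℓ : ℤ) ∣ x := by
      intro x
      rw [hf, eq_intCast, ZMod.intCast_zmod_eq_zero_iff_dvd]
    have hsym : ∀ i j, (A.map f) i j = (A.map f) j i := by
      intro i j
      rw [Matrix.map_apply, Matrix.map_apply, hsymm.apply]
    have hAmb : (A.map f).mulVec (f ∘ m) = 0 := by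
      funext i
      rw [← RingHom.map_mulVec, hAm]
      simp
    have hzero : ∀ a b, a < b → ¬ (0 < A a b) → (A.map f) a b = 0 := by
      intro a b hab hp
      have : A a b = 0 := le_antisymm (not_lt.1 hp) (hA a b (ne_of_lt hab))
      rw [Matrix.map_apply, this, map_zero]
    have hedge : ∀ p : Edge A, (A.map f) p.1.1 p.1.2 ≠ 0 := by
      intro p
      rw [Matrix.map_apply, Ne, hf0]
      exact hℓA _ _ (ne_of_gt p.2.2)
    have hmb : ∀ i, (f ∘ m) i ≠ 0 := by
      intro i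
      rw [Function.comp_apply, Ne, hf0]
      exact hℓm i
    have hconn' : ∀ I : Finset (Fin n), I.Nonempty → I ≠ univ →
        ∃ i ∈ I, ∃ j ∉ I, (i < j ∧ 0 < A i j) ∨ (j < i ∧ 0 < A j i) := by
      intro I hI hIu
      obtain ⟨i, hi, j, hj, hij⟩ := hconn I hI hIu
      refine ⟨i, hi, j, hj, ?_⟩
      have hne : i ≠ j := by rintro rfl; exact hj hi
      have hpos : 0 < A i j := lt_of_le_of_ne (hA i j hne) (Ne.symm hij)
      rcases lt_or_gt_of_ne hne with h | h
      · exact Or.inl ⟨h, hpos⟩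
      · exact Or.inr ⟨h, by rw [hsymm.apply]; exact hpos⟩
    have hfin := finrank_K0_le A (A.map f) (f ∘ m) hsym hAmb hzero hedge hmb hconn' i₀
    rw [Fintype.card_subtype] at hfin
    obtain ⟨K₀, hK₀⟩ : ∃ K₀ : Submodule (ZMod ℓ) (Fin n → ZMod ℓ),
        K₀ = LinearMap.ker (A.map f).mulVecLin ⊓
          LinearMap.ker (LinearMap.proj i₀ : (Fin n → ZMod ℓ) →ₗ[ZMod ℓ] ZMod ℓ) := ⟨_, rfl⟩
    rw [← hK₀] at hfin
    have spec : ∀ q : Submodule.torsionBy ℤ
        ((Fin n → ℤ) ⧸ LinearMap.range (Matrix.mulVecLin A)) (ℓ : ℤ),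
        ∃ v : K₀, ∃ x y : Fin n → ℤ,
          (Submodule.Quotient.mk x : (Fin n → ℤ) ⧸ LinearMap.range (Matrix.mulVecLin A)) = q.1 ∧
          A.mulVec y = (ℓ : ℤ) • x ∧ f ∘ y = v.1 := by
      intro q
      obtain ⟨x, hx⟩ := Submodule.Quotient.mk_surjective _ q.1
      have hq := (Submodule.mem_torsionBy_iff _ _).1 q.2
      rw [← hx, ← Submodule.Quotient.mk_smul, Submodule.Quotient.mk_eq_zero,
        LinearMap.mem_range] at hq
      obtain ⟨y, hy⟩ := hq
      rw [Matrix.mulVecLin_apply] at hy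
      obtain ⟨c, hc⟩ := ZMod.intCast_surjective ((f (y i₀)) / (f (m i₀)))
      have hAy : A.mulVec (y - c • m) = (ℓ : ℤ) • x := by
        rw [Matrix.mulVec_sub, Matrix.mulVec_smul, hAm, smul_zero, sub_zero, hy]
      refine ⟨⟨f ∘ (y - c • m), ?_⟩, x, y - c • m, hx, hAy, rfl⟩
      rw [hK₀, Submodule.mem_inf, LinearMap.mem_ker, LinearMap.mem_ker, Matrix.mulVecLin_apply]
      constructor
      · funext i
        rw [← RingHom.map_mulVec, hAy]
        simp [hf]
      · show f ((y - c • m) i₀) = 0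
        rw [Pi.sub_apply, Pi.smul_apply, smul_eq_mul, map_sub, map_mul]
        have hfc : f c = (c : ZMod ℓ) := by rw [hf, eq_intCast]
        rw [hfc, hc, div_mul_cancel₀ _ (show f (m i₀) ≠ 0 from hmb i₀), sub_self]
    choose ι hι using spec
    have hinj : Function.Injective ι := by
      intro q₁ q₂ h
      obtain ⟨x₁, y₁, hx₁, hy₁, hv₁⟩ := hι q₁
      obtain ⟨x₂, y₂, hx₂, hy₂, hv₂⟩ := hι q₂
      have hred : f ∘ y₁ = f ∘ y₂ := by rw [hv₁, hv₂, h]
      have hdvd : ∀ i, ∃ z, y₁ i - y₂ i = (ℓ : ℤ) * z := by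
        intro i
        have := congrFun hred i
        simp only [Function.comp_apply] at this
        have h0 : f (y₁ i - y₂ i) = 0 := by rw [map_sub, this, sub_self]
        exact (hf0 _).1 h0
      choose z hz using hdvd
      have hyz : y₁ - y₂ = (ℓ : ℤ) • z := by
        funext i
        simp [hz i]
      have h3 : (ℓ : ℤ) • A.mulVec z = (ℓ : ℤ) • (x₁ - x₂) := by
        rw [← Matrix.mulVec_smul, ← hyz, Matrix.mulVec_sub, hy₁, hy₂, smul_sub]
      have h4 : A.mulVec z = x₁ - x₂ := by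
        funext i
        have := congrFun h3 i
        simp only [Pi.smul_apply, smul_eq_mul] at this
        exact mul_left_cancel₀ (by exact_mod_cast hℓ.ne_zero) this
      apply Subtype.ext
      rw [← hx₁, ← hx₂, Submodule.Quotient.eq, ← h4]
      exact ⟨z, rfl⟩
    calc Nat.card (Submodule.torsionBy ℤ
          ((Fin n → ℤ) ⧸ LinearMap.range (Matrix.mulVecLin A)) (ℓ : ℤ))
        ≤ Nat.card K₀ := Nat.card_le_card_of_injective ι hinj
      _ = ℓ ^ finrank (ZMod ℓ) K₀ := by
          rw [Module.natCard_eq_pow_finrank (K := ZMod ℓ), Nat.card_zmod]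
      _ ≤ _ := Nat.pow_le_pow_right hℓ.pos (by omega)

end Groth.Agent.H9.LapTors
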