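import Mathlib

/-! Helper9: lattice quotient computations for weight homomorphisms (S18330, S18331). -/

set_option autoImplicit false
set_option linter.unusedSectionVars false
set_option linter.unusedVariables false

namespace Groth.Agent.H9.LatQuot

open Module

theorem exists_primitive (r : ℕ) (hr : 0 < r) (d : Fin r → ℤ) :
    ∃ (l0 : (Fin r → ℤ) →ₗ[ℤ] ℤ) (d' : Fin r → ℤ), l0 d' = 1 ∧
      d = (Finset.univ.gcd d) • d' := by
  classical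
  by_cases hD : Finset.univ.gcd d = 0
  · have hd0 : d = 0 := by
      funext i
      exact (Finset.gcd_eq_zero_iff.1 hD) i (Finset.mem_univ i)
    refine ⟨(LinearMap.proj (⟨0, hr⟩ : Fin r) : (Fin r → ℤ) →ₗ[ℤ] ℤ),
      Pi.single (⟨0, hr⟩ : Fin r) 1, ?_, ?_⟩
    · rw [LinearMap.proj_apply, Pi.single_eq_same]
    · rw [hD, zero_smul, hd0]
  · obtain ⟨c, hc⟩ := Finset.gcd_eq_sum_mul Finset.univ d
    obtain ⟨D, hDdef⟩ : ∃ D : ℤ, D = Finset.univ.gcd d := ⟨_, rfl⟩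
    rw [← hDdef] at hD hc ⊢
    have hdvd : ∀ i, D ∣ d i := fun i => by
      rw [hDdef]; exact Finset.gcd_dvd (Finset.mem_univ i)
    choose d' hd' using hdvd
    refine ⟨Fintype.linearCombination ℤ c, d', ?_, ?_⟩
    · rw [Fintype.linearCombination_apply]
      have h : D * ∑ i, d' i • c i = D * 1 := by
        rw [mul_one, Finset.mul_sum]
        conv_rhs => rw [hc]
        apply Finset.sum_congr rfl; intro i _
        rw [hd' i, smul_eq_mul]; ring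
      exact mul_left_cancel₀ hD h
    · funext i; rw [Pi.smul_apply, smul_eq_mul]; exact hd' i

theorem exists_dual_system (r : ℕ) (hr : 0 < r) (d : Fin r → ℤ) :
    ∃ (l0 : (Fin r → ℤ) →ₗ[ℤ] ℤ) (mu : Fin (r - 1) → ((Fin r → ℤ) →ₗ[ℤ] ℤ)) (d' : Fin r → ℤ)
      (n : Fin (r - 1) → (Fin r → ℤ)),
      l0 d' = 1 ∧ (∀ k, l0 (n k) = 0) ∧ (∀ k, mu k d' = 0) ∧
      (∀ k j, mu k (n j) = if j = k then 1 else 0) ∧
      (∀ x, x = l0 x • d' + ∑ k, mu k x • n k) ∧ d = (Finset.univ.gcd d) • d' := by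
  classical
  obtain ⟨l0, d', hl0d', hd⟩ := exists_primitive r hr d
  obtain ⟨N, hN⟩ : ∃ N : Submodule ℤ (Fin r → ℤ), N = LinearMap.ker l0 := ⟨_, rfl⟩
  have hNmem : ∀ x, x ∈ N ↔ l0 x = 0 := fun x => by rw [hN, LinearMap.mem_ker]
  have hsurj : Function.Surjective l0 := fun c =>
    ⟨c • d', by rw [map_smul, hl0d', smul_eq_mul, mul_one]⟩
  have h1 := Submodule.finrank_quotient_add_finrank (LinearMap.ker l0)
  have h2 : Module.finrank ℤ ((Fin r → ℤ) ⧸ LinearMap.ker l0) = 1 := by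
    rw [LinearEquiv.finrank_eq (l0.quotKerEquivOfSurjective hsurj), Module.finrank_self]
  have h3 : Module.finrank ℤ (Fin r → ℤ) = r := Module.finrank_fin_fun ℤ
  have hfr : Module.finrank ℤ N = r - 1 := by rw [hN]; omega
  obtain ⟨bN, -⟩ : ∃ bN : Basis (Fin (r - 1)) ℤ N, bN = bN :=
    ⟨Module.finBasisOfFinrankEq ℤ N hfr, rfl⟩
  have hPmem : ∀ x, x - l0 x • d' ∈ N := by
    intro x; rw [hNmem, map_sub, map_smul, hl0d', smul_eq_mul, mul_one, sub_self]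
  obtain ⟨P, hP⟩ : ∃ P : (Fin r → ℤ) →ₗ[ℤ] N, ∀ x, (P x : Fin r → ℤ) = x - l0 x • d' :=
    ⟨LinearMap.codRestrict N
      ((LinearMap.id : (Fin r → ℤ) →ₗ[ℤ] (Fin r → ℤ)) - l0.smulRight d') (fun x => by
        show x - l0 x • d' ∈ N
        exact hPmem x), fun x => rfl⟩
  refine ⟨l0, fun k => (bN.coord k) ∘ₗ P, d', fun k => (bN k : Fin r → ℤ), hl0d',
    ?_, ?_, ?_, ?_, hd⟩
  · intro k; exact (hNmem _).1 (bN k).2
  · intro k
    have : P d' = 0 := Subtype.ext (by rw [hP, hl0d', one_smul, sub_self]; rfl)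
    rw [LinearMap.comp_apply, this, map_zero]
  · intro k j
    have : P (bN j : Fin r → ℤ) = bN j :=
      Subtype.ext (by rw [hP, (hNmem _).1 (bN j).2, zero_smul, sub_zero])
    rw [LinearMap.comp_apply, this, Basis.coord_apply, Basis.repr_self, Finsupp.single_apply]
  · intro x
    have h := congrArg (fun y : N => (y : Fin r → ℤ)) (bN.sum_repr (P x))
    simp only [Submodule.coe_sum, Submodule.coe_smul, hP] at h
    show x = l0 x • d' + ∑ k, bN.repr (P x) k • (bN k : Fin r → ℤ)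
    rw [h]; abel

theorem zker (δ m : ℕ) (hm : m ∣ δ) (x : ZMod δ) :
    ZMod.castHom hm (ZMod m) x = 0 ↔ ∃ q : ℤ, x = ((q * m : ℤ) : ZMod δ) := by
  constructor
  · intro h
    obtain ⟨y, rfl⟩ := ZMod.intCast_surjective x
    rw [map_intCast, CharP.intCast_eq_zero_iff (ZMod m) m] at h
    obtain ⟨q, hq⟩ := h
    exact ⟨q, by rw [hq, mul_comm]⟩
  · rintro ⟨q, rfl⟩
    rw [map_intCast, CharP.intCast_eq_zero_iff (ZMod m) m]
    exact Dvd.intro_left q rfl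

theorem exists_j (δ m : ℕ) (hδ0 : 0 < δ) (hm : m ∣ δ) :
    ∃ j : ZMod (δ / m) →+ ZMod δ, Function.Injective j ∧
      ∀ x : ZMod δ, (∃ q : ℤ, x = ((q * m : ℤ) : ZMod δ)) ↔ ∃ y, j y = x := by
  have hm0 : 0 < m := Nat.pos_of_dvd_of_pos hm hδ0
  have hdm : δ / m * m = δ := Nat.div_mul_cancel hm
  have hdm' : (((δ / m : ℕ) : ℤ) * (m : ℤ)) = (δ : ℤ) := by exact_mod_cast hdm
  obtain ⟨f, hfdef⟩ : ∃ f : ℤ →+ ZMod δ, f = zmultiplesHom (ZMod δ) (m : ZMod δ) := ⟨_, rfl⟩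
  have hf : ∀ x : ℤ, f x = ((x * m : ℤ) : ZMod δ) := by
    intro x
    rw [hfdef]
    show x • (m : ZMod δ) = _
    rw [zsmul_eq_mul]; push_cast; ring
  have hf0 : f ((δ / m : ℕ) : ℤ) = 0 := by
    rw [hf, hdm']; simp
  refine ⟨ZMod.lift (δ / m) ⟨f, hf0⟩, ?_, ?_⟩
  · rw [injective_iff_map_eq_zero]
    intro y hy
    obtain ⟨x, rfl⟩ := ZMod.intCast_surjective y
    rw [ZMod.lift_coe] at hy
    change f x = 0 at hy
    rw [hf, CharP.intCast_eq_zero_iff (ZMod δ) δ] at hy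
    rw [CharP.intCast_eq_zero_iff (ZMod (δ / m)) (δ / m)]
    have h3 : ((δ / m : ℕ) : ℤ) * (m : ℤ) ∣ x * (m : ℤ) := by
      rw [hdm']; exact hy
    exact (mul_dvd_mul_iff_right (by exact_mod_cast hm0.ne')).1 h3
  · intro x
    constructor
    · rintro ⟨q, rfl⟩
      exact ⟨(q : ZMod (δ / m)), by rw [ZMod.lift_coe]; exact hf q⟩
    · rintro ⟨y, rfl⟩
      obtain ⟨q, rfl⟩ := ZMod.intCast_surjective y
      exact ⟨q, by rw [ZMod.lift_coe]; exact hf q⟩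

noncomputable def phiB {r : ℕ} (δ : ℕ) (g : ℤ) (hδ : (δ : ℤ) ∣ 2 * (g - 1)) (d : Fin r → ℤ)
    (b : LinearMap.BilinForm ℤ (Fin r → ℤ)) (hb : b.IsSymm) : (Fin r → ℤ) →+ ZMod δ where
  toFun x := ((b d x + (1 - g) * b x x : ℤ) : ZMod δ)
  map_zero' := by simp
  map_add' x y := by
    have h1 : b d (x + y) + (1 - g) * b (x + y) (x + y) =
        (b d x + (1 - g) * b x x) + (b d y + (1 - g) * b y y) + (2 * (g - 1)) * (- b x y) := by
      simp only [map_add, LinearMap.add_apply]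
      rw [hb.eq y x]
      ring
    rw [h1, Int.cast_add, Int.cast_add]
    have h2 : (((2 * (g - 1)) * (- b x y) : ℤ) : ZMod δ) = 0 := by
      rw [CharP.intCast_eq_zero_iff (ZMod δ) δ]
      exact Dvd.dvd.mul_right hδ _
    rw [h2, add_zero]

noncomputable def mkHom {r : ℕ} (δ : ℕ) (l0 : (Fin r → ℤ) →ₗ[ℤ] ℤ)
    (mu : Fin (r - 1) → ((Fin r → ℤ) →ₗ[ℤ] ℤ))
    (a : ZMod δ) (c : Fin (r - 1) → ZMod δ) : (Fin r → ℤ) →+ ZMod δ where
  toFun x := a * ((l0 x : ℤ) : ZMod δ) + ∑ k, c k * ((mu k x : ℤ) : ZMod δ)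
  map_zero' := by simp
  map_add' x y := by
    simp only [map_add, Int.cast_add, mul_add, Finset.sum_add_distrib]
    abel

theorem both (r : ℕ) (hr : 0 < r) (δ : ℕ) (g : ℤ) (hδ : (δ : ℤ) ∣ 2 * (g - 1)) (d : Fin r → ℤ)
    (m₁ m₂ : ℕ) (h1 : m₁ ∣ δ) (h2 : m₂ ∣ δ)
    (A1 : (m₁ : ℤ) ∣ Finset.univ.gcd d + 1 - g) (A2 : (m₂ : ℤ) ∣ Finset.univ.gcd d)
    (A3 : (m₂ : ℤ) ∣ g - 1)
    (B1 : ∃ u v : ℤ, (m₁ : ℤ) = u * δ + v * (Finset.univ.gcd d + 1 - g))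
    (B2 : ∃ u v w : ℤ, (m₂ : ℤ) = u * δ + v * Finset.univ.gcd d + w * (g - 1)) :
    Nonempty ((((Fin r → ℤ) →+ ZMod δ) ⧸ AddSubgroup.closure
      {φ : (Fin r → ℤ) →+ ZMod δ | ∃ b : LinearMap.BilinForm ℤ (Fin r → ℤ), b.IsSymm ∧
      ∀ x, φ x = ((b d x + (1 - g) * b x x : ℤ) : ZMod δ)}) ≃+
      (ZMod m₁ × (Fin (r - 1) → ZMod m₂))) ∧
    (0 < δ → Nonempty (AddSubgroup.closure
      {φ : (Fin r → ℤ) →+ ZMod δ | ∃ b : LinearMap.BilinForm ℤ (Fin r → ℤ), b.IsSymm ∧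
      ∀ x, φ x = ((b d x + (1 - g) * b x x : ℤ) : ZMod δ)} ≃+
      (ZMod (δ / m₁) × (Fin (r - 1) → ZMod (δ / m₂))))) := by
  classical
  obtain ⟨l0, mu, d', n, hl0d', hl0n, hmud, hmun, hx, hd⟩ := exists_dual_system r hr d
  obtain ⟨D, hD⟩ : ∃ D : ℤ, D = Finset.univ.gcd d := ⟨_, rfl⟩
  rw [← hD] at hd A1 A2 B1 B2
  obtain ⟨S, hS⟩ : ∃ S : Set ((Fin r → ℤ) →+ ZMod δ),
      S = {φ : (Fin r → ℤ) →+ ZMod δ | ∃ b : LinearMap.BilinForm ℤ (Fin r → ℤ), b.IsSymm ∧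
      ∀ x, φ x = ((b d x + (1 - g) * b x x : ℤ) : ZMod δ)} := ⟨_, rfl⟩
  rw [← hS]
  have hSmem : ∀ φ, φ ∈ S ↔ ∃ b : LinearMap.BilinForm ℤ (Fin r → ℤ), b.IsSymm ∧
      ∀ x, φ x = ((b d x + (1 - g) * b x x : ℤ) : ZMod δ) := by
    intro φ; rw [hS]; rfl
  obtain ⟨c₁, hc₁⟩ : ∃ c₁ : ZMod δ →+* ZMod m₁, c₁ = ZMod.castHom h1 (ZMod m₁) := ⟨_, rfl⟩
  obtain ⟨c₂, hc₂⟩ : ∃ c₂ : ZMod δ →+* ZMod m₂, c₂ = ZMod.castHom h2 (ZMod m₂) := ⟨_, rfl⟩
  have hker₁ : ∀ x : ZMod δ, c₁ x = 0 ↔ ∃ q : ℤ, x = ((q * m₁ : ℤ) : ZMod δ) := by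
    intro x; rw [hc₁]; exact zker δ m₁ h1 x
  have hker₂ : ∀ x : ZMod δ, c₂ x = 0 ↔ ∃ q : ℤ, x = ((q * m₂ : ℤ) : ZMod δ) := by
    intro x; rw [hc₂]; exact zker δ m₂ h2 x
  have hext : ∀ φ ψ : (Fin r → ℤ) →+ ZMod δ, φ d' = ψ d' → (∀ k, φ (n k) = ψ (n k)) →
      φ = ψ := by
    intro φ ψ h0 hk
    refine AddMonoidHom.ext (fun x => ?_)
    rw [hx x]
    simp only [map_add, map_sum, map_zsmul, h0, hk]
  have hmk_d' : ∀ a c, mkHom δ l0 mu a c d' = a := by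
    intro a c
    show a * ((l0 d' : ℤ) : ZMod δ) + ∑ k, c k * ((mu k d' : ℤ) : ZMod δ) = a
    rw [hl0d']; simp [hmud]
  have hmk_n : ∀ a c j, mkHom δ l0 mu a c (n j) = c j := by
    intro a c j
    show a * ((l0 (n j) : ℤ) : ZMod δ) + ∑ k, c k * ((mu k (n j) : ℤ) : ZMod δ) = c j
    rw [hl0n j]; simp [hmun]
  obtain ⟨Ψ, hΨ⟩ : ∃ Ψ : ((Fin r → ℤ) →+ ZMod δ) →+ ZMod m₁ × (Fin (r - 1) → ZMod m₂),
      ∀ φ, Ψ φ = (c₁ (φ d'), fun k => c₂ (φ (n k))) :=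
    ⟨AddMonoidHom.mk' (fun φ => (c₁ (φ d'), fun k => c₂ (φ (n k)))) (by
        intro φ ψ
        refine Prod.ext ?_ (funext fun k => ?_)
        · simp
        · simp), fun φ => rfl⟩
  have hΨsurj : Function.Surjective Ψ := by
    rintro ⟨a, c⟩
    obtain ⟨a', ha'⟩ := ZMod.ringHom_surjective c₁ a
    choose c' hc' using fun k => ZMod.ringHom_surjective c₂ (c k)
    refine ⟨mkHom δ l0 mu a' c', ?_⟩
    rw [hΨ, hmk_d', ha']
    refine Prod.ext rfl (funext fun k => ?_)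
    show c₂ (mkHom δ l0 mu a' c' (n k)) = c k
    rw [hmk_n, hc']
  have hSker : ∀ φ ∈ S, Ψ φ = 0 := by
    intro φ hφS
    obtain ⟨b, hb, hφ⟩ := (hSmem φ).1 hφS
    rw [hΨ]
    refine Prod.ext ?_ (funext fun k => ?_)
    · show c₁ (φ d') = 0
      rw [hφ, hker₁]
      obtain ⟨q, hq⟩ := A1
      refine ⟨b d' d' * q, ?_⟩
      congr 1
      rw [hd, map_smul, LinearMap.smul_apply, smul_eq_mul]
      linear_combination (b d' d') * hq
    · show c₂ (φ (n k)) = 0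
      rw [hφ, hker₂]
      obtain ⟨q2, hq2⟩ := A2
      obtain ⟨q3, hq3⟩ := A3
      refine ⟨q2 * b d' (n k) - q3 * b (n k) (n k), ?_⟩
      congr 1
      rw [hd, map_smul, LinearMap.smul_apply, smul_eq_mul]
      linear_combination (b d' (n k)) * hq2 - (b (n k) (n k)) * hq3
  have hkerS : ∀ φ, Ψ φ = 0 → φ ∈ S := by
    intro φ hφ
    rw [hΨ] at hφ
    have hφ1 : c₁ (φ d') = 0 := congrArg Prod.fst hφ
    have hφ2 : ∀ k, c₂ (φ (n k)) = 0 := fun k => congrFun (congrArg Prod.snd hφ) k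
    obtain ⟨q0, hq0⟩ := (hker₁ _).1 hφ1
    choose q hq using fun k => (hker₂ _).1 (hφ2 k)
    obtain ⟨u1, v1, hB1⟩ := B1
    obtain ⟨u2, v2, w2, hB2⟩ := B2
    obtain ⟨t, ht⟩ : ∃ t : ℤ, t = q0 * v1 := ⟨_, rfl⟩
    obtain ⟨s, hs⟩ : ∃ s : Fin (r - 1) → ℤ, s = fun k => q k * v2 := ⟨_, rfl⟩
    obtain ⟨tt, htt⟩ : ∃ tt : Fin (r - 1) → ℤ, tt = fun k => -(q k * w2) := ⟨_, rfl⟩
    have hval0 : φ d' = ((t * (D + 1 - g) : ℤ) : ZMod δ) := by
      rw [hq0, hB1, ht]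
      push_cast
      rw [ZMod.natCast_self]
      ring
    have hvaln : ∀ k, φ (n k) = ((s k * D + tt k * (1 - g) : ℤ) : ZMod δ) := by
      intro k
      rw [hq k, hB2, hs, htt]
      push_cast
      rw [ZMod.natCast_self]
      ring
    obtain ⟨b, hbdef⟩ : ∃ b : LinearMap.BilinForm ℤ (Fin r → ℤ),
        b = t • LinearMap.BilinForm.linMulLin l0 l0 +
          ∑ k, (s k • (LinearMap.BilinForm.linMulLin l0 (mu k) +
            LinearMap.BilinForm.linMulLin (mu k) l0) +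
            tt k • LinearMap.BilinForm.linMulLin (mu k) (mu k)) := ⟨_, rfl⟩
    have hbxy : ∀ x y, b x y = t * (l0 x * l0 y) +
        ∑ k, (s k * (l0 x * mu k y + mu k x * l0 y) + tt k * (mu k x * mu k y)) := by
      intro x y
      rw [hbdef]
      simp only [LinearMap.add_apply, LinearMap.smul_apply, LinearMap.sum_apply,
        LinearMap.BilinForm.linMulLin_apply, smul_eq_mul]
    have hbs : b.IsSymm := ⟨fun x y => by
      rw [hbxy, hbxy]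
      congr 1
      · ring
      · apply Finset.sum_congr rfl; intro k _; ring⟩
    have e1 : b d' d' = t := by
      rw [hbxy, hl0d']; simp [hmud]
    have e2 : ∀ j, b d' (n j) = s j := by
      intro j
      rw [hbxy, hl0d', hl0n j]; simp [hmud, hmun]
    have e3 : ∀ j, b (n j) (n j) = tt j := by
      intro j
      have hsq : ∀ k, mu k (n j) * mu k (n j) = if j = k then 1 else 0 := by
        intro k; rw [hmun]; split_ifs <;> simp
      rw [hbxy, hl0n j]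
      simp only [hsq, zero_mul, mul_zero, add_zero, zero_add]
      simp
    have hφeq : φ = phiB δ g hδ d b hbs := by
      apply hext
      · show φ d' = ((b d d' + (1 - g) * b d' d' : ℤ) : ZMod δ)
        rw [hval0]
        congr 1
        rw [hd, map_smul, LinearMap.smul_apply, smul_eq_mul, e1]
        ring
      · intro j
        show φ (n j) = ((b d (n j) + (1 - g) * b (n j) (n j) : ℤ) : ZMod δ)
        rw [hvaln j]
        congr 1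
        rw [hd, map_smul, LinearMap.smul_apply, smul_eq_mul, e2, e3]
        ring
    exact (hSmem φ).2 ⟨b, hbs, fun x => by rw [hφeq]; rfl⟩
  have hcl : AddSubgroup.closure S = Ψ.ker := by
    apply le_antisymm
    · rw [AddSubgroup.closure_le]
      intro φ hφ
      exact AddMonoidHom.mem_ker.2 (hSker φ hφ)
    · intro φ hφ
      exact AddSubgroup.subset_closure (hkerS φ (AddMonoidHom.mem_ker.1 hφ))
  refine ⟨⟨(QuotientAddGroup.quotientAddEquivOfEq hcl).trans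
    (QuotientAddGroup.quotientKerEquivOfSurjective Ψ hΨsurj)⟩, ?_⟩
  intro hδ0
  obtain ⟨j₁, hj₁inj, hj₁⟩ := exists_j δ m₁ hδ0 h1
  obtain ⟨j₂, hj₂inj, hj₂⟩ := exists_j δ m₂ hδ0 h2
  obtain ⟨Θ, hΘ⟩ : ∃ Θ : (ZMod (δ / m₁) × (Fin (r - 1) → ZMod (δ / m₂))) →+
      ((Fin r → ℤ) →+ ZMod δ), ∀ p, Θ p = mkHom δ l0 mu (j₁ p.1) (fun k => j₂ (p.2 k)) :=
    ⟨AddMonoidHom.mk' (fun p => mkHom δ l0 mu (j₁ p.1) (fun k => j₂ (p.2 k))) (by
      intro p p'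
      apply hext
      · rw [AddMonoidHom.add_apply, hmk_d', hmk_d', hmk_d', Prod.fst_add, map_add]
      · intro k
        rw [AddMonoidHom.add_apply, hmk_n, hmk_n, hmk_n, Prod.snd_add, Pi.add_apply, map_add]),
      fun p => rfl⟩
  have hΘinj : Function.Injective Θ := by
    intro p p' hpp
    rw [hΘ, hΘ] at hpp
    have h0 := congrArg (fun φ : (Fin r → ℤ) →+ ZMod δ => φ d') hpp
    simp only [hmk_d'] at h0
    have hk : ∀ k, p.2 k = p'.2 k := by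
      intro k
      have := congrArg (fun φ : (Fin r → ℤ) →+ ZMod δ => φ (n k)) hpp
      simp only [hmk_n] at this
      exact hj₂inj this
    exact Prod.ext (hj₁inj h0) (funext hk)
  have hrange : Θ.range = Ψ.ker := by
    ext φ
    rw [AddMonoidHom.mem_range, AddMonoidHom.mem_ker]
    constructor
    · rintro ⟨p, rfl⟩
      rw [hΨ, hΘ, hmk_d']
      refine Prod.ext ?_ (funext fun k => ?_)
      · show c₁ (j₁ p.1) = 0
        rw [hker₁, hj₁]; exact ⟨_, rfl⟩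
      · show c₂ (mkHom δ l0 mu (j₁ p.1) (fun k => j₂ (p.2 k)) (n k)) = 0
        rw [hmk_n, hker₂, hj₂]; exact ⟨_, rfl⟩
    · intro hφ
      rw [hΨ] at hφ
      have hφ1 : c₁ (φ d') = 0 := congrArg Prod.fst hφ
      have hφ2 : ∀ k, c₂ (φ (n k)) = 0 := fun k => congrFun (congrArg Prod.snd hφ) k
      obtain ⟨a, ha⟩ := (hj₁ _).1 ((hker₁ _).1 hφ1)
      choose c hc using fun k => (hj₂ _).1 ((hker₂ _).1 (hφ2 k))
      refine ⟨(a, c), ?_⟩
      rw [hΘ]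
      apply hext
      · rw [hmk_d']; exact ha
      · intro k; rw [hmk_n]; exact hc k
  exact ⟨(AddEquiv.addSubgroupCongr hcl).trans
    ((AddEquiv.addSubgroupCongr hrange).symm.trans (AddMonoidHom.ofInjective hΘinj).symm)⟩

theorem facts (δ : ℕ) (g D : ℤ) :
    (Int.gcd δ (D + 1 - g)) ∣ δ ∧ (Int.gcd δ (Int.gcd (g - 1) D)) ∣ δ ∧
    ((Int.gcd δ (D + 1 - g) : ℕ) : ℤ) ∣ D + 1 - g ∧
    ((Int.gcd δ (Int.gcd (g - 1) D) : ℕ) : ℤ) ∣ D ∧
    ((Int.gcd δ (Int.gcd (g - 1) D) : ℕ) : ℤ) ∣ g - 1 ∧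
    (∃ u v : ℤ, ((Int.gcd δ (D + 1 - g) : ℕ) : ℤ) = u * δ + v * (D + 1 - g)) ∧
    (∃ u v w : ℤ, ((Int.gcd δ (Int.gcd (g - 1) D) : ℕ) : ℤ) = u * δ + v * D + w * (g - 1)) := by
  refine ⟨?_, ?_, ?_, ?_, ?_, ?_, ?_⟩
  · exact Int.natCast_dvd_natCast.1 (Int.gcd_dvd_left _ _)
  · exact Int.natCast_dvd_natCast.1 (Int.gcd_dvd_left _ _)
  · exact Int.gcd_dvd_right _ _
  · exact dvd_trans (Int.gcd_dvd_right _ _) (Int.gcd_dvd_right _ _)
  · exact dvd_trans (Int.gcd_dvd_right _ _) (Int.gcd_dvd_left _ _)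
  · refine ⟨Int.gcdA δ (D + 1 - g), Int.gcdB δ (D + 1 - g), ?_⟩
    rw [Int.gcd_eq_gcd_ab]; ring
  · obtain ⟨G, hG⟩ : ∃ G : ℤ, G = ((Int.gcd (g - 1) D : ℕ) : ℤ) := ⟨_, rfl⟩
    have hG2 : G = (g - 1) * Int.gcdA (g - 1) D + D * Int.gcdB (g - 1) D := by
      rw [hG]; exact Int.gcd_eq_gcd_ab _ _
    rw [← hG]
    refine ⟨Int.gcdA δ G, Int.gcdB δ G * Int.gcdB (g - 1) D,
      Int.gcdB δ G * Int.gcdA (g - 1) D, ?_⟩
    have h3 := Int.gcd_eq_gcd_ab (δ : ℤ) G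
    rw [h3]
    linear_combination (Int.gcdB δ G) * hG2

theorem main30 (r : ℕ) (hr : 0 < r) (δ : ℕ) (g : ℤ) (hδ : (δ : ℤ) ∣ 2 * (g - 1))
    (d : Fin r → ℤ) :
    Nonempty ((((Fin r → ℤ) →+ ZMod δ) ⧸ AddSubgroup.closure
      {φ : (Fin r → ℤ) →+ ZMod δ | ∃ b : LinearMap.BilinForm ℤ (Fin r → ℤ), b.IsSymm ∧
      ∀ x, φ x = ((b d x + (1 - g) * b x x : ℤ) : ZMod δ)}) ≃+
      (ZMod (Int.gcd δ (Finset.univ.gcd d + 1 - g)) ×
        (Fin (r - 1) → ZMod (Int.gcd δ (Int.gcd (g - 1) (Finset.univ.gcd d)))))) := by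
  obtain ⟨f1, f2, f3, f4, f5, f6, f7⟩ := facts δ g (Finset.univ.gcd d)
  exact (both r hr δ g hδ d _ _ f1 f2 f3 f4 f5 f6 f7).1

theorem main31 (r : ℕ) (hr : 0 < r) (δ : ℕ) (hδ0 : 0 < δ) (g : ℤ) (hδ : (δ : ℤ) ∣ 2 * (g - 1))
    (d : Fin r → ℤ) :
    Nonempty (AddSubgroup.closure
      {φ : (Fin r → ℤ) →+ ZMod δ | ∃ b : LinearMap.BilinForm ℤ (Fin r → ℤ), b.IsSymm ∧
      ∀ x, φ x = ((b d x + (1 - g) * b x x : ℤ) : ZMod δ)} ≃+
      (ZMod (δ / Int.gcd δ (Finset.univ.gcd d + 1 - g)) ×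
        (Fin (r - 1) → ZMod (δ / Int.gcd δ (Int.gcd (g - 1) (Finset.univ.gcd d)))))) := by
  obtain ⟨f1, f2, f3, f4, f5, f6, f7⟩ := facts δ g (Finset.univ.gcd d)
  exact (both r hr δ g hδ d _ _ f1 f2 f3 f4 f5 f6 f7).2 hδ0

end Groth.Agent.H9.LatQuot
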