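import Mathlib

/-! Helper9: S5119 Kummer freeness of Laurent polynomials -/

universe u
open LaurentPolynomial

namespace Groth.Agent.H9.Laur

variable (A : Type u) [CommRing A] (n : ℕ)

noncomputable def un : A[T;T⁻¹] →+* A[T;T⁻¹] :=
  (AddMonoidAlgebra.mapDomainRingHom A (AddMonoidHom.mulLeft (n : ℤ)) : A[T;T⁻¹] →+* A[T;T⁻¹])

lemma mul_inj (hn : 1 ≤ n) : Function.Injective (HMul.hMul (n : ℤ) : ℤ → ℤ) := by
  intro a b h
  have hn' : (n : ℤ) ≠ 0 := by exact_mod_cast (by omega : n ≠ 0)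
  exact mul_left_cancel₀ hn' h

lemma un_coeff_mul (hn : 1 ≤ n) (c : A[T;T⁻¹]) (k : ℤ) :
    (un A n c).coeff ((n : ℤ) * k) = c.coeff k := by
  unfold un
  simp only [AddMonoidAlgebra.mapDomainRingHom]
  show (AddMonoidAlgebra.mapDomain _ c).coeff _ = _
  simp only [AddMonoidAlgebra.mapDomain, AddMonoidHom.coe_mulLeft]
  exact Finsupp.mapDomain_apply (mul_inj n hn) c.coeff k

lemma un_coeff_of_not_dvd (c : A[T;T⁻¹]) (j : ℤ) (hj : ¬ (n : ℤ) ∣ j) :
    (un A n c).coeff j = 0 := by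
  unfold un
  simp only [AddMonoidAlgebra.mapDomainRingHom]
  show (AddMonoidAlgebra.mapDomain _ c).coeff _ = _
  simp only [AddMonoidAlgebra.mapDomain, AddMonoidHom.coe_mulLeft]
  apply Finsupp.mapDomain_of_notMem_range
  rintro ⟨k, hk⟩
  exact hj ⟨k, hk.symm⟩

lemma mul_T_coeff (x : A[T;T⁻¹]) (i j : ℤ) : (x * T i).coeff j = x.coeff (j - i) := by
  unfold T
  rw [AddMonoidAlgebra.coeff_mul_single_apply]
  simp [sub_eq_add_neg]

/-- the expansion -/
noncomputable def ex (c : Fin n → A[T;T⁻¹]) : A[T;T⁻¹] :=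
  ∑ i : Fin n, un A n (c i) * T (i : ℤ)

lemma ex_coeff (hn : 1 ≤ n) (c : Fin n → A[T;T⁻¹]) (k : ℤ) (i₀ : Fin n) :
    (ex A n c).coeff ((n : ℤ) * k + (i₀ : ℤ)) = (c i₀).coeff k := by
  unfold ex
  have hsum : (∑ i : Fin n, un A n (c i) * T (i : ℤ)).coeff ((n : ℤ) * k + (i₀ : ℤ)) =
      ∑ i : Fin n, (un A n (c i) * T (i : ℤ)).coeff ((n : ℤ) * k + (i₀ : ℤ)) := by
    simp
  rw [hsum, Finset.sum_eq_single i₀]
  · rw [mul_T_coeff, add_sub_cancel_right, un_coeff_mul A n hn]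
  · intro i _ hi
    rw [mul_T_coeff]
    apply un_coeff_of_not_dvd
    intro hdvd
    have h1 : (n : ℤ) ∣ ((i₀ : ℤ) - (i : ℤ)) := by
      have : (n : ℤ) * k + (i₀ : ℤ) - (i : ℤ) = (n : ℤ) * k + ((i₀ : ℤ) - (i : ℤ)) := by ring
      rw [this] at hdvd
      exact (Int.dvd_add_right (dvd_mul_right _ _)).mp hdvd
    have h2 : |(i₀ : ℤ) - (i : ℤ)| < n := by
      have := i.2
      have := i₀.2
      rw [abs_lt]
      constructor <;> omega
    have h3 := Int.eq_zero_of_abs_lt_dvd h1 h2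
    apply hi
    apply Fin.ext
    omega
  · intro h; exact absurd (Finset.mem_univ _) h

theorem main (hn : 1 ≤ n) (q : A[T;T⁻¹]) :
    ∃! c : Fin n → A[T;T⁻¹],
      q = ∑ i : Fin n, (AddMonoidAlgebra.mapDomainRingHom A (AddMonoidHom.mulLeft (n : ℤ)) :
        A[T;T⁻¹] →+* A[T;T⁻¹]) (c i) * LaurentPolynomial.T (i : ℤ) := by
  have hn' : (n : ℤ) ≠ 0 := by exact_mod_cast (by omega : n ≠ 0)
  have hnpos : (0 : ℤ) < n := by exact_mod_cast hn
  let g : Fin n → ℤ → ℤ := fun i k => (n : ℤ) * k + (i : ℤ)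
  have hg : ∀ i, Function.Injective (g i) := by
    intro i a b h
    simp only [g] at h
    exact mul_left_cancel₀ hn' (add_right_cancel h)
  let c : Fin n → A[T;T⁻¹] := fun i => AddMonoidAlgebra.comapDomain (g i) (hg i) q
  have hc : ∀ i k, (c i).coeff k = q.coeff ((n : ℤ) * k + (i : ℤ)) := by
    intro i k
    simp [c, AddMonoidAlgebra.coeff_comapDomain, g]
  refine ⟨c, ?_, ?_⟩
  · change q = ex A n c
    apply AddMonoidAlgebra.ext
    apply Finsupp.ext
    intro j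
    have hj : j = (n : ℤ) * (j / n) + ((⟨(j % n).toNat, by
        have := Int.emod_lt_of_pos j hnpos
        have := Int.emod_nonneg j hn'
        omega⟩ : Fin n) : ℤ) := by
      have h1 := Int.emod_nonneg j hn'
      simp only [Int.toNat_of_nonneg h1]
      exact (Int.mul_ediv_add_emod j n).symm
    conv_rhs => rw [hj]
    rw [ex_coeff A n hn, hc, ← hj]
  · intro c' hc'
    change q = ex A n c' at hc'
    funext i
    apply AddMonoidAlgebra.ext
    apply Finsupp.ext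
    intro k
    rw [hc, hc', ex_coeff A n hn]

end Groth.Agent.H9.Laur
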