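import Mathlib
import Groth.Agent.Lib.Helper9.Misc.Laz5
import Groth.Agent.Lib.Helper9.Misc.Laz6

/-! Helper9: Lazard symmetric cocycle lemma in char p (S13358) -/

namespace Groth.Agent.H9.Laz

universe u

open MvPolynomial

set_option linter.unusedSectionVars false

theorem main (p : ℕ) [Fact p.Prime] (R : Type u) [CommRing R] [CharP R p]
    (F : MvPolynomial (Fin 2) R) :
    (MvPolynomial.aeval ![MvPolynomial.X 1, MvPolynomial.X 0] F = F ∧
      MvPolynomial.aeval ![MvPolynomial.X 0, MvPolynomial.X 1 + MvPolynomial.X 2] F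
          + MvPolynomial.aeval ![MvPolynomial.X 1, MvPolynomial.X 2] F
          - MvPolynomial.aeval ![MvPolynomial.X 0 + MvPolynomial.X 1, MvPolynomial.X 2] F
          - MvPolynomial.aeval ![MvPolynomial.X 0, MvPolynomial.X 1] F = (0 : MvPolynomial (Fin 3) R)) ↔
      ∃ (G : Polynomial R) (N : ℕ) (r : ℕ → R),
        F = Polynomial.aeval (MvPolynomial.X 0 + MvPolynomial.X 1 : MvPolynomial (Fin 2) R) G
              - Polynomial.aeval (MvPolynomial.X 0 : MvPolynomial (Fin 2) R) G
              - Polynomial.aeval (MvPolynomial.X 1 : MvPolynomial (Fin 2) R) G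
            + ∑ i ∈ Finset.range N, MvPolynomial.C (r i) *
                MvPolynomial.aeval ![MvPolynomial.X 0 ^ p ^ i, MvPolynomial.X 1 ^ p ^ i]
                  (∑ j ∈ Finset.Ioo 0 p, MvPolynomial.C ((p.choose j / p : ℕ) : R) *
                    MvPolynomial.X 0 ^ j * MvPolynomial.X 1 ^ (p - j) : MvPolynomial (Fin 2) R) := by
  constructor
  · rintro ⟨hsym, hcoc⟩
    obtain ⟨G, N, r, -, -, hF⟩ := forward p F hsym hcoc (CharP.cast_eq_zero R p)
    exact ⟨G, N, r, hF⟩
  · rintro ⟨G, N, r, hF⟩
    have hF' : F = delta G + ∑ i ∈ Finset.range N, C (r i) * SpQ (R := R) p (p ^ i) := hF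
    constructor
    · rw [hF']
      simp only [map_add, map_sum, map_mul, delta_sym, SpQ_sym, aeval_C]
      rfl
    · rw [hF']
      simp only [map_add, map_sum, map_mul, aeval_C]
      have h1 := delta_coc G
      have h2 : ∀ i, _ := fun i => SpQ_coc (R := R) p i
      have key : ∀ (a b c d : MvPolynomial (Fin 3) R) (sa sb sc sd : MvPolynomial (Fin 3) R),
          a + b - c - d = 0 → sa + sb - sc - sd = 0 →
          (a + sa) + (b + sb) - (c + sc) - (d + sd) = 0 := by
        intro a b c d sa sb sc sd h h'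
        linear_combination h + h'
      apply key _ _ _ _ _ _ _ _ h1
      rw [← Finset.sum_add_distrib, ← Finset.sum_sub_distrib, ← Finset.sum_sub_distrib]
      refine Finset.sum_eq_zero (fun i _ => ?_)
      have := h2 i
      linear_combination (algebraMap R (MvPolynomial (Fin 3) R)) (r i) * this

end Groth.Agent.H9.Laz
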