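import Mathlib

set_option autoImplicit false
set_option linter.style.haveILetI false
set_option linter.unusedSectionVars false
set_option linter.unusedVariables false

open Polynomial

namespace Groth.Agent.H9.LexDiff

/-- abstract lex comparison lemma: a "unitriangular" change of coordinates preserves lex order -/
theorem lex_iff {ℓ : ℕ} (u u' w w' : Fin ℓ → ℚ)
    (H : ∀ j : Fin ℓ, (∀ i : Fin ℓ, i < j → u i = u' i) → w j - w' j = u j - u' j) :
    toLex u ≤ toLex u' ↔ toLex w ≤ toLex w' := by
  have A1 : ∀ j : Fin ℓ, (∀ i : Fin ℓ, i < j → u i = u' i) →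
      ∀ i : Fin ℓ, i < j → w i = w' i := by
    intro j hj i hij
    have h1 := H i (fun i' hi' => hj i' (hi'.trans hij))
    have h2 := hj i hij
    linarith
  have A2 : ∀ j : Fin ℓ, (∀ i : Fin ℓ, i < j → w i = w' i) →
      ∀ i : Fin ℓ, i < j → u i = u' i := by
    intro j hj i
    induction i using WellFoundedLT.induction with
    | ind i ih =>
      intro hij
      have h1 := H i (fun i' hi' => ih i' hi' (hi'.trans hij))
      have h2 := hj i hij
      linarith
  have hlt : toLex u < toLex u' ↔ toLex w < toLex w' := by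
    constructor
    · rintro ⟨j, hj, h⟩
      have h' : u j < u' j := h
      have hj' : ∀ i : Fin ℓ, i < j → u i = u' i := fun i hi => hj i hi
      refine ⟨j, fun i hi => A1 j hj' i hi, ?_⟩
      have h1 := H j hj'
      show w j < w' j
      linarith
    · rintro ⟨j, hj, h⟩
      have h' : w j < w' j := h
      have hj' : ∀ i : Fin ℓ, i < j → w i = w' i := fun i hi => hj i hi
      have hu := A2 j hj'
      refine ⟨j, fun i hi => hu i hi, ?_⟩
      have h1 := H j hu
      show u j < u' j
      linarith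
  have heq : u = u' ↔ w = w' := by
    constructor
    · intro h
      funext j
      have h1 := H j (fun i _ => by rw [h])
      have h2 : u j = u' j := by rw [h]
      linarith
    · intro h
      funext j
      have hu := A2 j (fun i _ => by rw [h])
      have h1 := H j hu
      have h2 : w j = w' j := by rw [h]
      linarith
  rw [le_iff_lt_or_eq, le_iff_lt_or_eq, toLex_inj, toLex_inj, heq]
  exact or_congr hlt Iff.rfl

/-- the "factorial-scaled coefficient" -/
noncomputable def al (P : ℚ[X]) (i : ℕ) : ℚ := P.coeff i * (Nat.factorial i : ℚ)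

noncomputable def kap (a : ℚ) (m : ℕ) : ℚ := -((-a) ^ (m + 1) / (Nat.factorial (m + 1) : ℚ))

theorem kap_zero (a : ℚ) : kap a 0 = a := by
  unfold kap; norm_num [Nat.factorial]

theorem al_eq_zero_of_lt (P : ℚ[X]) {i : ℕ} (h : P.natDegree < i) : al P i = 0 := by
  unfold al; rw [coeff_eq_zero_of_natDegree_lt h, zero_mul]

theorem al_natDegree_ne_zero (P : ℚ[X]) (hP0 : P ≠ 0) : al P P.natDegree ≠ 0 := by
  unfold al
  refine mul_ne_zero ?_ (by exact_mod_cast Nat.factorial_ne_zero _)
  rwa [coeff_natDegree, Ne, leadingCoeff_eq_zero]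

theorem al_comp (P : ℚ[X]) (a : ℚ) (n : ℕ) :
    al (P.comp (X - C a)) n =
      ∑ m ∈ Finset.range (P.natDegree + 1),
        al P (n + m) * ((-a) ^ m / (Nat.factorial m : ℚ)) := by
  have h1 : P.comp (X - C a) = taylor (-a) P := by
    rw [taylor_apply, C_neg, sub_eq_add_neg]
  unfold al
  rw [h1, taylor_coeff, eval_eq_sum_range' (n := P.natDegree + 1), Finset.sum_mul]
  · refine Finset.sum_congr rfl fun m _ => ?_
    rw [hasseDeriv_coeff]
    have hf : ((m + n).choose n : ℚ) * (Nat.factorial m : ℚ) * (Nat.factorial n : ℚ) =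
        (Nat.factorial (m + n) : ℚ) := by
      exact_mod_cast Nat.add_choose_mul_factorial_mul_factorial m n
    have hm : (Nat.factorial m : ℚ) ≠ 0 := by exact_mod_cast Nat.factorial_ne_zero m
    rw [add_comm n m, ← hf]
    field_simp
  · exact lt_of_le_of_lt (natDegree_hasseDeriv_le P n) (by omega)

theorem al_diff (P : ℚ[X]) (a : ℚ) (n : ℕ) :
    al (P - P.comp (X - C a)) n =
      ∑ m ∈ Finset.range P.natDegree, al P (n + m + 1) * kap a m := by
  have h0 : al (P - P.comp (X - C a)) n = al P n - al (P.comp (X - C a)) n := by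
    unfold al; rw [coeff_sub]; ring
  rw [h0, al_comp, Finset.sum_range_succ']
  simp only [add_zero, pow_zero, Nat.factorial_zero, Nat.cast_one, div_one, mul_one]
  rw [sub_add_cancel_right, ← Finset.sum_neg_distrib]
  refine Finset.sum_congr rfl fun m _ => ?_
  unfold kap
  rw [← add_assoc]; ring

theorem al_diff_lead (P : ℚ[X]) (a : ℚ) (d : ℕ) (hd : 1 ≤ d) (hP : P.natDegree = d) :
    al (P - P.comp (X - C a)) (d - 1) = a * al P d := by
  rw [al_diff, hP, Finset.sum_eq_single 0]
  · have e : d - 1 + 0 + 1 = d := by omega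
    rw [e, kap_zero, mul_comm]
  · intro m _ hm
    rw [al_eq_zero_of_lt, zero_mul]
    rw [hP]; omega
  · intro h; exact absurd (Finset.mem_range.mpr (by omega)) h

theorem main (d ℓ : ℕ) (hℓ : ℓ + 1 ≤ d) (a : ℚ) (ha : a ≠ 0)
    (P Q : ℚ[X]) (hP : P.natDegree = d) (hQ : Q.natDegree = d) (hP0 : P ≠ 0) (hQ0 : Q ≠ 0) :
    toLex (fun j : Fin ℓ => al P (d - 1 - (j : ℕ)) / al P d) ≤
        toLex (fun j : Fin ℓ => al Q (d - 1 - (j : ℕ)) / al Q d) ↔
      toLex (fun j : Fin ℓ => al (P - P.comp (X - C a)) ((d - 1) - 1 - (j : ℕ)) /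
          al (P - P.comp (X - C a)) (d - 1)) ≤
        toLex (fun j : Fin ℓ => al (Q - Q.comp (X - C a)) ((d - 1) - 1 - (j : ℕ)) /
          al (Q - Q.comp (X - C a)) (d - 1)) := by
  apply lex_iff
  intro j hj
  have hPd : al P d ≠ 0 := hP ▸ al_natDegree_ne_zero P hP0
  have hQd : al Q d ≠ 0 := hQ ▸ al_natDegree_ne_zero Q hQ0
  have hj' : (j : ℕ) < ℓ := j.isLt
  rw [al_diff_lead P a d (by omega) hP, al_diff_lead Q a d (by omega) hQ, al_diff, al_diff,
    hP, hQ]
  rw [Finset.sum_div, Finset.sum_div, ← Finset.sum_sub_distrib, Finset.sum_eq_single 0]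
  · have e : d - 1 - 1 - (j : ℕ) + 0 + 1 = d - 1 - (j : ℕ) := by omega
    rw [e, kap_zero]
    field_simp
  · intro m hm hm0
    have hmd : m < d := Finset.mem_range.mp hm
    have key : al P (d - 1 - 1 - (j : ℕ) + m + 1) / al P d =
        al Q (d - 1 - 1 - (j : ℕ) + m + 1) / al Q d := by
      rcases lt_trichotomy m ((j : ℕ) + 1) with h | h | h
      · have hi : (j : ℕ) - m < ℓ := by omega
        have := hj ⟨(j : ℕ) - m, hi⟩ (by rw [Fin.lt_def]; show (j : ℕ) - m < (j : ℕ); omega)
        have e : d - 1 - 1 - (j : ℕ) + m + 1 = d - 1 - ((j : ℕ) - m) := by omega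
        rw [e]; exact this
      · have e : d - 1 - 1 - (j : ℕ) + m + 1 = d := by omega
        rw [e, div_self hPd, div_self hQd]
      · rw [al_eq_zero_of_lt P (by rw [hP]; omega), al_eq_zero_of_lt Q (by rw [hQ]; omega),
          zero_div, zero_div]
    have e1 : ∀ (R : ℚ[X]), al R (d - 1 - 1 - (j : ℕ) + m + 1) * kap a m / (a * al R d) =
        (al R (d - 1 - 1 - (j : ℕ) + m + 1) / al R d) * (kap a m / a) := by
      intro R; rw [div_mul_div_comm, mul_comm a (al R d)]
    rw [e1 P, e1 Q, key, sub_self]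
  · intro h; exact absurd (Finset.mem_range.mpr (by omega)) h

end Groth.Agent.H9.LexDiff
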