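import Mathlib
import Groth.Agent.Lib.Helper2.Lie3G
set_option autoImplicit false
set_option linter.unusedSectionVars false
set_option linter.unusedVariables false

namespace Groth.Agent.H9.Lie3Reg

open Polynomial Groth.Agent.H2.Lie3

universe u

section General
variable {S : Type*} [CommRing S]

/-- `r` is a non-zero-divisor modulo `I`. -/
def NZ (I : Ideal S) (r : S) : Prop := ∀ x, r * x ∈ I → x ∈ I

theorem NZ.neg {I : Ideal S} {r : S} (h : NZ I r) : NZ I (-r) := by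
  intro x hx
  apply h
  have : r * x = -((-r) * x) := by ring
  rw [this]; exact I.neg_mem hx

theorem NZ.congr_ideal {I J : Ideal S} {r : S} (h : NZ I r) (hIJ : I = J) : NZ J r := hIJ ▸ h

theorem NZ.mapC {I : Ideal S} {r : S} (h : NZ I r) :
    NZ (I.map (C : S →+* S[X])) (C r) := by
  intro F hF
  rw [Ideal.mem_map_C_iff] at hF ⊢
  intro n
  have := hF n
  rw [coeff_C_mul] at this
  exact h _ this

theorem NZ.lin {I : Ideal S} {L : S} (p : S) (h : NZ I L) :
    NZ (I.map (C : S →+* S[X])) (C L * X - C p) := by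
  intro F hF
  rw [Ideal.mem_map_C_iff] at hF ⊢
  have key : ∀ n, F.coeff (n+1) ∈ I → F.coeff n ∈ I := by
    intro n hn
    have h1 := hF (n+1)
    have h2 : ((C L * X - C p) * F).coeff (n+1) = L * F.coeff n - p * F.coeff (n+1) := by
      rw [sub_mul, coeff_sub, mul_assoc, coeff_C_mul, coeff_C_mul, coeff_X_mul]
    rw [h2] at h1
    apply h
    have : L * F.coeff n = (L * F.coeff n - p * F.coeff (n+1)) + p * F.coeff (n+1) := by ring
    rw [this]
    exact I.add_mem h1 (I.mul_mem_left _ hn)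
  have main : ∀ k n, n + k = F.natDegree + 1 → F.coeff n ∈ I := by
    intro k
    induction k with
    | zero =>
      intro n hn
      rw [coeff_eq_zero_of_natDegree_lt (by omega)]; exact I.zero_mem
    | succ k ih =>
      intro n hn
      exact key n (ih (n+1) (by omega))
  intro n
  by_cases hn : n ≤ F.natDegree + 1
  · exact main (F.natDegree + 1 - n) n (by omega)
  · rw [coeff_eq_zero_of_natDegree_lt (by omega)]; exact I.zero_mem

theorem NZ.swap {I : Ideal S} {u v : S} (hu : NZ I u) (hv : NZ (I ⊔ Ideal.span {u}) v) :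
    NZ (I ⊔ Ideal.span {v}) u := by
  intro F hF
  rw [Submodule.mem_sup] at hF
  obtain ⟨i, hi, w, hw, hsum⟩ := hF
  rw [Ideal.mem_span_singleton'] at hw
  obtain ⟨H, rfl⟩ := hw
  have h1 : v * H ∈ I ⊔ Ideal.span {u} := by
    have : v * H = F * u - i := by rw [mul_comm F u, ← hsum]; ring
    rw [this]
    exact Ideal.sub_mem _ (Ideal.mem_sup_right (Ideal.mem_span_singleton'.2 ⟨F, rfl⟩))
      (Ideal.mem_sup_left hi)
  have h2 := hv H h1
  rw [Submodule.mem_sup] at h2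
  obtain ⟨i', hi', w', hw', hsum'⟩ := h2
  rw [Ideal.mem_span_singleton'] at hw'
  obtain ⟨H', rfl⟩ := hw'
  have h3 : u * (F - v * H') ∈ I := by
    have : u * (F - v * H') = i + v * i' := by
      linear_combination (-1 : S) * hsum - v * hsum'
    rw [this]
    exact I.add_mem hi (I.mul_mem_left _ hi')
  have h4 := hu _ h3
  have : F = (F - v * H') + H' * v := by ring
  rw [this]
  exact Ideal.add_mem _ (Ideal.mem_sup_left h4)
    (Ideal.mem_sup_right (Ideal.mem_span_singleton'.2 ⟨H', rfl⟩))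

theorem NZ.of_equiv {T : Type*} [CommRing T] (e : S ≃+* T) {I : Ideal S} {r : S}
    (h : NZ (I.map (e : S →+* T)) (e r)) : NZ I r := by
  intro x hx
  have h1 : e r * e x ∈ I.map (e : S →+* T) := by
    rw [← map_mul]; exact Ideal.mem_map_of_mem _ hx
  have h2 := h _ h1
  rw [Ideal.mem_map_iff_of_surjective (e : S →+* T) e.surjective] at h2
  obtain ⟨y, hy, hyx⟩ := h2
  have : y = x := e.injective hyx
  rwa [← this]

theorem mapC_span1 (a : S) :
    (Ideal.span {a}).map (C : S →+* S[X]) = Ideal.span {C a} := by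
  rw [Ideal.map_span, Set.image_singleton]

theorem mapC_span2 (a b : S) :
    (Ideal.span {a} ⊔ Ideal.span {b}).map (C : S →+* S[X]) =
      Ideal.span {C a} ⊔ Ideal.span {C b} := by
  rw [Ideal.map_sup, mapC_span1, mapC_span1]

theorem isRegular_three (a b c : S) (h1 : NZ ⊥ a) (h2 : NZ (Ideal.span {a}) b)
    (h3 : NZ (Ideal.span {a} ⊔ Ideal.span {b}) c)
    (hne : Ideal.span {a} ⊔ Ideal.span {b} ⊔ Ideal.span {c} ≠ ⊤) :
    RingTheory.Sequence.IsRegular S [a, b, c] := by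
  refine ⟨⟨fun i hi => ?_⟩, ?_⟩
  · rw [isSMulRegular_quotient_iff_mem_of_smul_mem]
    simp only [List.length_cons, List.length_nil] at hi
    have hi' : i = 0 ∨ i = 1 ∨ i = 2 := by omega
    rcases hi' with rfl | rfl | rfl
    · intro x hx
      change a • x ∈ (Ideal.ofList ([] : List S) • ⊤ : Submodule S S) at hx
      change x ∈ (Ideal.ofList ([] : List S) • ⊤ : Submodule S S)
      rw [Ideal.ofList_nil, smul_eq_mul, Ideal.mul_top] at hx ⊢
      exact h1 x hx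
    · intro x hx
      change b • x ∈ (Ideal.ofList [a] • ⊤ : Submodule S S) at hx
      change x ∈ (Ideal.ofList [a] • ⊤ : Submodule S S)
      rw [Ideal.ofList_singleton, smul_eq_mul, Ideal.mul_top] at hx ⊢
      exact h2 x hx
    · intro x hx
      change c • x ∈ (Ideal.ofList [a, b] • ⊤ : Submodule S S) at hx
      change x ∈ (Ideal.ofList [a, b] • ⊤ : Submodule S S)
      rw [Ideal.ofList_cons, Ideal.ofList_singleton, smul_eq_mul, Ideal.mul_top] at hx ⊢
      exact h3 x hx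
  · intro h
    apply hne
    rw [smul_eq_mul, Ideal.mul_top, Ideal.ofList_cons, Ideal.ofList_cons,
      Ideal.ofList_singleton] at h
    rw [sup_assoc, ← h]

end General

section Lie3
variable {A : Type u} [CommRing A]

theorem X_NZ (j : Fin 6) (p : MvPolynomial (Fin 6) A)
    (hp : (MvPolynomial.X j : MvPolynomial (Fin 6) A) * p = 0) : p = 0 := by
  refine MvPolynomial.ext _ _ (fun m => ?_)
  have := congrArg (MvPolynomial.coeff (Finsupp.single j 1 + m)) hp
  rwa [MvPolynomial.coeff_X_mul] at this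

theorem xv_NZ_bot (j : Fin 6) : NZ (⊥ : Ideal (P6 A)) (xv j) := by
  intro p hp
  rw [Ideal.mem_bot] at hp ⊢
  exact X_NZ j p hp

theorem xv_NZ (s : Set (Fin 6)) [DecidablePred (· ∈ s)] (j : Fin 6) (hj : j ∉ s) :
    NZ (Ideal.span (xv (A := A) '' s)) (xv j) := by
  intro p hp
  rw [← ker_kill, RingHom.mem_ker] at hp ⊢
  rw [map_mul, kill_xv_not_mem s hj] at hp
  have := xv_NZ_bot j _ (by rw [Ideal.mem_bot]; exact hp)
  exact (Ideal.mem_bot).1 this

theorem v1 : NZ (⊥ : Ideal (P6 A)) x1 := xv_NZ_bot 0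
theorem v2 : NZ (⊥ : Ideal (P6 A)) x2 := xv_NZ_bot 1
theorem v3 : NZ (⊥ : Ideal (P6 A)) x3 := xv_NZ_bot 2

theorem v21 : NZ (Ideal.span {(x1 : P6 A)}) x2 := by
  have := xv_NZ (A := A) s0 1 (by simp [s0])
  rwa [image_s0] at this

theorem v23 : NZ (Ideal.span {(x3 : P6 A)}) x2 := by
  have := xv_NZ (A := A) s2 1 (by simp [s2])
  rwa [image_s2] at this

theorem v13 : NZ (Ideal.span {(x3 : P6 A)}) x1 := by
  have := xv_NZ (A := A) s2 0 (by simp [s2])
  rwa [image_s2] at this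

theorem v2_31 : NZ (Ideal.span {(x3 : P6 A)} ⊔ Ideal.span {(x1 : P6 A)}) x2 := by
  have := xv_NZ (A := A) s02 1 (by simp [s02])
  rw [image_s02, Ideal.span_insert, sup_comm] at this
  exact this

theorem v3_12 : NZ (Ideal.span {(x1 : P6 A)} ⊔ Ideal.span {(x2 : P6 A)}) x3 := by
  have := xv_NZ (A := A) s01 2 (by simp [s01])
  rw [image_s01, Ideal.span_insert] at this
  exact this

/-- `G1` is a non-zero-divisor modulo `(C x)` whenever `x2` is one modulo `(x)`. -/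
theorem G1_NZ_bot : NZ (⊥ : Ideal (R1 A)) G1 := by
  have := NZ.lin (I := (⊥ : Ideal (P6 A))) q1 v2
  rwa [Ideal.map_bot] at this

theorem G1_NZ_x1 : NZ (Ideal.span {(C x1 : R1 A)}) G1 := by
  have := NZ.lin (I := Ideal.span {(x1 : P6 A)}) q1 v21
  rwa [mapC_span1] at this

theorem G1_NZ_x3 : NZ (Ideal.span {(C x3 : R1 A)}) G1 := by
  have := NZ.lin (I := Ideal.span {(x3 : P6 A)}) q1 v23
  rwa [mapC_span1] at this

theorem G1_NZ_x3x1 : NZ (Ideal.span {(C x3 : R1 A)} ⊔ Ideal.span {(C x1 : R1 A)}) G1 := by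
  have := NZ.lin (I := Ideal.span {(x3 : P6 A)} ⊔ Ideal.span {(x1 : P6 A)}) q1 v2_31
  rwa [mapC_span2] at this

theorem Cx1_NZ_bot : NZ (⊥ : Ideal (R1 A)) (C x1) := by
  have := NZ.mapC (v1 (A := A))
  rwa [Ideal.map_bot] at this

theorem Cx3_NZ_bot : NZ (⊥ : Ideal (R1 A)) (C x3) := by
  have := NZ.mapC (v3 (A := A))
  rwa [Ideal.map_bot] at this

theorem Cx1_NZ_G1 : NZ (Ideal.span {(G1 : R1 A)}) (C x1) := by
  have := NZ.swap (I := (⊥ : Ideal (R1 A))) (u := C x1) (v := G1) Cx1_NZ_bot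
    (by rw [bot_sup_eq]; exact G1_NZ_x1)
  rwa [bot_sup_eq] at this

theorem Cx3_NZ_G1 : NZ (Ideal.span {(G1 : R1 A)}) (C x3) := by
  have := NZ.swap (I := (⊥ : Ideal (R1 A))) (u := C x3) (v := G1) Cx3_NZ_bot
    (by rw [bot_sup_eq]; exact G1_NZ_x3)
  rwa [bot_sup_eq] at this

theorem Cx1_NZ_x3 : NZ (Ideal.span {(C x3 : R1 A)}) (C x1) := by
  have := NZ.mapC (v13 (A := A))
  rwa [mapC_span1] at this

theorem Cx1_NZ_x3G1 : NZ (Ideal.span {(C x3 : R1 A)} ⊔ Ideal.span {(G1 : R1 A)}) (C x1) :=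
  NZ.swap (I := Ideal.span {(C x3 : R1 A)}) (u := C x1) (v := G1) Cx1_NZ_x3 G1_NZ_x3x1

/-! level 2 -/

theorem G2_NZ_G1 : NZ (Ideal.span {(C G1 : R2 A)}) G2 := by
  have := NZ.lin (I := Ideal.span {(G1 : R1 A)}) (C q2) Cx1_NZ_G1
  rwa [mapC_span1] at this

theorem G2_NZ_G1x3 : NZ (Ideal.span {(C G1 : R2 A)} ⊔ Ideal.span {(C (C x3) : R2 A)}) G2 := by
  have := NZ.lin (I := Ideal.span {(C x3 : R1 A)} ⊔ Ideal.span {(G1 : R1 A)}) (C q2) Cx1_NZ_x3G1
  rw [mapC_span2, sup_comm] at this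
  exact this

theorem CCx3_NZ_G1 : NZ (Ideal.span {(C G1 : R2 A)}) (C (C x3)) := by
  have := NZ.mapC (Cx3_NZ_G1 (A := A))
  rwa [mapC_span1] at this

theorem CCx3_NZ_G1G2 : NZ (Ideal.span {(C G1 : R2 A)} ⊔ Ideal.span {(G2 : R2 A)}) (C (C x3)) :=
  NZ.swap (I := Ideal.span {(C G1 : R2 A)}) (u := C (C x3)) (v := G2) CCx3_NZ_G1 G2_NZ_G1x3

/-! level 3 -/

theorem s1_NZ : NZ (⊥ : Ideal (R3 A)) (-(C (C G1))) := by
  have h1 := NZ.mapC (G1_NZ_bot (A := A))
  rw [Ideal.map_bot] at h1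
  have h2 := NZ.mapC h1
  rw [Ideal.map_bot] at h2
  exact h2.neg

theorem s2_NZ : NZ (Ideal.span {(-(C (C G1)) : R3 A)}) (-(C G2)) := by
  have h1 := NZ.mapC (G2_NZ_G1 (A := A))
  rw [mapC_span1] at h1
  have e1 : Ideal.span {(-(C (C G1)) : R3 A)} = Ideal.span {(C (C G1) : R3 A)} :=
    Ideal.span_singleton_neg (C (C G1) : R3 A)
  rw [e1]
  exact h1.neg

theorem s3_NZ : NZ (Ideal.span {(-(C (C G1)) : R3 A)} ⊔ Ideal.span {(-(C G2) : R3 A)}) G3 := by
  have h1 := NZ.lin (I := Ideal.span {(C G1 : R2 A)} ⊔ Ideal.span {(G2 : R2 A)}) (C (C q3))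
    (CCx3_NZ_G1G2 (A := A))
  rw [mapC_span2] at h1
  have e1 : Ideal.span {(-(C (C G1)) : R3 A)} = Ideal.span {(C (C G1) : R3 A)} :=
    Ideal.span_singleton_neg (C (C G1) : R3 A)
  have e2 : Ideal.span {(-(C G2) : R3 A)} = Ideal.span {(C G2 : R3 A)} :=
    Ideal.span_singleton_neg (C G2 : R3 A)
  rw [e1, e2]
  exact h1

/-! the linear forms -/

theorem NZ.inc {I : Ideal (P6 A)} {r : P6 A} (h : NZ I r) :
    NZ (((I.map C).map C).map C : Ideal (R3 A)) (C (C (C r))) := h.mapC.mapC.mapC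

theorem l1_NZ : NZ (⊥ : Ideal (R3 A)) (C (C (C x1))) := by
  have := NZ.inc (v1 (A := A))
  rwa [Ideal.map_bot, Ideal.map_bot, Ideal.map_bot] at this

theorem l2_NZ : NZ (Ideal.span {(C (C (C x1)) : R3 A)}) (C (C (C x2))) := by
  have := NZ.inc (v21 (A := A))
  rwa [mapC_span1, mapC_span1, mapC_span1] at this

theorem l3_NZ : NZ (Ideal.span {(C (C (C x1)) : R3 A)} ⊔ Ideal.span {(C (C (C x2)) : R3 A)})
    (C (C (C x3))) := by
  have := NZ.inc (v3_12 (A := A))
  rwa [mapC_span2, mapC_span2, mapC_span2] at this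

/-! transport to `D A` -/

theorem map_span1 (a : Lie3Mod.D A) :
    (Ideal.span {a}).map ((ThetaEquiv A : Lie3Mod.D A ≃+* R3 A) : Lie3Mod.D A →+* R3 A) =
      Ideal.span {Theta A a} := by
  rw [Ideal.map_span, Set.image_singleton]
  rfl

theorem NZ_D_of {I : Ideal (Lie3Mod.D A)} {r : Lie3Mod.D A} {J : Ideal (R3 A)}
    (hJ : I.map ((ThetaEquiv A : Lie3Mod.D A ≃+* R3 A) : Lie3Mod.D A →+* R3 A) = J)
    (h : NZ J (Theta A r)) : NZ I r := by
  apply NZ.of_equiv (T := R3 A) (ThetaEquiv A)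
  rw [hJ]
  exact h

theorem ne_top_of_eval (a b c : Lie3Mod.D A) [Nontrivial A]
    (ha : MvPolynomial.eval (0 : Fin 9 → A) a = 0) (hb : MvPolynomial.eval (0 : Fin 9 → A) b = 0)
    (hc : MvPolynomial.eval (0 : Fin 9 → A) c = 0) :
    Ideal.span {a} ⊔ Ideal.span {b} ⊔ Ideal.span {c} ≠ ⊤ := by
  intro h
  have hle : Ideal.span {a} ⊔ Ideal.span {b} ⊔ Ideal.span {c} ≤
      RingHom.ker (MvPolynomial.eval (0 : Fin 9 → A)) := by
    refine sup_le (sup_le ?_ ?_) ?_ <;> rw [Ideal.span_le] <;> intro x hx <;>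
      rw [Set.mem_singleton_iff] at hx <;> subst hx <;> assumption
  rw [h, top_le_iff] at hle
  exact RingHom.ker_ne_top _ hle

theorem result' (A : Type u) [CommRing A] [Nontrivial A] :
    RingTheory.Sequence.IsRegular (Lie3Mod.D A) [Lie3Mod.L1 A, Lie3Mod.L2 A, Lie3Mod.L3 A] ∧
      RingTheory.Sequence.IsRegular (Lie3Mod.D A) [Lie3Mod.Q1 A, Lie3Mod.Q2 A, Lie3Mod.Q3 A] := by
  constructor
  · apply isRegular_three
    · apply NZ_D_of (J := ⊥) (Ideal.map_bot)
      rw [Theta_L1]; exact l1_NZ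
    · apply NZ_D_of (map_span1 _)
      rw [Theta_L1, Theta_L2]; exact l2_NZ
    · apply NZ_D_of (J := Ideal.span {Theta A (Lie3Mod.L1 A)} ⊔ Ideal.span {Theta A (Lie3Mod.L2 A)})
        (by rw [Ideal.map_sup, map_span1, map_span1])
      rw [Theta_L1, Theta_L2, Theta_L3]; exact l3_NZ
    · apply ne_top_of_eval <;> simp [Lie3Mod.L1, Lie3Mod.L2, Lie3Mod.L3]
  · apply isRegular_three
    · apply NZ_D_of (J := ⊥) (Ideal.map_bot)
      rw [Theta_Q1]; exact s1_NZ
    · apply NZ_D_of (map_span1 _)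
      rw [Theta_Q1, Theta_Q2]; exact s2_NZ
    · apply NZ_D_of (J := Ideal.span {Theta A (Lie3Mod.Q1 A)} ⊔ Ideal.span {Theta A (Lie3Mod.Q2 A)})
        (by rw [Ideal.map_sup, map_span1, map_span1])
      rw [Theta_Q1, Theta_Q2, Theta_Q3]; exact s3_NZ
    · apply ne_top_of_eval <;> simp [Lie3Mod.Q1, Lie3Mod.Q2, Lie3Mod.Q3]

end Lie3

end Groth.Agent.H9.Lie3Reg
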