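import Mathlib

/-!
# Projections of a cofiltered limit of schemes with affine flat transition maps are flat
-/

open CategoryTheory CategoryTheory.Limits AlgebraicGeometry Opposite

universe u

namespace Groth.Agent.H9.LimFlat

/-- Flatness of a ring map `φ : A → B` where `B` is a "directed union of images" of flat
`A`-algebras `Ak k`. -/
theorem flat_of_stages {A B : Type u} [CommRing A] [CommRing B] (φ : A →+* B)
    {ι : Type u} (Ak : ι → Type u) [∀ k, CommRing (Ak k)]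
    (α : ∀ k, A →+* Ak k) (β : ∀ k, Ak k →+* B)
    (hαβ : ∀ k a, β k (α k a) = φ a)
    (hflat : ∀ k, (α k).Flat)
    (hlift : ∀ (l : ℕ) (x : Fin l → B), ∃ (k : ι) (x' : Fin l → Ak k), ∀ i, β k (x' i) = x i)
    (hker : ∀ (k : ι) (r : Ak k), β k r = 0 → ∃ (k' : ι) (τ : Ak k →+* Ak k'),
        (∀ a, τ (α k a) = α k' a) ∧ (∀ s, β k' (τ s) = β k s) ∧ τ r = 0) :
    φ.Flat := by
  letI := φ.toAlgebra
  show Module.Flat A B
  apply Module.Flat.of_forall_isTrivialRelation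
  intro l f x h
  obtain ⟨k, x', hx'⟩ := hlift l x
  have h0 : β k (∑ i, α k (f i) * x' i) = 0 := by
    rw [map_sum]
    simp only [map_mul, hαβ, hx']
    simpa [Algebra.smul_def, RingHom.algebraMap_toAlgebra] using h
  obtain ⟨k', τ, h1, h2, h3⟩ := hker k _ h0
  letI := (α k').toAlgebra
  haveI : Module.Flat A (Ak k') := hflat k'
  have h4 : ∑ i, f i • τ (x' i) = 0 := by
    simp only [Algebra.smul_def, RingHom.algebraMap_toAlgebra]
    rw [← h3, map_sum]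
    simp only [map_mul, h1]
  obtain ⟨κ, a, y, hy1, hy2⟩ := Module.Flat.isTrivialRelation_of_sum_smul_eq_zero
    (R := A) (M := Ak k') (f := f) (x := fun i => τ (x' i)) h4
  refine ⟨κ, a, fun j => β k' (y j), fun i => ?_, hy2⟩
  have hy1' : τ (x' i) = ∑ j, a i j • y j := hy1 i
  rw [← hx' i, ← h2 (x' i), hy1', map_sum]
  simp only [Algebra.smul_def, RingHom.algebraMap_toAlgebra, map_mul, hαβ]

section

variable {I : Type u} [SmallCategory I] (D : I ⥤ Scheme.{u}) (c : Cone D)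

lemma appLE_comp_eq {X Y Z : Scheme.{u}} (f : X ⟶ Y) (g : Y ⟶ Z) (fg : X ⟶ Z) (w : f ≫ g = fg)
    (U : Z.Opens) (V : Y.Opens) (W : X.Opens) (e₁ : V ≤ g ⁻¹ᵁ U) (e₂ : W ≤ f ⁻¹ᵁ V)
    (e₃ : W ≤ fg ⁻¹ᵁ U) :
    g.appLE U V e₁ ≫ f.appLE V W e₂ = fg.appLE U W e₃ := by
  subst w
  rw [Scheme.Hom.appLE_comp_appLE]

lemma pre_eq {j k : I} (g : k ⟶ j) (W : (D.obj j).Opens) :
    c.π.app k ⁻¹ᵁ (D.map g ⁻¹ᵁ W) = c.π.app j ⁻¹ᵁ W := by
  rw [← Scheme.Hom.comp_preimage, c.w]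

lemma pre_le {j k m : I} (g : k ⟶ j) (h : m ⟶ k) (g' : m ⟶ j) (w : h ≫ g = g')
    (W : (D.obj j).Opens) : D.map g' ⁻¹ᵁ W ≤ D.map h ⁻¹ᵁ (D.map g ⁻¹ᵁ W) := by
  rw [← Scheme.Hom.comp_preimage, ← D.map_comp, w]

/-- Pullback of sections over the preimage of `W` in `D.obj k` to the limit. -/
noncomputable def beta {j k : I} (g : k ⟶ j) (W : (D.obj j).Opens) :
    Γ(D.obj k, D.map g ⁻¹ᵁ W) ⟶ Γ(c.pt, c.π.app j ⁻¹ᵁ W) :=
  (c.π.app k).appLE _ _ (pre_eq D c g W).ge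

/-- Transition maps on sections over the preimages of `W`. -/
noncomputable def tau {j k m : I} (g : k ⟶ j) (h : m ⟶ k) (g' : m ⟶ j) (w : h ≫ g = g')
    (W : (D.obj j).Opens) : Γ(D.obj k, D.map g ⁻¹ᵁ W) ⟶ Γ(D.obj m, D.map g' ⁻¹ᵁ W) :=
  (D.map h).appLE _ _ (pre_le D g h g' w W)

lemma alpha_beta {j k : I} (g : k ⟶ j) (W : (D.obj j).Opens) :
    (D.map g).app W ≫ beta D c g W = (c.π.app j).app W := by
  rw [(D.map g).app_eq_appLE, (c.π.app j).app_eq_appLE]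
  exact appLE_comp_eq _ _ _ (c.w g) _ _ _ _ _ _

lemma alpha_tau {j k m : I} (g : k ⟶ j) (h : m ⟶ k) (g' : m ⟶ j) (w : h ≫ g = g')
    (W : (D.obj j).Opens) :
    (D.map g).app W ≫ tau D g h g' w W = (D.map g').app W := by
  rw [(D.map g).app_eq_appLE, (D.map g').app_eq_appLE]
  exact appLE_comp_eq _ _ _ (by rw [← D.map_comp, w]) _ _ _ _ _ _

lemma tau_beta {j k m : I} (g : k ⟶ j) (h : m ⟶ k) (g' : m ⟶ j) (w : h ≫ g = g')
    (W : (D.obj j).Opens) :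
    tau D g h g' w W ≫ beta D c g' W = beta D c g W :=
  appLE_comp_eq _ _ _ (c.w h) _ _ _ _ _ _

lemma app_eq_beta_map {j k : I} (g : k ⟶ j) (W : (D.obj j).Opens) :
    (c.π.app k).app (D.map g ⁻¹ᵁ W) =
      beta D c g W ≫ c.pt.presheaf.map (eqToHom (pre_eq D c g W)).op := by
  have := Scheme.Hom.appLE_map (c.π.app k) (U := D.map g ⁻¹ᵁ W) (pre_eq D c g W).ge
    (eqToHom (pre_eq D c g W)).op
  rw [Scheme.Hom.app_eq_appLE]
  exact this.symm

lemma tau_eq_app_map {j k m : I} (g : k ⟶ j) (h : m ⟶ k) (g' : m ⟶ j) (w : h ≫ g = g')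
    (W : (D.obj j).Opens) :
    tau D g h g' w W = (D.map h).app (D.map g ⁻¹ᵁ W) ≫
      (D.obj m).presheaf.map (homOfLE (pre_le D g h g' w W)).op := by
  rw [Scheme.Hom.app_eq_appLE, Scheme.Hom.appLE_map]
  rfl

variable [IsCofiltered I] [∀ {i j} (f : i ⟶ j), IsAffineHom (D.map f)]

set_option backward.defeqAttrib.useBackward true in
set_option backward.isDefEq.respectTransparency false in
open Scheme.Opens in
lemma exists_beta_eq (hc : IsLimit c)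
    {j : I} {W : (D.obj j).Opens} (hW : IsAffineOpen W) (r : Γ(c.pt, c.π.app j ⁻¹ᵁ W)) :
    ∃ (k : I) (g : k ⟶ j) (s : Γ(D.obj k, D.map g ⁻¹ᵁ W)), (beta D c g W).hom s = r := by
  have (j' : _) : IsAffine ((opensDiagram D j W).op.obj j').unop := hW.preimage _
  have (j' : _) : IsAffine ((opensDiagram D j W).obj j') := hW.preimage _
  obtain ⟨⟨k⟩, s, hs⟩ := (Types.jointly_surjective_of_isColimit (isColimitOfPreserves
    (Scheme.Γ ⋙ forget _) (isLimitOpensCone D c hc j W).op) ((c.π.app j ⁻¹ᵁ W).topIso.inv r))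
  obtain ⟨s, rfl⟩ := (D.map k.hom ⁻¹ᵁ W).topIso.symm.commRingCatIsoToRingEquiv.surjective s
  have h : c.π.app k.left ⁻¹ᵁ D.map k.hom ⁻¹ᵁ W = c.π.app j ⁻¹ᵁ W := congr($(c.w k.hom) ⁻¹ᵁ W)
  have : r = (c.π.app k.left).appLE (D.map k.hom ⁻¹ᵁ W) (c.π.app j ⁻¹ᵁ W) h.ge s := by
    convert!
      show r = ((topIso _).inv ≫ ((opensCone D c j W).π.app k).appTop ≫ (topIso _).hom) s from
        (c.π.app j ⁻¹ᵁ W).topIso.commRingCatIsoToRingEquiv.symm_apply_eq.mp hs.symm using 3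
    simp [Scheme.Hom.app_eq_appLE, Scheme.Hom.resLE_appLE]
  exact ⟨k.left, k.hom, s, this.symm⟩

lemma exists_beta_eq_fin (hc : IsLimit c)
    {j : I} {W : (D.obj j).Opens} (hW : IsAffineOpen W) :
    ∀ (l : ℕ) (x : Fin l → Γ(c.pt, c.π.app j ⁻¹ᵁ W)),
      ∃ (k : I) (g : k ⟶ j) (x' : Fin l → Γ(D.obj k, D.map g ⁻¹ᵁ W)),
        ∀ i, (beta D c g W).hom (x' i) = x i := by
  intro l
  induction l with
  | zero => intro x; exact ⟨j, 𝟙 j, fun i => i.elim0, fun i => i.elim0⟩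
  | succ l ih =>
    intro x
    obtain ⟨k₁, g₁, x₁, hx₁⟩ := ih (fun i => x i.succ)
    obtain ⟨k₂, g₂, s, hs⟩ := exists_beta_eq D c hc hW (x 0)
    obtain ⟨m, h₁, h₂, w⟩ := IsCofiltered.cospan g₁ g₂
    refine ⟨m, h₁ ≫ g₁, Fin.cons ((tau D g₂ h₂ (h₁ ≫ g₁) w.symm W).hom s)
      (fun i => (tau D g₁ h₁ (h₁ ≫ g₁) rfl W).hom (x₁ i)), ?_⟩
    intro i
    refine Fin.cases ?_ (fun i => ?_) i
    · rw [Fin.cons_zero, ← hs]
      exact congrArg (fun φ => φ.hom s) (tau_beta D c g₂ h₂ (h₁ ≫ g₁) w.symm W)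
    · rw [Fin.cons_succ, ← hx₁ i]
      exact congrArg (fun φ => φ.hom (x₁ i)) (tau_beta D c g₁ h₁ (h₁ ≫ g₁) rfl W)

lemma exists_tau_eq_zero (hc : IsLimit c)
    {j : I} {W : (D.obj j).Opens} (hW : IsAffineOpen W) {k : I} (g : k ⟶ j)
    (r : Γ(D.obj k, D.map g ⁻¹ᵁ W)) (hr : (beta D c g W).hom r = 0) :
    ∃ (m : I) (h : m ⟶ k), (tau D g h (h ≫ g) rfl W).hom r = 0 := by
  have hcpt : IsCompact (X := D.obj k) (D.map g ⁻¹ᵁ W) := (hW.preimage (D.map g)).isCompact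
  have h0 : (c.π.app k).app (D.map g ⁻¹ᵁ W) r = 0 := by
    rw [app_eq_beta_map D c g W]
    show (c.pt.presheaf.map (eqToHom (pre_eq D c g W)).op).hom ((beta D c g W).hom r) = 0
    rw [hr, map_zero]
  obtain ⟨m, h, hm⟩ := exists_app_map_eq_zero_of_isLimit D c hc hcpt r h0
  refine ⟨m, h, ?_⟩
  rw [tau_eq_app_map D g h (h ≫ g) rfl W]
  show ((D.obj m).presheaf.map (homOfLE (pre_le D g h (h ≫ g) rfl W)).op).hom
    ((D.map h).app (D.map g ⁻¹ᵁ W) r) = 0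
  rw [hm, map_zero]

/-- On an affine open `W` of `D.obj j`, the pullback of sections to the limit is flat. -/
theorem flat_app [∀ {i j} (f : i ⟶ j), Flat (D.map f)] (hc : IsLimit c)
    {j : I} {W : (D.obj j).Opens} (hW : IsAffineOpen W) :
    ((c.π.app j).app W).hom.Flat := by
  refine flat_of_stages ((c.π.app j).app W).hom (ι := Σ k : I, (k ⟶ j))
    (fun p => Γ(D.obj p.1, D.map p.2 ⁻¹ᵁ W))
    (fun p => ((D.map p.2).app W).hom) (fun p => (beta D c p.2 W).hom) ?_ ?_ ?_ ?_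
  · rintro ⟨k, g⟩ a
    exact congrArg (fun φ => φ.hom a) (alpha_beta D c g W)
  · rintro ⟨k, g⟩
    show ((D.map g).app W).hom.Flat
    rw [Scheme.Hom.app_eq_appLE]
    exact HasRingHomProperty.appLE @Flat (D.map g) inferInstance ⟨W, hW⟩
      ⟨_, hW.preimage (D.map g)⟩ le_rfl
  · intro l x
    obtain ⟨k, g, x', hx'⟩ := exists_beta_eq_fin D c hc hW l x
    exact ⟨⟨k, g⟩, x', hx'⟩
  · rintro ⟨k, g⟩ r hr
    obtain ⟨m, h, hm⟩ := exists_tau_eq_zero D c hc hW g r hr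
    exact ⟨⟨m, h ≫ g⟩, (tau D g h (h ≫ g) rfl W).hom,
      fun a => congrArg (fun φ => φ.hom a) (alpha_tau D g h (h ≫ g) rfl W),
      fun s => congrArg (fun φ => φ.hom s) (tau_beta D c g h (h ≫ g) rfl W), hm⟩

/-- The projections of a cofiltered limit of schemes with affine flat transition maps are flat. -/
theorem flat_π_app [∀ {i j} (f : i ⟶ j), Flat (D.map f)] (hc : IsLimit c) (j : I) :
    Flat (c.π.app j) := by
  have hQ : RingHom.StableUnderCompositionWithLocalizationAwaySource @RingHom.Flat :=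
    fun R S T _ _ _ _ r _ f hf =>
      RingHom.Flat.comp (RingHom.Flat.holdsForLocalizationAway S r) hf
  rw [HasRingHomProperty.iff_exists_appLE (P := @Flat) hQ]
  intro x
  obtain ⟨_, ⟨W, hW, rfl⟩, hxW, -⟩ := (D.obj j).isBasis_affineOpens.exists_subset_of_mem_open
    (Set.mem_univ ((c.π.app j) x)) isOpen_univ
  have := isAffineHom_π_app D c hc j
  refine ⟨⟨W, hW⟩, ⟨c.π.app j ⁻¹ᵁ W, hW.preimage _⟩, hxW, le_rfl, ?_⟩
  rw [← Scheme.Hom.app_eq_appLE]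
  exact flat_app D c hc hW

end

end Groth.Agent.H9.LimFlat
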