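import Mathlib
import Groth.Prelude.Def_CInt
import Groth.Agent.Lib.Helper2.SchDense
import Groth.Agent.Lib.Helper2.SchDenseFlat
import Groth.Agent.Lib.Helper9.Misc.LimFlat

/-!
# Schematic density of an open in a cofiltered limit of Noetherian schemes with affine flat
transition maps
-/

open CategoryTheory CategoryTheory.Limits AlgebraicGeometry Opposite TopologicalSpace
open scoped TensorProduct

universe u

namespace Groth.Agent.H9.LimDense

open Groth.Agent.H2.SchDense Groth.Agent.H9.LimFlat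

/-- Flat base change of an annihilator condition: if `B` is flat over `A`, every `a` killed by all
`t i` maps to zero in `B`, then no nonzero element of `B` is killed by all the `t i`. -/
lemma flat_ann {A B : Type u} [CommRing A] [CommRing B] [Algebra A B] [Module.Flat A B]
    {ι : Type*} [Fintype ι] [DecidableEq ι] (t : ι → A)
    (hK : ∀ a : A, (∀ i, t i * a = 0) → algebraMap A B a = 0) :
    ∀ b : B, (∀ i, algebraMap A B (t i) * b = 0) → b = 0 := by
  intro b hb
  let ψ : A →ₗ[A] (ι → A) := LinearMap.pi fun i => LinearMap.mulLeft A (t i)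
  have hex : Function.Exact ((LinearMap.ker ψ).subtype.lTensor B) (ψ.lTensor B) :=
    Module.Flat.lTensor_exact B (LinearMap.exact_subtype_ker_map ψ)
  have h1 : (ψ.lTensor B) (b ⊗ₜ[A] (1 : A)) = 0 := by
    apply (TensorProduct.piScalarRight A A B ι).injective
    rw [map_zero, LinearMap.lTensor_tmul, TensorProduct.piScalarRight_apply,
      TensorProduct.piScalarRightHom_tmul]
    funext i
    have : ψ 1 i = t i := by simp [ψ]
    rw [this, Algebra.smul_def, Pi.zero_apply]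
    exact hb i
  obtain ⟨z, hz⟩ := (hex _).mp h1
  have hzero : ((TensorProduct.rid A B).toLinearMap ∘ₗ
      ((LinearMap.ker ψ).subtype.lTensor B)) = 0 := by
    apply TensorProduct.ext'
    intro b' a
    have ha : ∀ i, t i * (a : A) = 0 := fun i => by
      have := congrFun (LinearMap.mem_ker.mp a.2) i
      simpa [ψ] using this
    simp only [LinearMap.coe_comp, LinearEquiv.coe_coe, Function.comp_apply,
      LinearMap.lTensor_tmul, Submodule.subtype_apply, TensorProduct.rid_tmul,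
      LinearMap.zero_apply]
    rw [Algebra.smul_def, hK a ha, zero_mul]
  have h3 := congrArg (TensorProduct.rid A B) hz
  rw [TensorProduct.rid_tmul, one_smul] at h3
  rw [← h3]
  exact LinearMap.congr_fun hzero z

/-- Key local statement: flat pullback of the "kernel of restriction to `U`". -/
theorem key {X X' : Scheme.{u}} (f : X' ⟶ X) [Flat f] [IsLocallyNoetherian X] (U : X.Opens)
    {W : X.Opens} (hW : IsAffineOpen W)
    (H : ∀ a : Γ(X, W), X.presheaf.map (homOfLE (inf_le_left : W ⊓ U ≤ W)).op a = 0 →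
      f.app W a = 0)
    {V : X'.Opens} (hV : IsAffineOpen V) (e : V ≤ f ⁻¹ᵁ W) (b : Γ(X', V))
    (hb : X'.presheaf.map (homOfLE (inf_le_left : V ⊓ f ⁻¹ᵁ U ≤ V)).op b = 0) : b = 0 := by
  classical
  have : IsNoetherianRing Γ(X, W) := IsLocallyNoetherian.component_noetherian ⟨W, hW⟩
  let K : Set Γ(X, W) := {t | X.basicOpen t ≤ U}
  obtain ⟨s', hs'K, hs'span⟩ := (Submodule.fg_span_iff_fg_span_finset_subset K).mp
    (IsNoetherian.noetherian (Ideal.span K))
  have hflat : RingHom.Flat (f.appLE W V e).hom :=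
    HasRingHomProperty.appLE @Flat f inferInstance ⟨W, hW⟩ ⟨V, hV⟩ e
  let := (f.appLE W V e).hom.toAlgebra
  have : Module.Flat Γ(X, W) Γ(X', V) := hflat
  have hK : ∀ a : Γ(X, W), (∀ i : s', (i : Γ(X, W)) * a = 0) →
      algebraMap Γ(X, W) Γ(X', V) a = 0 := by
    intro a ha
    have hann : ∀ t ∈ Ideal.span K, t * a = 0 := by
      intro t ht
      have ht' : t ∈ Submodule.span Γ(X, W) (s' : Set Γ(X, W)) := hs'span ▸ ht
      refine Submodule.span_induction (p := fun t _ => t * a = 0) ?_ ?_ ?_ ?_ ht'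
      · intro t ht; exact ha ⟨t, ht⟩
      · exact zero_mul a
      · intro x y _ _ hx hy; rw [add_mul, hx, hy, add_zero]
      · intro r x _ hx; rw [smul_eq_mul, mul_assoc, hx, mul_zero]
    have ha0 : X.presheaf.map (homOfLE (inf_le_left : W ⊓ U ≤ W)).op a = 0 := by
      apply eq_zero_of_locally
      rintro x ⟨hxW, hxU⟩
      obtain ⟨t, htU, hxt⟩ := hW.exists_basicOpen_le ⟨x, hxU⟩ hxW
      have htW : X.basicOpen t ≤ W := X.basicOpen_le t
      refine ⟨X.basicOpen t, le_inf htW htU, hxt, ?_⟩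
      have htc : t * a = 0 := hann t (Ideal.subset_span htU)
      have e' : X.presheaf.map (homOfLE (le_inf htW htU)).op
          (X.presheaf.map (homOfLE (inf_le_left : W ⊓ U ≤ W)).op a) =
          X.presheaf.map (homOfLE htW).op a := by
        rw [← ConcreteCategory.comp_apply, ← X.presheaf.map_comp]
        rfl
      rw [e']
      have hunit : IsUnit (X.presheaf.map (homOfLE htW).op t) :=
        RingedSpace.isUnit_res_basicOpen _ t
      have := congrArg (X.presheaf.map (homOfLE htW).op) htc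
      rw [map_mul, map_zero] at this
      exact (hunit.mul_right_eq_zero).mp this
    have h0 := H a ha0
    show (f.appLE W V e).hom a = 0
    show (X'.presheaf.map (homOfLE e).op).hom (f.app W a) = 0
    rw [h0, map_zero]
  have hinjB := flat_ann (A := Γ(X, W)) (B := Γ(X', V)) (fun i : s' => (i : Γ(X, W))) hK
  apply eq_zero_of_pow_mul_eq_zero _ hinjB
  intro i
  have hle : X'.basicOpen (f.appLE W V e i.1) ≤ V ⊓ f ⁻¹ᵁ U := by
    rw [Scheme.basicOpen_appLE]
    exact le_inf inf_le_left (inf_le_right.trans (f.preimage_mono (hs'K i.2)))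
  apply exists_pow_mul_eq_zero_of_res_basicOpen_eq_zero_of_isAffineOpen X' hV
  have e2 : X'.presheaf.map (homOfLE (X'.basicOpen_le (f.appLE W V e i.1))).op b =
      X'.presheaf.map (homOfLE hle).op
        (X'.presheaf.map (homOfLE (inf_le_left : V ⊓ f ⁻¹ᵁ U ≤ V)).op b) := by
    rw [← ConcreteCategory.comp_apply, ← X'.presheaf.map_comp]
    rfl
  change X'.presheaf.map (homOfLE (X'.basicOpen_le (f.appLE W V e i.1))).op b = 0
  rw [e2, hb, map_zero]

/-- In a cofiltered category, finitely many "eventually true" properties hold simultaneously. -/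
lemma exists_common {I : Type u} [SmallCategory I] [IsCofiltered I] {i₀ : I} {α : Type*}
    (P : ∀ (j : I), (j ⟶ i₀) → α → Prop)
    (hP : ∀ (j : I) (g : j ⟶ i₀) (a : α), P j g a → ∀ (k : I) (h : k ⟶ j), P k (h ≫ g) a)
    (s : Finset α) (hs : ∀ a ∈ s, ∃ (j : I) (g : j ⟶ i₀), P j g a) :
    ∃ (j : I) (g : j ⟶ i₀), ∀ a ∈ s, P j g a := by
  classical
  induction s using Finset.induction_on with
  | empty => exact ⟨i₀, 𝟙 i₀, fun a ha => absurd ha (Finset.notMem_empty a)⟩
  | insert a s ha ih =>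
    obtain ⟨j₁, g₁, h₁⟩ := ih (fun b hb => hs b (Finset.mem_insert_of_mem hb))
    obtain ⟨j₂, g₂, h₂⟩ := hs a (Finset.mem_insert_self a s)
    obtain ⟨k, p₁, p₂, w⟩ := IsCofiltered.cospan g₁ g₂
    refine ⟨k, p₁ ≫ g₁, fun b hb => ?_⟩
    rcases Finset.mem_insert.mp hb with rfl | hb
    · rw [w]; exact hP j₂ g₂ _ h₂ k p₂
    · exact hP j₁ g₁ b (h₁ b hb) k p₁

section

variable {I : Type u} [SmallCategory I] [IsCofiltered I] (D : I ⥤ Scheme.{u}) (c : Cone D)
  (hc : IsLimit c)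

lemma app_comp_eq_zero {i₀ j k : I} (g : j ⟶ i₀) (h : k ⟶ j) (W : (D.obj i₀).Opens)
    (a : Γ(D.obj i₀, W)) (ha : (D.map g).app W a = 0) : (D.map (h ≫ g)).app W a = 0 := by
  have := congrArg (fun φ => φ.hom a) (alpha_tau D g h (h ≫ g) rfl W)
  rw [← this]
  show (tau D g h (h ≫ g) rfl W).hom ((D.map g).app W a) = 0
  rw [ha, map_zero]

variable [∀ {i j} (f : i ⟶ j), IsAffineHom (D.map f)] [∀ {i j} (f : i ⟶ j), Flat (D.map f)]

include hc in
theorem backward [∀ i, IsLocallyNoetherian (D.obj i)] {i₀ i : I} (g : i ⟶ i₀)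
    (U₀ : (D.obj i₀).Opens) (h : CInt.IsSchematicallyDense ((D.map g) ⁻¹ᵁ U₀)) :
    CInt.IsSchematicallyDense ((c.π.app i₀) ⁻¹ᵁ U₀) := by
  have := flat_π_app D c hc i
  have h' := preimage_of_flat_of_isLocallyNoetherian (c.π.app i) _ h
  have e : c.π.app i ⁻¹ᵁ (D.map g ⁻¹ᵁ U₀) = c.π.app i₀ ⁻¹ᵁ U₀ := pre_eq D c g U₀
  rwa [e] at h'

include hc in
theorem forward [∀ i, IsNoetherian (D.obj i)] (i₀ : I) (U₀ : (D.obj i₀).Opens)
    (hU : CInt.IsSchematicallyDense ((c.π.app i₀) ⁻¹ᵁ U₀)) :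
    ∃ (i : I) (g : i ⟶ i₀), CInt.IsSchematicallyDense ((D.map g) ⁻¹ᵁ U₀) := by
  classical
  have step1 : ∀ (W : (D.obj i₀).Opens), IsAffineOpen W → ∃ (j : I) (g : j ⟶ i₀),
      ∀ a : Γ(D.obj i₀, W),
        (D.obj i₀).presheaf.map (homOfLE (inf_le_left : W ⊓ U₀ ≤ W)).op a = 0 →
          (D.map g).app W a = 0 := by
    intro W hW
    have : IsNoetherianRing Γ(D.obj i₀, W) := IsLocallyNoetherian.component_noetherian ⟨W, hW⟩
    let ρ : Γ(D.obj i₀, W) →+* Γ(D.obj i₀, W ⊓ U₀) :=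
      ((D.obj i₀).presheaf.map (homOfLE (inf_le_left : W ⊓ U₀ ≤ W)).op).hom
    obtain ⟨s, hs⟩ := IsNoetherian.noetherian (RingHom.ker ρ)
    have h1 : ∀ a ∈ s, ∃ (j : I) (g : j ⟶ i₀), (D.map g).app W a = 0 := by
      intro a ha
      have ha' : ρ a = 0 := by
        have : a ∈ RingHom.ker ρ := hs ▸ Submodule.subset_span ha
        exact this
      apply exists_app_map_eq_zero_of_isLimit D c hc hW.isCompact a
      apply apply_eq_zero hU
      have nat : (c.π.app i₀).app (W ⊓ U₀) (ρ a) =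
          c.pt.presheaf.map (homOfLE (inf_le_left :
            c.π.app i₀ ⁻¹ᵁ W ⊓ c.π.app i₀ ⁻¹ᵁ U₀ ≤ c.π.app i₀ ⁻¹ᵁ W)).op
            ((c.π.app i₀).app W a) :=
        ConcreteCategory.congr_hom
          ((c.π.app i₀).naturality (homOfLE (inf_le_left : W ⊓ U₀ ≤ W)).op) a
      exact nat.symm.trans (by rw [ha', map_zero]; rfl)
    obtain ⟨j, g, hj⟩ := exists_common
      (fun j g (a : Γ(D.obj i₀, W)) => (D.map g).app W a = 0)
      (fun j g a ha k h => app_comp_eq_zero D g h W a ha) s h1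
    refine ⟨j, g, fun a ha => ?_⟩
    have hle : RingHom.ker ρ ≤ RingHom.ker ((D.map g).app W).hom := by
      rw [← hs]
      exact Ideal.span_le.mpr (fun a ha => hj a ha)
    exact hle ha
  have hx : ∀ x : D.obj i₀, ∃ W : (D.obj i₀).Opens, IsAffineOpen W ∧ x ∈ W := by
    intro x
    obtain ⟨_, ⟨W, hW, rfl⟩, hxW, -⟩ := (D.obj i₀).isBasis_affineOpens.exists_subset_of_mem_open
      (Set.mem_univ x) isOpen_univ
    exact ⟨W, hW, hxW⟩
  choose Wx hWx hxWx using hx
  obtain ⟨t, ht⟩ := CompactSpace.elim_nhds_subcover (fun x => (Wx x : Set (D.obj i₀)))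
    (fun x => (Wx x).2.mem_nhds (hxWx x))
  obtain ⟨j, g, hj⟩ := exists_common
    (fun j g (x : D.obj i₀) => ∀ a : Γ(D.obj i₀, Wx x),
      (D.obj i₀).presheaf.map (homOfLE (inf_le_left : Wx x ⊓ U₀ ≤ Wx x)).op a = 0 →
        (D.map g).app (Wx x) a = 0)
    (fun j g x hx k h a ha => app_comp_eq_zero D g h (Wx x) a (hx a ha)) t
    (fun x _ => step1 (Wx x) (hWx x))
  refine ⟨j, g, ?_⟩
  apply of_forall_eq_zero
  intro V'' a ha
  apply eq_zero_of_locally
  intro x' hx'
  have hy : (D.map g) x' ∈ ⋃ x ∈ t, (Wx x : Set (D.obj i₀)) := by rw [ht]; trivial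
  obtain ⟨x, hxt, hyx⟩ := Set.mem_iUnion₂.mp hy
  obtain ⟨_, ⟨V, hV, rfl⟩, hxV, hVle⟩ := (D.obj j).isBasis_affineOpens.exists_subset_of_mem_open
    (show x' ∈ ((V'' ⊓ D.map g ⁻¹ᵁ Wx x : (D.obj j).Opens) : Set (D.obj j)) from ⟨hx', hyx⟩)
    (V'' ⊓ D.map g ⁻¹ᵁ Wx x).2
  have hVV : V ≤ V'' := fun y hy => (hVle hy).1
  have e : V ≤ D.map g ⁻¹ᵁ Wx x := fun y hy => (hVle hy).2
  refine ⟨V, hVV, hxV, ?_⟩
  apply key (D.map g) U₀ (hWx x) (hj x hxt) hV e
  have e2 : (D.obj j).presheaf.map (homOfLE (inf_le_left : V ⊓ D.map g ⁻¹ᵁ U₀ ≤ V)).op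
      ((D.obj j).presheaf.map (homOfLE hVV).op a) =
      (D.obj j).presheaf.map (homOfLE (inf_le_inf_right _ hVV :
        V ⊓ D.map g ⁻¹ᵁ U₀ ≤ V'' ⊓ D.map g ⁻¹ᵁ U₀)).op
        ((D.obj j).presheaf.map (homOfLE (inf_le_left : V'' ⊓ D.map g ⁻¹ᵁ U₀ ≤ V'')).op a) := by
    rw [← ConcreteCategory.comp_apply, ← ConcreteCategory.comp_apply, ← Functor.map_comp,
      ← Functor.map_comp]
    rfl
  rw [e2, ha, map_zero]

end

end Groth.Agent.H9.LimDense
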