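import Mathlib
import Groth.Agent.Lib.Helper9.Misc.LimFlat

/-!
# Cofiltered limits of schemes along open immersions (helper9)

`S = lim S_i` with affine open-immersion transition maps: every projection `S ⟶ S_i` is a topological
embedding with bijective stalk maps.
-/

set_option autoImplicit false
set_option linter.unusedSectionVars false
universe u
open CategoryTheory CategoryTheory.Limits AlgebraicGeometry Opposite TopologicalSpace

namespace Groth.Agent.H9.LimOpen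

open Groth.Agent.H9.LimFlat

section gen

variable {X Y Z : Scheme.{u}}

lemma exists_stalkMap_eq (p : X ⟶ Y) (f : Y ⟶ Z) (q : X ⟶ Z) (hq : p ≫ f = q) (s : X)
    (a : Z.presheaf.stalk (q s)) :
    ∃ b : Y.presheaf.stalk (p s), p.stalkMap s b = q.stalkMap s a := by
  subst hq
  refine ⟨f.stalkMap (p s) a, ?_⟩
  rw [Scheme.Hom.stalkMap_comp]
  rfl

lemma exists_stalkMap_eq' (p : X ⟶ Y) (f : Y ⟶ Z) [IsOpenImmersion f] (q : X ⟶ Z)
    (hq : p ≫ f = q) (s : X) (b : Y.presheaf.stalk (p s)) :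
    ∃ a : Z.presheaf.stalk (q s), q.stalkMap s a = p.stalkMap s b := by
  subst hq
  refine ⟨(inv (f.stalkMap (p s))) b, ?_⟩
  rw [Scheme.Hom.stalkMap_comp]
  show p.stalkMap s (f.stalkMap (p s) ((inv (f.stalkMap (p s))) b)) = _
  congr 1
  rw [← CommRingCat.comp_apply, IsIso.inv_hom_id]
  rfl

lemma stalkMap_germ_appLE (f : X ⟶ Y) (U : Y.Opens) (V : X.Opens) (e : V ≤ f ⁻¹ᵁ U) (x : X)
    (hx : x ∈ V) (y : Γ(Y, U)) :
    f.stalkMap x (Y.presheaf.germ U (f x) (e hx) y) = X.presheaf.germ V x hx (f.appLE U V e y) := by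
  rw [Scheme.Hom.germ_stalkMap_apply]
  exact (X.presheaf.germ_res_apply (homOfLE e) x hx (f.app U y)).symm

lemma germ_eq_zero_of_appLE (p : X ⟶ Y) (f : Y ⟶ Z) [IsOpenImmersion f] (q : X ⟶ Z)
    (hq : p ≫ f = q) (s : X) (W : Z.Opens) (a₀ : Γ(Z, W)) (hx : q s ∈ W) (U' : Y.Opens)
    (hs : p s ∈ U') (e : U' ≤ f ⁻¹ᵁ W) (h0 : f.appLE W U' e a₀ = 0) :
    Z.presheaf.germ W (q s) hx a₀ = 0 := by
  subst hq
  have hinj : Function.Injective (f.stalkMap (p s)) :=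
    ((ConcreteCategory.isIso_iff_bijective _).mp inferInstance).1
  show Z.presheaf.germ W (f (p s)) hx a₀ = 0
  apply hinj
  rw [map_zero]
  have h1 := stalkMap_germ_appLE f W U' e (p s) hs a₀
  rw [h0, map_zero] at h1
  exact h1

end gen

section lim

variable {I : Type u} [SmallCategory I] [IsCofiltered I] (D : I ⥤ Scheme.{u}) (c : Cone D)
  (hc : IsLimit c) [∀ {i j} (f : i ⟶ j), IsAffineHom (D.map f)]
  (hoi : ∀ {i j : I} (φ : i ⟶ j), IsOpenImmersion (D.map φ))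

include hc hoi

theorem exists_preimage_eq' (i j : I) (W : (D.obj j).Opens) :
    ∃ U : (D.obj i).Opens, c.π.app i ⁻¹ᵁ U = c.π.app j ⁻¹ᵁ W := by
  haveI := hoi (IsCofiltered.minToRight j i)
  refine ⟨D.map (IsCofiltered.minToRight j i) ''ᵁ (D.map (IsCofiltered.minToLeft j i) ⁻¹ᵁ W), ?_⟩
  rw [← pre_eq D c (IsCofiltered.minToRight j i), Scheme.Hom.preimage_image_eq,
    pre_eq D c (IsCofiltered.minToLeft j i)]

theorem isInducing (i : I) : Topology.IsInducing ⇑(c.π.app i) := by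
  have hB := isBasis_preimage_isAffineOpen D c hc
  rw [Topology.isInducing_iff_nhds]
  intro (x : c.pt)
  refine le_antisymm ((c.π.app i).continuous.tendsto x).le_comap ?_
  intro (V : Set c.pt) hV
  obtain ⟨V', hV'V, hV'o, hxV'⟩ := mem_nhds_iff.mp hV
  obtain ⟨_, ⟨j, W, hW, rfl⟩, hxW, hWV'⟩ :=
    Opens.isBasis_iff_nbhd.mp hB (show x ∈ (⟨V', hV'o⟩ : Opens c.pt) from hxV')
  obtain ⟨U, hU⟩ := exists_preimage_eq' D c hc hoi i j W
  have hxU : c.π.app i x ∈ U := by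
    have : x ∈ c.π.app i ⁻¹ᵁ U := hU ▸ hxW
    exact this
  refine Filter.mem_of_superset (Filter.preimage_mem_comap (U.2.mem_nhds hxU)) ?_
  intro y hy
  apply hV'V
  apply hWV'
  have : y ∈ c.π.app i ⁻¹ᵁ U := hy
  rw [hU] at this
  exact this

theorem stalkMap_surjective (i : I) (s : c.pt) :
    Function.Surjective ((c.π.app i).stalkMap s) := by
  have hB := isBasis_preimage_isAffineOpen D c hc
  intro t
  obtain ⟨_, hsV, ⟨j, W, hW, rfl⟩, r, rfl⟩ :=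
    TopCat.Presheaf.exists_mem_germ_eq_of_isBasis hB c.pt.presheaf s t
  obtain ⟨k, g, r', hr'⟩ := exists_beta_eq D c hc hW r
  have hmem : s ∈ c.π.app k ⁻¹ᵁ (D.map g ⁻¹ᵁ W) := by
    rw [pre_eq D c g W]; exact hsV
  have h1 : (c.π.app k).stalkMap s ((D.obj k).presheaf.germ (D.map g ⁻¹ᵁ W) (c.π.app k s) hmem r') =
      c.pt.presheaf.germ _ s hsV r := by
    rw [stalkMap_germ_appLE (c.π.app k) (D.map g ⁻¹ᵁ W) (c.π.app j ⁻¹ᵁ W) (pre_eq D c g W).ge s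
      hsV r', ← hr']
    rfl
  obtain ⟨b, hb⟩ := exists_stalkMap_eq (c.π.app (IsCofiltered.min k i))
    (D.map (IsCofiltered.minToLeft k i)) (c.π.app k) (c.w _) s
    ((D.obj k).presheaf.germ (D.map g ⁻¹ᵁ W) (c.π.app k s) hmem r')
  haveI := hoi (IsCofiltered.minToRight k i)
  obtain ⟨a, ha⟩ := exists_stalkMap_eq' (c.π.app (IsCofiltered.min k i))
    (D.map (IsCofiltered.minToRight k i)) (c.π.app i) (c.w _) s b
  exact ⟨a, by rw [ha, hb, h1]⟩

theorem stalkMap_injective (i : I) (s : c.pt) :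
    Function.Injective ((c.π.app i).stalkMap s) := by
  have hB := isBasis_preimage_isAffineOpen D c hc
  rw [injective_iff_map_eq_zero]
  intro a ha
  obtain ⟨W, hxW, hWaff, a₀, rfl⟩ :=
    TopCat.Presheaf.exists_mem_germ_eq_of_isBasis (D.obj i).isBasis_affineOpens
      (D.obj i).presheaf (c.π.app i s) a
  rw [Scheme.Hom.germ_stalkMap_apply] at ha
  have h' : c.pt.presheaf.germ (c.π.app i ⁻¹ᵁ W) s hxW ((c.π.app i).app W a₀) =
      c.pt.presheaf.germ (c.π.app i ⁻¹ᵁ W) s hxW 0 := by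
    rw [map_zero]
    exact ha
  obtain ⟨_, hsV, ⟨j, W', hW', rfl⟩, hVW, _, hres⟩ :=
    TopCat.Presheaf.germ_eq_of_isBasis hB c.pt.presheaf s hxW hxW h'
  rw [map_zero] at hres
  -- common stage
  obtain ⟨m, u, v, hm⟩ : ∃ (m : I) (u : m ⟶ j) (v : m ⟶ i), True :=
    ⟨IsCofiltered.min j i, IsCofiltered.minToLeft j i, IsCofiltered.minToRight j i, trivial⟩
  have hmem : c.π.app m s ∈ D.map u ⁻¹ᵁ W' ⊓ D.map v ⁻¹ᵁ W := by
    constructor
    · have : s ∈ c.π.app m ⁻¹ᵁ (D.map u ⁻¹ᵁ W') := by rw [pre_eq D c u W']; exact hsV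
      exact this
    · have : s ∈ c.π.app m ⁻¹ᵁ (D.map v ⁻¹ᵁ W) := by rw [pre_eq D c v W]; exact hxW
      exact this
  obtain ⟨_, ⟨W₃, hW₃ : IsAffineOpen W₃, rfl⟩, hs₃, hW₃le⟩ :=
    (D.obj m).isBasis_affineOpens.exists_subset_of_mem_open hmem
      (D.map u ⁻¹ᵁ W' ⊓ D.map v ⁻¹ᵁ W).2
  have e₃ : W₃ ≤ D.map v ⁻¹ᵁ W := fun y hy => (hW₃le hy).2
  have e₃' : W₃ ≤ D.map u ⁻¹ᵁ W' := fun y hy => (hW₃le hy).1
  have hle : c.π.app m ⁻¹ᵁ W₃ ≤ c.π.app j ⁻¹ᵁ W' := by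
    rw [← pre_eq D c u W']
    exact Scheme.Hom.preimage_mono _ e₃'
  have hle' : c.π.app m ⁻¹ᵁ W₃ ≤ c.π.app i ⁻¹ᵁ W := hle.trans hVW
  have hzero : (c.π.app m).app W₃ ((D.map v).appLE W W₃ e₃ a₀) = 0 := by
    have h2 : (D.map v).appLE W W₃ e₃ ≫ (c.π.app m).appLE W₃ (c.π.app m ⁻¹ᵁ W₃) le_rfl =
        (c.π.app i).appLE W (c.π.app m ⁻¹ᵁ W₃) hle' :=
      appLE_comp_eq _ _ _ (c.w v) _ _ _ _ _ _
    rw [Scheme.Hom.app_eq_appLE, ← CommRingCat.comp_apply, h2]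
    show c.pt.presheaf.map (homOfLE hle').op ((c.π.app i).app W a₀) = 0
    have h3 : (homOfLE hle').op = (homOfLE hVW).op ≫ (homOfLE hle).op := rfl
    rw [h3, Functor.map_comp, CommRingCat.comp_apply, hres, map_zero]
  obtain ⟨m', h, hh⟩ := exists_app_map_eq_zero_of_isLimit D c hc hW₃.isCompact _ hzero
  haveI := hoi (h ≫ v)
  have hs' : c.π.app m' s ∈ D.map h ⁻¹ᵁ W₃ := by
    show (c.π.app m' ≫ D.map h) s ∈ W₃
    rw [c.w h]
    exact hs₃
  have e : D.map h ⁻¹ᵁ W₃ ≤ D.map (h ≫ v) ⁻¹ᵁ W := by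
    rw [D.map_comp, Scheme.Hom.comp_preimage]
    exact Scheme.Hom.preimage_mono _ e₃
  refine germ_eq_zero_of_appLE (c.π.app m') (D.map (h ≫ v)) (c.π.app i) (c.w _) s W a₀ hxW
    (D.map h ⁻¹ᵁ W₃) hs' e ?_
  have h4 : (D.map v).appLE W W₃ e₃ ≫ (D.map h).appLE W₃ (D.map h ⁻¹ᵁ W₃) le_rfl =
      (D.map (h ≫ v)).appLE W (D.map h ⁻¹ᵁ W₃) e :=
    appLE_comp_eq _ _ _ (D.map_comp h v).symm _ _ _ _ _ _
  rw [← h4, CommRingCat.comp_apply, ← Scheme.Hom.app_eq_appLE]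
  exact hh

theorem main (i : I) :
    Topology.IsEmbedding ⇑(c.π.app i) ∧ ∀ s : c.pt, IsIso ((c.π.app i).stalkMap s) := by
  refine ⟨⟨isInducing D c hc hoi i, (isInducing D c hc hoi i).injective⟩, fun s => ?_⟩
  exact (ConcreteCategory.isIso_iff_bijective _).mpr
    ⟨stalkMap_injective D c hc hoi i s, stalkMap_surjective D c hc hoi i s⟩

end lim

end Groth.Agent.H9.LimOpen
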