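import Mathlib

set_option autoImplicit false
set_option linter.unusedSectionVars false
set_option linter.unusedVariables false

namespace Groth.Agent.H9.LimTen

universe u

open TensorProduct

section ML

variable {R : Type*} [CommRing R] {Y Z : ℕ → Type*} [∀ n, AddCommGroup (Y n)]
  [∀ n, Module R (Y n)] [∀ n, AddCommGroup (Z n)] [∀ n, Module R (Z n)]
  (gY : ∀ n m, n ≤ m → Y m →ₗ[R] Y n) (gZ : ∀ n m, n ≤ m → Z m →ₗ[R] Z n)
  (p : ∀ n, Y n →ₗ[R] Z n)

/-- image in `Y n` of `ker (p m)` -/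
def SS (n m : ℕ) (h : n ≤ m) : Submodule R (Y n) := (LinearMap.ker (p m)).map (gY n m h)

theorem SS_congr (n m m' : ℕ) (e : m' = m) (h : n ≤ m) (h' : n ≤ m') :
    SS gY p n m' h' = SS gY p n m h := by
  subst e; rfl

variable (hY : ∀ n m k (h1 : n ≤ m) (h2 : m ≤ k) (y : Y k),
    gY n m h1 (gY m k h2 y) = gY n k (h1.trans h2) y)
  (hYid : ∀ n (y : Y n), gY n n le_rfl y = y)
  (hp : ∀ n m (h : n ≤ m) (y : Y m), p n (gY n m h y) = gZ n m h (p m y))

include hY hp in
theorem SS_anti (n m k : ℕ) (h1 : n ≤ m) (h2 : m ≤ k) :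
    SS gY p n k (h1.trans h2) ≤ SS gY p n m h1 := by
  intro x hx
  rw [SS, Submodule.mem_map] at hx
  obtain ⟨w, hw, rfl⟩ := hx
  rw [SS, Submodule.mem_map]
  refine ⟨gY m k h2 w, ?_, hY n m k h1 h2 w⟩
  rw [LinearMap.mem_ker] at hw ⊢
  rw [hp, hw, map_zero]

include hY hp in
theorem exists_stab (n : ℕ) [IsArtinian R (Y n)] :
    ∃ μ, ∃ hμ : n ≤ μ, ∀ m (h : μ ≤ m), SS gY p n m (hμ.trans h) = SS gY p n μ hμ := by
  let f : ℕ →o (Submodule R (Y n))ᵒᵈ :=
    ⟨fun j => OrderDual.toDual (SS gY p n (n + j) (Nat.le_add_right n j)), by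
      intro a b hab
      show SS gY p n (n + b) _ ≤ SS gY p n (n + a) _
      exact SS_anti gY gZ p hY hp n (n + a) (n + b) (Nat.le_add_right n a)
        (Nat.add_le_add_left hab n)⟩
  obtain ⟨j0, hj0⟩ := IsArtinian.monotone_stabilizes f
  refine ⟨n + j0, Nat.le_add_right n j0, fun m h => ?_⟩
  have h1 : f j0 = f (m - n) := hj0 (m - n) (by omega)
  have h2 : SS gY p n (n + (m - n)) (Nat.le_add_right n (m - n)) =
      SS gY p n m ((Nat.le_add_right n j0).trans h) :=
    SS_congr gY p n m (n + (m - n)) (by omega) _ _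
  rw [← h2]
  exact (congrArg OrderDual.ofDual h1).symm

variable (z : ∀ n, Z n)

def Good (n : ℕ) (y : Y n) : Prop :=
  p n y = z n ∧ ∀ m (h : n ≤ m), ∃ y' : Y m, p m y' = z m ∧ gY n m h y' = y

include hY hp in
theorem good_of_stab (hz : ∀ n m (h : n ≤ m), gZ n m h (z m) = z n)
    (hzr : ∀ n, ∃ y, p n y = z n) (n μ : ℕ) (hμ : n ≤ μ)
    (hstab : ∀ m (h : μ ≤ m), SS gY p n m (hμ.trans h) = SS gY p n μ hμ)
    (y0 : Y μ) (hy0 : p μ y0 = z μ) : Good gY p z n (gY n μ hμ y0) := by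
  refine ⟨by rw [hp, hy0, hz], fun m h => ?_⟩
  rcases le_total m μ with hm | hm
  · exact ⟨gY m μ hm y0, by rw [hp, hy0, hz], hY n m μ h hm y0⟩
  · obtain ⟨y1, hy1⟩ := hzr m
    have hw : gY μ m hm y1 - y0 ∈ LinearMap.ker (p μ) := by
      rw [LinearMap.mem_ker, map_sub, hp, hy1, hz, hy0, sub_self]
    have hmem : gY n μ hμ (gY μ m hm y1 - y0) ∈ SS gY p n m (hμ.trans hm) := by
      rw [hstab m hm, SS, Submodule.mem_map]
      exact ⟨_, hw, rfl⟩
    rw [SS, Submodule.mem_map] at hmem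
    obtain ⟨k, hk, hkeq⟩ := hmem
    refine ⟨y1 - k, ?_, ?_⟩
    · rw [map_sub, hy1, LinearMap.mem_ker.mp hk, sub_zero]
    · rw [map_sub, hkeq, map_sub, hY n μ m hμ hm y1, sub_sub_cancel]

include hY hYid hp in
theorem ML_lift [∀ n, IsArtinian R (Y n)] (hz : ∀ n m (h : n ≤ m), gZ n m h (z m) = z n)
    (hzr : ∀ n, ∃ y, p n y = z n) :
    ∃ y : ∀ n, Y n, (∀ n m (h : n ≤ m), gY n m h (y m) = y n) ∧ ∀ n, p n (y n) = z n := by
  have hA : ∀ n, ∃ y, Good gY p z n y := by
    intro n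
    obtain ⟨μ, hμ, hstab⟩ := exists_stab gY gZ p hY hp n
    obtain ⟨y0, hy0⟩ := hzr μ
    exact ⟨_, good_of_stab gY gZ p hY hp z hz hzr n μ hμ hstab y0 hy0⟩
  have hB : ∀ n (y : Y n), Good gY p z n y → ∃ y'' : Y (n + 1), Good gY p z (n + 1) y'' ∧
      gY n (n + 1) (Nat.le_succ n) y'' = y := by
    intro n y hy
    obtain ⟨μ, hμ, hstab⟩ := exists_stab gY gZ p hY hp (n + 1)
    obtain ⟨y', hy', hyy'⟩ := hy.2 μ ((Nat.le_succ n).trans hμ)
    refine ⟨gY (n + 1) μ hμ y', good_of_stab gY gZ p hY hp z hz hzr (n + 1) μ hμ hstab y' hy', ?_⟩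
    rw [hY n (n + 1) μ (Nat.le_succ n) hμ y', hyy']
  let seq : ∀ n, {y : Y n // Good gY p z n y} := fun n =>
    Nat.rec (motive := fun n => {y : Y n // Good gY p z n y})
      ⟨(hA 0).choose, (hA 0).choose_spec⟩
      (fun n prev => ⟨(hB n prev.1 prev.2).choose, (hB n prev.1 prev.2).choose_spec.1⟩) n
  have hseq : ∀ n, gY n (n + 1) (Nat.le_succ n) (seq (n + 1)).1 = (seq n).1 := fun n =>
    (hB n (seq n).1 (seq n).2).choose_spec.2
  refine ⟨fun n => (seq n).1, ?_, fun n => (seq n).2.1⟩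
  intro n m h
  induction m, h using Nat.le_induction with
  | base => exact hYid n _
  | succ m hnm ih =>
    rw [← hY n m (m + 1) hnm (Nat.le_succ m), hseq m]
    exact ih

end ML

section Main

theorem piScalarRight_natural {R : Type*} [CommRing R] {A B : Type*} [AddCommGroup A] [Module R A]
    [AddCommGroup B] [Module R B] (ι : Type*) [Fintype ι] [DecidableEq ι] (φ : A →ₗ[R] B)
    (w : A ⊗[R] (ι → R)) (i : ι) :
    TensorProduct.piScalarRight R R B ι (φ.rTensor (ι → R) w) i =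
      φ (TensorProduct.piScalarRight R R A ι w i) := by
  induction w using TensorProduct.induction_on with
  | zero => simp
  | tmul x f => simp
  | add a b ha hb => simp only [map_add, Pi.add_apply, ha, hb]

theorem rTensor_lTensor_comm {R : Type*} [CommRing R] {A B P P' : Type*} [AddCommGroup A]
    [Module R A] [AddCommGroup B] [Module R B] [AddCommGroup P] [Module R P] [AddCommGroup P']
    [Module R P'] (φ : A →ₗ[R] B) (v : P →ₗ[R] P') (t : A ⊗[R] P) :
    φ.rTensor P' (v.lTensor A t) = v.lTensor B (φ.rTensor P t) := by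
  rw [← LinearMap.comp_apply, ← LinearMap.comp_apply, LinearMap.rTensor_comp_lTensor,
    LinearMap.lTensor_comp_rTensor]

variable {R : Type u} [CommRing R] (X : ℕ → Type u) [∀ n, AddCommGroup (X n)] [∀ n, Module R (X n)]
  (g : ∀ n m, n ≤ m → X m →ₗ[R] X n)
  (hg : ∀ n m k (h1 : n ≤ m) (h2 : m ≤ k) (y : X k), g n m h1 (g m k h2 y) = g n k (h1.trans h2) y)
  (hgid : ∀ n (y : X n), g n n le_rfl y = y)
  (L : Type u) [AddCommGroup L] [Module R L] (π : ∀ n, L →ₗ[R] X n)
  (hπ : ∀ n m (h : n ≤ m) (l : L), g n m h (π m l) = π n l)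
  (hex : ∀ s : ∀ n, X n, (∀ n m (h : n ≤ m), g n m h (s m) = s n) → ∃ l : L, ∀ n, π n l = s n)
  (huniq : ∀ l : L, (∀ n, π n l = 0) → l = 0)

include huniq in
theorem free_inj (ι : Type) [Fintype ι] [DecidableEq ι] (t : L ⊗[R] (ι → R))
    (ht : ∀ n, (π n).rTensor (ι → R) t = 0) : t = 0 := by
  apply (TensorProduct.piScalarRight R R L ι).injective
  rw [map_zero]
  funext i
  apply huniq
  intro n
  rw [← piScalarRight_natural, ht n, map_zero]
  rfl

include hex in
theorem free_surj (ι : Type) [Fintype ι] [DecidableEq ι] (z : ∀ n, X n ⊗[R] (ι → R))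
    (hz : ∀ n m (h : n ≤ m), (g n m h).rTensor (ι → R) (z m) = z n) :
    ∃ t : L ⊗[R] (ι → R), ∀ n, (π n).rTensor (ι → R) t = z n := by
  have : ∀ i, ∃ l : L, ∀ n, π n l = TensorProduct.piScalarRight R R (X n) ι (z n) i := by
    intro i
    apply hex
    intro n m h
    rw [← piScalarRight_natural, hz n m h]
  choose l hl using this
  refine ⟨(TensorProduct.piScalarRight R R L ι).symm l, fun n => ?_⟩
  apply (TensorProduct.piScalarRight R R (X n) ι).injective
  funext i
  rw [piScalarRight_natural, LinearEquiv.apply_symm_apply, hl i n]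

include hg hgid in
theorem tensor_ML [∀ n, IsArtinian R (X n)] (ι : Type) [Fintype ι] [DecidableEq ι] {P' : Type*}
    [AddCommGroup P'] [Module R P'] (v : (ι → R) →ₗ[R] P') (z : ∀ n, X n ⊗[R] P')
    (hz : ∀ n m (h : n ≤ m), (g n m h).rTensor P' (z m) = z n)
    (hzr : ∀ n, ∃ y, v.lTensor (X n) y = z n) :
    ∃ y : ∀ n, X n ⊗[R] (ι → R), (∀ n m (h : n ≤ m), (g n m h).rTensor _ (y m) = y n) ∧
      ∀ n, v.lTensor (X n) (y n) = z n := by
  haveI : ∀ n, IsArtinian R (X n ⊗[R] (ι → R)) := fun n =>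
    isArtinian_of_linearEquiv (TensorProduct.piScalarRight R R (X n) ι).symm
  exact ML_lift (Y := fun n => X n ⊗[R] (ι → R)) (Z := fun n => X n ⊗[R] P')
    (fun n m h => (g n m h).rTensor _) (fun n m h => (g n m h).rTensor _)
    (fun n => v.lTensor (X n))
    (by
      intro n m k h1 h2 y
      have e : (g n m h1).comp (g m k h2) = g n k (h1.trans h2) := LinearMap.ext (hg n m k h1 h2)
      rw [← LinearMap.rTensor_comp_apply, e])
    (by
      intro n y
      have e : g n n le_rfl = LinearMap.id := LinearMap.ext (hgid n)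
      rw [e, LinearMap.rTensor_id_apply])
    (by
      intro n m h y
      exact (rTensor_lTensor_comm (g n m h) v y).symm)
    z hz hzr

include hg hgid hπ hex huniq in
theorem main_inj_surj [∀ n, IsArtinian R (X n)] (N : Type u) [AddCommGroup N] [Module R N]
    [Module.FinitePresentation R N] :
    (∀ t : L ⊗[R] N, (∀ n, (π n).rTensor N t = 0) → t = 0) ∧
    (∀ z : ∀ n, X n ⊗[R] N, (∀ n m (h : n ≤ m), (g n m h).rTensor N (z m) = z n) →
      ∃ t : L ⊗[R] N, ∀ n, (π n).rTensor N t = z n) := by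
  classical
  obtain ⟨b, a, q, A, hq, hAq⟩ := Module.FinitePresentation.exists_fin' R N
  constructor
  · intro t ht
    obtain ⟨t', rfl⟩ := LinearMap.lTensor_surjective L hq t
    have hy_comp : ∀ n m (h : n ≤ m),
        (g n m h).rTensor _ ((π m).rTensor (Fin b → R) t') = (π n).rTensor _ t' := by
      intro n m h
      have e : (g n m h).comp (π m) = π n := LinearMap.ext (hπ n m h)
      rw [← LinearMap.rTensor_comp_apply, e]
    have hy_ker : ∀ n, ∃ x, A.lTensor (X n) x = (π n).rTensor _ t' := by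
      intro n
      have hexn := lTensor_exact (X n) hAq hq
      apply (hexn _).mp
      rw [← rTensor_lTensor_comm, ht n]
    obtain ⟨x, hxc, hx⟩ := tensor_ML X g hg hgid (Fin a) A (fun n => (π n).rTensor _ t')
      hy_comp hy_ker
    obtain ⟨x', hx'⟩ := free_surj X g L π hex (Fin a) x hxc
    have h0 : A.lTensor L x' = t' := by
      have := free_inj X L π huniq (Fin b) (A.lTensor L x' - t') (by
        intro n
        rw [map_sub, rTensor_lTensor_comm, hx' n, hx n, sub_self])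
      exact sub_eq_zero.mp this
    rw [← h0, ← LinearMap.comp_apply, ← LinearMap.lTensor_comp, hAq.linearMap_comp_eq_zero,
      LinearMap.lTensor_zero, LinearMap.zero_apply]
  · intro z hz
    obtain ⟨y, hyc, hy⟩ := tensor_ML X g hg hgid (Fin b) q z hz
      (fun n => LinearMap.lTensor_surjective (X n) hq (z n))
    obtain ⟨t', ht'⟩ := free_surj X g L π hex (Fin b) y hyc
    exact ⟨q.lTensor L t', fun n => by rw [rTensor_lTensor_comm, ht' n, hy n]⟩

end Main

end Groth.Agent.H9.LimTen
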