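import Mathlib
import Groth.Agent.Lib.Helper9.Misc.LimTenA

set_option autoImplicit false
set_option linter.unusedSectionVars false
set_option linter.unusedVariables false

namespace Groth.Agent.H9.LimTen

universe u

open CategoryTheory Limits MonoidalCategory Opposite TensorProduct

theorem main (R : Type u) [CommRing R]
    (M : ℕᵒᵖ ⥤ ModuleCat.{u} R) (hM : ∀ n : ℕᵒᵖ, IsFiniteLength R (M.obj n))
    (N : Type u) [AddCommGroup N] [Module R N] [Module.FinitePresentation R N] :
    IsIso (limit.post M (tensorRight (ModuleCat.of R N))) := by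
  let X : ℕ → Type u := fun n => M.obj (op n)
  let g : ∀ n m, n ≤ m → X m →ₗ[R] X n := fun n m h => (M.map (homOfLE h).op).hom
  have hg : ∀ n m k (h1 : n ≤ m) (h2 : m ≤ k) (y : X k),
      g n m h1 (g m k h2 y) = g n k (h1.trans h2) y := by
    intro n m k h1 h2 y
    show (M.map (homOfLE h1).op).hom ((M.map (homOfLE h2).op).hom y) =
      (M.map (homOfLE (h1.trans h2)).op).hom y
    rw [← ModuleCat.comp_apply, ← M.map_comp]
    rfl
  have hgid : ∀ n (y : X n), g n n le_rfl y = y := by
    intro n y
    show (M.map (homOfLE (le_refl n)).op).hom y = y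
    have : (homOfLE (le_refl n)).op = 𝟙 (op n) := rfl
    rw [this, M.map_id]
    rfl
  let π : ∀ n, (limit M : ModuleCat.{u} R) →ₗ[R] X n := fun n => (limit.π M (op n)).hom
  have hπ : ∀ n m (h : n ≤ m) (l : (limit M : ModuleCat.{u} R)), g n m h (π m l) = π n l := by
    intro n m h l
    show (M.map (homOfLE h).op).hom ((limit.π M (op m)).hom l) = (limit.π M (op n)).hom l
    rw [← ModuleCat.comp_apply, limit.w]
  have hex : ∀ s : ∀ n, X n, (∀ n m (h : n ≤ m), g n m h (s m) = s n) →
      ∃ l : (limit M : ModuleCat.{u} R), ∀ n, π n l = s n := by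
    intro s hs
    let sec : (M ⋙ forget (ModuleCat.{u} R)).sections :=
      ⟨fun j => s j.unop, by
        intro j j' f
        have hle : j'.unop ≤ j.unop := leOfHom f.unop
        have hf : f = (homOfLE hle).op := Quiver.Hom.unop_inj (Subsingleton.elim _ _)
        rw [hf]
        exact hs j'.unop j.unop hle⟩
    let E := Types.isLimitEquivSections
      (isLimitOfPreserves (forget (ModuleCat.{u} R)) (limit.isLimit M))
    refine ⟨E.symm sec, fun n => ?_⟩
    have h := Types.isLimitEquivSections_symm_apply
      (isLimitOfPreserves (forget (ModuleCat.{u} R)) (limit.isLimit M)) sec (op n)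
    exact h
  have huniq : ∀ l : (limit M : ModuleCat.{u} R), (∀ n, π n l = 0) → l = 0 := by
    intro l hl
    apply Concrete.limit_ext M l 0
    intro j
    have h1 : (limit.π M j).hom l = 0 := hl j.unop
    have h2 : (limit.π M j).hom 0 = 0 := map_zero _
    exact h1.trans h2.symm
  haveI : ∀ n, IsArtinian R (X n) := fun n =>
    (isFiniteLength_iff_isNoetherian_isArtinian.mp (hM (op n))).2
  obtain ⟨hinj, hsurj⟩ := main_inj_surj X g hg hgid (limit M : ModuleCat.{u} R) π hπ hex huniq N
  -- the comparison map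
  let T := tensorRight (ModuleCat.of R N)
  let Φ : ((limit M : ModuleCat.{u} R) ⊗[R] N) →ₗ[R] (limit (M ⋙ T) : ModuleCat.{u} R) :=
    (limit.post M T).hom
  have hΦ : ∀ n (t : (limit M : ModuleCat.{u} R) ⊗[R] N),
      (limit.π (M ⋙ T) (op n)).hom (Φ t) = (π n).rTensor N t := by
    intro n t
    show (limit.π (M ⋙ T) (op n)).hom ((limit.post M T).hom t) = _
    rw [← ModuleCat.comp_apply, limit.post_π]
    rfl
  rw [ConcreteCategory.isIso_iff_bijective]
  show Function.Bijective Φ
  constructor
  · rw [injective_iff_map_eq_zero]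
    intro t ht
    apply hinj t
    intro n
    rw [← hΦ n t, ht, map_zero]
  · intro z'
    let z : ∀ n, X n ⊗[R] N := fun n => (limit.π (M ⋙ T) (op n)).hom z'
    have hz : ∀ n m (h : n ≤ m), (g n m h).rTensor N (z m) = z n := by
      intro n m h
      show ((M ⋙ T).map (homOfLE h).op).hom ((limit.π (M ⋙ T) (op m)).hom z') =
        (limit.π (M ⋙ T) (op n)).hom z'
      rw [← ModuleCat.comp_apply, limit.w]
    obtain ⟨t, ht⟩ := hsurj z hz
    refine ⟨t, ?_⟩
    apply Concrete.limit_ext (M ⋙ T)
    intro j
    have := (hΦ j.unop t).trans (ht j.unop)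
    exact this

end Groth.Agent.H9.LimTen
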