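import Mathlib
set_option autoImplicit false
set_option linter.unusedSectionVars false
set_option linter.unusedVariables false

namespace Groth.Agent.H9.LinKer

open MvPolynomial

universe u

section DetMul
variable {P : Type*} [CommRing P]

theorem det_mul_eq_sum {n N' : ℕ} (B : Matrix (Fin n) (Fin N') P) (W : Matrix (Fin N') (Fin n) P) :
    (B * W).det = ∑ c : Fin n → Fin N', (∏ k, W (c k) k) * (B.submatrix id c).det := by
  classical
  rw [← Matrix.det_transpose]
  have h2 : (B * W).transpose = (fun k => ∑ l, W l k • B.transpose l : Matrix (Fin n) (Fin n) P) := by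
    funext k
    funext i
    rw [Finset.sum_apply]
    simp only [Matrix.transpose_apply, Matrix.mul_apply, Pi.smul_apply, smul_eq_mul]
    exact Finset.sum_congr rfl (fun l _ => mul_comm _ _)
  rw [h2]
  have h3 := (Matrix.detRowAlternating (n := Fin n) (R := P)).toMultilinearMap.map_sum
    (fun k l => W l k • B.transpose l)
  have h4 : ∀ c : Fin n → Fin N',
      (Matrix.detRowAlternating (n := Fin n) (R := P)).toMultilinearMap
        (fun k => W (c k) k • B.transpose (c k)) = (∏ k, W (c k) k) * (B.submatrix id c).det := by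
    intro c
    rw [MultilinearMap.map_smul_univ, smul_eq_mul]
    congr 1
    rw [← Matrix.det_transpose (B.submatrix id c)]
    rfl
  calc Matrix.det (fun k => ∑ l, W l k • B.transpose l : Matrix (Fin n) (Fin n) P)
      = (Matrix.detRowAlternating (n := Fin n) (R := P)).toMultilinearMap
          (fun k => ∑ l, W l k • B.transpose l) := rfl
    _ = _ := h3
    _ = _ := Finset.sum_congr rfl (fun c _ => h4 c)

theorem det_mul_mem {n N' : ℕ} (B : Matrix (Fin n) (Fin N') P) (W : Matrix (Fin N') (Fin n) P) :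
    (B * W).det ∈ Ideal.span (Set.range fun c : Fin n → Fin N' => (B.submatrix id c).det) := by
  rw [det_mul_eq_sum]
  exact Ideal.sum_mem _ (fun c _ => Ideal.mul_mem_left _ _ (Ideal.subset_span ⟨c, rfl⟩))

end DetMul

section Main
variable {A : Type u} [CommRing A] {N s : ℕ}

theorem exists_retraction (m : Fin s → (Fin (N + 1) → A))
    (hli : LinearIndependent A m)
    (hproj : Module.Projective A ((Fin (N + 1) → A) ⧸ Submodule.span A (Set.range m))) :
    ∃ r : Fin s → Fin (N+1) → A, ∀ i i', ∑ j, r i j * m i' j = if i = i' then 1 else 0 := by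
  classical
  obtain ⟨σ, hσ⟩ := Module.projective_lifting_property
    (Submodule.span A (Set.range m)).mkQ LinearMap.id
    (Submodule.mkQ_surjective (Submodule.span A (Set.range m)))
  let p : (Fin (N+1) → A) →ₗ[A] (Fin (N+1) → A) :=
    LinearMap.id - σ ∘ₗ (Submodule.span A (Set.range m)).mkQ
  have hp : ∀ v, p v ∈ Submodule.span A (Set.range m) := by
    intro v
    rw [← Submodule.ker_mkQ (Submodule.span A (Set.range m)), LinearMap.mem_ker]
    show (Submodule.span A (Set.range m)).mkQ (v - σ ((Submodule.span A (Set.range m)).mkQ v)) = 0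
    rw [map_sub]
    have := LinearMap.congr_fun hσ ((Submodule.span A (Set.range m)).mkQ v)
    simp only [LinearMap.comp_apply, LinearMap.id_apply] at this
    rw [this, sub_self]
  have hpM : ∀ v ∈ Submodule.span A (Set.range m), p v = v := by
    intro v hv
    show v - σ ((Submodule.span A (Set.range m)).mkQ v) = v
    have : (Submodule.span A (Set.range m)).mkQ v = 0 := by
      rw [Submodule.mkQ_apply, Submodule.Quotient.mk_eq_zero]; exact hv
    rw [this, map_zero, sub_zero]
  let ρ : Fin s → (Fin (N+1) → A) →ₗ[A] A := fun i =>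
    (Finsupp.lapply i) ∘ₗ hli.repr ∘ₗ (p.codRestrict (Submodule.span A (Set.range m)) hp)
  refine ⟨fun i j => ρ i (fun j' => if j = j' then 1 else 0), fun i i' => ?_⟩
  have h1 := LinearMap.pi_apply_eq_sum_univ (ρ i) (m i')
  have h2 : ρ i (m i') = if i = i' then 1 else 0 := by
    show (hli.repr ⟨p (m i'), hp _⟩) i = _
    have hm : m i' ∈ Submodule.span A (Set.range m) := Submodule.subset_span ⟨i', rfl⟩
    have h3 : hli.repr ⟨p (m i'), hp _⟩ = Finsupp.single i' 1 :=
      hli.repr_eq_single i' _ (by simp [hpM _ hm])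
    rw [h3, Finsupp.single_apply]
    simp [eq_comm]
  rw [← h2, h1]
  exact Finset.sum_congr rfl (fun j _ => by rw [smul_eq_mul, mul_comm])

/-- the matrix with rows `m_1, …, m_s, (X_0, …, X_N)`. -/
noncomputable def Bm (m : Fin s → (Fin (N + 1) → A)) :
    Matrix (Fin (s+1)) (Fin (N+1)) (MvPolynomial (Fin (N+1)) A) :=
  Matrix.of fun i l => Fin.snoc (α := fun _ => MvPolynomial (Fin (N+1)) A)
    (fun i' : Fin s => C (m i' l)) (X l) i

noncomputable def Wm (m r : Fin s → (Fin (N + 1) → A)) (j : Fin (N+1)) :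
    Matrix (Fin (N+1)) (Fin (s+1)) (MvPolynomial (Fin (N+1)) A) :=
  Matrix.of fun l k => Fin.snoc (α := fun _ => MvPolynomial (Fin (N+1)) A)
    (fun k' : Fin s => C (r k' l))
    ((if l = j then 1 else 0) - ∑ i, C (m i j) * C (r i l)) k

variable (m r : Fin s → (Fin (N + 1) → A))
  (hr : ∀ i i', ∑ j, r i j * m i' j = if i = i' then 1 else 0) (j : Fin (N+1))

include hr in
theorem E1 (i' k' : Fin s) :
    (Bm m * Wm m r j) (Fin.castSucc i') (Fin.castSucc k') = if k' = i' then 1 else 0 := by
  rw [Matrix.mul_apply]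
  simp only [Bm, Wm, Matrix.of_apply, Fin.snoc_castSucc]
  have : ∑ l, (C (m i' l) : MvPolynomial (Fin (N+1)) A) * C (r k' l) =
      C (∑ l, r k' l * m i' l) := by
    rw [map_sum]; exact Finset.sum_congr rfl (fun l _ => by rw [← C_mul, mul_comm])
  rw [this, hr]
  split_ifs <;> simp

include hr in
theorem E2 (i' : Fin s) : (Bm m * Wm m r j) (Fin.castSucc i') (Fin.last s) = 0 := by
  rw [Matrix.mul_apply]
  simp only [Bm, Wm, Matrix.of_apply, Fin.snoc_castSucc, Fin.snoc_last]
  simp only [mul_sub, Finset.sum_sub_distrib, mul_ite, mul_one, mul_zero, Finset.sum_ite_eq',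
    Finset.mem_univ, if_true]
  rw [sub_eq_zero]
  have h1 : ∀ l, (C (m i' l) : MvPolynomial (Fin (N+1)) A) * ∑ i, C (m i j) * C (r i l) =
      ∑ i, C (m i j) * (C (r i l) * C (m i' l)) := by
    intro l; rw [Finset.mul_sum]; exact Finset.sum_congr rfl (fun i _ => by ring)
  simp only [h1]
  rw [Finset.sum_comm]
  have h2 : ∀ i, ∑ l, (C (m i j) : MvPolynomial (Fin (N+1)) A) * (C (r i l) * C (m i' l)) =
      C (m i j) * C (if i = i' then 1 else 0) := by
    intro i
    rw [← Finset.mul_sum, ← hr i i', map_sum]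
    congr 1
    exact Finset.sum_congr rfl (fun l _ => by rw [C_mul])
  simp only [h2]
  rw [Finset.sum_eq_single i']
  · simp
  · intro b _ hb; simp [hb]
  · intro h; exact absurd (Finset.mem_univ _) h

theorem E3 : (Bm m * Wm m r j) (Fin.last s) (Fin.last s) =
    X j - ∑ i, C (m i j) * (∑ l, C (r i l) * X l) := by
  rw [Matrix.mul_apply]
  simp only [Bm, Wm, Matrix.of_apply, Fin.snoc_last]
  simp only [mul_sub, Finset.sum_sub_distrib, mul_ite, mul_one, mul_zero, Finset.sum_ite_eq',
    Finset.mem_univ, if_true]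
  congr 1
  simp only [Finset.mul_sum]
  rw [Finset.sum_comm]
  exact Finset.sum_congr rfl (fun i _ => Finset.sum_congr rfl (fun l _ => by ring))

include hr in
theorem det_BW : (Bm m * Wm m r j).det = X j - ∑ i, C (m i j) * (∑ l, C (r i l) * X l) := by
  rw [Matrix.det_of_isLowerTriangular]
  · rw [Fin.prod_univ_castSucc, E3]
    have : ∀ i' : Fin s, (Bm m * Wm m r j) (Fin.castSucc i') (Fin.castSucc i') = 1 := fun i' => by
      rw [E1 m r hr j]; simp
    simp only [this, Finset.prod_const_one, one_mul]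
  · intro i k hik
    have hik' : i < k := OrderDual.toDual_lt_toDual.1 hik
    rcases Fin.eq_castSucc_or_eq_last i with ⟨i', rfl⟩ | rfl
    · rcases Fin.eq_castSucc_or_eq_last k with ⟨k', rfl⟩ | rfl
      · rw [E1 m r hr j, if_neg]
        intro h; subst h; exact lt_irrefl _ hik'
      · exact E2 m r hr j i'
    · exact absurd hik' (not_lt.2 (Fin.le_last _))

omit hr j r in
theorem minor_mem_ker (c : Fin (s+1) → Fin (N+1)) :
    (aeval (fun j => ∑ i, C (m i j) * X i) :
      MvPolynomial (Fin (N+1)) A →ₐ[A] MvPolynomial (Fin s) A) (((Bm m).submatrix id c).det) = 0 := by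
  classical
  rw [AlgHom.map_det]
  set M' := (aeval (fun j => ∑ i, C (m i j) * X i) :
      MvPolynomial (Fin (N+1)) A →ₐ[A] MvPolynomial (Fin s) A).mapMatrix ((Bm m).submatrix id c)
    with hM'
  have hrow1 : ∀ (i' : Fin s) k, M' (Fin.castSucc i') k = C (m i' (c k)) := by
    intro i' k
    simp [hM', Bm]
  have hrow2 : ∀ k, M' (Fin.last s) k = ∑ i', C (m i' (c k)) * X i' := by
    intro k
    simp [hM', Bm]
  let Z := M'.updateRow (Fin.last s) 0
  let cf : Fin (s+1) → MvPolynomial (Fin s) A :=
    Fin.snoc (α := fun _ => MvPolynomial (Fin s) A) (fun i' => X i') 0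
  have hZ : ∀ (i' : Fin s) k, Z (Fin.castSucc i') k = C (m i' (c k)) := by
    intro i' k
    show M'.updateRow (Fin.last s) 0 (Fin.castSucc i') k = _
    rw [Matrix.updateRow_ne (Fin.castSucc_lt_last i').ne, hrow1]
  have hM'Z : M' = Z.updateRow (Fin.last s) (∑ k, cf k • Z k) := by
    refine Matrix.ext (fun i k => ?_)
    rcases Fin.eq_castSucc_or_eq_last i with ⟨i', rfl⟩ | rfl
    · rw [Matrix.updateRow_ne (Fin.castSucc_lt_last i').ne, hZ, hrow1]
    · rw [Matrix.updateRow_self, Finset.sum_apply, Fin.sum_univ_castSucc, hrow2]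
      simp only [cf, Fin.snoc_castSucc, Fin.snoc_last, Pi.smul_apply, smul_eq_mul, zero_mul,
        add_zero]
      exact Finset.sum_congr rfl (fun i' _ => by rw [hZ, mul_comm])
  rw [hM'Z, Matrix.det_updateRow_sum]
  simp [cf]

omit hr j r m in
theorem sub_mem_span {σ τ : Type*} (φ : MvPolynomial σ A →ₐ[A] MvPolynomial τ A)
    (ψ : MvPolynomial τ A →ₐ[A] MvPolynomial σ A) (F : MvPolynomial σ A) :
    F - ψ (φ F) ∈ Ideal.span (Set.range fun j => (X j : MvPolynomial σ A) - ψ (φ (X j))) := by
  induction F using MvPolynomial.induction_on with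
  | C a =>
    rw [← MvPolynomial.algebraMap_eq, AlgHom.commutes, AlgHom.commutes, sub_self]
    exact Ideal.zero_mem _
  | add p q hp hq =>
    have : p + q - ψ (φ (p + q)) = (p - ψ (φ p)) + (q - ψ (φ q)) := by
      simp only [map_add]; ring
    rw [this]; exact Ideal.add_mem _ hp hq
  | mul_X p j hp =>
    have : p * X j - ψ (φ (p * X j)) =
        (p - ψ (φ p)) * X j + ψ (φ p) * (X j - ψ (φ (X j))) := by
      simp only [map_mul]; ring
    rw [this]
    exact Ideal.add_mem _ (Ideal.mul_mem_right _ _ hp)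
      (Ideal.mul_mem_left _ _ (Ideal.subset_span ⟨j, rfl⟩))

end Main

theorem result'
    (A : Type u) [CommRing A] (N s : ℕ) (m : Fin s → (Fin (N + 1) → A))
    (hli : LinearIndependent A m)
    (hproj : Module.Projective A ((Fin (N + 1) → A) ⧸ Submodule.span A (Set.range m))) :
    RingHom.ker (MvPolynomial.aeval (R := A) (S₁ := MvPolynomial (Fin s) A)
        (fun j : Fin (N + 1) => ∑ i : Fin s, MvPolynomial.C (m i j) * MvPolynomial.X i)) =
      Ideal.span (Set.range fun c : Fin (s + 1) → Fin (N + 1) =>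
        (Matrix.of fun (i : Fin (s + 1)) (j : Fin (s + 1)) =>
          (Fin.snoc (α := fun _ => MvPolynomial (Fin (N + 1)) A)
            (fun i' : Fin s => MvPolynomial.C (m i' (c j))) (MvPolynomial.X (c j)) i)).det) := by
  classical
  obtain ⟨r, hr⟩ := exists_retraction m hli hproj
  change RingHom.ker _ = Ideal.span (Set.range fun c : Fin (s+1) → Fin (N+1) =>
    ((Bm m).submatrix id c).det)
  apply le_antisymm
  · intro F hF
    rw [RingHom.mem_ker] at hF
    have h1 := sub_mem_span (aeval (fun j => ∑ i, C (m i j) * X i) :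
      MvPolynomial (Fin (N+1)) A →ₐ[A] MvPolynomial (Fin s) A)
      (aeval (fun i => ∑ l, C (r i l) * X l) :
        MvPolynomial (Fin s) A →ₐ[A] MvPolynomial (Fin (N+1)) A) F
    rw [hF, map_zero, sub_zero] at h1
    refine (Ideal.span_le.2 ?_) h1
    rintro _ ⟨j, rfl⟩
    have h3 : (X j : MvPolynomial (Fin (N+1)) A) -
        (aeval (fun i => ∑ l, C (r i l) * X l) :
          MvPolynomial (Fin s) A →ₐ[A] MvPolynomial (Fin (N+1)) A)
        ((aeval (fun j => ∑ i, C (m i j) * X i) :
          MvPolynomial (Fin (N+1)) A →ₐ[A] MvPolynomial (Fin s) A) (X j)) =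
        (Bm m * Wm m r j).det := by
      rw [det_BW m r hr j]
      congr 1
      simp [map_sum]
    rw [SetLike.mem_coe]
    beta_reduce
    rw [h3]
    exact det_mul_mem _ _
  · rw [Ideal.span_le]
    rintro _ ⟨c, rfl⟩
    exact minor_mem_ker m c

end Groth.Agent.H9.LinKer
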