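import Mathlib
import Groth.Prelude.Def_GLin
import Groth.Agent.Lib.Helper9.Misc.LKC
import Groth.Agent.Lib.Helper9.CotGr.Cartier
import Groth.Agent.Lib.Helper9.DensePoints
import Groth.Agent.Lib.Helper9.FF.Conv

/-! Helper9: a linearization of the trivial line bundle on a connected reduced affine `G`-scheme
is given by a character (S19411). -/

set_option autoImplicit false
set_option linter.style.haveILetI false
set_option linter.unusedSectionVars false

universe u v w

open TensorProduct WithConv

namespace Groth.Agent.H9.LinTriv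

open Groth.Agent.H9 Groth.Agent.H9.FF.Conv

section Gen

variable {k : Type u} [Field k] {R : Type v} [CommRing R] [Algebra k R]
  {A : Type w} [CommRing A] [Algebra k A]

/-- evaluation at a pair of points -/
noncomputable def ev (x : R →ₐ[k] k) (g : A →ₐ[k] k) : R ⊗[k] A →ₐ[k] k :=
  Algebra.TensorProduct.lift x g (fun _ _ => Commute.all _ _)

@[simp] lemma ev_tmul (x : R →ₐ[k] k) (g : A →ₐ[k] k) (r : R) (a : A) :
    ev x g (r ⊗ₜ[k] a) = x r * g a := by
  simp [ev]

/-- partial evaluation `(id ⊗ g)` -/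
noncomputable def sl (g : A →ₐ[k] k) : R ⊗[k] A →ₐ[k] R :=
  ((Algebra.TensorProduct.rid k k R : R ⊗[k] k ≃ₐ[k] R) : R ⊗[k] k →ₐ[k] R).comp
    (Algebra.TensorProduct.map (AlgHom.id k R) g)

@[simp] lemma sl_tmul (g : A →ₐ[k] k) (r : R) (a : A) : sl g (r ⊗ₜ[k] a) = g a • r := by
  simp [sl]

/-- partial evaluation `(x ⊗ id)` -/
noncomputable def sr (x : R →ₐ[k] k) : R ⊗[k] A →ₐ[k] A :=
  ((Algebra.TensorProduct.lid k A : k ⊗[k] A ≃ₐ[k] A) : k ⊗[k] A →ₐ[k] A).comp
    (Algebra.TensorProduct.map x (AlgHom.id k A))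

@[simp] lemma sr_tmul (x : R →ₐ[k] k) (r : R) (a : A) : sr x (r ⊗ₜ[k] a) = x r • a := by
  simp [sr]

lemma apply_sl (x : R →ₐ[k] k) (g : A →ₐ[k] k) (t : R ⊗[k] A) : x (sl g t) = ev x g t := by
  induction t using TensorProduct.induction_on with
  | zero => simp
  | tmul r a => simp [mul_comm]
  | add a b ha hb => simp only [map_add, ha, hb]

lemma apply_sr (x : R →ₐ[k] k) (g : A →ₐ[k] k) (t : R ⊗[k] A) : g (sr x t) = ev x g t := by
  induction t using TensorProduct.induction_on with
  | zero => simp
  | tmul r a => simp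
  | add a b ha hb => simp only [map_add, ha, hb]

lemma apply_slice (x : R →ₐ[k] k) (lam : A →ₗ[k] k) (t : R ⊗[k] A) :
    x (Comod.slice lam t) = lam (sr x t) := by
  induction t using TensorProduct.induction_on with
  | zero => simp
  | tmul r a => simp [mul_comm]
  | add a b ha hb => simp only [map_add, ha, hb]

lemma lTensor_eq_sl (g : A →ₐ[k] k) (t : R ⊗[k] A) :
    LinearMap.lTensor R g.toLinearMap t = sl g t ⊗ₜ[k] (1 : k) := by
  induction t using TensorProduct.induction_on with
  | zero => simp
  | tmul r a =>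
    rw [LinearMap.lTensor_tmul, sl_tmul, TensorProduct.smul_tmul, smul_eq_mul, mul_one]
    rfl
  | add a b ha hb => rw [map_add, map_add, TensorProduct.add_tmul, ha, hb]

lemma lTensor_comm_eq_sr (x : R →ₐ[k] k) (t : R ⊗[k] A) :
    LinearMap.lTensor A x.toLinearMap (TensorProduct.comm k R A t) = sr x t ⊗ₜ[k] (1 : k) := by
  induction t using TensorProduct.induction_on with
  | zero => simp
  | tmul r a =>
    rw [TensorProduct.comm_tmul, LinearMap.lTensor_tmul, sr_tmul, TensorProduct.smul_tmul,
      smul_eq_mul, mul_one]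
    rfl
  | add a b ha hb => rw [map_add, map_add, map_add, TensorProduct.add_tmul, ha, hb]

lemma isUnit_of_forall_point [IsAlgClosed k] [Algebra.FiniteType k R] (r : R)
    (h : ∀ x : R →ₐ[k] k, x r ≠ 0) : IsUnit r := by
  by_contra hu
  obtain ⟨m, hm, hrm⟩ := exists_max_ideal_of_mem_nonunits (mem_nonunits_iff.mpr hu)
  obtain ⟨x, hx⟩ := CocommDiag.exists_point_of_maximal (k := k) m
  apply h x
  rw [← RingHom.mem_ker, hx]
  exact hrm

lemma idem_trivial_of_connectedSpace [ConnectedSpace (PrimeSpectrum R)] (e : R)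
    (he : IsIdempotentElem e) : e = 0 ∨ e = 1 := by
  have hcl : IsClopen (PrimeSpectrum.basicOpen e : Set (PrimeSpectrum R)) :=
    PrimeSpectrum.isClopen_iff.mpr ⟨e, he, rfl⟩
  rcases isClopen_iff.mp hcl with h0 | h1
  · left
    have h2 : PrimeSpectrum.basicOpen e = PrimeSpectrum.basicOpen (0 : R) := by
      rw [PrimeSpectrum.basicOpen_zero]
      apply TopologicalSpace.Opens.ext
      rw [h0, TopologicalSpace.Opens.coe_bot]
    exact PrimeSpectrum.basicOpen_injOn_isIdempotentElem he IsIdempotentElem.zero h2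
  · right
    have h2 : PrimeSpectrum.basicOpen e = PrimeSpectrum.basicOpen (1 : R) := by
      rw [PrimeSpectrum.basicOpen_one]
      apply TopologicalSpace.Opens.ext
      rw [h1, TopologicalSpace.Opens.coe_top]
    exact PrimeSpectrum.basicOpen_injOn_isIdempotentElem he IsIdempotentElem.one h2

theorem const_of_finite_closed_fibers' {Γ : Type*} {X : Type*} [TopologicalSpace Γ]
    [PreconnectedSpace Γ] (f : Γ → X) (S : Set X)
    (hS : S.Finite) (hf : ∀ g, f g ∈ S) (hcl : ∀ x, IsClosed (f ⁻¹' {x})) (g g' : Γ) :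
    f g = f g' := by
  have hopen : ∀ x, IsOpen (f ⁻¹' {x}) := by
    intro x
    have hE : f ⁻¹' {x} = (⋃ y ∈ S \ {x}, f ⁻¹' {y})ᶜ := by
      ext g
      simp only [Set.mem_preimage, Set.mem_singleton_iff, Set.mem_compl_iff, Set.mem_iUnion,
        Set.mem_diff, not_exists]
      constructor
      · rintro h y ⟨-, hyx⟩ hgy
        exact hyx (hgy.symm.trans h)
      · intro h
        by_contra hne
        exact h (f g) ⟨hf g, hne⟩ rfl
    rw [hE]
    exact (Set.Finite.isClosed_biUnion (hS.subset Set.diff_subset) fun y _ => hcl y).isOpen_compl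
  have hlc : IsLocallyConstant f := IsLocallyConstant.iff_isOpen_fiber.mpr hopen
  exact hlc.apply_eq_of_preconnectedSpace g g'

end Gen

section Cocycle

variable {k : Type u} [Field k] {A : Type v} [CommRing A] [HopfAlgebra k A]
  {R : Type w} [CommRing R] [Algebra k R] [HopfRep.Comod k A R] [GLin.IsCoactAlg k A R]

/-- the point `x` moved by `g` -/
noncomputable def act (x : R →ₐ[k] k) (g : A →ₐ[k] k) : R →ₐ[k] k :=
  (ev x g).comp (GLin.coactAlgHom k A R)

/-- the twisted coaction -/
noncomputable def tw (θ : R ⊗[k] A) : R →ₗ[k] R ⊗[k] A :=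
  (LinearMap.mulRight k θ) ∘ₗ HopfRep.Comod.coact (k := k) (A := A) (V := R)

lemma tw_apply (θ : R ⊗[k] A) (r : R) :
    tw θ r = HopfRep.Comod.coact (k := k) (A := A) r * θ := rfl

lemma tw_one (θ : R ⊗[k] A) : tw θ 1 = θ := by
  rw [tw_apply, GLin.IsCoactAlg.coact_one, one_mul]

theorem cocycle (θ : R ⊗[k] A)
    (hassoc : (TensorProduct.assoc k R A A).toLinearMap ∘ₗ (tw θ).rTensor A ∘ₗ tw θ =
      (CoalgebraStruct.comul (R := k) (A := A)).lTensor R ∘ₗ tw θ)
    (x : R →ₐ[k] k) (g h : A →ₐ[k] k) :
    ev x g θ * ev (act x g) h θ = ev x (cmul g h) θ := by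
  have h1 := congrArg (fun F : R →ₗ[k] R ⊗[k] (A ⊗[k] A) => F 1) hassoc
  simp only [LinearMap.comp_apply, tw_one] at h1
  let E3 : R ⊗[k] (A ⊗[k] A) →ₐ[k] k :=
    Algebra.TensorProduct.lift x (Algebra.TensorProduct.lift g h (fun _ _ => Commute.all _ _))
      (fun _ _ => Commute.all _ _)
  have h2 := congrArg E3 h1
  have hL : ∀ t : R ⊗[k] A, E3 ((TensorProduct.assoc k R A A) ((tw θ).rTensor A t)) =
      ev x g θ * ev (act x g) h t := by
    intro t
    induction t using TensorProduct.induction_on with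
    | zero => simp
    | tmul r a =>
      rw [LinearMap.rTensor_tmul, tw_apply]
      have gen : ∀ s : R ⊗[k] A, E3 ((TensorProduct.assoc k R A A) (s ⊗ₜ[k] a)) =
          ev x g s * h a := by
        intro s
        induction s using TensorProduct.induction_on with
        | zero => simp
        | tmul r' a' => simp [E3, mul_assoc]
        | add s₁ s₂ h₁ h₂ =>
          rw [TensorProduct.add_tmul, map_add, map_add, map_add, h₁, h₂, add_mul]
      rw [gen, map_mul, ev_tmul]
      show ev x g (HopfRep.Comod.coact (k := k) (A := A) r) * ev x g θ * h a =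
        ev x g θ * ((ev x g) (GLin.coactAlgHom k A R r) * h a)
      rw [GLin.coactAlgHom_apply]
      ring
    | add t₁ t₂ h₁ h₂ => rw [map_add, map_add, map_add, map_add, h₁, h₂, mul_add]
  have hR : ∀ t : R ⊗[k] A, E3 ((CoalgebraStruct.comul (R := k) (A := A)).lTensor R t) =
      ev x (cmul g h) t := by
    intro t
    induction t using TensorProduct.induction_on with
    | zero => simp
    | tmul r a =>
      rw [LinearMap.lTensor_tmul, ev_tmul, cmul_apply]
      simp [E3]
    | add t₁ t₂ h₁ h₂ => rw [map_add, map_add, map_add, h₁, h₂]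
  have h3 : E3 ((TensorProduct.assoc k R A A) ((tw θ).rTensor A θ)) =
      E3 ((CoalgebraStruct.comul (R := k) (A := A)).lTensor R θ) := h2
  rw [hL θ, hR θ] at h3
  exact h3

theorem counit_eq (θ : R ⊗[k] A)
    (hcounit : (CoalgebraStruct.counit (R := k) (A := A)).lTensor R ∘ₗ tw θ =
      (TensorProduct.mk k R k).flip 1) (x : R →ₐ[k] k) :
    ev x (cone : A →ₐ[k] k) θ = 1 := by
  have h1 := congrArg (fun F : R →ₗ[k] R ⊗[k] k => F 1) hcounit
  simp only [LinearMap.comp_apply, tw_one, LinearMap.flip_apply, TensorProduct.mk_apply] at h1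
  have h2 : ∀ t : R ⊗[k] A, ev x (cone : A →ₐ[k] k) t =
      (Algebra.TensorProduct.lift x (AlgHom.id k k) (fun _ _ => Commute.all _ _))
        ((CoalgebraStruct.counit (R := k) (A := A)).lTensor R t) := by
    intro t
    induction t using TensorProduct.induction_on with
    | zero => simp
    | tmul r a => simp [cone_apply]
    | add a b ha hb => simp only [map_add, ha, hb]
  rw [h2, h1]
  simp

theorem ev_ne_zero (θ : R ⊗[k] A)
    (hassoc : (TensorProduct.assoc k R A A).toLinearMap ∘ₗ (tw θ).rTensor A ∘ₗ tw θ =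
      (CoalgebraStruct.comul (R := k) (A := A)).lTensor R ∘ₗ tw θ)
    (hcounit : (CoalgebraStruct.counit (R := k) (A := A)).lTensor R ∘ₗ tw θ =
      (TensorProduct.mk k R k).flip 1) (x : R →ₐ[k] k) (g : A →ₐ[k] k) : ev x g θ ≠ 0 := by
  intro h0
  have h1 := cocycle θ hassoc x g (cinv g)
  rw [cmul_cinv, counit_eq θ hcounit, h0, zero_mul] at h1
  exact zero_ne_one h1

end Cocycle

section Main

variable {k : Type u} [Field k] [IsAlgClosed k] [CharZero k] {A : Type v} [CommRing A]
  [HopfAlgebra k A] [Algebra.FiniteType k A]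
  {R : Type w} [CommRing R] [IsReduced R] [Algebra k R] [Algebra.FiniteType k R]
  [HopfRep.Comod k A R] [GLin.IsCoactAlg k A R] [ConnectedSpace (PrimeSpectrum R)]

attribute [local instance] LK.zar

theorem main (θ : R ⊗[k] A)
    (hassoc : (TensorProduct.assoc k R A A).toLinearMap ∘ₗ (tw θ).rTensor A ∘ₗ tw θ =
      (CoalgebraStruct.comul (R := k) (A := A)).lTensor R ∘ₗ tw θ)
    (hcounit : (CoalgebraStruct.counit (R := k) (A := A)).lTensor R ∘ₗ tw θ =
      (TensorProduct.mk k R k).flip 1)
    (h : (∀ u : Aˣ, ∃ (c : k) (χ : A), IsGroupLikeElem k χ ∧ (u : A) = c • χ) ∨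
      (∀ u : Rˣ, (u : R) ∈ Set.range (algebraMap k R))) :
    ∃ χ : A, IsGroupLikeElem k χ ∧ θ = (1 : R) ⊗ₜ[k] χ := by
  classical
  haveI : Nontrivial R := (PrimeSpectrum.nonempty_iff_nontrivial).mp inferInstance
  obtain ⟨m, hm⟩ := Ideal.exists_maximal R
  obtain ⟨o, -⟩ := CocommDiag.exists_point_of_maximal (k := k) m
  have hne := ev_ne_zero θ hassoc hcounit
  have hcone : ∀ x : R →ₐ[k] k, CoalgebraStruct.counit (R := k) (sr x θ) = 1 := by
    intro x
    have h1 := apply_sr x (cone : A →ₐ[k] k) θ
    rw [counit_eq θ hcounit] at h1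
    exact h1
  rcases h with hA | hR
  · -- units of `A` are multiples of characters
    have hgl : ∀ x : R →ₐ[k] k, IsGroupLikeElem k (sr x θ) := by
      intro x
      have hu : IsUnit (sr x θ) :=
        isUnit_of_forall_point _ (fun g => by rw [apply_sr]; exact hne x g)
      obtain ⟨c, χ, hχ, hcχ⟩ := hA hu.unit
      rw [IsUnit.unit_spec] at hcχ
      have h1 := hcone x
      rw [hcχ, map_smul, hχ.counit_eq_one, smul_eq_mul, mul_one] at h1
      rw [hcχ, h1, one_smul]
      exact hχ
    obtain ⟨T, hT⟩ := TensorProduct.exists_finset θ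
    let V : Submodule k A := Submodule.span k ((T.image Prod.snd : Finset A) : Set A)
    have hV : ∀ x : R →ₐ[k] k, sr x θ ∈ V := by
      intro x
      rw [hT, map_sum]
      refine Submodule.sum_mem _ (fun i hi => ?_)
      rw [sr_tmul]
      exact Submodule.smul_mem _ _
        (Submodule.subset_span (Finset.mem_coe.mpr (Finset.mem_image_of_mem _ hi)))
    let Gl : Set A := {χ | IsGroupLikeElem k χ ∧ χ ∈ V}
    have hfin : Gl.Finite := by
      have hli : LinearIndepOn k id Gl :=
        (linearIndepOn_isGroupLikeElem (R := k) (A := A)).mono (fun χ hχ => hχ.1)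
      haveI : Module.Finite k V := Module.Finite.span_of_finite k (Finset.finite_toSet _)
      let fV : Gl → V := fun χ => ⟨χ.1, χ.2.2⟩
      have hliV : LinearIndependent k fV := by
        apply LinearIndependent.of_comp V.subtype
        exact hli
      exact Set.finite_coe_iff.mp hliV.finite
    haveI : PreconnectedSpace (WithConv (R →ₐ[k] k)) :=
      LK.preconnectedSpace_points (idem_trivial_of_connectedSpace)
    let f : WithConv (R →ₐ[k] k) → A := fun x => sr x.ofConv θ
    have hcl : ∀ χ : A, IsClosed (f ⁻¹' {χ}) := by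
      intro χ
      have hE : f ⁻¹' {χ} = {x : WithConv (R →ₐ[k] k) |
          ∀ s ∈ Set.range (fun lam : A →ₗ[k] k =>
            Comod.slice lam θ - algebraMap k R (lam χ)), x.ofConv s = 0} := by
        ext x
        simp only [Set.mem_preimage, Set.mem_singleton_iff, Set.mem_setOf_eq, Set.mem_range,
          forall_exists_index, forall_apply_eq_imp_iff]
        constructor
        · intro hx lam
          have hx' : sr x.ofConv θ = χ := hx
          rw [map_sub, apply_slice, AlgHom.commutes, hx']
          exact sub_self _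
        · intro hx
          show sr x.ofConv θ = χ
          rw [← sub_eq_zero, ← Module.forall_dual_apply_eq_zero_iff k]
          intro lam
          have h1 := hx lam
          rw [map_sub, apply_slice, AlgHom.commutes] at h1
          rw [map_sub]
          exact h1
      rw [hE]
      exact LK.isClosed_vanish _
    have hconst := const_of_finite_closed_fibers' f Gl hfin
      (fun x => ⟨hgl x.ofConv, hV x.ofConv⟩) hcl
    refine ⟨sr o θ, hgl o, ?_⟩
    rw [← sub_eq_zero]
    apply (TensorProduct.comm k R A).injective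
    rw [map_zero]
    apply Dense.eq_zero_of_forall_lTensor_eq_zero (K := k) Set.univ
      (fun a ha => CocommDiag.eq_zero_of_forall_point (k := k) a (fun g => ha g (Set.mem_univ g)))
    intro x _
    rw [lTensor_comm_eq_sr, map_sub, sr_tmul, map_one, one_smul]
    have h1 : sr x θ = sr o θ := hconst (toConv x) (toConv o)
    rw [h1, sub_self, TensorProduct.zero_tmul]
  · -- units of `R` are scalars
    haveI : IsReduced A := CotGr.isReduced_of_charZero k
    have hc : ∀ g : A →ₐ[k] k, ∃ c : k, sl g θ = algebraMap k R c := by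
      intro g
      have hu : IsUnit (sl g θ) :=
        isUnit_of_forall_point _ (fun x => by rw [apply_sl]; exact hne x g)
      obtain ⟨c, hc⟩ := hR hu.unit
      rw [IsUnit.unit_spec] at hc
      exact ⟨c, hc.symm⟩
    choose c hc using hc
    have hev : ∀ (x : R →ₐ[k] k) (g : A →ₐ[k] k), ev x g θ = c g := by
      intro x g
      rw [← apply_sl, hc, AlgHom.commutes]
      rfl
    have hχg : ∀ g : A →ₐ[k] k, g (sr o θ) = c g := by
      intro g
      rw [apply_sr, hev]
    have hsep : ∀ a : A, (∀ f ∈ {f : A →ₗ[k] k | ∃ g : A →ₐ[k] k, f = g.toLinearMap}, f a = 0) →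
        a = 0 := by
      intro a ha
      apply CocommDiag.eq_zero_of_forall_point (k := k)
      intro g
      exact ha g.toLinearMap ⟨g, rfl⟩
    have hθ : θ = (1 : R) ⊗ₜ[k] sr o θ := by
      rw [← sub_eq_zero]
      apply Dense.eq_zero_of_forall_lTensor_eq_zero (K := k) Set.univ
        (fun a ha => CocommDiag.eq_zero_of_forall_point (k := k) a
          (fun g => ha g (Set.mem_univ g)))
      intro g _
      rw [lTensor_eq_sl, map_sub, sl_tmul, hc, hχg, Algebra.algebraMap_eq_smul_one, sub_self,
        TensorProduct.zero_tmul]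
    refine ⟨sr o θ, ⟨hcone o, ?_⟩, hθ⟩
    rw [← sub_eq_zero]
    apply Dense.eq_zero_of_forall_map_eq_zero
      {f : A →ₗ[k] k | ∃ g : A →ₐ[k] k, f = g.toLinearMap}
      {f : A →ₗ[k] k | ∃ g : A →ₐ[k] k, f = g.toLinearMap} hsep hsep
    rintro _ ⟨g, rfl⟩ _ ⟨g', rfl⟩
    have hlid : ∀ t : A ⊗[k] A, TensorProduct.lid k k
        (TensorProduct.map g.toLinearMap g'.toLinearMap t) =
        Algebra.TensorProduct.lift g g' (fun _ _ => Commute.all _ _) t := by
      intro t
      induction t using TensorProduct.induction_on with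
      | zero => simp
      | tmul a b => simp
      | add x y hx hy => rw [map_add, map_add, map_add, hx, hy]
    rw [map_sub, map_sub, sub_eq_zero, hlid, hlid, ← cmul_apply, Algebra.TensorProduct.lift_tmul,
      hχg, hχg, hχg, ← hev o (cmul g g'), ← cocycle θ hassoc o g g', hev, hev]

end Main

end Groth.Agent.H9.LinTriv
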