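import Mathlib

/-! Helper9: a Lipschitz-type estimate for homogeneous functions on ℚ^r (for S17635). -/

namespace Groth.Agent.H9.LipT

/-- the bounding sum -/
noncomputable def S (n : ℕ) (M D : ℝ) : ℝ := (Finset.Icc 1 n).sum (fun q => M ^ (n - q) * D ^ q)

theorem S_nonneg (n : ℕ) {M D : ℝ} (hM : 0 ≤ M) (hD : 0 ≤ D) : 0 ≤ S n M D :=
  Finset.sum_nonneg (fun _ _ => mul_nonneg (pow_nonneg hM _) (pow_nonneg hD _))

theorem S_mono (n : ℕ) {M M' D D' : ℝ} (hM : 0 ≤ M) (hMM : M ≤ M') (hD : 0 ≤ D) (hDD : D ≤ D') :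
    S n M D ≤ S n M' D' :=
  Finset.sum_le_sum (fun _ _ => mul_le_mul (pow_le_pow_left₀ hM hMM _) (pow_le_pow_left₀ hD hDD _)
    (pow_nonneg hD _) (pow_nonneg (hM.trans hMM) _))

theorem S_scale (n : ℕ) (m M D : ℝ) : S n (m * M) (m * D) = m ^ n * S n M D := by
  unfold S
  rw [Finset.mul_sum]
  refine Finset.sum_congr rfl (fun q hq => ?_)
  rw [Finset.mem_Icc] at hq
  rw [mul_pow, mul_pow, ← pow_sub_mul_pow m hq.2]
  ring

/-- the norm of the real vector attached to a rational vector -/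
noncomputable def N {r : ℕ} (v : Fin r → ℚ) : ℝ := ‖(fun j => ((v j : ℚ) : ℝ))‖

theorem N_nonneg {r : ℕ} (v : Fin r → ℚ) : 0 ≤ N v := norm_nonneg _

theorem abs_le_N {r : ℕ} (v : Fin r → ℚ) (j : Fin r) : |((v j : ℚ) : ℝ)| ≤ N v := by
  have := norm_le_pi_norm (fun j => ((v j : ℚ) : ℝ)) j
  rwa [Real.norm_eq_abs] at this

theorem N_le {r : ℕ} (v : Fin r → ℚ) {M : ℝ} (hM : 0 ≤ M) (h : ∀ j, |((v j : ℚ) : ℝ)| ≤ M) :
    N v ≤ M := by
  unfold N
  rw [pi_norm_le_iff_of_nonneg hM]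
  intro j
  rw [Real.norm_eq_abs]
  exact h j

theorem N_smul {r : ℕ} (m : ℚ) (hm : 0 ≤ m) (v : Fin r → ℚ) : N (m • v) = (m : ℝ) * N v := by
  unfold N
  have : (fun j => (((m • v) j : ℚ) : ℝ)) = (m : ℝ) • (fun j => ((v j : ℚ) : ℝ)) := by
    funext j
    simp
  rw [this, norm_smul, Real.norm_eq_abs, abs_of_nonneg (by exact_mod_cast hm)]

section main

variable {r n : ℕ} (f : (Fin r → ℚ) → ℝ) (C : Fin r → ℝ)
  (hdir : ∀ (i : Fin r) (v : Fin r → ℚ) (b : ℕ), 1 ≤ b →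
    |f (v - (b : ℚ) • Pi.single i 1) - f v| ≤ C i * S n (N v) (b : ℝ))

include hdir in
theorem step (i : Fin r) (a : Fin r → ℚ) (z : ℤ) {M D : ℝ} (hM : 0 ≤ M)
    (ha : N a ≤ M) (ha' : N (a - (z : ℚ) • Pi.single i 1) ≤ M) (hz : |(z : ℝ)| ≤ D) :
    |f a - f (a - (z : ℚ) • Pi.single i 1)| ≤ |C i| * S n M D := by
  have hD : 0 ≤ D := (abs_nonneg _).trans hz
  rcases lt_trichotomy z 0 with hneg | hzero | hpos
  · -- z < 0
    set a' := a - (z : ℚ) • Pi.single i 1 with ha'def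
    have hb : 1 ≤ (-z).toNat := by omega
    have hbz : (((-z).toNat : ℕ) : ℚ) = -(z : ℚ) := by
      have : (((-z).toNat : ℕ) : ℤ) = -z := Int.toNat_of_nonneg (by omega)
      exact_mod_cast this
    have haa : a' - (((-z).toNat : ℕ) : ℚ) • Pi.single i 1 = a := by
      rw [hbz, ha'def]
      funext l
      simp
    have h := hdir i a' (-z).toNat hb
    rw [haa] at h
    have hbD : (((-z).toNat : ℕ) : ℝ) ≤ D := by
      have : (((-z).toNat : ℕ) : ℝ) = -(z : ℝ) := by exact_mod_cast hbz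
      rw [this]
      exact (neg_le_abs _).trans hz
    calc |f a - f a'| ≤ C i * S n (N a') (((-z).toNat : ℕ) : ℝ) := h
      _ ≤ |C i| * S n (N a') (((-z).toNat : ℕ) : ℝ) :=
        mul_le_mul_of_nonneg_right (le_abs_self _) (S_nonneg n (N_nonneg _) (Nat.cast_nonneg _))
      _ ≤ |C i| * S n M D :=
        mul_le_mul_of_nonneg_left (S_mono n (N_nonneg _) ha' (Nat.cast_nonneg _) hbD)
          (abs_nonneg _)
  · subst hzero
    have : a - ((0 : ℤ) : ℚ) • Pi.single i 1 = a := by simp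
    rw [this, sub_self, abs_zero]
    exact mul_nonneg (abs_nonneg _) (S_nonneg n hM hD)
  · have hb : 1 ≤ z.toNat := by omega
    have hbz : ((z.toNat : ℕ) : ℚ) = (z : ℚ) := by
      have : ((z.toNat : ℕ) : ℤ) = z := Int.toNat_of_nonneg (by omega)
      exact_mod_cast this
    have h := hdir i a z.toNat hb
    rw [hbz, abs_sub_comm] at h
    have hbD : ((z.toNat : ℕ) : ℝ) ≤ D := by
      have : ((z.toNat : ℕ) : ℝ) = (z : ℝ) := by exact_mod_cast hbz
      rw [this]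
      exact (le_abs_self _).trans hz
    calc |f a - f (a - (z : ℚ) • Pi.single i 1)| ≤ C i * S n (N a) ((z.toNat : ℕ) : ℝ) := h
      _ ≤ |C i| * S n (N a) ((z.toNat : ℕ) : ℝ) :=
        mul_le_mul_of_nonneg_right (le_abs_self _) (S_nonneg n (N_nonneg _) (Nat.cast_nonneg _))
      _ ≤ |C i| * S n M D :=
        mul_le_mul_of_nonneg_left (S_mono n (N_nonneg _) ha (Nat.cast_nonneg _) hbD)
          (abs_nonneg _)

/-- hybrid point: the first `j` coordinates from `w`, the others from `v` -/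
def hyb (v w : Fin r → ℚ) (j : ℕ) : Fin r → ℚ := fun l => if (l : ℕ) < j then w l else v l

theorem hyb_zero (v w : Fin r → ℚ) : hyb v w 0 = v := by
  funext l; simp [hyb]

theorem hyb_top (v w : Fin r → ℚ) : hyb v w r = w := by
  funext l; simp [hyb, l.2]

theorem hyb_succ (v w : Fin r → ℚ) (j : ℕ) (hj : j < r) :
    hyb v w (j + 1) = hyb v w j - (v ⟨j, hj⟩ - w ⟨j, hj⟩) • Pi.single (⟨j, hj⟩ : Fin r) 1 := by
  funext l
  by_cases hl : l = ⟨j, hj⟩
  · subst hl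
    simp [hyb]
  · have hne : (l : ℕ) ≠ j := fun h => hl (Fin.ext h)
    have h1 : ((l : ℕ) < j + 1) ↔ ((l : ℕ) < j) := by omega
    simp [hyb, h1, hl]

theorem N_hyb_le (v w : Fin r → ℚ) (j : ℕ) : N (hyb v w j) ≤ max (N v) (N w) := by
  apply N_le _ (le_max_of_le_left (N_nonneg v))
  intro l
  unfold hyb
  split_ifs
  · exact (abs_le_N w l).trans (le_max_right _ _)
  · exact (abs_le_N v l).trans (le_max_left _ _)

include hdir in
theorem int_case (v w : Fin r → ℚ) (z : Fin r → ℤ) (hz : ∀ l, v l - w l = z l) :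
    |f v - f w| ≤ ((r : ℝ) * ∑ i, |C i|) * S n (max (N v) (N w)) (N (v - w)) := by
  set M := max (N v) (N w) with hMdef
  set D := N (v - w) with hDdef
  have hM : 0 ≤ M := le_max_of_le_left (N_nonneg v)
  have hD : 0 ≤ D := N_nonneg _
  have hS : 0 ≤ S n M D := S_nonneg n hM hD
  have hCi : ∀ i, |C i| ≤ ∑ i, |C i| := fun i =>
    Finset.single_le_sum (f := fun i => |C i|) (fun _ _ => abs_nonneg _) (Finset.mem_univ i)
  have hCnn : 0 ≤ ∑ i, |C i| := Finset.sum_nonneg (fun _ _ => abs_nonneg _)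
  have key : ∀ j : ℕ, j ≤ r → |f v - f (hyb v w j)| ≤ ((j : ℝ) * ∑ i, |C i|) * S n M D := by
    intro j
    induction j with
    | zero =>
      intro _
      rw [hyb_zero, sub_self, abs_zero]
      simp
    | succ j ih =>
      intro hj
      have hj' : j < r := hj
      have h1 := ih (by omega)
      have hzD : |((z ⟨j, hj'⟩ : ℤ) : ℝ)| ≤ D := by
        have := abs_le_N (v - w) ⟨j, hj'⟩
        have hcast : (((v - w) ⟨j, hj'⟩ : ℚ) : ℝ) = ((z ⟨j, hj'⟩ : ℤ) : ℝ) := by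
          rw [Pi.sub_apply, hz]
          push_cast
          rfl
        rwa [hcast] at this
      have h2 := step f C hdir ⟨j, hj'⟩ (hyb v w j) (z ⟨j, hj'⟩) hM (N_hyb_le v w j)
        (by rw [← hz, ← hyb_succ]; exact N_hyb_le v w (j + 1)) hzD
      rw [← hz, ← hyb_succ] at h2
      calc |f v - f (hyb v w (j + 1))|
          ≤ |f v - f (hyb v w j)| + |f (hyb v w j) - f (hyb v w (j + 1))| := abs_sub_le _ _ _
        _ ≤ ((j : ℝ) * ∑ i, |C i|) * S n M D + |C ⟨j, hj'⟩| * S n M D := add_le_add h1 h2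
        _ ≤ ((j : ℝ) * ∑ i, |C i|) * S n M D + (∑ i, |C i|) * S n M D :=
          add_le_add le_rfl (mul_le_mul_of_nonneg_right (hCi _) hS)
        _ = (((j + 1 : ℕ) : ℝ) * ∑ i, |C i|) * S n M D := by push_cast; ring
  have := key r le_rfl
  rwa [hyb_top] at this

end main

theorem exists_common_den {r : ℕ} (u : Fin r → ℚ) :
    ∃ m : ℕ, 0 < m ∧ ∃ z : Fin r → ℤ, ∀ l, (m : ℚ) * u l = z l := by
  refine ⟨∏ l, (u l).den, Finset.prod_pos (fun l _ => (u l).den_pos),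
    fun l => (u l).num * (((∏ l, (u l).den) / (u l).den : ℕ) : ℤ), fun l => ?_⟩
  have hdvd : (u l).den ∣ ∏ l, (u l).den :=
    Finset.dvd_prod_of_mem (fun l => (u l).den) (Finset.mem_univ l)
  obtain ⟨c, hc⟩ := hdvd
  have hden : ((u l).den : ℚ) ≠ 0 := by exact_mod_cast (u l).den_ne_zero
  show ((∏ l, (u l).den : ℕ) : ℚ) * u l =
    (((u l).num * (((∏ l, (u l).den) / (u l).den : ℕ) : ℤ) : ℤ) : ℚ)
  rw [hc, Nat.mul_div_cancel_left c (u l).den_pos]
  push_cast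
  have h1 : u l * ((u l).den : ℚ) = (u l).num := Rat.mul_den_eq_num (u l)
  calc ((u l).den : ℚ) * (c : ℚ) * u l = (u l * ((u l).den : ℚ)) * c := by ring
    _ = (u l).num * c := by rw [h1]

theorem main {r n : ℕ} (f : (Fin r → ℚ) → ℝ)
    (hhom : ∀ (q : ℚ) (v : Fin r → ℚ), 0 < q → f (q • v) = (q : ℝ) ^ n * f v)
    (hdir : ∀ i : Fin r, ∃ Ci : ℝ, ∀ (v : Fin r → ℚ) (b : ℕ), 1 ≤ b →
      |f (v - (b : ℚ) • Pi.single i 1) - f v| ≤ Ci * S n (N v) (b : ℝ)) :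
    ∃ C : ℝ, 0 < C ∧ ∀ v w : Fin r → ℚ,
      |f v - f w| ≤ C * S n (max (N v) (N w)) (N (v - w)) := by
  choose C hC using hdir
  have hCnn : 0 ≤ ∑ i, |C i| := Finset.sum_nonneg (fun _ _ => abs_nonneg _)
  refine ⟨(r : ℝ) * ∑ i, |C i| + 1, by positivity, fun v w => ?_⟩
  obtain ⟨m, hm, z, hz⟩ := exists_common_den (v - w)
  have hmq : (0 : ℚ) < m := by exact_mod_cast hm
  have hmr : (0 : ℝ) < m := by exact_mod_cast hm
  have hz' : ∀ l, ((m : ℚ) • v) l - ((m : ℚ) • w) l = z l := by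
    intro l
    rw [← hz l]
    simp [mul_sub]
  have h := int_case f C hC ((m : ℚ) • v) ((m : ℚ) • w) z hz'
  rw [hhom _ v hmq, hhom _ w hmq, N_smul _ hmq.le, N_smul _ hmq.le, ← smul_sub,
    N_smul _ hmq.le, ← mul_max_of_nonneg _ _ (by exact_mod_cast hmq.le : (0 : ℝ) ≤ ((m : ℚ) : ℝ)),
    S_scale, ← mul_sub, abs_mul, abs_of_pos (by positivity : (0 : ℝ) < ((m : ℚ) : ℝ) ^ n)] at h
  have hpos : (0 : ℝ) < ((m : ℚ) : ℝ) ^ n := by positivity
  have h2 : |f v - f w| ≤ ((r : ℝ) * ∑ i, |C i|) * S n (max (N v) (N w)) (N (v - w)) := by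
    have h3 : ((m : ℚ) : ℝ) ^ n * |f v - f w| ≤
        ((m : ℚ) : ℝ) ^ n * (((r : ℝ) * ∑ i, |C i|) * S n (max (N v) (N w)) (N (v - w))) := by
      calc ((m : ℚ) : ℝ) ^ n * |f v - f w| ≤ _ := h
        _ = _ := by ring
    exact le_of_mul_le_mul_left h3 hpos
  have hS : 0 ≤ S n (max (N v) (N w)) (N (v - w)) :=
    S_nonneg n (le_max_of_le_left (N_nonneg v)) (N_nonneg _)
  calc |f v - f w| ≤ ((r : ℝ) * ∑ i, |C i|) * S n (max (N v) (N w)) (N (v - w)) := h2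
    _ ≤ ((r : ℝ) * ∑ i, |C i| + 1) * S n (max (N v) (N w)) (N (v - w)) :=
      mul_le_mul_of_nonneg_right (by linarith) hS

end Groth.Agent.H9.LipT
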