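import Mathlib

/-! Helper9: irreducible components of a closed subset of a locally noetherian scheme are locally finite (S1693) -/

namespace Groth.Agent.H9.LocFinComp

open AlgebraicGeometry CategoryTheory TopologicalSpace

universe u

theorem main (X : Scheme.{u}) [IsLocallyNoetherian X] (Z : Set ↥X) (hZ : IsClosed Z) :
    LocallyFinite (fun T : ↥(irreducibleComponents ↥Z) => ((↑) '' (T.1 : Set ↥Z) : Set ↥X)) := by
  intro x
  obtain ⟨U, hU, hxU, -⟩ := exists_isAffineOpen_mem_and_subset (x := x) (U := ⊤) trivial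
  have hN : IsNoetherianRing Γ(X, U) := IsLocallyNoetherian.component_noetherian ⟨U, hU⟩
  have hNU : NoetherianSpace U := noetherianSpace_of_isAffineOpen U hU
  refine ⟨U, U.2.mem_nhds hxU, ?_⟩
  -- V = Z ∩ U as an open subset of Z
  let V : Set ↥Z := (Subtype.val : ↥Z → X) ⁻¹' (U : Set X)
  have hVo : IsOpen V := U.2.preimage continuous_subtype_val
  have hj : Topology.IsOpenEmbedding (Subtype.val : ↥V → ↥Z) := hVo.isOpenEmbedding_subtypeVal
  -- ↥V is noetherian
  let i : ↥V → ↥U := fun v => ⟨v.1.1, v.2⟩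
  have hi : Topology.IsInducing i := by
    have h1 : Topology.IsInducing (fun v : ↥V => (v.1.1 : X)) :=
      Topology.IsInducing.subtypeVal.comp Topology.IsInducing.subtypeVal
    have h2 : (fun v : ↥V => (v.1.1 : X)) = (Subtype.val : ↥U → X) ∘ i := rfl
    rw [h2] at h1
    exact Topology.IsInducing.of_comp
      ((continuous_subtype_val.comp continuous_subtype_val).subtype_mk _)
      continuous_subtype_val h1
  have hNV : NoetherianSpace ↥V := @Topology.IsInducing.noetherianSpace _ _ _ _ hNU _ hi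
  have hfin : Finite ↥(irreducibleComponents ↥V) :=
    (NoetherianSpace.finite_irreducibleComponents (α := ↥V)).to_subtype
  let S : Set ↥(irreducibleComponents ↥Z) :=
    {T | (((↑) '' (T.1 : Set ↥Z) : Set ↥X) ∩ (U : Set X)).Nonempty}
  have hmeet : ∀ T : S, ((T.1.1 : Set ↥Z) ∩ Set.range (Subtype.val : ↥V → ↥Z)).Nonempty := by
    rintro ⟨T, hT⟩
    obtain ⟨_, ⟨z, hz, rfl⟩, hzU⟩ := hT
    exact ⟨z, hz, ⟨⟨z, hzU⟩, rfl⟩⟩
  let g : S → ↥(irreducibleComponents ↥V) := fun T =>
    ⟨(Subtype.val : ↥V → ↥Z) ⁻¹' T.1.1, preimage_mem_irreducibleComponents T.1.2 hj (hmeet T)⟩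
  have hg : Function.Injective g := by
    intro T T' h
    have h' : (Subtype.val : ↥V → ↥Z) ⁻¹' T.1.1 = (Subtype.val : ↥V → ↥Z) ⁻¹' T'.1.1 :=
      congrArg Subtype.val h
    have e1 := closure_image_preimage_of_isPreirreducible (Subtype.val : ↥V → ↥Z) hj.isOpenMap
      T.1.1 (by
        obtain ⟨z, hz, ⟨v, rfl⟩⟩ := hmeet T
        exact ⟨v, hz⟩) T.1.2.1.2 (isClosed_of_mem_irreducibleComponents _ T.1.2)
    have e2 := closure_image_preimage_of_isPreirreducible (Subtype.val : ↥V → ↥Z) hj.isOpenMap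
      T'.1.1 (by
        obtain ⟨z, hz, ⟨v, rfl⟩⟩ := hmeet T'
        exact ⟨v, hz⟩) T'.1.2.1.2 (isClosed_of_mem_irreducibleComponents _ T'.1.2)
    rw [h'] at e1
    have : T.1.1 = T'.1.1 := e1.symm.trans e2
    exact Subtype.ext (Subtype.ext this)
  have : Finite S := Finite.of_injective g hg
  exact Set.toFinite S

end Groth.Agent.H9.LocFinComp
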