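import Mathlib

/-! Helper9: locally finite irreducible components along generalizing maps with finite fibres (S4651) -/

namespace Groth.Agent.H9.LocFinIrr

open AlgebraicGeometry CategoryTheory TopologicalSpace

universe u

theorem eq_of_specializes_genericPoints {α : Type*} [TopologicalSpace α] [T0Space α]
    {x x' : α} (hx : closure ({x} : Set α) ∈ irreducibleComponents α) (h : x' ⤳ x) : x' = x := by
  have h1 : closure ({x} : Set α) ⊆ closure ({x'} : Set α) := specializes_iff_closure_subset.mp h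
  have h2 : IsIrreducible (closure ({x'} : Set α)) := isIrreducible_singleton.closure
  have h3 : closure ({x'} : Set α) ⊆ closure ({x} : Set α) := hx.2 h2 h1
  have h4 : closure ({x'} : Set α) = closure ({x} : Set α) := le_antisymm h3 h1
  exact IsGenericPoint.eq (S := closure ({x} : Set α)) h4 rfl

theorem mem_genericPoints_of_maximal {α : Type*} [TopologicalSpace α] [T0Space α] [QuasiSober α]
    {y₀ : α} (h : ∀ y', y' ⤳ y₀ → y' = y₀) :
    closure ({y₀} : Set α) ∈ irreducibleComponents α := by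
  refine ⟨isIrreducible_singleton.closure, ?_⟩
  intro s hs hle
  have hζ := hs.isGenericPoint_genericPoint_closure
  have h1 : y₀ ∈ closure s := subset_closure (hle (subset_closure rfl))
  have h2 : hs.genericPoint ⤳ y₀ := hζ.specializes h1
  have h3 := h _ h2
  have h4 : closure ({y₀} : Set α) = closure s := by rw [← h3]; exact hζ
  show s ⊆ closure ({y₀} : Set α)
  rw [h4]; exact subset_closure

theorem main {X Y : Scheme.{u}} (f : X ⟶ Y)
    (hY : ∀ y : Y, ∃ U : Set ↥Y, IsOpen U ∧ y ∈ U ∧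
      {Z ∈ irreducibleComponents ↥Y | (Z ∩ U).Nonempty}.Finite)
    (hf : GeneralizingMap ⇑f) (hfin : ∀ y : Y, (⇑f ⁻¹' {y}).Finite) (x : X) :
    ∃ U : Set ↥X, IsOpen U ∧ x ∈ U ∧
      {T ∈ irreducibleComponents ↥X | (T ∩ U).Nonempty}.Finite := by
  obtain ⟨U, hUo, hyU, hUfin⟩ := hY (f x)
  refine ⟨f ⁻¹' U, hUo.preimage f.continuous, hyU, ?_⟩
  let G : Set Y := (fun y' : Y => closure ({y'} : Set Y)) ⁻¹'
    {Z ∈ irreducibleComponents ↥Y | (Z ∩ U).Nonempty}
  have hG : G.Finite := by
    apply Set.Finite.preimage _ hUfin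
    intro a _ b _ hab
    exact IsGenericPoint.eq (S := closure ({b} : Set Y)) hab rfl
  have hF : (f ⁻¹' G).Finite := by
    have : f ⁻¹' G = ⋃ y' ∈ G, f ⁻¹' {y'} := by
      ext a; simp
    rw [this]
    exact hG.biUnion (fun y' _ => hfin y')
  apply Set.Finite.subset (hF.image (fun ξ : X => closure ({ξ} : Set X)))
  rintro T ⟨hT, hTW⟩
  have hTc : IsClosed T := isClosed_of_mem_irreducibleComponents T hT
  have hξ := hT.1.isGenericPoint_genericPoint hTc
  set ξ := hT.1.genericPoint with hξdef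
  have hξW : ξ ∈ f ⁻¹' U := (hξ.mem_open_set_iff (hUo.preimage f.continuous)).mpr hTW
  have hξT : closure ({ξ} : Set X) = T := hξ
  refine ⟨ξ, ?_, hξT⟩
  show closure ({f ξ} : Set Y) ∈ {Z ∈ irreducibleComponents ↥Y | (Z ∩ U).Nonempty}
  refine ⟨?_, ⟨f ξ, subset_closure rfl, hξW⟩⟩
  apply mem_genericPoints_of_maximal
  intro y' hy'
  obtain ⟨x', hx', hfx'⟩ := hf hy'
  have : x' = ξ := eq_of_specializes_genericPoints (by rw [hξT]; exact hT) hx'
  rw [← hfx', this]

end Groth.Agent.H9.LocFinIrr
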