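import Mathlib
import Groth.Agent.Lib.Helper9.Misc.MDP6
import Groth.Agent.Lib.Helper9.Misc.MDP8

/-! Helper9: S18737 — splitting a modulus pair along a decomposition of its interior. -/

set_option linter.style.haveILetI false
set_option linter.unusedSectionVars false
set_option linter.unusedVariables false

universe u
open CategoryTheory Limits AlgebraicGeometry TopologicalSpace Opposite

namespace Groth.Agent.H9.MDP

variable {X : Scheme.{u}}

/-- a clopen piece of an open with affine inclusion has quasi-compact inclusion. -/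
theorem quasiCompact_of_disjoint_sup (U U₀ U₁ : X.Opens) [IsAffineHom U.ι] (hU : U₀ ⊔ U₁ = U)
    (hd : Disjoint U₀ U₁) : QuasiCompact U₀.ι := by
  rw [quasiCompact_iff_forall_isAffineOpen]
  intro V hV
  have h1 : IsCompact ((U : Set X) ∩ V) := by
    have h2 : IsCompact ((U.ι ⁻¹ᵁ V : U.toScheme.Opens) : Set U.toScheme) :=
      (hV.preimage U.ι).isCompact
    have h3 := h2.image U.ι.continuous
    convert h3 using 1
    ext x
    constructor
    · rintro ⟨hxU, hxV⟩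
      exact ⟨⟨x, hxU⟩, hxV, rfl⟩
    · rintro ⟨y, hy, rfl⟩
      exact ⟨y.2, hy⟩
  have h4 : IsCompact (((U : Set X) ∩ V) ∩ (U₁ : Set X)ᶜ) :=
    h1.inter_right U₁.isOpen.isClosed_compl
  have h5 : ((U : Set X) ∩ V) ∩ (U₁ : Set X)ᶜ = (U₀ : Set X) ∩ V := by
    ext x
    have hd' : x ∈ U₀ → x ∉ U₁ := fun h0 h1 => (hd.le_bot ⟨h0, h1⟩ : x ∈ (⊥ : X.Opens))
    have hU' : x ∈ U ↔ (x ∈ U₀ ∨ x ∈ U₁) := by rw [← hU]; rfl
    simp only [Set.mem_inter_iff, SetLike.mem_coe, Set.mem_compl_iff, hU']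
    tauto
  rw [h5] at h4
  have h6 : (U₀.ι ⁻¹ᵁ V : Set U₀.toScheme) = U₀.ι ⁻¹' ((U₀ : Set X) ∩ V) := by
    ext x
    simp only [Opens.map_coe, Set.mem_preimage, SetLike.mem_coe, Set.mem_inter_iff]
    exact ⟨fun h => ⟨x.2, h⟩, fun h => h.2⟩
  rw [h6]
  refine U₀.ι.isOpenEmbedding.isInducing.isCompact_preimage' h4 ?_
  rw [Scheme.Opens.range_ι]
  exact Set.inter_subset_left

/-- the closed immersion of the scheme-theoretic closure of `U` is an isomorphism over any open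
contained in `U`. -/
theorem isIso_imageι_restrict_of_le (U W : X.Opens) (h : W ≤ U) : IsIso (U.ι.imageι ∣_ W) := by
  have hr : Set.range (X.homOfLE h ≫ U.ι.toImage) ⊆ Set.range (U.ι.imageι ⁻¹ᵁ W).ι := by
    rintro _ ⟨x, rfl⟩
    rw [Scheme.Opens.range_ι]
    change U.ι.imageι ((X.homOfLE h ≫ U.ι.toImage) x) ∈ W
    rw [← Scheme.Hom.comp_apply, Category.assoc, Scheme.Hom.toImage_imageι, X.homOfLE_ι]
    exact x.2
  let t := IsOpenImmersion.lift (U.ι.imageι ⁻¹ᵁ W).ι (X.homOfLE h ≫ U.ι.toImage) hr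
  have ht : t ≫ (U.ι.imageι ⁻¹ᵁ W).ι = X.homOfLE h ≫ U.ι.toImage :=
    IsOpenImmersion.lift_fac _ _ _
  have hsec : t ≫ (U.ι.imageι ∣_ W) = 𝟙 _ := by
    rw [← cancel_mono W.ι, Category.assoc, morphismRestrict_ι, reassoc_of% ht,
      Scheme.Hom.toImage_imageι, X.homOfLE_ι, Category.id_comp]
  haveI : IsSplitEpi (U.ι.imageι ∣_ W) := ⟨⟨t, hsec⟩⟩
  haveI : Mono (U.ι.imageι ∣_ W) := inferInstance
  exact isIso_of_mono_of_isSplitEpi _

/-- the scheme-theoretic closure of `U` lies in the topological closure. -/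
theorem imageι_mem_closure (U : X.Opens) [QuasiCompact U.ι] (z : U.ι.image) :
    U.ι.imageι z ∈ closure (U : Set X) := by
  have h1 : U.ι.imageι z ∈ Set.range U.ι.imageι := ⟨z, rfl⟩
  rw [Scheme.IdealSheafData.range_subschemeι, Scheme.Hom.support_ker,
    Scheme.Opens.range_ι] at h1
  exact h1

theorem imageι_notMem_of_disjoint (U₀ U₁ : X.Opens) [QuasiCompact U₁.ι] (hd : Disjoint U₀ U₁)
    (z : U₁.ι.image) : U₁.ι.imageι z ∉ U₀ := by
  intro hz
  have h1 := imageι_mem_closure U₁ z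
  have hd' : Disjoint (closure (U₁ : Set X)) (U₀ : Set X) := by
    refine Disjoint.closure_left ?_ U₀.isOpen
    rw [Set.disjoint_iff]
    intro x hx
    exact (hd.le_bot ⟨hx.2, hx.1⟩ : x ∈ (⊥ : X.Opens))
  exact Set.disjoint_left.mp hd' h1 hz

section Split
variable (U₀ U₁ : X.Opens)

/-- the map from the disjoint union of the two closures. -/
noncomputable abbrev splitMap : (U₀.ι.image ⨿ U₁.ι.image : Scheme.{u}) ⟶ X :=
  coprod.desc U₀.ι.imageι U₁.ι.imageι

theorem isIso_splitMap_restrict_left [QuasiCompact U₁.ι] (hd : Disjoint U₀ U₁) (W : X.Opens)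
    (hW : W ≤ U₀) : IsIso (splitMap U₀ U₁ ∣_ W) := by
  have e : U₀.ι.imageι ⁻¹ᵁ W ≤ (coprod.inl : U₀.ι.image ⟶ U₀.ι.image ⨿ U₁.ι.image) ⁻¹ᵁ
      (splitMap U₀ U₁ ⁻¹ᵁ W) := by
    rw [← Scheme.Hom.comp_preimage, coprod.inl_desc]
  let r := (coprod.inl : U₀.ι.image ⟶ U₀.ι.image ⨿ U₁.ι.image).resLE _ _ e
  have hr : r ≫ (splitMap U₀ U₁ ⁻¹ᵁ W).ι = (U₀.ι.imageι ⁻¹ᵁ W).ι ≫ coprod.inl :=
    Scheme.Hom.resLE_comp_ι _ _
  haveI : IsOpenImmersion (r ≫ (splitMap U₀ U₁ ⁻¹ᵁ W).ι) := by rw [hr]; infer_instance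
  haveI : IsOpenImmersion r := IsOpenImmersion.of_comp r (splitMap U₀ U₁ ⁻¹ᵁ W).ι
  have hsurj : r.opensRange = ⊤ := by
    rw [eq_top_iff]
    intro z _
    obtain ⟨c, hc⟩ := (coprodMk U₀.ι.image U₁.ι.image).surjective z.1
    rcases c with a | b
    · rw [coprodMk_inl] at hc
      have hz' : U₀.ι.imageι a ∈ W := by
        have h0 : splitMap U₀ U₁ z.1 ∈ W := z.2
        rw [← hc, ← Scheme.Hom.comp_apply, coprod.inl_desc] at h0
        exact h0
      refine ⟨⟨a, hz'⟩, Subtype.ext ?_⟩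
      change (r ≫ (splitMap U₀ U₁ ⁻¹ᵁ W).ι) ⟨a, hz'⟩ = z.1
      rw [hr, ← hc]
      rfl
    · exfalso
      rw [coprodMk_inr] at hc
      have h0 : splitMap U₀ U₁ z.1 ∈ W := z.2
      rw [← hc, ← Scheme.Hom.comp_apply, coprod.inr_desc] at h0
      exact imageι_notMem_of_disjoint U₀ U₁ hd b (hW h0)
  haveI : IsIso r := isIso_of_isOpenImmersion_of_opensRange_eq_top r hsurj
  have hfac : r ≫ (splitMap U₀ U₁ ∣_ W) = U₀.ι.imageι ∣_ W := by
    rw [← cancel_mono W.ι, Category.assoc, morphismRestrict_ι, reassoc_of% hr, coprod.inl_desc,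
      morphismRestrict_ι]
  haveI := isIso_imageι_restrict_of_le U₀ W hW
  have : splitMap U₀ U₁ ∣_ W = inv r ≫ (U₀.ι.imageι ∣_ W) := by
    rw [← hfac, IsIso.inv_hom_id_assoc]
  rw [this]
  infer_instance

theorem isIso_splitMap_restrict_right [QuasiCompact U₀.ι] (hd : Disjoint U₀ U₁) (W : X.Opens)
    (hW : W ≤ U₁) : IsIso (splitMap U₀ U₁ ∣_ W) := by
  have e : U₁.ι.imageι ⁻¹ᵁ W ≤ (coprod.inr : U₁.ι.image ⟶ U₀.ι.image ⨿ U₁.ι.image) ⁻¹ᵁ
      (splitMap U₀ U₁ ⁻¹ᵁ W) := by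
    rw [← Scheme.Hom.comp_preimage, coprod.inr_desc]
  let r := (coprod.inr : U₁.ι.image ⟶ U₀.ι.image ⨿ U₁.ι.image).resLE _ _ e
  have hr : r ≫ (splitMap U₀ U₁ ⁻¹ᵁ W).ι = (U₁.ι.imageι ⁻¹ᵁ W).ι ≫ coprod.inr :=
    Scheme.Hom.resLE_comp_ι _ _
  haveI : IsOpenImmersion (r ≫ (splitMap U₀ U₁ ⁻¹ᵁ W).ι) := by rw [hr]; infer_instance
  haveI : IsOpenImmersion r := IsOpenImmersion.of_comp r (splitMap U₀ U₁ ⁻¹ᵁ W).ι
  have hsurj : r.opensRange = ⊤ := by
    rw [eq_top_iff]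
    intro z _
    obtain ⟨c, hc⟩ := (coprodMk U₀.ι.image U₁.ι.image).surjective z.1
    rcases c with a | b
    · exfalso
      rw [coprodMk_inl] at hc
      have h0 : splitMap U₀ U₁ z.1 ∈ W := z.2
      rw [← hc, ← Scheme.Hom.comp_apply, coprod.inl_desc] at h0
      exact imageι_notMem_of_disjoint U₁ U₀ hd.symm a (hW h0)
    · rw [coprodMk_inr] at hc
      have hz' : U₁.ι.imageι b ∈ W := by
        have h0 : splitMap U₀ U₁ z.1 ∈ W := z.2
        rw [← hc, ← Scheme.Hom.comp_apply, coprod.inr_desc] at h0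
        exact h0
      refine ⟨⟨b, hz'⟩, Subtype.ext ?_⟩
      change (r ≫ (splitMap U₀ U₁ ⁻¹ᵁ W).ι) ⟨b, hz'⟩ = z.1
      rw [hr, ← hc]
      rfl
  haveI : IsIso r := isIso_of_isOpenImmersion_of_opensRange_eq_top r hsurj
  have hfac : r ≫ (splitMap U₀ U₁ ∣_ W) = U₁.ι.imageι ∣_ W := by
    rw [← cancel_mono W.ι, Category.assoc, morphismRestrict_ι, reassoc_of% hr, coprod.inr_desc,
      morphismRestrict_ι]
  haveI := isIso_imageι_restrict_of_le U₁ W hW
  have : splitMap U₀ U₁ ∣_ W = inv r ≫ (U₁.ι.imageι ∣_ W) := by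
    rw [← hfac, IsIso.inv_hom_id_assoc]
  rw [this]
  infer_instance

end Split

section Two
variable (A B : Scheme.{u})

/-- the two summands as a `Bool`-indexed family. -/
def Uf : Bool → Scheme.{u}
  | true => A
  | false => B

/-- the two coprojections as a `Bool`-indexed family. -/
noncomputable def jf : ∀ b, Uf A B b ⟶ (A ⨿ B : Scheme.{u})
  | true => coprod.inl
  | false => coprod.inr

instance : ∀ b, IsOpenImmersion (jf A B b)
  | true => inferInstanceAs (IsOpenImmersion (coprod.inl : A ⟶ A ⨿ B))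
  | false => inferInstanceAs (IsOpenImmersion (coprod.inr : B ⟶ A ⨿ B))

theorem jf_cov (x : (A ⨿ B : Scheme.{u})) : ∃ (b : Bool) (y : Uf A B b), jf A B b y = x := by
  obtain ⟨c, hc⟩ := (coprodMk A B).surjective x
  rcases c with a | b
  · rw [coprodMk_inl] at hc
    exact ⟨true, a, hc⟩
  · rw [coprodMk_inr] at hc
    exact ⟨false, b, hc⟩

end Two

theorem S18737_main (I : X.IdealSheafData) (hI : BlowUp.IsEffCartierIdeal I)
    (U₀ U₁ : X.Opens) (hU : U₀ ⊔ U₁ = ModPair.interior I) (hd : Disjoint U₀ U₁) :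
    BlowUp.IsEffCartierIdeal (I.comap (coprod.desc U₀.ι.imageι U₁.ι.imageι)) ∧
      ModPair.IsAdmBlowup (I.comap (coprod.desc U₀.ι.imageι U₁.ι.imageι)) I
        (coprod.desc U₀.ι.imageι U₁.ι.imageι) := by
  haveI aff : IsAffineHom (ModPair.interior I).ι :=
    Groth.Agent.LD.QC.isAffineHom_compl_of_locPrincipal I (fun x _ => by
      obtain ⟨U, hx, a, _, h⟩ := hI x
      exact ⟨U, hx, a, h⟩)
  haveI qc₀ : QuasiCompact U₀.ι := quasiCompact_of_disjoint_sup (ModPair.interior I) U₀ U₁ hU hd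
  haveI qc₁ : QuasiCompact U₁.ι :=
    quasiCompact_of_disjoint_sup (ModPair.interior I) U₁ U₀ (by rw [sup_comm]; exact hU) hd.symm
  have hle₀ : U₀ ≤ ModPair.interior I := hU ▸ le_sup_left
  have hle₁ : U₁ ≤ ModPair.interior I := hU ▸ le_sup_right
  refine ⟨?_, rfl, inferInstance, ?_⟩
  · refine isEffCartierIdeal_of_comap (Uf U₀.ι.image U₁.ι.image) (jf U₀.ι.image U₁.ι.image)
      (jf_cov _ _) _ ?_
    rintro (_ | _)
    · change BlowUp.IsEffCartierIdeal ((I.comap (splitMap U₀ U₁)).comap coprod.inr)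
      rw [← Scheme.IdealSheafData.comap_comp, coprod.inr_desc]
      haveI := dominant_preimage_image U₁
      haveI : IsSchemeTheoreticallyDominant (U₁.ι.imageι ⁻¹ᵁ I.support.compl).ι :=
        dominant_of_le (Scheme.Hom.preimage_mono _ hle₁)
      exact Groth.Agent.LD.QC.isEffCartierIdeal_comap_of_dense I hI _
    · change BlowUp.IsEffCartierIdeal ((I.comap (splitMap U₀ U₁)).comap coprod.inl)
      rw [← Scheme.IdealSheafData.comap_comp, coprod.inl_desc]
      haveI := dominant_preimage_image U₀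
      haveI : IsSchemeTheoreticallyDominant (U₀.ι.imageι ⁻¹ᵁ I.support.compl).ι :=
        dominant_of_le (Scheme.Hom.preimage_mono _ hle₀)
      exact Groth.Agent.LD.QC.isEffCartierIdeal_comap_of_dense I hI _
  · change MorphismProperty.isomorphisms Scheme.{u} (splitMap U₀ U₁ ∣_ ModPair.interior I)
    refine IsZariskiLocalAtTarget.of_iSup_eq_top (P := MorphismProperty.isomorphisms Scheme.{u})
      (fun b : Bool => (ModPair.interior I).ι ⁻¹ᵁ (cond b U₀ U₁)) ?_ ?_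
    · rw [eq_top_iff]
      rintro ⟨x, hx⟩ -
      rw [← hU] at hx
      simp only [Opens.iSup_mk, Opens.carrier_eq_coe, Opens.mem_mk, Set.mem_iUnion]
      rcases hx with h0 | h1
      · exact ⟨true, h0⟩
      · exact ⟨false, h1⟩
    · intro b
      rw [(MorphismProperty.isomorphisms Scheme.{u}).arrow_mk_iso_iff
        (morphismRestrictRestrict (splitMap U₀ U₁) (ModPair.interior I) _)]
      have hWle : (ModPair.interior I).ι ''ᵁ ((ModPair.interior I).ι ⁻¹ᵁ (cond b U₀ U₁)) ≤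
          cond b U₀ U₁ := by
        rw [Scheme.Hom.image_preimage_eq_opensRange_inf]
        exact inf_le_right
      cases b
      · exact isIso_splitMap_restrict_right U₀ U₁ hd _ hWle
      · exact isIso_splitMap_restrict_left U₀ U₁ hd _ hWle

end Groth.Agent.H9.MDP
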