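import Mathlib
import Groth.Agent.Lib.Helper9.Misc.MDP1

/-! Helper9: the ideal sheaf on a disjoint union restricting to given ideal sheaves on the summands. -/

set_option linter.style.haveILetI false
set_option linter.unusedSectionVars false
set_option linter.unusedVariables false

universe u
open CategoryTheory Limits AlgebraicGeometry TopologicalSpace Opposite

namespace Groth.Agent.H9.MDP

section Sig
variable {σ : Type u} (X : σ → Scheme.{u}) (I : ∀ i, (X i).IdealSheafData)

/-- the disjoint union of the closed subschemes, mapping to the disjoint union. -/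
noncomputable def sigmaSub : (∐ fun i => (I i).subscheme) ⟶ ∐ X :=
  Limits.Sigma.map (fun i => (I i).subschemeι)

@[reassoc (attr := simp)]
theorem ι_sigmaSub (i : σ) :
    Sigma.ι (fun i => (I i).subscheme) i ≫ sigmaSub X I = (I i).subschemeι ≫ Sigma.ι X i :=
  Limits.Sigma.ι_map _ _

theorem preimage_opensRange_sigmaSub (i : σ) :
    sigmaSub X I ⁻¹ᵁ (Sigma.ι X i).opensRange =
      (Sigma.ι (fun i => (I i).subscheme) i).opensRange := by
  ext z
  obtain ⟨⟨j, w⟩, rfl⟩ := (sigmaMk (fun i => (I i).subscheme)).surjective z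
  rw [sigmaMk_mk]
  constructor
  · intro hz
    change sigmaSub X I (Sigma.ι (fun i => (I i).subscheme) j w) ∈ (Sigma.ι X i).opensRange at hz
    rw [← Scheme.Hom.comp_apply, ι_sigmaSub, Scheme.Hom.comp_apply] at hz
    obtain ⟨y, hy⟩ := hz
    obtain ⟨rfl⟩ := (sigmaι_eq_iff _ _ _ _ _).mp hy
    exact ⟨w, rfl⟩
  · rintro ⟨w', hw'⟩
    have hj := (sigmaι_eq_iff _ _ _ _ _).mp hw'
    obtain rfl : i = j := congrArg Sigma.fst hj
    change sigmaSub X I (Sigma.ι (fun i => (I i).subscheme) i w) ∈ (Sigma.ι X i).opensRange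
    rw [← Scheme.Hom.comp_apply, ι_sigmaSub, Scheme.Hom.comp_apply]
    exact ⟨_, rfl⟩

theorem isPullback_sigmaSub (i : σ) :
    IsPullback (I i).subschemeι (Sigma.ι (fun i => (I i).subscheme) i) (Sigma.ι X i)
      (sigmaSub X I) :=
  IsOpenImmersion.isPullback _ _ _ _ (ι_sigmaSub X I i) (preimage_opensRange_sigmaSub X I i)

set_option backward.isDefEq.respectTransparency false in
instance isClosedImmersion_sigmaSub : IsClosedImmersion (sigmaSub X I) := by
  refine IsZariskiLocalAtTarget.of_openCover (P := @IsClosedImmersion) (sigmaOpenCover X) ?_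
  intro i
  rw [← MorphismProperty.cancel_left_of_respectsIso @IsClosedImmersion
    (isPullback_sigmaSub X I i).flip.isoPullback.hom]
  convert! (inferInstance : IsClosedImmersion (I i).subschemeι)
  exact (isPullback_sigmaSub X I i).flip.isoPullback_hom_snd

/-- the ideal sheaf on the disjoint union restricting to `I i` on each summand. -/
noncomputable def sigmaIdeal : (∐ X).IdealSheafData := (sigmaSub X I).ker

theorem sigmaIdeal_comap (i : σ) : (sigmaIdeal X I).comap (Sigma.ι X i) = I i := by
  unfold sigmaIdeal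
  rw [← Scheme.IdealSheafData.ker_fst_of_isClosedImmersion (sigmaSub X I) (Sigma.ι X i)]
  have h := (isPullback_sigmaSub X I i)
  have e : h.isoPullback.hom ≫ pullback.fst (Sigma.ι X i) (sigmaSub X I) = (I i).subschemeι :=
    h.isoPullback_hom_fst
  rw [← Scheme.Hom.ker_comp_of_isIso h.isoPullback.hom, e,
    Scheme.IdealSheafData.ker_subschemeι]

end Sig

end Groth.Agent.H9.MDP
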