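import Mathlib
import Groth.Agent.Lib.Helper9.Misc.MDP5
import Groth.Agent.Lib.Helper9.Misc.MDP6

/-! Helper9: S18747 — coproducts of modulus pairs. -/

set_option linter.style.haveILetI false
set_option linter.unusedSectionVars false
set_option linter.unusedVariables false

universe u
open CategoryTheory Limits AlgebraicGeometry TopologicalSpace Opposite

namespace Groth.Agent.H9.MDP

section Cop
variable {σ : Type u} (F : Discrete σ ⥤ ModPair.Pair.{u})

/-- total spaces of the family. -/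
abbrev tot (i : σ) : Scheme.{u} := (F.obj ⟨i⟩).total

/-- moduli of the family. -/
abbrev md (i : σ) : (tot F i).IdealSheafData := (F.obj ⟨i⟩).mod

theorem sigma_cov (x : (∐ tot F : Scheme.{u})) : ∃ (i : σ) (y : tot F i), Sigma.ι (tot F) i y = x := by
  obtain ⟨⟨i, y⟩, rfl⟩ := (sigmaMk (tot F)).surjective x
  exact ⟨i, y, (sigmaMk_mk _ i y).symm⟩

theorem isEffCartier_sigmaIdeal : BlowUp.IsEffCartierIdeal (sigmaIdeal (tot F) (md F)) := by
  refine isEffCartierIdeal_of_comap (tot F) (Sigma.ι (tot F)) (sigma_cov F) _ ?_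
  intro i
  rw [sigmaIdeal_comap]
  exact (F.obj ⟨i⟩).isEffCartier

/-- the coproduct modulus pair. -/
noncomputable def sigmaPair : ModPair.Pair.{u} :=
  ⟨∐ tot F, sigmaIdeal (tot F) (md F), isEffCartier_sigmaIdeal F⟩

/-- the inclusions. -/
noncomputable def sigmaInj (i : σ) : F.obj ⟨i⟩ ⟶ sigmaPair F :=
  ⟨Sigma.ι (tot F) i, le_of_eq (sigmaIdeal_comap (tot F) (md F) i).symm⟩

/-- the coproduct cocone. -/
noncomputable def sigmaCocone : Cocone F where
  pt := sigmaPair F
  ι := Discrete.natTrans (fun ⟨i⟩ => sigmaInj F i)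

/-- the underlying morphism of the induced morphism. -/
noncomputable def sigmaDescHom (s : Cocone F) : (∐ tot F) ⟶ s.pt.total :=
  Limits.Sigma.desc (fun i => ((s.ι.app ⟨i⟩).hom : tot F i ⟶ s.pt.total))

@[reassoc]
theorem ι_sigmaDescHom (s : Cocone F) (i : σ) :
    Sigma.ι (tot F) i ≫ sigmaDescHom F s = ((s.ι.app ⟨i⟩).hom : tot F i ⟶ s.pt.total) :=
  Limits.Sigma.ι_desc _ _

theorem sigmaDescHom_cond (s : Cocone F) :
    sigmaIdeal (tot F) (md F) ≤ s.pt.mod.comap (sigmaDescHom F s) := by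
  refine le_of_comap_le (tot F) (Sigma.ι (tot F)) (sigma_cov F) ?_
  intro i
  rw [sigmaIdeal_comap, ← Scheme.IdealSheafData.comap_comp, ι_sigmaDescHom]
  exact (s.ι.app ⟨i⟩).cond

/-- the induced morphism out of the coproduct. -/
noncomputable def sigmaDesc (s : Cocone F) : sigmaPair F ⟶ s.pt :=
  ⟨sigmaDescHom F s, sigmaDescHom_cond F s⟩

/-- the coproduct cocone is a colimit. -/
noncomputable def sigmaIsColimit : IsColimit (sigmaCocone F) where
  desc s := sigmaDesc F s
  fac s := by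
    rintro ⟨i⟩
    apply ModPair.Pair.Hom.ext
    exact ι_sigmaDescHom F s i
  uniq s m hm := by
    apply ModPair.Pair.Hom.ext
    change m.hom = sigmaDescHom F s
    refine Limits.Sigma.hom_ext _ _ (fun i => ?_)
    rw [ι_sigmaDescHom]
    exact congrArg ModPair.Pair.Hom.hom (hm ⟨i⟩)

/-- the image of the coproduct cocone under the total space functor is a colimit. -/
noncomputable def forgetSigmaIsColimit :
    IsColimit (ModPair.Pair.forget.{u}.mapCocone (sigmaCocone F)) where
  desc s := Limits.Sigma.desc (fun i => (s.ι.app ⟨i⟩ : tot F i ⟶ s.pt))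
  fac s := by
    rintro ⟨i⟩
    exact Limits.Sigma.ι_desc (fun i => (s.ι.app ⟨i⟩ : tot F i ⟶ s.pt)) i
  uniq s m hm := by
    refine Limits.Sigma.hom_ext _ _ (fun i => ?_)
    rw [Limits.Sigma.ι_desc]
    exact hm ⟨i⟩

end Cop

theorem S18747_main (σ : Type u) :
    HasColimitsOfShape (Discrete σ) ModPair.Pair.{u} ∧
      PreservesColimitsOfShape (Discrete σ) ModPair.Pair.forget.{u} := by
  refine ⟨⟨fun F => ⟨⟨⟨sigmaCocone F, sigmaIsColimit F⟩⟩⟩⟩, ⟨fun {F} => ?_⟩⟩
  exact preservesColimit_of_preserves_colimit_cocone (sigmaIsColimit F) (forgetSigmaIsColimit F)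

end Groth.Agent.H9.MDP
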