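import Mathlib
import Groth.Agent.Lib.Helper9.Misc.MDP4
import Groth.Agent.Lib.Helper9.Misc.MDP7
import Groth.Agent.Lib.Helper9.Misc.LCP1

/-! Helper9: S18748 — binary coproducts in the localization of modulus pairs at admissible blow-ups. -/

set_option linter.style.haveILetI false
set_option linter.unusedSectionVars false
set_option linter.unusedVariables false

universe u
open CategoryTheory Limits AlgebraicGeometry TopologicalSpace Opposite

namespace Groth.Agent.H9.MDP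

section R
variable {X Y U V : Scheme.{u}} {f : X ⟶ Y} {g : U ⟶ V} {iU : U ⟶ X} {iV : V ⟶ Y}
  [IsOpenImmersion iV] [IsOpenImmersion iU]

/-- over an open inside the range of `iV`, `f` is an isomorphism as soon as its base change is. -/
theorem isIso_restrict_of_isPullback_of_le (H : IsPullback g iU iV f) (S₀ : Y.Opens)
    (hS : S₀ ≤ iV.opensRange) [IsIso (g ∣_ iV ⁻¹ᵁ S₀)] : IsIso (f ∣_ S₀) := by
  have hS' : iV ''ᵁ (iV ⁻¹ᵁ S₀) = S₀ := by
    rw [Scheme.Hom.image_preimage_eq_opensRange_inf]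
    exact inf_eq_right.mpr hS
  have ea : iV ⁻¹ᵁ S₀ ≤ iV ⁻¹ᵁ S₀ := le_rfl
  let a := iV.resLE S₀ (iV ⁻¹ᵁ S₀) ea
  have ha : a ≫ S₀.ι = (iV ⁻¹ᵁ S₀).ι ≫ iV := Scheme.Hom.resLE_comp_ι _ _
  have eb : g ⁻¹ᵁ (iV ⁻¹ᵁ S₀) ≤ iU ⁻¹ᵁ (f ⁻¹ᵁ S₀) := by
    rw [← Scheme.Hom.comp_preimage, ← Scheme.Hom.comp_preimage, H.w]
  let b := iU.resLE (f ⁻¹ᵁ S₀) (g ⁻¹ᵁ (iV ⁻¹ᵁ S₀)) eb
  have hb : b ≫ (f ⁻¹ᵁ S₀).ι = (g ⁻¹ᵁ (iV ⁻¹ᵁ S₀)).ι ≫ iU := Scheme.Hom.resLE_comp_ι _ _
  haveI : IsOpenImmersion (a ≫ S₀.ι) := by rw [ha]; infer_instance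
  haveI : IsOpenImmersion a := IsOpenImmersion.of_comp a S₀.ι
  haveI : IsOpenImmersion (b ≫ (f ⁻¹ᵁ S₀).ι) := by rw [hb]; infer_instance
  haveI : IsOpenImmersion b := IsOpenImmersion.of_comp b (f ⁻¹ᵁ S₀).ι
  have hasurj : a.opensRange = ⊤ := by
    rw [eq_top_iff]
    intro z _
    have hz : z.1 ∈ iV ''ᵁ (iV ⁻¹ᵁ S₀) := by rw [hS']; exact z.2
    obtain ⟨w, hw, hwz⟩ := hz
    refine ⟨⟨w, hw⟩, Subtype.ext ?_⟩
    change (a ≫ S₀.ι) ⟨w, hw⟩ = z.1
    rw [ha]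
    exact hwz
  have hbsurj : b.opensRange = ⊤ := by
    rw [eq_top_iff]
    intro z _
    have hz : z.1 ∈ f ⁻¹ᵁ (iV ''ᵁ (iV ⁻¹ᵁ S₀)) := by rw [hS']; exact z.2
    rw [← IsOpenImmersion.image_preimage_eq_preimage_image_of_isPullback H] at hz
    obtain ⟨w, hw, hwz⟩ := hz
    refine ⟨⟨w, hw⟩, Subtype.ext ?_⟩
    change (b ≫ (f ⁻¹ᵁ S₀).ι) ⟨w, hw⟩ = z.1
    rw [hb]
    exact hwz
  haveI : IsIso a := isIso_of_isOpenImmersion_of_opensRange_eq_top a hasurj
  haveI : IsIso b := isIso_of_isOpenImmersion_of_opensRange_eq_top b hbsurj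
  have hcomm : b ≫ (f ∣_ S₀) = (g ∣_ iV ⁻¹ᵁ S₀) ≫ a := by
    rw [← cancel_mono S₀.ι, Category.assoc, Category.assoc, morphismRestrict_ι, reassoc_of% hb,
      ha, morphismRestrict_ι_assoc, H.w]
  have : f ∣_ S₀ = inv b ≫ (g ∣_ iV ⁻¹ᵁ S₀) ≫ a := by
    rw [← hcomm, IsIso.inv_hom_id_assoc]
  rw [this]
  infer_instance

end R

section SigMap
variable {σ : Type u} {A B : σ → Scheme.{u}} (g : ∀ i, A i ⟶ B i)

theorem preimage_opensRange_sigmaMap (i : σ) :
    Limits.Sigma.map g ⁻¹ᵁ (Sigma.ι B i).opensRange = (Sigma.ι A i).opensRange := by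
  ext z
  obtain ⟨⟨j, w⟩, rfl⟩ := (sigmaMk A).surjective z
  rw [sigmaMk_mk]
  constructor
  · intro hz
    change Limits.Sigma.map g (Sigma.ι A j w) ∈ (Sigma.ι B i).opensRange at hz
    rw [← Scheme.Hom.comp_apply, Limits.Sigma.ι_map, Scheme.Hom.comp_apply] at hz
    obtain ⟨y, hy⟩ := hz
    obtain ⟨rfl⟩ := (sigmaι_eq_iff _ _ _ _ _).mp hy
    exact ⟨w, rfl⟩
  · rintro ⟨w', hw'⟩
    have hj := (sigmaι_eq_iff _ _ _ _ _).mp hw'
    obtain rfl : i = j := congrArg Sigma.fst hj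
    change Limits.Sigma.map g (Sigma.ι A i w) ∈ (Sigma.ι B i).opensRange
    rw [← Scheme.Hom.comp_apply, Limits.Sigma.ι_map, Scheme.Hom.comp_apply]
    exact ⟨_, rfl⟩

theorem isPullback_sigmaMap (i : σ) :
    IsPullback (g i) (Sigma.ι A i) (Sigma.ι B i) (Limits.Sigma.map g) :=
  IsOpenImmersion.isPullback _ _ _ _ (Limits.Sigma.ι_map _ _) (preimage_opensRange_sigmaMap g i)

set_option backward.isDefEq.respectTransparency false in
theorem sigmaMap_of_isZariskiLocalAtTarget (P : MorphismProperty Scheme.{u})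
    [IsZariskiLocalAtTarget P] (h : ∀ i, P (g i)) : P (Limits.Sigma.map g) := by
  refine IsZariskiLocalAtTarget.of_openCover (P := P) (sigmaOpenCover B) ?_
  intro i
  rw [← MorphismProperty.cancel_left_of_respectsIso P
    (isPullback_sigmaMap g i).flip.isoPullback.hom]
  convert! h i
  exact (isPullback_sigmaMap g i).flip.isoPullback_hom_snd

end SigMap


section SigAdm
variable {σ : Type u} {A B : σ → Scheme.{u}} (g : ∀ i, A i ⟶ B i)
  (I : ∀ i, (A i).IdealSheafData) (K : ∀ i, (B i).IdealSheafData)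

theorem sigma_cov' (A : σ → Scheme.{u}) (x : (∐ A : Scheme.{u})) :
    ∃ (i : σ) (y : A i), Sigma.ι A i y = x := by
  obtain ⟨⟨i, y⟩, rfl⟩ := (sigmaMk A).surjective x
  exact ⟨i, y, (sigmaMk_mk _ i y).symm⟩

theorem sigmaIdeal_eq_comap_sigmaMap (h : ∀ i, I i = (K i).comap (g i)) :
    sigmaIdeal A I = (sigmaIdeal B K).comap (Limits.Sigma.map g) := by
  have key : ∀ i, (sigmaIdeal A I).comap (Sigma.ι A i) =
      ((sigmaIdeal B K).comap (Limits.Sigma.map g)).comap (Sigma.ι A i) := by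
    intro i
    rw [sigmaIdeal_comap, ← Scheme.IdealSheafData.comap_comp, Limits.Sigma.ι_map,
      Scheme.IdealSheafData.comap_comp, sigmaIdeal_comap, h i]
  refine le_antisymm ?_ ?_
  · exact le_of_comap_le A (Sigma.ι A) (sigma_cov' A) (fun i => le_of_eq (key i))
  · exact le_of_comap_le A (Sigma.ι A) (sigma_cov' A) (fun i => le_of_eq (key i).symm)

theorem preimage_interior_sigmaIdeal (i : σ) :
    Sigma.ι B i ⁻¹ᵁ ModPair.interior (sigmaIdeal B K) = ModPair.interior (K i) := by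
  rw [← interior_comap, sigmaIdeal_comap]

theorem isAdmBlowup_sigmaMap (h : ∀ i, ModPair.IsAdmBlowup (I i) (K i) (g i)) :
    ModPair.IsAdmBlowup (sigmaIdeal A I) (sigmaIdeal B K) (Limits.Sigma.map g) := by
  refine ⟨sigmaIdeal_eq_comap_sigmaMap g I K (fun i => (h i).1), ?_, ?_⟩
  · exact sigmaMap_of_isZariskiLocalAtTarget g @IsProper (fun i => (h i).2.1)
  · change MorphismProperty.isomorphisms Scheme.{u}
      (Limits.Sigma.map g ∣_ ModPair.interior (sigmaIdeal B K))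
    refine IsZariskiLocalAtTarget.of_iSup_eq_top (P := MorphismProperty.isomorphisms Scheme.{u})
      (fun i : σ => (ModPair.interior (sigmaIdeal B K)).ι ⁻¹ᵁ (Sigma.ι B i).opensRange) ?_ ?_
    · rw [eq_top_iff]
      rintro ⟨x, hx⟩ -
      obtain ⟨i, y, rfl⟩ := sigma_cov' B x
      simp only [Opens.iSup_mk, Opens.carrier_eq_coe, Opens.mem_mk, Set.mem_iUnion]
      exact ⟨i, ⟨y, rfl⟩⟩
    · intro i
      rw [(MorphismProperty.isomorphisms Scheme.{u}).arrow_mk_iso_iff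
        (morphismRestrictRestrict (Limits.Sigma.map g) (ModPair.interior (sigmaIdeal B K)) _)]
      have hWle : (ModPair.interior (sigmaIdeal B K)).ι ''ᵁ
          ((ModPair.interior (sigmaIdeal B K)).ι ⁻¹ᵁ (Sigma.ι B i).opensRange) ≤
          (Sigma.ι B i).opensRange := by
        rw [Scheme.Hom.image_preimage_eq_opensRange_inf]
        exact inf_le_right
      have hpre : Sigma.ι B i ⁻¹ᵁ ((ModPair.interior (sigmaIdeal B K)).ι ''ᵁ
          ((ModPair.interior (sigmaIdeal B K)).ι ⁻¹ᵁ (Sigma.ι B i).opensRange)) =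
          ModPair.interior (K i) := by
        rw [Scheme.Hom.image_preimage_eq_opensRange_inf, Scheme.Opens.opensRange_ι,
          Scheme.Hom.preimage_inf, preimage_interior_sigmaIdeal]
        simp
      haveI : IsIso (g i ∣_ Sigma.ι B i ⁻¹ᵁ ((ModPair.interior (sigmaIdeal B K)).ι ''ᵁ
          ((ModPair.interior (sigmaIdeal B K)).ι ⁻¹ᵁ (Sigma.ι B i).opensRange))) := by
        rw [hpre]
        exact (h i).2.2
      exact isIso_restrict_of_isPullback_of_le (isPullback_sigmaMap g i) _ hWle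

end SigAdm


section Stab

theorem admBlowup_of_iso {P Q : ModPair.Pair.{u}} (e : P ≅ Q) : ModPair.Pair.admBlowup e.hom := by
  have e1 : e.hom.hom ≫ e.inv.hom = 𝟙 P.total := congrArg ModPair.Pair.Hom.hom e.hom_inv_id
  have e2 : e.inv.hom ≫ e.hom.hom = 𝟙 Q.total := congrArg ModPair.Pair.Hom.hom e.inv_hom_id
  haveI : IsIso e.hom.hom := ⟨e.inv.hom, e1, e2⟩
  refine ⟨?_, inferInstance, inferInstance⟩
  refine le_antisymm e.hom.cond ?_
  have h : Q.mod.comap e.hom.hom ≤ (P.mod.comap e.inv.hom).comap e.hom.hom :=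
    Scheme.IdealSheafData.comap_mono e.hom.hom e.inv.cond
  rw [← Scheme.IdealSheafData.comap_comp, e1, Scheme.IdealSheafData.comap_id] at h
  exact h

instance : (ModPair.Pair.admBlowup.{u}).ContainsIdentities :=
  ⟨fun P => isAdmBlowup_id P.mod⟩

instance : (ModPair.Pair.admBlowup.{u}).IsStableUnderComposition :=
  ⟨fun f g hf hg => isAdmBlowup_comp hf hg⟩

variable {σ : Type u} (F₁ F₂ : Discrete σ ⥤ ModPair.Pair.{u}) (α : F₁ ⟶ F₂)

/-- the components of a natural transformation on total spaces. -/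
abbrev compHom (i : σ) : tot F₁ i ⟶ tot F₂ i := (α.app ⟨i⟩).hom

/-- the induced morphism between coproducts, on total spaces. -/
noncomputable def sigmaPairMapHom : (∐ tot F₁ : Scheme.{u}) ⟶ ∐ tot F₂ :=
  Limits.Sigma.map (compHom F₁ F₂ α)

theorem sigmaPairMapHom_cond (hα : ∀ i, ModPair.Pair.admBlowup (α.app i)) :
    sigmaIdeal (tot F₁) (md F₁) = (sigmaIdeal (tot F₂) (md F₂)).comap (sigmaPairMapHom F₁ F₂ α) :=
  sigmaIdeal_eq_comap_sigmaMap (compHom F₁ F₂ α) (md F₁) (md F₂) (fun i => (hα ⟨i⟩).1)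

/-- the induced morphism between coproducts. -/
noncomputable def sigmaPairMap (hα : ∀ i, ModPair.Pair.admBlowup (α.app i)) :
    sigmaPair F₁ ⟶ sigmaPair F₂ :=
  ⟨sigmaPairMapHom F₁ F₂ α, le_of_eq (sigmaPairMapHom_cond F₁ F₂ α hα)⟩

theorem admBlowup_sigmaPairMap (hα : ∀ i, ModPair.Pair.admBlowup (α.app i)) :
    ModPair.Pair.admBlowup (sigmaPairMap F₁ F₂ α hα) :=
  isAdmBlowup_sigmaMap (compHom F₁ F₂ α) (md F₁) (md F₂) (fun i => hα ⟨i⟩)

theorem sigmaInj_sigmaPairMap (hα : ∀ i, ModPair.Pair.admBlowup (α.app i)) (i : σ) :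
    sigmaInj F₁ i ≫ sigmaPairMap F₁ F₂ α hα = α.app ⟨i⟩ ≫ sigmaInj F₂ i := by
  apply ModPair.Pair.Hom.ext
  exact Limits.Sigma.ι_map (compHom F₁ F₂ α) i

end Stab

section Stab2

theorem admBlowup_stable_aux {σ : Type u} (X₁ X₂ : Discrete σ ⥤ ModPair.Pair.{u})
    (c₁ : Cocone X₁) (c₂ : Cocone X₂) (h₁ : IsColimit c₁) (h₂ : IsColimit c₂) (f : X₁ ⟶ X₂)
    (hf : ∀ i, ModPair.Pair.admBlowup (f.app i)) (φ : c₁.pt ⟶ c₂.pt)
    (hφ : ∀ j, c₁.ι.app j ≫ φ = f.app j ≫ c₂.ι.app j) : ModPair.Pair.admBlowup φ := by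
  let a₁ : (sigmaCocone X₁).pt ≅ c₁.pt :=
    IsColimit.coconePointUniqueUpToIso (sigmaIsColimit X₁) h₁
  let a₂ : (sigmaCocone X₂).pt ≅ c₂.pt :=
    IsColimit.coconePointUniqueUpToIso (sigmaIsColimit X₂) h₂
  let Ψ : (sigmaCocone X₁).pt ⟶ (sigmaCocone X₂).pt := sigmaPairMap X₁ X₂ f hf
  have hΨ : ∀ i : σ, (sigmaCocone X₁).ι.app ⟨i⟩ ≫ Ψ = f.app ⟨i⟩ ≫ (sigmaCocone X₂).ι.app ⟨i⟩ :=
    fun i => sigmaInj_sigmaPairMap X₁ X₂ f hf i
  have hcomm : a₁.hom ≫ φ = Ψ ≫ a₂.hom := by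
    refine (sigmaIsColimit X₁).hom_ext ?_
    rintro ⟨i⟩
    rw [IsColimit.comp_coconePointUniqueUpToIso_hom_assoc, hφ, ← Category.assoc, hΨ,
      Category.assoc, IsColimit.comp_coconePointUniqueUpToIso_hom]
  have : φ = a₁.inv ≫ Ψ ≫ a₂.hom := by
    rw [← hcomm, Iso.inv_hom_id_assoc]
  rw [this]
  exact (ModPair.Pair.admBlowup.{u}).comp_mem _ _ (admBlowup_of_iso a₁.symm)
    ((ModPair.Pair.admBlowup.{u}).comp_mem _ _ (admBlowup_sigmaPairMap X₁ X₂ f hf)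
      (admBlowup_of_iso a₂))

instance admBlowup_stable (J : Type) :
    (ModPair.Pair.admBlowup.{u}).IsStableUnderCoproductsOfShape J where
  condition X₁ X₂ c₁ c₂ h₁ h₂ f hf φ hφ := by
    let e : Discrete (ULift.{u} J) ≌ Discrete J := Discrete.equivalence Equiv.ulift
    refine admBlowup_stable_aux (e.functor ⋙ X₁) (e.functor ⋙ X₂) (c₁.whisker e.functor)
      (c₂.whisker e.functor) (IsColimit.whiskerEquivalence h₁ e) (IsColimit.whiskerEquivalence h₂ e)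
      (Functor.whiskerLeft e.functor f) (fun i => hf _) φ (fun j => hφ _)

instance hasCoproductsOfShape_pair (J : Type) : HasCoproductsOfShape J ModPair.Pair.{u} := by
  haveI := (S18747_main.{u} (ULift.{u} J)).1
  exact hasColimitsOfShape_of_equivalence (Discrete.equivalence (Equiv.ulift.{u} (α := J)))

end Stab2


theorem S18748_main :
    HasBinaryCoproducts (ModPair.Pair.admBlowup.{u}).Localization ∧
      PreservesColimitsOfShape (Discrete WalkingPair) (ModPair.Pair.admBlowup.{u}).Q :=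
  ⟨Groth.Agent.H9.LCP.Localization.hasCoproductsOfShape (ModPair.Pair.admBlowup.{u}).Q
      ModPair.Pair.admBlowup.{u} WalkingPair,
    Groth.Agent.H9.LCP.Localization.preservesCoproductsOfShape (ModPair.Pair.admBlowup.{u}).Q
      ModPair.Pair.admBlowup.{u} WalkingPair⟩

end Groth.Agent.H9.MDP
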