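import Mathlib
import Groth.Prelude.Def_W4c6modpairsegaMP
import Groth.Agent.Lib.Helper9.Misc.BLA10

/-! Helper9: S18750 — existence of the ambient product of modulus pairs. -/

set_option linter.style.haveILetI false
set_option linter.unusedSectionVars false
set_option linter.unusedVariables false

universe u
open CategoryTheory Limits AlgebraicGeometry TopologicalSpace Opposite

namespace Groth.Agent.H9.MDP

/-- `(𝔞 ∩ 𝔟)(𝔞 + 𝔟) = 𝔞𝔟` when `𝔞 + 𝔟` is principal. -/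
theorem inf_mul_sup_eq_mul_of_principal {R : Type*} [CommRing R] (𝔞 𝔟 : Ideal R) (e : R)
    (h : 𝔞 ⊔ 𝔟 = Ideal.span {e}) : (𝔞 ⊓ 𝔟) * (𝔞 ⊔ 𝔟) = 𝔞 * 𝔟 := by
  refine le_antisymm ?_ ?_
  · rw [Ideal.mul_sup]
    refine sup_le ?_ ?_
    · rw [mul_comm]
      exact Ideal.mul_mono_right inf_le_right
    · exact Ideal.mul_mono_left inf_le_left
  · rw [Ideal.mul_le]
    intro a ha b hb
    have ha' : a ∈ Ideal.span {e} := h ▸ (Ideal.mem_sup_left ha)
    have hb' : b ∈ Ideal.span {e} := h ▸ (Ideal.mem_sup_right hb)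
    obtain ⟨a', rfl⟩ := Ideal.mem_span_singleton'.mp ha'
    obtain ⟨b', rfl⟩ := Ideal.mem_span_singleton'.mp hb'
    have h1 : a' * e * b' ∈ 𝔞 ⊓ 𝔟 := by
      refine ⟨Ideal.mul_mem_right _ _ ha, ?_⟩
      have : a' * e * b' = a' * (b' * e) := by ring
      rw [this]
      exact Ideal.mul_mem_left _ _ hb
    have h2 : e ∈ 𝔞 ⊔ 𝔟 := h ▸ Ideal.mem_span_singleton_self e
    have : a' * e * (b' * e) = (a' * e * b') * e := by ring
    rw [this]
    exact Ideal.mul_mem_mul h1 h2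

theorem sheaf_inf_mul_sup_eq_mul {Y : Scheme.{u}} (D₁ D₂ : Y.IdealSheafData)
    (h : BlowUp.IsEffCartierIdeal (D₁ ⊔ D₂)) : (D₁ ⊓ D₂) * (D₁ ⊔ D₂) = D₁ * D₂ := by
  choose U hyU f hf hU using h
  refine Scheme.IdealSheafData.ext_of_iSup_eq_top U ?_ ?_
  · rw [eq_top_iff]
    intro y _
    exact Opens.mem_iSup.mpr ⟨y, hyU y⟩
  · intro y
    exact inf_mul_sup_eq_mul_of_principal _ _ (f y) (hU y)

theorem S18750_main {S T X : Scheme.{u}} (IS : S.IdealSheafData) (J : T.IdealSheafData)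
    (I : X.IdealSheafData) (f : X ⟶ S) (g : T ⟶ S) :
    ∃ (Y : Scheme.{u}) (π : Y ⟶ ModPair.mprod f g I J) (K : Y.IdealSheafData),
      ModPair.IsAmbProd f g I J π K := by
  obtain ⟨Y, π, hπ⟩ := Groth.Agent.H9.BLA.exists_isBlowUp (ModPair.mprod f g I J)
    (ModPair.prodCentre f g I J)
  refine ⟨Y, π, (I.comap (ModPair.mprodι f g I J ≫ pullback.fst f g)).comap π ⊓
    (J.comap (ModPair.mprodι f g I J ≫ pullback.snd f g)).comap π, hπ, ?_⟩
  have h1 := hπ.1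
  unfold ModPair.prodCentre at h1 ⊢
  rw [Scheme.IdealSheafData.comap_sup] at h1 ⊢
  exact sheaf_inf_mul_sup_eq_mul _ _ h1

end Groth.Agent.H9.MDP
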