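import Mathlib
import Groth.Agent.Lib.Helper9.Misc.MDP8

/-! Helper9: S18755 — functoriality of the ambient product in the base. -/

set_option linter.style.haveILetI false
set_option linter.unusedSectionVars false
set_option linter.unusedVariables false

universe u
open CategoryTheory Limits AlgebraicGeometry TopologicalSpace Opposite

namespace Groth.Agent.H9.MDP

variable {X Y Z W P S T : Scheme.{u}}

theorem eq_of_mul_eq_mul_effCartier {I J E : X.IdealSheafData} (hE : BlowUp.IsEffCartierIdeal E)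
    (h : I * E = J * E) : I = J :=
  le_antisymm (le_of_mul_le_mul_effCartier hE h.le) (le_of_mul_le_mul_effCartier hE h.ge)

section Base
variable {S₀ S₁ Y₁ Y₀ : Scheme.{u}} (J : T.IdealSheafData) (I : X.IdealSheafData)
  (hT : BlowUp.IsEffCartierIdeal J) (hX : BlowUp.IsEffCartierIdeal I)
  (f : X ⟶ S₁) (g : T ⟶ S₁) (σ : S₁ ⟶ S₀)

omit J I in
@[reassoc (attr := simp)]
theorem mapDesc_fst' : pullback.mapDesc f g σ ≫ pullback.fst (f ≫ σ) (g ≫ σ) = pullback.fst f g := by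
  simp only [pullback.mapDesc, pullback.map, pullback.lift_fst, Category.comp_id]

omit J I in
@[reassoc (attr := simp)]
theorem mapDesc_snd' : pullback.mapDesc f g σ ≫ pullback.snd (f ≫ σ) (g ≫ σ) = pullback.snd f g := by
  simp only [pullback.mapDesc, pullback.map, pullback.lift_snd, Category.comp_id]

theorem mapDesc_preimage_prodInterior :
    pullback.mapDesc f g σ ⁻¹ᵁ ModPair.prodInterior (f ≫ σ) (g ≫ σ) I J =
      ModPair.prodInterior f g I J := by
  unfold ModPair.prodInterior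
  rw [Scheme.Hom.preimage_inf, ← Scheme.Hom.comp_preimage, ← Scheme.Hom.comp_preimage,
    mapDesc_fst', mapDesc_snd']

include hT hX in
theorem ker_mprodι_le :
    (ModPair.mprodι (f ≫ σ) (g ≫ σ) I J).ker ≤
      (ModPair.mprodι f g I J ≫ pullback.mapDesc f g σ).ker := by
  haveI := isAffineHom_prodInterior f g I J hX hT
  haveI := dominant_preimage_image (ModPair.prodInterior f g I J)
  rw [Scheme.IdealSheafData.ker_subschemeι]
  refine ker_le_of_dense _ _ (ModPair.mprodι f g I J ⁻¹ᵁ ModPair.prodInterior f g I J) ?_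
  rw [Scheme.Hom.comp_preimage, mapDesc_preimage_prodInterior]

/-- the induced map between the closures of the products of interiors. -/
noncomputable def mprodMap : ModPair.mprod f g I J ⟶ ModPair.mprod (f ≫ σ) (g ≫ σ) I J :=
  IsClosedImmersion.lift (ModPair.mprodι (f ≫ σ) (g ≫ σ) I J)
    (ModPair.mprodι f g I J ≫ pullback.mapDesc f g σ) (ker_mprodι_le J I hT hX f g σ)

@[reassoc]
theorem mprodMap_ι : mprodMap J I hT hX f g σ ≫ ModPair.mprodι (f ≫ σ) (g ≫ σ) I J =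
    ModPair.mprodι f g I J ≫ pullback.mapDesc f g σ :=
  IsClosedImmersion.lift_fac _ _ _

theorem mprodMap_fst : mprodMap J I hT hX f g σ ≫ ModPair.mprodι (f ≫ σ) (g ≫ σ) I J ≫
    pullback.fst (f ≫ σ) (g ≫ σ) = ModPair.mprodι f g I J ≫ pullback.fst f g := by
  rw [mprodMap_ι_assoc, mapDesc_fst']

theorem mprodMap_snd : mprodMap J I hT hX f g σ ≫ ModPair.mprodι (f ≫ σ) (g ≫ σ) I J ≫
    pullback.snd (f ≫ σ) (g ≫ σ) = ModPair.mprodι f g I J ≫ pullback.snd f g := by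
  rw [mprodMap_ι_assoc, mapDesc_snd']

theorem prodCentre_comap_mprodMap :
    (ModPair.prodCentre (f ≫ σ) (g ≫ σ) I J).comap (mprodMap J I hT hX f g σ) =
      ModPair.prodCentre f g I J := by
  unfold ModPair.prodCentre
  rw [Scheme.IdealSheafData.comap_sup, ← Scheme.IdealSheafData.comap_comp,
    ← Scheme.IdealSheafData.comap_comp, mprodMap_fst, mprodMap_snd]

include hT hX in
theorem S18755_main
    (π₁ : Y₁ ⟶ ModPair.mprod f g I J) (K₁ : Y₁.IdealSheafData) (hY₁ : ModPair.IsAmbProd f g I J π₁ K₁)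
    (π₀ : Y₀ ⟶ ModPair.mprod (f ≫ σ) (g ≫ σ) I J) (K₀ : Y₀.IdealSheafData)
    (hY₀ : ModPair.IsAmbProd (f ≫ σ) (g ≫ σ) I J π₀ K₀) :
    (∃! φ : Y₁ ⟶ Y₀, φ ≫ π₀ ≫ ModPair.mprodι (f ≫ σ) (g ≫ σ) I J =
        π₁ ≫ ModPair.mprodι f g I J ≫ pullback.mapDesc f g σ) ∧
      ∀ φ : Y₁ ⟶ Y₀, φ ≫ π₀ ≫ ModPair.mprodι (f ≫ σ) (g ≫ σ) I J =
          π₁ ≫ ModPair.mprodι f g I J ≫ pullback.mapDesc f g σ →
        ModPair.IsMinimal K₁ K₀ φ := by
  obtain ⟨hπ₁, hK₁⟩ := hY₁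
  obtain ⟨hπ₀, hK₀⟩ := hY₀
  have hiff : ∀ φ : Y₁ ⟶ Y₀, (φ ≫ π₀ ≫ ModPair.mprodι (f ≫ σ) (g ≫ σ) I J =
      π₁ ≫ ModPair.mprodι f g I J ≫ pullback.mapDesc f g σ) ↔
        φ ≫ π₀ = π₁ ≫ mprodMap J I hT hX f g σ := by
    intro φ
    rw [← cancel_mono (ModPair.mprodι (f ≫ σ) (g ≫ σ) I J), Category.assoc, Category.assoc,
      mprodMap_ι]
  have hcart : BlowUp.IsEffCartierIdeal
      ((ModPair.prodCentre (f ≫ σ) (g ≫ σ) I J).comap (π₁ ≫ mprodMap J I hT hX f g σ)) := by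
    rw [Scheme.IdealSheafData.comap_comp, prodCentre_comap_mprodMap]
    exact hπ₁.1
  obtain ⟨φ, hφ, hφu⟩ := hπ₀.2 Y₁ _ hcart
  refine ⟨⟨φ, (hiff φ).mpr hφ, fun ψ hψ => hφu ψ ((hiff ψ).mp hψ)⟩, ?_⟩
  intro ψ hψ
  have hψ' := (hiff ψ).mp hψ
  change K₁ = K₀.comap ψ
  refine eq_of_mul_eq_mul_effCartier (E := (ModPair.prodCentre f g I J).comap π₁) hπ₁.1 ?_
  rw [hK₁]
  have e1 : (ModPair.prodCentre f g I J).comap π₁ =
      ((ModPair.prodCentre (f ≫ σ) (g ≫ σ) I J).comap π₀).comap ψ := by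
    rw [← Scheme.IdealSheafData.comap_comp, hψ', Scheme.IdealSheafData.comap_comp,
      prodCentre_comap_mprodMap]
  have e2 : (I.comap (ModPair.mprodι f g I J ≫ pullback.fst f g)).comap π₁ =
      ((I.comap (ModPair.mprodι (f ≫ σ) (g ≫ σ) I J ≫ pullback.fst (f ≫ σ) (g ≫ σ))).comap
        π₀).comap ψ := by
    simp only [← Scheme.IdealSheafData.comap_comp]
    rw [reassoc_of% hψ', mprodMap_fst]
  have e3 : (J.comap (ModPair.mprodι f g I J ≫ pullback.snd f g)).comap π₁ =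
      ((J.comap (ModPair.mprodι (f ≫ σ) (g ≫ σ) I J ≫ pullback.snd (f ≫ σ) (g ≫ σ))).comap
        π₀).comap ψ := by
    simp only [← Scheme.IdealSheafData.comap_comp]
    rw [reassoc_of% hψ', mprodMap_snd]
  rw [e1, e2, e3, ← Groth.Agent.LD.QC.comap_mul K₀ _ ψ, hK₀, Groth.Agent.LD.QC.comap_mul]

end Base

end Groth.Agent.H9.MDP
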