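import Mathlib
import Groth.Agent.Lib.Helper9.Misc.MDQ2
import Groth.Agent.Lib.Helper9.Misc.MDP14

/-! Helper9: S18739 — the localization of modulus pairs at the abstract admissible blow-ups has
finite limits. -/

set_option linter.style.haveILetI false
set_option linter.unusedSectionVars false
set_option linter.unusedVariables false

universe u
open CategoryTheory Limits AlgebraicGeometry TopologicalSpace Opposite

namespace Groth.Agent.H9.MDQ

open Groth.Agent.H9.MDP

/-- the terminal modulus pair: the terminal scheme with empty modulus. -/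
noncomputable def ptPair : ModPair.Pair.{u} :=
  ⟨⊤_ Scheme.{u}, ⊤, Groth.Agent.LD.QC.isEffCartierIdeal_top⟩

noncomputable def ptPairIsTerminal : IsTerminal ptPair.{u} :=
  IsTerminal.ofUniqueHom
    (fun Z => ⟨terminal.from Z.total, by
      change Z.mod ≤ (⊤ : (⊤_ Scheme.{u}).IdealSheafData).comap _
      rw [Scheme.IdealSheafData.comap_top]; exact le_top⟩)
    (fun Z m => ModPair.Pair.Hom.ext (terminal.hom_ext _ _))

theorem S18739_main : HasFiniteLimits (ModPair.Pair.admBlowup.{u}).Localization := by
  haveI := S18738_main.{u}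
  haveI : HasTerminal (ModPair.Pair.admBlowup.{u}).Localization := by
    obtain ⟨h⟩ := isTerminal_map (ModPair.Pair.admBlowup.{u}) (ModPair.Pair.admBlowup.{u}).Q
      ptPairIsTerminal.{u}
    exact h.hasTerminal
  haveI : HasPullbacks (ModPair.Pair.admBlowup.{u}).Localization := by
    refine hasPullbacks_of_map (ModPair.Pair.admBlowup.{u}) (ModPair.Pair.admBlowup.{u}).Q ?_
    intro X T P f g
    obtain ⟨Y, π, K, hY⟩ := S18750_main P.mod T.mod X.mod f.hom g.hom
    obtain ⟨hK, hX, hT, -⟩ := S18749_main P.mod T.mod X.mod P.isEffCartier T.isEffCartier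
      X.isEffCartier f.hom f.cond g.hom g.cond π K hY
    have hp := S18752_main P T X f g π K hY hK hX hT
    exact ⟨⟨⟨_, hp.flip.isLimit⟩⟩⟩
  exact hasFiniteLimits_of_hasTerminal_and_pullbacks

end Groth.Agent.H9.MDQ
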