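import Mathlib

/-!
# Localization of a slice category under a right calculus of fractions

Helper library for S18741.
-/

open CategoryTheory Limits

set_option linter.unusedSectionVars false

namespace Groth.Agent.Lib.Helper9.OverLoc

universe v₁ v₂ v₃ u₁ u₂ u₃

variable {C : Type u₁} [Category.{v₁} C] (W : MorphismProperty C)
  [W.HasRightCalculusOfFractions] (S : C)

instance hasRCF : (W.inverseImage (Over.forget S)).HasRightCalculusOfFractions where
  exists_rightFraction X Y φ := by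
    obtain ⟨ψ, hψ⟩ := (MorphismProperty.LeftFraction.mk φ.f.left φ.s.left φ.hs :
      W.LeftFraction X.left Y.left).exists_rightFraction
    dsimp at hψ
    have hY : ψ.f ≫ Y.hom = ψ.s ≫ X.hom := by
      rw [← Over.w φ.s, ← Over.w φ.f, ← Category.assoc, ← Category.assoc, hψ]
    refine ⟨⟨Over.homMk (U := Over.mk (ψ.s ≫ X.hom)) ψ.s rfl, ψ.hs, Over.homMk ψ.f hY⟩, ?_⟩
    ext
    exact hψ
  ext X Y Y' f₁ f₂ s hs h := by
    obtain ⟨X', t, ht, htf⟩ := MorphismProperty.HasRightCalculusOfFractions.ext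
      f₁.left f₂.left s.left hs (congrArg CommaMorphism.left h)
    exact ⟨Over.mk (t ≫ X.hom), Over.homMk t rfl, ht, by ext; exact htf⟩

variable {S}
variable {D : Type u₂} [Category.{v₂} D] (L : C ⥤ D) [L.IsLocalization W]
    {E : Type u₃} [Category.{v₃} E] (L' : Over S ⥤ E)
    [L'.IsLocalization (W.inverseImage (Over.forget S))]
    (Φ : E ⥤ Over (L.obj S)) (e : L' ⋙ Φ ≅ Over.post L)

/-- The underlying right fraction in `C` of a right fraction in `Over S`. -/
def under {a b : Over S} (φ : (W.inverseImage (Over.forget S)).RightFraction a b) :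
    W.RightFraction a.left b.left := ⟨φ.s.left, φ.hs, φ.f.left⟩

/-- Transport of a morphism of `E` to `D`. -/
def theta {a b : Over S} (α : L'.obj a ⟶ L'.obj b) : L.obj a.left ⟶ L.obj b.left :=
  (e.inv.app a ≫ Φ.map α ≫ e.hom.app b).left

include e in
lemma theta_injective_iff {a b : Over S} (α β : L'.obj a ⟶ L'.obj b) :
    theta L L' Φ e α = theta L L' Φ e β ↔ Φ.map α = Φ.map β := by
  constructor
  · intro h
    have h1 : e.inv.app a ≫ Φ.map α ≫ e.hom.app b = e.inv.app a ≫ Φ.map β ≫ e.hom.app b :=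
      Over.OverMorphism.ext h
    have h2 := (cancel_epi (e.inv.app a)).1 h1
    exact (cancel_mono (e.hom.app b)).1 h2
  · intro h
    unfold theta
    rw [h]

lemma theta_map {a b : Over S} (φ : (W.inverseImage (Over.forget S)).RightFraction a b) :
    theta L L' Φ e (φ.map L' (Localization.inverts L' _)) =
      (under W φ).map L (Localization.inverts L W) := by
  have hiso : IsIso (L.map φ.s.left) := Localization.inverts L W _ φ.hs
  have h1 : L'.map φ.s ≫ φ.map L' (Localization.inverts L' _) = L'.map φ.f :=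
    MorphismProperty.RightFraction.map_s_comp_map _ _ _
  have h2 : (Over.post L).map φ.s ≫
      (e.inv.app a ≫ Φ.map (φ.map L' (Localization.inverts L' _)) ≫ e.hom.app b) =
      (Over.post L).map φ.f := by
    have n1 := e.inv.naturality φ.s
    have n2 := e.hom.naturality φ.f
    dsimp at n1 n2
    rw [← Category.assoc, n1, Category.assoc, ← Category.assoc (Φ.map _), ← Φ.map_comp, h1, n2,
      Iso.inv_hom_id_app_assoc]
  have h3 : L.map φ.s.left ≫
      (e.inv.app a ≫ Φ.map (φ.map L' (Localization.inverts L' _)) ≫ e.hom.app b).left =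
      L.map φ.f.left := congrArg CommaMorphism.left h2
  exact (IsIso.eq_inv_comp _).2 h3

include W L e in
lemma faithful : Φ.Faithful where
  map_injective := by
    intro X Y α₁ α₂ h
    have hes : L'.EssSurj := Localization.essSurj L' (W.inverseImage (Over.forget S))
    let a := L'.objPreimage X
    let b := L'.objPreimage Y
    let eX : L'.obj a ≅ X := L'.objObjPreimageIso X
    let eY : L'.obj b ≅ Y := L'.objObjPreimageIso Y
    suffices hs : eX.hom ≫ α₁ ≫ eY.inv = eX.hom ≫ α₂ ≫ eY.inv by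
      have h2 := (cancel_epi eX.hom).1 hs
      exact (cancel_mono eY.inv).1 h2
    obtain ⟨φ₁, hφ₁⟩ := Localization.exists_rightFraction L'
      (W.inverseImage (Over.forget S)) (eX.hom ≫ α₁ ≫ eY.inv)
    obtain ⟨φ₂, hφ₂⟩ := Localization.exists_rightFraction L'
      (W.inverseImage (Over.forget S)) (eX.hom ≫ α₂ ≫ eY.inv)
    rw [hφ₁, hφ₂]
    have h3 : Φ.map (eX.hom ≫ α₁ ≫ eY.inv) = Φ.map (eX.hom ≫ α₂ ≫ eY.inv) := by
      simp only [Functor.map_comp, h]
    rw [hφ₁, hφ₂, ← theta_injective_iff L L' Φ e, theta_map W, theta_map W,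
      MorphismProperty.RightFraction.map_eq_iff] at h3
    rw [MorphismProperty.RightFraction.map_eq_iff]
    obtain ⟨Z, t₁, t₂, hst, hft, ht⟩ : ∃ (Z : C) (t₁ : Z ⟶ φ₁.X'.left) (t₂ : Z ⟶ φ₂.X'.left)
      (_ : t₁ ≫ φ₁.s.left = t₂ ≫ φ₂.s.left) (_ : t₁ ≫ φ₁.f.left = t₂ ≫ φ₂.f.left),
      W (t₁ ≫ φ₁.s.left) := h3
    have hw : t₁ ≫ φ₁.X'.hom = t₂ ≫ φ₂.X'.hom := by
      rw [← Over.w φ₁.s, ← Over.w φ₂.s, ← Category.assoc, ← Category.assoc, hst]
    refine ⟨Over.mk (t₁ ≫ φ₁.X'.hom), Over.homMk t₁ rfl, Over.homMk t₂ hw.symm, ?_, ?_, ?_⟩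
    · ext
      exact hst
    · ext
      exact hft
    · exact ht

include W L e in
lemma full_aux (a b : Over S) (g : Φ.obj (L'.obj a) ⟶ Φ.obj (L'.obj b)) :
    ∃ α : L'.obj a ⟶ L'.obj b, Φ.map α = g := by
  let g' : (Over.post L).obj a ⟶ (Over.post L).obj b := e.inv.app a ≫ g ≫ e.hom.app b
  have hw : g'.left ≫ L.map b.hom = L.map a.hom := Over.w g'
  obtain ⟨ψ, hψ⟩ := Localization.exists_rightFraction L W
    (show L.obj a.left ⟶ L.obj b.left from g'.left)
  have hiso : IsIso (L.map ψ.s) := Localization.inverts L W _ ψ.hs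
  have hψ' : g'.left = inv (L.map ψ.s) ≫ L.map ψ.f := hψ
  have hw' : (inv (L.map ψ.s) ≫ L.map ψ.f) ≫ L.map b.hom = L.map a.hom :=
    (congrArg (· ≫ L.map b.hom) hψ'.symm).trans hw
  have h1 : L.map (ψ.f ≫ b.hom) = L.map (ψ.s ≫ a.hom) := by
    rw [L.map_comp, L.map_comp, ← hw', Category.assoc, IsIso.hom_inv_id_assoc]
  obtain ⟨X'', t, ht, htf⟩ := (MorphismProperty.map_eq_iff_precomp L W _ _).1 h1
  let φ : (W.inverseImage (Over.forget S)).RightFraction a b :=
    ⟨Over.homMk (U := Over.mk (t ≫ ψ.s ≫ a.hom)) (t ≫ ψ.s) (by simp),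
      W.comp_mem _ _ ht ψ.hs, Over.homMk (t ≫ ψ.f) (by simpa using htf)⟩
  refine ⟨φ.map L' (Localization.inverts L' _), ?_⟩
  have h2 := theta_map W L L' Φ e φ
  have h3 : (under W φ).map L (Localization.inverts L W) = g'.left := by
    have hiso2 : IsIso (L.map (t ≫ ψ.s)) :=
      Localization.inverts L W _ (W.comp_mem _ _ ht ψ.hs)
    have hiso3 : IsIso (L.map t) := Localization.inverts L W _ ht
    change inv (L.map (t ≫ ψ.s)) ≫ L.map (t ≫ ψ.f) = _
    rw [hψ', IsIso.inv_comp_eq, L.map_comp, L.map_comp, Category.assoc,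
      IsIso.hom_inv_id_assoc]
  have h4 : e.inv.app a ≫ Φ.map (φ.map L' (Localization.inverts L' _)) ≫ e.hom.app b = g' :=
    Over.OverMorphism.ext (h2.trans h3)
  have h5 := (cancel_epi (e.inv.app a)).1 h4
  exact (cancel_mono (e.hom.app b)).1 h5

include W L e in
lemma full : Φ.Full where
  map_surjective := by
    intro X Y g
    have hes : L'.EssSurj := Localization.essSurj L' (W.inverseImage (Over.forget S))
    let a := L'.objPreimage X
    let b := L'.objPreimage Y
    let eX : L'.obj a ≅ X := L'.objObjPreimageIso X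
    let eY : L'.obj b ≅ Y := L'.objObjPreimageIso Y
    obtain ⟨α, hα⟩ := full_aux W L L' Φ e a b (Φ.map eX.hom ≫ g ≫ Φ.map eY.inv)
    refine ⟨eX.inv ≫ α ≫ eY.hom, ?_⟩
    rw [Φ.map_comp, Φ.map_comp, hα]
    simp only [Category.assoc, ← Φ.map_comp, Iso.inv_hom_id, Φ.map_id, Category.comp_id]
    rw [← Category.assoc, ← Φ.map_comp, Iso.inv_hom_id, Φ.map_id, Category.id_comp]

include W L' e in
lemma essSurj : Φ.EssSurj where
  mem_essImage := by
    intro Z
    have hes : L.EssSurj := Localization.essSurj L W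
    let X := L.objPreimage Z.left
    let i : L.obj X ≅ Z.left := L.objObjPreimageIso Z.left
    obtain ⟨ψ, hψ⟩ := Localization.exists_rightFraction L W (i.hom ≫ Z.hom)
    have hiso : IsIso (L.map ψ.s) := Localization.inverts L W _ ψ.hs
    have hψ' : i.hom ≫ Z.hom = inv (L.map ψ.s) ≫ L.map ψ.f := hψ
    let j : (Over.post L).obj (Over.mk ψ.f) ≅ Z :=
      Over.isoMk (@asIso _ _ _ _ (L.map ψ.s) hiso ≪≫ i) (by
        change (L.map ψ.s ≫ i.hom) ≫ Z.hom = L.map ψ.f
        rw [Category.assoc, hψ', IsIso.hom_inv_id_assoc])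
    exact ⟨L'.obj (Over.mk ψ.f), ⟨e.app _ ≪≫ j⟩⟩

include W L L' e in
theorem isEquivalence : Φ.IsEquivalence := by
  have h1 := faithful W L L' Φ e
  have h2 := full W L L' Φ e
  have h3 := essSurj W L L' Φ e
  exact { }

end Groth.Agent.Lib.Helper9.OverLoc
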