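import Mathlib
import Groth.Agent.Lib.Helper9.Misc.MDQ1
import Groth.Agent.Lib.Helper9.Misc.OverLoc

/-! Helper9: localization of a full subcategory closed under sources of `W`-morphisms is fully
faithful into the localization (right calculus of fractions); `Over.post L` is a localization
functor. -/

set_option linter.style.haveILetI false
set_option linter.unusedSectionVars false
set_option linter.unusedVariables false

universe v₁ v₂ v₃ u₁ u₂ u₃
open CategoryTheory Limits

namespace Groth.Agent.H9.MDQ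

section Sub
variable {C : Type u₁} [Category.{v₁} C] (W : MorphismProperty C) [W.HasRightCalculusOfFractions]
  (P : ObjectProperty C) (hP : ∀ ⦃X' X : C⦄ (s : X' ⟶ X), W s → P X → P X')

include hP in
theorem hasRCF_inverseImage_ι : (W.inverseImage P.ι).HasRightCalculusOfFractions where
  __ := (inferInstance : (W.inverseImage P.ι).IsMultiplicative)
  exists_rightFraction X Y φ := by
    obtain ⟨ψ, hψ⟩ := (MorphismProperty.LeftFraction.mk (W := W) (P.ι.map φ.f) (P.ι.map φ.s)
      φ.hs).exists_rightFraction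
    have hX' : P ψ.X' := hP ψ.s ψ.hs X.property
    refine ⟨⟨(ObjectProperty.homMk ψ.s : (⟨ψ.X', hX'⟩ : P.FullSubcategory) ⟶ X), ψ.hs,
      ObjectProperty.homMk ψ.f⟩, ?_⟩
    apply ObjectProperty.hom_ext
    exact hψ
  ext X' X Y f₁ f₂ s hs h := by
    obtain ⟨Z, t, ht, e⟩ := MorphismProperty.HasRightCalculusOfFractions.ext (W := W)
      (P.ι.map f₁) (P.ι.map f₂) (P.ι.map s) hs
      (by rw [← Functor.map_comp, ← Functor.map_comp, h])
    have hZ : P Z := hP t ht X'.property
    refine ⟨⟨Z, hZ⟩, ObjectProperty.homMk t, ht, ?_⟩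
    apply ObjectProperty.hom_ext
    exact e

variable {D₁ : Type u₂} [Category.{v₂} D₁] {D₂ : Type u₃} [Category.{v₃} D₂]
  (L₁ : P.FullSubcategory ⥤ D₁) [L₁.IsLocalization (W.inverseImage P.ι)]
  (L₂ : C ⥤ D₂) [L₂.IsLocalization W] (G : D₁ ⥤ D₂) (α : L₁ ⋙ G ≅ P.ι ⋙ L₂)

include hP W α in
theorem full_faithful_of_subcategory : G.Full ∧ G.Faithful := by
  haveI := hasRCF_inverseImage_ι W P hP
  haveI := Localization.essSurj L₁ (W.inverseImage P.ι)
  have hnat : ∀ {A B : P.FullSubcategory} (c : A ⟶ B),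
      G.map (L₁.map c) = α.hom.app A ≫ L₂.map (P.ι.map c) ≫ α.inv.app B := by
    intro A B c
    have := α.hom.naturality c
    simp only [Functor.comp_map] at this
    rw [← Category.assoc, ← this, Category.assoc, Iso.hom_inv_id_app, Category.comp_id]
  refine ⟨?_, ?_⟩
  · refine G.full_of_comp_essSurj L₁ (fun A B ψ => ?_)
    obtain ⟨ψ', hψ'⟩ : ∃ ψ' : L₂.obj (P.ι.obj A) ⟶ L₂.obj (P.ι.obj B),
        ψ' = α.inv.app A ≫ ψ ≫ α.hom.app B := ⟨_, rfl⟩
    obtain ⟨z, hz⟩ := Localization.exists_rightFraction L₂ W ψ'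
    have hX' : P z.X' := hP z.s z.hs A.property
    let A' : P.FullSubcategory := ⟨z.X', hX'⟩
    let s₀ : A' ⟶ A := ObjectProperty.homMk z.s
    let f₀ : A' ⟶ B := ObjectProperty.homMk z.f
    have hs₀ : (W.inverseImage P.ι) s₀ := z.hs
    haveI : IsIso (L₁.map s₀) := Localization.inverts L₁ (W.inverseImage P.ι) s₀ hs₀
    have hz' : L₂.map z.s ≫ ψ' = L₂.map z.f := by
      rw [hz]; exact MorphismProperty.RightFraction.map_s_comp_map z L₂ _
    refine ⟨inv (L₁.map s₀) ≫ L₁.map f₀, ?_⟩
    rw [G.map_comp, Functor.map_inv, IsIso.inv_comp_eq, hnat f₀, hnat s₀]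
    change α.hom.app A' ≫ L₂.map z.f ≫ α.inv.app B =
      (α.hom.app A' ≫ L₂.map z.s ≫ α.inv.app A) ≫ ψ
    rw [← hz', hψ']
    simp only [Category.assoc, Iso.hom_inv_id_app]
    erw [Category.comp_id]
  · refine G.faithful_of_comp_essSurj L₁ (fun A B f g hfg => ?_)
    obtain ⟨A', s, hs, c₁, c₂, h1, h2⟩ :=
      exists_common_rightFraction (W.inverseImage P.ι) L₁ f g
    have e1 : G.map (L₁.map c₁) = G.map (L₁.map c₂) := by
      rw [← h1, ← h2, G.map_comp, G.map_comp, hfg]
    have e2 : L₂.map (P.ι.map c₁) = L₂.map (P.ι.map c₂) := by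
      rw [hnat c₁, hnat c₂] at e1
      exact (cancel_mono (α.inv.app B)).mp ((cancel_epi (α.hom.app A')).mp e1)
    obtain ⟨Z, t, ht, e3⟩ := (MorphismProperty.map_eq_iff_precomp L₂ W _ _).mp e2
    have hZ : P Z := hP t ht A'.property
    let t₀ : (⟨Z, hZ⟩ : P.FullSubcategory) ⟶ A' := ObjectProperty.homMk t
    have ht₀ : (W.inverseImage P.ι) t₀ := ht
    have e4 : t₀ ≫ c₁ = t₀ ≫ c₂ := by
      apply ObjectProperty.hom_ext
      exact e3
    have e5 : L₁.map c₁ = L₁.map c₂ :=
      (MorphismProperty.map_eq_iff_precomp L₁ (W.inverseImage P.ι) _ _).mpr ⟨_, t₀, ht₀, e4⟩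
    haveI : IsIso (L₁.map s) := Localization.inverts L₁ (W.inverseImage P.ι) s hs
    rw [← cancel_epi (L₁.map s), h1, h2, e5]

end Sub

section OverPost
variable {C : Type u₁} [Category.{v₁} C] (W : MorphismProperty C) [W.HasRightCalculusOfFractions]
  (S : C) {D : Type u₂} [Category.{v₂} D] (L : C ⥤ D) [L.IsLocalization W]

include W in
theorem isLocalization_over_post :
    (Over.post (X := S) L).IsLocalization (W.inverseImage (Over.forget S)) := by
  have hinv : (W.inverseImage (Over.forget S)).IsInvertedBy (Over.post (X := S) L) := by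
    intro a b f hf
    haveI : IsIso ((Over.forget (L.obj S)).map ((Over.post (X := S) L).map f)) :=
      Localization.inverts L W f.left hf
    exact isIso_of_reflects_iso _ (Over.forget (L.obj S))
  let Φ := Localization.lift (Over.post (X := S) L) hinv (W.inverseImage (Over.forget S)).Q
  let e : (W.inverseImage (Over.forget S)).Q ⋙ Φ ≅ Over.post (X := S) L :=
    Localization.fac _ hinv _
  haveI : Φ.IsEquivalence :=
    Groth.Agent.Lib.Helper9.OverLoc.isEquivalence W L (W.inverseImage (Over.forget S)).Q Φ e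
  exact Functor.IsLocalization.of_equivalence_target (W.inverseImage (Over.forget S)).Q
    (W.inverseImage (Over.forget S)) (Over.post (X := S) L) Φ.asEquivalence e

end OverPost

end Groth.Agent.H9.MDQ
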