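import Mathlib
import Groth.Agent.Lib.Helper9.Misc.MDQ4
import Groth.Agent.Lib.Helper9.Misc.MDP4

/-! Helper9: S18758 — the localization of finite type modulus pairs over `S` is a full subcategory
of the slice of the localization. -/

set_option linter.style.haveILetI false
set_option linter.unusedSectionVars false
set_option linter.unusedVariables false

universe u v w
open CategoryTheory Limits AlgebraicGeometry

namespace Groth.Agent.H9.MDQ

open Groth.Agent.H9.MDP

theorem S18758_main (S : ModPair.Pair.{u})
    {E : Type v} [Category.{w} E]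
    (L' : (ObjectProperty.FullSubcategory
        ((fun X : Over S => LocallyOfFiniteType X.hom.hom ∧ QuasiCompact X.hom.hom) :
          ObjectProperty (Over S))) ⥤ E)
    [L'.IsLocalization ((((ModPair.Pair.admBlowup.{u}).inverseImage (Over.forget S)).inverseImage
      (ObjectProperty.ι ((fun X : Over S => LocallyOfFiniteType X.hom.hom ∧ QuasiCompact X.hom.hom) :
          ObjectProperty (Over S)))))]
    (Φ : E ⥤ Over ((ModPair.Pair.admBlowup.{u}).Q.obj S))
    (e : L' ⋙ Φ ≅ ObjectProperty.ι ((fun X : Over S => LocallyOfFiniteType X.hom.hom ∧ QuasiCompact X.hom.hom) :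
          ObjectProperty (Over S)) ⋙ Over.post (ModPair.Pair.admBlowup.{u}).Q) :
    Φ.Full ∧ Φ.Faithful := by
  haveI := S18738_main.{u}
  haveI := isLocalization_over_post (ModPair.Pair.admBlowup.{u}) S (ModPair.Pair.admBlowup.{u}).Q
  refine full_faithful_of_subcategory ((ModPair.Pair.admBlowup.{u}).inverseImage (Over.forget S))
    _ ?_ L' (Over.post (ModPair.Pair.admBlowup.{u}).Q) Φ e
  intro X' X s hs hX
  obtain ⟨h1, h2⟩ := hX
  obtain ⟨-, hprop, -⟩ := (hs : ModPair.IsAdmBlowup X'.left.mod X.left.mod s.left.hom)
  haveI : LocallyOfFiniteType X.hom.hom := h1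
  haveI : QuasiCompact X.hom.hom := h2
  haveI : IsProper s.left.hom := hprop
  have hw : X'.hom.hom = s.left.hom ≫ X.hom.hom :=
    congrArg ModPair.Pair.Hom.hom (Over.w s).symm
  constructor
  · change LocallyOfFiniteType X'.hom.hom
    rw [hw]; infer_instance
  · change QuasiCompact X'.hom.hom
    rw [hw]; infer_instance

end Groth.Agent.H9.MDQ
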