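import Mathlib

/-! Helper9: a telescoping identity for multilinear maps (S13682) -/

set_option linter.style.haveILetI false

namespace Groth.Agent.H9.MLTel

universe u v w
variable {A : Type u} [CommRing A] {r : ℕ} {M : Fin r → Type v} {N : Type w}
  [∀ i, AddCommGroup (M i)] [∀ i, Module A (M i)] [AddCommGroup N] [Module A N]
  (φ : MultilinearMap A M N)

/-- first-order term -/
def T (i : Fin r) (a u c : ∀ k, M k) : N :=
  φ (fun k => if k < i then a k else if k = i then u k else c k)

/-- second-order term -/
def E (a b c u v : ∀ k, M k) (i k : Fin r) : N :=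
  φ (fun j => if j < i then a j else if j = i then u j else if j < k then b j
    else if j = k then v j else c j)

lemma T_sub_right (i : Fin r) (a u b c : ∀ k, M k) :
    T φ i a u b - T φ i a u c = ∑ k ∈ Finset.Ioi i, E φ a b c u (b - c) i k := by
  have h := φ.map_sub_map_piecewise
    (fun k => if k < i then a k else if k = i then u k else b k) c (Finset.Ioi i)
  have e1 : (Finset.Ioi i).piecewise c
      (fun k => if k < i then a k else if k = i then u k else b k) =
      fun k => if k < i then a k else if k = i then u k else c k := by
    funext k
    by_cases hk : k ∈ Finset.Ioi i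
    · rw [Finset.piecewise_eq_of_mem _ _ _ hk]
      have hk' : i < k := Finset.mem_Ioi.mp hk
      rw [if_neg (not_lt.mpr hk'.le), if_neg hk'.ne']
    · rw [Finset.piecewise_eq_of_notMem _ _ _ hk]
      have hk' : k ≤ i := not_lt.mp (fun h => hk (Finset.mem_Ioi.mpr h))
      rcases hk'.lt_or_eq with h1 | h1
      · rw [if_pos h1, if_pos h1]
      · rw [if_neg (by rw [h1]; exact lt_irrefl _), if_pos h1,
          if_neg (by rw [h1]; exact lt_irrefl _), if_pos h1]
  rw [e1] at h
  unfold T
  rw [h]
  refine Finset.sum_congr rfl fun k hk => ?_
  have hik : i < k := Finset.mem_Ioi.mp hk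
  unfold E
  congr 1
  funext j
  simp only [Finset.mem_Ioi, Pi.sub_apply]
  by_cases h1 : j < i
  · have : (i < j → j < k) := fun h => absurd h (not_lt.mpr h1.le)
    rw [if_pos this, if_pos h1, if_pos h1]
  · by_cases h2 : j = i
    · have : (i < j → j < k) := fun h => absurd h (by rw [h2]; exact lt_irrefl _)
      rw [if_pos this, if_neg h1, if_pos h2, if_neg h1, if_pos h2]
    · have hij : i < j := lt_of_le_of_ne (not_lt.mp h1) (Ne.symm h2)
      by_cases h3 : j < k
      · rw [if_pos (fun _ => h3), if_neg h1, if_neg h2, if_neg h1, if_neg h2, if_pos h3]
      · have : ¬ (i < j → j < k) := fun h => h3 (h hij)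
        by_cases h4 : k = j
        · subst h4
          simp only [if_neg this, if_neg h1, if_neg h2, if_neg h3, if_true]
        · simp only [if_neg this, if_neg h1, if_neg h2, if_neg h3, if_neg h4, if_neg (Ne.symm h4)]

lemma T_sub_left (k : Fin r) (a b v c : ∀ k, M k) :
    T φ k a v c - T φ k b v c = ∑ i ∈ Finset.Iio k, E φ a b c (a - b) v i k := by
  have h := φ.map_sub_map_piecewise
    (fun j => if j < k then a j else if j = k then v j else c j) b (Finset.Iio k)
  have e1 : (Finset.Iio k).piecewise b
      (fun j => if j < k then a j else if j = k then v j else c j) =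
      fun j => if j < k then b j else if j = k then v j else c j := by
    funext j
    by_cases hj : j ∈ Finset.Iio k
    · rw [Finset.piecewise_eq_of_mem _ _ _ hj]
      have hj' : j < k := Finset.mem_Iio.mp hj
      rw [if_pos hj']
    · rw [Finset.piecewise_eq_of_notMem _ _ _ hj]
      have hj' : ¬ j < k := fun h => hj (Finset.mem_Iio.mpr h)
      rw [if_neg hj', if_neg hj']
  rw [e1] at h
  unfold T
  rw [h]
  refine Finset.sum_congr rfl fun i hi => ?_
  have hik : i < k := Finset.mem_Iio.mp hi
  unfold E
  congr 1
  funext j
  simp only [Finset.mem_Iio, Pi.sub_apply]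
  by_cases h1 : j < i
  · have hjk : j < k := h1.trans hik
    rw [if_pos (fun _ => h1), if_pos hjk, if_pos h1]
  · by_cases h2 : j = i
    · have : ¬ (j < k → j < i) := fun h => h1 (h (by rw [h2]; exact hik))
      have hjk : j < k := by rw [h2]; exact hik
      rw [if_neg this, if_pos h2.symm, if_pos hjk, if_neg h1, if_pos h2]
    · by_cases h3 : j < k
      · have : ¬ (j < k → j < i) := fun h => h1 (h h3)
        rw [if_neg this, if_neg (Ne.symm h2), if_neg h1, if_neg h2, if_pos h3]
      · rw [if_pos (fun h => absurd h h3), if_neg h3, if_neg h1, if_neg h2, if_neg h3]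

lemma E_smul_v (α : A) (a b c u v : ∀ k, M k) (i k : Fin r) (hik : i < k) :
    E φ a b c u (α • v) i k = α • E φ a b c u v i k := by
  classical
  unfold E
  have e1 : (fun j => if j < i then a j else if j = i then u j else if j < k then b j
      else if j = k then (α • v) j else c j) =
      Function.update (fun j => if j < i then a j else if j = i then u j else if j < k then b j
      else if j = k then v j else c j) k (α • v k) := by
    funext j
    by_cases hj : j = k
    · subst hj
      rw [Function.update_self, if_neg (not_lt.mpr hik.le), if_neg hik.ne', if_neg (lt_irrefl _),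
        if_pos rfl]
      rfl
    · rw [Function.update_of_ne hj]
      simp only [hj, if_false]
  have e2 : (fun j => if j < i then a j else if j = i then u j else if j < k then b j
      else if j = k then v j else c j) =
      Function.update (fun j => if j < i then a j else if j = i then u j else if j < k then b j
      else if j = k then v j else c j) k (v k) := by
    funext j
    by_cases hj : j = k
    · subst hj
      rw [Function.update_self, if_neg (not_lt.mpr hik.le), if_neg hik.ne', if_neg (lt_irrefl _),
        if_pos rfl]
    · rw [Function.update_of_ne hj]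
  rw [e1, φ.map_update_smul, ← e2]

lemma E_smul_u (α : A) (a b c u v : ∀ k, M k) (i k : Fin r) :
    E φ a b c (α • u) v i k = α • E φ a b c u v i k := by
  classical
  unfold E
  have e1 : (fun j => if j < i then a j else if j = i then (α • u) j else if j < k then b j
      else if j = k then v j else c j) =
      Function.update (fun j => if j < i then a j else if j = i then u j else if j < k then b j
      else if j = k then v j else c j) i (α • u i) := by
    funext j
    by_cases hj : j = i
    · subst hj
      rw [Function.update_self, if_neg (lt_irrefl _), if_pos rfl]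
      rfl
    · rw [Function.update_of_ne hj]
      simp only [hj, if_false]
  have e2 : (fun j => if j < i then a j else if j = i then u j else if j < k then b j
      else if j = k then v j else c j) =
      Function.update (fun j => if j < i then a j else if j = i then u j else if j < k then b j
      else if j = k then v j else c j) i (u i) := by
    funext j
    by_cases hj : j = i
    · subst hj
      rw [Function.update_self, if_neg (lt_irrefl _), if_pos rfl]
    · rw [Function.update_of_ne hj]
  rw [e1, φ.map_update_smul, ← e2]

/-- the key exchange identity -/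
lemma key (α : A) (a b c u v : ∀ k, M k) (hab : a - b = α • u) (hbc : b - c = α • v) :
    ∑ i, (T φ i a u b - T φ i a u c) = ∑ k, (T φ k a v c - T φ k b v c) := by
  simp only [T_sub_right, T_sub_left, hab, hbc]
  rw [Finset.sum_comm' (s' := fun k => Finset.Iio k) (t' := Finset.univ)]
  · refine Finset.sum_congr rfl fun k _ => Finset.sum_congr rfl fun i hi => ?_
    rw [E_smul_v φ α a b c u v i k (Finset.mem_Iio.mp hi), E_smul_u]
  · intro i k
    simp

lemma T_sum (i : Fin r) (a c : ∀ k, M k) {ι : Type*} (s : Finset ι) (y : ι → ∀ k, M k) :
    T φ i a (∑ j ∈ s, y j) c = ∑ j ∈ s, T φ i a (y j) c := by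
  classical
  unfold T
  have e : ∀ (z : ∀ k, M k), (fun k => if k < i then a k else if k = i then z k else c k) =
      Function.update (fun k => if k < i then a k else if k = i then (0 : M k) else c k) i (z i) := by
    intro z
    funext k
    by_cases hk : k = i
    · subst hk
      rw [Function.update_self, if_neg (lt_irrefl _), if_pos rfl]
    · rw [Function.update_of_ne hk]
      simp only [hk, if_false]
  rw [e (∑ j ∈ s, y j), Finset.sum_apply, φ.map_update_sum]
  refine Finset.sum_congr rfl fun j _ => ?_
  rw [e (y j)]

theorem S13682_main (α : A) (n : ℕ)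
    (y w : ∀ i, ℕ → M i) (hw : ∀ i, ∀ j < n, w i (j + 1) = w i j + α • y i j) :
    (∑ i : Fin r, ∑ j ∈ Finset.range n,
        φ (fun k => if k < i then w k (j + 1) else if k = i then y k j else w k j)) =
      ∑ i : Fin r, ∑ j ∈ Finset.range n,
        φ (fun k => if k < i then w k n else if k = i then y k j else w k 0) := by
  -- rewrite with T
  show (∑ i : Fin r, ∑ j ∈ Finset.range n,
      T φ i (fun k => w k (j + 1)) (fun k => y k j) (fun k => w k j)) =
    ∑ i : Fin r, ∑ j ∈ Finset.range n,
      T φ i (fun k => w k n) (fun k => y k j) (fun k => w k 0)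
  induction n with
  | zero => simp
  | succ n ih =>
    have ih' := ih (fun i j hj => hw i j (Nat.lt_succ_of_lt hj))
    simp only [Finset.sum_range_succ, Finset.sum_add_distrib]
    rw [ih']
    -- the telescoped relation w n = w 0 + α Σ y
    have hwn : ∀ m, m ≤ n → ∀ i, w i m = w i 0 + α • ∑ j ∈ Finset.range m, y i j := by
      intro m
      induction m with
      | zero => intro _ i; simp
      | succ m ihm =>
        intro hm i
        rw [hw i m (by omega), ihm (Nat.le_of_succ_le hm) i, Finset.sum_range_succ,
          smul_add, add_assoc]
    have hk := key φ α (fun k => w k (n + 1)) (fun k => w k n) (fun k => w k 0)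
      (fun k => y k n) (fun k => ∑ j ∈ Finset.range n, y k j)
      (by funext k; simp only [Pi.sub_apply, Pi.smul_apply]; rw [hw k n (Nat.lt_succ_self n)]; abel)
      (by funext k; simp only [Pi.sub_apply, Pi.smul_apply]; rw [hwn n le_rfl k]; abel)
    have e3 : ∀ k : Fin r, ∀ a c : ∀ k, M k,
        T φ k a (fun k => ∑ j ∈ Finset.range n, y k j) c =
        ∑ j ∈ Finset.range n, T φ k a (fun k => y k j) c := by
      intro k a c
      have := T_sum φ k a c (Finset.range n) (fun j k => y k j)
      have e : (∑ j ∈ Finset.range n, fun k => y k j) = fun k => ∑ j ∈ Finset.range n, y k j := by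
        funext k
        rw [Finset.sum_apply]
      rw [e] at this
      exact this
    simp only [e3, Finset.sum_sub_distrib] at hk
    -- rearrange
    have := hk
    rw [sub_eq_sub_iff_add_eq_add] at this
    rw [add_comm]
    exact this

end Groth.Agent.H9.MLTel
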