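import Mathlib

set_option autoImplicit false
set_option linter.unusedSectionVars false
set_option linter.unusedVariables false

open TensorProduct

noncomputable section

namespace Groth.Agent.H9.MM

universe u v w

section Tens
variable {k : Type u} [Field k] {V : Type v} {W : Type w} [AddCommGroup V] [Module k V]
  [AddCommGroup W] [Module k W]

/-- the image of `A ⊗ B` in `V ⊗ W` -/
def tp (A : Submodule k V) (B : Submodule k W) : Submodule k (V ⊗[k] W) :=
  LinearMap.range (TensorProduct.map A.subtype B.subtype)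

lemma tmul_mem_tp {A : Submodule k V} {B : Submodule k W} {a : V} {b : W} (ha : a ∈ A)
    (hb : b ∈ B) : a ⊗ₜ[k] b ∈ tp A B :=
  ⟨(⟨a, ha⟩ : A) ⊗ₜ[k] (⟨b, hb⟩ : B), by simp⟩

lemma tp_le {A : Submodule k V} {B : Submodule k W} {S : Submodule k (V ⊗[k] W)}
    (h : ∀ a ∈ A, ∀ b ∈ B, a ⊗ₜ[k] b ∈ S) : tp A B ≤ S := by
  rintro _ ⟨s, rfl⟩
  induction s using TensorProduct.induction_on with
  | zero => simp
  | tmul a b => simpa using h a a.2 b b.2
  | add x y hx hy => rw [map_add]; exact S.add_mem hx hy

lemma tp_mono {A A' : Submodule k V} {B B' : Submodule k W} (hA : A ≤ A') (hB : B ≤ B') :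
    tp A B ≤ tp A' B' :=
  tp_le fun a ha b hb => tmul_mem_tp (hA ha) (hB hb)

lemma map_mem_tp {V' : Type*} {W' : Type*} [AddCommGroup V'] [Module k V'] [AddCommGroup W']
    [Module k W'] (f : V →ₗ[k] V') (g : W →ₗ[k] W') {A : Submodule k V} {B : Submodule k W}
    {A' : Submodule k V'} {B' : Submodule k W'} (hf : ∀ a ∈ A, f a ∈ A') (hg : ∀ b ∈ B, g b ∈ B')
    {t : V ⊗[k] W} (ht : t ∈ tp A B) : TensorProduct.map f g t ∈ tp A' B' := by
  have h : tp A B ≤ (tp A' B').comap (TensorProduct.map f g) := tp_le fun a ha b hb => by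
    rw [Submodule.mem_comap, TensorProduct.map_tmul]
    exact tmul_mem_tp (hf a ha) (hg b hb)
  exact h ht

lemma comm_mem_tp {A : Submodule k V} {B : Submodule k W} {t : V ⊗[k] W} (ht : t ∈ tp A B) :
    TensorProduct.comm k V W t ∈ tp B A := by
  have h : tp A B ≤ (tp B A).comap (TensorProduct.comm k V W).toLinearMap :=
    tp_le fun a ha b hb => by
      rw [Submodule.mem_comap, LinearEquiv.coe_coe, TensorProduct.comm_tmul]
      exact tmul_mem_tp hb ha
  exact h ht

/-- functionals on the second factor separate points of the tensor product -/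
lemma eq_zero_of_forall_dual (s : V ⊗[k] W)
    (h : ∀ g : Module.Dual k W, TensorProduct.rid k V (LinearMap.lTensor V g s) = 0) : s = 0 := by
  classical
  let b := Module.Free.chooseBasis k W
  apply (TensorProduct.equivFinsuppOfBasisRight b).injective
  rw [map_zero]
  ext i
  rw [TensorProduct.equivFinsuppOfBasisRight_apply, h, Finsupp.zero_apply]

lemma rid_lTensor_mem {A : Submodule k V} {t : V ⊗[k] W} (ht : t ∈ tp A (⊤ : Submodule k W))
    (g : Module.Dual k W) : TensorProduct.rid k V (LinearMap.lTensor V g t) ∈ A := by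
  have h : tp A (⊤ : Submodule k W) ≤
      A.comap ((TensorProduct.rid k V).toLinearMap ∘ₗ LinearMap.lTensor V g) :=
    tp_le fun a ha b _ => by
      rw [Submodule.mem_comap, LinearMap.comp_apply, LinearMap.lTensor_tmul, LinearEquiv.coe_coe,
        TensorProduct.rid_tmul]
      exact A.smul_mem _ ha
  exact h ht

/-- `t ∈ A ⊗ W` as soon as all its slices lie in `A` -/
lemma mem_tp_top_of_forall {A : Submodule k V} {t : V ⊗[k] W}
    (h : ∀ g : Module.Dual k W, TensorProduct.rid k V (LinearMap.lTensor V g t) ∈ A) :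
    t ∈ tp A (⊤ : Submodule k W) := by
  classical
  let b := Module.Free.chooseBasis k W
  have ht : t = (TensorProduct.equivFinsuppOfBasisRight b).symm
      (TensorProduct.equivFinsuppOfBasisRight b t) := (LinearEquiv.symm_apply_apply _ _).symm
  rw [ht, TensorProduct.equivFinsuppOfBasisRight_symm_apply]
  unfold Finsupp.sum
  refine Submodule.sum_mem _ fun i _ => ?_
  rw [TensorProduct.equivFinsuppOfBasisRight_apply]
  exact tmul_mem_tp (h (b.coord i)) Submodule.mem_top

end Tens

section Tens2
variable {k : Type u} [Field k] {V : Type v} [AddCommGroup V] [Module k V]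

/-- `(A ⊗ V) ∩ (V ⊗ A) = A ⊗ A` -/
lemma mem_tp_of_left_right {A : Submodule k V} {t : V ⊗[k] V}
    (h1 : t ∈ tp A (⊤ : Submodule k V)) (h2 : t ∈ tp (⊤ : Submodule k V) A) : t ∈ tp A A := by
  obtain ⟨π, hπ⟩ := LinearMap.exists_leftInverse_of_injective A.subtype (Submodule.ker_subtype A)
  set P : V →ₗ[k] V := A.subtype ∘ₗ π with hP
  have hPa : ∀ a ∈ A, P a = a := by
    intro a ha
    have := LinearMap.congr_fun hπ ⟨a, ha⟩
    simp only [LinearMap.comp_apply, Submodule.subtype_apply, LinearMap.id_apply] at this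
    rw [hP, LinearMap.comp_apply, this]
    rfl
  have e1 : TensorProduct.map P LinearMap.id t = t := by
    have h : tp A (⊤ : Submodule k V) ≤
        LinearMap.eqLocus (TensorProduct.map P LinearMap.id) LinearMap.id :=
      tp_le fun a ha b _ => by
        rw [LinearMap.mem_eqLocus, TensorProduct.map_tmul, hPa a ha]
        rfl
    exact h h1
  have e2 : TensorProduct.map LinearMap.id P t = t := by
    have h : tp (⊤ : Submodule k V) A ≤
        LinearMap.eqLocus (TensorProduct.map LinearMap.id P) LinearMap.id :=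
      tp_le fun a _ b hb => by
        rw [LinearMap.mem_eqLocus, TensorProduct.map_tmul, hPa b hb]
        rfl
    exact h h2
  have e3 : t = TensorProduct.map A.subtype A.subtype (TensorProduct.map π π t) := by
    rw [← LinearMap.comp_apply, ← TensorProduct.map_comp, ← hP]
    conv_lhs => rw [← e1, ← e2]
    rw [← LinearMap.comp_apply, ← TensorProduct.map_comp]
    rfl
  rw [e3]
  exact ⟨_, rfl⟩

/-- tensor products of injective maps are injective on `tp A A` -/
lemma eq_zero_of_map_eq_zero {V' : Type*} [AddCommGroup V'] [Module k V'] (φ : V →ₗ[k] V')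
    {A : Submodule k V} (hφ : ∀ a ∈ A, φ a = 0 → a = 0) {t : V ⊗[k] V} (ht : t ∈ tp A A)
    (h0 : TensorProduct.map φ φ t = 0) : t = 0 := by
  obtain ⟨s, rfl⟩ := ht
  set f : A →ₗ[k] V' := φ ∘ₗ A.subtype with hf
  have hker : LinearMap.ker f = ⊥ := by
    rw [LinearMap.ker_eq_bot']
    intro a ha
    exact Subtype.ext (hφ a a.2 ha)
  obtain ⟨g, hg⟩ := LinearMap.exists_leftInverse_of_injective f hker
  have h1 : TensorProduct.map f f s = 0 := by
    rw [hf, TensorProduct.map_comp, LinearMap.comp_apply]
    exact h0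
  have h2 : s = TensorProduct.map g g (TensorProduct.map f f s) := by
    rw [← LinearMap.comp_apply, ← TensorProduct.map_comp, hg, TensorProduct.map_id]
    rfl
  rw [h2, h1, map_zero, map_zero]

end Tens2

end Groth.Agent.H9.MM
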