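import Mathlib
import Groth.Agent.Lib.Helper9.Misc.MMTens

set_option autoImplicit false
set_option linter.unusedSectionVars false
set_option linter.unusedVariables false

open TensorProduct Coalgebra

attribute [local instance] LieRing.ofAssociativeRing

noncomputable section

namespace Groth.Agent.H9.MM

universe u v w

section Inj
variable (k : Type u) [Field k] (L : Type v) [LieRing L] [LieAlgebra k L]

local notation "𝔘" => UniversalEnvelopingAlgebra k L

/-- the canonical map `L → U(L)` -/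
abbrev iota : L →ₗ⁅k⁆ 𝔘 := UniversalEnvelopingAlgebra.ι k

/-- `x ↦ x ⊗ 1 + 1 ⊗ x` as a Lie homomorphism -/
def comulLie : L →ₗ⁅k⁆ (𝔘 ⊗[k] 𝔘) :=
  { toFun := fun x => iota k L x ⊗ₜ[k] (1 : 𝔘) + (1 : 𝔘) ⊗ₜ[k] iota k L x
    map_add' := fun x y => by
      simp only [map_add, add_tmul, tmul_add]
      abel
    map_smul' := fun c x => by
      simp only [map_smul, RingHom.id_apply, smul_add, ← TensorProduct.smul_tmul', tmul_smul]
    map_lie' := fun {x y} => by
      simp only [LieHom.map_lie, LieRing.of_associative_ring_bracket, add_mul, mul_add,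
        Algebra.TensorProduct.tmul_mul_tmul, one_mul, mul_one, sub_tmul, tmul_sub]
      abel }

lemma comulLie_apply (x : L) :
    comulLie k L x = iota k L x ⊗ₜ[k] (1 : 𝔘) + (1 : 𝔘) ⊗ₜ[k] iota k L x := rfl

/-- the comultiplication of `U(L)` -/
def comulU : 𝔘 →ₐ[k] 𝔘 ⊗[k] 𝔘 := UniversalEnvelopingAlgebra.lift k (comulLie k L)

lemma comulU_iota (x : L) :
    comulU k L (iota k L x) = iota k L x ⊗ₜ[k] (1 : 𝔘) + (1 : 𝔘) ⊗ₜ[k] iota k L x := by
  rw [comulU, UniversalEnvelopingAlgebra.lift_ι_apply, comulLie_apply]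

/-- the counit of `U(L)` -/
def counitU : 𝔘 →ₐ[k] k := UniversalEnvelopingAlgebra.lift k (0 : L →ₗ⁅k⁆ k)

lemma counitU_iota (x : L) : counitU k L (iota k L x) = 0 := by
  rw [counitU, UniversalEnvelopingAlgebra.lift_ι_apply]
  rfl

/-- `k + L ⊆ U(L)` -/
def VV : Submodule k 𝔘 :=
  Submodule.span k {(1 : 𝔘)} ⊔ LinearMap.range ((iota k L : L →ₗ⁅k⁆ 𝔘) : L →ₗ[k] 𝔘)

lemma one_mem_VV : (1 : 𝔘) ∈ VV k L :=
  Submodule.mem_sup_left (Submodule.mem_span_singleton_self 1)

lemma iota_mem_VV (x : L) : iota k L x ∈ VV k L :=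
  Submodule.mem_sup_right ⟨x, rfl⟩

lemma one_mem_pow (n : ℕ) : (1 : 𝔘) ∈ VV k L ^ n := by
  induction n with
  | zero => rw [pow_zero]; exact Submodule.one_le.mp le_rfl
  | succ n ih =>
    rw [pow_succ]
    have := Submodule.mul_mem_mul ih (one_mem_VV k L)
    rwa [mul_one] at this

lemma pow_le_succ (n : ℕ) : VV k L ^ n ≤ VV k L ^ (n + 1) := by
  intro u hu
  rw [pow_succ]
  have := Submodule.mul_mem_mul hu (one_mem_VV k L)
  rwa [mul_one] at this

lemma pow_mono {n m : ℕ} (h : n ≤ m) : VV k L ^ n ≤ VV k L ^ m := by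
  induction m, h using Nat.le_induction with
  | base => exact le_rfl
  | succ m _ ih => exact ih.trans (pow_le_succ k L m)

lemma VV_le_pow (n : ℕ) : VV k L ≤ VV k L ^ (n + 1) := by
  have := pow_mono k L (show 1 ≤ n + 1 by omega)
  rwa [pow_one] at this

lemma algebraMap_mem_pow (c : k) (n : ℕ) : algebraMap k 𝔘 c ∈ VV k L ^ n := by
  rw [Algebra.algebraMap_eq_smul_one]
  exact Submodule.smul_mem _ _ (one_mem_pow k L n)

variable {k L}

lemma VV_le {S : Submodule k 𝔘} (h1 : (1 : 𝔘) ∈ S) (hι : ∀ x : L, iota k L x ∈ S) :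
    VV k L ≤ S := by
  refine sup_le ?_ ?_
  · rw [Submodule.span_le, Set.singleton_subset_iff]
    exact h1
  · rintro _ ⟨x, rfl⟩
    exact hι x

lemma pow_succ_le {m : ℕ} {S : Submodule k 𝔘} (h1 : ∀ w ∈ VV k L ^ m, w ∈ S)
    (hι : ∀ x : L, ∀ w ∈ VV k L ^ m, iota k L x * w ∈ S) : VV k L ^ (m + 1) ≤ S := by
  rw [pow_succ', Submodule.mul_le]
  intro v hv w hw
  have h : VV k L ≤ S.comap (LinearMap.mulRight k w) := by
    refine VV_le ?_ ?_
    · rw [Submodule.mem_comap, LinearMap.mulRight_apply, one_mul]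
      exact h1 w hw
    · intro x
      rw [Submodule.mem_comap, LinearMap.mulRight_apply]
      exact hι x w hw
  exact h hv

lemma tmul_mul_mem_tp {A B A' B' : Submodule k 𝔘} {a b : 𝔘} (ha : a ∈ A') (hb : b ∈ B')
    {t : 𝔘 ⊗[k] 𝔘} (ht : t ∈ tp A B) : (a ⊗ₜ[k] b) * t ∈ tp (A' * A) (B' * B) := by
  have h : tp A B ≤ (tp (A' * A) (B' * B)).comap (LinearMap.mulLeft k (a ⊗ₜ[k] b)) :=
    tp_le fun a' ha' b' hb' => by
      rw [Submodule.mem_comap, LinearMap.mulLeft_apply, Algebra.TensorProduct.tmul_mul_tmul]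
      exact tmul_mem_tp (Submodule.mul_mem_mul ha ha') (Submodule.mul_mem_mul hb hb')
  exact h ht

variable (k L)

/-- `∑_{i+j=m} V^i ⊗ V^j` -/
def Dm (m : ℕ) : Submodule k (𝔘 ⊗[k] 𝔘) :=
  ⨆ (p : ℕ × ℕ) (_ : p.1 + p.2 = m), tp (VV k L ^ p.1) (VV k L ^ p.2)

variable {k L}

lemma tp_le_Dm {i j m : ℕ} (h : i + j = m) : tp (VV k L ^ i) (VV k L ^ j) ≤ Dm k L m :=
  le_iSup₂_of_le (i, j) h le_rfl

lemma Dm_le {m : ℕ} {S : Submodule k (𝔘 ⊗[k] 𝔘)}
    (h : ∀ i j, i + j = m → tp (VV k L ^ i) (VV k L ^ j) ≤ S) : Dm k L m ≤ S :=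
  iSup₂_le fun p hp => h p.1 p.2 hp

lemma Dm_le_succ (m : ℕ) : Dm k L m ≤ Dm k L (m + 1) :=
  Dm_le fun i j h => (tp_mono (pow_le_succ k L i) le_rfl).trans (tp_le_Dm (by omega))

lemma tmul_mul_mem_Dm {p q m n : ℕ} (hn : p + q + m = n) {a b : 𝔘} (ha : a ∈ VV k L ^ p)
    (hb : b ∈ VV k L ^ q) {t : 𝔘 ⊗[k] 𝔘} (ht : t ∈ Dm k L m) : (a ⊗ₜ[k] b) * t ∈ Dm k L n := by
  have h : Dm k L m ≤ (Dm k L n).comap (LinearMap.mulLeft k (a ⊗ₜ[k] b)) :=
    Dm_le fun i j hij => by
      intro t ht
      rw [Submodule.mem_comap, LinearMap.mulLeft_apply]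
      have h1 := tmul_mul_mem_tp ha hb ht
      rw [← pow_add, ← pow_add] at h1
      exact tp_le_Dm (by omega) h1
  exact h ht

lemma comulU_mem_Dm : ∀ m : ℕ, ∀ u ∈ VV k L ^ m, comulU k L u ∈ Dm k L m := by
  intro m
  induction m with
  | zero =>
    intro u hu
    rw [pow_zero, Submodule.mem_one] at hu
    obtain ⟨c, rfl⟩ := hu
    rw [AlgHom.commutes, Algebra.algebraMap_eq_smul_one, Algebra.TensorProduct.one_def]
    exact Submodule.smul_mem _ _
      (tp_le_Dm (by omega) (tmul_mem_tp (one_mem_pow k L 0) (one_mem_pow k L 0)))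
  | succ m ih =>
    have h : VV k L ^ (m + 1) ≤ (Dm k L (m + 1)).comap (comulU k L).toLinearMap := by
      refine pow_succ_le ?_ ?_
      · intro w hw
        exact Dm_le_succ m (ih w hw)
      · intro x w hw
        rw [Submodule.mem_comap, AlgHom.toLinearMap_apply, map_mul, comulU_iota, add_mul]
        refine Submodule.add_mem _ ?_ ?_
        · refine tmul_mul_mem_Dm (p := 1) (q := 0) (by omega) ?_ (one_mem_pow k L 0) (ih w hw)
          rw [pow_one]
          exact iota_mem_VV k L x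
        · refine tmul_mul_mem_Dm (p := 0) (q := 1) (by omega) (one_mem_pow k L 0) ?_ (ih w hw)
          rw [pow_one]
          exact iota_mem_VV k L x
    exact fun u hu => h hu

variable (k L)

/-- `ad x` on `U(L)` -/
def adU (x : L) : 𝔘 →ₗ[k] 𝔘 :=
  LinearMap.mulLeft k (iota k L x) - LinearMap.mulRight k (iota k L x)

variable {k L}

lemma adU_apply (x : L) (u : 𝔘) : adU k L x u = iota k L x * u - u * iota k L x := rfl

lemma adU_mul (x : L) (a b : 𝔘) : adU k L x (a * b) = adU k L x a * b + a * adU k L x b := by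
  simp only [adU_apply]
  noncomm_ring

lemma adU_iota (x y : L) : adU k L x (iota k L y) = iota k L ⁅x, y⁆ := by
  rw [adU_apply, LieHom.map_lie, LieRing.of_associative_ring_bracket]

lemma adU_mem_pow (x : L) : ∀ m : ℕ, ∀ u ∈ VV k L ^ m, adU k L x u ∈ VV k L ^ m := by
  intro m
  induction m with
  | zero =>
    intro u hu
    rw [pow_zero, Submodule.mem_one] at hu
    obtain ⟨c, rfl⟩ := hu
    rw [adU_apply, Algebra.commutes, sub_self]
    exact Submodule.zero_mem _
  | succ m ih =>
    have h : VV k L ^ (m + 1) ≤ (VV k L ^ (m + 1)).comap (adU k L x) := by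
      refine pow_succ_le ?_ ?_
      · intro w hw
        exact pow_le_succ k L m (ih w hw)
      · intro y w hw
        rw [Submodule.mem_comap, adU_mul, adU_iota, pow_succ']
        exact Submodule.add_mem _ (Submodule.mul_mem_mul (iota_mem_VV k L _) hw)
          (Submodule.mul_mem_mul (iota_mem_VV k L _) (ih w hw))
    exact fun u hu => h hu

variable (k L)

/-- the second Adams operation `μ ∘ Δ` of `U(L)` -/
def psiU : 𝔘 →ₗ[k] 𝔘 := LinearMap.mul' k 𝔘 ∘ₗ (comulU k L).toLinearMap

variable {k L}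

lemma psiU_apply (u : 𝔘) : psiU k L u = LinearMap.mul' k 𝔘 (comulU k L u) := rfl

lemma mul'_iota_mul (x : L) (t : 𝔘 ⊗[k] 𝔘) :
    LinearMap.mul' k 𝔘 ((iota k L x ⊗ₜ[k] (1 : 𝔘) + (1 : 𝔘) ⊗ₜ[k] iota k L x) * t) =
      (2 : k) • (iota k L x * LinearMap.mul' k 𝔘 t) -
        LinearMap.mul' k 𝔘 (LinearMap.rTensor 𝔘 (adU k L x) t) := by
  induction t using TensorProduct.induction_on with
  | zero => simp
  | tmul a b =>
    rw [add_mul, Algebra.TensorProduct.tmul_mul_tmul, Algebra.TensorProduct.tmul_mul_tmul, map_add,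
      LinearMap.mul'_apply, LinearMap.mul'_apply, LinearMap.mul'_apply, LinearMap.rTensor_tmul,
      LinearMap.mul'_apply, adU_apply, one_mul, one_mul, two_smul]
    noncomm_ring
  | add s t hs ht =>
    simp only [mul_add, map_add, hs, ht, smul_add]
    abel

lemma mul'_rTensor_adU_mem (x : L) {n : ℕ} {t : 𝔘 ⊗[k] 𝔘} (ht : t ∈ Dm k L n) :
    LinearMap.mul' k 𝔘 (LinearMap.rTensor 𝔘 (adU k L x) t) ∈ VV k L ^ n := by
  have h : Dm k L n ≤ (VV k L ^ n).comap
      (LinearMap.mul' k 𝔘 ∘ₗ LinearMap.rTensor 𝔘 (adU k L x)) :=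
    Dm_le fun i j hij => tp_le fun a ha b hb => by
      rw [Submodule.mem_comap, LinearMap.comp_apply, LinearMap.rTensor_tmul, LinearMap.mul'_apply,
        ← hij, pow_add]
      exact Submodule.mul_mem_mul (adU_mem_pow x i a ha) hb
  exact h ht

lemma psiU_one : psiU k L (1 : 𝔘) = 1 := by
  rw [psiU_apply, map_one, Algebra.TensorProduct.one_def, LinearMap.mul'_apply, one_mul]

lemma psiU_iota (x : L) : psiU k L (iota k L x) = (2 : k) • iota k L x := by
  rw [psiU_apply, comulU_iota, map_add, LinearMap.mul'_apply, LinearMap.mul'_apply, one_mul,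
    mul_one, two_smul]

lemma psiU_sub_mem : ∀ m : ℕ, ∀ u ∈ VV k L ^ (m + 1),
    psiU k L u - (2 : k) ^ (m + 1) • u ∈ VV k L ^ m := by
  intro m
  induction m with
  | zero =>
    have h : VV k L ≤ (VV k L ^ 0).comap (psiU k L - (2 : k) ^ (0 + 1) • LinearMap.id) := by
      refine VV_le ?_ ?_
      · rw [Submodule.mem_comap, LinearMap.sub_apply, LinearMap.smul_apply, LinearMap.id_apply,
          psiU_one]
        have : (1 : 𝔘) - (2 : k) ^ (0 + 1) • (1 : 𝔘) = algebraMap k 𝔘 (1 - 2) := by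
          rw [Algebra.algebraMap_eq_smul_one, sub_smul, one_smul, zero_add, pow_one]
        rw [this]
        exact algebraMap_mem_pow k L _ 0
      · intro x
        rw [Submodule.mem_comap, LinearMap.sub_apply, LinearMap.smul_apply, LinearMap.id_apply,
          psiU_iota, zero_add, pow_one, sub_self]
        exact Submodule.zero_mem _
    intro u hu
    rw [zero_add, pow_one] at hu
    exact h hu
  | succ m ih =>
    have h : VV k L ^ (m + 1 + 1) ≤
        (VV k L ^ (m + 1)).comap (psiU k L - (2 : k) ^ (m + 1 + 1) • LinearMap.id) := by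
      refine pow_succ_le ?_ ?_
      · intro w hw
        rw [Submodule.mem_comap, LinearMap.sub_apply, LinearMap.smul_apply, LinearMap.id_apply]
        have e : psiU k L w - (2 : k) ^ (m + 1 + 1) • w =
            (psiU k L w - (2 : k) ^ (m + 1) • w) - (2 : k) ^ (m + 1) • w := by
          rw [pow_succ (2 : k) (m + 1), mul_two, add_smul]
          abel
        rw [e]
        exact Submodule.sub_mem _ (pow_le_succ k L m (ih w hw)) (Submodule.smul_mem _ _ hw)
      · intro x w hw
        rw [Submodule.mem_comap, LinearMap.sub_apply, LinearMap.smul_apply, LinearMap.id_apply,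
          psiU_apply, map_mul, comulU_iota, mul'_iota_mul]
        have e : (2 : k) • (iota k L x * LinearMap.mul' k 𝔘 (comulU k L w)) -
            LinearMap.mul' k 𝔘 (LinearMap.rTensor 𝔘 (adU k L x) (comulU k L w)) -
            (2 : k) ^ (m + 1 + 1) • (iota k L x * w) =
            (2 : k) • (iota k L x * (psiU k L w - (2 : k) ^ (m + 1) • w)) -
            LinearMap.mul' k 𝔘 (LinearMap.rTensor 𝔘 (adU k L x) (comulU k L w)) := by
          rw [psiU_apply, mul_sub, smul_sub, mul_smul_comm, smul_smul, pow_succ (2 : k) (m + 1),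
            mul_comm ((2 : k) ^ (m + 1)) 2]
          abel
        rw [e]
        refine Submodule.sub_mem _ (Submodule.smul_mem _ _ ?_)
          (mul'_rTensor_adU_mem x (comulU_mem_Dm (m + 1) w hw))
        rw [pow_succ']
        exact Submodule.mul_mem_mul (iota_mem_VV k L x) (ih w hw)
    exact fun u hu => h hu

variable (k L)

/-- the reduced comultiplication of `U(L)` -/
def dbarU : 𝔘 →ₗ[k] 𝔘 ⊗[k] 𝔘 :=
  (comulU k L).toLinearMap - TensorProduct.mk k 𝔘 𝔘 1 - (TensorProduct.mk k 𝔘 𝔘).flip 1 +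
    (LinearMap.toSpanSingleton k (𝔘 ⊗[k] 𝔘) ((1 : 𝔘) ⊗ₜ[k] (1 : 𝔘))) ∘ₗ (counitU k L).toLinearMap

variable {k L}

lemma dbarU_apply (u : 𝔘) : dbarU k L u =
    comulU k L u - (1 : 𝔘) ⊗ₜ[k] u - u ⊗ₜ[k] (1 : 𝔘) + counitU k L u • ((1 : 𝔘) ⊗ₜ[k] (1 : 𝔘)) :=
  rfl

lemma dbarU_one : dbarU k L (1 : 𝔘) = 0 := by
  rw [dbarU_apply, map_one, map_one, Algebra.TensorProduct.one_def, one_smul]
  abel

lemma dbarU_iota (x : L) : dbarU k L (iota k L x) = 0 := by
  rw [dbarU_apply, comulU_iota, counitU_iota, zero_smul]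
  abel

lemma dbarU_iota_mul (x : L) (w : 𝔘) : dbarU k L (iota k L x * w) =
    iota k L x ⊗ₜ[k] (w - counitU k L w • (1 : 𝔘)) + (w - counitU k L w • (1 : 𝔘)) ⊗ₜ[k] iota k L x +
      (iota k L x ⊗ₜ[k] (1 : 𝔘) + (1 : 𝔘) ⊗ₜ[k] iota k L x) * dbarU k L w := by
  rw [dbarU_apply, dbarU_apply, map_mul, comulU_iota, map_mul, counitU_iota, zero_mul, zero_smul]
  simp only [mul_add, mul_sub, add_mul, Algebra.TensorProduct.tmul_mul_tmul, one_mul, mul_one,
    mul_smul_comm, tmul_sub, sub_tmul, tmul_smul, ← TensorProduct.smul_tmul', smul_add]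
  abel

lemma dbarU_mem : ∀ m : ℕ, ∀ u ∈ VV k L ^ (m + 1),
    dbarU k L u ∈ tp (VV k L ^ m) (VV k L ^ m) := by
  intro m
  induction m with
  | zero =>
    have h : VV k L ≤ (tp (VV k L ^ 0) (VV k L ^ 0)).comap (dbarU k L) := by
      refine VV_le ?_ ?_
      · rw [Submodule.mem_comap, dbarU_one]
        exact Submodule.zero_mem _
      · intro x
        rw [Submodule.mem_comap, dbarU_iota]
        exact Submodule.zero_mem _
    intro u hu
    rw [zero_add, pow_one] at hu
    exact h hu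
  | succ m ih =>
    have h : VV k L ^ (m + 1 + 1) ≤
        (tp (VV k L ^ (m + 1)) (VV k L ^ (m + 1))).comap (dbarU k L) := by
      refine pow_succ_le ?_ ?_
      · intro w hw
        exact tp_mono (pow_le_succ k L m) (pow_le_succ k L m) (ih w hw)
      · intro x w hw
        rw [Submodule.mem_comap, dbarU_iota_mul]
        have hJ : w - counitU k L w • (1 : 𝔘) ∈ VV k L ^ (m + 1) :=
          Submodule.sub_mem _ hw (Submodule.smul_mem _ _ (one_mem_pow k L _))
        have hx : iota k L x ∈ VV k L ^ (m + 1) := VV_le_pow k L m (iota_mem_VV k L x)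
        refine Submodule.add_mem _ (Submodule.add_mem _ (tmul_mem_tp hx hJ) (tmul_mem_tp hJ hx)) ?_
        rw [add_mul]
        refine Submodule.add_mem _ ?_ ?_
        · have h1 := tmul_mul_mem_tp (A' := VV k L ^ 1) (B' := VV k L ^ 0)
            (by rw [pow_one]; exact iota_mem_VV k L x) (one_mem_pow k L 0) (ih w hw)
          rw [← pow_add, ← pow_add] at h1
          exact tp_mono (pow_mono k L (by omega)) (pow_mono k L (by omega)) h1
        · have h1 := tmul_mul_mem_tp (A' := VV k L ^ 0) (B' := VV k L ^ 1)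
            (one_mem_pow k L 0) (by rw [pow_one]; exact iota_mem_VV k L x) (ih w hw)
          rw [← pow_add, ← pow_add] at h1
          exact tp_mono (pow_mono k L (by omega)) (pow_mono k L (by omega)) h1
    exact fun u hu => h hu

variable (k L)

/-- the filtration of `U(L)` is exhaustive -/
def filtSub : Subalgebra k 𝔘 where
  carrier := {u | ∃ n, u ∈ VV k L ^ n}
  mul_mem' := by
    rintro a b ⟨n, ha⟩ ⟨m, hb⟩
    exact ⟨n + m, by rw [pow_add]; exact Submodule.mul_mem_mul ha hb⟩
  one_mem' := ⟨0, one_mem_pow k L 0⟩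
  add_mem' := by
    rintro a b ⟨n, ha⟩ ⟨m, hb⟩
    exact ⟨max n m, Submodule.add_mem _ (pow_mono k L (le_max_left _ _) ha)
      (pow_mono k L (le_max_right _ _) hb)⟩
  zero_mem' := ⟨0, Submodule.zero_mem _⟩
  algebraMap_mem' := fun c => ⟨0, algebraMap_mem_pow k L c 0⟩

lemma exists_mem_pow (u : 𝔘) : ∃ n, u ∈ VV k L ^ n := by
  obtain ⟨a, rfl⟩ := RingCon.mkₐ_surjective (α := k) (UniversalEnvelopingAlgebra.ringCon k L) u
  change UniversalEnvelopingAlgebra.mkAlgHom k L a ∈ filtSub k L
  induction a using TensorAlgebra.induction with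
  | algebraMap r =>
    rw [AlgHom.commutes]
    exact Subalgebra.algebraMap_mem _ r
  | ι x => exact ⟨1, by rw [pow_one]; exact iota_mem_VV k L x⟩
  | mul a b ha hb => rw [map_mul]; exact Subalgebra.mul_mem _ ha hb
  | add a b ha hb => rw [map_add]; exact Subalgebra.add_mem _ ha hb

end Inj

section Main
variable {k : Type u} [Field k] [CharZero k] {L : Type v} [LieRing L] [LieAlgebra k L]
  {H : Type w} [Ring H] [Bialgebra k H]

local notation "𝔘" => UniversalEnvelopingAlgebra k L

lemma counit_eq_zero_of_prim {p : H}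
    (hp : comul (R := k) p = p ⊗ₜ[k] (1 : H) + (1 : H) ⊗ₜ[k] p) : counit (R := k) p = 0 := by
  have h := Coalgebra.rTensor_counit_comul (R := k) p
  rw [hp, map_add, LinearMap.rTensor_tmul, LinearMap.rTensor_tmul, Bialgebra.counit_one] at h
  have h2 : (counit (R := k) p) ⊗ₜ[k] (1 : H) = 0 := by
    have := add_right_cancel (b := (1 : k) ⊗ₜ[k] p) (a := (counit (R := k) p) ⊗ₜ[k] (1 : H))
      (c := 0) (by rw [zero_add]; exact h)
    exact this
  have h3 := congrArg (TensorProduct.lid k H) h2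
  rw [TensorProduct.lid_tmul, map_zero] at h3
  have h4 := congrArg (counit (R := k)) h3
  rw [map_smul, Bialgebra.counit_one, map_zero, smul_eq_mul, mul_one] at h4
  exact h4

variable (j : L →ₗ⁅k⁆ H)
  (hprim : ∀ x, comul (R := k) (j x) = j x ⊗ₜ[k] (1 : H) + (1 : H) ⊗ₜ[k] j x)

include hprim in
lemma map_comulU (u : 𝔘) :
    TensorProduct.map (UniversalEnvelopingAlgebra.lift k j).toLinearMap
      (UniversalEnvelopingAlgebra.lift k j).toLinearMap (comulU k L u) =
      comul (R := k) (UniversalEnvelopingAlgebra.lift k j u) := by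
  have h : (Algebra.TensorProduct.map (UniversalEnvelopingAlgebra.lift k j)
      (UniversalEnvelopingAlgebra.lift k j)).comp (comulU k L) =
      (Bialgebra.comulAlgHom k H).comp (UniversalEnvelopingAlgebra.lift k j) := by
    apply UniversalEnvelopingAlgebra.hom_ext
    ext x
    simp only [LieHom.comp_apply, AlgHom.coe_toLieHom, AlgHom.comp_apply]
    change Algebra.TensorProduct.map _ _ (comulU k L (iota k L x)) =
      comul (R := k) (UniversalEnvelopingAlgebra.lift k j (iota k L x))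
    rw [comulU_iota, map_add, Algebra.TensorProduct.map_tmul, Algebra.TensorProduct.map_tmul,
      UniversalEnvelopingAlgebra.lift_ι_apply, map_one, hprim]
  exact congrArg (fun f : 𝔘 →ₐ[k] H ⊗[k] H => f u) h

include hprim in
lemma counit_lift (u : 𝔘) :
    counit (R := k) (UniversalEnvelopingAlgebra.lift k j u) = counitU k L u := by
  have h : (Bialgebra.counitAlgHom k H).comp (UniversalEnvelopingAlgebra.lift k j) =
      counitU k L := by
    apply UniversalEnvelopingAlgebra.hom_ext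
    ext x
    simp only [LieHom.comp_apply, AlgHom.coe_toLieHom, AlgHom.comp_apply]
    change counit (R := k) (UniversalEnvelopingAlgebra.lift k j (iota k L x)) =
      counitU k L (iota k L x)
    rw [UniversalEnvelopingAlgebra.lift_ι_apply, counitU_iota, counit_eq_zero_of_prim (hprim x)]
  exact congrArg (fun f : 𝔘 →ₐ[k] k => f u) h

include hprim in
lemma inj_on_pow (hinj : Function.Injective j) : ∀ n : ℕ, ∀ u ∈ VV k L ^ n,
    UniversalEnvelopingAlgebra.lift k j u = 0 → u = 0 := by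
  set φ := UniversalEnvelopingAlgebra.lift k j with hφ
  have P0 : ∀ u ∈ VV k L ^ 0, φ u = 0 → u = 0 := by
    intro u hu h0
    rw [pow_zero, Submodule.mem_one] at hu
    obtain ⟨c, rfl⟩ := hu
    rw [AlgHom.commutes] at h0
    have : c = 0 := Bialgebra.algebraMap_injective (R := k) H (by rw [h0, map_zero])
    rw [this, map_zero]
  have P1 : ∀ u ∈ VV k L ^ 1, φ u = 0 → u = 0 := by
    intro u hu h0
    rw [pow_one, VV, Submodule.mem_sup] at hu
    obtain ⟨y, hy, z, ⟨x, rfl⟩, rfl⟩ := hu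
    obtain ⟨c, rfl⟩ := Submodule.mem_span_singleton.mp hy
    change φ (c • (1 : 𝔘) + iota k L x) = 0 at h0
    rw [map_add, map_smul, map_one, hφ, UniversalEnvelopingAlgebra.lift_ι_apply] at h0
    have h1 := congrArg (counit (R := k)) h0
    rw [map_add, map_smul, Bialgebra.counit_one, counit_eq_zero_of_prim (hprim x), map_zero,
      add_zero, smul_eq_mul, mul_one] at h1
    rw [h1, zero_smul, zero_add] at h0
    have hx : x = 0 := hinj (by rw [h0, map_zero])
    rw [h1, hx]
    simp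
  intro n
  induction n with
  | zero => exact P0
  | succ n ih =>
    rcases Nat.eq_zero_or_pos n with rfl | hn
    · exact P1
    intro u hu h0
    -- the reduced coproduct of `u` vanishes
    have ht : dbarU k L u ∈ tp (VV k L ^ n) (VV k L ^ n) := dbarU_mem n u hu
    have hc0 : counitU k L u = 0 := by
      rw [← counit_lift j hprim u, ← hφ, h0, map_zero]
    have hmap : TensorProduct.map φ.toLinearMap φ.toLinearMap (dbarU k L u) = 0 := by
      rw [dbarU_apply, hc0, zero_smul, add_zero, map_sub, map_sub, hφ, map_comulU j hprim,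
        TensorProduct.map_tmul, TensorProduct.map_tmul]
      simp only [AlgHom.toLinearMap_apply, map_one]
      rw [← hφ, h0]
      simp
    have hd : dbarU k L u = 0 :=
      eq_zero_of_map_eq_zero φ.toLinearMap (fun a ha h => ih a ha h) ht hmap
    set c := counitU k L u with hc
    set u' : 𝔘 := u - c • (1 : 𝔘) with hu'
    have hΔ : comulU k L u = (1 : 𝔘) ⊗ₜ[k] u + u ⊗ₜ[k] (1 : 𝔘) - c • ((1 : 𝔘) ⊗ₜ[k] (1 : 𝔘)) := by
      rw [dbarU_apply] at hd
      rw [← sub_eq_zero, ← hd]
      abel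
    have hΔ' : comulU k L u' = u' ⊗ₜ[k] (1 : 𝔘) + (1 : 𝔘) ⊗ₜ[k] u' := by
      rw [hu', map_sub, map_smul, map_one, hΔ, Algebra.TensorProduct.one_def, sub_tmul, tmul_sub,
        ← TensorProduct.smul_tmul', tmul_smul]
      abel
    have hψ : psiU k L u' = (2 : k) • u' := by
      rw [psiU_apply, hΔ', map_add, LinearMap.mul'_apply, LinearMap.mul'_apply, one_mul, mul_one,
        two_smul]
    have hu'mem : u' ∈ VV k L ^ (n + 1) :=
      Submodule.sub_mem _ hu (Submodule.smul_mem _ _ (one_mem_pow k L _))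
    have h1 := psiU_sub_mem n u' hu'mem
    rw [hψ, ← sub_smul] at h1
    have hne : (2 : k) - (2 : k) ^ (n + 1) ≠ 0 := by
      intro h
      have h2 : ((2 ^ (n + 1) : ℕ) : k) = ((2 : ℕ) : k) := by
        push_cast
        exact (sub_eq_zero.mp h).symm
      have h3 : 2 ^ (n + 1) = 2 := Nat.cast_injective h2
      have h4 : 2 ^ (n + 1) ≥ 2 ^ 2 := Nat.pow_le_pow_right (by norm_num) (by omega)
      omega
    have h2 : u' ∈ VV k L ^ n := (Submodule.smul_mem_iff _ hne).mp h1
    have h3 : u ∈ VV k L ^ n := by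
      have : u = u' + c • (1 : 𝔘) := by rw [hu']; abel
      rw [this]
      exact Submodule.add_mem _ h2 (Submodule.smul_mem _ _ (one_mem_pow k L _))
    exact ih u h3 h0

include hprim in
/-- **Injectivity half of Milnor–Moore** (no PBW needed): if `j : L → H` is an injective Lie
homomorphism into the primitive elements of a bialgebra over a field of characteristic zero,
then the induced algebra map `U(L) → H` is injective. -/
theorem lift_injective (hinj : Function.Injective j) :
    Function.Injective (UniversalEnvelopingAlgebra.lift k j) := by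
  rw [injective_iff_map_eq_zero]
  intro u h0
  obtain ⟨n, hn⟩ := exists_mem_pow k L u
  exact inj_on_pow j hprim hinj n u hn h0

end Main

end Groth.Agent.H9.MM
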