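import Mathlib
import Groth.Agent.Lib.Helper9.Misc.MMTens

set_option autoImplicit false
set_option linter.unusedSectionVars false
set_option linter.unusedVariables false

open TensorProduct Coalgebra

noncomputable section

namespace Groth.Agent.H9.MM

universe u v

lemma exists_stab (a : ℕ → ℕ) (h : ∀ n, a (n + 1) ≤ a n) : ∃ n, a (n + 1) = a n := by
  by_contra hne
  push Not at hne
  have key : ∀ n, a n + n ≤ a 0 := by
    intro n
    induction n with
    | zero => simp
    | succ n ih =>
      have h1 := h n
      have h2 := hne n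
      omega
  have := key (a 0 + 1)
  omega

section Surj
variable {k : Type u} [Field k] {H : Type v} [Ring H] [Bialgebra k H]

variable (k H) in
/-- the projection onto the augmentation ideal -/
def JJ : H →ₗ[k] H := LinearMap.id - (Algebra.linearMap k H) ∘ₗ (counit : H →ₗ[k] k)

lemma JJ_apply (x : H) : JJ k H x = x - counit (R := k) x • (1 : H) := by
  simp [JJ, Algebra.algebraMap_eq_smul_one]

lemma JJ_one : JJ k H 1 = 0 := by
  rw [JJ_apply, Bialgebra.counit_one, one_smul, sub_self]

lemma one_ne_zero_H (h : (1 : H) = 0) : (1 : k) = 0 := by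
  have := congrArg (counit (R := k)) h
  rw [Bialgebra.counit_one, map_zero] at this
  exact this

/-- the action of a functional on `H` -/
def TT (f : Module.Dual k H) : H →ₗ[k] H :=
  (TensorProduct.rid k H).toLinearMap ∘ₗ (LinearMap.lTensor H f) ∘ₗ (comul : H →ₗ[k] H ⊗[k] H)

lemma TT_apply (f : Module.Dual k H) (x : H) :
    TT f x = TensorProduct.rid k H (LinearMap.lTensor H f (comul x)) := rfl

lemma TT_apply_repr {ι : Type*} (f : Module.Dual k H) (x : H) (R : Coalgebra.Repr k x ι) :
    TT f x = ∑ i ∈ R.index, f (R.right i) • R.left i := by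
  rw [TT_apply, ← R.eq, map_sum, map_sum]
  simp

lemma TT_one (f : Module.Dual k H) : TT f (1 : H) = f 1 • (1 : H) := by
  rw [TT_apply, Bialgebra.comul_one, Algebra.TensorProduct.one_def, LinearMap.lTensor_tmul,
    TensorProduct.rid_tmul]

lemma TT_counit (x : H) : TT (counit : H →ₗ[k] k) x = x := by
  rw [TT_apply, Coalgebra.lTensor_counit_comul, TensorProduct.rid_tmul, one_smul]

lemma counit_TT (f : Module.Dual k H) (x : H) : counit (R := k) (TT f x) = f x := by
  have h := congrArg (fun t => f (TensorProduct.lid k H t))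
    (Coalgebra.sum_counit_tmul_eq (R := k) (ℛ k x))
  simp only [map_sum, TensorProduct.lid_tmul, map_smul, one_smul] at h
  rw [TT_apply_repr f x (ℛ k x), map_sum, ← h]
  refine Finset.sum_congr rfl fun i _ => ?_
  rw [map_smul, smul_eq_mul, smul_eq_mul, mul_comm]

/-- convolution of functionals -/
def cv (g f : Module.Dual k H) : Module.Dual k H :=
  (LinearMap.mul' k k) ∘ₗ (TensorProduct.map g f) ∘ₗ (comul : H →ₗ[k] H ⊗[k] H)

lemma cv_apply (g f : Module.Dual k H) (x : H) :
    cv g f x = LinearMap.mul' k k (TensorProduct.map g f (comul x)) := rfl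

lemma cv_apply_repr {ι : Type*} (g f : Module.Dual k H) (x : H) (R : Coalgebra.Repr k x ι) :
    cv g f x = ∑ i ∈ R.index, g (R.left i) * f (R.right i) := by
  rw [cv_apply, ← R.eq, map_sum, map_sum]
  simp

lemma TT_comp (g f : Module.Dual k H) (x : H) : TT g (TT f x) = TT (cv g f) x := by
  let R := ℛ k x
  let R1 := fun i => ℛ k (R.left i)
  let R2 := fun i => ℛ k (R.right i)
  let Lm : H ⊗[k] (H ⊗[k] H) →ₗ[k] H :=
    (TensorProduct.rid k H).toLinearMap ∘ₗ
      LinearMap.lTensor H (LinearMap.mul' k k ∘ₗ TensorProduct.map g f)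
  have hL : ∀ a b c : H, Lm (a ⊗ₜ[k] (b ⊗ₜ[k] c)) = (g b * f c) • a := by
    intro a b c
    simp [Lm]
  have key := congrArg Lm (Coalgebra.sum_tmul_tmul_eq R R1 R2)
  simp only [map_sum, hL] at key
  rw [TT_apply_repr f x R, map_sum, TT_apply_repr (cv g f) x R]
  calc ∑ i ∈ R.index, TT g (f (R.right i) • R.left i)
      = ∑ i ∈ R.index, ∑ j ∈ (R1 i).index,
          (g ((R1 i).right j) * f (R.right i)) • (R1 i).left j := by
        refine Finset.sum_congr rfl fun i _ => ?_
        rw [map_smul, TT_apply_repr g _ (R1 i), Finset.smul_sum]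
        refine Finset.sum_congr rfl fun j _ => ?_
        rw [smul_smul, mul_comm]
    _ = ∑ i ∈ R.index, ∑ j ∈ (R2 i).index,
          (g ((R2 i).left j) * f ((R2 i).right j)) • R.left i := key
    _ = ∑ i ∈ R.index, cv g f (R.right i) • R.left i := by
        refine Finset.sum_congr rfl fun i _ => ?_
        rw [cv_apply_repr g f _ (R2 i), Finset.sum_smul]

lemma mul'_comm_kk (s : k ⊗[k] k) :
    LinearMap.mul' k k (TensorProduct.comm k k k s) = LinearMap.mul' k k s := by
  induction s using TensorProduct.induction_on with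
  | zero => simp
  | tmul a b => simp [mul_comm]
  | add s t hs ht => rw [map_add, map_add, hs, ht, map_add]

variable (k H) in
/-- the coradical-type filtration -/
def GG : ℕ → Submodule k H
  | 0 => ⊥
  | (n + 1) => ⨅ (f : Module.Dual k H) (_ : f 1 = 0), (GG n).comap (TT f)

lemma mem_GG_succ {n : ℕ} {x : H} :
    x ∈ GG k H (n + 1) ↔ ∀ f : Module.Dual k H, f 1 = 0 → TT f x ∈ GG k H n := by
  change x ∈ ⨅ (f : Module.Dual k H) (_ : f 1 = 0), (GG k H n).comap (TT f) ↔ _
  simp only [Submodule.mem_iInf, Submodule.mem_comap]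

lemma GG_le_succ (n : ℕ) : GG k H n ≤ GG k H (n + 1) := by
  induction n with
  | zero => exact bot_le
  | succ n ih =>
    intro x hx
    rw [mem_GG_succ] at hx ⊢
    exact fun f hf => ih (hx f hf)

lemma GG_mono {n m : ℕ} (h : n ≤ m) : GG k H n ≤ GG k H m := by
  induction m, h using Nat.le_induction with
  | base => exact le_rfl
  | succ m _ ih => exact ih.trans (GG_le_succ m)

lemma one_mem_GG (n : ℕ) : (1 : H) ∈ GG k H (n + 1) := by
  refine GG_mono (show 1 ≤ n + 1 by omega) ?_
  rw [mem_GG_succ]
  intro f hf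
  rw [TT_one, hf, zero_smul]
  exact Submodule.zero_mem _

lemma comp_JJ_one (g : Module.Dual k H) : (g ∘ₗ JJ k H) 1 = 0 := by
  rw [LinearMap.comp_apply, JJ_one, map_zero]

lemma comp_JJ_eq {f : Module.Dual k H} (hf : f 1 = 0) : f ∘ₗ JJ k H = f := by
  ext z
  rw [LinearMap.comp_apply, JJ_apply, map_sub, map_smul, hf, smul_zero, sub_zero]

lemma eq_of_mem_GG_one {x : H} (hx : x ∈ GG k H 1) : x = counit (R := k) x • (1 : H) := by
  rw [mem_GG_succ] at hx
  have h : JJ k H x = 0 := by
    rw [← Module.forall_dual_apply_eq_zero_iff k]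
    intro g
    have h1 := hx (g ∘ₗ JJ k H) (comp_JJ_one g)
    change TT (g ∘ₗ JJ k H) x ∈ (⊥ : Submodule k H) at h1
    rw [Submodule.mem_bot] at h1
    have h2 := counit_TT (g ∘ₗ JJ k H) x
    rw [h1, map_zero] at h2
    exact h2.symm
  rw [JJ_apply, sub_eq_zero] at h
  exact h

variable (k H) in
/-- the half-reduced comultiplication -/
def dl : H →ₗ[k] H ⊗[k] H := LinearMap.lTensor H (JJ k H) ∘ₗ (comul : H →ₗ[k] H ⊗[k] H)

lemma dl_apply (x : H) : dl k H x = LinearMap.lTensor H (JJ k H) (comul x) := rfl

lemma dl_mem_tp {n : ℕ} {x : H} (hx : x ∈ GG k H (n + 1)) :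
    dl k H x ∈ tp (GG k H n) (⊤ : Submodule k H) := by
  refine mem_tp_top_of_forall fun g => ?_
  rw [dl_apply, ← LinearMap.lTensor_comp_apply]
  exact mem_GG_succ.mp hx (g ∘ₗ JJ k H) (comp_JJ_one g)

lemma mem_GG_succ_of_dl {n : ℕ} {y : H} (hy : dl k H y ∈ tp (GG k H n) (⊤ : Submodule k H)) :
    y ∈ GG k H (n + 1) := by
  rw [mem_GG_succ]
  intro f hf
  have h := rid_lTensor_mem hy f
  rw [dl_apply, ← LinearMap.lTensor_comp_apply, comp_JJ_eq hf] at h
  exact h

/-- stability under all the operators `TT g` -/
def TStable (C : Submodule k H) : Prop := ∀ g : Module.Dual k H, C.map (TT g) ≤ C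

section Cocomm
variable [IsCocomm k H]

lemma cv_comm (g f : Module.Dual k H) : cv g f = cv f g := by
  ext x
  rw [cv_apply, cv_apply, ← comm_comul k x, TensorProduct.map_comm, mul'_comm_kk, comm_comul]

lemma TT_comm (g f : Module.Dual k H) : TT g ∘ₗ TT f = TT f ∘ₗ TT g := by
  ext x
  rw [LinearMap.comp_apply, LinearMap.comp_apply, TT_comp, TT_comp, cv_comm]

lemma TT_commute (g f : Module.Dual k H) : Commute (TT g) (TT f) := by
  rw [Commute, SemiconjBy, Module.End.mul_eq_comp, Module.End.mul_eq_comp]
  exact TT_comm g f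

lemma TT_comm_pow (g f : Module.Dual k H) (n : ℕ) :
    TT g ∘ₗ ((TT f) ^ n) = ((TT f) ^ n) ∘ₗ TT g := by
  have := (TT_commute g f).pow_right n
  rw [Commute, SemiconjBy, Module.End.mul_eq_comp, Module.End.mul_eq_comp] at this
  exact this

lemma TStable.map {C : Submodule k H} (hC : TStable C) (f : Module.Dual k H) :
    TStable (C.map (TT f)) := by
  intro g
  rw [← Submodule.map_comp, TT_comm, Submodule.map_comp]
  exact Submodule.map_mono (hC g)

lemma TStable.map_pow {C : Submodule k H} (hC : TStable C) (f : Module.Dual k H) (n : ℕ) :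
    TStable (C.map ((TT f) ^ n)) := by
  intro g
  rw [← Submodule.map_comp, TT_comm_pow, Submodule.map_comp]
  exact Submodule.map_mono (hC g)

lemma TStable.comul_mem {C : Submodule k H} (hC : TStable C) {d : H} (hd : d ∈ C) :
    comul (R := k) d ∈ LinearMap.range (TensorProduct.map C.subtype C.subtype) := by
  have h1 : comul (R := k) d ∈ tp C (⊤ : Submodule k H) :=
    mem_tp_top_of_forall fun g => hC g ⟨d, hd, rfl⟩
  have h2 : comul (R := k) d ∈ tp (⊤ : Submodule k H) C := by
    have := comm_mem_tp h1
    rwa [comm_comul] at this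
  exact mem_tp_of_left_right h1 h2

end Cocomm

lemma eq_zero_of_map_eq (φ : H →ₗ[k] H) (D : Submodule k H) [FiniteDimensional k D]
    (h : D.map φ = D) {d : H} (hd : d ∈ D) (h0 : φ d = 0) : d = 0 := by
  set ψ : D →ₗ[k] H := φ ∘ₗ D.subtype with hψ
  have hr : LinearMap.range ψ = D := by
    rw [hψ, LinearMap.range_comp, Submodule.range_subtype, h]
  have h1 := LinearMap.finrank_range_add_finrank_ker ψ
  have h1' : Module.finrank k (LinearMap.range ψ) = Module.finrank k D :=
    LinearEquiv.finrank_eq (LinearEquiv.ofEq _ _ hr)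
  have h2 : Module.finrank k (LinearMap.ker ψ) = 0 := by omega
  have h3 : LinearMap.ker ψ = ⊥ := Submodule.finrank_eq_zero.mp h2
  have h4 : (⟨d, hd⟩ : D) ∈ LinearMap.ker ψ := by
    rw [LinearMap.mem_ker]
    exact h0
  rw [h3, Submodule.mem_bot] at h4
  exact congrArg Subtype.val h4

section Conn
variable [IsCocomm k H]
variable (hconn : ∀ D : Submodule k H, (∀ d ∈ D, comul (R := k) d ∈
      LinearMap.range (TensorProduct.map D.subtype D.subtype)) → D ≠ ⊥ → (1 : H) ∈ D)

include hconn in
lemma TStable.one_mem {C : Submodule k H} (hC : TStable C) (hne : C ≠ ⊥) : (1 : H) ∈ C :=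
  hconn C (fun d hd => hC.comul_mem hd) hne

include hconn in
lemma exists_pow_map_eq_bot (C : Submodule k H) [FiniteDimensional k C] (hC : TStable C)
    (f : Module.Dual k H) (hf : f 1 = 0) : ∃ n, C.map ((TT f) ^ n) = ⊥ := by
  have hle : ∀ n, C.map ((TT f) ^ (n + 1)) ≤ C.map ((TT f) ^ n) := by
    intro n
    rw [pow_succ, Module.End.mul_eq_comp, Submodule.map_comp]
    exact Submodule.map_mono (hC f)
  have hleC : ∀ n, C.map ((TT f) ^ n) ≤ C := by
    intro n
    induction n with
    | zero => rw [pow_zero, Module.End.one_eq_id, Submodule.map_id]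
    | succ n ih => exact (hle n).trans ih
  have hfd : ∀ n, FiniteDimensional k (C.map ((TT f) ^ n)) := fun n =>
    Submodule.finiteDimensional_of_le (hleC n)
  obtain ⟨n, hn⟩ := exists_stab (fun n => Module.finrank k (C.map ((TT f) ^ n)))
    (fun n => by
      haveI := hfd n
      exact Submodule.finrank_mono (hle n))
  refine ⟨n, ?_⟩
  haveI := hfd n
  have heq : C.map ((TT f) ^ (n + 1)) = C.map ((TT f) ^ n) :=
    Submodule.eq_of_le_of_finrank_eq (hle n) hn
  have hmap : (C.map ((TT f) ^ n)).map (TT f) = C.map ((TT f) ^ n) := by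
    rw [← Submodule.map_comp, ← Module.End.mul_eq_comp, ← pow_succ', heq]
  by_contra hne
  have h1 : (1 : H) ∈ C.map ((TT f) ^ n) := (hC.map_pow f n).one_mem hconn hne
  have h2 : TT f (1 : H) = 0 := by rw [TT_one, hf, zero_smul]
  exact one_ne_zero (one_ne_zero_H (k := k) (eq_zero_of_map_eq (TT f) _ hmap h1 h2))

include hconn in
lemma iSup_map_ne : ∀ d : ℕ, ∀ C : Submodule k H, FiniteDimensional k C → Module.finrank k C = d →
    TStable C → C ≠ ⊥ →
    (⨆ (f : Module.Dual k H) (_ : f 1 = 0), C.map (TT f)) ≠ C := by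
  intro d
  induction d using Nat.strong_induction_on with
  | _ d ih =>
    intro C hfd hd hC hne heq
    by_cases hall : ∀ f : Module.Dual k H, f 1 = 0 → C.map (TT f) = ⊥
    · have : (⨆ (f : Module.Dual k H) (_ : f 1 = 0), C.map (TT f)) = ⊥ :=
        le_bot_iff.mp (iSup₂_le fun f hf => (hall f hf).le)
      rw [this] at heq
      exact hne heq.symm
    · push Not at hall
      obtain ⟨f1, hf1, hW⟩ := hall
      have hWC : C.map (TT f1) ≤ C := hC f1
      have hWne : C.map (TT f1) ≠ C := by
        intro hEq
        obtain ⟨n, hn⟩ := exists_pow_map_eq_bot hconn C hC f1 hf1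
        have hall' : ∀ m, C.map ((TT f1) ^ m) = C := by
          intro m
          induction m with
          | zero => rw [pow_zero, Module.End.one_eq_id, Submodule.map_id]
          | succ m ihm => rw [pow_succ, Module.End.mul_eq_comp, Submodule.map_comp, hEq, ihm]
        rw [hall' n] at hn
        exact hne hn
      have hlt : C.map (TT f1) < C := lt_of_le_of_ne hWC hWne
      haveI : FiniteDimensional k (C.map (TT f1)) := Submodule.finiteDimensional_of_le hWC
      have hrank : Module.finrank k (C.map (TT f1)) < d := by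
        rw [← hd]
        exact Submodule.finrank_lt_finrank_of_lt hlt
      have hkey : (⨆ (f : Module.Dual k H) (_ : f 1 = 0), (C.map (TT f1)).map (TT f)) =
          C.map (TT f1) := by
        have h1 : ∀ f : Module.Dual k H, (C.map (TT f1)).map (TT f) =
            (C.map (TT f)).map (TT f1) := fun f => by
          rw [← Submodule.map_comp, ← Submodule.map_comp, TT_comm]
        have h2 : (⨆ (f : Module.Dual k H) (_ : f 1 = 0), (C.map (TT f1)).map (TT f)) =
            (⨆ (f : Module.Dual k H) (_ : f 1 = 0), C.map (TT f)).map (TT f1) := by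
          rw [Submodule.map_iSup]
          refine iSup_congr fun f => ?_
          rw [Submodule.map_iSup]
          refine iSup_congr fun hf => ?_
          exact h1 f
        rw [h2, heq]
      exact ih _ hrank (C.map (TT f1)) inferInstance rfl (hC.map f1) hW hkey

include hconn in
lemma le_GG : ∀ d : ℕ, ∀ C : Submodule k H, FiniteDimensional k C → Module.finrank k C = d →
    TStable C → C ≤ GG k H d := by
  intro d
  induction d using Nat.strong_induction_on with
  | _ d ih =>
    intro C hfd hd hC
    by_cases hne : C = ⊥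
    · rw [hne]
      exact bot_le
    set C' : Submodule k H := ⨆ (f : Module.Dual k H) (_ : f 1 = 0), C.map (TT f) with hC'
    have hC'le : C' ≤ C := iSup₂_le fun f _ => hC f
    have hC'ne : C' ≠ C := iSup_map_ne hconn d C hfd hd hC hne
    have hlt : C' < C := lt_of_le_of_ne hC'le hC'ne
    haveI : FiniteDimensional k C' := Submodule.finiteDimensional_of_le hC'le
    have hrank : Module.finrank k C' < d := by
      rw [← hd]
      exact Submodule.finrank_lt_finrank_of_lt hlt
    have hC'st : TStable C' := by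
      intro g
      rw [hC']
      simp only [Submodule.map_iSup]
      refine iSup₂_le fun f hf => ?_
      rw [← Submodule.map_comp, TT_comm, Submodule.map_comp]
      exact (Submodule.map_mono (hC g)).trans (le_iSup₂_of_le f hf le_rfl)
    have h1 : C' ≤ GG k H (Module.finrank k C') := ih _ hrank C' inferInstance rfl hC'st
    obtain ⟨d', rfl⟩ : ∃ d', d = d' + 1 := by
      refine ⟨d - 1, ?_⟩
      have : d ≠ 0 := by
        intro h0
        rw [h0] at hd
        exact hne (Submodule.finrank_eq_zero.mp hd)
      omega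
    intro c hc
    rw [mem_GG_succ]
    intro f hf
    have h2 : TT f c ∈ C' := (le_iSup₂_of_le f hf le_rfl : C.map (TT f) ≤ C') ⟨c, hc, rfl⟩
    exact GG_mono (by omega) (h1 h2)

/-- the smallest stable subspace containing `x` -/
def Mx (x : H) : Submodule k H :=
  Submodule.span k (Set.range fun f : Module.Dual k H => TT f x)

omit [IsCocomm k H] in
lemma self_mem_Mx (x : H) : x ∈ Mx (k := k) x :=
  Submodule.subset_span ⟨counit, TT_counit x⟩

omit [IsCocomm k H] in
lemma Mx_stable (x : H) : TStable (Mx (k := k) x) := by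
  intro g
  rw [Mx, Submodule.map_span_le]
  rintro _ ⟨f, rfl⟩
  rw [TT_comp]
  exact Submodule.subset_span ⟨_, rfl⟩

omit [IsCocomm k H] in
lemma Mx_fd (x : H) : FiniteDimensional k (Mx (k := k) x) := by
  classical
  have hle : Mx (k := k) x ≤
      Submodule.span k (((ℛ k x).index.image (ℛ k x).left : Finset H) : Set H) := by
    rw [Mx, Submodule.span_le]
    rintro _ ⟨f, rfl⟩
    change TT f x ∈ _
    rw [TT_apply_repr f x (ℛ k x)]
    exact Submodule.sum_mem _ fun i hi => Submodule.smul_mem _ _
      (Submodule.subset_span (Finset.mem_coe.2 (Finset.mem_image_of_mem _ hi)))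
  haveI := FiniteDimensional.span_finset k ((ℛ k x).index.image (ℛ k x).left)
  exact Submodule.finiteDimensional_of_le hle

include hconn in
lemma exists_mem_GG (x : H) : ∃ n, x ∈ GG k H n :=
  ⟨_, le_GG hconn _ (Mx x) (Mx_fd x) rfl (Mx_stable x) (self_mem_Mx x)⟩

end Conn

variable (k H) in
/-- the second Adams operation `μ ∘ Δ` -/
def psi : H →ₗ[k] H := LinearMap.mul' k H ∘ₗ (comul : H →ₗ[k] H ⊗[k] H)

lemma psi_apply (x : H) : psi k H x = LinearMap.mul' k H (comul x) := rfl

lemma psi_one : psi k H (1 : H) = 1 := by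
  rw [psi_apply, Bialgebra.comul_one, Algebra.TensorProduct.one_def, LinearMap.mul'_apply, one_mul]

lemma map_eq_rl {V W V' W' : Type*} [AddCommGroup V] [Module k V] [AddCommGroup W] [Module k W]
    [AddCommGroup V'] [Module k V'] [AddCommGroup W'] [Module k W']
    (f : V →ₗ[k] V') (g : W →ₗ[k] W') (t : V ⊗[k] W) :
    TensorProduct.map f g t = LinearMap.rTensor W' f (LinearMap.lTensor V g t) := by
  induction t using TensorProduct.induction_on with
  | zero => simp
  | tmul a b => simp
  | add s t hs ht => rw [map_add, hs, ht, map_add, map_add]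

lemma dl_eq (z : H) : dl k H z = comul z - z ⊗ₜ[k] (1 : H) := by
  rw [dl_apply, JJ, LinearMap.lTensor_sub, LinearMap.sub_apply, LinearMap.lTensor_id,
    LinearMap.id_apply, LinearMap.lTensor_comp_apply, Coalgebra.lTensor_counit_comul,
    LinearMap.lTensor_tmul, Algebra.linearMap_apply, map_one]

lemma rTensor_JJ_comul (z : H) :
    LinearMap.rTensor H (JJ k H) (comul z) = comul z - (1 : H) ⊗ₜ[k] z := by
  rw [JJ, LinearMap.rTensor_sub, LinearMap.sub_apply, LinearMap.rTensor_id,
    LinearMap.id_apply, LinearMap.rTensor_comp_apply, Coalgebra.rTensor_counit_comul,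
    LinearMap.rTensor_tmul, Algebra.linearMap_apply, map_one]

lemma map_JJ_comul (z : H) : TensorProduct.map (JJ k H) (JJ k H) (comul z) =
    comul z - (1 : H) ⊗ₜ[k] z - z ⊗ₜ[k] (1 : H) + counit (R := k) z • ((1 : H) ⊗ₜ[k] (1 : H)) := by
  rw [map_eq_rl, ← dl_apply, dl_eq, map_sub, rTensor_JJ_comul, LinearMap.rTensor_tmul, JJ_apply,
    sub_tmul, ← TensorProduct.smul_tmul']
  abel

lemma map_JJ_eq_rTensor_dl (z : H) : TensorProduct.map (JJ k H) (JJ k H) (comul z) =
    LinearMap.rTensor H (JJ k H) (dl k H z) := by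
  rw [map_eq_rl, ← dl_apply]

lemma mul'_map_JJ (z : H) : LinearMap.mul' k H (TensorProduct.map (JJ k H) (JJ k H) (comul z)) =
    psi k H z - (2 : k) • z + counit (R := k) z • (1 : H) := by
  rw [map_JJ_comul, map_add, map_sub, map_sub, map_smul, LinearMap.mul'_apply,
    LinearMap.mul'_apply, LinearMap.mul'_apply, ← psi_apply, two_smul]
  simp only [one_mul, mul_one]
  abel

lemma psi_sub_two_JJ (z : H) : (psi k H - (2 : k) • LinearMap.id : H →ₗ[k] H) (JJ k H z) =
    LinearMap.mul' k H (TensorProduct.map (JJ k H) (JJ k H) (comul z)) := by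
  rw [mul'_map_JJ, LinearMap.sub_apply, LinearMap.smul_apply, LinearMap.id_apply, JJ_apply, map_sub,
    map_smul, psi_one]
  module

lemma core_id (j : H →ₗ[k] H) :
    (TensorProduct.assoc k H H H).toLinearMap ∘ₗ
      (LinearMap.rTensor H ((LinearMap.lTensor H j) ∘ₗ (comul : H →ₗ[k] H ⊗[k] H))) ∘ₗ
        (LinearMap.lTensor H j) ∘ₗ (comul : H →ₗ[k] H ⊗[k] H) =
    (LinearMap.lTensor H ((TensorProduct.map j j) ∘ₗ (comul : H →ₗ[k] H ⊗[k] H))) ∘ₗ
      (comul : H →ₗ[k] H ⊗[k] H) := by
  simp only [coassoc_simps]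

lemma theta_tmul (s : H ⊗[k] H) (b : H) :
    LinearMap.lTensor H (LinearMap.mul' k H) (TensorProduct.assoc k H H H (s ⊗ₜ[k] b)) =
      LinearMap.lTensor H (LinearMap.mulRight k b) s := by
  induction s using TensorProduct.induction_on with
  | zero => simp
  | tmul a c => simp
  | add s t hs ht => rw [add_tmul, map_add, map_add, hs, ht, map_add]

lemma theta_mem {n : ℕ} {t : H ⊗[k] H} (ht : t ∈ tp (GG k H (n + 1)) (⊤ : Submodule k H)) :
    LinearMap.lTensor H (LinearMap.mul' k H)
      (TensorProduct.assoc k H H H (LinearMap.rTensor H (dl k H) t)) ∈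
      tp (GG k H n) (⊤ : Submodule k H) := by
  have h : tp (GG k H (n + 1)) (⊤ : Submodule k H) ≤ (tp (GG k H n) (⊤ : Submodule k H)).comap
      (LinearMap.lTensor H (LinearMap.mul' k H) ∘ₗ (TensorProduct.assoc k H H H).toLinearMap ∘ₗ
        LinearMap.rTensor H (dl k H)) :=
    tp_le fun a ha b _ => by
      rw [Submodule.mem_comap, LinearMap.comp_apply, LinearMap.comp_apply, LinearMap.rTensor_tmul,
        LinearEquiv.coe_coe, theta_tmul]
      exact map_mem_tp LinearMap.id (LinearMap.mulRight k b) (fun a ha => ha)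
        (fun _ _ => Submodule.mem_top) (dl_mem_tp ha)
  exact h ht

section Cocomm2
variable [IsCocomm k H]

lemma map_psi_comul : TensorProduct.map (psi k H) (psi k H) ∘ₗ (comul : H →ₗ[k] H ⊗[k] H) =
    comul ∘ₗ psi k H :=
  ((Bialgebra.mulCoalgHom k H).comp (Coalgebra.comulCoalgHom k H)).map_comp_comul

lemma counit_psi (x : H) : counit (R := k) (psi k H x) = counit (R := k) x :=
  LinearMap.congr_fun
    ((Bialgebra.mulCoalgHom k H).comp (Coalgebra.comulCoalgHom k H)).counit_comp x

lemma JJ_psi : JJ k H ∘ₗ psi k H = psi k H ∘ₗ JJ k H := by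
  ext x
  rw [LinearMap.comp_apply, LinearMap.comp_apply, JJ_apply, JJ_apply, counit_psi, map_sub, map_smul,
    psi_one]

lemma dl_psi (x : H) : dl k H (psi k H x) =
    TensorProduct.map (psi k H) (psi k H) (dl k H x) := by
  have h1 : comul (R := k) (psi k H x) = TensorProduct.map (psi k H) (psi k H) (comul x) :=
    (LinearMap.congr_fun map_psi_comul x).symm
  have e1 : LinearMap.lTensor H (JJ k H) (TensorProduct.map (psi k H) (psi k H) (comul x)) =
      TensorProduct.map (psi k H) (JJ k H ∘ₗ psi k H) (comul x) := by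
    rw [← LinearMap.comp_apply, LinearMap.lTensor_comp_map]
  have e2 : TensorProduct.map (psi k H) (psi k H) (LinearMap.lTensor H (JJ k H) (comul x)) =
      TensorProduct.map (psi k H) (psi k H ∘ₗ JJ k H) (comul x) := by
    rw [← LinearMap.comp_apply, LinearMap.map_comp_lTensor]
  rw [dl_apply, h1, e1, dl_apply, e2, JJ_psi]

lemma psi_sub_mem_GG [CharZero k] : ∀ n : ℕ, ∀ x ∈ GG k H (n + 1),
    psi k H x - (2 : k) ^ n • x ∈ GG k H n := by
  intro n
  induction n with
  | zero =>
    intro x hx
    have h := eq_of_mem_GG_one hx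
    have : psi k H x - (2 : k) ^ 0 • x = 0 := by
      rw [h, map_smul, psi_one, pow_zero, one_smul, sub_self]
    rw [this]
    exact Submodule.zero_mem _
  | succ n ih =>
    intro x hx
    apply mem_GG_succ_of_dl
    have ht : dl k H x ∈ tp (GG k H (n + 1)) (⊤ : Submodule k H) := dl_mem_tp hx
    have hdec : TensorProduct.map (psi k H - (2 : k) ^ n • LinearMap.id) (psi k H) +
        (2 : k) ^ n • LinearMap.lTensor H (psi k H - (2 : k) • LinearMap.id) =
        TensorProduct.map (psi k H) (psi k H) - (2 : k) ^ (n + 1) • LinearMap.id := by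
      apply TensorProduct.ext'
      intro a b
      simp only [LinearMap.add_apply, LinearMap.sub_apply, LinearMap.smul_apply,
        TensorProduct.map_tmul, LinearMap.lTensor_tmul, LinearMap.id_apply, sub_tmul, tmul_sub,
        smul_sub, tmul_smul, ← TensorProduct.smul_tmul', smul_smul, pow_succ]
      abel
    have e : dl k H (psi k H x - (2 : k) ^ (n + 1) • x) =
        TensorProduct.map (psi k H - (2 : k) ^ n • LinearMap.id) (psi k H) (dl k H x) +
        (2 : k) ^ n • LinearMap.lTensor H (psi k H - (2 : k) • LinearMap.id) (dl k H x) := by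
      rw [map_sub, map_smul, dl_psi]
      have := LinearMap.congr_fun hdec (dl k H x)
      simp only [LinearMap.add_apply, LinearMap.sub_apply, LinearMap.smul_apply,
        LinearMap.id_apply] at this
      exact this.symm
    rw [e]
    refine Submodule.add_mem _ ?_ (Submodule.smul_mem _ _ ?_)
    · exact map_mem_tp _ _ (fun a ha => by
        rw [LinearMap.sub_apply, LinearMap.smul_apply, LinearMap.id_apply]
        exact ih a ha) (fun _ _ => Submodule.mem_top) ht
    · have e2 : LinearMap.lTensor H (psi k H - (2 : k) • LinearMap.id) (dl k H x) =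
          LinearMap.lTensor H (LinearMap.mul' k H)
            (TensorProduct.assoc k H H H (LinearMap.rTensor H (dl k H) (dl k H x))) := by
        have h1 : (psi k H - (2 : k) • LinearMap.id) ∘ₗ JJ k H =
            LinearMap.mul' k H ∘ₗ (TensorProduct.map (JJ k H) (JJ k H) ∘ₗ
              (comul : H →ₗ[k] H ⊗[k] H)) := by
          ext z
          exact psi_sub_two_JJ z
        have h2 := LinearMap.congr_fun (core_id (JJ k H)) x
        simp only [LinearMap.comp_apply, LinearEquiv.coe_coe] at h2
        rw [dl_apply, ← LinearMap.lTensor_comp_apply, h1, LinearMap.lTensor_comp_apply, ← h2]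
        rfl
      rw [e2]
      exact theta_mem ht

/-- **Generation by primitives**: a connected cocommutative bialgebra over a field of
characteristic zero is generated as an algebra by its primitive elements. -/
theorem mem_of_prim_mem [CharZero k]
    (hconn : ∀ D : Submodule k H, (∀ d ∈ D, comul (R := k) d ∈
      LinearMap.range (TensorProduct.map D.subtype D.subtype)) → D ≠ ⊥ → (1 : H) ∈ D)
    (R : Subalgebra k H)
    (hR : ∀ p : H, comul (R := k) p = p ⊗ₜ[k] (1 : H) + (1 : H) ⊗ₜ[k] p → p ∈ R) (x : H) :
    x ∈ R := by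
  have hone : ∀ c : k, c • (1 : H) ∈ R := fun c => by
    rw [← Algebra.algebraMap_eq_smul_one]
    exact R.algebraMap_mem c
  have main : ∀ n : ℕ, GG k H n ≤ Subalgebra.toSubmodule R := by
    intro n
    induction n with
    | zero => exact bot_le
    | succ n ih =>
      intro x hx
      rcases n with _ | m
      · rw [eq_of_mem_GG_one hx]
        exact hone _
      -- `x ∈ GG (m + 2)`
      set e := TensorProduct.map (JJ k H) (JJ k H) (comul (R := k) x) with he
      have hdl : dl k H x ∈ tp (GG k H (m + 1)) (⊤ : Submodule k H) := dl_mem_tp hx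
      rcases m with _ | m'
      · -- `x ∈ GG 2`: `J x` is primitive
        have he0 : e = 0 := by
          rw [he, map_JJ_eq_rTensor_dl]
          have h : tp (GG k H 1) (⊤ : Submodule k H) ≤
              LinearMap.ker (LinearMap.rTensor H (JJ k H)) :=
            tp_le fun a ha b _ => by
              rw [LinearMap.mem_ker, LinearMap.rTensor_tmul]
              have : JJ k H a = 0 := by
                rw [JJ_apply, sub_eq_zero]
                exact eq_of_mem_GG_one ha
              rw [this, zero_tmul]
          exact LinearMap.mem_ker.mp (h hdl)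
        have hΔ : comul (R := k) x = (1 : H) ⊗ₜ[k] x + x ⊗ₜ[k] (1 : H) -
            counit (R := k) x • ((1 : H) ⊗ₜ[k] (1 : H)) := by
          rw [he, map_JJ_comul] at he0
          rw [← sub_eq_zero, ← he0]
          abel
        have hp : JJ k H x ∈ R := by
          apply hR
          rw [JJ_apply, map_sub, map_smul, Bialgebra.comul_one, Algebra.TensorProduct.one_def, hΔ,
            sub_tmul, tmul_sub, ← TensorProduct.smul_tmul', tmul_smul]
          abel
        have : x = JJ k H x + counit (R := k) x • (1 : H) := by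
          rw [JJ_apply]
          abel
        rw [this]
        exact Subalgebra.add_mem _ hp (hone _)
      · -- `x ∈ GG (m' + 3)`
        have hJ : ∀ a ∈ GG k H (m' + 1 + 1), JJ k H a ∈ GG k H (m' + 1 + 1) := by
          intro a ha
          rw [JJ_apply]
          exact Submodule.sub_mem _ ha (Submodule.smul_mem _ _ (one_mem_GG _))
        have he1 : e ∈ tp (GG k H (m' + 1 + 1)) (⊤ : Submodule k H) := by
          rw [he, map_JJ_eq_rTensor_dl]
          exact map_mem_tp (JJ k H) LinearMap.id hJ (fun _ _ => Submodule.mem_top) hdl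
        have he2 : e ∈ tp (⊤ : Submodule k H) (GG k H (m' + 1 + 1)) := by
          have h1 := comm_mem_tp he1
          have h2 : TensorProduct.comm k H H e = e := by
            rw [he, ← TensorProduct.map_comm, comm_comul]
          rwa [h2] at h1
        have he3 : e ∈ tp (GG k H (m' + 1 + 1)) (GG k H (m' + 1 + 1)) :=
          mem_tp_of_left_right he1 he2
        have hmul : LinearMap.mul' k H e ∈ R := by
          have h : tp (GG k H (m' + 1 + 1)) (GG k H (m' + 1 + 1)) ≤
              (Subalgebra.toSubmodule R).comap (LinearMap.mul' k H) :=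
            tp_le fun a ha b hb => by
              rw [Submodule.mem_comap, LinearMap.mul'_apply]
              exact R.mul_mem (ih ha) (ih hb)
          exact h he3
        have hpsi : psi k H x - (2 : k) ^ (m' + 1 + 1) • x ∈ R :=
          ih (psi_sub_mem_GG (m' + 1 + 1) x hx)
        have hmul' := mul'_map_JJ (k := k) x
        rw [← he] at hmul'
        have hne : (2 : k) ^ (m' + 1 + 1) - 2 ≠ 0 := by
          intro h
          have h2 : ((2 ^ (m' + 1 + 1) : ℕ) : k) = ((2 : ℕ) : k) := by
            push_cast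
            exact sub_eq_zero.mp h
          have h3 : 2 ^ (m' + 1 + 1) = 2 := Nat.cast_injective h2
          have h4 : 2 ^ (m' + 1 + 1) ≥ 2 ^ 2 := Nat.pow_le_pow_right (by norm_num) (by omega)
          omega
        have hx2 : ((2 : k) ^ (m' + 1 + 1) - 2) • x ∈ R := by
          have e3 : ((2 : k) ^ (m' + 1 + 1) - 2) • x =
              (LinearMap.mul' k H e - counit (R := k) x • (1 : H)) -
              (psi k H x - (2 : k) ^ (m' + 1 + 1) • x) := by
            rw [hmul', sub_smul]
            abel
          rw [e3]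
          exact Subalgebra.sub_mem _ (Subalgebra.sub_mem _ hmul (hone _)) hpsi
        have := Subalgebra.smul_mem R hx2 ((2 : k) ^ (m' + 1 + 1) - 2)⁻¹
        rwa [smul_smul, inv_mul_cancel₀ hne, one_smul] at this
  obtain ⟨n, hn⟩ := exists_mem_GG hconn x
  exact main n hn

end Cocomm2

end Surj

end Groth.Agent.H9.MM
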