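import Groth.Agent.Lib.Lead.QC.CartierCompl
import Groth.Agent.Lib.Lead.QC.IdealComap
import Groth.Prelude.Def_W4c6modpairsegaMP

set_option autoImplicit false
universe u
open CategoryTheory Limits AlgebraicGeometry TopologicalSpace Opposite

namespace Groth.Agent.H9.MPU

section Alg
variable {R : Type*} [CommRing R]

theorem isUnit_of_span_mul_eq (a s : R) (hs : s ∈ nonZeroDivisors R)
    (h : Ideal.span {a * s} = Ideal.span {s}) : IsUnit a := by
  have h1 : s ∈ Ideal.span {a * s} := by rw [h]; exact Ideal.mem_span_singleton_self s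
  obtain ⟨c, hc⟩ := Ideal.mem_span_singleton'.mp h1
  have h2 : (c * a - 1) * s = 0 := by rw [sub_mul, one_mul, mul_assoc, hc, sub_self]
  have h3 : c * a - 1 = 0 := (mem_nonZeroDivisors_iff_right.mp hs) _ h2
  exact IsUnit.of_mul_eq_one c (by rw [mul_comm]; exact sub_eq_zero.mp h3)

/-- if `span {t} = span {r}` with `r` a nonzerodivisor then `t` is a nonzerodivisor. -/
theorem mem_nonZeroDivisors_of_span_eq (t r : R) (hr : r ∈ nonZeroDivisors R)
    (h : Ideal.span {t} = Ideal.span {r}) : t ∈ nonZeroDivisors R := by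
  have h1 : r ∈ Ideal.span {t} := by rw [h]; exact Ideal.mem_span_singleton_self r
  obtain ⟨c, hc⟩ := Ideal.mem_span_singleton'.mp h1
  rw [← hc] at hr
  exact (mul_mem_nonZeroDivisors.mp hr).2

end Alg

variable {Y : Scheme.{u}}

/-- a principal generator restricts to a generator on smaller affine opens. -/
theorem span_res (D : Y.IdealSheafData) {U₀ U : Y.affineOpens} (h : U.1 ≤ U₀.1)
    (a₀ : Γ(Y, U₀.1)) (hI : D.ideal U₀ = Ideal.span {a₀}) :
    D.ideal U = Ideal.span {(Y.presheaf.map (homOfLE h).op a₀ : Γ(Y, U.1))} := by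
  have := D.map_ideal (U := U) (V := U₀) h
  rw [← this, hI, Ideal.map_span, Set.image_singleton]
  rfl

/-- the open locus where two ideal sheaves agree (union of the affine opens on which they
agree). -/
def eqLocus (J K : Y.IdealSheafData) : Y.Opens :=
  ⨆ V : {V : Y.affineOpens // J.ideal V = K.ideal V}, V.1.1

theorem ideal_eq_of_le (J K : Y.IdealSheafData) {V W : Y.affineOpens} (h : W.1 ≤ V.1)
    (hV : J.ideal V = K.ideal V) : J.ideal W = K.ideal W := by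
  rw [← J.map_ideal h, ← K.map_ideal h, hV]

theorem eqLocus_inf_eq_basicOpen (J K : Y.IdealSheafData) (V₀ : Y.affineOpens)
    (t s a : Γ(Y, V₀.1)) (hJ : J.ideal V₀ = Ideal.span {t}) (hK : K.ideal V₀ = Ideal.span {s})
    (ht : t ∈ nonZeroDivisors Γ(Y, V₀.1)) (hta : t = a * s) :
    eqLocus J K ⊓ V₀.1 = Y.basicOpen a := by
  apply le_antisymm
  · rintro x ⟨hx1, hx2⟩
    obtain ⟨⟨V, hV⟩, hxV⟩ := Opens.mem_iSup.mp hx1
    obtain ⟨W, hW, hxW, hWle⟩ := exists_isAffineOpen_mem_and_subset (x := x)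
      (U := V.1 ⊓ V₀.1) ⟨hxV, hx2⟩
    have hWV : W ≤ V.1 := fun z hz => (hWle hz).1
    have hWV₀ : W ≤ V₀.1 := fun z hz => (hWle hz).2
    have e1 : J.ideal ⟨W, hW⟩ = K.ideal ⟨W, hW⟩ := ideal_eq_of_le J K (W := ⟨W, hW⟩) hWV hV
    obtain ⟨hnzd, e2⟩ := Groth.Agent.LD.QC.principal_res J (U := ⟨W, hW⟩) (U₀ := V₀) hWV₀ t ht hJ
    have e3 := span_res K (U := ⟨W, hW⟩) (U₀ := V₀) hWV₀ s hK
    have e4 : (Y.presheaf.map (homOfLE hWV₀).op t : Γ(Y, W)) =
        Y.presheaf.map (homOfLE hWV₀).op a * Y.presheaf.map (homOfLE hWV₀).op s := by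
      rw [hta, map_mul]
    rw [e4] at hnzd e2
    have hu : IsUnit (Y.presheaf.map (homOfLE hWV₀).op a : Γ(Y, W)) :=
      isUnit_of_span_mul_eq _ _ (mul_mem_nonZeroDivisors.mp hnzd).2 (by rw [← e2, e1, e3])
    have := Y.basicOpen_of_isUnit hu
    rw [Scheme.basicOpen_res] at this
    have hx' : x ∈ W ⊓ Y.basicOpen a := by rw [this]; exact hxW
    exact hx'.2
  · intro x hx
    have hD : IsAffineOpen (Y.basicOpen a) := V₀.2.basicOpen a
    have hle : Y.basicOpen a ≤ V₀.1 := Y.basicOpen_le a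
    refine ⟨?_, hle hx⟩
    have e2 := span_res J (U := ⟨_, hD⟩) (U₀ := V₀) hle t hJ
    have e3 := span_res K (U := ⟨_, hD⟩) (U₀ := V₀) hle s hK
    have hu : IsUnit (Y.presheaf.map (homOfLE hle).op a : Γ(Y, Y.basicOpen a)) :=
      RingedSpace.isUnit_res_basicOpen _ a
    have e5 : J.ideal ⟨_, hD⟩ = K.ideal ⟨_, hD⟩ := by
      rw [e2, e3, hta, map_mul]
      exact Ideal.span_singleton_mul_left_unit hu _
    exact Opens.mem_iSup.mpr ⟨⟨⟨_, hD⟩, e5⟩, hx⟩

theorem isAffineOpen_preimage_ι (U : Y.Opens) (V : Y.Opens) (hV : IsAffineOpen V) (h : V ≤ U) :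
    IsAffineOpen (U.ι ⁻¹ᵁ V) := by
  rw [← Scheme.Hom.isAffineOpen_iff_of_isOpenImmersion U.ι,
    Scheme.Hom.image_preimage_eq_opensRange_inf, Scheme.Opens.opensRange_ι,
    inf_eq_right.mpr h]
  exact hV

theorem comap_ι_eqLocus (J K : Y.IdealSheafData) :
    J.comap (eqLocus J K).ι = K.comap (eqLocus J K).ι := by
  have hle : ∀ V : {V : Y.affineOpens // J.ideal V = K.ideal V}, V.1.1 ≤ eqLocus J K :=
    fun V => le_iSup (fun V : {V : Y.affineOpens // J.ideal V = K.ideal V} => V.1.1) V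
  apply Scheme.IdealSheafData.ext_of_iSup_eq_top
    (fun V : {V : Y.affineOpens // J.ideal V = K.ideal V} =>
      (⟨(eqLocus J K).ι ⁻¹ᵁ V.1.1, isAffineOpen_preimage_ι _ _ V.1.2 (hle V)⟩ :
        (eqLocus J K).toScheme.affineOpens))
  · apply top_le_iff.mp
    rintro ⟨x, hx⟩ -
    obtain ⟨V, hxV⟩ := Opens.mem_iSup.mp hx
    exact Opens.mem_iSup.mpr ⟨V, hxV⟩
  · intro V
    rw [Groth.Agent.LD.QC.ideal_comap_of_le J _ V.1 _ le_rfl,
      Groth.Agent.LD.QC.ideal_comap_of_le K _ V.1 _ le_rfl, V.2]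

theorem quasiCompact_ι_of_cover (U : Y.Opens)
    (h : ∀ y : Y, ∃ V₀ : Y.affineOpens, y ∈ V₀.1 ∧ ∃ a : Γ(Y, V₀.1), U ⊓ V₀.1 = Y.basicOpen a) :
    IsAffineHom U.ι := by
  apply isAffineHom_of_forall_exists_isAffineOpen
  intro y
  obtain ⟨V₀, hy, a, ha⟩ := h y
  refine ⟨V₀.1, hy, V₀.2, ?_⟩
  rw [← Scheme.Hom.isAffineOpen_iff_of_isOpenImmersion U.ι,
    Scheme.Hom.image_preimage_eq_opensRange_inf, Scheme.Opens.opensRange_ι, ha]
  exact V₀.2.basicOpen a

end Groth.Agent.H9.MPU
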