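import Groth.Agent.Lib.Helper9.Misc.MPU1

set_option autoImplicit false
universe u
open CategoryTheory Limits AlgebraicGeometry TopologicalSpace Opposite

namespace Groth.Agent.H9.MPU

open Groth.Agent.LD.QC

variable {X Y Z : Scheme.{u}}

theorem span_comap (K : Z.IdealSheafData) (g : Y ⟶ Z) (Z₀ : Z.affineOpens) (V₀ : Y.affineOpens)
    (e : V₀.1 ≤ g ⁻¹ᵁ Z₀.1) (k : Γ(Z, Z₀.1)) (hK : K.ideal Z₀ = Ideal.span {k}) :
    (K.comap g).ideal V₀ = Ideal.span {(g.appLE Z₀.1 V₀.1 e k : Γ(Y, V₀.1))} := by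
  rw [ideal_comap_of_le K g Z₀ V₀ e, hK, Ideal.map_span, Set.image_singleton]

theorem exists_local_gens (J : Y.IdealSheafData) (K : Z.IdealSheafData)
    (hJ : BlowUp.IsEffCartierIdeal J) (hK : BlowUp.IsEffCartierIdeal K) (g : Y ⟶ Z)
    (hg : J ≤ K.comap g) (y : Y) :
    ∃ (V₀ : Y.affineOpens) (t s a : Γ(Y, V₀.1)), y ∈ V₀.1 ∧
      t ∈ nonZeroDivisors Γ(Y, V₀.1) ∧ J.ideal V₀ = Ideal.span {t} ∧
      (K.comap g).ideal V₀ = Ideal.span {s} ∧ t = a * s := by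
  obtain ⟨Z₀, hz, k, -, hk⟩ := hK (g.base y)
  obtain ⟨V₀, hy, hle, t, ht, hJ'⟩ := exists_affine_principal_le J hJ y (g ⁻¹ᵁ Z₀.1) hz
  have hKV := span_comap K g Z₀ V₀ hle k hk
  have h1 : t ∈ (K.comap g).ideal V₀ := hg V₀ (by rw [hJ']; exact Ideal.mem_span_singleton_self t)
  rw [hKV] at h1
  obtain ⟨a, ha⟩ := Ideal.mem_span_singleton'.mp h1
  exact ⟨V₀, t, _, a, hy, ht, hJ', hKV, ha.symm⟩

theorem S19329_main (I : X.IdealSheafData) (J : Y.IdealSheafData) (K : Z.IdealSheafData)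
    (hI : BlowUp.IsEffCartierIdeal I) (hJ : BlowUp.IsEffCartierIdeal J)
    (hK : BlowUp.IsEffCartierIdeal K) (f : X ⟶ Y) (g : Y ⟶ Z)
    (hf : I ≤ J.comap f) (hg : J ≤ K.comap g)
    (hfg : I = K.comap (f ≫ g)) :
    I = J.comap f ∧
      ∃ U : Y.Opens, QuasiCompact U.ι ∧ Set.range f.base ⊆ (U : Set Y) ∧
        J.comap U.ι = K.comap (U.ι ≫ g) := by
  have hfg' : I = (K.comap g).comap f := by rw [hfg, Scheme.IdealSheafData.comap_comp]
  have ha : I = J.comap f :=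
    le_antisymm hf (by rw [hfg']; exact Scheme.IdealSheafData.comap_mono f hg)
  refine ⟨ha, eqLocus J (K.comap g), ?_, ?_, ?_⟩
  · haveI : IsAffineHom (eqLocus J (K.comap g)).ι := quasiCompact_ι_of_cover _ (fun y => by
      obtain ⟨V₀, t, s, a, hy, ht, hJ', hK', hta⟩ := exists_local_gens J K hJ hK g hg y
      exact ⟨V₀, hy, a, eqLocus_inf_eq_basicOpen J (K.comap g) V₀ t s a hJ' hK' ht hta⟩)
    infer_instance
  · rintro _ ⟨x, rfl⟩
    obtain ⟨V₀, t, s, a, hy, ht, hJ', hK', hta⟩ :=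
      exists_local_gens J K hJ hK g hg (f.base x)
    have hloc := eqLocus_inf_eq_basicOpen J (K.comap g) V₀ t s a hJ' hK' ht hta
    obtain ⟨X₁, hx, hle, r, hr, hIr⟩ := exists_affine_principal_le I hI x (f ⁻¹ᵁ V₀.1) hy
    have e1 : I.ideal X₁ = Ideal.span {(f.appLE V₀.1 X₁.1 hle t : Γ(X, X₁.1))} := by
      rw [ha]; exact span_comap J f V₀ X₁ hle t hJ'
    have e2 : I.ideal X₁ = Ideal.span {(f.appLE V₀.1 X₁.1 hle s : Γ(X, X₁.1))} := by
      rw [hfg']; exact span_comap (K.comap g) f V₀ X₁ hle s hK'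
    have hs_nzd : (f.appLE V₀.1 X₁.1 hle s : Γ(X, X₁.1)) ∈ nonZeroDivisors Γ(X, X₁.1) :=
      mem_nonZeroDivisors_of_span_eq _ r hr (by rw [← e2, hIr])
    have hu : IsUnit (f.appLE V₀.1 X₁.1 hle a : Γ(X, X₁.1)) :=
      isUnit_of_span_mul_eq _ _ hs_nzd (by rw [← map_mul, ← hta, ← e1, e2])
    have h3 := X.basicOpen_of_isUnit hu
    rw [Scheme.basicOpen_appLE] at h3
    have hx' : x ∈ X₁.1 ⊓ f ⁻¹ᵁ Y.basicOpen a := by rw [h3]; exact hx
    have h4 : f.base x ∈ Y.basicOpen a := hx'.2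
    rw [← hloc] at h4
    exact h4.1
  · rw [Scheme.IdealSheafData.comap_comp]; exact comap_ι_eqLocus J (K.comap g)

end Groth.Agent.H9.MPU
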