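import Mathlib

/-! Helper9: the Cauchy–Binet formula. -/

set_option linter.unusedSectionVars false
set_option linter.unusedVariables false
set_option linter.unusedSimpArgs false

universe u v w

namespace Groth.Agent.H9.MT

open Matrix Finset

variable {n : Type u} {m : Type v} {R : Type w} [Fintype n] [DecidableEq n] [Fintype m] [DecidableEq m]
  [CommRing R]

/-- Cauchy–Binet, expanded over all functions -/
theorem cb_fun (A : Matrix n m R) (B : Matrix m n R) :
    (A * B).det = ∑ f : n → m, (∏ i, A i (f i)) * (Matrix.of fun i j => B (f i) j).det := by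
  have h1 : (A * B) = Matrix.of (fun i => ∑ k, A i k • B k) := by
    ext i j
    simp [Matrix.mul_apply, Finset.sum_apply]
  rw [h1]
  have h2 := (Matrix.detRowAlternating (n := n) (R := R)).toMultilinearMap.map_sum
    (α := fun _ => m) (fun i k => A i k • B k)
  have h3 : (Matrix.of (fun i => ∑ k, A i k • B k)).det =
      (Matrix.detRowAlternating (n := n) (R := R)) (fun i => ∑ k, A i k • B k) := rfl
  rw [h3]
  have h2' : (Matrix.detRowAlternating (n := n) (R := R)) (fun i => ∑ k, A i k • B k) =
      ∑ r : n → m, (Matrix.detRowAlternating (n := n) (R := R)) (fun i => A i (r i) • B (r i)) := h2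
  rw [h2']
  apply Finset.sum_congr rfl
  intro f _
  have h4 := (Matrix.detRowAlternating (n := n) (R := R)).toMultilinearMap.map_smul_univ
    (fun i => A i (f i)) (fun i => B (f i))
  have h4' : (Matrix.detRowAlternating (n := n) (R := R)) (fun i => A i (f i) • B (f i)) =
      (∏ i, A i (f i)) • (Matrix.detRowAlternating (n := n) (R := R)) (fun i => B (f i)) := h4
  rw [h4', smul_eq_mul]
  rfl

theorem term_zero_of_not_injective (B : Matrix m n R) (f : n → m) (hf : ¬ Function.Injective f) :
    (Matrix.of fun i j => B (f i) j).det = 0 := by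
  unfold Function.Injective at hf
  push Not at hf
  obtain ⟨a, b, hab, hne⟩ := hf
  apply Matrix.det_zero_of_row_eq hne
  ext j
  simp [hab]

/-- sum over permutations for a fixed injection -/
theorem cb_perm (A : Matrix n m R) (B : Matrix m n R) (f0 : n → m) :
    ∑ σ : Equiv.Perm n, (∏ i, A i (f0 (σ i))) * (Matrix.of fun i j => B (f0 (σ i)) j).det =
      (A.submatrix id f0).det * (B.submatrix f0 id).det := by
  have h1 : ∀ σ : Equiv.Perm n, (Matrix.of fun i j => B (f0 (σ i)) j).det =
      Equiv.Perm.sign σ * (B.submatrix f0 id).det := by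
    intro σ
    have := Matrix.det_permute σ (B.submatrix f0 id)
    rw [← this]
    rfl
  simp only [h1]
  have h2 : (A.submatrix id f0).det = ∑ σ : Equiv.Perm n, (Equiv.Perm.sign σ : R) * ∏ i, A i (f0 (σ i)) := by
    rw [← Matrix.det_transpose, Matrix.det_apply']
    rfl
  rw [h2, Finset.sum_mul]
  apply Finset.sum_congr rfl
  intro σ _
  ring

/-- Cauchy–Binet grouped by image, with an arbitrary choice of enumerations -/
theorem cb_grouped (A : Matrix n m R) (B : Matrix m n R)
    (F : Finset m → (n → m))
    (hF : ∀ S ∈ powersetCard (Fintype.card n) (univ : Finset m),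
      Function.Injective (F S) ∧ univ.image (F S) = S) :
    (A * B).det = ∑ S ∈ powersetCard (Fintype.card n) (univ : Finset m),
      (A.submatrix id (F S)).det * (B.submatrix (F S) id).det := by
  classical
  rw [cb_fun]
  set G : (n → m) → R := fun f => (∏ i, A i (f i)) * (Matrix.of fun i j => B (f i) j).det with hG
  have h1 : ∑ f : n → m, G f = ∑ f ∈ univ.filter (fun f : n → m => Function.Injective f), G f := by
    rw [Finset.sum_filter]
    apply Finset.sum_congr rfl
    intro f _
    split_ifs with h
    · rfl
    · simp only [hG]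
      rw [term_zero_of_not_injective B f h, mul_zero]
  rw [h1]
  have hmaps : ∀ f ∈ univ.filter (fun f : n → m => Function.Injective f),
      univ.image f ∈ powersetCard (Fintype.card n) (univ : Finset m) := by
    intro f hf
    rw [Finset.mem_filter] at hf
    rw [Finset.mem_powersetCard]
    refine ⟨Finset.subset_univ _, ?_⟩
    rw [Finset.card_image_of_injective _ hf.2, Finset.card_univ]
  rw [← Finset.sum_fiberwise_of_maps_to hmaps]
  apply Finset.sum_congr rfl
  intro S hS
  obtain ⟨hinj, himg⟩ := hF S hS
  rw [← cb_perm A B (F S)]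
  symm
  apply Finset.sum_bij (fun σ _ => fun i => F S (σ i))
  · intro σ _
    rw [Finset.mem_filter, Finset.mem_filter]
    refine ⟨⟨Finset.mem_univ _, hinj.comp σ.injective⟩, ?_⟩
    have himg2 : univ.image (fun i => F S (σ i)) = univ.image (F S) := by
      ext x
      simp only [Finset.mem_image, Finset.mem_univ, true_and]
      constructor
      · rintro ⟨i, rfl⟩
        exact ⟨σ i, rfl⟩
      · rintro ⟨i, rfl⟩
        exact ⟨σ.symm i, by simp⟩
    rw [himg2, himg]
  · intro σ _ τ _ h
    ext i
    exact hinj (congrFun h i)
  · intro f hf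
    rw [Finset.mem_filter, Finset.mem_filter] at hf
    obtain ⟨⟨_, hfinj⟩, hfimg⟩ := hf
    have hex : ∀ i, ∃ j, F S j = f i := by
      intro i
      have : f i ∈ univ.image (F S) := by
        rw [himg, ← hfimg]
        exact Finset.mem_image_of_mem _ (Finset.mem_univ _)
      rw [Finset.mem_image] at this
      obtain ⟨j, _, hj⟩ := this
      exact ⟨j, hj⟩
    choose σ0 hσ0 using hex
    have hσinj : Function.Injective σ0 := by
      intro a b hab
      apply hfinj
      rw [← hσ0 a, ← hσ0 b, hab]
    have hσbij : Function.Bijective σ0 := Finite.injective_iff_bijective.1 hσinj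
    refine ⟨Equiv.ofBijective σ0 hσbij, Finset.mem_univ _, ?_⟩
    funext i
    exact hσ0 i
  · intro σ _
    rfl

/-- Cauchy–Binet grouped by image, flexible form -/
theorem cb_grouped' (A : Matrix n m R) (B : Matrix m n R) (Φ : Finset m → R)
    (hΦ : ∀ S ∈ powersetCard (Fintype.card n) (univ : Finset m),
      ∃ f : n → m, Function.Injective f ∧ univ.image f = S ∧
        Φ S = (A.submatrix id f).det * (B.submatrix f id).det) :
    (A * B).det = ∑ S ∈ powersetCard (Fintype.card n) (univ : Finset m), Φ S := by
  classical
  by_cases hne : Nonempty (n → m)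
  · obtain ⟨f00⟩ := hne
    have : Nonempty (n → m) := ⟨f00⟩
    choose! F hF using hΦ
    rw [cb_grouped A B (fun S => if h : S ∈ powersetCard (Fintype.card n) (univ : Finset m) then F S else f00)]
    · apply Finset.sum_congr rfl
      intro S hS
      rw [dif_pos hS]
      exact ((hF S hS).2.2).symm
    · intro S hS
      rw [dif_pos hS]
      exact ⟨(hF S hS).1, (hF S hS).2.1⟩
  · rw [cb_fun]
    rw [not_nonempty_iff] at hne
    have h1 : ∑ f : n → m, (∏ i, A i (f i)) * (Matrix.of fun i j => B (f i) j).det = 0 :=
      Finset.sum_eq_zero (fun f _ => (hne.false f).elim)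
    have h2 : ∑ S ∈ powersetCard (Fintype.card n) (univ : Finset m), Φ S = 0 := by
      apply Finset.sum_eq_zero
      intro S hS
      obtain ⟨f, _⟩ := hΦ S hS
      exact (hne.false f).elim
    rw [h1, h2]

end Groth.Agent.H9.MT
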