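import Mathlib
import Groth.Prelude.Def_W4c2conddiscmodels
import Groth.Agent.Lib.Helper9.Misc.CircCop

/-! Helper9: spanning trees of connected multigraphs via cut-connectivity. -/

set_option linter.unusedSectionVars false
set_option linter.unusedVariables false
set_option linter.unusedSimpArgs false

universe u v

namespace Groth.Agent.H9.SpanTree

open LabGraph Groth.Agent.H9.PreAch Groth.Agent.H9.CircCop

variable {V E : Type u} [Fintype V] [Fintype E] [DecidableEq V] [DecidableEq E]

/-- cut-connectivity of an edge set -/
def CutConn (ends : E → V × V) (T : Finset E) : Prop :=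
  ∀ K : Finset V, (∀ e ∈ T, ((ends e).1 ∈ K ↔ (ends e).2 ∈ K)) → K = ∅ ∨ K = Finset.univ

/-- the subgraph on an edge set -/
abbrev sub (ends : E → V × V) (T : Finset E) : T → V × V := fun e => ends e.1

theorem cutConn_of_connected (ends : E → V × V) (T : Finset E)
    (h : LabGraph.Connected (sub ends T)) : CutConn ends T := by
  intro K hK
  by_cases hne : K = ∅
  · exact Or.inl hne
  · right
    obtain ⟨v, hv⟩ := Finset.nonempty_iff_ne_empty.2 hne
    rw [Finset.eq_univ_iff_forall]
    intro w
    have hpath := h.2 v w
    induction hpath with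
    | refl => exact hv
    | tail _ hyz ih =>
      obtain ⟨e, he | he⟩ := hyz
      · have := hK e.1 e.2
        simp only [sub] at he
        rw [he] at this
        exact this.1 ih
      · have := hK e.1 e.2
        simp only [sub] at he
        rw [he] at this
        exact this.2 ih

theorem connected_of_cutConn (ends : E → V × V) (T : Finset E) (hne : Nonempty V)
    (h : CutConn ends T) : LabGraph.Connected (sub ends T) := by
  classical
  refine ⟨hne, ?_⟩
  intro v w
  set K : Finset V := Finset.univ.filter (fun x => Relation.ReflTransGen (Adj (sub ends T)) v x) with hK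
  have hclosed : ∀ e ∈ T, ((ends e).1 ∈ K ↔ (ends e).2 ∈ K) := by
    intro e he
    simp only [hK, Finset.mem_filter, Finset.mem_univ, true_and]
    constructor
    · intro h1
      exact Relation.ReflTransGen.tail h1 ⟨⟨e, he⟩, Or.inl rfl⟩
    · intro h1
      exact Relation.ReflTransGen.tail h1 ⟨⟨e, he⟩, Or.inr rfl⟩
  rcases h K hclosed with h0 | h1
  · exfalso
    have : v ∈ K := by
      simp only [hK, Finset.mem_filter, Finset.mem_univ, true_and]
      exact Relation.ReflTransGen.refl
    rw [h0] at this
    exact absurd this (Finset.notMem_empty _)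
  · have : w ∈ K := by rw [h1]; exact Finset.mem_univ _
    simp only [hK, Finset.mem_filter, Finset.mem_univ, true_and] at this
    exact this

theorem cutConn_univ (ends : E → V × V) (h : LabGraph.Connected ends) :
    CutConn ends Finset.univ := by
  intro K hK
  by_cases hne : K = ∅
  · exact Or.inl hne
  · right
    obtain ⟨v, hv⟩ := Finset.nonempty_iff_ne_empty.2 hne
    rw [Finset.eq_univ_iff_forall]
    intro w
    have hpath := h.2 v w
    induction hpath with
    | refl => exact hv
    | tail _ hyz ih =>
      obtain ⟨e, he | he⟩ := hyz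
      · have := hK e (Finset.mem_univ _)
        rw [he] at this
        exact this.1 ih
      · have := hK e (Finset.mem_univ _)
        rw [he] at this
        exact this.2 ih

/-- removing an edge of an even set (in particular of a circuit) keeps cut-connectivity -/
theorem cutConn_erase (ends : E → V × V) (T : Finset E) (hT : CutConn ends T)
    (C : Finset E) (hCT : C ⊆ T) (hev : ∀ v, Even (endCount ends C v)) (e0 : E) (he0 : e0 ∈ C) :
    CutConn ends (T.erase e0) := by
  intro K hK
  apply hT K
  intro e he
  by_cases hee : e = e0
  · rw [hee]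
    have := handshake ends C hev e0 he0 (fun v => if v ∈ K then 1 else 0) ?_
    · by_cases h1 : (ends e0).1 ∈ K
      · by_cases h2 : (ends e0).2 ∈ K
        · exact ⟨fun _ => h2, fun _ => h1⟩
        · rw [if_pos h1, if_neg h2] at this
          exact absurd this (by norm_num)
      · by_cases h2 : (ends e0).2 ∈ K
        · rw [if_neg h1, if_pos h2] at this
          exact absurd this (by norm_num)
        · exact ⟨fun h => absurd h h1, fun h => absurd h h2⟩
    · intro e' he' hne
      have := hK e' (Finset.mem_erase.2 ⟨hne, hCT he'⟩)
      by_cases h1 : (ends e').1 ∈ K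
      · simp only [if_pos h1, if_pos (this.1 h1)]
      · have h3 : (ends e').2 ∉ K := fun h => h1 (this.2 h)
        simp only [if_neg h1, if_neg h3]
  · exact hK e (Finset.mem_erase.2 ⟨hee, he⟩)

/-- a circuit of the subgraph is a circuit of the graph -/
theorem circuit_of_sub (ends : E → V × V) (T : Finset E) (C' : Finset T)
    (h : IsCircuit (sub ends T) C') :
    IsCircuit ends (C'.map (Function.Embedding.subtype _)) := by
  classical
  have hec : ∀ (D : Finset T) (v : V), endCount ends (D.map (Function.Embedding.subtype _)) v =
      endCount (sub ends T) D v := by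
    intro D v
    unfold endCount
    rw [Finset.sum_map]
    rfl
  refine ⟨h.1.map, fun v => by rw [hec]; exact h.2.1 v, ?_⟩
  intro C'' hss hne
  have hsubT : ∀ x ∈ C'', x ∈ T := by
    intro x hx
    have := hss.subset hx
    rw [Finset.mem_map] at this
    obtain ⟨y, _, rfl⟩ := this
    exact y.2
  set D : Finset T := C''.subtype (fun e => e ∈ T) with hD
  have hDmap : D.map (Function.Embedding.subtype _) = C'' := Finset.subtype_map_of_mem hsubT
  have hDss : D ⊂ C' := by
    rw [← Finset.map_ssubset_map (f := Function.Embedding.subtype _), hDmap]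
    exact hss
  have hDne : D.Nonempty := by
    rw [← hDmap] at hne
    exact Finset.map_nonempty.1 hne
  obtain ⟨v, hv⟩ := h.2.2 D hDss hDne
  refine ⟨v, ?_⟩
  rw [← hDmap, hec]
  exact hv

/-- minimal cut-connected subsets are spanning trees -/
theorem exists_spanningTree_subset (ends : E → V × V) (hne : Nonempty V) (S : Finset E)
    (hS : CutConn ends S) :
    ∃ T ⊆ S, IsSpanningTree ends T := by
  classical
  -- choose minimal cut-connected subset
  have hex : ∃ T ∈ S.powerset.filter (fun T => CutConn ends T), ∀ T' ∈ S.powerset.filter (fun T => CutConn ends T),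
      T.card ≤ T'.card :=
    Finset.exists_min_image _ Finset.card ⟨S, by simp [hS]⟩
  obtain ⟨T, hT, hmin⟩ := hex
  rw [Finset.mem_filter, Finset.mem_powerset] at hT
  refine ⟨T, hT.1, connected_of_cutConn ends T hne hT.2, ?_⟩
  intro C' hC'
  have hC := circuit_of_sub ends T C' hC'
  obtain ⟨e0, he0⟩ := hC.1
  have hCT : C'.map (Function.Embedding.subtype _) ⊆ T := by
    intro x hx
    rw [Finset.mem_map] at hx
    obtain ⟨y, _, rfl⟩ := hx
    exact y.2
  have h1 := cutConn_erase ends T hT.2 _ hCT hC.2.1 e0 he0
  have h2 := hmin (T.erase e0) (by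
    rw [Finset.mem_filter, Finset.mem_powerset]
    exact ⟨(Finset.erase_subset _ _).trans hT.1, h1⟩)
  have h3 := Finset.card_erase_lt_of_mem (hCT he0)
  omega

theorem s14804 (ends : E → V × V) (hG : LabGraph.Connected ends) (v : V) :
    (∃ C : Finset E, LabGraph.IsCircuit ends C ∧ LabGraph.endCount ends C v ≠ 0) ↔
      ∃ T : Finset E, LabGraph.IsSpanningTree ends T ∧
        ∃ e : E, e ∉ T ∧ ((ends e).1 = v ∨ (ends e).2 = v) := by
  classical
  constructor
  · rintro ⟨C, hC, hv⟩
    -- an edge of C at v
    have : ∃ e0 ∈ C, cc ends e0 v ≠ 0 := by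
      by_contra hcon
      push Not at hcon
      apply hv
      rw [endCount_eq]
      exact Finset.sum_eq_zero hcon
    obtain ⟨e0, he0, hcc⟩ := this
    have hend : (ends e0).1 = v ∨ (ends e0).2 = v := by
      by_contra hcon
      push Not at hcon
      apply hcc
      unfold cc
      rw [if_neg hcon.1, if_neg hcon.2]
    have hS : CutConn ends (Finset.univ.erase e0) :=
      cutConn_erase ends Finset.univ (cutConn_univ ends hG) C (Finset.subset_univ _) hC.2.1 e0 he0
    obtain ⟨T, hTS, hT⟩ := exists_spanningTree_subset ends hG.1 _ hS
    refine ⟨T, hT, e0, ?_, hend⟩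
    intro h
    exact (Finset.notMem_erase e0 _) (hTS h)
  · rintro ⟨T, hT, e, heT, hend⟩
    have hcc := cutConn_of_connected ends T hT.1
    rcases dich2 ends T (ends e).1 (ends e).2 with ⟨K, hbK, haK, hKc⟩ | ⟨D, hDS, hDu⟩
    · exfalso
      rcases hcc K hKc with h0 | h1
      · rw [h0] at hbK
        exact absurd hbK (Finset.notMem_empty _)
      · rw [h1] at haK
        exact haK (Finset.mem_univ _)
    · obtain ⟨C, hCs, hC, heC⟩ := circuit_of_joined ends T e heT D hDS hDu
      refine ⟨C, hC, ?_⟩
      rw [endCount_eq]
      intro h0
      have := (Finset.sum_eq_zero_iff.1 h0) e heC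
      unfold cc at this
      rcases hend with h | h
      · rw [if_pos h] at this
        omega
      · rw [if_pos h] at this
        omega

end Groth.Agent.H9.SpanTree
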