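import Mathlib
import Groth.Prelude.Def_W4c2conddiscmodels
import Groth.Agent.Lib.Helper9.Misc.SpanTree

/-! Helper9: reduced incidence matrix of a multigraph; unimodularity on trees. -/

set_option linter.unusedSectionVars false
set_option linter.unusedVariables false
set_option linter.unusedSimpArgs false

universe u v

namespace Groth.Agent.H9.MT

open LabGraph Groth.Agent.H9.PreAch Groth.Agent.H9.CircCop Groth.Agent.H9.SpanTree Finset

variable {V E : Type u} [Fintype V] [Fintype E] [DecidableEq V] [DecidableEq E]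

/-- reduced incidence matrix -/
def inc (ends : E → V × V) (i : V) : Matrix {v : V // v ≠ i} E ℤ := fun v e =>
  (if (ends e).2 = v.1 then 1 else 0) - (if (ends e).1 = v.1 then 1 else 0)

theorem inc_sum (ends : E → V × V) (i : V) (γ : E → ℤ) (v : {v : V // v ≠ i}) :
    ∑ e, inc ends i v e * γ e = boundary ends γ v.1 := by
  unfold boundary inc
  apply Finset.sum_congr rfl
  intro e _
  split_ifs <;> ring

/-- sum over an injective family of columns, for chains supported on the image -/
theorem inc_sum_image (ends : E → V × V) (i : V) {ι : Type u} [Fintype ι] (f : ι → E)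
    (hf : Function.Injective f) (γ : E → ℤ) (hγ : ∀ e, e ∉ univ.image f → γ e = 0)
    (v : {v : V // v ≠ i}) :
    ∑ u, inc ends i v (f u) * γ (f u) = boundary ends γ v.1 := by
  rw [← inc_sum ends i γ v]
  have h1 : ∑ u, inc ends i v (f u) * γ (f u) = ∑ e ∈ univ.image f, inc ends i v e * γ e := by
    rw [Finset.sum_image (fun a _ b _ h => hf h)]
  rw [h1]
  apply Finset.sum_subset (Finset.subset_univ _)
  intro e _ he
  rw [hγ e he, mul_zero]

theorem sum_subtype_ne (i : V) (g : V → ℤ) (hg : g i = 0) :
    ∑ v : {v : V // v ≠ i}, g v.1 = ∑ v, g v := by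
  have h1 := Finset.sum_subtype (F := inferInstance) (univ.erase i) (p := fun v => v ≠ i) (by simp) g
  rw [← h1, ← Finset.add_sum_erase univ g (Finset.mem_univ i), hg, zero_add]

/-- a disconnected set of columns has zero determinant -/
theorem det_zero_of_not_cutConn (ends : E → V × V) (i : V) (f : {v : V // v ≠ i} → E)
    (h : ¬ CutConn ends (univ.image f)) : ((inc ends i).submatrix id f).det = 0 := by
  classical
  unfold CutConn at h
  push Not at h
  obtain ⟨K, hK, hK0, hK1⟩ := h
  -- arrange i ∉ K
  obtain ⟨K', hK', hK'ne, hiK'⟩ : ∃ K' : Finset V, (∀ e ∈ univ.image f, ((ends e).1 ∈ K' ↔ (ends e).2 ∈ K')) ∧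
      K'.Nonempty ∧ i ∉ K' := by
    by_cases hi : i ∈ K
    · refine ⟨Kᶜ, ?_, ?_, ?_⟩
      · intro e he
        rw [Finset.mem_compl, Finset.mem_compl, hK e he]
      · rw [Finset.nonempty_iff_ne_empty]
        intro h0
        apply hK1
        rw [← Finset.compl_eq_empty_iff]
        exact h0
      · rw [Finset.mem_compl]; exact fun h => h hi
    · exact ⟨K, hK, hK0, hi⟩
  rw [← Matrix.exists_vecMul_eq_zero_iff]
  refine ⟨fun v => if v.1 ∈ K' then 1 else 0, ?_, ?_⟩
  · obtain ⟨v, hv⟩ := hK'ne
    intro h0
    have hvi : v ≠ i := fun h => hiK' (h ▸ hv)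
    have := congrFun h0 ⟨v, hvi⟩
    simp only [if_pos hv] at this
    exact absurd this (by norm_num)
  · funext u
    simp only [Matrix.vecMul, dotProduct, Matrix.submatrix_apply, id, Pi.zero_apply]
    have h1 : ∑ v : {v : V // v ≠ i}, (if v.1 ∈ K' then (1 : ℤ) else 0) * inc ends i v (f u) =
        ∑ v : V, (if v ∈ K' then (1 : ℤ) else 0) *
          ((if (ends (f u)).2 = v then 1 else 0) - (if (ends (f u)).1 = v then 1 else 0)) := by
      rw [← sum_subtype_ne i (fun v => (if v ∈ K' then (1 : ℤ) else 0) *
          ((if (ends (f u)).2 = v then 1 else 0) - (if (ends (f u)).1 = v then 1 else 0)))]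
      · rfl
      · simp only [if_neg hiK', zero_mul]
    rw [h1]
    simp only [mul_sub, Finset.sum_sub_distrib, mul_ite, mul_one, mul_zero, Finset.sum_ite_eq,
      Finset.mem_univ, if_true]
    have := hK' (f u) (Finset.mem_image_of_mem _ (Finset.mem_univ _))
    by_cases h2 : (ends (f u)).1 ∈ K'
    · rw [if_pos h2, if_pos (this.1 h2)]; ring
    · have h3 : (ends (f u)).2 ∉ K' := fun h => h2 (this.2 h)
      rw [if_neg h2, if_neg h3]; ring

/-- a set of columns containing a circuit has zero determinant -/
theorem det_zero_of_circuit (ends : E → V × V) (i : V) (f : {v : V // v ≠ i} → E)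
    (hf : Function.Injective f) (C : Finset E) (hC : IsCircuit ends C) (hCS : C ⊆ univ.image f) :
    ((inc ends i).submatrix id f).det = 0 := by
  classical
  obtain ⟨e0, he0⟩ := hC.1
  obtain ⟨γ, hγC, hγ0, hγ⟩ := circuit_cycle ends C hC e0 he0
  rw [← Matrix.exists_mulVec_eq_zero_iff]
  refine ⟨fun u => γ (f u), ?_, ?_⟩
  · have := hCS he0
    rw [Finset.mem_image] at this
    obtain ⟨u0, _, hu0⟩ := this
    intro h0
    have := congrFun h0 u0
    simp only [hu0, hγ0] at this
    exact absurd this (by norm_num)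
  · funext v
    simp only [Matrix.mulVec, dotProduct, Matrix.submatrix_apply, id, Pi.zero_apply]
    rw [inc_sum_image ends i f hf γ (fun e he => hγC e (fun h => he (hCS h))) v, hγ]

/-- a connected set of `|V| - 1` columns has determinant `±1` -/
theorem det_sq_of_cutConn (ends : E → V × V) (i : V) (f : {v : V // v ≠ i} → E)
    (hf : Function.Injective f) (h : CutConn ends (univ.image f)) :
    ((inc ends i).submatrix id f).det ^ 2 = 1 := by
  classical
  have hex : ∀ v : {v : V // v ≠ i}, ∃ γ : E → ℤ, (∀ e, e ∉ univ.image f → γ e = 0) ∧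
      ∀ u, boundary ends γ u = (if v.1 = u then 1 else 0) - (if i = u then 1 else 0) := by
    intro v
    rcases dichZ ends (univ.image f) v.1 i with ⟨K, hiK, hvK, hKc⟩ | hγ
    · exfalso
      rcases h K hKc with h0 | h1
      · rw [h0] at hiK; exact absurd hiK (Finset.notMem_empty _)
      · rw [h1] at hvK; exact hvK (Finset.mem_univ _)
    · exact hγ
  choose γ hγS hγ using hex
  set Γ : Matrix {v : V // v ≠ i} {v : V // v ≠ i} ℤ := fun u v => γ v (f u) with hΓ
  have hmul : ((inc ends i).submatrix id f) * Γ = 1 := by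
    ext v' v
    rw [Matrix.mul_apply]
    show ∑ u, inc ends i v' (f u) * γ v (f u) = _
    rw [inc_sum_image ends i f hf (γ v) (hγS v) v', hγ v v'.1]
    have hi : ¬ i = v'.1 := fun h => v'.2 h.symm
    rw [if_neg hi, sub_zero, Matrix.one_apply]
    by_cases hvv : v' = v
    · rw [if_pos hvv, if_pos (by rw [hvv])]
    · rw [if_neg hvv, if_neg (fun h => hvv (Subtype.ext h.symm))]
  have hdet := congrArg Matrix.det hmul
  rw [Matrix.det_mul, Matrix.det_one] at hdet
  have hu : IsUnit ((inc ends i).submatrix id f).det := IsUnit.of_mul_eq_one _ hdet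
  rcases Int.isUnit_iff.1 hu with h1 | h1 <;> rw [h1] <;> norm_num

end Groth.Agent.H9.MT
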