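import Mathlib
import Groth.Prelude.Def_W4c2conddiscmodels
import Groth.Agent.Lib.Helper9.Misc.MT1
import Groth.Agent.Lib.Helper9.Misc.MT2

/-! Helper9: the weighted matrix-tree theorem for multigraphs. -/

set_option linter.unusedSectionVars false
set_option linter.unusedVariables false
set_option linter.unusedSimpArgs false

universe u v

namespace Groth.Agent.H9.MT

open LabGraph Groth.Agent.H9.PreAch Groth.Agent.H9.CircCop Groth.Agent.H9.SpanTree Finset

variable {V E : Type u} [Fintype V] [Fintype E] [DecidableEq V] [DecidableEq E]

/-- a circuit of the graph inside `T` is a circuit of the subgraph -/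
theorem circuit_to_sub (ends : E → V × V) (T : Finset E) (C : Finset E)
    (h : IsCircuit ends C) (hCT : C ⊆ T) :
    IsCircuit (sub ends T) (C.subtype (fun e => e ∈ T)) := by
  classical
  have hec : ∀ (D : Finset T) (v : V), endCount ends (D.map (Function.Embedding.subtype _)) v =
      endCount (sub ends T) D v := by
    intro D v
    unfold endCount
    rw [Finset.sum_map]
    rfl
  set D : Finset T := C.subtype (fun e => e ∈ T) with hD
  have hDmap : D.map (Function.Embedding.subtype _) = C := Finset.subtype_map_of_mem (fun x hx => hCT hx)
  refine ⟨?_, ?_, ?_⟩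
  · have := h.1
    rw [← hDmap] at this
    exact Finset.map_nonempty.1 this
  · intro v
    rw [← hec, hDmap]
    exact h.2.1 v
  · intro D' hss hne
    have h1 : D'.map (Function.Embedding.subtype _) ⊂ C := by
      rw [← hDmap, Finset.map_ssubset_map]
      exact hss
    obtain ⟨v, hv⟩ := h.2.2 _ h1 (hne.map)
    refine ⟨v, ?_⟩
    rw [← hec]
    exact hv

theorem forest_of_spanningTree (ends : E → V × V) (T : Finset E) (hT : IsSpanningTree ends T) :
    ∀ C ⊆ T, ¬ IsCircuit ends C := by
  intro C hCT hC
  exact hT.2 _ (circuit_to_sub ends T C hC hCT)

theorem image_val_univ (T : Finset E) : (univ : Finset T).image Subtype.val = T := by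
  rw [Finset.univ_eq_attach, Finset.attach_image_val]

theorem total_boundary (ends : E → V × V) (γ : E → ℤ) : ∑ v, boundary ends γ v = 0 := by
  have := sbp ends γ (fun _ => 1)
  simp only [dl, sub_self, mul_zero, Finset.sum_const_zero, one_mul] at this
  exact this.symm

/-- a spanning tree has `|V| - 1` edges -/
theorem card_of_spanningTree (ends : E → V × V) (T : Finset E) (hT : IsSpanningTree ends T) (i : V) :
    T.card = Fintype.card {v : V // v ≠ i} := by
  classical
  have hcc := cutConn_of_connected ends T hT.1
  have hfor := forest_of_spanningTree ends T hT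
  have hval : Function.Injective (Subtype.val : T → E) := Subtype.val_injective
  apply le_antisymm
  · -- injectivity of the incidence map on chains supported in T
    set NT : (T → ℤ) →ₗ[ℤ] ({v : V // v ≠ i} → ℤ) :=
      Matrix.mulVecLin ((inc ends i).submatrix id (Subtype.val : T → E)) with hNT
    have hinj : Function.Injective NT := by
      rw [← LinearMap.ker_eq_bot, LinearMap.ker_eq_bot']
      intro y hy
      set γ : E → ℤ := fun e => if h : e ∈ T then y ⟨e, h⟩ else 0 with hγ
      have hγT : ∀ e, e ∉ univ.image (Subtype.val : T → E) → γ e = 0 := by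
        intro e he
        rw [image_val_univ] at he
        simp only [hγ, dif_neg he]
      have hγy : ∀ t : T, γ t.1 = y t := by
        intro t
        simp only [hγ, dif_pos t.2]
      have hb : ∀ v : {v : V // v ≠ i}, boundary ends γ v.1 = 0 := by
        intro v
        rw [← inc_sum_image ends i (Subtype.val : T → E) hval γ hγT v]
        have := congrFun hy v
        simp only [hNT, Matrix.mulVecLin_apply, Matrix.mulVec, dotProduct, Matrix.submatrix_apply, id,
          Pi.zero_apply] at this
        simp only [hγy]
        exact this
      have hbi : boundary ends γ i = 0 := by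
        have h1 := total_boundary ends γ
        rw [← Finset.add_sum_erase univ _ (Finset.mem_univ i)] at h1
        have h2 : ∑ v ∈ univ.erase i, boundary ends γ v = 0 := by
          apply Finset.sum_eq_zero
          intro v hv
          exact hb ⟨v, Finset.ne_of_mem_erase hv⟩
        rw [h2, add_zero] at h1
        exact h1
      have hball : ∀ v, boundary ends γ v = 0 := by
        intro v
        by_cases hv : v = i
        · rw [hv]; exact hbi
        · exact hb ⟨v, hv⟩
      obtain ⟨φ, hφ⟩ := forest ends γ T hfor
      have hsq : ∑ e, γ e * γ e = 0 := by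
        have h1 : ∑ e, γ e * γ e = ∑ e, γ e * dl ends φ e := by
          apply Finset.sum_congr rfl
          intro e _
          by_cases he : e ∈ T
          · rw [hφ e he]
          · have : γ e = 0 := by simp only [hγ, dif_neg he]
            rw [this, zero_mul, zero_mul]
        rw [h1, sbp]
        simp [hball]
      have hz : ∀ e, γ e = 0 := by
        intro e
        have := (Finset.sum_eq_zero_iff_of_nonneg (fun e _ => mul_self_nonneg (γ e))).1 hsq e (Finset.mem_univ _)
        exact mul_self_eq_zero.1 this
      funext t
      rw [← hγy t, hz]
      rfl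
    have := LinearMap.finrank_le_finrank_of_injective hinj
    rw [Module.finrank_fintype_fun_eq_card, Module.finrank_fintype_fun_eq_card, Fintype.card_coe] at this
    exact this
  · -- a right inverse from connectivity
    have hex : ∀ v : {v : V // v ≠ i}, ∃ γ : E → ℤ, (∀ e, e ∉ T → γ e = 0) ∧
        ∀ u, boundary ends γ u = (if v.1 = u then 1 else 0) - (if i = u then 1 else 0) := by
      intro v
      rcases dichZ ends T v.1 i with ⟨K, hiK, hvK, hKc⟩ | hγ
      · exfalso
        rcases hcc K hKc with h0 | h1
        · rw [h0] at hiK; exact absurd hiK (Finset.notMem_empty _)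
        · rw [h1] at hvK; exact hvK (Finset.mem_univ _)
      · exact hγ
    choose γ hγS hγ using hex
    set G : ({v : V // v ≠ i} → ℤ) →ₗ[ℤ] (T → ℤ) :=
      Matrix.mulVecLin (fun (t : T) (v : {v : V // v ≠ i}) => γ v t.1) with hG
    set NT : (T → ℤ) →ₗ[ℤ] ({v : V // v ≠ i} → ℤ) :=
      Matrix.mulVecLin ((inc ends i).submatrix id (Subtype.val : T → E)) with hNT
    have hcomp : ∀ c, NT (G c) = c := by
      intro c
      funext v'
      show ∑ t : T, inc ends i v' t.1 * (∑ v, γ v t.1 * c v) = c v'
      simp only [Finset.mul_sum]
      rw [Finset.sum_comm]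
      have h1 : ∀ v : {v : V // v ≠ i}, ∑ t : T, inc ends i v' t.1 * (γ v t.1 * c v) =
          (if v = v' then 1 else 0) * c v := by
        intro v
        have h2 : ∑ t : T, inc ends i v' t.1 * (γ v t.1 * c v) =
            (∑ t : T, inc ends i v' t.1 * γ v t.1) * c v := by
          rw [Finset.sum_mul]
          apply Finset.sum_congr rfl
          intro t _
          ring
        rw [h2, inc_sum_image ends i (Subtype.val : T → E) hval (γ v)
          (fun e he => hγS v e (by rwa [image_val_univ] at he)) v', hγ v v'.1]
        have hi : ¬ i = v'.1 := fun h => v'.2 h.symm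
        rw [if_neg hi, sub_zero]
        by_cases hvv : v = v'
        · rw [if_pos hvv, if_pos (by rw [hvv])]
        · rw [if_neg hvv, if_neg (fun h => hvv (Subtype.ext h))]
      simp only [h1]
      simp
    have hinj : Function.Injective G := by
      intro c c' h
      rw [← hcomp c, ← hcomp c', h]
    have := LinearMap.finrank_le_finrank_of_injective hinj
    rw [Module.finrank_fintype_fun_eq_card, Module.finrank_fintype_fun_eq_card, Fintype.card_coe] at this
    exact this

/-- for edge sets of the right size, spanning trees are the connected ones -/
theorem spanningTree_iff (ends : E → V × V) (i : V) (S : Finset E)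
    (hS : S.card = Fintype.card {v : V // v ≠ i}) :
    IsSpanningTree ends S ↔ CutConn ends S := by
  classical
  constructor
  · intro h
    exact cutConn_of_connected ends S h.1
  · intro h
    refine ⟨connected_of_cutConn ends S ⟨i⟩ h, ?_⟩
    intro C' hC'
    have hC := circuit_of_sub ends S C' hC'
    have hCS : C'.map (Function.Embedding.subtype _) ⊆ S := by
      intro x hx
      rw [Finset.mem_map] at hx
      obtain ⟨y, _, rfl⟩ := hx
      exact y.2
    -- an enumeration of S
    have hcard : Fintype.card {v : V // v ≠ i} = Fintype.card S := by
      rw [Fintype.card_coe, hS]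
    let e := Fintype.equivOfCardEq hcard
    set f : {v : V // v ≠ i} → E := fun v => (e v).1 with hf
    have hfinj : Function.Injective f := fun a b hab => e.injective (Subtype.ext hab)
    have himg : univ.image f = S := by
      ext x
      simp only [Finset.mem_image, Finset.mem_univ, true_and, hf]
      constructor
      · rintro ⟨v, rfl⟩
        exact (e v).2
      · intro hx
        exact ⟨e.symm ⟨x, hx⟩, by simp⟩
    have h1 := det_zero_of_circuit ends i f hfinj _ hC (by rw [himg]; exact hCS)
    have h2 := det_sq_of_cutConn ends i f hfinj (by rw [himg]; exact h)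
    rw [h1] at h2
    norm_num at h2

open Classical in
/-- the weighted matrix-tree theorem -/
theorem matrix_tree (ends : E → V × V) (i : V) (w : E → ℤ) :
    ((inc ends i) * Matrix.diagonal w * (inc ends i).transpose).det =
      ∑ T ∈ univ.powerset.filter (fun T : Finset E => IsSpanningTree ends T), ∏ e ∈ T, w e := by
  rw [cb_grouped' ((inc ends i) * Matrix.diagonal w) (inc ends i).transpose
    (fun S => (∏ e ∈ S, w e) * (if CutConn ends S then 1 else 0))]
  · -- compare the two sums
    rw [← Finset.sum_filter_ne_zero]
    have hfilter : (powersetCard (Fintype.card {v : V // v ≠ i}) (univ : Finset E)).filter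
          (fun S => (∏ e ∈ S, w e) * (if CutConn ends S then (1 : ℤ) else 0) ≠ 0) ⊆
        univ.powerset.filter (fun T : Finset E => IsSpanningTree ends T) := by
      intro S hS
      rw [Finset.mem_filter, Finset.mem_powersetCard] at hS
      rw [Finset.mem_filter, Finset.mem_powerset]
      refine ⟨hS.1.1, ?_⟩
      rw [spanningTree_iff ends i S hS.1.2]
      by_contra hcc
      apply hS.2
      rw [if_neg hcc, mul_zero]
    rw [Finset.sum_subset hfilter]
    · apply Finset.sum_congr rfl
      intro T hT
      rw [Finset.mem_filter] at hT
      have hcard := card_of_spanningTree ends T hT.2 i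
      rw [if_pos ((spanningTree_iff ends i T hcard).1 hT.2), mul_one]
    · intro T hT hnot
      rw [Finset.mem_filter] at hT
      have hcard := card_of_spanningTree ends T hT.2 i
      rw [Finset.mem_filter, Finset.mem_powersetCard] at hnot
      by_contra h0
      exact hnot ⟨⟨Finset.subset_univ _, hcard⟩, h0⟩
  · intro S hS
    rw [Finset.mem_powersetCard] at hS
    have hcard : Fintype.card {v : V // v ≠ i} = Fintype.card S := by
      rw [Fintype.card_coe, hS.2]
    let e := Fintype.equivOfCardEq hcard
    set f : {v : V // v ≠ i} → E := fun v => (e v).1 with hf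
    have hfinj : Function.Injective f := fun a b hab => e.injective (Subtype.ext hab)
    have himg : univ.image f = S := by
      ext x
      simp only [Finset.mem_image, Finset.mem_univ, true_and, hf]
      constructor
      · rintro ⟨v, rfl⟩
        exact (e v).2
      · intro hx
        exact ⟨e.symm ⟨x, hx⟩, by simp⟩
    refine ⟨f, hfinj, himg, ?_⟩
    have h1 : ((inc ends i) * Matrix.diagonal w).submatrix id f =
        ((inc ends i).submatrix id f) * Matrix.diagonal (fun u => w (f u)) := by
      ext v u
      simp only [Matrix.submatrix_apply, id, Matrix.mul_diagonal]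
    have h2 : ((inc ends i).transpose).submatrix f id = ((inc ends i).submatrix id f).transpose := by
      ext u v
      rfl
    rw [h1, h2, Matrix.det_mul, Matrix.det_diagonal, Matrix.det_transpose]
    have h3 : ∏ u, w (f u) = ∏ e ∈ S, w e := by
      rw [← himg, Finset.prod_image (fun a _ b _ h => hfinj h)]
    rw [h3]
    by_cases hcc : CutConn ends S
    · rw [if_pos hcc]
      have := det_sq_of_cutConn ends i f hfinj (by rw [himg]; exact hcc)
      rw [mul_one]
      calc ∏ e ∈ S, w e = (∏ e ∈ S, w e) * (((inc ends i).submatrix id f).det ^ 2) := by rw [this, mul_one]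
        _ = _ := by ring
    · rw [if_neg hcc]
      have := det_zero_of_not_cutConn ends i f (by rw [himg]; exact hcc)
      rw [this]
      ring

end Groth.Agent.H9.MT
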