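import Mathlib
import Groth.Prelude.Def_W4c2conddiscmodels
import Groth.Agent.Lib.Helper9.Misc.MT3
import Groth.Agent.Lib.Helper9.Misc.Ctr1

/-! Helper9: matrix-tree auxiliary lemmas (end counts, weights, Laplacian entries) -/

set_option linter.unusedSectionVars false
set_option linter.unusedVariables false
set_option linter.unusedSimpArgs false

universe u v

namespace Groth.Agent.H9.MT

open LabGraph Groth.Agent.H9.PreAch Groth.Agent.H9.CircCop Groth.Agent.H9.SpanTree Finset
open Groth.Agent.H9.Ctr

variable {V E : Type u} [Fintype V] [Fintype E] [DecidableEq V] [DecidableEq E]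

/-- a loop is a circuit -/
theorem loop_circuit (ends : E → V × V) (e : E) (h : (ends e).1 = (ends e).2) : IsCircuit ends {e} := by
  refine ⟨Finset.singleton_nonempty e, ?_, ?_⟩
  · intro v
    rw [endCount_eq, Finset.sum_singleton]
    unfold cc
    rw [h]
    exact ⟨_, rfl⟩
  · intro C' hss hne
    rw [Finset.ssubset_singleton_iff] at hss
    rw [hss] at hne
    exact absurd hne Finset.not_nonempty_empty

theorem cc_of_joins (ends : E → V × V) (e : E) (v w : V) (h : ends e = (v, w) ∨ ends e = (w, v)) (u : V) :
    cc ends e u = (if v = u then 1 else 0) + (if w = u then 1 else 0) := by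
  unfold cc
  rcases h with h | h
  · rw [h]
  · rw [h]; exact add_comm _ _

/-- two parallel edges form a circuit -/
theorem pair_circuit (ends : E → V × V) (e e' : E) (hne : e ≠ e') (v w : V) (hvw : v ≠ w)
    (h : ends e = (v, w) ∨ ends e = (w, v)) (h' : ends e' = (v, w) ∨ ends e' = (w, v)) :
    IsCircuit ends {e, e'} := by
  refine ⟨⟨e, Finset.mem_insert_self _ _⟩, ?_, ?_⟩
  · intro u
    rw [endCount_eq, Finset.sum_pair hne, cc_of_joins ends e v w h u, cc_of_joins ends e' v w h' u]
    exact ⟨_, rfl⟩
  · intro C' hss hnon
    obtain ⟨x, hx⟩ := hnon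
    have hcard : C'.card = 1 := by
      have h1 := Finset.card_lt_card hss
      rw [Finset.card_pair hne] at h1
      have h2 : 0 < C'.card := Finset.card_pos.2 ⟨x, hx⟩
      omega
    rw [Finset.card_eq_one] at hcard
    obtain ⟨y, hy⟩ := hcard
    have hyin : y ∈ ({e, e'} : Finset E) := hss.subset (by rw [hy]; exact Finset.mem_singleton_self y)
    refine ⟨v, ?_⟩
    rw [hy, endCount_eq, Finset.sum_singleton]
    have hjoin : ends y = (v, w) ∨ ends y = (w, v) := by
      rw [Finset.mem_insert, Finset.mem_singleton] at hyin
      rcases hyin with rfl | rfl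
      · exact h
      · exact h'
    rw [cc_of_joins ends y v w hjoin v, if_pos rfl, if_neg (fun h => hvw h.symm)]
    decide

/-- in a spanning tree the number of edge-ends at a vertex is its number of neighbours -/
theorem endCount_eq_nbrCount (ends : E → V × V) (T : Finset E) (hT : IsSpanningTree ends T) (v : V) :
    endCount ends T v = nbrCount ends T v := by
  classical
  have hfor := forest_of_spanningTree ends T hT
  have hnoloop : ∀ e ∈ T, (ends e).1 ≠ (ends e).2 := by
    intro e he h
    exact hfor {e} (Finset.singleton_subset_iff.2 he) (loop_circuit ends e h)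
  -- end count as a cardinality
  have h1 : endCount ends T v = (T.filter (fun e => (ends e).1 = v ∨ (ends e).2 = v)).card := by
    rw [endCount_eq, Finset.card_filter]
    apply Finset.sum_congr rfl
    intro e he
    unfold cc
    have := hnoloop e he
    by_cases ha : (ends e).1 = v
    · have hb : (ends e).2 ≠ v := fun h => this (ha.trans h.symm)
      simp [ha, hb]
    · by_cases hb : (ends e).2 = v
      · simp [ha, hb]
      · simp [ha, hb]
  rw [h1]
  unfold nbrCount
  apply Finset.card_bij (fun e _ => if (ends e).1 = v then (ends e).2 else (ends e).1)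
  · intro e he
    rw [Finset.mem_filter] at he
    rw [Finset.mem_filter]
    refine ⟨Finset.mem_univ _, ?_, e, he.1, ?_⟩
    · by_cases ha : (ends e).1 = v
      · rw [if_pos ha]
        intro h
        exact hnoloop e he.1 (ha.trans h.symm)
      · rw [if_neg ha]; exact ha
    · by_cases ha : (ends e).1 = v
      · rw [if_pos ha]
        left
        rw [← ha]
      · rw [if_neg ha]
        right
        rcases he.2 with h | h
        · exact absurd h ha
        · rw [← h]
  · intro e he e' he' hoth
    rw [Finset.mem_filter] at he he'
    by_contra hne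
    set w := (if (ends e).1 = v then (ends e).2 else (ends e).1) with hw
    have hjoin : ∀ x ∈ T, ((ends x).1 = v ∨ (ends x).2 = v) →
        (ends x = (v, (if (ends x).1 = v then (ends x).2 else (ends x).1)) ∨
          ends x = ((if (ends x).1 = v then (ends x).2 else (ends x).1), v)) := by
      intro x hx hxv
      by_cases ha : (ends x).1 = v
      · rw [if_pos ha]; left; rw [← ha]
      · rw [if_neg ha]; right
        rcases hxv with h | h
        · exact absurd h ha
        · rw [← h]
    have hj1 := hjoin e he.1 he.2
    have hj2 := hjoin e' he'.1 he'.2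
    rw [← hoth] at hj2
    have hwv : v ≠ w := by
      intro h
      rw [hw] at h
      by_cases ha : (ends e).1 = v
      · rw [if_pos ha] at h
        exact hnoloop e he.1 (ha.trans h)
      · rw [if_neg ha] at h
        exact ha h.symm
    have hcirc := pair_circuit ends e e' hne v w hwv hj1 hj2
    apply hfor {e, e'} _ hcirc
    intro x hx
    rw [Finset.mem_insert, Finset.mem_singleton] at hx
    rcases hx with rfl | rfl
    · exact he.1
    · exact he'.1
  · intro w hw
    rw [Finset.mem_filter] at hw
    obtain ⟨_, hwv, e, heT, hjoin⟩ := hw
    refine ⟨e, ?_, ?_⟩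
    · rw [Finset.mem_filter]
      refine ⟨heT, ?_⟩
      rcases hjoin with h | h
      · left; rw [h]
      · right; rw [h]
    · rcases hjoin with h | h
      · rw [h]; simp
      · rw [h]; simp [hwv]

/-- the product of the edge weights of an edge set in terms of end counts -/
theorem prod_weights (ends : E → V × V) (β : V → ℤ) (T : Finset E) :
    ∏ e ∈ T, (β (ends e).1 * β (ends e).2) = ∏ v, β v ^ endCount ends T v := by
  classical
  have h1 : ∀ e, β (ends e).1 * β (ends e).2 = ∏ v, β v ^ cc ends e v := by
    intro e
    unfold cc
    simp only [pow_add, Finset.prod_mul_distrib]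
    congr 1
    · rw [Finset.prod_eq_single (ends e).1]
      · simp
      · intro b _ hb
        rw [if_neg (fun h => hb h.symm), pow_zero]
      · intro h; exact absurd (Finset.mem_univ _) h
    · rw [Finset.prod_eq_single (ends e).2]
      · simp
      · intro b _ hb
        rw [if_neg (fun h => hb h.symm), pow_zero]
      · intro h; exact absurd (Finset.mem_univ _) h
  simp only [h1]
  rw [Finset.prod_comm]
  apply Finset.prod_congr rfl
  intro v _
  rw [Finset.prod_pow_eq_pow_sum, endCount_eq]

/-- entries of the weighted Laplacian in terms of the matrix of the multiplicity function -/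
theorem laplacian_entry (ends : E → V × V) (β : V → ℤ) (hβ : IsMultFn ends β) (i : V)
    (v v' : {v : V // v ≠ i}) :
    ((inc ends i) * Matrix.diagonal (fun e => β (ends e).1 * β (ends e).2) * (inc ends i).transpose) v v' =
      - (β v.1 * mfMatrix ends β v.1 v'.1 * β v'.1) := by
  classical
  rw [Matrix.mul_apply]
  simp only [Matrix.mul_diagonal, Matrix.transpose_apply]
  by_cases hvv : v = v'
  · subst hvv
    have hd := mf_diag ends β hβ v.1
    have h2 : β v.1 * mfMatrix ends β v.1 v.1 * β v.1 = β v.1 * (mfMatrix ends β v.1 v.1 * β v.1) := by ring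
    rw [h2, hd]
    have h3 : ∑ u ∈ univ.erase v.1, β u * (edgeMult ends v.1 u : ℤ) =
        ∑ e, ∑ u ∈ univ.erase v.1, β u * (if ends e = (v.1, u) ∨ ends e = (u, v.1) then 1 else 0) := by
      rw [Finset.sum_comm]
      apply Finset.sum_congr rfl
      intro u _
      rw [edgeMult_eq_sum, Finset.mul_sum]
    rw [h3, mul_neg, neg_neg, Finset.mul_sum]
    apply Finset.sum_congr rfl
    intro e _
    unfold inc
    -- case analysis on the endpoints of e
    by_cases ha : (ends e).1 = v.1
    · by_cases hb : (ends e).2 = v.1
      · -- loop at v
        rw [if_pos hb, if_pos ha]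
        have : ∑ u ∈ univ.erase v.1, β u * (if ends e = (v.1, u) ∨ ends e = (u, v.1) then (1 : ℤ) else 0) = 0 := by
          apply Finset.sum_eq_zero
          intro u hu
          have hu' := Finset.ne_of_mem_erase hu
          rw [if_neg, mul_zero]
          rintro (h | h)
          · exact hu' (by rw [← hb, h])
          · exact hu' (by rw [← ha, h])
        rw [this]; ring
      · rw [if_neg hb, if_pos ha]
        have : ∑ u ∈ univ.erase v.1, β u * (if ends e = (v.1, u) ∨ ends e = (u, v.1) then (1 : ℤ) else 0) =
            β (ends e).2 := by
          rw [Finset.sum_eq_single (ends e).2]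
          · rw [if_pos (Or.inl (by rw [← ha])), mul_one]
          · intro u _ hu
            rw [if_neg, mul_zero]
            rintro (h | h)
            · exact hu (by rw [h])
            · exact hb (by rw [h])
          · intro h
            exact absurd (Finset.mem_erase.2 ⟨hb, Finset.mem_univ _⟩) h
        rw [this, ha]; ring
    · by_cases hb : (ends e).2 = v.1
      · rw [if_pos hb, if_neg ha]
        have : ∑ u ∈ univ.erase v.1, β u * (if ends e = (v.1, u) ∨ ends e = (u, v.1) then (1 : ℤ) else 0) =
            β (ends e).1 := by
          rw [Finset.sum_eq_single (ends e).1]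
          · rw [if_pos (Or.inr (by rw [← hb])), mul_one]
          · intro u _ hu
            rw [if_neg, mul_zero]
            rintro (h | h)
            · exact ha (by rw [h])
            · exact hu (by rw [h])
          · intro h
            exact absurd (Finset.mem_erase.2 ⟨ha, Finset.mem_univ _⟩) h
        rw [this, hb]; ring
      · rw [if_neg hb, if_neg ha]
        have : ∑ u ∈ univ.erase v.1, β u * (if ends e = (v.1, u) ∨ ends e = (u, v.1) then (1 : ℤ) else 0) = 0 := by
          apply Finset.sum_eq_zero
          intro u hu
          rw [if_neg, mul_zero]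
          rintro (h | h)
          · exact ha (by rw [h])
          · exact hb (by rw [h])
        rw [this]; ring
  · have hne : v.1 ≠ v'.1 := fun h => hvv (Subtype.ext h)
    rw [mf_off ends β hne, edgeMult_eq_sum, Finset.mul_sum, Finset.sum_mul, ← Finset.sum_neg_distrib]
    apply Finset.sum_congr rfl
    intro e _
    unfold inc
    by_cases h1 : ends e = (v.1, v'.1)
    · have ha : (ends e).1 = v.1 := by rw [h1]
      have hb : (ends e).2 = v'.1 := by rw [h1]
      rw [if_pos (Or.inl h1), ha, hb, if_neg (fun h => hne h.symm), if_pos rfl, if_pos rfl, if_neg hne]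
      ring
    · by_cases h2 : ends e = (v'.1, v.1)
      · have ha : (ends e).1 = v'.1 := by rw [h2]
        have hb : (ends e).2 = v.1 := by rw [h2]
        rw [if_pos (Or.inr h2), ha, hb, if_pos rfl, if_neg (fun h => hne h.symm), if_neg hne, if_pos rfl]
        ring
      · rw [if_neg (not_or.2 ⟨h1, h2⟩)]
        -- the product of incidences vanishes
        have : ((if (ends e).2 = v.1 then (1 : ℤ) else 0) - (if (ends e).1 = v.1 then 1 else 0)) *
            ((if (ends e).2 = v'.1 then (1 : ℤ) else 0) - (if (ends e).1 = v'.1 then 1 else 0)) = 0 := by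
          by_cases ha : (ends e).1 = v.1
          · by_cases hb : (ends e).2 = v.1
            · rw [if_pos ha, if_pos hb]; ring
            · have hb' : (ends e).2 ≠ v'.1 := fun h => h1 (Prod.ext ha h)
              have ha' : (ends e).1 ≠ v'.1 := fun h => hne (ha.symm.trans h)
              rw [if_neg hb', if_neg ha']; ring
          · by_cases hb : (ends e).2 = v.1
            · have ha' : (ends e).1 ≠ v'.1 := fun h => h2 (Prod.ext h hb)
              have hb' : (ends e).2 ≠ v'.1 := fun h => hne (hb.symm.trans h)
              rw [if_neg hb', if_neg ha']; ring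
            · rw [if_neg ha, if_neg hb]; ring
        calc _ = (((if (ends e).2 = v.1 then (1 : ℤ) else 0) - (if (ends e).1 = v.1 then 1 else 0)) *
            ((if (ends e).2 = v'.1 then (1 : ℤ) else 0) - (if (ends e).1 = v'.1 then 1 else 0))) *
              (β (ends e).1 * β (ends e).2) := by ring
          _ = _ := by rw [this]; ring

end Groth.Agent.H9.MT
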