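import Mathlib
import Groth.Prelude.Def_W4c2conddiscmodels
import Groth.Agent.Lib.Helper9.Misc.MT4

/-! Helper9: kernel of the matrix of a multiplicity function; Bezout for the reduced multiplicities -/

set_option linter.unusedSectionVars false
set_option linter.unusedVariables false
set_option linter.unusedSimpArgs false

universe u v

namespace Groth.Agent.H9.MT

open LabGraph Groth.Agent.H9.PreAch Groth.Agent.H9.CircCop Groth.Agent.H9.SpanTree Finset
open Groth.Agent.H9.Ctr

variable {V E : Type u} [Fintype V] [Fintype E] [DecidableEq V] [DecidableEq E]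

theorem mf_off_nonneg (ends : E → V × V) (β : V → ℤ) {v w : V} (h : v ≠ w) :
    0 ≤ mfMatrix ends β v w := by
  rw [mf_off ends β h]; exact Int.natCast_nonneg _

theorem mf_pos_of_edge (ends : E → V × V) (β : V → ℤ) (e : E) {v w : V} (hvw : v ≠ w)
    (h : ends e = (v, w) ∨ ends e = (w, v)) : 0 < mfMatrix ends β v w := by
  rw [mf_off ends β hvw]
  have : 0 < edgeMult ends v w := by
    unfold edgeMult
    exact Finset.card_pos.2 ⟨e, by rw [Finset.mem_filter]; exact ⟨Finset.mem_univ _, h⟩⟩
  exact_mod_cast this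

theorem mf_symm' (ends : E → V × V) (β : V → ℤ) (v w : V) :
    mfMatrix ends β v w = mfMatrix ends β w v := by
  by_cases h : v = w
  · rw [h]
  · exact mf_symm ends β h

/-- `β α = 0` -/
theorem mf_col (ends : E → V × V) (β : V → ℤ) (hβ : IsMultFn ends β) (w : V) :
    ∑ v, β v * mfMatrix ends β v w = 0 := by
  rw [← mf_row ends β hβ w]
  apply Finset.sum_congr rfl
  intro v _
  rw [mf_symm' ends β v w, mul_comm]

/-- the image of `α` lies in the kernel of `β` -/
theorem beta_alpha (ends : E → V × V) (β : V → ℤ) (hβ : IsMultFn ends β) (x : V → ℤ) :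
    ∑ v, (∑ w, mfMatrix ends β v w * x w) * β v = 0 := by
  have : ∑ v, (∑ w, mfMatrix ends β v w * x w) * β v = ∑ w, x w * ∑ v, β v * mfMatrix ends β v w := by
    simp only [Finset.sum_mul, Finset.mul_sum]
    rw [Finset.sum_comm]
    apply Finset.sum_congr rfl
    intro w _
    apply Finset.sum_congr rfl
    intro v _
    ring
  rw [this]
  apply Finset.sum_eq_zero
  intro w _
  rw [mf_col ends β hβ w, mul_zero]

/-- kernel vectors of `α` are proportional to `β` -/
theorem ker_prop (ends : E → V × V) (β : V → ℤ) (hβ : IsMultFn ends β) (hG : LabGraph.Connected ends)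
    (x : V → ℤ) (hx : ∀ v, ∑ w, mfMatrix ends β v w * x w = 0) : ∀ v w, x v * β w = x w * β v := by
  classical
  obtain ⟨hne, hconn⟩ := hG
  have hpos : ∀ v, 0 < β v := fun v => (hβ v).1
  obtain ⟨v0, -, hv0⟩ := Finset.exists_max_image (Finset.univ : Finset V) (fun v => (x v : ℚ) / β v)
    Finset.univ_nonempty
  have hmax : ∀ w, x w * β v0 ≤ x v0 * β w := by
    intro w
    have h := hv0 w (Finset.mem_univ _)
    have h1 : (0:ℚ) < β w := by exact_mod_cast hpos w
    have h2 : (0:ℚ) < β v0 := by exact_mod_cast hpos v0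
    rw [div_le_div_iff₀ h1 h2] at h
    exact_mod_cast h
  set K := Finset.univ.filter (fun v => x v * β v0 = x v0 * β v) with hK
  have hstep : ∀ v ∈ K, ∀ w, v ≠ w → 0 < mfMatrix ends β v w → w ∈ K := by
    intro v hv w hvw hpos'
    rw [hK, Finset.mem_filter] at hv ⊢
    refine ⟨Finset.mem_univ _, ?_⟩
    have hsum : ∑ u, mfMatrix ends β v u * (x u * β v0 - x v0 * β u) = 0 := by
      have h1 := hx v
      have h2 := mf_row ends β hβ v
      calc ∑ u, mfMatrix ends β v u * (x u * β v0 - x v0 * β u)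
          = β v0 * ∑ u, mfMatrix ends β v u * x u - x v0 * ∑ u, mfMatrix ends β v u * β u := by
            rw [Finset.mul_sum, Finset.mul_sum, ← Finset.sum_sub_distrib]
            apply Finset.sum_congr rfl; intro u _; ring
        _ = 0 := by rw [h1, h2]; ring
    have hnonpos : ∀ u ∈ Finset.univ, mfMatrix ends β v u * (x u * β v0 - x v0 * β u) ≤ 0 := by
      intro u _
      by_cases huv : v = u
      · subst huv; rw [hv.2, sub_self, mul_zero]
      · exact mul_nonpos_of_nonneg_of_nonpos (mf_off_nonneg ends β huv) (by linarith [hmax u])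
    have := (Finset.sum_eq_zero_iff_of_nonpos hnonpos).1 hsum w (Finset.mem_univ _)
    rcases mul_eq_zero.1 this with h | h
    · omega
    · linarith
  have hKcut : ∀ e ∈ (Finset.univ : Finset E), ((ends e).1 ∈ K ↔ (ends e).2 ∈ K) := by
    intro e _
    by_cases hl : (ends e).1 = (ends e).2
    · rw [hl]
    · constructor
      · intro h; exact hstep _ h _ hl (mf_pos_of_edge ends β e hl (Or.inl rfl))
      · intro h; exact hstep _ h _ (Ne.symm hl) (mf_pos_of_edge ends β e (Ne.symm hl) (Or.inr rfl))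
  have hKall := cutConn_univ ends ⟨hne, hconn⟩ K hKcut
  have hv0K : v0 ∈ K := by rw [hK, Finset.mem_filter]; exact ⟨Finset.mem_univ _, rfl⟩
  rcases hKall with h | h
  · rw [h] at hv0K; exact absurd hv0K (Finset.notMem_empty _)
  · have hall : ∀ v, x v * β v0 = x v0 * β v := by
      intro v
      have : v ∈ K := by rw [h]; exact Finset.mem_univ _
      rw [hK, Finset.mem_filter] at this
      exact this.2
    intro v w
    have h0 : β v0 ≠ 0 := (hpos v0).ne'
    apply mul_right_cancel₀ h0
    calc x v * β w * β v0 = (x v * β v0) * β w := by ring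
      _ = x v0 * β v * β w := by rw [hall v]
      _ = (x w * β v0) * β v := by rw [hall w]; ring
      _ = x w * β v * β v0 := by ring

/-- the gcd of the multiplicities -/
noncomputable def mm (β : V → ℤ) : ℤ := Finset.univ.gcd β

/-- the reduced multiplicities -/
noncomputable def bp (β : V → ℤ) (v : V) : ℤ := β v / mm β

theorem mm_mul_bp (β : V → ℤ) (v : V) : mm β * bp β v = β v :=
  Int.mul_ediv_cancel' (Finset.gcd_dvd (Finset.mem_univ v))

theorem mm_pos (β : V → ℤ) (i : V) (hi : 0 < β i) : 0 < mm β := by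
  have h1 : 0 ≤ mm β := Int.nonneg_of_normalize_eq_self Finset.normalize_gcd
  have h2 : mm β ≠ 0 := ne_zero_of_dvd_ne_zero hi.ne' (Finset.gcd_dvd (Finset.mem_univ i))
  omega

theorem bp_pos (β : V → ℤ) (hpos : ∀ v, 0 < β v) (v : V) : 0 < bp β v := by
  have h1 := mm_pos β v (hpos v)
  have h2 := mm_mul_bp β v
  have h3 := hpos v
  rw [← h2] at h3
  exact (mul_pos_iff_of_pos_left h1).1 h3

theorem bezout (β : V → ℤ) (i : V) (hi : 0 < β i) : ∃ c : V → ℤ, ∑ v, c v * bp β v = 1 := by
  obtain ⟨g, hg⟩ := Finset.gcd_eq_sum_mul Finset.univ β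
  refine ⟨g, ?_⟩
  have hm := mm_pos β i hi
  apply mul_left_cancel₀ hm.ne'
  rw [mul_one, Finset.mul_sum]
  change _ = Finset.univ.gcd β
  rw [hg]
  apply Finset.sum_congr rfl
  intro v _
  rw [← mm_mul_bp β v]; ring

/-- `α β' = 0` -/
theorem mf_row_bp (ends : E → V × V) (β : V → ℤ) (hβ : IsMultFn ends β) (v : V) :
    ∑ w, mfMatrix ends β v w * bp β w = 0 := by
  have hm := mm_pos β v (hβ v).1
  apply mul_left_cancel₀ hm.ne'
  rw [mul_zero, Finset.mul_sum, ← mf_row ends β hβ v]
  apply Finset.sum_congr rfl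
  intro w _
  rw [← mm_mul_bp β w]; ring

/-- the kernel of `α` is spanned by `β'` -/
theorem ker_mul (ends : E → V × V) (β : V → ℤ) (hβ : IsMultFn ends β) (hG : LabGraph.Connected ends)
    (x : V → ℤ) (hx : ∀ v, ∑ w, mfMatrix ends β v w * x w = 0) : ∃ k : ℤ, ∀ v, x v = k * bp β v := by
  have hprop := ker_prop ends β hβ hG x hx
  obtain ⟨⟨i⟩, _⟩ := hG
  have hm := mm_pos β i (hβ i).1
  obtain ⟨c, hc⟩ := bezout β i (hβ i).1
  have hprop' : ∀ v w, x v * bp β w = x w * bp β v := by
    intro v w
    apply mul_left_cancel₀ hm.ne'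
    have := hprop v w
    rw [← mm_mul_bp β w, ← mm_mul_bp β v] at this
    linarith
  refine ⟨∑ w, c w * x w, ?_⟩
  intro v
  calc x v = x v * ∑ w, c w * bp β w := by rw [hc, mul_one]
    _ = ∑ w, c w * (x v * bp β w) := by
      rw [Finset.mul_sum]; apply Finset.sum_congr rfl; intro w _; ring
    _ = ∑ w, c w * (x w * bp β v) := by
      apply Finset.sum_congr rfl; intro w _; rw [hprop' v w]
    _ = (∑ w, c w * x w) * bp β v := by
      rw [Finset.sum_mul]; apply Finset.sum_congr rfl; intro w _; ring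

end Groth.Agent.H9.MT
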