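import Mathlib
import Groth.Prelude.Def_W4c2conddiscmodels
import Groth.Agent.Lib.Helper9.Misc.MT5a

/-! Helper9: the lattice index formula |det A| = b * |Phi| * b for the component group of a multiplicity function -/

set_option linter.unusedSectionVars false
set_option linter.unusedVariables false
set_option linter.unusedSimpArgs false

universe u v

namespace Groth.Agent.H9.MT

open LabGraph Groth.Agent.H9.PreAch Groth.Agent.H9.CircCop Groth.Agent.H9.SpanTree Finset
open Groth.Agent.H9.Ctr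

/-- the index of the image of a nondegenerate square integer matrix -/
theorem index_range_mat {n : Type*} [Fintype n] [DecidableEq n] (A : Matrix n n ℤ) (hA : A.det ≠ 0) :
    (Matrix.mulVecLin A).toAddMonoidHom.range.index = A.det.natAbs := by
  have hinj : Function.Injective (Matrix.mulVecLin A) := by
    rw [← LinearMap.ker_eq_bot, LinearMap.ker_eq_bot']
    intro x hx
    exact Matrix.eq_zero_of_mulVec_eq_zero hA hx
  let e : (n → ℤ) ≃ₗ[ℤ] LinearMap.range (Matrix.mulVecLin A) := LinearEquiv.ofInjective _ hinj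
  have h := Submodule.natAbs_det_equiv (LinearMap.range (Matrix.mulVecLin A)) e
  have h2 : (LinearMap.range (Matrix.mulVecLin A)).subtype ∘ₗ
      AddMonoidHom.toIntLinearMap (e : (n → ℤ) →+ LinearMap.range (Matrix.mulVecLin A)) =
        Matrix.toLin' A := by
    ext x
    rfl
  rw [h2, LinearMap.det_toLin'] at h
  rw [h]
  rfl

theorem index_ker_zmod {G : Type*} [AddCommGroup G] (b : ℕ) (ψ : G →+ ZMod b)
    (h : Function.Surjective ψ) : ψ.ker.index = b := by
  rw [AddSubgroup.index_ker, AddMonoidHom.range_eq_top.2 h, AddSubgroup.card_top, Nat.card_zmod]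

variable {V E : Type u} [Fintype V] [Fintype E] [DecidableEq V] [DecidableEq E]

/-- restriction to the complement of `i` -/
def res (i : V) : (V → ℤ) →+ ({v : V // v ≠ i} → ℤ) where
  toFun x := fun v => x v.1
  map_zero' := rfl
  map_add' _ _ := rfl

theorem res_apply (i : V) (x : V → ℤ) (v : {v : V // v ≠ i}) : res i x v = x v.1 := rfl

/-- evaluation at `i` -/
def evalHom (i : V) : (V → ℤ) →+ ℤ where
  toFun x := x i
  map_zero' := rfl
  map_add' _ _ := rfl

theorem evalHom_apply (i : V) (x : V → ℤ) : evalHom i x = x i := rfl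

/-- extension by zero -/
def ext0 (i : V) (y : {v : V // v ≠ i} → ℤ) : V → ℤ := fun v => if h : v = i then 0 else y ⟨v, h⟩

theorem ext0_i (i : V) (y : {v : V // v ≠ i} → ℤ) : ext0 i y i = 0 := dif_pos rfl

theorem ext0_ne (i : V) (y : {v : V // v ≠ i} → ℤ) (v : {v : V // v ≠ i}) : ext0 i y v.1 = y v := by
  unfold ext0
  rw [dif_neg v.2]

theorem res_ext0 (i : V) (y : {v : V // v ≠ i} → ℤ) : res i (ext0 i y) = y := by
  ext v
  rw [res_apply, ext0_ne]

/-- the reduced matrix -/
def redMat (ends : E → V × V) (β : V → ℤ) (i : V) : Matrix {v : V // v ≠ i} {v : V // v ≠ i} ℤ :=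
  fun v w => mfMatrix ends β v.1 w.1

/-- multiplication by `α` -/
def alphaHom (ends : E → V × V) (β : V → ℤ) : (V → ℤ) →+ (V → ℤ) :=
  (Matrix.mulVecLin (mfMatrix ends β)).toAddMonoidHom

theorem alphaHom_apply (ends : E → V × V) (β : V → ℤ) (x : V → ℤ) (v : V) :
    alphaHom ends β x v = ∑ w, mfMatrix ends β v w * x w := rfl

/-- `res ∘ α` -/
def fHom (ends : E → V × V) (β : V → ℤ) (i : V) : (V → ℤ) →+ ({v : V // v ≠ i} → ℤ) :=
  (res i).comp (alphaHom ends β)

theorem fHom_apply (ends : E → V × V) (β : V → ℤ) (i : V) (x : V → ℤ) (v : {v : V // v ≠ i}) :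
    fHom ends β i x v = ∑ w, mfMatrix ends β v.1 w * x w := rfl

theorem fHom_of_zero (ends : E → V × V) (β : V → ℤ) (i : V) (x : V → ℤ) (hx : x i = 0) :
    fHom ends β i x = (Matrix.mulVecLin (redMat ends β i)).toAddMonoidHom (res i x) := by
  ext v
  rw [fHom_apply, Fintype.sum_eq_add_sum_subtype_ne _ i, hx, mul_zero, zero_add]
  rfl

theorem map_Zi (ends : E → V × V) (β : V → ℤ) (i : V) :
    (evalHom i).ker.map (fHom ends β i) = (Matrix.mulVecLin (redMat ends β i)).toAddMonoidHom.range := by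
  ext y
  simp only [AddSubgroup.mem_map, AddMonoidHom.mem_ker, AddMonoidHom.mem_range]
  constructor
  · rintro ⟨x, hx, rfl⟩
    exact ⟨res i x, (fHom_of_zero ends β i x hx).symm⟩
  · rintro ⟨y', rfl⟩
    refine ⟨ext0 i y', ext0_i i y', ?_⟩
    rw [fHom_of_zero ends β i _ (ext0_i i y'), res_ext0]

/-- the kernel of `res ∘ α` is the kernel of `α` -/
theorem fHom_ker (ends : E → V × V) (β : V → ℤ) (hβ : IsMultFn ends β) (i : V) (x : V → ℤ)
    (h : fHom ends β i x = 0) : ∀ v, ∑ w, mfMatrix ends β v w * x w = 0 := by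
  have h1 : ∀ v : {v : V // v ≠ i}, ∑ w, mfMatrix ends β v.1 w * x w = 0 := by
    intro v
    rw [← fHom_apply, h]
    rfl
  intro v
  by_cases hv : v = i
  · subst hv
    have h2 := beta_alpha ends β hβ x
    rw [Fintype.sum_eq_add_sum_subtype_ne _ v] at h2
    have h3 : ∑ u : {u : V // u ≠ v}, (∑ w, mfMatrix ends β u.1 w * x w) * β u.1 = 0 := by
      apply Finset.sum_eq_zero
      intro u _
      rw [h1 u, zero_mul]
    rw [h3, add_zero] at h2
    rcases mul_eq_zero.1 h2 with h4 | h4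
    · exact h4
    · exact absurd h4 (hβ v).1.ne'
  · exact h1 ⟨v, hv⟩

/-- the character `x ↦ x i mod b` -/
def chi (b : ℕ) (i : V) : (V → ℤ) →+ ZMod b := (Int.castAddHom (ZMod b)).comp (evalHom i)

theorem chi_apply (b : ℕ) (i : V) (x : V → ℤ) : chi b i x = ((x i : ℤ) : ZMod b) := rfl

theorem mem_ker_chi (b : ℕ) (i : V) (x : V → ℤ) : x ∈ (chi b i).ker ↔ (b : ℤ) ∣ x i := by
  rw [AddMonoidHom.mem_ker, chi_apply]
  exact CharP.intCast_eq_zero_iff (ZMod b) b (x i)

theorem chi_surj (b : ℕ) (i : V) : Function.Surjective (chi b i) := by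
  intro t
  obtain ⟨t', rfl⟩ := ZMod.intCast_surjective t
  refine ⟨Pi.single i t', ?_⟩
  rw [chi_apply, Pi.single_eq_same]

theorem sup_eq (ends : E → V × V) (β : V → ℤ) (hβ : IsMultFn ends β) (hG : LabGraph.Connected ends) (i : V) :
    (evalHom i).ker ⊔ (fHom ends β i).ker = (chi (bp β i).natAbs i).ker := by
  have hbpos := bp_pos β (fun v => (hβ v).1) i
  have hb : (((bp β i).natAbs : ℕ) : ℤ) = bp β i := Int.natAbs_of_nonneg hbpos.le
  apply le_antisymm
  · apply sup_le
    · intro x hx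
      rw [AddMonoidHom.mem_ker, evalHom_apply] at hx
      rw [mem_ker_chi, hx]
      exact dvd_zero _
    · intro x hx
      rw [AddMonoidHom.mem_ker] at hx
      obtain ⟨k, hk⟩ := ker_mul ends β hβ hG x (fHom_ker ends β hβ i x hx)
      rw [mem_ker_chi, hb, hk i]
      exact dvd_mul_left _ _
  · intro x hx
    rw [mem_ker_chi, hb] at hx
    obtain ⟨k, hk⟩ := hx
    rw [AddSubgroup.mem_sup]
    refine ⟨x - k • bp β, ?_, k • bp β, ?_, by abel⟩
    · rw [AddMonoidHom.mem_ker, evalHom_apply]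
      simp only [Pi.sub_apply, Pi.smul_apply, smul_eq_mul]
      rw [hk]; ring
    · rw [AddMonoidHom.mem_ker]
      ext v
      rw [fHom_apply]
      simp only [Pi.smul_apply, smul_eq_mul, Pi.zero_apply]
      have := mf_row_bp ends β hβ v.1
      calc ∑ w, mfMatrix ends β v.1 w * (k * bp β w) = k * ∑ w, mfMatrix ends β v.1 w * bp β w := by
            rw [Finset.mul_sum]; apply Finset.sum_congr rfl; intro w _; ring
        _ = 0 := by rw [this, mul_zero]

/-- inclusion of the kernel of `β` -/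
def iotaHom (β : V → ℤ) : ↥(LinearMap.ker (betaHom β)) →+ (V → ℤ) :=
  (LinearMap.ker (betaHom β)).subtype.toAddMonoidHom

theorem iotaHom_apply (β : V → ℤ) (k : ↥(LinearMap.ker (betaHom β))) : iotaHom β k = k.1 := rfl

theorem mem_ker_beta (β : V → ℤ) (x : V → ℤ) : x ∈ LinearMap.ker (betaHom β) ↔ ∑ v, x v * β v = 0 := by
  rw [LinearMap.mem_ker]
  unfold betaHom
  rw [Fintype.linearCombination_apply]
  simp only [smul_eq_mul]

def gHom (β : V → ℤ) (i : V) : ↥(LinearMap.ker (betaHom β)) →+ ({v : V // v ≠ i} → ℤ) :=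
  (res i).comp (iotaHom β)

theorem gHom_apply (β : V → ℤ) (i : V) (k : ↥(LinearMap.ker (betaHom β))) (v : {v : V // v ≠ i}) :
    gHom β i k v = k.1 v.1 := rfl

theorem gHom_inj (β : V → ℤ) (i : V) (hi : 0 < β i) : Function.Injective (gHom β i) := by
  rw [injective_iff_map_eq_zero]
  intro k hk
  have h1 : ∀ v : {v : V // v ≠ i}, k.1 v.1 = 0 := by
    intro v
    rw [← gHom_apply, hk]
    rfl
  have h2 := (mem_ker_beta β k.1).1 k.2
  rw [Fintype.sum_eq_add_sum_subtype_ne _ i] at h2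
  have h3 : ∑ u : {u : V // u ≠ i}, k.1 u.1 * β u.1 = 0 := by
    apply Finset.sum_eq_zero
    intro u _
    rw [h1 u, zero_mul]
  rw [h3, add_zero] at h2
  have h4 : k.1 i = 0 := by
    rcases mul_eq_zero.1 h2 with h | h
    · exact h
    · exact absurd h hi.ne'
  apply Subtype.ext
  funext v
  by_cases hv : v = i
  · rw [hv, h4]; rfl
  · exact h1 ⟨v, hv⟩

/-- the subgroup `im α` of `ker β` -/
def SS (ends : E → V × V) (β : V → ℤ) : AddSubgroup ↥(LinearMap.ker (betaHom β)) :=
  ((LinearMap.range (Matrix.mulVecLin (mfMatrix ends β))).comap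
    (LinearMap.ker (betaHom β)).subtype).toAddSubgroup

theorem card_compGrp (ends : E → V × V) (β : V → ℤ) :
    Nat.card (CompGrp ends β) = (SS ends β).index := rfl

theorem mem_SS (ends : E → V × V) (β : V → ℤ) (k : ↥(LinearMap.ker (betaHom β))) :
    k ∈ SS ends β ↔ ∃ x, alphaHom ends β x = k.1 := by
  unfold SS
  rw [Submodule.mem_toAddSubgroup, Submodule.mem_comap, LinearMap.mem_range]
  rfl

theorem map_SS (ends : E → V × V) (β : V → ℤ) (hβ : IsMultFn ends β) (i : V) :
    (SS ends β).map (gHom β i) = (fHom ends β i).range := by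
  ext y
  simp only [AddSubgroup.mem_map, AddMonoidHom.mem_range]
  constructor
  · rintro ⟨k, hk, rfl⟩
    rw [mem_SS] at hk
    obtain ⟨x, hx⟩ := hk
    refine ⟨x, ?_⟩
    ext v
    rw [gHom_apply, ← hx]
    rfl
  · rintro ⟨x, rfl⟩
    have hmem : alphaHom ends β x ∈ LinearMap.ker (betaHom β) := by
      rw [mem_ker_beta]
      exact beta_alpha ends β hβ x
    refine ⟨⟨alphaHom ends β x, hmem⟩, ?_, ?_⟩
    · rw [mem_SS]
      exact ⟨x, rfl⟩
    · rfl

/-- the linear form `y ↦ Σ_{w ≠ i} β'_w y_w` -/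
noncomputable def linHom (β : V → ℤ) (i : V) : ({v : V // v ≠ i} → ℤ) →+ ℤ where
  toFun y := ∑ w : {v : V // v ≠ i}, bp β w.1 * y w
  map_zero' := by simp
  map_add' y y' := by simp [mul_add, Finset.sum_add_distrib]

theorem linHom_apply (β : V → ℤ) (i : V) (y : {v : V // v ≠ i} → ℤ) :
    linHom β i y = ∑ w : {v : V // v ≠ i}, bp β w.1 * y w := rfl

noncomputable def psi (b : ℕ) (β : V → ℤ) (i : V) : ({v : V // v ≠ i} → ℤ) →+ ZMod b :=
  (Int.castAddHom (ZMod b)).comp (linHom β i)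

theorem psi_apply (b : ℕ) (β : V → ℤ) (i : V) (y : {v : V // v ≠ i} → ℤ) :
    psi b β i y = ((linHom β i y : ℤ) : ZMod b) := rfl

theorem mem_ker_psi (b : ℕ) (β : V → ℤ) (i : V) (y : {v : V // v ≠ i} → ℤ) :
    y ∈ (psi b β i).ker ↔ (b : ℤ) ∣ linHom β i y := by
  rw [AddMonoidHom.mem_ker, psi_apply]
  exact CharP.intCast_eq_zero_iff (ZMod b) b _

theorem psi_surj (β : V → ℤ) (hpos : ∀ v, 0 < β v) (i : V) :
    Function.Surjective (psi (bp β i).natAbs β i) := by
  have hbpos := bp_pos β hpos i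
  have hb : (((bp β i).natAbs : ℕ) : ℤ) = bp β i := Int.natAbs_of_nonneg hbpos.le
  obtain ⟨c, hc⟩ := bezout β i (hpos i)
  intro t
  obtain ⟨t', rfl⟩ := ZMod.intCast_surjective t
  refine ⟨fun w => t' * c w.1, ?_⟩
  rw [psi_apply, ZMod.intCast_eq_intCast_iff_dvd_sub, hb, linHom_apply]
  rw [Fintype.sum_eq_add_sum_subtype_ne _ i] at hc
  refine ⟨t' * c i, ?_⟩
  have : ∑ w : {v : V // v ≠ i}, bp β w.1 * (t' * c w.1) = t' * ∑ w : {v : V // v ≠ i}, c w.1 * bp β w.1 := by
    rw [Finset.mul_sum]; apply Finset.sum_congr rfl; intro w _; ring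
  rw [this]
  have h2 : ∑ w : {v : V // v ≠ i}, c w.1 * bp β w.1 = 1 - c i * bp β i := by linarith
  rw [h2]; ring

theorem range_gHom (β : V → ℤ) (hpos : ∀ v, 0 < β v) (i : V) :
    (gHom β i).range = (psi (bp β i).natAbs β i).ker := by
  have hbpos := bp_pos β hpos i
  have hb : (((bp β i).natAbs : ℕ) : ℤ) = bp β i := Int.natAbs_of_nonneg hbpos.le
  have hm := mm_pos β i (hpos i)
  ext y
  rw [AddMonoidHom.mem_range, mem_ker_psi, hb, linHom_apply]
  constructor
  · rintro ⟨k, rfl⟩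
    have h2 := (mem_ker_beta β k.1).1 k.2
    rw [Fintype.sum_eq_add_sum_subtype_ne _ i] at h2
    refine ⟨- k.1 i, ?_⟩
    apply mul_left_cancel₀ hm.ne'
    have h3 : mm β * ∑ w : {v : V // v ≠ i}, bp β w.1 * gHom β i k w =
        ∑ u : {u : V // u ≠ i}, k.1 u.1 * β u.1 := by
      rw [Finset.mul_sum]; apply Finset.sum_congr rfl; intro w _
      rw [gHom_apply, ← mm_mul_bp β w.1]; ring
    rw [h3]
    have h4 : mm β * (bp β i * - k.1 i) = - (k.1 i * β i) := by
      rw [← mm_mul_bp β i]; ring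
    rw [h4]; linarith
  · rintro ⟨t, ht⟩
    have hmem : (fun v => if h : v = i then -t else y ⟨v, h⟩) ∈ LinearMap.ker (betaHom β) := by
      rw [mem_ker_beta, Fintype.sum_eq_add_sum_subtype_ne _ i]
      rw [dif_pos rfl]
      have h3 : ∑ u : {u : V // u ≠ i}, (if h : u.1 = i then -t else y ⟨u.1, h⟩) * β u.1 =
          mm β * ∑ w : {v : V // v ≠ i}, bp β w.1 * y w := by
        rw [Finset.mul_sum]; apply Finset.sum_congr rfl; intro w _
        rw [dif_neg w.2, ← mm_mul_bp β w.1]; ring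
      rw [h3, ht, ← mm_mul_bp β i]; ring
    refine ⟨⟨_, hmem⟩, ?_⟩
    ext v
    rw [gHom_apply]
    simp only
    rw [dif_neg v.2]

/-- the lattice index formula -/
theorem det_eq (ends : E → V × V) (β : V → ℤ) (hβ : IsMultFn ends β) (hG : LabGraph.Connected ends)
    (i : V) (hdet : (redMat ends β i).det ≠ 0) :
    (redMat ends β i).det.natAbs =
      (bp β i).natAbs * (Nat.card (CompGrp ends β) * (bp β i).natAbs) := by
  have hpos : ∀ v, 0 < β v := fun v => (hβ v).1
  rw [← index_range_mat _ hdet, ← map_Zi, AddSubgroup.index_map, sup_eq ends β hβ hG i,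
    index_ker_zmod _ _ (chi_surj _ i), ← map_SS ends β hβ i,
    AddSubgroup.index_map_of_injective (SS ends β) (gHom_inj β i (hpos i)), range_gHom β hpos i,
    index_ker_zmod _ _ (psi_surj β hpos i), card_compGrp]

end Groth.Agent.H9.MT
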