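import Mathlib
import Groth.Prelude.Def_W4c2conddiscmodels
import Groth.Agent.Lib.Helper9.Misc.MT5b

/-! Helper9: order of the component group of a multigraph with multiplicity function via spanning trees (S14803) -/

set_option linter.unusedSectionVars false
set_option linter.unusedVariables false
set_option linter.unusedSimpArgs false

universe u v

namespace Groth.Agent.H9.MT

open LabGraph Groth.Agent.H9.PreAch Groth.Agent.H9.CircCop Groth.Agent.H9.SpanTree Finset
open Groth.Agent.H9.Ctr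

variable {V E : Type u} [Fintype V] [Fintype E] [DecidableEq V] [DecidableEq E]

open Classical in
theorem main (ends : E → V × V) (β : V → ℤ) (hβ : IsMultFn ends β) (hG : LabGraph.Connected ends) :
    (Nat.card (CompGrp ends β) : ℚ) =
      ((univ.gcd β : ℤ) : ℚ) ^ 2 *
        ∑ T ∈ univ.powerset.filter (fun T : Finset E => IsSpanningTree ends T),
          ∏ v : V, ((β v : ℚ) ^ ((nbrCount ends T v : ℤ) - 2)) := by
  obtain ⟨i⟩ := hG.1
  have hpos : ∀ v, 0 < β v := fun v => (hβ v).1
  set w : E → ℤ := fun e => β (ends e).1 * β (ends e).2 with hw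
  set L := inc ends i * Matrix.diagonal w * (inc ends i).transpose with hL
  set A := redMat ends β i with hA
  set D : Matrix {v : V // v ≠ i} {v : V // v ≠ i} ℤ := Matrix.diagonal (fun v => β v.1) with hD
  have hLeq : L = -(D * A * D) := by
    ext v v'
    rw [hL, laplacian_entry ends β hβ i v v', Matrix.neg_apply, hD, Matrix.mul_diagonal, Matrix.diagonal_mul]
    rfl
  have hdetL : L.det = (-1) ^ Fintype.card {v : V // v ≠ i} * ((∏ v : {v : V // v ≠ i}, β v.1) ^ 2 * A.det) := by
    rw [hLeq, Matrix.det_neg, Matrix.det_mul, Matrix.det_mul, hD, Matrix.det_diagonal]; ring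
  have htree : L.det = ∑ T ∈ univ.powerset.filter (fun T : Finset E => IsSpanningTree ends T),
      ∏ v, β v ^ nbrCount ends T v := by
    rw [hL, matrix_tree ends i w]
    apply Finset.sum_congr rfl
    intro T hT
    rw [Finset.mem_filter] at hT
    rw [hw]
    simp only
    rw [prod_weights ends β T]
    apply Finset.prod_congr rfl
    intro v _
    rw [endCount_eq_nbrCount ends T hT.2 v]
  have hLpos : 0 < L.det := by
    rw [htree]
    apply Finset.sum_pos
    · intro T _; exact Finset.prod_pos (fun v _ => pow_pos (hpos v) _)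
    · obtain ⟨T, _, hT⟩ := exists_spanningTree_subset ends ⟨i⟩ univ (cutConn_univ ends hG)
      exact ⟨T, by rw [Finset.mem_filter, Finset.mem_powerset]; exact ⟨Finset.subset_univ _, hT⟩⟩
  have hP'pos : 0 < ∏ v : {v : V // v ≠ i}, β v.1 := Finset.prod_pos (fun v _ => hpos v.1)
  have hAne : A.det ≠ 0 := by
    intro h; rw [hdetL, h] at hLpos; simp at hLpos
  have hidx := det_eq ends β hβ hG i hAne
  have hbpos := bp_pos β hpos i
  have hb : (((bp β i).natAbs : ℕ) : ℤ) = bp β i := Int.natAbs_of_nonneg hbpos.le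
  have habs : (L.det : ℤ) = (∏ v : {v : V // v ≠ i}, β v.1) ^ 2 * (A.det.natAbs : ℤ) := by
    have : L.det = |L.det| := (abs_of_pos hLpos).symm
    rw [this, hdetL, abs_mul, abs_pow, abs_neg, abs_one, one_pow, one_mul, abs_mul, abs_pow,
      abs_of_pos hP'pos, Int.natCast_natAbs]
  have hZ : L.det = (∏ v : {v : V // v ≠ i}, β v.1) ^ 2 *
      (bp β i * ((Nat.card (CompGrp ends β) : ℤ) * bp β i)) := by
    rw [habs, hA, hidx]
    push_cast
    rw [abs_of_pos hbpos]
  have hQ : (L.det : ℚ) = (∏ v : {v : V // v ≠ i}, (β v.1 : ℚ)) ^ 2 *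
      ((bp β i : ℚ) * ((Nat.card (CompGrp ends β) : ℚ) * (bp β i : ℚ))) := by
    exact_mod_cast hZ
  have htreeQ : (L.det : ℚ) = ∑ T ∈ univ.powerset.filter (fun T : Finset E => IsSpanningTree ends T),
      ∏ v, (β v : ℚ) ^ nbrCount ends T v := by
    exact_mod_cast htree
  have hterm : ∀ T : Finset E, ∏ v, ((β v : ℚ) ^ ((nbrCount ends T v : ℤ) - 2)) =
      (∏ v, (β v : ℚ) ^ nbrCount ends T v) / (∏ v, (β v : ℚ)) ^ 2 := by
    intro T
    rw [← Finset.prod_pow, ← Finset.prod_div_distrib]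
    apply Finset.prod_congr rfl
    intro v _
    have : (β v : ℚ) ≠ 0 := by exact_mod_cast (hpos v).ne'
    rw [zpow_sub₀ this, zpow_natCast]
    norm_num
  simp_rw [hterm]
  rw [← Finset.sum_div, ← htreeQ, hQ]
  have hprod : (∏ v, (β v : ℚ)) = (β i : ℚ) * ∏ v : {v : V // v ≠ i}, (β v.1 : ℚ) :=
    Fintype.prod_eq_mul_prod_subtype_ne _ i
  have hβi : (β i : ℚ) = (mm β : ℚ) * (bp β i : ℚ) := by exact_mod_cast (mm_mul_bp β i).symm
  rw [hprod, hβi]
  change _ = ((mm β : ℤ) : ℚ) ^ 2 * _
  have hm : (mm β : ℚ) ≠ 0 := by exact_mod_cast (mm_pos β i (hpos i)).ne'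
  have hb' : (bp β i : ℚ) ≠ 0 := by exact_mod_cast hbpos.ne'
  have hP : (∏ v : {v : V // v ≠ i}, (β v.1 : ℚ)) ≠ 0 := by exact_mod_cast hP'pos.ne'
  field_simp

end Groth.Agent.H9.MT
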