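import Mathlib
import Groth.Prelude.Def_GLin
import Groth.Agent.Lib.Helper9.ComodGIT
import Groth.Agent.Lib.Helper9.ComodInvRing

set_option autoImplicit false
universe u
open CategoryTheory Limits AlgebraicGeometry TensorProduct

namespace Groth.Agent.H9.MTS

section desc
variable {X Y : Scheme.{u}} (q : X ⟶ Y) [Flat q] [Surjective q] [QuasiCompact q]

/-- descent of functions along a flat surjective quasi-compact morphism -/
theorem exists_appTop_eq {P : Scheme.{u}} (p₁ p₂ : P ⟶ X) (hpb : IsPullback p₁ p₂ q q)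
    (v : Γ(X, ⊤)) (hv : p₁.appTop.hom v = p₂.appTop.hom v) :
    ∃ w : Γ(Y, ⊤), q.appTop.hom w = v := by
  let ψ : X ⟶ 𝔸(PUnit.{u + 1}; Y) := AffineSpace.homOfVector q (fun _ => v)
  have h : ∀ {W : Scheme.{u}} (g₁ g₂ : W ⟶ X), g₁ ≫ q = g₂ ≫ q → g₁ ≫ ψ = g₂ ≫ ψ := by
    intro W g₁ g₂ hg
    have e1 : g₁ = hpb.lift g₁ g₂ hg ≫ p₁ := (hpb.lift_fst _ _ _).symm
    have e2 : g₂ = hpb.lift g₁ g₂ hg ≫ p₂ := (hpb.lift_snd _ _ _).symm
    have key : p₁ ≫ ψ = p₂ ≫ ψ := by
      apply AffineSpace.hom_ext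
      · simp only [Category.assoc, ψ, AffineSpace.homOfVector_over]
        exact hpb.w
      · intro i
        simp only [ψ, Scheme.Hom.comp_appTop, CommRingCat.hom_comp, RingHom.comp_apply,
          AffineSpace.homOfVector_appTop_coord]
        exact hv
    calc g₁ ≫ ψ = hpb.lift g₁ g₂ hg ≫ p₁ ≫ ψ := by rw [← Category.assoc, ← e1]
      _ = hpb.lift g₁ g₂ hg ≫ p₂ ≫ ψ := by rw [key]
      _ = g₂ ≫ ψ := by rw [← Category.assoc, ← e2]
  let u : Y ⟶ 𝔸(PUnit.{u + 1}; Y) := EffectiveEpi.desc q ψ h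
  have hu : q ≫ u = ψ := EffectiveEpi.fac q ψ h
  refine ⟨u.appTop.hom (AffineSpace.coord Y PUnit.unit), ?_⟩
  have := congrArg (fun m => m.appTop.hom (AffineSpace.coord Y PUnit.unit)) hu
  simp only [Scheme.Hom.comp_appTop, CommRingCat.hom_comp, RingHom.comp_apply] at this
  rw [this]
  exact AffineSpace.homOfVector_appTop_coord q (fun _ => v) PUnit.unit

omit [QuasiCompact q] in
theorem appTop_injective : Function.Injective q.appTop.hom := by
  intro w₁ w₂ hw
  have hepi : Epi q := Flat.epi_of_flat_of_surjective q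
  let u₁ : Y ⟶ 𝔸(PUnit.{u + 1}; Y) := AffineSpace.homOfVector (𝟙 Y) (fun _ => w₁)
  let u₂ : Y ⟶ 𝔸(PUnit.{u + 1}; Y) := AffineSpace.homOfVector (𝟙 Y) (fun _ => w₂)
  have : q ≫ u₁ = q ≫ u₂ := by
    apply AffineSpace.hom_ext
    · simp only [Category.assoc, u₁, u₂, AffineSpace.homOfVector_over]
    · intro i
      simp only [u₁, u₂, Scheme.Hom.comp_appTop, CommRingCat.hom_comp, RingHom.comp_apply,
        AffineSpace.homOfVector_appTop_coord]
      exact hw
  have h12 : u₁ = u₂ := (cancel_epi q).mp this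
  have := congrArg (fun m => m.appTop.hom (AffineSpace.coord Y PUnit.unit)) h12
  simpa only [u₁, u₂, AffineSpace.homOfVector_appTop_coord] using this

end desc

section closed
variable {R : Type u} [CommRing R] {Y : Scheme.{u}} (q : Spec (CommRingCat.of R) ⟶ Y)

/-- the ideal of the scheme-theoretic preimage of a closed subset: its zero locus is the preimage,
and it is stable under pairs of ring maps coequalized by `q` -/
theorem exists_ideal (T : Set Y) (hT : IsClosed T) :
    ∃ I : Ideal R, (∀ p : Spec (CommRingCat.of R), I ≤ p.asIdeal ↔ q.base p ∈ T) ∧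
      ∀ (S : Type u) [CommRing S] (a b : R →+* S),
        Spec.map (CommRingCat.ofHom a) ≫ q = Spec.map (CommRingCat.ofHom b) ≫ q →
        Ideal.map a I ≤ Ideal.map b I := by
  let J := Scheme.IdealSheafData.vanishingIdeal ⟨T, hT⟩
  let ιZ := J.subschemeι
  have hιZ : Set.range ιZ.base = T := by
    rw [Scheme.IdealSheafData.range_subschemeι, Scheme.IdealSheafData.coe_support_vanishingIdeal]
    rfl
  let W := pullback q ιZ
  let w : W ⟶ Spec (CommRingCat.of R) := pullback.fst q ιZ
  obtain ⟨hWaff, hsurj⟩ := IsClosedImmersion.isAffine_surjective_of_isAffine w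
  let φ : CommRingCat.of R ⟶ Γ(W, ⊤) := (Scheme.ΓSpecIso (CommRingCat.of R)).inv ≫ w.appTop
  have hφsurj : Function.Surjective φ.hom := by
    intro c
    obtain ⟨r', hr'⟩ := hsurj c
    refine ⟨(Scheme.ΓSpecIso (CommRingCat.of R)).hom.hom r', ?_⟩
    simp only [φ, CommRingCat.hom_comp, RingHom.comp_apply]
    rw [← hr']
    congr 1
    exact congrArg (fun m => m.hom r') (Scheme.ΓSpecIso (CommRingCat.of R)).hom_inv_id
  let I : Ideal R := RingHom.ker φ.hom
  let φ'' : Γ(W, ⊤) ≃+* R ⧸ I := (RingHom.quotientKerEquivOfSurjective hφsurj).symm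
  let e : Spec (CommRingCat.of (R ⧸ I)) ⟶ W :=
    Spec.map (CommRingCat.ofHom φ''.toRingHom) ≫ W.isoSpec.inv
  have hiso : IsIso (CommRingCat.ofHom φ''.toRingHom) :=
    (inferInstance : IsIso φ''.toCommRingCatIso.hom)
  have he_iso : IsIso e := by
    dsimp only [e]; infer_instance
  have hew : e ≫ w = Spec.map (CommRingCat.ofHom (Ideal.Quotient.mk I)) := by
    dsimp only [e]
    rw [Category.assoc, ← Scheme.isoSpec_inv_naturality w, Scheme.isoSpec_Spec_inv,
      ← Spec.map_comp, ← Spec.map_comp]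
    congr 1
    ext r
    simp only [CommRingCat.hom_comp, RingHom.comp_apply, CommRingCat.hom_ofHom]
    show φ'' (φ.hom r) = Ideal.Quotient.mk I r
    exact (RingEquiv.symm_apply_eq _).mpr rfl
  refine ⟨I, ?_, ?_⟩
  · intro p
    have h1 : Set.range w.base = q.base ⁻¹' T := by
      rw [← hιZ]; exact Scheme.Pullback.range_fst q ιZ
    have h2 : Set.range w.base = PrimeSpectrum.zeroLocus (I : Set R) := by
      have : Set.range w.base = Set.range (e ≫ w).base := by
        rw [Scheme.Hom.comp_base, TopCat.coe_comp, Set.range_comp]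
        have hs : Function.Surjective e.base := (inferInstance : Surjective e).surj
        rw [hs.range_eq, Set.image_univ]
      rw [this, hew]
      have := range_comap_of_surjective (R ⧸ I) (Ideal.Quotient.mk I) Ideal.Quotient.mk_surjective
      rw [Ideal.mk_ker] at this
      exact this
    have h3 : PrimeSpectrum.zeroLocus (I : Set R) = q.base ⁻¹' T := h2.symm.trans h1
    have h4 := Set.ext_iff.mp h3 p
    rw [PrimeSpectrum.mem_zeroLocus, SetLike.coe_subset_coe] at h4
    exact h4
  · intro S _ a b hab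
    rw [Ideal.map_le_iff_le_comap]
    intro f hf
    show a f ∈ Ideal.map b I
    let Ib : Ideal S := Ideal.map b I
    let π : S →+* S ⧸ Ib := Ideal.Quotient.mk Ib
    let b' : R ⧸ I →+* S ⧸ Ib := Ideal.Quotient.lift I (π.comp b) (fun r hr =>
      Ideal.Quotient.eq_zero_iff_mem.mpr (Ideal.mem_map_of_mem b hr))
    have hb' : b'.comp (Ideal.Quotient.mk I) = π.comp b := by
      ext r; rfl
    have cond : Spec.map (CommRingCat.ofHom (π.comp a)) ≫ q =
        (Spec.map (CommRingCat.ofHom b') ≫ e ≫ pullback.snd q ιZ) ≫ ιZ := by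
      rw [Category.assoc, Category.assoc, ← pullback.condition]
      change _ = Spec.map (CommRingCat.ofHom b') ≫ e ≫ w ≫ q
      rw [← Category.assoc e w q, hew, ← Category.assoc, ← Spec.map_comp, ← CommRingCat.ofHom_comp,
        hb', CommRingCat.ofHom_comp, CommRingCat.ofHom_comp, Spec.map_comp, Spec.map_comp,
        Category.assoc, Category.assoc, hab]
    let l : Spec (CommRingCat.of (S ⧸ Ib)) ⟶ W := pullback.lift _ _ cond
    have hl : l ≫ w = Spec.map (CommRingCat.ofHom (π.comp a)) := pullback.lift_fst _ _ cond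
    have h0 : φ.hom f = 0 := hf
    have h1 := congrArg (fun m => m.appTop.hom ((Scheme.ΓSpecIso (CommRingCat.of R)).inv.hom f)) hl
    simp only [Scheme.Hom.comp_appTop, CommRingCat.hom_comp, RingHom.comp_apply] at h1
    have h2 : w.appTop.hom ((Scheme.ΓSpecIso (CommRingCat.of R)).inv.hom f) = 0 := h0
    rw [h2, map_zero] at h1
    have h3 := congrArg (fun m => m.hom f)
      (Scheme.ΓSpecIso_inv_naturality (CommRingCat.ofHom (π.comp a)))
    simp only [CommRingCat.hom_comp, RingHom.comp_apply, CommRingCat.hom_ofHom] at h3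
    rw [← h1] at h3
    have h4 := congrArg (Scheme.ΓSpecIso (CommRingCat.of (S ⧸ Ib))).hom.hom h3
    rw [map_zero] at h4
    have h5 : (Scheme.ΓSpecIso (CommRingCat.of (S ⧸ Ib))).hom.hom
        ((Scheme.ΓSpecIso (CommRingCat.of (S ⧸ Ib))).inv.hom (π (a f))) = π (a f) :=
      congrArg (fun m => m.hom (π (a f))) (Scheme.ΓSpecIso (CommRingCat.of (S ⧸ Ib))).inv_hom_id
    rw [h5] at h4
    exact Ideal.Quotient.eq_zero_iff_mem.mp h4

end closed

section main
open Groth.Agent.H9.GIT Groth.Agent.H9.Comod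

variable {k : Type u} [Field k] {R A : Type u} [CommRing R] [Algebra k R]
  [CommRing A] [Bialgebra k A] [HopfRep.Comod k A R] [GLin.IsCoactAlg k A R]

variable (k R A) in
/-- first inclusion `R → R ⊗ A` as a ring map -/
noncomputable abbrev incl : R →+* R ⊗[k] A :=
  (Algebra.TensorProduct.includeLeft : R →ₐ[k] R ⊗[k] A).toRingHom

variable (k R A) in
/-- the coaction as a ring map -/
noncomputable abbrev rho : R →+* R ⊗[k] A := (GLin.coactAlgHom k A R).toRingHom

variable {Y : Scheme.{u}} (q : Spec (CommRingCat.of R) ⟶ Y)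

lemma quasiCompact_of_finiteType [Algebra.FiniteType k R] : QuasiCompact q := by
  have : IsNoetherianRing R := Algebra.FiniteType.isNoetherianRing k R
  exact ⟨fun U _ _ => TopologicalSpace.NoetherianSpace.isCompact _⟩

lemma compactSpace_of_surjective [Surjective q] : CompactSpace Y := by
  constructor
  rw [← Set.range_eq_univ.mpr q.surjective]
  exact isCompact_range q.continuous

/-- the ideal of the preimage of a closed set is a subcomodule -/
lemma isSubcomod_of_invariant (I : Ideal R)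
    (hI : Ideal.map (rho k R A) I ≤ Ideal.map (incl k R A) I) :
    HopfRep.IsSubcomod (k := k) (A := A) (I.restrictScalars k) := by
  intro f hf
  have h1 : rho k R A f ∈ Ideal.map (incl k R A) I := hI (Ideal.mem_map_of_mem _ hf)
  have h2 := Ideal.map_includeLeft_eq (R := k) (A := R) (B := A) I
  have h3 : rho k R A f ∈ (Ideal.map (Algebra.TensorProduct.includeLeft : R →ₐ[k] R ⊗[k] A)
      I).restrictScalars k := h1
  rw [h2] at h3
  exact h3

/-- the closure of an orbit lies in a closed fibre -/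
lemma orbit_closure_subset
    (hw : Spec.map (CommRingCat.ofHom (incl k R A)) ≫ q =
      Spec.map (CommRingCat.ofHom (rho k R A)) ≫ q)
    (x : R →ₐ[k] k) (x₀ : Spec (CommRingCat.of R))
    (hx : RingHom.ker (x : R →+* k) = x₀.asIdeal) (hcl : IsClosed ({q.base x₀} : Set Y))
    (p : Spec (CommRingCat.of R))
    (hp : RingHom.ker (GLin.orbitHom k A x : R →+* A) ≤ p.asIdeal) : q.base p = q.base x₀ := by
  let o : R →+* A := (GLin.orbitHom k A x : R →+* A)
  let t : R ⊗[k] A →+* A := ((Algebra.TensorProduct.lid k A).toAlgHom.comp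
    (Algebra.TensorProduct.map x (AlgHom.id k A))).toRingHom
  have ho : o = t.comp (rho k R A) := rfl
  have ht : t.comp (incl k R A) = (algebraMap k A).comp (x : R →+* k) := by
    ext r
    simp [t, incl, Algebra.algebraMap_eq_smul_one]
  have hcomp : Spec.map (CommRingCat.ofHom o) ≫ q =
      Spec.map (CommRingCat.ofHom (algebraMap k A)) ≫
        Spec.map (CommRingCat.ofHom (x : R →+* k)) ≫ q := by
    rw [ho, CommRingCat.ofHom_comp, Spec.map_comp, Category.assoc, ← hw, ← Category.assoc,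
      ← Spec.map_comp, ← CommRingCat.ofHom_comp, ht, CommRingCat.ofHom_comp, Spec.map_comp,
      Category.assoc]
  have hconst : ∀ z : Spec (CommRingCat.of k),
      (Spec.map (CommRingCat.ofHom (x : R →+* k))).base z = x₀ := by
    intro z
    apply PrimeSpectrum.ext
    rw [Spec.map_apply]
    show Ideal.comap (x : R →+* k) z.asIdeal = x₀.asIdeal
    have hz : z.asIdeal = ⊥ := by
      rcases Ideal.eq_bot_or_top z.asIdeal with h | h
      · exact h
      · exact absurd h z.isPrime.ne_top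
    rw [hz, ← hx]
    rfl
  have hrange : Set.range (Spec.map (CommRingCat.ofHom o)).base ⊆ q.base ⁻¹' {q.base x₀} := by
    rintro _ ⟨p', rfl⟩
    have := congrArg (fun m => m.base p') hcomp
    simp only [Scheme.Hom.comp_base, TopCat.comp_app] at this
    show q.base _ = q.base x₀
    rw [this, hconst]
  have hclos : closure (Set.range (Spec.map (CommRingCat.ofHom o)).base) ⊆
      q.base ⁻¹' {q.base x₀} :=
    (hcl.preimage q.continuous).closure_subset_iff.mpr hrange
  have hpc : p ∈ closure (Set.range (Spec.map (CommRingCat.ofHom o)).base) := by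
    have h3 : (p : PrimeSpectrum R) ∈ closure (Set.range (PrimeSpectrum.comap o)) := by
      rw [PrimeSpectrum.closure_range_comap o]
      exact hp
    exact h3
  exact hclos hpc

/-- every point has an affine basic open neighbourhood cut out by a global function -/
theorem exists_basicOpen [IsAlgClosed k] [Algebra.FiniteType k R] [Flat q] [Surjective q]
    (hpb : IsPullback (Spec.map (CommRingCat.ofHom (incl k R A)))
      (Spec.map (CommRingCat.ofHom (rho k R A))) q q)
    (hss : HopfRep.IsSemisimpleComod k A R) (y : Y) :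
    ∃ v : Γ(Y, ⊤), y ∈ Y.basicOpen v ∧ IsAffineOpen (Y.basicOpen v) := by
  have := quasiCompact_of_finiteType (k := k) q
  have := compactSpace_of_surjective q
  obtain ⟨y₀, hy₀, hy₀cl⟩ := IsClosed.exists_closed_singleton (isClosed_closure (s := {y}))
    ⟨y, subset_closure rfl⟩
  obtain ⟨U, hU, hy₀U, -⟩ := TopologicalSpace.Opens.isBasis_iff_nbhd.mp Y.isBasis_affineOpens
    (U := ⊤) (x := y₀) trivial
  have hfib : IsClosed (q.base ⁻¹' {y₀}) := hy₀cl.preimage q.continuous
  obtain ⟨x₁, hx₁⟩ := q.surjective y₀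
  obtain ⟨x₀, hx₀, hx₀cl⟩ := IsClosed.exists_closed_singleton hfib ⟨x₁, hx₁⟩
  have hqx₀ : q.base x₀ = y₀ := hx₀
  have hmax : x₀.asIdeal.IsMaximal :=
    (PrimeSpectrum.isClosed_singleton_iff_isMaximal x₀).mp hx₀cl
  obtain ⟨x, hx⟩ := exists_algHom_ker_eq (k := k) x₀.asIdeal hmax
  obtain ⟨I₁, hI₁z, hI₁inv⟩ := exists_ideal q ((U : Set Y)ᶜ) U.isOpen.isClosed_compl
  have h₁ := isSubcomod_of_invariant (k := k) (A := A) I₁
    (hI₁inv _ (rho k R A) (incl k R A) hpb.w.symm)
  let I₂ : Ideal R := RingHom.ker (GLin.orbitHom k A x : R →+* A)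
  have h₂ := isSubcomod_ker_orbitHom (k := k) (A := A) x
  have htop : I₁ ⊔ I₂ = ⊤ := by
    by_contra hne
    obtain ⟨M, hM, hle⟩ := Ideal.exists_le_maximal _ hne
    let p : Spec (CommRingCat.of R) := ⟨M, hM.isPrime⟩
    have hp1 : q.base p ∈ (U : Set Y)ᶜ := (hI₁z p).mp (le_sup_left.trans hle)
    have hp2 : q.base p = q.base x₀ :=
      orbit_closure_subset q hpb.w x x₀ hx (by rw [hqx₀]; exact hy₀cl) p (le_sup_right.trans hle)
    rw [hp2, hqx₀] at hp1
    exact hp1 hy₀U
  obtain ⟨f, hfix, hf1, hf2⟩ := exists_inv_separating hss I₁ I₂ h₁ h₂ htop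
  let f' : Γ(Spec (CommRingCat.of R), ⊤) := (Scheme.ΓSpecIso (CommRingCat.of R)).inv.hom f
  have heq : (Spec.map (CommRingCat.ofHom (incl k R A))).appTop.hom f' =
      (Spec.map (CommRingCat.ofHom (rho k R A))).appTop.hom f' := by
    have e1 := congrArg (fun m => m.hom f)
      (Scheme.ΓSpecIso_inv_naturality (CommRingCat.ofHom (incl k R A)))
    have e2 := congrArg (fun m => m.hom f)
      (Scheme.ΓSpecIso_inv_naturality (CommRingCat.ofHom (rho k R A)))
    simp only [CommRingCat.hom_comp, RingHom.comp_apply, CommRingCat.hom_ofHom] at e1 e2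
    rw [← e1, ← e2]
    congr 1
    exact hfix.symm
  obtain ⟨v, hv⟩ := exists_appTop_eq q _ _ hpb f' heq
  have hpre : q ⁻¹ᵁ Y.basicOpen v = PrimeSpectrum.basicOpen f := by
    rw [Scheme.preimage_basicOpen_top, hv]
    exact basicOpen_eq_of_affine (R := CommRingCat.of R) f
  have hmem : ∀ p : Spec (CommRingCat.of R), q.base p ∈ Y.basicOpen v ↔ f ∉ p.asIdeal := by
    intro p
    have : p ∈ q ⁻¹ᵁ Y.basicOpen v ↔ p ∈ PrimeSpectrum.basicOpen f := by
      rw [hpre]; exact Iff.rfl
    exact this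
  have hxf : x f = 1 := by
    have h0 : GLin.orbitHom k A x (1 - f) = 0 := hf2
    have h1 := counit_orbitHom (k := k) (A := A) x (1 - f)
    rw [h0, map_zero, map_sub, map_one] at h1
    exact (sub_eq_zero.mp h1.symm).symm
  have hx₀v : y₀ ∈ Y.basicOpen v := by
    rw [← hqx₀, hmem, ← hx]
    intro h
    have : x f = 0 := h
    rw [hxf] at this
    exact one_ne_zero this
  have hle : Y.basicOpen v ≤ U := by
    intro y' hy'
    obtain ⟨p, rfl⟩ := q.surjective y'
    by_contra hnot
    have : I₁ ≤ p.asIdeal := (hI₁z p).mpr hnot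
    exact (hmem p).mp hy' (this hf1)
  refine ⟨v, ?_, ?_⟩
  · obtain ⟨z, hz1, hz2⟩ := mem_closure_iff.mp hy₀ (Y.basicOpen v) (Y.basicOpen v).isOpen hx₀v
    rw [Set.mem_singleton_iff.mp hz2] at hz1
    exact hz1
  · have h1 := IsAffineOpen.basicOpen hU (Y.presheaf.map (homOfLE (le_top : U ≤ ⊤)).op v)
    rw [Scheme.basicOpen_res, inf_eq_right.mpr hle] at h1
    exact h1

/-- global functions of the quotient as elements of the coordinate ring -/
noncomputable def F : Γ(Y, ⊤) →+* R :=
  ((Scheme.ΓSpecIso (CommRingCat.of R)).hom.hom).comp q.appTop.hom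

lemma inv_F (c : Γ(Y, ⊤)) :
    (Scheme.ΓSpecIso (CommRingCat.of R)).inv.hom (F q c) = q.appTop.hom c :=
  congrArg (fun m => m.hom (q.appTop.hom c)) (Scheme.ΓSpecIso (CommRingCat.of R)).hom_inv_id

lemma mem_basicOpen_iff (c : Γ(Y, ⊤)) (p : Spec (CommRingCat.of R)) :
    q.base p ∈ Y.basicOpen c ↔ F q c ∉ p.asIdeal := by
  have hpre : q ⁻¹ᵁ Y.basicOpen c = PrimeSpectrum.basicOpen (F q c) := by
    rw [Scheme.preimage_basicOpen_top, ← inv_F]
    exact basicOpen_eq_of_affine (R := CommRingCat.of R) (F q c)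
  have : p ∈ q ⁻¹ᵁ Y.basicOpen c ↔ p ∈ PrimeSpectrum.basicOpen (F q c) := by
    rw [hpre]; exact Iff.rfl
  exact this

lemma F_injective [Flat q] [Surjective q] : Function.Injective (F q) := by
  intro a b hab
  apply appTop_injective q
  have := congrArg (Scheme.ΓSpecIso (CommRingCat.of R)).inv.hom hab
  rwa [inv_F, inv_F] at this

lemma F_mem_fixedPts
    (hw : Spec.map (CommRingCat.ofHom (incl k R A)) ≫ q =
      Spec.map (CommRingCat.ofHom (rho k R A)) ≫ q) (c : Γ(Y, ⊤)) :
    F q c ∈ HopfRep.fixedPts k A R := by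
  have e1 := congrArg (fun m => m.hom (F q c))
    (Scheme.ΓSpecIso_inv_naturality (CommRingCat.ofHom (incl k R A)))
  have e2 := congrArg (fun m => m.hom (F q c))
    (Scheme.ΓSpecIso_inv_naturality (CommRingCat.ofHom (rho k R A)))
  simp only [CommRingCat.hom_comp, RingHom.comp_apply, CommRingCat.hom_ofHom] at e1 e2
  rw [inv_F] at e1 e2
  have e3 := congrArg (fun m => m.appTop.hom c) hw
  simp only [Scheme.Hom.comp_appTop, CommRingCat.hom_comp, RingHom.comp_apply] at e3
  rw [← e1, ← e2] at e3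
  have e4 := congrArg (Scheme.ΓSpecIso (CommRingCat.of (R ⊗[k] A))).hom.hom e3
  have e5 : ∀ z : R ⊗[k] A, (Scheme.ΓSpecIso (CommRingCat.of (R ⊗[k] A))).hom.hom
      ((Scheme.ΓSpecIso (CommRingCat.of (R ⊗[k] A))).inv.hom z) = z := fun z =>
    congrArg (fun m => m.hom z) (Scheme.ΓSpecIso (CommRingCat.of (R ⊗[k] A))).inv_hom_id
  rw [e5, e5] at e4
  exact e4.symm

lemma exists_F_eq [Flat q] [Surjective q] [QuasiCompact q]
    (hpb : IsPullback (Spec.map (CommRingCat.ofHom (incl k R A)))
      (Spec.map (CommRingCat.ofHom (rho k R A))) q q)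
    {f : R} (hfix : f ∈ HopfRep.fixedPts k A R) : ∃ c, F q c = f := by
  let f' : Γ(Spec (CommRingCat.of R), ⊤) := (Scheme.ΓSpecIso (CommRingCat.of R)).inv.hom f
  have heq : (Spec.map (CommRingCat.ofHom (incl k R A))).appTop.hom f' =
      (Spec.map (CommRingCat.ofHom (rho k R A))).appTop.hom f' := by
    have e1 := congrArg (fun m => m.hom f)
      (Scheme.ΓSpecIso_inv_naturality (CommRingCat.ofHom (incl k R A)))
    have e2 := congrArg (fun m => m.hom f)
      (Scheme.ΓSpecIso_inv_naturality (CommRingCat.ofHom (rho k R A)))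
    simp only [CommRingCat.hom_comp, RingHom.comp_apply, CommRingCat.hom_ofHom] at e1 e2
    rw [← e1, ← e2]
    congr 1
    exact hfix.symm
  obtain ⟨v, hv⟩ := exists_appTop_eq q _ _ hpb f' heq
  refine ⟨v, ?_⟩
  show (Scheme.ΓSpecIso (CommRingCat.of R)).hom.hom (q.appTop.hom v) = f
  rw [hv]
  exact congrArg (fun m => m.hom f) (Scheme.ΓSpecIso (CommRingCat.of R)).inv_hom_id

/-- the quotient of an affine scheme by a free action of a group with semisimple comodules,
given as a scheme, is affine -/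
theorem isAffine_of_isSemisimpleComod [IsAlgClosed k] [Algebra.FiniteType k R] [Flat q]
    [Surjective q]
    (hpb : IsPullback (Spec.map (CommRingCat.ofHom (incl k R A)))
      (Spec.map (CommRingCat.ofHom (rho k R A))) q q)
    (hss : HopfRep.IsSemisimpleComod k A R) : IsAffine Y := by
  have := quasiCompact_of_finiteType (k := k) q
  let s : Set Γ(Y, ⊤) := {v | IsAffineOpen (Y.basicOpen v)}
  refine isAffine_of_isAffineOpen_basicOpen s ?_ (fun v hv => hv)
  obtain ⟨E, hE₁, hE₂, hE₃⟩ := exists_reynolds hss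
  have hEfix : ∀ b, E b ∈ HopfRep.fixedPts k A R := reynolds_mem_fixedPts E hE₂ hE₃
  have hex : ∀ b : R, ∃ c, F q c = E b := fun b => exists_F_eq q hpb (hEfix b)
  choose π₀ hπ₀ using hex
  have hinj := F_injective q
  let π : R →+ Γ(Y, ⊤) := AddMonoidHom.mk' π₀ (by
    intro a b
    apply hinj
    rw [map_add, hπ₀, hπ₀, hπ₀, map_add])
  have hπ : ∀ (c : Γ(Y, ⊤)) (b : R), π (F q c * b) = c * π b := by
    intro c b
    apply hinj
    show F q (π₀ (F q c * b)) = F q (c * π₀ b)
    rw [hπ₀ (F q c * b), map_mul (F q) c (π₀ b), hπ₀ b, mul_comm (F q c) b]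
    have := Groth.Agent.H9.InvRing.reynolds_smul_of_mem_fixedPts hss E hE₁ hE₂ hE₃ E hE₁ hE₂ hE₃
      b (F_mem_fixedPts q hpb.w c)
    rw [smul_eq_mul, smul_eq_mul] at this
    rw [this, mul_comm]
  have hπ1 : ∀ c, π (F q c) = c := by
    intro c
    apply hinj
    show F q (π₀ (F q c)) = F q c
    rw [hπ₀]
    exact (hE₃ _).mpr (F_mem_fixedPts q hpb.w c)
  have hcm := Groth.Agent.H9.InvRing.comap_map_eq_of_retraction (F q) π hπ hπ1 (Ideal.span s)
  have hmap : (Ideal.span s).map (F q) = ⊤ := by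
    by_contra hne
    obtain ⟨M, hM, hle⟩ := Ideal.exists_le_maximal _ hne
    let p : Spec (CommRingCat.of R) := ⟨M, hM.isPrime⟩
    obtain ⟨v, hv1, hv2⟩ := exists_basicOpen q hpb hss (q.base p)
    have h1 : F q v ∈ M := hle (Ideal.mem_map_of_mem _ (Ideal.subset_span hv2))
    exact (mem_basicOpen_iff q v p).mp hv1 h1
  rw [hmap, Ideal.comap_top] at hcm
  exact hcm.symm

end main

end Groth.Agent.H9.MTS
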