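import Mathlib
import Groth.Prelude.Def_CoactBr
import Groth.Prelude.Def_GLin2
import Groth.Prelude.Def_RedSub
import Groth.Agent.Lib.Helper9.Misc.MTS1

set_option autoImplicit false
universe u
open CategoryTheory Limits AlgebraicGeometry TensorProduct MonoidalCategory
  CartesianMonoidalCategory MonObj Opposite

namespace Groth.Agent.H9.MTS

noncomputable local instance braidedAlgSpecOf' (R : Type u) [CommRing R] :
    (algSpec (CommRingCat.of R)).Braided := braidedAlgSpec

section
variable {k : Type u} [Field k] {AG AH : Type u} [CommRing AG] [HopfAlgebra k AG]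
  [CommRing AH] [HopfAlgebra k AH]

/-- the coordinate ring of `G` as a comodule over that of a subgroup (right translations) -/
@[reducible] noncomputable def comodOf (ψ : AG →ₐc[k] AH) : HopfRep.Comod k AH AG :=
  GLin.comodAlong ψ (HopfRep.Comod.regular k AG)

lemma coact_comodOf (ψ : AG →ₐc[k] AH) (a : AG) :
    (comodOf ψ).coact a =
      (Algebra.TensorProduct.map (AlgHom.id k AG) (ψ : AG →ₐ[k] AH)).comp
        (Bialgebra.comulAlgHom k AG) a := by
  rfl

theorem isCoactAlg_comodOf (ψ : AG →ₐc[k] AH) :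
    letI := comodOf ψ
    GLin.IsCoactAlg k AH AG := by
  let _ := comodOf ψ
  constructor
  · show (comodOf ψ).coact 1 = 1
    rw [coact_comodOf, map_one]
  · intro f g
    show (comodOf ψ).coact (f * g) = (comodOf ψ).coact f * (comodOf ψ).coact g
    rw [coact_comodOf, coact_comodOf, coact_comodOf, map_mul]

theorem whisker_mul_eq_ract (ψ : AG →ₐc[k] AH) :
    letI := comodOf ψ
    haveI := isCoactAlg_comodOf ψ
    (CoactBr.sp k AG ◁ CoactBr.pt (ψ : AG →ₐ[k] AH)) ≫ μ[CoactBr.sp k AG] =
      CoactBr.ract k AH AG := by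
  letI := comodOf ψ
  haveI := isCoactAlg_comodOf ψ
  show ((algSpec (CommRingCat.of k)).obj (op (.of k AG)) ◁
        (algSpec (CommRingCat.of k)).map (CommAlgCat.ofHom (ψ : AG →ₐ[k] AH)).op) ≫
      (Functor.LaxMonoidal.μ (algSpec (CommRingCat.of k)) (op (.of k AG)) (op (.of k AG)) ≫
        (algSpec (CommRingCat.of k)).map (CommAlgCat.ofHom (Bialgebra.comulAlgHom k AG)).op) =
      Functor.LaxMonoidal.μ (algSpec (CommRingCat.of k)) (op (.of k AG)) (op (.of k AH)) ≫
        (algSpec (CommRingCat.of k)).map (CoactBr.coactHom k AH AG).op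
  rw [Functor.LaxMonoidal.μ_natural_right_assoc, ← Functor.map_comp]
  congr 2

theorem isPullback_spec (ψ : AG →ₐc[k] AH) {Q : Over (Spec (CommRingCat.of k))}
    (q : CoactBr.sp k AG ⟶ Q)
    (h : IsPullback (fst (CoactBr.sp k AG) (CoactBr.sp k AH))
      ((CoactBr.sp k AG ◁ CoactBr.pt (ψ : AG →ₐ[k] AH)) ≫ μ[CoactBr.sp k AG]) q q) :
    letI := comodOf ψ
    haveI := isCoactAlg_comodOf ψ
    IsPullback (Spec.map (CommRingCat.ofHom (incl k AG AH)))
      (Spec.map (CommRingCat.ofHom (rho k AG AH))) q.left q.left := by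
  letI := comodOf ψ
  haveI := isCoactAlg_comodOf ψ
  rw [whisker_mul_eq_ract ψ] at h
  have h' := h.map (Over.forget _)
  let e := pullbackSpecIso k AG AH
  refine IsPullback.of_iso h' e (Iso.refl _) (Iso.refl _) (Iso.refl _) ?_ ?_ ?_ ?_
  · simp only [Iso.refl_hom, Category.comp_id]
    exact (pullbackSpecIso_hom_fst k AG AH).symm
  · simp only [Iso.refl_hom, Category.comp_id]
    exact CoactBr.ract_left k AH AG
  · simp only [Iso.refl_hom, Category.comp_id, Category.id_comp]
    rfl
  · simp only [Iso.refl_hom, Category.comp_id, Category.id_comp]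
    rfl

/-- the quotient of an affine algebraic group by a linearly reductive subgroup is affine -/
theorem isAffine_quotient [IsAlgClosed k] [Algebra.FiniteType k AG]
    (hH : HopfRep.IsLinearlyReductive k AH)
    (ψ : AG →ₐc[k] AH) {Q : Over (Spec (CommRingCat.of k))} (q : CoactBr.sp k AG ⟶ Q)
    [IsMonHom (CoactBr.pt (ψ : AG →ₐ[k] AH))]
    (hq : RedSub.IsQuotient (CoactBr.pt (ψ : AG →ₐ[k] AH)) q) : IsAffine Q.left := by
  letI := comodOf ψ
  haveI := isCoactAlg_comodOf ψ
  obtain ⟨hsurj, hflat, -, hpb⟩ := hq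
  let q₀ : Spec (CommRingCat.of AG) ⟶ Q.left := q.left
  haveI : Surjective q₀ := hsurj
  haveI : Flat q₀ := hflat
  have hss : HopfRep.IsSemisimpleComod k AH AG :=
    Groth.Agent.H9.Comod.isSemisimpleComod_of_fd_semisimple (A := AH) hH
  exact isAffine_of_isSemisimpleComod (k := k) (R := AG) (A := AH) q₀
    (isPullback_spec ψ q hpb) hss

end

end Groth.Agent.H9.MTS
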