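import Mathlib
import Groth.Prelude.Def_GLin
import Groth.Agent.Lib.Helper9.ComodGIT

set_option autoImplicit false
universe u
open TensorProduct WithConv

namespace Groth.Agent.H9.MTS3

section conv
variable {k : Type u} [Field k] {R A : Type u} [CommRing R] [HopfAlgebra k R]
  [CommRing A] [HopfAlgebra k A] (ψ : R →ₐc[k] A)

variable (k R A) in
/-- `r ↦ r ⊗ 1` -/
noncomputable abbrev incl : R →ₐ[k] R ⊗[k] A := Algebra.TensorProduct.includeLeft
variable (k R A) in
/-- `h ↦ 1 ⊗ h` -/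
noncomputable abbrev inrA : A →ₐ[k] R ⊗[k] A := Algebra.TensorProduct.includeRight

/-- the coaction of the subgroup on the coordinate ring by right translation -/
noncomputable def rho : R →ₐ[k] R ⊗[k] A :=
  (Algebra.TensorProduct.map (AlgHom.id k R) (ψ : R →ₐ[k] A)).comp (Bialgebra.comulAlgHom k R)

lemma rho_eq_conv :
    rho ψ = ofConv (toConv (incl k R A) * toConv ((inrA k R A).comp (ψ : R →ₐ[k] A))) := by
  apply AlgHom.ext
  intro a
  show (rho ψ) a = (toConv (incl k R A) * toConv ((inrA k R A).comp (ψ : R →ₐ[k] A))) a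
  rw [AlgHom.convMul_apply]
  show (Algebra.TensorProduct.map (AlgHom.id k R) (ψ : R →ₐ[k] A)) (Coalgebra.comul (R := k) a) = _
  generalize Coalgebra.comul (R := k) a = T
  induction T using TensorProduct.induction_on with
  | zero => simp
  | tmul x y =>
    simp [Algebra.TensorProduct.lift_tmul, Algebra.TensorProduct.tmul_mul_tmul]
  | add x y hx hy => rw [map_add, map_add, hx, hy]

section hom
variable {C C' : Type u} [CommRing C] [Bialgebra k C] [CommRing C'] [Bialgebra k C']

/-- post-composition with an algebra map, as a group homomorphism of convolution groups -/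
noncomputable def push (h : C →ₐ[k] C') : WithConv (R →ₐ[k] C) →* WithConv (R →ₐ[k] C') where
  toFun f := toConv (h.comp f.ofConv)
  map_one' := by
    apply WithConv.ofConv_injective
    apply AlgHom.ext
    intro a
    simp [AlgHom.convOne_def]
  map_mul' f g := by
    apply WithConv.ofConv_injective
    exact AlgHom.comp_convMul_distrib h f g

@[simp] lemma push_toConv (h : C →ₐ[k] C') (f : R →ₐ[k] C) :
    push h (toConv f) = toConv (h.comp f) := rfl

/-- pre-composition with a bialgebra map, as a group homomorphism of convolution groups -/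
noncomputable def pull : WithConv (A →ₐ[k] C) →* WithConv (R →ₐ[k] C) where
  toFun f := toConv (f.ofConv.comp (ψ : R →ₐ[k] A))
  map_one' := by
    apply WithConv.ofConv_injective
    apply AlgHom.ext
    intro a
    simp [AlgHom.convOne_def]
  map_mul' f g := by
    apply WithConv.ofConv_injective
    exact AlgHom.convMul_comp_bialgHom_distrib f g ψ

@[simp] lemma pull_toConv (f : A →ₐ[k] C) :
    pull ψ (toConv f) = toConv (f.comp (ψ : R →ₐ[k] A)) := rfl

end hom

variable (k R) in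
/-- `r ↦ r ⊗ 1` into `R ⊗ R` -/
noncomputable abbrev inl : R →ₐ[k] R ⊗[k] R := Algebra.TensorProduct.includeLeft
variable (k R) in
/-- `r ↦ 1 ⊗ r` into `R ⊗ R` -/
noncomputable abbrev inr : R →ₐ[k] R ⊗[k] R := Algebra.TensorProduct.includeRight

variable (k R) in
/-- the translation map `a ↦ Σ S a₁ ⊗ a₂` -/
noncomputable def gamma0 : R →ₐ[k] R ⊗[k] R := ofConv ((toConv (inl k R))⁻¹ * toConv (inr k R))

/-- the Galois map before passing to the tensor product over the invariants -/
noncomputable def can0 : R ⊗[k] R →ₐ[k] R ⊗[k] A :=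
  Algebra.TensorProduct.productMap (incl k R A) (rho ψ)

lemma toConv_rho :
    toConv (rho ψ) = toConv (incl k R A) * pull ψ (toConv (inrA k R A)) := by
  rw [rho_eq_conv]; rfl

lemma can0_comp_gamma0 :
    (can0 ψ).comp (gamma0 k R) = (inrA k R A).comp (ψ : R →ₐ[k] A) := by
  have h : push (can0 ψ) (toConv (gamma0 k R)) = pull ψ (toConv (inrA k R A)) := by
    rw [gamma0, toConv_ofConv, map_mul, map_inv, push_toConv, push_toConv]
    have e1 : (can0 ψ).comp (inl k R) = incl k R A :=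
      Algebra.TensorProduct.productMap_left _ _
    have e2 : (can0 ψ).comp (inr k R) = rho ψ :=
      Algebra.TensorProduct.productMap_right _ _
    rw [e1, e2, toConv_rho, inv_mul_cancel_left]
  exact congrArg ofConv h

variable (k R A) in
/-- `R ⊗ A → (R ⊗ A) ⊗ A` first factor -/
noncomputable abbrev inl' : R ⊗[k] A →ₐ[k] (R ⊗[k] A) ⊗[k] A :=
  Algebra.TensorProduct.includeLeft
variable (k R A) in
/-- `r ↦ (r ⊗ 1) ⊗ 1` -/
noncomputable abbrev J1 : R →ₐ[k] (R ⊗[k] A) ⊗[k] A := (inl' k R A).comp (incl k R A)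
variable (k R A) in
/-- `h ↦ (1 ⊗ h) ⊗ 1` -/
noncomputable abbrev Jc : A →ₐ[k] (R ⊗[k] A) ⊗[k] A := (inl' k R A).comp (inrA k R A)
variable (k R A) in
/-- `h ↦ (1 ⊗ 1) ⊗ h` -/
noncomputable abbrev Jh : A →ₐ[k] (R ⊗[k] A) ⊗[k] A := Algebra.TensorProduct.includeRight

variable (k R A) in
/-- `r ⊗ h ↦ (r ⊗ 1) ⊗ h` -/
noncomputable abbrev pm : R ⊗[k] A →ₐ[k] (R ⊗[k] A) ⊗[k] A :=
  Algebra.TensorProduct.productMap (J1 k R A) (Jh k R A)

/-- `(r ⊗ h) ⊗ z ↦ ((r ⊗ 1) ρ(z)) ⊗ h` -/
noncomputable def cc : (R ⊗[k] A) ⊗[k] R →ₐ[k] (R ⊗[k] A) ⊗[k] A :=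
  Algebra.TensorProduct.productMap (pm k R A) ((inl' k R A).comp (rho ψ))

/-- `ρ ⊗ id` -/
noncomputable def rho1 : R ⊗[k] R →ₐ[k] (R ⊗[k] A) ⊗[k] R :=
  Algebra.TensorProduct.map (rho ψ) (AlgHom.id k R)

variable (k R A) in
/-- `incl ⊗ id` -/
noncomputable def incl1 : R ⊗[k] R →ₐ[k] (R ⊗[k] A) ⊗[k] R :=
  Algebra.TensorProduct.map (incl k R A) (AlgHom.id k R)

variable (k R A) in
/-- `h ↦ Σ (1 ⊗ h₂) ⊗ S h₁` -/
noncomputable def Fp : A →ₐ[k] (R ⊗[k] A) ⊗[k] A :=
  ofConv ((toConv (Jh k R A))⁻¹ * toConv (Jc k R A))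

lemma cc_rho1_inl : ((cc ψ).comp (rho1 ψ)).comp (inl k R) = (pm k R A).comp (rho ψ) := by
  apply AlgHom.ext
  intro x
  simp [cc, rho1, ← Algebra.TensorProduct.one_def]

lemma cc_rho1_inr : ((cc ψ).comp (rho1 ψ)).comp (inr k R) = (inl' k R A).comp (rho ψ) := by
  apply AlgHom.ext
  intro x
  simp [cc, rho1]

lemma cc_incl1_inl : ((cc ψ).comp (incl1 k R A)).comp (inl k R) = J1 k R A := by
  apply AlgHom.ext
  intro x
  simp [cc, incl1]

lemma cc_incl1_inr : ((cc ψ).comp (incl1 k R A)).comp (inr k R) = (inl' k R A).comp (rho ψ) := by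
  apply AlgHom.ext
  intro x
  simp [cc, incl1, ← Algebra.TensorProduct.one_def]

lemma push_pm_rho :
    toConv ((pm k R A).comp (rho ψ)) = toConv (J1 k R A) * pull ψ (toConv (Jh k R A)) := by
  have : toConv ((pm k R A).comp (rho ψ)) = push (pm k R A) (toConv (rho ψ)) := rfl
  rw [this, toConv_rho, map_mul, push_toConv]
  have e1 : (pm k R A).comp (incl k R A) = J1 k R A :=
    Algebra.TensorProduct.productMap_left _ _
  have e2 : (pm k R A).comp (inrA k R A) = Jh k R A :=
    Algebra.TensorProduct.productMap_right _ _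
  rw [e1]
  congr 1
  show toConv ((pm k R A).comp ((inrA k R A).comp (ψ : R →ₐ[k] A))) = _
  rw [← AlgHom.comp_assoc, e2]
  rfl

lemma push_inl'_rho :
    toConv ((inl' k R A).comp (rho ψ)) = toConv (J1 k R A) * pull ψ (toConv (Jc k R A)) := by
  have : toConv ((inl' k R A).comp (rho ψ)) = push (inl' k R A) (toConv (rho ψ)) := rfl
  rw [this, toConv_rho, map_mul, push_toConv]
  rfl

lemma cc_rho1_gamma0 :
    ((cc ψ).comp (rho1 ψ)).comp (gamma0 k R) = (Fp k R A).comp (ψ : R →ₐ[k] A) := by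
  have h : push ((cc ψ).comp (rho1 ψ)) (toConv (gamma0 k R)) = pull ψ (toConv (Fp k R A)) := by
    rw [gamma0, toConv_ofConv, map_mul, map_inv, push_toConv, push_toConv, cc_rho1_inl,
      cc_rho1_inr, push_pm_rho, push_inl'_rho, Fp, toConv_ofConv, map_mul, map_inv,
      mul_inv_rev, mul_assoc, inv_mul_cancel_left]
  exact congrArg ofConv h

lemma cc_incl1_gamma0 :
    ((cc ψ).comp (incl1 k R A)).comp (gamma0 k R) = (Jc k R A).comp (ψ : R →ₐ[k] A) := by
  have h : push ((cc ψ).comp (incl1 k R A)) (toConv (gamma0 k R)) =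
      pull ψ (toConv (Jc k R A)) := by
    rw [gamma0, toConv_ofConv, map_mul, map_inv, push_toConv, push_toConv, cc_incl1_inl,
      cc_incl1_inr, push_inl'_rho, inv_mul_cancel_left]
  exact congrArg ofConv h

end conv

end Groth.Agent.H9.MTS3
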