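import Mathlib
import Groth.Prelude.Def_HopfRep
import Groth.Agent.Lib.Helper9.Misc.MTS3

set_option autoImplicit false
universe u
open TensorProduct WithConv

namespace Groth.Agent.H9.MTS5

section vcalc
variable {k : Type u} [Field k] {A : Type u} [CommRing A] [HopfAlgebra k A]
variable {V : Type u} [AddCommGroup V] [Module k V] [HopfRep.Comod k A V]

variable (k A V) in
/-- the coaction with the Hopf factor on the left -/
noncomputable def DV : V →ₗ[k] A ⊗[k] V :=
  (TensorProduct.comm k V A).toLinearMap ∘ₗ HopfRep.Comod.coact (k := k) (A := A)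

variable {C C' C'' : Type u} [CommRing C] [Algebra k C] [CommRing C'] [Algebra k C']
  [CommRing C''] [Algebra k C'']

variable (V) in
/-- base change of coefficients -/
noncomputable def bc (φ : C →ₐ[k] C') : C ⊗[k] V →ₗ[k] C' ⊗[k] V := φ.toLinearMap.rTensor V

@[simp] lemma bc_tmul (φ : C →ₐ[k] C') (c : C) (v : V) : bc V φ (c ⊗ₜ v) = φ c ⊗ₜ v := rfl

lemma bc_smul (φ : C →ₐ[k] C') (c : C) (x : C ⊗[k] V) : bc V φ (c • x) = φ c • bc V φ x := by
  induction x with
  | zero => simp
  | add x y hx hy => simp [smul_add, hx, hy]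
  | tmul d v => simp [smul_tmul']

lemma bc_bc (φ : C →ₐ[k] C') (φ' : C' →ₐ[k] C'') (x : C ⊗[k] V) :
    bc V φ' (bc V φ x) = bc V (φ'.comp φ) x := by
  induction x with
  | zero => simp
  | add x y hx hy => simp [hx, hy]
  | tmul d v => simp

/-- the `C`-linear endomorphism of `C ⊗ V` given by a `C`-point of the group -/
noncomputable def act (f : A →ₐ[k] C) : C ⊗[k] V →ₗ[C] C ⊗[k] V :=
  LinearMap.liftBaseChange C ((f.toLinearMap.rTensor V) ∘ₗ DV k A V)

lemma act_tmul (f : A →ₐ[k] C) (c : C) (v : V) :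
    act f (c ⊗ₜ[k] v) = c • bc V f (DV k A V v) := by
  simp [act, bc]

lemma act_one_tmul (f : A →ₐ[k] C) (v : V) :
    act f ((1 : C) ⊗ₜ[k] v) = bc V f (DV k A V v) := by
  rw [act_tmul, one_smul]

lemma bc_act (φ : C →ₐ[k] C') (f : A →ₐ[k] C) (x : C ⊗[k] V) :
    bc V φ (act f x) = act (φ.comp f) (bc V φ x) := by
  induction x with
  | zero => simp
  | add x y hx hy => simp [hx, hy]
  | tmul d v => rw [act_tmul, bc_smul, bc_bc, bc_tmul, act_tmul]

/-- auxiliary map `u ⊗ (a ⊗ b) ↦ f a * g b ⊗ u` -/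
noncomputable def theta (f g : A →ₐ[k] C) : V ⊗[k] (A ⊗[k] A) →ₗ[k] C ⊗[k] V :=
  (TensorProduct.comm k V C).toLinearMap ∘ₗ
    LinearMap.lTensor V ((LinearMap.mul' k C) ∘ₗ TensorProduct.map f.toLinearMap g.toLinearMap)

lemma theta_tmul (f g : A →ₐ[k] C) (u : V) (a b : A) :
    theta f g (u ⊗ₜ[k] (a ⊗ₜ[k] b)) = (f a * g b) ⊗ₜ[k] u := by
  simp [theta]

lemma convMul_apply' (f g : A →ₐ[k] C) (a : A) :
    (ofConv (toConv f * toConv g)) a =
      LinearMap.mul' k C (TensorProduct.map f.toLinearMap g.toLinearMap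
        (CoalgebraStruct.comul (R := k) a)) := by
  rfl

lemma act_act_aux1 (f g : A →ₐ[k] C) (y : V ⊗[k] A) :
    bc V (ofConv (toConv f * toConv g)) ((TensorProduct.comm k V A) y) =
      theta f g (LinearMap.lTensor V (CoalgebraStruct.comul (R := k) (A := A)) y) := by
  induction y with
  | zero => simp
  | add x y hx hy => simp only [map_add, hx, hy]
  | tmul u a =>
    rw [TensorProduct.comm_tmul, bc_tmul, LinearMap.lTensor_tmul, convMul_apply']
    simp [theta]

lemma act_act_aux2 (f g : A →ₐ[k] C) (b : A) (y : V ⊗[k] A) :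
    g b • bc V f ((TensorProduct.comm k V A) y) =
      theta f g (TensorProduct.assoc k V A A (y ⊗ₜ[k] b)) := by
  induction y with
  | zero => simp
  | add x y hx hy => simp only [map_add, smul_add, add_tmul, hx, hy]
  | tmul u a =>
    rw [TensorProduct.comm_tmul, bc_tmul, TensorProduct.assoc_tmul, theta_tmul, smul_tmul',
      smul_eq_mul, mul_comm]

lemma act_act_aux3 (f g : A →ₐ[k] C) (y : V ⊗[k] A) :
    act f (bc V g ((TensorProduct.comm k V A) y)) =
      theta f g (TensorProduct.assoc k V A A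
        (LinearMap.rTensor A (HopfRep.Comod.coact (k := k) (A := A) (V := V)) y)) := by
  induction y with
  | zero => simp
  | add x y hx hy => simp only [map_add, hx, hy]
  | tmul u b =>
    rw [TensorProduct.comm_tmul, bc_tmul, act_tmul, LinearMap.rTensor_tmul]
    exact act_act_aux2 f g b _

lemma act_act_one (f g : A →ₐ[k] C) (v : V) :
    act f (bc V g (DV k A V v)) = bc V (ofConv (toConv f * toConv g)) (DV k A V v) := by
  have h := congrArg (fun L => L v) (HopfRep.Comod.coassoc (k := k) (A := A) (V := V))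
  simp only [LinearMap.comp_apply, LinearEquiv.coe_coe] at h
  show act f (bc V g ((TensorProduct.comm k V A) _)) = bc V _ ((TensorProduct.comm k V A) _)
  rw [act_act_aux3, act_act_aux1, h]

lemma act_act (f g : A →ₐ[k] C) (x : C ⊗[k] V) :
    act f (act g x) = act (ofConv (toConv f * toConv g)) x := by
  induction x with
  | zero => simp
  | add x y hx hy => simp only [map_add, hx, hy]
  | tmul c v => rw [act_tmul, act_tmul, map_smul, act_act_one]

end vcalc

end Groth.Agent.H9.MTS5
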