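import Mathlib
import Groth.Prelude.Def_HopfRep
import Groth.Agent.Lib.Helper9.Misc.MTS3
import Groth.Agent.Lib.Helper9.Misc.MTS5
import Groth.Agent.Lib.Helper9.ComodIntegral

set_option autoImplicit false
universe u
open TensorProduct WithConv

namespace Groth.Agent.H9.MTS6
open Groth.Agent.H9.MTS3 Groth.Agent.H9.MTS5

section setup
variable {k : Type u} [Field k] {R A : Type u} [CommRing R] [HopfAlgebra k R]
  [CommRing A] [HopfAlgebra k A] (ψ : R →ₐc[k] A)
variable {B : Type u} [CommRing B] [Algebra k B] [Algebra B R] [IsScalarTower k B R]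
  (hB : ∀ b : B, rho ψ (algebraMap B R b) = algebraMap B R b ⊗ₜ[k] (1 : A))

/-- `ρ` as an algebra map over the invariants -/
noncomputable def rhoB : R →ₐ[B] R ⊗[k] A :=
  { (rho ψ : R →+* R ⊗[k] A) with
    commutes' := fun b => by
      show rho ψ (algebraMap B R b) = algebraMap B R b ⊗ₜ[k] (1 : A)
      exact hB b }

@[simp] lemma rhoB_apply (z : R) : rhoB ψ hB z = rho ψ z := rfl

/-- the canonical map `z ⊗ r ↦ ρ(z) (r ⊗ 1)` -/
noncomputable def canB : R ⊗[B] R →ₐ[B] R ⊗[k] A :=
  Algebra.TensorProduct.productMap (rhoB ψ hB)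
    (Algebra.TensorProduct.includeLeft : R →ₐ[B] R ⊗[k] A)

lemma canB_tmul (z r : R) : canB ψ hB (z ⊗ₜ r) = rho ψ z * (r ⊗ₜ[k] (1 : A)) := rfl

/-- `z ↦ ρ(z) ⊗ 1` over the invariants -/
noncomputable def g1B : R →ₐ[B] (R ⊗[k] A) ⊗[k] A :=
  { ((inl' k R A).comp (rho ψ) : R →+* (R ⊗[k] A) ⊗[k] A) with
    commutes' := fun b => by
      show (inl' k R A) (rho ψ (algebraMap B R b)) =
        (algebraMap B R b ⊗ₜ[k] (1 : A)) ⊗ₜ[k] (1 : A)
      rw [hB]
      rfl }

variable (k R A B) in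
/-- `r ⊗ h ↦ (r ⊗ 1) ⊗ h` over the invariants -/
noncomputable def g2B : R ⊗[k] A →ₐ[B] (R ⊗[k] A) ⊗[k] A :=
  { (pm k R A : R ⊗[k] A →+* (R ⊗[k] A) ⊗[k] A) with
    commutes' := fun b => by
      show (pm k R A) (algebraMap B R b ⊗ₜ[k] (1 : A)) =
        (algebraMap B R b ⊗ₜ[k] (1 : A)) ⊗ₜ[k] (1 : A)
      simp [pm] }

/-- `z ⊗ c ↦ (ρ(z) ⊗ 1) pm(c)` -/
noncomputable def xi0 : R ⊗[B] (R ⊗[k] A) →ₐ[B] (R ⊗[k] A) ⊗[k] A :=
  Algebra.TensorProduct.productMap (g1B ψ hB) (g2B k R A B)

lemma xi0_tmul (z : R) (c : R ⊗[k] A) :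
    xi0 ψ hB (z ⊗ₜ c) = (inl' k R A) (rho ψ z) * (pm k R A) c := rfl

end setup

section maps
variable {k : Type u} [Field k] {R A : Type u} [CommRing R] [HopfAlgebra k R]
  [CommRing A] [HopfAlgebra k A] (ψ : R →ₐc[k] A)
variable {B : Type u} [CommRing B] [Algebra k B] [Algebra B R] [IsScalarTower k B R]
  (hB : ∀ b : B, rho ψ (algebraMap B R b) = algebraMap B R b ⊗ₜ[k] (1 : A))
variable {V : Type u} [AddCommGroup V] [Module k V] [HopfRep.Comod k A V]

lemma xi0_eq (x : R ⊗[B] (R ⊗[k] A)) :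
    xi0 ψ hB x = LinearMap.rTensor A ((canB ψ hB).toLinearMap.restrictScalars k)
      ((TensorProduct.AlgebraTensorModule.assoc k B B R R A).symm x) := by
  induction x with
  | zero => simp
  | add x y hx hy => simp only [map_add, hx, hy]
  | tmul z c =>
    induction c with
    | zero => simp
    | add c d hc hd => simp only [tmul_add, map_add, hc, hd]
    | tmul r h =>
      rw [xi0_tmul, TensorProduct.AlgebraTensorModule.assoc_symm_tmul, LinearMap.rTensor_tmul]
      show _ = (canB ψ hB (z ⊗ₜ r)) ⊗ₜ h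
      rw [canB_tmul]
      simp [pm]

lemma xi0_injective (hcan : Function.Injective (canB ψ hB)) :
    Function.Injective (xi0 ψ hB) := by
  have h1 : Function.Injective
      (LinearMap.rTensor A ((canB ψ hB).toLinearMap.restrictScalars k)) :=
    Module.Flat.rTensor_preserves_injective_linearMap _ hcan
  intro x y hxy
  rw [xi0_eq, xi0_eq] at hxy
  exact (LinearEquiv.injective _) (h1 hxy)

variable (V) in
/-- comparison map into the concrete triple tensor product -/
noncomputable def Xi :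
    R ⊗[B] ((R ⊗[k] A) ⊗[k] V) →ₗ[k] ((R ⊗[k] A) ⊗[k] A) ⊗[k] V :=
  (LinearMap.rTensor V ((xi0 ψ hB).toLinearMap.restrictScalars k)) ∘ₗ
    ((TensorProduct.AlgebraTensorModule.assoc k B B R
      (R ⊗[k] A) V).symm.toLinearMap.restrictScalars k)

lemma Xi_tmul (z : R) (x : (R ⊗[k] A) ⊗[k] V) :
    Xi ψ hB V (z ⊗ₜ x) = (inl' k R A (rho ψ z)) • bc V (pm k R A) x := by
  induction x with
  | zero => simp
  | add x y hx hy => simp only [tmul_add, map_add, smul_add, hx, hy]
  | tmul c v =>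
    show LinearMap.rTensor V _ ((TensorProduct.AlgebraTensorModule.assoc k B B R
      (R ⊗[k] A) V).symm (z ⊗ₜ (c ⊗ₜ v))) = _
    rw [TensorProduct.AlgebraTensorModule.assoc_symm_tmul, LinearMap.rTensor_tmul]
    show (xi0 ψ hB (z ⊗ₜ c)) ⊗ₜ v = _
    rw [xi0_tmul, bc_tmul, smul_tmul', smul_eq_mul]

lemma Xi_injective (hcan : Function.Injective (canB ψ hB)) :
    Function.Injective (Xi ψ hB V) := by
  have h1 : Function.Injective
      (LinearMap.rTensor V ((xi0 ψ hB).toLinearMap.restrictScalars k)) :=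
    Module.Flat.rTensor_preserves_injective_linearMap _ (xi0_injective ψ hB hcan)
  intro x y hxy
  exact (LinearEquiv.injective _) (h1 hxy)

variable (k R B V) in
/-- `(r ⊗ z) ⊗ v ↦ z ⊗ (r ⊗ v)` -/
noncomputable def sh : (R ⊗[k] R) ⊗[k] V →ₗ[k] R ⊗[B] (R ⊗[k] V) :=
  (TensorProduct.mapOfCompatibleSMul B k k R (R ⊗[k] V)) ∘ₗ
    (TensorProduct.assoc k R R V).toLinearMap ∘ₗ
      (LinearMap.rTensor V (TensorProduct.comm k R R).toLinearMap)

lemma sh_tmul (r z : R) (v : V) : sh k R B V ((r ⊗ₜ z) ⊗ₜ v) = z ⊗ₜ (r ⊗ₜ v) := rfl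

variable (V) in
/-- diagonal coaction on `R ⊗ V`, `k`-linear form -/
noncomputable def deltaK : R ⊗[k] V →ₗ[k] (R ⊗[k] A) ⊗[k] V :=
  ((act (inrA k R A)).restrictScalars k) ∘ₗ bc V (rho ψ)

lemma deltaK_apply (n : R ⊗[k] V) :
    deltaK ψ V n = act (inrA k R A) (bc V (rho ψ) n) := rfl

omit [HopfRep.Comod k A V] in
lemma coe_smul_N1 (b : B) (x : (R ⊗[k] A) ⊗[k] V) :
    b • x = ((algebraMap B R b) ⊗ₜ[k] (1 : A)) • x := by
  induction x with
  | zero => simp
  | add x y hx hy => simp only [smul_add, hx, hy]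
  | tmul c v =>
    rw [smul_tmul', smul_tmul']
    congr 1
    induction c with
    | zero => simp
    | add c d hc hd => simp only [smul_add, hc, hd]
    | tmul r h =>
      rw [smul_tmul', smul_eq_mul, Algebra.TensorProduct.tmul_mul_tmul, one_mul,
        Algebra.smul_def]

omit [HopfRep.Comod k A V] in
lemma coe_smul_N (b : B) (x : R ⊗[k] V) : b • x = (algebraMap B R b) • x :=
  (algebraMap_smul R b x).symm

variable (V) in
/-- diagonal coaction on `R ⊗ V`, linear over the invariants -/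
noncomputable def delta : R ⊗[k] V →ₗ[B] (R ⊗[k] A) ⊗[k] V :=
  { deltaK ψ V with
    map_smul' := fun b n => by
      show deltaK ψ V (b • n) = b • deltaK ψ V n
      rw [coe_smul_N1, coe_smul_N, deltaK_apply, deltaK_apply, bc_smul, hB, map_smul] }

lemma delta_apply (n : R ⊗[k] V) :
    delta ψ hB V n = act (inrA k R A) (bc V (rho ψ) n) := rfl

variable (k R A B V) in
/-- trivial coaction on `R ⊗ V`, linear over the invariants -/
noncomputable def iota : R ⊗[k] V →ₗ[B] (R ⊗[k] A) ⊗[k] V :=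
  { bc V (incl k R A) with
    map_smul' := fun b n => by
      show bc V (incl k R A) (b • n) = b • bc V (incl k R A) n
      rw [coe_smul_N1, coe_smul_N, bc_smul]
      rfl }

omit [HopfRep.Comod k A V] in
lemma iota_apply (n : R ⊗[k] V) : iota k R A B V n = bc V (incl k R A) n := rfl

lemma Xi_delta_sh (w : (R ⊗[k] R) ⊗[k] V) :
    Xi ψ hB V ((delta ψ hB V).lTensor R (sh k R B V w)) =
      act (Jh k R A) (bc V ((cc ψ).comp (rho1 ψ)) w) := by
  induction w with
  | zero => simp
  | add x y hx hy => simp only [map_add, hx, hy]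
  | tmul x v =>
    induction x with
    | zero => simp
    | add x y hx hy => simp only [add_tmul, map_add, hx, hy]
    | tmul r z =>
      rw [sh_tmul, LinearMap.lTensor_tmul, Xi_tmul, delta_apply, bc_tmul, bc_act, bc_tmul,
        bc_tmul]
      have e : (pm k R A).comp (inrA k R A) = Jh k R A :=
        Algebra.TensorProduct.productMap_right _ _
      rw [e, ← map_smul, smul_tmul', smul_eq_mul]
      congr 2
      simp [cc, rho1, mul_comm]

lemma Xi_iota_sh (w : (R ⊗[k] R) ⊗[k] V) :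
    Xi ψ hB V ((iota k R A B V).lTensor R (sh k R B V w)) =
      bc V ((cc ψ).comp (incl1 k R A)) w := by
  induction w with
  | zero => simp
  | add x y hx hy => simp only [map_add, hx, hy]
  | tmul x v =>
    induction x with
    | zero => simp
    | add x y hx hy => simp only [add_tmul, map_add, hx, hy]
    | tmul r z =>
      rw [sh_tmul, LinearMap.lTensor_tmul, Xi_tmul, iota_apply, bc_tmul, bc_tmul, bc_tmul,
        smul_tmul', smul_eq_mul]
      congr 1
      simp [cc, incl1, mul_comm]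

end maps

section pit
variable {k : Type u} [Field k] {C : Type u} [CommRing C] [Algebra k C]
variable {V : Type u} [AddCommGroup V] [Module k V]

variable (C) in
/-- `c ⊗ v ↦ π(v) c` -/
noncomputable def pitR (π : V →ₗ[k] k) : C ⊗[k] V →ₗ[C] C :=
  (TensorProduct.AlgebraTensorModule.rid k C C).toLinearMap ∘ₗ
    TensorProduct.AlgebraTensorModule.lTensor C C π

lemma pitR_tmul (π : V →ₗ[k] k) (c : C) (v : V) : pitR C π (c ⊗ₜ v) = π v • c := by
  simp [pitR]

end pit

section descent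
variable {k : Type u} [Field k] {R A : Type u} [CommRing R] [HopfAlgebra k R]
  [CommRing A] [HopfAlgebra k A] (ψ : R →ₐc[k] A)
variable {B : Type u} [CommRing B] [Algebra k B] [Algebra B R] [IsScalarTower k B R]
  (hB : ∀ b : B, rho ψ (algebraMap B R b) = algebraMap B R b ⊗ₜ[k] (1 : A))
variable {V : Type u} [AddCommGroup V] [Module k V] [HopfRep.Comod k A V]

omit [HopfRep.Comod k A V] in
lemma bc_sigma (σ : A →ₗ[k] R) (hσ : ∀ a, ψ (σ a) = a) (y : A ⊗[k] V) :
    bc V (ψ : R →ₐ[k] A) (LinearMap.rTensor V σ y) = y := by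
  induction y with
  | zero => simp
  | add x y hx hy => simp only [map_add, hx, hy]
  | tmul a v =>
    rw [LinearMap.rTensor_tmul, bc_tmul]
    congr 1
    exact hσ a

lemma Jh_mul_Fp : ofConv (toConv (Jh k R A) * toConv (Fp k R A)) = Jc k R A := by
  have h2 := mul_inv_cancel_left (toConv (Jh k R A)) (toConv (Jc k R A))
  exact congrArg ofConv h2

lemma delta_eq_iota (hcan : Function.Injective (canB ψ hB))
    (σ : A →ₗ[k] R) (hσ : ∀ a, ψ (σ a) = a) (v₀ : V) :
    (delta ψ hB V).lTensor R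
        (sh k R B V (bc V (gamma0 k R) (LinearMap.rTensor V σ (DV k A V v₀)))) =
      (iota k R A B V).lTensor R
        (sh k R B V (bc V (gamma0 k R) (LinearMap.rTensor V σ (DV k A V v₀)))) := by
  apply Xi_injective ψ hB hcan
  rw [Xi_delta_sh, Xi_iota_sh, bc_bc, bc_bc, cc_rho1_gamma0, cc_incl1_gamma0]
  have e1 : bc V ((Fp k R A).comp (ψ : R →ₐ[k] A)) (LinearMap.rTensor V σ (DV k A V v₀)) =
      bc V (Fp k R A) (DV k A V v₀) := by
    rw [← bc_bc, bc_sigma ψ σ hσ]
  have e2 : bc V ((Jc k R A).comp (ψ : R →ₐ[k] A)) (LinearMap.rTensor V σ (DV k A V v₀)) =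
      bc V (Jc k R A) (DV k A V v₀) := by
    rw [← bc_bc, bc_sigma ψ σ hσ]
  rw [e1, e2, ← act_one_tmul (Fp k R A), act_act, Jh_mul_Fp, act_one_tmul]

variable (k R B) in
/-- `z ⊗ n ↦ z * π̃(n)` -/
noncomputable def Phi (π : V →ₗ[k] k) : R ⊗[B] (R ⊗[k] V) →ₗ[B] R :=
  (LinearMap.mul' B R) ∘ₗ (LinearMap.lTensor R ((pitR R π).restrictScalars B))

omit [HopfRep.Comod k A V] in
lemma Phi_tmul (π : V →ₗ[k] k) (z : R) (n : R ⊗[k] V) :
    Phi k R B π (z ⊗ₜ n) = z * pitR R π n := rfl

omit [HopfRep.Comod k A V] in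
lemma Phi_sh (π : V →ₗ[k] k) (w : (R ⊗[k] R) ⊗[k] V) :
    Phi k R B π (sh k R B V w) =
      pitR R π (bc V (Algebra.TensorProduct.lmul' k (S := R)) w) := by
  induction w with
  | zero => simp
  | add x y hx hy => simp only [map_add, hx, hy]
  | tmul x v =>
    induction x with
    | zero => simp
    | add x y hx hy => simp only [add_tmul, map_add, hx, hy]
    | tmul r z =>
      rw [sh_tmul, Phi_tmul, bc_tmul, pitR_tmul, pitR_tmul]
      simp [mul_comm]

lemma lmul'_gamma0 :
    (Algebra.TensorProduct.lmul' k (S := R)).comp (gamma0 k R) =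
      (Algebra.ofId k R).comp (Bialgebra.counitAlgHom k R) := by
  have h : push (Algebra.TensorProduct.lmul' k (S := R)) (toConv (gamma0 k R)) = 1 := by
    rw [gamma0, toConv_ofConv, map_mul, map_inv, push_toConv, push_toConv]
    have e1 : (Algebra.TensorProduct.lmul' k (S := R)).comp (inl k R) = AlgHom.id k R := by
      ext; simp
    have e2 : (Algebra.TensorProduct.lmul' k (S := R)).comp (inr k R) = AlgHom.id k R := by
      ext; simp
    rw [e1, e2, inv_mul_cancel]
  exact congrArg ofConv h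

/-- `h ⊗ u ↦ ε(h) π(u)` -/
noncomputable def Eps (π : V →ₗ[k] k) : A ⊗[k] V →ₗ[k] k :=
  (TensorProduct.lid k k).toLinearMap ∘ₗ
    TensorProduct.map (CoalgebraStruct.counit (R := k) (A := A)) π

omit [HopfRep.Comod k A V] in
lemma Eps_tmul (π : V →ₗ[k] k) (h : A) (u : V) :
    Eps (A := A) π (h ⊗ₜ u) = CoalgebraStruct.counit (R := k) h * π u := by
  simp [Eps]

omit [HopfRep.Comod k A V] in
lemma pit_counit_sigma (π : V →ₗ[k] k) (σ : A →ₗ[k] R) (hσ : ∀ a, ψ (σ a) = a)
    (y : A ⊗[k] V) :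
    pitR R π (bc V ((Algebra.ofId k R).comp (Bialgebra.counitAlgHom k R))
      (LinearMap.rTensor V σ y)) = algebraMap k R (Eps π y) := by
  induction y with
  | zero => simp
  | add x y hx hy => simp only [map_add, hx, hy]
  | tmul h u =>
    rw [LinearMap.rTensor_tmul, bc_tmul, pitR_tmul, Eps_tmul]
    have e : CoalgebraStruct.counit (R := k) (σ h) = CoalgebraStruct.counit (R := k) h := by
      rw [← CoalgHomClass.counit_comp_apply ψ (σ h), hσ]
    simp [e, Algebra.ofId_apply, Algebra.smul_def, mul_comm]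

lemma Eps_DV (π : V →ₗ[k] k) (v : V) : Eps π (DV k A V v) = π v := by
  have h := congrArg (fun L => L v) (HopfRep.Comod.counit_comp (k := k) (A := A) (V := V))
  simp only [LinearMap.comp_apply, LinearMap.flip_apply, TensorProduct.mk_apply] at h
  have key : ∀ y : V ⊗[k] A, Eps π ((TensorProduct.comm k V A) y) =
      (TensorProduct.rid k k) ((LinearMap.rTensor k π)
        (LinearMap.lTensor V (CoalgebraStruct.counit (R := k) (A := A)) y)) := by
    intro y
    induction y with
    | zero => simp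
    | add x y hx hy => simp only [map_add, hx, hy]
    | tmul u h => simp [Eps_tmul]
  show Eps π ((TensorProduct.comm k V A) _) = _
  rw [key, h]
  simp

lemma Phi_wbar (π : V →ₗ[k] k) (σ : A →ₗ[k] R) (hσ : ∀ a, ψ (σ a) = a) (v₀ : V) :
    Phi k R B π (sh k R B V (bc V (gamma0 k R) (LinearMap.rTensor V σ (DV k A V v₀)))) =
      algebraMap k R (π v₀) := by
  rw [Phi_sh, bc_bc, lmul'_gamma0, pit_counit_sigma ψ π σ hσ, Eps_DV]

/-- compatibility of a functional with the coaction -/
def IsColin (π : V →ₗ[k] k) : Prop :=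
  LinearMap.rTensor A π ∘ₗ HopfRep.Comod.coact (k := k) (A := A) (V := V) =
    (TensorProduct.mk k k A).flip (1 : A) ∘ₗ π

lemma pit_bc_DV {C : Type u} [CommRing C] [Algebra k C] (π : V →ₗ[k] k)
    (hπc : IsColin (A := A) π) (f : A →ₐ[k] C) (v : V) :
    pitR C π (bc V f (DV k A V v)) = π v • (1 : C) := by
  have h := congrArg (fun L => L v) hπc
  simp only [LinearMap.comp_apply, LinearMap.flip_apply, TensorProduct.mk_apply] at h
  have key : ∀ y : V ⊗[k] A, pitR C π (bc V f ((TensorProduct.comm k V A) y)) =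
      f ((TensorProduct.lid k A) ((LinearMap.rTensor A π) y)) := by
    intro y
    induction y with
    | zero => simp
    | add x y hx hy => simp only [map_add, hx, hy]
    | tmul u a => simp [pitR_tmul]
  show pitR C π (bc V f ((TensorProduct.comm k V A) _)) = _
  rw [key, h]
  simp

lemma pit_delta (π : V →ₗ[k] k) (hπc : IsColin (A := A) π) (n : R ⊗[k] V) :
    pitR (R ⊗[k] A) π (delta ψ hB V n) = rho ψ (pitR R π n) := by
  induction n with
  | zero => simp
  | add x y hx hy => simp only [map_add, hx, hy]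
  | tmul r v =>
    rw [delta_apply, bc_tmul, act_tmul, map_smul, pit_bc_DV π hπc, pitR_tmul, map_smul]
    simp

omit [HopfRep.Comod k A V] in
lemma pit_iota (π : V →ₗ[k] k) (n : R ⊗[k] V) :
    pitR (R ⊗[k] A) π (iota k R A B V n) = (pitR R π n) ⊗ₜ[k] (1 : A) := by
  induction n with
  | zero => simp
  | add x y hx hy => simp only [map_add, add_tmul, hx, hy]
  | tmul r v =>
    rw [iota_apply, bc_tmul, pitR_tmul, pitR_tmul]
    simp [smul_tmul']

lemma pit_inv (π : V →ₗ[k] k) (hπc : IsColin (A := A) π) (n : R ⊗[k] V)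
    (hn : delta ψ hB V n = iota k R A B V n) :
    rho ψ (pitR R π n) = (pitR R π n) ⊗ₜ[k] (1 : A) := by
  rw [← pit_delta ψ hB π hπc, hn, pit_iota]

theorem exists_invariant_section [Module.FaithfullyFlat B R]
    (hB' : ∀ r : R, rho ψ r = r ⊗ₜ[k] (1 : A) → ∃ b : B, algebraMap B R b = r)
    (hcan : Function.Injective (canB ψ hB)) (hψ : Function.Surjective ψ)
    (π : V →ₗ[k] k) (hπ : Function.Surjective π) (hπc : IsColin (A := A) π) :
    ∃ n : R ⊗[k] V, delta ψ hB V n = iota k R A B V n ∧ pitR R π n = 1 := by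
  obtain ⟨v₀, hv₀⟩ := hπ 1
  obtain ⟨σ, hσ⟩ := LinearMap.exists_rightInverse_of_surjective
    ((ψ : R →ₐ[k] A).toLinearMap) (LinearMap.range_eq_top.mpr hψ)
  have hσ' : ∀ a, ψ (σ a) = a := fun a => congrArg (fun L => L a) hσ
  set g : R ⊗[k] V →ₗ[B] (R ⊗[k] A) ⊗[k] V := delta ψ hB V - iota k R A B V with hg
  set wb := sh k R B V (bc V (gamma0 k R) (LinearMap.rTensor V σ (DV k A V v₀))) with hwb
  have h0 : g.lTensor R wb = 0 := by
    rw [hg, LinearMap.lTensor_sub, LinearMap.sub_apply, hwb,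
      delta_eq_iota ψ hB hcan σ hσ' v₀, sub_self]
  have hex := Module.Flat.lTensor_exact R (N := ↥(LinearMap.ker g)) (N' := R ⊗[k] V)
    (N'' := (R ⊗[k] A) ⊗[k] V) (LinearMap.exact_subtype_ker_map g)
  obtain ⟨mt, hmt⟩ := (hex wb).mp h0
  let I : Ideal B := Submodule.comap (Algebra.linearMap B R)
    (Submodule.map ((pitR R π).restrictScalars B) (LinearMap.ker g))
  have key : ∀ m : R ⊗[B] ↥(LinearMap.ker g),
      Phi k R B π ((LinearMap.ker g).subtype.lTensor R m) ∈ Ideal.map (algebraMap B R) I := by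
    intro m
    induction m with
    | zero => simp
    | add x y hx hy =>
      simp only [map_add]
      exact Ideal.add_mem _ hx hy
    | tmul z m =>
      rw [LinearMap.lTensor_tmul, Phi_tmul]
      have hm : delta ψ hB V m.1 = iota k R A B V m.1 := by
        have h3 : delta ψ hB V m.1 - iota k R A B V m.1 = 0 := m.2
        exact sub_eq_zero.mp h3
      obtain ⟨b, hb⟩ := hB' _ (pit_inv ψ hB π hπc m.1 hm)
      have hbI : b ∈ I := ⟨m.1, m.2, hb.symm⟩
      show z * pitR R π m.1 ∈ _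
      rw [← hb]
      exact Ideal.mul_mem_left _ z (Ideal.mem_map_of_mem _ hbI)
  have h1 : (1 : R) ∈ Ideal.map (algebraMap B R) I := by
    have := key mt
    rw [hmt, hwb, Phi_wbar ψ π σ hσ' v₀, hv₀, map_one] at this
    exact this
  have hI : I = ⊤ := by
    rw [← Ideal.comap_map_eq_self_of_faithfullyFlat (B := R) I,
      (Ideal.eq_top_iff_one _).mpr h1, Ideal.comap_top]
  have h1I : (1 : B) ∈ I := hI ▸ Submodule.mem_top
  obtain ⟨n, hn, hn1⟩ := h1I
  refine ⟨n, ?_, ?_⟩
  · have h3 : delta ψ hB V n - iota k R A B V n = 0 := hn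
    exact sub_eq_zero.mp h3
  · rw [show pitR R π n = ((pitR R π).restrictScalars B) n from rfl, hn1]
    simp

end descent

section final
variable {k : Type u} [Field k] {R A : Type u} [CommRing R] [HopfAlgebra k R]
  [CommRing A] [HopfAlgebra k A] (ψ : R →ₐc[k] A)
variable {B : Type u} [CommRing B] [Algebra k B] [Algebra B R] [IsScalarTower k B R]
  (hB : ∀ b : B, rho ψ (algebraMap B R b) = algebraMap B R b ⊗ₜ[k] (1 : A))
variable {V : Type u} [AddCommGroup V] [Module k V] [HopfRep.Comod k A V]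

variable (V) in
/-- `r ⊗ v ↦ α(r) v` -/
noncomputable def av (α : R →ₗ[k] k) : R ⊗[k] V →ₗ[k] V :=
  (TensorProduct.lid k V).toLinearMap ∘ₗ α.rTensor V

omit [HopfRep.Comod k A V] in
lemma av_tmul (α : R →ₗ[k] k) (r : R) (v : V) : av V α (r ⊗ₜ v) = α r • v := by
  simp [av]

variable (A) in
/-- `r ⊗ h ↦ α(r) h` -/
noncomputable def aA (α : R →ₗ[k] k) : R ⊗[k] A →ₗ[k] A :=
  (TensorProduct.lid k A).toLinearMap ∘ₗ α.rTensor A

lemma aA_tmul (α : R →ₗ[k] k) (r : R) (h : A) : aA A α (r ⊗ₜ h) = α r • h := by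
  simp [aA]

omit [HopfRep.Comod k A V] in
lemma pi_av (π : V →ₗ[k] k) (α : R →ₗ[k] k) (n : R ⊗[k] V) :
    π (av V α n) = α (pitR R π n) := by
  induction n with
  | zero => simp
  | add x y hx hy => simp only [map_add, hx, hy]
  | tmul r v => simp [av_tmul, pitR_tmul, mul_comm]

lemma aA_rho (α : R →ₗ[k] k) (hα : Groth.Agent.H9.Integral.IsIntegral α) (r : R) :
    aA A α (rho ψ r) = α r • (1 : A) := by
  have key : ∀ x : R ⊗[k] R,
      aA A α ((Algebra.TensorProduct.map (AlgHom.id k R) (ψ : R →ₐ[k] A)) x) =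
        ψ (TensorProduct.lid k R (LinearMap.rTensor R α x)) := by
    intro x
    induction x with
    | zero => simp
    | add x y hx hy => simp only [map_add, hx, hy]
    | tmul a b => simp [aA_tmul]
  show aA A α ((Algebra.TensorProduct.map (AlgHom.id k R) (ψ : R →ₐ[k] A))
    (CoalgebraStruct.comul (R := k) r)) = _
  rw [key, hα r, map_smul, map_one]

omit [HopfRep.Comod k A V] in
lemma a1_act (α : R →ₗ[k] k) (c : R ⊗[k] A) (y : A ⊗[k] V) :
    LinearMap.rTensor V (aA A α) (c • bc V (inrA k R A) y) = (aA A α c) • y := by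
  induction y with
  | zero => simp
  | add x y hx hy => simp only [map_add, smul_add, hx, hy]
  | tmul h' u =>
    induction c with
    | zero => simp
    | add c d hc hd => simp only [add_smul, map_add, hc, hd]
    | tmul r h =>
      rw [bc_tmul, smul_tmul', LinearMap.rTensor_tmul, aA_tmul, smul_tmul']
      congr 1
      simp [aA_tmul]

lemma a1_delta (α : R →ₗ[k] k) (hα : Groth.Agent.H9.Integral.IsIntegral α) (n : R ⊗[k] V) :
    LinearMap.rTensor V (aA A α) (delta ψ hB V n) = DV k A V (av V α n) := by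
  induction n with
  | zero => simp
  | add x y hx hy => simp only [map_add, hx, hy]
  | tmul r v =>
    rw [delta_apply, bc_tmul, act_tmul, a1_act, aA_rho ψ α hα, av_tmul, map_smul, smul_assoc,
      one_smul]

omit [HopfRep.Comod k A V] in
lemma a1_iota (α : R →ₗ[k] k) (n : R ⊗[k] V) :
    LinearMap.rTensor V (aA A α) (iota k R A B V n) = (1 : A) ⊗ₜ[k] av V α n := by
  induction n with
  | zero => simp
  | add x y hx hy => simp only [map_add, tmul_add, hx, hy]
  | tmul r v =>
    rw [iota_apply, bc_tmul, LinearMap.rTensor_tmul, av_tmul]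
    show aA A α (r ⊗ₜ[k] (1 : A)) ⊗ₜ[k] v = _
    rw [aA_tmul, smul_tmul]

/-- Main algebraic statement: invariant section from a Galois-type faithfully flat quotient. -/
theorem exists_fixed [Module.FaithfullyFlat B R]
    (hB' : ∀ r : R, rho ψ r = r ⊗ₜ[k] (1 : A) → ∃ b : B, algebraMap B R b = r)
    (hcan : Function.Injective (canB ψ hB)) (hψ : Function.Surjective ψ)
    (α : R →ₗ[k] k) (hα : Groth.Agent.H9.Integral.IsIntegral α) (h1 : α 1 = 1)
    (π : V →ₗ[k] k) (hπ : Function.Surjective π)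
    (hπc : LinearMap.rTensor A π ∘ₗ HopfRep.Comod.coact (k := k) (A := A) (V := V) =
      (TensorProduct.mk k k A).flip (1 : A) ∘ₗ π) :
    ∃ v ∈ HopfRep.fixedPts k A V, π v ≠ 0 := by
  obtain ⟨n, hn, hn1⟩ := exists_invariant_section ψ hB hB' hcan hψ π hπ hπc
  refine ⟨av V α n, ?_, ?_⟩
  · have h2 : DV k A V (av V α n) = (1 : A) ⊗ₜ[k] av V α n := by
      rw [← a1_delta ψ hB α hα, hn, a1_iota]
    show HopfRep.Comod.coact (k := k) (A := A) (av V α n) = av V α n ⊗ₜ[k] (1 : A)
    have h3 := congrArg (TensorProduct.comm k V A).symm h2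
    simpa [DV] using h3
  · rw [pi_av, hn1, h1]
    exact one_ne_zero

end final

end Groth.Agent.H9.MTS6
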