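import Mathlib
import Groth.Prelude.Def_CoactBr
import Groth.Prelude.Def_RedSub
import Groth.Agent.Lib.Helper9.Misc.MTS2
import Groth.Agent.Lib.Helper9.Misc.MTS6
import Groth.Agent.Lib.Helper9.LR.Basic
import Groth.Agent.Lib.Helper9.ComodHomLR

set_option autoImplicit false
universe u
open CategoryTheory Limits AlgebraicGeometry TensorProduct MonoidalCategory
  CartesianMonoidalCategory MonObj Opposite

namespace Groth.Agent.H9.MTS7
open Groth.Agent.H9.MTS

section geom
variable {R : Type u} [CommRing R] {Y : Scheme.{u}} (q : Spec (CommRingCat.of R) ⟶ Y)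

lemma comp_isoSpec [IsAffine Y] :
    q ≫ Y.isoSpec.hom = Spec.map (CommRingCat.ofHom (F q)) := by
  rw [← Scheme.isoSpec_hom_naturality, Scheme.isoSpec_Spec_hom, ← Spec.map_comp]
  rfl

lemma faithfullyFlat_F [IsAffine Y] [Flat q] [Surjective q] : (F q).FaithfullyFlat := by
  have h := (flat_and_surjective_SpecMap_iff (CommRingCat.ofHom (F q))).mp
    ⟨by rw [← comp_isoSpec]; infer_instance, by rw [← comp_isoSpec]; infer_instance⟩
  exact h

end geom

section pb

lemma bijective_of_isPullback {B R S : Type u} [CommRing B] [CommRing R] [CommRing S]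
    [Algebra B R] (a b : R →+* S) (c : R ⊗[B] R →+* S)
    (hca : ∀ z, c (z ⊗ₜ 1) = a z) (hcb : ∀ r, c (1 ⊗ₜ r) = b r)
    (h : IsPullback (Spec.map (CommRingCat.ofHom a)) (Spec.map (CommRingCat.ofHom b))
      (Spec.map (CommRingCat.ofHom (algebraMap B R)))
      (Spec.map (CommRingCat.ofHom (algebraMap B R)))) :
    Function.Bijective c := by
  have h1 := isPullback_SpecMap_of_isPushout _ _ _ _ (CommRingCat.isPushout_tensorProduct B R R)
  have e1 : Spec.map (CommRingCat.ofHom c) ≫
      Spec.map (CommRingCat.ofHom (S := R ⊗[B] R) Algebra.TensorProduct.includeLeftRingHom) =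
      Spec.map (CommRingCat.ofHom a) := by
    rw [← Spec.map_comp]
    congr 1
    ext z
    exact hca z
  have e2 : Spec.map (CommRingCat.ofHom c) ≫
      Spec.map (CommRingCat.ofHom (S := R ⊗[B] R)
        (Algebra.TensorProduct.includeRight (R := B) (A := R) (B := R)).toRingHom) =
      Spec.map (CommRingCat.ofHom b) := by
    rw [← Spec.map_comp]
    congr 1
    ext z
    exact hcb z
  have e3 : Spec.map (CommRingCat.ofHom c) = (h.isoIsPullback _ _ h1).hom := by
    apply h1.hom_ext
    · rw [e1, IsPullback.isoIsPullback_hom_fst]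
    · rw [e2, IsPullback.isoIsPullback_hom_snd]
  have hiso : IsIso (Spec.map (CommRingCat.ofHom c)) := by
    rw [e3]; infer_instance
  have hiso' : IsIso (CommRingCat.ofHom c) := by
    have h2 : IsIso (Scheme.Spec.map (CommRingCat.ofHom c).op) := hiso
    have h3 : IsIso (CommRingCat.ofHom c).op := isIso_of_reflects_iso _ Scheme.Spec
    exact isIso_of_op _
  exact ConcreteCategory.bijective_of_isIso (CommRingCat.ofHom c)

end pb

noncomputable local instance braidedAlgSpecOf'' (R : Type u) [CommRing R] :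
    (algSpec (CommRingCat.of R)).Braided := braidedAlgSpec

section main
variable {k : Type u} [Field k] {AG AH : Type u} [CommRing AG] [HopfAlgebra k AG]
  [CommRing AH] [HopfAlgebra k AH]

/-- the structure map of a scheme over `Spec k`, on global functions -/
noncomputable def kHom (Q : Over (Spec (CommRingCat.of k))) : k →+* Γ(Q.left, ⊤) :=
  (Q.hom.appTop.hom).comp (Scheme.ΓSpecIso (CommRingCat.of k)).inv.hom

lemma F_kHom {Q : Over (Spec (CommRingCat.of k))} (q : CoactBr.sp k AG ⟶ Q) (c : k) :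
    F (R := AG) q.left (kHom Q c) = algebraMap k AG c := by
  let q₀ : Spec (CommRingCat.of AG) ⟶ Q.left := q.left
  have hw : q₀ ≫ Q.hom = Spec.map (CommRingCat.ofHom (algebraMap k AG)) := Over.w q
  have e1 := congrArg (fun m => m.appTop.hom ((Scheme.ΓSpecIso (CommRingCat.of k)).inv.hom c)) hw
  simp only [Scheme.Hom.comp_appTop, CommRingCat.hom_comp, RingHom.comp_apply] at e1
  have e2 := congrArg (fun m => m.hom c)
    (Scheme.ΓSpecIso_inv_naturality (CommRingCat.ofHom (algebraMap k AG)))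
  simp only [CommRingCat.hom_comp, RingHom.comp_apply, CommRingCat.hom_ofHom] at e2
  show (Scheme.ΓSpecIso (CommRingCat.of AG)).hom.hom (q₀.appTop.hom
    (Q.hom.appTop.hom ((Scheme.ΓSpecIso (CommRingCat.of k)).inv.hom c))) = _
  rw [e1, ← e2]
  exact congrArg (fun m => m.hom (algebraMap k AG c))
    (Scheme.ΓSpecIso (CommRingCat.of AG)).inv_hom_id

/-- **Matsushima, converse direction**: a closed subgroup of a linearly reductive group with
affine quotient is linearly reductive. -/
theorem isLinearlyReductive_of_isAffine [Algebra.FiniteType k AG]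
    (hG : HopfRep.IsLinearlyReductive k AG) (ψ : AG →ₐc[k] AH) (hψ : Function.Surjective ψ)
    {Q : Over (Spec (CommRingCat.of k))} (q : CoactBr.sp k AG ⟶ Q)
    [IsMonHom (CoactBr.pt (ψ : AG →ₐ[k] AH))]
    (hq : RedSub.IsQuotient (CoactBr.pt (ψ : AG →ₐ[k] AH)) q) (hQ : IsAffine Q.left) :
    HopfRep.IsLinearlyReductive k AH := by
  letI := comodOf ψ
  haveI := isCoactAlg_comodOf ψ
  obtain ⟨hsurj, hflat, -, hpb⟩ := hq
  let q₀ : Spec (CommRingCat.of AG) ⟶ Q.left := q.left
  haveI : Surjective q₀ := hsurj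
  haveI : Flat q₀ := hflat
  haveI : QuasiCompact q₀ := quasiCompact_of_finiteType (k := k) q₀
  have hpb' := isPullback_spec ψ q hpb
  letI algB : Algebra Γ(Q.left, ⊤) AG := (F q₀).toAlgebra
  letI algk : Algebra k Γ(Q.left, ⊤) := (kHom Q).toAlgebra
  haveI : IsScalarTower k Γ(Q.left, ⊤) AG :=
    IsScalarTower.of_algebraMap_eq (fun c => (F_kHom q c).symm)
  have hB : ∀ b : Γ(Q.left, ⊤), MTS3.rho ψ (algebraMap Γ(Q.left, ⊤) AG b) =
      algebraMap Γ(Q.left, ⊤) AG b ⊗ₜ[k] (1 : AH) :=
    fun b => F_mem_fixedPts q₀ hpb'.w b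
  have hB' : ∀ r : AG, MTS3.rho ψ r = r ⊗ₜ[k] (1 : AH) →
      ∃ b : Γ(Q.left, ⊤), algebraMap Γ(Q.left, ⊤) AG b = r :=
    fun r hr => exists_F_eq q₀ hpb' (f := r) hr
  haveI : Module.FaithfullyFlat Γ(Q.left, ⊤) AG :=
    RingHom.faithfullyFlat_algebraMap_iff.mp (faithfullyFlat_F q₀)
  have hcan : Function.Injective (MTS6.canB ψ hB) := by
    have hpb2 : IsPullback (Spec.map (CommRingCat.ofHom (rho k AG AH)))
        (Spec.map (CommRingCat.ofHom (incl k AG AH)))
        (Spec.map (CommRingCat.ofHom (algebraMap Γ(Q.left, ⊤) AG)))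
        (Spec.map (CommRingCat.ofHom (algebraMap Γ(Q.left, ⊤) AG))) := by
      refine IsPullback.of_iso hpb'.flip (Iso.refl _) (Iso.refl _) (Iso.refl _) Q.left.isoSpec
        (by simp) (by simp) ?_ ?_
      · simp only [Iso.refl_hom, Category.id_comp]
        exact comp_isoSpec q₀
      · simp only [Iso.refl_hom, Category.id_comp]
        exact comp_isoSpec q₀
    have hbij := bijective_of_isPullback (rho k AG AH) (incl k AG AH)
      ((MTS6.canB ψ hB : AG ⊗[Γ(Q.left, ⊤)] AG →ₐ[Γ(Q.left, ⊤)] AG ⊗[k] AH) :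
        AG ⊗[Γ(Q.left, ⊤)] AG →+* AG ⊗[k] AH)
      (fun z => by
        show MTS6.canB ψ hB (z ⊗ₜ 1) = _
        rw [MTS6.canB_tmul, ← Algebra.TensorProduct.one_def, _root_.mul_one]
        rfl)
      (fun r => by
        show MTS6.canB ψ hB (1 ⊗ₜ r) = _
        rw [MTS6.canB_tmul, map_one, _root_.one_mul]
        rfl)
      hpb2
    exact hbij.1
  obtain ⟨α, hα, h1⟩ := Groth.Agent.H9.LR.isLinearlyReductive_iff_exists_integral.mp hG
  apply Groth.Agent.H9.ComodHomLR.isLinearlyReductive_of_crit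
  intro V _ _ _ hfin π hπ hπc
  exact MTS6.exists_fixed ψ hB hB' hcan hψ α hα h1 π hπ hπc

end main

end Groth.Agent.H9.MTS7
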