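import Mathlib

set_option autoImplicit false
set_option linter.style.haveILetI false
set_option linter.unusedSectionVars false
set_option linter.unusedVariables false

namespace Groth.Agent.H9.MUK

/-- pure integer version -/
theorem int_version (n h s r d χ p q : ℤ) (hn : 0 < n) (hodge : 4 * n * p * q ≤ h ^ 2)
    (hr : 2 ≤ r) (hd : 0 < d) (hχ : χ < 0) (hp : 0 ≤ p)
    (hs : s = 2 * p * q)
    (hvu : 1 ≤ |d * h - r * q - χ * p| ∧ |d * h - r * q - χ * p| ≤ 2)
    (hexc : ¬ (d = 1 ∧ χ = -1 ∧ h = 1 ∧ s = 0))
    (hr2 : r = 2 → ¬ (p = 0 ∧ h = 0)) :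
    (0 ≤ 2 * n * d * p - r * h ↔ 0 ≤ χ * h - 2 * n * d * q) := by
  obtain ⟨he1, he2⟩ := hvu
  set e := d * h - r * q - χ * p with he
  have hele : e ≤ 2 := le_trans (le_abs_self e) he2
  have hege : -2 ≤ e := by
    have := neg_abs_le e
    linarith
  rcases hp.eq_or_lt with hp0 | hppos
  · -- p = 0
    have hp0' : p = 0 := hp0.symm
    subst hp0'
    simp only [mul_zero, zero_sub] at *
    constructor
    · intro hX
      have hh : h ≤ 0 := by nlinarith
      -- r q = d h - e
      have hrq : r * q = d * h - e := by rw [he]; ring
      by_cases hq : q ≤ 0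
      · nlinarith [mul_nonneg (neg_nonneg.mpr hχ.le) (neg_nonneg.mpr hh), mul_nonneg (mul_nonneg hn.le hd.le) (neg_nonneg.mpr hq)]
      · push Not at hq
        exfalso
        have hq1 : 1 ≤ q := hq
        have hdh : d * h ≤ 0 := by nlinarith
        have h1 : r * q ≥ r := by nlinarith
        have h2 : r ≤ 2 := by nlinarith
        have hr2' : r = 2 := le_antisymm h2 hr
        have hq1' : q = 1 := by nlinarith
        have hdh0 : d * h = 0 := by nlinarith
        have hh0 : h = 0 := by
          rcases mul_eq_zero.mp hdh0 with h' | h'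
          · omega
          · exact h'
        exact hr2 hr2' ⟨trivial, hh0⟩
    · intro hY
      by_contra hX
      push Not at hX
      have hh : 0 < h := by nlinarith
      have hrq : r * q = d * h - e := by rw [he]; ring
      have hq : 0 ≤ q := by
        by_contra hq
        push Not at hq
        have : r * q ≤ -r := by nlinarith
        nlinarith
      nlinarith [mul_pos (neg_pos.mpr hχ) hh, mul_nonneg (mul_nonneg hn.le hd.le) hq]
  · rcases le_or_gt q 0 with hq | hq
    · -- q ≤ 0: both sides hold
      have hdh : d * h = e + r * q + χ * p := by rw [he]; ring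
      have hχp : χ * p ≤ -1 := by nlinarith
      have hrq : r * q ≤ 0 := by nlinarith
      have hdh1 : d * h ≤ 1 := by nlinarith
      have hh : h ≤ 0 := by
        by_contra hh
        push Not at hh
        have hh1 : 1 ≤ h := hh
        have hd1 : d = 1 := by nlinarith
        have hh1' : h = 1 := by nlinarith
        subst hd1
        subst hh1'
        have h3 : e = 2 ∧ r * q = 0 ∧ χ * p = -1 := by
          refine ⟨by nlinarith, by nlinarith, by nlinarith⟩
        have hq0 : q = 0 := by
          rcases mul_eq_zero.mp h3.2.1 with h' | h'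
          · omega
          · exact h'
        have hχ1 : χ = -1 := by nlinarith
        exact hexc ⟨rfl, hχ1, rfl, by rw [hs, hq0]; ring⟩
      constructor
      · intro _
        nlinarith [mul_nonneg (mul_nonneg hn.le hd.le) (neg_nonneg.mpr hq), mul_nonneg (neg_nonneg.mpr hχ.le) (neg_nonneg.mpr hh)]
      · intro _
        nlinarith [mul_nonneg (mul_nonneg hn.le hd.le) hp, mul_nonneg (by linarith : (0:ℤ) ≤ r) (neg_nonneg.mpr hh)]
    · -- q > 0, p > 0
      have hpq : 0 < p * q := mul_pos hppos hq
      have hh2 : 0 < h ^ 2 := by nlinarith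
      have hh0 : h ≠ 0 := by
        intro h0; rw [h0] at hh2; simp at hh2
      rcases lt_or_gt_of_ne hh0 with hneg | hpos
      · -- h < 0 : both hold
        have hX : 0 ≤ 2 * n * d * p - r * h := by
          nlinarith [mul_pos (mul_pos hn hd) hppos, mul_pos (by linarith : (0:ℤ) < r) (neg_pos.mpr hneg)]
        have hY : 0 ≤ χ * h - 2 * n * d * q := by
          -- p * Y > 0
          have hχp : χ * p = d * h - r * q - e := by rw [he]; ring
          have key : 0 < p * (χ * h - 2 * n * d * q) := by
            have e1 : p * (χ * h - 2 * n * d * q) = (χ * p) * h - 2 * n * d * (p * q) := by ring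
            rw [e1, hχp]
            have e2 : (d * h - r * q - e) * h - 2 * n * d * (p * q)
                = d * (h ^ 2 - 4 * n * p * q) + 2 * n * d * (p * q) + (r * q + e) * (-h) := by ring
            rw [e2]
            have t1 : 0 ≤ d * (h ^ 2 - 4 * n * p * q) := mul_nonneg hd.le (by linarith)
            have t2 : 0 < 2 * n * d * (p * q) := by positivity
            have t3 : 0 ≤ (r * q + e) * (-h) := by
              apply mul_nonneg _ (by linarith)
              nlinarith
            linarith
          by_contra hcon
          push Not at hcon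
          nlinarith
        exact ⟨fun _ => hY, fun _ => hX⟩
      · -- h > 0 : both fail
        have hY : χ * h - 2 * n * d * q < 0 := by
          nlinarith [mul_pos (mul_pos hn hd) hq, mul_pos (neg_pos.mpr hχ) hpos]
        have hX : 2 * n * d * p - r * h < 0 := by
          have hrq : r * q = d * h - χ * p - e := by rw [he]; ring
          by_cases hdh : 2 < d * h
          · -- q X < 0
            have key : q * (2 * n * d * p - r * h) < 0 := by
              have e1 : q * (2 * n * d * p - r * h) = 2 * n * d * (p * q) - (r * q) * h := by ring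
              rw [e1, hrq]
              -- 2 n d p q - (d h - χ p - e) h
              have hχp : 1 ≤ -(χ * p) := by nlinarith
              have t1 : 2 * (2 * n * d * (p * q)) ≤ d * h ^ 2 := by nlinarith
              nlinarith
            by_contra hcon
            push Not at hcon
            nlinarith
          · push Not at hdh
            -- d h ≤ 2, h^2 ≥ 4 n p q ≥ 4
            have hnpq : 1 ≤ n * (p * q) := by
              have : 0 < n * (p * q) := mul_pos hn hpq
              linarith
            have hh4 : 4 ≤ h ^ 2 := by nlinarith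
            have hh2' : 2 ≤ h := by nlinarith
            have hd1 : d = 1 := by nlinarith
            have hh2'' : h = 2 := by nlinarith
            subst hd1
            subst hh2''
            have hnpq1 : n * (p * q) = 1 := by nlinarith
            have hn1 : n = 1 := by
              have h1 : n ∣ 1 := ⟨p * q, hnpq1.symm⟩
              exact Int.eq_one_of_dvd_one hn.le h1
            have hpq1 : p * q = 1 := by rw [hn1] at hnpq1; linarith
            have hp1 : p = 1 := by
              have h1 : p ∣ 1 := ⟨q, hpq1.symm⟩
              exact Int.eq_one_of_dvd_one hppos.le h1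
            subst hn1
            subst hp1
            nlinarith
        constructor
        · intro h'; linarith
        · intro h'; linarith

theorem main
    (N : Type*) [AddCommGroup N] (B : LinearMap.BilinForm ℤ N) (hB : ∀ x y : N, B x y = B y x)
    (H : N) (n : ℤ) (hn : 0 < n) (hH : B H H = 2 * n) (hodge : ∀ x : N, B x H = 0 → B x x ≤ 0)
    (r d χ p q : ℤ) (η : N) (hr : 2 ≤ r) (hd : 0 < d) (hχ : χ < 0) (hp : 0 ≤ p)
    (hiso : B η η = 2 * p * q)
    (hvu : 1 ≤ |d * B H η - r * q - χ * p| ∧ |d * B H η - r * q - χ * p| ≤ 2)
    (hexc : ¬ (d = 1 ∧ χ = -1 ∧ B H η = 1 ∧ B η η = 0))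
    (hr2 : r = 2 → ¬ (p = 0 ∧ B H η = 0)) :
    (0 ≤ 2 * n * d * p - r * B H η ↔ 0 ≤ χ * B H η - 2 * n * d * q) := by
  apply int_version n (B H η) (B η η) r d χ p q hn _ hr hd hχ hp hiso hvu hexc hr2
  -- Hodge index applied to x = 2n η - h H
  set h := B H η with hh
  have hx := hodge ((2 * n) • η - h • H) (by
    simp only [map_sub, map_smul, LinearMap.sub_apply, LinearMap.smul_apply, smul_eq_mul]
    rw [hB η H, hH, ← hh]; ring)
  simp only [map_sub, map_smul, LinearMap.sub_apply, LinearMap.smul_apply, smul_eq_mul] at hx
  rw [hB η H, hH, hiso, ← hh] at hx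
  -- hx : 2n(2n * 2pq - h*h) - h(2n h - h 2n) ≤ 0
  nlinarith

end Groth.Agent.H9.MUK
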