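import Mathlib
set_option autoImplicit false
set_option linter.unusedSectionVars false
set_option linter.unusedVariables false

namespace Groth.Agent.H9.MacM

open scoped TensorProduct
open PiTensorProduct

section Counts

variable {ι : Type*} [Fintype ι] [DecidableEq ι] {n : ℕ}

def cnt (p : Fin n → ι) : ι → ℕ := fun j => (Finset.univ.filter (fun i => p i = j)).card

theorem cnt_comp (p : Fin n → ι) (σ : Equiv.Perm (Fin n)) : cnt (p ∘ σ) = cnt p := by
  funext j
  unfold cnt
  exact Finset.card_equiv σ (fun i => by simp)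

theorem sum_cnt (p : Fin n → ι) : ∑ j, cnt p j = n := by
  unfold cnt
  have := Finset.card_eq_sum_card_fiberwise (s := (Finset.univ : Finset (Fin n)))
    (t := (Finset.univ : Finset ι)) (f := p) (fun x _ => Finset.mem_univ _)
  rw [← this]; simp

theorem exists_perm_of_cnt_eq (p q : Fin n → ι) (h : cnt p = cnt q) :
    ∃ σ : Equiv.Perm (Fin n), q = p ∘ σ := by
  have hc : ∀ j, Fintype.card {i // q i = j} = Fintype.card {i // p i = j} := by
    intro j
    rw [Fintype.card_subtype, Fintype.card_subtype]
    exact (congrFun h j).symm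
  let e : ∀ j, {i // q i = j} ≃ {i // p i = j} := fun j => Fintype.equivOfCardEq (hc j)
  refine ⟨(Equiv.sigmaFiberEquiv q).symm.trans
    ((Equiv.sigmaCongrRight e).trans (Equiv.sigmaFiberEquiv p)), ?_⟩
  funext i
  have := (e (q i) ⟨i, rfl⟩).2
  exact this.symm

theorem exists_of_sum_eq (α : ι → ℕ) (h : ∑ j, α j = n) : ∃ p : Fin n → ι, cnt p = α := by
  have hcard : Fintype.card (Fin n) = Fintype.card (Σ j, Fin (α j)) := by
    rw [Fintype.card_sigma]; simp [h]
  let e : Fin n ≃ Σ j, Fin (α j) := Fintype.equivOfCardEq hcard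
  refine ⟨fun i => (e i).1, ?_⟩
  funext j
  unfold cnt
  rw [← Fintype.card_subtype]
  have e2 : {i // (e i).1 = j} ≃ Fin (α j) :=
    (e.subtypeEquiv (p := fun i => (e i).1 = j) (q := fun x => x.1 = j)
      (fun i => Iff.rfl)).trans (Equiv.sigmaSubtype j)
  rw [Fintype.card_congr e2, Fintype.card_fin]

variable (ι n) in
abbrev TT : Type _ := ↥((Finset.univ : Finset ι).finsuppAntidiag n)

noncomputable def typ (p : Fin n → ι) : TT ι n :=
  ⟨Finsupp.equivFunOnFinite.symm (cnt p), by
    rw [Finset.mem_finsuppAntidiag]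
    refine ⟨?_, Finset.subset_univ _⟩
    simpa using sum_cnt p⟩

theorem typ_apply (p : Fin n → ι) (j : ι) : (typ p).1 j = cnt p j := rfl

theorem exists_rep (t : TT ι n) : ∃ p : Fin n → ι, cnt p = fun j => t.1 j :=
  exists_of_sum_eq (fun j => t.1 j) (by
    have := (Finset.mem_finsuppAntidiag.1 t.2).1
    simpa using this)

noncomputable def rep (t : TT ι n) : Fin n → ι := Classical.choose (exists_rep t)

theorem cnt_rep (t : TT ι n) : cnt (rep t) = fun j => t.1 j := Classical.choose_spec (exists_rep t)

theorem typ_rep (t : TT ι n) : typ (rep t) = t := by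
  apply Subtype.ext; ext j; rw [typ_apply, cnt_rep]

theorem typ_comp (p : Fin n → ι) (σ : Equiv.Perm (Fin n)) : typ (p ∘ σ) = typ p := by
  apply Subtype.ext; ext j; rw [typ_apply, typ_apply, cnt_comp]

theorem exists_perm_of_typ_eq (p q : Fin n → ι) (h : typ p = typ q) :
    ∃ σ : Equiv.Perm (Fin n), q = p ∘ σ := by
  apply exists_perm_of_cnt_eq
  funext j
  have := congrArg (fun t : TT ι n => t.1 j) h
  simpa [typ_apply] using this

end Counts

end Groth.Agent.H9.MacM
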