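import Mathlib
import Groth.Agent.Lib.Helper9.Misc.MacM1
set_option autoImplicit false
set_option linter.unusedSectionVars false
set_option linter.unusedVariables false

namespace Groth.Agent.H9.MacM

open scoped TensorProduct
open PiTensorProduct

section Trace

variable {A : Type*} [CommRing A] {M : Type*} [AddCommGroup M] [Module A M]
variable {d n : ℕ} (b : Module.Basis (Fin d) A M)

/-- the tensor basis -/
noncomputable abbrev BB : Module.Basis (Fin n → Fin d) A (⨂[A] _i : Fin n, M) :=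
  Basis.piTensorProduct (fun _ : Fin n => b)

theorem BB_apply (p : Fin n → Fin d) : BB (n := n) b p = ⨂ₜ[A] i, b (p i) :=
  Basis.piTensorProduct_apply _ p

theorem reindex_BB (σ : Equiv.Perm (Fin n)) (p : Fin n → Fin d) :
    PiTensorProduct.reindex A (fun _ : Fin n => M) σ (BB (n := n) b p) =
      BB (n := n) b (p ∘ σ.symm) := by
  rw [BB_apply, PiTensorProduct.reindex_tprod, BB_apply]
  rfl

theorem repr_reindex (σ : Equiv.Perm (Fin n)) (x : ⨂[A] _i : Fin n, M) (q : Fin n → Fin d) :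
    (BB (n := n) b).repr (PiTensorProduct.reindex A (fun _ : Fin n => M) σ x) q =
      (BB (n := n) b).repr x (q ∘ σ) := by
  classical
  have : (Finsupp.lapply q : _ →ₗ[A] A) ∘ₗ (BB (n := n) b).repr.toLinearMap ∘ₗ
      (PiTensorProduct.reindex A (fun _ : Fin n => M) σ).toLinearMap =
      (Finsupp.lapply (q ∘ σ) : _ →ₗ[A] A) ∘ₗ (BB (n := n) b).repr.toLinearMap := by
    refine (BB (n := n) b).ext (fun p => ?_)
    simp only [LinearMap.comp_apply, LinearEquiv.coe_coe, Finsupp.lapply_apply]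
    rw [reindex_BB, Module.Basis.repr_self, Module.Basis.repr_self, Finsupp.single_apply,
      Finsupp.single_apply]
    have : (p ∘ σ.symm = q) ↔ (p = q ∘ σ) := by
      constructor
      · rintro rfl; funext i; simp
      · rintro rfl; funext i; simp
    simp only [this]
  exact LinearMap.congr_fun this x

variable (A M n) in
abbrev Gam : Submodule A (⨂[A] _i : Fin n, M) :=
  ⨅ σ : Equiv.Perm (Fin n),
    LinearMap.eqLocus ((PiTensorProduct.reindex A (fun _ : Fin n => M) σ).toLinearMap)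
      LinearMap.id

theorem mem_Gam (x : ⨂[A] _i : Fin n, M) :
    x ∈ Gam A M n ↔ ∀ σ : Equiv.Perm (Fin n),
      PiTensorProduct.reindex A (fun _ : Fin n => M) σ x = x := by
  simp [Gam, Submodule.mem_iInf, LinearMap.mem_eqLocus]

theorem trace_formula (u : M →ₗ[A] M)
    {T : Type*} [Fintype T] [DecidableEq T] (typ : (Fin n → Fin d) → T)
    (rep : T → (Fin n → Fin d))
    (h1 : ∀ p (σ : Equiv.Perm (Fin n)), typ (p ∘ σ) = typ p)
    (h2 : ∀ p q, typ p = typ q → ∃ σ : Equiv.Perm (Fin n), q = p ∘ σ)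
    (h3 : ∀ t, typ (rep t) = t)
    (γ : Gam A M n →ₗ[A] Gam A M n)
    (hγ : ∀ x : Gam A M n, (γ x : ⨂[A] _i : Fin n, M) =
      PiTensorProduct.map (fun _ : Fin n => u) (x : ⨂[A] _i : Fin n, M)) :
    LinearMap.trace A _ γ = ∑ t : T, ∑ p ∈ Finset.univ.filter (fun p => typ p = t),
      ∏ i, LinearMap.toMatrix b b u (rep t i) (p i) := by
  classical
  set B := BB (n := n) b with hB
  have hinv : ∀ x ∈ Gam A M n, ∀ (σ : Equiv.Perm (Fin n)) q,
      B.repr x (q ∘ σ) = B.repr x q := by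
    intro x hx σ q
    rw [← repr_reindex b σ x q, (mem_Gam x).1 hx σ]
  have hrep : ∀ x ∈ Gam A M n, ∀ p, B.repr x p = B.repr x (rep (typ p)) := by
    intro x hx p
    obtain ⟨σ, hσ⟩ := h2 (rep (typ p)) p (h3 (typ p))
    conv_lhs => rw [hσ]
    exact hinv x hx σ _
  have hΨmem : ∀ c : (Fin n → Fin d) → A,
      (∀ q (σ : Equiv.Perm (Fin n)), c (q ∘ σ) = c q) →
      (∑ p, c p • B p) ∈ Gam A M n := by
    intro c hc
    rw [mem_Gam]
    intro σ
    rw [map_sum]
    simp only [map_smul, hB, reindex_BB]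
    refine Fintype.sum_equiv (σ.arrowCongr (Equiv.refl _)) _ _ (fun p => ?_)
    have h4 : (σ.arrowCongr (Equiv.refl (Fin d))) p = p ∘ σ.symm := by
      funext i; simp [Equiv.arrowCongr]
    rw [h4]
    congr 1
    have := hc (p ∘ σ.symm) σ
    rw [← this]; congr 1; funext i; simp
  let Φ : Gam A M n →ₗ[A] (T → A) :=
    LinearMap.pi (fun t => (Finsupp.lapply (rep t) : _ →ₗ[A] A) ∘ₗ B.repr.toLinearMap ∘ₗ
      (Gam A M n).subtype)
  have hΦ : ∀ (x : Gam A M n) t, Φ x t = B.repr (x : ⨂[A] _i : Fin n, M) (rep t) :=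
    fun x t => rfl
  have hinj : Function.Injective Φ := by
    rw [← LinearMap.ker_eq_bot, LinearMap.ker_eq_bot']
    intro x hx
    apply Subtype.ext
    apply B.repr.injective
    ext p
    rw [hrep x.1 x.2 p, ← hΦ, hx]; simp
  have hsurj_aux : ∀ dd : T → A,
      Φ ⟨∑ p, dd (typ p) • B p, hΨmem (fun p => dd (typ p)) (fun q σ => by rw [h1])⟩ = dd := by
    intro dd
    funext t
    rw [hΦ]
    simp only
    rw [Module.Basis.repr_sum_self, h3]
  have hsurj : Function.Surjective Φ := fun dd => ⟨_, hsurj_aux dd⟩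
  let e : Gam A M n ≃ₗ[A] (T → A) := LinearEquiv.ofBijective Φ ⟨hinj, hsurj⟩
  let bΓ : Module.Basis T A (Gam A M n) := Module.Basis.ofEquivFun e
  rw [LinearMap.trace_eq_matrix_trace A bΓ γ, Matrix.trace]
  refine Finset.sum_congr rfl (fun t _ => ?_)
  rw [Matrix.diag_apply, LinearMap.toMatrix_apply]
  have hbt : bΓ t = ⟨∑ p, (Pi.single t (1:A) : T → A) (typ p) • B p,
      hΨmem (fun p => (Pi.single t (1:A) : T → A) (typ p)) (fun q σ => by rw [h1])⟩ := by
    rw [Module.Basis.coe_ofEquivFun]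
    rw [LinearEquiv.symm_apply_eq]
    exact (hsurj_aux _).symm
  have hrepr : ∀ y : Gam A M n, bΓ.repr y t = B.repr (y : ⨂[A] _i : Fin n, M) (rep t) := by
    intro y
    rw [Module.Basis.ofEquivFun_repr_apply]; rfl
  rw [hrepr, hγ, hbt]
  simp only
  rw [map_sum, map_sum, Finsupp.finsetSum_apply, Finset.sum_filter]
  refine Finset.sum_congr rfl (fun p _ => ?_)
  rw [map_smul, map_smul, Finsupp.smul_apply, hB, BB_apply, PiTensorProduct.map_tprod,
    Basis.piTensorProduct_repr_tprod_apply]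
  simp only [LinearMap.toMatrix_apply, Pi.single_apply, smul_eq_mul]
  split_ifs with h
  · rw [one_mul]
  · rw [zero_mul]

end Trace

end Groth.Agent.H9.MacM
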