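import Mathlib
import Groth.Agent.Lib.Helper9.Misc.MacM2
set_option autoImplicit false
set_option linter.unusedSectionVars false
set_option linter.unusedVariables false

namespace Groth.Agent.H9.MacM

open scoped TensorProduct
open PiTensorProduct Polynomial

/-- the universal trace polynomial -/
noncomputable def tau {R : Type*} [CommRing R] (d n : ℕ) (U : Matrix (Fin d) (Fin d) R) : R :=
  ∑ t : TT (Fin d) n, ∑ p ∈ Finset.univ.filter (fun p : Fin n → Fin d => typ p = t),
    ∏ i, U (rep t i) (p i)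

theorem tau_map {R S : Type*} [CommRing R] [CommRing S] (f : R →+* S) (d n : ℕ)
    (U : Matrix (Fin d) (Fin d) R) : tau d n (U.map f) = f (tau d n U) := by
  simp only [tau, map_sum, map_prod, Matrix.map_apply]

theorem trace_eq_tau {A : Type*} [CommRing A] {M : Type*} [AddCommGroup M] [Module A M]
    {d n : ℕ} (b : Module.Basis (Fin d) A M) (u : M →ₗ[A] M)
    (γ : Gam A M n →ₗ[A] Gam A M n)
    (hγ : ∀ x : Gam A M n, (γ x : ⨂[A] _i : Fin n, M) =
      PiTensorProduct.map (fun _ : Fin n => u) (x : ⨂[A] _i : Fin n, M)) :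
    LinearMap.trace A _ γ = tau d n (LinearMap.toMatrix b b u) :=
  trace_formula b u typ rep typ_comp exists_perm_of_typ_eq typ_rep γ hγ

theorem prod_eq_prod_pow_cnt {R : Type*} [CommMonoid R] {ι : Type*} [Fintype ι] [DecidableEq ι]
    {n : ℕ} (lam : ι → R) (p : Fin n → ι) : ∏ i, lam (p i) = ∏ j, lam j ^ cnt p j := by
  unfold cnt
  rw [← Finset.prod_fiberwise_of_maps_to (s := Finset.univ) (t := Finset.univ) (g := p)
    (fun _ _ => Finset.mem_univ _)]
  refine Finset.prod_congr rfl (fun j _ => ?_)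
  rw [Finset.prod_congr rfl (fun i hi => by rw [(Finset.mem_filter.1 hi).2]), Finset.prod_const]

theorem tau_tri {R : Type*} [CommRing R] (d n : ℕ) (U : Matrix (Fin d) (Fin d) R)
    (hU : ∀ i j, i < j → U i j = 0) :
    tau d n U = ∑ t : TT (Fin d) n, ∏ j, U j j ^ ((t.1 : Fin d →₀ ℕ) j) := by
  unfold tau
  refine Finset.sum_congr rfl (fun t _ => ?_)
  have hmem : rep t ∈ Finset.univ.filter (fun p : Fin n → Fin d => typ p = t) := by
    simp [typ_rep]
  rw [Finset.sum_eq_single_of_mem (rep t) hmem]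
  · rw [prod_eq_prod_pow_cnt (fun j => U j j) (rep t), cnt_rep]
  · intro p hp hne
    have hpt : typ p = t := (Finset.mem_filter.1 hp).2
    obtain ⟨σ, hσ⟩ := exists_perm_of_typ_eq p (rep t) (by rw [hpt, typ_rep])
    have hsum : ∑ i, ((rep t i : Fin d) : ℕ) = ∑ i, ((p i : Fin d) : ℕ) := by
      rw [hσ]
      exact Equiv.sum_comp σ (fun i => ((p i : Fin d) : ℕ))
    by_contra hprod
    have hle : ∀ i, p i ≤ rep t i := by
      intro i
      by_contra hlt
      push Not at hlt
      exact hprod (Finset.prod_eq_zero (Finset.mem_univ i) (hU _ _ hlt))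
    have heq := (Finset.sum_eq_sum_iff_of_le (s := Finset.univ)
      (f := fun i => ((p i : Fin d) : ℕ)) (g := fun i => ((rep t i : Fin d) : ℕ))
      (fun i _ => hle i)).1 hsum.symm
    exact hne (funext (fun i => Fin.ext (heq i (Finset.mem_univ i))))

theorem one_sub_mul_mk {R : Type*} [CommRing R] (a : R) :
    (1 - PowerSeries.C a * PowerSeries.X) * PowerSeries.mk (fun n => a ^ n) = 1 := by
  ext n
  rw [sub_mul, one_mul, map_sub, mul_assoc, PowerSeries.coeff_C_mul]
  cases n with
  | zero => simp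
  | succ n =>
    rw [PowerSeries.coeff_succ_X_mul, PowerSeries.coeff_mk, PowerSeries.coeff_mk,
      PowerSeries.coeff_one, if_neg (Nat.succ_ne_zero n), pow_succ]
    ring

theorem mk_tri {R : Type*} [CommRing R] (d : ℕ) (lam : Fin d → R) :
    PowerSeries.mk (fun n => ∑ t : TT (Fin d) n, ∏ j, lam j ^ ((t.1 : Fin d →₀ ℕ) j)) =
      ∏ j, PowerSeries.mk (fun a => lam j ^ a) := by
  ext n
  rw [PowerSeries.coeff_mk, PowerSeries.coeff_prod]
  rw [Finset.sum_coe_sort ((Finset.univ : Finset (Fin d)).finsuppAntidiag n)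
    (fun l => ∏ j, lam j ^ (l j))]
  refine Finset.sum_congr rfl (fun l _ => ?_)
  refine Finset.prod_congr rfl (fun j _ => ?_)
  rw [PowerSeries.coeff_mk]

theorem master_tri {R : Type*} [CommRing R] (d : ℕ) (U : Matrix (Fin d) (Fin d) R)
    (hU : ∀ i j, i < j → U i j = 0) :
    ((Matrix.det (1 - (X : R[X]) • U.map C) : R[X]) : PowerSeries R) *
      PowerSeries.mk (fun n => tau d n U) = 1 := by
  have hdet : Matrix.det (1 - (X : R[X]) • U.map C) = ∏ j, (1 - C (U j j) * X) := by
    rw [Matrix.det_of_isLowerTriangular]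
    · refine Finset.prod_congr rfl (fun j _ => ?_)
      rw [Matrix.sub_apply, Matrix.one_apply_eq, Matrix.smul_apply, Matrix.map_apply,
        smul_eq_mul, mul_comm]
    · intro i j hij
      have hij' : i < j := hij
      rw [Matrix.sub_apply, Matrix.one_apply_ne (ne_of_lt hij'), Matrix.smul_apply,
        Matrix.map_apply, hU i j hij', map_zero, smul_zero, sub_zero]
  rw [hdet]
  have h2 : (fun n => tau d n U) =
      fun n => ∑ t : TT (Fin d) n, ∏ j, U j j ^ ((t.1 : Fin d →₀ ℕ) j) :=
    funext (fun n => tau_tri d n U hU)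
  have h3 : ((∏ j, (1 - C (U j j) * X) : R[X]) : PowerSeries R) =
      ∏ j, ((1 - C (U j j) * X : R[X]) : PowerSeries R) := by
    rw [← Polynomial.coeToPowerSeries.ringHom_apply, map_prod]
    rfl
  rw [h2, mk_tri d (fun j => U j j), h3, ← Finset.prod_mul_distrib]
  refine Finset.prod_eq_one (fun j _ => ?_)
  rw [Polynomial.coe_sub, Polynomial.coe_one, Polynomial.coe_mul, Polynomial.coe_C,
    Polynomial.coe_X]
  exact one_sub_mul_mk (U j j)

end Groth.Agent.H9.MacM
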