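import Mathlib
set_option autoImplicit false
set_option linter.unusedSectionVars false
set_option linter.unusedVariables false

namespace Groth.Agent.H9.MacM

universe v

theorem exists_tri_basis {K : Type*} [Field K] [IsAlgClosed K] :
    ∀ (d : ℕ) {V : Type v} [AddCommGroup V] [Module K V] [FiniteDimensional K V],
      Module.finrank K V = d → ∀ u : V →ₗ[K] V,
      ∃ b : Module.Basis (Fin d) K V, ∀ i j, i < j → LinearMap.toMatrix b b u i j = 0 := by
  intro d
  induction d with
  | zero =>
    intro V _ _ _ hd u
    exact ⟨Module.finBasisOfFinrankEq K V hd, fun i => i.elim0⟩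
  | succ d ih =>
    intro V _ _ _ hd u
    haveI : Nontrivial V := Module.nontrivial_of_finrank_pos (R := K) (by omega)
    haveI : Nontrivial (Module.Dual K V) := by
      apply Module.nontrivial_of_finrank_pos (R := K)
      rw [Subspace.dual_finrank_eq]; omega
    obtain ⟨μ, hμ⟩ := Module.End.exists_eigenvalue (u.dualMap : Module.End K (Module.Dual K V))
    obtain ⟨φ, hφ⟩ := hμ.exists_hasEigenvector
    have hφ0 : φ ≠ 0 := hφ.2
    have hφu : ∀ x, φ (u x) = μ * φ x := by
      intro x
      have := hφ.apply_eq_smul
      have h2 := LinearMap.congr_fun this x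
      simpa [LinearMap.dualMap_apply] using h2
    obtain ⟨v, hv⟩ : ∃ v, φ v ≠ 0 := by
      by_contra h; push Not at h
      exact hφ0 (LinearMap.ext h)
    let H : Submodule K V := LinearMap.ker φ
    have hH : ∀ x ∈ H, u x ∈ H := by
      intro x hx
      rw [LinearMap.mem_ker] at hx ⊢
      rw [hφu, hx, mul_zero]
    have hsurj : LinearMap.range φ = ⊤ := by
      rw [LinearMap.range_eq_top]
      intro c
      exact ⟨(c / φ v) • v, by rw [map_smul, smul_eq_mul, div_mul_cancel₀ _ hv]⟩
    have hfr : Module.finrank K H = d := by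
      show Module.finrank K (LinearMap.ker φ) = d
      have := LinearMap.finrank_range_add_finrank_ker φ
      rw [hsurj, finrank_top, Module.finrank_self, hd] at this
      omega
    obtain ⟨bH, hbH⟩ := ih (V := H) hfr (u.restrict hH)
    have hli : ∀ (c : K), ∀ x ∈ H, c • v + x = 0 → c = 0 := by
      intro c x hx hc
      have := congrArg φ hc
      rw [map_add, map_smul, LinearMap.mem_ker.1 hx, add_zero, map_zero, smul_eq_mul] at this
      exact (mul_eq_zero.1 this).resolve_right hv
    have hsp : ∀ z : V, ∃ c : K, z + c • v ∈ H := by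
      intro z
      refine ⟨- (φ z / φ v), ?_⟩
      rw [LinearMap.mem_ker, map_add, map_smul, smul_eq_mul, neg_mul, div_mul_cancel₀ _ hv,
        add_neg_cancel]
    let b := Module.Basis.mkFinCons v bH hli hsp
    have hbs : ∀ j : Fin d, b j.succ = (bH j : V) := by
      intro j
      rw [Module.Basis.coe_mkFinCons]; simp [Fin.cons_succ]
    refine ⟨b, ?_⟩
    intro i j hij
    have hj0 : j ≠ 0 := by
      intro h; rw [h] at hij; exact absurd hij (Fin.not_lt_zero i)
    obtain ⟨j', rfl⟩ := Fin.exists_succ_eq.2 hj0
    rw [LinearMap.toMatrix_apply, hbs]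
    have hexp : u (bH j' : V) =
        ∑ i', LinearMap.toMatrix bH bH (u.restrict hH) i' j' • b i'.succ := by
      have h1 := bH.sum_repr ((u.restrict hH) (bH j'))
      have h2 := congrArg (Submodule.subtype H) h1
      rw [map_sum] at h2
      simp only [map_smul, Submodule.subtype_apply, LinearMap.coe_restrict_apply] at h2
      rw [← h2]
      refine Finset.sum_congr rfl (fun i' _ => ?_)
      rw [LinearMap.toMatrix_apply, hbs]
    rw [hexp, map_sum, Finsupp.finsetSum_apply]
    refine Finset.sum_eq_zero (fun i' _ => ?_)
    rw [map_smul, Finsupp.smul_apply, Module.Basis.repr_self, Finsupp.single_apply, smul_eq_mul]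
    by_cases h : i'.succ = i
    · subst h
      have : i' < j' := Fin.succ_lt_succ_iff.1 hij
      rw [hbH i' j' this, zero_mul]
    · rw [if_neg h, mul_zero]

end Groth.Agent.H9.MacM
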