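import Mathlib
import Groth.Prelude.Def_SGA4hB
import Groth.Agent.Lib.Helper9.Misc.MacM3
import Groth.Agent.Lib.Helper9.Misc.MacM4
set_option autoImplicit false
set_option linter.unusedSectionVars false
set_option linter.unusedVariables false

namespace Groth.Agent.H9.MacM

open scoped TensorProduct
open PiTensorProduct Polynomial

universe u

theorem det_oneSub_eq {A : Type*} [CommRing A] {M : Type*} [AddCommGroup M] [Module A M]
    {d : ℕ} (b : Module.Basis (Fin d) A M) (u : M →ₗ[A] M) :
    LinearMap.det (LinearMap.id - (X : A[X]) • u.baseChange A[X]) =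
      Matrix.det (1 - (X : A[X]) • (LinearMap.toMatrix b b u).map C) := by
  rw [← LinearMap.det_toMatrix (Algebra.TensorProduct.basis A[X] b)]
  congr 1
  refine Eq.trans (map_sub (LinearMap.toMatrix (Algebra.TensorProduct.basis A[X] b)
    (Algebra.TensorProduct.basis A[X] b)) LinearMap.id ((X : A[X]) • u.baseChange A[X])) ?_
  rw [map_smul, LinearMap.toMatrix_id, LinearMap.toMatrix_baseChange]
  rfl

noncomputable def gamOf {A : Type*} [CommRing A] {M : Type*} [AddCommGroup M] [Module A M]
    (u : M →ₗ[A] M) (n : ℕ) : Gam A M n →ₗ[A] Gam A M n :=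
  (PiTensorProduct.map (fun _ : Fin n => u)).restrict (by
    intro x hx
    rw [mem_Gam] at hx ⊢
    intro σ
    have := PiTensorProduct.map_reindex (R := A) (s := fun _ : Fin n => M)
      (t := fun _ : Fin n => M) (fun _ : Fin n => u) σ x
    rw [← this, hx σ])

theorem master_field {K : Type*} [Field K] [IsAlgClosed K] (d : ℕ)
    (U : Matrix (Fin d) (Fin d) K) :
    ((Matrix.det (1 - (X : K[X]) • U.map C) : K[X]) : PowerSeries K) *
      PowerSeries.mk (fun n => tau d n U) = 1 := by
  classical
  let u : (Fin d → K) →ₗ[K] (Fin d → K) := Matrix.toLin' U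
  have hU : LinearMap.toMatrix (Pi.basisFun K (Fin d)) (Pi.basisFun K (Fin d)) u = U := by
    rw [LinearMap.toMatrix_eq_toMatrix', LinearMap.toMatrix'_toLin']
  obtain ⟨b', hb'⟩ := exists_tri_basis (K := K) d (V := Fin d → K) (by simp) u
  have h1 : ∀ n, tau d n U = tau d n (LinearMap.toMatrix b' b' u) := by
    intro n
    have e1 := trace_eq_tau (Pi.basisFun K (Fin d)) u (gamOf u n) (fun x => rfl)
    have e2 := trace_eq_tau b' u (gamOf u n) (fun x => rfl)
    rw [hU] at e1
    rw [← e1, e2]
  have h2 : Matrix.det (1 - (X : K[X]) • U.map C) =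
      Matrix.det (1 - (X : K[X]) • (LinearMap.toMatrix b' b' u).map C) := by
    have e1 := det_oneSub_eq (Pi.basisFun K (Fin d)) u
    have e2 := det_oneSub_eq b' u
    rw [hU] at e1
    rw [← e1, e2]
  rw [h2, funext h1]
  exact master_tri d _ hb'

theorem lhs_map {R S : Type*} [CommRing R] [CommRing S] (f : R →+* S) (d : ℕ)
    (U : Matrix (Fin d) (Fin d) R) :
    PowerSeries.map f (((Matrix.det (1 - (X : R[X]) • U.map C) : R[X]) : PowerSeries R) *
      PowerSeries.mk (fun n => tau d n U)) =
    ((Matrix.det (1 - (X : S[X]) • (U.map f).map C) : S[X]) : PowerSeries S) *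
      PowerSeries.mk (fun n => tau d n (U.map f)) := by
  rw [map_mul]
  congr 1
  · rw [← Polynomial.polynomial_map_coe]
    congr 1
    rw [← Polynomial.coe_mapRingHom, RingHom.map_det]
    congr 1
    refine Matrix.ext (fun i j => ?_)
    rw [RingHom.mapMatrix_apply, Matrix.map_apply, Matrix.sub_apply, Matrix.sub_apply,
      Matrix.smul_apply, Matrix.smul_apply, Matrix.map_apply, Matrix.map_apply, Matrix.map_apply,
      smul_eq_mul, smul_eq_mul, Polynomial.coe_mapRingHom, Polynomial.map_sub,
      Polynomial.map_mul, Polynomial.map_X, Polynomial.map_C]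
    congr 1
    rcases eq_or_ne i j with rfl | h
    · rw [Matrix.one_apply_eq, Matrix.one_apply_eq, Polynomial.map_one]
    · rw [Matrix.one_apply_ne h, Matrix.one_apply_ne h, Polynomial.map_zero]
  · ext n
    rw [PowerSeries.coeff_map, PowerSeries.coeff_mk, PowerSeries.coeff_mk, tau_map]

theorem master {R : Type*} [CommRing R] (d : ℕ) (U : Matrix (Fin d) (Fin d) R) :
    ((Matrix.det (1 - (X : R[X]) • U.map C) : R[X]) : PowerSeries R) *
      PowerSeries.mk (fun n => tau d n U) = 1 := by
  classical
  let Ugen : Matrix (Fin d) (Fin d) (MvPolynomial (Fin d × Fin d) ℤ) :=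
    Matrix.of (fun i j => MvPolynomial.X (i, j))
  have hgen : ((Matrix.det (1 - (X : (MvPolynomial (Fin d × Fin d) ℤ)[X]) • Ugen.map C) :
      (MvPolynomial (Fin d × Fin d) ℤ)[X]) : PowerSeries (MvPolynomial (Fin d × Fin d) ℤ)) *
      PowerSeries.mk (fun n => tau d n Ugen) = 1 := by
    let g : MvPolynomial (Fin d × Fin d) ℤ →+*
        AlgebraicClosure (FractionRing (MvPolynomial (Fin d × Fin d) ℤ)) :=
      (algebraMap (FractionRing (MvPolynomial (Fin d × Fin d) ℤ))
        (AlgebraicClosure (FractionRing (MvPolynomial (Fin d × Fin d) ℤ)))).comp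
        (algebraMap (MvPolynomial (Fin d × Fin d) ℤ)
          (FractionRing (MvPolynomial (Fin d × Fin d) ℤ)))
    have hg : Function.Injective g :=
      (algebraMap (FractionRing (MvPolynomial (Fin d × Fin d) ℤ))
        (AlgebraicClosure (FractionRing (MvPolynomial (Fin d × Fin d) ℤ)))).injective.comp
        (IsFractionRing.injective (MvPolynomial (Fin d × Fin d) ℤ)
          (FractionRing (MvPolynomial (Fin d × Fin d) ℤ)))
    have hinj : Function.Injective (PowerSeries.map g) := by
      intro a c hac
      refine PowerSeries.ext (fun n => ?_)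
      have := congrArg (PowerSeries.coeff n) hac
      rw [PowerSeries.coeff_map, PowerSeries.coeff_map] at this
      exact hg this
    apply hinj
    rw [lhs_map, map_one]
    exact master_field d (Ugen.map g)
  let f : MvPolynomial (Fin d × Fin d) ℤ →+* R :=
    (MvPolynomial.eval₂Hom (Int.castRingHom R) (fun ij : Fin d × Fin d => U ij.1 ij.2))
  have hf : Ugen.map f = U := by
    refine Matrix.ext (fun i j => ?_)
    simp [Ugen, f]
  have := congrArg (PowerSeries.map f) hgen
  rw [lhs_map, map_one, hf] at this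
  exact this

theorem result' {A : Type u} [CommRing A] (M : Type u) [AddCommGroup M]
    [Module A M] [Module.Free A M] [Module.Finite A M] (u : M →ₗ[A] M)
    (γ : ∀ n : ℕ, ↥(⨅ σ : Equiv.Perm (Fin n),
        LinearMap.eqLocus ((PiTensorProduct.reindex A (fun _ : Fin n => M) σ).toLinearMap) LinearMap.id) →ₗ[A]
      ↥(⨅ σ : Equiv.Perm (Fin n),
        LinearMap.eqLocus ((PiTensorProduct.reindex A (fun _ : Fin n => M) σ).toLinearMap) LinearMap.id))
    (hγ : ∀ (n : ℕ) (x : ↥(⨅ σ : Equiv.Perm (Fin n),
        LinearMap.eqLocus ((PiTensorProduct.reindex A (fun _ : Fin n => M) σ).toLinearMap) LinearMap.id)),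
      (↑(γ n x) : ⨂[A] _i : Fin n, M) = PiTensorProduct.map (fun _ : Fin n => u) (↑x : ⨂[A] _i : Fin n, M)) :
    (↑(SGA4h.detOneSub (ModuleCat.of A M) (ModuleCat.ofHom u)) : PowerSeries A) *
      PowerSeries.mk (fun n => LinearMap.trace A _ (γ n)) = 1 := by
  classical
  let b := (Module.Free.chooseBasis A M).reindex (Fintype.equivFin _)
  have h1 : SGA4h.detOneSub (ModuleCat.of A M) (ModuleCat.ofHom u) =
      Matrix.det (1 - (X : A[X]) • (LinearMap.toMatrix b b u).map C) := by
    unfold SGA4h.detOneSub
    rw [ModuleCat.hom_ofHom]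
    exact det_oneSub_eq b u
  rw [h1, funext (fun n => trace_eq_tau b u (γ n) (hγ n))]
  exact master _ _

end Groth.Agent.H9.MacM
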