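import Mathlib
import Groth.Prelude.Def_Magnet2
import Groth.Agent.Lib.Helper9.Misc.MagKun
import Groth.Agent.Lib.Helper9.Misc.MagLoc
import Groth.Agent.Lib.Helper9.Misc.MagChr
import Groth.Agent.Lib.Helper9.Misc.MGU2

/-! Helper9: the coaction on a chart is homogeneous: `ρ (ρ b)_m = (ρ b)_m · X^m`. -/

set_option linter.style.haveILetI false
set_option linter.unusedSectionVars false
set_option autoImplicit false

namespace Groth.Agent.H9.MagHom

universe u

open CategoryTheory CategoryTheory.Limits AlgebraicGeometry MonoidalCategory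
  CartesianMonoidalCategory MonObj Opposite
open Magnet
open Groth.Agent.H9.MagKun Groth.Agent.H9.MagLoc Groth.Agent.H9.MagChr

section Alg

variable {B C : Type*} [CommRing B] [CommRing C] {G : Type*} [CommMonoid G]
  (K : MonoidAlgebra B G →+* C)

/-- the diagonal character `m ↦ X^m · K(X^m)` -/
noncomputable def chi : G →* MonoidAlgebra C G where
  toFun m := MonoidAlgebra.single m (K (MonoidAlgebra.single m 1))
  map_one' := by
    have : (MonoidAlgebra.single (1 : G) (1 : B)) = 1 := rfl
    rw [this, map_one]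
    rfl
  map_mul' m m' := by
    rw [MonoidAlgebra.single_mul_single, ← map_mul, MonoidAlgebra.single_mul_single, _root_.mul_one]

/-- `Λ : B[G] → C[G]`, `r X^m ↦ K(r X^m) X^m` -/
noncomputable def Lam : MonoidAlgebra B G →+* MonoidAlgebra C G :=
  MonoidAlgebra.liftNCRingHom
    ((MonoidAlgebra.singleOneRingHom : C →+* MonoidAlgebra C G).comp
      (K.comp (MonoidAlgebra.singleOneRingHom : B →+* MonoidAlgebra B G)))
    (chi K) (fun _ _ => Commute.all _ _)

theorem Lam_single (m : G) (r : B) :
    Lam K (MonoidAlgebra.single m r) = MonoidAlgebra.single m (K (MonoidAlgebra.single m r)) := by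
  unfold Lam
  rw [MonoidAlgebra.liftNCRingHom_single]
  change MonoidAlgebra.single 1 (K (MonoidAlgebra.single 1 r)) *
    MonoidAlgebra.single m (K (MonoidAlgebra.single m 1)) = _
  rw [MonoidAlgebra.single_mul_single, ← map_mul, MonoidAlgebra.single_mul_single, _root_.one_mul,
    _root_.mul_one]

theorem Lam_coeff (y : MonoidAlgebra B G) (m : G) :
    (Lam K y).coeff m = K (MonoidAlgebra.single m (y.coeff m)) := by
  classical
  let F₁ : MonoidAlgebra B G →+ C :=
    (Finsupp.applyAddHom m).comp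
      ((MonoidAlgebra.coeffAddEquiv : MonoidAlgebra C G ≃+ (G →₀ C)).toAddMonoidHom.comp
        (Lam K).toAddMonoidHom)
  let F₂ : MonoidAlgebra B G →+ C :=
    K.toAddMonoidHom.comp ((MonoidAlgebra.singleAddHom m).comp
      ((Finsupp.applyAddHom m).comp
        (MonoidAlgebra.coeffAddEquiv : MonoidAlgebra B G ≃+ (G →₀ B)).toAddMonoidHom))
  have h : F₁ = F₂ := by
    apply MonoidAlgebra.addMonoidHom_ext
    intro m' r
    change (Lam K (MonoidAlgebra.single m' r)).coeff m =
      K (MonoidAlgebra.single m ((MonoidAlgebra.single m' r).coeff m))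
    rw [Lam_single, MonoidAlgebra.coeff_single, MonoidAlgebra.coeff_single]
    by_cases hmm : m' = m
    · subst hmm
      rw [Finsupp.single_eq_same, Finsupp.single_eq_same]
    · rw [Finsupp.single_eq_of_ne' hmm, Finsupp.single_eq_of_ne' hmm]
      have : (MonoidAlgebra.single m (0 : B)) = 0 := MonoidAlgebra.single_zero m
      rw [this, map_zero]
  exact DFunLike.congr_fun h y

end Alg

variable {S : Scheme.{u}} {M : Type} [AddCommMonoid M] {X : Over S}
  (a : MonAct (AMonS S M) X) (U : S.Opens) [IsAffine (XU X U).left]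
  (ω : AMonS S M ⊗ XU X U ⟶ XU X U)

theorem whiskerLeft_eq_lift {C : Type*} [Category C] [CartesianMonoidalCategory C] (G : C) {A B : C}
    (k : A ⟶ B) : G ◁ k = lift (fst G A) (snd G A ≫ k) := by
  rw [← lift_whiskerLeft, lift_fst_snd, Category.id_comp]

include a in
theorem assoc_points (hω : ω ≫ x₀ X U = (AMonS S M ◁ x₀ X U) ≫ a.act) :
    lift (fst (AMonS S M) (AMonS S M ⊗ XU X U) *
        (snd (AMonS S M) (AMonS S M ⊗ XU X U) ≫ fst (AMonS S M) (XU X U)))
      (snd (AMonS S M) (AMonS S M ⊗ XU X U) ≫ snd (AMonS S M) (XU X U)) ≫ ω =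
    (AMonS S M ◁ ω) ≫ ω := by
  rw [← cancel_mono (x₀ X U), Category.assoc, Category.assoc, hω, lift_whiskerLeft_assoc,
    a.lift_mul_act, ← MonoidalCategory.whiskerLeft_comp_assoc, hω]
  congr 1
  rw [whiskerLeft_eq_lift (AMonS S M) ((AMonS S M ◁ x₀ X U) ≫ a.act)]
  congr 1
  rw [whiskerLeft_eq_lift (AMonS S M) (x₀ X U), comp_lift_assoc, Category.assoc]

include a in
theorem homogeneous (hω : ω ≫ x₀ X U = (AMonS S M ◁ x₀ X U) ≫ a.act)
    (b : Γ((XU X U).left, ⊤)) (m : Multiplicative M) :
    rho U ω ((rho U ω b).coeff m) = MonoidAlgebra.single m ((rho U ω b).coeff m) := by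
  haveI : IsAffine (AMonS S M ⊗ XU X U).left := MGU.affine_tensor _ _
  have hA := assoc_points a U ω hω
  -- ring level, left side
  have hL : ∀ y : MonoidAlgebra Γ((XU X U).left, ⊤) (Multiplicative M),
      (lift (fst (AMonS S M) (AMonS S M ⊗ XU X U) *
        (snd (AMonS S M) (AMonS S M ⊗ XU X U) ≫ fst (AMonS S M) (XU X U)))
      (snd (AMonS S M) (AMonS S M ⊗ XU X U) ≫ snd (AMonS S M) (XU X U))).left.appTop.hom
        (kappa S M (XU X U) y) =
      kappa S M (AMonS S M ⊗ XU X U) (Lam (kappa S M (XU X U)) y) := by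
    intro y
    rw [eval_kappa]
    have key : MonoidAlgebra.liftNCRingHom
        (snd (AMonS S M) (AMonS S M ⊗ XU X U) ≫ snd (AMonS S M) (XU X U)).left.appTop.hom
        (chr (fst (AMonS S M) (AMonS S M ⊗ XU X U) *
          (snd (AMonS S M) (AMonS S M ⊗ XU X U) ≫ fst (AMonS S M) (XU X U))))
        (fun _ _ => Commute.all _ _) =
        (kappa S M (AMonS S M ⊗ XU X U)).comp (Lam (kappa S M (XU X U))) := by
      apply MonoidAlgebra.ringHom_ext
      · intro r
        rw [MonoidAlgebra.liftNCRingHom_single, map_one, _root_.mul_one, RingHom.comp_apply,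
          Lam_single, kappa_single_one, kappa_single_one]
        have h1 := Scheme.Hom.comp_appTop (snd (AMonS S M) (AMonS S M ⊗ XU X U)).left
          (snd (AMonS S M) (XU X U)).left
        exact DFunLike.congr_fun (congrArg CommRingCat.Hom.hom h1) r
      · intro m'
        rw [MonoidAlgebra.liftNCRingHom_single, map_one, _root_.one_mul, RingHom.comp_apply,
          Lam_single, chr_mul, chr_fst, chr_precomp, chr_fst]
        have e1 : (snd (AMonS S M) (AMonS S M ⊗ XU X U)).left.appTop.hom
            (kappa S M (XU X U) (MonoidAlgebra.single m' 1)) =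
            kappa S M (AMonS S M ⊗ XU X U)
              (MonoidAlgebra.single 1 (kappa S M (XU X U) (MonoidAlgebra.single m' 1))) :=
          (kappa_single_one S M (AMonS S M ⊗ XU X U) _).symm
        rw [e1, ← map_mul, MonoidAlgebra.single_mul_single, _root_.mul_one, _root_.one_mul]
    exact DFunLike.congr_fun key y
  -- right side
  have hR : ((AMonS S M ◁ ω) ≫ ω).left.appTop.hom b =
      kappa S M (AMonS S M ⊗ XU X U)
        (MonoidAlgebra.mapRingHom _ ω.left.appTop.hom (rho U ω b)) := by
    have e1 : ((AMonS S M ◁ ω) ≫ ω).left.appTop.hom b =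
        (AMonS S M ◁ ω).left.appTop.hom (ω.left.appTop.hom b) :=
      congrArg (fun f => f.hom b) (Scheme.Hom.comp_appTop (AMonS S M ◁ ω).left ω.left)
    rw [e1, ← kappa_rho U ω b]
    exact kappa_natT S M ω (rho U ω b)
  have hL' : (lift (fst (AMonS S M) (AMonS S M ⊗ XU X U) *
        (snd (AMonS S M) (AMonS S M ⊗ XU X U) ≫ fst (AMonS S M) (XU X U)))
      (snd (AMonS S M) (AMonS S M ⊗ XU X U) ≫ snd (AMonS S M) (XU X U)) ≫ ω).left.appTop.hom b =
      kappa S M (AMonS S M ⊗ XU X U) (Lam (kappa S M (XU X U)) (rho U ω b)) := by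
    have e1 := congrArg (fun f => f.hom b) (Scheme.Hom.comp_appTop
      (lift (fst (AMonS S M) (AMonS S M ⊗ XU X U) *
        (snd (AMonS S M) (AMonS S M ⊗ XU X U) ≫ fst (AMonS S M) (XU X U)))
      (snd (AMonS S M) (AMonS S M ⊗ XU X U) ≫ snd (AMonS S M) (XU X U))).left ω.left)
    refine e1.trans ?_
    have e2 := hL (rho U ω b)
    rw [kappa_rho] at e2
    exact e2
  have h3 : Lam (kappa S M (XU X U)) (rho U ω b) =
      MonoidAlgebra.mapRingHom _ ω.left.appTop.hom (rho U ω b) := by
    apply (kappa_bijective S M (AMonS S M ⊗ XU X U)).1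
    rw [← hL', ← hR, hA]
  have h4 := congrArg (fun z => z.coeff m) h3
  simp only [MonoidAlgebra.coeff_mapRingHom] at h4
  rw [Lam_coeff, ← kappa_rho U ω ((rho U ω b).coeff m)] at h4
  exact ((kappa_bijective S M (XU X U)).1 h4).symm

end Groth.Agent.H9.MagHom
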