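import Mathlib
import Groth.Prelude.Def_Magnet3
import Groth.Agent.Lib.Helper9.Misc.MagKun
import Groth.Agent.Lib.Helper9.Misc.MagLoc
import Groth.Agent.Lib.Helper9.Misc.MagShf
import Groth.Agent.Lib.Helper9.Misc.MagHom
import Groth.Agent.Lib.Helper9.Misc.MagRepB
import Groth.Agent.Lib.Helper9.Misc.UDM4

/-! Helper9: change of monoid for attractors of `S`-affine schemes: `X^{f⁻¹Y ⊂ M} ≅ X^{Y ⊂ Z}` (S18287). -/

set_option linter.style.haveILetI false
set_option linter.unusedSectionVars false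
set_option autoImplicit false

namespace Groth.Agent.H9.MagComap

universe u

open CategoryTheory CategoryTheory.Limits AlgebraicGeometry MonoidalCategory
  CartesianMonoidalCategory MonObj Opposite
open Magnet
open Groth.Agent.H9.MagKun Groth.Agent.H9.MagLoc

variable {S : Scheme.{u}} {M Z : Type} [AddCommMonoid M] [AddCommMonoid Z] (f : M →+ Z)
  (Y : AddSubmonoid Z) {X : Over S} (a : MonAct (AMonS S M) X)

section Chart

variable (U : S.Opens) [IsAffine (XU X U).left] (ω : AMonS S M ⊗ XU X U ⟶ XU X U)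

theorem omega'_spec (hω : ω ≫ x₀ X U = (AMonS S M ◁ x₀ X U) ≫ a.act) :
    ((AMonS.map S f ▷ XU X U) ≫ ω) ≫ x₀ X U =
      (AMonS S Z ◁ x₀ X U) ≫ (a.restrict (AMonS.map S f)).act := by
  rw [Category.assoc, hω, MonAct.restrict_act, ← whisker_exchange_assoc]

theorem rho'_eq (b : Γ((XU X U).left, ⊤)) :
    rho U ((AMonS.map S f ▷ XU X U) ≫ ω) b =
      MonoidAlgebra.mapDomainRingHom _ (AddMonoidHom.toMultiplicative f) (rho U ω b) := by
  apply (kappa_bijective S Z (XU X U)).1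
  rw [kappa_rho, ← kappa_natM S Z (XU X U) f (rho U ω b), kappa_rho]
  exact congrArg (fun g => g.hom b)
    (Scheme.Hom.comp_appTop (AMonS.map S f ▷ XU X U).left ω.left)

include a in
theorem ideal_le (hω : ω ≫ x₀ X U = (AMonS S M ◁ x₀ X U) ≫ a.act) :
    Iω (Y.comap f) U ω ≤ Iω Y U ((AMonS.map S f ▷ XU X U) ≫ ω) := by
  apply Ideal.span_le.mpr
  rintro _ ⟨b, m, hm, rfl⟩
  apply Ideal.subset_span
  refine ⟨(rho U ω b).coeff (Multiplicative.ofAdd m), f m, hm, ?_⟩
  rw [rho'_eq, MagHom.homogeneous a U ω hω b (Multiplicative.ofAdd m)]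
  change _ = (MonoidAlgebra.mapDomain (AddMonoidHom.toMultiplicative f)
    (MonoidAlgebra.single (Multiplicative.ofAdd m) _)).coeff _
  rw [MonoidAlgebra.mapDomain_single, MonoidAlgebra.coeff_single]
  exact (Finsupp.single_eq_same).symm

include a in
theorem local_imp (hU : IsAffineOpen U) {T : Over S} [IsAffine T.left] (u : T ⟶ XU X U)
    (h : Ext Y (a.restrict (AMonS.map S f)) (u ≫ x₀ X U)) :
    Ext (Y.comap f) a (u ≫ x₀ X U) := by
  obtain ⟨ω, hω⟩ := exists_omega a U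
  have hk := kills_of_ext Y (a.restrict (AMonS.map S f)) U ((AMonS.map S f ▷ XU X U) ≫ ω)
    (omega'_spec f a U ω hω) u h
  exact ext_closed (Y.comap f) a U ω hU hω u (fun y hy => hk y (ideal_le f Y a U ω hω hy))

end Chart

theorem ext_of_ext [IsAffineHom X.hom] {T : Over S} (x : T ⟶ X)
    (h : Ext Y (a.restrict (AMonS.map S f)) x) : Ext (Y.comap f) a x := by
  haveI : IsSeparated X.hom := inferInstance
  let 𝒰 := T.left.openCoverOfIsOpenCover _ (T.left.isBasis_affineOpens.isOpenCover_mem_and_le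
    (S.isBasis_affineOpens.isOpenCover.comap T.hom.base.hom))
  apply MagShf.ext_local (Y.comap f) a x 𝒰
  intro c
  obtain ⟨tc, htc⟩ : ∃ tc : Over.mk (𝒰.f c ≫ T.hom) ⟶ T, tc = Over.homMk (𝒰.f c) rfl := ⟨_, rfl⟩
  rw [← htc]
  haveI : IsAffine (Over.mk (𝒰.f c ≫ T.hom)).left := c.2.1
  have hTc : ∀ t : (Over.mk (𝒰.f c ≫ T.hom)).left, (Over.mk (𝒰.f c ≫ T.hom)).hom t ∈ c.1.2.1 := by
    intro t
    change (𝒰.f c ≫ T.hom) t ∈ c.1.2.1
    rw [Scheme.Hom.comp_apply]
    exact c.2.2 t.2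
  obtain ⟨u, hu⟩ := exists_factor (X := X) (U := c.1.2.1) hTc (tc ≫ x)
  haveI : IsAffine (XU X c.1.2.1).left := c.1.2.2.preimage X.hom
  rw [← hu]
  apply local_imp f Y a c.1.2.1 c.1.2.2 u
  rw [hu]
  exact Ext.comp Y (a.restrict (AMonS.map S f)) tc h

theorem main [IsAffineHom X.hom] : IsIso (Magnet.attrComap a f Y) := by
  haveI : IsSeparated X.hom := inferInstance
  apply (config := { allowSynthFailures := true }) NatIso.isIso_of_isIso_app
  intro T
  rw [isIso_iff_bijective]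
  -- the monoid map `A(Y) ⟶ A(f⁻¹Y)`
  have hev : ∀ φ : (attr a (Y.comap f)).obj T,
      MagRepB.ev ((attrComap a f Y).app T φ).1 = MagRepB.ev φ.1 := by
    intro φ
    rw [attrComap_app_coe]
    unfold MagRepB.ev
    rw [lift_whiskerRight_assoc, Category.assoc, IsMonHom.one_hom]
  constructor
  · intro φ φ' hφ
    apply UDM.S18285_main X a (Y.comap f) (unop T)
    change MagRepB.ev φ.1 = MagRepB.ev φ'.1
    rw [← hev, ← hev, hφ]
  · intro ψ
    have h1 : Ext Y (a.restrict (AMonS.map S f)) (MagRepB.ev ψ.1) :=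
      ⟨ψ.1, MagRepB.restrict_eq (AMonS.map S Y.subtype) (a.restrict (AMonS.map S f)) ψ.1 ψ.2⟩
    obtain ⟨φ, hφ⟩ := ext_of_ext f Y a _ h1
    have hφeq := MagRepB.equivariant_of_restrict (AMonS.map S (Y.comap f).subtype) a
      (MagShf.hD (Y.comap f)) (MagRepB.ev ψ.1) φ hφ
    refine ⟨⟨φ, hφeq⟩, ?_⟩
    apply UDM.S18285_main X (a.restrict (AMonS.map S f)) Y (unop T)
    change MagRepB.ev ((attrComap a f Y).app T ⟨φ, hφeq⟩).1 = MagRepB.ev ψ.1
    rw [hev]
    exact MagRepB.ev_of_restrict (AMonS.map S (Y.comap f).subtype) a (MagRepB.ev ψ.1) φ hφ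

end Groth.Agent.H9.MagComap
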