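import Mathlib
import Groth.Prelude.Def_Magnet

/-!
# Induction of equivariant maps along a quotient presentation (helper9), abstract part

`Mo = G ×^{G''} Mo'`: if `π : G ⊗ Mo' ⟶ Mo`, `(g, y) ↦ i(g) ν(y)` is a descent morphism for maps to
`X` whose kernel pair is given by the action of `G''`, then restriction along `ν` identifies
`G`-equivariant maps `Mo ⊗ T ⟶ X` with `G'`-equivariant maps `Mo' ⊗ T ⟶ X`.
-/

set_option autoImplicit false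
set_option linter.unusedSectionVars false
universe v₁ u₁
open CategoryTheory MonoidalCategory CartesianMonoidalCategory MonObj Opposite Magnet

namespace Groth.Agent.H9.MagInd

section Cat

variable {C : Type u₁} [Category.{v₁} C]

theorem desc_of_retract {E P B X : C} (π : E ⟶ B) (q : P ⟶ B) (σ : E ⟶ P) (τ : P ⟶ E)
    (hσ : σ ≫ q = π) (hτ : τ ≫ π = q)
    (hq : ∀ (Φ' : P ⟶ X), (∀ (W : C) (p₁ p₂ : W ⟶ P), p₁ ≫ q = p₂ ≫ q → p₁ ≫ Φ' = p₂ ≫ Φ') →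
      ∃ φ : B ⟶ X, q ≫ φ = Φ')
    (Φ : E ⟶ X) (hΦ : ∀ (W : C) (p₁ p₂ : W ⟶ E), p₁ ≫ π = p₂ ≫ π → p₁ ≫ Φ = p₂ ≫ Φ) :
    ∃ φ : B ⟶ X, π ≫ φ = Φ := by
  obtain ⟨φ, hφ⟩ := hq (τ ≫ Φ) (by
    intro W p₁ p₂ h
    rw [← Category.assoc, ← Category.assoc]
    apply hΦ
    rw [Category.assoc, Category.assoc, hτ, h])
  refine ⟨φ, ?_⟩
  rw [← hσ, Category.assoc, hφ]
  have := hΦ E (σ ≫ τ) (𝟙 E) (by rw [Category.assoc, hτ, hσ, Category.id_comp])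
  rw [Category.assoc, Category.id_comp] at this
  exact this

end Cat

variable {C : Type u₁} [Category.{v₁} C] [CartesianMonoidalCategory C]
variable {G G' G'' Mo Mo' X : C} [MonObj G] [MonObj G'] [MonObj G''] [MonObj Mo] [MonObj Mo']

theorem eqv_iff (i : G ⟶ Mo) [IsMonHom i] (a : MonAct G X) {T : C} (φ : Mo ⊗ T ⟶ X) :
    MonAct.IsEquivariant (((MonAct.regular Mo).restrict i).prod (MonAct.trivial G T)) a φ ↔
      ∀ (T' : C) (g : T' ⟶ G) (b : T' ⟶ Mo) (t : T' ⟶ T),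
        lift ((g ≫ i) * b) t ≫ φ = lift g (lift b t ≫ φ) ≫ a.act := by
  rw [MonAct.mem_eqvHom_iff]
  simp only [MonAct.lift_restrict_act, MonAct.lift_regular_act]

variable (i : G ⟶ Mo) [IsMonHom i] (i'' : G'' ⟶ Mo') [IsMonHom i''] (d₁ : G' ⟶ G'') [IsMonHom d₁]
  (d₂ : G'' ⟶ G) [IsMonHom d₂] (ν : Mo' ⟶ Mo) [IsMonHom ν] (a : MonAct G X)

/-- the multiplication map `(g, y) ↦ i(g) ν(y)` -/
def pi : G ⊗ Mo' ⟶ Mo := (fst G Mo' ≫ i) * (snd G Mo' ≫ ν)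

theorem lift_pi {W : C} (g : W ⟶ G) (y : W ⟶ Mo') : lift g y ≫ pi i ν = (g ≫ i) * (y ≫ ν) := by
  unfold pi
  rw [MonObj.comp_mul, lift_fst_assoc, lift_snd_assoc]

theorem lift_pi_whisker {W T : C} (g : W ⟶ G) (y : W ⟶ Mo') (t : W ⟶ T) :
    lift (lift g y) t ≫ (pi i ν ▷ T) = lift ((g ≫ i) * (y ≫ ν)) t := by
  rw [lift_whiskerRight, lift_pi]

/-- injectivity of restriction along `ν` -/
theorem inj (hepi : ∀ (T : C) (u v : Mo ⊗ T ⟶ X), (pi i ν ▷ T) ≫ u = (pi i ν ▷ T) ≫ v → u = v)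
    {T : C} (φ₁ φ₂ : Mo ⊗ T ⟶ X)
    (h₁ : MonAct.IsEquivariant (((MonAct.regular Mo).restrict i).prod (MonAct.trivial G T)) a φ₁)
    (h₂ : MonAct.IsEquivariant (((MonAct.regular Mo).restrict i).prod (MonAct.trivial G T)) a φ₂)
    (h : (ν ▷ T) ≫ φ₁ = (ν ▷ T) ≫ φ₂) : φ₁ = φ₂ := by
  apply hepi
  apply hom_ext_lift₃
  intro W g y t
  rw [eqv_iff] at h₁ h₂
  rw [← Category.assoc, ← Category.assoc, lift_pi_whisker, h₁, h₂]
  have e1 : lift (y ≫ ν) t ≫ φ₁ = lift y t ≫ (ν ▷ T) ≫ φ₁ := by rw [lift_whiskerRight_assoc]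
  have e2 : lift (y ≫ ν) t ≫ φ₂ = lift y t ≫ (ν ▷ T) ≫ φ₂ := by rw [lift_whiskerRight_assoc]
  rw [e1, e2, h]

theorem triple_eq {A B D W : C} (p : W ⟶ (A ⊗ B) ⊗ D) :
    p = lift (lift (p ≫ fst _ _ ≫ fst _ _) (p ≫ fst _ _ ≫ snd _ _)) (p ≫ snd _ _) := by
  apply CartesianMonoidalCategory.hom_ext
  · apply CartesianMonoidalCategory.hom_ext
    · simp
    · simp
  · simp

/-- surjectivity of restriction along `ν` -/
theorem surj (i' : G' ⟶ Mo') [IsMonHom i'] (d : G' ⟶ G) [IsMonHom d]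
    (hi' : d₁ ≫ i'' = i') (hd : d₁ ≫ d₂ = d)
    (hE1 : ∀ (W : C) (u v : G'' ⊗ W ⟶ X), (d₁ ▷ W) ≫ u = (d₁ ▷ W) ≫ v → u = v)
    (hdesc : ∀ (T : C) (Φ : (G ⊗ Mo') ⊗ T ⟶ X),
      (∀ (W : C) (p₁ p₂ : W ⟶ (G ⊗ Mo') ⊗ T),
        p₁ ≫ (pi i ν ▷ T) = p₂ ≫ (pi i ν ▷ T) → p₁ ≫ Φ = p₂ ≫ Φ) →
        ∃ φ : Mo ⊗ T ⟶ X, (pi i ν ▷ T) ≫ φ = Φ)
    (hE2' : ∀ (T : C) (u v : G ⊗ (Mo ⊗ T) ⟶ X),
      (G ◁ (pi i ν ▷ T)) ≫ u = (G ◁ (pi i ν ▷ T)) ≫ v → u = v)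
    (hKP : ∀ (W : C) (g₁ g₂ : W ⟶ G) (y₁ y₂ : W ⟶ Mo'),
      (g₁ ≫ i) * (y₁ ≫ ν) = (g₂ ≫ i) * (y₂ ≫ ν) →
        ∃ h : W ⟶ G'', g₁ = g₂ * (h ≫ d₂) ∧ y₂ = (h ≫ i'') * y₁)
    {T : C} (ψ : Mo' ⊗ T ⟶ X)
    (hψ : MonAct.IsEquivariant (((MonAct.regular Mo').restrict i').prod (MonAct.trivial G' T))
      (a.restrict d) ψ) :
    ∃ φ : Mo ⊗ T ⟶ X,
      MonAct.IsEquivariant (((MonAct.regular Mo).restrict i).prod (MonAct.trivial G T)) a φ ∧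
        (ν ▷ T) ≫ φ = ψ := by
  have hψ' := (eqv_iff i' (a.restrict d) ψ).mp hψ
  simp only [MonAct.lift_restrict_act] at hψ'
  -- Step 1: `G''`-equivariance
  have step1 : ∀ (W : C) (h : W ⟶ G'') (y : W ⟶ Mo') (t : W ⟶ T),
      lift ((h ≫ i'') * y) t ≫ ψ = lift (h ≫ d₂) (lift y t ≫ ψ) ≫ a.act := by
    have huv : lift ((fst G'' (Mo' ⊗ T) ≫ i'') * (snd G'' (Mo' ⊗ T) ≫ fst Mo' T))
          (snd G'' (Mo' ⊗ T) ≫ snd Mo' T) ≫ ψ =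
        lift (fst G'' (Mo' ⊗ T) ≫ d₂) (snd G'' (Mo' ⊗ T) ≫ ψ) ≫ a.act := by
      apply hE1
      apply hom_ext_lift₂
      intro W g' z
      have h0 := hψ' W g' (z ≫ fst _ _) (z ≫ snd _ _)
      rw [lift_comp_fst_snd, ← hi', ← hd] at h0
      simp only [lift_whiskerRight_assoc, comp_lift_assoc, MonObj.comp_mul, lift_fst_assoc,
        lift_snd_assoc, Category.assoc]
      exact h0
    intro W h y t
    have := congrArg (fun e => lift h (lift y t) ≫ e) huv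
    simpa only [comp_lift_assoc, MonObj.comp_mul, lift_fst_assoc, lift_snd_assoc, lift_fst,
      lift_snd] using this
  -- Step 2: the map on `(G ⊗ Mo') ⊗ T`
  obtain ⟨Φ, hΦ⟩ : ∃ Φ : (G ⊗ Mo') ⊗ T ⟶ X, ∀ (W : C) (g : W ⟶ G) (y : W ⟶ Mo') (t : W ⟶ T),
      lift (lift g y) t ≫ Φ = lift g (lift y t ≫ ψ) ≫ a.act := by
    refine ⟨lift (fst _ _ ≫ fst _ _) (lift (fst _ _ ≫ snd _ _) (snd _ _) ≫ ψ) ≫ a.act, ?_⟩
    intro W g y t
    simp only [comp_lift_assoc, lift_fst_assoc, lift_snd_assoc, lift_fst, lift_snd]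
  -- Step 3/4: descent
  obtain ⟨φ, hφ⟩ := hdesc T Φ (by
    intro W p₁ p₂ h
    rw [triple_eq p₁, triple_eq p₂, lift_pi_whisker, lift_pi_whisker] at h
    have e1 := congrArg (fun e => e ≫ fst _ _) h
    have e2 := congrArg (fun e => e ≫ snd _ _) h
    simp only [lift_fst, lift_snd] at e1 e2
    obtain ⟨k, hk1, hk2⟩ := hKP W _ _ _ _ e1
    rw [triple_eq p₁, triple_eq p₂, hΦ, hΦ, hk1, MonAct.lift_mul_act, ← step1, ← hk2, e2])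
  have hφ' : ∀ (W : C) (g : W ⟶ G) (y : W ⟶ Mo') (t : W ⟶ T),
      lift ((g ≫ i) * (y ≫ ν)) t ≫ φ = lift g (lift y t ≫ ψ) ≫ a.act := by
    intro W g y t
    rw [← lift_pi_whisker, Category.assoc, hφ, hΦ]
  refine ⟨φ, ?_, ?_⟩
  · -- Step 6: equivariance
    rw [eqv_iff]
    have huv : lift ((fst G (Mo ⊗ T) ≫ i) * (snd G (Mo ⊗ T) ≫ fst Mo T))
          (snd G (Mo ⊗ T) ≫ snd Mo T) ≫ φ =
        lift (fst G (Mo ⊗ T)) (snd G (Mo ⊗ T) ≫ φ) ≫ a.act := by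
      apply hE2'
      apply hom_ext_lift₂
      intro W g₀ w
      obtain ⟨g, y, t, rfl⟩ : ∃ g y t, w = lift (lift g y) t := ⟨_, _, _, triple_eq w⟩
      simp only [lift_whiskerLeft_assoc, lift_pi_whisker, comp_lift_assoc, MonObj.comp_mul,
        lift_fst_assoc, lift_snd_assoc, lift_fst, lift_snd, Category.assoc]
      rw [← _root_.mul_assoc, ← MonObj.mul_comp, hφ', hφ', MonAct.lift_mul_act]
    intro W g b t
    have := congrArg (fun e => lift g (lift b t) ≫ e) huv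
    simpa only [comp_lift_assoc, MonObj.comp_mul, lift_fst_assoc, lift_snd_assoc, lift_fst,
      lift_snd] using this
  · -- Step 5
    apply hom_ext_lift₂
    intro W y t
    rw [lift_whiskerRight_assoc]
    have h1 := hφ' W 1 y t
    rw [MonObj.one_comp, _root_.one_mul, MonAct.lift_one_act] at h1
    exact h1

end Groth.Agent.H9.MagInd
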