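import Mathlib
import Groth.Prelude.Def_Magnet3
import Groth.Agent.Lib.Helper9.Misc.MagIndA
import Groth.Agent.Lib.Helper9.Misc.MagPts
import Groth.Agent.Lib.Helper9.Misc.MagFix
import Groth.Agent.Lib.Helper9.Misc.MGU2

/-! Helper9: change of group for attractors, `X^{f⁻¹Y ⊂ M} ≅ X^{Y ⊂ Z}` when `Y ⊆ f(M)`,
for an arbitrary `S`-scheme `X` (fpqc descent along `D(M) × A(Y) → A(f⁻¹Y)`). -/

set_option linter.style.haveILetI false
set_option linter.unusedSectionVars false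
set_option autoImplicit false

namespace Groth.Agent.H9.MagIndB

universe u

open CategoryTheory CategoryTheory.Limits AlgebraicGeometry MonoidalCategory
  CartesianMonoidalCategory MonObj Opposite
open Magnet
open Groth.Agent.H9.MagKun Groth.Agent.H9.MagChr Groth.Agent.H9.MagPts Groth.Agent.H9.MagInd

section General

variable (S : Scheme.{u})

theorem qc_map {A B : Type} [AddCommMonoid A] [AddCommMonoid B] (φ : A →+ B) :
    QuasiCompact (AMonS.map S φ).left := by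
  haveI : IsAffineHom ((AMonS.map S φ).left ≫ (AMonS S A).hom) := by
    rw [Over.w]
    infer_instance
  haveI : IsAffineHom (AMonS.map S φ).left := IsAffineHom.of_comp _ (AMonS S A).hom
  infer_instance

theorem ff_of_injective {A B : Type} [AddCommGroup A] [AddCommGroup B] (φ : A →+ B)
    (hφ : Function.Injective φ) :
    Flat (AMonS.map S φ).left ∧ Surjective (AMonS.map S φ).left ∧
      QuasiCompact (AMonS.map S φ).left := by
  refine ⟨?_, ?_, qc_map S φ⟩
  · rw [MagFix.AMonS_map_eq]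
    exact (Groth.Agent.H3.HomDiag.ff_DSmap_of_injective S φ hφ).1
  · rw [MagFix.AMonS_map_eq]
    exact (Groth.Agent.H3.HomDiag.ff_DSmap_of_injective S φ hφ).2

end General

variable {S : Scheme.{u}} {M Z : Type} [AddCommGroup M] [AddCommGroup Z] (f : M →+ Z)
  (Y : AddSubmonoid Z) (hY : Y ≤ AddMonoidHom.mrange f)

/-- `f⁻¹Y → Y` -/
abbrev fN : ↥(Y.comap f) →+ ↥Y := (f.comp (Y.comap f).subtype).codRestrict Y (fun x => x.2)

/-- `ker f → f⁻¹Y` -/
def jK : ↥f.ker →+ ↥(Y.comap f) where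
  toFun k := ⟨k.1, by
    change f k.1 ∈ Y
    rw [(AddMonoidHom.mem_ker).mp k.2]
    exact Y.zero_mem⟩
  map_zero' := rfl
  map_add' _ _ := rfl

include hY in
theorem mem_range_of_mem {z : Z} (hz : z ∈ Y) : z ∈ f.range := by
  obtain ⟨m, hm⟩ := AddMonoidHom.mem_mrange.mp (hY hz)
  exact ⟨m, hm⟩

/-- `Y → f(M)` -/
def jY : ↥Y →+ ↥f.range where
  toFun y := ⟨y.1, mem_range_of_mem f Y hY y.2⟩
  map_zero' := rfl
  map_add' _ _ := rfl

theorem d_eq : AMonS.map S f.range.subtype ≫ AMonS.map S f.rangeRestrict = AMonS.map S f := by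
  rw [← AMonS.map_comp]
  rfl

theorem i'_eq : AMonS.map S f.range.subtype ≫ AMonS.map S (jY f Y hY) = AMonS.map S Y.subtype := by
  rw [← AMonS.map_comp]
  rfl

theorem sq_eq : AMonS.map S (jY f Y hY) ≫ AMonS.map S (fN f Y) =
    AMonS.map S f.rangeRestrict ≫ AMonS.map S (Y.comap f).subtype := by
  rw [← AMonS.map_comp, ← AMonS.map_comp]
  rfl

theorem hE1 {X : Over S} (W : Over S) (u v : AMonS S ↥f.range ⊗ W ⟶ X)
    (h : (AMonS.map S f.range.subtype ▷ W) ≫ u = (AMonS.map S f.range.subtype ▷ W) ≫ v) :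
    u = v := by
  obtain ⟨h1, h2, h3⟩ := ff_of_injective S f.range.subtype f.range.subtype_injective
  obtain ⟨k1, k2, k3⟩ := ff_whiskerRight _ h1 h2 h3 W
  haveI := effectiveEpi_of_ff _ k1 k2 k3
  exact (cancel_epi _).mp h

theorem chr_pt {W : Over S} (g : W ⟶ AMonS S M) (y : W ⟶ AMonS S ↥Y) (n : ↥(Y.comap f)) :
    chr ((g ≫ AMonS.map S (Y.comap f).subtype) * (y ≫ AMonS.map S (fN f Y)))
      (Multiplicative.ofAdd n) =
    chr g (Multiplicative.ofAdd n.1) * chr y (Multiplicative.ofAdd (fN f Y n)) := by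
  rw [chr_mul, chr_comp_map, chr_comp_map]
  rfl

include hY in
theorem kp (W : Over S) (g₁ g₂ : W ⟶ AMonS S M) (y₁ y₂ : W ⟶ AMonS S ↥Y)
    (h : (g₁ ≫ AMonS.map S (Y.comap f).subtype) * (y₁ ≫ AMonS.map S (fN f Y)) =
      (g₂ ≫ AMonS.map S (Y.comap f).subtype) * (y₂ ≫ AMonS.map S (fN f Y))) :
    ∃ k : W ⟶ AMonS S ↥f.range, g₁ = g₂ * (k ≫ AMonS.map S f.rangeRestrict) ∧
      y₂ = (k ≫ AMonS.map S (jY f Y hY)) * y₁ := by
  have hpt : ∀ n : ↥(Y.comap f),
      chr g₁ (Multiplicative.ofAdd n.1) * chr y₁ (Multiplicative.ofAdd (fN f Y n)) =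
      chr g₂ (Multiplicative.ofAdd n.1) * chr y₂ (Multiplicative.ofAdd (fN f Y n)) := by
    intro n
    rw [← chr_pt, ← chr_pt, h]
  let u₁ := (chr g₁).toHomUnits
  let u₂ := (chr g₂).toHomUnits
  have hu₁ : ∀ m, ((u₁ m : Γ(W.left, ⊤)ˣ) : Γ(W.left, ⊤)) = chr g₁ m := fun m => rfl
  have hu₂ : ∀ m, ((u₂ m : Γ(W.left, ⊤)ˣ) : Γ(W.left, ⊤)) = chr g₂ m := fun m => rfl
  let cc : Multiplicative M →* Γ(W.left, ⊤)ˣ := u₂⁻¹ * u₁
  have hcc : ∀ m, chr g₂ m * ((cc m : Γ(W.left, ⊤)ˣ) : Γ(W.left, ⊤)) = chr g₁ m := by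
    intro m
    change ((u₂ m : Γ(W.left, ⊤)ˣ) : Γ(W.left, ⊤)) * (((u₂ m)⁻¹ * u₁ m : Γ(W.left, ⊤)ˣ) :
      Γ(W.left, ⊤)) = _
    rw [← Units.val_mul, mul_inv_cancel_left]
    rfl
  let F : Multiplicative M →* Multiplicative ↥f.range :=
    AddMonoidHom.toMultiplicative f.rangeRestrict
  have hFsurj : Function.Surjective F := fun x => by
    obtain ⟨m, hm⟩ := f.rangeRestrict_surjective (Multiplicative.toAdd x)
    exact ⟨Multiplicative.ofAdd m, congrArg Multiplicative.ofAdd hm⟩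
  have hker : F.ker ≤ cc.ker := by
    intro x hx
    rw [MonoidHom.mem_ker] at hx ⊢
    have h0 : f (Multiplicative.toAdd x) = 0 := by
      have := congrArg (fun z => ((Multiplicative.toAdd z : ↥f.range) : Z)) hx
      exact this
    have hmem : Multiplicative.toAdd x ∈ Y.comap f := by
      change f (Multiplicative.toAdd x) ∈ Y
      rw [h0]
      exact Y.zero_mem
    have h1 := hpt ⟨Multiplicative.toAdd x, hmem⟩
    have h2 : fN f Y ⟨Multiplicative.toAdd x, hmem⟩ = 0 := Subtype.ext h0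
    rw [h2] at h1
    have h3 : (Multiplicative.ofAdd (0 : ↥Y)) = 1 := rfl
    rw [h3, map_one, map_one, _root_.mul_one, _root_.mul_one] at h1
    apply Units.ext
    have h4 := hcc x
    change chr g₂ x * _ = chr g₁ x at h4
    have h5 : chr g₁ x = chr g₂ x := h1
    rw [h5] at h4
    have h6 : ((u₂ x : Γ(W.left, ⊤)ˣ) : Γ(W.left, ⊤)) * ((cc x : Γ(W.left, ⊤)ˣ) : Γ(W.left, ⊤)) =
        ((u₂ x : Γ(W.left, ⊤)ˣ) : Γ(W.left, ⊤)) * 1 := by
      rw [_root_.mul_one]
      exact h4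
    exact (u₂ x).mul_right_inj.mp h6
  let cb : Multiplicative ↥f.range →* Γ(W.left, ⊤)ˣ :=
    F.liftOfRightInverse (Function.surjInv hFsurj) (Function.rightInverse_surjInv hFsurj)
      ⟨cc, hker⟩
  have hcb : ∀ m, cb (F m) = cc m := fun m =>
    MonoidHom.liftOfRightInverse_comp_apply F _ (Function.rightInverse_surjInv hFsurj)
      ⟨cc, hker⟩ m
  obtain ⟨k, hk⟩ := chr_surjective (S := S) (T := W) ((Units.coeHom Γ(W.left, ⊤)).comp cb)
  have hk' : ∀ m, chr k (F m) = ((cc m : Γ(W.left, ⊤)ˣ) : Γ(W.left, ⊤)) := by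
    intro m
    rw [hk]
    change ((cb (F m) : Γ(W.left, ⊤)ˣ) : Γ(W.left, ⊤)) = _
    rw [hcb]
  refine ⟨k, ?_, ?_⟩
  · apply chr_injective
    apply MonoidHom.ext
    intro m
    rw [chr_mul, chr_comp_map]
    exact ((hcc m).symm.trans (by rw [← hk' m])).trans rfl
  · apply chr_injective
    apply MonoidHom.ext
    intro y
    rw [chr_mul, chr_comp_map]
    obtain ⟨m, hm⟩ := AddMonoidHom.mem_mrange.mp (hY (Multiplicative.toAdd y).2)
    have hmem : m ∈ Y.comap f := by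
      change f m ∈ Y
      rw [hm]
      exact (Multiplicative.toAdd y).2
    have e1 : fN f Y ⟨m, hmem⟩ = Multiplicative.toAdd y := Subtype.ext hm
    have e2 : AddMonoidHom.toMultiplicative (jY f Y hY) y = F (Multiplicative.ofAdd m) := by
      apply congrArg Multiplicative.ofAdd
      apply Subtype.ext
      exact hm.symm
    have h1 := hpt ⟨m, hmem⟩
    rw [e1] at h1
    change chr g₁ (Multiplicative.ofAdd m) * chr y₁ y = chr g₂ (Multiplicative.ofAdd m) * chr y₂ y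
      at h1
    rw [e2, hk']
    have h2 : ((u₂ (Multiplicative.ofAdd m) : Γ(W.left, ⊤)ˣ) : Γ(W.left, ⊤)) * chr y₂ y =
        ((u₂ (Multiplicative.ofAdd m) : Γ(W.left, ⊤)ˣ) : Γ(W.left, ⊤)) *
          (((cc (Multiplicative.ofAdd m) : Γ(W.left, ⊤)ˣ) : Γ(W.left, ⊤)) * chr y₁ y) := by
      rw [← _root_.mul_assoc, hu₂, hcc, h1]
    exact (u₂ (Multiplicative.ofAdd m)).mul_right_inj.mp h2

theorem fN_jK (k : ↥f.ker) : fN f Y (jK f Y k) = 0 :=
  Subtype.ext ((AddMonoidHom.mem_ker).mp k.2)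

theorem sigma_cond : fst (AMonS S M) (AMonS S ↥Y) ≫ AMonS.map S f.ker.subtype =
    MagInd.pi (AMonS.map S (Y.comap f).subtype) (AMonS.map S (fN f Y)) ≫
      AMonS.map S (jK f Y) := by
  apply chr_injective
  apply MonoidHom.ext
  intro k
  rw [chr_comp_map, chr_comp_map]
  unfold MagInd.pi
  have h1 := chr_pt f Y (fst (AMonS S M) (AMonS S ↥Y)) (snd (AMonS S M) (AMonS S ↥Y))
    (jK f Y (Multiplicative.toAdd k))
  rw [fN_jK] at h1
  have h3 : (Multiplicative.ofAdd (0 : ↥Y)) = 1 := rfl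
  rw [h3, map_one, _root_.mul_one] at h1
  exact h1.symm

include hY in
theorem fN_surjective : Function.Surjective (fN f Y) := by
  intro y
  obtain ⟨m, hm⟩ := AddMonoidHom.mem_mrange.mp (hY y.2)
  have hmem : m ∈ Y.comap f := by
    change f m ∈ Y
    rw [hm]
    exact y.2
  exact ⟨⟨m, hmem⟩, Subtype.ext hm⟩

include hY in
/-- surjectivity of `D(M) × A(Y) → D(M) ×_{D(K)} A(N)` on points -/
theorem exists_y {W : Over S} (g : W ⟶ AMonS S M) (x : W ⟶ AMonS S ↥(Y.comap f))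
    (hgx : g ≫ AMonS.map S f.ker.subtype = x ≫ AMonS.map S (jK f Y)) :
    ∃ y : W ⟶ AMonS S ↥Y,
      (g ≫ AMonS.map S (Y.comap f).subtype) * (y ≫ AMonS.map S (fN f Y)) = x := by
  let u := (chr g).toHomUnits
  have hu : ∀ m, ((u m : Γ(W.left, ⊤)ˣ) : Γ(W.left, ⊤)) = chr g m := fun m => rfl
  let Ξ : Multiplicative ↥(Y.comap f) →* Γ(W.left, ⊤) :=
    ((Units.coeHom Γ(W.left, ⊤)).comp
      (u⁻¹.comp (AddMonoidHom.toMultiplicative (Y.comap f).subtype))) * chr x
  have hΞ : ∀ n : ↥(Y.comap f), Ξ (Multiplicative.ofAdd n) =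
      (((u (Multiplicative.ofAdd n.1))⁻¹ : Γ(W.left, ⊤)ˣ) : Γ(W.left, ⊤)) *
        chr x (Multiplicative.ofAdd n) := fun n => rfl
  have hk : ∀ k : ↥f.ker, chr x (Multiplicative.ofAdd (jK f Y k)) =
      chr g (Multiplicative.ofAdd k.1) := by
    intro k
    have h1 := chr_comp_map (jK f Y) x (Multiplicative.ofAdd k)
    have h2 := chr_comp_map f.ker.subtype g (Multiplicative.ofAdd k)
    rw [← hgx, h2] at h1
    exact h1.symm
  have wd : ∀ n n' : ↥(Y.comap f), fN f Y n = fN f Y n' →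
      Ξ (Multiplicative.ofAdd n) = Ξ (Multiplicative.ofAdd n') := by
    intro n n' hnn
    have h0 : f n.1 = f n'.1 := congrArg Subtype.val hnn
    have hkm : n'.1 - n.1 ∈ f.ker := by
      rw [AddMonoidHom.mem_ker, map_sub, h0, sub_self]
    obtain ⟨kk, hkk⟩ : ∃ kk : ↥f.ker, kk.1 = n'.1 - n.1 := ⟨⟨_, hkm⟩, rfl⟩
    have hn' : n' = n + jK f Y kk := by
      apply Subtype.ext
      change n'.1 = n.1 + kk.1
      rw [hkk]
      abel
    have e0 : chr x (Multiplicative.ofAdd n') = chr x (Multiplicative.ofAdd (n + jK f Y kk)) :=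
      congrArg (fun z => chr x (Multiplicative.ofAdd z)) hn'
    have e1 : chr x (Multiplicative.ofAdd n') = chr x (Multiplicative.ofAdd n) *
        chr g (Multiplicative.ofAdd kk.1) := by
      rw [e0, ofAdd_add, map_mul, hk]
    have e2 : u (Multiplicative.ofAdd n'.1) = u (Multiplicative.ofAdd n.1) *
        u (Multiplicative.ofAdd kk.1) := by
      rw [← map_mul, ← ofAdd_add]
      congr 2
      rw [hkk]
      abel
    rw [hΞ, hΞ, e1, e2, ← hu (Multiplicative.ofAdd kk.1), mul_inv, Units.val_mul]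
    have e3 : ((u (Multiplicative.ofAdd kk.1))⁻¹ : Γ(W.left, ⊤)ˣ).1 *
        (u (Multiplicative.ofAdd kk.1)).1 = 1 := Units.inv_mul _
    calc ((u (Multiplicative.ofAdd n.1))⁻¹ : Γ(W.left, ⊤)ˣ).1 * chr x (Multiplicative.ofAdd n)
        = ((u (Multiplicative.ofAdd n.1))⁻¹ : Γ(W.left, ⊤)ˣ).1 *
          chr x (Multiplicative.ofAdd n) *
          (((u (Multiplicative.ofAdd kk.1))⁻¹ : Γ(W.left, ⊤)ˣ).1 *
            (u (Multiplicative.ofAdd kk.1)).1) := by rw [e3, _root_.mul_one]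
      _ = _ := by ring
  let FN : Multiplicative ↥(Y.comap f) →* Multiplicative ↥Y :=
    AddMonoidHom.toMultiplicative (fN f Y)
  have hFN : Function.Surjective FN := fun y => by
    obtain ⟨n, hn⟩ := fN_surjective f Y hY (Multiplicative.toAdd y)
    exact ⟨Multiplicative.ofAdd n, congrArg Multiplicative.ofAdd hn⟩
  have wd' : ∀ p p' : Multiplicative ↥(Y.comap f), FN p = FN p' → Ξ p = Ξ p' := by
    intro p p' hpp
    exact wd (Multiplicative.toAdd p) (Multiplicative.toAdd p')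
      (congrArg Multiplicative.toAdd hpp)
  let yc : Multiplicative ↥Y →* Γ(W.left, ⊤) :=
    { toFun := fun y => Ξ (Function.surjInv hFN y)
      map_one' := by
        have := wd' (Function.surjInv hFN 1) 1
          ((Function.surjInv_eq hFN 1).trans (map_one FN).symm)
        rw [this, map_one]
      map_mul' := by
        intro y y'
        have := wd' (Function.surjInv hFN (y * y'))
          (Function.surjInv hFN y * Function.surjInv hFN y')
          ((Function.surjInv_eq hFN _).trans (by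
            rw [map_mul, Function.surjInv_eq hFN, Function.surjInv_eq hFN]))
        rw [this, map_mul] }
  obtain ⟨y, hy⟩ := chr_surjective (S := S) (T := W) yc
  refine ⟨y, ?_⟩
  apply chr_injective
  apply MonoidHom.ext
  intro n
  have h1 := chr_pt f Y g y (Multiplicative.toAdd n)
  refine h1.trans ?_
  rw [hy]
  change chr g (Multiplicative.ofAdd (Multiplicative.toAdd n).1) *
    Ξ (Function.surjInv hFN (FN n)) = chr x n
  rw [wd' (Function.surjInv hFN (FN n)) n (Function.surjInv_eq hFN _)]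
  change chr g (Multiplicative.ofAdd (Multiplicative.toAdd n).1) *
    ((((u (Multiplicative.ofAdd (Multiplicative.toAdd n).1))⁻¹ : Γ(W.left, ⊤)ˣ) :
      Γ(W.left, ⊤)) * chr x n) = chr x n
  rw [← hu, ← _root_.mul_assoc, Units.mul_inv, _root_.one_mul]

section Final

variable (S)

/-- `D(M) ×_{D(ker f)} A(f⁻¹Y)` -/
noncomputable abbrev Pk : Over S :=
  pullback (AMonS.map S f.ker.subtype) (AMonS.map S (jK f Y))

noncomputable abbrev qk : Pk S f Y ⟶ AMonS S ↥(Y.comap f) :=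
  pullback.snd (AMonS.map S f.ker.subtype) (AMonS.map S (jK f Y))

theorem ff_q : Flat (qk S f Y).left ∧ Surjective (qk S f Y).left ∧
    QuasiCompact (qk S f Y).left := by
  obtain ⟨h1, h2, h3⟩ := ff_of_injective S f.ker.subtype f.ker.subtype_injective
  have sq : IsPullback
      (pullback.fst (AMonS.map S f.ker.subtype) (AMonS.map S (jK f Y))).left (qk S f Y).left
      (AMonS.map S f.ker.subtype).left (AMonS.map S (jK f Y)).left :=
    (IsPullback.of_hasPullback (AMonS.map S f.ker.subtype) (AMonS.map S (jK f Y))).map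
      (Over.forget S)
  exact ⟨MorphismProperty.of_isPullback sq h1, MorphismProperty.of_isPullback sq h2,
    MorphismProperty.of_isPullback sq h3⟩

theorem exists_sigma : ∃ σ : AMonS S M ⊗ AMonS S ↥Y ⟶ Pk S f Y,
    σ ≫ qk S f Y = MagInd.pi (AMonS.map S (Y.comap f).subtype) (AMonS.map S (fN f Y)) :=
  ⟨pullback.lift (fst _ _) _ (sigma_cond f Y), pullback.lift_snd _ _ _⟩

include hY in
theorem exists_tau : ∃ τ : Pk S f Y ⟶ AMonS S M ⊗ AMonS S ↥Y,
    τ ≫ MagInd.pi (AMonS.map S (Y.comap f).subtype) (AMonS.map S (fN f Y)) = qk S f Y := by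
  obtain ⟨y, hy⟩ := exists_y f Y hY
    (pullback.fst (AMonS.map S f.ker.subtype) (AMonS.map S (jK f Y))) (qk S f Y)
    pullback.condition
  exact ⟨lift _ y, (MagInd.lift_pi _ _ _ _).trans hy⟩

variable {S}

include hY in
theorem main {X : Over S} (a : MonAct (AMonS S M) X) : IsIso (Magnet.attrComap a f Y) := by
  obtain ⟨σ, hσ⟩ := exists_sigma S f Y
  obtain ⟨τ, hτ⟩ := exists_tau S f Y hY
  obtain ⟨q1, q2, q3⟩ := ff_q S f Y
  have hEq : ∀ T : Over S, EffectiveEpi (qk S f Y ▷ T) := by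
    intro T
    obtain ⟨k1, k2, k3⟩ := ff_whiskerRight _ q1 q2 q3 T
    exact effectiveEpi_of_ff _ k1 k2 k3
  have hEq' : ∀ T : Over S, EffectiveEpi (AMonS S M ◁ (qk S f Y ▷ T)) := by
    intro T
    obtain ⟨k1, k2, k3⟩ := ff_whiskerRight _ q1 q2 q3 T
    obtain ⟨l1, l2, l3⟩ := ff_whiskerLeft _ k1 k2 k3 (AMonS S M)
    exact effectiveEpi_of_ff _ l1 l2 l3
  have hepi : ∀ (T : Over S) (u v : AMonS S ↥(Y.comap f) ⊗ T ⟶ X),
      (MagInd.pi (AMonS.map S (Y.comap f).subtype) (AMonS.map S (fN f Y)) ▷ T) ≫ u =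
        (MagInd.pi (AMonS.map S (Y.comap f).subtype) (AMonS.map S (fN f Y)) ▷ T) ≫ v → u = v := by
    intro T u v h
    haveI := hEq T
    haveI : Epi (MagInd.pi (AMonS.map S (Y.comap f).subtype) (AMonS.map S (fN f Y)) ▷ T) :=
      epi_of_epi_fac (f := τ ▷ T) (h := qk S f Y ▷ T) (by rw [← comp_whiskerRight, hτ])
    exact (cancel_epi _).mp h
  have hE2' : ∀ (T : Over S) (u v : AMonS S M ⊗ (AMonS S ↥(Y.comap f) ⊗ T) ⟶ X),
      (AMonS S M ◁ (MagInd.pi (AMonS.map S (Y.comap f).subtype) (AMonS.map S (fN f Y)) ▷ T)) ≫ u =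
        (AMonS S M ◁ (MagInd.pi (AMonS.map S (Y.comap f).subtype) (AMonS.map S (fN f Y)) ▷ T)) ≫ v →
          u = v := by
    intro T u v h
    haveI := hEq' T
    haveI : Epi (AMonS S M ◁
        (MagInd.pi (AMonS.map S (Y.comap f).subtype) (AMonS.map S (fN f Y)) ▷ T)) :=
      epi_of_epi_fac (f := AMonS S M ◁ (τ ▷ T)) (h := AMonS S M ◁ (qk S f Y ▷ T))
        (by rw [← MonoidalCategory.whiskerLeft_comp, ← comp_whiskerRight, hτ])
    exact (cancel_epi _).mp h
  have hdesc : ∀ (T : Over S) (Φ : (AMonS S M ⊗ AMonS S ↥Y) ⊗ T ⟶ X),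
      (∀ (W : Over S) (p₁ p₂ : W ⟶ (AMonS S M ⊗ AMonS S ↥Y) ⊗ T),
        p₁ ≫ (MagInd.pi (AMonS.map S (Y.comap f).subtype) (AMonS.map S (fN f Y)) ▷ T) =
          p₂ ≫ (MagInd.pi (AMonS.map S (Y.comap f).subtype) (AMonS.map S (fN f Y)) ▷ T) →
            p₁ ≫ Φ = p₂ ≫ Φ) →
        ∃ φ : AMonS S ↥(Y.comap f) ⊗ T ⟶ X,
          (MagInd.pi (AMonS.map S (Y.comap f).subtype) (AMonS.map S (fN f Y)) ▷ T) ≫ φ = Φ := by
    intro T Φ hΦ
    haveI := hEq T
    exact desc_of_retract _ (qk S f Y ▷ T) (σ ▷ T) (τ ▷ T)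
      (by rw [← comp_whiskerRight, hσ]) (by rw [← comp_whiskerRight, hτ])
      (fun Φ' h => ⟨EffectiveEpi.desc (qk S f Y ▷ T) Φ' (fun g₁ g₂ e => h _ g₁ g₂ e),
        EffectiveEpi.fac _ _ _⟩) Φ hΦ
  apply (config := { allowSynthFailures := true }) NatIso.isIso_of_isIso_app
  intro T
  rw [isIso_iff_bijective]
  constructor
  · intro φ φ' hφ
    apply Subtype.ext
    apply MagInd.inj (AMonS.map S (Y.comap f).subtype) (AMonS.map S (fN f Y)) a hepi φ.1 φ'.1
      φ.2 φ'.2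
    exact congrArg Subtype.val hφ
  · intro ψ
    obtain ⟨φ, hφ1, hφ2⟩ := MagInd.surj (AMonS.map S (Y.comap f).subtype)
      (AMonS.map S (jY f Y hY)) (AMonS.map S f.range.subtype) (AMonS.map S f.rangeRestrict)
      (AMonS.map S (fN f Y)) a (AMonS.map S Y.subtype) (AMonS.map S f)
      (i'_eq f Y hY) (d_eq f) (fun W u v h => hE1 f W u v h) hdesc hE2'
      (fun W g₁ g₂ y₁ y₂ h => kp f Y hY W g₁ g₂ y₁ y₂ h) ψ.1 ψ.2
    exact ⟨⟨φ, hφ1⟩, Subtype.ext hφ2⟩

end Final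

end Groth.Agent.H9.MagIndB
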