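import Groth.Agent.Lib.Helper9.Misc.PIN6

set_option linter.style.haveILetI false
set_option linter.unusedSectionVars false
set_option linter.unusedVariables false

namespace Groth.Agent.H9.PIN

open AlgebraicGeometry CategoryTheory Limits TopologicalSpace Opposite

universe u

variable {X Y Z P : Scheme.{u}}

section Iso

variable {i : Z ⟶ X} {j : Z ⟶ Y} {a : X ⟶ P} {b : Y ⟶ P}

theorem IsPinch.of_iso {P' : Scheme.{u}} (hp : IsPinch i j a b) (e : P ≅ P') :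
    IsPinch i j (a ≫ e.hom) (b ≫ e.hom) := by
  have hsq : IsOpenSubSquare i j a b i j (a ≫ e.hom) (b ≫ e.hom) (𝟙 Z) (𝟙 X) (𝟙 Y) e.inv :=
    { hn := inferInstance
      hu := inferInstance
      hv := inferInstance
      hw := inferInstance
      sq := hp.w
      sq₁ := by rw [reassoc_of% hp.w]
      hi := by simp
      hj := by simp
      ha := by simp
      hb := by simp
      cu := fun x _ => ⟨x, rfl⟩
      cv := fun y _ => ⟨y, rfl⟩
      cn := fun z _ => ⟨z, rfl⟩ }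
  exact hsq.isPinch hp

end Iso

section AffinePinch

/-- **Existence of affine pinchings.** -/
theorem exists_affine_pinch {Z₁ X₁ Y₁ : Scheme.{u}} [IsAffine X₁] [IsAffine Y₁] (i₁ : Z₁ ⟶ X₁)
    [IsClosedImmersion i₁] (j₁ : Z₁ ⟶ Y₁) :
    ∃ (P₁ : Scheme.{u}) (a₁ : X₁ ⟶ P₁) (b₁ : Y₁ ⟶ P₁), IsAffine P₁ ∧ IsPinch i₁ j₁ a₁ b₁ := by
  haveI : IsAffine Z₁ := isAffine_of_isAffineHom i₁
  let p : Γ(X₁, ⊤) ⟶ Γ(Z₁, ⊤) := i₁.appTop
  let q : Γ(Y₁, ⊤) ⟶ Γ(Z₁, ⊤) := j₁.appTop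
  have hp : Function.Surjective p := Scheme.Hom.app_surjective i₁ ⊤ (isAffineOpen_top _)
  let c := CommRingCat.pullbackCone q p
  have hR := ringPinch_of_isLimit q p hp c (CommRingCat.pullbackConeIsLimit q p)
  have hS := isPinch_Spec hR
  refine ⟨Spec c.pt, X₁.isoSpec.hom ≫ Spec.map c.snd, Y₁.isoSpec.hom ≫ Spec.map c.fst,
    inferInstance, ?_⟩
  have hsq : IsOpenSubSquare (Spec.map p) (Spec.map q) (Spec.map c.snd) (Spec.map c.fst)
      i₁ j₁ (X₁.isoSpec.hom ≫ Spec.map c.snd) (Y₁.isoSpec.hom ≫ Spec.map c.fst)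
      Z₁.isoSpec.hom X₁.isoSpec.hom Y₁.isoSpec.hom (𝟙 _) :=
    { hn := inferInstance
      hu := inferInstance
      hv := inferInstance
      hw := inferInstance
      sq := hS.w
      sq₁ := by
        rw [← Scheme.isoSpec_hom_naturality_assoc, ← Scheme.isoSpec_hom_naturality_assoc]
        congr 1
        exact hS.w
      hi := (Scheme.isoSpec_hom_naturality i₁).symm
      hj := (Scheme.isoSpec_hom_naturality j₁).symm
      ha := by simp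
      hb := by simp
      cu := fun x _ => ⟨X₁.isoSpec.inv x, by
        rw [← Scheme.Hom.comp_apply, Iso.inv_hom_id]; rfl⟩
      cv := fun y _ => ⟨Y₁.isoSpec.inv y, by
        rw [← Scheme.Hom.comp_apply, Iso.inv_hom_id]; rfl⟩
      cn := fun z _ => ⟨Z₁.isoSpec.inv z, by
        rw [← Scheme.Hom.comp_apply, Iso.inv_hom_id]; rfl⟩ }
  exact hsq.isPinch hS

end AffinePinch

section OI

variable {X₁ Y₁ Z₁ P₁ X₂ Y₂ Z₂ P₂ : Scheme.{u}}
  {i₁ : Z₁ ⟶ X₁} {j₁ : Z₁ ⟶ Y₁} {a₁ : X₁ ⟶ P₁} {b₁ : Y₁ ⟶ P₁}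
  {i₂ : Z₂ ⟶ X₂} {j₂ : Z₂ ⟶ Y₂} {a₂ : X₂ ⟶ P₂} {b₂ : Y₂ ⟶ P₂}

/-- a morphism between pinchings induced by open immersions (with cartesian `Z`-squares) is an
open immersion, and its range has the expected preimages. -/
theorem isOpenImmersion_of_isPinch (hp₁ : IsPinch i₁ j₁ a₁ b₁) (hp₂ : IsPinch i₂ j₂ a₂ b₂)
    (n : Z₁ ⟶ Z₂) (u : X₁ ⟶ X₂) (v : Y₁ ⟶ Y₂) [IsOpenImmersion n] [IsOpenImmersion u]
    [IsOpenImmersion v] (hi : i₁ ≫ u = n ≫ i₂) (hj : j₁ ≫ v = n ≫ j₂)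
    (cn : ∀ z, i₂ z ∈ Set.range u → z ∈ Set.range n)
    (cn' : ∀ z, j₂ z ∈ Set.range v → z ∈ Set.range n)
    (φ : P₁ ⟶ P₂) (hφa : a₁ ≫ φ = u ≫ a₂) (hφb : b₁ ≫ φ = v ≫ b₂) :
    IsOpenImmersion φ ∧ (∀ x, a₂ x ∈ Set.range φ ↔ x ∈ Set.range u) ∧
      (∀ y, b₂ y ∈ Set.range φ ↔ y ∈ Set.range v) := by
  have hUV : i₂ ⁻¹ᵁ u.opensRange = j₂ ⁻¹ᵁ v.opensRange := by
    ext z
    simp only [Scheme.Hom.coe_preimage, Scheme.Hom.coe_opensRange, Set.mem_preimage]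
    constructor
    · intro hz
      obtain ⟨z₁, rfl⟩ := cn z hz
      exact ⟨j₁ z₁, by rw [← Scheme.Hom.comp_apply, hj, Scheme.Hom.comp_apply]⟩
    · intro hz
      obtain ⟨z₁, rfl⟩ := cn' z hz
      exact ⟨i₁ z₁, by rw [← Scheme.Hom.comp_apply, hi, Scheme.Hom.comp_apply]⟩
  obtain ⟨W, hWa, hWb⟩ := hp₂.exists_open _ _ hUV
  have hra : Set.range (u ≫ a₂) ⊆ Set.range W.ι := by
    rintro _ ⟨x, rfl⟩
    rw [Scheme.Opens.range_ι]
    have : u x ∈ a₂ ⁻¹ᵁ W := by rw [hWa]; exact ⟨x, rfl⟩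
    exact this
  have hrb : Set.range (v ≫ b₂) ⊆ Set.range W.ι := by
    rintro _ ⟨y, rfl⟩
    rw [Scheme.Opens.range_ι]
    have : v y ∈ b₂ ⁻¹ᵁ W := by rw [hWb]; exact ⟨y, rfl⟩
    exact this
  let a₁' : X₁ ⟶ W.toScheme := IsOpenImmersion.lift W.ι (u ≫ a₂) hra
  let b₁' : Y₁ ⟶ W.toScheme := IsOpenImmersion.lift W.ι (v ≫ b₂) hrb
  have ha₁' : a₁' ≫ W.ι = u ≫ a₂ := IsOpenImmersion.lift_fac _ _ _
  have hb₁' : b₁' ≫ W.ι = v ≫ b₂ := IsOpenImmersion.lift_fac _ _ _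
  have hsq : IsOpenSubSquare i₂ j₂ a₂ b₂ i₁ j₁ a₁' b₁' n u v W.ι :=
    { hn := inferInstance
      hu := inferInstance
      hv := inferInstance
      hw := inferInstance
      sq := hp₂.w
      sq₁ := by
        rw [← cancel_mono W.ι, Category.assoc, Category.assoc, ha₁', hb₁', reassoc_of% hi,
          reassoc_of% hj, hp₂.w]
      hi := hi
      hj := hj
      ha := ha₁'
      hb := hb₁'
      cu := fun x hx => by
        rw [Scheme.Opens.range_ι] at hx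
        have : x ∈ a₂ ⁻¹ᵁ W := hx
        rw [hWa] at this
        exact this
      cv := fun y hy => by
        rw [Scheme.Opens.range_ι] at hy
        have : y ∈ b₂ ⁻¹ᵁ W := hy
        rw [hWb] at this
        exact this
      cn := cn }
  have hp₁' : IsPinch i₁ j₁ a₁' b₁' := hsq.isPinch hp₂
  let e : P₁ ≅ W.toScheme := hp₁.isPushout.isoIsPushout _ _ hp₁'.isPushout
  have hea : a₁ ≫ e.hom = a₁' := IsPushout.inl_isoIsPushout_hom _ _ _ _
  have heb : b₁ ≫ e.hom = b₁' := IsPushout.inr_isoIsPushout_hom _ _ _ _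
  have hφ : φ = e.hom ≫ W.ι := by
    refine hp₁.hom_ext _ _ ?_ ?_
    · rw [hφa, reassoc_of% hea, ha₁']
    · rw [hφb, reassoc_of% heb, hb₁']
  have hrange : Set.range φ = W := by
    rw [hφ, Scheme.Hom.comp_base, TopCat.coe_comp, Set.range_comp,
      Set.range_eq_univ.mpr e.hom.surjective, Set.image_univ, Scheme.Opens.range_ι]
  refine ⟨by rw [hφ]; infer_instance, fun x => ?_, fun y => ?_⟩
  · rw [hrange]
    change x ∈ a₂ ⁻¹ᵁ W ↔ _
    rw [hWa]; rfl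
  · rw [hrange]
    change y ∈ b₂ ⁻¹ᵁ W ↔ _
    rw [hWb]; rfl

end OI

end Groth.Agent.H9.PIN
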