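import Mathlib
import Groth.Prelude.Def_Magnet4
import Groth.Agent.Lib.Helper9.Misc.MagPushC
import Groth.Agent.Lib.Helper9.Misc.PIN21
import Groth.Agent.Lib.Helper9.Misc.PIN7

/-! Helper9: equivariant Ferrand pushouts `A(F)_T ← A(F)_T × T̄ → A(N)_T × T̄` (S18243). -/

set_option linter.style.haveILetI false
set_option linter.unusedSectionVars false
set_option autoImplicit false

namespace Groth.Agent.H9.MagPO

universe u v₁ u₁

open CategoryTheory CategoryTheory.Limits AlgebraicGeometry MonoidalCategory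
  CartesianMonoidalCategory MonObj Opposite
open Magnet
open Groth.Agent.H9.PIN

section Abstract

variable {C : Type u₁} [Category.{v₁} C] [CartesianMonoidalCategory C] {G : C} [MonObj G]
variable {Z X Y P : C} {i : Z ⟶ X} {j : Z ⟶ Y} {ν₁ : X ⟶ P} {ν₂ : Y ⟶ P}

theorem exists_monAct (hP : IsPushout i j ν₁ ν₂)
    (hGP : IsPushout (G ◁ i) (G ◁ j) (G ◁ ν₁) (G ◁ ν₂))
    (hGGP : IsPushout (G ◁ (G ◁ i)) (G ◁ (G ◁ j)) (G ◁ (G ◁ ν₁)) (G ◁ (G ◁ ν₂)))
    (aZ : MonAct G Z) (aX : MonAct G X) (aY : MonAct G Y)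
    (hi : MonAct.IsEquivariant aZ aX i) (hj : MonAct.IsEquivariant aZ aY j) :
    ∃ aP : MonAct G P, MonAct.IsEquivariant aX aP ν₁ ∧ MonAct.IsEquivariant aY aP ν₂ ∧
      ∀ (W : C) (aW : MonAct G W) (f₁ : X ⟶ W) (f₂ : Y ⟶ W) (w : i ≫ f₁ = j ≫ f₂),
        MonAct.IsEquivariant aX aW f₁ → MonAct.IsEquivariant aY aW f₂ →
        MonAct.IsEquivariant aP aW (hP.desc f₁ f₂ w) := by
  have compat : (G ◁ i) ≫ (aX.act ≫ ν₁) = (G ◁ j) ≫ (aY.act ≫ ν₂) := by
    have e1 : (G ◁ i) ≫ aX.act = aZ.act ≫ i := hi.symm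
    have e2 : (G ◁ j) ≫ aY.act = aZ.act ≫ j := hj.symm
    rw [reassoc_of% e1, reassoc_of% e2, hP.w]
  obtain ⟨act, h1, h2⟩ : ∃ act : G ⊗ P ⟶ P, (G ◁ ν₁) ≫ act = aX.act ≫ ν₁ ∧
      (G ◁ ν₂) ≫ act = aY.act ≫ ν₂ :=
    ⟨hGP.desc _ _ compat, hGP.inl_desc _ _ _, hGP.inr_desc _ _ _⟩
  have hone : (η[G] ▷ P) ≫ act = (λ_ P).hom := by
    have key : (λ_ P).inv ≫ (η[G] ▷ P) ≫ act = 𝟙 P := by
      apply hP.hom_ext
      · rw [Category.comp_id, leftUnitor_inv_naturality_assoc, whisker_exchange_assoc, h1,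
          reassoc_of% aX.one_act, Iso.inv_hom_id_assoc]
      · rw [Category.comp_id, leftUnitor_inv_naturality_assoc, whisker_exchange_assoc, h2,
          reassoc_of% aY.one_act, Iso.inv_hom_id_assoc]
    rw [← cancel_epi (λ_ P).inv, key, Iso.inv_hom_id]
  have hmul : (μ[G] ▷ P) ≫ act = (α_ G G P).hom ≫ (G ◁ act) ≫ act := by
    have key : (α_ G G P).inv ≫ (μ[G] ▷ P) ≫ act = (G ◁ act) ≫ act := by
      apply hGGP.hom_ext
      · rw [associator_inv_naturality_right_assoc, whisker_exchange_assoc, h1,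
          reassoc_of% aX.mul_act, Iso.inv_hom_id_assoc, ← whiskerLeft_comp_assoc, h1,
          whiskerLeft_comp_assoc, h1]
      · rw [associator_inv_naturality_right_assoc, whisker_exchange_assoc, h2,
          reassoc_of% aY.mul_act, Iso.inv_hom_id_assoc, ← whiskerLeft_comp_assoc, h2,
          whiskerLeft_comp_assoc, h2]
    rw [← key, Iso.hom_inv_id_assoc]
  refine ⟨⟨act, hone, hmul⟩, h1.symm, h2.symm, ?_⟩
  intro W aW f₁ f₂ w hf₁ hf₂
  change act ≫ hP.desc f₁ f₂ w = (G ◁ hP.desc f₁ f₂ w) ≫ aW.act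
  apply hGP.hom_ext
  · rw [reassoc_of% h1, hP.inl_desc, ← whiskerLeft_comp_assoc, hP.inl_desc]
    exact hf₁
  · rw [reassoc_of% h2, hP.inr_desc, ← whiskerLeft_comp_assoc, hP.inr_desc]
    exact hf₂

end Abstract

section Pinch

variable {T : Scheme.{u}}

theorem flat_snd_left (G X : Over T) [Flat G.hom] : Flat (snd G X).left := by
  show Flat (pullback.snd G.hom X.hom)
  infer_instance

theorem isClosedImmersion_whiskerLeft (G : Over T) {Z X : Over T} (i : Z ⟶ X)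
    [IsClosedImmersion i.left] : IsClosedImmersion (G ◁ i).left :=
  MorphismProperty.of_isPullback (P := @IsClosedImmersion) (SIM.isPullback_whiskerLeft_left G i)
    inferInstance

theorem isPinch_whiskerLeft (G : Over T) [Flat G.hom] {Z X Y P : Over T} (i : Z ⟶ X) (j : Z ⟶ Y)
    (a : X ⟶ P) (b : Y ⟶ P) [IsClosedImmersion i.left] [IsAffine P.left] [IsAffine X.left]
    [IsAffine Y.left] (hp : IsPinch i.left j.left a.left b.left) :
    IsPinch (G ◁ i).left (G ◁ j).left (G ◁ a).left (G ◁ b).left := by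
  haveI := flat_snd_left G P
  have hw : i ≫ a = j ≫ b := Over.OverMorphism.ext hp.w
  refine hp.flat_baseChange (fun _ : Unit => (⊤ : P.left.Opens)) (fun p => ⟨(), trivial⟩)
    (fun _ => ⟨isAffineOpen_top _, ?_, ?_⟩) (snd G P).left
    (snd G X).left (G ◁ a).left (SIM.isPullback_whiskerLeft_left G a)
    (snd G Y).left (G ◁ b).left (SIM.isPullback_whiskerLeft_left G b)
    (snd G Z).left (G ◁ i).left (SIM.isPullback_whiskerLeft_left G i)
    (G ◁ j).left ?_ ?_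
  · exact isAffineOpen_top _
  · exact isAffineOpen_top _
  · rw [← Over.comp_left, ← Over.comp_left, whiskerLeft_snd]
  · rw [← Over.comp_left, ← Over.comp_left, ← whiskerLeft_comp, ← whiskerLeft_comp, hw]

theorem isPushout_of_isPinch {Z X Y P : Over T} (i : Z ⟶ X) (j : Z ⟶ Y)
    (a : X ⟶ P) (b : Y ⟶ P) (hp : IsPinch i.left j.left a.left b.left) : IsPushout i j a b :=
  IsPushout.of_map (Over.forget T) (Over.OverMorphism.ext hp.w) hp.isPushout

end Pinch

section Main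

variable (T : Scheme.{u}) [IsAffine T] (M : Type) [AddCommMonoid M]

instance flat_AMonS_hom : Flat (AMonS T M).hom := by
  have h0 : Flat (AMon (ULift.{u} ℤ) M).hom := by
    change Flat (Spec.map (CommRingCat.ofHom (algebraMap (ULift.{u} ℤ)
      (MonoidAlgebra (ULift.{u} ℤ) (Multiplicative M)))))
    rw [HasRingHomProperty.Spec_iff (P := @Flat)]
    rw [CommRingCat.hom_ofHom, RingHom.flat_algebraMap_iff]
    infer_instance
  change Flat (pullback.snd (AMon (ULift.{u} ℤ) M).hom _)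
  infer_instance

theorem S18243_main {N F : AddSubmonoid M} (hF : Magnet.IsFace N F) (Tb : Over T)
    (hTb : IsClosedImmersion Tb.hom) :
    ∃ (P : Over T) (ν₁ : Magnet.AMonS T F ⟶ P) (ν₂ : Magnet.AMonS T N ⊗ Tb ⟶ P)
      (hP : IsPushout (CartesianMonoidalCategory.fst (Magnet.AMonS T F) Tb)
        (Magnet.AMonS.faceMap T hF ▷ Tb) ν₁ ν₂)
      (aP : Magnet.MonAct (Magnet.AMonS T M) P),
      IsAffine P.left ∧ Magnet.MonAct.IsEquivariant (Magnet.subAct T M F) aP ν₁ ∧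
      Magnet.MonAct.IsEquivariant
        ((Magnet.subAct T M N).prod (Magnet.MonAct.trivial (Magnet.AMonS T M) Tb)) aP ν₂ ∧
      ∀ (X : Over T) (aX : Magnet.MonAct (Magnet.AMonS T M) X) (f₁ : Magnet.AMonS T F ⟶ X)
        (f₂ : Magnet.AMonS T N ⊗ Tb ⟶ X)
        (w : CartesianMonoidalCategory.fst (Magnet.AMonS T F) Tb ≫ f₁ =
          (Magnet.AMonS.faceMap T hF ▷ Tb) ≫ f₂),
        Magnet.MonAct.IsEquivariant (Magnet.subAct T M F) aX f₁ →
        Magnet.MonAct.IsEquivariant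
          ((Magnet.subAct T M N).prod (Magnet.MonAct.trivial (Magnet.AMonS T M) Tb)) aX f₂ →
        Magnet.MonAct.IsEquivariant aP aX (hP.desc f₁ f₂ w) := by
  haveI := hTb
  haveI : IsAffine Tb.left := isAffine_of_isAffineHom Tb.hom
  haveI : IsAffine (AMonS T ↥F).left := isAffine_of_isAffineHom (AMonS T ↥F).hom
  haveI : IsAffine (AMonS T ↥N ⊗ Tb).left := MGU.affine_tensor _ Tb
  haveI : IsClosedImmersion (fst (AMonS T ↥F) Tb).left := by
    show IsClosedImmersion (pullback.fst (AMonS T ↥F).hom Tb.hom)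
    infer_instance
  obtain ⟨P₁, a₁, b₁, hP₁, hp⟩ := exists_affine_pinch (fst (AMonS T ↥F) Tb).left
    (AMonS.faceMap T hF ▷ Tb).left
  have hpush := hp.isPushout
  have hc : (fst (AMonS T ↥F) Tb).left ≫ (AMonS T ↥F).hom =
      (AMonS.faceMap T hF ▷ Tb).left ≫ (AMonS T ↥N ⊗ Tb).hom := by
    rw [Over.w, Over.w]
  obtain ⟨P, ν₁, ν₂, hPaff, hp'⟩ : ∃ (P : Over T) (ν₁ : AMonS T ↥F ⟶ P)
      (ν₂ : AMonS T ↥N ⊗ Tb ⟶ P), IsAffine P.left ∧
      IsPinch (fst (AMonS T ↥F) Tb).left (AMonS.faceMap T hF ▷ Tb).left ν₁.left ν₂.left :=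
    ⟨Over.mk (hpush.desc _ _ hc), Over.homMk a₁ (hpush.inl_desc _ _ _),
      Over.homMk b₁ (hpush.inr_desc _ _ _), hP₁, hp⟩
  haveI := hPaff
  have hP := isPushout_of_isPinch _ _ _ _ hp'
  have hpG := isPinch_whiskerLeft (AMonS T M) _ _ _ _ hp'
  have hGP := isPushout_of_isPinch _ _ _ _ hpG
  haveI : IsAffine (AMonS T M ⊗ P).left := MGU.affine_tensor _ P
  haveI : IsAffine (AMonS T M ⊗ AMonS T ↥F).left := MGU.affine_tensor _ _
  haveI : IsAffine (AMonS T M ⊗ (AMonS T ↥N ⊗ Tb)).left := MGU.affine_tensor _ _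
  haveI : IsClosedImmersion (AMonS T M ◁ fst (AMonS T ↥F) Tb).left :=
    isClosedImmersion_whiskerLeft _ _
  have hpGG := isPinch_whiskerLeft (AMonS T M) _ _ _ _ hpG
  have hGGP := isPushout_of_isPinch _ _ _ _ hpGG
  obtain ⟨aP, e1, e2, e3⟩ := exists_monAct hP hGP hGGP
    ((subAct T M F).prod (MonAct.trivial (AMonS T M) Tb)) (subAct T M F)
    ((subAct T M N).prod (MonAct.trivial (AMonS T M) Tb))
    (MonAct.isEquivariant_prod_fst _ _)
    (MagPush.isEquivariant_whiskerRight _ (isEquivariant_faceMapS T hF) Tb)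
  exact ⟨P, ν₁, ν₂, hP, aP, inferInstance, e1, e2, fun X aX f₁ f₂ w h1 h2 => e3 X aX f₁ f₂ w h1 h2⟩

end Main

end Groth.Agent.H9.MagPO
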