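import Mathlib

/-!
# Pure algebra for the representability of equivariant extensions (helper9)

`k` a field.  `slice R l : H ⊗ R → R` contracts the first factor with a functional `l : H → k`.
* `mem_range_iff`: `w ∈ H ⊗ R` lies in the image of `C ⊗ R` (for a linear map `ι : C → H`) iff every
  functional `l` vanishing on the image of `ι` kills `w` after slicing.
* `J ι ρ`: the ideal of `B` generated by the slices `(l ⊗ id)(ρ b)`, `l ∘ ι = 0`.
* `ext_iff`: for `ξ : B →ₐ R`, `(id ⊗ ξ) ∘ ρ` takes values in the image of `C ⊗ R` iff `ξ` kills `J`.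
* `exists_lift`: if moreover `ι` is injective, `(id ⊗ ξ) ∘ ρ` lifts to an algebra map `B → C ⊗ R`.
-/

set_option autoImplicit false
universe u
open TensorProduct

namespace Groth.Agent.H9.MagRepA

variable {k : Type*} [Field k]

section lin

variable {H C : Type*} [AddCommGroup H] [Module k H] [AddCommGroup C] [Module k C]

/-- contraction of the first factor with a functional -/
noncomputable def slice (R : Type*) [AddCommGroup R] [Module k R] (l : H →ₗ[k] k) :
    H ⊗[k] R →ₗ[k] R :=
  (TensorProduct.lid k R).toLinearMap ∘ₗ l.rTensor R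

@[simp] theorem slice_tmul (R : Type*) [AddCommGroup R] [Module k R] (l : H →ₗ[k] k) (h : H)
    (r : R) : slice R l (h ⊗ₜ[k] r) = l h • r := by
  simp [slice]

theorem slice_rTensor (R : Type*) [AddCommGroup R] [Module k R] {H' : Type*} [AddCommGroup H']
    [Module k H'] (l : H' →ₗ[k] k) (f : H →ₗ[k] H') (w : H ⊗[k] R) :
    slice R l (f.rTensor R w) = slice R (l ∘ₗ f) w := by
  induction w using TensorProduct.induction_on with
  | zero => simp
  | tmul h r => simp
  | add x y hx hy => simp only [map_add, hx, hy]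

theorem mem_range_iff (R : Type*) [AddCommGroup R] [Module k R] (ι : C →ₗ[k] H)
    (w : H ⊗[k] R) :
    w ∈ LinearMap.range (ι.rTensor R) ↔ ∀ l : H →ₗ[k] k, l ∘ₗ ι = 0 → slice R l w = 0 := by
  constructor
  · rintro ⟨v, rfl⟩ l hl
    rw [slice_rTensor, hl]
    induction v using TensorProduct.induction_on with
    | zero => simp
    | tmul h r => simp
    | add x y hx hy => simp only [map_add, hx, hy, add_zero]
  · intro h
    set q : H →ₗ[k] (H ⧸ LinearMap.range ι) := (LinearMap.range ι).mkQ with hq
    have hex : Function.Exact ι q := LinearMap.exact_map_mkQ_range ι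
    have hsurj : Function.Surjective q := Submodule.mkQ_surjective _
    have hex' := rTensor_exact R hex hsurj
    rw [LinearMap.mem_range]
    refine (hex' w).mp ?_
    let ℬ := Module.Free.chooseBasis k (H ⧸ LinearMap.range ι)
    obtain ⟨c, hc⟩ := TensorProduct.eq_repr_basis_left ℬ (q.rTensor R w)
    have hj : ∀ j, c j = 0 := by
      intro j
      have h1 : slice R (ℬ.coord j) (q.rTensor R w) = 0 := by
        rw [slice_rTensor]
        apply h
        ext x
        have : q (ι x) = 0 := by
          rw [hq, Submodule.mkQ_apply, Submodule.Quotient.mk_eq_zero]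
          exact LinearMap.mem_range_self ι x
        simp [this]
      rw [← hc, Finsupp.sum, map_sum] at h1
      simp only [slice_tmul, Module.Basis.coord_apply, Module.Basis.repr_self,
        Finsupp.single_apply] at h1
      by_contra hne
      rw [Finset.sum_eq_single j] at h1
      · simp at h1
        exact hne h1
      · intro b _ hb
        simp [hb]
      · intro hj'
        simp [Finsupp.notMem_support_iff.mp hj']
    have hc0 : c = 0 := Finsupp.ext hj
    rw [← hc, hc0]
    simp

end lin

section alg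

variable {H C B R : Type*} [CommRing H] [Algebra k H] [CommRing C] [Algebra k C] [CommRing B]
  [Algebra k B] [CommRing R] [Algebra k R]

/-- the ideal of the locus where the orbit map extends -/
def J (ι : C →ₐ[k] H) (ρ : B →ₐ[k] H ⊗[k] B) : Ideal B :=
  Ideal.span {y | ∃ (l : H →ₗ[k] k) (b : B), l ∘ₗ ι.toLinearMap = 0 ∧ y = slice B l (ρ b)}

theorem slice_map (l : H →ₗ[k] k) (ξ : B →ₐ[k] R) (w : H ⊗[k] B) :
    slice R l (Algebra.TensorProduct.map (AlgHom.id k H) ξ w) = ξ (slice B l w) := by
  induction w using TensorProduct.induction_on with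
  | zero => simp
  | tmul h b => simp
  | add x y hx hy => simp only [map_add, hx, hy]

theorem map_rTensor (ι : C →ₐ[k] H) (v : C ⊗[k] R) :
    Algebra.TensorProduct.map ι (AlgHom.id k R) v = ι.toLinearMap.rTensor R v := by
  induction v using TensorProduct.induction_on with
  | zero => simp
  | tmul c r => simp
  | add x y hx hy => simp only [map_add, hx, hy]

theorem ext_iff (ι : C →ₐ[k] H) (ρ : B →ₐ[k] H ⊗[k] B) (ξ : B →ₐ[k] R) :
    (∀ b, ∃ v : C ⊗[k] R, Algebra.TensorProduct.map ι (AlgHom.id k R) v =
        Algebra.TensorProduct.map (AlgHom.id k H) ξ (ρ b)) ↔ ∀ y ∈ J ι ρ, ξ y = 0 := by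
  constructor
  · intro h
    have hle : J ι ρ ≤ RingHom.ker (ξ : B →+* R) := by
      unfold J
      rw [Ideal.span_le]
      rintro y ⟨l, b, hl, rfl⟩
      obtain ⟨v, hv⟩ := h b
      have hmem : Algebra.TensorProduct.map (AlgHom.id k H) ξ (ρ b) ∈
          LinearMap.range (ι.toLinearMap.rTensor R) := ⟨v, by rw [← map_rTensor, hv]⟩
      have := (mem_range_iff R ι.toLinearMap _).mp hmem l hl
      rw [slice_map] at this
      exact this
    intro y hy
    exact hle hy
  · intro h b
    have hmem : Algebra.TensorProduct.map (AlgHom.id k H) ξ (ρ b) ∈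
        LinearMap.range (ι.toLinearMap.rTensor R) := by
      rw [mem_range_iff]
      intro l hl
      rw [slice_map]
      exact h _ (Ideal.subset_span ⟨l, b, hl, rfl⟩)
    obtain ⟨v, hv⟩ := hmem
    exact ⟨v, by rw [map_rTensor, hv]⟩

theorem exists_lift (ι : C →ₐ[k] H) (hι : Function.Injective ι) (ρ : B →ₐ[k] H ⊗[k] B)
    (ξ : B →ₐ[k] R) (h : ∀ y ∈ J ι ρ, ξ y = 0) :
    ∃ ψ : B →ₐ[k] C ⊗[k] R, ∀ b, Algebra.TensorProduct.map ι (AlgHom.id k R) (ψ b) =
      Algebra.TensorProduct.map (AlgHom.id k H) ξ (ρ b) := by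
  set f : C ⊗[k] R →ₐ[k] H ⊗[k] R := Algebra.TensorProduct.map ι (AlgHom.id k R) with hf
  have hfinj : Function.Injective f := by
    intro v v' hvv'
    rw [hf, map_rTensor, map_rTensor] at hvv'
    exact Module.Flat.rTensor_preserves_injective_linearMap ι.toLinearMap hι hvv'
  set g : B →ₐ[k] H ⊗[k] R := (Algebra.TensorProduct.map (AlgHom.id k H) ξ).comp ρ with hg
  have hgr : ∀ b, g b ∈ f.range := by
    intro b
    obtain ⟨v, hv⟩ := (ext_iff ι ρ ξ).mpr h b
    exact ⟨v, hv⟩
  refine ⟨((AlgEquiv.ofInjective f hfinj).symm : f.range →ₐ[k] C ⊗[k] R).comp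
    (g.codRestrict f.range hgr), fun b => ?_⟩
  show f ((AlgEquiv.ofInjective f hfinj).symm (g.codRestrict f.range hgr b)) = g b
  have h1 := AlgEquiv.ofInjective_apply f hfinj
    ((AlgEquiv.ofInjective f hfinj).symm (g.codRestrict f.range hgr b))
  rw [AlgEquiv.apply_symm_apply] at h1
  exact h1.symm

end alg

end Groth.Agent.H9.MagRepA
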