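import Mathlib
import Groth.Prelude.Def_Magnet2
import Groth.Agent.Lib.Helper8.AntiAff.Kun
import Groth.Agent.Lib.Helper8.FinGrp.RedSplit
import Groth.Agent.Lib.Helper9.Misc.MagRepA
import Groth.Agent.Lib.Helper9.Misc.MagRepB

/-!
# Representability of the functor of equivariant maps `M × T → X` by a closed subscheme of `X` (helper9)

`k` a field, `i : G ⟶ M` a scheme-theoretically dominant open immersion of affine monoid `k`-schemes
(`G` a group), `X` an affine `k`-scheme with a `G`-action.  The functor of `G`-equivariant maps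
`M × T → X` is represented by the closed subscheme of `X` cut out by the ideal `MagRepA.J`.
-/

set_option autoImplicit false
set_option linter.unusedSectionVars false
universe u
open CategoryTheory CategoryTheory.Limits MonoidalCategory CartesianMonoidalCategory MonObj
  AlgebraicGeometry Opposite TensorProduct
open Groth.Agent.H8.AntiAff Groth.Agent.H8.RedSplit Magnet

namespace Groth.Agent.H9.MagRepC

variable {k : Type u} [Field k]

/-- the Künneth map -/
noncomputable def E (Y T : Over (Spec (CommRingCat.of k))) :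
    Γ(Y.left, ⊤) ⊗[k] Γ(T.left, ⊤) →ₐ[k] Γ((Y ⊗ T).left, ⊤) :=
  Algebra.TensorProduct.productMap (pb (fst Y T)) (pb (snd Y T))

theorem E_tmul (Y T : Over (Spec (CommRingCat.of k))) (a : Γ(Y.left, ⊤)) (b : Γ(T.left, ⊤)) :
    E Y T (a ⊗ₜ[k] b) = pb (fst Y T) a * pb (snd Y T) b := by
  simp [E]

theorem E_bijective (Y T : Over (Spec (CommRingCat.of k))) [QuasiCompact Y.hom]
    [IsSeparated Y.hom] [QuasiCompact T.hom] [IsSeparated T.hom] :
    Function.Bijective (E Y T) := by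
  obtain ⟨e, he⟩ := kunneth Y T
  have h : ⇑(E Y T) = ⇑e := by
    funext w
    induction w using TensorProduct.induction_on with
    | zero => simp
    | tmul a b => rw [E_tmul, he]
    | add x y hx hy => rw [map_add, map_add, hx, hy]
  rw [h]
  exact e.bijective

theorem E_nat {Y Y' T T' : Over (Spec (CommRingCat.of k))} (f : Y ⟶ Y') (x : T ⟶ T')
    (w : Γ(Y'.left, ⊤) ⊗[k] Γ(T'.left, ⊤)) :
    pb (f ⊗ₘ x) (E Y' T' w) = E Y T (Algebra.TensorProduct.map (pb f) (pb x) w) := by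
  induction w using TensorProduct.induction_on with
  | zero => simp
  | tmul a b =>
    rw [Algebra.TensorProduct.map_tmul, E_tmul, E_tmul, map_mul, ← pb_comp, ← pb_comp,
      tensorHom_fst, tensorHom_snd, pb_comp, pb_comp]
  | add x y hx hy => simp only [map_add, hx, hy]

theorem pb_id_eq (T : Over (Spec (CommRingCat.of k))) : pb (𝟙 T) = AlgHom.id k Γ(T.left, ⊤) :=
  AlgHom.ext fun _ => rfl

theorem E_natR {Y Y' : Over (Spec (CommRingCat.of k))} (f : Y ⟶ Y')
    (T : Over (Spec (CommRingCat.of k))) (w : Γ(Y'.left, ⊤) ⊗[k] Γ(T.left, ⊤)) :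
    pb (f ▷ T) (E Y' T w) =
      E Y T (Algebra.TensorProduct.map (pb f) (AlgHom.id k Γ(T.left, ⊤)) w) := by
  rw [← tensorHom_id, E_nat, pb_id_eq]

theorem E_natL (Y : Over (Spec (CommRingCat.of k))) {T T' : Over (Spec (CommRingCat.of k))}
    (x : T ⟶ T') (w : Γ(Y.left, ⊤) ⊗[k] Γ(T'.left, ⊤)) :
    pb (Y ◁ x) (E Y T' w) =
      E Y T (Algebra.TensorProduct.map (AlgHom.id k Γ(Y.left, ⊤)) (pb x) w) := by
  rw [← id_tensorHom, E_nat, pb_id_eq]

section coact

variable {M G X : Over (Spec (CommRingCat.of k))} [IsAffine M.left] [IsAffine G.left]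
  [IsAffine X.left]

/-- the coaction `Γ(X) → Γ(G) ⊗ Γ(X)` of a morphism `G ⊗ X ⟶ X` -/
noncomputable def coact (act : G ⊗ X ⟶ X) :
    Γ(X.left, ⊤) →ₐ[k] Γ(G.left, ⊤) ⊗[k] Γ(X.left, ⊤) :=
  ((AlgEquiv.ofBijective (E G X) (E_bijective G X)).symm :
    Γ((G ⊗ X).left, ⊤) →ₐ[k] Γ(G.left, ⊤) ⊗[k] Γ(X.left, ⊤)).comp (pb act)

theorem E_coact (act : G ⊗ X ⟶ X) (b : Γ(X.left, ⊤)) : E G X (coact act b) = pb act b := by
  show (AlgEquiv.ofBijective (E G X) (E_bijective G X))
    ((AlgEquiv.ofBijective (E G X) (E_bijective G X)).symm (pb act b)) = pb act b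
  exact AlgEquiv.apply_symm_apply _ _

theorem pb_orbit (act : G ⊗ X ⟶ X) {T : Over (Spec (CommRingCat.of k))} (x : T ⟶ X)
    (b : Γ(X.left, ⊤)) :
    pb ((G ◁ x) ≫ act) b =
      E G T (Algebra.TensorProduct.map (AlgHom.id k Γ(G.left, ⊤)) (pb x) (coact act b)) := by
  rw [pb_comp, ← E_coact, E_natL]

theorem ext_iff (i : G ⟶ M) (hinj : Function.Injective (pb i)) (act : G ⊗ X ⟶ X)
    {T : Over (Spec (CommRingCat.of k))} [IsAffine T.left] (x : T ⟶ X) :
    (∃ φ : M ⊗ T ⟶ X, (i ▷ T) ≫ φ = (G ◁ x) ≫ act) ↔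
      ∀ y ∈ MagRepA.J (pb i) (coact act), pb x y = 0 := by
  constructor
  · rintro ⟨φ, hφ⟩
    rw [← MagRepA.ext_iff]
    intro b
    obtain ⟨v, hv⟩ := (E_bijective M T).2 (pb φ b)
    refine ⟨v, ?_⟩
    apply (E_bijective G T).1
    rw [← E_natR, hv, ← pb_comp, hφ, pb_orbit]
  · intro h
    obtain ⟨ψ, hψ⟩ := MagRepA.exists_lift (pb i) hinj (coact act) (pb x) h
    obtain ⟨φ, hφ⟩ := exists_hom_of_algHom ((E M T).comp ψ)
    refine ⟨φ, hom_ext_of_pb _ _ fun b => ?_⟩
    rw [pb_comp, hφ, AlgHom.comp_apply, E_natR, hψ, pb_orbit]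

end coact

/-- the closed subscheme of an affine `k`-scheme cut out by an ideal, with its universal property -/
theorem exists_closed (X : Over (Spec (CommRingCat.of k))) [IsAffine X.left]
    (J : Ideal Γ(X.left, ⊤)) :
    ∃ (Z : Over (Spec (CommRingCat.of k))) (j : Z ⟶ X), IsAffine Z.left ∧
      IsClosedImmersion j.left ∧
      ∀ (T : Over (Spec (CommRingCat.of k))) (x : T ⟶ X),
        (∀ y ∈ J, pb x y = 0) ↔ ∃ z : T ⟶ Z, z ≫ j = x := by
  obtain ⟨q, hq⟩ : ∃ q : Γ(X.left, ⊤) ⟶ CommRingCat.of (Γ(X.left, ⊤) ⧸ J),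
      q = CommRingCat.ofHom (Ideal.Quotient.mk J) := ⟨_, rfl⟩
  obtain ⟨j₀, hj₀⟩ : ∃ j₀ : Spec (CommRingCat.of (Γ(X.left, ⊤) ⧸ J)) ⟶ X.left,
      j₀ = Spec.map q ≫ X.left.isoSpec.inv := ⟨_, rfl⟩
  have e' : X.left.isoSpec.inv.appTop ≫ (Scheme.ΓSpecIso Γ(X.left, ⊤)).hom = 𝟙 _ := by
    have h1 : X.left.toSpecΓ ≫ X.left.isoSpec.inv = 𝟙 _ := X.left.isoSpec.hom_inv_id
    rw [← Scheme.toSpecΓ_appTop, ← Scheme.Hom.comp_appTop, h1]
    rfl
  have e : X.left.isoSpec.inv.appTop = (Scheme.ΓSpecIso Γ(X.left, ⊤)).inv :=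
    (Iso.comp_hom_eq_id _).mp e'
  have happ : j₀.appTop = q ≫ (Scheme.ΓSpecIso _).inv := by
    rw [hj₀, Scheme.Hom.comp_appTop, e, ← Scheme.ΓSpecIso_inv_naturality]
  let Z : Over (Spec (CommRingCat.of k)) := Over.mk (j₀ ≫ X.hom)
  let j : Z ⟶ X := Over.homMk j₀ rfl
  have pbj : ∀ f, pb j f = (Scheme.ΓSpecIso (CommRingCat.of (Γ(X.left, ⊤) ⧸ J))).inv.hom
      (Ideal.Quotient.mk J f) := by
    intro f
    show j₀.appTop.hom f = _
    rw [happ, hq]
    rfl
  haveI hZ : IsAffine Z.left :=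
    inferInstanceAs (IsAffine (Spec (CommRingCat.of (Γ(X.left, ⊤) ⧸ J))))
  have hcl : IsClosedImmersion j.left := by
    show IsClosedImmersion j₀
    rw [hj₀, hq]
    haveI : IsClosedImmersion (Spec.map (CommRingCat.ofHom (Ideal.Quotient.mk J))) :=
      IsClosedImmersion.spec_of_surjective _ Ideal.Quotient.mk_surjective
    infer_instance
  refine ⟨Z, j, hZ, hcl, fun T x => ⟨fun h => ?_, ?_⟩⟩
  · have hker : ∀ y ∈ J, ((pb x : Γ(X.left, ⊤) →ₐ[k] Γ(T.left, ⊤)) : Γ(X.left, ⊤) →+* Γ(T.left, ⊤)) y = 0 :=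
      fun y hy => h y hy
    let ψ₀ : Γ(Z.left, ⊤) →+* Γ(T.left, ⊤) :=
      (Ideal.Quotient.lift J ((pb x : Γ(X.left, ⊤) →ₐ[k] Γ(T.left, ⊤)) : Γ(X.left, ⊤) →+* Γ(T.left, ⊤)) hker).comp
        (Scheme.ΓSpecIso (CommRingCat.of (Γ(X.left, ⊤) ⧸ J))).hom.hom
    have hψ₀ : ∀ f, ψ₀ (pb j f) = pb x f := by
      intro f
      rw [pbj]
      show (Ideal.Quotient.lift J _ hker)
        ((Scheme.ΓSpecIso (CommRingCat.of (Γ(X.left, ⊤) ⧸ J))).hom.hom
          ((Scheme.ΓSpecIso (CommRingCat.of (Γ(X.left, ⊤) ⧸ J))).inv.hom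
            (Ideal.Quotient.mk J f))) = _
      have h2 : (Scheme.ΓSpecIso (CommRingCat.of (Γ(X.left, ⊤) ⧸ J))).hom.hom
          ((Scheme.ΓSpecIso (CommRingCat.of (Γ(X.left, ⊤) ⧸ J))).inv.hom
            (Ideal.Quotient.mk J f)) = Ideal.Quotient.mk J f := by
        rw [← CommRingCat.comp_apply, Iso.inv_hom_id]
        rfl
      rw [h2, Ideal.Quotient.lift_mk]
      rfl
    let ψ : Γ(Z.left, ⊤) →ₐ[k] Γ(T.left, ⊤) :=
      { ψ₀ with
        commutes' := fun r => by
          have h3 := (pb j).commutes r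
          have h4 := (pb x).commutes r
          show ψ₀ (algebraMap k Γ(Z.left, ⊤) r) = algebraMap k Γ(T.left, ⊤) r
          rw [← h3, hψ₀, h4] }
    obtain ⟨z, hz⟩ := exists_hom_of_algHom ψ
    refine ⟨z, hom_ext_of_pb _ _ fun f => ?_⟩
    rw [pb_comp, hz]
    exact hψ₀ f
  · rintro ⟨z, rfl⟩ y hy
    rw [pb_comp, pbj, Ideal.Quotient.eq_zero_iff_mem.mpr hy, map_zero, map_zero]

/-- `i ▷ T` is scheme-theoretically dominant, hence injective on global functions -/
theorem whiskerRight_inj {M G : Over (Spec (CommRingCat.of k))} (i : G ⟶ M)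
    [IsSchemeTheoreticallyDominant i.left] [QuasiCompact i.left]
    (T : Over (Spec (CommRingCat.of k))) : Function.Injective (pb (i ▷ T)) := by
  haveI : Subsingleton ↥(Spec (CommRingCat.of k)) :=
    inferInstanceAs (Subsingleton (PrimeSpectrum k))
  haveI : Flat T.hom := inferInstance
  haveI : Flat (pullback.fst M.hom T.hom) := inferInstance
  have s : IsPullback ((i ▷ T).left ≫ pullback.snd M.hom T.hom) (pullback.fst G.hom T.hom)
      T.hom (i.left ≫ M.hom) := by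
    rw [Over.whiskerRight_left_snd, Over.w i]
    exact (IsPullback.of_hasPullback G.hom T.hom).flip
  have t : IsPullback (pullback.snd M.hom T.hom) (pullback.fst M.hom T.hom) T.hom M.hom :=
    (IsPullback.of_hasPullback M.hom T.hom).flip
  have hpb : IsPullback (pullback.fst G.hom T.hom) (i ▷ T).left i.left
      (pullback.fst M.hom T.hom) :=
    (IsPullback.of_right s (Over.whiskerRight_left_fst i) t).flip
  haveI : IsSchemeTheoreticallyDominant (i ▷ T).left :=
    IsSchemeTheoreticallyDominant.of_isPullback hpb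
  haveI : QuasiCompact (i ▷ T).left :=
    MorphismProperty.of_isPullback (P := @QuasiCompact) hpb inferInstance
  intro a b h
  exact Scheme.Hom.app_injective (i ▷ T).left ⊤ h

theorem main (M G X : Over (Spec (CommRingCat.of k))) [MonObj M] [GrpObj G] [IsAffine M.left]
    [IsAffine G.left] [IsAffine X.left] (i : G ⟶ M) [IsMonHom i] [IsOpenImmersion i.left]
    [IsSchemeTheoreticallyDominant i.left] (a : AlgGrp.Action G X) :
    ∃ (Z : Over (Spec (CommRingCat.of k))) (j : Z ⟶ X)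
      (e : (Magnet.MonAct.eqvHom ((Magnet.MonAct.regular M).restrict i)
        (Magnet.MonAct.ofAction a)).RepresentableBy Z),
      IsClosedImmersion j.left ∧
      ∀ (T : Over (Spec (CommRingCat.of k))) (z : T ⟶ Z),
        (Magnet.MonAct.eqvHom.evalAt ((Magnet.MonAct.regular M).restrict i)
          (Magnet.MonAct.ofAction a) η[M]).app (op T) (e.homEquiv z) = z ≫ j := by
  haveI : QuasiCompact i.left := inferInstance
  have hinj : Function.Injective (pb i) := fun a b h => Scheme.Hom.app_injective i.left ⊤ h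
  have hD : ∀ (T' : Over (Spec (CommRingCat.of k))) (φ₁ φ₂ : M ⊗ T' ⟶ X),
      (i ▷ T') ≫ φ₁ = (i ▷ T') ≫ φ₂ → φ₁ = φ₂ := fun T' φ₁ φ₂ h =>
    hom_ext_of_pb _ _ fun f => whiskerRight_inj i T' (by rw [← pb_comp, ← pb_comp, h])
  obtain ⟨Z, j, hZ, hj, hfac⟩ :=
    exists_closed X (MagRepA.J (pb i) (coact (Magnet.MonAct.ofAction a).act))
  haveI := hZ
  haveI := hj
  have hjJ : ∀ y ∈ MagRepA.J (pb i) (coact (Magnet.MonAct.ofAction a).act), pb j y = 0 :=
    (hfac Z j).mpr ⟨𝟙 Z, Category.id_comp j⟩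
  obtain ⟨Φ, hΦ⟩ := (ext_iff i hinj (Magnet.MonAct.ofAction a).act j).mpr hjJ
  haveI : Mono j.left := inferInstance
  haveI : Mono j := Over.mono_of_mono_left j
  have hsurj : ∀ (T : Over (Spec (CommRingCat.of k))) (φ : M ⊗ T ⟶ X),
      MonAct.IsEquivariant (((MonAct.regular M).restrict i).prod (MonAct.trivial G T))
        (Magnet.MonAct.ofAction a) φ → ∃ z : T ⟶ Z, z ≫ j = MagRepB.ev φ := by
    intro T φ hφ
    rw [← hfac]
    intro y hy
    have hres := MagRepB.restrict_eq i (Magnet.MonAct.ofAction a) φ hφ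
    apply Scheme.zero_of_zero_cover _ T.left.affineCover
    intro c
    let U : Over (Spec (CommRingCat.of k)) := Over.mk (T.left.affineCover.f c ≫ T.hom)
    let u : U ⟶ T := Over.homMk (T.left.affineCover.f c) rfl
    haveI : IsAffine U.left := inferInstanceAs (IsAffine (T.left.affineCover.X c))
    have h1 : ∀ y ∈ MagRepA.J (pb i) (coact (Magnet.MonAct.ofAction a).act),
        pb (u ≫ MagRepB.ev φ) y = 0 :=
      (ext_iff i hinj (Magnet.MonAct.ofAction a).act (u ≫ MagRepB.ev φ)).mp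
        ⟨(M ◁ u) ≫ φ, by
          rw [← whisker_exchange_assoc, hres, MonoidalCategory.whiskerLeft_comp, Category.assoc]⟩
    have h2 := h1 y hy
    rw [pb_comp] at h2
    exact h2
  obtain ⟨e, he⟩ := MagRepB.representable i (Magnet.MonAct.ofAction a) hD j Φ hΦ hsurj
  exact ⟨Z, j, e, hj, he⟩

end Groth.Agent.H9.MagRepC
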