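import Mathlib

/-! Helper9: explicit equivalences of 2x2 matrices of linear forms (S13916). -/

open MvPolynomial

namespace Groth.Agent.H9.Mat22

variable (k : Type*) [Field k]

theorem part1 : ¬ ∃ g h : GL (Fin 2) k,
      (MvPolynomial.C : k →+* MvPolynomial (Fin 3) k).mapMatrix g.val *
          !![MvPolynomial.X 1, 0; MvPolynomial.X 0, MvPolynomial.X 2] *
        (MvPolynomial.C : k →+* MvPolynomial (Fin 3) k).mapMatrix h.val =
      !![MvPolynomial.X 2, 0; MvPolynomial.X 0, MvPolynomial.X 1] := by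
  rintro ⟨g, h, hyp⟩
  -- evaluate at (0,1,0): entry (1,1)
  have e1 := congrArg (fun N => MvPolynomial.eval (![0, 1, 0] : Fin 3 → k) (N 1 1)) hyp
  have e2 := congrArg (fun N => MvPolynomial.eval (![1, 0, 0] : Fin 3 → k) (N 0 1)) hyp
  have e3 := congrArg (fun N => MvPolynomial.eval (![0, 0, 1] : Fin 3 → k) (N 0 0)) hyp
  simp [Matrix.mul_apply, Fin.sum_univ_two] at e1 e2 e3
  -- e1 : g 1 0 * h 0 1 = 1 ; e2 : g 0 1 * h 0 1 = 0 ; e3 : g 0 1 * h 1 0 = 1
  have hq : h.val 0 1 ≠ 0 := by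
    intro h0
    rw [h0] at e1
    simp at e1
  rcases e2 with e2 | e2
  · rw [e2] at e3
    simp at e3
  · exact hq e2

theorem part2 (α β γ : k) (hα : α ≠ 0) : ∃ g h : GL (Fin 2) k,
      (MvPolynomial.C : k →+* MvPolynomial (Fin 3) k).mapMatrix g.val *
          !![MvPolynomial.X 1, 0;
             MvPolynomial.C α * MvPolynomial.X 0 + MvPolynomial.C β * MvPolynomial.X 1 + MvPolynomial.C γ * MvPolynomial.X 2,
             MvPolynomial.X 2] *
        (MvPolynomial.C : k →+* MvPolynomial (Fin 3) k).mapMatrix h.val =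
      !![MvPolynomial.X 1, 0; MvPolynomial.X 0, MvPolynomial.X 2] := by
  have hα' : α⁻¹ ≠ 0 := inv_ne_zero hα
  refine ⟨Matrix.GeneralLinearGroup.mkOfDetNeZero !![1, 0; -β * α⁻¹, α⁻¹] (by simpa [Matrix.det_fin_two] using hα'),
    Matrix.GeneralLinearGroup.mkOfDetNeZero !![1, 0; -γ, α] (by simpa [Matrix.det_fin_two] using hα), ?_⟩
  have hC : (C α⁻¹ : MvPolynomial (Fin 3) k) * C α = 1 := by
    rw [← C_mul, inv_mul_cancel₀ hα, C_1]
  apply Matrix.ext
  intro i j
  fin_cases i <;> fin_cases j <;>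
    simp [Matrix.GeneralLinearGroup.mkOfDetNeZero, Matrix.mul_apply, Fin.sum_univ_two]
  · linear_combination (X 0 : MvPolynomial (Fin 3) k) * hC
  · linear_combination (X 2 : MvPolynomial (Fin 3) k) * hC

end Groth.Agent.H9.Mat22
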