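import Mathlib

/-! Helper9: invertible blocks of a matrix with ker = range (S16400). -/

namespace Groth.Agent.H9.MatBlocks
open Module Matrix

universe u v
variable {K : Type u} [Field K]

/-- choose a maximal independent subfamily of columns -/
lemma exists_cols {R : Type*} {C : Type v} [Fintype C] [DecidableEq C] (B : Matrix R C K) :
    ∃ S : Finset C, LinearIndependent K (fun j : ↥S => B.col j.1) ∧
      Submodule.span K (Set.range fun j : ↥S => B.col j.1) =
        Submodule.span K (Set.range B.col) := by
  classical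
  obtain ⟨κ, a, ha, hsp, hli⟩ := exists_linearIndependent' K B.col
  refine ⟨Finset.univ.filter (· ∈ Set.range a), ?_, ?_⟩
  · let e : κ → ↥(Finset.univ.filter (· ∈ Set.range a)) := fun k => ⟨a k, by simp⟩
    have he : Function.Bijective e := ⟨fun x y h => ha (congrArg Subtype.val h), fun ⟨j, hj⟩ => by
      simp only [Finset.mem_filter, Finset.mem_univ, true_and] at hj
      obtain ⟨k, rfl⟩ := hj; exact ⟨k, rfl⟩⟩
    have h2 : (fun j : ↥(Finset.univ.filter (· ∈ Set.range a)) => B.col j.1) ∘
        (Equiv.ofBijective e he) = B.col ∘ a := rfl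
    rw [← linearIndependent_equiv (Equiv.ofBijective e he), h2]
    exact hli
  · rw [← hsp]
    congr 1
    ext x
    constructor
    · rintro ⟨⟨j, hj⟩, rfl⟩
      simp only [Finset.mem_filter, Finset.mem_univ, true_and] at hj
      obtain ⟨k, rfl⟩ := hj
      exact ⟨k, rfl⟩
    · rintro ⟨k, rfl⟩
      exact ⟨⟨a k, by simp⟩, rfl⟩

lemma exists_bij_cols {R : Type*} {C : Type v} [Fintype C] [DecidableEq C] (B : Matrix R C K)
    (hB : Function.Surjective B.mulVecLin) :
    ∃ S : Finset C, Function.Bijective (B.submatrix id (Subtype.val : ↥S → C)).mulVecLin := by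
  obtain ⟨S, hli, hsp⟩ := exists_cols B
  refine ⟨S, ?_, ?_⟩
  · change Function.Injective (B.submatrix id (Subtype.val : ↥S → C)).mulVec
    rw [Matrix.mulVec_injective_iff]
    exact hli
  · rw [← LinearMap.range_eq_top, Matrix.range_mulVecLin]
    have : (B.submatrix id (Subtype.val : ↥S → C)).col = fun j : ↥S => B.col j.1 := rfl
    rw [this, hsp, ← Matrix.range_mulVecLin, LinearMap.range_eq_top]
    exact hB

lemma bij_of_transpose {S C : Type*} [Fintype S] [Fintype C]
    (D : Matrix S C K)
    (h : Function.Bijective Dᵀ.mulVecLin) : Function.Bijective D.mulVecLin := by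
  classical
  have hcard : Fintype.card S = Fintype.card C := by
    have := (LinearEquiv.ofBijective Dᵀ.mulVecLin h).finrank_eq
    simpa using this
  have hrank : D.rank = Fintype.card C := by
    rw [← Matrix.rank_transpose, Matrix.rank, LinearMap.range_eq_top.2 h.2, finrank_top]; simp
  have hsurj : Function.Surjective D.mulVecLin := by
    rw [← LinearMap.range_eq_top]
    apply Submodule.eq_top_of_finrank_eq
    change D.rank = _
    rw [hrank]; simp [hcard]
  refine ⟨?_, hsurj⟩
  exact (LinearMap.injective_iff_surjective_of_finrank_eq_finrank (by simp [hcard])).2 hsurj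

lemma exists_bij_rows {R : Type v} {C : Type*} [Fintype R] [Fintype C] [DecidableEq R]
    (M : Matrix R C K) (hM : Function.Injective M.mulVecLin) :
    ∃ S : Finset R, Function.Bijective (M.submatrix (Subtype.val : ↥S → R) id).mulVecLin := by
  have hsurj : Function.Surjective Mᵀ.mulVecLin := by
    rw [← LinearMap.range_eq_top]
    apply Submodule.eq_top_of_finrank_eq
    change Mᵀ.rank = _
    rw [Matrix.rank_transpose, Matrix.rank, LinearMap.finrank_range_of_inj hM]
  obtain ⟨S, hS⟩ := exists_bij_cols Mᵀ hsurj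
  refine ⟨S, bij_of_transpose _ ?_⟩
  rw [Matrix.transpose_submatrix]
  exact hS

theorem main {N : Type v} [Fintype N] [DecidableEq N]
    (A : Matrix N N K)
    (hA : LinearMap.ker A.mulVecLin = LinearMap.range A.mulVecLin) :
    ∃ N₁₂ N₂₁ N₃₁ : Finset N,
      Function.Bijective (A.submatrix (Subtype.val : ↥N₃₁ → N) (Subtype.val : ↥N₂₁ → N)).mulVecLin ∧
      Function.Bijective
        (A.submatrix (Subtype.val : {x : N // x ∉ N₂₁} → N) (Subtype.val : ↥N₁₂ → N)).mulVecLin := by
  obtain ⟨N₂₁, hli, hsp⟩ := exists_cols A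
  -- the column submatrix is injective
  have hC : Function.Injective (A.submatrix id (Subtype.val : ↥N₂₁ → N)).mulVecLin := by
    change Function.Injective (A.submatrix id (Subtype.val : ↥N₂₁ → N)).mulVec
    rw [Matrix.mulVec_injective_iff]
    exact hli
  obtain ⟨N₃₁, h1⟩ := exists_bij_rows _ hC
  -- dimension counts
  have hr : finrank K (LinearMap.range A.mulVecLin) = N₂₁.card := by
    rw [Matrix.range_mulVecLin, ← hsp, finrank_span_eq_card hli, Fintype.card_coe]
  have hn : N₂₁.card + N₂₁.card = Fintype.card N := by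
    have := LinearMap.finrank_range_add_finrank_ker A.mulVecLin
    rw [hA, hr] at this
    simpa using this
  have hcompl : Fintype.card {x : N // x ∉ N₂₁} = N₂₁.card := by
    rw [Fintype.card_subtype_compl, Fintype.card_coe]
    omega
  -- the row submatrix is surjective
  let W : Submodule K (N → K) := LinearMap.range A.mulVecLin
  let res : (N → K) →ₗ[K] ({x : N // x ∉ N₂₁} → K) := LinearMap.funLeft K K Subtype.val
  let g : W →ₗ[K] ({x : N // x ∉ N₂₁} → K) := res.comp W.subtype
  have hg : Function.Injective g := by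
    rw [← LinearMap.ker_eq_bot, LinearMap.ker_eq_bot']
    rintro ⟨w, hw⟩ hres
    have hw0 : ∀ j, j ∉ N₂₁ → w j = 0 := fun j hj => congrFun hres ⟨j, hj⟩
    have hAw : A.mulVecLin w = 0 := by
      have : w ∈ LinearMap.ker A.mulVecLin := by rw [hA]; exact hw
      exact this
    -- w = extension of x := w restricted to N₂₁
    have hx : (A.submatrix id (Subtype.val : ↥N₂₁ → N)).mulVecLin (fun j => w j.1) = 0 := by
      rw [← hAw]
      funext i
      simp only [Matrix.mulVecLin_apply, Matrix.mulVec, dotProduct, Matrix.submatrix_apply, id]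
      rw [← Finset.sum_subset (Finset.subset_univ N₂₁) (fun j _ hj => by rw [hw0 j hj, mul_zero])]
      exact (Finset.sum_coe_sort N₂₁ (fun j => A i j * w j))
    have hx0 : (fun j : ↥N₂₁ => w j.1) = 0 := hC (by rw [hx, map_zero])
    apply Subtype.ext
    funext j
    by_cases hj : j ∈ N₂₁
    · exact congrFun hx0 ⟨j, hj⟩
    · exact hw0 j hj
  have hgs : Function.Surjective g := by
    refine (LinearMap.injective_iff_surjective_of_finrank_eq_finrank ?_).1 hg
    rw [hr, Module.finrank_fintype_fun_eq_card, hcompl]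
  have hB : Function.Surjective
      (A.submatrix (Subtype.val : {x : N // x ∉ N₂₁} → N) id).mulVecLin := by
    intro y
    obtain ⟨⟨w, x, rfl⟩, hw⟩ := hgs y
    refine ⟨x, ?_⟩
    rw [← hw]
    rfl
  obtain ⟨N₁₂, h2⟩ := exists_bij_cols _ hB
  exact ⟨N₁₂, N₂₁, N₃₁, h1, h2⟩

end Groth.Agent.H9.MatBlocks
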