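import Mathlib

/-! Helper9: negative semidefiniteness of intersection-type matrices (S2171). -/

namespace Groth.Agent.H9.MatNeg
open Finset Matrix

theorem main {n : ℕ} (A : Matrix (Fin n) (Fin n) ℝ)
    (m : Fin n → ℝ) (hsymm : A.IsSymm) (hA : ∀ i j, i ≠ j → 0 ≤ A i j) (hm : ∀ i, 0 < m i)
    (hAm : A.mulVec m = 0)
    (hconn : ∀ I : Finset (Fin n), I.Nonempty → I ≠ univ → ∃ i ∈ I, ∃ j ∉ I, A i j ≠ 0)
    (x : Fin n → ℝ) :
    dotProduct x (A.mulVec x) ≤ 0 ∧ (dotProduct x (A.mulVec x) = 0 ↔ ∃ q : ℝ, x = q • m) := by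
  have hm0 : ∀ i, m i ≠ 0 := fun i => (hm i).ne'
  have h1 : ∀ i, ∑ j, A i j * m j = 0 := fun i => by
    have := congrFun hAm i
    simpa [Matrix.mulVec, dotProduct] using this
  have h2 : ∀ j, ∑ i, A i j * m i = 0 := fun j => by
    rw [← h1 j]
    refine Finset.sum_congr rfl fun i _ => ?_
    rw [hsymm.apply i j]
  have hdot : dotProduct x (A.mulVec x) = ∑ i, ∑ j, x i * (A i j * x j) := by
    simp [Matrix.mulVec, dotProduct, Finset.mul_sum]
  have key : ∑ i, ∑ j, A i j * m i * m j * (x i / m i - x j / m j) ^ 2 =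
      -2 * dotProduct x (A.mulVec x) := by
    have e : ∀ i j, A i j * m i * m j * (x i / m i - x j / m j) ^ 2 =
        (x i ^ 2 / m i) * (A i j * m j) + (x j ^ 2 / m j) * (A i j * m i)
          - 2 * (x i * (A i j * x j)) := by
      intro i j
      have := hm0 i
      have := hm0 j
      field_simp
      ring
    simp only [e, Finset.sum_add_distrib, Finset.sum_sub_distrib, ← Finset.mul_sum, h1, mul_zero,
      zero_add]
    rw [Finset.sum_comm]
    simp only [← Finset.mul_sum, h2, mul_zero, Finset.sum_const_zero, zero_sub]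
    rw [hdot]
    simp only [← Finset.mul_sum]
    ring
  have hnn : ∀ i j, 0 ≤ A i j * m i * m j * (x i / m i - x j / m j) ^ 2 := by
    intro i j
    by_cases hij : i = j
    · subst hij; simp
    · exact mul_nonneg (mul_nonneg (mul_nonneg (hA i j hij) (hm i).le) (hm j).le) (sq_nonneg _)
  have hsum_nn : 0 ≤ ∑ i, ∑ j, A i j * m i * m j * (x i / m i - x j / m j) ^ 2 :=
    Finset.sum_nonneg fun i _ => Finset.sum_nonneg fun j _ => hnn i j
  refine ⟨by linarith, ?_⟩
  constructor
  · intro h0
    have hz : ∑ i, ∑ j, A i j * m i * m j * (x i / m i - x j / m j) ^ 2 = 0 := by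
      rw [key, h0, mul_zero]
    have hterm : ∀ i j, A i j * m i * m j * (x i / m i - x j / m j) ^ 2 = 0 := by
      intro i j
      have := (Finset.sum_eq_zero_iff_of_nonneg
        (fun i _ => Finset.sum_nonneg fun j _ => hnn i j)).1 hz i (Finset.mem_univ i)
      exact (Finset.sum_eq_zero_iff_of_nonneg (fun j _ => hnn i j)).1 this j (Finset.mem_univ j)
    have hy : ∀ i j, A i j ≠ 0 → x i / m i = x j / m j := by
      intro i j hij
      have := hterm i j
      simp only [mul_eq_zero, hij, hm0 i, hm0 j, false_or, ne_eq, OfNat.ofNat_ne_zero,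
        not_false_eq_true, pow_eq_zero_iff] at this
      linarith
    rcases Nat.eq_zero_or_pos n with hn | hn
    · subst hn
      exact ⟨0, funext fun i => i.elim0⟩
    · let i0 : Fin n := ⟨0, hn⟩
      refine ⟨x i0 / m i0, ?_⟩
      let I : Finset (Fin n) := Finset.univ.filter fun i => x i / m i = x i0 / m i0
      have hI : I = univ := by
        by_contra hne
        obtain ⟨i, hi, j, hj, hij⟩ := hconn I ⟨i0, by simp [I]⟩ hne
        apply hj
        have hi' : x i / m i = x i0 / m i0 := by simpa [I] using hi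
        simp only [I, Finset.mem_filter, Finset.mem_univ, true_and]
        rw [← hy i j hij, hi']
      funext i
      have : i ∈ I := hI ▸ Finset.mem_univ i
      have hi' : x i / m i = x i0 / m i0 := by simpa [I] using this
      simp only [Pi.smul_apply, smul_eq_mul]
      rw [← hi']
      field_simp [hm0 i]
  · rintro ⟨q, rfl⟩
    rw [Matrix.mulVec_smul, hAm, smul_zero, dotProduct_zero]

end Groth.Agent.H9.MatNeg
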