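import Mathlib
import Groth.Prelude.Def_BlowUp2
import Groth.Prelude.Def_W4c6modpairsegaMP
import Groth.Agent.Lib.Lead.QC.IdealComap
import Groth.Agent.Lib.Helper9.Misc.StdExt
import Groth.Agent.Lib.Helper9.Misc.SchClos

set_option linter.style.haveILetI false

namespace Groth.Agent.H9.ModImg

open CategoryTheory CategoryTheory.Limits AlgebraicGeometry TopologicalSpace

universe u

variable {S V : Scheme.{u}} (I : S.IdealSheafData)

/-- on an affine open where `I = (f)`, the interior is the basic open of `f` -/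
theorem mem_interior_iff {W : S.affineOpens} {f : Γ(S, W.1)} (hf : I.ideal W = Ideal.span {f})
    {x : S} (hx : x ∈ W.1) : x ∈ ModPair.interior I ↔ x ∈ S.basicOpen f := by
  have h1 : x ∈ ModPair.interior I ↔ x ∉ I.support := Iff.rfl
  rw [h1, Scheme.IdealSheafData.mem_support_iff_of_mem hx, hf, Scheme.zeroLocus_span,
    Scheme.zeroLocus_singleton]
  simp

/-- the interior of an effective Cartier divisor is quasi-compact over the ambient scheme -/
theorem quasiCompact_interior_ι (hI : BlowUp.IsEffCartierIdeal I) :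
    QuasiCompact (ModPair.interior I).ι := by
  choose W hW f hf hIf using hI
  refine HasAffineProperty.of_iSup_eq_top (P := @QuasiCompact) W ?_ ?_
  · rw [eq_top_iff]
    intro s _
    exact Opens.mem_iSup.mpr ⟨s, hW s⟩
  · intro s
    show CompactSpace ↥((ModPair.interior I).ι ⁻¹ᵁ (W s).1)
    refine (isCompact_iff_compactSpace
      (s := (SetLike.coe ((ModPair.interior I).ι ⁻¹ᵁ (W s).1)))).mp ?_
    rw [(ModPair.interior I).ι.isOpenEmbedding.isEmbedding.isInducing.isCompact_iff]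
    have : (ModPair.interior I).ι.base '' (SetLike.coe ((ModPair.interior I).ι ⁻¹ᵁ (W s).1))
        = (S.basicOpen (f s) : Set S) := by
      ext x
      constructor
      · rintro ⟨u, hu, rfl⟩
        exact (mem_interior_iff I (hIf s) hu).mp u.2
      · intro hx
        have hxW : x ∈ (W s).1 := S.basicOpen_le _ hx
        exact ⟨⟨x, (mem_interior_iff I (hIf s) hxW).mpr hx⟩, hxW, rfl⟩
    rw [this]
    exact ((W s).2.basicOpen (f s)).isCompact

/-- a generator of `I` becomes a unit on any scheme mapping into the interior -/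
theorem isUnit_app {W : S.affineOpens} {f : Γ(S, W.1)} (hf : I.ideal W = Ideal.span {f})
    (h : V ⟶ S) (hmem : ∀ v, h.base v ∈ ModPair.interior I) : IsUnit ((h.app W.1).hom f) := by
  refine RingedSpace.isUnit_of_isUnit_germ V.toRingedSpace _ _ (fun v hv => ?_)
  refine (Scheme.mem_basicOpen V _ v hv).mp ?_
  have h2 : V.basicOpen ((h.app W.1).hom f) = h ⁻¹ᵁ S.basicOpen f :=
    (Scheme.preimage_basicOpen h f).symm
  rw [h2]
  exact (mem_interior_iff I hf hv).mp (hmem v)

section one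

variable (U : S.Opens) (g : V ⟶ U) [IsClosedImmersion g] (h : V ⟶ S) [QuasiCompact h]
  (hh : g ≫ U.ι = h)

include hh in
theorem toImage_open : IsOpenImmersion h.toImage ∧
    Set.range h.toImage.base = h.imageι.base ⁻¹' (U : Set S) := by
  haveI : IsSchemeTheoreticallyDominant h.toImage := ⟨SchClos.ker_toImage_eq_bot h⟩
  have hpt : ∀ v, h.imageι.base (h.toImage.base v) = h.base v := fun v => by
    rw [← Scheme.Hom.comp_apply, h.toImage_imageι]
  have hrange : Set.range h.toImage.base ⊆ Set.range (h.imageι ⁻¹ᵁ U).ι.base := by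
    rintro _ ⟨v, rfl⟩
    rw [Scheme.Opens.range_ι]
    show h.imageι.base (h.toImage.base v) ∈ U
    rw [hpt, ← hh]
    exact (g.base v).2
  have ht' : IsOpenImmersion.lift (h.imageι ⁻¹ᵁ U).ι h.toImage hrange ≫ (h.imageι ⁻¹ᵁ U).ι =
      h.toImage := IsOpenImmersion.lift_fac _ _ _
  set t' := IsOpenImmersion.lift (h.imageι ⁻¹ᵁ U).ι h.toImage hrange with ht'def
  have hres : (h.imageι ∣_ U) ≫ U.ι = (h.imageι ⁻¹ᵁ U).ι ≫ h.imageι := morphismRestrict_ι _ U
  have hg : t' ≫ (h.imageι ∣_ U) = g := by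
    rw [← cancel_mono U.ι, Category.assoc, hres, ← Category.assoc, ht', h.toImage_imageι, hh]
  haveI : IsClosedImmersion (h.imageι ∣_ U) :=
    IsZariskiLocalAtTarget.restrict (inferInstanceAs (IsClosedImmersion h.imageι)) U
  haveI : IsClosedImmersion (t' ≫ (h.imageι ∣_ U)) := by rw [hg]; infer_instance
  haveI : IsClosedImmersion t' := IsClosedImmersion.of_comp t' (h.imageι ∣_ U)
  haveI : IsIso t' := by
    refine StdExt.isIso_of_factor t' (pullback.fst h.toImage (h.imageι ⁻¹ᵁ U).ι) ?_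
    have : pullback.fst h.toImage (h.imageι ⁻¹ᵁ U).ι ≫ t' =
        pullback.snd h.toImage (h.imageι ⁻¹ᵁ U).ι := by
      rw [← cancel_mono (h.imageι ⁻¹ᵁ U).ι, Category.assoc, ht', pullback.condition]
    rw [this]; infer_instance
  constructor
  · rw [← ht']; infer_instance
  · rw [← ht', Scheme.Hom.comp_base, TopCat.coe_comp, Set.range_comp, t'.surjective.range_eq,
      Set.image_univ, Scheme.Opens.range_ι]
    rfl

end one

section two

variable (hI : BlowUp.IsEffCartierIdeal I) (h : V ⟶ S) [QuasiCompact h]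
  (hmem : ∀ v, h.base v ∈ ModPair.interior I)

include hI hmem in
theorem effCartier_comap : BlowUp.IsEffCartierIdeal (I.comap h.imageι) := by
  intro x
  obtain ⟨W, hsW, f, -, hf⟩ := hI (h.imageι.base x)
  refine ⟨⟨h.imageι ⁻¹ᵁ W.1, W.2.preimage h.imageι⟩, hsW,
    (h.imageι.appLE W.1 (h.imageι ⁻¹ᵁ W.1) le_rfl).hom f, ?_, ?_⟩
  · have hmem' : ∀ v, (h.toImage ≫ h.imageι).base v ∈ ModPair.interior I := fun v => by
      rw [h.toImage_imageι]; exact hmem v
    have hu := isUnit_app I hf (h.toImage ≫ h.imageι) hmem'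
    rw [Scheme.Hom.comp_app] at hu
    refine mem_nonZeroDivisors_of_injective (f := (h.toImage.app (h.imageι ⁻¹ᵁ W.1)).hom)
      (h.toImage_app_injective W) ?_
    apply IsUnit.mem_nonZeroDivisors
    rw [Scheme.Hom.appLE_eq_app]
    exact hu
  · rw [Groth.Agent.LD.QC.ideal_comap_of_le I h.imageι W
      ⟨h.imageι ⁻¹ᵁ W.1, W.2.preimage h.imageι⟩ le_rfl, hf, Ideal.map_span, Set.image_singleton]

end two

theorem main (hI : BlowUp.IsEffCartierIdeal I) {ι : Type u} (V : ι → Scheme.{u})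
    (g : ∀ i, V i ⟶ (ModPair.interior I : Scheme.{u})) [∀ i, IsClosedImmersion (g i)]
    (hsurj : ∀ u : (ModPair.interior I : Scheme.{u}), ∃ (i : ι) (v : V i), (g i).base v = u) :
    (∀ s : S, ∃ (i : ι) (v : (g i ≫ (ModPair.interior I).ι).image),
        (g i ≫ (ModPair.interior I).ι).imageι.base v = s) ∧
      (∀ i, BlowUp.IsEffCartierIdeal (I.comap (g i ≫ (ModPair.interior I).ι).imageι)) ∧
      ∀ i, IsOpenImmersion (g i ≫ (ModPair.interior I).ι).toImage ∧
        Set.range (g i ≫ (ModPair.interior I).ι).toImage.base =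
          (g i ≫ (ModPair.interior I).ι).imageι.base ⁻¹' (ModPair.interior I : Set S) := by
  haveI := quasiCompact_interior_ι I hI
  have hmem : ∀ i (v : V i), (g i ≫ (ModPair.interior I).ι).base v ∈ ModPair.interior I :=
    fun i v => ((g i).base v).2
  refine ⟨?_, fun i => effCartier_comap I hI _ (hmem i), fun i => toImage_open _ (g i) _ rfl⟩
  intro s
  obtain ⟨W, hsW, f, hfnzd, hf⟩ := hI s
  obtain ⟨q, hqmin, hqle⟩ := Ideal.exists_minimalPrimes_le
    (bot_le : (⊥ : Ideal Γ(S, W.1)) ≤ (W.2.primeIdealOf ⟨s, hsW⟩).asIdeal)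
  have hqprime : q.IsPrime := hqmin.1.1
  have hspec : W.2.fromSpec.base ⟨q, hqprime⟩ ⤳ s := by
    have h1 : (⟨q, hqprime⟩ : PrimeSpectrum Γ(S, W.1)) ⤳ W.2.primeIdealOf ⟨s, hsW⟩ :=
      (PrimeSpectrum.le_iff_specializes _ _).mp hqle
    have h2 := h1.map W.2.fromSpec.continuous
    rwa [W.2.fromSpec_primeIdealOf] at h2
  have hfq : f ∉ q := fun hfq =>
    Set.disjoint_left.mp (Ideal.disjoint_nonZeroDivisors_of_mem_minimalPrimes hqmin) hfq hfnzd
  have hξW : W.2.fromSpec.base ⟨q, hqprime⟩ ∈ W.1 := by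
    have : W.2.fromSpec.base ⟨q, hqprime⟩ ∈ Set.range W.2.fromSpec.base := ⟨_, rfl⟩
    rwa [W.2.range_fromSpec] at this
  have hξb : W.2.fromSpec.base ⟨q, hqprime⟩ ∈ S.basicOpen f := by
    have : (⟨q, hqprime⟩ : PrimeSpectrum Γ(S, W.1)) ∈ W.2.fromSpec ⁻¹ᵁ S.basicOpen f := by
      rw [W.2.fromSpec_preimage_basicOpen]; exact hfq
    exact this
  have hξU := (mem_interior_iff I hf hξW).mpr hξb
  obtain ⟨i, v, hv⟩ := hsurj ⟨_, hξU⟩
  have hpt : (g i ≫ (ModPair.interior I).ι).base v = W.2.fromSpec.base ⟨q, hqprime⟩ := by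
    rw [Scheme.Hom.comp_base, TopCat.coe_comp, Function.comp_apply, hv]; rfl
  have hξr : W.2.fromSpec.base ⟨q, hqprime⟩ ∈
      Set.range (g i ≫ (ModPair.interior I).ι).imageι.base :=
    ⟨(g i ≫ (ModPair.interior I).ι).toImage.base v, by
      rw [← Scheme.Hom.comp_apply, Scheme.Hom.toImage_imageι]; exact hpt⟩
  have hclosed : IsClosed (Set.range (g i ≫ (ModPair.interior I).ι).imageι.base) :=
    (g i ≫ (ModPair.interior I).ι).imageι.isClosedEmbedding.isClosed_range
  obtain ⟨w, hw⟩ := hspec.mem_closed hclosed hξr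
  exact ⟨i, w, hw⟩

end Groth.Agent.H9.ModImg
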