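import Mathlib

/-! Helper9: counting monomials with bounded positive exponents by generating functions (S14039) -/

set_option linter.style.haveILetI false

namespace Groth.Agent.H9.MonCount
open PowerSeries

/-- the generating polynomial `X + ... + X^(p-1)` as a power series -/
noncomputable def q (p : ℕ) : ℤ⟦X⟧ := ∑ k ∈ Finset.Ico 1 p, (X : ℤ⟦X⟧) ^ k

lemma q_mul (p : ℕ) (hp : 1 ≤ p) : q p * (1 - X) = X * (1 - X ^ (p - 1)) := by
  unfold q
  induction p, hp using Nat.le_induction with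
  | base => simp
  | succ m hm ih =>
    rw [Finset.sum_Ico_succ_top hm, add_mul, ih]
    obtain ⟨m', rfl⟩ : ∃ m', m = m' + 1 := ⟨m - 1, by omega⟩
    simp only [Nat.add_sub_cancel]
    ring

lemma card_eq_coeff (p n s : ℕ) :
    (Fintype.card {e : Fin n → Fin p // (∀ i, 1 ≤ (e i : ℕ)) ∧ ∑ i, (e i : ℕ) = s} : ℤ) =
      coeff s (q p ^ n) := by
  classical
  have h1 : q p ^ n = ∑ f ∈ Fintype.piFinset (fun _ : Fin n => Finset.Ico 1 p),
      (X : ℤ⟦X⟧) ^ (∑ i, f i) := by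
    rw [← Fin.prod_const, q, Finset.prod_univ_sum]
    refine Finset.sum_congr rfl fun f _ => ?_
    rw [Finset.prod_pow_eq_pow_sum]
  rw [h1, map_sum]
  simp only [coeff_X_pow]
  rw [Finset.sum_boole, Fintype.card_subtype]
  congr 1
  refine Finset.card_bij (fun e _ => fun i => (e i : ℕ)) ?_ ?_ ?_
  · intro e he
    simp only [Finset.mem_filter, Finset.mem_univ, true_and] at he
    simp only [Finset.mem_filter, Fintype.mem_piFinset, Finset.mem_Ico]
    exact ⟨fun i => ⟨he.1 i, (e i).2⟩, he.2.symm⟩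
  · intro e _ e' _ h
    funext i
    exact Fin.ext (congrFun h i)
  · intro f hf
    simp only [Finset.mem_filter, Fintype.mem_piFinset, Finset.mem_Ico] at hf
    refine ⟨fun i => ⟨f i, (hf.1 i).2⟩, ?_, rfl⟩
    simp only [Finset.mem_filter, Finset.mem_univ, true_and]
    exact ⟨fun i => (hf.1 i).1, hf.2.symm⟩

lemma q_pow (p n : ℕ) (hp : 1 ≤ p) (hn : 1 ≤ n) :
    q p ^ n = X ^ n * (1 - X ^ (p - 1)) ^ n *
      (mk fun m => ((Nat.choose (n - 1 + m) (n - 1) : ℕ) : ℤ)) := by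
  obtain ⟨d, rfl⟩ : ∃ d, n = d + 1 := ⟨n - 1, by omega⟩
  have h1 := mk_add_choose_mul_one_sub_pow_eq_one ℤ d
  have h2 : q p ^ (d + 1) * (1 - X) ^ (d + 1) = X ^ (d + 1) * (1 - X ^ (p - 1)) ^ (d + 1) := by
    rw [← mul_pow, q_mul p hp, mul_pow]
  simp only [Nat.add_sub_cancel]
  calc q p ^ (d + 1) = q p ^ (d + 1) * ((mk fun m => ((Nat.choose (d + m) d : ℕ) : ℤ)) *
        (1 - X) ^ (d + 1)) := by rw [h1, mul_one]
    _ = (q p ^ (d + 1) * (1 - X) ^ (d + 1)) * (mk fun m => ((Nat.choose (d + m) d : ℕ) : ℤ)) := by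
        ring
    _ = _ := by rw [h2]

lemma one_sub_pow_expand (a n : ℕ) :
    (1 - (X : ℤ⟦X⟧) ^ a) ^ n =
      ∑ i ∈ Finset.range (n + 1), C ((-1 : ℤ) ^ i * (n.choose i : ℤ)) * X ^ (i * a) := by
  have h : (1 - (X : ℤ⟦X⟧) ^ a) = (-(X ^ a) + 1) := by ring
  rw [h, add_pow]
  refine Finset.sum_congr rfl fun i _ => ?_
  rw [one_pow, mul_one, neg_pow, ← pow_mul, map_mul, map_pow, map_neg, map_one, map_natCast,
    mul_comm i a]
  ring

theorem S14039_main (p n s : ℕ) (hn : 1 ≤ n) :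
    (Fintype.card {e : Fin n → Fin p // (∀ i, 1 ≤ (e i : ℕ)) ∧ ∑ i, (e i : ℕ) = s} : ℤ) =
      ∑ i ∈ Finset.range (n + 1),
        (-1 : ℤ) ^ i * (n.choose i : ℤ) *
          (if i * (p - 1) + n ≤ s then (((s - i * (p - 1) - 1).choose (n - 1) : ℕ) : ℤ) else 0) := by
  rcases Nat.eq_zero_or_pos p with hp | hp
  · -- p = 0: both sides vanish
    subst hp
    have hempty : IsEmpty {e : Fin n → Fin 0 // (∀ i, 1 ≤ (e i : ℕ)) ∧ ∑ i, (e i : ℕ) = s} := by
      refine ⟨fun e => ?_⟩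
      exact (e.1 ⟨0, hn⟩).elim0
    rw [Fintype.card_eq_zero, Nat.cast_zero]
    simp only [Nat.zero_sub, mul_zero, zero_add, Nat.sub_zero]
    rw [← Finset.sum_mul]
    have : ∑ i ∈ Finset.range (n + 1), (-1 : ℤ) ^ i * (n.choose i : ℤ) = 0 :=
      Int.alternating_sum_range_choose_of_ne (by omega)
    rw [this, zero_mul]
  rw [card_eq_coeff, q_pow p n hp hn, one_sub_pow_expand, mul_assoc, Finset.sum_mul, Finset.mul_sum,
    map_sum]
  refine Finset.sum_congr rfl fun i _ => ?_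
  rw [mul_assoc, mul_left_comm, coeff_C_mul, ← mul_assoc, ← pow_add, coeff_X_pow_mul', coeff_mk]
  congr 1
  have hcond : (n + i * (p - 1) ≤ s) ↔ (i * (p - 1) + n ≤ s) := by omega
  by_cases hc : i * (p - 1) + n ≤ s
  · rw [if_pos hc, if_pos (hcond.mpr hc)]
    congr 2
    omega
  · rw [if_neg hc, if_neg (fun h => hc (hcond.mp h))]

end Groth.Agent.H9.MonCount
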