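import Mathlib

/-! Helper9: A[T_1..T_r]/(F_i(T_i)) is free of rank ∏ deg F_i (S4610). -/

open Polynomial

namespace Groth.Agent.H9.MonicQuot

universe u

/-- the ideal `(F_i(T_i))` -/
noncomputable def J {A : Type u} [CommRing A] {r : ℕ} (F : Fin r → A[X]) :
    Ideal (MvPolynomial (Fin r) A) :=
  Ideal.span (Set.range fun i => Polynomial.aeval (MvPolynomial.X i : MvPolynomial (Fin r) A) (F i))

section step
variable {A : Type u} [CommRing A] {r : ℕ} (F : Fin (r + 1) → A[X])

/-- base ring for the inductive step -/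
abbrev B := AdjoinRoot (F 0)

/-- the mapped polynomials -/
noncomputable def F' : Fin r → (B F)[X] := fun i => (F i.succ).map (algebraMap A (B F))

abbrev QA := MvPolynomial (Fin (r + 1)) A ⧸ J F
abbrev QB := MvPolynomial (Fin r) (B F) ⧸ J (F' F)

/-- images of the variables in `QB` -/
noncomputable def v : Fin (r + 1) → QB F :=
  Fin.cons (algebraMap (B F) (QB F) (AdjoinRoot.root (F 0)))
    (fun i => Ideal.Quotient.mk (J (F' F)) (MvPolynomial.X i))

theorem aeval_v (i : Fin (r + 1)) : Polynomial.aeval (v F i) (F i) = 0 := by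
  refine Fin.cases ?_ (fun j => ?_) i
  · simp only [v, Fin.cons_zero]
    rw [Polynomial.aeval_algebraMap_apply, AdjoinRoot.aeval_eq, AdjoinRoot.mk_self, map_zero]
  · simp only [v, Fin.cons_succ]
    have h1 : Polynomial.aeval (Ideal.Quotient.mk (J (F' F)) (MvPolynomial.X j)) (F j.succ) =
        Ideal.Quotient.mk (J (F' F)) (Polynomial.aeval (MvPolynomial.X j : MvPolynomial (Fin r) (B F)) (F j.succ)) := by
      have := Polynomial.aeval_algHom_apply (Ideal.Quotient.mkₐ A (J (F' F)))
        (MvPolynomial.X j : MvPolynomial (Fin r) (B F)) (F j.succ)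
      exact this
    rw [h1, Ideal.Quotient.eq_zero_iff_mem]
    have h2 : Polynomial.aeval (MvPolynomial.X j : MvPolynomial (Fin r) (B F)) (F j.succ) =
        Polynomial.aeval (MvPolynomial.X j : MvPolynomial (Fin r) (B F)) (F' F j) := by
      rw [F', Polynomial.aeval_map_algebraMap]
    rw [h2]
    exact Ideal.subset_span ⟨j, rfl⟩

/-- `QA → QB` -/
noncomputable def α : QA F →ₐ[A] QB F :=
  Ideal.Quotient.liftₐ (J F) (MvPolynomial.aeval (v F)) (by
    intro a ha
    have : J F ≤ RingHom.ker (MvPolynomial.aeval (v F) : MvPolynomial (Fin (r + 1)) A →ₐ[A] QB F) := by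
      rw [J, Ideal.span_le]
      rintro _ ⟨i, rfl⟩
      change MvPolynomial.aeval (v F) _ = 0
      rw [← Polynomial.aeval_algHom_apply, MvPolynomial.aeval_X]
      exact aeval_v F i
    exact this ha)

theorem α_mk_X (i : Fin (r + 1)) : α F (Ideal.Quotient.mk (J F) (MvPolynomial.X i)) = v F i := by
  change MvPolynomial.aeval (v F) (MvPolynomial.X i) = _
  rw [MvPolynomial.aeval_X]

theorem aeval_X0 : Polynomial.aeval (Ideal.Quotient.mk (J F) (MvPolynomial.X 0)) (F 0) = 0 := by
  have := Polynomial.aeval_algHom_apply (Ideal.Quotient.mkₐ A (J F))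
    (MvPolynomial.X 0 : MvPolynomial (Fin (r + 1)) A) (F 0)
  rw [Ideal.Quotient.mkₐ_eq_mk] at this
  rw [this, Ideal.Quotient.eq_zero_iff_mem]
  exact Ideal.subset_span ⟨0, rfl⟩

/-- `B → QA` -/
noncomputable def φB : B F →ₐ[A] QA F :=
  AdjoinRoot.liftAlgHom (F 0) (Algebra.ofId A (QA F)) (Ideal.Quotient.mk (J F) (MvPolynomial.X 0))
    (aeval_X0 F)

theorem φB_root : φB F (AdjoinRoot.root (F 0)) = Ideal.Quotient.mk (J F) (MvPolynomial.X 0) :=
  AdjoinRoot.liftAlgHom_root _ _ _ _

/-- `B[T] → QA` -/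
noncomputable def β₀ : MvPolynomial (Fin r) (B F) →+* QA F :=
  MvPolynomial.eval₂Hom (φB F : B F →+* QA F) (fun i => Ideal.Quotient.mk (J F) (MvPolynomial.X i.succ))

theorem β₀_C (b : B F) : β₀ F (MvPolynomial.C b) = φB F b := by
  simp [β₀]

theorem β₀_X (i : Fin r) : β₀ F (MvPolynomial.X i) = Ideal.Quotient.mk (J F) (MvPolynomial.X i.succ) := by
  simp [β₀]

theorem β₀_J : ∀ a ∈ J (F' F), β₀ F a = 0 := by
  intro a ha
  have : J (F' F) ≤ RingHom.ker (β₀ F) := by
    rw [J, Ideal.span_le]
    rintro _ ⟨j, rfl⟩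
    change β₀ F (Polynomial.aeval (MvPolynomial.X j : MvPolynomial (Fin r) (B F)) (F' F j)) = 0
    rw [Polynomial.aeval_def, Polynomial.hom_eval₂, β₀_X, F', Polynomial.eval₂_map]
    have hcomp : ((β₀ F).comp (algebraMap (B F) (MvPolynomial (Fin r) (B F)))).comp (algebraMap A (B F))
        = algebraMap A (QA F) := by
      ext a
      simp only [RingHom.comp_apply, MvPolynomial.algebraMap_eq, β₀_C]
      exact (φB F).commutes a
    rw [hcomp, ← Polynomial.aeval_def]
    have := Polynomial.aeval_algHom_apply (Ideal.Quotient.mkₐ A (J F))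
      (MvPolynomial.X j.succ : MvPolynomial (Fin (r + 1)) A) (F j.succ)
    rw [Ideal.Quotient.mkₐ_eq_mk] at this
    rw [this, Ideal.Quotient.eq_zero_iff_mem]
    exact Ideal.subset_span ⟨j.succ, rfl⟩
  exact this ha

/-- `QB → QA` -/
noncomputable def β : QB F →ₐ[A] QA F :=
  { Ideal.Quotient.lift (J (F' F)) (β₀ F) (β₀_J F) with
    commutes' := by
      intro a
      have : algebraMap A (QB F) a = Ideal.Quotient.mk (J (F' F)) (MvPolynomial.C (algebraMap A (B F) a)) := rfl
      change Ideal.Quotient.lift (J (F' F)) (β₀ F) (β₀_J F) (algebraMap A (QB F) a) = _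
      rw [this, Ideal.Quotient.lift_mk, β₀_C]
      exact (φB F).commutes a }

theorem β_mk (p : MvPolynomial (Fin r) (B F)) : β F (Ideal.Quotient.mk (J (F' F)) p) = β₀ F p := rfl

theorem βα : (β F).comp (α F) = AlgHom.id A (QA F) := by
  apply Ideal.Quotient.algHom_ext
  apply MvPolynomial.algHom_ext
  intro i
  simp only [AlgHom.comp_apply, Ideal.Quotient.mkₐ_eq_mk, AlgHom.id_apply]
  rw [α_mk_X]
  refine Fin.cases ?_ (fun j => ?_) i
  · simp only [v, Fin.cons_zero]
    have : algebraMap (B F) (QB F) (AdjoinRoot.root (F 0)) =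
        Ideal.Quotient.mk (J (F' F)) (MvPolynomial.C (AdjoinRoot.root (F 0))) := rfl
    rw [this, β_mk, β₀_C, φB_root]
  · simp only [v, Fin.cons_succ]
    rw [β_mk, β₀_X]

theorem αβ : (α F).comp (β F) = AlgHom.id A (QB F) := by
  have hB : ∀ b : B F, α F (φB F b) = algebraMap (B F) (QB F) b := by
    intro b
    have : (α F).comp (φB F) = IsScalarTower.toAlgHom A (B F) (QB F) := by
      apply AdjoinRoot.algHom_ext
      rw [AlgHom.comp_apply, φB_root, α_mk_X]
      simp [v]
    exact DFunLike.congr_fun this b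
  have : ((α F).comp (β F) : QB F →+* QB F) = RingHom.id _ := by
    apply Ideal.Quotient.ringHom_ext
    apply MvPolynomial.ringHom_ext
    · intro b
      simp only [RingHom.comp_apply, RingHom.id_apply]
      change α F (β F (Ideal.Quotient.mk _ (MvPolynomial.C b))) = _
      rw [β_mk, β₀_C, hB]
      rfl
    · intro i
      simp only [RingHom.comp_apply, RingHom.id_apply]
      change α F (β F (Ideal.Quotient.mk _ (MvPolynomial.X i))) = _
      rw [β_mk, β₀_X, α_mk_X]
      simp [v]
  ext x
  exact DFunLike.congr_fun this x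

/-- the equivalence -/
noncomputable def e : QA F ≃ₐ[A] QB F := AlgEquiv.ofAlgHom (α F) (β F) (αβ F) (βα F)

end step

theorem main_pos : ∀ (r : ℕ) (A : Type u) [CommRing A] [Nontrivial A] (F : Fin r → A[X]),
    (∀ i, (F i).Monic) → (∀ i, 0 < (F i).natDegree) →
    Module.Free A (MvPolynomial (Fin r) A ⧸ J F) ∧
      Module.finrank A (MvPolynomial (Fin r) A ⧸ J F) = Finset.univ.prod fun i => (F i).natDegree := by
  intro r
  induction r with
  | zero =>
    intro A _ _ F _ _
    have hJ : J F = ⊥ := by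
      rw [J, Ideal.span_eq_bot]
      rintro _ ⟨i, rfl⟩
      exact i.elim0
    let e : (MvPolynomial (Fin 0) A ⧸ J F) ≃ₐ[A] A :=
      ((Ideal.quotientEquivAlgOfEq A hJ).trans (AlgEquiv.quotientBot A _)).trans
        (MvPolynomial.isEmptyAlgEquiv A (Fin 0))
    refine ⟨Module.Free.of_equiv e.toLinearEquiv.symm, ?_⟩
    rw [e.toLinearEquiv.finrank_eq, Module.finrank_self]
    simp
  | succ r ih =>
    intro A _ _ F hF hpos
    have hfreeB : Module.Free A (B F) := (hF 0).free_adjoinRoot
    have hrankB : Module.finrank A (B F) = (F 0).natDegree := by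
      have := (AdjoinRoot.powerBasis' (hF 0)).finrank
      rw [this]; rfl
    have hntB : Nontrivial (B F) := by
      apply Module.nontrivial_of_finrank_pos (R := A)
      rw [hrankB]; exact hpos 0
    have hF' : ∀ i, (F' F i).Monic := fun i => (hF i.succ).map _
    have hdeg' : ∀ i, (F' F i).natDegree = (F i.succ).natDegree := fun i => (hF i.succ).natDegree_map _
    obtain ⟨h1, h2⟩ := ih (B F) (F' F) hF' (fun i => by rw [hdeg']; exact hpos _)
    have hfree : Module.Free A (QB F) := Module.Free.trans (R := A) (S := B F) (M := QB F)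
    refine ⟨Module.Free.of_equiv (e F).toLinearEquiv.symm, ?_⟩
    rw [(e F).toLinearEquiv.finrank_eq, ← Module.finrank_mul_finrank A (B F) (QB F), hrankB, h2,
      Fin.prod_univ_succ]
    congr 1
    exact Finset.prod_congr rfl fun i _ => hdeg' i

theorem main {A : Type u} [CommRing A] [Nontrivial A]
    {r : ℕ} (F : Fin r → Polynomial A) (hF : ∀ i, (F i).Monic) :
    Module.Free A (MvPolynomial (Fin r) A ⧸ J F) ∧
      Module.finrank A (MvPolynomial (Fin r) A ⧸ J F) =
        Finset.univ.prod fun i => (F i).natDegree := by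
  by_cases h : ∀ i, 0 < (F i).natDegree
  · exact main_pos r A F hF h
  · push Not at h
    obtain ⟨i, hi⟩ := h
    have hi0 : (F i).natDegree = 0 := by omega
    have h1 : F i = 1 := Polynomial.eq_one_of_monic_natDegree_zero (hF i) hi0
    have hJ : J F = ⊤ := by
      rw [Ideal.eq_top_iff_one]
      have : Polynomial.aeval (MvPolynomial.X i : MvPolynomial (Fin r) A) (F i) ∈ J F :=
        Ideal.subset_span ⟨i, rfl⟩
      rwa [h1, map_one] at this
    have hsub : Subsingleton (MvPolynomial (Fin r) A ⧸ J F) := by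
      rw [hJ]; exact Ideal.Quotient.subsingleton_iff.mpr rfl
    refine ⟨Module.Free.of_subsingleton _ _, ?_⟩
    rw [Module.finrank_zero_of_subsingleton]
    exact (Finset.prod_eq_zero (Finset.mem_univ i) hi0).symm

end Groth.Agent.H9.MonicQuot
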