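import Mathlib

/-! Helper9: monomorphisms into Spec of a finite product of fields (algebra part) -/

namespace Groth.Agent.H9.MonoProd

open CategoryTheory AlgebraicGeometry TensorProduct

universe u

/-- epimorphisms out of a semisimple commutative ring are surjective -/
theorem surjective_of_isEpi_of_semisimple (R B : Type*) [CommRing R] [IsSemisimpleRing R] [CommRing B]
    [Algebra R B] [hepi : Algebra.IsEpi R B] : Function.Surjective (algebraMap R B) := by
  let R' : Submodule R B := LinearMap.range (Algebra.linearMap R B)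
  obtain ⟨C, hC⟩ := exists_isCompl R'
  let ρ : B →ₗ[R] R' := Submodule.linearProjOfIsCompl R' C hC
  have hρ1 : ((ρ 1 : R') : B) = 1 := by
    have h1 : (1 : B) ∈ R' := ⟨1, by simp⟩
    exact congrArg Subtype.val (Submodule.linearProjOfIsCompl_apply_left hC ⟨1, h1⟩)
  let μ : B ⊗[R] B →ₗ[R] B := TensorProduct.lift ((LinearMap.mul R B).comp (R'.subtype.comp ρ))
  intro b
  have h := (Algebra.isEpi_iff_forall_one_tmul_eq R B).mp hepi b
  have h2 := congrArg μ h
  simp only [μ, TensorProduct.lift.tmul, LinearMap.comp_apply, Submodule.subtype_apply, LinearMap.mul_apply',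
    hρ1, one_mul, mul_one] at h2
  have hb : b ∈ R' := h2 ▸ (ρ b).2
  obtain ⟨r, hr⟩ := hb
  exact ⟨r, hr⟩

/-- kernel of a ring hom out of a finite product of fields -/
theorem ker_eq {ι : Type*} [Finite ι] (k : ι → Type*) [∀ i, Field (k i)] {B : Type*} [CommRing B]
    (φ : (Π i, k i) →+* B) :
    ∃ I : Set ι, RingHom.ker φ =
      RingHom.ker (Pi.ringHom fun i : I => Pi.evalRingHom k i.1) := by
  classical
  cases nonempty_fintype ι
  refine ⟨{i | Pi.single i (1 : k i) ∉ RingHom.ker φ}, ?_⟩
  ext r
  simp only [RingHom.mem_ker]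
  constructor
  · intro hr
    funext ⟨i, hi⟩
    show r i = 0
    by_contra hri
    apply hi
    have : Pi.single i (1 : k i) = Pi.single i (r i)⁻¹ * r := by
      funext j
      by_cases hj : j = i
      · subst hj; simp [hri]
      · simp [Pi.single_eq_of_ne hj]
    rw [RingHom.mem_ker, this, map_mul, hr, mul_zero]
  · intro hr
    have hri : ∀ i, Pi.single i (1 : k i) ∉ RingHom.ker φ → r i = 0 := by
      intro i hi
      exact congrFun hr ⟨i, hi⟩
    have hsum : r = ∑ i, Pi.single i (r i) := by
      funext j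
      simp [Finset.sum_apply, Pi.single_apply]
    rw [hsum, map_sum]
    apply Finset.sum_eq_zero
    intro i _
    by_cases hi : Pi.single i (1 : k i) ∈ RingHom.ker φ
    · have : Pi.single i (r i) = Pi.single i (r i) * Pi.single i (1 : k i) := by
        funext j
        by_cases hj : j = i
        · subst hj; simp
        · simp [Pi.single_eq_of_ne hj]
      rw [this, map_mul, RingHom.mem_ker.mp hi, mul_zero]
    · rw [hri i hi]
      simp

theorem proj_surjective {ι : Type*} (k : ι → Type*) [∀ i, Field (k i)] (I : Set ι) :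
    Function.Surjective (Pi.ringHom fun i : I => Pi.evalRingHom k i.1) := by
  classical
  intro y
  refine ⟨fun i => if h : i ∈ I then y ⟨i, h⟩ else 0, ?_⟩
  funext ⟨i, hi⟩
  show (if h : i ∈ I then y ⟨i, h⟩ else 0) = y ⟨i, hi⟩
  rw [dif_pos hi]

/-- algebraic core -/
theorem alg_core {ι : Type u} [Finite ι] (k : ι → Type u) [∀ i, Field (k i)] {B : Type u} [CommRing B]
    (φ : (Π i, k i) →+* B) (hφ : Function.Surjective φ) :
    ∃ (I : Set ι) (χ : (Π i : I, k i) ≃+* B),
      χ.toRingHom.comp (Pi.ringHom fun i : I => Pi.evalRingHom k i.1) = φ := by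
  obtain ⟨I, hI⟩ := ker_eq k φ
  let π := Pi.ringHom fun i : I => Pi.evalRingHom k i.1
  have hπ : Function.Surjective π := proj_surjective k I
  let χ₀ : (Π i : I, k i) →+* B := π.liftOfSurjective hπ ⟨φ, hI.symm.le⟩
  have hχ₀ : χ₀.comp π = φ := π.liftOfSurjective_comp hπ ⟨φ, hI.symm.le⟩
  have hbij : Function.Bijective χ₀ := by
    constructor
    · rw [injective_iff_map_eq_zero]
      intro y hy
      obtain ⟨r, rfl⟩ := hπ y
      have : φ r = 0 := by rw [← hχ₀]; exact hy
      have h2 : r ∈ RingHom.ker π := by rw [← hI]; exact this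
      exact h2
    · intro b
      obtain ⟨r, rfl⟩ := hφ b
      exact ⟨π r, by rw [← hχ₀]; rfl⟩
  refine ⟨I, RingEquiv.ofBijective χ₀ hbij, ?_⟩
  exact hχ₀

end Groth.Agent.H9.MonoProd
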