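import Mathlib
import Groth.Agent.Lib.Helper9.Misc.MonoProd

/-! Helper9: monomorphisms into Spec of a finite product of fields -/

namespace Groth.Agent.H9.MonoProd

open CategoryTheory AlgebraicGeometry TensorProduct

universe u

theorem main {ι : Type u} [Finite ι] (k : ι → Type u) [∀ i, Field (k i)]
    {X : Scheme.{u}} (f : X ⟶ Spec (CommRingCat.of (Π i, k i))) [Mono f] :
    ∃ (I : Set ι) (e : X ≅ Spec (CommRingCat.of (Π i : I, k i))),
      e.hom ≫ Spec.map (CommRingCat.ofHom (Pi.ringHom fun i : I => Pi.evalRingHom k i.1)) = f := by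
  -- Step 1: X affine
  have hfinY : Finite (PrimeSpectrum (Π i, k i)) := inferInstance
  have hdiscY : DiscreteTopology (PrimeSpectrum (Π i, k i)) := inferInstance
  have hfinY' : Finite ↥(Spec (CommRingCat.of (Π i, k i))) := hfinY
  have hdiscY' : DiscreteTopology ↥(Spec (CommRingCat.of (Π i, k i))) := hdiscY
  have hinj : Function.Injective f := f.injective
  have : Finite X := Finite.of_injective _ hinj
  have : DiscreteTopology X := DiscreteTopology.of_continuous_injective f.continuous hinj
  have : IsAffine X := inferInstance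
  -- Step 2
  let R : CommRingCat := CommRingCat.of (Π i, k i)
  let φ : R ⟶ Γ(X, ⊤) := (Scheme.ΓSpecIso R).inv ≫ f.appTop
  have hf : f = X.isoSpec.hom ≫ Spec.map φ := by
    rw [Spec.map_comp, ← Scheme.isoSpec_Spec_inv, Scheme.isoSpec_hom_naturality_assoc, Iso.hom_inv_id,
      Category.comp_id]
  have hmono : Mono (Spec.map φ) := by
    have : Spec.map φ = X.isoSpec.inv ≫ f := by rw [hf, Iso.inv_hom_id_assoc]
    rw [this]; infer_instance
  have hepi : Epi φ := by
    have : Mono φ.op := Scheme.Spec.mono_of_mono_map hmono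
    exact unop_epi_of_mono φ.op
  let _ : Algebra (Π i, k i) Γ(X, ⊤) := φ.hom.toAlgebra
  have hIsEpi : Algebra.IsEpi (Π i, k i) Γ(X, ⊤) := CommRingCat.epi_iff_epi.mp hepi
  have hsurj : Function.Surjective φ.hom := surjective_of_isEpi_of_semisimple (Π i, k i) Γ(X, ⊤)
  obtain ⟨I, χ, hχ⟩ := alg_core k φ.hom hsurj
  refine ⟨I, X.isoSpec ≪≫ Scheme.Spec.mapIso (χ.toCommRingCatIso).op, ?_⟩
  rw [hf]
  simp only [Iso.trans_hom, Functor.mapIso_hom, Iso.op_hom, Category.assoc]
  congr 1
  show Spec.map _ ≫ Spec.map _ = _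
  rw [← Spec.map_comp]
  congr 1
  ext x
  exact congrArg (fun g : _ →+* _ => g x) hχ

end Groth.Agent.H9.MonoProd
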