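import Mathlib

/-! Helper9: Morita equivalent commutative rings are isomorphic, via the centre of the module category (S2203). -/

open CategoryTheory

namespace Groth.Agent.H9.MoritaComm

universe u

section
variable (A : Type u) [CommRing A]

theorem toCatCenter_bijective :
    Function.Bijective (Linear.toCatCenter A (ModuleCat.{u} A)) := by
  constructor
  · intro a b h
    have := congrArg
      (fun z : CatCenter (ModuleCat.{u} A) => (z.app (ModuleCat.of A A)).hom (1 : A)) h
    simpa using this
  · intro z
    refine ⟨(z.app (ModuleCat.of A A)).hom (1 : A), ?_⟩
    ext M m
    have nat := z.naturality (ModuleCat.ofHom (LinearMap.toSpanSingleton A M m))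
    have := congrArg (fun f => f.hom (1 : A)) nat
    simp only [ModuleCat.hom_comp, LinearMap.coe_comp, Function.comp_apply, ModuleCat.hom_ofHom,
      LinearMap.toSpanSingleton_apply, one_smul] at this
    rw [this]
    simp

end

section
variable {C D : Type*} [Category C] [Category D] [Preadditive C] [Preadditive D]
  (e : C ≌ D) [e.functor.Additive]

theorem localizationRingHom_bijective
    [e.functor.IsLocalization (MorphismProperty.isomorphisms C)] :
    Function.Bijective
      (CatCenter.localizationRingHom e.functor (MorphismProperty.isomorphisms C)) := by
  constructor
  · intro r s h
    ext X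
    apply e.functor.map_injective
    have := congrArg (fun z : CatCenter D => z.app (e.functor.obj X)) h
    simpa [CatCenter.localizationRingHom] using this
  · intro t
    refine ⟨{ app := fun X => e.functor.preimage (t.app (e.functor.obj X))
              naturality := ?_ }, ?_⟩
    · intro X Y f
      apply e.functor.map_injective
      simp only [Functor.id_obj, Functor.id_map, Functor.map_comp, Functor.map_preimage]
      exact t.naturality (e.functor.map f)
    · apply CatCenter.ext_of_localization e.functor (MorphismProperty.isomorphisms C)
      intro X
      simp only [CatCenter.localizationRingHom, RingHom.coe_mk, MonoidHom.coe_mk, OneHom.coe_mk,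
        CatCenter.localization_app]
      exact e.functor.map_preimage _

end

theorem main (A B : Type u) [CommRing A] [CommRing B]
    (F : ModuleCat.{u} A ≌ ModuleCat.{u} B) : Nonempty (A ≃+* B) := by
  have hadd : F.functor.Additive := Functor.additive_of_preserves_binary_products _
  have hloc : F.functor.IsLocalization (MorphismProperty.isomorphisms (ModuleCat.{u} A)) :=
    Functor.IsLocalization.of_isEquivalence _ _ (le_refl _)
  let eA := RingEquiv.ofBijective _ (toCatCenter_bijective A)
  let eB := RingEquiv.ofBijective _ (toCatCenter_bijective B)
  let eF := RingEquiv.ofBijective _ (localizationRingHom_bijective F)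
  exact ⟨(eA.trans eF).trans eB.symm⟩

end Groth.Agent.H9.MoritaComm
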