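import Mathlib
import Groth.Prelude.Def_GLin

/-! Helper9: the numerical function mu(v, lambda) of a one-parameter subgroup acting on affine space via Laurent-polynomial orders (S12544, S12545) -/

set_option linter.unusedSectionVars false
set_option linter.unusedVariables false
set_option linter.unusedSimpArgs false

universe u

namespace Groth.Agent.H9.Mu

open TensorProduct LaurentPolynomial Polynomial

section Laurent

variable {k : Type u} [CommRing k]

theorem coeff_toLaurent_nat (q : k[X]) (n : ℕ) : (toLaurent q).coeff (n : ℤ) = q.coeff n := by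
  rw [LaurentPolynomial.coeff_toLaurent]
  have := Finsupp.mapDomain_apply (f := (Nat.castEmbedding : ℕ ↪ ℤ)) Nat.castEmbedding.injective q.toFinsupp.coeff n
  refine (this.trans ?_)
  cases q
  rfl

theorem coeff_toLaurent_neg (q : k[X]) (n : ℤ) (hn : n < 0) : (toLaurent q).coeff n = 0 := by
  rw [LaurentPolynomial.coeff_toLaurent]
  apply Finsupp.mapDomain_of_notMem_range
  rintro ⟨j, hj⟩
  simp at hj
  omega

theorem coeff_T_mul (m n : ℤ) (p : k[T;T⁻¹]) : (T m * p).coeff n = p.coeff (n - m) := by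
  unfold LaurentPolynomial.T
  rw [AddMonoidAlgebra.coeff_single_mul_apply, one_mul]
  congr 1
  ring

theorem exists_toLaurent_iff (p : k[T;T⁻¹]) :
    (∃ q : k[X], toLaurent q = p) ↔ ∀ n : ℤ, n < 0 → p.coeff n = 0 := by
  constructor
  · rintro ⟨q, rfl⟩ n hn
    exact coeff_toLaurent_neg q n hn
  · intro h
    obtain ⟨N, q', hq'⟩ := LaurentPolynomial.exists_T_pow p
    -- q' is divisible by X^N
    have hdiv : (X : k[X]) ^ N ∣ q' := by
      rw [Polynomial.X_pow_dvd_iff]
      intro d hd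
      rw [← coeff_toLaurent_nat, hq', ← LaurentPolynomial.T_mul, coeff_T_mul]
      apply h
      omega
    obtain ⟨q'', rfl⟩ := hdiv
    refine ⟨q'', ?_⟩
    rw [map_mul, Polynomial.toLaurent_X_pow, mul_comm] at hq'
    have hT : (T (N : ℤ) : k[T;T⁻¹]) * T (-(N : ℤ)) = 1 := by
      rw [← LaurentPolynomial.T_add, add_neg_cancel, LaurentPolynomial.T_zero]
    calc toLaurent q'' = toLaurent q'' * (T (N : ℤ) * T (-(N : ℤ))) := by rw [hT, mul_one]
      _ = (toLaurent q'' * T (N : ℤ)) * T (-(N : ℤ)) := by ring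
      _ = (p * T (N : ℤ)) * T (-(N : ℤ)) := by rw [hq']
      _ = p * (T (N : ℤ) * T (-(N : ℤ))) := by ring
      _ = p := by rw [hT, mul_one]

end Laurent

section Orbit

variable {k : Type u} [Field k] {A : Type u} [CommRing A] [Bialgebra k A]
  {ι : Type u} [Fintype ι] [HopfRep.Comod k A (MvPolynomial ι k)] [GLin.IsCoactAlg k A (MvPolynomial ι k)]

/-- counit of the orbit map -/
theorem counit_orbitHom_aux (x : MvPolynomial ι k →ₐ[k] k) (t : MvPolynomial ι k ⊗[k] A) :
    Coalgebra.counit (R := k) (Algebra.TensorProduct.lid k A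
      (Algebra.TensorProduct.map x (AlgHom.id k A) t)) =
      x (TensorProduct.rid k (MvPolynomial ι k)
        (LinearMap.lTensor (MvPolynomial ι k) (Coalgebra.counit (R := k) (A := A)) t)) := by
  induction t using TensorProduct.induction_on with
  | zero => simp
  | tmul r a =>
    simp only [Algebra.TensorProduct.map_tmul, AlgHom.coe_id, id_eq, Algebra.TensorProduct.lid_tmul,
      LinearMap.lTensor_tmul, TensorProduct.rid_tmul, map_smul, smul_eq_mul]
    ring
  | add a b ha hb => simp only [map_add, ha, hb]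

theorem counit_orbitHom (x : MvPolynomial ι k →ₐ[k] k) (f : MvPolynomial ι k) :
    Coalgebra.counit (R := k) (GLin.orbitHom k A x f) = x f := by
  have h1 : GLin.orbitHom k A x f = Algebra.TensorProduct.lid k A
      (Algebra.TensorProduct.map x (AlgHom.id k A) (HopfRep.Comod.coact (k := k) (A := A) f)) := rfl
  rw [h1, counit_orbitHom_aux]
  have h2 := LinearMap.congr_fun (HopfRep.Comod.counit_comp (k := k) (A := A) (V := MvPolynomial ι k)) f
  simp only [LinearMap.comp_apply] at h2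
  rw [h2]
  simp

/-- the coordinates of the orbit of `v` under the one-parameter subgroup -/
noncomputable def PP (lam : A →ₐc[k] k[T;T⁻¹]) (v : ι → k) (i : ι) : k[T;T⁻¹] :=
  GLin.lamOrbit k A lam (GLin.vecPt k ι v) (MvPolynomial.X i)

theorem counit_PP (lam : A →ₐc[k] k[T;T⁻¹]) (v : ι → k) (i : ι) :
    Coalgebra.counit (R := k) (PP lam v i) = v i := by
  have h1 : PP lam v i = lam (GLin.orbitHom k A (GLin.vecPt k ι v) (MvPolynomial.X i)) := rfl
  rw [h1, CoalgHomClass.counit_comp_apply, counit_orbitHom]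
  simp

theorem exists_PP_ne (lam : A →ₐc[k] k[T;T⁻¹]) (v : ι → k) (hv : v ≠ 0) : ∃ i, PP lam v i ≠ 0 := by
  obtain ⟨i, hi⟩ := Function.ne_iff.1 hv
  refine ⟨i, ?_⟩
  intro h
  apply hi
  rw [← counit_PP lam v i, h, map_zero]
  rfl

theorem comp_eq_iff (h : MvPolynomial ι k →ₐ[k] k[X]) (φ : MvPolynomial ι k →ₐ[k] k[T;T⁻¹]) :
    (Polynomial.toLaurentAlg (R := k)).comp h = φ ↔ ∀ i, toLaurent (h (MvPolynomial.X i)) = φ (MvPolynomial.X i) := by
  constructor
  · intro hh i
    rw [← hh]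
    rfl
  · intro hh
    apply MvPolynomial.algHom_ext
    intro i
    exact hh i

theorem aeval_zero_comp (h : MvPolynomial ι k →ₐ[k] k[X]) (i : ι) :
    ((Polynomial.aeval (0 : k)).comp h) (MvPolynomial.X i) = (h (MvPolynomial.X i)).coeff 0 := by
  rw [AlgHom.comp_apply, Polynomial.coeff_zero_eq_aeval_zero]

theorem hasLimit_iff (lam : A →ₐc[k] k[T;T⁻¹]) (v : ι → k) :
    GLin.HasLimit k A lam (GLin.vecPt k ι v) ↔ ∀ i, ∀ n : ℤ, n < 0 → (PP lam v i).coeff n = 0 := by
  constructor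
  · rintro ⟨h, hh⟩ i
    rw [comp_eq_iff] at hh
    exact (exists_toLaurent_iff _).1 ⟨h (MvPolynomial.X i), hh i⟩
  · intro hcoef
    choose q hq using fun i => (exists_toLaurent_iff _).2 (hcoef i)
    refine ⟨MvPolynomial.aeval q, ?_⟩
    rw [comp_eq_iff]
    intro i
    rw [MvPolynomial.aeval_X, hq i]
    rfl

theorem isLimit_zero_iff (lam : A →ₐc[k] k[T;T⁻¹]) (v : ι → k) :
    GLin.IsLimit k A lam (GLin.vecPt k ι v) (GLin.vecPt k ι (fun _ => (0 : k))) ↔
      ∀ i, ∀ n : ℤ, n ≤ 0 → (PP lam v i).coeff n = 0 := by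
  constructor
  · rintro ⟨h, hh, h0⟩ i n hn
    rw [comp_eq_iff] at hh
    rcases lt_or_eq_of_le hn with hlt | rfl
    · exact (exists_toLaurent_iff _).1 ⟨h (MvPolynomial.X i), hh i⟩ n hlt
    · have h1 : (PP lam v i).coeff ((0 : ℕ) : ℤ) = (h (MvPolynomial.X i)).coeff 0 := by
        rw [← coeff_toLaurent_nat, hh i]
        rfl
      have h2 := aeval_zero_comp h i
      rw [h0] at h2
      simp only [Nat.cast_zero] at h1
      rw [h1, ← h2]
      simp
  · intro hcoef
    choose q hq using fun i => (exists_toLaurent_iff _).2 (fun n hn => hcoef i n hn.le)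
    refine ⟨MvPolynomial.aeval q, ?_, ?_⟩
    · rw [comp_eq_iff]
      intro i
      rw [MvPolynomial.aeval_X, hq i]
      rfl
    · apply MvPolynomial.algHom_ext
      intro i
      rw [aeval_zero_comp, MvPolynomial.aeval_X]
      have h1 : (PP lam v i).coeff ((0 : ℕ) : ℤ) = (q i).coeff 0 := by
        rw [← coeff_toLaurent_nat, hq i]
      simp only [Nat.cast_zero] at h1
      rw [← h1, hcoef i 0 le_rfl]
      simp

theorem shifted_X (lam : A →ₐc[k] k[T;T⁻¹]) (v : ι → k) (m : ℤ) (i : ι) :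
    GLin.shiftedOrbit k A lam v m (MvPolynomial.X i) = T m * PP lam v i := by
  unfold GLin.shiftedOrbit
  rw [MvPolynomial.aeval_X]
  rfl

theorem isMu_iff (lam : A →ₐc[k] k[T;T⁻¹]) (v : ι → k) (m : ℤ) :
    GLin.IsMu k A lam v m ↔
      (∀ i, ∀ n : ℤ, n < -m → (PP lam v i).coeff n = 0) ∧ ∃ i, (PP lam v i).coeff (-m) ≠ 0 := by
  constructor
  · rintro ⟨h, hh, hne⟩
    rw [comp_eq_iff] at hh
    constructor
    · intro i n hn
      have h1 := (exists_toLaurent_iff _).1 ⟨h (MvPolynomial.X i), hh i⟩ (n + m) (by omega)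
      rw [shifted_X, coeff_T_mul] at h1
      rw [← h1]
      congr 1
      ring
    · by_contra hcon
      push Not at hcon
      apply hne
      apply MvPolynomial.algHom_ext
      intro i
      rw [aeval_zero_comp]
      have h1 : (T m * PP lam v i).coeff ((0 : ℕ) : ℤ) = (h (MvPolynomial.X i)).coeff 0 := by
        rw [← coeff_toLaurent_nat, hh i, shifted_X]
      rw [← h1, coeff_T_mul]
      simp only [Nat.cast_zero, zero_sub]
      rw [hcon i]
      simp
  · rintro ⟨hcoef, i0, hi0⟩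
    have hex : ∀ i, ∃ q : k[X], toLaurent q = T m * PP lam v i := by
      intro i
      rw [exists_toLaurent_iff]
      intro n hn
      rw [coeff_T_mul]
      exact hcoef i _ (by omega)
    choose q hq using hex
    refine ⟨MvPolynomial.aeval q, ?_, ?_⟩
    · rw [comp_eq_iff]
      intro i
      rw [MvPolynomial.aeval_X, hq i, shifted_X]
    · intro hcon
      have h2 := congrArg (fun φ : MvPolynomial ι k →ₐ[k] k => φ (MvPolynomial.X i0)) hcon
      change ((Polynomial.aeval (0 : k)).comp (MvPolynomial.aeval q)) (MvPolynomial.X i0) = _ at h2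
      rw [aeval_zero_comp, MvPolynomial.aeval_X] at h2
      have h1 : (T m * PP lam v i0).coeff ((0 : ℕ) : ℤ) = (q i0).coeff 0 := by
        rw [← coeff_toLaurent_nat, hq i0]
      rw [coeff_T_mul] at h1
      simp only [Nat.cast_zero, zero_sub] at h1
      apply hi0
      rw [h1, h2]
      simp

/-- the lowest order of the orbit -/
theorem exists_d (lam : A →ₐc[k] k[T;T⁻¹]) (v : ι → k) (hv : v ≠ 0) :
    ∃ d : ℤ, (∀ i, ∀ n : ℤ, n < d → (PP lam v i).coeff n = 0) ∧ ∃ i, (PP lam v i).coeff d ≠ 0 := by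
  classical
  set S : Finset ℤ := Finset.univ.biUnion (fun i => (PP lam v i).coeff.support) with hS
  have hne : S.Nonempty := by
    obtain ⟨i, hi⟩ := exists_PP_ne lam v hv
    have : (PP lam v i).coeff ≠ 0 := by
      intro h
      apply hi
      exact AddMonoidAlgebra.coeff_eq_zero.1 h
    obtain ⟨n, hn⟩ := Finsupp.support_nonempty_iff.2 this
    exact ⟨n, Finset.mem_biUnion.2 ⟨i, Finset.mem_univ _, hn⟩⟩
  refine ⟨S.min' hne, ?_, ?_⟩
  · intro i n hn
    by_contra hcon
    have hmem : n ∈ S := Finset.mem_biUnion.2 ⟨i, Finset.mem_univ _, Finsupp.mem_support_iff.2 hcon⟩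
    have := Finset.min'_le S n hmem
    omega
  · obtain ⟨i, _, hi⟩ := Finset.mem_biUnion.1 (Finset.min'_mem S hne)
    exact ⟨i, Finsupp.mem_support_iff.1 hi⟩

theorem isMu_iff_eq (lam : A →ₐc[k] k[T;T⁻¹]) (v : ι → k) (d : ℤ)
    (hd1 : ∀ i, ∀ n : ℤ, n < d → (PP lam v i).coeff n = 0) (hd2 : ∃ i, (PP lam v i).coeff d ≠ 0) (m : ℤ) :
    GLin.IsMu k A lam v m ↔ m = -d := by
  rw [isMu_iff]
  constructor
  · rintro ⟨h1, i, hi⟩
    obtain ⟨j, hj⟩ := hd2
    have h3 : ¬ (d < -m) := fun h => hj (h1 j d h)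
    have h4 : ¬ (-m < d) := fun h => hi (hd1 i _ h)
    omega
  · rintro rfl
    rw [neg_neg]
    exact ⟨hd1, hd2⟩

theorem s12544 (lam : A →ₐc[k] k[T;T⁻¹]) (v : ι → k) (hv : v ≠ 0) :
    ∃! m : ℤ, GLin.IsMu k A lam v m := by
  obtain ⟨d, hd1, hd2⟩ := exists_d lam v hv
  refine ⟨-d, (isMu_iff_eq lam v d hd1 hd2 _).2 rfl, ?_⟩
  intro m hm
  exact (isMu_iff_eq lam v d hd1 hd2 _).1 hm

theorem s12545 (lam : A →ₐc[k] k[T;T⁻¹]) (v : ι → k) (hv : v ≠ 0) :
    (¬ GLin.HasLimit k A lam (GLin.vecPt k ι v) ↔ ∃ m : ℤ, GLin.IsMu k A lam v m ∧ 0 < m) ∧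
      ((GLin.HasLimit k A lam (GLin.vecPt k ι v) ∧
          ¬ GLin.IsLimit k A lam (GLin.vecPt k ι v) (GLin.vecPt k ι (fun _ => (0 : k)))) ↔
        GLin.IsMu k A lam v 0) ∧
      (GLin.IsLimit k A lam (GLin.vecPt k ι v) (GLin.vecPt k ι (fun _ => (0 : k))) ↔
        ∃ m : ℤ, GLin.IsMu k A lam v m ∧ m < 0) := by
  obtain ⟨d, hd1, hd2⟩ := exists_d lam v hv
  have hmu := isMu_iff_eq lam v d hd1 hd2
  have hlim : GLin.HasLimit k A lam (GLin.vecPt k ι v) ↔ 0 ≤ d := by
    rw [hasLimit_iff]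
    constructor
    · intro h
      by_contra hcon
      obtain ⟨j, hj⟩ := hd2
      exact hj (h j d (by omega))
    · intro h i n hn
      exact hd1 i n (by omega)
  have hlim0 : GLin.IsLimit k A lam (GLin.vecPt k ι v) (GLin.vecPt k ι (fun _ => (0 : k))) ↔ 0 < d := by
    rw [isLimit_zero_iff]
    constructor
    · intro h
      by_contra hcon
      obtain ⟨j, hj⟩ := hd2
      exact hj (h j d (by omega))
    · intro h i n hn
      exact hd1 i n (by omega)
  refine ⟨?_, ?_, ?_⟩
  · rw [hlim]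
    constructor
    · intro h
      exact ⟨-d, (hmu _).2 rfl, by omega⟩
    · rintro ⟨m, hm, hpos⟩
      have := (hmu m).1 hm
      omega
  · rw [hlim, hlim0, hmu]
    omega
  · rw [hlim0]
    constructor
    · intro h
      exact ⟨-d, (hmu _).2 rfl, by omega⟩
    · rintro ⟨m, hm, hneg⟩
      have := (hmu m).1 hm
      omega

end Orbit

end Groth.Agent.H9.Mu
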