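import Mathlib
import Groth.Prelude.Def_GLin
import Groth.Agent.Lib.Helper9.Misc.Mu0

/-! Helper9: the numerical function of a diagonalizable group acting linearly is a maximum of finitely many characters (S12553) -/

set_option linter.unusedSectionVars false
set_option linter.unusedVariables false
set_option linter.unusedSimpArgs false

universe u

namespace Groth.Agent.H9.Mu

open TensorProduct LaurentPolynomial Polynomial

section Coef

variable {k : Type u} [Field k] {ι : Type u} [Fintype ι]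

/-- the coefficient of `X k0` in the first tensor factor -/
noncomputable def coefK (M : Type u) [AddCommGroup M] [Module k M] (k0 : ι) :
    MvPolynomial ι k ⊗[k] M →ₗ[k] M :=
  (TensorProduct.lid k M).toLinearMap ∘ₗ
    LinearMap.rTensor M (MvPolynomial.lcoeff k (Finsupp.single k0 1))

theorem coefK_X (M : Type u) [AddCommGroup M] [Module k M] [DecidableEq ι] (j k0 : ι) (y : M) :
    coefK (k := k) M k0 ((MvPolynomial.X j : MvPolynomial ι k) ⊗ₜ[k] y) = if j = k0 then y else 0 := by
  unfold coefK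
  simp only [LinearMap.comp_apply, LinearMap.rTensor_tmul, LinearEquiv.coe_coe, TensorProduct.lid_tmul,
    MvPolynomial.lcoeff_apply]
  rw [MvPolynomial.coeff_X]
  by_cases h : j = k0
  · subst h
    simp
  · have : Finsupp.single j 1 ≠ Finsupp.single k0 1 := by
      intro hh
      apply h
      exact (Finsupp.single_left_inj (one_ne_zero)).1 hh
    rw [if_neg this, if_neg h, zero_smul]

end Coef

section Lin

variable {k : Type u} [Field k] {A : Type u} [CommRing A] [Bialgebra k A]
  {ι : Type u} [Fintype ι] [HopfRep.Comod k A (MvPolynomial ι k)] [GLin.IsCoactAlg k A (MvPolynomial ι k)]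

variable (mm : ι → ι → A)
  (hmm : ∀ i, HopfRep.Comod.coact (k := k) (A := A) (MvPolynomial.X i : MvPolynomial ι k) =
      ∑ j, (MvPolynomial.X j : MvPolynomial ι k) ⊗ₜ[k] mm i j)

include hmm

theorem comul_mm (i k0 : ι) :
    CoalgebraStruct.comul (R := k) (mm i k0) = ∑ j, mm j k0 ⊗ₜ[k] mm i j := by
  classical
  have h := LinearMap.congr_fun (HopfRep.Comod.coassoc (k := k) (A := A) (V := MvPolynomial ι k))
    (MvPolynomial.X i)
  simp only [LinearMap.comp_apply] at h
  rw [hmm i] at h
  simp only [map_sum, LinearMap.rTensor_tmul, LinearMap.lTensor_tmul, LinearEquiv.coe_coe] at h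
  have h2 := congrArg (coefK (k := k) (A ⊗[k] A) k0) h
  simp only [map_sum] at h2
  -- right side
  have hR : ∑ x, coefK (k := k) (A ⊗[k] A) k0 ((MvPolynomial.X x : MvPolynomial ι k) ⊗ₜ[k]
      CoalgebraStruct.comul (R := k) (mm i x)) = CoalgebraStruct.comul (R := k) (mm i k0) := by
    simp only [coefK_X]
    rw [Finset.sum_ite_eq' Finset.univ k0]
    simp
  rw [hR] at h2
  rw [← h2]
  apply Finset.sum_congr rfl
  intro j _
  rw [hmm j]
  simp only [TensorProduct.sum_tmul, map_sum, TensorProduct.assoc_tmul, coefK_X]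
  rw [Finset.sum_ite_eq' Finset.univ k0]
  simp

theorem counit_mm (i j0 : ι) [DecidableEq ι] :
    Coalgebra.counit (R := k) (mm i j0) = if i = j0 then 1 else 0 := by
  have h := LinearMap.congr_fun (HopfRep.Comod.counit_comp (k := k) (A := A) (V := MvPolynomial ι k))
    (MvPolynomial.X i)
  simp only [LinearMap.comp_apply] at h
  rw [hmm i] at h
  simp only [map_sum, LinearMap.lTensor_tmul, LinearMap.flip_apply, TensorProduct.mk_apply] at h
  have h2 := congrArg (coefK (k := k) k j0) h
  simp only [map_sum, coefK_X] at h2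
  rw [Finset.sum_ite_eq' Finset.univ j0] at h2
  simpa using h2

theorem orbit_X (v : ι → k) (i : ι) :
    GLin.orbitHom k A (GLin.vecPt k ι v) (MvPolynomial.X i) = ∑ j, v j • mm i j := by
  have h1 : GLin.orbitHom k A (GLin.vecPt k ι v) (MvPolynomial.X i) = Algebra.TensorProduct.lid k A
      (Algebra.TensorProduct.map (GLin.vecPt k ι v) (AlgHom.id k A)
        (HopfRep.Comod.coact (k := k) (A := A) (MvPolynomial.X i : MvPolynomial ι k))) := rfl
  rw [h1, hmm i]
  simp only [map_sum, Algebra.TensorProduct.map_tmul, AlgHom.coe_id, id_eq, Algebra.TensorProduct.lid_tmul,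
    MvPolynomial.aeval_X]

end Lin

section Dual

variable {k : Type u} [Field k] {A : Type u} [AddCommGroup A] [Module k A]

/-- dual family of a finite linearly independent family -/
theorem exists_dual_family {N : ℕ} (χ : Fin N → A) (hli : LinearIndependent k χ) :
    ∃ φ : Fin N → (A →ₗ[k] k), (∀ l l', φ l (χ l') = if l = l' then 1 else 0) ∧
      ∀ y ∈ Submodule.span k (Set.range χ), y = ∑ l, φ l y • χ l := by
  obtain ⟨g, hg⟩ := LinearMap.exists_extend hli.repr
  refine ⟨fun l => (Finsupp.lapply l) ∘ₗ g, ?_, ?_⟩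
  · intro l l'
    have hmem : χ l' ∈ Submodule.span k (Set.range χ) := Submodule.subset_span ⟨l', rfl⟩
    have h1 : g (χ l') = hli.repr ⟨χ l', hmem⟩ := by
      rw [← hg]; rfl
    simp only [LinearMap.comp_apply, Finsupp.lapply_apply]
    rw [h1, hli.repr_eq_single l' ⟨χ l', hmem⟩ rfl, Finsupp.single_apply]
    by_cases h : l = l'
    · rw [if_pos h, if_pos h.symm]
    · rw [if_neg h, if_neg (fun hh => h hh.symm)]
  · intro y hy
    have h1 : g y = hli.repr ⟨y, hy⟩ := by
      rw [← hg]; rfl
    have h2 : (Finsupp.linearCombination k χ) (hli.repr ⟨y, hy⟩) = y := hli.linearCombination_repr ⟨y, hy⟩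
    simp only [LinearMap.comp_apply, Finsupp.lapply_apply]
    rw [h1]
    refine h2.symm.trans ?_
    rw [Finsupp.linearCombination_apply, Finsupp.sum_fintype]
    intro l
    exact zero_smul _ _

end Dual

section Main

variable {k : Type u} [Field k] {A : Type u} [CommRing A] [Bialgebra k A]
  {ι : Type u} [Fintype ι] [HopfRep.Comod k A (MvPolynomial ι k)] [GLin.IsCoactAlg k A (MvPolynomial ι k)]

variable (mm : ι → ι → A)
  (hmm : ∀ i, HopfRep.Comod.coact (k := k) (A := A) (MvPolynomial.X i : MvPolynomial ι k) =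
      ∑ j, (MvPolynomial.X j : MvPolynomial ι k) ⊗ₜ[k] mm i j)
  {N : ℕ} (χ : Fin N → A) (hχ : ∀ l, IsGroupLikeElem k (χ l))
  (φ : Fin N → (A →ₗ[k] k)) (hφ : ∀ l l', φ l (χ l') = if l = l' then 1 else 0)
  (hexp : ∀ i j, mm i j = ∑ l, φ l (mm i j) • χ l)

include hmm hχ hφ hexp

theorem idem (i k0 : ι) (l l' : Fin N) :
    ∑ j, φ l (mm j k0) * φ l' (mm i j) = if l = l' then φ l (mm i k0) else 0 := by
  have h := comul_mm mm hmm i k0
  have h2 := congrArg ((LinearMap.mul' k k) ∘ₗ (TensorProduct.map (φ l) (φ l'))) h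
  simp only [LinearMap.comp_apply, map_sum, TensorProduct.map_tmul, LinearMap.mul'_apply] at h2
  rw [← h2]
  have h3 : CoalgebraStruct.comul (R := k) (mm i k0) = ∑ l'', φ l'' (mm i k0) • (χ l'' ⊗ₜ[k] χ l'') := by
    conv_lhs => rw [hexp i k0]
    rw [map_sum]
    apply Finset.sum_congr rfl
    intro l'' _
    rw [map_smul, (hχ l'').comul_eq_tmul_self]
  rw [h3]
  simp only [map_sum, map_smul, TensorProduct.map_tmul, LinearMap.mul'_apply, hφ, smul_eq_mul]
  by_cases hll : l = l'
  · subst hll
    rw [if_pos rfl]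
    rw [Finset.sum_eq_single l]
    · simp
    · intro b _ hb; simp [Ne.symm hb]
    · intro h; exact absurd (Finset.mem_univ _) h
  · rw [if_neg hll]
    apply Finset.sum_eq_zero
    intro b _
    by_cases h1 : l = b
    · have : l' ≠ b := fun h => hll (h1.trans h.symm)
      simp [this]
    · simp [h1]

theorem sum_phi [DecidableEq ι] (i j : ι) : ∑ l, φ l (mm i j) = if i = j then 1 else 0 := by
  rw [← counit_mm mm hmm i j]
  conv_rhs => rw [hexp i j]
  rw [map_sum]
  apply Finset.sum_congr rfl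
  intro l _
  rw [map_smul, (hχ l).counit_eq_one, smul_eq_mul, mul_one]

/-- the weight components of `v` -/
def aa (v : ι → k) (l : Fin N) (i : ι) : k := ∑ j, φ l (mm i j) * v j

theorem sum_aa (v : ι → k) (i : ι) : ∑ l, aa mm φ v l i = v i := by
  classical
  unfold aa
  rw [Finset.sum_comm]
  have : ∀ j, ∑ l, φ l (mm i j) * v j = (if i = j then 1 else 0) * v j := by
    intro j
    rw [← Finset.sum_mul, sum_phi mm hmm χ hχ φ hφ hexp i j]
  simp only [this]
  simp

theorem PP_eq (lam : A →ₐc[k] k[T;T⁻¹]) (e : Fin N → ℤ) (he : ∀ l, lam (χ l) = T (e l))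
    (v : ι → k) (i : ι) :
    PP lam v i = ∑ l, aa mm φ v l i • (T (e l) : k[T;T⁻¹]) := by
  have h1 : PP lam v i = lam (GLin.orbitHom k A (GLin.vecPt k ι v) (MvPolynomial.X i)) := rfl
  rw [h1, orbit_X mm hmm, map_sum]
  have : ∀ j, lam (v j • mm i j) = ∑ l, (φ l (mm i j) * v j) • (T (e l) : k[T;T⁻¹]) := by
    intro j
    rw [map_smul]
    conv_lhs => rw [hexp i j]
    rw [map_sum, Finset.smul_sum]
    apply Finset.sum_congr rfl
    intro l _
    rw [map_smul, he l, smul_smul, mul_comm]
  simp only [this]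
  rw [Finset.sum_comm]
  apply Finset.sum_congr rfl
  intro l _
  unfold aa
  rw [Finset.sum_smul]

theorem coeff_PP (lam : A →ₐc[k] k[T;T⁻¹]) (e : Fin N → ℤ) (he : ∀ l, lam (χ l) = T (e l))
    (v : ι → k) (i : ι) (n : ℤ) :
    (PP lam v i).coeff n = ∑ l, if e l = n then aa mm φ v l i else 0 := by
  rw [PP_eq mm hmm χ hχ φ hφ hexp lam e he v i, AddMonoidAlgebra.coeff_sum, Finsupp.finsetSum_apply]
  apply Finset.sum_congr rfl
  intro l _
  rw [AddMonoidAlgebra.coeff_smul, Finsupp.smul_apply, LaurentPolynomial.T_apply]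
  by_cases h : e l = n
  · rw [if_pos h, if_pos h, smul_eq_mul, mul_one]
  · rw [if_neg h, if_neg h, smul_zero]

/-- no cancellation between different characters of the same weight -/
theorem key (lam : A →ₐc[k] k[T;T⁻¹]) (e : Fin N → ℤ) (he : ∀ l, lam (χ l) = T (e l))
    (v : ι → k) (l0 : Fin N) (i : ι) :
    ∑ j, φ l0 (mm i j) * (PP lam v j).coeff (e l0) = aa mm φ v l0 i := by
  simp only [coeff_PP mm hmm χ hχ φ hφ hexp lam e he v]
  unfold aa
  -- Σ_j c l0 i j * Σ_l [e l = e l0] Σ_k0 c l j k0 v k0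
  have h1 : ∀ j, φ l0 (mm i j) * ∑ l, (if e l = e l0 then ∑ k0, φ l (mm j k0) * v k0 else 0) =
      ∑ l, ∑ k0, (if e l = e l0 then (φ l (mm j k0) * φ l0 (mm i j)) * v k0 else 0) := by
    intro j
    rw [Finset.mul_sum]
    apply Finset.sum_congr rfl
    intro l _
    by_cases h : e l = e l0
    · simp only [if_pos h]
      rw [Finset.mul_sum]
      apply Finset.sum_congr rfl
      intro k0 _
      ring
    · simp only [if_neg h]
      simp
  simp only [h1]
  rw [Finset.sum_comm]
  have h2 : ∀ l, ∑ j, ∑ k0, (if e l = e l0 then (φ l (mm j k0) * φ l0 (mm i j)) * v k0 else 0) =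
      if l = l0 then ∑ k0, φ l0 (mm i k0) * v k0 else 0 := by
    intro l
    rw [Finset.sum_comm]
    by_cases h : e l = e l0
    · simp only [if_pos h]
      have : ∀ k0, ∑ j, φ l (mm j k0) * φ l0 (mm i j) * v k0 =
          (if l = l0 then φ l (mm i k0) else 0) * v k0 := by
        intro k0
        rw [← Finset.sum_mul, idem mm hmm χ hχ φ hφ hexp i k0 l l0]
      simp only [this]
      by_cases hl : l = l0
      · subst hl
        simp
      · simp [hl]
    · simp only [if_neg h]
      have hl : l ≠ l0 := fun hh => h (by rw [hh])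
      simp [hl]
  simp only [h2]
  simp

theorem main_iff (lam : A →ₐc[k] k[T;T⁻¹]) (e : Fin N → ℤ) (he : ∀ l, lam (χ l) = T (e l))
    (v : ι → k) (I : Finset (Fin N)) (hI : ∀ l, l ∈ I ↔ ∃ i, aa mm φ v l i ≠ 0) (m : ℤ) :
    GLin.IsMu k A lam v m ↔ ((∀ l ∈ I, -e l ≤ m) ∧ ∃ l ∈ I, m = -e l) := by
  rw [isMu_iff]
  have hkey := key mm hmm χ hχ φ hφ hexp lam e he v
  have hcoef := coeff_PP mm hmm χ hχ φ hφ hexp lam e he v
  -- a character in `I` has a nonzero coefficient at its weight
  have hne : ∀ l ∈ I, ∃ j, (PP lam v j).coeff (e l) ≠ 0 := by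
    intro l hl
    obtain ⟨i, hi⟩ := (hI l).1 hl
    by_contra hcon
    push Not at hcon
    apply hi
    rw [← hkey l i]
    apply Finset.sum_eq_zero
    intro j _
    rw [hcon j, mul_zero]
  constructor
  · rintro ⟨h1, i, hi⟩
    constructor
    · intro l hl
      obtain ⟨j, hj⟩ := hne l hl
      by_contra hcon
      exact hj (h1 j (e l) (by omega))
    · rw [hcoef] at hi
      obtain ⟨l, _, hl⟩ := Finset.exists_ne_zero_of_sum_ne_zero hi
      by_cases h : e l = -m
      · rw [if_pos h] at hl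
        exact ⟨l, (hI l).2 ⟨i, hl⟩, by omega⟩
      · rw [if_neg h] at hl
        exact absurd rfl hl
  · rintro ⟨h1, l0, hl0, hm⟩
    constructor
    · intro i n hn
      rw [hcoef]
      apply Finset.sum_eq_zero
      intro l _
      by_cases h : e l = n
      · rw [if_pos h]
        by_contra hcon
        have := h1 l ((hI l).2 ⟨i, hcon⟩)
        omega
      · rw [if_neg h]
    · have : -m = e l0 := by omega
      rw [this]
      exact hne l0 hl0

end Main

theorem s12553 (k : Type u) [Field k]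
    (A : Type u) [CommRing A] [HopfAlgebra k A] (hdiag : HopfRep.IsDiagonalizable k A)
    (ι : Type u) [Fintype ι] [HopfRep.Comod k A (MvPolynomial ι k)] [GLin.IsCoactAlg k A (MvPolynomial ι k)]
    (hlin : GLin.IsLinear k A ι) :
    ∃ (N : ℕ) (χ : Fin N → A), (∀ j, IsGroupLikeElem k (χ j)) ∧
      ∀ v : ι → k, v ≠ 0 → ∃ I : Finset (Fin N), I.Nonempty ∧
        ∀ (lam : A →ₐc[k] k[T;T⁻¹]) (e : Fin N → ℤ), (∀ j, lam (χ j) = LaurentPolynomial.T (e j)) →
          ∀ m : ℤ, GLin.IsMu k A lam v m ↔ ((∀ j ∈ I, -e j ≤ m) ∧ ∃ j ∈ I, m = -e j) := by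
  classical
  choose mm hmm using hlin
  have hmem : ∀ p : ι × ι, mm p.1 p.2 ∈ Submodule.span k {a : A | IsGroupLikeElem k a} := by
    intro p
    have : Submodule.span k {a : A | IsGroupLikeElem k a} = ⊤ := hdiag
    rw [this]
    exact Submodule.mem_top
  choose Tset hTsub hTmem using fun p => Submodule.mem_span_finite_of_mem_span (hmem p)
  set G : Finset A := Finset.univ.biUnion Tset with hGdef
  have hG : ∀ a ∈ G, IsGroupLikeElem k a := by
    intro a ha
    rw [hGdef, Finset.mem_biUnion] at ha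
    obtain ⟨p, _, hp⟩ := ha
    exact hTsub p hp
  let χ : Fin G.card → A := fun l => ((G.equivFin.symm l : G) : A)
  have hχ : ∀ l, IsGroupLikeElem k (χ l) := fun l => hG _ (G.equivFin.symm l).2
  have hinj : Function.Injective χ := Subtype.val_injective.comp G.equivFin.symm.injective
  have hrange : (G : Set A) ⊆ Set.range χ := by
    intro a ha
    refine ⟨G.equivFin ⟨a, ha⟩, ?_⟩
    simp [χ]
  have hli : LinearIndependent k χ := by
    have h0 := linearIndepOn_isGroupLikeElem (R := k) (A := A)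
    exact h0.comp (fun l => (⟨χ l, hχ l⟩ : {a : A | IsGroupLikeElem k a}))
      (fun l l' h => hinj (by
        have h' := congrArg (fun x : {a : A | IsGroupLikeElem k a} => (x : A)) h
        exact h'))
  obtain ⟨φ, hφ, hφexp⟩ := exists_dual_family χ hli
  have hexp : ∀ i j, mm i j = ∑ l, φ l (mm i j) • χ l := by
    intro i j
    apply hφexp
    have h1 : (Tset (i, j) : Set A) ⊆ Set.range χ := by
      intro a ha
      apply hrange
      rw [hGdef]
      exact Finset.mem_biUnion.2 ⟨(i, j), Finset.mem_univ _, ha⟩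
    exact Submodule.span_mono h1 (hTmem (i, j))
  refine ⟨G.card, χ, hχ, ?_⟩
  intro v hv
  refine ⟨Finset.univ.filter (fun l => ∃ i, aa mm φ v l i ≠ 0), ?_, ?_⟩
  · obtain ⟨i, hi⟩ := Function.ne_iff.1 hv
    have hs := sum_aa mm hmm χ hχ φ hφ hexp v i
    have : ∑ l, aa mm φ v l i ≠ 0 := by rw [hs]; exact hi
    obtain ⟨l, _, hl⟩ := Finset.exists_ne_zero_of_sum_ne_zero this
    exact ⟨l, Finset.mem_filter.2 ⟨Finset.mem_univ _, i, hl⟩⟩
  · intro lam e he m
    exact main_iff mm hmm χ hχ φ hφ hexp lam e he v _ (fun l => by simp) m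

end Groth.Agent.H9.Mu
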