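import Mathlib
import Groth.Prelude.Def_PolLaw
import Groth.Agent.Lib.Helper9.Misc.PLR1

/-! Helper9: base change of polynomial laws with target the base ring. -/
set_option linter.style.haveILetI false

namespace Groth.Agent.H9.PLB
open scoped TensorProduct
open Groth.Agent.H9.PLR

universe u
variable {A : Type u} [CommRing A] {B : Type u} [CommRing B] [Algebra A B]
variable (A' : Type u) [CommRing A'] [Algebra A A']

/-- the `A`-algebra structure on an `A'`-algebra -/
@[reducible] def algOf (R : Type u) [CommSemiring R] [Algebra A' R] : Algebra A R :=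
  Algebra.compHom R (algebraMap A A')

lemma towerOf (R : Type u) [CommSemiring R] [Algebra A' R] :
    @IsScalarTower A A' R _ _ (algOf (A := A) A' R).toSMul :=
  letI := algOf (A := A) A' R
  IsScalarTower.of_algebraMap_eq (fun _ => rfl)

section tower
variable (R : Type u) [CommSemiring R] [Algebra A R] [Algebra A' R] [IsScalarTower A A' R]

/-- the cancellation isomorphism -/
noncomputable def canc : R ⊗[A'] (A' ⊗[A] B) ≃ₐ[A'] R ⊗[A] B :=
  Algebra.TensorProduct.cancelBaseChange A A' A' R B

/-- value of the base-changed law on a tower algebra, as an element of `R` -/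
noncomputable def bcHat (F : B →ₚₗ[A] A) (y : R ⊗[A'] (A' ⊗[A] B)) : R :=
  hat F R (canc A' R y)

lemma canc_one_tmul (b' : A' ⊗[A] B) :
    canc A' R ((1 : R) ⊗ₜ[A'] b') =
      Algebra.TensorProduct.map (IsScalarTower.toAlgHom A A' R) (AlgHom.id A B) b' := by
  induction b' using TensorProduct.induction_on with
  | zero => simp
  | tmul a b =>
    simp [canc, Algebra.smul_def]
  | add x y hx hy =>
    rw [TensorProduct.tmul_add, map_add, map_add, hx, hy]

lemma canc_smul (s : R) (y : R ⊗[A'] (A' ⊗[A] B)) : canc A' R (s • y) = s • canc A' R y := by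
  induction y using TensorProduct.induction_on with
  | zero => simp
  | tmul r b' =>
    induction b' using TensorProduct.induction_on with
    | zero => simp
    | tmul a b =>
      simp [canc, TensorProduct.smul_tmul']
    | add x y hx hy =>
      rw [TensorProduct.tmul_add, smul_add, map_add, map_add, hx, hy, smul_add]
  | add x y hx hy =>
    rw [smul_add, map_add, map_add, hx, hy, smul_add]

end tower

lemma canc_nat {R R' : Type u} [CommSemiring R] [Algebra A R] [Algebra A' R] [IsScalarTower A A' R]
    [CommSemiring R'] [Algebra A R'] [Algebra A' R'] [IsScalarTower A A' R']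
    (φ : R →ₐ[A'] R') (y : R ⊗[A'] (A' ⊗[A] B)) :
    canc A' R' (φ.toLinearMap.rTensor (A' ⊗[A] B) y) =
      Algebra.TensorProduct.map (φ.restrictScalars A) (AlgHom.id A B) (canc A' R y) := by
  induction y using TensorProduct.induction_on with
  | zero => simp
  | tmul r b' =>
    induction b' using TensorProduct.induction_on with
    | zero => simp
    | tmul a b =>
      simp only [LinearMap.rTensor_tmul, AlgHom.toLinearMap_apply, canc,
        Algebra.TensorProduct.cancelBaseChange_tmul, Algebra.TensorProduct.map_tmul, AlgHom.id_apply]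
      congr 1
      exact (map_smul φ a r).symm
    | add x y hx hy =>
      rw [TensorProduct.tmul_add, map_add, map_add, map_add, map_add, hx, hy]
  | add x y hx hy =>
    rw [map_add, map_add, map_add, map_add, hx, hy]

/-- the base change of a law with target the base ring -/
noncomputable def bc (F : B →ₚₗ[A] A) : (A' ⊗[A] B) →ₚₗ[A'] A' where
  toFun' R _ _ := fun y =>
    letI := algOf (A := A) A' R
    haveI := towerOf (A := A) A' R
    (TensorProduct.rid A' R).symm (bcHat A' R F y)
  isCompat' := by
    intro R _ _ R' _ _ φ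
    funext y
    letI := algOf (A := A) A' R
    letI := algOf (A := A) A' R'
    haveI := towerOf (A := A) A' R
    haveI := towerOf (A := A) A' R'
    show φ.toLinearMap.rTensor A' ((TensorProduct.rid A' R).symm (bcHat A' R F y)) =
      (TensorProduct.rid A' R').symm (bcHat A' R' F (φ.toLinearMap.rTensor (A' ⊗[A] B) y))
    unfold bcHat
    rw [canc_nat, hat_map]
    simp only [TensorProduct.rid_symm_apply, LinearMap.rTensor_tmul, AlgHom.toLinearMap_apply]
    rfl

lemma hat_bc (F : B →ₚₗ[A] A) (R : Type u) [CommSemiring R] [Algebra A' R]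
    (y : R ⊗[A'] (A' ⊗[A] B)) :
    letI := algOf (A := A) A' R
    haveI := towerOf (A := A) A' R
    hat (bc A' F) R y = bcHat A' R F y := by
  letI := algOf (A := A) A' R
  haveI := towerOf (A := A) A' R
  show TensorProduct.rid A' R ((TensorProduct.rid A' R).symm (bcHat A' R F y)) = _
  rw [LinearEquiv.apply_symm_apply]

lemma rid_smul' (S : Type u) [CommSemiring S] [Algebra A S] (s : S) (z : S ⊗[A] A) :
    TensorProduct.rid A S (s • z) = s * TensorProduct.rid A S z := by
  rw [rid_eq, rid_eq, map_smul, smul_eq_mul]

lemma hat_smul {F : B →ₚₗ[A] A} {d : ℕ} (hF : PolLaw.IsHomog F d) (S : Type u) [CommSemiring S]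
    [Algebra A S] (s : S) (x : S ⊗[A] B) : hat F S (s • x) = s ^ d * hat F S x := by
  unfold hat
  rw [hF, rid_smul']

lemma bc_isHomog {F : B →ₚₗ[A] A} {d : ℕ} (hF : PolLaw.IsHomog F d) :
    PolLaw.IsHomog (bc A' F) d := by
  intro R _ _ s y
  letI := algOf (A := A) A' R
  haveI := towerOf (A := A) A' R
  show (TensorProduct.rid A' R).symm (bcHat A' R F (s • y)) =
    s ^ d • (TensorProduct.rid A' R).symm (bcHat A' R F y)
  unfold bcHat
  rw [canc_smul, hat_smul hF, TensorProduct.rid_symm_apply, TensorProduct.rid_symm_apply,
    TensorProduct.smul_tmul', smul_eq_mul]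

lemma bc_isMult {F : B →ₚₗ[A] A} (hF : PolLaw.IsMult F) : PolLaw.IsMult (bc A' F) := by
  intro R _ _
  letI := algOf (A := A) A' R
  haveI := towerOf (A := A) A' R
  constructor
  · show (TensorProduct.rid A' R).symm (bcHat A' R F 1) = 1
    unfold bcHat
    rw [map_one, hat_one hF, TensorProduct.rid_symm_apply, Algebra.TensorProduct.one_def]
  · intro x y
    show (TensorProduct.rid A' R).symm (bcHat A' R F (x * y)) =
      (TensorProduct.rid A' R).symm (bcHat A' R F x) * (TensorProduct.rid A' R).symm (bcHat A' R F y)
    unfold bcHat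
    rw [map_mul, hat_mul hF, TensorProduct.rid_symm_apply, TensorProduct.rid_symm_apply,
      TensorProduct.rid_symm_apply, Algebra.TensorProduct.tmul_mul_tmul, mul_one]

/-- base change of a multiplicative homogeneous law -/
noncomputable def mulBC {d : ℕ} (F : PolLaw.MulLaw A B A d) : PolLaw.MulLaw A' (A' ⊗[A] B) A' d where
  law := bc A' F.law
  homog := bc_isHomog A' F.homog
  mult := bc_isMult A' F.mult

theorem ker_bc (F : B →ₚₗ[A] A) : PolLaw.ker (bc A' F) = PolLaw.kerBC F A' := by
  ext b'
  constructor
  · intro hb R _ instA instA' tower x w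
    have e : instA = algOf (A := A) A' R :=
      Algebra.algebra_ext _ _ (fun a => IsScalarTower.algebraMap_apply A A' R a)
    subst e
    letI := algOf (A := A) A' R
    have h := hb R ((canc A' R).symm x) ((canc A' R).symm w)
    have h2 := congrArg (TensorProduct.rid A' R) h
    change TensorProduct.rid A' R ((TensorProduct.rid A' R).symm (bcHat A' R F _)) =
      TensorProduct.rid A' R ((TensorProduct.rid A' R).symm (bcHat A' R F _)) at h2
    rw [LinearEquiv.apply_symm_apply, LinearEquiv.apply_symm_apply] at h2
    unfold bcHat hat at h2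
    rw [map_add, map_mul, AlgEquiv.apply_symm_apply, AlgEquiv.apply_symm_apply, canc_one_tmul] at h2
    exact (TensorProduct.rid A R).injective h2
  · intro hb R _ _ x w
    letI := algOf (A := A) A' R
    haveI := towerOf (A := A) A' R
    show (TensorProduct.rid A' R).symm (bcHat A' R F (x + w * ((1 : R) ⊗ₜ[A'] b'))) =
      (TensorProduct.rid A' R).symm (bcHat A' R F x)
    congr 1
    unfold bcHat hat
    rw [map_add, map_mul, canc_one_tmul]
    congr 1
    exact hb R (canc A' R x) (canc A' R w)

end Groth.Agent.H9.PLB
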