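import Mathlib
import Groth.Prelude.Def_PolLaw
import Groth.Agent.Lib.Helper9.Misc.PLR1
import Groth.Agent.Lib.Helper9.Misc.PLR2

/-! Helper9: multiplicative polynomials over rings with connected spectrum -/
set_option linter.style.haveILetI false

namespace Groth.Agent.H9.PLG
open scoped TensorProduct
open Groth.Agent.H9.PLR
open Polynomial

universe u
variable {A : Type u} [CommRing A]

/-- idempotents of a ring with connected spectrum are trivial -/
lemma idem_trivial [ConnectedSpace (PrimeSpectrum A)] (e : A) (he : IsIdempotentElem e) :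
    e = 0 ∨ e = 1 := by
  have hcl : IsClopen (PrimeSpectrum.basicOpen e : Set (PrimeSpectrum A)) :=
    PrimeSpectrum.isClopen_iff.mpr ⟨e, he, rfl⟩
  rcases isClopen_iff.mp hcl with h | h
  · left
    have : PrimeSpectrum.basicOpen e = PrimeSpectrum.basicOpen (0 : A) := by
      apply TopologicalSpace.Opens.ext
      rw [h]; simp
    exact PrimeSpectrum.basicOpen_injOn_isIdempotentElem he IsIdempotentElem.zero this
  · right
    have : PrimeSpectrum.basicOpen e = PrimeSpectrum.basicOpen (1 : A) := by
      apply TopologicalSpace.Opens.ext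
      rw [h]; simp
    exact PrimeSpectrum.basicOpen_injOn_isIdempotentElem he IsIdempotentElem.one this

/-- a polynomial `p` with `p(1) = 1` and `p(st) = p(s) p(t)` over a ring with connected spectrum
is a power of `X` -/
lemma eq_X_pow_of_mul [ConnectedSpace (PrimeSpectrum A)] (p : A[X]) (h1 : p.eval 1 = 1)
    (hmul : ∀ i j : ℕ, p.coeff i * p.coeff j = if i = j then p.coeff i else 0) :
    ∃ n : ℕ, p = X ^ n := by
  have hidem : ∀ i, p.coeff i = 0 ∨ p.coeff i = 1 := by
    intro i
    apply idem_trivial
    have := hmul i i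
    rw [if_pos rfl] at this
    exact this
  haveI : Nontrivial A := by
    by_contra h
    rw [not_nontrivial_iff_subsingleton] at h
    haveI : IsEmpty (PrimeSpectrum A) := inferInstance
    exact (ConnectedSpace.toNonempty : Nonempty (PrimeSpectrum A)).elim isEmptyElim
  have hex : ∃ n, p.coeff n = 1 := by
    by_contra hne
    push Not at hne
    have h0 : p = 0 := by
      ext i
      rcases hidem i with h | h
      · rw [h, coeff_zero]
      · exact absurd h (hne i)
    rw [h0, eval_zero] at h1
    exact zero_ne_one h1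
  obtain ⟨n, hn⟩ := hex
  refine ⟨n, ?_⟩
  ext i
  rw [coeff_X_pow]
  split_ifs with h
  · rw [h, hn]
  · have := hmul i n
    rw [if_neg h, hn, mul_one] at this
    exact this

lemma coeff_mul_of_bivariate (p : A[X])
    (h : Polynomial.aeval (C X * X : A[X][X]) p = C p * p.map C) (i j : ℕ) :
    p.coeff i * p.coeff j = if i = j then p.coeff i else 0 := by
  have h2 := congrArg (fun q : A[X][X] => (q.coeff j).coeff i) h
  beta_reduce at h2
  rw [coeff_C_mul, coeff_map, coeff_mul_C] at h2
  rw [← h2]
  rw [Polynomial.aeval_def, Polynomial.eval₂_eq_sum, Polynomial.sum, Polynomial.finsetSum_coeff]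
  have h3 : ∀ k ∈ p.support, ((algebraMap A A[X][X]) (p.coeff k) * (C X * X) ^ k).coeff j =
      if k = j then C (p.coeff k) * X ^ k else 0 := by
    intro k _
    rw [mul_pow, ← C_pow, Polynomial.algebraMap_apply, Polynomial.algebraMap_apply,
      Algebra.algebraMap_self_apply, ← mul_assoc, ← C_mul, coeff_C_mul, coeff_X_pow]
    split_ifs with h4 h5 h5
    · rw [mul_one]
    · exact absurd h4.symm h5
    · exact absurd h5.symm h4
    · rw [mul_zero]
  rw [Finset.sum_congr rfl h3, Finset.sum_ite_eq']
  split_ifs with h4 h5 h5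
  · rw [coeff_C_mul, coeff_X_pow, if_pos h5, mul_one, h5]
  · rw [coeff_C_mul, coeff_X_pow, if_neg h5, mul_zero]
  · rw [Polynomial.notMem_support_iff] at h4
    rw [coeff_zero, h5, h4]
  · rw [coeff_zero]

end Groth.Agent.H9.PLG
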