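import Mathlib
import Groth.Prelude.Def_PolLaw
import Groth.Agent.Lib.Helper9.Misc.PLR1
import Groth.Agent.Lib.Helper9.Misc.PLR2
import Groth.Agent.Lib.Helper9.Misc.PLG1

/-! Helper9: the degree of a multiplicative law along an idempotent (connected base) -/
set_option linter.style.haveILetI false

namespace Groth.Agent.H9.PLG
open scoped TensorProduct
open Groth.Agent.H9.PLR
open Polynomial

universe u
variable {A : Type u} [CommRing A] {B : Type u} [CommRing B] [Algebra A B]

/-- `u_e(s) = 1 + (s - 1) ⊗ e`, i.e. `s e + (1 - e)` -/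
noncomputable def uu (S : Type u) [CommRing S] [Algebra A S] (e : B) (s : S) : S ⊗[A] B :=
  1 + (s - 1) ⊗ₜ[A] e

lemma uu_one (S : Type u) [CommRing S] [Algebra A S] (e : B) :
    (uu S e (1 : S) : S ⊗[A] B) = 1 := by
  unfold uu
  rw [sub_self, TensorProduct.zero_tmul, add_zero]

lemma uu_mul (S : Type u) [CommRing S] [Algebra A S] (e : B) (s s' : S) :
    uu S e s * uu S e s' = uu S e (s * s') + (((s - 1) * (s' - 1)) ⊗ₜ[A] (1 : B)) *
      ((1 : S) ⊗ₜ[A] (e * e - e)) := by
  unfold uu
  rw [Algebra.TensorProduct.tmul_mul_tmul, mul_one, one_mul, TensorProduct.tmul_sub]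
  rw [add_mul, mul_add, mul_add, one_mul, one_mul, mul_one, Algebra.TensorProduct.tmul_mul_tmul]
  have : (s * s' - 1) = (s - 1) + (s' - 1) + (s - 1) * (s' - 1) := by ring
  rw [this, TensorProduct.add_tmul, TensorProduct.add_tmul]
  abel

lemma uu_map {S S' : Type u} [CommRing S] [Algebra A S] [CommRing S'] [Algebra A S']
    (h : S →ₐ[A] S') (e : B) (s : S) :
    Algebra.TensorProduct.map h (AlgHom.id A B) (uu S e s) = uu S' e (h s) := by
  unfold uu
  rw [map_add, map_one, Algebra.TensorProduct.map_tmul, map_sub, map_one, AlgHom.id_apply]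

/-- the polynomial `F(T e + 1 - e)` -/
noncomputable def pe (F : B →ₚₗ[A] A) (e : B) : A[X] := hat F A[X] (uu A[X] e X)

lemma hat_uu (F : B →ₚₗ[A] A) (e : B) (S : Type u) [CommRing S] [Algebra A S] (s : S) :
    hat F S (uu S e s) = Polynomial.aeval s (pe F e) := by
  unfold pe
  rw [← hat_map F (Polynomial.aeval s) (uu A[X] e X), uu_map, aeval_X]

lemma hat_uu_mul {d : ℕ} (F : PolLaw.MulLaw A B A d) (e : B) (he : e * e - e ∈ PolLaw.ker F.law)
    (S : Type u) [CommRing S] [Algebra A S] (s s' : S) :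
    hat F.law S (uu S e (s * s')) = hat F.law S (uu S e s) * hat F.law S (uu S e s') := by
  rw [← hat_mul F.mult, uu_mul]
  unfold hat
  rw [he S]

lemma pe_eval_one {d : ℕ} (F : PolLaw.MulLaw A B A d) (e : B) : (pe F.law e).eval 1 = 1 := by
  have h := hat_uu F.law e A (1 : A)
  rw [uu_one, hat_one F.mult, Polynomial.coe_aeval_eq_eval] at h
  exact h.symm

theorem pe_spec [ConnectedSpace (PrimeSpectrum A)] {d : ℕ} (F : PolLaw.MulLaw A B A d) (e : B)
    (he : e * e - e ∈ PolLaw.ker F.law) : ∃ n : ℕ, pe F.law e = X ^ n := by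
  apply eq_X_pow_of_mul _ (pe_eval_one F e)
  apply coeff_mul_of_bivariate
  have h := hat_uu_mul F e he A[X][X] (C X) X
  rw [hat_uu, hat_uu, hat_uu] at h
  rw [h]
  congr 1
  · have := Polynomial.aeval_algHom_apply (Polynomial.CAlgHom : A[X] →ₐ[A] A[X][X]) X (pe F.law e)
    rw [Polynomial.aeval_X_left_apply] at this
    exact this

end Groth.Agent.H9.PLG
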