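import Mathlib
import Groth.Prelude.Def_PolLaw
import Groth.Agent.Lib.Helper9.Misc.PLR1
import Groth.Agent.Lib.Helper9.Misc.PLR2
import Groth.Agent.Lib.Helper9.Misc.PLR3
import Groth.Agent.Lib.Helper9.Misc.PLB1
import Groth.Agent.Lib.Helper9.Misc.PLG2

/-! Helper9: affine precomposition of laws; tensor products with a product algebra -/
set_option linter.style.haveILetI false

namespace Groth.Agent.H9.PLG
open scoped TensorProduct
open Groth.Agent.H9.PLR Groth.Agent.H9.PLB
open Polynomial

universe u
variable {A : Type u} [CommRing A]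

/-- precomposition of a law with the affine map `x ↦ ℓ x + c` -/
noncomputable def affPre {M M' N : Type u} [AddCommGroup M] [Module A M] [AddCommGroup M']
    [Module A M'] [AddCommGroup N] [Module A N] (F : M →ₚₗ[A] N) (ℓ : M' →ₗ[A] M) (c : M) :
    M' →ₚₗ[A] N where
  toFun' S _ _ := fun x => F.toFun' S (ℓ.lTensor S x + (1 : S) ⊗ₜ[A] c)
  isCompat' {S} _ _ {S'} _ _ φ := by
    funext x
    simp only [Function.comp_apply]
    rw [F.isCompat_apply', map_add, LinearMap.rTensor_tmul, AlgHom.toLinearMap_apply, map_one,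
      ← LinearMap.comp_apply, LinearMap.rTensor_comp_lTensor, ← LinearMap.lTensor_comp_rTensor,
      LinearMap.comp_apply]

lemma affPre_toFun' {M M' N : Type u} [AddCommGroup M] [Module A M] [AddCommGroup M']
    [Module A M'] [AddCommGroup N] [Module A N] (F : M →ₚₗ[A] N) (ℓ : M' →ₗ[A] M) (c : M)
    (S : Type u) [CommSemiring S] [Algebra A S] (x : S ⊗[A] M') :
    (affPre F ℓ c).toFun' S x = F.toFun' S (ℓ.lTensor S x + (1 : S) ⊗ₜ[A] c) := rfl

variable {B₁ B₂ : Type u} [CommRing B₁] [Algebra A B₁] [CommRing B₂] [Algebra A B₂]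

section prod
variable (S : Type u) [CommSemiring S] [Algebra A S]

lemma inl_mul (x y : S ⊗[A] B₁) :
    (LinearMap.inl A B₁ B₂).lTensor S (x * y) =
      (LinearMap.inl A B₁ B₂).lTensor S x * (LinearMap.inl A B₁ B₂).lTensor S y := by
  induction x using TensorProduct.induction_on with
  | zero => simp
  | tmul s b =>
    induction y using TensorProduct.induction_on with
    | zero => simp
    | tmul s' b' => simp
    | add y y' hy hy' => rw [mul_add, map_add, hy, hy', map_add, mul_add]
  | add x x' hx hx' => rw [add_mul, map_add, hx, hx', map_add, add_mul]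

lemma inr_mul (x y : S ⊗[A] B₂) :
    (LinearMap.inr A B₁ B₂).lTensor S (x * y) =
      (LinearMap.inr A B₁ B₂).lTensor S x * (LinearMap.inr A B₁ B₂).lTensor S y := by
  induction x using TensorProduct.induction_on with
  | zero => simp
  | tmul s b =>
    induction y using TensorProduct.induction_on with
    | zero => simp
    | tmul s' b' => simp
    | add y y' hy hy' => rw [mul_add, map_add, hy, hy', map_add, mul_add]
  | add x x' hx hx' => rw [add_mul, map_add, hx, hx', map_add, add_mul]

lemma inl_mul_inr (x : S ⊗[A] B₁) (y : S ⊗[A] B₂) :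
    (LinearMap.inl A B₁ B₂).lTensor S x * (LinearMap.inr A B₁ B₂).lTensor S y = 0 := by
  induction x using TensorProduct.induction_on with
  | zero => simp
  | tmul s b =>
    induction y using TensorProduct.induction_on with
    | zero => simp
    | tmul s' b' =>
      simp only [LinearMap.lTensor_tmul, LinearMap.inl_apply, LinearMap.inr_apply,
        Algebra.TensorProduct.tmul_mul_tmul, Prod.mk_mul_mk, mul_zero, zero_mul]
      rw [← Prod.zero_eq_mk, TensorProduct.tmul_zero]
    | add y y' hy hy' => rw [map_add, mul_add, hy, hy', add_zero]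
  | add x x' hx hx' => rw [map_add, add_mul, hx, hx', add_zero]

lemma inl_one : (LinearMap.inl A B₁ B₂).lTensor S (1 : S ⊗[A] B₁) = (1 : S) ⊗ₜ[A] ((1, 0) : B₁ × B₂) := by
  rw [Algebra.TensorProduct.one_def, LinearMap.lTensor_tmul]
  rfl

lemma inr_one : (LinearMap.inr A B₁ B₂).lTensor S (1 : S ⊗[A] B₂) = (1 : S) ⊗ₜ[A] ((0, 1) : B₁ × B₂) := by
  rw [Algebra.TensorProduct.one_def, LinearMap.lTensor_tmul]
  rfl

lemma inl_fst_add_inr_snd (x : S ⊗[A] (B₁ × B₂)) :
    (LinearMap.inl A B₁ B₂).lTensor S ((LinearMap.fst A B₁ B₂).lTensor S x) +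
      (LinearMap.inr A B₁ B₂).lTensor S ((LinearMap.snd A B₁ B₂).lTensor S x) = x := by
  induction x using TensorProduct.induction_on with
  | zero => simp
  | tmul s b =>
    simp only [LinearMap.lTensor_tmul, LinearMap.fst_apply, LinearMap.snd_apply,
      LinearMap.inl_apply, LinearMap.inr_apply]
    rw [← TensorProduct.tmul_add]
    simp
  | add x y hx hy =>
    simp only [map_add]
    conv_rhs => rw [← hx, ← hy]
    abel

lemma one_eq : (1 : S ⊗[A] (B₁ × B₂)) = (1 : S) ⊗ₜ[A] ((1, 0) : B₁ × B₂) + (1 : S) ⊗ₜ[A] ((0, 1) : B₁ × B₂) := by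
  rw [← TensorProduct.tmul_add, Algebra.TensorProduct.one_def]
  simp only [Prod.mk_add_mk, add_zero, zero_add]
  rfl

end prod

end Groth.Agent.H9.PLG
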