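import Mathlib
import Groth.Prelude.Def_PolLaw
import Groth.Agent.Lib.Helper9.Misc.PLG3

/-! Helper9: the two factors of a multiplicative law on a product algebra -/
set_option linter.style.haveILetI false

namespace Groth.Agent.H9.PLG
open scoped TensorProduct
open Groth.Agent.H9.PLR Groth.Agent.H9.PLB
open Polynomial

universe u
variable {A : Type u} [CommRing A]
variable {B₁ B₂ : Type u} [CommRing B₁] [Algebra A B₁] [CommRing B₂] [Algebra A B₂]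

lemma toFun'_eq_hat {B : Type u} [CommRing B] [Algebra A B] (F : B →ₚₗ[A] A) (S : Type u)
    [CommSemiring S] [Algebra A S] (x : S ⊗[A] B) :
    F.toFun' S x = hat F S x ⊗ₜ[A] (1 : A) := by
  unfold hat
  generalize F.toFun' S x = y
  induction y using TensorProduct.induction_on with
  | zero => simp
  | tmul s a =>
    rw [TensorProduct.rid_tmul, TensorProduct.smul_tmul, smul_eq_mul, mul_one]
  | add x y hx hy => rw [map_add, TensorProduct.add_tmul, ← hx, ← hy]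

lemma tmul_one_mul {S : Type u} [CommSemiring S] [Algebra A S] (s : S) (z : S ⊗[A] A) :
    (s ⊗ₜ[A] (1 : A)) * z = s • z := by
  induction z using TensorProduct.induction_on with
  | zero => simp
  | tmul s' a => rw [Algebra.TensorProduct.tmul_mul_tmul, one_mul, TensorProduct.smul_tmul', smul_eq_mul]
  | add x y hx hy => rw [mul_add, hx, hy, smul_add]

lemma lTensor_smul' {M N : Type u} [AddCommGroup M] [Module A M] [AddCommGroup N] [Module A N]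
    (ℓ : M →ₗ[A] N) {S : Type u} [CommSemiring S] [Algebra A S] (s : S) (x : S ⊗[A] M) :
    ℓ.lTensor S (s • x) = s • ℓ.lTensor S x := by
  induction x using TensorProduct.induction_on with
  | zero => simp
  | tmul s' m => rw [TensorProduct.smul_tmul', LinearMap.lTensor_tmul, LinearMap.lTensor_tmul,
      TensorProduct.smul_tmul']
  | add x y hx hy => rw [smul_add, map_add, hx, hy, map_add, smul_add]

section
variable (S : Type u) [CommRing S] [Algebra A S]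

lemma uu_inl (s : S) :
    (uu S ((1, 0) : B₁ × B₂) s : S ⊗[A] (B₁ × B₂)) =
      s • ((1 : S) ⊗ₜ[A] ((1, 0) : B₁ × B₂)) + (1 : S) ⊗ₜ[A] ((0, 1) : B₁ × B₂) := by
  unfold uu
  rw [one_eq, TensorProduct.sub_tmul, TensorProduct.smul_tmul', smul_eq_mul, mul_one]
  abel

lemma uu_inr (s : S) :
    (uu S ((0, 1) : B₁ × B₂) s : S ⊗[A] (B₁ × B₂)) =
      (1 : S) ⊗ₜ[A] ((1, 0) : B₁ × B₂) + s • ((1 : S) ⊗ₜ[A] ((0, 1) : B₁ × B₂)) := by
  unfold uu
  rw [one_eq, TensorProduct.sub_tmul, TensorProduct.smul_tmul', smul_eq_mul, mul_one]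
  abel

lemma uu_inl_mul (s : S) (x : S ⊗[A] B₁) :
    uu S ((1, 0) : B₁ × B₂) s * ((LinearMap.inl A B₁ B₂).lTensor S x + (1 : S) ⊗ₜ[A] ((0, 1) : B₁ × B₂)) =
      (LinearMap.inl A B₁ B₂).lTensor S (s • x) + (1 : S) ⊗ₜ[A] ((0, 1) : B₁ × B₂) := by
  rw [uu_inl, ← inl_one, ← inr_one, lTensor_smul']
  rw [add_mul, mul_add, mul_add, smul_mul_assoc, ← inl_mul, one_mul, smul_mul_assoc, inl_mul_inr,
    smul_zero, add_zero, mul_comm, inl_mul_inr, zero_add, ← inr_mul, one_mul]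

lemma uu_inr_mul (s : S) (x : S ⊗[A] B₂) :
    uu S ((0, 1) : B₁ × B₂) s * ((LinearMap.inr A B₁ B₂).lTensor S x + (1 : S) ⊗ₜ[A] ((1, 0) : B₁ × B₂)) =
      (LinearMap.inr A B₁ B₂).lTensor S (s • x) + (1 : S) ⊗ₜ[A] ((1, 0) : B₁ × B₂) := by
  rw [uu_inr, ← inl_one, ← inr_one, lTensor_smul']
  rw [add_mul, mul_add, mul_add, smul_mul_assoc, ← inr_mul, one_mul, smul_mul_assoc, ← inl_mul,
    one_mul, inl_mul_inr, mul_comm (LinearMap.lTensor S (LinearMap.inr A B₁ B₂) 1), inl_mul_inr,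
    smul_zero]
  abel

end

section prod2
variable (S : Type u) [CommSemiring S] [Algebra A S]

lemma inl_E₂ (x : S ⊗[A] B₁) :
    (LinearMap.inl A B₁ B₂).lTensor S x * (1 : S) ⊗ₜ[A] ((0, 1) : B₁ × B₂) = 0 := by
  rw [← inr_one]; exact inl_mul_inr S x 1

lemma inr_E₁ (x : S ⊗[A] B₂) :
    (LinearMap.inr A B₁ B₂).lTensor S x * (1 : S) ⊗ₜ[A] ((1, 0) : B₁ × B₂) = 0 := by
  rw [← inl_one, mul_comm]; exact inl_mul_inr S 1 x

lemma inl_E₁ (x : S ⊗[A] B₁) :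
    (LinearMap.inl A B₁ B₂).lTensor S x * (1 : S) ⊗ₜ[A] ((1, 0) : B₁ × B₂) =
      (LinearMap.inl A B₁ B₂).lTensor S x := by
  rw [← inl_one, ← inl_mul, mul_one]

lemma inr_E₂ (x : S ⊗[A] B₂) :
    (LinearMap.inr A B₁ B₂).lTensor S x * (1 : S) ⊗ₜ[A] ((0, 1) : B₁ × B₂) =
      (LinearMap.inr A B₁ B₂).lTensor S x := by
  rw [← inr_one, ← inr_mul, mul_one]

lemma E₁E₂ : ((1 : S) ⊗ₜ[A] ((1, 0) : B₁ × B₂)) * (1 : S) ⊗ₜ[A] ((0, 1) : B₁ × B₂) = 0 := by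
  rw [← inl_one]; exact inl_E₂ S 1

lemma E₂E₂ : ((1 : S) ⊗ₜ[A] ((0, 1) : B₁ × B₂)) * (1 : S) ⊗ₜ[A] ((0, 1) : B₁ × B₂) =
    (1 : S) ⊗ₜ[A] ((0, 1) : B₁ × B₂) := by
  rw [← inr_one, ← inr_mul, mul_one]

lemma E₁E₁ : ((1 : S) ⊗ₜ[A] ((1, 0) : B₁ × B₂)) * (1 : S) ⊗ₜ[A] ((1, 0) : B₁ × B₂) =
    (1 : S) ⊗ₜ[A] ((1, 0) : B₁ × B₂) := by
  rw [← inl_one, ← inl_mul, mul_one]

lemma inl_add_mul (x y : S ⊗[A] B₁) :
    ((LinearMap.inl A B₁ B₂).lTensor S x + (1 : S) ⊗ₜ[A] ((0, 1) : B₁ × B₂)) *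
      ((LinearMap.inl A B₁ B₂).lTensor S y + (1 : S) ⊗ₜ[A] ((0, 1) : B₁ × B₂)) =
    (LinearMap.inl A B₁ B₂).lTensor S (x * y) + (1 : S) ⊗ₜ[A] ((0, 1) : B₁ × B₂) := by
  rw [add_mul, mul_add, mul_add, ← inl_mul, inl_E₂, E₂E₂,
    mul_comm ((1 : S) ⊗ₜ[A] ((0, 1) : B₁ × B₂)), inl_E₂]
  abel

lemma inr_add_mul (x y : S ⊗[A] B₂) :
    ((LinearMap.inr A B₁ B₂).lTensor S x + (1 : S) ⊗ₜ[A] ((1, 0) : B₁ × B₂)) *
      ((LinearMap.inr A B₁ B₂).lTensor S y + (1 : S) ⊗ₜ[A] ((1, 0) : B₁ × B₂)) =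
    (LinearMap.inr A B₁ B₂).lTensor S (x * y) + (1 : S) ⊗ₜ[A] ((1, 0) : B₁ × B₂) := by
  rw [add_mul, mul_add, mul_add, ← inr_mul, inr_E₁, E₁E₁,
    mul_comm ((1 : S) ⊗ₜ[A] ((1, 0) : B₁ × B₂)), inr_E₁]
  abel

lemma fac_aux (x : S ⊗[A] B₁) (y : S ⊗[A] B₂) :
    ((LinearMap.inl A B₁ B₂).lTensor S x + (1 : S) ⊗ₜ[A] ((0, 1) : B₁ × B₂)) *
      ((LinearMap.inr A B₁ B₂).lTensor S y + (1 : S) ⊗ₜ[A] ((1, 0) : B₁ × B₂)) =
    (LinearMap.inl A B₁ B₂).lTensor S x + (LinearMap.inr A B₁ B₂).lTensor S y := by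
  rw [add_mul, mul_add, mul_add, inl_mul_inr, inl_E₁, mul_comm ((1 : S) ⊗ₜ[A] ((0, 1) : B₁ × B₂)) _,
    inr_E₂, mul_comm ((1 : S) ⊗ₜ[A] ((0, 1) : B₁ × B₂)) _, E₁E₂]
  abel

end prod2

section laws
variable {d : ℕ} (F : PolLaw.MulLaw A (B₁ × B₂) A d)

lemma idem_inl : ((1, 0) : B₁ × B₂) * (1, 0) - (1, 0) ∈ PolLaw.ker F.law := by
  have : ((1, 0) : B₁ × B₂) * (1, 0) - (1, 0) = 0 := by simp
  rw [this]; exact Ideal.zero_mem _

lemma idem_inr : ((0, 1) : B₁ × B₂) * (0, 1) - (0, 1) ∈ PolLaw.ker F.law := by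
  have : ((0, 1) : B₁ × B₂) * (0, 1) - (0, 1) = 0 := by simp
  rw [this]; exact Ideal.zero_mem _

/-- the first factor -/
noncomputable def law₁ (d₁ : ℕ) (h₁ : pe F.law ((1, 0) : B₁ × B₂) = X ^ d₁) :
    PolLaw.MulLaw A B₁ A d₁ where
  law := affPre F.law (LinearMap.inl A B₁ B₂) (0, 1)
  homog := by
    intro S _ _ s x
    let _ : CommRing S := commRingOfAlg A S
    rw [affPre_toFun', affPre_toFun', ← uu_inl_mul, (F.mult S).2, toFun'_eq_hat F.law S (uu S _ s),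
      hat_uu, h₁, map_pow, aeval_X, tmul_one_mul]
  mult := by
    intro S _ _
    constructor
    · rw [affPre_toFun', inl_one, ← one_eq, (F.mult S).1]
    · intro x y
      rw [affPre_toFun', affPre_toFun', affPre_toFun', ← (F.mult S).2, inl_add_mul]

/-- the second factor -/
noncomputable def law₂ (d₂ : ℕ) (h₂ : pe F.law ((0, 1) : B₁ × B₂) = X ^ d₂) :
    PolLaw.MulLaw A B₂ A d₂ where
  law := affPre F.law (LinearMap.inr A B₁ B₂) (1, 0)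
  homog := by
    intro S _ _ s x
    let _ : CommRing S := commRingOfAlg A S
    rw [affPre_toFun', affPre_toFun', ← uu_inr_mul, (F.mult S).2, toFun'_eq_hat F.law S (uu S _ s),
      hat_uu, h₂, map_pow, aeval_X, tmul_one_mul]
  mult := by
    intro S _ _
    constructor
    · rw [affPre_toFun', inr_one, add_comm, ← one_eq, (F.mult S).1]
    · intro x y
      rw [affPre_toFun', affPre_toFun', affPre_toFun', ← (F.mult S).2, inr_add_mul]

lemma fac (S : Type u) [CommSemiring S] [Algebra A S] (x : S ⊗[A] (B₁ × B₂)) :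
    F.law.toFun' S x =
      F.law.toFun' S ((LinearMap.inl A B₁ B₂).lTensor S ((LinearMap.fst A B₁ B₂).lTensor S x) +
        (1 : S) ⊗ₜ[A] ((0, 1) : B₁ × B₂)) *
      F.law.toFun' S ((LinearMap.inr A B₁ B₂).lTensor S ((LinearMap.snd A B₁ B₂).lTensor S x) +
        (1 : S) ⊗ₜ[A] ((1, 0) : B₁ × B₂)) := by
  rw [← (F.mult S).2, fac_aux, inl_fst_add_inr_snd]

end laws

end Groth.Agent.H9.PLG
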