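import Mathlib
import Groth.Prelude.Def_PolLaw
import Groth.Agent.Lib.Helper9.Misc.PLR1

/-! Helper9: the module of coefficients of a polynomial law; it is a subalgebra for multiplicative laws -/
set_option linter.style.haveILetI false

namespace Groth.Agent.H9.PLZ
open scoped TensorProduct
open Groth.Agent.H9.PLR

universe u
variable {A : Type u} [CommRing A] {B : Type u} [CommRing B] [Algebra A B]
variable {C : Type u} [CommRing C] [Algebra A C]

/-- evaluation of a linear functional on the left factor: `S ⊗ C → C` -/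
noncomputable def ev {S : Type u} [CommSemiring S] [Algebra A S] (ℓ : S →ₗ[A] A) : S ⊗[A] C →ₗ[A] C :=
  (TensorProduct.lid A C).toLinearMap ∘ₗ ℓ.rTensor C

@[simp] lemma ev_tmul {S : Type u} [CommSemiring S] [Algebra A S] (ℓ : S →ₗ[A] A) (s : S) (c : C) :
    ev ℓ (s ⊗ₜ[A] c) = ℓ s • c := by
  simp [ev]

/-- the module of coefficients of a polynomial law -/
def coeffSpan (F : B →ₚₗ[A] C) : Submodule A C :=
  Submodule.span A {c | ∃ (S : Type u) (_ : CommSemiring S) (_ : Algebra A S) (p : S ⊗[A] B)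
    (ℓ : S →ₗ[A] A), c = ev ℓ (F.toFun' S p)}

lemma ev_mem (F : B →ₚₗ[A] C) (S : Type u) [CommSemiring S] [Algebra A S] (p : S ⊗[A] B)
    (ℓ : S →ₗ[A] A) : ev ℓ (F.toFun' S p) ∈ coeffSpan F :=
  Submodule.subset_span ⟨S, inferInstance, inferInstance, p, ℓ, rfl⟩

lemma one_mem_coeffSpan {F : B →ₚₗ[A] C} (hF : PolLaw.IsMult F) : (1 : C) ∈ coeffSpan F := by
  have := ev_mem F A 1 LinearMap.id
  rw [(hF A).1, Algebra.TensorProduct.one_def, ev_tmul] at this
  simpa using this

section mul
variable {S S' : Type u} [CommSemiring S] [Algebra A S] [CommSemiring S'] [Algebra A S']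

/-- the product functional on `S ⊗ S'` -/
noncomputable def prodFun (ℓ : S →ₗ[A] A) (ℓ' : S' →ₗ[A] A) : S ⊗[A] S' →ₗ[A] A :=
  (TensorProduct.lid A A).toLinearMap ∘ₗ TensorProduct.map ℓ ℓ'

@[simp] lemma prodFun_tmul (ℓ : S →ₗ[A] A) (ℓ' : S' →ₗ[A] A) (s : S) (s' : S') :
    prodFun ℓ ℓ' (s ⊗ₜ[A] s') = ℓ s * ℓ' s' := by
  simp [prodFun]

lemma ev_prodFun (ℓ : S →ₗ[A] A) (ℓ' : S' →ₗ[A] A) (z : S ⊗[A] C) (z' : S' ⊗[A] C) :
    ev (prodFun ℓ ℓ')
      ((Algebra.TensorProduct.includeLeft : S →ₐ[A] S ⊗[A] S').toLinearMap.rTensor C z *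
        (Algebra.TensorProduct.includeRight : S' →ₐ[A] S ⊗[A] S').toLinearMap.rTensor C z') =
    ev ℓ z * ev ℓ' z' := by
  induction z using TensorProduct.induction_on with
  | zero => simp
  | tmul s c =>
    induction z' using TensorProduct.induction_on with
    | zero => simp
    | tmul s' c' =>
      simp only [LinearMap.rTensor_tmul, AlgHom.toLinearMap_apply,
        Algebra.TensorProduct.includeLeft_apply, Algebra.TensorProduct.includeRight_apply,
        Algebra.TensorProduct.tmul_mul_tmul, mul_one, one_mul, ev_tmul, prodFun_tmul]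
      rw [smul_mul_smul_comm]
    | add x y hx hy => rw [map_add, mul_add, map_add, hx, hy, map_add, mul_add]
  | add x y hx hy => rw [map_add, add_mul, map_add, hx, hy, map_add, add_mul]

end mul

/-- the coefficients of a multiplicative law are closed under multiplication -/
lemma mul_mem_coeffSpan {F : B →ₚₗ[A] C} (hF : PolLaw.IsMult F) {c c' : C}
    (hc : c ∈ coeffSpan F) (hc' : c' ∈ coeffSpan F) : c * c' ∈ coeffSpan F := by
  unfold coeffSpan at hc hc' ⊢
  induction hc using Submodule.span_induction with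
  | zero => rw [zero_mul]; exact Submodule.zero_mem _
  | add x y _ _ hx hy => rw [add_mul]; exact Submodule.add_mem _ hx hy
  | smul a x _ hx => rw [smul_mul_assoc]; exact Submodule.smul_mem _ _ hx
  | mem x hx =>
    obtain ⟨S, _, _, p, ℓ, rfl⟩ := hx
    induction hc' using Submodule.span_induction with
    | zero => rw [mul_zero]; exact Submodule.zero_mem _
    | add x y _ _ hx hy => rw [mul_add]; exact Submodule.add_mem _ hx hy
    | smul a x _ hx => rw [mul_smul_comm]; exact Submodule.smul_mem _ _ hx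
    | mem y hy =>
      obtain ⟨S', _, _, p', ℓ', rfl⟩ := hy
      rw [← ev_prodFun, PolynomialLaw.isCompat_apply', PolynomialLaw.isCompat_apply',
        ← (hF (S ⊗[A] S')).2]
      exact ev_mem F _ _ _

end Groth.Agent.H9.PLZ
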