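import Mathlib
import Groth.Prelude.Def_PolLaw
import Groth.Agent.Lib.Helper9.Misc.PLZ1

/-! Helper9: elements of a free tensor product with coordinates in the range of a linear map -/
set_option linter.style.haveILetI false

namespace Groth.Agent.H9.PLZ
open scoped TensorProduct
open Groth.Agent.H9.PLR

universe u
variable {A : Type u} [CommRing A] {C : Type u} [AddCommGroup C] [Module A C]

/-- an element of `S ⊗ C`, `S` free, all of whose coordinates lie in the range of `ι` lies in
the range of `S ⊗ ι` -/
lemma mem_range_lTensor {S : Type u} [AddCommGroup S] [Module A S] {κ : Type*}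
    (ℬ : Module.Basis κ A S) {C₀ : Type u} [AddCommGroup C₀] [Module A C₀] (ι : C₀ →ₗ[A] C)
    (z : S ⊗[A] C)
    (h : ∀ i, TensorProduct.lid A C ((ℬ.coord i).rTensor C z) ∈ LinearMap.range ι) :
    z ∈ LinearMap.range (ι.lTensor S) := by
  classical
  choose g hg using h
  let E := TensorProduct.equivFinsuppOfBasisLeft (N := C) ℬ
  set f := E z with hf
  have h1 : z = f.sum fun i c => ℬ i ⊗ₜ[A] c := by
    rw [← TensorProduct.equivFinsuppOfBasisLeft_symm_apply]
    exact (E.symm_apply_apply z).symm
  refine ⟨∑ i ∈ f.support, ℬ i ⊗ₜ[A] g i, ?_⟩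
  rw [map_sum]
  conv_rhs => rw [h1, Finsupp.sum]
  refine Finset.sum_congr rfl fun i _ => ?_
  rw [LinearMap.lTensor_tmul, hg, ← TensorProduct.equivFinsuppOfBasisLeft_apply]

end Groth.Agent.H9.PLZ
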