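import Mathlib
import Groth.Prelude.Def_PolLaw
import Groth.Agent.Lib.Helper9.Misc.PLR3

/-! Helper9: corestriction of a polynomial law along an injective linear map through which its values on polynomial algebras factor -/
set_option linter.style.haveILetI false

namespace Groth.Agent.H9.PLZ
open scoped TensorProduct
open Groth.Agent.H9.PLR

universe u
variable {A : Type u} [CommRing A] {M N N₀ : Type u} [AddCommGroup M] [Module A M]
  [AddCommGroup N] [Module A N] [AddCommGroup N₀] [Module A N₀]

section cores
variable (F : M →ₚₗ[A] N) (ι : N₀ →ₗ[A] N) (hι : Function.Injective ι)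
variable (H : ∀ (σ : Type u) (p : MvPolynomial σ A ⊗[A] M),
  F.toFun' (MvPolynomial σ A) p ∈ LinearMap.range (ι.lTensor (MvPolynomial σ A)))

include hι in
lemma lTensor_inj (σ : Type u) : Function.Injective (ι.lTensor (MvPolynomial σ A)) :=
  Module.Flat.lTensor_preserves_injective_linearMap ι hι

/-- the unique lift of `F(p)` to `P ⊗ N₀` -/
noncomputable def qq (σ : Type u) (p : MvPolynomial σ A ⊗[A] M) : MvPolynomial σ A ⊗[A] N₀ :=
  Classical.choose (H σ p)

lemma qq_spec (σ : Type u) (p : MvPolynomial σ A ⊗[A] M) :
    ι.lTensor (MvPolynomial σ A) (qq F ι H σ p) = F.toFun' (MvPolynomial σ A) p :=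
  Classical.choose_spec (H σ p)

include hι in
lemma qq_nat {σ σ' : Type u} (e : MvPolynomial σ A →ₐ[A] MvPolynomial σ' A)
    (p : MvPolynomial σ A ⊗[A] M) :
    qq F ι H σ' (e.toLinearMap.rTensor M p) = e.toLinearMap.rTensor N₀ (qq F ι H σ p) := by
  apply lTensor_inj ι hι σ'
  rw [qq_spec, ← PolynomialLaw.isCompat_apply', ← qq_spec F ι H σ p, ← LinearMap.comp_apply,
    ← LinearMap.comp_apply, LinearMap.lTensor_comp_rTensor, LinearMap.rTensor_comp_lTensor]

section pres
variable (S : Type u) [CommSemiring S] [Algebra A S]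

/-- the canonical presentation of a test algebra -/
noncomputable def piS : MvPolynomial S A →ₐ[A] S := MvPolynomial.aeval id

lemma piS_X (s : S) : piS (A := A) S (MvPolynomial.X s) = s := by
  simp [piS]

lemma piS_surjective : Function.Surjective (piS (A := A) S) := fun s => ⟨MvPolynomial.X s, piS_X S s⟩

end pres

include hι in
/-- adding `k ⊗ y` with `k` in the kernel of the presentation does not change the value -/
lemma well_step (S : Type u) [CommSemiring S] [Algebra A S] (p : MvPolynomial S A ⊗[A] M)
    (k : MvPolynomial S A) (hk : piS (A := A) S k = 0) (y : M) :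
    (piS (A := A) S).toLinearMap.rTensor N₀ (qq F ι H S (p + k ⊗ₜ[A] y)) =
      (piS (A := A) S).toLinearMap.rTensor N₀ (qq F ι H S p) := by
  let j : MvPolynomial S A →ₐ[A] MvPolynomial (Option S) A := MvPolynomial.rename some
  let e₀ : MvPolynomial (Option S) A →ₐ[A] MvPolynomial S A :=
    MvPolynomial.aeval (fun o => Option.elim o 0 MvPolynomial.X)
  let ek : MvPolynomial (Option S) A →ₐ[A] MvPolynomial S A :=
    MvPolynomial.aeval (fun o => Option.elim o k MvPolynomial.X)
  have he₀j : e₀.comp j = AlgHom.id A _ := by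
    apply MvPolynomial.algHom_ext
    intro s
    simp [e₀, j]
  have hekj : ek.comp j = AlgHom.id A _ := by
    apply MvPolynomial.algHom_ext
    intro s
    simp [ek, j]
  have hπ : (piS (A := A) S).comp e₀ = (piS (A := A) S).comp ek := by
    apply MvPolynomial.algHom_ext
    intro o
    cases o with
    | none => simp [e₀, ek, hk]
    | some s => simp [e₀, ek]
  set Q : MvPolynomial (Option S) A ⊗[A] M :=
    j.toLinearMap.rTensor M p + (MvPolynomial.X none) ⊗ₜ[A] y with hQ
  have hQ₀ : e₀.toLinearMap.rTensor M Q = p := by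
    rw [hQ, map_add, ← LinearMap.comp_apply, ← LinearMap.rTensor_comp, ← AlgHom.comp_toLinearMap,
      he₀j, LinearMap.rTensor_tmul]
    simp [e₀]
  have hQk : ek.toLinearMap.rTensor M Q = p + k ⊗ₜ[A] y := by
    rw [hQ, map_add, ← LinearMap.comp_apply, ← LinearMap.rTensor_comp, ← AlgHom.comp_toLinearMap,
      hekj, LinearMap.rTensor_tmul]
    simp [ek]
  rw [← hQk, qq_nat F ι hι H, ← LinearMap.comp_apply, ← LinearMap.rTensor_comp,
    ← AlgHom.comp_toLinearMap, ← hπ]
  conv_rhs => rw [← hQ₀, qq_nat F ι hι H, ← LinearMap.comp_apply, ← LinearMap.rTensor_comp,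
    ← AlgHom.comp_toLinearMap]

include hι in
/-- independence of the lift -/
lemma well (S : Type u) [CommSemiring S] [Algebra A S] (p p' : MvPolynomial S A ⊗[A] M)
    (h : (piS (A := A) S).toLinearMap.rTensor M p = (piS (A := A) S).toLinearMap.rTensor M p') :
    (piS (A := A) S).toLinearMap.rTensor N₀ (qq F ι H S p) =
      (piS (A := A) S).toLinearMap.rTensor N₀ (qq F ι H S p') := by
  let _ : CommRing S := commRingOfAlg A S
  let g : MvPolynomial S A →ₗ[A] S := (piS (A := A) S).toLinearMap
  have hex := rTensor_exact M (LinearMap.exact_subtype_ker_map g) (piS_surjective (A := A) S)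
  have hd : g.rTensor M (p' - p) = 0 := by
    rw [map_sub, sub_eq_zero]
    exact h.symm
  obtain ⟨e, he⟩ := (hex (p' - p)).mp hd
  have key : ∀ (e : ↥(LinearMap.ker g) ⊗[A] M) (p : MvPolynomial S A ⊗[A] M),
      (piS (A := A) S).toLinearMap.rTensor N₀ (qq F ι H S (p + (LinearMap.ker g).subtype.rTensor M e)) =
        (piS (A := A) S).toLinearMap.rTensor N₀ (qq F ι H S p) := by
    intro e
    induction e using TensorProduct.induction_on with
    | zero => intro p; rw [map_zero, add_zero]
    | tmul k y =>
      intro p
      rw [LinearMap.rTensor_tmul]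
      exact well_step F ι hι H S p k.1 k.2 y
    | add e₁ e₂ h₁ h₂ =>
      intro p
      rw [map_add, ← add_assoc, h₂, h₁]
  have := key e p
  rw [he, add_sub_cancel] at this
  exact this.symm

/-- a chosen lift of a point of `S ⊗ M` to the canonical presentation -/
noncomputable def liftS (S : Type u) [CommSemiring S] [Algebra A S] (t : S ⊗[A] M) :
    MvPolynomial S A ⊗[A] M :=
  Classical.choose (LinearMap.rTensor_surjective M
    (show Function.Surjective (piS (A := A) S).toLinearMap from piS_surjective (A := A) S) t)

lemma liftS_spec (S : Type u) [CommSemiring S] [Algebra A S] (t : S ⊗[A] M) :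
    (piS (A := A) S).toLinearMap.rTensor M (liftS S t) = t :=
  Classical.choose_spec (LinearMap.rTensor_surjective M
    (show Function.Surjective (piS (A := A) S).toLinearMap from piS_surjective (A := A) S) t)

/-- the corestriction of a law to a submodule (more generally along an injective linear map)
through which all its values on polynomial algebras factor -/
noncomputable def cores : M →ₚₗ[A] N₀ where
  toFun' S _ _ := fun t => (piS (A := A) S).toLinearMap.rTensor N₀ (qq F ι H S (liftS S t))
  isCompat' := by
    intro S _ _ S' _ _ φ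
    funext t
    simp only [Function.comp_apply]
    let Φ : MvPolynomial S A →ₐ[A] MvPolynomial S' A := MvPolynomial.rename φ
    have hΦ : (piS (A := A) S').comp Φ = φ.comp (piS (A := A) S) := by
      apply MvPolynomial.algHom_ext
      intro s
      simp [Φ, piS]
    rw [← LinearMap.comp_apply, ← LinearMap.rTensor_comp, ← AlgHom.comp_toLinearMap, ← hΦ,
      AlgHom.comp_toLinearMap, LinearMap.rTensor_comp, LinearMap.comp_apply, ← qq_nat F ι hι H]
    apply well F ι hι H S'
    rw [liftS_spec, ← LinearMap.comp_apply, ← LinearMap.rTensor_comp, ← AlgHom.comp_toLinearMap, hΦ,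
      AlgHom.comp_toLinearMap, LinearMap.rTensor_comp, LinearMap.comp_apply, liftS_spec]

lemma cores_apply (S : Type u) [CommSemiring S] [Algebra A S] (p : MvPolynomial S A ⊗[A] M) :
    (cores F ι hι H).toFun' S ((piS (A := A) S).toLinearMap.rTensor M p) =
      (piS (A := A) S).toLinearMap.rTensor N₀ (qq F ι H S p) := by
  show (piS (A := A) S).toLinearMap.rTensor N₀ (qq F ι H S (liftS S _)) = _
  apply well F ι hι H S
  rw [liftS_spec]

lemma cores_spec (S : Type u) [CommSemiring S] [Algebra A S] (t : S ⊗[A] M) :
    ι.lTensor S ((cores F ι hι H).toFun' S t) = F.toFun' S t := by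
  show ι.lTensor S ((piS (A := A) S).toLinearMap.rTensor N₀ (qq F ι H S (liftS S t))) = _
  rw [← LinearMap.comp_apply, LinearMap.lTensor_comp_rTensor, ← LinearMap.rTensor_comp_lTensor,
    LinearMap.comp_apply, qq_spec, PolynomialLaw.isCompat_apply', liftS_spec]

end cores

end Groth.Agent.H9.PLZ
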