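import Mathlib
import Groth.Prelude.Def_PolLaw
import Groth.Agent.Lib.Helper9.Misc.PLZ1
import Groth.Agent.Lib.Helper9.Misc.PLZ2
import Groth.Agent.Lib.Helper9.Misc.PLZ3
import Groth.Agent.Lib.Helper9.Misc.PLG4

/-! Helper9: the universal multiplicative law of degree d is spanned by its coefficients -/
set_option linter.style.haveILetI false

namespace Groth.Agent.H9.PLZ
open scoped TensorProduct
open Groth.Agent.H9.PLR

universe u
variable {A : Type u} [CommRing A] {B : Type u} [CommRing B] [Algebra A B]
variable {C : Type u} [CommRing C] [Algebra A C]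

/-- the subalgebra of coefficients of a multiplicative law -/
def coeffAlg {F : B →ₚₗ[A] C} (hF : PolLaw.IsMult F) : Subalgebra A C :=
  (coeffSpan F).toSubalgebra (one_mem_coeffSpan hF) (fun _ _ h h' => mul_mem_coeffSpan hF h h')

lemma mem_coeffAlg {F : B →ₚₗ[A] C} (hF : PolLaw.IsMult F) (c : C) :
    c ∈ coeffAlg hF ↔ c ∈ coeffSpan F := Iff.rfl

lemma val_injective (C₁ : Subalgebra A C) : Function.Injective C₁.val.toLinearMap :=
  Subtype.val_injective

/-- the values of a multiplicative law on polynomial algebras factor through its coefficients -/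
lemma factor_coeffAlg {F : B →ₚₗ[A] C} (hF : PolLaw.IsMult F) (σ : Type u)
    (p : MvPolynomial σ A ⊗[A] B) :
    F.toFun' (MvPolynomial σ A) p ∈
      LinearMap.range ((coeffAlg hF).val.toLinearMap.lTensor (MvPolynomial σ A)) := by
  apply mem_range_lTensor (MvPolynomial.basisMonomials σ A)
  intro m
  have h := ev_mem F (MvPolynomial σ A) p ((MvPolynomial.basisMonomials σ A).coord m)
  exact ⟨⟨_, h⟩, rfl⟩

/-- the corestriction of a multiplicative law to its algebra of coefficients -/
noncomputable def coresLaw {F : B →ₚₗ[A] C} (hF : PolLaw.IsMult F) : B →ₚₗ[A] ↥(coeffAlg hF) :=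
  cores F (coeffAlg hF).val.toLinearMap (val_injective _) (factor_coeffAlg hF)

lemma coresLaw_spec {F : B →ₚₗ[A] C} (hF : PolLaw.IsMult F) (S : Type u) [CommSemiring S]
    [Algebra A S] (t : S ⊗[A] B) :
    (coeffAlg hF).val.toLinearMap.lTensor S ((coresLaw hF).toFun' S t) = F.toFun' S t :=
  cores_spec F _ (val_injective _) (factor_coeffAlg hF) S t

lemma map_smul'' {T T' : Type u} [CommSemiring T] [Algebra A T] [CommSemiring T'] [Algebra A T']
    {M : Type u} [CommRing M] [Algebra A M]
    (ψ : T →ₐ[A] T') (t : T) (z : T ⊗[A] M) :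
    Algebra.TensorProduct.map ψ (AlgHom.id A M) (t • z) =
      ψ t • Algebra.TensorProduct.map ψ (AlgHom.id A M) z := by
  induction z using TensorProduct.induction_on with
  | zero => simp
  | tmul a b =>
    rw [TensorProduct.smul_tmul', Algebra.TensorProduct.map_tmul, Algebra.TensorProduct.map_tmul,
      TensorProduct.smul_tmul', smul_eq_mul, smul_eq_mul, map_mul]
  | add x y hx hy => rw [smul_add, map_add, map_add, hx, hy, smul_add]

lemma coresLaw_isMult {F : B →ₚₗ[A] C} (hF : PolLaw.IsMult F) : PolLaw.IsMult (coresLaw hF) := by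
  intro S _ _
  have hinj := lTensor_inj (coeffAlg hF).val.toLinearMap (val_injective _) S
  constructor
  · have h1 : (1 : S ⊗[A] B) = (piS (A := A) S).toLinearMap.rTensor B 1 := by
      rw [rTensor_eq_map, map_one]
    have hq : qq F (coeffAlg hF).val.toLinearMap (factor_coeffAlg hF) S 1 = 1 := by
      apply hinj
      rw [qq_spec, (hF _).1, PolLaw.lTensor_algHom_apply, map_one]
    rw [h1]
    unfold coresLaw
    rw [cores_apply, hq, rTensor_eq_map, map_one]
  · intro x y
    have hx := liftS_spec (A := A) (M := B) S x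
    have hy := liftS_spec (A := A) (M := B) S y
    set p := liftS (A := A) (M := B) S x
    set p' := liftS (A := A) (M := B) S y
    have hxy : x * y = (piS (A := A) S).toLinearMap.rTensor B (p * p') := by
      rw [rTensor_eq_map, map_mul, ← rTensor_eq_map, ← rTensor_eq_map, hx, hy]
    have hq : qq F (coeffAlg hF).val.toLinearMap (factor_coeffAlg hF) S (p * p') =
        qq F (coeffAlg hF).val.toLinearMap (factor_coeffAlg hF) S p *
          qq F (coeffAlg hF).val.toLinearMap (factor_coeffAlg hF) S p' := by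
      apply hinj
      rw [qq_spec, (hF _).2, PolLaw.lTensor_algHom_apply, map_mul, ← PolLaw.lTensor_algHom_apply,
        ← PolLaw.lTensor_algHom_apply, qq_spec, qq_spec]
    rw [hxy]
    conv_rhs => rw [← hx, ← hy]
    unfold coresLaw
    rw [cores_apply, cores_apply, cores_apply, hq, rTensor_eq_map, map_mul, ← rTensor_eq_map,
      ← rTensor_eq_map]

lemma coresLaw_isHomog {F : B →ₚₗ[A] C} (hF : PolLaw.IsMult F) {d : ℕ} (hd : PolLaw.IsHomog F d) :
    PolLaw.IsHomog (coresLaw hF) d := by
  intro S _ _ s x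
  have hinj := lTensor_inj (coeffAlg hF).val.toLinearMap (val_injective _) S
  have hx := liftS_spec (A := A) (M := B) S x
  set p := liftS (A := A) (M := B) S x
  have hsx : s • x = (piS (A := A) S).toLinearMap.rTensor B
      ((MvPolynomial.X s : MvPolynomial S A) • p) := by
    rw [rTensor_eq_map, map_smul'', piS_X, ← rTensor_eq_map, hx]
  have hq : qq F (coeffAlg hF).val.toLinearMap (factor_coeffAlg hF) S
      ((MvPolynomial.X s : MvPolynomial S A) • p) =
      (MvPolynomial.X s : MvPolynomial S A) ^ d •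
        qq F (coeffAlg hF).val.toLinearMap (factor_coeffAlg hF) S p := by
    apply hinj
    rw [qq_spec, hd, Groth.Agent.H9.PLG.lTensor_smul', qq_spec]
  rw [hsx]
  conv_rhs => rw [← hx]
  unfold coresLaw
  rw [cores_apply, cores_apply, hq, rTensor_eq_map, map_smul'', map_pow, piS_X, ← rTensor_eq_map]

/-- the universal law is spanned by its coefficients -/
theorem coeffSpan_eq_top {d : ℕ} (γ : PolLaw.MulLaw A B C d) (hγ : PolLaw.IsGammaD γ) :
    coeffSpan γ.law = ⊤ := by
  let C₁ := coeffAlg γ.mult
  let γ₁ : PolLaw.MulLaw A B ↥C₁ d :=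
    { law := coresLaw γ.mult
      homog := coresLaw_isHomog γ.mult γ.homog
      mult := coresLaw_isMult γ.mult }
  obtain ⟨f, hf, -⟩ := hγ ↥C₁ γ₁
  obtain ⟨g, -, hguniq⟩ := hγ C γ
  have h1 : PolLaw.postcomp (C₁.val.comp f).toLinearMap γ.law = γ.law := by
    ext S _ _ t
    have h2 := congrArg (fun L : B →ₚₗ[A] ↥C₁ => L.toFun' S t) hf
    beta_reduce at h2
    show (C₁.val.comp f).toLinearMap.lTensor S (γ.law.toFun' S t) = γ.law.toFun' S t
    have h3 : (coresLaw γ.mult).toFun' S t = f.toLinearMap.lTensor S (γ.law.toFun' S t) := h2.symm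
    rw [AlgHom.comp_toLinearMap, LinearMap.lTensor_comp, LinearMap.comp_apply, ← h3]
    exact coresLaw_spec γ.mult S t
  have h4 : PolLaw.postcomp (AlgHom.id A C).toLinearMap γ.law = γ.law := by
    ext S _ _ t
    show (AlgHom.id A C).toLinearMap.lTensor S (γ.law.toFun' S t) = γ.law.toFun' S t
    simp
  have h5 : C₁.val.comp f = AlgHom.id A C := (hguniq _ h1).trans (hguniq _ h4).symm
  rw [eq_top_iff]
  intro c _
  have h6 : c = C₁.val (f c) := by
    have := congrArg (fun e : C →ₐ[A] C => e c) h5
    exact this.symm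
  rw [h6]
  exact (f c).2

end Groth.Agent.H9.PLZ
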