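import Mathlib
import Groth.Prelude.Def_PolLaw
import Groth.Prelude.Def_PolLaw2
import Groth.Prelude.Def_W4c5normfunctorschNorm
import Groth.Agent.Lib.Helper9.Misc.PLZ4
import Groth.Agent.Lib.Helper9.Misc.PLR3

/-! Helper9: norm along a pushout: the P-algebra iso P ⊗[R] R' ≃ P ⊗[Q] Q' and invariance of the norm -/

set_option linter.style.haveILetI false

namespace Groth.Agent.H9.NBC
open scoped TensorProduct
open Groth.Agent.H9.PLZ Groth.Agent.H9.PLR

universe u

section bc
variable {R : Type u} [CommRing R] {Q : Type u} [CommRing Q] [Algebra R Q]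
  {X : Type u} [AddCommGroup X] [Module R X]
  {Y : Type u} [AddCommGroup Y] [Module R Y] [Module Q Y] [IsScalarTower R Q Y]

lemma bcAlong_tmul (g : X →ₗ[R] Y) (P : Type u) [CommRing P] [Algebra R P] [Algebra Q P]
    [IsScalarTower R Q P] (p : P) (x : X) :
    PolLaw.bcAlong g P (p ⊗ₜ[R] x) = p ⊗ₜ[Q] g x := by
  simp [PolLaw.bcAlong]

end bc

section norm
variable {R R' Q Q' : Type u} [CommRing R] [CommRing R'] [Algebra R R']
    [CommRing Q] [Algebra R Q] [CommRing Q'] [Algebra R Q'] [Algebra Q Q'] [Algebra R' Q']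
    [IsScalarTower R Q Q'] [IsScalarTower R R' Q'] [Algebra.IsPushout R R' Q Q']

/-- the `P`-algebra isomorphism `P ⊗[R] R' ≃ P ⊗[Q] Q'` -/
noncomputable def eP (P : Type u) [CommRing P] [Algebra R P] [Algebra Q P] [IsScalarTower R Q P] :
    P ⊗[R] R' ≃ₐ[P] P ⊗[Q] Q' :=
  haveI : Algebra.IsPushout R Q R' Q' := Algebra.IsPushout.symm inferInstance
  (Algebra.TensorProduct.cancelBaseChange R Q P P R').symm.trans
    (Algebra.TensorProduct.congr (AlgEquiv.refl (R := P) (A₁ := P)) (Algebra.IsPushout.equiv R Q R' Q'))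

lemma eP_tmul (P : Type u) [CommRing P] [Algebra R P] [Algebra Q P] [IsScalarTower R Q P]
    (p : P) (x : R') :
    eP (R := R) (R' := R') (Q := Q) (Q' := Q') P (p ⊗ₜ[R] x) = p ⊗ₜ[Q] algebraMap R' Q' x := by
  simp [eP, Algebra.IsPushout.equiv_tmul]

lemma eP_eq (P : Type u) [CommRing P] [Algebra R P] [Algebra Q P] [IsScalarTower R Q P]
    (z : P ⊗[R] R') :
    eP (R := R) (R' := R') (Q := Q) (Q' := Q') P z =
      PolLaw.bcAlong (IsScalarTower.toAlgHom R R' Q').toLinearMap P z := by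
  induction z using TensorProduct.induction_on with
  | zero => simp
  | tmul p x => rw [eP_tmul (R := R) (Q := Q) (Q' := Q'), bcAlong_tmul (Q := Q)]; rfl
  | add x y hx hy => rw [map_add, map_add, hx, hy]

lemma norm_bcAlong (P : Type u) [CommRing P] [Algebra R P] [Algebra Q P] [IsScalarTower R Q P]
    (z : P ⊗[R] R') :
    Algebra.norm P (PolLaw.bcAlong (Q := Q) (IsScalarTower.toAlgHom R R' Q').toLinearMap P z) =
      Algebra.norm P z := by
  rw [← eP_eq (Q := Q)]
  exact Algebra.norm_eq_of_algEquiv _ z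

end norm

end Groth.Agent.H9.NBC
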