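import Mathlib
import Groth.Prelude.Def_PolLaw
import Groth.Prelude.Def_PolLaw2
import Groth.Prelude.Def_W4c5normfunctorschNorm
import Groth.Agent.Lib.Helper9.Misc.PLZ4
import Groth.Agent.Lib.Helper9.Misc.PLR3
import Groth.Agent.Lib.Helper9.Misc.NBC1

/-! Helper9: the algebra map attached to the norm commutes with base change (S17914) -/

set_option linter.style.haveILetI false

namespace Groth.Agent.H9.NBC
open scoped TensorProduct
open Groth.Agent.H9.PLZ Groth.Agent.H9.PLR

universe u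

section comp
variable {R : Type u} [CommRing R] {Q : Type u} [CommRing Q] [Algebra R Q]
  {X : Type u} [AddCommGroup X] [Module R X]
  {Y : Type u} [AddCommGroup Y] [Module R Y] [Module Q Y] [IsScalarTower R Q Y]
  {E : Type u} [AddCommGroup E] [Module R E] [Module Q E] [IsScalarTower R Q E]
  {X₀ : Type u} [AddCommGroup X₀] [Module R X₀]

lemma lTensor_bcAlong (θ : X →ₗ[R] Y) (π' : Y →ₗ[Q] E) (P : Type u) [CommRing P] [Algebra R P]
    [Algebra Q P] [IsScalarTower R Q P] (w : P ⊗[R] X) :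
    π'.lTensor P (PolLaw.bcAlong θ P w) =
      PolLaw.bcAlong ((π'.restrictScalars R) ∘ₗ θ) P w := by
  induction w using TensorProduct.induction_on with
  | zero => simp
  | tmul p x => rw [bcAlong_tmul, bcAlong_tmul, LinearMap.lTensor_tmul]; rfl
  | add x y hx hy => rw [map_add, map_add, map_add, hx, hy]

lemma bcAlong_lTensor (π : X →ₗ[R] X₀) (g : X₀ →ₗ[R] Y) (P : Type u) [CommRing P] [Algebra R P]
    [Algebra Q P] [IsScalarTower R Q P] (w : P ⊗[R] X) :
    PolLaw.bcAlong (Q := Q) g P (π.lTensor P w) = PolLaw.bcAlong (g ∘ₗ π) P w := by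
  induction w using TensorProduct.induction_on with
  | zero => simp
  | tmul p x => rw [LinearMap.lTensor_tmul, bcAlong_tmul, bcAlong_tmul]; rfl
  | add x y hx hy => rw [map_add, map_add, map_add, hx, hy]

end comp

section extract
variable {R : Type u} [CommRing R] {Q : Type u} [CommRing Q] [Algebra R Q]
  {C : Type u} [CommRing C] [Algebra R C]
  (S : Type u) [CommRing S] [Algebra R S]

/-- extraction of a coefficient -/
noncomputable def Lam (ℓ : S →ₗ[R] R) (t : (Q ⊗[R] S) ⊗[Q] Q) : Q :=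
  TensorProduct.rid R Q (ℓ.lTensor Q (TensorProduct.rid Q (Q ⊗[R] S) t))

lemma Lam_add (ℓ : S →ₗ[R] R) (t t' : (Q ⊗[R] S) ⊗[Q] Q) :
    Lam S ℓ (t + t') = Lam S ℓ t + Lam S ℓ t' := by
  simp [Lam]

lemma Lam_bcAlong (ℓ : S →ₗ[R] R) (D : C →ₗ[R] Q) (y : S ⊗[R] C) :
    Lam S ℓ (PolLaw.bcAlong D (Q ⊗[R] S)
      ((Algebra.TensorProduct.includeRight : S →ₐ[R] Q ⊗[R] S).toLinearMap.rTensor C y)) =
      D (ev ℓ y) := by
  induction y using TensorProduct.induction_on with
  | zero => simp [Lam]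
  | tmul s c =>
    rw [LinearMap.rTensor_tmul, bcAlong_tmul, ev_tmul, map_smul]
    simp [Lam, TensorProduct.smul_tmul']
  | add x y hx hy => rw [map_add, map_add, Lam_add, hx, hy, map_add, map_add]

end extract

section main
variable {R R' Q Q' : Type u} [CommRing R] [CommRing R'] [Algebra R R']
    [CommRing Q] [Algebra R Q] [CommRing Q'] [Algebra R Q'] [Algebra Q Q'] [Algebra R' Q']
    [IsScalarTower R Q Q'] [IsScalarTower R R' Q'] [Algebra.IsPushout R R' Q Q']
    [Module.Free R R'] [Module.Finite R R'] [Module.Free Q Q'] [Module.Finite Q Q']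

theorem S17914_main (d : ℕ) (hd : Module.finrank R R' = d) (hd' : Module.finrank Q Q' = d)
    {C : Type u} [CommRing C] [Algebra R C] (γ : PolLaw.MulLaw R R' C d) (hγ : PolLaw.IsGammaD γ)
    (π : C →ₐ[R] R) (hπ : PolLaw.MulLaw.postcomp π γ = PolLaw.normLaw R R' d hd)
    {C' : Type u} [CommRing C'] [Algebra R C'] [Algebra Q C'] [IsScalarTower R Q C']
    (γ' : PolLaw.MulLaw Q Q' C' d)
    (π' : C' →ₐ[Q] Q) (hπ' : PolLaw.MulLaw.postcomp π' γ' = PolLaw.normLaw Q Q' d hd')
    (θ : C →ₐ[R] C')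
    (hθ : ∀ (P : Type u) [CommRing P] [Algebra R P] [Algebra Q P] [IsScalarTower R Q P] (z : P ⊗[R] R'),
      γ'.law.toFun' P (PolLaw.bcAlong (IsScalarTower.toAlgHom R R' Q').toLinearMap P z) =
        PolLaw.bcAlong θ.toLinearMap P (γ.law.toFun' P z)) :
    ∀ c : C, π' (θ c) = algebraMap R Q (π c) := by
  intro c
  set D₁ : C →ₗ[R] Q := (π'.toLinearMap.restrictScalars R) ∘ₗ θ.toLinearMap with hD₁
  set D₂ : C →ₗ[R] Q := (Algebra.linearMap R Q) ∘ₗ π.toLinearMap with hD₂
  suffices h : D₁ = D₂ from LinearMap.congr_fun h c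
  have htop : coeffSpan γ.law = ⊤ := coeffSpan_eq_top γ hγ
  refine LinearMap.ext_on htop ?_
  rintro _ ⟨S, _, _, p, ℓ, rfl⟩
  let _ : CommRing S := commRingOfAlg R S
  -- the key identity over P = Q ⊗ S
  have key : ∀ (P : Type u) [CommRing P] [Algebra R P] [Algebra Q P] [IsScalarTower R Q P]
      (z : P ⊗[R] R'),
      PolLaw.bcAlong (Q := Q) D₁ P (γ.law.toFun' P z) =
        PolLaw.bcAlong (Q := Q) D₂ P (γ.law.toFun' P z) := by
    intro P _ _ _ _ z
    have e1 : PolLaw.bcAlong D₁ P (γ.law.toFun' P z) =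
        Algebra.norm P z ⊗ₜ[Q] (1 : Q) := by
      rw [hD₁, ← lTensor_bcAlong, ← hθ P z]
      have h1 := congrArg (fun L : PolLaw.MulLaw Q Q' Q d => L.law.toFun' P
        (PolLaw.bcAlong (IsScalarTower.toAlgHom R R' Q').toLinearMap P z)) hπ'
      beta_reduce at h1
      rw [PolLaw.normLaw_apply, norm_bcAlong] at h1
      exact h1
    have e2 : PolLaw.bcAlong D₂ P (γ.law.toFun' P z) =
        Algebra.norm P z ⊗ₜ[Q] (1 : Q) := by
      rw [hD₂, ← bcAlong_lTensor]
      have h1 := congrArg (fun L : PolLaw.MulLaw R R' R d => L.law.toFun' P z) hπ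
      beta_reduce at h1
      rw [PolLaw.normLaw_apply] at h1
      have h2 : π.toLinearMap.lTensor P (γ.law.toFun' P z) = Algebra.norm P z ⊗ₜ[R] (1 : R) := h1
      rw [h2, bcAlong_tmul]
      simp
    rw [e1, e2]
  have hc := PolynomialLaw.isCompat_apply' (f := γ.law)
    (Algebra.TensorProduct.includeRight : S →ₐ[R] Q ⊗[R] S) p
  have h3 := key (Q ⊗[R] S)
    ((Algebra.TensorProduct.includeRight : S →ₐ[R] Q ⊗[R] S).toLinearMap.rTensor R' p)
  rw [← hc] at h3
  have h4 := congrArg (Lam S ℓ) h3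
  rw [Lam_bcAlong, Lam_bcAlong] at h4
  exact h4

end main

end Groth.Agent.H9.NBC
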