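import Mathlib
import Groth.Agent.Lib.Helper9.Misc.SO5
import Groth.Agent.Lib.Helper8.Hens.SmoothReduced

/-! The naive special orthogonal group of a regular form over `ℤ`: the Dickson idempotent from
smoothness of the orthogonal group; reducedness and non-flatness of `det = 1` (helper9). -/

set_option autoImplicit false

open Matrix TensorProduct MvPolynomial Groth.Agent.H9.SG Groth.Agent.H9.SO

namespace Groth.Agent.H9.NF

universe u

section Ring

/-- `A/pA` is reduced for a smooth `R`-algebra `A` when `R/p` is reduced -/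
theorem mem_span_of_pow {R : Type*} [CommRing R] (A : Type*) [CommRing A] [Algebra R A]
    [Algebra.Smooth R A] (p : R) [IsReduced (R ⧸ Ideal.span {p})] (x : A) (k : ℕ)
    (h : x ^ k ∈ Ideal.span {algebraMap R A p}) : x ∈ Ideal.span {algebraMap R A p} := by
  let I : Ideal R := Ideal.span {p}
  haveI : IsReduced ((R ⧸ I) ⊗[R] A) :=
    Groth.Agent.H8.Hens.isReduced_of_smooth (R ⧸ I) ((R ⧸ I) ⊗[R] A)
  let ι : A →ₐ[R] (R ⧸ I) ⊗[R] A := Algebra.TensorProduct.includeRight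
  have h2 : ι (algebraMap R A p) = 0 := by
    show (1 : R ⧸ I) ⊗ₜ[R] (algebraMap R A p) = 0
    have e1 : algebraMap R A p = p • (1 : A) := by
      rw [Algebra.smul_def, mul_one]
    have e2 : p • (1 : R ⧸ I) = 0 := by
      rw [Algebra.smul_def, mul_one]
      exact Ideal.Quotient.eq_zero_iff_mem.mpr (Ideal.mem_span_singleton_self p)
    rw [e1, TensorProduct.tmul_smul, TensorProduct.smul_tmul', e2, TensorProduct.zero_tmul]
  obtain ⟨z, hz⟩ := Ideal.mem_span_singleton'.mp h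
  have h3 : ι x ^ k = 0 := by rw [← map_pow, ← hz, map_mul, h2, mul_zero]
  have h4 : ι x = 0 := IsReduced.eq_zero _ ⟨k, h3⟩
  have h5 : (Submodule.Quotient.mk x : A ⧸ (I • (⊤ : Submodule R A))) = 0 := by
    rw [← TensorProduct.quotTensorEquivQuotSMul_mk_one_tmul (M := A) I x]
    have : ((1 : R ⧸ I) ⊗ₜ[R] x) = 0 := h4
    rw [this, map_zero]
  have h6 : x ∈ I • (⊤ : Submodule R A) := (Submodule.Quotient.mk_eq_zero _).mp h5
  refine Submodule.smul_induction_on h6 ?_ ?_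
  · intro r hr n _
    obtain ⟨t, rfl⟩ := Ideal.mem_span_singleton'.mp hr
    rw [Ideal.mem_span_singleton']
    refine ⟨t • n, ?_⟩
    rw [Algebra.smul_def, Algebra.smul_def, map_mul]
    ring
  · intro a b ha hb
    exact Ideal.add_mem _ ha hb

theorem eq_zero_of_int_mul {B : Type*} [CommRing B] [Algebra ℤ B]
    (hflat : @Module.Flat ℤ B _ _ Algebra.toModule) (k : ℤ) (hk : k ≠ 0) (x : B)
    (h : algebraMap ℤ B k * x = 0) : x = 0 := by
  have hreg : @IsSMulRegular ℤ B Algebra.toSMul k :=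
    @Module.Flat.isSMulRegular_of_nonZeroDivisors ℤ B _ _ Algebra.toModule k
      (mem_nonZeroDivisors_of_ne_zero hk) hflat
  apply hreg
  simp only []
  rw [Algebra.smul_def, Algebra.smul_def, h, mul_zero]

variable (A : Type u) [CommRing A] [Algebra ℤ A] [Algebra.Smooth ℤ A]

theorem mem_span_two_of_pow (x : A) (k : ℕ) (h : x ^ k ∈ Ideal.span {(2 : A)}) :
    x ∈ Ideal.span {(2 : A)} := by
  haveI hI : (Ideal.span {(2 : ℤ)}).IsPrime :=
    (Ideal.span_singleton_prime (by norm_num)).mpr Int.prime_two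
  haveI : IsReduced (ℤ ⧸ Ideal.span {(2 : ℤ)}) := inferInstance
  have e : algebraMap ℤ A 2 = 2 := by simp
  have := mem_span_of_pow (R := ℤ) A (2 : ℤ) x k (by rw [e]; exact h)
  rwa [e] at this

/-- the Dickson idempotent: a square root of one in a smooth `ℤ`-algebra is `1 - 2D` with `D`
idempotent -/
theorem exists_idem (d : A) (hd : d * d = 1) : ∃ D : A, D * D = D ∧ d = 1 - 2 * D := by
  have h1 : (d - 1) ^ 2 ∈ Ideal.span {(2 : A)} := by
    rw [Ideal.mem_span_singleton']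
    exact ⟨1 - d, by linear_combination -hd⟩
  have h2 := mem_span_two_of_pow A (d - 1) 2 h1
  obtain ⟨y, hy⟩ := Ideal.mem_span_singleton'.mp h2
  have hdy : d = 1 + 2 * y := by linear_combination -hy
  refine ⟨-y, ?_, by linear_combination -hy⟩
  have h3 : algebraMap ℤ A 4 * (y * y + y) = 0 := by
    have : algebraMap ℤ A 4 = 4 := by simp
    rw [this]
    rw [hdy] at hd
    linear_combination hd
  have h4 : y * y + y = 0 :=
    eq_zero_of_int_mul (inferInstance : @Module.Flat ℤ A _ _ Algebra.toModule) 4 (by norm_num) _ h3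
  linear_combination h4

/-- the quotient by `d - 1` is reduced -/
theorem isReduced_quot (d : A) (hd : d * d = 1) : IsReduced (A ⧸ Ideal.span {d - 1}) := by
  haveI : IsReduced A := Groth.Agent.H8.Hens.isReduced_of_smooth ℤ A
  rw [← Ideal.isRadical_iff_quotient_reduced]
  obtain ⟨D, hD, hdD⟩ := exists_idem A d hd
  intro x hx
  obtain ⟨k, hk⟩ := Ideal.mem_radical_iff.mp hx
  obtain ⟨z, hz⟩ := Ideal.mem_span_singleton'.mp hk
  -- `x (1 - D)` is nilpotent
  have h1 : (x * (1 - D)) ^ (k + 1) = 0 := by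
    have e : x ^ k * (1 - D) = 0 := by
      rw [← hz, hdD]
      linear_combination (2 * z) * hD
    rw [mul_pow, pow_succ, pow_succ]
    calc x ^ k * x * ((1 - D) ^ k * (1 - D)) = (x ^ k * (1 - D)) * (x * (1 - D) ^ k) := by ring
      _ = 0 := by rw [e, zero_mul]
  have h2 : x * (1 - D) = 0 := IsReduced.eq_zero _ ⟨k + 1, h1⟩
  have h3 : x ^ k ∈ Ideal.span {(2 : A)} := by
    rw [Ideal.mem_span_singleton']
    exact ⟨-(z * D), by rw [← hz, hdD]; ring⟩
  have h4 := mem_span_two_of_pow A x k h3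
  obtain ⟨y, hy⟩ := Ideal.mem_span_singleton'.mp h4
  rw [Ideal.mem_span_singleton']
  refine ⟨-y, ?_⟩
  rw [hdD]
  linear_combination D * hy - h2

end Ring

section Main

variable {n : ℕ}

theorem gr_int (c : Matrix (Fin n) (Fin n) ℤ) : gr ℤ c = c := by
  ext i j
  rw [gr_apply]
  rfl

theorem main (c : Matrix (Fin n) (Fin n) ℤ) (hc : IsUnit (c + cᵀ).det)
    (U V : Matrix (Fin n) (Fin n) ℤ) (hUV : U * V = 1) (hVU : V * U = 1)
    (halt : IsAltMat (defect (gr ℤ c) U)) (hdet : U.det = -1) :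
    IsReduced (A0 c (detRel ℤ n)) ∧ ¬ (algebraMap ℤ (A0 c (detRel ℤ n))).Flat := by
  haveI hsm : Algebra.Smooth ℤ (A0 c ∅) := smooth_A0 c hc
  set d : A0 c ∅ := (Xb c ∅).det with hd_def
  have hd : d * d = 1 := by
    have hc' : IsUnit (gr (A0 c ∅) c + (gr (A0 c ∅) c)ᵀ).det := by
      have e : gr (A0 c ∅) c + (gr (A0 c ∅) c)ᵀ = (algebraMap ℤ (A0 c ∅)).mapMatrix (c + cᵀ) := by
        ext i j
        simp [gr_apply]
      rw [e, ← RingHom.map_det]
      exact hc.map _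
    have := det_sq_of_regular (gr (A0 c ∅) c) (Xb c ∅) hc' (isAlt_Xb c ∅)
    rw [← this, pow_two]
  -- the maps
  obtain ⟨φ₁, hφ₁, -⟩ := exists_hom c ∅ (Xb c (detRel ℤ n)) (Yb c (detRel ℤ n))
    (Xb_mul_Yb c _) (Yb_mul_Xb c _) (isAlt_Xb c _) (fun p hp => absurd hp (Set.notMem_empty p))
  have hφ₁' : ∀ i j, φ₁ (Xb c ∅ i j) = Xb c (detRel ℤ n) i j := fun i j =>
    congrFun (congrFun hφ₁ i) j
  have hφ₁d : φ₁ d = 1 := by
    have e : φ₁ d = ((φ₁ : A0 c ∅ →+* A0 c (detRel ℤ n)).mapMatrix (Xb c ∅)).det :=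
      RingHom.map_det (φ₁ : A0 c ∅ →+* A0 c (detRel ℤ n)) (Xb c ∅)
    rw [e, hφ₁]
    exact det_Xb c
  let J : Ideal (A0 c ∅) := Ideal.span {d - 1}
  let mkB : A0 c ∅ →ₐ[ℤ] (A0 c ∅ ⧸ J) := Ideal.Quotient.mkₐ ℤ J
  have hmkd : mkB d = 1 := by
    have : mkB (d - 1) = 0 := Ideal.Quotient.eq_zero_iff_mem.mpr (Ideal.mem_span_singleton_self _)
    rw [map_sub, map_one, sub_eq_zero] at this
    exact this
  obtain ⟨φ₂, hφ₂, -⟩ := exists_hom c (detRel ℤ n)
    ((mkB : A0 c ∅ →+* (A0 c ∅ ⧸ J)).mapMatrix (Xb c ∅))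
    ((mkB : A0 c ∅ →+* (A0 c ∅ ⧸ J)).mapMatrix (Yb c ∅))
    (by rw [← map_mul, Xb_mul_Yb, map_one]) (by rw [← map_mul, Yb_mul_Xb, map_one])
    (isAlt_of_algHom mkB c (isAlt_Xb c ∅))
    (hextra_of_det _ _ (by rw [← RingHom.map_det]; exact hmkd))
  have hφ₂' : ∀ i j, φ₂ (Xb c (detRel ℤ n) i j) = mkB (Xb c ∅ i j) := fun i j =>
    congrFun (congrFun hφ₂ i) j
  have h21 : φ₂.comp φ₁ = mkB := by
    apply hom_ext_Xb
    ext i j
    show φ₂ (φ₁ (Xb c ∅ i j)) = mkB (Xb c ∅ i j)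
    rw [hφ₁', hφ₂']
  let φb : (A0 c ∅ ⧸ J) →ₐ[ℤ] A0 c (detRel ℤ n) := Ideal.Quotient.liftₐ J φ₁ (by
    intro a ha
    obtain ⟨t, rfl⟩ := Ideal.mem_span_singleton'.mp ha
    rw [map_mul, map_sub, hφ₁d, map_one, sub_self, mul_zero])
  have hφb : ∀ a, φb (mkB a) = φ₁ a := fun a => rfl
  have h12 : φb.comp φ₂ = AlgHom.id ℤ _ := by
    apply hom_ext_Xb
    ext i j
    show φb (φ₂ (Xb c (detRel ℤ n) i j)) = Xb c (detRel ℤ n) i j
    rw [hφ₂', hφb, hφ₁']
  have hinj : Function.Injective φ₂ := by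
    intro a b hab
    have := congrArg φb hab
    have e : ∀ a, φb (φ₂ a) = a := fun a => AlgHom.congr_fun h12 a
    rwa [e, e] at this
  haveI hredB : IsReduced (A0 c ∅ ⧸ J) := isReduced_quot (A0 c ∅) d hd
  refine ⟨isReduced_of_injective φ₂ hinj, ?_⟩
  intro hflat0
  have hflat : @Module.Flat ℤ (A0 c (detRel ℤ n)) _ _ Algebra.toModule :=
    RingHom.flat_algebraMap_iff.mp hflat0
  obtain ⟨D, hD, hdD⟩ := exists_idem (A0 c ∅) d hd
  -- the integral point
  obtain ⟨ψ, hψ, -⟩ := exists_hom c ∅ U V hUV hVU halt (fun p hp => absurd hp (Set.notMem_empty p))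
  have hψd : ψ d = -1 := by
    have e : ψ d = ((ψ : A0 c ∅ →+* ℤ).mapMatrix (Xb c ∅)).det :=
      RingHom.map_det (ψ : A0 c ∅ →+* ℤ) (Xb c ∅)
    rw [e, hψ, hdet]
  have hψD : ψ D = 1 := by
    have := congrArg ψ hdD
    rw [hψd, map_sub, map_one, map_mul] at this
    have h2 : ψ 2 = 2 := map_ofNat ψ 2
    rw [h2] at this
    omega
  -- torsion
  have ht : algebraMap ℤ (A0 c (detRel ℤ n)) 2 * φ₁ D = 0 := by
    have : algebraMap ℤ (A0 c (detRel ℤ n)) 2 = φ₁ 2 := by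
      rw [map_ofNat φ₁ 2]; exact map_ofNat _ 2
    rw [this, ← map_mul]
    have e : 2 * D = 1 - d := by rw [hdD]; ring
    rw [e, map_sub, map_one, hφ₁d, sub_self]
  have hφD : φ₁ D = 0 := eq_zero_of_int_mul hflat 2 (by norm_num) _ ht
  have hDJ : D ∈ J := by
    have : mkB D = 0 := by rw [← h21]; show φ₂ (φ₁ D) = 0; rw [hφD, map_zero]
    exact Ideal.Quotient.eq_zero_iff_mem.mp this
  obtain ⟨y, hy⟩ := Ideal.mem_span_singleton'.mp hDJ
  have := congrArg ψ hy
  rw [map_mul, map_sub, map_one, hψd, hψD] at this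
  omega

end Main

end Groth.Agent.H9.NF
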