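import Mathlib
import Groth.Agent.Lib.Helper9.Misc.NF1

/-! The standard split form of even rank: polar Gram matrix, a reflection; the naive special
orthogonal group over `ℤ` is reduced and not flat (helper9). -/

set_option autoImplicit false

open Matrix TensorProduct MvPolynomial CategoryTheory AlgebraicGeometry
open Groth.Agent.H9.SG Groth.Agent.H9.SO

namespace Groth.Agent.H9.NF

universe u

section Split

variable (R : Type u) [CommRing R] (m : ℕ)

/-- the even index `2k` -/
def ev (k : Fin m) : Fin (2 * m) := ⟨2 * k.val, by have := k.isLt; omega⟩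

/-- the odd index `2k+1` -/
def od (k : Fin m) : Fin (2 * m) := ⟨2 * k.val + 1, by have := k.isLt; omega⟩

/-- the involution `2k ↔ 2k+1` -/
def tw (i : Fin (2 * m)) : Fin (2 * m) :=
  ⟨if i.val % 2 = 0 then i.val + 1 else i.val - 1, by have := i.isLt; split_ifs <;> omega⟩

theorem tw_tw (i : Fin (2 * m)) : tw m (tw m i) = i := by
  apply Fin.ext
  simp only [tw]
  split_ifs <;> omega

theorem splitForm_apply (v : Fin (2 * m) → R) :
    QuadGrp.splitForm R (2 * m) v = ∑ k : Fin m, v (ev m k) * v (od m k) := by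
  unfold QuadGrp.splitForm
  have h0 : 2 * m % 2 = 0 := Nat.mul_mod_right 2 m
  have h1 : ¬ (2 * m % 2 = 1) := by omega
  rw [dif_neg h1, add_zero, QuadraticMap.sum_apply]
  have hdiv : 2 * m / 2 = m := Nat.mul_div_cancel_left m (by norm_num)
  refine Fintype.sum_equiv (finCongr hdiv) _ _ (fun i => ?_)
  simp only [QuadraticMap.linMulLin_apply, LinearMap.proj_apply]
  congr 2 <;> (apply Fin.ext; simp [ev, od, h0])

theorem polar_split (x y : Fin (2 * m) → R) :
    QuadraticMap.polar (QuadGrp.splitForm R (2 * m)) x y =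
      ∑ k : Fin m, (x (ev m k) * y (od m k) + y (ev m k) * x (od m k)) := by
  rw [QuadraticMap.polar, splitForm_apply, splitForm_apply, splitForm_apply,
    ← Finset.sum_sub_distrib, ← Finset.sum_sub_distrib]
  refine Finset.sum_congr rfl (fun k _ => ?_)
  simp only [Pi.add_apply]
  ring

theorem polar_single (i j : Fin (2 * m)) :
    QuadraticMap.polar (QuadGrp.splitForm R (2 * m)) (Pi.single i 1) (Pi.single j 1) =
      if j = tw m i then 1 else 0 := by
  rw [polar_split]
  simp only [Pi.single_apply]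
  have hk : i.val / 2 < m := by have := i.isLt; omega
  rw [Finset.sum_eq_single (⟨i.val / 2, hk⟩ : Fin m)]
  · rcases Nat.mod_two_eq_zero_or_one i.val with hi | hi
    · have h1 : ev m ⟨i.val / 2, hk⟩ = i := Fin.ext (by simp only [ev]; omega)
      have h2 : od m ⟨i.val / 2, hk⟩ ≠ i := fun h => by
        have := congrArg Fin.val h
        simp only [od] at this
        omega
      have h3 : tw m i = od m ⟨i.val / 2, hk⟩ := Fin.ext (by
        simp only [tw, od, hi, if_true]; omega)
      rw [h3, if_pos h1, if_neg h2, mul_zero, add_zero, one_mul]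
      exact if_congr eq_comm rfl rfl
    · have h1 : od m ⟨i.val / 2, hk⟩ = i := Fin.ext (by simp only [od]; omega)
      have h2 : ev m ⟨i.val / 2, hk⟩ ≠ i := fun h => by
        have := congrArg Fin.val h
        simp only [ev] at this
        omega
      have h3 : tw m i = ev m ⟨i.val / 2, hk⟩ := Fin.ext (by
        have hne : ¬ (i.val % 2 = 0) := by omega
        simp only [tw, ev, hne, if_false]; omega)
      rw [h3, if_pos h1, if_neg h2, zero_mul, zero_add, mul_one]
      exact if_congr eq_comm rfl rfl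
  · intro k _ hk'
    have h1 : ev m k ≠ i := fun h => hk' (Fin.ext (by
      have := congrArg Fin.val h
      simp only [ev] at this
      show k.val = i.val / 2
      omega))
    have h2 : od m k ≠ i := fun h => hk' (Fin.ext (by
      have := congrArg Fin.val h
      simp only [od] at this
      show k.val = i.val / 2
      omega))
    rw [if_neg h1, if_neg h2, zero_mul, mul_zero, add_zero]
  · intro h; exact absurd (Finset.mem_univ _) h

theorem gram_mul_gram :
    Groth.Agent.H9.QG.gram (Pi.basisFun R (Fin (2 * m))) (QuadGrp.splitForm R (2 * m)) *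
      Groth.Agent.H9.QG.gram (Pi.basisFun R (Fin (2 * m))) (QuadGrp.splitForm R (2 * m)) = 1 := by
  ext i k
  rw [Matrix.mul_apply]
  simp only [Groth.Agent.H9.QG.gram, Matrix.of_apply, Pi.basisFun_apply, polar_single]
  rw [Finset.sum_eq_single (tw m i)]
  · rw [if_pos rfl, one_mul, tw_tw, Matrix.one_apply]
    exact if_congr eq_comm rfl rfl
  · intro j _ hj
    rw [if_neg hj, zero_mul]
  · intro h; exact absurd (Finset.mem_univ _) h

theorem isUnit_det_cQ :
    IsUnit (cQ (QuadGrp.splitForm R (2 * m)) + (cQ (QuadGrp.splitForm R (2 * m)))ᵀ).det := by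
  rw [cQ_add_transpose]
  exact Matrix.isUnit_det_of_right_inverse (gram_mul_gram R m)

end Split

section Refl

variable (m : ℕ) (hm : 1 ≤ m)

/-- the transposition of the first two coordinates -/
def sw : Equiv.Perm (Fin (2 * m)) := Equiv.swap ⟨0, by omega⟩ ⟨1, by omega⟩

theorem permMatrix_sq : (sw m hm).permMatrix ℤ * (sw m hm).permMatrix ℤ = 1 := by
  rw [← Matrix.permMatrix_mul, sw, Equiv.swap_mul_self, Matrix.permMatrix_one]

/-- the reflection exchanging the first two coordinates -/
noncomputable def rho : (Fin (2 * m) → ℤ) ≃ₗ[ℤ] (Fin (2 * m) → ℤ) :=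
  LinearEquiv.ofLinear (Matrix.toLin' ((sw m hm).permMatrix ℤ))
    (Matrix.toLin' ((sw m hm).permMatrix ℤ))
    (by rw [← Matrix.toLin'_mul, permMatrix_sq, Matrix.toLin'_one])
    (by rw [← Matrix.toLin'_mul, permMatrix_sq, Matrix.toLin'_one])

theorem rho_apply (v : Fin (2 * m) → ℤ) : rho m hm v = v ∘ (sw m hm) := by
  show Matrix.toLin' ((sw m hm).permMatrix ℤ) v = _
  rw [Matrix.toLin'_apply, Matrix.permMatrix_mulVec]

theorem det_rho : LinearMap.det ((rho m hm : (Fin (2 * m) → ℤ) ≃ₗ[ℤ] (Fin (2 * m) → ℤ)) :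
    (Fin (2 * m) → ℤ) →ₗ[ℤ] (Fin (2 * m) → ℤ)) = -1 := by
  show LinearMap.det (Matrix.toLin' ((sw m hm).permMatrix ℤ)) = -1
  rw [LinearMap.det_toLin', Matrix.det_permutation, sw, Equiv.Perm.sign_swap]
  · simp
  · intro h
    have := congrArg Fin.val h
    simp at this

theorem rho_mem : rho m hm ∈ QuadGrp.O (QuadGrp.splitForm ℤ (2 * m)) := by
  rw [QuadGrp.mem_O]
  intro v
  rw [rho_apply, splitForm_apply, splitForm_apply]
  refine Finset.sum_congr rfl (fun k _ => ?_)
  simp only [Function.comp_apply]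
  by_cases hk : k.val = 0
  · have h1 : ev m k = ⟨0, by omega⟩ := Fin.ext (by simp only [ev]; omega)
    have h2 : od m k = ⟨1, by omega⟩ := Fin.ext (by simp only [od]; omega)
    rw [h1, h2, sw, Equiv.swap_apply_left, Equiv.swap_apply_right, mul_comm]
  · have h1 : ev m k ≠ ⟨0, by omega⟩ := fun h => by
      have := congrArg Fin.val h; simp only [ev] at this; omega
    have h1' : ev m k ≠ ⟨1, by omega⟩ := fun h => by
      have := congrArg Fin.val h; simp only [ev] at this; omega
    have h2 : od m k ≠ ⟨0, by omega⟩ := fun h => by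
      have := congrArg Fin.val h; simp only [od] at this; omega
    have h2' : od m k ≠ ⟨1, by omega⟩ := fun h => by
      have := congrArg Fin.val h; simp only [od] at this; omega
    rw [sw, Equiv.swap_apply_of_ne_of_ne h1 h1', Equiv.swap_apply_of_ne_of_ne h2 h2']

end Refl

section Final

theorem ring_main (m : ℕ) (hm : 1 ≤ m) :
    IsReduced (A0 (cQ (QuadGrp.splitForm ℤ (2 * m))) (detRel ℤ (2 * m))) ∧
      ¬ (algebraMap ℤ (A0 (cQ (QuadGrp.splitForm ℤ (2 * m))) (detRel ℤ (2 * m)))).Flat := by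
  set Q := QuadGrp.splitForm ℤ (2 * m) with hQ
  let g := (rho m hm).baseChange ℤ ℤ (Fin (2 * m) → ℤ) (Fin (2 * m) → ℤ)
  have hg : g ∈ QuadGrp.O (QuadGrp.baseChangeForm ℤ Q) :=
    Groth.Agent.H9.QG.baseChange_mem_O ℤ Q (rho m hm) (rho_mem m hm)
  have halt : IsAltMat (defect (gr ℤ (cQ Q))
      (LinearMap.toMatrix (bas ℤ (2 * m) ℤ) (bas ℤ (2 * m) ℤ) g.toLinearMap)) :=
    (isometry_iff_isAlt Q ℤ g.toLinearMap).mp (fun v => (QuadGrp.mem_O _ g).mp hg v)
  have hdet : (LinearMap.toMatrix (bas ℤ (2 * m) ℤ) (bas ℤ (2 * m) ℤ) g.toLinearMap).det = -1 := by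
    rw [LinearMap.det_toMatrix]
    have e1 : LinearMap.det g.toLinearMap = ((LinearEquiv.det g : ℤˣ) : ℤ) :=
      (LinearEquiv.coe_det g).symm
    rw [e1, LinearEquiv.det_baseChange]
    show algebraMap ℤ ℤ ((LinearEquiv.det (rho m hm) : ℤˣ) : ℤ) = -1
    rw [LinearEquiv.coe_det, det_rho]
    rfl
  exact main (cQ Q) (isUnit_det_cQ ℤ m) _ _ (toMatrix_mul_symm ℤ g) (toMatrix_symm_mul ℤ g)
    halt hdet

open MonObj in
theorem scheme_main (m : ℕ) (hm : 1 ≤ m)
    (G : Over (Spec (CommRingCat.of ℤ))) [GrpObj G]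
    (D : QuadGrp.SOrth'Rep (QuadGrp.splitForm ℤ (2 * m)) G) :
    AlgebraicGeometry.IsReduced G.left ∧ ¬ AlgebraicGeometry.Flat G.hom := by
  obtain ⟨hred, hnf⟩ := ring_main m hm
  set Q := QuadGrp.splitForm ℤ (2 * m) with hQ
  haveI hiso := isIso_universal_point D _ (g0' Q) (isUniversal_sorth' Q)
  have hw := universal_point_w D _ (g0' Q)
  constructor
  · haveI : AlgebraicGeometry.IsReduced
        (QuadGrp.specOver ℤ (A0 (cQ Q) (detRel ℤ (2 * m)))).left := by
      show AlgebraicGeometry.IsReduced (Spec (CommRingCat.of (A0 (cQ Q) (detRel ℤ (2 * m)))))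
      exact (affine_isReduced_iff _).mpr hred
    exact isReduced_of_isOpenImmersion (CategoryTheory.inv ((D.pts _).symm (g0' Q)).left)
  · intro hflat
    apply hnf
    have h1 : AlgebraicGeometry.Flat
        (Spec.map (CommRingCat.ofHom (algebraMap ℤ (A0 (cQ Q) (detRel ℤ (2 * m)))))) := by
      rw [← hw]
      exact (MorphismProperty.cancel_left_of_respectsIso @AlgebraicGeometry.Flat
        ((D.pts (A0 (cQ Q) (detRel ℤ (2 * m)))).symm (g0' Q)).left G.hom).mpr hflat
    exact AlgebraicGeometry.Flat.SpecMap_iff.mp h1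

end Final

end Groth.Agent.H9.NF
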