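import Mathlib
import Groth.Agent.Lib.Helper1.ThickAff6

/-! Helper9: S14049: a morphism is a closed immersion if its restriction to the first order
neighbourhood `V(I^2)` of a nilpotent ideal is. -/

set_option linter.style.haveILetI false
set_option linter.unusedSectionVars false
set_option linter.unusedVariables false

universe u
open CategoryTheory Limits AlgebraicGeometry TopologicalSpace Opposite

namespace Groth.Agent.H9.NIL

section Alg
variable {B : Type*} [CommRing B] (C : Subring B) (J : Ideal B)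

/-- approximation step: an element of `J^k` is in `C ∩ J^k` modulo `J^(k+1)`. -/
theorem exists_sub_mem_pow_succ (h : ∀ b : B, ∃ c ∈ C, b - c ∈ J ^ 2) (k : ℕ) (hk : 1 ≤ k) :
    ∀ y ∈ J ^ k, ∃ c ∈ C, c ∈ J ^ k ∧ y - c ∈ J ^ (k + 1) := by
  induction k, hk using Nat.le_induction with
  | base =>
    intro y hy
    obtain ⟨c, hc, hyc⟩ := h y
    rw [pow_one] at hy
    refine ⟨c, hc, ?_, hyc⟩
    rw [pow_one]
    have : c = y - (y - c) := by ring
    rw [this]
    exact J.sub_mem hy (Ideal.pow_le_self (by norm_num) hyc)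
  | succ k hk ih =>
    intro y hy
    rw [pow_succ] at hy
    refine Submodule.mul_induction_on hy ?_ ?_
    · intro u hu v hv
      obtain ⟨cu, hcu, hcuJ, hu'⟩ := ih u hu
      obtain ⟨cv, hcv, hv'⟩ := h v
      have hcvJ : cv ∈ J := by
        have : cv = v - (v - cv) := by ring
        rw [this]
        exact J.sub_mem hv (Ideal.pow_le_self (by norm_num) hv')
      refine ⟨cu * cv, C.mul_mem hcu hcv, ?_, ?_⟩
      · rw [pow_succ]; exact Ideal.mul_mem_mul hcuJ hcvJ
      · have e : u * v - cu * cv = (u - cu) * v + cu * (v - cv) := by ring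
        rw [e]
        refine Ideal.add_mem _ ?_ ?_
        · have : (u - cu) * v ∈ J ^ (k + 1) * J := Ideal.mul_mem_mul hu' hv
          rwa [← pow_succ] at this
        · have : cu * (v - cv) ∈ J ^ k * J ^ 2 := Ideal.mul_mem_mul hcuJ hv'
          rwa [← pow_add] at this
    · intro y₁ y₂ ⟨c₁, hc₁, hc₁J, h₁⟩ ⟨c₂, hc₂, hc₂J, h₂⟩
      refine ⟨c₁ + c₂, C.add_mem hc₁ hc₂, Ideal.add_mem _ hc₁J hc₂J, ?_⟩
      have e : y₁ + y₂ - (c₁ + c₂) = (y₁ - c₁) + (y₂ - c₂) := by ring
      rw [e]
      exact Ideal.add_mem _ h₁ h₂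

theorem exists_sub_mem_pow (h : ∀ b : B, ∃ c ∈ C, b - c ∈ J ^ 2) (n : ℕ) :
    ∀ b : B, ∃ c ∈ C, b - c ∈ J ^ (n + 2) := by
  induction n with
  | zero => simpa using h
  | succ n ih =>
    intro b
    obtain ⟨c, hc, hbc⟩ := ih b
    obtain ⟨c', hc', -, h'⟩ := exists_sub_mem_pow_succ C J h (n + 2) (by omega) (b - c) hbc
    refine ⟨c + c', C.add_mem hc hc', ?_⟩
    have e : b - (c + c') = b - c - c' := by ring
    rw [e]
    exact h'

/-- a subring which generates modulo the square of a nilpotent ideal is everything. -/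
theorem subring_eq_top_of_nilpotent (h : ∀ b : B, ∃ c ∈ C, b - c ∈ J ^ 2)
    (hJ : ∃ n : ℕ, J ^ n = ⊥) : ∀ b : B, b ∈ C := by
  obtain ⟨n, hn⟩ := hJ
  intro b
  obtain ⟨c, hc, hbc⟩ := exists_sub_mem_pow C J h n b
  have h0 : J ^ (n + 2) = ⊥ := by rw [pow_add, hn, Ideal.bot_mul]
  rw [h0, Ideal.mem_bot, sub_eq_zero] at hbc
  rw [hbc]; exact hc

end Alg


section Sch
variable {X Y : Scheme.{u}}

theorem surjective_subschemeι_of_isNilpotent (I : X.IdealSheafData) (hI : IsNilpotent I) :
    Function.Surjective (I ^ 2).subschemeι := by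
  obtain ⟨n, hn⟩ := hI
  intro x
  have hsupp : (I ^ 2).support = I.support := Scheme.IdealSheafData.support_pow I 2 (by norm_num)
  have hx : x ∈ I.support := by
    rcases Nat.eq_zero_or_pos n with h0 | hpos
    · -- `⊤ = ⊥`: the scheme is empty
      exfalso
      rw [h0, pow_zero] at hn
      have h1 : (⊤ : X.IdealSheafData).support = (⊥ : X.IdealSheafData).support := by
        change (1 : X.IdealSheafData).support = (0 : X.IdealSheafData).support
        rw [hn]
      rw [Scheme.IdealSheafData.support_top, Scheme.IdealSheafData.support_bot] at h1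
      have : x ∈ ((⊤ : Closeds X) : Set X) := trivial
      rw [← h1] at this
      exact this
    · have h1 : (I ^ n).support = I.support := Scheme.IdealSheafData.support_pow I n (by omega)
      rw [← h1, hn]
      change x ∈ (⊥ : X.IdealSheafData).support
      rw [Scheme.IdealSheafData.support_bot]
      trivial
  have hr : x ∈ Set.range (I ^ 2).subschemeι := by
    rw [Scheme.IdealSheafData.range_subschemeι, hsupp]; exact hx
  exact hr

theorem S14049_main (f : X ⟶ Y) (I : X.IdealSheafData) (hI : IsNilpotent I)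
    (h : IsClosedImmersion ((I ^ 2).subschemeι ≫ f)) : IsClosedImmersion f := by
  have hsurj := surjective_subschemeι_of_isNilpotent I hI
  haveI haff : IsAffineHom f :=
    (Groth.Agent.H1.ThickAff.isAffineHom_iff_of_thickening (I ^ 2).subschemeι (𝟙 Y)
      ((I ^ 2).subschemeι ≫ f) f hsurj (by rw [Category.comp_id])).mp inferInstance
  rw [isClosedImmersion_iff_isAffineHom]
  refine ⟨haff, fun U hU => ?_⟩
  have hV : IsAffineOpen (f ⁻¹ᵁ U) := hU.preimage f
  set V : X.affineOpens := ⟨f ⁻¹ᵁ U, hV⟩ with hVdef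
  have hcomp : Function.Surjective (((I ^ 2).subschemeι ≫ f).app U) :=
    Scheme.Hom.app_surjective _ U hU
  let C : Subring Γ(X, f ⁻¹ᵁ U) := (f.app U).hom.range
  have hC : ∀ b : Γ(X, f ⁻¹ᵁ U), ∃ c ∈ C, b - c ∈ (I.ideal V) ^ 2 := by
    intro b
    obtain ⟨t, ht⟩ := hcomp (((I ^ 2).subschemeι.app (f ⁻¹ᵁ U)).hom b)
    refine ⟨(f.app U).hom t, ⟨t, rfl⟩, ?_⟩
    have hk := (I ^ 2).ker_subschemeι_app V
    rw [Scheme.IdealSheafData.ideal_pow] at hk
    change b - (f.app U).hom t ∈ (I.ideal ^ 2) V at *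
    rw [← hk, RingHom.mem_ker, map_sub, sub_eq_zero]
    rw [← ht]
    rfl
  have hnil : ∃ n : ℕ, (I.ideal V) ^ n = ⊥ := by
    obtain ⟨n, hn⟩ := hI
    refine ⟨n, ?_⟩
    have : (I ^ n).ideal V = ⊥ := by rw [hn]; rfl
    rwa [Scheme.IdealSheafData.ideal_pow] at this
  intro b
  obtain ⟨t, ht⟩ := subring_eq_top_of_nilpotent C (I.ideal V) hC hnil b
  exact ⟨t, ht⟩

end Sch

end Groth.Agent.H9.NIL
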