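import Groth.Prelude.Def_SheafNL
import Mathlib

set_option autoImplicit false
set_option linter.unusedSectionVars false
set_option linter.unusedVariables false

universe u
open CategoryTheory CategoryTheory.Limits Module Algebra Algebra.Extension

namespace Groth.Agent.H9.NLLoc

section abs
variable {R R' S : Type u} [CommRing R] [CommRing R'] [CommRing S] [Algebra R S] [Algebra R' S]
  [Algebra R R'] [IsScalarTower R R' S]
variable {P : Algebra.Extension.{u} R S} {P' : Algebra.Extension.{u} R' S} (f : P.Hom P')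

theorem sig (x : P.Ring) : algebraMap P'.Ring S (f.toRingHom x) = algebraMap P.Ring S x :=
  (f.algebraMap_toRingHom x).trans rfl

theorem mem_ker_map (x : P.Ring) (hx : x ∈ P.ker) : f.toRingHom x ∈ P'.ker := by
  rw [RingHom.mem_ker, sig f, RingHom.mem_ker.mp hx]

variable (N : Submonoid P.Ring)
  (ha : ∀ q : P'.Ring, ∃ w ∈ N, ∃ p : P.Ring, f.toRingHom p = f.toRingHom w * q)
  (hb : ∀ p p' : P.Ring, f.toRingHom p = f.toRingHom p' → ∃ w ∈ N, w * p = w * p')
  (hN : ∀ w ∈ N, IsUnit (algebraMap P.Ring S w))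

include ha in
theorem lift1 (q : P'.Ring) (hq : q ∈ P'.ker) :
    ∃ w ∈ N, ∃ p ∈ P.ker, f.toRingHom p = f.toRingHom w * q := by
  obtain ⟨w, hw, p, hp⟩ := ha q
  refine ⟨w, hw, p, ?_, hp⟩
  rw [RingHom.mem_ker, ← sig f, hp, map_mul, RingHom.mem_ker.mp hq, mul_zero]

include ha in
theorem lift2 (q : P'.Ring) (hq : q ∈ P'.ker ^ 2) :
    ∃ w ∈ N, ∃ p ∈ P.ker ^ 2, f.toRingHom p = f.toRingHom w * q := by
  rw [pow_two] at hq
  refine Submodule.mul_induction_on hq ?_ ?_
  · intro a hA b hB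
    obtain ⟨w₁, hw₁, p₁, hp₁, e₁⟩ := lift1 f N ha a hA
    obtain ⟨w₂, hw₂, p₂, hp₂, e₂⟩ := lift1 f N ha b hB
    refine ⟨w₁ * w₂, N.mul_mem hw₁ hw₂, p₁ * p₂, ?_, ?_⟩
    · rw [pow_two]; exact Ideal.mul_mem_mul hp₁ hp₂
    · rw [map_mul, map_mul, e₁, e₂]; ring
  · rintro x y ⟨w₁, hw₁, p₁, hp₁, e₁⟩ ⟨w₂, hw₂, p₂, hp₂, e₂⟩
    refine ⟨w₁ * w₂, N.mul_mem hw₁ hw₂, w₂ * p₁ + w₁ * p₂, ?_, ?_⟩
    · exact Ideal.add_mem _ (Ideal.mul_mem_left _ _ hp₁) (Ideal.mul_mem_left _ _ hp₂)
    · rw [map_add, map_mul, map_mul, map_mul, e₁, e₂]; ring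

include hN in
theorem exists_inv (w : P.Ring) (hw : w ∈ N) : ∃ v : P.Ring, v * w - 1 ∈ P.ker := by
  obtain ⟨u, hu⟩ := hN w hw
  obtain ⟨v, hv⟩ := P.algebraMap_surjective (↑u⁻¹ : S)
  refine ⟨v, ?_⟩
  rw [RingHom.mem_ker, map_sub, map_mul, map_one, hv, ← hu, Units.inv_mul, sub_self]

include ha hb hN in
theorem cotangent_map_injective : Function.Injective (Cotangent.map f) := by
  rw [injective_iff_map_eq_zero]
  intro x hx
  obtain ⟨⟨p, hp⟩, rfl⟩ := Cotangent.mk_surjective x
  rw [Cotangent.map_mk, Cotangent.mk_eq_zero_iff] at hx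
  change f.toRingHom p ∈ P'.ker ^ 2 at hx
  obtain ⟨w, hw, p₂, hp₂, e⟩ := lift2 f N ha _ hx
  rw [← map_mul] at e
  obtain ⟨w', hw', e'⟩ := hb _ _ e
  obtain ⟨v, hv⟩ := exists_inv N hN (w' * w) (N.mul_mem hw' hw)
  rw [Cotangent.mk_eq_zero_iff]
  change p ∈ P.ker ^ 2
  have h1 : (v * (w' * w) - 1) * p ∈ P.ker ^ 2 := by
    rw [pow_two]; exact Ideal.mul_mem_mul hv hp
  have h2 : v * (w' * p₂) ∈ P.ker ^ 2 := Ideal.mul_mem_left _ _ (Ideal.mul_mem_left _ _ hp₂)
  have h3 : p = v * (w' * p₂) - (v * (w' * w) - 1) * p := by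
    rw [e']; ring
  rw [h3]
  exact Ideal.sub_mem _ h2 h1

include ha hN in
theorem cotangent_map_surjective : Function.Surjective (Cotangent.map f) := by
  intro y
  obtain ⟨⟨q, hq⟩, rfl⟩ := Cotangent.mk_surjective y
  obtain ⟨w, hw, p, hp, e⟩ := lift1 f N ha q hq
  obtain ⟨v, hv⟩ := exists_inv N hN w hw
  refine ⟨Cotangent.mk ⟨v * p, Ideal.mul_mem_left _ _ hp⟩, ?_⟩
  rw [Cotangent.map_mk, Cotangent.mk_eq_mk_iff_sub_mem]
  change f.toRingHom (v * p) - q ∈ P'.ker ^ 2
  have h1 : f.toRingHom (v * p) - q = f.toRingHom (v * w - 1) * q := by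
    rw [map_mul, e, map_sub, map_mul, map_one]; ring
  rw [h1, pow_two]
  exact Ideal.mul_mem_mul (mem_ker_map f _ hv) hq

end abs

theorem bij_of_basis {R M M' ι : Type*} [CommRing R] [AddCommGroup M] [Module R M]
    [AddCommGroup M'] [Module R M'] (b : Basis ι R M) (b' : Basis ι R M') (φ : M →ₗ[R] M')
    (h : ∀ i, φ (b i) = b' i) : Function.Bijective φ := by
  have : φ = (b.equiv b' (Equiv.refl ι)).toLinearMap := b.ext (fun i => by simp [h])
  rw [this]; exact (b.equiv b' (Equiv.refl ι)).bijective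

theorem isIso_ofHom {S : Type u} [CommRing S] {M N : Type u} [AddCommGroup M] [Module S M]
    [AddCommGroup N] [Module S N] (g : M →ₗ[S] N) (hg : Function.Bijective g) :
    IsIso (ModuleCat.ofHom g) := by
  have e := (LinearEquiv.ofBijective g hg).toModuleIso
  have : ModuleCat.ofHom g = (LinearEquiv.ofBijective g hg).toModuleIso.hom :=
    ModuleCat.hom_ext (LinearMap.ext fun x => rfl)
  rw [this]; infer_instance

section iso
variable {R R' S : Type u} [CommRing R] [CommRing R'] [CommRing S] [Algebra R S] [Algebra R' S]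
  [Algebra R R'] [IsScalarTower R R' S]
variable {P : Algebra.Extension.{u} R S} {P' : Algebra.Extension.{u} R' S} (f : P.Hom P')

theorem isIso_map_of_bijective
    (h1 : Function.Bijective (Cotangent.map f)) (h2 : Function.Bijective (CotangentSpace.map f)) :
    IsIso (NLCx.map f) := by
  haveI i1 := isIso_ofHom (Cotangent.map f) h1
  haveI i2 := isIso_ofHom (CotangentSpace.map f) h2
  haveI : ∀ n : ℤ, IsIso ((NLCx.map f).f n) := by
    intro n
    by_cases h0 : n = -1
    · subst h0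
      rw [show (NLCx.map f).f (-1) = _ from HomologicalComplex.mkHomFromDouble_f₀ _ _ _ _ _ _]
      exact @IsIso.comp_isIso _ _ _ _ _ _ _ (Iso.isIso_hom _)
        (@IsIso.comp_isIso _ _ _ _ _ _ _ i1 (Iso.isIso_inv _))
    · by_cases h1' : n = 0
      · subst h1'
        rw [show (NLCx.map f).f 0 = _ from HomologicalComplex.mkHomFromDouble_f₁ _ _ _ _ _ _]
        exact @IsIso.comp_isIso _ _ _ _ _ _ _ (Iso.isIso_hom _)
          (@IsIso.comp_isIso _ _ _ _ _ _ _ i2 (Iso.isIso_inv _))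
      · have hX : IsZero ((NLCx.cx P).X n) := HomologicalComplex.isZero_double_X _ _ n h0 h1'
        have hY : IsZero ((NLCx.cx P').X n) := HomologicalComplex.isZero_double_X _ _ n h0 h1'
        exact ⟨⟨0, hX.eq_of_src _ _, hY.eq_of_src _ _⟩⟩
  exact HomologicalComplex.Hom.isIso_of_components _

end iso

section main
variable (A A' B : Type u) [CommRing A] [CommRing A'] [CommRing B]
  [Algebra A A'] (M : Submonoid A) [IsLocalization M A'] [Algebra A' B] [Algebra A B]
  [IsScalarTower A A' B]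
  {ι : Type u} (G : Algebra.Generators A B ι) (G' : Algebra.Generators A' B ι)
  (h : ∀ i, G'.val i = algebraMap B B (G.val i))

attribute [local instance] MvPolynomial.algebraMvPolynomial

theorem hf_eq (p : MvPolynomial ι A) :
    (NLCx.sameVarsHom (S' := B) G G' h).toExtensionHom.toRingHom p =
      MvPolynomial.map (algebraMap A A') p := by
  have : ((NLCx.sameVarsHom (S' := B) G G' h).toAlgHom : MvPolynomial ι A →+* MvPolynomial ι A') =
      MvPolynomial.map (algebraMap A A') := by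
    apply MvPolynomial.ringHom_ext
    · intro a
      simp
    · intro i
      simp [Generators.Hom.toAlgHom_X, NLCx.sameVarsHom]
  exact RingHom.congr_fun this p

include M in
theorem main :
    IsIso (NLCx.map (NLCx.sameVarsHom (S' := B) G G' h).toExtensionHom) := by
  set f := (NLCx.sameVarsHom (S' := B) G G' h).toExtensionHom with hfdef
  let N : Submonoid G.toExtension.Ring :=
    (M.map (MvPolynomial.C (σ := ι)) : Submonoid (MvPolynomial ι A))
  have ha : ∀ q : G'.toExtension.Ring, ∃ w ∈ N, ∃ p : G.toExtension.Ring,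
      f.toRingHom p = f.toRingHom w * q := by
    intro q
    obtain ⟨⟨p, w⟩, hpw⟩ := IsLocalization.surj (S := MvPolynomial ι A')
      (M.map (MvPolynomial.C (σ := ι))) q
    refine ⟨w.1, w.2, p, ?_⟩
    rw [hfdef, hf_eq, hf_eq]
    rw [MvPolynomial.algebraMap_def] at hpw
    rw [mul_comm]; exact hpw.symm
  have hb : ∀ p p' : G.toExtension.Ring, f.toRingHom p = f.toRingHom p' →
      ∃ w ∈ N, w * p = w * p' := by
    intro p p' e
    rw [hfdef, hf_eq, hf_eq] at e
    obtain ⟨c, hc⟩ := IsLocalization.exists_of_eq (M := M.map (MvPolynomial.C (σ := ι)))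
      (S := MvPolynomial ι A') (x := (p : MvPolynomial ι A)) (y := p') e
    exact ⟨c.1, c.2, hc⟩
  have hN : ∀ w ∈ N, IsUnit (algebraMap G.toExtension.Ring B w) := by
    rintro _ ⟨m, hm, rfl⟩
    have : algebraMap G.toExtension.Ring B (MvPolynomial.C m) = algebraMap A' B (algebraMap A A' m) := by
      rw [← IsScalarTower.algebraMap_apply]
      show algebraMap G.Ring B (MvPolynomial.C m) = _
      rw [Generators.algebraMap_apply, MvPolynomial.aeval_C]
    have hu := (IsLocalization.map_units A' (⟨m, hm⟩ : M)).map (algebraMap A' B)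
    rw [← this] at hu
    exact hu
  refine isIso_map_of_bijective f ⟨cotangent_map_injective f N ha hb hN,
    cotangent_map_surjective f N ha hN⟩ ?_
  refine bij_of_basis G.cotangentSpaceBasis G'.cotangentSpaceBasis (CotangentSpace.map f) ?_
  intro i
  rw [Generators.cotangentSpaceBasis_apply, Generators.cotangentSpaceBasis_apply]
  erw [CotangentSpace.map_tmul]
  rw [map_one]
  congr 2
  exact Generators.Hom.toAlgHom_X _ i

end main

end Groth.Agent.H9.NLLoc
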