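import Mathlib

/-! Helper9: no-name lemma, part 1 — algebraic independence over fraction fields; Speiser-type spanning by invariants. -/

set_option linter.style.haveILetI false
set_option linter.unusedSectionVars false

namespace Groth.Agent.H9.NNL

open Module

/-- Algebraic independence over a domain implies algebraic independence over its fraction field. -/
theorem algebraicIndependent_of_isFractionRing {R K A : Type*} [CommRing R] [Field K] [CommRing A]
    [Algebra R K] [IsFractionRing R K] [Algebra R A] [Algebra K A] [IsScalarTower R K A]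
    {ι : Type*} {y : ι → A} (hy : AlgebraicIndependent R y) : AlgebraicIndependent K y := by
  classical
  rw [algebraicIndependent_iff]
  intro p hp
  obtain ⟨b, hb⟩ := IsLocalization.exist_integer_multiples_of_finset (nonZeroDivisors R)
    (p.support.image (fun d => MvPolynomial.coeff d p))
  have hb' : ∀ d ∈ p.support, ∃ r : R, algebraMap R K r = (b : R) • MvPolynomial.coeff d p := by
    intro d hd
    exact hb _ (Finset.mem_image_of_mem _ hd)
  choose! r hr using hb'
  let q : MvPolynomial ι R := ∑ d ∈ p.support, MvPolynomial.monomial d (r d)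
  have hq : MvPolynomial.map (algebraMap R K) q = algebraMap R K (b : R) • p := by
    simp only [q, map_sum, MvPolynomial.map_monomial]
    conv_rhs => rw [← MvPolynomial.support_sum_monomial_coeff p]
    rw [Finset.smul_sum]
    refine Finset.sum_congr rfl fun d hd => ?_
    rw [hr d hd, MvPolynomial.smul_monomial, Algebra.smul_def, smul_eq_mul]
  have hq0 : MvPolynomial.aeval y q = 0 := by
    rw [← MvPolynomial.aeval_map_algebraMap K, hq, map_smul, hp, smul_zero]
  have := (algebraicIndependent_iff.mp hy) q hq0
  rw [this, map_zero] at hq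
  haveI : Nontrivial R := (algebraMap R K).domain_nontrivial
  have hbne : algebraMap R K (b : R) ≠ 0 :=
    IsFractionRing.to_map_ne_zero_of_mem_nonZeroDivisors b.2
  rcases smul_eq_zero.mp hq.symm with h | h
  · exact absurd h hbne
  · exact h

section Speiser

variable {k L : Type*} [Field k] [Field L] [Algebra k L] (G : Subgroup (L ≃ₐ[k] L)) [Finite G]
  (E : IntermediateField k L)
  (hE : ∀ σ ∈ G, ∀ e ∈ E, σ e ∈ E)
  (hfaith : ∀ σ ∈ G, (∀ e ∈ E, σ e = e) → σ = 1)
  {m : ℕ} (Y : Fin m → L) (hYG : ∀ σ ∈ G, ∀ j, σ (Y j) ∈ Submodule.span E (Set.range Y))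

/-- the restriction of `σ` to `E` as a multiplicative character -/
def chi (σ : G) : E →* L where
  toFun e := σ.1 e
  map_one' := by simp
  map_mul' a b := by simp

include hfaith in
theorem chi_injective : Function.Injective (chi G E) := by
  intro σ τ h
  have h1 : τ⁻¹ * σ = 1 := by
    have := hfaith (τ⁻¹ * σ).1 (τ⁻¹ * σ).2 (fun e he => by
      have h2 : σ.1 e = τ.1 e := DFunLike.congr_fun h ⟨e, he⟩
      show (τ⁻¹.1 * σ.1) e = e
      rw [AlgEquiv.mul_apply, h2]
      show (τ.1)⁻¹ (τ.1 e) = e
      exact (τ.1).symm_apply_apply e)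
    exact Subtype.ext this
  calc σ = τ * (τ⁻¹ * σ) := by group
    _ = τ := by rw [h1, mul_one]

include hE hYG in
theorem smul_mem_span {σ : L ≃ₐ[k] L} (hσ : σ ∈ G) {w : L}
    (hw : w ∈ Submodule.span E (Set.range Y)) : σ w ∈ Submodule.span E (Set.range Y) := by
  induction hw using Submodule.span_induction with
  | mem x hx =>
    obtain ⟨j, rfl⟩ := hx
    exact hYG σ hσ j
  | zero => rw [map_zero]; exact zero_mem _
  | add x y _ _ hx hy => rw [map_add]; exact add_mem hx hy
  | smul a x _ hx =>
    have : σ (a • x) = (⟨σ a, hE σ hσ a a.2⟩ : E) • σ x := by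
      rw [Algebra.smul_def, Algebra.smul_def, map_mul]
      rfl
    rw [this]
    exact Submodule.smul_mem _ _ hx

include hE hfaith hYG in
theorem span_invariants_eq :
    Submodule.span E {w : L | w ∈ Submodule.span E (Set.range Y) ∧ ∀ σ ∈ G, σ w = w} =
      Submodule.span E (Set.range Y) := by
  classical
  haveI : Fintype G := Fintype.ofFinite G
  apply le_antisymm
  · rw [Submodule.span_le]
    intro w hw
    exact hw.1
  · rw [Submodule.span_le]
    rintro _ ⟨j, rfl⟩
    set W' := Submodule.span E {w : L | w ∈ Submodule.span E (Set.range Y) ∧ ∀ σ ∈ G, σ w = w}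
      with hW'
    by_contra hj
    obtain ⟨φ, hφj, hφ⟩ := Submodule.exists_dual_map_eq_bot_of_notMem hj inferInstance
    -- trace elements
    have htr : ∀ e : E, (∑ σ : G, σ.1 (e • Y j)) ∈ W' := by
      intro e
      refine Submodule.subset_span ⟨?_, ?_⟩
      · refine Submodule.sum_mem _ fun σ _ => ?_
        exact smul_mem_span G E hE Y hYG σ.2
          (Submodule.smul_mem _ _ (Submodule.subset_span ⟨j, rfl⟩))
      · intro τ hτ
        rw [map_sum]
        refine Fintype.sum_equiv (Equiv.mulLeft (⟨τ, hτ⟩ : G)) _ _ fun σ => ?_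
        rfl
    have hφtr : ∀ e : E, ∑ σ : G, (⟨σ.1 e, hE σ.1 σ.2 e e.2⟩ : E) * φ (σ.1 (Y j)) = 0 := by
      intro e
      have h1 : φ (∑ σ : G, σ.1 (e • Y j)) = 0 := by
        have : φ (∑ σ : G, σ.1 (e • Y j)) ∈ W'.map φ := Submodule.mem_map_of_mem (htr e)
        rw [hφ] at this
        exact (Submodule.mem_bot E).mp this
      rw [map_sum] at h1
      rw [← h1]
      refine Finset.sum_congr rfl fun σ _ => ?_
      have : σ.1 (e • Y j) = (⟨σ.1 e, hE σ.1 σ.2 e e.2⟩ : E) • σ.1 (Y j) := by
        rw [Algebra.smul_def, Algebra.smul_def, map_mul]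
        rfl
      rw [this, map_smul, smul_eq_mul]
    have hli : LinearIndependent L (fun σ : G => (chi G E σ : E → L)) :=
      (linearIndependent_monoidHom E L).comp (chi G E) (chi_injective G E hfaith)
    have hzero := Fintype.linearIndependent_iff.mp hli
      (fun σ => ((φ (σ.1 (Y j)) : E) : L)) (by
        funext e
        simp only [Finset.sum_apply, Pi.smul_apply, smul_eq_mul, Pi.zero_apply]
        have := congrArg (fun x : E => (x : L)) (hφtr e)
        simp only [AddSubmonoidClass.coe_finsetSum, MulMemClass.coe_mul,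
          ZeroMemClass.coe_zero] at this
        rw [← this]
        refine Finset.sum_congr rfl fun σ _ => ?_
        rw [mul_comm]
        rfl) 1
    apply hφj
    have h2 : ((φ ((1 : G).1 (Y j)) : E) : L) = 0 := hzero
    have h3 : (1 : G).1 (Y j) = Y j := rfl
    rw [h3] at h2
    exact_mod_cast h2

end Speiser

end Groth.Agent.H9.NNL
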