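import Mathlib
import Groth.Agent.Lib.Helper9.Misc.NNL1

/-! Helper9: no-name lemma, part 2 — invariant basis and its algebraic independence. -/

set_option linter.style.haveILetI false
set_option linter.unusedSectionVars false

namespace Groth.Agent.H9.NNL

open Module MvPolynomial

section

variable {k L : Type*} [Field k] [Field L] [Algebra k L] (G : Subgroup (L ≃ₐ[k] L)) [Finite G]
  (E : IntermediateField k L)
  (hE : ∀ σ ∈ G, ∀ e ∈ E, σ e ∈ E)
  (hfaith : ∀ σ ∈ G, (∀ e ∈ E, σ e = e) → σ = 1)
  {m : ℕ} (Y : Fin m → L) (hYG : ∀ σ ∈ G, ∀ j, σ (Y j) ∈ Submodule.span E (Set.range Y))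

include hE hfaith hYG in
theorem exists_invariant_basis (hYli : LinearIndependent E Y) :
    ∃ t : Fin m → L, (∀ j, ∀ σ ∈ G, σ (t j) = t j) ∧ LinearIndependent E t ∧
      Submodule.span E (Set.range t) = Submodule.span E (Set.range Y) := by
  classical
  set W₀ : Set L := {w | w ∈ Submodule.span E (Set.range Y) ∧ ∀ σ ∈ G, σ w = w} with hW₀
  obtain ⟨b, hbW, hbspan, hbli⟩ := exists_linearIndependent E W₀
  have hspan : Submodule.span E b = Submodule.span E (Set.range Y) :=
    hbspan.trans (span_invariants_eq G E hE hfaith Y hYG)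
  haveI : Finite b := by
    refine LinearIndependent.finite_of_le_span_finite _ hbli (Set.range Y) ?_
    rw [Subtype.range_coe, ← hspan]
    exact Submodule.subset_span
  haveI : Fintype b := Fintype.ofFinite b
  have hcard : Fintype.card b = m := by
    have h1 := finrank_span_eq_card hbli
    rw [Subtype.range_coe, hspan, finrank_span_eq_card hYli, Fintype.card_fin] at h1
    exact h1.symm
  let ε : Fin m ≃ b := (Fintype.equivFinOfCardEq hcard).symm
  refine ⟨fun j => (ε j : L), fun j σ hσ => (hbW (ε j).2).2 σ hσ, hbli.comp ε ε.injective, ?_⟩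
  rw [← hspan]
  congr 1
  ext x
  constructor
  · rintro ⟨j, rfl⟩
    exact (ε j).2
  · intro hx
    exact ⟨ε.symm ⟨x, hx⟩, by simp⟩

theorem algebraicIndependent_of_span_eq (hY : AlgebraicIndependent E Y) (t : Fin m → L)
    (htli : LinearIndependent E t)
    (hspan : Submodule.span E (Set.range t) = Submodule.span E (Set.range Y)) :
    AlgebraicIndependent E t := by
  classical
  have ha : ∀ i, ∃ a : Fin m → E, ∑ j, a j • Y j = t i := fun i =>
    (Submodule.mem_span_range_iff_exists_fun E).mp (hspan ▸ Submodule.subset_span ⟨i, rfl⟩)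
  have hn : ∀ j, ∃ c : Fin m → E, ∑ i, c i • t i = Y j := fun j =>
    (Submodule.mem_span_range_iff_exists_fun E).mp (hspan.symm ▸ Submodule.subset_span ⟨j, rfl⟩)
  choose a ha using ha
  choose c hc using hn
  have hac : ∀ i l, ∑ j, a i j * c j l = if i = l then 1 else 0 := by
    intro i
    have h1 : t i = ∑ l, (∑ j, a i j * c j l) • t l := by
      conv_lhs => rw [← ha i]
      simp_rw [← hc, Finset.smul_sum, smul_smul, Finset.sum_smul]
      rw [Finset.sum_comm]
    have h2 : ∑ l, ((∑ j, a i j * c j l) - if i = l then 1 else 0) • t l = 0 := by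
      simp_rw [sub_smul]
      rw [Finset.sum_sub_distrib, ← h1]
      simp
    have := Fintype.linearIndependent_iff.mp htli _ h2
    intro l
    exact sub_eq_zero.mp (this l)
  let α : MvPolynomial (Fin m) E →ₐ[E] MvPolynomial (Fin m) E :=
    aeval (fun i => ∑ j, C (a i j) * X j)
  let β : MvPolynomial (Fin m) E →ₐ[E] MvPolynomial (Fin m) E :=
    aeval (fun j => ∑ l, C (c j l) * X l)
  have hβα : β.comp α = AlgHom.id E _ := by
    apply MvPolynomial.algHom_ext
    intro i
    simp only [α, β, AlgHom.comp_apply, aeval_X, map_sum, map_mul, aeval_C, AlgHom.id_apply]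
    simp_rw [Finset.mul_sum]
    rw [Finset.sum_comm]
    have : ∀ l, ∑ j, (algebraMap E (MvPolynomial (Fin m) E)) (a i j) * (C (c j l) * X l) =
        C (∑ j, a i j * c j l) * X l := by
      intro l
      rw [map_sum, Finset.sum_mul]
      refine Finset.sum_congr rfl fun j _ => ?_
      rw [MvPolynomial.algebraMap_eq, map_mul, mul_assoc]
    simp_rw [this, hac]
    simp
  have hαinj : Function.Injective α :=
    Function.LeftInverse.injective (g := β) (fun p => DFunLike.congr_fun hβα p)
  have hcomp : (aeval t : MvPolynomial (Fin m) E →ₐ[E] L) = (aeval Y).comp α := by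
    apply MvPolynomial.algHom_ext
    intro i
    simp only [α, AlgHom.comp_apply, aeval_X, map_sum, map_mul, aeval_C]
    rw [← ha i]
    refine Finset.sum_congr rfl fun j _ => ?_
    rw [Algebra.smul_def]
  rw [algebraicIndependent_iff_injective_aeval] at hY ⊢
  rw [hcomp]
  exact hY.comp hαinj

end

end Groth.Agent.H9.NNL
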