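import Mathlib
import Groth.Agent.Lib.Helper9.Misc.NNL2

/-! Helper9: no-name lemma, part 3 — the fixed field is generated over F by the invariant basis. -/

set_option linter.style.haveILetI false
set_option linter.unusedSectionVars false

namespace Groth.Agent.H9.NNL

open Module MvPolynomial

section

variable {k L : Type*} [Field k] [Field L] [Algebra k L] (G : Subgroup (L ≃ₐ[k] L)) [Finite G]
  (E : IntermediateField k L)
  (hE : ∀ σ ∈ G, ∀ e ∈ E, σ e ∈ E)
  {m : ℕ} (t : Fin m → L) (htG : ∀ j, ∀ σ ∈ G, σ (t j) = t j)

/-- restriction of `σ ∈ G` to `E` -/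
def resE (σ : G) : E →+* E :=
  RingHom.restrict (σ.1 : L →+* L) E E (fun x hx => hE σ.1 σ.2 x hx)

theorem coe_resE (σ : G) (e : E) : ((resE G E hE σ e : E) : L) = σ.1 e := rfl

include htG in
theorem apply_aeval (σ : G) (p : MvPolynomial (Fin m) E) :
    σ.1 (aeval t p) = aeval t (MvPolynomial.map (resE G E hE σ) p) := by
  rw [aeval_def, aeval_def, eval₂_map]
  have h1 := MvPolynomial.eval₂_comp_left (σ.1 : L →+* L) (algebraMap E L) t p
  have h2 : ((σ.1 : L →+* L) ∘ t) = t := by
    funext j
    exact htG j σ.1 σ.2
  rw [h2] at h1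
  have h3 : ((σ.1 : L →+* L)).comp (algebraMap E L) = (algebraMap E L).comp (resE G E hE σ) := by
    ext e
    rfl
  rw [h3] at h1
  exact h1

include hE htG in
theorem aeval_mem_of_invariant (ht : AlgebraicIndependent E t) (p : MvPolynomial (Fin m) E)
    (hp : ∀ σ : G, σ.1 (aeval t p) = aeval t p) :
    aeval t p ∈ IntermediateField.adjoin (↥(E ⊓ IntermediateField.fixedField G)) (Set.range t) := by
  classical
  have hinj := (algebraicIndependent_iff_injective_aeval.mp ht)
  have hcoef : ∀ d, ((MvPolynomial.coeff d p : E) : L) ∈ E ⊓ IntermediateField.fixedField G := by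
    intro d
    refine ⟨(MvPolynomial.coeff d p).2, ?_⟩
    intro σ
    have h1 := hp σ
    rw [apply_aeval G E hE t htG σ p] at h1
    have h2 := hinj h1
    have h3 := congrArg (MvPolynomial.coeff d) h2
    rw [MvPolynomial.coeff_map] at h3
    have h4 := congrArg (fun x : E => (x : L)) h3
    exact h4
  rw [aeval_def, eval₂_eq']
  refine sum_mem fun d _ => ?_
  refine mul_mem ?_ (prod_mem fun i _ => pow_mem (IntermediateField.subset_adjoin _ _
    (Set.mem_range_self i)) _)
  exact IntermediateField.algebraMap_mem _
    (⟨((MvPolynomial.coeff d p : E) : L), hcoef d⟩ : ↥(E ⊓ IntermediateField.fixedField G))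

include hE htG in
theorem fixedField_eq_adjoin (ht : AlgebraicIndependent E t)
    (hgen : IntermediateField.adjoin E (Set.range t) = ⊤) :
    (IntermediateField.adjoin (↥(E ⊓ IntermediateField.fixedField G))
      (Set.range t)).restrictScalars k = IntermediateField.fixedField G := by
  classical
  haveI : Fintype G := Fintype.ofFinite G
  apply le_antisymm
  · intro x hx
    have hx' : x ∈ IntermediateField.adjoin (↥(E ⊓ IntermediateField.fixedField G))
      (Set.range t) := hx
    have hle : IntermediateField.adjoin (↥(E ⊓ IntermediateField.fixedField G)) (Set.range t) ≤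
        IntermediateField.extendScalars
          (inf_le_right : E ⊓ IntermediateField.fixedField G ≤ IntermediateField.fixedField G) := by
      rw [IntermediateField.adjoin_le_iff]
      rintro _ ⟨j, rfl⟩
      show t j ∈ IntermediateField.fixedField G
      intro σ
      exact htG j σ.1 σ.2
    exact hle hx'
  · intro u hu
    show u ∈ IntermediateField.adjoin (↥(E ⊓ IntermediateField.fixedField G)) (Set.range t)
    have hu' : ∀ σ : G, σ.1 u = u := fun σ => hu σ
    have hutop : u ∈ IntermediateField.adjoin E (Set.range t) := by rw [hgen]; trivial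
    obtain ⟨r, s, hrs⟩ := (IntermediateField.mem_adjoin_range_iff E t u).mp hutop
    by_cases hs0 : aeval t s = 0
    · rw [hs0, div_zero] at hrs
      rw [hrs]; exact zero_mem _
    -- norm of the denominator
    let sN : MvPolynomial (Fin m) E := ∏ σ : G, MvPolynomial.map (resE G E hE σ) s
    let rN : MvPolynomial (Fin m) E :=
      r * ∏ σ ∈ (Finset.univ : Finset G).erase 1, MvPolynomial.map (resE G E hE σ) s
    have hsN : aeval t sN = ∏ σ : G, σ.1 (aeval t s) := by
      simp only [sN, map_prod]
      refine Finset.prod_congr rfl fun σ _ => ?_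
      rw [apply_aeval G E hE t htG]
    have hsN0 : aeval t sN ≠ 0 := by
      rw [hsN]
      refine Finset.prod_ne_zero_iff.mpr fun σ _ => ?_
      exact (map_ne_zero_iff _ σ.1.injective).mpr hs0
    have hres1 : MvPolynomial.map (resE G E hE 1) s = s := by
      have : resE G E hE 1 = RingHom.id E := by
        ext e
        rfl
      rw [this, MvPolynomial.map_id]
    have hsN' : sN = s * ∏ σ ∈ (Finset.univ : Finset G).erase 1,
        MvPolynomial.map (resE G E hE σ) s := by
      simp only [sN]
      rw [← Finset.mul_prod_erase Finset.univ _ (Finset.mem_univ (1 : G)), hres1]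
    have hurN : u * aeval t sN = aeval t rN := by
      rw [hsN', hrs]
      simp only [rN, map_mul]
      field_simp
    have hsNinv : ∀ τ : G, τ.1 (aeval t sN) = aeval t sN := by
      intro τ
      rw [hsN, map_prod]
      exact Fintype.prod_equiv (Equiv.mulLeft τ) _ _ fun σ => rfl
    have hrNinv : ∀ τ : G, τ.1 (aeval t rN) = aeval t rN := by
      intro τ
      rw [← hurN, map_mul, hu' τ, hsNinv τ]
    have h1 := aeval_mem_of_invariant G E hE t htG ht sN hsNinv
    have h2 := aeval_mem_of_invariant G E hE t htG ht rN hrNinv
    have : u = aeval t rN / aeval t sN := by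
      rw [← hurN]
      field_simp
    rw [this]
    exact div_mem h2 h1

end

end Groth.Agent.H9.NNL
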