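import Mathlib
import Groth.Prelude.Def_W4c2brnrinvarInvFld
import Groth.Agent.Lib.Helper9.Misc.NNL3

/-! Helper9: the no-name lemma (abstract form and S15697). -/

set_option linter.style.haveILetI false
set_option linter.unusedSectionVars false

namespace Groth.Agent.H9.NNL

open Module MvPolynomial

section

variable {k L : Type*} [Field k] [Field L] [Algebra k L] (G : Subgroup (L ≃ₐ[k] L)) [Finite G]
  (E : IntermediateField k L)
  (hE : ∀ σ ∈ G, ∀ e ∈ E, σ e ∈ E)
  (hfaith : ∀ σ ∈ G, (∀ e ∈ E, σ e = e) → σ = 1)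
  {m : ℕ} (Y : Fin m → L) (hYG : ∀ σ ∈ G, ∀ j, σ (Y j) ∈ Submodule.span E (Set.range Y))

theorem algebraicIndependent_inf (t : Fin m → L) (ht : AlgebraicIndependent E t) :
    AlgebraicIndependent (↥(E ⊓ IntermediateField.fixedField G)) t := by
  rw [algebraicIndependent_iff]
  intro p hp
  let ι : ↥(E ⊓ IntermediateField.fixedField G) →+* E :=
    (IntermediateField.inclusion (inf_le_left : E ⊓ IntermediateField.fixedField G ≤ E)).toRingHom
  have hι : Function.Injective ι :=
    (IntermediateField.inclusion
      (inf_le_left : E ⊓ IntermediateField.fixedField G ≤ E)).toRingHom.injective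
  have h1 : aeval t (MvPolynomial.map ι p) = aeval t p := by
    rw [aeval_def, aeval_def, eval₂_map]
    rfl
  have h2 := (algebraicIndependent_iff.mp ht) (MvPolynomial.map ι p) (by rw [h1, hp])
  exact (MvPolynomial.map_injective ι hι) (by rw [h2, map_zero])

include hE hfaith hYG in
/-- The abstract no-name lemma. -/
theorem noname_abstract (hY : AlgebraicIndependent E Y)
    (hgenY : IntermediateField.adjoin E (Set.range Y) = ⊤) :
    ∃ t : Fin m → L, (∀ j, ∀ σ ∈ G, σ (t j) = t j) ∧ AlgebraicIndependent E t ∧
      IntermediateField.adjoin E (Set.range t) = ⊤ ∧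
      AlgebraicIndependent (↥(E ⊓ IntermediateField.fixedField G)) t ∧
      (IntermediateField.adjoin (↥(E ⊓ IntermediateField.fixedField G))
        (Set.range t)).restrictScalars k = IntermediateField.fixedField G := by
  obtain ⟨t, htG, htli, hspan⟩ := exists_invariant_basis G E hE hfaith Y hYG hY.linearIndependent
  have ht := algebraicIndependent_of_span_eq E Y hY t htli hspan
  have hgen : IntermediateField.adjoin E (Set.range t) = ⊤ := by
    rw [eq_top_iff, ← hgenY, IntermediateField.adjoin_le_iff]
    rintro _ ⟨j, rfl⟩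
    have h1 : Y j ∈ Submodule.span E (Set.range t) := by
      rw [hspan]; exact Submodule.subset_span ⟨j, rfl⟩
    have h2 : Submodule.span E (Set.range t) ≤
        Subalgebra.toSubmodule (IntermediateField.adjoin E (Set.range t)).toSubalgebra := by
      rw [Submodule.span_le]
      exact IntermediateField.subset_adjoin E (Set.range t)
    exact h2 h1
  exact ⟨t, htG, ht, hgen, algebraicIndependent_inf G E t ht,
    fixedField_eq_adjoin G E hE t htG ht hgen⟩

end

section Concrete

universe u
variable (k : Type u) [Field k] (n m : ℕ)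

open scoped IntermediateField.algebraAdjoinAdjoin

theorem S15697_main
    (G : Subgroup (InvFld.Fld (Fin n ⊕ Fin m) k ≃ₐ[k] InvFld.Fld (Fin n ⊕ Fin m) k)) [Finite G]
    (hx : ∀ σ ∈ G, ∀ i : Fin n, σ (InvFld.X (Sum.inl i)) ∈ Submodule.span k
      (Set.range fun j : Fin n => (InvFld.X (Sum.inl j) : InvFld.Fld (Fin n ⊕ Fin m) k)))
    (hy : ∀ σ ∈ G, ∀ i : Fin m, σ (InvFld.X (Sum.inr i)) ∈ Submodule.span k
      (Set.range fun j : Fin m => (InvFld.X (Sum.inr j) : InvFld.Fld (Fin n ⊕ Fin m) k)))
    (hfaith : ∀ σ ∈ G, (∀ i : Fin n, σ (InvFld.X (Sum.inl i)) = InvFld.X (Sum.inl i)) → σ = 1) :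
    ∃ t : Fin m → InvFld.Fld (Fin n ⊕ Fin m) k,
      AlgebraicIndependent (↥(IntermediateField.adjoin k (Set.range fun j : Fin n =>
        (InvFld.X (Sum.inl j) : InvFld.Fld (Fin n ⊕ Fin m) k)) ⊓ IntermediateField.fixedField G)) t ∧
      IntermediateField.restrictScalars k (IntermediateField.adjoin
        (↥(IntermediateField.adjoin k (Set.range fun j : Fin n =>
          (InvFld.X (Sum.inl j) : InvFld.Fld (Fin n ⊕ Fin m) k)) ⊓ IntermediateField.fixedField G))
        (Set.range t)) = IntermediateField.fixedField G := by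
  set L := InvFld.Fld (Fin n ⊕ Fin m) k with hL
  set X' : Fin n → L := fun j => InvFld.X (Sum.inl j) with hX'
  set Y : Fin m → L := fun j => InvFld.X (Sum.inr j) with hY'
  set E : IntermediateField k L := IntermediateField.adjoin k (Set.range X') with hEdef
  have hXE : ∀ i, X' i ∈ E := fun i => IntermediateField.subset_adjoin k _ ⟨i, rfl⟩
  have hE : ∀ σ ∈ G, ∀ e ∈ E, σ e ∈ E := by
    intro σ hσ e he
    have h1 : σ e ∈ E.map (σ : L →ₐ[k] L) := ⟨e, he, rfl⟩
    rw [hEdef, IntermediateField.adjoin_map] at h1
    refine (IntermediateField.adjoin_le_iff.mpr ?_) h1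
    rintro _ ⟨_, ⟨i, rfl⟩, rfl⟩
    have h2 := hx σ hσ i
    have h3 : Submodule.span k (Set.range X') ≤ Subalgebra.toSubmodule E.toSubalgebra := by
      rw [Submodule.span_le]
      rintro _ ⟨j, rfl⟩
      exact hXE j
    exact h3 h2
  have hfaith' : ∀ σ ∈ G, (∀ e ∈ E, σ e = e) → σ = 1 :=
    fun σ hσ h => hfaith σ hσ (fun i => h _ (hXE i))
  have hYG : ∀ σ ∈ G, ∀ j, σ (Y j) ∈ Submodule.span E (Set.range Y) :=
    fun σ hσ j => Submodule.span_subset_span k E _ (hy σ hσ j)
  -- algebraic independence
  have hXY : AlgebraicIndependent k (fun i : Fin n ⊕ Fin m => (InvFld.X i : L)) := by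
    have := (MvPolynomial.algebraicIndependent_X (Fin n ⊕ Fin m) k).map'
      (f := IsScalarTower.toAlgHom k (MvPolynomial (Fin n ⊕ Fin m) k) L)
      (IsFractionRing.injective _ _)
    exact this
  have hXY' : AlgebraicIndependent k (Sum.elim Y X') := by
    have := (algebraicIndependent_equiv (Equiv.sumComm (Fin m) (Fin n))
      (f := fun i : Fin n ⊕ Fin m => (InvFld.X i : L))).mpr hXY
    convert this using 1
    funext i
    rcases i with i | i <;> rfl
  have hYalg : AlgebraicIndependent (Algebra.adjoin k (Set.range X')) Y :=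
    (AlgebraicIndependent.sumElim_iff.mp hXY').2
  have hY : AlgebraicIndependent E Y :=
    algebraicIndependent_of_isFractionRing (R := Algebra.adjoin k (Set.range X')) hYalg
  have hgenY : IntermediateField.adjoin E (Set.range Y) = ⊤ := by
    rw [eq_top_iff]
    intro u _
    have hpoly : ∀ p : MvPolynomial (Fin n ⊕ Fin m) k,
        algebraMap (MvPolynomial (Fin n ⊕ Fin m) k) L p ∈
          IntermediateField.adjoin E (Set.range Y) := by
      intro p
      induction p using MvPolynomial.induction_on with
      | C a =>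
        have : algebraMap (MvPolynomial (Fin n ⊕ Fin m) k) L (C a) = algebraMap E L (algebraMap k E a) := by
          rw [← IsScalarTower.algebraMap_apply, ← MvPolynomial.algebraMap_eq,
            ← IsScalarTower.algebraMap_apply]
        rw [this]
        exact IntermediateField.algebraMap_mem _ _
      | add p q hp hq => rw [map_add]; exact add_mem hp hq
      | mul_X p i hp =>
        rw [map_mul]
        refine mul_mem hp ?_
        rcases i with i | i
        · exact IntermediateField.algebraMap_mem _ (⟨X' i, hXE i⟩ : E)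
        · exact IntermediateField.subset_adjoin E _ ⟨i, rfl⟩
    obtain ⟨a, b, _, rfl⟩ := IsFractionRing.div_surjective (A := MvPolynomial (Fin n ⊕ Fin m) k) u
    exact div_mem (hpoly a) (hpoly b)
  obtain ⟨t, _, _, _, h1, h2⟩ := noname_abstract G E hE hfaith' Y hYG hY hgenY
  exact ⟨t, h1, h2⟩

end Concrete

end Groth.Agent.H9.NNL
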