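import Mathlib
import Groth.Agent.Lib.Helper2.DimFG

/-! Helper9: Noether normalization on a principal open of minimal dimension -/

namespace Groth.Agent.H9.NNLoc

universe u

theorem main (k S : Type u) [Field k] [CommRing S] [Algebra k S]
    [Algebra.FiniteType k S] (q : Ideal S) [q.IsPrime] :
    ∃ (g : S) (d : ℕ), g ∉ q ∧ ringKrullDim (Localization.Away g) = d ∧
      (∀ g' : S, g' ∉ q → ringKrullDim (Localization.Away g) ≤ ringKrullDim (Localization.Away g')) ∧
      ∃ φ : MvPolynomial (Fin d) k →ₐ[k] Localization.Away g, Function.Injective φ ∧ φ.toRingHom.Finite := by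
  have hne : {x : WithBot ℕ∞ | ∃ g : S, g ∉ q ∧ ringKrullDim (Localization.Away g) = x}.Nonempty :=
    ⟨_, 1, fun h => (Ideal.IsPrime.ne_top ‹_›) ((Ideal.eq_top_iff_one _).mpr h), rfl⟩
  obtain ⟨x, ⟨g, hg, rfl⟩, hxmin⟩ :=
    WellFounded.has_min (wellFounded_lt (α := WithBot ℕ∞)) _ hne
  have hmin : ∀ g' : S, g' ∉ q →
      ringKrullDim (Localization.Away g) ≤ ringKrullDim (Localization.Away g') := by
    intro g' hg'
    exact not_lt.mp (hxmin _ ⟨g', hg', rfl⟩)
  have hnt : Nontrivial (Localization.Away g) := by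
    rw [← not_subsingleton_iff_nontrivial]
    intro hsub
    have h0 : (0 : S) ∈ Submonoid.powers g :=
      (IsLocalization.subsingleton_iff (M := Submonoid.powers g) (S := Localization.Away g)).mp hsub
    obtain ⟨n, hn⟩ := h0
    have hn' : g ^ n = 0 := hn
    exact hg (Ideal.IsPrime.mem_of_pow_mem ‹_› n (hn' ▸ q.zero_mem))
  obtain ⟨s, φ, hinj, hfin⟩ := exists_finite_inj_algHom_of_fg k (Localization.Away g)
  refine ⟨g, s, hg, ?_, hmin, φ, hinj, hfin⟩
  algebraize [φ.toRingHom]
  have hfin' : Module.Finite (MvPolynomial (Fin s) k) (Localization.Away g) := hfin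
  have : Algebra.IsIntegral (MvPolynomial (Fin s) k) (Localization.Away g) := inferInstance
  rw [Groth.Agent.H2.DimFG.ringKrullDim_eq_of_integral_injective (MvPolynomial (Fin s) k) _ hinj,
    Groth.Agent.H2.DimFG.ringKrullDim_mvPolynomial_fin]

end Groth.Agent.H9.NNLoc
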