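import Mathlib
import Groth.Prelude.Def_W4c2brnrinvarInvFld

/-! Helper9: linear automorphisms of rational function fields restrict to the polynomial ring. -/

set_option linter.style.haveILetI false
set_option linter.unusedSectionVars false

namespace Groth.Agent.H9.NNM

open MvPolynomial

universe u v
variable {k : Type u} [Field k] {ι : Type v}

/-- `σ` maps each variable into the `k`-span of the variables. -/
def IsLin (σ : InvFld.Fld ι k →ₐ[k] InvFld.Fld ι k) : Prop :=
  ∀ i, σ (InvFld.X i) ∈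
    Submodule.span k (Set.range fun j : ι => (InvFld.X j : InvFld.Fld ι k))

theorem span_le_range {x : InvFld.Fld ι k}
    (hx : x ∈ Submodule.span k (Set.range fun j : ι => (InvFld.X j : InvFld.Fld ι k))) :
    ∃ q : MvPolynomial ι k, algebraMap (MvPolynomial ι k) (InvFld.Fld ι k) q = x := by
  have h : Submodule.span k (Set.range fun j : ι => (InvFld.X j : InvFld.Fld ι k)) ≤
      LinearMap.range (IsScalarTower.toAlgHom k (MvPolynomial ι k) (InvFld.Fld ι k)).toLinearMap := by
    rw [Submodule.span_le]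
    rintro _ ⟨j, rfl⟩
    exact ⟨X j, rfl⟩
  obtain ⟨q, hq⟩ := h hx
  exact ⟨q, hq⟩

/-- the restriction of a linear automorphism to the polynomial ring -/
noncomputable def polyRes (σ : InvFld.Fld ι k →ₐ[k] InvFld.Fld ι k) (h : IsLin σ) :
    MvPolynomial ι k →ₐ[k] MvPolynomial ι k :=
  aeval (fun i => (span_le_range (h i)).choose)

theorem algebraMap_polyRes (σ : InvFld.Fld ι k →ₐ[k] InvFld.Fld ι k) (h : IsLin σ)
    (p : MvPolynomial ι k) :
    algebraMap (MvPolynomial ι k) (InvFld.Fld ι k) (polyRes σ h p) =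
      σ (algebraMap (MvPolynomial ι k) (InvFld.Fld ι k) p) := by
  have : (IsScalarTower.toAlgHom k (MvPolynomial ι k) (InvFld.Fld ι k)).comp (polyRes σ h) =
      σ.comp (IsScalarTower.toAlgHom k (MvPolynomial ι k) (InvFld.Fld ι k)) := by
    apply MvPolynomial.algHom_ext
    intro i
    simp only [AlgHom.comp_apply, polyRes, aeval_X, IsScalarTower.coe_toAlgHom']
    exact (span_le_range (h i)).choose_spec
  exact DFunLike.congr_fun this p

theorem polyRes_unique (σ : InvFld.Fld ι k →ₐ[k] InvFld.Fld ι k) (h : IsLin σ)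
    (f : MvPolynomial ι k →ₐ[k] MvPolynomial ι k)
    (hf : ∀ p, algebraMap (MvPolynomial ι k) (InvFld.Fld ι k) (f p) =
      σ (algebraMap (MvPolynomial ι k) (InvFld.Fld ι k) p)) : f = polyRes σ h := by
  ext1 p
  apply IsFractionRing.injective (MvPolynomial ι k) (InvFld.Fld ι k)
  rw [hf, algebraMap_polyRes]

variable (G : Subgroup (InvFld.Fld ι k ≃ₐ[k] InvFld.Fld ι k))
  (hG : ∀ σ ∈ G, ∀ i : ι, σ (InvFld.X i) ∈
    Submodule.span k (Set.range fun j : ι => (InvFld.X j : InvFld.Fld ι k)))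

include hG in
theorem isLin_of (σ : G) : IsLin (σ.1 : InvFld.Fld ι k →ₐ[k] InvFld.Fld ι k) :=
  fun i => hG σ.1 σ.2 i

/-- restriction to polynomials as a monoid hom -/
noncomputable def resHom : G →* (MvPolynomial ι k →ₐ[k] MvPolynomial ι k) where
  toFun σ := polyRes (σ.1 : InvFld.Fld ι k →ₐ[k] InvFld.Fld ι k) (isLin_of G hG σ)
  map_one' := by
    symm
    apply polyRes_unique
    intro p
    rfl
  map_mul' σ τ := by
    symm
    apply polyRes_unique
    intro p
    rw [AlgHom.mul_apply]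
    have h1 := algebraMap_polyRes (σ.1 : InvFld.Fld ι k →ₐ[k] InvFld.Fld ι k) (isLin_of G hG σ)
      (polyRes (τ.1 : InvFld.Fld ι k →ₐ[k] InvFld.Fld ι k) (isLin_of G hG τ) p)
    have h2 := algebraMap_polyRes (τ.1 : InvFld.Fld ι k →ₐ[k] InvFld.Fld ι k) (isLin_of G hG τ) p
    rw [h1, h2]
    rfl

theorem algebraMap_resHom (σ : G) (p : MvPolynomial ι k) :
    algebraMap (MvPolynomial ι k) (InvFld.Fld ι k) (resHom G hG σ p) =
      σ.1 (algebraMap (MvPolynomial ι k) (InvFld.Fld ι k) p) :=
  algebraMap_polyRes (σ.1 : InvFld.Fld ι k →ₐ[k] InvFld.Fld ι k) (isLin_of G hG σ) p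

end Groth.Agent.H9.NNM
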