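import Mathlib
import Groth.Prelude.Def_W4c2brnrinvarInvFld
import Groth.Agent.Lib.Helper9.Misc.NNM1

/-! Helper9: diagonal action of a group on the rational function field in two sets of variables. -/

set_option linter.style.haveILetI false
set_option linter.unusedSectionVars false

namespace Groth.Agent.H9.NNM

open MvPolynomial

universe u
variable {k : Type u} [Field k] {ι κ : Type} {Γ : Type*} [Group Γ]
  (ρ₁ : Γ →* (MvPolynomial ι k →ₐ[k] MvPolynomial ι k))
  (ρ₂ : Γ →* (MvPolynomial κ k →ₐ[k] MvPolynomial κ k))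

/-- the diagonal action on the polynomial ring in both sets of variables -/
noncomputable def tilde (g : Γ) : MvPolynomial (ι ⊕ κ) k →ₐ[k] MvPolynomial (ι ⊕ κ) k :=
  aeval (Sum.elim (fun i => rename Sum.inl (ρ₁ g (X i))) (fun j => rename Sum.inr (ρ₂ g (X j))))

theorem tilde_rename_inl (g : Γ) (p : MvPolynomial ι k) :
    tilde ρ₁ ρ₂ g (rename Sum.inl p) = rename Sum.inl (ρ₁ g p) := by
  have : (tilde ρ₁ ρ₂ g).comp (rename Sum.inl) =
      (rename Sum.inl : MvPolynomial ι k →ₐ[k] MvPolynomial (ι ⊕ κ) k).comp (ρ₁ g) := by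
    apply MvPolynomial.algHom_ext
    intro i
    simp [tilde]
  exact DFunLike.congr_fun this p

theorem tilde_rename_inr (g : Γ) (p : MvPolynomial κ k) :
    tilde ρ₁ ρ₂ g (rename Sum.inr p) = rename Sum.inr (ρ₂ g p) := by
  have : (tilde ρ₁ ρ₂ g).comp (rename Sum.inr) =
      (rename Sum.inr : MvPolynomial κ k →ₐ[k] MvPolynomial (ι ⊕ κ) k).comp (ρ₂ g) := by
    apply MvPolynomial.algHom_ext
    intro i
    simp [tilde]
  exact DFunLike.congr_fun this p

/-- the diagonal action as a monoid hom -/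
noncomputable def tildeHom : Γ →* (MvPolynomial (ι ⊕ κ) k →ₐ[k] MvPolynomial (ι ⊕ κ) k) where
  toFun := tilde ρ₁ ρ₂
  map_one' := by
    apply MvPolynomial.algHom_ext
    rintro (i | j) <;> simp [tilde]
  map_mul' g h := by
    apply MvPolynomial.algHom_ext
    rintro (i | j)
    · rw [AlgHom.mul_apply]
      have h1 : tilde ρ₁ ρ₂ h (X (Sum.inl i)) = rename Sum.inl (ρ₁ h (X i)) := by simp [tilde]
      rw [h1, tilde_rename_inl]
      simp [tilde, AlgHom.mul_apply]
    · rw [AlgHom.mul_apply]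
      have h1 : tilde ρ₁ ρ₂ h (X (Sum.inr j)) = rename Sum.inr (ρ₂ h (X j)) := by simp [tilde]
      rw [h1, tilde_rename_inr]
      simp [tilde, AlgHom.mul_apply]

/-- the diagonal action by automorphisms of the polynomial ring -/
noncomputable def Phi : Γ →* (MvPolynomial (ι ⊕ κ) k ≃ₐ[k] MvPolynomial (ι ⊕ κ) k) :=
  (AlgEquiv.algHomUnitsEquiv k (MvPolynomial (ι ⊕ κ) k)).toMonoidHom.comp
    (tildeHom ρ₁ ρ₂).toHomUnits

theorem Phi_apply (g : Γ) (p : MvPolynomial (ι ⊕ κ) k) : Phi ρ₁ ρ₂ g p = tilde ρ₁ ρ₂ g p := rfl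

/-- the diagonal action on the rational function field -/
noncomputable def Psi : Γ →* (InvFld.Fld (ι ⊕ κ) k ≃ₐ[k] InvFld.Fld (ι ⊕ κ) k) :=
  (IsFractionRing.fieldEquivOfAlgEquivHom k (InvFld.Fld (ι ⊕ κ) k)).comp (Phi ρ₁ ρ₂)

theorem Psi_algebraMap (g : Γ) (p : MvPolynomial (ι ⊕ κ) k) :
    Psi ρ₁ ρ₂ g (algebraMap _ (InvFld.Fld (ι ⊕ κ) k) p) =
      algebraMap _ (InvFld.Fld (ι ⊕ κ) k) (tilde ρ₁ ρ₂ g p) := by
  simp only [Psi, MonoidHom.comp_apply, IsFractionRing.fieldEquivOfAlgEquivHom_apply,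
    IsFractionRing.fieldEquivOfAlgEquiv_algebraMap, Phi_apply]

theorem inj_inl : Function.Injective
    ((IsScalarTower.toAlgHom k (MvPolynomial (ι ⊕ κ) k) (InvFld.Fld (ι ⊕ κ) k)).comp
      (rename Sum.inl : MvPolynomial ι k →ₐ[k] MvPolynomial (ι ⊕ κ) k)) := by
  intro a b h
  have h' : algebraMap (MvPolynomial (ι ⊕ κ) k) (InvFld.Fld (ι ⊕ κ) k) (rename Sum.inl a) =
      algebraMap (MvPolynomial (ι ⊕ κ) k) (InvFld.Fld (ι ⊕ κ) k) (rename Sum.inl b) := h
  exact rename_injective _ Sum.inl_injective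
    (IsFractionRing.injective (MvPolynomial (ι ⊕ κ) k) (InvFld.Fld (ι ⊕ κ) k) h')

theorem inj_inr : Function.Injective
    ((IsScalarTower.toAlgHom k (MvPolynomial (ι ⊕ κ) k) (InvFld.Fld (ι ⊕ κ) k)).comp
      (rename Sum.inr : MvPolynomial κ k →ₐ[k] MvPolynomial (ι ⊕ κ) k)) := by
  intro a b h
  have h' : algebraMap (MvPolynomial (ι ⊕ κ) k) (InvFld.Fld (ι ⊕ κ) k) (rename Sum.inr a) =
      algebraMap (MvPolynomial (ι ⊕ κ) k) (InvFld.Fld (ι ⊕ κ) k) (rename Sum.inr b) := h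
  exact rename_injective _ Sum.inr_injective
    (IsFractionRing.injective (MvPolynomial (ι ⊕ κ) k) (InvFld.Fld (ι ⊕ κ) k) h')

/-- the embedding of the rational function field in the first set of variables -/
noncomputable def j₁ : InvFld.Fld ι k →ₐ[k] InvFld.Fld (ι ⊕ κ) k :=
  IsFractionRing.liftAlgHom (inj_inl (k := k) (ι := ι) (κ := κ))

/-- the embedding of the rational function field in the second set of variables -/
noncomputable def j₂ : InvFld.Fld κ k →ₐ[k] InvFld.Fld (ι ⊕ κ) k :=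
  IsFractionRing.liftAlgHom (inj_inr (k := k) (ι := ι) (κ := κ))

theorem j₁_algebraMap (p : MvPolynomial ι k) :
    j₁ (κ := κ) (algebraMap (MvPolynomial ι k) (InvFld.Fld ι k) p) =
      algebraMap (MvPolynomial (ι ⊕ κ) k) (InvFld.Fld (ι ⊕ κ) k) (rename Sum.inl p) := by
  rw [j₁, IsFractionRing.liftAlgHom_apply, IsFractionRing.lift_algebraMap]
  rfl

theorem j₂_algebraMap (p : MvPolynomial κ k) :
    j₂ (ι := ι) (algebraMap (MvPolynomial κ k) (InvFld.Fld κ k) p) =
      algebraMap (MvPolynomial (ι ⊕ κ) k) (InvFld.Fld (ι ⊕ κ) k) (rename Sum.inr p) := by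
  rw [j₂, IsFractionRing.liftAlgHom_apply, IsFractionRing.lift_algebraMap]
  rfl

theorem j₁_X (i : ι) : j₁ (k := k) (κ := κ) (InvFld.X i) = InvFld.X (Sum.inl i) := by
  rw [InvFld.X, j₁_algebraMap, rename_X]

theorem j₂_X (j : κ) : j₂ (k := k) (ι := ι) (InvFld.X j) = InvFld.X (Sum.inr j) := by
  rw [InvFld.X, j₂_algebraMap, rename_X]

end Groth.Agent.H9.NNM
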