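import Mathlib
import Groth.Prelude.Def_W4c2brnrinvarInvFld
import Groth.Agent.Lib.Helper9.Misc.NNL4

/-! Helper9: the no-name lemma for a general partition of the variables. -/

set_option linter.style.haveILetI false
set_option linter.unusedSectionVars false

namespace Groth.Agent.H9.NNM

open MvPolynomial Groth.Agent.H9.NNL

universe u
variable (k : Type u) [Field k]

open scoped IntermediateField.algebraAdjoinAdjoin

/-- The rational function field is generated by the variables. -/
theorem adjoin_X_eq_top (σ : Type*) :
    IntermediateField.adjoin k (Set.range fun j : σ => (InvFld.X j : InvFld.Fld σ k)) = ⊤ := by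
  rw [eq_top_iff]
  intro u _
  have hpoly : ∀ p : MvPolynomial σ k,
      algebraMap (MvPolynomial σ k) (InvFld.Fld σ k) p ∈
        IntermediateField.adjoin k (Set.range fun j : σ => (InvFld.X j : InvFld.Fld σ k)) := by
    intro p
    induction p using MvPolynomial.induction_on with
    | C a =>
      have : algebraMap (MvPolynomial σ k) (InvFld.Fld σ k) (C a) =
          algebraMap k (InvFld.Fld σ k) a := by
        rw [← MvPolynomial.algebraMap_eq, ← IsScalarTower.algebraMap_apply]
      rw [this]
      exact IntermediateField.algebraMap_mem _ _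
    | add p q hp hq => rw [map_add]; exact add_mem hp hq
    | mul_X p i hp =>
      rw [map_mul]
      exact mul_mem hp (IntermediateField.subset_adjoin k _ ⟨i, rfl⟩)
  obtain ⟨a, b, _, rfl⟩ := IsFractionRing.div_surjective (A := MvPolynomial σ k) u
  exact div_mem (hpoly a) (hpoly b)

theorem noname_concrete {σ ι : Type} (m : ℕ) (ε : Fin m ⊕ ι ≃ σ)
    (G : Subgroup (InvFld.Fld σ k ≃ₐ[k] InvFld.Fld σ k)) [Finite G]
    (hx : ∀ g ∈ G, ∀ i : ι, g (InvFld.X (ε (Sum.inr i))) ∈ Submodule.span k
      (Set.range fun j : ι => (InvFld.X (ε (Sum.inr j)) : InvFld.Fld σ k)))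
    (hy : ∀ g ∈ G, ∀ i : Fin m, g (InvFld.X (ε (Sum.inl i))) ∈ Submodule.span k
      (Set.range fun j : Fin m => (InvFld.X (ε (Sum.inl j)) : InvFld.Fld σ k)))
    (hfaith : ∀ g ∈ G, (∀ i : ι, g (InvFld.X (ε (Sum.inr i))) = InvFld.X (ε (Sum.inr i))) →
      g = 1) :
    ∃ t : Fin m → InvFld.Fld σ k,
      AlgebraicIndependent (↥(IntermediateField.adjoin k (Set.range fun j : ι =>
        (InvFld.X (ε (Sum.inr j)) : InvFld.Fld σ k)) ⊓ IntermediateField.fixedField G)) t ∧
      IntermediateField.restrictScalars k (IntermediateField.adjoin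
        (↥(IntermediateField.adjoin k (Set.range fun j : ι =>
          (InvFld.X (ε (Sum.inr j)) : InvFld.Fld σ k)) ⊓ IntermediateField.fixedField G))
        (Set.range t)) = IntermediateField.fixedField G := by
  set L := InvFld.Fld σ k with hL
  set X' : ι → L := fun j => InvFld.X (ε (Sum.inr j)) with hX'
  set Y : Fin m → L := fun j => InvFld.X (ε (Sum.inl j)) with hY'
  set E : IntermediateField k L := IntermediateField.adjoin k (Set.range X') with hEdef
  have hXE : ∀ i, X' i ∈ E := fun i => IntermediateField.subset_adjoin k _ ⟨i, rfl⟩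
  have hE : ∀ g ∈ G, ∀ e ∈ E, g e ∈ E := by
    intro g hg e he
    have h1 : g e ∈ E.map (g : L →ₐ[k] L) := ⟨e, he, rfl⟩
    rw [hEdef, IntermediateField.adjoin_map] at h1
    refine (IntermediateField.adjoin_le_iff.mpr ?_) h1
    rintro _ ⟨_, ⟨i, rfl⟩, rfl⟩
    have h2 := hx g hg i
    have h3 : Submodule.span k (Set.range X') ≤ Subalgebra.toSubmodule E.toSubalgebra := by
      rw [Submodule.span_le]
      rintro _ ⟨j, rfl⟩
      exact hXE j
    exact h3 h2
  have hfaith' : ∀ g ∈ G, (∀ e ∈ E, g e = e) → g = 1 :=
    fun g hg h => hfaith g hg (fun i => h _ (hXE i))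
  have hYG : ∀ g ∈ G, ∀ j, g (Y j) ∈ Submodule.span E (Set.range Y) :=
    fun g hg j => Submodule.span_subset_span k E _ (hy g hg j)
  have hXY : AlgebraicIndependent k (fun i : σ => (InvFld.X i : L)) := by
    have := (MvPolynomial.algebraicIndependent_X σ k).map'
      (f := IsScalarTower.toAlgHom k (MvPolynomial σ k) L)
      (IsFractionRing.injective _ _)
    exact this
  have hXY' : AlgebraicIndependent k (Sum.elim Y X') := by
    have := (algebraicIndependent_equiv ε (f := fun i : σ => (InvFld.X i : L))).mpr hXY
    convert this using 1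
    funext i
    rcases i with i | i <;> rfl
  have hYalg : AlgebraicIndependent (Algebra.adjoin k (Set.range X')) Y :=
    (AlgebraicIndependent.sumElim_iff.mp hXY').2
  have hY : AlgebraicIndependent E Y :=
    algebraicIndependent_of_isFractionRing (R := Algebra.adjoin k (Set.range X')) hYalg
  have hgenY : IntermediateField.adjoin E (Set.range Y) = ⊤ := by
    rw [eq_top_iff]
    intro u _
    have hpoly : ∀ p : MvPolynomial σ k,
        algebraMap (MvPolynomial σ k) L p ∈
          IntermediateField.adjoin E (Set.range Y) := by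
      intro p
      induction p using MvPolynomial.induction_on with
      | C a =>
        have : algebraMap (MvPolynomial σ k) L (C a) = algebraMap E L (algebraMap k E a) := by
          rw [← IsScalarTower.algebraMap_apply, ← MvPolynomial.algebraMap_eq,
            ← IsScalarTower.algebraMap_apply]
        rw [this]
        exact IntermediateField.algebraMap_mem _ _
      | add p q hp hq => rw [map_add]; exact add_mem hp hq
      | mul_X p i hp =>
        rw [map_mul]
        refine mul_mem hp ?_
        obtain ⟨i', rfl⟩ := ε.surjective i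
        rcases i' with i' | i'
        · exact IntermediateField.subset_adjoin E _ ⟨i', rfl⟩
        · exact IntermediateField.algebraMap_mem _ (⟨X' i', hXE i'⟩ : E)
    obtain ⟨a, b, _, rfl⟩ := IsFractionRing.div_surjective (A := MvPolynomial σ k) u
    exact div_mem (hpoly a) (hpoly b)
  obtain ⟨t, _, _, _, h1, h2⟩ := noname_abstract G E hE hfaith' Y hYG hY hgenY
  exact ⟨t, h1, h2⟩

end Groth.Agent.H9.NNM
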