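import Mathlib
import Groth.Prelude.Def_W4c2brnrinvarInvFld

/-! Helper9: transport isomorphisms for rational function fields and invariant subfields. -/

set_option linter.style.haveILetI false
set_option linter.unusedSectionVars false

namespace Groth.Agent.H9.NNM

open MvPolynomial

universe u
variable {k : Type u} [Field k]

/-- (J) functoriality of rational function fields in the coefficient field -/
noncomputable def fldCongr (r : ℕ) {K K' : Type u} [Field K] [Field K'] [Algebra k K]
    [Algebra k K'] (e : K ≃ₐ[k] K') : InvFld.Fld (Fin r) K ≃ₐ[k] InvFld.Fld (Fin r) K' :=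
  IsFractionRing.fieldEquivOfAlgEquiv k (InvFld.Fld (Fin r) K) (InvFld.Fld (Fin r) K')
    (MvPolynomial.mapAlgEquiv (Fin r) e)

section

variable {L : Type u} [Field L] [Algebra k L]

/-- (Kk) the field generated by algebraically independent elements is a rational function field -/
noncomputable def fldEquivAdjoin (F : IntermediateField k L) {r : ℕ} (t : Fin r → L)
    (ht : AlgebraicIndependent F t) :
    InvFld.Fld (Fin r) F ≃ₐ[k] ↥(IntermediateField.adjoin F (Set.range t)) :=
  (ht.aevalEquivField).restrictScalars k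

/-- (M) -/
noncomputable def adjoinEquivOfEq (F : IntermediateField k L) (S : Set L)
    (K' : IntermediateField k L)
    (h : (IntermediateField.adjoin F S).restrictScalars k = K') :
    ↥(IntermediateField.adjoin F S) ≃ₐ[k] ↥K' where
  toFun x := ⟨x.1, by rw [← h]; exact x.2⟩
  invFun y := ⟨y.1, by
    have : y.1 ∈ (IntermediateField.adjoin F S).restrictScalars k := by rw [h]; exact y.2
    exact this⟩
  left_inv x := rfl
  right_inv y := rfl
  map_mul' x y := rfl
  map_add' x y := rfl
  commutes' c := rfl

end

section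

variable {M L : Type u} [Field M] [Field L] [Algebra k M] [Algebra k L]

/-- (I) invariants in the image of an equivariant embedding -/
noncomputable def fixedEquiv (j : M →ₐ[k] L) (𝒢 : Subgroup (M ≃ₐ[k] M))
    (G' : Subgroup (L ≃ₐ[k] L))
    (h1 : ∀ g' ∈ G', ∃ g ∈ 𝒢, ∀ a, g' (j a) = j (g a))
    (h2 : ∀ g ∈ 𝒢, ∃ g' ∈ G', ∀ a, g' (j a) = j (g a)) :
    ↥(IntermediateField.fixedField 𝒢) ≃ₐ[k]
      ↥(j.fieldRange ⊓ IntermediateField.fixedField G') := by
  let f : ↥(IntermediateField.fixedField 𝒢) →ₐ[k]
      ↥(j.fieldRange ⊓ IntermediateField.fixedField G') :=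
    { toFun := fun a => ⟨j a.1, ⟨⟨a.1, rfl⟩, by
        intro g'
        obtain ⟨g, hg, hgg⟩ := h1 g'.1 g'.2
        show g'.1 (j a.1) = j a.1
        rw [hgg]
        congr 1
        exact a.2 ⟨g, hg⟩⟩⟩
      map_one' := by ext; simp
      map_mul' := fun a b => by ext; simp
      map_zero' := by ext; simp
      map_add' := fun a b => by ext; simp
      commutes' := fun c => by ext; simp }
  refine AlgEquiv.ofBijective f ⟨?_, ?_⟩
  · intro a b hab
    have : j a.1 = j b.1 := congrArg (fun x => x.1) hab
    exact Subtype.ext (j.injective this)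
  · rintro ⟨y, ⟨a, rfl⟩, hy⟩
    refine ⟨⟨a, ?_⟩, rfl⟩
    intro g
    obtain ⟨g', hg', hgg⟩ := h2 g.1 g.2
    have := hy ⟨g', hg'⟩
    have h3 : g' (j a) = j a := this
    rw [hgg] at h3
    exact j.injective h3

end

end Groth.Agent.H9.NNM
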