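import Mathlib
import Groth.Prelude.Def_W4c2brnrinvarInvFld
import Groth.Agent.Lib.Helper9.Misc.NNM2
import Groth.Agent.Lib.Helper9.Misc.NNM3
import Groth.Agent.Lib.Helper9.Misc.NNM4

/-! Helper9: stable equivalence of invariant fields of two faithful linear representations (S15696). -/

set_option linter.style.haveILetI false
set_option linter.unusedSectionVars false

namespace Groth.Agent.H9.NNM

open MvPolynomial

universe u
variable {k : Type u} [Field k]

/-- an automorphism fixing the variables is trivial -/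
theorem eq_one_of_fix_X {ι : Type} (σ : InvFld.Fld ι k ≃ₐ[k] InvFld.Fld ι k)
    (h : ∀ i, σ (InvFld.X i) = InvFld.X i) : σ = 1 := by
  have h1 : (σ : InvFld.Fld ι k →ₐ[k] InvFld.Fld ι k).comp
      (IsScalarTower.toAlgHom k (MvPolynomial ι k) (InvFld.Fld ι k)) =
      IsScalarTower.toAlgHom k (MvPolynomial ι k) (InvFld.Fld ι k) := by
    apply MvPolynomial.algHom_ext
    intro i
    exact h i
  ext a
  obtain ⟨p, q, _, rfl⟩ := IsFractionRing.div_surjective (A := MvPolynomial ι k) a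
  have hp := DFunLike.congr_fun h1 p
  have hq := DFunLike.congr_fun h1 q
  simp only [AlgHom.comp_apply, IsScalarTower.coe_toAlgHom'] at hp hq
  have hp' : σ (algebraMap (MvPolynomial ι k) (InvFld.Fld ι k) p) =
      algebraMap (MvPolynomial ι k) (InvFld.Fld ι k) p := hp
  have hq' : σ (algebraMap (MvPolynomial ι k) (InvFld.Fld ι k) q) =
      algebraMap (MvPolynomial ι k) (InvFld.Fld ι k) q := hq
  rw [map_div₀, hp', hq']
  rfl

section Diag

variable {n m : ℕ}
  (G : Subgroup (InvFld.Fld (Fin n) k ≃ₐ[k] InvFld.Fld (Fin n) k))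
  (H : Subgroup (InvFld.Fld (Fin m) k ≃ₐ[k] InvFld.Fld (Fin m) k)) (e : G ≃* H)
  (hG : ∀ σ ∈ G, ∀ i : Fin n, σ (InvFld.X i) ∈ Submodule.span k
    (Set.range fun j : Fin n => (InvFld.X j : InvFld.Fld (Fin n) k)))
  (hH : ∀ τ ∈ H, ∀ i : Fin m, τ (InvFld.X i) ∈ Submodule.span k
    (Set.range fun j : Fin m => (InvFld.X j : InvFld.Fld (Fin m) k)))

/-- the diagonal action -/
noncomputable def diag : G →* (InvFld.Fld (Fin n ⊕ Fin m) k ≃ₐ[k] InvFld.Fld (Fin n ⊕ Fin m) k) :=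
  Psi (resHom G hG) ((resHom H hH).comp e.toMonoidHom)

theorem diag_j₁ (σ : G) (a : InvFld.Fld (Fin n) k) :
    diag G H e hG hH σ (j₁ a) = j₁ (σ.1 a) := by
  obtain ⟨p, q, _, rfl⟩ := IsFractionRing.div_surjective (A := MvPolynomial (Fin n) k) a
  have key : ∀ p : MvPolynomial (Fin n) k,
      diag G H e hG hH σ (j₁ (algebraMap _ (InvFld.Fld (Fin n) k) p)) =
        j₁ (σ.1 (algebraMap _ (InvFld.Fld (Fin n) k) p)) := by
    intro p
    rw [j₁_algebraMap, diag, Psi_algebraMap, tilde_rename_inl, ← j₁_algebraMap,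
      algebraMap_resHom]
  rw [map_div₀, map_div₀, map_div₀, map_div₀, key, key]

theorem diag_j₂ (σ : G) (b : InvFld.Fld (Fin m) k) :
    diag G H e hG hH σ (j₂ b) = j₂ ((e σ).1 b) := by
  obtain ⟨p, q, _, rfl⟩ := IsFractionRing.div_surjective (A := MvPolynomial (Fin m) k) b
  have key : ∀ p : MvPolynomial (Fin m) k,
      diag G H e hG hH σ (j₂ (algebraMap _ (InvFld.Fld (Fin m) k) p)) =
        j₂ ((e σ).1 (algebraMap _ (InvFld.Fld (Fin m) k) p)) := by
    intro p
    rw [j₂_algebraMap, diag, Psi_algebraMap, tilde_rename_inr, ← j₂_algebraMap]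
    congr 1
    exact algebraMap_resHom H hH (e σ) p
  rw [map_div₀, map_div₀, map_div₀, map_div₀, key, key]



theorem image_j₁ : (j₁ (k := k) (ι := Fin n) (κ := Fin m)) '' (Set.range fun j : Fin n =>
    (InvFld.X j : InvFld.Fld (Fin n) k)) =
    Set.range fun j : Fin n => (InvFld.X (Sum.inl j) : InvFld.Fld (Fin n ⊕ Fin m) k) := by
  rw [← Set.range_comp]
  congr 1
  funext j
  exact j₁_X j

theorem image_j₂ : (j₂ (k := k) (ι := Fin n) (κ := Fin m)) '' (Set.range fun j : Fin m =>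
    (InvFld.X j : InvFld.Fld (Fin m) k)) =
    Set.range fun j : Fin m => (InvFld.X (Sum.inr j) : InvFld.Fld (Fin n ⊕ Fin m) k) := by
  rw [← Set.range_comp]
  congr 1
  funext j
  exact j₂_X j

theorem fieldRange_j₁ : (j₁ (k := k) (ι := Fin n) (κ := Fin m)).fieldRange =
    IntermediateField.adjoin k (Set.range fun j : Fin n =>
      (InvFld.X (Sum.inl j) : InvFld.Fld (Fin n ⊕ Fin m) k)) := by
  rw [AlgHom.fieldRange_eq_map, ← adjoin_X_eq_top k (Fin n), IntermediateField.adjoin_map,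
    image_j₁]

theorem fieldRange_j₂ : (j₂ (k := k) (ι := Fin n) (κ := Fin m)).fieldRange =
    IntermediateField.adjoin k (Set.range fun j : Fin m =>
      (InvFld.X (Sum.inr j) : InvFld.Fld (Fin n ⊕ Fin m) k)) := by
  rw [AlgHom.fieldRange_eq_map, ← adjoin_X_eq_top k (Fin m), IntermediateField.adjoin_map,
    image_j₂]

include hG in
theorem diag_X_inl_mem (σ : G) (i : Fin n) :
    diag G H e hG hH σ (InvFld.X (Sum.inl i)) ∈ Submodule.span k
      (Set.range fun j : Fin n => (InvFld.X (Sum.inl j) : InvFld.Fld (Fin n ⊕ Fin m) k)) := by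
  rw [← j₁_X, diag_j₁, ← image_j₁]
  exact Submodule.apply_mem_span_image_of_mem_span (j₁ (k := k)).toLinearMap (hG σ.1 σ.2 i)

include hH in
theorem diag_X_inr_mem (σ : G) (i : Fin m) :
    diag G H e hG hH σ (InvFld.X (Sum.inr i)) ∈ Submodule.span k
      (Set.range fun j : Fin m => (InvFld.X (Sum.inr j) : InvFld.Fld (Fin n ⊕ Fin m) k)) := by
  rw [← j₂_X, diag_j₂, ← image_j₂]
  exact Submodule.apply_mem_span_image_of_mem_span (j₂ (k := k)).toLinearMap
    (hH (e σ).1 (e σ).2 i)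

theorem diag_faith₁ (σ : G)
    (h : ∀ i : Fin n, diag G H e hG hH σ (InvFld.X (Sum.inl i)) = InvFld.X (Sum.inl i)) :
    σ = 1 := by
  apply Subtype.ext
  apply eq_one_of_fix_X
  intro i
  have h1 := h i
  rw [← j₁_X, diag_j₁] at h1
  exact (j₁ (k := k) (ι := Fin n) (κ := Fin m)).injective h1

theorem diag_faith₂ (σ : G)
    (h : ∀ i : Fin m, diag G H e hG hH σ (InvFld.X (Sum.inr i)) = InvFld.X (Sum.inr i)) :
    σ = 1 := by
  have h2 : e σ = 1 := by
    apply Subtype.ext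
    apply eq_one_of_fix_X
    intro i
    have h1 := h i
    rw [← j₂_X, diag_j₂] at h1
    exact (j₂ (k := k) (ι := Fin n) (κ := Fin m)).injective h1
  exact e.injective (by rw [h2, map_one])

end Diag

theorem S15696_main (n m : ℕ)
    (G : Subgroup (InvFld.Fld (Fin n) k ≃ₐ[k] InvFld.Fld (Fin n) k)) [Finite G]
    (H : Subgroup (InvFld.Fld (Fin m) k ≃ₐ[k] InvFld.Fld (Fin m) k)) [Finite H] (e : G ≃* H)
    (hG : ∀ σ ∈ G, ∀ i : Fin n, σ (InvFld.X i) ∈ Submodule.span k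
      (Set.range fun j : Fin n => (InvFld.X j : InvFld.Fld (Fin n) k)))
    (hH : ∀ τ ∈ H, ∀ i : Fin m, τ (InvFld.X i) ∈ Submodule.span k
      (Set.range fun j : Fin m => (InvFld.X j : InvFld.Fld (Fin m) k))) :
    ∃ r s : ℕ, Nonempty (InvFld.Fld (Fin r) (IntermediateField.fixedField G) ≃ₐ[k]
      InvFld.Fld (Fin s) (IntermediateField.fixedField H)) := by
  set D := diag G H e hG hH with hD
  set G' : Subgroup (InvFld.Fld (Fin n ⊕ Fin m) k ≃ₐ[k] InvFld.Fld (Fin n ⊕ Fin m) k) :=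
    D.range with hG'
  haveI : Finite G' := Finite.of_surjective D.rangeRestrict D.rangeRestrict_surjective
  obtain ⟨t₁, ht₁, hF₁⟩ := noname_concrete k m (Equiv.sumComm (Fin m) (Fin n)) G'
    (by
      rintro _ ⟨σ, rfl⟩ i
      exact diag_X_inl_mem G H e hG hH σ i)
    (by
      rintro _ ⟨σ, rfl⟩ i
      exact diag_X_inr_mem G H e hG hH σ i)
    (by
      rintro _ ⟨σ, rfl⟩ h
      rw [diag_faith₁ G H e hG hH σ h, map_one])
  obtain ⟨t₂, ht₂, hF₂⟩ := noname_concrete k n (Equiv.refl (Fin n ⊕ Fin m)) G'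
    (by
      rintro _ ⟨σ, rfl⟩ i
      exact diag_X_inr_mem G H e hG hH σ i)
    (by
      rintro _ ⟨σ, rfl⟩ i
      exact diag_X_inl_mem G H e hG hH σ i)
    (by
      rintro _ ⟨σ, rfl⟩ h
      rw [diag_faith₂ G H e hG hH σ h, map_one])
  -- identifications of the base fields
  have hE₁ : (j₁ (k := k) (ι := Fin n) (κ := Fin m)).fieldRange ⊓ IntermediateField.fixedField G' =
      IntermediateField.adjoin k (Set.range fun j : Fin n =>
        (InvFld.X ((Equiv.sumComm (Fin m) (Fin n)) (Sum.inr j)) :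
          InvFld.Fld (Fin n ⊕ Fin m) k)) ⊓ IntermediateField.fixedField G' := by
    rw [fieldRange_j₁]
    rfl
  have hE₂ : (j₂ (k := k) (ι := Fin n) (κ := Fin m)).fieldRange ⊓ IntermediateField.fixedField G' =
      IntermediateField.adjoin k (Set.range fun j : Fin m =>
        (InvFld.X ((Equiv.refl (Fin n ⊕ Fin m)) (Sum.inr j)) :
          InvFld.Fld (Fin n ⊕ Fin m) k)) ⊓ IntermediateField.fixedField G' := by
    rw [fieldRange_j₂]
    rfl
  let I1 := (fixedEquiv (j₁ (k := k) (ι := Fin n) (κ := Fin m)) G G'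
    (by
      rintro _ ⟨σ, rfl⟩
      exact ⟨σ.1, σ.2, fun a => diag_j₁ G H e hG hH σ a⟩)
    (by
      intro g hg
      exact ⟨D ⟨g, hg⟩, ⟨⟨g, hg⟩, rfl⟩, fun a => diag_j₁ G H e hG hH ⟨g, hg⟩ a⟩)).trans
    (IntermediateField.equivOfEq hE₁)
  let I2 := (fixedEquiv (j₂ (k := k) (ι := Fin n) (κ := Fin m)) H G'
    (by
      rintro _ ⟨σ, rfl⟩
      exact ⟨(e σ).1, (e σ).2, fun b => diag_j₂ G H e hG hH σ b⟩)
    (by
      intro τ hτ
      refine ⟨D (e.symm ⟨τ, hτ⟩), ⟨e.symm ⟨τ, hτ⟩, rfl⟩, fun b => ?_⟩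
      have := diag_j₂ G H e hG hH (e.symm ⟨τ, hτ⟩) b
      rw [MulEquiv.apply_symm_apply] at this
      exact this)).trans
    (IntermediateField.equivOfEq hE₂)
  refine ⟨m, n, ⟨?_⟩⟩
  exact (fldCongr m I1).trans <| (fldEquivAdjoin _ t₁ ht₁).trans <|
    (adjoinEquivOfEq _ _ _ hF₁).trans <| (adjoinEquivOfEq _ _ _ hF₂).symm.trans <|
    (fldEquivAdjoin _ t₂ ht₂).symm.trans (fldCongr n I2).symm

end Groth.Agent.H9.NNM
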