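import Mathlib
import Groth.Agent.Lib.Helper5.McCoy

set_option autoImplicit false
set_option linter.style.haveILetI false
set_option linter.unusedSectionVars false
set_option linter.unusedVariables false

namespace Groth.Agent.H9.NRM

open Matrix

universe u

section McCoy

variable {T : Type u} [CommRing T] {n : ℕ}

lemma det_submatrix_eq_mul (M : Matrix (Fin n) (Fin n) T) (f g : Fin n → Fin n) :
    ∃ c : T, (M.submatrix f g).det = c * M.det := by
  by_cases hf : Function.Injective f
  · by_cases hg : Function.Injective g
    · have hf' : Function.Bijective f := Finite.injective_iff_bijective.mp hf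
      have hg' : Function.Bijective g := Finite.injective_iff_bijective.mp hg
      let σ : Equiv.Perm (Fin n) := Equiv.ofBijective f hf'
      let τ : Equiv.Perm (Fin n) := Equiv.ofBijective g hg'
      have h1 : M.submatrix f g = (M.submatrix σ id).submatrix id τ := by
        ext i j; rfl
      rw [h1, Matrix.det_permute', Matrix.det_permute]
      exact ⟨_, (mul_assoc _ _ _).symm⟩
    · obtain ⟨i, j, hij, hne⟩ : ∃ i j, g i = g j ∧ i ≠ j := by
        by_contra h
        push Not at h
        exact hg fun i j hij => h i j hij
      refine ⟨0, ?_⟩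
      rw [zero_mul]
      exact Matrix.det_zero_of_column_eq hne (fun k => by simp [hij])
  · obtain ⟨i, j, hij, hne⟩ : ∃ i j, f i = f j ∧ i ≠ j := by
      by_contra h
      push Not at h
      exact hf fun i j hij => h i j hij
    refine ⟨0, ?_⟩
    rw [zero_mul]
    exact Matrix.det_zero_of_row_eq hne (by ext k; simp [hij])

lemma isRegular_det_of_injective (M : Matrix (Fin n) (Fin n) T)
    (h : Function.Injective (Matrix.mulVecLin M)) : IsRegular M.det := by
  have hann := Groth.Agent.H5.annihilator_minorIdeal_eq_bot_of_injective M h
  rw [← isLeftRegular_iff_isRegular, isLeftRegular_iff_right_eq_zero_of_mul]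
  intro x hx
  have hmem : x ∈ (CAlgX.minorIdeal M n).annihilator := by
    rw [CAlgX.minorIdeal, Submodule.mem_annihilator_span]
    rintro ⟨_, ⟨f, g⟩, rfl⟩
    obtain ⟨c, hc⟩ := det_submatrix_eq_mul M f g
    show x • (M.submatrix f g).det = 0
    rw [hc, smul_eq_mul, mul_left_comm, mul_comm x, hx, mul_zero]
  rw [hann] at hmem
  simpa using hmem

lemma injective_of_isRegular_det (M : Matrix (Fin n) (Fin n) T)
    (h : IsRegular M.det) : Function.Injective (Matrix.mulVecLin M) := by
  rw [injective_iff_map_eq_zero]
  intro v hv
  have hv' : M *ᵥ v = 0 := hv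
  have h2 : M.adjugate *ᵥ (M *ᵥ v) = 0 := by rw [hv', Matrix.mulVec_zero]
  rw [Matrix.mulVec_mulVec, Matrix.adjugate_mul, Matrix.smul_mulVec, Matrix.one_mulVec] at h2
  funext i
  have h3 := congrFun h2 i
  simp only [Pi.smul_apply, smul_eq_mul, Pi.zero_apply] at h3
  exact (isLeftRegular_iff_right_eq_zero_of_mul.mp h.left) _ h3

end McCoy

section Norm

variable {T S : Type u} [CommRing T] [CommRing S] [Algebra T S] {n : ℕ}

lemma isRegular_iff_injective_lmul (z : S) :
    IsRegular z ↔ Function.Injective (Algebra.lmul T S z) := by
  rw [← isLeftRegular_iff_isRegular]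
  rfl

lemma injective_lmul_iff (b : Module.Basis (Fin n) T S) (z : S) :
    Function.Injective (Algebra.lmul T S z) ↔
      Function.Injective (Matrix.mulVecLin (Algebra.leftMulMatrix b z)) := by
  have key : ∀ y : S, (Algebra.leftMulMatrix b z) *ᵥ (b.equivFun y) = b.equivFun (z * y) := by
    intro y
    have := Algebra.leftMulMatrix_mulVec_repr b z y
    simpa using this
  constructor
  · intro h
    rw [injective_iff_map_eq_zero]
    intro v hv
    have hv' : (Algebra.leftMulMatrix b z) *ᵥ v = 0 := hv
    obtain ⟨y, rfl⟩ := b.equivFun.surjective v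
    rw [key] at hv'
    have h0 : z * y = 0 := by
      have := b.equivFun.injective (hv'.trans (map_zero _).symm)
      exact this
    have : y = 0 := h (by simpa using h0)
    rw [this, map_zero]
  · intro h
    rw [injective_iff_map_eq_zero]
    intro y hy
    have hy' : z * y = 0 := hy
    have h1 : (Algebra.leftMulMatrix b z) *ᵥ (b.equivFun y) = 0 := by
      rw [key, hy', map_zero]
    have h2 : b.equivFun y = 0 := h (by simpa using h1)
    exact b.equivFun.injective (h2.trans (map_zero _).symm)

theorem isRegular_iff_isRegular_norm (b : Module.Basis (Fin n) T S) (z : S) :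
    IsRegular z ↔ IsRegular (Algebra.norm T z) := by
  rw [Algebra.norm_eq_matrix_det b, isRegular_iff_injective_lmul (T := T), injective_lmul_iff b]
  exact ⟨isRegular_det_of_injective _, injective_of_isRegular_det _⟩

end Norm

end Groth.Agent.H9.NRM
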