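import Mathlib

set_option autoImplicit false
set_option linter.style.haveILetI false
set_option linter.unusedSectionVars false
set_option linter.unusedVariables false

namespace Groth.Agent.H9.NRM

open Matrix
open scoped TensorProduct

universe u

section Generic

variable {K L C S : Type u} [Field K] [Field L] [Algebra K L] [CommRing C] [CommRing S]
  [Algebra C S] {n m : ℕ}

/-- left multiplication matrix of the image of an element under a "base change" map. -/
lemma leftMulMatrix_map (ι : K →+* C) (j : L →+* S)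
    (hcompat : ∀ (a : K) (l : L), j (a • l) = ι a • j l)
    (e : Module.Basis (Fin n) K L) (bC : Module.Basis (Fin n) C S) (hb : ∀ i, bC i = j (e i))
    (b : L) :
    Algebra.leftMulMatrix bC (j b) = (Algebra.leftMulMatrix e b).map ι := by
  ext i l
  rw [Algebra.leftMulMatrix_eq_repr_mul, hb, ← map_mul, Matrix.map_apply]
  have h1 : b * e l = ∑ i, (Algebra.leftMulMatrix e b i l) • e i := by
    conv_lhs => rw [← e.sum_repr (b * e l)]
    refine Finset.sum_congr rfl fun i _ => ?_
    rw [Algebra.leftMulMatrix_eq_repr_mul]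
  rw [h1, map_sum]
  simp_rw [hcompat, ← hb]
  rw [Module.Basis.repr_sum_self]

/-- the universal norm polynomial. -/
noncomputable def Npoly (e : Module.Basis (Fin n) K L) (bs : Fin m → L) :
    MvPolynomial (Fin m) K :=
  (∑ j, (MvPolynomial.X j : MvPolynomial (Fin m) K) •
    (Algebra.leftMulMatrix e (bs j)).map (MvPolynomial.C : K →+* MvPolynomial (Fin m) K)).det

lemma norm_eq_eval_Npoly (ι : K →+* C) (j : L →+* S)
    (hcompat : ∀ (a : K) (l : L), j (a • l) = ι a • j l)
    (e : Module.Basis (Fin n) K L) (bC : Module.Basis (Fin n) C S) (hb : ∀ i, bC i = j (e i))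
    (bs : Fin m → L) (c : Fin m → C) :
    Algebra.norm C (∑ i, c i • j (bs i)) = MvPolynomial.eval₂Hom ι c (Npoly e bs) := by
  rw [Algebra.norm_eq_matrix_det bC, Npoly, RingHom.map_det]
  congr 1
  rw [map_sum, map_sum]
  refine Finset.sum_congr rfl fun i _ => ?_
  rw [map_smul, leftMulMatrix_map ι j hcompat e bC hb]
  ext a b
  simp

end Generic

section TensorBasis

variable (k K L R : Type u) [Field k] [Field K] [Algebra k K] [Field L] [Algebra K L]
  [Algebra k L] [IsScalarTower k K L] [CommRing R] [Algebra k R] {n : ℕ}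

/-- the algebra structure of `L ⊗ R` over `K ⊗ R`. -/
@[reducible] noncomputable def algTR : Algebra (K ⊗[k] R) (L ⊗[k] R) :=
  (Algebra.TensorProduct.map (IsScalarTower.toAlgHom k K L) (AlgHom.id k R)).toRingHom.toAlgebra

attribute [local instance] algTR

variable {k K L R}

lemma algTR_smul_def (c : K ⊗[k] R) (z : L ⊗[k] R) :
    c • z = (Algebra.TensorProduct.map (IsScalarTower.toAlgHom k K L) (AlgHom.id k R)) c * z := by
  rw [Algebra.smul_def]
  rfl

lemma algTR_tmul_smul_tmul (a : K) (r s : R) (l : L) :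
    (a ⊗ₜ[k] r : K ⊗[k] R) • (l ⊗ₜ[k] s : L ⊗[k] R) = (a • l) ⊗ₜ[k] (r * s) := by
  rw [algTR_smul_def, Algebra.TensorProduct.map_tmul, Algebra.TensorProduct.tmul_mul_tmul]
  simp [Algebra.smul_def]

/-- coordinate maps. -/
noncomputable def rho (e : Module.Basis (Fin n) K L) (i : Fin n) : L ⊗[k] R →ₗ[k] K ⊗[k] R :=
  TensorProduct.map ((e.coord i).restrictScalars k) LinearMap.id

@[simp] lemma rho_tmul (e : Module.Basis (Fin n) K L) (i : Fin n) (l : L) (s : R) :
    rho (k := k) (R := R) e i (l ⊗ₜ s) = (e.repr l i) ⊗ₜ s := by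
  simp [rho]

lemma rho_smul (e : Module.Basis (Fin n) K L) (i : Fin n) (c : K ⊗[k] R) (z : L ⊗[k] R) :
    rho e i (c • z) = c * rho e i z := by
  induction c using TensorProduct.induction_on with
  | zero => simp
  | add c₁ c₂ h₁ h₂ => rw [add_smul, map_add, h₁, h₂, add_mul]
  | tmul a r =>
    induction z using TensorProduct.induction_on with
    | zero => simp
    | add z₁ z₂ h₁ h₂ => rw [smul_add, map_add, h₁, h₂, map_add, mul_add]
    | tmul l s =>
      rw [algTR_tmul_smul_tmul, rho_tmul, rho_tmul, Algebra.TensorProduct.tmul_mul_tmul]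
      simp

lemma rho_basis (e : Module.Basis (Fin n) K L) (i j : Fin n) :
    rho (k := k) (R := R) e i (e j ⊗ₜ 1) = if j = i then 1 else 0 := by
  rw [rho_tmul, Module.Basis.repr_self, Finsupp.single_apply]
  split_ifs with h
  · rfl
  · exact TensorProduct.zero_tmul _ _

lemma sum_rho_smul (e : Module.Basis (Fin n) K L) (z : L ⊗[k] R) :
    ∑ i, rho e i z • (e i ⊗ₜ[k] (1 : R) : L ⊗[k] R) = z := by
  induction z using TensorProduct.induction_on with
  | zero => simp
  | add z₁ z₂ h₁ h₂ =>
    simp_rw [map_add, add_smul, Finset.sum_add_distrib]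
    rw [h₁, h₂]
  | tmul l s =>
    simp_rw [rho_tmul, algTR_tmul_smul_tmul, mul_one]
    rw [← TensorProduct.sum_tmul, e.sum_repr]

/-- the basis `e i ⊗ 1` of `L ⊗ R` over `K ⊗ R`. -/
noncomputable def tbasis (e : Module.Basis (Fin n) K L) :
    Module.Basis (Fin n) (K ⊗[k] R) (L ⊗[k] R) :=
  Module.Basis.mk (v := fun i => (e i ⊗ₜ[k] (1 : R) : L ⊗[k] R))
    (by
      rw [Fintype.linearIndependent_iff]
      intro g hg i
      have := congrArg (rho e i) hg
      rw [map_sum, map_zero] at this
      simp_rw [rho_smul, rho_basis] at this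
      simpa using this)
    (by
      intro z _
      rw [← sum_rho_smul e z]
      exact Submodule.sum_mem _ fun i _ =>
        Submodule.smul_mem _ _ (Submodule.subset_span ⟨i, rfl⟩))

@[simp] lemma tbasis_apply (e : Module.Basis (Fin n) K L) (i : Fin n) :
    tbasis (k := k) (R := R) e i = e i ⊗ₜ 1 := by
  simp [tbasis]

end TensorBasis

end Groth.Agent.H9.NRM
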