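import Mathlib
import Groth.Agent.Lib.Helper9.Misc.NRM2

set_option autoImplicit false
set_option linter.style.haveILetI false
set_option linter.unusedSectionVars false
set_option linter.unusedVariables false

namespace Groth.Agent.H9.NRM

open Matrix Polynomial
open scoped TensorProduct

universe u

section AlgClosed

variable {R₀ Ω S' : Type u} [CommRing R₀] [Field Ω] [IsAlgClosed Ω] [CommRing S'] [Algebra Ω S']
  [Module.Finite Ω S'] [Algebra R₀ Ω] [Algebra R₀ S'] [IsScalarTower R₀ Ω S']

lemma isIntegral_norm_of_isAlgClosed (β : S') (hβ : IsIntegral R₀ β) :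
    IsIntegral R₀ (Algebra.norm Ω β) := by
  rw [Algebra.norm_apply,
    Module.End.det_eq_prod_roots_charpoly_of_splits (IsAlgClosed.splits _)]
  refine IsIntegral.multiset_prod fun μ hμ => ?_
  have hroot : (Algebra.lmul Ω S' β).charpoly.IsRoot μ := (Polynomial.mem_roots'.mp hμ).2
  have hev := (Module.End.hasEigenvalue_iff_isRoot_charpoly _ μ).mpr hroot
  obtain ⟨v, hv⟩ := hev.exists_hasEigenvector
  obtain ⟨g, hg, hgβ⟩ := hβ
  refine ⟨g, hg, ?_⟩
  have h1 := Module.End.aeval_apply_of_hasEigenvector (p := g.map (algebraMap R₀ Ω)) hv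
  have h3 : aeval β (g.map (algebraMap R₀ Ω)) = 0 := by
    rw [aeval_map_algebraMap]
    exact hgβ
  have h2 : aeval (Algebra.lmul Ω S' β) (g.map (algebraMap R₀ Ω)) = 0 := by
    rw [Polynomial.aeval_algHom_apply (Algebra.lmul Ω S') β, h3, map_zero]
  rw [h2, LinearMap.zero_apply] at h1
  have h4 := (smul_eq_zero.mp h1.symm).resolve_right hv.2
  rwa [Polynomial.eval_map] at h4

end AlgClosed

end Groth.Agent.H9.NRM

namespace Groth.Agent.H9.NRM

open Matrix Polynomial
open scoped TensorProduct

universe u

section Coeff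

attribute [local instance] MvPolynomial.algebraMvPolynomial

variable {A K L : Type u} [CommRing A] [IsDomain A] [IsIntegrallyClosed A]
  [Field K] [Algebra A K] [IsFractionRing A K]
  [Field L] [Algebra K L] [FiniteDimensional K L] [Algebra A L] [IsScalarTower A K L] {n m : ℕ}

theorem Npoly_isIntegral (e : Module.Basis (Fin n) K L) (bs : Fin m → L)
    (hbs : ∀ j, IsIntegral A (bs j)) :
    IsIntegral (MvPolynomial (Fin m) A) (Npoly e bs) := by
  classical
  let PA := MvPolynomial (Fin m) A
  let PK := MvPolynomial (Fin m) K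
  let F := FractionRing PK
  let Ω := AlgebraicClosure F
  have hinj : Function.Injective (algebraMap PK Ω) := by
    rw [IsScalarTower.algebraMap_eq PK F Ω]
    exact (algebraMap F Ω).injective.comp (IsFractionRing.injective PK F)
  rw [← isIntegral_algebraMap_iff hinj]
  -- the element β'
  let c : Fin m → Ω := fun j => algebraMap PK Ω (MvPolynomial.X j)
  let j : L →+* Ω ⊗[K] L := (Algebra.TensorProduct.includeRight : L →ₐ[K] Ω ⊗[K] L).toRingHom
  have hj : ∀ l, j l = 1 ⊗ₜ l := fun l => rfl
  have hcompat : ∀ (a : K) (l : L), j (a • l) = algebraMap K Ω a • j l := by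
    intro a l
    rw [hj, hj, TensorProduct.smul_tmul', ← TensorProduct.smul_tmul, Algebra.smul_def, mul_one]
    rw [smul_eq_mul, mul_one]
  have hnorm := norm_eq_eval_Npoly (algebraMap K Ω) j hcompat e (Algebra.TensorProduct.basis Ω e)
    (fun i => by rw [Algebra.TensorProduct.basis_apply, hj]) bs c
  have hev : MvPolynomial.eval₂Hom (algebraMap K Ω) c = algebraMap PK Ω := by
    apply MvPolynomial.ringHom_ext
    · intro a
      rw [MvPolynomial.eval₂Hom_C]
      rw [IsScalarTower.algebraMap_apply K PK Ω]
      rfl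
    · intro i
      rw [MvPolynomial.eval₂Hom_X']
  rw [hev] at hnorm
  rw [← hnorm]
  apply isIntegral_norm_of_isAlgClosed
  refine IsIntegral.sum _ fun i _ => ?_
  rw [Algebra.smul_def]
  refine IsIntegral.mul ?_ ?_
  · refine IsIntegral.algebraMap ?_
    have : c i = algebraMap PA Ω (MvPolynomial.X i) := by
      show algebraMap PK Ω (MvPolynomial.X i) = _
      rw [IsScalarTower.algebraMap_apply PA PK Ω]
      congr 1
      rw [MvPolynomial.algebraMap_def, MvPolynomial.map_X]
    rw [this]
    exact isIntegral_algebraMap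
  · have h1 : IsIntegral A (j (bs i)) :=
      (hbs i).map ((Algebra.TensorProduct.includeRight : L →ₐ[K] Ω ⊗[K] L).restrictScalars A)
    exact h1.tower_top

theorem Npoly_mem_range (e : Module.Basis (Fin n) K L) (bs : Fin m → L)
    (hbs : ∀ j, IsIntegral A (bs j)) :
    Npoly e bs ∈ Set.range (MvPolynomial.map (algebraMap A K) :
      MvPolynomial (Fin m) A → MvPolynomial (Fin m) K) := by
  have h := MvPolynomial.isIntegral_iff_isIntegral_coeff.mp (Npoly_isIntegral e bs hbs)
  rw [MvPolynomial.mem_range_map_iff_coeffs_subset]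
  intro x hx
  obtain ⟨d, hd, rfl⟩ := MvPolynomial.mem_coeffs_iff.mp hx
  exact IsIntegrallyClosed.isIntegral_iff.mp (h d)

end Coeff

end Groth.Agent.H9.NRM
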