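import Mathlib
import Groth.Agent.Lib.Helper9.Misc.NRM1
import Groth.Agent.Lib.Helper9.Misc.NRM3

set_option autoImplicit false
set_option linter.style.haveILetI false
set_option linter.unusedSectionVars false
set_option linter.unusedVariables false

namespace Groth.Agent.H9.NRM

open Matrix Polynomial
open scoped TensorProduct

universe u

section Main

variable (k A K L R : Type u) [Field k]
    [CommRing A] [IsDomain A] [IsIntegrallyClosed A] [Algebra k A]
    [Field K] [Algebra A K] [IsFractionRing A K] [Algebra k K] [IsScalarTower k A K]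
    [Field L] [Algebra K L] [FiniteDimensional K L] [Algebra A L] [IsScalarTower A K L]
    [Algebra k L] [IsScalarTower k K L] [IsScalarTower k A L]
    [CommRing R] [Algebra k R]

attribute [local instance] algTR

/-- the map `B ⊗ R → L ⊗ R`. -/
noncomputable abbrev iotaR : (integralClosure A L) ⊗[k] R →ₐ[k] L ⊗[k] R :=
  Algebra.TensorProduct.map ((integralClosure A L).val.restrictScalars k) (AlgHom.id k R)

variable {k A K L R}

lemma iotaR_injective : Function.Injective (iotaR k A L R) := by
  have h1 : Function.Injective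
      (LinearMap.rTensor R (((integralClosure A L).val.restrictScalars k).toLinearMap)) :=
    Module.Flat.rTensor_preserves_injective_linearMap _ Subtype.val_injective
  intro x y hxy
  apply h1
  have h2 : ∀ z, (LinearMap.rTensor R
      (((integralClosure A L).val.restrictScalars k).toLinearMap)) z = iotaR k A L R z := by
    intro z
    induction z using TensorProduct.induction_on with
    | zero => simp
    | add z₁ z₂ h₁ h₂ => rw [map_add, map_add, h₁, h₂]
    | tmul b r => simp
  rw [h2, h2, hxy]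

lemma exists_clear (halg : Algebra.IsAlgebraic A L) (y : L ⊗[k] R) :
    ∃ s : A, s ≠ 0 ∧ ∃ y' : (integralClosure A L) ⊗[k] R,
    iotaR k A L R y' = (algebraMap A L s ⊗ₜ[k] (1 : R)) * y := by
  induction y using TensorProduct.induction_on with
  | zero => exact ⟨1, one_ne_zero, 0, by simp⟩
  | tmul l r =>
    obtain ⟨s, hs, hint⟩ := (halg.isAlgebraic l).exists_integral_multiple
    refine ⟨s, hs, (⟨s • l, hint⟩ : integralClosure A L) ⊗ₜ r, ?_⟩
    rw [Algebra.TensorProduct.map_tmul, Algebra.TensorProduct.tmul_mul_tmul, one_mul,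
      ← Algebra.smul_def]
    rfl
  | add y₁ y₂ h₁ h₂ =>
    obtain ⟨s₁, hs₁, y₁', hy₁⟩ := h₁
    obtain ⟨s₂, hs₂, y₂', hy₂⟩ := h₂
    refine ⟨s₁ * s₂, mul_ne_zero hs₁ hs₂,
      (algebraMap A (integralClosure A L) s₂ ⊗ₜ 1) * y₁' +
        (algebraMap A (integralClosure A L) s₁ ⊗ₜ 1) * y₂', ?_⟩
    have hm : ∀ s : A, iotaR k A L R (algebraMap A (integralClosure A L) s ⊗ₜ 1) =
        algebraMap A L s ⊗ₜ 1 := by
      intro s
      rw [Algebra.TensorProduct.map_tmul]
      rfl
    rw [map_add, map_mul, map_mul, hm, hm, hy₁, hy₂, map_mul, mul_add]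
    have : ((algebraMap A L s₁ * algebraMap A L s₂) ⊗ₜ[k] (1 : R) : L ⊗[k] R) =
        (algebraMap A L s₁ ⊗ₜ 1) * (algebraMap A L s₂ ⊗ₜ 1) := by
      rw [Algebra.TensorProduct.tmul_mul_tmul, mul_one]
    rw [this]
    ring

lemma isRegular_iotaR_iff (halg : Algebra.IsAlgebraic A L)
    (hinj : Function.Injective (algebraMap A L)) (b : (integralClosure A L) ⊗[k] R) :
    IsRegular b ↔ IsRegular (iotaR k A L R b) := by
  rw [← isLeftRegular_iff_isRegular, ← isLeftRegular_iff_isRegular,
    isLeftRegular_iff_right_eq_zero_of_mul, isLeftRegular_iff_right_eq_zero_of_mul]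
  constructor
  · intro h y hy
    obtain ⟨s, hs, y', hy'⟩ := exists_clear (k := k) (A := A) halg y
    have h1 : iotaR k A L R (b * y') = 0 := by
      rw [map_mul, hy', mul_left_comm, hy, mul_zero]
    have h2 : b * y' = 0 := iotaR_injective (h1.trans (map_zero _).symm)
    have h3 : y' = 0 := h _ h2
    rw [h3, map_zero] at hy'
    have hsL : algebraMap A L s ≠ 0 := fun h0 => hs ((map_eq_zero_iff _ hinj).mp h0)
    have h5 : (((algebraMap A L s)⁻¹ ⊗ₜ[k] (1 : R) : L ⊗[k] R)) *
        ((algebraMap A L s ⊗ₜ[k] (1 : R)) * y) = y := by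
      rw [← mul_assoc, Algebra.TensorProduct.tmul_mul_tmul, inv_mul_cancel₀ hsL, mul_one,
        ← Algebra.TensorProduct.one_def, one_mul]
    rw [← h5, ← hy', mul_zero]
  · intro h y hy
    have h1 : iotaR k A L R b * iotaR k A L R y = 0 := by
      rw [← map_mul, hy, map_zero]
    exact iotaR_injective ((h _ h1).trans (map_zero _).symm)

variable (k A K L R)

theorem main :
    letI : Algebra (K ⊗[k] R) (L ⊗[k] R) :=
      (Algebra.TensorProduct.map (IsScalarTower.toAlgHom k K L) (AlgHom.id k R)).toRingHom.toAlgebra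
    Module.Free (K ⊗[k] R) (L ⊗[k] R) ∧ Module.Finite (K ⊗[k] R) (L ⊗[k] R) ∧
      ∀ b : (integralClosure A L) ⊗[k] R,
        Algebra.norm (K ⊗[k] R)
            (Algebra.TensorProduct.map ((integralClosure A L).val.restrictScalars k) (AlgHom.id k R) b) ∈
          Set.range (Algebra.TensorProduct.map (IsScalarTower.toAlgHom k A K) (AlgHom.id k R)) ∧
        (IsRegular b ↔ IsRegular (Algebra.norm (K ⊗[k] R)
            (Algebra.TensorProduct.map ((integralClosure A L).val.restrictScalars k) (AlgHom.id k R) b))) := by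
  classical
  let e := Module.finBasis K L
  refine ⟨Module.Free.of_basis (tbasis e), Module.Finite.of_basis (tbasis e), fun b => ⟨?_, ?_⟩⟩
  · obtain ⟨S, hS⟩ := TensorProduct.exists_finset b
    let m := S.card
    let bs : Fin m → L := fun j => ((S.equivFin.symm j).1.1 : L)
    let rs : Fin m → R := fun j => (S.equivFin.symm j).1.2
    have hb : iotaR k A L R b = ∑ j, (1 ⊗ₜ[k] rs j : K ⊗[k] R) •
        ((Algebra.TensorProduct.includeLeftRingHom : L →+* L ⊗[k] R) (bs j)) := by
      rw [hS, map_sum, ← Finset.sum_coe_sort S, ← Equiv.sum_comp S.equivFin.symm]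
      refine Finset.sum_congr rfl fun j _ => ?_
      rw [Algebra.TensorProduct.map_tmul]
      show _ = (1 ⊗ₜ[k] rs j : K ⊗[k] R) • (bs j ⊗ₜ[k] (1 : R) : L ⊗[k] R)
      rw [algTR_tmul_smul_tmul, one_smul, mul_one]
      rfl
    have hcompat : ∀ (a : K) (l : L),
        (Algebra.TensorProduct.includeLeftRingHom : L →+* L ⊗[k] R) (a • l) =
          (Algebra.TensorProduct.includeLeftRingHom : K →+* K ⊗[k] R) a •
            (Algebra.TensorProduct.includeLeftRingHom : L →+* L ⊗[k] R) l := by
      intro a l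
      show ((a • l) ⊗ₜ[k] (1 : R) : L ⊗[k] R) = (a ⊗ₜ[k] (1 : R) : K ⊗[k] R) • (l ⊗ₜ[k] (1 : R))
      rw [algTR_tmul_smul_tmul, mul_one]
    have hnorm := norm_eq_eval_Npoly
      (Algebra.TensorProduct.includeLeftRingHom : K →+* K ⊗[k] R)
      (Algebra.TensorProduct.includeLeftRingHom : L →+* L ⊗[k] R) hcompat e (tbasis e)
      (fun i => by rw [tbasis_apply]; rfl) bs (fun j => (1 ⊗ₜ[k] rs j : K ⊗[k] R))
    obtain ⟨NA, hNA⟩ := Npoly_mem_range (A := A) e bs
      (fun j => (S.equivFin.symm j).1.1.2)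
    show Algebra.norm (K ⊗[k] R) (iotaR k A L R b) ∈ _
    rw [hb, hnorm, ← hNA, MvPolynomial.eval₂Hom_map_hom]
    refine ⟨MvPolynomial.eval₂Hom (Algebra.TensorProduct.includeLeftRingHom : A →+* A ⊗[k] R)
      (fun j => (1 ⊗ₜ[k] rs j : A ⊗[k] R)) NA, ?_⟩
    have := MvPolynomial.eval₂_comp_left
      ((Algebra.TensorProduct.map (IsScalarTower.toAlgHom k A K) (AlgHom.id k R)).toRingHom)
      (Algebra.TensorProduct.includeLeftRingHom : A →+* A ⊗[k] R)
      (fun j => (1 ⊗ₜ[k] rs j : A ⊗[k] R)) NA
    refine this.trans ?_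
    show MvPolynomial.eval₂ _ _ NA = MvPolynomial.eval₂ _ _ NA
    congr 1
    ext a
    simp
  · show IsRegular b ↔ IsRegular (Algebra.norm (K ⊗[k] R) (iotaR k A L R b))
    have := IsLocalization.isAlgebraic K (nonZeroDivisors A)
    have halg : Algebra.IsAlgebraic A L := Algebra.IsAlgebraic.trans A K L
    have hinj : Function.Injective (algebraMap A L) := by
      rw [IsScalarTower.algebraMap_eq A K L]
      exact (algebraMap K L).injective.comp (IsFractionRing.injective A K)
    rw [isRegular_iotaR_iff halg hinj, isRegular_iff_isRegular_norm (tbasis e)]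

end Main

end Groth.Agent.H9.NRM
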