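import Mathlib
import Groth.Agent.H4.NumGenusOne

/-! Helper9: numerical types, ambient containment lemmas. -/

namespace Groth.Agent.H9.NT

open Models Finset Groth.Agent.H4.NumType

variable {n : ℕ} (T : NumericalType n)

theorem sum_m_aX (X : Fin n → ℤ) : ∑ l, T.m l * ∑ j, T.a l j * X j = 0 := by
  have : ∑ l, T.m l * ∑ j, T.a l j * X j = ∑ j, X j * ∑ l, T.a j l * T.m l := by
    simp_rw [Finset.mul_sum]
    rw [Finset.sum_comm]
    apply Finset.sum_congr rfl; intro j _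
    apply Finset.sum_congr rfl; intro l _
    rw [a_symm T l j]; ring
  rw [this]
  simp [row_eq]

/-- containment: a non-negative non-zero vector with `a X ≥ 0` on its support has full support and
is in the kernel. -/
theorem contain (X : Fin n → ℤ) (hX0 : ∀ i, 0 ≤ X i) (hpos : ∃ i, 0 < X i)
    (h : ∀ l, 0 < X l → 0 ≤ ∑ j, T.a l j * X j) :
    (∀ l, 0 < X l) ∧ ∀ l, ∑ j, T.a l j * X j = 0 := by
  have hall : ∀ l, 0 < X l := by
    by_contra hcon
    push Not at hcon
    obtain ⟨i, hi⟩ := hcon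
    exact key T X hX0 hpos ⟨i, le_antisymm hi (hX0 i)⟩ h
  refine ⟨hall, ?_⟩
  have hterm : ∀ l, 0 ≤ ∑ j, T.a l j * X j := fun l => h l (hall l)
  have hsum := sum_m_aX T X
  intro l
  have hz := (Finset.sum_eq_zero_iff_of_nonneg
    (fun l _ => mul_nonneg (T.m_pos l).le (hterm l))).1 hsum l (mem_univ l)
  rcases mul_eq_zero.1 hz with h0 | h0
  · exact absurd h0 (T.m_pos l).ne'
  · exact h0

/-- finite type certificate -/
theorem cert (z : Fin n → ℤ) (h : ∀ l, ∑ j, T.a l j * z j ≤ 0)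
    (hs : ∃ l, ∑ j, T.a l j * z j < 0) : False := by
  have hsum := sum_m_aX T z
  obtain ⟨l0, hl0⟩ := hs
  have : ∑ l, T.m l * ∑ j, T.a l j * z j < 0 := by
    apply Finset.sum_neg'
    · intro l _
      exact mul_nonpos_of_nonneg_of_nonpos (T.m_pos l).le (h l)
    · exact ⟨l0, mem_univ _, mul_neg_of_pos_of_neg (T.m_pos l0) hl0⟩
  omega

/-- the kernel of `a` is spanned by `m` -/
theorem ker_prop (Y : Fin n → ℤ) (hY : ∀ l, ∑ j, T.a l j * Y j = 0) (i j : Fin n) :
    Y i * T.m j = Y j * T.m i := by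
  have hne : (Finset.univ : Finset (Fin n)).Nonempty := ⟨i, mem_univ _⟩
  obtain ⟨i1, -, hi1⟩ := Finset.exists_min_image Finset.univ (fun i => (Y i : ℚ) / T.m i) hne
  have hmin : ∀ i, Y i1 * T.m i ≤ Y i * T.m i1 := by
    intro i
    have h := hi1 i (mem_univ _)
    have h1 : (0 : ℚ) < T.m i1 := by exact_mod_cast T.m_pos i1
    have h2 : (0 : ℚ) < T.m i := by exact_mod_cast T.m_pos i
    rw [div_le_div_iff₀ h1 h2] at h
    exact_mod_cast h
  set Z : Fin n → ℤ := fun i => T.m i1 * Y i - Y i1 * T.m i with hZ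
  have hZ0 : ∀ i, 0 ≤ Z i := by
    intro i
    have := hmin i
    simp only [hZ]
    linarith
  have hZi1 : Z i1 = 0 := by simp only [hZ]; ring
  have hZrow : ∀ l, ∑ j, T.a l j * Z j = 0 := by
    intro l
    have h1 : ∑ j, T.a l j * Z j = T.m i1 * ∑ j, T.a l j * Y j - Y i1 * ∑ j, T.a l j * T.m j := by
      rw [Finset.mul_sum, Finset.mul_sum, ← Finset.sum_sub_distrib]
      apply Finset.sum_congr rfl
      intro j _
      simp only [hZ]
      ring
    rw [h1, hY l, row_eq T l]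
    ring
  have hZall : ∀ i, Z i = 0 := by
    by_contra hcon
    push Not at hcon
    obtain ⟨i0, hi0⟩ := hcon
    have : 0 < Z i0 := lt_of_le_of_ne (hZ0 i0) (Ne.symm hi0)
    exact key T Z hZ0 ⟨i0, this⟩ ⟨i1, hZi1⟩ (fun l _ => (hZrow l).ge)
  have e1 : T.m i1 * Y i = Y i1 * T.m i := by
    have := hZall i
    simp only [hZ] at this
    linarith
  have e2 : T.m i1 * Y j = Y i1 * T.m j := by
    have := hZall j
    simp only [hZ] at this
    linarith
  have hm := T.m_pos i1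
  have : T.m i1 * (Y i * T.m j) = T.m i1 * (Y j * T.m i) := by
    calc T.m i1 * (Y i * T.m j) = (T.m i1 * Y i) * T.m j := by ring
      _ = (Y i1 * T.m i) * T.m j := by rw [e1]
      _ = (Y i1 * T.m j) * T.m i := by ring
      _ = (T.m i1 * Y j) * T.m i := by rw [e2]
      _ = T.m i1 * (Y j * T.m i) := by ring
  exact mul_left_cancel₀ hm.ne' this

/-- lower bound of a row by selected terms -/
theorem row_lb (X : Fin n → ℤ) (hX : ∀ j, 0 ≤ X j) (l : Fin n) (J : Finset (Fin n)) (hlJ : l ∉ J)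
    (lb : Fin n → ℤ) (hlb : ∀ j ∈ J, lb j ≤ T.a l j) :
    T.a l l * X l + ∑ j ∈ J, lb j * X j ≤ ∑ j, T.a l j * X j := by
  classical
  have h1 : ∑ j, T.a l j * X j =
      ∑ j ∈ insert l J, T.a l j * X j + ∑ j ∈ (insert l J)ᶜ, T.a l j * X j :=
    (Finset.sum_add_sum_compl _ _).symm
  rw [Finset.sum_insert hlJ] at h1
  have h2 : 0 ≤ ∑ j ∈ (insert l J)ᶜ, T.a l j * X j := by
    apply Finset.sum_nonneg
    intro j hj
    have hjl : l ≠ j := by
      rintro rfl
      simp at hj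
    exact mul_nonneg (T.offDiag_nonneg _ _ hjl) (hX j)
  have h3 : ∑ j ∈ J, lb j * X j ≤ ∑ j ∈ J, T.a l j * X j :=
    Finset.sum_le_sum (fun j hj => mul_le_mul_of_nonneg_right (hlb j hj) (hX j))
  linarith

/-- exactness of a row which vanishes -/
theorem row_exact (X : Fin n → ℤ) (hX : ∀ j, 0 < X j) (l : Fin n)
    (hrow : ∑ j, T.a l j * X j = 0)
    (J : Finset (Fin n)) (hlJ : l ∉ J)
    (lb : Fin n → ℤ) (hlb : ∀ j ∈ J, lb j ≤ T.a l j)
    (hsum : 0 ≤ T.a l l * X l + ∑ j ∈ J, lb j * X j) :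
    (∀ j ∈ J, T.a l j = lb j) ∧ (∀ j, j ∉ J → j ≠ l → T.a l j = 0) := by
  classical
  have h1 : ∑ j, T.a l j * X j =
      ∑ j ∈ insert l J, T.a l j * X j + ∑ j ∈ (insert l J)ᶜ, T.a l j * X j :=
    (Finset.sum_add_sum_compl _ _).symm
  rw [Finset.sum_insert hlJ] at h1
  have hnn : ∀ j ∈ (insert l J)ᶜ, 0 ≤ T.a l j * X j := by
    intro j hj
    have hjl : l ≠ j := by
      rintro rfl
      simp at hj
    exact mul_nonneg (T.offDiag_nonneg _ _ hjl) (hX j).le
  have h2 : 0 ≤ ∑ j ∈ (insert l J)ᶜ, T.a l j * X j := Finset.sum_nonneg hnn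
  have hnn3 : ∀ j ∈ J, 0 ≤ (T.a l j - lb j) * X j := fun j hj =>
    mul_nonneg (sub_nonneg.2 (hlb j hj)) (hX j).le
  have h3 : 0 ≤ ∑ j ∈ J, (T.a l j - lb j) * X j := Finset.sum_nonneg hnn3
  have h4 : ∑ j ∈ J, (T.a l j - lb j) * X j = ∑ j ∈ J, T.a l j * X j - ∑ j ∈ J, lb j * X j := by
    rw [← Finset.sum_sub_distrib]
    apply Finset.sum_congr rfl
    intro j _
    ring
  have h5 : ∑ j ∈ J, (T.a l j - lb j) * X j = 0 := by linarith
  have h6 : ∑ j ∈ (insert l J)ᶜ, T.a l j * X j = 0 := by linarith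
  constructor
  · intro j hj
    have := (Finset.sum_eq_zero_iff_of_nonneg hnn3).1 h5 j hj
    rcases mul_eq_zero.1 this with h | h
    · linarith
    · exact absurd h (hX j).ne'
  · intro j hjJ hjl
    have hj : j ∈ (insert l J)ᶜ := by simp [hjJ, hjl]
    have := (Finset.sum_eq_zero_iff_of_nonneg hnn).1 h6 j hj
    rcases mul_eq_zero.1 this with h | h
    · exact h
    · exact absurd h (hX j).ne'

end Groth.Agent.H9.NT
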