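import Mathlib
import Groth.Agent.Lib.Helper9.Misc.NT1

/-! Helper9: numerical types, embedded containment lemma. -/

namespace Groth.Agent.H9.NT

open Models Finset Groth.Agent.H4.NumType

variable {n : ℕ} (T : NumericalType n)

/-- embedded containment with a graph of lower bounds -/
theorem contain_graph {k : ℕ} (hm2 : ∀ i, T.IsMinusTwo i) (v : Fin k → Fin n)
    (hv : Function.Injective v) (x : Fin k → ℤ) (hx : ∀ i, 0 < x i) (hk : 0 < k)
    (E : Fin k → Fin k → ℤ) (hE0 : ∀ l j, 0 ≤ E l j)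
    (hE : ∀ l j, l ≠ j → E l j * T.w (v l) ≤ T.a (v l) (v j))
    (hnum : ∀ l, ∃ J : Finset (Fin k), l ∉ J ∧ 2 * x l ≤ ∑ j ∈ J, E l j * x j) :
    Function.Surjective v ∧ (∀ l j, l ≠ j → T.a (v l) (v j) = E l j * T.w (v l)) ∧
      (∀ l l', x l * T.m (v l') = x l' * T.m (v l)) := by
  classical
  let X : Fin n → ℤ := fun i => ∑ j, if v j = i then x j else 0
  have hXv : ∀ l, X (v l) = x l := by
    intro l
    simp [X, hv.eq_iff]
  have hsumX : ∀ f : Fin n → ℤ, ∑ i, f i * X i = ∑ j, f (v j) * x j := by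
    intro f
    simp only [X, Finset.mul_sum]
    rw [Finset.sum_comm]
    apply Finset.sum_congr rfl; intro j _
    simp
  have hX0 : ∀ i, 0 ≤ X i := by
    intro i
    apply Finset.sum_nonneg; intro j _
    split_ifs
    · exact (hx j).le
    · exact le_rfl
  have hrowdec : ∀ l, ∑ j, T.a (v l) (v j) * x j =
      T.a (v l) (v l) * x l + ∑ j ∈ univ.erase l, T.a (v l) (v j) * x j := by
    intro l
    exact (Finset.add_sum_erase univ (fun j => T.a (v l) (v j) * x j) (mem_univ l)).symm
  have hnn1 : ∀ l, ∀ j ∈ univ.erase l, 0 ≤ (T.a (v l) (v j) - E l j * T.w (v l)) * x j := by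
    intro l j hj
    have hjl : l ≠ j := (Finset.ne_of_mem_erase hj).symm
    exact mul_nonneg (sub_nonneg.2 (hE l j hjl)) (hx j).le
  have hsplit : ∀ l, ∑ j ∈ univ.erase l, T.a (v l) (v j) * x j =
      ∑ j ∈ univ.erase l, (T.a (v l) (v j) - E l j * T.w (v l)) * x j +
        T.w (v l) * ∑ j ∈ univ.erase l, E l j * x j := by
    intro l
    rw [Finset.mul_sum, ← Finset.sum_add_distrib]
    apply Finset.sum_congr rfl
    intro j _
    ring
  have hge2 : ∀ l, 2 * x l ≤ ∑ j ∈ univ.erase l, E l j * x j := by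
    intro l
    obtain ⟨J, hlJ, hle⟩ := hnum l
    have hsub : J ⊆ univ.erase l := by
      intro j hj
      rw [Finset.mem_erase]
      exact ⟨fun h => hlJ (h ▸ hj), mem_univ _⟩
    refine hle.trans (Finset.sum_le_sum_of_subset_of_nonneg hsub ?_)
    intro j _ _
    exact mul_nonneg (hE0 l j) (hx j).le
  have hrow_nonneg : ∀ l, 0 ≤ ∑ j, T.a (v l) (v j) * x j := by
    intro l
    rw [hrowdec, hsplit, (hm2 (v l)).2]
    have h1 := Finset.sum_nonneg (hnn1 l)
    have h2 : T.w (v l) * (2 * x l) ≤ T.w (v l) * ∑ j ∈ univ.erase l, E l j * x j :=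
      mul_le_mul_of_nonneg_left (hge2 l) (T.w_pos _).le
    linarith
  have hcont := contain T X hX0 ⟨v ⟨0, hk⟩, by rw [hXv]; exact hx _⟩ (by
    intro l hl
    by_cases hlr : ∃ l', v l' = l
    · obtain ⟨l', rfl⟩ := hlr
      rw [hsumX]
      exact hrow_nonneg l'
    · push Not at hlr
      have : X l = 0 := by simp [X, hlr]
      rw [this] at hl
      exact absurd hl (lt_irrefl _))
  obtain ⟨hXpos, hXrow⟩ := hcont
  have hsurj : Function.Surjective v := by
    intro i
    by_contra hcon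
    push Not at hcon
    have : X i = 0 := by simp [X, hcon]
    have := hXpos i
    omega
  refine ⟨hsurj, ?_, ?_⟩
  swap
  · intro l l'
    have := ker_prop T X hXrow (v l) (v l')
    rwa [hXv, hXv] at this
  intro l j hlj
  have hrow0 : ∑ j, T.a (v l) (v j) * x j = 0 := by
    rw [← hsumX]
    exact hXrow (v l)
  rw [hrowdec, hsplit, (hm2 (v l)).2] at hrow0
  have h1 := Finset.sum_nonneg (hnn1 l)
  have h2 : T.w (v l) * (2 * x l) ≤ T.w (v l) * ∑ j ∈ univ.erase l, E l j * x j :=
    mul_le_mul_of_nonneg_left (hge2 l) (T.w_pos _).le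
  have h3 : ∑ j ∈ univ.erase l, (T.a (v l) (v j) - E l j * T.w (v l)) * x j = 0 := by linarith
  have hj : j ∈ univ.erase l := by simp [hlj.symm]
  have := (Finset.sum_eq_zero_iff_of_nonneg (hnn1 l)).1 h3 j hj
  rcases mul_eq_zero.1 this with h | h
  · linarith
  · exact absurd h (hx j).ne'

/-- a surjective injective map `Fin k → Fin n` forces `k = n`. -/
theorem card_eq_of_bij {k : ℕ} (v : Fin k → Fin n) (hv : Function.Injective v)
    (hs : Function.Surjective v) : k = n := by
  have := Fintype.card_of_bijective ⟨hv, hs⟩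
  simpa using this

end Groth.Agent.H9.NT
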