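import Mathlib
import Groth.Agent.Lib.Helper9.Misc.NT2

/-! Helper9: numerical types, dual graph and paths. -/

namespace Groth.Agent.H9.NT

open Models Finset Groth.Agent.H4.NumType

variable {n : ℕ} (T : NumericalType n)

/-- adjacency in the dual graph -/
def Adj (i j : Fin n) : Prop := i ≠ j ∧ T.a i j ≠ 0

variable {T}

theorem Adj.symm {i j : Fin n} (h : Adj T i j) : Adj T j i :=
  ⟨h.1.symm, by rw [a_symm]; exact h.2⟩

theorem Adj.pos {i j : Fin n} (h : Adj T i j) : 0 < T.a i j := pos_of_ne T h.1 h.2

theorem Adj.ne {i j : Fin n} (h : Adj T i j) : i ≠ j := h.1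

variable (T)

/-- the dual graph -/
def G : SimpleGraph (Fin n) where
  Adj := Adj T
  symm := ⟨fun _ _ h => Adj.symm h⟩
  loopless := ⟨fun _ h => h.1 rfl⟩

theorem reachable (x y : Fin n) : (G T).Reachable x y := by
  classical
  by_contra hcon
  let I : Finset (Fin n) := Finset.univ.filter fun z => (G T).Reachable x z
  have hIne : I.Nonempty := ⟨x, by simp [I]⟩
  have hIuniv : I ≠ Finset.univ := by
    intro hI
    have : y ∈ I := hI ▸ Finset.mem_univ y
    simp [I] at this
    exact hcon this
  obtain ⟨i, hiI, j, hjI, hij⟩ := T.connected I hIne hIuniv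
  have hi : (G T).Reachable x i := by simpa [I] using hiI
  have hne : i ≠ j := by
    rintro rfl
    exact hjI hiI
  have hadj : (G T).Adj i j := ⟨hne, hij⟩
  apply hjI
  simp only [I, Finset.mem_filter, Finset.mem_univ, true_and]
  exact hi.trans hadj.reachable

/-- paths as functions on `ℕ` -/
structure IsPath (q : ℕ → Fin n) (r : ℕ) : Prop where
  adj : ∀ i, i < r → Adj T (q i) (q (i + 1))
  inj : ∀ i j, i ≤ r → j ≤ r → q i = q j → i = j

variable {T}

theorem exists_path (x y : Fin n) : ∃ q r, IsPath T q r ∧ q 0 = x ∧ q r = y := by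
  refine (reachable T x y).elim_path fun p => ?_
  refine ⟨p.1.getVert, p.1.length, ⟨?_, ?_⟩, p.1.getVert_zero, p.1.getVert_length⟩
  · intro i hi
    exact p.1.adj_getVert_succ hi
  · intro i j hi hj h
    exact p.2.getVert_injOn hi hj h

theorem IsPath.length_lt {q : ℕ → Fin n} {r : ℕ} (h : IsPath T q r) : r < n := by
  by_contra hcon
  push Not at hcon
  have hinj : Function.Injective (fun i : Fin (n + 1) => q i.val) := by
    intro i j hij
    exact Fin.ext (h.inj i.val j.val (by omega) (by omega) hij)
  have := Fintype.card_le_of_injective _ hinj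
  simp at this

theorem IsPath.mono {q : ℕ → Fin n} {r r' : ℕ} (h : IsPath T q r) (hr : r' ≤ r) : IsPath T q r' :=
  ⟨fun i hi => h.adj i (by omega), fun i j hi hj => h.inj i j (by omega) (by omega)⟩

theorem IsPath.shift {q : ℕ → Fin n} {r : ℕ} (h : IsPath T q r) (s : ℕ) (hs : s ≤ r) :
    IsPath T (fun i => q (i + s)) (r - s) := by
  refine ⟨fun i hi => ?_, fun i j hi hj hij => ?_⟩
  · have := h.adj (i + s) (by omega)
    rwa [show i + s + 1 = i + 1 + s by omega] at this
  · have := h.inj (i + s) (j + s) (by omega) (by omega) hij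
    omega

theorem IsPath.rev {q : ℕ → Fin n} {r : ℕ} (h : IsPath T q r) :
    IsPath T (fun i => q (r - i)) r := by
  refine ⟨fun i hi => ?_, fun i j hi hj hij => ?_⟩
  · have := (h.adj (r - (i + 1)) (by omega)).symm
    rwa [show r - (i + 1) + 1 = r - i by omega] at this
  · have := h.inj (r - i) (r - j) (by omega) (by omega) hij
    omega

theorem IsPath.ne {q : ℕ → Fin n} {r : ℕ} (h : IsPath T q r) {i j : ℕ} (hi : i ≤ r) (hj : j ≤ r)
    (hij : i ≠ j) : q i ≠ q j := fun he => hij (h.inj i j hi hj he)

/-- extension by one vertex -/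
theorem IsPath.extend {q : ℕ → Fin n} {r : ℕ} (h : IsPath T q r) (y : Fin n)
    (hy : ∀ j, j ≤ r → q j ≠ y) (hadj : Adj T (q r) y) :
    IsPath T (Function.update q (r + 1) y) (r + 1) := by
  have hq : ∀ i, i ≤ r → Function.update q (r + 1) y i = q i := by
    intro i hi
    rw [Function.update_of_ne (by omega)]
  refine ⟨fun i hi => ?_, fun i j hi hj hij => ?_⟩
  · rcases Nat.lt_or_ge i r with h1 | h1
    · rw [hq i (by omega), hq (i + 1) (by omega)]
      exact h.adj i h1
    · have : i = r := by omega
      subst this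
      rw [hq i le_rfl, Function.update_self]
      exact hadj
  · rcases Nat.lt_or_ge i (r + 1) with h1 | h1 <;> rcases Nat.lt_or_ge j (r + 1) with h2 | h2
    · rw [hq i (by omega), hq j (by omega)] at hij
      exact h.inj i j (by omega) (by omega) hij
    · have : j = r + 1 := by omega
      subst this
      rw [hq i (by omega), Function.update_self] at hij
      exact absurd hij (hy i (by omega))
    · have : i = r + 1 := by omega
      subst this
      rw [hq j (by omega), Function.update_self] at hij
      exact absurd hij.symm (hy j (by omega))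
    · omega

/-- maximal one-sided extension -/
theorem IsPath.exists_max {q : ℕ → Fin n} {r : ℕ} (h : IsPath T q r) :
    ∃ q' r', r ≤ r' ∧ (∀ i, i ≤ r → q' i = q i) ∧ IsPath T q' r' ∧
      ∀ y, Adj T (q' r') y → ∃ j, j ≤ r' ∧ q' j = y := by
  induction hk : n - r using Nat.strong_induction_on generalizing q r with
  | _ k ih =>
    by_cases hmax : ∀ y, Adj T (q r) y → ∃ j, j ≤ r ∧ q j = y
    · exact ⟨q, r, le_rfl, fun _ _ => rfl, h, hmax⟩
    · push Not at hmax
      obtain ⟨y, hadj, hy⟩ := hmax
      have h' := h.extend y hy hadj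
      have hlt := h'.length_lt
      obtain ⟨q', r', hr', hq', hp', hm'⟩ := ih (n - (r + 1)) (by omega) h' rfl
      refine ⟨q', r', by omega, ?_, hp', hm'⟩
      intro i hi
      rw [hq' i (by omega), Function.update_of_ne (by omega)]

end Groth.Agent.H9.NT
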