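import Mathlib
import Groth.Agent.Lib.Helper9.Misc.NT3

/-! Helper9: numerical types, edges are simple or double for n ≥ 4. -/

namespace Groth.Agent.H9.NT

open Models Finset Groth.Agent.H4.NumType

variable {n : ℕ} {T : NumericalType n}

theorem not_surj_of_lt {k : ℕ} (v : Fin k → Fin n) (hk : k < n) : ¬ Function.Surjective v := by
  intro hs
  have := Fintype.card_le_of_surjective v hs
  simp at this
  omega

/-- both coefficients at least two is impossible for `n ≥ 3` -/
theorem no_two_two (hm2 : ∀ i, T.IsMinusTwo i) (hn : 3 ≤ n) {i j : Fin n} (hij : i ≠ j)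
    (h1 : 2 * T.w i ≤ T.a i j) (h2 : 2 * T.w j ≤ T.a i j) : False := by
  have hc := contain_graph T hm2 (emb2 hij) (emb2 hij).injective ![1, 1]
    (by intro l; fin_cases l <;> simp) (by norm_num)
    (fun l j => if l = j then 0 else 2) (by intro l j; split_ifs <;> norm_num)
    (by
      intro l j hlj
      fin_cases l <;> fin_cases j <;> simp at hlj ⊢
      · exact h1
      · rw [a_symm]; exact h2)
    (by
      intro l
      fin_cases l
      · exact ⟨{1}, by simp, by simp⟩
      · exact ⟨{0}, by simp, by simp⟩)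
  exact not_surj_of_lt _ (by omega) hc.1

theorem no_four (hm2 : ∀ i, T.IsMinusTwo i) (hn : 3 ≤ n) {i j : Fin n} (hij : Adj T i j)
    (h1 : 4 * T.w i ≤ T.a i j) : False := by
  have hc := contain_graph T hm2 (emb2 hij.1) (emb2 hij.1).injective ![2, 1]
    (by intro l; fin_cases l <;> simp) (by norm_num)
    (fun l j => if l = j then 0 else if l = 0 then 4 else 1)
    (by intro l j; split_ifs <;> norm_num)
    (by
      intro l j hlj
      fin_cases l <;> fin_cases j <;> simp at hlj ⊢
      · exact h1
      · rw [a_symm]; exact w_le_right T hij.pos)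
    (by
      intro l
      fin_cases l
      · exact ⟨{1}, by simp, by simp⟩
      · exact ⟨{0}, by simp, by simp⟩)
  exact not_surj_of_lt _ (by omega) hc.1


/-- a third vertex adjacent to one of two given ones -/
theorem exists_third (hn : 3 ≤ n) {i j : Fin n} (hij : i ≠ j) :
    ∃ k, k ≠ i ∧ k ≠ j ∧ (Adj T i k ∨ Adj T j k) := by
  classical
  have hne : ({i, j} : Finset (Fin n)).Nonempty := ⟨i, by simp⟩
  have huniv : ({i, j} : Finset (Fin n)) ≠ Finset.univ := by
    intro h
    have h1 : ({i, j} : Finset (Fin n)).card = n := by rw [h]; simp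
    have h2 : ({i, j} : Finset (Fin n)).card ≤ 2 := Finset.card_le_two
    omega
  obtain ⟨i', hi', k, hk, hne'⟩ := T.connected _ hne huniv
  simp only [Finset.mem_insert, Finset.mem_singleton, not_or] at hi' hk
  refine ⟨k, hk.1, hk.2, ?_⟩
  rcases hi' with rfl | rfl
  · exact Or.inl ⟨fun h => hk.1 h.symm, hne'⟩
  · exact Or.inr ⟨fun h => hk.2 h.symm, hne'⟩

theorem no_three_left (hm2 : ∀ i, T.IsMinusTwo i) (hn : 4 ≤ n) {i j k : Fin n} (hij : Adj T i j)
    (hik : Adj T i k) (hjk : j ≠ k) (h1 : 3 * T.w i ≤ T.a i j) : False := by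
  have hc := contain_graph T hm2 (emb3 hij.1 hjk hik.1) (emb3 hij.1 hjk hik.1).injective ![2, 1, 1]
    (by intro l; fin_cases l <;> simp) (by norm_num)
    (fun l j => if l = 0 ∧ j = 1 then 3 else if l = 1 ∧ j = 0 then 1 else if l = 0 ∧ j = 2 then 1
      else if l = 2 ∧ j = 0 then 1 else 0)
    (by intro l j; split_ifs <;> norm_num)
    (by
      intro l j hlj
      fin_cases l <;> fin_cases j <;> simp at hlj ⊢
      · exact h1
      · exact w_le_left T hik.pos
      · exact w_le_left T hij.symm.pos
      · exact T.offDiag_nonneg _ _ hjk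
      · exact w_le_left T hik.symm.pos
      · exact T.offDiag_nonneg _ _ hjk.symm)
    (by
      intro l
      fin_cases l
      · exact ⟨{1, 2}, by simp, by simp⟩
      · exact ⟨{0}, by simp, by simp⟩
      · exact ⟨{0}, by simp, by simp⟩)
  exact not_surj_of_lt _ (by omega) hc.1

theorem no_three_right (hm2 : ∀ i, T.IsMinusTwo i) (hn : 4 ≤ n) {i j k : Fin n} (hij : Adj T i j)
    (hjk : Adj T j k) (hik : i ≠ k) (h1 : 3 * T.w i ≤ T.a i j) : False := by
  have hc := contain_graph T hm2 (emb3 hij.1 hjk.1 hik) (emb3 hij.1 hjk.1 hik).injective ![3, 2, 1]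
    (by intro l; fin_cases l <;> simp) (by norm_num)
    (fun l j => if l = 0 ∧ j = 1 then 3 else if l = 1 ∧ j = 0 then 1 else if l = 1 ∧ j = 2 then 1
      else if l = 2 ∧ j = 1 then 1 else 0)
    (by intro l j; split_ifs <;> norm_num)
    (by
      intro l j hlj
      fin_cases l <;> fin_cases j <;> simp at hlj ⊢
      · exact h1
      · exact T.offDiag_nonneg _ _ hik
      · exact w_le_left T hij.symm.pos
      · exact w_le_left T hjk.pos
      · exact T.offDiag_nonneg _ _ hik.symm
      · exact w_le_left T hjk.symm.pos)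
    (by
      intro l
      fin_cases l
      · exact ⟨{1}, by simp, by simp⟩
      · exact ⟨{0, 2}, by simp, by simp⟩
      · exact ⟨{1}, by simp, by simp⟩)
  exact not_surj_of_lt _ (by omega) hc.1

theorem no_three (hm2 : ∀ i, T.IsMinusTwo i) (hn : 4 ≤ n) {i j : Fin n} (hij : Adj T i j)
    (h1 : 3 * T.w i ≤ T.a i j) : False := by
  obtain ⟨k, hki, hkj, h | h⟩ := exists_third (T := T) (by omega) hij.1
  · exact no_three_left hm2 hn hij h hkj.symm h1
  · exact no_three_right hm2 hn hij h hki.symm h1

/-- for `n ≥ 4` every edge is simple or double -/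
theorem edge_cases (hm2 : ∀ i, T.IsMinusTwo i) (hn : 4 ≤ n) {i j : Fin n} (hij : Adj T i j) :
    (T.a i j = T.w i ∧ T.w j = T.w i) ∨ (T.a i j = 2 * T.w i ∧ T.w j = 2 * T.w i) ∨
      (T.a i j = T.w i ∧ T.w i = 2 * T.w j) := by
  have hwi := T.w_pos i
  have hwj := T.w_pos j
  have n3i : ¬ 3 * T.w i ≤ T.a i j := fun h => no_three hm2 hn hij h
  have n3j : ¬ 3 * T.w j ≤ T.a i j := fun h => by
    have := no_three hm2 hn hij.symm (by rw [a_symm]; exact h)
    exact this
  have n22 : ¬ (2 * T.w i ≤ T.a i j ∧ 2 * T.w j ≤ T.a i j) := fun h =>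
    no_two_two hm2 (by omega) hij.1 h.1 h.2
  rcases mult_cases_left T hij.pos with h | h | h | h <;>
    rcases mult_cases_right T hij.pos with h' | h' | h' | h'
  · exact Or.inl ⟨h, by omega⟩
  · exact Or.inr (Or.inr ⟨h, by omega⟩)
  · exact absurd (by omega) n3j
  · exact absurd (by omega) n3j
  · exact Or.inr (Or.inl ⟨h, by omega⟩)
  · exact absurd ⟨by omega, by omega⟩ n22
  · exact absurd (by omega) n3j
  · exact absurd (by omega) n3j
  · exact absurd (by omega) n3i
  · exact absurd (by omega) n3i
  · exact absurd (by omega) n3i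
  · exact absurd (by omega) n3i
  · exact absurd (by omega) n3i
  · exact absurd (by omega) n3i
  · exact absurd (by omega) n3i
  · exact absurd (by omega) n3i

end Groth.Agent.H9.NT
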