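import Mathlib
import Groth.Agent.Lib.Helper9.Misc.NT4

/-! Helper9: numerical types, Cartan coefficients and the seven families. -/

namespace Groth.Agent.H9.NT

open Models Finset Groth.Agent.H4.NumType

variable {n : ℕ} (T : NumericalType n)

/-- the Cartan coefficient `a i j / w i` -/
def cf (i j : Fin n) : ℤ := T.a i j / T.w i

theorem a_eq_cf (i j : Fin n) : T.a i j = cf T i j * T.w i :=
  (Int.ediv_mul_cancel (T.w_dvd i j)).symm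

variable {T}

theorem cf_cases (hm2 : ∀ i, T.IsMinusTwo i) (hn : 4 ≤ n) {i j : Fin n} (hij : Adj T i j) :
    (cf T i j = 1 ∧ cf T j i = 1 ∧ T.w j = T.w i) ∨ (cf T i j = 2 ∧ cf T j i = 1 ∧ T.w j = 2 * T.w i) ∨
      (cf T i j = 1 ∧ cf T j i = 2 ∧ T.w i = 2 * T.w j) := by
  have hwi := T.w_pos i
  have hwj := T.w_pos j
  have e1 := a_eq_cf T i j
  have e2 := a_eq_cf T j i
  rw [a_symm T j i] at e2
  rcases edge_cases hm2 hn hij with ⟨h1, h2⟩ | ⟨h1, h2⟩ | ⟨h1, h2⟩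
  · refine Or.inl ⟨?_, ?_, h2⟩
    · have : cf T i j * T.w i = 1 * T.w i := by rw [← e1, h1]; ring
      exact mul_right_cancel₀ hwi.ne' this
    · have : cf T j i * T.w j = 1 * T.w j := by rw [← e2, h1, h2]; ring
      exact mul_right_cancel₀ hwj.ne' this
  · refine Or.inr (Or.inl ⟨?_, ?_, h2⟩)
    · have : cf T i j * T.w i = 2 * T.w i := by rw [← e1, h1]
      exact mul_right_cancel₀ hwi.ne' this
    · have : cf T j i * T.w j = 1 * T.w j := by rw [← e2, h1, h2]; ring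
      exact mul_right_cancel₀ hwj.ne' this
  · refine Or.inr (Or.inr ⟨?_, ?_, h2⟩)
    · have : cf T i j * T.w i = 1 * T.w i := by rw [← e1, h1]; ring
      exact mul_right_cancel₀ hwi.ne' this
    · have : cf T j i * T.w j = 2 * T.w j := by rw [← e2, h1, h2]
      exact mul_right_cancel₀ hwj.ne' this

/-- a double edge -/
def Dbl (T : NumericalType n) (i j : Fin n) : Prop := Adj T i j ∧ cf T i j * cf T j i = 2

theorem Dbl.symm {i j : Fin n} (h : Dbl T i j) : Dbl T j i := ⟨h.1.symm, by rw [mul_comm]; exact h.2⟩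

/-- a simple edge -/
def Smp (T : NumericalType n) (i j : Fin n) : Prop := Adj T i j ∧ cf T i j = 1 ∧ cf T j i = 1

theorem Smp.symm {i j : Fin n} (h : Smp T i j) : Smp T j i := ⟨h.1.symm, h.2.2, h.2.1⟩

theorem smp_or_dbl (hm2 : ∀ i, T.IsMinusTwo i) (hn : 4 ≤ n) {i j : Fin n} (hij : Adj T i j) :
    Smp T i j ∨ Dbl T i j := by
  rcases cf_cases hm2 hn hij with ⟨h1, h2, -⟩ | ⟨h1, h2, -⟩ | ⟨h1, h2, -⟩
  · exact Or.inl ⟨hij, h1, h2⟩
  · exact Or.inr ⟨hij, by rw [h1, h2]; norm_num⟩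
  · exact Or.inr ⟨hij, by rw [h1, h2]; norm_num⟩

theorem cf_pos {i j : Fin n} (hij : Adj T i j) : 1 ≤ cf T i j := by
  have h1 := a_eq_cf T i j
  have h2 := hij.pos
  have hw := T.w_pos i
  by_contra hcon
  push Not at hcon
  have : cf T i j * T.w i ≤ 0 := mul_nonpos_of_nonpos_of_nonneg (by omega) hw.le
  omega

theorem cf_nonneg {i j : Fin n} (hij : i ≠ j) : 0 ≤ cf T i j := by
  have h1 := a_eq_cf T i j
  have h2 := T.offDiag_nonneg i j hij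
  have hw := T.w_pos i
  by_contra hcon
  push Not at hcon
  have : cf T i j * T.w i < 0 := mul_neg_of_neg_of_pos hcon hw
  omega

theorem w_le_of_adj {i j : Fin n} (hij : Adj T i j) : T.w i ≤ T.a i j := w_le_left T hij.pos

section families

variable (T) (σ : Equiv.Perm (Fin n)) (m w : ℤ)

def Fam1 : Prop :=
  ((∀ i : Fin n, T.m (σ i) = m) ∧
        (∀ i : Fin n, T.w (σ i) = w) ∧
        (∀ i j : Fin n, i.val < j.val → j.val = i.val + 1 → T.a (σ i) (σ j) = w) ∧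
        (∀ i j : Fin n, i.val < j.val → i.val = 0 ∧ j.val + 1 = n → T.a (σ i) (σ j) = w) ∧
        (∀ i j : Fin n, i.val < j.val → ¬ (j.val = i.val + 1) → ¬ (i.val = 0 ∧ j.val + 1 = n) → T.a (σ i) (σ j) = 0))

def Fam2 : Prop :=
      ((∀ i : Fin n, i.val + 1 < n → T.m (σ i) = 2 * m) ∧
        (∀ i : Fin n, i.val + 1 = n → T.m (σ i) = m) ∧
        (∀ i : Fin n, i.val = 0 → T.w (σ i) = w) ∧
        (∀ i : Fin n, 0 < i.val ∧ i.val + 1 < n → T.w (σ i) = 2 * w) ∧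
        (∀ i : Fin n, i.val + 1 = n → T.w (σ i) = 4 * w) ∧
        (∀ i j : Fin n, i.val < j.val → j.val = i.val + 1 ∧ j.val + 1 < n → T.a (σ i) (σ j) = 2 * w) ∧
        (∀ i j : Fin n, i.val < j.val → j.val = i.val + 1 ∧ j.val + 1 = n → T.a (σ i) (σ j) = 4 * w) ∧
        (∀ i j : Fin n, i.val < j.val → ¬ (j.val = i.val + 1 ∧ j.val + 1 < n) → ¬ (j.val = i.val + 1 ∧ j.val + 1 = n) → T.a (σ i) (σ j) = 0))

def Fam3 : Prop :=
      ((∀ i : Fin n, T.m (σ i) = m) ∧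
        (∀ i : Fin n, i.val = 0 → T.w (σ i) = w) ∧
        (∀ i : Fin n, 0 < i.val ∧ i.val + 1 < n → T.w (σ i) = 2 * w) ∧
        (∀ i : Fin n, i.val + 1 = n → T.w (σ i) = w) ∧
        (∀ i j : Fin n, i.val < j.val → j.val = i.val + 1 → T.a (σ i) (σ j) = 2 * w) ∧
        (∀ i j : Fin n, i.val < j.val → ¬ (j.val = i.val + 1) → T.a (σ i) (σ j) = 0))

def Fam4 : Prop :=
      ((∀ i : Fin n, i.val = 0 → T.m (σ i) = m) ∧
        (∀ i : Fin n, 0 < i.val ∧ i.val + 1 < n → T.m (σ i) = 2 * m) ∧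
        (∀ i : Fin n, i.val + 1 = n → T.m (σ i) = m) ∧
        (∀ i : Fin n, i.val = 0 → T.w (σ i) = 2 * w) ∧
        (∀ i : Fin n, 0 < i.val ∧ i.val + 1 < n → T.w (σ i) = w) ∧
        (∀ i : Fin n, i.val + 1 = n → T.w (σ i) = 2 * w) ∧
        (∀ i j : Fin n, i.val < j.val → i.val = 0 ∧ j.val = 1 → T.a (σ i) (σ j) = 2 * w) ∧
        (∀ i j : Fin n, i.val < j.val → j.val = i.val + 1 ∧ 1 ≤ i.val ∧ j.val + 2 ≤ n → T.a (σ i) (σ j) = w) ∧
        (∀ i j : Fin n, i.val < j.val → j.val = i.val + 1 ∧ j.val + 1 = n → T.a (σ i) (σ j) = 2 * w) ∧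
        (∀ i j : Fin n, i.val < j.val → ¬ (i.val = 0 ∧ j.val = 1) → ¬ (j.val = i.val + 1 ∧ 1 ≤ i.val ∧ j.val + 2 ≤ n) → ¬ (j.val = i.val + 1 ∧ j.val + 1 = n) → T.a (σ i) (σ j) = 0))

def Fam5 : Prop :=
      ((∀ i : Fin n, i.val = 0 → T.m (σ i) = m) ∧
        (∀ i : Fin n, 1 ≤ i.val ∧ i.val + 2 < n → T.m (σ i) = 2 * m) ∧
        (∀ i : Fin n, n ≤ i.val + 2 → T.m (σ i) = m) ∧
        (∀ i : Fin n, i.val = 0 → T.w (σ i) = 2 * w) ∧
        (∀ i : Fin n, 0 < i.val → T.w (σ i) = w) ∧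
        (∀ i j : Fin n, i.val < j.val → i.val = 0 ∧ j.val = 1 → T.a (σ i) (σ j) = 2 * w) ∧
        (∀ i j : Fin n, i.val < j.val → j.val = i.val + 1 ∧ 1 ≤ i.val ∧ j.val + 2 ≤ n → T.a (σ i) (σ j) = w) ∧
        (∀ i j : Fin n, i.val < j.val → i.val + 3 = n ∧ j.val + 1 = n → T.a (σ i) (σ j) = w) ∧
        (∀ i j : Fin n, i.val < j.val → ¬ (i.val = 0 ∧ j.val = 1) → ¬ (j.val = i.val + 1 ∧ 1 ≤ i.val ∧ j.val + 2 ≤ n) → ¬ (i.val + 3 = n ∧ j.val + 1 = n) → T.a (σ i) (σ j) = 0))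

def Fam6 : Prop :=
      ((∀ i : Fin n, i.val + 2 < n → T.m (σ i) = 2 * m) ∧
        (∀ i : Fin n, n ≤ i.val + 2 → T.m (σ i) = m) ∧
        (∀ i : Fin n, i.val = 0 → T.w (σ i) = w) ∧
        (∀ i : Fin n, 0 < i.val → T.w (σ i) = 2 * w) ∧
        (∀ i j : Fin n, i.val < j.val → j.val = i.val + 1 ∧ j.val + 2 ≤ n → T.a (σ i) (σ j) = 2 * w) ∧
        (∀ i j : Fin n, i.val < j.val → i.val + 3 = n ∧ j.val + 1 = n → T.a (σ i) (σ j) = 2 * w) ∧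
        (∀ i j : Fin n, i.val < j.val → ¬ (j.val = i.val + 1 ∧ j.val + 2 ≤ n) → ¬ (i.val + 3 = n ∧ j.val + 1 = n) → T.a (σ i) (σ j) = 0))

def Fam7 : Prop :=
      ((∀ i : Fin n, i.val ≤ 1 → T.m (σ i) = m) ∧
        (∀ i : Fin n, 2 ≤ i.val ∧ i.val + 2 < n → T.m (σ i) = 2 * m) ∧
        (∀ i : Fin n, n ≤ i.val + 2 → T.m (σ i) = m) ∧
        (∀ i : Fin n, T.w (σ i) = w) ∧
        (∀ i j : Fin n, i.val < j.val → i.val = 0 ∧ j.val = 2 → T.a (σ i) (σ j) = w) ∧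
        (∀ i j : Fin n, i.val < j.val → i.val = 1 ∧ j.val = 2 → T.a (σ i) (σ j) = w) ∧
        (∀ i j : Fin n, i.val < j.val → j.val = i.val + 1 ∧ 2 ≤ i.val ∧ j.val + 2 ≤ n → T.a (σ i) (σ j) = w) ∧
        (∀ i j : Fin n, i.val < j.val → i.val + 3 = n ∧ j.val + 1 = n → T.a (σ i) (σ j) = w) ∧
        (∀ i j : Fin n, i.val < j.val → ¬ (i.val = 0 ∧ j.val = 2) → ¬ (i.val = 1 ∧ j.val = 2) → ¬ (j.val = i.val + 1 ∧ 2 ≤ i.val ∧ j.val + 2 ≤ n) → ¬ (i.val + 3 = n ∧ j.val + 1 = n) → T.a (σ i) (σ j) = 0))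

/-- the seven infinite families -/
def Fams : Prop := ∃ (σ : Equiv.Perm (Fin n)) (m w : ℤ),
  Fam1 T σ m w ∨ Fam2 T σ m w ∨ Fam3 T σ m w ∨ Fam4 T σ m w ∨ Fam5 T σ m w ∨ Fam6 T σ m w ∨
    Fam7 T σ m w

end families

end Groth.Agent.H9.NT
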