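import Mathlib
import Groth.Agent.Lib.Helper9.Misc.NT5

/-! Helper9: numerical types, the cycle family. -/

namespace Groth.Agent.H9.NT

open Models Finset Groth.Agent.H4.NumType

variable {n : ℕ} {T : NumericalType n}

/-- `ℕ`-indexed form of the containment lemma -/
theorem contain_nat (hm2 : ∀ i, T.IsMinusTwo i) (k : ℕ) (v : ℕ → Fin n)
    (hinj : ∀ i j, i < k → j < k → v i = v j → i = j) (x : ℕ → ℤ) (hx : ∀ i, i < k → 0 < x i)
    (hk : 0 < k) (E : ℕ → ℕ → ℤ) (hE0 : ∀ l j, 0 ≤ E l j)
    (hE : ∀ l j, l < k → j < k → l ≠ j → E l j * T.w (v l) ≤ T.a (v l) (v j))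
    (hnum : ∀ l, l < k → ∃ J : Finset ℕ, l ∉ J ∧ (∀ j ∈ J, j < k) ∧
      2 * x l ≤ ∑ j ∈ J, E l j * x j) :
    k = n ∧ (∀ u : Fin n, ∃ i, i < k ∧ v i = u) ∧
      (∀ l j, l < k → j < k → l ≠ j → T.a (v l) (v j) = E l j * T.w (v l)) ∧
      (∀ l l', l < k → l' < k → x l * T.m (v l') = x l' * T.m (v l)) := by
  classical
  have hv : Function.Injective (fun i : Fin k => v i.val) := by
    intro i j hij
    exact Fin.ext (hinj _ _ i.2 j.2 hij)
  have hc := contain_graph T hm2 (fun i : Fin k => v i.val) hv (fun i : Fin k => x i.val)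
    (fun i => hx _ i.2) hk (fun l j : Fin k => E l.val j.val) (fun l j => hE0 _ _)
    (fun l j hlj => hE _ _ l.2 j.2 (fun h => hlj (Fin.ext h)))
    (by
      intro l
      obtain ⟨J, hlJ, hJk, hle⟩ := hnum l.val l.2
      refine ⟨Finset.univ.filter (fun j : Fin k => j.val ∈ J), by simpa using hlJ, ?_⟩
      have himg : (Finset.univ.filter (fun j : Fin k => j.val ∈ J)).image Fin.val = J := by
        ext j
        simp only [Finset.mem_image, Finset.mem_filter, Finset.mem_univ, true_and]
        constructor
        · rintro ⟨j', hj', rfl⟩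
          exact hj'
        · intro hj
          exact ⟨⟨j, hJk j hj⟩, hj, rfl⟩
      have hsum : ∑ j ∈ Finset.univ.filter (fun j : Fin k => j.val ∈ J), E l.val j.val * x j.val =
          ∑ j ∈ J, E l.val j * x j := by
        have h1 := Finset.sum_image (s := Finset.univ.filter (fun j : Fin k => j.val ∈ J))
          (g := Fin.val) (f := fun j => E l.val j * x j) (fun a _ b _ hab => Fin.ext hab)
        rw [himg] at h1
        exact h1.symm
      rw [hsum]
      exact hle)
  obtain ⟨hsurj, hex, hprop⟩ := hc
  refine ⟨card_eq_of_bij _ hv hsurj, ?_, ?_, ?_⟩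
  · intro u
    obtain ⟨i, hi⟩ := hsurj u
    exact ⟨i.val, i.2, hi⟩
  · intro l j hl hj hlj
    exact hex ⟨l, hl⟩ ⟨j, hj⟩ (fun h => hlj (by simpa using congrArg Fin.val h))
  · intro l l' hl hl'
    exact hprop ⟨l, hl⟩ ⟨l', hl'⟩

/-- the permutation attached to a complete enumeration -/
theorem exists_perm (v : ℕ → Fin n) (hinj : ∀ i j, i < n → j < n → v i = v j → i = j) :
    ∃ σ : Equiv.Perm (Fin n), ∀ i : Fin n, σ i = v i.val := by
  have hi : Function.Injective (fun i : Fin n => v i.val) := by
    intro i j hij
    exact Fin.ext (hinj _ _ i.2 j.2 hij)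
  exact ⟨Equiv.ofBijective _ (Finite.injective_iff_bijective.1 hi), fun i => rfl⟩

/-- the cycle -/
theorem cycle_fam (hm2 : ∀ i, T.IsMinusTwo i) {q : ℕ → Fin n} {r : ℕ} (hp : IsPath T q r)
    (hr : 2 ≤ r) (hclose : Adj T (q r) (q 0)) : Fams T := by
  classical
  set E : ℕ → ℕ → ℤ := fun l j =>
    if j = l + 1 ∨ l = j + 1 ∨ (l = 0 ∧ j = r) ∨ (l = r ∧ j = 0) then 1 else 0 with hEdef
  have hadj : ∀ l j, l < r + 1 → j < r + 1 → E l j ≠ 0 → Adj T (q l) (q j) := by
    intro l j hl hj hE
    simp only [hEdef] at hE
    split_ifs at hE with h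
    · rcases h with h | h | h | h
      · subst h; exact hp.adj l (by omega)
      · subst h; exact (hp.adj j (by omega)).symm
      · rw [h.1, h.2]; exact hclose.symm
      · rw [h.1, h.2]; exact hclose
    · exact absurd rfl hE
  obtain ⟨hk, hsurj, hex, hprop⟩ := contain_nat hm2 (r + 1) q
    (fun i j hi hj => hp.inj i j (by omega) (by omega)) (fun _ => 1) (fun _ _ => one_pos)
    (by omega) E (by intro l j; simp only [hEdef]; split_ifs <;> norm_num)
    (by
      intro l j hl hj hlj
      by_cases h0 : E l j = 0
      · rw [h0, zero_mul]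
        exact T.offDiag_nonneg _ _ (hp.ne (by omega) (by omega) hlj)
      · have h1 : E l j = 1 := by
          simp only [hEdef] at h0 ⊢
          split_ifs at h0 ⊢ with h
          · rfl
          · exact absurd rfl h0
        rw [h1, one_mul]
        exact w_le_of_adj (hadj l j hl hj h0))
    (by
      intro l hl
      refine ⟨{if l = 0 then r else l - 1, if l = r then 0 else l + 1}, ?_, ?_, ?_⟩
      · simp only [Finset.mem_insert, Finset.mem_singleton, not_or]
        constructor <;> split_ifs <;> omega
      · intro j hj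
        simp only [Finset.mem_insert, Finset.mem_singleton] at hj
        rcases hj with rfl | rfl <;> split_ifs <;> omega
      · rw [Finset.sum_pair (by split_ifs <;> omega)]
        simp only [hEdef, mul_one]
        have e1 : (if (if l = 0 then r else l - 1) = l + 1 ∨ l = (if l = 0 then r else l - 1) + 1 ∨
            (l = 0 ∧ (if l = 0 then r else l - 1) = r) ∨
            (l = r ∧ (if l = 0 then r else l - 1) = 0) then (1 : ℤ) else 0) = 1 := by
          rw [if_pos]
          by_cases h : l = 0
          · simp [h]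
          · right; left; simp [h]; omega
        have e2 : (if (if l = r then 0 else l + 1) = l + 1 ∨ l = (if l = r then 0 else l + 1) + 1 ∨
            (l = 0 ∧ (if l = r then 0 else l + 1) = r) ∨
            (l = r ∧ (if l = r then 0 else l + 1) = 0) then (1 : ℤ) else 0) = 1 := by
          rw [if_pos]
          by_cases h : l = r
          · simp [h]
          · left; simp [h]
        rw [e1, e2]
        norm_num)
  -- the permutation
  obtain ⟨σ, hσ⟩ := exists_perm q (fun i j hi hj => hp.inj i j (by omega) (by omega))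
  -- weights are constant
  have hw : ∀ l, l ≤ r → T.w (q l) = T.w (q 0) := by
    intro l
    induction l with
    | zero => intro _; rfl
    | succ l ih =>
      intro hl
      have h1 := hex l (l + 1) (by omega) (by omega) (by omega)
      have h2 := hex (l + 1) l (by omega) (by omega) (by omega)
      have e1 : E l (l + 1) = 1 := by simp [hEdef]
      have e2 : E (l + 1) l = 1 := by simp [hEdef]
      rw [e1, one_mul] at h1
      rw [e2, one_mul, a_symm] at h2
      rw [← h2, h1, ih (by omega)]
  have hm : ∀ l, l ≤ r → T.m (q l) = T.m (q 0) := by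
    intro l hl
    have := hprop 0 l (by omega) (by omega)
    simpa using this
  refine ⟨σ, T.m (q 0), T.w (q 0), Or.inl ⟨?_, ?_, ?_, ?_, ?_⟩⟩
  · intro i
    rw [hσ]
    exact hm _ (by omega)
  · intro i
    rw [hσ]
    exact hw _ (by omega)
  · intro i j hij hj
    rw [hσ, hσ, hex _ _ (by omega) (by omega) (by omega), hw _ (by omega)]
    have : E i.val j.val = 1 := by simp [hEdef, hj]
    rw [this, one_mul]
  · intro i j hij hj
    rw [hσ, hσ, hex _ _ (by omega) (by omega) (by omega), hw _ (by omega)]
    have : E i.val j.val = 1 := by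
      simp only [hEdef]
      rw [if_pos]
      right; right; left
      exact ⟨hj.1, by omega⟩
    rw [this, one_mul]
  · intro i j hij h1 h2
    rw [hσ, hσ, hex _ _ (by omega) (by omega) (by omega)]
    have : E i.val j.val = 0 := by
      simp only [hEdef]
      rw [if_neg]
      intro h
      rcases h with h | h | h | h
      · exact h1 h
      · omega
      · exact h2 ⟨h.1, by omega⟩
      · omega
    rw [this, zero_mul]

end Groth.Agent.H9.NT
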