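import Mathlib
import Groth.Agent.Lib.Helper9.Misc.NT6

/-! Helper9: numerical types, the double fork family. -/

namespace Groth.Agent.H9.NT

open Models Finset Groth.Agent.H4.NumType

variable {n : ℕ} {T : NumericalType n}

/-- equal weights along an edge with both coefficients one -/
theorem w_eq_of_one {a b : Fin n} (h1 : T.a a b = 1 * T.w a) (h2 : T.a b a = 1 * T.w b) :
    T.w b = T.w a := by
  rw [a_symm T b a] at h2
  omega

/-- the double fork -/
theorem shape22 (hm2 : ∀ i, T.IsMinusTwo i) {q : ℕ → Fin n} {r : ℕ} (hp : IsPath T q r)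
    (e1 e2 f1 f2 : Fin n) (he12 : e1 ≠ e2) (hf12 : f1 ≠ f2)
    (he1f1 : e1 ≠ f1) (he1f2 : e1 ≠ f2) (he2f1 : e2 ≠ f1) (he2f2 : e2 ≠ f2)
    (he1 : ∀ i, i ≤ r → q i ≠ e1) (he2 : ∀ i, i ≤ r → q i ≠ e2)
    (hf1 : ∀ i, i ≤ r → q i ≠ f1) (hf2 : ∀ i, i ≤ r → q i ≠ f2)
    (a1 : Adj T e1 (q 0)) (a2 : Adj T e2 (q 0)) (b1 : Adj T f1 (q r)) (b2 : Adj T f2 (q r)) :
    Fams T := by
  classical
  set v : ℕ → Fin n := fun i =>
    if i = 0 then e1 else if i = 1 then e2 else if i ≤ r + 2 then q (i - 2)
    else if i = r + 3 then f1 else f2 with hvdef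
  set x : ℕ → ℤ := fun i => if 2 ≤ i ∧ i ≤ r + 2 then 2 else 1 with hxdef
  set P : ℕ → ℕ → Prop := fun l j => (l = 0 ∧ j = 2) ∨ (l = 1 ∧ j = 2) ∨
    (j = l + 1 ∧ 2 ≤ l ∧ j ≤ r + 3) ∨ (l = r + 2 ∧ j = r + 4) with hPdef
  set E : ℕ → ℕ → ℤ := fun l j => if P l j ∨ P j l then 1 else 0 with hEdef
  have hPi : ∀ l j, ((l = 0 ∧ j = 2) ∨ (l = 1 ∧ j = 2) ∨
    (j = l + 1 ∧ 2 ≤ l ∧ j ≤ r + 3) ∨ (l = r + 2 ∧ j = r + 4)) → P l j := fun l j h => h
  have v0 : v 0 = e1 := by simp [hvdef]
  have v1 : v 1 = e2 := by simp [hvdef]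
  have vq : ∀ i, 2 ≤ i → i ≤ r + 2 → v i = q (i - 2) := by
    intro i h1 h2
    simp only [hvdef]
    rw [if_neg (by omega), if_neg (by omega), if_pos h2]
  have vf1 : v (r + 3) = f1 := by
    simp only [hvdef]
    rw [if_neg (by omega), if_neg (by omega), if_neg (by omega)]
    simp
  have vf2 : v (r + 4) = f2 := by
    simp only [hvdef]
    rw [if_neg (by omega), if_neg (by omega), if_neg (by omega), if_neg (by omega)]
  have hcases : ∀ i, i < r + 5 → i = 0 ∨ i = 1 ∨ (2 ≤ i ∧ i ≤ r + 2) ∨ i = r + 3 ∨ i = r + 4 := by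
    intro i hi; omega
  have hinj : ∀ i j, i < r + 5 → j < r + 5 → v i = v j → i = j := by
    intro i j hi hj hij
    rcases hcases i hi with rfl | rfl | ⟨h1, h2⟩ | rfl | rfl <;>
      rcases hcases j hj with rfl | rfl | ⟨h3, h4⟩ | rfl | rfl
    all_goals first
      | rfl
      | (exfalso
         simp only [v0, v1, vf1, vf2] at hij
         first
          | exact he12 hij | exact he12 hij.symm | exact hf12 hij | exact hf12 hij.symm
          | exact he1f1 hij | exact he1f1 hij.symm | exact he1f2 hij | exact he1f2 hij.symm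
          | exact he2f1 hij | exact he2f1 hij.symm | exact he2f2 hij | exact he2f2 hij.symm
          | (rw [vq _ h3 h4] at hij; first | exact he1 _ (by omega) hij.symm | exact he2 _ (by omega) hij.symm | exact hf1 _ (by omega) hij.symm | exact hf2 _ (by omega) hij.symm)
          | (rw [vq _ h1 h2] at hij; first | exact he1 _ (by omega) hij | exact he2 _ (by omega) hij | exact hf1 _ (by omega) hij | exact hf2 _ (by omega) hij))
      | (rw [vq _ h1 h2, vq _ h3 h4] at hij
         have := hp.inj _ _ (by omega) (by omega) hij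
         omega)
  have hPadj : ∀ l j, l < r + 5 → j < r + 5 → P l j → Adj T (v l) (v j) := by
    intro l j hl hj hP
    simp only [hPdef] at hP
    rcases hP with ⟨rfl, rfl⟩ | ⟨rfl, rfl⟩ | ⟨rfl, h2, h3⟩ | ⟨rfl, rfl⟩
    · rw [v0, vq 2 le_rfl (by omega)]; exact a1
    · rw [v1, vq 2 le_rfl (by omega)]; exact a2
    · rcases Nat.lt_or_ge l (r + 2) with h | h
      · rw [vq l h2 (by omega), vq (l + 1) (by omega) (by omega)]
        have := hp.adj (l - 2) (by omega)
        rwa [show l - 2 + 1 = l + 1 - 2 by omega] at this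
      · have : l = r + 2 := by omega
        subst this
        rw [vq (r + 2) (by omega) le_rfl, vf1]
        simpa using b1.symm
    · rw [vq (r + 2) (by omega) le_rfl, vf2]
      simpa using b2.symm
  have hadj : ∀ l j, l < r + 5 → j < r + 5 → E l j ≠ 0 → Adj T (v l) (v j) := by
    intro l j hl hj hE
    simp only [hEdef] at hE
    split_ifs at hE with h
    · rcases h with h | h
      · exact hPadj l j hl hj h
      · exact (hPadj j l hj hl h).symm
    · exact absurd rfl hE
  have hE01 : ∀ l j, E l j = 0 ∨ E l j = 1 := by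
    intro l j
    simp only [hEdef]
    split_ifs
    · exact Or.inr rfl
    · exact Or.inl rfl
  have hEsymm : ∀ l j, E l j = E j l := by
    intro l j
    simp only [hEdef]
    by_cases h : P l j ∨ P j l
    · rw [if_pos h, if_pos h.symm]
    · rw [if_neg h, if_neg (fun h' => h h'.symm)]
  obtain ⟨hk, hsurj, hex, hprop⟩ := contain_nat hm2 (r + 5) v hinj x
    (by intro i _; simp only [hxdef]; split_ifs <;> norm_num) (by omega) E
    (by intro l j; rcases hE01 l j with h | h <;> rw [h] <;> norm_num)
    (by
      intro l j hl hj hlj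
      rcases hE01 l j with h0 | h1
      · rw [h0, zero_mul]
        exact T.offDiag_nonneg _ _ (fun h => hlj (hinj l j hl hj h))
      · rw [h1, one_mul]
        exact w_le_of_adj (hadj l j hl hj (by rw [h1]; norm_num)))
    (by
      intro l hl
      have hE1 : ∀ j, P l j ∨ P j l → E l j = 1 := fun j h => by simp only [hEdef]; rw [if_pos h]
      rcases hcases l hl with rfl | rfl | ⟨h1, h2⟩ | rfl | rfl
      · refine ⟨{2}, by simp, by simp, ?_⟩
        rw [Finset.sum_singleton, hE1 2 (Or.inl (hPi _ _ (by omega)))]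
        simp only [hxdef]
        rw [if_neg (by omega), if_pos (by omega)]
        norm_num
      · refine ⟨{2}, by simp, by simp, ?_⟩
        rw [Finset.sum_singleton, hE1 2 (Or.inl (hPi _ _ (by omega)))]
        simp only [hxdef]
        rw [if_neg (by omega), if_pos (by omega)]
        norm_num
      · -- path vertex
        have hxl : x l = 2 := by simp only [hxdef]; rw [if_pos ⟨h1, h2⟩]
        rw [hxl]
        by_cases hl2 : l = 2
        · subst hl2
          by_cases hr0 : r = 0
          · subst hr0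
            refine ⟨{0, 1, 3, 4}, by simp, (by intro j hj; simp only [Finset.mem_insert, Finset.mem_singleton] at hj; omega), ?_⟩
            rw [Finset.sum_insert (by simp), Finset.sum_insert (by simp), Finset.sum_pair (by omega)]
            rw [hE1 0 (Or.inr (hPi _ _ (by omega))),
              hE1 1 (Or.inr (hPi _ _ (by omega))),
              hE1 3 (Or.inl (hPi _ _ (by omega))),
              hE1 4 (Or.inl (hPi _ _ (by omega)))]
            simp only [hxdef]
            norm_num
          · refine ⟨{0, 1, 3}, by simp, (by intro j hj; simp only [Finset.mem_insert, Finset.mem_singleton] at hj; omega), ?_⟩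
            rw [Finset.sum_insert (by simp), Finset.sum_pair (by omega)]
            rw [hE1 0 (Or.inr (hPi _ _ (by omega))),
              hE1 1 (Or.inr (hPi _ _ (by omega))),
              hE1 3 (Or.inl (hPi _ _ (by omega)))]
            simp only [hxdef]
            rw [if_neg (by omega), if_neg (by omega), if_pos (by omega)]
            norm_num
        · by_cases hlr : l = r + 2
          · subst hlr
            refine ⟨{r + 1, r + 3, r + 4}, by simp, (by intro j hj; simp only [Finset.mem_insert, Finset.mem_singleton] at hj; omega), ?_⟩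
            rw [Finset.sum_insert (by simp), Finset.sum_pair (by omega)]
            rw [hE1 (r + 1) (Or.inr (hPi _ _ (by omega))),
              hE1 (r + 3) (Or.inl (hPi _ _ (by omega))),
              hE1 (r + 4) (Or.inl (hPi _ _ (by omega)))]
            simp only [hxdef]
            rw [if_pos (by omega), if_neg (by omega), if_neg (by omega)]
            norm_num
          · refine ⟨{l - 1, l + 1}, (by simp only [Finset.mem_insert, Finset.mem_singleton]; omega), (by intro j hj; simp only [Finset.mem_insert, Finset.mem_singleton] at hj; omega), ?_⟩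
            rw [Finset.sum_pair (by omega)]
            rw [hE1 (l - 1) (Or.inr (hPi _ _ (by omega))),
              hE1 (l + 1) (Or.inl (hPi _ _ (by omega)))]
            simp only [hxdef]
            rw [if_pos (by omega), if_pos (by omega)]
            norm_num
      · refine ⟨{r + 2}, by simp, by simp, ?_⟩
        rw [Finset.sum_singleton, hE1 (r + 2) (Or.inr (hPi _ _ (by omega)))]
        simp only [hxdef]
        rw [if_neg (by omega), if_pos (by omega)]
        norm_num
      · refine ⟨{r + 2}, by simp, by simp, ?_⟩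
        rw [Finset.sum_singleton, hE1 (r + 2) (Or.inr (hPi _ _ (by omega)))]
        simp only [hxdef]
        rw [if_neg (by omega), if_pos (by omega)]
        norm_num)
  have hPe : ∀ l j, P l j → ((l = 0 ∧ j = 2) ∨ (l = 1 ∧ j = 2) ∨
    (j = l + 1 ∧ 2 ≤ l ∧ j ≤ r + 3) ∨ (l = r + 2 ∧ j = r + 4)) := fun l j h => h
  have hE1 : ∀ l j, P l j ∨ P j l → E l j = 1 := fun l j h => by simp only [hEdef]; rw [if_pos h]
  have hE0' : ∀ l j, ¬ (P l j ∨ P j l) → E l j = 0 := fun l j h => by
    simp only [hEdef]; rw [if_neg h]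
  obtain ⟨σ, hσ⟩ := exists_perm v (fun i j hi hj => hinj i j (by omega) (by omega))
  have hedge : ∀ l j, l < r + 5 → j < r + 5 → l ≠ j → E l j = 1 → T.w (v j) = T.w (v l) := by
    intro l j hl hj hlj h1
    have e1 := hex l j hl hj hlj
    have e2 := hex j l hj hl (Ne.symm hlj)
    rw [h1] at e1
    rw [← hEsymm, h1] at e2
    exact w_eq_of_one e1 e2
  have hwpath : ∀ i, 2 ≤ i → i ≤ r + 2 → T.w (v i) = T.w (v 2) := by
    intro i h1
    induction i, h1 using Nat.le_induction with
    | base => intro _; rfl
    | succ i hi ih =>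
      intro h2
      rw [hedge i (i + 1) (by omega) (by omega) (by omega)
        (hE1 _ _ (Or.inl (hPi _ _ (by omega)))), ih (by omega)]
  have hw : ∀ i, i < r + 5 → T.w (v i) = T.w (v 2) := by
    intro i hi
    rcases hcases i hi with rfl | rfl | ⟨h1, h2⟩ | rfl | rfl
    · exact hedge 2 0 (by omega) (by omega) (by omega) (hE1 _ _ (Or.inr (hPi _ _ (by omega))))
    · exact hedge 2 1 (by omega) (by omega) (by omega) (hE1 _ _ (Or.inr (hPi _ _ (by omega))))
    · exact hwpath i h1 h2
    · rw [hedge (r + 2) (r + 3) (by omega) (by omega) (by omega)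
        (hE1 _ _ (Or.inl (hPi _ _ (by omega))))]
      exact hwpath _ (by omega) le_rfl
    · rw [hedge (r + 2) (r + 4) (by omega) (by omega) (by omega)
        (hE1 _ _ (Or.inl (hPi _ _ (by omega))))]
      exact hwpath _ (by omega) le_rfl
  have hx0 : x 0 = 1 := by simp [hxdef]
  have hm : ∀ i, i < r + 5 → T.m (v i) = x i * T.m (v 0) := by
    intro i hi
    have := hprop 0 i (by omega) hi
    rw [hx0, one_mul] at this
    exact this
  refine ⟨σ, T.m (v 0), T.w (v 2), Or.inr (Or.inr (Or.inr (Or.inr (Or.inr (Or.inr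
    ⟨?_, ?_, ?_, ?_, ?_, ?_, ?_, ?_, ?_⟩)))))⟩
  · intro i hi
    rw [hσ, hm _ (by omega)]
    simp only [hxdef]
    rw [if_neg (by omega), one_mul]
  · intro i hi
    rw [hσ, hm _ (by omega)]
    simp only [hxdef]
    rw [if_pos (by omega)]
  · intro i hi
    rw [hσ, hm _ (by omega)]
    simp only [hxdef]
    rw [if_neg (by omega), one_mul]
  · intro i
    rw [hσ, hw _ (by omega)]
  · intro i j hij h
    rw [hσ, hσ, hex _ _ (by omega) (by omega) (by omega), hE1 _ _ (Or.inl (hPi _ _ (by omega))),
      one_mul, hw _ (by omega)]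
  · intro i j hij h
    rw [hσ, hσ, hex _ _ (by omega) (by omega) (by omega), hE1 _ _ (Or.inl (hPi _ _ (by omega))),
      one_mul, hw _ (by omega)]
  · intro i j hij h
    rw [hσ, hσ, hex _ _ (by omega) (by omega) (by omega), hE1 _ _ (Or.inl (hPi _ _ (by omega))),
      one_mul, hw _ (by omega)]
  · intro i j hij h
    rw [hσ, hσ, hex _ _ (by omega) (by omega) (by omega), hE1 _ _ (Or.inl (hPi _ _ (by omega))),
      one_mul, hw _ (by omega)]
  · intro i j hij h1 h2 h3 h4
    rw [hσ, hσ, hex _ _ (by omega) (by omega) (by omega), hE0', zero_mul]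
    intro h
    rcases h with h | h
    · have := hPe _ _ h
      omega
    · have := hPe _ _ h
      omega

end Groth.Agent.H9.NT
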