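import Mathlib
import Groth.Agent.Lib.Helper9.Misc.NT7

/-! Helper9: numerical types, the families with one double edge and a fork. -/

namespace Groth.Agent.H9.NT

open Models Finset Groth.Agent.H4.NumType

variable {n : ℕ} {T : NumericalType n}

theorem dbl_cases (hm2 : ∀ i, T.IsMinusTwo i) (hn : 4 ≤ n) {i j : Fin n} (h : Dbl T i j) :
    (cf T i j = 2 ∧ cf T j i = 1 ∧ T.w j = 2 * T.w i) ∨
      (cf T i j = 1 ∧ cf T j i = 2 ∧ T.w i = 2 * T.w j) := by
  rcases cf_cases hm2 hn h.1 with ⟨h1, h2, h3⟩ | ⟨h1, h2, h3⟩ | ⟨h1, h2, h3⟩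
  · have := h.2
    rw [h1, h2] at this
    norm_num at this
  · exact Or.inl ⟨h1, h2, h3⟩
  · exact Or.inr ⟨h1, h2, h3⟩

/-- one double edge at the start, a fork at the end -/
theorem shape12 (hm2 : ∀ i, T.IsMinusTwo i) (hn : 4 ≤ n) {q : ℕ → Fin n} {r : ℕ}
    (hp : IsPath T q r)
    (e f1 f2 : Fin n) (hf12 : f1 ≠ f2) (hef1 : e ≠ f1) (hef2 : e ≠ f2)
    (he : ∀ i, i ≤ r → q i ≠ e)
    (hf1 : ∀ i, i ≤ r → q i ≠ f1) (hf2 : ∀ i, i ≤ r → q i ≠ f2)
    (hd : Dbl T e (q 0)) (b1 : Adj T f1 (q r)) (b2 : Adj T f2 (q r)) :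
    Fams T := by
  classical
  obtain ⟨α, hα⟩ : ∃ α, α = cf T e (q 0) := ⟨_, rfl⟩
  obtain ⟨α', hα'⟩ : ∃ α', α' = cf T (q 0) e := ⟨_, rfl⟩
  have hαα : α' * α = 2 := by rw [hα, hα', mul_comm]; exact hd.2
  have hα1 : 1 ≤ α := by rw [hα]; exact cf_pos hd.1
  have hα'1 : 1 ≤ α' := by rw [hα']; exact cf_pos hd.1.symm
  set v : ℕ → Fin n := fun i =>
    if i = 0 then e else if i ≤ r + 1 then q (i - 1)
    else if i = r + 2 then f1 else f2 with hvdef
  set x : ℕ → ℤ := fun i => if i = 0 then α else if i ≤ r + 1 then 2 else 1 with hxdef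
  set P : ℕ → ℕ → Prop := fun l j =>
    (j = l + 1 ∧ 1 ≤ l ∧ j ≤ r + 2) ∨ (l = r + 1 ∧ j = r + 3) with hPdef
  set E : ℕ → ℕ → ℤ := fun l j => if l = 0 ∧ j = 1 then α else if l = 1 ∧ j = 0 then α'
    else if P l j ∨ P j l then 1 else 0 with hEdef
  have hPi : ∀ l j, ((j = l + 1 ∧ 1 ≤ l ∧ j ≤ r + 2) ∨ (l = r + 1 ∧ j = r + 3)) → P l j :=
    fun l j h => h
  have hPe : ∀ l j, P l j → ((j = l + 1 ∧ 1 ≤ l ∧ j ≤ r + 2) ∨ (l = r + 1 ∧ j = r + 3)) :=
    fun l j h => h
  have v0 : v 0 = e := by simp [hvdef]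
  have vq : ∀ i, 1 ≤ i → i ≤ r + 1 → v i = q (i - 1) := by
    intro i h1 h2
    simp only [hvdef]
    rw [if_neg (by omega), if_pos h2]
  have vf1 : v (r + 2) = f1 := by
    simp only [hvdef]
    rw [if_neg (by omega), if_neg (by omega)]
    simp
  have vf2 : v (r + 3) = f2 := by
    simp only [hvdef]
    rw [if_neg (by omega), if_neg (by omega), if_neg (by omega)]
  have hcases : ∀ i, i < r + 4 → i = 0 ∨ (1 ≤ i ∧ i ≤ r + 1) ∨ i = r + 2 ∨ i = r + 3 := by
    intro i hi; omega
  have hinj : ∀ i j, i < r + 4 → j < r + 4 → v i = v j → i = j := by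
    intro i j hi hj hij
    rcases hcases i hi with rfl | ⟨h1, h2⟩ | rfl | rfl <;>
      rcases hcases j hj with rfl | ⟨h3, h4⟩ | rfl | rfl
    all_goals first
      | rfl
      | (exfalso
         simp only [v0, vf1, vf2] at hij
         first
          | exact hf12 hij | exact hf12 hij.symm
          | exact hef1 hij | exact hef1 hij.symm | exact hef2 hij | exact hef2 hij.symm
          | (rw [vq _ h3 h4] at hij; first | exact he _ (by omega) hij.symm | exact hf1 _ (by omega) hij.symm | exact hf2 _ (by omega) hij.symm)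
          | (rw [vq _ h1 h2] at hij; first | exact he _ (by omega) hij | exact hf1 _ (by omega) hij | exact hf2 _ (by omega) hij))
      | (rw [vq _ h1 h2, vq _ h3 h4] at hij
         have := hp.inj _ _ (by omega) (by omega) hij
         omega)
  have hPadj : ∀ l j, l < r + 4 → j < r + 4 → P l j → Adj T (v l) (v j) := by
    intro l j hl hj hP
    rcases hPe _ _ hP with ⟨rfl, h2, h3⟩ | ⟨rfl, rfl⟩
    · rcases Nat.lt_or_ge l (r + 1) with h | h
      · rw [vq l h2 (by omega), vq (l + 1) (by omega) (by omega)]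
        have := hp.adj (l - 1) (by omega)
        rwa [show l - 1 + 1 = l + 1 - 1 by omega] at this
      · have : l = r + 1 := by omega
        subst this
        rw [vq (r + 1) (by omega) le_rfl, vf1]
        simpa using b1.symm
    · rw [vq (r + 1) (by omega) le_rfl, vf2]
      simpa using b2.symm
  have hE01 : E 0 1 = α := by simp [hEdef]
  have hE10 : E 1 0 = α' := by simp [hEdef]
  have hE1 : ∀ l j, ¬ (l = 0 ∧ j = 1) → ¬ (l = 1 ∧ j = 0) → P l j ∨ P j l → E l j = 1 := by
    intro l j h1 h2 h3
    simp only [hEdef]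
    rw [if_neg h1, if_neg h2, if_pos h3]
  have hE0' : ∀ l j, ¬ (l = 0 ∧ j = 1) → ¬ (l = 1 ∧ j = 0) → ¬ (P l j ∨ P j l) → E l j = 0 := by
    intro l j h1 h2 h3
    simp only [hEdef]
    rw [if_neg h1, if_neg h2, if_neg h3]
  have hEnn : ∀ l j, 0 ≤ E l j := by
    intro l j
    simp only [hEdef]
    split_ifs <;> omega
  have hv1 : v 1 = q 0 := by rw [vq 1 le_rfl (by omega)]
  have hx0 : x 0 = α := by simp [hxdef]
  have hxq : ∀ i, 1 ≤ i → i ≤ r + 1 → x i = 2 := by
    intro i h1 h2
    simp only [hxdef]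
    rw [if_neg (by omega), if_pos h2]
  have hxf : ∀ i, r + 2 ≤ i → x i = 1 := by
    intro i h1
    simp only [hxdef]
    rw [if_neg (by omega), if_neg (by omega)]
  obtain ⟨hk, hsurj, hex, hprop⟩ := contain_nat hm2 (r + 4) v hinj x
    (by intro i _; simp only [hxdef]; split_ifs <;> omega) (by omega) E hEnn
    (by
      intro l j hl hj hlj
      by_cases c1 : l = 0 ∧ j = 1
      · rw [c1.1, c1.2, hE01, v0, hv1, hα, ← a_eq_cf]
      · by_cases c2 : l = 1 ∧ j = 0
        · rw [c2.1, c2.2, hE10, v0, hv1, hα', ← a_eq_cf]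
        · by_cases c3 : P l j ∨ P j l
          · rw [hE1 l j c1 c2 c3, one_mul]
            rcases c3 with c3 | c3
            · exact w_le_of_adj (hPadj l j hl hj c3)
            · exact w_le_of_adj (hPadj j l hj hl c3).symm
          · rw [hE0' l j c1 c2 c3, zero_mul]
            exact T.offDiag_nonneg _ _ (fun h => hlj (hinj l j hl hj h)))
    (by
      intro l hl
      rcases hcases l hl with rfl | ⟨h1, h2⟩ | rfl | rfl
      · refine ⟨{1}, by simp, by simp, ?_⟩
        rw [Finset.sum_singleton, hE01, hx0, hxq 1 le_rfl (by omega)]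
        linarith
      · have hxl : x l = 2 := hxq l h1 h2
        rw [hxl]
        by_cases hl1 : l = 1
        · subst hl1
          by_cases hr0 : r = 0
          · subst hr0
            refine ⟨{0, 2, 3}, by simp, (by intro j hj; simp only [Finset.mem_insert, Finset.mem_singleton] at hj; omega), ?_⟩
            rw [Finset.sum_insert (by simp), Finset.sum_pair (by omega), hE10,
              hE1 1 2 (by omega) (by omega) (Or.inl (hPi _ _ (by omega))),
              hE1 1 3 (by omega) (by omega) (Or.inl (hPi _ _ (by omega))),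
              hx0, hxf 2 (by omega), hxf 3 (by omega)]
            linarith
          · refine ⟨{0, 2}, by simp, (by intro j hj; simp only [Finset.mem_insert, Finset.mem_singleton] at hj; omega), ?_⟩
            rw [Finset.sum_pair (by omega), hE10,
              hE1 1 2 (by omega) (by omega) (Or.inl (hPi _ _ (by omega))),
              hx0, hxq 2 (by omega) (by omega)]
            linarith
        · by_cases hlr : l = r + 1
          · subst hlr
            refine ⟨{r, r + 2, r + 3}, by simp, (by intro j hj; simp only [Finset.mem_insert, Finset.mem_singleton] at hj; omega), ?_⟩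
            rw [Finset.sum_insert (by simp), Finset.sum_pair (by omega),
              hE1 (r + 1) r (by omega) (by omega) (Or.inr (hPi _ _ (by omega))),
              hE1 (r + 1) (r + 2) (by omega) (by omega) (Or.inl (hPi _ _ (by omega))),
              hE1 (r + 1) (r + 3) (by omega) (by omega) (Or.inl (hPi _ _ (by omega))),
              hxq r (by omega) (by omega), hxf (r + 2) (by omega), hxf (r + 3) (by omega)]
            norm_num
          · refine ⟨{l - 1, l + 1}, (by simp only [Finset.mem_insert, Finset.mem_singleton]; omega), (by intro j hj; simp only [Finset.mem_insert, Finset.mem_singleton] at hj; omega), ?_⟩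
            rw [Finset.sum_pair (by omega),
              hE1 l (l - 1) (by omega) (by omega) (Or.inr (hPi _ _ (by omega))),
              hE1 l (l + 1) (by omega) (by omega) (Or.inl (hPi _ _ (by omega))),
              hxq (l - 1) (by omega) (by omega), hxq (l + 1) (by omega) (by omega)]
            norm_num
      · refine ⟨{r + 1}, by simp, by simp, ?_⟩
        rw [Finset.sum_singleton, hE1 (r + 2) (r + 1) (by omega) (by omega) (Or.inr (hPi _ _ (by omega))),
          hxf (r + 2) le_rfl, hxq (r + 1) (by omega) le_rfl]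
        norm_num
      · refine ⟨{r + 1}, by simp, by simp, ?_⟩
        rw [Finset.sum_singleton, hE1 (r + 3) (r + 1) (by omega) (by omega) (Or.inr (hPi _ _ (by omega))),
          hxf (r + 3) (by omega), hxq (r + 1) (by omega) le_rfl]
        norm_num)
  obtain ⟨σ, hσ⟩ := exists_perm v (fun i j hi hj => hinj i j (by omega) (by omega))
  have hedge : ∀ l j, l < r + 4 → j < r + 4 → l ≠ j → ¬ (l = 0 ∧ j = 1) → ¬ (l = 1 ∧ j = 0) →
      P l j ∨ P j l → T.w (v j) = T.w (v l) := by
    intro l j hl hj hlj c1 c2 c3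
    have e1 := hex l j hl hj hlj
    have e2 := hex j l hj hl (Ne.symm hlj)
    rw [hE1 l j c1 c2 c3] at e1
    rw [hE1 j l (by omega) (by omega) c3.symm] at e2
    exact w_eq_of_one e1 e2
  have hwpath : ∀ i, 1 ≤ i → i ≤ r + 1 → T.w (v i) = T.w (v 1) := by
    intro i h1
    induction i, h1 using Nat.le_induction with
    | base => intro _; rfl
    | succ i hi ih =>
      intro h2
      rw [hedge i (i + 1) (by omega) (by omega) (by omega) (by omega) (by omega)
        (Or.inl (hPi _ _ (by omega))), ih (by omega)]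
  have hw : ∀ i, 1 ≤ i → i < r + 4 → T.w (v i) = T.w (v 1) := by
    intro i hi1 hi
    rcases hcases i hi with rfl | ⟨h1, h2⟩ | rfl | rfl
    · omega
    · exact hwpath i h1 h2
    · rw [hedge (r + 1) (r + 2) (by omega) (by omega) (by omega) (by omega) (by omega)
        (Or.inl (hPi _ _ (by omega)))]
      exact hwpath _ (by omega) le_rfl
    · rw [hedge (r + 1) (r + 3) (by omega) (by omega) (by omega) (by omega) (by omega)
        (Or.inl (hPi _ _ (by omega)))]
      exact hwpath _ (by omega) le_rfl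
  have hnotP : ∀ i j : ℕ, i < j → ¬ (j = i + 1 ∧ 1 ≤ i ∧ j ≤ r + 2) → ¬ (i = r + 1 ∧ j = r + 3) →
      ¬ (P i j ∨ P j i) := by
    intro i j hij h1 h2 h
    rcases h with h | h
    · have := hPe _ _ h
      omega
    · have := hPe _ _ h
      omega
  rcases dbl_cases hm2 hn hd with ⟨c1, c2, c3⟩ | ⟨c1, c2, c3⟩
  · -- α = 2 : Fam6
    have hα2 : α = 2 := by rw [hα, c1]
    have hwe : T.w (v 1) = 2 * T.w (v 0) := by rw [hv1, v0]; exact c3
    have hm : ∀ i, i < r + 4 → T.m (v i) = x i * T.m (v (r + 2)) := by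
      intro i hi
      have := hprop (r + 2) i (by omega) hi
      rw [hxf (r + 2) le_rfl, one_mul] at this
      exact this
    refine ⟨σ, T.m (v (r + 2)), T.w (v 0), Or.inr (Or.inr (Or.inr (Or.inr (Or.inr (Or.inl
      ⟨?_, ?_, ?_, ?_, ?_, ?_, ?_⟩)))))⟩
    · intro i hi
      rw [hσ, hm _ (by omega)]
      by_cases h0 : i.val = 0
      · rw [h0, hx0, hα2]
      · rw [hxq _ (by omega) (by omega)]
    · intro i hi
      rw [hσ, hm _ (by omega), hxf _ (by omega), one_mul]
    · intro i hi
      rw [hσ, hi]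
    · intro i hi
      rw [hσ, hw _ (by omega) (by omega), hwe]
    · intro i j hij h
      rw [hσ, hσ, hex _ _ (by omega) (by omega) (by omega)]
      by_cases h0 : i.val = 0
      · have hj1 : j.val = 1 := by omega
        rw [h0, hj1, hE01, hα2]
      · rw [hE1 _ _ (by omega) (by omega) (Or.inl (hPi _ _ (by omega))), one_mul,
          hw _ (by omega) (by omega), hwe]
    · intro i j hij h
      rw [hσ, hσ, hex _ _ (by omega) (by omega) (by omega),
        hE1 _ _ (by omega) (by omega) (Or.inl (hPi _ _ (by omega))), one_mul,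
        hw _ (by omega) (by omega), hwe]
    · intro i j hij h1 h2
      rw [hσ, hσ, hex _ _ (by omega) (by omega) (by omega)]
      by_cases h0 : i.val = 0 ∧ j.val = 1
      · exfalso; omega
      · rw [hE0' _ _ h0 (by omega) (hnotP _ _ hij (by omega) (by omega)), zero_mul]
  · -- α = 1 : Fam5
    have hα1' : α = 1 := by rw [hα, c1]
    have hwe : T.w (v 0) = 2 * T.w (v 1) := by rw [hv1, v0]; exact c3
    have hm : ∀ i, i < r + 4 → T.m (v i) = x i * T.m (v 0) := by
      intro i hi
      have := hprop 0 i (by omega) hi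
      rw [hx0, hα1', one_mul] at this
      exact this
    refine ⟨σ, T.m (v 0), T.w (v 1), Or.inr (Or.inr (Or.inr (Or.inr (Or.inl
      ⟨?_, ?_, ?_, ?_, ?_, ?_, ?_, ?_, ?_⟩))))⟩
    · intro i hi
      rw [hσ, hi]
    · intro i hi
      rw [hσ, hm _ (by omega), hxq _ (by omega) (by omega)]
    · intro i hi
      rw [hσ, hm _ (by omega), hxf _ (by omega), one_mul]
    · intro i hi
      rw [hσ, hi, hwe]
    · intro i hi
      rw [hσ, hw _ (by omega) (by omega)]
    · intro i j hij h
      rw [hσ, hσ, hex _ _ (by omega) (by omega) (by omega), h.1, h.2, hE01, hα1', hwe]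
      ring
    · intro i j hij h
      rw [hσ, hσ, hex _ _ (by omega) (by omega) (by omega),
        hE1 _ _ (by omega) (by omega) (Or.inl (hPi _ _ (by omega))), one_mul,
        hw _ (by omega) (by omega)]
    · intro i j hij h
      rw [hσ, hσ, hex _ _ (by omega) (by omega) (by omega),
        hE1 _ _ (by omega) (by omega) (Or.inl (hPi _ _ (by omega))), one_mul,
        hw _ (by omega) (by omega)]
    · intro i j hij h1 h2 h3
      rw [hσ, hσ, hex _ _ (by omega) (by omega) (by omega),
        hE0' _ _ h1 (by omega) (hnotP _ _ hij (by omega) (by omega)), zero_mul]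

end Groth.Agent.H9.NT
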