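import Mathlib
import Groth.Agent.Lib.Helper9.Misc.NT8

/-! Helper9: numerical types, chains with double edges at both ends. -/

namespace Groth.Agent.H9.NT

open Models Finset Groth.Agent.H4.NumType

variable {n : ℕ} {T : NumericalType n}

/-- a chain with double edges at both ends (not in the orientation `(1,2)`) -/
theorem shape11_aux (hm2 : ∀ i, T.IsMinusTwo i) (hn : 4 ≤ n) {q : ℕ → Fin n} {r : ℕ}
    (hp : IsPath T q r)
    (e f : Fin n) (hef : e ≠ f)
    (he : ∀ i, i ≤ r → q i ≠ e) (hf : ∀ i, i ≤ r → q i ≠ f)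
    (hd0 : Dbl T e (q 0)) (hd1 : Dbl T f (q r))
    (hnot : ¬ (cf T e (q 0) = 1 ∧ cf T f (q r) = 2)) :
    Fams T := by
  classical
  obtain ⟨α, hα⟩ : ∃ α, α = cf T e (q 0) := ⟨_, rfl⟩
  obtain ⟨α', hα'⟩ : ∃ α', α' = cf T (q 0) e := ⟨_, rfl⟩
  obtain ⟨β, hβ⟩ : ∃ β, β = cf T f (q r) := ⟨_, rfl⟩
  obtain ⟨β', hβ'⟩ : ∃ β', β' = cf T (q r) f := ⟨_, rfl⟩
  have hαα : α' * α = 2 := by rw [hα, hα', mul_comm]; exact hd0.2
  have hββ : β' * β = 2 := by rw [hβ, hβ', mul_comm]; exact hd1.2
  have hα1 : 1 ≤ α := by rw [hα]; exact cf_pos hd0.1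
  have hα'1 : 1 ≤ α' := by rw [hα']; exact cf_pos hd0.1.symm
  have hβ1 : 1 ≤ β := by rw [hβ]; exact cf_pos hd1.1
  have hβ'1 : 1 ≤ β' := by rw [hβ']; exact cf_pos hd1.1.symm
  set v : ℕ → Fin n := fun i =>
    if i = 0 then e else if i ≤ r + 1 then q (i - 1) else f with hvdef
  set x : ℕ → ℤ := fun i => if i = 0 then α else if i ≤ r + 1 then 2 else β with hxdef
  set P : ℕ → ℕ → Prop := fun l j => j = l + 1 ∧ 1 ≤ l ∧ j ≤ r + 1 with hPdef
  set E : ℕ → ℕ → ℤ := fun l j => if l = 0 ∧ j = 1 then α else if l = 1 ∧ j = 0 then α'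
    else if l = r + 2 ∧ j = r + 1 then β else if l = r + 1 ∧ j = r + 2 then β'
    else if P l j ∨ P j l then 1 else 0 with hEdef
  have hPi : ∀ l j, (j = l + 1 ∧ 1 ≤ l ∧ j ≤ r + 1) → P l j := fun l j h => h
  have hPe : ∀ l j, P l j → (j = l + 1 ∧ 1 ≤ l ∧ j ≤ r + 1) := fun l j h => h
  have v0 : v 0 = e := by simp [hvdef]
  have vq : ∀ i, 1 ≤ i → i ≤ r + 1 → v i = q (i - 1) := by
    intro i h1 h2
    simp only [hvdef]
    rw [if_neg (by omega), if_pos h2]
  have vf : v (r + 2) = f := by
    simp only [hvdef]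
    rw [if_neg (by omega), if_neg (by omega)]
  have hv1 : v 1 = q 0 := by rw [vq 1 le_rfl (by omega)]
  have hvr : v (r + 1) = q r := by rw [vq (r + 1) (by omega) le_rfl]; simp
  have hcases : ∀ i, i < r + 3 → i = 0 ∨ (1 ≤ i ∧ i ≤ r + 1) ∨ i = r + 2 := by
    intro i hi; omega
  have hinj : ∀ i j, i < r + 3 → j < r + 3 → v i = v j → i = j := by
    intro i j hi hj hij
    rcases hcases i hi with rfl | ⟨h1, h2⟩ | rfl <;>
      rcases hcases j hj with rfl | ⟨h3, h4⟩ | rfl
    all_goals first
      | rfl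
      | (exfalso
         simp only [v0, vf] at hij
         first
          | exact hef hij | exact hef hij.symm
          | (rw [vq _ h3 h4] at hij; first | exact he _ (by omega) hij.symm | exact hf _ (by omega) hij.symm)
          | (rw [vq _ h1 h2] at hij; first | exact he _ (by omega) hij | exact hf _ (by omega) hij))
      | (rw [vq _ h1 h2, vq _ h3 h4] at hij
         have := hp.inj _ _ (by omega) (by omega) hij
         omega)
  have hPadj : ∀ l j, l < r + 3 → j < r + 3 → P l j → Adj T (v l) (v j) := by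
    intro l j hl hj hP
    obtain ⟨rfl, h2, h3⟩ := hPe _ _ hP
    rw [vq l h2 (by omega), vq (l + 1) (by omega) (by omega)]
    have := hp.adj (l - 1) (by omega)
    rwa [show l - 1 + 1 = l + 1 - 1 by omega] at this
  have hE01 : E 0 1 = α := by simp [hEdef]
  have hE10 : E 1 0 = α' := by simp [hEdef]
  have hEfr : E (r + 2) (r + 1) = β := by
    simp [hEdef]
  have hErf : E (r + 1) (r + 2) = β' := by
    simp [hEdef]
  have hE1 : ∀ l j, ¬ (l = 0 ∧ j = 1) → ¬ (l = 1 ∧ j = 0) → ¬ (l = r + 2 ∧ j = r + 1) →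
      ¬ (l = r + 1 ∧ j = r + 2) → P l j ∨ P j l → E l j = 1 := by
    intro l j h1 h2 h3 h4 h5
    simp only [hEdef]
    rw [if_neg h1, if_neg h2, if_neg h3, if_neg h4, if_pos h5]
  have hE0' : ∀ l j, ¬ (l = 0 ∧ j = 1) → ¬ (l = 1 ∧ j = 0) → ¬ (l = r + 2 ∧ j = r + 1) →
      ¬ (l = r + 1 ∧ j = r + 2) → ¬ (P l j ∨ P j l) → E l j = 0 := by
    intro l j h1 h2 h3 h4 h5
    simp only [hEdef]
    rw [if_neg h1, if_neg h2, if_neg h3, if_neg h4, if_neg h5]
  have hEnn : ∀ l j, 0 ≤ E l j := by
    intro l j
    simp only [hEdef]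
    split_ifs <;> omega
  have hx0 : x 0 = α := by simp [hxdef]
  have hxq : ∀ i, 1 ≤ i → i ≤ r + 1 → x i = 2 := by
    intro i h1 h2
    simp only [hxdef]
    rw [if_neg (by omega), if_pos h2]
  have hxf : x (r + 2) = β := by
    simp only [hxdef]
    rw [if_neg (by omega), if_neg (by omega)]
  obtain ⟨hk, hsurj, hex, hprop⟩ := contain_nat hm2 (r + 3) v hinj x
    (by intro i _; simp only [hxdef]; split_ifs <;> omega) (by omega) E hEnn
    (by
      intro l j hl hj hlj
      by_cases c1 : l = 0 ∧ j = 1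
      · rw [c1.1, c1.2, hE01, v0, hv1, hα, ← a_eq_cf]
      · by_cases c2 : l = 1 ∧ j = 0
        · rw [c2.1, c2.2, hE10, v0, hv1, hα', ← a_eq_cf]
        · by_cases c3 : l = r + 2 ∧ j = r + 1
          · rw [c3.1, c3.2, hEfr, vf, hvr, hβ, ← a_eq_cf]
          · by_cases c4 : l = r + 1 ∧ j = r + 2
            · rw [c4.1, c4.2, hErf, vf, hvr, hβ', ← a_eq_cf]
            · by_cases c5 : P l j ∨ P j l
              · rw [hE1 l j c1 c2 c3 c4 c5, one_mul]
                rcases c5 with c5 | c5
                · exact w_le_of_adj (hPadj l j hl hj c5)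
                · exact w_le_of_adj (hPadj j l hj hl c5).symm
              · rw [hE0' l j c1 c2 c3 c4 c5, zero_mul]
                exact T.offDiag_nonneg _ _ (fun h => hlj (hinj l j hl hj h)))
    (by
      intro l hl
      rcases hcases l hl with rfl | ⟨h1, h2⟩ | rfl
      · refine ⟨{1}, by simp, by simp, ?_⟩
        rw [Finset.sum_singleton, hE01, hx0, hxq 1 le_rfl (by omega)]
        linarith
      · have hxl : x l = 2 := hxq l h1 h2
        rw [hxl]
        by_cases hl1 : l = 1
        · subst hl1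
          by_cases hr0 : r = 0
          · subst hr0
            refine ⟨{0, 2}, by simp, (by intro j hj; simp only [Finset.mem_insert, Finset.mem_singleton] at hj; omega), ?_⟩
            rw [Finset.sum_pair (by omega), hE10, hErf, hx0, hxf]
            linarith
          · refine ⟨{0, 2}, by simp, (by intro j hj; simp only [Finset.mem_insert, Finset.mem_singleton] at hj; omega), ?_⟩
            rw [Finset.sum_pair (by omega), hE10,
              hE1 1 2 (by omega) (by omega) (by omega) (by omega) (Or.inl (hPi _ _ (by omega))),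
              hx0, hxq 2 (by omega) (by omega)]
            linarith
        · by_cases hlr : l = r + 1
          · subst hlr
            refine ⟨{r, r + 2}, by simp, (by intro j hj; simp only [Finset.mem_insert, Finset.mem_singleton] at hj; omega), ?_⟩
            rw [Finset.sum_pair (by omega),
              hE1 (r + 1) r (by omega) (by omega) (by omega) (by omega) (Or.inr (hPi _ _ (by omega))),
              hErf, hxq r (by omega) (by omega), hxf]
            linarith
          · refine ⟨{l - 1, l + 1}, (by simp only [Finset.mem_insert, Finset.mem_singleton]; omega), (by intro j hj; simp only [Finset.mem_insert, Finset.mem_singleton] at hj; omega), ?_⟩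
            rw [Finset.sum_pair (by omega),
              hE1 l (l - 1) (by omega) (by omega) (by omega) (by omega) (Or.inr (hPi _ _ (by omega))),
              hE1 l (l + 1) (by omega) (by omega) (by omega) (by omega) (Or.inl (hPi _ _ (by omega))),
              hxq (l - 1) (by omega) (by omega), hxq (l + 1) (by omega) (by omega)]
            norm_num
      · refine ⟨{r + 1}, by simp, by simp, ?_⟩
        rw [Finset.sum_singleton, hEfr, hxf, hxq (r + 1) (by omega) le_rfl]
        linarith)
  obtain ⟨σ, hσ⟩ := exists_perm v (fun i j hi hj => hinj i j (by omega) (by omega))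
  have hedge : ∀ l j, l < r + 3 → j < r + 3 → l ≠ j → P l j → T.w (v j) = T.w (v l) := by
    intro l j hl hj hlj c3
    have hh := hPe _ _ c3
    have e1 := hex l j hl hj hlj
    have e2 := hex j l hj hl (Ne.symm hlj)
    rw [hE1 l j (by omega) (by omega) (by omega) (by omega) (Or.inl c3)] at e1
    rw [hE1 j l (by omega) (by omega) (by omega) (by omega) (Or.inr c3)] at e2
    exact w_eq_of_one e1 e2
  have hwpath : ∀ i, 1 ≤ i → i ≤ r + 1 → T.w (v i) = T.w (v 1) := by
    intro i h1
    induction i, h1 using Nat.le_induction with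
    | base => intro _; rfl
    | succ i hi ih =>
      intro h2
      rw [hedge i (i + 1) (by omega) (by omega) (by omega) (hPi _ _ (by omega)), ih (by omega)]
  have hwr : T.w (q r) = T.w (v 1) := by rw [← hvr]; exact hwpath _ (by omega) le_rfl
  have hnotP : ∀ i j : ℕ, i < j → ¬ (j = i + 1 ∧ 1 ≤ i ∧ j ≤ r + 1) → ¬ (P i j ∨ P j i) := by
    intro i j hij h1 h
    rcases h with h | h
    · have := hPe _ _ h
      omega
    · have := hPe _ _ h
      omega
  rcases dbl_cases hm2 hn hd0 with ⟨c1, c2, c3⟩ | ⟨c1, c2, c3⟩ <;>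
    rcases dbl_cases hm2 hn hd1 with ⟨d1, d2, d3⟩ | ⟨d1, d2, d3⟩
  · -- α = 2, β = 2 : Fam3
    have hα2 : α = 2 := by rw [hα, c1]
    have hβ2 : β = 2 := by rw [hβ, d1]
    have hβ'1' : β' = 1 := by rw [hβ', d2]
    have hwe : T.w (v 1) = 2 * T.w (v 0) := by rw [hv1, v0]; exact c3
    have hwf : T.w (v (r + 2)) = T.w (v 0) := by
      have : T.w (v 1) = 2 * T.w (v (r + 2)) := by rw [vf, ← hwr]; exact d3
      omega
    have hm : ∀ i, i < r + 3 → T.m (v i) = T.m (v 0) := by
      intro i hi
      have := hprop 0 i (by omega) hi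
      rw [hx0, hα2] at this
      rcases hcases i hi with rfl | ⟨h1, h2⟩ | rfl
      · rfl
      · rw [hxq i h1 h2] at this; omega
      · rw [hxf, hβ2] at this; omega
    refine ⟨σ, T.m (v 0), T.w (v 0), Or.inr (Or.inr (Or.inl ⟨?_, ?_, ?_, ?_, ?_, ?_⟩))⟩
    · intro i
      rw [hσ, hm _ (by omega)]
    · intro i hi
      rw [hσ, hi]
    · intro i hi
      rw [hσ, hwpath _ (by omega) (by omega), hwe]
    · intro i hi
      rw [hσ, show i.val = r + 2 by omega, hwf]
    · intro i j hij h
      rw [hσ, hσ, hex _ _ (by omega) (by omega) (by omega)]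
      by_cases h0 : i.val = 0
      · rw [h0, show j.val = 1 by omega, hE01, hα2]
      · by_cases hr1 : i.val = r + 1
        · rw [hr1, show j.val = r + 2 by omega, hErf, hβ'1', one_mul,
            hwpath _ (by omega) (by omega), hwe]
        · rw [hE1 _ _ (by omega) (by omega) (by omega) (by omega) (Or.inl (hPi _ _ (by omega))),
            one_mul, hwpath _ (by omega) (by omega), hwe]
    · intro i j hij h1
      rw [hσ, hσ, hex _ _ (by omega) (by omega) (by omega),
        hE0' _ _ (by omega) (by omega) (by omega) (by omega) (hnotP _ _ hij (by omega)), zero_mul]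
  · -- α = 2, β = 1 : Fam2
    have hα2 : α = 2 := by rw [hα, c1]
    have hβ1' : β = 1 := by rw [hβ, d1]
    have hβ'2 : β' = 2 := by rw [hβ', d2]
    have hwe : T.w (v 1) = 2 * T.w (v 0) := by rw [hv1, v0]; exact c3
    have hwf : T.w (v (r + 2)) = 4 * T.w (v 0) := by
      have : T.w (v (r + 2)) = 2 * T.w (v 1) := by rw [vf, ← hwr]; exact d3
      omega
    have hm : ∀ i, i < r + 3 → T.m (v i) = x i * T.m (v (r + 2)) := by
      intro i hi
      have := hprop (r + 2) i (by omega) hi
      rw [hxf, hβ1', one_mul] at this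
      exact this
    refine ⟨σ, T.m (v (r + 2)), T.w (v 0), Or.inr (Or.inl ⟨?_, ?_, ?_, ?_, ?_, ?_, ?_, ?_⟩)⟩
    · intro i hi
      rw [hσ, hm _ (by omega)]
      by_cases h0 : i.val = 0
      · rw [h0, hx0, hα2]
      · rw [hxq _ (by omega) (by omega)]
    · intro i hi
      rw [hσ, show i.val = r + 2 by omega]
    · intro i hi
      rw [hσ, hi]
    · intro i hi
      rw [hσ, hwpath _ (by omega) (by omega), hwe]
    · intro i hi
      rw [hσ, show i.val = r + 2 by omega, hwf]
    · intro i j hij h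
      rw [hσ, hσ, hex _ _ (by omega) (by omega) (by omega)]
      by_cases h0 : i.val = 0
      · rw [h0, show j.val = 1 by omega, hE01, hα2]
      · rw [hE1 _ _ (by omega) (by omega) (by omega) (by omega) (Or.inl (hPi _ _ (by omega))),
          one_mul, hwpath _ (by omega) (by omega), hwe]
    · intro i j hij h
      rw [hσ, hσ, hex _ _ (by omega) (by omega) (by omega), show i.val = r + 1 by omega,
        show j.val = r + 2 by omega, hErf, hβ'2, hwpath _ (by omega) (by omega), hwe]
      ring
    · intro i j hij h1 h2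
      rw [hσ, hσ, hex _ _ (by omega) (by omega) (by omega),
        hE0' _ _ (by omega) (by omega) (by omega) (by omega) (hnotP _ _ hij (by omega)), zero_mul]
  · exact absurd ⟨c1, d1⟩ hnot
  · -- α = 1, β = 1 : Fam4
    have hα1' : α = 1 := by rw [hα, c1]
    have hα'2 : α' = 2 := by rw [hα', c2]
    have hβ1' : β = 1 := by rw [hβ, d1]
    have hβ'2 : β' = 2 := by rw [hβ', d2]
    have hwe : T.w (v 0) = 2 * T.w (v 1) := by rw [hv1, v0]; exact c3
    have hwf : T.w (v (r + 2)) = 2 * T.w (v 1) := by rw [vf, ← hwr]; exact d3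
    have hm : ∀ i, i < r + 3 → T.m (v i) = x i * T.m (v 0) := by
      intro i hi
      have := hprop 0 i (by omega) hi
      rw [hx0, hα1', one_mul] at this
      exact this
    refine ⟨σ, T.m (v 0), T.w (v 1), Or.inr (Or.inr (Or.inr (Or.inl
      ⟨?_, ?_, ?_, ?_, ?_, ?_, ?_, ?_, ?_, ?_⟩)))⟩
    · intro i hi
      rw [hσ, hi]
    · intro i hi
      rw [hσ, hm _ (by omega), hxq _ (by omega) (by omega)]
    · intro i hi
      rw [hσ, hm _ (by omega), show i.val = r + 2 by omega, hxf, hβ1', one_mul]
    · intro i hi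
      rw [hσ, hi, hwe]
    · intro i hi
      rw [hσ, hwpath _ (by omega) (by omega)]
    · intro i hi
      rw [hσ, show i.val = r + 2 by omega, hwf]
    · intro i j hij h
      rw [hσ, hσ, hex _ _ (by omega) (by omega) (by omega), h.1, h.2, hE01, hα1', hwe]
      ring
    · intro i j hij h
      rw [hσ, hσ, hex _ _ (by omega) (by omega) (by omega),
        hE1 _ _ (by omega) (by omega) (by omega) (by omega) (Or.inl (hPi _ _ (by omega))),
        one_mul, hwpath _ (by omega) (by omega)]
    · intro i j hij h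
      rw [hσ, hσ, hex _ _ (by omega) (by omega) (by omega), show i.val = r + 1 by omega,
        show j.val = r + 2 by omega, hErf, hβ'2, hwpath _ (by omega) (by omega)]
    · intro i j hij h1 h2 h3
      rw [hσ, hσ, hex _ _ (by omega) (by omega) (by omega),
        hE0' _ _ (by omega) (by omega) (by omega) (by omega) (hnotP _ _ hij (by omega)), zero_mul]

/-- a chain with double edges at both ends -/
theorem shape11 (hm2 : ∀ i, T.IsMinusTwo i) (hn : 4 ≤ n) {q : ℕ → Fin n} {r : ℕ}
    (hp : IsPath T q r)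
    (e f : Fin n) (hef : e ≠ f)
    (he : ∀ i, i ≤ r → q i ≠ e) (hf : ∀ i, i ≤ r → q i ≠ f)
    (hd0 : Dbl T e (q 0)) (hd1 : Dbl T f (q r)) :
    Fams T := by
  by_cases hnot : cf T e (q 0) = 1 ∧ cf T f (q r) = 2
  · refine shape11_aux hm2 hn hp.rev f e hef.symm (fun i hi => hf _ (by omega))
      (fun i hi => he _ (by omega)) (by simpa using hd1) (by simpa using hd0) ?_
    simp only [Nat.sub_zero, Nat.sub_self]
    rw [hnot.1, hnot.2]
    norm_num
  · exact shape11_aux hm2 hn hp e f hef he hf hd0 hd1 hnot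

end Groth.Agent.H9.NT
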