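import Mathlib
import Groth.Agent.Lib.Helper9.Misc.NT9

/-! Helper9: numerical types, acyclic dual graphs. -/

namespace Groth.Agent.H9.NT

open Models Finset Groth.Agent.H4.NumType

variable {n : ℕ} {T : NumericalType n}

/-- no cycles in the dual graph -/
def NoCyc (T : NumericalType n) : Prop :=
  ∀ (q : ℕ → Fin n) (r : ℕ), 2 ≤ r → IsPath T q r → ¬ Adj T (q r) (q 0)

theorem fams_of_cyc (hm2 : ∀ i, T.IsMinusTwo i) (h : ¬ NoCyc T) : Fams T := by
  unfold NoCyc at h
  push Not at h
  obtain ⟨q, r, hr, hp, hc⟩ := h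
  exact cycle_fam hm2 hp hr hc

/-- fork at the start, double edge at the end -/
theorem shape21 (hm2 : ∀ i, T.IsMinusTwo i) (hn : 4 ≤ n) {q : ℕ → Fin n} {r : ℕ}
    (hp : IsPath T q r)
    (e f1 f2 : Fin n) (hf12 : f1 ≠ f2) (hef1 : e ≠ f1) (hef2 : e ≠ f2)
    (he : ∀ i, i ≤ r → q i ≠ e)
    (hf1 : ∀ i, i ≤ r → q i ≠ f1) (hf2 : ∀ i, i ≤ r → q i ≠ f2)
    (hd : Dbl T e (q r)) (b1 : Adj T f1 (q 0)) (b2 : Adj T f2 (q 0)) :
    Fams T :=
  shape12 hm2 hn hp.rev e f1 f2 hf12 hef1 hef2 (fun i _ => he _ (by omega))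
    (fun i _ => hf1 _ (by omega)) (fun i _ => hf2 _ (by omega)) (by simpa using hd)
    (by simpa using b1) (by simpa using b2)

theorem isPath_const (x : Fin n) : IsPath T (fun _ => x) 0 :=
  ⟨fun i hi => absurd hi (by omega), fun i j hi hj _ => by omega⟩

theorem no_chord (hc : NoCyc T) {q : ℕ → Fin n} {r : ℕ} (hp : IsPath T q r) {i j : ℕ}
    (hij : i + 2 ≤ j) (hj : j ≤ r) : ¬ Adj T (q i) (q j) := by
  intro h
  have hp' := (hp.mono hj).shift i (by omega)
  have := hc _ _ (by omega) hp'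
  apply this
  simp only [zero_add]
  rw [show j - i + i = j by omega]
  exact h.symm

/-- a neighbour of a path vertex lying on the path is adjacent along the path -/
theorem adj_on_path (hc : NoCyc T) {q : ℕ → Fin n} {r : ℕ} (hp : IsPath T q r) {i j : ℕ}
    (hi : i ≤ r) (hj : j ≤ r) (h : Adj T (q i) (q j)) : j = i + 1 ∨ i = j + 1 := by
  rcases Nat.lt_or_ge (i + 1) j with h1 | h1
  · exact absurd h (no_chord hc hp (by omega) hj)
  · rcases Nat.lt_or_ge (j + 1) i with h2 | h2
    · exact absurd h.symm (no_chord hc hp (by omega) hi)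
    · have : i ≠ j := fun e => h.1 (by rw [e])
      omega

/-- non-backtracking extension stays off the path -/
theorem off_of_nonback (hc : NoCyc T) {q : ℕ → Fin n} {r : ℕ} (hp : IsPath T q r) {y : Fin n}
    (hadj : Adj T (q r) y) (hy : r = 0 ∨ y ≠ q (r - 1)) : ∀ i, i ≤ r → q i ≠ y := by
  intro i hi he
  subst he
  rcases adj_on_path hc hp le_rfl hi hadj with h | h
  · omega
  · rcases hy with h0 | h1
    · omega
    · apply h1
      rw [show r - 1 = i by omega]

/-- an off-path vertex is adjacent to at most one path vertex -/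
theorem off_unique (hc : NoCyc T) {q : ℕ → Fin n} {r : ℕ} (hp : IsPath T q r) {y : Fin n}
    (hy : ∀ i, i ≤ r → q i ≠ y) {i j : ℕ} (hi : i ≤ r) (hj : j ≤ r)
    (h1 : Adj T y (q i)) (h2 : Adj T y (q j)) : i = j := by
  by_contra hne
  wlog hlt : i < j generalizing i j
  · exact this hj hi h2 h1 (Ne.symm hne) (by omega)
  have hp' := (hp.mono hj).shift i (by omega)
  have hext := hp'.extend y (fun t ht => hy _ (by omega)) (by
    rw [show j - i + i = j by omega]
    exact h2.symm)
  have := hc _ _ (by omega) hext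
  apply this
  rw [Function.update_self, Function.update_of_ne (by omega)]
  simpa using h1

end Groth.Agent.H9.NT
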