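import Mathlib
import Groth.Agent.Lib.Helper9.Misc.NT10

/-! Helper9: numerical types, pairs of features give an infinite family. -/

namespace Groth.Agent.H9.NT

open Models Finset Groth.Agent.H4.NumType

variable {n : ℕ} {T : NumericalType n}

/-- a vertex with at least three neighbours -/
def Branch (T : NumericalType n) (b : Fin n) : Prop :=
  ∃ x y z, x ≠ y ∧ x ≠ z ∧ y ≠ z ∧ Adj T b x ∧ Adj T b y ∧ Adj T b z

theorem stepA (hm2 : ∀ i, T.IsMinusTwo i) (b x1 x2 x3 x4 : Fin n)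
    (h12 : x1 ≠ x2) (h13 : x1 ≠ x3) (h14 : x1 ≠ x4) (h23 : x2 ≠ x3) (h24 : x2 ≠ x4)
    (h34 : x3 ≠ x4) (a1 : Adj T b x1) (a2 : Adj T b x2) (a3 : Adj T b x3) (a4 : Adj T b x4) :
    Fams T :=
  shape22 hm2 (isPath_const b) x1 x2 x3 x4 h12 h34 h13 h14 h23 h24
    (fun _ _ => a1.1) (fun _ _ => a2.1) (fun _ _ => a3.1) (fun _ _ => a4.1)
    a1.symm a2.symm a3.symm a4.symm

theorem stepB (hm2 : ∀ i, T.IsMinusTwo i) (hn : 4 ≤ n) (b e f1 f2 : Fin n)
    (hf : f1 ≠ f2) (h1 : e ≠ f1) (h2 : e ≠ f2) (hd : Dbl T e b) (a1 : Adj T b f1)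
    (a2 : Adj T b f2) : Fams T :=
  shape12 hm2 hn (isPath_const b) e f1 f2 hf h1 h2 (fun _ _ => hd.1.1.symm)
    (fun _ _ => a1.1) (fun _ _ => a2.1) hd a1.symm a2.symm

theorem stepC (hm2 : ∀ i, T.IsMinusTwo i) (hn : 4 ≤ n) (b e f : Fin n)
    (hef : e ≠ f) (hd : Dbl T e b) (hd' : Dbl T f b) : Fams T :=
  shape11 hm2 hn (isPath_const b) e f hef (fun _ _ => hd.1.1.symm) (fun _ _ => hd'.1.1.symm)
    hd hd'

theorem two_off_path (hc : NoCyc T) {q : ℕ → Fin n} {r : ℕ} (hp : IsPath T q r)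
    (hb : Branch T (q 0)) :
    ∃ e1 e2, e1 ≠ e2 ∧ Adj T e1 (q 0) ∧ Adj T e2 (q 0) ∧ (∀ i, i ≤ r → q i ≠ e1) ∧
      (∀ i, i ≤ r → q i ≠ e2) := by
  obtain ⟨x, y, z, hxy, hxz, hyz, ax, ay, az⟩ := hb
  have hon : ∀ u, Adj T (q 0) u → (∃ i, i ≤ r ∧ q i = u) → u = q 1 := by
    rintro u hu ⟨i, hi, rfl⟩
    rcases adj_on_path hc hp (Nat.zero_le _) hi hu with h | h
    · rw [h]
    · omega
  by_cases ox : ∃ i, i ≤ r ∧ q i = x
  · have hx := hon x ax ox
    have oy : ¬ ∃ i, i ≤ r ∧ q i = y := fun h => hxy (by rw [hx, hon y ay h])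
    have oz : ¬ ∃ i, i ≤ r ∧ q i = z := fun h => hxz (by rw [hx, hon z az h])
    push Not at oy oz
    exact ⟨y, z, hyz, ay.symm, az.symm, oy, oz⟩
  · by_cases oy : ∃ i, i ≤ r ∧ q i = y
    · have hy := hon y ay oy
      have oz : ¬ ∃ i, i ≤ r ∧ q i = z := fun h => hyz (by rw [hy, hon z az h])
      push Not at ox oz
      exact ⟨x, z, hxz, ax.symm, az.symm, ox, oz⟩
    · push Not at ox oy
      exact ⟨x, y, hxy, ax.symm, ay.symm, ox, oy⟩

theorem stepD (hm2 : ∀ i, T.IsMinusTwo i) (hc : NoCyc T) (b b' : Fin n) (hbb : b ≠ b')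
    (hb : Branch T b) (hb' : Branch T b') : Fams T := by
  obtain ⟨q, r, hp, h0, hr⟩ := exists_path (T := T) b b'
  have hr1 : 1 ≤ r := by
    by_contra h
    have : r = 0 := by omega
    subst this
    exact hbb (h0.symm.trans hr)
  obtain ⟨e1, e2, he12, a1, a2, o1, o2⟩ := two_off_path hc hp (by rw [h0]; exact hb)
  obtain ⟨f1, f2, hf12, b1, b2, p1, p2⟩ := two_off_path hc hp.rev (by
    simp only [Nat.sub_zero]; rw [hr]; exact hb')
  simp only [Nat.sub_zero] at b1 b2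
  have p1' : ∀ i, i ≤ r → q i ≠ f1 := fun i hi => by
    have := p1 (r - i) (by omega)
    rwa [show r - (r - i) = i by omega] at this
  have p2' : ∀ i, i ≤ r → q i ≠ f2 := fun i hi => by
    have := p2 (r - i) (by omega)
    rwa [show r - (r - i) = i by omega] at this
  have hne : ∀ e f, (∀ i, i ≤ r → q i ≠ e) → Adj T e (q 0) → Adj T f (q r) → e ≠ f := by
    intro e f oe ae af hef
    subst hef
    have := off_unique hc hp oe (Nat.zero_le _) le_rfl ae af
    omega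
  exact shape22 hm2 hp e1 e2 f1 f2 he12 hf12 (hne _ _ o1 a1 b1) (hne _ _ o1 a1 b2)
    (hne _ _ o2 a2 b1) (hne _ _ o2 a2 b2) o1 o2 p1' p2' a1 a2 b1 b2

/-- move a double edge at the start of a path off the path -/
theorem adjust_start (hc : NoCyc T) {q : ℕ → Fin n} {r : ℕ} (hp : IsPath T q r) (hr : 1 ≤ r)
    {y : Fin n} (hd : Dbl T (q 0) y) (hy : y ≠ q r) :
    ∃ (q' : ℕ → Fin n) (r' : ℕ) (e : Fin n), IsPath T q' r' ∧ 1 ≤ r' ∧ q' r' = q r ∧
      Dbl T e (q' 0) ∧ (∀ i, i ≤ r' → q' i ≠ e) ∧ (∀ i, i ≤ r' → ∃ j, j ≤ r ∧ q' i = q j) ∧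
      ((e = y ∧ q' 0 = q 0) ∨ (e = q 0 ∧ q' 0 = y)) := by
  by_cases hon : ∃ i, i ≤ r ∧ q i = y
  · obtain ⟨i, hi, rfl⟩ := hon
    have hi1 : i = 1 := by
      rcases adj_on_path hc hp (Nat.zero_le _) hi hd.1 with h | h <;> omega
    subst hi1
    have hr2 : 2 ≤ r := by
      by_contra h
      have : r = 1 := by omega
      subst this
      exact hy rfl
    refine ⟨fun t => q (t + 1), r - 1, q 0, hp.shift 1 (by omega), by omega, ?_, ?_, ?_, ?_, ?_⟩
    · show q (r - 1 + 1) = q r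
      rw [show r - 1 + 1 = r by omega]
    · simpa using hd
    · intro t ht
      exact hp.ne (by omega) (by omega) (by omega)
    · intro t ht
      exact ⟨t + 1, by omega, rfl⟩
    · exact Or.inr ⟨rfl, by simp⟩
  · push Not at hon
    exact ⟨q, r, y, hp, hr, rfl, hd.symm, hon, fun i hi => ⟨i, hi, rfl⟩, Or.inl ⟨rfl, rfl⟩⟩

theorem stepE (hm2 : ∀ i, T.IsMinusTwo i) (hn : 4 ≤ n) (hc : NoCyc T) (b x y : Fin n)
    (hb : Branch T b) (hd : Dbl T x y) (hbx : b ≠ x) (hby : b ≠ y) : Fams T := by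
  obtain ⟨q, r, hp, h0, hr⟩ := exists_path (T := T) x b
  have hr1 : 1 ≤ r := by
    by_contra h
    have : r = 0 := by omega
    subst this
    exact hbx (hr.symm.trans h0)
  obtain ⟨q', r', e, hp', hr', hend, hde, oe, -, -⟩ :=
    adjust_start hc hp hr1 (y := y) (by rw [h0]; exact hd) (by rw [hr]; exact hby.symm)
  obtain ⟨f1, f2, hf12, b1, b2, p1, p2⟩ := two_off_path hc hp'.rev (by
    simp only [Nat.sub_zero]; rw [hend, hr]; exact hb)
  simp only [Nat.sub_zero] at b1 b2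
  have p1' : ∀ i, i ≤ r' → q' i ≠ f1 := fun i hi => by
    have := p1 (r' - i) (by omega)
    rwa [show r' - (r' - i) = i by omega] at this
  have p2' : ∀ i, i ≤ r' → q' i ≠ f2 := fun i hi => by
    have := p2 (r' - i) (by omega)
    rwa [show r' - (r' - i) = i by omega] at this
  have hne : ∀ f, Adj T f (q' r') → e ≠ f := by
    intro f af hef
    subst hef
    have := off_unique hc hp' oe (Nat.zero_le _) le_rfl hde.1 af
    omega
  exact shape12 hm2 hn hp' e f1 f2 hf12 (hne _ b1) (hne _ b2) oe p1' p2' hde b1 b2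

theorem stepF (hm2 : ∀ i, T.IsMinusTwo i) (hn : 4 ≤ n) (hc : NoCyc T) (x y x' y' : Fin n)
    (hd : Dbl T x y) (hd' : Dbl T x' y') (h1 : x ≠ x') (h2 : x ≠ y') (h3 : y ≠ x') (h4 : y ≠ y') :
    Fams T := by
  obtain ⟨q, r, hp, h0, hr⟩ := exists_path (T := T) x x'
  have hr1 : 1 ≤ r := by
    by_contra h
    have : r = 0 := by omega
    subst this
    exact h1 (h0.symm.trans hr)
  obtain ⟨q', r', e, hp', hr', hend, hde, oe, -, hcase⟩ :=
    adjust_start hc hp hr1 (y := y) (by rw [h0]; exact hd) (by rw [hr]; exact h3)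
  rw [h0] at hcase
  rw [hr] at hend
  -- adjust the other end
  have hq'0 : q' 0 = x ∨ q' 0 = y := by
    rcases hcase with h | h
    · exact Or.inl h.2
    · exact Or.inr h.2
  have he : e = x ∨ e = y := by
    rcases hcase with h | h
    · exact Or.inr h.1
    · exact Or.inl h.1
  obtain ⟨q'', r'', f, hp'', hr'', hend'', hdf, of, hsub, hcase''⟩ :=
    adjust_start hc hp'.rev hr' (y := y') (by
      simp only [Nat.sub_zero]; rw [hend]; exact hd') (by
      simp only [Nat.sub_self]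
      rcases hq'0 with h | h <;> rw [h]
      · exact h2.symm
      · exact h4.symm)
  simp only [Nat.sub_zero, Nat.sub_self] at hend'' hcase''
  rw [hend] at hcase''
  have hf : f = x' ∨ f = y' := by
    rcases hcase'' with h | h
    · exact Or.inr h.1
    · exact Or.inl h.1
  have hef : e ≠ f := by
    rcases he with rfl | rfl <;> rcases hf with rfl | rfl <;> assumption
  refine shape11 hm2 hn hp''.rev e f hef ?_ ?_ ?_ ?_
  · intro i hi
    obtain ⟨j, hj, hj'⟩ := hsub (r'' - i) (by omega)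
    rw [hj']
    exact oe _ (by omega)
  · intro i hi
    exact of _ (by omega)
  · simp only [Nat.sub_zero]
    rw [hend'']
    exact hde
  · simp only [Nat.sub_self]
    exact hdf

end Groth.Agent.H9.NT
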