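import Mathlib
import Groth.Agent.Lib.Helper9.Misc.NT11

/-! Helper9: numerical types, local structure and propagation along arms. -/

namespace Groth.Agent.H9.NT

open Models Finset Groth.Agent.H4.NumType

variable {n : ℕ} {T : NumericalType n}

/-- evaluation of a row through a set containing all neighbours -/
theorem row_cfX (hm2 : ∀ i, T.IsMinusTwo i) (l : Fin n) (S : Finset (Fin n)) (hl : l ∉ S)
    (hS : ∀ j, Adj T l j → j ∈ S) (X : Fin n → ℤ) :
    ∑ j, T.a l j * X j = T.w l * (∑ j ∈ S, cf T l j * X j - 2 * X l) := by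
  classical
  have h1 : ∑ j, T.a l j * X j =
      ∑ j ∈ insert l S, T.a l j * X j + ∑ j ∈ (insert l S)ᶜ, T.a l j * X j :=
    (Finset.sum_add_sum_compl _ _).symm
  rw [Finset.sum_insert hl] at h1
  have h2 : ∑ j ∈ (insert l S)ᶜ, T.a l j * X j = 0 := by
    apply Finset.sum_eq_zero
    intro j hj
    simp only [Finset.mem_compl, Finset.mem_insert, not_or] at hj
    have : T.a l j = 0 := by
      by_contra hne
      exact hj.2 (hS j ⟨fun h => hj.1 h.symm, hne⟩)
    rw [this, zero_mul]
  have h3 : ∑ j ∈ S, T.a l j * X j = T.w l * ∑ j ∈ S, cf T l j * X j := by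
    rw [Finset.mul_sum]
    apply Finset.sum_congr rfl
    intro j _
    rw [a_eq_cf T l j]
    ring
  rw [h1, h2, h3, (hm2 l).2]
  ring

theorem row_cf (hm2 : ∀ i, T.IsMinusTwo i) (l : Fin n) (S : Finset (Fin n)) (hl : l ∉ S)
    (hS : ∀ j, Adj T l j → j ∈ S) : ∑ j ∈ S, cf T l j * T.m j = 2 * T.m l := by
  have h := row_cfX hm2 l S hl hS T.m
  rw [row_eq T l] at h
  have hw := T.w_pos l
  rcases mul_eq_zero.1 h.symm with h0 | h0
  · omega
  · omega

/-- a leaf with given parent -/
def Leaf (T : NumericalType n) (y p : Fin n) : Prop := ∀ j, Adj T y j → j = p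

/-- a vertex with exactly one further neighbour -/
def Next (T : NumericalType n) (y p y' : Fin n) : Prop :=
  Adj T y y' ∧ y' ≠ p ∧ ∀ j, Adj T y j → j = p ∨ j = y'

theorem leaf_or_next {y p : Fin n} (hnb : ¬ Branch T y) (hp : Adj T y p) :
    Leaf T y p ∨ ∃ y', Next T y p y' := by
  by_cases h : ∃ y', Adj T y y' ∧ y' ≠ p
  · obtain ⟨y', h1, h2⟩ := h
    refine Or.inr ⟨y', h1, h2, fun j hj => ?_⟩
    by_contra hcon
    push Not at hcon
    exact hnb ⟨p, y', j, h2.symm, hcon.1.symm, hcon.2.symm, hp, h1, hj⟩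
  · push Not at h
    exact Or.inl fun j hj => h j hj

theorem leaf_row (hm2 : ∀ i, T.IsMinusTwo i) {y p : Fin n} (hp : Adj T y p) (hl : Leaf T y p) :
    cf T y p * T.m p = 2 * T.m y := by
  classical
  have := row_cf hm2 y {p} (by simpa using hp.1) (fun j hj => by simp [hl j hj])
  simpa using this

theorem next_row (hm2 : ∀ i, T.IsMinusTwo i) {y p y' : Fin n} (hp : Adj T y p)
    (hn : Next T y p y') : cf T y p * T.m p + cf T y y' * T.m y' = 2 * T.m y := by
  classical
  have := row_cf hm2 y {p, y'} (by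
    simp only [Finset.mem_insert, Finset.mem_singleton, not_or]
    exact ⟨hp.1, hn.1.1⟩) (fun j hj => by
    simp only [Finset.mem_insert, Finset.mem_singleton]
    exact hn.2.2 j hj)
  rwa [Finset.sum_pair hn.2.1.symm] at this

/-- along an arm where `m` has become constant we reach a contradiction at the end -/
theorem const_arm_false (hm2 : ∀ i, T.IsMinusTwo i) (hc : NoCyc T) {q : ℕ → Fin n} {r s : ℕ}
    (hp : IsPath T q r) (hs : 1 ≤ s) (hsr : s ≤ r)
    (hcf : ∀ i, s ≤ i → i ≤ r → ∀ j, Adj T (q i) j → cf T (q i) j = 1)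
    (hnb : ∀ i, s ≤ i → i ≤ r → ¬ Branch T (q i))
    (hmax : ∀ y, Adj T (q r) y → ∃ j, j ≤ r ∧ q j = y)
    (heq : T.m (q s) = T.m (q (s - 1))) : False := by
  have hstep : ∀ i, s ≤ i → i < r → T.m (q (i - 1)) + T.m (q (i + 1)) = 2 * T.m (q i) := by
    intro i hi hir
    have a1 : Adj T (q i) (q (i - 1)) := by
      have := (hp.adj (i - 1) (by omega)).symm
      rwa [show i - 1 + 1 = i by omega] at this
    have a2 : Adj T (q i) (q (i + 1)) := hp.adj i hir
    have hne : q (i + 1) ≠ q (i - 1) := hp.ne (by omega) (by omega) (by omega)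
    have hnx : Next T (q i) (q (i - 1)) (q (i + 1)) := by
      refine ⟨a2, hne, fun j hj => ?_⟩
      by_contra hcon
      push Not at hcon
      exact hnb i hi (by omega) ⟨_, _, j, hne.symm, hcon.1.symm, hcon.2.symm, a1, a2, hj⟩
    have := next_row hm2 a1 hnx
    rwa [hcf i hi (by omega) _ a1, hcf i hi (by omega) _ a2, one_mul, one_mul] at this
  have hall : ∀ i, s ≤ i → i ≤ r → T.m (q i) = T.m (q (s - 1)) ∧ T.m (q (i - 1)) = T.m (q (s - 1)) := by
    intro i hi
    induction i, hi using Nat.le_induction with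
    | base => intro _; exact ⟨heq, rfl⟩
    | succ i hi ih =>
      intro hir
      obtain ⟨h1, h2⟩ := ih (by omega)
      have := hstep i hi (by omega)
      refine ⟨by omega, ?_⟩
      rw [show i + 1 - 1 = i by omega]
      exact h1
  obtain ⟨h1, h2⟩ := hall r hsr le_rfl
  -- the end is a leaf
  have a1 : Adj T (q r) (q (r - 1)) := by
    have := (hp.adj (r - 1) (by omega)).symm
    rwa [show r - 1 + 1 = r by omega] at this
  have hleaf : Leaf T (q r) (q (r - 1)) := by
    intro j hj
    obtain ⟨t, ht, rfl⟩ := hmax j hj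
    rcases adj_on_path hc hp le_rfl ht hj with h | h
    · omega
    · rw [show r - 1 = t by omega]
  have := leaf_row hm2 a1 hleaf
  rw [hcf r hsr le_rfl _ a1, one_mul, h1, h2] at this
  have := T.m_pos (q (s - 1))
  omega

end Groth.Agent.H9.NT
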