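import Mathlib
import Groth.Agent.Lib.Helper9.Misc.NT12

/-! Helper9: numerical types, the finite path-like types are impossible. -/

namespace Groth.Agent.H9.NT

open Models Finset Groth.Agent.H4.NumType

variable {n : ℕ} {T : NumericalType n}

theorem exists_nb (hn : 2 ≤ n) (x : Fin n) : ∃ y, Adj T x y := by
  obtain ⟨z, hz⟩ : ∃ z : Fin n, z ≠ x := by
    have : Nontrivial (Fin n) := Fin.nontrivial_iff_two_le.2 hn
    exact exists_ne x
  obtain ⟨q, r, hp, h0, hr⟩ := exists_path (T := T) x z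
  have hr1 : 1 ≤ r := by
    by_contra h
    have : r = 0 := by omega
    subst this
    exact hz (hr.symm.trans h0)
  exact ⟨q 1, by rw [← h0]; exact hp.adj 0 hr1⟩

theorem exists_leaf (hc : NoCyc T) (hn : 2 ≤ n) : ∃ l p, Adj T l p ∧ Leaf T l p := by
  have x0 : Fin n := ⟨0, by omega⟩
  obtain ⟨q, r, -, -, hp, hmax⟩ := (isPath_const (T := T) x0).exists_max
  have hr1 : 1 ≤ r := by
    by_contra h
    have : r = 0 := by omega
    subst this
    obtain ⟨y, hy⟩ := exists_nb (T := T) hn (q 0)
    obtain ⟨j, hj, hj'⟩ := hmax y hy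
    have : j = 0 := by omega
    subst this
    exact hy.1 hj'
  have a1 : Adj T (q r) (q (r - 1)) := by
    have := (hp.adj (r - 1) (by omega)).symm
    rwa [show r - 1 + 1 = r by omega] at this
  refine ⟨q r, q (r - 1), a1, ?_⟩
  intro j hj
  obtain ⟨t, ht, rfl⟩ := hmax j hj
  rcases adj_on_path hc hp le_rfl ht hj with h | h
  · omega
  · rw [show r - 1 = t by omega]

/-- a path-like graph with only simple edges is impossible -/
theorem pathA_false (hm2 : ∀ i, T.IsMinusTwo i) (hc : NoCyc T) (hn : 2 ≤ n)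
    (hnb : ∀ y, ¬ Branch T y) (hsm : ∀ i j, Adj T i j → cf T i j = 1) : False := by
  classical
  have hrow : ∀ l, ∑ j, T.a l j * (fun _ => (1 : ℤ)) j ≤ 0 ∧
      ((¬ ∃ y1 y2, y1 ≠ y2 ∧ Adj T l y1 ∧ Adj T l y2) → ∑ j, T.a l j * (fun _ => (1 : ℤ)) j < 0) := by
    intro l
    have hw := T.w_pos l
    by_cases h2 : ∃ y1 y2, y1 ≠ y2 ∧ Adj T l y1 ∧ Adj T l y2
    · obtain ⟨y1, y2, h12, a1, a2⟩ := h2
      have := row_cfX hm2 l {y1, y2} (by
        simp only [Finset.mem_insert, Finset.mem_singleton, not_or]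
        exact ⟨a1.1, a2.1⟩) (fun j hj => by
        simp only [Finset.mem_insert, Finset.mem_singleton]
        by_contra hcon
        push Not at hcon
        exact hnb l ⟨y1, y2, j, h12, hcon.1.symm, hcon.2.symm, a1, a2, hj⟩) (fun _ => (1 : ℤ))
      rw [Finset.sum_pair h12, hsm _ _ a1, hsm _ _ a2] at this
      rw [this]
      constructor
      · norm_num
      · intro h
        exact absurd ⟨y1, y2, h12, a1, a2⟩ h
    · by_cases h1 : ∃ y1, Adj T l y1
      · obtain ⟨y1, a1⟩ := h1
        have := row_cfX hm2 l {y1} (by simpa using a1.1) (fun j hj => by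
          simp only [Finset.mem_singleton]
          by_contra hcon
          exact h2 ⟨y1, j, fun h => hcon h.symm, a1, hj⟩) (fun _ => (1 : ℤ))
        rw [Finset.sum_singleton, hsm _ _ a1] at this
        rw [this]
        constructor
        · nlinarith
        · intro _; nlinarith
      · have := row_cfX hm2 l ∅ (by simp) (fun j hj => absurd ⟨j, hj⟩ h1) (fun _ => (1 : ℤ))
        rw [Finset.sum_empty] at this
        rw [this]
        constructor
        · nlinarith
        · intro _; nlinarith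
  obtain ⟨l, p, hlp, hleaf⟩ := exists_leaf hc hn
  refine cert T (fun _ => 1) (fun l => (hrow l).1) ⟨l, (hrow l).2 ?_⟩
  rintro ⟨y1, y2, h12, a1, a2⟩
  exact h12 ((hleaf y1 a1).trans (hleaf y2 a2).symm)

/-- the two-vertex path -/
theorem isPath_two {x y : Fin n} (h : Adj T x y) : IsPath T (fun i => if i = 0 then x else y) 1 := by
  refine ⟨fun i hi => ?_, fun i j hi hj hij => ?_⟩
  · have : i = 0 := by omega
    subst this
    simpa using h
  · by_contra hne
    have : (i = 0 ∧ j = 1) ∨ (i = 1 ∧ j = 0) := by omega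
    rcases this with ⟨rfl, rfl⟩ | ⟨rfl, rfl⟩
    · simp at hij; exact h.1 hij
    · simp at hij; exact h.1 hij.symm

/-- the three-vertex path -/
theorem isPath_three {x y z : Fin n} (h1 : Adj T x y) (h2 : Adj T y z) (h3 : x ≠ z) :
    IsPath T (fun i => if i = 0 then x else if i = 1 then y else z) 2 := by
  refine ⟨fun i hi => ?_, fun i j hi hj hij => ?_⟩
  · have : i = 0 ∨ i = 1 := by omega
    rcases this with rfl | rfl
    · simpa using h1
    · simpa using h2
  · by_contra hne
    have : (i = 0 ∧ j = 1) ∨ (i = 1 ∧ j = 0) ∨ (i = 0 ∧ j = 2) ∨ (i = 2 ∧ j = 0) ∨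
        (i = 1 ∧ j = 2) ∨ (i = 2 ∧ j = 1) := by omega
    rcases this with ⟨rfl, rfl⟩ | ⟨rfl, rfl⟩ | ⟨rfl, rfl⟩ | ⟨rfl, rfl⟩ | ⟨rfl, rfl⟩ | ⟨rfl, rfl⟩
    · simp at hij; exact h1.1 hij
    · simp at hij; exact h1.1 hij.symm
    · simp at hij; exact h3 hij
    · simp at hij; exact h3 hij.symm
    · simp at hij; exact h2.1 hij
    · simp at hij; exact h2.1 hij.symm

/-- a double edge ending in a leaf, with everything else path-like and simple, is impossible -/
theorem BC_false (hm2 : ∀ i, T.IsMinusTwo i) (hn : 4 ≤ n) (hc : NoCyc T)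
    (hnb : ∀ y, ¬ Branch T y) {x y : Fin n} (hd : Dbl T x y) (hleaf : Leaf T x y)
    (hone : ∀ i j, Dbl T i j → (i = x ∧ j = y) ∨ (i = y ∧ j = x)) : False := by
  have hcf1 : ∀ i j, Adj T i j → ¬ ((i = x ∧ j = y) ∨ (i = y ∧ j = x)) → cf T i j = 1 := by
    intro i j hij hne
    rcases smp_or_dbl hm2 hn hij with h | h
    · exact h.2.1
    · exact absurd (hone i j h) hne
  obtain ⟨q, r, hr, hq, hp, hmax⟩ := (isPath_two hd.1).exists_max
  have hq0 : q 0 = x := by rw [hq 0 (by omega)]; simp
  have hq1 : q 1 = y := by rw [hq 1 (by omega)]; simp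
  have hx := leaf_row hm2 hd.1 hleaf
  have hmx := T.m_pos x
  have hmy := T.m_pos y
  have hqi : ∀ i, 2 ≤ i → i ≤ r → q i ≠ x ∧ q i ≠ y := by
    intro i h1 h2
    rw [← hq0, ← hq1]
    exact ⟨hp.ne (by omega) (by omega) (by omega), hp.ne (by omega) (by omega) (by omega)⟩
  have hcf2 : ∀ i, 2 ≤ i → i ≤ r → ∀ j, Adj T (q i) j → cf T (q i) j = 1 := by
    intro i h1 h2 j hj
    apply hcf1 _ _ hj
    have := hqi i h1 h2
    rintro (⟨h, -⟩ | ⟨h, -⟩)
    · exact this.1 h
    · exact this.2 h
  rcases dbl_cases hm2 hn hd with ⟨c1, c2, -⟩ | ⟨c1, c2, -⟩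
  · -- cf x y = 2, cf y x = 1 : m y = m x
    rw [c1] at hx
    refine const_arm_false hm2 hc hp le_rfl hr ?_ (fun i _ _ => hnb _) hmax ?_
    · intro i h1 h2 j hj
      rcases Nat.lt_or_ge i 2 with h | h
      · have : i = 1 := by omega
        subst this
        rw [hq1] at hj ⊢
        by_cases hjx : j = x
        · rw [hjx]; exact c2
        · apply hcf1 _ _ hj
          rintro (⟨h, -⟩ | ⟨-, h⟩)
          · exact hd.1.1 h.symm
          · exact hjx h
      · exact hcf2 i h h2 j hj
    · simp only [Nat.sub_self]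
      rw [hq0, hq1]
      omega
  · -- cf x y = 1, cf y x = 2 : m y = 2 m x
    rw [c1] at hx
    rcases Nat.lt_or_ge r 2 with hr2 | hr2
    · have hr1 : r = 1 := by omega
      subst hr1
      have hleafy : Leaf T y x := by
        intro j hj
        rw [← hq1] at hj
        obtain ⟨t, ht, rfl⟩ := hmax j hj
        have : t = 0 ∨ t = 1 := by omega
        rcases this with rfl | rfl
        · exact hq0
        · exact absurd rfl hj.1
      have := leaf_row hm2 hd.1.symm hleafy
      rw [c2] at this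
      omega
    · have a2 : Adj T y (q 2) := by rw [← hq1]; exact hp.adj 1 (by omega)
      have hne : q 2 ≠ x := (hqi 2 le_rfl hr2).1
      have hnx : Next T y x (q 2) := by
        refine ⟨a2, hne, fun j hj => ?_⟩
        by_contra hcon
        push Not at hcon
        exact hnb y ⟨x, q 2, j, hne.symm, hcon.1.symm, hcon.2.symm, hd.1.symm, a2, hj⟩
      have := next_row hm2 hd.1.symm hnx
      rw [c2, hcf1 _ _ a2 (by
        rintro (⟨h, -⟩ | ⟨-, h⟩)
        · exact hd.1.1 h.symm
        · exact hne h), one_mul] at this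
      refine const_arm_false hm2 hc hp (s := 2) (by omega) hr2 hcf2 (fun i _ _ => hnb _) hmax ?_
      rw [show 2 - 1 = 1 by rfl, hq1]
      omega

end Groth.Agent.H9.NT
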