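import Mathlib
import Groth.Agent.Lib.Helper9.Misc.NT13

/-! Helper9: numerical types, exceptional diagrams E6, E7, E8 (containment). -/

namespace Groth.Agent.H9.NT

open Models Finset Groth.Agent.H4.NumType

variable {n : ℕ} {T : NumericalType n}

/-- `T` is, up to the enumeration `v`, the diagram with Cartan coefficients `E` and null vector `x` -/
def IsDiagram (T : NumericalType n) (k : ℕ) (E : ℕ → ℕ → ℤ) (x : ℕ → ℤ) : Prop :=
  ∃ v : ℕ → Fin n, k = n ∧ (∀ i j, i < k → j < k → v i = v j → i = j) ∧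
    (∀ l j, l < k → j < k → l ≠ j → T.a (v l) (v j) = E l j * T.w (v l)) ∧
    (∀ l l', l < k → l' < k → x l * T.m (v l') = x l' * T.m (v l))

/-- Cartan coefficients of a simply laced diagram with edge relation `R` -/
def Esimple (R : ℕ → ℕ → Prop) [DecidableRel R] : ℕ → ℕ → ℤ :=
  fun l j => if R l j ∨ R j l then 1 else 0

theorem contain_simple (hm2 : ∀ i, T.IsMinusTwo i) (k : ℕ) (hk : 0 < k) (v : ℕ → Fin n)
    (hinj : ∀ i j, i < k → j < k → v i = v j → i = j) (x : ℕ → ℤ) (hx : ∀ i, i < k → 0 < x i)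
    (R : ℕ → ℕ → Prop) [DecidableRel R]
    (hR : ∀ l j, l < k → j < k → R l j → Adj T (v l) (v j))
    (hnum : ∀ l, l < k → ∃ J : Finset ℕ, l ∉ J ∧ (∀ j ∈ J, j < k) ∧
      2 * x l ≤ ∑ j ∈ J, Esimple R l j * x j) :
    IsDiagram T k (Esimple R) x := by
  have hE01 : ∀ l j, Esimple R l j = 0 ∨ Esimple R l j = 1 := by
    intro l j
    unfold Esimple
    split_ifs
    · exact Or.inr rfl
    · exact Or.inl rfl
  obtain ⟨h1, -, h3, h4⟩ := contain_nat hm2 k v hinj x hx hk (Esimple R)
    (by intro l j; rcases hE01 l j with h | h <;> rw [h] <;> norm_num)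
    (by
      intro l j hl hj hlj
      rcases hE01 l j with h0 | h1
      · rw [h0, zero_mul]
        exact T.offDiag_nonneg _ _ (fun h => hlj (hinj l j hl hj h))
      · rw [h1, one_mul]
        have : R l j ∨ R j l := by
          unfold Esimple at h1
          by_contra hcon
          rw [if_neg hcon] at h1
          exact absurd h1 (by norm_num)
        rcases this with h | h
        · exact w_le_of_adj (hR l j hl hj h)
        · exact w_le_of_adj (hR j l hj hl h).symm)
    hnum
  exact ⟨v, h1, hinj, h3, h4⟩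

/-- a path together with one off-path vertex, enumerated -/
theorem inj_path_plus {q : ℕ → Fin n} {r : ℕ} (hp : IsPath T q r) (t : Fin n)
    (ht : ∀ i, i ≤ r → q i ≠ t) :
    ∀ i j, i < r + 2 → j < r + 2 →
      (fun i => if i ≤ r then q i else t) i = (fun i => if i ≤ r then q i else t) j → i = j := by
  intro i j hi hj hij
  simp only at hij
  by_cases h1 : i ≤ r <;> by_cases h2 : j ≤ r
  · rw [if_pos h1, if_pos h2] at hij
    exact hp.inj i j h1 h2 hij
  · rw [if_pos h1, if_neg h2] at hij
    exact absurd hij (ht i h1)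
  · rw [if_neg h1, if_pos h2] at hij
    exact absurd hij.symm (ht j h2)
  · omega

/-- non-backtracking extension of a path -/
theorem IsPath.snoc (hc : NoCyc T) {q : ℕ → Fin n} {r : ℕ} (hp : IsPath T q r) {y : Fin n}
    (hadj : Adj T (q r) y) (hy : r = 0 ∨ y ≠ q (r - 1)) :
    IsPath T (Function.update q (r + 1) y) (r + 1) :=
  hp.extend y (off_of_nonback hc hp hadj hy) hadj

/-! ### the exceptional diagrams -/

def RE6 : ℕ → ℕ → Prop := fun l j =>
  (l = 0 ∧ j = 1) ∨ (l = 1 ∧ j = 2) ∨ (l = 2 ∧ j = 4) ∨ (l = 3 ∧ j = 4) ∨ (l = 2 ∧ j = 6) ∨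
    (l = 5 ∧ j = 6)

instance : DecidableRel RE6 := fun l j => by unfold RE6; infer_instance

def xE6 : ℕ → ℤ := fun i =>
  if i = 0 then 1 else if i = 1 then 2 else if i = 2 then 3 else if i = 3 then 1
  else if i = 4 then 2 else if i = 5 then 1 else 2

def RE7 : ℕ → ℕ → Prop := fun l j => (j = l + 1 ∧ j ≤ 6) ∨ (l = 3 ∧ j = 7)

instance : DecidableRel RE7 := fun l j => by unfold RE7; infer_instance

def xE7 : ℕ → ℤ := fun i =>
  if i = 0 then 1 else if i = 1 then 2 else if i = 2 then 3 else if i = 3 then 4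
  else if i = 4 then 3 else if i = 5 then 2 else if i = 6 then 1 else 2

def RE8 : ℕ → ℕ → Prop := fun l j => (j = l + 1 ∧ j ≤ 7) ∨ (l = 5 ∧ j = 8)

instance : DecidableRel RE8 := fun l j => by unfold RE8; infer_instance

def xE8 : ℕ → ℤ := fun i =>
  if i = 0 then 1 else if i = 1 then 2 else if i = 2 then 3 else if i = 3 then 4
  else if i = 4 then 5 else if i = 5 then 6 else if i = 6 then 4 else if i = 7 then 2 else 3

theorem E7_contain (hm2 : ∀ i, T.IsMinusTwo i) {q : ℕ → Fin n} (hp : IsPath T q 6) (t : Fin n)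
    (ht : ∀ i, i ≤ 6 → q i ≠ t) (hadj : Adj T (q 3) t) :
    IsDiagram T 8 (Esimple RE7) xE7 := by
  refine contain_simple hm2 8 (by norm_num) (fun i => if i ≤ 6 then q i else t)
    (inj_path_plus hp t ht) xE7 (by intro i hi; interval_cases i <;> simp [xE7]) RE7 ?_ ?_
  · intro l j hl hj hR
    unfold RE7 at hR
    rcases hR with ⟨rfl, h⟩ | ⟨rfl, rfl⟩
    · rw [if_pos (by omega), if_pos h]
      exact hp.adj l (by omega)
    · rw [if_pos (by omega), if_neg (by omega)]
      exact hadj
  · intro l hl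
    interval_cases l
    · exact ⟨{1}, by decide, by decide, by decide⟩
    · exact ⟨{0, 2}, by decide, by decide, by decide⟩
    · exact ⟨{1, 3}, by decide, by decide, by decide⟩
    · exact ⟨{2, 4, 7}, by decide, by decide, by decide⟩
    · exact ⟨{3, 5}, by decide, by decide, by decide⟩
    · exact ⟨{4, 6}, by decide, by decide, by decide⟩
    · exact ⟨{5}, by decide, by decide, by decide⟩
    · exact ⟨{3}, by decide, by decide, by decide⟩

theorem E8_contain (hm2 : ∀ i, T.IsMinusTwo i) {q : ℕ → Fin n} (hp : IsPath T q 7) (t : Fin n)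
    (ht : ∀ i, i ≤ 7 → q i ≠ t) (hadj : Adj T (q 5) t) :
    IsDiagram T 9 (Esimple RE8) xE8 := by
  refine contain_simple hm2 9 (by norm_num) (fun i => if i ≤ 7 then q i else t)
    (inj_path_plus hp t ht) xE8 (by intro i hi; interval_cases i <;> simp [xE8]) RE8 ?_ ?_
  · intro l j hl hj hR
    unfold RE8 at hR
    rcases hR with ⟨rfl, h⟩ | ⟨rfl, rfl⟩
    · rw [if_pos (by omega), if_pos h]
      exact hp.adj l (by omega)
    · rw [if_pos (by omega), if_neg (by omega)]
      exact hadj
  · intro l hl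
    interval_cases l
    · exact ⟨{1}, by decide, by decide, by decide⟩
    · exact ⟨{0, 2}, by decide, by decide, by decide⟩
    · exact ⟨{1, 3}, by decide, by decide, by decide⟩
    · exact ⟨{2, 4}, by decide, by decide, by decide⟩
    · exact ⟨{3, 5}, by decide, by decide, by decide⟩
    · exact ⟨{4, 6, 8}, by decide, by decide, by decide⟩
    · exact ⟨{5, 7}, by decide, by decide, by decide⟩
    · exact ⟨{6}, by decide, by decide, by decide⟩
    · exact ⟨{5}, by decide, by decide, by decide⟩


theorem E6_contain (hm2 : ∀ i, T.IsMinusTwo i) {q : ℕ → Fin n} (hp : IsPath T q 4) (v v' : Fin n)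
    (hv : ∀ i, i ≤ 4 → q i ≠ v) (hv' : ∀ i, i ≤ 4 → q i ≠ v') (hvv : v ≠ v')
    (hadj : Adj T (q 2) v) (hadj' : Adj T v v') :
    IsDiagram T 7 (Esimple RE6) xE6 := by
  set w : ℕ → Fin n := fun i => if i = 0 then q 0 else if i = 1 then q 1 else if i = 2 then q 2
    else if i = 3 then q 4 else if i = 4 then q 3 else if i = 5 then v' else v with hw
  have w0 : w 0 = q 0 := by simp [hw]
  have w1 : w 1 = q 1 := by simp [hw]
  have w2 : w 2 = q 2 := by simp [hw]
  have w3 : w 3 = q 4 := by simp [hw]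
  have w4 : w 4 = q 3 := by simp [hw]
  have w5 : w 5 = v' := by simp [hw]
  have w6 : w 6 = v := by simp [hw]
  refine contain_simple hm2 7 (by norm_num) w ?_ xE6
    (by intro i hi; interval_cases i <;> simp [xE6]) RE6 ?_ ?_
  · intro i j hi hj hij
    interval_cases i <;> interval_cases j <;>
      simp only [w0, w1, w2, w3, w4, w5, w6] at hij <;>
      first
      | rfl
      | exact absurd hij (hp.ne (by norm_num) (by norm_num) (by norm_num))
      | exact absurd hij (hv _ (by norm_num))
      | exact absurd hij.symm (hv _ (by norm_num))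
      | exact absurd hij (hv' _ (by norm_num))
      | exact absurd hij.symm (hv' _ (by norm_num))
      | exact absurd hij hvv
      | exact absurd hij.symm hvv
  · intro l j hl hj hR
    unfold RE6 at hR
    rcases hR with ⟨rfl, rfl⟩ | ⟨rfl, rfl⟩ | ⟨rfl, rfl⟩ | ⟨rfl, rfl⟩ | ⟨rfl, rfl⟩ | ⟨rfl, rfl⟩
    · rw [w0, w1]; exact hp.adj 0 (by norm_num)
    · rw [w1, w2]; exact hp.adj 1 (by norm_num)
    · rw [w2, w4]; exact hp.adj 2 (by norm_num)
    · rw [w3, w4]; exact (hp.adj 3 (by norm_num)).symm
    · rw [w2, w6]; exact hadj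
    · rw [w5, w6]; exact hadj'.symm
  · intro l hl
    interval_cases l
    · exact ⟨{1}, by decide, by decide, by decide⟩
    · exact ⟨{0, 2}, by decide, by decide, by decide⟩
    · exact ⟨{1, 4, 6}, by decide, by decide, by decide⟩
    · exact ⟨{4}, by decide, by decide, by decide⟩
    · exact ⟨{2, 3}, by decide, by decide, by decide⟩
    · exact ⟨{6}, by decide, by decide, by decide⟩
    · exact ⟨{2, 5}, by decide, by decide, by decide⟩

end Groth.Agent.H9.NT
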