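import Mathlib
import Groth.Agent.Lib.Helper9.Misc.NT14

/-! Helper9: numerical types, F4-type diagrams. -/

namespace Groth.Agent.H9.NT

open Models Finset Groth.Agent.H4.NumType

variable {n : ℕ} {T : NumericalType n}

def EF4 (α α' : ℤ) : ℕ → ℕ → ℤ := fun l j =>
  if l = 2 ∧ j = 3 then α else if l = 3 ∧ j = 2 then α'
  else if (j = l + 1 ∨ l = j + 1) ∧ l ≤ 4 ∧ j ≤ 4 then 1 else 0

def xF4a : ℕ → ℤ := fun i =>
  if i = 0 then 1 else if i = 1 then 2 else if i = 2 then 3 else if i = 3 then 4 else 2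

def xF4b : ℕ → ℤ := fun i =>
  if i = 0 then 1 else if i = 1 then 2 else if i = 2 then 3 else if i = 3 then 2 else 1

theorem F4_contain (hm2 : ∀ i, T.IsMinusTwo i) (hn : 4 ≤ n) {q : ℕ → Fin n} (hp : IsPath T q 4)
    (hd : Dbl T (q 2) (q 3)) :
    IsDiagram T 5 (EF4 1 2) xF4a ∨ IsDiagram T 5 (EF4 2 1) xF4b := by
  have hgen : ∀ (α α' : ℤ) (x : ℕ → ℤ), cf T (q 2) (q 3) = α → cf T (q 3) (q 2) = α' →
      1 ≤ α → 1 ≤ α' → (∀ i, i < 5 → 0 < x i) →
      (∀ l, l < 5 → ∃ J : Finset ℕ, l ∉ J ∧ (∀ j ∈ J, j < 5) ∧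
        2 * x l ≤ ∑ j ∈ J, EF4 α α' l j * x j) → IsDiagram T 5 (EF4 α α') x := by
    intro α α' x hα hα' h1 h1' hx hnum
    obtain ⟨e1, -, e3, e4⟩ := contain_nat hm2 5 q
      (fun i j hi hj => hp.inj i j (by omega) (by omega)) x hx (by norm_num) (EF4 α α')
      (by intro l j; unfold EF4; split_ifs <;> omega)
      (by
        intro l j hl hj hlj
        unfold EF4
        by_cases c1 : l = 2 ∧ j = 3
        · rw [if_pos c1, c1.1, c1.2, ← hα, ← a_eq_cf]
        · by_cases c2 : l = 3 ∧ j = 2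
          · rw [if_neg c1, if_pos c2, c2.1, c2.2, ← hα', ← a_eq_cf]
          · by_cases c3 : (j = l + 1 ∨ l = j + 1) ∧ l ≤ 4 ∧ j ≤ 4
            · rw [if_neg c1, if_neg c2, if_pos c3, one_mul]
              rcases c3.1 with h | h
              · subst h; exact w_le_of_adj (hp.adj l (by omega))
              · subst h; exact w_le_of_adj (hp.adj j (by omega)).symm
            · rw [if_neg c1, if_neg c2, if_neg c3, zero_mul]
              exact T.offDiag_nonneg _ _ (hp.ne (by omega) (by omega) hlj))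
      hnum
    exact ⟨q, e1, fun i j hi hj => hp.inj i j (by omega) (by omega), e3, e4⟩
  rcases dbl_cases hm2 hn hd with ⟨c1, c2, -⟩ | ⟨c1, c2, -⟩
  · right
    refine hgen 2 1 xF4b c1 c2 (by norm_num) (by norm_num)
      (by intro i hi; interval_cases i <;> simp [xF4b]) ?_
    intro l hl
    interval_cases l
    · exact ⟨{1}, by decide, by decide, by decide⟩
    · exact ⟨{0, 2}, by decide, by decide, by decide⟩
    · exact ⟨{1, 3}, by decide, by decide, by decide⟩
    · exact ⟨{2, 4}, by decide, by decide, by decide⟩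
    · exact ⟨{3}, by decide, by decide, by decide⟩
  · left
    refine hgen 1 2 xF4a c1 c2 (by norm_num) (by norm_num)
      (by intro i hi; interval_cases i <;> simp [xF4a]) ?_
    intro l hl
    interval_cases l
    · exact ⟨{1}, by decide, by decide, by decide⟩
    · exact ⟨{0, 2}, by decide, by decide, by decide⟩
    · exact ⟨{1, 3}, by decide, by decide, by decide⟩
    · exact ⟨{2, 4}, by decide, by decide, by decide⟩
    · exact ⟨{3}, by decide, by decide, by decide⟩

/-- the finite type `F4` is impossible -/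
theorem F4_false (hm2 : ∀ i, T.IsMinusTwo i) (hn : 4 ≤ n) {x y x' y' : Fin n} (hd : Dbl T x y)
    (hx : Next T x y x') (hy : Next T y x y') (hx' : Leaf T x' x) (hy' : Leaf T y' y)
    (c1 : cf T x x' = 1) (c2 : cf T x' x = 1) (c3 : cf T y y' = 1) (c4 : cf T y' y = 1) :
    False := by
  have e1 := leaf_row hm2 hx.1.symm hx'
  have e2 := next_row hm2 hd.1 hx
  have e3 := next_row hm2 hd.1.symm hy
  have e4 := leaf_row hm2 hy.1.symm hy'
  rw [c2] at e1
  rw [c1] at e2
  rw [c3] at e3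
  rw [c4] at e4
  have p1 := T.m_pos x
  have p2 := T.m_pos y
  have p3 := T.m_pos x'
  have p4 := T.m_pos y'
  rcases dbl_cases hm2 hn hd with ⟨d1, d2, -⟩ | ⟨d1, d2, -⟩
  · rw [d1] at e2
    rw [d2] at e3
    omega
  · rw [d1] at e2
    rw [d2] at e3
    omega

end Groth.Agent.H9.NT
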