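import Mathlib
import Groth.Agent.Lib.Helper9.Misc.NT15

/-! Helper9: numerical types, the case without branch vertex. -/

namespace Groth.Agent.H9.NT

open Models Finset Groth.Agent.H4.NumType

variable {n : ℕ} {T : NumericalType n}

theorem snoc_exists (hc : NoCyc T) {q : ℕ → Fin n} {r : ℕ} (hp : IsPath T q r) {y : Fin n}
    (hadj : Adj T (q r) y) (hy : r = 0 ∨ y ≠ q (r - 1)) :
    ∃ q', IsPath T q' (r + 1) ∧ (∀ i, i ≤ r → q' i = q i) ∧ q' (r + 1) = y :=
  ⟨_, hp.snoc hc hadj hy, fun i hi => Function.update_of_ne (by omega) _ _,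
    Function.update_self _ _ _⟩

theorem three_exists {x y z : Fin n} (h1 : Adj T x y) (h2 : Adj T y z) (h3 : x ≠ z) :
    ∃ q, IsPath T q 2 ∧ q 0 = x ∧ q 1 = y ∧ q 2 = z :=
  ⟨_, isPath_three h1 h2 h3, by simp, by simp, by simp⟩

/-- no branch vertex, at most one double edge -/
theorem caseA (hm2 : ∀ i, T.IsMinusTwo i) (hn : 4 ≤ n) (hc : NoCyc T)
    (hnb : ∀ y, ¬ Branch T y)
    (hone : ∀ i j i' j', Dbl T i j → Dbl T i' j' → (i = i' ∧ j = j') ∨ (i = j' ∧ j = i')) :
    IsDiagram T 5 (EF4 1 2) xF4a ∨ IsDiagram T 5 (EF4 2 1) xF4b := by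
  by_cases hD : ∃ x y, Dbl T x y
  · obtain ⟨x, y, hd⟩ := hD
    have hone' : ∀ i j, Dbl T i j → (i = x ∧ j = y) ∨ (i = y ∧ j = x) :=
      fun i j h => hone i j x y h hd
    have hcf1 : ∀ i j, Adj T i j → ¬ ((i = x ∧ j = y) ∨ (i = y ∧ j = x)) → Smp T i j := by
      intro i j hij hne
      rcases smp_or_dbl hm2 hn hij with h | h
      · exact h
      · exact absurd (hone' i j h) hne
    rcases leaf_or_next (hnb x) hd.1 with hlx | ⟨x', hx⟩
    · exact (BC_false hm2 hn hc hnb hd hlx hone').elim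
    rcases leaf_or_next (hnb y) hd.1.symm with hly | ⟨y', hy⟩
    · exact (BC_false hm2 hn hc hnb hd.symm hly (fun i j h => (hone' i j h).symm)).elim
    have hxx' : Smp T x x' := hcf1 _ _ hx.1 (by
      rintro (⟨-, h⟩ | ⟨h, -⟩)
      · exact hx.2.1 h
      · exact hd.1.1 h)
    have hyy' : Smp T y y' := hcf1 _ _ hy.1 (by
      rintro (⟨h, -⟩ | ⟨-, h⟩)
      · exact hd.1.1 h.symm
      · exact hy.2.1 h)
    obtain ⟨q3, hq3, q30, q31, q32⟩ := three_exists hx.1.symm hd.1 hx.2.1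
    obtain ⟨q4, hq4, q4e, q43⟩ := snoc_exists hc hq3 (y := y') (by rw [q32]; exact hy.1)
      (Or.inr (by rw [show 2 - 1 = 1 by rfl, q31]; exact hy.2.1))
    rcases leaf_or_next (hnb x') hx.1.symm with hlx' | ⟨x'', hx''⟩ <;>
      rcases leaf_or_next (hnb y') hy.1.symm with hly' | ⟨y'', hy''⟩
    · exact (F4_false hm2 hn hd hx hy hlx' hly' hxx'.2.1 hxx'.2.2 hyy'.2.1 hyy'.2.2).elim
    · -- extend by y''
      obtain ⟨q5, hq5, q5e, q54⟩ := snoc_exists hc hq4 (y := y'') (by rw [q43]; exact hy''.1)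
        (Or.inr (by rw [show 3 - 1 = 2 by rfl, q4e 2 (by omega), q32]; exact hy''.2.1))
      refine F4_contain hm2 hn hq5.rev ?_
      show Dbl T (q5 (4 - 2)) (q5 (4 - 3))
      rw [show 4 - 2 = 2 by rfl, show 4 - 3 = 1 by rfl, q5e 2 (by omega), q5e 1 (by omega),
        q4e 2 (by omega), q4e 1 (by omega), q32, q31]
      exact hd.symm
    · -- extend by x''
      obtain ⟨q5, hq5, q5e, q54⟩ := snoc_exists hc hq4.rev (y := x'') (by
        show Adj T (q4 (3 - 3)) x''
        rw [show 3 - 3 = 0 by rfl, q4e 0 (by omega), q30]; exact hx''.1)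
        (Or.inr (by
          show x'' ≠ q4 (3 - (3 - 1))
          rw [show 3 - (3 - 1) = 1 by rfl, q4e 1 (by omega), q31]; exact hx''.2.1))
      refine F4_contain hm2 hn hq5.rev ?_
      show Dbl T (q5 (4 - 2)) (q5 (4 - 3))
      rw [show 4 - 2 = 2 by rfl, show 4 - 3 = 1 by rfl, q5e 2 (by omega), q5e 1 (by omega)]
      show Dbl T (q4 (3 - 2)) (q4 (3 - 1))
      rw [show 3 - 2 = 1 by rfl, show 3 - 1 = 2 by rfl, q4e 2 (by omega), q4e 1 (by omega),
        q32, q31]
      exact hd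
    · -- both: use x''
      obtain ⟨q5, hq5, q5e, q54⟩ := snoc_exists hc hq4.rev (y := x'') (by
        show Adj T (q4 (3 - 3)) x''
        rw [show 3 - 3 = 0 by rfl, q4e 0 (by omega), q30]; exact hx''.1)
        (Or.inr (by
          show x'' ≠ q4 (3 - (3 - 1))
          rw [show 3 - (3 - 1) = 1 by rfl, q4e 1 (by omega), q31]; exact hx''.2.1))
      refine F4_contain hm2 hn hq5.rev ?_
      show Dbl T (q5 (4 - 2)) (q5 (4 - 3))
      rw [show 4 - 2 = 2 by rfl, show 4 - 3 = 1 by rfl, q5e 2 (by omega), q5e 1 (by omega)]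
      show Dbl T (q4 (3 - 2)) (q4 (3 - 1))
      rw [show 3 - 2 = 1 by rfl, show 3 - 1 = 2 by rfl, q4e 2 (by omega), q4e 1 (by omega),
        q32, q31]
      exact hd
  · push Not at hD
    refine (pathA_false hm2 hc (by omega) hnb ?_).elim
    intro i j hij
    rcases smp_or_dbl hm2 hn hij with h | h
    · exact h.2.1
    · exact absurd h (hD i j)

end Groth.Agent.H9.NT
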