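import Mathlib
import Groth.Agent.Lib.Helper9.Misc.NT16

/-! Helper9: numerical types, non-backtracking walks are paths. -/

namespace Groth.Agent.H9.NT

open Models Finset Groth.Agent.H4.NumType

variable {n : ℕ} {T : NumericalType n}

/-- a non-backtracking walk in an acyclic graph is a path -/
theorem isPath_of_nonback (hc : NoCyc T) (f : ℕ → Fin n) (r : ℕ)
    (hadj : ∀ i, i < r → Adj T (f i) (f (i + 1)))
    (hnb : ∀ i, i + 2 ≤ r → f i ≠ f (i + 2)) : IsPath T f r := by
  induction r with
  | zero => exact ⟨fun i hi => absurd hi (by omega), fun i j hi hj _ => by omega⟩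
  | succ r ih =>
    have hp := ih (fun i hi => hadj i (by omega)) (fun i hi => hnb i (by omega))
    have := hp.snoc hc (y := f (r + 1)) (hadj r (by omega)) (by
      rcases Nat.eq_zero_or_pos r with h | h
      · exact Or.inl h
      · right
        have := hnb (r - 1) (by omega)
        rw [show r - 1 + 2 = r + 1 by omega] at this
        exact this.symm)
    rwa [Function.update_eq_self] at this

/-- a neighbour of a path vertex which is not one of its path neighbours is off the path -/
theorem off_of_adj (hc : NoCyc T) {q : ℕ → Fin n} {r : ℕ} (hp : IsPath T q r) {i : ℕ}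
    (hi : i ≤ r) {y : Fin n} (hadj : Adj T (q i) y) (h1 : i = 0 ∨ y ≠ q (i - 1))
    (h2 : i = r ∨ y ≠ q (i + 1)) : ∀ j, j ≤ r → q j ≠ y := by
  intro j hj he
  subst he
  rcases adj_on_path hc hp hi hj hadj with h | h
  · subst h
    rcases h2 with h2 | h2
    · omega
    · exact h2 rfl
  · rcases h1 with h1 | h1
    · omega
    · apply h1
      rw [show i - 1 = j by omega]

/-- a neighbour (other than a given path vertex) of an off-path vertex adjacent to the path is
off the path -/
theorem off_of_adj_off (hc : NoCyc T) {q : ℕ → Fin n} {r : ℕ} (hp : IsPath T q r) {i : ℕ}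
    (hi : i ≤ r) {y y' : Fin n} (hy : ∀ j, j ≤ r → q j ≠ y) (hadj : Adj T y (q i))
    (hadj' : Adj T y y') (hne : y' ≠ q i) : ∀ j, j ≤ r → q j ≠ y' := by
  intro j hj he
  subst he
  have := off_unique hc hp hy hi hj hadj hadj'
  subst this
  exact hne rfl

end Groth.Agent.H9.NT
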