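import Mathlib
import Groth.Agent.Lib.Helper9.Misc.NT17

/-! Helper9: numerical types, the case of a unique branch vertex. -/

namespace Groth.Agent.H9.NT

open Models Finset Groth.Agent.H4.NumType

variable {n : ℕ} {T : NumericalType n}

/-- a vertex with exactly three neighbours -/
structure Star (T : NumericalType n) (b t u v : Fin n) : Prop where
  htu : t ≠ u
  htv : t ≠ v
  huv : u ≠ v
  adt : Adj T b t
  adu : Adj T b u
  adv : Adj T b v
  hb : ∀ j, Adj T b j → j = t ∨ j = u ∨ j = v

theorem Star.swap12 {b t u v : Fin n} (h : Star T b t u v) : Star T b u t v :=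
  ⟨h.htu.symm, h.huv, h.htv, h.adu, h.adt, h.adv, fun j hj => by
    rcases h.hb j hj with h | h | h <;> simp [h]⟩

theorem Star.swap23 {b t u v : Fin n} (h : Star T b t u v) : Star T b t v u :=
  ⟨h.htv, h.htu, h.huv.symm, h.adt, h.adv, h.adu, fun j hj => by
    rcases h.hb j hj with h | h | h <;> simp [h]⟩

theorem Star.swap13 {b t u v : Fin n} (h : Star T b t u v) : Star T b v u t :=
  ⟨h.huv.symm, h.htv.symm, h.htu.symm, h.adv, h.adu, h.adt, fun j hj => by
    rcases h.hb j hj with h | h | h <;> simp [h]⟩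

section star

variable (hm2 : ∀ i, T.IsMinusTwo i) (hcf : ∀ i j, Adj T i j → cf T i j = 1)

include hm2 hcf

theorem leaf_m {y p : Fin n} (hp : Adj T y p) (hl : Leaf T y p) : T.m p = 2 * T.m y := by
  have := leaf_row hm2 hp hl
  rwa [hcf _ _ hp, one_mul] at this

theorem next_m {y p y' : Fin n} (hp : Adj T y p) (hn : Next T y p y') :
    T.m p + T.m y' = 2 * T.m y := by
  have := next_row hm2 hp hn
  rwa [hcf _ _ hp, hcf _ _ hn.1, one_mul, one_mul] at this

theorem star_m {b t u v : Fin n} (h : Star T b t u v) : T.m t + T.m u + T.m v = 2 * T.m b := by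
  classical
  have := row_cf hm2 b {t, u, v} (by
    simp only [Finset.mem_insert, Finset.mem_singleton, not_or]
    exact ⟨h.adt.1, h.adu.1, h.adv.1⟩) (fun j hj => by
    simp only [Finset.mem_insert, Finset.mem_singleton]
    exact h.hb j hj)
  rw [Finset.sum_insert (by simp [h.htu, h.htv]), Finset.sum_pair h.huv, hcf _ _ h.adt,
    hcf _ _ h.adu, hcf _ _ h.adv] at this
  linarith

/-- one arm of length one, one of length two -/
theorem short_arm (hc : NoCyc T) {b l s g s' g' : Fin n} (hS : Star T b l s g)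
    (hnb : ∀ y, y ≠ b → ¬ Branch T y)
    (hl : Leaf T l b) (hs : Next T s b s') (hs' : Leaf T s' s) (hg : Next T g b g') :
    IsDiagram T 9 (Esimple RE8) xE8 := by
  have e1 := leaf_m hm2 hcf hS.adt.symm hl
  have e2 := next_m hm2 hcf hS.adu.symm hs
  have e3 := leaf_m hm2 hcf hs.1.symm hs'
  have e4 := next_m hm2 hcf hS.adv.symm hg
  have e5 := star_m hm2 hcf hS
  have pb := T.m_pos b
  -- g'
  have hg'b : g' ≠ b := hg.2.1
  rcases leaf_or_next (hnb g' hg'b) hg.1.symm with h1 | ⟨g2, h1⟩
  · have := leaf_m hm2 hcf hg.1.symm h1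
    omega
  have e6 := next_m hm2 hcf hg.1.symm h1
  have hp4 : IsPath T (fun i => [b, g, g', g2].getD i b) 3 := by
    apply isPath_of_nonback hc
    · intro i hi
      interval_cases i
      · exact hS.adv
      · exact hg.1
      · exact h1.1
    · intro i hi
      have hi' : i < 9 := by omega
      interval_cases i <;> first | omega | skip
      · exact hg.2.1.symm
      · exact h1.2.1.symm
  have hg2b : g2 ≠ b := (hp4.ne (i := 0) (j := 3) (by norm_num) (by norm_num) (by norm_num)).symm
  rcases leaf_or_next (hnb g2 hg2b) h1.1.symm with h2 | ⟨g3, h2⟩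
  · have := leaf_m hm2 hcf h1.1.symm h2
    omega
  have e7 := next_m hm2 hcf h1.1.symm h2
  have hp5 : IsPath T (fun i => [b, g, g', g2, g3].getD i b) 4 := by
    apply isPath_of_nonback hc
    · intro i hi
      interval_cases i
      · exact hS.adv
      · exact hg.1
      · exact h1.1
      · exact h2.1
    · intro i hi
      have hi' : i < 9 := by omega
      interval_cases i <;> first | omega | skip
      · exact hg.2.1.symm
      · exact h1.2.1.symm
      · exact h2.2.1.symm
  have hg3b : g3 ≠ b := (hp5.ne (i := 0) (j := 4) (by norm_num) (by norm_num) (by norm_num)).symm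
  rcases leaf_or_next (hnb g3 hg3b) h2.1.symm with h3 | ⟨g4, h3⟩
  · have := leaf_m hm2 hcf h2.1.symm h3
    omega
  -- the long path
  have hp8 : IsPath T (fun i => [g4, g3, g2, g', g, b, s, s'].getD i b) 7 := by
    apply isPath_of_nonback hc
    · intro i hi
      interval_cases i
      · exact h3.1.symm
      · exact h2.1.symm
      · exact h1.1.symm
      · exact hg.1.symm
      · exact hS.adv.symm
      · exact hS.adu
      · exact hs.1
    · intro i hi
      have hi' : i < 9 := by omega
      interval_cases i <;> first | omega | skip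
      · exact h3.2.1
      · exact h2.2.1
      · exact h1.2.1
      · exact hg.2.1
      · exact hS.huv.symm
      · exact hs.2.1.symm
  refine E8_contain hm2 hp8 l ?_ hS.adt
  exact off_of_adj hc hp8 (i := 5) (by norm_num) hS.adt (Or.inr hS.htv) (Or.inr hS.htu)

/-- exactly one arm of length one -/
theorem one_leaf (hc : NoCyc T) {b l a c a' c' : Fin n} (hS : Star T b l a c)
    (hnb : ∀ y, y ≠ b → ¬ Branch T y)
    (hl : Leaf T l b) (ha : Next T a b a') (hcn : Next T c b c') :
    IsDiagram T 8 (Esimple RE7) xE7 ∨ IsDiagram T 9 (Esimple RE8) xE8 := by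
  rcases leaf_or_next (hnb a' ha.2.1) ha.1.symm with h1 | ⟨a2, h1⟩
  · exact Or.inr (short_arm hm2 hcf hc hS hnb hl ha h1 hcn)
  rcases leaf_or_next (hnb c' hcn.2.1) hcn.1.symm with h2 | ⟨c2, h2⟩
  · exact Or.inr (short_arm hm2 hcf hc hS.swap23 hnb hl hcn h2 ha)
  left
  have hp7 : IsPath T (fun i => [c2, c', c, b, a, a', a2].getD i b) 6 := by
    apply isPath_of_nonback hc
    · intro i hi
      interval_cases i
      · exact h2.1.symm
      · exact hcn.1.symm
      · exact hS.adv.symm
      · exact hS.adu
      · exact ha.1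
      · exact h1.1
    · intro i hi
      have hi' : i < 9 := by omega
      interval_cases i <;> first | omega | skip
      · exact h2.2.1
      · exact hcn.2.1
      · exact hS.huv.symm
      · exact ha.2.1.symm
      · exact h1.2.1.symm
  refine E7_contain hm2 hp7 l ?_ hS.adt
  exact off_of_adj hc hp7 (i := 3) (by norm_num) hS.adt (Or.inr hS.htv) (Or.inr hS.htu)

/-- two arms of length one are impossible -/
theorem D_false (hc : NoCyc T) {b t u v : Fin n} (hS : Star T b t u v)
    (hnb : ∀ y, y ≠ b → ¬ Branch T y) (ht : Leaf T t b) (hv : Leaf T v b) : False := by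
  have e1 := leaf_m hm2 hcf hS.adt.symm ht
  have e2 := leaf_m hm2 hcf hS.adv.symm hv
  have e3 := star_m hm2 hcf hS
  obtain ⟨q3, hq3, q30, q31, q32⟩ := three_exists hS.adt.symm hS.adu hS.htu
  obtain ⟨q, r, hr, hq, hp, hmax⟩ := hq3.exists_max
  refine const_arm_false hm2 hc hp (s := 2) (by omega) hr (fun i _ _ j hj => hcf _ _ hj) ?_ hmax ?_
  · intro i h1 h2
    apply hnb
    rw [← q31, ← hq 1 (by omega)]
    exact hp.ne (by omega) (by omega) (by omega)
  · rw [show 2 - 1 = 1 by rfl, hq 2 (by omega), hq 1 (by omega), q32, q31]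
    omega

/-- the case of a unique branch vertex and no double edge -/
theorem caseB (hc : NoCyc T) {b t u v : Fin n} (hS : Star T b t u v)
    (hnb : ∀ y, y ≠ b → ¬ Branch T y) :
    IsDiagram T 7 (Esimple RE6) xE6 ∨ IsDiagram T 8 (Esimple RE7) xE7 ∨
      IsDiagram T 9 (Esimple RE8) xE8 := by
  rcases leaf_or_next (hnb t hS.adt.1.symm) hS.adt.symm with ht | ⟨t', ht⟩ <;>
    rcases leaf_or_next (hnb u hS.adu.1.symm) hS.adu.symm with hu | ⟨u', hu⟩ <;>
    rcases leaf_or_next (hnb v hS.adv.1.symm) hS.adv.symm with hv | ⟨v', hv⟩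
  · exact (D_false hm2 hcf hc hS hnb ht hv).elim
  · exact (D_false hm2 hcf hc hS.swap23 hnb ht hu).elim
  · exact (D_false hm2 hcf hc hS hnb ht hv).elim
  · exact Or.inr (one_leaf hm2 hcf hc hS hnb ht hu hv)
  · exact (D_false hm2 hcf hc hS.swap12 hnb hu hv).elim
  · exact Or.inr (one_leaf hm2 hcf hc hS.swap12 hnb hu ht hv)
  · exact Or.inr (one_leaf hm2 hcf hc hS.swap13 hnb hv hu ht)
  · -- three long arms
    left
    have hp5 : IsPath T (fun i => [u', u, b, t, t'].getD i b) 4 := by
      apply isPath_of_nonback hc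
      · intro i hi
        interval_cases i
        · exact hu.1.symm
        · exact hS.adu.symm
        · exact hS.adt
        · exact ht.1
      · intro i hi
        have hi' : i < 9 := by omega
        interval_cases i <;> first | omega | skip
        · exact hu.2.1
        · exact hS.htu.symm
        · exact ht.2.1.symm
    have hvoff : ∀ j, j ≤ 4 → (fun i => [u', u, b, t, t'].getD i b) j ≠ v :=
      off_of_adj hc hp5 (i := 2) (by norm_num) hS.adv (Or.inr hS.huv.symm) (Or.inr hS.htv.symm)
    have hv'off : ∀ j, j ≤ 4 → (fun i => [u', u, b, t, t'].getD i b) j ≠ v' :=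
      off_of_adj_off hc hp5 (i := 2) (by norm_num) hvoff hS.adv.symm hv.1 hv.2.1
    exact E6_contain hm2 hp5 v v' hvoff hv'off hv.1.1 hS.adv hv.1

end star

end Groth.Agent.H9.NT
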