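import Mathlib
import Groth.Agent.Lib.Helper9.Misc.NT18

/-! Helper9: numerical types, classification of the all-(-2) types on at least four indices. -/

namespace Groth.Agent.H9.NT

open Models Finset Groth.Agent.H4.NumType

variable {n : ℕ} {T : NumericalType n}

/-- the exceptional diagrams -/
def Exc (T : NumericalType n) : Prop :=
  IsDiagram T 5 (EF4 1 2) xF4a ∨ IsDiagram T 5 (EF4 2 1) xF4b ∨
    IsDiagram T 7 (Esimple RE6) xE6 ∨ IsDiagram T 8 (Esimple RE7) xE7 ∨
      IsDiagram T 9 (Esimple RE8) xE8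

theorem two_of_three {x y z e : Fin n} (hxy : x ≠ y) (hxz : x ≠ z) (hyz : y ≠ z) :
    (x ≠ e ∧ y ≠ e) ∨ (x ≠ e ∧ z ≠ e) ∨ (y ≠ e ∧ z ≠ e) := by
  by_cases h1 : x = e
  · subst h1
    exact Or.inr (Or.inr ⟨hxy.symm, hxz.symm⟩)
  · by_cases h2 : y = e
    · subst h2
      exact Or.inr (Or.inl ⟨h1, hyz.symm⟩)
    · exact Or.inl ⟨h1, h2⟩

/-- classification of the all-`(-2)` numerical types on at least four indices -/
theorem main (hm2 : ∀ i, T.IsMinusTwo i) (hn : 4 ≤ n) : Fams T ∨ Exc T := by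
  by_cases hF : Fams T
  · exact Or.inl hF
  right
  have hc : NoCyc T := by
    by_contra h
    exact hF (fams_of_cyc hm2 h)
  have NB : ∀ b e f1 f2, Dbl T e b → Adj T b f1 → Adj T b f2 → f1 ≠ f2 → e ≠ f1 → e ≠ f2 →
      False := fun b e f1 f2 hd a1 a2 h12 h1 h2 => hF (stepB hm2 hn b e f1 f2 h12 h1 h2 hd a1 a2)
  have NC : ∀ b e f, Dbl T e b → Dbl T f b → e = f := by
    intro b e f h1 h2
    by_contra hne
    exact hF (stepC hm2 hn b e f hne h1 h2)
  have ND : ∀ b b', Branch T b → Branch T b' → b = b' := by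
    intro b b' h1 h2
    by_contra hne
    exact hF (stepD hm2 hc b b' hne h1 h2)
  have NE : ∀ b x y, Branch T b → Dbl T x y → b = x ∨ b = y := by
    intro b x y h1 h2
    by_contra hne
    push Not at hne
    exact hF (stepE hm2 hn hc b x y h1 h2 hne.1 hne.2)
  have NF : ∀ x y x' y', Dbl T x y → Dbl T x' y' → x = x' ∨ x = y' ∨ y = x' ∨ y = y' := by
    intro x y x' y' h1 h2
    by_contra hne
    push Not at hne
    exact hF (stepF hm2 hn hc x y x' y' h1 h2 hne.1 hne.2.1 hne.2.2.1 hne.2.2.2)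
  by_cases hB : ∃ b, Branch T b
  · obtain ⟨b, hb⟩ := hB
    have hb' := hb
    obtain ⟨x, y, z, hxy, hxz, hyz, ax, ay, az⟩ := hb'
    have hS : Star T b x y z := by
      refine ⟨hxy, hxz, hyz, ax, ay, az, fun j hj => ?_⟩
      by_contra hcon
      push Not at hcon
      exact hF (stepA hm2 b x y z j hxy hxz hcon.1.symm hyz hcon.2.1.symm hcon.2.2.symm ax ay az hj)
    have hnoD : ∀ p q, ¬ Dbl T p q := by
      intro p q hd
      have key : ∀ q', Dbl T q' b → False := by
        intro q' hd'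
        rcases two_of_three (e := q') hxy hxz hyz with ⟨h1, h2⟩ | ⟨h1, h2⟩ | ⟨h1, h2⟩
        · exact NB b q' x y hd' ax ay hxy h1.symm h2.symm
        · exact NB b q' x z hd' ax az hxz h1.symm h2.symm
        · exact NB b q' y z hd' ay az hyz h1.symm h2.symm
      rcases NE b p q hb hd with h | h
      · subst h
        exact key q hd.symm
      · subst h
        exact key p hd
    have hcf : ∀ i j, Adj T i j → cf T i j = 1 := by
      intro i j hij
      rcases smp_or_dbl hm2 hn hij with h | h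
      · exact h.2.1
      · exact absurd h (hnoD i j)
    have hnb : ∀ y', y' ≠ b → ¬ Branch T y' := fun y' hy hbr => hy (ND y' b hbr hb)
    rcases caseB hm2 hcf hc hS hnb with h | h | h
    · exact Or.inr (Or.inr (Or.inl h))
    · exact Or.inr (Or.inr (Or.inr (Or.inl h)))
    · exact Or.inr (Or.inr (Or.inr (Or.inr h)))
  · push Not at hB
    have hone : ∀ i j i' j', Dbl T i j → Dbl T i' j' → (i = i' ∧ j = j') ∨ (i = j' ∧ j = i') := by
      intro i j i' j' h1 h2
      rcases NF i j i' j' h1 h2 with h | h | h | h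
      · subst h
        exact Or.inl ⟨rfl, NC i j j' h1.symm h2.symm⟩
      · subst h
        exact Or.inr ⟨rfl, NC i j i' h1.symm h2⟩
      · subst h
        exact Or.inr ⟨NC j i j' h1 h2.symm, rfl⟩
      · subst h
        exact Or.inl ⟨NC j i i' h1 h2, rfl⟩
    rcases caseA hm2 hn hc hB hone with h | h
    · exact Or.inl h
    · exact Or.inr (Or.inl h)


theorem IsDiagram.card {k : ℕ} {E : ℕ → ℕ → ℤ} {x : ℕ → ℤ} (h : IsDiagram T k E x) : k = n := by
  obtain ⟨_, h1, _⟩ := h
  exact h1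

/-- genus one, minimal, at least four indices -/
theorem genus_one_main (hn : 4 ≤ n) (hmin : T.IsMinimal) (hg : T.genus = 1) :
    (∀ i, T.g i = 0) ∧ (∀ i, T.a i i = -2 * T.w i) ∧ (Fams T ∨ Exc T) := by
  have hm2 : ∀ i, T.IsMinusTwo i := all_minusTwo_of_genus_one T hmin (by omega) hg
  exact ⟨fun i => (hm2 i).1, fun i => (hm2 i).2, main hm2 hn⟩

theorem genus_one_ge10 (hn : 10 ≤ n) (hmin : T.IsMinimal) (hg : T.genus = 1) :
    (∀ i, T.g i = 0) ∧ (∀ i, T.a i i = -2 * T.w i) ∧ Fams T := by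
  obtain ⟨h1, h2, h3⟩ := genus_one_main (by omega) hmin hg
  refine ⟨h1, h2, ?_⟩
  rcases h3 with h | h | h | h | h | h
  · exact h
  all_goals
    have := h.card
    omega

end Groth.Agent.H9.NT
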