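import Mathlib
import Groth.Agent.Lib.Helper9.Misc.NT19

/-! Helper9: numerical types, tactics for specialising the families to a fixed number of indices. -/

namespace Groth.Agent.H9.NT

open Models Finset Groth.Agent.H4.NumType

theorem diag1 {a W w : ℤ} (h : a = -2 * W) (hw : W = w) : a = -2 * w := by rw [h, hw]
theorem diag2 {a W w : ℤ} (h : a = -2 * W) (hw : W = 2 * w) : a = -4 * w := by rw [h, hw]; ring
theorem diag3 {a W w : ℤ} (h : a = -2 * W) (hw : W = 3 * w) : a = -6 * w := by rw [h, hw]; ring
theorem diag4 {a W w : ℤ} (h : a = -2 * W) (hw : W = 4 * w) : a = -8 * w := by rw [h, hw]; ring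

/-- close a goal by one clause of a family, the side conditions being decidable -/
macro "fam_close" h:ident : tactic => `(tactic| first
  | exact $h _
  | exact $h _ (by decide)
  | exact $h _ _ (by decide) (by decide)
  | exact $h _ _ (by decide) (by decide) (by decide)
  | exact $h _ _ (by decide) (by decide) (by decide) (by decide)
  | exact $h _ _ (by decide) (by decide) (by decide) (by decide) (by decide))

/-- close a diagonal goal -/
macro "diag_close" hd:ident h:ident : tactic => `(tactic| first
  | exact diag1 ($hd _) ($h _)
  | exact diag2 ($hd _) ($h _)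
  | exact diag4 ($hd _) ($h _)
  | exact diag1 ($hd _) ($h _ (by decide))
  | exact diag2 ($hd _) ($h _ (by decide))
  | exact diag4 ($hd _) ($h _ (by decide)))

end Groth.Agent.H9.NT
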