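import Mathlib
import Groth.Agent.Lib.Helper9.Misc.NT20

/-! Helper9: numerical types, facts for the exceptional diagrams. -/

namespace Groth.Agent.H9.NT

open Models Finset Groth.Agent.H4.NumType

variable {n : ℕ} {T : NumericalType n}

theorem IsDiagram.perm {E : ℕ → ℕ → ℤ} {x : ℕ → ℤ} (h : IsDiagram T n E x) :
    ∃ σ : Equiv.Perm (Fin n),
      (∀ l j : Fin n, l ≠ j → T.a (σ l) (σ j) = E l.val j.val * T.w (σ l)) ∧
      (∀ l l' : Fin n, x l.val * T.m (σ l') = x l'.val * T.m (σ l)) := by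
  obtain ⟨v, -, hinj, ha, hm⟩ := h
  obtain ⟨σ, hσ⟩ := exists_perm v hinj
  refine ⟨σ, ?_, ?_⟩
  · intro l j hlj
    rw [hσ, hσ]
    exact ha _ _ l.2 j.2 (fun h => hlj (Fin.ext h))
  · intro l l'
    rw [hσ, hσ]
    exact hm _ _ l.2 l'.2

/-- facts for a simply laced exceptional diagram -/
theorem exc_simple (hdiag : ∀ i, T.a i i = -2 * T.w i) {R : ℕ → ℕ → Prop} [DecidableRel R]
    (hirr : ∀ l, ¬ R l l)
    {x : ℕ → ℤ} (h : IsDiagram T n (Esimple R) x) (i0 : Fin n) (hx0 : x i0.val = 1)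
    (hconn : ∀ f : Fin n → ℤ, (∀ l j : Fin n, R l.val j.val → f j = f l) → ∀ l, f l = f i0) :
    ∃ (σ : Equiv.Perm (Fin n)) (m w : ℤ),
      (∀ l : Fin n, x l.val = 1 → T.m (σ l) = m) ∧
      (∀ (l : Fin n) (c : ℤ), x l.val = c → T.m (σ l) = c * m) ∧
      (∀ l : Fin n, T.w (σ l) = w) ∧
      (∀ l j : Fin n, R l.val j.val ∨ R j.val l.val → T.a (σ l) (σ j) = w) ∧
      (∀ l j : Fin n, l ≠ j → ¬ (R l.val j.val ∨ R j.val l.val) → T.a (σ l) (σ j) = 0) ∧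
      (∀ l : Fin n, T.a (σ l) (σ l) = -2 * w) := by
  obtain ⟨σ, ha, hm⟩ := h.perm
  have hE1 : ∀ l j : ℕ, R l j ∨ R j l → Esimple R l j = 1 := fun l j h => by
    unfold Esimple; rw [if_pos h]
  have hE0 : ∀ l j : ℕ, ¬ (R l j ∨ R j l) → Esimple R l j = 0 := fun l j h => by
    unfold Esimple; rw [if_neg h]
  have hne : ∀ l j : Fin n, R l.val j.val ∨ R j.val l.val → l ≠ j := by
    intro l j hR hlj
    subst hlj
    rcases hR with h | h <;> exact hirr _ h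
  have hwe : ∀ l j : Fin n, R l.val j.val → T.w (σ j) = T.w (σ l) := by
    intro l j hR
    have hlj := hne l j (Or.inl hR)
    have e1 := ha l j hlj
    have e2 := ha j l hlj.symm
    rw [hE1 _ _ (Or.inl hR)] at e1
    rw [hE1 _ _ (Or.inr hR)] at e2
    exact w_eq_of_one e1 e2
  have hw := hconn (fun l => T.w (σ l)) hwe
  have hm' : ∀ l : Fin n, T.m (σ l) = x l.val * T.m (σ i0) := by
    intro l
    have := hm i0 l
    rw [hx0, one_mul] at this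
    exact this
  refine ⟨σ, T.m (σ i0), T.w (σ i0), ?_, ?_, hw, ?_, ?_, ?_⟩
  · intro l hl
    rw [hm', hl, one_mul]
  · intro l c hl
    rw [hm', hl]
  · intro l j hR
    rw [ha l j (hne l j hR), hE1 _ _ hR, one_mul, hw]
  · intro l j hlj hR
    rw [ha l j hlj, hE0 _ _ hR, zero_mul]
  · intro l
    rw [hdiag, hw]

theorem exc_E6 {T : NumericalType 7} (hdiag : ∀ i, T.a i i = -2 * T.w i)
    (h : IsDiagram T 7 (Esimple RE6) xE6) :
    ∃ (σ : Equiv.Perm (Fin 7)) (m w : ℤ),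
      (∀ l : Fin 7, xE6 l.val = 1 → T.m (σ l) = m) ∧
      (∀ (l : Fin 7) (c : ℤ), xE6 l.val = c → T.m (σ l) = c * m) ∧
      (∀ l : Fin 7, T.w (σ l) = w) ∧
      (∀ l j : Fin 7, RE6 l.val j.val ∨ RE6 j.val l.val → T.a (σ l) (σ j) = w) ∧
      (∀ l j : Fin 7, l ≠ j → ¬ (RE6 l.val j.val ∨ RE6 j.val l.val) → T.a (σ l) (σ j) = 0) ∧
      (∀ l : Fin 7, T.a (σ l) (σ l) = -2 * w) := by
  refine exc_simple hdiag (by intro l; unfold RE6; omega) h 0 (by decide) ?_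
  intro f hf
  have e1 : f 1 = f 0 := hf 0 1 (by decide)
  have e2 : f 2 = f 1 := hf 1 2 (by decide)
  have e4 : f 4 = f 2 := hf 2 4 (by decide)
  have e3 : f 4 = f 3 := hf 3 4 (by decide)
  have e6 : f 6 = f 2 := hf 2 6 (by decide)
  have e5 : f 6 = f 5 := hf 5 6 (by decide)
  intro l
  fin_cases l <;> simp only [Fin.zero_eta, Fin.mk_one, Fin.reduceFinMk] <;> omega

theorem exc_E7 {T : NumericalType 8} (hdiag : ∀ i, T.a i i = -2 * T.w i)
    (h : IsDiagram T 8 (Esimple RE7) xE7) :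
    ∃ (σ : Equiv.Perm (Fin 8)) (m w : ℤ),
      (∀ l : Fin 8, xE7 l.val = 1 → T.m (σ l) = m) ∧
      (∀ (l : Fin 8) (c : ℤ), xE7 l.val = c → T.m (σ l) = c * m) ∧
      (∀ l : Fin 8, T.w (σ l) = w) ∧
      (∀ l j : Fin 8, RE7 l.val j.val ∨ RE7 j.val l.val → T.a (σ l) (σ j) = w) ∧
      (∀ l j : Fin 8, l ≠ j → ¬ (RE7 l.val j.val ∨ RE7 j.val l.val) → T.a (σ l) (σ j) = 0) ∧
      (∀ l : Fin 8, T.a (σ l) (σ l) = -2 * w) := by
  refine exc_simple hdiag (by intro l; unfold RE7; omega) h 0 (by decide) ?_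
  intro f hf
  have e1 : f 1 = f 0 := hf 0 1 (by decide)
  have e2 : f 2 = f 1 := hf 1 2 (by decide)
  have e3 : f 3 = f 2 := hf 2 3 (by decide)
  have e4 : f 4 = f 3 := hf 3 4 (by decide)
  have e5 : f 5 = f 4 := hf 4 5 (by decide)
  have e6 : f 6 = f 5 := hf 5 6 (by decide)
  have e7 : f 7 = f 3 := hf 3 7 (by decide)
  intro l
  fin_cases l <;> simp only [Fin.zero_eta, Fin.mk_one, Fin.reduceFinMk] <;> omega

theorem exc_E8 {T : NumericalType 9} (hdiag : ∀ i, T.a i i = -2 * T.w i)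
    (h : IsDiagram T 9 (Esimple RE8) xE8) :
    ∃ (σ : Equiv.Perm (Fin 9)) (m w : ℤ),
      (∀ l : Fin 9, xE8 l.val = 1 → T.m (σ l) = m) ∧
      (∀ (l : Fin 9) (c : ℤ), xE8 l.val = c → T.m (σ l) = c * m) ∧
      (∀ l : Fin 9, T.w (σ l) = w) ∧
      (∀ l j : Fin 9, RE8 l.val j.val ∨ RE8 j.val l.val → T.a (σ l) (σ j) = w) ∧
      (∀ l j : Fin 9, l ≠ j → ¬ (RE8 l.val j.val ∨ RE8 j.val l.val) → T.a (σ l) (σ j) = 0) ∧
      (∀ l : Fin 9, T.a (σ l) (σ l) = -2 * w) := by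
  refine exc_simple hdiag (by intro l; unfold RE8; omega) h 0 (by decide) ?_
  intro f hf
  have e1 : f 1 = f 0 := hf 0 1 (by decide)
  have e2 : f 2 = f 1 := hf 1 2 (by decide)
  have e3 : f 3 = f 2 := hf 2 3 (by decide)
  have e4 : f 4 = f 3 := hf 3 4 (by decide)
  have e5 : f 5 = f 4 := hf 4 5 (by decide)
  have e6 : f 6 = f 5 := hf 5 6 (by decide)
  have e7 : f 7 = f 6 := hf 6 7 (by decide)
  have e8 : f 8 = f 5 := hf 5 8 (by decide)
  intro l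
  fin_cases l <;> simp only [Fin.zero_eta, Fin.mk_one, Fin.reduceFinMk] <;> omega

end Groth.Agent.H9.NT
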