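import Mathlib
import Groth.Agent.Lib.Helper9.Misc.NT21

/-! Helper9: genus-one classification, helpers for n = 4, 5 -/

namespace Groth.Agent.H9.NT

open Models Finset Groth.Agent.H4.NumType

/-- symmetric version of `fam_close` -/
macro "fam_close_symm" T:ident h:ident : tactic => `(tactic| first
  | exact (Groth.Agent.H4.NumType.a_symm $T _ _).trans ($h _ _ (by decide) (by decide))
  | exact (Groth.Agent.H4.NumType.a_symm $T _ _).trans ($h _ _ (by decide) (by decide) (by decide))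
  | exact (Groth.Agent.H4.NumType.a_symm $T _ _).trans
      ($h _ _ (by decide) (by decide) (by decide) (by decide))
  | exact (Groth.Agent.H4.NumType.a_symm $T _ _).trans
      ($h _ _ (by decide) (by decide) (by decide) (by decide) (by decide)))

theorem perm4 (σ : Equiv.Perm (Fin 4)) : ∃ σ' : Equiv.Perm (Fin 4),
    σ' 0 = σ 1 ∧ σ' 1 = σ 2 ∧ σ' 2 = σ 3 ∧ σ' 3 = σ 0 :=
  ⟨(Equiv.ofBijective ![1, 2, 3, 0] (by decide)).trans σ, rfl, rfl, rfl, rfl⟩

theorem perm5 (σ : Equiv.Perm (Fin 5)) : ∃ σ' : Equiv.Perm (Fin 5),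
    σ' 0 = σ 2 ∧ σ' 1 = σ 0 ∧ σ' 2 = σ 1 ∧ σ' 3 = σ 3 ∧ σ' 4 = σ 4 :=
  ⟨(Equiv.ofBijective ![2, 0, 1, 3, 4] (by decide)).trans σ, rfl, rfl, rfl, rfl, rfl⟩

theorem fam7_ne4 {T : NumericalType 4} (hdiag : ∀ i, T.a i i = -2 * T.w i)
    {σ : Equiv.Perm (Fin 4)} {m w : ℤ} (h : Fam7 T σ m w) : False := by
  obtain ⟨h1, h2, h3, h4, h5, h6, h7, h8, h9⟩ := h
  have hrow := row_eq T (σ 0)
  rw [← Equiv.sum_comp σ (fun j => T.a (σ 0) j * T.m j), Fin.sum_univ_four] at hrow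
  have e00 : T.a (σ 0) (σ 0) = -2 * w := by rw [hdiag, h4]
  have e01 : T.a (σ 0) (σ 1) = 0 := h9 _ _ (by decide) (by decide) (by decide) (by decide) (by decide)
  have e02 : T.a (σ 0) (σ 2) = w := h5 _ _ (by decide) (by decide)
  have e03 : T.a (σ 0) (σ 3) = 0 := h9 _ _ (by decide) (by decide) (by decide) (by decide) (by decide)
  have m0 : T.m (σ 0) = m := h1 _ (by decide)
  have m2 : T.m (σ 2) = m := h3 _ (by decide)
  rw [e00, e01, e02, e03, m0, m2] at hrow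
  have hw : 0 < w := by rw [← h4 0]; exact T.w_pos _
  have hm : 0 < m := by rw [← m0]; exact T.m_pos _
  nlinarith

def WF4a : ℕ → ℤ := fun i => if i ≤ 2 then 2 else 1
def WF4b : ℕ → ℤ := fun i => if i ≤ 2 then 1 else 2

theorem exc_F4 {T : NumericalType 5} (hdiag : ∀ i, T.a i i = -2 * T.w i) {α α' : ℤ}
    {x W : ℕ → ℤ} (h : IsDiagram T 5 (EF4 α α') x) (j0 : Fin 5)
    (hx0 : x 0 = 1)
    (hW : ∀ (σ : Equiv.Perm (Fin 5)), (T.w (σ 1) = T.w (σ 0)) → (T.w (σ 2) = T.w (σ 1)) →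
      (α * T.w (σ 2) = α' * T.w (σ 3)) → (T.w (σ 4) = T.w (σ 3)) →
      ∀ l : Fin 5, T.w (σ l) = W l.val * T.w (σ j0)) :
    ∃ (σ : Equiv.Perm (Fin 5)) (m w : ℤ),
      (∀ l : Fin 5, x l.val = 1 → T.m (σ l) = m) ∧
      (∀ (l : Fin 5) (c : ℤ), x l.val = c → T.m (σ l) = c * m) ∧
      (∀ l : Fin 5, W l.val = 1 → T.w (σ l) = w) ∧
      (∀ (l : Fin 5) (c : ℤ), W l.val = c → T.w (σ l) = c * w) ∧
      (∀ l j : Fin 5, l ≠ j → EF4 α α' l.val j.val * W l.val = 0 → T.a (σ l) (σ j) = 0) ∧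
      (∀ l j : Fin 5, l ≠ j → EF4 α α' l.val j.val * W l.val = 1 → T.a (σ l) (σ j) = w) ∧
      (∀ (l j : Fin 5) (c : ℤ), l ≠ j → EF4 α α' l.val j.val * W l.val = c →
        T.a (σ l) (σ j) = c * w) ∧
      (∀ l : Fin 5, T.a (σ l) (σ l) = -2 * T.w (σ l)) := by
  obtain ⟨σ, ha, hm⟩ := h.perm
  have s01 : T.w (σ 1) = T.w (σ 0) := by
    have e1 := ha 0 1 (by decide)
    have e2 := ha 1 0 (by decide)
    rw [show EF4 α α' (0 : Fin 5).val (1 : Fin 5).val = 1 from by simp [EF4]] at e1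
    rw [show EF4 α α' (1 : Fin 5).val (0 : Fin 5).val = 1 from by simp [EF4]] at e2
    exact w_eq_of_one e1 e2
  have s12 : T.w (σ 2) = T.w (σ 1) := by
    have e1 := ha 1 2 (by decide)
    have e2 := ha 2 1 (by decide)
    rw [show EF4 α α' (1 : Fin 5).val (2 : Fin 5).val = 1 from by simp [EF4]] at e1
    rw [show EF4 α α' (2 : Fin 5).val (1 : Fin 5).val = 1 from by simp [EF4]] at e2
    exact w_eq_of_one e1 e2
  have s34 : T.w (σ 4) = T.w (σ 3) := by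
    have e1 := ha 3 4 (by decide)
    have e2 := ha 4 3 (by decide)
    rw [show EF4 α α' (3 : Fin 5).val (4 : Fin 5).val = 1 from by simp [EF4]] at e1
    rw [show EF4 α α' (4 : Fin 5).val (3 : Fin 5).val = 1 from by simp [EF4]] at e2
    exact w_eq_of_one e1 e2
  have s23 : α * T.w (σ 2) = α' * T.w (σ 3) := by
    have e1 := ha 2 3 (by decide)
    have e2 := ha 3 2 (by decide)
    rw [show EF4 α α' (2 : Fin 5).val (3 : Fin 5).val = α from by simp [EF4]] at e1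
    rw [show EF4 α α' (3 : Fin 5).val (2 : Fin 5).val = α' from by simp [EF4]] at e2
    rw [a_symm T (σ 3) (σ 2)] at e2
    rw [← e1, ← e2]
  have hw := hW σ s01 s12 s23 s34
  have hm' : ∀ l : Fin 5, T.m (σ l) = x l.val * T.m (σ 0) := by
    intro l
    have := hm 0 l
    rw [show ((0 : Fin 5) : ℕ) = 0 from rfl, hx0, one_mul] at this
    exact this
  refine ⟨σ, T.m (σ 0), T.w (σ j0), ?_, ?_, ?_, ?_, ?_, ?_, ?_, ?_⟩
  · intro l hl
    rw [hm', hl, one_mul]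
  · intro l c hl
    rw [hm', hl]
  · intro l hl
    rw [hw, hl, one_mul]
  · intro l c hl
    rw [hw, hl]
  · intro l j hlj hE
    rw [ha l j hlj, hw l, ← mul_assoc, hE, zero_mul]
  · intro l j hlj hE
    rw [ha l j hlj, hw l, ← mul_assoc, hE, one_mul]
  · intro l j c hlj hE
    rw [ha l j hlj, hw l, ← mul_assoc, hE]
  · intro l
    exact hdiag _

end Groth.Agent.H9.NT
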