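import Mathlib
import Groth.Agent.Lib.Helper9.Misc.NT22

/-! Helper9: genus-one classification, F4 diagrams for n = 5 -/

namespace Groth.Agent.H9.NT

open Models Finset Groth.Agent.H4.NumType

theorem hW_F4a {T : NumericalType 5} (σ : Equiv.Perm (Fin 5)) (s01 : T.w (σ 1) = T.w (σ 0))
    (s12 : T.w (σ 2) = T.w (σ 1)) (s23 : (1 : ℤ) * T.w (σ 2) = 2 * T.w (σ 3))
    (s34 : T.w (σ 4) = T.w (σ 3)) (l : Fin 5) : T.w (σ l) = WF4a l.val * T.w (σ 3) := by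
  fin_cases l <;> simp [WF4a] <;> linarith

theorem hW_F4b {T : NumericalType 5} (σ : Equiv.Perm (Fin 5)) (s01 : T.w (σ 1) = T.w (σ 0))
    (s12 : T.w (σ 2) = T.w (σ 1)) (s23 : (2 : ℤ) * T.w (σ 2) = 1 * T.w (σ 3))
    (s34 : T.w (σ 4) = T.w (σ 3)) (l : Fin 5) : T.w (σ l) = WF4b l.val * T.w (σ 0) := by
  fin_cases l <;> simp [WF4b] <;> linarith

/-- the shape of the conclusion of `exc_F4` -/
def F4Concl (T : NumericalType 5) (α α' : ℤ) (x W : ℕ → ℤ) : Prop :=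
    ∃ (σ : Equiv.Perm (Fin 5)) (m w : ℤ),
      (∀ l : Fin 5, x l.val = 1 → T.m (σ l) = m) ∧
      (∀ (l : Fin 5) (c : ℤ), x l.val = c → T.m (σ l) = c * m) ∧
      (∀ l : Fin 5, W l.val = 1 → T.w (σ l) = w) ∧
      (∀ (l : Fin 5) (c : ℤ), W l.val = c → T.w (σ l) = c * w) ∧
      (∀ l j : Fin 5, l ≠ j → EF4 α α' l.val j.val * W l.val = 0 → T.a (σ l) (σ j) = 0) ∧
      (∀ l j : Fin 5, l ≠ j → EF4 α α' l.val j.val * W l.val = 1 → T.a (σ l) (σ j) = w) ∧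
      (∀ (l j : Fin 5) (c : ℤ), l ≠ j → EF4 α α' l.val j.val * W l.val = c →
        T.a (σ l) (σ j) = c * w) ∧
      (∀ l : Fin 5, T.a (σ l) (σ l) = -2 * T.w (σ l))

theorem exc_F4a {T : NumericalType 5} (hdiag : ∀ i, T.a i i = -2 * T.w i)
    (h : IsDiagram T 5 (EF4 1 2) xF4a) : F4Concl T 1 2 xF4a WF4a :=
  exc_F4 (W := WF4a) hdiag h 3 (by decide) (fun σ => hW_F4a σ)

theorem exc_F4b {T : NumericalType 5} (hdiag : ∀ i, T.a i i = -2 * T.w i)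
    (h : IsDiagram T 5 (EF4 2 1) xF4b) : F4Concl T 2 1 xF4b WF4b :=
  exc_F4 (W := WF4b) hdiag h 0 (by decide) (fun σ => hW_F4b σ)

end Groth.Agent.H9.NT
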