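import Mathlib
import Groth.Prelude.Def_BlowUp2

/-! Helper9: Néron blowup algebra: compatibility with localization and closed immersions (S12096, S12097). -/

open BlowUp

namespace Groth.Agent.H9.NeronBl

universe u

section closed
variable (B A : Type u) [CommRing B] [CommRing A] [Algebra B A]
    (hq : Function.Surjective (algebraMap B A)) (I : Ideal B) (π : B)
    (ψ : BlowUp.affineAlgebra B I π →+* BlowUp.affineAlgebra A (I.map (algebraMap B A)) (algebraMap B A π))
    (hψ : ∀ x : BlowUp.affineAlgebra B I π,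
      ((ψ x : BlowUp.affineAlgebra A (I.map (algebraMap B A)) (algebraMap B A π)) : Localization.Away (algebraMap B A π)) =
        Localization.awayMap (algebraMap B A) π (x : Localization.Away π))

theorem map_mem_powers {B A : Type u} [CommRing B] [CommRing A] (f : B →+* A) (π : B)
    (s : Submonoid.powers π) : f s.1 ∈ Submonoid.powers (f π) := by
  obtain ⟨n, hn⟩ := s.2
  have hn' : π ^ n = s.1 := hn
  exact ⟨n, by rw [← hn', map_pow]⟩

theorem awayMap_mk' {B A : Type u} [CommRing B] [CommRing A] (f : B →+* A) (π : B) (x : B) (s : Submonoid.powers π) :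
    Localization.awayMap f π (IsLocalization.mk' (Localization.Away π) x s) =
      IsLocalization.mk' (Localization.Away (f π)) (f x) ⟨f s.1, map_mem_powers f π s⟩ := by
  rw [Localization.awayMap, IsLocalization.Away.map, IsLocalization.map_mk']

theorem awayMap_algebraMap {B A : Type u} [CommRing B] [CommRing A] (f : B →+* A) (π : B) (x : B) :
    Localization.awayMap f π (algebraMap B (Localization.Away π) x) =
      algebraMap A (Localization.Away (f π)) (f x) := by
  rw [Localization.awayMap, IsLocalization.Away.map, IsLocalization.map_eq]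

include hq hψ in
theorem surj : Function.Surjective ψ := by
  rintro ⟨z, hz⟩
  suffices h : ∃ x : BlowUp.affineAlgebra B I π,
      ((ψ x : BlowUp.affineAlgebra A (I.map (algebraMap B A)) (algebraMap B A π)) :
        Localization.Away (algebraMap B A π)) = z by
    obtain ⟨x, hx⟩ := h
    exact ⟨x, Subtype.ext hx⟩
  unfold BlowUp.affineAlgebra at hz
  induction hz using Algebra.adjoin_induction with
  | mem z hz =>
    obtain ⟨xb, hxb, rfl⟩ := hz
    obtain ⟨x, hx, rfl⟩ := (Ideal.mem_map_iff_of_surjective _ hq).mp hxb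
    refine ⟨⟨IsLocalization.mk' (Localization.Away π) x ⟨π, Submonoid.mem_powers π⟩,
      Algebra.subset_adjoin ⟨x, hx, rfl⟩⟩, ?_⟩
    rw [hψ, awayMap_mk']
  | algebraMap a =>
    obtain ⟨b, rfl⟩ := hq a
    refine ⟨algebraMap B _ b, ?_⟩
    rw [hψ]
    exact awayMap_algebraMap _ _ _
  | add z w _ _ hz hw =>
    obtain ⟨x, hx⟩ := hz
    obtain ⟨y, hy⟩ := hw
    exact ⟨x + y, by rw [map_add, Subalgebra.coe_add, hx, hy]⟩
  | mul z w _ _ hz hw =>
    obtain ⟨x, hx⟩ := hz
    obtain ⟨y, hy⟩ := hw
    exact ⟨x * y, by rw [map_mul, Subalgebra.coe_mul, hx, hy]⟩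

include hψ in
theorem ker_iff (x : BlowUp.affineAlgebra B I π) : x ∈ RingHom.ker ψ ↔
    ∃ n : ℕ, algebraMap B (BlowUp.affineAlgebra B I π) π ^ n * x ∈
      (RingHom.ker (algebraMap B A)).map (algebraMap B (BlowUp.affineAlgebra B I π)) := by
  have hker : x ∈ RingHom.ker ψ ↔ Localization.awayMap (algebraMap B A) π (x : Localization.Away π) = 0 := by
    rw [RingHom.mem_ker, ← hψ]
    constructor
    · intro h; rw [h]; rfl
    · intro h; exact Subtype.ext h
  rw [hker]
  constructor
  · intro h
    obtain ⟨b, s, hbs⟩ := IsLocalization.exists_mk'_eq (Submonoid.powers π) (x : Localization.Away π)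
    rw [← hbs, awayMap_mk', IsLocalization.mk'_eq_zero_iff] at h
    obtain ⟨⟨m, ⟨n, hn⟩⟩, hm⟩ := h
    obtain ⟨k, hk⟩ := s.2
    have hk' : π ^ k = s.1 := hk
    simp only at hm hn
    refine ⟨n + k, ?_⟩
    have hmem : π ^ n * b ∈ RingHom.ker (algebraMap B A) := by
      rw [RingHom.mem_ker, map_mul, map_pow, hn]; exact hm
    have heq : algebraMap B (BlowUp.affineAlgebra B I π) π ^ (n + k) * x =
        algebraMap B (BlowUp.affineAlgebra B I π) (π ^ n * b) := by
      apply Subtype.ext
      rw [Subalgebra.coe_mul, Subalgebra.coe_pow, Subalgebra.coe_algebraMap, Subalgebra.coe_algebraMap,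
        ← hbs, map_mul, pow_add, mul_assoc, map_pow]
      congr 1
      have := IsLocalization.mk'_spec' (Localization.Away π) b s
      rw [← hk', map_pow] at this
      exact this
    rw [heq]
    exact Ideal.mem_map_of_mem _ hmem
  · rintro ⟨n, hn⟩
    have hle : (RingHom.ker (algebraMap B A)).map (algebraMap B (BlowUp.affineAlgebra B I π)) ≤
        RingHom.ker ψ := by
      rw [Ideal.map_le_iff_le_comap]
      intro b hb
      rw [Ideal.mem_comap, RingHom.mem_ker]
      apply Subtype.ext
      rw [hψ, Subalgebra.coe_algebraMap, awayMap_algebraMap, RingHom.mem_ker.mp hb, map_zero]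
      rfl
    have h1 := hle hn
    rw [RingHom.mem_ker, map_mul, map_pow] at h1
    have h2 := congrArg (Subtype.val) h1
    rw [Subalgebra.coe_mul, Subalgebra.coe_pow, hψ, hψ, Subalgebra.coe_algebraMap, awayMap_algebraMap] at h2
    have hu : IsUnit (algebraMap A (Localization.Away (algebraMap B A π)) (algebraMap B A π)) :=
      IsLocalization.Away.algebraMap_isUnit _
    exact (hu.pow n).mul_right_eq_zero.mp (by simpa using h2)

end closed

section loc
variable (A : Type u) [CommRing A] (I : Ideal A) (π a : A)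
    (ψ : BlowUp.affineAlgebra A I π →+*
      BlowUp.affineAlgebra (Localization.Away a) (I.map (algebraMap A (Localization.Away a))) (algebraMap A (Localization.Away a) π))
    (hψ : ∀ x : BlowUp.affineAlgebra A I π,
      ((ψ x : BlowUp.affineAlgebra (Localization.Away a) (I.map (algebraMap A (Localization.Away a))) (algebraMap A (Localization.Away a) π)) :
          Localization.Away (algebraMap A (Localization.Away a) π)) =
        Localization.awayMap (algebraMap A (Localization.Away a)) π (x : Localization.Away π))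

local notation "Aa" => Localization.Away a
local notation "πa" => algebraMap A (Localization.Away a) π
local notation "A'" => BlowUp.affineAlgebra A I π
local notation "Aa'" => BlowUp.affineAlgebra (Localization.Away a) (I.map (algebraMap A (Localization.Away a))) (algebraMap A (Localization.Away a) π)

include hψ in
theorem ψ_algebraMap (b : A) :
    ((ψ (algebraMap A A' b) : Aa') : Localization.Away πa) =
      algebraMap Aa (Localization.Away πa) (algebraMap A Aa b) := by
  rw [hψ, Subalgebra.coe_algebraMap, awayMap_algebraMap]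

include hψ in
theorem ψ_a_isUnit : IsUnit (ψ (algebraMap A A' a)) := by
  have h1 : ψ (algebraMap A A' a) = algebraMap Aa Aa' (algebraMap A Aa a) := by
    apply Subtype.ext
    rw [ψ_algebraMap A I π a ψ hψ, Subalgebra.coe_algebraMap]
  rw [h1]
  exact (IsLocalization.Away.algebraMap_isUnit a).map _

include hψ in
theorem surj_loc (z : Aa') : ∃ (x : A') (n : ℕ), z * ψ (algebraMap A A' a) ^ n = ψ x := by
  obtain ⟨z, hz⟩ := z
  suffices h : ∃ (x : A') (n : ℕ), z * algebraMap Aa (Localization.Away πa) (algebraMap A Aa a) ^ n =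
      ((ψ x : Aa') : Localization.Away πa) by
    obtain ⟨x, n, hx⟩ := h
    refine ⟨x, n, Subtype.ext ?_⟩
    rw [Subalgebra.coe_mul, Subalgebra.coe_pow, ψ_algebraMap A I π a ψ hψ]
    exact hx
  unfold BlowUp.affineAlgebra at hz
  induction hz using Algebra.adjoin_induction with
  | mem z hz =>
    obtain ⟨y, hy, rfl⟩ := hz
    obtain ⟨⟨⟨i, hi⟩, ⟨s, ⟨n, hn⟩⟩⟩, his⟩ :=
      (IsLocalization.mem_map_algebraMap_iff (Submonoid.powers a) Aa).mp hy
    simp only at his hn
    have hn' : a ^ n = s := hn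
    refine ⟨⟨IsLocalization.mk' (Localization.Away π) i ⟨π, Submonoid.mem_powers π⟩,
      Algebra.subset_adjoin ⟨i, hi, rfl⟩⟩, n, ?_⟩
    rw [hψ, awayMap_mk', ← map_pow, ← map_pow, hn', mul_comm, IsLocalization.mul_mk'_eq_mk'_of_mul,
      mul_comm, his]
  | algebraMap y =>
    obtain ⟨⟨b, ⟨s, ⟨n, hn⟩⟩⟩, hbs⟩ := IsLocalization.surj (Submonoid.powers a) y
    simp only at hbs hn
    have hn' : a ^ n = s := hn
    refine ⟨algebraMap A A' b, n, ?_⟩
    rw [ψ_algebraMap A I π a ψ hψ, ← hbs, map_mul, ← map_pow, ← map_pow, hn']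
  | add z w _ _ hz hw =>
    obtain ⟨x, n, hx⟩ := hz
    obtain ⟨y, m, hy⟩ := hw
    refine ⟨x * algebraMap A A' a ^ m + y * algebraMap A A' a ^ n, n + m, ?_⟩
    rw [map_add, map_mul, map_mul, map_pow, map_pow, Subalgebra.coe_add, Subalgebra.coe_mul,
      Subalgebra.coe_mul, Subalgebra.coe_pow, Subalgebra.coe_pow, ψ_algebraMap A I π a ψ hψ, ← hx, ← hy]
    ring
  | mul z w _ _ hz hw =>
    obtain ⟨x, n, hx⟩ := hz
    obtain ⟨y, m, hy⟩ := hw
    refine ⟨x * y, n + m, ?_⟩
    rw [map_mul, Subalgebra.coe_mul, ← hx, ← hy]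
    ring

include hψ in
theorem ker_loc (d : A') (hd : ψ d = 0) : ∃ n : ℕ, algebraMap A A' a ^ n * d = 0 := by
  have h0 : Localization.awayMap (algebraMap A Aa) π (d : Localization.Away π) = 0 := by
    rw [← hψ, hd]; rfl
  obtain ⟨b, s, hbs⟩ := IsLocalization.exists_mk'_eq (Submonoid.powers π) (d : Localization.Away π)
  rw [← hbs, awayMap_mk', IsLocalization.mk'_eq_zero_iff] at h0
  obtain ⟨⟨m, ⟨k, hk⟩⟩, hm⟩ := h0
  simp only at hm hk
  have hk' : πa ^ k = m := hk
  rw [← hk', ← map_pow, ← map_mul, IsLocalization.map_eq_zero_iff (Submonoid.powers a)] at hm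
  obtain ⟨⟨c, ⟨n, hn⟩⟩, hc⟩ := hm
  simp only at hc hn
  have hn' : a ^ n = c := hn
  refine ⟨n, Subtype.ext ?_⟩
  rw [Subalgebra.coe_mul, Subalgebra.coe_pow, Subalgebra.coe_algebraMap, ← hbs, ← map_pow,
    IsLocalization.mul_mk'_eq_mk'_of_mul, ZeroMemClass.coe_zero, IsLocalization.mk'_eq_zero_iff]
  refine ⟨⟨π ^ k, k, rfl⟩, ?_⟩
  simp only
  rw [hn', ← hc]; ring

include hψ in
theorem isLoc :
    letI := ψ.toAlgebra
    IsLocalization.Away (algebraMap A A' a) Aa' := by
  letI := ψ.toAlgebra
  have hAM : ∀ x : A', algebraMap A' Aa' x = ψ x := fun x => rfl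
  rw [IsLocalization.Away, isLocalization_iff]
  refine ⟨?_, ?_, ?_⟩
  · rintro ⟨y, ⟨n, rfl⟩⟩
    simp only [hAM, map_pow]
    exact (ψ_a_isUnit A I π a ψ hψ).pow n
  · intro z
    obtain ⟨x, n, hx⟩ := surj_loc A I π a ψ hψ z
    refine ⟨⟨x, ⟨_, n, rfl⟩⟩, ?_⟩
    simp only [hAM, map_pow]
    exact hx
  · intro x y hxy
    rw [hAM, hAM] at hxy
    obtain ⟨n, hn⟩ := ker_loc A I π a ψ hψ (x - y) (by rw [map_sub, hxy, sub_self])
    refine ⟨⟨_, n, rfl⟩, ?_⟩
    simp only
    rw [mul_sub, sub_eq_zero] at hn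
    exact hn

end loc

end Groth.Agent.H9.NeronBl
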