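import Mathlib
import Groth.Agent.Lib.Helper9.Misc.StdExt

namespace Groth.Agent.H9.NilSolv

open CategoryTheory CategoryTheory.Limits MonoidalCategory CartesianMonoidalCategory MonObj GrpObj AlgebraicGeometry
open scoped commutatorElement

universe u

section words

variable {H : Type*} [Group H]

/-- values of left-normed commutator words of length `j+1` -/
def nilW : ℕ → Set H
  | 0 => Set.univ
  | (j+1) => {z | ∃ x ∈ nilW j, ∃ y : H, z = ⁅x, y⁆}

/-- values of derived words of depth `j` -/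
def solV : ℕ → Set H
  | 0 => Set.univ
  | (j+1) => {z | ∃ a ∈ solV j, ∃ b ∈ solV j, z = ⁅a, b⁆}

theorem nilW_subset_iff (j i : ℕ) : nilW (H := H) (j+1) ⊆ Subgroup.upperCentralSeries H i ↔
    nilW (H := H) j ⊆ Subgroup.upperCentralSeries H (i+1) := by
  constructor
  · intro h x hx
    rw [SetLike.mem_coe, Subgroup.mem_upperCentralSeries_succ_iff]
    intro y
    exact h ⟨x, hx, y, rfl⟩
  · rintro h z ⟨x, hx, y, rfl⟩
    exact (Subgroup.mem_upperCentralSeries_succ_iff.mp (h hx)) y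

theorem nilW_iff : ∀ n i : ℕ, nilW (H := H) n ⊆ Subgroup.upperCentralSeries H i ↔
    (Set.univ : Set H) ⊆ Subgroup.upperCentralSeries H (n+i)
  | 0, i => by rw [Nat.zero_add]; rfl
  | n+1, i => by
    rw [nilW_subset_iff, nilW_iff n (i+1)]
    have : n + (i + 1) = n + 1 + i := by omega
    rw [this]

theorem ucs_eq_top_iff (n : ℕ) : Subgroup.upperCentralSeries H n = ⊤ ↔ ∀ x ∈ nilW (H := H) n, x = 1 := by
  have key := nilW_iff (H := H) n 0
  rw [Subgroup.upperCentralSeries_zero, Nat.add_zero] at key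
  constructor
  · intro h x hx
    have h2 : x ∈ ((⊥ : Subgroup H) : Set H) := key.mpr (by rw [h]; intro y _; trivial) hx
    simpa using h2
  · intro h
    rw [Subgroup.eq_top_iff']
    intro x
    exact key.mp (fun y hy => by rw [h y hy]; exact Subgroup.one_mem _) (Set.mem_univ x)

theorem map_mem_nilW {H' : Type*} [Group H'] (ψ : H →* H') : ∀ (j : ℕ) {x : H}, x ∈ nilW j →
    ψ x ∈ nilW (H := H') j
  | 0, _, _ => trivial
  | j+1, _, ⟨x, hx, y, hz⟩ => ⟨ψ x, map_mem_nilW ψ j hx, ψ y, by rw [hz, map_commutatorElement]⟩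

theorem map_mem_solV {H' : Type*} [Group H'] (ψ : H →* H') : ∀ (j : ℕ) {x : H}, x ∈ solV j →
    ψ x ∈ solV (H := H') j
  | 0, _, _ => trivial
  | j+1, _, ⟨a, ha, b, hb, hz⟩ =>
    ⟨ψ a, map_mem_solV ψ j ha, ψ b, map_mem_solV ψ j hb, by rw [hz, map_commutatorElement]⟩

theorem conj_mem_closure {V : Set H} (hV : ∀ x ∈ V, ∀ g : H, g * x * g⁻¹ ∈ V) {n : H}
    (hn : n ∈ Subgroup.closure V) (g : H) : g * n * g⁻¹ ∈ Subgroup.closure V := by
  induction hn using Subgroup.closure_induction with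
  | mem x hx => exact Subgroup.subset_closure (hV x hx g)
  | one => simp
  | mul x y _ _ ihx ihy =>
    have : g * (x * y) * g⁻¹ = (g * x * g⁻¹) * (g * y * g⁻¹) := by group
    rw [this]; exact mul_mem ihx ihy
  | inv x _ ihx =>
    have : g * x⁻¹ * g⁻¹ = (g * x * g⁻¹)⁻¹ := by group
    rw [this]; exact inv_mem ihx

theorem commutator_mem_closure {V V' : Set H} (hV' : ∀ x ∈ V', ∀ g : H, g * x * g⁻¹ ∈ V')
    (hc : ∀ a ∈ V, ∀ b ∈ V, ⁅a, b⁆ ∈ V') {x y : H} (hx : x ∈ Subgroup.closure V)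
    (hy : y ∈ Subgroup.closure V) : ⁅x, y⁆ ∈ Subgroup.closure V' := by
  refine Subgroup.closure_induction₂ (p := fun x y _ _ => ⁅x, y⁆ ∈ Subgroup.closure V')
    ?_ ?_ ?_ ?_ ?_ ?_ ?_ hx hy
  · intro a b ha hb
    exact Subgroup.subset_closure (hc a ha b hb)
  · intro x _
    rw [commutatorElement_one_left]; exact Subgroup.one_mem _
  · intro x _
    rw [commutatorElement_one_right]; exact Subgroup.one_mem _
  · intro x y z _ _ _ h1 h2
    have : ⁅x * y, z⁆ = (x * ⁅y, z⁆ * x⁻¹) * ⁅x, z⁆ := by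
      simp only [commutatorElement_def]; group
    rw [this]; exact mul_mem (conj_mem_closure hV' h2 x) h1
  · intro y z x _ _ _ h1 h2
    have : ⁅x, y * z⁆ = ⁅x, y⁆ * (y * ⁅x, z⁆ * y⁻¹) := by
      simp only [commutatorElement_def]; group
    rw [this]; exact mul_mem h1 (conj_mem_closure hV' h2 y)
  · intro x y _ _ h
    have : ⁅x⁻¹, y⁆ = x⁻¹ * ⁅x, y⁆⁻¹ * (x⁻¹)⁻¹ := by
      simp only [commutatorElement_def]; group
    rw [this]; exact conj_mem_closure hV' (inv_mem h) x⁻¹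
  · intro x y _ _ h
    have : ⁅x, y⁻¹⁆ = y⁻¹ * ⁅x, y⁆⁻¹ * (y⁻¹)⁻¹ := by
      simp only [commutatorElement_def]; group
    rw [this]; exact conj_mem_closure hV' (inv_mem h) y⁻¹

theorem solV_conj : ∀ (j : ℕ), ∀ x ∈ solV (H := H) j, ∀ g : H, g * x * g⁻¹ ∈ solV (H := H) j
  | 0, _, _, _ => trivial
  | j+1, _, ⟨a, ha, b, hb, hx⟩, g =>
    ⟨g * a * g⁻¹, solV_conj j a ha g, g * b * g⁻¹, solV_conj j b hb g, by
      rw [hx, conjugate_commutatorElement]⟩

theorem solV_subset_derived : ∀ j : ℕ, solV (H := H) j ⊆ derivedSeries H j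
  | 0 => fun _ _ => Subgroup.mem_top _
  | j+1 => by
    rintro z ⟨a, ha, b, hb, rfl⟩
    rw [derivedSeries_succ]
    exact Subgroup.commutator_mem_commutator (solV_subset_derived j ha) (solV_subset_derived j hb)

theorem derived_le_closure : ∀ j : ℕ, derivedSeries H j ≤ Subgroup.closure (solV (H := H) j)
  | 0 => by
    intro x _
    exact Subgroup.subset_closure (Set.mem_univ x)
  | j+1 => by
    rw [derivedSeries_succ, Subgroup.commutator_le]
    intro g₁ h₁ g₂ h₂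
    exact commutator_mem_closure (solV_conj (j+1)) (fun a ha b hb => ⟨a, ha, b, hb, rfl⟩)
      (derived_le_closure j h₁) (derived_le_closure j h₂)

theorem derived_eq_bot_iff (n : ℕ) : derivedSeries H n = ⊥ ↔ ∀ x ∈ solV (H := H) n, x = 1 := by
  constructor
  · intro h x hx
    have := solV_subset_derived n hx
    rw [h] at this
    exact Subgroup.mem_bot.mp this
  · intro h
    rw [eq_bot_iff]
    refine (derived_le_closure n).trans ?_
    rw [Subgroup.closure_le]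
    intro x hx
    exact Subgroup.mem_bot.mpr (h x hx)

end words

section lift

universe v₁ v₂ u₁ u₂

variable {C : Type u₁} [Category.{v₁} C] {D : Type u₂} [Category.{v₂} D]
  [CartesianMonoidalCategory C] [CartesianMonoidalCategory D]
  (F : C ⥤ D) [F.Monoidal] (P : C → Prop) (hP : ∀ Y₁ Y₂, P Y₁ → P Y₂ → P (Y₁ ⊗ Y₂))
  {G : C} [GrpObj G] (hG : P G)

open scoped Obj

/-- the homomorphism `y ↦ φ ≫ F.map y` -/
def theta {X' : D} {Y : C} (φ : X' ⟶ F.obj Y) : (Y ⟶ G) →* (X' ⟶ F.obj G) where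
  toFun := fun y => φ ≫ F.map y
  map_one' := by rw [Functor.map_one, MonObj.comp_one]
  map_mul' := fun a b => by rw [Functor.map_mul, MonObj.comp_mul]

/-- precomposition as a homomorphism -/
def pre {Y Y' : C} (f : Y' ⟶ Y) : (Y ⟶ G) →* (Y' ⟶ G) where
  toFun := fun y => f ≫ y
  map_one' := MonObj.comp_one f
  map_mul' := fun a b => MonObj.comp_mul f a b

include hP hG in
theorem lift_nilW : ∀ (j : ℕ) (X' : D) (x : X' ⟶ F.obj G), x ∈ nilW j →
    ∃ (Y : C) (_ : P Y) (φ : X' ⟶ F.obj Y) (y : Y ⟶ G), y ∈ nilW j ∧ x = φ ≫ F.map y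
  | 0, X', x, _ => ⟨G, hG, x, 𝟙 G, trivial, by rw [F.map_id, Category.comp_id]⟩
  | j+1, X', x, ⟨x₀, hx₀, h, hx⟩ => by
    obtain ⟨Y₀, hY₀, φ₀, y₀, hy₀, e₀⟩ := lift_nilW j X' x₀ hx₀
    refine ⟨Y₀ ⊗ G, hP _ _ hY₀ hG, lift φ₀ h ≫ Functor.LaxMonoidal.μ F Y₀ G,
      ⁅fst Y₀ G ≫ y₀, snd Y₀ G⁆,
      ⟨fst Y₀ G ≫ y₀, map_mem_nilW (pre (fst Y₀ G)) j hy₀, snd Y₀ G, rfl⟩, ?_⟩
    have key := map_commutatorElement (theta F (G := G) (lift φ₀ h ≫ Functor.LaxMonoidal.μ F Y₀ G))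
      (fst Y₀ G ≫ y₀) (snd Y₀ G)
    have e1 : theta F (G := G) (lift φ₀ h ≫ Functor.LaxMonoidal.μ F Y₀ G) (fst Y₀ G ≫ y₀) = x₀ := by
      show (lift φ₀ h ≫ Functor.LaxMonoidal.μ F Y₀ G) ≫ F.map (fst Y₀ G ≫ y₀) = x₀
      rw [F.map_comp, Category.assoc, Functor.Monoidal.μ_fst_assoc, lift_fst_assoc, e₀]
    have e2 : theta F (G := G) (lift φ₀ h ≫ Functor.LaxMonoidal.μ F Y₀ G) (snd Y₀ G) = h := by
      show (lift φ₀ h ≫ Functor.LaxMonoidal.μ F Y₀ G) ≫ F.map (snd Y₀ G) = h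
      rw [Category.assoc, Functor.Monoidal.μ_snd, lift_snd]
    rw [e1, e2] at key
    rw [hx, ← key]
    rfl

include hP hG in
theorem lift_solV : ∀ (j : ℕ) (X' : D) (x : X' ⟶ F.obj G), x ∈ solV j →
    ∃ (Y : C) (_ : P Y) (φ : X' ⟶ F.obj Y) (y : Y ⟶ G), y ∈ solV j ∧ x = φ ≫ F.map y
  | 0, X', x, _ => ⟨G, hG, x, 𝟙 G, trivial, by rw [F.map_id, Category.comp_id]⟩
  | j+1, X', x, ⟨a, ha, b, hb, hx⟩ => by
    obtain ⟨Ya, hYa, φa, ya, hya, ea⟩ := lift_solV j X' a ha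
    obtain ⟨Yb, hYb, φb, yb, hyb, eb⟩ := lift_solV j X' b hb
    refine ⟨Ya ⊗ Yb, hP _ _ hYa hYb, lift φa φb ≫ Functor.LaxMonoidal.μ F Ya Yb,
      ⁅fst Ya Yb ≫ ya, snd Ya Yb ≫ yb⁆,
      ⟨fst Ya Yb ≫ ya, map_mem_solV (pre (fst Ya Yb)) j hya, snd Ya Yb ≫ yb,
        map_mem_solV (pre (snd Ya Yb)) j hyb, rfl⟩, ?_⟩
    have key := map_commutatorElement (theta F (G := G) (lift φa φb ≫ Functor.LaxMonoidal.μ F Ya Yb))
      (fst Ya Yb ≫ ya) (snd Ya Yb ≫ yb)
    have e1 : theta F (G := G) (lift φa φb ≫ Functor.LaxMonoidal.μ F Ya Yb) (fst Ya Yb ≫ ya) = a := by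
      show (lift φa φb ≫ Functor.LaxMonoidal.μ F Ya Yb) ≫ F.map (fst Ya Yb ≫ ya) = a
      rw [F.map_comp, Category.assoc, Functor.Monoidal.μ_fst_assoc, lift_fst_assoc, ea]
    have e2 : theta F (G := G) (lift φa φb ≫ Functor.LaxMonoidal.μ F Ya Yb) (snd Ya Yb ≫ yb) = b := by
      show (lift φa φb ≫ Functor.LaxMonoidal.μ F Ya Yb) ≫ F.map (snd Ya Yb ≫ yb) = b
      rw [F.map_comp, Category.assoc, Functor.Monoidal.μ_snd_assoc, lift_snd_assoc, eb]
    rw [e1, e2] at key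
    rw [hx, ← key]
    rfl

end lift

section transfer

open Groth.Agent.H9.StdExt
open scoped Obj

variable {S S' S'' : Scheme.{u}} (g : S' ⟶ S) [IsSchemeTheoreticallyDominant g] [QuasiCompact g]
  (g' : S'' ⟶ S) (G : Over S) [GrpObj G] [Flat G.hom] [IsSeparated G.hom]

theorem flat_tensor (Y₁ Y₂ : Over S) (h₁ : Flat Y₁.hom) (h₂ : Flat Y₂.hom) : Flat (Y₁ ⊗ Y₂).hom := by
  rw [Over.tensorObj_hom]; infer_instance

theorem nil_transfer (n : ℕ)
    (h : ∀ X : Over S', Subgroup.upperCentralSeries (X ⟶ (Over.pullback g).obj G) n = ⊤) :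
    ∀ X' : Over S'', Subgroup.upperCentralSeries (X' ⟶ (Over.pullback g').obj G) n = ⊤ := by
  have hA : ∀ (Y : Over S), Flat Y.hom → ∀ y : Y ⟶ G, y ∈ nilW n → y = 1 := by
    intro Y hY y hy
    haveI := hY
    apply hom_ext_of_bc g
    rw [Functor.map_one]
    exact (ucs_eq_top_iff n).mp (h _) _ (map_mem_nilW ((Over.pullback g).homMonoidHom) n hy)
  intro X'
  rw [ucs_eq_top_iff]
  intro x hx
  obtain ⟨Y, hY, φ, y, hy, e⟩ := lift_nilW (Over.pullback g') (fun Y => Flat Y.hom)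
    flat_tensor (G := G) ‹_› n X' x hx
  rw [e, hA Y hY y hy, Functor.map_one, MonObj.comp_one]

theorem sol_transfer (n : ℕ)
    (h : ∀ X : Over S', derivedSeries (X ⟶ (Over.pullback g).obj G) n = ⊥) :
    ∀ X' : Over S'', derivedSeries (X' ⟶ (Over.pullback g').obj G) n = ⊥ := by
  have hA : ∀ (Y : Over S), Flat Y.hom → ∀ y : Y ⟶ G, y ∈ solV n → y = 1 := by
    intro Y hY y hy
    haveI := hY
    apply hom_ext_of_bc g
    rw [Functor.map_one]
    exact (derived_eq_bot_iff n).mp (h _) _ (map_mem_solV ((Over.pullback g).homMonoidHom) n hy)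
  intro X'
  rw [derived_eq_bot_iff]
  intro x hx
  obtain ⟨Y, hY, φ, y, hy, e⟩ := lift_solV (Over.pullback g') (fun Y => Flat Y.hom)
    flat_tensor (G := G) ‹_› n X' x hx
  rw [e, hA Y hY y hy, Functor.map_one, MonObj.comp_one]

end transfer

end Groth.Agent.H9.NilSolv
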