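import Mathlib

/-!
# Sections of the middle extension and completions of a partial 3 × 3 diagram (helper9)
-/

set_option autoImplicit false

open CategoryTheory CategoryTheory.Limits

namespace Groth.Agent.H9.NineSec

universe u v

variable {C : Type u} [Category.{v} C] [Abelian C]
variable {A₁ A₂ A₃ B₂ C₁ C₂ C₃ Z K : C}

/-- the abstract data of the situation -/
structure Hyp (i₁ : A₁ ⟶ A₂) (p₁ : A₂ ⟶ A₃) (i₂ : A₂ ⟶ B₂) (π₂ : B₂ ⟶ C₂) (j : C₁ ⟶ C₂)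
    (q : C₂ ⟶ C₃) (ι : Z ⟶ B₂) (π : Z ⟶ K) (t : A₁ ⟶ Z) (u : A₂ ⟶ Z) (f : A₃ ⟶ K)
    (g : K ⟶ C₁) : Prop where
  mono_i₁ : Mono i₁
  epi_p₁ : Epi p₁
  wA : i₁ ≫ p₁ = 0
  descA : ∀ {T : C} (x : A₂ ⟶ T), i₁ ≫ x = 0 → ∃ y : A₃ ⟶ T, p₁ ≫ y = x
  mono_i₂ : Mono i₂
  epi_π₂ : Epi π₂
  wB : i₂ ≫ π₂ = 0
  liftB : ∀ {T : C} (x : T ⟶ B₂), x ≫ π₂ = 0 → ∃ y : T ⟶ A₂, y ≫ i₂ = x
  mono_j : Mono j
  epi_q : Epi q
  wC : j ≫ q = 0
  mono_ι : Mono ι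
  epi_π : Epi π
  ι_β : ι ≫ π₂ ≫ q = 0
  lift_ι : ∀ {T : C} (x : T ⟶ B₂), x ≫ π₂ ≫ q = 0 → ∃ z : T ⟶ Z, z ≫ ι = x
  t_ι : t ≫ ι = i₁ ≫ i₂
  u_ι : u ≫ ι = i₂
  t_π : t ≫ π = 0
  lift_t : ∀ {T : C} (x : T ⟶ Z), x ≫ π = 0 → ∃ y : T ⟶ A₁, y ≫ t = x
  hf : p₁ ≫ f = u ≫ π
  hg : (π ≫ g) ≫ j = ι ≫ π₂

variable {i₁ : A₁ ⟶ A₂} {p₁ : A₂ ⟶ A₃} {i₂ : A₂ ⟶ B₂} {π₂ : B₂ ⟶ C₂} {j : C₁ ⟶ C₂}
    {q : C₂ ⟶ C₃} {ι : Z ⟶ B₂} {π : Z ⟶ K} {t : A₁ ⟶ Z} {u : A₂ ⟶ Z} {f : A₃ ⟶ K} {g : K ⟶ C₁}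

lemma phi_eq (ι : Z ⟶ B₂) [Mono ι] (π : Z ⟶ K) (s : C₁ ⟶ K) [Mono s] :
    (Subobject.map ι).obj ((Subobject.pullback π).obj (imageSubobject s)) =
      Subobject.mk (pullback.snd s π ≫ ι) := by
  rw [imageSubobject_mono, Subobject.pullback_obj_mk (IsPullback.of_hasPullback s π),
    Subobject.map_mk]

namespace Hyp

lemma i₁_u (H : Hyp i₁ p₁ i₂ π₂ j q ι π t u f g) : i₁ ≫ u = t := by
  haveI := H.mono_ι
  rw [← cancel_mono ι, Category.assoc, H.u_ι, H.t_ι]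

lemma mono_u (H : Hyp i₁ p₁ i₂ π₂ j q ι π t u f g) : Mono u := by
  haveI := H.mono_i₂
  exact mono_of_mono_fac H.u_ι

lemma mono_t (H : Hyp i₁ p₁ i₂ π₂ j q ι π t u f g) : Mono t := by
  haveI := H.mono_i₂
  haveI := H.mono_i₁
  haveI : Mono (i₁ ≫ i₂) := mono_comp _ _
  exact mono_of_mono_fac H.t_ι

lemma u_v (H : Hyp i₁ p₁ i₂ π₂ j q ι π t u f g) : u ≫ π ≫ g = 0 := by
  haveI := H.mono_j
  rw [← cancel_mono j, zero_comp, Category.assoc, H.hg, ← Category.assoc, H.u_ι, H.wB]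

lemma lift_u (H : Hyp i₁ p₁ i₂ π₂ j q ι π t u f g) {T : C} (x : T ⟶ Z)
    (hx : x ≫ π ≫ g = 0) : ∃ y : T ⟶ A₂, y ≫ u = x := by
  haveI := H.mono_ι
  have h1 : (x ≫ ι) ≫ π₂ = 0 := by
    rw [Category.assoc, ← H.hg, ← Category.assoc, hx, zero_comp]
  obtain ⟨y, hy⟩ := H.liftB (x ≫ ι) h1
  refine ⟨y, ?_⟩
  rw [← cancel_mono ι, Category.assoc, H.u_ι, hy]

lemma epi_v (H : Hyp i₁ p₁ i₂ π₂ j q ι π t u f g) : Epi (π ≫ g) := by
  haveI := H.epi_π₂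
  haveI := H.mono_j
  rw [epi_iff_surjective_up_to_refinements]
  intro T c
  obtain ⟨T', e, he, b, hb⟩ := surjective_up_to_refinements_of_epi π₂ (c ≫ j)
  have h1 : b ≫ π₂ ≫ q = 0 := by
    rw [← Category.assoc, ← hb, Category.assoc, Category.assoc, H.wC, comp_zero, comp_zero]
  obtain ⟨z, hz⟩ := H.lift_ι b h1
  refine ⟨T', e, he, z, ?_⟩
  rw [← cancel_mono j, Category.assoc, Category.assoc, H.hg, ← Category.assoc z, hz, hb]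

lemma epi_g (H : Hyp i₁ p₁ i₂ π₂ j q ι π t u f g) : Epi g := by
  haveI := H.epi_v
  exact epi_of_epi π g

lemma f_g (H : Hyp i₁ p₁ i₂ π₂ j q ι π t u f g) : f ≫ g = 0 := by
  haveI := H.epi_p₁
  rw [← cancel_epi p₁, comp_zero, ← Category.assoc, H.hf, Category.assoc, H.u_v]

lemma mono_f (H : Hyp i₁ p₁ i₂ π₂ j q ι π t u f g) : Mono f := by
  haveI := H.epi_p₁
  haveI := H.mono_u
  rw [Preadditive.mono_iff_cancel_zero]
  intro T x hx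
  obtain ⟨T', e, he, y, hy⟩ := surjective_up_to_refinements_of_epi p₁ x
  have h1 : (y ≫ u) ≫ π = 0 := by
    rw [Category.assoc, ← H.hf, ← Category.assoc, ← hy, Category.assoc, hx, comp_zero]
  obtain ⟨a, ha⟩ := H.lift_t (y ≫ u) h1
  have h2 : a ≫ i₁ = y := by
    rw [← cancel_mono u, Category.assoc, H.i₁_u, ha]
  rw [← cancel_epi e, comp_zero, hy, ← h2, Category.assoc, H.wA, comp_zero]

lemma exact_fg (H : Hyp i₁ p₁ i₂ π₂ j q ι π t u f g) {T : C} (x : T ⟶ K) (hx : x ≫ g = 0) :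
    ∃ (T' : C) (e : T' ⟶ T) (_ : Epi e) (y : T' ⟶ A₃), e ≫ x = y ≫ f := by
  haveI := H.epi_π
  obtain ⟨T', e, he, z, hz⟩ := surjective_up_to_refinements_of_epi π x
  have h1 : z ≫ π ≫ g = 0 := by
    rw [← Category.assoc, ← hz, Category.assoc, hx, comp_zero]
  obtain ⟨y, hy⟩ := H.lift_u z h1
  refine ⟨T', e, he, y ≫ p₁, ?_⟩
  rw [Category.assoc, H.hf, ← Category.assoc, hy, hz]

theorem of_section (H : Hyp i₁ p₁ i₂ π₂ j q ι π t u f g) (s : C₁ ⟶ K) (hs : s ≫ g = 𝟙 C₁)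
    {W : C} (n : W ⟶ C₁) (m : W ⟶ Z) (hpb : IsPullback n m s π) [Epi n] [Mono m]
    (B₁ : Subobject B₂) (θ : (B₁ : C) ≅ W) (hθ : θ.hom ≫ m ≫ ι = B₁.arrow) :
    ∃ (a : A₁ ⟶ (B₁ : C)) (c : (B₁ : C) ⟶ C₁) (wac : a ≫ c = 0)
      (a' : A₃ ⟶ cokernel B₁.arrow) (c' : cokernel B₁.arrow ⟶ C₃) (wac' : a' ≫ c' = 0),
      a ≫ B₁.arrow = i₁ ≫ i₂ ∧ c ≫ j = B₁.arrow ≫ π₂ ∧ (ShortComplex.mk a c wac).ShortExact ∧
      p₁ ≫ a' = i₂ ≫ cokernel.π B₁.arrow ∧ cokernel.π B₁.arrow ≫ c' = π₂ ≫ q ∧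
      (ShortComplex.mk a' c' wac').ShortExact := by
  haveI := H.mono_ι
  haveI := H.epi_π
  haveI := H.mono_j
  haveI := H.epi_p₁
  haveI := H.mono_t
  haveI := H.mono_u
  haveI := H.mono_f
  have hcond : n ≫ s = m ≫ π := hpb.w
  have hmv : m ≫ π ≫ g = n := by
    rw [← Category.assoc, ← hcond, Category.assoc, hs, Category.comp_id]
  obtain ⟨a₀, ha₀n, ha₀m⟩ : ∃ a₀ : A₁ ⟶ W, a₀ ≫ n = 0 ∧ a₀ ≫ m = t :=
    ⟨hpb.lift 0 t (by rw [zero_comp, H.t_π]), hpb.lift_fst _ _ _, hpb.lift_snd _ _ _⟩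
  have hθinv : θ.inv ≫ B₁.arrow = m ≫ ι := by rw [← hθ, θ.inv_hom_id_assoc]
  have wac : (a₀ ≫ θ.inv) ≫ θ.hom ≫ n = 0 := by
    rw [Category.assoc, θ.inv_hom_id_assoc, ha₀n]
  have ha : (a₀ ≫ θ.inv) ≫ B₁.arrow = i₁ ≫ i₂ := by
    rw [Category.assoc, hθinv, ← Category.assoc, ha₀m, H.t_ι]
  have hc : (θ.hom ≫ n) ≫ j = B₁.arrow ≫ π₂ := by
    rw [← hθ, ← hmv]
    simp only [Category.assoc]
    rw [← H.hg]
    simp only [Category.assoc]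
  have hac : (ShortComplex.mk (a₀ ≫ θ.inv) (θ.hom ≫ n) wac).ShortExact := by
    haveI : Mono a₀ := mono_of_mono_fac ha₀m
    haveI : Mono (a₀ ≫ θ.inv) := mono_comp _ _
    haveI : Epi (θ.hom ≫ n) := epi_comp _ _
    refine ShortComplex.ShortExact.mk' ?_ inferInstance inferInstance
    rw [ShortComplex.exact_iff_exact_up_to_refinements]
    intro T x hx
    have hx' : (x ≫ θ.hom) ≫ n = 0 := by rw [Category.assoc]; exact hx
    have h1 : ((x ≫ θ.hom) ≫ m) ≫ π = 0 := by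
      rw [Category.assoc, ← hcond, ← Category.assoc, hx', zero_comp]
    obtain ⟨y, hy⟩ := H.lift_t _ h1
    refine ⟨T, 𝟙 T, inferInstance, y, ?_⟩
    show 𝟙 T ≫ x = y ≫ a₀ ≫ θ.inv
    rw [Category.id_comp, ← cancel_mono θ.hom, Category.assoc, Category.assoc, θ.inv_hom_id,
      Category.comp_id]
    apply hpb.hom_ext
    · rw [hx', Category.assoc, ha₀n, comp_zero]
    · rw [Category.assoc y a₀ m, ha₀m, hy]
  -- the cokernel side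
  have hαρ : i₁ ≫ i₂ ≫ cokernel.π B₁.arrow = 0 := by
    rw [← Category.assoc, ← ha, Category.assoc, cokernel.condition, comp_zero]
  obtain ⟨a', ha'⟩ := H.descA (i₂ ≫ cokernel.π B₁.arrow) hαρ
  have harrβ : B₁.arrow ≫ π₂ ≫ q = 0 := by
    rw [← hθ, Category.assoc, Category.assoc, H.ι_β, comp_zero, comp_zero]
  obtain ⟨c', hc'⟩ : ∃ c' : cokernel B₁.arrow ⟶ C₃, cokernel.π B₁.arrow ≫ c' = π₂ ≫ q :=
    ⟨cokernel.desc B₁.arrow (π₂ ≫ q) harrβ, cokernel.π_desc _ _ _⟩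
  have wac' : a' ≫ c' = 0 := by
    rw [← cancel_epi p₁, comp_zero, ← Category.assoc, ha', Category.assoc, hc', ← Category.assoc,
      H.wB, zero_comp]
  have hac' : (ShortComplex.mk a' c' wac').ShortExact := by
    haveI : Epi c' := by
      haveI := H.epi_π₂
      haveI := H.epi_q
      haveI : Epi (π₂ ≫ q) := epi_comp _ _
      haveI : Epi (cokernel.π B₁.arrow ≫ c') := by rw [hc']; infer_instance
      exact epi_of_epi (cokernel.π B₁.arrow) c'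
    haveI : Mono a' := by
      rw [Preadditive.mono_iff_cancel_zero]
      intro T x hx
      obtain ⟨T', e, he, y, hy⟩ := surjective_up_to_refinements_of_epi p₁ x
      have h1 : (y ≫ i₂) ≫ cokernel.π B₁.arrow = 0 := by
        rw [Category.assoc, ← ha', ← Category.assoc, ← hy, Category.assoc, hx, comp_zero]
      obtain ⟨w₀, hw₀⟩ : ∃ w₀ : T' ⟶ (B₁ : C), w₀ ≫ B₁.arrow = y ≫ i₂ :=
        ⟨Abelian.monoLift B₁.arrow (y ≫ i₂) h1, Abelian.monoLift_comp _ _ _⟩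
      have h2 : w₀ ≫ θ.hom ≫ m = y ≫ u := by
        rw [← cancel_mono ι]
        simp only [Category.assoc]
        rw [hθ, hw₀, H.u_ι]
      have h3 : (w₀ ≫ θ.hom ≫ n) ≫ s = (y ≫ p₁) ≫ f := by
        rw [Category.assoc y p₁ f, H.hf, ← Category.assoc y u π, ← h2]
        simp only [Category.assoc]
        rw [hcond]
      have h4 : w₀ ≫ θ.hom ≫ n = 0 := by
        have := congrArg (· ≫ g) h3
        simp only [Category.assoc, hs, Category.comp_id, H.f_g, comp_zero] at this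
        exact this
      have h5 : (y ≫ p₁) ≫ f = 0 := by rw [← h3, h4, zero_comp]
      have h6 : y ≫ p₁ = 0 := by
        rw [← cancel_mono f, zero_comp]; exact h5
      rw [← cancel_epi e, comp_zero, hy, h6]
    refine ShortComplex.ShortExact.mk' ?_ inferInstance inferInstance
    rw [ShortComplex.exact_iff_exact_up_to_refinements]
    intro T x hx
    have hx' : x ≫ c' = 0 := hx
    obtain ⟨T₁, e₁, he₁, b, hb⟩ :=
      surjective_up_to_refinements_of_epi (cokernel.π B₁.arrow) x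
    have h1 : b ≫ π₂ ≫ q = 0 := by
      rw [← hc', ← Category.assoc, ← hb, Category.assoc, hx', comp_zero]
    obtain ⟨z, hz⟩ := H.lift_ι b h1
    have h2 : (z ≫ π ≫ (𝟙 K - g ≫ s)) ≫ g = 0 := by
      simp only [Category.assoc, Preadditive.sub_comp, Preadditive.comp_sub, Category.id_comp, hs,
        Category.comp_id, sub_self]
    obtain ⟨T₂, e₂, he₂, y₃, hy₃⟩ := H.exact_fg _ h2
    obtain ⟨T₃, e₃, he₃, y₂, hy₂⟩ := surjective_up_to_refinements_of_epi p₁ y₃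
    have hd : (e₃ ≫ e₂ ≫ z - y₂ ≫ u) ≫ π = (e₃ ≫ e₂ ≫ z ≫ π ≫ g) ≫ s := by
      have e1 : (y₂ ≫ u) ≫ π = e₃ ≫ e₂ ≫ z ≫ π ≫ (𝟙 K - g ≫ s) := by
        rw [Category.assoc y₂ u π, ← H.hf, ← Category.assoc y₂ p₁ f, ← hy₂,
          Category.assoc e₃ y₃ f, ← hy₃]
      rw [Preadditive.sub_comp, e1]
      simp only [Category.assoc, Preadditive.comp_sub, Category.comp_id]
      abel
    obtain ⟨w₁, hw₁⟩ : ∃ w₁ : T₃ ⟶ W, w₁ ≫ m = e₃ ≫ e₂ ≫ z - y₂ ≫ u :=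
      ⟨hpb.lift (e₃ ≫ e₂ ≫ z ≫ π ≫ g) (e₃ ≫ e₂ ≫ z - y₂ ≫ u) hd.symm, hpb.lift_snd _ _ _⟩
    have h3 : (e₃ ≫ e₂ ≫ z - y₂ ≫ u) ≫ ι ≫ cokernel.π B₁.arrow = 0 := by
      rw [← hw₁, Category.assoc, ← Category.assoc m ι, ← hθinv, Category.assoc,
        cokernel.condition, comp_zero, comp_zero]
    have h4 : (e₃ ≫ e₂ ≫ z) ≫ ι ≫ cokernel.π B₁.arrow =
        (y₂ ≫ u) ≫ ι ≫ cokernel.π B₁.arrow := by
      rw [← sub_eq_zero, ← Preadditive.sub_comp]; exact h3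
    refine ⟨T₃, e₃ ≫ e₂ ≫ e₁, inferInstance, y₂ ≫ p₁, ?_⟩
    show (e₃ ≫ e₂ ≫ e₁) ≫ x = (y₂ ≫ p₁) ≫ a'
    calc (e₃ ≫ e₂ ≫ e₁) ≫ x = e₃ ≫ e₂ ≫ (e₁ ≫ x) := by simp only [Category.assoc]
      _ = e₃ ≫ e₂ ≫ (z ≫ ι) ≫ cokernel.π B₁.arrow := by rw [hb, hz]
      _ = (e₃ ≫ e₂ ≫ z) ≫ ι ≫ cokernel.π B₁.arrow := by simp only [Category.assoc]
      _ = (y₂ ≫ u) ≫ ι ≫ cokernel.π B₁.arrow := h4
      _ = y₂ ≫ (u ≫ ι) ≫ cokernel.π B₁.arrow := by simp only [Category.assoc]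
      _ = (y₂ ≫ p₁) ≫ a' := by rw [H.u_ι, Category.assoc, ha']
  exact ⟨a₀ ≫ θ.inv, θ.hom ≫ n, wac, a', c', wac', ha, hc, hac, ha', hc', hac'⟩

theorem section_of (H : Hyp i₁ p₁ i₂ π₂ j q ι π t u f g) [Mono ι] (B₁ : Subobject B₂)
    (a : A₁ ⟶ (B₁ : C)) (c : (B₁ : C) ⟶ C₁) (wac : a ≫ c = 0)
    (ha : a ≫ B₁.arrow = i₁ ≫ i₂) (hc : c ≫ j = B₁.arrow ≫ π₂)
    (hac : (ShortComplex.mk a c wac).ShortExact) :
    ∃ s : C₁ ⟶ K, s ≫ g = 𝟙 C₁ ∧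
      (Subobject.map ι).obj ((Subobject.pullback π).obj (imageSubobject s)) = B₁ := by
  haveI := H.epi_π
  haveI := H.mono_j
  haveI := H.mono_t
  haveI := hac.mono_f
  haveI := hac.epi_g
  haveI : Mono a := hac.mono_f
  haveI : Epi c := hac.epi_g
  have h1 : B₁.arrow ≫ π₂ ≫ q = 0 := by
    rw [← Category.assoc, ← hc, Category.assoc, H.wC, comp_zero]
  obtain ⟨k, hk⟩ := H.lift_ι B₁.arrow h1
  haveI : Mono k := mono_of_mono_fac hk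
  have hak : a ≫ k = t := by
    rw [← cancel_mono ι, Category.assoc, hk, ha, H.t_ι]
  have h2 : a ≫ k ≫ π = 0 := by rw [← Category.assoc, hak, H.t_π]
  obtain ⟨s, hcs⟩ : ∃ s : C₁ ⟶ K, c ≫ s = k ≫ π :=
    ⟨hac.exact.desc (k ≫ π) h2, hac.exact.g_desc _ _⟩
  have hkv : k ≫ π ≫ g = c := by
    rw [← cancel_mono j, Category.assoc, H.hg, ← Category.assoc, hk, hc]
  have hsg : s ≫ g = 𝟙 C₁ := by
    rw [← cancel_epi c, ← Category.assoc, hcs, Category.assoc, hkv, Category.comp_id]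
  haveI : Mono s := mono_of_mono_fac hsg
  refine ⟨s, hsg, ?_⟩
  rw [phi_eq ι π s]
  obtain ⟨l, hl1, hl2⟩ : ∃ l : (B₁ : C) ⟶ pullback s π,
      l ≫ pullback.fst s π = c ∧ l ≫ pullback.snd s π = k :=
    ⟨pullback.lift c k hcs, pullback.lift_fst _ _ _, pullback.lift_snd _ _ _⟩
  haveI : Mono l := mono_of_mono_fac hl2
  haveI : Epi l := by
    rw [epi_iff_surjective_up_to_refinements]
    intro T x
    obtain ⟨T₁, e₁, he₁, b, hb⟩ :=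
      surjective_up_to_refinements_of_epi c (x ≫ pullback.fst s π)
    have h3 : (e₁ ≫ x ≫ pullback.snd s π - b ≫ k) ≫ π = 0 := by
      rw [Preadditive.sub_comp, sub_eq_zero]
      simp only [Category.assoc]
      rw [← pullback.condition, ← hcs, ← Category.assoc b c s, ← hb]
      simp only [Category.assoc]
    obtain ⟨a₁, ha₁⟩ := H.lift_t _ h3
    refine ⟨T₁, e₁, he₁, b + a₁ ≫ a, ?_⟩
    apply pullback.hom_ext
    · simp only [Category.assoc, Preadditive.add_comp, hl1, wac, comp_zero, add_zero]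
      exact hb
    · simp only [Category.assoc, Preadditive.add_comp, hl2, hak]
      rw [ha₁]; abel
  haveI : IsIso l := isIso_of_mono_of_epi l
  exact (Subobject.eq_mk_of_comm (pullback.snd s π ≫ ι) (asIso l) (by
    show l ≫ pullback.snd s π ≫ ι = B₁.arrow
    rw [← Category.assoc, hl2, hk])).symm

theorem section_inj (H : Hyp i₁ p₁ i₂ π₂ j q ι π t u f g) [Mono ι] (s s' : C₁ ⟶ K)
    (hs : s ≫ g = 𝟙 C₁) (hs' : s' ≫ g = 𝟙 C₁)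
    (h : (Subobject.map ι).obj ((Subobject.pullback π).obj (imageSubobject s)) =
      (Subobject.map ι).obj ((Subobject.pullback π).obj (imageSubobject s'))) : s = s' := by
  haveI := H.epi_π
  haveI : Mono s := mono_of_mono_fac hs
  haveI : Mono s' := mono_of_mono_fac hs'
  rw [phi_eq ι π s, phi_eq ι π s'] at h
  have hle : Subobject.mk (pullback.snd s π ≫ ι) ≤ Subobject.mk (pullback.snd s' π ≫ ι) :=
    le_of_eq h
  obtain ⟨r, hr⟩ : ∃ r : pullback s π ⟶ pullback s' π,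
      r ≫ pullback.snd s' π ≫ ι = pullback.snd s π ≫ ι :=
    ⟨Subobject.ofMkLEMk _ _ hle, Subobject.ofMkLEMk_comp hle⟩
  have hr' : r ≫ pullback.snd s' π = pullback.snd s π := by
    rw [← cancel_mono ι, Category.assoc, hr]
  have h1 : pullback.fst s π ≫ s = (r ≫ pullback.fst s' π) ≫ s' := by
    rw [pullback.condition, ← hr', Category.assoc, Category.assoc, pullback.condition]
  have h2 : pullback.fst s π = r ≫ pullback.fst s' π := by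
    have := congrArg (· ≫ g) h1
    simpa only [Category.assoc, hs, hs', Category.comp_id] using this
  rw [h2] at h1
  haveI : Epi (r ≫ pullback.fst s' π) := by rw [← h2]; infer_instance
  exact (cancel_epi _).1 h1

end Hyp

theorem main {A₁ A₂ A₃ B₂ C₁ C₂ C₃ : C}
    (i₁ : A₁ ⟶ A₂) (p₁ : A₂ ⟶ A₃) (wA : i₁ ≫ p₁ = 0) (hA : (ShortComplex.mk i₁ p₁ wA).ShortExact)
    (i₂ : A₂ ⟶ B₂) (π₂ : B₂ ⟶ C₂) (wB : i₂ ≫ π₂ = 0) (hB : (ShortComplex.mk i₂ π₂ wB).ShortExact)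
    (j : C₁ ⟶ C₂) (q : C₂ ⟶ C₃) (wC : j ≫ q = 0) (hC : (ShortComplex.mk j q wC).ShortExact)
    (w : (i₁ ≫ i₂) ≫ (π₂ ≫ q) = 0) (h₂ : i₂ ≫ (π₂ ≫ q) = 0) (h₃ : (i₁ ≫ i₂) ≫ π₂ = 0)
    (f : A₃ ⟶ (CategoryTheory.ShortComplex.mk (i₁ ≫ i₂) (π₂ ≫ q) w).homology)
    (g : (CategoryTheory.ShortComplex.mk (i₁ ≫ i₂) (π₂ ≫ q) w).homology ⟶ C₁)
    (hf : p₁ ≫ f = (CategoryTheory.ShortComplex.mk (i₁ ≫ i₂) (π₂ ≫ q) w).liftCycles i₂ h₂ ≫ (CategoryTheory.ShortComplex.mk (i₁ ≫ i₂) (π₂ ≫ q) w).homologyπ)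
    (hg : g ≫ j = (CategoryTheory.ShortComplex.mk (i₁ ≫ i₂) (π₂ ≫ q) w).homologyι ≫ (CategoryTheory.ShortComplex.mk (i₁ ≫ i₂) (π₂ ≫ q) w).descOpcycles π₂ h₃) :
    (∀ B₁ : Subobject B₂,
      (∃ (a : A₁ ⟶ (B₁ : C)) (c : (B₁ : C) ⟶ C₁) (wac : a ≫ c = 0)
         (a' : A₃ ⟶ cokernel B₁.arrow) (c' : cokernel B₁.arrow ⟶ C₃) (wac' : a' ≫ c' = 0),
         a ≫ B₁.arrow = i₁ ≫ i₂ ∧ c ≫ j = B₁.arrow ≫ π₂ ∧ (ShortComplex.mk a c wac).ShortExact ∧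
         p₁ ≫ a' = i₂ ≫ cokernel.π B₁.arrow ∧ cokernel.π B₁.arrow ≫ c' = π₂ ≫ q ∧
         (ShortComplex.mk a' c' wac').ShortExact) ↔
      ∃ s : C₁ ⟶ (CategoryTheory.ShortComplex.mk (i₁ ≫ i₂) (π₂ ≫ q) w).homology, s ≫ g = 𝟙 C₁ ∧
        (Subobject.map (CategoryTheory.ShortComplex.mk (i₁ ≫ i₂) (π₂ ≫ q) w).iCycles).obj ((Subobject.pullback (CategoryTheory.ShortComplex.mk (i₁ ≫ i₂) (π₂ ≫ q) w).homologyπ).obj (imageSubobject s)) = B₁) ∧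
    (∀ s s' : C₁ ⟶ (CategoryTheory.ShortComplex.mk (i₁ ≫ i₂) (π₂ ≫ q) w).homology, s ≫ g = 𝟙 C₁ → s' ≫ g = 𝟙 C₁ →
      (Subobject.map (CategoryTheory.ShortComplex.mk (i₁ ≫ i₂) (π₂ ≫ q) w).iCycles).obj ((Subobject.pullback (CategoryTheory.ShortComplex.mk (i₁ ≫ i₂) (π₂ ≫ q) w).homologyπ).obj (imageSubobject s)) = (Subobject.map (CategoryTheory.ShortComplex.mk (i₁ ≫ i₂) (π₂ ≫ q) w).iCycles).obj ((Subobject.pullback (CategoryTheory.ShortComplex.mk (i₁ ≫ i₂) (π₂ ≫ q) w).homologyπ).obj (imageSubobject s')) → s = s') := by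
  haveI := hA.mono_f
  haveI := hA.epi_g
  haveI := hB.mono_f
  haveI := hB.epi_g
  haveI := hC.mono_f
  haveI := hC.epi_g
  haveI : Mono i₁ := hA.mono_f
  haveI : Mono i₂ := hB.mono_f
  haveI : Mono (ShortComplex.mk (i₁ ≫ i₂) (π₂ ≫ q) w).toCycles := by
    haveI : Mono (i₁ ≫ i₂) := mono_comp _ _
    haveI : Mono (ShortComplex.mk (i₁ ≫ i₂) (π₂ ≫ q) w).f := (inferInstance : Mono (i₁ ≫ i₂))
    exact mono_of_mono_fac (ShortComplex.mk (i₁ ≫ i₂) (π₂ ≫ q) w).toCycles_i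
  have hex : (ShortComplex.mk (ShortComplex.mk (i₁ ≫ i₂) (π₂ ≫ q) w).toCycles (ShortComplex.mk (i₁ ≫ i₂) (π₂ ≫ q) w).homologyπ (ShortComplex.mk (i₁ ≫ i₂) (π₂ ≫ q) w).toCycles_comp_homologyπ).Exact :=
    ShortComplex.exact_of_g_is_cokernel _ (ShortComplex.mk (i₁ ≫ i₂) (π₂ ≫ q) w).homologyIsCokernel
  have H : Hyp i₁ p₁ i₂ π₂ j q (ShortComplex.mk (i₁ ≫ i₂) (π₂ ≫ q) w).iCycles (ShortComplex.mk (i₁ ≫ i₂) (π₂ ≫ q) w).homologyπ (ShortComplex.mk (i₁ ≫ i₂) (π₂ ≫ q) w).toCycles ((ShortComplex.mk (i₁ ≫ i₂) (π₂ ≫ q) w).liftCycles i₂ h₂) f g :=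
    { mono_i₁ := hA.mono_f
      epi_p₁ := hA.epi_g
      wA := wA
      descA := fun x hx => ⟨hA.exact.desc x hx, hA.exact.g_desc x hx⟩
      mono_i₂ := hB.mono_f
      epi_π₂ := hB.epi_g
      wB := wB
      liftB := fun x hx => ⟨hB.exact.lift x hx, hB.exact.lift_f x hx⟩
      mono_j := hC.mono_f
      epi_q := hC.epi_g
      wC := wC
      mono_ι := inferInstance
      epi_π := inferInstance
      ι_β := (ShortComplex.mk (i₁ ≫ i₂) (π₂ ≫ q) w).iCycles_g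
      lift_ι := fun x hx => ⟨(ShortComplex.mk (i₁ ≫ i₂) (π₂ ≫ q) w).liftCycles x hx, (ShortComplex.mk (i₁ ≫ i₂) (π₂ ≫ q) w).liftCycles_i x hx⟩
      t_ι := (ShortComplex.mk (i₁ ≫ i₂) (π₂ ≫ q) w).toCycles_i
      u_ι := (ShortComplex.mk (i₁ ≫ i₂) (π₂ ≫ q) w).liftCycles_i i₂ h₂
      t_π := (ShortComplex.mk (i₁ ≫ i₂) (π₂ ≫ q) w).toCycles_comp_homologyπ
      lift_t := fun x hx => ⟨hex.lift x hx, hex.lift_f x hx⟩
      hf := hf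
      hg := by
        rw [Category.assoc, hg, ← Category.assoc, (ShortComplex.mk (i₁ ≫ i₂) (π₂ ≫ q) w).homology_π_ι, Category.assoc,
          (ShortComplex.mk (i₁ ≫ i₂) (π₂ ≫ q) w).p_descOpcycles] }
  refine ⟨fun B₁ => ⟨?_, ?_⟩, fun s s' hs hs' h => H.section_inj s s' hs hs' h⟩
  · rintro ⟨a, c, wac, a', c', wac', ha, hc, hac, -, -, -⟩
    exact H.section_of B₁ a c wac ha hc hac
  · rintro ⟨s, hs, rfl⟩
    haveI : Mono s := mono_of_mono_fac hs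
    rw [phi_eq (ShortComplex.mk (i₁ ≫ i₂) (π₂ ≫ q) w).iCycles (ShortComplex.mk (i₁ ≫ i₂) (π₂ ≫ q) w).homologyπ s]
    exact H.of_section s hs (pullback.fst s (ShortComplex.mk (i₁ ≫ i₂) (π₂ ≫ q) w).homologyπ) (pullback.snd s (ShortComplex.mk (i₁ ≫ i₂) (π₂ ≫ q) w).homologyπ)
      (IsPullback.of_hasPullback s (ShortComplex.mk (i₁ ≫ i₂) (π₂ ≫ q) w).homologyπ) _ (Subobject.underlyingIso _)
      (Subobject.underlyingIso_hom_comp_eq_mk _)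

end Groth.Agent.H9.NineSec
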