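import Mathlib
import Groth.Prelude.Def_W4c5algebraiztannakaNis

universe u
open CategoryTheory AlgebraicGeometry Topology

namespace Groth.Agent.Lib.Helper9.NisComp

/-- constructible subsets of an affine scheme are compact -/
lemma isCompact_of_isConstructible_of_isAffine {X : Scheme.{u}} [IsAffine X] {s : Set X}
    (hs : IsConstructible s) : IsCompact s := by
  let e := X.isoSpec
  have h1 : IsConstructible (e.inv ⁻¹' s) := Scheme.Hom.isConstructible_preimage e.inv hs
  obtain ⟨S, _, f, hf⟩ := PrimeSpectrum.exists_range_eq_of_isConstructible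
    (R := Γ(X, ⊤)) (s := e.inv ⁻¹' s) h1
  have h2 : IsCompact (e.inv ⁻¹' s) := by
    have := isCompact_range (PrimeSpectrum.continuous_comap f)
    rw [hf] at this
    exact this
  have h3 : s = e.inv '' (e.inv ⁻¹' s) := by
    rw [Set.image_preimage_eq]
    exact (e.symm.hom.homeomorph).surjective
  rw [h3]
  exact h2.image e.inv.continuous

/-- constructible subsets of a quasi-compact scheme are compact -/
lemma isCompact_of_isConstructible {X : Scheme.{u}} [CompactSpace X] {s : Set X}
    (hs : IsConstructible s) : IsCompact s := by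
  let 𝒰 := X.affineCover.finiteSubcover
  have h1 : s = ⋃ i, 𝒰.f i '' ((𝒰.f i) ⁻¹' s) := by
    ext x
    simp only [Set.mem_iUnion, Set.mem_image, Set.mem_preimage]
    constructor
    · intro hx
      obtain ⟨i, y, hy⟩ := 𝒰.exists_eq x
      exact ⟨i, y, by rw [hy]; exact hx, hy⟩
    · rintro ⟨i, y, hy, rfl⟩
      exact hy
  rw [h1]
  apply isCompact_iUnion
  intro i
  exact (isCompact_of_isConstructible_of_isAffine
    (Scheme.Hom.isConstructible_preimage (𝒰.f i) hs)).image (𝒰.f i).continuous

section Top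

variable {X T : Type*} [TopologicalSpace X] [TopologicalSpace T]

lemma isClosed_union_image {F₀ F : Set X} (hF₀ : IsClosed F₀) (hF : IsClosed F) (g : T → X)
    (hg : IsEmbedding g) (hrange : Set.range g = F \ F₀) {S : Set T} (hS : IsClosed S) :
    IsClosed (F₀ ∪ g '' S) := by
  obtain ⟨C, hC, rfl⟩ := hg.isInducing.isClosed_iff.1 hS
  have h1 : F₀ ∪ g '' (g ⁻¹' C) = F₀ ∪ (C ∩ F) := by
    rw [Set.image_preimage_eq_inter_range, hrange]
    ext x
    simp only [Set.mem_union, Set.mem_inter_iff, Set.mem_sdiff]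
    tauto
  rw [h1]
  exact hF₀.union (hC.inter hF)

lemma isConstructible_image {F₀ F : Set X} (hF₀ : IsClosed F₀) (hF : IsClosed F)
    (hF₀c : IsRetrocompact F₀ᶜ) (hFc : IsRetrocompact Fᶜ) (g : T → X) (hg : IsEmbedding g)
    (hrange : Set.range g = F \ F₀) {S : Set T} (hS : IsConstructible S) :
    IsConstructible (g '' S) := by
  have hF₀con : IsConstructible F₀ := (hF₀c.isConstructible hF₀.isOpen_compl).of_compl
  have hFcon : IsConstructible F := (hFc.isConstructible hF.isOpen_compl).of_compl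
  have hL : IsConstructible (Set.range g) := by
    rw [hrange]
    exact hFcon.sdiff hF₀con
  induction hS using IsConstructible.empty_union_induction with
  | open_retrocompact U hUopen hUcomp =>
    obtain ⟨O, hO, rfl⟩ := hg.isInducing.isOpen_iff.1 hUopen
    have hCopen : IsOpen (Fᶜ ∪ (O ∩ F₀ᶜ)) := hF.isOpen_compl.union (hO.inter hF₀.isOpen_compl)
    have hCret : IsRetrocompact (Fᶜ ∪ (O ∩ F₀ᶜ)) := by
      intro K hKc hKo
      have h1 : (Fᶜ ∪ (O ∩ F₀ᶜ)) ∩ K = (Fᶜ ∩ K) ∪ g '' (g ⁻¹' O ∩ g ⁻¹' K) := by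
        rw [← Set.preimage_inter, Set.image_preimage_eq_inter_range, hrange]
        ext x
        simp only [Set.mem_union, Set.mem_inter_iff, Set.mem_sdiff, Set.mem_compl_iff]
        tauto
      rw [h1]
      refine (hFc hKc hKo).union ?_
      have hgK : IsCompact (g ⁻¹' K) := by
        rw [hg.isCompact_iff, Set.image_preimage_eq_inter_range, hrange]
        have h2 : K ∩ (F \ F₀) = (F₀ᶜ ∩ K) ∩ F := by
          ext x
          simp only [Set.mem_inter_iff, Set.mem_sdiff, Set.mem_compl_iff]
          tauto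
        rw [h2]
        exact (hF₀c hKc hKo).inter_right hF
      exact (hUcomp hgK (hKo.preimage hg.continuous)).image hg.continuous
    have h3 : g '' (g ⁻¹' O) = F ∩ (Fᶜ ∪ (O ∩ F₀ᶜ)) := by
      rw [Set.image_preimage_eq_inter_range, hrange]
      ext x
      simp only [Set.mem_union, Set.mem_inter_iff, Set.mem_sdiff, Set.mem_compl_iff]
      tauto
    rw [h3]
    exact hFcon.inter (hCret.isConstructible hCopen)
  | union s hs t ht hs' ht' =>
    rw [Set.image_union]
    exact hs'.union ht'
  | compl s hs hs' =>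
    rw [← Set.range_sdiff_image hg.injective]
    exact hL.sdiff hs'

end Top

section NatIndex

open W4c5algebraiztannaka

variable {U Y : Scheme.{u}}

lemma flag_nat (f : U ⟶ Y) (m : ℕ) (h : IsNisCoverLen f m) :
    ∃ Z : ℕ → Set Y, Z 0 = ∅ ∧ Z m = Set.univ ∧ Monotone Z ∧
      (∀ k, IsClosed (Z k) ∧ IsConstructible (Z k)) ∧
      ∀ k, k < m → HasSectOver f (Z (k + 1) \ Z k) := by
  obtain ⟨Z, h0, hlast, hmono, hcc, hsec⟩ := h.flag
  refine ⟨fun k => Z ⟨min k m, by omega⟩, ?_, ?_, ?_, fun k => hcc _, ?_⟩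
  · simpa using h0
  · have : (⟨min m m, by omega⟩ : Fin (m + 1)) = Fin.last m := by
      ext
      simp
    show Z ⟨min m m, by omega⟩ = Set.univ
    rw [this]
    exact hlast
  · intro a b hab
    apply hmono
    simp only [Fin.mk_le_mk]
    omega
  · intro k hk
    have h1 : (⟨min (k + 1) m, by omega⟩ : Fin (m + 1)) = (⟨k, hk⟩ : Fin m).succ := by
      ext
      simp
      omega
    have h2 : (⟨min k m, by omega⟩ : Fin (m + 1)) = (⟨k, hk⟩ : Fin m).castSucc := by
      ext
      simp
      omega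
    show HasSectOver f (Z ⟨min (k + 1) m, by omega⟩ \ Z ⟨min k m, by omega⟩)
    rw [h1, h2]
    exact hsec ⟨k, hk⟩

lemma of_flag_nat (f : U ⟶ Y) [Etale f] (m : ℕ) (Z : ℕ → Set Y) (h0 : Z 0 = ∅)
    (hm : Z m = Set.univ) (hmono : Monotone Z)
    (hcc : ∀ k, k ≤ m → IsClosed (Z k) ∧ IsConstructible (Z k))
    (hsec : ∀ k, k < m → HasSectOver f (Z (k + 1) \ Z k)) : IsNisCoverLen f m := by
  refine ⟨inferInstance, fun k : Fin (m + 1) => Z k, ?_, ?_, ?_, ?_, ?_⟩
  · simpa using h0
  · simpa using hm
  · intro a b hab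
    exact hmono hab
  · intro k
    exact hcc k (by omega)
  · intro k
    have := hsec k k.2
    simpa using this

end NatIndex

end Groth.Agent.Lib.Helper9.NisComp
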