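import Mathlib
import Groth.Agent.Lib.Helper9.Misc.NisComp

universe u
open CategoryTheory AlgebraicGeometry Topology CategoryTheory.Limits

namespace Groth.Agent.Lib.Helper9.NisComp

open W4c5algebraiztannaka

lemma divmod_unique (m j k : ℕ) (hk : k < m) : (m * j + k) / m = j ∧ (m * j + k) % m = k := by
  have hm : 0 < m := by omega
  constructor
  · rw [Nat.mul_add_div hm, Nat.div_eq_of_lt hk, add_zero]
  · rw [Nat.mul_add_mod, Nat.mod_eq_of_lt hk]

theorem main {Y₁ Y₂ Y₃ : Scheme.{u}} (g₁ : Y₁ ⟶ Y₂) (g₂ : Y₂ ⟶ Y₃)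
    [CompactSpace Y₃] [QuasiSeparatedSpace Y₃] (m₁ m₂ : ℕ)
    (h₁ : IsNisCoverLen g₁ m₁) (h₂ : IsNisCoverLen g₂ m₂) :
    IsNisCoverLen (g₁ ≫ g₂) (m₁ * m₂) := by
  have := h₁.etale
  have := h₂.etale
  obtain ⟨Za, hZa0, hZalast, hZamono, hZacc, hseca⟩ := flag_nat g₁ m₁ h₁
  obtain ⟨Zb, hZb0, hZblast, hZbmono, hZbcc, hsecb⟩ := flag_nat g₂ m₂ h₂
  choose Tb ggb sb himmb hrangeb hsb using hsecb
  choose Ta gga sa himma hrangea hsa using hseca
  -- retrocompactness of complements
  have hret : ∀ j, IsRetrocompact (Zb j)ᶜ := fun j =>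
    (isCompact_of_isConstructible (hZbcc j).2.compl).isRetrocompact (hZbcc j).1.isOpen_compl
  have hemb : ∀ j (hj : j < m₂), IsEmbedding (ggb j hj) := fun j hj =>
    have := himmb j hj
    (ggb j hj).isEmbedding
  -- pieces
  let piece : ℕ → ℕ → Set Y₃ := fun j k =>
    if h : j < m₂ then ggb j h '' ((sb j h) ⁻¹' (Za k)) else ∅
  let W : ℕ → ℕ → Set Y₃ := fun j k => Zb j ∪ piece j k
  have hpiece : ∀ j (h : j < m₂) k, piece j k = ggb j h '' ((sb j h) ⁻¹' (Za k)) := by
    intro j h k
    simp only [piece, dif_pos h]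
  have hW0 : ∀ j, W j 0 = Zb j := by
    intro j
    simp only [W, piece]
    split_ifs with h
    · rw [hZa0]
      simp
    · simp
  have hWm : ∀ j, j < m₂ → W j m₁ = Zb (j + 1) := by
    intro j h
    simp only [W]
    rw [hpiece j h, hZalast, Set.preimage_univ, Set.image_univ, hrangeb j h]
    exact Set.union_sdiff_cancel (hZbmono (Nat.le_succ j))
  have hWmono : ∀ j k k', k ≤ k' → W j k ⊆ W j k' := by
    intro j k k' hkk'
    apply Set.union_subset_union_right
    simp only [piece]
    split_ifs with h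
    · exact Set.image_mono (Set.preimage_mono (hZamono hkk'))
    · exact le_rfl
  have hWcc : ∀ j k, j < m₂ → IsClosed (W j k) ∧ IsConstructible (W j k) := by
    intro j k h
    simp only [W]
    rw [hpiece j h]
    constructor
    · exact isClosed_union_image (hZbcc j).1 (hZbcc (j + 1)).1 _ (hemb j h) (hrangeb j h)
        ((hZacc k).1.preimage (sb j h).continuous)
    · exact (hZbcc j).2.union (isConstructible_image (hZbcc j).1 (hZbcc (j + 1)).1 (hret j)
        (hret (j + 1)) _ (hemb j h) (hrangeb j h)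
        (Scheme.Hom.isConstructible_preimage (sb j h) (hZacc k).2))
  -- section over W j (k+1) \ W j k
  have hWsec : ∀ j k, j < m₂ → k < m₁ → HasSectOver (g₁ ≫ g₂) (W j (k + 1) \ W j k) := by
    intro j k hj hk
    have := himmb j hj
    have := himma k hk
    have hinj : Function.Injective (ggb j hj) := (hemb j hj).injective
    have hdiff : W j (k + 1) \ W j k =
        ggb j hj '' ((sb j hj) ⁻¹' (Za (k + 1) \ Za k)) := by
      simp only [W]
      rw [hpiece j hj, hpiece j hj, Set.preimage_sdiff, Set.image_sdiff hinj]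
      ext x
      simp only [Set.mem_sdiff, Set.mem_union]
      constructor
      · rintro ⟨h1 | h1, h2⟩
        · exact absurd (Or.inl h1) h2
        · exact ⟨h1, fun h3 => h2 (Or.inr h3)⟩
      · rintro ⟨h1, h2⟩
        refine ⟨Or.inr h1, ?_⟩
        rintro (h3 | h3)
        · have h4 : x ∈ Set.range (ggb j hj) := Set.image_subset_range _ _ h1
          rw [hrangeb j hj] at h4
          exact h4.2 h3
        · exact h2 h3
    rw [hdiff]
    refine ⟨pullback (sb j hj) (gga k hk), pullback.fst _ _ ≫ ggb j hj,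
      pullback.snd _ _ ≫ sa k hk, inferInstance, ?_, ?_⟩
    · have h1 : Set.range (pullback.fst (sb j hj) (gga k hk)) =
          (sb j hj) ⁻¹' Set.range (gga k hk) := Scheme.Pullback.range_fst _ _
      rw [← hrangea k hk, ← h1]
      ext x
      simp only [Set.mem_range, Set.mem_image]
      constructor
      · rintro ⟨t, rfl⟩
        exact ⟨_, ⟨t, rfl⟩, rfl⟩
      · rintro ⟨_, ⟨t, rfl⟩, rfl⟩
        exact ⟨t, rfl⟩
    · rw [Category.assoc, ← Category.assoc (sa k hk), hsa k hk, ← pullback.condition_assoc,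
        hsb j hj]
  rcases Nat.eq_zero_or_pos m₁ with hm₁ | hm₁
  · -- degenerate case: everything is empty
    subst hm₁
    have hYb : IsEmpty Y₂ := by
      rw [← Set.univ_eq_empty_iff, ← hZalast, hZa0]
    have hZbconst : ∀ j, j ≤ m₂ → Zb j = ∅ := by
      intro j
      induction j with
      | zero => intro _; exact hZb0
      | succ j ih =>
        intro hj
        have hj' : j < m₂ := by omega
        have h1 := hrangeb j hj'
        have h2 : IsEmpty (Tb j hj') := ⟨fun t => hYb.false (sb j hj' t)⟩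
        rw [Set.range_eq_empty, ih (by omega), Set.sdiff_empty] at h1
        exact h1.symm
    have hYc : IsEmpty Y₃ := by
      rw [← Set.univ_eq_empty_iff, ← hZblast]
      exact hZbconst m₂ le_rfl
    rw [Nat.zero_mul]
    exact of_flag_nat _ 0 (fun _ => ∅) rfl (Set.univ_eq_empty_iff.2 hYc).symm monotone_const
      (fun k _ => ⟨isClosed_empty, IsConstructible.empty⟩) (fun k hk => absurd hk (by omega))
  · let Zn : ℕ → Set Y₃ := fun n => W (n / m₁) (n % m₁)
    have hbig : ∀ j k, m₂ ≤ j → W j k = Set.univ := by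
      intro j k hj
      have h1 : piece j k = ∅ := by
        simp only [piece]
        rw [dif_neg (by omega)]
      simp only [W]
      rw [h1, Set.union_empty]
      exact Set.eq_univ_of_univ_subset (hZblast ▸ hZbmono hj)
    have hstep : ∀ n, n < m₁ * m₂ → n / m₁ < m₂ ∧ n % m₁ < m₁ ∧
        Zn (n + 1) = W (n / m₁) (n % m₁ + 1) := by
      intro n hn
      have hj : n / m₁ < m₂ := Nat.div_lt_of_lt_mul hn
      have hk : n % m₁ < m₁ := Nat.mod_lt _ hm₁
      refine ⟨hj, hk, ?_⟩
      have hdm := Nat.div_add_mod n m₁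
      by_cases hk1 : n % m₁ + 1 < m₁
      · have h1 : n + 1 = m₁ * (n / m₁) + (n % m₁ + 1) := by omega
        obtain ⟨h2, h3⟩ := divmod_unique m₁ (n / m₁) (n % m₁ + 1) hk1
        show W ((n + 1) / m₁) ((n + 1) % m₁) = _
        rw [h1, h2, h3]
      · have hk2 : n % m₁ + 1 = m₁ := by omega
        have h1 : n + 1 = m₁ * (n / m₁ + 1) + 0 := by
          rw [Nat.mul_add, Nat.mul_one]
          omega
        obtain ⟨h2, h3⟩ := divmod_unique m₁ (n / m₁ + 1) 0 hm₁
        show W ((n + 1) / m₁) ((n + 1) % m₁) = _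
        rw [h1, h2, h3, hk2, hW0, hWm _ hj]
    refine of_flag_nat _ (m₁ * m₂) Zn ?_ ?_ ?_ ?_ ?_
    · show W (0 / m₁) (0 % m₁) = ∅
      rw [Nat.zero_div, Nat.zero_mod, hW0, hZb0]
    · show W (m₁ * m₂ / m₁) (m₁ * m₂ % m₁) = Set.univ
      rw [Nat.mul_div_cancel_left _ hm₁, Nat.mul_mod_right, hW0, hZblast]
    · apply monotone_nat_of_le_succ
      intro n
      by_cases hn : n < m₁ * m₂
      · obtain ⟨hj, hk, h3⟩ := hstep n hn
        rw [h3]
        exact hWmono _ _ _ (Nat.le_succ _)
      · have h1 : m₂ ≤ (n + 1) / m₁ := by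
          rw [Nat.le_div_iff_mul_le hm₁]
          rw [Nat.mul_comm]
          omega
        show _ ⊆ W ((n + 1) / m₁) ((n + 1) % m₁)
        rw [hbig _ _ h1]
        exact Set.subset_univ _
    · intro n hn
      rcases Nat.lt_or_ge n (m₁ * m₂) with h | h
      · exact hWcc _ _ (hstep n h).1
      · have hn' : n = m₁ * m₂ := by omega
        show IsClosed (W (n / m₁) (n % m₁)) ∧ IsConstructible (W (n / m₁) (n % m₁))
        rw [hn', Nat.mul_div_cancel_left _ hm₁, Nat.mul_mod_right, hW0]
        exact hZbcc m₂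
    · intro n hn
      obtain ⟨hj, hk, h3⟩ := hstep n hn
      rw [h3]
      exact hWsec _ _ hj hk

end Groth.Agent.Lib.Helper9.NisComp
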