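import Mathlib
import Groth.Agent.Lib.Helper9.Misc.NisComp

universe u
open CategoryTheory AlgebraicGeometry Topology CategoryTheory.Limits

namespace Groth.Agent.Lib.Helper9.NisComp

open W4c5algebraiztannaka

theorem baseChange {U Y Y' : Scheme.{u}} (f : U ⟶ Y) (g : Y' ⟶ Y) (m : ℕ)
    (hf : IsNisCoverLen f m) : IsNisCoverLen (pullback.snd f g) m := by
  have := hf.etale
  obtain ⟨Z, hZ0, hZlast, hZmono, hZcc, hsec⟩ := flag_nat f m hf
  refine of_flag_nat _ m (fun k => g ⁻¹' Z k) ?_ ?_ ?_ ?_ ?_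
  · show g ⁻¹' Z 0 = ∅
    rw [hZ0, Set.preimage_empty]
  · show g ⁻¹' Z m = Set.univ
    rw [hZlast, Set.preimage_univ]
  · intro a b hab
    exact Set.preimage_mono (hZmono hab)
  · intro k _
    exact ⟨(hZcc k).1.preimage g.continuous, Scheme.Hom.isConstructible_preimage g (hZcc k).2⟩
  · intro k hk
    obtain ⟨T, gk, s, himm, hrange, hs⟩ := hsec k hk
    have hcond : (pullback.fst gk g ≫ s) ≫ f = pullback.snd gk g ≫ g := by
      rw [Category.assoc, hs, pullback.condition]
    refine ⟨pullback gk g, pullback.snd gk g,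
      pullback.lift (pullback.fst gk g ≫ s) (pullback.snd gk g) hcond, inferInstance, ?_,
      pullback.lift_snd _ _ _⟩
    show Set.range (pullback.snd gk g) = g ⁻¹' Z (k + 1) \ g ⁻¹' Z k
    rw [Scheme.Pullback.range_snd, ← Set.preimage_sdiff, ← hrange]

theorem sigmaOpens {U : Scheme.{u}} [CompactSpace U] [QuasiSeparatedSpace U]
    (k : ℕ) (V : Fin k → U.Opens) (hV : ∀ i, IsCompact (V i : Set U)) (hcov : ⨆ i, V i = ⊤) :
    IsNisCoverLen
      (Sigma.desc (fun i => (V i).ι) : (∐ fun i => ((V i : U.Opens) : Scheme.{u})) ⟶ U) k := by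
  have : IsZariskiLocalAtSource @Etale.{u} := HasRingHomProperty.instIsZariskiLocalAtSource
  have hetale : Etale (Sigma.desc (fun i => (V i).ι) :
      (∐ fun i => ((V i : U.Opens) : Scheme.{u})) ⟶ U) :=
    IsZariskiLocalAtSource.sigmaDesc (fun i => inferInstance)
  let Z : ℕ → Set U := fun n => (⋃ i : {i : Fin k // n ≤ i.1}, (V i.1 : Set U))ᶜ
  have hZmem : ∀ n x, x ∈ Z n ↔ ∀ i : Fin k, n ≤ i.1 → x ∉ V i := by
    intro n x
    simp only [Z, Set.mem_compl_iff, Set.mem_iUnion, not_exists, Subtype.forall]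
    rfl
  refine of_flag_nat _ k Z ?_ ?_ ?_ ?_ ?_
  · ext x
    rw [hZmem]
    simp only [Nat.zero_le, forall_const, Set.mem_empty_iff_false, iff_false, not_forall,
      not_not]
    have hx : x ∈ (⨆ i, V i : U.Opens) := by rw [hcov]; trivial
    simpa using hx
  · ext x
    rw [hZmem]
    simp only [Set.mem_univ, iff_true]
    intro i hi
    exact absurd i.2 (by omega)
  · intro a b hab x hx
    rw [hZmem] at hx ⊢
    intro i hi
    exact hx i (by omega)
  · intro n _
    have hopen : IsOpen (⋃ i : {i : Fin k // n ≤ i.1}, (V i.1 : Set U)) :=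
      isOpen_iUnion fun i => (V i.1).isOpen
    refine ⟨hopen.isClosed_compl, IsConstructible.compl ?_⟩
    exact IsConstructible.iUnion fun i => (hV i.1).isConstructible (V i.1).isOpen
  · intro j hj
    let Vj : U.Opens := V ⟨j, hj⟩
    let C : TopologicalSpace.Closeds (Vj : Scheme.{u}) :=
      ⟨Vj.ι ⁻¹' Z (j + 1), by
        have hopen : IsOpen (⋃ i : {i : Fin k // j + 1 ≤ i.1}, (V i.1 : Set U)) :=
          isOpen_iUnion fun i => (V i.1).isOpen
        exact hopen.isClosed_compl.preimage Vj.ι.continuous⟩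
    let I := Scheme.IdealSheafData.vanishingIdeal C
    refine ⟨I.subscheme, I.subschemeι ≫ Vj.ι,
      I.subschemeι ≫ Sigma.ι (fun i => ((V i : U.Opens) : Scheme.{u})) ⟨j, hj⟩, inferInstance,
      ?_, ?_⟩
    · show Set.range (I.subschemeι ≫ Vj.ι) = Z (j + 1) \ Z j
      have h1 : Set.range (I.subschemeι ≫ Vj.ι) = Vj.ι '' Set.range I.subschemeι := by
        rw [← Set.range_comp]
        rfl
      rw [h1, Scheme.IdealSheafData.range_subschemeι]
      have h2 : ((I.support : TopologicalSpace.Closeds _) : Set (Vj : Scheme.{u})) =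
          Vj.ι ⁻¹' Z (j + 1) := Scheme.IdealSheafData.coe_support_vanishingIdeal C
      rw [h2, Set.image_preimage_eq_inter_range, Scheme.Opens.range_ι]
      ext x
      simp only [Set.mem_inter_iff, Set.mem_sdiff, hZmem, SetLike.mem_coe]
      constructor
      · rintro ⟨h3, h4⟩
        exact ⟨h3, fun h5 => h5 ⟨j, hj⟩ le_rfl h4⟩
      · rintro ⟨h3, h4⟩
        refine ⟨h3, ?_⟩
        by_contra h5
        apply h4
        intro i hi
        rcases Nat.eq_or_lt_of_le hi with h6 | h6
        · have : i = ⟨j, hj⟩ := Fin.ext h6.symm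
          rw [this]
          exact h5
        · exact h3 i h6
    · rw [Category.assoc, Sigma.ι_desc]

end Groth.Agent.Lib.Helper9.NisComp
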