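import Mathlib

set_option autoImplicit false
set_option linter.style.haveILetI false
set_option linter.unusedSectionVars false
set_option linter.unusedVariables false

universe u

namespace Groth.Agent.H9.NodeEt

section polyconst
open Polynomial

theorem poly_const {k : Type*} [Field k] [CharZero k] (n : ℕ) (H : k[X]) (hH : H ≠ 0) :
    ∀ (d : ℕ) (G : k[X]), G.natDegree < d → (n : k[X]) * G * derivative H = derivative G * H →
      ∃ c : k, G = C c * H ^ n := by
  intro d
  induction d with
  | zero => intro G hG; omega
  | succ d ih =>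
    intro G hG hode
    by_cases hG0 : G = 0
    · exact ⟨0, by simp [hG0]⟩
    by_cases hb : H.natDegree = 0
    · obtain ⟨u, hu⟩ : ∃ u, H = C u := ⟨H.coeff 0, eq_C_of_natDegree_eq_zero hb⟩
      have hu0 : u ≠ 0 := by rintro rfl; exact hH (by simpa using hu)
      subst hu
      have hG' : derivative G = 0 := by
        have h1 := hode
        simp only [derivative_C, mul_zero] at h1
        rcases mul_eq_zero.1 h1.symm with h | h
        · exact h
        · exact absurd h hH
      have hGc : G = C (G.coeff 0) := eq_C_of_derivative_eq_zero hG'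
      refine ⟨G.coeff 0 / u ^ n, ?_⟩
      rw [← C_pow, ← C_mul, div_mul_cancel₀ _ (pow_ne_zero n hu0)]
      exact hGc
    have hH' : derivative H ≠ 0 := derivative_ne_zero.2 hb
    -- leading coefficient identity
    set a := G.natDegree with ha
    set b := H.natDegree with hb'
    have hlcH' : (derivative H).leadingCoeff = H.leadingCoeff * (b : k) := leadingCoeff_derivative H
    have hab : (n * b : ℕ) = a := by
      have hlc := congrArg leadingCoeff hode
      rw [leadingCoeff_mul, leadingCoeff_mul, leadingCoeff_mul, hlcH'] at hlc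
      have hn : ((n : k[X])).leadingCoeff = (n : k) := by
        rw [← C_eq_natCast, leadingCoeff_C]
      rw [hn] at hlc
      have hlcG' : (derivative G).leadingCoeff = G.leadingCoeff * (a : k) := leadingCoeff_derivative G
      rw [hlcG'] at hlc
      have hG1 : G.leadingCoeff ≠ 0 := leadingCoeff_ne_zero.2 hG0
      have hH1 : H.leadingCoeff ≠ 0 := leadingCoeff_ne_zero.2 hH
      have : ((n * b : ℕ) : k) = (a : k) := by
        push_cast
        have h2 : G.leadingCoeff * H.leadingCoeff * ((n : k) * b) =
            G.leadingCoeff * H.leadingCoeff * a := by linear_combination hlc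
        exact mul_left_cancel₀ (mul_ne_zero hG1 hH1) h2
      exact_mod_cast this
    have hG1 : G.leadingCoeff ≠ 0 := leadingCoeff_ne_zero.2 hG0
    have hH1 : H.leadingCoeff ≠ 0 := leadingCoeff_ne_zero.2 hH
    set c : k := G.leadingCoeff / H.leadingCoeff ^ n with hc
    have hc0 : c ≠ 0 := div_ne_zero hG1 (pow_ne_zero n hH1)
    set G₁ : k[X] := G - C c * H ^ n with hG₁
    have hnd : (C c * H ^ n).natDegree = a := by
      rw [natDegree_C_mul hc0, natDegree_pow, ← hab]
    have hlc2 : (C c * H ^ n).leadingCoeff = G.leadingCoeff := by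
      rw [leadingCoeff_mul, leadingCoeff_C, leadingCoeff_pow, hc,
        div_mul_cancel₀ _ (pow_ne_zero n hH1)]
    have hne : C c * H ^ n ≠ 0 := mul_ne_zero (C_ne_zero.2 hc0) (pow_ne_zero n hH)
    have hdeg : G₁.degree < G.degree := by
      apply degree_sub_lt_left _ hG0 hlc2.symm
      rw [degree_eq_natDegree hG0, degree_eq_natDegree hne, hnd]
    by_cases h0 : G₁ = 0
    · exact ⟨c, by rw [hG₁] at h0; exact sub_eq_zero.1 h0⟩
    have hG₁d : G₁.natDegree < d := by
      have := natDegree_lt_natDegree h0 hdeg
      omega
    -- ODE for G₁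
    have hn1 : 1 ≤ n ∨ n = 0 := by omega
    have hode1 : (n : k[X]) * G₁ * derivative H = derivative G₁ * H := by
      rcases hn1 with hn1 | hn0
      · obtain ⟨m, rfl⟩ : ∃ m, n = m + 1 := ⟨n - 1, by omega⟩
        have hd1 : derivative G₁ = derivative G -
            C c * (C ((m + 1 : ℕ) : k) * H ^ m * derivative H) := by
          rw [hG₁, derivative_sub, derivative_mul, derivative_C, zero_mul, zero_add,
            derivative_pow]
          simp
        rw [hd1, hG₁]
        have hcast : ((m + 1 : ℕ) : k[X]) = C ((m + 1 : ℕ) : k) := by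
          rw [C_eq_natCast]
        rw [hcast] at hode ⊢
        linear_combination hode
      · subst hn0
        simp only [Nat.cast_zero, zero_mul] at hode ⊢
        rw [hG₁]
        simp only [pow_zero, mul_one, derivative_sub, derivative_C, sub_zero]
        exact hode
    obtain ⟨c₁, hc₁⟩ := ih G₁ hG₁d hode1
    refine ⟨c + c₁, ?_⟩
    rw [C_add, add_mul, ← hc₁, hG₁]
    ring

end polyconst

theorem elim {B : Type*} [CommRing B] (x y w : B) (hxp : (Ideal.span {x}).IsPrime)
    (hyp : (Ideal.span {y}).IsPrime)
    (hxr : ∀ a, x * a = 0 → a = 0) (hyr : ∀ a, y * a = 0 → a = 0)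
    (hwx : w ∉ Ideal.span {x}) (hwy : w ∉ Ideal.span {y}) :
    ∀ (i j : ℕ) (c : B), c * w = x ^ i * y ^ j → IsUnit w := by
  intro i
  induction i with
  | zero =>
    intro j
    induction j with
    | zero =>
      intro c hc
      exact IsUnit.of_mul_eq_one c (by rw [mul_comm]; simpa using hc)
    | succ j ih =>
      intro c hc
      have h1 : c * w ∈ Ideal.span {y} := by
        rw [hc]; exact Ideal.mem_span_singleton.2 ⟨y ^ j, by ring⟩
      rcases hyp.mem_or_mem h1 with h | h
      · obtain ⟨c', rfl⟩ := Ideal.mem_span_singleton.1 h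
        apply ih c'
        have := hyr (c' * w - x ^ 0 * y ^ j) (by linear_combination hc)
        exact sub_eq_zero.1 this
      · exact absurd h hwy
  | succ i ih =>
    intro j c hc
    have h1 : c * w ∈ Ideal.span {x} := by
      rw [hc]; exact Ideal.mem_span_singleton.2 ⟨x ^ i * y ^ j, by ring⟩
    rcases hxp.mem_or_mem h1 with h | h
    · obtain ⟨c', rfl⟩ := Ideal.mem_span_singleton.1 h
      apply ih j c'
      have := hxr (c' * w - x ^ i * y ^ j) (by linear_combination hc)
      exact sub_eq_zero.1 this
    · exact absurd h hwx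


section etale
open KaehlerDifferential

theorem exists_rel {V B : Type u} [CommRing V] [CommRing B] [Algebra V B] (ϖB : B) (f : B)
    (hf : ((algebraMap B (Localization.Away ϖB)).comp
      (Polynomial.aeval f : Polynomial V →ₐ[V] B).toRingHom).Etale)
    (lam : Ω[B⁄V] →ₗ[B] B) (b : B) :
    ∃ (c : B) (N : ℕ), ϖB ^ N * lam (D V B b) = c * lam (D V B f) := by
  let B' := Localization.Away ϖB
  let g : Polynomial V →+* B' :=
    (algebraMap B B').comp (Polynomial.aeval f : Polynomial V →ₐ[V] B).toRingHom
  letI algT : Algebra (Polynomial V) B' := g.toAlgebra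
  haveI : IsScalarTower V (Polynomial V) B' := IsScalarTower.of_algebraMap_eq (fun v => by
    change algebraMap V B' v = g (Polynomial.C v)
    simp [g, IsScalarTower.algebraMap_apply V B B'])
  haveI : Algebra.Etale (Polynomial V) B' := hf
  have key : ∀ ω : Ω[B'⁄V], ω ∈ Submodule.span B' {D V B' (algebraMap B B' f)} := by
    intro ω
    obtain ⟨t, rfl⟩ := (KaehlerDifferential.exact_mapBaseChange_map V (Polynomial V) B' ω).1
      (Subsingleton.elim _ _)
    induction t using TensorProduct.induction_on with
    | zero => simp
    | add t₁ t₂ h₁ h₂ => rw [map_add]; exact Submodule.add_mem _ h₁ h₂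
    | tmul b' η =>
      rw [KaehlerDifferential.mapBaseChange_tmul]
      refine Submodule.smul_mem _ _ ?_
      have hη : η ∈ Submodule.span (Polynomial V) (Set.range (D V (Polynomial V))) := by
        rw [KaehlerDifferential.span_range_derivation]; trivial
      induction hη using Submodule.span_induction with
      | mem η hη =>
        obtain ⟨p, rfl⟩ := hη
        rw [KaehlerDifferential.map_D]
        have : algebraMap (Polynomial V) B' p = Polynomial.aeval (algebraMap B B' f) p := by
          change g p = _
          simp [g, Polynomial.aeval_algebraMap_apply]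
        rw [this, Derivation.map_aeval]
        exact Submodule.smul_mem _ _ (Submodule.mem_span_singleton_self _)
      | zero => simp
      | add η₁ η₂ _ _ h₁ h₂ => rw [map_add]; exact Submodule.add_mem _ h₁ h₂
      | smul r η _ h =>
        rw [map_smul, ← IsScalarTower.algebraMap_smul B' r]
        exact Submodule.smul_mem _ _ h
  obtain ⟨c', hc'⟩ := Submodule.mem_span_singleton.1 (key (D V B' (algebraMap B B' b)))
  obtain ⟨c₀, s, rfl⟩ := IsLocalization.exists_mk'_eq (Submonoid.powers ϖB) c'
  obtain ⟨n, hn⟩ := s.2
  have h1 : (KaehlerDifferential.map V V B B') ((s : B) • D V B b) =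
      (KaehlerDifferential.map V V B B') (c₀ • D V B f) := by
    rw [map_smul, map_smul, KaehlerDifferential.map_D, KaehlerDifferential.map_D, ← hc',
      ← IsScalarTower.algebraMap_smul B' (s : B), ← IsScalarTower.algebraMap_smul B' c₀, smul_smul]
    congr 1
    rw [mul_comm]; exact IsLocalization.mk'_spec B' c₀ s
  obtain ⟨u, hu⟩ := IsLocalizedModule.exists_of_eq (S := Submonoid.powers ϖB) h1
  obtain ⟨m, hm⟩ := u.2
  have h2 := congrArg lam hu
  simp only [Submonoid.smul_def, map_smul, smul_eq_mul] at h2
  refine ⟨(u : B) * c₀, m + n, ?_⟩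
  have hm' : ϖB ^ m = (u : B) := hm
  have hn' : ϖB ^ n = (s : B) := hn
  rw [pow_add, hm', hn']; linear_combination h2

end etale

end Groth.Agent.H9.NodeEt
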