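import Mathlib

set_option autoImplicit false
set_option linter.style.haveILetI false
set_option linter.unusedSectionVars false
set_option linter.unusedVariables false

universe u

namespace Groth.Agent.H9.NodeEt

open MvPolynomial

section polyA
variable {V : Type u} [CommRing V]

/-- evaluation `X i ↦ 0`, the other variable `↦ Y`. -/
noncomputable def ev1 (i : Fin 2) : MvPolynomial (Fin 2) V →ₐ[V] Polynomial V :=
  MvPolynomial.aeval (fun l => if l = i then 0 else Polynomial.X)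

theorem ev1_X_self (i : Fin 2) : ev1 (V := V) i (X i) = 0 := by simp [ev1]

theorem ev1_X_other (i j : Fin 2) (hij : i ≠ j) : ev1 (V := V) i (X j) = Polynomial.X := by
  simp [ev1, hij.symm]

theorem ev1_C (i : Fin 2) (a : V) : ev1 i (C a) = Polynomial.C a := by
  simp [ev1]

theorem ev1_iota (i j : Fin 2) (hij : i ≠ j) (P : Polynomial V) :
    ev1 i (Polynomial.aeval (X j : MvPolynomial (Fin 2) V) P) = P := by
  rw [← Polynomial.aeval_algHom_apply, ev1_X_other i j hij, Polynomial.aeval_X_left_apply]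

theorem sub_iota_mem (i j : Fin 2) (hij : i ≠ j) (p : MvPolynomial (Fin 2) V) :
    p - Polynomial.aeval (X j : MvPolynomial (Fin 2) V) (ev1 i p) ∈
      Ideal.span {(X i : MvPolynomial (Fin 2) V)} := by
  induction p using MvPolynomial.induction_on with
  | C a =>
    rw [ev1_C, Polynomial.aeval_C]
    simp
  | add p q hp hq =>
    have : p + q - Polynomial.aeval (X j : MvPolynomial (Fin 2) V) (ev1 i (p + q)) =
        (p - Polynomial.aeval (X j : MvPolynomial (Fin 2) V) (ev1 i p)) +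
        (q - Polynomial.aeval (X j : MvPolynomial (Fin 2) V) (ev1 i q)) := by
      rw [map_add, map_add]; ring
    rw [this]; exact Ideal.add_mem _ hp hq
  | mul_X p l hp =>
    by_cases hl : l = i
    · subst hl
      rw [map_mul, ev1_X_self, mul_zero, map_zero, sub_zero]
      exact Ideal.mul_mem_left _ _ (Ideal.subset_span rfl)
    · have hlj : l = j := by
        fin_cases i <;> fin_cases j <;> fin_cases l <;> simp_all
      subst hlj
      rw [map_mul, ev1_X_other i l hij, map_mul, Polynomial.aeval_X, ← sub_mul]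
      exact Ideal.mul_mem_right _ _ hp

end polyA

section Qlevel
variable {V : Type u} [CommRing V] [IsDomain V] [IsDiscreteValuationRing V]

noncomputable abbrev relI (ϖ : V) : Ideal (MvPolynomial (Fin 2) V) :=
  Ideal.span {(X 0 * X 1 - C ϖ : MvPolynomial (Fin 2) V)}

noncomputable abbrev QQ (ϖ : V) := MvPolynomial (Fin 2) V ⧸ relI ϖ

noncomputable abbrev xQ (ϖ : V) (l : Fin 2) : QQ ϖ := Ideal.Quotient.mk (relI ϖ) (X l)

abbrev kk (V : Type u) [CommRing V] [IsLocalRing V] := IsLocalRing.ResidueField V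

noncomputable def ev0 (i : Fin 2) : MvPolynomial (Fin 2) V →+* Polynomial (kk V) :=
  (Polynomial.mapRingHom (IsLocalRing.residue V)).comp (ev1 i).toRingHom

theorem ev0_apply (i : Fin 2) (p : MvPolynomial (Fin 2) V) :
    ev0 i p = Polynomial.map (IsLocalRing.residue V) (ev1 i p) := rfl

variable (ϖ : V) (hϖ : Irreducible ϖ) (i j : Fin 2) (hij : i ≠ j)
  (hrel : (X i * X j : MvPolynomial (Fin 2) V) = X 0 * X 1)

include hϖ in
theorem res_unif : IsLocalRing.residue V ϖ = 0 := by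
  rw [IsLocalRing.residue_eq_zero_iff]
  exact hϖ.not_isUnit

include hϖ hrel in
theorem ev0_rel : ev0 i (X 0 * X 1 - C ϖ : MvPolynomial (Fin 2) V) = 0 := by
  rw [← hrel, ev0_apply, map_sub, map_mul, ev1_X_self, zero_mul, zero_sub, ev1_C,
    Polynomial.map_neg, Polynomial.map_C, res_unif ϖ hϖ, Polynomial.C_0, neg_zero]

noncomputable def ev : QQ ϖ →+* Polynomial (kk V) :=
  Ideal.Quotient.lift (relI ϖ) (ev0 i) (fun a ha => by
    obtain ⟨t, rfl⟩ := Ideal.mem_span_singleton.1 ha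
    rw [map_mul, ev0_rel ϖ hϖ i j hrel, zero_mul])

theorem ev_mk (p : MvPolynomial (Fin 2) V) :
    ev ϖ hϖ i j hrel (Ideal.Quotient.mk _ p) = ev0 i p := rfl

include hrel in
theorem mk_C_unif : (Ideal.Quotient.mk (relI ϖ) (C ϖ) : QQ ϖ) = xQ ϖ i * xQ ϖ j := by
  have h1 : (Ideal.Quotient.mk (relI ϖ) (X 0 * X 1 - C ϖ) : QQ ϖ) = 0 :=
    Ideal.Quotient.eq_zero_iff_mem.2 (Ideal.subset_span rfl)
  rw [map_sub, sub_eq_zero] at h1
  rw [← h1, ← hrel, map_mul]

include hij in
theorem ker_ev (q : QQ ϖ) (hq : ev ϖ hϖ i j hrel q = 0) : q ∈ Ideal.span {xQ ϖ i} := by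
  obtain ⟨p, rfl⟩ := Ideal.Quotient.mk_surjective q
  have h2 : ev1 i p ∈ RingHom.ker (Polynomial.mapRingHom (IsLocalRing.residue V)) := hq
  rw [Polynomial.ker_mapRingHom, IsLocalRing.ker_residue, hϖ.maximalIdeal_eq, Ideal.map_span,
    Set.image_singleton] at h2
  obtain ⟨s, hs⟩ := Ideal.mem_span_singleton.1 h2
  obtain ⟨t, ht⟩ := Ideal.mem_span_singleton.1 (sub_iota_mem i j hij p)
  have hp : p = X i * t + C ϖ * Polynomial.aeval (X j : MvPolynomial (Fin 2) V) s := by
    have : Polynomial.aeval (X j : MvPolynomial (Fin 2) V) (ev1 i p) =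
        C ϖ * Polynomial.aeval (X j : MvPolynomial (Fin 2) V) s := by
      rw [hs, map_mul, Polynomial.aeval_C]; rfl
    rw [← this, ← ht]; ring
  rw [hp, map_add, map_mul, map_mul, mk_C_unif ϖ i j hrel]
  exact Ideal.mem_span_singleton.2 ⟨Ideal.Quotient.mk _ t + xQ ϖ j *
    Ideal.Quotient.mk _ (Polynomial.aeval (X j : MvPolynomial (Fin 2) V) s), by ring⟩

include hij in
theorem ev_surjective : Function.Surjective (ev ϖ hϖ i j hrel) := by
  intro P
  obtain ⟨P', rfl⟩ := Polynomial.map_surjective _ IsLocalRing.residue_surjective P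
  refine ⟨Ideal.Quotient.mk _ (Polynomial.aeval (X j : MvPolynomial (Fin 2) V) P'), ?_⟩
  rw [ev_mk, ev0_apply, ev1_iota i j hij]

include hij in
theorem ev_xQ_other : ev ϖ hϖ i j hrel (xQ ϖ j) = Polynomial.X := by
  rw [ev_mk, ev0_apply, ev1_X_other i j hij, Polynomial.map_X]

theorem ev_xQ_self : ev ϖ hϖ i j hrel (xQ ϖ i) = 0 := by
  rw [ev_mk, ev0_apply, ev1_X_self, Polynomial.map_zero]

theorem ev_algebraMap (v : V) :
    ev ϖ hϖ i j hrel (algebraMap V (QQ ϖ) v) = Polynomial.C (IsLocalRing.residue V v) := by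
  have : algebraMap V (QQ ϖ) v = Ideal.Quotient.mk _ (C v) := rfl
  rw [this, ev_mk, ev0_apply, ev1_C, Polynomial.map_C]

include hϖ hrel in
theorem xQ_regular (q : QQ ϖ) (h : xQ ϖ i * q = 0) : q = 0 := by
  obtain ⟨g, rfl⟩ := Ideal.Quotient.mk_surjective q
  rw [← map_mul, Ideal.Quotient.eq_zero_iff_mem, Ideal.mem_span_singleton] at h
  obtain ⟨t, ht⟩ := h
  have hXi : (X i : MvPolynomial (Fin 2) V) ∣ (X 0 * X 1 - C ϖ) * t := ⟨g, ht.symm⟩
  rcases (MvPolynomial.X_prime (i := i)).dvd_or_dvd hXi with h1 | h1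
  · exfalso
    obtain ⟨s, hs⟩ := h1
    have := congrArg (ev1 i) hs
    rw [← hrel, map_sub, map_mul, map_mul, ev1_X_self, zero_mul, zero_mul, zero_sub, ev1_C] at this
    exact hϖ.ne_zero (by simpa using this)
  · obtain ⟨t', rfl⟩ := h1
    have : g = (X 0 * X 1 - C ϖ) * t' :=
      mul_left_cancel₀ (X_ne_zero i) (by rw [ht]; ring)
    rw [this, Ideal.Quotient.eq_zero_iff_mem]
    exact Ideal.mul_mem_right _ _ (Ideal.subset_span rfl)

include hij in
theorem coeff_ne_zero_of_not_mem (q : QQ ϖ) (hq : q ∉ Ideal.span {xQ ϖ i, xQ ϖ j}) :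
    (ev ϖ hϖ i j hrel q).coeff 0 ≠ 0 := by
  intro h0
  apply hq
  obtain ⟨S, hS⟩ := Polynomial.X_dvd_iff.2 h0
  obtain ⟨s, rfl⟩ := ev_surjective ϖ hϖ i j hij hrel S
  have h1 : ev ϖ hϖ i j hrel (q - xQ ϖ j * s) = 0 := by
    rw [map_sub, map_mul, ev_xQ_other ϖ hϖ i j hij hrel, hS, sub_self]
  obtain ⟨r, hr⟩ := Ideal.mem_span_singleton.1 (ker_ev ϖ hϖ i j hij hrel _ h1)
  have : q = xQ ϖ i * r + xQ ϖ j * s := by linear_combination hr
  rw [this]
  exact Ideal.add_mem _ (Ideal.mul_mem_right _ _ (Ideal.subset_span (by simp)))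
    (Ideal.mul_mem_right _ _ (Ideal.subset_span (by simp)))

end Qlevel

end Groth.Agent.H9.NodeEt
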