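import Mathlib
import Groth.Agent.Lib.Helper9.Misc.NodeEtA
import Groth.Agent.Lib.Helper9.Misc.NodeEtB

set_option autoImplicit false
set_option linter.style.haveILetI false
set_option linter.unusedSectionVars false
set_option linter.unusedVariables false

universe u

namespace Groth.Agent.H9.NodeEt

open MvPolynomial KaehlerDifferential

section Blevel
variable {V : Type u} [CommRing V] [IsDomain V] [IsDiscreteValuationRing V]
variable (ϖ : V) (hϖ : Irreducible ϖ) (h : QQ ϖ)

noncomputable abbrev xB (l : Fin 2) : Localization.Away h :=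
  algebraMap (QQ ϖ) (Localization.Away h) (xQ ϖ l)

variable (i j : Fin 2) (hij : i ≠ j) (hrel : (X i * X j : MvPolynomial (Fin 2) V) = X 0 * X 1)
  (hh : h ∉ Ideal.span {xQ ϖ i, xQ ϖ j})

include hij hh in
theorem ev_h_coeff : (ev ϖ hϖ i j hrel h).coeff 0 ≠ 0 :=
  coeff_ne_zero_of_not_mem ϖ hϖ i j hij hrel h hh

include hij hh in
theorem ev_h_ne_zero : ev ϖ hϖ i j hrel h ≠ 0 := by
  intro h0
  exact ev_h_coeff ϖ hϖ h i j hij hrel hh (by rw [h0]; simp)

noncomputable def Phi : Localization.Away h →+* FractionRing (Polynomial (kk V)) :=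
  IsLocalization.Away.lift h
    (g := (algebraMap (Polynomial (kk V)) (FractionRing (Polynomial (kk V)))).comp
      (ev ϖ hϖ i j hrel))
    (by
      rw [RingHom.comp_apply]
      exact IsUnit.mk0 _ ((map_ne_zero_iff _ (IsFractionRing.injective _ _)).2
        (ev_h_ne_zero ϖ hϖ h i j hij hrel hh)))

theorem Phi_alg (q : QQ ϖ) :
    Phi ϖ hϖ h i j hij hrel hh (algebraMap (QQ ϖ) (Localization.Away h) q) =
      algebraMap (Polynomial (kk V)) (FractionRing (Polynomial (kk V))) (ev ϖ hϖ i j hrel q) :=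
  IsLocalization.Away.lift_eq _ _ q

theorem ker_Phi (b : Localization.Away h) (hb : Phi ϖ hϖ h i j hij hrel hh b = 0) :
    b ∈ Ideal.span {xB ϖ h i} := by
  obtain ⟨q, s, rfl⟩ := IsLocalization.exists_mk'_eq (Submonoid.powers h) b
  have h1 : Phi ϖ hϖ h i j hij hrel hh (IsLocalization.mk' (Localization.Away h) q s) *
      Phi ϖ hϖ h i j hij hrel hh (algebraMap (QQ ϖ) (Localization.Away h) s) =
      Phi ϖ hϖ h i j hij hrel hh (algebraMap (QQ ϖ) (Localization.Away h) q) := by
    rw [← map_mul, IsLocalization.mk'_spec]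
  rw [hb, zero_mul, Phi_alg] at h1
  have h2 : ev ϖ hϖ i j hrel q = 0 :=
    (map_eq_zero_iff _ (IsFractionRing.injective _ _)).1 h1.symm
  obtain ⟨r, hr⟩ := Ideal.mem_span_singleton.1 (ker_ev ϖ hϖ i j hij hrel q h2)
  rw [hr, Ideal.mem_span_singleton]
  exact ⟨IsLocalization.mk' (Localization.Away h) r s, by
    rw [IsLocalization.mul_mk'_eq_mk'_of_mul]⟩

theorem Phi_xB_self : Phi ϖ hϖ h i j hij hrel hh (xB ϖ h i) = 0 := by
  rw [Phi_alg, ev_xQ_self, map_zero]

theorem Phi_xB_other : Phi ϖ hϖ h i j hij hrel hh (xB ϖ h j) =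
    algebraMap (Polynomial (kk V)) (FractionRing (Polynomial (kk V))) Polynomial.X := by
  rw [Phi_alg, ev_xQ_other ϖ hϖ i j hij hrel]

theorem span_eq_ker : Ideal.span {xB ϖ h i} = RingHom.ker (Phi ϖ hϖ h i j hij hrel hh) := by
  apply le_antisymm
  · rw [Ideal.span_le, Set.singleton_subset_iff]
    exact Phi_xB_self ϖ hϖ h i j hij hrel hh
  · intro b hb
    exact ker_Phi ϖ hϖ h i j hij hrel hh b hb

include hϖ hij hrel hh in
theorem span_isPrime : (Ideal.span {xB ϖ h i}).IsPrime := by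
  rw [span_eq_ker ϖ hϖ h i j hij hrel hh]
  exact RingHom.ker_isPrime _

include hϖ hij hrel hh in
theorem xB_other_not_mem : xB ϖ h j ∉ Ideal.span {xB ϖ h i} := by
  rw [span_eq_ker ϖ hϖ h i j hij hrel hh, RingHom.mem_ker, Phi_xB_other]
  exact (map_ne_zero_iff _ (IsFractionRing.injective _ _)).2 Polynomial.X_ne_zero

include hϖ hrel in
theorem xB_regular (b : Localization.Away h) (hb : xB ϖ h i * b = 0) : b = 0 := by
  obtain ⟨q, s, rfl⟩ := IsLocalization.exists_mk'_eq (Submonoid.powers h) b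
  have h1 : algebraMap (QQ ϖ) (Localization.Away h) (xQ ϖ i * q) = 0 := by
    have := congrArg (· * algebraMap (QQ ϖ) (Localization.Away h) s) hb
    simp only [zero_mul, mul_assoc, IsLocalization.mk'_spec] at this
    rw [map_mul]; exact this
  obtain ⟨u, hu⟩ := (IsLocalization.map_eq_zero_iff (Submonoid.powers h) _ _).1 h1
  have h2 : (u : QQ ϖ) * q = 0 := xQ_regular ϖ hϖ i j hrel _ (by linear_combination hu)
  rw [IsLocalization.mk'_eq_zero_iff]
  exact ⟨u, h2⟩

/-- the residue map `B → k`. -/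
noncomputable def Psi : Localization.Away h →+* kk V :=
  IsLocalization.Away.lift h
    (g := (Polynomial.evalRingHom 0).comp (ev ϖ hϖ i j hrel))
    (by
      rw [RingHom.comp_apply, Polynomial.coe_evalRingHom, ← Polynomial.coeff_zero_eq_eval_zero]
      exact IsUnit.mk0 _ (ev_h_coeff ϖ hϖ h i j hij hrel hh))

theorem Psi_alg (q : QQ ϖ) :
    Psi ϖ hϖ h i j hij hrel hh (algebraMap (QQ ϖ) (Localization.Away h) q) =
      (ev ϖ hϖ i j hrel q).eval 0 :=
  IsLocalization.Away.lift_eq _ _ q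

theorem Psi_xB_self : Psi ϖ hϖ h i j hij hrel hh (xB ϖ h i) = 0 := by
  rw [Psi_alg, ev_xQ_self, Polynomial.eval_zero]

theorem Psi_xB_other : Psi ϖ hϖ h i j hij hrel hh (xB ϖ h j) = 0 := by
  rw [Psi_alg, ev_xQ_other ϖ hϖ i j hij hrel, Polynomial.eval_X]

theorem Psi_algebraMap (v : V) :
    Psi ϖ hϖ h i j hij hrel hh (algebraMap V (Localization.Away h) v) =
      IsLocalRing.residue V v := by
  rw [IsScalarTower.algebraMap_apply V (QQ ϖ) (Localization.Away h), Psi_alg, ev_algebraMap,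
    Polynomial.eval_C]

include hϖ hij hrel hh in
theorem span_pair_ne_top : Ideal.span {xB ϖ h i, xB ϖ h j} ≠ ⊤ := by
  intro htop
  have hle : Ideal.span {xB ϖ h i, xB ϖ h j} ≤ RingHom.ker (Psi ϖ hϖ h i j hij hrel hh) := by
    rw [Ideal.span_le]
    intro z hz
    rcases hz with rfl | rfl
    · exact Psi_xB_self ϖ hϖ h i j hij hrel hh
    · exact Psi_xB_other ϖ hϖ h i j hij hrel hh
  rw [htop] at hle
  have : (1 : Localization.Away h) ∈ RingHom.ker (Psi ϖ hϖ h i j hij hrel hh) := hle trivial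
  rw [RingHom.mem_ker, map_one] at this
  exact one_ne_zero this

end Blevel

section deriv
variable {V : Type u} [CommRing V] [IsDomain V] [IsDiscreteValuationRing V]
variable (ϖ : V) (h : QQ ϖ)

noncomputable def deltaP : Derivation V (MvPolynomial (Fin 2) V) (MvPolynomial (Fin 2) V) :=
  mkDerivation V ![X 0, -X 1]

theorem deltaP_rel : deltaP (X 0 * X 1 - C ϖ : MvPolynomial (Fin 2) V) = 0 := by
  rw [map_sub, Derivation.leibniz, derivation_C, deltaP, mkDerivation_X, mkDerivation_X]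
  simp
  ring

theorem deltaP_hd (p : MvPolynomial (Fin 2) V) (hp : Ideal.Quotient.mkₐ V (relI ϖ) p = 0) :
    Ideal.Quotient.mkₐ V (relI ϖ) (deltaP p) = 0 := by
  rw [Ideal.Quotient.mkₐ_eq_mk, Ideal.Quotient.eq_zero_iff_mem, Ideal.mem_span_singleton] at hp
  obtain ⟨t, rfl⟩ := hp
  rw [Derivation.leibniz, deltaP_rel, smul_zero, add_zero, smul_eq_mul,
    Ideal.Quotient.mkₐ_eq_mk, Ideal.Quotient.eq_zero_iff_mem]
  exact Ideal.mul_mem_right _ _ (Ideal.subset_span rfl)

noncomputable def deltaQ : Derivation V (QQ ϖ) (QQ ϖ) :=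
  Derivation.liftOfSurjective (f := Ideal.Quotient.mkₐ V (relI ϖ))
    (Ideal.Quotient.mkₐ_surjective V (relI ϖ)) (d := deltaP) (deltaP_hd ϖ)

theorem deltaQ_mk (p : MvPolynomial (Fin 2) V) :
    deltaQ ϖ (Ideal.Quotient.mk (relI ϖ) p) = Ideal.Quotient.mk (relI ϖ) (deltaP p) :=
  Derivation.liftOfSurjective_apply (f := Ideal.Quotient.mkₐ V (relI ϖ))
    (Ideal.Quotient.mkₐ_surjective V (relI ϖ)) (deltaP_hd ϖ) p

theorem deltaQ_xQ0 : deltaQ ϖ (xQ ϖ 0) = xQ ϖ 0 := by
  rw [deltaQ_mk, deltaP, mkDerivation_X]; rfl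

theorem deltaQ_xQ1 : deltaQ ϖ (xQ ϖ 1) = - xQ ϖ 1 := by
  rw [deltaQ_mk, deltaP, mkDerivation_X]; simp

noncomputable def lamQ : Ω[QQ ϖ⁄V] →ₗ[QQ ϖ] Localization.Away h :=
  (Algebra.linearMap (QQ ϖ) (Localization.Away h)).comp (deltaQ ϖ).liftKaehlerDifferential

noncomputable def lamB0 : Ω[Localization.Away h⁄V] →ₗ[QQ ϖ] Localization.Away h :=
  IsLocalizedModule.lift (Submonoid.powers h)
    (KaehlerDifferential.map V V (QQ ϖ) (Localization.Away h)) (lamQ ϖ h)
    (fun s => IsLocalizedModule.map_units (Algebra.linearMap (QQ ϖ) (Localization.Away h)) s)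

noncomputable def lamB : Ω[Localization.Away h⁄V] →ₗ[Localization.Away h] Localization.Away h :=
  (lamB0 ϖ h).extendScalarsOfIsLocalization (Submonoid.powers h) (Localization.Away h)

theorem lamB_D_alg (q : QQ ϖ) :
    lamB ϖ h (D V (Localization.Away h) (algebraMap (QQ ϖ) (Localization.Away h) q)) =
      algebraMap (QQ ϖ) (Localization.Away h) (deltaQ ϖ q) := by
  rw [lamB, LinearMap.extendScalarsOfIsLocalization_apply', ← KaehlerDifferential.map_D V V (QQ ϖ),
    lamB0, IsLocalizedModule.lift_apply, lamQ, LinearMap.comp_apply,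
    Derivation.liftKaehlerDifferential_comp_D]
  rfl

noncomputable def deltaB : Derivation V (Localization.Away h) (Localization.Away h) :=
  (lamB ϖ h).compDer (D V (Localization.Away h))

theorem deltaB_apply (b : Localization.Away h) :
    deltaB ϖ h b = lamB ϖ h (D V (Localization.Away h) b) := rfl

theorem deltaB_alg (q : QQ ϖ) :
    deltaB ϖ h (algebraMap (QQ ϖ) (Localization.Away h) q) =
      algebraMap (QQ ϖ) (Localization.Away h) (deltaQ ϖ q) := lamB_D_alg ϖ h q

theorem deltaB_xB0 : deltaB ϖ h (xB ϖ h 0) = xB ϖ h 0 := by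
  rw [deltaB_alg, deltaQ_xQ0]

theorem deltaB_xB1 : deltaB ϖ h (xB ϖ h 1) = - xB ϖ h 1 := by
  rw [deltaB_alg, deltaQ_xQ1, map_neg]

/-- a derivation of a quotient of `B` killing the images of `x` and `y` vanishes. -/
theorem der_eq_zero {Cq : Type u} [CommRing Cq] [Algebra V Cq]
    (π : Localization.Away h →ₐ[V] Cq) (hπ : Function.Surjective π)
    {M : Type u} [AddCommGroup M] [Module Cq M] [Module V M] [IsScalarTower V Cq M]
    (d : Derivation V Cq M) (h0 : d (π (xB ϖ h 0)) = 0) (h1 : d (π (xB ϖ h 1)) = 0) (c : Cq) :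
    d c = 0 := by
  have step1 : ∀ p : MvPolynomial (Fin 2) V,
      d (π (algebraMap (QQ ϖ) (Localization.Away h) (Ideal.Quotient.mk _ p))) = 0 := by
    intro p
    induction p using MvPolynomial.induction_on with
    | C a =>
      have : π (algebraMap (QQ ϖ) (Localization.Away h) (Ideal.Quotient.mk _ (C a))) =
          algebraMap V Cq a := by
        have h2 : (Ideal.Quotient.mk (relI ϖ) (C a) : QQ ϖ) = algebraMap V (QQ ϖ) a := rfl
        rw [h2, ← IsScalarTower.algebraMap_apply V (QQ ϖ) (Localization.Away h), AlgHom.commutes]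
      rw [this, Derivation.map_algebraMap]
    | add p q hp hq => rw [map_add, map_add, map_add, map_add, hp, hq, add_zero]
    | mul_X p l hp =>
      rw [map_mul, map_mul, map_mul, Derivation.leibniz, hp, smul_zero, add_zero]
      have : d (π (algebraMap (QQ ϖ) (Localization.Away h) (Ideal.Quotient.mk _ (X l)))) = 0 := by
        fin_cases l
        · exact h0
        · exact h1
      rw [this, smul_zero]
  have step2 : ∀ q : QQ ϖ, d (π (algebraMap (QQ ϖ) (Localization.Away h) q)) = 0 := by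
    intro q
    obtain ⟨p, rfl⟩ := Ideal.Quotient.mk_surjective q
    exact step1 p
  obtain ⟨b, rfl⟩ := hπ c
  obtain ⟨q, s, rfl⟩ := IsLocalization.exists_mk'_eq (Submonoid.powers h) b
  have hspec : π (IsLocalization.mk' (Localization.Away h) q s) *
      π (algebraMap (QQ ϖ) (Localization.Away h) s) =
      π (algebraMap (QQ ϖ) (Localization.Away h) q) := by
    rw [← map_mul, IsLocalization.mk'_spec]
  have hu : IsUnit (π (algebraMap (QQ ϖ) (Localization.Away h) s)) :=
    (IsLocalization.map_units (Localization.Away h) s).map π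
  have h3 := congrArg d hspec
  rw [Derivation.leibniz, step2, step2, smul_zero, zero_add] at h3
  obtain ⟨u, hu'⟩ := hu
  have : d (π (IsLocalization.mk' (Localization.Away h) q s)) =
      ((u⁻¹ : Cqˣ) : Cq) • ((u : Cq) • d (π (IsLocalization.mk' (Localization.Away h) q s))) := by
    rw [smul_smul, Units.inv_mul, one_smul]
  rw [this, hu', h3, smul_zero]

end deriv

end Groth.Agent.H9.NodeEt
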