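import Mathlib
import Groth.Agent.Lib.Helper9.Misc.NodeEtA
import Groth.Agent.Lib.Helper9.Misc.NodeEtB
import Groth.Agent.Lib.Helper9.Misc.NodeEtC

set_option autoImplicit false
set_option linter.style.haveILetI false
set_option linter.unusedSectionVars false
set_option linter.unusedVariables false

universe u

namespace Groth.Agent.H9.NodeEt

open MvPolynomial KaehlerDifferential

section part1
variable {V : Type u} [CommRing V] [IsDomain V] [IsDiscreteValuationRing V]
variable (ϖ : V) (hϖ : Irreducible ϖ) (h : QQ ϖ)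

theorem deltaB_xB (l : Fin 2) :
    deltaB ϖ h (xB ϖ h l) = xB ϖ h l ∨ deltaB ϖ h (xB ϖ h l) = - xB ϖ h l := by
  fin_cases l
  · exact Or.inl (deltaB_xB0 ϖ h)
  · exact Or.inr (deltaB_xB1 ϖ h)

theorem deltaB_mem (b : Localization.Away h) :
    deltaB ϖ h b ∈ Ideal.span {xB ϖ h 0, xB ϖ h 1} := by
  set m : Ideal (Localization.Away h) := Ideal.span {xB ϖ h 0, xB ϖ h 1} with hm
  let d : Derivation V (Localization.Away h) (Localization.Away h ⧸ m) :=
    (Submodule.mkQ m).compDer (deltaB ϖ h)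
  have h0 : d ((AlgHom.id V (Localization.Away h)) (xB ϖ h 0)) = 0 := by
    change Submodule.mkQ m (deltaB ϖ h (xB ϖ h 0)) = 0
    rw [deltaB_xB0, Submodule.mkQ_apply, Submodule.Quotient.mk_eq_zero]
    exact Ideal.subset_span (by simp)
  have h1 : d ((AlgHom.id V (Localization.Away h)) (xB ϖ h 1)) = 0 := by
    change Submodule.mkQ m (deltaB ϖ h (xB ϖ h 1)) = 0
    rw [deltaB_xB1, Submodule.mkQ_apply, Submodule.Quotient.mk_eq_zero]
    exact neg_mem (Ideal.subset_span (by simp))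
  have := der_eq_zero ϖ h (AlgHom.id V (Localization.Away h)) Function.surjective_id d h0 h1 b
  exact (Submodule.Quotient.mk_eq_zero m).1 this

theorem unif_eq : algebraMap V (Localization.Away h) ϖ = xB ϖ h 0 * xB ϖ h 1 := by
  rw [IsScalarTower.algebraMap_apply V (QQ ϖ) (Localization.Away h), ← map_mul]
  congr 1
  exact mk_C_unif ϖ 0 1 rfl

theorem exists_c (f : Localization.Away h)
    (hf : ((algebraMap (Localization.Away h)
        (Localization.Away (algebraMap V (Localization.Away h) ϖ))).comp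
          (Polynomial.aeval f : Polynomial V →ₐ[V] Localization.Away h).toRingHom).Etale) :
    ∃ (c : Localization.Away h) (N : ℕ),
      c * deltaB ϖ h f = xB ϖ h 0 ^ (N + 1) * xB ϖ h 1 ^ N := by
  obtain ⟨c, N, hc⟩ := exists_rel (V := V) (algebraMap V (Localization.Away h) ϖ) f hf
    (lamB ϖ h) (xB ϖ h 0)
  refine ⟨c, N, ?_⟩
  rw [← deltaB_apply, ← deltaB_apply, deltaB_xB0, unif_eq] at hc
  rw [← hc]; ring

variable (i j : Fin 2) (hij : i ≠ j) (hrel : (X i * X j : MvPolynomial (Fin 2) V) = X 0 * X 1)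
  (hh : h ∉ Ideal.span {xQ ϖ i, xQ ϖ j})

theorem deltaB_span (b : Localization.Away h) (hb : b ∈ Ideal.span {xB ϖ h i}) :
    deltaB ϖ h b ∈ Ideal.span {xB ϖ h i} := by
  obtain ⟨b', rfl⟩ := Ideal.mem_span_singleton.1 hb
  rw [Derivation.leibniz, smul_eq_mul, smul_eq_mul]
  refine Ideal.add_mem _ (Ideal.mul_mem_right _ _ (Ideal.subset_span rfl)) ?_
  rcases deltaB_xB ϖ h i with h1 | h1
  · rw [h1]; exact Ideal.mul_mem_left _ _ (Ideal.subset_span rfl)
  · rw [h1]; exact Ideal.mul_mem_left _ _ (neg_mem (Ideal.subset_span rfl))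

/-- the induced derivation on `B / x_i B`. -/
noncomputable def deltaC :
    Derivation V (Localization.Away h ⧸ Ideal.span {xB ϖ h i})
      (Localization.Away h ⧸ Ideal.span {xB ϖ h i}) :=
  Derivation.liftOfSurjective (f := Ideal.Quotient.mkₐ V (Ideal.span {xB ϖ h i}))
    (Ideal.Quotient.mkₐ_surjective V _) (d := deltaB ϖ h) (by
      intro b hb
      rw [Ideal.Quotient.mkₐ_eq_mk, Ideal.Quotient.eq_zero_iff_mem] at hb ⊢
      exact deltaB_span ϖ h i b hb)

theorem deltaC_mk (b : Localization.Away h) :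
    deltaC ϖ h i (Ideal.Quotient.mk _ b) = Ideal.Quotient.mk _ (deltaB ϖ h b) :=
  Derivation.liftOfSurjective_apply (f := Ideal.Quotient.mkₐ V (Ideal.span {xB ϖ h i}))
    (Ideal.Quotient.mkₐ_surjective V _) (d := deltaB ϖ h) (by
      intro b hb
      rw [Ideal.Quotient.mkₐ_eq_mk, Ideal.Quotient.eq_zero_iff_mem] at hb ⊢
      exact deltaB_span ϖ h i b hb) b

include hij in
theorem D_mem_span (c : Localization.Away h ⧸ Ideal.span {xB ϖ h i}) :
    D V (Localization.Away h ⧸ Ideal.span {xB ϖ h i}) c ∈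
      Submodule.span (Localization.Away h ⧸ Ideal.span {xB ϖ h i})
        {D V (Localization.Away h ⧸ Ideal.span {xB ϖ h i})
          (Ideal.Quotient.mk _ (xB ϖ h j))} := by
  let N : Submodule (Localization.Away h ⧸ Ideal.span {xB ϖ h i})
      (Ω[(Localization.Away h ⧸ Ideal.span {xB ϖ h i})⁄V]) :=
    Submodule.span (Localization.Away h ⧸ Ideal.span {xB ϖ h i})
      {D V (Localization.Away h ⧸ Ideal.span {xB ϖ h i}) (Ideal.Quotient.mk _ (xB ϖ h j))}
  let d : Derivation V (Localization.Away h ⧸ Ideal.span {xB ϖ h i})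
      (Ω[(Localization.Away h ⧸ Ideal.span {xB ϖ h i})⁄V] ⧸ N) :=
    (Submodule.mkQ N).compDer (D V (Localization.Away h ⧸ Ideal.span {xB ϖ h i}))
  have hl : ∀ l : Fin 2, d ((Ideal.Quotient.mkₐ V (Ideal.span {xB ϖ h i})) (xB ϖ h l)) = 0 := by
    intro l
    change Submodule.mkQ N (D V (Localization.Away h ⧸ Ideal.span {xB ϖ h i})
      (Ideal.Quotient.mk _ (xB ϖ h l))) = 0
    by_cases hli : l = i
    · subst hli
      have : (Ideal.Quotient.mk (Ideal.span {xB ϖ h l}) (xB ϖ h l)) = 0 :=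
        Ideal.Quotient.eq_zero_iff_mem.2 (Ideal.subset_span rfl)
      rw [this, map_zero, map_zero]
    · have hlj : l = j := by
        fin_cases i <;> fin_cases j <;> fin_cases l <;> simp_all
      subst hlj
      rw [Submodule.mkQ_apply, Submodule.Quotient.mk_eq_zero]
      exact Submodule.subset_span rfl
  have h3 := der_eq_zero ϖ h (Ideal.Quotient.mkₐ V (Ideal.span {xB ϖ h i}))
    (Ideal.Quotient.mkₐ_surjective V _) d (hl 0) (hl 1) c
  have h4 : Submodule.Quotient.mk (p := N)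
      (D V (Localization.Away h ⧸ Ideal.span {xB ϖ h i}) c) = 0 := h3
  exact (Submodule.Quotient.mk_eq_zero N).1 h4

include hϖ hij hrel hh in
theorem D_eq_zero_of_mem (f : Localization.Away h)
    (hw : deltaB ϖ h f ∈ Ideal.span {xB ϖ h i}) :
    D V (Localization.Away h ⧸ Ideal.span {xB ϖ h i}) (Ideal.Quotient.mk _ f) = 0 := by
  haveI := span_isPrime ϖ hϖ h i j hij hrel hh
  obtain ⟨g, hg⟩ := Submodule.mem_span_singleton.1 (D_mem_span ϖ h i j hij (Ideal.Quotient.mk _ f))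
  have h1 := congrArg (deltaC ϖ h i).liftKaehlerDifferential hg
  rw [map_smul, Derivation.liftKaehlerDifferential_comp_D,
    Derivation.liftKaehlerDifferential_comp_D, deltaC_mk, deltaC_mk, smul_eq_mul,
    Ideal.Quotient.eq_zero_iff_mem.2 hw] at h1
  have hy : (Ideal.Quotient.mk (Ideal.span {xB ϖ h i}) (xB ϖ h j)) ≠ 0 := by
    rw [Ne, Ideal.Quotient.eq_zero_iff_mem]
    exact xB_other_not_mem ϖ hϖ h i j hij hrel hh
  have hg0 : g = 0 := by
    rcases deltaB_xB ϖ h j with h2 | h2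
    · rw [h2] at h1
      exact (mul_eq_zero.1 h1).resolve_right hy
    · have h3 : g * (Ideal.Quotient.mk (Ideal.span {xB ϖ h i}) (xB ϖ h j)) =
          -(g * (Ideal.Quotient.mk (Ideal.span {xB ϖ h i}) (deltaB ϖ h (xB ϖ h j)))) := by
        rw [h2, map_neg]; ring
      rw [h1, neg_zero] at h3
      exact (mul_eq_zero.1 h3).resolve_right hy
  rw [← hg, hg0]
  exact zero_smul (Localization.Away h ⧸ Ideal.span {xB ϖ h i})
    (D V (Localization.Away h ⧸ Ideal.span {xB ϖ h i}) (Ideal.Quotient.mk _ (xB ϖ h j)))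

end part1


section main1
variable {V : Type u} [CommRing V] [IsDomain V] [IsDiscreteValuationRing V]
variable (ϖ : V) (hϖ : Irreducible ϖ) (h : QQ ϖ)

include hϖ in
theorem main1 (hh : h ∉ Ideal.span {xQ ϖ 0, xQ ϖ 1}) (f : Localization.Away h)
    (hf : ((algebraMap (Localization.Away h)
        (Localization.Away (algebraMap V (Localization.Away h) ϖ))).comp
          (Polynomial.aeval f : Polynomial V →ₐ[V] Localization.Away h).toRingHom).Etale) :
    D V (Localization.Away h ⧸ Ideal.span {xB ϖ h 0}) (Ideal.Quotient.mk _ f) = 0 ∨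
      D V (Localization.Away h ⧸ Ideal.span {xB ϖ h 1}) (Ideal.Quotient.mk _ f) = 0 := by
  have hh10 : h ∉ Ideal.span {xQ ϖ 1, xQ ϖ 0} := by rwa [Set.pair_comm]
  have hrel01 : (X 0 * X 1 : MvPolynomial (Fin 2) V) = X 0 * X 1 := rfl
  have hrel10 : (X 1 * X 0 : MvPolynomial (Fin 2) V) = X 0 * X 1 := mul_comm _ _
  have h01 : (0 : Fin 2) ≠ 1 := by decide
  have h10 : (1 : Fin 2) ≠ 0 := by decide
  by_contra hcon
  rw [not_or] at hcon
  obtain ⟨hc0, hc1⟩ := hcon
  have hw0 : deltaB ϖ h f ∉ Ideal.span {xB ϖ h 0} :=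
    fun hw => hc0 (D_eq_zero_of_mem ϖ hϖ h 0 1 h01 hrel01 hh f hw)
  have hw1 : deltaB ϖ h f ∉ Ideal.span {xB ϖ h 1} :=
    fun hw => hc1 (D_eq_zero_of_mem ϖ hϖ h 1 0 h10 hrel10 hh10 f hw)
  obtain ⟨c, N, hc⟩ := exists_c ϖ h f hf
  have hunit := elim (xB ϖ h 0) (xB ϖ h 1) (deltaB ϖ h f)
    (span_isPrime ϖ hϖ h 0 1 h01 hrel01 hh) (span_isPrime ϖ hϖ h 1 0 h10 hrel10 hh10)
    (xB_regular ϖ hϖ h 0 1 hrel01) (xB_regular ϖ hϖ h 1 0 hrel10) hw0 hw1 (N + 1) N c hc
  exact span_pair_ne_top ϖ hϖ h 0 1 h01 hrel01 hh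
    (Ideal.eq_top_of_isUnit_mem _ (deltaB_mem ϖ h f) hunit)

end main1

end Groth.Agent.H9.NodeEt
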