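import Mathlib
import Groth.Agent.Lib.Helper9.Misc.NodeEtA
import Groth.Agent.Lib.Helper9.Misc.NodeEtB
import Groth.Agent.Lib.Helper9.Misc.NodeEtC
import Groth.Agent.Lib.Helper9.Misc.NodeEtD

set_option autoImplicit false
set_option linter.style.haveILetI false
set_option linter.unusedSectionVars false
set_option linter.unusedVariables false

universe u

namespace Groth.Agent.H9.NodeEt

open MvPolynomial KaehlerDifferential

section part2
variable {V : Type u} [CommRing V] [IsDomain V] [IsDiscreteValuationRing V]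
variable (ϖ : V) (hϖ : Irreducible ϖ) (h : QQ ϖ)
variable (i j : Fin 2) (hij : i ≠ j) (hrel : (X i * X j : MvPolynomial (Fin 2) V) = X 0 * X 1)
  (hh : h ∉ Ideal.span {xQ ϖ i, xQ ϖ j})

noncomputable def PhiBar : (Localization.Away h ⧸ Ideal.span {xB ϖ h i}) →+*
    FractionRing (Polynomial (kk V)) :=
  Ideal.Quotient.lift _ (Phi ϖ hϖ h i j hij hrel hh) (fun b hb => by
    rw [span_eq_ker ϖ hϖ h i j hij hrel hh] at hb; exact hb)

theorem PhiBar_mk (b : Localization.Away h) :
    PhiBar ϖ hϖ h i j hij hrel hh (Ideal.Quotient.mk _ b) = Phi ϖ hϖ h i j hij hrel hh b := rfl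

theorem Phi_algebraMap (v : V) :
    Phi ϖ hϖ h i j hij hrel hh (algebraMap V (Localization.Away h) v) =
      algebraMap (Polynomial (kk V)) (FractionRing (Polynomial (kk V)))
        (Polynomial.C (IsLocalRing.residue V v)) := by
  rw [IsScalarTower.algebraMap_apply V (QQ ϖ) (Localization.Away h), Phi_alg, ev_algebraMap]

theorem PhiBar_aeval (P : Polynomial V) :
    PhiBar ϖ hϖ h i j hij hrel hh
      (Polynomial.aeval (Ideal.Quotient.mk (Ideal.span {xB ϖ h i}) (xB ϖ h j)) P) =
      algebraMap (Polynomial (kk V)) (FractionRing (Polynomial (kk V)))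
        (Polynomial.map (IsLocalRing.residue V) P) := by
  have key : (PhiBar ϖ hϖ h i j hij hrel hh).comp
      (Polynomial.aeval (R := V) (Ideal.Quotient.mk (Ideal.span {xB ϖ h i}) (xB ϖ h j))).toRingHom =
      (algebraMap (Polynomial (kk V)) (FractionRing (Polynomial (kk V)))).comp
        (Polynomial.mapRingHom (IsLocalRing.residue V)) := by
    apply Polynomial.ringHom_ext
    · intro a
      simp only [RingHom.comp_apply, AlgHom.toRingHom_eq_coe, RingHom.coe_coe, Polynomial.aeval_C,
        Polynomial.coe_mapRingHom, Polynomial.map_C]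
      have : algebraMap V (Localization.Away h ⧸ Ideal.span {xB ϖ h i}) a =
          Ideal.Quotient.mk _ (algebraMap V (Localization.Away h) a) := rfl
      rw [this, PhiBar_mk, Phi_algebraMap]
    · simp only [RingHom.comp_apply, AlgHom.toRingHom_eq_coe, RingHom.coe_coe, Polynomial.aeval_X,
        Polynomial.coe_mapRingHom, Polynomial.map_X]
      rw [PhiBar_mk, Phi_xB_other]
  exact RingHom.congr_fun key P

include hij in
theorem mk_alg_mk (p : MvPolynomial (Fin 2) V) :
    (Ideal.Quotient.mk (Ideal.span {xB ϖ h i})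
      (algebraMap (QQ ϖ) (Localization.Away h) (Ideal.Quotient.mk (relI ϖ) p))) =
      Polynomial.aeval (Ideal.Quotient.mk (Ideal.span {xB ϖ h i}) (xB ϖ h j)) (ev1 i p) := by
  let Γ : MvPolynomial (Fin 2) V →ₐ[V] (Localization.Away h ⧸ Ideal.span {xB ϖ h i}) :=
    (Ideal.Quotient.mkₐ V (Ideal.span {xB ϖ h i})).comp
      ((IsScalarTower.toAlgHom V (QQ ϖ) (Localization.Away h)).comp
        (Ideal.Quotient.mkₐ V (relI ϖ)))
  have hΓ : ∀ p, Γ p = Ideal.Quotient.mk (Ideal.span {xB ϖ h i})
      (algebraMap (QQ ϖ) (Localization.Away h) (Ideal.Quotient.mk (relI ϖ) p)) := fun p => rfl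
  obtain ⟨t, ht⟩ := Ideal.mem_span_singleton.1 (sub_iota_mem i j hij p)
  have h1 : Γ p - Γ (Polynomial.aeval (X j : MvPolynomial (Fin 2) V) (ev1 i p)) = Γ (X i) * Γ t := by
    rw [← map_sub, ht, map_mul]
  have h2 : Γ (X i) = 0 := by
    rw [hΓ]; exact Ideal.Quotient.eq_zero_iff_mem.2 (Ideal.subset_span rfl)
  rw [h2, zero_mul, sub_eq_zero] at h1
  rw [← hΓ, h1, ← Polynomial.aeval_algHom_apply]
  rfl

include hϖ hij hrel hh in
theorem exists_const [CharZero (kk V)] (f : Localization.Away h)
    (hD : D V (Localization.Away h ⧸ Ideal.span {xB ϖ h i}) (Ideal.Quotient.mk _ f) = 0) :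
    ∃ c : V, f - algebraMap V (Localization.Away h) c ∈ Ideal.span {xB ϖ h i} := by
  haveI := span_isPrime ϖ hϖ h i j hij hrel hh
  obtain ⟨g, s, rfl⟩ := IsLocalization.exists_mk'_eq (Submonoid.powers h) f
  obtain ⟨n, hn⟩ := s.2
  have hn' : h ^ n = (s : QQ ϖ) := hn
  obtain ⟨gp, rfl⟩ := Ideal.Quotient.mk_surjective g
  obtain ⟨hp, hhp⟩ := Ideal.Quotient.mk_surjective h
  set y' : Localization.Away h ⧸ Ideal.span {xB ϖ h i} :=
    Ideal.Quotient.mk (Ideal.span {xB ϖ h i}) (xB ϖ h j) with hy'
  set Gt := ev1 i gp with hGt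
  set Ht := ev1 i hp with hHt
  set u : Localization.Away h ⧸ Ideal.span {xB ϖ h i} := Polynomial.aeval y' Ht with hu
  set fb : Localization.Away h ⧸ Ideal.span {xB ϖ h i} := Ideal.Quotient.mk _
    (IsLocalization.mk' (Localization.Away h) (Ideal.Quotient.mk (relI ϖ) gp) s) with hfb
  have hu' : (Ideal.Quotient.mk (Ideal.span {xB ϖ h i})
      (algebraMap (QQ ϖ) (Localization.Away h) h)) = u := by
    have h3 := mk_alg_mk ϖ h i j hij hp
    rw [hhp] at h3
    exact h3
  have E1 : fb * u ^ n = Polynomial.aeval y' Gt := by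
    rw [← hu', ← map_pow, ← map_pow, hn', hfb, ← map_mul, IsLocalization.mk'_spec,
      mk_alg_mk ϖ h i j hij gp]
  -- differentiate
  have E1d := congrArg (D V (Localization.Away h ⧸ Ideal.span {xB ϖ h i})) E1
  rw [Derivation.leibniz, hD, smul_zero, add_zero, Derivation.leibniz_pow, hu,
    Derivation.map_aeval, Derivation.map_aeval] at E1d
  have E2 := congrArg (deltaC ϖ h i).liftKaehlerDifferential E1d
  simp only [map_smul, map_nsmul, Derivation.liftKaehlerDifferential_comp_D, smul_eq_mul,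
    nsmul_eq_mul] at E2
  set e := deltaC ϖ h i y' with he
  have hy0 : y' ≠ 0 := by
    rw [hy', Ne, Ideal.Quotient.eq_zero_iff_mem]
    exact xB_other_not_mem ϖ hϖ h i j hij hrel hh
  have he0 : e ≠ 0 := by
    rw [he, hy', deltaC_mk]
    rcases deltaB_xB ϖ h j with h2 | h2
    · rw [h2]; exact hy0
    · rw [h2, map_neg, neg_ne_zero]; exact hy0
  have E3 : fb * ((n : Localization.Away h ⧸ Ideal.span {xB ϖ h i}) *
      (Polynomial.aeval y' Ht ^ (n - 1) * Polynomial.aeval y' (Polynomial.derivative Ht))) =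
      Polynomial.aeval y' (Polynomial.derivative Gt) := by
    have : (fb * ((n : Localization.Away h ⧸ Ideal.span {xB ϖ h i}) *
      (Polynomial.aeval y' Ht ^ (n - 1) * Polynomial.aeval y' (Polynomial.derivative Ht))) -
      Polynomial.aeval y' (Polynomial.derivative Gt)) * e = 0 := by
      linear_combination E2
    exact sub_eq_zero.1 ((mul_eq_zero.1 this).resolve_right he0)
  have E4 : (n : Localization.Away h ⧸ Ideal.span {xB ϖ h i}) * Polynomial.aeval y' Gt *
      Polynomial.aeval y' (Polynomial.derivative Ht) =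
      Polynomial.aeval y' (Polynomial.derivative Gt) * Polynomial.aeval y' Ht := by
    rw [← hu] at E3 ⊢
    rcases Nat.eq_zero_or_pos n with hn0 | hn0
    · subst hn0
      simp only [Nat.cast_zero, zero_mul, mul_zero] at E3 ⊢
      rw [← E3, zero_mul]
    · obtain ⟨m, rfl⟩ : ∃ m, n = m + 1 := ⟨n - 1, by omega⟩
      simp only [Nat.add_sub_cancel] at E3
      linear_combination (-(((m + 1 : ℕ) : Localization.Away h ⧸ Ideal.span {xB ϖ h i}) *
        Polynomial.aeval y' (Polynomial.derivative Ht))) * E1 + u * E3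
  have E5 : Polynomial.aeval y' ((n : Polynomial V) * Gt * Polynomial.derivative Ht -
      Polynomial.derivative Gt * Ht) = 0 := by
    rw [map_sub, map_mul, map_mul, map_mul, map_natCast, E4, sub_self]
  have E6 := congrArg (PhiBar ϖ hϖ h i j hij hrel hh) E5
  rw [hy', PhiBar_aeval, map_zero] at E6
  have E7 : Polynomial.map (IsLocalRing.residue V) ((n : Polynomial V) * Gt *
      Polynomial.derivative Ht - Polynomial.derivative Gt * Ht) = 0 :=
    (map_eq_zero_iff _ (IsFractionRing.injective _ _)).1 E6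
  set G := Polynomial.map (IsLocalRing.residue V) Gt with hG
  set H := Polynomial.map (IsLocalRing.residue V) Ht with hH
  have hGev : ev ϖ hϖ i j hrel (Ideal.Quotient.mk _ gp) = G := rfl
  have hHev : ev ϖ hϖ i j hrel h = H := by
    have h3 : ev ϖ hϖ i j hrel (Ideal.Quotient.mk _ hp) = H := rfl
    rw [hhp] at h3
    exact h3
  have hH0 : H ≠ 0 := by rw [← hHev]; exact ev_h_ne_zero ϖ hϖ h i j hij hrel hh
  have hode : (n : Polynomial (kk V)) * G * Polynomial.derivative H =
      Polynomial.derivative G * H := by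
    rw [Polynomial.map_sub, Polynomial.map_mul, Polynomial.map_mul, Polynomial.map_mul,
      Polynomial.map_natCast, ← Polynomial.derivative_map, ← Polynomial.derivative_map,
      sub_eq_zero] at E7
    exact E7
  obtain ⟨cb, hcb⟩ := poly_const n H hH0 (G.natDegree + 1) G (Nat.lt_succ_self _) hode
  obtain ⟨c, rfl⟩ := IsLocalRing.residue_surjective cb
  refine ⟨c, ?_⟩
  apply ker_Phi ϖ hϖ h i j hij hrel hh
  rw [map_sub, sub_eq_zero, Phi_algebraMap]
  have hspec : Phi ϖ hϖ h i j hij hrel hh
      (IsLocalization.mk' (Localization.Away h) (Ideal.Quotient.mk (relI ϖ) gp) s) *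
      Phi ϖ hϖ h i j hij hrel hh (algebraMap (QQ ϖ) (Localization.Away h) s) =
      Phi ϖ hϖ h i j hij hrel hh (algebraMap (QQ ϖ) (Localization.Away h)
        (Ideal.Quotient.mk (relI ϖ) gp)) := by
    rw [← map_mul, IsLocalization.mk'_spec]
  rw [Phi_alg, Phi_alg, hGev, ← hn', map_pow, hHev, hcb, map_mul, map_pow] at hspec
  have hHF : (algebraMap (Polynomial (kk V)) (FractionRing (Polynomial (kk V))) H) ^ n ≠ 0 :=
    pow_ne_zero n ((map_ne_zero_iff _ (IsFractionRing.injective _ _)).2 hH0)
  exact mul_right_cancel₀ hHF hspec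

end part2


section part3
variable {V : Type u} [CommRing V] [IsDomain V] [IsDiscreteValuationRing V]
variable (ϖ : V) (hϖ : Irreducible ϖ) (h : QQ ϖ)
variable (i j : Fin 2) (hij : i ≠ j) (hrel : (X i * X j : MvPolynomial (Fin 2) V) = X 0 * X 1)
  (hh : h ∉ Ideal.span {xQ ϖ i, xQ ϖ j})

include hrel in
theorem unif_mem : algebraMap V (Localization.Away h) ϖ ∈ Ideal.span {xB ϖ h i} := by
  have : algebraMap V (Localization.Away h) ϖ = xB ϖ h i * xB ϖ h j := by
    rw [IsScalarTower.algebraMap_apply V (QQ ϖ) (Localization.Away h), ← map_mul]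
    congr 1
    exact mk_C_unif ϖ i j hrel
  rw [this]
  exact Ideal.mul_mem_right _ _ (Ideal.subset_span rfl)

include hϖ hij hrel hh in
theorem not_quasiFinite (f : Localization.Away h) (c : V)
    (hfc : f - algebraMap V (Localization.Away h) c ∈ Ideal.span {xB ϖ h i}) :
    ¬ (Polynomial.aeval f : Polynomial V →ₐ[V] Localization.Away h).toRingHom.QuasiFinite := by
  intro hqf
  letI : Algebra (Polynomial V) (Localization.Away h) :=
    (Polynomial.aeval f : Polynomial V →ₐ[V] Localization.Away h).toRingHom.toAlgebra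
  haveI : Algebra.QuasiFinite (Polynomial V) (Localization.Away h) := hqf
  haveI hP := span_isPrime ϖ hϖ h i j hij hrel hh
  haveI hQ : (RingHom.ker (Psi ϖ hϖ h i j hij hrel hh)).IsPrime := RingHom.ker_isPrime _
  have hle : Ideal.span {xB ϖ h i} ≤ RingHom.ker (Psi ϖ hϖ h i j hij hrel hh) := by
    rw [Ideal.span_le, Set.singleton_subset_iff]
    exact Psi_xB_self ϖ hϖ h i j hij hrel hh
  have hunder : (Ideal.span {xB ϖ h i}).under (Polynomial V) =
      (RingHom.ker (Psi ϖ hϖ h i j hij hrel hh)).under (Polynomial V) := by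
    apply le_antisymm (Ideal.comap_mono hle)
    intro g hg
    rw [Ideal.mem_comap] at hg ⊢
    have halg : algebraMap (Polynomial V) (Localization.Away h) g = Polynomial.aeval f g := rfl
    rw [halg] at hg ⊢
    have h1 : Polynomial.aeval f g - algebraMap V (Localization.Away h) (g.eval c) ∈
        Ideal.span {xB ϖ h i} := by
      have h2 := Polynomial.sub_dvd_eval_sub f (algebraMap V (Localization.Away h) c)
        (g.map (algebraMap V (Localization.Away h)))
      rw [Polynomial.eval_map, Polynomial.eval_map, Polynomial.eval₂_at_apply,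
        ← Polynomial.aeval_def] at h2
      obtain ⟨r, hr⟩ := h2
      rw [hr]
      exact Ideal.mul_mem_right _ _ hfc
    have h3 : IsLocalRing.residue V (g.eval c) = 0 := by
      have h4 : Psi ϖ hϖ h i j hij hrel hh
          (Polynomial.aeval f g - algebraMap V (Localization.Away h) (g.eval c)) = 0 := hle h1
      rw [map_sub, (RingHom.mem_ker.1 hg), zero_sub, neg_eq_zero, Psi_algebraMap] at h4
      exact h4
    rw [IsLocalRing.residue_eq_zero_iff, hϖ.maximalIdeal_eq, Ideal.mem_span_singleton] at h3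
    obtain ⟨v', hv'⟩ := h3
    have h5 : algebraMap V (Localization.Away h) (g.eval c) ∈ Ideal.span {xB ϖ h i} := by
      rw [hv', map_mul]
      exact Ideal.mul_mem_right _ _ (unif_mem ϖ h i j hrel)
    have h6 := Ideal.add_mem _ h1 h5
    rwa [sub_add_cancel] at h6
  have heq := Algebra.QuasiFinite.eq_of_le_of_under_eq (R := Polynomial V) _ _ hle hunder
  have hj : xB ϖ h j ∈ RingHom.ker (Psi ϖ hϖ h i j hij hrel hh) :=
    Psi_xB_other ϖ hϖ h i j hij hrel hh
  rw [← heq] at hj
  exact xB_other_not_mem ϖ hϖ h i j hij hrel hh hj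

end part3

section final
variable {V : Type u} [CommRing V] [IsDomain V] [IsDiscreteValuationRing V]
variable (ϖ : V) (hϖ : Irreducible ϖ) (h : QQ ϖ)

include hϖ in
theorem main2 [CharZero (kk V)] (hh : h ∉ Ideal.span {xQ ϖ 0, xQ ϖ 1}) (f : Localization.Away h)
    (hf : ((algebraMap (Localization.Away h)
        (Localization.Away (algebraMap V (Localization.Away h) ϖ))).comp
          (Polynomial.aeval f : Polynomial V →ₐ[V] Localization.Away h).toRingHom).Etale) :
    ¬ (Polynomial.aeval f : Polynomial V →ₐ[V] Localization.Away h).toRingHom.QuasiFinite := by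
  have hh10 : h ∉ Ideal.span {xQ ϖ 1, xQ ϖ 0} := by rwa [Set.pair_comm]
  have hrel01 : (X 0 * X 1 : MvPolynomial (Fin 2) V) = X 0 * X 1 := rfl
  have hrel10 : (X 1 * X 0 : MvPolynomial (Fin 2) V) = X 0 * X 1 := mul_comm _ _
  have h01 : (0 : Fin 2) ≠ 1 := by decide
  have h10 : (1 : Fin 2) ≠ 0 := by decide
  rcases main1 ϖ hϖ h hh f hf with h0 | h1
  · obtain ⟨c, hc⟩ := exists_const ϖ hϖ h 0 1 h01 hrel01 hh f h0
    exact not_quasiFinite ϖ hϖ h 0 1 h01 hrel01 hh f c hc
  · obtain ⟨c, hc⟩ := exists_const ϖ hϖ h 1 0 h10 hrel10 hh10 f h1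
    exact not_quasiFinite ϖ hϖ h 1 0 h10 hrel10 hh10 f c hc

end final

end Groth.Agent.H9.NodeEt
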