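import Mathlib
import Groth.Prelude.Def_W4c5spincurvestfNode

set_option autoImplicit false
set_option linter.style.haveILetI false
set_option linter.unusedSectionVars false
set_option linter.unusedVariables false

universe u
open MvPowerSeries

namespace Groth.Agent.H9.NodeFinrank

variable (k : Type u) [Field k] (u v : ℕ)

/-- index type -/
abbrev T := Fin u ⊕ Fin (v - 1)

/-- monomial exponents -/
noncomputable def mu : T u v → (Fin 2 →₀ ℕ)
  | Sum.inl i => Finsupp.single 0 (i : ℕ)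
  | Sum.inr j => Finsupp.single 1 ((j : ℕ) + 1)

theorem mu_injective : Function.Injective (mu u v) := by
  rintro (i | j) (i' | j') h
  · have h0 := DFunLike.congr_fun h 0
    simp [mu] at h0
    exact congrArg Sum.inl (Fin.ext h0)
  · have h1 := DFunLike.congr_fun h 1
    simp [mu] at h1
  · have h1 := DFunLike.congr_fun h 1
    simp [mu] at h1
  · have h1 := DFunLike.congr_fun h 1
    simp [mu] at h1
    exact congrArg Sum.inr (Fin.ext h1)

noncomputable def Psi : MvPowerSeries (Fin 2) k →ₗ[k] (T u v → k) :=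
  LinearMap.pi (fun τ => MvPowerSeries.coeff (R := k) (mu u v τ))

theorem Psi_apply (f : MvPowerSeries (Fin 2) k) (τ : T u v) :
    Psi k u v f τ = MvPowerSeries.coeff (mu u v τ) f := rfl

theorem Psi_surjective : Function.Surjective (Psi k u v) := by
  intro c
  refine ⟨∑ τ : T u v, MvPowerSeries.monomial (mu u v τ) (c τ), ?_⟩
  funext τ'
  rw [Psi_apply, map_sum, Finset.sum_eq_single τ']
  · rw [coeff_monomial_same]
  · intro τ _ hne
    rw [coeff_monomial_ne]
    exact fun h => hne ((mu_injective u v h).symm)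
  · intro h; exact absurd (Finset.mem_univ _) h

theorem Psi_eq_zero_of_inJ (hu : 1 ≤ u) (hv : 1 ≤ v) (a b c : MvPowerSeries (Fin 2) k) :
    Psi k u v (c * (X 0 * X 1) + a * X 0 ^ u + b * X 1 ^ v) = 0 := by
  funext τ
  rw [Psi_apply, map_add, map_add]
  rcases τ with i | j
  · have h1 : coeff (mu u v (Sum.inl i)) (c * (X 0 * X 1)) = 0 :=
      (X_pow_dvd_iff.mp (show (X 1 : MvPowerSeries (Fin 2) k) ^ 1 ∣ c * (X 0 * X 1) from
        ⟨c * X 0, by ring⟩)) _ (by simp [mu])
    have h2 : coeff (mu u v (Sum.inl i)) (a * X 0 ^ u) = 0 :=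
      (X_pow_dvd_iff.mp (show (X 0 : MvPowerSeries (Fin 2) k) ^ u ∣ a * X 0 ^ u from
        ⟨a, by ring⟩)) _ (by simp [mu])
    have h3 : coeff (mu u v (Sum.inl i)) (b * X 1 ^ v) = 0 :=
      (X_pow_dvd_iff.mp (show (X 1 : MvPowerSeries (Fin 2) k) ^ v ∣ b * X 1 ^ v from
        ⟨b, by ring⟩)) _ (by simp [mu]; try omega)
    rw [h1, h2, h3]; simp
  · have hj := j.isLt
    have h1 : coeff (mu u v (Sum.inr j)) (c * (X 0 * X 1)) = 0 :=
      (X_pow_dvd_iff.mp (show (X 0 : MvPowerSeries (Fin 2) k) ^ 1 ∣ c * (X 0 * X 1) from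
        ⟨c * X 1, by ring⟩)) _ (by simp [mu])
    have h2 : coeff (mu u v (Sum.inr j)) (a * X 0 ^ u) = 0 :=
      (X_pow_dvd_iff.mp (show (X 0 : MvPowerSeries (Fin 2) k) ^ u ∣ a * X 0 ^ u from
        ⟨a, by ring⟩)) _ (by simp [mu]; try omega)
    have h3 : coeff (mu u v (Sum.inr j)) (b * X 1 ^ v) = 0 :=
      (X_pow_dvd_iff.mp (show (X 1 : MvPowerSeries (Fin 2) k) ^ v ∣ b * X 1 ^ v from
        ⟨b, by ring⟩)) _ (by simp [mu]; try omega)
    rw [h1, h2, h3]; simp

/-- a power series from its coefficient function -/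
def ofFun (F : (Fin 2 →₀ ℕ) → k) : MvPowerSeries (Fin 2) k := F

theorem coeff_ofFun (F : (Fin 2 →₀ ℕ) → k) (m : Fin 2 →₀ ℕ) : coeff m (ofFun k F) = F m := rfl

/-- shifting coefficients -/
theorem coeff_mono_mul_shift (n m : Fin 2 →₀ ℕ) (f : MvPowerSeries (Fin 2) k) :
    coeff m (monomial n (1 : k) * ofFun k (fun m' => coeff (m' + n) f)) =
      if n ≤ m then coeff m f else 0 := by
  rw [coeff_monomial_mul]
  split_ifs with h
  · rw [one_mul]
    show coeff (m - n + n) f = _
    rw [tsub_add_cancel_of_le h]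
  · rfl

theorem coeff_mono_mul_shift' (s s' : Fin 2) (hss' : s ≠ s') (n : ℕ) (m : Fin 2 →₀ ℕ)
    (f : MvPowerSeries (Fin 2) k) :
    coeff m (monomial (Finsupp.single s n) (1 : k) *
      ofFun k (fun m' => if m' s' = 0 then coeff (m' + Finsupp.single s n) f else 0)) =
      if n ≤ m s ∧ m s' = 0 then coeff m f else 0 := by
  rw [coeff_monomial_mul]
  by_cases h : Finsupp.single s n ≤ m
  · rw [if_pos h, one_mul]
    have h' : n ≤ m s := Finsupp.single_le_iff.mp h
    show (if (m - Finsupp.single s n) s' = 0 then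
      coeff (m - Finsupp.single s n + Finsupp.single s n) f else 0) = _
    rw [tsub_add_cancel_of_le h]
    have e : (m - Finsupp.single s n) s' = m s' := by
      rw [Finsupp.tsub_apply, Finsupp.single_apply, if_neg hss', Nat.sub_zero]
    rw [e]
    by_cases h2 : m s' = 0
    · rw [if_pos h2, if_pos ⟨h', h2⟩]
    · rw [if_neg h2, if_neg (fun hh => h2 hh.2)]
  · rw [if_neg h, if_neg]
    intro hh
    exact h (Finsupp.single_le_iff.mpr hh.1)

theorem inJ_of_Psi_eq_zero (hu : 1 ≤ u) (hv : 1 ≤ v) (f : MvPowerSeries (Fin 2) k)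
    (hf : Psi k u v f = 0) :
    ∃ a b c : MvPowerSeries (Fin 2) k, f = c * (X 0 * X 1) + a * X 0 ^ u + b * X 1 ^ v := by
  refine ⟨ofFun k (fun m' => if m' 1 = 0 then coeff (m' + Finsupp.single 0 u) f else 0),
      ofFun k (fun m' => if m' 0 = 0 then coeff (m' + Finsupp.single 1 v) f else 0),
      ofFun k (fun m' => coeff (m' + (Finsupp.single 0 1 + Finsupp.single 1 1)) f), ?_⟩
  have hX : (X 0 * X 1 : MvPowerSeries (Fin 2) k) =
      monomial (Finsupp.single 0 1 + Finsupp.single 1 1) 1 := by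
    rw [X_def, X_def, monomial_mul_monomial, one_mul]
  ext m
  rw [map_add, map_add, mul_comm _ (X 0 * X 1), mul_comm _ (X 0 ^ u), mul_comm _ (X 1 ^ v), hX,
    X_pow_eq, X_pow_eq, coeff_mono_mul_shift, coeff_mono_mul_shift' k 0 1 (by decide),
    coeff_mono_mul_shift' k 1 0 (by decide)]
  have he11 : (Finsupp.single 0 1 + Finsupp.single 1 1 : Fin 2 →₀ ℕ) ≤ m ↔
      (1 ≤ m 0 ∧ 1 ≤ m 1) := by
    rw [Finsupp.le_def]
    constructor
    · intro h
      have h0 := h 0
      have h1 := h 1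
      simp at h0 h1
      exact ⟨h0, h1⟩
    · rintro ⟨h0, h1⟩ i
      fin_cases i
      · simpa using h0
      · simpa using h1
  by_cases h1 : m 1 = 0
  · have hn : ¬ ((Finsupp.single 0 1 + Finsupp.single 1 1 : Fin 2 →₀ ℕ) ≤ m) := by
      rw [he11]; omega
    rw [if_neg hn, if_neg (by omega : ¬ (v ≤ m 1 ∧ m 0 = 0)), zero_add, add_zero]
    by_cases h2 : u ≤ m 0
    · rw [if_pos ⟨h2, h1⟩]
    · rw [if_neg (fun hh => h2 hh.1)]
      have hm : m = mu u v (Sum.inl ⟨m 0, by omega⟩) := by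
        ext i
        fin_cases i
        · simp [mu]
        · simp [mu, h1]
      have := congrFun hf (Sum.inl ⟨m 0, by omega⟩)
      rw [Psi_apply, ← hm] at this
      exact this
  · by_cases h0 : m 0 = 0
    · have hn : ¬ ((Finsupp.single 0 1 + Finsupp.single 1 1 : Fin 2 →₀ ℕ) ≤ m) := by
        rw [he11]; omega
      rw [if_neg hn, if_neg (by omega : ¬ (u ≤ m 0 ∧ m 1 = 0)), zero_add, zero_add]
      by_cases h3 : v ≤ m 1
      · rw [if_pos ⟨h3, h0⟩]
      · rw [if_neg (fun hh => h3 hh.1)]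
        have hm : m = mu u v (Sum.inr ⟨m 1 - 1, by omega⟩) := by
          ext i
          fin_cases i
          · simp [mu, h0]
          · simp [mu]; omega
        have := congrFun hf (Sum.inr ⟨m 1 - 1, by omega⟩)
        rw [Psi_apply, ← hm] at this
        exact this
    · have hp : ((Finsupp.single 0 1 + Finsupp.single 1 1 : Fin 2 →₀ ℕ) ≤ m) := by
        rw [he11]; omega
      rw [if_pos hp, if_neg (fun hh => h1 hh.2), if_neg (fun hh => h0 hh.2), add_zero, add_zero]

section Assemble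
variable (w : k)

open SpinCurv

/-- the ideal -/
noncomputable abbrev I' : Ideal (NodeRing k 0) :=
  Ideal.span {NodeRing.x k 0 ^ u, algebraMap k (NodeRing k 0) w * NodeRing.y k 0 ^ v}

noncomputable abbrev I0 : Ideal (MvPowerSeries (Fin 2) k) :=
  Ideal.span {(MvPowerSeries.X 0 * MvPowerSeries.X 1 - MvPowerSeries.C (0 : k) :
    MvPowerSeries (Fin 2) k)}

noncomputable def piA : MvPowerSeries (Fin 2) k →ₐ[k] (NodeRing k 0 ⧸ I' k u v w) :=
  (Ideal.Quotient.mkₐ k (I' k u v w)).comp (Ideal.Quotient.mkₐ k (I0 k))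

theorem ker_eq (hu : 1 ≤ u) (hv : 1 ≤ v) (hw : w ≠ 0) :
    LinearMap.ker (piA k u v w).toLinearMap = LinearMap.ker (Psi k u v) := by
  ext f
  rw [LinearMap.mem_ker, LinearMap.mem_ker]
  constructor
  · intro h
    have h1 : Ideal.Quotient.mk (I0 k) f ∈ I' k u v w := Ideal.Quotient.eq_zero_iff_mem.mp h
    obtain ⟨a, b, hab⟩ := Ideal.mem_span_pair.mp h1
    obtain ⟨a', rfl⟩ := Ideal.Quotient.mk_surjective a
    obtain ⟨b', rfl⟩ := Ideal.Quotient.mk_surjective b
    have hw' : algebraMap k (NodeRing k 0) w = Ideal.Quotient.mk (I0 k) (C w) := rfl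
    have h2 : Ideal.Quotient.mk (I0 k) (a' * X 0 ^ u + b' * (C w * X 1 ^ v)) =
        Ideal.Quotient.mk (I0 k) f := by
      rw [← hab, map_add, map_mul, map_mul, map_mul, map_pow, map_pow, hw']
    rw [Ideal.Quotient.eq, Ideal.mem_span_singleton'] at h2
    obtain ⟨c, hc⟩ := h2
    rw [map_zero, sub_zero] at hc
    have hf : f = (-c) * (X 0 * X 1) + a' * X 0 ^ u + (b' * C w) * X 1 ^ v := by
      linear_combination hc
    rw [hf]; exact Psi_eq_zero_of_inJ k u v hu hv _ _ _
  · intro h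
    obtain ⟨a, b, c, rfl⟩ := inJ_of_Psi_eq_zero k u v hu hv f h
    have hπ1 : piA k u v w (X 0 * X 1) = 0 := by
      have h0 : Ideal.Quotient.mk (I0 k) (X 0 * X 1) = 0 := by
        refine Ideal.Quotient.eq_zero_iff_mem.mpr ?_
        have h00 : (X 0 * X 1 - C (0 : k) : MvPowerSeries (Fin 2) k) ∈ I0 k :=
          Ideal.subset_span (Set.mem_singleton _)
        rwa [map_zero, sub_zero] at h00
      show Ideal.Quotient.mk (I' k u v w) (Ideal.Quotient.mk (I0 k) (X 0 * X 1)) = 0
      rw [h0]; exact map_zero _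
    have hπ2 : piA k u v w (X 0 ^ u) = 0 := by
      show Ideal.Quotient.mk (I' k u v w) (Ideal.Quotient.mk (I0 k) (X 0 ^ u)) = 0
      rw [map_pow]
      exact Ideal.Quotient.eq_zero_iff_mem.mpr (Ideal.subset_span (Set.mem_insert _ _))
    have hπ3 : piA k u v w (X 1 ^ v) = 0 := by
      show Ideal.Quotient.mk (I' k u v w) (Ideal.Quotient.mk (I0 k) (X 1 ^ v)) = 0
      rw [map_pow]
      refine Ideal.Quotient.eq_zero_iff_mem.mpr ?_
      have e : NodeRing.y k 0 ^ v = algebraMap k (NodeRing k 0) w⁻¹ *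
          (algebraMap k (NodeRing k 0) w * NodeRing.y k 0 ^ v) := by
        rw [← mul_assoc, ← map_mul, inv_mul_cancel₀ hw, map_one, one_mul]
      show NodeRing.y k 0 ^ v ∈ _
      rw [e]
      exact Ideal.mul_mem_left _ _
        (Ideal.subset_span (Set.mem_insert_of_mem _ (Set.mem_singleton _)))
    show piA k u v w (c * (X 0 * X 1) + a * X 0 ^ u + b * X 1 ^ v) = 0
    rw [map_add, map_add, map_mul (piA k u v w) c (X 0 * X 1), map_mul (piA k u v w) a (X 0 ^ u),
      map_mul (piA k u v w) b (X 1 ^ v)]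
    linear_combination (piA k u v w c) * hπ1 + (piA k u v w a) * hπ2 + (piA k u v w b) * hπ3

theorem main (hu : 1 ≤ u) (hv : 1 ≤ v) (hw : w ≠ 0) :
    Module.finrank k (SpinCurv.NodeRing k 0 ⧸
      Ideal.span {SpinCurv.NodeRing.x k 0 ^ u,
        algebraMap k (SpinCurv.NodeRing k 0) w * SpinCurv.NodeRing.y k 0 ^ v}) =
      u + v - 1 := by
  have hsurj : Function.Surjective (piA k u v w).toLinearMap :=
    (Ideal.Quotient.mkₐ_surjective k _).comp (Ideal.Quotient.mkₐ_surjective k _)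
  have e1 := ((piA k u v w).toLinearMap.quotKerEquivOfSurjective hsurj)
  have e2 := (Psi k u v).quotKerEquivOfSurjective (Psi_surjective k u v)
  have e3 := Submodule.quotEquivOfEq _ _ (ker_eq k u v w hu hv hw)
  have h := (e1.symm.trans (e3.trans e2)).finrank_eq
  rw [h, Module.finrank_fintype_fun_eq_card, Fintype.card_sum, Fintype.card_fin, Fintype.card_fin]
  omega

end Assemble

end Groth.Agent.H9.NodeFinrank
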