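import Mathlib
import Groth.Prelude.Def_W4c5spincurvestfNode

/-!
# The power series node `R[[x,y]]/(xy - pq)`: matrix factorisation and normal forms
-/

set_option autoImplicit false
set_option linter.unusedSectionVars false
set_option linter.unusedVariables false

namespace Groth.Agent.H9.NodePS

open MvPowerSeries

variable {R : Type*} [CommRing R]

noncomputable def ee : Fin 2 →₀ ℕ := Finsupp.single 0 1 + Finsupp.single 1 1

theorem ee_zero : ee 0 = 1 := by simp [ee]

theorem ee_one : ee 1 = 1 := by simp [ee]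

noncomputable def ff (π : R) : MvPowerSeries (Fin 2) R := X 0 * X 1 - C π

theorem XX_eq : (X 0 * X 1 : MvPowerSeries (Fin 2) R) = monomial ee 1 := by
  rw [X_def, X_def, monomial_mul_monomial, one_mul]
  rfl

theorem coeff_ff_mul (π : R) (E : MvPowerSeries (Fin 2) R) (n : Fin 2 →₀ ℕ) :
    coeff (ee + n) (ff π * E) = coeff n E - π * coeff (ee + n) E := by
  rw [ff, sub_mul, map_sub, XX_eq, coeff_add_monomial_mul, one_mul, coeff_C_mul]

theorem E_eq_zero [IsNoetherianRing R] [IsLocalRing R] (π : R)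
    (hπ : π ∈ IsLocalRing.maximalIdeal R) (E : MvPowerSeries (Fin 2) R)
    (h : ∀ n, coeff (ee + n) (ff π * E) = 0) : E = 0 := by
  have h1 : ∀ n, coeff n E = π * coeff (ee + n) E := by
    intro n
    have := h n
    rw [coeff_ff_mul, sub_eq_zero] at this
    exact this
  have h2 : ∀ k : ℕ, ∀ n, coeff n E ∈ IsLocalRing.maximalIdeal R ^ k := by
    intro k
    induction k with
    | zero =>
      intro n
      rw [pow_zero, Ideal.one_eq_top]
      exact Submodule.mem_top
    | succ k ih =>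
      intro n
      rw [h1 n, pow_succ']
      exact Ideal.mul_mem_mul hπ (ih _)
  ext n
  have h3 : coeff n E ∈ (⨅ k : ℕ, IsLocalRing.maximalIdeal R ^ k) := by
    rw [Submodule.mem_iInf]
    exact fun k => h2 k n
  rw [Ideal.iInf_pow_eq_bot_of_isLocalRing _ (IsLocalRing.maximalIdeal.isMaximal R).ne_top] at h3
  rw [map_zero]
  exact h3

theorem ff_cancel [IsNoetherianRing R] [IsLocalRing R] (π : R)
    (hπ : π ∈ IsLocalRing.maximalIdeal R) (G G' : MvPowerSeries (Fin 2) R)
    (h : ff π * G = ff π * G') : G = G' := by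
  have : G - G' = 0 :=
    E_eq_zero π hπ (G - G') (fun n => by rw [mul_sub, h, sub_self, map_zero])
  exact sub_eq_zero.1 this

theorem exists_series [IsLocalRing R] [IsAdicComplete (IsLocalRing.maximalIdeal R) R] (π : R)
    (hπ : π ∈ IsLocalRing.maximalIdeal R) (r : ℕ → R) :
    ∃ L : R, ∀ N, L - ∑ k ∈ Finset.range N, π ^ k * r k ∈ IsLocalRing.maximalIdeal R ^ N := by
  have hsm : ∀ N : ℕ, (IsLocalRing.maximalIdeal R ^ N • ⊤ : Submodule R R) =
      IsLocalRing.maximalIdeal R ^ N := by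
    intro N
    rw [Ideal.smul_eq_mul, Ideal.mul_top]
  have hpre : IsPrecomplete (IsLocalRing.maximalIdeal R) R := inferInstance
  obtain ⟨L, hL⟩ := IsPrecomplete.prec hpre
    (f := fun N => ∑ k ∈ Finset.range N, π ^ k * r k) (by
      intro M N hMN
      rw [SModEq.sub_mem, hsm]
      have e : ∑ k ∈ Finset.range N, π ^ k * r k - ∑ k ∈ Finset.range M, π ^ k * r k =
          ∑ k ∈ Finset.Ico M N, π ^ k * r k := (Finset.sum_Ico_eq_sub _ hMN).symm
      rw [← neg_sub, e]
      refine neg_mem (Ideal.sum_mem _ (fun k hk => ?_))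
      have hk' : M ≤ k := (Finset.mem_Ico.1 hk).1
      exact Ideal.mul_mem_right _ _ (Ideal.pow_le_pow_right hk' (Ideal.pow_mem_pow hπ k)))
  refine ⟨L, fun N => ?_⟩
  have := hL N
  rw [SModEq.sub_mem, hsm] at this
  rw [← neg_sub]
  exact neg_mem this

theorem exists_E [IsLocalRing R] [IsAdicComplete (IsLocalRing.maximalIdeal R) R] (π : R)
    (hπ : π ∈ IsLocalRing.maximalIdeal R) (H : MvPowerSeries (Fin 2) R) :
    ∃ E : MvPowerSeries (Fin 2) R, ∀ n, coeff (ee + n) (H - ff π * E) = 0 := by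
  have hch : ∀ n : Fin 2 →₀ ℕ, ∃ L : R, ∀ N,
      L - ∑ k ∈ Finset.range N, π ^ k * coeff ((k + 1) • ee + n) H ∈
        IsLocalRing.maximalIdeal R ^ N :=
    fun n => exists_series π hπ _
  choose L hL using hch
  have hsm : ∀ N : ℕ, (IsLocalRing.maximalIdeal R ^ N • ⊤ : Submodule R R) =
      IsLocalRing.maximalIdeal R ^ N := by
    intro N
    rw [Ideal.smul_eq_mul, Ideal.mul_top]
  have hrec : ∀ n, L n = coeff (ee + n) H + π * L (ee + n) := by
    intro n
    have hH : IsHausdorff (IsLocalRing.maximalIdeal R) R := inferInstance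
    have key : ∀ N : ℕ, L n - (coeff (ee + n) H + π * L (ee + n)) ∈
        IsLocalRing.maximalIdeal R ^ N := by
      intro N
      have h1 := hL n (N + 1)
      have h2 := hL (ee + n) N
      rw [Finset.sum_range_succ'] at h1
      have e1 : ∑ k ∈ Finset.range N, π ^ (k + 1) * coeff ((k + 1 + 1) • ee + n) H =
          π * ∑ k ∈ Finset.range N, π ^ k * coeff ((k + 1) • ee + (ee + n)) H := by
        rw [Finset.mul_sum]
        refine Finset.sum_congr rfl (fun k _ => ?_)
        have : (k + 1 + 1) • ee + n = (k + 1) • ee + (ee + n) := by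
          rw [succ_nsmul (ee) (k + 1), add_assoc]
        rw [this, pow_succ']
        ring
      have e2 : ((0 + 1) • ee + n) = ee + n := by rw [zero_add, one_smul]
      rw [e1, e2, pow_zero, one_mul] at h1
      have h1' := Ideal.pow_le_pow_right (Nat.le_succ N) h1
      have h2' := Ideal.mul_mem_left _ π h2
      have e3 : L n - (coeff (ee + n) H + π * L (ee + n)) =
          (L n - (π * ∑ k ∈ Finset.range N, π ^ k * coeff ((k + 1) • ee + (ee + n)) H +
            coeff (ee + n) H)) -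
          π * (L (ee + n) - ∑ k ∈ Finset.range N, π ^ k * coeff ((k + 1) • ee + (ee + n)) H) := by
        ring
      rw [e3]
      exact sub_mem h1' h2'
    have := IsHausdorff.haus hH (L n - (coeff (ee + n) H + π * L (ee + n))) (fun N => by
      rw [SModEq.zero, hsm]
      exact key N)
    exact sub_eq_zero.1 this
  let E : MvPowerSeries (Fin 2) R := fun n => L n
  have hEc : ∀ n, coeff n E = L n := fun n => rfl
  refine ⟨E, fun n => ?_⟩
  rw [map_sub, coeff_ff_mul, hEc, hEc, hrec n]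
  ring

theorem m_cases01 (m : Fin 2 →₀ ℕ) :
    (∃ a, m = Finsupp.single 0 a) ∨ (∃ b, m = Finsupp.single 1 (b + 1)) ∨ (∃ n, m = ee + n) := by
  by_cases h1 : m 1 = 0
  · left
    refine ⟨m 0, ?_⟩
    ext i
    fin_cases i
    · simp
    · simp [h1]
  · by_cases h0 : m 0 = 0
    · right
      left
      obtain ⟨b, hb⟩ := Nat.exists_eq_succ_of_ne_zero h1
      refine ⟨b, ?_⟩
      ext i
      fin_cases i
      · simp [h0]
      · simp [hb]
    · right
      right
      refine ⟨m - ee, ?_⟩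
      have hle : ee ≤ m := by
        rw [Finsupp.le_def]
        intro i
        fin_cases i
        · show ee 0 ≤ m 0
          rw [ee_zero]
          omega
        · show ee 1 ≤ m 1
          rw [ee_one]
          omega
      exact (add_tsub_cancel_of_le hle).symm

theorem m_cases10 (m : Fin 2 →₀ ℕ) :
    (∃ b, m = Finsupp.single 1 b) ∨ (∃ a, m = Finsupp.single 0 (a + 1)) ∨ (∃ n, m = ee + n) := by
  by_cases h0 : m 0 = 0
  · left
    refine ⟨m 1, ?_⟩
    ext i
    fin_cases i
    · simp [h0]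
    · simp
  · by_cases h1 : m 1 = 0
    · right
      left
      obtain ⟨a, ha⟩ := Nat.exists_eq_succ_of_ne_zero h0
      refine ⟨a, ?_⟩
      ext i
      fin_cases i
      · simp [ha]
      · simp [h1]
    · right
      right
      refine ⟨m - ee, ?_⟩
      have hle : ee ≤ m := by
        rw [Finsupp.le_def]
        intro i
        fin_cases i
        · show ee 0 ≤ m 0
          rw [ee_zero]
          omega
        · show ee 1 ≤ m 1
          rw [ee_one]
          omega
      exact (add_tsub_cancel_of_le hle).symm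

theorem coeff_toMv_single (i : Fin 2) (f : PowerSeries R) (a : ℕ) :
    coeff (Finsupp.single i a) (PowerSeries.toMvPowerSeries (σ := Fin 2) i f) =
      PowerSeries.coeff a f := by
  have h := coeff_embDomain_rename (Function.Embedding.punit i) f (Finsupp.single () a)
  rw [Finsupp.embDomain_single] at h
  exact h

theorem coeff_toMv_of_ne (i j : Fin 2) (hij : j ≠ i) (f : PowerSeries R) (m : Fin 2 →₀ ℕ)
    (hm : m j ≠ 0) : coeff m (PowerSeries.toMvPowerSeries (σ := Fin 2) i f) = 0 := by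
  apply coeff_rename_eq_zero
  rintro ⟨y, rfl⟩
  apply hm
  apply Finsupp.mapDomain_of_notMem_range
  rintro ⟨u, hu⟩
  exact hij hu.symm

theorem coeff_X_mul_add (j : Fin 2) (φ : MvPowerSeries (Fin 2) R) (n : Fin 2 →₀ ℕ) :
    coeff (Finsupp.single j 1 + n) (X j * φ) = coeff n φ := by
  rw [X_def, coeff_add_monomial_mul, one_mul]

theorem coeff_X_mul_of_zero (j : Fin 2) (φ : MvPowerSeries (Fin 2) R) (m : Fin 2 →₀ ℕ)
    (hm : m j = 0) : coeff m (X j * φ) = 0 := by
  rw [X_def, coeff_monomial_mul, if_neg]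
  intro h
  have := Finsupp.le_def.1 h j
  rw [Finsupp.single_eq_same, hm] at this
  omega

theorem decomp01 (K : MvPowerSeries (Fin 2) R) (hK : ∀ n, coeff (ee + n) K = 0) :
    ∃ f g : PowerSeries R, K = PowerSeries.toMvPowerSeries (σ := Fin 2) 0 f +
      X 1 * PowerSeries.toMvPowerSeries (σ := Fin 2) 1 g := by
  refine ⟨PowerSeries.mk (fun a => coeff (Finsupp.single 0 a) K),
    PowerSeries.mk (fun b => coeff (Finsupp.single 1 (b + 1)) K), ?_⟩
  ext m
  rw [map_add]
  rcases m_cases01 m with ⟨a, rfl⟩ | ⟨b, rfl⟩ | ⟨n, rfl⟩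
  · have e1 : (Finsupp.single (0 : Fin 2) a) 1 = 0 := Finsupp.single_eq_of_ne (by decide)
    rw [coeff_toMv_single, PowerSeries.coeff_mk, coeff_X_mul_of_zero 1 _ _ e1, add_zero]
  · have e1 : (Finsupp.single (1 : Fin 2) (b + 1)) 1 ≠ 0 := by
      rw [Finsupp.single_eq_same]
      omega
    have e2 : Finsupp.single (1 : Fin 2) (b + 1) = Finsupp.single 1 1 + Finsupp.single 1 b := by
      rw [← Finsupp.single_add, add_comm]
    rw [coeff_toMv_of_ne 0 1 (by decide) _ _ e1, zero_add]
    conv_rhs => rw [e2]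
    rw [coeff_X_mul_add, coeff_toMv_single, PowerSeries.coeff_mk]
  · have e1 : (ee + n) 1 ≠ 0 := by
      rw [Finsupp.add_apply, ee_one]
      omega
    have e2 : ee + n = Finsupp.single 1 1 + (Finsupp.single 0 1 + n) := by
      rw [ee]
      abel
    have e3 : (Finsupp.single (0 : Fin 2) 1 + n : Fin 2 →₀ ℕ) 0 ≠ 0 := by
      rw [Finsupp.add_apply, Finsupp.single_eq_same]
      omega
    rw [hK, coeff_toMv_of_ne 0 1 (by decide) _ _ e1, zero_add, e2, coeff_X_mul_add,
      coeff_toMv_of_ne 1 0 (by decide) _ _ e3]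

theorem decomp10 (K : MvPowerSeries (Fin 2) R) (hK : ∀ n, coeff (ee + n) K = 0) :
    ∃ f g : PowerSeries R, K = X 0 * PowerSeries.toMvPowerSeries (σ := Fin 2) 0 f +
      PowerSeries.toMvPowerSeries (σ := Fin 2) 1 g := by
  refine ⟨PowerSeries.mk (fun a => coeff (Finsupp.single 0 (a + 1)) K),
    PowerSeries.mk (fun b => coeff (Finsupp.single 1 b) K), ?_⟩
  ext m
  rw [map_add]
  rcases m_cases10 m with ⟨b, rfl⟩ | ⟨a, rfl⟩ | ⟨n, rfl⟩
  · have e1 : (Finsupp.single (1 : Fin 2) b) 0 = 0 := Finsupp.single_eq_of_ne (by decide)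
    rw [coeff_toMv_single, PowerSeries.coeff_mk, coeff_X_mul_of_zero 0 _ _ e1, zero_add]
  · have e1 : (Finsupp.single (0 : Fin 2) (a + 1)) 0 ≠ 0 := by
      rw [Finsupp.single_eq_same]
      omega
    have e2 : Finsupp.single (0 : Fin 2) (a + 1) = Finsupp.single 0 1 + Finsupp.single 0 a := by
      rw [← Finsupp.single_add, add_comm]
    rw [coeff_toMv_of_ne 1 0 (by decide) _ _ e1, add_zero]
    conv_rhs => rw [e2]
    rw [coeff_X_mul_add, coeff_toMv_single, PowerSeries.coeff_mk]
  · have e1 : (ee + n) 0 ≠ 0 := by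
      rw [Finsupp.add_apply, ee_zero]
      omega
    have e2 : ee + n = Finsupp.single 0 1 + (Finsupp.single 1 1 + n) := by
      rw [ee]
      abel
    have e3 : (Finsupp.single (1 : Fin 2) 1 + n : Fin 2 →₀ ℕ) 1 ≠ 0 := by
      rw [Finsupp.add_apply, Finsupp.single_eq_same]
      omega
    rw [hK, coeff_toMv_of_ne 1 0 (by decide) _ _ e1, add_zero, e2, coeff_X_mul_add,
      coeff_toMv_of_ne 0 1 (by decide) _ _ e3]

/-! ### the quotient ring -/

theorem mk_C (π r : R) :
    (Ideal.Quotient.mk (Ideal.span {(X 0 * X 1 - C π : MvPowerSeries (Fin 2) R)})) (C r) =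
      algebraMap R (SpinCurv.NodeRing R π) r := rfl

theorem xy_eq (π : R) :
    SpinCurv.NodeRing.x R π * SpinCurv.NodeRing.y R π = algebraMap R (SpinCurv.NodeRing R π) π := by
  rw [← mk_C]
  show Ideal.Quotient.mk _ (X 0) * Ideal.Quotient.mk _ (X 1) = _
  rw [← map_mul, Ideal.Quotient.eq]
  exact Ideal.subset_span rfl

theorem mk_ff_mul (π : R) (E : MvPowerSeries (Fin 2) R) :
    (Ideal.Quotient.mk (Ideal.span {(X 0 * X 1 - C π : MvPowerSeries (Fin 2) R)})) (ff π * E) = 0 := by
  rw [Ideal.Quotient.eq_zero_iff_mem]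
  exact Ideal.mul_mem_right _ _ (Ideal.subset_span rfl)

theorem ofX_add (π : R) (f f' : PowerSeries R) :
    SpinCurv.NodeRing.ofX R π (f + f') = SpinCurv.NodeRing.ofX R π f + SpinCurv.NodeRing.ofX R π f' := by
  show Ideal.Quotient.mk _ (PowerSeries.toMvPowerSeries (σ := Fin 2) 0 (f + f')) = _
  rw [map_add, map_add]

theorem ofY_add (π : R) (f f' : PowerSeries R) :
    SpinCurv.NodeRing.ofY R π (f + f') = SpinCurv.NodeRing.ofY R π f + SpinCurv.NodeRing.ofY R π f' := by
  show Ideal.Quotient.mk _ (PowerSeries.toMvPowerSeries (σ := Fin 2) 1 (f + f')) = _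
  rw [map_add, map_add]

theorem ofX_C_mul (π r : R) (f : PowerSeries R) :
    SpinCurv.NodeRing.ofX R π (PowerSeries.C r * f) =
      algebraMap R (SpinCurv.NodeRing R π) r * SpinCurv.NodeRing.ofX R π f := by
  show Ideal.Quotient.mk _ (PowerSeries.toMvPowerSeries (σ := Fin 2) 0 (PowerSeries.C r * f)) = _
  rw [map_mul, PowerSeries.toMvPowerSeries_C, map_mul, mk_C]

theorem ofY_C_mul (π r : R) (f : PowerSeries R) :
    SpinCurv.NodeRing.ofY R π (PowerSeries.C r * f) =
      algebraMap R (SpinCurv.NodeRing R π) r * SpinCurv.NodeRing.ofY R π f := by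
  show Ideal.Quotient.mk _ (PowerSeries.toMvPowerSeries (σ := Fin 2) 1 (PowerSeries.C r * f)) = _
  rw [map_mul, PowerSeries.toMvPowerSeries_C, map_mul, mk_C]

theorem alpha_mulVec (p q : R) (v : Fin 2 → SpinCurv.NodeRing R (p * q)) :
    (SpinCurv.nodeAlpha R p q).mulVec v =
      ![SpinCurv.NodeRing.x R (p * q) * v 0 + algebraMap R _ p * v 1,
        algebraMap R _ q * v 0 + SpinCurv.NodeRing.y R (p * q) * v 1] := by
  funext i
  fin_cases i <;> simp [SpinCurv.nodeAlpha, Matrix.mulVec, dotProduct, Fin.sum_univ_two]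

theorem ofX_sub (π : R) (f f' : PowerSeries R) :
    SpinCurv.NodeRing.ofX R π (f - f') = SpinCurv.NodeRing.ofX R π f - SpinCurv.NodeRing.ofX R π f' := by
  show Ideal.Quotient.mk _ (PowerSeries.toMvPowerSeries (σ := Fin 2) 0 (f - f')) = _
  rw [map_sub, map_sub]

theorem ofY_sub (π : R) (f f' : PowerSeries R) :
    SpinCurv.NodeRing.ofY R π (f - f') = SpinCurv.NodeRing.ofY R π f - SpinCurv.NodeRing.ofY R π f' := by
  show Ideal.Quotient.mk _ (PowerSeries.toMvPowerSeries (σ := Fin 2) 1 (f - f')) = _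
  rw [map_sub, map_sub]

theorem core_ker [IsNoetherianRing R] [IsLocalRing R] (π p q : R) (hpq : π = p * q)
    (hπ : π ∈ IsLocalRing.maximalIdeal R) (a b : SpinCurv.NodeRing R π)
    (h0 : SpinCurv.NodeRing.x R π * a + algebraMap R (SpinCurv.NodeRing R π) p * b = 0)
    (h1 : algebraMap R (SpinCurv.NodeRing R π) q * a + SpinCurv.NodeRing.y R π * b = 0) :
    ∃ c d : SpinCurv.NodeRing R π,
      c * algebraMap R (SpinCurv.NodeRing R π) p + d * SpinCurv.NodeRing.y R π = a ∧
      c * (-SpinCurv.NodeRing.x R π) + d * (-algebraMap R (SpinCurv.NodeRing R π) q) = b := by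
  obtain ⟨a, rfl⟩ := Ideal.Quotient.mk_surjective a
  obtain ⟨b, rfl⟩ := Ideal.Quotient.mk_surjective b
  have hC : (C π : MvPowerSeries (Fin 2) R) = C p * C q := by rw [hpq, map_mul]
  have h0' : X 0 * a + C p * b ∈
      Ideal.span {(X 0 * X 1 - C π : MvPowerSeries (Fin 2) R)} := by
    rw [← Ideal.Quotient.eq_zero_iff_mem, map_add, map_mul, map_mul, mk_C]
    exact h0
  have h1' : C q * a + X 1 * b ∈
      Ideal.span {(X 0 * X 1 - C π : MvPowerSeries (Fin 2) R)} := by
    rw [← Ideal.Quotient.eq_zero_iff_mem, map_add, map_mul, map_mul, mk_C]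
    exact h1
  obtain ⟨e1, he1⟩ := Ideal.mem_span_singleton.1 h0'
  obtain ⟨e2, he2⟩ := Ideal.mem_span_singleton.1 h1'
  rw [hC] at he1 he2
  have hA : a = X 1 * e1 - C p * e2 := by
    apply ff_cancel π hπ
    unfold ff
    rw [hC]
    linear_combination (X 1) * he1 - (C p) * he2
  have hB : b = -(C q * e1) + X 0 * e2 := by
    apply ff_cancel π hπ
    unfold ff
    rw [hC]
    linear_combination (-(C q)) * he1 + (X 0) * he2
  refine ⟨-(Ideal.Quotient.mk _ e2), Ideal.Quotient.mk _ e1, ?_, ?_⟩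
  · rw [hA, map_sub, map_mul, map_mul, mk_C]
    ring
  · rw [hB, map_add, map_neg, map_mul, map_mul, mk_C]
    ring

theorem ker_eq [IsNoetherianRing R] [IsLocalRing R] (p q : R)
    (hp : p ∈ IsLocalRing.maximalIdeal R) :
    LinearMap.ker (Matrix.mulVecLin (SpinCurv.nodeAlpha R p q)) =
      Submodule.span (SpinCurv.NodeRing R (p * q))
        {![algebraMap R (SpinCurv.NodeRing R (p * q)) p, -SpinCurv.NodeRing.x R (p * q)],
         ![SpinCurv.NodeRing.y R (p * q), -algebraMap R (SpinCurv.NodeRing R (p * q)) q]} := by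
  have hπ : p * q ∈ IsLocalRing.maximalIdeal R := Ideal.mul_mem_right _ _ hp
  have hxy : SpinCurv.NodeRing.x R (p * q) * SpinCurv.NodeRing.y R (p * q) =
      algebraMap R (SpinCurv.NodeRing R (p * q)) p * algebraMap R (SpinCurv.NodeRing R (p * q)) q := by
    rw [xy_eq]
    exact map_mul (algebraMap R (SpinCurv.NodeRing R (p * q))) p q
  apply le_antisymm
  · intro v hv
    rw [LinearMap.mem_ker, Matrix.mulVecLin_apply, alpha_mulVec] at hv
    have h0 := congrFun hv 0
    have h1 := congrFun hv 1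
    simp only [Matrix.cons_val_zero, Matrix.cons_val_one, Pi.zero_apply] at h0 h1
    obtain ⟨c, d, hc, hd⟩ := core_ker (p * q) p q rfl hπ (v 0) (v 1) h0 h1
    refine Submodule.mem_span_pair.2 ⟨c, d, ?_⟩
    funext i
    fin_cases i
    · exact hc
    · exact hd
  · rw [Submodule.span_le]
    intro v hv
    rcases hv with rfl | rfl
    · rw [SetLike.mem_coe, LinearMap.mem_ker, Matrix.mulVecLin_apply, alpha_mulVec]
      funext i
      fin_cases i
      · show SpinCurv.NodeRing.x R (p * q) * algebraMap R (SpinCurv.NodeRing R (p * q)) p +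
          algebraMap R (SpinCurv.NodeRing R (p * q)) p * (-SpinCurv.NodeRing.x R (p * q)) = 0
        ring
      · show algebraMap R (SpinCurv.NodeRing R (p * q)) q * algebraMap R (SpinCurv.NodeRing R (p * q)) p +
          SpinCurv.NodeRing.y R (p * q) * (-SpinCurv.NodeRing.x R (p * q)) = 0
        linear_combination (-1 : SpinCurv.NodeRing R (p * q)) * hxy
    · rw [SetLike.mem_coe, LinearMap.mem_ker, Matrix.mulVecLin_apply, alpha_mulVec]
      funext i
      fin_cases i
      · show SpinCurv.NodeRing.x R (p * q) * SpinCurv.NodeRing.y R (p * q) +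
          algebraMap R (SpinCurv.NodeRing R (p * q)) p * (-algebraMap R (SpinCurv.NodeRing R (p * q)) q) = 0
        linear_combination hxy
      · show algebraMap R (SpinCurv.NodeRing R (p * q)) q * SpinCurv.NodeRing.y R (p * q) +
          SpinCurv.NodeRing.y R (p * q) * (-algebraMap R (SpinCurv.NodeRing R (p * q)) q) = 0
        ring

theorem zero0 [IsNoetherianRing R] [IsLocalRing R] (π : R) (hπ : π ∈ IsLocalRing.maximalIdeal R)
    (r : R) (f g : PowerSeries R)
    (h : X 0 * PowerSeries.toMvPowerSeries (σ := Fin 2) 0 f +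
      C r * PowerSeries.toMvPowerSeries (σ := Fin 2) 1 g ∈
        Ideal.span {(X 0 * X 1 - C π : MvPowerSeries (Fin 2) R)}) : f = 0 := by
  obtain ⟨E, hE⟩ := Ideal.mem_span_singleton.1 h
  have hE' : X 0 * PowerSeries.toMvPowerSeries (σ := Fin 2) 0 f +
      C r * PowerSeries.toMvPowerSeries (σ := Fin 2) 1 g = ff π * E := hE
  have hE0 : E = 0 := by
    apply E_eq_zero π hπ
    intro n
    have e1 : (ee + n) 0 ≠ 0 := by
      rw [Finsupp.add_apply, ee_zero]
      omega
    have e2 : ee + n = Finsupp.single 0 1 + (Finsupp.single 1 1 + n) := by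
      rw [ee]
      abel
    have e3 : (Finsupp.single (1 : Fin 2) 1 + n : Fin 2 →₀ ℕ) 1 ≠ 0 := by
      rw [Finsupp.add_apply, Finsupp.single_eq_same]
      omega
    rw [← hE', map_add, coeff_C_mul, coeff_toMv_of_ne 1 0 (by decide) _ _ e1, mul_zero, add_zero,
      e2, coeff_X_mul_add, coeff_toMv_of_ne 0 1 (by decide) _ _ e3]
  rw [hE0, mul_zero] at hE'
  ext a
  have e1 : (Finsupp.single (0 : Fin 2) (a + 1)) 0 ≠ 0 := by
    rw [Finsupp.single_eq_same]
    omega
  have e2 : Finsupp.single (0 : Fin 2) (a + 1) = Finsupp.single 0 1 + Finsupp.single 0 a := by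
    rw [← Finsupp.single_add, add_comm]
  have := congrArg (coeff (Finsupp.single (0 : Fin 2) (a + 1))) hE'
  rw [map_add, coeff_C_mul, coeff_toMv_of_ne 1 0 (by decide) _ _ e1, mul_zero, add_zero, map_zero]
    at this
  rw [e2, coeff_X_mul_add, coeff_toMv_single] at this
  rw [this, map_zero]

theorem zero1 [IsNoetherianRing R] [IsLocalRing R] (π : R) (hπ : π ∈ IsLocalRing.maximalIdeal R)
    (r : R) (f g : PowerSeries R)
    (h : C r * PowerSeries.toMvPowerSeries (σ := Fin 2) 0 f +
      X 1 * PowerSeries.toMvPowerSeries (σ := Fin 2) 1 g ∈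
        Ideal.span {(X 0 * X 1 - C π : MvPowerSeries (Fin 2) R)}) : g = 0 := by
  obtain ⟨E, hE⟩ := Ideal.mem_span_singleton.1 h
  have hE' : C r * PowerSeries.toMvPowerSeries (σ := Fin 2) 0 f +
      X 1 * PowerSeries.toMvPowerSeries (σ := Fin 2) 1 g = ff π * E := hE
  have hE0 : E = 0 := by
    apply E_eq_zero π hπ
    intro n
    have e1 : (ee + n) 1 ≠ 0 := by
      rw [Finsupp.add_apply, ee_one]
      omega
    have e2 : ee + n = Finsupp.single 1 1 + (Finsupp.single 0 1 + n) := by
      rw [ee]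
      abel
    have e3 : (Finsupp.single (0 : Fin 2) 1 + n : Fin 2 →₀ ℕ) 0 ≠ 0 := by
      rw [Finsupp.add_apply, Finsupp.single_eq_same]
      omega
    rw [← hE', map_add, coeff_C_mul, coeff_toMv_of_ne 0 1 (by decide) _ _ e1, mul_zero, zero_add,
      e2, coeff_X_mul_add, coeff_toMv_of_ne 1 0 (by decide) _ _ e3]
  rw [hE0, mul_zero] at hE'
  ext b
  have e1 : (Finsupp.single (1 : Fin 2) (b + 1)) 1 ≠ 0 := by
    rw [Finsupp.single_eq_same]
    omega
  have e2 : Finsupp.single (1 : Fin 2) (b + 1) = Finsupp.single 1 1 + Finsupp.single 1 b := by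
    rw [← Finsupp.single_add, add_comm]
  have := congrArg (coeff (Finsupp.single (1 : Fin 2) (b + 1))) hE'
  rw [map_add, coeff_C_mul, coeff_toMv_of_ne 0 1 (by decide) _ _ e1, mul_zero, zero_add, map_zero]
    at this
  rw [e2, coeff_X_mul_add, coeff_toMv_single] at this
  rw [this, map_zero]

theorem core_inj [IsNoetherianRing R] [IsLocalRing R] (π p q : R)
    (hπ : π ∈ IsLocalRing.maximalIdeal R) (f g : PowerSeries R)
    (h0 : SpinCurv.NodeRing.x R π * SpinCurv.NodeRing.ofX R π f +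
      algebraMap R (SpinCurv.NodeRing R π) p * SpinCurv.NodeRing.ofY R π g = 0)
    (h1 : algebraMap R (SpinCurv.NodeRing R π) q * SpinCurv.NodeRing.ofX R π f +
      SpinCurv.NodeRing.y R π * SpinCurv.NodeRing.ofY R π g = 0) : f = 0 ∧ g = 0 := by
  have h0' : X 0 * PowerSeries.toMvPowerSeries (σ := Fin 2) 0 f +
      C p * PowerSeries.toMvPowerSeries (σ := Fin 2) 1 g ∈
        Ideal.span {(X 0 * X 1 - C π : MvPowerSeries (Fin 2) R)} := by
    rw [← Ideal.Quotient.eq_zero_iff_mem, map_add, map_mul, map_mul, mk_C]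
    exact h0
  have h1' : C q * PowerSeries.toMvPowerSeries (σ := Fin 2) 0 f +
      X 1 * PowerSeries.toMvPowerSeries (σ := Fin 2) 1 g ∈
        Ideal.span {(X 0 * X 1 - C π : MvPowerSeries (Fin 2) R)} := by
    rw [← Ideal.Quotient.eq_zero_iff_mem, map_add, map_mul, map_mul, mk_C]
    exact h1
  exact ⟨zero0 π hπ p _ _ h0', zero1 π hπ q _ _ h1'⟩

theorem core_surj [IsLocalRing R] [IsAdicComplete (IsLocalRing.maximalIdeal R) R]
    (π p q : R) (hpq : π = p * q)
    (hπ : π ∈ IsLocalRing.maximalIdeal R) (a b : SpinCurv.NodeRing R π) :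
    ∃ f g : PowerSeries R,
      SpinCurv.NodeRing.x R π * SpinCurv.NodeRing.ofX R π f +
        algebraMap R (SpinCurv.NodeRing R π) p * SpinCurv.NodeRing.ofY R π g =
      SpinCurv.NodeRing.x R π * a + algebraMap R (SpinCurv.NodeRing R π) p * b ∧
      algebraMap R (SpinCurv.NodeRing R π) q * SpinCurv.NodeRing.ofX R π f +
        SpinCurv.NodeRing.y R π * SpinCurv.NodeRing.ofY R π g =
      algebraMap R (SpinCurv.NodeRing R π) q * a + SpinCurv.NodeRing.y R π * b := by
  have hxy : SpinCurv.NodeRing.x R π * SpinCurv.NodeRing.y R π =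
      algebraMap R (SpinCurv.NodeRing R π) p * algebraMap R (SpinCurv.NodeRing R π) q := by
    rw [xy_eq, ← map_mul, hpq]
  obtain ⟨Ha, rfl⟩ := Ideal.Quotient.mk_surjective a
  obtain ⟨Hb, rfl⟩ := Ideal.Quotient.mk_surjective b
  obtain ⟨Ea, hEa⟩ := exists_E π hπ Ha
  obtain ⟨Eb, hEb⟩ := exists_E π hπ Hb
  obtain ⟨fa, ga, hA⟩ := decomp01 _ hEa
  obtain ⟨fb, gb, hB⟩ := decomp10 _ hEb
  have hw0 : Ideal.Quotient.mk (Ideal.span {(X 0 * X 1 - C π : MvPowerSeries (Fin 2) R)}) Ha =
      SpinCurv.NodeRing.ofX R π fa +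
        SpinCurv.NodeRing.y R π * SpinCurv.NodeRing.ofY R π ga := by
    have e : Ha = (PowerSeries.toMvPowerSeries (σ := Fin 2) 0 fa +
        X 1 * PowerSeries.toMvPowerSeries (σ := Fin 2) 1 ga) + ff π * Ea := by
      rw [← hA]
      ring
    rw [e, map_add, mk_ff_mul, add_zero, map_add, map_mul]
  have hw1 : Ideal.Quotient.mk (Ideal.span {(X 0 * X 1 - C π : MvPowerSeries (Fin 2) R)}) Hb =
      SpinCurv.NodeRing.x R π * SpinCurv.NodeRing.ofX R π fb +
        SpinCurv.NodeRing.ofY R π gb := by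
    have e : Hb = (X 0 * PowerSeries.toMvPowerSeries (σ := Fin 2) 0 fb +
        PowerSeries.toMvPowerSeries (σ := Fin 2) 1 gb) + ff π * Eb := by
      rw [← hB]
      ring
    rw [e, map_add, mk_ff_mul, add_zero, map_add, map_mul]
  refine ⟨fa + PowerSeries.C p * fb, PowerSeries.C q * ga + gb, ?_, ?_⟩
  · rw [hw0, hw1, ofX_add, ofY_add, ofX_C_mul, ofY_C_mul]
    linear_combination (-(SpinCurv.NodeRing.ofY R π ga)) * hxy
  · rw [hw0, hw1, ofX_add, ofY_add, ofX_C_mul, ofY_C_mul]
    linear_combination (-(SpinCurv.NodeRing.ofX R π fb)) * hxy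

theorem inj_range [IsNoetherianRing R] [IsLocalRing R]
    [IsAdicComplete (IsLocalRing.maximalIdeal R) R]
    (p q : R) (hp : p ∈ IsLocalRing.maximalIdeal R) :
    Function.Injective (fun fg : PowerSeries R × PowerSeries R =>
        Matrix.mulVec (SpinCurv.nodeAlpha R p q)
          ![SpinCurv.NodeRing.ofX R (p * q) fg.1, SpinCurv.NodeRing.ofY R (p * q) fg.2]) ∧
    Set.range (fun fg : PowerSeries R × PowerSeries R =>
        Matrix.mulVec (SpinCurv.nodeAlpha R p q)
          ![SpinCurv.NodeRing.ofX R (p * q) fg.1, SpinCurv.NodeRing.ofY R (p * q) fg.2]) =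
      Set.range (Matrix.mulVec (SpinCurv.nodeAlpha R p q)) := by
  have hπ : p * q ∈ IsLocalRing.maximalIdeal R := Ideal.mul_mem_right _ _ hp
  constructor
  · rintro ⟨f, g⟩ ⟨f', g'⟩ h
    simp only [alpha_mulVec, Matrix.cons_val_zero, Matrix.cons_val_one] at h
    have h0 := congrFun h 0
    have h1 := congrFun h 1
    simp only [Matrix.cons_val_zero, Matrix.cons_val_one] at h0 h1
    have h0' : SpinCurv.NodeRing.x R (p * q) * SpinCurv.NodeRing.ofX R (p * q) (f - f') +
      algebraMap R (SpinCurv.NodeRing R (p * q)) p * SpinCurv.NodeRing.ofY R (p * q) (g - g') = 0 := by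
      rw [ofX_sub, ofY_sub]
      linear_combination h0
    have h1' : algebraMap R (SpinCurv.NodeRing R (p * q)) q * SpinCurv.NodeRing.ofX R (p * q) (f - f') +
      SpinCurv.NodeRing.y R (p * q) * SpinCurv.NodeRing.ofY R (p * q) (g - g') = 0 := by
      rw [ofX_sub, ofY_sub]
      linear_combination h1
    obtain ⟨hf, hg⟩ := core_inj (p * q) p q hπ _ _ h0' h1'
    rw [sub_eq_zero] at hf hg
    rw [hf, hg]
  · apply Set.Subset.antisymm
    · rintro v ⟨fg, rfl⟩
      exact ⟨_, rfl⟩
    · rintro v ⟨w, rfl⟩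
      obtain ⟨f, g, h0, h1⟩ := core_surj (p * q) p q rfl hπ (w 0) (w 1)
      refine ⟨(f, g), ?_⟩
      show Matrix.mulVec (SpinCurv.nodeAlpha R p q)
          ![SpinCurv.NodeRing.ofX R (p * q) f, SpinCurv.NodeRing.ofY R (p * q) g] =
        Matrix.mulVec (SpinCurv.nodeAlpha R p q) w
      rw [alpha_mulVec, alpha_mulVec]
      simp only [Matrix.cons_val_zero, Matrix.cons_val_one]
      rw [h0, h1]

end Groth.Agent.H9.NodePS
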