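import Mathlib
import Groth.Agent.Lib.Helper9.Misc.NodePS

/-!
# Ideals of finite colength of `k[[x,y]]` containing `xy`
-/

set_option autoImplicit false
set_option linter.unusedSectionVars false
set_option linter.unusedVariables false

namespace Groth.Agent.H9.NodeIdeal

open MvPowerSeries Groth.Agent.H9.NodePS

variable {k : Type*} [Field k]

local notation "tx" => PowerSeries.toMvPowerSeries (σ := Fin 2) (0 : Fin 2)
local notation "ty" => PowerSeries.toMvPowerSeries (σ := Fin 2) (1 : Fin 2)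

theorem nf_exists (F : MvPowerSeries (Fin 2) k) :
    ∃ (G : MvPowerSeries (Fin 2) k) (f g : PowerSeries k),
      F = X 0 * X 1 * G + (tx f + X 1 * ty g) := by
  let G : MvPowerSeries (Fin 2) k := fun n => coeff (ee + n) F
  have hG : ∀ n, coeff n G = coeff (ee + n) F := fun n => rfl
  have hK : ∀ n, coeff (ee + n) (F - X 0 * X 1 * G) = 0 := by
    intro n
    rw [map_sub, XX_eq, coeff_add_monomial_mul, one_mul, hG, sub_self]
  obtain ⟨f, g, hfg⟩ := decomp01 _ hK
  refine ⟨G, f, g, ?_⟩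
  rw [← hfg]
  ring

theorem nf_coeff0 (G : MvPowerSeries (Fin 2) k) (f g : PowerSeries k) (i : ℕ) :
    coeff (Finsupp.single 0 i) (X 0 * X 1 * G + (tx f + X 1 * ty g)) = PowerSeries.coeff i f := by
  have e1 : (Finsupp.single (0 : Fin 2) i) 1 = 0 := Finsupp.single_eq_of_ne (by decide)
  have e2 : X 0 * X 1 * G = X 1 * (X 0 * G) := by ring
  rw [map_add, map_add, e2, coeff_X_mul_of_zero 1 _ _ e1, coeff_X_mul_of_zero 1 _ _ e1,
    coeff_toMv_single, zero_add, add_zero]

theorem nf_coeff1 (G : MvPowerSeries (Fin 2) k) (f g : PowerSeries k) (j : ℕ) :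
    coeff (Finsupp.single 1 (j + 1)) (X 0 * X 1 * G + (tx f + X 1 * ty g)) =
      PowerSeries.coeff j g := by
  have e0 : (Finsupp.single (1 : Fin 2) (j + 1)) 0 = 0 := Finsupp.single_eq_of_ne (by decide)
  have e1 : (Finsupp.single (1 : Fin 2) (j + 1)) 1 ≠ 0 := by
    rw [Finsupp.single_eq_same]
    omega
  have e2 : X 0 * X 1 * G = X 0 * (X 1 * G) := by ring
  have e3 : Finsupp.single (1 : Fin 2) (j + 1) = Finsupp.single 1 1 + Finsupp.single 1 j := by
    rw [← Finsupp.single_add, add_comm]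
  rw [map_add, map_add, e2, coeff_X_mul_of_zero 0 _ _ e0, coeff_toMv_of_ne 0 1 (by decide) _ _ e1,
    zero_add, zero_add, e3, coeff_X_mul_add, coeff_toMv_single]

theorem coeff_Xpow_mul_of_lt (s : Fin 2) (a : ℕ) (H : MvPowerSeries (Fin 2) k) (m : Fin 2 →₀ ℕ)
    (hm : m s < a) : coeff m (X s ^ a * H) = 0 := by
  rw [X_pow_eq, coeff_monomial_mul, if_neg]
  intro h
  have := Finsupp.le_def.1 h s
  rw [Finsupp.single_eq_same] at this
  omega

/-- the coefficient map -/
noncomputable def TT (a b' : ℕ) :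
    MvPowerSeries (Fin 2) k →ₗ[k] (Fin a → k) × (Fin b' → k) :=
  LinearMap.prod (LinearMap.pi fun i : Fin a => coeff (Finsupp.single 0 (i : ℕ)))
    (LinearMap.pi fun j : Fin b' => coeff (Finsupp.single 1 ((j : ℕ) + 1)))

theorem TT_fst (a b' : ℕ) (F : MvPowerSeries (Fin 2) k) (i : Fin a) :
    (TT a b' F).1 i = coeff (Finsupp.single 0 (i : ℕ)) F := rfl

theorem TT_snd (a b' : ℕ) (F : MvPowerSeries (Fin 2) k) (j : Fin b') :
    (TT a b' F).2 j = coeff (Finsupp.single 1 ((j : ℕ) + 1)) F := rfl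

theorem TT_surjective (a b' : ℕ) : Function.Surjective (TT (k := k) a b') := by
  rintro ⟨u, v⟩
  refine ⟨X 0 * X 1 * 0 + (tx (PowerSeries.mk fun i => if h : i < a then u ⟨i, h⟩ else 0) +
    X 1 * ty (PowerSeries.mk fun j => if h : j < b' then v ⟨j, h⟩ else 0)), ?_⟩
  refine Prod.ext ?_ ?_
  · funext i
    rw [TT_fst, nf_coeff0, PowerSeries.coeff_mk, dif_pos i.2]
  · funext j
    rw [TT_snd, nf_coeff1, PowerSeries.coeff_mk, dif_pos j.2]

noncomputable def I0 (a b : ℕ) : Ideal (MvPowerSeries (Fin 2) k) :=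
  Ideal.span {X 0 * X 1, X 0 ^ a, X 1 ^ b}

theorem ker_TT_le (a b' : ℕ) (F : MvPowerSeries (Fin 2) k) (hF : TT a b' F = 0) :
    F ∈ I0 a (b' + 1) := by
  obtain ⟨G, f, g, rfl⟩ := nf_exists F
  have hf : ∀ i < a, PowerSeries.coeff i f = 0 := by
    intro i hi
    have := congrFun (congrArg Prod.fst hF) ⟨i, hi⟩
    rw [TT_fst, nf_coeff0] at this
    exact this
  have hg : ∀ j < b', PowerSeries.coeff j g = 0 := by
    intro j hj
    have := congrFun (congrArg Prod.snd hF) ⟨j, hj⟩
    rw [TT_snd, nf_coeff1] at this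
    exact this
  obtain ⟨f', rfl⟩ := PowerSeries.X_pow_dvd_iff.2 hf
  obtain ⟨g', rfl⟩ := PowerSeries.X_pow_dvd_iff.2 hg
  have e1 : tx (PowerSeries.X ^ a * f') = X 0 ^ a * tx f' := by
    rw [map_mul, map_pow, PowerSeries.toMvPowerSeries_X]
  have e2 : X 1 * ty (PowerSeries.X ^ b' * g') = X 1 ^ (b' + 1) * ty g' := by
    rw [map_mul, map_pow, PowerSeries.toMvPowerSeries_X]
    ring
  rw [e1, e2]
  refine Ideal.add_mem _ (Ideal.mul_mem_right _ _ (Ideal.subset_span (Set.mem_insert _ _)))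
    (Ideal.add_mem _ (Ideal.mul_mem_right _ _ (Ideal.subset_span
      (Set.mem_insert_of_mem _ (Set.mem_insert _ _))))
      (Ideal.mul_mem_right _ _ (Ideal.subset_span
      (Set.mem_insert_of_mem _ (Set.mem_insert_of_mem _ (Set.mem_singleton _))))))

theorem finrank_quot {V : Type*} [AddCommGroup V] [Module k V] [FiniteDimensional k V]
    (T : MvPowerSeries (Fin 2) k →ₗ[k] V) (hT : Function.Surjective T)
    (J : Ideal (MvPowerSeries (Fin 2) k)) (hker : ∀ F, T F = 0 → F ∈ J) :
    Module.finrank k (MvPowerSeries (Fin 2) k ⧸ J) +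
      Module.finrank k (Submodule.map T (J.restrictScalars k)) = Module.finrank k V := by
  let W := Submodule.map T (J.restrictScalars k)
  let S : MvPowerSeries (Fin 2) k →ₗ[k] V ⧸ W := W.mkQ.comp T
  have hS : Function.Surjective S := (Submodule.mkQ_surjective W).comp hT
  have hk : LinearMap.ker S = J.restrictScalars k := by
    ext x
    rw [LinearMap.mem_ker, LinearMap.comp_apply, Submodule.mkQ_apply,
      Submodule.Quotient.mk_eq_zero]
    constructor
    · rintro ⟨y, hy, hyx⟩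
      have h1 : x - y ∈ J := hker _ (by rw [map_sub, hyx, sub_self])
      have hy' : y ∈ J := hy
      have h2 := J.add_mem h1 hy'
      rw [sub_add_cancel] at h2
      exact h2
    · intro hx
      exact ⟨x, hx, rfl⟩
  have e1 : (MvPowerSeries (Fin 2) k ⧸ J) ≃ₗ[k]
      (MvPowerSeries (Fin 2) k ⧸ J.restrictScalars k) :=
    (Submodule.Quotient.restrictScalarsEquiv k J).symm
  have e2 : (MvPowerSeries (Fin 2) k ⧸ J.restrictScalars k) ≃ₗ[k]
      (MvPowerSeries (Fin 2) k ⧸ LinearMap.ker S) := Submodule.quotEquivOfEq _ _ hk.symm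
  have e3 : (MvPowerSeries (Fin 2) k ⧸ LinearMap.ker S) ≃ₗ[k] V ⧸ W :=
    S.quotKerEquivOfSurjective hS
  rw [(e1.trans (e2.trans e3)).finrank_eq]
  exact Submodule.finrank_quotient_add_finrank W

theorem const_zero (J : Ideal (MvPowerSeries (Fin 2) k)) (hJ : J ≠ ⊤)
    (F : MvPowerSeries (Fin 2) k) (hF : F ∈ J) : coeff 0 F = 0 := by
  by_contra h
  apply hJ
  apply Ideal.eq_top_of_isUnit_mem J hF
  rw [MvPowerSeries.isUnit_iff_constantCoeff, ← coeff_zero_eq_constantCoeff_apply]
  exact IsUnit.mk0 _ h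

theorem exists_pow (J : Ideal (MvPowerSeries (Fin 2) k))
    [Module.Finite k (MvPowerSeries (Fin 2) k ⧸ J)] (s : Fin 2) :
    ∃ n : ℕ, (X s : MvPowerSeries (Fin 2) k) ^ n ∈ J := by
  have h1 : IsArtinian k (MvPowerSeries (Fin 2) k ⧸ J) := inferInstance
  have h2 : IsArtinian (MvPowerSeries (Fin 2) k) (MvPowerSeries (Fin 2) k ⧸ J) :=
    isArtinian_of_tower k h1
  obtain ⟨n, y, hy⟩ := IsArtinian.exists_pow_succ_smul_dvd (X s : MvPowerSeries (Fin 2) k)
    (1 : MvPowerSeries (Fin 2) k ⧸ J)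
  obtain ⟨g, rfl⟩ := Ideal.Quotient.mk_surjective y
  refine ⟨n, ?_⟩
  have e : ∀ (r g : MvPowerSeries (Fin 2) k),
      r • (Ideal.Quotient.mk J g) = Ideal.Quotient.mk J (r * g) := fun r g => rfl
  rw [← map_one (Ideal.Quotient.mk J), e, e, mul_one, Ideal.Quotient.eq] at hy
  have e2 : X s ^ n.succ * g - X s ^ n = X s ^ n * (X s * g - 1) := by
    rw [Nat.succ_eq_add_one, pow_succ]
    ring
  rw [e2] at hy
  have hu : IsUnit (X s * g - 1 : MvPowerSeries (Fin 2) k) := by
    rw [MvPowerSeries.isUnit_iff_constantCoeff, map_sub, map_mul, constantCoeff_X, zero_mul,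
      map_one, zero_sub]
    exact isUnit_one.neg
  exact (Ideal.mul_unit_mem_iff_mem J hu).1 hy

theorem xpart (J : Ideal (MvPowerSeries (Fin 2) k)) (s : Fin 2) (a : ℕ)
    (ha : (X s : MvPowerSeries (Fin 2) k) ^ a ∈ J)
    (hmin : ∀ m < a, (X s : MvPowerSeries (Fin 2) k) ^ m ∉ J) (f : PowerSeries k) :
    PowerSeries.toMvPowerSeries (σ := Fin 2) s f ∈ J ↔ ∀ i < a, PowerSeries.coeff i f = 0 := by
  constructor
  · intro hf
    by_contra hne
    push Not at hne
    classical
    let i0 := Nat.find hne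
    have hi0 : i0 < a ∧ PowerSeries.coeff i0 f ≠ 0 := Nat.find_spec hne
    have hlt : ∀ m < i0, PowerSeries.coeff m f = 0 := by
      intro m hm
      by_contra hc
      exact Nat.find_min hne hm ⟨lt_trans hm hi0.1, hc⟩
    obtain ⟨u, hu⟩ := PowerSeries.X_pow_dvd_iff.2 hlt
    have hu0 : PowerSeries.coeff 0 u ≠ 0 := by
      have := hi0.2
      rw [hu, PowerSeries.coeff_X_pow_mul', if_pos le_rfl, Nat.sub_self] at this
      exact this
    have huu : IsUnit u := by
      rw [PowerSeries.isUnit_iff_constantCoeff, ← PowerSeries.coeff_zero_eq_constantCoeff_apply]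
      exact IsUnit.mk0 _ hu0
    have huu' : IsUnit (PowerSeries.toMvPowerSeries (σ := Fin 2) s u) := huu.map _
    rw [hu, map_mul, map_pow, PowerSeries.toMvPowerSeries_X] at hf
    exact hmin i0 hi0.1 ((Ideal.mul_unit_mem_iff_mem J huu').1 hf)
  · intro h
    obtain ⟨f', rfl⟩ := PowerSeries.X_pow_dvd_iff.2 h
    rw [map_mul, map_pow, PowerSeries.toMvPowerSeries_X]
    exact Ideal.mul_mem_right _ _ ha

theorem TT_I0 (a b' : ℕ) (ha : 1 ≤ a) (F : MvPowerSeries (Fin 2) k) (hF : F ∈ I0 a (b' + 1)) :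
    TT a b' F = 0 := by
  have key : ∀ H : MvPowerSeries (Fin 2) k, TT a b' (F * H) = 0 := by
    unfold I0 at hF
    induction hF using Submodule.span_induction with
    | mem x hx =>
      intro H
      rcases hx with rfl | rfl | rfl
      · refine Prod.ext ?_ ?_
        · funext i
          have e1 : (Finsupp.single (0 : Fin 2) (i : ℕ)) 1 = 0 :=
            Finsupp.single_eq_of_ne (by decide)
          have e2 : X 0 * X 1 * H = X 1 * (X 0 * H) := by ring
          rw [TT_fst, e2, coeff_X_mul_of_zero 1 _ _ e1]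
          rfl
        · funext j
          have e1 : (Finsupp.single (1 : Fin 2) ((j : ℕ) + 1)) 0 = 0 :=
            Finsupp.single_eq_of_ne (by decide)
          have e2 : X 0 * X 1 * H = X 0 * (X 1 * H) := by ring
          rw [TT_snd, e2, coeff_X_mul_of_zero 0 _ _ e1]
          rfl
      · refine Prod.ext ?_ ?_
        · funext i
          have e1 : (Finsupp.single (0 : Fin 2) (i : ℕ)) 0 < a := by
            rw [Finsupp.single_eq_same]
            exact i.2
          rw [TT_fst, coeff_Xpow_mul_of_lt 0 a H _ e1]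
          rfl
        · funext j
          have e1 : (Finsupp.single (1 : Fin 2) ((j : ℕ) + 1)) 0 < a := by
            rw [Finsupp.single_eq_of_ne (by decide)]
            omega
          rw [TT_snd, coeff_Xpow_mul_of_lt 0 a H _ e1]
          rfl
      · refine Prod.ext ?_ ?_
        · funext i
          have e1 : (Finsupp.single (0 : Fin 2) (i : ℕ)) 1 < b' + 1 := by
            rw [Finsupp.single_eq_of_ne (by decide)]
            omega
          rw [TT_fst, coeff_Xpow_mul_of_lt 1 (b' + 1) H _ e1]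
          rfl
        · funext j
          have e1 : (Finsupp.single (1 : Fin 2) ((j : ℕ) + 1)) 1 < b' + 1 := by
            rw [Finsupp.single_eq_same]
            have := j.2
            omega
          rw [TT_snd, coeff_Xpow_mul_of_lt 1 (b' + 1) H _ e1]
          rfl
    | zero =>
      intro H
      rw [zero_mul, map_zero]
    | add x y _ _ hx hy =>
      intro H
      rw [add_mul, map_add, hx, hy, add_zero]
    | smul c x _ hx =>
      intro H
      have : c • x * H = x * (c * H) := by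
        rw [smul_eq_mul]
        ring
      rw [this]
      exact hx _
  have := key 1
  rwa [mul_one] at this

theorem key (J : Ideal (MvPowerSeries (Fin 2) k))
    (hxy : (X 0 * X 1 : MvPowerSeries (Fin 2) k) ∈ J) (hJ : J ≠ ⊤) (a b' : ℕ)
    (ha : (X 0 : MvPowerSeries (Fin 2) k) ^ a ∈ J)
    (hamin : ∀ m < a, (X 0 : MvPowerSeries (Fin 2) k) ^ m ∉ J)
    (hb : (X 1 : MvPowerSeries (Fin 2) k) ^ (b' + 1) ∈ J)
    (hbmin : ∀ m < b' + 1, (X 1 : MvPowerSeries (Fin 2) k) ^ m ∉ J)
    (F : MvPowerSeries (Fin 2) k) (hF : F ∈ J) :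
    (∀ i : Fin a, (i : ℕ) + 1 < a → (TT a b' F).1 i = 0) ∧
    (∀ i : Fin a, (i : ℕ) = 0 → (TT a b' F).1 i = 0) ∧
    (∀ j : Fin b', (j : ℕ) + 1 < b' → (TT a b' F).2 j = 0) ∧
    ((TT a b' F).1 = 0 ↔ (TT a b' F).2 = 0) := by
  obtain ⟨G, f, g, hnf⟩ := nf_exists F
  have hu : ∀ i : Fin a, (TT a b' F).1 i = PowerSeries.coeff (i : ℕ) f := by
    intro i
    rw [TT_fst, hnf, nf_coeff0]
  have hv : ∀ j : Fin b', (TT a b' F).2 j = PowerSeries.coeff (j : ℕ) g := by
    intro j
    rw [TT_snd, hnf, nf_coeff1]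
  have hK : tx f + X 1 * ty g ∈ J := by
    rw [hnf] at hF
    exact (Ideal.add_mem_iff_right J (J.mul_mem_right _ hxy)).1 hF
  have hf0 : PowerSeries.coeff 0 f = 0 := by
    have h1 := const_zero J hJ F hF
    have h2 := nf_coeff0 G f g 0
    rw [Finsupp.single_zero, ← hnf, h1] at h2
    exact h2.symm
  -- A1
  have A1 : ∀ i, i + 1 < a → PowerSeries.coeff i f = 0 := by
    have h1 : X 0 * (tx f + X 1 * ty g) ∈ J := J.mul_mem_left _ hK
    have e : X 0 * (tx f + X 1 * ty g) = tx (PowerSeries.X * f) + X 0 * X 1 * ty g := by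
      rw [map_mul, PowerSeries.toMvPowerSeries_X]
      ring
    rw [e] at h1
    have h1' : tx (PowerSeries.X * f) ∈ J :=
      (Ideal.add_mem_iff_left J (J.mul_mem_right _ hxy)).1 h1
    have h2 := (xpart J 0 a ha hamin _).1 h1'
    intro i hi
    have := h2 (i + 1) hi
    rwa [PowerSeries.coeff_succ_X_mul] at this
  -- A3
  have A3 : ∀ j, j + 2 < b' + 1 → PowerSeries.coeff j g = 0 := by
    have hf0' : PowerSeries.constantCoeff f = 0 := by
      rw [← PowerSeries.coeff_zero_eq_constantCoeff_apply]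
      exact hf0
    obtain ⟨f1, hf1⟩ := PowerSeries.X_dvd_iff.2 hf0'
    have h3 : X 1 * (tx f + X 1 * ty g) ∈ J := J.mul_mem_left _ hK
    have e3 : X 1 * (tx f + X 1 * ty g) =
        X 0 * X 1 * tx f1 + ty (PowerSeries.X * (PowerSeries.X * g)) := by
      rw [hf1]
      simp only [map_mul, PowerSeries.toMvPowerSeries_X]
      ring
    rw [e3] at h3
    have h3' : ty (PowerSeries.X * (PowerSeries.X * g)) ∈ J :=
      (Ideal.add_mem_iff_right J (J.mul_mem_right _ hxy)).1 h3
    have h4 := (xpart J 1 (b' + 1) hb hbmin _).1 h3'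
    intro j hj
    have := h4 (j + 2) hj
    rwa [show j + 2 = (j + 1) + 1 from rfl, PowerSeries.coeff_succ_X_mul,
      PowerSeries.coeff_succ_X_mul] at this
  -- A4
  have hXg : X 1 * ty g = ty (PowerSeries.X * g) := by
    rw [map_mul, PowerSeries.toMvPowerSeries_X]
  have A4 : (∀ i < a, PowerSeries.coeff i f = 0) ↔
      (∀ j, j + 1 < b' + 1 → PowerSeries.coeff j g = 0) := by
    constructor
    · intro h
      have htx : tx f ∈ J := (xpart J 0 a ha hamin f).2 h
      have hty : X 1 * ty g ∈ J := (Ideal.add_mem_iff_right J htx).1 hK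
      rw [hXg] at hty
      have h4 := (xpart J 1 (b' + 1) hb hbmin _).1 hty
      intro j hj
      have := h4 (j + 1) hj
      rwa [PowerSeries.coeff_succ_X_mul] at this
    · intro h
      have h4 : ∀ j < b' + 1, PowerSeries.coeff j (PowerSeries.X * g) = 0 := by
        intro j hj
        cases j with
        | zero => exact PowerSeries.coeff_zero_X_mul g
        | succ j =>
          rw [PowerSeries.coeff_succ_X_mul]
          exact h j hj
      have hty : X 1 * ty g ∈ J := by
        rw [hXg]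
        exact (xpart J 1 (b' + 1) hb hbmin _).2 h4
      have htx : tx f ∈ J := (Ideal.add_mem_iff_left J hty).1 hK
      exact (xpart J 0 a ha hamin f).1 htx
  refine ⟨?_, ?_, ?_, ?_⟩
  · intro i hi
    rw [hu]
    exact A1 _ hi
  · intro i hi
    rw [hu, hi]
    exact hf0
  · intro j hj
    rw [hv]
    exact A3 _ (by omega)
  · have hu0 : (TT a b' F).1 = 0 ↔ ∀ i, i < a → PowerSeries.coeff i f = 0 := by
      constructor
      · intro h i hi
        have := congrFun h ⟨i, hi⟩
        rw [hu] at this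
        exact this
      · intro h
        funext i
        rw [hu]
        exact h i i.2
    have hv0 : (TT a b' F).2 = 0 ↔ ∀ j, j + 1 < b' + 1 → PowerSeries.coeff j g = 0 := by
      constructor
      · intro h j hj
        have := congrFun h ⟨j, by omega⟩
        rw [hv] at this
        exact this
      · intro h
        funext j
        rw [hv]
        exact h j (by have := j.2; omega)
    rw [hu0, hv0]
    exact A4

theorem main (J : Ideal (MvPowerSeries (Fin 2) k))
    (hxy : (MvPowerSeries.X 0 * MvPowerSeries.X 1 : MvPowerSeries (Fin 2) k) ∈ J)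
    [Module.Finite k (MvPowerSeries (Fin 2) k ⧸ J)] (n : ℕ)
    (hn : Module.finrank k (MvPowerSeries (Fin 2) k ⧸ J) = n)
    (h2 : 2 ≤ n) :
    ∃ a b : ℕ, 1 ≤ a ∧ 1 ≤ b ∧
      ((a + b = n + 1 ∧
        J = Ideal.span {MvPowerSeries.X 0 * MvPowerSeries.X 1, MvPowerSeries.X 0 ^ a, MvPowerSeries.X 1 ^ b}) ∨
       (a + b = n ∧ ∃ α : k, α ≠ 0 ∧
        J = Ideal.span {MvPowerSeries.X 0 * MvPowerSeries.X 1,
          MvPowerSeries.X 0 ^ a + MvPowerSeries.C α * MvPowerSeries.X 1 ^ b})) := by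
  classical
  have hJ : J ≠ ⊤ := by
    intro h
    haveI : Subsingleton (MvPowerSeries (Fin 2) k ⧸ J) := Ideal.Quotient.subsingleton_iff.2 h
    rw [Module.finrank_zero_of_subsingleton] at hn
    omega
  have hx := exists_pow J 0
  have hy := exists_pow J 1
  obtain ⟨a, ha, hamin⟩ : ∃ a, (X 0 : MvPowerSeries (Fin 2) k) ^ a ∈ J ∧
      ∀ m < a, (X 0 : MvPowerSeries (Fin 2) k) ^ m ∉ J :=
    ⟨Nat.find hx, Nat.find_spec hx, fun m hm => Nat.find_min hx hm⟩
  obtain ⟨b, hb, hbmin⟩ : ∃ b, (X 1 : MvPowerSeries (Fin 2) k) ^ b ∈ J ∧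
      ∀ m < b, (X 1 : MvPowerSeries (Fin 2) k) ^ m ∉ J :=
    ⟨Nat.find hy, Nat.find_spec hy, fun m hm => Nat.find_min hy hm⟩
  have ha1 : 1 ≤ a := by
    by_contra h
    have h0 : a = 0 := by omega
    rw [h0, pow_zero] at ha
    exact hJ ((Ideal.eq_top_iff_one J).2 ha)
  have hb1 : 1 ≤ b := by
    by_contra h
    have h0 : b = 0 := by omega
    rw [h0, pow_zero] at hb
    exact hJ ((Ideal.eq_top_iff_one J).2 hb)
  obtain ⟨b', rfl⟩ : ∃ b', b = b' + 1 := ⟨b - 1, by omega⟩
  have hI0J : I0 a (b' + 1) ≤ J := by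
    rw [I0, Ideal.span_le]
    rintro x (rfl | rfl | rfl)
    · exact hxy
    · exact ha
    · exact hb
  have hkey := key J hxy hJ a b' ha hamin hb hbmin
  have hker : ∀ F, TT a b' F = 0 → F ∈ J := fun F hF => hI0J (ker_TT_le a b' F hF)
  have hdim := finrank_quot (TT a b') (TT_surjective a b') J hker
  rw [hn, Module.finrank_prod, Module.finrank_fin_fun, Module.finrank_fin_fun] at hdim
  by_cases hW0 : Submodule.map (TT a b') (J.restrictScalars k) = ⊥
  · refine ⟨a, b' + 1, ha1, by omega, Or.inl ⟨?_, ?_⟩⟩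
    · rw [hW0, finrank_bot] at hdim
      omega
    · apply le_antisymm
      · intro F hF
        have h1 : TT a b' F ∈ Submodule.map (TT a b') (J.restrictScalars k) := ⟨F, hF, rfl⟩
        rw [hW0, Submodule.mem_bot] at h1
        exact ker_TT_le a b' F h1
      · exact hI0J
  · obtain ⟨w1, hw1W, hw1⟩ := Submodule.exists_mem_ne_zero_of_ne_bot hW0
    obtain ⟨F1, hF1, rfl⟩ := hw1W
    have hF1' : F1 ∈ J := hF1
    obtain ⟨k1, k2, k3, k4⟩ := hkey F1 hF1'
    have hu1 : (TT a b' F1).1 ≠ 0 := by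
      intro h
      exact hw1 (Prod.ext h (k4.1 h))
    have hv1 : (TT a b' F1).2 ≠ 0 := by
      intro h
      exact hw1 (Prod.ext (k4.2 h) h)
    obtain ⟨i1, hi1⟩ := Function.ne_iff.1 hu1
    obtain ⟨j1, hj1⟩ := Function.ne_iff.1 hv1
    rw [Pi.zero_apply] at hi1 hj1
    have hi1a : (i1 : ℕ) + 1 = a := by
      by_contra h
      have h' : (i1 : ℕ) + 1 < a := by
        have := i1.2
        omega
      exact hi1 (k1 i1 h')
    have hi10 : (i1 : ℕ) ≠ 0 := fun h => hi1 (k2 i1 h)
    have hj1b : (j1 : ℕ) + 1 = b' := by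
      by_contra h
      have h' : (j1 : ℕ) + 1 < b' := by
        have := j1.2
        omega
      exact hj1 (k3 j1 h')
    obtain ⟨s1, hs1⟩ : ∃ s, s = (TT a b' F1).1 i1 := ⟨_, rfl⟩
    obtain ⟨t1, ht1⟩ : ∃ t, t = (TT a b' F1).2 j1 := ⟨_, rfl⟩
    rw [← hs1] at hi1
    rw [← ht1] at hj1
    have hXa : (X 0 : MvPowerSeries (Fin 2) k) ^ a = X 0 ^ (i1 : ℕ) * X 0 :=
      (congrArg (fun m => (X 0 : MvPowerSeries (Fin 2) k) ^ m) hi1a).symm.trans (pow_succ _ _)
    have hXb : (X 1 : MvPowerSeries (Fin 2) k) ^ b' = X 1 ^ (j1 : ℕ) * X 1 :=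
      (congrArg (fun m => (X 1 : MvPowerSeries (Fin 2) k) ^ m) hj1b).symm.trans (pow_succ _ _)
    -- proportionality
    have hL : ∀ F ∈ J, TT a b' F = ((TT a b' F).1 i1 / s1) • TT a b' F1 := by
      intro F hF
      obtain ⟨c, hc⟩ : ∃ c, c = (TT a b' F).1 i1 / s1 := ⟨_, rfl⟩
      rw [← hc]
      have e5 : C c * F1 = c • F1 := (smul_eq_C_mul _ _).symm
      have hF' : F - c • F1 ∈ J := by
        rw [← e5]
        exact J.sub_mem hF (J.mul_mem_left _ hF1')
      obtain ⟨m1, m2, m3, m4⟩ := hkey _ hF'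
      have hTT : TT a b' (F - c • F1) = TT a b' F - c • TT a b' F1 := by
        rw [map_sub, map_smul]
      have hfst : (TT a b' (F - c • F1)).1 = 0 := by
        funext i
        by_cases hi : i = i1
        · rw [hi, hTT]
          simp only [Prod.fst_sub, Prod.smul_fst, Pi.sub_apply, Pi.smul_apply, smul_eq_mul,
            Pi.zero_apply]
          rw [← hs1, hc, div_mul_cancel₀ _ hi1, sub_self]
        · have h' : (i : ℕ) + 1 < a := by
            have h1 := i.2
            have h2 : (i : ℕ) ≠ (i1 : ℕ) := fun h => hi (Fin.ext h)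
            omega
          exact m1 i h'
      have hsnd := m4.1 hfst
      have h0 : TT a b' (F - c • F1) = 0 := Prod.ext hfst hsnd
      rw [hTT, sub_eq_zero] at h0
      exact h0
    have hWspan : Submodule.map (TT a b') (J.restrictScalars k) =
        Submodule.span k {TT a b' F1} := by
      apply le_antisymm
      · rintro w ⟨F, hF, rfl⟩
        rw [hL F hF]
        exact Submodule.smul_mem _ _ (Submodule.mem_span_singleton_self _)
      · rw [Submodule.span_le, Set.singleton_subset_iff]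
        exact ⟨F1, hF1, rfl⟩
    rw [hWspan, finrank_span_singleton hw1] at hdim
    -- the generator
    obtain ⟨α, hαdef⟩ : ∃ α, α = t1 / s1 := ⟨_, rfl⟩
    have hα : α ≠ 0 := by
      rw [hαdef]
      exact div_ne_zero hj1 hi1
    have hT0 : TT a b' (X 0 ^ (i1 : ℕ) + C α * X 1 ^ b') = s1⁻¹ • TT a b' F1 := by
      have e : (X 0 ^ (i1 : ℕ) + C α * X 1 ^ b' : MvPowerSeries (Fin 2) k) =
          X 0 * X 1 * 0 + (tx (PowerSeries.X ^ (i1 : ℕ)) +
            X 1 * ty (PowerSeries.C α * PowerSeries.X ^ (j1 : ℕ))) := by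
        simp only [map_mul, map_pow, PowerSeries.toMvPowerSeries_X,
          PowerSeries.toMvPowerSeries_C, mul_zero, zero_add]
        rw [hXb]
        ring
      refine Prod.ext ?_ ?_
      · funext i
        rw [TT_fst, e, nf_coeff0, PowerSeries.coeff_X_pow]
        simp only [Prod.smul_fst, Pi.smul_apply, smul_eq_mul]
        by_cases hi : i = i1
        · rw [hi, if_pos rfl, ← hs1, inv_mul_cancel₀ hi1]
        · have h2 : (i : ℕ) ≠ (i1 : ℕ) := fun h => hi (Fin.ext h)
          have h' : (i : ℕ) + 1 < a := by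
            have h1 := i.2
            omega
          rw [if_neg h2, k1 i h', mul_zero]
      · funext j
        rw [TT_snd, e, nf_coeff1, PowerSeries.coeff_C_mul, PowerSeries.coeff_X_pow]
        simp only [Prod.smul_snd, Pi.smul_apply, smul_eq_mul]
        by_cases hj : j = j1
        · rw [hj, if_pos rfl, mul_one, ← ht1, hαdef, div_eq_mul_inv, mul_comm]
        · have h2 : (j : ℕ) ≠ (j1 : ℕ) := fun h => hj (Fin.ext h)
          have h' : (j : ℕ) + 1 < b' := by
            have h1 := j.2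
            omega
          rw [if_neg h2, k3 j h', mul_zero, mul_zero]
    have hh0J : (X 0 ^ (i1 : ℕ) + C α * X 1 ^ b' : MvPowerSeries (Fin 2) k) ∈ J := by
      have e5 : C s1⁻¹ * F1 = s1⁻¹ • F1 := (smul_eq_C_mul _ _).symm
      have h1 : TT a b' ((X 0 ^ (i1 : ℕ) + C α * X 1 ^ b') - s1⁻¹ • F1) = 0 := by
        rw [map_sub, map_smul, hT0, sub_self]
      have h2 := J.add_mem (hker _ h1) (J.mul_mem_left (C s1⁻¹) hF1')
      rw [e5, sub_add_cancel] at h2
      exact h2
    obtain ⟨h0, hh0⟩ : ∃ h : MvPowerSeries (Fin 2) k, h = X 0 ^ (i1 : ℕ) + C α * X 1 ^ b' :=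
      ⟨_, rfl⟩
    rw [← hh0] at hT0 hh0J
    have hm1 : (X 0 * X 1 : MvPowerSeries (Fin 2) k) ∈
        Ideal.span {(X 0 * X 1 : MvPowerSeries (Fin 2) k), h0} :=
      Ideal.subset_span (Set.mem_insert _ _)
    have hm2 : h0 ∈ Ideal.span {(X 0 * X 1 : MvPowerSeries (Fin 2) k), h0} :=
      Ideal.subset_span (Set.mem_insert_of_mem _ (Set.mem_singleton _))
    have hI0span : I0 a (b' + 1) ≤ Ideal.span {(X 0 * X 1 : MvPowerSeries (Fin 2) k), h0} := by
      rw [I0, Ideal.span_le]
      rintro x (rfl | rfl | rfl)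
      · exact hm1
      · have e : (X 0 ^ a : MvPowerSeries (Fin 2) k) =
            X 0 * h0 - (C α * X 1 ^ (j1 : ℕ)) * (X 0 * X 1) := by
          rw [hXa, hh0, hXb]
          ring
        rw [SetLike.mem_coe, e]
        exact Ideal.sub_mem _ (Ideal.mul_mem_left _ _ hm2) (Ideal.mul_mem_left _ _ hm1)
      · obtain ⟨i0, hi0⟩ : ∃ m, (i1 : ℕ) = m + 1 := ⟨(i1 : ℕ) - 1, by omega⟩
        have e1 : X 1 * h0 - X 0 ^ i0 * (X 0 * X 1) =
            C α * (X 1 ^ (b' + 1) : MvPowerSeries (Fin 2) k) := by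
          rw [hh0, hi0]
          ring
        have e : (X 1 ^ (b' + 1) : MvPowerSeries (Fin 2) k) =
            C α⁻¹ * (X 1 * h0 - X 0 ^ i0 * (X 0 * X 1)) := by
          rw [e1, ← mul_assoc, ← map_mul, inv_mul_cancel₀ hα, map_one, one_mul]
        rw [SetLike.mem_coe, e]
        exact Ideal.mul_mem_left _ _
          (Ideal.sub_mem _ (Ideal.mul_mem_left _ _ hm2) (Ideal.mul_mem_left _ _ hm1))
    refine ⟨(i1 : ℕ), b', by omega, by omega, Or.inr ⟨by omega, α, hα, ?_⟩⟩
    rw [← hh0]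
    apply le_antisymm
    · intro F hF
      obtain ⟨c, hc⟩ : ∃ c, c = (TT a b' F).1 i1 / s1 := ⟨_, rfl⟩
      have hLF := hL F hF
      rw [← hc] at hLF
      have e5 : C (c * s1) * h0 = (c * s1) • h0 := (smul_eq_C_mul _ _).symm
      have h1 : TT a b' (F - (c * s1) • h0) = 0 := by
        rw [map_sub, map_smul, hT0, smul_smul, mul_assoc, mul_inv_cancel₀ hi1, mul_one, ← hLF,
          sub_self]
      have h2 := hI0span (ker_TT_le a b' _ h1)
      have h3 := Ideal.add_mem _ h2 (Ideal.mul_mem_left _ (C (c * s1)) hm2)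
      rw [e5, sub_add_cancel] at h3
      exact h3
    · rw [Ideal.span_le]
      rintro x (rfl | rfl)
      · exact hxy
      · exact hh0J

end Groth.Agent.H9.NodeIdeal
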