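import Mathlib
import Groth.Prelude.Def_W4c5spincurvestfNode

/-!
# The polynomial node `R[x,y]/(xy - c)`: normal form and sections of `O(n)` on the blown-up node
-/

set_option autoImplicit false
set_option linter.unusedSectionVars false
set_option linter.unusedVariables false

namespace Groth.Agent.H9.NodeTw

open MvPolynomial

variable {R : Type*} [CommRing R]

/-- the defining ideal -/
noncomputable abbrev I (c : R) : Ideal (MvPolynomial (Fin 2) R) :=
  Ideal.span {(X 0 * X 1 - C c : MvPolynomial (Fin 2) R)}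

/-- `x^a y^b ↦ c^min(a,b) e_{a-b}`. -/
noncomputable def psi (c : R) : MvPolynomial (Fin 2) R →ₗ[R] (ℤ →₀ R) :=
  (MvPolynomial.basisMonomials (Fin 2) R).constr R
    (fun m => Finsupp.single ((m 0 : ℤ) - (m 1 : ℤ)) (c ^ min (m 0) (m 1)))

theorem psi_monomial (c : R) (m : Fin 2 →₀ ℕ) (r : R) :
    psi c (monomial m r) =
      Finsupp.single ((m 0 : ℤ) - (m 1 : ℤ)) (r * c ^ min (m 0) (m 1)) := by
  have h : (monomial m r : MvPolynomial (Fin 2) R) = r • (basisMonomials (Fin 2) R) m := by
    simp only [coe_basisMonomials, smul_monomial, smul_eq_mul, mul_one]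
  rw [h, map_smul, psi, Module.Basis.constr_basis, Finsupp.smul_single, smul_eq_mul]

theorem psi_kills (c : R) (P : MvPolynomial (Fin 2) R) :
    psi c ((X 0 * X 1 - C c) * P) = 0 := by
  induction P using MvPolynomial.induction_on' with
  | monomial m r =>
    have h1 : (X 0 * X 1 : MvPolynomial (Fin 2) R) =
        monomial (Finsupp.single 0 1 + Finsupp.single 1 1) 1 := by
      rw [X, X, monomial_mul, one_mul]
    have e0 : (Finsupp.single (0 : Fin 2) 1 + Finsupp.single 1 1 + m : Fin 2 →₀ ℕ) 0 = m 0 + 1 := by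
      simp [add_comm]
    have e1 : (Finsupp.single (0 : Fin 2) 1 + Finsupp.single 1 1 + m : Fin 2 →₀ ℕ) 1 = m 1 + 1 := by
      simp [add_comm]
    have e2 : min (m 0 + 1) (m 1 + 1) = min (m 0) (m 1) + 1 := by omega
    have e3 : ((m 0 + 1 : ℕ) : ℤ) - ((m 1 + 1 : ℕ) : ℤ) = (m 0 : ℤ) - (m 1 : ℤ) := by
      push_cast; ring
    rw [sub_mul, map_sub, h1, monomial_mul, C_mul_monomial, psi_monomial, psi_monomial,
      e0, e1, e2, e3, sub_eq_zero]
    congr 1
    ring
  | add p q hp hq => rw [mul_add, map_add, hp, hq, add_zero]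

/-- the normal-form monomials -/
noncomputable def mon (m : ℤ) : MvPolynomial (Fin 2) R :=
  if 0 ≤ m then X 0 ^ m.toNat else X 1 ^ (-m).toNat

noncomputable def phi' : (ℤ →₀ R) →ₗ[R] MvPolynomial (Fin 2) R :=
  Finsupp.linearCombination R (mon (R := R))

theorem phi'_single (m : ℤ) (r : R) : phi' (Finsupp.single m r) = r • mon m := by
  rw [phi', Finsupp.linearCombination_single]

theorem psi_mon (c : R) (m : ℤ) : psi c (mon m) = Finsupp.single m 1 := by
  unfold mon
  split_ifs with h
  · have e0 : (Finsupp.single (0 : Fin 2) m.toNat) 0 = m.toNat := Finsupp.single_eq_same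
    have e1 : (Finsupp.single (0 : Fin 2) m.toNat) 1 = 0 :=
      Finsupp.single_eq_of_ne (by decide)
    rw [X_pow_eq_monomial, psi_monomial, e0, e1, Nat.min_zero, pow_zero, mul_one,
      Nat.cast_zero, sub_zero, Int.toNat_of_nonneg h]
  · have h' : (0 : ℤ) ≤ -m := by omega
    have e0 : (Finsupp.single (1 : Fin 2) (-m).toNat) 0 = 0 :=
      Finsupp.single_eq_of_ne (by decide)
    have e1 : (Finsupp.single (1 : Fin 2) (-m).toNat) 1 = (-m).toNat := Finsupp.single_eq_same
    rw [X_pow_eq_monomial, psi_monomial, e0, e1, Nat.zero_min, pow_zero, mul_one,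
      Nat.cast_zero, zero_sub, Int.toNat_of_nonneg h', neg_neg]

theorem psi_phi' (c : R) (G : ℤ →₀ R) : psi c (phi' G) = G := by
  induction G using Finsupp.induction_linear with
  | zero => simp
  | add f g hf hg => rw [map_add, map_add, hf, hg]
  | single m r =>
    rw [phi'_single, map_smul, psi_mon, Finsupp.smul_single, smul_eq_mul, mul_one]

/-- the normal form parametrisation of `R[x,y]/(xy-c)` -/
noncomputable def phi (c : R) : (ℤ →₀ R) →ₗ[R] SpinCurv.PolyNodeRing R c :=
  (Ideal.Quotient.mkₐ R (I c)).toLinearMap.comp phi'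

theorem phi_apply (c : R) (G : ℤ →₀ R) :
    phi c G = Ideal.Quotient.mk (I c) (phi' G) := rfl

theorem phi_single (c : R) (m : ℤ) (r : R) :
    phi c (Finsupp.single m r) = r • Ideal.Quotient.mk (I c) (mon m) := by
  rw [phi, LinearMap.comp_apply, phi'_single, map_smul]
  rfl

theorem phi_injective (c : R) : Function.Injective (phi c) := by
  refine (injective_iff_map_eq_zero (phi c)).2 (fun G hG => ?_)
  have h1 : (Ideal.Quotient.mk (I c)) (phi' G) = 0 := hG
  rw [Ideal.Quotient.eq_zero_iff_mem, Ideal.mem_span_singleton] at h1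
  obtain ⟨P, hP⟩ := h1
  rw [← psi_phi' c G, hP, psi_kills]

theorem monomial_eq' (m : Fin 2 →₀ ℕ) (r : R) :
    (monomial m r : MvPolynomial (Fin 2) R) = C r * X 0 ^ m 0 * X 1 ^ m 1 := by
  rw [monomial_eq, Finsupp.prod_fintype _ _ (fun i => pow_zero _), Fin.prod_univ_two, mul_assoc]

theorem mk_xy (c : R) :
    Ideal.Quotient.mk (I c) (X 0) * Ideal.Quotient.mk (I c) (X 1) =
      Ideal.Quotient.mk (I c) (C c) := by
  rw [← map_mul, Ideal.Quotient.eq]
  exact Ideal.subset_span rfl

theorem mk_monomial (c : R) (m : Fin 2 →₀ ℕ) (r : R) :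
    Ideal.Quotient.mk (I c) (monomial m r) = phi c (psi c (monomial m r)) := by
  have hxy := mk_xy c
  rw [psi_monomial, phi_apply, phi'_single, monomial_eq']
  rcases le_total (m 1) (m 0) with h | h
  · obtain ⟨d, hd⟩ := Nat.exists_eq_add_of_le h
    have hmon : mon (R := R) ((m 0 : ℤ) - (m 1 : ℤ)) = X 0 ^ d := by
      unfold mon
      rw [if_pos (by omega)]
      congr 1
      omega
    rw [hmon, min_eq_right h, hd, smul_eq_C_mul, C_mul, C_pow]
    simp only [map_mul, map_pow]
    rw [← hxy]
    ring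
  · obtain ⟨d, hd⟩ := Nat.exists_eq_add_of_le h
    have hmon : mon (R := R) ((m 0 : ℤ) - (m 1 : ℤ)) = X 1 ^ d := by
      unfold mon
      by_cases hd0 : d = 0
      · rw [if_pos (by omega)]
        have : ((m 0 : ℤ) - (m 1 : ℤ)).toNat = 0 := by omega
        rw [this, hd0, pow_zero, pow_zero]
      · rw [if_neg (by omega)]
        congr 1
        omega
    rw [hmon, min_eq_left h, hd, smul_eq_C_mul, C_mul, C_pow]
    simp only [map_mul, map_pow]
    rw [← hxy]
    ring

theorem mk_eq (c : R) (P : MvPolynomial (Fin 2) R) :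
    Ideal.Quotient.mk (I c) P = phi c (psi c P) := by
  induction P using MvPolynomial.induction_on' with
  | monomial m r => exact mk_monomial c m r
  | add p q hp hq => rw [map_add, hp, hq, map_add, map_add]

theorem phi_surjective (c : R) : Function.Surjective (phi c) := by
  intro a
  obtain ⟨P, rfl⟩ := Ideal.Quotient.mk_surjective a
  exact ⟨psi c P, (mk_eq c P).symm⟩

/-- weights -/
noncomputable def u (c : R) (m : ℤ) : R := if 0 ≤ m then 1 else c ^ (-m).toNat

theorem gUmon (q : R) (gU : SpinCurv.PolyNodeRing R q →ₐ[R] LaurentPolynomial R)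
    (hs : gU (SpinCurv.PolyNodeRing.x R q) = LaurentPolynomial.T 1)
    (hy : gU (SpinCurv.PolyNodeRing.y R q) = LaurentPolynomial.C q * LaurentPolynomial.T (-1))
    (m : ℤ) : gU (Ideal.Quotient.mk (I q) (mon m)) = AddMonoidAlgebra.single m (u q m) := by
  have hs' : gU (Ideal.Quotient.mk (I q) (X 0)) = LaurentPolynomial.T 1 := hs
  have hy' : gU (Ideal.Quotient.mk (I q) (X 1)) =
      LaurentPolynomial.C q * LaurentPolynomial.T (-1) := hy
  unfold mon u
  split_ifs with h
  · rw [map_pow, map_pow, hs', LaurentPolynomial.T_pow, mul_one, Int.toNat_of_nonneg h,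
      LaurentPolynomial.single_eq_C_mul_T, map_one, one_mul]
  · have h' : (0 : ℤ) ≤ -m := by omega
    rw [map_pow, map_pow, hy', mul_pow, ← map_pow, LaurentPolynomial.T_pow,
      Int.toNat_of_nonneg h', LaurentPolynomial.single_eq_C_mul_T]
    congr 2
    ring

theorem gVmon (p : R) (gV : SpinCurv.PolyNodeRing R p →ₐ[R] LaurentPolynomial R)
    (ht : gV (SpinCurv.PolyNodeRing.x R p) = LaurentPolynomial.T (-1))
    (hx : gV (SpinCurv.PolyNodeRing.y R p) = LaurentPolynomial.C p * LaurentPolynomial.T 1)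
    (m : ℤ) : gV (Ideal.Quotient.mk (I p) (mon m)) = AddMonoidAlgebra.single (-m) (u p m) := by
  have ht' : gV (Ideal.Quotient.mk (I p) (X 0)) = LaurentPolynomial.T (-1) := ht
  have hx' : gV (Ideal.Quotient.mk (I p) (X 1)) =
      LaurentPolynomial.C p * LaurentPolynomial.T 1 := hx
  unfold mon u
  split_ifs with h
  · rw [map_pow, map_pow, ht', LaurentPolynomial.T_pow, Int.toNat_of_nonneg h,
      LaurentPolynomial.single_eq_C_mul_T, map_one, one_mul]
    congr 1
    ring
  · have h' : (0 : ℤ) ≤ -m := by omega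
    rw [map_pow, map_pow, hx', mul_pow, ← map_pow, LaurentPolynomial.T_pow,
      Int.toNat_of_nonneg h', LaurentPolynomial.single_eq_C_mul_T, mul_one]

theorem gU_coeff (q : R) (gU : SpinCurv.PolyNodeRing R q →ₐ[R] LaurentPolynomial R)
    (hs : gU (SpinCurv.PolyNodeRing.x R q) = LaurentPolynomial.T 1)
    (hy : gU (SpinCurv.PolyNodeRing.y R q) = LaurentPolynomial.C q * LaurentPolynomial.T (-1))
    (G : ℤ →₀ R) (i : ℤ) : (gU (phi q G)).coeff i = u q i * G i := by
  induction G using Finsupp.induction_linear with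
  | zero => simp
  | add f g hf hg =>
    rw [map_add, map_add, AddMonoidAlgebra.coeff_add, Finsupp.add_apply, hf, hg,
      Finsupp.add_apply, mul_add]
  | single m r =>
    rw [phi_single, map_smul, gUmon q gU hs hy, AddMonoidAlgebra.coeff_smul,
      AddMonoidAlgebra.coeff_single, Finsupp.smul_apply, smul_eq_mul]
    by_cases h : i = m
    · subst h
      rw [Finsupp.single_eq_same, Finsupp.single_eq_same]
      ring
    · rw [Finsupp.single_apply, if_neg (Ne.symm h), Finsupp.single_apply, if_neg (Ne.symm h),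
        mul_zero, mul_zero]

theorem gV_coeff (p : R) (gV : SpinCurv.PolyNodeRing R p →ₐ[R] LaurentPolynomial R)
    (ht : gV (SpinCurv.PolyNodeRing.x R p) = LaurentPolynomial.T (-1))
    (hx : gV (SpinCurv.PolyNodeRing.y R p) = LaurentPolynomial.C p * LaurentPolynomial.T 1)
    (F : ℤ →₀ R) (j : ℤ) : (gV (phi p F)).coeff j = u p (-j) * F (-j) := by
  induction F using Finsupp.induction_linear with
  | zero => simp
  | add f g hf hg =>
    rw [map_add, map_add, AddMonoidAlgebra.coeff_add, Finsupp.add_apply, hf, hg,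
      Finsupp.add_apply, mul_add]
  | single m r =>
    rw [phi_single, map_smul, gVmon p gV ht hx, AddMonoidAlgebra.coeff_smul,
      AddMonoidAlgebra.coeff_single, Finsupp.smul_apply, smul_eq_mul]
    by_cases h : j = -m
    · subst h
      rw [neg_neg, Finsupp.single_eq_same, Finsupp.single_eq_same]
      ring
    · have h1 : ¬ (-m = j) := fun e => h e.symm
      have h2 : ¬ (m = -j) := fun e => h (by omega)
      rw [Finsupp.single_apply, if_neg h1, Finsupp.single_apply, if_neg h2,
        mul_zero, mul_zero]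

/-- diagonal multiplication -/
noncomputable def dg (w : ℤ → R) : (ℤ →₀ R) →ₗ[R] (ℤ →₀ R) where
  toFun G := Finsupp.onFinset G.support (fun i => w i * G i) (fun i hi => by
    rw [Finsupp.mem_support_iff]
    intro h
    exact hi (by rw [h, mul_zero]))
  map_add' G H := by
    ext i
    simp only [Finsupp.onFinset_apply, Finsupp.add_apply, mul_add]
  map_smul' r G := by
    ext i
    simp only [Finsupp.onFinset_apply, Finsupp.smul_apply, smul_eq_mul, RingHom.id_apply]
    ring

theorem dg_apply (w : ℤ → R) (G : ℤ →₀ R) (i : ℤ) : dg w G i = w i * G i := rfl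

theorem sub_inj (n : ℤ) : Function.Injective (fun i : ℤ => n - i) := fun a b h => by
  simp only at h
  omega

/-- reflection `i ↦ n - i` -/
noncomputable def rf (n : ℤ) : (ℤ →₀ R) →ₗ[R] (ℤ →₀ R) :=
  Finsupp.lcomapDomain (fun i : ℤ => n - i) (sub_inj n)

theorem rf_apply (n : ℤ) (G : ℤ →₀ R) (i : ℤ) : rf n G i = G (n - i) := by
  rw [rf, Finsupp.lcomapDomain_apply, Finsupp.comapDomain_apply]

noncomputable def al (p : R) (n : ℤ) (i : ℤ) : R := if 0 ≤ i then u p (n - i) else 1

noncomputable def be (q : R) (i : ℤ) : R := if 0 ≤ i then 1 else u q i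

theorem key (p q : R) (n : ℤ) (hn : -1 ≤ n) (i : ℤ) :
    u q i * al p n i = u p (n - i) * be q i := by
  unfold al be
  split_ifs with h
  · have : u q i = 1 := by rw [u, if_pos h]
    rw [this]
    ring
  · have : u p (n - i) = 1 := by rw [u, if_pos (by omega)]
    rw [this]
    ring

noncomputable def Phi (p q : R) (n : ℤ) :
    (ℤ →₀ R) →ₗ[R] (SpinCurv.PolyNodeRing R q × SpinCurv.PolyNodeRing R p) :=
  ((phi q).comp (dg (al p n))).prod ((phi p).comp ((rf n).comp (dg (be q))))

theorem main (p q : R)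
    (gU : SpinCurv.PolyNodeRing R q →ₐ[R] LaurentPolynomial R)
    (hgUs : gU (SpinCurv.PolyNodeRing.x R q) = LaurentPolynomial.T 1)
    (hgUy : gU (SpinCurv.PolyNodeRing.y R q) = LaurentPolynomial.C q * LaurentPolynomial.T (-1))
    (gV : SpinCurv.PolyNodeRing R p →ₐ[R] LaurentPolynomial R)
    (hgVt : gV (SpinCurv.PolyNodeRing.x R p) = LaurentPolynomial.T (-1))
    (hgVx : gV (SpinCurv.PolyNodeRing.y R p) = LaurentPolynomial.C p * LaurentPolynomial.T 1)
    (n : ℤ) (hn : -1 ≤ n) :
    Module.Free R (LinearMap.ker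
      (gU.toLinearMap.comp (LinearMap.fst R (SpinCurv.PolyNodeRing R q) (SpinCurv.PolyNodeRing R p)) -
        (LinearMap.mulLeft R (LaurentPolynomial.T n)).comp
          (gV.toLinearMap.comp (LinearMap.snd R (SpinCurv.PolyNodeRing R q) (SpinCurv.PolyNodeRing R p))))) := by
  set L := (gU.toLinearMap.comp (LinearMap.fst R (SpinCurv.PolyNodeRing R q) (SpinCurv.PolyNodeRing R p)) -
        (LinearMap.mulLeft R (LaurentPolynomial.T n)).comp
          (gV.toLinearMap.comp (LinearMap.snd R (SpinCurv.PolyNodeRing R q) (SpinCurv.PolyNodeRing R p)))) with hL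
  have hL0 : ∀ a b, L (a, b) = gU a - LaurentPolynomial.T n * gV b := fun a b => rfl
  have hTc : ∀ (F : ℤ →₀ R) (i : ℤ),
      (LaurentPolynomial.T n * gV (phi p F)).coeff i = u p (n - i) * F (n - i) := by
    intro F i
    have e : -(-n + i) = n - i := by ring
    unfold LaurentPolynomial.T
    rw [AddMonoidAlgebra.coeff_single_mul_apply, one_mul, gV_coeff p gV hgVt hgVx, e]
  have hLc : ∀ (G F : ℤ →₀ R), L (phi q G, phi p F) = 0 ↔
      ∀ i, u q i * G i = u p (n - i) * F (n - i) := by
    intro G F
    rw [hL0, sub_eq_zero]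
    constructor
    · intro h i
      rw [← gU_coeff q gU hgUs hgUy, ← hTc, h]
    · intro h
      refine LaurentPolynomial.ext (fun i => ?_)
      rw [gU_coeff q gU hgUs hgUy, hTc, h]
  have hmem : ∀ H, Phi p q n H ∈ LinearMap.ker L := by
    intro H
    rw [LinearMap.mem_ker]
    have : Phi p q n H = (phi q (dg (al p n) H), phi p (rf n (dg (be q) H))) := rfl
    rw [this, hLc]
    intro i
    rw [dg_apply, rf_apply, dg_apply, sub_sub_cancel]
    have := key p q n hn i
    linear_combination (H i) * this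
  let Φ' := LinearMap.codRestrict (LinearMap.ker L) (Phi p q n) hmem
  have hinj : Function.Injective Φ' := by
    refine (injective_iff_map_eq_zero Φ').2 (fun H hH => ?_)
    have h0 : Phi p q n H = 0 := congrArg Subtype.val hH
    have h1 : phi q (dg (al p n) H) = 0 := congrArg Prod.fst h0
    have h2 : phi p (rf n (dg (be q) H)) = 0 := congrArg Prod.snd h0
    have h1' : dg (al p n) H = 0 := phi_injective q (h1.trans (map_zero _).symm)
    have h2' : rf n (dg (be q) H) = 0 := phi_injective p (h2.trans (map_zero _).symm)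
    ext i
    by_cases h : 0 ≤ i
    · have := DFunLike.congr_fun h2' (n - i)
      rw [rf_apply, dg_apply, sub_sub_cancel, be, if_pos h, one_mul] at this
      exact this
    · have := DFunLike.congr_fun h1' i
      rw [dg_apply, al, if_neg h, one_mul] at this
      exact this
  have hsurj : Function.Surjective Φ' := by
    rintro ⟨⟨g, f⟩, hgf⟩
    obtain ⟨G, rfl⟩ := phi_surjective q g
    obtain ⟨F, rfl⟩ := phi_surjective p f
    have hc := (hLc G F).1 (LinearMap.mem_ker.1 hgf)
    let H : ℤ →₀ R := (rf n F).filter (fun i => 0 ≤ i) + G.filter (fun i => i < 0)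
    have hH : ∀ i, H i = if 0 ≤ i then F (n - i) else G i := by
      intro i
      show ((rf n F).filter (fun i => 0 ≤ i) + G.filter (fun i => i < 0)) i = _
      rw [Finsupp.add_apply, Finsupp.filter_apply, Finsupp.filter_apply, rf_apply]
      by_cases h : 0 ≤ i
      · rw [if_pos h, if_pos h, if_neg (by omega), add_zero]
      · rw [if_neg h, if_neg h, if_pos (by omega), zero_add]
    have hG : dg (al p n) H = G := by
      ext i
      rw [dg_apply, hH, al]
      by_cases h : 0 ≤ i
      · rw [if_pos h, if_pos h, ← hc i, u, if_pos h, one_mul]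
      · rw [if_neg h, if_neg h, one_mul]
    have hF : rf n (dg (be q) H) = F := by
      ext j
      rw [rf_apply, dg_apply, hH, be]
      by_cases h : 0 ≤ n - j
      · rw [if_pos h, if_pos h, one_mul, sub_sub_cancel]
      · rw [if_neg h, if_neg h, hc (n - j), sub_sub_cancel]
        have : u p j = 1 := by rw [u, if_pos (by omega)]
        rw [this, one_mul]
    refine ⟨H, Subtype.ext ?_⟩
    show Phi p q n H = (phi q G, phi p F)
    have : Phi p q n H = (phi q (dg (al p n) H), phi p (rf n (dg (be q) H))) := rfl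
    rw [this, hG, hF]
  exact Module.Free.of_equiv (LinearEquiv.ofBijective Φ' ⟨hinj, hsurj⟩)

end Groth.Agent.H9.NodeTw
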