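import Mathlib
import Groth.Prelude.Def_W4c5spincurvestfNode
import Groth.Agent.Lib.Helper9.Misc.NodeTw

/-!
# Sections of `O(n)` on the blown-up polynomial node: presentation
-/

set_option autoImplicit false
set_option linter.unusedSectionVars false
set_option linter.unusedVariables false

namespace Groth.Agent.H9.NodeTw2

open MvPolynomial Groth.Agent.H9.NodeTw

variable {R : Type*} [CommRing R]

theorem mk_mon_nonneg (c : R) (j : ℤ) (h : 0 ≤ j) :
    Ideal.Quotient.mk (I c) (mon j) = SpinCurv.PolyNodeRing.x R c ^ j.toNat := by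
  unfold mon
  rw [if_pos h, map_pow]

theorem mk_mon_neg (c : R) (j : ℤ) (h : j < 0) :
    Ideal.Quotient.mk (I c) (mon j) = SpinCurv.PolyNodeRing.y R c ^ (-j).toNat := by
  unfold mon
  rw [if_neg (by omega), map_pow]

theorem x_mul_y (c : R) :
    SpinCurv.PolyNodeRing.x R c * SpinCurv.PolyNodeRing.y R c =
      algebraMap R (SpinCurv.PolyNodeRing R c) c :=
  mk_xy c

theorem smul_def' (c : R) (r : R) (z : SpinCurv.PolyNodeRing R c) :
    r • z = algebraMap R (SpinCurv.PolyNodeRing R c) r * z := Algebra.smul_def r z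

theorem dg_single (w : ℤ → R) (j : ℤ) (r : R) :
    dg w (Finsupp.single j r) = Finsupp.single j (w j * r) := by
  ext i
  rw [dg_apply, Finsupp.single_apply, Finsupp.single_apply]
  split_ifs with h
  · subst h
    rfl
  · rw [mul_zero]

theorem rf_single (n j : ℤ) (r : R) :
    rf n (Finsupp.single j r) = Finsupp.single (n - j) r := by
  ext i
  rw [rf_apply, Finsupp.single_apply, Finsupp.single_apply]
  by_cases h : j = n - i
  · rw [if_pos h, if_pos (by omega)]
  · rw [if_neg h, if_neg (by omega)]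

theorem Phi_apply (p q : R) (n : ℤ) (H : ℤ →₀ R) :
    Phi p q n H = (phi q (dg (al p n) H), phi p (rf n (dg (be q) H))) := rfl

theorem Phi_single (p q : R) (n j : ℤ) :
    Phi p q n (Finsupp.single j 1) =
      (al p n j • Ideal.Quotient.mk (I q) (mon j),
        be q j • Ideal.Quotient.mk (I p) (mon (n - j))) := by
  rw [Phi_apply, dg_single, dg_single, rf_single, phi_single, phi_single, mul_one, mul_one]

theorem al_of_gt (p : R) (n j : ℤ) (h0 : 0 ≤ n) (h : n < j) :
    al p n j = p ^ (j - n).toNat := by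
  unfold al u
  rw [if_pos (by omega), if_neg (by omega)]
  congr 1
  omega

theorem al_of_le (p : R) (n j : ℤ) (h : j ≤ n) : al p n j = 1 := by
  unfold al u
  split_ifs with h1 h2
  · rfl
  · exfalso
    omega
  · rfl

theorem be_of_nonneg (q : R) (j : ℤ) (h : 0 ≤ j) : be q j = 1 := by
  unfold be
  rw [if_pos h]

theorem be_of_neg (q : R) (j : ℤ) (h : j < 0) : be q j = q ^ (-j).toNat := by
  unfold be u
  rw [if_neg (by omega), if_neg (by omega)]

theorem Phi_injective (p q : R) (n : ℤ) : Function.Injective (Phi p q n) := by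
  refine (injective_iff_map_eq_zero (Phi p q n)).2 (fun H h0 => ?_)
  have h1 : phi q (dg (al p n) H) = 0 := congrArg Prod.fst h0
  have h2 : phi p (rf n (dg (be q) H)) = 0 := congrArg Prod.snd h0
  have h1' : dg (al p n) H = 0 := phi_injective q (h1.trans (map_zero _).symm)
  have h2' : rf n (dg (be q) H) = 0 := phi_injective p (h2.trans (map_zero _).symm)
  ext i
  by_cases h : 0 ≤ i
  · have := DFunLike.congr_fun h2' (n - i)
    rw [rf_apply, dg_apply, sub_sub_cancel, be, if_pos h, one_mul] at this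
    exact this
  · have := DFunLike.congr_fun h1' i
    rw [dg_apply, al, if_neg h, one_mul] at this
    exact this

theorem L_iff (p q : R)
    (gU : SpinCurv.PolyNodeRing R q →ₐ[R] LaurentPolynomial R)
    (hgUs : gU (SpinCurv.PolyNodeRing.x R q) = LaurentPolynomial.T 1)
    (hgUy : gU (SpinCurv.PolyNodeRing.y R q) = LaurentPolynomial.C q * LaurentPolynomial.T (-1))
    (gV : SpinCurv.PolyNodeRing R p →ₐ[R] LaurentPolynomial R)
    (hgVt : gV (SpinCurv.PolyNodeRing.x R p) = LaurentPolynomial.T (-1))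
    (hgVx : gV (SpinCurv.PolyNodeRing.y R p) = LaurentPolynomial.C p * LaurentPolynomial.T 1)
    (n : ℤ) (G F : ℤ →₀ R) :
    gU (phi q G) = LaurentPolynomial.T n * gV (phi p F) ↔
      ∀ i, u q i * G i = u p (n - i) * F (n - i) := by
  have hTc : ∀ (i : ℤ),
      (LaurentPolynomial.T n * gV (phi p F)).coeff i = u p (n - i) * F (n - i) := by
    intro i
    have e : -(-n + i) = n - i := by ring
    unfold LaurentPolynomial.T
    rw [AddMonoidAlgebra.coeff_single_mul_apply, one_mul, gV_coeff p gV hgVt hgVx, e]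
  constructor
  · intro h i
    rw [← gU_coeff q gU hgUs hgUy, ← hTc, h]
  · intro h
    refine LaurentPolynomial.ext (fun i => ?_)
    rw [gU_coeff q gU hgUs hgUy, hTc, h]

theorem Phi_surj (p q : R)
    (gU : SpinCurv.PolyNodeRing R q →ₐ[R] LaurentPolynomial R)
    (hgUs : gU (SpinCurv.PolyNodeRing.x R q) = LaurentPolynomial.T 1)
    (hgUy : gU (SpinCurv.PolyNodeRing.y R q) = LaurentPolynomial.C q * LaurentPolynomial.T (-1))
    (gV : SpinCurv.PolyNodeRing R p →ₐ[R] LaurentPolynomial R)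
    (hgVt : gV (SpinCurv.PolyNodeRing.x R p) = LaurentPolynomial.T (-1))
    (hgVx : gV (SpinCurv.PolyNodeRing.y R p) = LaurentPolynomial.C p * LaurentPolynomial.T 1)
    (n : ℤ) (hn : -1 ≤ n) (g : SpinCurv.PolyNodeRing R q) (f : SpinCurv.PolyNodeRing R p)
    (hgf : gU g = LaurentPolynomial.T n * gV f) : ∃ H, Phi p q n H = (g, f) := by
  obtain ⟨G, rfl⟩ := phi_surjective q g
  obtain ⟨F, rfl⟩ := phi_surjective p f
  have hc := (L_iff p q gU hgUs hgUy gV hgVt hgVx n G F).1 hgf
  let H : ℤ →₀ R := (rf n F).filter (fun i => 0 ≤ i) + G.filter (fun i => i < 0)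
  have hH : ∀ i, H i = if 0 ≤ i then F (n - i) else G i := by
    intro i
    show ((rf n F).filter (fun i => 0 ≤ i) + G.filter (fun i => i < 0)) i = _
    rw [Finsupp.add_apply, Finsupp.filter_apply, Finsupp.filter_apply, rf_apply]
    by_cases h : 0 ≤ i
    · rw [if_pos h, if_pos h, if_neg (by omega), add_zero]
    · rw [if_neg h, if_neg h, if_pos (by omega), zero_add]
  have hG : dg (al p n) H = G := by
    ext i
    rw [dg_apply, hH, al]
    by_cases h : 0 ≤ i
    · rw [if_pos h, if_pos h, ← hc i, u, if_pos h, one_mul]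
    · rw [if_neg h, if_neg h, one_mul]
  have hF : rf n (dg (be q) H) = F := by
    ext j
    rw [rf_apply, dg_apply, hH, be]
    by_cases h : 0 ≤ n - j
    · rw [if_pos h, if_pos h, one_mul, sub_sub_cancel]
    · rw [if_neg h, if_neg h, hc (n - j), sub_sub_cancel]
      have : u p j = 1 := by rw [u, if_pos (by omega)]
      rw [this, one_mul]
  refine ⟨H, ?_⟩
  rw [Phi_apply, hG, hF]

/-! ### the normal-form vectors -/

noncomputable def idx (n : ℕ) (j : ℤ) : Fin (n + 1) :=
  ⟨min ((n : ℤ) - j).toNat n, Nat.lt_succ_of_le (min_le_right _ _)⟩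

noncomputable def coef (c : R) (n : ℕ) (j : ℤ) : SpinCurv.PolyNodeRing R c :=
  if (n : ℤ) < j then SpinCurv.PolyNodeRing.x R c ^ (j - n).toNat
  else if 0 ≤ j then 1 else SpinCurv.PolyNodeRing.y R c ^ (-j).toNat

noncomputable def nu (c : R) (n : ℕ) (j : ℤ) : Fin (n + 1) → SpinCurv.PolyNodeRing R c :=
  Pi.single (idx n j) (coef c n j)

noncomputable def numap (c : R) (n : ℕ) :
    (ℤ →₀ R) →ₗ[R] (Fin (n + 1) → SpinCurv.PolyNodeRing R c) :=
  Finsupp.linearCombination R (nu c n)

theorem numap_single (c : R) (n : ℕ) (j : ℤ) (r : R) :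
    numap c n (Finsupp.single j r) = r • nu c n j := by
  rw [numap, Finsupp.linearCombination_single]

theorem nu_hi (c : R) (n k : ℕ) :
    nu c n ((n : ℤ) + k + 1) = Pi.single 0 (SpinCurv.PolyNodeRing.x R c ^ (k + 1)) := by
  unfold nu coef
  rw [if_pos (by omega)]
  have e1 : ((n : ℤ) + k + 1 - n).toNat = k + 1 := by omega
  have e2 : idx n ((n : ℤ) + k + 1) = 0 := by
    apply Fin.ext
    show min (((n : ℤ) - ((n : ℤ) + k + 1)).toNat) n = 0
    omega
  rw [e1, e2]

theorem nu_mid (c : R) (n : ℕ) (i : Fin (n + 1)) :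
    nu c n ((n : ℤ) - (i : ℕ)) = Pi.single i 1 := by
  have hi : (i : ℕ) ≤ n := Nat.lt_succ_iff.1 i.2
  unfold nu coef
  rw [if_neg (by omega), if_pos (by omega)]
  have e2 : idx n ((n : ℤ) - (i : ℕ)) = i := by
    apply Fin.ext
    show min (((n : ℤ) - ((n : ℤ) - (i : ℕ))).toNat) n = i
    omega
  rw [e2]

theorem nu_lo (c : R) (n k : ℕ) :
    nu c n (-((k : ℤ) + 1)) = Pi.single (Fin.last n) (SpinCurv.PolyNodeRing.y R c ^ (k + 1)) := by
  unfold nu coef
  rw [if_neg (by omega), if_neg (by omega)]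
  have e1 : (-(-((k : ℤ) + 1))).toNat = k + 1 := by omega
  have e2 : idx n (-((k : ℤ) + 1)) = Fin.last n := by
    apply Fin.ext
    show min (((n : ℤ) - -((k : ℤ) + 1)).toNat) n = n
    omega
  rw [e1, e2]

section

variable (p q : R)
  (rU : SpinCurv.PolyNodeRing R (p * q) →ₐ[R] SpinCurv.PolyNodeRing R q)
  (rV : SpinCurv.PolyNodeRing R (p * q) →ₐ[R] SpinCurv.PolyNodeRing R p)
  (n : ℕ)

noncomputable def Sig (F : Fin (n + 1) → SpinCurv.PolyNodeRing R (p * q)) :
    SpinCurv.PolyNodeRing R q × SpinCurv.PolyNodeRing R p :=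
  (∑ i : Fin (n + 1), rU (F i) * SpinCurv.PolyNodeRing.x R q ^ (n - (i : ℕ)),
   ∑ i : Fin (n + 1), rV (F i) * SpinCurv.PolyNodeRing.x R p ^ (i : ℕ))

noncomputable def SigL : (Fin (n + 1) → SpinCurv.PolyNodeRing R (p * q)) →ₗ[R]
    SpinCurv.PolyNodeRing R q × SpinCurv.PolyNodeRing R p where
  toFun := Sig p q rU rV n
  map_add' F F' := by
    simp only [Sig, Pi.add_apply, map_add, add_mul, Finset.sum_add_distrib, Prod.mk_add_mk]
  map_smul' r F := by
    simp only [Sig, Pi.smul_apply, map_smul, smul_mul_assoc, ← Finset.smul_sum, Prod.smul_mk,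
      RingHom.id_apply]

theorem SigL_apply (F : Fin (n + 1) → SpinCurv.PolyNodeRing R (p * q)) :
    SigL p q rU rV n F = Sig p q rU rV n F := rfl

theorem Sig_single (i : Fin (n + 1)) (a : SpinCurv.PolyNodeRing R (p * q)) :
    Sig p q rU rV n (Pi.single i a) =
      (rU a * SpinCurv.PolyNodeRing.x R q ^ (n - (i : ℕ)),
        rV a * SpinCurv.PolyNodeRing.x R p ^ (i : ℕ)) := by
  unfold Sig
  congr 1
  · rw [Fintype.sum_eq_single i]
    · rw [Pi.single_eq_same]
    · intro k hk
      rw [Pi.single_eq_of_ne hk, map_zero, zero_mul]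
  · rw [Fintype.sum_eq_single i]
    · rw [Pi.single_eq_same]
    · intro k hk
      rw [Pi.single_eq_of_ne hk, map_zero, zero_mul]

theorem Sig_smul (a : SpinCurv.PolyNodeRing R (p * q))
    (F : Fin (n + 1) → SpinCurv.PolyNodeRing R (p * q)) :
    Sig p q rU rV n (a • F) =
      (rU a * (Sig p q rU rV n F).1, rV a * (Sig p q rU rV n F).2) := by
  unfold Sig
  simp only [Pi.smul_apply, smul_eq_mul, map_mul, Finset.mul_sum, mul_assoc]

/-- the relation submodule -/
noncomputable def Nsub : Submodule (SpinCurv.PolyNodeRing R (p * q))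
    (Fin (n + 1) → SpinCurv.PolyNodeRing R (p * q)) :=
  Submodule.span (SpinCurv.PolyNodeRing R (p * q))
        (Set.range (fun i : Fin n =>
            (Pi.single (Fin.castSucc i) (algebraMap R (SpinCurv.PolyNodeRing R (p * q)) p) -
              Pi.single (Fin.succ i) (SpinCurv.PolyNodeRing.x R (p * q)) : Fin (n + 1) → SpinCurv.PolyNodeRing R (p * q))) ∪
         Set.range (fun i : Fin n =>
            (Pi.single (Fin.castSucc i) (SpinCurv.PolyNodeRing.y R (p * q)) -
              Pi.single (Fin.succ i) (algebraMap R (SpinCurv.PolyNodeRing R (p * q)) q) : Fin (n + 1) → SpinCurv.PolyNodeRing R (p * q))))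

noncomputable def W : Submodule R (Fin (n + 1) → SpinCurv.PolyNodeRing R (p * q)) :=
  (Nsub p q n).restrictScalars R ⊔ LinearMap.range (numap (p * q) n)

theorem mem_W_one (i : Fin (n + 1)) :
    (Pi.single i 1 : Fin (n + 1) → SpinCurv.PolyNodeRing R (p * q)) ∈ W p q n := by
  refine Submodule.mem_sup_right ⟨Finsupp.single ((n : ℤ) - (i : ℕ)) 1, ?_⟩
  rw [numap_single, one_smul, nu_mid]

theorem mem_W_x (k : ℕ) : ∀ i : Fin (n + 1),
    (Pi.single i (SpinCurv.PolyNodeRing.x R (p * q) ^ k) :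
      Fin (n + 1) → SpinCurv.PolyNodeRing R (p * q)) ∈ W p q n := by
  induction k with
  | zero =>
    intro i
    rw [pow_zero]
    exact mem_W_one p q n i
  | succ k ih =>
    intro i
    induction i using Fin.cases with
    | zero =>
      refine Submodule.mem_sup_right ⟨Finsupp.single ((n : ℤ) + k + 1) 1, ?_⟩
      rw [numap_single, one_smul, nu_hi]
    | succ i' =>
      have hgen : (Pi.single (Fin.castSucc i') (algebraMap R (SpinCurv.PolyNodeRing R (p * q)) p) -
          Pi.single (Fin.succ i') (SpinCurv.PolyNodeRing.x R (p * q)) :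
            Fin (n + 1) → SpinCurv.PolyNodeRing R (p * q)) ∈ Nsub p q n :=
        Submodule.subset_span (Or.inl ⟨i', rfl⟩)
      have h1 := (Nsub p q n).smul_mem (SpinCurv.PolyNodeRing.x R (p * q) ^ k) hgen
      have h2 := (W p q n).smul_mem p (ih (Fin.castSucc i'))
      have e1 : p • (Pi.single (Fin.castSucc i') (SpinCurv.PolyNodeRing.x R (p * q) ^ k) :
          Fin (n + 1) → SpinCurv.PolyNodeRing R (p * q)) =
          Pi.single (Fin.castSucc i') (SpinCurv.PolyNodeRing.x R (p * q) ^ k *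
            algebraMap R (SpinCurv.PolyNodeRing R (p * q)) p) := by
        rw [← Pi.single_smul', smul_def', mul_comm (algebraMap R (SpinCurv.PolyNodeRing R (p * q)) p)]
      have e2 : SpinCurv.PolyNodeRing.x R (p * q) ^ k •
          (Pi.single (Fin.castSucc i') (algebraMap R (SpinCurv.PolyNodeRing R (p * q)) p) -
          Pi.single (Fin.succ i') (SpinCurv.PolyNodeRing.x R (p * q)) :
            Fin (n + 1) → SpinCurv.PolyNodeRing R (p * q)) =
          Pi.single (Fin.castSucc i') (SpinCurv.PolyNodeRing.x R (p * q) ^ k *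
            algebraMap R (SpinCurv.PolyNodeRing R (p * q)) p) -
          Pi.single (Fin.succ i') (SpinCurv.PolyNodeRing.x R (p * q) ^ (k + 1)) := by
        rw [smul_sub, ← Pi.single_smul', ← Pi.single_smul', smul_eq_mul, smul_eq_mul, pow_succ]
      have e3 : (Pi.single (Fin.succ i') (SpinCurv.PolyNodeRing.x R (p * q) ^ (k + 1)) :
          Fin (n + 1) → SpinCurv.PolyNodeRing R (p * q)) =
          p • (Pi.single (Fin.castSucc i') (SpinCurv.PolyNodeRing.x R (p * q) ^ k) :
            Fin (n + 1) → SpinCurv.PolyNodeRing R (p * q)) -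
          SpinCurv.PolyNodeRing.x R (p * q) ^ k •
          (Pi.single (Fin.castSucc i') (algebraMap R (SpinCurv.PolyNodeRing R (p * q)) p) -
          Pi.single (Fin.succ i') (SpinCurv.PolyNodeRing.x R (p * q)) :
            Fin (n + 1) → SpinCurv.PolyNodeRing R (p * q)) := by
        rw [e1, e2, sub_sub_cancel]
      rw [e3]
      exact (W p q n).sub_mem h2 (Submodule.mem_sup_left h1)

theorem mem_W_y (k : ℕ) : ∀ i : Fin (n + 1),
    (Pi.single i (SpinCurv.PolyNodeRing.y R (p * q) ^ k) :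
      Fin (n + 1) → SpinCurv.PolyNodeRing R (p * q)) ∈ W p q n := by
  induction k with
  | zero =>
    intro i
    rw [pow_zero]
    exact mem_W_one p q n i
  | succ k ih =>
    intro i
    induction i using Fin.lastCases with
    | last =>
      refine Submodule.mem_sup_right ⟨Finsupp.single (-((k : ℤ) + 1)) 1, ?_⟩
      rw [numap_single, one_smul, nu_lo]
    | cast i' =>
      have hgen : (Pi.single (Fin.castSucc i') (SpinCurv.PolyNodeRing.y R (p * q)) -
          Pi.single (Fin.succ i') (algebraMap R (SpinCurv.PolyNodeRing R (p * q)) q) :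
            Fin (n + 1) → SpinCurv.PolyNodeRing R (p * q)) ∈ Nsub p q n :=
        Submodule.subset_span (Or.inr ⟨i', rfl⟩)
      have h1 := (Nsub p q n).smul_mem (SpinCurv.PolyNodeRing.y R (p * q) ^ k) hgen
      have h2 := (W p q n).smul_mem q (ih (Fin.succ i'))
      have e1 : q • (Pi.single (Fin.succ i') (SpinCurv.PolyNodeRing.y R (p * q) ^ k) :
          Fin (n + 1) → SpinCurv.PolyNodeRing R (p * q)) =
          Pi.single (Fin.succ i') (SpinCurv.PolyNodeRing.y R (p * q) ^ k *
            algebraMap R (SpinCurv.PolyNodeRing R (p * q)) q) := by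
        rw [← Pi.single_smul', smul_def', mul_comm (algebraMap R (SpinCurv.PolyNodeRing R (p * q)) q)]
      have e2 : SpinCurv.PolyNodeRing.y R (p * q) ^ k •
          (Pi.single (Fin.castSucc i') (SpinCurv.PolyNodeRing.y R (p * q)) -
          Pi.single (Fin.succ i') (algebraMap R (SpinCurv.PolyNodeRing R (p * q)) q) :
            Fin (n + 1) → SpinCurv.PolyNodeRing R (p * q)) =
          Pi.single (Fin.castSucc i') (SpinCurv.PolyNodeRing.y R (p * q) ^ (k + 1)) -
          Pi.single (Fin.succ i') (SpinCurv.PolyNodeRing.y R (p * q) ^ k *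
            algebraMap R (SpinCurv.PolyNodeRing R (p * q)) q) := by
        rw [smul_sub, ← Pi.single_smul', ← Pi.single_smul', smul_eq_mul, smul_eq_mul, pow_succ]
      have e3 : (Pi.single (Fin.castSucc i') (SpinCurv.PolyNodeRing.y R (p * q) ^ (k + 1)) :
          Fin (n + 1) → SpinCurv.PolyNodeRing R (p * q)) =
          SpinCurv.PolyNodeRing.y R (p * q) ^ k •
          (Pi.single (Fin.castSucc i') (SpinCurv.PolyNodeRing.y R (p * q)) -
          Pi.single (Fin.succ i') (algebraMap R (SpinCurv.PolyNodeRing R (p * q)) q) :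
            Fin (n + 1) → SpinCurv.PolyNodeRing R (p * q)) +
          q • (Pi.single (Fin.succ i') (SpinCurv.PolyNodeRing.y R (p * q) ^ k) :
            Fin (n + 1) → SpinCurv.PolyNodeRing R (p * q)) := by
        rw [e1, e2, sub_add_cancel]
      rw [e3]
      exact (W p q n).add_mem (Submodule.mem_sup_left h1) h2

theorem mem_W_mon (m : ℤ) (i : Fin (n + 1)) :
    (Pi.single i (Ideal.Quotient.mk (I (p * q)) (mon m)) :
      Fin (n + 1) → SpinCurv.PolyNodeRing R (p * q)) ∈ W p q n := by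
  by_cases h : 0 ≤ m
  · rw [mk_mon_nonneg _ _ h]
    exact mem_W_x p q n _ i
  · rw [mk_mon_neg _ _ (by omega)]
    exact mem_W_y p q n _ i

theorem mem_W_phi (G : ℤ →₀ R) (i : Fin (n + 1)) :
    (Pi.single i (phi (p * q) G) :
      Fin (n + 1) → SpinCurv.PolyNodeRing R (p * q)) ∈ W p q n := by
  induction G using Finsupp.induction_linear with
  | zero =>
    rw [map_zero, Pi.single_zero]
    exact (W p q n).zero_mem
  | add f g hf hg =>
    rw [map_add, Pi.single_add]
    exact (W p q n).add_mem hf hg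
  | single m r =>
    rw [phi_single, Pi.single_smul']
    exact (W p q n).smul_mem r (mem_W_mon p q n m i)

theorem W_top (F : Fin (n + 1) → SpinCurv.PolyNodeRing R (p * q)) : F ∈ W p q n := by
  rw [← Finset.univ_sum_single F]
  refine Submodule.sum_mem _ (fun i _ => ?_)
  obtain ⟨G, hG⟩ := phi_surjective (p * q) (F i)
  rw [← hG]
  exact mem_W_phi p q n G i

end

section

variable (p q : R)
  (rU : SpinCurv.PolyNodeRing R (p * q) →ₐ[R] SpinCurv.PolyNodeRing R q)
  (hrUx : rU (SpinCurv.PolyNodeRing.x R (p * q)) = algebraMap R _ p * SpinCurv.PolyNodeRing.x R q)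
  (hrUy : rU (SpinCurv.PolyNodeRing.y R (p * q)) = SpinCurv.PolyNodeRing.y R q)
  (rV : SpinCurv.PolyNodeRing R (p * q) →ₐ[R] SpinCurv.PolyNodeRing R p)
  (hrVx : rV (SpinCurv.PolyNodeRing.x R (p * q)) = SpinCurv.PolyNodeRing.y R p)
  (hrVy : rV (SpinCurv.PolyNodeRing.y R (p * q)) = algebraMap R _ q * SpinCurv.PolyNodeRing.x R p)
  (n : ℕ)

include hrUx hrVx in
theorem Sig_nu_hi (k : ℕ) :
    Sig p q rU rV n (Pi.single 0 (SpinCurv.PolyNodeRing.x R (p * q) ^ (k + 1))) =
      Phi p q (n : ℤ) (Finsupp.single ((n : ℤ) + k + 1) 1) := by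
  rw [Sig_single, Phi_single, al_of_gt p n _ (by omega) (by omega), be_of_nonneg q _ (by omega),
    mk_mon_nonneg q _ (by omega), mk_mon_neg p _ (by omega), map_pow, map_pow, hrUx, hrVx]
  have e1 : ((n : ℤ) + k + 1 - n).toNat = k + 1 := by omega
  have e2 : ((n : ℤ) + k + 1).toNat = n + k + 1 := by omega
  have e3 : (-((n : ℤ) - ((n : ℤ) + k + 1))).toNat = k + 1 := by omega
  rw [e1, e2, e3]
  simp only [Fin.val_zero, Nat.sub_zero, pow_zero, mul_one, one_smul]
  congr 1
  rw [smul_def', map_pow]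
  ring

theorem Sig_nu_mid (i : Fin (n + 1)) :
    Sig p q rU rV n (Pi.single i 1) =
      Phi p q (n : ℤ) (Finsupp.single ((n : ℤ) - (i : ℕ)) 1) := by
  have hi : (i : ℕ) ≤ n := Nat.lt_succ_iff.1 i.2
  rw [Sig_single, Phi_single, al_of_le p n _ (by omega), be_of_nonneg q _ (by omega),
    mk_mon_nonneg q _ (by omega), mk_mon_nonneg p _ (by omega), map_one, map_one, one_mul, one_mul,
    one_smul, one_smul]
  have e1 : ((n : ℤ) - (i : ℕ)).toNat = n - i := by omega
  have e2 : ((n : ℤ) - ((n : ℤ) - (i : ℕ))).toNat = i := by omega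
  rw [e1, e2]

include hrUy hrVy in
theorem Sig_nu_lo (k : ℕ) :
    Sig p q rU rV n (Pi.single (Fin.last n) (SpinCurv.PolyNodeRing.y R (p * q) ^ (k + 1))) =
      Phi p q (n : ℤ) (Finsupp.single (-((k : ℤ) + 1)) 1) := by
  rw [Sig_single, Phi_single, al_of_le p n _ (by omega), be_of_neg q _ (by omega),
    mk_mon_neg q _ (by omega), mk_mon_nonneg p _ (by omega), map_pow, map_pow, hrUy, hrVy]
  have e1 : (-(-((k : ℤ) + 1))).toNat = k + 1 := by omega
  have e2 : ((n : ℤ) - -((k : ℤ) + 1)).toNat = n + k + 1 := by omega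
  rw [e1, e2]
  simp only [Fin.val_last, Nat.sub_self, pow_zero, mul_one, one_smul]
  congr 1
  rw [smul_def', map_pow]
  ring

include hrUx hrUy hrVx hrVy in
theorem Sig_nu (j : ℤ) :
    Sig p q rU rV n (nu (p * q) n j) = Phi p q (n : ℤ) (Finsupp.single j 1) := by
  by_cases h1 : (n : ℤ) < j
  · obtain ⟨k, rfl⟩ : ∃ k : ℕ, j = (n : ℤ) + k + 1 := ⟨(j - n - 1).toNat, by omega⟩
    rw [nu_hi]
    exact Sig_nu_hi p q rU hrUx rV hrVx n k
  · by_cases h2 : 0 ≤ j
    · obtain ⟨i, rfl⟩ : ∃ i : Fin (n + 1), j = (n : ℤ) - (i : ℕ) :=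
        ⟨⟨((n : ℤ) - j).toNat, by omega⟩, by
          show j = (n : ℤ) - ((((n : ℤ) - j).toNat : ℕ) : ℤ)
          omega⟩
      rw [nu_mid]
      exact Sig_nu_mid p q rU rV n i
    · obtain ⟨k, rfl⟩ : ∃ k : ℕ, j = -((k : ℤ) + 1) := ⟨(-j - 1).toNat, by omega⟩
      rw [nu_lo]
      exact Sig_nu_lo p q rU hrUy rV hrVy n k

include hrUx hrUy hrVx hrVy in
theorem Sig_numap (H : ℤ →₀ R) :
    SigL p q rU rV n (numap (p * q) n H) = Phi p q (n : ℤ) H := by
  induction H using Finsupp.induction_linear with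
  | zero => simp
  | add f g hf hg => rw [map_add, map_add, hf, hg, map_add]
  | single j r =>
    rw [numap_single, map_smul, SigL_apply, Sig_nu p q rU hrUx hrUy rV hrVx hrVy n j, ← map_smul,
      Finsupp.smul_single, smul_eq_mul, mul_one]

include hrUx hrVx in
theorem Sig_gen1 (i : Fin n) :
    Sig p q rU rV n
      (Pi.single (Fin.castSucc i) (algebraMap R (SpinCurv.PolyNodeRing R (p * q)) p) -
        Pi.single (Fin.succ i) (SpinCurv.PolyNodeRing.x R (p * q))) = 0 := by
  have h := (SigL p q rU rV n).map_sub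
    (Pi.single (Fin.castSucc i) (algebraMap R (SpinCurv.PolyNodeRing R (p * q)) p))
    (Pi.single (Fin.succ i) (SpinCurv.PolyNodeRing.x R (p * q)))
  rw [SigL_apply, SigL_apply, SigL_apply] at h
  rw [h, Sig_single, Sig_single, hrUx, hrVx, AlgHom.commutes, AlgHom.commutes]
  simp only [Fin.val_castSucc, Fin.val_succ]
  rw [Prod.mk_sub_mk, Prod.mk_eq_zero]
  have hi : (i : ℕ) < n := i.2
  constructor
  · have e : n - (i : ℕ) = (n - ((i : ℕ) + 1)) + 1 := by omega
    rw [e, pow_succ]
    ring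
  · rw [pow_succ]
    have hxy := x_mul_y p
    linear_combination (-(SpinCurv.PolyNodeRing.x R p) ^ (i : ℕ)) * hxy

include hrUy hrVy in
theorem Sig_gen2 (i : Fin n) :
    Sig p q rU rV n
      (Pi.single (Fin.castSucc i) (SpinCurv.PolyNodeRing.y R (p * q)) -
        Pi.single (Fin.succ i) (algebraMap R (SpinCurv.PolyNodeRing R (p * q)) q)) = 0 := by
  have h := (SigL p q rU rV n).map_sub
    (Pi.single (Fin.castSucc i) (SpinCurv.PolyNodeRing.y R (p * q)))
    (Pi.single (Fin.succ i) (algebraMap R (SpinCurv.PolyNodeRing R (p * q)) q))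
  rw [SigL_apply, SigL_apply, SigL_apply] at h
  rw [h, Sig_single, Sig_single, hrUy, hrVy, AlgHom.commutes, AlgHom.commutes]
  simp only [Fin.val_castSucc, Fin.val_succ]
  rw [Prod.mk_sub_mk, Prod.mk_eq_zero]
  have hi : (i : ℕ) < n := i.2
  constructor
  · have e : n - (i : ℕ) = (n - ((i : ℕ) + 1)) + 1 := by omega
    rw [e, pow_succ]
    have hxy := x_mul_y q
    linear_combination (SpinCurv.PolyNodeRing.x R q ^ (n - ((i : ℕ) + 1))) * hxy
  · rw [pow_succ]
    ring

include hrUx hrUy hrVx hrVy in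
theorem N_le (F : Fin (n + 1) → SpinCurv.PolyNodeRing R (p * q)) (hF : F ∈ Nsub p q n) :
    Sig p q rU rV n F = 0 := by
  unfold Nsub at hF
  induction hF using Submodule.span_induction with
  | mem x hx =>
    rcases hx with ⟨i, rfl⟩ | ⟨i, rfl⟩
    · exact Sig_gen1 p q rU hrUx rV hrVx n i
    · exact Sig_gen2 p q rU hrUy rV hrVy n i
  | zero => exact (SigL p q rU rV n).map_zero
  | add x y _ _ hx hy =>
    have h := (SigL p q rU rV n).map_add x y
    rw [SigL_apply, SigL_apply, SigL_apply] at h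
    rw [h, hx, hy, add_zero]
  | smul a x _ hx =>
    rw [Sig_smul, hx]
    simp

variable
  (gU : SpinCurv.PolyNodeRing R q →ₐ[R] LaurentPolynomial R)
  (hgUs : gU (SpinCurv.PolyNodeRing.x R q) = LaurentPolynomial.T 1)
  (hgUy : gU (SpinCurv.PolyNodeRing.y R q) = LaurentPolynomial.C q * LaurentPolynomial.T (-1))
  (gV : SpinCurv.PolyNodeRing R p →ₐ[R] LaurentPolynomial R)
  (hgVt : gV (SpinCurv.PolyNodeRing.x R p) = LaurentPolynomial.T (-1))
  (hgVx : gV (SpinCurv.PolyNodeRing.y R p) = LaurentPolynomial.C p * LaurentPolynomial.T 1)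

include hrUx hrUy hrVx hrVy hgUs hgUy hgVt hgVx in
theorem rho_eq (a : SpinCurv.PolyNodeRing R (p * q)) : gU (rU a) = gV (rV a) := by
  have h : (gU.comp rU).comp (Ideal.Quotient.mkₐ R (I (p * q))) =
      (gV.comp rV).comp (Ideal.Quotient.mkₐ R (I (p * q))) := by
    apply MvPolynomial.algHom_ext
    intro i
    fin_cases i
    · show gU (rU (SpinCurv.PolyNodeRing.x R (p * q))) = gV (rV (SpinCurv.PolyNodeRing.x R (p * q)))
      rw [hrUx, hrVx, map_mul, AlgHom.commutes, hgUs, hgVx, LaurentPolynomial.C_eq_algebraMap]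
    · show gU (rU (SpinCurv.PolyNodeRing.y R (p * q))) = gV (rV (SpinCurv.PolyNodeRing.y R (p * q)))
      rw [hrUy, hrVy, map_mul, AlgHom.commutes, hgUy, hgVt, LaurentPolynomial.C_eq_algebraMap]
  obtain ⟨P, rfl⟩ := Ideal.Quotient.mk_surjective a
  exact DFunLike.congr_fun h P

include hrUx hrUy hrVx hrVy hgUs hgUy hgVt hgVx in
theorem range_sub (F : Fin (n + 1) → SpinCurv.PolyNodeRing R (p * q)) :
    gU (Sig p q rU rV n F).1 = LaurentPolynomial.T (n : ℤ) * gV (Sig p q rU rV n F).2 := by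
  unfold Sig
  dsimp only
  rw [map_sum, map_sum, Finset.mul_sum]
  refine Finset.sum_congr rfl (fun i _ => ?_)
  have hi : (i : ℕ) ≤ n := Nat.lt_succ_iff.1 i.2
  rw [map_mul gU, map_mul gV, map_pow gU, map_pow gV, hgUs, hgVt,
    rho_eq p q rU hrUx hrUy rV hrVx hrVy gU hgUs hgUy gV hgVt hgVx (F i),
    LaurentPolynomial.T_pow, LaurentPolynomial.T_pow, mul_left_comm, ← LaurentPolynomial.T_add]
  congr 2
  push_cast [Nat.cast_sub hi]
  ring

include hrUx hrUy hrVx hrVy hgUs hgUy hgVt hgVx in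
theorem main :
    Set.range (fun F : Fin (n + 1) → SpinCurv.PolyNodeRing R (p * q) =>
        (∑ i : Fin (n + 1), rU (F i) * SpinCurv.PolyNodeRing.x R q ^ (n - (i : ℕ)),
         ∑ i : Fin (n + 1), rV (F i) * SpinCurv.PolyNodeRing.x R p ^ (i : ℕ))) =
      {gf : SpinCurv.PolyNodeRing R q × SpinCurv.PolyNodeRing R p |
        gU gf.1 = LaurentPolynomial.T (n : ℤ) * gV gf.2} ∧
    {F : Fin (n + 1) → SpinCurv.PolyNodeRing R (p * q) |
        (∑ i : Fin (n + 1), rU (F i) * SpinCurv.PolyNodeRing.x R q ^ (n - (i : ℕ)),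
         ∑ i : Fin (n + 1), rV (F i) * SpinCurv.PolyNodeRing.x R p ^ (i : ℕ)) = 0} =
      (Submodule.span (SpinCurv.PolyNodeRing R (p * q))
        (Set.range (fun i : Fin n =>
            (Pi.single (Fin.castSucc i) (algebraMap R (SpinCurv.PolyNodeRing R (p * q)) p) -
              Pi.single (Fin.succ i) (SpinCurv.PolyNodeRing.x R (p * q)) : Fin (n + 1) → SpinCurv.PolyNodeRing R (p * q))) ∪
         Set.range (fun i : Fin n =>
            (Pi.single (Fin.castSucc i) (SpinCurv.PolyNodeRing.y R (p * q)) -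
              Pi.single (Fin.succ i) (algebraMap R (SpinCurv.PolyNodeRing R (p * q)) q) : Fin (n + 1) → SpinCurv.PolyNodeRing R (p * q)))) :
        Set (Fin (n + 1) → SpinCurv.PolyNodeRing R (p * q))) := by
  constructor
  · ext gf
    constructor
    · rintro ⟨F, rfl⟩
      exact range_sub p q rU hrUx hrUy rV hrVx hrVy n gU hgUs hgUy gV hgVt hgVx F
    · intro h
      obtain ⟨H, hH⟩ := Phi_surj p q gU hgUs hgUy gV hgVt hgVx (n : ℤ) (by omega) gf.1 gf.2 h
      exact ⟨numap (p * q) n H, (Sig_numap p q rU hrUx hrUy rV hrVx hrVy n H).trans hH⟩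
  · ext F
    constructor
    · intro hF
      have hF' : SigL p q rU rV n F = 0 := hF
      obtain ⟨F1, hF1, z, ⟨H, rfl⟩, rfl⟩ := Submodule.mem_sup.1 (W_top p q n F)
      have hF1' : F1 ∈ Nsub p q n := hF1
      have h1 : Sig p q rU rV n F1 = 0 := N_le p q rU hrUx hrUy rV hrVx hrVy n F1 hF1'
      rw [map_add, SigL_apply, h1, zero_add, Sig_numap p q rU hrUx hrUy rV hrVx hrVy n H] at hF'
      have hH0 : H = 0 := Phi_injective p q n (hF'.trans (map_zero _).symm)
      rw [hH0, map_zero, add_zero]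
      exact hF1'
    · intro hF
      exact N_le p q rU hrUx hrUy rV hrVx hrVy n F hF

end

end Groth.Agent.H9.NodeTw2
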