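import Mathlib

/-! Helper9: enumerations of sets of naturals with conductors (S15037) -/

set_option linter.style.haveILetI false

namespace Groth.Agent.H9.NthCond
open Classical

section one
variable (S : Set ℕ) (cS : ℕ) (hcS : ∀ n : ℕ, cS ≤ n → n ∈ S)
include hcS

lemma compl_sub : Sᶜ ⊆ Set.Iio cS := by
  intro m hm
  by_contra h
  exact hm (hcS m (not_lt.mp h))

lemma compl_finite : Sᶜ.Finite := (Set.finite_Iio cS).subset (compl_sub S cS hcS)

lemma infinite : (setOf fun m => m ∈ S).Infinite := by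
  apply Set.infinite_of_not_bddAbove
  rintro ⟨b, hb⟩
  have := hb (hcS (max cS (b + 1)) (le_max_left _ _))
  have h2 : b + 1 ≤ max cS (b + 1) := le_max_right _ _
  omega

omit hcS in
lemma count_add_gaps (m : ℕ) :
    Nat.count (fun m => m ∈ S) m + ((Finset.range m).filter (fun x => x ∉ S)).card = m := by
  rw [Nat.count_eq_card_filter_range]
  have := Finset.card_filter_add_card_filter_not (s := Finset.range m) (fun x => x ∈ S)
  rw [Finset.card_range] at this
  exact this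

lemma gaps_le (m : ℕ) : ((Finset.range m).filter (fun x => x ∉ S)).card ≤ Sᶜ.ncard := by
  rw [← Set.ncard_coe_finset]
  apply Set.ncard_le_ncard _ (compl_finite S cS hcS)
  intro x hx
  simp only [Finset.coe_filter, Finset.mem_range, Set.mem_setOf_eq] at hx
  exact hx.2

lemma gaps_eq (m : ℕ) (hm : cS ≤ m) :
    ((Finset.range m).filter (fun x => x ∉ S)).card = Sᶜ.ncard := by
  rw [← Set.ncard_coe_finset]
  congr 1
  ext x
  simp only [Finset.coe_filter, Finset.mem_range, Set.mem_setOf_eq, Set.mem_compl_iff]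
  constructor
  · exact fun h => h.2
  · intro h
    refine ⟨?_, h⟩
    have := compl_sub S cS hcS h
    exact lt_of_lt_of_le this hm

omit hcS in
lemma r_eq : (S ∩ Set.Iio cS).ncard = Nat.count (fun m => m ∈ S) cS := by
  rw [Nat.count_eq_card_filter_range, ← Set.ncard_coe_finset]
  congr 1
  ext x
  simp only [Set.mem_inter_iff, Set.mem_Iio, Finset.coe_filter, Finset.mem_range, Set.mem_setOf_eq]
  tauto

/-- (A) -/
lemma r_add_delta : (S ∩ Set.Iio cS).ncard + Sᶜ.ncard = cS := by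
  rw [r_eq, ← gaps_eq S cS hcS cS le_rfl]
  exact count_add_gaps S cS

/-- (B) -/
lemma nth_le (i : ℕ) : Nat.nth (fun m => m ∈ S) i ≤ i + Sᶜ.ncard := by
  set m := Nat.nth (fun m => m ∈ S) i with hm
  have h1 : Nat.count (fun m => m ∈ S) m = i := Nat.count_nth_of_infinite (infinite S cS hcS) i
  have h2 := count_add_gaps S m
  have h3 := gaps_le S cS hcS m
  omega

/-- (C) -/
lemma nth_eq (i : ℕ) (hi : (S ∩ Set.Iio cS).ncard ≤ i) :
    Nat.nth (fun m => m ∈ S) i = i + Sᶜ.ncard := by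
  obtain ⟨k, rfl⟩ : ∃ k, i = (S ∩ Set.Iio cS).ncard + k := ⟨i - (S ∩ Set.Iio cS).ncard, by omega⟩
  have hmem : cS + k ∈ S := hcS _ (by omega)
  have h1 : Nat.nth (fun m => m ∈ S) (Nat.count (fun m => m ∈ S) (cS + k)) = cS + k :=
    Nat.nth_count hmem
  have h2 := count_add_gaps S (cS + k)
  have h3 := gaps_eq S cS hcS (cS + k) (by omega)
  have h4 := r_add_delta S cS hcS
  have h5 : Nat.count (fun m => m ∈ S) (cS + k) = (S ∩ Set.Iio cS).ncard + k := by omega
  rw [h5] at h1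
  rw [h1]
  omega

/-- (D) -/
lemma nth_lt (hcS1 : cS = 0 ∨ cS - 1 ∉ S) (i : ℕ) (hi : i < (S ∩ Set.Iio cS).ncard) :
    Nat.nth (fun m => m ∈ S) i + 2 ≤ cS := by
  rw [r_eq] at hi
  have h1 : Nat.nth (fun m => m ∈ S) i < cS := (Nat.lt_nth_iff_count_lt (infinite S cS hcS)).mp hi
  have h2 : Nat.nth (fun m => m ∈ S) i ∈ S := Nat.nth_mem_of_infinite (infinite S cS hcS) i
  rcases hcS1 with h | h
  · omega
  · have : Nat.nth (fun m => m ∈ S) i ≠ cS - 1 := fun h3 => h (h3 ▸ h2)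
    omega

end one

theorem S15037_main (S : Set ℕ) (cS : ℕ) (hcS : ∀ n : ℕ, cS ≤ n → n ∈ S)
    (S' : Set ℕ) (cS' : ℕ) (hcS' : ∀ n : ℕ, cS' ≤ n → n ∈ S') (hcS'1 : cS' = 0 ∨ cS' - 1 ∉ S') :
    (∀ i : ℕ, Nat.nth (fun m => m ∈ S) i + S'ᶜ.ncard ≤ Nat.nth (fun m => m ∈ S') i + Sᶜ.ncard) ↔
      ((S' ∩ Set.Iio cS').ncard ≤ (S ∩ Set.Iio cS).ncard ∧ ∀ i : ℕ, i < (S' ∩ Set.Iio cS').ncard →
        Nat.nth (fun m => m ∈ S) i + S'ᶜ.ncard ≤ Nat.nth (fun m => m ∈ S') i + Sᶜ.ncard) := by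
  constructor
  · intro h
    refine ⟨?_, fun i _ => h i⟩
    by_contra hlt
    push Not at hlt
    set r := (S ∩ Set.Iio cS).ncard
    set r' := (S' ∩ Set.Iio cS').ncard
    have hi : r ≤ r' - 1 := by omega
    have h1 := nth_eq S cS hcS (r' - 1) hi
    have h2 := nth_lt S' cS' hcS' hcS'1 (r' - 1) (by omega)
    have h3 := r_add_delta S' cS' hcS'
    have h4 := h (r' - 1)
    omega
  · rintro ⟨hr, h⟩ i
    by_cases hi : i < (S' ∩ Set.Iio cS').ncard
    · exact h i hi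
    · have h1 := nth_eq S' cS' hcS' i (not_lt.mp hi)
      have h2 := nth_le S cS hcS i
      omega

end Groth.Agent.H9.NthCond
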