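import Mathlib

/-! Helper9: comparing the enumerations of S and S ∪ {s} (S15036) -/

set_option linter.style.haveILetI false

namespace Groth.Agent.H9.NthIns
open Classical

lemma count_insert (S : Set ℕ) (s : ℕ) (hs : s ∉ S) (n : ℕ) :
    Nat.count (fun m => m ∈ insert s S) n = Nat.count (fun m => m ∈ S) n + (if s < n then 1 else 0) := by
  induction n with
  | zero => simp
  | succ n ih =>
    rw [Nat.count_succ, Nat.count_succ, ih]
    by_cases h1 : n ∈ S
    · have h2 : n ∈ insert s S := Set.mem_insert_of_mem _ h1
      have h3 : n ≠ s := fun h => hs (h ▸ h1)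
      rw [if_pos h1, if_pos h2]
      have : (s < n + 1) ↔ (s < n) := by omega
      simp only [this]
      omega
    · by_cases h2 : n = s
      · subst h2
        have h3 : n ∈ insert n S := Set.mem_insert _ _
        rw [if_neg h1, if_pos h3, if_neg (lt_irrefl n), if_pos (Nat.lt_succ_self n)]
      · have h3 : n ∉ insert s S := by
          rw [Set.mem_insert_iff]
          push Not
          exact ⟨h2, h1⟩
        rw [if_neg h1, if_neg h3]
        have : (s < n + 1) ↔ (s < n) := by omega
        simp only [this]
        omega

theorem S15036_main (S : Set ℕ) (cS : ℕ) (hcS : ∀ n : ℕ, cS ≤ n → n ∈ S) (hcS0 : cS ≠ 0)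
    (hcS1 : cS - 1 ∉ S) (s : ℕ) (hs : s ∉ S) :
    (∀ i : ℕ, Nat.nth (fun m => m ∈ S) i ≤ Nat.nth (fun m => m ∈ insert s S) i + 1) ↔ s + 1 = cS := by
  have hinf : (setOf fun m => m ∈ S).Infinite := by
    apply Set.infinite_of_not_bddAbove
    rintro ⟨b, hb⟩
    have := hb (hcS (max cS (b + 1)) (le_max_left _ _))
    have h2 : b + 1 ≤ max cS (b + 1) := le_max_right _ _
    omega
  have hinf' : (setOf fun m => m ∈ insert s S).Infinite :=
    hinf.mono (fun m hm => Set.mem_insert_of_mem _ hm)
  have hslt : s < cS := by
    by_contra h
    exact hs (hcS s (not_lt.mp h))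
  constructor
  · intro h
    by_contra hne
    have hlt : s + 1 < cS := by omega
    have hcSmem : cS ∈ S := hcS cS le_rfl
    set i := Nat.count (fun m => m ∈ S) cS with hi
    have h1 : Nat.nth (fun m => m ∈ S) i = cS := Nat.nth_count hcSmem
    have h2 : Nat.nth (fun m => m ∈ insert s S) i < cS - 1 := by
      rw [← Nat.lt_nth_iff_count_lt hinf']
      have h3 : Nat.count (fun m => m ∈ insert s S) (cS - 1 + 1) =
          Nat.count (fun m => m ∈ insert s S) (cS - 1) := by
        rw [Nat.count_succ, if_neg]
        · rfl
        · rw [Set.mem_insert_iff]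
          push Not
          exact ⟨by omega, hcS1⟩
      have h4 : cS - 1 + 1 = cS := by omega
      rw [h4] at h3
      rw [← h3, count_insert S s hs, if_pos hslt]
      omega
    have := h i
    omega
  · intro hsc i
    set m := Nat.nth (fun m => m ∈ insert s S) i with hm
    have hmem : m ∈ insert s S := Nat.nth_mem_of_infinite hinf' i
    have hcount : Nat.count (fun m => m ∈ insert s S) m = i := Nat.count_nth_of_infinite hinf' i
    have hgoal : Nat.nth (fun m => m ∈ S) i < m + 2 := by
      rw [← Nat.lt_nth_iff_count_lt hinf]
      rw [show m + 2 = (m + 1) + 1 by ring, Nat.count_succ, Nat.count_succ]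
      rw [count_insert S s hs] at hcount
      rcases lt_trichotomy m s with hlt | heq | hgt
      · have hmS : m ∈ S := by
          rcases Set.mem_insert_iff.mp hmem with h | h
          · omega
          · exact h
        rw [if_neg (by omega)] at hcount
        rw [if_pos hmS]
        omega
      · have h1 : m + 1 ∈ S := hcS _ (by omega)
        rw [if_neg (by omega)] at hcount
        rw [if_pos h1]
        omega
      · have hmS : m ∈ S := by
          rcases Set.mem_insert_iff.mp hmem with h | h
          · omega
          · exact h
        have h1 : m + 1 ∈ S := hcS _ (by omega)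
        rw [if_pos hgt] at hcount
        rw [if_pos hmS, if_pos h1]
        omega
    omega

end Groth.Agent.H9.NthIns
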