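import Mathlib
import Groth.Prelude.Def_W4bk4hartshdef114Obs

set_option autoImplicit false
set_option linter.style.haveILetI false
set_option linter.unusedSectionVars false
set_option linter.unusedVariables false

open TensorProduct W4bk4hartshdef114

universe u

namespace Groth.Agent.H9.OBS

/-- derivation lemma: two lifts differing by a square-zero ideal killed by `π(m)` agree on `m²`. -/
theorem map_eq_zero_of_lift {P D : Type*} [CommRing P] [IsLocalRing P] [CommRing D]
    (I : Ideal P) (hI : I ≤ IsLocalRing.maximalIdeal P ^ 2)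
    (π ψ : P →+* D) (N : Ideal D)
    (hN : ∀ p, ψ p - π p ∈ N)
    (hmN : ∀ x ∈ IsLocalRing.maximalIdeal P, ∀ ν ∈ N, π x * ν = 0)
    (hNN : ∀ ν ∈ N, ∀ ν' ∈ N, ν * ν' = 0)
    (hψ : ∀ i ∈ I, ψ i = 0) : ∀ i ∈ I, π i = 0 := by
  have key : ∀ z ∈ IsLocalRing.maximalIdeal P ^ 2, ψ z = π z := by
    intro z hz
    rw [pow_two] at hz
    refine Submodule.mul_induction_on hz ?_ ?_
    · intro x hx y hy
      have hx' := hN x
      have hy' := hN y
      have h : ψ (x * y) - π (x * y) =
          π x * (ψ y - π y) + π y * (ψ x - π x) + (ψ x - π x) * (ψ y - π y) := by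
        rw [map_mul, map_mul]; ring
      rw [hmN x hx _ hy', hmN y hy _ hx', hNN _ hx' _ hy'] at h
      simpa [sub_eq_zero] using h
    · intro a b ha hb
      rw [map_add, map_add, ha, hb]
  intro i hi
  rw [← key i (hI hi), hψ i hi]

/-- every element of `V ⊗ J` is `∑ b a ⊗ j a`. -/
theorem exists_sum_tmul {k : Type*} [Field k] {V J : Type*} [AddCommGroup V] [Module k V]
    [AddCommGroup J] [Module k J]
    {ι : Type*} [Fintype ι] (b : Module.Basis ι k V) (ω : V ⊗[k] J) :
    ∃ j : ι → J, ω = ∑ a, b a ⊗ₜ[k] j a := by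
  induction ω using TensorProduct.induction_on with
  | zero => exact ⟨fun _ => 0, by simp⟩
  | tmul v x =>
    refine ⟨fun a => b.repr v a • x, ?_⟩
    conv_lhs => rw [← b.sum_repr v]
    rw [TensorProduct.sum_tmul]
    refine Finset.sum_congr rfl fun a _ => ?_
    rw [TensorProduct.smul_tmul]
  | add x y hx hy =>
    obtain ⟨j1, h1⟩ := hx
    obtain ⟨j2, h2⟩ := hy
    refine ⟨j1 + j2, ?_⟩
    rw [h1, h2, ← Finset.sum_add_distrib]
    simp [TensorProduct.tmul_add]

/-- Artin–Rees consequence. -/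
theorem exists_pow_inf_le (P : Type*) [CommRing P] [IsNoetherianRing P] (m I : Ideal P) :
    ∃ n, I ⊓ m ^ (n + 1) ≤ m * I := by
  obtain ⟨c, hc⟩ := Ideal.exists_pow_inf_eq_pow_smul m (I : Submodule P P)
  refine ⟨c, ?_⟩
  have h := hc (c + 1) (Nat.le_succ c)
  intro x hx
  have hx' : x ∈ (m ^ (c + 1) • ⊤ ⊓ I : Submodule P P) := by
    refine ⟨?_, hx.1⟩
    rw [smul_eq_mul, Ideal.mul_top]
    exact hx.2
  rw [h] at hx'
  have hsub : c + 1 - c = 1 := by omega
  rw [hsub, pow_one] at hx'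
  have : m • (m ^ c • ⊤ ⊓ I : Submodule P P) ≤ m • (I : Submodule P P) :=
    smul_mono_right _ inf_le_right
  exact this hx'

/-- small extensions pass to quotients by smaller ideals. -/
theorem isSmallExt_quot (k : Type u) [Field k] (C' : Type u) [CommRing C'] [Algebra k C']
    (J K : Ideal C') (h : IsSmallExt k C' J) (hK : K ≤ J) :
    IsSmallExt k (C' ⧸ K) (J.map (Ideal.Quotient.mkₐ k K)) := by
  obtain ⟨hloc, hart, hres, hkill, hne⟩ := h
  have hKne : K ≠ ⊤ := fun h => hne (top_le_iff.mp (h ▸ hK))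
  haveI : Nontrivial (C' ⧸ K) := Ideal.Quotient.nontrivial_iff.mpr hKne
  have hsurj : Function.Surjective (Ideal.Quotient.mk K) := Ideal.Quotient.mk_surjective
  have hloc' : IsLocalRing (C' ⧸ K) := IsLocalRing.of_surjective' (Ideal.Quotient.mk K) hsurj
  haveI : IsLocalHom (Ideal.Quotient.mk K) := IsLocalHom.of_surjective _ hsurj
  have hnon : ∀ y : C', y ∈ nonunits C' → Ideal.Quotient.mk K y ∈ nonunits (C' ⧸ K) := by
    intro y hy hu
    exact hy (isUnit_of_map_unit (Ideal.Quotient.mk K) y hu)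
  have hnon' : ∀ y : C', Ideal.Quotient.mk K y ∈ nonunits (C' ⧸ K) → y ∈ nonunits C' := by
    intro y hy hu
    exact hy (hu.map (Ideal.Quotient.mk K))
  refine ⟨hloc', inferInstance, ?_, ?_, ?_⟩
  · intro x
    obtain ⟨y, rfl⟩ := hsurj x
    obtain ⟨c, hc⟩ := hres y
    refine ⟨c, ?_⟩
    have := hnon _ hc
    simpa using this
  · intro x j' hx hj'
    obtain ⟨y, rfl⟩ := hsurj x
    have hj'' : j' ∈ J.map (Ideal.Quotient.mk K) := hj'
    obtain ⟨j, hj, rfl⟩ := (Ideal.mem_map_iff_of_surjective _ hsurj).mp hj''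
    rw [← map_mul, hkill y j (hnon' y hx) hj, map_zero]
  · intro htop
    have h1 : J.map (Ideal.Quotient.mk K) = ⊤ := htop
    have h2 : Ideal.comap (Ideal.Quotient.mk K) (J.map (Ideal.Quotient.mk K)) = ⊤ := by
      rw [h1, Ideal.comap_top]
    rw [Ideal.comap_map_of_surjective _ hsurj, ← RingHom.ker_eq_comap_bot, Ideal.mk_ker,
      sup_eq_left.mpr hK] at h2
    exact hne h2

end Groth.Agent.H9.OBS
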