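import Mathlib
import Groth.Prelude.Def_W4bk4hartshdef114Obs
import Groth.Agent.Lib.Helper9.Misc.OBS1

set_option autoImplicit false
set_option linter.style.haveILetI false
set_option linter.unusedSectionVars false
set_option linter.unusedVariables false

open TensorProduct W4bk4hartshdef114

universe u

namespace Groth.Agent.H9.OBS

theorem main (k : Type u) [Field k] (P : Type u) [CommRing P] [IsLocalRing P]
    [IsNoetherianRing P] [Algebra k P]
    (hres : Function.Surjective (algebraMap k (IsLocalRing.ResidueField P)))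
    (I : Ideal P) (hI : I ≤ IsLocalRing.maximalIdeal P ^ 2)
    (V : Type u) [AddCommGroup V] [Module k V] [Module.Finite k V]
    (T : ObsTheory k (P ⧸ I) V) :
    I.spanFinrank ≤ Module.finrank k V := by
  set m := IsLocalRing.maximalIdeal P with hm
  obtain ⟨n, hn⟩ := exists_pow_inf_le P m I
  have hIm : I ≤ m := hI.trans (Ideal.pow_le_self two_ne_zero)
  set L : Ideal P := m * I ⊔ m ^ (n + 1) with hL
  have hLm : L ≤ m := sup_le (Ideal.mul_le_right.trans hIm) (Ideal.pow_le_self (Nat.succ_ne_zero n))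
  have hLne : L ≠ ⊤ := fun h => (IsLocalRing.maximalIdeal.isMaximal P).ne_top (top_le_iff.mp (h ▸ hLm))
  haveI : Nontrivial (P ⧸ L) := Ideal.Quotient.nontrivial_iff.mpr hLne
  have hsurj : Function.Surjective (Ideal.Quotient.mk L) := Ideal.Quotient.mk_surjective
  haveI hloc : IsLocalRing (P ⧸ L) := IsLocalRing.of_surjective' (Ideal.Quotient.mk L) hsurj
  haveI : IsLocalHom (Ideal.Quotient.mk L) := IsLocalHom.of_surjective _ hsurj
  have hmax : IsLocalRing.maximalIdeal (P ⧸ L) = m.map (Ideal.Quotient.mk L) :=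
    (IsLocalRing.map_maximalIdeal_of_surjective _ hsurj).symm
  haveI hart : IsArtinianRing (P ⧸ L) := by
    rw [isArtinianRing_iff_isNilpotent_maximalIdeal]
    refine ⟨n + 1, ?_⟩
    rw [hmax, ← Ideal.map_pow, Ideal.zero_eq_bot, Ideal.map_eq_bot_iff_le_ker, Ideal.mk_ker]
    exact le_sup_right
  set J : Ideal (P ⧸ L) := I.map (Ideal.Quotient.mk L) with hJ
  have hJmax : J ≤ IsLocalRing.maximalIdeal (P ⧸ L) := by
    rw [hmax]; exact Ideal.map_mono hIm
  have hmem_m : ∀ p : P, Ideal.Quotient.mk L p ∈ nonunits (P ⧸ L) → p ∈ m := by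
    intro p hp
    by_contra hpm
    have : IsUnit p := by
      by_contra hnu
      exact hpm ((IsLocalRing.mem_maximalIdeal p).mpr hnu)
    exact hp (this.map _)
  have hsmall : IsSmallExt k (P ⧸ L) J := by
    refine ⟨hloc, hart, ?_, ?_, ?_⟩
    · intro x
      obtain ⟨p, rfl⟩ := hsurj x
      obtain ⟨c, hc⟩ := hres (IsLocalRing.residue P p)
      refine ⟨c, ?_⟩
      have h1 : IsLocalRing.residue P (p - algebraMap k P c) = 0 := by
        rw [map_sub, ← hc]
        exact sub_eq_zero.mpr rfl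
      have h2 : p - algebraMap k P c ∈ m := (IsLocalRing.residue_eq_zero_iff _).mp h1
      have h3 : Ideal.Quotient.mk L (p - algebraMap k P c) ∈ nonunits (P ⧸ L) := by
        intro hu
        have := isUnit_of_map_unit (Ideal.Quotient.mk L) _ hu
        exact ((IsLocalRing.mem_maximalIdeal _).mp h2) this
      simpa using h3
    · intro x j hx hj
      obtain ⟨p, rfl⟩ := hsurj x
      obtain ⟨i, hi, rfl⟩ := (Ideal.mem_map_iff_of_surjective _ hsurj).mp hj
      rw [← map_mul, Ideal.Quotient.eq_zero_iff_mem]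
      exact le_sup_left (a := m * I) (Ideal.mul_mem_mul (hmem_m p hx) hi)
    · intro htop
      rw [htop] at hJmax
      exact (IsLocalRing.maximalIdeal.isMaximal (P ⧸ L)).ne_top (top_le_iff.mp hJmax)
  -- the canonical map
  let u : (P ⧸ I) →ₐ[k] (P ⧸ L) ⧸ J :=
    Ideal.Quotient.liftₐ I ((Ideal.Quotient.mkₐ k J).comp (Ideal.Quotient.mkₐ k L)) (by
      intro a ha
      change Ideal.Quotient.mk J (Ideal.Quotient.mk L a) = 0
      rw [Ideal.Quotient.eq_zero_iff_mem]
      exact Ideal.mem_map_of_mem _ ha)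
  have hu : ∀ p : P, u (Ideal.Quotient.mk I p) = Ideal.Quotient.mk J (Ideal.Quotient.mk L p) :=
    fun p => rfl
  set ω := T.obs (P ⧸ L) J u with hω
  let b := Module.finBasis k V
  obtain ⟨j, hj⟩ := exists_sum_tmul b ω
  set K : Ideal (P ⧸ L) := Ideal.span (Set.range fun a => ((j a : ↥J) : P ⧸ L)) with hKdef
  have hK : K ≤ J := by
    rw [hKdef, Ideal.span_le]
    rintro _ ⟨a, rfl⟩
    exact (j a).2
  have hω0 : LinearMap.lTensor V (idealToQuot k J K) ω = 0 := by
    rw [hj, map_sum]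
    refine Finset.sum_eq_zero fun a _ => ?_
    rw [LinearMap.lTensor_tmul]
    have : idealToQuot k J K (j a) = 0 := by
      apply Subtype.ext
      change Ideal.Quotient.mk K ((j a : ↥J) : P ⧸ L) = 0
      rw [Ideal.Quotient.eq_zero_iff_mem]
      exact Ideal.subset_span ⟨a, rfl⟩
    rw [this, TensorProduct.tmul_zero]
  have h1 := T.obs_quot (P ⧸ L) J K hsmall hK u
  rw [hω0] at h1
  have hsmall' := isSmallExt_quot k (P ⧸ L) J K hsmall hK
  obtain ⟨u', hu'⟩ := (T.obs_eq_zero_iff ((P ⧸ L) ⧸ K) (J.map (Ideal.Quotient.mkₐ k K)) hsmall' _).mp h1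
  -- derivation argument
  let π : P →+* (P ⧸ L) ⧸ K := (Ideal.Quotient.mk K).comp (Ideal.Quotient.mk L)
  let ψ : P →+* (P ⧸ L) ⧸ K := (u' : (P ⧸ I) →+* (P ⧸ L) ⧸ K).comp (Ideal.Quotient.mk I)
  set N : Ideal ((P ⧸ L) ⧸ K) := J.map (Ideal.Quotient.mkₐ k K) with hNdef
  have hNmem : ∀ ν ∈ N, ∃ i ∈ I, ν = π i := by
    intro ν hν
    have hν' : ν ∈ J.map (Ideal.Quotient.mk K) := hν
    obtain ⟨c, hc, rfl⟩ := (Ideal.mem_map_iff_of_surjective _ Ideal.Quotient.mk_surjective).mp hν'
    obtain ⟨i, hi, rfl⟩ := (Ideal.mem_map_iff_of_surjective _ hsurj).mp hc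
    exact ⟨i, hi, rfl⟩
  have hmN : ∀ x ∈ IsLocalRing.maximalIdeal P, ∀ ν ∈ N, π x * ν = 0 := by
    intro x hx ν hν
    obtain ⟨i, hi, rfl⟩ := hNmem ν hν
    rw [← map_mul]
    change Ideal.Quotient.mk K (Ideal.Quotient.mk L (x * i)) = 0
    have : Ideal.Quotient.mk L (x * i) = 0 := by
      rw [Ideal.Quotient.eq_zero_iff_mem]
      exact le_sup_left (a := m * I) (Ideal.mul_mem_mul hx hi)
    rw [this, map_zero]
  have hNN : ∀ ν ∈ N, ∀ ν' ∈ N, ν * ν' = 0 := by
    intro ν hν ν' hν'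
    obtain ⟨i, hi, rfl⟩ := hNmem ν hν
    exact hmN i (hIm hi) ν' hν'
  have hN : ∀ p, ψ p - π p ∈ N := by
    intro p
    have h2 := AlgHom.congr_fun hu' (Ideal.Quotient.mk I p)
    simp only [AlgHom.comp_apply] at h2
    rw [hu p] at h2
    have h3 : ((DoubleQuot.quotQuotEquivQuotOfLEₐ k hK).symm : ((P ⧸ L) ⧸ J) →ₐ[k] _)
        (Ideal.Quotient.mk J (Ideal.Quotient.mk L p)) =
        Ideal.Quotient.mk N (Ideal.Quotient.mk K (Ideal.Quotient.mk L p)) := by
      change (DoubleQuot.quotQuotEquivQuotOfLE hK).symm _ = _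
      rw [DoubleQuot.quotQuotEquivQuotOfLE_symm_mk]
      rfl
    rw [h3] at h2
    have h4 : Ideal.Quotient.mk N (ψ p) = Ideal.Quotient.mk N (π p) := h2
    exact Ideal.Quotient.eq.mp h4
  have hψ : ∀ i ∈ I, ψ i = 0 := by
    intro i hi
    change u' (Ideal.Quotient.mk I i) = 0
    rw [Ideal.Quotient.eq_zero_iff_mem.mpr hi, map_zero]
  have hπ := map_eq_zero_of_lift I hI π ψ N hN hmN hNN hψ
  have hJK : J ≤ K := by
    rw [hJ, Ideal.map_le_iff_le_comap]
    intro i hi
    have := hπ i hi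
    change Ideal.Quotient.mk K (Ideal.Quotient.mk L i) = 0 at this
    rw [Ideal.Quotient.eq_zero_iff_mem] at this
    exact this
  -- lifts of generators
  have hlift : ∀ a, ∃ i ∈ I, Ideal.Quotient.mk L i = ((j a : ↥J) : P ⧸ L) := by
    intro a
    exact (Ideal.mem_map_iff_of_surjective _ hsurj).mp (j a).2
  choose ι hιI hιj using hlift
  set S : Ideal P := Ideal.span (Set.range ι) with hS
  have hSI : S ≤ I := by
    rw [hS, Ideal.span_le]
    rintro _ ⟨a, rfl⟩
    exact hιI a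
  have hKS : K = S.map (Ideal.Quotient.mk L) := by
    rw [hS, Ideal.map_span, hKdef]
    congr 1
    ext x
    constructor
    · rintro ⟨a, rfl⟩
      exact ⟨ι a, ⟨a, rfl⟩, hιj a⟩
    · rintro ⟨_, ⟨a, rfl⟩, rfl⟩
      exact ⟨a, (hιj a).symm⟩
  have hIS : (I : Submodule P P) ≤ S ⊔ m • (I : Submodule P P) := by
    intro x hx
    have h1 : Ideal.Quotient.mk L x ∈ S.map (Ideal.Quotient.mk L) := by
      rw [← hKS]; exact hJK (Ideal.mem_map_of_mem _ hx)
    have h2 : x ∈ Ideal.comap (Ideal.Quotient.mk L) (S.map (Ideal.Quotient.mk L)) := h1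
    rw [Ideal.comap_map_of_surjective _ hsurj, ← RingHom.ker_eq_comap_bot, Ideal.mk_ker] at h2
    obtain ⟨y, hy, l, hl, rfl⟩ := Submodule.mem_sup.mp h2
    obtain ⟨z, hz, w, hw, rfl⟩ := Submodule.mem_sup.mp hl
    have hzI : z ∈ I := Ideal.mul_le_right hz
    have hwI : w ∈ I := by
      have : w = (y + (z + w)) - y - z := by ring
      rw [this]
      exact I.sub_mem (I.sub_mem hx (hSI hy)) hzI
    have hw' : w ∈ m * I := hn ⟨hwI, hw⟩
    refine Submodule.mem_sup.mpr ⟨y, hy, z + w, ?_, rfl⟩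
    exact (m * I).add_mem hz hw'
  have hjac : m ≤ Ideal.jacobson ⊥ := by
    rw [IsLocalRing.jacobson_eq_maximalIdeal ⊥ bot_ne_top]
  have hIS' : (I : Submodule P P) ≤ S :=
    Submodule.le_of_le_smul_of_le_jacobson_bot (IsNoetherian.noetherian _) hjac hIS
  have hIeq : I = S := le_antisymm hIS' hSI
  rw [hIeq, hS]
  calc (Ideal.span (Set.range ι)).spanFinrank ≤ (Set.range ι).ncard :=
        Submodule.spanFinrank_span_le_ncard_of_finite (Set.finite_range ι)
    _ ≤ Module.finrank k V := by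
        have := Set.ncard_image_le (f := ι) (Set.finite_univ)
        rw [Set.image_univ, Set.ncard_univ, Nat.card_eq_fintype_card, Fintype.card_fin] at this
        exact this

end Groth.Agent.H9.OBS
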