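import Mathlib
import Groth.Prelude.Def_W4bk4hartshdef114Obs
import Groth.Agent.Lib.Helper9.Misc.OBS2

set_option autoImplicit false
set_option linter.style.haveILetI false
set_option linter.unusedSectionVars false
set_option linter.unusedVariables false

open TensorProduct W4bk4hartshdef114

universe u

namespace Groth.Agent.H9.OBS

theorem main2 (k : Type u) [Field k] (P : Type u) [CommRing P] [IsLocalRing P]
    [IsNoetherianRing P] [Algebra k P]
    (hres : Function.Surjective (algebraMap k (IsLocalRing.ResidueField P)))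
    (I : Ideal P) (hI : I ≤ IsLocalRing.maximalIdeal P ^ 2)
    (V : Type u) [AddCommGroup V] [Module k V] [Module.Finite k V]
    (T : ObsTheory k (P ⧸ I) V) :
    ringKrullDim P ≤ ringKrullDim (P ⧸ I) + (Module.finrank k V : WithBot ℕ∞) ∧
      (ringKrullDim (P ⧸ I) + (Module.finrank k V : WithBot ℕ∞) = ringKrullDim P →
        ∃ s : Finset P, Ideal.span (s : Set P) = I ∧
          ringKrullDim (P ⧸ I) + (s.card : WithBot ℕ∞) = ringKrullDim P) := by
  have hr := main k P hres I hI V T
  have hIm : I ≤ IsLocalRing.maximalIdeal P := hI.trans (Ideal.pow_le_self two_ne_zero)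
  have hjac : I ≤ Ring.jacobson P := by
    rw [IsLocalRing.ringJacobson_eq_maximalIdeal]; exact hIm
  have h1 := ringKrullDim_le_ringKrullDim_quotient_add_spanFinrank I hjac
  have h2 : ringKrullDim (P ⧸ I) + (I.spanFinrank : WithBot ℕ∞) ≤
      ringKrullDim (P ⧸ I) + (Module.finrank k V : WithBot ℕ∞) := by
    gcongr
  refine ⟨h1.trans h2, ?_⟩
  intro heq
  obtain ⟨s, hs1, hs2⟩ := Submodule.FG.exists_span_finset_card_eq_spanFinrank
    (IsNoetherian.noetherian (I : Submodule P P))
  refine ⟨s, hs2, ?_⟩
  rw [hs1]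
  exact le_antisymm (h2.trans heq.le) h1

end Groth.Agent.H9.OBS
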