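import Mathlib

set_option autoImplicit false
set_option linter.style.haveILetI false
set_option linter.unusedSectionVars false
set_option linter.unusedVariables false

namespace Groth.Agent.H9.OFS

open Polynomial

universe u v

section involutions
variable {K : Type u} [Field K]

/-- a finite set of pairwise commuting involutions on an `n`-dimensional space has at most
`2 ^ n` elements (char ≠ 2). -/
theorem card_involutions_le (h2 : (2 : K) ≠ 0) : ∀ (n : ℕ) (V : Type v) [AddCommGroup V]
    [Module K V] [FiniteDimensional K V],
    Module.finrank K V = n → ∀ S : Finset (Module.End K V), (∀ a ∈ S, a * a = 1) →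
    (∀ a ∈ S, ∀ b ∈ S, a * b = b * a) → S.card ≤ 2 ^ n := by
  intro n
  induction n using Nat.strong_induction_on with
  | _ n ih =>
    intro V _ _ _ hn S hinv hcomm
    classical
    by_cases hsc : ∀ a ∈ S, a = 1 ∨ a = -1
    · by_cases hn0 : n = 0
      · subst hn0
        haveI : Subsingleton V := Module.finrank_zero_iff.mp hn
        haveI : Subsingleton (Module.End K V) :=
          ⟨fun a b => LinearMap.ext fun x => Subsingleton.elim _ _⟩
        simpa using Finset.card_le_one_of_subsingleton S
      · have h1 : S ⊆ {1, -1} := by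
          intro a ha
          rcases hsc a ha with h | h <;> simp [h]
        calc S.card ≤ ({1, -1} : Finset (Module.End K V)).card := Finset.card_le_card h1
          _ ≤ 2 := Finset.card_le_two
          _ = 2 ^ 1 := by norm_num
          _ ≤ 2 ^ n := Nat.pow_le_pow_right (by norm_num) (Nat.one_le_iff_ne_zero.mpr hn0)
    · push Not at hsc
      obtain ⟨g, hgS, hg1, hgm1⟩ := hsc
      have hgg : ∀ x, g (g x) = x := fun x => by
        have := hinv g hgS
        calc g (g x) = (g * g) x := rfl
          _ = x := by rw [this]; rfl
      set P : Submodule K V := LinearMap.ker (g - 1) with hP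
      set M : Submodule K V := LinearMap.ker (g + 1) with hM
      have memP : ∀ x, x ∈ P ↔ g x = x := by
        intro x
        rw [hP, LinearMap.mem_ker, LinearMap.sub_apply, Module.End.one_apply, sub_eq_zero]
      have memM : ∀ x, x ∈ M ↔ g x = -x := by
        intro x
        rw [hM, LinearMap.mem_ker, LinearMap.add_apply, Module.End.one_apply,
          add_eq_zero_iff_eq_neg]
      have hcompl : IsCompl P M := by
        constructor
        · rw [Submodule.disjoint_def]
          intro x hxP hxM
          rw [memP] at hxP
          rw [memM] at hxM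
          have : (2 : K) • x = 0 := by
            rw [two_smul]
            nth_rewrite 1 [← hxP]
            rw [hxM]; simp
          exact (smul_eq_zero.mp this).resolve_left h2
        · rw [codisjoint_iff, eq_top_iff]
          intro x _
          rw [Submodule.mem_sup]
          refine ⟨(2 : K)⁻¹ • (x + g x), ?_, (2 : K)⁻¹ • (x - g x), ?_, ?_⟩
          · rw [memP, map_smul, map_add, hgg, add_comm]
          · rw [memM, map_smul, map_sub, hgg, ← smul_neg, neg_sub]
          · rw [← smul_add]
            have : x + g x + (x - g x) = (2 : K) • x := by rw [two_smul]; abel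
            rw [this, smul_smul, inv_mul_cancel₀ h2, one_smul]
      have hdim := Submodule.finrank_add_eq_of_isCompl hcompl
      have hPtop : P ≠ ⊤ := by
        intro h
        apply hg1
        ext x
        have : x ∈ P := by rw [h]; trivial
        rw [memP] at this
        simpa using this
      have hMtop : M ≠ ⊤ := by
        intro h
        apply hgm1
        ext x
        have : x ∈ M := by rw [h]; trivial
        rw [memM] at this
        simpa using this
      have hPlt := Submodule.finrank_lt hPtop
      have hMlt := Submodule.finrank_lt hMtop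
      rw [hn] at hPlt hMlt hdim
      -- invariance
      have hcg : ∀ a ∈ S, ∀ x, g (a x) = a (g x) := by
        intro a ha x
        have := hcomm g hgS a ha
        calc g (a x) = (g * a) x := rfl
          _ = (a * g) x := by rw [this]
          _ = a (g x) := rfl
      have invP : ∀ a ∈ S, ∀ x ∈ P, a x ∈ P := by
        intro a ha x hx
        rw [memP] at hx ⊢
        rw [hcg a ha, hx]
      have invM : ∀ a ∈ S, ∀ x ∈ M, a x ∈ M := by
        intro a ha x hx
        rw [memM] at hx ⊢
        rw [hcg a ha, hx, map_neg]
      let rP : Module.End K V → Module.End K P := fun a =>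
        if h : ∀ x ∈ P, a x ∈ P then a.restrict h else 0
      let rM : Module.End K V → Module.End K M := fun a =>
        if h : ∀ x ∈ M, a x ∈ M then a.restrict h else 0
      have hrP : ∀ a ∈ S, ∀ x : P, ((rP a x : P) : V) = a x := by
        intro a ha x
        simp only [rP, dif_pos (invP a ha)]
        rfl
      have hrM : ∀ a ∈ S, ∀ x : M, ((rM a x : M) : V) = a x := by
        intro a ha x
        simp only [rM, dif_pos (invM a ha)]
        rfl
      have cardP : (S.image rP).card ≤ 2 ^ Module.finrank K P := by
        apply ih _ hPlt P rfl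
        · intro a' ha'
          obtain ⟨a, ha, rfl⟩ := Finset.mem_image.mp ha'
          ext x
          rw [Module.End.mul_apply, hrP a ha, hrP a ha, Module.End.one_apply]
          have := hinv a ha
          calc a (a x) = (a * a) (x : V) := rfl
            _ = x := by rw [this]; rfl
        · intro a' ha' b' hb'
          obtain ⟨a, ha, rfl⟩ := Finset.mem_image.mp ha'
          obtain ⟨b, hb, rfl⟩ := Finset.mem_image.mp hb'
          ext x
          rw [Module.End.mul_apply, Module.End.mul_apply, hrP a ha, hrP b hb, hrP b hb, hrP a ha]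
          have := hcomm a ha b hb
          calc a (b x) = (a * b) (x : V) := rfl
            _ = (b * a) (x : V) := by rw [this]
            _ = b (a x) := rfl
      have cardM : (S.image rM).card ≤ 2 ^ Module.finrank K M := by
        apply ih _ hMlt M rfl
        · intro a' ha'
          obtain ⟨a, ha, rfl⟩ := Finset.mem_image.mp ha'
          ext x
          rw [Module.End.mul_apply, hrM a ha, hrM a ha, Module.End.one_apply]
          have := hinv a ha
          calc a (a x) = (a * a) (x : V) := rfl
            _ = x := by rw [this]; rfl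
        · intro a' ha' b' hb'
          obtain ⟨a, ha, rfl⟩ := Finset.mem_image.mp ha'
          obtain ⟨b, hb, rfl⟩ := Finset.mem_image.mp hb'
          ext x
          rw [Module.End.mul_apply, Module.End.mul_apply, hrM a ha, hrM b hb, hrM b hb, hrM a ha]
          have := hcomm a ha b hb
          calc a (b x) = (a * b) (x : V) := rfl
            _ = (b * a) (x : V) := by rw [this]
            _ = b (a x) := rfl
      have hinj : Set.InjOn (fun a => (rP a, rM a)) (S : Set (Module.End K V)) := by
        intro a ha b hb hab
        simp only [Prod.mk.injEq] at hab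
        obtain ⟨h1, h2'⟩ := hab
        ext x
        have hx : x ∈ P ⊔ M := by rw [hcompl.sup_eq_top]; trivial
        obtain ⟨y, hy, z, hz, rfl⟩ := Submodule.mem_sup.mp hx
        rw [map_add, map_add]
        congr 1
        · have e1 := hrP a ha ⟨y, hy⟩
          have e2 := hrP b hb ⟨y, hy⟩
          rw [h1] at e1
          rw [← e1, ← e2]
        · have e1 := hrM a ha ⟨z, hz⟩
          have e2 := hrM b hb ⟨z, hz⟩
          rw [h2'] at e1
          rw [← e1, ← e2]
      calc S.card ≤ ((S.image rP) ×ˢ (S.image rM)).card := by
            apply Finset.card_le_card_of_injOn (fun a => (rP a, rM a)) _ hinj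
            intro a ha
            exact Finset.mem_product.mpr ⟨Finset.mem_image_of_mem _ ha, Finset.mem_image_of_mem _ ha⟩
        _ = (S.image rP).card * (S.image rM).card := Finset.card_product _ _
        _ ≤ 2 ^ Module.finrank K P * 2 ^ Module.finrank K M := Nat.mul_le_mul cardP cardM
        _ = 2 ^ n := by rw [← pow_add, hdim]

end involutions

section nilp

variable {K : Type u} [Field K] {V : Type v} [AddCommGroup V] [Module K V]

theorem exists_vec_of_nilpotent (S : Module.End K V) (N : ℕ) (hN : S ^ N = 0) (hS : S ≠ 0) :
    ∃ v, S v ≠ 0 ∧ S (S v) = 0 := by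
  classical
  have hex : ∃ k, S ^ k = 0 := ⟨N, hN⟩
  set k := Nat.find hex with hk
  have hk0 : S ^ k = 0 := Nat.find_spec hex
  have hk2 : 2 ≤ k := by
    by_contra h
    push Not at h
    interval_cases k
    · rw [pow_zero] at hk0
      apply hS
      calc S = S * 1 := (mul_one S).symm
        _ = 0 := by rw [hk0, mul_zero]
    · rw [pow_one] at hk0
      exact hS hk0
  obtain ⟨j, hj⟩ : ∃ j, k = j + 2 := ⟨k - 2, by omega⟩
  have hmin : S ^ (j + 1) ≠ 0 := by
    have := Nat.find_min hex (m := j + 1) (by omega)
    exact this
  obtain ⟨u, hu⟩ : ∃ u, (S ^ (j + 1)) u ≠ 0 := by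
    by_contra h
    push Not at h
    apply hmin
    ext x
    simpa using h x
  refine ⟨(S ^ j) u, ?_, ?_⟩
  · rw [pow_succ'] at hu
    exact hu
  · have : (S ^ (j + 2)) u = 0 := by rw [← hj, hk0]; rfl
    rw [pow_succ', pow_succ'] at this
    exact this

end nilp

section main

variable (K : Type u) [Field K] (V : Type v) [AddCommGroup V] [Module K V] [FiniteDimensional K V]

theorem pow_coe (g : V ≃ₗ[K] V) (m : ℕ) (x : V) :
    (g ^ m) x = ((g.toLinearMap : Module.End K V) ^ m) x := by
  induction m generalizing x with
  | zero => rfl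
  | succ m ih =>
    rw [pow_succ', pow_succ', LinearEquiv.mul_apply, Module.End.mul_apply, ih]
    rfl

theorem sq_eq_one (hK : ∀ n : ℕ, 0 < n → (X ^ n - 1 : K[X]).Splits) (h2 : (2 : K) ≠ 0)
    (q : QuadraticForm K V) (hq : q.Anisotropic) (g : V ≃ₗ[K] V)
    (hg : ∀ x : V, q (g x) = q x) (m : ℕ) (hm : 0 < m) (hgm : g ^ m = 1) : g * g = 1 := by
  classical
  set T : Module.End K V := g.toLinearMap with hT
  have hTm : T ^ m = 1 := by
    ext x
    rw [← pow_coe, hgm]; rfl
  have hint : IsIntegral K T := Algebra.IsIntegral.isIntegral T
  have hdvd : minpoly K T ∣ (X ^ m - 1 : K[X]) := by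
    apply minpoly.dvd
    simp [hTm]
  have hne : (X ^ m - 1 : K[X]) ≠ 0 := by
    simpa using X_pow_sub_C_ne_zero hm (1 : K)
  have hspl : (minpoly K T).Splits := (hK m hm).of_dvd hne hdvd
  have hmonic := minpoly.monic hint
  have hroots : ∀ r ∈ (minpoly K T).roots, (X - C r : K[X]) ∣ X ^ 2 - 1 := by
    intro r hr
    have hroot : (minpoly K T).IsRoot r := (mem_roots (minpoly.ne_zero hint)).mp hr
    have hev := Module.End.hasEigenvalue_of_isRoot hroot
    obtain ⟨v, hv⟩ := hev.exists_hasEigenvector
    have hTv : T v = r • v := hv.apply_eq_smul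
    have hv0 : v ≠ 0 := hv.2
    have hqv : q v ≠ 0 := fun h => hv0 (hq v h)
    have h1 : q v = (r * r) * q v := by
      have := hg v
      have e : g v = r • v := hTv
      rw [e, QuadraticMap.map_smul, smul_eq_mul] at this
      exact this.symm
    have hrr : r * r = 1 := by
      have : (r * r - 1) * q v = 0 := by rw [sub_mul, one_mul, ← h1, sub_self]
      rcases mul_eq_zero.mp this with h | h
      · exact sub_eq_zero.mp h
      · exact absurd h hqv
    refine ⟨X + C r, ?_⟩
    have : (X - C r) * (X + C r) = X ^ 2 - C (r * r) := by rw [C_mul]; ring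
    rw [this, hrr, C_1]
  have hdvd2 : minpoly K T ∣ (X ^ 2 - 1 : K[X]) ^ (Multiset.card (minpoly K T).roots) := by
    conv_lhs => rw [hspl.eq_prod_roots_of_monic hmonic]
    have := Multiset.prod_dvd_prod_of_dvd (S := (minpoly K T).roots) (fun r => (X - C r : K[X]))
      (fun _ => (X ^ 2 - 1 : K[X])) hroots
    simpa [Multiset.map_const', Multiset.prod_replicate] using this
  set N := Multiset.card (minpoly K T).roots
  have hnil : (T * T - 1) ^ N = 0 := by
    obtain ⟨c, hc⟩ := hdvd2
    have := congrArg (aeval T) hc
    simp only [map_pow, map_sub, aeval_X, map_one, map_mul, minpoly.aeval, zero_mul] at this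
    rw [pow_two] at this
    exact this
  have hzero : T * T - 1 = 0 := by
    by_contra hS
    obtain ⟨v, hv1, hv2⟩ := exists_vec_of_nilpotent (T * T - 1) N hnil hS
    set w := (T * T - 1) v with hw
    have hTTv : g (g v) = v + w := by
      rw [hw, LinearMap.sub_apply, Module.End.mul_apply, Module.End.one_apply]
      simp [hT]
    have hTTw : g (g w) = w := by
      have : (T * T - 1) w = 0 := hv2
      rw [LinearMap.sub_apply, Module.End.mul_apply, Module.End.one_apply, sub_eq_zero] at this
      exact this
    have e1 : q (v + w) = q v := by rw [← hTTv, hg, hg]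
    have e2 : q (v - w) = q v := by
      have : g (g (v - w)) = v := by rw [map_sub, map_sub, hTTv, hTTw]; abel
      rw [← hg (v - w), ← hg (g (v - w)), this]
    have e3 : q (v + w) + q (v - w) = 2 * q v + 2 * q w := by
      have p1 : q (v + w) = q v + q w + QuadraticMap.polar q v w := by
        unfold QuadraticMap.polar; ring
      have p2 : q (v - w) = q v + q w - QuadraticMap.polar q v w := by
        have : q (v + (-w)) = q v + q (-w) + QuadraticMap.polar q v (-w) := by
          unfold QuadraticMap.polar; ring
        rw [QuadraticMap.polar_neg_right, QuadraticMap.map_neg, ← sub_eq_add_neg] at this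
        rw [this]; ring
      rw [p1, p2]; ring
    rw [e1, e2] at e3
    have : (2 : K) * q w = 0 := by linear_combination -e3
    have hqw : q w = 0 := (mul_eq_zero.mp this).resolve_left h2
    exact hv1 (hq w hqw)
  ext x
  have := congrArg (fun f : Module.End K V => f x) hzero
  simp only [LinearMap.sub_apply, Module.End.mul_apply, Module.End.one_apply, LinearMap.zero_apply,
    sub_eq_zero] at this
  exact this

theorem main (hK : ∀ n : ℕ, 0 < n → (X ^ n - 1 : K[X]).Splits) (h2 : (2 : K) ≠ 0)
    (q : QuadraticForm K V) (hq : q.Anisotropic)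
    (G : Subgroup (V ≃ₗ[K] V)) [Finite G] (hG : ∀ g ∈ G, ∀ x : V, q (g x) = q x) :
    (∀ g ∈ G, ∀ h ∈ G, g * h = h * g) ∧ Nat.card G ≤ 2 ^ Module.finrank K V := by
  classical
  have hsq : ∀ g ∈ G, g * g = 1 := by
    intro g hg
    let g' : G := ⟨g, hg⟩
    have hpos : 0 < orderOf g' := orderOf_pos g'
    have hpow : g ^ orderOf g' = 1 := by
      have h1 : ((g' ^ orderOf g' : G) : V ≃ₗ[K] V) = ((1 : G) : V ≃ₗ[K] V) :=
        congrArg Subtype.val (pow_orderOf_eq_one g')
      rw [Subgroup.coe_pow, Subgroup.coe_one] at h1
      exact h1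
    exact sq_eq_one K V hK h2 q hq g (hG g hg) _ hpos hpow
  have hcomm : ∀ g ∈ G, ∀ h ∈ G, g * h = h * g := by
    intro g hg h hh
    have e1 : g = g⁻¹ := mul_eq_one_iff_eq_inv.mp (hsq g hg)
    have e2 : h = h⁻¹ := mul_eq_one_iff_eq_inv.mp (hsq h hh)
    have e3 : g * h = (g * h)⁻¹ := mul_eq_one_iff_eq_inv.mp (hsq _ (G.mul_mem hg hh))
    rw [e3, mul_inv_rev, ← e1, ← e2]
  refine ⟨hcomm, ?_⟩
  haveI : Fintype G := Fintype.ofFinite G
  let φ : G → Module.End K V := fun g => (g.1 : V ≃ₗ[K] V).toLinearMap
  have hφ : Function.Injective φ := by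
    intro a b hab
    apply Subtype.ext
    exact LinearEquiv.toLinearMap_injective hab
  have hcard : (Finset.univ.image φ).card = Nat.card G := by
    rw [Finset.card_image_of_injective _ hφ, Finset.card_univ, Nat.card_eq_fintype_card]
  rw [← hcard]
  apply card_involutions_le h2 _ V rfl
  · intro a ha
    obtain ⟨g, -, rfl⟩ := Finset.mem_image.mp ha
    have := hsq g.1 g.2
    ext x
    have h' := congrArg (fun f : V ≃ₗ[K] V => f x) this
    exact h'
  · intro a ha b hb
    obtain ⟨g, -, rfl⟩ := Finset.mem_image.mp ha
    obtain ⟨h, -, rfl⟩ := Finset.mem_image.mp hb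
    have := hcomm g.1 g.2 h.1 h.2
    ext x
    have h' := congrArg (fun f : V ≃ₗ[K] V => f x) this
    exact h'

end main

end Groth.Agent.H9.OFS
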