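import Mathlib
import Groth.Agent.Lib.Helper9.Misc.HeightOne

/-! Helper9: nonempty opens of Spec of a Noetherian local domain of dim ≥ 2 are infinite. -/

namespace Groth.Agent.H9.OpenInf

universe u

theorem main {R : Type u} [CommRing R] [IsDomain R] [IsLocalRing R] [IsNoetherianRing R]
    (hdim : 2 ≤ ringKrullDim R) (U : Set (PrimeSpectrum R)) (hU : IsOpen U) (hne : U.Nonempty) :
    U.Infinite := by
  obtain ⟨x, hx⟩ := hne
  obtain ⟨_, ⟨f, rfl⟩, hxf, hfU⟩ :=
    PrimeSpectrum.isTopologicalBasis_basic_opens.exists_subset_of_mem_open hx hU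
  have hf0 : f ≠ 0 := by
    rintro rfl
    simp at hxf
  let m := IsLocalRing.maximalIdeal R
  have hm : (2 : ℕ∞) ≤ m.height := by
    have h1 : (m.height : WithBot ℕ∞) = ringKrullDim R :=
      IsLocalRing.maximalIdeal_height_eq_ringKrullDim
    rw [← h1] at hdim
    have h2 : ((2 : ℕ∞) : WithBot ℕ∞) ≤ (m.height : WithBot ℕ∞) := hdim
    exact WithBot.coe_le_coe.1 h2
  have hinf := HeightOne.infinite_height_one_le m hm
  have hfin := Ideal.finite_minimalPrimes_of_isNoetherianRing R (Ideal.span {f})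
  have hT := hinf.sdiff hfin
  have hsub : {q : Ideal R | q.IsPrime ∧ q ≤ m ∧ q.height = 1} \ (Ideal.span {f}).minimalPrimes ⊆
      Set.range (PrimeSpectrum.asIdeal) := by
    rintro q ⟨⟨hq, -, -⟩, -⟩
    exact ⟨⟨q, hq⟩, rfl⟩
  refine (hT.preimage hsub).mono ?_
  rintro p ⟨⟨hp, -, hp1⟩, hpf⟩
  apply hfU
  show f ∉ p.asIdeal
  intro hfp
  exact hpf (HeightOne.mem_minimalPrimes_of_height_one hf0 p.asIdeal hp1 hfp)

end Groth.Agent.H9.OpenInf
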