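import Mathlib

/-! Helper9: open mapping dichotomy for complete first-countable nonarchimedean groups (S9326). -/

open Filter Topology

namespace Groth.Agent.H9.OpenMap

universe u

variable {N M : Type u} [AddCommGroup N]
    [AddCommGroup M] [UniformSpace N] [IsUniformAddGroup N] [TopologicalSpace M]
    [IsTopologicalAddGroup M] [T2Space M] [T2Space N] [CompleteSpace N] [NonarchimedeanAddGroup N]
    [FirstCountableTopology N]

theorem not_both (u : N →+ M) (h : IsOpenMap u) (V : OpenAddSubgroup N)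
    (hV : IsNowhereDense (u '' (V : Set N))) : False := by
  have hopen : IsOpen (u '' (V : Set N)) := h _ V.isOpen
  have h0 : (0 : M) ∈ u '' (V : Set N) := ⟨0, V.zero_mem, map_zero u⟩
  have : (0 : M) ∈ interior (closure (u '' (V : Set N))) :=
    interior_maximal subset_closure hopen h0
  rw [hV] at this
  exact this

/-- the key step: image of an open subgroup is open -/
theorem image_open (u : N →+ M) (hu : Continuous u)
    (h : ∀ V : OpenAddSubgroup N, ¬ IsNowhereDense (u '' (V : Set N))) (V : OpenAddSubgroup N) :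
    IsOpen (u '' (V : Set N)) := by
  classical
  obtain ⟨b, hb⟩ := (𝓝 (0 : N)).exists_antitone_basis
  -- open subgroups inside the basis sets
  have hW : ∀ n, ∃ W : OpenAddSubgroup N, (W : Set N) ⊆ b n :=
    fun n => NonarchimedeanAddGroup.is_nonarchimedean (b n) (hb.mem n)
  choose W hW using hW
  let Vn : ℕ → OpenAddSubgroup N := fun n => V ⊓ W n
  have hVnV : ∀ n, ∀ x ∈ Vn n, x ∈ V := fun n x hx => (OpenAddSubgroup.mem_inf.mp hx).1
  have hVnb : ∀ n, ∀ x ∈ Vn n, x ∈ b n := fun n x hx => hW n (OpenAddSubgroup.mem_inf.mp hx).2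
  -- closures of images
  let H : ℕ → AddSubgroup M := fun n => ((Vn n : AddSubgroup N).map u).topologicalClosure
  have hHcoe : ∀ n, (H n : Set M) = closure (u '' (Vn n : Set N)) := by
    intro n
    simp only [H, AddSubgroup.topologicalClosure_coe, AddSubgroup.coe_map]
    rfl
  have hHopen : ∀ n, IsOpen (H n : Set M) := by
    intro n
    have hn := h (Vn n)
    rw [IsNowhereDense, ← Ne, ← Set.nonempty_iff_ne_empty] at hn
    obtain ⟨g, hg⟩ := hn
    rw [← hHcoe n] at hg
    exact AddSubgroup.isOpen_of_mem_nhds (H n) (mem_interior_iff_mem_nhds.mp hg)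
  -- the step
  have step : ∀ n (r : M), r ∈ H n → ∃ x ∈ Vn n, r - u x ∈ H (n + 1) := by
    intro n r hr
    have hr' : r ∈ closure (u '' (Vn n : Set N)) := by rw [← hHcoe n]; exact hr
    have hnb : {z : M | r - z ∈ H (n + 1)} ∈ 𝓝 r := by
      have hcont : Continuous fun z : M => r - z := continuous_const.sub continuous_id
      have : (fun z : M => r - z) ⁻¹' (H (n + 1) : Set M) ∈ 𝓝 r := by
        apply hcont.continuousAt.preimage_mem_nhds
        simp only [sub_self]
        exact (hHopen (n + 1)).mem_nhds (H (n + 1)).zero_mem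
      exact this
    obtain ⟨z, hz1, hz2⟩ := mem_closure_iff_nhds.mp hr' _ hnb
    obtain ⟨x, hx, rfl⟩ := hz2
    exact ⟨x, hx, hz1⟩
  rw [isOpen_iff_mem_nhds]
  -- it suffices to show closure (u V_0) ⊆ u V
  suffices hsub : (H 0 : Set M) ⊆ u '' (V : Set N) by
    rintro _ ⟨v, hv, rfl⟩
    have h1 : (fun z : M => z - u v) ⁻¹' (H 0 : Set M) ∈ 𝓝 (u v) := by
      have hcont : Continuous fun z : M => z - u v := continuous_id.sub continuous_const
      apply hcont.continuousAt.preimage_mem_nhds
      simp only [sub_self]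
      exact (hHopen 0).mem_nhds (H 0).zero_mem
    refine Filter.mem_of_superset h1 ?_
    intro z hz
    obtain ⟨w, hw, hw'⟩ := hsub hz
    refine ⟨w + v, V.add_mem hw hv, ?_⟩
    rw [map_add, hw']
    simp
  intro y hy
  -- recursive construction
  let P : ℕ → N → Prop := fun n s => s ∈ V ∧ y - u s ∈ H n
  have hstep : ∀ n s, P n s → ∃ s', P (n + 1) s' ∧ s' - s ∈ Vn n := by
    intro n s hs
    obtain ⟨x, hx, hx'⟩ := step n _ hs.2
    refine ⟨s + x, ⟨V.add_mem hs.1 (hVnV n x hx), ?_⟩, by simpa using hx⟩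
    rw [map_add, ← sub_sub]; exact hx'
  choose! nxt hnxt using hstep
  let s : ℕ → N := fun n => Nat.rec 0 (fun n s => nxt n s) n
  have hs0 : s 0 = 0 := rfl
  have hsS : ∀ n, s (n + 1) = nxt n (s n) := fun n => rfl
  have hP : ∀ n, P n (s n) := by
    intro n
    induction n with
    | zero => exact ⟨V.zero_mem, by rw [hs0, map_zero, sub_zero]; exact hy⟩
    | succ n ih => rw [hsS]; exact (hnxt n _ ih).1
  have hdiff : ∀ n, s (n + 1) - s n ∈ Vn n := fun n => by rw [hsS]; exact (hnxt n _ (hP n)).2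
  have htend : Tendsto (fun n => s (n + 1) - s n) atTop (𝓝 0) := by
    rw [hb.toHasBasis.tendsto_right_iff]
    intro i _
    filter_upwards [eventually_ge_atTop i] with n hn
    exact hb.antitone hn (hVnb n _ (hdiff n))
  have hcau : CauchySeq s := NonarchimedeanAddGroup.cauchySeq_of_tendsto_sub_nhds_zero htend
  obtain ⟨a, ha⟩ := cauchySeq_tendsto_of_complete hcau
  have haV : a ∈ (V : Set N) := V.isClosed.mem_of_tendsto ha (Eventually.of_forall fun n => (hP n).1)
  refine ⟨a, haV, ?_⟩
  -- y - u a = 0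
  by_contra hne
  have hz : y - u a ≠ 0 := fun h0 => hne (by rw [sub_eq_zero] at h0; exact h0.symm)
  have hnb : ({y - u a}ᶜ : Set M) ∈ 𝓝 (0 : M) := isOpen_compl_singleton.mem_nhds (Ne.symm hz)
  obtain ⟨C, ⟨hC1, hC2⟩, hC3⟩ := (closed_nhds_basis (0 : M)).mem_iff.mp hnb
  have hpre : u ⁻¹' C ∈ 𝓝 (0 : N) := hu.continuousAt.preimage_mem_nhds (by rw [map_zero]; exact hC1)
  obtain ⟨i, _, hi⟩ := hb.toHasBasis.mem_iff.mp hpre
  have hHC : ∀ n, i ≤ n → (H n : Set M) ⊆ C := by
    intro n hn
    rw [hHcoe n]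
    refine closure_minimal ?_ hC2
    rintro _ ⟨x, hx, rfl⟩
    exact hi (hb.antitone hn (hVnb n x hx))
  have hlim : Tendsto (fun n => y - u (s n)) atTop (𝓝 (y - u a)) :=
    tendsto_const_nhds.sub ((hu.tendsto a).comp ha)
  have : y - u a ∈ C := hC2.mem_of_tendsto hlim (by
    filter_upwards [eventually_ge_atTop i] with n hn
    exact hHC n hn (hP n).2)
  exact hC3 this rfl

theorem isOpenMap_of (u : N →+ M) (hu : Continuous u)
    (h : ∀ V : OpenAddSubgroup N, ¬ IsNowhereDense (u '' (V : Set N))) : IsOpenMap u := by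
  intro U hU
  rw [isOpen_iff_mem_nhds]
  rintro _ ⟨x, hx, rfl⟩
  have h1 : (fun z : N => x + z) ⁻¹' U ∈ 𝓝 (0 : N) := by
    have hcont : Continuous fun z : N => x + z := continuous_const.add continuous_id
    apply hcont.continuousAt.preimage_mem_nhds
    simp only [add_zero]
    exact hU.mem_nhds hx
  obtain ⟨V, hV⟩ := NonarchimedeanAddGroup.is_nonarchimedean _ h1
  have hop := image_open u hu h V
  have h2 : (fun z : M => z - u x) ⁻¹' (u '' (V : Set N)) ∈ 𝓝 (u x) := by
    have hcont : Continuous fun z : M => z - u x := continuous_id.sub continuous_const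
    apply hcont.continuousAt.preimage_mem_nhds
    simp only [sub_self]
    exact hop.mem_nhds ⟨0, V.zero_mem, map_zero u⟩
  refine Filter.mem_of_superset h2 ?_
  rintro z ⟨v, hv, hv'⟩
  refine ⟨x + v, hV hv, ?_⟩
  rw [map_add, hv']; simp

theorem main (u : N →+ M) (hu : Continuous u) :
    Xor (IsOpenMap u) (∃ V : OpenAddSubgroup N, IsNowhereDense (u '' (V : Set N))) := by
  by_cases h : ∃ V : OpenAddSubgroup N, IsNowhereDense (u '' (V : Set N))
  · right
    refine ⟨h, fun hopen => ?_⟩
    obtain ⟨V, hV⟩ := h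
    exact not_both u hopen V hV
  · left
    refine ⟨isOpenMap_of u hu (fun V hV => h ⟨V, hV⟩), h⟩

end Groth.Agent.H9.OpenMap
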