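import Mathlib
import Groth.Prelude.Def_AlgGrp
import Groth.Prelude.Def_AGF
import Groth.Prelude.Def_ChGrp
import Groth.Agent.Lib.Helper9.Misc.OrbQuo
import Groth.Agent.Lib.Helper9.Misc.TOR2
import Groth.Agent.Lib.Helper9.Misc.GRD1
import Groth.Agent.Lib.Helper9.Misc.GZD3
import Groth.Agent.Lib.Helper9.Misc.GZB2
import Groth.Agent.Lib.Helper5.AlgSp.FppfLocal

/-! Helper9: over an algebraically closed field, an orbit map is proper iff the orbit is closed and the
stabilizer is proper (S11435). -/

set_option autoImplicit false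
set_option linter.style.haveILetI false
set_option linter.unusedSectionVars false
set_option linter.unusedVariables false

universe u
open CategoryTheory CategoryTheory.Limits AlgebraicGeometry MonoidalCategory
  CartesianMonoidalCategory MonObj GrpObj Groth.Agent.H9.FLH

namespace Groth.Agent.H9.OrbProper

variable (k : Type u) [Field k]

local notation "𝟙K" => 𝟙_ (Over (Spec (CommRingCat.of k)))

/-- the reduced subgroup of a group scheme over a perfect field -/
theorem exists_reduced_subgroup [PerfectField k] (G : Over (Spec (CommRingCat.of k))) [GrpObj G] :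
    ∃ (Gr : Over (Spec (CommRingCat.of k))) (_ : GrpObj Gr) (j : Gr ⟶ G), IsMonHom j ∧
      IsClosedImmersion j.left ∧ Surjective j.left ∧ IsReduced Gr.left := by
  obtain ⟨Y, i, himm, hred, hrange⟩ := Groth.Agent.H8.RedImm.exists_reduced_immersion
    (Set.univ : Set G.left) isClosed_univ.isLocallyClosed
  let F : Over (Spec (CommRingCat.of k)) := Over.mk (i ≫ G.hom)
  let j : F ⟶ G := Over.homMk i rfl
  haveI : IsImmersion i := himm
  haveI hci : IsClosedImmersion j.left :=
    .of_isPreimmersion i (by rw [hrange]; exact isClosed_univ)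
  haveI hsj : Surjective j.left := ⟨fun x => by
    have : x ∈ Set.range i := by rw [hrange]; trivial
    exact this⟩
  haveI hrF : IsReduced F.left := hred
  obtain ⟨⟨m, hm⟩, ⟨inv, hinv⟩, ⟨e, he⟩⟩ := Groth.Agent.H9.GRD.main k G F j
  haveI : Mono j.left := inferInstance
  haveI : Mono j := (Over.forget _).mono_of_mono_map (inferInstanceAs (Mono j.left))
  exact ⟨F, Groth.Agent.H9.GZD.grpObjOfMono j e m inv he hm hinv, j,
    Groth.Agent.H9.GZD.isMonHom_ofMono j e m inv he hm hinv, hci, hsj, hrF⟩

/-- the orbit map of a reduced group onto the reduced orbit is flat with kernel pair `G ⊗ G_o` -/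
theorem orbit_flat
    (G X Go Z : Over (Spec (CommRingCat.of k))) [GrpObj G]
    [LocallyOfFiniteType G.hom] [QuasiCompact G.hom] [IsReduced G.left]
    [LocallyOfFiniteType X.hom]
    (a : AlgGrp.Action G X) (o : 𝟙K ⟶ X) (i : Go ⟶ G)
    (hGo : IsPullback i (toUnit Go) (a.orbitMap o) o)
    (z : Z ⟶ X) [IsImmersion z.left] [IsReduced Z.left]
    (hz : Set.range z.left.base = Set.range (a.orbitMap o).left.base) :
    ∃ ψ : G ⟶ Z, ψ ≫ z = a.orbitMap o ∧ Flat ψ.left ∧ Surjective ψ.left ∧
      IsPullback (fst G Go) ((G ◁ i) ≫ μ[G]) ψ ψ := by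
  haveI : Mono z.left := inferInstance
  haveI : Mono z := (Over.forget _).mono_of_mono_map (inferInstanceAs (Mono z.left))
  obtain ⟨l, hl⟩ := Groth.Agent.H8.RedImm.exists_lift_of_isImmersion_of_isReduced z.left
    (a.orbitMap o).left (by rw [hz])
  obtain ⟨ψ, hψ⟩ : ∃ ψ : G ⟶ Z, ψ ≫ z = a.orbitMap o :=
    ⟨Over.homMk l (by rw [← Over.w z, ← Category.assoc, hl]; exact Over.w _),
      Over.OverMorphism.ext hl⟩
  have hsurj : Function.Surjective ψ.left := by
    intro p
    have h1 : z.left p ∈ Set.range (a.orbitMap o).left := by rw [← hz]; exact ⟨p, rfl⟩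
    obtain ⟨w, hw⟩ := h1
    refine ⟨w, ?_⟩
    apply z.left.isEmbedding.injective
    rw [← hw, ← hψ]
    rfl
  haveI : Surjective ψ.left := ⟨hsurj⟩
  haveI : LocallyOfFiniteType Z.hom := by rw [← Over.w z]; infer_instance
  haveI : IsLocallyNoetherian Z.left := LocallyOfFiniteType.isLocallyNoetherian Z.hom
  haveI : QuasiCompact ψ.left := by
    have : QuasiCompact (ψ.left ≫ Z.hom) := by rw [Over.w ψ]; infer_instance
    exact QuasiCompact.of_comp ψ.left Z.hom
  haveI : IsDominant ψ.left := inferInstance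
  haveI : IsSchemeTheoreticallyDominant ψ.left := .of_isDominant _
  obtain ⟨hd1, hd2⟩ := Groth.Agent.H9.SIM.dominant_whiskerLeft G ψ
  haveI hsurj2 : Surjective (G ◁ ψ).left :=
    MorphismProperty.of_isPullback (P := @Surjective)
      (Groth.Agent.H9.SIM.isPullback_whiskerLeft_left G ψ) inferInstance
  obtain ⟨act', hact'⟩ : ∃ act' : G ⊗ Z ⟶ Z, act' ≫ z = (G ◁ z) ≫ a.act := by
    have h1 : (G ◁ ψ) ≫ (G ◁ z) ≫ a.act = μ[G] ≫ a.orbitMap o := by
      rw [← MonoidalCategory.whiskerLeft_comp_assoc, hψ]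
      exact orbitMap_equivariant a o
    obtain ⟨m', hm'⟩ := Groth.Agent.H9.OrbQuo.exists_factor_of_dominant (G ◁ ψ).left
      ((G ◁ z) ≫ a.act).left z.left (μ[G] ≫ ψ).left (by
        rw [← Over.comp_left, ← Over.comp_left, Category.assoc, hψ, h1])
    exact ⟨Over.homMk m' (by rw [← Over.w z, ← Category.assoc, hm']; exact Over.w _),
      Over.OverMorphism.ext hm'⟩
  let a' := Groth.Agent.H9.OrbSm.restrictAction a z act' hact'
  let o' : 𝟙K ⟶ Z := η[G] ≫ ψ
  have ho' : o' ≫ z = o := by
    show (η[G] ≫ ψ) ≫ z = o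
    rw [Category.assoc, hψ]
    exact Groth.Agent.H9.ORB3.unit_orbitMap a o
  have horb : a'.orbitMap o' = ψ := by
    rw [← cancel_mono z, hψ]
    show (lift (𝟙 G) (toUnit G ≫ o') ≫ act') ≫ z = lift (𝟙 G) (toUnit G ≫ o) ≫ a.act
    rw [Category.assoc, hact', lift_whiskerLeft_assoc, Category.assoc, ho']
  have hflat : Flat ψ.left := by
    have := Groth.Agent.H9.ORB4.flat_orbitMap_of_surjective G Z a' o' (by rw [horb]; exact hsurj)
    rwa [horb] at this
  have hkp : IsPullback (fst G Go) ((G ◁ i) ≫ μ[G]) ψ ψ := by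
    have h0 := Groth.Agent.H9.OrbQuo.isPullback_orbit a o i hGo
    rw [← hψ] at h0
    exact Groth.Agent.H9.OrbQuo.isPullback_of_comp_mono _ _ ψ z h0
  exact ⟨ψ, hψ, hflat, inferInstance, hkp⟩

theorem main [IsAlgClosed k] (G X : Over (Spec (CommRingCat.of k))) [GrpObj G]
    [LocallyOfFiniteType G.hom] [QuasiCompact G.hom] [LocallyOfFiniteType X.hom]
    [QuasiCompact X.hom] (a : AlgGrp.Action G X) (x : 𝟙K ⟶ X)
    (Gx : Scheme.{u}) (p₁ : Gx ⟶ G.left) (p₂ : Gx ⟶ (𝟙K).left)
    (hpb : IsPullback p₁ p₂ (a.orbitMap x).left x.left) :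
    IsProper (a.orbitMap x).left ↔
      IsClosed (Set.range (a.orbitMap x).left) ∧ IsProper p₂ := by
  constructor
  · intro h
    exact ⟨(a.orbitMap x).left.isClosedMap.isClosed_range,
      MorphismProperty.of_isPullback (P := @IsProper) hpb h⟩
  rintro ⟨hclosed, hprop⟩
  obtain ⟨Gr, hGr, j, hj, hjc, hjs, hjr⟩ := exists_reduced_subgroup k G
  obtain ⟨φ, hφdef⟩ : ∃ φ, φ = a.orbitMap x := ⟨_, rfl⟩
  rw [← hφdef] at hpb hclosed ⊢
  haveI : LocallyOfFiniteType Gr.hom := by rw [← Over.w j]; infer_instance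
  haveI : QuasiCompact Gr.hom := by rw [← Over.w j]; infer_instance
  have hφr : (a.restrict j).orbitMap x = j ≫ φ := by
    rw [hφdef, AlgGrp.Action.comp_orbitMap]
    show lift (𝟙 Gr) (toUnit Gr ≫ x) ≫ (j ▷ X) ≫ a.act = _
    rw [lift_whiskerRight_assoc, Category.id_comp]
  -- the reduced orbit
  obtain ⟨Z₀, z₀, himm, hred, hrange⟩ := Groth.Agent.H8.RedImm.exists_reduced_immersion
    (Set.range φ.left) hclosed.isLocallyClosed
  let Z : Over (Spec (CommRingCat.of k)) := Over.mk (z₀ ≫ X.hom)
  let z : Z ⟶ X := Over.homMk z₀ rfl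
  haveI : IsImmersion z₀ := himm
  haveI : IsImmersion z.left := himm
  haveI : IsReduced Z.left := hred
  haveI : IsClosedImmersion z.left :=
    .of_isPreimmersion z₀ (by rw [hrange]; exact hclosed)
  have hrange' : Set.range z.left.base = Set.range ((a.restrict j).orbitMap x).left.base := by
    rw [hφr]
    show Set.range z₀ = Set.range (j ≫ φ).left
    rw [hrange, Over.comp_left, Scheme.Hom.comp_base, TopCat.coe_comp, Set.range_comp,
      Set.range_eq_univ.mpr j.left.surjective, Set.image_univ]
  -- the stabilizer in Gr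
  obtain ⟨Go, i, hGo⟩ : ∃ (Go : Over (Spec (CommRingCat.of k))) (i : Go ⟶ Gr),
      IsPullback i (toUnit Go) ((a.restrict j).orbitMap x) x := by
    have := IsPullback.of_hasPullback ((a.restrict j).orbitMap x) x
    rw [toUnit_unique (pullback.snd ((a.restrict j).orbitMap x) x) (toUnit _)] at this
    exact ⟨_, _, this⟩
  obtain ⟨ψ, hψ, hψf, hψs, hψk⟩ := orbit_flat k Gr X Go Z (a.restrict j) x i hGo z hrange'
  haveI := hψf; haveI := hψs
  -- the stabilizer in Gr is proper
  have hGoprop : IsProper Go.hom := by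
    have sqGo := IsPullback.map (Over.forget (Spec (CommRingCat.of k))) hGo
    simp only [Over.forget_obj, Over.forget_map] at sqGo
    rw [hφr, Over.comp_left] at sqGo
    let u : Go.left ⟶ Gx := hpb.lift (i.left ≫ j.left) (toUnit Go).left (by
      rw [Category.assoc]; exact sqGo.w)
    have hu1 : u ≫ p₁ = i.left ≫ j.left := hpb.lift_fst _ _ _
    have hu2 : u ≫ p₂ = (toUnit Go).left := hpb.lift_snd _ _ _
    have big : IsPullback (u ≫ p₂) i.left x.left (j.left ≫ φ.left) := by
      rw [hu2]; exact sqGo.flip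
    have sq2 : IsPullback u i.left p₁ j.left := IsPullback.of_right big hu1 hpb.flip
    haveI : IsClosedImmersion u :=
      MorphismProperty.of_isPullback (P := @IsClosedImmersion) sq2.flip inferInstance
    have : Go.hom = u ≫ p₂ := by rw [hu2, Groth.Agent.H9.TOR.toUnit_left]
    rw [this]
    haveI := hprop
    infer_instance
  -- ψ is proper by fppf descent
  haveI : LocallyOfFiniteType Z.hom := by
    show LocallyOfFiniteType (z₀ ≫ X.hom); infer_instance
  haveI : IsLocallyNoetherian Z.left := LocallyOfFiniteType.isLocallyNoetherian Z.hom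
  haveI : LocallyOfFiniteType ψ.left := by
    have : LocallyOfFiniteType (ψ.left ≫ Z.hom) := by rw [Over.w ψ]; infer_instance
    exact locallyOfFiniteType_of_comp ψ.left Z.hom
  haveI : LocallyOfFinitePresentation ψ.left := inferInstance
  have hψprop : IsProper ψ.left := by
    have sq := IsPullback.map (Over.forget (Spec (CommRingCat.of k))) hψk
    simp only [Over.forget_obj, Over.forget_map] at sq
    have h1 : IsProper (fst Gr Go).left :=
      MorphismProperty.of_isPullback (P := @IsProper)
        (Groth.Agent.H9.TOR.isPullback_fst_left Gr Go).flip hGoprop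
    exact MorphismProperty.of_isPullback_of_descendsAlong
      (Q := @Surjective ⊓ @Flat ⊓ @LocallyOfFinitePresentation) sq
      ⟨⟨inferInstance, inferInstance⟩, inferInstance⟩ h1
  have hjφ : IsProper (j.left ≫ φ.left) := by
    have : j.left ≫ φ.left = ψ.left ≫ z.left := by
      rw [← Over.comp_left, ← Over.comp_left, hψ, hφr]
    rw [this]
    infer_instance
  haveI : IsSeparated G.hom := Groth.Agent.H9.GZB.isSeparated_hom G
  haveI : IsSeparated φ.left := by
    have : IsSeparated (φ.left ≫ X.hom) := by rw [Over.w φ]; infer_instance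
    exact IsSeparated.of_comp φ.left X.hom
  haveI : LocallyOfFiniteType φ.left := by
    have : LocallyOfFiniteType (φ.left ≫ X.hom) := by rw [Over.w φ]; infer_instance
    exact locallyOfFiniteType_of_comp φ.left X.hom
  haveI : UniversallyClosed φ.left := by
    haveI : UniversallyClosed (j.left ≫ φ.left) := inferInstance
    exact UniversallyClosed.of_comp_surjective j.left φ.left
  exact {}

end Groth.Agent.H9.OrbProper
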