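import Mathlib

/-!
# The universal property of an Ore extension `O[∂; δ]` given by a normal form
-/

set_option autoImplicit false
set_option linter.unusedSectionVars false

namespace Groth.Agent.H9.Ore

universe u v w x

section Lift

variable {K : Type u} [Field K] {O : Type v} [CommRing O] [Algebra K O] (δ : Derivation K O O)
  {D : Type w} [Ring D] [Algebra K D] (ι : O →ₐ[K] D) (d : D)
  (hd : ∀ f : O, d * ι f = ι f * d + ι (δ f))
  (hbasis : Function.Bijective (fun c : ℕ →₀ O => c.sum (fun i f => ι f * d ^ i)))
  {B : Type x} [Ring B] [Algebra K B] (j : O →ₐ[K] B) (b : B)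
  (hb : ∀ f : O, b * j f = j f * b + j (δ f))

/-- The normal form map `(f_i) ↦ ∑ j f_i * b ^ i`. -/
noncomputable def nf : (ℕ →₀ O) →ₗ[K] B :=
  Finsupp.lsum K fun i => (LinearMap.mulRight K (b ^ i)).comp j.toLinearMap

theorem nf_apply (c : ℕ →₀ O) : nf j b c = c.sum fun i f => j f * b ^ i := by
  rw [nf, Finsupp.lsum_apply]
  rfl

theorem nf_single (i : ℕ) (f : O) : nf j b (Finsupp.single i f) = j f * b ^ i := by
  rw [nf_apply, Finsupp.sum_single_index]
  rw [map_zero, zero_mul]

include hbasis in
theorem nf_bijective : Function.Bijective (nf ι d) := by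
  have h : (nf ι d : (ℕ →₀ O) → D) = fun c : ℕ →₀ O => c.sum (fun i f => ι f * d ^ i) := by
    funext c
    exact nf_apply ι d c
  rw [h]
  exact hbasis

/-- The normal form equivalence. -/
noncomputable def nfEquiv : (ℕ →₀ O) ≃ₗ[K] D :=
  LinearEquiv.ofBijective (nf ι d) (nf_bijective ι d hbasis)

theorem nfEquiv_apply (c : ℕ →₀ O) : nfEquiv ι d hbasis c = nf ι d c := rfl

include hbasis in
/-- induction principle -/
theorem induction_on {motive : D → Prop} (P : D) (h0 : motive 0)
    (hadd : ∀ P Q, motive P → motive Q → motive (P + Q))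
    (hsingle : ∀ (i : ℕ) (f : O), motive (ι f * d ^ i)) : motive P := by
  obtain ⟨c, rfl⟩ := (nfEquiv ι d hbasis).surjective P
  rw [nfEquiv_apply]
  induction c using Finsupp.induction_linear with
  | zero => rw [map_zero]; exact h0
  | add x y hx hy => rw [map_add]; exact hadd _ _ hx hy
  | single i f => rw [nf_single]; exact hsingle i f

/-- The underlying linear map of the lift. -/
noncomputable def liftLin : D →ₗ[K] B :=
  (nf j b).comp (nfEquiv ι d hbasis).symm.toLinearMap

theorem liftLin_nf (c : ℕ →₀ O) : liftLin ι d hbasis j b (nf ι d c) = nf j b c := by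
  rw [liftLin, LinearMap.comp_apply]
  congr 1
  exact (nfEquiv ι d hbasis).symm_apply_apply c

theorem liftLin_single (i : ℕ) (f : O) :
    liftLin ι d hbasis j b (ι f * d ^ i) = j f * b ^ i := by
  rw [← nf_single ι d, liftLin_nf, nf_single]

theorem liftLin_ι_mul (f : O) (P : D) :
    liftLin ι d hbasis j b (ι f * P) = j f * liftLin ι d hbasis j b P := by
  induction P using induction_on ι d hbasis with
  | h0 => simp
  | hadd P Q hP hQ => rw [mul_add, map_add, map_add, hP, hQ, mul_add]
  | hsingle i g =>
    rw [← mul_assoc, ← map_mul, liftLin_single, liftLin_single, map_mul, mul_assoc]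

include hd hb in
theorem liftLin_d_mul (P : D) :
    liftLin ι d hbasis j b (d * P) = b * liftLin ι d hbasis j b P := by
  induction P using induction_on ι d hbasis with
  | h0 => simp
  | hadd P Q hP hQ => rw [mul_add, map_add, map_add, hP, hQ, mul_add]
  | hsingle i g =>
    have h1 : d * (ι g * d ^ i) = ι g * d ^ (i + 1) + ι (δ g) * d ^ i := by
      rw [← mul_assoc, hd, add_mul, mul_assoc, ← pow_succ']
    rw [h1, map_add, liftLin_single, liftLin_single, liftLin_single, ← mul_assoc, hb, add_mul,
      mul_assoc, ← pow_succ']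

include hd hb in
theorem liftLin_d_pow_mul (i : ℕ) (P : D) :
    liftLin ι d hbasis j b (d ^ i * P) = b ^ i * liftLin ι d hbasis j b P := by
  induction i with
  | zero => simp
  | succ i ih =>
    rw [pow_succ', mul_assoc, liftLin_d_mul δ ι d hd hbasis j b hb, ih, ← mul_assoc, ← pow_succ']

include hd hb in
theorem liftLin_mul (P Q : D) :
    liftLin ι d hbasis j b (P * Q) = liftLin ι d hbasis j b P * liftLin ι d hbasis j b Q := by
  induction P using induction_on ι d hbasis with
  | h0 => simp
  | hadd P P' hP hP' => rw [add_mul, map_add, map_add, hP, hP', add_mul]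
  | hsingle i f =>
    rw [mul_assoc, liftLin_ι_mul, liftLin_d_pow_mul δ ι d hd hbasis j b hb, liftLin_single,
      mul_assoc]

theorem liftLin_one : liftLin ι d hbasis j b 1 = 1 := by
  have h := liftLin_single ι d hbasis j b 0 1
  simpa using h

/-- The universal property of the Ore extension. -/
noncomputable def lift : D →ₐ[K] B :=
  AlgHom.ofLinearMap (liftLin ι d hbasis j b) (liftLin_one ι d hbasis j b)
    (liftLin_mul δ ι d hd hbasis j b hb)

theorem lift_ι (f : O) : lift δ ι d hd hbasis j b hb (ι f) = j f := by
  change liftLin ι d hbasis j b (ι f) = j f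
  have h := liftLin_single ι d hbasis j b 0 f
  simpa using h

theorem lift_d : lift δ ι d hd hbasis j b hb d = b := by
  change liftLin ι d hbasis j b d = b
  have h := liftLin_single ι d hbasis j b 1 1
  simpa using h

include hbasis in
theorem adjoin_eq_top : Algebra.adjoin K (Set.range ι ∪ {d}) = ⊤ := by
  rw [eq_top_iff]
  rintro P -
  induction P using induction_on ι d hbasis with
  | h0 => exact Subalgebra.zero_mem _
  | hadd P Q hP hQ => exact Subalgebra.add_mem _ hP hQ
  | hsingle i f =>
    have h1 : ι f ∈ Algebra.adjoin K (Set.range ι ∪ {d}) :=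
      Algebra.subset_adjoin (Set.mem_union_left _ ⟨f, rfl⟩)
    have h2 : d ∈ Algebra.adjoin K (Set.range ι ∪ {d}) :=
      Algebra.subset_adjoin (Set.mem_union_right _ rfl)
    exact Subalgebra.mul_mem _ h1 (pow_mem h2 _)

end Lift

end Groth.Agent.H9.Ore
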