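import Mathlib

/-! Helper9: topology generated by two precoverages. -/

namespace Groth.Agent.H9.PC
open CategoryTheory Limits

universe v₁ u₁
variable {C : Type u₁} [Category.{v₁} C]

/-- stability under composition in `bind` form -/
lemma bind_mem (P : Precoverage C) [P.IsStableUnderComposition] {X : C} {R : Presieve X}
    (hR : R ∈ P X) (R' : ∀ ⦃Y : C⦄ ⦃f : Y ⟶ X⦄, R f → Presieve Y)
    (hR' : ∀ ⦃Y : C⦄ ⦃f : Y ⟶ X⦄ (hf : R f), R' hf ∈ P Y) :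
    R.bind R' ∈ P X := by
  let ι := { x : Σ Z, (Z ⟶ X) // R x.2 }
  let σ : ι → Type _ := fun i => { y : Σ Z, (Z ⟶ i.1.1) // R' i.2 y.2 }
  have h1 : R = Presieve.ofArrows (fun x : ι ↦ x.1.1) (fun x ↦ x.1.2) :=
    le_antisymm (fun Z g hg ↦ .mk (⟨⟨_, _⟩, hg⟩ : ι)) fun Z g ⟨x⟩ ↦ x.2
  have h2 : ∀ i : ι, R' i.2 = Presieve.ofArrows (fun y : σ i ↦ y.1.1) (fun y ↦ y.1.2) := by
    intro i
    exact le_antisymm (fun Z g hg ↦ .mk (⟨⟨_, _⟩, hg⟩ : σ i)) fun Z g ⟨x⟩ ↦ x.2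
  have h3 := Precoverage.comp_mem_coverings (J := P) (fun x : ι ↦ x.1.2) (by rw [← h1]; exact hR)
    (σ := σ) (Y := fun i y => y.1.1) (fun i y => y.1.2) (by intro i; rw [← h2]; exact hR' i.2)
  convert h3 using 1
  apply le_antisymm
  · rintro Z h ⟨Y, g, f, hf, hg, rfl⟩
    exact Presieve.ofArrows.mk (ι := Σ i : ι, σ i) ⟨⟨⟨Y, f⟩, hf⟩, ⟨⟨Z, g⟩, hg⟩⟩
  · rintro Z h ⟨⟨i, y⟩⟩
    exact ⟨_, y.1.2, i.1.2, i.2, y.2, rfl⟩

/-- the composite-family condition -/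
def Cov (C' : C → Prop) (P P' : Precoverage C) (X : C) (S' : Sieve X) : Prop :=
  ∃ (R : Presieve X) (_ : R ∈ P X) (_ : ∀ ⦃Y : C⦄ ⦃f : Y ⟶ X⦄, R f → C' Y)
    (R' : ∀ ⦃Y : C⦄ ⦃f : Y ⟶ X⦄, R f → Presieve Y),
    (∀ ⦃Y : C⦄ ⦃f : Y ⟶ X⦄ (hf : R f), R' hf ∈ P' Y) ∧
    ∀ ⦃Y : C⦄ ⦃f : Y ⟶ X⦄ (hf : R f) ⦃Z : C⦄ ⦃g : Z ⟶ Y⦄, R' hf g → S' (g ≫ f)

section
variable (C' : C → Prop) (P P' : Precoverage C)

lemma mem_of_cov {X : C} {S' : Sieve X} (h : Cov C' P P' X S') :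
    S' ∈ (P ⊔ P').toGrothendieck X := by
  obtain ⟨R, hR, -, R', hR', hS⟩ := h
  have h1 : Sieve.generate R ∈ (P ⊔ P').toGrothendieck X :=
    Precoverage.generate_mem_toGrothendieck (Or.inl hR)
  refine GrothendieckTopology.transitive _ h1 S' ?_
  rintro Y f ⟨Y₀, u, f₀, hf₀, rfl⟩
  rw [Sieve.pullback_comp]
  apply GrothendieckTopology.pullback_stable
  have h2 : Sieve.generate (R' hf₀) ∈ (P ⊔ P').toGrothendieck Y₀ :=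
    Precoverage.generate_mem_toGrothendieck (Or.inr (hR' hf₀))
  refine GrothendieckTopology.superset_covering _ ?_ h2
  rw [Sieve.generate_le_iff]
  intro Z g hg
  exact hS hf₀ hg

variable [P.HasPullbacks] [P.IsStableUnderBaseChange] [P.IsStableUnderComposition]
    (hP'C : ∀ ⦃X : C⦄ ⦃R : Presieve X⦄, R ∈ P' X → C' X ∧ ∀ ⦃Y : C⦄ ⦃f : Y ⟶ X⦄, R f → C' Y)
    (hP'id : ∀ ⦃X : C⦄, C' X → Presieve.singleton (𝟙 X) ∈ P' X)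
    (ha : ∀ ⦃X : C⦄ ⦃R : Presieve X⦄, R ∈ P' X → ∀ ⦃T : C⦄ (g : T ⟶ X), C' T →
      ∃ _ : R.HasPullbacks g, Presieve.pullbackArrows g R ∈ P' T)
    (hb : ∀ X : C, ∃ R ∈ P X, ∀ ⦃Y : C⦄ ⦃f : Y ⟶ X⦄, R f → C' Y)

omit [P.HasPullbacks] [P.IsStableUnderBaseChange] in
include hP'id hb in
lemma cov_of_P {X : C} {S : Presieve X} (hS : S ∈ P X) : Cov C' P P' X (Sieve.generate S) := by
  choose R₁ hR₁ hC₁ using hb
  refine ⟨S.bind (fun Y f _ => R₁ Y), bind_mem P hS _ (fun Y f _ => hR₁ Y), ?_,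
    fun Z h _ => Presieve.singleton (𝟙 Z), ?_, ?_⟩
  · rintro Z h ⟨Y, g, f, hf, hg, rfl⟩
    exact hC₁ Y hg
  · rintro Z h ⟨Y, g, f, hf, hg, rfl⟩
    exact hP'id (hC₁ Y hg)
  · rintro Z h ⟨Y, g, f, hf, hg, rfl⟩ W k hk
    obtain ⟨⟩ := hk
    rw [Category.id_comp]
    exact ⟨_, g, f, hf, rfl⟩

omit [P.HasPullbacks] [P.IsStableUnderBaseChange] [P.IsStableUnderComposition] in
include ha hb in
lemma cov_of_P' {X : C} {S : Presieve X} (hS : S ∈ P' X) : Cov C' P P' X (Sieve.generate S) := by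
  obtain ⟨R, hR, hC⟩ := hb X
  refine ⟨R, hR, hC, fun Y f hf =>
    @Presieve.pullbackArrows _ _ _ _ f S (ha hS f (hC hf)).choose, ?_, ?_⟩
  · intro Y f hf
    exact (ha hS f (hC hf)).choose_spec
  · intro Y f hf Z g hg
    let _ := (ha hS f (hC hf)).choose
    obtain ⟨W, h, hh⟩ := hg
    have := Presieve.hasPullback f hh
    rw [← pullback.condition]
    exact ⟨_, _, h, hh, rfl⟩

omit [P.HasPullbacks] [P.IsStableUnderBaseChange] [P.IsStableUnderComposition] in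
include hP'id hb in
lemma cov_top (X : C) : Cov C' P P' X ⊤ := by
  obtain ⟨R, hR, hC⟩ := hb X
  exact ⟨R, hR, hC, fun Z h _ => Presieve.singleton (𝟙 Z), fun Y f hf => hP'id (hC hf),
    fun _ _ _ _ _ _ => trivial⟩

omit [P.HasPullbacks] [P.IsStableUnderComposition] [P.IsStableUnderBaseChange] in
lemma cov_mono {X : C} {S S₂ : Sieve X} (h : Cov C' P P' X S) (hle : S ≤ S₂) :
    Cov C' P P' X S₂ := by
  obtain ⟨R, hR, hC, R', hR', hS⟩ := h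
  exact ⟨R, hR, hC, R', hR', fun Y f hf Z g hg => hle _ (hS hf hg)⟩

include ha hb in
lemma cov_pullback {X : C} {S : Sieve X} (h : Cov C' P P' X S) {T : C} (t : T ⟶ X) :
    Cov C' P P' T (S.pullback t) := by
  obtain ⟨R, hR, hC, R', hR', hS⟩ := h
  choose R₁ hR₁ hC₁ using hb
  have : R.HasPullbacks t := P.hasPullbacks_of_mem t hR
  let RT : Presieve T := (R.pullbackArrows t).bind (fun W k _ => R₁ W)
  have hRT : RT ∈ P T :=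
    bind_mem P (Precoverage.pullbackArrows_mem t hR) _ (fun W k _ => hR₁ W)
  have hCT : ∀ ⦃Z : C⦄ ⦃h : Z ⟶ T⦄, RT h → C' Z := by
    rintro Z h ⟨W, g, k, hk, hg, rfl⟩
    exact hC₁ W hg
  have E : ∀ ⦃Z : C⦄ ⦃h : Z ⟶ T⦄, RT h →
      ∃ (Y : C) (f : Y ⟶ X) (_ : R f) (p : Z ⟶ Y), p ≫ f = h ≫ t := by
    rintro Z h ⟨W, g, k, hk, hg, rfl⟩
    obtain ⟨Y, f, hf⟩ := hk
    have := Presieve.hasPullback t hf
    exact ⟨Y, f, hf, g ≫ pullback.fst f t, by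
      rw [Category.assoc, pullback.condition, Category.assoc]⟩
  choose Yh fh hfh ph hph using E
  refine ⟨RT, hRT, hCT, fun Z h hh => @Presieve.pullbackArrows _ _ _ _ (ph hh) (R' (hfh hh))
    (ha (hR' (hfh hh)) (ph hh) (hCT hh)).choose, ?_, ?_⟩
  · intro Z h hh
    exact (ha (hR' (hfh hh)) (ph hh) (hCT hh)).choose_spec
  · intro Z h hh V g' hg'
    let _ := (ha (hR' (hfh hh)) (ph hh) (hCT hh)).choose
    obtain ⟨W, u, hu⟩ := hg'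
    have := Presieve.hasPullback (ph hh) hu
    show S ((pullback.snd u (ph hh) ≫ h) ≫ t)
    rw [Category.assoc, ← hph hh, ← pullback.condition_assoc]
    exact S.downward_closed (hS (hfh hh) hu) _

variable (hc : ∀ ⦃S : C⦄ ⦃R₁ : Presieve S⦄, R₁ ∈ P' S →
      ∀ (R₂ : ∀ ⦃Y : C⦄ ⦃f : Y ⟶ S⦄, R₁ f → Presieve Y),
        (∀ ⦃Y : C⦄ ⦃f : Y ⟶ S⦄ (hf : R₁ f), R₂ hf ∈ P Y ∧ ∀ ⦃Z : C⦄ ⦃g : Z ⟶ Y⦄, R₂ hf g → C' Z) →
      ∀ (R₃ : ∀ ⦃Y : C⦄ ⦃f : Y ⟶ S⦄ (hf : R₁ f) ⦃Z : C⦄ ⦃g : Z ⟶ Y⦄, R₂ hf g → Presieve Z),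
        (∀ ⦃Y : C⦄ ⦃f : Y ⟶ S⦄ (hf : R₁ f) ⦃Z : C⦄ ⦃g : Z ⟶ Y⦄ (hg : R₂ hf g), R₃ hf hg ∈ P' Z) →
      ∃ T ∈ P' S, ∀ ⦃W : C⦄ ⦃q : W ⟶ S⦄, T q →
        ∃ (Y Z V : C) (f : Y ⟶ S) (hf : R₁ f) (g : Z ⟶ Y) (hg : R₂ hf g) (h : V ⟶ Z) (_ : R₃ hf hg h)
          (r : W ⟶ V), r ≫ h ≫ g ≫ f = q)

omit [P.HasPullbacks] [P.IsStableUnderComposition] [P.IsStableUnderBaseChange] in
include hc in
lemma cov_transitive {X : C} {S R : Sieve X} (hS : Cov C' P P' X S)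
    (hR : ∀ ⦃Y : C⦄ ⦃f : Y ⟶ X⦄, S f → Cov C' P P' Y (R.pullback f)) : Cov C' P P' X R := by
  obtain ⟨R₀, hR₀, hC₀, R₀', hR₀', hS₀⟩ := hS
  have IH2 : ∀ ⦃Y : C⦄ ⦃f : Y ⟶ X⦄ (hf : R₀ f) ⦃Z : C⦄ ⦃g : Z ⟶ Y⦄ (_ : R₀' hf g),
      Cov C' P P' Z (R.pullback (g ≫ f)) :=
    fun Y f hf Z g hg => hR (hS₀ hf hg)
  unfold Cov at IH2
  choose R₂ hR₂ hC₂ R₃ hR₃ hcomp using IH2
  have key : ∀ ⦃Y : C⦄ ⦃f : Y ⟶ X⦄ (_ : R₀ f),
      ∃ T ∈ P' Y, ∀ ⦃W : C⦄ ⦃q : W ⟶ Y⦄, T q → R (q ≫ f) := by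
    intro Y f hf
    obtain ⟨T, hT, hfac⟩ := hc (hR₀' hf) (fun Z g hg => R₂ hf hg)
      (fun Z g hg => ⟨hR₂ hf hg, hC₂ hf hg⟩) (fun Z g hg V h hh => R₃ hf hg hh)
      (fun Z g hg V h hh => hR₃ hf hg hh)
    refine ⟨T, hT, ?_⟩
    intro W q hq
    obtain ⟨Z, V, U, g, hg, h, hh, k, hk, r, rfl⟩ := hfac hq
    have h5 : R ((k ≫ h) ≫ g ≫ f) := hcomp hf hg hh hk
    have h6 := R.downward_closed h5 r
    simpa using h6
  choose T hT hTR using key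
  exact ⟨R₀, hR₀, hC₀, T, hT, hTR⟩

include hP'id ha hb hc in
theorem main (X : C) (S' : Sieve X) :
    S' ∈ (P ⊔ P').toGrothendieck X ↔ Cov C' P P' X S' := by
  constructor
  · intro h
    rw [Precoverage.mem_toGrothendieck_iff] at h
    induction h with
    | of X S hS =>
      rcases hS with hS | hS
      · exact cov_of_P C' P P' hP'id hb hS
      · exact cov_of_P' C' P P' ha hb hS
    | top X => exact cov_top C' P P' hP'id hb X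
    | pullback X S _ Y f ih => exact cov_pullback C' P P' ha hb ih f
    | transitive X S R _ _ ih1 ih2 => exact cov_transitive C' P P' hc ih1 ih2
  · exact mem_of_cov C' P P'

end

end Groth.Agent.H9.PC
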