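import Mathlib
import Groth.Prelude.Def_CAlg
import Groth.Agent.Lib.Helper6.CMKit
import Groth.Agent.Lib.Helper8.KSh.CMReg

/-! # Cyclically pure local maps into Cohen–Macaulay local rings -/

set_option autoImplicit false
set_option linter.style.haveILetI false
set_option linter.unusedSectionVars false
set_option linter.unusedVariables false

universe u

namespace Groth.Agent.H9.PCM

open RingTheory.Sequence

variable {R S : Type u} [CommRing R] [CommRing S]

/-- cyclic purity of a ring map: every ideal is contracted -/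
def CPure (φ : R →+* S) : Prop := ∀ (I : Ideal R) (r : R), φ r ∈ I.map φ → r ∈ I

namespace CPure

variable {φ : R →+* S}

theorem injective (hφ : CPure φ) : Function.Injective φ := by
  rw [injective_iff_map_eq_zero]
  intro r hr
  have := hφ ⊥ r (by rw [hr]; exact Ideal.zero_mem _)
  simpa using this

theorem map_le_map_iff (hφ : CPure φ) {I J : Ideal R} : I.map φ ≤ J.map φ ↔ I ≤ J := by
  constructor
  · intro h r hr
    exact hφ J r (h (Ideal.mem_map_of_mem φ hr))
  · exact fun h => Ideal.map_mono h

theorem isNoetherianRing (hφ : CPure φ) [IsNoetherianRing S] : IsNoetherianRing R := by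
  rw [isNoetherianRing_iff, isNoetherian_iff']
  let e : Ideal R ↪o Ideal S := OrderEmbedding.ofMapLEIff (fun I => I.map φ)
    (fun I J => hφ.map_le_map_iff)
  exact e.wellFoundedGT

theorem map_ne_top (hφ : CPure φ) {I : Ideal R} (hI : I ≠ ⊤) : I.map φ ≠ ⊤ := by
  intro h
  apply hI
  rw [Ideal.eq_top_iff_one]
  apply hφ I 1
  rw [h]
  trivial

theorem weaklyRegular (hφ : CPure φ) (ys : List R) (h : IsWeaklyRegular S (ys.map φ)) :
    IsWeaklyRegular R ys := by
  rw [isWeaklyRegular_iff] at h ⊢
  intro i hi
  have hi' : i < (ys.map φ).length := by simpa using hi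
  have h1 := h i hi'
  rw [isSMulRegular_quotient_iff_mem_of_smul_mem] at h1 ⊢
  intro x hx
  have e1 : ∀ I : Ideal R, (I • (⊤ : Submodule R R)) = I := fun I => by simp
  have e2 : ∀ I : Ideal S, (I • (⊤ : Submodule S S)) = I := fun I => by simp
  rw [e1] at hx ⊢
  rw [e2] at h1
  apply hφ
  rw [Ideal.map_ofList, List.map_take]
  apply h1
  have : (ys.map φ)[i] • φ x = φ (ys[i] • x) := by simp
  rw [this, ← List.map_take, ← Ideal.map_ofList]
  exact Ideal.mem_map_of_mem φ hx

end CPure

section Local

variable [IsLocalRing R] [IsLocalRing S] {φ : R →+* S}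

theorem map_maximalIdeal_le (hφ : CPure φ) :
    (IsLocalRing.maximalIdeal R).map φ ≤ IsLocalRing.maximalIdeal S :=
  IsLocalRing.le_maximalIdeal (hφ.map_ne_top (IsLocalRing.maximalIdeal.isMaximal R).ne_top)

/-- the inductive construction of a sequence of parameters coming from `R` -/
theorem exists_list [IsNoetherianRing S] (hφ : CPure φ)
    (hrad : IsLocalRing.maximalIdeal S ≤ ((IsLocalRing.maximalIdeal R).map φ).radical)
    (i : ℕ) (hi : (i : ℕ∞) ≤ (IsLocalRing.maximalIdeal S).height) :
    ∃ ys : List R, ys.length = i ∧ (∀ y ∈ ys, y ∈ IsLocalRing.maximalIdeal R) ∧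
      (i : ℕ∞) ≤ (Ideal.ofList (ys.map φ)).height := by
  induction i with
  | zero => exact ⟨[], rfl, by simp, by simp⟩
  | succ r ih =>
    obtain ⟨ys, h1, h2, h3⟩ := ih ((WithTop.coe_le_coe.mpr r.le_succ).trans hi)
    set J : Ideal S := Ideal.ofList (ys.map φ) with hJ
    have hJm : J ≤ IsLocalRing.maximalIdeal S := by
      rw [hJ, ← Ideal.map_ofList]
      refine le_trans (Ideal.map_mono ?_) (map_maximalIdeal_le hφ)
      rw [Ideal.ofList, Ideal.span_le]
      intro y hy
      exact h2 y hy
    let T := { K | K ∈ J.minimalPrimes ∧ Ideal.height K = r }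
    have hT : Set.Finite T := Set.Finite.subset J.finite_minimalPrimes_of_isNoetherianRing
      (fun _ h => h.1)
    have : ¬((IsLocalRing.maximalIdeal R : Ideal R) : Set R) ⊆
        ⋃ K ∈ hT.toFinset, ((K.comap φ : Ideal R) : Set R) := by
      refine (Ideal.subset_union_prime (f := fun K : Ideal S => K.comap φ) ⊥ ⊥ ?_).not.mpr ?_
      · rintro K hK - -
        rw [Set.Finite.mem_toFinset] at hK
        haveI := hK.1.isPrime
        exact Ideal.comap_isPrime φ K
      · push Not
        intro K hK e
        rw [Set.Finite.mem_toFinset] at hK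
        haveI := hK.1.isPrime
        have e1 : (IsLocalRing.maximalIdeal R).map φ ≤ K := Ideal.map_le_iff_le_comap.mpr e
        have e2 : IsLocalRing.maximalIdeal S ≤ K := by
          refine hrad.trans ?_
          rw [Ideal.IsPrime.radical_le_iff ‹K.IsPrime›]
          exact e1
        have e3 := hi.trans (Ideal.height_mono e2)
        rw [hK.2, ← not_lt] at e3
        norm_cast at e3
        exact e3 r.lt_succ_self
    simp_rw [Set.not_subset, Set.mem_iUnion, not_exists, Set.Finite.mem_toFinset] at this
    obtain ⟨x, hx₁, hx₂⟩ := this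
    refine ⟨x :: ys, by simp [h1], ?_, ?_⟩
    · intro y hy
      rcases List.mem_cons.mp hy with rfl | hy
      · exact hx₁
      · exact h2 y hy
    · rw [List.map_cons, Ideal.ofList_cons]
      rw [Ideal.height_eq_inf_minimalPrimes]
      refine le_iInf₂ (fun p hp ↦ ?_)
      have := hp.isPrime
      by_cases h : p.height = ⊤
      · exact le_of_le_of_eq le_top h.symm
      have : p.FiniteHeight := ⟨Or.inr h⟩
      have hJp : J ≤ p := le_sup_right.trans hp.le
      have := Ideal.height_mono hJp
      suffices h : (r : ℕ∞) ≠ p.height by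
        exact Order.add_one_le_of_lt (lt_of_le_of_ne (h3.trans this) h)
      intro e
      apply hx₂ p
      · exact ⟨Ideal.mem_minimalPrimes_of_height_le hJp (e.symm.trans_le h3), e.symm⟩
      · exact hp.le <| Ideal.mem_sup_left <| Ideal.mem_span_singleton_self (φ x)

end Local

section Main

variable [IsLocalRing R] {φ : R →+* S}

/-- A local ring with a cyclically pure map into a Cohen–Macaulay local ring, such that the
maximal ideal extends to an ideal primary to the maximal ideal, is Cohen–Macaulay. -/
theorem cm_of_cpure [hS : LocCoh.IsCohenMacaulayLocalRing S] (hφ : CPure φ)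
    (hrad : IsLocalRing.maximalIdeal S ≤ ((IsLocalRing.maximalIdeal R).map φ).radical) :
    LocCoh.IsCohenMacaulayLocalRing R := by
  classical
  haveI : IsNoetherianRing S := inferInstance
  haveI : IsLocalRing S := inferInstance
  haveI : IsNoetherianRing R := hφ.isNoetherianRing
  have hfin : (IsLocalRing.maximalIdeal S).height ≠ ⊤ :=
    Ideal.height_ne_top (IsLocalRing.maximalIdeal.isMaximal S).ne_top
  obtain ⟨h, hh⟩ := ENat.ne_top_iff_exists.mp hfin
  obtain ⟨ys, h1, h2, h3⟩ := exists_list hφ hrad h (by rw [hh])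
  have hle : Ideal.ofList (ys.map φ) ≤ IsLocalRing.maximalIdeal S := by
    rw [← Ideal.map_ofList]
    refine le_trans (Ideal.map_mono ?_) (map_maximalIdeal_le hφ)
    rw [Ideal.ofList, Ideal.span_le]
    intro y hy
    exact h2 y hy
  have hne : Ideal.ofList (ys.map φ) ≠ ⊤ := fun e =>
    (IsLocalRing.maximalIdeal.isMaximal S).ne_top (top_le_iff.mp (e ▸ hle))
  have hreg : IsWeaklyRegular S (ys.map φ) :=
    Groth.Agent.H8.KSh.isWeaklyRegular_of_height_ge (ys.map φ) hne (by simpa [h1] using h3)
  have hregR := hφ.weaklyRegular ys hreg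
  -- depth
  have hdepth : (h : ℕ∞) ≤ LocCoh.depth R R := by
    unfold LocCoh.depth LocCoh.idealDepth
    split_ifs with htop
    · exact le_top
    · rw [← h1]
      exact le_iSup₂_of_le ys ⟨hregR, h2⟩ le_rfl
  -- dimension
  have hradS : IsLocalRing.maximalIdeal S ≤ (Ideal.ofList (ys.map φ)).radical := by
    rw [Ideal.radical_eq_sInf]
    refine le_sInf ?_
    rintro Q ⟨hQ1, hQ2⟩
    haveI := hQ2
    have hQm : Q ≤ IsLocalRing.maximalIdeal S := IsLocalRing.le_maximalIdeal hQ2.ne_top
    have hht : (IsLocalRing.maximalIdeal S).height ≤ Q.height := by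
      rw [← hh]
      exact h3.trans (Ideal.height_mono hQ1)
    exact (Ideal.eq_of_le_of_height_le Q hQm hht).ge
  have hmin : IsLocalRing.maximalIdeal R ∈ (Ideal.ofList ys).minimalPrimes := by
    refine ⟨⟨inferInstance, ?_⟩, ?_⟩
    · rw [Ideal.ofList, Ideal.span_le]
      intro y hy
      exact h2 y hy
    · rintro q ⟨hq1, hq2⟩ -
      intro z hz
      have hz1 : φ z ∈ IsLocalRing.maximalIdeal S :=
        map_maximalIdeal_le hφ (Ideal.mem_map_of_mem φ hz)
      obtain ⟨k, hk⟩ := hradS hz1
      rw [← map_pow, ← Ideal.map_ofList] at hk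
      have hk' := hφ _ _ hk
      exact hq1.mem_of_pow_mem k (hq2 hk')
  have hdim : ringKrullDim R ≤ (h : WithBot ℕ∞) := by
    rw [← IsLocalRing.maximalIdeal_height_eq_ringKrullDim]
    have e : Ideal.ofList ys = Ideal.span ((ys.toFinset : Finset R) : Set R) := by
      rw [Ideal.ofList, List.coe_toFinset]
    rw [e] at hmin
    have h4 := Ideal.height_le_card_of_mem_minimalPrimes_span_finset hmin
    have h5 : (ys.toFinset.card : ℕ∞) ≤ h := by
      rw [← h1]
      exact_mod_cast List.toFinset_card_le ys
    exact_mod_cast h4.trans h5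
  obtain ⟨d, hd1, hd2⟩ := Groth.Agent.H6.Depth.exists_depth_eq (R := R) R
  refine { supportDim_eq_depth := ?_ }
  apply le_antisymm _ (by rw [hd1]; exact hd2)
  rw [Module.supportDim_self_eq_ringKrullDim]
  refine hdim.trans ?_
  exact_mod_cast hdepth

end Main

end Groth.Agent.H9.PCM
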