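import Mathlib
import Groth.Agent.Lib.Helper9.Misc.PCM1

/-! # The homogeneous localization at a prime is cyclically pure in the localization -/

set_option autoImplicit false
set_option linter.style.haveILetI false
set_option linter.unusedSectionVars false
set_option linter.unusedVariables false

universe u

namespace Groth.Agent.H9.PCM

open HomogeneousLocalization

variable {A : Type u} {σ : Type*} [CommRing A] [SetLike σ A] [AddSubgroupClass σ A]
  (𝒜 : ℕ → σ) [GradedRing 𝒜] (p : Ideal A) [p.IsPrime]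

/-- taking homogeneous components in a relation -/
theorem core {ι : Type*} (t : Finset ι) (N : ℕ) (a : A) (ha : a ∈ 𝒜 N)
    (b c : ι → A) (hb : ∀ j, b j ∈ 𝒜 N) (w : A) (hw : w ∉ p)
    (h : w * a = ∑ j ∈ t, c j * b j) :
    ∃ m : ℕ, (GradedRing.proj 𝒜 m w) ∉ p ∧
      GradedRing.proj 𝒜 m w * a = ∑ j ∈ t, GradedRing.proj 𝒜 m (c j) * b j := by
  classical
  have : ∃ m, GradedRing.proj 𝒜 m w ∉ p := by
    by_contra hcon
    push Not at hcon
    apply hw
    rw [← DirectSum.sum_support_decompose 𝒜 w]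
    exact Ideal.sum_mem _ (fun m _ => hcon m)
  obtain ⟨m, hm⟩ := this
  refine ⟨m, hm, ?_⟩
  have := congrArg (GradedRing.proj 𝒜 (m + N)) h
  rw [map_sum] at this
  simp only [GradedRing.proj_apply] at this ⊢
  rw [DirectSum.coe_decompose_mul_add_of_right_mem 𝒜 ha] at this
  rw [this]
  refine Finset.sum_congr rfl (fun j _ => ?_)
  exact DirectSum.coe_decompose_mul_add_of_right_mem 𝒜 (hb j)

theorem mk_mul_den (x s : A) (hs : s ∈ p.primeCompl) :
    (Localization.mk x ⟨s, hs⟩ : Localization.AtPrime p) * algebraMap A _ s = algebraMap A _ x := by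
  rw [Localization.mk_eq_mk']
  exact IsLocalization.mk'_spec _ x ⟨s, hs⟩

theorem common_den {ι : Type*} (t : Finset ι) (y : ι → AtPrime 𝒜 p) :
    ∃ (N : ℕ) (s : A) (hsp : s ∈ p.primeCompl) (b : ι → A), s ∈ 𝒜 N ∧ (∀ j, b j ∈ 𝒜 N) ∧
      ∀ j ∈ t, (y j).val = Localization.mk (b j) ⟨s, hsp⟩ := by
  classical
  induction t using Finset.induction_on with
  | empty =>
    exact ⟨0, 1, p.primeCompl.one_mem, fun _ => 0, SetLike.GradedOne.one_mem,
      fun _ => zero_mem _, by simp⟩
  | insert j₀ t hj ih =>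
    obtain ⟨N, s, hsp, b, hs, hb, h⟩ := ih
    obtain ⟨⟨n, ⟨b₀, hb₀⟩, ⟨s₀, hs₀⟩, hs₀p⟩, hy⟩ := mk_surjective (y j₀)
    refine ⟨N + n, s * s₀, p.primeCompl.mul_mem hsp hs₀p,
      fun j => if j = j₀ then b₀ * s else b j * s₀, SetLike.GradedMul.mul_mem hs hs₀, ?_, ?_⟩
    · intro j
      dsimp only
      split_ifs
      · rw [add_comm]
        exact SetLike.GradedMul.mul_mem hb₀ hs
      · exact SetLike.GradedMul.mul_mem (hb j) hs₀
    · intro j hj'
      dsimp only
      rcases Finset.mem_insert.mp hj' with rfl | hj'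
      · rw [if_pos rfl, ← hy, val_mk, Localization.mk_eq_mk_iff, Localization.r_iff_exists]
        refine ⟨1, ?_⟩
        simp only [OneMemClass.coe_one, one_mul]
        ring
      · have : j ≠ j₀ := fun e => hj (e ▸ hj')
        rw [if_neg this, h j hj', Localization.mk_eq_mk_iff, Localization.r_iff_exists]
        refine ⟨1, ?_⟩
        simp only [OneMemClass.coe_one, one_mul]
        ring

theorem cpure_aux_inj :
    Function.Injective (algebraMap (AtPrime 𝒜 p) (Localization.AtPrime p)) := by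
  intro x y h
  rw [HomogeneousLocalization.algebraMap_apply, HomogeneousLocalization.algebraMap_apply] at h
  exact val_injective _ h

theorem val_mul_den (y : AtPrime 𝒜 p) (x s : A) (hs : s ∈ p.primeCompl)
    (h : y.val = Localization.mk x ⟨s, hs⟩) :
    algebraMap (AtPrime 𝒜 p) (Localization.AtPrime p) y * algebraMap A _ s = algebraMap A _ x := by
  rw [HomogeneousLocalization.algebraMap_apply, h]
  exact mk_mul_den p x s hs

/-- the homogeneous localization at a prime is cyclically pure in the localization -/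
theorem cpure : CPure (algebraMap (AtPrime 𝒜 p) (Localization.AtPrime p)) := by
  classical
  intro I r hr
  rw [Ideal.map, Ideal.span, Submodule.mem_span_image_iff_exists_fun] at hr
  obtain ⟨t, htI, c, hc⟩ := hr
  obtain ⟨N, s, hsp, b, hs, hb, hy⟩ :=
    common_den 𝒜 p (Finset.univ : Finset t) (fun j => (j : AtPrime 𝒜 p))
  obtain ⟨⟨n, ⟨a, ha⟩, ⟨s₀, hs₀⟩, hs₀p⟩, hr'⟩ := mk_surjective r
  obtain ⟨u, hu⟩ := IsLocalization.exist_integer_multiples_of_finite p.primeCompl c
  choose c' hc' using hu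
  have hrv : algebraMap (AtPrime 𝒜 p) (Localization.AtPrime p) r * algebraMap A _ s₀ =
      algebraMap A _ a := by
    apply val_mul_den 𝒜 p r a s₀ hs₀p
    rw [← hr', val_mk]
  have hyv : ∀ j : t, algebraMap (AtPrime 𝒜 p) (Localization.AtPrime p) (j : AtPrime 𝒜 p) *
      algebraMap A _ s = algebraMap A _ (b j) := fun j =>
    val_mul_den 𝒜 p _ (b j) s hsp (hy j (Finset.mem_univ j))
  have key : algebraMap A (Localization.AtPrime p) ((u : A) * (a * s)) =
      algebraMap A (Localization.AtPrime p) (∑ j, c' j * (b j * s₀)) := by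
    have hc2 : ∀ i, algebraMap A (Localization.AtPrime p) (c' i) =
        algebraMap A (Localization.AtPrime p) (u : A) * c i := fun i => by
      rw [hc' i, Algebra.smul_def]
    have hc3 : ∑ i, c i * algebraMap (AtPrime 𝒜 p) (Localization.AtPrime p) (i : AtPrime 𝒜 p) =
        algebraMap (AtPrime 𝒜 p) (Localization.AtPrime p) r := by
      rw [← hc]
      exact Finset.sum_congr rfl (fun j _ => (smul_eq_mul _ _).symm)
    rw [map_sum]
    simp only [map_mul, hc2, ← hyv, ← hrv, ← hc3, Finset.sum_mul, Finset.mul_sum]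
    refine Finset.sum_congr rfl (fun j _ => ?_)
    ring
  obtain ⟨v, hv⟩ := (IsLocalization.eq_iff_exists p.primeCompl (Localization.AtPrime p)).mp key
  have hrel : ((v : A) * (u : A)) * (a * s) = ∑ j, ((v : A) * c' j) * (b j * s₀) := by
    rw [mul_assoc, hv, Finset.mul_sum]
    refine Finset.sum_congr rfl (fun j _ => ?_)
    ring
  have has : a * s ∈ 𝒜 (n + N) := SetLike.GradedMul.mul_mem ha hs
  have hbs : ∀ j : t, b j * s₀ ∈ 𝒜 (n + N) := fun j => by
    rw [add_comm]
    exact SetLike.GradedMul.mul_mem (hb j) hs₀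
  obtain ⟨m, hm1, hm2⟩ := core 𝒜 p (Finset.univ : Finset t) (n + N) (a * s) has
    (fun j => b j * s₀) (fun j => (v : A) * c' j) hbs ((v : A) * (u : A))
    (p.primeCompl.mul_mem v.2 u.2) hrel
  -- the coefficients
  let q : t → AtPrime 𝒜 p := fun j =>
    mk ⟨m, ⟨GradedRing.proj 𝒜 m ((v : A) * c' j), by
      rw [GradedRing.proj_apply]; exact SetLike.coe_mem _⟩,
      ⟨GradedRing.proj 𝒜 m ((v : A) * (u : A)), by
      rw [GradedRing.proj_apply]; exact SetLike.coe_mem _⟩, hm1⟩
  have hq : ∀ j, algebraMap (AtPrime 𝒜 p) (Localization.AtPrime p) (q j) *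
      algebraMap A _ (GradedRing.proj 𝒜 m ((v : A) * (u : A))) =
      algebraMap A _ (GradedRing.proj 𝒜 m ((v : A) * c' j)) := fun j =>
    val_mul_den 𝒜 p _ _ _ hm1 (by rw [val_mk])
  have hfin : r = ∑ j : t, q j * (j : AtPrime 𝒜 p) := by
    apply (cpure_aux_inj 𝒜 p)
    have hunit : IsUnit (algebraMap A (Localization.AtPrime p)
        (GradedRing.proj 𝒜 m ((v : A) * (u : A)) * (s * s₀))) :=
      IsLocalization.map_units (Localization.AtPrime p)
        (⟨_, p.primeCompl.mul_mem hm1 (p.primeCompl.mul_mem hsp hs₀p)⟩ : p.primeCompl)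
    apply hunit.mul_right_cancel
    rw [map_sum, Finset.sum_mul]
    have e1 : algebraMap (AtPrime 𝒜 p) (Localization.AtPrime p) r *
        algebraMap A (Localization.AtPrime p)
          (GradedRing.proj 𝒜 m ((v : A) * (u : A)) * (s * s₀)) =
        algebraMap A _ (GradedRing.proj 𝒜 m ((v : A) * (u : A)) * (a * s)) := by
      simp only [map_mul, ← hrv]
      ring
    rw [e1, hm2, map_sum]
    refine Finset.sum_congr rfl (fun j _ => ?_)
    simp only [map_mul, ← hq, ← hyv]
    ring
  rw [hfin]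
  exact I.sum_mem (fun j _ => I.mul_mem_left _ (htI j.2))

/-- a homogeneous element of positive degree outside a prime not containing the irrelevant
ideal -/
theorem exists_pos_homogeneous_notMem
    (hirr : ¬ (HomogeneousIdeal.irrelevant 𝒜).toIdeal ≤ p) :
    ∃ (d : ℕ) (f : A), 0 < d ∧ f ∈ 𝒜 d ∧ f ∉ p := by
  classical
  rw [SetLike.not_le_iff_exists] at hirr
  obtain ⟨a, ha, hap⟩ := hirr
  have ha0 : GradedRing.proj 𝒜 0 a = 0 := (HomogeneousIdeal.mem_irrelevant_iff 𝒜 a).mp ha
  have : ∃ m, GradedRing.proj 𝒜 m a ∉ p := by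
    by_contra hcon
    push Not at hcon
    apply hap
    rw [← DirectSum.sum_support_decompose 𝒜 a]
    exact Ideal.sum_mem _ (fun m _ => hcon m)
  obtain ⟨m, hm⟩ := this
  refine ⟨m, GradedRing.proj 𝒜 m a, ?_, ?_, hm⟩
  · rcases Nat.eq_zero_or_pos m with rfl | h
    · exact absurd (ha0 ▸ p.zero_mem) hm
    · exact h
  · rw [GradedRing.proj_apply]
    exact SetLike.coe_mem _

/-- the maximal ideal of the localization is the radical of the extension of the maximal
ideal of the homogeneous localization -/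
theorem maximalIdeal_le_radical (hp : p.IsHomogeneous 𝒜)
    (hirr : ¬ (HomogeneousIdeal.irrelevant 𝒜).toIdeal ≤ p) :
    IsLocalRing.maximalIdeal (Localization.AtPrime p) ≤
      ((IsLocalRing.maximalIdeal (AtPrime 𝒜 p)).map
        (algebraMap (AtPrime 𝒜 p) (Localization.AtPrime p))).radical := by
  classical
  obtain ⟨d, f, hd, hfd, hfp⟩ := exists_pos_homogeneous_notMem 𝒜 p hirr
  set J := (IsLocalRing.maximalIdeal (AtPrime 𝒜 p)).map
        (algebraMap (AtPrime 𝒜 p) (Localization.AtPrime p)) with hJ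
  -- homogeneous elements of p
  have hhom : ∀ (n : ℕ) (x : A), x ∈ 𝒜 n → x ∈ p →
      algebraMap A (Localization.AtPrime p) x ∈ J.radical := by
    intro n x hx hxp
    have h1 : x ^ d ∈ 𝒜 (d * n) := by
      have := SetLike.pow_mem_graded d hx
      rwa [smul_eq_mul] at this
    have h2 : f ^ n ∈ 𝒜 (d * n) := by
      have := SetLike.pow_mem_graded n hfd
      rwa [smul_eq_mul, mul_comm] at this
    have h3 : f ^ n ∈ p.primeCompl := p.primeCompl.pow_mem hfp n
    let y : AtPrime 𝒜 p := mk ⟨d * n, ⟨x ^ d, h1⟩, ⟨f ^ n, h2⟩, h3⟩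
    have hy : algebraMap (AtPrime 𝒜 p) (Localization.AtPrime p) y * algebraMap A _ (f ^ n) =
        algebraMap A _ (x ^ d) := val_mul_den 𝒜 p y _ _ h3 (by rw [val_mk])
    have hxd : algebraMap A (Localization.AtPrime p) (x ^ d) ∈
        IsLocalRing.maximalIdeal (Localization.AtPrime p) := by
      rw [IsLocalization.AtPrime.to_map_mem_maximal_iff (Localization.AtPrime p) p]
      exact Ideal.pow_mem_of_mem p hxp d hd
    have hym : y ∈ IsLocalRing.maximalIdeal (AtPrime 𝒜 p) := by
      rw [IsLocalRing.mem_maximalIdeal, mem_nonunits_iff]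
      intro hu
      have hu' := hu.map (algebraMap (AtPrime 𝒜 p) (Localization.AtPrime p))
      have : IsUnit (algebraMap A (Localization.AtPrime p) (x ^ d)) := by
        rw [← hy]
        exact hu'.mul (IsLocalization.map_units (Localization.AtPrime p)
          (⟨f ^ n, h3⟩ : p.primeCompl))
      exact (IsLocalRing.mem_maximalIdeal _).mp hxd this
    refine ⟨d, ?_⟩
    rw [← map_pow, ← hy]
    exact Ideal.mul_mem_right _ _ (Ideal.mem_map_of_mem _ hym)
  intro z hz
  obtain ⟨a, u, rfl⟩ := IsLocalization.exists_mk'_eq p.primeCompl z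
  rw [IsLocalization.AtPrime.mk'_mem_maximal_iff (Localization.AtPrime p) p] at hz
  have hza : algebraMap A (Localization.AtPrime p) a ∈ J.radical := by
    rw [← DirectSum.sum_support_decompose 𝒜 a, map_sum]
    refine Ideal.sum_mem _ (fun m _ => ?_)
    exact hhom m _ (SetLike.coe_mem _) (hp m hz)
  rw [IsLocalization.mk'_eq_mul_mk'_one]
  exact Ideal.mul_mem_right _ _ hza

/-- **The local rings of `Proj` of a Cohen–Macaulay graded ring are Cohen–Macaulay.** -/
theorem cm_atPrime [hA : LocCoh.IsCohenMacaulayRing A] (hp : p.IsHomogeneous 𝒜)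
    (hirr : ¬ (HomogeneousIdeal.irrelevant 𝒜).toIdeal ≤ p) :
    LocCoh.IsCohenMacaulayLocalRing (AtPrime 𝒜 p) := by
  haveI := hA.isCohenMacaulayLocalRing_localization p
  exact cm_of_cpure (cpure 𝒜 p) (maximalIdeal_le_radical 𝒜 p hp hirr)

end Groth.Agent.H9.PCM
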