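import Mathlib

set_option autoImplicit false
set_option linter.style.haveILetI false
set_option linter.unusedSectionVars false
set_option linter.unusedVariables false

namespace Groth.Agent.H9.PDC

universe u

open Finset

variable {A : Type u} [CommRing A] {I : Ideal A} (γ : DividedPowers I) (p : ℕ) (t : ℕ)

/-- compatibility of the evaluations of the adic completion -/
theorem factor_evalₐ (J : Ideal A) {m n : ℕ} (hmn : m ≤ n) (x : AdicCompletion J A) :
    Ideal.Quotient.factor (Ideal.pow_le_pow_right hmn) (AdicCompletion.evalₐ J n x) =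
      AdicCompletion.evalₐ J m x := by
  obtain ⟨c, rfl⟩ := AdicCompletion.mk_surjective J A x
  rw [AdicCompletion.evalₐ_mk, AdicCompletion.evalₐ_mk, Ideal.Quotient.factor_mk]
  exact AdicCompletion.Ideal.mk_eq_mk J hmn c

/-- `a` lifts `x` at level `n`. -/
def IsLift (J : Ideal A) (x : AdicCompletion J A) (n : ℕ) (a : A) : Prop :=
  AdicCompletion.evalₐ J n x = Ideal.Quotient.mk (J ^ n) a

theorem IsLift.of_le {J : Ideal A} {x : AdicCompletion J A} {m n : ℕ} {a : A} (hmn : m ≤ n)
    (h : IsLift J x n a) : IsLift J x m a := by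
  unfold IsLift at h ⊢
  rw [← factor_evalₐ J hmn, h, Ideal.Quotient.factor_mk]

theorem exists_isLift (J : Ideal A) (x : AdicCompletion J A) (n : ℕ) : ∃ a, IsLift J x n a := by
  obtain ⟨a, ha⟩ := Ideal.Quotient.mk_surjective (AdicCompletion.evalₐ J n x)
  exact ⟨a, ha.symm⟩

theorem IsLift.add {J : Ideal A} {x y : AdicCompletion J A} {n : ℕ} {a b : A}
    (hx : IsLift J x n a) (hy : IsLift J y n b) : IsLift J (x + y) n (a + b) := by
  unfold IsLift at *
  rw [map_add, hx, hy, map_add]

theorem IsLift.mul {J : Ideal A} {x y : AdicCompletion J A} {n : ℕ} {a b : A}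
    (hx : IsLift J x n a) (hy : IsLift J y n b) : IsLift J (x * y) n (a * b) := by
  unfold IsLift at *
  rw [map_mul, hx, hy, map_mul]

theorem isLift_algebraMap (J : Ideal A) (n : ℕ) (a : A) :
    IsLift J (algebraMap A (AdicCompletion J A) a) n a := by
  unfold IsLift
  rw [AlgHom.commutes]
  rfl

theorem IsLift.unique {J : Ideal A} {x : AdicCompletion J A} {n : ℕ} {a b : A}
    (ha : IsLift J x n a) (hb : IsLift J x n b) : a - b ∈ J ^ n := by
  unfold IsLift at *
  rw [← Ideal.Quotient.eq, ← ha, ← hb]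

section L1

variable (ht : Ideal.span {(p : A)} ^ t ≤ I)
include ht

theorem pow_mem : (p : A) ^ t ∈ I :=
  ht (by rw [Ideal.span_singleton_pow]; exact Ideal.mem_span_singleton_self _)

theorem dpow_sub_mem {a b : A} (ha : a ∈ I) (hb : b ∈ I) (n m : ℕ)
    (hab : a - b ∈ Ideal.span {(p : A)} ^ (n + t)) :
    γ.dpow m a - γ.dpow m b ∈ Ideal.span {(p : A)} ^ n := by
  rw [Ideal.span_singleton_pow, Ideal.mem_span_singleton'] at hab
  obtain ⟨c, hc⟩ := hab
  have hpt := pow_mem p t ht
  have hd : c * (p : A) ^ n * (p : A) ^ t ∈ I := Ideal.mul_mem_left _ _ hpt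
  have hab' : a = b + c * (p : A) ^ n * (p : A) ^ t := by
    rw [mul_assoc, ← pow_add, hc]; ring
  rw [hab', γ.dpow_add hb hd]
  have hmem : (m, 0) ∈ antidiagonal m := by simp
  rw [← Finset.add_sum_erase _ _ hmem]
  simp only
  rw [γ.dpow_zero hd, mul_one, add_sub_cancel_left]
  refine Ideal.sum_mem _ (fun k hk => ?_)
  have hk2 : k.2 ≠ 0 := by
    intro h0
    have hk' := Finset.mem_erase.mp hk
    have h1 := Finset.HasAntidiagonal.mem_antidiagonal.mp hk'.2
    apply hk'.1
    ext
    · simp only; omega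
    · simp only; exact h0
  rw [γ.dpow_mul hpt]
  refine Ideal.mul_mem_left _ _ (Ideal.mul_mem_right _ _ ?_)
  rw [Ideal.span_singleton_pow]
  obtain ⟨j, hj⟩ := Nat.exists_eq_succ_of_ne_zero hk2
  rw [hj, pow_succ]
  rw [Ideal.mem_span_singleton']
  exact ⟨(c * (p : A) ^ n) ^ j * c, by ring⟩

end L1

end Groth.Agent.H9.PDC
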