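import Mathlib
import Groth.Agent.Lib.Helper9.Misc.PDC1

set_option autoImplicit false
set_option linter.style.haveILetI false
set_option linter.unusedSectionVars false
set_option linter.unusedVariables false

namespace Groth.Agent.H9.PDC

universe u

open Finset

variable {A : Type u} [CommRing A] {I : Ideal A} (γ : DividedPowers I) (p : ℕ) (t : ℕ)
  (ht : Ideal.span {(p : A)} ^ t ≤ I)

/-- The kernel of `Â → A/p^t → A/I`. -/
noncomputable abbrev KK : Ideal (AdicCompletion (Ideal.span {(p : A)}) A) :=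
  RingHom.ker ((Ideal.Quotient.factor ht).comp
    (AdicCompletion.evalₐ (Ideal.span {(p : A)}) t).toRingHom)

theorem mem_KK_iff {x : AdicCompletion (Ideal.span {(p : A)}) A} {n : ℕ} (hn : t ≤ n) {a : A}
    (h : IsLift (Ideal.span {(p : A)}) x n a) : x ∈ KK p t ht ↔ a ∈ I := by
  have h' := h.of_le hn
  unfold IsLift at h'
  rw [RingHom.mem_ker, RingHom.comp_apply]
  change Ideal.Quotient.factor ht (AdicCompletion.evalₐ _ t x) = 0 ↔ _
  rw [h', Ideal.Quotient.factor_mk, Ideal.Quotient.eq_zero_iff_mem]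

/-- A chosen lift of `x` at level `n + t`. -/
noncomputable def liftK (x : AdicCompletion (Ideal.span {(p : A)}) A) (n : ℕ) : A :=
  Classical.choose (exists_isLift (Ideal.span {(p : A)}) x (n + t))

theorem liftK_spec (x : AdicCompletion (Ideal.span {(p : A)}) A) (n : ℕ) :
    IsLift (Ideal.span {(p : A)}) x (n + t) (liftK p t x n) :=
  Classical.choose_spec (exists_isLift (Ideal.span {(p : A)}) x (n + t))

theorem liftK_mem {x : AdicCompletion (Ideal.span {(p : A)}) A} (hx : x ∈ KK p t ht) (n : ℕ) :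
    liftK p t x n ∈ I :=
  (mem_KK_iff p t ht (Nat.le_add_left t n) (liftK_spec p t x n)).mp hx

theorem liftK_cauchy {x : AdicCompletion (Ideal.span {(p : A)}) A} (hx : x ∈ KK p t ht) (m n : ℕ) :
    γ.dpow m (liftK p t x n) ≡ γ.dpow m (liftK p t x (n + 1))
      [SMOD (Ideal.span {(p : A)} ^ n • ⊤ : Submodule A A)] := by
  rw [SModEq.sub_mem]
  have h1 : (Ideal.span {(p : A)} ^ n • ⊤ : Submodule A A) = Ideal.span {(p : A)} ^ n := by
    simp
  rw [h1]
  refine dpow_sub_mem γ p t ht (liftK_mem p t ht hx n) (liftK_mem p t ht hx (n + 1)) n m ?_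
  exact (liftK_spec p t x n).unique ((liftK_spec p t x (n + 1)).of_le (by omega))

open Classical in
/-- The divided power operation on the completion. -/
noncomputable def dp (m : ℕ) (x : AdicCompletion (Ideal.span {(p : A)}) A) :
    AdicCompletion (Ideal.span {(p : A)}) A :=
  if hx : x ∈ KK p t ht then
    AdicCompletion.mk (Ideal.span {(p : A)}) A
      (AdicCompletion.AdicCauchySequence.mk (Ideal.span {(p : A)}) A
        (fun n => γ.dpow m (liftK p t x n)) (fun n => liftK_cauchy γ p t ht hx m n))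
  else 0

theorem dp_null {m : ℕ} {x : AdicCompletion (Ideal.span {(p : A)}) A} (hx : x ∉ KK p t ht) :
    dp γ p t ht m x = 0 := by
  unfold dp; rw [dif_neg hx]

/-- Key evaluation formula. -/
theorem evalₐ_dp {m : ℕ} {x : AdicCompletion (Ideal.span {(p : A)}) A} (hx : x ∈ KK p t ht)
    {n : ℕ} {a : A} (ha : IsLift (Ideal.span {(p : A)}) x (n + t) a) :
    AdicCompletion.evalₐ (Ideal.span {(p : A)}) n (dp γ p t ht m x) =
      Ideal.Quotient.mk _ (γ.dpow m a) := by
  have haI : a ∈ I := (mem_KK_iff p t ht (Nat.le_add_left t n) ha).mp hx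
  unfold dp
  rw [dif_pos hx, AdicCompletion.evalₐ_mk, Ideal.Quotient.eq]
  exact dpow_sub_mem γ p t ht (liftK_mem p t ht hx n) haI n m ((liftK_spec p t x n).unique ha)

theorem isLift_dp {m : ℕ} {x : AdicCompletion (Ideal.span {(p : A)}) A} (hx : x ∈ KK p t ht)
    {n : ℕ} {a : A} (ha : IsLift (Ideal.span {(p : A)}) x (n + t) a) :
    IsLift (Ideal.span {(p : A)}) (dp γ p t ht m x) n (γ.dpow m a) :=
  evalₐ_dp γ p t ht hx ha

theorem dp_mem {m : ℕ} (hm : m ≠ 0) {x : AdicCompletion (Ideal.span {(p : A)}) A}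
    (hx : x ∈ KK p t ht) : dp γ p t ht m x ∈ KK p t ht := by
  obtain ⟨a, ha⟩ := exists_isLift (Ideal.span {(p : A)}) x (t + t)
  have haI : a ∈ I := (mem_KK_iff p t ht (Nat.le_add_left t t) ha).mp hx
  exact (mem_KK_iff p t ht le_rfl (isLift_dp γ p t ht hx ha)).mpr (γ.dpow_mem hm haI)

/-- The divided power structure on the kernel. -/
noncomputable def dividedPowers : DividedPowers (KK p t ht) where
  dpow := dp γ p t ht
  dpow_null hx := dp_null γ p t ht hx
  dpow_zero {x} hx := by
    refine AdicCompletion.ext_evalₐ (fun n => ?_)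
    obtain ⟨a, ha⟩ := exists_isLift (Ideal.span {(p : A)}) x (n + t)
    have haI : a ∈ I := (mem_KK_iff p t ht (Nat.le_add_left t n) ha).mp hx
    rw [evalₐ_dp γ p t ht hx ha, γ.dpow_zero haI, map_one, map_one]
  dpow_one {x} hx := by
    refine AdicCompletion.ext_evalₐ (fun n => ?_)
    obtain ⟨a, ha⟩ := exists_isLift (Ideal.span {(p : A)}) x (n + t)
    have haI : a ∈ I := (mem_KK_iff p t ht (Nat.le_add_left t n) ha).mp hx
    rw [evalₐ_dp γ p t ht hx ha, γ.dpow_one haI]
    exact (ha.of_le (Nat.le_add_right n t)).symm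
  dpow_mem hm hx := dp_mem γ p t ht hm hx
  dpow_add {m x y} hx hy := by
    refine AdicCompletion.ext_evalₐ (fun n => ?_)
    obtain ⟨a, ha⟩ := exists_isLift (Ideal.span {(p : A)}) x (n + t)
    obtain ⟨b, hb⟩ := exists_isLift (Ideal.span {(p : A)}) y (n + t)
    have haI : a ∈ I := (mem_KK_iff p t ht (Nat.le_add_left t n) ha).mp hx
    have hbI : b ∈ I := (mem_KK_iff p t ht (Nat.le_add_left t n) hb).mp hy
    rw [evalₐ_dp γ p t ht (Ideal.add_mem _ hx hy) (ha.add hb), γ.dpow_add haI hbI, map_sum,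
      map_sum]
    refine Finset.sum_congr rfl (fun k _ => ?_)
    rw [map_mul, map_mul, evalₐ_dp γ p t ht hx ha, evalₐ_dp γ p t ht hy hb]
  dpow_mul {m c x} hx := by
    refine AdicCompletion.ext_evalₐ (fun n => ?_)
    obtain ⟨a, ha⟩ := exists_isLift (Ideal.span {(p : A)}) x (n + t)
    obtain ⟨c', hc'⟩ := exists_isLift (Ideal.span {(p : A)}) c (n + t)
    have haI : a ∈ I := (mem_KK_iff p t ht (Nat.le_add_left t n) ha).mp hx
    rw [evalₐ_dp γ p t ht (Ideal.mul_mem_left _ c hx) (hc'.mul ha), γ.dpow_mul haI, map_mul,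
      map_mul, map_pow, map_pow, evalₐ_dp γ p t ht hx ha]
    congr 2
    exact (hc'.of_le (Nat.le_add_right n t)).symm
  mul_dpow {m k x} hx := by
    refine AdicCompletion.ext_evalₐ (fun n => ?_)
    obtain ⟨a, ha⟩ := exists_isLift (Ideal.span {(p : A)}) x (n + t)
    have haI : a ∈ I := (mem_KK_iff p t ht (Nat.le_add_left t n) ha).mp hx
    rw [map_mul, map_mul, evalₐ_dp γ p t ht hx ha, evalₐ_dp γ p t ht hx ha,
      evalₐ_dp γ p t ht hx ha, ← map_mul, γ.mul_dpow haI, map_mul, map_natCast, map_natCast]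
  dpow_comp {m k x} hk hx := by
    refine AdicCompletion.ext_evalₐ (fun n => ?_)
    obtain ⟨a, ha⟩ := exists_isLift (Ideal.span {(p : A)}) x (n + t + t)
    have haI : a ∈ I := (mem_KK_iff p t ht (Nat.le_add_left t (n + t)) ha).mp hx
    have h1 := isLift_dp γ p t ht (m := k) hx ha
    rw [evalₐ_dp γ p t ht (dp_mem γ p t ht hk hx) h1, γ.dpow_comp hk haI, map_mul, map_mul,
      map_natCast, map_natCast,
      evalₐ_dp γ p t ht hx (ha.of_le (Nat.le_add_right (n + t) t))]

theorem isDPMorphism :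
    γ.IsDPMorphism (dividedPowers γ p t ht)
      (algebraMap A (AdicCompletion (Ideal.span {(p : A)}) A)) := by
  have hmem : ∀ a ∈ I, algebraMap A (AdicCompletion (Ideal.span {(p : A)}) A) a ∈ KK p t ht :=
    fun a ha => (mem_KK_iff p t ht le_rfl (isLift_algebraMap _ t a)).mpr ha
  refine ⟨?_, ?_⟩
  · rw [Ideal.map_le_iff_le_comap]
    intro a ha
    exact hmem a ha
  · intro m a ha
    refine AdicCompletion.ext_evalₐ (fun n => ?_)
    change AdicCompletion.evalₐ _ n (dp γ p t ht m _) = _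
    rw [evalₐ_dp γ p t ht (hmem a ha) (isLift_algebraMap _ (n + t) a)]
    exact (isLift_algebraMap _ n (γ.dpow m a)).symm

theorem surjective_pi :
    Function.Surjective ((Ideal.Quotient.factor ht).comp
      (AdicCompletion.evalₐ (Ideal.span {(p : A)}) t).toRingHom) := by
  intro y
  obtain ⟨z, rfl⟩ := Ideal.Quotient.factor_surjective ht y
  obtain ⟨x, rfl⟩ := AdicCompletion.surjective_evalₐ (Ideal.span {(p : A)}) t z
  exact ⟨x, rfl⟩

theorem main {A : Type u} [CommRing A] {I : Ideal A}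
    (γ : DividedPowers I) (p : ℕ) (t : ℕ) (ht : Ideal.span {(p : A)} ^ t ≤ I) :
    Function.Surjective ((Ideal.Quotient.factor ht).comp
      (AdicCompletion.evalₐ (Ideal.span {(p : A)}) t).toRingHom) ∧
    ∃ δ : DividedPowers (RingHom.ker ((Ideal.Quotient.factor ht).comp
      (AdicCompletion.evalₐ (Ideal.span {(p : A)}) t).toRingHom)),
      γ.IsDPMorphism δ (algebraMap A (AdicCompletion (Ideal.span {(p : A)}) A)) :=
  ⟨surjective_pi p t ht, dividedPowers γ p t ht, isDPMorphism γ p t ht⟩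

end Groth.Agent.H9.PDC
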