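import Mathlib
import Groth.Prelude.Def_CAlg
import Groth.Agent.Lib.Helper6.ExtBaseChange
import Groth.Agent.Lib.Helper6.Bass1
import Groth.Agent.Lib.Helper6.ChangeRings
import Groth.Agent.Lib.Helper6.LDLoc1

/-! # Descent of the Gorenstein property along flat local maps with `m_R S = m_S` -/

set_option autoImplicit false
set_option linter.style.haveILetI false
set_option linter.unusedSectionVars false
set_option linter.unusedVariables false

universe u

namespace Groth.Agent.H9.PGR

open CategoryTheory CategoryTheory.Abelian TensorProduct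

variable {R S : Type u} [CommRing R] [CommRing S] [Algebra R S]

theorem gorenstein_descent [IsLocalRing R] [IsNoetherianRing R] [Module.Flat R S]
    [hS : LocCoh.IsGorensteinLocalRing S] (hloc : IsLocalHom (algebraMap R S))
    (hm : (IsLocalRing.maximalIdeal R).map (algebraMap R S) = IsLocalRing.maximalIdeal S) :
    LocCoh.IsGorensteinLocalRing R := by
  haveI : IsLocalRing S := inferInstance
  haveI : IsNoetherianRing S := inferInstance
  haveI : Module.FaithfullyFlat R S := Module.FaithfullyFlat.of_flat_of_isLocalHom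
  obtain ⟨n, hn⟩ := hS.exists_hasInjectiveDimensionLT
  -- the two isomorphisms
  let l₁ : (S ⊗[R] (R ⧸ IsLocalRing.maximalIdeal R)) ≃ₗ[S] (S ⧸ IsLocalRing.maximalIdeal S) :=
    (Algebra.TensorProduct.quotIdealMapEquivTensorQuot S
      (IsLocalRing.maximalIdeal R)).symm.toLinearEquiv ≪≫ₗ
      (Submodule.quotEquivOfEq _ _ hm)
  let l₂ : (S ⊗[R] R) ≃ₗ[S] S := TensorProduct.AlgebraTensorModule.rid R S S
  have key : ∀ j, n ≤ j → Subsingleton
      (Ext (ModuleCat.of R (R ⧸ IsLocalRing.maximalIdeal R)) (ModuleCat.of R R) j) := by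
    intro j hj
    have h1 : Subsingleton (Ext (ModuleCat.of S (S ⧸ IsLocalRing.maximalIdeal S))
        (ModuleCat.of S S) j) :=
      HasInjectiveDimensionLT.subsingleton (ModuleCat.of S S) n j hj _
    have h2 : Subsingleton (Ext (ModuleCat.of S (S ⊗[R] (R ⧸ IsLocalRing.maximalIdeal R)))
        (ModuleCat.of S (S ⊗[R] R)) j) := by
      apply Groth.Agent.H6.LDL.ext_subsingleton_of_iso₂ _ l₂.toModuleIso
      exact Groth.Agent.H6.CR.ext_subsingleton_of_iso l₁.toModuleIso _ j h1
    obtain ⟨e⟩ := Groth.Agent.H6.ExtBC.nonempty_equiv (A := R) (B := S)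
      (R ⧸ IsLocalRing.maximalIdeal R) R j
    haveI : Subsingleton (S ⊗[R] Ext (ModuleCat.of R (R ⧸ IsLocalRing.maximalIdeal R))
        (ModuleCat.of R R) j) := e.toEquiv.subsingleton
    exact Module.FaithfullyFlat.lTensor_reflects_triviality R S _
  haveI : Module.Finite R (ModuleCat.of R R) := Module.Finite.self R
  refine { exists_hasInjectiveDimensionLT := ⟨n + 1, ?_⟩ }
  apply Groth.Agent.H6.Bass.hasInjectiveDimensionLT_of_residue (ModuleCat.of R R) n
  intro j hj
  exact key j (by omega)

end Groth.Agent.H9.PGR
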