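import Mathlib
import Groth.Agent.Lib.Helper9.Misc.PCM2
import Groth.Agent.Lib.Helper9.Misc.PGR1

/-! # Flatness of the localization over the homogeneous localization when there is a
homogeneous unit of degree one -/

set_option autoImplicit false
set_option linter.style.haveILetI false
set_option linter.unusedSectionVars false
set_option linter.unusedVariables false

universe u

namespace Groth.Agent.H9.PGR

open HomogeneousLocalization Groth.Agent.H9.PCM
open scoped Pointwise

section Flat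

variable {A : Type u} {σ : Type*} [CommRing A] [SetLike σ A] [AddSubgroupClass σ A]
  (𝒜 : ℕ → σ) [GradedRing 𝒜] (p : Ideal A) [p.IsPrime]
  (e : ℕ) (g₁ g₂ : A) (h₁ : g₁ ∈ 𝒜 e) (h₂ : g₂ ∈ 𝒜 (e + 1)) (h₁p : g₁ ∈ p.primeCompl)
  (h₂p : g₂ ∈ p.primeCompl)

include h₁ h₂ h₂p in
/-- shifting a homogeneous element to degree zero -/
noncomputable def rho (n : ℕ) (x : A) (hx : x ∈ 𝒜 n) : AtPrime 𝒜 p :=
  mk ⟨n + n * e, ⟨x * g₁ ^ n, by
      have := SetLike.GradedMul.mul_mem hx (SetLike.pow_mem_graded n h₁)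
      rwa [smul_eq_mul] at this⟩,
    ⟨g₂ ^ n, by
      have := SetLike.pow_mem_graded n h₂
      rwa [smul_eq_mul, mul_add, mul_one, add_comm] at this⟩, p.primeCompl.pow_mem h₂p n⟩

theorem rho_spec (n : ℕ) (x : A) (hx : x ∈ 𝒜 n) :
    algebraMap (AtPrime 𝒜 p) (Localization.AtPrime p) (rho 𝒜 p e g₁ g₂ h₁ h₂ h₂p n x hx) *
      algebraMap A _ (g₂ ^ n) = algebraMap A _ (x * g₁ ^ n) :=
  val_mul_den 𝒜 p _ _ _ (p.primeCompl.pow_mem h₂p n) (by rw [rho, val_mk])

include h₁ h₂ h₂p h₁p in
/-- **Flatness** of `A_p` over `A_(p)` in the presence of homogeneous units of coprime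
degrees. -/
theorem flat : Module.Flat (AtPrime 𝒜 p) (Localization.AtPrime p) := by
  classical
  apply Module.Flat.of_forall_isTrivialRelation
  intro l f x hfx
  obtain ⟨N, s, hsp, b, hs, hb, hfb⟩ := common_den 𝒜 p (Finset.univ : Finset (Fin l)) f
  have hf : ∀ i, algebraMap (AtPrime 𝒜 p) (Localization.AtPrime p) (f i) *
      algebraMap A (Localization.AtPrime p) s = algebraMap A (Localization.AtPrime p) (b i) :=
    fun i => val_mul_den 𝒜 p _ _ _ hsp (hfb i (Finset.mem_univ i))
  obtain ⟨u, hu⟩ := IsLocalization.exist_integer_multiples_of_finite p.primeCompl x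
  choose c' hc' using hu
  have hc2 : ∀ i, algebraMap A (Localization.AtPrime p) (c' i) =
      algebraMap A (Localization.AtPrime p) (u : A) * x i := fun i => by
    rw [hc' i, Algebra.smul_def]
  have h3 : algebraMap A (Localization.AtPrime p) (∑ i, b i * c' i) = 0 := by
    rw [map_sum]
    have : ∀ i, algebraMap A (Localization.AtPrime p) (b i * c' i) =
        (algebraMap A (Localization.AtPrime p) s * algebraMap A (Localization.AtPrime p) u) *
          (f i • x i) := by
      intro i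
      rw [map_mul, ← hf, hc2, Algebra.smul_def]
      ring
    simp_rw [this, ← Finset.mul_sum, hfx, mul_zero]
  obtain ⟨v, hv⟩ := (IsLocalization.map_eq_zero_iff p.primeCompl (Localization.AtPrime p) _).mp h3
  set c'' : Fin l → A := fun i => (v : A) * c' i with hc''
  have h4 : ∑ i, b i * c'' i = 0 := by
    rw [← hv, Finset.mul_sum]
    refine Finset.sum_congr rfl (fun i _ => ?_)
    simp only [hc'']
    ring
  have h5 : ∀ m, ∑ i, b i * GradedRing.proj 𝒜 m (c'' i) = 0 := by
    intro m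
    have := congrArg (GradedRing.proj 𝒜 (N + m)) h4
    rw [map_sum, map_zero] at this
    rw [← this]
    refine Finset.sum_congr rfl (fun i _ => ?_)
    simp only [GradedRing.proj_apply]
    exact (DirectSum.coe_decompose_mul_add_of_left_mem 𝒜 (hb i)).symm
  -- a bound for the supports
  let T : Finset ℕ := Finset.univ.biUnion (fun i => (DirectSum.decompose 𝒜 (c'' i)).support)
  let K : ℕ := T.sup id + 1
  have hsub : ∀ i, (DirectSum.decompose 𝒜 (c'' i)).support ⊆ Finset.range K := by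
    intro i m hm
    rw [Finset.mem_range]
    have : m ∈ T := Finset.mem_biUnion.mpr ⟨i, Finset.mem_univ i, hm⟩
    exact Nat.lt_succ_of_le (Finset.le_sup (f := id) this)
  have hsum : ∀ i, ∑ j : Fin K, GradedRing.proj 𝒜 (j : ℕ) (c'' i) = c'' i := by
    intro i
    rw [Fin.sum_univ_eq_sum_range (fun j => GradedRing.proj 𝒜 j (c'' i)) K]
    conv_rhs => rw [← DirectSum.sum_support_decompose 𝒜 (c'' i)]
    symm
    apply Finset.sum_subset (hsub i)
    intro m _ hm
    rw [DFinsupp.notMem_support_iff] at hm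
    rw [hm]
    rfl
  have hmem : ∀ (i : Fin l) (j : ℕ), GradedRing.proj 𝒜 j (c'' i) ∈ 𝒜 j := fun i j => by
    rw [GradedRing.proj_apply]
    exact SetLike.coe_mem _
  have hden : ∀ j : ℕ, g₁ ^ j * ((v : A) * (u : A)) ∈ p.primeCompl := fun j =>
    p.primeCompl.mul_mem (p.primeCompl.pow_mem h₁p j) (p.primeCompl.mul_mem v.2 u.2)
  refine ⟨K, fun i j => rho 𝒜 p e g₁ g₂ h₁ h₂ h₂p j (GradedRing.proj 𝒜 j (c'' i)) (hmem i j),
    fun j => IsLocalization.mk' (Localization.AtPrime p) (g₂ ^ (j : ℕ))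
      (⟨g₁ ^ (j : ℕ) * ((v : A) * (u : A)), hden j⟩ : p.primeCompl), ?_, ?_⟩
  · intro i
    have hvu : IsUnit (algebraMap A (Localization.AtPrime p) ((v : A) * (u : A))) :=
      IsLocalization.map_units (Localization.AtPrime p)
        (⟨_, p.primeCompl.mul_mem v.2 u.2⟩ : p.primeCompl)
    apply hvu.mul_right_cancel
    have e1 : x i * algebraMap A (Localization.AtPrime p) ((v : A) * (u : A)) =
        algebraMap A (Localization.AtPrime p) (c'' i) := by
      simp only [hc'', map_mul, hc2]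
      ring
    rw [e1, Finset.sum_mul, ← hsum i, map_sum]
    refine Finset.sum_congr rfl (fun j _ => ?_)
    have hg1 : IsUnit (algebraMap A (Localization.AtPrime p) (g₁ ^ (j : ℕ))) :=
      IsLocalization.map_units (Localization.AtPrime p)
        (⟨_, p.primeCompl.pow_mem h₁p j⟩ : p.primeCompl)
    apply hg1.mul_right_cancel
    have e2 := IsLocalization.mk'_spec (Localization.AtPrime p) (g₂ ^ (j : ℕ))
      (⟨g₁ ^ (j : ℕ) * ((v : A) * (u : A)), hden j⟩ : p.primeCompl)
    have e3 := rho_spec 𝒜 p e g₁ g₂ h₁ h₂ h₂p j (GradedRing.proj 𝒜 j (c'' i)) (hmem i j)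
    simp only [map_mul] at e2 e3 ⊢
    rw [Algebra.smul_def, ← e3, ← e2]
    ring
  · intro j
    apply cpure_aux_inj 𝒜 p
    rw [map_zero, map_sum]
    have hunit : IsUnit (algebraMap A (Localization.AtPrime p) (s * g₂ ^ (j : ℕ))) :=
      IsLocalization.map_units (Localization.AtPrime p)
        (⟨_, p.primeCompl.mul_mem hsp (p.primeCompl.pow_mem h₂p j)⟩ : p.primeCompl)
    apply hunit.mul_right_cancel
    rw [zero_mul, Finset.sum_mul]
    have e3 := fun i => rho_spec 𝒜 p e g₁ g₂ h₁ h₂ h₂p j (GradedRing.proj 𝒜 j (c'' i)) (hmem i j)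
    have : ∀ i, algebraMap (AtPrime 𝒜 p) (Localization.AtPrime p)
        (f i * rho 𝒜 p e g₁ g₂ h₁ h₂ h₂p j (GradedRing.proj 𝒜 j (c'' i)) (hmem i j)) *
        algebraMap A (Localization.AtPrime p) (s * g₂ ^ (j : ℕ)) =
        algebraMap A (Localization.AtPrime p)
          (b i * GradedRing.proj 𝒜 j (c'' i)) * algebraMap A _ (g₁ ^ (j : ℕ)) := by
      intro i
      have := e3 i
      simp only [map_mul] at this ⊢
      rw [← hf]
      calc _ = algebraMap (AtPrime 𝒜 p) (Localization.AtPrime p) (f i) *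
            algebraMap A (Localization.AtPrime p) s *
            (algebraMap (AtPrime 𝒜 p) (Localization.AtPrime p)
              (rho 𝒜 p e g₁ g₂ h₁ h₂ h₂p j (GradedRing.proj 𝒜 j (c'' i)) (hmem i j)) *
              algebraMap A (Localization.AtPrime p) (g₂ ^ (j : ℕ))) := by ring
        _ = _ := by rw [this]; ring
    simp_rw [this, ← Finset.sum_mul, ← map_sum, h5 j, map_zero, zero_mul]

include h₁ h₂ h₂p h₁p in
theorem map_maximalIdeal_eq (hp : p.IsHomogeneous 𝒜) :
    (IsLocalRing.maximalIdeal (AtPrime 𝒜 p)).map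
      (algebraMap (AtPrime 𝒜 p) (Localization.AtPrime p)) =
      IsLocalRing.maximalIdeal (Localization.AtPrime p) := by
  classical
  apply le_antisymm (map_maximalIdeal_le (cpure 𝒜 p))
  set J := (IsLocalRing.maximalIdeal (AtPrime 𝒜 p)).map
      (algebraMap (AtPrime 𝒜 p) (Localization.AtPrime p)) with hJ
  have hhom : ∀ (n : ℕ) (x : A) (hx : x ∈ 𝒜 n), x ∈ p →
      algebraMap A (Localization.AtPrime p) x ∈ J := by
    intro n x hx hxp
    have e3 := rho_spec 𝒜 p e g₁ g₂ h₁ h₂ h₂p n x hx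
    have hxm : algebraMap A (Localization.AtPrime p) (x * g₁ ^ n) ∈
        IsLocalRing.maximalIdeal (Localization.AtPrime p) := by
      rw [IsLocalization.AtPrime.to_map_mem_maximal_iff (Localization.AtPrime p) p]
      exact Ideal.mul_mem_right _ _ hxp
    have hg2 : IsUnit (algebraMap A (Localization.AtPrime p) (g₂ ^ n)) :=
      IsLocalization.map_units (Localization.AtPrime p)
        (⟨_, p.primeCompl.pow_mem h₂p n⟩ : p.primeCompl)
    have hg1 : IsUnit (algebraMap A (Localization.AtPrime p) (g₁ ^ n)) :=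
      IsLocalization.map_units (Localization.AtPrime p)
        (⟨_, p.primeCompl.pow_mem h₁p n⟩ : p.primeCompl)
    have hym : rho 𝒜 p e g₁ g₂ h₁ h₂ h₂p n x hx ∈ IsLocalRing.maximalIdeal (AtPrime 𝒜 p) := by
      rw [IsLocalRing.mem_maximalIdeal, mem_nonunits_iff]
      intro hu
      have hu' := hu.map (algebraMap (AtPrime 𝒜 p) (Localization.AtPrime p))
      have : IsUnit (algebraMap A (Localization.AtPrime p) (x * g₁ ^ n)) := by
        rw [← e3]
        exact hu'.mul hg2
      exact (IsLocalRing.mem_maximalIdeal _).mp hxm this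
    obtain ⟨w, hw⟩ := hg1
    have : algebraMap A (Localization.AtPrime p) x =
        algebraMap (AtPrime 𝒜 p) (Localization.AtPrime p) (rho 𝒜 p e g₁ g₂ h₁ h₂ h₂p n x hx) *
          (algebraMap A (Localization.AtPrime p) (g₂ ^ n) * ((w⁻¹ : (Localization.AtPrime p)ˣ) :
            Localization.AtPrime p)) := by
      rw [← mul_assoc, e3, map_mul, ← hw, mul_assoc, Units.mul_inv, mul_one]
    rw [this]
    exact Ideal.mul_mem_right _ _ (Ideal.mem_map_of_mem _ hym)
  intro z hz
  obtain ⟨a, u, rfl⟩ := IsLocalization.exists_mk'_eq p.primeCompl z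
  rw [IsLocalization.AtPrime.mk'_mem_maximal_iff (Localization.AtPrime p) p] at hz
  have hza : algebraMap A (Localization.AtPrime p) a ∈ J := by
    rw [← DirectSum.sum_support_decompose 𝒜 a, map_sum]
    refine Ideal.sum_mem _ (fun m _ => ?_)
    exact hhom m _ (SetLike.coe_mem _) (hp m hz)
  rw [IsLocalization.mk'_eq_mul_mk'_one]
  exact Ideal.mul_mem_right _ _ hza

include h₁ h₂ h₂p h₁p in
/-- Gorenstein descends from `A_p` to `A_(p)` in the presence of homogeneous units of coprime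
degrees -/
theorem gorenstein_atPrime (hp : p.IsHomogeneous 𝒜)
    [hG : LocCoh.IsGorensteinLocalRing (Localization.AtPrime p)] :
    LocCoh.IsGorensteinLocalRing (AtPrime 𝒜 p) := by
  haveI : IsNoetherianRing (Localization.AtPrime p) := inferInstance
  haveI : IsNoetherianRing (AtPrime 𝒜 p) := (cpure 𝒜 p).isNoetherianRing
  haveI : Module.Flat (AtPrime 𝒜 p) (Localization.AtPrime p) :=
    flat 𝒜 p e g₁ g₂ h₁ h₂ h₁p h₂p
  have hloc : IsLocalHom (algebraMap (AtPrime 𝒜 p) (Localization.AtPrime p)) := by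
    refine ⟨fun a ha => ?_⟩
    rw [HomogeneousLocalization.algebraMap_apply] at ha
    exact (isUnit_iff_isUnit_val 𝒜 p a).mp ha
  exact gorenstein_descent hloc (map_maximalIdeal_eq 𝒜 p e g₁ g₂ h₁ h₂ h₁p h₂p hp)

end Flat

section Sharp

variable {A : Type u} [CommRing A] (𝒜 : ℕ → AddSubgroup A) [GradedRing 𝒜] (p : Ideal A)
  [p.IsPrime]

/-- under condition (♯), every large degree contains a homogeneous element outside `p` -/
theorem exists_notMem_of_sharp (d₀ : ℕ)
    (hsharp : ∀ d : ℕ, d₀ ≤ d → ∀ n : ℕ, 1 ≤ n →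
      𝒜 ((n + 1) * d) = AddSubgroup.closure ((𝒜 d : Set A) * (𝒜 (n * d) : Set A)))
    (hirr : ¬ (HomogeneousIdeal.irrelevant 𝒜).toIdeal ≤ p) (D : ℕ) (hD : d₀ ≤ D) :
    ∃ g, g ∈ 𝒜 D ∧ g ∉ p := by
  obtain ⟨d, f, hd, hfd, hfp⟩ := exists_pos_homogeneous_notMem 𝒜 p hirr
  have hfD : f ^ D ∈ 𝒜 (d * D) := by
    have := SetLike.pow_mem_graded D hfd
    rwa [smul_eq_mul, mul_comm] at this
  have hfDp : f ^ D ∉ p := fun h => hfp (Ideal.IsPrime.mem_of_pow_mem inferInstance D h)
  by_contra hcon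
  push Not at hcon
  rcases Nat.lt_or_ge d 2 with h2 | h2
  · have : d = 1 := by omega
    subst this
    rw [one_mul] at hfD
    exact hfDp (hcon _ hfD)
  · obtain ⟨n, rfl⟩ : ∃ n, d = n + 1 := ⟨d - 1, by omega⟩
    rw [hsharp D hD n (by omega)] at hfD
    apply hfDp
    have hle : AddSubgroup.closure ((𝒜 D : Set A) * (𝒜 (n * D) : Set A)) ≤
        p.toAddSubgroup := by
      rw [AddSubgroup.closure_le]
      rintro _ ⟨x, hx, y, hy, rfl⟩
      exact Ideal.mul_mem_right _ _ (hcon x hx)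
    exact hle hfD

/-- Gorenstein descends to the homogeneous localization under condition (♯) -/
theorem gorenstein_atPrime_of_sharp
    (hsharp : ∃ d₀ : ℕ, ∀ d : ℕ, d₀ ≤ d → ∀ n : ℕ, 1 ≤ n →
      𝒜 ((n + 1) * d) = AddSubgroup.closure ((𝒜 d : Set A) * (𝒜 (n * d) : Set A)))
    (hp : p.IsHomogeneous 𝒜)
    (hirr : ¬ (HomogeneousIdeal.irrelevant 𝒜).toIdeal ≤ p)
    [hG : LocCoh.IsGorensteinLocalRing (Localization.AtPrime p)] :
    LocCoh.IsGorensteinLocalRing (HomogeneousLocalization.AtPrime 𝒜 p) := by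
  obtain ⟨d₀, hd₀⟩ := hsharp
  obtain ⟨g₁, h₁, h₁p⟩ := exists_notMem_of_sharp 𝒜 p d₀ hd₀ hirr d₀ le_rfl
  obtain ⟨g₂, h₂, h₂p⟩ := exists_notMem_of_sharp 𝒜 p d₀ hd₀ hirr (d₀ + 1) (Nat.le_succ _)
  exact gorenstein_atPrime 𝒜 p d₀ g₁ g₂ h₁ h₂ h₁p h₂p hp

end Sharp

section Equiv

variable {R₁ R₂ : Type u} [CommRing R₁] [CommRing R₂]

/-- the Gorenstein property is invariant under ring isomorphisms -/
theorem gorensteinLocal_of_ringEquiv (σ : R₁ ≃+* R₂) [h : LocCoh.IsGorensteinLocalRing R₁] :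
    LocCoh.IsGorensteinLocalRing R₂ := by
  haveI : IsNoetherianRing R₁ := inferInstance
  haveI : IsLocalRing R₁ := inferInstance
  haveI : IsNoetherianRing R₂ := isNoetherianRing_of_ringEquiv R₁ σ
  haveI : IsLocalRing R₂ := σ.isLocalRing
  letI : Algebra R₂ R₁ := σ.symm.toRingHom.toAlgebra
  have halg : ∀ r : R₂, algebraMap R₂ R₁ r = σ.symm r := fun r => rfl
  let l : R₁ ≃ₗ[R₂] R₂ :=
    { σ.toAddEquiv with
      map_smul' := fun r x => by
        change σ (σ.symm r * x) = r * σ x
        rw [map_mul, RingEquiv.apply_symm_apply] }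
  haveI : Module.Flat R₂ R₁ := Module.Flat.of_linearEquiv l
  have hloc : IsLocalHom (algebraMap R₂ R₁) := by
    refine ⟨fun a ha => ?_⟩
    rw [halg] at ha
    have := ha.map σ
    rwa [RingEquiv.apply_symm_apply] at this
  refine gorenstein_descent hloc ?_
  apply le_antisymm
  · rw [Ideal.map_le_iff_le_comap]
    intro x hx
    rw [Ideal.mem_comap, halg, IsLocalRing.mem_maximalIdeal, mem_nonunits_iff]
    intro hu
    have := hu.map σ
    rw [RingEquiv.apply_symm_apply] at this
    exact (IsLocalRing.mem_maximalIdeal _).mp hx this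
  · intro x hx
    have hx' : σ x ∈ IsLocalRing.maximalIdeal R₂ := by
      rw [IsLocalRing.mem_maximalIdeal, mem_nonunits_iff]
      intro hu
      have := hu.map σ.symm
      rw [RingEquiv.symm_apply_apply] at this
      exact (IsLocalRing.mem_maximalIdeal _).mp hx this
    have := Ideal.mem_map_of_mem (algebraMap R₂ R₁) hx'
    rwa [halg, RingEquiv.symm_apply_apply] at this

end Equiv

end Groth.Agent.H9.PGR
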