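import Mathlib

universe u

namespace Groth.Agent.H9.PicHom

open Polynomial

section Kronecker

variable {K : Type*} [Field K]

/-- Gauss lemma in a valuation ring: if `f g ∈ K[X]` have product with coefficients in `V`, then
all products of coefficients are in `V`. -/
theorem vr_gauss (V : ValuationSubring K) (f g : K[X]) (h : ∀ n, (f * g).coeff n ∈ V) (i j : ℕ) :
    f.coeff i * g.coeff j ∈ V := by
  classical
  by_cases hf : f = 0
  · simp [hf, V.zero_mem]
  by_cases hg : g = 0
  · simp [hg, V.zero_mem]
  set v := V.valuation with hv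
  obtain ⟨i₀, hi₀, hmaxf⟩ := Finset.exists_max_image f.support (fun i => v (f.coeff i))
    (Polynomial.support_nonempty.mpr hf)
  obtain ⟨j₀, hj₀, hmaxg⟩ := Finset.exists_max_image g.support (fun j => v (g.coeff j))
    (Polynomial.support_nonempty.mpr hg)
  set a := f.coeff i₀ with ha
  set b := g.coeff j₀ with hb
  have ha0 : a ≠ 0 := Polynomial.mem_support_iff.mp hi₀
  have hb0 : b ≠ 0 := Polynomial.mem_support_iff.mp hj₀
  have hfa : ∀ i, v (f.coeff i) ≤ v a := by
    intro i
    by_cases hi : i ∈ f.support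
    · exact hmaxf i hi
    · rw [Polynomial.notMem_support_iff.mp hi, map_zero]; exact zero_le'
  have hgb : ∀ j, v (g.coeff j) ≤ v b := by
    intro j
    by_cases hj : j ∈ g.support
    · exact hmaxg j hj
    · rw [Polynomial.notMem_support_iff.mp hj, map_zero]; exact zero_le'
  have key : ∀ (p : K[X]) (c : K), c ≠ 0 → (∀ i, v (p.coeff i) ≤ v c) →
      ∃ P : (V : Type _)[X], P.map (algebraMap V K) = C c⁻¹ * p := by
    intro p c hc hpc
    have : C c⁻¹ * p ∈ Polynomial.lifts (algebraMap V K) := by
      rw [Polynomial.lifts_iff_coeff_lifts]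
      intro n
      rw [Polynomial.coeff_C_mul]
      refine ⟨⟨c⁻¹ * p.coeff n, (V.valuation_le_one_iff _).mp ?_⟩, rfl⟩
      rw [map_mul, map_inv₀]
      have hvc : v c ≠ 0 := (Valuation.ne_zero_iff _).mpr hc
      rw [inv_mul_le_iff₀ (zero_lt_iff.mpr hvc), mul_one]
      exact hpc n
    exact (Polynomial.mem_lifts _).mp this
  obtain ⟨F, hF⟩ := key f a ha0 hfa
  obtain ⟨G, hG⟩ := key g b hb0 hgb
  have hFc : F.contentIdeal = ⊤ := by
    have h1 : F.coeff i₀ = 1 := by
      apply FaithfulSMul.algebraMap_injective V K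
      have := congrArg (fun q => q.coeff i₀) hF
      simp only [Polynomial.coeff_map, Polynomial.coeff_C_mul] at this
      rw [this, map_one]; exact inv_mul_cancel₀ ha0
    exact Ideal.eq_top_of_isUnit_mem _ (F.coeff_mem_contentIdeal i₀) (h1 ▸ isUnit_one)
  have hGc : G.contentIdeal = ⊤ := by
    have h1 : G.coeff j₀ = 1 := by
      apply FaithfulSMul.algebraMap_injective V K
      have := congrArg (fun q => q.coeff j₀) hG
      simp only [Polynomial.coeff_map, Polynomial.coeff_C_mul] at this
      rw [this, map_one]; exact inv_mul_cancel₀ hb0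
    exact Ideal.eq_top_of_isUnit_mem _ (G.coeff_mem_contentIdeal j₀) (h1 ▸ isUnit_one)
  have hFG := Polynomial.contentIdeal_mul_eq_top_of_contentIdeal_eq_top hFc hGc
  obtain ⟨n, hn⟩ : ∃ n, IsUnit ((F * G).coeff n) := by
    by_contra hcon
    push Not at hcon
    have hle : (F * G).contentIdeal ≤ IsLocalRing.maximalIdeal V := by
      rw [Polynomial.contentIdeal_def, Ideal.span_le]
      intro c hc
      obtain ⟨n, -, rfl⟩ := Polynomial.mem_coeffs_iff.mp hc
      exact (IsLocalRing.mem_maximalIdeal _).mpr (hcon n)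
    rw [hFG] at hle
    exact (IsLocalRing.maximalIdeal.isMaximal V).ne_top (top_le_iff.mp hle)
  have hfg : f * g = C (a * b) * (F * G).map (algebraMap V K) := by
    rw [Polynomial.map_mul, hF, hG, C_mul]
    have h1 : (C a : K[X]) * C a⁻¹ = 1 := by rw [← C_mul, mul_inv_cancel₀ ha0, C_1]
    have h2 : (C b : K[X]) * C b⁻¹ = 1 := by rw [← C_mul, mul_inv_cancel₀ hb0, C_1]
    calc f * g = ((C a : K[X]) * C a⁻¹) * ((C b : K[X]) * C b⁻¹) * (f * g) := by
          rw [h1, h2, one_mul, one_mul]
      _ = _ := by ring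
  have hab : v (a * b) ≤ 1 := by
    have h1 := h n
    rw [hfg, Polynomial.coeff_C_mul, Polynomial.coeff_map] at h1
    have h2 := (V.valuation_le_one_iff _).mpr h1
    rw [map_mul] at h2
    have h3 : v (algebraMap V K ((F * G).coeff n)) = 1 :=
      (V.valuation_eq_one_iff _).mp hn
    rwa [h3, mul_one] at h2
  apply (V.valuation_le_one_iff _).mp
  calc v (f.coeff i * g.coeff j) = v (f.coeff i) * v (g.coeff j) := map_mul _ _ _
    _ ≤ v a * v b := mul_le_mul' (hfa i) (hgb j)
    _ = v (a * b) := (map_mul _ _ _).symm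
    _ ≤ 1 := hab

/-- Kronecker-type lemma for subrings integrally closed in a field. -/
theorem kronecker (R : Subring K) [IsIntegrallyClosedIn R K] (f g : K[X])
    (h : ∀ n, (f * g).coeff n ∈ R) (i j : ℕ) : f.coeff i * g.coeff j ∈ R := by
  by_contra hx
  obtain ⟨V, hRV, hxV⟩ := Subring.exists_le_valuationSubring_of_isIntegrallyClosedIn hx
  exact hxV (vr_gauss V f g (fun n => hRV (h n)) i j)

end Kronecker

section Frac

variable (A : Type u) [CommRing A] [IsDomain A] [IsIntegrallyClosed A]

instance isIntegrallyClosedIn_range :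
    IsIntegrallyClosedIn (algebraMap A (FractionRing A)).range (FractionRing A) := by
  rw [Subring.isIntegrallyClosedIn_iff]
  intro x hx
  let g : A →+* (algebraMap A (FractionRing A)).range := (algebraMap A (FractionRing A)).rangeRestrict
  letI : Algebra A (algebraMap A (FractionRing A)).range := g.toAlgebra
  haveI : IsScalarTower A (algebraMap A (FractionRing A)).range (FractionRing A) :=
    IsScalarTower.of_algebraMap_eq (fun _ => rfl)
  haveI : Algebra.IsIntegral A (algebraMap A (FractionRing A)).range :=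
    Algebra.isIntegral_of_surjective (RingHom.rangeRestrict_surjective _)
  have hxA : IsIntegral A x := isIntegral_trans x hx
  obtain ⟨y, hy⟩ := IsIntegrallyClosed.isIntegral_iff.mp hxA
  exact ⟨y, hy⟩

theorem kronecker_frac (f g : (FractionRing A)[X])
    (h : ∀ n, (f * g).coeff n ∈ (algebraMap A (FractionRing A)).range) (i j : ℕ) :
    f.coeff i * g.coeff j ∈ (algebraMap A (FractionRing A)).range :=
  kronecker (algebraMap A (FractionRing A)).range f g h i j

end Frac

end Groth.Agent.H9.PicHom
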