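import Mathlib
import Groth.Agent.Lib.Helper9.Misc.PH1

universe u

namespace Groth.Agent.H9.PicHom

open Polynomial TensorProduct CommRing

section PartB

variable (A : Type u) [CommRing A] [IsDomain A] [IsIntegrallyClosed A]

/-- The `A[X]`-algebra structure on `K[X]`, `K = Frac A`. -/
noncomputable abbrev polyAlg : Algebra A[X] (FractionRing A)[X] :=
  (Polynomial.mapRingHom (algebraMap A (FractionRing A))).toAlgebra

attribute [local instance] polyAlg

theorem polyAlg_faithful : FaithfulSMul A[X] (FractionRing A)[X] :=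
  (faithfulSMul_iff_algebraMap_injective _ _).mpr
    (Polynomial.map_injective _ (IsFractionRing.injective A (FractionRing A)))

theorem polyAlg_tower : IsScalarTower A A[X] (FractionRing A)[X] :=
  IsScalarTower.of_algebraMap_eq (fun a => by
    rw [RingHom.algebraMap_toAlgebra]; simp [Polynomial.algebraMap_apply])

attribute [local instance] polyAlg_faithful polyAlg_tower

/-- content module -/
noncomputable def content (I' : Submodule A[X] (FractionRing A)[X]) :
    Submodule A (FractionRing A) :=
  Submodule.span A {c | ∃ f ∈ I', ∃ n, f.coeff n = c}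

theorem content_mul_le (I' J' : Submodule A[X] (FractionRing A)[X]) (h : I' * J' ≤ 1) :
    content A I' * content A J' ≤ 1 := by
  rw [content, content, Submodule.span_mul_span, Submodule.span_le]
  rintro _ ⟨c, ⟨f, hf, i, rfl⟩, d, ⟨g, hg, j, rfl⟩, rfl⟩
  have hfg : f * g ∈ (1 : Submodule A[X] (FractionRing A)[X]) := h (Submodule.mul_mem_mul hf hg)
  obtain ⟨p, hp⟩ := Submodule.mem_one.mp hfg
  have := kronecker_frac A f g (fun n => ⟨p.coeff n, by
    rw [← hp, RingHom.algebraMap_toAlgebra, Polynomial.coe_mapRingHom, Polynomial.coeff_map]⟩) i j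
  obtain ⟨y, hy⟩ := this
  exact Submodule.mem_one.mpr ⟨y, hy⟩

theorem one_le_content_mul (I' J' : Submodule A[X] (FractionRing A)[X]) (h : 1 ≤ I' * J') :
    1 ≤ content A I' * content A J' := by
  rw [Submodule.one_le]
  have h1 : (1 : (FractionRing A)[X]) ∈ I' * J' := h (Submodule.one_le.mp le_rfl)
  have key : ∀ q ∈ I' * J', q.coeff 0 ∈ content A I' * content A J' := by
    intro q hq
    refine Submodule.mul_induction_on hq ?_ ?_
    · intro m hm n hn
      rw [Polynomial.mul_coeff_zero]
      exact Submodule.mul_mem_mul (Submodule.subset_span ⟨m, hm, 0, rfl⟩)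
        (Submodule.subset_span ⟨n, hn, 0, rfl⟩)
    · intro x y hx hy
      rw [Polynomial.coeff_add]; exact add_mem hx hy
  simpa using key 1 h1

theorem content_mul_eq_one (I' J' : Submodule A[X] (FractionRing A)[X]) (h : I' * J' = 1) :
    content A I' * content A J' = 1 :=
  le_antisymm (content_mul_le A I' J' h.le) (one_le_content_mul A I' J' h.ge)

theorem mem_iff_coeff_mem (I' J' : Submodule A[X] (FractionRing A)[X]) (h : I' * J' = 1)
    (f : (FractionRing A)[X]) : f ∈ I' ↔ ∀ n, f.coeff n ∈ content A I' := by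
  constructor
  · intro hf n; exact Submodule.subset_span ⟨f, hf, n, rfl⟩
  · intro hf
    have hc := content_mul_eq_one A I' J' h
    have h1 : (1 : (FractionRing A)[X]) ∈ J' * I' := by
      rw [Submodule.mul_comm J' I', h]; exact Submodule.one_le.mp le_rfl
    have key : ∀ q ∈ J' * I', f * q ∈ I' := by
      intro q hq
      refine Submodule.mul_induction_on hq ?_ ?_
      · intro g hg e he
        have hfg : f * g ∈ Polynomial.lifts (algebraMap A (FractionRing A)) := by
          rw [Polynomial.lifts_iff_coeff_lifts]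
          intro n
          rw [Polynomial.coeff_mul]
          have h1' : ∀ x : ℕ × ℕ, f.coeff x.1 * g.coeff x.2 ∈
              (1 : Submodule A (FractionRing A)) := fun x => by
            rw [← hc]
            exact Submodule.mul_mem_mul (hf x.1) (Submodule.subset_span ⟨g, hg, x.2, rfl⟩)
          exact Submodule.mem_one.mp (Submodule.sum_mem _ (fun x _ => h1' x))
        obtain ⟨p, hp⟩ := (Polynomial.mem_lifts _).mp hfg
        have : f * (g * e) = p • e := by
          rw [Algebra.smul_def, RingHom.algebraMap_toAlgebra, Polynomial.coe_mapRingHom, hp,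
            mul_assoc]
        rw [this]; exact Submodule.smul_mem _ _ he
      · intro x y hx hy; rw [mul_add]; exact add_mem hx hy
    simpa using key 1 h1

theorem nonempty_equiv (𝔞 : (Submodule A (FractionRing A))ˣ)
    (I' : (Submodule A[X] (FractionRing A)[X])ˣ)
    (h : ∀ f : (FractionRing A)[X], f ∈ (I' : Submodule A[X] (FractionRing A)[X]) ↔
      ∀ n, f.coeff n ∈ (𝔞 : Submodule A (FractionRing A))) :
    Nonempty (A[X] ⊗[A] (𝔞 : Submodule A (FractionRing A)) ≃ₗ[A[X]]
      (I' : Submodule A[X] (FractionRing A)[X])) := by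
  let ψ₀ : (𝔞 : Submodule A (FractionRing A)) →ₗ[A] (I' : Submodule A[X] (FractionRing A)[X]) :=
    { toFun := fun a => ⟨C (a : FractionRing A), (h _).mpr (fun n => by
        rw [Polynomial.coeff_C]; split_ifs
        · exact a.2
        · exact zero_mem _)⟩
      map_add' := fun a b => Subtype.ext (by simp)
      map_smul' := fun r a => Subtype.ext (by simp [Polynomial.smul_C]) }
  let ψ : A[X] ⊗[A] (𝔞 : Submodule A (FractionRing A)) →ₗ[A[X]]
      (I' : Submodule A[X] (FractionRing A)[X]) := LinearMap.liftBaseChange A[X] ψ₀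
  have hsurj : Function.Surjective ψ := by
    rintro ⟨f, hf⟩
    refine ⟨∑ n ∈ f.support, (X ^ n : A[X]) ⊗ₜ[A]
      (⟨f.coeff n, (h f).mp hf n⟩ : (𝔞 : Submodule A (FractionRing A))), ?_⟩
    apply Subtype.ext
    rw [map_sum]
    simp only [ψ, LinearMap.liftBaseChange_tmul, Submodule.coe_sum, Submodule.coe_smul]
    conv_rhs => rw [f.as_sum_support]
    refine Finset.sum_congr rfl (fun n _ => ?_)
    show (X ^ n : A[X]) • (C (f.coeff n) : (FractionRing A)[X]) = _
    rw [Algebra.smul_def, RingHom.algebraMap_toAlgebra, Polynomial.coe_mapRingHom,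
      Polynomial.map_pow, Polynomial.map_X, ← Polynomial.C_mul_X_pow_eq_monomial, mul_comm]
  exact ⟨LinearEquiv.ofBijective ψ (Module.Invertible.bijective_of_surjective hsurj)⟩

/-- For an integrally closed domain `A`, `Pic A → Pic A[X]` is surjective. -/
theorem surjective_mapAlgebra_polynomial : Function.Surjective (Pic.mapAlgebra A A[X]) := by
  intro y
  have hy : y ∈ (Submodule.unitsToPic A[X] (FractionRing A)[X]).range := by
    rw [Submodule.range_unitsToPic, relPic_eq_top]; exact Subgroup.mem_top _
  obtain ⟨I', rfl⟩ := hy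
  have hmul : (I' : Submodule A[X] (FractionRing A)[X]) *
      ((I'⁻¹ : (Submodule A[X] (FractionRing A)[X])ˣ) : Submodule A[X] (FractionRing A)[X]) = 1 :=
    I'.mul_inv
  have hc := content_mul_eq_one A _ _ hmul
  let 𝔞 : (Submodule A (FractionRing A))ˣ := Units.mkOfMulEqOne _ _ hc
  obtain ⟨e⟩ := nonempty_equiv A 𝔞 I' (fun f => mem_iff_coeff_mem A _ _ hmul f)
  refine ⟨Pic.mk A (𝔞 : Submodule A (FractionRing A)), ?_⟩
  rw [Pic.mapAlgebra_apply, Submodule.unitsToPic_apply, Pic.mk_eq_mk_iff]
  exact ⟨TensorProduct.AlgebraTensorModule.congr (LinearEquiv.refl A[X] A[X])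
    (Pic.mk.linearEquiv A _) ≪≫ₗ e⟩

end PartB

end Groth.Agent.H9.PicHom
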