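import Mathlib
import Groth.Agent.Lib.Helper9.Misc.PH2

universe u

namespace Groth.Agent.H9.PicHom

open CommRing

section PartA

variable {k : Type u} [Field k] {n : ℕ} {A : Type u} [CommRing A] [Algebra k A]
  (q : MvPolynomial (Fin n) k →+* A)

/-- the scaling hom `P → A[T]`, `X_i ↦ x_i T` -/
noncomputable def Phi : MvPolynomial (Fin n) k →+* Polynomial A :=
  MvPolynomial.eval₂Hom (Polynomial.C.comp (algebraMap k A))
    (fun i => Polynomial.C (q (MvPolynomial.X i)) * Polynomial.X)

theorem Phi_monomial (hqC : ∀ c, q (MvPolynomial.C c) = algebraMap k A c)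
    (m : Fin n →₀ ℕ) (c : k) :
    Phi q (MvPolynomial.monomial m c) =
      Polynomial.C (q (MvPolynomial.monomial m c)) *
        Polynomial.X ^ (∑ i ∈ m.support, m i) := by
  rw [Phi, MvPolynomial.eval₂Hom_monomial, MvPolynomial.monomial_eq]
  simp only [Finsupp.prod, map_prod, map_pow, map_mul, mul_pow, Finset.prod_mul_distrib,
    Finset.prod_pow_eq_pow_sum, RingHom.comp_apply, hqC]
  ring

theorem Phi_homogeneous (hqC : ∀ c, q (MvPolynomial.C c) = algebraMap k A c)
    {f : MvPolynomial (Fin n) k} {d : ℕ} (hf : f.IsHomogeneous d) :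
    Phi q f = Polynomial.C (q f) * Polynomial.X ^ d := by
  have h1 : ∀ m ∈ f.support, Phi q (MvPolynomial.monomial m (MvPolynomial.coeff m f)) =
      Polynomial.C (q (MvPolynomial.monomial m (MvPolynomial.coeff m f))) *
        Polynomial.X ^ d := fun m hm => by
    rw [Phi_monomial q hqC, ← hf.degree_eq_sum_deg_support hm]
  have h2 : Phi q f = ∑ m ∈ f.support, Phi q (MvPolynomial.monomial m (MvPolynomial.coeff m f)) := by
    rw [← map_sum, MvPolynomial.support_sum_monomial_coeff]
  rw [h2, Finset.sum_congr rfl h1, ← Finset.sum_mul, ← map_sum, ← map_sum,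
    MvPolynomial.support_sum_monomial_coeff]

theorem ev0_Phi : (Polynomial.evalRingHom 0).comp (Phi q) =
    (algebraMap k A).comp (MvPolynomial.eval 0) := by
  apply MvPolynomial.ringHom_ext
  · intro r; simp [Phi]
  · intro i; simp [Phi]

theorem ev1_Phi (hqC : ∀ c, q (MvPolynomial.C c) = algebraMap k A c) :
    (Polynomial.evalRingHom 1).comp (Phi q) = q := by
  apply MvPolynomial.ringHom_ext
  · intro r; simp [Phi, hqC]
  · intro i; simp [Phi]

theorem pic_trivial' (hqC : ∀ c, q (MvPolynomial.C c) = algebraMap k A c)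
    (hq : Function.Surjective q)
    (s : Set (MvPolynomial (Fin n) k)) (hs : ∀ f ∈ s, ∃ d : ℕ, f.IsHomogeneous d)
    (hker : RingHom.ker q = Ideal.span s)
    [IsDomain A] [IsIntegrallyClosed A] (x : Pic A) : x = 1 := by
  have hΦ : RingHom.ker q ≤ RingHom.ker (Phi q) := by
    rw [hker, Ideal.span_le]
    intro f hf
    obtain ⟨d, hd⟩ := hs f hf
    have hqf : q f = 0 := by
      have : f ∈ RingHom.ker q := hker ▸ Ideal.subset_span hf
      exact this
    rw [SetLike.mem_coe, RingHom.mem_ker, Phi_homogeneous q hqC hd, hqf, map_zero, zero_mul]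
  set φ : A →+* Polynomial A := RingHom.liftOfSurjective q hq ⟨Phi q, hΦ⟩ with hφdef
  have hφ : φ.comp q = Phi q := RingHom.liftOfRightInverse_comp _ _ _ _
  have h1 : (Polynomial.evalRingHom 1).comp φ = RingHom.id A := by
    rw [← RingHom.cancel_right hq, RingHom.comp_assoc, hφ, ev1_Phi q hqC, RingHom.id_comp]
  have hker0 : RingHom.ker q ≤ RingHom.ker (MvPolynomial.eval (0 : Fin n → k)) := by
    intro a ha
    have haq : q a = 0 := ha
    have h := congrArg (fun g => g a) (ev0_Phi q)
    simp only [RingHom.comp_apply] at h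
    have h' : Phi q a = 0 := by rw [← hφ, RingHom.comp_apply, haq, map_zero]
    rw [h', map_zero] at h
    rw [RingHom.mem_ker]
    exact (algebraMap k A).injective (by rw [← h, map_zero])
  set π : A →+* k := RingHom.liftOfSurjective q hq ⟨MvPolynomial.eval 0, hker0⟩ with hπdef
  have hπ : π.comp q = MvPolynomial.eval 0 := RingHom.liftOfRightInverse_comp _ _ _ _
  have h0 : (Polynomial.evalRingHom 0).comp φ = (algebraMap k A).comp π := by
    rw [← RingHom.cancel_right hq, RingHom.comp_assoc, hφ, ev0_Phi, RingHom.comp_assoc, hπ]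
  obtain ⟨y, hy⟩ := surjective_mapAlgebra_polynomial A (Pic.mapRingHom φ x)
  rw [← Pic.mapRingHom_algebraMap] at hy
  have hC1 : (Polynomial.evalRingHom 1).comp (algebraMap A (Polynomial A)) = RingHom.id _ :=
    RingHom.ext (fun a => by simp)
  have hC0 : (Polynomial.evalRingHom 0).comp (algebraMap A (Polynomial A)) = RingHom.id _ :=
    RingHom.ext (fun a => by simp)
  have e1 := congrArg (Pic.mapRingHom (Polynomial.evalRingHom (1 : A))) hy
  rw [Pic.mapRingHom_mapRingHom, Pic.mapRingHom_mapRingHom, hC1, h1, Pic.mapRingHom_id_apply,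
    Pic.mapRingHom_id_apply] at e1
  have e0 := congrArg (Pic.mapRingHom (Polynomial.evalRingHom (0 : A))) hy
  rw [Pic.mapRingHom_mapRingHom, Pic.mapRingHom_mapRingHom, hC0, h0, Pic.mapRingHom_id_apply,
    ← Pic.mapRingHom_mapRingHom] at e0
  have hπ1 : Pic.mapRingHom π x = 1 := Subsingleton.elim _ _
  rw [hπ1, map_one] at e0
  rw [← e1, e0]

end PartA

theorem main {k : Type u} [Field k] {n : ℕ} (I : Ideal (MvPolynomial (Fin n) k))
    (hI : ∃ s : Set (MvPolynomial (Fin n) k), (∀ f ∈ s, ∃ d : ℕ, f.IsHomogeneous d) ∧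
      I = Ideal.span s)
    [IsDomain (MvPolynomial (Fin n) k ⧸ I)] [IsIntegrallyClosed (MvPolynomial (Fin n) k ⧸ I)]
    (M : Type u) [AddCommGroup M] [Module (MvPolynomial (Fin n) k ⧸ I) M]
    [Module.Invertible (MvPolynomial (Fin n) k ⧸ I) M] :
    Module.Free (MvPolynomial (Fin n) k ⧸ I) M := by
  obtain ⟨s, hs, hIs⟩ := hI
  refine Pic.mk_eq_one_iff_free.mp
    (pic_trivial' (Ideal.Quotient.mk I) (fun c => rfl) Ideal.Quotient.mk_surjective s hs ?_ _)
  rw [Ideal.mk_ker, hIs]

end Groth.Agent.H9.PicHom
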