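import Mathlib

set_option linter.style.haveILetI false
set_option linter.unusedSectionVars false
set_option linter.unusedVariables false

namespace Groth.Agent.H9.PIN

open AlgebraicGeometry CategoryTheory Limits TopologicalSpace Opposite

universe u

variable {X Y Z P : Scheme.{u}}

/-- sheaf-level pinching condition at an open `W` of `P`. -/
structure PinchAt (i : Z ⟶ X) (j : Z ⟶ Y) (a : X ⟶ P) (b : Y ⟶ P) (W : P.Opens) : Prop where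
  inj : ∀ s : Γ(P, W), a.app W s = 0 → b.app W s = 0 → s = 0
  glue : ∀ (e : i ⁻¹ᵁ a ⁻¹ᵁ W ≤ j ⁻¹ᵁ b ⁻¹ᵁ W) (sX : Γ(X, a ⁻¹ᵁ W)) (sY : Γ(Y, b ⁻¹ᵁ W)),
    i.app (a ⁻¹ᵁ W) sX = j.appLE (b ⁻¹ᵁ W) (i ⁻¹ᵁ a ⁻¹ᵁ W) e sY →
      ∃ s : Γ(P, W), a.app W s = sX ∧ b.app W s = sY

/-- The square is a "pinching": `P` is (as a ringed space) the pushout of `X` and `Y` along `Z`. -/
structure IsPinch (i : Z ⟶ X) (j : Z ⟶ Y) (a : X ⟶ P) (b : Y ⟶ P) : Prop where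
  w : i ≫ a = j ≫ b
  surj : ∀ p : P, (∃ x, a x = p) ∨ (∃ y, b y = p)
  exists_open : ∀ (U : X.Opens) (V : Y.Opens), i ⁻¹ᵁ U = j ⁻¹ᵁ V →
    ∃ W : P.Opens, a ⁻¹ᵁ W = U ∧ b ⁻¹ᵁ W = V
  pinchAt : ∀ W : P.Opens, PinchAt i j a b W

section Basic

theorem hom_ext_of_openImmersions {S T : Scheme.{u}} (φ ψ : S ⟶ T)
    (H : ∀ s : S, ∃ (S' : Scheme.{u}) (ι : S' ⟶ S), IsOpenImmersion ι ∧ s ∈ Set.range ι ∧
      ι ≫ φ = ι ≫ ψ) : φ = ψ := by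
  refine Scheme.hom_ext_of_forall _ _ (fun s => ?_)
  obtain ⟨S', ι, hι, hs, h⟩ := H s
  refine ⟨ι.opensRange, hs, ?_⟩
  rw [← Scheme.Hom.isoOpensRange_inv_comp ι, Category.assoc, Category.assoc, h]

theorem ι_comp_eq {T : Scheme.{u}} (h : P ⟶ T) {T' : T.Opens} (hT' : IsAffineOpen T')
    (V : P.Opens) (e : V ≤ h ⁻¹ᵁ T') :
    V.ι ≫ h = V.toSpecΓ ≫ Spec.map (h.appLE T' V e) ≫ hT'.fromSpec := by
  rw [Scheme.Opens.toSpecΓ_SpecMap_appLE_assoc, IsAffineOpen.toSpecΓ_fromSpec,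
    Scheme.Hom.resLE_comp_ι]

theorem appLE_congr_hom {T : Scheme.{u}} {k k' : X ⟶ T} (hk : k = k') (T' : T.Opens)
    (U : X.Opens) (e₁ : U ≤ k ⁻¹ᵁ T') (e₂ : U ≤ k' ⁻¹ᵁ T') :
    k.appLE T' U e₁ = k'.appLE T' U e₂ := by
  subst hk; rfl

end Basic

section Uniq

variable {i : Z ⟶ X} {j : Z ⟶ Y} {a : X ⟶ P} {b : Y ⟶ P}

/-- two ring maps into `Γ(P, W)` agree if they agree after `a` and `b`. -/
theorem PinchAt.hom_ext {W : P.Opens} (hW : PinchAt i j a b W) {R : CommRingCat.{u}}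
    (φ ψ : R ⟶ Γ(P, W)) (ha : φ ≫ a.app W = ψ ≫ a.app W) (hb : φ ≫ b.app W = ψ ≫ b.app W) :
    φ = ψ := by
  ext r
  have h1 : a.app W (φ r - ψ r) = 0 := by
    rw [map_sub, sub_eq_zero]
    exact congr($ha r)
  have h2 : b.app W (φ r - ψ r) = 0 := by
    rw [map_sub, sub_eq_zero]
    exact congr($hb r)
  exact sub_eq_zero.mp (hW.inj _ h1 h2)

theorem IsPinch.hom_ext (hp : IsPinch i j a b) {T : Scheme.{u}} (h h' : P ⟶ T)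
    (ha : a ≫ h = a ≫ h') (hb : b ≫ h = b ≫ h') : h = h' := by
  have hpt : ∀ p : P, h p = h' p := by
    intro p
    rcases hp.surj p with ⟨x, rfl⟩ | ⟨y, rfl⟩
    · rw [← Scheme.Hom.comp_apply, ← Scheme.Hom.comp_apply, ha]
    · rw [← Scheme.Hom.comp_apply, ← Scheme.Hom.comp_apply, hb]
  refine Scheme.hom_ext_of_forall _ _ (fun p => ?_)
  obtain ⟨T', hT', hpT', -⟩ := exists_isAffineOpen_mem_and_subset (x := h p) (U := ⊤) trivial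
  refine ⟨h ⁻¹ᵁ T', hpT', ?_⟩
  have e' : h ⁻¹ᵁ T' ≤ h' ⁻¹ᵁ T' := by
    intro q hq
    change h' q ∈ T'
    rw [← hpt q]
    exact hq
  rw [ι_comp_eq h hT' (h ⁻¹ᵁ T') le_rfl, ι_comp_eq h' hT' (h ⁻¹ᵁ T') e']
  congr 2
  congr 1
  refine (hp.pinchAt _).hom_ext _ _ ?_ ?_
  · rw [Scheme.Hom.app_eq_appLE, Scheme.Hom.appLE_comp_appLE, Scheme.Hom.appLE_comp_appLE]
    exact appLE_congr_hom ha _ _ _ _
  · rw [Scheme.Hom.app_eq_appLE, Scheme.Hom.appLE_comp_appLE, Scheme.Hom.appLE_comp_appLE]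
    exact appLE_congr_hom hb _ _ _ _

end Uniq

section Exist

variable {i : Z ⟶ X} {j : Z ⟶ Y} {a : X ⟶ P} {b : Y ⟶ P}

/-- ring-level descent: a ring map into `Γ(P, W)` from compatible maps into `Γ(X,·)`, `Γ(Y,·)`. -/
theorem PinchAt.exists_lift {W : P.Opens} (hW : PinchAt i j a b W)
    (e : i ⁻¹ᵁ a ⁻¹ᵁ W ≤ j ⁻¹ᵁ b ⁻¹ᵁ W) {R : CommRingCat.{u}}
    (φX : R ⟶ Γ(X, a ⁻¹ᵁ W)) (φY : R ⟶ Γ(Y, b ⁻¹ᵁ W))
    (hφ : φX ≫ i.app (a ⁻¹ᵁ W) = φY ≫ j.appLE (b ⁻¹ᵁ W) (i ⁻¹ᵁ a ⁻¹ᵁ W) e) :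
    ∃ φ : R ⟶ Γ(P, W), φ ≫ a.app W = φX ∧ φ ≫ b.app W = φY := by
  have hex : ∀ r : R, ∃ s : Γ(P, W), a.app W s = φX r ∧ b.app W s = φY r := fun r =>
    hW.glue e (φX r) (φY r) congr($hφ r)
  choose f hfa hfb using hex
  have huniq : ∀ s t : Γ(P, W), a.app W s = a.app W t → b.app W s = b.app W t → s = t := by
    intro s t h1 h2
    refine sub_eq_zero.mp (hW.inj _ ?_ ?_)
    · rw [map_sub, h1, sub_self]
    · rw [map_sub, h2, sub_self]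
  let F : R →+* Γ(P, W) :=
    { toFun := f
      map_one' := huniq _ _ (by rw [hfa, map_one, map_one]) (by rw [hfb, map_one, map_one])
      map_mul' := fun x y => huniq _ _ (by rw [hfa, map_mul, map_mul, hfa, hfa])
        (by rw [hfb, map_mul, map_mul, hfb, hfb])
      map_zero' := huniq _ _ (by rw [hfa, map_zero, map_zero]) (by rw [hfb, map_zero, map_zero])
      map_add' := fun x y => huniq _ _ (by rw [hfa, map_add, map_add, hfa, hfa])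
        (by rw [hfb, map_add, map_add, hfb, hfb]) }
  refine ⟨CommRingCat.ofHom F, ?_, ?_⟩
  · ext r; exact hfa r
  · ext r; exact hfb r

variable (hp : IsPinch i j a b) {T : Scheme.{u}} (f : X ⟶ T) (g : Y ⟶ T) (hfg : i ≫ f = j ≫ g)

include hp in
theorem IsPinch.preimage_le (W : P.Opens) : i ⁻¹ᵁ a ⁻¹ᵁ W ≤ j ⁻¹ᵁ b ⁻¹ᵁ W := by
  rw [← Scheme.Hom.comp_preimage, ← Scheme.Hom.comp_preimage, hp.w]

include hp hfg in
theorem IsPinch.exists_descRing (W : P.Opens) (T' : T.Opens) (hU : a ⁻¹ᵁ W ≤ f ⁻¹ᵁ T')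
    (hV : b ⁻¹ᵁ W ≤ g ⁻¹ᵁ T') :
    ∃ φ : Γ(T, T') ⟶ Γ(P, W), φ ≫ a.app W = f.appLE T' (a ⁻¹ᵁ W) hU ∧
      φ ≫ b.app W = g.appLE T' (b ⁻¹ᵁ W) hV := by
  refine (hp.pinchAt W).exists_lift (hp.preimage_le W) _ _ ?_
  rw [Scheme.Hom.app_eq_appLE, Scheme.Hom.appLE_comp_appLE, Scheme.Hom.appLE_comp_appLE]
  exact appLE_congr_hom hfg _ _ _ _

/-- the ring map `Γ(T, T') ⟶ Γ(P, W)` induced by `f` and `g`. -/
noncomputable def IsPinch.descRing (W : P.Opens) (T' : T.Opens) (hU : a ⁻¹ᵁ W ≤ f ⁻¹ᵁ T')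
    (hV : b ⁻¹ᵁ W ≤ g ⁻¹ᵁ T') : Γ(T, T') ⟶ Γ(P, W) :=
  (hp.exists_descRing f g hfg W T' hU hV).choose

theorem IsPinch.descRing_a (W : P.Opens) (T' : T.Opens) (hU : a ⁻¹ᵁ W ≤ f ⁻¹ᵁ T')
    (hV : b ⁻¹ᵁ W ≤ g ⁻¹ᵁ T') :
    hp.descRing f g hfg W T' hU hV ≫ a.app W = f.appLE T' (a ⁻¹ᵁ W) hU :=
  (hp.exists_descRing f g hfg W T' hU hV).choose_spec.1

theorem IsPinch.descRing_b (W : P.Opens) (T' : T.Opens) (hU : a ⁻¹ᵁ W ≤ f ⁻¹ᵁ T')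
    (hV : b ⁻¹ᵁ W ≤ g ⁻¹ᵁ T') :
    hp.descRing f g hfg W T' hU hV ≫ b.app W = g.appLE T' (b ⁻¹ᵁ W) hV :=
  (hp.exists_descRing f g hfg W T' hU hV).choose_spec.2

theorem IsPinch.descRing_uniq (W : P.Opens) (T' : T.Opens) (hU : a ⁻¹ᵁ W ≤ f ⁻¹ᵁ T')
    (hV : b ⁻¹ᵁ W ≤ g ⁻¹ᵁ T') (ψ : Γ(T, T') ⟶ Γ(P, W))
    (h1 : ψ ≫ a.app W = f.appLE T' (a ⁻¹ᵁ W) hU) (h2 : ψ ≫ b.app W = g.appLE T' (b ⁻¹ᵁ W) hV) :
    ψ = hp.descRing f g hfg W T' hU hV :=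
  (hp.pinchAt W).hom_ext _ _ (by rw [h1, hp.descRing_a]) (by rw [h2, hp.descRing_b])

/-- the morphism `W ⟶ T` induced by `f` and `g` on an open `W` of `P` mapping into an affine open
`T'` of `T`. -/
noncomputable def IsPinch.descOn (W : P.Opens) {T' : T.Opens} (hT' : IsAffineOpen T')
    (hU : a ⁻¹ᵁ W ≤ f ⁻¹ᵁ T') (hV : b ⁻¹ᵁ W ≤ g ⁻¹ᵁ T') : W.toScheme ⟶ T :=
  W.toSpecΓ ≫ Spec.map (hp.descRing f g hfg W T' hU hV) ≫ hT'.fromSpec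

theorem IsPinch.descOn_a (W : P.Opens) {T' : T.Opens} (hT' : IsAffineOpen T')
    (hU : a ⁻¹ᵁ W ≤ f ⁻¹ᵁ T') (hV : b ⁻¹ᵁ W ≤ g ⁻¹ᵁ T') :
    (a ∣_ W) ≫ hp.descOn f g hfg W hT' hU hV = (a ⁻¹ᵁ W).ι ≫ f := by
  rw [IsPinch.descOn, ← Scheme.Opens.toSpecΓ_naturality_assoc, ← Spec.map_comp_assoc,
    hp.descRing_a, ← ι_comp_eq]

theorem IsPinch.descOn_b (W : P.Opens) {T' : T.Opens} (hT' : IsAffineOpen T')
    (hU : a ⁻¹ᵁ W ≤ f ⁻¹ᵁ T') (hV : b ⁻¹ᵁ W ≤ g ⁻¹ᵁ T') :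
    (b ∣_ W) ≫ hp.descOn f g hfg W hT' hU hV = (b ⁻¹ᵁ W).ι ≫ g := by
  rw [IsPinch.descOn, ← Scheme.Opens.toSpecΓ_naturality_assoc, ← Spec.map_comp_assoc,
    hp.descRing_b, ← ι_comp_eq]

theorem IsPinch.descOn_mono {W₁ W₂ : P.Opens} (hW : W₂ ≤ W₁) {T' : T.Opens}
    (hT' : IsAffineOpen T') (hU : a ⁻¹ᵁ W₁ ≤ f ⁻¹ᵁ T') (hV : b ⁻¹ᵁ W₁ ≤ g ⁻¹ᵁ T') :
    P.homOfLE hW ≫ hp.descOn f g hfg W₁ hT' hU hV =
      hp.descOn f g hfg W₂ hT' ((a.preimage_mono hW).trans hU) ((b.preimage_mono hW).trans hV) := by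
  rw [IsPinch.descOn, IsPinch.descOn, ← Scheme.Opens.toSpecΓ_SpecMap_presheaf_map_assoc,
    ← Spec.map_comp_assoc]
  congr 2
  congr 1
  refine hp.descRing_uniq f g hfg _ _ _ _ _ ?_ ?_
  · rw [Category.assoc, Scheme.Hom.naturality, ← Category.assoc, hp.descRing_a,
      Scheme.Hom.appLE_map]
  · rw [Category.assoc, Scheme.Hom.naturality, ← Category.assoc, hp.descRing_b,
      Scheme.Hom.appLE_map]

theorem IsPinch.descOn_affine_mono (W : P.Opens) {T' T'' : T.Opens} (hTT : T'' ≤ T')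
    (hT' : IsAffineOpen T') (hT'' : IsAffineOpen T'')
    (hU : a ⁻¹ᵁ W ≤ f ⁻¹ᵁ T'') (hV : b ⁻¹ᵁ W ≤ g ⁻¹ᵁ T'') :
    hp.descOn f g hfg W hT'' hU hV =
      hp.descOn f g hfg W hT' (hU.trans (f.preimage_mono hTT)) (hV.trans (g.preimage_mono hTT)) := by
  rw [IsPinch.descOn, IsPinch.descOn]
  have : hp.descRing f g hfg W T' (hU.trans (f.preimage_mono hTT)) (hV.trans (g.preimage_mono hTT))
      = T.presheaf.map (homOfLE hTT).op ≫ hp.descRing f g hfg W T'' hU hV := by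
    symm
    refine hp.descRing_uniq f g hfg _ _ _ _ _ ?_ ?_
    · rw [Category.assoc, hp.descRing_a, Scheme.Hom.map_appLE]
    · rw [Category.assoc, hp.descRing_b, Scheme.Hom.map_appLE]
  rw [this, Spec.map_comp, Category.assoc, IsAffineOpen.map_fromSpec hT' hT'']

end Exist

section Exist2

variable {i : Z ⟶ X} {j : Z ⟶ Y} {a : X ⟶ P} {b : Y ⟶ P}
variable (hp : IsPinch i j a b) {T : Scheme.{u}} (f : X ⟶ T) (g : Y ⟶ T) (hfg : i ≫ f = j ≫ g)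

include hp hfg in
theorem IsPinch.exists_open_of_hom (T' : T.Opens) :
    ∃ W : P.Opens, a ⁻¹ᵁ W = f ⁻¹ᵁ T' ∧ b ⁻¹ᵁ W = g ⁻¹ᵁ T' :=
  hp.exists_open _ _ (by
    rw [← Scheme.Hom.comp_preimage, ← Scheme.Hom.comp_preimage, hfg])

theorem IsPinch.descOn_indep (W : P.Opens) {T₁ T₂ : T.Opens}
    (hT₁ : IsAffineOpen T₁) (hT₂ : IsAffineOpen T₂)
    (hU₁ : a ⁻¹ᵁ W ≤ f ⁻¹ᵁ T₁) (hV₁ : b ⁻¹ᵁ W ≤ g ⁻¹ᵁ T₁)
    (hU₂ : a ⁻¹ᵁ W ≤ f ⁻¹ᵁ T₂) (hV₂ : b ⁻¹ᵁ W ≤ g ⁻¹ᵁ T₂) :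
    hp.descOn f g hfg W hT₁ hU₁ hV₁ = hp.descOn f g hfg W hT₂ hU₂ hV₂ := by
  refine hom_ext_of_openImmersions _ _ (fun s => ?_)
  -- the image point in `T`
  have key : ∃ t : T, t ∈ T₁ ⊓ T₂ ∧ ∀ T₃ : T.Opens, t ∈ T₃ → ∀ W₃ : P.Opens,
      a ⁻¹ᵁ W₃ = f ⁻¹ᵁ T₃ → b ⁻¹ᵁ W₃ = g ⁻¹ᵁ T₃ → s.1 ∈ W₃ := by
    rcases hp.surj s.1 with ⟨x, hx⟩ | ⟨y, hy⟩
    · have hxW : x ∈ a ⁻¹ᵁ W := by
        change a x ∈ W
        rw [hx]; exact s.2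
      refine ⟨f x, ⟨hU₁ hxW, hU₂ hxW⟩, fun T₃ ht W₃ h1 h2 => ?_⟩
      have : x ∈ a ⁻¹ᵁ W₃ := by rw [h1]; exact ht
      rw [← hx]; exact this
    · have hyW : y ∈ b ⁻¹ᵁ W := by
        change b y ∈ W
        rw [hy]; exact s.2
      refine ⟨g y, ⟨hV₁ hyW, hV₂ hyW⟩, fun T₃ ht W₃ h1 h2 => ?_⟩
      have : y ∈ b ⁻¹ᵁ W₃ := by rw [h2]; exact ht
      rw [← hy]; exact this
  obtain ⟨t, ht, hkey⟩ := key
  obtain ⟨T₃, hT₃, htT₃, hT₃le⟩ := exists_isAffineOpen_mem_and_subset (x := t) (U := T₁ ⊓ T₂) ht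
  obtain ⟨W₃, hW₃a, hW₃b⟩ := hp.exists_open_of_hom f g hfg T₃
  have hsW₃ : s.1 ∈ W₃ := hkey T₃ htT₃ W₃ hW₃a hW₃b
  have hle : W ⊓ W₃ ≤ W := inf_le_left
  have hU₃ : a ⁻¹ᵁ (W ⊓ W₃) ≤ f ⁻¹ᵁ T₃ := (a.preimage_mono inf_le_right).trans (le_of_eq hW₃a)
  have hV₃ : b ⁻¹ᵁ (W ⊓ W₃) ≤ g ⁻¹ᵁ T₃ := (b.preimage_mono inf_le_right).trans (le_of_eq hW₃b)
  refine ⟨(W ⊓ W₃).toScheme, P.homOfLE hle, inferInstance, ⟨⟨s.1, ⟨s.2, hsW₃⟩⟩, ?_⟩, ?_⟩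
  · rw [Scheme.homOfLE_apply']; rfl
  · have h13 : T₃ ≤ T₁ := hT₃le.trans inf_le_left
    have h23 : T₃ ≤ T₂ := hT₃le.trans inf_le_right
    rw [hp.descOn_mono f g hfg hle hT₁ hU₁ hV₁, hp.descOn_mono f g hfg hle hT₂ hU₂ hV₂,
      ← hp.descOn_affine_mono f g hfg (W ⊓ W₃) h13 hT₁ hT₃ hU₃ hV₃,
      ← hp.descOn_affine_mono f g hfg (W ⊓ W₃) h23 hT₂ hT₃ hU₃ hV₃]

theorem pullback_fst_snd_eq (W₁ W₂ : P.Opens) (h₁ : W₁.toScheme ⟶ T) (h₂ : W₂.toScheme ⟶ T)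
    (hc : P.homOfLE (inf_le_left : W₁ ⊓ W₂ ≤ W₁) ≫ h₁ =
      P.homOfLE (inf_le_right : W₁ ⊓ W₂ ≤ W₂) ≫ h₂) :
    pullback.fst W₁.ι W₂.ι ≫ h₁ = pullback.snd W₁.ι W₂.ι ≫ h₂ := by
  have hr : Set.range (pullback.fst W₁.ι W₂.ι ≫ W₁.ι) ⊆ Set.range (W₁ ⊓ W₂).ι := by
    rintro _ ⟨q, rfl⟩
    rw [Scheme.Opens.range_ι]
    refine ⟨?_, ?_⟩
    · rw [Scheme.Hom.comp_apply]
      exact ((pullback.fst W₁.ι W₂.ι) q).2
    · have : (pullback.fst W₁.ι W₂.ι ≫ W₁.ι) q = (pullback.snd W₁.ι W₂.ι ≫ W₂.ι) q := by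
        rw [pullback.condition]
      rw [this, Scheme.Hom.comp_apply]
      exact ((pullback.snd W₁.ι W₂.ι) q).2
  let L := IsOpenImmersion.lift (W₁ ⊓ W₂).ι (pullback.fst W₁.ι W₂.ι ≫ W₁.ι) hr
  have hL1 : pullback.fst W₁.ι W₂.ι = L ≫ P.homOfLE inf_le_left := by
    rw [← cancel_mono W₁.ι, Category.assoc, Scheme.homOfLE_ι, IsOpenImmersion.lift_fac]
  have hL2 : pullback.snd W₁.ι W₂.ι = L ≫ P.homOfLE inf_le_right := by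
    rw [← cancel_mono W₂.ι, Category.assoc, Scheme.homOfLE_ι, IsOpenImmersion.lift_fac]
    exact pullback.condition.symm
  rw [hL1, hL2, Category.assoc, Category.assoc, hc]

/-- gluing morphisms defined on an open cover given by opens. -/
theorem exists_glue_of_opens {ι : Type u} (W : ι → P.Opens) (hW : ∀ p : P, ∃ k, p ∈ W k)
    (h : ∀ k, (W k).toScheme ⟶ T)
    (hcompat : ∀ k l, P.homOfLE (inf_le_left : W k ⊓ W l ≤ W k) ≫ h k =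
      P.homOfLE (inf_le_right : W k ⊓ W l ≤ W l) ≫ h l) :
    ∃ H : P ⟶ T, ∀ k, (W k).ι ≫ H = h k := by
  have hcov : IsOpenCover W := by
    rw [IsOpenCover, eq_top_iff]
    intro p _
    obtain ⟨k, hk⟩ := hW p
    exact Opens.mem_iSup.mpr ⟨k, hk⟩
  let 𝒰 := P.openCoverOfIsOpenCover W hcov
  have hc : ∀ k l : ι, pullback.fst (𝒰.f k) (𝒰.f l) ≫ h k = pullback.snd (𝒰.f k) (𝒰.f l) ≫ h l :=
    fun k l => pullback_fst_snd_eq (W k) (W l) (h k) (h l) (hcompat k l)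
  refine ⟨𝒰.glueMorphisms h hc, fun k => ?_⟩
  exact 𝒰.ι_glueMorphisms h hc k

end Exist2

section Exist3

variable {i : Z ⟶ X} {j : Z ⟶ Y} {a : X ⟶ P} {b : Y ⟶ P}
variable (hp : IsPinch i j a b) {T : Scheme.{u}} (f : X ⟶ T) (g : Y ⟶ T) (hfg : i ≫ f = j ≫ g)

include hp hfg in
theorem IsPinch.exists_desc : ∃ h : P ⟶ T, a ≫ h = f ∧ b ≫ h = g := by
  choose Wof hWa hWb using fun T' : T.affineOpens => hp.exists_open_of_hom f g hfg T'.1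
  have hcovP : ∀ p : P, ∃ k : T.affineOpens, p ∈ Wof k := by
    intro p
    rcases hp.surj p with ⟨x, rfl⟩ | ⟨y, rfl⟩
    · obtain ⟨T', hT', hx, -⟩ := exists_isAffineOpen_mem_and_subset (x := f x) (U := ⊤) trivial
      refine ⟨⟨T', hT'⟩, ?_⟩
      have : x ∈ a ⁻¹ᵁ Wof ⟨T', hT'⟩ := by rw [hWa]; exact hx
      exact this
    · obtain ⟨T', hT', hy, -⟩ := exists_isAffineOpen_mem_and_subset (x := g y) (U := ⊤) trivial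
      refine ⟨⟨T', hT'⟩, ?_⟩
      have : y ∈ b ⁻¹ᵁ Wof ⟨T', hT'⟩ := by rw [hWb]; exact hy
      exact this
  let hk : ∀ k : T.affineOpens, (Wof k).toScheme ⟶ T := fun k =>
    hp.descOn f g hfg (Wof k) k.2 (le_of_eq (hWa k)) (le_of_eq (hWb k))
  obtain ⟨H, hH⟩ := exists_glue_of_opens Wof hcovP hk (by
    intro k l
    dsimp only [hk]
    rw [hp.descOn_mono f g hfg inf_le_left, hp.descOn_mono f g hfg inf_le_right]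
    exact hp.descOn_indep f g hfg _ _ _ _ _ _ _)
  refine ⟨H, ?_, ?_⟩
  · refine hom_ext_of_openImmersions _ _ (fun x => ?_)
    obtain ⟨k, hk'⟩ := hcovP (a x)
    refine ⟨(a ⁻¹ᵁ Wof k).toScheme, (a ⁻¹ᵁ Wof k).ι, inferInstance, ?_, ?_⟩
    · rw [Scheme.Opens.range_ι]; exact hk'
    · rw [← morphismRestrict_ι_assoc, hH k]
      exact hp.descOn_a f g hfg _ _ _ _
  · refine hom_ext_of_openImmersions _ _ (fun y => ?_)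
    obtain ⟨k, hk'⟩ := hcovP (b y)
    refine ⟨(b ⁻¹ᵁ Wof k).toScheme, (b ⁻¹ᵁ Wof k).ι, inferInstance, ?_, ?_⟩
    · rw [Scheme.Opens.range_ι]; exact hk'
    · rw [← morphismRestrict_ι_assoc, hH k]
      exact hp.descOn_b f g hfg _ _ _ _

include hp in
/-- **A pinching square is a pushout square of schemes.** -/
theorem IsPinch.isPushout : IsPushout i j a b := by
  refine ⟨⟨hp.w⟩, ⟨?_⟩⟩
  refine PushoutCocone.IsColimit.mk _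
    (fun s => (hp.exists_desc s.inl s.inr s.condition).choose)
    (fun s => (hp.exists_desc s.inl s.inr s.condition).choose_spec.1)
    (fun s => (hp.exists_desc s.inl s.inr s.condition).choose_spec.2)
    (fun s m h1 h2 => ?_)
  refine hp.hom_ext _ _ ?_ ?_
  · rw [h1, (hp.exists_desc s.inl s.inr s.condition).choose_spec.1]
  · rw [h2, (hp.exists_desc s.inl s.inr s.condition).choose_spec.2]

end Exist3

end Groth.Agent.H9.PIN
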