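import Groth.Agent.Lib.Helper9.Misc.PIN9

set_option linter.style.haveILetI false
set_option linter.unusedSectionVars false
set_option linter.unusedVariables false

namespace Groth.Agent.H9.PIN

open AlgebraicGeometry CategoryTheory Limits TopologicalSpace Opposite

universe u

section Glue5

variable {X Y Z : Scheme.{u}} {i : Z ⟶ X} {j : Z ⟶ Y} [IsClosedImmersion i]

theorem exists_cpair_mem_U (hcovY : ∀ y : Y, ∃ k : CPair i j, y ∈ k.V) (x : X) :
    ∃ k : CPair i j, x ∈ k.U := by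
  by_cases hx : x ∈ Set.range i
  · obtain ⟨z, rfl⟩ := hx
    obtain ⟨k, hk⟩ := hcovY (j z)
    refine ⟨k, ?_⟩
    have : z ∈ j ⁻¹ᵁ k.V := hk
    rw [← k.h] at this
    exact this
  · have hO : IsOpen (Set.range i)ᶜ := i.isClosedEmbedding.isClosed_range.isOpen_compl
    obtain ⟨U, hU, hxU, hUO⟩ := exists_isAffineOpen_mem_and_subset (x := x) (U := ⟨_, hO⟩) hx
    refine ⟨⟨U, ⊥, hU, isAffineOpen_bot Y, ?_⟩, hxU⟩
    ext z
    simp only [Scheme.Hom.coe_preimage, Set.mem_preimage, SetLike.mem_coe, Opens.coe_bot,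
      Set.mem_empty_iff_false, iff_false]
    intro hz
    exact hUO hz ⟨z, rfl⟩

/-- **Existence of pinchings (Ferrand)**: if `Y` is covered by compatible affine pairs, then the
pinching of `X` along `Z → Y` exists. -/
theorem exists_isPinch (hcovY : ∀ y : Y, ∃ k : CPair i j, y ∈ k.V) :
    ∃ (P : Scheme.{u}) (a : X ⟶ P) (b : Y ⟶ P), IsPinch i j a b ∧
      ∃ W : CPair i j → P.Opens, (∀ k, IsAffineOpen (W k) ∧ a ⁻¹ᵁ (W k) = k.U ∧
        b ⁻¹ᵁ (W k) = k.V) ∧ ∀ p : P, ∃ k, p ∈ W k := by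
  have hcovX := exists_cpair_mem_U hcovY
  obtain ⟨a, ha⟩ := exists_a hcovX
  obtain ⟨b, hb⟩ := exists_b hcovY
  have sq : i ≫ a = j ≫ b := by
    refine hom_ext_of_openImmersions _ _ (fun z => ?_)
    obtain ⟨k, hk⟩ := hcovY (j z)
    have hz : z ∈ k.N := by rw [k.N_eq]; exact hk
    refine ⟨k.N.toScheme, k.N.ι, inferInstance, ?_, ?_⟩
    · rw [Scheme.Opens.range_ι]; exact hz
    · rw [← k.iK_ι_assoc, ← k.jK_ι_assoc, ha, hb, reassoc_of% k.isPinch_F.w]
  have haK : ∀ (k : CPair i j) (x : k.U.toScheme), a x.1 = pinchι i j k (k.inl x) := fun k x =>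
    congr($(ha k) x)
  have hbK : ∀ (k : CPair i j) (y : k.V.toScheme), b y.1 = pinchι i j k (k.inr y) := fun k y =>
    congr($(hb k) y)
  have key5a : ∀ (k : CPair i j) (x : X), a x ∈ Set.range (pinchι i j k) → x ∈ k.U := by
    rintro k x ⟨p, hp⟩
    obtain ⟨l, hl⟩ := hcovX x
    have h1 : pinchι i j l (l.inl ⟨x, hl⟩) = pinchι i j k p := by
      rw [← haK l ⟨x, hl⟩, hp]
    obtain ⟨m, fl, fk, pm, hpm1, hpm2⟩ :=
      (Scheme.IsLocallyDirected.ι_eq_ι_iff (pinchFunctor i j)).mp h1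
    have h2 : l.inl ⟨x, hl⟩ ∈ Set.range (CPair.Fmap (leOfHom fl)) := ⟨pm, hpm1⟩
    rw [CPair.inl_mem_range_Fmap] at h2
    exact (leOfHom fk).1 h2
  have key5b : ∀ (k : CPair i j) (y : Y), b y ∈ Set.range (pinchι i j k) → y ∈ k.V := by
    rintro k y ⟨p, hp⟩
    obtain ⟨l, hl⟩ := hcovY y
    have h1 : pinchι i j l (l.inr ⟨y, hl⟩) = pinchι i j k p := by
      rw [← hbK l ⟨y, hl⟩, hp]
    obtain ⟨m, fl, fk, pm, hpm1, hpm2⟩ :=
      (Scheme.IsLocallyDirected.ι_eq_ι_iff (pinchFunctor i j)).mp h1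
    have h2 : l.inr ⟨y, hl⟩ ∈ Set.range (CPair.Fmap (leOfHom fl)) := ⟨pm, hpm1⟩
    rw [CPair.inr_mem_range_Fmap] at h2
    exact (leOfHom fk).2 h2
  have hsqK : ∀ k : CPair i j, IsOpenSubSquare i j a b k.iK k.jK k.inl k.inr k.N.ι k.U.ι k.V.ι
      (pinchι i j k) := fun k =>
    { hn := inferInstance
      hu := inferInstance
      hv := inferInstance
      hw := inferInstance
      sq := sq
      sq₁ := k.isPinch_F.w
      hi := k.iK_ι
      hj := k.jK_ι
      ha := (ha k).symm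
      hb := (hb k).symm
      cu := fun x hx => by rw [Scheme.Opens.range_ι]; exact key5a k x hx
      cv := fun y hy => by rw [Scheme.Opens.range_ι]; exact key5b k y hy
      cn := fun z hz => by
        rw [Scheme.Opens.range_ι] at hz ⊢
        exact hz }
  have hjs : ∀ p : pinchGlued i j, ∃ (k : CPair i j) (pk : k.F), pinchι i j k pk = p :=
    Scheme.IsLocallyDirected.ι_jointly_surjective (pinchFunctor i j)
  refine ⟨pinchGlued i j, a, b, ?_, fun k => (pinchι i j k).opensRange, fun k => ⟨?_, ?_, ?_⟩, ?_⟩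
  · refine IsPinch.of_local sq (fun p => ?_)
    obtain ⟨k, pk, hpk⟩ := hjs p
    exact ⟨_, _, _, _, _, _, _, _, _, _, _, _, hsqK k, k.isPinch_F, ⟨pk, hpk⟩⟩
  · exact isAffineOpen_opensRange _
  · ext x
    constructor
    · intro hx
      exact key5a k x hx
    · intro hx
      exact ⟨k.inl ⟨x, hx⟩, (haK k ⟨x, hx⟩).symm⟩
  · ext y
    constructor
    · intro hy
      exact key5b k y hy
    · intro hy
      exact ⟨k.inr ⟨y, hy⟩, (hbK k ⟨y, hy⟩).symm⟩
  · intro p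
    obtain ⟨k, pk, hpk⟩ := hjs p
    exact ⟨k, pk, hpk⟩

end Glue5

end Groth.Agent.H9.PIN
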