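import Groth.Agent.Lib.Helper9.Misc.PIN10

set_option linter.style.haveILetI false
set_option linter.unusedSectionVars false
set_option linter.unusedVariables false

namespace Groth.Agent.H9.PIN

open AlgebraicGeometry CategoryTheory Limits TopologicalSpace Opposite

universe u

section AffineAnd

variable {X Y : Scheme.{u}}

set_option backward.isDefEq.respectTransparency false in
theorem affineAnd_restrict_iff {Q : ∀ {R S : Type u} [CommRing R] [CommRing S], (R →+* S) → Prop}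
    (hQi : RingHom.RespectsIso Q) (f : X ⟶ Y) (U : Y.Opens) (hU : IsAffineOpen U) :
    haveI : IsAffine U.toScheme := hU
    affineAnd Q (f ∣_ U) ↔ IsAffineOpen (f ⁻¹ᵁ U) ∧ Q (f.app U).hom := by
  haveI : IsAffine U.toScheme := hU
  rw [affineAnd_apply]
  refine and_congr Iff.rfl ?_
  simp only [morphismRestrict_app, CommRingCat.hom_comp, hQi.cancel_right_isIso]
  constructor
  · intro h
    have h' : Q (f.app (U.ι ''ᵁ ⊤)).hom := h
    rwa [Scheme.Opens.ι_image_top] at h'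
  · intro h
    change Q (f.app (U.ι ''ᵁ ⊤)).hom
    rw [Scheme.Opens.ι_image_top]
    exact h

theorem isClosedImmersion_of_cover (f : X ⟶ Y) {ι : Type*} (U : ι → Y.Opens)
    (hU : ∀ y : Y, ∃ k, y ∈ U k)
    (h : ∀ k, IsAffineOpen (U k) ∧ IsAffineOpen (f ⁻¹ᵁ U k) ∧ Function.Surjective (f.app (U k))) :
    IsClosedImmersion f := by
  have hsup : ⨆ k, ((⟨U k, (h k).1⟩ : Y.affineOpens) : Y.Opens) = ⊤ := by
    rw [eq_top_iff]
    intro y _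
    obtain ⟨k, hk⟩ := hU y
    exact Opens.mem_iSup.mpr ⟨k, hk⟩
  refine HasAffineProperty.of_iSup_eq_top (P := @IsClosedImmersion)
    (fun k => (⟨U k, (h k).1⟩ : Y.affineOpens)) hsup (fun k => ?_)
  exact (affineAnd_restrict_iff RingHom.surjective_respectsIso f (U k) (h k).1).mpr
    ⟨(h k).2.1, (h k).2.2⟩

theorem isIntegralHom_of_cover (f : X ⟶ Y) {ι : Type*} (U : ι → Y.Opens)
    (hU : ∀ y : Y, ∃ k, y ∈ U k)
    (h : ∀ k, IsAffineOpen (U k) ∧ IsAffineOpen (f ⁻¹ᵁ U k) ∧ (f.app (U k)).hom.IsIntegral) :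
    IsIntegralHom f := by
  have hsup : ⨆ k, ((⟨U k, (h k).1⟩ : Y.affineOpens) : Y.Opens) = ⊤ := by
    rw [eq_top_iff]
    intro y _
    obtain ⟨k, hk⟩ := hU y
    exact Opens.mem_iSup.mpr ⟨k, hk⟩
  refine HasAffineProperty.of_iSup_eq_top (P := @IsIntegralHom)
    (fun k => (⟨U k, (h k).1⟩ : Y.affineOpens)) hsup (fun k => ?_)
  exact (affineAnd_restrict_iff RingHom.isIntegral_respectsIso f (U k) (h k).1).mpr
    ⟨(h k).2.1, (h k).2.2⟩

end AffineAnd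

section RingInt

variable {R A' B A : Type*} [CommRing R] [CommRing A'] [CommRing B] [CommRing A]
variable {α : R →+* A'} {β : R →+* B} {p : A' →+* A} {q : B →+* A}

open Polynomial in
theorem RingPinch.α_isIntegral_of (h : RingPinch α β p q) (hq : q.IsIntegral) : α.IsIntegral := by
  intro a'
  rcases subsingleton_or_nontrivial B with hB | hB
  · have hA : ∀ x : A, x = 0 := by
      intro x
      have h1 : (1 : A) = 0 := by
        rw [← map_one q, Subsingleton.elim (1 : B) 0, map_zero]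
      rw [← mul_one x, h1, mul_zero]
    obtain ⟨κ, hκa, -⟩ := h.exists_ker a' (hA _)
    rw [← hκa]
    exact α.isIntegralElem_map
  obtain ⟨f, hf, hfe⟩ := hq (p a')
  -- make the degree positive
  have hf' : (f * X).Monic := hf.mul monic_X
  have hfe' : eval₂ q (p a') (f * X) = 0 := by rw [eval₂_mul, hfe, zero_mul]
  have hlift : f * X ∈ lifts β := by
    rw [mem_lifts]
    exact map_surjective β h.β_surjective _
  obtain ⟨g, hg1, hg2, hg3⟩ := lifts_and_natDegree_eq_and_monic hlift hf'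
  have hx : p (eval₂ α a' g) = 0 := by
    rw [hom_eval₂, ← hfe', ← hg1, eval₂_map]
    congr 1
    ext r
    exact h.comm r
  obtain ⟨κ, hκa, hκb⟩ := h.exists_ker _ hx
  refine ⟨g - C κ, hg3.sub_of_left ?_, ?_⟩
  · have hdeg : 0 < g.natDegree := by
      rw [hg2, natDegree_mul_X hf.ne_zero]
      exact Nat.succ_pos _
    calc (C κ).degree ≤ 0 := degree_C_le
      _ < g.degree := by
        rw [← natDegree_pos_iff_degree_pos]; exact hdeg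
  · rw [eval₂_sub, eval₂_C, hκa, sub_self]

end RingInt

section Extras

variable {X Y Z P : Scheme.{u}} {i : Z ⟶ X} {j : Z ⟶ Y} {a : X ⟶ P} {b : Y ⟶ P}

theorem app_comp_eq (sq : i ≫ a = j ≫ b) (W : P.Opens) (e : i ⁻¹ᵁ a ⁻¹ᵁ W ≤ j ⁻¹ᵁ b ⁻¹ᵁ W) :
    b.app W ≫ j.appLE (b ⁻¹ᵁ W) (i ⁻¹ᵁ a ⁻¹ᵁ W) e = a.app W ≫ i.app (a ⁻¹ᵁ W) := by
  rw [Scheme.Hom.app_eq_appLE, Scheme.Hom.app_eq_appLE, Scheme.Hom.app_eq_appLE,
    Scheme.Hom.appLE_comp_appLE, Scheme.Hom.appLE_comp_appLE]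
  exact appLE_congr_hom sq.symm _ _ _ _

theorem PinchAt.ringPinch (sq : i ≫ a = j ≫ b) {W : P.Opens} (hW : PinchAt i j a b W)
    (e : i ⁻¹ᵁ a ⁻¹ᵁ W ≤ j ⁻¹ᵁ b ⁻¹ᵁ W) (hsurj : Function.Surjective (i.app (a ⁻¹ᵁ W))) :
    RingPinch (a.app W).hom (b.app W).hom (i.app (a ⁻¹ᵁ W)).hom
      (j.appLE (b ⁻¹ᵁ W) (i ⁻¹ᵁ a ⁻¹ᵁ W) e).hom where
  comm r := (congr($(app_comp_eq sq W e) r)).symm
  inj := hW.inj
  glue a' b' hab := hW.glue e a' b' hab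
  surj := hsurj

theorem appLE_eq_app_of_eq {X Y : Scheme.{u}} (f : X ⟶ Y) (U : Y.Opens) (V : X.Opens)
    (hV : V = f ⁻¹ᵁ U) (e : V ≤ f ⁻¹ᵁ U) :
    ∃ φ : Γ(X, f ⁻¹ᵁ U) ≅ Γ(X, V), f.appLE U V e = f.app U ≫ φ.hom := by
  subst hV
  exact ⟨Iso.refl _, by rw [Iso.refl_hom, Category.comp_id, ← Scheme.Hom.app_eq_appLE]⟩

variable (hp : IsPinch i j a b) [IsClosedImmersion i]

include hp in
theorem IsPinch.isClosedImmersion_b {ι : Type*} (𝒲 : ι → P.Opens) (hcov : ∀ p : P, ∃ k, p ∈ 𝒲 k)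
    (h𝒲 : ∀ k, IsAffineOpen (𝒲 k) ∧ IsAffineOpen (a ⁻¹ᵁ 𝒲 k) ∧ IsAffineOpen (b ⁻¹ᵁ 𝒲 k)) :
    IsClosedImmersion b := by
  refine isClosedImmersion_of_cover b 𝒲 hcov (fun k => ⟨(h𝒲 k).1, (h𝒲 k).2.2, ?_⟩)
  exact ((hp.pinchAt (𝒲 k)).ringPinch hp.w (hp.preimage_le _)
    (Scheme.Hom.app_surjective i _ (h𝒲 k).2.1)).β_surjective

include hp in
theorem IsPinch.isClosedImmersion_a [IsClosedImmersion j] {ι : Type*} (𝒲 : ι → P.Opens)
    (hcov : ∀ p : P, ∃ k, p ∈ 𝒲 k)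
    (h𝒲 : ∀ k, IsAffineOpen (𝒲 k) ∧ IsAffineOpen (a ⁻¹ᵁ 𝒲 k) ∧ IsAffineOpen (b ⁻¹ᵁ 𝒲 k)) :
    IsClosedImmersion a := by
  refine isClosedImmersion_of_cover a 𝒲 hcov (fun k => ⟨(h𝒲 k).1, (h𝒲 k).2.1, ?_⟩)
  refine ((hp.pinchAt (𝒲 k)).ringPinch hp.w (hp.preimage_le _)
    (Scheme.Hom.app_surjective i _ (h𝒲 k).2.1)).α_surjective_of ?_
  have heq : i ⁻¹ᵁ a ⁻¹ᵁ 𝒲 k = j ⁻¹ᵁ b ⁻¹ᵁ 𝒲 k := by
    rw [← Scheme.Hom.comp_preimage, ← Scheme.Hom.comp_preimage, hp.w]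
  obtain ⟨φ, hφ⟩ := appLE_eq_app_of_eq j (b ⁻¹ᵁ 𝒲 k) _ heq (hp.preimage_le _)
  rw [hφ]
  exact (ConcreteCategory.bijective_of_isIso φ.hom).2.comp
    (Scheme.Hom.app_surjective j _ (h𝒲 k).2.2)

include hp in
theorem IsPinch.isIntegralHom_a [IsIntegralHom j] {ι : Type*} (𝒲 : ι → P.Opens)
    (hcov : ∀ p : P, ∃ k, p ∈ 𝒲 k)
    (h𝒲 : ∀ k, IsAffineOpen (𝒲 k) ∧ IsAffineOpen (a ⁻¹ᵁ 𝒲 k) ∧ IsAffineOpen (b ⁻¹ᵁ 𝒲 k)) :
    IsIntegralHom a := by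
  refine isIntegralHom_of_cover a 𝒲 hcov (fun k => ⟨(h𝒲 k).1, (h𝒲 k).2.1, ?_⟩)
  refine ((hp.pinchAt (𝒲 k)).ringPinch hp.w (hp.preimage_le _)
    (Scheme.Hom.app_surjective i _ (h𝒲 k).2.1)).α_isIntegral_of ?_
  have heq : i ⁻¹ᵁ a ⁻¹ᵁ 𝒲 k = j ⁻¹ᵁ b ⁻¹ᵁ 𝒲 k := by
    rw [← Scheme.Hom.comp_preimage, ← Scheme.Hom.comp_preimage, hp.w]
  obtain ⟨φ, hφ⟩ := appLE_eq_app_of_eq j (b ⁻¹ᵁ 𝒲 k) _ heq (hp.preimage_le _)
  rw [hφ, CommRingCat.hom_comp]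
  exact RingHom.IsIntegral.trans _ _ (j.isIntegral_app _ (h𝒲 k).2.2)
    (RingHom.isIntegral_of_surjective _ (ConcreteCategory.bijective_of_isIso φ.hom).2)

end Extras

section Extras2

variable {X Y Z P : Scheme.{u}} {i : Z ⟶ X} {j : Z ⟶ Y} {a : X ⟶ P} {b : Y ⟶ P}
variable (hp : IsPinch i j a b) [IsClosedImmersion i]

include hp in
theorem IsPinch.isPullback [IsClosedImmersion b] {ι : Type*} (𝒲 : ι → P.Opens)
    (hcov : ∀ p : P, ∃ k, p ∈ 𝒲 k) (h𝒲 : ∀ k, IsAffineOpen (a ⁻¹ᵁ 𝒲 k)) :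
    IsPullback i j a b := by
  -- the ideal comparison
  have hker : i.ker ≤ (pullback.fst a b).ker := by
    refine Scheme.IdealSheafData.le_of_iSup_eq_top
      (fun k => (⟨a ⁻¹ᵁ 𝒲 k, h𝒲 k⟩ : X.affineOpens)) ?_ (fun k => ?_)
    · rw [eq_top_iff]
      intro x _
      obtain ⟨k, hk⟩ := hcov (a x)
      exact Opens.mem_iSup.mpr ⟨k, hk⟩
    · rw [Scheme.Hom.ker_apply, Scheme.Hom.ker_apply]
      intro x hx
      rw [RingHom.mem_ker] at hx ⊢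
      obtain ⟨s, hsa, hsb⟩ := (hp.pinchAt (𝒲 k)).glue (hp.preimage_le _) x 0 (by
        rw [map_zero]; exact hx)
      have hle : pullback.fst a b ⁻¹ᵁ a ⁻¹ᵁ 𝒲 k ≤ pullback.snd a b ⁻¹ᵁ b ⁻¹ᵁ 𝒲 k := by
        rw [← Scheme.Hom.comp_preimage, ← Scheme.Hom.comp_preimage, pullback.condition]
      have h1 := app_comp_eq (pullback.condition (f := a) (g := b)) (𝒲 k) hle
      have h2 := congr($h1 s)
      simp only [CommRingCat.comp_apply] at h2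
      change (pullback.fst a b).app (a ⁻¹ᵁ 𝒲 k) x = 0
      rw [← hsa, ← h2, hsb, map_zero]
  let c' : pullback a b ⟶ Z := IsClosedImmersion.lift i (pullback.fst a b) hker
  have hc' : c' ≫ i = pullback.fst a b := IsClosedImmersion.lift_fac _ _ _
  let c : Z ⟶ pullback a b := pullback.lift i j hp.w
  have h1 : c ≫ c' = 𝟙 Z := by
    rw [← cancel_mono i, Category.assoc, hc', pullback.lift_fst, Category.id_comp]
  have h2 : c' ≫ c = 𝟙 _ := by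
    apply pullback.hom_ext
    · rw [Category.assoc, pullback.lift_fst, hc', Category.id_comp]
    · rw [Category.assoc, pullback.lift_snd, Category.id_comp, ← cancel_mono b, Category.assoc,
        ← hp.w, reassoc_of% hc', pullback.condition]
  exact IsPullback.of_iso_pullback ⟨hp.w⟩ ⟨c, c', h1, h2⟩ (pullback.lift_fst _ _ _)
    (pullback.lift_snd _ _ _)

end Extras2

end Groth.Agent.H9.PIN
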