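import Groth.Agent.Lib.Helper9.Misc.PIN12
import Groth.Agent.Lib.Helper1.ThickAff6

set_option linter.style.haveILetI false
set_option linter.unusedSectionVars false
set_option linter.unusedVariables false

namespace Groth.Agent.H9.PIN

open AlgebraicGeometry CategoryTheory Limits TopologicalSpace Opposite

universe u

section S0431

variable {X X' Y : Scheme.{u}}

theorem exists_cpair_of_thickening (t : X ⟶ X') [IsClosedImmersion t] (ht : Function.Surjective t)
    (f : X ⟶ Y) [IsAffineHom f] (y : Y) : ∃ k : CPair t f, y ∈ k.V := by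
  obtain ⟨V, hV, hyV, -⟩ := exists_isAffineOpen_mem_and_subset (x := y) (U := ⊤) trivial
  have hc : IsClosed (t '' ((f ⁻¹ᵁ V : Set X)ᶜ)) :=
    t.isClosedEmbedding.isClosedMap _ (f ⁻¹ᵁ V).2.isClosed_compl
  let U' : X'.Opens := ⟨_, hc.isOpen_compl⟩
  have hU' : t ⁻¹ᵁ U' = f ⁻¹ᵁ V := by
    ext x
    simp only [Scheme.Hom.coe_preimage, Opens.coe_mk, Set.mem_preimage, Set.mem_compl_iff,
      Set.mem_image, SetLike.mem_coe, not_exists, not_and, U']
    constructor
    · intro h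
      by_contra hx
      exact h x hx rfl
    · intro hx x' hx' hxx'
      rw [t.isClosedEmbedding.injective hxx'] at hx'
      exact hx' hx
  have hU'aff : IsAffineOpen U' := by
    apply Groth.Agent.H1.ThickAff.isAffineOpen_of_preimage t ht
    rw [hU']
    exact hV.preimage f
  exact ⟨⟨U', V, hU'aff, hV, hU'⟩, hyV⟩

theorem S0431_main (t : X ⟶ X') [IsClosedImmersion t] (ht : Function.Surjective t) (f : X ⟶ Y)
    [IsAffineHom f] :
    ∃ (Y' : Scheme.{u}) (f' : X' ⟶ Y') (b : Y ⟶ Y'), IsPushout t f f' b ∧ IsPullback t f f' b ∧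
      IsClosedImmersion b ∧ Function.Surjective b := by
  obtain ⟨P, a, b, hp, W, hW, hcov⟩ := exists_isPinch (exists_cpair_of_thickening t ht f)
  have hW' : ∀ k, IsAffineOpen (W k) ∧ IsAffineOpen (a ⁻¹ᵁ W k) ∧ IsAffineOpen (b ⁻¹ᵁ W k) :=
    fun k => ⟨(hW k).1, by rw [(hW k).2.1]; exact k.hU, by rw [(hW k).2.2]; exact k.hV⟩
  have hb : IsClosedImmersion b := hp.isClosedImmersion_b W hcov hW'
  refine ⟨P, a, b, hp.isPushout, hp.isPullback W hcov (fun k => (hW' k).2.1), hb, ?_⟩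
  intro p
  rcases hp.surj p with ⟨x', rfl⟩ | ⟨y, rfl⟩
  · obtain ⟨x, rfl⟩ := ht x'
    exact ⟨f x, by rw [← Scheme.Hom.comp_apply, ← hp.w, Scheme.Hom.comp_apply]⟩
  · exact ⟨y, rfl⟩

end S0431

end Groth.Agent.H9.PIN
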