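import Groth.Agent.Lib.Helper9.Misc.PIN12

set_option linter.style.haveILetI false
set_option linter.unusedSectionVars false
set_option linter.unusedVariables false

namespace Groth.Agent.H9.PIN

open AlgebraicGeometry CategoryTheory Limits TopologicalSpace Opposite

universe u

section S15943

variable {X Y T Z : Scheme.{u}}

theorem exists_cpair_of_std (f : X ⟶ Y) (t : T ⟶ Y) (ξ : Z ⟶ T) (ι : Z ⟶ X)
    [IsAffineHom t] (hsq : ι ≫ f = ξ ≫ t)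
    (hstd : ∀ y : Y, ∃ U : Y.Opens, IsAffineOpen U ∧ y ∈ U ∧ ∃ V : X.Opens, IsAffineOpen V ∧
      V ≤ f ⁻¹ᵁ U ∧ ∀ z : Z, (ξ ≫ t).base z ∈ U → ι.base z ∈ V) (y' : T) :
    ∃ k : CPair ι ξ, y' ∈ k.V := by
  obtain ⟨U, hU, hyU, V, hV, hVU, hz⟩ := hstd (t y')
  refine ⟨⟨V, t ⁻¹ᵁ U, hV, hU.preimage t, ?_⟩, hyU⟩
  ext z
  simp only [Scheme.Hom.coe_preimage, Set.mem_preimage, SetLike.mem_coe]
  constructor
  · intro h
    have h1 : f (ι z) ∈ U := hVU h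
    rw [← Scheme.Hom.comp_apply, hsq, Scheme.Hom.comp_apply] at h1
    exact h1
  · intro h
    exact hz z (by rw [Scheme.Hom.comp_apply]; exact h)

theorem S15943_main (f : X ⟶ Y) (t : T ⟶ Y) (ξ : Z ⟶ T) (ι : Z ⟶ X)
    [IsAffineHom t] [IsAffineHom (ξ ≫ t)] [IsClosedImmersion ι] (hsq : ι ≫ f = ξ ≫ t)
    (hstd : ∀ y : Y, ∃ U : Y.Opens, IsAffineOpen U ∧ y ∈ U ∧ ∃ V : X.Opens, IsAffineOpen V ∧
      V ≤ f ⁻¹ᵁ U ∧ ∀ z : Z, (ξ ≫ t).base z ∈ U → ι.base z ∈ V) :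
    ∃ (P : Scheme.{u}) (a : X ⟶ P) (b : T ⟶ P), IsPushout ι ξ a b := by
  obtain ⟨P, a, b, hp, -⟩ := exists_isPinch (exists_cpair_of_std f t ξ ι hsq hstd)
  exact ⟨P, a, b, hp.isPushout⟩

end S15943

end Groth.Agent.H9.PIN
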