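import Groth.Agent.Lib.Helper9.Misc.PIN14

set_option linter.style.haveILetI false
set_option linter.unusedSectionVars false
set_option linter.unusedVariables false

namespace Groth.Agent.H9.PIN

open AlgebraicGeometry CategoryTheory Limits TopologicalSpace Opposite

universe u

section RingFin

variable {R A' B A : Type*} [CommRing R] [CommRing A'] [CommRing B] [CommRing A]
variable {α : R →+* A'} {β : R →+* B} {p : A' →+* A} {q : B →+* A}

theorem RingPinch.α_finite_of (h : RingPinch α β p q) (hq : q.Finite) : α.Finite := by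
  classical
  letI := α.toAlgebra
  letI := q.toAlgebra
  have hq' : Module.Finite B A := hq
  obtain ⟨s, hs⟩ := hq'.fg_top
  choose lift hlift using h.surj
  choose r hr using h.β_surjective
  refine ⟨⟨insert 1 (s.image lift), ?_⟩⟩
  rw [eq_top_iff]
  rintro a' -
  have hmem : p a' ∈ Submodule.span B (s : Set A) := by rw [hs]; trivial
  obtain ⟨c, -, hc⟩ := (Submodule.mem_span_finset).mp hmem
  have hx : p (a' - ∑ a ∈ s, α (r (c a)) * lift a) = 0 := by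
    rw [map_sub, map_sum, sub_eq_zero, ← hc]
    refine Finset.sum_congr rfl (fun a _ => ?_)
    rw [map_mul, hlift, h.comm, hr, Algebra.smul_def]
    rfl
  obtain ⟨κ, hκa, -⟩ := h.exists_ker _ hx
  have ha' : a' = κ • (1 : A') + ∑ a ∈ s, r (c a) • lift a := by
    have e1 : κ • (1 : A') = α κ := by rw [Algebra.smul_def, mul_one]; rfl
    have e2 : ∀ a, r (c a) • lift a = α (r (c a)) * lift a := fun a => by
      rw [Algebra.smul_def]; rfl
    rw [e1, hκa]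
    simp only [e2]
    ring
  rw [ha']
  refine Submodule.add_mem _ (Submodule.smul_mem _ _ (Submodule.subset_span ?_))
    (Submodule.sum_mem _ (fun a ha => Submodule.smul_mem _ _ (Submodule.subset_span ?_)))
  · simp
  · simp only [Finset.coe_insert, Finset.coe_image, Set.mem_insert_iff, Set.mem_image,
      Finset.mem_coe]
    exact Or.inr ⟨a, ha, rfl⟩

end RingFin

section FinCover

variable {X Y : Scheme.{u}}

theorem isFinite_of_cover (f : X ⟶ Y) {ι : Type*} (U : ι → Y.Opens)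
    (hU : ∀ y : Y, ∃ k, y ∈ U k)
    (h : ∀ k, IsAffineOpen (U k) ∧ IsAffineOpen (f ⁻¹ᵁ U k) ∧ (f.app (U k)).hom.Finite) :
    IsFinite f := by
  have hsup : ⨆ k, ((⟨U k, (h k).1⟩ : Y.affineOpens) : Y.Opens) = ⊤ := by
    rw [eq_top_iff]
    intro y _
    obtain ⟨k, hk⟩ := hU y
    exact Opens.mem_iSup.mpr ⟨k, hk⟩
  refine HasAffineProperty.of_iSup_eq_top (P := @IsFinite)
    (fun k => (⟨U k, (h k).1⟩ : Y.affineOpens)) hsup (fun k => ?_)
  exact (affineAnd_restrict_iff RingHom.finite_respectsIso f (U k) (h k).1).mpr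
    ⟨(h k).2.1, (h k).2.2⟩

end FinCover

section Extras3

variable {X Y Z P : Scheme.{u}} {i : Z ⟶ X} {j : Z ⟶ Y} {a : X ⟶ P} {b : Y ⟶ P}
variable (hp : IsPinch i j a b) [IsClosedImmersion i]

include hp in
theorem IsPinch.isFinite_a [IsFinite j] {ι : Type*} (𝒲 : ι → P.Opens)
    (hcov : ∀ p : P, ∃ k, p ∈ 𝒲 k)
    (h𝒲 : ∀ k, IsAffineOpen (𝒲 k) ∧ IsAffineOpen (a ⁻¹ᵁ 𝒲 k) ∧ IsAffineOpen (b ⁻¹ᵁ 𝒲 k)) :
    IsFinite a := by
  refine isFinite_of_cover a 𝒲 hcov (fun k => ⟨(h𝒲 k).1, (h𝒲 k).2.1, ?_⟩)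
  refine ((hp.pinchAt (𝒲 k)).ringPinch hp.w (hp.preimage_le _)
    (Scheme.Hom.app_surjective i _ (h𝒲 k).2.1)).α_finite_of ?_
  have heq : i ⁻¹ᵁ a ⁻¹ᵁ 𝒲 k = j ⁻¹ᵁ b ⁻¹ᵁ 𝒲 k := by
    rw [← Scheme.Hom.comp_preimage, ← Scheme.Hom.comp_preimage, hp.w]
  obtain ⟨φ, hφ⟩ := appLE_eq_app_of_eq j (b ⁻¹ᵁ 𝒲 k) _ heq (hp.preimage_le _)
  rw [hφ, CommRingCat.hom_comp]
  exact RingHom.Finite.comp
    (RingHom.Finite.of_surjective _ (ConcreteCategory.bijective_of_isIso φ.hom).2)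
    (j.finite_app _ (h𝒲 k).2.2)

omit [IsClosedImmersion i] in
/-- any pushout of a span with enough compatible affine pairs is a pinching with affine charts. -/
theorem isPinch_of_isPushout [IsClosedImmersion i] (hcovY : ∀ y : Y, ∃ k : CPair i j, y ∈ k.V)
    (hP : IsPushout i j a b) :
    IsPinch i j a b ∧ ∃ W : CPair i j → P.Opens, (∀ k, IsAffineOpen (W k) ∧
      IsAffineOpen (a ⁻¹ᵁ (W k)) ∧ IsAffineOpen (b ⁻¹ᵁ (W k))) ∧ ∀ p : P, ∃ k, p ∈ W k := by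
  obtain ⟨P₀, a₀, b₀, hp₀, W, hW, hcov⟩ := exists_isPinch hcovY
  let e : P₀ ≅ P := hp₀.isPushout.isoIsPushout _ _ hP
  have hea : a₀ ≫ e.hom = a := IsPushout.inl_isoIsPushout_hom _ _ _ _
  have heb : b₀ ≫ e.hom = b := IsPushout.inr_isoIsPushout_hom _ _ _ _
  have hp := hp₀.of_iso e
  rw [hea, heb] at hp
  have hea' : a ≫ e.inv = a₀ := by rw [← hea, Category.assoc, e.hom_inv_id, Category.comp_id]
  have heb' : b ≫ e.inv = b₀ := by rw [← heb, Category.assoc, e.hom_inv_id, Category.comp_id]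
  refine ⟨hp, fun k => e.inv ⁻¹ᵁ W k, fun k => ⟨?_, ?_, ?_⟩, fun p => ?_⟩
  · exact (hW k).1.preimage_of_isIso e.inv
  · rw [← Scheme.Hom.comp_preimage, hea', (hW k).2.1]; exact k.hU
  · rw [← Scheme.Hom.comp_preimage, heb', (hW k).2.2]; exact k.hV
  · obtain ⟨k, hk⟩ := hcov (e.inv p)
    exact ⟨k, hk⟩

end Extras3

section S15945

variable {X Y T Z : Scheme.{u}}

theorem S15945_main (f : X ⟶ Y) (t : T ⟶ Y) (ξ : Z ⟶ T) (ι : Z ⟶ X)
    [IsAffineHom t] [IsAffineHom (ξ ≫ t)] [IsClosedImmersion ι] (hsq : ι ≫ f = ξ ≫ t)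
    (hstd : ∀ y : Y, ∃ U : Y.Opens, IsAffineOpen U ∧ y ∈ U ∧ ∃ V : X.Opens, IsAffineOpen V ∧
      V ≤ f ⁻¹ᵁ U ∧ ∀ z : Z, (ξ ≫ t).base z ∈ U → ι.base z ∈ V)
    [IsFinite ξ] {P : Scheme.{u}} (a : X ⟶ P) (b : T ⟶ P) (hP : IsPushout ι ξ a b) :
    IsFinite a ∧ IsPullback ι ξ a b ∧ IsClosedImmersion b := by
  obtain ⟨hp, W, hW, hcov⟩ := isPinch_of_isPushout (exists_cpair_of_std f t ξ ι hsq hstd) hP
  have hb : IsClosedImmersion b := hp.isClosedImmersion_b W hcov hW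
  exact ⟨hp.isFinite_a W hcov hW, hp.isPullback W hcov (fun k => (hW k).2.1), hb⟩

end S15945

end Groth.Agent.H9.PIN
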