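import Groth.Agent.Lib.Helper9.Misc.PIN17
set_option autoImplicit false
set_option linter.style.haveILetI false
set_option linter.unusedSectionVars false
set_option linter.unusedVariables false

namespace Groth.Agent.H9.PIN

open AlgebraicGeometry CategoryTheory Limits TopologicalSpace

universe u

section BaseChange

open TensorProduct

variable {R T A' B A A'₁ B₁ A₁ : Type*} [CommRing R] [CommRing T] [CommRing A'] [CommRing B]
  [CommRing A] [CommRing A'₁] [CommRing B₁] [CommRing A₁]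
  [Algebra R T]
  [Algebra R A'] [Algebra R B] [Algebra R A]
  [Algebra T A'₁] [Algebra T B₁] [Algebra T A₁]
  [Algebra R A'₁] [Algebra R B₁] [Algebra R A₁]
  [IsScalarTower R T A'₁] [IsScalarTower R T B₁] [IsScalarTower R T A₁]

/-- the map `r ↦ (α r, β r)`. -/
def pinchF (R A' B : Type*) [CommRing R] [CommRing A'] [CommRing B] [Algebra R A'] [Algebra R B] :
    R →ₗ[R] A' × B := (Algebra.linearMap R A').prod (Algebra.linearMap R B)

/-- the map `(a', b) ↦ p a' - q b`. -/
def pinchG (p : A' →ₐ[R] A) (q : B →ₐ[R] A) : A' × B →ₗ[R] A :=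
  p.toLinearMap.comp (LinearMap.fst R A' B) - q.toLinearMap.comp (LinearMap.snd R A' B)

theorem pinchG_apply (p : A' →ₐ[R] A) (q : B →ₐ[R] A) (x : A' × B) :
    pinchG p q x = p x.1 - q x.2 := rfl

theorem pinchF_apply (r : R) : pinchF R A' B r = (algebraMap R A' r, algebraMap R B r) := rfl

theorem RingPinch.exact_pinch (p : A' →ₐ[R] A) (q : B →ₐ[R] A)
    (h : RingPinch (algebraMap R A') (algebraMap R B) (p : A' →+* A) (q : B →+* A)) :
    Function.Exact (pinchF R A' B) (pinchG p q) := by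
  intro x
  constructor
  · intro hx
    rw [pinchG_apply, sub_eq_zero] at hx
    obtain ⟨r, h1, h2⟩ := h.glue x.1 x.2 hx
    exact ⟨r, Prod.ext h1 h2⟩
  · rintro ⟨r, rfl⟩
    rw [pinchG_apply, pinchF_apply, sub_eq_zero]
    exact h.comm r

theorem RingPinch.injective_pinchF (p : A' →ₐ[R] A) (q : B →ₐ[R] A)
    (h : RingPinch (algebraMap R A') (algebraMap R B) (p : A' →+* A) (q : B →+* A)) :
    Function.Injective (pinchF R A' B) := by
  rw [injective_iff_map_eq_zero]
  intro r hr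
  exact h.inj r (congrArg Prod.fst hr) (congrArg Prod.snd hr)

/-- **Base change of a ring pinching**, assuming the defining exact sequence stays exact. -/
theorem RingPinch.baseChange_of_exact (p : A' →ₐ[R] A) (q : B →ₐ[R] A)
    (h : RingPinch (algebraMap R A') (algebraMap R B) (p : A' →+* A) (q : B →+* A))
    (hexT : Function.Exact ((pinchF R A' B).lTensor T) ((pinchG p q).lTensor T))
    (hinjT : Function.Injective ((pinchF R A' B).lTensor T))
    (p₁ : A'₁ →ₐ[T] A₁) (q₁ : B₁ →ₐ[T] A₁)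
    (uA' : A' →ₗ[R] A'₁) (uB : B →ₗ[R] B₁) (uA : A →ₗ[R] A₁)
    (hA' : IsBaseChange T uA') (hB : IsBaseChange T uB) (hA : IsBaseChange T uA)
    (hp : ∀ x, p₁ (uA' x) = uA (p x)) (hq : ∀ y, q₁ (uB y) = uA (q y))
    (h1A' : uA' 1 = 1) (h1B : uB 1 = 1) :
    RingPinch (algebraMap T A'₁) (algebraMap T B₁) (p₁ : A'₁ →+* A₁) (q₁ : B₁ →+* A₁) := by
  set f := pinchF R A' B with hfdef
  set g := pinchG p q with hgdef
  have hg : ∀ x : A' × B, g x = p x.1 - q x.2 := fun x => rfl
  have hf : ∀ r : R, f r = (algebraMap R A' r, algebraMap R B r) := fun r => rfl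
  let Φ : T ⊗[R] (A' × B) ≃ₗ[R] A'₁ × B₁ :=
    (TensorProduct.prodRight R R T A' B).trans
      ((hA'.equiv.restrictScalars R).prodCongr (hB.equiv.restrictScalars R))
  let Ψ : T ⊗[R] A ≃ₗ[R] A₁ := hA.equiv.restrictScalars R
  have hΦ : ∀ (t : T) (x : A' × B), Φ (t ⊗ₜ x) = (t • uA' x.1, t • uB x.2) := fun t x => rfl
  have hΨ : ∀ (t : T) (x : A), Ψ (t ⊗ₜ x) = t • uA x := fun t x => rfl
  have hcompat : ∀ s : T ⊗[R] (A' × B), Ψ (g.lTensor T s) = p₁ (Φ s).1 - q₁ (Φ s).2 := by
    intro s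
    induction s using TensorProduct.induction_on with
    | zero => simp
    | tmul t x =>
      rw [LinearMap.lTensor_tmul, hΨ, hΦ, hg]
      simp only [map_smul, map_sub, smul_sub, hp, hq]
    | add s₁ s₂ h₁ h₂ =>
      rw [map_add, map_add, map_add, h₁, h₂]
      simp only [Prod.fst_add, Prod.snd_add, map_add]
      ring
  have hcompat2 : ∀ t : T, Φ (f.lTensor T (t ⊗ₜ (1 : R))) =
      (algebraMap T A'₁ t, algebraMap T B₁ t) := by
    intro t
    rw [LinearMap.lTensor_tmul, hΦ, hf]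
    simp only [map_one, h1A', h1B, Algebra.smul_def, mul_one]
  have hrid : ∀ w : T ⊗[R] R, w = (TensorProduct.rid R T w) ⊗ₜ (1 : R) := by
    intro w
    have : (TensorProduct.rid R T).symm (TensorProduct.rid R T w) = w :=
      LinearEquiv.symm_apply_apply _ _
    conv_lhs => rw [← this]
    rw [TensorProduct.rid_symm_apply]
  refine ⟨?_, ?_, ?_, ?_⟩
  · intro t
    change p₁ (algebraMap T A'₁ t) = q₁ (algebraMap T B₁ t)
    rw [AlgHom.commutes, AlgHom.commutes]
  · intro t h1 h2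
    have : Φ (f.lTensor T (t ⊗ₜ (1 : R))) = 0 := by
      rw [hcompat2, h1, h2]; rfl
    have h3 : f.lTensor T (t ⊗ₜ (1 : R)) = 0 := by
      rwa [LinearEquiv.map_eq_zero_iff] at this
    have h4 : t ⊗ₜ[R] (1 : R) = 0 := by
      apply hinjT
      rw [h3, map_zero]
    have h5 := congrArg (TensorProduct.rid R T) h4
    simpa using h5
  · intro x y hxy
    obtain ⟨s, hs⟩ := Φ.surjective (x, y)
    have h1 : Ψ (g.lTensor T s) = 0 := by
      rw [hcompat, hs]
      exact sub_eq_zero.mpr hxy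
    have h2 : g.lTensor T s = 0 := by
      rwa [LinearEquiv.map_eq_zero_iff] at h1
    obtain ⟨w, hw⟩ := (hexT s).mp h2
    rw [hrid w] at hw
    have h3 := hcompat2 (TensorProduct.rid R T w)
    rw [hw, hs] at h3
    exact ⟨TensorProduct.rid R T w, (congrArg Prod.fst h3).symm, (congrArg Prod.snd h3).symm⟩
  · intro z
    induction z using hA.inductionOn with
    | zero => exact ⟨0, map_zero _⟩
    | tmul m =>
      obtain ⟨a', ha'⟩ := h.surj m
      refine ⟨uA' a', ?_⟩
      change p₁ (uA' a') = uA m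
      rw [hp]
      congr 1
    | smul t n hn =>
      obtain ⟨x, hx⟩ := hn
      refine ⟨t • x, ?_⟩
      change p₁ (t • x) = t • n
      rw [map_smul]
      congr 1
    | add n₁ n₂ h₁ h₂ =>
      obtain ⟨x₁, hx₁⟩ := h₁
      obtain ⟨x₂, hx₂⟩ := h₂
      exact ⟨x₁ + x₂, by rw [map_add, hx₁, hx₂]⟩

/-- **Flat base change of a ring pinching.** -/
theorem RingPinch.baseChange [Module.Flat R T] (p : A' →ₐ[R] A) (q : B →ₐ[R] A)
    (h : RingPinch (algebraMap R A') (algebraMap R B) (p : A' →+* A) (q : B →+* A))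
    (p₁ : A'₁ →ₐ[T] A₁) (q₁ : B₁ →ₐ[T] A₁)
    (uA' : A' →ₗ[R] A'₁) (uB : B →ₗ[R] B₁) (uA : A →ₗ[R] A₁)
    (hA' : IsBaseChange T uA') (hB : IsBaseChange T uB) (hA : IsBaseChange T uA)
    (hp : ∀ x, p₁ (uA' x) = uA (p x)) (hq : ∀ y, q₁ (uB y) = uA (q y))
    (h1A' : uA' 1 = 1) (h1B : uB 1 = 1) :
    RingPinch (algebraMap T A'₁) (algebraMap T B₁) (p₁ : A'₁ →+* A₁) (q₁ : B₁ →+* A₁) :=
  h.baseChange_of_exact p q (Module.Flat.lTensor_exact T (h.exact_pinch p q))
    (Module.Flat.lTensor_preserves_injective_linearMap (M := T) _ (h.injective_pinchF p q))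
    p₁ q₁ uA' uB uA hA' hB hA hp hq h1A' h1B

end BaseChange

end Groth.Agent.H9.PIN
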