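import Groth.Agent.Lib.Helper9.Misc.PIN19
set_option autoImplicit false
set_option linter.style.haveILetI false
set_option linter.unusedSectionVars false
set_option linter.unusedVariables false

namespace Groth.Agent.H9.PIN

open AlgebraicGeometry CategoryTheory Limits TopologicalSpace

universe u

section Cat

variable {R A' B A T A'₁ B₁ A₁ : CommRingCat.{u}}
  {α : R ⟶ A'} {β : R ⟶ B} {p : A' ⟶ A} {q : B ⟶ A}
  {α₁ : T ⟶ A'₁} {β₁ : T ⟶ B₁} {p₁ : A'₁ ⟶ A₁} {q₁ : B₁ ⟶ A₁}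

/-- a pushout square in `CommRingCat` gives a base change of modules. -/
theorem isBaseChange_of_isPushout {R T S S' : CommRingCat.{u}} {ρ : R ⟶ T} {σ : R ⟶ S}
    {σ₁ : T ⟶ S'} {u : S ⟶ S'} (h : IsPushout ρ σ σ₁ u) :
    letI := ρ.hom.toAlgebra
    letI := σ.hom.toAlgebra
    letI := σ₁.hom.toAlgebra
    letI := u.hom.toAlgebra
    letI := (ρ ≫ σ₁).hom.toAlgebra
    ∃ (_ : IsScalarTower R T S') (_ : IsScalarTower R S S'),
      IsBaseChange T (IsScalarTower.toAlgHom R S S').toLinearMap := by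
  letI := ρ.hom.toAlgebra
  letI := σ.hom.toAlgebra
  letI := σ₁.hom.toAlgebra
  letI := u.hom.toAlgebra
  letI := (ρ ≫ σ₁).hom.toAlgebra
  have h1 : IsScalarTower R T S' := .of_algebraMap_eq' rfl
  have h2 : IsScalarTower R S S' := .of_algebraMap_eq' (congr(($h.w).hom))
  refine ⟨h1, h2, ?_⟩
  have : Algebra.IsPushout R T S S' := CommRingCat.isPushout_iff_isPushout.mp h
  exact this.out

/-- **Flat base change of a ring pinching**, categorical form. -/
theorem RingPinch.baseChange_cat (ρ : R ⟶ T) (uA' : A' ⟶ A'₁) (uB : B ⟶ B₁) (uA : A ⟶ A₁)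
    (h : RingPinch α.hom β.hom p.hom q.hom) (hflat : ρ.hom.Flat)
    (hA' : IsPushout ρ α α₁ uA') (hB : IsPushout ρ β β₁ uB)
    (hA : IsPushout ρ (α ≫ p) (α₁ ≫ p₁) uA)
    (hp : uA' ≫ p₁ = p ≫ uA) (hq : uB ≫ q₁ = q ≫ uA) (hcomm : α₁ ≫ p₁ = β₁ ≫ q₁) :
    RingPinch α₁.hom β₁.hom p₁.hom q₁.hom := by
  letI := ρ.hom.toAlgebra
  letI := α.hom.toAlgebra
  letI := β.hom.toAlgebra
  letI := (α ≫ p).hom.toAlgebra
  letI := α₁.hom.toAlgebra
  letI := β₁.hom.toAlgebra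
  letI := (α₁ ≫ p₁).hom.toAlgebra
  letI := uA'.hom.toAlgebra
  letI := uB.hom.toAlgebra
  letI := uA.hom.toAlgebra
  letI := (ρ ≫ α₁).hom.toAlgebra
  letI := (ρ ≫ β₁).hom.toAlgebra
  letI := (ρ ≫ α₁ ≫ p₁).hom.toAlgebra
  haveI : Module.Flat R T := hflat
  obtain ⟨t1, t1', bA'⟩ := isBaseChange_of_isPushout hA'
  obtain ⟨t2, t2', bB⟩ := isBaseChange_of_isPushout hB
  obtain ⟨t3, t3', bA⟩ := isBaseChange_of_isPushout hA
  let pa : A' →ₐ[R] A := { p.hom with commutes' := fun r => rfl }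
  let qa : B →ₐ[R] A := { q.hom with commutes' := fun r => (h.comm r).symm }
  let p₁a : A'₁ →ₐ[T] A₁ := { p₁.hom with commutes' := fun r => rfl }
  let q₁a : B₁ →ₐ[T] A₁ := { q₁.hom with commutes' := fun r => (congr($hcomm r)).symm }
  have := RingPinch.baseChange (R := R) (T := T) pa qa h p₁a q₁a
    (IsScalarTower.toAlgHom R A' A'₁).toLinearMap (IsScalarTower.toAlgHom R B B₁).toLinearMap
    (IsScalarTower.toAlgHom R A A₁).toLinearMap bA' bB bA
    (fun x => congr($hp x)) (fun y => congr($hq y)) (map_one uA'.hom) (map_one uB.hom)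
  exact this

end Cat

end Groth.Agent.H9.PIN
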