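import Groth.Agent.Lib.Helper9.Misc.PIN21
set_option autoImplicit false
set_option linter.style.haveILetI false
set_option linter.unusedSectionVars false
set_option linter.unusedVariables false

namespace Groth.Agent.H9.PIN

open AlgebraicGeometry CategoryTheory Limits TopologicalSpace

universe u

variable {X T Z P F : Scheme.{u}}

/-- flat base change of a pushout along a closed immersion, in `Over.pullback` form. -/
theorem isPushout_overPullback_of_flat (ι : Z ⟶ X) (ξ : Z ⟶ T) [IsClosedImmersion ι]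
    (a : X ⟶ P) (b : T ⟶ P) (hcovY : ∀ y : T, ∃ k : CPair ι ξ, y ∈ k.V)
    (hP : IsPushout ι ξ a b) (q : F ⟶ P) [Flat q] :
    IsPushout ((Over.pullback q).map (Over.homMk ι rfl : Over.mk (ι ≫ a) ⟶ Over.mk a)).left
      ((Over.pullback q).map (Over.homMk ξ hP.w.symm : Over.mk (ι ≫ a) ⟶ Over.mk b)).left
      ((Over.pullback q).obj (Over.mk a)).hom ((Over.pullback q).obj (Over.mk b)).hom := by
  obtain ⟨hp, W, hW, hcov⟩ := isPinch_of_isPushout hcovY hP
  have hX : IsPullback (pullback.fst a q) (pullback.snd a q) a q := IsPullback.of_hasPullback a q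
  have hY : IsPullback (pullback.fst b q) (pullback.snd b q) b q := IsPullback.of_hasPullback b q
  have hZbig : IsPullback (pullback.fst (ι ≫ a) q) (pullback.snd (ι ≫ a) q) (ι ≫ a) q :=
    IsPullback.of_hasPullback (ι ≫ a) q
  set iF := ((Over.pullback q).map (Over.homMk ι rfl : Over.mk (ι ≫ a) ⟶ Over.mk a)).left with hiF
  set jF := ((Over.pullback q).map (Over.homMk ξ hP.w.symm : Over.mk (ι ≫ a) ⟶ Over.mk b)).left
    with hjF
  have hiF1 : iF ≫ pullback.fst a q = pullback.fst (ι ≫ a) q ≫ ι :=
    pullback.lift_fst _ _ _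
  have hiF2 : iF ≫ pullback.snd a q = pullback.snd (ι ≫ a) q :=
    pullback.lift_snd _ _ _
  have hjF1 : jF ≫ pullback.fst b q = pullback.fst (ι ≫ a) q ≫ ξ :=
    pullback.lift_fst _ _ _
  have hjF2 : jF ≫ pullback.snd b q = pullback.snd (ι ≫ a) q :=
    pullback.lift_snd _ _ _
  have hZ : IsPullback (pullback.fst (ι ≫ a) q) iF ι (pullback.fst a q) := by
    refine (IsPullback.of_right ?_ hiF1 hX.flip).flip
    rw [hiF2]
    exact hZbig.flip
  have := hp.flat_baseChange W hcov hW q (pullback.fst a q) (pullback.snd a q) hX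
    (pullback.fst b q) (pullback.snd b q) hY (pullback.fst (ι ≫ a) q) iF hZ jF hjF1
    (by rw [hiF2, hjF2])
  exact this.isPushout

end Groth.Agent.H9.PIN
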