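import Groth.Agent.Lib.Helper9.Misc.PIN22
set_option autoImplicit false
set_option linter.style.haveILetI false
set_option linter.unusedSectionVars false
set_option linter.unusedVariables false

namespace Groth.Agent.H9.PIN

open AlgebraicGeometry CategoryTheory Limits TopologicalSpace

universe u

section OverPullback

variable {S S' : Scheme.{u}} (g : S' ⟶ S)

/-- the naturality squares of `Over.pullback g` are cartesian. -/
theorem isPullback_overPullback_map {A B : Over S} (φ : A ⟶ B) :
    IsPullback (pullback.fst A.hom g) ((Over.pullback g).map φ).left φ.left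
      (pullback.fst B.hom g) := by
  have h1 : ((Over.pullback g).map φ).left ≫ pullback.fst B.hom g =
      pullback.fst A.hom g ≫ φ.left := pullback.lift_fst _ _ _
  have h2 : ((Over.pullback g).map φ).left ≫ pullback.snd B.hom g = pullback.snd A.hom g :=
    pullback.lift_snd _ _ _
  refine (IsPullback.of_right ?_ h1 (IsPullback.of_hasPullback B.hom g).flip).flip
  rw [h2, Over.w φ]
  exact (IsPullback.of_hasPullback A.hom g).flip

end OverPullback

section S16045

theorem S16045_main {S S' : Scheme.{u}} (g : S' ⟶ S) [Flat g]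
    {Y X₁ X₂ X : Over S} (θ₁ : Y ⟶ X₁) (θ₂ : Y ⟶ X₂) [IsClosedImmersion θ₁.left]
    [IsClosedImmersion θ₂.left]
    (φ₁ : X₁ ⟶ X) (φ₂ : X₂ ⟶ X) (hX : IsPushout θ₁ θ₂ φ₁ φ₂) :
    IsPushout ((Over.pullback g).map θ₁) ((Over.pullback g).map θ₂)
      ((Over.pullback g).map φ₁) ((Over.pullback g).map φ₂) := by
  -- (A) the pushout downstairs in schemes
  have hcovY := exists_cpair_of_closedImmersions θ₁.left θ₂.left
  obtain ⟨P₀, a₀, b₀, hp₀, -⟩ := exists_isPinch hcovY
  haveI : HasPushout θ₁.left θ₂.left := hp₀.isPushout.hasPushout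
  haveI : HasColimit (span ((Over.forget S).map θ₁) ((Over.forget S).map θ₂)) :=
    inferInstanceAs (HasPushout θ₁.left θ₂.left)
  haveI : HasColimit (span θ₁ θ₂ ⋙ Over.forget S) :=
    hasColimit_of_iso (spanCompIso (Over.forget S) θ₁ θ₂)
  have hA : IsPushout θ₁.left θ₂.left φ₁.left φ₂.left := hX.map (Over.forget S)
  obtain ⟨hp, W, hW, hcov⟩ := isPinch_of_isPushout hcovY hA
  -- (C) base change
  haveI : Flat (pullback.fst X.hom g) := MorphismProperty.pullback_fst _ _ inferInstance
  have hw : ((Over.pullback g).map θ₁).left ≫ ((Over.pullback g).map φ₁).left =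
      ((Over.pullback g).map θ₂).left ≫ ((Over.pullback g).map φ₂).left := by
    rw [← Over.comp_left, ← Over.comp_left, ← Functor.map_comp, ← Functor.map_comp, hX.w]
  have hpF := hp.flat_baseChange W hcov hW (pullback.fst X.hom g)
    (pullback.fst X₁.hom g) ((Over.pullback g).map φ₁).left (isPullback_overPullback_map g φ₁)
    (pullback.fst X₂.hom g) ((Over.pullback g).map φ₂).left (isPullback_overPullback_map g φ₂)
    (pullback.fst Y.hom g) ((Over.pullback g).map θ₁).left (isPullback_overPullback_map g θ₁)
    ((Over.pullback g).map θ₂).left (pullback.lift_fst _ _ _) hw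
  -- (E) lift to `Over S'`
  refine IsPushout.of_map (Over.forget S') ?_ hpF.isPushout
  rw [← Functor.map_comp, ← Functor.map_comp, hX.w]

end S16045

end Groth.Agent.H9.PIN
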