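import Groth.Agent.Lib.Helper9.Misc.PIN23
set_option autoImplicit false
set_option linter.style.haveILetI false
set_option linter.unusedSectionVars false
set_option linter.unusedVariables false

namespace Groth.Agent.H9.PIN

open AlgebraicGeometry CategoryTheory Limits TopologicalSpace

universe u

section Rel

open TensorProduct

variable {O O' R A' B A R₁ A'₁ B₁ A₁ : Type*} [CommRing O] [CommRing O'] [CommRing R]
  [CommRing A'] [CommRing B] [CommRing A] [CommRing R₁] [CommRing A'₁] [CommRing B₁] [CommRing A₁]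
  [Algebra O O'] [Algebra O R] [Algebra O A'] [Algebra O B] [Algebra O A]
  [Algebra O' R₁] [Algebra O' A'₁] [Algebra O' B₁] [Algebra O' A₁]
  [Algebra O R₁] [Algebra O A'₁] [Algebra O B₁] [Algebra O A₁]
  [IsScalarTower O O' R₁] [IsScalarTower O O' A'₁] [IsScalarTower O O' B₁] [IsScalarTower O O' A₁]

/-- the map `r ↦ (α r, β r)`, relative version. -/
def relF (α : R →ₐ[O] A') (β : R →ₐ[O] B) : R →ₗ[O] A' × B := α.toLinearMap.prod β.toLinearMap

/-- the map `(a', b) ↦ p a' - q b`, relative version. -/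
def relG (p : A' →ₐ[O] A) (q : B →ₐ[O] A) : A' × B →ₗ[O] A :=
  p.toLinearMap.comp (LinearMap.fst O A' B) - q.toLinearMap.comp (LinearMap.snd O A' B)

theorem relF_apply (α : R →ₐ[O] A') (β : R →ₐ[O] B) (r : R) : relF α β r = (α r, β r) := rfl

theorem relG_apply (p : A' →ₐ[O] A) (q : B →ₐ[O] A) (x : A' × B) :
    relG p q x = p x.1 - q x.2 := rfl

theorem RingPinch.exact_rel (α : R →ₐ[O] A') (β : R →ₐ[O] B) (p : A' →ₐ[O] A) (q : B →ₐ[O] A)
    (h : RingPinch (α : R →+* A') (β : R →+* B) (p : A' →+* A) (q : B →+* A)) :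
    Function.Exact (relF α β) (relG p q) := by
  intro x
  constructor
  · intro hx
    rw [relG_apply, sub_eq_zero] at hx
    obtain ⟨r, h1, h2⟩ := h.glue x.1 x.2 hx
    exact ⟨r, Prod.ext h1 h2⟩
  · rintro ⟨r, rfl⟩
    rw [relG_apply, relF_apply, sub_eq_zero]
    exact h.comm r

theorem RingPinch.injective_relF (α : R →ₐ[O] A') (β : R →ₐ[O] B) (p : A' →ₐ[O] A)
    (q : B →ₐ[O] A)
    (h : RingPinch (α : R →+* A') (β : R →+* B) (p : A' →+* A) (q : B →+* A)) :
    Function.Injective (relF α β) := by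
  rw [injective_iff_map_eq_zero]
  intro r hr
  exact h.inj r (congrArg Prod.fst hr) (congrArg Prod.snd hr)

theorem RingPinch.surjective_relG (α : R →ₐ[O] A') (β : R →ₐ[O] B) (p : A' →ₐ[O] A)
    (q : B →ₐ[O] A)
    (h : RingPinch (α : R →+* A') (β : R →+* B) (p : A' →+* A) (q : B →+* A)) :
    Function.Surjective (relG p q) := by
  intro z
  obtain ⟨x, hx⟩ := h.surj z
  exact ⟨(x, 0), by rw [relG_apply]; simpa using hx⟩

/-- **Base change of a ring pinching** relative to a base ring `O`, assuming the defining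
sequence stays exact after tensoring with `O'`. -/
theorem RingPinch.baseChange_rel_of_exact (α : R →ₐ[O] A') (β : R →ₐ[O] B) (p : A' →ₐ[O] A)
    (q : B →ₐ[O] A)
    (h : RingPinch (α : R →+* A') (β : R →+* B) (p : A' →+* A) (q : B →+* A))
    (hexT : Function.Exact ((relF α β).lTensor O') ((relG p q).lTensor O'))
    (hinjT : Function.Injective ((relF α β).lTensor O'))
    (α₁ : R₁ →ₐ[O'] A'₁) (β₁ : R₁ →ₐ[O'] B₁) (p₁ : A'₁ →ₐ[O'] A₁) (q₁ : B₁ →ₐ[O'] A₁)
    (uR : R →ₗ[O] R₁) (uA' : A' →ₗ[O] A'₁) (uB : B →ₗ[O] B₁) (uA : A →ₗ[O] A₁)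
    (hR : IsBaseChange O' uR) (hA' : IsBaseChange O' uA') (hB : IsBaseChange O' uB)
    (hA : IsBaseChange O' uA)
    (cα : ∀ r, α₁ (uR r) = uA' (α r)) (cβ : ∀ r, β₁ (uR r) = uB (β r))
    (cp : ∀ x, p₁ (uA' x) = uA (p x)) (cq : ∀ y, q₁ (uB y) = uA (q y))
    (hcomm : ∀ x, p₁ (α₁ x) = q₁ (β₁ x)) :
    RingPinch (α₁ : R₁ →+* A'₁) (β₁ : R₁ →+* B₁) (p₁ : A'₁ →+* A₁) (q₁ : B₁ →+* A₁) := by
  set f := relF α β with hfdef
  set g := relG p q with hgdef
  have hg : ∀ x : A' × B, g x = p x.1 - q x.2 := fun x => rfl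
  have hf : ∀ r : R, f r = (α r, β r) := fun r => rfl
  let Θ : O' ⊗[O] R ≃ₗ[O] R₁ := hR.equiv.restrictScalars O
  let Φ : O' ⊗[O] (A' × B) ≃ₗ[O] A'₁ × B₁ :=
    (TensorProduct.prodRight O O O' A' B).trans
      ((hA'.equiv.restrictScalars O).prodCongr (hB.equiv.restrictScalars O))
  let Ψ : O' ⊗[O] A ≃ₗ[O] A₁ := hA.equiv.restrictScalars O
  have hΘ : ∀ (t : O') (x : R), Θ (t ⊗ₜ x) = t • uR x := fun t x => rfl
  have hΦ : ∀ (t : O') (x : A' × B), Φ (t ⊗ₜ x) = (t • uA' x.1, t • uB x.2) := fun t x => rfl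
  have hΨ : ∀ (t : O') (x : A), Ψ (t ⊗ₜ x) = t • uA x := fun t x => rfl
  have hcompat : ∀ s : O' ⊗[O] (A' × B), Ψ (g.lTensor O' s) = p₁ (Φ s).1 - q₁ (Φ s).2 := by
    intro s
    induction s using TensorProduct.induction_on with
    | zero => simp
    | tmul t x =>
      rw [LinearMap.lTensor_tmul, hΨ, hΦ, hg]
      simp only [map_smul, map_sub, smul_sub, cp, cq]
    | add s₁ s₂ h₁ h₂ =>
      rw [map_add, map_add, map_add, h₁, h₂]
      simp only [Prod.fst_add, Prod.snd_add, map_add]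
      ring
  have hcompat2 : ∀ w : O' ⊗[O] R, Φ (f.lTensor O' w) = (α₁ (Θ w), β₁ (Θ w)) := by
    intro w
    induction w using TensorProduct.induction_on with
    | zero => simp only [map_zero]; rfl
    | tmul t x =>
      rw [LinearMap.lTensor_tmul, hΦ, hf, hΘ]
      simp only [map_smul, cα, cβ]
    | add s₁ s₂ h₁ h₂ =>
      rw [map_add, map_add, map_add, h₁, h₂]
      simp only [map_add, Prod.mk_add_mk]
  refine ⟨?_, ?_, ?_, ?_⟩
  · exact hcomm
  · intro x h1 h2
    obtain ⟨w, rfl⟩ := Θ.surjective x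
    have : Φ (f.lTensor O' w) = 0 := by
      rw [hcompat2]
      exact Prod.ext h1 h2
    have h3 : f.lTensor O' w = 0 := by
      rwa [LinearEquiv.map_eq_zero_iff] at this
    have h4 : w = 0 := hinjT (by rw [h3, map_zero])
    rw [h4, map_zero]
  · intro x y hxy
    obtain ⟨s, hs⟩ := Φ.surjective (x, y)
    have h1 : Ψ (g.lTensor O' s) = 0 := by
      rw [hcompat, hs]
      exact sub_eq_zero.mpr hxy
    have h2 : g.lTensor O' s = 0 := by
      rwa [LinearEquiv.map_eq_zero_iff] at h1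
    obtain ⟨w, hw⟩ := (hexT s).mp h2
    have h3 := hcompat2 w
    rw [hw, hs] at h3
    exact ⟨Θ w, (congrArg Prod.fst h3).symm, (congrArg Prod.snd h3).symm⟩
  · intro z
    induction z using hA.inductionOn with
    | zero => exact ⟨0, map_zero _⟩
    | tmul m =>
      obtain ⟨a', ha'⟩ := h.surj m
      refine ⟨uA' a', ?_⟩
      change p₁ (uA' a') = uA m
      rw [cp]
      congr 1
    | smul t n hn =>
      obtain ⟨x, hx⟩ := hn
      refine ⟨t • x, ?_⟩
      change p₁ (t • x) = t • n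
      rw [map_smul]
      congr 1
    | add n₁ n₂ h₁ h₂ =>
      obtain ⟨x₁, hx₁⟩ := h₁
      obtain ⟨x₂, hx₂⟩ := h₂
      exact ⟨x₁ + x₂, by rw [map_add, hx₁, hx₂]⟩

/-- **Base change of a ring pinching** relative to `O` when `A` is flat over `O`. -/
theorem RingPinch.baseChange_rel_of_flat [Module.Flat O A]
    (α : R →ₐ[O] A') (β : R →ₐ[O] B) (p : A' →ₐ[O] A) (q : B →ₐ[O] A)
    (h : RingPinch (α : R →+* A') (β : R →+* B) (p : A' →+* A) (q : B →+* A))
    (α₁ : R₁ →ₐ[O'] A'₁) (β₁ : R₁ →ₐ[O'] B₁) (p₁ : A'₁ →ₐ[O'] A₁) (q₁ : B₁ →ₐ[O'] A₁)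
    (uR : R →ₗ[O] R₁) (uA' : A' →ₗ[O] A'₁) (uB : B →ₗ[O] B₁) (uA : A →ₗ[O] A₁)
    (hR : IsBaseChange O' uR) (hA' : IsBaseChange O' uA') (hB : IsBaseChange O' uB)
    (hA : IsBaseChange O' uA)
    (cα : ∀ r, α₁ (uR r) = uA' (α r)) (cβ : ∀ r, β₁ (uR r) = uB (β r))
    (cp : ∀ x, p₁ (uA' x) = uA (p x)) (cq : ∀ y, q₁ (uB y) = uA (q y))
    (hcomm : ∀ x, p₁ (α₁ x) = q₁ (β₁ x)) :
    RingPinch (α₁ : R₁ →+* A'₁) (β₁ : R₁ →+* B₁) (p₁ : A'₁ →+* A₁) (q₁ : B₁ →+* A₁) := by
  have hex := h.exact_rel α β p q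
  have hinj := h.injective_relF α β p q
  have hsurj := h.surjective_relG α β p q
  exact h.baseChange_rel_of_exact α β p q (lTensor_exact O' hex hsurj)
    (LinearMap.lTensor_injective_of_exact_of_flat (relG p q) hsurj (relF α β) hinj hex O')
    α₁ β₁ p₁ q₁ uR uA' uB uA hR hA' hB hA cα cβ cp cq hcomm

theorem flat_prod (O M N : Type*) [CommRing O] [AddCommGroup M] [AddCommGroup N] [Module O M]
    [Module O N] [Module.Flat O M] [Module.Flat O N] : Module.Flat O (M × N) := by
  rw [Module.Flat.iff_rTensor_preserves_injective_linearMap]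
  intro Q Q' _ _ _ _ ψ hψ
  have h1 : Function.Injective (ψ.rTensor M) :=
    Module.Flat.rTensor_preserves_injective_linearMap ψ hψ
  have h2 : Function.Injective (ψ.rTensor N) :=
    Module.Flat.rTensor_preserves_injective_linearMap ψ hψ
  have h3 : (TensorProduct.prodRight O O Q' M N).toLinearMap.comp (ψ.rTensor (M × N)) =
      ((ψ.rTensor M).prodMap (ψ.rTensor N)).comp
        (TensorProduct.prodRight O O Q M N).toLinearMap := by
    ext q m
    · simp
    · simp
    · simp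
    · simp
  have h4 : Function.Injective ((TensorProduct.prodRight O O Q' M N).toLinearMap.comp
      (ψ.rTensor (M × N))) := by
    rw [h3]
    exact (Function.Injective.prodMap h1 h2).comp (TensorProduct.prodRight O O Q M N).injective
  exact Function.Injective.of_comp h4

/-- kernels of surjections of flat modules onto flat modules are flat; here: `R` is flat over `O`
when `A'`, `B` and `A` are. -/
theorem RingPinch.flat_of_flat [Module.Flat O A'] [Module.Flat O B] [Module.Flat O A]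
    (α : R →ₐ[O] A') (β : R →ₐ[O] B) (p : A' →ₐ[O] A) (q : B →ₐ[O] A)
    (h : RingPinch (α : R →+* A') (β : R →+* B) (p : A' →+* A) (q : B →+* A)) :
    Module.Flat O R := by
  have hex := h.exact_rel α β p q
  have hinj := h.injective_relF α β p q
  have hsurj := h.surjective_relG α β p q
  haveI : Module.Flat O (A' × B) := flat_prod O A' B
  rw [Module.Flat.iff_rTensor_preserves_injective_linearMap]
  intro N N' _ _ _ _ ψ hψ
  have h1 : Function.Injective ((relF α β).lTensor N) :=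
    LinearMap.lTensor_injective_of_exact_of_flat (relG p q) hsurj (relF α β) hinj hex N
  have h2 : Function.Injective (ψ.rTensor (A' × B)) :=
    Module.Flat.rTensor_preserves_injective_linearMap ψ hψ
  have h3 : ((relF α β).lTensor N').comp (ψ.rTensor R) =
      (ψ.rTensor (A' × B)).comp ((relF α β).lTensor N) := by
    ext n r
    simp
  have h4 : Function.Injective (((relF α β).lTensor N').comp (ψ.rTensor R)) := by
    rw [h3]
    exact h2.comp h1
  exact Function.Injective.of_comp h4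

end Rel

end Groth.Agent.H9.PIN
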