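import Groth.Agent.Lib.Helper9.Misc.PIN24
set_option autoImplicit false
set_option linter.style.haveILetI false
set_option linter.unusedSectionVars false
set_option linter.unusedVariables false

namespace Groth.Agent.H9.PIN

open AlgebraicGeometry CategoryTheory Limits TopologicalSpace

universe u

section Cat

variable {O O' R A' B A R₁ A'₁ B₁ A₁ : CommRingCat.{u}}
  {α : R ⟶ A'} {β : R ⟶ B} {p : A' ⟶ A} {q : B ⟶ A}
  {α₁ : R₁ ⟶ A'₁} {β₁ : R₁ ⟶ B₁} {p₁ : A'₁ ⟶ A₁} {q₁ : B₁ ⟶ A₁}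

/-- **Base change of a ring pinching relative to `O`** when `A` is `O`-flat, categorical form. -/
theorem RingPinch.baseChange_rel_cat (σ : O ⟶ R) (τ : O ⟶ O') (σ₁ : O' ⟶ R₁)
    (uR : R ⟶ R₁) (uA' : A' ⟶ A'₁) (uB : B ⟶ B₁) (uA : A ⟶ A₁)
    (h : RingPinch α.hom β.hom p.hom q.hom) (hflat : (σ ≫ α ≫ p).hom.Flat)
    (hR : IsPushout τ σ σ₁ uR) (hA' : IsPushout τ (σ ≫ α) (σ₁ ≫ α₁) uA')
    (hB : IsPushout τ (σ ≫ β) (σ₁ ≫ β₁) uB)
    (hA : IsPushout τ (σ ≫ α ≫ p) (σ₁ ≫ α₁ ≫ p₁) uA)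
    (cα : uR ≫ α₁ = α ≫ uA') (cβ : uR ≫ β₁ = β ≫ uB) (cp : uA' ≫ p₁ = p ≫ uA)
    (cq : uB ≫ q₁ = q ≫ uA) (hcomm : α₁ ≫ p₁ = β₁ ≫ q₁) :
    RingPinch α₁.hom β₁.hom p₁.hom q₁.hom := by
  letI := τ.hom.toAlgebra
  letI := σ.hom.toAlgebra
  letI := (σ ≫ α).hom.toAlgebra
  letI := (σ ≫ β).hom.toAlgebra
  letI := (σ ≫ α ≫ p).hom.toAlgebra
  letI := σ₁.hom.toAlgebra
  letI := (σ₁ ≫ α₁).hom.toAlgebra
  letI := (σ₁ ≫ β₁).hom.toAlgebra
  letI := (σ₁ ≫ α₁ ≫ p₁).hom.toAlgebra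
  letI := uR.hom.toAlgebra
  letI := uA'.hom.toAlgebra
  letI := uB.hom.toAlgebra
  letI := uA.hom.toAlgebra
  letI := (τ ≫ σ₁).hom.toAlgebra
  letI := (τ ≫ σ₁ ≫ α₁).hom.toAlgebra
  letI := (τ ≫ σ₁ ≫ β₁).hom.toAlgebra
  letI := (τ ≫ σ₁ ≫ α₁ ≫ p₁).hom.toAlgebra
  haveI : Module.Flat O A := hflat
  obtain ⟨t0, t0', bR⟩ := isBaseChange_of_isPushout hR
  obtain ⟨t1, t1', bA'⟩ := isBaseChange_of_isPushout hA'
  obtain ⟨t2, t2', bB⟩ := isBaseChange_of_isPushout hB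
  obtain ⟨t3, t3', bA⟩ := isBaseChange_of_isPushout hA
  let αa : R →ₐ[O] A' := { α.hom with commutes' := fun r => rfl }
  let βa : R →ₐ[O] B := { β.hom with commutes' := fun r => rfl }
  let pa : A' →ₐ[O] A := { p.hom with commutes' := fun r => rfl }
  let qa : B →ₐ[O] A := { q.hom with commutes' := fun r => (h.comm (σ r)).symm }
  let α₁a : R₁ →ₐ[O'] A'₁ := { α₁.hom with commutes' := fun r => rfl }
  let β₁a : R₁ →ₐ[O'] B₁ := { β₁.hom with commutes' := fun r => rfl }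
  let p₁a : A'₁ →ₐ[O'] A₁ := { p₁.hom with commutes' := fun r => rfl }
  let q₁a : B₁ →ₐ[O'] A₁ :=
    { q₁.hom with commutes' := fun r => (congr($hcomm (σ₁ r))).symm }
  have := RingPinch.baseChange_rel_of_flat (O := O) (O' := O') αa βa pa qa h α₁a β₁a p₁a q₁a
    (IsScalarTower.toAlgHom O R R₁).toLinearMap (IsScalarTower.toAlgHom O A' A'₁).toLinearMap
    (IsScalarTower.toAlgHom O B B₁).toLinearMap (IsScalarTower.toAlgHom O A A₁).toLinearMap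
    bR bA' bB bA
    (fun r => congr($cα r)) (fun r => congr($cβ r))
    (fun x => congr($cp x)) (fun y => congr($cq y)) (fun x => congr($hcomm x))
  exact this

/-- flatness of the pinched ring over a base, categorical form. -/
theorem RingPinch.flat_cat (σ : O ⟶ R) (h : RingPinch α.hom β.hom p.hom q.hom)
    (hA' : (σ ≫ α).hom.Flat) (hB : (σ ≫ β).hom.Flat) (hA : (σ ≫ α ≫ p).hom.Flat) :
    σ.hom.Flat := by
  letI := σ.hom.toAlgebra
  letI := (σ ≫ α).hom.toAlgebra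
  letI := (σ ≫ β).hom.toAlgebra
  letI := (σ ≫ α ≫ p).hom.toAlgebra
  haveI : Module.Flat O A' := hA'
  haveI : Module.Flat O B := hB
  haveI : Module.Flat O A := hA
  let αa : R →ₐ[O] A' := { α.hom with commutes' := fun r => rfl }
  let βa : R →ₐ[O] B := { β.hom with commutes' := fun r => rfl }
  let pa : A' →ₐ[O] A := { p.hom with commutes' := fun r => rfl }
  let qa : B →ₐ[O] A := { q.hom with commutes' := fun r => (h.comm (σ r)).symm }
  exact RingPinch.flat_of_flat (O := O) αa βa pa qa h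

end Cat

end Groth.Agent.H9.PIN
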