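import Groth.Agent.Lib.Helper9.Misc.PIN25
set_option autoImplicit false
set_option linter.style.haveILetI false
set_option linter.unusedSectionVars false
set_option linter.unusedVariables false

namespace Groth.Agent.H9.PIN

open AlgebraicGeometry CategoryTheory Limits TopologicalSpace

universe u

variable {X Y Z P S T PT XT YT ZT : Scheme.{u}} {i : Z ⟶ X} {j : Z ⟶ Y} {a : X ⟶ P} {b : Y ⟶ P}

/-- the fibre product of affine opens is an affine open of the fibre product. -/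
theorem isAffineOpen_of_isPullback {P S T PT : Scheme.{u}} {s : P ⟶ S} {g : T ⟶ S}
    {pP : PT ⟶ P} {sT : PT ⟶ T} (hPT : IsPullback pP sT s g) {O : S.Opens} {OT : T.Opens}
    {W : P.Opens} (hO : IsAffineOpen O) (hOT : IsAffineOpen OT) (hW : IsAffineOpen W)
    (h1 : OT ≤ g ⁻¹ᵁ O) (h2 : W ≤ s ⁻¹ᵁ O) : IsAffineOpen (pP ⁻¹ᵁ W ⊓ sT ⁻¹ᵁ OT) := by
  haveI : IsAffine O.toScheme := hO
  haveI : IsAffine OT.toScheme := hOT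
  haveI : IsAffine W.toScheme := hW
  have := Scheme.Hom.isPullback_resLE hPT h1 h2 (UY := pP ⁻¹ᵁ W ⊓ sT ⁻¹ᵁ OT) rfl
  exact IsAffine.of_isPullback this

/-- **Base change of a pinching over a base `S`** along an arbitrary `T ⟶ S`, when `Z` is flat
over `S`. -/
theorem IsPinch.baseChange_of_flat (hp : IsPinch i j a b) [IsClosedImmersion i]
    {ι : Type*} (𝒲 : ι → P.Opens) (hcov : ∀ p : P, ∃ k, p ∈ 𝒲 k)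
    (h𝒲 : ∀ k, IsAffineOpen (𝒲 k) ∧ IsAffineOpen (a ⁻¹ᵁ 𝒲 k) ∧ IsAffineOpen (b ⁻¹ᵁ 𝒲 k))
    (s : P ⟶ S) [Flat (i ≫ a ≫ s)] (g : T ⟶ S)
    (pP : PT ⟶ P) (sT : PT ⟶ T) (hPT : IsPullback pP sT s g)
    (pX : XT ⟶ X) (aT : XT ⟶ PT) (hX : IsPullback pX aT a pP)
    (pY : YT ⟶ Y) (bT : YT ⟶ PT) (hY : IsPullback pY bT b pP)
    (pZ : ZT ⟶ Z) (iT : ZT ⟶ XT) (hZ : IsPullback pZ iT i pX)
    (jT : ZT ⟶ YT) (hj₁ : jT ≫ pY = pZ ≫ j) (hj₂ : iT ≫ aT = jT ≫ bT) :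
    IsPinch iT jT aT bT := by
  haveI : IsAffineHom a := isAffineHom_of_forall_exists_isAffineOpen a (fun p => by
    obtain ⟨k, hk⟩ := hcov p
    exact ⟨𝒲 k, hk, (h𝒲 k).1, (h𝒲 k).2.1⟩)
  haveI : IsAffineHom b := isAffineHom_of_forall_exists_isAffineOpen b (fun p => by
    obtain ⟨k, hk⟩ := hcov p
    exact ⟨𝒲 k, hk, (h𝒲 k).1, (h𝒲 k).2.2⟩)
  haveI : IsAffineHom aT := MorphismProperty.of_isPullback (P := @IsAffineHom) hX inferInstance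
  haveI : IsAffineHom bT := MorphismProperty.of_isPullback (P := @IsAffineHom) hY inferInstance
  haveI : IsClosedImmersion iT :=
    MorphismProperty.of_isPullback (P := @IsClosedImmersion) hZ inferInstance
  refine IsPinch.of_affine_cover hj₂
    (ι := Σ k : ι, {d : Γ(P, 𝒲 k) × S.Opens × T.Opens // IsAffineOpen d.2.1 ∧
      IsAffineOpen d.2.2 ∧ P.basicOpen d.1 ≤ s ⁻¹ᵁ d.2.1 ∧ d.2.2 ≤ g ⁻¹ᵁ d.2.1})
    (fun idx => pP ⁻¹ᵁ P.basicOpen idx.2.1.1 ⊓ sT ⁻¹ᵁ idx.2.1.2.2) ?_ ?_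
  · intro φ
    obtain ⟨k, hk⟩ := hcov (pP φ)
    obtain ⟨_, ⟨O, hO, rfl⟩, hφO, -⟩ :=
      S.isBasis_affineOpens.exists_subset_of_mem_open (Set.mem_univ (s (pP φ))) isOpen_univ
    obtain ⟨r, hr₁, hr₂⟩ := (h𝒲 k).1.exists_basicOpen_le (V := s ⁻¹ᵁ O ⊓ 𝒲 k)
      ⟨pP φ, hφO, hk⟩ hk
    have hgφ : sT φ ∈ g ⁻¹ᵁ O := by
      change g (sT φ) ∈ O
      rw [← Scheme.Hom.comp_apply, ← hPT.w, Scheme.Hom.comp_apply]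
      exact hφO
    obtain ⟨_, ⟨OT, hOT, rfl⟩, hφOT, hle⟩ :=
      T.isBasis_affineOpens.exists_subset_of_mem_open hgφ (g ⁻¹ᵁ O).2
    exact ⟨⟨k, ⟨(r, O, OT), hO, hOT, hr₁.trans inf_le_left, hle⟩⟩, ⟨hr₂, hφOT⟩⟩
  · rintro ⟨k, ⟨⟨r, O, OT⟩, hO, hOT, hrO, hle⟩⟩
    dsimp only at hO hOT hrO hle ⊢
    obtain ⟨hWk, haWk, hbWk⟩ := h𝒲 k
    have hW : IsAffineOpen (P.basicOpen r) := hWk.basicOpen r
    have haW : IsAffineOpen (a ⁻¹ᵁ P.basicOpen r) := by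
      rw [Scheme.preimage_basicOpen]; exact haWk.basicOpen _
    have hbW : IsAffineOpen (b ⁻¹ᵁ P.basicOpen r) := by
      rw [Scheme.preimage_basicOpen]; exact hbWk.basicOpen _
    have hiW : IsAffineOpen (i ⁻¹ᵁ a ⁻¹ᵁ P.basicOpen r) := haW.preimage i
    have hW'' : IsAffineOpen (pP ⁻¹ᵁ P.basicOpen r ⊓ sT ⁻¹ᵁ OT) :=
      isAffineOpen_of_isPullback hPT hO hOT hW hle hrO
    have haW'' := hW''.preimage aT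
    have hbW'' := hW''.preimage bT
    have hiW'' := haW''.preimage iT
    have e' : iT ⁻¹ᵁ aT ⁻¹ᵁ (pP ⁻¹ᵁ P.basicOpen r ⊓ sT ⁻¹ᵁ OT) ≤
        jT ⁻¹ᵁ bT ⁻¹ᵁ (pP ⁻¹ᵁ P.basicOpen r ⊓ sT ⁻¹ᵁ OT) := by
      rw [← Scheme.Hom.comp_preimage, ← Scheme.Hom.comp_preimage, hj₂]
    refine ⟨hW'', haW'', hbW'', hiW'', e', ?_⟩
    have hR := (hp.pinchAt (P.basicOpen r)).ringPinch hp.w (hp.preimage_le _)
      (i.app_surjective _ haW)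
    simp only [Scheme.Hom.app_eq_appLE] at hR
    -- pasted pullbacks
    have hXS := hX.paste_vert hPT
    have hYS := hY.paste_vert hPT
    have hZS := hZ.paste_vert hXS
    -- equalities of opens
    have eqX : aT ⁻¹ᵁ (pP ⁻¹ᵁ P.basicOpen r ⊓ sT ⁻¹ᵁ OT) =
        pX ⁻¹ᵁ a ⁻¹ᵁ P.basicOpen r ⊓ (aT ≫ sT) ⁻¹ᵁ OT := by
      rw [Scheme.Hom.comp_preimage, ← Scheme.Hom.comp_preimage pX a, hX.w,
        Scheme.Hom.comp_preimage]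
      rfl
    have eqY : bT ⁻¹ᵁ (pP ⁻¹ᵁ P.basicOpen r ⊓ sT ⁻¹ᵁ OT) =
        pY ⁻¹ᵁ b ⁻¹ᵁ P.basicOpen r ⊓ (bT ≫ sT) ⁻¹ᵁ OT := by
      rw [Scheme.Hom.comp_preimage, ← Scheme.Hom.comp_preimage pY b, hY.w,
        Scheme.Hom.comp_preimage]
      rfl
    have eqZ : iT ⁻¹ᵁ aT ⁻¹ᵁ (pP ⁻¹ᵁ P.basicOpen r ⊓ sT ⁻¹ᵁ OT) =
        pZ ⁻¹ᵁ i ⁻¹ᵁ a ⁻¹ᵁ P.basicOpen r ⊓ (iT ≫ aT ≫ sT) ⁻¹ᵁ OT := by
      rw [eqX, Scheme.Hom.comp_preimage iT, ← Scheme.Hom.comp_preimage pZ i, hZ.w,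
        Scheme.Hom.comp_preimage]
      rfl
    have leP : pP ⁻¹ᵁ P.basicOpen r ⊓ sT ⁻¹ᵁ OT ≤ pP ⁻¹ᵁ P.basicOpen r := inf_le_left
    have leT : pP ⁻¹ᵁ P.basicOpen r ⊓ sT ⁻¹ᵁ OT ≤ sT ⁻¹ᵁ OT := inf_le_right
    have poR := isPushout_appLE_of_isPullback' hPT hO hOT hW hle hrO
      (U' := pP ⁻¹ᵁ P.basicOpen r ⊓ sT ⁻¹ᵁ OT) rfl leT leP
    have poA' := isPushout_appLE_of_isPullback' hXS hO hOT haW hle
      (show a ⁻¹ᵁ P.basicOpen r ≤ (a ≫ s) ⁻¹ᵁ O from a.preimage_mono hrO)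
      (U' := aT ⁻¹ᵁ (pP ⁻¹ᵁ P.basicOpen r ⊓ sT ⁻¹ᵁ OT)) eqX
      (eqX.le.trans inf_le_right) (eqX.le.trans inf_le_left)
    have poB := isPushout_appLE_of_isPullback' hYS hO hOT hbW hle
      (show b ⁻¹ᵁ P.basicOpen r ≤ (b ≫ s) ⁻¹ᵁ O from b.preimage_mono hrO)
      (U' := bT ⁻¹ᵁ (pP ⁻¹ᵁ P.basicOpen r ⊓ sT ⁻¹ᵁ OT)) eqY
      (eqY.le.trans inf_le_right) (eqY.le.trans inf_le_left)
    have poA := isPushout_appLE_of_isPullback' hZS hO hOT hiW hle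
      (show i ⁻¹ᵁ a ⁻¹ᵁ P.basicOpen r ≤ (i ≫ a ≫ s) ⁻¹ᵁ O from
        i.preimage_mono (a.preimage_mono hrO))
      (U' := iT ⁻¹ᵁ aT ⁻¹ᵁ (pP ⁻¹ᵁ P.basicOpen r ⊓ sT ⁻¹ᵁ OT)) eqZ
      (eqZ.le.trans inf_le_right) (eqZ.le.trans inf_le_left)
    have hflat : ((i ≫ a ≫ s).appLE O (i ⁻¹ᵁ a ⁻¹ᵁ P.basicOpen r)
        (i.preimage_mono (a.preimage_mono hrO))).hom.Flat :=
      HasRingHomProperty.appLE (P := @Flat) _ inferInstance ⟨O, hO⟩ ⟨_, hiW⟩ _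
    -- rewrite composites
    have c1 : (a ≫ s).appLE O (a ⁻¹ᵁ P.basicOpen r) (a.preimage_mono hrO) =
        s.appLE O (P.basicOpen r) hrO ≫ a.appLE (P.basicOpen r) (a ⁻¹ᵁ P.basicOpen r) le_rfl := by
      rw [Scheme.Hom.appLE_comp_appLE]
    have c2 : (b ≫ s).appLE O (b ⁻¹ᵁ P.basicOpen r) (b.preimage_mono hrO) =
        s.appLE O (P.basicOpen r) hrO ≫ b.appLE (P.basicOpen r) (b ⁻¹ᵁ P.basicOpen r) le_rfl := by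
      rw [Scheme.Hom.appLE_comp_appLE]
    have c3 : (i ≫ a ≫ s).appLE O (i ⁻¹ᵁ a ⁻¹ᵁ P.basicOpen r)
        (i.preimage_mono (a.preimage_mono hrO)) =
        s.appLE O (P.basicOpen r) hrO ≫ a.appLE (P.basicOpen r) (a ⁻¹ᵁ P.basicOpen r) le_rfl ≫
          i.appLE (a ⁻¹ᵁ P.basicOpen r) (i ⁻¹ᵁ a ⁻¹ᵁ P.basicOpen r) le_rfl := by
      rw [Scheme.Hom.appLE_comp_appLE, Scheme.Hom.appLE_comp_appLE]
      exact appLE_congr_hom (Category.assoc _ _ _).symm _ _ _ _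
    have d1 : (aT ≫ sT).appLE OT (aT ⁻¹ᵁ (pP ⁻¹ᵁ P.basicOpen r ⊓ sT ⁻¹ᵁ OT))
        (eqX.le.trans inf_le_right) =
        sT.appLE OT (pP ⁻¹ᵁ P.basicOpen r ⊓ sT ⁻¹ᵁ OT) leT ≫
          aT.appLE _ (aT ⁻¹ᵁ (pP ⁻¹ᵁ P.basicOpen r ⊓ sT ⁻¹ᵁ OT)) le_rfl := by
      rw [Scheme.Hom.appLE_comp_appLE]
    have d2 : (bT ≫ sT).appLE OT (bT ⁻¹ᵁ (pP ⁻¹ᵁ P.basicOpen r ⊓ sT ⁻¹ᵁ OT))
        (eqY.le.trans inf_le_right) =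
        sT.appLE OT (pP ⁻¹ᵁ P.basicOpen r ⊓ sT ⁻¹ᵁ OT) leT ≫
          bT.appLE _ (bT ⁻¹ᵁ (pP ⁻¹ᵁ P.basicOpen r ⊓ sT ⁻¹ᵁ OT)) le_rfl := by
      rw [Scheme.Hom.appLE_comp_appLE]
    have d3 : (iT ≫ aT ≫ sT).appLE OT (iT ⁻¹ᵁ aT ⁻¹ᵁ (pP ⁻¹ᵁ P.basicOpen r ⊓ sT ⁻¹ᵁ OT))
        (eqZ.le.trans inf_le_right) =
        sT.appLE OT (pP ⁻¹ᵁ P.basicOpen r ⊓ sT ⁻¹ᵁ OT) leT ≫
          aT.appLE _ (aT ⁻¹ᵁ (pP ⁻¹ᵁ P.basicOpen r ⊓ sT ⁻¹ᵁ OT)) le_rfl ≫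
          iT.appLE _ (iT ⁻¹ᵁ aT ⁻¹ᵁ (pP ⁻¹ᵁ P.basicOpen r ⊓ sT ⁻¹ᵁ OT)) le_rfl := by
      rw [Scheme.Hom.appLE_comp_appLE, Scheme.Hom.appLE_comp_appLE]
      exact appLE_congr_hom (Category.assoc _ _ _).symm _ _ _ _
    rw [c1, d1] at poA'
    rw [c2, d2] at poB
    rw [c3, d3] at poA
    rw [c3] at hflat
    refine RingPinch.baseChange_rel_cat (s.appLE O (P.basicOpen r) hrO) (g.appLE O OT hle)
      (sT.appLE OT _ leT) (pP.appLE _ _ leP) _ _ _ hR hflat poR poA' poB poA ?_ ?_ ?_ ?_ ?_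
    · rw [Scheme.Hom.appLE_comp_appLE, Scheme.Hom.appLE_comp_appLE]
      exact appLE_congr_hom hX.w.symm _ _ _ _
    · rw [Scheme.Hom.appLE_comp_appLE, Scheme.Hom.appLE_comp_appLE]
      exact appLE_congr_hom hY.w.symm _ _ _ _
    · rw [Scheme.Hom.appLE_comp_appLE, Scheme.Hom.appLE_comp_appLE]
      exact appLE_congr_hom hZ.w.symm _ _ _ _
    · rw [Scheme.Hom.appLE_comp_appLE, Scheme.Hom.appLE_comp_appLE]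
      exact appLE_congr_hom hj₁ _ _ _ _
    · rw [Scheme.Hom.appLE_comp_appLE, Scheme.Hom.appLE_comp_appLE]
      exact appLE_congr_hom hj₂ _ _ _ _

end Groth.Agent.H9.PIN
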