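import Groth.Agent.Lib.Helper9.Misc.PIN27
set_option autoImplicit false
set_option linter.style.haveILetI false
set_option linter.unusedSectionVars false
set_option linter.unusedVariables false

namespace Groth.Agent.H9.PIN

open AlgebraicGeometry CategoryTheory Limits TopologicalSpace

universe u

section RelUI

open TensorProduct

variable {O O' R A' B A R₁ A'₁ B₁ A₁ : Type*} [CommRing O] [CommRing O'] [CommRing R]
  [CommRing A'] [CommRing B] [CommRing A] [CommRing R₁] [CommRing A'₁] [CommRing B₁] [CommRing A₁]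
  [Algebra O O'] [Algebra O R] [Algebra O A'] [Algebra O B] [Algebra O A]
  [Algebra O' R₁] [Algebra O' A'₁] [Algebra O' B₁] [Algebra O' A₁]
  [Algebra O R₁] [Algebra O A'₁] [Algebra O B₁] [Algebra O A₁]
  [IsScalarTower O O' R₁] [IsScalarTower O O' A'₁] [IsScalarTower O O' B₁] [IsScalarTower O O' A₁]

/-- if `q` is injective with `O`-flat cokernel, then `α : R → A'` stays injective after any
tensor product over `O`. -/
theorem RingPinch.lTensor_α_injective (α : R →ₐ[O] A') (β : R →ₐ[O] B) (p : A' →ₐ[O] A)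
    (q : B →ₐ[O] A)
    (h : RingPinch (α : R →+* A') (β : R →+* B) (p : A' →+* A) (q : B →+* A))
    (hq : Function.Injective q)
    [Module.Flat O (A ⧸ Submodule.span O (Set.range q))] (M : Type*) [AddCommGroup M]
    [Module O M] : Function.Injective (α.toLinearMap.lTensor M) := by
  set S : Submodule O A := Submodule.span O (Set.range q) with hS
  have hSeq : S = LinearMap.range q.toLinearMap := by
    rw [hS]
    have : (Set.range q : Set A) = (LinearMap.range q.toLinearMap : Set A) := by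
      ext x; simp
    rw [this, Submodule.span_eq]
  let π : A' →ₗ[O] A ⧸ S := S.mkQ.comp p.toLinearMap
  have hπ : Function.Surjective π := by
    intro z
    obtain ⟨x, rfl⟩ := S.mkQ_surjective z
    obtain ⟨a', ha'⟩ := h.surj x
    exact ⟨a', by change S.mkQ (p a') = _; congr 1⟩
  have hαinj : Function.Injective α.toLinearMap := by
    rw [injective_iff_map_eq_zero]
    intro r hr
    have hr' : α r = 0 := hr
    refine h.inj r hr' ?_
    apply hq
    have := h.comm r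
    change p (α r) = q (β r) at this
    change q (β r) = q 0
    rw [map_zero, ← this, hr', map_zero]
  have hex : Function.Exact α.toLinearMap π := by
    intro x
    constructor
    · intro hx
      have hx' : p x ∈ S := by
        have : S.mkQ (p x) = 0 := hx
        rwa [Submodule.mkQ_apply, Submodule.Quotient.mk_eq_zero] at this
      rw [hSeq] at hx'
      obtain ⟨b', hb'⟩ := hx'
      obtain ⟨r, h1, h2⟩ := h.glue x b' hb'.symm
      exact ⟨r, h1⟩
    · rintro ⟨r, rfl⟩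
      change S.mkQ (p (α r)) = 0
      rw [Submodule.mkQ_apply, Submodule.Quotient.mk_eq_zero, hSeq]
      exact ⟨β r, (h.comm r).symm⟩
  exact LinearMap.lTensor_injective_of_exact_of_flat π hπ α.toLinearMap hαinj hex M

/-- **Base change of a ring pinching** relative to `O`, assuming `α` stays injective after
tensoring with `O'`. -/
theorem RingPinch.baseChange_rel_of_injective
    (α : R →ₐ[O] A') (β : R →ₐ[O] B) (p : A' →ₐ[O] A) (q : B →ₐ[O] A)
    (h : RingPinch (α : R →+* A') (β : R →+* B) (p : A' →+* A) (q : B →+* A))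
    (hinj : Function.Injective (α.toLinearMap.lTensor O'))
    (α₁ : R₁ →ₐ[O'] A'₁) (β₁ : R₁ →ₐ[O'] B₁) (p₁ : A'₁ →ₐ[O'] A₁) (q₁ : B₁ →ₐ[O'] A₁)
    (uR : R →ₗ[O] R₁) (uA' : A' →ₗ[O] A'₁) (uB : B →ₗ[O] B₁) (uA : A →ₗ[O] A₁)
    (hR : IsBaseChange O' uR) (hA' : IsBaseChange O' uA') (hB : IsBaseChange O' uB)
    (hA : IsBaseChange O' uA)
    (cα : ∀ r, α₁ (uR r) = uA' (α r)) (cβ : ∀ r, β₁ (uR r) = uB (β r))
    (cp : ∀ x, p₁ (uA' x) = uA (p x)) (cq : ∀ y, q₁ (uB y) = uA (q y))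
    (hcomm : ∀ x, p₁ (α₁ x) = q₁ (β₁ x)) :
    RingPinch (α₁ : R₁ →+* A'₁) (β₁ : R₁ →+* B₁) (p₁ : A'₁ →+* A₁) (q₁ : B₁ →+* A₁) := by
  have hex := h.exact_rel α β p q
  have hsurj := h.surjective_relG α β p q
  have hinjT : Function.Injective ((relF α β).lTensor O') := by
    have hcomp : (LinearMap.fst O A' B).comp (relF α β) = α.toLinearMap := by
      ext r; rfl
    have h2 : ((LinearMap.fst O A' B).lTensor O').comp ((relF α β).lTensor O') =
        α.toLinearMap.lTensor O' := by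
      rw [← LinearMap.lTensor_comp, hcomp]
    have h3 : Function.Injective (((LinearMap.fst O A' B).lTensor O').comp
        ((relF α β).lTensor O')) := by
      rw [h2]; exact hinj
    exact Function.Injective.of_comp h3
  exact h.baseChange_rel_of_exact α β p q (lTensor_exact O' hex hsurj) hinjT
    α₁ β₁ p₁ q₁ uR uA' uB uA hR hA' hB hA cα cβ cp cq hcomm

end RelUI

section Cat'

variable {O O' R A' B A R₁ A'₁ B₁ A₁ : CommRingCat.{u}}
  {α : R ⟶ A'} {β : R ⟶ B} {p : A' ⟶ A} {q : B ⟶ A}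
  {α₁ : R₁ ⟶ A'₁} {β₁ : R₁ ⟶ B₁} {p₁ : A'₁ ⟶ A₁} {q₁ : B₁ ⟶ A₁}

/-- `α` (an `O`-linear map via `σ`) stays injective after `⊗_O O'`. -/
def TensorInj (σ : O ⟶ R) (α : R ⟶ A') (τ : O ⟶ O') : Prop :=
  letI := τ.hom.toAlgebra
  letI := σ.hom.toAlgebra
  letI := (σ ≫ α).hom.toAlgebra
  Function.Injective (LinearMap.lTensor O'
    (({ α.hom with commutes' := fun r => rfl } : R →ₐ[O] A').toLinearMap))

/-- `q` is injective with `O`-flat cokernel (`O`-structure on `A` through `σA`). -/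
def CokerFlat (σA : O ⟶ A) (q : B ⟶ A) : Prop :=
  letI := σA.hom.toAlgebra
  Function.Injective q.hom ∧ Module.Flat O (A ⧸ Submodule.span O (Set.range q.hom))

theorem tensorInj_of_cokerFlat (σ : O ⟶ R) (h : RingPinch α.hom β.hom p.hom q.hom)
    (hc : CokerFlat (σ ≫ α ≫ p) q) (τ : O ⟶ O') : TensorInj σ α τ := by
  letI := τ.hom.toAlgebra
  letI := σ.hom.toAlgebra
  letI := (σ ≫ α).hom.toAlgebra
  letI := (σ ≫ β).hom.toAlgebra
  letI := (σ ≫ α ≫ p).hom.toAlgebra
  let αa : R →ₐ[O] A' := { α.hom with commutes' := fun r => rfl }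
  let βa : R →ₐ[O] B := { β.hom with commutes' := fun r => rfl }
  let pa : A' →ₐ[O] A := { p.hom with commutes' := fun r => rfl }
  let qa : B →ₐ[O] A := { q.hom with commutes' := fun r => (h.comm (σ r)).symm }
  haveI : Module.Flat O (A ⧸ Submodule.span O (Set.range qa)) := hc.2
  exact RingPinch.lTensor_α_injective (O := O) αa βa pa qa h hc.1 O'

/-- **Base change of a ring pinching relative to `O`**, categorical form, assuming `TensorInj`. -/
theorem RingPinch.baseChange_rel_cat' (σ : O ⟶ R) (τ : O ⟶ O') (σ₁ : O' ⟶ R₁)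
    (uR : R ⟶ R₁) (uA' : A' ⟶ A'₁) (uB : B ⟶ B₁) (uA : A ⟶ A₁)
    (h : RingPinch α.hom β.hom p.hom q.hom) (hTI : TensorInj σ α τ)
    (hR : IsPushout τ σ σ₁ uR) (hA' : IsPushout τ (σ ≫ α) (σ₁ ≫ α₁) uA')
    (hB : IsPushout τ (σ ≫ β) (σ₁ ≫ β₁) uB)
    (hA : IsPushout τ (σ ≫ α ≫ p) (σ₁ ≫ α₁ ≫ p₁) uA)
    (cα : uR ≫ α₁ = α ≫ uA') (cβ : uR ≫ β₁ = β ≫ uB) (cp : uA' ≫ p₁ = p ≫ uA)
    (cq : uB ≫ q₁ = q ≫ uA) (hcomm : α₁ ≫ p₁ = β₁ ≫ q₁) :
    RingPinch α₁.hom β₁.hom p₁.hom q₁.hom := by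
  letI := τ.hom.toAlgebra
  letI := σ.hom.toAlgebra
  letI := (σ ≫ α).hom.toAlgebra
  letI := (σ ≫ β).hom.toAlgebra
  letI := (σ ≫ α ≫ p).hom.toAlgebra
  letI := σ₁.hom.toAlgebra
  letI := (σ₁ ≫ α₁).hom.toAlgebra
  letI := (σ₁ ≫ β₁).hom.toAlgebra
  letI := (σ₁ ≫ α₁ ≫ p₁).hom.toAlgebra
  letI := uR.hom.toAlgebra
  letI := uA'.hom.toAlgebra
  letI := uB.hom.toAlgebra
  letI := uA.hom.toAlgebra
  letI := (τ ≫ σ₁).hom.toAlgebra
  letI := (τ ≫ σ₁ ≫ α₁).hom.toAlgebra
  letI := (τ ≫ σ₁ ≫ β₁).hom.toAlgebra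
  letI := (τ ≫ σ₁ ≫ α₁ ≫ p₁).hom.toAlgebra
  obtain ⟨t0, t0', bR⟩ := isBaseChange_of_isPushout hR
  obtain ⟨t1, t1', bA'⟩ := isBaseChange_of_isPushout hA'
  obtain ⟨t2, t2', bB⟩ := isBaseChange_of_isPushout hB
  obtain ⟨t3, t3', bA⟩ := isBaseChange_of_isPushout hA
  let αa : R →ₐ[O] A' := { α.hom with commutes' := fun r => rfl }
  let βa : R →ₐ[O] B := { β.hom with commutes' := fun r => rfl }
  let pa : A' →ₐ[O] A := { p.hom with commutes' := fun r => rfl }
  let qa : B →ₐ[O] A := { q.hom with commutes' := fun r => (h.comm (σ r)).symm }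
  let α₁a : R₁ →ₐ[O'] A'₁ := { α₁.hom with commutes' := fun r => rfl }
  let β₁a : R₁ →ₐ[O'] B₁ := { β₁.hom with commutes' := fun r => rfl }
  let p₁a : A'₁ →ₐ[O'] A₁ := { p₁.hom with commutes' := fun r => rfl }
  let q₁a : B₁ →ₐ[O'] A₁ :=
    { q₁.hom with commutes' := fun r => (congr($hcomm (σ₁ r))).symm }
  have := RingPinch.baseChange_rel_of_injective (O := O) (O' := O') αa βa pa qa h hTI
    α₁a β₁a p₁a q₁a
    (IsScalarTower.toAlgHom O R R₁).toLinearMap (IsScalarTower.toAlgHom O A' A'₁).toLinearMap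
    (IsScalarTower.toAlgHom O B B₁).toLinearMap (IsScalarTower.toAlgHom O A A₁).toLinearMap
    bR bA' bB bA
    (fun r => congr($cα r)) (fun r => congr($cβ r))
    (fun x => congr($cp x)) (fun y => congr($cq y)) (fun x => congr($hcomm x))
  exact this

end Cat'

end Groth.Agent.H9.PIN
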