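import Groth.Agent.Lib.Helper9.Misc.PIN28
set_option autoImplicit false
set_option linter.style.haveILetI false
set_option linter.unusedSectionVars false
set_option linter.unusedVariables false

namespace Groth.Agent.H9.PIN

open AlgebraicGeometry CategoryTheory Limits TopologicalSpace

universe u

variable {X Y Z P S T PT XT YT ZT : Scheme.{u}} {i : Z ⟶ X} {j : Z ⟶ Y} {a : X ⟶ P} {b : Y ⟶ P}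

/-- **Base change of a pinching over a base `S`** along an arbitrary `T ⟶ S`, given charts
on which `Γ(P, W) → Γ(X, a⁻¹W)` is universally injective over the base. -/
theorem IsPinch.baseChange_of_charts (hp : IsPinch i j a b) [IsClosedImmersion i]
    {ι : Type*} (𝒲 : ι → P.Opens) (hcov : ∀ p : P, ∃ k, p ∈ 𝒲 k)
    (h𝒲 : ∀ k, IsAffineOpen (𝒲 k) ∧ IsAffineOpen (a ⁻¹ᵁ 𝒲 k) ∧ IsAffineOpen (b ⁻¹ᵁ 𝒲 k))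
    (s : P ⟶ S) (𝒪 : ι → S.Opens) (h𝒪 : ∀ k, IsAffineOpen (𝒪 k) ∧ 𝒲 k ≤ s ⁻¹ᵁ 𝒪 k)
    (g : T ⟶ S)
    (hTI : ∀ (k : ι) (OT : T.Opens) (hOT : IsAffineOpen OT) (hle : OT ≤ g ⁻¹ᵁ 𝒪 k),
      TensorInj (s.appLE (𝒪 k) (𝒲 k) (h𝒪 k).2) (a.appLE (𝒲 k) (a ⁻¹ᵁ 𝒲 k) le_rfl)
        (g.appLE (𝒪 k) OT hle))
    (pP : PT ⟶ P) (sT : PT ⟶ T) (hPT : IsPullback pP sT s g)
    (pX : XT ⟶ X) (aT : XT ⟶ PT) (hX : IsPullback pX aT a pP)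
    (pY : YT ⟶ Y) (bT : YT ⟶ PT) (hY : IsPullback pY bT b pP)
    (pZ : ZT ⟶ Z) (iT : ZT ⟶ XT) (hZ : IsPullback pZ iT i pX)
    (jT : ZT ⟶ YT) (hj₁ : jT ≫ pY = pZ ≫ j) (hj₂ : iT ≫ aT = jT ≫ bT) :
    IsPinch iT jT aT bT := by
  haveI : IsAffineHom a := isAffineHom_of_forall_exists_isAffineOpen a (fun p => by
    obtain ⟨k, hk⟩ := hcov p
    exact ⟨𝒲 k, hk, (h𝒲 k).1, (h𝒲 k).2.1⟩)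
  haveI : IsAffineHom b := isAffineHom_of_forall_exists_isAffineOpen b (fun p => by
    obtain ⟨k, hk⟩ := hcov p
    exact ⟨𝒲 k, hk, (h𝒲 k).1, (h𝒲 k).2.2⟩)
  haveI : IsAffineHom aT := MorphismProperty.of_isPullback (P := @IsAffineHom) hX inferInstance
  haveI : IsAffineHom bT := MorphismProperty.of_isPullback (P := @IsAffineHom) hY inferInstance
  haveI : IsClosedImmersion iT :=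
    MorphismProperty.of_isPullback (P := @IsClosedImmersion) hZ inferInstance
  refine IsPinch.of_affine_cover hj₂
    (ι := Σ k : ι, {OT : T.Opens // IsAffineOpen OT ∧ OT ≤ g ⁻¹ᵁ 𝒪 k})
    (fun idx => pP ⁻¹ᵁ 𝒲 idx.1 ⊓ sT ⁻¹ᵁ idx.2.1) ?_ ?_
  · intro φ
    obtain ⟨k, hk⟩ := hcov (pP φ)
    have hgφ : sT φ ∈ g ⁻¹ᵁ 𝒪 k := by
      change g (sT φ) ∈ 𝒪 k
      rw [← Scheme.Hom.comp_apply, ← hPT.w, Scheme.Hom.comp_apply]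
      exact (h𝒪 k).2 hk
    obtain ⟨_, ⟨OT, hOT, rfl⟩, hφOT, hle⟩ :=
      T.isBasis_affineOpens.exists_subset_of_mem_open hgφ (g ⁻¹ᵁ 𝒪 k).2
    exact ⟨⟨k, ⟨OT, hOT, hle⟩⟩, ⟨hk, hφOT⟩⟩
  · rintro ⟨k, ⟨OT, hOT, hle⟩⟩
    dsimp only at hOT hle ⊢
    obtain ⟨hW, haW, hbW⟩ := h𝒲 k
    obtain ⟨hO, hrO⟩ := h𝒪 k
    have hiW : IsAffineOpen (i ⁻¹ᵁ a ⁻¹ᵁ 𝒲 k) := haW.preimage i
    have hW'' : IsAffineOpen (pP ⁻¹ᵁ 𝒲 k ⊓ sT ⁻¹ᵁ OT) :=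
      isAffineOpen_of_isPullback hPT hO hOT hW hle hrO
    have haW'' := hW''.preimage aT
    have hbW'' := hW''.preimage bT
    have hiW'' := haW''.preimage iT
    have e' : iT ⁻¹ᵁ aT ⁻¹ᵁ (pP ⁻¹ᵁ 𝒲 k ⊓ sT ⁻¹ᵁ OT) ≤
        jT ⁻¹ᵁ bT ⁻¹ᵁ (pP ⁻¹ᵁ 𝒲 k ⊓ sT ⁻¹ᵁ OT) := by
      rw [← Scheme.Hom.comp_preimage, ← Scheme.Hom.comp_preimage, hj₂]
    refine ⟨hW'', haW'', hbW'', hiW'', e', ?_⟩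
    have hR := (hp.pinchAt (𝒲 k)).ringPinch hp.w (hp.preimage_le _)
      (i.app_surjective _ haW)
    simp only [Scheme.Hom.app_eq_appLE] at hR
    have hTIk := hTI k OT hOT hle
    -- pasted pullbacks
    have hXS := hX.paste_vert hPT
    have hYS := hY.paste_vert hPT
    have hZS := hZ.paste_vert hXS
    -- equalities of opens
    have eqX : aT ⁻¹ᵁ (pP ⁻¹ᵁ 𝒲 k ⊓ sT ⁻¹ᵁ OT) =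
        pX ⁻¹ᵁ a ⁻¹ᵁ 𝒲 k ⊓ (aT ≫ sT) ⁻¹ᵁ OT := by
      rw [Scheme.Hom.comp_preimage, ← Scheme.Hom.comp_preimage pX a, hX.w,
        Scheme.Hom.comp_preimage]
      rfl
    have eqY : bT ⁻¹ᵁ (pP ⁻¹ᵁ 𝒲 k ⊓ sT ⁻¹ᵁ OT) =
        pY ⁻¹ᵁ b ⁻¹ᵁ 𝒲 k ⊓ (bT ≫ sT) ⁻¹ᵁ OT := by
      rw [Scheme.Hom.comp_preimage, ← Scheme.Hom.comp_preimage pY b, hY.w,
        Scheme.Hom.comp_preimage]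
      rfl
    have eqZ : iT ⁻¹ᵁ aT ⁻¹ᵁ (pP ⁻¹ᵁ 𝒲 k ⊓ sT ⁻¹ᵁ OT) =
        pZ ⁻¹ᵁ i ⁻¹ᵁ a ⁻¹ᵁ 𝒲 k ⊓ (iT ≫ aT ≫ sT) ⁻¹ᵁ OT := by
      rw [eqX, Scheme.Hom.comp_preimage iT, ← Scheme.Hom.comp_preimage pZ i, hZ.w,
        Scheme.Hom.comp_preimage]
      rfl
    have leP : pP ⁻¹ᵁ 𝒲 k ⊓ sT ⁻¹ᵁ OT ≤ pP ⁻¹ᵁ 𝒲 k := inf_le_left
    have leT : pP ⁻¹ᵁ 𝒲 k ⊓ sT ⁻¹ᵁ OT ≤ sT ⁻¹ᵁ OT := inf_le_right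
    have poR := isPushout_appLE_of_isPullback' hPT hO hOT hW hle hrO
      (U' := pP ⁻¹ᵁ 𝒲 k ⊓ sT ⁻¹ᵁ OT) rfl leT leP
    have poA' := isPushout_appLE_of_isPullback' hXS hO hOT haW hle
      (show a ⁻¹ᵁ 𝒲 k ≤ (a ≫ s) ⁻¹ᵁ (𝒪 k) from a.preimage_mono hrO)
      (U' := aT ⁻¹ᵁ (pP ⁻¹ᵁ 𝒲 k ⊓ sT ⁻¹ᵁ OT)) eqX
      (eqX.le.trans inf_le_right) (eqX.le.trans inf_le_left)
    have poB := isPushout_appLE_of_isPullback' hYS hO hOT hbW hle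
      (show b ⁻¹ᵁ 𝒲 k ≤ (b ≫ s) ⁻¹ᵁ (𝒪 k) from b.preimage_mono hrO)
      (U' := bT ⁻¹ᵁ (pP ⁻¹ᵁ 𝒲 k ⊓ sT ⁻¹ᵁ OT)) eqY
      (eqY.le.trans inf_le_right) (eqY.le.trans inf_le_left)
    have poA := isPushout_appLE_of_isPullback' hZS hO hOT hiW hle
      (show i ⁻¹ᵁ a ⁻¹ᵁ 𝒲 k ≤ (i ≫ a ≫ s) ⁻¹ᵁ (𝒪 k) from
        i.preimage_mono (a.preimage_mono hrO))
      (U' := iT ⁻¹ᵁ aT ⁻¹ᵁ (pP ⁻¹ᵁ 𝒲 k ⊓ sT ⁻¹ᵁ OT)) eqZ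
      (eqZ.le.trans inf_le_right) (eqZ.le.trans inf_le_left)
    -- rewrite composites
    have c1 : (a ≫ s).appLE (𝒪 k) (a ⁻¹ᵁ 𝒲 k) (a.preimage_mono hrO) =
        s.appLE (𝒪 k) (𝒲 k) hrO ≫ a.appLE (𝒲 k) (a ⁻¹ᵁ 𝒲 k) le_rfl := by
      rw [Scheme.Hom.appLE_comp_appLE]
    have c2 : (b ≫ s).appLE (𝒪 k) (b ⁻¹ᵁ 𝒲 k) (b.preimage_mono hrO) =
        s.appLE (𝒪 k) (𝒲 k) hrO ≫ b.appLE (𝒲 k) (b ⁻¹ᵁ 𝒲 k) le_rfl := by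
      rw [Scheme.Hom.appLE_comp_appLE]
    have c3 : (i ≫ a ≫ s).appLE (𝒪 k) (i ⁻¹ᵁ a ⁻¹ᵁ 𝒲 k)
        (i.preimage_mono (a.preimage_mono hrO)) =
        s.appLE (𝒪 k) (𝒲 k) hrO ≫ a.appLE (𝒲 k) (a ⁻¹ᵁ 𝒲 k) le_rfl ≫
          i.appLE (a ⁻¹ᵁ 𝒲 k) (i ⁻¹ᵁ a ⁻¹ᵁ 𝒲 k) le_rfl := by
      rw [Scheme.Hom.appLE_comp_appLE, Scheme.Hom.appLE_comp_appLE]
      exact appLE_congr_hom (Category.assoc _ _ _).symm _ _ _ _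
    have d1 : (aT ≫ sT).appLE OT (aT ⁻¹ᵁ (pP ⁻¹ᵁ 𝒲 k ⊓ sT ⁻¹ᵁ OT))
        (eqX.le.trans inf_le_right) =
        sT.appLE OT (pP ⁻¹ᵁ 𝒲 k ⊓ sT ⁻¹ᵁ OT) leT ≫
          aT.appLE _ (aT ⁻¹ᵁ (pP ⁻¹ᵁ 𝒲 k ⊓ sT ⁻¹ᵁ OT)) le_rfl := by
      rw [Scheme.Hom.appLE_comp_appLE]
    have d2 : (bT ≫ sT).appLE OT (bT ⁻¹ᵁ (pP ⁻¹ᵁ 𝒲 k ⊓ sT ⁻¹ᵁ OT))
        (eqY.le.trans inf_le_right) =
        sT.appLE OT (pP ⁻¹ᵁ 𝒲 k ⊓ sT ⁻¹ᵁ OT) leT ≫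
          bT.appLE _ (bT ⁻¹ᵁ (pP ⁻¹ᵁ 𝒲 k ⊓ sT ⁻¹ᵁ OT)) le_rfl := by
      rw [Scheme.Hom.appLE_comp_appLE]
    have d3 : (iT ≫ aT ≫ sT).appLE OT (iT ⁻¹ᵁ aT ⁻¹ᵁ (pP ⁻¹ᵁ 𝒲 k ⊓ sT ⁻¹ᵁ OT))
        (eqZ.le.trans inf_le_right) =
        sT.appLE OT (pP ⁻¹ᵁ 𝒲 k ⊓ sT ⁻¹ᵁ OT) leT ≫
          aT.appLE _ (aT ⁻¹ᵁ (pP ⁻¹ᵁ 𝒲 k ⊓ sT ⁻¹ᵁ OT)) le_rfl ≫
          iT.appLE _ (iT ⁻¹ᵁ aT ⁻¹ᵁ (pP ⁻¹ᵁ 𝒲 k ⊓ sT ⁻¹ᵁ OT)) le_rfl := by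
      rw [Scheme.Hom.appLE_comp_appLE, Scheme.Hom.appLE_comp_appLE]
      exact appLE_congr_hom (Category.assoc _ _ _).symm _ _ _ _
    rw [c1, d1] at poA'
    rw [c2, d2] at poB
    rw [c3, d3] at poA
    refine RingPinch.baseChange_rel_cat' (s.appLE (𝒪 k) (𝒲 k) hrO) (g.appLE (𝒪 k) OT hle)
      (sT.appLE OT _ leT) (pP.appLE _ _ leP) _ _ _ hR hTIk poR poA' poB poA ?_ ?_ ?_ ?_ ?_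
    · rw [Scheme.Hom.appLE_comp_appLE, Scheme.Hom.appLE_comp_appLE]
      exact appLE_congr_hom hX.w.symm _ _ _ _
    · rw [Scheme.Hom.appLE_comp_appLE, Scheme.Hom.appLE_comp_appLE]
      exact appLE_congr_hom hY.w.symm _ _ _ _
    · rw [Scheme.Hom.appLE_comp_appLE, Scheme.Hom.appLE_comp_appLE]
      exact appLE_congr_hom hZ.w.symm _ _ _ _
    · rw [Scheme.Hom.appLE_comp_appLE, Scheme.Hom.appLE_comp_appLE]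
      exact appLE_congr_hom hj₁ _ _ _ _
    · rw [Scheme.Hom.appLE_comp_appLE, Scheme.Hom.appLE_comp_appLE]
      exact appLE_congr_hom hj₂ _ _ _ _


end Groth.Agent.H9.PIN
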