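import Groth.Agent.Lib.Helper9.Misc.PIN2

set_option linter.style.haveILetI false
set_option linter.unusedSectionVars false
set_option linter.unusedVariables false

namespace Groth.Agent.H9.PIN

open AlgebraicGeometry CategoryTheory Limits TopologicalSpace Opposite

universe u

variable {X Y Z P : Scheme.{u}}

section Loc

/-- the localization properties of the restriction to a basic open, in a form robust under
propositional equality of opens. -/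
theorem res_basicOpen_props {X : Scheme.{u}} {U : X.Opens} (hU : IsAffineOpen U) (f : Γ(X, U))
    (U' : X.Opens) (hU' : U' = X.basicOpen f) (hle : U' ≤ U) :
    IsUnit (X.presheaf.map (homOfLE hle).op f) ∧
    (∀ t : Γ(X, U'), ∃ (n : ℕ) (s : Γ(X, U)),
      (X.presheaf.map (homOfLE hle).op f) ^ n * t = X.presheaf.map (homOfLE hle).op s) ∧
    (∀ s : Γ(X, U), X.presheaf.map (homOfLE hle).op s = 0 → ∃ n : ℕ, f ^ n * s = 0) := by
  subst hU'
  have := hU.isLocalization_basicOpen f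
  have hres : ∀ s : Γ(X, U), X.presheaf.map (homOfLE hle).op s =
      algebraMap Γ(X, U) Γ(X, X.basicOpen f) s := fun s => rfl
  refine ⟨?_, ?_, ?_⟩
  · rw [hres]
    exact IsLocalization.Away.algebraMap_isUnit f
  · intro t
    obtain ⟨⟨s, ⟨_, n, rfl⟩⟩, hs⟩ := IsLocalization.surj (Submonoid.powers f) t
    refine ⟨n, s, ?_⟩
    rw [hres, hres, ← hs, map_pow, mul_comm]
  · intro s hs
    rw [hres, ← map_zero (algebraMap Γ(X, U) Γ(X, X.basicOpen f)),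
      IsLocalization.eq_iff_exists (Submonoid.powers f)] at hs
    obtain ⟨⟨_, n, rfl⟩, hn⟩ := hs
    exact ⟨n, by simpa using hn⟩

end Loc

section AlgLoc

/-- `ρ : R → R'` behaves like the localization at `f`. -/
def LocLike {R R' : Type*} [CommRing R] [CommRing R'] (ρ : R →+* R') (f : R) : Prop :=
  IsUnit (ρ f) ∧ (∀ t : R', ∃ (n : ℕ) (s : R), ρ f ^ n * t = ρ s) ∧
    (∀ s : R, ρ s = 0 → ∃ n : ℕ, f ^ n * s = 0)

variable {RP RX RY RZ RP' RX' RY' RZ' : Type*} [CommRing RP] [CommRing RX] [CommRing RY]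
  [CommRing RZ] [CommRing RP'] [CommRing RX'] [CommRing RY'] [CommRing RZ']

theorem sqCart_of_locLike (α : RP →+* RX) (β : RP →+* RY) (γ : RX →+* RZ) (δ : RY →+* RZ)
    (α' : RP' →+* RX') (β' : RP' →+* RY') (γ' : RX' →+* RZ') (δ' : RY' →+* RZ')
    (ρP : RP →+* RP') (ρX : RX →+* RX') (ρY : RY →+* RY') (ρZ : RZ →+* RZ')
    (c1 : ∀ s, α' (ρP s) = ρX (α s)) (c2 : ∀ s, β' (ρP s) = ρY (β s))
    (c3 : ∀ s, γ' (ρX s) = ρZ (γ s)) (c4 : ∀ s, δ' (ρY s) = ρZ (δ s))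
    (r : RP) (hr : δ (β r) = γ (α r))
    (lP : LocLike ρP r) (lX : LocLike ρX (α r)) (lY : LocLike ρY (β r))
    (lZ : LocLike ρZ (γ (α r)))
    (h : SqCart α β γ δ) : SqCart α' β' γ' δ' := by
  obtain ⟨uP, sP, zP⟩ := lP
  obtain ⟨uX, sX', zX⟩ := lX
  obtain ⟨uY, sY', zY⟩ := lY
  obtain ⟨uZ, sZ', zZ⟩ := lZ
  refine ⟨?_, ?_⟩
  · intro s hsa hsb
    obtain ⟨n, s₀, hs₀⟩ := sP s
    have h1 : ρX (α s₀) = 0 := by
      rw [← c1, ← hs₀, map_mul, hsa, mul_zero]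
    have h2 : ρY (β s₀) = 0 := by
      rw [← c2, ← hs₀, map_mul, hsb, mul_zero]
    obtain ⟨m, hm⟩ := zX _ h1
    obtain ⟨m', hm'⟩ := zY _ h2
    have h3 : r ^ (m + m') * s₀ = 0 := by
      refine h.1 _ ?_ ?_
      · have : α (r ^ (m + m') * s₀) = α r ^ m' * (α r ^ m * α s₀) := by
          rw [map_mul, map_pow, pow_add]; ring
        rw [this, hm, mul_zero]
      · have : β (r ^ (m + m') * s₀) = β r ^ m * (β r ^ m' * β s₀) := by
          rw [map_mul, map_pow, pow_add]; ring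
        rw [this, hm', mul_zero]
    have h4 : ρP s₀ = 0 := by
      have : ρP r ^ (m + m') * ρP s₀ = 0 := by
        rw [← map_pow, ← map_mul, h3, map_zero]
      exact ((uP.pow (m + m')).mul_right_eq_zero).mp this
    rw [h4] at hs₀
    exact ((uP.pow n).mul_right_eq_zero).mp hs₀
  · intro sX sY hcompat
    obtain ⟨n₁, x₀, hx₀⟩ := sX' sX
    obtain ⟨n₂, y₀, hy₀⟩ := sY' sY
    have hx₁' : ρX (α r) ^ (n₁ + n₂) * sX = ρX (α r ^ n₂ * x₀) := by
      rw [map_mul, map_pow, ← hx₀, pow_add]; ring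
    have hy₁' : ρY (β r) ^ (n₁ + n₂) * sY = ρY (β r ^ n₁ * y₀) := by
      rw [map_mul, map_pow, ← hy₀, pow_add]; ring
    have hz : ρZ (γ (α r ^ n₂ * x₀) - δ (β r ^ n₁ * y₀)) = 0 := by
      rw [map_sub, ← c3, ← c4, ← hx₁', ← hy₁', map_mul, map_mul, map_pow, map_pow, c3, c4,
        hr, hcompat, sub_self]
    obtain ⟨m, hm⟩ := zZ _ hz
    have hcomp₀ : γ (α r ^ m * (α r ^ n₂ * x₀)) = δ (β r ^ m * (β r ^ n₁ * y₀)) := by
      rw [map_mul γ, map_mul δ, map_pow, map_pow, hr, ← sub_eq_zero, ← mul_sub]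
      exact hm
    obtain ⟨s₀, hs₀a, hs₀b⟩ := h.2 _ _ hcomp₀
    obtain ⟨uu, huu⟩ := uP
    have hF1 : ρP r ^ (n₁ + n₂ + m) * (↑(uu⁻¹ ^ (n₁ + n₂ + m)) : RP') = 1 := by
      rw [← huu, ← Units.val_pow_eq_pow_val, ← Units.val_mul, ← mul_pow, mul_inv_cancel, one_pow,
        Units.val_one]
    refine ⟨(↑(uu⁻¹ ^ (n₁ + n₂ + m)) : RP') * ρP s₀, ?_, ?_⟩
    · have hcancel : ρX (α r) ^ (n₁ + n₂ + m) * α' ((↑(uu⁻¹ ^ (n₁ + n₂ + m)) : RP') * ρP s₀) =
          ρX (α r) ^ (n₁ + n₂ + m) * sX := by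
        calc ρX (α r) ^ (n₁ + n₂ + m) * α' ((↑(uu⁻¹ ^ (n₁ + n₂ + m)) : RP') * ρP s₀)
            = α' (ρP r ^ (n₁ + n₂ + m) * (↑(uu⁻¹ ^ (n₁ + n₂ + m)) : RP')) * α' (ρP s₀) := by
              rw [← c1, map_mul, map_mul, map_pow]; ring
          _ = ρX (α r) ^ m * (ρX (α r) ^ (n₁ + n₂) * sX) := by
              rw [hF1, map_one, one_mul, c1, hs₀a, map_mul, map_pow, ← hx₁']
          _ = ρX (α r) ^ (n₁ + n₂ + m) * sX := by
              rw [pow_add _ (n₁ + n₂) m]; ring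
      exact ((uX.pow (n₁ + n₂ + m)).mul_left_cancel) hcancel
    · have hcancel : ρY (β r) ^ (n₁ + n₂ + m) * β' ((↑(uu⁻¹ ^ (n₁ + n₂ + m)) : RP') * ρP s₀) =
          ρY (β r) ^ (n₁ + n₂ + m) * sY := by
        calc ρY (β r) ^ (n₁ + n₂ + m) * β' ((↑(uu⁻¹ ^ (n₁ + n₂ + m)) : RP') * ρP s₀)
            = β' (ρP r ^ (n₁ + n₂ + m) * (↑(uu⁻¹ ^ (n₁ + n₂ + m)) : RP')) * β' (ρP s₀) := by
              rw [← c2, map_mul, map_mul, map_pow]; ring
          _ = ρY (β r) ^ m * (ρY (β r) ^ (n₁ + n₂) * sY) := by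
              rw [hF1, map_one, one_mul, c2, hs₀b, map_mul, map_pow, ← hy₁']
          _ = ρY (β r) ^ (n₁ + n₂ + m) * sY := by
              rw [pow_add _ (n₁ + n₂) m]; ring
      exact ((uY.pow (n₁ + n₂ + m)).mul_left_cancel) hcancel

end AlgLoc

section Loc2

theorem locLike_res_basicOpen {X : Scheme.{u}} {U : X.Opens} (hU : IsAffineOpen U) (f : Γ(X, U))
    (U' : X.Opens) (hU' : U' = X.basicOpen f) (hle : U' ≤ U) :
    LocLike (X.presheaf.map (homOfLE hle).op).hom f :=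
  res_basicOpen_props hU f U' hU' hle

variable {i : Z ⟶ X} {j : Z ⟶ Y} {a : X ⟶ P} {b : Y ⟶ P}

/-- pinching at an affine open with affine preimages passes to basic opens. -/
theorem pinchAt_basicOpen (sq : i ≫ a = j ≫ b) {W : P.Opens} (hW : IsAffineOpen W)
    (hX : IsAffineOpen (a ⁻¹ᵁ W)) (hY : IsAffineOpen (b ⁻¹ᵁ W))
    (hZ : IsAffineOpen (i ⁻¹ᵁ a ⁻¹ᵁ W)) (h : PinchAt i j a b W) (r : Γ(P, W)) :
    PinchAt i j a b (P.basicOpen r) := by
  have hle : ∀ W : P.Opens, i ⁻¹ᵁ a ⁻¹ᵁ W ≤ j ⁻¹ᵁ b ⁻¹ᵁ W := by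
    intro W
    rw [← Scheme.Hom.comp_preimage, ← Scheme.Hom.comp_preimage, sq]
  have hDW : P.basicOpen r ≤ W := P.basicOpen_le r
  rw [pinchAt_iff_sqCart _ (hle _)]
  rw [pinchAt_iff_sqCart _ (hle _)] at h
  refine sqCart_of_locLike (a.app W).hom (b.app W).hom (i.app (a ⁻¹ᵁ W)).hom
    (j.appLE (b ⁻¹ᵁ W) (i ⁻¹ᵁ a ⁻¹ᵁ W) (hle W)).hom
    (a.app (P.basicOpen r)).hom (b.app (P.basicOpen r)).hom
    (i.app (a ⁻¹ᵁ (P.basicOpen r))).hom
    (j.appLE (b ⁻¹ᵁ (P.basicOpen r)) (i ⁻¹ᵁ a ⁻¹ᵁ (P.basicOpen r)) (hle _)).hom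
    (P.presheaf.map (homOfLE hDW).op).hom
    (X.presheaf.map (homOfLE (a.preimage_mono hDW)).op).hom
    (Y.presheaf.map (homOfLE (b.preimage_mono hDW)).op).hom
    (Z.presheaf.map (homOfLE (i.preimage_mono (a.preimage_mono hDW))).op).hom
    (fun s => app_res a hDW s) (fun s => app_res b hDW s)
    (fun s => app_res i (a.preimage_mono hDW) s)
    (fun s => appLE_res j (b.preimage_mono hDW) (hle W) (hle _)
      (i.preimage_mono (a.preimage_mono hDW)) s)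
    r ?_
    (locLike_res_basicOpen hW r _ rfl hDW)
    (locLike_res_basicOpen hX (a.app W r) _ (Scheme.preimage_basicOpen a r) _)
    (locLike_res_basicOpen hY (b.app W r) _ (Scheme.preimage_basicOpen b r) _)
    (locLike_res_basicOpen hZ (i.app (a ⁻¹ᵁ W) (a.app W r)) _
      (by rw [Scheme.preimage_basicOpen a r, Scheme.preimage_basicOpen i]) _)
    h
  have : b.app W ≫ j.appLE (b ⁻¹ᵁ W) (i ⁻¹ᵁ a ⁻¹ᵁ W) (hle W) = a.app W ≫ i.app (a ⁻¹ᵁ W) := by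
    rw [Scheme.Hom.app_eq_appLE, Scheme.Hom.app_eq_appLE, Scheme.Hom.app_eq_appLE,
      Scheme.Hom.appLE_comp_appLE, Scheme.Hom.appLE_comp_appLE]
    exact appLE_congr_hom sq.symm _ _ _ _
  exact congr($this r)

end Loc2

end Groth.Agent.H9.PIN
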