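import Mathlib
import Groth.Agent.Lib.Helper9.Misc.PIN26
import Groth.Agent.Lib.Helper9.Misc.FPA1
set_option autoImplicit false
set_option linter.style.haveILetI false
set_option linter.unusedSectionVars false
set_option linter.unusedVariables false

/-! Helper9: base change of a pushout (closed immersion, affine morphism) whose corner is flat
over the base (S16715). -/

namespace Groth.Agent.H9.PIN

open AlgebraicGeometry CategoryTheory Limits TopologicalSpace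

universe u

theorem isPullback_map_left {A B S S' : Scheme.{u}} (u : A ⟶ B) (β : B ⟶ S) (α : A ⟶ S)
    (hα : α = u ≫ β) (g : S' ⟶ S) (e₁ : α ≫ 𝟙 S = u ≫ β) (e₂ : g ≫ 𝟙 S = 𝟙 S' ≫ g) :
    IsPullback (pullback.fst α g) (pullback.map α g β g u (𝟙 S') (𝟙 S) e₁ e₂) u
      (pullback.fst β g) := by
  subst hα
  have h1 : pullback.map (u ≫ β) g β g u (𝟙 S') (𝟙 S) e₁ e₂ ≫ pullback.snd β g =
      pullback.snd (u ≫ β) g := by
    rw [pullback.lift_snd, Category.comp_id]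
  refine IsPullback.of_bot ?_ ?_ (IsPullback.of_hasPullback β g)
  · rw [h1]
    exact IsPullback.of_hasPullback (u ≫ β) g
  · rw [pullback.lift_fst]

theorem S16715_main {X₀ X Y₀ Y S S' : Scheme.{u}}
    (i : X₀ ⟶ X) [IsClosedImmersion i] (f₀ : X₀ ⟶ Y₀) [IsAffineHom f₀] (f : X ⟶ Y) [IsAffineHom f]
    (j : Y₀ ⟶ Y) [IsClosedImmersion j] (hpo : IsPushout i f₀ f j)
    (q : Y ⟶ S) [Flat ((i ≫ f) ≫ q)] (g : S' ⟶ S)
    (e₁ e₂ e₃ e₄ e₅ e₆ e₇ e₈) :
    IsPushout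
      (pullback.map ((i ≫ f) ≫ q) g (f ≫ q) g i (𝟙 S') (𝟙 S) e₁ e₂)
      (pullback.map ((i ≫ f) ≫ q) g (j ≫ q) g f₀ (𝟙 S') (𝟙 S) e₃ e₄)
      (pullback.map (f ≫ q) g q g f (𝟙 S') (𝟙 S) e₅ e₆)
      (pullback.map (j ≫ q) g q g j (𝟙 S') (𝟙 S) e₇ e₈) := by
  have hcovY : ∀ y : Y₀, ∃ k : CPair i f₀, y ∈ k.V := by
    intro y
    obtain ⟨W, hW, hyW, -⟩ := exists_isAffineOpen_mem_and_subset (x := j y) (U := ⊤) trivial
    refine ⟨⟨f ⁻¹ᵁ W, j ⁻¹ᵁ W, hW.preimage f, hW.preimage j, ?_⟩, hyW⟩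
    rw [← Scheme.Hom.comp_preimage, ← Scheme.Hom.comp_preimage, hpo.w]
  obtain ⟨hp, -⟩ := FPA.isPinch_of_isPushout' hcovY hpo
  haveI : Flat (i ≫ f ≫ q) := by
    rw [← Category.assoc]
    infer_instance
  have hpT := hp.baseChange_of_flat (fun U : Y.affineOpens => U.1)
    (fun p => by
      obtain ⟨W, hW, hpW, -⟩ := exists_isAffineOpen_mem_and_subset (x := p) (U := ⊤) trivial
      exact ⟨⟨W, hW⟩, hpW⟩)
    (fun U => ⟨U.2, U.2.preimage f, U.2.preimage j⟩) q g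
    (pullback.fst q g) (pullback.snd q g) (IsPullback.of_hasPullback q g)
    (pullback.fst (f ≫ q) g) (pullback.map (f ≫ q) g q g f (𝟙 S') (𝟙 S) e₅ e₆)
    (isPullback_map_left f q (f ≫ q) rfl g e₅ e₆)
    (pullback.fst (j ≫ q) g) (pullback.map (j ≫ q) g q g j (𝟙 S') (𝟙 S) e₇ e₈)
    (isPullback_map_left j q (j ≫ q) rfl g e₇ e₈)
    (pullback.fst ((i ≫ f) ≫ q) g)
    (pullback.map ((i ≫ f) ≫ q) g (f ≫ q) g i (𝟙 S') (𝟙 S) e₁ e₂)
    (isPullback_map_left i (f ≫ q) ((i ≫ f) ≫ q) (Category.assoc _ _ _) g e₁ e₂)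
    (pullback.map ((i ≫ f) ≫ q) g (j ≫ q) g f₀ (𝟙 S') (𝟙 S) e₃ e₄)
    (pullback.lift_fst _ _ _)
    (by
      apply pullback.hom_ext
      · simp only [Category.assoc, pullback.lift_fst, pullback.lift_fst_assoc, hpo.w]
      · simp only [Category.assoc, pullback.lift_snd, pullback.lift_snd_assoc])
  exact hpT.isPushout

end Groth.Agent.H9.PIN
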