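import Groth.Agent.Lib.Helper9.Misc.PIN5

set_option linter.style.haveILetI false
set_option linter.unusedSectionVars false
set_option linter.unusedVariables false

namespace Groth.Agent.H9.PIN

open AlgebraicGeometry CategoryTheory Limits TopologicalSpace Opposite

universe u

variable {X Y Z P S : Scheme.{u}}

section ClosedUnion

/-- a criterion for closed subschemes `X, Y ⊆ P ⊆ S` with "`P = X ∪ Y`, `Z = X ∩ Y`". -/
theorem isPinch_of_closedImmersions (i : Z ⟶ X) (j : Z ⟶ Y) (a : X ⟶ P) (b : Y ⟶ P)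
    (ιP : P ⟶ S) [IsClosedImmersion ιP] [IsClosedImmersion a] [IsClosedImmersion b]
    [IsAffineHom i] (w : i ≫ a = j ≫ b)
    (hsurj : ∀ p : P, (∃ x, a x = p) ∨ ∃ y, b y = p)
    (hZ : ∀ x y, a x = b y → ∃ z, i z = x ∧ j z = y)
    (hinf : ∀ S' : S.affineOpens, ∀ t : Γ(S, S'.1), a.app (ιP ⁻¹ᵁ S'.1) (ιP.app S'.1 t) = 0 →
      b.app (ιP ⁻¹ᵁ S'.1) (ιP.app S'.1 t) = 0 → ιP.app S'.1 t = 0)
    (hsup : ∀ S' : S.affineOpens, ∀ t : Γ(S, S'.1),
      i.app (a ⁻¹ᵁ ιP ⁻¹ᵁ S'.1) (a.app (ιP ⁻¹ᵁ S'.1) (ιP.app S'.1 t)) = 0 →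
      ∃ u v, t = u + v ∧ a.app (ιP ⁻¹ᵁ S'.1) (ιP.app S'.1 u) = 0 ∧
        b.app (ιP ⁻¹ᵁ S'.1) (ιP.app S'.1 v) = 0) :
    IsPinch i j a b := by
  refine ⟨w, hsurj, ?_, ?_⟩
  · intro U V hUV
    have hc : IsClosed (a '' (U : Set X)ᶜ ∪ b '' (V : Set Y)ᶜ) :=
      (a.isClosedEmbedding.isClosedMap _ U.2.isClosed_compl).union
        (b.isClosedEmbedding.isClosedMap _ V.2.isClosed_compl)
    refine ⟨⟨_, hc.isOpen_compl⟩, ?_, ?_⟩
    · ext x
      simp only [Scheme.Hom.coe_preimage, Opens.coe_mk, Set.mem_preimage, Set.mem_compl_iff,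
        Set.mem_union, Set.mem_image, SetLike.mem_coe, not_or, not_exists, not_and]
      constructor
      · rintro ⟨h1, -⟩
        by_contra hx
        exact h1 x hx rfl
      · intro hx
        refine ⟨fun x' hx' hxx' => hx' ?_, fun y hy hyx => hy ?_⟩
        · rw [a.isClosedEmbedding.injective hxx']; exact hx
        · obtain ⟨z, rfl, rfl⟩ := hZ x y hyx.symm
          have : z ∈ i ⁻¹ᵁ U := hx
          rw [hUV] at this
          exact this
    · ext y
      simp only [Scheme.Hom.coe_preimage, Opens.coe_mk, Set.mem_preimage, Set.mem_compl_iff,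
        Set.mem_union, Set.mem_image, SetLike.mem_coe, not_or, not_exists, not_and]
      constructor
      · rintro ⟨-, h2⟩
        by_contra hy
        exact h2 y hy rfl
      · intro hy
        refine ⟨fun x hx hxy => hx ?_, fun y' hy' hyy' => hy' ?_⟩
        · obtain ⟨z, rfl, rfl⟩ := hZ x y hxy
          have : z ∈ j ⁻¹ᵁ V := hy
          rw [← hUV] at this
          exact this
        · rw [b.isClosedEmbedding.injective hyy']; exact hy
  · refine pinchAt_of_affine_cover w {W | ∃ S' : S.affineOpens, W = ιP ⁻¹ᵁ S'.1} ?_ ?_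
    · intro p
      obtain ⟨S', hS', hp, -⟩ := exists_isAffineOpen_mem_and_subset (x := ιP p) (U := ⊤) trivial
      exact ⟨_, ⟨⟨S', hS'⟩, rfl⟩, hp⟩
    · rintro W ⟨S', rfl⟩
      have hW : IsAffineOpen (ιP ⁻¹ᵁ S'.1) := S'.2.preimage ιP
      have hXW : IsAffineOpen (a ⁻¹ᵁ ιP ⁻¹ᵁ S'.1) := hW.preimage a
      have hYW : IsAffineOpen (b ⁻¹ᵁ ιP ⁻¹ᵁ S'.1) := hW.preimage b
      have hZW : IsAffineOpen (i ⁻¹ᵁ a ⁻¹ᵁ ιP ⁻¹ᵁ S'.1) := hXW.preimage i
      refine ⟨hW, hXW, hYW, hZW, ?_, ?_⟩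
      · intro s ha hb
        obtain ⟨t, rfl⟩ := Scheme.Hom.app_surjective ιP S'.1 S'.2 s
        exact hinf S' t ha hb
      · intro e sX sY hcompat
        obtain ⟨sX', rfl⟩ := Scheme.Hom.app_surjective a _ hW sX
        obtain ⟨sY', rfl⟩ := Scheme.Hom.app_surjective b _ hW sY
        obtain ⟨tX, rfl⟩ := Scheme.Hom.app_surjective ιP S'.1 S'.2 sX'
        obtain ⟨tY, rfl⟩ := Scheme.Hom.app_surjective ιP S'.1 S'.2 sY'
        have hsq : b.app (ιP ⁻¹ᵁ S'.1) ≫ j.appLE (b ⁻¹ᵁ ιP ⁻¹ᵁ S'.1)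
            (i ⁻¹ᵁ a ⁻¹ᵁ ιP ⁻¹ᵁ S'.1) e = a.app (ιP ⁻¹ᵁ S'.1) ≫ i.app (a ⁻¹ᵁ ιP ⁻¹ᵁ S'.1) := by
          rw [Scheme.Hom.app_eq_appLE, Scheme.Hom.app_eq_appLE, Scheme.Hom.app_eq_appLE,
            Scheme.Hom.appLE_comp_appLE, Scheme.Hom.appLE_comp_appLE]
          exact appLE_congr_hom w.symm _ _ _ _
        have hsq' : ∀ s : Γ(P, ιP ⁻¹ᵁ S'.1), j.appLE (b ⁻¹ᵁ ιP ⁻¹ᵁ S'.1)
            (i ⁻¹ᵁ a ⁻¹ᵁ ιP ⁻¹ᵁ S'.1) e (b.app (ιP ⁻¹ᵁ S'.1) s) =
            i.app (a ⁻¹ᵁ ιP ⁻¹ᵁ S'.1) (a.app (ιP ⁻¹ᵁ S'.1) s) := fun s => congr($hsq s)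
        have hdiff : i.app (a ⁻¹ᵁ ιP ⁻¹ᵁ S'.1) (a.app (ιP ⁻¹ᵁ S'.1) (ιP.app S'.1 (tX - tY))) = 0 := by
          rw [map_sub, map_sub, map_sub, sub_eq_zero, hcompat, hsq']
        obtain ⟨u, v, huv, hu, hv⟩ := hsup S' _ hdiff
        have h4 : tX - u = tY + v := by
          have : tX = tY + (u + v) := by rw [← huv]; ring
          rw [this]; ring
        refine ⟨ιP.app S'.1 (tX - u), ?_, ?_⟩
        · rw [map_sub, map_sub, hu, sub_zero]
        · rw [h4, map_add, map_add, hv, add_zero]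

end ClosedUnion

section S9383

variable {S : Scheme.{u}}

instance isClosedImmersion_inclusion {I J : S.IdealSheafData} (h : I ≤ J) :
    IsClosedImmersion (Scheme.IdealSheafData.inclusion h) := by
  have : IsClosedImmersion (Scheme.IdealSheafData.inclusion h ≫ I.subschemeι) := by
    rw [Scheme.IdealSheafData.inclusion_subschemeι]; infer_instance
  exact IsClosedImmersion.of_comp _ I.subschemeι

theorem support_inf_subset (I J : S.IdealSheafData) :
    ((I ⊓ J).support : Set S) ⊆ (I.support : Set S) ∪ (J.support : Set S) := by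
  intro x hx
  by_contra hcon
  rw [Set.mem_union, not_or] at hcon
  obtain ⟨U, hU, hxU, -⟩ := exists_isAffineOpen_mem_and_subset (x := x) (U := ⊤) trivial
  have h1 := hcon.1
  have h2 := hcon.2
  rw [SetLike.mem_coe, Scheme.IdealSheafData.mem_support_iff_of_mem (U := ⟨U, hU⟩) hxU,
    Scheme.mem_zeroLocus_iff] at h1 h2 hx
  push Not at h1 h2
  obtain ⟨f, hf, hxf⟩ := h1
  obtain ⟨g, hg, hxg⟩ := h2
  refine hx (f * g) ?_ ?_
  · exact ⟨Ideal.mul_mem_right _ _ hf, Ideal.mul_mem_left _ _ hg⟩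
  · rw [Scheme.basicOpen_mul]
    exact ⟨hxf, hxg⟩

theorem inclusion_apply_eq {I J : S.IdealSheafData} (h : I ≤ J) (x : J.subscheme) :
    I.subschemeι (Scheme.IdealSheafData.inclusion h x) = J.subschemeι x := by
  rw [← Scheme.Hom.comp_apply, Scheme.IdealSheafData.inclusion_subschemeι]

/-- kernel of `inclusion` on the standard affine opens. -/
theorem inclusion_app_eq_zero_iff {I J : S.IdealSheafData} (h : I ≤ J) (S' : S.affineOpens)
    (t : Γ(S, S'.1)) :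
    (Scheme.IdealSheafData.inclusion h).app (I.subschemeι ⁻¹ᵁ S'.1) (I.subschemeι.app S'.1 t) = 0 ↔
      t ∈ J.ideal S' := by
  rw [← J.ker_subschemeι_app S', RingHom.mem_ker]
  have : I.subschemeι.app S'.1 ≫ (Scheme.IdealSheafData.inclusion h).app (I.subschemeι ⁻¹ᵁ S'.1) =
      (Scheme.IdealSheafData.inclusion h ≫ I.subschemeι).app S'.1 := by
    rw [Scheme.Hom.comp_app]
  have h2 : ∀ (k k' : J.subscheme ⟶ S) (hk : k = k'), k.app S'.1 t = 0 ↔ k'.app S'.1 t = 0 := by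
    rintro k _ rfl; rfl
  have h3 := h2 _ _ (Scheme.IdealSheafData.inclusion_subschemeι h)
  rw [← this] at h3
  exact h3

theorem S9383_main (S : Scheme.{u}) (I J : S.IdealSheafData) :
    IsPushout (Scheme.IdealSheafData.inclusion (le_sup_left : I ≤ I ⊔ J))
      (Scheme.IdealSheafData.inclusion (le_sup_right : J ≤ I ⊔ J))
      (Scheme.IdealSheafData.inclusion (inf_le_left : I ⊓ J ≤ I))
      (Scheme.IdealSheafData.inclusion (inf_le_right : I ⊓ J ≤ J)) := by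
  refine (isPinch_of_closedImmersions _ _ _ _ (I ⊓ J).subschemeι ?_ ?_ ?_ ?_ ?_).isPushout
  · rw [Scheme.IdealSheafData.inclusion_comp, Scheme.IdealSheafData.inclusion_comp]
  · intro p
    have hp : (I ⊓ J).subschemeι p ∈ ((I ⊓ J).support : Set S) := by
      rw [← Scheme.IdealSheafData.range_subschemeι]; exact ⟨p, rfl⟩
    rcases support_inf_subset I J hp with h1 | h1
    · rw [← Scheme.IdealSheafData.range_subschemeι] at h1
      obtain ⟨x, hx⟩ := h1
      refine Or.inl ⟨x, (I ⊓ J).subschemeι.isClosedEmbedding.injective ?_⟩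
      rw [inclusion_apply_eq, hx]
    · rw [← Scheme.IdealSheafData.range_subschemeι] at h1
      obtain ⟨y, hy⟩ := h1
      refine Or.inr ⟨y, (I ⊓ J).subschemeι.isClosedEmbedding.injective ?_⟩
      rw [inclusion_apply_eq, hy]
  · intro x y hxy
    have h1 : I.subschemeι x = J.subschemeι y := by
      rw [← inclusion_apply_eq (inf_le_left : I ⊓ J ≤ I), ← inclusion_apply_eq
        (inf_le_right : I ⊓ J ≤ J), hxy]
    have h2 : I.subschemeι x ∈ ((I ⊔ J).support : Set S) := by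
      rw [Scheme.IdealSheafData.support_sup]
      refine ⟨?_, ?_⟩
      · rw [← Scheme.IdealSheafData.range_subschemeι]; exact ⟨x, rfl⟩
      · rw [h1, ← Scheme.IdealSheafData.range_subschemeι]; exact ⟨y, rfl⟩
    rw [← Scheme.IdealSheafData.range_subschemeι] at h2
    obtain ⟨z, hz⟩ := h2
    refine ⟨z, I.subschemeι.isClosedEmbedding.injective ?_,
      J.subschemeι.isClosedEmbedding.injective ?_⟩
    · rw [inclusion_apply_eq, hz]
    · rw [inclusion_apply_eq, hz, h1]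
  · intro S' t h1 h2
    rw [inclusion_app_eq_zero_iff] at h1 h2
    have : t ∈ (I ⊓ J).ideal S' := ⟨h1, h2⟩
    rw [← (I ⊓ J).ker_subschemeι_app S', RingHom.mem_ker] at this
    exact this
  · intro S' t ht
    have h1 : (Scheme.IdealSheafData.inclusion (le_sup_left : I ≤ I ⊔ J) ≫
        Scheme.IdealSheafData.inclusion (inf_le_left : I ⊓ J ≤ I)).app
          ((I ⊓ J).subschemeι ⁻¹ᵁ S'.1) ((I ⊓ J).subschemeι.app S'.1 t) = 0 := by
      rw [Scheme.Hom.comp_app]; exact ht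
    have h2 : ∀ (k k' : (I ⊔ J).subscheme ⟶ (I ⊓ J).subscheme) (hk : k = k'),
        k.app ((I ⊓ J).subschemeι ⁻¹ᵁ S'.1) ((I ⊓ J).subschemeι.app S'.1 t) = 0 →
        k'.app ((I ⊓ J).subschemeι ⁻¹ᵁ S'.1) ((I ⊓ J).subschemeι.app S'.1 t) = 0 := by
      rintro k _ rfl hk; exact hk
    have h3 := h2 _ _ (Scheme.IdealSheafData.inclusion_comp _ _) h1
    rw [inclusion_app_eq_zero_iff, Scheme.IdealSheafData.ideal_sup] at h3
    obtain ⟨u, hu, v, hv, huv⟩ := Submodule.mem_sup.mp h3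
    refine ⟨u, v, huv.symm, ?_, ?_⟩
    · rw [inclusion_app_eq_zero_iff]; exact hu
    · rw [inclusion_app_eq_zero_iff]; exact hv

end S9383

end Groth.Agent.H9.PIN
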