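import Groth.Agent.Lib.Helper9.Misc.PIN7

set_option linter.style.haveILetI false
set_option linter.unusedSectionVars false
set_option linter.unusedVariables false

namespace Groth.Agent.H9.PIN

open AlgebraicGeometry CategoryTheory Limits TopologicalSpace Opposite

universe u

section Glue

variable {X Y Z : Scheme.{u}} (i : Z ⟶ X) (j : Z ⟶ Y)

/-- compatible pairs of affine opens. -/
structure CPair where
  U : X.Opens
  V : Y.Opens
  hU : IsAffineOpen U
  hV : IsAffineOpen V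
  h : i ⁻¹ᵁ U = j ⁻¹ᵁ V

namespace CPair

variable {i j}

instance : Preorder (CPair i j) where
  le k l := k.U ≤ l.U ∧ k.V ≤ l.V
  le_refl k := ⟨le_rfl, le_rfl⟩
  le_trans k l m h1 h2 := ⟨h1.1.trans h2.1, h1.2.trans h2.2⟩

theorem le_def {k l : CPair i j} : k ≤ l ↔ k.U ≤ l.U ∧ k.V ≤ l.V := Iff.rfl

/-- the open of `Z` over a compatible pair. -/
def N (k : CPair i j) : Z.Opens := i ⁻¹ᵁ k.U

theorem N_le {k l : CPair i j} (h : k ≤ l) : k.N ≤ l.N := i.preimage_mono h.1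

theorem N_eq (k : CPair i j) : k.N = j ⁻¹ᵁ k.V := k.h

/-- the restriction of `i` over a compatible pair. -/
noncomputable def iK (k : CPair i j) : k.N.toScheme ⟶ k.U.toScheme := i ∣_ k.U

/-- the restriction of `j` over a compatible pair. -/
noncomputable def jK (k : CPair i j) : k.N.toScheme ⟶ k.V.toScheme := j.resLE k.V k.N (le_of_eq k.h)

@[reassoc]
theorem iK_ι (k : CPair i j) : k.iK ≫ k.U.ι = k.N.ι ≫ i := morphismRestrict_ι _ _

@[reassoc]
theorem jK_ι (k : CPair i j) : k.jK ≫ k.V.ι = k.N.ι ≫ j := Scheme.Hom.resLE_comp_ι _ _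

theorem iK_apply (k : CPair i j) (z : k.N.toScheme) : (k.iK z).1 = i z.1 :=
  congr($(k.iK_ι) z)

theorem jK_apply (k : CPair i j) (z : k.N.toScheme) : (k.jK z).1 = j z.1 :=
  congr($(k.jK_ι) z)

instance (k : CPair i j) : IsAffine k.U.toScheme := k.hU

instance (k : CPair i j) : IsAffine k.V.toScheme := k.hV

instance (k : CPair i j) [IsClosedImmersion i] : IsClosedImmersion k.iK :=
  IsZariskiLocalAtTarget.restrict ‹_› k.U

@[reassoc]
theorem iK_homOfLE {k l : CPair i j} (h : k ≤ l) :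
    k.iK ≫ X.homOfLE h.1 = Z.homOfLE (N_le h) ≫ l.iK := by
  rw [← cancel_mono l.U.ι, Category.assoc, Category.assoc, Scheme.homOfLE_ι, iK_ι, iK_ι,
    Scheme.homOfLE_ι_assoc]

@[reassoc]
theorem jK_homOfLE {k l : CPair i j} (h : k ≤ l) :
    k.jK ≫ Y.homOfLE h.2 = Z.homOfLE (N_le h) ≫ l.jK := by
  rw [← cancel_mono l.V.ι, Category.assoc, Category.assoc, Scheme.homOfLE_ι, jK_ι, jK_ι,
    Scheme.homOfLE_ι_assoc]

variable [IsClosedImmersion i]

instance hasPushout (k : CPair i j) : HasPushout k.iK k.jK := by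
  obtain ⟨P₁, a₁, b₁, -, hp⟩ := exists_affine_pinch k.iK k.jK
  exact hp.isPushout.hasPushout

/-- the affine pinching over a compatible pair. -/
noncomputable abbrev F (k : CPair i j) : Scheme.{u} := pushout k.iK k.jK

/-- the map from `k.U` to the affine pinching. -/
noncomputable abbrev inl (k : CPair i j) : k.U.toScheme ⟶ k.F := pushout.inl _ _

/-- the map from `k.V` to the affine pinching. -/
noncomputable abbrev inr (k : CPair i j) : k.V.toScheme ⟶ k.F := pushout.inr _ _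

theorem isPinch_F (k : CPair i j) : IsPinch k.iK k.jK k.inl k.inr := by
  obtain ⟨P₁, a₁, b₁, -, hp⟩ := exists_affine_pinch k.iK k.jK
  have := hp.of_iso hp.isPushout.isoPushout
  rwa [IsPushout.inl_isoPushout_hom, IsPushout.inr_isoPushout_hom] at this

instance isAffine_F (k : CPair i j) : IsAffine k.F := by
  obtain ⟨P₁, a₁, b₁, hP₁, hp⟩ := exists_affine_pinch k.iK k.jK
  exact IsAffine.of_isIso hp.isPushout.isoPushout.inv

/-- the transition maps. -/
noncomputable def Fmap {k l : CPair i j} (h : k ≤ l) : k.F ⟶ l.F :=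
  pushout.map _ _ _ _ (X.homOfLE h.1) (Y.homOfLE h.2) (Z.homOfLE (N_le h)) (iK_homOfLE h)
    (jK_homOfLE h)

@[reassoc (attr := simp)]
theorem inl_Fmap {k l : CPair i j} (h : k ≤ l) : k.inl ≫ Fmap h = X.homOfLE h.1 ≫ l.inl := by
  unfold Fmap inl
  exact pushout.inl_desc _ _ _

@[reassoc (attr := simp)]
theorem inr_Fmap {k l : CPair i j} (h : k ≤ l) : k.inr ≫ Fmap h = Y.homOfLE h.2 ≫ l.inr := by
  unfold Fmap inr
  exact pushout.inr_desc _ _ _

end CPair

variable [IsClosedImmersion i]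

/-- the diagram of affine pinchings. -/
noncomputable def pinchFunctor : CPair i j ⥤ Scheme.{u} where
  obj k := k.F
  map {k l} h := CPair.Fmap (leOfHom h)
  map_id k := by
    apply pushout.hom_ext
    · simp [Scheme.homOfLE_rfl]
    · simp [Scheme.homOfLE_rfl]
  map_comp {k l m} f g := by
    apply pushout.hom_ext
    · simp [Scheme.homOfLE_homOfLE_assoc]
    · simp [Scheme.homOfLE_homOfLE_assoc]

end Glue

section Glue2

variable {X Y Z : Scheme.{u}} {i : Z ⟶ X} {j : Z ⟶ Y}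

theorem mem_range_homOfLE {X : Scheme.{u}} {U V : X.Opens} (e : U ≤ V) (x : V.toScheme) :
    x ∈ Set.range (X.homOfLE e) ↔ x.1 ∈ U := by
  constructor
  · rintro ⟨x₀, rfl⟩
    rw [Scheme.homOfLE_apply]
    exact x₀.2
  · intro hx
    exact ⟨⟨x.1, hx⟩, by rw [Scheme.homOfLE_apply']; rfl⟩

namespace CPair

variable [IsClosedImmersion i]

theorem Fmap_props {k l : CPair i j} (h : k ≤ l) :
    IsOpenImmersion (Fmap h) ∧ (∀ x : l.U.toScheme, l.inl x ∈ Set.range (Fmap h) ↔ x.1 ∈ k.U) ∧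
      (∀ y : l.V.toScheme, l.inr y ∈ Set.range (Fmap h) ↔ y.1 ∈ k.V) := by
  obtain ⟨h1, h2, h3⟩ := isOpenImmersion_of_isPinch k.isPinch_F l.isPinch_F
    (Z.homOfLE (N_le h)) (X.homOfLE h.1) (Y.homOfLE h.2) (iK_homOfLE h) (jK_homOfLE h)
    (fun z hz => by
      rw [mem_range_homOfLE] at hz ⊢
      rw [iK_apply] at hz
      exact hz)
    (fun z hz => by
      rw [mem_range_homOfLE] at hz ⊢
      rw [jK_apply] at hz
      rw [N_eq]
      exact hz)
    (Fmap h) (inl_Fmap h) (inr_Fmap h)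
  refine ⟨h1, fun x => ?_, fun y => ?_⟩
  · rw [h2, mem_range_homOfLE]
  · rw [h3, mem_range_homOfLE]

instance isOpenImmersion_Fmap {k l : CPair i j} (h : k ≤ l) : IsOpenImmersion (Fmap h) :=
  (Fmap_props h).1

theorem inl_mem_range_Fmap {k l : CPair i j} (h : k ≤ l) (x : l.U.toScheme) :
    l.inl x ∈ Set.range (Fmap h) ↔ x.1 ∈ k.U := (Fmap_props h).2.1 x

theorem inr_mem_range_Fmap {k l : CPair i j} (h : k ≤ l) (y : l.V.toScheme) :
    l.inr y ∈ Set.range (Fmap h) ↔ y.1 ∈ k.V := (Fmap_props h).2.2 y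

/-- refinement lemma: inside a compatible pair, any compatible pair of opens is covered by
compatible affine pairs. -/
theorem exists_refine (l : CPair i j) (U : X.Opens) (V : Y.Opens) (hU : U ≤ l.U) (hV : V ≤ l.V)
    (hUV : i ⁻¹ᵁ U = j ⁻¹ᵁ V) :
    (∀ x ∈ U, ∃ m : CPair i j, m.U ≤ U ∧ m.V ≤ V ∧ x ∈ m.U) ∧
    (∀ y ∈ V, ∃ m : CPair i j, m.U ≤ U ∧ m.V ≤ V ∧ y ∈ m.V) := by
  -- the open of `l.F` corresponding to `(U, V)`
  obtain ⟨W, hWa, hWb⟩ := l.isPinch_F.exists_open (l.U.ι ⁻¹ᵁ U) (l.V.ι ⁻¹ᵁ V) (by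
    rw [← Scheme.Hom.comp_preimage, ← Scheme.Hom.comp_preimage, iK_ι, jK_ι,
      Scheme.Hom.comp_preimage, Scheme.Hom.comp_preimage, hUV])
  -- from a point of `W` build a compatible affine pair
  have key : ∀ p : l.F, p ∈ W → ∃ m : CPair i j, m.U ≤ U ∧ m.V ≤ V ∧
      (∀ x : l.U.toScheme, l.inl x = p → x.1 ∈ m.U) ∧
      (∀ y : l.V.toScheme, l.inr y = p → y.1 ∈ m.V) := by
    intro p hp
    obtain ⟨D, hD, hpD, hDW⟩ := exists_isAffineOpen_mem_and_subset (x := p) (U := W) hp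
    have hDW' : D ≤ W := hDW
    have hmU : IsAffineOpen (l.U.ι ''ᵁ (l.inl ⁻¹ᵁ D)) :=
      (hD.preimage l.inl).image_of_isOpenImmersion l.U.ι
    have hmV : IsAffineOpen (l.V.ι ''ᵁ (l.inr ⁻¹ᵁ D)) :=
      (hD.preimage l.inr).image_of_isOpenImmersion l.V.ι
    have hsq : l.iK ≫ l.inl = l.jK ≫ l.inr := l.isPinch_F.w
    refine ⟨⟨l.U.ι ''ᵁ (l.inl ⁻¹ᵁ D), l.V.ι ''ᵁ (l.inr ⁻¹ᵁ D), hmU, hmV, ?_⟩, ?_, ?_, ?_, ?_⟩
    · ext z
      simp only [Scheme.Hom.coe_preimage, Scheme.Hom.coe_image, Set.mem_preimage, Set.mem_image,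
        SetLike.mem_coe]
      constructor
      · rintro ⟨x, hx, hxz⟩
        have hz : z ∈ l.N := by
          change i z ∈ l.U
          rw [← hxz]; exact x.2
        refine ⟨l.jK ⟨z, hz⟩, ?_, ?_⟩
        · change (l.jK ≫ l.inr) ⟨z, hz⟩ ∈ D
          rw [← hsq]
          change l.inl (l.iK ⟨z, hz⟩) ∈ D
          have : l.iK ⟨z, hz⟩ = x := Subtype.ext (by rw [iK_apply]; exact hxz.symm)
          rw [this]; exact hx
        · exact jK_apply l ⟨z, hz⟩
      · rintro ⟨y, hy, hyz⟩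
        have hz : z ∈ l.N := by
          rw [N_eq]
          change j z ∈ l.V
          rw [← hyz]; exact y.2
        refine ⟨l.iK ⟨z, hz⟩, ?_, ?_⟩
        · change (l.iK ≫ l.inl) ⟨z, hz⟩ ∈ D
          rw [hsq]
          change l.inr (l.jK ⟨z, hz⟩) ∈ D
          have : l.jK ⟨z, hz⟩ = y := Subtype.ext (by rw [jK_apply]; exact hyz.symm)
          rw [this]; exact hy
        · exact iK_apply l ⟨z, hz⟩
    · rintro _ ⟨x, hx, rfl⟩
      have : x ∈ l.inl ⁻¹ᵁ W := hDW' hx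
      rw [hWa] at this
      exact this
    · rintro _ ⟨y, hy, rfl⟩
      have : y ∈ l.inr ⁻¹ᵁ W := hDW' hy
      rw [hWb] at this
      exact this
    · rintro x rfl
      exact ⟨x, hpD, rfl⟩
    · rintro y rfl
      exact ⟨y, hpD, rfl⟩
  refine ⟨fun x hx => ?_, fun y hy => ?_⟩
  · have hxW : l.inl ⟨x, hU hx⟩ ∈ W := by
      have : (⟨x, hU hx⟩ : l.U.toScheme) ∈ l.inl ⁻¹ᵁ W := by rw [hWa]; exact hx
      exact this
    obtain ⟨m, h1, h2, h3, -⟩ := key _ hxW
    exact ⟨m, h1, h2, h3 ⟨x, hU hx⟩ rfl⟩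
  · have hyW : l.inr ⟨y, hV hy⟩ ∈ W := by
      have : (⟨y, hV hy⟩ : l.V.toScheme) ∈ l.inr ⁻¹ᵁ W := by rw [hWb]; exact hy
      exact this
    obtain ⟨m, h1, h2, -, h4⟩ := key _ hyW
    exact ⟨m, h1, h2, h4 ⟨y, hV hy⟩ rfl⟩

end CPair

end Glue2

end Groth.Agent.H9.PIN
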