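import Groth.Agent.Lib.Helper9.Misc.PIN8

set_option linter.style.haveILetI false
set_option linter.unusedSectionVars false
set_option linter.unusedVariables false

namespace Groth.Agent.H9.PIN

open AlgebraicGeometry CategoryTheory Limits TopologicalSpace Opposite

universe u

section Glue3

variable {X Y Z : Scheme.{u}} (i : Z ⟶ X) (j : Z ⟶ Y) [IsClosedImmersion i]

instance pinchFunctor_isOpenImmersion {k l : CPair i j} (f : k ⟶ l) :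
    IsOpenImmersion ((pinchFunctor i j).map f) :=
  CPair.isOpenImmersion_Fmap (leOfHom f)

theorem pinchFunctor_map_eq {k l : CPair i j} (f : k ⟶ l) :
    (pinchFunctor i j).map f = CPair.Fmap (leOfHom f) := rfl

instance pinchFunctor_isLocallyDirected :
    ((pinchFunctor i j) ⋙ Scheme.forget).IsLocallyDirected := by
  constructor
  intro k₁ k₂ l f₁ f₂ p₁ p₂ hp
  have h₁ : k₁ ≤ l := leOfHom f₁
  have h₂ : k₂ ≤ l := leOfHom f₂
  change CPair.Fmap h₁ p₁ = CPair.Fmap h₂ p₂ at hp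
  -- the common image point
  set p := CPair.Fmap h₁ p₁ with hp_def
  have hp1 : p ∈ Set.range (CPair.Fmap h₁) := ⟨p₁, rfl⟩
  have hp2 : p ∈ Set.range (CPair.Fmap h₂) := ⟨p₂, hp.symm⟩
  have hcompat : i ⁻¹ᵁ (k₁.U ⊓ k₂.U) = j ⁻¹ᵁ (k₁.V ⊓ k₂.V) := by
    ext z
    simp only [Scheme.Hom.coe_preimage, Opens.coe_inf, Set.mem_preimage, Set.mem_inter_iff,
      SetLike.mem_coe]
    have e1 : i z ∈ k₁.U ↔ j z ∈ k₁.V := by
      change z ∈ i ⁻¹ᵁ k₁.U ↔ z ∈ j ⁻¹ᵁ k₁.V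
      rw [k₁.h]
    have e2 : i z ∈ k₂.U ↔ j z ∈ k₂.V := by
      change z ∈ i ⁻¹ᵁ k₂.U ↔ z ∈ j ⁻¹ᵁ k₂.V
      rw [k₂.h]
    rw [e1, e2]
  obtain ⟨hrefU, hrefV⟩ := l.exists_refine (k₁.U ⊓ k₂.U) (k₁.V ⊓ k₂.V)
    (inf_le_left.trans h₁.1) (inf_le_left.trans h₁.2) hcompat
  -- find `m` and a point of `m.F`
  have key : ∃ (m : CPair i j) (hm₁ : m ≤ k₁) (hm₂ : m ≤ k₂) (pm : m.F),
      CPair.Fmap (hm₁.trans h₁) pm = p := by
    rcases l.isPinch_F.surj p with ⟨x, hx⟩ | ⟨y, hy⟩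
    · have hx1 : x.1 ∈ k₁.U := (CPair.inl_mem_range_Fmap h₁ x).mp (hx ▸ hp1)
      have hx2 : x.1 ∈ k₂.U := (CPair.inl_mem_range_Fmap h₂ x).mp (hx ▸ hp2)
      obtain ⟨m, hmU, hmV, hxm⟩ := hrefU x.1 ⟨hx1, hx2⟩
      have hm₁ : m ≤ k₁ := ⟨hmU.trans inf_le_left, hmV.trans inf_le_left⟩
      have hm₂ : m ≤ k₂ := ⟨hmU.trans inf_le_right, hmV.trans inf_le_right⟩
      refine ⟨m, hm₁, hm₂, m.inl ⟨x.1, hxm⟩, ?_⟩
      rw [← hx]
      change (m.inl ≫ CPair.Fmap (hm₁.trans h₁)) ⟨x.1, hxm⟩ = _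
      rw [CPair.inl_Fmap, Scheme.Hom.comp_apply, Scheme.homOfLE_apply']
      rfl
    · have hy1 : y.1 ∈ k₁.V := (CPair.inr_mem_range_Fmap h₁ y).mp (hy ▸ hp1)
      have hy2 : y.1 ∈ k₂.V := (CPair.inr_mem_range_Fmap h₂ y).mp (hy ▸ hp2)
      obtain ⟨m, hmU, hmV, hym⟩ := hrefV y.1 ⟨hy1, hy2⟩
      have hm₁ : m ≤ k₁ := ⟨hmU.trans inf_le_left, hmV.trans inf_le_left⟩
      have hm₂ : m ≤ k₂ := ⟨hmU.trans inf_le_right, hmV.trans inf_le_right⟩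
      refine ⟨m, hm₁, hm₂, m.inr ⟨y.1, hym⟩, ?_⟩
      rw [← hy]
      change (m.inr ≫ CPair.Fmap (hm₁.trans h₁)) ⟨y.1, hym⟩ = _
      rw [CPair.inr_Fmap, Scheme.Hom.comp_apply, Scheme.homOfLE_apply']
      rfl
  obtain ⟨m, hm₁, hm₂, pm, hpm⟩ := key
  refine ⟨m, homOfLE hm₁, homOfLE hm₂, pm, ?_, ?_⟩
  · change CPair.Fmap hm₁ pm = p₁
    apply (CPair.Fmap h₁).isOpenEmbedding.injective
    rw [← Scheme.Hom.comp_apply]
    have : CPair.Fmap hm₁ ≫ CPair.Fmap h₁ = CPair.Fmap (hm₁.trans h₁) :=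
      ((pinchFunctor i j).map_comp (homOfLE hm₁) (homOfLE h₁)).symm
    rw [this, hpm]
  · change CPair.Fmap hm₂ pm = p₂
    apply (CPair.Fmap h₂).isOpenEmbedding.injective
    rw [← Scheme.Hom.comp_apply]
    have : CPair.Fmap hm₂ ≫ CPair.Fmap h₂ = CPair.Fmap (hm₂.trans h₂) :=
      ((pinchFunctor i j).map_comp (homOfLE hm₂) (homOfLE h₂)).symm
    rw [this, ← hp, ← hpm]

end Glue3

section Glue4

variable {X Y Z : Scheme.{u}} (i : Z ⟶ X) (j : Z ⟶ Y) [IsClosedImmersion i]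

/-- the glued scheme. -/
noncomputable def pinchGlued : Scheme.{u} := colimit (pinchFunctor i j)

/-- the chart maps. -/
noncomputable def pinchι (k : CPair i j) : k.F ⟶ pinchGlued i j :=
  colimit.ι (pinchFunctor i j) k

instance (k : CPair i j) : IsOpenImmersion (pinchι i j k) :=
  inferInstanceAs (IsOpenImmersion (colimit.ι (pinchFunctor i j) k))

variable {i j}

@[reassoc]
theorem Fmap_pinchι {m k : CPair i j} (h : m ≤ k) : CPair.Fmap h ≫ pinchι i j k = pinchι i j m :=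
  colimit.w (pinchFunctor i j) (homOfLE h : m ⟶ k)

@[reassoc]
theorem homOfLE_inl_pinchι {m k : CPair i j} (h : m ≤ k) :
    X.homOfLE h.1 ≫ k.inl ≫ pinchι i j k = m.inl ≫ pinchι i j m := by
  rw [← CPair.inl_Fmap_assoc h, Fmap_pinchι h]

@[reassoc]
theorem homOfLE_inr_pinchι {m k : CPair i j} (h : m ≤ k) :
    Y.homOfLE h.2 ≫ k.inr ≫ pinchι i j k = m.inr ≫ pinchι i j m := by
  rw [← CPair.inr_Fmap_assoc h, Fmap_pinchι h]

theorem compat_inf (k l : CPair i j) : i ⁻¹ᵁ (k.U ⊓ l.U) = j ⁻¹ᵁ (k.V ⊓ l.V) := by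
  ext z
  simp only [Scheme.Hom.coe_preimage, Opens.coe_inf, Set.mem_preimage, Set.mem_inter_iff,
    SetLike.mem_coe]
  have e1 : i z ∈ k.U ↔ j z ∈ k.V := by
    change z ∈ i ⁻¹ᵁ k.U ↔ z ∈ j ⁻¹ᵁ k.V
    rw [k.h]
  have e2 : i z ∈ l.U ↔ j z ∈ l.V := by
    change z ∈ i ⁻¹ᵁ l.U ↔ z ∈ j ⁻¹ᵁ l.V
    rw [l.h]
  rw [e1, e2]

theorem exists_a (hcovX : ∀ x : X, ∃ k : CPair i j, x ∈ k.U) :
    ∃ a : X ⟶ pinchGlued i j, ∀ k : CPair i j, k.U.ι ≫ a = k.inl ≫ pinchι i j k := by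
  refine exists_glue_of_opens (fun k : CPair i j => k.U) hcovX
    (fun k => k.inl ≫ pinchι i j k) ?_
  intro k l
  refine hom_ext_of_openImmersions _ _ (fun s => ?_)
  obtain ⟨hrefU, -⟩ := k.exists_refine (k.U ⊓ l.U) (k.V ⊓ l.V) inf_le_left inf_le_left
    (compat_inf k l)
  obtain ⟨m, hmU, hmV, hxm⟩ := hrefU s.1 s.2
  have hm₁ : m ≤ k := ⟨hmU.trans inf_le_left, hmV.trans inf_le_left⟩
  have hm₂ : m ≤ l := ⟨hmU.trans inf_le_right, hmV.trans inf_le_right⟩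
  refine ⟨m.U.toScheme, X.homOfLE hmU, inferInstance, (mem_range_homOfLE hmU s).mpr hxm, ?_⟩
  rw [Scheme.homOfLE_homOfLE_assoc, Scheme.homOfLE_homOfLE_assoc, homOfLE_inl_pinchι hm₁,
    homOfLE_inl_pinchι hm₂]

theorem exists_b (hcovY : ∀ y : Y, ∃ k : CPair i j, y ∈ k.V) :
    ∃ b : Y ⟶ pinchGlued i j, ∀ k : CPair i j, k.V.ι ≫ b = k.inr ≫ pinchι i j k := by
  refine exists_glue_of_opens (fun k : CPair i j => k.V) hcovY
    (fun k => k.inr ≫ pinchι i j k) ?_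
  intro k l
  refine hom_ext_of_openImmersions _ _ (fun s => ?_)
  obtain ⟨-, hrefV⟩ := k.exists_refine (k.U ⊓ l.U) (k.V ⊓ l.V) inf_le_left inf_le_left
    (compat_inf k l)
  obtain ⟨m, hmU, hmV, hym⟩ := hrefV s.1 s.2
  have hm₁ : m ≤ k := ⟨hmU.trans inf_le_left, hmV.trans inf_le_left⟩
  have hm₂ : m ≤ l := ⟨hmU.trans inf_le_right, hmV.trans inf_le_right⟩
  refine ⟨m.V.toScheme, Y.homOfLE hmV, inferInstance, (mem_range_homOfLE hmV s).mpr hym, ?_⟩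
  rw [Scheme.homOfLE_homOfLE_assoc, Scheme.homOfLE_homOfLE_assoc, homOfLE_inr_pinchι hm₁,
    homOfLE_inr_pinchι hm₂]

end Glue4

end Groth.Agent.H9.PIN
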