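import Mathlib
import Groth.Prelude.Def_PolLaw

/-! Helper9: kernels of polynomial laws and direct limits. -/

namespace Groth.Agent.H9.PL
open scoped TensorProduct

universe u
variable {A : Type u} [CommRing A] {B : Type u} [CommRing B] [Algebra A B]
    {C : Type u} [CommRing C] [Algebra A C]

/-- value of a precomposed law -/
lemma precomp_toFun' {B' : Type u} [CommRing B'] [Algebra A B'] {d : ℕ}
    (F : PolLaw.MulLaw A B C d) (f : B' →ₐ[A] B) (S : Type u) [CommSemiring S] [Algebra A S]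
    (z : S ⊗[A] B') :
    (F.precomp f).law.toFun' S z =
      F.law.toFun' S (Algebra.TensorProduct.map (AlgHom.id S S) f z) := by
  show F.law.toFun' S (f.toLinearMap.lTensor S z) = _
  rw [PolLaw.lTensor_algHom_apply]

/-- If `f b' ∈ ker F` then `b' ∈ ker (F ∘ f)`. -/
lemma mem_ker_precomp_of_mem {B' : Type u} [CommRing B'] [Algebra A B'] {d : ℕ}
    (F : PolLaw.MulLaw A B C d) (f : B' →ₐ[A] B) (b' : B') (h : f b' ∈ PolLaw.ker F.law) :
    b' ∈ PolLaw.ker (F.precomp f).law := by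
  intro S _ _ x w
  rw [precomp_toFun', precomp_toFun', map_add, map_mul]
  have : (Algebra.TensorProduct.map (AlgHom.id S S) f) ((1 : S) ⊗ₜ[A] b') = 1 ⊗ₜ[A] f b' := by
    simp
  rw [this]
  exact h S _ _

section limit
variable {ι : Type u} [Preorder ι] [IsDirected ι (fun i j => i ≤ j)] [Nonempty ι]
    (Bi : ι → Type u) [∀ i, CommRing (Bi i)] [∀ i, Algebra A (Bi i)]
    (t : ∀ i j : ι, i ≤ j → (Bi i →ₐ[A] Bi j)) (φ : ∀ i : ι, Bi i →ₐ[A] B)
    (hcomp : ∀ (i j : ι) (h : i ≤ j), (φ j).comp (t i j h) = φ i)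
    (hsurj : ∀ b : B, ∃ (i : ι) (x : Bi i), φ i x = b)

omit [IsDirected ι fun i j => i ≤ j] [Nonempty ι] in
include hcomp in
lemma map_comp_t (S : Type u) [CommSemiring S] [Algebra A S] (i j : ι) (h : i ≤ j)
    (y : S ⊗[A] Bi i) :
    Algebra.TensorProduct.map (AlgHom.id S S) (φ j)
      (Algebra.TensorProduct.map (AlgHom.id S S) (t i j h) y) =
      Algebra.TensorProduct.map (AlgHom.id S S) (φ i) y := by
  rw [← AlgHom.comp_apply, ← Algebra.TensorProduct.map_comp, hcomp, AlgHom.comp_id]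

omit [Nonempty ι] in
include hcomp hsurj in
lemma exists_lift (S : Type u) [CommSemiring S] [Algebra A S] (z : S ⊗[A] B) (i₀ : ι) :
    ∃ (j : ι) (_ : i₀ ≤ j) (y : S ⊗[A] Bi j),
      Algebra.TensorProduct.map (AlgHom.id S S) (φ j) y = z := by
  induction z using TensorProduct.induction_on with
  | zero => exact ⟨i₀, le_rfl, 0, map_zero _⟩
  | tmul s b =>
    obtain ⟨i₁, x, rfl⟩ := hsurj b
    obtain ⟨j, h0, h1⟩ := exists_ge_ge i₀ i₁
    refine ⟨j, h0, s ⊗ₜ[A] t i₁ j h1 x, ?_⟩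
    rw [Algebra.TensorProduct.map_tmul, AlgHom.id_apply, ← AlgHom.comp_apply, hcomp]
  | add z₁ z₂ h₁ h₂ =>
    obtain ⟨j₁, hj₁, y₁, rfl⟩ := h₁
    obtain ⟨j₂, hj₂, y₂, rfl⟩ := h₂
    obtain ⟨j, h1, h2⟩ := exists_ge_ge j₁ j₂
    refine ⟨j, hj₁.trans h1, Algebra.TensorProduct.map (AlgHom.id S S) (t j₁ j h1) y₁ +
      Algebra.TensorProduct.map (AlgHom.id S S) (t j₂ j h2) y₂, ?_⟩
    rw [map_add, map_comp_t Bi t φ hcomp, map_comp_t Bi t φ hcomp]

omit [Nonempty ι] in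
include hcomp hsurj in
theorem main {d : ℕ} (F : PolLaw.MulLaw A B C d) (b : B) :
    b ∈ PolLaw.ker F.law ↔ ∃ (i : ι) (x : Bi i), φ i x = b ∧
      ∀ (j : ι) (h : i ≤ j), t i j h x ∈ PolLaw.ker (F.precomp (φ j)).law := by
  constructor
  · intro hb
    obtain ⟨i, x, rfl⟩ := hsurj b
    refine ⟨i, x, rfl, ?_⟩
    intro j h
    apply mem_ker_precomp_of_mem
    rw [← AlgHom.comp_apply, hcomp]
    exact hb
  · rintro ⟨i, x, rfl, hx⟩
    intro S _ _ x' w
    obtain ⟨j₁, hj₁, y₁, rfl⟩ := exists_lift Bi t φ hcomp hsurj S x' i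
    obtain ⟨j, hj, y₂, rfl⟩ := exists_lift Bi t φ hcomp hsurj S w j₁
    have h1 := hx j (hj₁.trans hj) S
      (Algebra.TensorProduct.map (AlgHom.id S S) (t j₁ j hj) y₁) y₂
    rw [precomp_toFun', precomp_toFun', map_add, map_mul, map_comp_t Bi t φ hcomp] at h1
    have h2 : (Algebra.TensorProduct.map (AlgHom.id S S) (φ j))
        ((1 : S) ⊗ₜ[A] t i j (hj₁.trans hj) x) = 1 ⊗ₜ[A] φ i x := by
      rw [Algebra.TensorProduct.map_tmul, ← AlgHom.comp_apply, hcomp]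
      rfl
    rw [h2] at h1
    exact h1

end limit

end Groth.Agent.H9.PL
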