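import Mathlib
import Groth.Prelude.Def_PolLaw

/-! Helper9: kernel of the p-power law is not compatible with base change. -/

namespace Groth.Agent.H9.PL2
open scoped TensorProduct

universe u

/-- Freshman's dream in a commutative semiring where `p = 0`. -/
lemma add_pow_of_cast_eq_zero {R : Type*} [CommSemiring R] (p : ℕ) (hp : p.Prime)
    (h0 : (p : R) = 0) (x y : R) : (x + y) ^ p = x ^ p + y ^ p := by
  rw [add_pow_prime_eq hp, h0]
  simp

lemma cast_eq_zero_tensor {k : Type u} [Field k] (p : ℕ) [CharP k p]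
    (R : Type u) [CommSemiring R] [Algebra k R] (B : Type u) [CommRing B] [Algebra k B] :
    ((p : ℕ) : R ⊗[k] B) = 0 := by
  have h1 : ((p : ℕ) : R ⊗[k] B) = algebraMap k (R ⊗[k] B) (p : k) := by
    rw [map_natCast]
  rw [h1, CharP.cast_eq_zero, map_zero]

theorem main {k : Type u} [Field k] (p : ℕ) [hp : Fact p.Prime] [CharP k p] :
    PolLaw.ker (PolLaw.MulLaw.pow k k p).law = ⊥ ∧
      PolLaw.kerBC (PolLaw.MulLaw.pow k k p).law
        (AdjoinRoot ((Polynomial.X : Polynomial k) ^ p)) ≠ ⊥ := by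
  constructor
  · rw [eq_bot_iff]
    intro b hb
    have h1 := hb k 0 1
    have h2 : (PolLaw.MulLaw.pow k k p).law.toFun' k ((0 : k ⊗[k] k) + 1 * ((1 : k) ⊗ₜ[k] b))
        = ((1 : k) ⊗ₜ[k] b) ^ p := by
      show ((0 : k ⊗[k] k) + 1 * ((1 : k) ⊗ₜ[k] b)) ^ p = _
      rw [zero_add, one_mul]
    have h3 : (PolLaw.MulLaw.pow k k p).law.toFun' k (0 : k ⊗[k] k) = 0 := by
      show (0 : k ⊗[k] k) ^ p = 0
      exact zero_pow hp.out.ne_zero
    rw [h2, h3] at h1
    have h4 : ((1 : k) ⊗ₜ[k] b) ^ p = (1 : k) ⊗ₜ[k] (b ^ p) := by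
      rw [Algebra.TensorProduct.tmul_pow, one_pow]
    rw [h4] at h1
    have h5 := congrArg (TensorProduct.lid k k) h1
    rw [TensorProduct.lid_tmul, one_smul, map_zero] at h5
    rw [Ideal.mem_bot]
    exact pow_eq_zero_iff (hp.out.ne_zero) |>.mp h5
  · intro hbot
    set A' := AdjoinRoot ((Polynomial.X : Polynomial k) ^ p) with hA'
    have hmem : (AdjoinRoot.root ((Polynomial.X : Polynomial k) ^ p)) ⊗ₜ[k] (1 : k) ∈
        PolLaw.kerBC (PolLaw.MulLaw.pow k k p).law A' := by
      intro R _ _ _ _ x w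
      show (x + w * _) ^ p = x ^ p
      rw [add_pow_of_cast_eq_zero p hp.out (cast_eq_zero_tensor p R k), mul_pow,
        Algebra.TensorProduct.map_tmul, Algebra.TensorProduct.tmul_pow, ← map_pow]
      have : (AdjoinRoot.root ((Polynomial.X : Polynomial k) ^ p)) ^ p = 0 := by
        have := AdjoinRoot.eval₂_root ((Polynomial.X : Polynomial k) ^ p)
        simpa using this
      rw [this, map_zero, TensorProduct.zero_tmul, mul_zero, add_zero]
    rw [hbot, Ideal.mem_bot] at hmem
    have h6 := congrArg (TensorProduct.rid k A') hmem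
    rw [TensorProduct.rid_tmul, one_smul, map_zero] at h6
    have h7 : (AdjoinRoot.mk ((Polynomial.X : Polynomial k) ^ p)) Polynomial.X = 0 := h6
    rw [AdjoinRoot.mk_eq_zero] at h7
    have h8 := Polynomial.degree_le_of_dvd h7 Polynomial.X_ne_zero
    rw [Polynomial.degree_X_pow, Polynomial.degree_X] at h8
    have := hp.out.two_le
    norm_cast at h8
    omega

end Groth.Agent.H9.PL2
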