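import Mathlib
import Groth.Prelude.Def_PolLaw
import Groth.Agent.Lib.Helper9.Misc.PL2

/-! Helper9: kernel of the p-power law need not be finitely generated. -/

namespace Groth.Agent.H9.PL3
open scoped TensorProduct
open MvPolynomial

universe u
variable {k : Type u} [Field k] (p : ℕ) [hp : Fact p.Prime] [CharP k p]

/-- the ideal of `p`-th powers of variables -/
noncomputable abbrev J : Ideal (MvPolynomial ℕ k) :=
  Ideal.span (Set.range fun i : ℕ => (MvPolynomial.X i : MvPolynomial ℕ k) ^ p)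

/-- augmentation -/
noncomputable def ε : (MvPolynomial ℕ k ⧸ J (k := k) p) →+* k :=
  Ideal.Quotient.lift (J p) (constantCoeff) (by
    intro a ha
    have : J (k := k) p ≤ RingHom.ker (constantCoeff (σ := ℕ) (R := k)) := by
      rw [Ideal.span_le]
      rintro _ ⟨i, rfl⟩
      simp [RingHom.mem_ker, hp.out.ne_zero]
    exact this ha)

omit [CharP k p] in
lemma ε_mk (f : MvPolynomial ℕ k) : ε p (Ideal.Quotient.mk (J p) f) = constantCoeff f := rfl

lemma mem_span_X_of_constantCoeff_eq_zero (f : MvPolynomial ℕ k) (h : constantCoeff f = 0) :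
    f ∈ Ideal.span (Set.range fun i : ℕ => (MvPolynomial.X i : MvPolynomial ℕ k)) := by
  have : (Set.range fun i : ℕ => (MvPolynomial.X i : MvPolynomial ℕ k)) = MvPolynomial.X '' Set.univ := by
    rw [Set.image_univ]
  rw [this, mem_ideal_span_X_image]
  intro m hm
  by_contra hcon
  push Not at hcon
  have hm0 : m = 0 := by
    ext i
    exact hcon i (Set.mem_univ i)
  subst hm0
  rw [mem_support_iff] at hm
  exact hm h

omit hp [CharP k p] in
lemma cast_zero' {A : Type u} [CommRing A] (h0 : ((p : ℕ) : A) = 0) (S : Type u) [CommSemiring S]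
    [Algebra A S] : ((p : ℕ) : S ⊗[A] A) = 0 := by
  have h1 : ((p : ℕ) : S ⊗[A] A) = algebraMap A (S ⊗[A] A) ((p : ℕ) : A) := by
    rw [map_natCast]
  rw [h1, h0, map_zero]

omit hp in
lemma cast_zero (S : Type u) [CommSemiring S] [Algebra (MvPolynomial ℕ k ⧸ J (k := k) p) S] :
    ((p : ℕ) : S ⊗[MvPolynomial ℕ k ⧸ J (k := k) p] (MvPolynomial ℕ k ⧸ J (k := k) p)) = 0 := by
  have h0 : ((p : ℕ) : MvPolynomial ℕ k ⧸ J (k := k) p) = 0 := by
    have : ((p : ℕ) : MvPolynomial ℕ k ⧸ J (k := k) p) =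
        algebraMap k (MvPolynomial ℕ k ⧸ J (k := k) p) (p : k) := by rw [map_natCast]
    rw [this, CharP.cast_eq_zero, map_zero]
  exact cast_zero' p h0 S

theorem ker_eq :
    PolLaw.ker (PolLaw.MulLaw.pow (MvPolynomial ℕ k ⧸ J (k := k) p)
        (MvPolynomial ℕ k ⧸ J (k := k) p) p).law =
      (Ideal.span (Set.range fun i : ℕ => (MvPolynomial.X i : MvPolynomial ℕ k))).map
        (Ideal.Quotient.mk (J p)) := by
  apply le_antisymm
  · intro b hb
    have h1 := hb (MvPolynomial ℕ k ⧸ J (k := k) p) 0 1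
    have h2 : ((1 : MvPolynomial ℕ k ⧸ J (k := k) p) ⊗ₜ[MvPolynomial ℕ k ⧸ J (k := k) p] b) ^ p
        = (0 : (MvPolynomial ℕ k ⧸ J (k := k) p) ⊗[MvPolynomial ℕ k ⧸ J (k := k) p] (MvPolynomial ℕ k ⧸ J (k := k) p)) := by
      have h1' := h1
      change (0 + 1 * _) ^ p = 0 ^ p at h1'
      simpa [hp.out.ne_zero] using h1'
    rw [Algebra.TensorProduct.tmul_pow, one_pow] at h2
    have h5 := congrArg (TensorProduct.lid (MvPolynomial ℕ k ⧸ J (k := k) p) (MvPolynomial ℕ k ⧸ J (k := k) p)) h2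
    rw [TensorProduct.lid_tmul, one_smul, map_zero] at h5
    obtain ⟨f, rfl⟩ := Ideal.Quotient.mk_surjective b
    have h6 : ε p (Ideal.Quotient.mk (J p) f) ^ p = 0 := by rw [← map_pow, h5, map_zero]
    have h7 : constantCoeff f = 0 := by
      rw [ε_mk] at h6
      exact pow_eq_zero_iff hp.out.ne_zero |>.mp h6
    exact Ideal.mem_map_of_mem _ (mem_span_X_of_constantCoeff_eq_zero f h7)
  · rw [Ideal.map_le_iff_le_comap, Ideal.span_le]
    rintro _ ⟨i, rfl⟩
    change Ideal.Quotient.mk (J p) (X i) ∈ PolLaw.ker _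
    intro S _ _ x w
    show (x + w * _) ^ p = x ^ p
    rw [PL2.add_pow_of_cast_eq_zero p hp.out (cast_zero p S), mul_pow,
      Algebra.TensorProduct.tmul_pow, ← map_pow]
    have : Ideal.Quotient.mk (J (k := k) p) (X i ^ p) = 0 := by
      rw [Ideal.Quotient.eq_zero_iff_mem]
      exact Ideal.subset_span ⟨i, rfl⟩
    rw [this, TensorProduct.tmul_zero, mul_zero, add_zero]

omit [CharP k p] in
theorem not_fg :
    ¬ ((Ideal.span (Set.range fun i : ℕ => (MvPolynomial.X i : MvPolynomial ℕ k))).map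
        (Ideal.Quotient.mk (J p))).FG := by
  classical
  intro hfg
  rw [Ideal.map_span] at hfg
  obtain ⟨s', hs', hspan⟩ := (Submodule.fg_span_iff_fg_span_finset_subset _).mp hfg
  -- indices
  have hidx : ∀ y ∈ s', ∃ i : ℕ, y = Ideal.Quotient.mk (J (k := k) p) (X i) := by
    intro y hy
    obtain ⟨_, ⟨i, rfl⟩, rfl⟩ := hs' hy
    exact ⟨i, rfl⟩
  choose! idx hidx' using hidx
  let N : ℕ := (s'.sup idx) + 1
  have hN : ∀ y ∈ s', idx y < N := fun y hy => Nat.lt_succ_of_le (Finset.le_sup hy)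
  let I : Ideal (MvPolynomial ℕ k) := Ideal.span ((fun i : ℕ => (X i : MvPolynomial ℕ k)) '' {i | i < N})
  have h1 : Ideal.Quotient.mk (J (k := k) p) (X N) ∈ I.map (Ideal.Quotient.mk (J p)) := by
    have hmem : Ideal.Quotient.mk (J (k := k) p) (X N) ∈
        Submodule.span (MvPolynomial ℕ k ⧸ J (k := k) p)
          (⇑(Ideal.Quotient.mk (J p)) '' Set.range fun i : ℕ => (X i : MvPolynomial ℕ k)) :=
      Submodule.subset_span ⟨_, ⟨N, rfl⟩, rfl⟩
    rw [hspan] at hmem
    have hle : Submodule.span (MvPolynomial ℕ k ⧸ J (k := k) p) (s' : Set _) ≤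
        I.map (Ideal.Quotient.mk (J p)) := by
      rw [Submodule.span_le]
      intro y hy
      rw [hidx' y hy]
      exact Ideal.mem_map_of_mem _ (Ideal.subset_span ⟨idx y, hN y hy, rfl⟩)
    exact hle hmem
  rw [Ideal.mem_quotient_iff_mem_sup] at h1
  let θ : MvPolynomial ℕ k →ₐ[k] Polynomial k :=
    aeval (fun i => if i = N then Polynomial.X else 0)
  have h2 : I ⊔ J (k := k) p ≤ (Ideal.span {(Polynomial.X : Polynomial k) ^ p}).comap θ := by
    rw [sup_le_iff]
    constructor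
    · rw [Ideal.span_le]
      rintro _ ⟨i, hi, rfl⟩
      have hi' : i < N := hi
      have : θ (X i) = 0 := by
        simp only [θ, aeval_X]
        rw [if_neg (by omega)]
      rw [SetLike.mem_coe, Ideal.mem_comap, this]
      exact Ideal.zero_mem _
    · rw [Ideal.span_le]
      rintro _ ⟨i, rfl⟩
      rw [SetLike.mem_coe, Ideal.mem_comap, map_pow]
      simp only [θ, aeval_X]
      split_ifs
      · exact Ideal.subset_span rfl
      · rw [zero_pow hp.out.ne_zero]
        exact Ideal.zero_mem _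
  have h3 := h2 h1
  rw [Ideal.mem_comap] at h3
  have h4 : θ (X N) = Polynomial.X := by simp [θ]
  rw [h4, Ideal.mem_span_singleton] at h3
  have h8 := Polynomial.degree_le_of_dvd h3 Polynomial.X_ne_zero
  rw [Polynomial.degree_X_pow, Polynomial.degree_X] at h8
  have := hp.out.two_le
  norm_cast at h8
  omega

theorem main :
    PolLaw.ker (PolLaw.MulLaw.pow
        (MvPolynomial ℕ k ⧸ Ideal.span (Set.range fun i : ℕ => (MvPolynomial.X i : MvPolynomial ℕ k) ^ p))
        (MvPolynomial ℕ k ⧸ Ideal.span (Set.range fun i : ℕ => (MvPolynomial.X i : MvPolynomial ℕ k) ^ p)) p).law =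
      (Ideal.span (Set.range fun i : ℕ => (MvPolynomial.X i : MvPolynomial ℕ k))).map
        (Ideal.Quotient.mk (Ideal.span (Set.range fun i : ℕ => (MvPolynomial.X i : MvPolynomial ℕ k) ^ p))) ∧
    ¬ (PolLaw.ker (PolLaw.MulLaw.pow
        (MvPolynomial ℕ k ⧸ Ideal.span (Set.range fun i : ℕ => (MvPolynomial.X i : MvPolynomial ℕ k) ^ p))
        (MvPolynomial ℕ k ⧸ Ideal.span (Set.range fun i : ℕ => (MvPolynomial.X i : MvPolynomial ℕ k) ^ p)) p).law).FG := by
  refine ⟨ker_eq p, ?_⟩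
  rw [ker_eq p]
  exact not_fg p

end Groth.Agent.H9.PL3
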