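import Mathlib
import Groth.Prelude.Def_PolLaw

/-! Helper9: kernel of base change of a homogeneous law to the polynomial ring. -/

namespace Groth.Agent.H9.PL4
open scoped TensorProduct
open Polynomial

universe u
variable {A : Type u} [CommRing A] {B : Type u} [CommRing B] [Algebra A B]

/-- every element of `A[X] ⊗ B` is `∑ X^n ⊗ b n` -/
lemma rep (c : A[X] ⊗[A] B) : ∃ (N : ℕ) (b : ℕ → B),
    c = ∑ n ∈ Finset.range N, ((X : A[X]) ^ n) ⊗ₜ[A] b n := by
  induction c using TensorProduct.induction_on with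
  | zero => exact ⟨0, fun _ => 0, by simp⟩
  | tmul p b =>
    refine ⟨p.natDegree + 1, fun n => p.coeff n • b, ?_⟩
    conv_lhs => rw [p.as_sum_range_C_mul_X_pow]
    rw [TensorProduct.sum_tmul]
    apply Finset.sum_congr rfl
    intro n _
    rw [← Polynomial.smul_eq_C_mul, TensorProduct.smul_tmul]
  | add c₁ c₂ h₁ h₂ =>
    obtain ⟨N₁, b₁, rfl⟩ := h₁
    obtain ⟨N₂, b₂, rfl⟩ := h₂
    refine ⟨max N₁ N₂, fun n => (if n < N₁ then b₁ n else 0) + (if n < N₂ then b₂ n else 0), ?_⟩
    simp only [TensorProduct.tmul_add, Finset.sum_add_distrib]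
    congr 1
    · symm
      rw [← Finset.sum_subset (Finset.range_subset_range.mpr (le_max_left N₁ N₂))]
      · apply Finset.sum_congr rfl
        intro n hn
        rw [if_pos (Finset.mem_range.mp hn)]
      · intro n _ hn
        rw [if_neg (by simpa using hn), TensorProduct.tmul_zero]
    · symm
      rw [← Finset.sum_subset (Finset.range_subset_range.mpr (le_max_right N₁ N₂))]
      · apply Finset.sum_congr rfl
        intro n hn
        rw [if_pos (Finset.mem_range.mp hn)]
      · intro n _ hn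
        rw [if_neg (by simpa using hn), TensorProduct.tmul_zero]

/-- the easy inclusion -/
lemma one_tmul_mem_kerBC {C : Type u} [CommRing C] [Algebra A C] (F : B →ₚₗ[A] C)
    (A' : Type u) [CommRing A'] [Algebra A A'] (b : B)
    (hb : b ∈ PolLaw.ker F) : (1 : A') ⊗ₜ[A] b ∈ PolLaw.kerBC F A' := by
  intro R _ _ _ _ x w
  rw [Algebra.TensorProduct.map_tmul, map_one]
  exact hb R x w

/-- the constant coefficient of an element of the base-changed kernel lies in the kernel -/
lemma coeff_zero_mem {C : Type u} [CommRing C] [Algebra A C] (F : B →ₚₗ[A] C)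
    (N : ℕ) (hN : 0 < N) (b : ℕ → B)
    (hc : (∑ n ∈ Finset.range N, ((X : A[X]) ^ n) ⊗ₜ[A] b n) ∈ PolLaw.kerBC F A[X]) :
    b 0 ∈ PolLaw.ker F := by
  intro S _ _ x w
  let _ : Algebra A[X] S := (Polynomial.eval₂RingHom (algebraMap A S) 0).toAlgebra
  have : IsScalarTower A A[X] S := IsScalarTower.of_algebraMap_eq (fun a => by
    show algebraMap A S a = Polynomial.eval₂ (algebraMap A S) 0 (algebraMap A A[X] a)
    rw [Polynomial.algebraMap_apply, Algebra.algebraMap_self_apply, Polynomial.eval₂_C])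
  have h1 := hc S x w
  have h2 : Algebra.TensorProduct.map (IsScalarTower.toAlgHom A A[X] S) (AlgHom.id A B)
      (∑ n ∈ Finset.range N, ((X : A[X]) ^ n) ⊗ₜ[A] b n) = (1 : S) ⊗ₜ[A] b 0 := by
    rw [map_sum, Finset.sum_eq_single 0]
    · rw [Algebra.TensorProduct.map_tmul, pow_zero, map_one, AlgHom.id_apply]
    · intro n _ hn
      rw [Algebra.TensorProduct.map_tmul, map_pow]
      have : (IsScalarTower.toAlgHom A A[X] S) X = 0 := by
        show Polynomial.eval₂ (algebraMap A S) 0 X = 0
        rw [Polynomial.eval₂_X]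
      rw [this, zero_pow hn, TensorProduct.zero_tmul]
    · intro h
      exact absurd (Finset.mem_range.mpr hN) h
  rw [h2] at h1
  exact h1

lemma rTensor_eq_map {S S' : Type u} [CommSemiring S] [Algebra A S] [CommSemiring S'] [Algebra A S']
    (M : Type u) [CommRing M] [Algebra A M]
    (φ : S →ₐ[A] S') (z : S ⊗[A] M) :
    φ.toLinearMap.rTensor M z = Algebra.TensorProduct.map φ (AlgHom.id A M) z := by
  induction z using TensorProduct.induction_on with
  | zero => simp
  | tmul a b => rfl
  | add a b ha hb => simp [ha, hb]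

attribute [local instance] Polynomial.algebra

set_option maxHeartbeats 400000 in
/-- saturation of the base-changed kernel with respect to the variable -/
lemma sat (F : B →ₚₗ[A] A) {d : ℕ} (hF : PolLaw.IsHomog F d) (c : A[X] ⊗[A] B)
    (h : ((X : A[X]) ⊗ₜ[A] (1 : B)) * c ∈ PolLaw.kerBC F A[X]) : c ∈ PolLaw.kerBC F A[X] := by
  intro R _ _ _ _ x w
  set r : R := algebraMap A[X] R X with hr
  let i : R →ₐ[A] R[X] := IsScalarTower.toAlgHom A R R[X]
  let e : R[X] →ₐ[A] R := (Polynomial.aeval r).restrictScalars A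
  let ι' := Algebra.TensorProduct.map (IsScalarTower.toAlgHom A A[X] R[X]) (AlgHom.id A B)
  let ιR := Algebra.TensorProduct.map (IsScalarTower.toAlgHom A A[X] R) (AlgHom.id A B)
  let iB := Algebra.TensorProduct.map i (AlgHom.id A B)
  let eB := Algebra.TensorProduct.map e (AlgHom.id A B)
  -- key identity over `R[X]`
  have hkey : F.toFun' R[X] (iB x + iB w * ι' c) = F.toFun' R[X] (iB x) := by
    have h1 := h R[X] ((X : R[X]) • iB x) (iB w)
    have h2 : ι' (((X : A[X]) ⊗ₜ[A] (1 : B)) * c) = (X : R[X]) • ι' c := by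
      rw [map_mul]
      have : ι' ((X : A[X]) ⊗ₜ[A] (1 : B)) = (X : R[X]) ⊗ₜ[A] (1 : B) := by
        simp only [ι', Algebra.TensorProduct.map_tmul, AlgHom.id_apply]
        congr 1
        show (algebraMap A[X] R[X]) X = X
        rw [Polynomial.algebraMap_def]
        simp
      rw [this, Algebra.smul_def, Algebra.TensorProduct.algebraMap_apply]
      rfl
    change F.toFun' R[X] ((X : R[X]) • iB x + iB w * ι' (((X : A[X]) ⊗ₜ[A] (1 : B)) * c)) = _ at h1
    rw [h2, mul_smul_comm, ← smul_add, hF, hF] at h1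
    -- cancel `X ^ d`
    let ρ := TensorProduct.AlgebraTensorModule.rid A R[X] R[X]
    have h3 := congrArg ρ h1
    rw [map_smul, map_smul, smul_eq_mul, smul_eq_mul] at h3
    have h4 := (Polynomial.isRegular_X_pow (R := R) d).left h3
    exact ρ.injective h4
  -- specialise along `e`
  have h5 := congrArg (e.toLinearMap.rTensor A) hkey
  rw [PolynomialLaw.isCompat_apply', PolynomialLaw.isCompat_apply', rTensor_eq_map, rTensor_eq_map] at h5
  have hei : ∀ z : R ⊗[A] B, eB (iB z) = z := by
    intro z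
    simp only [eB, iB]
    rw [← AlgHom.comp_apply, ← Algebra.TensorProduct.map_comp]
    have : e.comp i = AlgHom.id A R := by
      ext y
      simp [e, i]
    rw [this, AlgHom.comp_id, Algebra.TensorProduct.map_id, AlgHom.id_apply]
  have heι : ∀ z : A[X] ⊗[A] B, eB (ι' z) = ιR z := by
    intro z
    simp only [eB, ι', ιR]
    rw [← AlgHom.comp_apply, ← Algebra.TensorProduct.map_comp]
    have : e.comp (IsScalarTower.toAlgHom A A[X] R[X]) = IsScalarTower.toAlgHom A A[X] R := by
      apply Polynomial.algHom_ext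
      simp only [AlgHom.comp_apply, IsScalarTower.coe_toAlgHom']
      rw [Polynomial.algebraMap_def]
      simp [e, hr]
    rw [this, AlgHom.comp_id]
  change F.toFun' R (eB (iB x + iB w * ι' c)) = F.toFun' R (eB (iB x)) at h5
  rw [map_add, map_mul, hei, hei, heι] at h5
  exact h5

/-- all coefficients of an element of the base-changed kernel lie in the kernel -/
lemma coeff_mem (F : B →ₚₗ[A] A) {d : ℕ} (hF : PolLaw.IsHomog F d) :
    ∀ (N : ℕ) (b : ℕ → B),
      (∑ n ∈ Finset.range N, ((X : A[X]) ^ n) ⊗ₜ[A] b n) ∈ PolLaw.kerBC F A[X] →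
      ∀ n < N, b n ∈ PolLaw.ker F := by
  intro N
  induction N with
  | zero => intro b _ n hn; omega
  | succ N ih =>
    intro b hc
    have h0 : b 0 ∈ PolLaw.ker F := coeff_zero_mem F (N + 1) (Nat.succ_pos N) b hc
    have hsplit : (∑ n ∈ Finset.range (N + 1), ((X : A[X]) ^ n) ⊗ₜ[A] b n) =
        (1 : A[X]) ⊗ₜ[A] b 0 + ((X : A[X]) ⊗ₜ[A] (1 : B)) *
          ∑ n ∈ Finset.range N, ((X : A[X]) ^ n) ⊗ₜ[A] b (n + 1) := by
      rw [Finset.sum_range_succ', pow_zero, add_comm, Finset.mul_sum]
      congr 1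
      apply Finset.sum_congr rfl
      intro n _
      rw [Algebra.TensorProduct.tmul_mul_tmul, one_mul, pow_succ']
    rw [hsplit] at hc
    have h1 : ((X : A[X]) ⊗ₜ[A] (1 : B)) *
          ∑ n ∈ Finset.range N, ((X : A[X]) ^ n) ⊗ₜ[A] b (n + 1) ∈ PolLaw.kerBC F A[X] := by
      have := (PolLaw.kerBC F A[X]).sub_mem hc (one_tmul_mem_kerBC F A[X] (b 0) h0)
      simpa using this
    have h2 := ih (fun n => b (n + 1)) (sat F hF _ h1)
    intro n hn
    rcases Nat.eq_zero_or_pos n with rfl | hpos
    · exact h0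
    · obtain ⟨m, rfl⟩ : ∃ m, n = m + 1 := ⟨n - 1, by omega⟩
      exact h2 m (by omega)

theorem main {d : ℕ} (F : PolLaw.MulLaw A B A d) :
    (PolLaw.ker F.law).map (Algebra.TensorProduct.includeRight : B →ₐ[A] Polynomial A ⊗[A] B) =
      PolLaw.kerBC F.law (Polynomial A) := by
  apply le_antisymm
  · rw [Ideal.map_le_iff_le_comap]
    intro b hb
    exact one_tmul_mem_kerBC F.law A[X] b hb
  · intro c hc
    obtain ⟨N, b, rfl⟩ := rep c
    have h1 := coeff_mem F.law F.homog N b hc
    apply Ideal.sum_mem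
    intro n hn
    have h2 : ((X : A[X]) ^ n) ⊗ₜ[A] b n = (((X : A[X]) ^ n) ⊗ₜ[A] (1 : B)) *
        (Algebra.TensorProduct.includeRight : B →ₐ[A] Polynomial A ⊗[A] B) (b n) := by
      rw [Algebra.TensorProduct.includeRight_apply, Algebra.TensorProduct.tmul_mul_tmul, mul_one,
        one_mul]
    rw [h2]
    exact Ideal.mul_mem_left _ _ (Ideal.mem_map_of_mem _ (h1 n (Finset.mem_range.mp hn)))

end Groth.Agent.H9.PL4
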