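import Mathlib
import Groth.Prelude.Def_PolLaw
import Groth.Agent.Lib.Helper9.Misc.PLR1
import Groth.Agent.Lib.Helper9.Misc.PLB1
import Groth.Agent.Lib.Helper9.Misc.PLR2
import Groth.Agent.Lib.Helper9.Misc.PL4

/-! Helper9: transitivity of base change of laws; kernels and polynomial extensions. -/
set_option linter.style.haveILetI false

namespace Groth.Agent.H9.PLB
open scoped TensorProduct
open Groth.Agent.H9.PLR

universe u
variable {A : Type u} [CommRing A] {B : Type u} [CommRing B] [Algebra A B]
variable (A' : Type u) [CommRing A'] [Algebra A A']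
variable (A'' : Type u) [CommRing A''] [Algebra A A''] [Algebra A' A''] [IsScalarTower A A' A'']

lemma canc_map (R : Type u) [CommSemiring R] [Algebra A R] [Algebra A' R] [Algebra A'' R]
    [IsScalarTower A A' R] [IsScalarTower A A'' R] [IsScalarTower A' A'' R]
    (c : A'' ⊗[A'] (A' ⊗[A] B)) :
    canc A' R (Algebra.TensorProduct.map (IsScalarTower.toAlgHom A' A'' R)
      (AlgHom.id A' (A' ⊗[A] B)) c) =
    Algebra.TensorProduct.map (IsScalarTower.toAlgHom A A'' R) (AlgHom.id A B) (canc A' A'' c) := by
  induction c using TensorProduct.induction_on with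
  | zero => simp
  | tmul a'' b' =>
    induction b' using TensorProduct.induction_on with
    | zero => simp
    | tmul a' b =>
      simp only [Algebra.TensorProduct.map_tmul, AlgHom.id_apply, canc,
        Algebra.TensorProduct.cancelBaseChange_tmul, IsScalarTower.coe_toAlgHom']
      congr 1
      rw [Algebra.smul_def, Algebra.smul_def, map_mul, ← IsScalarTower.algebraMap_apply]
    | add x y hx hy =>
      rw [TensorProduct.tmul_add, map_add, map_add, map_add, map_add, hx, hy]
  | add x y hx hy =>
    rw [map_add, map_add, map_add, map_add, hx, hy]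

theorem kerBC_bc (F : B →ₚₗ[A] A) (c : A'' ⊗[A'] (A' ⊗[A] B)) :
    c ∈ PolLaw.kerBC (bc A' F) A'' ↔ canc A' A'' c ∈ PolLaw.kerBC F A'' := by
  constructor
  · intro h R _ instA instA'' tower x w
    letI instA' : Algebra A' R := Algebra.compHom R (algebraMap A' A'')
    haveI t1 : IsScalarTower A' A'' R := IsScalarTower.of_algebraMap_eq (fun _ => rfl)
    have e : instA = algOf (A := A) A' R := by
      apply Algebra.algebra_ext
      intro a
      show algebraMap A R a = algebraMap A'' R (algebraMap A' A'' (algebraMap A A' a))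
      rw [← IsScalarTower.algebraMap_apply A A' A'', ← IsScalarTower.algebraMap_apply A A'' R]
    subst e
    letI := algOf (A := A) A' R
    haveI t2 : IsScalarTower A A' R := towerOf (A := A) A' R
    have h1 := h R ((canc A' R).symm x) ((canc A' R).symm w)
    have h2 := congrArg (TensorProduct.rid A' R) h1
    change TensorProduct.rid A' R ((TensorProduct.rid A' R).symm (bcHat A' R F _)) =
      TensorProduct.rid A' R ((TensorProduct.rid A' R).symm (bcHat A' R F _)) at h2
    rw [LinearEquiv.apply_symm_apply, LinearEquiv.apply_symm_apply] at h2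
    unfold bcHat hat at h2
    rw [map_add, map_mul, AlgEquiv.apply_symm_apply, AlgEquiv.apply_symm_apply, canc_map] at h2
    exact (TensorProduct.rid A R).injective h2
  · intro h R _ instA' instA'' tower x w
    letI := algOf (A := A) A' R
    haveI := towerOf (A := A) A' R
    haveI t2 : IsScalarTower A A'' R := IsScalarTower.of_algebraMap_eq (fun a => by
      show algebraMap A' R (algebraMap A A' a) = algebraMap A'' R (algebraMap A A'' a)
      rw [IsScalarTower.algebraMap_apply A A' A'', ← IsScalarTower.algebraMap_apply A' A'' R])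
    show (TensorProduct.rid A' R).symm (bcHat A' R F (x + w * _)) =
      (TensorProduct.rid A' R).symm (bcHat A' R F x)
    congr 1
    unfold bcHat hat
    rw [map_add, map_mul, canc_map]
    congr 1
    exact h R (canc A' R x) (canc A' R w)

open Polynomial in
lemma canc_includeRight (z : A' ⊗[A] B) :
    canc A' A'[X] ((Algebra.TensorProduct.includeRight :
      A' ⊗[A] B →ₐ[A'] A'[X] ⊗[A'] (A' ⊗[A] B)) z) = inc A' B z := by
  induction z using TensorProduct.induction_on with
  | zero => simp
  | tmul a b =>
    simp [canc, Algebra.smul_def]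
  | add x y hx hy =>
    rw [map_add, map_add, map_add, hx, hy]

open Polynomial in
/-- the kernel commutes with polynomial extension of the base, relative version -/
theorem kerBC_polynomial {d : ℕ} (F : PolLaw.MulLaw A B A d) :
    PolLaw.kerBC F.law A'[X] = (PolLaw.kerBC F.law A').map (inc (A := A) A' B).toRingHom := by
  set iR : A' ⊗[A] B →+* A'[X] ⊗[A'] (A' ⊗[A] B) :=
    (Algebra.TensorProduct.includeRight :
      A' ⊗[A] B →ₐ[A'] A'[X] ⊗[A'] (A' ⊗[A] B)).toRingHom with hiR
  set e : A'[X] ⊗[A'] (A' ⊗[A] B) →+* (TensorProduct A (Polynomial A') B) := (canc (A := A) (B := B) A' A'[X]).toAlgHom.toRingHom with he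
  set einv : (TensorProduct A (Polynomial A') B) →+* A'[X] ⊗[A'] (A' ⊗[A] B) :=
    (canc (A := A) (B := B) A' A'[X]).symm.toAlgHom.toRingHom with heinv
  have key : ∀ c : A'[X] ⊗[A'] (A' ⊗[A] B), c ∈ PolLaw.kerBC (bc A' F.law) A'[X] ↔
      c ∈ (PolLaw.kerBC F.law A').map iR := by
    intro c
    have h := Groth.Agent.H9.PL4.main (mulBC A' F)
    change (PolLaw.ker (bc A' F.law)).map iR = PolLaw.kerBC (bc A' F.law) A'[X] at h
    rw [← h, ker_bc]
  have hmap : (PolLaw.kerBC F.law A').map (inc (A := A) A' B).toRingHom =
      ((PolLaw.kerBC F.law A').map iR).map e := by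
    rw [Ideal.map_map]
    congr 1
    apply RingHom.ext
    intro z
    exact (canc_includeRight A' z).symm
  ext c
  constructor
  · intro hc
    have h1 : (canc (A := A) (B := B) A' A'[X]).symm c ∈ PolLaw.kerBC (bc A' F.law) A'[X] := by
      rw [kerBC_bc, AlgEquiv.apply_symm_apply]
      exact hc
    rw [key] at h1
    rw [hmap]
    have h2 := Ideal.mem_map_of_mem e h1
    have h3 : e ((canc (A := A) (B := B) A' A'[X]).symm c) = c :=
      (canc (A := A) (B := B) A' A'[X]).apply_symm_apply c
    rw [h3] at h2
    exact h2
  · intro hc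
    rw [hmap] at hc
    have h1 : (canc (A := A) (B := B) A' A'[X]).symm c ∈ (PolLaw.kerBC F.law A').map iR := by
      have hle : ((PolLaw.kerBC F.law A').map iR).map e ≤
          ((PolLaw.kerBC F.law A').map iR).comap einv := by
        rw [Ideal.map_le_iff_le_comap]
        intro z hz
        rw [Ideal.mem_comap, Ideal.mem_comap]
        have h3 : einv (e z) = z := (canc (A := A) (B := B) A' A'[X]).symm_apply_apply z
        rw [h3]
        exact hz
      exact Ideal.mem_comap.mp (hle hc)
    have h2 := (key _).mpr h1
    rw [kerBC_bc, AlgEquiv.apply_symm_apply] at h2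
    exact h2

end Groth.Agent.H9.PLB
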