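import Mathlib

/-! Helper9: monotone tuples and multi-indices. -/

namespace Groth.Agent.H9.PLR

universe u
variable {I : Type u} [LinearOrder I] {d : ℕ}

/-- the multi-index of a tuple -/
noncomputable def nu (f : Fin d → I) : I →₀ ℕ := ∑ i, Finsupp.single (f i) 1

omit [LinearOrder I] in
lemma toMultiset_nu (f : Fin d → I) : Finsupp.toMultiset (nu f) = ↑(List.ofFn f) := by
  unfold nu
  rw [map_sum]
  simp only [Finsupp.toMultiset_single, one_smul]
  rw [Finset.sum]
  have : Multiset.map (fun x => ({f x} : Multiset I)) Finset.univ.val =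
      Multiset.map (fun a => ({a} : Multiset I)) (Multiset.map f Finset.univ.val) := by
    rw [Multiset.map_map]; rfl
  rw [this, Multiset.sum_map_singleton, Fin.univ_val_map]

lemma toMultiset_inj : Function.Injective (Finsupp.toMultiset : (I →₀ ℕ) → Multiset I) :=
  fun a b h => Multiset.toFinsupp.symm.injective (by simpa using h)

lemma nu_injOn {f g : Fin d → I} (hf : Monotone f) (hg : Monotone g) (h : nu f = nu g) : f = g := by
  have h1 : (↑(List.ofFn f) : Multiset I) = ↑(List.ofFn g) := by
    rw [← toMultiset_nu, ← toMultiset_nu, h]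
  have h2 : List.Perm (List.ofFn f) (List.ofFn g) := Multiset.coe_eq_coe.mp h1
  exact List.ofFn_injective (h2.eq_of_sortedLE hf.sortedLE_ofFn hg.sortedLE_ofFn)

lemma nu_surj (ν : I →₀ ℕ) (hd : (ν.sum fun _ n => n) = d) :
    ∃ f : Fin d → I, Monotone f ∧ nu f = ν := by
  subst hd
  set l := (Finsupp.toMultiset ν).sort (· ≤ ·) with hl
  have hlen : l.length = (ν.sum fun _ n => n) := by
    rw [hl, Multiset.length_sort, Finsupp.card_toMultiset]
    rfl
  refine ⟨fun i => l.get (Fin.cast hlen.symm i), ?_, ?_⟩
  · have hs : l.SortedLE := (Multiset.pairwise_sort _ _).sortedLE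
    have : (List.ofFn (fun i => l.get (Fin.cast hlen.symm i))).SortedLE := by
      have e : List.ofFn (fun i => l.get (Fin.cast hlen.symm i)) = l := by
        rw [← List.ofFn_congr hlen (l.get), List.ofFn_get]
      rw [e]; exact hs
    exact List.sortedLE_ofFn_iff.mp this
  · apply toMultiset_inj
    rw [toMultiset_nu]
    have e : List.ofFn (fun i => l.get (Fin.cast hlen.symm i)) = l := by
      rw [← List.ofFn_congr hlen (l.get), List.ofFn_get]
    rw [e, hl, Multiset.sort_eq]

lemma nu_support (f : Fin d → I) : (nu f).support = Finset.image f Finset.univ := by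
  ext α
  rw [Finsupp.mem_support_iff, Finset.mem_image]
  unfold nu
  rw [Finsupp.finsetSum_apply]
  constructor
  · intro h
    by_contra hc
    apply h
    apply Finset.sum_eq_zero
    intro i _
    rw [Finsupp.single_apply, if_neg]
    intro hi
    exact hc ⟨i, Finset.mem_univ i, hi⟩
  · rintro ⟨i, _, rfl⟩
    have : 0 < ∑ j, (Finsupp.single (f j) 1 : I →₀ ℕ) (f i) := by
      apply Finset.sum_pos' (fun _ _ => Nat.zero_le _) ⟨i, Finset.mem_univ i, by simp⟩
    omega

omit [LinearOrder I] in
lemma nu_sum (f : Fin d → I) : ((nu f).sum fun _ n => n) = d := by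
  have := Finsupp.card_toMultiset (nu f)
  rw [toMultiset_nu] at this
  simp at this
  exact this.symm

omit [LinearOrder I] in
lemma prod_nu {M : Type*} [CommMonoid M] (f : Fin d → I) (s : I → M) :
    (nu f).prod (fun α n => s α ^ n) = ∏ i, s (f i) := by
  unfold nu
  rw [← Finsupp.prod_finsetSum_index]
  · apply Finset.prod_congr rfl
    intro i _
    rw [Finsupp.prod_single_index (h := fun α n => s α ^ n) (pow_zero _), pow_one]
  · intro α; exact pow_zero _
  · intro α m n; exact pow_add _ _ _

end Groth.Agent.H9.PLR
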