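import Mathlib
import Groth.Prelude.Def_PolLaw
import Groth.Agent.Lib.Helper9.Misc.PLR1
import Groth.Agent.Lib.Helper9.Misc.PLR2

/-! Helper9: generic coefficients of laws with target the base ring. -/

namespace Groth.Agent.H9.PLR
open scoped TensorProduct
open MvPolynomial

universe u
variable {A : Type u} [CommRing A] {B : Type u} [CommRing B] [Algebra A B]
variable {I : Type u} (e : I → B) (F : B →ₚₗ[A] A)

/-- generic element -/
noncomputable def gen (I₀ : Finset I) : MvPolynomial I A ⊗[A] B := ∑ α ∈ I₀, (X α) ⊗ₜ[A] e α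

/-- generic value -/
noncomputable def gpol (I₀ : Finset I) : MvPolynomial I A := hat F (MvPolynomial I A) (gen e I₀)

lemma hat_sum (S : Type u) [CommSemiring S] [Algebra A S] (s : I → S) (I₀ : Finset I) :
    hat F S (∑ α ∈ I₀, s α ⊗ₜ[A] e α) = aeval s (gpol e F I₀) := by
  unfold gpol
  rw [← hat_map]
  congr 1
  unfold gen
  rw [map_sum]
  apply Finset.sum_congr rfl
  intro α _
  rw [Algebra.TensorProduct.map_tmul, aeval_X, AlgHom.id_apply]

lemma rid_smul (S : Type u) [CommSemiring S] [Algebra A S] (s : S) (z : S ⊗[A] A) :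
    TensorProduct.rid A S (s • z) = s * TensorProduct.rid A S z := by
  rw [rid_eq, rid_eq, map_smul, smul_eq_mul]

/-- the scaling map `X α ↦ λ X α` -/
noncomputable def scal : MvPolynomial I A →ₐ[A] Polynomial (MvPolynomial I A) :=
  aeval (fun α => (Polynomial.X : Polynomial (MvPolynomial I A)) * Polynomial.C (X α))

lemma scal_monomial (μ : I →₀ ℕ) (a : A) :
    scal (monomial μ a) = Polynomial.C (monomial μ a) * Polynomial.X ^ (μ.sum fun _ n => n) := by
  unfold scal
  rw [aeval_monomial]
  have h1 : (μ.prod fun α n => ((Polynomial.X : Polynomial (MvPolynomial I A)) * Polynomial.C (X α)) ^ n) =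
      Polynomial.X ^ (μ.sum fun _ n => n) * Polynomial.C (μ.prod fun α n => (X α : MvPolynomial I A) ^ n) := by
    simp only [mul_pow]
    rw [Finsupp.prod_mul, Finsupp.prod, Finset.prod_pow_eq_pow_sum, map_finsuppProd]
    simp only [map_pow]
    rfl
  rw [h1, monomial_eq, Polynomial.C_mul, Polynomial.algebraMap_apply]
  simp only [MvPolynomial.algebraMap_eq]
  ring

open Classical in
lemma coeff_scal (p : MvPolynomial I A) (k : ℕ) (ν : I →₀ ℕ) :
    coeff ν ((scal p).coeff k) = if (ν.sum fun _ n => n) = k then coeff ν p else 0 := by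
  induction p using MvPolynomial.induction_on' with
  | monomial μ a =>
    rw [scal_monomial, Polynomial.coeff_C_mul_X_pow]
    by_cases hk : k = (μ.sum fun _ n => n)
    · rw [if_pos hk]
      by_cases hν : (ν.sum fun _ n => n) = k
      · rw [if_pos hν]
      · rw [if_neg hν, coeff_monomial, if_neg]
        intro h
        subst h
        exact hν hk.symm
    · rw [if_neg hk, coeff_zero]
      by_cases hν : (ν.sum fun _ n => n) = k
      · rw [if_pos hν, coeff_monomial, if_neg]
        intro h
        subst h
        exact hk hν.symm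
      · rw [if_neg hν]
  | add p q hp hq =>
    rw [map_add, Polynomial.coeff_add, coeff_add, hp, hq, coeff_add]
    split_ifs <;> simp

lemma gpol_homog {d : ℕ} (hF : PolLaw.IsHomog F d) (I₀ : Finset I) (ν : I →₀ ℕ)
    (hν : (ν.sum fun _ n => n) ≠ d) : coeff ν (gpol e F I₀) = 0 := by
  have h1 : scal (gpol e F I₀) =
      Polynomial.C (gpol e F I₀) * Polynomial.X ^ d := by
    unfold gpol
    rw [← hat_map]
    have h2 : Algebra.TensorProduct.map (scal (I := I) (A := A)) (AlgHom.id A B) (gen e I₀) =
        (Polynomial.X : Polynomial (MvPolynomial I A)) • inc (MvPolynomial I A) B (gen e I₀) := by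
      unfold gen
      rw [map_sum, map_sum, Finset.smul_sum]
      apply Finset.sum_congr rfl
      intro α _
      rw [Algebra.TensorProduct.map_tmul, inc_tmul, TensorProduct.smul_tmul', smul_eq_mul,
        AlgHom.id_apply]
      congr 1
      unfold scal
      rw [aeval_X]
    rw [h2]
    unfold hat
    rw [hF, rid_smul]
    change _ * hat F _ _ = _
    rw [hat_inc, mul_comm]
    rfl
  have h3 := coeff_scal (gpol e F I₀) (ν.sum fun _ n => n) ν
  rw [if_pos rfl, h1, Polynomial.coeff_C_mul_X_pow, if_neg hν, coeff_zero] at h3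
  exact h3.symm

open Classical in
/-- the restriction map killing the variables outside `I₀` -/
noncomputable def restr (I₀ : Finset I) : MvPolynomial I A →ₐ[A] MvPolynomial I A :=
  aeval (fun α => if α ∈ I₀ then X α else 0)

open Classical in
lemma restr_monomial (I₀ : Finset I) (μ : I →₀ ℕ) (a : A) :
    restr I₀ (monomial μ a) = if μ.support ⊆ I₀ then monomial μ a else 0 := by
  unfold restr
  rw [aeval_monomial]
  split_ifs with h
  · rw [monomial_eq, MvPolynomial.algebraMap_eq]
    congr 1
    apply Finsupp.prod_congr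
    intro α hα
    rw [if_pos (h hα)]
  · rw [Finset.not_subset] at h
    obtain ⟨α, hα, hα'⟩ := h
    rw [Finsupp.prod, Finset.prod_eq_zero hα, mul_zero]
    rw [if_neg hα', zero_pow (Finsupp.mem_support_iff.mp hα)]

open Classical in
lemma coeff_restr (I₀ : Finset I) (p : MvPolynomial I A) (ν : I →₀ ℕ) :
    coeff ν (restr I₀ p) = if ν.support ⊆ I₀ then coeff ν p else 0 := by
  induction p using MvPolynomial.induction_on' with
  | monomial μ a =>
    rw [restr_monomial]
    by_cases h : μ = ν
    · subst h
      split_ifs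
      · rfl
      · rw [coeff_zero]
    · split_ifs
      · rfl
      · rw [coeff_monomial, if_neg h]
      · rw [coeff_zero, coeff_monomial, if_neg h]
      · rw [coeff_zero]
  | add p q hp hq =>
    rw [map_add, coeff_add, hp, hq, coeff_add]
    split_ifs <;> simp

open Classical in
lemma restr_gpol (I₀ I₁ : Finset I) (h : I₀ ⊆ I₁) : restr I₀ (gpol e F I₁) = gpol e F I₀ := by
  unfold gpol
  rw [← hat_map]
  congr 1
  unfold gen
  rw [map_sum, ← Finset.sum_subset h]
  · apply Finset.sum_congr rfl
    intro α hα
    rw [Algebra.TensorProduct.map_tmul, AlgHom.id_apply]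
    congr 1
    unfold restr
    rw [aeval_X, if_pos hα]
  · intro α _ hα
    rw [Algebra.TensorProduct.map_tmul]
    unfold restr
    rw [aeval_X, if_neg hα, TensorProduct.zero_tmul]

open Classical in
lemma coeff_gpol (I₀ I₁ : Finset I) (h : I₀ ⊆ I₁) (ν : I →₀ ℕ) :
    coeff ν (gpol e F I₀) = if ν.support ⊆ I₀ then coeff ν (gpol e F I₁) else 0 := by
  rw [← restr_gpol e F I₀ I₁ h, coeff_restr]

end Groth.Agent.H9.PLR
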