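import Mathlib
import Groth.Prelude.Def_PolLaw
import Groth.Agent.Lib.Helper9.Misc.PLR1
import Groth.Agent.Lib.Helper9.Misc.PLR2
import Groth.Agent.Lib.Helper9.Misc.PLR4
import Groth.Agent.Lib.Helper9.Misc.PLR5

/-! Helper9: homogeneous laws on free algebras are linear forms on the tensor power. -/

namespace Groth.Agent.H9.PLR
open scoped TensorProduct
open MvPolynomial

universe u
variable {A : Type u} [CommRing A] {B : Type u} [CommRing B] [Algebra A B]

lemma tmul_prod {S Q : Type u} [CommRing S] [Algebra A S] [CommRing Q] [Algebra A Q]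
    {κ : Type*} (t : Finset κ) (a : κ → S) (q : κ → Q) :
    ∏ i ∈ t, (a i ⊗ₜ[A] q i) = (∏ i ∈ t, a i) ⊗ₜ[A] (∏ i ∈ t, q i) := by
  classical
  induction t using Finset.induction_on with
  | empty => simp [Algebra.TensorProduct.one_def]
  | insert i t hi ih =>
    rw [Finset.prod_insert hi, Finset.prod_insert hi, Finset.prod_insert hi, ih,
      Algebra.TensorProduct.tmul_mul_tmul]

/-- the tensor power -/
abbrev TP (A B : Type u) [CommRing A] [CommRing B] [Algebra A B] (d : ℕ) : Type u :=
  PiTensorProduct A (fun _ : Fin d => B)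

variable {I : Type u} [LinearOrder I] (e : Module.Basis I A B) (F : B →ₚₗ[A] A) (d : ℕ)

/-- basis of the tensor power -/
noncomputable def tbasis : Module.Basis (Fin d → I) A (TP A B d) :=
  _root_.Basis.piTensorProduct (fun _ => e)

lemma prod_single (b : Fin d → B) :
    ∏ i, PiTensorProduct.singleAlgHom (R := A) (A := fun _ : Fin d => B) i (b i) =
      PiTensorProduct.tprod A b := by
  simp only [PiTensorProduct.singleAlgHom_apply]
  rw [← PiTensorProduct.tprod_prod]
  congr 1
  exact Finset.univ_prod_mulSingle b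

open Classical in
/-- the linear form representing the law -/
noncomputable def phi : TP A B d →ₗ[A] A :=
  (tbasis e d).constr A (fun f =>
    if Monotone f then coeff (nu f) (gpol (fun α => e α) F (Finset.image f Finset.univ)) else 0)

open Classical in
lemma phi_tbasis (f : Fin d → I) : phi e F d (tbasis e d f) =
    if Monotone f then coeff (nu f) (gpol (fun α => e α) F (Finset.image f Finset.univ)) else 0 := by
  unfold phi
  rw [Module.Basis.constr_basis]

omit [LinearOrder I] in
lemma tbasis_apply (f : Fin d → I) :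
    tbasis e d f = PiTensorProduct.tprod A (fun i => e (f i)) :=
  _root_.Basis.piTensorProduct_apply _ _

/-- the coordinate maps into the tensor power -/
noncomputable def iot (i : Fin d) : B →ₐ[A] TP A B d :=
  PiTensorProduct.singleAlgHom (R := A) (A := fun _ : Fin d => B) i

open Classical in
lemma spec_sum (hF : PolLaw.IsHomog F d) (S : Type u) [CommRing S] [Algebra A S] (s : I → S)
    (I₀ : Finset I) :
    hat F S (∑ α ∈ I₀, s α ⊗ₜ[A] e α) =
      phiHat (phi e F d) S (∏ i, Algebra.TensorProduct.map (AlgHom.id S S) (iot (A := A) (B := B) d i)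
        (∑ α ∈ I₀, s α ⊗ₜ[A] e α)) := by
  set h : (I →₀ ℕ) → S := fun ν => algebraMap A S (coeff ν (gpol (fun α => e α) F I₀)) *
    ν.prod fun α n => s α ^ n with hh
  have hL : hat F S (∑ α ∈ I₀, s α ⊗ₜ[A] e α) =
      ∑ ν ∈ (gpol (fun α => e α) F I₀).support, h ν := by
    rw [hat_sum (fun α => e α) F S s I₀, aeval_def, eval₂_eq]
    rfl
  have hR : phiHat (phi e F d) S (∏ i, Algebra.TensorProduct.map (AlgHom.id S S) (iot (A := A) (B := B) d i)
        (∑ α ∈ I₀, s α ⊗ₜ[A] e α)) =
      ∑ f ∈ (Fintype.piFinset (fun _ : Fin d => I₀)).filter Monotone, h (nu f) := by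
    simp only [map_sum, Algebra.TensorProduct.map_tmul, AlgHom.id_apply]
    rw [Finset.prod_univ_sum, map_sum, Finset.sum_filter]
    apply Finset.sum_congr rfl
    intro f hf
    rw [tmul_prod]
    unfold iot
    rw [prod_single, ← tbasis_apply, phiHat_tmul, phi_tbasis]
    split_ifs with hm
    · have hsub : Finset.image f Finset.univ ⊆ I₀ := by
        intro α hα
        obtain ⟨i, _, rfl⟩ := Finset.mem_image.mp hα
        exact Fintype.mem_piFinset.mp hf i
      rw [coeff_gpol (fun α => e α) F _ I₀ hsub, if_pos (nu_support f).subset, hh]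
      simp only
      rw [prod_nu, Algebra.smul_def]
    · rw [zero_smul]
  rw [hL, hR, ← Finset.sum_image (f := h) (g := nu)]
  · apply Finset.sum_subset
    · intro ν hν
      rw [mem_support_iff] at hν
      have h1 : (ν.sum fun _ n => n) = d := by
        by_contra hc
        exact hν (gpol_homog (fun α => e α) F hF I₀ ν hc)
      have h2 : ν.support ⊆ I₀ := by
        by_contra hc
        apply hν
        rw [coeff_gpol (fun α => e α) F I₀ I₀ (Finset.Subset.refl _), if_neg hc]
      obtain ⟨f, hf, rfl⟩ := nu_surj ν h1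
      apply Finset.mem_image.mpr
      refine ⟨f, Finset.mem_filter.mpr ⟨Fintype.mem_piFinset.mpr ?_, hf⟩, rfl⟩
      intro i
      apply h2
      rw [nu_support]
      exact Finset.mem_image.mpr ⟨i, Finset.mem_univ i, rfl⟩
    · intro ν _ hν
      rw [mem_support_iff, not_not] at hν
      rw [hh]
      simp only
      rw [hν, map_zero, zero_mul]
  · intro f hf g hg hfg
    exact nu_injOn (Finset.mem_filter.mp hf).2 (Finset.mem_filter.mp hg).2 hfg

omit [LinearOrder I] in
lemma exists_rep (S : Type u) [CommRing S] [Algebra A S] (x : S ⊗[A] B) :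
    ∃ t : I →₀ S, x = t.sum fun α s => s ⊗ₜ[A] e α := by
  induction x using TensorProduct.induction_on with
  | zero => exact ⟨0, by simp⟩
  | tmul s b =>
    refine ⟨(e.repr b).mapRange (fun a => a • s) (zero_smul _ _), ?_⟩
    rw [Finsupp.sum_mapRange_index (h := fun α (s : S) => s ⊗ₜ[A] e α)
      (fun α => TensorProduct.zero_tmul _ _)]
    conv_lhs => rw [← e.linearCombination_repr b, Finsupp.linearCombination_apply, Finsupp.sum,
      TensorProduct.tmul_sum]
    rw [Finsupp.sum]
    apply Finset.sum_congr rfl
    intro α _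
    rw [TensorProduct.tmul_smul, TensorProduct.smul_tmul']
  | add x y hx hy =>
    obtain ⟨t, rfl⟩ := hx
    obtain ⟨t', rfl⟩ := hy
    refine ⟨t + t', ?_⟩
    rw [Finsupp.sum_add_index' (h := fun α (s : S) => s ⊗ₜ[A] e α)
      (fun α => TensorProduct.zero_tmul _ _) (fun α s s' => TensorProduct.add_tmul _ _ _)]

/-- the representation of a homogeneous law on a free algebra -/
noncomputable def repOfBasis (hF : PolLaw.IsHomog F d) : Rep F d where
  Q := TP A B d
  ι := iot d
  φ := phi e F d
  spec := by
    intro S _ _ x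
    obtain ⟨t, rfl⟩ := exists_rep e S x
    exact spec_sum e F d hF S t t.support

end Groth.Agent.H9.PLR
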