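import Mathlib
import Groth.Prelude.Def_PolLaw
import Groth.Agent.Lib.Helper9.Misc.PL1
import Groth.Agent.Lib.Helper9.Misc.PLR1
import Groth.Agent.Lib.Helper9.Misc.PLR2
import Groth.Agent.Lib.Helper9.Misc.PLR3
import Groth.Agent.Lib.Helper9.Misc.PLR6

/-! Helper9: Cayley–Hamilton for multiplicative homogeneous laws; the characteristic polynomial. -/

namespace Groth.Agent.H9.PLR
open scoped TensorProduct
open Polynomial

universe u
variable {A : Type u} [CommRing A] {B : Type u} [CommRing B] [Algebra A B]

/-- image of the kernel under a surjection -/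
lemma map_mem_ker_of_surjective {C : Type u} [CommRing C] [Algebra A C]
    {B' : Type u} [CommRing B'] [Algebra A B'] {d : ℕ}
    (F : PolLaw.MulLaw A B C d) (f : B' →ₐ[A] B) (hf : Function.Surjective f) (c : B')
    (hc : c ∈ PolLaw.ker (F.precomp f).law) : f c ∈ PolLaw.ker F.law := by
  intro S _ _ x w
  have hs : Function.Surjective (Algebra.TensorProduct.map (AlgHom.id S S) f) := by
    intro y
    induction y using TensorProduct.induction_on with
    | zero => exact ⟨0, map_zero _⟩
    | tmul s b =>
      obtain ⟨b', rfl⟩ := hf b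
      exact ⟨s ⊗ₜ[A] b', by simp⟩
    | add y z hy hz =>
      obtain ⟨y', rfl⟩ := hy
      obtain ⟨z', rfl⟩ := hz
      exact ⟨y' + z', map_add _ _ _⟩
  obtain ⟨x', rfl⟩ := hs x
  obtain ⟨w', rfl⟩ := hs w
  have h1 := hc S x' w'
  rw [PL.precomp_toFun', PL.precomp_toFun', map_add, map_mul, Algebra.TensorProduct.map_tmul,
    AlgHom.id_apply] at h1
  exact h1

/-- free case -/
theorem aeval_chi_mem_ker_free [Module.Free A B] {d : ℕ} (F : PolLaw.MulLaw A B A d) (b : B) :
    Polynomial.aeval b (chi F.law b) ∈ PolLaw.ker F.law := by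
  let _ : LinearOrder (Module.Free.ChooseBasisIndex A B) := WellOrderingRel.isWellOrder.linearOrder
  exact aeval_chi_mem_ker (repOfBasis (Module.Free.chooseBasis A B) F.law d F.homog) b F.mult

/-- Cayley–Hamilton: `χ_b(b)` lies in the kernel of `F`. -/
theorem aeval_chi_mem_ker' {d : ℕ} (F : PolLaw.MulLaw A B A d) (b : B) :
    Polynomial.aeval b (chi F.law b) ∈ PolLaw.ker F.law := by
  let π : MvPolynomial B A →ₐ[A] B := MvPolynomial.aeval id
  have hπ : Function.Surjective π := by
    intro b
    exact ⟨MvPolynomial.X b, by simp [π]⟩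
  have h1 := aeval_chi_mem_ker_free (F.precomp π) (MvPolynomial.X b)
  have h2 : chi (F.precomp π).law (MvPolynomial.X b) = chi F.law b := by
    unfold chi hat
    rw [PL.precomp_toFun', map_sub, Algebra.TensorProduct.map_tmul, Algebra.TensorProduct.map_tmul]
    simp [π]
  rw [h2] at h1
  have h3 := map_mem_ker_of_surjective F π hπ _ h1
  rw [← Polynomial.aeval_algHom_apply] at h3
  simpa [π] using h3

section monic
variable {d : ℕ} {F : B →ₚₗ[A] A} (R : Rep F d) (b : B)

lemma gam_one (S : Type u) [CommRing S] [Algebra A S] : gam R S 1 = 1 := by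
  unfold gam
  simp

lemma phi_one (hF : PolLaw.IsMult F) : R.φ 1 = 1 := by
  have h := R.spec A 1
  rw [hat_one hF] at h
  simp only [map_one, Finset.prod_const_one] at h
  rw [Algebra.TensorProduct.one_def, phiHat_tmul, smul_eq_mul, mul_one] at h
  exact h.symm

lemma chi_coeff_rep (hF : PolLaw.IsMult F) (l : ℕ) :
    (chi F b).coeff l = R.φ ((Et R b).coeff l) := by
  have h := good_gam R b hF [l] A 1
  rw [gam_one, hat_one hF] at h
  simp only [List.map_cons, List.map_nil, List.prod_cons, List.prod_nil, mul_one, smul_eq_mul] at h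
  rw [phiHat_tmul, smul_eq_mul, mul_one] at h
  exact h.symm

lemma Et_eq : Et R b = (-1) ^ d * ∏ i : Fin d, (X - C (R.ι i b)) := by
  unfold Et
  have : ∀ i : Fin d, (C (R.ι i b) - X : R.Q[X]) = (-1) * (X - C (R.ι i b)) := by
    intro i; ring
  simp only [this]
  rw [Finset.prod_mul_distrib, Finset.prod_const, Finset.card_univ, Fintype.card_fin]

lemma prod_monic : (∏ i : Fin d, (X - C (R.ι i b))).Monic :=
  Polynomial.monic_prod_of_monic _ _ (fun i _ => Polynomial.monic_X_sub_C _)

lemma prod_natDegree [Nontrivial R.Q] : (∏ i : Fin d, (X - C (R.ι i b))).natDegree = d := by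
  rw [Polynomial.natDegree_prod_of_monic _ _ (fun i _ => Polynomial.monic_X_sub_C _)]
  simp

lemma Et_coeff (l : ℕ) (hl : d < l) : (Et R b).coeff l = 0 := by
  rcases subsingleton_or_nontrivial R.Q with h | h
  · exact Subsingleton.elim _ _
  · rw [Et_eq, ← C_1, ← C_neg, ← C_pow, coeff_C_mul, Polynomial.coeff_eq_zero_of_natDegree_lt, mul_zero]
    rw [prod_natDegree]; exact hl

lemma Et_coeff_d : (Et R b).coeff d = (-1) ^ d := by
  rcases subsingleton_or_nontrivial R.Q with h | h
  · exact Subsingleton.elim _ _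
  · rw [Et_eq, ← C_1, ← C_neg, ← C_pow, coeff_C_mul]
    have := (prod_monic R b).coeff_natDegree
    rw [prod_natDegree] at this
    rw [this, mul_one]

include R in
lemma chi_natDegree_le (hF : PolLaw.IsMult F) : (chi F b).natDegree ≤ d := by
  rw [Polynomial.natDegree_le_iff_coeff_eq_zero]
  intro l hl
  rw [chi_coeff_rep R b hF, Et_coeff R b l hl, map_zero]

include R in
lemma chi_coeff_d (hF : PolLaw.IsMult F) : (chi F b).coeff d = (-1) ^ d := by
  rw [chi_coeff_rep R b hF, Et_coeff_d]
  have : ((-1 : R.Q) ^ d) = ((-1 : A) ^ d) • (1 : R.Q) := by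
    rw [Algebra.smul_def, mul_one, map_pow, map_neg, map_one]
  rw [this, map_smul, phi_one R hF, smul_eq_mul, mul_one]

end monic

/-- the characteristic polynomial has degree at most `d` and leading coefficient `(-1)^d` -/
theorem chi_spec {d : ℕ} (F : PolLaw.MulLaw A B A d) (b : B) :
    (chi F.law b).natDegree ≤ d ∧ (chi F.law b).coeff d = (-1) ^ d := by
  let π : MvPolynomial B A →ₐ[A] B := MvPolynomial.aeval id
  have h2 : chi (F.precomp π).law (MvPolynomial.X b) = chi F.law b := by
    unfold chi hat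
    rw [PL.precomp_toFun', map_sub, Algebra.TensorProduct.map_tmul, Algebra.TensorProduct.map_tmul]
    simp [π]
  let _ : LinearOrder (Module.Free.ChooseBasisIndex A (MvPolynomial B A)) :=
    WellOrderingRel.isWellOrder.linearOrder
  let R := repOfBasis (Module.Free.chooseBasis A (MvPolynomial B A)) (F.precomp π).law d
    (F.precomp π).homog
  rw [← h2]
  exact ⟨chi_natDegree_le R _ (F.precomp π).mult, chi_coeff_d R _ (F.precomp π).mult⟩

end Groth.Agent.H9.PLR
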