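import Mathlib
import Groth.Prelude.Def_PolLaw
import Groth.Agent.Lib.Helper9.Misc.PLR1
import Groth.Agent.Lib.Helper9.Misc.PLR2
import Groth.Agent.Lib.Helper9.Misc.PLR7
import Groth.Agent.Lib.Helper9.Misc.PLB1
import Groth.Agent.Lib.Helper9.Misc.PLB2

/-! Helper9: characteristic polynomials after base change; Cayley–Hamilton for base-changed laws. -/
set_option linter.style.haveILetI false

namespace Groth.Agent.H9.PLB
open scoped TensorProduct
open Groth.Agent.H9.PLR
open Polynomial

universe u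
variable {A : Type u} [CommRing A] {B : Type u} [CommRing B] [Algebra A B]
variable (A' : Type u) [CommRing A'] [Algebra A A']

lemma hat_bc' (F : B →ₚₗ[A] A) (R : Type u) [CommSemiring R] [instA : Algebra A R] [Algebra A' R]
    [IsScalarTower A A' R] (y : R ⊗[A'] (A' ⊗[A] B)) :
    hat (bc A' F) R y = bcHat A' R F y := by
  have e : instA = algOf (A := A) A' R :=
    Algebra.algebra_ext _ _ (fun a => IsScalarTower.algebraMap_apply A A' R a)
  subst e
  exact hat_bc A' F R y

/-- the characteristic polynomial of an element of `S ⊗ B` -/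
noncomputable def chiS (F : B →ₚₗ[A] A) (S : Type u) [CommRing S] [Algebra A S] (z : S ⊗[A] B) : S[X] :=
  hat F S[X] (inc S B z - (X : S[X]) ⊗ₜ[A] (1 : B))

lemma chi_bc (F : B →ₚₗ[A] A) (z : A' ⊗[A] B) : chi (bc A' F) z = chiS F A' z := by
  unfold chi chiS
  rw [hat_bc']
  unfold bcHat
  congr 1
  rw [map_sub, canc_one_tmul]
  congr 1
  rw [Algebra.TensorProduct.one_def]
  simp [canc]

lemma inc_map {A₁ A₂ : Type u} [CommRing A₁] [Algebra A A₁] [CommRing A₂] [Algebra A A₂]
    (ψ : A₁ →ₐ[A] A₂) (z : A₁ ⊗[A] B) :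
    Algebra.TensorProduct.map (Polynomial.mapAlgHom ψ) (AlgHom.id A B) (inc A₁ B z) =
      inc A₂ B (Algebra.TensorProduct.map ψ (AlgHom.id A B) z) := by
  induction z using TensorProduct.induction_on with
  | zero => simp
  | tmul a b => simp
  | add x y hx hy => simp only [map_add, hx, hy]

lemma chiS_map (F : B →ₚₗ[A] A) {A₁ A₂ : Type u} [CommRing A₁] [Algebra A A₁] [CommRing A₂]
    [Algebra A A₂] (ψ : A₁ →ₐ[A] A₂) (z : A₁ ⊗[A] B) :
    chiS F A₂ (Algebra.TensorProduct.map ψ (AlgHom.id A B) z) =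
      Polynomial.map (ψ : A₁ →+* A₂) (chiS F A₁ z) := by
  unfold chiS
  have h := hat_map F (Polynomial.mapAlgHom ψ) (inc A₁ B z - (X : A₁[X]) ⊗ₜ[A] (1 : B))
  rw [map_sub, inc_map, Algebra.TensorProduct.map_tmul] at h
  simp only [Polynomial.coe_mapAlgHom, Polynomial.map_X, AlgHom.id_apply] at h
  exact h

/-- Cayley–Hamilton after base change -/
theorem aeval_chiS_mem_kerBC {d : ℕ} (F : PolLaw.MulLaw A B A d) (z : A' ⊗[A] B) :
    Polynomial.aeval z (chiS F.law A' z) ∈ PolLaw.kerBC F.law A' := by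
  have h := aeval_chi_mem_ker' (mulBC A' F) z
  change Polynomial.aeval z (chi (bc A' F.law) z) ∈ PolLaw.ker (bc A' F.law) at h
  rw [chi_bc, ker_bc] at h
  exact h

end Groth.Agent.H9.PLB
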