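import Mathlib
import Groth.Prelude.Def_PolLaw
import Groth.Agent.Lib.Helper9.Misc.PLR1
import Groth.Agent.Lib.Helper9.Misc.PLR2
import Groth.Agent.Lib.Helper9.Misc.PLR7

/-! Helper9: the Cayley–Hamilton ideal and integrality of the image of a multiplicative law. -/

namespace Groth.Agent.H9.PLR
open scoped TensorProduct
open Polynomial

universe u
variable {A : Type u} [CommRing A] {B : Type u} [CommRing B] [Algebra A B]

lemma hat_smul_one {d : ℕ} (F : PolLaw.MulLaw A B A d) (S : Type u) [CommSemiring S] [Algebra A S]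
    (s : S) : hat F.law S (s ⊗ₜ[A] (1 : B)) = s ^ d := by
  have h := F.homog S s 1
  have h1 : s • (1 : S ⊗[A] B) = s ⊗ₜ[A] (1 : B) := by
    rw [Algebra.TensorProduct.one_def, TensorProduct.smul_tmul', smul_eq_mul, mul_one]
  rw [h1] at h
  unfold hat
  rw [h, (F.mult S).1, rid_eq, map_smul, map_one, smul_eq_mul, mul_one]

/-- the characteristic polynomial of an element of the kernel -/
lemma chi_of_mem_ker {d : ℕ} (F : PolLaw.MulLaw A B A d) (b : B) (hb : b ∈ PolLaw.ker F.law) :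
    chi F.law b = (-X) ^ d := by
  unfold chi
  have h := hb A[X] (-(X ⊗ₜ[A] (1 : B))) 1
  rw [one_mul] at h
  have e : ((1 : A[X]) ⊗ₜ[A] b - X ⊗ₜ[A] (1 : B)) = -(X ⊗ₜ[A] (1 : B)) + (1 : A[X]) ⊗ₜ[A] b := by
    abel
  unfold hat
  rw [e, h, ← TensorProduct.neg_tmul]
  exact hat_smul_one F A[X] (-X)

theorem S13696_main {d : ℕ} (F : PolLaw.MulLaw A B A d) (χ : B → Polynomial A)
    (hχ : ∀ b : B, χ b = TensorProduct.rid A (Polynomial A)
      (F.law.toFun' (Polynomial A) ((1 : Polynomial A) ⊗ₜ[A] b - Polynomial.X ⊗ₜ[A] (1 : B)))) :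
    Ideal.span (Set.range fun b : B => Polynomial.aeval b (χ b)) ≤ PolLaw.ker F.law ∧
      PolLaw.ker F.law ≤ (Ideal.span (Set.range fun b : B => Polynomial.aeval b (χ b))).radical := by
  have hχ' : ∀ b, χ b = chi F.law b := fun b => hχ b
  constructor
  · rw [Ideal.span_le]
    rintro _ ⟨b, rfl⟩
    simp only [hχ']
    exact aeval_chi_mem_ker' F b
  · intro b hb
    refine ⟨d, ?_⟩
    have h1 : Polynomial.aeval b (χ b) ∈ Ideal.span (Set.range fun b : B => Polynomial.aeval b (χ b)) :=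
      Ideal.subset_span ⟨b, rfl⟩
    rw [hχ', chi_of_mem_ker F b hb, map_pow, map_neg, aeval_X, neg_pow] at h1
    have h2 := Ideal.mul_mem_left _ ((-1 : B) ^ d) h1
    rw [← mul_assoc, ← mul_pow, neg_one_mul, neg_neg, one_pow, one_mul] at h2
    exact h2

theorem S13695_main {d : ℕ} (F : PolLaw.MulLaw A B A d) :
    Algebra.IsIntegral A (PolLaw.image F.law) := by
  constructor
  intro y
  obtain ⟨b, rfl⟩ := Ideal.Quotient.mk_surjective y
  obtain ⟨h1, h2⟩ := chi_spec F b
  refine ⟨(-1 : A) ^ d • chi F.law b, ?_, ?_⟩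
  · apply Polynomial.monic_of_natDegree_le_of_coeff_eq_one d
    · exact (Polynomial.natDegree_smul_le _ _).trans h1
    · rw [coeff_smul, h2, smul_eq_mul, ← mul_pow, neg_one_mul, neg_neg, one_pow]
  · rw [← Polynomial.aeval_def, map_smul]
    have : Polynomial.aeval (Ideal.Quotient.mk (PolLaw.ker F.law) b) (chi F.law b) = 0 := by
      have h3 := aeval_chi_mem_ker' F b
      rw [← Ideal.Quotient.eq_zero_iff_mem] at h3
      rw [← h3]
      exact (Polynomial.aeval_algHom_apply (Ideal.Quotient.mkₐ A (PolLaw.ker F.law)) b _)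
    rw [this, smul_zero]

end Groth.Agent.H9.PLR
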