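import Mathlib
import Groth.Prelude.Def_PolLaw
import Groth.Agent.Lib.Helper9.Misc.PL4
import Groth.Agent.Lib.Helper9.Misc.PLR1
import Groth.Agent.Lib.Helper9.Misc.PLR2
import Groth.Agent.Lib.Helper9.Misc.PLR7
import Groth.Agent.Lib.Helper9.Misc.PLR8
import Groth.Agent.Lib.Helper9.Misc.PLB1
import Groth.Agent.Lib.Helper9.Misc.PLB2
import Groth.Agent.Lib.Helper9.Misc.PLB3

/-! Helper9: universal Cayley–Hamilton; supports of families of zero cycles commute with base change. -/
set_option linter.style.haveILetI false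

namespace Groth.Agent.H9.PLB
open scoped TensorProduct
open Groth.Agent.H9.PLR
open Polynomial

universe u
variable {A : Type u} [CommRing A] {B : Type u} [CommRing B] [Algebra A B]

/-- the base-changed kernel is the extended kernel -/
def GoodAlg (F : B →ₚₗ[A] A) (A₀ : Type u) [CommRing A₀] [Algebra A A₀] : Prop :=
  PolLaw.kerBC F A₀ = (PolLaw.ker F).map (Algebra.TensorProduct.includeRight : B →ₐ[A] A₀ ⊗[A] B)

lemma good_base (F : B →ₚₗ[A] A) : GoodAlg F A := by
  unfold GoodAlg
  apply le_antisymm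
  · intro c hc
    have hc' : c = (1 : A) ⊗ₜ[A] (TensorProduct.lid A B c) := by
      clear hc
      induction c using TensorProduct.induction_on with
      | zero => simp
      | tmul a b =>
        rw [TensorProduct.lid_tmul, TensorProduct.tmul_smul, TensorProduct.smul_tmul', smul_eq_mul,
          mul_one]
      | add x y hx hy =>
        rw [map_add, TensorProduct.tmul_add, ← hx, ← hy]
    have hb : TensorProduct.lid A B c ∈ PolLaw.ker F := by
      intro S _ _ x w
      have h := hc S x w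
      rw [hc', Algebra.TensorProduct.map_tmul, map_one, AlgHom.id_apply] at h
      exact h
    rw [hc']
    exact Ideal.mem_map_of_mem _ hb
  · rw [Ideal.map_le_iff_le_comap]
    intro b hb
    exact Groth.Agent.H9.PL4.one_tmul_mem_kerBC F A b hb

lemma good_poly {d : ℕ} (F : PolLaw.MulLaw A B A d) (A₀ : Type u) [CommRing A₀] [Algebra A A₀]
    (h : GoodAlg F.law A₀) : GoodAlg F.law A₀[X] := by
  unfold GoodAlg at h ⊢
  rw [kerBC_polynomial, h]
  change Ideal.map (inc (A := A) A₀ B).toRingHom (Ideal.map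
    (Algebra.TensorProduct.includeRight : B →ₐ[A] A₀ ⊗[A] B).toRingHom (PolLaw.ker F.law)) = _
  rw [Ideal.map_map]
  congr 1

variable (A' : Type u) [CommRing A'] [Algebra A A']

lemma aeval_map_comm {A₀ : Type u} [CommRing A₀] [Algebra A A₀] (ψ : A₀ →ₐ[A] A')
    (y₀ : A₀ ⊗[A] B) (p : A₀[X]) :
    Algebra.TensorProduct.map ψ (AlgHom.id A B) (Polynomial.aeval y₀ p) =
      Polynomial.aeval (Algebra.TensorProduct.map ψ (AlgHom.id A B) y₀)
        (Polynomial.map (ψ : A₀ →+* A') p) := by
  rw [Polynomial.aeval_def, Polynomial.aeval_def, Polynomial.eval₂_map]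
  have := Polynomial.hom_eval₂ p (algebraMap A₀ (A₀ ⊗[A] B))
    (Algebra.TensorProduct.map ψ (AlgHom.id A B)).toRingHom y₀
  refine this.trans ?_
  have hh : (Algebra.TensorProduct.map ψ (AlgHom.id A B)).toRingHom.comp
      (algebraMap A₀ (A₀ ⊗[A] B)) = (algebraMap A' (A' ⊗[A] B)).comp (ψ : A₀ →+* A') := by
    ext a
    simp [Algebra.TensorProduct.algebraMap_apply]
  rw [hh]
  rfl

theorem univCH {d : ℕ} (F : PolLaw.MulLaw A B A d) (L : List (A' × B)) :
    ∀ (A₀ : Type u) [CommRing A₀] [Algebra A A₀], GoodAlg F.law A₀ →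
      ∀ (ψ : A₀ →ₐ[A] A') (y₀ : A₀ ⊗[A] B),
      Polynomial.aeval (Algebra.TensorProduct.map ψ (AlgHom.id A B) y₀ +
          (L.map fun p => p.1 ⊗ₜ[A] p.2).sum)
        (chiS F.law A' (Algebra.TensorProduct.map ψ (AlgHom.id A B) y₀ +
          (L.map fun p => p.1 ⊗ₜ[A] p.2).sum)) ∈
        (PolLaw.ker F.law).map (Algebra.TensorProduct.includeRight : B →ₐ[A] A' ⊗[A] B) := by
  induction L with
  | nil =>
    intro A₀ _ _ hg ψ y₀
    rw [List.map_nil, List.sum_nil, add_zero, chiS_map, ← aeval_map_comm]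
    have h1 := aeval_chiS_mem_kerBC A₀ F y₀
    rw [hg] at h1
    have h2 := Ideal.mem_map_of_mem (Algebra.TensorProduct.map ψ (AlgHom.id A B)).toRingHom h1
    change _ ∈ Ideal.map (Algebra.TensorProduct.map ψ (AlgHom.id A B)).toRingHom (Ideal.map
      (Algebra.TensorProduct.includeRight : B →ₐ[A] A₀ ⊗[A] B).toRingHom (PolLaw.ker F.law)) at h2
    have hΨ : Ideal.map (Algebra.TensorProduct.map ψ (AlgHom.id A B)).toRingHom (Ideal.map
        (Algebra.TensorProduct.includeRight : B →ₐ[A] A₀ ⊗[A] B).toRingHom (PolLaw.ker F.law)) =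
        Ideal.map (Algebra.TensorProduct.includeRight : B →ₐ[A] A' ⊗[A] B).toRingHom
          (PolLaw.ker F.law) := by
      rw [Ideal.map_map]
      congr 1
      ext b
      simp
    rw [hΨ] at h2
    exact h2
  | cons p L ih =>
    intro A₀ _ _ hg ψ y₀
    have e0 : ∀ z : A₀ ⊗[A] B, Algebra.TensorProduct.map
        (Polynomial.eval₂AlgHom ψ p.1 (fun _ => Commute.all _ _)) (AlgHom.id A B) (inc A₀ B z) =
        Algebra.TensorProduct.map ψ (AlgHom.id A B) z := by
      intro z
      induction z using TensorProduct.induction_on with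
      | zero => simp
      | tmul a b => simp
      | add x y hx hy => simp only [map_add, hx, hy]
    have h := ih A₀[X] (good_poly F A₀ hg)
      (Polynomial.eval₂AlgHom ψ p.1 (fun _ => Commute.all _ _))
      (inc A₀ B y₀ + (X : A₀[X]) ⊗ₜ[A] p.2)
    have e : Algebra.TensorProduct.map (Polynomial.eval₂AlgHom ψ p.1 (fun _ => Commute.all _ _))
        (AlgHom.id A B) (inc A₀ B y₀ + (X : A₀[X]) ⊗ₜ[A] p.2) =
        Algebra.TensorProduct.map ψ (AlgHom.id A B) y₀ + p.1 ⊗ₜ[A] p.2 := by
      rw [map_add, Algebra.TensorProduct.map_tmul, e0]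
      congr 1
      simp
    rw [e] at h
    rw [List.map_cons, List.sum_cons, ← add_assoc]
    exact h

theorem S13697_main {d : ℕ} (F : PolLaw.MulLaw A B A d) :
    (PolLaw.kerBC F.law A').radical =
      ((PolLaw.ker F.law).map (Algebra.TensorProduct.includeRight : B →ₐ[A] A' ⊗[A] B)).radical := by
  apply le_antisymm
  · apply Ideal.radical_le_radical_iff.mpr
    intro c hc
    have hL : ∃ L : List (A' × B), c = (L.map fun p => p.1 ⊗ₜ[A] p.2).sum := by
      clear hc
      induction c using TensorProduct.induction_on with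
      | zero => exact ⟨[], rfl⟩
      | tmul a b => exact ⟨[(a, b)], by simp⟩
      | add x y hx hy =>
        obtain ⟨L₁, rfl⟩ := hx
        obtain ⟨L₂, rfl⟩ := hy
        exact ⟨L₁ ++ L₂, by simp⟩
    obtain ⟨L, hL⟩ := hL
    have h1 := univCH A' F L A (good_base F.law) (Algebra.ofId A A') 0
    rw [map_zero, zero_add, ← hL] at h1
    have h2 : chiS F.law A' c = (-X) ^ d := by
      rw [← chi_bc]
      apply chi_of_mem_ker (mulBC A' F) c
      change c ∈ PolLaw.ker (bc A' F.law)
      rw [ker_bc]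
      exact hc
    rw [h2, map_pow, map_neg, aeval_X, neg_pow] at h1
    refine ⟨d, ?_⟩
    have h3 := Ideal.mul_mem_left _ ((-1 : A' ⊗[A] B) ^ d) h1
    rw [← mul_assoc, ← mul_pow, neg_one_mul, neg_neg, one_pow, one_mul] at h3
    exact h3
  · apply Ideal.radical_mono
    rw [Ideal.map_le_iff_le_comap]
    intro b hb
    exact Groth.Agent.H9.PL4.one_tmul_mem_kerBC F.law A' b hb

end Groth.Agent.H9.PLB
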