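import Mathlib
import Groth.Prelude.Def_PolLaw
import Groth.Agent.Lib.Helper9.Misc.PLR1
import Groth.Agent.Lib.Helper9.Misc.PLR2
import Groth.Agent.Lib.Helper9.Misc.PLR7
import Groth.Agent.Lib.Helper9.Misc.PLB1
import Groth.Agent.Lib.Helper9.Misc.PLB3
import Groth.Agent.Lib.Helper9.Misc.PLB4

/-! Helper9: a family of zero cycles of degree d over a field has at most d geometric points. -/

namespace Groth.Agent.H9.PLC
open scoped TensorProduct
open Groth.Agent.H9.PLR Groth.Agent.H9.PLB
open Polynomial

universe u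
variable {K : Type u} [Field K] {B : Type u} [CommRing B] [Algebra K B]
variable (Ω : Type u) [Field Ω] [Algebra K Ω]

/-- the extension of a point to the base change -/
noncomputable def ext (σ : B →ₐ[K] Ω) : Ω ⊗[K] B →ₐ[Ω] Ω :=
  Algebra.TensorProduct.lift (AlgHom.id Ω Ω) σ (fun _ _ => Commute.all _ _)

@[simp] lemma ext_tmul (σ : B →ₐ[K] Ω) (ω : Ω) (b : B) : ext Ω σ (ω ⊗ₜ[K] b) = ω * σ b := by
  simp [ext]

/-- the values of finitely many distinct points can be prescribed -/
lemma exists_values {n : ℕ} (σ : Fin n → (B →ₐ[K] Ω)) (hσ : Function.Injective σ) (ω : Fin n → Ω) :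
    ∃ y : Ω ⊗[K] B, ∀ i, ext Ω (σ i) y = ω i := by
  let L : Ω ⊗[K] B →ₗ[Ω] (Fin n → Ω) := LinearMap.pi (fun i => (ext Ω (σ i)).toLinearMap)
  have hL : LinearMap.range L = ⊤ := by
    by_contra hne
    obtain ⟨c, hc0, hc⟩ := (LinearMap.range L).exists_le_ker_of_lt_top (lt_top_iff_ne_top.mpr hne)
    apply hc0
    have hli : LinearIndependent Ω (M := B → Ω) (fun i : Fin n => ((σ i : B →* Ω) : B → Ω)) := by
      have h1 := linearIndependent_monoidHom B Ω
      have h2 : Function.Injective (fun i : Fin n => ((σ i : B →* Ω))) := by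
        intro i j hij
        apply hσ
        ext b
        exact DFunLike.congr_fun hij b
      exact h1.comp _ h2
    have hzero : ∑ i, c (Pi.single i 1) • ((σ i : B →* Ω) : B → Ω) = 0 := by
      funext b
      have h3 : c (L ((1 : Ω) ⊗ₜ[K] b)) = 0 := hc ⟨_, rfl⟩
      have h4 : L ((1 : Ω) ⊗ₜ[K] b) = ∑ i, (σ i b) • (Pi.single i (1 : Ω) : Fin n → Ω) := by
        funext j
        simp [L, Finset.sum_apply, Pi.single_apply]
      rw [h4, map_sum] at h3
      simp only [map_smul, smul_eq_mul] at h3
      simp only [Finset.sum_apply, Pi.smul_apply, smul_eq_mul, Pi.zero_apply]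
      rw [← h3]
      apply Finset.sum_congr rfl
      intro i _
      rw [mul_comm]
      rfl
    have h5 := Fintype.linearIndependent_iff.mp hli _ hzero
    apply LinearMap.ext
    intro v
    have hv : v = ∑ i, v i • (Pi.single i (1 : Ω) : Fin n → Ω) := by
      funext j
      simp [Finset.sum_apply, Pi.single_apply]
    rw [hv, map_sum]
    simp only [map_smul, h5, smul_zero, Finset.sum_const_zero, LinearMap.zero_apply]
  have : ω ∈ LinearMap.range L := by rw [hL]; trivial
  obtain ⟨y, hy⟩ := this
  exact ⟨y, fun i => congrFun hy i⟩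

/-- a family of zero cycles of degree `d` over a field has at most `d` points with values in a
given infinite field -/
theorem no_many_points [Infinite Ω] {d : ℕ} (F : PolLaw.MulLaw K B K d)
    (σ : Fin (d + 1) → (B →ₐ[K] Ω)) (hσ : Function.Injective σ)
    (hk : ∀ i, ∀ b ∈ PolLaw.ker F.law, σ i b = 0) : False := by
  classical
  let ω : Fin (d + 1) → Ω := fun i => Infinite.natEmbedding Ω i.val
  have hω : Function.Injective ω := by
    intro i j h
    exact Fin.val_injective ((Infinite.natEmbedding Ω).injective h)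
  obtain ⟨y, hy⟩ := exists_values Ω σ hσ ω
  set χ := chiS F.law Ω y with hχdef
  have hspec : χ.natDegree ≤ d ∧ χ.coeff d = (-1) ^ d := by
    have h := chi_spec (mulBC Ω F) y
    change (chi (bc Ω F.law) y).natDegree ≤ d ∧ (chi (bc Ω F.law) y).coeff d = (-1) ^ d at h
    rw [chi_bc] at h
    exact h
  have hχ0 : χ ≠ 0 := by
    intro h0
    have := hspec.2
    rw [h0, coeff_zero] at this
    have h1 : ((-1 : Ω) ^ d) ≠ 0 := pow_ne_zero _ (neg_ne_zero.mpr one_ne_zero)
    exact h1 this.symm
  have hmem : Polynomial.aeval y χ ∈ ((PolLaw.ker F.law).map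
      (Algebra.TensorProduct.includeRight : B →ₐ[K] Ω ⊗[K] B)).radical := by
    rw [← S13697_main]
    exact Ideal.le_radical (aeval_chiS_mem_kerBC Ω F y)
  obtain ⟨m, hm⟩ := hmem
  have hroot : ∀ i, Polynomial.eval (ω i) χ = 0 := by
    intro i
    have hle : (PolLaw.ker F.law).map (Algebra.TensorProduct.includeRight : B →ₐ[K] Ω ⊗[K] B) ≤
        RingHom.ker (ext Ω (σ i)) := by
      rw [Ideal.map_le_iff_le_comap]
      intro b hb
      rw [Ideal.mem_comap, RingHom.mem_ker]
      change ext Ω (σ i) ((1 : Ω) ⊗ₜ[K] b) = 0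
      rw [ext_tmul, hk i b hb, mul_zero]
    have h1 : ext Ω (σ i) ((Polynomial.aeval y χ) ^ m) = 0 := hle hm
    rw [map_pow] at h1
    have h2 := eq_zero_of_pow_eq_zero h1
    rw [← Polynomial.aeval_algHom_apply, hy i, Polynomial.coe_aeval_eq_eval] at h2
    exact h2
  have hsub : Finset.univ.image ω ⊆ χ.roots.toFinset := by
    intro x hx
    obtain ⟨i, _, rfl⟩ := Finset.mem_image.mp hx
    rw [Multiset.mem_toFinset, Polynomial.mem_roots hχ0]
    exact hroot i
  have hcard := Finset.card_le_card hsub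
  rw [Finset.card_image_of_injective _ hω, Finset.card_univ, Fintype.card_fin] at hcard
  have h3 := (Multiset.toFinset_card_le χ.roots).trans ((Polynomial.card_roots' χ).trans hspec.1)
  omega

end Groth.Agent.H9.PLC
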