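import Mathlib
import Groth.Prelude.Def_PolLaw
import Groth.Agent.Lib.Helper9.Misc.PLR8
import Groth.Agent.Lib.Helper9.Misc.PLC1

/-! Helper9: the support of a family of zero cycles over a field is finite. -/
set_option linter.style.haveILetI false
set_option linter.unusedSectionVars false

namespace Groth.Agent.H9.PLC
open scoped TensorProduct
open Groth.Agent.H9.PLR Groth.Agent.H9.PLB
open Polynomial

universe u

lemma finite_of_no_inj {α : Type*} (T : Set α) (n : ℕ)
    (h : ∀ f : Fin (n + 1) → α, Function.Injective f → (∀ i, f i ∈ T) → False) :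
    T.Finite ∧ T.ncard ≤ n := by
  classical
  have key : ∀ t : Finset α, ↑t ⊆ T → t.card = n + 1 → False := by
    intro t ht hcard
    let e := Finset.equivFinOfCardEq hcard
    exact h (fun i => (e.symm i : α)) (fun i j hij => e.symm.injective (Subtype.ext hij))
      (fun i => ht (e.symm i).2)
  have hfin : T.Finite := by
    by_contra hinf
    obtain ⟨t, ht, hcard⟩ := (Set.not_finite.mp hinf).exists_subset_card_eq (n + 1)
    exact key t ht hcard
  refine ⟨hfin, ?_⟩
  by_contra hlt
  rw [not_le, Set.ncard_eq_toFinset_card T hfin] at hlt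
  obtain ⟨t, ht, hcard⟩ := Finset.exists_subset_card_eq (Nat.succ_le_of_lt hlt)
  apply key t _ hcard
  intro x hx
  exact (Set.Finite.mem_toFinset hfin).mp (ht hx)

variable {k : Type u} [Field k] {B : Type u} [CommRing B] [Algebra k B]

section point
variable {d : ℕ} (F : PolLaw.MulLaw k B k d) (𝔮 : Ideal B) [h𝔮 : 𝔮.IsPrime]
  (hle : PolLaw.ker F.law ≤ 𝔮)

include hle in
lemma quot_integral : Algebra.IsIntegral k (B ⧸ 𝔮) := by
  haveI : Algebra.IsIntegral k (PolLaw.image F.law) := S13695_main F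
  exact Algebra.IsIntegral.of_surjective (Ideal.Quotient.factorₐ k hle)
    (Ideal.Quotient.factor_surjective hle)

/-- the geometric point attached to a prime of the support -/
noncomputable def pt : B →ₐ[k] AlgebraicClosure k :=
  haveI : Algebra.IsIntegral k (B ⧸ 𝔮) := quot_integral F 𝔮 hle
  (IsAlgClosed.lift : (B ⧸ 𝔮) →ₐ[k] AlgebraicClosure k).comp (Ideal.Quotient.mkₐ k 𝔮)

lemma pt_eq_zero_iff (b : B) : pt F 𝔮 hle b = 0 ↔ b ∈ 𝔮 := by
  haveI : Algebra.IsIntegral k (B ⧸ 𝔮) := quot_integral F 𝔮 hle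
  have hf : IsField (B ⧸ 𝔮) := isField_of_isIntegral_of_isField' (Field.toIsField k)
  unfold pt
  rw [AlgHom.comp_apply, ← Ideal.Quotient.eq_zero_iff_mem]
  constructor
  · intro h0
    by_contra hne
    obtain ⟨y, hy⟩ := hf.mul_inv_cancel hne
    have := congrArg (IsAlgClosed.lift : (B ⧸ 𝔮) →ₐ[k] AlgebraicClosure k) hy
    rw [map_mul, map_one] at this
    change (IsAlgClosed.lift : (B ⧸ 𝔮) →ₐ[k] AlgebraicClosure k) (Ideal.Quotient.mk 𝔮 b) = 0 at h0
    rw [h0, zero_mul] at this
    exact zero_ne_one this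
  · intro h0
    change (IsAlgClosed.lift : (B ⧸ 𝔮) →ₐ[k] AlgebraicClosure k) (Ideal.Quotient.mk 𝔮 b) = 0
    rw [h0, map_zero]

end point

/-- the support of a family of zero cycles of degree `d` over a field has at most `d` points -/
theorem primes_finite {d : ℕ} (F : PolLaw.MulLaw k B k d) :
    {𝔮 : PrimeSpectrum B | PolLaw.ker F.law ≤ 𝔮.asIdeal}.Finite ∧
      {𝔮 : PrimeSpectrum B | PolLaw.ker F.law ≤ 𝔮.asIdeal}.ncard ≤ d := by
  apply finite_of_no_inj
  intro f hf hT
  apply no_many_points (AlgebraicClosure k) F (fun i => pt F (f i).asIdeal (hT i))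
  · intro i j hij
    apply hf
    apply PrimeSpectrum.ext
    ext b
    rw [← pt_eq_zero_iff F (f i).asIdeal (hT i), ← pt_eq_zero_iff F (f j).asIdeal (hT j)]
    have := DFunLike.congr_fun hij b
    simp only at this
    rw [this]
  · intro i b hb
    rw [pt_eq_zero_iff]
    exact hT i hb

end Groth.Agent.H9.PLC
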