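import Mathlib
import Groth.Prelude.Def_PolLaw
import Groth.Agent.Lib.Helper9.Misc.PLR8
import Groth.Agent.Lib.Helper9.Misc.PLC1
import Groth.Agent.Lib.Helper9.Misc.PLC2

/-! Helper9: zero cycles over a field: finitely many points, finite separable degree. -/
set_option linter.style.haveILetI false

namespace Groth.Agent.H9.PLC
open scoped TensorProduct
open Groth.Agent.H9.PLR Groth.Agent.H9.PLB
open Polynomial

universe u
variable {k : Type u} [Field k] {B : Type u} [CommRing B] [Algebra k B]

/-- finiteness of the set of points with values in an infinite field -/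
lemma points_finite {d : ℕ} (F : PolLaw.MulLaw k B k d) (Ω : Type u) [Field Ω] [Algebra k Ω]
    [Infinite Ω] : {σ : B →ₐ[k] Ω | ∀ b ∈ PolLaw.ker F.law, σ b = 0}.Finite := by
  apply (finite_of_no_inj _ d _).1
  intro f hf hT
  exact no_many_points Ω F f hf hT

lemma spec_image_card {d : ℕ} (F : PolLaw.MulLaw k B k d) :
    Finite (PrimeSpectrum (PolLaw.image F.law)) ∧ Nat.card (PrimeSpectrum (PolLaw.image F.law)) ≤ d := by
  obtain ⟨hfin, hcard⟩ := primes_finite F
  let T := {𝔮 : PrimeSpectrum B | PolLaw.ker F.law ≤ 𝔮.asIdeal}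
  let g : PrimeSpectrum (PolLaw.image F.law) → T := fun P =>
    ⟨PrimeSpectrum.comap (Ideal.Quotient.mk (PolLaw.ker F.law)) P, by
      intro b hb
      change Ideal.Quotient.mk (PolLaw.ker F.law) b ∈ P.asIdeal
      rw [Ideal.Quotient.eq_zero_iff_mem.mpr hb]
      exact P.asIdeal.zero_mem⟩
  have hg : Function.Injective g := by
    intro P P' h
    have := congrArg Subtype.val h
    exact PrimeSpectrum.comap_injective_of_surjective _ Ideal.Quotient.mk_surjective this
  haveI : Finite T := hfin.to_subtype
  refine ⟨Finite.of_injective g hg, ?_⟩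
  calc Nat.card (PrimeSpectrum (PolLaw.image F.law)) ≤ Nat.card T := Nat.card_le_card_of_injective g hg
    _ = T.ncard := Nat.card_coe_set_eq T
    _ ≤ d := hcard

theorem S13707_main {d : ℕ} (F : PolLaw.MulLaw k B k d) :
    Finite (PrimeSpectrum (PolLaw.image F.law)) ∧ Nat.card (PrimeSpectrum (PolLaw.image F.law)) ≤ d ∧
      ∀ P : PrimeSpectrum (PolLaw.image F.law), P.asIdeal.IsMaximal ∧
        Finite (Field.Emb k P.asIdeal.ResidueField) := by
  obtain ⟨h1, h2⟩ := spec_image_card F
  refine ⟨h1, h2, ?_⟩
  intro P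
  haveI : Algebra.IsIntegral k (PolLaw.image F.law) := S13695_main F
  constructor
  · apply Ideal.isMaximal_of_isIntegral_of_isMaximal_comap (R := k) P.asIdeal
    have : Ideal.comap (algebraMap k (PolLaw.image F.law)) P.asIdeal = ⊥ := by
      rcases Ideal.eq_bot_or_top (Ideal.comap (algebraMap k (PolLaw.image F.law)) P.asIdeal) with h | h
      · exact h
      · exact absurd h (Ideal.IsPrime.ne_top (Ideal.comap_isPrime _ _))
    rw [this]
    exact Ideal.bot_isMaximal
  · let Ω := AlgebraicClosure P.asIdeal.ResidueField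
    let S := {σ : B →ₐ[k] Ω | ∀ b ∈ PolLaw.ker F.law, σ b = 0}
    have hS : S.Finite := points_finite F Ω
    let g : Field.Emb k P.asIdeal.ResidueField → S := fun τ =>
      ⟨(τ.comp (IsScalarTower.toAlgHom k (PolLaw.image F.law) P.asIdeal.ResidueField)).comp
        (Ideal.Quotient.mkₐ k (PolLaw.ker F.law)), by
        intro b hb
        simp only [AlgHom.comp_apply, Ideal.Quotient.mkₐ_eq_mk]
        rw [Ideal.Quotient.eq_zero_iff_mem.mpr hb, map_zero, map_zero]⟩
    have hg : Function.Injective g := by
      intro τ τ' h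
      have h1 := congrArg Subtype.val h
      apply Ideal.ResidueField.algHom_ext
      apply Ideal.Quotient.algHom_ext
      exact h1
    haveI : Finite S := hS.to_subtype
    exact Finite.of_injective g hg

end Groth.Agent.H9.PLC
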