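import Mathlib
import Groth.Prelude.Def_PolLaw
import Groth.Agent.Lib.Helper9.Misc.PLB1
import Groth.Agent.Lib.Helper9.Misc.PLB4
import Groth.Agent.Lib.Helper9.Misc.PLC2

/-! Helper9: fibres of the image of a family of zero cycles have at most d points. -/
set_option linter.style.haveILetI false

namespace Groth.Agent.H9.PLC
open scoped TensorProduct
open Groth.Agent.H9.PLR Groth.Agent.H9.PLB

universe u
variable {A : Type u} [CommRing A] {B : Type u} [CommRing B] [Algebra A B]

/-- primes of `K ⊗ B` containing the extension of the kernel contain the base-changed kernel -/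
lemma kerBC_le_of_prime {d : ℕ} (F : PolLaw.MulLaw A B A d) (K : Type u) [CommRing K] [Algebra A K]
    (𝔮 : Ideal (K ⊗[A] B)) [𝔮.IsPrime]
    (h : (PolLaw.ker F.law).map (Algebra.TensorProduct.includeRight : B →ₐ[A] K ⊗[A] B) ≤ 𝔮) :
    PolLaw.kerBC F.law K ≤ 𝔮 := by
  have h1 : (PolLaw.kerBC F.law K).radical ≤ 𝔮 := by
    rw [S13697_main K F]
    exact (Ideal.IsPrime.radical_le_iff ‹_›).mpr h
  exact Ideal.le_radical.trans h1

theorem S13723_main {d : ℕ} (F : PolLaw.MulLaw A B A d) (K : Type u) [Field K] [Algebra A K] :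
    Finite (PrimeSpectrum (K ⊗[A] PolLaw.image F.law)) ∧
      Nat.card (PrimeSpectrum (K ⊗[A] PolLaw.image F.law)) ≤ d := by
  obtain ⟨hfin, hcard⟩ := primes_finite (mulBC K F)
  let T := {𝔮 : PrimeSpectrum (K ⊗[A] B) | PolLaw.ker (mulBC K F).law ≤ 𝔮.asIdeal}
  let π : K ⊗[A] B →ₐ[K] K ⊗[A] PolLaw.image F.law :=
    Algebra.TensorProduct.map (AlgHom.id K K) (Ideal.Quotient.mkₐ A (PolLaw.ker F.law))
  have hπ : Function.Surjective π := by
    intro y
    induction y using TensorProduct.induction_on with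
    | zero => exact ⟨0, map_zero _⟩
    | tmul a c =>
      obtain ⟨b, rfl⟩ := Ideal.Quotient.mk_surjective c
      exact ⟨a ⊗ₜ[A] b, by simp [π]⟩
    | add y z hy hz =>
      obtain ⟨y', rfl⟩ := hy
      obtain ⟨z', rfl⟩ := hz
      exact ⟨y' + z', map_add _ _ _⟩
  let g : PrimeSpectrum (K ⊗[A] PolLaw.image F.law) → T := fun P =>
    ⟨PrimeSpectrum.comap π.toRingHom P, by
      change PolLaw.ker (bc K F.law) ≤ _
      rw [ker_bc]
      apply kerBC_le_of_prime
      rw [Ideal.map_le_iff_le_comap]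
      intro b hb
      change π ((1 : K) ⊗ₜ[A] b) ∈ P.asIdeal
      have : π ((1 : K) ⊗ₜ[A] b) = 0 := by
        simp only [π, Algebra.TensorProduct.map_tmul, Ideal.Quotient.mkₐ_eq_mk]
        rw [Ideal.Quotient.eq_zero_iff_mem.mpr hb, TensorProduct.tmul_zero]
      rw [this]
      exact P.asIdeal.zero_mem⟩
  have hg : Function.Injective g := by
    intro P P' h
    have := congrArg Subtype.val h
    exact PrimeSpectrum.comap_injective_of_surjective _ hπ this
  haveI : Finite T := hfin.to_subtype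
  refine ⟨Finite.of_injective g hg, ?_⟩
  calc Nat.card (PrimeSpectrum (K ⊗[A] PolLaw.image F.law)) ≤ Nat.card T :=
        Nat.card_le_card_of_injective g hg
    _ = T.ncard := Nat.card_coe_set_eq T
    _ ≤ d := hcard

end Groth.Agent.H9.PLC
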