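import Mathlib
import Groth.Prelude.Def_PolLaw
import Groth.Agent.Lib.Helper9.Misc.PLR8
import Groth.Agent.Lib.Helper9.Misc.PLC4

/-! Helper9: the image of a family of zero cycles over a semilocal ring is semilocal. -/
set_option linter.style.haveILetI false

namespace Groth.Agent.H9.PLC
open scoped TensorProduct
open Groth.Agent.H9.PLR Groth.Agent.H9.PLB

universe u
variable {A : Type u} [CommRing A] {B : Type u} [CommRing B] [Algebra A B]

theorem S13724_main [Finite (MaximalSpectrum A)] {d : ℕ} (F : PolLaw.MulLaw A B A d) :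
    Finite (MaximalSpectrum (PolLaw.image F.law)) := by
  haveI : Algebra.IsIntegral A (PolLaw.image F.law) := S13695_main F
  let C := PolLaw.image F.law
  have hmax : ∀ M : MaximalSpectrum C, (M.asIdeal.comap (algebraMap A C)).IsMaximal := by
    intro M
    haveI := M.isMaximal
    exact Ideal.isMaximal_comap_of_isIntegral_of_isMaximal M.asIdeal
  let Φ : MaximalSpectrum C → Σ m : MaximalSpectrum A,
      PrimeSpectrum (m.toPrimeSpectrum.asIdeal.Fiber C) := fun M =>
    ⟨⟨M.asIdeal.comap (algebraMap A C), hmax M⟩,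
      PrimeSpectrum.preimageEquivFiber A C _ ⟨M.toPrimeSpectrum, rfl⟩⟩
  have hΦ : Function.Injective Φ := by
    let Ψ : (Σ m : MaximalSpectrum A, PrimeSpectrum (m.toPrimeSpectrum.asIdeal.Fiber C)) →
        PrimeSpectrum C := fun x =>
      ((PrimeSpectrum.preimageEquivFiber A C x.1.toPrimeSpectrum).symm x.2).1
    have hΨ : ∀ M, Ψ (Φ M) = M.toPrimeSpectrum := by
      intro M
      simp only [Ψ, Φ]
      rw [Equiv.symm_apply_apply]
    intro M M' h
    have h1 := congrArg Ψ h
    rw [hΨ, hΨ] at h1
    exact MaximalSpectrum.toPrimeSpectrum_injective h1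
  haveI : ∀ m : MaximalSpectrum A, Finite (PrimeSpectrum (m.toPrimeSpectrum.asIdeal.Fiber C)) := by
    intro m
    exact (S13723_main F m.asIdeal.ResidueField).1
  exact Finite.of_injective Φ hΦ

end Groth.Agent.H9.PLC
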