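import Mathlib
import Groth.Prelude.Def_PolLaw
import Groth.Agent.Lib.Helper9.Misc.PL1
import Groth.Agent.Lib.Helper9.Misc.PLR1
import Groth.Agent.Lib.Helper9.Misc.PLR2
import Groth.Agent.Lib.Helper9.Misc.PLR7
import Groth.Agent.Lib.Helper9.Misc.PLR8

/-! Helper9: push-forward of families of zero cycles: supports. -/

namespace Groth.Agent.H9.PLR
open scoped TensorProduct
open Polynomial

universe u
variable {A : Type u} [CommRing A] {B : Type u} [CommRing B] [Algebra A B]

lemma chi_precomp {B' : Type u} [CommRing B'] [Algebra A B'] {d : ℕ} (F : PolLaw.MulLaw A B A d)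
    (φ : B' →ₐ[A] B) (b' : B') : chi (F.precomp φ).law b' = chi F.law (φ b') := by
  unfold chi hat
  rw [PL.precomp_toFun', map_sub, Algebra.TensorProduct.map_tmul, Algebra.TensorProduct.map_tmul]
  simp

/-- if `χ_b = (-X)^d` then `b^d ∈ ker F` -/
lemma pow_mem_ker_of_chi {d : ℕ} (F : PolLaw.MulLaw A B A d) (b : B) (h : chi F.law b = (-X) ^ d) :
    b ^ d ∈ PolLaw.ker F.law := by
  have h1 := aeval_chi_mem_ker' F b
  rw [h, map_pow, map_neg, aeval_X, neg_pow] at h1
  have h2 := Ideal.mul_mem_left _ ((-1 : B) ^ d) h1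
  rw [← mul_assoc, ← mul_pow, neg_one_mul, neg_neg, one_pow, one_mul] at h2
  exact h2

theorem S13718_main {B' : Type u} [CommRing B'] [Algebra A B'] {d : ℕ} (F : PolLaw.MulLaw A B A d)
    (φ : B' →ₐ[A] B) :
    (PolLaw.ker (F.precomp φ).law).radical = ((PolLaw.ker F.law).comap φ).radical := by
  apply le_antisymm
  · apply Ideal.radical_le_radical_iff.mpr
    intro b' hb'
    refine ⟨d, ?_⟩
    rw [Ideal.mem_comap, map_pow]
    apply pow_mem_ker_of_chi
    rw [← chi_precomp, chi_of_mem_ker _ _ hb']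
  · apply Ideal.radical_mono
    intro b' hb'
    exact PL.mem_ker_precomp_of_mem F φ b' hb'

end Groth.Agent.H9.PLR
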