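import Mathlib
import Groth.Prelude.Def_PolLaw
import Groth.Agent.Lib.Helper9.Misc.PLR1
import Groth.Agent.Lib.Helper9.Misc.PLR2
import Groth.Agent.Lib.Helper9.Misc.PLR7
import Groth.Agent.Lib.Helper9.Misc.PLR8
import Groth.Agent.Lib.Helper9.Misc.PLR9
import Groth.Agent.Lib.Helper9.Misc.PLB1

/-! Helper9: components of the support of a family of zero cycles dominate an integral base. -/
set_option linter.style.haveILetI false

namespace Groth.Agent.H9.PLD
open scoped TensorProduct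
open Groth.Agent.H9.PLR Groth.Agent.H9.PLB
open Polynomial

universe u
variable {A : Type u} [CommRing A] {B : Type u} [CommRing B] [Algebra A B]

/-- scaling identity for the characteristic polynomial: `χ_{ab}(aX) = a^d χ_b(X)` -/
lemma chi_smul {d : ℕ} (F : PolLaw.MulLaw A B A d) (a : A) (b : B) :
    Polynomial.aeval (C a * X : A[X]) (chi F.law (a • b)) = C (a ^ d) * chi F.law b := by
  unfold chi
  have h1 := hat_map F.law ((Polynomial.aeval (C a * X : A[X])) : A[X] →ₐ[A] A[X])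
    ((1 : A[X]) ⊗ₜ[A] (a • b) - X ⊗ₜ[A] (1 : B))
  rw [map_sub, Algebra.TensorProduct.map_tmul, Algebra.TensorProduct.map_tmul, map_one,
    AlgHom.id_apply, AlgHom.id_apply, aeval_X] at h1
  have h2 : (1 : A[X]) ⊗ₜ[A] (a • b) - (C a * X) ⊗ₜ[A] (1 : B) =
      (C a : A[X]) • ((1 : A[X]) ⊗ₜ[A] b - X ⊗ₜ[A] (1 : B)) := by
    rw [smul_sub, TensorProduct.smul_tmul', TensorProduct.smul_tmul', smul_eq_mul, smul_eq_mul,
      mul_one, TensorProduct.tmul_smul, TensorProduct.smul_tmul', Polynomial.smul_eq_C_mul, mul_one]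
  rw [h2, hat_smul F.homog] at h1
  rw [C_pow, ← h1]

/-- a power of `b` lies in the kernel only if the characteristic polynomial is `(-X)^d`,
over a domain -/
lemma chi_eq_of_pow_mem [IsDomain A] {d : ℕ} (F : PolLaw.MulLaw A B A d) (b : B) (n : ℕ)
    (hn : b ^ n ∈ PolLaw.ker F.law) : chi F.law b = (-X) ^ d := by
  obtain ⟨hdeg, hlead⟩ := chi_spec F b
  -- the factorisation
  set W : A[X] ⊗[A] B := ∑ i ∈ Finset.range n, ((1 : A[X]) ⊗ₜ[A] b) ^ i *
    ((X : A[X]) ⊗ₜ[A] (1 : B)) ^ (n - 1 - i) with hW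
  have h1 : W * ((1 : A[X]) ⊗ₜ[A] b - (X : A[X]) ⊗ₜ[A] (1 : B)) =
      ((1 : A[X]) ⊗ₜ[A] b) ^ n - ((X : A[X]) ⊗ₜ[A] (1 : B)) ^ n :=
    (Commute.all _ _).geom_sum₂_mul n
  have h2 : hat F.law A[X] (((1 : A[X]) ⊗ₜ[A] b) ^ n - ((X : A[X]) ⊗ₜ[A] (1 : B)) ^ n) =
      (-(X : A[X]) ^ n) ^ d := by
    have e : ((1 : A[X]) ⊗ₜ[A] b) ^ n - ((X : A[X]) ⊗ₜ[A] (1 : B)) ^ n =
        (-(X : A[X]) ^ n) ⊗ₜ[A] (1 : B) + 1 * ((1 : A[X]) ⊗ₜ[A] (b ^ n)) := by
      rw [Algebra.TensorProduct.tmul_pow, Algebra.TensorProduct.tmul_pow, one_pow, one_pow, one_mul,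
        TensorProduct.neg_tmul]
      abel
    unfold hat
    rw [e, hn A[X]]
    exact hat_smul_one F A[X] _
  have h3 : hat F.law A[X] W * chi F.law b = (-(X : A[X]) ^ n) ^ d := by
    unfold chi
    rw [← hat_mul F.mult, h1, h2]
  have hdvd : chi F.law b ∣ (X : A[X]) ^ (n * d) := by
    refine ⟨(-1) ^ d * hat F.law A[X] W, ?_⟩
    have : (-(X : A[X]) ^ n) ^ d = (-1) ^ d * X ^ (n * d) := by
      rw [neg_pow, pow_mul]
    rw [this] at h3
    have h4 : ((-1 : A[X]) ^ d) * ((-1) ^ d) = 1 := by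
      rw [← mul_pow]; simp
    calc (X : A[X]) ^ (n * d) = ((-1) ^ d * (-1) ^ d) * X ^ (n * d) := by rw [h4, one_mul]
      _ = (-1) ^ d * ((-1) ^ d * X ^ (n * d)) := by ring
      _ = (-1) ^ d * (hat F.law A[X] W * chi F.law b) := by rw [h3]
      _ = chi F.law b * ((-1) ^ d * hat F.law A[X] W) := by ring
  obtain ⟨j, _, hj⟩ := (dvd_prime_pow Polynomial.prime_X _).mp hdvd
  obtain ⟨u, hu⟩ := hj.symm
  obtain ⟨c, hc, hcu⟩ := Polynomial.isUnit_iff.mp u.isUnit
  have hchi : chi F.law b = C c * X ^ j := by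
    rw [← hu, ← hcu, mul_comm]
  have hc0 : c ≠ 0 := hc.ne_zero
  have hjd : j = d := by
    have hnd : (chi F.law b).natDegree = j := by
      rw [hchi, Polynomial.natDegree_C_mul_X_pow j c hc0]
    have h5 : (chi F.law b).coeff d ≠ 0 := by
      rw [hlead]
      exact pow_ne_zero _ (neg_ne_zero.mpr one_ne_zero)
    have h6 : d ≤ (chi F.law b).natDegree := Polynomial.le_natDegree_of_ne_zero h5
    omega
  subst hjd
  rw [hchi, Polynomial.coeff_C_mul_X_pow, if_pos rfl] at hlead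
  rw [hchi, hlead, neg_pow (X : A[X]), C_pow, C_neg, C_1]

/-- nonzero scalars are regular modulo the radical of the kernel, over a domain -/
lemma mem_radical_of_smul_mem [IsDomain A] {d : ℕ} (F : PolLaw.MulLaw A B A d) (a : A) (ha : a ≠ 0)
    (b : B) (h : a • b ∈ (PolLaw.ker F.law).radical) : b ∈ (PolLaw.ker F.law).radical := by
  obtain ⟨n, hn⟩ := h
  have h1 := chi_eq_of_pow_mem F (a • b) n hn
  have h2 := chi_smul F a b
  rw [h1, map_pow, map_neg, aeval_X] at h2
  have h3 : C (a ^ d) * ((-X) ^ d - chi F.law b) = 0 := by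
    rw [mul_sub, ← h2, C_pow]
    ring
  have h4 : (C (a ^ d) : A[X]) ≠ 0 := by
    rw [Ne, C_eq_zero]
    exact pow_ne_zero _ ha
  have h5 : chi F.law b = (-X) ^ d := by
    rcases mul_eq_zero.mp h3 with h | h
    · exact absurd h h4
    · exact (sub_eq_zero.mp h).symm
  exact ⟨d, pow_mem_ker_of_chi F b h5⟩

theorem S13703_main [IsDomain A] {d : ℕ} (F : PolLaw.MulLaw A B A d) {P : Ideal B}
    (hP : P ∈ (PolLaw.ker F.law).minimalPrimes) :
    P.comap (algebraMap A B) = ⊥ ∧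
      ∀ q : Ideal A, q.IsPrime → ∃ Q : Ideal B, Q.IsPrime ∧ P ≤ Q ∧ Q.comap (algebraMap A B) = q := by
  have h0 : P.comap (algebraMap A B) = ⊥ := by
    rw [eq_bot_iff]
    intro a ha
    rw [Ideal.mem_bot]
    by_contra hne
    have hP' : P ∈ ((PolLaw.ker F.law).radical).minimalPrimes := by
      rw [Ideal.radical_minimalPrimes]; exact hP
    obtain ⟨y, hy, hxy⟩ := Ideal.exists_mul_mem_of_mem_minimalPrimes hP' (Ideal.mem_comap.mp ha)
    apply hy
    apply mem_radical_of_smul_mem F a hne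
    rw [Algebra.smul_def]
    exact hxy
  refine ⟨h0, ?_⟩
  intro q hq
  haveI : Algebra.IsIntegral A (PolLaw.image F.law) := S13695_main F
  haveI : P.IsPrime := hP.1.1
  have hle : PolLaw.ker F.law ≤ P := hP.1.2
  obtain ⟨Q, hQ1, hQ2, hQ3⟩ := Ideal.exists_ideal_over_prime_of_isIntegral q
    (P.map (Ideal.Quotient.mk (PolLaw.ker F.law))) (by
      intro a ha
      rw [Ideal.mem_comap] at ha
      have h1 : algebraMap A B a ∈ P := by
        have : Ideal.Quotient.mk (PolLaw.ker F.law) (algebraMap A B a) ∈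
            P.map (Ideal.Quotient.mk (PolLaw.ker F.law)) := ha
        rw [Ideal.mem_map_iff_of_surjective _ Ideal.Quotient.mk_surjective] at this
        obtain ⟨x, hx, hxe⟩ := this
        have h2 : x - algebraMap A B a ∈ PolLaw.ker F.law := by
          rw [← Ideal.Quotient.eq_zero_iff_mem, map_sub, hxe, sub_self]
        have h3 : algebraMap A B a = x - (x - algebraMap A B a) := by ring
        rw [h3]
        exact P.sub_mem hx (hle h2)
      have h4 : a ∈ P.comap (algebraMap A B) := h1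
      rw [h0] at h4
      rw [Ideal.mem_bot.mp h4]
      exact q.zero_mem)
  refine ⟨Q.comap (Ideal.Quotient.mk (PolLaw.ker F.law)), Ideal.comap_isPrime _ _, ?_, ?_⟩
  · intro x hx
    exact hQ1 (Ideal.mem_map_of_mem _ hx)
  · rw [← hQ3]
    rfl

end Groth.Agent.H9.PLD
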