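import Mathlib
import Groth.Prelude.Def_PolLaw
import Groth.Agent.Lib.Helper9.Misc.PL4
import Groth.Agent.Lib.Helper9.Misc.PLB1
import Groth.Agent.Lib.Helper9.Misc.PLB4
import Groth.Agent.Lib.Helper9.Misc.PLC4
import Groth.Agent.Lib.Helper9.Misc.PLD1

/-! Helper9: going down for the support of a family of zero cycles. -/
set_option linter.style.haveILetI false

namespace Groth.Agent.H9.PLD
open scoped TensorProduct
open Groth.Agent.H9.PLR Groth.Agent.H9.PLB Groth.Agent.H9.PLC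

universe u
variable {A : Type u} [CommRing A] {B : Type u} [CommRing B] [Algebra A B]

/-- going down for the support of a family of zero cycles -/
theorem going_down {d : ℕ} (F : PolLaw.MulLaw A B A d) (Q : Ideal B) [Q.IsPrime]
    (hQ : PolLaw.ker F.law ≤ Q) (p : Ideal A) [p.IsPrime] (hp : p ≤ Q.comap (algebraMap A B)) :
    ∃ P : Ideal B, P.IsPrime ∧ PolLaw.ker F.law ≤ P ∧ P ≤ Q ∧ P.comap (algebraMap A B) = p := by
  let A₁ := A ⧸ p
  -- the map `A₁ ⊗ B → B ⧸ Q`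
  let f₁ : A₁ →ₐ[A] B ⧸ Q := Ideal.Quotient.liftₐ p ((Ideal.Quotient.mkₐ A Q).comp (Algebra.ofId A B))
    (by
      intro a ha
      have := hp ha
      simp only [AlgHom.comp_apply, Ideal.Quotient.mkₐ_eq_mk]
      exact Ideal.Quotient.eq_zero_iff_mem.mpr this)
  let θ : A₁ ⊗[A] B →ₐ[A] B ⧸ Q :=
    Algebra.TensorProduct.productMap f₁ (Ideal.Quotient.mkₐ A Q)
  let Q₁ : Ideal (A₁ ⊗[A] B) := RingHom.ker θ.toRingHom
  haveI hQ₁ : Q₁.IsPrime := RingHom.ker_isPrime _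
  have hθ : ∀ b : B, θ ((1 : A₁) ⊗ₜ[A] b) = Ideal.Quotient.mk Q b := by
    intro b
    simp [θ, Algebra.TensorProduct.productMap_apply_tmul]
  have hQ₁le : PolLaw.kerBC F.law A₁ ≤ Q₁ := by
    apply kerBC_le_of_prime
    rw [Ideal.map_le_iff_le_comap]
    intro b hb
    rw [Ideal.mem_comap]
    change θ ((1 : A₁) ⊗ₜ[A] b) = 0
    rw [hθ]
    exact Ideal.Quotient.eq_zero_iff_mem.mpr (hQ hb)
  have hQ₁le' : PolLaw.ker (mulBC A₁ F).law ≤ Q₁ := by
    change PolLaw.ker (bc A₁ F.law) ≤ Q₁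
    rw [ker_bc]
    exact hQ₁le
  obtain ⟨P₁, hP₁, hP₁Q⟩ := Ideal.exists_minimalPrimes_le hQ₁le'
  haveI : P₁.IsPrime := hP₁.1.1
  have hbot := (S13703_main (mulBC A₁ F) hP₁).1
  refine ⟨P₁.comap (Algebra.TensorProduct.includeRight : B →ₐ[A] A₁ ⊗[A] B),
    Ideal.comap_isPrime _ _, ?_, ?_, ?_⟩
  · intro b hb
    rw [Ideal.mem_comap]
    apply hP₁.1.2
    change _ ∈ PolLaw.ker (bc A₁ F.law)
    rw [ker_bc]
    exact Groth.Agent.H9.PL4.one_tmul_mem_kerBC F.law A₁ b hb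
  · intro b hb
    rw [Ideal.mem_comap] at hb
    have h1 : θ ((1 : A₁) ⊗ₜ[A] b) = 0 := hP₁Q hb
    rw [hθ] at h1
    exact Ideal.Quotient.eq_zero_iff_mem.mp h1
  · ext a
    rw [Ideal.mem_comap, Ideal.mem_comap]
    have h1 : (Algebra.TensorProduct.includeRight : B →ₐ[A] A₁ ⊗[A] B) (algebraMap A B a) =
        algebraMap A₁ (A₁ ⊗[A] B) (Ideal.Quotient.mk p a) := by
      rw [Algebra.TensorProduct.includeRight_apply, Algebra.TensorProduct.algebraMap_apply,
        Algebra.algebraMap_self, RingHom.id_apply, Algebra.algebraMap_eq_smul_one,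
        TensorProduct.tmul_smul, TensorProduct.smul_tmul']
      congr 1
      rw [Algebra.smul_def, mul_one]
      rfl
    rw [h1, ← Ideal.mem_comap, hbot, Ideal.mem_bot, Ideal.Quotient.eq_zero_iff_mem]

end Groth.Agent.H9.PLD
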