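import Mathlib
import Groth.Prelude.Def_PolLaw
import Groth.Agent.Lib.Helper9.Misc.PLB1
import Groth.Agent.Lib.Helper9.Misc.PLC4
import Groth.Agent.Lib.Helper9.Misc.PLD2

/-! Helper9: the image of a family of zero cycles is universally generizing over the base. -/
set_option linter.style.haveILetI false

namespace Groth.Agent.H9.PLD
open scoped TensorProduct
open Groth.Agent.H9.PLR Groth.Agent.H9.PLB Groth.Agent.H9.PLC

universe u
variable {A : Type u} [CommRing A] {B : Type u} [CommRing B] [Algebra A B]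

theorem hasGoingDown {d : ℕ} (F : PolLaw.MulLaw A B A d) (A' : Type u) [CommRing A'] [Algebra A A'] :
    Algebra.HasGoingDown A' (A' ⊗[A] PolLaw.image F.law) := by
  constructor
  intro p hp Q hQ hlt
  let π : A' ⊗[A] B →ₐ[A] A' ⊗[A] PolLaw.image F.law :=
    Algebra.TensorProduct.map (AlgHom.id A A') (Ideal.Quotient.mkₐ A (PolLaw.ker F.law))
  have hπ : Function.Surjective π :=
    Algebra.TensorProduct.map_surjective (AlgHom.id A A') (Ideal.Quotient.mkₐ A (PolLaw.ker F.law))
      (fun x => ⟨x, rfl⟩) Ideal.Quotient.mk_surjective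
  have hker : RingHom.ker π = (PolLaw.ker F.law).map
      (Algebra.TensorProduct.includeRight : B →ₐ[A] A' ⊗[A] B) := by
    have := Algebra.TensorProduct.lTensor_ker (A := A')
      (g := Ideal.Quotient.mkₐ A (PolLaw.ker F.law)) Ideal.Quotient.mk_surjective
    rw [this]
    congr 1
    exact Ideal.Quotient.mkₐ_ker A (PolLaw.ker F.law)
  have hcomm : ∀ a : A', π (algebraMap A' (A' ⊗[A] B) a) =
      algebraMap A' (A' ⊗[A] PolLaw.image F.law) a := by
    intro a
    simp [π, Algebra.TensorProduct.algebraMap_apply]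
  let Q' : Ideal (A' ⊗[A] B) := Q.comap π.toRingHom
  haveI : Q'.IsPrime := Ideal.comap_isPrime _ _
  have hQ' : PolLaw.ker (mulBC A' F).law ≤ Q' := by
    change PolLaw.ker (bc A' F.law) ≤ Q'
    rw [ker_bc]
    apply kerBC_le_of_prime
    rw [← hker]
    intro x hx
    rw [Ideal.mem_comap]
    have : π x = 0 := hx
    change π x ∈ Q
    rw [this]
    exact Q.zero_mem
  have hpQ : p ≤ Q'.comap (algebraMap A' (A' ⊗[A] B)) := by
    intro a ha
    rw [Ideal.mem_comap, Ideal.mem_comap]
    change π (algebraMap A' (A' ⊗[A] B) a) ∈ Q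
    rw [hcomm]
    exact hlt.le ha
  obtain ⟨P', hP'prime, hP'ker, hP'Q, hP'p⟩ := going_down (mulBC A' F) Q' hQ' p hpQ
  have hkerP : RingHom.ker π.toRingHom ≤ P' := by
    change RingHom.ker π ≤ P'
    rw [hker]
    intro x hx
    apply hP'ker
    change x ∈ PolLaw.ker (bc A' F.law)
    rw [ker_bc]
    revert x
    rw [← SetLike.le_def, Ideal.map_le_iff_le_comap]
    intro b hb
    exact Groth.Agent.H9.PL4.one_tmul_mem_kerBC F.law A' b hb
  have hcm : (P'.map π.toRingHom).comap π.toRingHom = P' := by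
    have hπ' : Function.Surjective π.toRingHom := hπ
    rw [Ideal.comap_map_of_surjective _ hπ']
    exact sup_eq_left.mpr (by rw [← RingHom.ker_eq_comap_bot]; exact hkerP)
  refine ⟨P'.map π.toRingHom, ?_, Ideal.map_isPrime_of_surjective (f := π.toRingHom) hπ hkerP, ⟨?_⟩⟩
  · rw [Ideal.map_le_iff_le_comap]
    exact hP'Q
  · ext a
    rw [Ideal.mem_comap, ← hcomm]
    change a ∈ p ↔ algebraMap A' (A' ⊗[A] B) a ∈ (P'.map π.toRingHom).comap π.toRingHom
    rw [hcm, ← hP'p, Ideal.mem_comap]

theorem S13704_main {d : ℕ} (F : PolLaw.MulLaw A B A d) (A' : Type u) [CommRing A'] [Algebra A A'] :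
    GeneralizingMap (PrimeSpectrum.comap (algebraMap A' (A' ⊗[A] PolLaw.image F.law))) := by
  rw [← Algebra.HasGoingDown.iff_generalizingMap_primeSpectrumComap]
  exact hasGoingDown F A'

end Groth.Agent.H9.PLD
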