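import Mathlib
import Groth.Prelude.Def_PolLaw
import Groth.Agent.Lib.Helper9.Misc.PL4
import Groth.Agent.Lib.Helper9.Misc.PLR7
import Groth.Agent.Lib.Helper9.Misc.PLR9
import Groth.Agent.Lib.Helper9.Misc.PLB1
import Groth.Agent.Lib.Helper9.Misc.PLB3
import Groth.Agent.Lib.Helper9.Misc.PLB4
import Groth.Agent.Lib.Helper9.Misc.PLC1
import Groth.Agent.Lib.Helper9.Misc.PLC4
import Groth.Agent.Lib.Helper9.Misc.PLD1

/-! Helper9: the image of a basic open of the support of a family of zero cycles. -/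
set_option linter.style.haveILetI false

namespace Groth.Agent.H9.PLE
open scoped TensorProduct
open Groth.Agent.H9.PLR Groth.Agent.H9.PLB Groth.Agent.H9.PLC Groth.Agent.H9.PLD
open Polynomial

universe u
variable {A : Type u} [CommRing A] {B : Type u} [CommRing B] [Algebra A B]

/-- characteristic polynomial data of the base change -/
lemma chiS_spec {d : ℕ} (F : PolLaw.MulLaw A B A d) (A' : Type u) [CommRing A'] [Algebra A A']
    (y : A' ⊗[A] B) : (chiS F.law A' y).natDegree ≤ d ∧ (chiS F.law A' y).coeff d = (-1) ^ d := by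
  have h := chi_spec (mulBC A' F) y
  change (chi (bc A' F.law) y).natDegree ≤ d ∧ (chi (bc A' F.law) y).coeff d = (-1) ^ d at h
  rw [chi_bc] at h
  exact h

/-- if the characteristic polynomial is `(-X)^d` then `y ^ d` lies in the base-changed kernel -/
lemma pow_mem_kerBC_of_chiS {d : ℕ} (F : PolLaw.MulLaw A B A d) (A' : Type u) [CommRing A']
    [Algebra A A'] (y : A' ⊗[A] B) (h : chiS F.law A' y = (-X) ^ d) :
    y ^ d ∈ PolLaw.kerBC F.law A' := by
  have h1 := pow_mem_ker_of_chi (mulBC A' F) y (by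
    change chi (bc A' F.law) y = (-X) ^ d
    rw [chi_bc]; exact h)
  change y ^ d ∈ PolLaw.ker (bc A' F.law) at h1
  rw [ker_bc] at h1
  exact h1

/-- over a domain, if a power of `y` lies in the base-changed kernel then the characteristic
polynomial is `(-X)^d` -/
lemma chiS_of_pow_mem_kerBC {d : ℕ} (F : PolLaw.MulLaw A B A d) (A' : Type u) [CommRing A']
    [IsDomain A'] [Algebra A A'] (y : A' ⊗[A] B) (n : ℕ) (h : y ^ n ∈ PolLaw.kerBC F.law A') :
    chiS F.law A' y = (-X) ^ d := by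
  rw [← chi_bc]
  apply chi_eq_of_pow_mem (mulBC A' F) y n
  change y ^ n ∈ PolLaw.ker (bc A' F.law)
  rw [ker_bc]
  exact h

lemma neg_X_pow_coeff (R : Type u) [CommRing R] (d i : ℕ) :
    (((-X : R[X])) ^ d).coeff i = if i = d then (-1) ^ d else 0 := by
  have : ((-X : R[X])) ^ d = C ((-1) ^ d) * X ^ d := by
    rw [neg_pow, C_pow, C_neg, C_1]
  rw [this, coeff_C_mul_X_pow]

/-- a polynomial of degree at most `d` with leading coefficient `(-1)^d` whose lower coefficients
vanish -/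
lemma eq_neg_X_pow {R : Type u} [CommRing R] {d : ℕ} (p : R[X]) (h1 : p.natDegree ≤ d)
    (h2 : p.coeff d = (-1) ^ d) (h3 : ∀ i < d, p.coeff i = 0) : p = (-X) ^ d := by
  ext i
  rw [neg_X_pow_coeff]
  rcases lt_trichotomy i d with h | h | h
  · rw [if_neg (ne_of_lt h), h3 i h]
  · rw [if_pos h, h, h2]
  · rw [if_neg (ne_of_gt h)]
    exact Polynomial.coeff_eq_zero_of_natDegree_lt (lt_of_le_of_lt h1 h)

lemma exists_coeff_notMem {d : ℕ} (F : PolLaw.MulLaw A B A d) (A' : Type u) [CommRing A']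
    [Algebra A A'] (y : A' ⊗[A] B) (𝔓 : Ideal (A' ⊗[A] B)) [𝔓.IsPrime]
    (hI : (PolLaw.ker F.law).map (Algebra.TensorProduct.includeRight : B →ₐ[A] A' ⊗[A] B) ≤ 𝔓)
    (hy : y ∉ 𝔓) :
    ∃ i < d, (chiS F.law A' y).coeff i ∉ 𝔓.comap (algebraMap A' (A' ⊗[A] B)) := by
  by_contra hcon
  push Not at hcon
  let L := 𝔓.ResidueField
  let ev : A' ⊗[A] B →ₐ[A] L := IsScalarTower.toAlgHom A (A' ⊗[A] B) L
  have hev : ∀ t, ev t = 0 ↔ t ∈ 𝔓 := fun t => Ideal.algebraMap_residueField_eq_zero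
  let ψ : A' →ₐ[A] L := ev.comp Algebra.TensorProduct.includeLeft
  let β : B →ₐ[A] L := ev.comp Algebra.TensorProduct.includeRight
  have hχ : chiS F.law L (Algebra.TensorProduct.map ψ (AlgHom.id A B) y) = (-X) ^ d := by
    rw [chiS_map]
    obtain ⟨h1, h2⟩ := chiS_spec F A' y
    apply eq_neg_X_pow
    · exact (Polynomial.natDegree_map_le).trans h1
    · rw [coeff_map, h2, map_pow, map_neg, map_one]
    · intro i hi
      rw [coeff_map]
      have := hcon i hi
      rw [Ideal.mem_comap] at this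
      exact (hev _).mpr this
  have hmem := pow_mem_kerBC_of_chiS F L _ hχ
  let ρ : L ⊗[A] B →ₐ[L] L :=
    Algebra.TensorProduct.lift (AlgHom.id L L) β (fun _ _ => Commute.all _ _)
  haveI : (RingHom.ker ρ.toRingHom).IsPrime := RingHom.ker_isPrime _
  have hle : PolLaw.kerBC F.law L ≤ RingHom.ker ρ.toRingHom := by
    apply kerBC_le_of_prime
    rw [Ideal.map_le_iff_le_comap]
    intro b hb
    rw [Ideal.mem_comap, RingHom.mem_ker]
    change ρ ((1 : L) ⊗ₜ[A] b) = 0
    simp only [ρ, Algebra.TensorProduct.lift_tmul, AlgHom.id_apply, one_mul]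
    change ev ((1 : A') ⊗ₜ[A] b) = 0
    rw [hev]
    exact hI (Ideal.mem_map_of_mem _ hb)
  have h0 : ρ (Algebra.TensorProduct.map ψ (AlgHom.id A B) y ^ d) = 0 := hle hmem
  rw [map_pow] at h0
  have h1 := eq_zero_of_pow_eq_zero h0
  have hcomp : ∀ t : A' ⊗[A] B, ρ (Algebra.TensorProduct.map ψ (AlgHom.id A B) t) = ev t := by
    intro t
    induction t using TensorProduct.induction_on with
    | zero => simp
    | tmul a b =>
      simp only [Algebra.TensorProduct.map_tmul, AlgHom.id_apply, ρ, Algebra.TensorProduct.lift_tmul]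
      change ev (a ⊗ₜ[A] 1) * ev (1 ⊗ₜ[A] b) = ev (a ⊗ₜ[A] b)
      rw [← map_mul, Algebra.TensorProduct.tmul_mul_tmul, mul_one, one_mul]
    | add x z hx hz => simp only [map_add, hx, hz]
  rw [hcomp, hev] at h1
  exact hy h1

lemma exists_prime_of_coeff {d : ℕ} (F : PolLaw.MulLaw A B A d) (A' : Type u) [CommRing A']
    [Algebra A A'] (y : A' ⊗[A] B) (q : Ideal A') [q.IsPrime] (i : ℕ) (hi : i < d)
    (hq : (chiS F.law A' y).coeff i ∉ q) :
    ∃ 𝔓 : Ideal (A' ⊗[A] B), 𝔓.IsPrime ∧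
      (PolLaw.ker F.law).map (Algebra.TensorProduct.includeRight : B →ₐ[A] A' ⊗[A] B) ≤ 𝔓 ∧
      𝔓.comap (algebraMap A' (A' ⊗[A] B)) = q ∧ y ∉ 𝔓 := by
  let κ := q.ResidueField
  let ψ : A' →ₐ[A] κ := IsScalarTower.toAlgHom A A' κ
  have hψ : ∀ a, ψ a = 0 ↔ a ∈ q := fun a => Ideal.algebraMap_residueField_eq_zero
  set yk := Algebra.TensorProduct.map ψ (AlgHom.id A B) y with hyk
  have hne : chiS F.law κ yk ≠ (-X) ^ d := by
    intro h
    have h1 := congrArg (fun p => Polynomial.coeff p i) h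
    rw [hyk, chiS_map, coeff_map, neg_X_pow_coeff, if_neg (ne_of_lt hi)] at h1
    exact hq ((hψ _).mp h1)
  have hnot : yk ∉ (PolLaw.kerBC F.law κ).radical := by
    rintro ⟨n, hn⟩
    exact hne (chiS_of_pow_mem_kerBC F κ yk n hn)
  rw [Ideal.radical_eq_sInf, Ideal.mem_sInf] at hnot
  push Not at hnot
  obtain ⟨J, ⟨hJ1, hJ2⟩, hJ3⟩ := hnot
  haveI := hJ2
  refine ⟨J.comap (Algebra.TensorProduct.map ψ (AlgHom.id A B)).toRingHom, Ideal.comap_isPrime _ _,
    ?_, ?_, hJ3⟩
  · rw [Ideal.map_le_iff_le_comap]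
    intro b hb
    rw [Ideal.mem_comap, Ideal.mem_comap]
    apply hJ1
    change Algebra.TensorProduct.map ψ (AlgHom.id A B) ((1 : A') ⊗ₜ[A] b) ∈ _
    rw [Algebra.TensorProduct.map_tmul, map_one, AlgHom.id_apply]
    exact Groth.Agent.H9.PL4.one_tmul_mem_kerBC F.law κ b hb
  · ext a
    rw [Ideal.mem_comap, Ideal.mem_comap, ← hψ]
    change Algebra.TensorProduct.map ψ (AlgHom.id A B) (algebraMap A' (A' ⊗[A] B) a) ∈ J ↔ _
    rw [Algebra.TensorProduct.algebraMap_apply, Algebra.algebraMap_self, RingHom.id_apply,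
      Algebra.TensorProduct.map_tmul, map_one]
    constructor
    · intro h
      by_contra hne0
      have hu : IsUnit (ψ a ⊗ₜ[A] (1 : B) : κ ⊗[A] B) := by
        have : (ψ a ⊗ₜ[A] (1 : B) : κ ⊗[A] B) = algebraMap κ (κ ⊗[A] B) (ψ a) := by
          rw [Algebra.TensorProduct.algebraMap_apply, Algebra.algebraMap_self, RingHom.id_apply]
        rw [this]
        exact (IsUnit.mk0 _ hne0).map _
      exact hJ2.ne_top (Ideal.eq_top_of_isUnit_mem _ h hu)
    · intro h
      rw [h, TensorProduct.zero_tmul]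
      exact J.zero_mem

end Groth.Agent.H9.PLE
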