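import Mathlib
import Groth.Prelude.Def_PolLaw
import Groth.Agent.Lib.Helper9.Misc.PLB3
import Groth.Agent.Lib.Helper9.Misc.PLE1

/-! Helper9: the support of a family of zero cycles is open over the base, after any affine base change. -/
set_option linter.style.haveILetI false

namespace Groth.Agent.H9.PLE
open scoped TensorProduct
open Groth.Agent.H9.PLR Groth.Agent.H9.PLB Groth.Agent.H9.PLC Groth.Agent.H9.PLD
open Polynomial

universe u
variable {A : Type u} [CommRing A] {B : Type u} [CommRing B] [Algebra A B]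

theorem isOpenMap_comap {d : ℕ} (F : PolLaw.MulLaw A B A d) (A' : Type u) [CommRing A']
    [Algebra A A'] :
    IsOpenMap (PrimeSpectrum.comap (algebraMap A' (A' ⊗[A] PolLaw.image F.law))) := by
  let π : A' ⊗[A] B →ₐ[A] A' ⊗[A] PolLaw.image F.law :=
    Algebra.TensorProduct.map (AlgHom.id A A') (Ideal.Quotient.mkₐ A (PolLaw.ker F.law))
  have hπ : Function.Surjective π :=
    Algebra.TensorProduct.map_surjective (AlgHom.id A A') (Ideal.Quotient.mkₐ A (PolLaw.ker F.law))
      (fun x => ⟨x, rfl⟩) Ideal.Quotient.mk_surjective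
  have hπ' : Function.Surjective π.toRingHom := hπ
  have hker : RingHom.ker π.toRingHom = (PolLaw.ker F.law).map
      (Algebra.TensorProduct.includeRight : B →ₐ[A] A' ⊗[A] B) := by
    have := Algebra.TensorProduct.lTensor_ker (A := A')
      (g := Ideal.Quotient.mkₐ A (PolLaw.ker F.law)) Ideal.Quotient.mk_surjective
    change RingHom.ker π = _
    rw [this]
    congr 1
    exact Ideal.Quotient.mkₐ_ker A (PolLaw.ker F.law)
  have hcomm : ∀ a : A', π (algebraMap A' (A' ⊗[A] B) a) =
      algebraMap A' (A' ⊗[A] PolLaw.image F.law) a := by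
    intro a
    simp [π, Algebra.TensorProduct.algebraMap_apply]
  rw [PrimeSpectrum.isTopologicalBasis_basic_opens.isOpenMap_iff]
  rintro _ ⟨y, rfl⟩
  obtain ⟨yt, rfl⟩ := hπ y
  have himg : PrimeSpectrum.comap (algebraMap A' (A' ⊗[A] PolLaw.image F.law)) ''
      (PrimeSpectrum.basicOpen (π yt) : Set (PrimeSpectrum (A' ⊗[A] PolLaw.image F.law))) =
      ⋃ i ∈ Finset.range d,
        (PrimeSpectrum.basicOpen ((chiS F.law A' yt).coeff i) : Set (PrimeSpectrum A')) := by
    ext q
    simp only [Set.mem_image, Set.mem_iUnion, Finset.mem_range, SetLike.mem_coe,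
      PrimeSpectrum.mem_basicOpen, exists_prop]
    constructor
    · rintro ⟨P, hP, rfl⟩
      haveI : (P.asIdeal.comap π.toRingHom).IsPrime := Ideal.comap_isPrime _ _
      have hI : (PolLaw.ker F.law).map
          (Algebra.TensorProduct.includeRight : B →ₐ[A] A' ⊗[A] B) ≤ P.asIdeal.comap π.toRingHom := by
        rw [← hker]
        intro x hx
        rw [Ideal.mem_comap]
        have : π.toRingHom x = 0 := hx
        rw [this]
        exact P.asIdeal.zero_mem
      obtain ⟨i, hi, hc⟩ := exists_coeff_notMem F A' yt (P.asIdeal.comap π.toRingHom) hI hP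
      refine ⟨i, hi, ?_⟩
      intro hmem
      apply hc
      rw [Ideal.mem_comap, Ideal.mem_comap]
      change π (algebraMap A' (A' ⊗[A] B) _) ∈ P.asIdeal
      rw [hcomm]
      exact hmem
    · rintro ⟨i, hi, hc⟩
      obtain ⟨𝔓, h𝔓, hI, hq, hy⟩ := exists_prime_of_coeff F A' yt q.asIdeal i hi hc
      have hkerP : RingHom.ker π.toRingHom ≤ 𝔓 := by rw [hker]; exact hI
      have hcm : (𝔓.map π.toRingHom).comap π.toRingHom = 𝔓 := by
        rw [Ideal.comap_map_of_surjective _ hπ']
        exact sup_eq_left.mpr (by rw [← RingHom.ker_eq_comap_bot]; exact hkerP)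
      refine ⟨⟨𝔓.map π.toRingHom, Ideal.map_isPrime_of_surjective (f := π.toRingHom) hπ hkerP⟩,
        ?_, ?_⟩
      · intro hmem
        apply hy
        rw [← hcm, Ideal.mem_comap]
        exact hmem
      · apply PrimeSpectrum.ext
        ext a
        change algebraMap A' (A' ⊗[A] PolLaw.image F.law) a ∈ 𝔓.map π.toRingHom ↔ _
        rw [← hcomm]
        change algebraMap A' (A' ⊗[A] B) a ∈ (𝔓.map π.toRingHom).comap π.toRingHom ↔ _
        rw [hcm, ← hq, Ideal.mem_comap]
  rw [himg]
  exact isOpen_biUnion (fun i _ => (PrimeSpectrum.basicOpen _).isOpen)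

end Groth.Agent.H9.PLE
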