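import Mathlib
import Groth.Prelude.Def_PolLaw
import Groth.Agent.Lib.Helper9.Misc.PLE2

/-! Helper9: the image of a family of zero cycles is universally open over the base. -/

namespace Groth.Agent.H9.PLE
open scoped TensorProduct
open AlgebraicGeometry CategoryTheory MorphismProperty Limits

universe u

/-- a morphism of affine schemes all of whose affine base changes are open is universally open -/
theorem universallyOpen_of_affine {A C : Type u} [CommRing A] [CommRing C] [Algebra A C]
    (H : ∀ (R : Type u) [CommRing R] [Algebra A R],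
      IsOpenMap (PrimeSpectrum.comap (algebraMap R (R ⊗[A] C)))) :
    UniversallyOpen (Spec.map (CommRingCat.ofHom (algebraMap A C))) := by
  refine ⟨universally_mk' _ _ fun {T} g _ ↦ ?_⟩
  wlog hT : ∃ R, T = Spec R generalizing T
  · refine (IsZariskiLocalAtTarget.iff_of_openCover T.affineCover).mpr fun i ↦ ?_
    refine (MorphismProperty.cancel_left_of_respectsIso _
      ((pullbackRightPullbackFstIso ..).inv ≫ (pullbackSymmetry ..).hom) _).mp ?_
    simpa [Scheme.Cover.pullbackHom] using! this _ _ ⟨_, rfl⟩
  obtain ⟨R, rfl⟩ := hT
  obtain ⟨ψ, rfl⟩ := Spec.map_surjective g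
  algebraize [ψ.hom]
  refine (MorphismProperty.cancel_left_of_respectsIso _ (pullbackSpecIso A R C).inv _).mp ?_
  convert_to! topologically _ (Spec.map <| CommRingCat.ofHom (algebraMap R (TensorProduct A R C)))
  · exact pullbackSpecIso_inv_fst ..
  exact H R

theorem S13705_main {A : Type u} [CommRing A] {B : Type u} [CommRing B] [Algebra A B]
    {d : ℕ} (F : PolLaw.MulLaw A B A d) :
    AlgebraicGeometry.UniversallyOpen
      (AlgebraicGeometry.Spec.map (CommRingCat.ofHom (algebraMap A (PolLaw.image F.law)))) :=
  universallyOpen_of_affine (fun R _ _ => isOpenMap_comap F R)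

end Groth.Agent.H9.PLE
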