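import Mathlib
import Groth.Prelude.Def_PolLaw
import Groth.Agent.Lib.Helper9.Misc.PLR7
import Groth.Agent.Lib.Helper9.Misc.PLR8
import Groth.Agent.Lib.Helper9.Misc.PLR9
import Groth.Agent.Lib.Helper9.Misc.PLB3
import Groth.Agent.Lib.Helper9.Misc.PLB4

/-! Helper9: universal Cayley–Hamilton specialisations for multiplicative polynomial laws -/
set_option linter.style.haveILetI false

namespace Groth.Agent.H9.PLF
open scoped TensorProduct
open Groth.Agent.H9.PLR Groth.Agent.H9.PLB
open Polynomial

universe u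
variable {A : Type u} [CommRing A] {B : Type u} [CommRing B] [Algebra A B]

/-- universal Cayley–Hamilton: `χ_y(y)` lies in the extension of the kernel -/
theorem univCH' {d : ℕ} (F : PolLaw.MulLaw A B A d) (A' : Type u) [CommRing A'] [Algebra A A']
    (y : A' ⊗[A] B) :
    Polynomial.aeval y (chiS F.law A' y) ∈
      (PolLaw.ker F.law).map (Algebra.TensorProduct.includeRight : B →ₐ[A] A' ⊗[A] B) := by
  have hL : ∃ L : List (A' × B), y = (L.map fun p => p.1 ⊗ₜ[A] p.2).sum := by
    induction y using TensorProduct.induction_on with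
    | zero => exact ⟨[], rfl⟩
    | tmul a b => exact ⟨[(a, b)], by simp⟩
    | add x y hx hy =>
      obtain ⟨L₁, rfl⟩ := hx
      obtain ⟨L₂, rfl⟩ := hy
      exact ⟨L₁ ++ L₂, by simp⟩
  obtain ⟨L, hL⟩ := hL
  have h1 := univCH A' F L A (good_base F.law) (Algebra.ofId A A') 0
  rw [map_zero, zero_add, ← hL] at h1
  exact h1

lemma chiS_one_tmul (F : B →ₚₗ[A] A) (b : B) : chiS F A ((1 : A) ⊗ₜ[A] b) = chi F b := by
  unfold chiS chi
  rw [inc_tmul, C_1]

lemma eq_one_tmul_lid (z : A ⊗[A] B) : z = (1 : A) ⊗ₜ[A] (Algebra.TensorProduct.lid A B z) := by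
  induction z using TensorProduct.induction_on with
  | zero => simp
  | tmul a b =>
    rw [Algebra.TensorProduct.lid_tmul, TensorProduct.tmul_smul, TensorProduct.smul_tmul',
      smul_eq_mul, mul_one]
  | add x y hx hy => rw [map_add, TensorProduct.tmul_add, ← hx, ← hy]

lemma lid_aeval (b : B) (p : A[X]) :
    Algebra.TensorProduct.lid A B (Polynomial.aeval ((1 : A) ⊗ₜ[A] b) p) = Polynomial.aeval b p := by
  have := Polynomial.aeval_algHom_apply (Algebra.TensorProduct.lid A B).toAlgHom
    ((1 : A) ⊗ₜ[A] b) p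
  have h2 : (Algebra.TensorProduct.lid A B).toAlgHom ((1 : A) ⊗ₜ[A] b) = b := by
    show (Algebra.TensorProduct.lid A B) ((1 : A) ⊗ₜ[A] b) = b
    rw [Algebra.TensorProduct.lid_tmul, one_smul]
  rw [h2] at this
  exact this.symm

/-- specialisation of the universal Cayley–Hamilton element -/
lemma lid_map_aeval {d : ℕ} (F : PolLaw.MulLaw A B A d) (A' : Type u) [CommRing A'] [Algebra A A']
    (ψ : A' →ₐ[A] A) (y : A' ⊗[A] B) :
    Algebra.TensorProduct.lid A B (Algebra.TensorProduct.map ψ (AlgHom.id A B)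
      (Polynomial.aeval y (chiS F.law A' y))) =
    Polynomial.aeval (Algebra.TensorProduct.lid A B (Algebra.TensorProduct.map ψ (AlgHom.id A B) y))
      (chi F.law (Algebra.TensorProduct.lid A B (Algebra.TensorProduct.map ψ (AlgHom.id A B) y))) := by
  rw [aeval_map_comm, ← chiS_map]
  generalize Algebra.TensorProduct.map ψ (AlgHom.id A B) y = z
  have hz' := eq_one_tmul_lid z
  conv_lhs => rw [hz', chiS_one_tmul]
  exact lid_aeval _ _

end Groth.Agent.H9.PLF
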