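import Mathlib
import Groth.Prelude.Def_PolLaw
import Groth.Agent.Lib.Helper9.Misc.PLF1

/-! Helper9: S13706 — f.g. ideal with the same radical as the kernel of a multiplicative law -/
set_option linter.style.haveILetI false

namespace Groth.Agent.H9.PLF
open scoped TensorProduct
open Groth.Agent.H9.PLR Groth.Agent.H9.PLB
open Polynomial

universe u
variable {A : Type u} [CommRing A] {B : Type u} [CommRing B] [Algebra A B]

/-- a retraction of `includeRight` maps the extension of an ideal back into it -/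
lemma retract_mem (A' : Type u) [CommRing A'] [Algebra A A'] (ψ : A' →ₐ[A] A) (I : Ideal B)
    (W : A' ⊗[A] B)
    (hW : W ∈ I.map (Algebra.TensorProduct.includeRight : B →ₐ[A] A' ⊗[A] B)) :
    Algebra.TensorProduct.lid A B (Algebra.TensorProduct.map ψ (AlgHom.id A B) W) ∈ I := by
  let g : A' ⊗[A] B →ₐ[A] B :=
    (Algebra.TensorProduct.lid A B).toAlgHom.comp (Algebra.TensorProduct.map ψ (AlgHom.id A B))
  have hg : ∀ b : B, g (Algebra.TensorProduct.includeRight b) = b := by
    intro b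
    show Algebra.TensorProduct.lid A B (Algebra.TensorProduct.map ψ (AlgHom.id A B)
      ((1 : A') ⊗ₜ[A] b)) = b
    rw [Algebra.TensorProduct.map_tmul, map_one, Algebra.TensorProduct.lid_tmul, one_smul,
      AlgHom.id_apply]
  have h1 : I.map (Algebra.TensorProduct.includeRight : B →ₐ[A] A' ⊗[A] B) ≤ I.comap g := by
    rw [Ideal.map_le_iff_le_comap]
    intro b hb
    rw [Ideal.mem_comap, Ideal.mem_comap, hg]
    exact hb
  exact h1 hW

/-- the monic version of `chi` -/
lemma isIntegral_of_chi {d : ℕ} (F : PolLaw.MulLaw A B A d) (I : Ideal B) (b : B)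
    (hb : Polynomial.aeval b (chi F.law b) ∈ I) :
    IsIntegral A (Ideal.Quotient.mk I b) := by
  obtain ⟨h1, h2⟩ := chi_spec F b
  refine ⟨Polynomial.C ((-1 : A) ^ d) * chi F.law b, ?_, ?_⟩
  · apply Polynomial.monic_of_natDegree_le_of_coeff_eq_one d
    · exact (Polynomial.natDegree_C_mul_le _ _).trans h1
    · rw [Polynomial.coeff_C_mul, h2, ← mul_pow]
      simp
  · rw [← Polynomial.aeval_def, map_mul]
    have h3 : Polynomial.aeval (Ideal.Quotient.mk I b) (chi F.law b) = 0 := by
      have := Polynomial.aeval_algHom_apply (Ideal.Quotient.mkₐ A I) b (chi F.law b)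
      rw [Ideal.Quotient.mkₐ_eq_mk] at this
      rw [this, Ideal.Quotient.eq_zero_iff_mem]
      exact hb
    rw [h3, mul_zero]

theorem S13706_main [Algebra.FiniteType A B] {d : ℕ} (F : PolLaw.MulLaw A B A d) :
    ∃ J : Ideal B, J.FG ∧ J ≤ PolLaw.ker F.law ∧ J.radical = (PolLaw.ker F.law).radical := by
  classical
  obtain ⟨s, hs⟩ := (Algebra.FiniteType.out : (⊤ : Subalgebra A B).FG)
  let J₀ : Ideal B := Ideal.span ((fun b => Polynomial.aeval b (chi F.law b)) '' (s : Set B))
  have hJ₀fg : J₀.FG := by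
    refine ⟨s.image (fun b => Polynomial.aeval b (chi F.law b)), ?_⟩
    rw [Finset.coe_image]
  have hJ₀le : J₀ ≤ PolLaw.ker F.law := by
    rw [Ideal.span_le]
    rintro _ ⟨b, _, rfl⟩
    exact aeval_chi_mem_ker' F b
  -- `B ⧸ J₀` is integral over `A`
  have hint : Algebra.IsIntegral A (B ⧸ J₀) := by
    have hsurj : Function.Surjective (Ideal.Quotient.mkₐ A J₀) := Ideal.Quotient.mkₐ_surjective A J₀
    have htop : Algebra.adjoin A ((Ideal.Quotient.mkₐ A J₀) '' (s : Set B)) = ⊤ := by
      rw [← AlgHom.map_adjoin, hs, Algebra.map_top, AlgHom.range_eq_top]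
      exact hsurj
    have hle : Algebra.adjoin A ((Ideal.Quotient.mkₐ A J₀) '' (s : Set B)) ≤
        integralClosure A (B ⧸ J₀) := by
      rw [Algebra.adjoin_le_iff]
      rintro _ ⟨b, hb, rfl⟩
      rw [Ideal.Quotient.mkₐ_eq_mk]
      exact isIntegral_of_chi F J₀ b (Ideal.subset_span ⟨b, hb, rfl⟩)
    rw [htop] at hle
    constructor
    intro x
    exact hle (Algebra.mem_top)
  have hfin : Module.Finite A (B ⧸ J₀) := Algebra.IsIntegral.finite
  obtain ⟨t, ht⟩ := hfin.1
  -- lift generators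
  have hlift : ∀ x : B ⧸ J₀, ∃ b : B, Ideal.Quotient.mk J₀ b = x := Ideal.Quotient.mk_surjective
  choose lift hlift' using hlift
  let A' := MvPolynomial (↥t) A
  let Y : A' ⊗[A] B := ∑ k : ↥t, (MvPolynomial.X k : A') ⊗ₜ[A] lift k.1
  have hZ := univCH' F A' Y
  set Z := Polynomial.aeval Y (chiS F.law A' Y) with hZdef
  -- finite subset of the kernel
  rw [Ideal.map] at hZ
  obtain ⟨T, hT1, hT2⟩ := Submodule.mem_span_finite_of_mem_span hZ
  obtain ⟨s', hs'1, hs'2⟩ := (Finset.subset_set_image_iff).mp hT1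
  have hZ' : Z ∈ (Ideal.span (s' : Set B)).map
      (Algebra.TensorProduct.includeRight : B →ₐ[A] A' ⊗[A] B) := by
    rw [Ideal.map_span]
    rw [← hs'2, Finset.coe_image] at hT2
    exact hT2
  refine ⟨J₀ ⊔ Ideal.span (s' : Set B), Submodule.FG.sup hJ₀fg ⟨s', rfl⟩, ?_, ?_⟩
  · exact sup_le hJ₀le (Ideal.span_le.mpr hs'1)
  · have hJle : J₀ ⊔ Ideal.span (s' : Set B) ≤ PolLaw.ker F.law :=
      sup_le hJ₀le (Ideal.span_le.mpr hs'1)
    apply le_antisymm (Ideal.radical_mono hJle)
    rw [Ideal.radical_le_radical_iff]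
    intro b hb
    -- decompose `b`
    have hmem : Ideal.Quotient.mk J₀ b ∈ Submodule.span A (t : Set (B ⧸ J₀)) := by
      rw [ht]; trivial
    obtain ⟨c, hc⟩ := (Submodule.mem_span_finset').mp hmem
    set b' : B := ∑ k : ↥t, c k • lift k.1 with hb'def
    have hmk : Ideal.Quotient.mk J₀ b' = Ideal.Quotient.mk J₀ b := by
      rw [hb'def, map_sum, ← hc]
      refine Finset.sum_congr rfl fun k _ => ?_
      rw [← Ideal.Quotient.mkₐ_eq_mk A, map_smul, Ideal.Quotient.mkₐ_eq_mk, hlift']
    have hdiff : b - b' ∈ J₀ := by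
      rw [← Ideal.Quotient.eq_zero_iff_mem, map_sub, hmk, sub_self]
    have hb'ker : b' ∈ PolLaw.ker F.law := by
      have : b' = b - (b - b') := by ring
      rw [this]
      exact Ideal.sub_mem _ hb (hJ₀le hdiff)
    let ψ : A' →ₐ[A] A := MvPolynomial.aeval c
    have hY : Algebra.TensorProduct.lid A B (Algebra.TensorProduct.map ψ (AlgHom.id A B) Y) = b' := by
      rw [hb'def, map_sum, map_sum]
      refine Finset.sum_congr rfl fun k _ => ?_
      rw [Algebra.TensorProduct.map_tmul, Algebra.TensorProduct.lid_tmul, AlgHom.id_apply]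
      show (MvPolynomial.aeval c) (MvPolynomial.X k) • lift ↑k = c k • lift ↑k
      rw [MvPolynomial.aeval_X]
    have h1 := lid_map_aeval F A' ψ Y
    rw [hY, chi_of_mem_ker F b' hb'ker, map_pow, map_neg, aeval_X] at h1
    have h2 := retract_mem A' ψ (Ideal.span (s' : Set B)) Z hZ'
    rw [hZdef, h1] at h2
    have h3 : -b' ∈ (J₀ ⊔ Ideal.span (s' : Set B)).radical := ⟨d, le_sup_right (a := J₀) h2⟩
    have h4 : b' ∈ (J₀ ⊔ Ideal.span (s' : Set B)).radical := by
      have := Ideal.neg_mem_iff _ |>.mp h3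
      exact this
    have h5 : b = b' + (b - b') := by ring
    rw [h5]
    exact Ideal.add_mem _ h4 (Ideal.le_radical (le_sup_left (b := Ideal.span (s' : Set B)) hdiff))

end Groth.Agent.H9.PLF
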