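import Mathlib
import Groth.Prelude.Def_PolLaw
import Groth.Agent.Lib.Helper9.Misc.PLG4

/-! Helper9: S13719 — factorisation of a multiplicative law on a product over a connected base -/
set_option linter.style.haveILetI false

namespace Groth.Agent.H9.PLG
open scoped TensorProduct
open Groth.Agent.H9.PLR Groth.Agent.H9.PLB
open Polynomial

universe u
variable {A : Type u} [CommRing A]
variable {B₁ B₂ : Type u} [CommRing B₁] [Algebra A B₁] [CommRing B₂] [Algebra A B₂]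

lemma nontrivial_of_connected [ConnectedSpace (PrimeSpectrum A)] : Nontrivial A := by
  by_contra h
  rw [not_nontrivial_iff_subsingleton] at h
  haveI : IsEmpty (PrimeSpectrum A) := inferInstance
  exact (ConnectedSpace.toNonempty : Nonempty (PrimeSpectrum A)).elim isEmptyElim

lemma fst_uu (S : Type u) [CommRing S] [Algebra A S] (s : S) :
    (LinearMap.fst A B₁ B₂).lTensor S (uu S ((1, 0) : B₁ × B₂) s) = s • (1 : S ⊗[A] B₁) := by
  unfold uu
  rw [map_add, LinearMap.lTensor_tmul, Algebra.TensorProduct.one_def, LinearMap.lTensor_tmul,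
    Algebra.TensorProduct.one_def, TensorProduct.smul_tmul', smul_eq_mul, mul_one]
  show (1 : S) ⊗ₜ[A] (1 : B₁) + (s - 1) ⊗ₜ[A] (1 : B₁) = _
  rw [← TensorProduct.add_tmul]
  congr 1
  ring

lemma snd_uu (S : Type u) [CommRing S] [Algebra A S] (s : S) :
    (LinearMap.snd A B₁ B₂).lTensor S (uu S ((1, 0) : B₁ × B₂) s) = (1 : S ⊗[A] B₂) := by
  unfold uu
  rw [map_add, LinearMap.lTensor_tmul, Algebra.TensorProduct.one_def, LinearMap.lTensor_tmul,
    Algebra.TensorProduct.one_def]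
  show (1 : S) ⊗ₜ[A] (1 : B₂) + (s - 1) ⊗ₜ[A] (0 : B₂) = _
  rw [TensorProduct.tmul_zero, add_zero]

lemma fst_uu' (S : Type u) [CommRing S] [Algebra A S] (s : S) :
    (LinearMap.fst A B₁ B₂).lTensor S (uu S ((0, 1) : B₁ × B₂) s) = (1 : S ⊗[A] B₁) := by
  unfold uu
  rw [map_add, LinearMap.lTensor_tmul, Algebra.TensorProduct.one_def, LinearMap.lTensor_tmul,
    Algebra.TensorProduct.one_def]
  show (1 : S) ⊗ₜ[A] (1 : B₁) + (s - 1) ⊗ₜ[A] (0 : B₁) = _
  rw [TensorProduct.tmul_zero, add_zero]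

lemma snd_uu' (S : Type u) [CommRing S] [Algebra A S] (s : S) :
    (LinearMap.snd A B₁ B₂).lTensor S (uu S ((0, 1) : B₁ × B₂) s) = s • (1 : S ⊗[A] B₂) := by
  unfold uu
  rw [map_add, LinearMap.lTensor_tmul, Algebra.TensorProduct.one_def, LinearMap.lTensor_tmul,
    Algebra.TensorProduct.one_def, TensorProduct.smul_tmul', smul_eq_mul, mul_one]
  show (1 : S) ⊗ₜ[A] (1 : B₂) + (s - 1) ⊗ₜ[A] (1 : B₂) = _
  rw [← TensorProduct.add_tmul]
  congr 1
  ring

lemma X_pow_inj [Nontrivial A] {m n : ℕ} (h : (X : A[X]) ^ m = X ^ n) : m = n := by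
  have := congrArg Polynomial.natDegree h
  rwa [natDegree_X_pow, natDegree_X_pow] at this

theorem S13719_main [ConnectedSpace (PrimeSpectrum A)] {d : ℕ}
    (F : PolLaw.MulLaw A (B₁ × B₂) A d) :
    ∃ d₁ d₂ : ℕ, d₁ + d₂ = d ∧
      (∃ (F₁ : PolLaw.MulLaw A B₁ A d₁) (F₂ : PolLaw.MulLaw A B₂ A d₂),
        ∀ (S : Type u) [CommSemiring S] [Algebra A S] (x : S ⊗[A] (B₁ × B₂)),
          F.law.toFun' S x = F₁.law.toFun' S (LinearMap.lTensor S (LinearMap.fst A B₁ B₂) x) *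
            F₂.law.toFun' S (LinearMap.lTensor S (LinearMap.snd A B₁ B₂) x)) ∧
      ∀ (e₁ e₂ : ℕ) (G₁ : PolLaw.MulLaw A B₁ A e₁) (G₂ : PolLaw.MulLaw A B₂ A e₂),
        (∀ (S : Type u) [CommSemiring S] [Algebra A S] (x : S ⊗[A] (B₁ × B₂)),
          F.law.toFun' S x = G₁.law.toFun' S (LinearMap.lTensor S (LinearMap.fst A B₁ B₂) x) *
            G₂.law.toFun' S (LinearMap.lTensor S (LinearMap.snd A B₁ B₂) x)) → e₁ = d₁ ∧ e₂ = d₂ := by
  haveI : Nontrivial A := nontrivial_of_connected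
  obtain ⟨d₁, h₁⟩ := pe_spec F ((1, 0) : B₁ × B₂) (idem_inl F)
  obtain ⟨d₂, h₂⟩ := pe_spec F ((0, 1) : B₁ × B₂) (idem_inr F)
  refine ⟨d₁, d₂, ?_, ⟨law₁ F d₁ h₁, law₂ F d₂ h₂, fun S _ _ x => fac F S x⟩, ?_⟩
  · -- degrees add up
    have hprod : uu A[X] ((1, 0) : B₁ × B₂) X * uu A[X] ((0, 1) : B₁ × B₂) X =
        (X : A[X]) • (1 : A[X] ⊗[A] (B₁ × B₂)) := by
      rw [uu_inl, uu_inr, add_mul, mul_add, mul_add, smul_mul_assoc, E₁E₁, smul_mul_smul_comm,
        E₁E₂, smul_zero, add_zero, mul_comm, E₁E₂, zero_add, mul_smul_comm, E₂E₂, one_eq, smul_add]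
    have h3 := congrArg (hat F.law A[X]) hprod
    rw [hat_mul F.mult, hat_smul F.homog, hat_one F.mult, mul_one] at h3
    have h4 : hat F.law A[X] (uu A[X] ((1, 0) : B₁ × B₂) X) = X ^ d₁ := h₁
    have h5 : hat F.law A[X] (uu A[X] ((0, 1) : B₁ × B₂) X) = X ^ d₂ := h₂
    rw [h4, h5, ← pow_add] at h3
    exact X_pow_inj h3
  · intro e₁ e₂ G₁ G₂ hG
    constructor
    · have h3 := hG A[X] (uu A[X] ((1, 0) : B₁ × B₂) X)
      rw [fst_uu, snd_uu, G₁.homog, (G₁.mult _).1, (G₂.mult _).1, mul_one, toFun'_eq_hat] at h3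
      have h4 : hat F.law A[X] (uu A[X] ((1, 0) : B₁ × B₂) X) = X ^ d₁ := h₁
      rw [h4] at h3
      rw [Algebra.TensorProduct.one_def, TensorProduct.smul_tmul', smul_eq_mul, mul_one] at h3
      have h5 := congrArg (TensorProduct.rid A A[X]) h3
      rw [TensorProduct.rid_tmul, one_smul, TensorProduct.rid_tmul, one_smul] at h5
      exact (X_pow_inj h5).symm
    · have h3 := hG A[X] (uu A[X] ((0, 1) : B₁ × B₂) X)
      rw [fst_uu', snd_uu', G₂.homog, (G₁.mult _).1, (G₂.mult _).1, one_mul, toFun'_eq_hat] at h3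
      have h4 : hat F.law A[X] (uu A[X] ((0, 1) : B₁ × B₂) X) = X ^ d₂ := h₂
      rw [h4] at h3
      rw [Algebra.TensorProduct.one_def, TensorProduct.smul_tmul', smul_eq_mul, mul_one] at h3
      have h5 := congrArg (TensorProduct.rid A A[X]) h3
      rw [TensorProduct.rid_tmul, one_smul, TensorProduct.rid_tmul, one_smul] at h5
      exact (X_pow_inj h5).symm

end Groth.Agent.H9.PLG
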