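import Mathlib
import Groth.Prelude.Def_PolLaw
import Groth.Agent.Lib.Helper9.Misc.PLG5

/-! Helper9: degrees of a multiplicative law along orthogonal idempotents modulo the kernel -/
set_option linter.style.haveILetI false

namespace Groth.Agent.H9.PLH
open scoped TensorProduct
open Groth.Agent.H9.PLR Groth.Agent.H9.PLB Groth.Agent.H9.PLG
open Polynomial

universe u
variable {A : Type u} [CommRing A] {B : Type u} [CommRing B] [Algebra A B]

/-- a law factors through the quotient by its kernel -/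
theorem factorsThrough_ker {C : Type u} [CommRing C] [Algebra A C] (F : B →ₚₗ[A] C) :
    PolLaw.FactorsThrough F (PolLaw.ker F) := by
  intro S _ _ x y hy
  have key : ∀ y ∈ (PolLaw.ker F).map (Algebra.TensorProduct.includeRight : B →ₐ[A] S ⊗[A] B),
      ∀ x w : S ⊗[A] B, F.toFun' S (x + w * y) = F.toFun' S x := by
    intro y hy
    rw [Ideal.map] at hy
    induction hy using Submodule.span_induction with
    | mem y hy =>
      obtain ⟨k, hk, rfl⟩ := hy
      intro x w
      exact hk S x w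
    | zero => intro x w; rw [mul_zero, add_zero]
    | add y₁ y₂ _ _ h₁ h₂ =>
      intro x w
      rw [mul_add, ← add_assoc, h₂, h₁]
    | smul a y _ h =>
      intro x w
      rw [smul_eq_mul, ← mul_assoc]
      exact h x (w * a)
  have := key y hy x 1
  rwa [one_mul] at this

lemma pe_add {d : ℕ} (F : PolLaw.MulLaw A B A d) (a b : B) (hab : a * b ∈ PolLaw.ker F.law) :
    pe F.law (a + b) = pe F.law a * pe F.law b := by
  unfold pe
  rw [← hat_mul F.mult]
  have e : PLG.uu A[X] a (X : A[X]) * PLG.uu A[X] b X = PLG.uu A[X] (a + b) X +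
      (((X : A[X]) - 1) * (X - 1)) ⊗ₜ[A] (1 : B) * ((1 : A[X]) ⊗ₜ[A] (a * b)) := by
    unfold PLG.uu
    rw [Algebra.TensorProduct.tmul_mul_tmul, mul_one, one_mul, add_mul, mul_add, mul_add, one_mul,
      one_mul, mul_one, Algebra.TensorProduct.tmul_mul_tmul, TensorProduct.tmul_add]
    abel
  rw [e]
  unfold hat
  rw [hab A[X]]

lemma idem_add {d : ℕ} (F : PolLaw.MulLaw A B A d) (a b : B)
    (ha : a * a - a ∈ PolLaw.ker F.law) (hb : b * b - b ∈ PolLaw.ker F.law)
    (hab : a * b ∈ PolLaw.ker F.law) : (a + b) * (a + b) - (a + b) ∈ PolLaw.ker F.law := by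
  have : (a + b) * (a + b) - (a + b) = (a * a - a) + (b * b - b) + 2 * (a * b) := by ring
  rw [this]
  exact Ideal.add_mem _ (Ideal.add_mem _ ha hb) (Ideal.mul_mem_left _ _ hab)

lemma pe_zero {d : ℕ} (F : PolLaw.MulLaw A B A d) : pe F.law (0 : B) = 1 := by
  unfold pe PLG.uu
  rw [TensorProduct.tmul_zero, add_zero, hat_one F.mult]

lemma pe_one {d : ℕ} (F : PolLaw.MulLaw A B A d) : pe F.law (1 : B) = X ^ d := by
  unfold pe PLG.uu
  have : (1 : A[X] ⊗[A] B) + ((X : A[X]) - 1) ⊗ₜ[A] (1 : B) = (X : A[X]) • (1 : A[X] ⊗[A] B) := by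
    rw [Algebra.TensorProduct.one_def, ← TensorProduct.add_tmul, TensorProduct.smul_tmul',
      smul_eq_mul, mul_one]
    congr 1
    ring
  rw [this, hat_smul F.homog, hat_one F.mult, mul_one]

/-- degrees add over orthogonal families -/
lemma sum_deg {d : ℕ} (F : PolLaw.MulLaw A B A d) {ι : Type*} [DecidableEq ι] (s : Finset ι)
    (e : ι → B) (dd : ι → ℕ)
    (hid : ∀ i ∈ s, e i * e i - e i ∈ PolLaw.ker F.law)
    (horth : ∀ i ∈ s, ∀ j ∈ s, i ≠ j → e i * e j ∈ PolLaw.ker F.law)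
    (hd : ∀ i ∈ s, pe F.law (e i) = X ^ dd i) :
    ((∑ i ∈ s, e i) * (∑ i ∈ s, e i) - ∑ i ∈ s, e i ∈ PolLaw.ker F.law) ∧
      pe F.law (∑ i ∈ s, e i) = X ^ (∑ i ∈ s, dd i) := by
  induction s using Finset.induction_on with
  | empty =>
    simp only [Finset.sum_empty, mul_zero, sub_zero, pow_zero]
    exact ⟨Ideal.zero_mem _, pe_zero F⟩
  | insert j s hj ih =>
    have ih' := ih (fun i hi => hid i (Finset.mem_insert_of_mem hi))
      (fun i hi k hk hik => horth i (Finset.mem_insert_of_mem hi) k (Finset.mem_insert_of_mem hk) hik)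
      (fun i hi => hd i (Finset.mem_insert_of_mem hi))
    have hab : e j * ∑ i ∈ s, e i ∈ PolLaw.ker F.law := by
      rw [Finset.mul_sum]
      apply Ideal.sum_mem
      intro i hi
      apply horth j (Finset.mem_insert_self j s) i (Finset.mem_insert_of_mem hi)
      rintro rfl
      exact hj hi
    rw [Finset.sum_insert hj, Finset.sum_insert hj]
    refine ⟨idem_add F _ _ (hid j (Finset.mem_insert_self j s)) ih'.1 hab, ?_⟩
    rw [pe_add F _ _ hab, hd j (Finset.mem_insert_self j s), ih'.2, pow_add]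

/-- an idempotent modulo the kernel of degree zero lies in the kernel -/
lemma mem_ker_of_pe_eq_one {d : ℕ} (F : PolLaw.MulLaw A B A d) (e : B)
    (he : e * e - e ∈ PolLaw.ker F.law) (h : pe F.law e = 1) : e ∈ PolLaw.ker F.law := by
  intro S _ _ x w
  let _ : CommRing S := commRingOfAlg A S
  have h1 : hat F.law S (PLG.uu S e (0 : S)) = 1 := by
    rw [hat_uu, h, map_one]
  have h2 : F.law.toFun' S (PLG.uu S e (0 : S)) = 1 := by
    rw [toFun'_eq_hat, h1, Algebra.TensorProduct.one_def]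
  have h3 : ∀ z : S ⊗[A] B, F.law.toFun' S (z * PLG.uu S e (0 : S)) = F.law.toFun' S z := by
    intro z
    rw [(F.mult S).2, h2, mul_one]
  rw [← h3 (x + w * (1 : S) ⊗ₜ[A] e), ← h3 x]
  have e1 : (x + w * (1 : S) ⊗ₜ[A] e) * PLG.uu S e (0 : S) =
      x * PLG.uu S e (0 : S) + (-w) * ((1 : S) ⊗ₜ[A] (e * e - e)) := by
    unfold PLG.uu
    rw [zero_sub, TensorProduct.tmul_sub, TensorProduct.neg_tmul]
    have : (1 : S) ⊗ₜ[A] (e * e) = ((1 : S) ⊗ₜ[A] e) * ((1 : S) ⊗ₜ[A] e) := by
      rw [Algebra.TensorProduct.tmul_mul_tmul, one_mul]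
    rw [this]
    ring
  rw [e1, he S]

end Groth.Agent.H9.PLH
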