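import Mathlib

/-! Helper9: bounding the number of connected components by disjoint clopen families -/
set_option linter.style.haveILetI false

namespace Groth.Agent.H9.PLH

open Set

/-- If a space has no `d + 1` pairwise disjoint nonempty clopen subsets then it has at most `d`
connected components. -/
theorem cc_card_le {X : Type*} [TopologicalSpace X] (d : ℕ)
    (H : ∀ s : Finset (Set X), (∀ U ∈ s, IsClopen U ∧ U.Nonempty) →
      (s : Set (Set X)).PairwiseDisjoint id → s.card ≤ d) :
    Finite (ConnectedComponents X) ∧ Nat.card (ConnectedComponents X) ≤ d := by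
  classical
  let Q : Finset (Set X) → Prop := fun s => (∀ U ∈ s, IsClopen U ∧ U.Nonempty) ∧
    (s : Set (Set X)).PairwiseDisjoint id
  let P : ℕ → Prop := fun n => ∃ s, Q s ∧ s.card = n
  have hP0 : P 0 := ⟨∅, ⟨by simp, by simp⟩, rfl⟩
  have hPd : ∀ n, P n → n ≤ d := by
    rintro n ⟨s, ⟨h1, h2⟩, rfl⟩
    exact H s h1 h2
  set n := Nat.findGreatest P d with hn
  have hPn : P n := Nat.findGreatest_spec (Nat.zero_le d) hP0
  have hmax : ∀ m, P m → m ≤ n := fun m hm => Nat.le_findGreatest (hPd m hm) hm
  obtain ⟨s, ⟨hs1, hs2⟩, hsn⟩ := hPn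
  -- the union is everything
  have hcover : ∀ x : X, ∃ U ∈ s, x ∈ U := by
    by_contra hne
    push Not at hne
    obtain ⟨x, hx⟩ := hne
    let V : Set X := (⋃ U ∈ s, U)ᶜ
    have hVcl : IsClopen V := by
      apply IsClopen.compl
      exact isClopen_biUnion_finset (fun U hU => (hs1 U hU).1)
    have hxV : x ∈ V := by
      simp only [V, mem_compl_iff, mem_iUnion, not_exists]
      intro U hU hxU
      exact hx U hU hxU
    have hVdisj : ∀ U ∈ s, Disjoint V U := by
      intro U hU
      rw [Set.disjoint_left]
      intro y hyV hyU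
      apply hyV
      simp only [mem_iUnion]
      exact ⟨U, hU, hyU⟩
    have hVs : V ∉ s := by
      intro hV
      have := hVdisj V hV
      rw [disjoint_self] at this
      rw [Set.bot_eq_empty] at this
      rw [this] at hxV
      exact hxV
    have hQ' : Q (insert V s) := by
      constructor
      · intro U hU
        rcases Finset.mem_insert.mp hU with rfl | hU
        · exact ⟨hVcl, ⟨x, hxV⟩⟩
        · exact hs1 U hU
      · rw [Finset.coe_insert]
        apply Set.PairwiseDisjoint.insert hs2
        intro U hU _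
        exact hVdisj U hU
    have := hmax (n + 1) ⟨insert V s, hQ', by rw [Finset.card_insert_of_notMem hVs, hsn]⟩
    omega
  -- each member is preconnected
  have hconn : ∀ U ∈ s, IsPreconnected U := by
    intro U hU
    by_contra hnot
    unfold IsPreconnected at hnot
    push Not at hnot
    obtain ⟨u, v, hu, hv, hsub, ⟨a, haU, hau⟩, ⟨b, hbU, hbv⟩, hempty⟩ := hnot
    have hUcl := (hs1 U hU).1
    let U₁ := U ∩ u
    let U₂ := U ∩ v
    have hU₁eq : U₁ = U ∩ vᶜ := by
      ext y
      simp only [U₁, mem_inter_iff, mem_compl_iff]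
      constructor
      · rintro ⟨hyU, hyu⟩
        refine ⟨hyU, fun hyv => ?_⟩
        have : y ∈ U ∩ (u ∩ v) := ⟨hyU, hyu, hyv⟩
        rw [hempty] at this
        exact this
      · rintro ⟨hyU, hyv⟩
        refine ⟨hyU, ?_⟩
        rcases hsub hyU with h | h
        · exact h
        · exact absurd h hyv
    have hU₂eq : U₂ = U ∩ uᶜ := by
      ext y
      simp only [U₂, mem_inter_iff, mem_compl_iff]
      constructor
      · rintro ⟨hyU, hyv⟩
        refine ⟨hyU, fun hyu => ?_⟩
        have : y ∈ U ∩ (u ∩ v) := ⟨hyU, hyu, hyv⟩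
        rw [hempty] at this
        exact this
      · rintro ⟨hyU, hyu⟩
        refine ⟨hyU, ?_⟩
        rcases hsub hyU with h | h
        · exact absurd h hyu
        · exact h
    have hU₁cl : IsClopen U₁ := by
      refine ⟨?_, hUcl.2.inter hu⟩
      rw [hU₁eq]
      exact hUcl.1.inter hv.isClosed_compl
    have hU₂cl : IsClopen U₂ := by
      refine ⟨?_, hUcl.2.inter hv⟩
      rw [hU₂eq]
      exact hUcl.1.inter hu.isClosed_compl
    have h12 : Disjoint U₁ U₂ := by
      rw [Set.disjoint_left]
      rintro y ⟨hyU, hyu⟩ ⟨_, hyv⟩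
      have : y ∈ U ∩ (u ∩ v) := ⟨hyU, hyu, hyv⟩
      rw [hempty] at this
      exact this
    have hsubU₁ : U₁ ⊆ U := Set.inter_subset_left
    have hsubU₂ : U₂ ⊆ U := Set.inter_subset_left
    let s₀ := s.erase U
    have hs₀disj : ∀ W ∈ s₀, Disjoint U W := by
      intro W hW
      have hW' := Finset.mem_erase.mp hW
      exact hs2 (Finset.mem_coe.mpr hU) (Finset.mem_coe.mpr hW'.2) hW'.1.symm
    have hU₂s₀ : U₂ ∉ s₀ := by
      intro h
      have := (hs₀disj U₂ h).mono_left hsubU₂
      rw [disjoint_self, Set.bot_eq_empty] at this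
      have hb : b ∈ U₂ := ⟨hbU, hbv⟩
      rw [this] at hb
      exact hb
    have hU₁s' : U₁ ∉ insert U₂ s₀ := by
      intro h
      rcases Finset.mem_insert.mp h with h | h
      · have ha : a ∈ U₁ := ⟨haU, hau⟩
        have : a ∈ U₂ := h ▸ ha
        exact Set.disjoint_left.mp h12 ha this
      · have := (hs₀disj U₁ h).mono_left hsubU₁
        rw [disjoint_self, Set.bot_eq_empty] at this
        have ha : a ∈ U₁ := ⟨haU, hau⟩
        rw [this] at ha
        exact ha
    have hQ' : Q (insert U₁ (insert U₂ s₀)) := by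
      constructor
      · intro W hW
        rcases Finset.mem_insert.mp hW with rfl | hW
        · exact ⟨hU₁cl, ⟨a, haU, hau⟩⟩
        rcases Finset.mem_insert.mp hW with rfl | hW
        · exact ⟨hU₂cl, ⟨b, hbU, hbv⟩⟩
        · exact hs1 W (Finset.mem_of_mem_erase hW)
      · rw [Finset.coe_insert, Finset.coe_insert]
        apply Set.PairwiseDisjoint.insert
        · apply Set.PairwiseDisjoint.insert
          · exact hs2.subset (by
              intro W hW
              exact Finset.mem_coe.mpr (Finset.mem_of_mem_erase (Finset.mem_coe.mp hW)))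
          · intro W hW _
            exact (hs₀disj W (Finset.mem_coe.mp hW)).mono_left hsubU₂
        · intro W hW _
          rcases Set.mem_insert_iff.mp hW with rfl | hW
          · exact h12
          · exact (hs₀disj W (Finset.mem_coe.mp hW)).mono_left hsubU₁
    have hcard : (insert U₁ (insert U₂ s₀)).card = n + 1 := by
      rw [Finset.card_insert_of_notMem hU₁s', Finset.card_insert_of_notMem hU₂s₀,
        Finset.card_erase_of_mem hU, hsn]
      have : 0 < s.card := Finset.card_pos.mpr ⟨U, hU⟩
      omega
    have := hmax (n + 1) ⟨_, hQ', hcard⟩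
    omega
  -- conclusion
  have hpt : ∀ U : ↥s, ∃ x : X, x ∈ (U : Set X) := fun U => (hs1 U.1 U.2).2
  choose pt hpt using hpt
  let f : ↥s → ConnectedComponents X := fun U => (pt U : ConnectedComponents X)
  have hf : Function.Surjective f := by
    intro c
    obtain ⟨x, rfl⟩ := ConnectedComponents.surjective_coe c
    obtain ⟨U, hU, hxU⟩ := hcover x
    refine ⟨⟨U, hU⟩, ?_⟩
    show ((pt ⟨U, hU⟩ : X) : ConnectedComponents X) = (x : ConnectedComponents X)
    rw [ConnectedComponents.coe_eq_coe']
    exact (hconn U hU).subset_connectedComponent hxU (hpt ⟨U, hU⟩)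
  haveI : Finite (ConnectedComponents X) := Finite.of_surjective f hf
  refine ⟨inferInstance, ?_⟩
  calc Nat.card (ConnectedComponents X) ≤ Nat.card ↥s := Nat.card_le_card_of_surjective f hf
    _ = s.card := by simp
    _ = n := hsn
    _ ≤ d := Nat.findGreatest_le d

end Groth.Agent.H9.PLH
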