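import Mathlib
import Groth.Prelude.Def_PolLaw
import Groth.Agent.Lib.Helper9.Misc.PLH1
import Groth.Agent.Lib.Helper9.Misc.PLH2

/-! Helper9: S13727 — the support of a degree-d family over a connected base has at most d components -/
set_option linter.style.haveILetI false

namespace Groth.Agent.H9.PLH
open scoped TensorProduct
open Groth.Agent.H9.PLR Groth.Agent.H9.PLB Groth.Agent.H9.PLG
open Polynomial

universe u
variable {A : Type u} [CommRing A] {B : Type u} [CommRing B] [Algebra A B]

theorem S13727_main [ConnectedSpace (PrimeSpectrum A)] {d : ℕ} (F : PolLaw.MulLaw A B A d) :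
    Finite (ConnectedComponents (PrimeSpectrum (PolLaw.image F.law))) ∧
      Nat.card (ConnectedComponents (PrimeSpectrum (PolLaw.image F.law))) ≤ d := by
  classical
  haveI : Nontrivial A := nontrivial_of_connected
  apply cc_card_le
  intro s hs1 hs2
  set K := PolLaw.ker F.law with hK
  have h1 : ∀ U ∈ s, ∃ e : B, (e * e - e ∈ K) ∧
      U = (PrimeSpectrum.basicOpen (Ideal.Quotient.mk K e) : Set (PrimeSpectrum (B ⧸ K))) := by
    intro U hU
    obtain ⟨ε, hε, hUε⟩ := PrimeSpectrum.isClopen_iff.mp (hs1 U hU).1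
    obtain ⟨e, rfl⟩ := Ideal.Quotient.mk_surjective ε
    refine ⟨e, ?_, hUε⟩
    rw [← Ideal.Quotient.eq_zero_iff_mem, map_sub, map_mul, sub_eq_zero]
    exact hε
  choose! e he using h1
  have h2 : ∀ U ∈ s, ∃ n : ℕ, pe F.law (e U) = X ^ n := fun U hU => pe_spec F (e U) (he U hU).1
  choose! dd hdd using h2
  have hidem : ∀ U ∈ s, IsIdempotentElem (Ideal.Quotient.mk K (e U)) := by
    intro U hU
    have := (he U hU).1
    rw [← Ideal.Quotient.eq_zero_iff_mem, map_sub, map_mul, sub_eq_zero] at this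
    exact this
  have horth : ∀ U ∈ s, ∀ V ∈ s, U ≠ V → e U * e V ∈ K := by
    intro U hU V hV hUV
    rw [← Ideal.Quotient.eq_zero_iff_mem, map_mul]
    apply IsIdempotentElem.eq_zero_of_isNilpotent
    · exact (hidem U hU).mul (hidem V hV)
    · rw [← PrimeSpectrum.basicOpen_eq_bot_iff, PrimeSpectrum.basicOpen_mul]
      apply TopologicalSpace.Opens.ext
      rw [TopologicalSpace.Opens.coe_inf, ← (he U hU).2, ← (he V hV).2]
      have := hs2 (Finset.mem_coe.mpr hU) (Finset.mem_coe.mpr hV) hUV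
      exact Set.disjoint_iff_inter_eq_empty.mp this
  have hpos : ∀ U ∈ s, 1 ≤ dd U := by
    intro U hU
    by_contra hlt
    have h0 : dd U = 0 := by omega
    have h3 := hdd U hU
    rw [h0, pow_zero] at h3
    have h4 := mem_ker_of_pe_eq_one F (e U) (he U hU).1 h3
    have h5 : Ideal.Quotient.mk K (e U) = 0 := Ideal.Quotient.eq_zero_iff_mem.mpr h4
    have h6 := (he U hU).2
    rw [h5, PrimeSpectrum.basicOpen_zero] at h6
    have h7 := (hs1 U hU).2
    rw [h6] at h7
    simp at h7
  obtain ⟨hE1, hE2⟩ := sum_deg F s e dd (fun U hU => (he U hU).1) horth hdd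
  set E := ∑ U ∈ s, e U with hE
  have hE' : (1 - E) * (1 - E) - (1 - E) ∈ K := by
    have : (1 - E) * (1 - E) - (1 - E) = E * E - E := by ring
    rw [this]; exact hE1
  obtain ⟨d', hd'⟩ := pe_spec F (1 - E) hE'
  have hprod : E * (1 - E) ∈ K := by
    have : E * (1 - E) = -(E * E - E) := by ring
    rw [this]; exact Ideal.neg_mem_iff _ |>.mpr hE1
  have h8 := pe_add F E (1 - E) hprod
  rw [add_sub_cancel, pe_one, hE2, hd', ← pow_add] at h8
  have h9 := X_pow_inj h8
  calc s.card = ∑ U ∈ s, 1 := by simp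
    _ ≤ ∑ U ∈ s, dd U := Finset.sum_le_sum hpos
    _ ≤ d := by omega

end Groth.Agent.H9.PLH
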