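import Mathlib
import Groth.Prelude.Def_PolLaw
import Groth.Agent.Lib.Helper9.Misc.PLR1
import Groth.Agent.Lib.Helper9.Misc.PLR3

/-! Helper9: the universal point of a finite algebra and the obstruction polynomial for kernels of laws -/
set_option linter.style.haveILetI false

namespace Groth.Agent.H9.PLU
open scoped TensorProduct
open Groth.Agent.H9.PLR

universe u
variable {A : Type u} [CommRing A] {B : Type u} [CommRing B] [Algebra A B]
variable {n : ℕ} (b : Fin n → B)

/-- every element of `R ⊗ B` is a combination of the `1 ⊗ b i` when the `b i` span `B` -/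
lemma exists_rep (hb : Submodule.span A (Set.range b) = ⊤) (R : Type u) [CommSemiring R]
    [Algebra A R] (x : R ⊗[A] B) : ∃ c : Fin n → R, x = ∑ i, c i ⊗ₜ[A] b i := by
  induction x using TensorProduct.induction_on with
  | zero => exact ⟨fun _ => 0, by simp⟩
  | tmul r b' =>
    have hmem : b' ∈ Submodule.span A (Set.range b) := by rw [hb]; trivial
    obtain ⟨a, ha⟩ := (Submodule.mem_span_range_iff_exists_fun A).mp hmem
    refine ⟨fun i => a i • r, ?_⟩
    rw [← ha, TensorProduct.tmul_sum]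
    refine Finset.sum_congr rfl fun i _ => ?_
    rw [TensorProduct.tmul_smul, TensorProduct.smul_tmul']
  | add x y hx hy =>
    obtain ⟨c, rfl⟩ := hx
    obtain ⟨c', rfl⟩ := hy
    refine ⟨fun i => c i + c' i, ?_⟩
    rw [← Finset.sum_add_distrib]
    refine Finset.sum_congr rfl fun i _ => ?_
    rw [TensorProduct.add_tmul]

/-- the universal first point -/
noncomputable def Ux (R : Type u) [CommRing R] [Algebra A R] :
    MvPolynomial (Fin n ⊕ Fin n) R ⊗[A] B :=
  ∑ i, (MvPolynomial.X (Sum.inl i) : MvPolynomial (Fin n ⊕ Fin n) R) ⊗ₜ[A] b i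

/-- the universal second point -/
noncomputable def Uw (R : Type u) [CommRing R] [Algebra A R] :
    MvPolynomial (Fin n ⊕ Fin n) R ⊗[A] B :=
  ∑ i, (MvPolynomial.X (Sum.inr i) : MvPolynomial (Fin n ⊕ Fin n) R) ⊗ₜ[A] b i

/-- the obstruction polynomial: `F(U_x + U_w y) - F(U_x)` -/
noncomputable def DD (F : B →ₚₗ[A] A) (A' : Type u) [CommRing A'] [Algebra A A'] (y : A' ⊗[A] B) :
    MvPolynomial (Fin n ⊕ Fin n) A' :=
  hat F (MvPolynomial (Fin n ⊕ Fin n) A') (Ux b A' + Uw b A' *
    Algebra.TensorProduct.map (IsScalarTower.toAlgHom A A' (MvPolynomial (Fin n ⊕ Fin n) A'))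
      (AlgHom.id A B) y) -
  hat F (MvPolynomial (Fin n ⊕ Fin n) A') (Ux b A')

section spec
variable (F : B →ₚₗ[A] A) (A' : Type u) [CommRing A'] [Algebra A A']
variable (R : Type u) [CommRing R] [Algebra A R] [Algebra A' R] [IsScalarTower A A' R]

lemma map_Ux (rx rw : Fin n → R) :
    Algebra.TensorProduct.map ((MvPolynomial.aeval (Sum.elim rx rw) :
      MvPolynomial (Fin n ⊕ Fin n) A' →ₐ[A'] R).restrictScalars A) (AlgHom.id A B) (Ux b A') =
      ∑ i, rx i ⊗ₜ[A] b i := by
  unfold Ux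
  rw [map_sum]
  refine Finset.sum_congr rfl fun i _ => ?_
  rw [Algebra.TensorProduct.map_tmul]
  simp

lemma map_Uw (rx rw : Fin n → R) :
    Algebra.TensorProduct.map ((MvPolynomial.aeval (Sum.elim rx rw) :
      MvPolynomial (Fin n ⊕ Fin n) A' →ₐ[A'] R).restrictScalars A) (AlgHom.id A B) (Uw b A') =
      ∑ i, rw i ⊗ₜ[A] b i := by
  unfold Uw
  rw [map_sum]
  refine Finset.sum_congr rfl fun i _ => ?_
  rw [Algebra.TensorProduct.map_tmul]
  simp

lemma map_y (rx rw : Fin n → R) (y : A' ⊗[A] B) :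
    Algebra.TensorProduct.map ((MvPolynomial.aeval (Sum.elim rx rw) :
      MvPolynomial (Fin n ⊕ Fin n) A' →ₐ[A'] R).restrictScalars A) (AlgHom.id A B)
      (Algebra.TensorProduct.map (IsScalarTower.toAlgHom A A' (MvPolynomial (Fin n ⊕ Fin n) A'))
        (AlgHom.id A B) y) =
      Algebra.TensorProduct.map (IsScalarTower.toAlgHom A A' R) (AlgHom.id A B) y := by
  induction y using TensorProduct.induction_on with
  | zero => simp
  | tmul a b' =>
    rw [Algebra.TensorProduct.map_tmul, Algebra.TensorProduct.map_tmul,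
      Algebra.TensorProduct.map_tmul]
    simp
  | add x y hx hy => simp only [map_add, hx, hy]

/-- specialisation of the obstruction polynomial -/
lemma DD_spec (rx rw : Fin n → R) (y : A' ⊗[A] B) :
    MvPolynomial.aeval (Sum.elim rx rw) (DD b F A' y) =
      hat F R ((∑ i, rx i ⊗ₜ[A] b i) + (∑ i, rw i ⊗ₜ[A] b i) *
        Algebra.TensorProduct.map (IsScalarTower.toAlgHom A A' R) (AlgHom.id A B) y) -
      hat F R (∑ i, rx i ⊗ₜ[A] b i) := by
  unfold DD
  rw [map_sub]
  have h1 := hat_map F ((MvPolynomial.aeval (Sum.elim rx rw) :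
      MvPolynomial (Fin n ⊕ Fin n) A' →ₐ[A'] R).restrictScalars A)
  rw [← map_Ux b A' R rx rw, ← map_Uw b A' R rx rw, ← map_y A' R rx rw y, ← map_mul, ← map_add,
    h1, h1]
  rfl

end spec

/-- the kernel criterion -/
theorem mem_kerBC_of_DD (hb : Submodule.span A (Set.range b) = ⊤) (F : B →ₚₗ[A] A)
    (A' : Type u) [CommRing A'] [Algebra A A'] (y : A' ⊗[A] B) (h : DD b F A' y = 0) :
    y ∈ PolLaw.kerBC F A' := by
  intro R _ _ _ _ x w
  let _ : CommRing R := commRingOfAlg A R
  obtain ⟨rx, rfl⟩ := exists_rep b hb R x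
  obtain ⟨rw, rfl⟩ := exists_rep b hb R w
  have h1 := DD_spec b F A' R rx rw y
  rw [h, map_zero] at h1
  have h2 := (sub_eq_zero.mp h1.symm)
  unfold hat at h2
  exact (TensorProduct.rid A R).injective h2

/-- the converse -/
theorem DD_of_mem_kerBC (F : B →ₚₗ[A] A)
    (A' : Type u) [CommRing A'] [Algebra A A'] (y : A' ⊗[A] B) (h : y ∈ PolLaw.kerBC F A') :
    DD b F A' y = 0 := by
  unfold DD
  rw [sub_eq_zero]
  unfold hat
  rw [h (MvPolynomial (Fin n ⊕ Fin n) A')]

end Groth.Agent.H9.PLU
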