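import Mathlib
import Groth.Prelude.Def_PolLaw
import Groth.Agent.Lib.Helper9.Misc.PLU1
import Groth.Agent.Lib.Helper9.Misc.PLR2

/-! Helper9: functoriality of the obstruction polynomial; scalar multiples landing in the kernel -/
set_option linter.style.haveILetI false

namespace Groth.Agent.H9.PLU
open scoped TensorProduct
open Groth.Agent.H9.PLR

universe u
variable {A : Type u} [CommRing A] {B : Type u} [CommRing B] [Algebra A B]
variable {n : ℕ} (b : Fin n → B)

/-- functoriality of the obstruction polynomial in the base -/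
lemma DD_map (F : B →ₚₗ[A] A) {A' A'' : Type u} [CommRing A'] [Algebra A A'] [CommRing A'']
    [Algebra A A''] (f : A' →ₐ[A] A'') (y : A' ⊗[A] B) :
    MvPolynomial.map (f : A' →+* A'') (DD b F A' y) =
      DD b F A'' (Algebra.TensorProduct.map f (AlgHom.id A B) y) := by
  unfold DD
  have h1 := hat_map F (MvPolynomial.mapAlgHom (σ := Fin n ⊕ Fin n) f)
  have e1 : Algebra.TensorProduct.map (MvPolynomial.mapAlgHom (σ := Fin n ⊕ Fin n) f)
      (AlgHom.id A B) (Ux b A') = Ux b A'' := by
    unfold Ux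
    rw [map_sum]
    refine Finset.sum_congr rfl fun i _ => ?_
    rw [Algebra.TensorProduct.map_tmul]
    simp
  have e2 : Algebra.TensorProduct.map (MvPolynomial.mapAlgHom (σ := Fin n ⊕ Fin n) f)
      (AlgHom.id A B) (Uw b A') = Uw b A'' := by
    unfold Uw
    rw [map_sum]
    refine Finset.sum_congr rfl fun i _ => ?_
    rw [Algebra.TensorProduct.map_tmul]
    simp
  have e3 : Algebra.TensorProduct.map (MvPolynomial.mapAlgHom (σ := Fin n ⊕ Fin n) f)
      (AlgHom.id A B) (Algebra.TensorProduct.map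
        (IsScalarTower.toAlgHom A A' (MvPolynomial (Fin n ⊕ Fin n) A')) (AlgHom.id A B) y) =
      Algebra.TensorProduct.map (IsScalarTower.toAlgHom A A'' (MvPolynomial (Fin n ⊕ Fin n) A''))
        (AlgHom.id A B) (Algebra.TensorProduct.map f (AlgHom.id A B) y) := by
    induction y using TensorProduct.induction_on with
    | zero => simp
    | tmul a b' =>
      simp only [Algebra.TensorProduct.map_tmul, AlgHom.id_apply, IsScalarTower.coe_toAlgHom',
        MvPolynomial.algebraMap_eq, MvPolynomial.mapAlgHom_apply, MvPolynomial.map_C]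
      rfl
    | add x y hx hy => simp only [map_add, hx, hy]
  rw [← e1, ← e2, ← e3, ← map_mul, ← map_add, h1, h1, map_sub]
  rfl

/-- a polynomial killed by `m` and vanishing at `0` vanishes at `m` -/
lemma eval_eq_zero_of_smul {S : Type u} [CommRing S] [Algebra A S] (E : Polynomial S) (m : A)
    (h1 : m • E = 0) (h0 : E.eval 0 = 0) : E.eval (algebraMap A S m) = 0 := by
  rw [Polynomial.eval_eq_sum_range]
  apply Finset.sum_eq_zero
  intro i _
  rcases Nat.eq_zero_or_pos i with rfl | hi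
  · rw [pow_zero, mul_one, Polynomial.coeff_zero_eq_eval_zero, h0]
  · have h2 : m • E.coeff i = 0 := by
      rw [← Polynomial.coeff_smul, h1, Polynomial.coeff_zero]
    obtain ⟨k, rfl⟩ : ∃ k, i = k + 1 := ⟨i - 1, by omega⟩
    rw [pow_succ, ← mul_assoc, mul_comm (E.coeff (k + 1)), mul_assoc, mul_comm (E.coeff (k+1)),
      ← Algebra.smul_def, h2, mul_zero]

/-- if `m` kills the obstruction polynomial of `b₀` then `m • b₀` lies in the kernel -/
theorem smul_mem_ker (hb : Submodule.span A (Set.range b) = ⊤) (F : B →ₚₗ[A] A) (b₀ : B) (m : A)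
    (h : m • DD b F A ((1 : A) ⊗ₜ[A] b₀) = 0) : m • b₀ ∈ PolLaw.ker F := by
  intro S _ _ x w
  let _ : CommRing S := commRingOfAlg A S
  obtain ⟨rx, rfl⟩ := exists_rep b hb S x
  obtain ⟨rw, rfl⟩ := exists_rep b hb S w
  let rx' : Fin n → Polynomial S := fun i => Polynomial.C (rx i)
  let rw' : Fin n → Polynomial S := fun i => Polynomial.X * Polynomial.C (rw i)
  set E : Polynomial S := MvPolynomial.aeval (Sum.elim rx' rw') (DD b F A ((1 : A) ⊗ₜ[A] b₀)) with hE
  have hspec := DD_spec b F A (Polynomial S) rx' rw' ((1 : A) ⊗ₜ[A] b₀)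
  rw [← hE, Algebra.TensorProduct.map_tmul, map_one, AlgHom.id_apply] at hspec
  have hmE : m • E = 0 := by
    rw [hE, ← map_smul, h, map_zero]
  -- evaluation
  have hev : ∀ s₀ : S, E.eval s₀ = hat F S ((∑ i, rx i ⊗ₜ[A] b i) +
      (s₀ • ∑ i, rw i ⊗ₜ[A] b i) * ((1 : S) ⊗ₜ[A] b₀)) - hat F S (∑ i, rx i ⊗ₜ[A] b i) := by
    intro s₀
    let ev : Polynomial S →ₐ[A] S := (Polynomial.aeval s₀ : Polynomial S →ₐ[S] S).restrictScalars A
    have h1 := hat_map F ev
    have e1 : Algebra.TensorProduct.map ev (AlgHom.id A B) (∑ i, rx' i ⊗ₜ[A] b i) =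
        ∑ i, rx i ⊗ₜ[A] b i := by
      rw [map_sum]
      refine Finset.sum_congr rfl fun i _ => ?_
      rw [Algebra.TensorProduct.map_tmul]
      simp [ev, rx']
    have e2 : Algebra.TensorProduct.map ev (AlgHom.id A B) (∑ i, rw' i ⊗ₜ[A] b i) =
        s₀ • ∑ i, rw i ⊗ₜ[A] b i := by
      rw [map_sum, Finset.smul_sum]
      refine Finset.sum_congr rfl fun i _ => ?_
      rw [Algebra.TensorProduct.map_tmul, TensorProduct.smul_tmul']
      have : ev (rw' i) = s₀ • rw i := by
        show Polynomial.aeval s₀ (Polynomial.X * Polynomial.C (rw i)) = s₀ • rw i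
        rw [map_mul, Polynomial.aeval_X, Polynomial.aeval_C, smul_eq_mul]
        rfl
      rw [this, AlgHom.id_apply]
    have e3 : Algebra.TensorProduct.map ev (AlgHom.id A B) ((1 : Polynomial S) ⊗ₜ[A] b₀) =
        (1 : S) ⊗ₜ[A] b₀ := by
      rw [Algebra.TensorProduct.map_tmul, map_one, AlgHom.id_apply]
    have h2 : E.eval s₀ = ev E := by
      simp [ev, Polynomial.coe_aeval_eq_eval]
    rw [h2, hspec, map_sub, ← h1, ← h1, map_add, map_mul, e1, e2, e3]
  have h0 : E.eval 0 = 0 := by
    rw [hev, zero_smul, zero_mul, add_zero, sub_self]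
  have h3 := eval_eq_zero_of_smul E m hmE h0
  rw [hev, sub_eq_zero] at h3
  have h4 : (algebraMap A S m • ∑ i, rw i ⊗ₜ[A] b i) * ((1 : S) ⊗ₜ[A] b₀) =
      (∑ i, rw i ⊗ₜ[A] b i) * ((1 : S) ⊗ₜ[A] (m • b₀)) := by
    rw [TensorProduct.tmul_smul, algebraMap_smul, smul_mul_assoc, mul_smul_comm]
  rw [h4] at h3
  unfold hat at h3
  exact (TensorProduct.rid A S).injective h3

end Groth.Agent.H9.PLU
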