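import Mathlib
import Groth.Prelude.Def_PolLaw
import Groth.Agent.Lib.Helper9.Misc.PLU2
import Groth.Agent.Lib.Helper9.Misc.PL4

/-! Helper9: S13698 — the kernel of a law on a finite algebra commutes with localisation -/
set_option linter.style.haveILetI false

namespace Groth.Agent.H9.PLU
open scoped TensorProduct
open Groth.Agent.H9.PLR

universe u
variable {A : Type u} [CommRing A] {B : Type u} [CommRing B] [Algebra A B]

/-- a common denominator killing a polynomial whose image in the localisation vanishes -/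
lemma exists_smul_eq_zero {σ : Type*} (M : Submonoid A) (A' : Type u) [CommRing A'] [Algebra A A']
    [IsLocalization M A'] (p : MvPolynomial σ A)
    (hp : MvPolynomial.map (algebraMap A A') p = 0) : ∃ m ∈ M, m • p = 0 := by
  classical
  have h1 : ∀ α : σ →₀ ℕ, ∃ m : M, (m : A) * p.coeff α = 0 := by
    intro α
    have := congrArg (MvPolynomial.coeff α) hp
    rw [MvPolynomial.coeff_map, MvPolynomial.coeff_zero] at this
    exact (IsLocalization.map_eq_zero_iff M A' _).mp this
  choose mm hmm using h1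
  refine ⟨∏ α ∈ p.support, (mm α : A), ?_, ?_⟩
  · exact Submonoid.prod_mem _ (fun α _ => (mm α).2)
  · ext α
    rw [MvPolynomial.coeff_smul, MvPolynomial.coeff_zero, smul_eq_mul]
    by_cases hα : α ∈ p.support
    · rw [← Finset.mul_prod_erase _ _ hα, mul_comm ((mm α : A)), mul_assoc, hmm, mul_zero]
    · rw [MvPolynomial.notMem_support_iff.mp hα, mul_zero]

theorem S13698_main [Module.Finite A B] {d : ℕ} (F : PolLaw.MulLaw A B A d) (M : Submonoid A)
    (A' : Type u) [CommRing A'] [Algebra A A'] [IsLocalization M A'] :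
    (PolLaw.ker F.law).map (Algebra.TensorProduct.includeRight : B →ₐ[A] A' ⊗[A] B) =
      PolLaw.kerBC F.law A' := by
  apply le_antisymm
  · rw [Ideal.map_le_iff_le_comap]
    intro b hb
    exact Groth.Agent.H9.PL4.one_tmul_mem_kerBC F.law A' b hb
  · intro y hy
    obtain ⟨n, b, hb⟩ := Module.Finite.exists_fin (R := A) (M := B)
    obtain ⟨⟨b₀, m⟩, hm⟩ := IsLocalizedModule.surj M (TensorProduct.mk A A' B 1) y
    simp only [TensorProduct.mk_apply] at hm
    have h1 : (1 : A') ⊗ₜ[A] b₀ ∈ PolLaw.kerBC F.law A' := by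
      rw [← hm, Submonoid.smul_def, ← algebraMap_smul A' (m : A) y, Algebra.smul_def]
      exact Ideal.mul_mem_left _ _ hy
    have h2 := DD_of_mem_kerBC b F.law A' _ h1
    have h3 : (1 : A') ⊗ₜ[A] b₀ = Algebra.TensorProduct.map (Algebra.ofId A A') (AlgHom.id A B)
        ((1 : A) ⊗ₜ[A] b₀) := by
      rw [Algebra.TensorProduct.map_tmul, map_one, AlgHom.id_apply]
    rw [h3, ← DD_map] at h2
    obtain ⟨m', hm'M, hm'⟩ := exists_smul_eq_zero M A' _ h2
    have h4 := smul_mem_ker b hb F.law b₀ m' hm'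
    -- `y` is a unit multiple of `1 ⊗ (m' • b₀)`
    have hu : IsUnit (algebraMap A A' (m' * m)) :=
      IsLocalization.map_units A' (⟨m' * m, M.mul_mem hm'M m.2⟩ : M)
    have h5 : algebraMap A A' (m' * m) • y = (1 : A') ⊗ₜ[A] (m' • b₀) := by
      rw [map_mul, mul_smul, algebraMap_smul A' (m : A) y, ← Submonoid.smul_def, hm,
        algebraMap_smul, TensorProduct.tmul_smul]
    obtain ⟨u, hu'⟩ := hu
    have h6 : y = (↑u⁻¹ : A') • ((1 : A') ⊗ₜ[A] (m' • b₀)) := by
      rw [← h5, ← hu', smul_smul, Units.inv_mul, one_smul]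
    rw [h6, Algebra.smul_def]
    apply Ideal.mul_mem_left
    exact Ideal.mem_map_of_mem _ h4

end Groth.Agent.H9.PLU
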