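import Mathlib
import Groth.Prelude.Def_PolLaw
import Groth.Agent.Lib.Helper9.Misc.PLU2

/-! Helper9: S13721 — the kernel of a law on a finite algebra commutes with filtered colimits of the base -/
set_option linter.style.haveILetI false

namespace Groth.Agent.H9.PLU
open scoped TensorProduct
open Groth.Agent.H9.PLR

universe u
variable {A : Type u} [CommRing A] {B : Type u} [CommRing B] [Algebra A B]

/-- functoriality of the base-changed kernel -/
theorem kerBC_map {C : Type u} [CommRing C] [Algebra A C] (F : B →ₚₗ[A] C)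
    {A₁ A₂ : Type u} [CommRing A₁] [Algebra A A₁] [CommRing A₂] [Algebra A A₂] (f : A₁ →ₐ[A] A₂)
    (y : A₁ ⊗[A] B) (hy : y ∈ PolLaw.kerBC F A₁) :
    Algebra.TensorProduct.map f (AlgHom.id A B) y ∈ PolLaw.kerBC F A₂ := by
  intro R _ _ _ _ x w
  letI : Algebra A₁ R := ((algebraMap A₂ R).comp f.toRingHom).toAlgebra
  haveI : IsScalarTower A A₁ R := IsScalarTower.of_algebraMap_eq (fun a => by
    show algebraMap A R a = algebraMap A₂ R (f (algebraMap A A₁ a))
    rw [f.commutes, ← IsScalarTower.algebraMap_apply])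
  have h := hy R x w
  have e : ∀ z : A₁ ⊗[A] B, Algebra.TensorProduct.map (IsScalarTower.toAlgHom A A₂ R) (AlgHom.id A B)
      (Algebra.TensorProduct.map f (AlgHom.id A B) z) =
      Algebra.TensorProduct.map (IsScalarTower.toAlgHom A A₁ R) (AlgHom.id A B) z := by
    intro z
    induction z using TensorProduct.induction_on with
    | zero => simp
    | tmul a b =>
      rw [Algebra.TensorProduct.map_tmul, Algebra.TensorProduct.map_tmul,
        Algebra.TensorProduct.map_tmul]
      rfl
    | add x y hx hy => simp only [map_add, hx, hy]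
  rw [e]
  exact h

section limit
variable {A' : Type u} [CommRing A'] [Algebra A A'] {ι : Type u} [Preorder ι]
  [IsDirected ι (fun i j => i ≤ j)] [Nonempty ι]
  (Ai : ι → Type u) [∀ i, CommRing (Ai i)] [∀ i, Algebra A (Ai i)]
  (t : ∀ i j : ι, i ≤ j → (Ai i →ₐ[A] Ai j)) (φ : ∀ i : ι, Ai i →ₐ[A] A')

include t in
lemma exists_common_lift
    (hcomp : ∀ (i j : ι) (h : i ≤ j), (φ j).comp (t i j h) = φ i)
    (hsurj : ∀ a : A', ∃ (i : ι) (x : Ai i), φ i x = a) {n : ℕ} (c : Fin n → A') :
    ∃ (i : ι) (c' : Fin n → Ai i), ∀ k, φ i (c' k) = c k := by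
  classical
  have key : ∀ s : Finset (Fin n), ∃ i : ι, ∀ k ∈ s, ∃ a : Ai i, φ i a = c k := by
    intro s
    induction s using Finset.induction_on with
    | empty => exact ⟨Classical.arbitrary ι, by simp⟩
    | insert k s _ ih =>
      obtain ⟨i, hi⟩ := ih
      obtain ⟨j, a, ha⟩ := hsurj (c k)
      obtain ⟨l, hil, hjl⟩ := directed_of (fun i j => i ≤ j) i j
      refine ⟨l, ?_⟩
      intro k' hk'
      rcases Finset.mem_insert.mp hk' with rfl | hk'
      · refine ⟨t j l hjl a, ?_⟩
        rw [← ha, ← hcomp j l hjl]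
        rfl
      · obtain ⟨a', ha'⟩ := hi k' hk'
        refine ⟨t i l hil a', ?_⟩
        rw [← ha', ← hcomp i l hil]
        rfl
  obtain ⟨i, hi⟩ := key Finset.univ
  choose c' hc' using fun k => hi k (Finset.mem_univ k)
  exact ⟨i, c', hc'⟩

omit [Nonempty ι] in
lemma exists_map_eq_zero {σ : Type*}
    (hzero : ∀ (i : ι) (x : Ai i), φ i x = 0 → ∃ (j : ι) (h : i ≤ j), t i j h x = 0)
    (htrans : ∀ (i j k : ι) (hij : i ≤ j) (hjk : j ≤ k),
      (t j k hjk).comp (t i j hij) = t i k (hij.trans hjk))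
    (i : ι) (p : MvPolynomial σ (Ai i))
    (hp : MvPolynomial.map (φ i : Ai i →+* A') p = 0) :
    ∃ (j : ι) (h : i ≤ j), MvPolynomial.map (t i j h : Ai i →+* Ai j) p = 0 := by
  classical
  have key : ∀ s : Finset (σ →₀ ℕ), ∃ (j : ι) (h : i ≤ j), ∀ α ∈ s, t i j h (p.coeff α) = 0 := by
    intro s
    induction s using Finset.induction_on with
    | empty => exact ⟨i, le_refl i, by simp⟩
    | insert α s _ ih =>
      obtain ⟨j, hij, hj⟩ := ih
      have h1 : φ i (p.coeff α) = 0 := by
        have := congrArg (MvPolynomial.coeff α) hp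
        rw [MvPolynomial.coeff_map, MvPolynomial.coeff_zero] at this
        exact this
      obtain ⟨j', hij', hj'⟩ := hzero i _ h1
      obtain ⟨l, hjl, hj'l⟩ := directed_of (fun i j => i ≤ j) j j'
      refine ⟨l, hij.trans hjl, ?_⟩
      intro β hβ
      rcases Finset.mem_insert.mp hβ with rfl | hβ
      · have := htrans i j' l hij' hj'l
        have e : t i l (hij.trans hjl) = t i l (hij'.trans hj'l) := rfl
        rw [e, ← this, AlgHom.comp_apply, hj', map_zero]
      · rw [← htrans i j l hij hjl, AlgHom.comp_apply, hj β hβ, map_zero]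
  obtain ⟨j, hij, hj⟩ := key p.support
  refine ⟨j, hij, ?_⟩
  ext α
  rw [MvPolynomial.coeff_map, MvPolynomial.coeff_zero]
  by_cases hα : α ∈ p.support
  · exact hj α hα
  · rw [MvPolynomial.notMem_support_iff.mp hα, map_zero]

theorem S13721_main [Module.Finite A B]
    (hcomp : ∀ (i j : ι) (h : i ≤ j), (φ j).comp (t i j h) = φ i)
    (hsurj : ∀ a : A', ∃ (i : ι) (x : Ai i), φ i x = a)
    (hzero : ∀ (i : ι) (x : Ai i), φ i x = 0 → ∃ (j : ι) (h : i ≤ j), t i j h x = 0)
    (htrans : ∀ (i j k : ι) (hij : i ≤ j) (hjk : j ≤ k),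
      (t j k hjk).comp (t i j hij) = t i k (hij.trans hjk))
    {d : ℕ} (F : PolLaw.MulLaw A B A d) :
    PolLaw.kerBC F.law A' =
      ⨆ i : ι, (PolLaw.kerBC F.law (Ai i)).map (Algebra.TensorProduct.map (φ i) (AlgHom.id A B)) := by
  apply le_antisymm
  · intro y hy
    obtain ⟨n, b, hb⟩ := Module.Finite.exists_fin (R := A) (M := B)
    obtain ⟨c, rfl⟩ := exists_rep b hb A' y
    obtain ⟨i, c', hc'⟩ := exists_common_lift Ai t φ hcomp hsurj c
    set yi : Ai i ⊗[A] B := ∑ k, c' k ⊗ₜ[A] b k with hyi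
    have hyi' : Algebra.TensorProduct.map (φ i) (AlgHom.id A B) yi = ∑ k, c k ⊗ₜ[A] b k := by
      rw [hyi, map_sum]
      refine Finset.sum_congr rfl fun k _ => ?_
      rw [Algebra.TensorProduct.map_tmul, hc', AlgHom.id_apply]
    have h1 := DD_of_mem_kerBC b F.law A' _ hy
    rw [← hyi', ← DD_map] at h1
    obtain ⟨j, hij, hj⟩ := exists_map_eq_zero Ai t φ hzero htrans i _ h1
    rw [DD_map] at hj
    have h2 := mem_kerBC_of_DD b hb F.law (Ai j) _ hj
    have h3 : Algebra.TensorProduct.map (φ j) (AlgHom.id A B)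
        (Algebra.TensorProduct.map (t i j hij) (AlgHom.id A B) yi) =
        Algebra.TensorProduct.map (φ i) (AlgHom.id A B) yi := by
      rw [← hcomp i j hij]
      generalize yi = z
      induction z using TensorProduct.induction_on with
      | zero => simp
      | tmul a b => simp
      | add x y hx hy => simp only [map_add, hx, hy]
    rw [← hyi', ← h3]
    apply Ideal.mem_iSup_of_mem j
    exact Ideal.mem_map_of_mem _ h2
  · apply iSup_le
    intro i
    rw [Ideal.map_le_iff_le_comap]
    intro y hy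
    exact kerBC_map F.law (φ i) y hy

end limit

end Groth.Agent.H9.PLU
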