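import Mathlib
import Groth.Prelude.Def_PolLaw
import Groth.Agent.Lib.Helper9.Misc.PLR1
import Groth.Agent.Lib.Helper9.Misc.PLR3

/-! Helper9: the directional derivative of a polynomial law with target the base ring -/
set_option linter.style.haveILetI false

namespace Groth.Agent.H9.PLV
open scoped TensorProduct
open Groth.Agent.H9.PLR
open Polynomial

universe u
variable {A : Type u} [CommRing A] {B : Type u} [CommRing B] [Algebra A B]

section bcp
variable {S : Type u} [CommRing S] [Algebra A S]

/-- image of a point of `S ⊗ B` in `T ⊗ B` for an `S`-algebra `T` -/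
noncomputable def bcp (T : Type u) [CommRing T] [Algebra A T] [Algebra S T] [IsScalarTower A S T]
    (x : S ⊗[A] B) : T ⊗[A] B :=
  Algebra.TensorProduct.map (IsScalarTower.toAlgHom A S T) (AlgHom.id A B) x

variable {T : Type u} [CommRing T] [Algebra A T] [Algebra S T] [IsScalarTower A S T]
variable {T' : Type u} [CommRing T'] [Algebra A T'] [Algebra S T'] [IsScalarTower A S T']

lemma bcp_add (x y : S ⊗[A] B) : bcp T (x + y) = bcp T x + bcp T y := map_add _ _ _

lemma bcp_mul (x y : S ⊗[A] B) : bcp T (x * y) = bcp T x * bcp T y := map_mul _ _ _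

lemma bcp_smul (s : S) (x : S ⊗[A] B) : bcp T (s • x) = algebraMap S T s • bcp T x := by
  unfold bcp
  induction x using TensorProduct.induction_on with
  | zero => simp
  | tmul a b =>
    rw [TensorProduct.smul_tmul', Algebra.TensorProduct.map_tmul, Algebra.TensorProduct.map_tmul,
      TensorProduct.smul_tmul', smul_eq_mul, smul_eq_mul, map_mul]
    rfl
  | add x y hx hy => rw [smul_add, map_add, map_add, hx, hy, smul_add]

lemma map_smul' {T T' : Type u} [CommRing T] [Algebra A T] [CommRing T'] [Algebra A T']
    (ψ : T →ₐ[A] T') (t : T) (z : T ⊗[A] B) :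
    Algebra.TensorProduct.map ψ (AlgHom.id A B) (t • z) =
      ψ t • Algebra.TensorProduct.map ψ (AlgHom.id A B) z := by
  induction z using TensorProduct.induction_on with
  | zero => simp
  | tmul a b =>
    rw [TensorProduct.smul_tmul', Algebra.TensorProduct.map_tmul, Algebra.TensorProduct.map_tmul,
      TensorProduct.smul_tmul', smul_eq_mul, smul_eq_mul, map_mul]
  | add x y hx hy => rw [smul_add, map_add, map_add, hx, hy, smul_add]

lemma map_bcp (ψ : T →ₐ[S] T') (x : S ⊗[A] B) :
    Algebra.TensorProduct.map (ψ.restrictScalars A) (AlgHom.id A B) (bcp T x) = bcp T' x := by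
  unfold bcp
  induction x using TensorProduct.induction_on with
  | zero => simp
  | tmul a b =>
    rw [Algebra.TensorProduct.map_tmul, Algebra.TensorProduct.map_tmul,
      Algebra.TensorProduct.map_tmul]
    simp
  | add x y hx hy => simp only [map_add, hx, hy]

end bcp

section G
variable (F : B →ₚₗ[A] A) (S : Type u) [CommRing S] [Algebra A S]

/-- `F(x + λ v)` as a polynomial in `λ` -/
noncomputable def GG (x v : S ⊗[A] B) : S[X] :=
  hat F S[X] (bcp S[X] x + (X : S[X]) • bcp S[X] v)

/-- the derivative of `F` at `x` in the direction `v` -/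
noncomputable def dF (x v : S ⊗[A] B) : S := (GG F S x v).coeff 1

/-- images of `GG` under `S`-algebra maps out of `S[X]` -/
lemma GG_aeval {T : Type u} [CommRing T] [Algebra A T] [Algebra S T] [IsScalarTower A S T]
    (t : T) (x v : S ⊗[A] B) :
    Polynomial.aeval t (GG F S x v) = hat F T (bcp T x + t • bcp T v) := by
  unfold GG
  have h := hat_map F ((Polynomial.aeval t : S[X] →ₐ[S] T).restrictScalars A)
    (bcp S[X] x + (X : S[X]) • bcp S[X] v)
  rw [map_add, map_smul', map_bcp, map_bcp] at h
  rw [show ((Polynomial.aeval t : S[X] →ₐ[S] T).restrictScalars A) X = t by simp] at h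
  rw [h]
  rfl

lemma bcp_self (x : S ⊗[A] B) : bcp S x = x := by
  unfold bcp
  induction x using TensorProduct.induction_on with
  | zero => simp
  | tmul a b => simp
  | add x y hx hy => simp only [map_add, hx, hy]

lemma bcp_bcp {T T₂ : Type u} [CommRing T] [Algebra A T] [Algebra S T] [IsScalarTower A S T]
    [CommRing T₂] [Algebra A T₂] [Algebra S T₂] [IsScalarTower A S T₂] [Algebra T T₂]
    [IsScalarTower A T T₂] [IsScalarTower S T T₂] (x : S ⊗[A] B) :
    bcp T₂ (bcp T x) = bcp T₂ x := by
  unfold bcp
  induction x using TensorProduct.induction_on with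
  | zero => simp
  | tmul a b =>
    rw [Algebra.TensorProduct.map_tmul, Algebra.TensorProduct.map_tmul,
      Algebra.TensorProduct.map_tmul]
    simp only [AlgHom.id_apply, IsScalarTower.coe_toAlgHom']
    rw [← IsScalarTower.algebraMap_apply]
  | add x y hx hy => simp only [map_add, hx, hy]

/-- evaluation -/
lemma GG_eval (s₀ : S) (x v : S ⊗[A] B) :
    (GG F S x v).eval s₀ = hat F S (x + s₀ • v) := by
  have := GG_aeval F S s₀ x v
  rw [bcp_self, bcp_self, Polynomial.coe_aeval_eq_eval] at this
  exact this

/-- naturality -/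
lemma GG_map {S' : Type u} [CommRing S'] [Algebra A S'] (ψ : S →ₐ[A] S') (x v : S ⊗[A] B) :
    Polynomial.map (ψ : S →+* S') (GG F S x v) =
      GG F S' (Algebra.TensorProduct.map ψ (AlgHom.id A B) x)
        (Algebra.TensorProduct.map ψ (AlgHom.id A B) v) := by
  unfold GG
  have h := hat_map F (Polynomial.mapAlgHom ψ) (bcp S[X] x + (X : S[X]) • bcp S[X] v)
  have e : ∀ z : S ⊗[A] B, Algebra.TensorProduct.map (Polynomial.mapAlgHom ψ) (AlgHom.id A B)
      (bcp S[X] z) = bcp S'[X] (Algebra.TensorProduct.map ψ (AlgHom.id A B) z) := by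
    intro z
    unfold bcp
    induction z using TensorProduct.induction_on with
    | zero => simp
    | tmul a b =>
      simp only [Algebra.TensorProduct.map_tmul, AlgHom.id_apply, IsScalarTower.coe_toAlgHom',
        Polynomial.algebraMap_apply, Algebra.algebraMap_self_apply]
      rw [Polynomial.coe_mapAlgHom, Polynomial.map_C]
      rfl
    | add x y hx hy => simp only [map_add, hx, hy]
  rw [map_add, map_smul', e, e] at h
  rw [show (Polynomial.mapAlgHom ψ) (X : S[X]) = (X : S'[X]) by simp] at h
  rw [h]
  rfl

lemma dF_map {S' : Type u} [CommRing S'] [Algebra A S'] (ψ : S →ₐ[A] S') (x v : S ⊗[A] B) :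
    ψ (dF F S x v) = dF F S' (Algebra.TensorProduct.map ψ (AlgHom.id A B) x)
        (Algebra.TensorProduct.map ψ (AlgHom.id A B) v) := by
  unfold dF
  rw [← GG_map, Polynomial.coeff_map]
  rfl

/-- homogeneity of the derivative in the direction -/
lemma dF_smul (s : S) (x v : S ⊗[A] B) : dF F S x (s • v) = s * dF F S x v := by
  unfold dF
  have h := GG_aeval F S (C s * X : S[X]) x v
  have e : GG F S x (s • v) = hat F S[X] (bcp S[X] x + (C s * X : S[X]) • bcp S[X] v) := by
    unfold GG
    rw [bcp_smul, smul_smul, mul_comm]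
    rfl
  rw [e, ← h]
  have h2 : Polynomial.aeval (C s * X : S[X]) (GG F S x v) = (GG F S x v).comp (C s * X) := rfl
  rw [h2, Polynomial.comp_C_mul_X_coeff, pow_one, mul_comm]

end G

end Groth.Agent.H9.PLV
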