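import Mathlib
import Groth.Prelude.Def_PolLaw
import Groth.Agent.Lib.Helper9.Misc.PLV1

/-! Helper9: additivity of the directional derivative of a law and the derivative of `F(x + λ v)` -/
set_option linter.style.haveILetI false

namespace Groth.Agent.H9.PLV
open scoped TensorProduct
open Groth.Agent.H9.PLR
open Polynomial

universe u
variable {A : Type u} [CommRing A] {B : Type u} [CommRing B] [Algebra A B]
variable (F : B →ₚₗ[A] A) (S : Type u) [CommRing S] [Algebra A S]

lemma coeff_one_eval_X (H : S[X][X]) :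
    (H.eval (X : S[X])).coeff 1 = (H.coeff 0).coeff 1 + (H.coeff 1).coeff 0 := by
  rw [Polynomial.eval_eq_sum_range, Polynomial.finsetSum_coeff]
  have h : ∀ j ∈ Finset.range (H.natDegree + 1), (H.coeff j * (X : S[X]) ^ j).coeff 1 =
      if j = 0 then (H.coeff 0).coeff 1 else if j = 1 then (H.coeff 1).coeff 0 else 0 := by
    intro j _
    rw [Polynomial.coeff_mul_X_pow']
    rcases j with _ | _ | j
    · simp
    · simp
    · simp
  rw [Finset.sum_congr rfl h]
  by_cases h0 : H.natDegree = 0
  · have h1 : H.coeff 1 = 0 := Polynomial.coeff_eq_zero_of_natDegree_lt (by omega)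
    rw [h0, Finset.sum_range_one, if_pos rfl, h1, Polynomial.coeff_zero, add_zero]
  · have : H.natDegree + 1 = (H.natDegree - 1) + 2 := by omega
    rw [this, Finset.sum_range_succ', Finset.sum_range_succ']
    simp [add_comm]

/-- the two-parameter family -/
lemma dF_add (x v v' : S ⊗[A] B) :
    dF F S x (v + v') = dF F S x v + dF F S x v' := by
  set x₁ : S[X] ⊗[A] B := bcp S[X] x + (X : S[X]) • bcp S[X] v with hx₁
  set H : S[X][X] := GG F S[X] x₁ (bcp S[X] v') with hH
  -- (a)
  have ha : H.coeff 0 = GG F S x v := by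
    rw [Polynomial.coeff_zero_eq_eval_zero, hH, GG_eval, zero_smul, add_zero]
    rfl
  -- (c)
  have hc : H.eval (X : S[X]) = GG F S x (v + v') := by
    rw [hH, GG_eval, hx₁, add_assoc, ← smul_add, ← bcp_add]
    rfl
  -- (b)
  have hb : (H.coeff 1).coeff 0 = dF F S x v' := by
    have h1 := dF_map F S[X] ((Polynomial.aeval (0 : S) : S[X] →ₐ[S] S).restrictScalars A) x₁
      (bcp S[X] v')
    rw [hx₁, map_add, map_smul', map_bcp, map_bcp, map_bcp, bcp_self, bcp_self, bcp_self] at h1
    have h2 : ((Polynomial.aeval (0 : S) : S[X] →ₐ[S] S).restrictScalars A) (X : S[X]) = 0 := by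
      simp
    rw [h2, zero_smul, add_zero] at h1
    rw [← h1, Polynomial.coeff_zero_eq_eval_zero]
    simp [dF, hH, hx₁, Polynomial.coe_aeval_eq_eval]
  have hmain := coeff_one_eval_X S H
  rw [hc, ha, hb] at hmain
  exact hmain

/-- the derivative of `λ ↦ F(x + λ v)` -/
lemma derivative_GG (x v : S ⊗[A] B) :
    Polynomial.derivative (GG F S x v) =
      dF F S[X] (bcp S[X] x + (X : S[X]) • bcp S[X] v) (bcp S[X] v) := by
  unfold dF
  set x₁ : S[X] ⊗[A] B := bcp S[X] x + (X : S[X]) • bcp S[X] v with hx₁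
  have h1 : GG F S[X] x₁ (bcp S[X] v) =
      Polynomial.aeval (C (X : S[X]) + (X : S[X][X])) (GG F S x v) := by
    rw [GG_aeval]
    unfold GG
    rw [hx₁, bcp_add, bcp_smul, bcp_bcp, bcp_bcp, add_assoc, ← add_smul]
    rfl
  have h2 : Polynomial.aeval (C (X : S[X]) + (X : S[X][X])) (GG F S x v) =
      Polynomial.taylor (X : S[X]) ((GG F S x v).map C) := by
    rw [Polynomial.taylor_apply, Polynomial.comp, Polynomial.eval₂_map, add_comm]
    rfl
  rw [h1, h2, Polynomial.taylor_coeff_one, Polynomial.derivative_map, Polynomial.eval_map,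
    Polynomial.eval₂_C_X]

/-- vanishing derivative implies the law does not move, in characteristic zero -/
lemma hat_add_eq_of_dF [IsAddTorsionFree S] (x v : S ⊗[A] B)
    (h : dF F S[X] (bcp S[X] x + (X : S[X]) • bcp S[X] v) (bcp S[X] v) = 0) :
    hat F S (x + v) = hat F S x := by
  have h1 := derivative_GG F S x v
  rw [h] at h1
  have h2 := Polynomial.eq_C_of_derivative_eq_zero h1
  have h3 := GG_eval F S 1 x v
  have h4 := GG_eval F S 0 x v
  rw [one_smul] at h3
  rw [zero_smul, add_zero] at h4
  rw [← h3, ← h4, h2, Polynomial.eval_C, Polynomial.eval_C]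

end Groth.Agent.H9.PLV
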