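import Mathlib
import Groth.Prelude.Def_PolLaw
import Groth.Agent.Lib.Helper9.Misc.PLV2
import Groth.Agent.Lib.Helper9.Misc.PLU2
import Groth.Agent.Lib.Helper9.Misc.PL4

/-! Helper9: the universal derivative of a law on a finite algebra -/
set_option linter.style.haveILetI false

namespace Groth.Agent.H9.PLV
open scoped TensorProduct
open Groth.Agent.H9.PLR Groth.Agent.H9.PLU

universe u
variable {A : Type u} [CommRing A] {B : Type u} [CommRing B] [Algebra A B]
variable {n : ℕ} (b : Fin n → B) (F : B →ₚₗ[A] A)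

/-- the universal derivative: `dF` at `U_x` in the direction `U_w · y` -/
noncomputable def ell (A' : Type u) [CommRing A'] [Algebra A A'] (y : A' ⊗[A] B) :
    MvPolynomial (Fin n ⊕ Fin n) A' :=
  dF F (MvPolynomial (Fin n ⊕ Fin n) A') (Ux b A')
    (Uw b A' * bcp (MvPolynomial (Fin n ⊕ Fin n) A') y)

section
variable (A' : Type u) [CommRing A'] [Algebra A A']

lemma dF_zero (S : Type u) [CommRing S] [Algebra A S] (x : S ⊗[A] B) : dF F S x 0 = 0 := by
  have := dF_smul F S 0 x 0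
  rwa [zero_smul, zero_mul] at this

lemma ell_zero : ell b F A' 0 = 0 := by
  unfold ell
  have : bcp (MvPolynomial (Fin n ⊕ Fin n) A') (0 : A' ⊗[A] B) = 0 := map_zero _
  rw [this, mul_zero, dF_zero]

lemma ell_add (y y' : A' ⊗[A] B) : ell b F A' (y + y') = ell b F A' y + ell b F A' y' := by
  unfold ell
  rw [bcp_add, mul_add, dF_add]

lemma ell_tmul (a : A') (b₀ : B) :
    ell b F A' (a ⊗ₜ[A] b₀) = MvPolynomial.C a * ell b F A' ((1 : A') ⊗ₜ[A] b₀) := by
  unfold ell
  have : bcp (MvPolynomial (Fin n ⊕ Fin n) A') (a ⊗ₜ[A] b₀) =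
      (MvPolynomial.C a : MvPolynomial (Fin n ⊕ Fin n) A') •
        bcp (MvPolynomial (Fin n ⊕ Fin n) A') ((1 : A') ⊗ₜ[A] b₀) := by
    rw [← MvPolynomial.algebraMap_eq, ← bcp_smul, TensorProduct.smul_tmul', smul_eq_mul, mul_one]
  rw [this, mul_smul_comm, dF_smul]

/-- elements of the base-changed kernel have vanishing universal derivative -/
lemma ell_of_mem_kerBC (y : A' ⊗[A] B) (hy : y ∈ PolLaw.kerBC F A') : ell b F A' y = 0 := by
  unfold ell dF
  have h1 : GG F (MvPolynomial (Fin n ⊕ Fin n) A') (Ux b A')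
      (Uw b A' * bcp (MvPolynomial (Fin n ⊕ Fin n) A') y) =
      GG F (MvPolynomial (Fin n ⊕ Fin n) A') (Ux b A') 0 := by
    unfold GG
    have e0 : bcp (Polynomial (MvPolynomial (Fin n ⊕ Fin n) A'))
        (0 : MvPolynomial (Fin n ⊕ Fin n) A' ⊗[A] B) = 0 := map_zero _
    rw [e0, smul_zero, add_zero, bcp_mul, bcp_bcp, ← smul_mul_assoc]
    unfold hat
    congr 1
    exact hy (Polynomial (MvPolynomial (Fin n ⊕ Fin n) A')) _ _
  rw [h1]
  exact dF_zero F _ _

end

lemma map_Ux' (A' : Type u) [CommRing A'] [Algebra A A'] :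
    Algebra.TensorProduct.map (MvPolynomial.mapAlgHom (σ := Fin n ⊕ Fin n) (Algebra.ofId A A'))
      (AlgHom.id A B) (Ux b A) = Ux b A' := by
  unfold Ux
  rw [map_sum]
  refine Finset.sum_congr rfl fun i _ => ?_
  rw [Algebra.TensorProduct.map_tmul]
  simp

lemma map_Uw' (A' : Type u) [CommRing A'] [Algebra A A'] :
    Algebra.TensorProduct.map (MvPolynomial.mapAlgHom (σ := Fin n ⊕ Fin n) (Algebra.ofId A A'))
      (AlgHom.id A B) (Uw b A) = Uw b A' := by
  unfold Uw
  rw [map_sum]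
  refine Finset.sum_congr rfl fun i _ => ?_
  rw [Algebra.TensorProduct.map_tmul]
  simp

lemma bcp_one_tmul {S : Type u} [CommRing S] [Algebra A S] (T : Type u) [CommRing T] [Algebra A T]
    [Algebra S T] [IsScalarTower A S T] (b₀ : B) :
    bcp T ((1 : S) ⊗ₜ[A] b₀) = (1 : T) ⊗ₜ[A] b₀ := by
  unfold bcp
  rw [Algebra.TensorProduct.map_tmul, map_one, AlgHom.id_apply]

/-- base change of the universal derivative -/
lemma ell_map (A' : Type u) [CommRing A'] [Algebra A A'] (b₀ : B) :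
    ell b F A' ((1 : A') ⊗ₜ[A] b₀) =
      MvPolynomial.map (algebraMap A A') (ell b F A ((1 : A) ⊗ₜ[A] b₀)) := by
  unfold ell
  have h := dF_map F (MvPolynomial (Fin n ⊕ Fin n) A)
    (MvPolynomial.mapAlgHom (σ := Fin n ⊕ Fin n) (Algebra.ofId A A')) (Ux b A)
    (Uw b A * bcp (MvPolynomial (Fin n ⊕ Fin n) A) ((1 : A) ⊗ₜ[A] b₀))
  rw [map_mul, map_Ux', map_Uw', bcp_one_tmul, Algebra.TensorProduct.map_tmul, map_one,
    AlgHom.id_apply] at h
  rw [bcp_one_tmul, ← h]
  rfl

end Groth.Agent.H9.PLV
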