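import Mathlib
import Groth.Prelude.Def_PolLaw
import Groth.Agent.Lib.Helper9.Misc.PLV3

/-! Helper9: S13701 — over a Q-algebra the kernel of a law on a finite algebra commutes with flat base change -/
set_option linter.style.haveILetI false

namespace Groth.Agent.H9.PLV
open scoped TensorProduct
open Groth.Agent.H9.PLR Groth.Agent.H9.PLU

universe u
variable {A : Type u} [CommRing A] {B : Type u} [CommRing B] [Algebra A B]
variable {n : ℕ} (b : Fin n → B) (F : B →ₚₗ[A] A)

/-- in characteristic zero, vanishing of the universal derivative at `b₀` puts `b₀` in the kernel -/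
theorem mem_ker_of_ell [Algebra ℚ A] (hb : Submodule.span A (Set.range b) = ⊤) (b₀ : B)
    (h : ell b F A ((1 : A) ⊗ₜ[A] b₀) = 0) : b₀ ∈ PolLaw.ker F := by
  intro S _ _ x w
  let _ : CommRing S := commRingOfAlg A S
  letI : Module ℚ S := Module.compHom S (algebraMap ℚ A)
  haveI : IsAddTorsionFree S := IsAddTorsionFree.of_module_rat S
  set v : S ⊗[A] B := w * (1 : S) ⊗ₜ[A] b₀ with hv
  have key : dF F (Polynomial S) (bcp (Polynomial S) x + (Polynomial.X : Polynomial S) •
      bcp (Polynomial S) v) (bcp (Polynomial S) v) = 0 := by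
    obtain ⟨rx, hrx⟩ := exists_rep b hb (Polynomial S)
      (bcp (Polynomial S) x + (Polynomial.X : Polynomial S) • bcp (Polynomial S) v)
    obtain ⟨rw, hrw⟩ := exists_rep b hb (Polynomial S) (bcp (Polynomial S) w)
    have h1 := dF_map F (MvPolynomial (Fin n ⊕ Fin n) A)
      ((MvPolynomial.aeval (Sum.elim rx rw) :
        MvPolynomial (Fin n ⊕ Fin n) A →ₐ[A] Polynomial S).restrictScalars A) (Ux b A)
      (Uw b A * bcp (MvPolynomial (Fin n ⊕ Fin n) A) ((1 : A) ⊗ₜ[A] b₀))
    rw [map_mul, map_Ux, map_Uw, bcp_one_tmul, Algebra.TensorProduct.map_tmul, map_one,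
      AlgHom.id_apply, ← hrx, ← hrw] at h1
    have h2 : dF F (MvPolynomial (Fin n ⊕ Fin n) A) (Ux b A)
      (Uw b A * bcp (MvPolynomial (Fin n ⊕ Fin n) A) ((1 : A) ⊗ₜ[A] b₀)) = 0 := h
    rw [bcp_one_tmul] at h2
    rw [h2, map_zero] at h1
    have hbv : bcp (Polynomial S) v = bcp (Polynomial S) w * (1 : Polynomial S) ⊗ₜ[A] b₀ := by
      rw [hv, bcp_mul, bcp_one_tmul]
    rw [hbv] at h1 ⊢
    exact h1.symm
  have h3 := hat_add_eq_of_dF F S x v key
  unfold hat at h3
  exact (TensorProduct.rid A S).injective h3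

/-- the universal derivative as a linear map on `B` -/
noncomputable def ellLin : B →ₗ[A] MvPolynomial (Fin n ⊕ Fin n) A where
  toFun b₀ := ell b F A ((1 : A) ⊗ₜ[A] b₀)
  map_add' x y := by rw [TensorProduct.tmul_add, ell_add]
  map_smul' a x := by
    rw [TensorProduct.tmul_smul, TensorProduct.smul_tmul', smul_eq_mul, mul_one, ell_tmul,
      RingHom.id_apply, MvPolynomial.smul_eq_C_mul]

lemma ellLin_apply (b₀ : B) : ellLin b F b₀ = ell b F A ((1 : A) ⊗ₜ[A] b₀) := rfl

lemma ell_eq (A' : Type u) [CommRing A'] [Algebra A A'] (y : A' ⊗[A] B) :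
    MvPolynomial.algebraTensorAlgEquiv A A' ((ellLin b F).lTensor A' y) = ell b F A' y := by
  induction y using TensorProduct.induction_on with
  | zero => rw [map_zero, map_zero, ell_zero]
  | tmul a b₀ =>
    rw [LinearMap.lTensor_tmul, MvPolynomial.algebraTensorAlgEquiv_tmul, ellLin_apply, ← ell_map,
      ell_tmul b F A' a, MvPolynomial.smul_eq_C_mul]
  | add x y hx hy => rw [map_add, map_add, hx, hy, ell_add]

theorem S13701_main [Algebra ℚ A] [Module.Finite A B] {d : ℕ} (F : PolLaw.MulLaw A B A d)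
    (A' : Type u) [CommRing A'] [Algebra A A'] [Module.Flat A A'] :
    (PolLaw.ker F.law).map (Algebra.TensorProduct.includeRight : B →ₐ[A] A' ⊗[A] B) =
      PolLaw.kerBC F.law A' := by
  apply le_antisymm
  · rw [Ideal.map_le_iff_le_comap]
    intro b hb
    exact Groth.Agent.H9.PL4.one_tmul_mem_kerBC F.law A' b hb
  · intro y hy
    obtain ⟨n, b, hb⟩ := Module.Finite.exists_fin (R := A) (M := B)
    have h1 := ell_of_mem_kerBC b F.law A' y hy
    rw [← ell_eq] at h1
    have h2 : (ellLin b F.law).lTensor A' y = 0 := by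
      have := (MvPolynomial.algebraTensorAlgEquiv A A').injective
        (h1.trans (map_zero (MvPolynomial.algebraTensorAlgEquiv A A')).symm)
      exact this
    have hex := Module.Flat.lTensor_exact A' (LinearMap.exact_subtype_ker_map (ellLin b F.law))
    obtain ⟨z, hz⟩ := (hex y).mp h2
    rw [← hz]
    clear hz h2 h1 hy
    -- every element of `A' ⊗ ker ℓ` maps into the extended ideal
    induction z using TensorProduct.induction_on with
    | zero => rw [map_zero]; exact Ideal.zero_mem _
    | tmul a k =>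
      rw [LinearMap.lTensor_tmul, Submodule.subtype_apply]
      have hk : (k : B) ∈ PolLaw.ker F.law := by
        apply mem_ker_of_ell b F.law hb
        exact k.2
      have : a ⊗ₜ[A] (k : B) = (a ⊗ₜ[A] (1 : B)) * ((1 : A') ⊗ₜ[A] (k : B)) := by
        rw [Algebra.TensorProduct.tmul_mul_tmul, mul_one, one_mul]
      rw [this]
      exact Ideal.mul_mem_left _ _ (Ideal.mem_map_of_mem _ hk)
    | add x y hx hy =>
      rw [map_add]
      exact Ideal.add_mem _ hx hy

end Groth.Agent.H9.PLV
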