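import Mathlib
import Groth.Prelude.Def_PolLaw
import Groth.Agent.Lib.Helper9.Misc.PLV1

/-! Helper9: the full polarisation of a polynomial law is multilinear -/
set_option linter.style.haveILetI false

namespace Groth.Agent.H9.PLW
open scoped TensorProduct
open Groth.Agent.H9.PLR Groth.Agent.H9.PLV
open MvPolynomial

universe u
variable {A : Type u} [CommRing A] {B : Type u} [CommRing B] [Algebra A B]

section monomials
variable (S : Type u) [CommRing S] {σ : Type} [Fintype σ] [DecidableEq σ]

/-- the multilinear exponent `(1, …, 1)` -/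
noncomputable def m₁ (σ : Type) [Fintype σ] : σ →₀ ℕ := Finsupp.equivFunOnFinite.symm (fun _ => 1)

omit [DecidableEq σ] in
@[simp] lemma m₁_apply (i : σ) : m₁ σ i = 1 := rfl

/-- substitution `v ↦ X_l`, `u_i ↦ X_i` -/
noncomputable def fb (l : σ) : Option σ → MvPolynomial σ S := fun o => o.elim (X l) X

/-- substitution `v ↦ 0`, `u_i ↦ X_i` -/
noncomputable def fa : Option σ → MvPolynomial σ S := fun o => o.elim 0 X

/-- substitution `v ↦ X_l`, `u_l ↦ 0`, `u_i ↦ X_i` -/
noncomputable def fc (l : σ) : Option σ → MvPolynomial σ S :=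
  fun o => o.elim (X l) (fun i => if i = l then 0 else X i)

omit [Fintype σ] [DecidableEq σ] in
lemma X_pow_mul_monomial (l : σ) (k : ℕ) (β' : σ →₀ ℕ) :
    (X l : MvPolynomial σ S) ^ k * monomial β' 1 = monomial (β' + Finsupp.single l k) 1 := by
  rw [X_pow_eq_monomial, monomial_mul, mul_one, add_comm]

omit [Fintype σ] [DecidableEq σ] in
lemma prod_X_pow (β' : σ →₀ ℕ) : (β'.prod fun a k => (X a : MvPolynomial σ S) ^ k) = monomial β' 1 := by
  rw [monomial_eq, C_1, one_mul]

omit [Fintype σ] [DecidableEq σ] in
lemma aeval_fb_monomial (l : σ) (β : Option σ →₀ ℕ) :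
    aeval (fb S l) (monomial β (1 : S)) = monomial (β.some + Finsupp.single l (β none)) 1 := by
  rw [aeval_monomial, map_one, one_mul, Finsupp.prod_option_index _ _ (fun _ => pow_zero _)
    (fun _ _ _ => pow_add _ _ _)]
  simp only [fb, Option.elim_none, Option.elim_some]
  rw [prod_X_pow, X_pow_mul_monomial]

omit [Fintype σ] [DecidableEq σ] in
lemma aeval_fa_monomial (β : Option σ →₀ ℕ) :
    aeval (fa S) (monomial β (1 : S)) = if β none = 0 then monomial β.some 1 else 0 := by
  rw [aeval_monomial, map_one, one_mul, Finsupp.prod_option_index _ _ (fun _ => pow_zero _)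
    (fun _ _ _ => pow_add _ _ _)]
  simp only [fa, Option.elim_none, Option.elim_some]
  split_ifs with h
  · rw [h, pow_zero, one_mul, prod_X_pow]
  · rw [zero_pow h, zero_mul]

omit [Fintype σ] in
lemma aeval_fc_monomial (l : σ) (β : Option σ →₀ ℕ) :
    aeval (fc S l) (monomial β (1 : S)) =
      if β.some l = 0 then monomial (β.some + Finsupp.single l (β none)) 1 else 0 := by
  rw [aeval_monomial, map_one, one_mul, Finsupp.prod_option_index _ _ (fun _ => pow_zero _)
    (fun _ _ _ => pow_add _ _ _)]
  simp only [fc, Option.elim_none, Option.elim_some]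
  split_ifs with h
  · have : (β.some.prod fun a k => (if a = l then (0 : MvPolynomial σ S) else X a) ^ k) =
        monomial β.some 1 := by
      rw [monomial_eq, C_1, one_mul, Finsupp.prod, Finsupp.prod]
      refine Finset.prod_congr rfl fun i hi => ?_
      have : i ≠ l := by
        rintro rfl
        exact (Finsupp.mem_support_iff.mp hi) h
      rw [if_neg this]
    rw [this, X_pow_mul_monomial]
  · rw [Finsupp.prod, Finset.prod_eq_zero (Finsupp.mem_support_iff.mpr h), mul_zero]
    rw [if_pos rfl, zero_pow h]

/-- the functional identity behind additivity of the polarisation -/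
lemma lcoeff_identity (l : σ) :
    (lcoeff S (m₁ σ)) ∘ₗ (aeval (fb S l)).toLinearMap =
      (lcoeff S (m₁ σ)) ∘ₗ (aeval (fa S)).toLinearMap +
        (lcoeff S (m₁ σ)) ∘ₗ (aeval (fc S l)).toLinearMap := by
  refine MvPolynomial.linearMap_ext fun β => LinearMap.ext_ring ?_
  simp only [LinearMap.coe_comp, Function.comp_apply, AlgHom.toLinearMap_apply, LinearMap.add_apply]
  rw [aeval_fb_monomial, aeval_fa_monomial, aeval_fc_monomial]
  simp only [lcoeff, LinearMap.coe_mk, AddHom.coe_mk, Finsupp.some_apply]
  by_cases hm : β.some + Finsupp.single l (β none) = m₁ σ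
  · have hl := DFunLike.congr_fun hm l
    simp only [Finsupp.add_apply, Finsupp.single_eq_same, m₁_apply, Finsupp.some_apply] at hl
    by_cases h0 : β none = 0
    · have h1 : β (some l) ≠ 0 := by omega
      have h2 : β.some = m₁ σ := by rw [← hm, h0]; simp
      simp [h0, h1, h2]
    · have h1 : β (some l) = 0 := by omega
      simp [hm, h0, h1]
  · by_cases h0 : β none = 0
    · have h2 : β.some ≠ m₁ σ := by
        intro h; apply hm; rw [h0]; simpa using h
      by_cases h1 : β (some l) = 0
      · simp [h0, h1, coeff_monomial, h2]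
      · simp [h0, h1, coeff_monomial, h2]
    · by_cases h1 : β (some l) = 0
      · simp [hm, h0, h1, coeff_monomial]
      · simp [hm, h0, h1, coeff_monomial]

/-- substitution `u_l ↦ r u_l` -/
noncomputable def fr (l : σ) (r : S) : σ → MvPolynomial σ S :=
  fun i => if i = l then C r * X l else X i

omit [Fintype σ] in
lemma aeval_fr_monomial (l : σ) (r : S) (β : σ →₀ ℕ) :
    aeval (fr S l r) (monomial β (1 : S)) = C (r ^ β l) * monomial β 1 := by
  rw [aeval_monomial, map_one, one_mul]
  have h1 : ∀ i, fr S l r i = (if i = l then C r else 1) * X i := by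
    intro i
    unfold fr
    split_ifs with h
    · rw [h]
    · rw [one_mul]
  simp only [h1, mul_pow]
  rw [Finsupp.prod_mul, prod_X_pow]
  congr 1
  rw [Finsupp.prod]
  have h2 : ∀ i ∈ β.support, (if i = l then (C r : MvPolynomial σ S) else 1) ^ β i =
      if i = l then C (r ^ β l) else 1 := by
    intro i _
    split_ifs with h
    · rw [h, map_pow]
    · rw [one_pow]
  rw [Finset.prod_congr rfl h2, Finset.prod_ite_eq']
  split_ifs with h
  · rfl
  · rw [Finsupp.notMem_support_iff.mp h, pow_zero, map_one]

lemma lcoeff_fr (l : σ) (r : S) :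
    (lcoeff S (m₁ σ)) ∘ₗ (aeval (fr S l r)).toLinearMap = r • lcoeff S (m₁ σ) := by
  refine MvPolynomial.linearMap_ext fun β => LinearMap.ext_ring ?_
  simp only [LinearMap.coe_comp, Function.comp_apply, AlgHom.toLinearMap_apply, LinearMap.smul_apply]
  rw [aeval_fr_monomial]
  simp only [lcoeff, LinearMap.coe_mk, AddHom.coe_mk, coeff_C_mul, coeff_monomial]
  split_ifs with h
  · rw [h, m₁_apply, pow_one, smul_eq_mul]
  · simp

end monomials


section law
variable {C : Type u} [AddCommGroup C] [Module A C] (F : B →ₚₗ[A] C)
variable (S : Type u) [CommRing S] [Algebra A S] {σ : Type} [Fintype σ] [DecidableEq σ]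

/-- generic combination `∑ X_k p_k` -/
noncomputable def gen {κ : Type} [Fintype κ] (p : κ → S ⊗[A] B) : MvPolynomial κ S ⊗[A] B :=
  ∑ k, (X k : MvPolynomial κ S) • bcp (MvPolynomial κ S) (p k)

/-- coefficient extraction -/
noncomputable def cf {κ : Type} (m : κ →₀ ℕ) : MvPolynomial κ S ⊗[A] C →ₗ[A] S ⊗[A] C :=
  ((lcoeff S m).restrictScalars A).rTensor C

/-- the polarisation of `F` over `S` -/
noncomputable def RR (p : σ → S ⊗[A] B) : S ⊗[A] C :=
  cf S (m₁ σ) (F.toFun' (MvPolynomial σ S) (gen S p))

omit [Fintype σ] [DecidableEq σ] in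
/-- image of the generic combination under a substitution -/
lemma map_gen {κ : Type} [Fintype κ] (f : κ → MvPolynomial σ S) (r : κ → S ⊗[A] B) :
    Algebra.TensorProduct.map ((aeval f : MvPolynomial κ S →ₐ[S] MvPolynomial σ S).restrictScalars A)
      (AlgHom.id A B) (gen S r) = ∑ k, f k • bcp (MvPolynomial σ S) (r k) := by
  rw [gen, map_sum]
  refine Finset.sum_congr rfl fun k _ => ?_
  rw [map_smul', map_bcp]
  congr 1
  simp

omit [Fintype σ] [DecidableEq σ] in
/-- coefficient of the value at a substituted point -/
lemma cf_map {κ : Type} [Fintype κ] (f : κ → MvPolynomial σ S) (z : MvPolynomial κ S ⊗[A] B)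
    (m : σ →₀ ℕ) :
    cf S m (F.toFun' (MvPolynomial σ S)
      (Algebra.TensorProduct.map ((aeval f : MvPolynomial κ S →ₐ[S] MvPolynomial σ S).restrictScalars A)
        (AlgHom.id A B) z)) =
    (((lcoeff S m) ∘ₗ (aeval f : MvPolynomial κ S →ₐ[S] MvPolynomial σ S).toLinearMap).restrictScalars A).rTensor C
      (F.toFun' (MvPolynomial κ S) z) := by
  rw [← rTensor_eq_map, ← PolynomialLaw.isCompat_apply', cf, ← LinearMap.comp_apply,
    ← LinearMap.rTensor_comp]
  rfl

lemma gen_update (p : σ → S ⊗[A] B) (l : σ) (z : S ⊗[A] B) :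
    gen S (Function.update p l z) = (X l : MvPolynomial σ S) • bcp (MvPolynomial σ S) z +
      ∑ i ∈ Finset.univ.erase l, (X i : MvPolynomial σ S) • bcp (MvPolynomial σ S) (p i) := by
  rw [gen, ← Finset.add_sum_erase Finset.univ _ (Finset.mem_univ l), Function.update_self]
  congr 1
  refine Finset.sum_congr rfl fun i hi => ?_
  rw [Function.update_of_ne (Finset.ne_of_mem_erase hi)]

/-- additivity of the polarisation in each slot -/
lemma RR_update_add (p : σ → S ⊗[A] B) (l : σ) (q q' : S ⊗[A] B) :
    RR F S (Function.update p l (q + q')) =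
      RR F S (Function.update p l q) + RR F S (Function.update p l q') := by
  set r : Option σ → S ⊗[A] B := fun o => o.elim q' (Function.update p l q) with hr
  have hb : gen S (Function.update p l (q + q')) =
      Algebra.TensorProduct.map ((aeval (fb S l) : MvPolynomial (Option σ) S →ₐ[S] MvPolynomial σ S).restrictScalars A)
        (AlgHom.id A B) (gen S r) := by
    rw [map_gen, Fintype.sum_option]
    simp only [fb, hr, Option.elim_none, Option.elim_some]
    rw [← gen, gen_update, gen_update, bcp_add, smul_add]
    abel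
  have ha : gen S (Function.update p l q) =
      Algebra.TensorProduct.map ((aeval (fa S) : MvPolynomial (Option σ) S →ₐ[S] MvPolynomial σ S).restrictScalars A)
        (AlgHom.id A B) (gen S r) := by
    rw [map_gen, Fintype.sum_option]
    simp only [fa, hr, Option.elim_none, Option.elim_some]
    rw [zero_smul, zero_add, ← gen]
  have hc : gen S (Function.update p l q') =
      Algebra.TensorProduct.map ((aeval (fc S l) : MvPolynomial (Option σ) S →ₐ[S] MvPolynomial σ S).restrictScalars A)
        (AlgHom.id A B) (gen S r) := by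
    rw [map_gen, Fintype.sum_option]
    simp only [fc, hr, Option.elim_none, Option.elim_some]
    rw [gen_update]
    congr 1
    rw [← Finset.sum_erase Finset.univ (a := l) (by simp)]
    refine Finset.sum_congr rfl fun i hi => ?_
    have hil : i ≠ l := Finset.ne_of_mem_erase hi
    rw [if_neg hil, Function.update_of_ne hil]
  rw [RR, RR, RR, hb, ha, hc, cf_map, cf_map, cf_map, lcoeff_identity]
  rw [LinearMap.restrictScalars_add, LinearMap.rTensor_add, LinearMap.add_apply]


omit [Fintype σ] [DecidableEq σ] in
lemma rTensor_smul_restrict {T : Type u} [CommRing T] [Algebra A T] [Algebra S T] [IsScalarTower A S T]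
    (ℓ : T →ₗ[S] S) (s : S) (w : T ⊗[A] C) :
    ((s • ℓ).restrictScalars A).rTensor C w = s • (ℓ.restrictScalars A).rTensor C w := by
  induction w using TensorProduct.induction_on with
  | zero => simp
  | tmul x c =>
    rw [LinearMap.rTensor_tmul, LinearMap.rTensor_tmul, TensorProduct.smul_tmul']
    rfl
  | add x y hx hy => rw [map_add, map_add, hx, hy, smul_add]

/-- homogeneity of the polarisation in each slot -/
lemma RR_update_smul (p : σ → S ⊗[A] B) (l : σ) (s : S) (q : S ⊗[A] B) :
    RR F S (Function.update p l (s • q)) = s • RR F S (Function.update p l q) := by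
  have hb : gen S (Function.update p l (s • q)) =
      Algebra.TensorProduct.map ((aeval (fr S l s) : MvPolynomial σ S →ₐ[S] MvPolynomial σ S).restrictScalars A)
        (AlgHom.id A B) (gen S (Function.update p l q)) := by
    rw [map_gen, gen_update, ← Finset.add_sum_erase Finset.univ _ (Finset.mem_univ l)]
    simp only [fr, if_true, Function.update_self]
    rw [bcp_smul, smul_smul, mul_comm]
    congr 1
    refine Finset.sum_congr rfl fun i hi => ?_
    have hil : i ≠ l := Finset.ne_of_mem_erase hi
    rw [if_neg hil, Function.update_of_ne hil]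
  rw [RR, RR, hb, cf_map, lcoeff_fr, rTensor_smul_restrict]
  rfl

omit [DecidableEq σ] in
/-- the polarisation as an `S`-multilinear map -/
noncomputable def RRm : MultilinearMap S (fun _ : σ => S ⊗[A] B) (S ⊗[A] C) where
  toFun := RR F S
  map_update_add' := by
    intro inst p l q q'
    exact RR_update_add F S p l q q'
  map_update_smul' := by
    intro inst p l s q
    exact RR_update_smul F S p l s q

end law

end Groth.Agent.H9.PLW
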