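import Mathlib
import Groth.Prelude.Def_PolLaw
import Groth.Agent.Lib.Helper9.Misc.PLW1

/-! Helper9: polarisation on the diagonal, base change, expansion -/
set_option linter.style.haveILetI false

namespace Groth.Agent.H9.PLW
open scoped TensorProduct
open Groth.Agent.H9.PLR Groth.Agent.H9.PLV
open MvPolynomial

universe u
variable {A : Type u} [CommRing A] {B : Type u} [CommRing B] [Algebra A B]

section combi
variable (S : Type u) [CommRing S] {σ : Type} [Fintype σ] [DecidableEq σ]

omit [DecidableEq σ] in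
lemma sum_single_one : (∑ i : σ, Finsupp.single i 1) = m₁ σ := by
  classical
  ext j
  rw [Finsupp.finsetSum_apply, m₁_apply]
  simp [Finsupp.single_apply]

omit [DecidableEq σ] in
lemma sum_single_eq_iff (c : σ → σ) :
    (∑ k : σ, Finsupp.single (c k) 1) = m₁ σ ↔ Function.Bijective c := by
  classical
  constructor
  · intro h
    have hs : Function.Surjective c := by
      intro j
      by_contra hj
      push Not at hj
      have := DFunLike.congr_fun h j
      rw [Finsupp.finsetSum_apply, m₁_apply] at this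
      have h0 : ∑ k : σ, (Finsupp.single (c k) 1 : σ →₀ ℕ) j = 0 :=
        Finset.sum_eq_zero fun k _ => Finsupp.single_eq_of_ne' (hj k)
      omega
    exact ⟨Finite.injective_iff_surjective.mpr hs, hs⟩
  · intro h
    rw [← sum_single_one]
    exact (Equiv.ofBijective c h).sum_comp (fun i => (Finsupp.single i 1 : σ →₀ ℕ))

omit [DecidableEq σ] in
lemma coeff_prod_X (c : σ → σ) [Decidable (Function.Bijective c)] :
    coeff (m₁ σ) (∏ k : σ, (X (c k) : MvPolynomial σ S)) = if Function.Bijective c then 1 else 0 := by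
  classical
  have : (∏ k : σ, (X (c k) : MvPolynomial σ S)) = monomial (∑ k : σ, Finsupp.single (c k) 1) 1 := by
    rw [monomial_sum_one]
    rfl
  rw [this, coeff_monomial]
  simp only [sum_single_eq_iff]


/-- sums over bijective self-maps are sums over permutations -/
lemma sum_bijective {N : Type*} [AddCommMonoid N] (g : (σ → σ) → N) :
    (∑ c : σ → σ, if Function.Bijective c then g c else 0) = ∑ π : Equiv.Perm σ, g π := by
  classical
  rw [← Finset.sum_filter]
  refine Finset.sum_bij' (fun c hc => Equiv.ofBijective c (Finset.mem_filter.mp hc).2)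
    (fun π _ => (π : σ → σ)) ?_ ?_ ?_ ?_ ?_
  · intro c hc; exact Finset.mem_univ _
  · intro π _; exact Finset.mem_filter.mpr ⟨Finset.mem_univ _, π.bijective⟩
  · intro c hc; rfl
  · intro π _; ext; rfl
  · intro c hc; rfl

lemma coeff_sum_X_pow :
    coeff (m₁ σ) ((∑ i : σ, (X i : MvPolynomial σ S)) ^ Fintype.card σ) =
      ((Fintype.card σ).factorial : S) := by
  classical
  have h1 : (∑ i : σ, (X i : MvPolynomial σ S)) ^ Fintype.card σ =
      ∑ c : σ → σ, ∏ k : σ, (X (c k) : MvPolynomial σ S) := by
    rw [← Finset.card_univ, ← Finset.prod_const, Finset.prod_univ_sum, Fintype.piFinset_univ]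
  rw [h1, coeff_sum]
  simp only [coeff_prod_X]
  rw [sum_bijective (fun _ => (1 : S)), Finset.sum_const, Finset.card_univ, Fintype.card_perm]
  simp

end combi


section law
variable {C : Type u} [AddCommGroup C] [Module A C] (F : B →ₚₗ[A] C)
variable (S : Type u) [CommRing S] [Algebra A S] {σ : Type} [Fintype σ] [DecidableEq σ]

omit [Fintype σ] [DecidableEq σ] in
lemma cf_smul_ι (Q : MvPolynomial σ S) (z : S ⊗[A] C) (m : σ →₀ ℕ) :
    cf S m (Q • (IsScalarTower.toAlgHom A S (MvPolynomial σ S)).toLinearMap.rTensor C z) =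
      coeff m Q • z := by
  induction z using TensorProduct.induction_on with
  | zero => simp
  | tmul s c =>
    rw [LinearMap.rTensor_tmul, TensorProduct.smul_tmul', cf, LinearMap.rTensor_tmul,
      TensorProduct.smul_tmul']
    congr 1
    show coeff m (Q * MvPolynomial.C s) = coeff m Q * s
    rw [mul_comm, MvPolynomial.coeff_C_mul, mul_comm]
  | add x y hx hy => rw [map_add, smul_add, map_add, hx, hy, smul_add]

/-- on the diagonal the polarisation of a homogeneous law of degree `d` is `d!` times the law -/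
lemma RR_diag (hF : PolLaw.IsHomog F (Fintype.card σ)) (p : S ⊗[A] B) :
    RR F S (fun _ : σ => p) = ((Fintype.card σ).factorial : S) • F.toFun' S p := by
  have h1 : gen S (fun _ : σ => p) =
      (∑ i : σ, (X i : MvPolynomial σ S)) • bcp (MvPolynomial σ S) p := by
    rw [gen, Finset.sum_smul]
  have h2 : F.toFun' (MvPolynomial σ S) (bcp (MvPolynomial σ S) p) =
      (IsScalarTower.toAlgHom A S (MvPolynomial σ S)).toLinearMap.rTensor C (F.toFun' S p) := by
    rw [PolynomialLaw.isCompat_apply', rTensor_eq_map]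
    rfl
  rw [RR, h1, hF (MvPolynomial σ S), h2, cf_smul_ι, coeff_sum_X_pow]


/-- the polarisation over the base ring -/
noncomputable def pol0 (b : σ → B) : C :=
  TensorProduct.lid A C (((lcoeff A (m₁ σ)).rTensor C)
    (F.toFun' (MvPolynomial σ A) (∑ i, (X i : MvPolynomial σ A) ⊗ₜ[A] b i)))

omit [DecidableEq σ] in
lemma gen_one_tmul (b : σ → B) :
    gen S (fun i => (1 : S) ⊗ₜ[A] b i) = ∑ i, (X i : MvPolynomial σ S) ⊗ₜ[A] b i := by
  rw [gen]
  refine Finset.sum_congr rfl fun i _ => ?_
  rw [bcp, Algebra.TensorProduct.map_tmul, map_one, TensorProduct.smul_tmul', smul_eq_mul, mul_one]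
  rfl

omit [Fintype σ] [DecidableEq σ] in
lemma rTensor_algebraLinearMap (z : A ⊗[A] C) :
    (Algebra.linearMap A S).rTensor C z = (1 : S) ⊗ₜ[A] TensorProduct.lid A C z := by
  induction z using TensorProduct.induction_on with
  | zero => simp
  | tmul a c =>
    rw [LinearMap.rTensor_tmul, TensorProduct.lid_tmul, Algebra.linearMap_apply,
      Algebra.algebraMap_eq_smul_one, TensorProduct.smul_tmul]
  | add x y hx hy => rw [map_add, map_add, hx, hy, TensorProduct.tmul_add]

omit [DecidableEq σ] in
/-- base change of the polarisation on ground tuples -/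
lemma RR_one_tmul (b : σ → B) :
    RR F S (fun i => (1 : S) ⊗ₜ[A] b i) = (1 : S) ⊗ₜ[A] pol0 F b := by
  set j : MvPolynomial σ A →ₐ[A] MvPolynomial σ S := MvPolynomial.mapAlgHom (Algebra.ofId A S) with hj
  have h1 : (∑ i, (X i : MvPolynomial σ S) ⊗ₜ[A] b i) =
      j.toLinearMap.rTensor B (∑ i, (X i : MvPolynomial σ A) ⊗ₜ[A] b i) := by
    rw [map_sum]
    refine Finset.sum_congr rfl fun i _ => ?_
    rw [LinearMap.rTensor_tmul]
    congr 1
    simp [hj]
  have h2 : ((lcoeff S (m₁ σ)).restrictScalars A) ∘ₗ j.toLinearMap =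
      (Algebra.linearMap A S) ∘ₗ (lcoeff A (m₁ σ)) := by
    ext x
    simp only [LinearMap.coe_comp, Function.comp_apply, AlgHom.toLinearMap_apply,
      LinearMap.coe_restrictScalars, Algebra.linearMap_apply]
    simp [hj, lcoeff, MvPolynomial.coeff_map]
  rw [RR, gen_one_tmul, h1, ← PolynomialLaw.isCompat_apply', cf, ← LinearMap.comp_apply,
    ← LinearMap.rTensor_comp, h2, LinearMap.rTensor_comp, LinearMap.comp_apply,
    rTensor_algebraLinearMap, pol0]


/-- the polarisation over the base ring as a multilinear map -/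
noncomputable def polm : MultilinearMap A (fun _ : σ => B) C :=
  ((TensorProduct.lid A C).toLinearMap.compMultilinearMap (RRm F A (σ := σ))).compLinearMap
    (fun _ => TensorProduct.mk A A B 1)

omit [DecidableEq σ] in
lemma polm_apply (b : σ → B) : polm F b = pol0 F b := by
  show TensorProduct.lid A C (RR F A (fun i => (1 : A) ⊗ₜ[A] b i)) = pol0 F b
  rw [RR_one_tmul, TensorProduct.lid_tmul, one_smul]

/-- expansion of the polarisation on the diagonal -/
lemma RR_diag_expand {n : ℕ} (s : Fin n → S) (b : Fin n → B) :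
    RR F S (fun _ : σ => ∑ j, s j ⊗ₜ[A] b j) =
      ∑ c : σ → Fin n, (∏ i, s (c i)) ⊗ₜ[A] pol0 F (fun i => b (c i)) := by
  have h1 := (RRm F S (σ := σ)).map_sum (fun (_ : σ) (j : Fin n) => s j ⊗ₜ[A] b j)
  change RR F S (fun _ : σ => ∑ j, s j ⊗ₜ[A] b j) = _ at h1
  rw [h1]
  refine Finset.sum_congr rfl fun c _ => ?_
  have h2 : (fun i : σ => s (c i) ⊗ₜ[A] b (c i)) =
      fun i => s (c i) • ((1 : S) ⊗ₜ[A] b (c i)) := by
    funext i
    rw [TensorProduct.smul_tmul', smul_eq_mul, mul_one]
  rw [h2, MultilinearMap.map_smul_univ]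
  change _ • RR F S (fun i => (1 : S) ⊗ₜ[A] b (c i)) = _
  rw [RR_one_tmul, TensorProduct.smul_tmul', smul_eq_mul, mul_one]

end law

end Groth.Agent.H9.PLW
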