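import Mathlib
import Groth.Prelude.Def_PolLaw
import Groth.Agent.Lib.Helper9.Misc.PLZ4
import Groth.Agent.Lib.Helper9.Misc.PLU1

/-! Helper9: coefficients of laws on finite algebras span a finitely generated module -/
set_option linter.style.haveILetI false

namespace Groth.Agent.H9.PLZ
open scoped TensorProduct
open Groth.Agent.H9.PLR

universe u
variable {A : Type u} [CommRing A] {B : Type u} [CommRing B] [Algebra A B]
variable {C : Type u} [CommRing C] [Algebra A C]

lemma ev_lTensor {C' : Type u} [CommRing C'] [Algebra A C'] (φ : C →ₗ[A] C') {S : Type u}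
    [CommSemiring S] [Algebra A S] (ℓ : S →ₗ[A] A) (z : S ⊗[A] C) :
    ev ℓ (φ.lTensor S z) = φ (ev ℓ z) := by
  induction z using TensorProduct.induction_on with
  | zero => simp
  | tmul s c => simp
  | add x y hx hy => simp only [map_add, hx, hy]

lemma ev_rTensor {S S' : Type u} [CommSemiring S] [Algebra A S] [CommSemiring S'] [Algebra A S']
    (ψ : S →ₐ[A] S') (ℓ : S' →ₗ[A] A) (z : S ⊗[A] C) :
    ev ℓ (ψ.toLinearMap.rTensor C z) = ev (ℓ ∘ₗ ψ.toLinearMap) z := by
  induction z using TensorProduct.induction_on with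
  | zero => simp
  | tmul s c => simp
  | add x y hx hy => simp only [map_add, hx, hy]

/-- the coefficients of a law on a finite algebra span a finitely generated module -/
theorem coeffSpan_fg [Module.Finite A B] (F : B →ₚₗ[A] C) : (coeffSpan F).FG := by
  classical
  obtain ⟨n, b, hb⟩ := Module.Finite.exists_fin (R := A) (M := B)
  let P := MvPolynomial (Fin n) A
  let U : P ⊗[A] B := ∑ i, (MvPolynomial.X i : P) ⊗ₜ[A] b i
  let ℬ := MvPolynomial.basisMonomials (Fin n) A
  let E := TensorProduct.equivFinsuppOfBasisLeft (N := C) ℬ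
  set z₀ := F.toFun' P U with hz₀
  set f := E z₀ with hf
  have hz : z₀ = ∑ m ∈ f.support, ℬ m ⊗ₜ[A] f m := by
    have : z₀ = f.sum fun i c => ℬ i ⊗ₜ[A] c := by
      rw [← TensorProduct.equivFinsuppOfBasisLeft_symm_apply]
      exact (E.symm_apply_apply z₀).symm
    rw [this, Finsupp.sum]
  refine ⟨f.support.image f, ?_⟩
  apply le_antisymm
  · rw [Submodule.span_le]
    intro c hc
    rw [Finset.coe_image] at hc
    obtain ⟨m, _, rfl⟩ := hc
    have h1 : f m = ev (ℬ.coord m) z₀ := by
      rw [hf]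
      exact TensorProduct.equivFinsuppOfBasisLeft_apply ℬ z₀ m
    rw [h1]
    exact ev_mem F P U _
  · unfold coeffSpan
    rw [Submodule.span_le]
    rintro c ⟨S, _, _, p, ℓ, rfl⟩
    obtain ⟨s, rfl⟩ := Groth.Agent.H9.PLU.exists_rep b hb S p
    let ψ : P →ₐ[A] S := MvPolynomial.aeval s
    have hp : ∑ i, s i ⊗ₜ[A] b i = ψ.toLinearMap.rTensor B U := by
      rw [map_sum]
      refine Finset.sum_congr rfl fun i _ => ?_
      rw [LinearMap.rTensor_tmul]
      show s i ⊗ₜ[A] b i = (MvPolynomial.aeval s) (MvPolynomial.X i) ⊗ₜ[A] b i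
      rw [MvPolynomial.aeval_X]
    rw [hp, ← PolynomialLaw.isCompat_apply', ← hz₀, hz, map_sum, map_sum]
    apply Submodule.sum_mem
    intro m hm
    rw [LinearMap.rTensor_tmul, ev_tmul]
    apply Submodule.smul_mem
    apply Submodule.subset_span
    rw [Finset.coe_image]
    exact ⟨m, hm, rfl⟩

end Groth.Agent.H9.PLZ
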