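import Mathlib
import Groth.Prelude.Def_PolLaw
import Groth.Agent.Lib.Helper9.Misc.PLZ5

/-! Helper9: S13715, S13716, S13717 — finiteness, integrality and surjectivity for divided power algebras -/
set_option linter.style.haveILetI false

namespace Groth.Agent.H9.PLZ
open scoped TensorProduct
open Groth.Agent.H9.PLR

universe u
variable {A : Type u} [CommRing A] {B : Type u} [CommRing B] [Algebra A B]
variable {C : Type u} [CommRing C] [Algebra A C]

theorem S13715_main {d : ℕ} (γ : PolLaw.MulLaw A B C d) (hγ : PolLaw.IsGammaD γ)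
    [Module.Finite A B] : Module.Finite A C := by
  constructor
  rw [← coeffSpan_eq_top γ hγ]
  exact coeffSpan_fg γ.law

theorem S13717_main {B' : Type u} [CommRing B'] [Algebra A B'] {C' : Type u} [CommRing C']
    [Algebra A C'] {d : ℕ} (γ : PolLaw.MulLaw A B C d) (γ' : PolLaw.MulLaw A B' C' d)
    (hγ' : PolLaw.IsGammaD γ') (π : B →ₐ[A] B') (hπ : Function.Surjective π) (φ : C →ₐ[A] C')
    (hφ : PolLaw.postcomp φ.toLinearMap γ.law = (γ'.precomp π).law) :
    Function.Surjective φ := by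
  have htop := coeffSpan_eq_top γ' hγ'
  have hle : coeffSpan γ'.law ≤ LinearMap.range φ.toLinearMap := by
    unfold coeffSpan
    rw [Submodule.span_le]
    rintro c ⟨S, _, _, p', ℓ, rfl⟩
    obtain ⟨p, rfl⟩ := LinearMap.lTensor_surjective S (show Function.Surjective π.toLinearMap from hπ) p'
    have h1 := congrArg (fun L : B →ₚₗ[A] C' => L.toFun' S p) hφ
    beta_reduce at h1
    have h2 : γ'.law.toFun' S (π.toLinearMap.lTensor S p) = φ.toLinearMap.lTensor S (γ.law.toFun' S p) :=
      h1.symm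
    rw [h2, ev_lTensor]
    exact ⟨_, rfl⟩
  rw [htop] at hle
  intro c'
  obtain ⟨c, hc⟩ := hle (Submodule.mem_top : c' ∈ ⊤)
  exact ⟨c, hc⟩

lemma exists_fin_rep (S : Type u) [CommSemiring S] [Algebra A S] (p : S ⊗[A] B) :
    ∃ (n : ℕ) (s : Fin n → S) (b : Fin n → B), p = ∑ i, s i ⊗ₜ[A] b i := by
  induction p using TensorProduct.induction_on with
  | zero => exact ⟨0, Fin.elim0, Fin.elim0, by simp⟩
  | tmul s b => exact ⟨1, fun _ => s, fun _ => b, by simp⟩
  | add x y hx hy =>
    obtain ⟨n, s, b, rfl⟩ := hx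
    obtain ⟨n', s', b', rfl⟩ := hy
    refine ⟨n + n', Fin.append s s', Fin.append b b', ?_⟩
    rw [Fin.sum_univ_add]
    simp

theorem S13716_main {d : ℕ} (γ : PolLaw.MulLaw A B C d) (hγ : PolLaw.IsGammaD γ)
    [Algebra.IsIntegral A B] : Algebra.IsIntegral A C := by
  constructor
  intro c
  have hc : c ∈ coeffSpan γ.law := by rw [coeffSpan_eq_top γ hγ]; trivial
  unfold coeffSpan at hc
  induction hc using Submodule.span_induction with
  | zero => exact isIntegral_zero
  | add x y _ _ hx hy => exact hx.add hy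
  | smul a x _ hx => exact hx.smul a
  | mem c hc =>
    obtain ⟨S, _, _, p, ℓ, rfl⟩ := hc
    obtain ⟨n, s, b, rfl⟩ := exists_fin_rep S p
    let B₀ : Subalgebra A B := Algebra.adjoin A (Set.range b)
    haveI : Algebra.FiniteType A ↥B₀ := by
      rw [← Subalgebra.fg_iff_finiteType]
      classical
      have := Subalgebra.fg_adjoin_finset (R := A) (Finset.univ.image b)
      rwa [Finset.coe_image, Finset.coe_univ, Set.image_univ] at this
    haveI : Algebra.IsIntegral A ↥B₀ :=
      Algebra.IsIntegral.of_injective B₀.val Subtype.val_injective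
    haveI : Module.Finite A ↥B₀ := Algebra.IsIntegral.finite
    let F₀ : PolLaw.MulLaw A ↥B₀ C d := γ.precomp B₀.val
    let p₀ : S ⊗[A] ↥B₀ := ∑ i, s i ⊗ₜ[A] (⟨b i, Algebra.subset_adjoin ⟨i, rfl⟩⟩ : ↥B₀)
    have hp : B₀.val.toLinearMap.lTensor S p₀ = ∑ i, s i ⊗ₜ[A] b i := by
      rw [map_sum]
      rfl
    have h1 : γ.law.toFun' S (∑ i, s i ⊗ₜ[A] b i) = F₀.law.toFun' S p₀ := by
      rw [← hp]
      rfl
    rw [h1]
    have h2 := ev_mem F₀.law S p₀ ℓ
    exact IsIntegral.of_mem_of_fg (coeffAlg F₀.mult) (coeffSpan_fg F₀.law) _ h2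

end Groth.Agent.H9.PLZ
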