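import Mathlib
import Groth.Prelude.Def_PolLaw
import Groth.Prelude.Def_SymTen
import Groth.Agent.Lib.Helper9.Misc.PLW2
import Groth.Agent.Lib.Helper9.Misc.PLZ6

/-! Helper9: the polarisation rho : T^d(B) -> Gamma^d(B); rho phi = d!, phi rho = symmetrisation (S13872) -/
set_option linter.style.haveILetI false

namespace Groth.Agent.H9.PLW
open scoped TensorProduct
open Groth.Agent.H9.PLR Groth.Agent.H9.PLV Groth.Agent.H9.PLZ
open MvPolynomial

universe u
variable {A : Type u} [CommRing A] {B : Type u} [CommRing B] [Algebra A B]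
variable {C : Type u} [CommRing C] [Algebra A C]

section main
variable (d : ℕ) (γ : PolLaw.MulLaw A B C d)

/-- the polarisation `T^d(B) → Γ^d(B)` -/
noncomputable def rho : (⨂[A] _ : Fin d, B) →ₗ[A] C :=
  PiTensorProduct.lift (polm γ.law (σ := Fin d))

lemma rho_tprod (b : Fin d → B) : rho d γ (PiTensorProduct.tprod A b) = pol0 γ.law b := by
  rw [rho, PiTensorProduct.lift.tprod, polm_apply]

variable (φ' : C →ₐ[A] (⨂[A] _ : Fin d, B))
  (hφ : ∀ (S : Type u) [CommSemiring S] [Algebra A S] (n : ℕ) (s : Fin n → S) (b : Fin n → B),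
      φ'.toLinearMap.lTensor S (γ.law.toFun' S (∑ j, s j ⊗ₜ[A] b j)) =
        ∑ c : Fin d → Fin n, (∏ i, s (c i)) ⊗ₜ[A] PiTensorProduct.tprod A (fun i => b (c i)))

include hφ in
/-- `ρ ∘ φ ∘ γ = d! γ` after every base change -/
lemma rho_phi_gamma (S : Type u) [CommRing S] [Algebra A S] (p : S ⊗[A] B) :
    (rho d γ).lTensor S (φ'.toLinearMap.lTensor S (γ.law.toFun' S p)) =
      (d.factorial : S) • γ.law.toFun' S p := by
  obtain ⟨n, s, b, rfl⟩ := exists_fin_rep S p
  rw [hφ S n s b, map_sum]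
  have h1 := RR_diag_expand γ.law S (σ := Fin d) s b
  have h2 := RR_diag γ.law S (σ := Fin d) (by rw [Fintype.card_fin]; exact γ.homog)
    (∑ j, s j ⊗ₜ[A] b j)
  rw [Fintype.card_fin] at h2
  rw [← h2, h1]
  refine Finset.sum_congr rfl fun c _ => ?_
  rw [LinearMap.lTensor_tmul, rho_tprod]


include hφ in
/-- `ρ ∘ φ = d!` on `Γ^d(B)` -/
lemma rho_phi (hγ : PolLaw.IsGammaD γ) (x : C) : rho d γ (φ' x) = d.factorial • x := by
  have hx : x ∈ coeffSpan γ.law := by rw [coeffSpan_eq_top γ hγ]; trivial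
  unfold coeffSpan at hx
  induction hx using Submodule.span_induction with
  | zero => simp
  | add x y _ _ hx hy => rw [map_add, map_add, hx, hy, smul_add]
  | smul a x _ hx => rw [map_smul, map_smul, hx, smul_comm]
  | mem x hx =>
    obtain ⟨S, _, _, p, ℓ, rfl⟩ := hx
    let _ : CommRing S := commRingOfAlg A S
    have h1 := rho_phi_gamma d γ φ' hφ S p
    have h2 : rho d γ (φ' (ev ℓ (γ.law.toFun' S p))) =
        ev ℓ ((rho d γ).lTensor S (φ'.toLinearMap.lTensor S (γ.law.toFun' S p))) := by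
      rw [ev_lTensor, ev_lTensor]
      rfl
    rw [h2, h1, Nat.cast_smul_eq_nsmul, map_nsmul]

include hφ in
/-- `φ ∘ ρ` is the symmetrisation -/
lemma phi_rho (z : ⨂[A] _ : Fin d, B) :
    φ' (rho d γ z) = ∑ π : Equiv.Perm (Fin d), SymTen.perm A B d π z := by
  induction z using PiTensorProduct.induction_on with
  | smul_tprod r b =>
    simp only [map_smul]
    rw [← Finset.smul_sum]
    congr 1
    rw [rho_tprod]
    have h0 : pol0 γ.law b = ev (lcoeff A (m₁ (Fin d)))
        (γ.law.toFun' (MvPolynomial (Fin d) A) (∑ i, (X i : MvPolynomial (Fin d) A) ⊗ₜ[A] b i)) := rfl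
    have h1 := ev_lTensor φ'.toLinearMap (lcoeff A (m₁ (Fin d)))
      (γ.law.toFun' (MvPolynomial (Fin d) A) (∑ i, (X i : MvPolynomial (Fin d) A) ⊗ₜ[A] b i))
    rw [h0]
    change φ'.toLinearMap _ = _
    rw [← h1, hφ (MvPolynomial (Fin d) A) d X b, map_sum]
    simp only [ev_tmul]
    have h2 : ∀ c : Fin d → Fin d,
        (lcoeff A (m₁ (Fin d))) (∏ i, (X (c i) : MvPolynomial (Fin d) A)) •
          PiTensorProduct.tprod A (fun i => b (c i)) =
        if Function.Bijective c then PiTensorProduct.tprod A (fun i => b (c i)) else 0 := by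
      intro c
      classical
      show coeff (m₁ (Fin d)) (∏ i, (X (c i) : MvPolynomial (Fin d) A)) • _ = _
      rw [coeff_prod_X]
      split_ifs <;> simp
    simp only [h2]
    rw [sum_bijective (fun c => PiTensorProduct.tprod A (fun i => b (c i)))]
    simp only [SymTen.perm_tprod]
    exact (Equiv.sum_comp (Equiv.inv (Equiv.Perm (Fin d)))
      (fun π : Equiv.Perm (Fin d) => PiTensorProduct.tprod A (fun i => b (π i)))).symm
  | add x y hx hy =>
    simp only [map_add, hx, hy, Finset.sum_add_distrib]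

end main

theorem S13872_main (d : ℕ)
    (γ : PolLaw.MulLaw A B C d) (hγ : PolLaw.IsGammaD γ) (φ : C →ₐ[A] SymTen.TS A B d)
    (hφ : ∀ (S : Type u) [CommSemiring S] [Algebra A S] (n : ℕ) (s : Fin n → S) (b : Fin n → B),
      ((SymTen.TS A B d).val.comp φ).toLinearMap.lTensor S (γ.law.toFun' S (∑ j, s j ⊗ₜ[A] b j)) =
        ∑ c : Fin d → Fin n, (∏ i, s (c i)) ⊗ₜ[A] PiTensorProduct.tprod A (fun i => b (c i))) :
    (∀ x : C, φ x = 0 → d.factorial • x = 0) ∧
      (∀ y : SymTen.TS A B d, d.factorial • y ∈ φ.range) := by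
  set φ' : C →ₐ[A] (⨂[A] _ : Fin d, B) := (SymTen.TS A B d).val.comp φ with hφ'
  constructor
  · intro x hx
    have h1 := rho_phi d γ φ' hφ hγ x
    have h2 : φ' x = 0 := by
      rw [hφ', AlgHom.comp_apply, hx, map_zero]
    rw [h2, map_zero] at h1
    exact h1.symm
  · intro y
    refine ⟨rho d γ y.1, ?_⟩
    apply Subtype.ext
    have h1 := phi_rho d γ φ' hφ y.1
    have h2 : ∀ π : Equiv.Perm (Fin d), SymTen.perm A B d π y.1 = y.1 := by
      intro π
      rw [SymTen.perm_apply]
      exact y.2 π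
    simp only [h2, Finset.sum_const, Finset.card_univ, Fintype.card_perm, Fintype.card_fin] at h1
    show φ' (rho d γ y.1) = _
    rw [h1]
    simp

end Groth.Agent.H9.PLW
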