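import Mathlib
import Groth.Prelude.Def_PolLaw
import Groth.Agent.Lib.Helper9.Misc.PLR7
import Groth.Agent.Lib.Helper9.Misc.PLR8
import Groth.Agent.Lib.Helper9.Misc.PLD1

/-! Helper9: over a field, the norm of a multiplicative law ignores nilpotents modulo the kernel -/
set_option linter.style.haveILetI false

namespace Groth.Agent.H9.PLX
open scoped TensorProduct
open Groth.Agent.H9.PLR Groth.Agent.H9.PLD
open Polynomial

universe u

section general
variable {A : Type u} [CommRing A] {B : Type u} [CommRing B] [Algebra A B]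

/-- ground value of a law with target the base ring -/
noncomputable def gr (F : B →ₚₗ[A] A) (b : B) : A := hat F A ((1 : A) ⊗ₜ[A] b)

lemma gr_one {F : B →ₚₗ[A] A} (hF : PolLaw.IsMult F) : gr F 1 = 1 := by
  unfold gr
  rw [← Algebra.TensorProduct.one_def, hat_one hF]

lemma gr_mul {F : B →ₚₗ[A] A} (hF : PolLaw.IsMult F) (a b : B) :
    gr F (a * b) = gr F a * gr F b := by
  unfold gr
  rw [← hat_mul hF, Algebra.TensorProduct.tmul_mul_tmul, one_mul]

lemma gr_add_ker (F : B →ₚₗ[A] A) (k : B) (hk : k ∈ PolLaw.ker F) (y w : B) :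
    gr F (y + w * k) = gr F y := by
  unfold gr hat
  have := hk A ((1 : A) ⊗ₜ[A] y) ((1 : A) ⊗ₜ[A] w)
  rw [Algebra.TensorProduct.tmul_mul_tmul, one_mul, ← TensorProduct.tmul_add] at this
  rw [this]

lemma eval_chi (F : B →ₚₗ[A] A) (b : B) (a : A) :
    (chi F b).eval a = gr F (b - a • 1) := by
  unfold chi gr
  have h := hat_map F (Polynomial.aeval a : A[X] →ₐ[A] A) ((1 : A[X]) ⊗ₜ[A] b - X ⊗ₜ[A] (1 : B))
  rw [map_sub, Algebra.TensorProduct.map_tmul, Algebra.TensorProduct.map_tmul, map_one,
    AlgHom.id_apply, AlgHom.id_apply, aeval_X, Polynomial.coe_aeval_eq_eval] at h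
  rw [← h, TensorProduct.tmul_sub]
  congr 2
  rw [TensorProduct.tmul_smul, TensorProduct.smul_tmul', smul_eq_mul, mul_one]

end general

section field
variable {K : Type u} [Field K] {B : Type u} [CommRing B] [Algebra K B]

/-- adding a nilpotent (modulo the kernel) to an element of nonzero norm does not change the norm -/
lemma gr_add_nil_aux {d : ℕ} (F : PolLaw.MulLaw K B K d) (z N : B) (n : ℕ)
    (hN : N ^ n ∈ PolLaw.ker F.law) (hz : gr F.law z ≠ 0) :
    gr F.law (z + N) = gr F.law z := by
  set c₀ := gr F.law z with hc₀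
  have hCH := aeval_chi_mem_ker' F z
  have hc : (chi F.law z).coeff 0 = c₀ := by
    rw [Polynomial.coeff_zero_eq_eval_zero, eval_chi, zero_smul, sub_zero]
  set q : B := Polynomial.aeval z (chi F.law z).divX with hq
  set k' : B := Polynomial.aeval z (chi F.law z) with hk'
  have hk'eq : k' = q * z + c₀ • 1 := by
    rw [hk', hq]
    conv_lhs => rw [← Polynomial.divX_mul_X_add (chi F.law z)]
    rw [map_add, map_mul, aeval_X, aeval_C, hc, Algebra.algebraMap_eq_smul_one]
  set u : B := (-c₀⁻¹) • q with hu
  set k : B := (-c₀⁻¹) • k' with hk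
  have hkmem : k ∈ PolLaw.ker F.law := Submodule.smul_of_tower_mem _ _ hCH
  have hzu : z * u = 1 + k := by
    rw [hu, hk, hk'eq, mul_smul_comm, smul_add, smul_smul, neg_mul, inv_mul_cancel₀ hz,
      mul_comm z q]
    simp only [neg_smul, one_smul]
    abel
  have hdecomp : z + N = z * (1 + u * N) + (-N) * k := by
    linear_combination (-N) * hzu
  have hnil : (u * N) ^ n ∈ PolLaw.ker F.law := by
    rw [mul_pow]
    exact Ideal.mul_mem_left _ _ hN
  have hchi := chi_eq_of_pow_mem F (u * N) n hnil
  have h1 : gr F.law (1 + u * N) = 1 := by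
    have h2 := eval_chi F.law (u * N) (-1)
    rw [hchi, eval_pow, eval_neg, eval_X, neg_neg, one_pow, neg_smul, one_smul, sub_neg_eq_add,
      add_comm] at h2
    exact h2.symm
  rw [hdecomp, gr_add_ker F.law k hkmem, gr_mul F.mult, h1, mul_one]

/-- over a field, adding an element nilpotent modulo the kernel does not change the norm -/
theorem gr_add_nil {d : ℕ} (F : PolLaw.MulLaw K B K d) (z N : B) (n : ℕ)
    (hN : N ^ n ∈ PolLaw.ker F.law) : gr F.law (z + N) = gr F.law z := by
  by_cases hz : gr F.law z = 0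
  · by_contra hne
    have hne' : gr F.law (z + N) ≠ 0 := by
      intro h0
      apply hne
      rw [h0, hz]
    have hN' : (-N) ^ n ∈ PolLaw.ker F.law := by
      rw [neg_pow]
      exact Ideal.mul_mem_left _ _ hN
    have := gr_add_nil_aux F (z + N) (-N) n hN' hne'
    rw [add_neg_cancel_right] at this
    exact hne this.symm
  · exact gr_add_nil_aux F z N n hN hz

end field

end Groth.Agent.H9.PLX
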