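import Mathlib
import Groth.Prelude.Def_PolLaw
import Groth.Agent.Lib.Helper9.Misc.PLR1
import Groth.Agent.Lib.Helper9.Misc.PLB1

/-! Helper9: base change of a law `B → C` to a `C`-algebra `L`, as a law `L ⊗ B → L` over `L` -/
set_option linter.style.haveILetI false

namespace Groth.Agent.H9.PLX
open scoped TensorProduct
open Groth.Agent.H9.PLR Groth.Agent.H9.PLB

universe u
variable {A : Type u} [CommRing A] {B : Type u} [CommRing B] [Algebra A B]
variable {C : Type u} [CommRing C] [Algebra A C]

section mu
variable (R : Type u) [CommSemiring R] [Algebra A R] [Algebra C R] [IsScalarTower A C R]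

/-- the multiplication `R ⊗ C → R` of a `C`-algebra `R` -/
noncomputable def mu : R ⊗[A] C →ₐ[A] R :=
  Algebra.TensorProduct.productMap (AlgHom.id A R) (IsScalarTower.toAlgHom A C R)

lemma mu_tmul (r : R) (c : C) : mu (A := A) R (r ⊗ₜ[A] c) = r * algebraMap C R c := by
  simp [mu]

lemma mu_smul (s : R) (t : R ⊗[A] C) : mu (A := A) R (s • t) = s * mu (A := A) R t := by
  induction t using TensorProduct.induction_on with
  | zero => simp
  | tmul r c => rw [TensorProduct.smul_tmul', mu_tmul, mu_tmul, smul_eq_mul, mul_assoc]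
  | add x y hx hy => rw [smul_add, map_add, map_add, hx, hy, mul_add]

/-- value in `R` of a law with target `C`, for a `C`-algebra `R` -/
noncomputable def hatC (F : B →ₚₗ[A] C) (z : R ⊗[A] B) : R := mu (A := A) R (F.toFun' R z)

lemma hatC_smul {F : B →ₚₗ[A] C} {d : ℕ} (hF : PolLaw.IsHomog F d) (s : R) (z : R ⊗[A] B) :
    hatC R F (s • z) = s ^ d * hatC R F z := by
  unfold hatC
  rw [hF, mu_smul]

lemma hatC_one {F : B →ₚₗ[A] C} (hF : PolLaw.IsMult F) : hatC R F 1 = 1 := by
  unfold hatC
  rw [(hF R).1, map_one]

lemma hatC_mul {F : B →ₚₗ[A] C} (hF : PolLaw.IsMult F) (x y : R ⊗[A] B) :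
    hatC R F (x * y) = hatC R F x * hatC R F y := by
  unfold hatC
  rw [(hF R).2, map_mul]

variable {R}
variable {R' : Type u} [CommSemiring R'] [Algebra A R'] [Algebra C R'] [IsScalarTower A C R']

lemma hatC_map (F : B →ₚₗ[A] C) (φ : R →ₐ[A] R')
    (hφ : ∀ c : C, φ (algebraMap C R c) = algebraMap C R' c) (z : R ⊗[A] B) :
    hatC R' F (Algebra.TensorProduct.map φ (AlgHom.id A B) z) = φ (hatC R F z) := by
  unfold hatC
  rw [← rTensor_eq_map, ← PolynomialLaw.isCompat_apply']
  generalize F.toFun' R z = y
  induction y using TensorProduct.induction_on with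
  | zero => simp
  | tmul r c =>
    rw [LinearMap.rTensor_tmul, mu_tmul, mu_tmul, map_mul, hφ]
    rfl
  | add x y hx hy => simp only [map_add, hx, hy]

end mu

section bcC
variable (L : Type u) [CommRing L] [Algebra A L] [Algebra C L] [IsScalarTower A C L]

lemma towerACR (R : Type u) [CommSemiring R] [Algebra L R] :
    @IsScalarTower A C R _ (algOf (A := C) L R).toSMul (algOf (A := A) L R).toSMul :=
  letI := algOf (A := A) L R
  letI := algOf (A := C) L R
  IsScalarTower.of_algebraMap_eq (fun a => by
    show algebraMap L R (algebraMap A L a) = algebraMap L R (algebraMap C L (algebraMap A C a))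
    rw [← IsScalarTower.algebraMap_apply A C L])

/-- value of the base-changed law on an `L`-algebra -/
noncomputable def bcHatC (F : B →ₚₗ[A] C) (R : Type u) [CommSemiring R] [Algebra L R]
    (y : R ⊗[L] (L ⊗[A] B)) : R :=
  letI := algOf (A := A) L R
  letI := algOf (A := C) L R
  haveI := towerOf (A := A) L R
  haveI := towerACR (A := A) (C := C) L R
  hatC R F (canc L R y)

/-- the base change to a `C`-algebra `L` of a law `B → C`, as a law `L ⊗ B → L` over `L` -/
noncomputable def bcC (F : B →ₚₗ[A] C) : (L ⊗[A] B) →ₚₗ[L] L where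
  toFun' R _ _ := fun y => (TensorProduct.rid L R).symm (bcHatC L F R y)
  isCompat' := by
    intro R _ _ R' _ _ φ
    funext y
    letI := algOf (A := A) L R
    letI := algOf (A := A) L R'
    letI := algOf (A := C) L R
    letI := algOf (A := C) L R'
    haveI := towerOf (A := A) L R
    haveI := towerOf (A := A) L R'
    haveI := towerACR (A := A) (C := C) L R
    haveI := towerACR (A := A) (C := C) L R'
    show φ.toLinearMap.rTensor L ((TensorProduct.rid L R).symm (bcHatC L F R y)) =
      (TensorProduct.rid L R').symm (bcHatC L F R' (φ.toLinearMap.rTensor (L ⊗[A] B) y))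
    unfold bcHatC
    rw [canc_nat, hatC_map F (φ.restrictScalars A) (fun c => by
      show φ (algebraMap L R (algebraMap C L c)) = algebraMap L R' (algebraMap C L c)
      exact φ.commutes _)]
    simp only [TensorProduct.rid_symm_apply, LinearMap.rTensor_tmul, AlgHom.toLinearMap_apply]
    rfl

lemma bcC_isHomog {F : B →ₚₗ[A] C} {d : ℕ} (hF : PolLaw.IsHomog F d) :
    PolLaw.IsHomog (bcC L F) d := by
  intro R _ _ s y
  letI := algOf (A := A) L R
  letI := algOf (A := C) L R
  haveI := towerOf (A := A) L R
  haveI := towerACR (A := A) (C := C) L R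
  show (TensorProduct.rid L R).symm (bcHatC L F R (s • y)) =
    s ^ d • (TensorProduct.rid L R).symm (bcHatC L F R y)
  unfold bcHatC
  rw [canc_smul, hatC_smul R hF, TensorProduct.rid_symm_apply, TensorProduct.rid_symm_apply,
    TensorProduct.smul_tmul', smul_eq_mul]

lemma bcC_isMult {F : B →ₚₗ[A] C} (hF : PolLaw.IsMult F) : PolLaw.IsMult (bcC L F) := by
  intro R _ _
  letI := algOf (A := A) L R
  letI := algOf (A := C) L R
  haveI := towerOf (A := A) L R
  haveI := towerACR (A := A) (C := C) L R
  constructor
  · show (TensorProduct.rid L R).symm (bcHatC L F R 1) = 1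
    unfold bcHatC
    rw [map_one, hatC_one R hF, TensorProduct.rid_symm_apply, Algebra.TensorProduct.one_def]
  · intro x y
    show (TensorProduct.rid L R).symm (bcHatC L F R (x * y)) =
      (TensorProduct.rid L R).symm (bcHatC L F R x) * (TensorProduct.rid L R).symm (bcHatC L F R y)
    unfold bcHatC
    rw [map_mul, hatC_mul R hF, TensorProduct.rid_symm_apply, TensorProduct.rid_symm_apply,
      TensorProduct.rid_symm_apply, Algebra.TensorProduct.tmul_mul_tmul, mul_one]

/-- base change of a multiplicative homogeneous law with general target -/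
noncomputable def mulBCC {d : ℕ} (F : PolLaw.MulLaw A B C d) : PolLaw.MulLaw L (L ⊗[A] B) L d where
  law := bcC L F.law
  homog := bcC_isHomog L F.homog
  mult := bcC_isMult L F.mult

/-- elements of the kernel stay in the kernel after base change -/
lemma one_tmul_mem_ker_bcC (F : B →ₚₗ[A] C) (b : B) (hb : b ∈ PolLaw.ker F) :
    (1 : L) ⊗ₜ[A] b ∈ PolLaw.ker (bcC L F) := by
  intro R _ _ x w
  letI := algOf (A := A) L R
  letI := algOf (A := C) L R
  haveI := towerOf (A := A) L R
  haveI := towerACR (A := A) (C := C) L R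
  show (TensorProduct.rid L R).symm (bcHatC L F R (x + w * ((1 : R) ⊗ₜ[L] ((1 : L) ⊗ₜ[A] b)))) =
    (TensorProduct.rid L R).symm (bcHatC L F R x)
  congr 1
  unfold bcHatC hatC
  rw [map_add, map_mul, canc_one_tmul, Algebra.TensorProduct.map_tmul, map_one, AlgHom.id_apply]
  congr 1
  exact hb R (canc L R x) (canc L R w)

/-- the value of the base-changed law on a tower algebra -/
lemma hat_bcC (F : B →ₚₗ[A] C) (R : Type u) [CommSemiring R] [instA : Algebra A R]
    [instC : Algebra C R] [Algebra L R] [IsScalarTower A L R] [IsScalarTower C L R]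
    [IsScalarTower A C R] (y : R ⊗[L] (L ⊗[A] B)) :
    hat (bcC L F) R y = hatC R F (canc L R y) := by
  have e : instA = algOf (A := A) L R :=
    Algebra.algebra_ext _ _ (fun a => IsScalarTower.algebraMap_apply A L R a)
  subst e
  have e' : instC = algOf (A := C) L R :=
    Algebra.algebra_ext _ _ (fun a => IsScalarTower.algebraMap_apply C L R a)
  subst e'
  show TensorProduct.rid L R ((TensorProduct.rid L R).symm (bcHatC L F R y)) = _
  rw [LinearEquiv.apply_symm_apply]
  rfl

end bcC

end Groth.Agent.H9.PLX
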