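import Mathlib
import Groth.Prelude.Def_PolLaw
import Groth.Agent.Lib.Helper9.Misc.PLX1
import Groth.Agent.Lib.Helper9.Misc.PLX2

/-! Helper9: detecting the kernel of a law with reduced target on fields -/
set_option linter.style.haveILetI false

namespace Groth.Agent.H9.PLX
open scoped TensorProduct
open Groth.Agent.H9.PLR Groth.Agent.H9.PLB

universe u
variable {A : Type u} [CommRing A] {B : Type u} [CommRing B] [Algebra A B]
variable {C : Type u} [CommRing C] [Algebra A C]

lemma map_toAlgHom_self (L : Type u) [CommRing L] [Algebra A L] (y : L ⊗[A] B) :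
    Algebra.TensorProduct.map (IsScalarTower.toAlgHom A L L) (AlgHom.id A B) y = y := by
  induction y using TensorProduct.induction_on with
  | zero => simp
  | tmul a b => simp
  | add x y hx hy => simp only [map_add, hx, hy]

/-- detection of the kernel on fields -/
theorem detect {d : ℕ} (F : PolLaw.MulLaw A B C d) (b : B) (n : ℕ)
    (hb : b ^ n ∈ PolLaw.ker F.law) (L : Type u) [Field L] [Algebra A L] [Algebra C L]
    [IsScalarTower A C L] (z w : L ⊗[A] B) :
    hatC L F.law (z + w * (1 : L) ⊗ₜ[A] b) = hatC L F.law z := by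
  have hgr : ∀ y : L ⊗[A] B, gr (mulBCC L F).law y = hatC L F.law y := by
    intro y
    unfold gr
    show hat (bcC L F.law) L ((1 : L) ⊗ₜ[L] y) = _
    rw [hat_bcC, canc_one_tmul, map_toAlgHom_self]
  have hN : (w * (1 : L) ⊗ₜ[A] b) ^ n ∈ PolLaw.ker (mulBCC L F).law := by
    rw [mul_pow, Algebra.TensorProduct.tmul_pow, one_pow]
    apply Ideal.mul_mem_left
    exact one_tmul_mem_ker_bcC L F.law (b ^ n) hb
  have := gr_add_nil (mulBCC L F) z (w * (1 : L) ⊗ₜ[A] b) n hN
  rw [hgr, hgr] at this
  exact this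

/-- the core of the assembly: ring maps from `S ⊗ C` to fields do not see the perturbation -/
theorem core {d : ℕ} (F : PolLaw.MulLaw A B C d) (b : B) (n : ℕ)
    (hb : b ^ n ∈ PolLaw.ker F.law) (S : Type u) [CommRing S] [Algebra A S]
    (L : Type u) [Field L] (θ : S ⊗[A] C →+* L) (x w : S ⊗[A] B) :
    θ (F.law.toFun' S (x + w * (1 : S) ⊗ₜ[A] b)) = θ (F.law.toFun' S x) := by
  letI : Algebra A L := (θ.comp (algebraMap A (S ⊗[A] C))).toAlgebra
  letI : Algebra C L := (θ.comp
    (Algebra.TensorProduct.includeRight : C →ₐ[A] S ⊗[A] C).toRingHom).toAlgebra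
  haveI : IsScalarTower A C L := IsScalarTower.of_algebraMap_eq (fun a => by
    show θ (algebraMap A (S ⊗[A] C) a) = θ ((1 : S) ⊗ₜ[A] (algebraMap A C a))
    congr 1
    rw [Algebra.TensorProduct.algebraMap_apply, Algebra.algebraMap_eq_smul_one,
      Algebra.algebraMap_eq_smul_one, TensorProduct.smul_tmul])
  let ψ : S →ₐ[A] L :=
    { (θ.comp (Algebra.TensorProduct.includeLeftRingHom : S →+* S ⊗[A] C)) with
      commutes' := fun a => by
        show θ ((algebraMap A S a) ⊗ₜ[A] (1 : C)) = θ (algebraMap A (S ⊗[A] C) a)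
        rw [Algebra.TensorProduct.algebraMap_apply] }
  have key : ∀ t : S ⊗[A] C, mu (A := A) L (ψ.toLinearMap.rTensor C t) = θ t := by
    intro t
    induction t using TensorProduct.induction_on with
    | zero => simp
    | tmul s c =>
      rw [LinearMap.rTensor_tmul, mu_tmul]
      show θ (s ⊗ₜ[A] (1 : C)) * θ ((1 : S) ⊗ₜ[A] c) = θ (s ⊗ₜ[A] c)
      rw [← map_mul, Algebra.TensorProduct.tmul_mul_tmul, mul_one, one_mul]
    | add x y hx hy => simp only [map_add, hx, hy]
  have h1 : ∀ y : S ⊗[A] B, θ (F.law.toFun' S y) =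
      hatC L F.law (Algebra.TensorProduct.map ψ (AlgHom.id A B) y) := by
    intro y
    unfold hatC
    rw [← key, PolynomialLaw.isCompat_apply', rTensor_eq_map]
  rw [h1, h1, map_add, map_mul, Algebra.TensorProduct.map_tmul, map_one, AlgHom.id_apply]
  exact detect F b n hb L _ _

end Groth.Agent.H9.PLX
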