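import Mathlib
import Groth.Prelude.Def_PolLaw
import Groth.Agent.Lib.Helper9.Misc.PLX3

/-! Helper9: S13722 — the image of a multiplicative law with reduced target is reduced -/
set_option linter.style.haveILetI false

namespace Groth.Agent.H9.PLX
open scoped TensorProduct
open Groth.Agent.H9.PLR Groth.Agent.H9.PLB

universe u
variable {A : Type u} [CommRing A] {B : Type u} [CommRing B] [Algebra A B]
variable {C : Type u} [CommRing C] [Algebra A C]

/-- simultaneous lift of two points to a polynomial ring -/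
lemma exists_lift₂ (S : Type u) [CommSemiring S] [Algebra A S] (x w : S ⊗[A] B) :
    ∃ (m : ℕ) (ψ : MvPolynomial (Fin m) A →ₐ[A] S) (x' w' : MvPolynomial (Fin m) A ⊗[A] B),
      ψ.toLinearMap.rTensor B x' = x ∧ ψ.toLinearMap.rTensor B w' = w := by
  obtain ⟨m, ψ, p, hp⟩ := PolynomialLaw.exists_lift (R := A) (M := B × B)
    ((LinearMap.inl A B B).lTensor S x + (LinearMap.inr A B B).lTensor S w)
  refine ⟨m, ψ, (LinearMap.fst A B B).lTensor _ p, (LinearMap.snd A B B).lTensor _ p, ?_, ?_⟩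
  · have := congrArg ((LinearMap.fst A B B).lTensor S) hp
    rw [← LinearMap.comp_apply, LinearMap.lTensor_comp_rTensor, ← LinearMap.rTensor_comp_lTensor,
      LinearMap.comp_apply] at this
    rw [this, map_add, ← LinearMap.comp_apply, ← LinearMap.comp_apply, ← LinearMap.lTensor_comp,
      ← LinearMap.lTensor_comp, LinearMap.fst_comp_inl, LinearMap.fst_comp_inr]
    simp
  · have := congrArg ((LinearMap.snd A B B).lTensor S) hp
    rw [← LinearMap.comp_apply, LinearMap.lTensor_comp_rTensor, ← LinearMap.rTensor_comp_lTensor,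
      LinearMap.comp_apply] at this
    rw [this, map_add, ← LinearMap.comp_apply, ← LinearMap.comp_apply, ← LinearMap.lTensor_comp,
      ← LinearMap.lTensor_comp, LinearMap.snd_comp_inl, LinearMap.snd_comp_inr]
    simp

instance isReduced_tensor_mvPolynomial [IsReduced C] (m : ℕ) :
    IsReduced (MvPolynomial (Fin m) A ⊗[A] C) := by
  let e₁ : MvPolynomial (Fin m) A ⊗[A] C ≃ₐ[A] C ⊗[A] MvPolynomial (Fin m) A :=
    Algebra.TensorProduct.comm A _ _
  let e₂ : C ⊗[A] MvPolynomial (Fin m) A ≃ₐ[C] MvPolynomial (Fin m) C :=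
    MvPolynomial.algebraTensorAlgEquiv A C
  exact isReduced_of_injective ((e₂ : C ⊗[A] MvPolynomial (Fin m) A →+* MvPolynomial (Fin m) C).comp
    (e₁ : MvPolynomial (Fin m) A ⊗[A] C →+* C ⊗[A] MvPolynomial (Fin m) A))
    (e₂.injective.comp e₁.injective)

theorem S13722_main [IsReduced C] {d : ℕ} (F : PolLaw.MulLaw A B C d) :
    IsReduced (PolLaw.image F.law) := by
  rw [← Ideal.isRadical_iff_quotient_reduced]
  intro b hb
  obtain ⟨n, hn⟩ := hb
  intro S _ _ x w
  obtain ⟨m, ψ, x', w', rfl, rfl⟩ := exists_lift₂ S x w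
  have hP : F.law.toFun' (MvPolynomial (Fin m) A) (x' + w' * (1 : MvPolynomial (Fin m) A) ⊗ₜ[A] b) =
      F.law.toFun' (MvPolynomial (Fin m) A) x' := by
    by_contra hne
    set δ := F.law.toFun' (MvPolynomial (Fin m) A) (x' + w' * (1 : MvPolynomial (Fin m) A) ⊗ₜ[A] b) -
      F.law.toFun' (MvPolynomial (Fin m) A) x' with hδ
    have hδ0 : δ ≠ 0 := fun h => hne (sub_eq_zero.mp h)
    have hnil : δ ∉ nilradical (MvPolynomial (Fin m) A ⊗[A] C) := by
      rw [nilradical_eq_zero, Ideal.zero_eq_bot, Ideal.mem_bot]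
      exact hδ0
    rw [nilradical_eq_sInf, Ideal.mem_sInf] at hnil
    push Not at hnil
    obtain ⟨𝔮, h𝔮, hδ𝔮⟩ := hnil
    haveI : 𝔮.IsPrime := h𝔮
    let L := FractionRing ((MvPolynomial (Fin m) A ⊗[A] C) ⧸ 𝔮)
    let θ : MvPolynomial (Fin m) A ⊗[A] C →+* L :=
      algebraMap (MvPolynomial (Fin m) A ⊗[A] C) L
    have h1 := core F b n hn (MvPolynomial (Fin m) A) L θ x' w'
    have h2 : θ δ = 0 := by
      rw [hδ, map_sub, h1, sub_self]
    have h3 : algebraMap (MvPolynomial (Fin m) A ⊗[A] C) ((MvPolynomial (Fin m) A ⊗[A] C) ⧸ 𝔮) δ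
        = 0 := by
      apply IsFractionRing.injective ((MvPolynomial (Fin m) A ⊗[A] C) ⧸ 𝔮) L
      rw [map_zero, ← IsScalarTower.algebraMap_apply]
      exact h2
    exact hδ𝔮 (Ideal.Quotient.eq_zero_iff_mem.mp h3)
  have e : ∀ z : MvPolynomial (Fin m) A ⊗[A] B, F.law.toFun' S (ψ.toLinearMap.rTensor B z) =
      ψ.toLinearMap.rTensor C (F.law.toFun' (MvPolynomial (Fin m) A) z) :=
    fun z => (PolynomialLaw.isCompat_apply' (f := F.law) ψ z).symm
  have e2 : ψ.toLinearMap.rTensor B x' + ψ.toLinearMap.rTensor B w' * (1 : S) ⊗ₜ[A] b =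
      ψ.toLinearMap.rTensor B (x' + w' * (1 : MvPolynomial (Fin m) A) ⊗ₜ[A] b) := by
    rw [rTensor_eq_map, rTensor_eq_map, rTensor_eq_map, map_add, map_mul,
      Algebra.TensorProduct.map_tmul, map_one, AlgHom.id_apply]
  rw [e2, e, e, hP]

end Groth.Agent.H9.PLX
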