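import Mathlib

/-! Helper9: a splitting algebra of a monic separable polynomial with a linear retraction -/
set_option linter.style.haveILetI false

namespace Groth.Agent.H9.PLY
open Polynomial

universe u

/-- a splitting algebra of a monic separable polynomial, with an `A`-linear retraction and
roots whose differences are units -/
theorem exists_splitting (n : ℕ) : ∀ (A : Type u) [CommRing A] (g : A[X]), g.Monic → g.Separable →
    g.natDegree = n →
    ∃ (Ω : Type u) (_ : CommRing Ω) (_ : Algebra A Ω) (ρ : Ω →ₗ[A] A) (r : Fin n → Ω),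
      ρ 1 = 1 ∧ g.map (algebraMap A Ω) = ∏ i, (X - C (r i)) ∧
        ∀ i j, i ≠ j → IsUnit (r i - r j) := by
  induction n with
  | zero =>
    intro A _ g hg _ hdeg
    refine ⟨A, inferInstance, inferInstance, LinearMap.id, Fin.elim0, rfl, ?_, fun i => i.elim0⟩
    rw [Polynomial.eq_one_of_monic_natDegree_zero hg hdeg]
    simp
  | succ n ih =>
    intro A _ g hg hsep hdeg
    let A₁ := AdjoinRoot g
    let r₀ : A₁ := AdjoinRoot.root g
    let pb := AdjoinRoot.powerBasis' hg
    have hdim : 0 < pb.dim := by
      show 0 < g.natDegree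
      omega
    let ρ₀ : A₁ →ₗ[A] A := pb.basis.coord ⟨0, hdim⟩
    have hρ₀ : ρ₀ 1 = 1 := by
      have h1 : pb.basis ⟨0, hdim⟩ = 1 := by
        rw [PowerBasis.coe_basis]
        simp
      show pb.basis.repr 1 ⟨0, hdim⟩ = 1
      conv_lhs => rw [← h1]
      rw [Module.Basis.repr_self, Finsupp.single_eq_same]
    haveI : Nontrivial A := by
      by_contra h
      rw [not_nontrivial_iff_subsingleton] at h
      have : g = 0 := Subsingleton.elim _ _
      rw [this, Polynomial.natDegree_zero] at hdeg
      omega
    haveI : Nontrivial A₁ := by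
      refine ⟨⟨1, 0, fun h => ?_⟩⟩
      have := congrArg ρ₀ h
      rw [hρ₀, map_zero] at this
      exact one_ne_zero this
    let gm : A₁[X] := g.map (AdjoinRoot.of g)
    have hgm_monic : gm.Monic := hg.map _
    have hroot : gm.IsRoot r₀ := by
      show gm.eval r₀ = 0
      rw [Polynomial.eval_map]
      exact AdjoinRoot.eval₂_root g
    let g₁ : A₁[X] := gm /ₘ (X - C r₀)
    have hmul : (X - C r₀) * g₁ = gm := Polynomial.mul_divByMonic_eq_iff_isRoot.mpr hroot
    have hg₁_monic : g₁.Monic := by
      apply Polynomial.Monic.of_mul_monic_left (Polynomial.monic_X_sub_C r₀)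
      rw [hmul]; exact hgm_monic
    have hg₁_deg : g₁.natDegree = n := by
      have h1 : gm.natDegree = n + 1 := by
        rw [← hdeg]; exact hg.natDegree_map _
      have h2 := Polynomial.Monic.natDegree_mul (Polynomial.monic_X_sub_C r₀) hg₁_monic
      rw [hmul, h1, Polynomial.natDegree_X_sub_C] at h2
      omega
    have hgm_sep : gm.Separable := hsep.map
    have hg₁_sep : g₁.Separable := by
      rw [← hmul] at hgm_sep
      exact hgm_sep.of_mul_right
    have hunit : IsUnit (g₁.eval r₀) := by
      obtain ⟨a, b, hab⟩ := hgm_sep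
      have h1 := congrArg (Polynomial.eval r₀) hab
      have h2 : (Polynomial.derivative gm).eval r₀ = g₁.eval r₀ := by
        rw [← hmul, Polynomial.derivative_mul]
        simp
      rw [Polynomial.eval_add, Polynomial.eval_mul, Polynomial.eval_mul, hroot.eq_zero, mul_zero,
        zero_add, h2, Polynomial.eval_one] at h1
      exact IsUnit.of_mul_eq_one _ (by rw [mul_comm]; exact h1)
    obtain ⟨Ω, instΩ, instAlg, ρ₁, r', hρ₁, hprod, hunits⟩ := ih A₁ g₁ hg₁_monic hg₁_sep hg₁_deg
    letI : Algebra A Ω := Algebra.compHom Ω (algebraMap A A₁)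
    haveI : IsScalarTower A A₁ Ω := IsScalarTower.of_algebraMap_eq (fun _ => rfl)
    refine ⟨Ω, instΩ, inferInstance, ρ₀ ∘ₗ (ρ₁.restrictScalars A),
      Fin.cons (algebraMap A₁ Ω r₀) r', ?_, ?_, ?_⟩
    · rw [LinearMap.comp_apply, LinearMap.restrictScalars_apply, hρ₁, hρ₀]
    · have e : g.map (algebraMap A Ω) = gm.map (algebraMap A₁ Ω) := by
        rw [Polynomial.map_map]
        rfl
      rw [e, ← hmul, Polynomial.map_mul, hprod, Fin.prod_univ_succ]
      simp
    · have hfac : ∀ j : Fin n, IsUnit (algebraMap A₁ Ω r₀ - r' j) := by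
        intro j
        have h1 : (g₁.map (algebraMap A₁ Ω)).eval (algebraMap A₁ Ω r₀) =
            algebraMap A₁ Ω (g₁.eval r₀) := by
          rw [Polynomial.eval_map, Polynomial.eval₂_at_apply]
        have h2 : IsUnit ((g₁.map (algebraMap A₁ Ω)).eval (algebraMap A₁ Ω r₀)) := by
          rw [h1]; exact hunit.map _
        rw [hprod, Polynomial.eval_prod] at h2
        apply isUnit_of_dvd_unit _ h2
        have := Finset.dvd_prod_of_mem (fun i => Polynomial.eval (algebraMap A₁ Ω r₀) (X - C (r' i)))
          (Finset.mem_univ j)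
        simpa using this
      intro i j
      refine Fin.cases ?_ (fun i' => ?_) i <;> refine Fin.cases ?_ (fun j' => ?_) j
      · intro hij; exact absurd rfl hij
      · intro _
        rw [Fin.cons_zero, Fin.cons_succ]
        exact hfac j'
      · intro _
        rw [Fin.cons_zero, Fin.cons_succ]
        have := (hfac i').neg
        rwa [neg_sub] at this
      · intro hij
        rw [Fin.cons_succ, Fin.cons_succ]
        exact hunits i' j' (fun h => hij (by rw [h]))

end Groth.Agent.H9.PLY
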