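import Mathlib
import Groth.Prelude.Def_PolLaw
import Groth.Agent.Lib.Helper9.Misc.PLY1
import Groth.Agent.Lib.Helper9.Misc.PLU4
import Groth.Agent.Lib.Helper9.Misc.PL4

/-! Helper9: S13700 — the kernel of a multiplicative law commutes with base change to A[X]/(g), g monic separable -/
set_option linter.style.haveILetI false

namespace Groth.Agent.H9.PLY
open scoped TensorProduct
open Groth.Agent.H9.PLR Groth.Agent.H9.PLU
open Polynomial

universe u
variable {A : Type u} [CommRing A] {B : Type u} [CommRing B] [Algebra A B]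

/-- descent of kernel membership along an algebra with a linear retraction -/
theorem mem_ker_of_retraction (F : B →ₚₗ[A] A) (Ω : Type u) [CommRing Ω] [Algebra A Ω]
    (ρ : Ω →ₗ[A] A) (hρ : ρ 1 = 1) (b : B) (h : (1 : Ω) ⊗ₜ[A] b ∈ PolLaw.kerBC F Ω) :
    b ∈ PolLaw.ker F := by
  intro S _ _ x w
  let ι : S →ₐ[A] Ω ⊗[A] S := Algebra.TensorProduct.includeRight
  have h1 := h (Ω ⊗[A] S) (Algebra.TensorProduct.map ι (AlgHom.id A B) x)
    (Algebra.TensorProduct.map ι (AlgHom.id A B) w)
  rw [Algebra.TensorProduct.map_tmul, map_one, AlgHom.id_apply] at h1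
  have e : (1 : Ω ⊗[A] S) ⊗ₜ[A] b = Algebra.TensorProduct.map ι (AlgHom.id A B) ((1 : S) ⊗ₜ[A] b) := by
    rw [Algebra.TensorProduct.map_tmul, map_one, AlgHom.id_apply]
  rw [e, ← map_mul, ← map_add] at h1
  have h2 := congrArg (TensorProduct.rid A (Ω ⊗[A] S)) h1
  change hat F (Ω ⊗[A] S) _ = hat F (Ω ⊗[A] S) _ at h2
  rw [hat_map, hat_map] at h2
  let lam : Ω ⊗[A] S →ₗ[A] S := (TensorProduct.lid A S).toLinearMap ∘ₗ ρ.rTensor S
  have hlam : ∀ s : S, lam (ι s) = s := by
    intro s
    show TensorProduct.lid A S (ρ.rTensor S ((1 : Ω) ⊗ₜ[A] s)) = s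
    rw [LinearMap.rTensor_tmul, hρ, TensorProduct.lid_tmul, one_smul]
  have h3 := congrArg lam h2
  rw [hlam, hlam] at h3
  unfold hat at h3
  exact (TensorProduct.rid A S).injective h3

/-- representation along a basis of the left factor -/
lemma exists_rep_left {A' : Type u} [CommRing A'] [Algebra A A'] {ι : Type*} [Fintype ι]
    (ℬ : Module.Basis ι A A') (y : A' ⊗[A] B) : ∃ c : ι → B, y = ∑ i, ℬ i ⊗ₜ[A] c i := by
  induction y using TensorProduct.induction_on with
  | zero => exact ⟨fun _ => 0, by simp⟩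
  | tmul a b =>
    refine ⟨fun i => ℬ.repr a i • b, ?_⟩
    conv_lhs => rw [← ℬ.sum_repr a, TensorProduct.sum_tmul]
    refine Finset.sum_congr rfl fun i _ => ?_
    rw [TensorProduct.smul_tmul]
  | add x y hx hy =>
    obtain ⟨c, rfl⟩ := hx
    obtain ⟨c', rfl⟩ := hy
    refine ⟨fun i => c i + c' i, ?_⟩
    rw [← Finset.sum_add_distrib]
    refine Finset.sum_congr rfl fun i _ => ?_
    rw [TensorProduct.tmul_add]

theorem S13700_main {d : ℕ} (F : PolLaw.MulLaw A B A d) (g : Polynomial A) (hg : g.Monic)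
    (hsep : g.Separable) :
    (PolLaw.ker F.law).map (Algebra.TensorProduct.includeRight : B →ₐ[A] AdjoinRoot g ⊗[A] B) =
      PolLaw.kerBC F.law (AdjoinRoot g) := by
  classical
  apply le_antisymm
  · rw [Ideal.map_le_iff_le_comap]
    intro b hb
    exact Groth.Agent.H9.PL4.one_tmul_mem_kerBC F.law (AdjoinRoot g) b hb
  · intro y hy
    obtain ⟨Ω, instΩ, instAlg, ρ, r, hρ, hprod, hunits⟩ :=
      exists_splitting g.natDegree A g hg hsep rfl
    let pb := AdjoinRoot.powerBasis' hg
    let ℬ : Module.Basis (Fin g.natDegree) A (AdjoinRoot g) := pb.basis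
    have hℬ : ∀ i : Fin g.natDegree, ℬ i = AdjoinRoot.root g ^ (i : ℕ) := by
      intro i
      exact PowerBasis.basis_eq_pow pb i
    obtain ⟨c, rfl⟩ := exists_rep_left (B := B) ℬ y
    -- the evaluation maps
    have hroot : ∀ j : Fin g.natDegree, g.eval₂ (Algebra.ofId A Ω : A →+* Ω) (r j) = 0 := by
      intro j
      have : (g.map (algebraMap A Ω)).eval (r j) = 0 := by
        rw [hprod, Polynomial.eval_prod]
        apply Finset.prod_eq_zero (Finset.mem_univ j)
        simp
      rw [Polynomial.eval_map] at this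
      exact this
    let ev : Fin g.natDegree → (AdjoinRoot g →ₐ[A] Ω) := fun j =>
      AdjoinRoot.liftAlgHom g (Algebra.ofId A Ω) (r j) (hroot j)
    have hev : ∀ (j i : Fin g.natDegree), ev j (ℬ i) = r j ^ (i : ℕ) := by
      intro j i
      rw [hℬ, map_pow]
      congr 1
      exact AdjoinRoot.liftAlgHom_root g _ _ _
    -- the conjugates of `y`
    have hyj : ∀ j : Fin g.natDegree,
        (∑ i : Fin g.natDegree, (r j ^ (i : ℕ)) ⊗ₜ[A] c i : Ω ⊗[A] B) ∈ PolLaw.kerBC F.law Ω := by
      intro j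
      have := kerBC_map F.law (ev j) _ hy
      rw [map_sum] at this
      convert this using 1
      refine Finset.sum_congr rfl fun i _ => ?_
      rw [Algebra.TensorProduct.map_tmul, hev, AlgHom.id_apply]
    -- Vandermonde
    let V : Matrix (Fin g.natDegree) (Fin g.natDegree) Ω := Matrix.vandermonde r
    have hdet : IsUnit V.det := by
      rw [Matrix.det_vandermonde]
      apply IsUnit.prod_univ_iff.mpr ?_
      intro i
      rw [IsUnit.prod_iff]
      intro j hj
      apply hunits
      rw [Finset.mem_Ioi] at hj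
      exact (ne_of_lt hj).symm
    have hWV : V⁻¹ * V = 1 := Matrix.nonsing_inv_mul V hdet
    have hci : ∀ i : Fin g.natDegree, (1 : Ω) ⊗ₜ[A] c i ∈ PolLaw.kerBC F.law Ω := by
      intro i
      have h1 : (∑ j : Fin g.natDegree, V⁻¹ i j •
          (∑ i' : Fin g.natDegree, (r j ^ (i' : ℕ)) ⊗ₜ[A] c i' : Ω ⊗[A] B)) ∈ PolLaw.kerBC F.law Ω := by
        apply Ideal.sum_mem
        intro j _
        exact Submodule.smul_of_tower_mem _ _ (hyj j)
      have h2 : (∑ j : Fin g.natDegree, V⁻¹ i j •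
          (∑ i' : Fin g.natDegree, (r j ^ (i' : ℕ)) ⊗ₜ[A] c i' : Ω ⊗[A] B)) = (1 : Ω) ⊗ₜ[A] c i := by
        simp_rw [Finset.smul_sum, TensorProduct.smul_tmul', smul_eq_mul]
        rw [Finset.sum_comm]
        simp_rw [← TensorProduct.sum_tmul]
        have h3 : ∀ i' : Fin g.natDegree, ∑ j : Fin g.natDegree, V⁻¹ i j * r j ^ (i' : ℕ) =
            (1 : Matrix (Fin g.natDegree) (Fin g.natDegree) Ω) i i' := by
          intro i'
          rw [← hWV, Matrix.mul_apply]
          rfl
        simp_rw [h3, Matrix.one_apply]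
        rw [Finset.sum_eq_single i]
        · rw [if_pos rfl]
        · intro i' _ hne
          rw [if_neg (Ne.symm hne), TensorProduct.zero_tmul]
        · intro h; exact absurd (Finset.mem_univ i) h
      rw [h2] at h1
      exact h1
    apply Ideal.sum_mem
    intro i _
    have hk := mem_ker_of_retraction F.law Ω ρ hρ (c i) (hci i)
    have : ℬ i ⊗ₜ[A] c i = (ℬ i ⊗ₜ[A] (1 : B)) * ((1 : AdjoinRoot g) ⊗ₜ[A] c i) := by
      rw [Algebra.TensorProduct.tmul_mul_tmul, mul_one, one_mul]
    rw [this]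
    exact Ideal.mul_mem_left _ _ (Ideal.mem_map_of_mem _ hk)

end Groth.Agent.H9.PLY
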