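import Mathlib
import Groth.Prelude.Def_PolLaw
import Groth.Agent.Lib.Helper9.Misc.PLZ5
import Groth.Agent.Lib.Helper9.Misc.PLR3

/-! Helper9: surjectivity of Iversen canonical map omega : Gamma^{e+1}(B) ⊗ B → Gamma^e(B) ⊗ B -/
set_option linter.style.haveILetI false

namespace Groth.Agent.H9.PLZ
open scoped TensorProduct
open Groth.Agent.H9.PLR
open Polynomial

universe u
variable {A : Type u} [CommRing A]

section theta
variable (S : Type u) [CommRing S] [Algebra A S]
variable {Q Q' : Type u} [CommRing Q] [Algebra A Q] [CommRing Q'] [Algebra A Q']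

/-- naturality of `Θ` in the second factor -/
lemma Θ_nat (f : Q →ₐ[A] Q') (w : S[X] ⊗[A] Q) :
    Θ S Q' (Algebra.TensorProduct.map (AlgHom.id A S[X]) f w) =
      Polynomial.map (Algebra.TensorProduct.map (AlgHom.id A S) f : S ⊗[A] Q →+* S ⊗[A] Q')
        (Θ S Q w) := by
  induction w using TensorProduct.induction_on with
  | zero => simp
  | tmul p q =>
    rw [Algebra.TensorProduct.map_tmul, Θ_tmul, Θ_tmul, Polynomial.map_mul, Polynomial.map_C,
      Polynomial.map_map, AlgHom.id_apply]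
    congr 2
    ext s
    simp
  | add x y hx hy => simp only [map_add, Polynomial.map_add, hx, hy]

/-- the constant coefficient of `Θ z` is the specialisation `X ↦ 0` -/
lemma Θ_coeff_zero (z : S[X] ⊗[A] Q) :
    (Θ S Q z).coeff 0 = Algebra.TensorProduct.map
      ((Polynomial.aeval (0 : S) : S[X] →ₐ[S] S).restrictScalars A) (AlgHom.id A Q) z := by
  induction z using TensorProduct.induction_on with
  | zero => simp
  | tmul p q =>
    rw [Θ_tmul, Polynomial.coeff_mul_C, Polynomial.coeff_map, Algebra.TensorProduct.map_tmul]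
    simp [Polynomial.coeff_zero_eq_aeval_zero]
  | add x y hx hy => simp only [map_add, Polynomial.coeff_add, hx, hy]

end theta

/-- division by a monic linear polynomial descends along ring maps -/
lemma coeff_mem_range_of_mul {R R' : Type u} [CommRing R] [CommRing R'] (f : R →+* R')
    (G : R'[X]) (ξ₀ : R) (H₀ : R[X])
    (h : G * (X + C (f ξ₀)) = H₀.map f) (k : ℕ) : G.coeff k ∈ f.range := by
  have hmonic : (X + C ξ₀ : R[X]).Monic := Polynomial.monic_X_add_C ξ₀
  have h1 : (X + C (f ξ₀) : R'[X]) = (X + C ξ₀ : R[X]).map f := by simp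
  have h2 : G = (H₀ /ₘ (X + C ξ₀)).map f := by
    rw [Polynomial.map_divByMonic f hmonic, ← h, h1, mul_comm,
      Polynomial.mul_divByMonic_cancel_left _ (hmonic.map f)]
  rw [h2, Polynomial.coeff_map]
  exact ⟨_, rfl⟩


section main
variable {B Cd Ce : Type u} [CommRing B] [Algebra A B]
  [CommRing Cd] [Algebra A Cd] [CommRing Ce] [Algebra A Ce]

/-- `S ⊗ f` as an `A`-algebra map -/
noncomputable abbrev lT (S : Type u) [CommSemiring S] [Algebra A S] {Q Q' : Type u} [CommRing Q] [Algebra A Q]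
    [CommRing Q'] [Algebra A Q'] (f : Q →ₐ[A] Q') : S ⊗[A] Q →ₐ[A] S ⊗[A] Q' :=
  Algebra.TensorProduct.map (AlgHom.id A S) f

lemma lTensor_eq_lT (S : Type u) [CommSemiring S] [Algebra A S] {Q Q' : Type u} [CommRing Q] [Algebra A Q]
    [CommRing Q'] [Algebra A Q'] (f : Q →ₐ[A] Q') (z : S ⊗[A] Q) :
    f.toLinearMap.lTensor S z = lT S f z := by
  induction z using TensorProduct.induction_on with
  | zero => simp
  | tmul s q => rfl
  | add x y hx hy => simp only [map_add, hx, hy]

lemma lT_rTensor {S S' : Type u} [CommSemiring S] [Algebra A S] [CommSemiring S'] [Algebra A S']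
    {Q Q' : Type u} [CommRing Q] [Algebra A Q]
    [CommRing Q'] [Algebra A Q'] (f : Q →ₐ[A] Q') (φ : S →ₐ[A] S') (z : S ⊗[A] Q) :
    lT S' f (Algebra.TensorProduct.map φ (AlgHom.id A Q) z) =
      Algebra.TensorProduct.map φ (AlgHom.id A Q') (lT S f z) := by
  induction z using TensorProduct.induction_on with
  | zero => simp
  | tmul s q => simp
  | add x y hx hy => simp only [map_add, hx, hy]


/-- the translated generic point `x + X` of `S[X] ⊗ B` -/
noncomputable def xT (S : Type u) [CommRing S] [Algebra A S] (x : S ⊗[A] B) : S[X] ⊗[A] B :=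
  inc S B x + (X : S[X]) ⊗ₜ[A] (1 : B)

lemma Θ_xT (S : Type u) [CommRing S] [Algebra A S] (x : S ⊗[A] B) :
    Θ S B (xT S x) = X + C x := by
  rw [xT, map_add, Θ_inc, Θ_X, add_comm]

lemma spec_xT (S : Type u) [CommRing S] [Algebra A S] (x : S ⊗[A] B) :
    Algebra.TensorProduct.map ((Polynomial.aeval (0 : S) : S[X] →ₐ[S] S).restrictScalars A)
      (AlgHom.id A B) (xT S x) = x := by
  rw [xT, map_add, Algebra.TensorProduct.map_tmul]
  have h1 : ((Polynomial.aeval (0 : S) : S[X] →ₐ[S] S).restrictScalars A) X = 0 := by simp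
  rw [h1, TensorProduct.zero_tmul, add_zero]
  induction x using TensorProduct.induction_on with
  | zero => simp
  | tmul s b => simp
  | add x y hx hy => simp only [map_add, hx, hy]

theorem S13399_main (e : ℕ)
    (γd : PolLaw.MulLaw A B Cd (e + 1))
    (γe : PolLaw.MulLaw A B Ce e) (hγe : PolLaw.IsGammaD γe)
    (ω : Cd ⊗[A] B →ₐ[A] Ce ⊗[A] B)
    (hω : ∀ (S : Type u) [CommSemiring S] [Algebra A S] (x y : S ⊗[A] B),
      ω.toLinearMap.lTensor S
        ((Algebra.TensorProduct.includeLeft : Cd →ₐ[A] Cd ⊗[A] B).toLinearMap.lTensor S (γd.law.toFun' S x) *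
          (Algebra.TensorProduct.includeRight : B →ₐ[A] Cd ⊗[A] B).toLinearMap.lTensor S y) =
      (Algebra.TensorProduct.includeLeft : Ce →ₐ[A] Ce ⊗[A] B).toLinearMap.lTensor S (γe.law.toFun' S x) *
        (Algebra.TensorProduct.includeRight : B →ₐ[A] Ce ⊗[A] B).toLinearMap.lTensor S (x * y)) :
    Function.Surjective ω := by
  set iLd : Cd →ₐ[A] Cd ⊗[A] B := Algebra.TensorProduct.includeLeft with hiLd
  set iRd : B →ₐ[A] Cd ⊗[A] B := Algebra.TensorProduct.includeRight with hiRd
  set iLe : Ce →ₐ[A] Ce ⊗[A] B := Algebra.TensorProduct.includeLeft with hiLe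
  set iRe : B →ₐ[A] Ce ⊗[A] B := Algebra.TensorProduct.includeRight with hiRe
  have hω' : ∀ (S : Type u) [CommSemiring S] [Algebra A S] (x y : S ⊗[A] B),
      lT S ω (lT S iLd (γd.law.toFun' S x) * lT S iRd y) =
        lT S iLe (γe.law.toFun' S x) * lT S iRe (x * y) := by
    intro S _ _ x y
    have := hω S x y
    simpa only [lTensor_eq_lT] using this
  -- Claim 1
  have c1 : ∀ (S : Type u) [CommSemiring S] [Algebra A S] (y : S ⊗[A] B),
      lT S ω (lT S iRd y) = lT S iRe y := by
    intro S _ _ y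
    have := hω' S 1 y
    rwa [(γd.mult S).1, (γe.mult S).1, map_one, map_one, one_mul, one_mul, one_mul] at this
  -- Claim 2'
  have c2 : ∀ (S : Type u) [CommSemiring S] [Algebra A S] (x : S ⊗[A] B),
      lT S ω (lT S iLd (γd.law.toFun' S x)) = lT S iLe (γe.law.toFun' S x) * lT S iRe x := by
    intro S _ _ x
    have := hω' S x 1
    rwa [map_one, mul_one, mul_one] at this
  -- Claim 2
  have c3 : ∀ (S : Type u) [CommRing S] [Algebra A S] (x : S ⊗[A] B),
      lT S iLe (γe.law.toFun' S x) ∈ (lT S ω).range := by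
    intro S _ _ x
    have h1 := c2 S[X] (xT S x)
    have h2 := congrArg (Θ S (Ce ⊗[A] B)) h1
    rw [map_mul, Θ_nat, Θ_nat S iRe, Θ_xT, Polynomial.map_add, Polynomial.map_X, Polynomial.map_C] at h2
    have h2' : ((lT S iRe : S ⊗[A] B →+* S ⊗[A] (Ce ⊗[A] B)) x) =
        (lT S ω : S ⊗[A] (Cd ⊗[A] B) →+* S ⊗[A] (Ce ⊗[A] B)) (lT S iRd x) := (c1 S x).symm
    rw [h2'] at h2
    have h3 := coeff_mem_range_of_mul (lT S ω : S ⊗[A] (Cd ⊗[A] B) →+* S ⊗[A] (Ce ⊗[A] B)) _
      (lT S iRd x) _ h2.symm 0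
    rw [Θ_coeff_zero, ← lT_rTensor, ← rTensor_eq_map, PolynomialLaw.isCompat_apply',
      rTensor_eq_map, spec_xT] at h3
    exact h3
  -- Claim 3
  have c4 : ∀ c : Ce, iLe c ∈ ω.range := by
    intro c
    have hc : c ∈ coeffSpan γe.law := by rw [coeffSpan_eq_top γe hγe]; trivial
    unfold coeffSpan at hc
    induction hc using Submodule.span_induction with
    | zero => rw [map_zero]; exact Subalgebra.zero_mem _
    | add x y _ _ hx hy => rw [map_add]; exact Subalgebra.add_mem _ hx hy
    | smul a x _ hx => rw [map_smul]; exact Subalgebra.smul_mem _ hx a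
    | mem x hx =>
      obtain ⟨S, _, _, p, ℓ, rfl⟩ := hx
      let _ : CommRing S := commRingOfAlg A S
      obtain ⟨w, hw⟩ := c3 S p
      refine ⟨ev ℓ w, ?_⟩
      have hw' : lT S ω w = lT S iLe (γe.law.toFun' S p) := hw
      have := ev_lTensor ω.toLinearMap ℓ w
      rw [lTensor_eq_lT, hw', ← lTensor_eq_lT, ev_lTensor] at this
      exact this.symm
  -- Claim 4
  have c5 : ∀ b : B, iRe b ∈ ω.range := by
    intro b
    refine ⟨iRd b, ?_⟩
    have h := c1 A ((1 : A) ⊗ₜ[A] b)
    have h' := congrArg (ev (LinearMap.id : A →ₗ[A] A)) h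
    simpa using h'
  intro z
  change z ∈ ω.range
  induction z using TensorProduct.induction_on with
  | zero => exact Subalgebra.zero_mem _
  | tmul c b =>
    have : c ⊗ₜ[A] b = iLe c * iRe b := by
      simp [hiLe, hiRe]
    rw [this]
    exact Subalgebra.mul_mem _ (c4 c) (c5 b)
  | add x y hx hy => exact Subalgebra.add_mem _ hx hy

end main

end Groth.Agent.H9.PLZ
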