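import Mathlib
import Groth.Prelude.Def_CohB1
import Groth.Agent.Lib.Helper5.AG.ProjProper

set_option autoImplicit false
set_option linter.unusedSectionVars false
universe u
open CategoryTheory AlgebraicGeometry HomogeneousLocalization

namespace Groth.Agent.H9.PNZ

section
variable (n : ℕ) (k : Type u) [CommRing k]

lemma X_mem (j : Fin (n+1)) :
    (MvPolynomial.X j : MvPolynomial (Fin (n+1)) k) ∈ CohB1.polyGrading n k 1 :=
  (MvPolynomial.mem_homogeneousSubmodule 1 _).mpr (MvPolynomial.isHomogeneous_X k j)

/-- the chart ring -/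
abbrev Aw (i : Fin (n+1)) :=
  Away (CohB1.polyGrading n k) (MvPolynomial.X i : MvPolynomial (Fin (n+1)) k)

/-- the coordinate function `X_j / X_i` -/
noncomputable def tt (i j : Fin (n+1)) : Aw n k i :=
  Away.isLocalizationElem (X_mem n k i) (X_mem n k j)

lemma tt_self (i : Fin (n+1)) : tt n k i i = 1 := by
  apply val_injective
  rw [tt, Away.val_mk, val_one]
  exact Localization.mk_self ⟨_, _⟩

lemma adjoin_X_eq_top :
    Algebra.adjoin (CohB1.polyGrading n k 0)
      (Set.range fun j : Fin (n+1) => (MvPolynomial.X j : MvPolynomial (Fin (n+1)) k)) = ⊤ := by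
  rw [eq_top_iff]
  rintro p -
  induction p using MvPolynomial.induction_on with
  | C c =>
    have : (MvPolynomial.C c : MvPolynomial (Fin (n+1)) k) =
        algebraMap (CohB1.polyGrading n k 0) _ (algebraMap k (CohB1.polyGrading n k 0) c) := rfl
    rw [this]; exact Subalgebra.algebraMap_mem _ _
  | add p q hp hq => exact Subalgebra.add_mem _ hp hq
  | mul_X p j hp => exact Subalgebra.mul_mem _ hp (Algebra.subset_adjoin ⟨j, rfl⟩)

lemma mk_prod_eq (i : Fin (n+1)) (a : ℕ) (ai : Fin (n+1) → ℕ) (hai : ∑ j, ai j • 1 = a • 1) :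
    Away.mk (CohB1.polyGrading n k) (X_mem n k i) a
      (∏ j, (MvPolynomial.X j : MvPolynomial (Fin (n+1)) k) ^ ai j)
      (hai ▸ SetLike.prod_pow_mem_graded _ _ _ _ fun j _ ↦ X_mem n k j) =
      ∏ j, tt n k i j ^ ai j := by
  have hai' : ∑ j, ai j = a := by simpa using hai
  apply (show Function.Injective (algebraMap (Aw n k i)
    (Localization.Away (MvPolynomial.X i : MvPolynomial (Fin (n+1)) k))) from val_injective _)
  simp only [map_pow, map_prod]
  simp only [HomogeneousLocalization.algebraMap_apply, tt, Away.val_mk, Localization.mk_pow,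
    Localization.mk_prod]
  congr 1
  · simp
  · ext; simp [Finset.prod_pow_eq_pow_sum, hai']

end

section
variable {n : ℕ} {k : Type u} [CommRing k] {L : Type u} [CommRing L] [Algebra k L]

/-- evaluation of the chart ring at a vector with `i`-th coordinate one -/
noncomputable def evAw (i : Fin (n+1)) (v : Fin (n+1) → L) (hv : v i = 1) : Aw n k i →+* L :=
  (IsLocalization.Away.lift
      (S := Localization.Away (MvPolynomial.X i : MvPolynomial (Fin (n+1)) k))
      (MvPolynomial.X i : MvPolynomial (Fin (n+1)) k)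
      (g := (MvPolynomial.aeval v).toRingHom) (by simp [hv])).comp
    (algebraMap _ _)

lemma evAw_tt (i j : Fin (n+1)) (v : Fin (n+1) → L) (hv : v i = 1) :
    evAw (k := k) i v hv (tt n k i j) = v j := by
  unfold evAw tt
  rw [RingHom.comp_apply, HomogeneousLocalization.algebraMap_apply, Away.val_mk,
    Localization.mk_eq_mk'_apply, IsLocalization.Away.lift, IsLocalization.lift_mk'_spec]
  simp [hv]

lemma evAw_algebraMap (i : Fin (n+1)) (v : Fin (n+1) → L) (hv : v i = 1) (c : k) :
    evAw (k := k) i v hv (fromZeroRingHom (CohB1.polyGrading n k) _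
      (algebraMap k (CohB1.polyGrading n k 0) c)) = algebraMap k L c := by
  unfold evAw
  have h1 : (algebraMap (Aw n k i)
      (Localization.Away (MvPolynomial.X i : MvPolynomial (Fin (n+1)) k)))
      (fromZeroRingHom (CohB1.polyGrading n k) _ (algebraMap k (CohB1.polyGrading n k 0) c)) =
      algebraMap (MvPolynomial (Fin (n+1)) k) _ (MvPolynomial.C c) := by
    rw [HomogeneousLocalization.algebraMap_apply]
    simp [HomogeneousLocalization.fromZeroRingHom]
    rfl
  rw [RingHom.comp_apply, h1, IsLocalization.Away.lift_eq]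
  simp

theorem ringHom_ext_Aw (i : Fin (n+1)) (θ θ' : Aw n k i →+* L)
    (h0 : ∀ c : k, θ (fromZeroRingHom (CohB1.polyGrading n k) _
        (algebraMap k (CohB1.polyGrading n k 0) c)) =
      θ' (fromZeroRingHom (CohB1.polyGrading n k) _ (algebraMap k (CohB1.polyGrading n k 0) c)))
    (h1 : ∀ j, θ (tt n k i j) = θ' (tt n k i j)) : θ = θ' := by
  ext z
  have hz : z ∈ (⊤ : Submodule (CohB1.polyGrading n k 0) (Aw n k i)) := trivial
  rw [← Away.span_mk_prod_pow_eq_top (X_mem n k i)
    (fun j => (MvPolynomial.X j : MvPolynomial (Fin (n+1)) k)) (adjoin_X_eq_top n k)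
    (fun _ => 1) (fun j => X_mem n k j)] at hz
  induction hz using Submodule.span_induction with
  | mem z hz =>
    obtain ⟨a, ai, hai, rfl⟩ := hz
    rw [mk_prod_eq n k i a ai hai, map_prod, map_prod]
    exact Finset.prod_congr rfl (fun j _ => by rw [map_pow, map_pow, h1])
  | zero => rw [map_zero, map_zero]
  | add x y _ _ hx hy => rw [map_add, map_add, hx, hy]
  | smul r x _ hx =>
    rw [Algebra.smul_def, map_mul, map_mul, hx]
    congr 1
    obtain ⟨c, rfl⟩ := Groth.Agent.H5.AG.algebraMap_zero_surjective n k r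
    exact h0 c

end

section
variable (n : ℕ) (k : Type u) [CommRing k]

/-- the ideal of the stratum in the chart -/
noncomputable def II (i : Fin (n+1)) : Ideal (Aw n k i) :=
  Ideal.span {z | ∃ j, j < i ∧ z = tt n k i j}

/-- structure map of the stratum ring -/
noncomputable def rho (i : Fin (n+1)) : k →+* Aw n k i ⧸ II n k i :=
  (Ideal.Quotient.mk (II n k i)).comp
    ((fromZeroRingHom (CohB1.polyGrading n k) _).comp (algebraMap k (CohB1.polyGrading n k 0)))

variable (L : Type u) [CommRing L] [Algebra k L]

/-- points of the stratum ring -/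
abbrev Theta (i : Fin (n+1)) : Type u :=
  {θ : Aw n k i ⧸ II n k i →+* L // θ.comp (rho n k i) = algebraMap k L}

/-- normalised coordinate vectors -/
abbrev VV (i : Fin (n+1)) : Type u :=
  {v : Fin (n+1) → L // v i = 1 ∧ ∀ j, j < i → v j = 0}

variable {n k L}

lemma II_le_ker (i : Fin (n+1)) (v : VV n L i) :
    II n k i ≤ RingHom.ker (evAw (k := k) i v.1 v.2.1) := by
  rw [II, Ideal.span_le]
  rintro _ ⟨j, hj, rfl⟩
  show evAw (k := k) i v.1 v.2.1 (tt n k i j) = 0
  rw [evAw_tt, v.2.2 j hj]

/-- the ring hom attached to a vector -/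
noncomputable def thetaOf (i : Fin (n+1)) (v : VV n L i) : Theta n k L i :=
  ⟨Ideal.Quotient.lift (II n k i) (evAw (k := k) i v.1 v.2.1) (fun z hz => II_le_ker i v hz), by
    ext c
    show Ideal.Quotient.lift (II n k i) (evAw (k := k) i v.1 v.2.1)
      (fun z hz => II_le_ker i v hz)
      (Ideal.Quotient.mk (II n k i)
        (fromZeroRingHom (CohB1.polyGrading n k) _ (algebraMap k _ c))) = _
    rw [Ideal.Quotient.lift_mk, evAw_algebraMap]⟩

lemma thetaOf_mk (i : Fin (n+1)) (v : VV n L i) (z : Aw n k i) :
    (thetaOf (k := k) i v).1 (Ideal.Quotient.mk _ z) = evAw (k := k) i v.1 v.2.1 z := by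
  show Ideal.Quotient.lift (II n k i) (evAw (k := k) i v.1 v.2.1)
    (fun z hz => II_le_ker i v hz) (Ideal.Quotient.mk _ z) = _
  rw [Ideal.Quotient.lift_mk]

/-- the vector attached to a ring hom -/
noncomputable def vecOf (i : Fin (n+1)) (θ : Theta n k L i) : VV n L i :=
  ⟨fun j => θ.1 (Ideal.Quotient.mk _ (tt n k i j)), by
    show θ.1 (Ideal.Quotient.mk _ (tt n k i i)) = 1
    rw [tt_self, map_one, map_one], fun j hj => by
    show θ.1 (Ideal.Quotient.mk (II n k i) (tt n k i j)) = 0
    have h : Ideal.Quotient.mk (II n k i) (tt n k i j) = 0 :=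
      Ideal.Quotient.eq_zero_iff_mem.mpr (Ideal.subset_span ⟨j, hj, rfl⟩)
    rw [h, map_zero]⟩

/-- points of the stratum are normalised vectors -/
noncomputable def thetaEquiv (i : Fin (n+1)) : Theta n k L i ≃ VV n L i where
  toFun := vecOf i
  invFun := thetaOf i
  left_inv θ := by
    apply Subtype.ext
    apply Ideal.Quotient.ringHom_ext
    apply ringHom_ext_Aw
    · intro c
      rw [RingHom.comp_apply, RingHom.comp_apply, thetaOf_mk, evAw_algebraMap]
      exact (DFunLike.congr_fun θ.2 c).symm
    · intro j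
      rw [RingHom.comp_apply, RingHom.comp_apply, thetaOf_mk, evAw_tt]
      rfl
  right_inv v := by
    apply Subtype.ext
    funext j
    show (thetaOf (k := k) i v).1 (Ideal.Quotient.mk _ (tt n k i j)) = v.1 j
    rw [thetaOf_mk, evAw_tt]

theorem card_VV [Finite L] (i : Fin (n+1)) : Nat.card (VV n L i) = Nat.card L ^ (n - i) := by
  classical
  let e : VV n L i ≃ ({j : Fin (n+1) // i < j} → L) :=
    { toFun := fun v j => v.1 j.1
      invFun := fun w => ⟨fun j => if h : i < j then w ⟨j, h⟩ else if j = i then 1 else 0,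
        by simp, fun j hj => by
          have h1 : ¬ i < j := not_lt.mpr hj.le
          have h2 : j ≠ i := hj.ne
          simp [h1, h2]⟩
      left_inv := fun v => by
        apply Subtype.ext; funext j
        show (if h : i < j then v.1 j else if j = i then 1 else 0) = v.1 j
        rcases lt_trichotomy i j with h | h | h
        · simp [h]
        · subst h; simp [v.2.1]
        · have h1 : ¬ i < j := not_lt.mpr h.le
          simp [h1, h.ne, v.2.2 j h]
      right_inv := fun w => by
        funext j
        show (if h : i < j.1 then w ⟨j.1, h⟩ else if j.1 = i then 1 else 0) = w j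
        simp [j.2] }
  have hc : Nat.card {j : Fin (n+1) // i < j} = n - i := by
    rw [Nat.card_eq_fintype_card, Fintype.card_subtype]
    have : Finset.univ.filter (fun j : Fin (n+1) => i < j) = Finset.Ioi i := by ext; simp
    rw [this, Fin.card_Ioi]; omega
  rw [Nat.card_congr e, Nat.card_fun, hc]

theorem card_Theta [Finite L] (i : Fin (n+1)) :
    Nat.card (Theta n k L i) = Nat.card L ^ (n - i) := by
  rw [Nat.card_congr (thetaEquiv i), card_VV]

end

end Groth.Agent.H9.PNZ
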