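import Mathlib
import Groth.Prelude.Def_ResDeg
import Groth.Prelude.Def_W4c1zetahwZeta
import Groth.Prelude.Def_SgaExt
import Groth.Agent.Lib.Helper6.PC6
import Groth.Agent.Lib.Helper9.Misc.ZTC1

set_option autoImplicit false
set_option linter.style.haveILetI false
set_option linter.unusedSectionVars false
set_option linter.unusedVariables false

universe u

open AlgebraicGeometry CategoryTheory CategoryTheory.Limits

namespace Groth.Agent.H9.ZTC

variable {k : Type u} [Field k] [Finite k] {X : Scheme.{u}} (f : X ⟶ Spec (CommRingCat.of k))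
  [LocallyOfFiniteType f] [QuasiCompact f]

include f in
theorem finite_hom (L : Type u) [Field L] [Finite L] :
    Finite (Spec (CommRingCat.of L) ⟶ X) := by
  let φ : ULift.{u} ℤ →+* k := (Int.castRingHom k).comp (ULift.ringEquiv : ULift.{u} ℤ ≃+* ℤ)
  let g : Spec (CommRingCat.of k) ⟶ Spec (CommRingCat.of (ULift.{u} ℤ)) :=
    Spec.map (CommRingCat.ofHom φ)
  have hφ : φ.FiniteType := by
    apply RingHom.FiniteType.of_finite
    unfold RingHom.Finite
    exact @Module.Finite.of_finite _ _ _ _ φ.toAlgebra.toModule _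
  have hg : LocallyOfFiniteType g := by
    rw [HasRingHomProperty.Spec_iff (P := @LocallyOfFiniteType)]
    exact hφ
  have : LocallyOfFiniteType (f ≫ g) := inferInstance
  have : QuasiCompact (f ≫ g) := inferInstance
  exact Groth.Agent.H6.PC.finite_hom (f ≫ g) L

theorem finite_pts (L : Type u) [Field L] [Algebra k L] [Finite L] : Finite (Pts f L) := by
  haveI := finite_hom f L
  unfold Pts
  infer_instance

theorem card_pts (L : Type u) [Field L] [Algebra k L] [Finite L] :
    Nat.card (Pts f L) = Zeta.nPts f (Module.finrank k L) := by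
  classical
  haveI := finite_pts f L
  haveI : Finite (SPts f L) := Finite.of_equiv _ (ptsEquiv f L).symm
  haveI := Fintype.ofFinite (SPts f L)
  set r := Module.finrank k L with hr
  have hrpos : 0 < r := Module.finrank_pos
  rw [← Nat.card_congr (ptsEquiv f L), Nat.card_eq_fintype_card]
  let deg : SPts f L → ℕ := fun s => EGA4loc.residueDegree f s.1
  have hdeg : ∀ s ∈ (Finset.univ : Finset (SPts f L)), deg s ∈ r.divisors := by
    intro s _
    rw [Nat.mem_divisors]
    exact ⟨(fibre_facts f L s.1).1 ⟨s.2⟩, hrpos.ne'⟩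
  rw [← Finset.card_univ, Finset.card_eq_sum_card_fiberwise hdeg]
  unfold Zeta.nPts
  refine Finset.sum_congr rfl (fun e he => ?_)
  have hed : e ∣ r := (Nat.mem_divisors.1 he).1
  have hepos : 0 < e := Nat.pos_of_mem_divisors he
  rw [← Fintype.card_subtype, ← Nat.card_eq_fintype_card]
  unfold Zeta.degCount
  -- fibres have `e` elements
  have hfib : ∀ x : {x : X // IsClosed ({x} : Set X) ∧ EGA4loc.residueDegree f x = e},
      Nonempty ({ι : X.residueField x.1 ⟶ CommRingCat.of L //
        chi f x.1 ≫ ι = CommRingCat.ofHom (algebraMap k L)} ≃ Fin e) := by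
    intro x
    have h1 := (fibre_facts f L x.1).2 (by rw [x.2.2]; exact hed)
    rw [x.2.2] at h1
    haveI : Finite {ι : X.residueField x.1 ⟶ CommRingCat.of L //
        chi f x.1 ≫ ι = CommRingCat.ofHom (algebraMap k L)} :=
      Nat.finite_of_card_ne_zero (by rw [h1]; exact hepos.ne')
    exact ⟨Finite.equivFinOfCardEq h1⟩
  let E1 : {s : SPts f L // deg s = e} ≃
      Σ x : {x : X // IsClosed ({x} : Set X) ∧ EGA4loc.residueDegree f x = e},
        {ι : X.residueField x.1 ⟶ CommRingCat.of L //
          chi f x.1 ≫ ι = CommRingCat.ofHom (algebraMap k L)} :=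
    { toFun := fun s => ⟨⟨s.1.1, isClosed_of_residueDegree_pos f s.1.1 (by
          have : EGA4loc.residueDegree f s.1.1 = e := s.2
          rw [this]; exact hepos), s.2⟩, s.1.2⟩
      invFun := fun t => ⟨⟨t.1.1, t.2⟩, t.1.2.2⟩
      left_inv := fun s => rfl
      right_inv := fun t => rfl }
  rw [Nat.card_congr E1, Nat.card_congr (Equiv.sigmaCongrRight (fun x => (hfib x).some)),
    Nat.card_congr (Equiv.sigmaEquivProd _ _), Nat.card_prod, Nat.card_fin, mul_comm]

end Groth.Agent.H9.ZTC
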