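import Mathlib
import Groth.Prelude.Def_Frob
import Groth.Agent.Lib.Helper9.Misc.FrobDegB
import Groth.Agent.Lib.Helper9.Misc.ZTC2

set_option autoImplicit false
set_option linter.style.haveILetI false
set_option linter.unusedSectionVars false
set_option linter.unusedVariables false

universe u

open AlgebraicGeometry CategoryTheory CategoryTheory.Limits

namespace Groth.Agent.H9.ZTC

section field

variable {k₀ : Type u} (k : Type u) [Field k₀] [Field k] [Algebra k₀ k] (p n : ℕ) [Fact p.Prime]
  [CharP k p] (hk₀ : ∀ c : k₀, c ^ (p ^ n) = c)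

/-- fixed field of the `p^n`-Frobenius -/
def fixedField : IntermediateField k₀ k :=
  Subfield.toIntermediateField ((iterateFrobenius k p n).eqLocusField (RingHom.id k)) (fun c => by
    show iterateFrobenius k p n (algebraMap k₀ k c) = algebraMap k₀ k c
    rw [iterateFrobenius_def, ← map_pow, hk₀])

theorem mem_fixedField (a : k) : a ∈ fixedField k p n hk₀ ↔ a ^ (p ^ n) = a := by
  show iterateFrobenius k p n a = a ↔ _
  rw [iterateFrobenius_def]

/-- the Frobenius as a `k₀`-algebra endomorphism -/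
noncomputable def frobAlg : k →ₐ[k₀] k :=
  { iterateFrobenius k p n with
    commutes' := fun c => by
      show iterateFrobenius k p n (algebraMap k₀ k c) = algebraMap k₀ k c
      rw [iterateFrobenius_def, ← map_pow, hk₀] }

theorem frobAlg_apply (a : k) : frobAlg k p n hk₀ a = a ^ (p ^ n) := by
  show iterateFrobenius k p n a = _
  rw [iterateFrobenius_def]

open Polynomial in
theorem card_fixedField [IsAlgClosed k] (hn : n ≠ 0) :
    Nat.card (fixedField k p n hk₀) = p ^ n := by
  classical
  have hp : 1 < p := (Fact.out : p.Prime).one_lt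
  have hne : (X ^ p ^ n - X : k[X]) ≠ 0 := FiniteField.X_pow_card_pow_sub_X_ne_zero k hn hp
  have key : Fintype.card ((X ^ p ^ n - X : k[X]).rootSet k) = (X ^ p ^ n - X : k[X]).natDegree :=
    card_rootSet_eq_natDegree (galois_poly_separable p _ (dvd_pow_self p hn))
      (IsAlgClosed.splits _)
  rw [FiniteField.X_pow_card_pow_sub_X_natDegree_eq k hn hp] at key
  rw [← key, ← Nat.card_eq_fintype_card]
  apply Nat.card_congr
  refine Equiv.subtypeEquivRight (fun a => ?_)
  rw [mem_fixedField, mem_rootSet]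
  simp only [map_sub, map_pow, aeval_X, sub_eq_zero]
  exact ⟨fun h => ⟨hne, h⟩, fun h => h.2⟩

theorem finite_fixedField [IsAlgClosed k] (hn : n ≠ 0) : Finite (fixedField k p n hk₀) := by
  apply Nat.finite_of_card_ne_zero
  rw [card_fixedField k p n hk₀ hn]
  exact pow_ne_zero _ (Fact.out : p.Prime).ne_zero

theorem finrank_fixedField [Finite k₀] [IsAlgClosed k] (hn : n ≠ 0) (m : ℕ)
    (hm : p ^ n = Nat.card k₀ ^ m) : Module.finrank k₀ (fixedField k p n hk₀) = m := by
  haveI := finite_fixedField k p n hk₀ hn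
  have h1 := Module.natCard_eq_pow_finrank (K := k₀) (V := fixedField k p n hk₀)
  rw [card_fixedField k p n hk₀ hn, hm] at h1
  exact (Nat.pow_right_injective Finite.one_lt_card h1).symm

end field

section scheme

variable {k₀ : Type u} (k : Type u) [Field k₀] [Field k] [Algebra k₀ k] (p n : ℕ) [Fact p.Prime]
  [CharP k p] (hk₀ : ∀ c : k₀, c ^ (p ^ n) = c)
  {X : Scheme.{u}} (f : X ⟶ Spec (CommRingCat.of k₀))
  (Ψ : X ⟶ X) (hΨb : Ψ.base = 𝟙 _) (hΨle : ∀ U : X.Opens, U ≤ Ψ ⁻¹ᵁ U)
  (hΨ : ∀ (U : X.Opens) (s : Γ(X, U)), (Ψ.appLE U U (hΨle U)).hom s = s ^ (p ^ n))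

open Groth.Agent.H9.FrobDegB in
include f hΨb hΨ in
theorem comp_qfrob (u : Spec (CommRingCat.of k) ⟶ X) :
    u ≫ Ψ = Spec.map (CommRingCat.ofHom (iterateFrobenius k p n)) ≫ u := by
  haveI : CharP k₀ p := (algebraMap k₀ k).charP (algebraMap k₀ k).injective p
  haveI : FrobSch.IsCharP X p := FrobSch.IsCharP.of_hom f p
  have h1 : Ψ = frobIter X p n :=
    eq_of_isQFrob (p ^ n) Ψ (frobIter X p n) hΨb (frobIter_base X p n) hΨle (frobIter_le X p n) hΨ
      (frobIter_appLE X p n)
  have h2 : frobIter (Spec (CommRingCat.of k)) p n =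
      Spec.map (CommRingCat.ofHom (iterateFrobenius k p n)) := by
    apply ext_of_isAffine
    ext s
    rw [frobIter_appTop, specMap_appTop_iterateFrobenius]
  rw [h1, ← h2, frobIter_comp]

/-- `k`-points of `X` over `k₀` fixed by `Ψ`. -/
def FixN : Type u :=
  {u : Spec (CommRingCat.of k) ⟶ X //
    u ≫ f = Spec.map (CommRingCat.ofHom (algebraMap k₀ k)) ∧ u ≫ Ψ = u}

theorem toHom_injective (L : Type u) [Field L] [Algebra k₀ L] :
    Function.Injective (fun s : SPts f L => s.toHom f) := by
  intro s s' h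
  apply (ptsEquiv f L).injective
  apply Subtype.ext
  exact h

include hΨb hΨ in
theorem toHom_comp (t : SPts f k) :
    t.toHom f ≫ Ψ = (t.map f (frobAlg k p n hk₀)).toHom f := by
  rw [comp_qfrob k p n f Ψ hΨb hΨle hΨ, SPts.map_toHom]
  rfl

theorem SPts.ext' {L : Type u} [Field L] [Algebra k₀ L] (s s' : SPts f L) (h1 : s.1 = s'.1)
    (h2 : ∀ a : X.residueField s.1, s.2.1.hom a =
      s'.2.1.hom ((X.residueFieldCongr h1).hom.hom a)) : s = s' := by
  obtain ⟨x, ι, hι⟩ := s
  obtain ⟨x', ι', hι'⟩ := s'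
  simp only at h1
  subst h1
  have : ι = ι' := by
    ext a
    have := h2 a
    simpa using this
  subst this
  rfl

theorem map_frobAlg_val (s : SPts f (fixedField k p n hk₀)) :
    (s.map f (fixedField k p n hk₀).val).map f (frobAlg k p n hk₀) =
      s.map f (fixedField k p n hk₀).val := by
  refine SPts.ext' f _ _ rfl (fun a => ?_)
  show frobAlg k p n hk₀ ((s.2.1.hom a : fixedField k p n hk₀) : k) = _
  rw [frobAlg_apply]
  exact (mem_fixedField k p n hk₀ _).1 (s.2.1.hom a).2

include hΨb hΨ in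
theorem toFixN_aux (s : SPts f (fixedField k p n hk₀)) :
    (s.map f (fixedField k p n hk₀).val).toHom f ≫ Ψ =
      (s.map f (fixedField k p n hk₀).val).toHom f := by
  rw [toHom_comp k p n hk₀ f Ψ hΨb hΨle hΨ, map_frobAlg_val]

/-- the map from `E`-points to fixed `k`-points -/
noncomputable def toFixN (s : SPts f (fixedField k p n hk₀)) : FixN k f Ψ :=
  ⟨(s.map f (fixedField k p n hk₀).val).toHom f,
    (ptsEquiv f k (s.map f (fixedField k p n hk₀).val)).2,
    toFixN_aux k p n hk₀ f Ψ hΨb hΨle hΨ s⟩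

include hΨb hΨ in
theorem toFixN_bijective : Function.Bijective (toFixN k p n hk₀ f Ψ hΨb hΨle hΨ) := by
  constructor
  · intro s s' h
    have h1 : (s.map f (fixedField k p n hk₀).val).toHom f =
        (s'.map f (fixedField k p n hk₀).val).toHom f := congrArg Subtype.val h
    have h2 := toHom_injective f k h1
    have h3 : s.1 = s'.1 := congrArg (fun t : SPts f k => t.1) h2
    refine SPts.ext' f _ _ h3 (fun a => ?_)
    obtain ⟨x, ι, hι⟩ := s
    obtain ⟨x', ι', hι'⟩ := s'
    simp only at h3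
    subst h3
    have h4 : ι ≫ CommRingCat.ofHom (fixedField k p n hk₀).val.toRingHom =
        ι' ≫ CommRingCat.ofHom (fixedField k p n hk₀).val.toRingHom := by
      have := eq_of_heq (Sigma.mk.inj_iff.1 h2).2
      exact congrArg Subtype.val this
    have h5 := congrArg (fun t => t.hom a) h4
    simp only [Scheme.residueFieldCongr_refl, Iso.refl_hom, CommRingCat.hom_id, RingHom.id_apply]
    apply Subtype.ext
    exact h5
  · intro u
    set t : SPts f k := (ptsEquiv f k).symm ⟨u.1, u.2.1⟩ with ht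
    have htu : t.toHom f = u.1 := by
      have : (ptsEquiv f k t).1 = u.1 := by rw [ht, Equiv.apply_symm_apply]
      exact this
    have hfix : t.map f (frobAlg k p n hk₀) = t := by
      apply toHom_injective f k
      show (t.map f (frobAlg k p n hk₀)).toHom f = t.toHom f
      rw [← toHom_comp k p n hk₀ f Ψ hΨb hΨle hΨ, htu]
      exact u.2.2
    have hmem : ∀ a : X.residueField t.1, t.2.1.hom a ∈ fixedField k p n hk₀ := by
      intro a
      rw [mem_fixedField, ← frobAlg_apply k p n hk₀]
      have h4 : t.2.1 ≫ CommRingCat.ofHom (frobAlg k p n hk₀).toRingHom = t.2.1 := by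
        have := eq_of_heq (Sigma.mk.inj_iff.1 hfix).2
        exact congrArg Subtype.val this
      exact congrArg (fun t => t.hom a) h4
    let ι' : X.residueField t.1 ⟶ CommRingCat.of (fixedField k p n hk₀) :=
      CommRingCat.ofHom (RingHom.codRestrict t.2.1.hom (fixedField k p n hk₀) hmem)
    have hι' : chi f t.1 ≫ ι' = CommRingCat.ofHom (algebraMap k₀ (fixedField k p n hk₀)) := by
      ext c
      have := congrArg (fun s => s.hom c) t.2.2
      exact this
    refine ⟨⟨t.1, ι', hι'⟩, ?_⟩
    apply Subtype.ext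
    show SPts.toHom f (SPts.map f (fixedField k p n hk₀).val
      (⟨t.1, ι', hι'⟩ : SPts f (fixedField k p n hk₀))) = u.1
    rw [← htu]
    rfl

include hΨb hΨ hk₀ in
theorem card_fixN [Finite k₀] [IsAlgClosed k] [LocallyOfFiniteType f] [QuasiCompact f]
    (hn : n ≠ 0) (m : ℕ) (hm : p ^ n = Nat.card k₀ ^ m) :
    Finite (FixN k f Ψ) ∧ Nat.card (FixN k f Ψ) = Zeta.nPts f m := by
  haveI := finite_fixedField k p n hk₀ hn
  let e : Pts f (fixedField k p n hk₀) ≃ FixN k f Ψ :=
    (ptsEquiv f (fixedField k p n hk₀)).symm.trans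
      (Equiv.ofBijective _ (toFixN_bijective k p n hk₀ f Ψ hΨb hΨle hΨ))
  haveI := finite_pts f (fixedField k p n hk₀)
  refine ⟨Finite.of_equiv _ e, ?_⟩
  rw [← Nat.card_congr e, card_pts f (fixedField k p n hk₀),
    finrank_fixedField k p n hk₀ hn m hm]

end scheme

end Groth.Agent.H9.ZTC
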