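import Mathlib
import Groth.Prelude.Def_ResDeg
import Groth.Prelude.Def_W4c1zetahwZeta
import Groth.Agent.Lib.Helper6.ZetaFormal
import Groth.Agent.Lib.Helper9.Misc.ZTC3

set_option autoImplicit false
set_option linter.style.haveILetI false
set_option linter.unusedSectionVars false
set_option linter.unusedVariables false

universe u

open AlgebraicGeometry CategoryTheory CategoryTheory.Limits

namespace Groth.Agent.H9.ZTG

open Groth.Agent.H9.ZTC

/-- residue degrees along a preimmersion -/
theorem residueDegree_preimmersion_comp {Y X S : Scheme.{u}} (g : Y ⟶ X) [IsPreimmersion g]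
    (f : X ⟶ S) (y : Y) :
    EGA4loc.residueDegree (g ≫ f) y = EGA4loc.residueDegree f (g y) := by
  unfold EGA4loc.residueDegree
  letI a1 := ((g ≫ f).residueFieldMap y).hom.toAlgebra
  letI a2 := (f.residueFieldMap (g y)).hom.toAlgebra
  have hbij : Function.Bijective (g.residueFieldMap y).hom := by
    refine ⟨(g.residueFieldMap y).hom.injective, ?_⟩
    intro b
    obtain ⟨b', rfl⟩ := Y.residue_surjective y b
    obtain ⟨c, rfl⟩ := g.stalkMap_surjective y b'
    refine ⟨X.residue (g y) c, ?_⟩
    have := congrArg (fun t => t.hom c) (Scheme.residue_residueFieldMap g y)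
    simpa using this
  symm
  refine Algebra.finrank_eq_of_equiv_equiv (RingEquiv.refl _)
    (RingEquiv.ofBijective (g.residueFieldMap y).hom hbij) ?_
  ext a
  have := congrArg (fun t => t.hom a) (Scheme.residueFieldMap_comp g f y)
  exact this

section formal

open PowerSeries Groth.Agent.H6.ZF in
theorem zetaFun_eq_prod {k : Type u} [Field k] {X : Scheme.{u}} (f : X ⟶ Spec (CommRingCat.of k))
    {ι : Type*} [Fintype ι] (Y : ι → Scheme.{u}) (h : ∀ i, Y i ⟶ Spec (CommRingCat.of k))
    (hN : ∀ m, Zeta.nPts f m = ∑ i, Zeta.nPts (h i) m) :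
    Zeta.zetaFun f = ∏ i, Zeta.zetaFun (h i) := by
  have h1 : ∀ i ∈ (Finset.univ : Finset ι), constantCoeff (Zeta.zetaFun (h i)) ≠ 0 := by
    intro i _
    rw [constantCoeff_zetaFun]; exact one_ne_zero
  apply eq_of_dlog_eq
  · rw [constantCoeff_zetaFun]; exact one_ne_zero
  · exact constantCoeff_prod_ne_zero _ _ h1
  · rw [constantCoeff_zetaFun, map_prod]
    symm
    exact Finset.prod_eq_one (fun i _ => constantCoeff_zetaFun (h i))
  · rw [dlog_prod _ _ h1]
    ext m
    rw [coeff_dlog_zetaFun, map_sum, hN]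
    push_cast
    exact Finset.sum_congr rfl (fun i _ => (coeff_dlog_zetaFun (h i) m).symm)

end formal

section fin

variable {k : Type u} [Field k] [Finite k]

/-- finite extensions of every degree, in the same universe -/
theorem exists_field_of_degree (e : ℕ) (he : 1 ≤ e) :
    ∃ (L : Type u) (_ : Field L) (_ : Algebra k L) (_ : Finite L), Module.finrank k L = e := by
  classical
  haveI := Fintype.ofFinite k
  obtain ⟨pp, hchar⟩ := CharP.exists k
  obtain ⟨n₀, hpp, hcard⟩ := FiniteField.card k pp
  haveI : Fact pp.Prime := ⟨hpp⟩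
  haveI : CharP (AlgebraicClosure k) pp :=
    charP_of_injective_algebraMap (algebraMap k (AlgebraicClosure k)).injective pp
  have hq : Nat.card k = pp ^ (n₀ : ℕ) := by rw [Nat.card_eq_fintype_card, hcard]
  have hk₀ : ∀ c : k, c ^ (pp ^ ((n₀ : ℕ) * e)) = c := by
    intro c
    rw [pow_mul, ← hcard]
    exact FiniteField.pow_card_pow e c
  have hne : (n₀ : ℕ) * e ≠ 0 := Nat.mul_ne_zero n₀.ne_zero (by omega)
  refine ⟨fixedField (AlgebraicClosure k) pp ((n₀ : ℕ) * e) hk₀, inferInstance, inferInstance,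
    finite_fixedField (AlgebraicClosure k) pp _ hk₀ hne, ?_⟩
  exact finrank_fixedField (AlgebraicClosure k) pp _ hk₀ hne e (by rw [pow_mul, hq])

variable {X : Scheme.{u}} (f : X ⟶ Spec (CommRingCat.of k)) [LocallyOfFiniteType f]
  [QuasiCompact f]

/-- finitely many closed points of a given degree -/
theorem finite_degSet (e : ℕ) (he : 1 ≤ e) :
    Finite {x : X // IsClosed ({x} : Set X) ∧ EGA4loc.residueDegree f x = e} := by
  obtain ⟨L, _, _, _, hL⟩ := exists_field_of_degree (k := k) e he
  haveI := finite_pts f L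
  haveI : Finite (SPts f L) := Finite.of_equiv _ (ptsEquiv f L).symm
  have hne : ∀ x : {x : X // IsClosed ({x} : Set X) ∧ EGA4loc.residueDegree f x = e},
      Nonempty {ι : X.residueField x.1 ⟶ CommRingCat.of L //
        chi f x.1 ≫ ι = CommRingCat.ofHom (algebraMap k L)} := by
    intro x
    have h1 := (fibre_facts f L x.1).2 (by rw [x.2.2, hL])
    rw [x.2.2] at h1
    have : Nat.card {ι : X.residueField x.1 ⟶ CommRingCat.of L //
        chi f x.1 ≫ ι = CommRingCat.ofHom (algebraMap k L)} ≠ 0 := by rw [h1]; omega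
    exact (Nat.card_ne_zero.1 this).1
  let Θ : {x : X // IsClosed ({x} : Set X) ∧ EGA4loc.residueDegree f x = e} → SPts f L :=
    fun x => ⟨x.1, (hne x).some⟩
  refine Finite.of_injective Θ ?_
  intro a b hab
  exact Subtype.ext (congrArg (fun t : SPts f L => t.1) hab)

section partition

variable {ι : Type u} [Fintype ι] (Y : ι → Scheme.{u}) (g : ∀ i, Y i ⟶ X) [∀ i, IsImmersion (g i)]
  (hpart : ∀ x : X, IsClosed ({x} : Set X) → ∃! i, x ∈ Set.range (g i).base)

include hpart in
theorem degCount_partition (e : ℕ) (he : 1 ≤ e) :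
    Zeta.degCount f e = ∑ i, Zeta.degCount (g i ≫ f) e := by
  classical
  unfold Zeta.degCount
  have hfinX := finite_degSet f e he
  have hclosed : ∀ (i : ι) (y : Y i), EGA4loc.residueDegree (g i ≫ f) y = e →
      IsClosed ({g i y} : Set X) := by
    intro i y hy
    rw [residueDegree_preimmersion_comp] at hy
    exact isClosed_of_residueDegree_pos f _ (by rw [hy]; omega)
  let Φ : (Σ i, {y : Y i // IsClosed ({y} : Set (Y i)) ∧ EGA4loc.residueDegree (g i ≫ f) y = e}) →
      {x : X // IsClosed ({x} : Set X) ∧ EGA4loc.residueDegree f x = e} :=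
    fun p => ⟨g p.1 p.2.1, hclosed p.1 p.2.1 p.2.2.2, by
      rw [← residueDegree_preimmersion_comp]; exact p.2.2.2⟩
  have hΦ : Function.Bijective Φ := by
    constructor
    · rintro ⟨i, y, hy1, hy2⟩ ⟨i', y', hy1', hy2'⟩ h
      have h1 : g i y = g i' y' := congrArg Subtype.val h
      have hcl := hclosed i y hy2
      obtain ⟨i₀, -, huniq⟩ := hpart (g i y) hcl
      have e1 : i = i₀ := huniq i ⟨y, rfl⟩
      have e2 : i' = i₀ := huniq i' ⟨y', h1.symm⟩
      have e3 : i = i' := e1.trans e2.symm
      subst e3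
      have e4 : y = y' := (g i).isEmbedding.injective h1
      subst e4
      rfl
    · rintro ⟨x, hx1, hx2⟩
      obtain ⟨i, ⟨y, hy⟩, -⟩ := hpart x hx1
      have hy' : g i y = x := hy
      have hdeg : EGA4loc.residueDegree (g i ≫ f) y = e := by
        rw [residueDegree_preimmersion_comp, hy', hx2]
      refine ⟨⟨i, y, isClosed_of_residueDegree_pos (g i ≫ f) y (by rw [hdeg]; omega), hdeg⟩, ?_⟩
      exact Subtype.ext hy'
  haveI : ∀ i, Finite {y : Y i // IsClosed ({y} : Set (Y i)) ∧
      EGA4loc.residueDegree (g i ≫ f) y = e} := by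
    intro i
    refine Finite.of_injective (fun y => Φ ⟨i, y⟩) ?_
    intro a b hab
    have := hΦ.1 hab
    exact eq_of_heq (Sigma.mk.inj_iff.1 this).2
  rw [← Nat.card_congr (Equiv.ofBijective Φ hΦ), Nat.card_sigma]

include hpart in
theorem nPts_partition (m : ℕ) : Zeta.nPts f m = ∑ i, Zeta.nPts (g i ≫ f) m := by
  unfold Zeta.nPts
  rw [Finset.sum_comm]
  refine Finset.sum_congr rfl (fun e he => ?_)
  rw [degCount_partition f Y g hpart e (Nat.pos_of_mem_divisors he), Finset.mul_sum]

include hpart in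
theorem zetaFun_partition : Zeta.zetaFun f = ∏ i, Zeta.zetaFun (g i ≫ f) :=
  zetaFun_eq_prod f Y (fun i => g i ≫ f) (nPts_partition f Y g hpart)

end partition

end fin

end Groth.Agent.H9.ZTG
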