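import Mathlib
import Groth.Agent.Lib.Helper9.Misc.ZTG1

set_option autoImplicit false
set_option linter.style.haveILetI false
set_option linter.unusedSectionVars false
set_option linter.unusedVariables false

universe u

open AlgebraicGeometry CategoryTheory CategoryTheory.Limits

namespace Groth.Agent.H9.ZTG

open Groth.Agent.H9.ZTC

section formal

open PowerSeries in
theorem rescale_zetaFun {k : Type u} [Field k] {Y Y' : Scheme.{u}}
    (f : Y ⟶ Spec (CommRingCat.of k)) (f' : Y' ⟶ Spec (CommRingCat.of k)) (a : ℚ)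
    (hN : ∀ m, (Zeta.nPts f' m : ℚ) = a ^ m * Zeta.nPts f m) :
    Zeta.zetaFun f' = rescale a (Zeta.zetaFun f) := by
  have hlog : Zeta.logZeta f' = rescale a (Zeta.logZeta f) := by
    ext m
    rw [coeff_rescale]
    unfold Zeta.logZeta
    rw [coeff_mk, coeff_mk, hN]
    ring
  unfold Zeta.zetaFun
  rw [hlog, rescale_eq_subst, rescale_eq_subst]
  have h1 : HasSubst (a • (X : ℚ⟦X⟧)) := by
    apply HasSubst.of_constantCoeff_zero'
    simp
  rw [subst_comp_subst_apply (Groth.Agent.H6.ZF.hasSubst_logZeta f) h1]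

end formal

section affine

variable {k : Type u} [Field k] {X : Scheme.{u}} (f : X ⟶ Spec (CommRingCat.of k))

/-- points of the affine line over `X` -/
noncomputable def ptsAffineLine (L : Type u) [Field L] [Algebra k L] :
    Pts ((𝔸(PUnit.{u + 1}; X) ↘ X) ≫ f) L ≃ Pts f L × L where
  toFun h := (⟨h.1 ≫ (𝔸(PUnit.{u + 1}; X) ↘ X), by rw [Category.assoc]; exact h.2⟩,
    (Scheme.ΓSpecIso (CommRingCat.of L)).hom.hom
      (h.1.appTop.hom (AffineSpace.coord X PUnit.unit)))
  invFun p := ⟨AffineSpace.homOfVector p.1.1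
      (fun _ => (Scheme.ΓSpecIso (CommRingCat.of L)).inv.hom p.2), by
    rw [← Category.assoc, AffineSpace.homOfVector_over]; exact p.1.2⟩
  left_inv h := by
    apply Subtype.ext
    apply AffineSpace.hom_ext
    · simp only [AffineSpace.homOfVector_over]
    · intro i
      rw [AffineSpace.homOfVector_appTop_coord]
      have : i = PUnit.unit := rfl
      subst this
      simp
  right_inv p := by
    refine Prod.ext ?_ ?_
    · apply Subtype.ext
      exact AffineSpace.homOfVector_over _ _
    · show (Scheme.ΓSpecIso (CommRingCat.of L)).hom.hom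
        ((AffineSpace.homOfVector p.1.1
          (fun _ => (Scheme.ΓSpecIso (CommRingCat.of L)).inv.hom p.2)).appTop.hom
            (AffineSpace.coord X PUnit.unit)) = p.2
      have h1 := AffineSpace.homOfVector_appTop_coord p.1.1
          (fun _ : PUnit.{u + 1} => (Scheme.ΓSpecIso (CommRingCat.of L)).inv.hom p.2) PUnit.unit
      have h2 : (AffineSpace.homOfVector p.1.1
          (fun _ => (Scheme.ΓSpecIso (CommRingCat.of L)).inv.hom p.2)).appTop.hom
            (AffineSpace.coord X PUnit.unit) =
          (Scheme.ΓSpecIso (CommRingCat.of L)).inv.hom p.2 := h1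
      rw [h2]
      simp

theorem nPts_affineLine [Finite k] [LocallyOfFiniteType f] [QuasiCompact f] (m : ℕ) :
    Zeta.nPts ((𝔸(PUnit.{u + 1}; X) ↘ X) ≫ f) m = Nat.card k ^ m * Zeta.nPts f m := by
  rcases Nat.eq_zero_or_pos m with rfl | hm
  · unfold Zeta.nPts
    simp
  obtain ⟨L, _, _, _, hL⟩ := exists_field_of_degree (k := k) m hm
  rw [← hL, ← card_pts ((𝔸(PUnit.{u + 1}; X) ↘ X) ≫ f) L, ← card_pts f L,
    Nat.card_congr (ptsAffineLine f L), Nat.card_prod, mul_comm]
  congr 1
  exact Module.natCard_eq_pow_finrank (K := k) (V := L)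

theorem zetaFun_affineLine [Finite k] [LocallyOfFiniteType f] [QuasiCompact f] :
    Zeta.zetaFun ((𝔸(PUnit.{u + 1}; X) ↘ X) ≫ f) =
      PowerSeries.rescale (Nat.card k : ℚ) (Zeta.zetaFun f) := by
  apply rescale_zetaFun
  intro m
  rw [nPts_affineLine]
  push_cast
  ring

end affine

end Groth.Agent.H9.ZTG
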