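import Mathlib
import Groth.Agent.Lib.Helper9.Misc.PNZ1
import Groth.Agent.Lib.Helper9.Misc.ZTG3
import Groth.Agent.S13055

set_option autoImplicit false
set_option linter.style.haveILetI false
set_option linter.unusedSectionVars false
set_option linter.unusedVariables false

universe u

open CategoryTheory AlgebraicGeometry HomogeneousLocalization

namespace Groth.Agent.H9.PNZ

section geom
variable (n : ℕ) (k : Type u) [CommRing k]

/-- the stratum of points whose first nonzero coordinate is the `i`-th one -/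
noncomputable def gg (i : Fin (n+1)) :
    Spec (CommRingCat.of (Aw n k i ⧸ II n k i)) ⟶ CohB1.ProjSpace n k :=
  Spec.map (CommRingCat.ofHom (Ideal.Quotient.mk (II n k i))) ≫
    Proj.awayι (CohB1.polyGrading n k) _ (X_mem n k i) one_pos

instance (i : Fin (n+1)) : IsImmersion (gg n k i) := by
  haveI : IsClosedImmersion (Spec.map (CommRingCat.ofHom (Ideal.Quotient.mk (II n k i)))) :=
    IsClosedImmersion.spec_of_surjective _ Ideal.Quotient.mk_surjective
  exact IsImmersion.comp (Spec.map (CommRingCat.ofHom (Ideal.Quotient.mk (II n k i))))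
    (Proj.awayι (CohB1.polyGrading n k) _ (X_mem n k i) one_pos)

lemma gg_toSpec (i : Fin (n+1)) :
    gg n k i ≫ CohB1.ProjSpace.toSpec n k = Spec.map (CommRingCat.ofHom (rho n k i)) := by
  show (Spec.map (CommRingCat.ofHom (Ideal.Quotient.mk (II n k i))) ≫
    Proj.awayι (CohB1.polyGrading n k) _ (X_mem n k i) one_pos) ≫
    (Proj.toSpecZero (CohB1.polyGrading n k) ≫
    Spec.map (CommRingCat.ofHom (algebraMap k (CohB1.polyGrading n k 0)))) =
    Spec.map (CommRingCat.ofHom ((Ideal.Quotient.mk (II n k i)).comp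
      ((fromZeroRingHom (CohB1.polyGrading n k) _).comp
        (algebraMap k (CohB1.polyGrading n k 0)))))
  rw [Category.assoc, Proj.awayι_toSpecZero_assoc, ← Spec.map_comp, ← Spec.map_comp,
    ← CommRingCat.ofHom_comp, ← CommRingCat.ofHom_comp]

lemma mem_range_gg (i : Fin (n+1)) (x : CohB1.ProjSpace n k) :
    x ∈ Set.range (gg n k i).base ↔
      x ∈ Proj.basicOpen (CohB1.polyGrading n k) (MvPolynomial.X i) ∧
        ∀ j, j < i → x ∉ Proj.basicOpen (CohB1.polyGrading n k) (MvPolynomial.X j) := by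
  have hpre : ∀ (j : Fin (n+1)) (y : Spec (CommRingCat.of (Aw n k i))),
      (Proj.awayι (CohB1.polyGrading n k) _ (X_mem n k i) one_pos).base y ∈
        Proj.basicOpen (CohB1.polyGrading n k) (MvPolynomial.X j) ↔ tt n k i j ∉ y.asIdeal := by
    intro j y
    have h := Proj.awayι_preimage_basicOpen (CohB1.polyGrading n k) (X_mem n k i) one_pos
      (X_mem n k j) one_pos
    exact iff_of_eq (congrArg (fun U => y ∈ U) h)
  have hrange : ∀ x : CohB1.ProjSpace n k,
      x ∈ Proj.basicOpen (CohB1.polyGrading n k) (MvPolynomial.X i) ↔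
      ∃ y, (Proj.awayι (CohB1.polyGrading n k) _ (X_mem n k i) one_pos).base y = x := by
    intro x
    rw [← Proj.opensRange_awayι (CohB1.polyGrading n k) _ (X_mem n k i) one_pos]
    rfl
  constructor
  · rintro ⟨z, rfl⟩
    have hz : (gg n k i).base z =
        (Proj.awayι (CohB1.polyGrading n k) _ (X_mem n k i) one_pos).base
        ((Spec.map (CommRingCat.ofHom (Ideal.Quotient.mk (II n k i)))).base z) := rfl
    rw [hz]
    refine ⟨(hrange _).2 ⟨_, rfl⟩, fun j hj hmem => (hpre j _).1 hmem ?_⟩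
    show tt n k i j ∈ Ideal.comap (Ideal.Quotient.mk (II n k i)) z.asIdeal
    have hmemII : tt n k i j ∈ II n k i := Ideal.subset_span ⟨j, hj, rfl⟩
    rw [Ideal.mem_comap, Ideal.Quotient.eq_zero_iff_mem.2 hmemII]
    exact zero_mem _
  · rintro ⟨hx, hj⟩
    obtain ⟨y, rfl⟩ := (hrange x).1 hx
    have hle : II n k i ≤ y.asIdeal := by
      unfold II
      rw [Ideal.span_le]
      rintro _ ⟨j, hji, rfl⟩
      by_contra hcon
      exact hj j hji ((hpre j y).2 hcon)
    have hy : y ∈ Set.range (PrimeSpectrum.comap (Ideal.Quotient.mk (II n k i))) := by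
      rw [range_comap_of_surjective _ _ Ideal.Quotient.mk_surjective, Ideal.mk_ker]
      exact hle
    obtain ⟨z, hz⟩ := hy
    subst hz
    exact ⟨z, rfl⟩

lemma partition (x : CohB1.ProjSpace n k) :
    ∃! i : Fin (n+1), x ∈ Set.range (gg n k i).base := by
  classical
  have hcov := Proj.iSup_basicOpen_eq_top' (CohB1.polyGrading n k)
    (fun j : Fin (n+1) => (MvPolynomial.X j : MvPolynomial (Fin (n+1)) k))
    (fun j => ⟨1, X_mem n k j⟩) (adjoin_X_eq_top n k)
  have hx : x ∈ (⨆ j : Fin (n+1), Proj.basicOpen (CohB1.polyGrading n k)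
      (MvPolynomial.X j : MvPolynomial (Fin (n+1)) k)) := by
    rw [hcov]; exact TopologicalSpace.Opens.mem_top x
  obtain ⟨j0, hj0⟩ := TopologicalSpace.Opens.mem_iSup.1 hx
  obtain ⟨S, hSdef⟩ : ∃ S : Finset (Fin (n+1)), ∀ j, j ∈ S ↔
      x ∈ Proj.basicOpen (CohB1.polyGrading n k)
        (MvPolynomial.X j : MvPolynomial (Fin (n+1)) k) :=
    ⟨Finset.univ.filter (fun j => x ∈ Proj.basicOpen (CohB1.polyGrading n k)
      (MvPolynomial.X j : MvPolynomial (Fin (n+1)) k)), fun j => by
      rw [Finset.mem_filter]; exact ⟨fun h => h.2, fun h => ⟨Finset.mem_univ _, h⟩⟩⟩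
  have hS : S.Nonempty := ⟨j0, (hSdef j0).2 hj0⟩
  refine ⟨S.min' hS, (mem_range_gg n k _ x).2 ?_, ?_⟩
  · refine ⟨(hSdef _).1 (Finset.min'_mem S hS), fun j hj hxj => ?_⟩
    exact absurd hj (not_lt.2 (Finset.min'_le S j ((hSdef j).2 hxj)))
  · intro i hi0
    have hi := (mem_range_gg n k i x).1 hi0
    apply le_antisymm
    · by_contra hcon
      rw [not_le] at hcon
      exact hi.2 _ hcon ((hSdef _).1 (Finset.min'_mem S hS))
    · exact Finset.min'_le S i ((hSdef i).2 hi.1)

end geom

section pts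

/-- morphisms of affine schemes are ring maps -/
noncomputable def specHomEquiv (B L : Type u) [CommRing B] [CommRing L] :
    (Spec (CommRingCat.of L) ⟶ Spec (CommRingCat.of B)) ≃ (B →+* L) where
  toFun g := (Spec.preimage g).hom
  invFun θ := Spec.map (CommRingCat.ofHom θ)
  left_inv g := by
    show Spec.map (CommRingCat.ofHom (Spec.preimage g).hom) = g
    rw [CommRingCat.ofHom_hom, Spec.map_preimage]
  right_inv θ := by
    show (Spec.preimage (Spec.map (CommRingCat.ofHom θ))).hom = θ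
    rw [Spec.preimage_map]
    rfl

variable {k : Type u} [Field k]

/-- points of an affine scheme with values in a field -/
noncomputable def ptsSpecEquiv (B : Type u) [CommRing B] (ρ : k →+* B) (L : Type u) [Field L]
    [Algebra k L] :
    ZTC.Pts (Spec.map (CommRingCat.ofHom ρ)) L ≃ {θ : B →+* L // θ.comp ρ = algebraMap k L} :=
  show {g : Spec (CommRingCat.of L) ⟶ Spec (CommRingCat.of B) //
      g ≫ Spec.map (CommRingCat.ofHom ρ) =
        Spec.map (CommRingCat.ofHom (algebraMap k L))} ≃ _ from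
  Equiv.subtypeEquiv (specHomEquiv B L) (by
    intro g
    obtain ⟨θ, rfl⟩ := (specHomEquiv B L).symm.surjective g
    rw [Equiv.apply_symm_apply]
    show Spec.map (CommRingCat.ofHom θ) ≫ Spec.map (CommRingCat.ofHom ρ) = _ ↔ _
    rw [← Spec.map_comp, ← CommRingCat.ofHom_comp]
    constructor
    · intro h
      exact congrArg CommRingCat.Hom.hom (Spec.map_injective h)
    · intro h
      rw [h])

theorem card_pts_gg (n : ℕ) (L : Type u) [Field L] [Algebra k L] [Finite L] (i : Fin (n+1)) :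
    Nat.card (ZTC.Pts (gg n k i ≫ CohB1.ProjSpace.toSpec n k) L) = Nat.card L ^ (n - i) := by
  rw [gg_toSpec, Nat.card_congr (ptsSpecEquiv _ (rho n k i) L)]
  exact card_Theta (n := n) (k := k) (L := L) i

theorem nPts_projSpace [Finite k] (n m : ℕ) (hm : 1 ≤ m) :
    Zeta.nPts (CohB1.ProjSpace.toSpec n k) m =
      ∑ i : Fin (n+1), (Nat.card k ^ m) ^ (n - (i : ℕ)) := by
  haveI := Groth.Agent.H5.AG.isProper_toSpec n k
  have hpart : ∀ x : CohB1.ProjSpace n k, IsClosed ({x} : Set (CohB1.ProjSpace n k)) →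
      ∃! j : ULift.{u} (Fin (n+1)), x ∈ Set.range (gg n k j.down).base := by
    intro x _
    obtain ⟨i, hi, huniq⟩ := partition n k x
    exact ⟨⟨i⟩, hi, fun j hj => ULift.ext _ _ (huniq j.down hj)⟩
  refine (ZTG.nPts_partition (CohB1.ProjSpace.toSpec n k)
    (fun j : ULift.{u} (Fin (n+1)) => Spec (CommRingCat.of (Aw n k j.down ⧸ II n k j.down)))
    (fun j => gg n k j.down) hpart m).trans ?_
  refine (Fintype.sum_equiv Equiv.ulift _
    (fun i : Fin (n+1) => Zeta.nPts (gg n k i ≫ CohB1.ProjSpace.toSpec n k) m)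
    (fun j => rfl)).trans ?_
  refine Finset.sum_congr rfl (fun i _ => ?_)
  obtain ⟨L, _, _, _, hL⟩ := ZTG.exists_field_of_degree (k := k) m hm
  haveI : LocallyOfFiniteType (gg n k i ≫ CohB1.ProjSpace.toSpec n k) := inferInstance
  haveI : QuasiCompact (gg n k i ≫ CohB1.ProjSpace.toSpec n k) := by
    rw [gg_toSpec]; infer_instance
  have h1 := ZTC.card_pts (gg n k i ≫ CohB1.ProjSpace.toSpec n k) L
  rw [hL] at h1
  rw [← h1, card_pts_gg, Module.natCard_eq_pow_finrank (K := k) (V := L), hL]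

theorem main [Finite k] (n : ℕ) :
    Zeta.zetaFun (CohB1.ProjSpace.toSpec n k) *
        ∏ i ∈ Finset.range (n + 1),
          (1 - PowerSeries.C ((Nat.card k : ℚ) ^ i) * PowerSeries.X) = 1 := by
  haveI := Groth.Agent.H5.AG.isProper_toSpec n k
  obtain ⟨P, hPdef⟩ : ∃ P : Polynomial ℤ,
      P = ∑ i ∈ Finset.range (n+1), (Polynomial.X : Polynomial ℤ) ^ i := ⟨_, rfl⟩
  have hcoeff : ∀ j, P.coeff j = if j < n + 1 then 1 else 0 := by
    intro j
    rw [hPdef, Polynomial.finsetSum_coeff]
    simp only [Polynomial.coeff_X_pow, Finset.sum_ite_eq, Finset.mem_range]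
  have hdeg : P.natDegree = n := by
    apply le_antisymm
    · rw [Polynomial.natDegree_le_iff_coeff_eq_zero]
      intro N hN
      rw [hcoeff, if_neg (by omega)]
    · apply Polynomial.le_natDegree_of_ne_zero
      rw [hcoeff, if_pos (by omega)]
      exact one_ne_zero
  have hP : ∀ m : ℕ, 1 ≤ m →
      (Zeta.nPts (CohB1.ProjSpace.toSpec n k) m : ℤ) = P.eval ((Nat.card k : ℤ) ^ m) := by
    intro m hm
    have hrefl : ∑ i : Fin (n+1), ((Nat.card k : ℤ) ^ m) ^ (n - (i : ℕ)) =
        ∑ j ∈ Finset.range (n+1), ((Nat.card k : ℤ) ^ m) ^ j := by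
      rw [← Finset.sum_range_reflect (fun j => ((Nat.card k : ℤ) ^ m) ^ j) (n+1),
        Finset.sum_range]
      refine Finset.sum_congr rfl (fun i _ => ?_)
      show _ = ((Nat.card k : ℤ) ^ m) ^ (n + 1 - 1 - (i : ℕ))
      rw [Nat.add_sub_cancel]
    have hev : P.eval ((Nat.card k : ℤ) ^ m) =
        ∑ j ∈ Finset.range (n+1), ((Nat.card k : ℤ) ^ m) ^ j := by
      rw [hPdef, Polynomial.eval_finsetSum]
      simp only [Polynomial.eval_pow, Polynomial.eval_X]
    rw [hev, ← hrefl, nPts_projSpace n m hm, Nat.cast_sum]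
    refine Finset.sum_congr rfl (fun i _ => ?_)
    rw [Nat.cast_pow, Nat.cast_pow]
  have key := Groth.Agent.S13055.result (CohB1.ProjSpace.toSpec n k) P hP
  rw [hdeg] at key
  have e1 : ∀ i ∈ Finset.range (n+1),
      (1 - PowerSeries.C ((Nat.card k : ℚ) ^ i) * PowerSeries.X) ^ (P.coeff i).toNat =
        (1 - PowerSeries.C ((Nat.card k : ℚ) ^ i) * PowerSeries.X) := by
    intro i hi
    rw [hcoeff, if_pos (Finset.mem_range.1 hi), Int.toNat_one, pow_one]
  have e2 : ∀ i ∈ Finset.range (n+1),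
      (1 - PowerSeries.C ((Nat.card k : ℚ) ^ i) * PowerSeries.X) ^ (-P.coeff i).toNat =
        1 := by
    intro i hi
    rw [hcoeff, if_pos (Finset.mem_range.1 hi), Int.toNat_of_nonpos (by norm_num), pow_zero]
  rw [Finset.prod_congr rfl e1, Finset.prod_congr rfl e2, Finset.prod_const_one] at key
  exact key

end pts

end Groth.Agent.H9.PNZ
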