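import Groth.Prelude.Def_PP16
import Mathlib

set_option autoImplicit false
set_option linter.unusedSectionVars false
set_option linter.unusedVariables false

universe u
open scoped TensorProduct
open PP16

namespace Groth.Agent.H9.PPLoc

attribute [local instance] PP16.mapAlgebra PP16.isScalarTower_mapAlgebra

section basic
variable (n : ℕ) (A B : Type u) [CommRing A] [CommRing B] [Algebra A B]

/-- `[b ⊗ c] = ι₁ b * dn c` in `P`. -/
theorem mk_tmul (b c : B) :
    (Ideal.Quotient.mk ((KaehlerDifferential.ideal A B) ^ (n + 1)) (b ⊗ₜ[A] c) : P n A B) =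
      algebraMap B (P n A B) b * dn n A B c := by
  change _ = Ideal.Quotient.mk _ (b ⊗ₜ[A] (1 : B)) * Ideal.Quotient.mk _ ((1 : B) ⊗ₜ[A] c)
  rw [← map_mul (Ideal.Quotient.mk _), Algebra.TensorProduct.tmul_mul_tmul, mul_one, one_mul]

/-- the class of `1 ⊗ b - b ⊗ 1` is nilpotent in `P`. -/
theorem dn_sub_isNilpotent (b : B) :
    IsNilpotent (dn n A B b - algebraMap B (P n A B) b) := by
  refine ⟨n + 1, ?_⟩
  change (Ideal.Quotient.mk _ ((1 : B) ⊗ₜ[A] b) - Ideal.Quotient.mk _ (b ⊗ₜ[A] (1 : B))) ^ (n + 1) = 0
  rw [← map_sub (Ideal.Quotient.mk _), ← map_pow (Ideal.Quotient.mk _), Ideal.Quotient.eq_zero_iff_mem]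
  exact Ideal.pow_mem_pow (KaehlerDifferential.one_smul_sub_smul_one_mem_ideal A b) (n + 1)

end basic

section desc
variable {n : ℕ} {A B B' : Type u} [CommRing A] [CommRing B] [Algebra A B]
  [CommRing B'] [Algebra B B'] [Algebra A B'] [IsScalarTower A B B'] {S : Submonoid B}
  [IsLocalization S B']
variable {L : Type u} [CommRing L] (c : P n A B →+* L)
  (hc : ∀ s : S, IsUnit (c (algebraMap B (P n A B) s)))

include hc in
theorem hc2 (s : S) : IsUnit (c (dn n A B s)) := by
  have h1 : c (dn n A B s) =
      c (algebraMap B (P n A B) s) + c (dn n A B s - algebraMap B (P n A B) s) := by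
    rw [← map_add]; congr 1; ring
  rw [h1]
  exact ((dn_sub_isNilpotent n A B (s : B)).map c).isUnit_add_left_of_commute (hc s)
    (Commute.all _ _)

noncomputable def lL : B' →+* L :=
  IsLocalization.lift (M := S) (S := B') (g := c.comp (algebraMap B (P n A B)))
    (fun s => show IsUnit (c (algebraMap B (P n A B) s)) from hc s)

noncomputable def rL : B' →+* L :=
  IsLocalization.lift (M := S) (S := B') (g := c.comp (dn n A B).toRingHom)
    (fun s => show IsUnit (c (dn n A B s)) from hc2 c hc s)

theorem lL_algebraMap (b : B) : lL c hc (algebraMap B B' b) = c (algebraMap B (P n A B) b) :=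
  IsLocalization.lift_eq _ b

theorem rL_algebraMap (b : B) : rL c hc (algebraMap B B' b) = c (dn n A B b) :=
  IsLocalization.lift_eq _ b

variable [Algebra A L] (hAL : ∀ a : A, algebraMap A L a = c (algebraMap A (P n A B) a))

noncomputable def lA : B' →ₐ[A] L :=
  { toRingHom := lL c hc
    commutes' := fun a => by
      show lL c hc (algebraMap A B' a) = algebraMap A L a
      rw [IsScalarTower.algebraMap_apply A B B', lL_algebraMap, hAL,
        ← IsScalarTower.algebraMap_apply A B (P n A B)] }

noncomputable def rA : B' →ₐ[A] L :=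
  { toRingHom := rL c hc
    commutes' := fun a => by
      show rL c hc (algebraMap A B' a) = algebraMap A L a
      rw [IsScalarTower.algebraMap_apply A B B', rL_algebraMap, hAL, AlgHom.commutes] }

noncomputable def tL : B' ⊗[A] B' →ₐ[A] L :=
  Algebra.TensorProduct.lift (lA c hc hAL) (rA c hc hAL) (fun _ _ => Commute.all _ _)

theorem tL_tmul (x y : B') : tL c hc hAL (x ⊗ₜ[A] y) = lL c hc x * rL c hc y :=
  Algebra.TensorProduct.lift_tmul _ _ _ x y

/-- the nilpotent ideal of `L`. -/
noncomputable def JL : Ideal L :=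
  Ideal.map c (Ideal.map (Ideal.Quotient.mk ((KaehlerDifferential.ideal A B) ^ (n + 1)))
    (KaehlerDifferential.ideal A B))

theorem JL_pow : JL c ^ (n + 1) = ⊥ := by
  rw [JL, ← Ideal.map_pow, ← Ideal.map_pow, Ideal.map_quotient_self, Ideal.map_bot]

theorem sub_mem_JL (b' : B') : rL c hc b' - lL c hc b' ∈ JL c := by
  obtain ⟨⟨b, s⟩, h⟩ := IsLocalization.surj S b'
  have h1 : lL c hc b' * c (algebraMap B (P n A B) s) = c (algebraMap B (P n A B) b) := by
    have := congrArg (lL c hc) h
    rw [map_mul, lL_algebraMap, lL_algebraMap] at this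
    exact this
  have h2 : rL c hc b' * c (dn n A B s) = c (dn n A B b) := by
    have := congrArg (rL c hc) h
    rw [map_mul, rL_algebraMap, rL_algebraMap] at this
    exact this
  have key : (rL c hc b' - lL c hc b') * (c (algebraMap B (P n A B) s) * c (dn n A B s)) =
      c (algebraMap B (P n A B) s * dn n A B b - algebraMap B (P n A B) b * dn n A B s) := by
    rw [map_sub, map_mul, map_mul, ← h1, ← h2]; ring
  have hmem : algebraMap B (P n A B) s * dn n A B b - algebraMap B (P n A B) b * dn n A B s ∈
      Ideal.map (Ideal.Quotient.mk ((KaehlerDifferential.ideal A B) ^ (n + 1)))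
        (KaehlerDifferential.ideal A B) := by
    rw [← mk_tmul, ← mk_tmul, ← map_sub (Ideal.Quotient.mk _)]
    refine Ideal.mem_map_of_mem _ ?_
    rw [KaehlerDifferential.ideal, RingHom.mem_ker, map_sub, Algebra.TensorProduct.lmul'_apply_tmul,
      Algebra.TensorProduct.lmul'_apply_tmul, mul_comm, sub_self]
  have hu : IsUnit (c (algebraMap B (P n A B) s) * c (dn n A B s)) := (hc s).mul (hc2 c hc s)
  have h3 : (rL c hc b' - lL c hc b') * (c (algebraMap B (P n A B) s) * c (dn n A B s)) ∈ JL c := by
    rw [key]; exact Ideal.mem_map_of_mem c hmem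
  exact (Ideal.mul_unit_mem_iff_mem (JL c) hu).mp h3

theorem map_tL_le : Ideal.map (tL c hc hAL) (KaehlerDifferential.ideal A B') ≤ JL c := by
  rw [← KaehlerDifferential.span_range_eq_ideal, Ideal.map_span, Ideal.span_le]
  rintro _ ⟨_, ⟨b', rfl⟩, rfl⟩
  show tL c hc hAL ((1 : B') ⊗ₜ[A] b' - b' ⊗ₜ[A] (1 : B')) ∈ JL c
  rw [map_sub, tL_tmul, tL_tmul, map_one, map_one, one_mul, mul_one]
  exact sub_mem_JL c hc b'

theorem tL_eq_zero (x : B' ⊗[A] B') (hx : x ∈ (KaehlerDifferential.ideal A B') ^ (n + 1)) :
    tL c hc hAL x = 0 := by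
  have h1 : tL c hc hAL x ∈ Ideal.map (tL c hc hAL) ((KaehlerDifferential.ideal A B') ^ (n + 1)) :=
    Ideal.mem_map_of_mem _ hx
  rw [Ideal.map_pow] at h1
  have h2 := Ideal.pow_right_mono (map_tL_le c hc hAL) (n + 1) h1
  rw [JL_pow] at h2
  simpa using h2

noncomputable def gL : P n A B' →+* L :=
  Ideal.Quotient.lift _ (tL c hc hAL).toRingHom (fun x hx => tL_eq_zero c hc hAL x hx)

theorem gL_mk (x : B' ⊗[A] B') :
    gL c hc hAL (Ideal.Quotient.mk ((KaehlerDifferential.ideal A B') ^ (n + 1)) x) = tL c hc hAL x :=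
  rfl

theorem gL_map (x : P n A B) : gL c hc hAL (map n A B A B' x) = c x := by
  obtain ⟨y, rfl⟩ := Ideal.Quotient.mk_surjective x
  rw [map_mk]
  induction y using TensorProduct.induction_on with
  | zero => simp
  | tmul b c₀ =>
    rw [tensorMap_tmul, gL_mk, tL_tmul, lL_algebraMap, rL_algebraMap, mk_tmul, map_mul]
  | add y z hy hz => simp only [map_add, hy, hz]

end desc

section main
variable (n : ℕ) (A B B' : Type u) [CommRing A] [CommRing B] [Algebra A B]
  [CommRing B'] [Algebra B B'] [Algebra A B'] [IsScalarTower A B B'] (S : Submonoid B)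
  [IsLocalization S B']

theorem main_aux (L : Type u) [CommRing L] [Algebra (P n A B) L]
    [IsLocalization (S.map (algebraMap B (P n A B))) L] :
    IsLocalization (S.map (algebraMap B (P n A B))) (P n A B') := by
  set W : Submonoid (P n A B) := S.map (algebraMap B (P n A B)) with hW
  set c : P n A B →+* L := algebraMap (P n A B) L with hcdef
  have hc : ∀ s : S, IsUnit (c (algebraMap B (P n A B) s)) := fun s =>
    IsLocalization.map_units L (⟨algebraMap B (P n A B) s, Submonoid.mem_map_of_mem _ s.2⟩ : W)
  letI : Algebra A L := (c.comp (algebraMap A (P n A B))).toAlgebra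
  have hAL : ∀ a : A, algebraMap A L a = c (algebraMap A (P n A B) a) := fun a => rfl
  have hun : ∀ w : W, IsUnit ((map n A B A B').toRingHom w) := by
    rintro ⟨w, s, hs, rfl⟩
    show IsUnit (map n A B A B' (algebraMap B (P n A B) s))
    rw [map_algebraMap]
    exact (IsLocalization.map_units B' (⟨s, hs⟩ : S)).map (algebraMap B' (P n A B'))
  let ft : L →+* P n A B' := IsLocalization.lift (M := W) (S := L) hun
  have hft_c : ∀ x : P n A B, ft (c x) = map n A B A B' x := fun x =>
    IsLocalization.lift_eq hun x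
  have hl : ∀ b' : B', ft (lL c hc b') = algebraMap B' (P n A B') b' := by
    have : (ft.comp (lL c hc)) = algebraMap B' (P n A B') := IsLocalization.ringHom_ext S (by
      ext b
      simp only [RingHom.comp_apply]
      rw [lL_algebraMap, hft_c]
      exact map_algebraMap n A B A B' b)
    exact fun b' => RingHom.congr_fun this b'
  have hr : ∀ b' : B', ft (rL c hc b') = dn n A B' b' := by
    have : (ft.comp (rL c hc)) = (dn n A B').toRingHom := IsLocalization.ringHom_ext S (by
      ext b
      simp only [RingHom.comp_apply]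
      rw [rL_algebraMap, hft_c]
      exact map_dn n A B A B' b)
    exact fun b' => RingHom.congr_fun this b'
  have hft : ∀ z : P n A B', ft (gL c hc hAL z) = z := by
    intro z
    obtain ⟨y, rfl⟩ := Ideal.Quotient.mk_surjective z
    rw [gL_mk]
    induction y using TensorProduct.induction_on with
    | zero => simp
    | tmul b₁ b₂ => rw [tL_tmul, map_mul, hl, hr, ← mk_tmul]
    | add y z hy hz => simp only [map_add, hy, hz]
  refine (isLocalization_iff W (P n A B')).mpr ⟨hun, ?_, ?_⟩
  · intro z
    obtain ⟨⟨x, w⟩, hxw⟩ := IsLocalization.surj W (gL c hc hAL z)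
    refine ⟨(x, w), ?_⟩
    have h := congrArg ft hxw
    rw [map_mul, hft] at h
    change z * ft (c w) = ft (c x) at h
    rw [hft_c, hft_c] at h
    exact h
  · intro x y hxy
    have : c x = c y := by
      rw [← gL_map (B' := B') c hc hAL x, ← gL_map (B' := B') c hc hAL y]
      exact congrArg _ hxy
    exact IsLocalization.exists_of_eq (M := W) this

theorem main : IsLocalization (S.map (algebraMap B (P n A B))) (P n A B') :=
  main_aux n A B B' S (Localization (S.map (algebraMap B (P n A B))))

end main

end Groth.Agent.H9.PPLoc
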