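import Mathlib

set_option autoImplicit false
set_option linter.style.haveILetI false
set_option linter.unusedSectionVars false
set_option linter.unusedVariables false

universe u

open CategoryTheory AlgebraicGeometry TopologicalSpace Topology IsLocalRing

namespace Groth.Agent.H9.PRI

/-- a ring with a nonunit nonzerodivisor has dimension at least one. -/
theorem one_le_dim_of_nzd (A : Type*) [CommRing A] (r : A) (hr : r ∈ nonZeroDivisors A)
    (hu : ¬ IsUnit r) : (1 : WithBot ℕ∞) ≤ ringKrullDim A := by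
  have h1 := ringKrullDim_quotient_succ_le_of_nonZeroDivisor hr
  haveI : Nontrivial (A ⧸ Ideal.span {r}) := by
    rw [Ideal.Quotient.nontrivial_iff]
    intro h
    exact hu (Ideal.span_singleton_eq_top.mp h)
  have h2 : (0 : WithBot ℕ∞) ≤ ringKrullDim (A ⧸ Ideal.span {r}) := ringKrullDim_nonneg_of_nontrivial
  calc (1 : WithBot ℕ∞) = 0 + 1 := by simp
    _ ≤ ringKrullDim (A ⧸ Ideal.span {r}) + 1 := by gcongr
    _ ≤ ringKrullDim A := h1

theorem one_le_dim_stalk {X : Scheme.{u}} (𝓘 : X.IdealSheafData)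
    (hY : ∀ x : X, ∃ U : X.affineOpens, x ∈ U.1 ∧
      ∃ f : Γ(X, U.1), f ∈ nonZeroDivisors Γ(X, U.1) ∧ 𝓘.ideal U = Ideal.span {f})
    (y : X) (hy : y ∈ 𝓘.support) :
    (1 : WithBot ℕ∞) ≤ ringKrullDim (X.presheaf.stalk y) := by
  obtain ⟨U, hyU, f, hf, hI⟩ := hY y
  have h1 : y ∈ X.zeroLocus (U := U.1) (𝓘.ideal U) :=
    (Scheme.IdealSheafData.mem_support_iff_of_mem hyU).mp hy
  rw [Scheme.mem_zeroLocus_iff] at h1
  have h2 : y ∉ X.basicOpen f := h1 f (by rw [hI]; exact Ideal.mem_span_singleton_self f)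
  have h3 : ¬ IsUnit (X.presheaf.germ U.1 y hyU f) := by
    intro hu
    exact h2 ((Scheme.mem_basicOpen X f y hyU).mpr hu)
  letI : Algebra Γ(X, U.1) (X.presheaf.stalk y) :=
    TopCat.Presheaf.algebra_section_stalk X.presheaf ⟨y, hyU⟩
  haveI : IsLocalization.AtPrime (X.presheaf.stalk y) (U.2.primeIdealOf ⟨y, hyU⟩).asIdeal :=
    U.2.isLocalization_stalk ⟨y, hyU⟩
  have h4 : algebraMap Γ(X, U.1) (X.presheaf.stalk y) f ∈ nonZeroDivisors (X.presheaf.stalk y) :=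
    IsLocalization.map_nonZeroDivisors_le (U.2.primeIdealOf ⟨y, hyU⟩).asIdeal.primeCompl
      (X.presheaf.stalk y) (Submonoid.mem_map_of_mem _ hf)
  exact one_le_dim_of_nzd _ _ h4 h3

theorem main {X Z : Scheme.{u}}
    [IsLocallyNoetherian X] (𝓘 : X.IdealSheafData)
    (hY : ∀ x : X, ∃ U : X.affineOpens, x ∈ U.1 ∧
      ∃ f : Γ(X, U.1), f ∈ nonZeroDivisors Γ(X, U.1) ∧ 𝓘.ideal U = Ideal.span {f})
    (i : Z ⟶ X) [IsClosedImmersion i] [IsIntegral Z]
    (hprop : ∀ ζ : ↥X, ζ ∈ (𝓘.support : Set ↥X) ∩ Set.range i.base →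
        (∀ ζ' : ↥X, ζ' ∈ (𝓘.support : Set ↥X) ∩ Set.range i.base → ζ' ⤳ ζ → ζ' = ζ) →
        ringKrullDim ↑(X.presheaf.stalk ζ) =
          (⨅ y : (𝓘.support : Set ↥X), ringKrullDim ↑(X.presheaf.stalk y.1)) +
            ringKrullDim ↑(X.presheaf.stalk (i (genericPoint ↥Z)))) :
    ¬ Set.range i.base ⊆ (𝓘.support : Set ↥X) := by
  intro hsub
  have hζ : i (genericPoint ↥Z) ∈ (𝓘.support : Set ↥X) ∩ Set.range i.base :=
    ⟨hsub ⟨_, rfl⟩, ⟨_, rfl⟩⟩
  have hmax : ∀ ζ' : ↥X, ζ' ∈ (𝓘.support : Set ↥X) ∩ Set.range i.base →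
      ζ' ⤳ i (genericPoint ↥Z) → ζ' = i (genericPoint ↥Z) := by
    rintro _ ⟨-, z', rfl⟩ hspec
    have h1 : z' ⤳ genericPoint ↥Z := i.isEmbedding.isInducing.specializes_iff.mp hspec
    have h2 : genericPoint ↥Z ⤳ z' := genericPoint_specializes z'
    rw [(h1.antisymm h2).eq]
  have heq := hprop _ hζ hmax
  have ha : (1 : WithBot ℕ∞) ≤
      ⨅ y : (𝓘.support : Set ↥X), ringKrullDim ↑(X.presheaf.stalk y.1) :=
    le_iInf fun y => one_le_dim_stalk 𝓘 hY y.1 y.2
  -- finiteness of the dimension of the noetherian local ring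
  obtain ⟨n, hn⟩ : ∃ n : ℕ, ringKrullDim ↑(X.presheaf.stalk (i (genericPoint ↥Z))) = n := by
    have hfin : ringKrullDim ↑(X.presheaf.stalk (i (genericPoint ↥Z))) < ⊤ :=
      ringKrullDim_lt_top
    have hnn : (0 : WithBot ℕ∞) ≤ ringKrullDim ↑(X.presheaf.stalk (i (genericPoint ↥Z))) :=
      ringKrullDim_nonneg_of_nontrivial
    generalize ringKrullDim ↑(X.presheaf.stalk (i (genericPoint ↥Z))) = d at hfin hnn
    induction d using WithBot.recBotCoe with
    | bot => exact absurd hnn (by simp)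
    | coe d =>
      induction d using ENat.recTopCoe with
      | top => exact absurd hfin (by simp)
      | coe m => exact ⟨m, rfl⟩
  rw [hn] at heq
  have h5 : (1 : WithBot ℕ∞) + (n : WithBot ℕ∞) ≤ (n : WithBot ℕ∞) := by
    calc (1 : WithBot ℕ∞) + (n : WithBot ℕ∞) ≤
        (⨅ y : (𝓘.support : Set ↥X), ringKrullDim ↑(X.presheaf.stalk y.1)) + (n : WithBot ℕ∞) := by
          gcongr
      _ = n := heq.symm
  have h6 : ((1 + n : ℕ) : WithBot ℕ∞) ≤ ((n : ℕ) : WithBot ℕ∞) := by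
    push_cast
    exact h5
  have h7 : 1 + n ≤ n := by exact_mod_cast h6
  omega

end Groth.Agent.H9.PRI
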