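import Mathlib

/-! Helper9: corepresentability of Q ↦ Hom(R, Q[[z]]) (S15126) -/

universe u

namespace Groth.Agent.H9.PSCorep

open MvPowerSeries

noncomputable section
variable (k : Type u) [Field k] (n : ℕ) (R : Type u) [CommRing R]
  [Algebra (MvPowerSeries (Fin n) k) R]

/-- the three families of relations -/
def relAdd (r s : R) (α : Fin n →₀ ℕ) : MvPolynomial (R × (Fin n →₀ ℕ)) k :=
  MvPolynomial.X (r + s, α) - MvPolynomial.X (r, α) - MvPolynomial.X (s, α)

def relMul (r s : R) (α : Fin n →₀ ℕ) : MvPolynomial (R × (Fin n →₀ ℕ)) k :=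
  MvPolynomial.X (r * s, α) -
    ∑ p ∈ Finset.HasAntidiagonal.antidiagonal α, MvPolynomial.X (r, p.1) * MvPolynomial.X (s, p.2)

def relAlg (φ : MvPowerSeries (Fin n) k) (α : Fin n →₀ ℕ) : MvPolynomial (R × (Fin n →₀ ℕ)) k :=
  MvPolynomial.X (algebraMap (MvPowerSeries (Fin n) k) R φ, α) - MvPolynomial.C (coeff α φ)

def relIdeal : Ideal (MvPolynomial (R × (Fin n →₀ ℕ)) k) :=
  Ideal.span (Set.range (fun x : R × R × (Fin n →₀ ℕ) => relAdd k n R x.1 x.2.1 x.2.2) ∪
    Set.range (fun x : R × R × (Fin n →₀ ℕ) => relMul k n R x.1 x.2.1 x.2.2) ∪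
    Set.range (fun x : MvPowerSeries (Fin n) k × (Fin n →₀ ℕ) => relAlg k n R x.1 x.2))

abbrev P := MvPolynomial (R × (Fin n →₀ ℕ)) k ⧸ relIdeal k n R

/-- generator classes -/
def gen (r : R) (α : Fin n →₀ ℕ) : P k n R :=
  Ideal.Quotient.mk (relIdeal k n R) (MvPolynomial.X (r, α))

lemma gen_add (r s : R) (α : Fin n →₀ ℕ) : gen k n R (r + s) α = gen k n R r α + gen k n R s α := by
  have h : relAdd k n R r s α ∈ relIdeal k n R :=
    Ideal.subset_span (Or.inl (Or.inl ⟨(r, s, α), rfl⟩))
  have := (Ideal.Quotient.eq_zero_iff_mem).mpr h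
  unfold relAdd at this
  rw [map_sub, map_sub] at this
  unfold gen
  linear_combination this

lemma gen_mul (r s : R) (α : Fin n →₀ ℕ) :
    gen k n R (r * s) α = ∑ p ∈ Finset.HasAntidiagonal.antidiagonal α, gen k n R r p.1 * gen k n R s p.2 := by
  have h : relMul k n R r s α ∈ relIdeal k n R :=
    Ideal.subset_span (Or.inl (Or.inr ⟨(r, s, α), rfl⟩))
  have := (Ideal.Quotient.eq_zero_iff_mem).mpr h
  unfold relMul at this
  rw [map_sub, map_sum] at this
  simp only [map_mul] at this
  unfold gen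
  linear_combination this

lemma gen_alg (φ : MvPowerSeries (Fin n) k) (α : Fin n →₀ ℕ) :
    gen k n R (algebraMap (MvPowerSeries (Fin n) k) R φ) α = algebraMap k (P k n R) (coeff α φ) := by
  have h : relAlg k n R φ α ∈ relIdeal k n R :=
    Ideal.subset_span (Or.inr ⟨(φ, α), rfl⟩)
  have := (Ideal.Quotient.eq_zero_iff_mem).mpr h
  unfold relAlg at this
  rw [map_sub] at this
  unfold gen
  rw [sub_eq_zero] at this
  rw [this]
  rfl

/-- the universal map -/
def uFun (r : R) : MvPowerSeries (Fin n) (P k n R) := fun α => gen k n R r α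

lemma coeff_uFun (r : R) (α : Fin n →₀ ℕ) : coeff α (uFun k n R r) = gen k n R r α := rfl

lemma uFun_alg (φ : MvPowerSeries (Fin n) k) :
    uFun k n R (algebraMap _ R φ) = algebraMap (MvPowerSeries (Fin n) k) (MvPowerSeries (Fin n) (P k n R)) φ := by
  ext α
  rw [coeff_uFun, gen_alg, MvPowerSeries.algebraMap_apply'', coeff_map]

def uHom : R →ₐ[MvPowerSeries (Fin n) k] MvPowerSeries (Fin n) (P k n R) where
  toFun := uFun k n R
  map_one' := by
    have := uFun_alg k n R 1
    rwa [map_one, map_one] at this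
  map_mul' r s := by
    ext α
    rw [coeff_uFun, gen_mul, coeff_mul]
    rfl
  map_zero' := by
    have := uFun_alg k n R 0
    rwa [map_zero, map_zero] at this
  map_add' r s := by
    ext α
    rw [coeff_uFun, gen_add, map_add]
    rfl
  commutes' φ := uFun_alg k n R φ

lemma coeff_uHom (r : R) (α : Fin n →₀ ℕ) : coeff α (uHom k n R r) = gen k n R r α := rfl

variable {k n R}

/-- the induced map -/
noncomputable def g₀ (Q : Type u) [CommRing Q] [Algebra k Q]
    (f : R →ₐ[MvPowerSeries (Fin n) k] MvPowerSeries (Fin n) Q) :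
    MvPolynomial (R × (Fin n →₀ ℕ)) k →ₐ[k] Q :=
  MvPolynomial.aeval (fun x : R × (Fin n →₀ ℕ) => coeff x.2 (f x.1))

lemma g₀_vanish (Q : Type u) [CommRing Q] [Algebra k Q]
    (f : R →ₐ[MvPowerSeries (Fin n) k] MvPowerSeries (Fin n) Q) :
    ∀ a ∈ relIdeal k n R, g₀ Q f a = 0 := by
  intro a ha
  have hle : relIdeal k n R ≤ RingHom.ker (g₀ Q f).toRingHom := by
    unfold relIdeal
    rw [Ideal.span_le]
    rintro x ((⟨⟨r, s, α⟩, rfl⟩ | ⟨⟨r, s, α⟩, rfl⟩) | ⟨⟨φ, α⟩, rfl⟩)
    · simp only [SetLike.mem_coe, RingHom.mem_ker, AlgHom.toRingHom_eq_coe, RingHom.coe_coe]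
      simp [relAdd, g₀]
    · simp only [SetLike.mem_coe, RingHom.mem_ker, AlgHom.toRingHom_eq_coe, RingHom.coe_coe]
      simp [relMul, g₀, coeff_mul]
    · simp only [SetLike.mem_coe, RingHom.mem_ker, AlgHom.toRingHom_eq_coe, RingHom.coe_coe]
      simp only [relAlg, g₀, map_sub, MvPolynomial.aeval_X, MvPolynomial.aeval_C]
      rw [f.commutes, MvPowerSeries.algebraMap_apply'', coeff_map, sub_self]
  exact hle ha

noncomputable def gHom (Q : Type u) [CommRing Q] [Algebra k Q]
    (f : R →ₐ[MvPowerSeries (Fin n) k] MvPowerSeries (Fin n) Q) : P k n R →ₐ[k] Q :=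
  Ideal.Quotient.liftₐ (relIdeal k n R) (g₀ Q f) (g₀_vanish Q f)

lemma gHom_gen (Q : Type u) [CommRing Q] [Algebra k Q]
    (f : R →ₐ[MvPowerSeries (Fin n) k] MvPowerSeries (Fin n) Q) (r : R) (α : Fin n →₀ ℕ) :
    gHom Q f (gen k n R r α) = coeff α (f r) := by
  change g₀ Q f (MvPolynomial.X (r, α)) = _
  simp [g₀]

lemma algHom_ext_gen {Q : Type u} [CommRing Q] [Algebra k Q] (g g' : P k n R →ₐ[k] Q)
    (h : ∀ r α, g (gen k n R r α) = g' (gen k n R r α)) : g = g' := by
  apply Ideal.Quotient.algHom_ext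
  apply MvPolynomial.algHom_ext
  rintro ⟨r, α⟩
  exact h r α

theorem univ (Q : Type u) [CommRing Q] [Algebra k Q]
    (f : R →ₐ[MvPowerSeries (Fin n) k] MvPowerSeries (Fin n) Q) :
    ∃! g : P k n R →ₐ[k] Q,
      (MvPowerSeries.map (σ := Fin n) (g : P k n R →+* Q)).comp
        (uHom k n R : R →+* MvPowerSeries (Fin n) (P k n R)) =
        (f : R →+* MvPowerSeries (Fin n) Q) := by
  refine ⟨gHom Q f, ?_, ?_⟩
  · ext r α
    simp only [RingHom.coe_comp, RingHom.coe_coe, Function.comp_apply, coeff_map]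
    rw [coeff_uHom, gHom_gen]
  · intro g' hg'
    apply algHom_ext_gen
    intro r α
    rw [gHom_gen]
    have := congrArg (fun ψ : R →+* MvPowerSeries (Fin n) Q => coeff α (ψ r)) hg'
    simp only [RingHom.coe_comp, RingHom.coe_coe, Function.comp_apply, coeff_map] at this
    rw [coeff_uHom] at this
    exact this

theorem countable_gen (s : Set R) (hs : s.Countable)
    (hadj : Algebra.adjoin (MvPowerSeries (Fin n) k) s = ⊤) :
    ∃ t : Set (P k n R), t.Countable ∧ Algebra.adjoin k t = ⊤ := by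
  classical
  let t : Set (P k n R) := (fun p : R × (Fin n →₀ ℕ) => gen k n R p.1 p.2) '' (s ×ˢ Set.univ)
  refine ⟨t, ?_, ?_⟩
  · exact (hs.prod Set.countable_univ).image _
  · set T := Algebra.adjoin k t with hT
    -- subalgebra of R of elements whose coefficients are in T
    let R' : Subalgebra (MvPowerSeries (Fin n) k) R :=
      { carrier := {r | ∀ α, gen k n R r α ∈ T}
        mul_mem' := by
          intro a b ha hb α
          rw [gen_mul]
          exact Subalgebra.sum_mem _ (fun p _ => Subalgebra.mul_mem _ (ha _) (hb _))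
        add_mem' := by
          intro a b ha hb α
          rw [gen_add]
          exact Subalgebra.add_mem _ (ha _) (hb _)
        algebraMap_mem' := by
          intro φ α
          rw [gen_alg]
          exact Subalgebra.algebraMap_mem _ _ }
    have hsR' : s ⊆ R' := by
      intro r hr α
      exact Algebra.subset_adjoin ⟨(r, α), ⟨hr, Set.mem_univ _⟩, rfl⟩
    have hR' : R' = ⊤ := by
      rw [eq_top_iff, ← hadj]
      exact Algebra.adjoin_le hsR'
    have hall : ∀ r α, gen k n R r α ∈ T := by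
      intro r α
      have : r ∈ R' := by rw [hR']; exact Algebra.mem_top
      exact this α
    rw [eq_top_iff]
    intro p hptop
    clear hptop
    obtain ⟨q, rfl⟩ := Ideal.Quotient.mk_surjective p
    induction q using MvPolynomial.induction_on with
    | C a => exact Subalgebra.algebraMap_mem T a
    | add p q hp hq =>
      rw [map_add]
      exact Subalgebra.add_mem _ hp hq
    | mul_X p x hp =>
      rw [map_mul]
      exact Subalgebra.mul_mem _ hp (hall x.1 x.2)

end

theorem main
    (k : Type u) [Field k] (n : ℕ) (hn : 0 < n)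
    (R : Type u) [CommRing R] [Algebra (MvPowerSeries (Fin n) k) R] :
    ∃ (P : Type u) (_ : CommRing P) (_ : Algebra k P)
      (u : R →ₐ[MvPowerSeries (Fin n) k] MvPowerSeries (Fin n) P),
      (∀ (Q : Type u) [CommRing Q] [Algebra k Q]
          (f : R →ₐ[MvPowerSeries (Fin n) k] MvPowerSeries (Fin n) Q),
          ∃! g : P →ₐ[k] Q,
            (MvPowerSeries.map (σ := Fin n) (g : P →+* Q)).comp (u : R →+* MvPowerSeries (Fin n) P) =
              (f : R →+* MvPowerSeries (Fin n) Q)) ∧
      ((∃ s : Set R, s.Countable ∧ Algebra.adjoin (MvPowerSeries (Fin n) k) s = ⊤) →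
        ∃ t : Set P, t.Countable ∧ Algebra.adjoin k t = ⊤) := by
  refine ⟨P k n R, inferInstance, inferInstance, uHom k n R, ?_, ?_⟩
  · intro Q _ _ f
    exact univ Q f
  · rintro ⟨s, hs, hadj⟩
    exact countable_gen s hs hadj

end Groth.Agent.H9.PSCorep
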